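import Mathlib
import Groth.Prelude
import Groth.Agent.Lib.HypEllB4_helper9
import Groth.Agent.Lib.OmField_helper9
import Groth.Agent.Lib.UnramDesc2_helper4

/-!
# Curves of genus two are hyperelliptic (helper9).  APPEND-ONLY once landed.
-/

set_option autoImplicit false
universe u
open CategoryTheory CategoryTheory.Limits AlgebraicGeometry Opposite TopologicalSpace

namespace HypEll9

open P1Iso CurvePtInv

section Etale

variable (k : Type u) [Field k] (X : Scheme.{u}) [X.Over (Spec (CommRingCat.of k))]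
  [IsIntegral X] [IsProper (X ↘ Spec (CommRingCat.of k))]

include k in
/-- a flat finite-type morphism to `P¹` which is dominant with separable finite function field
extension is étale on a nonempty open -/
theorem exists_etale_open (f : X ⟶ CohB1.ProjSpace 1 k) [Flat f] [LocallyOfFiniteType f]
    (hξ : f (genericPoint X) = genericPoint (CohB1.ProjSpace 1 k))
    (hd : 0 < f.residueDegree (genericPoint X))
    (hsep : letI := (f.residueFieldMap (genericPoint X)).hom.toAlgebra
      Algebra.IsSeparable ((CohB1.ProjSpace 1 k).residueField (f (genericPoint X)))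
        (X.residueField (genericPoint X))) :
    ∃ V : X.Opens, (V : Set X).Nonempty ∧ Etale (V.ι ≫ f) := by
  letI := overP1 k
  haveI := isIntegral_P1 k
  haveI : IsProper ((CohB1.ProjSpace 1 k) ↘ Spec (CommRingCat.of k)) := isProper_P1 k
  haveI : IsLocallyNoetherian (CohB1.ProjSpace 1 k) :=
    LocallyOfFiniteType.isLocallyNoetherian ((CohB1.ProjSpace 1 k) ↘ Spec (CommRingCat.of k))
  have hF1 : IsField (X.presheaf.stalk (genericPoint X)) := Field.toIsField X.functionField
  have hF2 : IsField ((CohB1.ProjSpace 1 k).presheaf.stalk (f (genericPoint X))) := by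
    rw [hξ]
    exact Field.toIsField (CohB1.ProjSpace 1 k).functionField
  have hm1 : IsLocalRing.maximalIdeal (X.presheaf.stalk (genericPoint X)) = ⊥ :=
    IsLocalRing.isField_iff_maximalIdeal_eq.mp hF1
  have hm2 : IsLocalRing.maximalIdeal
      ((CohB1.ProjSpace 1 k).presheaf.stalk (f (genericPoint X))) = ⊥ :=
    IsLocalRing.isField_iff_maximalIdeal_eq.mp hF2
  obtain ⟨U, hxU, hU⟩ := (Groth.Agent.Lib.UnramLocH4.main9566 f (genericPoint X)).mpr
    ⟨Flat.stalkMap f _, by rw [hm1, hm2, Ideal.map_bot], by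
      letI := (f.residueFieldMap (genericPoint X)).hom.toAlgebra
      exact Module.finite_of_finrank_pos hd, hsep⟩
  exact ⟨U, ⟨_, hxU⟩, hU⟩

end Etale

section Main

/-- **S7812** -/
theorem main7812 (k : Type u) [Field k] {C : Scheme.{u}}
    (p : C ⟶ Spec (CommRingCat.of k)) [IsProper p] [Smooth p] [GeometricallyConnected p]
    (hC : topologicalKrullDim C = 1)
    (hg : @Curv2.genus k _ C ⟨p⟩ = 2) :
    ∃ f : C ⟶ CohB1.ProjSpace 1 k, f ≫ CohB1.ProjSpace.toSpec 1 k = p ∧ IsFinite f ∧ Flat f ∧
      (∀ y : ↥(CohB1.ProjSpace 1 k), Scheme.Hom.finrank f y = 2) ∧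
      ∃ V : C.Opens, (V : Set C).Nonempty ∧ Etale (V.ι ≫ f) := by
  letI ov : C.Over (Spec (CommRingCat.of k)) := ⟨p⟩
  haveI : IsProper (C ↘ Spec (CommRingCat.of k)) := ‹IsProper p›
  haveI : Smooth (C ↘ Spec (CommRingCat.of k)) := ‹Smooth p›
  haveI : GeometricallyConnected (C ↘ Spec (CommRingCat.of k)) := ‹GeometricallyConnected p›
  haveI : IsIntegral C := VBCurve.isIntegral_of_smooth_geomConn k C
  have h0 := OmField.finrank_HH0_structureModule k C
  have hΩinv := OmField.isInvertible_Omega k C hC
  have hΩdeg := OmField.deg_Omega k C hC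
  have hΩh0 := OmField.finrank_HH0_Omega k C hC
  have hg' : Curv2.genus k C = 2 := hg
  rw [hg'] at hΩdeg hΩh0
  obtain ⟨f, hf, hfin, hd, hsep, hξ, -⟩ := exists_hyperelliptic_map k C hC h0 (by omega)
    _ hΩinv (by rw [hΩdeg]; norm_num) hΩh0.ge
  haveI := hfin
  haveI hflat := flat_of_generic k C f hξ
  refine ⟨f, hf, hfin, hflat, fun y => ?_, ?_⟩
  · rw [finrank_eq_residueDegree k C hC f hf hξ y, hd]
  · exact exists_etale_open k C f hξ (by omega) hsep

end Main

end HypEll9
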