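import Mathlib

/-!
# Valuations of the nonzero elements of a finite-dimensional subspace of a DVR (helper9)

If `R` is a discrete valuation ring containing a field `k` which maps onto the residue field, then
the nonzero elements of a `k`-subspace `V ⊆ R` of dimension `n` take exactly `n` distinct
valuations.  APPEND-ONLY once landed.
-/

set_option autoImplicit false

namespace LinSerOrd

open IsDiscreteValuationRing IsLocalRing

variable {k : Type*} [Field k] {R : Type*} [CommRing R] [IsDomain R] [IsDiscreteValuationRing R]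
  [Algebra k R]

/-- the set of valuations of the nonzero elements of a subspace -/
def vals (V : Submodule k R) : Set ℕ∞ := addVal R '' {f : R | f ∈ V ∧ f ≠ 0}

/-- the elements of `V` of valuation `> m` -/
def above (V : Submodule k R) (m : ℕ∞) : Submodule k R where
  carrier := {f | f ∈ V ∧ m + 1 ≤ addVal R f}
  add_mem' := by
    rintro a b ⟨ha, ha'⟩ ⟨hb, hb'⟩
    exact ⟨V.add_mem ha hb, le_trans (le_min ha' hb') ((addVal R).map_add a b)⟩
  zero_mem' := ⟨V.zero_mem, by rw [addVal_zero]; exact le_top⟩
  smul_mem' := by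
    rintro c a ⟨ha, ha'⟩
    refine ⟨V.smul_mem c ha, ?_⟩
    rw [Algebra.smul_def, (addVal R).map_mul]
    exact le_trans ha' le_add_self

theorem mem_above {V : Submodule k R} {m : ℕ∞} {f : R} :
    f ∈ above V m ↔ f ∈ V ∧ m + 1 ≤ addVal R f := Iff.rfl

theorem above_le (V : Submodule k R) (m : ℕ∞) : above V m ≤ V := fun _ h => h.1

theorem one_le_addVal_of_mem {x : R} (hx : x ∈ IsLocalRing.maximalIdeal R) : 1 ≤ addVal R x := by
  obtain ⟨ϖ, hϖ⟩ := exists_irreducible R
  rw [hϖ.maximalIdeal_eq, Ideal.mem_span_singleton] at hx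
  rw [← addVal_uniformizer hϖ]
  exact addVal_le_iff_dvd.mpr hx

theorem addVal_algebraMap {c : k} (hc : c ≠ 0) : addVal R (algebraMap k R c) = 0 :=
  addVal_eq_zero_iff.mpr ((isUnit_iff_ne_zero.mpr hc).map (algebraMap k R))

theorem encard_vals (hφ : ∀ a : R, ∃ c : k, a - algebraMap k R c ∈ IsLocalRing.maximalIdeal R) (n : ℕ) :
    ∀ (V : Submodule k R) [FiniteDimensional k V], Module.finrank k V = n →
      (vals V).encard = n := by
  induction n with
  | zero =>
    intro V _ hV
    have hb : V = ⊥ := Submodule.finrank_eq_zero.mp hV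
    subst hb
    have : vals (⊥ : Submodule k R) = ∅ := by
      unfold vals
      rw [Set.image_eq_empty]
      ext f
      simp only [Submodule.mem_bot, Set.mem_ofPred_eq, Set.mem_empty_iff_false, iff_false]
      rintro ⟨h1, h2⟩
      exact h2 h1
    rw [this]
    simp
  | succ n ih =>
    intro V _ hV
    have hne : V ≠ ⊥ := by
      rintro rfl
      rw [finrank_bot] at hV
      omega
    obtain ⟨g, hgV, hg0⟩ := Submodule.exists_mem_ne_zero_of_ne_bot hne
    have hS : (vals V).Nonempty := ⟨_, g, ⟨hgV, hg0⟩, rfl⟩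
    obtain ⟨m, hmS, hmin⟩ := WellFounded.has_min wellFounded_lt (vals V) hS
    obtain ⟨f₀, ⟨hf₀V, hf₀0⟩, rfl⟩ := hmS
    have hmin' : ∀ f ∈ V, f ≠ 0 → addVal R f₀ ≤ addVal R f := fun f hf hf0 =>
      not_lt.mp (hmin _ ⟨f, ⟨hf, hf0⟩, rfl⟩)
    have hfin : addVal R f₀ ≠ ⊤ := fun h => hf₀0 (addVal_eq_top_iff.mp h)
    -- decomposition of `V`
    have hsup : (Submodule.span k {f₀}) ⊔ above V (addVal R f₀) = V := by
      apply le_antisymm
      · refine sup_le ?_ (above_le V _)
        rw [Submodule.span_le]
        rintro _ rfl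
        exact hf₀V
      · intro f hf
        by_cases hf0 : f = 0
        · rw [hf0]; exact Submodule.zero_mem _
        obtain ⟨a, ha⟩ := addVal_le_iff_dvd.mp (hmin' f hf hf0)
        obtain ⟨c, hc⟩ := hφ a
        have hdec : f = c • f₀ + (f - c • f₀) := by ring
        rw [hdec]
        refine Submodule.add_mem _ (Submodule.mem_sup_left
          (Submodule.smul_mem _ _ (Submodule.subset_span rfl))) (Submodule.mem_sup_right ?_)
        refine ⟨V.sub_mem hf (V.smul_mem c hf₀V), ?_⟩
        have h1 : f - c • f₀ = f₀ * (a - algebraMap k R c) := by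
          rw [ha, Algebra.smul_def]; ring
        rw [h1, (addVal R).map_mul]
        exact add_le_add le_rfl (one_le_addVal_of_mem hc)
    have hinf : (Submodule.span k {f₀}) ⊓ above V (addVal R f₀) = ⊥ := by
      rw [eq_bot_iff]
      rintro x ⟨hx1, hx2⟩
      obtain ⟨c, rfl⟩ := Submodule.mem_span_singleton.mp hx1
      by_cases hc : c = 0
      · rw [hc, zero_smul]; exact Submodule.zero_mem _
      exfalso
      have h2 := hx2.2
      rw [Algebra.smul_def, (addVal R).map_mul, addVal_algebraMap hc, zero_add,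
        ENat.add_one_le_iff hfin] at h2
      exact lt_irrefl _ h2
    haveI : FiniteDimensional k (above V (addVal R f₀)) :=
      Submodule.finiteDimensional_of_le (above_le V _)
    have hrank : Module.finrank k (above V (addVal R f₀)) = n := by
      have h := Submodule.finrank_sup_add_finrank_inf_eq (Submodule.span k {f₀})
        (above V (addVal R f₀))
      rw [hinf, finrank_bot, finrank_span_singleton hf₀0] at h
      have h' : Module.finrank k ↥(Submodule.span k {f₀} ⊔ above V (addVal R f₀)) =
          Module.finrank k V := by rw [hsup]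
      omega
    have hvals : vals V = insert (addVal R f₀) (vals (above V (addVal R f₀))) := by
      ext v
      constructor
      · rintro ⟨f, ⟨hf, hf0⟩, rfl⟩
        by_cases he : addVal R f = addVal R f₀
        · rw [he]; exact Set.mem_insert _ _
        · refine Set.mem_insert_of_mem _ ⟨f, ⟨⟨hf, ?_⟩, hf0⟩, rfl⟩
          rw [ENat.add_one_le_iff hfin]
          exact lt_of_le_of_ne (hmin' f hf hf0) (Ne.symm he)
      · intro hv
        rcases Set.mem_insert_iff.mp hv with rfl | ⟨f, ⟨hf, hf0⟩, rfl⟩
        · exact ⟨f₀, ⟨hf₀V, hf₀0⟩, rfl⟩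
        · exact ⟨f, ⟨hf.1, hf0⟩, rfl⟩
    have hnot : addVal R f₀ ∉ vals (above V (addVal R f₀)) := by
      rintro ⟨f, ⟨hf, -⟩, he⟩
      have h2 := hf.2
      rw [he, ENat.add_one_le_iff hfin] at h2
      exact lt_irrefl _ h2
    rw [hvals, Set.encard_insert_of_notMem hnot, ih _ hrank]
    push_cast
    rfl

/-- the nonzero `k`-linear combinations of `r` linearly independent elements of `R` take exactly
`r` valuations -/
theorem ncard_image_addVal (hφ : ∀ a : R, ∃ c : k, a - algebraMap k R c ∈ IsLocalRing.maximalIdeal R)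
    {r : ℕ} (f : Fin r → R) (hli : ∀ c : Fin r → k, ∑ i, c i • f i = 0 → c = 0) :
    Set.ncard ((fun c : Fin r → k => addVal R (∑ i, c i • f i)) '' {c | c ≠ 0}) = r := by
  let Ψ : (Fin r → k) →ₗ[k] R := Fintype.linearCombination k f
  have hΨ : ∀ c, Ψ c = ∑ i, c i • f i := fun c => Fintype.linearCombination_apply k f c
  have hinj : Function.Injective Ψ := by
    rw [← LinearMap.ker_eq_bot, LinearMap.ker_eq_bot']
    intro c hc
    exact hli c ((hΨ c).symm.trans hc)
  have hrank : Module.finrank k (LinearMap.range Ψ) = r := by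
    rw [LinearMap.finrank_range_of_inj hinj, Module.finrank_fin_fun]
  have himg : (fun c : Fin r → k => addVal R (∑ i, c i • f i)) '' {c | c ≠ 0} =
      vals (LinearMap.range Ψ) := by
    ext v
    constructor
    · rintro ⟨c, hc, rfl⟩
      refine ⟨Ψ c, ⟨LinearMap.mem_range_self Ψ c, ?_⟩, by rw [hΨ]⟩
      intro h0
      exact hc (hinj (h0.trans (map_zero Ψ).symm))
    · rintro ⟨g, ⟨⟨c, rfl⟩, hg0⟩, rfl⟩
      refine ⟨c, ?_, by rw [hΨ]⟩
      rintro rfl
      exact hg0 (map_zero Ψ)
  rw [himg, Set.ncard_def, encard_vals hφ r _ hrank, ENat.toNat_natCast]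

end LinSerOrd
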