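import Mathlib
import Groth.Agent.Lib.Crimp_helper9

/-!
# Length of the cokernel of a square matrix over a DVR (helper9)
-/

namespace Groth.Agent.Lib.SemilinCoker

open Module Groth.Agent.Lib.Crimp

section

variable {B : Type*} [CommRing B] [IsDomain B] [IsDiscreteValuationRing B]

lemma length_self_eq_top : Module.length B B = ⊤ := by
  by_contra h
  have h1 : IsFiniteLength B B := Module.length_ne_top_iff.mp h
  haveI : IsArtinianRing B := (isFiniteLength_iff_isNoetherian_isArtinian.mp h1).2
  exact IsDiscreteValuationRing.not_isField B (IsArtinianRing.isField_of_isDomain B)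

lemma ordL_eq_addVal {x : B} (hx : x ≠ 0) : ordL x = IsDiscreteValuationRing.addVal B x := by
  obtain ⟨ϖ, hϖ⟩ := IsDiscreteValuationRing.exists_irreducible B
  obtain ⟨n, u, rfl⟩ := IsDiscreteValuationRing.eq_unit_mul_pow_irreducible hx hϖ
  rw [IsDiscreteValuationRing.addVal_def' u hϖ n,
    ordL_congr (show Associated ((u : B) * ϖ ^ n) (ϖ ^ n) from
      ⟨u⁻¹, by rw [mul_comm, ← mul_assoc, Units.inv_mul, one_mul]⟩), ordL_pow hϖ]

variable {ι : Type*} [Fintype ι] [DecidableEq ι]
variable {N : Type*} [AddCommGroup N] [Module B N]

/-- The length of the quotient by the span of `n` vectors in a free module of rank `n`. -/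
theorem length_quotient_span (bN : Basis ι B N) (v : ι → N) :
    Module.length B (N ⧸ Submodule.span B (Set.range v)) =
      IsDiscreteValuationRing.addVal B (bN.det v) := by
  by_cases hdet : bN.det v = 0
  · rw [hdet, IsDiscreteValuationRing.addVal_zero]
    rw [Basis.det_apply] at hdet
    obtain ⟨w, hw, hwA⟩ := Matrix.exists_vecMul_eq_zero_iff.mpr hdet
    let lam : N →ₗ[B] B := ∑ a, w a • bN.coord a
    have hlam : ∀ y, lam y = ∑ a, w a * bN.repr y a := by
      intro y
      simp [lam, LinearMap.sum_apply, Basis.coord_apply]
    have hle : Submodule.span B (Set.range v) ≤ LinearMap.ker lam := by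
      rw [Submodule.span_le]
      rintro _ ⟨c, rfl⟩
      rw [SetLike.mem_coe, LinearMap.mem_ker, hlam]
      have := congrFun hwA c
      simpa [Matrix.vecMul, dotProduct, Basis.toMatrix_apply] using this
    let lamQ : (N ⧸ Submodule.span B (Set.range v)) →ₗ[B] B :=
      (Submodule.span B (Set.range v)).liftQ lam hle
    have hne : ∃ a, w a ≠ 0 := by
      by_contra hcon
      push Not at hcon
      exact hw (funext hcon)
    obtain ⟨a₀, ha₀⟩ := hne
    have hx : lamQ (Submodule.Quotient.mk (bN a₀)) = w a₀ := by
      change lam (bN a₀) = w a₀
      rw [hlam]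
      simp [Finsupp.single_apply]
    -- the range of `lamQ` contains a copy of `B`
    let j : B →ₗ[B] LinearMap.range lamQ :=
      (LinearMap.toSpanSingleton B _ (⟨w a₀, ⟨_, hx⟩⟩ : LinearMap.range lamQ))
    have hj : Function.Injective j := by
      rw [← LinearMap.ker_eq_bot, LinearMap.ker_eq_bot']
      intro b hb
      have : b * w a₀ = 0 := by
        have := congrArg Subtype.val hb
        simpa [j, LinearMap.toSpanSingleton_apply] using this
      rcases mul_eq_zero.mp this with h | h
      · exact h
      · exact absurd h ha₀
    have h1 : Module.length B B ≤ Module.length B (LinearMap.range lamQ) :=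
      Module.length_le_of_injective j hj
    have h2 : Module.length B (LinearMap.range lamQ) ≤
        Module.length B (N ⧸ Submodule.span B (Set.range v)) :=
      Module.length_le_of_surjective lamQ.rangeRestrict lamQ.surjective_rangeRestrict
    rw [length_self_eq_top] at h1
    exact top_le_iff.mp (h1.trans h2)
  · have hLI : LinearIndependent B v := by
      rw [Fintype.linearIndependent_iff]
      intro g hg c
      have hA : (bN.toMatrix v).det ≠ 0 := by rwa [← Basis.det_apply]
      have : (bN.toMatrix v).mulVec g = 0 := by
        funext a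
        have := congrArg (fun y => bN.repr y a) hg
        simp only [map_sum, map_smul, Finsupp.coe_finsetSum, Finsupp.coe_smul, Finset.sum_apply,
          Pi.smul_apply, smul_eq_mul, map_zero, Finsupp.coe_zero, Pi.zero_apply] at this
        simp only [Matrix.mulVec, dotProduct, Basis.toMatrix_apply, Pi.zero_apply]
        rw [← this]
        exact Finset.sum_congr rfl fun c _ => mul_comm _ _
      have hg0 := Matrix.eq_zero_of_mulVec_eq_zero hA this
      exact congrFun hg0 c
    let bP : Basis ι B (Submodule.span B (Set.range v)) := Basis.span hLI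
    have hbP : ∀ c, ((bP c : Submodule.span B (Set.range v)) : N) = v c := fun c =>
      congrArg Subtype.val (Basis.span_apply hLI c)
    rw [length_quotient_eq_ordL_det bN _ bP]
    have : (fun j => ((bP j : Submodule.span B (Set.range v)) : N)) = v := funext hbP
    rw [this, ordL_eq_addVal hdet]

end

end Groth.Agent.Lib.SemilinCoker
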