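import Mathlib
import Groth.Prelude
import Groth.Agent.Lib.LinSerOrd1_helper9
import Groth.Agent.Lib.SecOrd1_helper8
import Groth.Agent.Lib.SemilinCoker_helper9
import Groth.Agent.Lib.QuotSec3_helper9
import Groth.Agent.Lib.FibCodim2_helper4
import Groth.Agent.Lib.VAmpC4_helper9

/-!
# Vanishing orders of a linear series at a point of a smooth curve (helper9)
APPEND-ONLY once landed.
-/

set_option autoImplicit false
set_option linter.style.haveILetI false
universe u
open CategoryTheory CategoryTheory.Limits AlgebraicGeometry Opposite TopologicalSpace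

namespace LinSerOrd

open SecOrdH8 IsDiscreteValuationRing

section Inj

variable {X : Scheme.{u}}

/-- on an integral scheme, a global section of an invertible module with a vanishing germ is
zero -/
theorem eq_zero_of_germ_eq_zero [IsIntegral X] {L : X.Modules} (hL : PicF.IsInvertible L)
    (σ : L.val.obj (op ⊤)) (p : X) (h : L.presheaf.germ ⊤ p trivial σ = 0) : σ = 0 := by
  have hη : L.presheaf.germ ⊤ (genericPoint X) trivial σ = 0 := by
    have hsp : genericPoint X ⤳ p := genericPoint_specializes p
    rw [← stalkSpecializes_germ L hsp ⊤ trivial σ, h, map_zero]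
  let F' : TopCat.Sheaf Ab X := ⟨L.presheaf, L.isSheaf⟩
  apply TopCat.Presheaf.section_ext F' ⊤ σ 0
  intro x hx
  rw [map_zero]
  show L.presheaf.germ ⊤ x hx σ = 0
  obtain ⟨t, ht⟩ := exists_isFreeGen hL x
  obtain ⟨a, ha⟩ := ht.1 (L.presheaf.germ ⊤ x hx σ)
  have hsp : genericPoint X ⤳ x := genericPoint_specializes x
  have h1 := congrArg (L.presheaf.stalkSpecializes hsp) ha
  rw [stalkSpecializes_germ, hη, stalkSpecializes_smul] at h1
  have h2 := (ht.stalkSpecializes hL hsp).2 _ h1.symm
  have hinj : Function.Injective (X.presheaf.stalkSpecializes hsp).hom :=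
    IsFractionRing.injective (X.presheaf.stalk x) X.functionField
  have h3 : a = 0 := hinj (h2.trans (map_zero _).symm)
  rw [ha, h3, zero_smul]

/-- the length of the quotient of a stalk of an invertible module by a multiple of a free
generator -/
theorem length_quot_smul {L : X.Modules} {x : X} [IsDomain (X.presheaf.stalk x)]
    [IsDiscreteValuationRing (X.presheaf.stalk x)] {t : L.presheaf.stalk x}
    (ht : IsFreeGen L x t) {g : X.presheaf.stalk x} (hg : g ≠ 0) :
    Module.length (X.presheaf.stalk x)
      (↥(L.presheaf.stalk x) ⧸ Submodule.span (X.presheaf.stalk x) {g • t}) =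
      addVal (X.presheaf.stalk x) g := by
  let e0 : X.presheaf.stalk x →ₗ[X.presheaf.stalk x] ↥(L.presheaf.stalk x) :=
    LinearMap.toSpanSingleton _ _ t
  have he0 : ∀ a, e0 a = a • t := fun a => rfl
  have hbij : Function.Bijective e0 := by
    constructor
    · rw [← LinearMap.ker_eq_bot, LinearMap.ker_eq_bot']
      intro a ha
      exact ht.2 a ha
    · intro z
      obtain ⟨a, ha⟩ := ht.1 z
      exact ⟨a, ha.symm⟩
  let e := LinearEquiv.ofBijective e0 hbij
  have hmap : (Submodule.span (X.presheaf.stalk x) {g}).map (e : _ →ₗ[X.presheaf.stalk x] _) =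
      Submodule.span (X.presheaf.stalk x) {g • t} := by
    rw [Submodule.map_span, Set.image_singleton]
    rfl
  have e2 := Submodule.Quotient.equiv (Submodule.span (X.presheaf.stalk x) {g})
    (Submodule.span (X.presheaf.stalk x) {g • t}) e hmap
  rw [← e2.length_eq]
  exact Groth.Agent.Lib.SemilinCoker.ordL_eq_addVal hg

end Inj

section Main

theorem main14471 (k : Type u) [Field k] [IsAlgClosed k]
    (C : Scheme.{u}) [C.Over (Spec (CommRingCat.of k))]
    (hC : Curve.IsSmoothProperCurve k C (C ↘ (Spec (CommRingCat.of k))))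
    (L : C.Modules) (d r : ℕ) (s : Fin (r + 1) → LinSer.Sect C L)
    (hL : LinSer.IsLinSer k C L d r s)
    (p : C) (hp : IsClosed ({p} : Set C)) :
    Set.ncard ((fun c : Fin (r + 1) → k =>
        Module.length (C.presheaf.stalk p)
          (↥(L.presheaf.stalk p) ⧸ Submodule.span (C.presheaf.stalk p)
            {(L.presheaf.germ ⊤ p trivial) (∑ i, (Coh.toGlobal (C ↘ Spec (CommRingCat.of k)) (c i)) • s i)})) ''
        {c : Fin (r + 1) → k | c ≠ 0}) = r + 1 := by
  obtain ⟨hprop, hsm, hint, hdim⟩ := hC
  haveI := hprop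
  haveI := hsm
  haveI := hint
  obtain ⟨hinv, -, hli⟩ := hL
  haveI hreg : IsRegularLocalRing (C.presheaf.stalk p) :=
    Groth.Agent.Lib.FibCodim2H4.stalk_regular_of_smooth_field (CommRingCat.of k)
      (Field.toIsField k) (C ↘ (Spec (CommRingCat.of k))) p
  haveI : IsDiscreteValuationRing (C.presheaf.stalk p) :=
    QuotSec.isDiscreteValuationRing_of_regular _
      (CurvePtInv.ringKrullDim_stalk_of_closed hdim hp)
  letI : Algebra k (C.presheaf.stalk p) := Curv2.stalkAlgebra k C p
  have halg : ∀ c : k, algebraMap k (C.presheaf.stalk p) c =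
      (C.presheaf.germ ⊤ p trivial).hom (Coh.toGlobal (C ↘ Spec (CommRingCat.of k)) c) :=
    fun c => rfl
  have hφ : ∀ a : C.presheaf.stalk p, ∃ c : k,
      a - algebraMap k (C.presheaf.stalk p) c ∈ IsLocalRing.maximalIdeal (C.presheaf.stalk p) := by
    intro a
    obtain ⟨c, hc⟩ := VAmpC.resMap_surjective_of_isClosed k C hp ((C.residue p).hom a)
    refine ⟨c, ?_⟩
    rw [← IsLocalRing.residue_eq_zero_iff, map_sub, sub_eq_zero]
    exact hc.symm
  obtain ⟨t, ht⟩ := exists_isFreeGen hinv p
  choose f hf using fun i => ht.1 (L.presheaf.germ ⊤ p trivial (s i))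
  have hgerm : ∀ c : Fin (r + 1) → k,
      L.presheaf.germ ⊤ p trivial
        (∑ i, (Coh.toGlobal (C ↘ Spec (CommRingCat.of k)) (c i)) • s i) =
        (∑ i, c i • f i) • t := by
    intro c
    rw [map_sum, Finset.sum_smul]
    refine Finset.sum_congr rfl (fun i _ => ?_)
    refine (Groth.Agent.Lib.QCohLoc_helper4.germ_smul L ⊤ p trivial _ (s i)).trans ?_
    rw [Algebra.smul_def, halg, mul_smul]
    exact congrArg (fun z => _ • z) (hf i)
  have hli' : ∀ c : Fin (r + 1) → k, ∑ i, c i • f i = 0 → c = 0 := by
    intro c hc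
    apply hli c
    apply eq_zero_of_germ_eq_zero hinv _ p
    exact (hgerm c).trans (by rw [hc, zero_smul])
  have hlen : ∀ c ∈ {c : Fin (r + 1) → k | c ≠ 0},
      Module.length (C.presheaf.stalk p)
        (↥(L.presheaf.stalk p) ⧸ Submodule.span (C.presheaf.stalk p)
          {(L.presheaf.germ ⊤ p trivial)
            (∑ i, (Coh.toGlobal (C ↘ Spec (CommRingCat.of k)) (c i)) • s i)}) =
      addVal (C.presheaf.stalk p) (∑ i, c i • f i) := by
    intro c hc
    have h1 := length_quot_smul ht (g := ∑ i, c i • f i) (fun h0 => hc (hli' c h0))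
    refine Eq.trans ?_ h1
    exact congrArg (fun z => Module.length (C.presheaf.stalk p)
      (↥(L.presheaf.stalk p) ⧸ Submodule.span (C.presheaf.stalk p) {z})) (hgerm c)
  rw [Set.image_congr hlen]
  exact ncard_image_addVal hφ f hli'

end Main

end LinSerOrd
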