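import Mathlib
import Groth.Prelude
import Groth.Agent.Lib.CurveSepPt4_helper9
import Groth.Agent.Lib.CurveSepPt1_helper9
import Groth.Agent.Lib.P1Iso9_helper9
import Groth.Agent.Lib.HypEllB5_helper9
import Groth.Agent.Lib.EtNbhdFin6_helper4
import Groth.Agent.Lib.LinSerOrd2_helper9

/-!
# A pencil whose ratio is not in `k K^p` gives a generically étale map to `P¹` (helper9)
APPEND-ONLY once landed.
-/

set_option autoImplicit false
universe u
open CategoryTheory CategoryTheory.Limits AlgebraicGeometry Opposite TopologicalSpace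
open QcqsLoc GenLocH8 TensH8 PBH8 QCohExtn

namespace CSepPt

section SepHom

variable (k K : Type u) [Field k] [Field K] [Algebra k K] (p : ℕ) [Fact p.Prime] [ExpChar K p]

/-- ring homomorphism version of `isSeparable_of_not_mem_kKq` -/
theorem isSeparable_of_ringHom (hE : Module.finrank (FrobTw9.kKq k K p 1) K = p)
    {F : Type u} [Field F] (τ : F →+* K) (hfin : τ.Finite)
    (hk : ∀ a : k, algebraMap k K a ∈ τ.range) (c : K) (hc : c ∈ τ.fieldRange)
    (hcE : c ∉ FrobTw9.kKq k K p 1) :
    letI := τ.toAlgebra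
    Algebra.IsSeparable F K := by
  letI algτ := τ.toAlgebra
  let M : IntermediateField k K :=
    { τ.fieldRange with
      algebraMap_mem' := fun a => by
        obtain ⟨b, hb⟩ := hk a
        exact ⟨b, hb⟩ }
  have hMmem : ∀ x : K, x ∈ M ↔ x ∈ τ.fieldRange := fun x => Iff.rfl
  let e : F ≃+* M := τ.rangeRestrictFieldEquiv
  have he : ∀ x : F, ((e x : M) : K) = τ x := fun x => rfl
  haveI : FiniteDimensional M K := by
    haveI : Module.Finite F K := hfin
    letI : Algebra F M := e.toRingHom.toAlgebra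
    haveI : IsScalarTower F M K := IsScalarTower.of_algebraMap_eq (fun x => rfl)
    exact Module.Finite.of_restrictScalars_finite F M K
  haveI := isSeparable_of_not_mem_kKq k K p hE M c ((hMmem c).mpr hc) hcE
  exact Algebra.IsSeparable.of_equiv_equiv e.symm (RingEquiv.refl K) (by
    ext x
    obtain ⟨y, rfl⟩ := e.surjective x
    show τ (e.symm (e y)) = ((e y : M) : K)
    rw [RingEquiv.symm_apply_apply, he])

end SepHom

section Compat

variable (k : Type u) [Field k] {X Y : Scheme.{u}} [X.Over (Spec (CommRingCat.of k))]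
  [Y.Over (Spec (CommRingCat.of k))]

/-- the maps on local rings of a `k`-morphism are `k`-linear -/
theorem stalkMap_compat (f : X ⟶ Y)
    (hf : f ≫ (Y ↘ Spec (CommRingCat.of k)) = X ↘ Spec (CommRingCat.of k)) (x : X) (c : k) :
    (f.stalkMap x).hom (Curv2.stalkMap k Y (f x) c) = Curv2.stalkMap k X x c := by
  unfold Curv2.stalkMap
  show (f.stalkMap x).hom ((Y.presheaf.germ ⊤ (f x) trivial).hom
    (Coh.toGlobal (Y ↘ Spec (CommRingCat.of k)) c)) = _
  have h1 := Scheme.Hom.germ_stalkMap_apply f ⊤ x trivial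
    (Coh.toGlobal (Y ↘ Spec (CommRingCat.of k)) c)
  rw [h1]
  have h2 := HypInv.appTop_toGlobal f (Y ↘ Spec (CommRingCat.of k)) c
  rw [hf] at h2
  show (X.presheaf.germ (f ⁻¹ᵁ ⊤) x trivial).hom
    (f.appTop.hom (Coh.toGlobal (Y ↘ Spec (CommRingCat.of k)) c)) = _
  rw [h2]
  rfl

/-- the maps on residue fields of a `k`-morphism are `k`-linear -/
theorem resMap_compat (f : X ⟶ Y)
    (hf : f ≫ (Y ↘ Spec (CommRingCat.of k)) = X ↘ Spec (CommRingCat.of k)) (x : X) (c : k) :
    (f.residueFieldMap x).hom (Curv2.resMap k Y (f x) c) = Curv2.resMap k X x c := by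
  unfold Curv2.resMap
  have h1 := congrArg (fun m => m.hom (Curv2.stalkMap k Y (f x) c))
    (Scheme.residue_residueFieldMap f x)
  simp only [CommRingCat.hom_comp, RingHom.comp_apply] at h1
  show (f.residueFieldMap x).hom ((Y.residue (f x)).hom (Curv2.stalkMap k Y (f x) c)) = _
  rw [h1, stalkMap_compat k f hf x c]
  rfl

end Compat

end CSepPt

namespace CSepPt

section Pencil

attribute [local instance] Curv2.stalkAlgebra

variable (k : Type u) [Field k] (p : ℕ) [Fact p.Prime] [CharP k p]
  (X : Scheme.{u}) [X.Over (Spec (CommRingCat.of k))]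
  [IsIntegral X] [IsProper (X ↘ Spec (CommRingCat.of k))] [Smooth (X ↘ Spec (CommRingCat.of k))]

set_option maxHeartbeats 1600000 in
/-- a pencil whose ratio is not in `k K^p` gives a dominant, generically étale map to `P¹` -/
theorem generic_and_etale [ExpChar X.functionField p]
    (hdim : topologicalKrullDim X = 1)
    (h0 : Module.finrank k (Coh.HH X (Coh.structureModule X) 0) = 1)
    (d : ℕ) (L : X.Modules) (s : Fin (1 + 1) → LinSer.Sect X L)
    (hL : LinSer.IsLinSer k X L d 1 s)
    (φ : X ⟶ CohB1.ProjSpace 1 k)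
    (α : (Scheme.Modules.pullback φ).obj (Twist.twistProjSpace 1 k 1) ⟶ L)
    (hφ : φ ≫ CohB1.ProjSpace.toSpec 1 k = X ↘ (Spec (CommRingCat.of k)))
    (hα : ∀ i : Fin (1 + 1), ap α ⊤ (ProjUP.pullSec φ (Twist.twistProjSpace 1 k 1)
      (ProjUP.coord 1 k i)) = s i)
    (c : X.functionField) (hcE : c ∉ FrobTw9.kKq k X.functionField p 1)
    (hc : L.presheaf.germ ⊤ (genericPoint X) trivial (s 1) =
      c • L.presheaf.germ ⊤ (genericPoint X) trivial (s 0)) :
    φ (genericPoint X) = genericPoint (CohB1.ProjSpace 1 k) ∧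
      ∃ V : X.Opens, (V : Set X).Nonempty ∧ Etale (V.ι ≫ φ) := by
  classical
  haveI : IsLocallyNoetherian X :=
    LocallyOfFiniteType.isLocallyNoetherian (X ↘ Spec (CommRingCat.of k))
  letI := P1Iso.overP1 k
  haveI := P1Iso.isIntegral_P1 k
  haveI : IsProper ((CohB1.ProjSpace 1 k) ↘ Spec (CommRingCat.of k)) := P1Iso.isProper_P1 k
  have hφ' : φ ≫ ((CohB1.ProjSpace 1 k) ↘ Spec (CommRingCat.of k)) =
      X ↘ Spec (CommRingCat.of k) := hφ
  -- the generic point
  have hξ : φ (genericPoint X) = genericPoint (CohB1.ProjSpace 1 k) := by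
    rcases P1Iso.pencil_dichotomy k X hdim d L s hL φ α hφ _ hα with ⟨h1, -⟩ | ⟨-, h2⟩
    · by_contra hne
      apply h1
      have hcl := DegPull.isClosed_singleton_of_ne_generic (P1Iso.dim_P1 k).le _ hne
      refine ⟨φ (genericPoint X), hcl, ?_⟩
      rintro _ ⟨x, rfl⟩
      have h1 : genericPoint X ⤳ x := (genericPoint_spec X).specializes (Set.mem_univ x)
      have h2 : φ (genericPoint X) ⤳ φ x := h1.map φ.continuous
      exact h2.mem_closed hcl rfl
    · exact absurd h0 h2
  refine ⟨hξ, ?_⟩
  haveI : IsFinite φ := DegPull.isFinite_of_dominant k hdim (P1Iso.dim_P1 k) φ hφ' hξ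
  haveI : Flat φ := HypEll9.flat_of_generic k X φ hξ
  have hfinres := Groth.Agent.Lib.EtNbhdFinH4.finite_residueFieldMap φ (genericPoint X)
    (φ.quasiFiniteAt (genericPoint X))
  obtain ⟨hLinv, hLdeg, hLli⟩ := hL
  have hXd : ∀ x : X, IsClosed ({x} : Set X) → ringKrullDim (X.presheaf.stalk x) = 1 :=
    fun x hx => CurvePtInv.ringKrullDim_stalk_of_closed hdim hx
  have hEfin : Module.finrank (FrobTw9.kKq k X.functionField p 1) X.functionField = p := by
    have := FrobTw9.finrank_kKq_functionField k X p hXd 1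
    rw [pow_one] at this
    exact this
  -- `s 0 ≠ 0`
  have hs0 : s 0 ≠ 0 := by
    intro h
    have := hLli (fun i => if i = 0 then 1 else 0) (by
      rw [Fin.sum_univ_two]
      simp [h])
    have h1 := congrFun this 0
    simp at h1
  have hg0 : L.presheaf.germ ⊤ (genericPoint X) trivial (s 0) ≠ 0 := fun h =>
    hs0 (LinSerOrd.eq_zero_of_germ_eq_zero hLinv (s 0) (genericPoint X) h)
  obtain ⟨t, ht⟩ := SecOrdH8.exists_isFreeGen hLinv (genericPoint X)
  obtain ⟨a0, ha0⟩ := ht.1 (L.presheaf.germ ⊤ (genericPoint X) trivial (s 0))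
  have ha0ne : a0 ≠ 0 := by
    intro h
    apply hg0
    rw [ha0, h, zero_smul]
  -- the residue field isomorphism
  have hF1 : IsField (X.presheaf.stalk (genericPoint X)) := Field.toIsField X.functionField
  let j : X.functionField ≃+* X.residueField (genericPoint X) :=
    RingEquiv.ofBijective (X.residue (genericPoint X)).hom
      (P1Iso.residue_bijective_of_isField (genericPoint X) hF1)
  let τ : (CohB1.ProjSpace 1 k).residueField (φ (genericPoint X)) →+* X.functionField :=
    (j.symm : X.residueField (genericPoint X) →+* X.functionField).comp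
      (φ.residueFieldMap (genericPoint X)).hom
  have hτres : ∀ w : (CohB1.ProjSpace 1 k).presheaf.stalk (φ (genericPoint X)),
      τ (((CohB1.ProjSpace 1 k).residue (φ (genericPoint X))).hom w) =
        (φ.stalkMap (genericPoint X)).hom w := by
    intro w
    have h1 := congrArg (fun m => m.hom w) (Scheme.residue_residueFieldMap φ (genericPoint X))
    simp only [CommRingCat.hom_comp, RingHom.comp_apply] at h1
    show j.symm ((φ.residueFieldMap (genericPoint X)).hom
      (((CohB1.ProjSpace 1 k).residue (φ (genericPoint X))).hom w)) = _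
    rw [h1]
    exact j.symm_apply_apply _
  have hτfin : τ.Finite :=
    (RingHom.Finite.of_surjective _ j.symm.surjective).comp hfinres
  have hk : ∀ a : k, algebraMap k X.functionField a ∈ τ.range := by
    intro a
    refine ⟨((CohB1.ProjSpace 1 k).residue (φ (genericPoint X))).hom
      (Curv2.stalkMap k (CohB1.ProjSpace 1 k) (φ (genericPoint X)) a), ?_⟩
    rw [hτres, stalkMap_compat k φ hφ' (genericPoint X) a]
    rfl
  obtain ⟨i₀, hx⟩ := cover_chart k 1 (φ (genericPoint X))
  have hratio : ∀ i, ratio φ hx i ∈ τ.range := by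
    intro i
    refine ⟨((CohB1.ProjSpace 1 k).residue (φ (genericPoint X))).hom
      (((CohB1.ProjSpace 1 k).presheaf.germ (chart k 1 i₀) (φ (genericPoint X)) hx).hom
        (Groth.Agent.ProjUPU.rat (CohB1.polyGrading 1 k) (hX k 1 i₀) (hX k 1 i))), ?_⟩
    rw [hτres]
    have h1 := congrArg (fun m => m.hom
      (Groth.Agent.ProjUPU.rat (CohB1.polyGrading 1 k) (hX k 1 i₀) (hX k 1 i)))
      (Scheme.Hom.germ_stalkMap φ (chart k 1 i₀) (genericPoint X) hx)
    exact h1
  have hgerm : ∀ i, L.presheaf.germ ⊤ (genericPoint X) trivial (s i) =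
      ratio φ hx i • L.presheaf.germ ⊤ (genericPoint X) trivial (s i₀) := by
    intro i
    rw [← hα i, ← hα i₀]
    exact germ_sec_eq φ hx L α i
  have hcτ : c ∈ τ.fieldRange := by
    have hi₀ : i₀ = 0 ∨ i₀ = 1 := by
      rcases i₀ with ⟨_ | _ | n, hn⟩
      · left; rfl
      · right; rfl
      · omega
    rcases hi₀ with rfl | rfl
    · -- `c = ratio 1`
      have h1 := hgerm 1
      rw [hc, ha0, smul_smul, smul_smul] at h1
      have h2 : (c * a0 - ratio φ hx 1 * a0) • t = 0 := by
        rw [sub_smul, h1, sub_self]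
      have h3 := ht.2 _ h2
      have h4 : c = ratio φ hx 1 := by
        have h5 : (c - ratio φ hx 1) * a0 = 0 := by rw [sub_mul]; exact h3
        rcases mul_eq_zero.mp h5 with h6 | h6
        · exact sub_eq_zero.mp h6
        · exact absurd h6 ha0ne
      rw [h4]
      exact RingHom.mem_fieldRange.mpr (hratio 1)
    · -- `c = (ratio 0)⁻¹`
      have h1 := hgerm 0
      rw [hc, ha0, smul_smul, smul_smul] at h1
      have h2 : (a0 - ratio φ hx 0 * (c * a0)) • t = 0 := by
        rw [sub_smul, ← mul_assoc, ← h1, sub_self]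
      have h3 := ht.2 _ h2
      have h4 : ratio φ hx 0 * c = 1 := by
        have h5 : (1 - ratio φ hx 0 * c) * a0 = 0 := by
          rw [sub_mul, one_mul, mul_assoc]; exact h3
        rcases mul_eq_zero.mp h5 with h6 | h6
        · exact (sub_eq_zero.mp h6).symm
        · exact absurd h6 ha0ne
      have h5 : c = (ratio φ hx 0)⁻¹ := (eq_inv_of_mul_eq_one_right h4)
      rw [h5]
      exact inv_mem (RingHom.mem_fieldRange.mpr (hratio 0))
  have hsepτ := isSeparable_of_ringHom k X.functionField p hEfin τ hτfin hk c hcτ hcE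
  apply HypEll9.exists_etale_open k X φ hξ
  · letI := (φ.residueFieldMap (genericPoint X)).hom.toAlgebra
    haveI : Module.Finite ((CohB1.ProjSpace 1 k).residueField (φ (genericPoint X)))
        (X.residueField (genericPoint X)) := hfinres
    exact Module.finrank_pos
  · letI algτ := τ.toAlgebra
    letI := (φ.residueFieldMap (genericPoint X)).hom.toAlgebra
    haveI := hsepτ
    exact Algebra.IsSeparable.of_equiv_equiv (RingEquiv.refl _) j (by
      ext w
      show (φ.residueFieldMap (genericPoint X)).hom w =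
        j (j.symm ((φ.residueFieldMap (genericPoint X)).hom w))
      rw [RingEquiv.apply_symm_apply])

end Pencil

end CSepPt
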