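import Mathlib
import Groth.Agent.Lib.UnivHomeo4_helper6
set_option autoImplicit false
universe u

namespace Groth.Agent.Lib.UnivHomeo

section ResDeg

open AlgebraicGeometry CategoryTheory

/-- Elements of the residue field at a point of an affine open are fractions of evaluations. -/
theorem exists_evaluation_frac {X : Scheme.{u}} {V : X.Opens} (hV : IsAffineOpen V) (x : X)
    (hx : x ∈ V) (z : X.residueField x) :
    ∃ b s : Γ(X, V), (X.evaluation V x hx).hom s ≠ 0 ∧
      z * (X.evaluation V x hx).hom s = (X.evaluation V x hx).hom b := by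
  obtain ⟨w, rfl⟩ := X.residue_surjective x z
  letI : Algebra Γ(X, V) (X.presheaf.stalk x) :=
    TopCat.Presheaf.algebra_section_stalk X.presheaf ⟨x, hx⟩
  haveI := hV.isLocalization_stalk ⟨x, hx⟩
  obtain ⟨⟨b, s⟩, hs⟩ := IsLocalization.surj (hV.primeIdealOf ⟨x, hx⟩).asIdeal.primeCompl w
  refine ⟨b, s, ?_, ?_⟩
  · have hu : IsUnit (algebraMap Γ(X, V) (X.presheaf.stalk x) s) :=
      IsLocalization.map_units _ s
    have h2 : IsUnit ((X.residue x).hom (algebraMap Γ(X, V) (X.presheaf.stalk x) s)) :=
      hu.map (X.residue x).hom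
    exact h2.ne_zero
  · have := congrArg (X.residue x).hom hs
    rw [map_mul] at this
    exact this

/-- A bound for residue degrees of a morphism which is finite over an affine open. -/
theorem finrank_residueField_le {X Y : Scheme.{u}} (f : X ⟶ Y) (x : X) {U : Y.Opens}
    (hV : IsAffineOpen (f ⁻¹ᵁ U)) (hx : f x ∈ U) (hint : (f.app U).hom.IsIntegral) (m : ℕ)
    (b : Fin m → Γ(X, f ⁻¹ᵁ U))
    (hb : ∀ y : Γ(X, f ⁻¹ᵁ U), ∃ c : Fin m → Γ(Y, U), y = ∑ i, (f.app U).hom (c i) * b i) :
    letI := (f.residueFieldMap x).hom.toAlgebra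
    Module.Finite (Y.residueField (f x)) (X.residueField x) ∧
      Module.finrank (Y.residueField (f x)) (X.residueField x) ≤ m := by
  letI algKL : Algebra (Y.residueField (f x)) (X.residueField x) :=
    (f.residueFieldMap x).hom.toAlgebra
  letI algAB : Algebra Γ(Y, U) Γ(X, f ⁻¹ᵁ U) := (f.app U).hom.toAlgebra
  let evA : Γ(Y, U) →+* Y.residueField (f x) := (Y.evaluation U (f x) hx).hom
  let evB : Γ(X, f ⁻¹ᵁ U) →+* X.residueField x := (X.evaluation (f ⁻¹ᵁ U) x hx).hom
  have hcompat : ∀ a, algebraMap (Y.residueField (f x)) (X.residueField x) (evA a) =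
      evB ((f.app U).hom a) := fun a => Scheme.evaluation_naturality_apply f x hx a
  let S : Submodule (Y.residueField (f x)) (X.residueField x) :=
    Submodule.span (Y.residueField (f x)) (Set.range fun i => evB (b i))
  have hS1 : ∀ y, evB y ∈ S := by
    intro y
    obtain ⟨c, rfl⟩ := hb y
    rw [map_sum]
    refine Submodule.sum_mem _ fun i _ => ?_
    rw [map_mul, ← hcompat, ← Algebra.smul_def]
    exact Submodule.smul_mem _ _ (Submodule.subset_span ⟨i, rfl⟩)
  let R : Subalgebra (Y.residueField (f x)) (X.residueField x) :=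
    Algebra.adjoin (Y.residueField (f x)) (Set.range evB)
  have hR_le : Subalgebra.toSubmodule R ≤ S := by
    rw [Algebra.adjoin_eq_span]
    have h1 : Set.range evB = ((MonoidHom.mrange evB.toMonoidHom : Submonoid _) : Set _) := by
      ext z; simp [MonoidHom.mem_mrange]
    rw [h1, Submonoid.closure_eq, Submodule.span_le, ← h1]
    rintro _ ⟨y, rfl⟩
    exact hS1 y
  have hR_top : R = ⊤ := by
    rw [eq_top_iff]
    rintro z -
    obtain ⟨b', s, hs, hz⟩ := exists_evaluation_frac hV x hx z
    have hsR : evB s ∈ R := Algebra.subset_adjoin ⟨s, rfl⟩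
    have halg : IsAlgebraic (Y.residueField (f x)) (evB s) := by
      have : IsIntegral (Y.residueField (f x)) (evB s) :=
        IsIntegral.map_of_comp_eq evA evB (RingHom.ext hcompat) (hint s)
      exact this.isAlgebraic
    have hinv : (evB s)⁻¹ ∈ R := R.inv_mem_of_algebraic (x := ⟨evB s, hsR⟩) halg
    have hzz : z = evB b' * (evB s)⁻¹ := by
      change z * evB s = evB b' at hz
      rw [← hz, mul_assoc, mul_inv_cancel₀ hs, mul_one]
    rw [hzz]
    exact R.mul_mem (Algebra.subset_adjoin ⟨b', rfl⟩) hinv
  have hStop : S = ⊤ := by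
    rw [eq_top_iff]
    intro z _
    have hz : z ∈ R := by rw [hR_top]; exact Algebra.mem_top
    exact hR_le hz
  constructor
  · refine ⟨?_⟩
    rw [← hStop]
    exact Submodule.fg_span (Set.finite_range _)
  · calc Module.finrank (Y.residueField (f x)) (X.residueField x)
        = Module.finrank (Y.residueField (f x))
            (⊤ : Submodule (Y.residueField (f x)) (X.residueField x)) := (finrank_top _ _).symm
      _ = Module.finrank (Y.residueField (f x)) S := by rw [hStop]
      _ ≤ Fintype.card (Fin m) := finrank_range_le_card _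
      _ = m := Fintype.card_fin m

end ResDeg

end Groth.Agent.Lib.UnivHomeo
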