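import Mathlib
import Groth.Prelude
import Groth.Agent.Lib.CurveSepPt5_helper9
import Groth.Agent.Lib.UnivHomeo30_helper6

/-!
# Fibres of a map to `P¹` over rational points of the standard chart (helper9)
APPEND-ONLY once landed.
-/

set_option autoImplicit false
universe u
open CategoryTheory CategoryTheory.Limits AlgebraicGeometry Opposite TopologicalSpace
open QcqsLoc GenLocH8 TensH8 PBH8 QCohExtn Groth.Agent.ProjUPU FLFH8

namespace CSepPt

section Eval

variable (k : Type u) [Field k]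

/-- the coordinate function `t = T₁ / T₀` on the standard chart `D_+(T₀)` of `P¹` -/
noncomputable def tt : Γ(CohB1.ProjSpace 1 k, chart k 1 0) :=
  rat (CohB1.polyGrading 1 k) (hX k 1 0) (hX k 1 1)

/-- the polynomial evaluation `T₀ ↦ 1`, `T₁ ↦ a` -/
noncomputable def psiA (a : k) : MvPolynomial (Fin (1 + 1)) k →+* k :=
  MvPolynomial.eval (fun i : Fin (1 + 1) => if i = 0 then 1 else a)

theorem psiA_X0 (a : k) : psiA k a (MvPolynomial.X 0) = 1 := by
  unfold psiA
  rw [MvPolynomial.eval_X]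
  simp

theorem psiA_X1 (a : k) : psiA k a (MvPolynomial.X 1) = a := by
  unfold psiA
  rw [MvPolynomial.eval_X]
  simp

theorem psiA_C (a β : k) : psiA k a (MvPolynomial.C β) = β := by
  unfold psiA
  rw [MvPolynomial.eval_C]

/-- evaluation of functions on the chart `D_+(T₀)` at the rational point `t = a` -/
noncomputable def evA (a : k) : Γ(CohB1.ProjSpace 1 k, chart k 1 0) →+* k :=
  Groth.Agent.ProjUPE.secLift (CohB1.polyGrading 1 k) (hX k 1 0) (psiA k a)
    (by rw [psiA_X0]; exact isUnit_one)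

theorem evA_dehom (a : k) (s : MvPolynomial (Fin (1 + 1)) k) :
    evA k a (dehom (CohB1.polyGrading 1 k) (hX k 1 0) s) = psiA k a s :=
  Groth.Agent.ProjUPE.secLift_dehom (CohB1.polyGrading 1 k) (hX k 1 0) (psiA k a)
    (psiA_X0 k a) _ s

theorem evA_tt (a : k) : evA k a (tt k) = a := by
  unfold tt
  rw [← dehom_eq_rat (CohB1.polyGrading 1 k) (hX k 1 0) (hX k 1 1), evA_dehom, psiA_X1]

/-- the structure map of the chart, with the chart written as `chart k 1 0` -/
noncomputable def iota0 : k →+* Γ(CohB1.ProjSpace 1 k, chart k 1 0) :=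
  (iotaD (CohB1.polyGrading 1 k) (f := MvPolynomial.X 0)).hom

theorem evA_iotaD (a β : k) : evA k a (iota0 k β) = β := by
  have h1 : iota0 k β = dehom (CohB1.polyGrading 1 k) (hX k 1 0) (MvPolynomial.C β) :=
    (dehom_algebraMap_eq (CohB1.polyGrading 1 k) (hX k 1 0) β).symm
  rw [h1, evA_dehom]
  exact psiA_C k a β

/-- the rational point `t = a` of the chart -/
theorem exists_point (a : k) : ∃ y : CohB1.ProjSpace 1 k, y ∈ chart k 1 0 ∧
    ∀ b : Γ(CohB1.ProjSpace 1 k, chart k 1 0), evA k a b = 0 →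
      y ∉ (CohB1.ProjSpace 1 k).basicOpen b := by
  have hD := isAffineOpen_chart k 1 0
  haveI : (RingHom.ker (evA k a)).IsPrime := RingHom.ker_isPrime _
  let q : PrimeSpectrum Γ(CohB1.ProjSpace 1 k, chart k 1 0) := ⟨RingHom.ker (evA k a), inferInstance⟩
  refine ⟨hD.fromSpec q, ?_, ?_⟩
  · have h1 : hD.fromSpec q ∈ Set.range hD.fromSpec := Set.mem_range_self q
    rw [hD.range_fromSpec] at h1
    exact h1
  · intro b hb hmem
    have h1 : q ∈ hD.fromSpec ⁻¹ᵁ (CohB1.ProjSpace 1 k).basicOpen b := hmem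
    rw [hD.fromSpec_preimage_basicOpen] at h1
    exact h1 ((RingHom.mem_ker).mpr hb)

end Eval

section Fibre

variable (k : Type u) [Field k] {X : Scheme.{u}} [X.Over (Spec (CommRingCat.of k))]
  (φ : X ⟶ CohB1.ProjSpace 1 k)
  (hφ : φ ≫ CohB1.ProjSpace.toSpec 1 k = X ↘ Spec (CommRingCat.of k))

include hφ in
/-- at a point over the rational point `t = a`, the functions of the chart take values in `k` -/
theorem residue_theta_eq (a : k) (x : X) (hx : φ x ∈ chart k 1 0)
    (hxa : ∀ b : Γ(CohB1.ProjSpace 1 k, chart k 1 0), evA k a b = 0 →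
      φ x ∉ (CohB1.ProjSpace 1 k).basicOpen b)
    (b : Γ(CohB1.ProjSpace 1 k, chart k 1 0)) :
    (X.residue x).hom ((theta φ x hx).hom b) = Curv2.resMap k X x (evA k a b) := by
  have hzero : ∀ b' : Γ(CohB1.ProjSpace 1 k, chart k 1 0), evA k a b' = 0 →
      (X.residue x).hom ((theta φ x hx).hom b') = 0 := by
    intro b' hb'
    have h1 := hxa b' hb'
    have h2 : x ∉ φ ⁻¹ᵁ (CohB1.ProjSpace 1 k).basicOpen b' := h1
    rw [Scheme.preimage_basicOpen] at h2
    have h3 : ¬ IsUnit ((X.presheaf.germ (φ ⁻¹ᵁ chart k 1 0) x hx).hom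
        ((φ.app (chart k 1 0)).hom b')) := fun hu =>
      h2 ((X.mem_basicOpen _ x hx).mpr hu)
    have h4 : (X.presheaf.germ (φ ⁻¹ᵁ chart k 1 0) x hx).hom ((φ.app (chart k 1 0)).hom b') ∈
        IsLocalRing.maximalIdeal (X.presheaf.stalk x) := h3
    exact (IsLocalRing.residue_eq_zero_iff _).mpr h4
  have hdec : b = iota0 k (evA k a b) + (b - iota0 k (evA k a b)) := by ring
  have h0 : evA k a (b - iota0 k (evA k a b)) = 0 := by
    rw [map_sub, evA_iotaD, sub_self]
  have h1 : (theta φ x hx).hom (iota0 k (evA k a b)) = Curv2.stalkMap k X x (evA k a b) :=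
    congrArg (fun m => m.hom (evA k a b)) (iotaD_comp_theta φ hφ hx)
  conv_lhs => rw [hdec]
  rw [map_add, map_add, hzero _ h0, add_zero, h1]
  rfl

end Fibre

end CSepPt

namespace CSepPt

section Fibre2

variable (k : Type u) [Field k] {X : Scheme.{u}} [X.Over (Spec (CommRingCat.of k))]
  (φ : X ⟶ CohB1.ProjSpace 1 k)
  (hφ : φ ≫ CohB1.ProjSpace.toSpec 1 k = X ↘ Spec (CommRingCat.of k))

include hφ in
/-- the image of a point over the rational point `t = a` has residue field `k` -/
theorem resMap_surjective_of_fibre (a : k) (x : X) (hx : φ x ∈ chart k 1 0)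
    (hxa : ∀ b : Γ(CohB1.ProjSpace 1 k, chart k 1 0), evA k a b = 0 →
      φ x ∉ (CohB1.ProjSpace 1 k).basicOpen b) :
    letI := P1Iso.overP1 k
    Function.Surjective (Curv2.resMap k (CohB1.ProjSpace 1 k) (φ x)) := by
  letI := P1Iso.overP1 k
  have hφ' : φ ≫ ((CohB1.ProjSpace 1 k) ↘ Spec (CommRingCat.of k)) =
      X ↘ Spec (CommRingCat.of k) := hφ
  have hD := isAffineOpen_chart k 1 0
  have hinj : Function.Injective (φ.residueFieldMap x).hom := RingHom.injective _
  have key : ∀ b : Γ(CohB1.ProjSpace 1 k, chart k 1 0),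
      ((CohB1.ProjSpace 1 k).evaluation (chart k 1 0) (φ x) hx).hom b =
        Curv2.resMap k (CohB1.ProjSpace 1 k) (φ x) (evA k a b) := by
    intro b
    apply hinj
    rw [resMap_compat k φ hφ' x, ← residue_theta_eq k φ hφ a x hx hxa b]
    exact congrArg (fun m => m.hom b) (Scheme.evaluation_naturality φ x hx)
  intro z
  obtain ⟨b, s, hs, hz⟩ := Groth.Agent.Lib.UnivHomeo.exists_evaluation_frac hD (φ x) hx z
  rw [key b, key s] at hz
  rw [key s] at hs
  refine ⟨evA k a b / evA k a s, ?_⟩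
  rw [map_div₀]
  exact (eq_div_of_mul_eq hs hz).symm

end Fibre2

section NotGen

variable {X : Scheme.{u}}

/-- a global section whose germ at `x` lies in `𝔪_x L_x` does not generate `L` at `x` -/
theorem not_genAt_of_germ_eq_smul {L : X.Modules} (sa s0 : Γ(L, ⊤)) (x : X)
    (m : X.presheaf.stalk x) (hm : (X.residue x).hom m = 0)
    (h : L.presheaf.germ ⊤ x trivial sa = m • L.presheaf.germ ⊤ x trivial s0) :
    ¬ CurveLin.GenAt L (SDivGenH8.unitHom L sa) x := by
  rintro ⟨W, hxW, hgen⟩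
  obtain ⟨h1, h2⟩ := SecOrdH8.stalk_gen hgen hxW
  have hg : ap (SDivGenH8.unitHom L sa) W (toM (1 : Γ(X, W))) = rF L (le_top : W ≤ ⊤) sa :=
    SDivGenH8.unitHom_app_one L sa W
  have hgerm : L.presheaf.germ W x hxW (ap (SDivGenH8.unitHom L sa) W (toM (1 : Γ(X, W)))) =
      L.presheaf.germ ⊤ x trivial sa := by
    rw [hg, SecOrdH8.germ_rF]
  obtain ⟨a', ha'⟩ := h1 (L.presheaf.germ ⊤ x trivial s0)
  rw [hgerm] at ha' h2
  have h3 : ((1 : X.presheaf.stalk x) - m * a') • L.presheaf.germ ⊤ x trivial sa = 0 := by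
    rw [sub_smul, one_smul, mul_smul, ← ha', ← h, sub_self]
  have h4 := h2 _ h3
  have h5 : (1 : X.presheaf.stalk x) = m * a' := sub_eq_zero.mp h4
  have h6 := congrArg (X.residue x).hom h5
  rw [map_one, map_mul, hm, zero_mul] at h6
  exact one_ne_zero h6

end NotGen

section DegBound

variable (k : Type u) [Field k] (X : Scheme.{u}) [X.Over (Spec (CommRingCat.of k))]
  [IsIntegral X] [IsProper (X ↘ Spec (CommRingCat.of k))]

/-- a closed point at which a nonzero section of an invertible module of degree `d` does not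
generate has degree at most `d` -/
theorem ptDeg_le_of_not_genAt (hdim : topologicalKrullDim X = 1) {L : X.Modules}
    (hL : PicF.IsInvertible L) (σ : Coh.structureModule X ⟶ L) (hσ : σ ≠ 0) (x : X)
    (hx : IsClosed ({x} : Set X)) (hreg : IsRegularLocalRing (X.presheaf.stalk x))
    (hnot : ¬ CurveLin.GenAt L σ x) :
    (EllPic.ptDeg k X x hx : ℤ) ≤ Curv2.deg k X L 1 := by
  haveI : IsLocallyNoetherian X :=
    LocallyOfFiniteType.isLocallyNoetherian (X ↘ Spec (CommRingCat.of k))
  obtain ⟨s', hs'⟩ := CurveGG.exists_lift_of_not_genAt hx hL σ hnot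
  have hs'ne : s' ≠ 0 := by
    intro h
    rw [h, zero_comp] at hs'
    exact hσ hs'.symm
  have hIinv : PicF.IsInvertible
      (ClSub.idealMod (Scheme.IdealSheafData.vanishingIdeal ⟨{x}, hx⟩)) :=
    CurvePtInv.isInvertible_idealMod_point hdim hx hreg
  have hTinv := TensH8.isInvertible_tensorMod hIinv hL
  have hnn := CurveDeg.deg_nonneg_of_section k X hdim hTinv s' hs'ne
  rw [CurveTens.deg_tensorMod k X hdim.le hIinv hL, EllPic.deg_idealMod_point] at hnn
  linarith

end DegBound

end CSepPt
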