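import Mathlib
import Groth.Prelude
import Groth.Agent.Lib.CurveSepPt6_helper9
import Groth.Agent.Lib.CurveTop_helper7
import Groth.Agent.Lib.UnramDesc2_helper4
import Groth.Agent.Lib.P1Iso5_helper9

/-!
# A separable closed point of small degree in a fibre of a generically étale map to `P¹` (helper9)
APPEND-ONLY once landed.
-/

set_option autoImplicit false
universe u
open CategoryTheory CategoryTheory.Limits AlgebraicGeometry Opposite TopologicalSpace
open QcqsLoc GenLocH8 TensH8 PBH8 QCohExtn Groth.Agent.ProjUPU FLFH8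

namespace CSepPt

section Main

attribute [local instance] Curv2.resAlgebra

variable (k : Type u) [Field k] (X : Scheme.{u}) [X.Over (Spec (CommRingCat.of k))]
  [IsIntegral X] [IsProper (X ↘ Spec (CommRingCat.of k))] [Smooth (X ↘ Spec (CommRingCat.of k))]

set_option maxHeartbeats 1600000 in
/-- over an infinite field, a generically étale pencil has a fibre over a rational point all of
whose points are separable of degree at most the degree of the pencil -/
theorem exists_point_of_etale [Infinite k]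
    (hdim : topologicalKrullDim X = 1)
    (d : ℕ) (L : X.Modules) (s : Fin (1 + 1) → LinSer.Sect X L)
    (hL : LinSer.IsLinSer k X L d 1 s)
    (φ : X ⟶ CohB1.ProjSpace 1 k)
    (α : (Scheme.Modules.pullback φ).obj (Twist.twistProjSpace 1 k 1) ⟶ L)
    (hφ : φ ≫ CohB1.ProjSpace.toSpec 1 k = X ↘ (Spec (CommRingCat.of k)))
    (hα : ∀ i : Fin (1 + 1), ap α ⊤ (ProjUP.pullSec φ (Twist.twistProjSpace 1 k 1)
      (ProjUP.coord 1 k i)) = s i)
    (hξ : φ (genericPoint X) = genericPoint (CohB1.ProjSpace 1 k))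
    (V : X.Opens) (hVne : (V : Set X).Nonempty) (hV : Etale (V.ι ≫ φ)) :
    ∃ x : X, IsClosed ({x} : Set X) ∧ Algebra.IsSeparable k (X.residueField x) ∧
      Module.finrank k (X.residueField x) ≤ d ∧ FiniteDimensional k (X.residueField x) := by
  classical
  haveI : IsLocallyNoetherian X :=
    LocallyOfFiniteType.isLocallyNoetherian (X ↘ Spec (CommRingCat.of k))
  haveI : CompactSpace X :=
    QuasiCompact.compactSpace_of_compactSpace (X ↘ Spec (CommRingCat.of k))
  haveI : IsNoetherian X := {}
  letI := P1Iso.overP1 k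
  haveI := P1Iso.isIntegral_P1 k
  haveI : IsProper ((CohB1.ProjSpace 1 k) ↘ Spec (CommRingCat.of k)) := P1Iso.isProper_P1 k
  haveI : IsLocallyNoetherian (CohB1.ProjSpace 1 k) :=
    LocallyOfFiniteType.isLocallyNoetherian ((CohB1.ProjSpace 1 k) ↘ Spec (CommRingCat.of k))
  have hφ' : φ ≫ ((CohB1.ProjSpace 1 k) ↘ Spec (CommRingCat.of k)) =
      X ↘ Spec (CommRingCat.of k) := hφ
  haveI : IsFinite φ := DegPull.isFinite_of_dominant k hdim (P1Iso.dim_P1 k) φ hφ' hξ
  obtain ⟨hLinv, hLdeg, hLli⟩ := hL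
  have hξV : genericPoint X ∈ V := by
    obtain ⟨v, hv⟩ := hVne
    exact (genericPoint_specializes v).mem_open V.isOpen hv
  -- the bad points
  let T : Set X := (V : Set X)ᶜ ∪ {genericPoint X}
  have hTfin : T.Finite := by
    apply Set.Finite.union
    · apply Groth.Agent.Lib.CurveTopH7.finite_of_isClosed_of_forall_isClosed _
        V.isOpen.isClosed_compl
      intro z hz
      apply DegPull.isClosed_singleton_of_ne_generic hdim.le z
      rintro rfl
      exact hz hξV
    · exact Set.finite_singleton _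
  -- the bad values
  let B : Set k := {a | ∃ x ∈ T, ∃ hx : φ x ∈ chart k 1 0,
    (X.residue x).hom ((theta φ x hx).hom (tt k)) = Curv2.resMap k X x a}
  have hBfin : B.Finite := by
    have hsub : B ⊆ ⋃ x ∈ T, {a | ∃ hx : φ x ∈ chart k 1 0,
        (X.residue x).hom ((theta φ x hx).hom (tt k)) = Curv2.resMap k X x a} := by
      rintro a ⟨x, hxT, hx, h⟩
      exact Set.mem_biUnion hxT ⟨hx, h⟩
    refine (hTfin.biUnion ?_).subset hsub
    intro x _
    apply Set.Subsingleton.finite
    rintro a ⟨hx, ha⟩ a' ⟨hx', ha'⟩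
    apply (Curv2.resMap k X x).injective
    rw [← ha, ← ha']
  obtain ⟨a, ha⟩ := hBfin.exists_notMem
  -- the point
  obtain ⟨y, hyD, hy⟩ := exists_point k a
  have hsurj : Function.Surjective φ := by
    intro y
    have hcl : IsClosed (Set.range φ) := (φ.isClosedMap).isClosed_range
    have h1 : genericPoint (CohB1.ProjSpace 1 k) ∈ Set.range φ := ⟨_, hξ⟩
    have h2 : closure {genericPoint (CohB1.ProjSpace 1 k)} ⊆ Set.range φ :=
      hcl.closure_subset_iff.mpr (Set.singleton_subset_iff.mpr h1)
    rw [(genericPoint_spec (CohB1.ProjSpace 1 k)).def] at h2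
    exact h2 (Set.mem_univ y)
  obtain ⟨x, rfl⟩ := hsurj y
  have hres := residue_theta_eq k φ hφ a x hyD hy
  have hxT : x ∉ T := by
    intro hxT
    apply ha
    refine ⟨x, hxT, hyD, ?_⟩
    rw [hres, evA_tt]
  have hxV : x ∈ V := by
    by_contra h
    exact hxT (Or.inl h)
  have hxne : x ≠ genericPoint X := fun h => hxT (Or.inr h)
  have hxcl : IsClosed ({x} : Set X) :=
    DegPull.isClosed_singleton_of_ne_generic hdim.le x hxne
  -- the section `s 1 - a s 0`
  obtain ⟨sa, hsa⟩ : ∃ sa : Γ(L, ⊤), sa = s 1 -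
    (show Γ(X, ⊤) from Coh.toGlobal (X ↘ Spec (CommRingCat.of k)) a) • s 0 := ⟨_, rfl⟩
  have hsane : sa ≠ 0 := by
    intro h
    have := hLli (fun i => if i = 0 then -a else 1) (by
      rw [Fin.sum_univ_two]
      simp only [if_true, Fin.one_eq_zero_iff, Nat.succ_ne_self, if_false, map_neg, map_one,
        neg_smul, one_smul]
      rw [neg_add_eq_sub]
      exact hsa.symm.trans h)
    have h1 := congrFun this 1
    simp at h1
  have hgerm1 : L.presheaf.germ ⊤ x trivial (s 1) =
      ratio φ hyD 1 • L.presheaf.germ ⊤ x trivial (s 0) := by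
    rw [← hα 1, ← hα 0]
    exact germ_sec_eq φ hyD L α 1
  have hgerm : L.presheaf.germ ⊤ x trivial sa =
      (ratio φ hyD 1 - Curv2.stalkMap k X x a) • L.presheaf.germ ⊤ x trivial (s 0) := by
    have hsub : L.presheaf.germ ⊤ x trivial sa = L.presheaf.germ ⊤ x trivial (s 1) -
        L.presheaf.germ ⊤ x trivial
          ((show Γ(X, ⊤) from Coh.toGlobal (X ↘ Spec (CommRingCat.of k)) a) • s 0) := by
      rw [hsa]
      exact map_sub (ConcreteCategory.hom (L.presheaf.germ ⊤ x trivial)) _ _
    have hsm := Groth.Agent.Lib.QCohLoc_helper4.germ_smul L ⊤ x trivial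
      (show Γ(X, ⊤) from Coh.toGlobal (X ↘ Spec (CommRingCat.of k)) a) (s 0)
    rw [hsub, hgerm1, sub_smul]
    congr 1
  have hm : (X.residue x).hom (ratio φ hyD 1 - Curv2.stalkMap k X x a) = 0 := by
    rw [map_sub]
    have h1 : (X.residue x).hom (ratio φ hyD 1) = Curv2.resMap k X x a := by
      have := hres (tt k)
      rw [evA_tt] at this
      exact this
    rw [h1]
    exact sub_self _
  have hnot := not_genAt_of_germ_eq_smul sa (s 0) x _ hm hgerm
  have hσne : SDivGenH8.unitHom L sa ≠ 0 := by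
    intro h
    apply hsane
    have h1 := SDivGenH8.unitHom_app_one L sa ⊤
    rw [h] at h1
    have h2 : L.val.map (homOfLE (le_top : (⊤ : X.Opens) ≤ ⊤)).op sa = sa :=
      SubExt.rF_self L le_top _
    rw [← h2, ← h1]
    rfl
  have hreg := VBCurve.hreg_of_smooth k X x
  have hdeg := ptDeg_le_of_not_genAt k X hdim hLinv _ hσne x hxcl hreg hnot
  rw [hLdeg] at hdeg
  have hpt := P1Iso.ptDeg_eq_finrank_residueField k X x hxcl
  have hpt1 := EllPic.one_le_ptDeg k X x hxcl
  refine ⟨x, hxcl, ?_, ?_, ?_⟩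
  · obtain ⟨-, -, hfin, hsep⟩ := (Groth.Agent.Lib.UnramLocH4.main9566 φ x).mp ⟨V, hxV, hV⟩
    have hsurjres := resMap_surjective_of_fibre k φ hφ a x hyD hy
    have hbij : Function.Bijective (Curv2.resMap k (CohB1.ProjSpace 1 k) (φ x)) :=
      ⟨RingHom.injective _, hsurjres⟩
    let e₁ : k ≃+* (CohB1.ProjSpace 1 k).residueField (φ x) := RingEquiv.ofBijective _ hbij
    letI := (φ.residueFieldMap x).hom.toAlgebra
    haveI := hsep
    exact Algebra.IsSeparable.of_equiv_equiv e₁.symm (RingEquiv.refl _) (by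
      ext w
      obtain ⟨β, rfl⟩ := e₁.surjective w
      show Curv2.resMap k X x (e₁.symm (e₁ β)) =
        (φ.residueFieldMap x).hom (Curv2.resMap k (CohB1.ProjSpace 1 k) (φ x) β)
      rw [RingEquiv.symm_apply_apply, resMap_compat k φ hφ' x β])
  · rw [← hpt]
    exact_mod_cast hdeg
  · apply Module.finite_of_finrank_pos
    rw [← hpt]
    omega

end Main

end CSepPt
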