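import Mathlib
import Groth.Prelude
import Groth.Agent.Lib.OmDualF_helper9
import Groth.Agent.Lib.CurveGG3_helper9
import Groth.Agent.Lib.CurveLin3_helper9
import Groth.Agent.Lib.AlgEqC_helper9

/-!
# The canonical module of a curve of positive genus is globally generated (helper9)
APPEND-ONLY once landed.
-/

set_option autoImplicit false
universe u
open AlgebraicGeometry CategoryTheory CategoryTheory.Limits TopologicalSpace Opposite

namespace OmGG

open Groth.Agent.TensInv CohB1 CurveGG AlgEq CurveAmple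

section Gen

variable (k : Type u) [Field k] (X : Scheme.{u}) [X.Over (Spec (CommRingCat.of k))]
  [IsIntegral X] [IsProper (X ↘ Spec (CommRingCat.of k))]

/-- if `h⁰(I_x ⊗ L) < h⁰(L)` then some global section generates `L` at the closed point `x` -/
theorem exists_section_genAt_of_lt {L : X.Modules} (hL : PicF.IsInvertible L)
    {x : X} (hx : IsClosed ({x} : Set X))
    (hlt : Module.finrank k (Coh.HH X (CohB1.tensorMod
      (ClSub.idealMod (Scheme.IdealSheafData.vanishingIdeal ⟨{x}, hx⟩)) L) 0) <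
        Module.finrank k (Coh.HH X L 0)) :
    ∃ σ : Coh.structureModule X ⟶ L, CurveLin.GenAt L σ x := by
  haveI : IsLocallyNoetherian X :=
    LocallyOfFiniteType.isLocallyNoetherian (X ↘ Spec (CommRingCat.of k))
  by_contra hno
  push_neg at hno
  have hLc := ProperFinH9.isCoh_of_isInvertible hL
  have hIc := CurveIdeal.isCoh_idealMod (Scheme.IdealSheafData.vanishingIdeal ⟨{x}, hx⟩)
  have hFc := CurveAmple.isCoh_tensorMod X hIc hL
  have hsurj : Function.Surjective
      (Linear.rightComp k (Coh.structureModule X)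
        (twistι (Scheme.IdealSheafData.vanishingIdeal ⟨{x}, hx⟩) L)) := by
    intro σ
    obtain ⟨s, hs⟩ := exists_lift_of_not_genAt hx hL σ (hno σ)
    exact ⟨s, hs⟩
  haveI := ProperFinH9.finite_HH_of_proper k X _ hFc 0
  haveI : Module.Finite k (Coh.structureModule X ⟶ CohB1.tensorMod
      (ClSub.idealMod (Scheme.IdealSheafData.vanishingIdeal ⟨{x}, hx⟩)) L) :=
    Module.Finite.equiv (CurveIdeal.thetaEquiv k _).symm
  have h1 := LinearMap.finrank_le_finrank_of_surjective hsurj
  rw [(CurveIdeal.thetaEquiv k L).finrank_eq, (CurveIdeal.thetaEquiv k _).finrank_eq] at h1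
  omega

include k in
/-- a module generated at every closed point by a global section is globally generated -/
theorem isGloballyGenerated_of_closed {L : X.Modules}
    (h : ∀ x : X, IsClosed ({x} : Set X) →
      ∃ σ : Coh.structureModule X ⟶ L, CurveLin.GenAt L σ x) :
    Curv2.IsGloballyGenerated L := by
  apply isGloballyGenerated_of_forall_genAt
  intro x
  haveI : CompactSpace X :=
    QuasiCompact.compactSpace_of_compactSpace (X ↘ Spec (CommRingCat.of k))
  obtain ⟨y, hy, hycl⟩ := IsClosed.exists_closed_singleton (isClosed_closure (s := ({x} : Set X)))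
    ⟨x, subset_closure rfl⟩
  obtain ⟨σ, V, hyV, hV⟩ := h y hycl
  refine ⟨σ, V, ?_, hV⟩
  obtain ⟨z, hzV, hz⟩ := mem_closure_iff.mp hy V V.isOpen hyV
  rw [Set.mem_singleton_iff.mp hz] at hzV
  exact hzV

end Gen

section Om

variable (k : Type u) [Field k] [IsAlgClosed k] (C : Scheme.{u})
  [C.Over (Spec (CommRingCat.of k))] [IsProper (C ↘ Spec (CommRingCat.of k))]
  [Smooth (C ↘ Spec (CommRingCat.of k))] [IsIntegral C]

/-- `h⁰(O(x)) ≤ 1` on a curve of positive genus -/
theorem finrank_HH0_point_inverse_le (hdim : topologicalKrullDim C = 1)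
    (hg : 1 ≤ Curv2.genus k C) (x : C) (hx : IsClosed ({x} : Set C)) (J : C.Modules)
    (hJ : PicF.IsInvertible J) (eJ : tensorMod (Ipt C x hx) J ≅ Coh.structureModule C) :
    Module.finrank k (Coh.HH C J 0) ≤ 1 := by
  haveI : IsLocallyNoetherian C :=
    LocallyOfFiniteType.isLocallyNoetherian (C ↘ Spec (CommRingCat.of k))
  have hreg := OmDual.hreg_of_smooth k C
  have hI : PicF.IsInvertible (Ipt C x hx) :=
    CurvePtInv.isInvertible_idealMod_point hdim hx (hreg x)
  have d1 := CurveTens.deg_tensorMod k C hdim.le hI hJ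
  rw [CurveTens.deg_of_iso k C eJ 1, CurveDeg.deg_structureModule,
    CurvePtInv.deg_idealMod_point k C x hx] at d1
  have dJ : Curv2.deg k C J 1 = 1 := by linarith
  by_cases hs : Nontrivial (Coh.HH C J 0)
  · haveI : Module.Finite k (Coh.HH C (Coh.structureModule C) 0) :=
      ProperFinH9.finite_HH_of_proper k C _ (CohDevH8.isCoh_structureModule C) 0
    have h0 := Groth.Agent.ProjConn.finrank_h0_of_isIntegral k (X := C)
    obtain ⟨h1, h2⟩ := CurveLin.h0_le_deg_add_one k C hdim h0 hJ hs
    rw [dJ] at h1 h2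
    by_contra hgt
    push_neg at hgt
    have h3 : (Module.finrank k (Coh.HH C J 0) : ℤ) = 1 + 1 := by
      have : (2 : ℤ) ≤ (Module.finrank k (Coh.HH C J 0) : ℤ) := by exact_mod_cast hgt
      linarith
    have := h2 h3 one_pos
    omega
  · rw [not_nontrivial_iff_subsingleton] at hs
    rw [Module.finrank_zero_of_subsingleton]
    exact Nat.zero_le 1

/-- `h⁰(Ω(-x)) < h⁰(Ω)` on a curve of positive genus -/
theorem finrank_HH0_Omega_twist_point_lt (hdim : topologicalKrullDim C = 1)
    (hg : 1 ≤ Curv2.genus k C) (x : C) (hx : IsClosed ({x} : Set C)) :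
    Module.finrank k (Coh.HH C (tensorMod (Ipt C x hx)
      (Omega.sheaf (C ↘ Spec (CommRingCat.of k)))) 0) <
    Module.finrank k (Coh.HH C (Omega.sheaf (C ↘ Spec (CommRingCat.of k))) 0) := by
  haveI : IsLocallyNoetherian C :=
    LocallyOfFiniteType.isLocallyNoetherian (C ↘ Spec (CommRingCat.of k))
  have hreg := OmDual.hreg_of_smooth k C
  have hI : PicF.IsInvertible (Ipt C x hx) :=
    CurvePtInv.isInvertible_idealMod_point hdim hx (hreg x)
  have hΩ := OmDual.isInvertible_Omega k C hdim
  obtain ⟨J, hJ, ⟨eJ⟩⟩ := Groth.Agent.InvTensP.exists_inverse _ hI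
  obtain ⟨T, hT, ⟨eT⟩⟩ := Groth.Agent.InvTensP.exists_inverse _ hΩ
  -- `Ω ⊗ (J ⊗ T) ≅ J`
  have u : tensorMod (Omega.sheaf (C ↘ Spec (CommRingCat.of k))) (tensorMod J T) ≅ J :=
    (assoc _ _ _).symm ≪≫ mapR (comm _ _) T ≪≫ assoc _ _ _ ≪≫ mapL J eT ≪≫ rightUnit J
  -- `(I ⊗ Ω) ⊗ (J ⊗ T) ≅ O`
  have e : tensorMod (tensorMod (Ipt C x hx) (Omega.sheaf (C ↘ Spec (CommRingCat.of k))))
      (tensorMod J T) ≅ Coh.structureModule C :=
    assoc _ _ _ ≪≫ mapL _ u ≪≫ eJ
  have hM := TensH8.isInvertible_tensorMod hI hΩ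
  have hd := OmDual.finrank_HH1_eq_HH0_Omega_twist k C hdim hM e
  rw [(Groth.Agent.HypConn.hhEquivOfIso (A := k) u 0).finrank_eq] at hd
  have hle := finrank_HH0_point_inverse_le k C hdim hg x hx J hJ eJ
  have dM := CurveTens.deg_tensorMod k C hdim.le hI hΩ
  rw [CurvePtInv.deg_idealMod_point k C x hx, OmDual.deg_Omega k C hdim] at dM
  haveI : (tensorMod (Ipt C x hx) (Omega.sheaf (C ↘ Spec (CommRingCat.of k)))).IsQuasicoherent :=
    TensH8.isQuasicoherent_of_isInvertible hM
  haveI : (Coh.structureModule C).IsQuasicoherent := TensH8.isQuasicoherent_structureModule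
  haveI : Module.Finite k (Coh.HH C (Coh.structureModule C) 0) :=
    ProperFinH9.finite_HH_of_proper k C _ (CohDevH8.isCoh_structureModule C) 0
  have h0 := Groth.Agent.ProjConn.finrank_h0_of_isIntegral k (X := C)
  unfold Curv2.deg at dM
  rw [CurveRR.euler_eq_sub k C hdim.le _, CurveRR.euler_eq_sub k C hdim.le (Coh.structureModule C),
    h0, hd] at dM
  rw [OmDual.finrank_HH0_Omega k C hdim]
  have hgg : (Module.finrank k (Coh.HH C (Coh.structureModule C) 1) : ℤ) =
      (Curv2.genus k C : ℤ) := rfl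
  rw [hgg] at dM
  push_cast at dM
  have hle' : (Module.finrank k (Coh.HH C J 0) : ℤ) ≤ 1 := by exact_mod_cast hle
  have : (Module.finrank k (Coh.HH C (tensorMod (Ipt C x hx)
      (Omega.sheaf (C ↘ Spec (CommRingCat.of k)))) 0) : ℤ) < (Curv2.genus k C : ℤ) := by
    linarith
  exact_mod_cast this

/-- **the canonical module of a smooth proper curve of positive genus is globally generated** -/
theorem isGloballyGenerated_Omega (hdim : topologicalKrullDim C = 1)
    (hg : 1 ≤ Curv2.genus k C) :
    Curv2.IsGloballyGenerated (Omega.sheaf (C ↘ Spec (CommRingCat.of k))) := by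
  apply isGloballyGenerated_of_closed k C
  intro x hx
  exact exists_section_genAt_of_lt k C (OmDual.isInvertible_Omega k C hdim) hx
    (finrank_HH0_Omega_twist_point_lt k C hdim hg x hx)

end Om

end OmGG
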