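import Mathlib
import Groth.Prelude
import Groth.Agent.Lib.OmGG_helper9
import Groth.Agent.Lib.CurveG12b_helper9
import Groth.Agent.Lib.CurveCliff1_helper9

/-!
# Invertible subsheaves of the canonical module: Clifford-type inequalities (helper9)
APPEND-ONLY once landed.
-/

set_option autoImplicit false
universe u
open AlgebraicGeometry CategoryTheory CategoryTheory.Limits TopologicalSpace Opposite

namespace OmLin

open Groth.Agent.TensInv CohB1

section Main

variable (k : Type u) [Field k] [IsAlgClosed k] (X : Scheme.{u})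
  [X.Over (Spec (CommRingCat.of k))] [IsIntegral X]
  [IsProper (X ↘ Spec (CommRingCat.of k))] [Smooth (X ↘ Spec (CommRingCat.of k))]

/-- `dim Hom(F, Ω) = h¹(F)` -/
theorem finrank_hom_Omega (hdim : topologicalKrullDim X = 1) (F : X.Modules) (hF : Coh.IsCoh F) :
    Module.finrank k (F ⟶ Omega.sheaf (X ↘ Spec (CommRingCat.of k))) =
      Module.finrank k (Coh.HH X F 1) := by
  obtain ⟨D, hD⟩ := OmDual.exists_dualData_Omega k X hdim
  have h := OmDual.finrank_hom_omega hdim (OmDual.hreg_of_smooth k X) D F hF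
  rw [hD] at h
  exact h

/-- a nonzero map `F ⟶ Ω` forces `H¹(F) ≠ 0` -/
theorem nontrivial_HH1_of_hom (hdim : topologicalKrullDim X = 1) (F : X.Modules)
    (hF : Coh.IsCoh F) (ι : F ⟶ Omega.sheaf (X ↘ Spec (CommRingCat.of k))) (hι : ι ≠ 0) :
    Nontrivial (Coh.HH X F 1) := by
  obtain ⟨D, hD⟩ := OmDual.exists_dualData_Omega k X hdim
  by_contra hn
  rw [not_nontrivial_iff_subsingleton] at hn
  have e := OmDual.dualEquiv hdim (OmDual.hreg_of_smooth k X) D F hF
  rw [hD] at e
  apply hι
  apply e.injective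
  exact Subsingleton.elim _ _

/-- **Clifford's inequality for invertible subsheaves of `Ω`** -/
theorem clifford_of_hom (hdim : topologicalKrullDim X = 1) {M : X.Modules}
    (hM : PicF.IsInvertible M) (ι : M ⟶ Omega.sheaf (X ↘ Spec (CommRingCat.of k))) (hι : ι ≠ 0)
    (hs : Nontrivial (Coh.HH X M 0)) :
    2 * (Module.finrank k (Coh.HH X M 0) : ℤ) ≤ Curv2.deg k X M 1 + 2 := by
  haveI : IsLocallyNoetherian X :=
    LocallyOfFiniteType.isLocallyNoetherian (X ↘ Spec (CommRingCat.of k))
  have hMc := ProperFinH9.isCoh_of_isInvertible hM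
  haveI := hMc.1
  haveI : (Coh.structureModule X).IsQuasicoherent := TensH8.isQuasicoherent_structureModule
  have hs1 := nontrivial_HH1_of_hom k X hdim M hMc ι hι
  have hcl := CurveCliff.finrank_HH0_add_HH1_le k X hdim.le hM hs hs1
  haveI : Module.Finite k (Coh.HH X (Coh.structureModule X) 0) :=
    ProperFinH9.finite_HH_of_proper k X _ (CohDevH8.isCoh_structureModule X) 0
  have hO := Groth.Agent.ProjConn.finrank_h0_of_isIntegral k (X := X)
  unfold Curv2.deg
  rw [CurveRR.euler_eq_sub k X hdim.le M, CurveRR.euler_eq_sub k X hdim.le (Coh.structureModule X),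
    hO]
  have hg : Curv2.genus k X = Module.finrank k (Coh.HH X (Coh.structureModule X) 1) := rfl
  rw [hg] at hcl
  push_cast
  have hcl' : (Module.finrank k (Coh.HH X M 0) : ℤ) + (Module.finrank k (Coh.HH X M 1) : ℤ) ≤
      (Module.finrank k (Coh.HH X (Coh.structureModule X) 1) : ℤ) + 1 := by exact_mod_cast hcl
  linarith

/-- **statement of S16968** (with smoothness in place of regularity) -/
theorem main16968 (hdim : topologicalKrullDim X = 1) (hg : 3 ≤ Curv2.genus k X)
    (N : X.Modules) (t : Fin 2 → LinSer.Sect X N) (hN : LinSer.IsLinSer k X N 2 1 t) :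
    (∀ (M : X.Modules) (ι : M ⟶ Omega.sheaf (X ↘ (Spec (CommRingCat.of k)))),
        PicF.IsInvertible M → Mono ι → ¬ IsIso ι →
        2 ≤ Module.finrank k (Coh.HH X M 0) →
        Curv2.deg k X (Omega.sheaf (X ↘ (Spec (CommRingCat.of k)))) 1 *
            ((Module.finrank k (Coh.HH X M 0) : ℤ) - 1) ≤
          Curv2.deg k X M 1 *
            ((Module.finrank k (Coh.HH X (Omega.sheaf (X ↘ (Spec (CommRingCat.of k)))) 0) : ℤ) -
              1)) ∧
      ∃ ι : N ⟶ Omega.sheaf (X ↘ (Spec (CommRingCat.of k))), Mono ι ∧ ¬ IsIso ι ∧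
        Curv2.deg k X (Omega.sheaf (X ↘ (Spec (CommRingCat.of k)))) 1 *
            ((Module.finrank k (Coh.HH X N 0) : ℤ) - 1) =
          Curv2.deg k X N 1 *
            ((Module.finrank k (Coh.HH X (Omega.sheaf (X ↘ (Spec (CommRingCat.of k)))) 0) : ℤ) -
              1) := by
  haveI : IsLocallyNoetherian X :=
    LocallyOfFiniteType.isLocallyNoetherian (X ↘ Spec (CommRingCat.of k))
  have hΩ := OmDual.isInvertible_Omega k X hdim
  have hg' : (3 : ℤ) ≤ (Curv2.genus k X : ℤ) := by exact_mod_cast hg
  rw [OmDual.deg_Omega k X hdim, OmDual.finrank_HH0_Omega k X hdim]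
  constructor
  · intro M ι hM hmono hniso h2
    have hs : Nontrivial (Coh.HH X M 0) :=
      Module.nontrivial_of_finrank_pos (R := k) (by omega)
    obtain ⟨s, hs0⟩ := CurveRR.exists_section_of_finrank_pos k X M (by omega)
    have hι : ι ≠ 0 := by
      intro h0
      apply hs0
      haveI := hmono
      rw [← cancel_mono ι, h0, comp_zero, zero_comp]
    have hcl := clifford_of_hom k X hdim hM ι hι hs
    have h2' : (2 : ℤ) ≤ (Module.finrank k (Coh.HH X M 0) : ℤ) := by exact_mod_cast h2
    nlinarith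
  · obtain ⟨hNi, hNd, hNl⟩ := hN
    have hd2 : Curv2.deg k X N 1 = 2 := by exact_mod_cast hNd
    have hu := CurveG12.linearIndependent_secHom k X t hNl
    have hNc := ProperFinH9.isCoh_of_isInvertible hNi
    haveI := hNc.1
    haveI : (Coh.structureModule X).IsQuasicoherent := TensH8.isQuasicoherent_structureModule
    haveI := ProperFinH9.finite_HH_of_proper k X _ hNc 0
    haveI : Module.Finite k (Coh.structureModule X ⟶ N) :=
      Module.Finite.equiv (CurveIdeal.thetaEquiv k _).symm
    have h2 : 2 ≤ Module.finrank k (Coh.HH X N 0) := by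
      rw [← (CurveIdeal.thetaEquiv k _).finrank_eq]
      have := hu.fintype_card_le_finrank
      simpa using this
    haveI : Module.Finite k (Coh.HH X (Coh.structureModule X) 0) :=
      ProperFinH9.finite_HH_of_proper k X _ (CohDevH8.isCoh_structureModule X) 0
    have hO := Groth.Agent.ProjConn.finrank_h0_of_isIntegral k (X := X)
    have hs : Nontrivial (Coh.HH X N 0) :=
      Module.nontrivial_of_finrank_pos (R := k) (by omega)
    obtain ⟨h3, h4⟩ := CurveLin.h0_le_deg_add_one k X hdim hO hNi hs
    rw [hd2] at h3 h4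
    have h2' : (2 : ℤ) ≤ (Module.finrank k (Coh.HH X N 0) : ℤ) := by exact_mod_cast h2
    have h0N : (Module.finrank k (Coh.HH X N 0) : ℤ) = 2 := by
      by_contra hne
      have h5 : (Module.finrank k (Coh.HH X N 0) : ℤ) = 2 + 1 := by omega
      have := h4 h5 (by norm_num)
      omega
    -- `h¹(N) = g - 1 > 0`
    have hRR := hd2
    unfold Curv2.deg at hRR
    rw [CurveRR.euler_eq_sub k X hdim.le N, CurveRR.euler_eq_sub k X hdim.le
      (Coh.structureModule X), hO, h0N] at hRR
    have hgg : (Module.finrank k (Coh.HH X (Coh.structureModule X) 1) : ℤ) =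
        (Curv2.genus k X : ℤ) := rfl
    rw [hgg] at hRR
    push_cast at hRR
    have h1pos : 0 < Module.finrank k (Coh.HH X N 1) := by
      have : (0 : ℤ) < (Module.finrank k (Coh.HH X N 1) : ℤ) := by linarith
      exact_mod_cast this
    rw [← finrank_hom_Omega k X hdim N hNc] at h1pos
    obtain ⟨ι, hι⟩ : ∃ ι : N ⟶ Omega.sheaf (X ↘ Spec (CommRingCat.of k)), ι ≠ 0 := by
      by_contra hcon
      push Not at hcon
      haveI : Subsingleton (N ⟶ Omega.sheaf (X ↘ Spec (CommRingCat.of k))) :=
        ⟨fun a b => by rw [hcon a, hcon b]⟩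
      rw [Module.finrank_zero_of_subsingleton] at h1pos
      exact lt_irrefl 0 h1pos
    refine ⟨ι, CurveDeg.mono_of_ne_zero hNi hΩ ι hι, ?_, ?_⟩
    · intro hiso
      have := CurveTens.deg_of_iso k X (asIso ι) 1
      rw [hd2, OmDual.deg_Omega k X hdim] at this
      omega
    · rw [hd2, h0N]
      ring

end Main

end OmLin
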