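import Mathlib
import Groth.Prelude
import Groth.Agent.Lib.OmLin_helper9
import Groth.Agent.Lib.CurveSD1_helper9
import Groth.Agent.Lib.CurvePtInv6_helper9
import Groth.Agent.Lib.VBCurve5_helper9

/-!
# Pencils, nets and webs on a non-hyperelliptic, non-trigonal curve of genus six (helper9)
APPEND-ONLY once landed.
-/

set_option autoImplicit false
universe u
open AlgebraicGeometry CategoryTheory CategoryTheory.Limits TopologicalSpace Opposite

namespace OmLin

open Groth.Agent.TensInv CohB1 CurveGG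

section LinSer

variable (k : Type u) [Field k] (X : Scheme.{u}) [X.Over (Spec (CommRingCat.of k))]
  [IsIntegral X] [IsProper (X ↘ Spec (CommRingCat.of k))]

/-- `n` linearly independent sections give `h⁰ ≥ n` -/
theorem le_finrank_of_linIndep {L : X.Modules} (hL : PicF.IsInvertible L) {n : ℕ}
    (s : Fin n → LinSer.Sect X L) (hs : LinSer.LinIndep k X L s) :
    n ≤ Module.finrank k (Coh.HH X L 0) := by
  haveI : IsLocallyNoetherian X :=
    LocallyOfFiniteType.isLocallyNoetherian (X ↘ Spec (CommRingCat.of k))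
  have hu := CurveG12.linearIndependent_secHom k X s hs
  have hLc := ProperFinH9.isCoh_of_isInvertible hL
  haveI := ProperFinH9.finite_HH_of_proper k X _ hLc 0
  haveI : Module.Finite k (Coh.structureModule X ⟶ L) :=
    Module.Finite.equiv (CurveIdeal.thetaEquiv k _).symm
  rw [← (CurveIdeal.thetaEquiv k _).finrank_eq]
  have := hu.fintype_card_le_finrank
  simpa using this

omit [IsIntegral X] [IsProper (X ↘ Spec (CommRingCat.of k))] in
/-- `h⁰ ≥ n` gives `n` linearly independent sections -/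
theorem exists_linIndep_of_le_finrank (L : X.Modules) {n : ℕ}
    (h : n ≤ Module.finrank k (Coh.HH X L 0)) :
    ∃ s : Fin n → LinSer.Sect X L, LinSer.LinIndep k X L s := by
  obtain ⟨f, hf⟩ := exists_linearIndependent_of_le_finrank h
  refine ⟨fun j => CurveTens.e₀ L (f j), ?_⟩
  intro c hc
  rw [Fintype.linearIndependent_iff] at hf
  funext j
  apply hf c
  apply (CurveTens.e₀ L).injective
  rw [map_sum, map_zero]
  refine Eq.trans ?_ hc
  refine Finset.sum_congr rfl fun i _ => ?_
  have h1 : c i • f i = (Coh.toGlobal (X ↘ Spec (CommRingCat.of k)) (c i)) • f i := rfl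
  rw [h1, CurveTens.e₀_smul]
  rfl

omit [IsIntegral X] [IsProper (X ↘ Spec (CommRingCat.of k))] in
/-- linear independence is reflected by module morphisms -/
theorem linIndep_of_map {M L : X.Modules} (ι : M ⟶ L) {n : ℕ}
    (v : Fin n → LinSer.Sect X M) (w : Fin n → LinSer.Sect X L)
    (hvw : ∀ j, (ι.val.app (op ⊤)).hom (v j) = w j) (hw : LinSer.LinIndep k X L w) :
    LinSer.LinIndep k X M v := by
  intro c hc
  apply hw c
  have h1 := congrArg (ι.val.app (op ⊤)).hom hc
  rw [map_sum, map_zero] at h1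
  refine Eq.trans ?_ h1
  refine Finset.sum_congr rfl fun i _ => ?_
  rw [map_smul, hvw i]

end LinSer

section Six

variable (k : Type u) [Field k] [IsAlgClosed k] (X : Scheme.{u})
  [X.Over (Spec (CommRingCat.of k))] [IsIntegral X]
  [IsProper (X ↘ Spec (CommRingCat.of k))] [Smooth (X ↘ Spec (CommRingCat.of k))]

/-- an invertible module with two independent sections on a curve of positive genus has degree
at least two -/
theorem two_le_deg (hdim : topologicalKrullDim X = 1) (hg : 1 ≤ Curv2.genus k X)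
    {M : X.Modules} (hM : PicF.IsInvertible M)
    (h2 : 2 ≤ Module.finrank k (Coh.HH X M 0)) : 2 ≤ Curv2.deg k X M 1 := by
  haveI : IsLocallyNoetherian X :=
    LocallyOfFiniteType.isLocallyNoetherian (X ↘ Spec (CommRingCat.of k))
  haveI : Module.Finite k (Coh.HH X (Coh.structureModule X) 0) :=
    ProperFinH9.finite_HH_of_proper k X _ (CohDevH8.isCoh_structureModule X) 0
  have hO := Groth.Agent.ProjConn.finrank_h0_of_isIntegral k (X := X)
  have hs : Nontrivial (Coh.HH X M 0) :=
    Module.nontrivial_of_finrank_pos (R := k) (by omega)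
  obtain ⟨h3, h4⟩ := CurveLin.h0_le_deg_add_one k X hdim hO hM hs
  have h2' : (2 : ℤ) ≤ (Module.finrank k (Coh.HH X M 0) : ℤ) := by exact_mod_cast h2
  by_contra hlt
  push Not at hlt
  have h5 : (Module.finrank k (Coh.HH X M 0) : ℤ) = Curv2.deg k X M 1 + 1 := by omega
  have := h4 h5 (by omega)
  omega

/-- **twisting down by a point** -/
theorem exists_twist_down (hdim : topologicalKrullDim X = 1) {M : X.Modules}
    (hM : PicF.IsInvertible M) :
    ∃ M₁ : X.Modules, PicF.IsInvertible M₁ ∧ Curv2.deg k X M₁ 1 = Curv2.deg k X M 1 - 1 ∧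
      Module.finrank k (Coh.HH X M 0) ≤ Module.finrank k (Coh.HH X M₁ 0) + 1 := by
  haveI : IsLocallyNoetherian X :=
    LocallyOfFiniteType.isLocallyNoetherian (X ↘ Spec (CommRingCat.of k))
  haveI : CompactSpace X :=
    QuasiCompact.compactSpace_of_compactSpace (X ↘ Spec (CommRingCat.of k))
  obtain ⟨x, -, hx⟩ := IsClosed.exists_closed_singleton (isClosed_univ (X := X))
    ⟨(inferInstance : Nonempty X).some, trivial⟩
  have hreg := OmDual.hreg_of_smooth k X
  have hI : PicF.IsInvertible (ClSub.idealMod (Scheme.IdealSheafData.vanishingIdeal ⟨{x}, hx⟩)) :=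
    CurvePtInv.isInvertible_idealMod_point hdim hx (hreg x)
  have hM₁ := TensH8.isInvertible_tensorMod hI hM
  have hd := CurveTens.deg_tensorMod k X hdim.le hI hM
  rw [CurvePtInv.deg_idealMod_point k X x hx] at hd
  refine ⟨_, hM₁, by rw [hd]; ring, ?_⟩
  -- `H¹(I ⊗ M) → H¹(M)` is surjective
  haveI := mono_twistι (Scheme.IdealSheafData.vanishingIdeal ⟨{x}, hx⟩) hM
  have hφ : twistι (Scheme.IdealSheafData.vanishingIdeal ⟨{x}, hx⟩) M ≠ 0 := by
    intro h0
    exact VBCurve.not_isZero_of_isInvertible hM₁ (IsZero.of_mono_eq_zero _ h0)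
  have hsurj := CurveSD.HH1_hom_surjective k X hdim.le hM₁ hM _ hφ
  have hM₁c := ProperFinH9.isCoh_of_isInvertible hM₁
  have hMc := ProperFinH9.isCoh_of_isInvertible hM
  haveI := ProperFinH9.finite_HH_of_proper k X _ hM₁c 1
  have hle := LinearMap.finrank_le_finrank_of_surjective hsurj
  haveI := hM₁c.1
  haveI := hMc.1
  have hd' := hd
  unfold Curv2.deg at hd'
  rw [CurveRR.euler_eq_sub k X hdim.le _, CurveRR.euler_eq_sub k X hdim.le M] at hd'
  have hle' : (Module.finrank k (Coh.HH X M 1) : ℤ) ≤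
      (Module.finrank k (Coh.HH X (tensorMod (ClSub.idealMod
        (Scheme.IdealSheafData.vanishingIdeal ⟨{x}, hx⟩)) M) 1) : ℤ) := by exact_mod_cast hle
  have : (Module.finrank k (Coh.HH X M 0) : ℤ) ≤
      (Module.finrank k (Coh.HH X (tensorMod (ClSub.idealMod
        (Scheme.IdealSheafData.vanishingIdeal ⟨{x}, hx⟩)) M) 0) : ℤ) + 1 := by linarith
  exact_mod_cast this

/-- **the residual module** `Ω ⊗ M⁻¹` -/
theorem exists_residual (hdim : topologicalKrullDim X = 1) {M : X.Modules}
    (hM : PicF.IsInvertible M) :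
    ∃ R : X.Modules, PicF.IsInvertible R ∧
      Curv2.deg k X R 1 = 2 * (Curv2.genus k X : ℤ) - 2 - Curv2.deg k X M 1 ∧
      (Module.finrank k (Coh.HH X R 0) : ℤ) =
        (Module.finrank k (Coh.HH X M 0) : ℤ) - Curv2.deg k X M 1 - 1 + (Curv2.genus k X : ℤ) := by
  haveI : IsLocallyNoetherian X :=
    LocallyOfFiniteType.isLocallyNoetherian (X ↘ Spec (CommRingCat.of k))
  have hΩ := OmDual.isInvertible_Omega k X hdim
  obtain ⟨M', hM', ⟨e⟩⟩ := Groth.Agent.InvTensP.exists_inverse M hM
  have hR := TensH8.isInvertible_tensorMod hΩ hM'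
  have dMM := CurveTens.deg_tensorMod k X hdim.le hM hM'
  rw [CurveTens.deg_of_iso k X e 1, CurveDeg.deg_structureModule] at dMM
  have dR := CurveTens.deg_tensorMod k X hdim.le hΩ hM'
  rw [OmDual.deg_Omega k X hdim] at dR
  have hd := OmDual.finrank_HH1_eq_HH0_Omega_twist k X hdim hM e
  haveI : Module.Finite k (Coh.HH X (Coh.structureModule X) 0) :=
    ProperFinH9.finite_HH_of_proper k X _ (CohDevH8.isCoh_structureModule X) 0
  have hO := Groth.Agent.ProjConn.finrank_h0_of_isIntegral k (X := X)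
  haveI := (ProperFinH9.isCoh_of_isInvertible hM).1
  haveI : (Coh.structureModule X).IsQuasicoherent := TensH8.isQuasicoherent_structureModule
  have hRR : Curv2.deg k X M 1 = (Module.finrank k (Coh.HH X M 0) : ℤ) -
      (Module.finrank k (Coh.HH X M 1) : ℤ) - (1 - (Curv2.genus k X : ℤ)) := by
    unfold Curv2.deg
    rw [CurveRR.euler_eq_sub k X hdim.le M, CurveRR.euler_eq_sub k X hdim.le
      (Coh.structureModule X), hO]
    have hgg : (Module.finrank k (Coh.HH X (Coh.structureModule X) 1) : ℤ) =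
        (Curv2.genus k X : ℤ) := rfl
    rw [hgg]
    push_cast
    ring
  refine ⟨_, hR, by rw [dR]; linarith, ?_⟩
  rw [← hd]
  linarith

/-- no pencil of degree `d`: every invertible module of degree `d` has `h⁰ ≤ 1` -/
def NoPencil (d : ℕ) : Prop :=
  ¬ ∃ (N : X.Modules) (t : Fin 2 → LinSer.Sect X N), LinSer.IsLinSer k X N d 1 t

omit [IsAlgClosed k] [IsIntegral X] [IsProper (X ↘ Spec (CommRingCat.of k))]
  [Smooth (X ↘ Spec (CommRingCat.of k))] in
theorem finrank_le_one_of_noPencil {d : ℕ} (h : NoPencil k X d) {N : X.Modules}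
    (hN : PicF.IsInvertible N) (hd : Curv2.deg k X N 1 = d) :
    Module.finrank k (Coh.HH X N 0) ≤ 1 := by
  by_contra hlt
  push Not at hlt
  obtain ⟨t, ht⟩ := exists_linIndep_of_le_finrank k X N (n := 2) (by omega)
  exact h ⟨N, t, hN, hd, ht⟩

/-- pencils have degree `≥ 3` on a non-hyperelliptic curve -/
theorem three_le_deg (hdim : topologicalKrullDim X = 1) (hg : 1 ≤ Curv2.genus k X)
    (h2 : NoPencil k X 2) {M : X.Modules} (hM : PicF.IsInvertible M)
    (hh : 2 ≤ Module.finrank k (Coh.HH X M 0)) : 3 ≤ Curv2.deg k X M 1 := by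
  have h1 := two_le_deg k X hdim hg hM hh
  by_contra hlt
  push Not at hlt
  have hd : Curv2.deg k X M 1 = (2 : ℕ) := by push_cast; omega
  have := finrank_le_one_of_noPencil k X h2 hM hd
  omega

/-- nets have degree `≥ 5` on a curve which is neither hyperelliptic nor trigonal -/
theorem five_le_deg (hdim : topologicalKrullDim X = 1) (hg : 1 ≤ Curv2.genus k X)
    (h2 : NoPencil k X 2) (h3 : NoPencil k X 3) {M : X.Modules} (hM : PicF.IsInvertible M)
    (hh : 3 ≤ Module.finrank k (Coh.HH X M 0)) : 5 ≤ Curv2.deg k X M 1 := by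
  obtain ⟨M₁, hM₁, hd₁, hh₁⟩ := exists_twist_down k X hdim hM
  have h1 := three_le_deg k X hdim hg h2 hM₁ (by omega)
  by_contra hlt
  push Not at hlt
  have hd : Curv2.deg k X M₁ 1 = (3 : ℕ) := by push_cast; omega
  have := finrank_le_one_of_noPencil k X h3 hM₁ hd
  omega

/-- webs have degree `≥ 8` on a curve of genus six which is neither hyperelliptic nor trigonal -/
theorem eight_le_deg (hdim : topologicalKrullDim X = 1) (hg : Curv2.genus k X = 6)
    (h2 : NoPencil k X 2) (h3 : NoPencil k X 3) {M : X.Modules} (hM : PicF.IsInvertible M)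
    (hh : 4 ≤ Module.finrank k (Coh.HH X M 0)) : 8 ≤ Curv2.deg k X M 1 := by
  obtain ⟨M₁, hM₁, hd₁, hh₁⟩ := exists_twist_down k X hdim hM
  have h1 := five_le_deg k X hdim (by omega) h2 h3 hM₁ (by omega)
  obtain ⟨R, hR, hdR, hhR⟩ := exists_residual k X hdim hM
  rw [hg] at hdR hhR
  have hh' : (4 : ℤ) ≤ (Module.finrank k (Coh.HH X M 0) : ℤ) := by exact_mod_cast hh
  by_contra hlt
  push Not at hlt
  have h67 : Curv2.deg k X M 1 = 6 ∨ Curv2.deg k X M 1 = 7 := by omega
  rcases h67 with h6 | h7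
  · have hR3 : 3 ≤ Module.finrank k (Coh.HH X R 0) := by
      have : (3 : ℤ) ≤ (Module.finrank k (Coh.HH X R 0) : ℤ) := by rw [hhR, h6]; push_cast; linarith
      exact_mod_cast this
    have := five_le_deg k X hdim (by omega) h2 h3 hR hR3
    rw [hdR, h6] at this
    norm_num at this
  · have hR2 : 2 ≤ Module.finrank k (Coh.HH X R 0) := by
      have : (2 : ℤ) ≤ (Module.finrank k (Coh.HH X R 0) : ℤ) := by rw [hhR, h7]; push_cast; linarith
      exact_mod_cast this
    have hd : Curv2.deg k X R 1 = (3 : ℕ) := by rw [hdR, h7]; norm_num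
    have := finrank_le_one_of_noPencil k X h3 hR hd
    omega

/-- **core of S16970** -/
theorem main16970 (hdim : topologicalKrullDim X = 1) (hg : Curv2.genus k X = 6)
    (hnh : ¬ ∃ (N : X.Modules) (t : Fin 2 → LinSer.Sect X N), LinSer.IsLinSer k X N 2 1 t)
    (hnt : ¬ ∃ (N : X.Modules) (t : Fin 2 → LinSer.Sect X N), LinSer.IsLinSer k X N 3 1 t)
    (m : ℕ) (w : Fin m → LinSer.Sect X (Omega.sheaf (X ↘ (Spec (CommRingCat.of k)))))
    (hm2 : 2 ≤ m) (hmg : m + 1 < Curv2.genus k X)
    (hw : LinSer.LinIndep k X (Omega.sheaf (X ↘ (Spec (CommRingCat.of k)))) w)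
    (M : X.Modules) (ι : M ⟶ Omega.sheaf (X ↘ (Spec (CommRingCat.of k))))
    (hM : PicF.IsInvertible M)
    (hfac : ∀ j, ∃ v : LinSer.Sect X M, (ι.val.app (op ⊤)).hom v = w j) :
    Curv2.deg k X (Omega.sheaf (X ↘ (Spec (CommRingCat.of k)))) 1 * ((m : ℤ) - 1) ≤
      Curv2.deg k X M 1 * ((Curv2.genus k X : ℤ) - 2) := by
  choose v hv using hfac
  have hvli := linIndep_of_map k X ι v w hv hw
  have hmh := le_finrank_of_linIndep k X hM v hvli
  rw [OmDual.deg_Omega k X hdim, hg]
  rw [hg] at hmg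
  have hcases : m = 2 ∨ m = 3 ∨ m = 4 := by omega
  rcases hcases with rfl | rfl | rfl
  · have := three_le_deg k X hdim (by omega) hnh hM hmh
    push_cast
    linarith
  · have := five_le_deg k X hdim (by omega) hnh hnt hM hmh
    push_cast
    linarith
  · have := eight_le_deg k X hdim hg hnh hnt hM hmh
    push_cast
    linarith

end Six

end OmLin
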