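import Mathlib
import Groth.Prelude
import Groth.Agent.Lib.CurveSepPt7_helper9
import Groth.Agent.Lib.OmField_helper9
import Groth.Agent.Lib.OmLin2_helper9
import Groth.Agent.Lib.EllPic2_helper9

/-!
# A separable closed point of degree at most `2g - 2` on a smooth proper curve (helper9)
APPEND-ONLY once landed.
-/

set_option autoImplicit false
universe u
open CategoryTheory CategoryTheory.Limits AlgebraicGeometry Opposite TopologicalSpace
open QcqsLoc GenLocH8 TensH8 PBH8 QCohExtn Groth.Agent.ProjUPU FLFH8

namespace CSepPt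

section Final

attribute [local instance] Curv2.resAlgebra
attribute [local instance] Curv2.stalkAlgebra

variable (k : Type u) [Field k] (X : Scheme.{u}) [X.Over (Spec (CommRingCat.of k))]

/-- a sub-pencil of a linear series is a linear series -/
theorem isLinSer_pencil {L : X.Modules} {d r : ℕ} (s : Fin (r + 1) → LinSer.Sect X L)
    (hL : LinSer.IsLinSer k X L d r s) (i j : Fin (r + 1)) (hij : i ≠ j) :
    LinSer.IsLinSer k X L d 1 (fun l : Fin (1 + 1) => if l = 0 then s i else s j) := by
  obtain ⟨hLinv, hLdeg, hLli⟩ := hL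
  refine ⟨hLinv, hLdeg, ?_⟩
  intro c hc
  rw [Fin.sum_univ_two] at hc
  simp only [if_true, Fin.one_eq_zero_iff, Nat.succ_ne_self, if_false] at hc
  have h1 := hLli (fun m => if m = i then c 0 else if m = j then c 1 else 0) (by
    rw [Finset.sum_eq_add i j hij]
    · simp only [if_true, hij.symm, if_false]
      exact hc
    · intro m _ hm
      simp only [hm.1, hm.2, if_false, map_zero, zero_smul]
    · intro h; exact absurd (Finset.mem_univ i) h
    · intro h; exact absurd (Finset.mem_univ j) h)
  funext l
  have hl : l = 0 ∨ l = 1 := by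
    rcases l with ⟨_ | _ | n, hn⟩
    · left; rfl
    · right; rfl
    · omega
  rcases hl with rfl | rfl
  · have := congrFun h1 i
    simpa using this
  · have := congrFun h1 j
    simpa [hij.symm] using this

set_option maxHeartbeats 1600000 in
/-- **statement of S1565** -/
theorem main1565
    (hX : Curve.IsSmoothProperCurve k X (X ↘ (Spec (CommRingCat.of k))))
    (h0 : Module.finrank k (Coh.HH X (Coh.structureModule X) 0) = 1)
    (hg : 2 ≤ Curv2.genus k X) :
    ∃ x : X, IsClosed ({x} : Set X) ∧ Algebra.IsSeparable k (X.residueField x) ∧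
      Module.finrank k (X.residueField x) ≤ 2 * Curv2.genus k X - 2 ∧
      FiniteDimensional k (X.residueField x) := by
  classical
  obtain ⟨hprop, hsm, hint, hdim⟩ := hX
  haveI := hprop
  haveI := hsm
  haveI := hint
  haveI : IsLocallyNoetherian X :=
    LocallyOfFiniteType.isLocallyNoetherian (X ↘ Spec (CommRingCat.of k))
  haveI : CompactSpace X :=
    QuasiCompact.compactSpace_of_compactSpace (X ↘ Spec (CommRingCat.of k))
  haveI : GeometricallyConnected (X ↘ Spec (CommRingCat.of k)) :=
    OmField.geometricallyConnected_of_finrank_HH0 k X h0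
  have hreg : ∀ x : X, IsRegularLocalRing (X.presheaf.stalk x) :=
    fun x => VBCurve.hreg_of_smooth k X x
  obtain ⟨ω, hωdef⟩ : ∃ ω : X.Modules, ω = Omega.sheaf (X ↘ Spec (CommRingCat.of k)) :=
    ⟨_, rfl⟩
  have hω : PicF.IsInvertible ω := hωdef ▸ OmField.isInvertible_Omega k X hdim
  have hdegω : Curv2.deg k X ω 1 = 2 * (Curv2.genus k X : ℤ) - 2 :=
    hωdef ▸ OmField.deg_Omega k X hdim
  have hh0ω : Module.finrank k (Coh.HH X ω 0) = Curv2.genus k X :=
    hωdef ▸ OmField.finrank_HH0_Omega k X hdim
  have hdegω' : Curv2.deg k X ω 1 = ((2 * Curv2.genus k X - 2 : ℕ) : ℤ) := by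
    rw [hdegω]
    have : 2 ≤ 2 * Curv2.genus k X := by omega
    push_cast [Nat.cast_sub this]
    ring
  by_cases hperf : PerfectField k
  · -- the perfect case: any zero of a nonzero differential
    obtain ⟨σ, hσ⟩ := CurveRR.exists_section_of_finrank_pos k X ω (by rw [hh0ω]; omega)
    have hne : ((CohB1.genLocus ω σ : Set X)ᶜ).Nonempty := by
      by_contra hemp
      rw [Set.not_nonempty_iff_eq_empty, Set.compl_empty_iff] at hemp
      have htop : CohB1.genLocus ω σ = ⊤ := by
        ext y
        simp [hemp]
      haveI := NefTriv.isIso_of_genLocus_eq_top σ htop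
      have := CurveTens.deg_of_iso k X (asIso σ) 1
      rw [CurveDeg.deg_structureModule, hdegω] at this
      omega
    obtain ⟨q, hqmem, hq⟩ :=
      IsClosed.exists_closed_singleton (CohB1.genLocus ω σ).isOpen.isClosed_compl hne
    have hqgen : ¬ CurveLin.GenAt ω σ q := by
      rw [CurvePt.genAt_iff_mem_genLocus]
      exact hqmem
    have hdeg := ptDeg_le_of_not_genAt k X hdim hω σ hσ q hq (hreg q) hqgen
    rw [hdegω'] at hdeg
    have hpt := P1Iso.ptDeg_eq_finrank_residueField k X q hq
    have hpt1 := EllPic.one_le_ptDeg k X q hq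
    haveI hfd : FiniteDimensional k (X.residueField q) := by
      apply Module.finite_of_finrank_pos
      rw [← hpt]
      omega
    haveI : Algebra.IsAlgebraic k (X.residueField q) := Algebra.IsAlgebraic.of_finite _ _
    refine ⟨q, hq, Algebra.IsAlgebraic.isSeparable_of_perfectField, ?_, hfd⟩
    rw [← hpt]
    exact_mod_cast hdeg
  · -- the imperfect case
    obtain ⟨p, hp⟩ := ExpChar.exists k
    cases hp with
    | zero => exact absurd PerfectField.ofCharZero hperf
    | prime hprime =>
      haveI : Fact p.Prime := ⟨hprime⟩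
      haveI : Infinite k := by
        by_contra h
        haveI := not_infinite_iff_finite.mp h
        exact hperf PerfectField.ofFinite
      haveI : CharP X.functionField p :=
        charP_of_injective_algebraMap (algebraMap k X.functionField).injective p
      haveI : ExpChar X.functionField p := ExpChar.prime hprime
      obtain ⟨s, hs⟩ := OmLin.exists_linIndep_of_le_finrank k X ω
        (n := (Curv2.genus k X - 1) + 1) (by rw [hh0ω]; omega)
      have hLS : LinSer.IsLinSer k X ω (2 * Curv2.genus k X - 2) (Curv2.genus k X - 1) s :=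
        ⟨hω, hdegω', hs⟩
      have hdr : 2 * Curv2.genus k X - 2 ≤ p * (Curv2.genus k X - 1) := by
        calc 2 * Curv2.genus k X - 2 = 2 * (Curv2.genus k X - 1) := by omega
          _ ≤ p * (Curv2.genus k X - 1) := Nat.mul_le_mul_right _ hprime.two_le
      obtain ⟨i, j, hij, c, hcE, hc⟩ := exists_ratio_not_mem k p X hdim h0 (by omega)
        (2 * Curv2.genus k X - 2) (Curv2.genus k X - 1) (by omega) hdr ω s hLS
      have hLS₂ := isLinSer_pencil k X s hLS i j hij
      obtain ⟨φ, α, hφ, hα⟩ := LinSerMor.exists_morphism k X hdim hreg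
        (2 * Curv2.genus k X - 2) 1 ω _ hLS₂
      obtain ⟨hξ, V, hVne, hV⟩ := generic_and_etale k p X hdim h0
        (2 * Curv2.genus k X - 2) ω _ hLS₂ φ α hφ hα c hcE hc
      exact exists_point_of_etale k X hdim (2 * Curv2.genus k X - 2) ω _ hLS₂ φ α hφ hα hξ
        V hVne hV

end Final

end CSepPt
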