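import Mathlib
import Groth.Prelude

set_option autoImplicit false
set_option linter.style.haveILetI false
set_option linter.unusedVariables false

universe u

open CategoryTheory AlgebraicGeometry TopologicalSpace

namespace Groth.Agent.Lib.CurveSubH4

theorem main {k : Type u} [Field k]
    {E G : Scheme.{u}} (f : E ⟶ Spec (CommRingCat.of k)) [LocallyOfFiniteType f] [QuasiCompact f]
    [IsIntegral E] (hdim : topologicalKrullDim ↥E = 1) (ι : G ⟶ E) [IsClosedImmersion ι] :
    IsIso ι ∨ IsFinite (ι ≫ f) := by
  classical
  by_cases hsurj : Function.Surjective ι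
  · left
    haveI : Surjective ι := ⟨hsurj⟩
    exact isIso_of_isClosedImmersion_of_surjective ι
  · right
    haveI : LocallyOfFiniteType (ι ≫ f) := inferInstance
    haveI : QuasiCompact (ι ≫ f) := inferInstance
    haveI : IsLocallyNoetherian G := LocallyOfFiniteType.isLocallyNoetherian (ι ≫ f)
    have hce : Topology.IsClosedEmbedding ι := ι.isClosedEmbedding
    have hcont : Continuous ι := ι.continuous
    have hind : Topology.IsInducing ι := hce.toIsEmbedding.toIsInducing
    have hdimG : topologicalKrullDim G ≤ 0 := by
      rw [topologicalKrullDim, Order.krullDim_nonpos_iff_forall_isMax]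
      intro Z Y hZY
      have hE : Order.krullDim (IrreducibleCloseds E) ≤ 1 := by
        rw [← topologicalKrullDim, hdim]
      rcases (Order.krullDim_le_one_iff.mp hE) (IrreducibleCloseds.map ι hcont Y) with hmin | hmax
      · have h1 : IrreducibleCloseds.map ι hcont Z ≤ IrreducibleCloseds.map ι hcont Y :=
          IrreducibleCloseds.map_mono hcont hZY
        have h2 : IrreducibleCloseds.map ι hcont Y ≤ IrreducibleCloseds.map ι hcont Z := hmin h1
        have h3 : IrreducibleCloseds.map ι hcont Z = IrreducibleCloseds.map ι hcont Y :=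
          le_antisymm h1 h2
        have h4 : Z = Y := IrreducibleCloseds.map_injective_of_isInducing hind h3
        rw [h4]
      · exfalso
        let top : IrreducibleCloseds E :=
          ⟨Set.univ, IrreducibleSpace.isIrreducible_univ E, isClosed_univ⟩
        have h1 : IrreducibleCloseds.map ι hcont Y ≤ top :=
          SetLike.coe_subset_coe.mp (fun x _ => Set.mem_univ x)
        have h2 : top ≤ IrreducibleCloseds.map ι hcont Y := hmax h1
        have h3 : (Set.univ : Set E) ⊆ closure (ι '' (Y : Set G)) := SetLike.coe_subset_coe.mpr h2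
        have h4 : closure (ι '' (Y : Set G)) ⊆ Set.range ι :=
          closure_minimal (Set.image_subset_range _ _) hce.isClosed_range
        apply hsurj
        intro x
        exact h4 (h3 (Set.mem_univ x))
    haveI : IsLocallyArtinian G := .of_topologicalKrullDim_le_zero hdimG
    haveI : CompactSpace G := QuasiCompact.compactSpace_of_compactSpace (ι ≫ f)
    haveI : IsArtinianScheme G := {}
    haveI : Finite G := inferInstance
    haveI : DiscreteTopology G := inferInstance
    haveI : IsAffine G := inferInstance
    rw [HasAffineProperty.iff_of_isAffine (P := @IsFinite)]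
    refine ⟨inferInstance, ?_⟩
    have hft : RingHom.FiniteType (ι ≫ f).appTop.hom :=
      (HasRingHomProperty.iff_of_isAffine (P := @LocallyOfFiniteType)).mp inferInstance
    haveI : IsJacobsonRing Γ(Spec (CommRingCat.of k), ⊤) :=
      isJacobsonRing_of_surjective (R := k)
        ⟨(Scheme.ΓSpecIso (CommRingCat.of k)).inv.hom,
          (Scheme.ΓSpecIso (CommRingCat.of k)).commRingCatIsoToRingEquiv.symm.surjective⟩
    haveI : IsArtinianRing Γ(G, ⊤) := inferInstance
    letI : Algebra Γ(Spec (CommRingCat.of k), ⊤) Γ(G, ⊤) := (ι ≫ f).appTop.hom.toAlgebra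
    haveI : Algebra.FiniteType Γ(Spec (CommRingCat.of k), ⊤) Γ(G, ⊤) := hft
    exact Module.finite_of_isArtinianRing Γ(Spec (CommRingCat.of k), ⊤) Γ(G, ⊤)

end Groth.Agent.Lib.CurveSubH4
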