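import Groth.Agent.Lib.CurveTan_helper1

open W4c5m1nsnscurves MvPolynomial
open Groth.Agent.Lib.CurveIsoH1

universe u

noncomputable section

namespace Groth.Agent.Lib.CurveTanH1

variable (k : Type u) [Field k] (m : ℕ)

lemma decomp (u : URing k m) : ∃ c : k, u - algebraMap k (URing k m) c ∈ uorigin k m := by
  obtain ⟨p, rfl⟩ := Ideal.Quotient.mk_surjective u
  induction p using MvPolynomial.induction_on with
  | C r =>
    refine ⟨r, ?_⟩
    rw [show algebraMap k (URing k m) r = Ideal.Quotient.mk _ (C r) from rfl, sub_self]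
    exact zero_mem _
  | add p q hp hq =>
    obtain ⟨c1, h1⟩ := hp
    obtain ⟨c2, h2⟩ := hq
    refine ⟨c1 + c2, ?_⟩
    rw [map_add, map_add]
    have := Ideal.add_mem _ h1 h2
    convert this using 1
    ring
  | mul_X p g _ =>
    refine ⟨0, ?_⟩
    rw [map_zero, sub_zero, map_mul]
    exact Ideal.mul_mem_left _ _ (Ideal.subset_span ⟨g, rfl⟩)

lemma usmul_eq (u : URing k m) (c : k) (hc : u - algebraMap k (URing k m) c ∈ uorigin k m)
    (y : (uorigin k m).Cotangent) : u • y = c • y := by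
  obtain ⟨x, rfl⟩ := Ideal.toCotangent_surjective _ y
  have h1 : u • (uorigin k m).toCotangent x = (uorigin k m).toCotangent (u • x) :=
    (map_smul _ u x).symm
  have h2 : c • (uorigin k m).toCotangent x =
      (uorigin k m).toCotangent (algebraMap k (URing k m) c • x) := by
    rw [← smul_cot]; exact (map_smul _ _ x).symm
  rw [h1, h2, Ideal.toCotangent_eq]
  show u * (x : URing k m) - algebraMap k (URing k m) c * (x : URing k m) ∈ _
  rw [← sub_mul, pow_two]
  exact Ideal.mul_mem_mul hc x.2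

lemma ugen_mem (g : UGen m) : ugen k m g ∈ uorigin k m := Ideal.subset_span ⟨g, rfl⟩

lemma gen_mem (hm : 2 ≤ m) (g : UGen m) :
    (uorigin k m).toCotangent (gen k m g) ∈ Submodule.span k (Set.range (v k m)) := by
  have hv : ∀ t, v k m t ∈ Submodule.span k (Set.range (v k m)) :=
    fun t => Submodule.subset_span ⟨t, rfl⟩
  have h01 : (⟨0, by omega⟩ : Fin m) ≠ ⟨1, by omega⟩ := by simp [Fin.ext_iff]
  cases g with
  | a => exact hv (tA m)
  | ci i => exact hv (tC m i)
  | cbi i => exact hv (tB m i)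
  | c =>
    have h0 : (uorigin k m).toCotangent (gen k m .c) = 0 := by
      rw [Ideal.toCotangent_eq_zero, pow_two]
      have hQ := uQ k m ⟨0, by omega⟩ ⟨1, by omega⟩ h01
      have h1 : ugen k m .c = ugen k m (.cij ⟨1, by omega⟩ ⟨0, by omega⟩ h01.symm) *
          ugen k m (.ci ⟨1, by omega⟩) + ugen k m (.cij ⟨0, by omega⟩ ⟨1, by omega⟩ h01) *
          ugen k m (.ci ⟨0, by omega⟩) -
          ugen k m (.ci ⟨0, by omega⟩) * ugen k m (.ci ⟨1, by omega⟩) := by
        linear_combination (-1) * hQ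
      show ugen k m .c ∈ _
      rw [h1]
      exact Ideal.sub_mem _ (Ideal.add_mem _ (Ideal.mul_mem_mul (ugen_mem k m _) (ugen_mem k m _))
        (Ideal.mul_mem_mul (ugen_mem k m _) (ugen_mem k m _)))
        (Ideal.mul_mem_mul (ugen_mem k m _) (ugen_mem k m _))
    rw [h0]; exact zero_mem _
  | cb =>
    have h0 : (uorigin k m).toCotangent (gen k m .cb) = 0 := by
      rw [Ideal.toCotangent_eq_zero, pow_two]
      have hQ := uQb k m ⟨0, by omega⟩ ⟨1, by omega⟩ h01
      have h1 : ugen k m .cb = ugen k m (.cij ⟨1, by omega⟩ ⟨0, by omega⟩ h01.symm) *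
          ugen k m (.cbi ⟨0, by omega⟩) + ugen k m (.cij ⟨0, by omega⟩ ⟨1, by omega⟩ h01) *
          ugen k m (.cbi ⟨1, by omega⟩) -
          ugen k m (.cbi ⟨0, by omega⟩) * ugen k m (.cbi ⟨1, by omega⟩) := by
        linear_combination (-1) * hQ
      show ugen k m .cb ∈ _
      rw [h1]
      exact Ideal.sub_mem _ (Ideal.add_mem _ (Ideal.mul_mem_mul (ugen_mem k m _) (ugen_mem k m _))
        (Ideal.mul_mem_mul (ugen_mem k m _) (ugen_mem k m _)))
        (Ideal.mul_mem_mul (ugen_mem k m _) (ugen_mem k m _))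
    rw [h0]; exact zero_mem _
  | cij i j h =>
    rcases lt_or_gt_of_ne h with hlt | hgt
    · exact hv (tP m j ⟨i, hlt⟩)
    · have hL := uL k m i j h
      have h1 : gen k m (.cij i j h) = gen k m .a + gen k m (.ci i) + gen k m (.cbi i) +
          gen k m (.ci j) + gen k m (.cbi j) - gen k m (.cij j i h.symm) := by
        apply Subtype.ext
        simp only [gen, Submodule.coe_add, Submodule.coe_sub]
        linear_combination hL
      rw [h1, map_sub, map_add, map_add, map_add, map_add]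
      exact Submodule.sub_mem _ (Submodule.add_mem _ (Submodule.add_mem _ (Submodule.add_mem _
        (Submodule.add_mem _ (hv (tA m)) (hv (tC m i))) (hv (tB m i))) (hv (tC m j)))
        (hv (tB m j))) (hv (tP m i ⟨j, hgt⟩))

lemma v_span (hm : 2 ≤ m) : ⊤ ≤ Submodule.span k (Set.range (v k m)) := by
  rintro y -
  obtain ⟨⟨x, hx⟩, rfl⟩ := Ideal.toCotangent_surjective _ y
  induction hx using Submodule.span_induction with
  | mem z hz => obtain ⟨g, rfl⟩ := hz; exact gen_mem k m hm g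
  | zero =>
    have h0 : (⟨0, zero_mem _⟩ : uorigin k m) = 0 := rfl
    rw [h0, map_zero]; exact zero_mem _
  | add a b ha hb iha ihb =>
    have h0 : (⟨a + b, Submodule.add_mem _ ha hb⟩ : uorigin k m) = ⟨a, ha⟩ + ⟨b, hb⟩ := rfl
    rw [h0, map_add]; exact Submodule.add_mem _ iha ihb
  | smul r a ha iha =>
    have h0 : (⟨r • a, Submodule.smul_mem _ r ha⟩ : uorigin k m) = r • ⟨a, ha⟩ := rfl
    rw [h0, map_smul]
    obtain ⟨c, hc⟩ := decomp k m r
    rw [usmul_eq k m r c hc]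
    exact Submodule.smul_mem _ c iha

theorem finrank_cot (hm : 2 ≤ m) :
    Module.finrank k (uorigin k m).Cotangent = Fintype.card (T m) := by
  classical
  exact Module.finrank_eq_card_basis (Module.Basis.mk (v_li k m) (v_span k m hm))

lemma card_T (hm : 2 ≤ m) : Fintype.card (T m) = (m + 2) * (m + 1) / 2 := by
  have h1 : Fintype.card (T m) = 1 + (m + (m + ∑ i ∈ Finset.range m, i)) := by
    simp only [T, Fintype.card_option, Fintype.card_sum, Fintype.card_fin, Fintype.card_sigma]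
    rw [Fin.sum_univ_eq_sum_range (fun i => i) m]
    ring
  obtain ⟨q, rfl⟩ : ∃ q, m = q + 2 := ⟨m - 2, by omega⟩
  have hs := Finset.sum_range_id_mul_two (q + 2)
  have h2 : q + 2 - 1 = q + 1 := by omega
  rw [h2] at hs
  rw [h1]
  symm
  apply Nat.div_eq_of_eq_mul_left (by norm_num : 0 < 2)
  nlinarith [hs]

theorem adjoin_top (hm : 2 ≤ m) :
    Algebra.adjoin ℤ ({ugen ℤ m .a} ∪ Set.range (fun i : Fin m => ugen ℤ m (.ci i)) ∪
        Set.range (fun i : Fin m => ugen ℤ m (.cbi i)) ∪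
        Set.range (fun q : {q : Fin m × Fin m // q.1 < q.2} =>
          ugen ℤ m (.cij q.1.1 q.1.2 (ne_of_lt q.2)))) = ⊤ := by
  set S : Set (URing ℤ m) := ({ugen ℤ m .a} ∪ Set.range (fun i : Fin m => ugen ℤ m (.ci i)) ∪
        Set.range (fun i : Fin m => ugen ℤ m (.cbi i)) ∪
        Set.range (fun q : {q : Fin m × Fin m // q.1 < q.2} =>
          ugen ℤ m (.cij q.1.1 q.1.2 (ne_of_lt q.2)))) with hS
  have h01 : (⟨0, by omega⟩ : Fin m) ≠ ⟨1, by omega⟩ := by simp [Fin.ext_iff]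
  have ha : ugen ℤ m .a ∈ Algebra.adjoin ℤ S :=
    Algebra.subset_adjoin (Or.inl (Or.inl (Or.inl (Set.mem_singleton _))))
  have hci : ∀ i, ugen ℤ m (.ci i) ∈ Algebra.adjoin ℤ S :=
    fun i => Algebra.subset_adjoin (Or.inl (Or.inl (Or.inr ⟨i, rfl⟩)))
  have hcbi : ∀ i, ugen ℤ m (.cbi i) ∈ Algebra.adjoin ℤ S :=
    fun i => Algebra.subset_adjoin (Or.inl (Or.inr ⟨i, rfl⟩))
  have hlt : ∀ i j (h : i < j), ugen ℤ m (.cij i j (ne_of_lt h)) ∈ Algebra.adjoin ℤ S :=
    fun i j h => Algebra.subset_adjoin (Or.inr ⟨⟨(i, j), h⟩, rfl⟩)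
  have hcij : ∀ i j (h : i ≠ j), ugen ℤ m (.cij i j h) ∈ Algebra.adjoin ℤ S := by
    intro i j h
    rcases lt_or_gt_of_ne h with h1 | h1
    · exact hlt i j h1
    · have hL := uL ℤ m i j h
      have h2 : ugen ℤ m (.cij i j h) = ugen ℤ m .a + ugen ℤ m (.ci i) + ugen ℤ m (.cbi i) +
          ugen ℤ m (.ci j) + ugen ℤ m (.cbi j) - ugen ℤ m (.cij j i h.symm) := by
        linear_combination hL
      rw [h2]
      exact Subalgebra.sub_mem _ (Subalgebra.add_mem _ (Subalgebra.add_mem _ (Subalgebra.add_mem _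
        (Subalgebra.add_mem _ ha (hci i)) (hcbi i)) (hci j)) (hcbi j)) (hlt j i h1)
  have hall : ∀ g, ugen ℤ m g ∈ Algebra.adjoin ℤ S := by
    intro g
    cases g with
    | a => exact ha
    | ci i => exact hci i
    | cbi i => exact hcbi i
    | cij i j h => exact hcij i j h
    | c =>
      have hQ := uQ ℤ m ⟨0, by omega⟩ ⟨1, by omega⟩ h01
      have h1 : ugen ℤ m .c = ugen ℤ m (.cij ⟨1, by omega⟩ ⟨0, by omega⟩ h01.symm) *
          ugen ℤ m (.ci ⟨1, by omega⟩) + ugen ℤ m (.cij ⟨0, by omega⟩ ⟨1, by omega⟩ h01) *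
          ugen ℤ m (.ci ⟨0, by omega⟩) -
          ugen ℤ m (.ci ⟨0, by omega⟩) * ugen ℤ m (.ci ⟨1, by omega⟩) := by
        linear_combination (-1) * hQ
      rw [h1]
      exact Subalgebra.sub_mem _ (Subalgebra.add_mem _ (Subalgebra.mul_mem _ (hcij _ _ _) (hci _))
        (Subalgebra.mul_mem _ (hcij _ _ _) (hci _))) (Subalgebra.mul_mem _ (hci _) (hci _))
    | cb =>
      have hQ := uQb ℤ m ⟨0, by omega⟩ ⟨1, by omega⟩ h01
      have h1 : ugen ℤ m .cb = ugen ℤ m (.cij ⟨1, by omega⟩ ⟨0, by omega⟩ h01.symm) *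
          ugen ℤ m (.cbi ⟨0, by omega⟩) + ugen ℤ m (.cij ⟨0, by omega⟩ ⟨1, by omega⟩ h01) *
          ugen ℤ m (.cbi ⟨1, by omega⟩) -
          ugen ℤ m (.cbi ⟨0, by omega⟩) * ugen ℤ m (.cbi ⟨1, by omega⟩) := by
        linear_combination (-1) * hQ
      rw [h1]
      exact Subalgebra.sub_mem _ (Subalgebra.add_mem _ (Subalgebra.mul_mem _ (hcij _ _ _) (hcbi _))
        (Subalgebra.mul_mem _ (hcij _ _ _) (hcbi _))) (Subalgebra.mul_mem _ (hcbi _) (hcbi _))
  rw [eq_top_iff]
  rintro u -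
  obtain ⟨p, rfl⟩ := Ideal.Quotient.mk_surjective u
  induction p using MvPolynomial.induction_on with
  | C r =>
    show algebraMap ℤ (URing ℤ m) r ∈ _
    exact Subalgebra.algebraMap_mem _ r
  | add p q hp hq => rw [map_add]; exact Subalgebra.add_mem _ hp hq
  | mul_X p g hp => rw [map_mul]; exact Subalgebra.mul_mem _ hp (hall g)

theorem main18248 (m : ℕ) (hm : 2 ≤ m) :
    (∀ (k : Type u) [Field k],
      Module.finrank k (uorigin k m).Cotangent = (m + 2) * (m + 1) / 2) ∧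
    Algebra.adjoin ℤ ({ugen ℤ m .a} ∪ Set.range (fun i : Fin m => ugen ℤ m (.ci i)) ∪
        Set.range (fun i : Fin m => ugen ℤ m (.cbi i)) ∪
        Set.range (fun q : {q : Fin m × Fin m // q.1 < q.2} =>
          ugen ℤ m (.cij q.1.1 q.1.2 (ne_of_lt q.2)))) = ⊤ :=
  ⟨fun k _ => by rw [finrank_cot k m hm, card_T m hm], adjoin_top m hm⟩

end Groth.Agent.Lib.CurveTanH1

end
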