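import Groth.Agent.Lib.CurveIso_helper1

open W4c5m1nsnscurves MvPolynomial
open Groth.Agent.Lib.CurveIsoH1

universe u

noncomputable section

namespace Groth.Agent.Lib.CurveTanH1

/-- index type for the weight-one generators -/
abbrev T (m : ℕ) : Type := Option (Fin m ⊕ (Fin m ⊕ (Σ j : Fin m, Fin j)))

variable (k : Type u) [Field k] (m : ℕ)

/-- tangent directions -/
abbrev V : Type u := T m → k

def δ (t : T m) : V k m := Pi.single t 1

def tA : T m := none
def tC (i : Fin m) : T m := some (Sum.inl i)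
def tB (i : Fin m) : T m := some (Sum.inr (Sum.inl i))
def tP (j : Fin m) (i : Fin j) : T m := some (Sum.inr (Sum.inr ⟨j, i⟩))

def e : UGen m → V k m
  | .a => δ k m (tA m)
  | .c => 0
  | .cb => 0
  | .ci i => δ k m (tC m i)
  | .cbi i => δ k m (tB m i)
  | .cij i j hne =>
      if h : i < j then δ k m (tP m j ⟨i, h⟩)
      else δ k m (tA m) + δ k m (tC m i) + δ k m (tB m i) + δ k m (tC m j) + δ k m (tB m j) -
        δ k m (tP m i ⟨j, (show j < i from lt_of_le_of_ne (not_lt.1 h) (Ne.symm hne))⟩)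

abbrev D : Type u := TrivSqZeroExt k (V k m)

def θ₀ : MvPolynomial (UGen m) k →ₐ[k] D k m :=
  aeval (fun g => (TrivSqZeroExt.inr (e k m g) : D k m))

lemma e_lin (i j : Fin m) (h : i ≠ j) :
    e k m (.cij i j h) + e k m (.cij j i h.symm) =
      e k m .a + e k m (.ci i) + e k m (.cbi i) + e k m (.ci j) + e k m (.cbi j) := by
  rcases lt_or_gt_of_ne h with hlt | hgt
  · simp only [e, dif_pos hlt, dif_neg (not_lt.2 hlt.le)]
    abel
  · simp only [e, dif_pos hgt, dif_neg (not_lt.2 hgt.le)]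
    abel

lemma θ₀_rel (p : MvPolynomial (UGen m) k) (hp : p ∈ URel k m) : θ₀ k m p = 0 := by
  rcases hp with ((⟨⟨⟨i, j⟩, h⟩, rfl⟩ | ⟨⟨⟨i, j⟩, h⟩, rfl⟩) | ⟨⟨⟨i, j⟩, h⟩, rfl⟩) |
    ⟨⟨⟨i, j, l⟩, h1, h2, h3⟩, rfl⟩
  · dsimp only at h
    simp only [θ₀, map_sub, map_add, aeval_X, ← TrivSqZeroExt.inr_add]
    rw [e_lin k m i j h, sub_self]
  · simp [θ₀, add_mul, TrivSqZeroExt.inr_mul_inr, e]
  · simp [θ₀, add_mul, TrivSqZeroExt.inr_mul_inr, e]
  · simp [θ₀, add_mul, TrivSqZeroExt.inr_mul_inr, e]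

def θ : URing k m →ₐ[k] D k m :=
  Ideal.Quotient.liftₐ _ (θ₀ k m) (fun p hp => by
    induction hp using Submodule.span_induction with
    | mem q hq => exact θ₀_rel k m q hq
    | zero => simp
    | add x y _ _ hx hy => rw [map_add, hx, hy, add_zero]
    | smul r x _ hx => rw [smul_eq_mul, map_mul, hx, mul_zero])

lemma θ_ugen (g : UGen m) : θ k m (ugen k m g) = TrivSqZeroExt.inr (e k m g) := by
  have h0 : θ k m (ugen k m g) = θ₀ k m (X g) := rfl
  rw [h0, θ₀, aeval_X]

lemma θ_fst (x : URing k m) (hx : x ∈ uorigin k m) : (θ k m x).fst = 0 := by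
  induction hx using Submodule.span_induction with
  | mem y hy => obtain ⟨g, rfl⟩ := hy; rw [θ_ugen]; rfl
  | zero => simp
  | add x y _ _ hx hy => rw [map_add, TrivSqZeroExt.fst_add, hx, hy, add_zero]
  | smul r x _ hx => rw [smul_eq_mul, map_mul, TrivSqZeroExt.fst_mul, hx, mul_zero]

lemma θ_sq (x : URing k m) (hx : x ∈ (uorigin k m) ^ 2) : θ k m x = 0 := by
  have hle : (uorigin k m) ^ 2 ≤ RingHom.ker (θ k m : URing k m →+* D k m) := by
    rw [pow_two, Ideal.mul_le]
    intro r hr s hs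
    rw [RingHom.mem_ker]
    show θ k m (r * s) = 0
    rw [map_mul]
    ext1
    · simp [θ_fst k m r hr]
    · simp [θ_fst k m r hr, θ_fst k m s hs]
  exact hle hx

/-- the generator attached to an index -/
def wg : T m → UGen m
  | none => .a
  | some (Sum.inl i) => .ci i
  | some (Sum.inr (Sum.inl i)) => .cbi i
  | some (Sum.inr (Sum.inr ⟨j, i⟩)) =>
      .cij ⟨i, i.2.trans j.2⟩ j (ne_of_lt (show (⟨i, i.2.trans j.2⟩ : Fin m) < j from i.2))

lemma e_wg (t : T m) : e k m (wg m t) = δ k m t := by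
  rcases t with _ | i | i | ⟨j, i⟩
  · rfl
  · rfl
  · rfl
  · have hlt : (⟨i, i.2.trans j.2⟩ : Fin m) < j := i.2
    simp only [wg, e, dif_pos hlt]
    rfl

/-- generators as elements of the ideal of the origin -/
def gen (g : UGen m) : uorigin k m := ⟨ugen k m g, Ideal.subset_span ⟨g, rfl⟩⟩

/-- the candidate basis of the cotangent space -/
def v (t : T m) : (uorigin k m).Cotangent := (uorigin k m).toCotangent (gen k m (wg m t))

lemma smul_cot (a : k) (y : (uorigin k m).Cotangent) :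
    algebraMap k (URing k m) a • y = a • y := by
  obtain ⟨x, rfl⟩ := Ideal.toCotangent_surjective _ y
  rw [Algebra.algebraMap_eq_smul_one, smul_assoc, ← map_smul _ (1 : URing k m), one_smul]

lemma v_li : LinearIndependent k (v k m) := by
  classical
  rw [Fintype.linearIndependent_iff]
  intro a ha t₀
  have h1 : (uorigin k m).toCotangent
      (∑ t, algebraMap k (URing k m) (a t) • gen k m (wg m t)) = 0 := by
    rw [map_sum, ← ha]
    refine Finset.sum_congr rfl (fun t _ => ?_)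
    rw [map_smul, smul_cot]; rfl
  rw [Ideal.toCotangent_eq_zero] at h1
  have h2 := θ_sq k m _ h1
  have h3 : ((∑ t, algebraMap k (URing k m) (a t) • gen k m (wg m t) : uorigin k m) : URing k m)
      = ∑ t, algebraMap k (URing k m) (a t) * ugen k m (wg m t) := by
    rw [Submodule.coe_sum]
    rfl
  rw [h3, map_sum] at h2
  have h4 : ∀ t, θ k m (algebraMap k (URing k m) (a t) * ugen k m (wg m t)) =
      TrivSqZeroExt.inr (a t • δ k m t) := by
    intro t
    rw [map_mul, AlgHom.commutes, θ_ugen, e_wg, TrivSqZeroExt.algebraMap_eq_inl,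
      TrivSqZeroExt.inl_mul_inr]
  simp only [h4] at h2
  have h5 := congrArg (fun z : D k m => z.snd t₀) h2
  simp only [TrivSqZeroExt.snd_sum, TrivSqZeroExt.snd_inr, TrivSqZeroExt.snd_zero,
    Finset.sum_apply, Pi.smul_apply, Pi.zero_apply, δ, Pi.single_apply, smul_eq_mul,
    mul_ite, mul_one, mul_zero, Finset.sum_ite_eq, Finset.mem_univ, if_true] at h5
  exact h5

end Groth.Agent.Lib.CurveTanH1

end
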