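import Mathlib
import Groth.Agent.Lib.OverField_helper7
import Groth.Agent.Lib.ProperBirat2_helper7

set_option autoImplicit false
universe u
open CategoryTheory CategoryTheory.Limits AlgebraicGeometry

namespace Groth.Agent.Lib.CurveValH7

theorem isLocalHom_of_bijective {R S : Type*} [CommRing R] [CommRing S] (f : R →+* S)
    (hf : Function.Bijective f) : IsLocalHom f := by
  constructor
  intro a ha
  obtain ⟨b, hb⟩ := ha.exists_right_inv
  obtain ⟨a', rfl⟩ := hf.2 b
  exact IsUnit.of_mul_eq_one a' (hf.1 (by rw [map_mul, hb, map_one]))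

/-- In a separated integral scheme, a point is determined by its local ring as a subring of the
function field. -/
theorem eq_of_range_eq {X : Scheme.{u}} [IsIntegral X] [X.IsSeparated] (x y : X)
    (h : Set.range (algebraMap (X.presheaf.stalk x) X.functionField) =
      Set.range (algebraMap (X.presheaf.stalk y) X.functionField)) : x = y := by
  obtain ⟨A, hA⟩ : ∃ A : Subring X.functionField,
      A = (algebraMap (X.presheaf.stalk x) X.functionField).range := ⟨_, rfl⟩
  have hxA : ∀ a : X.presheaf.stalk x,
      algebraMap (X.presheaf.stalk x) X.functionField a ∈ A := fun a => by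
    rw [hA]; exact ⟨a, rfl⟩
  have hyA : ∀ a : X.presheaf.stalk y,
      algebraMap (X.presheaf.stalk y) X.functionField a ∈ A := fun a => by
    rw [hA]
    have : algebraMap (X.presheaf.stalk y) X.functionField a ∈
        Set.range (algebraMap (X.presheaf.stalk x) X.functionField) := by
      rw [h]; exact ⟨a, rfl⟩
    exact this
  let θx : X.presheaf.stalk x →+* A :=
    (algebraMap (X.presheaf.stalk x) X.functionField).codRestrict A hxA
  let θy : X.presheaf.stalk y →+* A :=
    (algebraMap (X.presheaf.stalk y) X.functionField).codRestrict A hyA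
  have hθx : Function.Bijective θx := by
    constructor
    · intro a b hab
      apply IsFractionRing.injective (X.presheaf.stalk x) X.functionField
      exact congrArg Subtype.val hab
    · rintro ⟨b, hb⟩
      rw [hA] at hb
      obtain ⟨a, rfl⟩ := hb
      exact ⟨a, rfl⟩
  have hθy : Function.Bijective θy := by
    constructor
    · intro a b hab
      apply IsFractionRing.injective (X.presheaf.stalk y) X.functionField
      exact congrArg Subtype.val hab
    · rintro ⟨b, hb⟩
      rw [hA] at hb
      have : b ∈ Set.range (algebraMap (X.presheaf.stalk y) X.functionField) := by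
        rw [← h]; exact hb
      obtain ⟨a, rfl⟩ := this
      exact ⟨a, rfl⟩
  haveI : IsLocalRing A := IsLocalRing.of_surjective' θx hθx.2
  haveI : IsLocalHom θx := isLocalHom_of_bijective _ hθx
  haveI : IsLocalHom θy := isLocalHom_of_bijective _ hθy
  haveI : IsLocalHom (CommRingCat.ofHom θx).hom := ‹IsLocalHom θx›
  haveI : IsLocalHom (CommRingCat.ofHom θy).hom := ‹IsLocalHom θy›
  let ι : CommRingCat.of A ⟶ X.functionField := CommRingCat.ofHom A.subtype
  haveI : IsDominant (Spec.map ι) := ⟨by
    show DenseRange (PrimeSpectrum.comap ι.hom)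
    rw [PrimeSpectrum.denseRange_comap_iff_ker_le_nilRadical,
      (RingHom.injective_iff_ker_eq_bot _).mp (show Function.Injective ι.hom from
        Subtype.val_injective)]
    exact bot_le⟩
  have key : Spec.map (CommRingCat.ofHom θx) ≫ X.fromSpecStalk x =
      Spec.map (CommRingCat.ofHom θy) ≫ X.fromSpecStalk y := by
    apply ext_of_isDominant (Spec.map ι)
    rw [← Category.assoc, ← Spec.map_comp, ← Category.assoc, ← Spec.map_comp]
    have e1 : CommRingCat.ofHom θx ≫ ι =
        X.presheaf.stalkSpecializes (genericPoint_specializes x) := rfl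
    have e2 : CommRingCat.ofHom θy ≫ ι =
        X.presheaf.stalkSpecializes (genericPoint_specializes y) := rfl
    rw [e1, e2, Scheme.SpecMap_stalkSpecializes_fromSpecStalk,
      Scheme.SpecMap_stalkSpecializes_fromSpecStalk]
  have h1 : (Spec.map (CommRingCat.ofHom θx) ≫ X.fromSpecStalk x) (IsLocalRing.closedPoint A) = x := by
    rw [Scheme.Hom.comp_apply, Spec_closedPoint, Scheme.fromSpecStalk_closedPoint]
  have h2 : (Spec.map (CommRingCat.ofHom θy) ≫ X.fromSpecStalk y) (IsLocalRing.closedPoint A) = y := by
    rw [Scheme.Hom.comp_apply, Spec_closedPoint, Scheme.fromSpecStalk_closedPoint]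
  rw [← h1, ← h2, key]

/-- On a quasi-compact integral scheme whose closed points have one-dimensional local rings,
every non-generic point is closed. -/
theorem isClosed_of_ne_genericPoint {X : Scheme.{u}} [IsIntegral X] [CompactSpace X]
    (hX : ∀ x : X, IsClosed ({x} : Set X) → ringKrullDim (X.presheaf.stalk x) = 1)
    (x : X) (hxξ : x ≠ genericPoint X) : IsClosed ({x} : Set X) := by
  by_contra hncl
  obtain ⟨z, hz1, hz2⟩ := (isClosed_closure (s := ({x} : Set X))).exists_closed_singleton
    ⟨x, subset_closure rfl⟩
  have hxz : x ⤳ z := specializes_iff_mem_closure.mpr hz1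
  have hne : z ≠ x := by rintro rfl; exact hncl hz2
  have hdimz := hX z hz2
  rw [ringKrullDim_stalk_eq_coheight] at hdimz
  have hz_lt_x : z < x :=
    lt_of_le_not_ge hxz (fun hzx : z ⤳ x => hne ((hxz.antisymm hzx).eq).symm)
  have hx_lt_ξ : x < genericPoint X :=
    lt_of_le_not_ge (genericPoint_specializes x)
      (fun h : x ⤳ genericPoint X => hxξ ((h.antisymm (genericPoint_specializes x)).eq))
  have h1 : Order.coheight z ≤ ((1 : ℕ) : ℕ∞) := by exact_mod_cast hdimz.le
  have h2 := (Order.coheight_le_coe_iff (n := 1)).mp h1 x hz_lt_x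
  have h3 : Order.coheight x = 0 := by
    have : Order.coheight x < 1 := by exact_mod_cast h2
    exact ENat.lt_one_iff_eq_zero.mp this
  have h4 : IsMax x := Order.coheight_eq_zero.mp h3
  exact hx_lt_ξ.not_ge (h4 hx_lt_ξ.le)

/-- The local ring at a point, if a valuation ring, as a valuation subring of the function
field. -/
theorem exists_valuationSubring {X : Scheme.{u}} [IsIntegral X] (x : X)
    [ValuationRing (X.presheaf.stalk x)] :
    ∃ R : ValuationSubring X.functionField, (R : Set X.functionField) =
      Set.range (algebraMap (X.presheaf.stalk x) X.functionField) := by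
  refine ⟨{ (algebraMap (X.presheaf.stalk x) X.functionField).range with
    mem_or_inv_mem' := ?_ }, rfl⟩
  intro a
  rcases ValuationRing.isInteger_or_isInteger (X.presheaf.stalk x) (K := X.functionField) a with
    ⟨b, hb⟩ | ⟨b, hb⟩
  · exact Or.inl ⟨b, hb⟩
  · exact Or.inr ⟨b, hb⟩

/-- A valuation subring of the function field dominating (via a morphism from its spectrum)
a point whose local ring is a valuation ring equals that local ring. -/
theorem range_eq_of_lift {X : Scheme.{u}} [IsIntegral X]
    (hval : ∀ x : X, ValuationRing (X.presheaf.stalk x))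
    (R : ValuationSubring X.functionField)
    (ℓ : Spec (CommRingCat.of R) ⟶ X)
    (hℓ : Spec.map (CommRingCat.ofHom (algebraMap R X.functionField)) ≫ ℓ =
      X.fromSpecStalk (genericPoint X)) :
    (R : Set X.functionField) = Set.range (algebraMap
      (X.presheaf.stalk (ℓ (IsLocalRing.closedPoint R))) X.functionField) := by
  haveI := hval (ℓ (IsLocalRing.closedPoint R))
  obtain ⟨ψ, hψdef⟩ : ∃ ψ, ψ = Scheme.stalkClosedPointTo ℓ := ⟨_, rfl⟩
  haveI : IsLocalHom ψ.hom := by rw [hψdef]; infer_instance
  have hψ : Spec.map ψ ≫ X.fromSpecStalk _ = ℓ := by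
    rw [hψdef]; exact Scheme.Spec_stalkClosedPointTo_fromSpecStalk ℓ
  have hcomp : ψ ≫ CommRingCat.ofHom (algebraMap R X.functionField) =
      X.presheaf.stalkSpecializes (genericPoint_specializes _) := by
    apply Spec.map_injective
    rw [← cancel_mono (X.fromSpecStalk _), Spec.map_comp, Category.assoc, hψ, hℓ,
      Scheme.SpecMap_stalkSpecializes_fromSpecStalk]
  have hv : ∀ a, algebraMap (X.presheaf.stalk (ℓ (IsLocalRing.closedPoint R))) X.functionField a =
      ((ψ.hom a : R) : X.functionField) := by
    intro a
    have := congrArg (fun f => f.hom a) hcomp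
    exact this.symm
  ext r
  constructor
  · intro hr
    rcases ValuationRing.isInteger_or_isInteger
      (X.presheaf.stalk (ℓ (IsLocalRing.closedPoint R))) (K := X.functionField) r with
      ⟨a, ha⟩ | ⟨a, ha⟩
    · exact ⟨a, ha⟩
    · by_cases hr0 : r = 0
      · exact ⟨0, by rw [map_zero, hr0]⟩
      · have h1 : ((ψ.hom a : R) : X.functionField) = r⁻¹ := by rw [← hv a, ha]
        have h2 : ψ.hom a * ⟨r, hr⟩ = 1 := Subtype.ext (by
          change ((ψ.hom a : R) : X.functionField) * r = 1
          rw [h1, inv_mul_cancel₀ hr0])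
        have h3 : IsUnit (ψ.hom a) := IsUnit.of_mul_eq_one _ h2
        have h4 : IsUnit a := (isUnit_map_iff ψ.hom a).mp h3
        obtain ⟨u, rfl⟩ := h4
        refine ⟨((u⁻¹ : (X.presheaf.stalk (ℓ (IsLocalRing.closedPoint R)))ˣ) :
          X.presheaf.stalk (ℓ (IsLocalRing.closedPoint R))), ?_⟩
        have h5 : algebraMap (X.presheaf.stalk (ℓ (IsLocalRing.closedPoint R))) X.functionField
            ((u⁻¹ : (X.presheaf.stalk (ℓ (IsLocalRing.closedPoint R)))ˣ) :
              X.presheaf.stalk (ℓ (IsLocalRing.closedPoint R))) *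
            algebraMap (X.presheaf.stalk (ℓ (IsLocalRing.closedPoint R))) X.functionField
              (u : X.presheaf.stalk (ℓ (IsLocalRing.closedPoint R))) = 1 := by
          rw [← map_mul, Units.inv_mul, map_one]
        rw [ha] at h5
        calc _ = _ * r⁻¹ * r := by rw [mul_assoc, inv_mul_cancel₀ hr0, mul_one]
          _ = r := by rw [h5, one_mul]
  · rintro ⟨a, rfl⟩
    rw [hv a]
    exact (ψ.hom a).2

end Groth.Agent.Lib.CurveValH7
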