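import Mathlib
import Groth.Statements.S19453

set_option autoImplicit false
universe u

namespace Groth.Agent.Lib.Curvilinear

open Polynomial IsLocalRing

theorem main (k : Type u) [Field k]
    (A : Type u) [CommRing A] [Algebra k A] [IsRegularLocalRing A] (hdim : ringKrullDim A = 2)
    (hres : Function.Surjective (algebraMap k (IsLocalRing.ResidueField A)))
    (I : Ideal A) [Module.Finite k (A ⧸ I)] (n : ℕ) (hn : Module.finrank k (A ⧸ I) = n)
    (h1 : 1 ≤ n)
    (g : A) (hgI : g ∈ I) (hg : g ∉ IsLocalRing.maximalIdeal A ^ 2) :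
    Nonempty ((A ⧸ I) ≃ₐ[k]
      (Polynomial k ⧸ Ideal.span {(Polynomial.X : Polynomial k) ^ n})) := by
  -- Step 1: two generators
  have hfg : (maximalIdeal A).FG := IsNoetherian.noetherian _
  have hsf : (maximalIdeal A).spanFinrank = 2 := by
    have h := IsRegularLocalRing.spanFinrank_maximalIdeal (R := A)
    rw [hdim] at h
    exact_mod_cast h
  have hnc : (Submodule.generators (maximalIdeal A)).ncard = 2 := by
    rw [Submodule.FG.generators_ncard hfg, hsf]
  obtain ⟨u, v, -, huv⟩ := Set.ncard_eq_two.mp hnc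
  have hspan : Ideal.span ({u, v} : Set A) = maximalIdeal A := by
    rw [← huv]; exact Submodule.span_generators (maximalIdeal A)
  have hgm : g ∈ maximalIdeal A := by
    by_contra hgu
    have hu : IsUnit g := IsLocalRing.notMem_maximalIdeal.mp hgu
    have hI : I = ⊤ := Ideal.eq_top_of_isUnit_mem _ hgI hu
    haveI : Subsingleton (A ⧸ I) := Ideal.Quotient.subsingleton_iff.mpr hI
    rw [Module.finrank_zero_of_subsingleton] at hn
    omega
  obtain ⟨α, β, hαβ⟩ := Ideal.mem_span_pair.mp
    (show g ∈ Ideal.span ({u, v} : Set A) by rw [hspan]; exact hgm)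
  have hu_m : u ∈ maximalIdeal A := by
    rw [← hspan]; exact Ideal.subset_span (by simp)
  have hv_m : v ∈ maximalIdeal A := by
    rw [← hspan]; exact Ideal.subset_span (by simp)
  have hex : ∃ h : A, h ∈ maximalIdeal A ∧ maximalIdeal A ≤ Ideal.span ({g, h} : Set A) := by
    by_cases hα : IsUnit α
    · refine ⟨v, hv_m, ?_⟩
      rw [← hspan, Ideal.span_le]
      obtain ⟨α', hα'⟩ := hα.exists_left_inv
      refine Set.insert_subset_iff.mpr ⟨?_, Set.singleton_subset_iff.mpr ?_⟩
      · refine Ideal.mem_span_pair.mpr ⟨α', -(α' * β), ?_⟩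
        linear_combination u * hα' - α' * hαβ
      · exact Ideal.subset_span (by simp)
    · have hα_m : α ∈ maximalIdeal A := by
        rwa [← IsLocalRing.notMem_maximalIdeal, not_not] at hα
      have hβ : IsUnit β := by
        by_contra hβ
        have hβ_m : β ∈ maximalIdeal A := by
          rwa [← IsLocalRing.notMem_maximalIdeal, not_not] at hβ
        apply hg
        rw [← hαβ, pow_two]
        exact Ideal.add_mem _ (Ideal.mul_mem_mul hα_m hu_m) (Ideal.mul_mem_mul hβ_m hv_m)
      refine ⟨u, hu_m, ?_⟩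
      rw [← hspan, Ideal.span_le]
      obtain ⟨β', hβ'⟩ := hβ.exists_left_inv
      refine Set.insert_subset_iff.mpr ⟨?_, Set.singleton_subset_iff.mpr ?_⟩
      · exact Ideal.subset_span (by simp)
      · refine Ideal.mem_span_pair.mpr ⟨β', -(β' * α), ?_⟩
        linear_combination v * hβ' - β' * hαβ
  obtain ⟨h, hh_m, hle⟩ := hex
  have hmkg : Ideal.Quotient.mk I g = 0 := Ideal.Quotient.eq_zero_iff_mem.mpr hgI
  -- Step 3
  have key : ∀ b : A ⧸ I, ∃ (c : k) (b' : A ⧸ I),
      b = algebraMap k (A ⧸ I) c + (Ideal.Quotient.mk I h) * b' := by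
    intro b
    obtain ⟨x, rfl⟩ := Ideal.Quotient.mk_surjective b
    obtain ⟨c, hc⟩ := hres (IsLocalRing.residue A x)
    have e : algebraMap k (ResidueField A) c = IsLocalRing.residue A (algebraMap k A c) := rfl
    have hx : x - algebraMap k A c ∈ maximalIdeal A := by
      rw [← IsLocalRing.residue_eq_zero_iff, map_sub, ← hc, e, sub_self]
    obtain ⟨γ, δ, hγδ⟩ := Ideal.mem_span_pair.mp (hle hx)
    refine ⟨c, Ideal.Quotient.mk I δ, ?_⟩
    have h3 := congrArg (Ideal.Quotient.mk I) hγδ
    rw [map_add, map_mul, map_mul, hmkg, mul_zero, zero_add, map_sub] at h3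
    rw [show algebraMap k (A ⧸ I) c = Ideal.Quotient.mk I (algebraMap k A c) from rfl]
    linear_combination -h3
  -- Step 4
  have hjac : (Ideal.Quotient.mk I h) ∈ Ideal.jacobson (⊥ : Ideal (A ⧸ I)) := by
    rw [Ideal.mem_jacobson_bot]
    intro y
    obtain ⟨y', rfl⟩ := Ideal.Quotient.mk_surjective y
    have hunit : IsUnit (h * y' + 1) := by
      rw [← IsLocalRing.notMem_maximalIdeal]
      intro hmem
      have h1m : (1:A) ∈ maximalIdeal A := by
        have := Ideal.sub_mem _ hmem (Ideal.mul_mem_right y' _ hh_m)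
        simpa using this
      exact (Ideal.ne_top_iff_one _).mp (IsLocalRing.maximalIdeal.isMaximal A).ne_top h1m
    have := hunit.map (Ideal.Quotient.mk I)
    simpa using this
  haveI : IsArtinianRing (A ⧸ I) := IsArtinianRing.of_finite k (A ⧸ I)
  obtain ⟨N, hN⟩ := IsArtinianRing.isNilpotent_jacobson_bot (R := A ⧸ I)
  have hnil : (Ideal.Quotient.mk I h) ^ N = 0 := by
    have := Ideal.pow_mem_pow hjac N
    rw [hN] at this
    simpa using this
  -- Step 5
  let ψ : k[X] →ₐ[k] (A ⧸ I) := Polynomial.aeval (Ideal.Quotient.mk I h)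
  have hstep : ∀ j : ℕ, ∀ b : A ⧸ I, ∃ (p : k[X]) (b' : A ⧸ I),
      b = ψ p + (Ideal.Quotient.mk I h) ^ j * b' := by
    intro j
    induction j with
    | zero => intro b; exact ⟨0, b, by simp⟩
    | succ j ih =>
      intro b
      obtain ⟨p, b', hb⟩ := ih b
      obtain ⟨c, b'', hb'⟩ := key b'
      refine ⟨p + C c * X ^ j, b'', ?_⟩
      rw [hb, hb']
      simp only [ψ, map_add, map_mul, map_pow, Polynomial.aeval_C, Polynomial.aeval_X]
      ring
  have hsurj : Function.Surjective ψ := by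
    intro b
    obtain ⟨p, b', hb⟩ := hstep N b
    exact ⟨p, by rw [hb, hnil, zero_mul, add_zero]⟩
  -- Step 6
  have hXN : (X : k[X]) ^ N ∈ RingHom.ker ψ := by
    rw [RingHom.mem_ker, map_pow]
    simp only [ψ, Polynomial.aeval_X]
    exact hnil
  haveI := IsPrincipalIdealRing.principal (RingHom.ker ψ)
  obtain ⟨P, hP⟩ : ∃ P : k[X], RingHom.ker ψ = Ideal.span {P} :=
    ⟨Submodule.IsPrincipal.generator (RingHom.ker ψ), (Ideal.span_singleton_generator _).symm⟩
  have hdvd : P ∣ X ^ N := by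
    rw [← Ideal.mem_span_singleton, ← hP]; exact hXN
  obtain ⟨j, -, hj⟩ := (dvd_prime_pow Polynomial.prime_X N).mp hdvd
  have hK : RingHom.ker ψ = Ideal.span {(X : k[X]) ^ j} := by
    rw [hP]; exact Ideal.span_singleton_eq_span_singleton.mpr hj
  -- Step 7
  let e1 : (k[X] ⧸ RingHom.ker ψ) ≃ₐ[k] (A ⧸ I) := Ideal.quotientKerAlgEquivOfSurjective hsurj
  let e2 : (k[X] ⧸ RingHom.ker ψ) ≃ₐ[k] (k[X] ⧸ Ideal.span {(X : k[X]) ^ j}) :=
    Ideal.quotientEquivAlgOfEq k hK
  let e : (A ⧸ I) ≃ₐ[k] (k[X] ⧸ Ideal.span {(X : k[X]) ^ j}) := e1.symm.trans e2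
  have hjn : j = n := by
    have := e.toLinearEquiv.finrank_eq
    rw [hn, finrank_quotient_span_eq_natDegree, Polynomial.natDegree_X_pow] at this
    exact this.symm
  subst hjn
  exact ⟨e⟩

end Groth.Agent.Lib.Curvilinear
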