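import Mathlib

namespace Groth.Agent.Lib.CuspJac

open MvPolynomial

noncomputable section

variable {k : Type*} [Field k]

def mon (i j : ℕ) : Fin 2 →₀ ℕ := Finsupp.single 0 i + Finsupp.single 1 j

theorem mon_zero (i j : ℕ) : mon i j 0 = i := by simp [mon, Finsupp.single_apply]

theorem mon_one (i j : ℕ) : mon i j 1 = j := by simp [mon, Finsupp.single_apply]

theorem mon_eta (s : Fin 2 →₀ ℕ) : s = mon (s 0) (s 1) :=
  Finsupp.ext (Fin.forall_fin_two.mpr ⟨(mon_zero _ _).symm, (mon_one _ _).symm⟩)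

abbrev J (a b : ℕ) : Ideal (MvPolynomial (Fin 2) k) :=
  Ideal.span ({X 0 ^ a, X 1 ^ b} : Set (MvPolynomial (Fin 2) k))

def phi (a b : ℕ) : MvPolynomial (Fin 2) k →ₗ[k] (Fin a × Fin b → k) where
  toFun P := fun ij => coeff (mon ij.1 ij.2) P
  map_add' P Q := by funext ij; simp
  map_smul' c P := by funext ij; simp

theorem phi_apply (a b : ℕ) (P : MvPolynomial (Fin 2) k) (ij : Fin a × Fin b) :
    phi a b P ij = coeff (mon ij.1 ij.2) P := rfl

theorem phi_surj (a b : ℕ) : Function.Surjective (phi (k := k) a b) := by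
  intro g
  refine ⟨∑ ij : Fin a × Fin b, monomial (mon ij.1 ij.2) (g ij), ?_⟩
  funext ij'
  rw [phi_apply, coeff_sum, Finset.sum_eq_single ij']
  · rw [coeff_monomial, if_pos rfl]
  · intro ij _ hne
    rw [coeff_monomial, if_neg]
    intro h
    apply hne
    have h0 : (ij.1 : ℕ) = ij'.1 := by
      have := DFunLike.congr_fun h 0
      rwa [mon_zero, mon_zero] at this
    have h1 : (ij.2 : ℕ) = ij'.2 := by
      have := DFunLike.congr_fun h 1
      rwa [mon_one, mon_one] at this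
    exact Prod.ext (Fin.ext h0) (Fin.ext h1)
  · intro h; exact absurd (Finset.mem_univ _) h

theorem single_le_of (s : Fin 2 →₀ ℕ) (i : Fin 2) (n : ℕ) (h : n ≤ s i) :
    Finsupp.single i n ≤ s := by
  intro j
  rw [Finsupp.single_apply]
  split_ifs with hij
  · rw [← hij]; exact h
  · exact Nat.zero_le _

theorem mem_J_iff (a b : ℕ) (P : MvPolynomial (Fin 2) k) :
    P ∈ J (k := k) a b ↔ ∀ s ∈ P.support, a ≤ s 0 ∨ b ≤ s 1 := by
  have hS : ({X 0 ^ a, X 1 ^ b} : Set (MvPolynomial (Fin 2) k)) =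
      (fun s => monomial s (1 : k)) '' {Finsupp.single 0 a, Finsupp.single 1 b} := by
    rw [Set.image_pair, X_pow_eq_monomial, X_pow_eq_monomial]
  unfold J
  rw [hS, mem_ideal_span_monomial_image]
  constructor
  · intro h s hs
    obtain ⟨si, hsi, hle⟩ := h s hs
    simp only [Set.mem_insert_iff, Set.mem_singleton_iff] at hsi
    rcases hsi with rfl | rfl
    · left
      have := hle 0
      rwa [Finsupp.single_eq_same] at this
    · right
      have := hle 1
      rwa [Finsupp.single_eq_same] at this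
  · intro h s hs
    rcases h s hs with h0 | h1
    · exact ⟨Finsupp.single 0 a, Set.mem_insert _ _, single_le_of s 0 a h0⟩
    · exact ⟨Finsupp.single 1 b, Set.mem_insert_of_mem _ (Set.mem_singleton _),
        single_le_of s 1 b h1⟩

theorem equiv_of_ker_eq {K M Q W : Type*} [Field K] [AddCommGroup M] [Module K M] [AddCommGroup Q]
    [Module K Q] [AddCommGroup W] [Module K W] (q : M →ₗ[K] Q) (φ : M →ₗ[K] W)
    (hq : Function.Surjective q) (hφ : Function.Surjective φ)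
    (h : LinearMap.ker q = LinearMap.ker φ) : Nonempty (Q ≃ₗ[K] W) :=
  ⟨(q.quotKerEquivOfSurjective hq).symm ≪≫ₗ (Submodule.quotEquivOfEq _ _ h) ≪≫ₗ
    (φ.quotKerEquivOfSurjective hφ)⟩

def qmap (a b : ℕ) : MvPolynomial (Fin 2) k →ₗ[k] (MvPolynomial (Fin 2) k ⧸ J (k := k) a b) :=
  (Submodule.mkQ (J (k := k) a b)).restrictScalars k

theorem qmap_surj (a b : ℕ) : Function.Surjective (qmap (k := k) a b) := by
  intro y
  obtain ⟨x, hx⟩ := Submodule.Quotient.mk_surjective _ y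
  exact ⟨x, hx⟩

theorem qmap_eq_zero (a b : ℕ) (P : MvPolynomial (Fin 2) k) :
    qmap a b P = 0 ↔ P ∈ J (k := k) a b := by
  show (Submodule.Quotient.mk P : MvPolynomial (Fin 2) k ⧸ J (k := k) a b) = 0 ↔ _
  exact Submodule.Quotient.mk_eq_zero _

theorem ker_eq (a b : ℕ) :
    LinearMap.ker (qmap (k := k) a b) = LinearMap.ker (phi (k := k) a b) := by
  ext P
  rw [LinearMap.mem_ker, LinearMap.mem_ker, qmap_eq_zero, mem_J_iff]
  constructor
  · intro h
    funext ij
    rw [phi_apply]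
    by_contra hne
    have hs : mon ij.1 ij.2 ∈ P.support := mem_support_iff.mpr hne
    rcases h _ hs with h0 | h1
    · rw [mon_zero] at h0; exact absurd ij.1.isLt (not_lt.mpr h0)
    · rw [mon_one] at h1; exact absurd ij.2.isLt (not_lt.mpr h1)
  · intro h s hs
    by_contra hcon
    push_neg at hcon
    have hcoef : coeff s P ≠ 0 := mem_support_iff.mp hs
    apply hcoef
    have hs_eq : s = mon (s 0) (s 1) := mon_eta s
    have h2 := congrFun h (⟨s 0, hcon.1⟩, ⟨s 1, hcon.2⟩)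
    rw [phi_apply] at h2
    rw [hs_eq]
    exact h2

theorem finrank_quot (a b : ℕ) :
    Module.finrank k (MvPolynomial (Fin 2) k ⧸ J (k := k) a b) = a * b := by
  obtain ⟨e⟩ := equiv_of_ker_eq (qmap (k := k) a b) (phi a b) (qmap_surj a b) (phi_surj a b)
    (ker_eq a b)
  rw [e.finrank_eq]
  simp

theorem m1 {R : Type*} [CommRing R] (x y z : R) : x ∈ Ideal.span ({x, y, z} : Set R) :=
  Ideal.subset_span (Set.mem_insert _ _)

theorem m2 {R : Type*} [CommRing R] (x y z : R) : y ∈ Ideal.span ({x, y, z} : Set R) :=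
  Ideal.subset_span (Set.mem_insert_of_mem _ (Set.mem_insert _ _))

theorem m3 {R : Type*} [CommRing R] (x y z : R) : z ∈ Ideal.span ({x, y, z} : Set R) :=
  Ideal.subset_span (Set.mem_insert_of_mem _ (Set.mem_insert_of_mem _ (Set.mem_singleton _)))

theorem span3_le {R : Type*} [CommRing R] {x y z : R} {K : Ideal R} (hx : x ∈ K) (hy : y ∈ K)
    (hz : z ∈ K) : Ideal.span ({x, y, z} : Set R) ≤ K := by
  rw [Ideal.span_le]
  intro w hw
  simp only [Set.mem_insert_iff, Set.mem_singleton_iff] at hw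
  rcases hw with rfl | rfl | rfl <;> assumption

theorem span2_le {R : Type*} [CommRing R] {x y : R} {K : Ideal R} (hx : x ∈ K) (hy : y ∈ K) :
    Ideal.span ({x, y} : Set R) ≤ K := by
  rw [Ideal.span_le]
  intro w hw
  simp only [Set.mem_insert_iff, Set.mem_singleton_iff] at hw
  rcases hw with rfl | rfl <;> assumption

theorem mem_of_unit_mul {R : Type*} [CommRing R] (K : Ideal R) (u v x : R) (huv : u * v = 1)
    (h : v * x ∈ K) : x ∈ K := by
  have e : u * (v * x) = x := by rw [← mul_assoc, huv, one_mul]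
  rw [← e]
  exact K.mul_mem_left u h

theorem mem_of_eq {R : Type*} [CommRing R] (K : Ideal R) {x y : R} (h : y ∈ K) (e : x = y) :
    x ∈ K := by
  rw [e]; exact h

theorem C_inv_mul (c : k) (hc : c ≠ 0) :
    (C c⁻¹ : MvPolynomial (Fin 2) k) * C c = 1 := by
  rw [← C_mul, inv_mul_cancel₀ hc, C_1]

theorem hfx : pderiv (0 : Fin 2) (X 1 ^ 2 - X 0 ^ 3 : MvPolynomial (Fin 2) k) =
    C (-3) * X 0 ^ 2 := by
  have h1 : pderiv (0 : Fin 2) (X 1 : MvPolynomial (Fin 2) k) = 0 := pderiv_X_of_ne (by decide)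
  have h0 : pderiv (0 : Fin 2) (X 0 : MvPolynomial (Fin 2) k) = 1 := pderiv_X_self 0
  have e : (C (-3) : MvPolynomial (Fin 2) k) = -3 :=
    (map_neg C 3).trans (congrArg Neg.neg (map_ofNat C 3))
  rw [map_sub, Derivation.leibniz_pow, Derivation.leibniz_pow, h0, h1, e]
  norm_num

theorem hfy : pderiv (1 : Fin 2) (X 1 ^ 2 - X 0 ^ 3 : MvPolynomial (Fin 2) k) =
    C 2 * X 1 := by
  have h1 : pderiv (1 : Fin 2) (X 1 : MvPolynomial (Fin 2) k) = 1 := pderiv_X_self 1
  have h0 : pderiv (1 : Fin 2) (X 0 : MvPolynomial (Fin 2) k) = 0 := pderiv_X_of_ne (by decide)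
  have e : (C 2 : MvPolynomial (Fin 2) k) = 2 := map_ofNat C 2
  rw [map_sub, Derivation.leibniz_pow, Derivation.leibniz_pow, h0, h1, e]
  norm_num

theorem caseC (h2 : (2 : k) ≠ 0) (h3 : (3 : k) ≠ 0) :
    Ideal.span ({X 1 ^ 2 - X 0 ^ 3, C (-3) * X 0 ^ 2, C 2 * X 1} :
      Set (MvPolynomial (Fin 2) k)) = J 2 1 := by
  apply le_antisymm
  · apply span3_le
    · exact Ideal.mem_span_pair.mpr ⟨-X 0, X 1, by ring⟩
    · exact Ideal.mem_span_pair.mpr ⟨C (-3), 0, by ring⟩
    · exact Ideal.mem_span_pair.mpr ⟨0, C 2, by ring⟩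
  · apply span2_le
    · exact mem_of_unit_mul _ (C (-3 : k)⁻¹) (C (-3)) _ (C_inv_mul _ (neg_ne_zero.mpr h3))
        (m2 _ _ _)
    · refine mem_of_unit_mul _ (C (2 : k)⁻¹) (C 2) _ (C_inv_mul _ h2) ?_
      rw [pow_one]; exact m3 _ _ _

theorem caseA (h2 : (2 : k) = 0) :
    Ideal.span ({X 1 ^ 2 - X 0 ^ 3, C (-3) * X 0 ^ 2, C 2 * X 1} :
      Set (MvPolynomial (Fin 2) k)) = J 2 2 := by
  have h3 : (3 : k) ≠ 0 := by
    intro h
    have : (1 : k) = 0 := by linear_combination h - h2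
    exact one_ne_zero this
  have c2 : (C (2 : k) : MvPolynomial (Fin 2) k) = 0 := by rw [h2, C_0]
  have hx : (X 0 ^ 2 : MvPolynomial (Fin 2) k) ∈ Ideal.span ({X 1 ^ 2 - X 0 ^ 3,
      C (-3) * X 0 ^ 2, C 2 * X 1} : Set (MvPolynomial (Fin 2) k)) :=
    mem_of_unit_mul _ (C (-3 : k)⁻¹) (C (-3)) _ (C_inv_mul _ (neg_ne_zero.mpr h3)) (m2 _ _ _)
  apply le_antisymm
  · apply span3_le
    · exact Ideal.mem_span_pair.mpr ⟨-X 0, 1, by ring⟩
    · exact Ideal.mem_span_pair.mpr ⟨C (-3), 0, by ring⟩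
    · exact Ideal.mem_span_pair.mpr ⟨0, 0, by rw [c2]; ring⟩
  · apply span2_le
    · exact hx
    · exact mem_of_eq _ (Ideal.add_mem _ (m1 _ _ _) (Ideal.mul_mem_left _ (X 0) hx)) (by ring)

theorem caseB (h3 : (3 : k) = 0) :
    Ideal.span ({X 1 ^ 2 - X 0 ^ 3, C (-3) * X 0 ^ 2, C 2 * X 1} :
      Set (MvPolynomial (Fin 2) k)) = J 3 1 := by
  have h2 : (2 : k) ≠ 0 := by
    intro h
    have : (1 : k) = 0 := by linear_combination h3 - h
    exact one_ne_zero this
  have c3 : (C (-3 : k) : MvPolynomial (Fin 2) k) = 0 := by rw [neg_eq_zero.mpr h3, C_0]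
  have hy : (X 1 ^ 1 : MvPolynomial (Fin 2) k) ∈ Ideal.span ({X 1 ^ 2 - X 0 ^ 3,
      C (-3) * X 0 ^ 2, C 2 * X 1} : Set (MvPolynomial (Fin 2) k)) := by
    refine mem_of_unit_mul _ (C (2 : k)⁻¹) (C 2) _ (C_inv_mul _ h2) ?_
    rw [pow_one]; exact m3 _ _ _
  apply le_antisymm
  · apply span3_le
    · exact Ideal.mem_span_pair.mpr ⟨-1, X 1, by ring⟩
    · exact Ideal.mem_span_pair.mpr ⟨0, 0, by rw [c3]; ring⟩
    · exact Ideal.mem_span_pair.mpr ⟨0, C 2, by ring⟩
  · apply span2_le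
    · exact mem_of_eq _ (Ideal.sub_mem _ (Ideal.mul_mem_left _ (X 1) hy) (m1 _ _ _)) (by ring)
    · exact hy

theorem main (k : Type*) [Field k] (p : ℕ) [CharP k p] :
    Module.finrank k (MvPolynomial (Fin 2) k ⧸ Ideal.span
      ({X 1 ^ 2 - X 0 ^ 3, pderiv 0 (X 1 ^ 2 - X 0 ^ 3), pderiv 1 (X 1 ^ 2 - X 0 ^ 3)} :
        Set (MvPolynomial (Fin 2) k))) = (if p = 2 then 4 else if p = 3 then 3 else 2) := by
  rw [hfx, hfy]
  by_cases hp2 : p = 2
  · subst hp2
    have h2 : (2 : k) = 0 := by exact_mod_cast CharP.cast_eq_zero k 2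
    rw [if_pos rfl, caseA h2, finrank_quot]
  · rw [if_neg hp2]
    by_cases hp3 : p = 3
    · subst hp3
      have h3 : (3 : k) = 0 := by exact_mod_cast CharP.cast_eq_zero k 3
      rw [if_pos rfl, caseB h3, finrank_quot]
    · rw [if_neg hp3]
      have h2 : (2 : k) ≠ 0 := by
        intro h
        have h' : ((2 : ℕ) : k) = 0 := by exact_mod_cast h
        rw [CharP.cast_eq_zero_iff k p] at h'
        rcases (Nat.dvd_prime Nat.prime_two).mp h' with h1 | h1
        · exact CharP.char_ne_one k p h1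
        · exact hp2 h1
      have h3 : (3 : k) ≠ 0 := by
        intro h
        have h' : ((3 : ℕ) : k) = 0 := by exact_mod_cast h
        rw [CharP.cast_eq_zero_iff k p] at h'
        rcases (Nat.dvd_prime Nat.prime_three).mp h' with h1 | h1
        · exact CharP.char_ne_one k p h1
        · exact hp3 h1
      rw [caseC h2 h3, finrank_quot]

end

end Groth.Agent.Lib.CuspJac
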