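import Mathlib
import Groth.Prelude.Def_Wider
import Groth.Prelude.Def_Found
import Groth.Prelude.Def_DualLC
import Groth.Agent.Lib.FiniteRestrict_helper6
import Groth.Agent.Lib.FaltingsCM_helper6
import Groth.Agent.Lib.DimEq_helper8
import Groth.Agent.S9126

/-!
# The finiteness cutoff `s_{A,I}(M)` under a finite ring map (helper6, S1726)

For `A → B` finite, `A` universally catenary: heights of `q'/p'` and `q/p` agree for primes
`p' ⊆ q'` of `B` over `p ⊆ q` (dimension formula), and `depth M_p = inf_{p'} depth M_{p'}`.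
-/

set_option autoImplicit false
universe u

namespace Groth.Agent.Lib.CutoffFinite_helper6

open Groth.Agent.Lib.FiniteRestrict_helper6

variable {A B : Type u} [CommRing A] [CommRing B] [Algebra A B] [IsNoetherianRing A]
  [IsNoetherianRing B] [Module.Finite A B]

theorem height_quot_eq_of_finite (hA : CAlg.IsUniversallyCatenary A)
    (P Q : Ideal A) [P.IsPrime] [Q.IsPrime] (hPQ : P ≤ Q)
    (P' Q' : Ideal B) [P'.IsPrime] [Q'.IsPrime] (hPQ' : P' ≤ Q')
    (hP : P'.comap (algebraMap A B) = P) (hQ : Q'.comap (algebraMap A B) = Q) :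
    (Q'.map (Ideal.Quotient.mk P')).height = (Q.map (Ideal.Quotient.mk P)).height := by
  haveI : P'.LiesOver P := ⟨hP.symm⟩
  have hUC : CAlg.IsUniversallyCatenary (A ⧸ P) := Groth.Agent.S9126.result A (A ⧸ P) hA
  haveI hQbar : (Q.map (Ideal.Quotient.mk P)).IsPrime :=
    Ideal.map_isPrime_of_surjective Ideal.Quotient.mk_surjective
      (by rw [Ideal.mk_ker]; exact hPQ)
  haveI hQbar' : (Q'.map (Ideal.Quotient.mk P')).IsPrime :=
    Ideal.map_isPrime_of_surjective Ideal.Quotient.mk_surjective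
      (by rw [Ideal.mk_ker]; exact hPQ')
  haveI : (Q'.map (Ideal.Quotient.mk P')).LiesOver (Q.map (Ideal.Quotient.mk P)) := by
    refine ⟨?_⟩
    ext x
    obtain ⟨a, rfl⟩ := Ideal.Quotient.mk_surjective x
    rw [Ideal.mem_quotient_iff_mem hPQ, Ideal.under_def, Ideal.mem_comap,
      Ideal.Quotient.algebraMap_mk_of_liesOver, Ideal.mem_quotient_iff_mem hPQ', ← hQ,
      Ideal.mem_comap]
  obtain ⟨a, b, rq, rS, ha, hb, hrq, hrS, hab⟩ :=
    Groth.Agent.DimEqH8.height_add_trdeg_eq (A ⧸ P) hUC (B ⧸ P')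
      (Q.map (Ideal.Quotient.mk P)) (Q'.map (Ideal.Quotient.mk P'))
  have h1 : Algebra.trdeg (A ⧸ P) (B ⧸ P') = 0 := trdeg_eq_zero
  have h2 : Algebra.trdeg ((A ⧸ P) ⧸ Q.map (Ideal.Quotient.mk P))
      ((B ⧸ P') ⧸ Q'.map (Ideal.Quotient.mk P')) = 0 := trdeg_eq_zero
  rw [h1] at hrS
  rw [h2] at hrq
  have hrS0 : rS = 0 := by exact_mod_cast hrS.symm
  have hrq0 : rq = 0 := by exact_mod_cast hrq.symm
  have hab' : a = b := by omega
  rw [ha, hb, hab']

/-- S1726 -/
theorem main (hA : CAlg.IsUniversallyCatenary A) (I : Ideal A) (M : Type u) [AddCommGroup M]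
    [Module B M] [Module A M] [IsScalarTower A B M] [Module.Finite B M] :
    Dual2.cutoff B (I.map (algebraMap A B)) M = Dual2.cutoff A I M := by
  haveI : Module.Finite A M := Module.Finite.trans B M
  apply le_antisymm
  · unfold Dual2.cutoff
    refine le_iInf fun p => le_iInf fun q => le_iInf fun h => le_iInf fun hIp =>
      le_iInf fun hIq => ?_
    rw [depth_eq_iInf (B := B) M p.asIdeal, iInf_subtype']
    by_cases hne : Nonempty ↥{q' : PrimeSpectrum B |
        q'.asIdeal.comap (algebraMap A B) = p.asIdeal ∧ q' ∈ Module.support B M}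
    · obtain ⟨⟨p', hp'⟩, hmin⟩ := ENat.exists_eq_iInf
        (fun x : ↥{q' : PrimeSpectrum B |
          q'.asIdeal.comap (algebraMap A B) = p.asIdeal ∧ q' ∈ Module.support B M} =>
          LocCoh.depth (Localization.AtPrime x.1.asIdeal)
            (LocalizedModule x.1.asIdeal.primeCompl M))
      rw [← hmin]
      obtain ⟨Q', hle, hQ'prime, hQ'⟩ :=
        Ideal.exists_ideal_over_prime_of_isIntegral_of_isPrime q.asIdeal p'.asIdeal
          (by rw [hp'.1]; exact h)
      have hIp' : ¬ I.map (algebraMap A B) ≤ p'.asIdeal := by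
        intro hh
        apply hIp
        rw [← hp'.1]
        exact Ideal.map_le_iff_le_comap.1 hh
      have hIq' : I.map (algebraMap A B) ≤ Q' := by
        rw [Ideal.map_le_iff_le_comap, hQ']
        exact hIq
      have hle' : p' ≤ (⟨Q', hQ'prime⟩ : PrimeSpectrum B) := hle
      refine iInf_le_of_le p' (iInf_le_of_le (⟨Q', hQ'prime⟩ : PrimeSpectrum B)
        (iInf_le_of_le hle' (iInf_le_of_le hIp' (iInf_le_of_le hIq' ?_))))
      refine add_le_add le_rfl (le_of_eq ?_)
      rw [Groth.Agent.Lib.FaltingsCM_helper6.height_Ici_eq,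
        Groth.Agent.Lib.FaltingsCM_helper6.height_Ici_eq]
      exact height_quot_eq_of_finite hA p.asIdeal q.asIdeal h p'.asIdeal Q' hle hp'.1 hQ'
    · haveI : IsEmpty ↥{q' : PrimeSpectrum B |
          q'.asIdeal.comap (algebraMap A B) = p.asIdeal ∧ q' ∈ Module.support B M} :=
        not_nonempty_iff.1 hne
      have htop := iInf_of_empty (fun x : ↥{q' : PrimeSpectrum B |
          q'.asIdeal.comap (algebraMap A B) = p.asIdeal ∧ q' ∈ Module.support B M} =>
          LocCoh.depth (Localization.AtPrime x.1.asIdeal)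
            (LocalizedModule x.1.asIdeal.primeCompl M))
      rw [htop, top_add]
      exact le_top
  · unfold Dual2.cutoff
    refine le_iInf fun p' => le_iInf fun q' => le_iInf fun h' => le_iInf fun hIp' =>
      le_iInf fun hIq' => ?_
    have h : (⟨p'.asIdeal.comap (algebraMap A B), inferInstance⟩ : PrimeSpectrum A) ≤
        ⟨q'.asIdeal.comap (algebraMap A B), inferInstance⟩ := Ideal.comap_mono h'
    have hIp : ¬ I ≤ p'.asIdeal.comap (algebraMap A B) :=
      fun hh => hIp' (Ideal.map_le_iff_le_comap.2 hh)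
    have hIq : I ≤ q'.asIdeal.comap (algebraMap A B) := Ideal.map_le_iff_le_comap.1 hIq'
    refine iInf_le_of_le (⟨p'.asIdeal.comap (algebraMap A B), inferInstance⟩ : PrimeSpectrum A)
      (iInf_le_of_le (⟨q'.asIdeal.comap (algebraMap A B), inferInstance⟩ : PrimeSpectrum A)
        (iInf_le_of_le h (iInf_le_of_le hIp (iInf_le_of_le hIq ?_))))
    refine add_le_add ?_ (le_of_eq ?_)
    · rw [← ENat.forall_natCast_le_iff_le]
      intro n hn
      exact (le_depth_iff (B := B) (p'.asIdeal.comap (algebraMap A B)) n M).1 hn p'.asIdeal rfl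
    · rw [Groth.Agent.Lib.FaltingsCM_helper6.height_Ici_eq,
        Groth.Agent.Lib.FaltingsCM_helper6.height_Ici_eq]
      exact (height_quot_eq_of_finite hA _ _ h p'.asIdeal q'.asIdeal h' rfl rfl).symm

end Groth.Agent.Lib.CutoffFinite_helper6
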