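import Mathlib
import Groth.Prelude.Def_W4c3irrattreebunCvg

namespace Groth.Agent.Lib.Cvg

open W4c3irrattreebun

universe u

theorem sInf_eq {S S' : Set ℕ} (h1 : S' ⊆ S) (h2 : ∀ e ∈ S, ∃ e' ≤ e, e' ∈ S') :
    sInf S = sInf S' := by
  by_cases hS : S.Nonempty
  · have hS' : S'.Nonempty := by
      obtain ⟨e, he⟩ := hS
      obtain ⟨e', _, he'⟩ := h2 e he
      exact ⟨e', he'⟩
    apply le_antisymm
    · exact Nat.sInf_le (h1 (Nat.sInf_mem hS'))
    · obtain ⟨e', hle, he'⟩ := h2 _ (Nat.sInf_mem hS)
      exact (Nat.sInf_le he').trans hle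
  · have hS0 : S = ∅ := Set.not_nonempty_iff_eq_empty.mp hS
    have hS'0 : S' = ∅ := by
      rw [hS0] at h1
      exact Set.subset_empty_iff.mp h1
    rw [hS0, hS'0]

variable (k K : Type u) [Field k] [Field K] [Algebra k K]

/-- restrict a covering diagram over the relative algebraic closure to one over `k` -/
noncomputable def down {e : ℕ} (D' : CovDiag (algebraicClosure k K) K e) : CovDiag k K e :=
  letI algkC : Algebra k D'.KC := ((algebraMap K D'.KC).comp (algebraMap k K)).toAlgebra
  letI algkB : Algebra k D'.KB :=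
    ((algebraMap (algebraicClosure k K) D'.KB).comp
      (algebraMap k (algebraicClosure k K))).toAlgebra
  haveI towerK : IsScalarTower k K D'.KC := IsScalarTower.of_algebraMap_eq (fun _ => rfl)
  haveI towerB : IsScalarTower k D'.KB D'.KC := IsScalarTower.of_algebraMap_eq (fun c => by
    have hB := @IsScalarTower.algebraMap_apply (algebraicClosure k K) D'.KB D'.KC _ _ _
      D'.algkB D'.algBC D'.algkC D'.towerB
    have hK := @IsScalarTower.algebraMap_apply (algebraicClosure k K) K D'.KC _ _ _
      inferInstance D'.algKC D'.algkC D'.towerK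
    show algebraMap K D'.KC (algebraMap k K c) =
      algebraMap D'.KB D'.KC (algebraMap (algebraicClosure k K) D'.KB
        (algebraMap k (algebraicClosure k K) c))
    rw [← hB, hK]
    rfl)
  { KC := D'.KC, KB := D'.KB, t := D'.t, transc := D'.transc, finrank_eq := D'.finrank_eq }

/-- the compositum of `KB` and the relative algebraic closure inside `KC` -/
noncomputable def KBp {e : ℕ} (D : CovDiag k K e) : IntermediateField D.KB D.KC :=
  IntermediateField.adjoin D.KB
    (Set.range ((algebraMap K D.KC).comp (algebraMap (algebraicClosure k K) K)))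

theorem up {e : ℕ} (D : CovDiag k K e) :
    ∃ e' ≤ e, ∃ D' : CovDiag (algebraicClosure k K) K e',
      (Algebra.IsSeparable K D.KC → Algebra.IsSeparable K D'.KC) := by
  classical
  letI algk'B : Algebra (algebraicClosure k K) (KBp k K D) :=
    (((algebraMap K D.KC).comp (algebraMap (algebraicClosure k K) K)).codRestrict (KBp k K D)
      (fun c => IntermediateField.subset_adjoin _ _ ⟨c, rfl⟩)).toAlgebra
  haveI towerB' := @IsScalarTower.of_algebraMap_eq (algebraicClosure k K) (KBp k K D) D.KC
    _ _ _ algk'B inferInstance inferInstance (fun c => rfl)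
  haveI halg : Algebra.IsAlgebraic D.KB (KBp k K D) := by
    apply IntermediateField.isAlgebraic_adjoin
    rintro _ ⟨c, rfl⟩
    have hc : IsIntegral k (c : K) := mem_algebraicClosure_iff'.mp c.2
    have h1 : IsIntegral k (algebraMap K D.KC (c : K)) := hc.algebraMap
    exact h1.tower_top
  have htr : Transcendental (KBp k K D) D.t := by
    intro hal
    exact D.transc (IsAlgebraic.restrictScalars (R := D.KB) hal)
  have hle : ∀ x : D.KC, x ∈ IntermediateField.adjoin D.KB ({D.t} : Set D.KC) →
      x ∈ IntermediateField.adjoin (KBp k K D) ({D.t} : Set D.KC) := by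
    intro x hx
    have : IntermediateField.adjoin D.KB ({D.t} : Set D.KC) ≤
        (IntermediateField.adjoin (KBp k K D) ({D.t} : Set D.KC)).restrictScalars D.KB := by
      rw [IntermediateField.adjoin_le_iff]
      intro y hy
      exact IntermediateField.subset_adjoin _ _ hy
    exact this hx
  letI algFF' : Algebra (IntermediateField.adjoin D.KB ({D.t} : Set D.KC))
      (IntermediateField.adjoin (KBp k K D) ({D.t} : Set D.KC)) :=
    ((algebraMap (IntermediateField.adjoin D.KB ({D.t} : Set D.KC)) D.KC).codRestrict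
      (IntermediateField.adjoin (KBp k K D) ({D.t} : Set D.KC))
      (fun x => hle _ x.2)).toAlgebra
  haveI towerFF' := @IsScalarTower.of_algebraMap_eq
    (IntermediateField.adjoin D.KB ({D.t} : Set D.KC))
    (IntermediateField.adjoin (KBp k K D) ({D.t} : Set D.KC)) D.KC _ _ _ algFF'
    inferInstance inferInstance (fun _ => rfl)
  haveI finF' : Module.Finite (IntermediateField.adjoin (KBp k K D) ({D.t} : Set D.KC)) D.KC :=
    Module.Finite.of_restrictScalars_finite (IntermediateField.adjoin D.KB ({D.t} : Set D.KC))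
      (IntermediateField.adjoin (KBp k K D) ({D.t} : Set D.KC)) D.KC
  have hmul := Module.finrank_mul_finrank (IntermediateField.adjoin D.KB ({D.t} : Set D.KC))
      (IntermediateField.adjoin (KBp k K D) ({D.t} : Set D.KC)) D.KC
  have hpos : 0 < Module.finrank (IntermediateField.adjoin D.KB ({D.t} : Set D.KC)) D.KC :=
    Module.finrank_pos
  refine ⟨Module.finrank (IntermediateField.adjoin (KBp k K D) ({D.t} : Set D.KC)) D.KC, ?_,
    ⟨{ KC := D.KC, KB := KBp k K D, t := D.t, transc := htr, finrank_eq := rfl }, fun h => h⟩⟩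
  exact (Nat.le_of_dvd hpos (Dvd.intro_left _ hmul)).trans_eq D.finrank_eq

theorem main10 : cvg k K = cvg (algebraicClosure k K) K := by
  unfold cvg
  apply sInf_eq
  · rintro e ⟨D'⟩
    exact ⟨down k K D'⟩
  · rintro e ⟨D⟩
    obtain ⟨e', hle, D', _⟩ := up k K D
    exact ⟨e', hle, ⟨D'⟩⟩

theorem main11 : scvg k K = scvg (algebraicClosure k K) K := by
  unfold scvg
  apply sInf_eq
  · rintro e ⟨D', hsep⟩
    exact ⟨down k K D', hsep⟩
  · rintro e ⟨D, hsep⟩
    obtain ⟨e', hle, D', h⟩ := up k K D
    exact ⟨e', hle, ⟨D', h hsep⟩⟩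

end Groth.Agent.Lib.Cvg
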