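import Mathlib
import Groth.Prelude.Def_KFlatSite
import Groth.Agent.Lib.TensorAssoc_helper2

/-!
# Chain-level duality for tensor functors on complexes of modules on a ringed site, I (helper3)

`DualData O E D`: termwise adjunctions `(- ⊗ E^c) ⊣ (- ⊗ D^b)` (`b + c = 0`) such that the
differentials of `D` are the (signed) conjugates of those of `E`.  From this we build the counit
`eps : (M ⊗ D) ⊗ E ⟶ M` as a chain map, natural in `M`.
-/

set_option autoImplicit false
set_option linter.all false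
set_option maxHeartbeats 1600000

universe u
open CategoryTheory Limits ModSite HomologicalComplex

namespace Groth.Agent.Lib.CxAdjH3

variable {C : Type u} [SmallCategory C] {J : GrothendieckTopology C} (O : Sheaf J CommRingCat.{u})

/-- `- ⊗ N` -/
noncomputable abbrev Fl (N : Mod O) : Mod O ⥤ Mod O := (tensorBi O).flip.obj N

/-- `- ⊗ φ` -/
noncomputable abbrev FlMap {N N' : Mod O} (φ : N ⟶ N') : Fl O N ⟶ Fl O N' :=
  (tensorBi O).flip.map φ

/-- termwise duality data between two complexes -/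
structure DualData (E D : CochainComplex (Mod O) ℤ) where
  adj : ∀ (b c : ℤ), b + c = 0 → (Fl O (E.X c) ⊣ Fl O (D.X b))
  conj : ∀ (b b' c c' : ℤ) (h : b + c = 0) (h' : b' + c' = 0) (hc : c + 1 = c'),
    conjugateEquiv (adj b' c' h') (adj b c h) (FlMap O (E.d c c')) =
      c.negOnePow • FlMap O (D.d b' b)

variable {O} {E D : CochainComplex (Mod O) ℤ} (dd : DualData O E D)

namespace DualData

lemma counit_rel (b b' c c' : ℤ) (h : b + c = 0) (h' : b' + c' = 0) (hc : c + 1 = c')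
    (N : Mod O) :
    c.negOnePow • (((tensorBi O).map (((tensorBi O).obj N).map (D.d b' b))).app (E.X c) ≫
      (dd.adj b c h).counit.app N) =
    ((tensorBi O).obj (((tensorBi O).obj N).obj (D.X b'))).map (E.d c c') ≫
      (dd.adj b' c' h').counit.app N := by
  have h1 := conjugateEquiv_counit (dd.adj b' c' h') (dd.adj b c h) (FlMap O (E.d c c')) N
  rw [dd.conj b b' c c' h h' hc] at h1
  refine Eq.trans ?_ h1
  simp only [NatTrans.app_units_zsmul, Functor.map_units_smul, Linear.units_smul_comp]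
  rfl

lemma unit_rel (b b' c c' : ℤ) (h : b + c = 0) (h' : b' + c' = 0) (hc : c + 1 = c')
    (N : Mod O) :
    c.negOnePow • ((dd.adj b' c' h').unit.app N ≫
      ((tensorBi O).obj (((tensorBi O).obj N).obj (E.X c'))).map (D.d b' b)) =
    (dd.adj b c h).unit.app N ≫
      ((tensorBi O).map (((tensorBi O).obj N).map (E.d c c'))).app (D.X b) := by
  have h1 := unit_conjugateEquiv (dd.adj b' c' h') (dd.adj b c h) (FlMap O (E.d c c')) N
  rw [dd.conj b b' c c' h h' hc] at h1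
  refine Eq.trans ?_ h1
  simp only [NatTrans.app_units_zsmul, Linear.comp_units_smul]
  rfl

end DualData

/-- `A ⊗ B` for complexes -/
noncomputable abbrev tc (A B : CochainComplex (Mod O) ℤ) : CochainComplex (Mod O) ℤ :=
  mapBifunctor A B (tensorBi O) (ComplexShape.up ℤ)

lemma tc_eq (A B : CochainComplex (Mod O) ℤ) : tc A B = ((tensorCx O).obj A).obj B := rfl

lemma eps1 (p : ℤ × ℤ) :
    ComplexShape.ε₁ (ComplexShape.up ℤ) (ComplexShape.up ℤ) (ComplexShape.up ℤ) p = 1 := rfl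

lemma eps2 (p q : ℤ) :
    ComplexShape.ε₂ (ComplexShape.up ℤ) (ComplexShape.up ℤ) (ComplexShape.up ℤ) (p, q) =
      p.negOnePow := rfl

/-- the triple inclusion -/
noncomputable abbrev i3 (K₁ K₂ K₃ : CochainComplex (Mod O) ℤ) (a b c n : ℤ) (h : a + b + c = n) :
    ((tensorBi O).obj (((tensorBi O).obj (K₁.X a)).obj (K₂.X b))).obj (K₃.X c) ⟶
      (tc (tc K₁ K₂) K₃).X n :=
  mapBifunctor₁₂.ι (tensorBi O) (tensorBi O) K₁ K₂ K₃ (ComplexShape.up ℤ) (ComplexShape.up ℤ)
    a b c n h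

lemma ioz (K₁ K₂ K₃ : CochainComplex (Mod O) ℤ) (a b c n : ℤ) (h : a + b + c = n) :
    mapBifunctor₁₂.ιOrZero (tensorBi O) (tensorBi O) K₁ K₂ K₃ (ComplexShape.up ℤ)
      (ComplexShape.up ℤ) a b c n = i3 K₁ K₂ K₃ a b c n h :=
  mapBifunctor₁₂.ιOrZero_eq (tensorBi O) (tensorBi O) K₁ K₂ K₃ (ComplexShape.up ℤ)
    (ComplexShape.up ℤ) a b c n h

@[reassoc]
lemma i3_d (K₁ K₂ K₃ : CochainComplex (Mod O) ℤ) (a b c n : ℤ) (h : a + b + c = n) :
    i3 K₁ K₂ K₃ a b c n h ≫ (tc (tc K₁ K₂) K₃).d n (n + 1) =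
      ((tensorBi O).map (((tensorBi O).map (K₁.d a (a + 1))).app (K₂.X b))).app (K₃.X c) ≫
          i3 K₁ K₂ K₃ (a + 1) b c (n + 1) (by omega) +
        a.negOnePow • (((tensorBi O).map (((tensorBi O).obj (K₁.X a)).map (K₂.d b (b + 1)))).app
          (K₃.X c) ≫ i3 K₁ K₂ K₃ a (b + 1) c (n + 1) (by omega)) +
        (a + b).negOnePow • (((tensorBi O).obj (((tensorBi O).obj (K₁.X a)).obj (K₂.X b))).map
          (K₃.d c (c + 1)) ≫ i3 K₁ K₂ K₃ a b (c + 1) (n + 1) (by omega)) := by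
  have hd : (tc (tc K₁ K₂) K₃).d n (n + 1) = _ :=
    mapBifunctor₁₂.d_eq (tensorBi O) (tensorBi O) K₁ K₂ K₃ (ComplexShape.up ℤ)
      (ComplexShape.up ℤ) n (n + 1)
  rw [hd]
  simp only [Preadditive.comp_add]
  rw [mapBifunctor₁₂.ι_D₁, mapBifunctor₁₂.ι_D₂, mapBifunctor₁₂.ι_D₃]
  rw [mapBifunctor₁₂.d₁_eq _ _ _ _ _ _ _ (show (ComplexShape.up ℤ).Rel a (a + 1) from rfl),
    mapBifunctor₁₂.d₂_eq _ _ _ _ _ _ _ _ (show (ComplexShape.up ℤ).Rel b (b + 1) from rfl),
    mapBifunctor₁₂.d₃_eq _ _ _ _ _ _ _ _ _ (show (ComplexShape.up ℤ).Rel c (c + 1) from rfl)]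
  rw [ioz K₁ K₂ K₃ (a + 1) b c (n + 1) (by omega), ioz K₁ K₂ K₃ a (b + 1) c (n + 1) (by omega),
    ioz K₁ K₂ K₃ a b (c + 1) (n + 1) (by omega)]
  rw [eps1, eps1, one_mul, one_smul, eps2, one_mul]
  rfl

/-- components of the counit -/
noncomputable def epsComp (M : CochainComplex (Mod O) ℤ) (n a b c : ℤ) (h : a + b + c = n) :
    ((tensorBi O).obj (((tensorBi O).obj (M.X a)).obj (D.X b))).obj (E.X c) ⟶ M.X n :=
  if h0 : b + c = 0 then
    (dd.adj b c h0).counit.app (M.X a) ≫ (M.XIsoOfEq (show a = n by omega)).hom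
  else 0

lemma epsComp_pos (M : CochainComplex (Mod O) ℤ) (n a b c : ℤ) (h : a + b + c = n)
    (h0 : b + c = 0) : epsComp dd M n a b c h =
      (dd.adj b c h0).counit.app (M.X a) ≫ (M.XIsoOfEq (show a = n by omega)).hom :=
  dif_pos h0

lemma epsComp_neg (M : CochainComplex (Mod O) ℤ) (n a b c : ℤ) (h : a + b + c = n)
    (h0 : ¬ b + c = 0) : epsComp dd M n a b c h = 0 :=
  dif_neg h0

/-- the counit in degree `n` -/
noncomputable def epsX (M : CochainComplex (Mod O) ℤ) (n : ℤ) :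
    (tc (tc M D) E).X n ⟶ M.X n :=
  mapBifunctor₁₂.mapBifunctor₁₂Desc (F₁₂ := tensorBi O) (G := tensorBi O) (K₁ := M) (K₂ := D)
    (K₃ := E) (c₁₂ := ComplexShape.up ℤ) (c₄ := ComplexShape.up ℤ)
    (fun a b c h => epsComp dd M n a b c h)

@[reassoc]
lemma i3_epsX (M : CochainComplex (Mod O) ℤ) (n a b c : ℤ) (h : a + b + c = n) :
    i3 M D E a b c n h ≫ epsX dd M n = epsComp dd M n a b c h := by
  apply mapBifunctor₁₂.ι_mapBifunctor₁₂Desc

lemma epsX_comm (M : CochainComplex (Mod O) ℤ) (n : ℤ) :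
    epsX dd M n ≫ M.d n (n + 1) = (tc (tc M D) E).d n (n + 1) ≫ epsX dd M (n + 1) := by
  apply mapBifunctor₁₂.hom_ext
  intro a b c h
  have h' : a + b + c = n := h
  show i3 M D E a b c n h' ≫ _ = i3 M D E a b c n h' ≫ _
  rw [i3_epsX_assoc, i3_d_assoc]
  simp only [Preadditive.add_comp, Category.assoc, Linear.units_smul_comp, i3_epsX]
  by_cases h0 : b + c = 0
  · rw [epsComp_pos dd M n a b c h' h0, epsComp_pos dd M (n + 1) (a + 1) b c (by omega) h0,
      epsComp_neg dd M (n + 1) a (b + 1) c (by omega) (by omega),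
      epsComp_neg dd M (n + 1) a b (c + 1) (by omega) (by omega)]
    simp only [comp_zero, smul_zero, add_zero, Category.assoc]
    have hnat := (dd.adj b c h0).counit.naturality (M.d a (a + 1))
    erw [reassoc_of% hnat]
    simp
  · rw [epsComp_neg dd M n a b c h' h0, epsComp_neg dd M (n + 1) (a + 1) b c (by omega) h0]
    simp only [zero_comp, comp_zero, zero_add]
    by_cases h1 : b + 1 + c = 0
    · rw [epsComp_pos dd M (n + 1) a (b + 1) c (by omega) h1,
        epsComp_pos dd M (n + 1) a b (c + 1) (by omega) (by omega)]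
      have hr := dd.counit_rel (b + 1) b c (c + 1) h1 (by omega) rfl (M.X a)
      rw [← reassoc_of% hr]
      simp only [Linear.units_smul_comp, smul_smul, Category.assoc]
      rw [← Int.negOnePow_add, show a + b + c = a - 1 by omega, Int.negOnePow_sub,
        Int.negOnePow_one, mul_neg, mul_one, Units.neg_smul, add_neg_cancel]
    · rw [epsComp_neg dd M (n + 1) a (b + 1) c (by omega) h1,
        epsComp_neg dd M (n + 1) a b (c + 1) (by omega) (by omega)]
      simp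

/-- **the counit** `(M ⊗ D) ⊗ E ⟶ M` -/
noncomputable def eps (M : CochainComplex (Mod O) ℤ) : tc (tc M D) E ⟶ M where
  f n := epsX dd M n
  comm' i j hij := by
    obtain rfl : i + 1 = j := hij
    exact epsX_comm dd M i

@[reassoc]
lemma i3_map {K₁ K₂ K₃ L₁ L₂ L₃ : CochainComplex (Mod O) ℤ} (f₁ : K₁ ⟶ L₁) (f₂ : K₂ ⟶ L₂)
    (f₃ : K₃ ⟶ L₃) (a b c n : ℤ) (h : a + b + c = n) :
    i3 K₁ K₂ K₃ a b c n h ≫
        (mapBifunctorMap (mapBifunctorMap f₁ f₂ (tensorBi O) (ComplexShape.up ℤ)) f₃ (tensorBi O)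
          (ComplexShape.up ℤ)).f n =
      ((tensorBi O).map (((tensorBi O).map (f₁.f a)).app (K₂.X b) ≫
          ((tensorBi O).obj (L₁.X a)).map (f₂.f b))).app (K₃.X c) ≫
        ((tensorBi O).obj (((tensorBi O).obj (L₁.X a)).obj (L₂.X b))).map (f₃.f c) ≫
          i3 L₁ L₂ L₃ a b c n h := by
  have e1 := mapBifunctor₁₂.ι_eq (tensorBi O) (tensorBi O) K₁ K₂ K₃ (ComplexShape.up ℤ)
    (ComplexShape.up ℤ) a b c (a + b) n rfl h
  have e2 := mapBifunctor₁₂.ι_eq (tensorBi O) (tensorBi O) L₁ L₂ L₃ (ComplexShape.up ℤ)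
    (ComplexShape.up ℤ) a b c (a + b) n rfl h
  show mapBifunctor₁₂.ι (tensorBi O) (tensorBi O) K₁ K₂ K₃ (ComplexShape.up ℤ)
    (ComplexShape.up ℤ) a b c n h ≫ _ = _ ≫ _ ≫ mapBifunctor₁₂.ι (tensorBi O) (tensorBi O) L₁ L₂ L₃
      (ComplexShape.up ℤ) (ComplexShape.up ℤ) a b c n h
  rw [e1, e2, Category.assoc, ι_mapBifunctorMap, ← NatTrans.comp_app_assoc, ← Functor.map_comp,
    ι_mapBifunctorMap]
  simp only [Functor.map_comp, NatTrans.comp_app, Category.assoc]
  congr 2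
  exact (((tensorBi O).map (ιMapBifunctor L₁ L₂ (tensorBi O) (ComplexShape.up ℤ) a b (a + b)
    rfl)).naturality_assoc (f₃.f c) _).symm

end Groth.Agent.Lib.CxAdjH3
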