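import Groth.Agent.Lib.CxAdj1_helper3

/-!
# Chain-level duality for tensor functors on complexes of modules on a ringed site, II (helper3)

Naturality of the counit; the unit `eta : A ⟶ (A ⊗ E) ⊗ D` (for `E` concentrated in `[lo, lo + N)`)
as a chain map.
-/

set_option autoImplicit false
set_option linter.all false
set_option maxHeartbeats 1600000
universe u
open CategoryTheory Limits ModSite HomologicalComplex
namespace Groth.Agent.Lib.CxAdjH3
variable {C : Type u} [SmallCategory C] {J : GrothendieckTopology C} {O : Sheaf J CommRingCat.{u}}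
variable {E D : CochainComplex (Mod O) ℤ} (dd : DualData O E D)

lemma eps_naturality {M M' : CochainComplex (Mod O) ℤ} (f : M ⟶ M') :
    mapBifunctorMap (mapBifunctorMap f (𝟙 D) (tensorBi O) (ComplexShape.up ℤ)) (𝟙 E) (tensorBi O)
      (ComplexShape.up ℤ) ≫ eps dd M' = eps dd M ≫ f := by
  refine HomologicalComplex.hom_ext _ _ (fun n => ?_)
  apply mapBifunctor₁₂.hom_ext
  intro a b c h
  have h' : a + b + c = n := h
  show i3 M D E a b c n h' ≫ _ ≫ epsX dd M' n = i3 M D E a b c n h' ≫ epsX dd M n ≫ f.f n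
  rw [i3_map_assoc, i3_epsX, i3_epsX_assoc]
  have hx : ((tensorBi O).map (((tensorBi O).map (f.f a)).app (D.X b) ≫
      ((tensorBi O).obj (M'.X a)).map ((𝟙 D : D ⟶ D).f b))).app (E.X c) ≫
      ((tensorBi O).obj (((tensorBi O).obj (M'.X a)).obj (D.X b))).map ((𝟙 E : E ⟶ E).f c) =
      (Fl O (D.X b) ⋙ Fl O (E.X c)).map (f.f a) := by
    rw [HomologicalComplex.id_f, HomologicalComplex.id_f, CategoryTheory.Functor.map_id,
      CategoryTheory.Functor.map_id, Category.comp_id, Category.comp_id]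
    rfl
  rw [reassoc_of% hx]
  by_cases h0 : b + c = 0
  · rw [epsComp_pos dd M' n a b c h' h0, epsComp_pos dd M n a b c h' h0]
    have hnat := (dd.adj b c h0).counit.naturality (f.f a)
    rw [reassoc_of% hnat]
    obtain rfl : a = n := by omega
    simp [XIsoOfEq]
  · rw [epsComp_neg dd M' n a b c h' h0, epsComp_neg dd M n a b c h' h0]
    simp



/-! ### zero objects -/

lemma isZero_tensor_right (N Z : Mod O) (hZ : IsZero Z) : IsZero (((tensorBi O).obj N).obj Z) :=
  ((tensorBi O).obj N).map_isZero hZ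

lemma isZero_tensor_left (Z N : Mod O) (hZ : IsZero Z) : IsZero (((tensorBi O).obj Z).obj N) := by
  rw [IsZero.iff_id_eq_zero]
  have h1 : 𝟙 Z = 0 := (IsZero.iff_id_eq_zero _).1 hZ
  have h2 : ((tensorBi O).map (𝟙 Z)).app N = 𝟙 _ := by
    rw [CategoryTheory.Functor.map_id]; rfl
  rw [← h2, h1, Functor.map_zero]
  rfl

/-- the right adjoint of `- ⊗ 0` is zero -/
lemma isZero_of_isZero (dd : DualData O E D) (b c : ℤ) (h : b + c = 0) (hE : IsZero (E.X c))
    (N : Mod O) : IsZero (((tensorBi O).obj N).obj (D.X b)) := by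
  rw [IsZero.iff_id_eq_zero]
  have hz : IsZero ((Fl O (E.X c)).obj (((tensorBi O).obj N).obj (D.X b))) :=
    isZero_tensor_right _ _ hE
  exact ((dd.adj b c h).homEquiv (((tensorBi O).obj N).obj (D.X b)) N).symm.injective
    (hz.eq_of_src _ _)

/-! ### the unit -/

/-- the `q`-th term of the unit -/
noncomputable def etaTerm (A : CochainComplex (Mod O) ℤ) (n q : ℤ) :
    A.X n ⟶ (tc (tc A E) D).X n :=
  (dd.adj (-q) q (by omega)).unit.app (A.X n) ≫ i3 A E D n q (-q) n (by omega)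

lemma etaTerm_eq_zero (A : CochainComplex (Mod O) ℤ) (n q : ℤ) (hq : IsZero (E.X q)) :
    etaTerm dd A n q = 0 := by
  unfold etaTerm
  have hz : IsZero (((tensorBi O).obj (((tensorBi O).obj (A.X n)).obj (E.X q))).obj (D.X (-q))) :=
    isZero_tensor_left _ _ (isZero_tensor_right _ _ hq)
  have : (dd.adj (-q) q (by omega)).unit.app (A.X n) = 0 := hz.eq_of_tgt _ _
  rw [this, zero_comp]

/-- `Y`-term -/
noncomputable def Yt (A : CochainComplex (Mod O) ℤ) (n q : ℤ) :
    A.X n ⟶ (tc (tc A E) D).X (n + 1) :=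
  (dd.adj (-q) q (by omega)).unit.app (A.X n) ≫
    ((tensorBi O).obj (((tensorBi O).obj (A.X n)).obj (E.X q))).map (D.d (-q) (-q + 1)) ≫
      i3 A E D n q (-q + 1) (n + 1) (by omega)

/-- `X`-term -/
noncomputable def Xt (A : CochainComplex (Mod O) ℤ) (n q : ℤ) :
    A.X n ⟶ (tc (tc A E) D).X (n + 1) :=
  (dd.adj (-q) q (by omega)).unit.app (A.X n) ≫
    ((tensorBi O).map (((tensorBi O).obj (A.X n)).map (E.d q (q + 1)))).app (D.X (-q)) ≫
      i3 A E D n (q + 1) (-q) (n + 1) (by omega)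

lemma Yt_eq_zero (A : CochainComplex (Mod O) ℤ) (n q : ℤ) (hq : IsZero (E.X q)) :
    Yt dd A n q = 0 := by
  unfold Yt
  have hz : IsZero (((tensorBi O).obj (((tensorBi O).obj (A.X n)).obj (E.X q))).obj (D.X (-q))) :=
    isZero_tensor_left _ _ (isZero_tensor_right _ _ hq)
  have : (dd.adj (-q) q (by omega)).unit.app (A.X n) = 0 := hz.eq_of_tgt _ _
  rw [this, zero_comp]

lemma Xt_eq_zero (A : CochainComplex (Mod O) ℤ) (n q : ℤ) (hq : IsZero (E.X q)) :
    Xt dd A n q = 0 := by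
  unfold Xt
  have hz : IsZero (((tensorBi O).obj (((tensorBi O).obj (A.X n)).obj (E.X q))).obj (D.X (-q))) :=
    isZero_tensor_left _ _ (isZero_tensor_right _ _ hq)
  have : (dd.adj (-q) q (by omega)).unit.app (A.X n) = 0 := hz.eq_of_tgt _ _
  rw [this, zero_comp]

lemma Xt_eq (A : CochainComplex (Mod O) ℤ) (n q : ℤ) :
    Xt dd A n q = q.negOnePow • Yt dd A n (q + 1) := by
  have key : ∀ (t : ℤ) (ht : -(q + 1) + 1 = t),
      ((tensorBi O).obj (((tensorBi O).obj (A.X n)).obj (E.X (q + 1)))).map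
          (D.d (-(q + 1)) (-(q + 1) + 1)) ≫
        i3 A E D n (q + 1) (-(q + 1) + 1) (n + 1) (by omega) =
      ((tensorBi O).obj (((tensorBi O).obj (A.X n)).obj (E.X (q + 1)))).map (D.d (-(q + 1)) t) ≫
        i3 A E D n (q + 1) t (n + 1) (by omega) := by
    intro t ht
    subst ht
    rfl
  have hr := dd.unit_rel (-q) (-(q + 1)) q (q + 1) (by omega) (by omega) rfl (A.X n)
  unfold Xt Yt
  rw [key (-q) (by omega), ← reassoc_of% hr]
  simp only [Linear.units_smul_comp, Category.assoc]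

lemma etaTerm_d (A : CochainComplex (Mod O) ℤ) (n q : ℤ) :
    etaTerm dd A n q ≫ (tc (tc A E) D).d n (n + 1) =
      A.d n (n + 1) ≫ etaTerm dd A (n + 1) q + n.negOnePow • Xt dd A n q +
        (n + q).negOnePow • Yt dd A n q := by
  unfold etaTerm Xt Yt
  rw [Category.assoc, i3_d]
  simp only [Preadditive.comp_add, Linear.comp_units_smul]
  have hnat : (dd.adj (-q) q (by omega)).unit.app (A.X n) ≫
      ((tensorBi O).map (((tensorBi O).map (A.d n (n + 1))).app (E.X q))).app (D.X (-q)) =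
      A.d n (n + 1) ≫ (dd.adj (-q) q (by omega)).unit.app (A.X (n + 1)) :=
    ((dd.adj (-q) q (by omega)).unit.naturality (A.d n (n + 1))).symm
  congr 2
  rw [reassoc_of% hnat]

variable (lo : ℤ) (N : ℕ)

/-- the unit in degree `n` -/
noncomputable def etaX (A : CochainComplex (Mod O) ℤ) (n : ℤ) :
    A.X n ⟶ (tc (tc A E) D).X n :=
  ∑ k ∈ Finset.range N, etaTerm dd A n (lo + k)

lemma etaX_comm (hE : ∀ q : ℤ, (q < lo ∨ lo + N ≤ q) → IsZero (E.X q))
    (A : CochainComplex (Mod O) ℤ) (n : ℤ) :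
    etaX dd lo N A n ≫ (tc (tc A E) D).d n (n + 1) = A.d n (n + 1) ≫ etaX dd lo N A (n + 1) := by
  unfold etaX
  rw [Preadditive.sum_comp, Preadditive.comp_sum]
  simp only [etaTerm_d, add_assoc]
  rw [Finset.sum_add_distrib]
  have hZ : ∀ q : ℤ, n.negOnePow • Xt dd A n q + (n + q).negOnePow • Yt dd A n q =
      (n + q).negOnePow • Yt dd A n q - (n + (q + 1)).negOnePow • Yt dd A n (q + 1) := by
    intro q
    rw [Xt_eq, smul_smul, ← Int.negOnePow_add, ← add_assoc n q 1, Int.negOnePow_succ (n + q),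
      Units.neg_smul, sub_neg_eq_add]
    exact add_comm _ _
  have h0 : Yt dd A n lo = 0 := by
    have h1 := Xt_eq dd A n (lo - 1)
    rw [Xt_eq_zero dd A n (lo - 1) (hE _ (Or.inl (by omega))), show lo - 1 + 1 = lo by ring] at h1
    exact (smul_eq_zero_iff_eq _).1 h1.symm
  have hN : Yt dd A n (lo + N) = 0 := Yt_eq_zero dd A n _ (hE _ (Or.inr (by omega)))
  have hsum : ∑ k ∈ Finset.range N, (n.negOnePow • Xt dd A n (lo + k) +
      (n + (lo + k)).negOnePow • Yt dd A n (lo + k)) = 0 := by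
    have h2 := Finset.sum_range_sub' (fun k : ℕ => (n + (lo + k)).negOnePow • Yt dd A n (lo + k)) N
    simp only [Nat.cast_zero, add_zero] at h2
    rw [h0, hN, smul_zero, smul_zero, sub_zero] at h2
    rw [← h2]
    refine Finset.sum_congr rfl (fun k _ => ?_)
    rw [hZ]
    have e : lo + (k : ℤ) + 1 = lo + ((k + 1 : ℕ) : ℤ) := by push_cast; ring
    rw [e]
  rw [hsum, add_zero]

/-- **the unit** `A ⟶ (A ⊗ E) ⊗ D` -/
noncomputable def eta (hE : ∀ q : ℤ, (q < lo ∨ lo + N ≤ q) → IsZero (E.X q))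
    (A : CochainComplex (Mod O) ℤ) : A ⟶ tc (tc A E) D where
  f n := etaX dd lo N A n
  comm' i j hij := by
    obtain rfl : i + 1 = j := hij
    exact etaX_comm dd lo N hE A i

lemma etaTerm_naturality {A A' : CochainComplex (Mod O) ℤ} (f : A ⟶ A') (n q : ℤ) :
    etaTerm dd A n q ≫ (mapBifunctorMap (mapBifunctorMap f (𝟙 E) (tensorBi O) (ComplexShape.up ℤ))
      (𝟙 D) (tensorBi O) (ComplexShape.up ℤ)).f n = f.f n ≫ etaTerm dd A' n q := by
  unfold etaTerm
  rw [Category.assoc, i3_map]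
  have hx : ((tensorBi O).map (((tensorBi O).map (f.f n)).app (E.X q) ≫
      ((tensorBi O).obj (A'.X n)).map ((𝟙 E : E ⟶ E).f q))).app (D.X (-q)) ≫
      ((tensorBi O).obj (((tensorBi O).obj (A'.X n)).obj (E.X q))).map ((𝟙 D : D ⟶ D).f (-q)) =
      (Fl O (E.X q) ⋙ Fl O (D.X (-q))).map (f.f n) := by
    rw [HomologicalComplex.id_f, HomologicalComplex.id_f, CategoryTheory.Functor.map_id,
      CategoryTheory.Functor.map_id, Category.comp_id, Category.comp_id]
    rfl
  rw [reassoc_of% hx]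
  have hnat := (dd.adj (-q) q (by omega)).unit.naturality (f.f n)
  rw [← reassoc_of% hnat]

lemma eta_naturality (hE : ∀ q : ℤ, (q < lo ∨ lo + N ≤ q) → IsZero (E.X q))
    {A A' : CochainComplex (Mod O) ℤ} (f : A ⟶ A') :
    eta dd lo N hE A ≫ mapBifunctorMap (mapBifunctorMap f (𝟙 E) (tensorBi O) (ComplexShape.up ℤ))
      (𝟙 D) (tensorBi O) (ComplexShape.up ℤ) = f ≫ eta dd lo N hE A' := by
  refine HomologicalComplex.hom_ext _ _ (fun n => ?_)
  show etaX dd lo N A n ≫ _ = f.f n ≫ etaX dd lo N A' n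
  unfold etaX
  rw [Preadditive.sum_comp, Preadditive.comp_sum]
  exact Finset.sum_congr rfl (fun k _ => etaTerm_naturality dd f n _)

end Groth.Agent.Lib.CxAdjH3
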