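import Groth.Agent.Lib.CxAdj2_helper3

/-!
# Chain-level duality for tensor functors on complexes of modules on a ringed site, III (helper3)

The triangle identities and the adjunction `(- ⊗ E) ⊣ (- ⊗ D)` on cochain complexes.
-/

set_option autoImplicit false
set_option linter.all false
set_option maxHeartbeats 1600000
universe u
open CategoryTheory Limits ModSite HomologicalComplex
namespace Groth.Agent.Lib.CxAdjH3
variable {C : Type u} [SmallCategory C] {J : GrothendieckTopology C} {O : Sheaf J CommRingCat.{u}}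
variable {E D : CochainComplex (Mod O) ℤ} (dd : DualData O E D)
variable (lo : ℤ) (N : ℕ)

@[reassoc]
lemma i3_eq (K₁ K₂ K₃ : CochainComplex (Mod O) ℤ) (a b c m n : ℤ) (hm : a + b = m)
    (h : m + c = n) :
    i3 K₁ K₂ K₃ a b c n (by omega) =
      ((tensorBi O).map (ιMapBifunctor K₁ K₂ (tensorBi O) (ComplexShape.up ℤ) a b m hm)).app
        (K₃.X c) ≫ ιMapBifunctor (tc K₁ K₂) K₃ (tensorBi O) (ComplexShape.up ℤ) m c n h :=
  mapBifunctor₁₂.ι_eq (tensorBi O) (tensorBi O) K₁ K₂ K₃ (ComplexShape.up ℤ)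
    (ComplexShape.up ℤ) a b c m n hm h

lemma T1_term_ne (A : CochainComplex (Mod O) ℤ) (p q q' n : ℤ) (h : p + q = n) (hq : q' ≠ q) :
    ((tensorBi O).map (etaTerm dd A p q')).app (E.X q) ≫
      ιMapBifunctor (tc (tc A E) D) E (tensorBi O) (ComplexShape.up ℤ) p q n h ≫
        epsX dd (tc A E) n = 0 := by
  unfold etaTerm
  rw [i3_eq A E D p q' (-q') (p + q') p rfl (by omega)]
  simp only [Functor.map_comp, NatTrans.comp_app, Category.assoc]
  rw [← i3_eq_assoc (tc A E) D E (p + q') (-q') q p n (by omega) h, i3_epsX,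
    epsComp_neg dd _ _ _ _ _ _ (by omega)]
  simp

lemma T1_term_eq (A : CochainComplex (Mod O) ℤ) (p q n : ℤ) (h : p + q = n) :
    ((tensorBi O).map (etaTerm dd A p q)).app (E.X q) ≫
      ιMapBifunctor (tc (tc A E) D) E (tensorBi O) (ComplexShape.up ℤ) p q n h ≫
        epsX dd (tc A E) n = ιMapBifunctor A E (tensorBi O) (ComplexShape.up ℤ) p q n h := by
  subst h
  unfold etaTerm
  rw [i3_eq A E D p q (-q) (p + q) p rfl (by omega)]
  simp only [Functor.map_comp, NatTrans.comp_app, Category.assoc]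
  rw [← i3_eq_assoc (tc A E) D E (p + q) (-q) q p (p + q) (by omega) rfl, i3_epsX,
    epsComp_pos dd _ _ _ _ _ _ (by omega)]
  have hnat : ((tensorBi O).map (((tensorBi O).map (ιMapBifunctor A E (tensorBi O)
      (ComplexShape.up ℤ) p q (p + q) rfl)).app (D.X (-q)))).app (E.X q) ≫
      (dd.adj (-q) q (by omega)).counit.app ((tc A E).X (p + q)) =
      (dd.adj (-q) q (by omega)).counit.app (((tensorBi O).obj (A.X p)).obj (E.X q)) ≫
        ιMapBifunctor A E (tensorBi O) (ComplexShape.up ℤ) p q (p + q) rfl :=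
    (dd.adj (-q) q (by omega)).counit.naturality
      (ιMapBifunctor A E (tensorBi O) (ComplexShape.up ℤ) p q (p + q) rfl)
  have htri : ((tensorBi O).map ((dd.adj (-q) q (by omega)).unit.app (A.X p))).app (E.X q) ≫
      (dd.adj (-q) q (by omega)).counit.app (((tensorBi O).obj (A.X p)).obj (E.X q)) = 𝟙 _ :=
    (dd.adj (-q) q (by omega)).left_triangle_components (A.X p)
  rw [reassoc_of% hnat, reassoc_of% htri]
  simp

/-- **the first triangle identity** -/
theorem T1 (hE : ∀ q : ℤ, (q < lo ∨ lo + N ≤ q) → IsZero (E.X q))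
    (A : CochainComplex (Mod O) ℤ) :
    mapBifunctorMap (eta dd lo N hE A) (𝟙 E) (tensorBi O) (ComplexShape.up ℤ) ≫
      eps dd (tc A E) = 𝟙 (tc A E) := by
  refine HomologicalComplex.hom_ext _ _ (fun n => ?_)
  apply mapBifunctor.hom_ext
  intro p q h
  have h' : p + q = n := h
  rw [HomologicalComplex.comp_f, ι_mapBifunctorMap_assoc]
  by_cases hq : IsZero (E.X q)
  · exact (isZero_tensor_right _ _ hq).eq_of_src _ _
  · have hlo : lo ≤ q ∧ q < lo + N := by
      by_contra hc
      exact hq (hE q (by omega))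
    obtain ⟨k₀, hk₀⟩ : ∃ k₀ : ℕ, q = lo + k₀ := ⟨(q - lo).toNat, by omega⟩
    show ((tensorBi O).map (etaX dd lo N A p)).app (E.X q) ≫
      ((tensorBi O).obj ((tc (tc A E) D).X p)).map ((𝟙 E : E ⟶ E).f q) ≫
        ιMapBifunctor (tc (tc A E) D) E (tensorBi O) (ComplexShape.up ℤ) p q n h' ≫
          epsX dd (tc A E) n = _
    rw [HomologicalComplex.id_f, CategoryTheory.Functor.map_id, Category.id_comp]
    unfold etaX
    rw [Functor.map_sum, NatTrans.app_sum, Preadditive.sum_comp, Finset.sum_eq_single k₀]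
    · subst hk₀
      rw [T1_term_eq]
      simp
    · intro k _ hk
      exact T1_term_ne dd A p q (lo + k) n h' (by omega)
    · intro hk
      exfalso
      apply hk
      rw [Finset.mem_range]
      omega

lemma ι_transport (M K : CochainComplex (Mod O) ℤ) (a a' : ℤ) (e : a = a') (b n : ℤ)
    (h : a' + b = n) :
    ((tensorBi O).map (M.XIsoOfEq e).hom).app (K.X b) ≫
      ιMapBifunctor M K (tensorBi O) (ComplexShape.up ℤ) a' b n h =
    ιMapBifunctor M K (tensorBi O) (ComplexShape.up ℤ) a b n (show a + b = n by omega) := by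
  subst e
  simp

lemma T2_pre (M : CochainComplex (Mod O) ℤ) (a b n q' : ℤ) (h : a + b = n) :
    ιMapBifunctor M D (tensorBi O) (ComplexShape.up ℤ) a b n h ≫ etaTerm dd (tc M D) n q' ≫
      (mapBifunctorMap (eps dd M) (𝟙 D) (tensorBi O) (ComplexShape.up ℤ)).f n =
    (dd.adj (-q') q' (by omega)).unit.app (((tensorBi O).obj (M.X a)).obj (D.X b)) ≫
      ((tensorBi O).map (epsComp dd M (n + q') a b q' (by omega))).app (D.X (-q')) ≫
        ιMapBifunctor M D (tensorBi O) (ComplexShape.up ℤ) (n + q') (-q') n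
          (show n + q' + -q' = n by omega) := by
  unfold etaTerm
  have hnat : ιMapBifunctor M D (tensorBi O) (ComplexShape.up ℤ) a b n h ≫
      (dd.adj (-q') q' (by omega)).unit.app ((tc M D).X n) =
      (dd.adj (-q') q' (by omega)).unit.app (((tensorBi O).obj (M.X a)).obj (D.X b)) ≫
        ((tensorBi O).map (((tensorBi O).map (ιMapBifunctor M D (tensorBi O) (ComplexShape.up ℤ)
          a b n h)).app (E.X q'))).app (D.X (-q')) :=
    (dd.adj (-q') q' (by omega)).unit.naturality
      (ιMapBifunctor M D (tensorBi O) (ComplexShape.up ℤ) a b n h)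
  rw [Category.assoc, reassoc_of% hnat, i3_eq (tc M D) E D n q' (-q') (n + q') n rfl (by omega),
    Category.assoc, ι_mapBifunctorMap, HomologicalComplex.id_f, CategoryTheory.Functor.map_id,
    Category.id_comp]
  simp only [← NatTrans.comp_app_assoc, ← Functor.map_comp]
  rw [← i3_eq_assoc M D E a b q' n (n + q') h rfl]
  show _ ≫ ((tensorBi O).map (i3 M D E a b q' (n + q') (by omega) ≫ epsX dd M (n + q'))).app _ ≫ _
    = _
  rw [i3_epsX]

lemma T2_term_ne (M : CochainComplex (Mod O) ℤ) (a b n q' : ℤ) (h : a + b = n)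
    (hq : b + q' ≠ 0) :
    ιMapBifunctor M D (tensorBi O) (ComplexShape.up ℤ) a b n h ≫ etaTerm dd (tc M D) n q' ≫
      (mapBifunctorMap (eps dd M) (𝟙 D) (tensorBi O) (ComplexShape.up ℤ)).f n = 0 := by
  rw [T2_pre, epsComp_neg dd _ _ _ _ _ _ hq, Functor.map_zero]
  simp

lemma T2_term_eq (M : CochainComplex (Mod O) ℤ) (a n q' : ℤ) (h : a + -q' = n) :
    ιMapBifunctor M D (tensorBi O) (ComplexShape.up ℤ) a (-q') n h ≫
      etaTerm dd (tc M D) n q' ≫
      (mapBifunctorMap (eps dd M) (𝟙 D) (tensorBi O) (ComplexShape.up ℤ)).f n =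
    ιMapBifunctor M D (tensorBi O) (ComplexShape.up ℤ) a (-q') n h := by
  rw [T2_pre, epsComp_pos dd _ _ _ _ _ _ (by omega), Functor.map_comp, NatTrans.comp_app,
    Category.assoc, ι_transport M D a (n + q') (by omega) (-q') n (by omega)]
  have htri : (dd.adj (-q') q' (by omega)).unit.app (((tensorBi O).obj (M.X a)).obj (D.X (-q'))) ≫
      ((tensorBi O).map ((dd.adj (-q') q' (by omega)).counit.app (M.X a))).app (D.X (-q')) = 𝟙 _ :=
    (dd.adj (-q') q' (by omega)).right_triangle_components (M.X a)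
  rw [reassoc_of% htri]

/-- **the second triangle identity** -/
theorem T2 (hE : ∀ q : ℤ, (q < lo ∨ lo + N ≤ q) → IsZero (E.X q))
    (M : CochainComplex (Mod O) ℤ) :
    eta dd lo N hE (tc M D) ≫ mapBifunctorMap (eps dd M) (𝟙 D) (tensorBi O) (ComplexShape.up ℤ) =
      𝟙 (tc M D) := by
  refine HomologicalComplex.hom_ext _ _ (fun n => ?_)
  apply mapBifunctor.hom_ext
  intro a b h
  have h' : a + b = n := h
  rw [HomologicalComplex.comp_f]
  by_cases hq : IsZero (E.X (-b))
  · exact (isZero_of_isZero dd b (-b) (by omega) hq (M.X a)).eq_of_src _ _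
  · have hlo : lo ≤ -b ∧ -b < lo + N := by
      by_contra hc
      exact hq (hE (-b) (by omega))
    obtain ⟨k₀, hk₀⟩ : ∃ k₀ : ℕ, -b = lo + k₀ := ⟨(-b - lo).toNat, by omega⟩
    show ιMapBifunctor M D (tensorBi O) (ComplexShape.up ℤ) a b n h' ≫
      etaX dd lo N (tc M D) n ≫ _ = _
    unfold etaX
    rw [Preadditive.sum_comp, Preadditive.comp_sum, Finset.sum_eq_single k₀]
    · obtain rfl : b = -(lo + k₀) := by omega
      rw [T2_term_eq]
      simp
    · intro k _ hk
      exact T2_term_ne dd M a b n (lo + k) h' (by omega)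
    · intro hk
      exfalso
      apply hk
      rw [Finset.mem_range]
      omega

/-- `- ⊗ K` on complexes -/
noncomputable abbrev TF (K : CochainComplex (Mod O) ℤ) :
    CochainComplex (Mod O) ℤ ⥤ CochainComplex (Mod O) ℤ := (tensorCx O).flip.obj K

lemma TF_obj (K A : CochainComplex (Mod O) ℤ) : (TF K).obj A = tc A K := rfl

lemma TF_map (K : CochainComplex (Mod O) ℤ) {A A' : CochainComplex (Mod O) ℤ} (f : A ⟶ A') :
    (TF K).map f = mapBifunctorMap f (𝟙 K) (tensorBi O) (ComplexShape.up ℤ) := rfl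

/-- the unit as a natural transformation -/
noncomputable def etaNat (hE : ∀ q : ℤ, (q < lo ∨ lo + N ≤ q) → IsZero (E.X q)) :
    𝟭 (CochainComplex (Mod O) ℤ) ⟶ TF E ⋙ TF D where
  app A := eta dd lo N hE A
  naturality A A' f := (eta_naturality dd lo N hE f).symm

/-- the counit as a natural transformation -/
noncomputable def epsNat : TF D ⋙ TF E ⟶ 𝟭 (CochainComplex (Mod O) ℤ) where
  app M := eps dd M
  naturality M M' f := eps_naturality dd f

/-- **the chain-level adjunction** `(- ⊗ E) ⊣ (- ⊗ D)` -/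
noncomputable def cxAdj (hE : ∀ q : ℤ, (q < lo ∨ lo + N ≤ q) → IsZero (E.X q)) :
    TF E ⊣ TF D where
  unit := etaNat dd lo N hE
  counit := epsNat dd
  left_triangle_components A := T1 dd lo N hE A
  right_triangle_components M := T2 dd lo N hE M

end Groth.Agent.Lib.CxAdjH3
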