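import Mathlib
import Groth.Prelude.Def_W4c3biextchowCx

/-! The functor between the groupoids of two chain complexes of modules: faithful / full /
essentially surjective in terms of homology in degrees 1 and 0 (lead). -/

set_option autoImplicit false

namespace Groth.Agent.Lib.CxGrpd

open CategoryTheory HomologicalComplex

universe v u

section Elem

variable {R : Type u} [Ring R] {ι : Type*} {c : ComplexShape ι}
  {K L : HomologicalComplex (ModuleCat.{v} R) c} (φ : K ⟶ L)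

lemma mono_iff (i j k : ι) (hi : c.prev j = i) (hk : c.next j = k) :
    Mono (homologyMap φ j) ↔
      ∀ x : K.X j, (K.d j k).hom x = 0 → ∀ y : L.X i, (φ.f j).hom x = (L.d i j).hom y →
        ∃ x₁ : K.X i, x = (K.d i j).hom x₁ := by
  rw [mono_homologyMap_iff_up_to_refinements φ i j k hi hk]
  constructor
  · intro h x hx y hy
    let S : Submodule R (K.X j × L.X i) :=
      LinearMap.ker ((K.d j k).hom ∘ₗ LinearMap.fst R _ _) ⊓
        LinearMap.ker ((φ.f j).hom ∘ₗ LinearMap.fst R _ _ - (L.d i j).hom ∘ₗ LinearMap.snd R _ _)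
    have hS : ∀ p : K.X j × L.X i, p ∈ S ↔
        (K.d j k).hom p.1 = 0 ∧ (φ.f j).hom p.1 = (L.d i j).hom p.2 := by
      intro p
      simp only [S, Submodule.mem_inf, LinearMap.mem_ker, LinearMap.comp_apply,
        LinearMap.fst_apply, LinearMap.sub_apply, LinearMap.snd_apply, sub_eq_zero]
    obtain ⟨A', π, hπ, x₁, hx₁⟩ := h (A := ModuleCat.of R S)
      (ModuleCat.ofHom (LinearMap.fst R _ _ ∘ₗ S.subtype))
      (by
        ext p
        have := ((hS p.1).1 p.2).1
        simpa using this)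
      (ModuleCat.ofHom (LinearMap.snd R _ _ ∘ₗ S.subtype))
      (by
        ext p
        have := ((hS p.1).1 p.2).2
        simpa using this)
    rw [ModuleCat.epi_iff_surjective] at hπ
    obtain ⟨a', ha'⟩ := hπ ⟨(x, y), (hS _).2 ⟨hx, hy⟩⟩
    refine ⟨x₁.hom a', ?_⟩
    have := congrArg (fun f => f.hom a') hx₁
    simp only [ModuleCat.hom_comp, LinearMap.comp_apply, ha'] at this
    simpa using this
  · intro h A x₂ hx₂ y₁ fac
    let S : Submodule R (A × K.X i) :=
      LinearMap.ker (x₂.hom ∘ₗ LinearMap.fst R _ _ - (K.d i j).hom ∘ₗ LinearMap.snd R _ _)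
    have hS : ∀ p : A × K.X i, p ∈ S ↔ x₂.hom p.1 = (K.d i j).hom p.2 := by
      intro p
      simp only [S, LinearMap.mem_ker, LinearMap.sub_apply, LinearMap.comp_apply,
        LinearMap.fst_apply, LinearMap.snd_apply, sub_eq_zero]
    refine ⟨ModuleCat.of R S, ModuleCat.ofHom (LinearMap.fst R _ _ ∘ₗ S.subtype), ?_,
      ModuleCat.ofHom (LinearMap.snd R _ _ ∘ₗ S.subtype), ?_⟩
    · rw [ModuleCat.epi_iff_surjective]
      intro a
      have h1 : (K.d j k).hom (x₂.hom a) = 0 := by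
        have := congrArg (fun f => f.hom a) hx₂
        simpa using this
      have h2 : (φ.f j).hom (x₂.hom a) = (L.d i j).hom (y₁.hom a) := by
        have := congrArg (fun f => f.hom a) fac
        simpa using this
      obtain ⟨x₁, hx₁⟩ := h (x₂.hom a) h1 (y₁.hom a) h2
      exact ⟨⟨(a, x₁), (hS _).2 hx₁⟩, rfl⟩
    · ext p
      have := (hS p.1).1 p.2
      simpa using this

lemma epi_iff (i j k : ι) (hi : c.prev j = i) (hk : c.next j = k) :
    Epi (homologyMap φ j) ↔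
      ∀ y : L.X j, (L.d j k).hom y = 0 →
        ∃ x : K.X j, (K.d j k).hom x = 0 ∧
          ∃ y₁ : L.X i, y = (φ.f j).hom x + (L.d i j).hom y₁ := by
  rw [epi_homologyMap_iff_up_to_refinements φ i j k hi hk]
  constructor
  · intro h y hy
    let S : Submodule R (L.X j) := LinearMap.ker (L.d j k).hom
    obtain ⟨A', π, hπ, x₂, hx₂, y₁, fac⟩ := h (A := ModuleCat.of R S)
      (ModuleCat.ofHom S.subtype)
      (by
        ext p
        have : (L.d j k).hom p.1 = 0 := p.2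
        simpa using this)
    rw [ModuleCat.epi_iff_surjective] at hπ
    obtain ⟨a', ha'⟩ := hπ ⟨y, hy⟩
    refine ⟨x₂.hom a', ?_, y₁.hom a', ?_⟩
    · have := congrArg (fun f => f.hom a') hx₂
      simpa using this
    · have := congrArg (fun f => f.hom a') fac
      simp only [ModuleCat.hom_comp, ModuleCat.hom_add, LinearMap.comp_apply,
        LinearMap.add_apply, ha'] at this
      simpa using this
  · intro h A y₂ hy₂
    let S : Submodule R (A × K.X j × L.X i) :=
      LinearMap.ker ((K.d j k).hom ∘ₗ LinearMap.fst R _ _ ∘ₗ LinearMap.snd R _ _) ⊓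
      LinearMap.ker (y₂.hom ∘ₗ LinearMap.fst R _ _ -
        ((φ.f j).hom ∘ₗ LinearMap.fst R _ _ ∘ₗ LinearMap.snd R _ _ +
          (L.d i j).hom ∘ₗ LinearMap.snd R _ _ ∘ₗ LinearMap.snd R _ _))
    have hS : ∀ p : A × K.X j × L.X i, p ∈ S ↔ (K.d j k).hom p.2.1 = 0 ∧
        y₂.hom p.1 = (φ.f j).hom p.2.1 + (L.d i j).hom p.2.2 := by
      intro p
      simp only [S, Submodule.mem_inf, LinearMap.mem_ker, LinearMap.comp_apply,
        LinearMap.fst_apply, LinearMap.snd_apply, LinearMap.sub_apply, LinearMap.add_apply,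
        sub_eq_zero]
    refine ⟨ModuleCat.of R S, ModuleCat.ofHom (LinearMap.fst R _ _ ∘ₗ S.subtype), ?_,
      ModuleCat.ofHom (LinearMap.fst R _ _ ∘ₗ LinearMap.snd R _ _ ∘ₗ S.subtype), ?_,
      ModuleCat.ofHom (LinearMap.snd R _ _ ∘ₗ LinearMap.snd R _ _ ∘ₗ S.subtype), ?_⟩
    · rw [ModuleCat.epi_iff_surjective]
      intro a
      have h1 : (L.d j k).hom (y₂.hom a) = 0 := by
        have := congrArg (fun f => f.hom a) hy₂
        simpa using this
      obtain ⟨x, hx, y₁, hy₁⟩ := h (y₂.hom a) h1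
      exact ⟨⟨(a, x, y₁), (hS _).2 ⟨hx, hy₁⟩⟩, rfl⟩
    · ext p
      have := ((hS p.1).1 p.2).1
      simpa using this
    · ext p
      have := ((hS p.1).1 p.2).2
      simpa using this

end Elem

section Chain

variable {R : Type u} [Ring R] {C D : ChainComplex (ModuleCat.{v} R) ℕ} (f : C ⟶ D)

lemma mono_H1_iff : Mono (homologyMap f 1) ↔
    ∀ x : C.X 1, (C.d 1 0).hom x = 0 → ∀ y : D.X 2, (f.f 1).hom x = (D.d 2 1).hom y →
      ∃ x₁ : C.X 2, x = (C.d 2 1).hom x₁ :=
  mono_iff f 2 1 0 (by simp) (ChainComplex.next_nat_succ 0)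

lemma epi_H1_iff : Epi (homologyMap f 1) ↔
    ∀ y : D.X 1, (D.d 1 0).hom y = 0 →
      ∃ x : C.X 1, (C.d 1 0).hom x = 0 ∧ ∃ y₁ : D.X 2, y = (f.f 1).hom x + (D.d 2 1).hom y₁ :=
  epi_iff f 2 1 0 (by simp) (ChainComplex.next_nat_succ 0)

lemma mono_H0_iff : Mono (homologyMap f 0) ↔
    ∀ a : C.X 0, ∀ y : D.X 1, (f.f 0).hom a = (D.d 1 0).hom y →
      ∃ x₁ : C.X 1, a = (C.d 1 0).hom x₁ := by
  rw [mono_iff f 1 0 0 (by simp) ChainComplex.next_nat_zero]
  have hz : C.d 0 0 = 0 := C.shape _ _ (by simp)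
  constructor
  · intro h a y hy
    exact h a (by rw [hz]; simp) y hy
  · intro h a _ y hy
    exact h a y hy

lemma epi_H0_iff : Epi (homologyMap f 0) ↔
    ∀ b : D.X 0, ∃ a : C.X 0, ∃ y₁ : D.X 1, b = (f.f 0).hom a + (D.d 1 0).hom y₁ := by
  rw [epi_iff f 1 0 0 (by simp) ChainComplex.next_nat_zero]
  have hz : D.d 0 0 = 0 := D.shape _ _ (by simp)
  constructor
  · intro h b
    obtain ⟨a, _, y₁, hy₁⟩ := h b (by rw [hz]; simp)
    exact ⟨a, y₁, hy₁⟩
  · intro h b _
    obtain ⟨a, y₁, hy₁⟩ := h b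
    have hz' : C.d 0 0 = 0 := C.shape _ _ (by simp)
    exact ⟨a, by rw [hz']; simp, y₁, hy₁⟩

lemma comm10 (x : C.X 1) : (D.d 1 0).hom ((f.f 1).hom x) = (f.f 0).hom ((C.d 1 0).hom x) := by
  have h := congrArg (fun g => g.hom x) (f.comm 1 0)
  simpa only [ModuleCat.hom_comp, LinearMap.comp_apply] using h

end Chain

section Grpd

open W4c3biextchow

variable {R : Type u} [Ring R] {C D : ChainComplex (ModuleCat.{v} R) ℕ} (f : C ⟶ D)

/-- Every morphism of the groupoid of a complex is an isomorphism. -/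
def isoOfHom {a b : Obj C} (φ : a ⟶ b) : a ≅ b where
  hom := φ
  inv := (⟨-(φ : W4c3biextchow.Hom C a b).cl, by
    rw [map_neg, (φ : W4c3biextchow.Hom C a b).delta_cl]; abel⟩ : W4c3biextchow.Hom C b a)
  hom_inv_id := W4c3biextchow.Hom.ext (by simp)
  inv_hom_id := W4c3biextchow.Hom.ext (by simp)

theorem faithful_iff : (cxFunctor f).Faithful ↔ Mono (homologyMap f 1) := by
  rw [mono_H1_iff]
  constructor
  · intro hF x hx y hy
    let φ : (⟨0⟩ : Obj C) ⟶ ⟨0⟩ :=
      (⟨Submodule.Quotient.mk x, by rw [delta_mk, hx, sub_self]⟩ : W4c3biextchow.Hom C ⟨0⟩ ⟨0⟩)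
    have h : (cxFunctor f).map φ = (cxFunctor f).map (𝟙 _) := by
      apply W4c3biextchow.Hom.ext
      show q1Map f (Submodule.Quotient.mk x) = q1Map f 0
      rw [q1Map_mk, map_zero, Submodule.Quotient.mk_eq_zero]
      exact ⟨y, hy.symm⟩
    have h2 := hF.map_injective h
    have h3 : (Submodule.Quotient.mk x : Q1 C) = 0 := congrArg W4c3biextchow.Hom.cl h2
    rw [Submodule.Quotient.mk_eq_zero] at h3
    obtain ⟨x₁, hx₁⟩ := h3
    exact ⟨x₁, hx₁.symm⟩
  · intro hM
    constructor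
    intro a b φ ψ h
    have hcl : q1Map f (φ : W4c3biextchow.Hom C a b).cl = q1Map f (ψ : W4c3biextchow.Hom C a b).cl :=
      congrArg W4c3biextchow.Hom.cl h
    obtain ⟨x, hx⟩ := Submodule.Quotient.mk_surjective _
      ((φ : W4c3biextchow.Hom C a b).cl - (ψ : W4c3biextchow.Hom C a b).cl)
    have hdx : (C.d 1 0).hom x = 0 := by
      rw [← delta_mk, hx, map_sub, (φ : W4c3biextchow.Hom C a b).delta_cl,
        (ψ : W4c3biextchow.Hom C a b).delta_cl, sub_self]
    have hq : (Submodule.Quotient.mk ((f.f 1).hom x) : Q1 D) = 0 := by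
      rw [← q1Map_mk, hx, map_sub, hcl, sub_self]
    rw [Submodule.Quotient.mk_eq_zero] at hq
    obtain ⟨y, hy⟩ := hq
    obtain ⟨x₁, hx₁⟩ := hM x hdx y hy.symm
    have h0 : (Submodule.Quotient.mk x : Q1 C) = 0 := by
      rw [Submodule.Quotient.mk_eq_zero]; exact ⟨x₁, hx₁.symm⟩
    rw [hx] at h0
    exact W4c3biextchow.Hom.ext (sub_eq_zero.1 h0)

theorem essSurj_iff : (cxFunctor f).EssSurj ↔ Epi (homologyMap f 0) := by
  rw [epi_H0_iff]
  constructor
  · intro hE b
    obtain ⟨a, ⟨e⟩⟩ := hE.mem_essImage (⟨b⟩ : Obj D)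
    obtain ⟨y, hy⟩ := Submodule.Quotient.mk_surjective _
      (e.hom : W4c3biextchow.Hom D _ _).cl
    have hd := (e.hom : W4c3biextchow.Hom D _ _).delta_cl
    rw [← hy, delta_mk] at hd
    refine ⟨a.pt, y, ?_⟩
    rw [hd]
    simp
  · intro h
    constructor
    intro b
    obtain ⟨a, y, hy⟩ := h b.pt
    refine ⟨⟨a⟩, ⟨isoOfHom ?_⟩⟩
    exact (⟨Submodule.Quotient.mk y, by rw [delta_mk, hy]; simp⟩ :
      W4c3biextchow.Hom D ((cxFunctor f).obj ⟨a⟩) b)

theorem full_iff : (cxFunctor f).Full ↔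
    Epi (homologyMap f 1) ∧ Mono (homologyMap f 0) := by
  rw [epi_H1_iff, mono_H0_iff]
  constructor
  · intro hF
    constructor
    · intro y hy
      obtain ⟨φ, hφ⟩ := hF.map_surjective (X := (⟨0⟩ : Obj C)) (Y := (⟨0⟩ : Obj C))
        (⟨Submodule.Quotient.mk y, by rw [delta_mk, hy, sub_self]⟩ :
          W4c3biextchow.Hom D ((cxFunctor f).obj ⟨0⟩) ((cxFunctor f).obj ⟨0⟩))
      obtain ⟨x, hx⟩ := Submodule.Quotient.mk_surjective _
        (φ : W4c3biextchow.Hom C _ _).cl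
      have hdx : (C.d 1 0).hom x = 0 := by
        rw [← delta_mk, hx, (φ : W4c3biextchow.Hom C _ _).delta_cl, sub_self]
      have hcl : q1Map f (φ : W4c3biextchow.Hom C _ _).cl = Submodule.Quotient.mk y :=
        congrArg W4c3biextchow.Hom.cl hφ
      rw [← hx, q1Map_mk, Submodule.Quotient.eq] at hcl
      obtain ⟨y₁, hy₁⟩ := hcl
      refine ⟨x, hdx, -y₁, ?_⟩
      rw [map_neg, hy₁]
      abel
    · intro a y hy
      obtain ⟨φ, _⟩ := hF.map_surjective (X := (⟨0⟩ : Obj C)) (Y := (⟨a⟩ : Obj C))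
        (⟨Submodule.Quotient.mk y, by
          rw [delta_mk, cxFunctor_obj_pt, cxFunctor_obj_pt, map_zero, sub_zero, hy]⟩ :
          W4c3biextchow.Hom D ((cxFunctor f).obj ⟨0⟩) ((cxFunctor f).obj ⟨a⟩))
      obtain ⟨x, hx⟩ := Submodule.Quotient.mk_surjective _
        (φ : W4c3biextchow.Hom C _ _).cl
      have hdx : (C.d 1 0).hom x = a := by
        rw [← delta_mk, hx, (φ : W4c3biextchow.Hom C _ _).delta_cl, sub_zero]
      exact ⟨x, hdx.symm⟩
  · rintro ⟨hE, hM⟩
    constructor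
    intro a b ψ
    obtain ⟨y, hy⟩ := Submodule.Quotient.mk_surjective _
      (ψ : W4c3biextchow.Hom D _ _).cl
    have hd := (ψ : W4c3biextchow.Hom D _ _).delta_cl
    rw [← hy, delta_mk, cxFunctor_obj_pt, cxFunctor_obj_pt, ← map_sub] at hd
    obtain ⟨x, hx⟩ := hM (b.pt - a.pt) y hd.symm
    have hz : (D.d 1 0).hom (y - (f.f 1).hom x) = 0 := by
      rw [map_sub, comm10, ← hx, hd, sub_self]
    obtain ⟨x', hx', y₂, hy₂⟩ := hE _ hz
    refine ⟨(⟨Submodule.Quotient.mk (x + x'), by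
      rw [delta_mk, map_add, hx', add_zero, ← hx]⟩ : W4c3biextchow.Hom C a b), ?_⟩
    apply W4c3biextchow.Hom.ext
    show q1Map f (Submodule.Quotient.mk (x + x')) = (ψ : W4c3biextchow.Hom D _ _).cl
    rw [← hy, q1Map_mk, Submodule.Quotient.eq]
    refine ⟨-y₂, ?_⟩
    rw [map_neg, map_add]
    have : (D.d 2 1).hom y₂ = y - (f.f 1).hom x - (f.f 1).hom x' := by
      rw [hy₂]; abel
    rw [this]
    abel

end Grpd

end Groth.Agent.Lib.CxGrpd
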