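import Mathlib
import Groth.Prelude.Def_W4c3biextchowCx
import Groth.Agent.Lib.CxGrpd_lead

/-!
# Two retractions of an injective quasi-isomorphism induce isomorphic functors (helper3)
-/

set_option autoImplicit false

namespace Groth.Agent.Lib.CxHtpyH3

open CategoryTheory HomologicalComplex W4c3biextchow Groth.Agent.Lib.CxGrpd

universe v

section

variable {C D : ChainComplex (ModuleCat.{v} ℤ) ℕ} (g : C ⟶ D)

lemma comm21 (x : C.X 2) : (D.d 2 1).hom ((g.f 2).hom x) = (g.f 1).hom ((C.d 2 1).hom x) := by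
  have h := congrArg (fun φ => φ.hom x) (g.comm 2 1)
  simpa only [ModuleCat.hom_comp, LinearMap.comp_apply] using h

lemma comm10' (x : C.X 1) : (D.d 1 0).hom ((g.f 1).hom x) = (g.f 0).hom ((C.d 1 0).hom x) :=
  comm10 g x

end

variable {A' A B : ChainComplex (ModuleCat.{v} ℤ) ℕ} (f : A' ⟶ A) (h' : A' ⟶ B)
  (g₁ g₂ : A ⟶ A')

lemma retr_apply (g : A ⟶ A') (h : f ≫ g = 𝟙 A') (i : ℕ) (x : A'.X i) :
    (g.f i).hom ((f.f i).hom x) = x := by
  have := congrArg (fun φ : A' ⟶ A' => (φ.f i).hom x) h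
  simpa only [HomologicalComplex.comp_f, ModuleCat.hom_comp, LinearMap.comp_apply,
    HomologicalComplex.id_f, ModuleCat.hom_id, LinearMap.id_apply] using this

/-- The difference of the two retractions in degree `i`. -/
noncomputable def δ (i : ℕ) : A.X i →ₗ[ℤ] A'.X i := (g₂.f i).hom - (g₁.f i).hom

lemma δ_f (h₁ : f ≫ g₁ = 𝟙 A') (h₂ : f ≫ g₂ = 𝟙 A') (i : ℕ) (x : A'.X i) :
    δ g₁ g₂ i ((f.f i).hom x) = 0 := by
  simp only [δ, LinearMap.sub_apply]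
  rw [retr_apply f g₁ h₁, retr_apply f g₂ h₂, sub_self]

lemma d_δ1 (x : A.X 1) : (A'.d 1 0).hom (δ g₁ g₂ 1 x) = δ g₁ g₂ 0 ((A.d 1 0).hom x) := by
  simp only [δ, LinearMap.sub_apply, map_sub]
  rw [comm10' g₂, comm10' g₁]

lemma d_δ2 (x : A.X 2) : (A'.d 2 1).hom (δ g₁ g₂ 2 x) = δ g₁ g₂ 1 ((A.d 2 1).hom x) := by
  simp only [δ, LinearMap.sub_apply, map_sub]
  rw [comm21 g₂, comm21 g₁]

section Aux

lemma exists_section_aux {R : Type*} [Ring R] {M N : Type*} [AddCommGroup M] [Module R M]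
    [AddCommGroup N] [Module R N] (S : Submodule R M) [Module.Projective R (M ⧸ S)]
    (d : N →ₗ[R] M) (hsurj : ∀ a : M, ∃ y : N, d y - a ∈ S) :
    ∃ t : M →ₗ[R] N, (∀ a, d (t a) - a ∈ S) ∧ ∀ a ∈ S, t a = 0 := by
  have hs : Function.Surjective (S.mkQ ∘ₗ d) := by
    intro c
    obtain ⟨a, rfl⟩ := Submodule.Quotient.mk_surjective _ c
    obtain ⟨y, hy⟩ := hsurj a
    refine ⟨y, ?_⟩
    rw [LinearMap.comp_apply, Submodule.mkQ_apply]
    exact (Submodule.Quotient.eq S).mpr hy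
  obtain ⟨t₀, ht₀⟩ := Module.projective_lifting_property (S.mkQ ∘ₗ d) LinearMap.id hs
  refine ⟨t₀ ∘ₗ S.mkQ, ?_, ?_⟩
  · intro a
    have := LinearMap.congr_fun ht₀ (S.mkQ a)
    rw [LinearMap.comp_apply, LinearMap.comp_apply, LinearMap.id_apply, Submodule.mkQ_apply,
      Submodule.mkQ_apply] at this
    exact (Submodule.Quotient.eq S).mp this
  · intro a ha
    rw [LinearMap.comp_apply, Submodule.mkQ_apply, (Submodule.Quotient.mk_eq_zero S).mpr ha,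
      map_zero]

end Aux

section Main

variable (hq0 : Module.Free ℤ ((A.X 0) ⧸ LinearMap.range (f.f 0).hom)) [QuasiIso f]
  (h₁ : f ≫ g₁ = 𝟙 A') (h₂ : f ≫ g₂ = 𝟙 A')

include hq0 in
lemma exists_t :
    ∃ t : A.X 0 →ₗ[ℤ] A.X 1,
      (∀ a, (A.d 1 0).hom (t a) - a ∈ LinearMap.range (f.f 0).hom) ∧
      (∀ a', t ((f.f 0).hom a') = 0) := by
  have hepi : Epi (homologyMap f 0) := inferInstance
  rw [epi_H0_iff] at hepi
  have hproj : @Module.Projective ℤ _ ((A.X 0) ⧸ LinearMap.range (f.f 0).hom) _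
      (Submodule.Quotient.module _) := by
    have h0 : Module.Projective ℤ ((A.X 0) ⧸ LinearMap.range (f.f 0).hom) := inferInstance
    convert h0
    · rfl
    · exact Subsingleton.elim _ _
  obtain ⟨t, ht1, ht2⟩ := exists_section_aux (R := ℤ) (LinearMap.range (f.f 0).hom)
    (A.d 1 0).hom (by
      intro a
      obtain ⟨a', y₁, hy⟩ := hepi a
      refine ⟨y₁, ⟨-a', ?_⟩⟩
      rw [hy, map_neg]
      abel)
  exact ⟨t, ht1, fun a' => ht2 _ ⟨a', rfl⟩⟩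

include hq0 h₁ h₂ in
theorem exists_s0 :
    ∃ s₀ : A.X 0 →ₗ[ℤ] A'.X 1,
      (∀ a, (A'.d 1 0).hom (s₀ a) = δ g₁ g₂ 0 a) ∧
      (∀ a', s₀ ((f.f 0).hom a') = 0) ∧
      (∀ c : A.X 1, ∃ e : A'.X 2, δ g₁ g₂ 1 c - s₀ ((A.d 1 0).hom c) = (A'.d 2 1).hom e) := by
  obtain ⟨t, ht1, ht2⟩ := exists_t f hq0
  have hmono0 : Mono (homologyMap f 0) := inferInstance
  rw [mono_H0_iff] at hmono0
  have hepi1 : Epi (homologyMap f 1) := inferInstance
  rw [epi_H1_iff] at hepi1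
  -- elements congruent mod `f(A'₀)` have the same `δ₀`
  have hδcong : ∀ a b : A.X 0, a - b ∈ LinearMap.range (f.f 0).hom →
      δ g₁ g₂ 0 a = δ g₁ g₂ 0 b := by
    intro a b hab
    obtain ⟨a', ha'⟩ := hab
    have h0 := δ_f f g₁ g₂ h₁ h₂ 0 a'
    rw [ha', map_sub, sub_eq_zero] at h0
    exact h0
  refine ⟨δ g₁ g₂ 1 ∘ₗ t, ?_, ?_, ?_⟩
  · intro a
    rw [LinearMap.comp_apply, d_δ1]
    exact hδcong _ _ (ht1 a)
  · intro a'
    rw [LinearMap.comp_apply, ht2, map_zero]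
  · intro c
    set c₁ : A.X 1 := c - t ((A.d 1 0).hom c) with hc₁
    have hz : δ g₁ g₂ 1 c - (δ g₁ g₂ 1 ∘ₗ t) ((A.d 1 0).hom c) = δ g₁ g₂ 1 c₁ := by
      rw [LinearMap.comp_apply, hc₁, map_sub]
    rw [hz]
    -- `d c₁ ∈ f(A'₀)`
    have hdc₁ : (A.d 1 0).hom c₁ ∈ LinearMap.range (f.f 0).hom := by
      have := Submodule.neg_mem _ (ht1 ((A.d 1 0).hom c))
      rw [neg_sub] at this
      rw [hc₁, map_sub]
      exact this
    obtain ⟨a', ha'⟩ := hdc₁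
    obtain ⟨b', hb'⟩ := hmono0 a' c₁ ha'
    have hcyc : (A.d 1 0).hom (c₁ - (f.f 1).hom b') = 0 := by
      rw [map_sub, comm10' f, ← hb', ha', sub_self]
    obtain ⟨x, _, y₁, hy₁⟩ := hepi1 _ hcyc
    have hc₁' : c₁ = (f.f 1).hom (b' + x) + (A.d 2 1).hom y₁ := by
      rw [map_add, add_assoc, ← hy₁]
      abel
    refine ⟨δ g₁ g₂ 2 y₁, ?_⟩
    rw [d_δ2, hc₁', map_add, δ_f f g₁ g₂ h₁ h₂, zero_add]

include hq0 h₁ h₂ in
theorem main :
    ∃ N : cxFunctor (g₁ ≫ h') ≅ cxFunctor (g₂ ≫ h'),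
      ∀ a : Obj A', (N.hom.app ((cxFunctor f).obj a) : W4c3biextchow.Hom B _ _).cl = 0 := by
  obtain ⟨s₀, hs1, hs2, hs3⟩ := exists_s0 f g₁ g₂ hq0 h₁ h₂
  have hdelta : ∀ a : Obj A, delta B (Submodule.Quotient.mk ((h'.f 1).hom (s₀ a.pt))) =
      ((cxFunctor (g₂ ≫ h')).obj a).pt - ((cxFunctor (g₁ ≫ h')).obj a).pt := by
    intro a
    rw [delta_mk, comm10' h', hs1]
    simp only [δ, LinearMap.sub_apply, map_sub, cxFunctor_obj_pt, HomologicalComplex.comp_f,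
      ModuleCat.hom_comp, LinearMap.comp_apply]
  let Na : ∀ a : Obj A, (cxFunctor (g₁ ≫ h')).obj a ⟶ (cxFunctor (g₂ ≫ h')).obj a := fun a =>
    (⟨Submodule.Quotient.mk ((h'.f 1).hom (s₀ a.pt)), hdelta a⟩ : W4c3biextchow.Hom B _ _)
  refine ⟨NatIso.ofComponents (fun a => isoOfHom (Na a)) ?_, ?_⟩
  · intro a b φ
    apply W4c3biextchow.Hom.ext
    obtain ⟨c, hc⟩ := Submodule.Quotient.mk_surjective _ (φ : W4c3biextchow.Hom A a b).cl
    have hdc : (A.d 1 0).hom c = b.pt - a.pt := by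
      rw [← delta_mk, hc, (φ : W4c3biextchow.Hom A a b).delta_cl]
    show q1Map (g₁ ≫ h') (φ : W4c3biextchow.Hom A a b).cl +
        Submodule.Quotient.mk ((h'.f 1).hom (s₀ b.pt)) =
      Submodule.Quotient.mk ((h'.f 1).hom (s₀ a.pt)) +
        q1Map (g₂ ≫ h') (φ : W4c3biextchow.Hom A a b).cl
    rw [← hc, q1Map_mk, q1Map_mk, ← Submodule.Quotient.mk_add, ← Submodule.Quotient.mk_add,
      Submodule.Quotient.eq]
    obtain ⟨e, he⟩ := hs3 c
    refine ⟨(h'.f 2).hom (-e), ?_⟩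
    rw [comm21 h', map_neg, ← he, hdc]
    simp only [δ, LinearMap.sub_apply, map_sub, map_neg, HomologicalComplex.comp_f,
      ModuleCat.hom_comp, LinearMap.comp_apply]
    abel
  · intro a
    show Submodule.Quotient.mk ((h'.f 1).hom (s₀ ((cxFunctor f).obj a).pt)) = 0
    rw [cxFunctor_obj_pt, hs2, map_zero, Submodule.Quotient.mk_zero]

end Main

end Groth.Agent.Lib.CxHtpyH3
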