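import Mathlib

namespace Groth.Agent.Lib.CycBlock

open Polynomial Matrix

noncomputable section

variable {R : Type*} [CommRing R] {m : Type*} [Fintype m] [DecidableEq m]

/-- the block matrix -/
def Bm (A : Matrix m m R) (n : ℕ) : Matrix (Fin n × m) (Fin n × m) R :=
  Matrix.of fun (p q : Fin n × m) =>
    if p.1.val = 0 then (if q.1.val = n - 1 then A p.2 q.2 else 0)
    else (if q.1.val + 1 = p.1.val ∧ p.2 = q.2 then 1 else 0)

def Um (R : Type*) [CommRing R] (m : Type*) [Fintype m] [DecidableEq m] (n : ℕ) :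
    Matrix (Fin n × m) (Fin n × m) R[X] :=
  Matrix.of fun (p q : Fin n × m) =>
    if p.2 = q.2 ∧ q.1.val ≤ p.1.val then (X : R[X]) ^ (p.1.val - q.1.val) else 0

def Nm (A : Matrix m m R) (n : ℕ) : Matrix (Fin n × m) (Fin n × m) R[X] :=
  Matrix.of fun (p q : Fin n × m) =>
    if p.1.val = 0 then
      ((if p.2 = q.2 ∧ q.1.val = 0 then (1 : R[X]) else 0) -
        (X : R[X]) ^ (n - q.1.val) * C (A p.2 q.2))
    else (if p = q then 1 else 0)

theorem Bm_apply (A : Matrix m m R) (n : ℕ) (i j : Fin n) (a b : m) :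
    Bm A n (i, a) (j, b) = if i.val = 0 then (if j.val = n - 1 then A a b else 0)
      else (if j.val + 1 = i.val ∧ a = b then 1 else 0) := rfl

theorem Um_apply (n : ℕ) (i j : Fin n) (a b : m) :
    Um R m n (i, a) (j, b) =
      if a = b ∧ j.val ≤ i.val then (X : R[X]) ^ (i.val - j.val) else 0 := rfl

theorem Nm_apply (A : Matrix m m R) (n : ℕ) (i j : Fin n) (a b : m) :
    Nm A n (i, a) (j, b) = if i.val = 0 then
      ((if a = b ∧ j.val = 0 then (1 : R[X]) else 0) - (X : R[X]) ^ (n - j.val) * C (A a b))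
    else (if (i, a) = (j, b) then 1 else 0) := rfl

theorem BU_apply (A : Matrix m m R) (n : ℕ) (hn : 1 ≤ n) (i j : Fin n) (a b : m) :
    (((Bm A n).map C) * Um R m n) (i, a) (j, b) =
      if i.val = 0 then C (A a b) * (X : R[X]) ^ (n - 1 - j.val)
      else (if a = b ∧ j.val + 1 ≤ i.val then (X : R[X]) ^ (i.val - 1 - j.val) else 0) := by
  rw [Matrix.mul_apply]
  have hj := j.isLt
  have hi' := i.isLt
  by_cases hi : i.val = 0
  · rw [if_pos hi]
    have hlast : n - 1 < n := by omega
    rw [Finset.sum_eq_single ((⟨n - 1, hlast⟩ : Fin n), b)]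
    · rw [Matrix.map_apply, Bm_apply, Um_apply, if_pos hi,
        if_pos (show (⟨n - 1, hlast⟩ : Fin n).val = n - 1 from rfl),
        if_pos (show b = b ∧ j.val ≤ (⟨n - 1, hlast⟩ : Fin n).val from
          ⟨rfl, by show j.val ≤ n - 1; omega⟩)]
    · rintro ⟨k, c⟩ _ hr
      rw [Matrix.map_apply, Bm_apply, Um_apply, if_pos hi]
      by_cases h1 : k.val = n - 1
      · by_cases h2 : c = b
        · exfalso; apply hr; rw [h2]; exact Prod.ext (Fin.ext h1) rfl
        · rw [if_neg (show ¬ (c = b ∧ j.val ≤ k.val) from fun h => h2 h.1), mul_zero]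
      · rw [if_neg h1, map_zero, zero_mul]
    · intro h; exact absurd (Finset.mem_univ _) h
  · rw [if_neg hi]
    have hpred : i.val - 1 < n := by omega
    rw [Finset.sum_eq_single ((⟨i.val - 1, hpred⟩ : Fin n), a)]
    · rw [Matrix.map_apply, Bm_apply, Um_apply, if_neg hi,
        if_pos (show (⟨i.val - 1, hpred⟩ : Fin n).val + 1 = i.val ∧ a = a from
          ⟨by show i.val - 1 + 1 = i.val; omega, rfl⟩), map_one, one_mul]
      by_cases h : a = b ∧ j.val + 1 ≤ i.val
      · rw [if_pos h, if_pos (show a = b ∧ j.val ≤ (⟨i.val - 1, hpred⟩ : Fin n).val from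
          ⟨h.1, by show j.val ≤ i.val - 1; omega⟩)]
      · rw [if_neg h, if_neg (show ¬ (a = b ∧ j.val ≤ (⟨i.val - 1, hpred⟩ : Fin n).val) from
          fun h' => h ⟨h'.1, by have h3 : j.val ≤ i.val - 1 := h'.2; omega⟩)]
    · rintro ⟨k, c⟩ _ hr
      rw [Matrix.map_apply, Bm_apply, if_neg hi]
      by_cases h1 : k.val + 1 = i.val ∧ a = c
      · exfalso; apply hr
        obtain ⟨h1a, h1b⟩ := h1
        rw [h1b]
        exact Prod.ext (Fin.ext (by show k.val = i.val - 1; omega)) rfl
      · rw [if_neg h1, map_zero, zero_mul]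
    · intro h; exact absurd (Finset.mem_univ _) h

theorem MU_eq (A : Matrix m m R) (n : ℕ) (hn : 1 ≤ n) :
    (1 - (X : R[X]) • (Bm A n).map C) * Um R m n = Nm A n := by
  rw [Matrix.sub_mul, Matrix.one_mul, Matrix.smul_mul]
  refine Matrix.ext ?_
  rintro ⟨i, a⟩ ⟨j, b⟩
  rw [Matrix.sub_apply, Matrix.smul_apply, BU_apply A n hn, Um_apply, Nm_apply, smul_eq_mul]
  have hj := j.isLt
  have hi' := i.isLt
  by_cases hi : i.val = 0
  · rw [if_pos hi, if_pos hi]
    have e1 : n - j.val = (n - 1 - j.val) + 1 := by omega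
    rw [e1, pow_succ]
    by_cases h : a = b ∧ j.val = 0
    · have e2 : i.val - j.val = 0 := by omega
      rw [if_pos h, if_pos (show a = b ∧ j.val ≤ i.val from ⟨h.1, by omega⟩), e2, pow_zero]
      ring
    · rw [if_neg h, if_neg (show ¬ (a = b ∧ j.val ≤ i.val) from
        fun h' => h ⟨h'.1, by have := h'.2; omega⟩)]
      ring
  · rw [if_neg hi, if_neg hi]
    by_cases hab : a = b
    · subst hab
      rcases lt_trichotomy j.val i.val with h | h | h
      · have e2 : i.val - j.val = (i.val - 1 - j.val) + 1 := by omega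
        rw [if_pos (show a = a ∧ j.val ≤ i.val from ⟨rfl, h.le⟩),
          if_pos (show a = a ∧ j.val + 1 ≤ i.val from ⟨rfl, h⟩),
          if_neg (show ¬ ((i, a) = (j, a)) from fun he =>
            absurd (congrArg Fin.val (Prod.mk.inj he).1) (by omega)), e2, pow_succ]
        ring
      · have hij : i = j := Fin.ext h.symm
        have e2 : i.val - j.val = 0 := by omega
        rw [if_pos (show a = a ∧ j.val ≤ i.val from ⟨rfl, h.le⟩),
          if_neg (show ¬ (a = a ∧ j.val + 1 ≤ i.val) from fun h' => by have := h'.2; omega),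
          if_pos (show (i, a) = (j, a) from by rw [hij]), e2, pow_zero, mul_zero, sub_zero]
      · rw [if_neg (show ¬ (a = a ∧ j.val ≤ i.val) from fun h' => by have := h'.2; omega),
          if_neg (show ¬ (a = a ∧ j.val + 1 ≤ i.val) from fun h' => by have := h'.2; omega),
          if_neg (show ¬ ((i, a) = (j, a)) from fun he =>
            absurd (congrArg Fin.val (Prod.mk.inj he).1) (by omega)), mul_zero, sub_zero]
    · rw [if_neg (show ¬ (a = b ∧ j.val ≤ i.val) from fun h => hab h.1),
        if_neg (show ¬ (a = b ∧ j.val + 1 ≤ i.val) from fun h => hab h.1),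
        if_neg (show ¬ ((i, a) = (j, b)) from fun he => hab (Prod.mk.inj he).2),
        mul_zero, sub_zero]

theorem det_Um (n : ℕ) : (Um R m n).det = 1 := by
  have hbt : (Um R m n).BlockTriangular (fun p : Fin n × m => OrderDual.toDual p.1) := by
    rintro ⟨i, a⟩ ⟨j, b⟩ h
    have h' : i < j := h
    have h'' : i.val < j.val := h'
    rw [Um_apply, if_neg]
    intro h2
    have h3 : j.val ≤ i.val := h2.2
    omega
  rw [hbt.det_fintype]
  apply Finset.prod_eq_one
  intro k _
  have hone : (Um R m n).toSquareBlock (fun p : Fin n × m => OrderDual.toDual p.1) k = 1 := by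
    refine Matrix.ext ?_
    rintro ⟨⟨i, a⟩, hp⟩ ⟨⟨j, b⟩, hq⟩
    have hij : i = j := by
      have h1 : OrderDual.toDual i = k := hp
      have h2 : OrderDual.toDual j = k := hq
      exact OrderDual.toDual.injective (h1.trans h2.symm)
    subst hij
    rw [Matrix.one_apply]
    show Um R m n (i, a) (i, b) = _
    rw [Um_apply]
    by_cases hab : a = b
    · subst hab
      rw [if_pos (show a = a ∧ i.val ≤ i.val from ⟨rfl, le_rfl⟩), if_pos rfl, Nat.sub_self,
        pow_zero]
    · rw [if_neg (show ¬ (a = b ∧ i.val ≤ i.val) from fun h => hab h.1), if_neg]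
      intro h
      apply hab
      have h4 : ((i, a) : Fin n × m) = (i, b) := congrArg Subtype.val h
      exact (Prod.mk.inj h4).2
  rw [hone, Matrix.det_one]

theorem det_Nm (A : Matrix m m R) (n' : ℕ) :
    (Nm A (n' + 1)).det = (1 - (X : R[X]) ^ (n' + 1) • A.map C).det := by
  have hbt : (Nm A (n' + 1)).BlockTriangular (fun p : Fin (n' + 1) × m => p.1) := by
    rintro ⟨i, a⟩ ⟨j, b⟩ h
    have h' : j < i := h
    have h'' : j.val < i.val := h'
    rw [Nm_apply, if_neg (show ¬ i.val = 0 by omega), if_neg]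
    intro he
    have h5 := (Prod.mk.inj he).1
    rw [h5] at h''
    exact lt_irrefl _ h''
  rw [hbt.det_fintype, Finset.prod_eq_single (0 : Fin (n' + 1))]
  · let e₀ : {p : Fin (n' + 1) × m // p.1 = 0} ≃ m :=
      { toFun := fun p => p.1.2
        invFun := fun a => ⟨(0, a), rfl⟩
        left_inv := by rintro ⟨⟨i, a⟩, h⟩; exact Subtype.ext (Prod.ext h.symm rfl)
        right_inv := fun a => rfl }
    have hblock : (Nm A (n' + 1)).toSquareBlock (fun p : Fin (n' + 1) × m => p.1) 0 =
        (1 - (X : R[X]) ^ (n' + 1) • A.map C).submatrix e₀ e₀ := by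
      refine Matrix.ext ?_
      rintro ⟨⟨i, a⟩, hp⟩ ⟨⟨j, b⟩, hq⟩
      have hi : i = 0 := hp
      have hj : j = 0 := hq
      subst hi
      subst hj
      show Nm A (n' + 1) (0, a) (0, b) = (1 - (X : R[X]) ^ (n' + 1) • A.map C) a b
      rw [Nm_apply, if_pos (show (0 : Fin (n' + 1)).val = 0 from rfl), Matrix.sub_apply,
        Matrix.smul_apply, Matrix.map_apply, Matrix.one_apply, smul_eq_mul]
      have e3 : n' + 1 - (0 : Fin (n' + 1)).val = n' + 1 := rfl
      rw [e3]
      by_cases hab : a = b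
      · rw [if_pos (show a = b ∧ (0 : Fin (n' + 1)).val = 0 from ⟨hab, rfl⟩), if_pos hab]
      · rw [if_neg (show ¬ (a = b ∧ (0 : Fin (n' + 1)).val = 0) from fun h => hab h.1),
          if_neg hab]
    rw [hblock, Matrix.det_submatrix_equiv_self]
  · intro k _ hk
    have hk0 : ¬ k.val = 0 := fun h => hk (Fin.ext h)
    have hone : (Nm A (n' + 1)).toSquareBlock (fun p : Fin (n' + 1) × m => p.1) k = 1 := by
      refine Matrix.ext ?_
      rintro ⟨⟨i, a⟩, hp⟩ ⟨⟨j, b⟩, hq⟩
      have hik : i = k := hp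
      have hjk : j = k := hq
      have hij : i = j := hik.trans hjk.symm
      have hi0 : ¬ i.val = 0 := by rw [hik]; exact hk0
      rw [Matrix.one_apply]
      show Nm A (n' + 1) (i, a) (j, b) = _
      rw [Nm_apply, if_neg hi0]
      by_cases hab : a = b
      · have h6 : ((i, a) : Fin (n' + 1) × m) = (j, b) := by rw [hij, hab]
        rw [if_pos h6, if_pos (Subtype.ext h6)]
      · rw [if_neg (show ¬ ((i, a) = (j, b)) from fun he => hab (Prod.mk.inj he).2), if_neg]
        intro h
        apply hab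
        have h4 : ((i, a) : Fin (n' + 1) × m) = (j, b) := congrArg Subtype.val h
        exact (Prod.mk.inj h4).2
    rw [hone, Matrix.det_one]
  · intro h; exact absurd (Finset.mem_univ _) h

theorem main (R : Type) [CommRing R] (m : Type) [Fintype m] [DecidableEq m]
    (A : Matrix m m R) (n : ℕ) (hn : 1 ≤ n) :
    (Matrix.of fun (p q : Fin n × m) =>
        if p.1.val = 0 then (if q.1.val = n - 1 then A p.2 q.2 else 0)
        else (if q.1.val + 1 = p.1.val ∧ p.2 = q.2 then 1 else 0)).charpolyRev =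
      Polynomial.expand R n A.charpolyRev := by
  obtain ⟨n', rfl⟩ : ∃ n', n = n' + 1 := ⟨n - 1, by omega⟩
  have h1 : (Bm A (n' + 1)).charpolyRev = (Nm A (n' + 1)).det := by
    unfold Matrix.charpolyRev
    have h2 := congrArg Matrix.det (MU_eq A (n' + 1) hn)
    rw [Matrix.det_mul, det_Um, mul_one] at h2
    exact h2
  have h2 : Polynomial.expand R (n' + 1) A.charpolyRev =
      (1 - (X : R[X]) ^ (n' + 1) • A.map C).det := by
    unfold Matrix.charpolyRev
    rw [AlgHom.map_det]
    congr 1
    ext a b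
    simp only [AlgHom.mapMatrix_apply, Matrix.map_apply, Matrix.sub_apply, Matrix.smul_apply,
      smul_eq_mul, map_sub, map_mul, Polynomial.expand_X, Polynomial.expand_C, Matrix.one_apply]
    split_ifs <;> simp
  exact h1.trans ((det_Nm A n').trans h2.symm)

end

end Groth.Agent.Lib.CycBlock
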