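import Mathlib

set_option maxSynthPendingDepth 3

namespace Groth.Agent.Lib.CycBound

universe u

lemma key {S : Type*} [CommRing S] (x y c bb : S) (ℓ m : ℕ) (hlt : ℓ < m)
    (hjac : x ∈ Ideal.jacobson (⊥ : Ideal S)) (h1 : bb = x ^ m * c) (h2 : y * bb = x ^ ℓ) :
    x ^ ℓ = 0 := by
  obtain ⟨k, rfl⟩ : ∃ k, m = ℓ + k + 1 := ⟨m - ℓ - 1, by omega⟩
  have hunit := Ideal.mem_jacobson_bot.mp hjac (-(x ^ k * c * y))
  have h3 : x ^ ℓ * (x * (-(x ^ k * c * y)) + 1) = 0 := by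
    have : x ^ ℓ * (x * (-(x ^ k * c * y)) + 1) = x ^ ℓ - y * (x ^ (ℓ + k + 1) * c) := by ring
    rw [this, ← h1, h2, sub_self]
  exact (hunit.mul_left_eq_zero).mp h3

theorem main_S1835 (R : Type u) [CommRing R] [IsNoetherianRing R] [IsLocalRing R]
    (hR : ringKrullDim R = 1) (a b : R) (ha : a ∈ nonZeroDivisors R)
    (ham : a ∈ IsLocalRing.maximalIdeal R) (hb : b ∈ nonZeroDivisors R) :
    ∃ n : ℕ, ∀ (R' : Type u) [CommRing R'] [Algebra R R'],
      Function.Injective (algebraMap R R') → Module.Finite R R' →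
      ∀ (m : ℕ) (c : R'), algebraMap R R' b = algebraMap R R' a ^ m * c → m ≤ n := by
  have hdim : Ring.KrullDimLE 1 R := Ring.krullDimLE_iff.mpr (by rw [hR, Nat.cast_one])
  have hprime : ∀ I : Ideal R, I.IsPrime → I ∈ minimalPrimes R ∨ I.IsMaximal :=
    Ring.krullDimLE_one_iff.mp hdim
  have hrad : a ∈ (Ideal.span {b}).radical := by
    rw [Ideal.radical_eq_sInf, Ideal.mem_sInf]
    rintro J ⟨hbJ, hJ⟩
    have hbJ' : b ∈ J := hbJ (Ideal.mem_span_singleton_self b)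
    rcases hprime J hJ with hmin | hmax
    · exact absurd hb (notMem_nonZeroDivisors_of_mem_mem_minimalPrimes hbJ' hmin)
    · rw [IsLocalRing.eq_maximalIdeal hmax]; exact ham
  obtain ⟨ℓ, hℓ⟩ := Ideal.mem_radical_iff.mp hrad
  obtain ⟨d, hd⟩ := Ideal.mem_span_singleton'.mp hℓ
  refine ⟨ℓ, ?_⟩
  intro R' _ _ hinj hfin m c hbc
  by_contra hlt
  have hlt' : ℓ < m := not_le.mp hlt
  have hjac : algebraMap R R' a ∈ Ideal.jacobson (⊥ : Ideal R') := by
    rw [Ideal.jacobson, Ideal.mem_sInf]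
    rintro M ⟨_, hM⟩
    haveI := hM
    have hcm : (M.comap (algebraMap R R')).IsMaximal :=
      Ideal.isMaximal_comap_of_isIntegral_of_isMaximal M
    have h5 : a ∈ M.comap (algebraMap R R') := by
      rw [IsLocalRing.eq_maximalIdeal hcm]; exact ham
    exact h5
  have h6 : algebraMap R R' a ^ ℓ = 0 :=
    key (algebraMap R R' a) (algebraMap R R' d) c (algebraMap R R' b) ℓ m hlt' hjac hbc
      (by rw [← map_mul, hd, map_pow])
  have h7 : a ^ ℓ = 0 := hinj (by rw [map_pow, map_zero]; exact h6)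
  exact nonZeroDivisors.ne_zero (pow_mem ha ℓ) h7

end Groth.Agent.Lib.CycBound
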