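import Mathlib
import Groth.Prelude
import Groth.Agent.Lib.CycLen5_helper8
import Groth.Agent.Lib.FibRes2_helper8
import Groth.Agent.Lib.ClosHt_helper8

/-!
# Flat pullback of the cycle of a coherent module (helper8).  APPEND-ONLY once landed.
-/

set_option autoImplicit false
universe u

open CategoryTheory AlgebraicGeometry TopologicalSpace Opposite

namespace CycPullH8

variable {X Y : Scheme.{u}} (f : X ⟶ Y)

/-- If all irreducible components of the fibres of `f` have dimension `r`, the residue field
extension at any point has transcendence degree at most `r`. -/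
theorem trdeg_le_of_hasRelDim [LocallyOfFiniteType f] (r : ℕ) (hr : Cyc.HasRelDim f r) (x : X)
    (n : ℕ)
    (hn : (letI := (f.residueFieldMap x).hom.toAlgebra
      Algebra.trdeg (Y.residueField (f x)) (X.residueField x)) = n) : n ≤ r := by
  obtain ⟨m, hm, hh⟩ := Groth.Agent.FibRes2H8.height_asFiber f x
  have hmn : m = n := by
    have : (m : Cardinal.{u}) = n := hm.symm.trans hn
    exact_mod_cast this
  subst hmn
  obtain ⟨T, hT, hsub⟩ := exists_mem_irreducibleComponents_subset_of_isIrreducible
    (closure ({f.asFiber x} : Set ↥(f.fiber (f x)))) isIrreducible_singleton.closure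
  have h1 : topologicalKrullDim ↥(closure ({f.asFiber x} : Set ↥(f.fiber (f x)))) ≤
      topologicalKrullDim ↥T :=
    (Topology.IsEmbedding.inclusion hsub).isInducing.topologicalKrullDim_le
  rw [hr (f x) T hT, Groth.Agent.ClosHtH8.topologicalKrullDim_closure_singleton, hh] at h1
  exact_mod_cast h1

/-- The dimension function upstairs is bounded by the one downstairs plus the relative
dimension. -/
theorem delta_le [LocallyOfFiniteType f] (δX : X → ℤ) (δY : Y → ℤ) (r : ℕ)
    (hr : Cyc.HasRelDim f r) (hδ : Cyc.DeltaCompat f δX δY) (x : X) : δX x ≤ δY (f x) + r := by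
  obtain ⟨n, hn, hδx⟩ := hδ x
  have := trdeg_le_of_hasRelDim f r hr x n hn
  rw [hδx]
  have : (n : ℤ) ≤ r := by exact_mod_cast this
  omega

/-- Flat pullback of `[F]_k`. -/
theorem pullFun_sheafFun [Flat f] [LocallyOfFiniteType f] (δX : X → ℤ) (δY : Y → ℤ) (r : ℕ)
    (hr : Cyc.HasRelDim f r) (hδ : Cyc.DeltaCompat f δX δY) (k : ℤ) (F : Y.Modules)
    [F.IsQuasicoherent] (hdim : ∀ y : Y, Nontrivial (F.presheaf.stalk y) → δY y ≤ k) :
    (∀ x : X, Nontrivial (((Scheme.Modules.pullback f).obj F).presheaf.stalk x) →
        δX x ≤ k + r) ∧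
      Cyc.pullFun f δX δY r (Cyc.sheafFun δY k F) =
        Cyc.sheafFun δX (k + r) ((Scheme.Modules.pullback f).obj F) := by
  constructor
  · intro x hx
    have h1 := hdim (f x) ((CycLenH8.nontrivial_stalk_pullback_iff f F x).mp hx)
    have h2 := delta_le f δX δY r hr hδ x
    omega
  · funext x
    unfold Cyc.pullFun Cyc.sheafFun
    have hlen := CycLenH8.length_stalk_pullback f F x
    by_cases hx : δX x = k + r
    · rw [if_pos hx, hlen, ENat.toNat_mul]
      by_cases hnt : Nontrivial (F.presheaf.stalk (f x))
      · have h1 := hdim (f x) hnt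
        have h2 := delta_le f δX δY r hr hδ x
        have h3 : δY (f x) = k := by omega
        have h4 : δX x = δY (f x) + r := by omega
        rw [if_pos h4, if_pos h3]
        push_cast
        rfl
      · have hsub : Subsingleton (F.presheaf.stalk (f x)) := not_nontrivial_iff_subsingleton.mp hnt
        have h0 : Module.length (Y.presheaf.stalk (f x)) (F.presheaf.stalk (f x)) = 0 :=
          Module.length_eq_zero_iff.mpr hsub
        rw [h0]
        simp
    · rw [if_neg hx]
      by_cases h4 : δX x = δY (f x) + r
      · rw [if_pos h4]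
        have h3 : ¬ δY (f x) = k := by omega
        rw [if_neg h3, zero_mul]
      · rw [if_neg h4]

end CycPullH8
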