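import Mathlib
import Groth.Prelude
import Groth.Agent.Lib.CycPull1_helper8
import Groth.Agent.Lib.CycLen6_helper8
import Groth.Agent.Lib.EquidimChar_helper8
import Groth.Agent.Lib.ResTrdeg1_helper8

/-!
# Flat pullback of cycles along a composition (helper8).  APPEND-ONLY once landed.
-/

set_option autoImplicit false
universe u

open CategoryTheory AlgebraicGeometry TopologicalSpace Opposite

namespace CycPullH8

variable {X Y Z : Scheme.{u}} (f : X ⟶ Y) (g : Y ⟶ Z)

/-- Auxiliary: the dimension of an irreducible component of a fibre of `f ≫ g`, through its generic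
point. -/
theorem dim_component_comp_aux [Flat f] [LocallyOfFiniteType f] [LocallyOfFiniteType g]
    (r s : ℕ) (hr : Cyc.HasRelDim f r) (hs : Cyc.HasRelDim g s) (z : Z)
    (ξ : ↥((f ≫ g).fiber z)) (x : X) (hx : (f ≫ g).fiberι z ξ = x) (hz : (f ≫ g) x = z)
    (hcomp : closure ({ξ} : Set ↥((f ≫ g).fiber z)) ∈ irreducibleComponents ↥((f ≫ g).fiber z)) :
    topologicalKrullDim ↥(closure ({ξ} : Set ↥((f ≫ g).fiber z))) = ((r + s : ℕ) : WithBot ℕ∞) := by
  subst hz
  have hξ : ξ = (f ≫ g).asFiber x := by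
    apply ((f ≫ g).fiberι _).isEmbedding.injective
    rw [hx, Scheme.Hom.fiberι_asFiber]
  subst hξ
  have hmaxF := (SubCompH8.closure_mem_irreducibleComponents_iff _).mp hcomp
  -- `x` is maximal in its fibre
  have hmax : ∀ y : X, (f ≫ g) y = (f ≫ g) x → y ⤳ x → y = x := by
    intro y hy hyx
    have hyr : y ∈ Set.range ((f ≫ g).fiberι ((f ≫ g) x)) := by
      rw [Scheme.Hom.range_fiberι]; exact hy
    obtain ⟨y', rfl⟩ := hyr
    have hemb := ((f ≫ g).fiberι ((f ≫ g) x)).isEmbedding
    have h1 : y' ⤳ (f ≫ g).asFiber x := by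
      rw [← hemb.isInducing.specializes_iff, Scheme.Hom.fiberι_asFiber]; exact hyx
    rw [hmaxF y' h1, Scheme.Hom.fiberι_asFiber]
  obtain ⟨h1, h2⟩ := CycLenH8.maximal_comp g f x hmax
  have e1 := EquidimCharH8.trdeg_of_fibre_max f r x (hr (f x)) h1
  have e2 := EquidimCharH8.trdeg_of_fibre_max g s (f x) (hs (g (f x))) h2
  obtain ⟨n, hn, hh⟩ := Groth.Agent.FibRes2H8.height_asFiber (f ≫ g) x
  rw [Groth.Agent.ClosHtH8.topologicalKrullDim_closure_singleton, hh]
  have hcompT := ResTrdegH8.resTrdeg_comp f g x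
  have hn' : Dual3.resTrdeg (f ≫ g) x = n := hn
  rw [hn'] at hcompT
  have e3 := congrArg Cardinal.toENat hcompT
  rw [map_add, e1, e2, Cardinal.toENat_nat] at e3
  have : n = s + r := by exact_mod_cast e3
  rw [this, add_comm]
  rfl

/-- The composite of morphisms of relative dimensions `r` and `s` has relative dimension
`r + s`. -/
theorem hasRelDim_comp [Flat f] [LocallyOfFiniteType f] [LocallyOfFiniteType g]
    (r s : ℕ) (hr : Cyc.HasRelDim f r) (hs : Cyc.HasRelDim g s) :
    Cyc.HasRelDim (f ≫ g) (r + s) := by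
  intro z T hT
  have hTcl : IsClosed T := isClosed_of_mem_irreducibleComponents _ hT
  have hgen : IsGenericPoint hT.1.genericPoint T := hT.1.isGenericPoint_genericPoint hTcl
  have hcomp : closure ({hT.1.genericPoint} : Set ↥((f ≫ g).fiber z)) ∈
      irreducibleComponents ↥((f ≫ g).fiber z) := by
    rw [hgen.def]; exact hT
  have hz : (f ≫ g) ((f ≫ g).fiberι z hT.1.genericPoint) = z := by
    have : (f ≫ g).fiberι z hT.1.genericPoint ∈ Set.range ((f ≫ g).fiberι z) := ⟨_, rfl⟩
    rw [Scheme.Hom.range_fiberι] at this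
    exact this
  have := dim_component_comp_aux f g r s hr hs z hT.1.genericPoint _ rfl hz hcomp
  rw [hgen.def] at this
  rw [this]

/-- Functoriality of flat pullback of cycles, coefficientwise. -/
theorem pullFun_comp [Flat f] [LocallyOfFiniteType f] [LocallyOfFiniteType g]
    (δX : X → ℤ) (δY : Y → ℤ) (δZ : Z → ℤ) (r s : ℕ) (hr : Cyc.HasRelDim f r)
    (hs : Cyc.HasRelDim g s) (hf : Cyc.DeltaCompat f δX δY) (hg : Cyc.DeltaCompat g δY δZ)
    (α : Z → ℤ) :
    Cyc.pullFun f δX δY r (Cyc.pullFun g δY δZ s α) =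
      Cyc.pullFun (f ≫ g) δX δZ ((r : ℤ) + s) α := by
  funext x
  unfold Cyc.pullFun
  have hlen := CycLenH8.length_fibre_comp g f x
  have d1 := delta_le f δX δY r hr hf x
  have d2 := delta_le g δY δZ s hs hg (f x)
  have hfg : (f ≫ g) x = g (f x) := rfl
  by_cases hx : δX x = δZ ((f ≫ g) x) + ((r : ℤ) + s)
  · rw [if_pos hx, hlen, ENat.toNat_mul]
    rw [hfg] at hx
    have h1 : δX x = δY (f x) + r := by omega
    have h2 : δY (f x) = δZ (g (f x)) + s := by omega
    rw [if_pos h1, if_pos h2]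
    push_cast
    rw [mul_assoc]
    rfl
  · rw [if_neg hx]
    rw [hfg] at hx
    by_cases h1 : δX x = δY (f x) + r
    · rw [if_pos h1]
      have h2 : ¬ δY (f x) = δZ (g (f x)) + s := by omega
      rw [if_neg h2, zero_mul]
    · rw [if_neg h1]

end CycPullH8
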