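import Mathlib
import Groth.Prelude.Def_Cyc
import Groth.Agent.Lib.SchFT_helper8
import Groth.Agent.Lib.CatHt_helper8

/-! Dimension functions on a scheme, computed on a Noetherian affine chart. -/

universe u

open AlgebraicGeometry CategoryTheory

namespace Groth.Agent.DimFunChartH8

open Groth.Agent.SchFTH8

/-- A covering relation of primes in an affine chart gives an immediate specialization. -/
theorem immediate_of_covBy {S : Scheme.{u}} {V : S.Opens} (hV : IsAffineOpen V)
    (P P' : PrimeSpectrum Γ(S, V)) (hcov : P ⋖ P') (z : S)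
    (h1 : hV.fromSpec P ⤳ z) (h2 : z ⤳ hV.fromSpec P') :
    z = hV.fromSpec P ∨ z = hV.fromSpec P' := by
  have hP' : hV.fromSpec P' ∈ V := fromSpec_mem hV P'
  have hP : hV.fromSpec P ∈ V := fromSpec_mem hV P
  have hzV : z ∈ V := h2.mem_open V.2 hP'
  have e1 := (specializes_iff_primeIdealOf_le hV _ _ hP hzV).mp h1
  have e2 := (specializes_iff_primeIdealOf_le hV _ _ hzV hP').mp h2
  rw [primeIdealOf_fromSpec hV P hP] at e1
  rw [primeIdealOf_fromSpec hV P' hP'] at e2
  have hz : hV.fromSpec (hV.primeIdealOf ⟨z, hzV⟩) = z := hV.fromSpec_primeIdealOf ⟨z, hzV⟩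
  rcases hcov.eq_or_eq e1 e2 with h | h
  · left; rw [← hz, h]
  · right; rw [← hz, h]

theorem covBy_of_immediate {S : Scheme.{u}} {V : S.Opens} (hV : IsAffineOpen V)
    (x y : S) (hx : x ∈ V) (hy : y ∈ V) (hxy : x ⤳ y) (hne : x ≠ y)
    (himm : ∀ z : S, x ⤳ z → z ⤳ y → z = x ∨ z = y) :
    hV.primeIdealOf ⟨x, hx⟩ ⋖ hV.primeIdealOf ⟨y, hy⟩ := by
  have hle := (specializes_iff_primeIdealOf_le hV x y hx hy).mp hxy
  have hne' : hV.primeIdealOf ⟨x, hx⟩ ≠ hV.primeIdealOf ⟨y, hy⟩ := by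
    intro heq
    apply hne
    have := congrArg hV.fromSpec heq
    rw [hV.fromSpec_primeIdealOf, hV.fromSpec_primeIdealOf] at this
    exact this
  refine ⟨lt_of_le_of_ne hle hne', ?_⟩
  intro P hP1 hP2
  have hPV : hV.fromSpec P ∈ V := fromSpec_mem hV P
  have hpP := primeIdealOf_fromSpec hV P hPV
  have s1 : x ⤳ hV.fromSpec P := by
    rw [specializes_iff_primeIdealOf_le hV x _ hx hPV, hpP]; exact hP1.le
  have s2 : hV.fromSpec P ⤳ y := by
    rw [specializes_iff_primeIdealOf_le hV _ y hPV hy, hpP]; exact hP2.le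
  rcases himm _ s1 s2 with h | h
  · have : hV.primeIdealOf ⟨hV.fromSpec P, hPV⟩ = hV.primeIdealOf ⟨x, hx⟩ := by
      congr 1; exact Subtype.ext h
    rw [hpP] at this
    exact (ne_of_lt hP1) this.symm
  · have : hV.primeIdealOf ⟨hV.fromSpec P, hPV⟩ = hV.primeIdealOf ⟨y, hy⟩ := by
      congr 1; exact Subtype.ext h
    rw [hpP] at this
    exact (ne_of_lt hP2) this

/-- A dimension function drops by the relative height along a specialization in a chart. -/
theorem delta_eq_add_height {S : Scheme.{u}} (δ : S → ℤ) (hδ : Cyc.IsDimFun S δ) {V : S.Opens}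
    (hV : IsAffineOpen V) [IsNoetherianRing Γ(S, V)] (s t : S) (hs : s ∈ V) (ht : t ∈ V)
    (hst : s ⤳ t) :
    ∃ b : ℕ, ((hV.primeIdealOf ⟨t, ht⟩).asIdeal.map
        (Ideal.Quotient.mk (hV.primeIdealOf ⟨s, hs⟩).asIdeal)).height = b ∧
      δ s = δ t + b := by
  have hle := (specializes_iff_primeIdealOf_le hV s t hs ht).mp hst
  haveI := (hV.primeIdealOf ⟨s, hs⟩).2
  haveI := (hV.primeIdealOf ⟨t, ht⟩).2
  obtain ⟨k, c, hk, hch, hcl, hcn, hcs⟩ := Groth.Agent.CatHtH8.exists_saturated_between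
    (hV.primeIdealOf ⟨s, hs⟩).asIdeal (hV.primeIdealOf ⟨t, ht⟩).asIdeal hle
  refine ⟨k, hk, ?_⟩
  have key : ∀ i : Fin (c.length + 1), δ (hV.fromSpec (c 0)) = δ (hV.fromSpec (c i)) + (i : ℕ) := by
    intro i
    induction i using Fin.induction with
    | zero => simp
    | succ i ih =>
      have hcov := hcs i
      have hsp : hV.fromSpec (c i.castSucc) ⤳ hV.fromSpec (c i.succ) := by
        rw [specializes_iff_primeIdealOf_le hV _ _ (fromSpec_mem hV _) (fromSpec_mem hV _),
          primeIdealOf_fromSpec, primeIdealOf_fromSpec]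
        exact hcov.lt.le
      have hne : hV.fromSpec (c i.castSucc) ≠ hV.fromSpec (c i.succ) := by
        intro heq
        have h1 : hV.primeIdealOf ⟨hV.fromSpec (c i.castSucc), fromSpec_mem hV _⟩ =
            hV.primeIdealOf ⟨hV.fromSpec (c i.succ), fromSpec_mem hV _⟩ := by
          congr 1; exact Subtype.ext heq
        rw [primeIdealOf_fromSpec, primeIdealOf_fromSpec] at h1
        exact (ne_of_lt hcov.lt) h1
      have h2 := (hδ _ _ hsp hne).2 (fun z hz1 hz2 => immediate_of_covBy hV _ _ hcov z hz1 hz2)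
      rw [ih, h2]
      simp only [Fin.val_castSucc, Fin.val_succ, Nat.cast_add, Nat.cast_one]
      ring
  have h0 : hV.fromSpec (c 0) = s := by
    have : c 0 = hV.primeIdealOf ⟨s, hs⟩ := hch
    rw [this]
    exact hV.fromSpec_primeIdealOf ⟨s, hs⟩
  have hl : hV.fromSpec (c (Fin.last _)) = t := by
    have : c (Fin.last _) = hV.primeIdealOf ⟨t, ht⟩ := hcl
    rw [this]
    exact hV.fromSpec_primeIdealOf ⟨t, ht⟩
  have := key (Fin.last _)
  rw [h0, hl, Fin.val_last, hcn] at this
  exact this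

end Groth.Agent.DimFunChartH8
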