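import Mathlib
import Groth.Prelude
import Groth.Agent.Lib.CycPull2_helper8
import Groth.Agent.Lib.FieldExt3_helper8
import Groth.Agent.Lib.FibCoh4_helper8
import Groth.Agent.Lib.EquidimChar_helper8
import Groth.Agent.Lib.OpenAtEq_helper8
import Groth.Agent.S9684

/-!
# Flat base change and flat pullback of cycles (helper5).  APPEND-ONLY once landed.

* `FibMax f x`: `x` is maximal (under generization) in its fibre of `f`;
* `hasRelDim_snd`: relative dimension is stable under base change;
* `delta_eq_iff_fibMax`: for `f` of relative dimension `r` with the induced dimension function,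
  `δX x = δY (f x) + r` iff `x` is maximal in its fibre;
* `shift_eq_iff_fibMax`: the analogous statement for a morphism with a "shift `c` at fibre-generic
  points" condition and a dimension function upstairs;
* `fibMax_comp`: converse of `CycLenH8.maximal_comp`.
-/

set_option autoImplicit false
universe u

open CategoryTheory CategoryTheory.Limits AlgebraicGeometry TopologicalSpace Opposite

namespace Groth.Agent.Lib.CycFBCH5

/-- `x` is maximal under generization inside its fibre of `f`. -/
def FibMax {X Y : Scheme.{u}} (f : X ⟶ Y) (x : X) : Prop :=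
  ∀ y : X, f y = f x → y ⤳ x → y = x

/-- Relative dimension is stable under base change. -/
theorem hasRelDim_snd {X X' Y : Scheme.{u}} (f : Y ⟶ X) (p : X' ⟶ X) [LocallyOfFiniteType f]
    (r : ℕ) (hr : Cyc.HasRelDim f r) : Cyc.HasRelDim (pullback.snd f p) r := by
  apply FibCohH8.hasRelDim_of_forall_fibreDimAt
  intro u
  rw [FieldExtH8.fibreDimAt_baseChange f p (pullback.fst f p) (pullback.snd f p)
    (IsPullback.of_hasPullback f p) u]
  exact EquidimCharH8.fibreDimAt_eq_of_components f r (fun x' => hr (f.base x')) _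

/-- For `f` of relative dimension `r` with induced dimension function, `δX x = δY (f x) + r`
exactly when `x` is maximal in its fibre. -/
theorem delta_eq_iff_fibMax {X Y : Scheme.{u}} (f : X ⟶ Y) [LocallyOfFiniteType f]
    (δX : X → ℤ) (δY : Y → ℤ) (r : ℕ) (hr : Cyc.HasRelDim f r)
    (hδ : Cyc.DeltaCompat f δX δY) (x : X) :
    δX x = δY (f x) + r ↔ FibMax f x := by
  obtain ⟨n, hn, hx⟩ := hδ x
  have hn' : Dual3.resTrdeg f x = n := hn
  constructor
  · intro h
    have hnr : n = r := by omega
    have h1 := EquidimCharH8.fibreDimAt_eq_of_components f r (fun x' => hr (f.base x')) x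
    rw [FibCohH8.fibreDimAt_eq f x, hn', Cardinal.toENat_nat, hnr] at h1
    have h2 : FibCohH8.fibCoh f x = 0 := by
      have h3 : ((FibCohH8.fibCoh f x + (r : ℕ∞) : ℕ∞) : WithBot ℕ∞) = ((r : ℕ∞) : WithBot ℕ∞) := by
        rw [WithBot.coe_add]; exact h1
      have h4 : FibCohH8.fibCoh f x + (r : ℕ∞) = (r : ℕ∞) := WithBot.coe_injective h3
      have h5 : FibCohH8.fibCoh f x + (r : ℕ∞) = 0 + (r : ℕ∞) := by rw [h4, zero_add]
      exact (ENat.add_left_injective_of_ne_top (ENat.natCast_ne_top r)) h5
    unfold FibCohH8.fibCoh at h2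
    rw [Order.coheight_eq_zero] at h2
    intro y hy hyx
    have hle : (⟨x, rfl⟩ : {u' : X // f u' = f x}) ≤ ⟨y, hy⟩ := hyx
    have := h2 hle
    have h6 : (⟨y, hy⟩ : {u' : X // f u' = f x}) ≤ ⟨x, rfl⟩ := this
    have h7 : x ⤳ y := h6
    exact (hyx.antisymm h7).eq
  · intro h
    have h1 := EquidimCharH8.trdeg_of_fibre_max f r x (hr (f.base x)) h
    rw [hn', Cardinal.toENat_nat] at h1
    have : n = r := by exact_mod_cast h1
    rw [hx, this]

/-- For a morphism `p` with a dimension function upstairs and the "shift `c` at fibre-generic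
points" condition: `δ' x' = δ (p x') + c` exactly when `x'` is maximal in its fibre. -/
theorem shift_eq_iff_fibMax {X' X : Scheme.{u}} (p : X' ⟶ X) (δ' : X' → ℤ) (δ : X → ℤ) (c : ℤ)
    (hδ' : Cyc.IsDimFun X' δ')
    (hc : ∀ x' : X', (∀ y, p y = p x' → y ⤳ x' → y = x') → δ' x' = δ (p x') + c) (x' : X') :
    δ' x' = δ (p x') + c ↔ FibMax p x' := by
  constructor
  · intro h
    obtain ⟨x'', h1, h2, h3⟩ := EquidimCharH8.exists_fibre_max p x'
    have h3' : ∀ y, p y = p x'' → y ⤳ x'' → y = x'' := fun y hy hyx => h3 y (hy.trans h1) hyx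
    have h4 := hc x'' h3'
    by_cases hne : x'' = x'
    · subst hne
      exact h3'
    · exfalso
      have h5 := (hδ' x'' x' h2 hne).1
      have h6 : p x'' = p x' := h1
      rw [h6] at h4
      omega
  · intro h
    exact hc x' h

/-- Converse of `CycLenH8.maximal_comp`. -/
theorem fibMax_comp {X'' X' X : Scheme.{u}} (p' : X'' ⟶ X') (p : X' ⟶ X) (x'' : X'')
    (h1 : FibMax p' x'') (h2 : FibMax p (p' x'')) : FibMax (p' ≫ p) x'' := by
  intro y hy hyx
  have hy' : p (p' y) = p (p' x'') := by
    simpa only [Scheme.Hom.comp_apply] using hy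
  have h3 : p' y ⤳ p' x'' := hyx.map p'.base.hom.continuous
  have h4 : p' y = p' x'' := h2 (p' y) hy' h3
  exact h1 y h4 hyx

/-- `CycLenH8.maximal_comp` in terms of `FibMax`. -/
theorem fibMax_of_comp {X'' X' X : Scheme.{u}} (p' : X'' ⟶ X') (p : X' ⟶ X) [Flat p'] (x'' : X'')
    (h : FibMax (p' ≫ p) x'') : FibMax p' x'' ∧ FibMax p (p' x'') :=
  CycLenH8.maximal_comp p p' x'' h

/-- Transport of `FibMax` along an equality of morphisms. -/
theorem fibMax_congr {X Y : Scheme.{u}} {f g : X ⟶ Y} (h : f = g) (x : X) :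
    FibMax f x ↔ FibMax g x := by subst h; rfl

/-- The flat-pullback multiplicity of a morphism at a point. -/
noncomputable def pmult {X Y : Scheme.{u}} (f : X ⟶ Y) (x : X) : ℕ∞ :=
  Module.length (X.presheaf.stalk x) (X.presheaf.stalk x ⧸ Ideal.map (f.stalkMap x).hom
    (IsLocalRing.maximalIdeal (Y.presheaf.stalk (f x))))

theorem pmult_congr {X Y : Scheme.{u}} {f g : X ⟶ Y} (h : f = g) (x : X) :
    pmult f x = pmult g x := by subst h; rfl

theorem pmult_comp {X'' X' X : Scheme.{u}} (p : X' ⟶ X) (p' : X'' ⟶ X') [Flat p'] (x'' : X'') :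
    pmult (p' ≫ p) x'' = pmult p (p' x'') * pmult p' x'' :=
  CycLenH8.length_fibre_comp p p' x''

theorem pullFun_eq {X Y : Scheme.{u}} (f : X ⟶ Y) (δX : X → ℤ) (δY : Y → ℤ) (r : ℤ) (α : Y → ℤ)
    (x : X) : Cyc.pullFun f δX δY r α x =
      if δX x = δY (f x) + r then α (f x) * ((pmult f x).toNat : ℤ) else 0 := rfl

end Groth.Agent.Lib.CycFBCH5
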