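/-
helper5: associated points of fibre modules, ring level (EGA IV 12.1.1 (i)-(iii) style).
* `AlongGE`, `isOpen_alongGE`: depth of the fibre modules along a closed subset of Spec B is lsc (ring form of S2872).
* `isAssociatedPrime_maximalIdeal_iff`: m ∈ Ass N iff N ≠ 0 and depth N = 0.
* `exists_numerics`: invariants (dim, fibCoheight, pd, depth) of a fibre module over A[T_1..T_N].
* `AssFib`, `AssDimIn`, `pdLocus`, `isClosed_pdLocus`, `assDimIn_iff`, `isOpen_assDimIn_mvPolynomial`,
  `assFib_under_iff`, `isOpen_assDimIn`: ring-level EGA IV 12.1.1 (ii).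
APPEND-ONLY once landed.
-/
import Mathlib
import Groth.Agent.Lib.FibDepthAlong_helper5
import Groth.Agent.Lib.FibRect1_helper5
import Groth.Agent.Lib.DepthTensor_helper5

set_option autoImplicit false
set_option backward.isDefEq.respectTransparency false

namespace Groth.Agent.Lib.FibAssH5

open TensorProduct Pointwise CategoryTheory
open Groth.Agent.Lib.FibSkH5 Groth.Agent.Lib.FibPdH5 Groth.Agent.Lib.FibRectH5

universe u

section Along

variable {A B : Type u} [CommRing A] [CommRing B] [Algebra A B]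

/-- the depth of the fibre modules is `≥ n` at all generizations of `q` in its fibre lying in `Z` -/
def AlongGE (A : Type u) {B : Type u} [CommRing A] [CommRing B] [Algebra A B]
    (M : Type u) [AddCommGroup M] [Module B M] (Z : Set (PrimeSpectrum B)) (n : ℕ)
    (q : PrimeSpectrum B) : Prop :=
  ∀ 𝔯 : PrimeSpectrum B, 𝔯 ≤ q →
    𝔯.asIdeal.comap (algebraMap A B) = q.asIdeal.comap (algebraMap A B) → 𝔯 ∈ Z →
      (n : ℕ∞) ≤ LocCoh.depth (Fib A 𝔯.asIdeal) (FibModQ A 𝔯.asIdeal M)

variable [Algebra.FinitePresentation A B]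

/-- **Ring-level semicontinuity of the depth of fibre modules along a closed subset.** -/
theorem isOpen_alongGE (M : Type u) [AddCommGroup M] [Module B M] [Module A M]
    [IsScalarTower A B M] [Module.FinitePresentation B M] [Module.Flat A M]
    (Z : Set (PrimeSpectrum B)) (hZ : IsClosed Z) (n : ℕ) :
    IsOpen {q : PrimeSpectrum B | AlongGE A M Z n q} := by
  classical
  rw [isOpen_iff_forall_mem_open]
  intro q hq
  have hoff : ∀ q' : PrimeSpectrum B, q' ∉ Z → AlongGE A M Z n q' := by
    intro q' hq' 𝔯 hle _ h𝔯Z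
    exact absurd (((PrimeSpectrum.le_iff_specializes 𝔯 q').mp hle).mem_closed hZ h𝔯Z) hq'
  by_cases hqZ : q ∈ Z
  swap
  · exact ⟨Zᶜ, fun q' hq' => hoff q' hq', hZ.isOpen_compl, hqZ⟩
  set I : Ideal B := PrimeSpectrum.vanishingIdeal Z with hI
  have hZI : ∀ 𝔯 : PrimeSpectrum B, 𝔯 ∈ Z ↔ I ≤ 𝔯.asIdeal := by
    intro 𝔯
    have h1 : PrimeSpectrum.zeroLocus (I : Set B) = Z := by
      rw [hI, PrimeSpectrum.zeroLocus_vanishingIdeal_eq_closure, hZ.closure_eq]
    constructor
    · intro h
      rw [← h1] at h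
      exact (PrimeSpectrum.mem_zeroLocus _ _).mp h
    · intro h
      rw [← h1]
      exact (PrimeSpectrum.mem_zeroLocus _ _).mpr h
  have hIq : I ≤ q.asIdeal := (hZI q).mp hqZ
  have h1 : (n : ℕ∞) ≤ LocCoh.idealDepth
      (I.map (algebraMap B (Fib A q.asIdeal))) (FibModQ A q.asIdeal M) := by
    apply le_idealDepth_fibModQ_of_forall
    intro q₁ hq₁ hIq₁ hle hc
    exact hq ⟨q₁, hq₁⟩ hle hc ((hZI ⟨q₁, hq₁⟩).mpr hIq₁)
  obtain ⟨s, hs, hnear⟩ := exists_nearby_le_idealDepth_mod (A := A) M I q.asIdeal hIq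
    (flat_localizedModule_of_flat _ _) n h1
  refine ⟨PrimeSpectrum.basicOpen s, ?_, (PrimeSpectrum.basicOpen s).isOpen, hs⟩
  intro q' hsq'
  by_cases hq'Z : q' ∈ Z
  swap
  · exact hoff q' hq'Z
  have h3 := hnear q'.asIdeal hsq' ((hZI q').mp hq'Z)
  intro 𝔯 hle hc h𝔯Z
  exact le_depth_of_le_idealDepth_fibModQ M I q'.asIdeal n h3 𝔯.asIdeal ((hZI 𝔯).mp h𝔯Z) hle hc

end Along

section LemmaA

open IsLocalRing

/-- over a Noetherian local ring, the maximal ideal is associated to a finite module iff the
module is nonzero of depth zero -/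
theorem isAssociatedPrime_maximalIdeal_iff {R : Type u} [CommRing R] [IsLocalRing R]
    [IsNoetherianRing R] (N : Type u) [AddCommGroup N] [Module R N] [Module.Finite R N] :
    IsAssociatedPrime (maximalIdeal R) N ↔ Nontrivial N ∧ LocCoh.depth R N = 0 := by
  constructor
  · intro h
    obtain ⟨-, x, hx⟩ := isAssociatedPrime_iff.mp h
    have hx0 : x ≠ 0 := by
      rintro rfl
      have : (1 : R) ∈ maximalIdeal R := by
        rw [hx, Submodule.mem_colon_singleton]
        simp
      exact (Ideal.ne_top_iff_one _).mp (IsLocalRing.maximalIdeal.isMaximal R).ne_top this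
    haveI : Nontrivial N := ⟨⟨x, 0, hx0⟩⟩
    refine ⟨inferInstance, ?_⟩
    apply Groth.Agent.DepthTensor.enat_eq_zero_of_not_one_le
    intro h1
    unfold LocCoh.depth at h1
    rw [Groth.Agent.DepthLib.one_le_idealDepth_iff] at h1
    rcases h1 with h1 | ⟨r, hr, hreg⟩
    · exact Groth.Agent.DepthTensor.smul_top_ne_top N h1
    · have : r ∈ Submodule.colon (⊥ : Submodule R N) {x} := hx ▸ hr
      rw [Submodule.mem_colon_singleton, Submodule.mem_bot] at this
      exact hx0 (hreg (by show r • x = r • 0; rw [this, smul_zero]))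
  · rintro ⟨_, h0⟩
    exact Groth.Agent.DepthTensor.maximalIdeal_mem_associatedPrimes N (by rw [h0]; norm_num)

end LemmaA

section Numerics

variable (A : Type u) [CommRing A] (N : ℕ)

/-- the numerical invariants of a nonzero fibre module over a polynomial algebra -/
theorem exists_numerics (Q : Ideal (MvPolynomial (Fin N) A)) [Q.IsPrime] (M : Type u)
    [AddCommGroup M] [Module (MvPolynomial (Fin N) A) M]
    [Module.Finite (MvPolynomial (Fin N) A) M] [Nontrivial (FibModQ A Q M)] :
    ∃ d c e t : ℕ, LocCoh.depth (Fib A Q) (Fib A Q) = (d : ℕ∞) ∧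
      fibCoheight A Q = (c : ℕ∞) ∧
      projectiveDimension (ModuleCat.of (Fib A Q) (FibModQ A Q M)) = (e : WithBot ℕ∞) ∧
      LocCoh.depth (Fib A Q) (FibModQ A Q M) = (t : ℕ∞) ∧ d + c = N ∧ d = t + e := by
  haveI := isRegularLocalRing_fib_mvPolynomial A N Q
  obtain ⟨d, hd⟩ := Groth.Agent.GlDim.exists_dim (Fib A Q)
  have hCM : LocCoh.IsCohenMacaulayModule (Fib A Q) (Fib A Q) :=
    Groth.Agent.RegQuot.isCM_of_regular (Fib A Q)
  have hdep : LocCoh.depth (Fib A Q) (Fib A Q) = (d : ℕ∞) := by
    have h := hCM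
    unfold LocCoh.IsCohenMacaulayModule at h
    rw [Module.supportDim_self_eq_ringKrullDim, hd] at h
    have h' : ((d : ℕ∞) : WithBot ℕ∞) = ((LocCoh.depth (Fib A Q) (Fib A Q) : ℕ∞) : WithBot ℕ∞) := by
      rw [← h]; rfl
    exact (WithBot.coe_injective h').symm
  obtain ⟨e, he⟩ := exists_pd_eq (Fib A Q) (FibModQ A Q M)
  have hAB := Groth.Agent.AB.auslander_buchsbaum (R := Fib A Q) (FibModQ A Q M) e he
  rw [hdep] at hAB
  have h1 := dim_fib_add_fibCoheight_mvPolynomial A N Q
  rw [hd] at h1
  have h1' : (d : ℕ∞) + fibCoheight A Q = (N : ℕ∞) := by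
    apply WithBot.coe_injective
    rw [WithBot.coe_add]
    exact h1
  have hc : fibCoheight A Q ≠ ⊤ := by
    intro h
    rw [h, add_top] at h1'
    exact ENat.top_ne_natCast N h1'
  obtain ⟨c, hc'⟩ := ENat.ne_top_iff_exists.mp hc
  have ht : LocCoh.depth (Fib A Q) (FibModQ A Q M) ≠ ⊤ := by
    intro h
    rw [h, add_top] at hAB
    exact ENat.top_ne_natCast d hAB.symm
  obtain ⟨t, ht'⟩ := ENat.ne_top_iff_exists.mp ht
  refine ⟨d, c, e, t, hdep, hc'.symm, he, ht'.symm, ?_, ?_⟩
  · rw [← hc'] at h1'
    exact_mod_cast h1'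
  · rw [← ht'] at hAB
    have : d = e + t := by exact_mod_cast hAB
    omega

end Numerics

section AssDim

/-- `𝔯` is an associated point of the fibre module -/
def AssFib (A : Type u) {B : Type u} [CommRing A] [CommRing B] [Algebra A B]
    (M : Type u) [AddCommGroup M] [Module B M] (𝔯 : PrimeSpectrum B) : Prop :=
  IsAssociatedPrime (IsLocalRing.maximalIdeal (Fib A 𝔯.asIdeal)) (FibModQ A 𝔯.asIdeal M)

/-- every associated point of the fibre module generizing `q` (in the fibre of `q`) has
closure in the fibre of dimension in `Φ` -/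
def AssDimIn (A : Type u) {B : Type u} [CommRing A] [CommRing B] [Algebra A B]
    (M : Type u) [AddCommGroup M] [Module B M] (Φ : Set ℕ) (q : PrimeSpectrum B) : Prop :=
  ∀ 𝔯 : PrimeSpectrum B, 𝔯 ≤ q →
    𝔯.asIdeal.comap (algebraMap A B) = q.asIdeal.comap (algebraMap A B) → AssFib A M 𝔯 →
      ∃ n ∈ Φ, fibCoheight A 𝔯.asIdeal = (n : ℕ∞)

variable (A : Type u) [CommRing A] (N : ℕ)

/-- the locus where the projective dimension of the fibre module is `≥ i` -/
def pdLocus (M : Type u) [AddCommGroup M] [Module (MvPolynomial (Fin N) A) M] (i : ℕ) :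
    Set (PrimeSpectrum (MvPolynomial (Fin N) A)) :=
  {𝔯 | ¬ HasProjectiveDimensionLT
    (ModuleCat.of (Fib A 𝔯.asIdeal) (FibModQ A 𝔯.asIdeal M)) i}

variable (M : Type u) [AddCommGroup M] [Module (MvPolynomial (Fin N) A) M] [Module A M]
  [IsScalarTower A (MvPolynomial (Fin N) A) M]
  [Module.FinitePresentation (MvPolynomial (Fin N) A) M] [Module.Flat A M]

theorem isClosed_pdLocus (i : ℕ) : IsClosed (pdLocus A N M i) := by
  rw [← isOpen_compl_iff]
  have hset : (pdLocus A N M i)ᶜ = {𝔯 : PrimeSpectrum (MvPolynomial (Fin N) A) |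
      HasProjectiveDimensionLT (ModuleCat.of (Fib A 𝔯.asIdeal) (FibModQ A 𝔯.asIdeal M)) i} := by
    ext 𝔯
    simp [pdLocus]
  rw [hset]
  cases i with
  | zero =>
    have h2 : {𝔯 : PrimeSpectrum (MvPolynomial (Fin N) A) |
        HasProjectiveDimensionLT (ModuleCat.of (Fib A 𝔯.asIdeal) (FibModQ A 𝔯.asIdeal M)) 0} =
        (PrimeSpectrum.zeroLocus
          (Module.annihilator (MvPolynomial (Fin N) A) M : Set (MvPolynomial (Fin N) A)))ᶜ := by
      ext 𝔯
      rw [Set.mem_ofPred_eq, hasProjectiveDimensionLT_zero_iff_isZero, Set.mem_compl_iff,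
        PrimeSpectrum.mem_zeroLocus, SetLike.coe_subset_coe]
      constructor
      · intro hz hle
        haveI := nontrivial_fibModQ A 𝔯.asIdeal M hle
        have : Subsingleton (ModuleCat.of (Fib A 𝔯.asIdeal) (FibModQ A 𝔯.asIdeal M)) :=
          ModuleCat.subsingleton_of_isZero hz
        exact not_subsingleton (FibModQ A 𝔯.asIdeal M) this
      · intro hle
        haveI := subsingleton_fibModQ A 𝔯.asIdeal M hle
        exact ModuleCat.isZero_of_subsingleton _
    rw [h2]
    exact (PrimeSpectrum.isClosed_zeroLocus _).isOpen_compl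
  | succ j => exact isOpen_fibModQ_hasPDLE (A := A) (B := MvPolynomial (Fin N) A) j M

end AssDim

section AssDimP

variable (A : Type u) [CommRing A] (N : ℕ)

theorem depth_fibModQ_self {A B : Type u} [CommRing A] [CommRing B] [Algebra A B]
    (q : Ideal B) [q.IsPrime] :
    LocCoh.depth (Fib A q) (FibModQ A q B) = LocCoh.depth (Fib A q) (Fib A q) := by
  let e : FibModQ A q B ≃ₗ[Fib A q] Fib A q :=
    (fibMEquiv' A q B).symm ≪≫ₗ TensorProduct.AlgebraTensorModule.rid B (Fib A q) (Fib A q)
  unfold LocCoh.depth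
  rw [Groth.Agent.DepthLib.idealDepth_congr _ _ e]

variable (M : Type u) [AddCommGroup M] [Module (MvPolynomial (Fin N) A) M] [Module A M]
  [IsScalarTower A (MvPolynomial (Fin N) A) M]
  [Module.FinitePresentation (MvPolynomial (Fin N) A) M] [Module.Flat A M]

set_option maxHeartbeats 1000000 in
theorem assDimIn_iff (Φ : Set ℕ) (q : PrimeSpectrum (MvPolynomial (Fin N) A)) :
    AssDimIn A M Φ q ↔ ∀ k ∈ Finset.range (N + 1), k ∉ Φ →
      AlongGE A (MvPolynomial (Fin N) A) (pdLocus A N M (N - k)) (N - k + 1) q := by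
  classical
  constructor
  · intro h k hk hkΦ 𝔯 hle hc h𝔯Z
    have hkN : k ≤ N := Nat.lt_succ_iff.mp (Finset.mem_range.mp hk)
    have hnt : Nontrivial (FibModQ A 𝔯.asIdeal M) := by
      by_contra hcon
      rw [not_nontrivial_iff_subsingleton] at hcon
      apply h𝔯Z
      haveI : HasProjectiveDimensionLT
          (ModuleCat.of (Fib A 𝔯.asIdeal) (FibModQ A 𝔯.asIdeal M)) 0 :=
        (ModuleCat.isZero_of_subsingleton _).hasProjectiveDimensionLT_zero
      exact hasProjectiveDimensionLT_of_ge _ 0 (N - k) (Nat.zero_le _)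
    obtain ⟨d, c, e, t, hdep, hc', he, ht, h1, h2⟩ := exists_numerics A N 𝔯.asIdeal M
    have hke : N - k ≤ e := by
      have := (projectiveDimension_ge_iff _ (N - k)).mpr h𝔯Z
      rw [he] at this
      exact_mod_cast this
    rw [depth_fibModQ_self, hdep]
    have hgoal : N - k + 1 ≤ d := by
      by_contra hcon
      have hd : d = N - k := by omega
      have ht0 : t = 0 := by omega
      have hass : AssFib A M 𝔯 := by
        unfold AssFib
        haveI := isRegularLocalRing_fib_mvPolynomial A N 𝔯.asIdeal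
        rw [isAssociatedPrime_maximalIdeal_iff]
        exact ⟨hnt, by rw [ht, ht0]; rfl⟩
      obtain ⟨n, hnΦ, hcn⟩ := h 𝔯 hle hc hass
      have hcn' : c = n := by
        rw [hc'] at hcn
        exact_mod_cast hcn
      have : n = k := by omega
      exact hkΦ (this ▸ hnΦ)
    exact_mod_cast hgoal
  · intro h 𝔯 hle hc hass
    unfold AssFib at hass
    haveI := isRegularLocalRing_fib_mvPolynomial A N 𝔯.asIdeal
    rw [isAssociatedPrime_maximalIdeal_iff] at hass
    obtain ⟨hnt, h0⟩ := hass
    obtain ⟨d, c, e, t, hdep, hc', he, ht, h1, h2⟩ := exists_numerics A N 𝔯.asIdeal M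
    have ht0 : t = 0 := by
      rw [ht] at h0
      exact_mod_cast h0
    by_contra hcon
    have hcΦ : c ∉ Φ := fun hcΦ => hcon ⟨c, hcΦ, hc'⟩
    have hcN : c ∈ Finset.range (N + 1) := Finset.mem_range.mpr (by omega)
    have hmem : 𝔯 ∈ pdLocus A N M (N - c) := by
      show ¬ HasProjectiveDimensionLT _ (N - c)
      rw [← projectiveDimension_ge_iff, he]
      have : N - c ≤ e := by omega
      exact_mod_cast this
    have h3 := h c hcN hcΦ 𝔯 hle hc hmem
    rw [depth_fibModQ_self, hdep] at h3
    have : N - c + 1 ≤ d := by exact_mod_cast h3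
    omega

/-- **Ring-level EGA IV 12.1.1 (ii), polynomial case.** -/
theorem isOpen_assDimIn_mvPolynomial (Φ : Set ℕ) :
    IsOpen {q : PrimeSpectrum (MvPolynomial (Fin N) A) | AssDimIn A M Φ q} := by
  classical
  have hset : {q : PrimeSpectrum (MvPolynomial (Fin N) A) | AssDimIn A M Φ q} =
      ⋂ k ∈ Finset.range (N + 1), {q : PrimeSpectrum (MvPolynomial (Fin N) A) | k ∉ Φ →
        AlongGE A (MvPolynomial (Fin N) A) (pdLocus A N M (N - k)) (N - k + 1) q} := by
    ext q
    simp only [Set.mem_ofPred_eq, Set.mem_iInter]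
    exact assDimIn_iff A N M Φ q
  rw [hset]
  apply isOpen_biInter_finset
  intro k _
  by_cases hk : k ∈ Φ
  · have : {q : PrimeSpectrum (MvPolynomial (Fin N) A) | k ∉ Φ →
        AlongGE A (MvPolynomial (Fin N) A) (pdLocus A N M (N - k)) (N - k + 1) q} = Set.univ := by
      ext q
      simp [hk]
    rw [this]
    exact isOpen_univ
  · have : {q : PrimeSpectrum (MvPolynomial (Fin N) A) | k ∉ Φ →
        AlongGE A (MvPolynomial (Fin N) A) (pdLocus A N M (N - k)) (N - k + 1) q} =
        {q | AlongGE A (MvPolynomial (Fin N) A) (pdLocus A N M (N - k)) (N - k + 1) q} := by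
      ext q
      simp [hk]
    rw [this]
    exact isOpen_alongGE (A := A) (MvPolynomial (Fin N) A) _ (isClosed_pdLocus A N M (N - k)) _

end AssDimP

section General

variable {A B : Type u} [CommRing A] [CommRing B] [Algebra A B] [Algebra.FinitePresentation A B]

section Transfer

variable (A) {P : Type u} [CommRing P] [Algebra A P] [Algebra P B] [IsScalarTower A P B]
  (hsurj : Function.Surjective (algebraMap P B))
  (M : Type u) [AddCommGroup M] [Module B M] [Module P M] [IsScalarTower P B M]
  [Module.Finite B M]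

include hsurj in
/-- associated points of the fibre modules, computed over `B` or over `P ↠ B` -/
theorem assFib_under_iff (𝔯 : PrimeSpectrum B)
    [IsNoetherianRing (Fib A (under (P := P) 𝔯.asIdeal))] [Module.Finite P M] :
    AssFib A M (PrimeSpectrum.comap (algebraMap P B) 𝔯) ↔ AssFib A M 𝔯 := by
  haveI := isNoetherianRing_fib (A := A) 𝔯.asIdeal
  have h1 := Groth.Agent.Lib.SurjSemiH5.depth_eq (fibMap (P := P) A 𝔯.asIdeal)
    (fibMap_surjective A hsurj 𝔯.asIdeal) (fibModEquiv A hsurj 𝔯.asIdeal M).toAddEquiv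
    (fun r x => fibModEquiv_smul A hsurj 𝔯.asIdeal M r x)
  have h2 : Nontrivial (FibModQ A (under (P := P) 𝔯.asIdeal) M) ↔
      Nontrivial (FibModQ A 𝔯.asIdeal M) :=
    (fibModEquiv A hsurj 𝔯.asIdeal M).toEquiv.nontrivial_congr
  show IsAssociatedPrime (IsLocalRing.maximalIdeal (Fib A (under (P := P) 𝔯.asIdeal)))
      (FibModQ A (under (P := P) 𝔯.asIdeal) M) ↔
    IsAssociatedPrime (IsLocalRing.maximalIdeal (Fib A 𝔯.asIdeal)) (FibModQ A 𝔯.asIdeal M)
  rw [isAssociatedPrime_maximalIdeal_iff, isAssociatedPrime_maximalIdeal_iff, h1, h2]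

end Transfer

set_option maxHeartbeats 1000000 in
/-- **Ring-level EGA IV 12.1.1 (ii)**: for a finitely presented `A`-algebra `B` and a finitely
presented `B`-module `M` flat over `A`, the set of primes `q` of `B` such that every associated
point of the fibre module generizing `q` in its fibre has closure of dimension in `Φ` is open. -/
theorem isOpen_assDimIn (M : Type u) [AddCommGroup M] [Module B M] [Module A M]
    [IsScalarTower A B M] [Module.FinitePresentation B M] [Module.Flat A M] (Φ : Set ℕ) :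
    IsOpen {q : PrimeSpectrum B | AssDimIn A M Φ q} := by
  classical
  obtain ⟨N, f, hf, hker⟩ := Algebra.FinitePresentation.out (R := A) (A := B)
  letI algPB : Algebra (MvPolynomial (Fin N) A) B := f.toRingHom.toAlgebra
  haveI : IsScalarTower A (MvPolynomial (Fin N) A) B :=
    IsScalarTower.of_algebraMap_eq fun a => (f.commutes a).symm
  letI modPM : Module (MvPolynomial (Fin N) A) M := Module.compHom M f.toRingHom
  haveI : IsScalarTower (MvPolynomial (Fin N) A) B M :=
    IsScalarTower.of_algebraMap_smul fun _ _ => rfl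
  haveI : IsScalarTower A (MvPolynomial (Fin N) A) M :=
    IsScalarTower.of_algebraMap_smul fun a m => by
      show f (algebraMap A (MvPolynomial (Fin N) A) a) • m = a • m
      rw [f.commutes, algebraMap_smul]
  have hsurj : Function.Surjective (algebraMap (MvPolynomial (Fin N) A) B) := hf
  haveI : Module.FinitePresentation (MvPolynomial (Fin N) A) B := by
    refine Module.finitePresentation_of_surjective
      (Algebra.linearMap (MvPolynomial (Fin N) A) B) hsurj ?_
    have : LinearMap.ker (Algebra.linearMap (MvPolynomial (Fin N) A) B) =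
        (RingHom.ker f.toRingHom : Ideal (MvPolynomial (Fin N) A)) := by
      ext x
      rfl
    rw [this]
    exact hker
  haveI : Module.FinitePresentation (MvPolynomial (Fin N) A) M :=
    Module.FinitePresentation.trans (MvPolynomial (Fin N) A) M B
  have hopen := isOpen_assDimIn_mvPolynomial A N M Φ
  have hinj : ∀ r₁ r₂ : Ideal B, r₁.comap (algebraMap (MvPolynomial (Fin N) A) B) ≤
      r₂.comap (algebraMap (MvPolynomial (Fin N) A) B) → r₁ ≤ r₂ := by
    intro r₁ r₂ h
    rw [← Ideal.map_comap_of_surjective _ hsurj r₁, ← Ideal.map_comap_of_surjective _ hsurj r₂]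
    exact Ideal.map_mono h
  have hset : {q : PrimeSpectrum B | AssDimIn A M Φ q} =
      PrimeSpectrum.comap (algebraMap (MvPolynomial (Fin N) A) B) ⁻¹'
        {Q : PrimeSpectrum (MvPolynomial (Fin N) A) | AssDimIn A M Φ Q} := by
    ext q
    simp only [Set.mem_ofPred_eq, Set.mem_preimage]
    constructor
    · intro h 𝔯' hle hc hass
      -- `𝔯'` contains the kernel, since the fibre module is nonzero
      haveI := isRegularLocalRing_fib_mvPolynomial A N 𝔯'.asIdeal
      have hnt : Nontrivial (FibModQ A 𝔯'.asIdeal M) :=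
        ((isAssociatedPrime_maximalIdeal_iff _).mp hass).1
      have hker' : RingHom.ker (algebraMap (MvPolynomial (Fin N) A) B) ≤ 𝔯'.asIdeal := by
        intro x hx
        by_contra hcon
        have hann : ¬ Module.annihilator (MvPolynomial (Fin N) A) M ≤ 𝔯'.asIdeal := by
          intro hle'
          apply hcon
          apply hle'
          rw [Module.mem_annihilator]
          intro m
          show algebraMap (MvPolynomial (Fin N) A) B x • m = 0
          rw [(RingHom.mem_ker).mp hx, zero_smul]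
        haveI := subsingleton_fibModQ A 𝔯'.asIdeal M hann
        exact not_subsingleton (FibModQ A 𝔯'.asIdeal M) inferInstance
      have hcm : (𝔯'.asIdeal.map (algebraMap (MvPolynomial (Fin N) A) B)).comap
          (algebraMap (MvPolynomial (Fin N) A) B) = 𝔯'.asIdeal := by
        rw [Ideal.comap_map_of_surjective _ hsurj]
        apply le_antisymm
        · exact sup_le le_rfl hker'
        · exact le_sup_left
      obtain ⟨𝔯, rfl⟩ : ∃ 𝔯 : PrimeSpectrum B,
          PrimeSpectrum.comap (algebraMap (MvPolynomial (Fin N) A) B) 𝔯 = 𝔯' :=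
        ⟨⟨𝔯'.asIdeal.map (algebraMap (MvPolynomial (Fin N) A) B),
          Ideal.map_isPrime_of_surjective hsurj hker'⟩, PrimeSpectrum.ext hcm⟩
      haveI := isRegularLocalRing_fib_mvPolynomial A N
        (under (P := MvPolynomial (Fin N) A) 𝔯.asIdeal)
      have h𝔯q : 𝔯 ≤ q := hinj _ _ hle
      have hc' : 𝔯.asIdeal.comap (algebraMap A B) = q.asIdeal.comap (algebraMap A B) := by
        have := hc
        show _ = _
        rw [← comap_under_eq (P := MvPolynomial (Fin N) A) A 𝔯.asIdeal,
          ← comap_under_eq (P := MvPolynomial (Fin N) A) A q.asIdeal]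
        exact this
      obtain ⟨n, hn, hcn⟩ := h 𝔯 h𝔯q hc' ((assFib_under_iff A hsurj M 𝔯).mp hass)
      refine ⟨n, hn, ?_⟩
      rw [← hcn]
      exact fibCoheight_under A hsurj 𝔯.asIdeal
    · intro h 𝔯 hle hc hass
      haveI := isRegularLocalRing_fib_mvPolynomial A N
        (under (P := MvPolynomial (Fin N) A) 𝔯.asIdeal)
      have hc' : (PrimeSpectrum.comap (algebraMap (MvPolynomial (Fin N) A) B) 𝔯).asIdeal.comap
          (algebraMap A (MvPolynomial (Fin N) A)) =
          (PrimeSpectrum.comap (algebraMap (MvPolynomial (Fin N) A) B) q).asIdeal.comap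
            (algebraMap A (MvPolynomial (Fin N) A)) := by
        show (𝔯.asIdeal.comap (algebraMap (MvPolynomial (Fin N) A) B)).comap _ =
          (q.asIdeal.comap (algebraMap (MvPolynomial (Fin N) A) B)).comap _
        rw [comap_under_eq, comap_under_eq]
        exact hc
      obtain ⟨n, hn, hcn⟩ := h (PrimeSpectrum.comap (algebraMap (MvPolynomial (Fin N) A) B) 𝔯)
        (Ideal.comap_mono hle) hc' ((assFib_under_iff A hsurj M 𝔯).mpr hass)
      refine ⟨n, hn, ?_⟩
      rw [← hcn]
      exact (fibCoheight_under A hsurj 𝔯.asIdeal).symm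
  rw [hset]
  exact hopen.preimage (PrimeSpectrum.continuous_comap _)

end General

end Groth.Agent.Lib.FibAssH5
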