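import Mathlib
import Groth.Agent.Lib.DimTheory_helper5

/-!
# Lengths at maximal points of the support under specialization over a DVR, part 1 (helper5)

Ring-level local lemmas for S4980 (EGA IV 12.2-type statement): for a Noetherian local ring `R`,
a finite module `N` and an `N`-regular `t ∈ m`:
* `maximalIdeal_mem_ass_quot`: if `𝔭` kills a nonzero element and `m` is the only prime over
  `𝔭 + (t)`, then `m ∈ Ass(N/tN)`;
* `length_quot_ne_top`, `supportDim_pos`.

APPEND-ONLY once landed.
-/

set_option autoImplicit false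

namespace Groth.Agent.Lib.SpecLenH5

open IsLocalRing Submodule

universe u

section Local

variable {R : Type u} [CommRing R] [IsNoetherianRing R] [IsLocalRing R]
  (N : Type u) [AddCommGroup N] [Module R N] [Module.Finite R N]

/-- (I.1) if `t ∈ m` is `N`-regular, `𝔭` kills a nonzero element of `N` and `m` is the only prime
containing `𝔭 + (t)`, then `m ∈ Ass(N/tN)`. -/
theorem maximalIdeal_mem_ass_quot (t : R) (ht : t ∈ maximalIdeal R) (hreg : IsSMulRegular N t)
    (𝔭 : Ideal R) (x : N) (hx : x ≠ 0) (hpx : ∀ r ∈ 𝔭, r • x = 0)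
    (huniq : ∀ P : Ideal R, P.IsPrime → 𝔭 ≤ P → t ∈ P → P = maximalIdeal R) :
    IsAssociatedPrime (maximalIdeal R) (N ⧸ (Ideal.span {t} • ⊤ : Submodule R N)) := by
  classical
  -- the submodule killed by `𝔭`
  let N' : Submodule R N :=
    { carrier := {n | ∀ r ∈ 𝔭, r • n = 0}
      add_mem' := by
        intro a b ha hb r hr
        rw [smul_add, ha r hr, hb r hr, add_zero]
      zero_mem' := by
        intro r _
        exact smul_zero r
      smul_mem' := by
        intro c a ha r hr
        rw [smul_comm, ha r hr, smul_zero] }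
  have hxN' : x ∈ N' := hpx
  set Q := N ⧸ (Ideal.span {t} • ⊤ : Submodule R N) with hQ
  let g : N' →ₗ[R] Q := (Ideal.span {t} • ⊤ : Submodule R N).mkQ.comp N'.subtype
  let K : Submodule R Q := LinearMap.range g
  -- `N' ∩ tN = tN'`
  have hcap : ∀ n ∈ N', n ∈ (Ideal.span {t} • ⊤ : Submodule R N) →
      n ∈ (Ideal.span {t} • N' : Submodule R N) := by
    intro n hn hnt
    rw [Submodule.ideal_span_singleton_smul, Submodule.mem_smul_pointwise_iff_exists] at hnt ⊢
    obtain ⟨n₁, -, rfl⟩ := hnt
    refine ⟨n₁, ?_, rfl⟩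
    intro r hr
    apply hreg
    show t • (r • n₁) = t • 0
    rw [smul_zero, smul_comm]
    exact hn r hr
  have hKne : K ≠ ⊥ := by
    intro hK
    have hle : N' ≤ (Ideal.span {t} • N' : Submodule R N) := by
      intro n hn
      apply hcap n hn
      have : g ⟨n, hn⟩ ∈ K := ⟨_, rfl⟩
      rw [hK, Submodule.mem_bot] at this
      have h2 : (Ideal.span {t} • ⊤ : Submodule R N).mkQ n = 0 := this
      rwa [Submodule.mkQ_apply, Submodule.Quotient.mk_eq_zero] at h2
    have hfg : N'.FG := IsNoetherian.noetherian N'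
    have hjac : Ideal.span {t} ≤ Ideal.jacobson (⊥ : Ideal R) := by
      rw [Ideal.span_le, Set.singleton_subset_iff]
      exact (IsLocalRing.maximalIdeal_le_jacobson _) ht
    have := Submodule.eq_bot_of_le_smul_of_le_jacobson_bot _ N' hfg hle hjac
    rw [this, Submodule.mem_bot] at hxN'
    exact hx hxN'
  haveI : Nontrivial K := Submodule.nontrivial_iff_ne_bot.mpr hKne
  obtain ⟨𝔞, h𝔞⟩ := associatedPrimes.nonempty R K
  have h𝔞' : IsAssociatedPrime 𝔞 K := h𝔞
  obtain ⟨hprime, k, hk⟩ := isAssociatedPrime_iff.mp h𝔞'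
  have hkill : ∀ r : R, (∀ q : Q, q ∈ K → r • q = 0) → r ∈ 𝔞 := by
    intro r hr
    rw [hk, Submodule.mem_colon_singleton, Submodule.mem_bot]
    apply Subtype.ext
    rw [Submodule.coe_smul, Submodule.coe_zero]
    exact hr k.1 k.2
  have h1 : 𝔭 ≤ 𝔞 := by
    intro r hr
    apply hkill
    rintro q ⟨n, rfl⟩
    rw [← map_smul]
    have : r • n = 0 := Subtype.ext (n.2 r hr)
    rw [this, map_zero]
  have h2 : t ∈ 𝔞 := by
    apply hkill
    intro q _
    obtain ⟨n, rfl⟩ := Submodule.Quotient.mk_surjective _ q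
    rw [← Submodule.Quotient.mk_smul, Submodule.Quotient.mk_eq_zero]
    exact Submodule.smul_mem_smul (Ideal.subset_span rfl) Submodule.mem_top
  have h3 := huniq 𝔞 hprime h1 h2
  rw [h3] at h𝔞'
  exact h𝔞'.map_of_injective K.subtype K.injective_subtype

/-- finite length of `N/tN` when `m` is the only prime containing `Ann N + (t)` -/
theorem length_quot_ne_top (t : R)
    (huniq : ∀ P : Ideal R, P.IsPrime → Module.annihilator R N ≤ P → t ∈ P → P = maximalIdeal R) :
    Module.length R (N ⧸ (Ideal.span {t} • ⊤ : Submodule R N)) ≠ ⊤ := by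
  rw [Module.length_ne_top_iff]
  apply Groth.Agent.DimLib.isFiniteLength_of_support_isMaximal
  intro p hp
  rw [Module.support_quotient] at hp
  obtain ⟨hp1, hp2⟩ := hp
  have h1 := Module.mem_support_iff_of_finite.mp hp1
  rw [PrimeSpectrum.mem_zeroLocus, SetLike.coe_subset_coe, Ideal.span_le,
    Set.singleton_subset_iff] at hp2
  rw [huniq p.asIdeal p.2 h1 hp2]
  exact maximalIdeal.isMaximal R

/-- positive dimension of a nonzero module with a regular element of `m` -/
theorem supportDim_pos [Nontrivial N] (t : R) (ht : t ∈ maximalIdeal R)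
    (hreg : IsSMulRegular N t) : 0 < Module.supportDim R N := by
  have h1 := Module.supportDim_quotSMulTop_succ_eq_supportDim_mem_jacobson hreg
    ((IsLocalRing.maximalIdeal_le_jacobson _) ht)
  haveI : Nontrivial (QuotSMulTop t N) := by
    rw [Submodule.Quotient.nontrivial_iff]
    intro h
    have hle : (⊤ : Submodule R N) ≤ Ideal.span {t} • (⊤ : Submodule R N) := by
      rw [Submodule.ideal_span_singleton_smul, h]
    have hjac : Ideal.span {t} ≤ Ideal.jacobson (⊥ : Ideal R) := by
      rw [Ideal.span_le, Set.singleton_subset_iff]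
      exact (IsLocalRing.maximalIdeal_le_jacobson _) ht
    have := Submodule.eq_bot_of_le_smul_of_le_jacobson_bot _ (⊤ : Submodule R N)
      Module.Finite.fg_top hle hjac
    exact top_ne_bot this
  have h2 : (0 : WithBot ℕ∞) ≤ Module.supportDim R (QuotSMulTop t N) := by
    have := (Module.supportDim_ne_bot_iff_nontrivial (R := R) (M := QuotSMulTop t N)).mpr
      inferInstance
    rcases h : Module.supportDim R (QuotSMulTop t N) with _ | a
    · exact absurd h this
    · exact WithBot.coe_le_coe.mpr zero_le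
  rw [← h1]
  calc (0 : WithBot ℕ∞) < 0 + 1 := by norm_num
    _ ≤ Module.supportDim R (QuotSMulTop t N) + 1 := by gcongr
 
end Local

end Groth.Agent.Lib.SpecLenH5
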