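import Mathlib
import Groth.Agent.Lib.SpecLen1_helper5
import Groth.Agent.Lib.FibProjDim4_helper5
import Groth.Agent.Lib.FibAssDim1_helper5
import Groth.Agent.Lib.SupportLoc_helper5
import Groth.Agent.S12132

/-!
# Lengths at maximal points of the support under specialization over a DVR, part 2 (helper5)

Ring level, relative situation `A → B`, `M` a finite `B`-module, `π ∈ A` with `π` `M`-regular:
* `lam A M 𝔯`: the length of the fibre module `FibModQ A 𝔯 M` over `Fib A 𝔯`;
* `assFib_of_minimal_over`: a prime (over `(π)`) minimal over `𝔯 + πB`, `𝔯 ∈ Ass M`, is an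
  associated point of the special fibre module;
* `sum_lam_le`: the local inequality (through helper9's `S12132`);
* `minimal_of_noEmb`.

APPEND-ONLY once landed.
-/

set_option autoImplicit false

namespace Groth.Agent.Lib.SpecLenH5

open IsLocalRing Submodule TensorProduct
open Groth.Agent.Lib.FibSkH5 Groth.Agent.Lib.FibPdH5 Groth.Agent.Lib.FibAssH5

universe u

section Semi

/-- length is invariant under semilinear isomorphisms -/
theorem length_eq_of_semilinear {R R' N N' : Type*} [CommRing R] [CommRing R'] [AddCommGroup N]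
    [AddCommGroup N'] [Module R N] [Module R' N'] (σ : R ≃+* R') (ε : N ≃+ N')
    (h : ∀ (r : R) (n : N), ε (r • n) = σ r • ε n) :
    Module.length R N = Module.length R' N' := by
  haveI : RingHomSurjective (σ : R →+* R') := ⟨σ.surjective⟩
  let g : N →ₛₗ[(σ : R →+* R')] N' :=
    { toFun := ε
      map_add' := map_add ε
      map_smul' := h }
  have hg : Function.Bijective g := ε.bijective
  rw [Module.length, Module.length, WithBot.unbot_inj,
    Order.krullDim_eq_of_orderIso (Submodule.orderIsoMapComapOfBijective g hg)]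

/-- the maximal ideal is associated over `R` iff it is over `R/J` -/
theorem isAssociatedPrime_maximalIdeal_quotient {R : Type u} [CommRing R] [IsLocalRing R]
    [IsNoetherianRing R] (J : Ideal R) [IsLocalRing (R ⧸ J)] (X : Type u)
    [AddCommGroup X] [Module R X] [Module (R ⧸ J) X] [IsScalarTower R (R ⧸ J) X]
    (h : IsAssociatedPrime (maximalIdeal R) X) : IsAssociatedPrime (maximalIdeal (R ⧸ J)) X := by
  obtain ⟨-, x, hx⟩ := isAssociatedPrime_iff.mp h
  rw [isAssociatedPrime_iff]
  refine ⟨inferInstance, x, ?_⟩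
  have hsurj : Function.Surjective (Ideal.Quotient.mk J) := Ideal.Quotient.mk_surjective
  haveI : IsLocalHom (Ideal.Quotient.mk J) := IsLocalHom.of_surjective _ hsurj
  ext r
  obtain ⟨r, rfl⟩ := hsurj r
  rw [Submodule.mem_colon_singleton, Submodule.mem_bot]
  have h1 : Ideal.Quotient.mk J r ∈ maximalIdeal (R ⧸ J) ↔ r ∈ maximalIdeal R := by
    rw [IsLocalRing.mem_maximalIdeal, IsLocalRing.mem_maximalIdeal, mem_nonunits_iff,
      mem_nonunits_iff, isUnit_map_iff]
  rw [h1, hx, Submodule.mem_colon_singleton, Submodule.mem_bot]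
  have h2 : Ideal.Quotient.mk J r • x = r • x := by
    rw [← algebraMap_smul (R ⧸ J) r x]
    rfl
  rw [h2]

end Semi

section Ring

variable (A : Type u) {B : Type u} [CommRing A] [CommRing B] [Algebra A B]
  (M : Type u) [AddCommGroup M] [Module B M]

/-- the length of the fibre module at `𝔯` over the local ring of the fibre -/
noncomputable def lam (𝔯 : PrimeSpectrum B) : ℕ∞ :=
  Module.length (Fib A 𝔯.asIdeal) (FibModQ A 𝔯.asIdeal M)

variable {A}

/-- over the closed point: the fibre module is `N/tN` -/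
theorem lam_eq_length_quot (π : A) (q : PrimeSpectrum B)
    (hq : q.asIdeal.comap (algebraMap A B) = Ideal.span {π}) :
    lam A M q = Module.length (Localization.AtPrime q.asIdeal)
      (LocalizedModule q.asIdeal.primeCompl M ⧸
        (Ideal.span {algebraMap A (Localization.AtPrime q.asIdeal) π} • ⊤ :
          Submodule (Localization.AtPrime q.asIdeal) (LocalizedModule q.asIdeal.primeCompl M))) := by
  have hJ : fibJ A q.asIdeal = Ideal.span {algebraMap A (Localization.AtPrime q.asIdeal) π} := by
    show (q.asIdeal.comap (algebraMap A B)).map _ = _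
    rw [hq, Ideal.map_span, Set.image_singleton]
  unfold lam
  rw [← Module.length_eq_of_surjective (S := Localization.AtPrime q.asIdeal)
    (R := Fib A q.asIdeal) (M := FibModQ A q.asIdeal M) Ideal.Quotient.mk_surjective]
  exact (Submodule.quotEquivOfEq _ _ (by rw [hJ])).length_eq

/-- over the generic point: the fibre module at `𝔯 = P ∩ B` is the localization at `P` of the
localization at `q` -/
theorem length_loc_loc_eq (q : Ideal B) [q.IsPrime] (P : Ideal (Localization.AtPrime q))
    [P.IsPrime]
    (h0 : (P.comap (algebraMap B (Localization.AtPrime q))).comap (algebraMap A B) = ⊥) :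
    Module.length (Localization.AtPrime P)
        (LocalizedModule P.primeCompl (LocalizedModule q.primeCompl M)) =
      lam A M ⟨P.comap (algebraMap B (Localization.AtPrime q)), inferInstance⟩ := by
  set 𝔯 : Ideal B := P.comap (algebraMap B (Localization.AtPrime q)) with h𝔯
  haveI : 𝔯.IsPrime := Ideal.comap_isPrime _ _
  haveI hloc : IsLocalization.AtPrime (Localization.AtPrime P) 𝔯 :=
    IsLocalization.isLocalization_atPrime_localization_atPrime q.primeCompl P
  let σ₀ : Localization.AtPrime P ≃ₐ[B] Localization.AtPrime 𝔯 :=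
    IsLocalization.algEquiv 𝔯.primeCompl _ _
  have hJ : fibJ A 𝔯 = ⊥ := by
    show (𝔯.comap (algebraMap A B)).map _ = ⊥
    rw [h0, Ideal.map_bot]
  have hinj : Function.Injective (Ideal.Quotient.mk (fibJ A 𝔯)) := by
    rw [RingHom.injective_iff_ker_eq_bot, Ideal.mk_ker]
    exact hJ
  let σ₁ : Localization.AtPrime 𝔯 ≃+* Fib A 𝔯 :=
    RingEquiv.ofBijective (Ideal.Quotient.mk (fibJ A 𝔯)) ⟨hinj, Ideal.Quotient.mk_surjective⟩
  let σ : Localization.AtPrime P ≃+* Fib A 𝔯 := σ₀.toRingEquiv.trans σ₁
  have hσ : ∀ b : B, σ (algebraMap B (Localization.AtPrime P) b) = algebraMap B (Fib A 𝔯) b := by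
    intro b
    show σ₁ (σ₀ (algebraMap B (Localization.AtPrime P) b)) = _
    rw [σ₀.commutes]
    rfl
  let e₁ : Localization.AtPrime P ⊗[B] M ≃ₗ[Localization.AtPrime P]
      LocalizedModule P.primeCompl (LocalizedModule q.primeCompl M) :=
    (AlgebraTensorModule.cancelBaseChange B (Localization.AtPrime q) (Localization.AtPrime P)
      (Localization.AtPrime P) M).symm ≪≫ₗ
    (AlgebraTensorModule.congr (LinearEquiv.refl (Localization.AtPrime P) (Localization.AtPrime P))
      (IsLocalizedModule.isBaseChange q.primeCompl (Localization.AtPrime q)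
        (LocalizedModule.mkLinearMap q.primeCompl M)).equiv) ≪≫ₗ
    (IsLocalizedModule.isBaseChange P.primeCompl (Localization.AtPrime P)
      (LocalizedModule.mkLinearMap P.primeCompl (LocalizedModule q.primeCompl M))).equiv
  obtain ⟨ε, hε⟩ := exists_semilinear_of_baseChange (B := B) (R₁ := Localization.AtPrime P)
    (R₂ := Fib A 𝔯) (M := M)
    (N₁ := LocalizedModule P.primeCompl (LocalizedModule q.primeCompl M))
    (N₂ := FibModQ A 𝔯 M) σ hσ e₁ (fibMEquiv' A 𝔯 M)
  exact length_eq_of_semilinear σ ε hε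

/-- a prime of `B_q` whose contraction contains an ideal over which `q` is minimal is the
maximal ideal -/
theorem eq_maximalIdeal_of_minimal (q : Ideal B) [q.IsPrime] (I : Ideal B)
    (hmin : q ∈ I.minimalPrimes) (P : Ideal (Localization.AtPrime q)) [P.IsPrime]
    (h : I ≤ P.comap (algebraMap B (Localization.AtPrime q))) :
    P = maximalIdeal (Localization.AtPrime q) := by
  have hle : P.comap (algebraMap B (Localization.AtPrime q)) ≤ q := by
    have h1 : P ≤ maximalIdeal (Localization.AtPrime q) := IsLocalRing.le_maximalIdeal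
      (Ideal.IsPrime.ne_top inferInstance)
    have h2 := Ideal.comap_mono (f := algebraMap B (Localization.AtPrime q)) h1
    exact h2.trans (le_of_eq Localization.AtPrime.under_maximalIdeal)
  have hge : q ≤ P.comap (algebraMap B (Localization.AtPrime q)) :=
    hmin.2 ⟨Ideal.comap_isPrime _ _, h⟩ hle
  have heq : P.comap (algebraMap B (Localization.AtPrime q)) = q := le_antisymm hle hge
  have h3 := IsLocalization.map_under q.primeCompl (Localization.AtPrime q) P
  have h4 : Ideal.under B P = q := heq
  rw [← h3, h4, Localization.AtPrime.map_eq_maximalIdeal]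

section Noeth

variable [IsNoetherianRing B] [Module.Finite B M]

/-- (I.1) in the relative situation: if `𝔯 ∈ Ass M`, `π` is `M`-regular and `q` (over `(π)`) is
minimal over `𝔯 + πB`, then `q` is an associated point of the fibre module. -/
theorem assFib_of_minimal_over (π : A) (hreg : IsSMulRegular M (algebraMap A B π))
    (q : PrimeSpectrum B) (hq : q.asIdeal.comap (algebraMap A B) = Ideal.span {π})
    (𝔯 : Ideal B) (h𝔯 : 𝔯 ∈ associatedPrimes B M)
    (hmin : q.asIdeal ∈ (𝔯 ⊔ Ideal.span {algebraMap A B π}).minimalPrimes) :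
    AssFib A M q := by
  set R := Localization.AtPrime q.asIdeal with hR
  set N := LocalizedModule q.asIdeal.primeCompl M with hN
  set t : R := algebraMap A R π with ht_def
  haveI : IsNoetherianRing R := IsLocalization.isNoetherianRing q.asIdeal.primeCompl R inferInstance
  haveI : Module.Finite R N := Module.Finite.of_isLocalizedModule q.asIdeal.primeCompl
    (LocalizedModule.mkLinearMap q.asIdeal.primeCompl M)
  have htB : t = algebraMap B R (algebraMap A B π) := IsScalarTower.algebraMap_apply A B R π
  have hπq : algebraMap A B π ∈ q.asIdeal := by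
    have : π ∈ q.asIdeal.comap (algebraMap A B) := by
      rw [hq]; exact Ideal.subset_span rfl
    exact this
  have ht : t ∈ maximalIdeal R := by
    rw [htB]
    exact (IsLocalization.AtPrime.to_map_mem_maximal_iff R q.asIdeal _).mpr hπq
  have hreg' : IsSMulRegular N t := by
    rw [htB]
    exact IsSMulRegular.of_isLocalizedModule R q.asIdeal.primeCompl
      (LocalizedModule.mkLinearMap q.asIdeal.primeCompl M) hreg
  have h𝔯' : IsAssociatedPrime 𝔯 M := h𝔯
  obtain ⟨hprime, x₀, hx₀⟩ := isAssociatedPrime_iff.mp h𝔯'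
  have h𝔯q : 𝔯 ≤ q.asIdeal := le_sup_left.trans hmin.1.2
  set x : N := LocalizedModule.mkLinearMap q.asIdeal.primeCompl M x₀ with hx_def
  have hx : x ≠ 0 := by
    intro h0
    rw [hx_def, IsLocalizedModule.eq_zero_iff q.asIdeal.primeCompl] at h0
    obtain ⟨s, hs⟩ := h0
    have : (s : B) ∈ 𝔯 := by
      rw [hx₀, Submodule.mem_colon_singleton, Submodule.mem_bot]
      exact hs
    exact s.2 (h𝔯q this)
  set 𝔭 : Ideal R := 𝔯.map (algebraMap B R) with h𝔭
  have hpx : ∀ r ∈ 𝔭, r • x = 0 := by
    have hle : 𝔭 ≤ (⊥ : Submodule R N).colon {x} := by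
      rw [h𝔭, Ideal.map_le_iff_le_comap]
      intro b hb
      rw [Ideal.mem_comap, Submodule.mem_colon_singleton, Submodule.mem_bot, hx_def,
        algebraMap_smul, ← map_smul]
      rw [hx₀, Submodule.mem_colon_singleton, Submodule.mem_bot] at hb
      rw [hb, map_zero]
    intro r hr
    have := hle hr
    rwa [Submodule.mem_colon_singleton, Submodule.mem_bot] at this
  have huniq : ∀ P : Ideal R, P.IsPrime → 𝔭 ≤ P → t ∈ P → P = maximalIdeal R := by
    intro P hP h1 h2
    haveI := hP
    apply eq_maximalIdeal_of_minimal q.asIdeal _ hmin P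
    apply sup_le
    · exact Ideal.map_le_iff_le_comap.mp h1
    · rw [Ideal.span_le, Set.singleton_subset_iff]
      show algebraMap B R (algebraMap A B π) ∈ P
      rw [← htB]
      exact h2
  have h1 := maximalIdeal_mem_ass_quot N t ht hreg' 𝔭 x hx hpx huniq
  have hJ : fibJ A q.asIdeal = Ideal.span {t} := by
    show (q.asIdeal.comap (algebraMap A B)).map _ = _
    rw [hq, Ideal.map_span, Set.image_singleton]
  have h2 : IsAssociatedPrime (maximalIdeal R) (FibModQ A q.asIdeal M) :=
    (LinearEquiv.isAssociatedPrime_iff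
      (Submodule.quotEquivOfEq _ _ (by rw [hJ]))).mp h1
  exact isAssociatedPrime_maximalIdeal_quotient (fibJ A q.asIdeal) (FibModQ A q.asIdeal M) h2

/-- annihilators and localization, for primes -/
theorem ann_le_iff (q : Ideal B) [q.IsPrime] (P : Ideal (Localization.AtPrime q)) [hP : P.IsPrime] :
    Module.annihilator (Localization.AtPrime q) (LocalizedModule q.primeCompl M) ≤ P ↔
      Module.annihilator B M ≤ P.comap (algebraMap B (Localization.AtPrime q)) := by
  haveI : Module.Finite (Localization.AtPrime q) (LocalizedModule q.primeCompl M) :=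
    Module.Finite.of_isLocalizedModule q.primeCompl (LocalizedModule.mkLinearMap q.primeCompl M)
  have h1 := Groth.Agent.DepthLib.mem_support_localizedModule_iff M q ⟨P, hP⟩
  rw [Module.mem_support_iff_of_finite, Module.mem_support_iff_of_finite] at h1
  exact h1

/-- the image in `B_q` of a minimal prime of `Ann M` contained in `q` is a minimal prime of
`Ann M_q` -/
theorem map_mem_minimalPrimes (q : Ideal B) [q.IsPrime] (𝔯 : Ideal B)
    (h𝔯 : 𝔯 ∈ (Module.annihilator B M).minimalPrimes) (hle : 𝔯 ≤ q) :
    𝔯.map (algebraMap B (Localization.AtPrime q)) ∈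
        (Module.annihilator (Localization.AtPrime q)
          (LocalizedModule q.primeCompl M)).minimalPrimes ∧
      (𝔯.map (algebraMap B (Localization.AtPrime q))).comap
        (algebraMap B (Localization.AtPrime q)) = 𝔯 := by
  have hprime : 𝔯.IsPrime := h𝔯.1.1
  have hdisj : Disjoint (q.primeCompl : Set B) (𝔯 : Set B) :=
    Set.disjoint_left.mpr (fun x hx hx' => hx (hle hx'))
  have hP : (𝔯.map (algebraMap B (Localization.AtPrime q))).IsPrime :=
    IsLocalization.isPrime_of_isPrime_disjoint q.primeCompl (Localization.AtPrime q) 𝔯 hprime hdisj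
  have hcomap : (𝔯.map (algebraMap B (Localization.AtPrime q))).comap
      (algebraMap B (Localization.AtPrime q)) = 𝔯 :=
    IsLocalization.under_map_of_isPrime_disjoint q.primeCompl (Localization.AtPrime q) hprime hdisj
  refine ⟨⟨⟨hP, ?_⟩, ?_⟩, hcomap⟩
  · rw [ann_le_iff, hcomap]
    exact h𝔯.1.2
  · intro Q hQ hQP
    haveI := hQ.1
    have h1 : Module.annihilator B M ≤ Q.comap (algebraMap B (Localization.AtPrime q)) :=
      (ann_le_iff M q Q).mp hQ.2
    have h2 : Q.comap (algebraMap B (Localization.AtPrime q)) ≤ 𝔯 := by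
      rw [← hcomap]
      exact Ideal.comap_mono hQP
    have h3 := h𝔯.2 ⟨Ideal.comap_isPrime _ _, h1⟩ h2
    have h4 := IsLocalization.map_under q.primeCompl (Localization.AtPrime q) Q
    rw [← h4]
    exact Ideal.map_mono h3

set_option maxHeartbeats 1000000 in
/-- **The local inequality** (from S12132): the lengths of the fibre modules at the minimal primes
of `Ann M` (over the generic point) contained in `q` (over `(π)`, minimal over `Ann M + πB`)
add up to at most the length of the fibre module at `q`. -/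
theorem sum_lam_le (π : A) (hreg : IsSMulRegular M (algebraMap A B π)) (q : PrimeSpectrum B)
    (hq : q.asIdeal.comap (algebraMap A B) = Ideal.span {π})
    (hmin : q.asIdeal ∈
      (Module.annihilator B M ⊔ Ideal.span {algebraMap A B π}).minimalPrimes)
    (T : Finset (PrimeSpectrum B))
    (hT : ∀ 𝔯 ∈ T, 𝔯.asIdeal ∈ (Module.annihilator B M).minimalPrimes ∧ 𝔯 ≤ q ∧
      𝔯.asIdeal.comap (algebraMap A B) = ⊥) :
    ∑ 𝔯 ∈ T, lam A M 𝔯 ≤ lam A M q := by
  classical
  set R := Localization.AtPrime q.asIdeal with hR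
  set N := LocalizedModule q.asIdeal.primeCompl M with hN
  set t : R := algebraMap A R π with ht_def
  haveI : IsNoetherianRing R := IsLocalization.isNoetherianRing q.asIdeal.primeCompl R inferInstance
  haveI : Module.Finite R N := Module.Finite.of_isLocalizedModule q.asIdeal.primeCompl
    (LocalizedModule.mkLinearMap q.asIdeal.primeCompl M)
  have htB : t = algebraMap B R (algebraMap A B π) := IsScalarTower.algebraMap_apply A B R π
  have hπq : algebraMap A B π ∈ q.asIdeal := by
    have : π ∈ q.asIdeal.comap (algebraMap A B) := by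
      rw [hq]; exact Ideal.subset_span rfl
    exact this
  have ht : t ∈ maximalIdeal R := by
    rw [htB]
    exact (IsLocalization.AtPrime.to_map_mem_maximal_iff R q.asIdeal _).mpr hπq
  have hreg' : IsSMulRegular N t := by
    rw [htB]
    exact IsSMulRegular.of_isLocalizedModule R q.asIdeal.primeCompl
      (LocalizedModule.mkLinearMap q.asIdeal.primeCompl M) hreg
  haveI : Nontrivial N := by
    have : q ∈ Module.support B M :=
      Module.mem_support_iff_of_finite.mpr (le_sup_left.trans hmin.1.2)
    exact Module.mem_support_iff.mp this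
  have hdim := supportDim_pos N t ht hreg'
  have huniq : ∀ P : Ideal R, P.IsPrime → Module.annihilator R N ≤ P → t ∈ P →
      P = maximalIdeal R := by
    intro P hP h1 h2
    haveI := hP
    apply eq_maximalIdeal_of_minimal q.asIdeal _ hmin P
    apply sup_le
    · exact (ann_le_iff M q.asIdeal P).mp h1
    · rw [Ideal.span_le, Set.singleton_subset_iff]
      show algebraMap B R (algebraMap A B π) ∈ P
      rw [← htB]
      exact h2
  have hfin := length_quot_ne_top N t huniq
  let g : (Module.annihilator R N).minimalPrimes → ℕ∞ := fun p =>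
    haveI : p.1.IsPrime := p.2.1.1
    Module.length (Localization.AtPrime p.1) (LocalizedModule p.1.primeCompl N)
  have S : ∑ᶠ p, g p ≤ Module.length R (N ⧸ (Ideal.span {t} • (⊤ : Submodule R N))) :=
    (Groth.Agent.S12132.result t ht N hdim hfin).1
  rw [lam_eq_length_quot M π q hq]
  refine le_trans ?_ S
  haveI : Finite (Module.annihilator R N).minimalPrimes :=
    (Ideal.finite_minimalPrimes_of_isNoetherianRing R _).to_subtype
  letI : Fintype (Module.annihilator R N).minimalPrimes := Fintype.ofFinite _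
  rw [finsum_eq_sum_of_fintype]
  let φ : {𝔯 // 𝔯 ∈ T} → (Module.annihilator R N).minimalPrimes := fun 𝔯 =>
    ⟨𝔯.1.asIdeal.map (algebraMap B R),
      (map_mem_minimalPrimes M q.asIdeal 𝔯.1.asIdeal (hT 𝔯.1 𝔯.2).1 (hT 𝔯.1 𝔯.2).2.1).1⟩
  have hφc : ∀ 𝔯 : {𝔯 // 𝔯 ∈ T}, (φ 𝔯).1.comap (algebraMap B R) = 𝔯.1.asIdeal := fun 𝔯 =>
    (map_mem_minimalPrimes M q.asIdeal 𝔯.1.asIdeal (hT 𝔯.1 𝔯.2).1 (hT 𝔯.1 𝔯.2).2.1).2
  have hφinj : Function.Injective φ := by
    intro a b hab
    apply Subtype.ext
    apply PrimeSpectrum.ext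
    rw [← hφc a, ← hφc b, hab]
  have hgφ : ∀ 𝔯 : {𝔯 // 𝔯 ∈ T}, g (φ 𝔯) = lam A M 𝔯.1 := by
    intro 𝔯
    haveI : (φ 𝔯).1.IsPrime := (φ 𝔯).2.1.1
    have h0 : ((φ 𝔯).1.comap (algebraMap B R)).comap (algebraMap A B) = ⊥ := by
      rw [hφc]
      exact (hT 𝔯.1 𝔯.2).2.2
    have h1 := length_loc_loc_eq M q.asIdeal (φ 𝔯).1 h0
    have h2 : (⟨(φ 𝔯).1.comap (algebraMap B R), inferInstance⟩ : PrimeSpectrum B) = 𝔯.1 :=
      PrimeSpectrum.ext (hφc 𝔯)
    rw [← h2]
    exact h1
  calc ∑ 𝔯 ∈ T, lam A M 𝔯 = ∑ 𝔯 ∈ T.attach, lam A M 𝔯.1 := (Finset.sum_attach T _).symm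
    _ = ∑ 𝔯 ∈ T.attach, g (φ 𝔯) := Finset.sum_congr rfl (fun 𝔯 _ => (hgφ 𝔯).symm)
    _ = ∑ p ∈ T.attach.image φ, g p :=
        (Finset.sum_image (fun a _ b _ hab => hφinj hab)).symm
    _ ≤ ∑ p, g p := Finset.sum_le_sum_of_subset (Finset.subset_univ _)

/-- if the special fibre module has no embedded point at `q` and `q` is minimal over `𝔯 + πB` for
a minimal prime `𝔯` of `Ann M`, then `q` is minimal over `Ann M + πB` -/
theorem minimal_of_noEmb (π : A) (hreg : IsSMulRegular M (algebraMap A B π)) (q : PrimeSpectrum B)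
    (hq : q.asIdeal.comap (algebraMap A B) = Ideal.span {π})
    (𝔯 : Ideal B) (h𝔯 : 𝔯 ∈ (Module.annihilator B M).minimalPrimes)
    (hmin : q.asIdeal ∈ (𝔯 ⊔ Ideal.span {algebraMap A B π}).minimalPrimes)
    (hne : ∀ 𝔴 : PrimeSpectrum B, 𝔴 ≤ q →
      𝔴.asIdeal.comap (algebraMap A B) = Ideal.span {π} → AssFib A M 𝔴 → AssFib A M q → 𝔴 = q) :
    q.asIdeal ∈ (Module.annihilator B M ⊔ Ideal.span {algebraMap A B π}).minimalPrimes := by
  have hassq : AssFib A M q := assFib_of_minimal_over M π hreg q hq 𝔯
    (Module.associatedPrimes.minimalPrimes_annihilator_subset_associatedPrimes B M h𝔯) hmin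
  have hle : Module.annihilator B M ⊔ Ideal.span {algebraMap A B π} ≤ q.asIdeal :=
    (sup_le_sup_right h𝔯.1.2 _).trans hmin.1.2
  obtain ⟨w, hw, hwq⟩ := Ideal.exists_minimalPrimes_le hle
  have hwprime : w.IsPrime := hw.1.1
  set 𝔴 : PrimeSpectrum B := ⟨w, hwprime⟩ with h𝔴
  have hπw : algebraMap A B π ∈ w := hw.1.2 (le_sup_right (a := Module.annihilator B M)
    (Ideal.subset_span rfl))
  have hwc : 𝔴.asIdeal.comap (algebraMap A B) = Ideal.span {π} := by
    apply le_antisymm
    · rw [← hq]
      exact Ideal.comap_mono hwq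
    · rw [Ideal.span_le, Set.singleton_subset_iff]
      exact hπw
  obtain ⟨r', hr', hr'w⟩ := Ideal.exists_minimalPrimes_le (J := w)
    (le_sup_left.trans hw.1.2 : Module.annihilator B M ≤ w)
  have hminw : 𝔴.asIdeal ∈ (r' ⊔ Ideal.span {algebraMap A B π}).minimalPrimes := by
    refine ⟨⟨hwprime, sup_le hr'w ?_⟩, ?_⟩
    · rw [Ideal.span_le, Set.singleton_subset_iff]
      exact hπw
    · intro Q hQ hQw
      exact hw.2 ⟨hQ.1, (sup_le_sup_right hr'.1.2 _).trans hQ.2⟩ hQw
  have hassw : AssFib A M 𝔴 := assFib_of_minimal_over M π hreg 𝔴 hwc r'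
    (Module.associatedPrimes.minimalPrimes_annihilator_subset_associatedPrimes B M hr') hminw
  have heq := hne 𝔴 hwq hwc hassw hassq
  rw [← heq]
  exact hw

end Noeth

end Ring

end Groth.Agent.Lib.SpecLenH5
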