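import Mathlib
import Groth.Agent.Lib.AnnTransfer_helper9
import Groth.Agent.Lib.SpecLen2_helper5

/-!
# Specialization of cycles over a DVR, part 1 (helper5)

The local multiplicity formula: for a Noetherian local ring `B`, a finite `B`-module `M` and an
`M`-regular `t ∈ m` with `M/tM` of finite length,
`length (M/tM) = ∑_p length_{B_p}(M_p) * length_B (B/(p + tB))`, the sum over the minimal primes
of `Ann M` (from helper9's `MultDim1.formula_of_finite`).

APPEND-ONLY once landed.
-/

set_option autoImplicit false

namespace Groth.Agent.Lib.CycSpH5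

open IsLocalRing Groth.Agent.MultDim1 Groth.Agent.MultIneq Groth.Agent.HerbrandDim1
open Groth.Agent.Lib.AnnTransfer
open scoped Pointwise

universe u

section OneDim

variable {A : Type u} [CommRing A] [IsNoetherianRing A] [IsLocalRing A] {t : A}

/-- the formula over a one-dimensional ring, summed over the minimal primes of the ring -/
theorem formula_dim1 (hdim : 0 < ringKrullDim A) (ht : t ∈ maximalIdeal A)
    (hart : IsArtinianRing (A ⧸ Ideal.span {t})) (M : Type u) [AddCommGroup M] [Module A M]
    [Module.Finite A M] (hreg : IsSMulRegular M t) :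
    Module.length A (M ⧸ (Ideal.span {t} • (⊤ : Submodule A M))) =
      ∑ᶠ I : minimalPrimes A, haveI : I.1.IsPrime := I.2.1.1;
        lam I.1 M * Module.length A (A ⧸ (I.1 ⊔ Ideal.span {t})) := by
  have hd := krullDimLE_one hart ht
  have ha := fun p hp => notMem_of_minimal hart hdim p hp
  have hF : Module.length A (QuotSMulTop t M) =
      Module.length A (LinearMap.ker (mulT t M)) + Rsum t M := formula_of_finite ha M
  rw [Submodule.ideal_span_singleton_smul]
  change Module.length A (QuotSMulTop t M) = _
  rw [hF]
  have hker : LinearMap.ker (mulT t M) = ⊥ := by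
    rw [LinearMap.ker_eq_bot]
    intro x y hxy
    exact hreg hxy
  rw [hker, Module.length_eq_zero, zero_add]
  unfold Rsum
  exact finsum_Smin (fun p : PrimeSpectrum A =>
    lam p.asIdeal M * Module.length A (A ⧸ (p.asIdeal ⊔ Ideal.span {t})))

end OneDim

section Transfer

variable {B A : Type u} [CommRing B] [CommRing A] [Algebra B A]

/-- the length of `A/(I + tA)` over `A` is the length of `B/(I ∩ B + tB)` over `B` -/
theorem length_quot_sup_eq (hπ : Function.Surjective (algebraMap B A)) (t : B) (I : Ideal A) :
    Module.length A (A ⧸ (I ⊔ Ideal.span {algebraMap B A t})) =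
      Module.length B (B ⧸ (I.comap (algebraMap B A) ⊔ Ideal.span {t})) := by
  rw [← Module.length_eq_of_surjective (S := B) (R := A) hπ]
  set J : Ideal A := I ⊔ Ideal.span {algebraMap B A t} with hJ
  let g : B →ₗ[B] A ⧸ J := (Submodule.mkQ J).restrictScalars B ∘ₗ (Algebra.linearMap B A)
  have hg : Function.Surjective g := (Submodule.mkQ_surjective J).comp hπ
  have hkg : LinearMap.ker g = I.comap (algebraMap B A) ⊔ Ideal.span {t} := by
    have h1 : J = Ideal.map (algebraMap B A) (I.comap (algebraMap B A) ⊔ Ideal.span {t}) := by
      rw [Ideal.map_sup, Ideal.map_comap_of_surjective _ hπ, Ideal.map_span,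
        Set.image_singleton]
    have h2 : LinearMap.ker g = J.comap (algebraMap B A) := by
      ext b
      rw [LinearMap.mem_ker, Ideal.mem_comap]
      show Submodule.mkQ J (algebraMap B A b) = 0 ↔ _
      rw [Submodule.mkQ_apply, Submodule.Quotient.mk_eq_zero]
    rw [h2, h1, Ideal.comap_map_of_surjective _ hπ]
    apply le_antisymm
    · apply sup_le le_rfl
      refine le_trans ?_ le_sup_left
      exact Ideal.comap_mono bot_le
    · exact le_sup_left
  exact ((g.quotKerEquivOfSurjective hg).symm.trans
    (Submodule.quotEquivOfEq _ _ hkg)).length_eq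

variable (M : Type u) [AddCommGroup M] [Module B M] [Module A M] [IsScalarTower B A M]

theorem formula_generic [IsNoetherianRing B] [IsLocalRing B] [IsNoetherianRing A] [IsLocalRing A]
    (hπ : Function.Surjective (algebraMap B A)) [Module.Finite B M]
    (hker : RingHom.ker (algebraMap B A) = Module.annihilator B M)
    (t : B) (ht : t ∈ maximalIdeal B) (hdim : 0 < ringKrullDim A) (hreg : IsSMulRegular M t)
    (hfin : Module.length B (M ⧸ (Ideal.span {t} • (⊤ : Submodule B M))) ≠ ⊤) :
    Module.length B (M ⧸ (Ideal.span {t} • (⊤ : Submodule B M))) =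
      ∑ᶠ p : (Module.annihilator B M).minimalPrimes,
        haveI : p.1.IsPrime := p.2.1.1
        Module.length (Localization.AtPrime p.1) (LocalizedModule p.1.primeCompl M) *
          Module.length B (B ⧸ (p.1 ⊔ Ideal.span {t})) := by
  haveI : Module.Finite A M := Module.Finite.of_restrictScalars_finite B A M
  have htA : algebraMap B A t ∈ maximalIdeal A := by
    rw [map_maximalIdeal hπ]
    exact Ideal.mem_map_of_mem _ ht
  have hart := isArtinianRing_quot M hπ hker t hfin
  have hregA : IsSMulRegular M (algebraMap B A t) := by
    have : (fun m : M => algebraMap B A t • m) = fun m => t • m :=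
      funext (algebraMap_smul A t)
    unfold IsSMulRegular
    rw [this]
    exact hreg
  have h1 := formula_dim1 hdim htA hart M hregA
  rw [← length_quot_eq M hπ t, h1]
  set e := minEquiv' hπ _ hker with he
  rw [← finsum_comp_equiv e]
  apply finsum_congr
  intro q
  haveI : q.1.IsPrime := q.2.1.1
  haveI : (e q).1.IsPrime := (e q).2.1.1
  have hc := minEquiv'_coe hπ _ hker q
  have h2 : Module.length (Localization.AtPrime (e q).1)
      (LocalizedModule (e q).1.primeCompl M) = lam q.1 M :=
    (length_congr_prime M _ _ hc).trans (length_localized_eq M hπ q.1).symm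
  have h3 : Module.length B (B ⧸ ((e q).1 ⊔ Ideal.span {t})) =
      Module.length A (A ⧸ (q.1 ⊔ Ideal.span {algebraMap B A t})) := by
    rw [length_quot_sup_eq hπ t q.1, ← hc]
  show lam q.1 M * _ = _ * _
  rw [h2, h3]

end Transfer

section Local

variable {B : Type u} [CommRing B] [IsNoetherianRing B] [IsLocalRing B]

/-- **The local multiplicity formula.** -/
theorem formula_local (t : B) (ht : t ∈ maximalIdeal B)
    (M : Type u) [AddCommGroup M] [Module B M] [Module.Finite B M] [Nontrivial M]
    (hreg : IsSMulRegular M t)
    (hfin : Module.length B (M ⧸ (Ideal.span {t} • (⊤ : Submodule B M))) ≠ ⊤) :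
    Module.length B (M ⧸ (Ideal.span {t} • (⊤ : Submodule B M))) =
      ∑ᶠ p : (Module.annihilator B M).minimalPrimes,
        haveI : p.1.IsPrime := p.2.1.1
        Module.length (Localization.AtPrime p.1) (LocalizedModule p.1.primeCompl M) *
          Module.length B (B ⧸ (p.1 ⊔ Ideal.span {t})) := by
  classical
  set I := Module.annihilator B M with hI
  have hItop : I ≠ ⊤ := by
    intro h
    rw [hI, Module.annihilator_eq_top_iff] at h
    exact not_subsingleton M h
  haveI : Nontrivial (B ⧸ I) := Ideal.Quotient.nontrivial_iff.mpr hItop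
  haveI : IsLocalRing (B ⧸ I) :=
    IsLocalRing.of_surjective' (Ideal.Quotient.mk I) Ideal.Quotient.mk_surjective
  letI : Module (B ⧸ I) M := Module.quotientAnnihilator
  haveI : IsScalarTower B (B ⧸ I) M := inferInstance
  have hπ : Function.Surjective (algebraMap B (B ⧸ I)) := Ideal.Quotient.mk_surjective
  have hker : RingHom.ker (algebraMap B (B ⧸ I)) = Module.annihilator B M := Ideal.mk_ker
  have hdim := Groth.Agent.Lib.SpecLenH5.supportDim_pos M t ht hreg
  have hdimA : 0 < ringKrullDim (B ⧸ I) := by
    rwa [← Module.supportDim_eq_ringKrullDim_quotient_annihilator]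
  exact formula_generic (A := B ⧸ I) M hπ hker t ht hdimA hreg hfin

/-- finiteness of the factors in the local multiplicity formula -/
theorem factors_ne_top (t : B)
    (M : Type u) [AddCommGroup M] [Module B M] [Module.Finite B M]
    (hfin : Module.length B (M ⧸ (Ideal.span {t} • (⊤ : Submodule B M))) ≠ ⊤)
    (p : Ideal B) [p.IsPrime] (hp : p ∈ (Module.annihilator B M).minimalPrimes) :
    Module.length (Localization.AtPrime p) (LocalizedModule p.primeCompl M) ≠ ⊤ ∧
      Module.length B (B ⧸ (p ⊔ Ideal.span {t})) ≠ ⊤ := by
  constructor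
  · haveI : IsNoetherianRing (Localization.AtPrime p) :=
      IsLocalization.isNoetherianRing p.primeCompl _ inferInstance
    haveI : Module.Finite (Localization.AtPrime p) (LocalizedModule p.primeCompl M) :=
      Module.Finite.of_isLocalizedModule p.primeCompl (LocalizedModule.mkLinearMap p.primeCompl M)
    rw [Module.length_ne_top_iff]
    apply Groth.Agent.DimLib.isFiniteLength_of_support_isMaximal
    intro P hP
    haveI := P.2
    have h1 := (Groth.Agent.DepthLib.mem_support_localizedModule_iff M p P).mp hP
    rw [Module.mem_support_iff_of_finite] at h1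
    rw [Groth.Agent.Lib.SpecLenH5.eq_maximalIdeal_of_minimal p _ hp P.asIdeal h1]
    exact maximalIdeal.isMaximal _
  · rw [Module.length_ne_top_iff]
    apply Groth.Agent.DimLib.isFiniteLength_of_support_isMaximal
    intro P hP
    rw [Module.mem_support_iff_of_finite, Ideal.annihilator_quotient] at hP
    haveI := P.2
    refine isMaximal_of_le M t hfin P.asIdeal ((hp.1.2).trans (le_sup_left.trans hP)) ?_
    exact hP (Ideal.mem_sup_right (Ideal.subset_span rfl))

end Local

end Groth.Agent.Lib.CycSpH5
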