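import Mathlib
import Groth.Agent.Lib.CycSp1_helper5

/-!
# Specialization of cycles over a DVR, part 2 (helper5)

Ring level, relative situation `A → B`, `M` a finite `B`-module, `π ∈ A` with `π` `M`-regular,
`q` a prime of `B` over `(π)` minimal over `Ann M + πB`: `lam_eq_sum`, the length of the fibre
module at `q` is the sum over the minimal primes `𝔯 ⊆ q` of `Ann M` of the length of the fibre
module at `𝔯` times the length of `B_q/(𝔯B_q + πB_q)`.

APPEND-ONLY once landed.
-/

set_option autoImplicit false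

namespace Groth.Agent.Lib.CycSpH5

open IsLocalRing Submodule TensorProduct
open Groth.Agent.Lib.FibSkH5 Groth.Agent.Lib.FibPdH5 Groth.Agent.Lib.FibAssH5
open Groth.Agent.Lib.SpecLenH5

universe u

section Ring

variable {A : Type u} {B : Type u} [CommRing A] [CommRing B] [Algebra A B]
  (M : Type u) [AddCommGroup M] [Module B M]

/-- the multiplicity of the special fibre of `V(𝔯)` at `q` -/
noncomputable def cmult (π : A) (q 𝔯 : PrimeSpectrum B) : ℕ∞ :=
  Module.length (Localization.AtPrime q.asIdeal)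
    (Localization.AtPrime q.asIdeal ⧸
      (𝔯.asIdeal.map (algebraMap B (Localization.AtPrime q.asIdeal)) ⊔
        Ideal.span {algebraMap A (Localization.AtPrime q.asIdeal) π}))

variable [IsNoetherianRing B] [Module.Finite B M]

/-- the contraction of a minimal prime of `Ann M_q` is a minimal prime of `Ann M` -/
theorem comap_mem_minimalPrimes (q : Ideal B) [q.IsPrime]
    (P : Ideal (Localization.AtPrime q))
    (hP : P ∈ (Module.annihilator (Localization.AtPrime q)
      (LocalizedModule q.primeCompl M)).minimalPrimes) :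
    P.comap (algebraMap B (Localization.AtPrime q)) ∈ (Module.annihilator B M).minimalPrimes ∧
      P.comap (algebraMap B (Localization.AtPrime q)) ≤ q := by
  haveI hPp : P.IsPrime := hP.1.1
  have hle : P.comap (algebraMap B (Localization.AtPrime q)) ≤ q := by
    have h1 : P ≤ maximalIdeal (Localization.AtPrime q) := IsLocalRing.le_maximalIdeal hPp.ne_top
    have h2 := Ideal.comap_mono (f := algebraMap B (Localization.AtPrime q)) h1
    exact h2.trans (le_of_eq Localization.AtPrime.under_maximalIdeal)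
  refine ⟨⟨⟨Ideal.comap_isPrime _ _, (ann_le_iff M q P).mp hP.1.2⟩, ?_⟩, hle⟩
  intro Q hQ hQP
  haveI := hQ.1
  have hQq : Q ≤ q := hQP.trans hle
  have hdisj : Disjoint (q.primeCompl : Set B) (Q : Set B) :=
    Set.disjoint_left.mpr (fun x hx hx' => hx (hQq hx'))
  have hQ'p : (Q.map (algebraMap B (Localization.AtPrime q))).IsPrime :=
    IsLocalization.isPrime_of_isPrime_disjoint q.primeCompl (Localization.AtPrime q) Q hQ.1 hdisj
  have hcomap : (Q.map (algebraMap B (Localization.AtPrime q))).comap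
      (algebraMap B (Localization.AtPrime q)) = Q :=
    IsLocalization.under_map_of_isPrime_disjoint q.primeCompl (Localization.AtPrime q) hQ.1 hdisj
  have h1 : Module.annihilator (Localization.AtPrime q) (LocalizedModule q.primeCompl M) ≤
      Q.map (algebraMap B (Localization.AtPrime q)) := by
    rw [ann_le_iff, hcomap]
    exact hQ.2
  have h2 : Q.map (algebraMap B (Localization.AtPrime q)) ≤ P := by
    rw [Ideal.map_le_iff_le_comap]
    exact hQP
  have h3 := hP.2 ⟨hQ'p, h1⟩ h2
  rw [← hcomap]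
  exact Ideal.comap_mono h3

set_option maxHeartbeats 1000000 in
/-- **The local formula**: the length of the fibre module at `q` (over `(π)`, minimal over
`Ann M + πB`) is the sum over the minimal primes `𝔯 ⊆ q` of `Ann M` of the length of the fibre
module at `𝔯` times the multiplicity `cmult π q 𝔯`. -/
theorem lam_eq_sum (π : A) (hreg : IsSMulRegular M (algebraMap A B π))
    (hA : ∀ P : Ideal A, P.IsPrime → π ∉ P → P = ⊥) (q : PrimeSpectrum B)
    (hq : q.asIdeal.comap (algebraMap A B) = Ideal.span {π})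
    (hmin : q.asIdeal ∈
      (Module.annihilator B M ⊔ Ideal.span {algebraMap A B π}).minimalPrimes) :
    lam A M q = ∑ᶠ 𝔯 : {𝔯 : PrimeSpectrum B //
        𝔯.asIdeal ∈ (Module.annihilator B M).minimalPrimes ∧ 𝔯 ≤ q},
      lam A M 𝔯.1 * cmult π q 𝔯.1 := by
  classical
  set R := Localization.AtPrime q.asIdeal with hR
  set N := LocalizedModule q.asIdeal.primeCompl M with hN
  set t : R := algebraMap A R π with ht_def
  haveI : IsNoetherianRing R := IsLocalization.isNoetherianRing q.asIdeal.primeCompl R inferInstance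
  haveI : Module.Finite R N := Module.Finite.of_isLocalizedModule q.asIdeal.primeCompl
    (LocalizedModule.mkLinearMap q.asIdeal.primeCompl M)
  have htB : t = algebraMap B R (algebraMap A B π) := IsScalarTower.algebraMap_apply A B R π
  have hπq : algebraMap A B π ∈ q.asIdeal := by
    have : π ∈ q.asIdeal.comap (algebraMap A B) := by
      rw [hq]; exact Ideal.subset_span rfl
    exact this
  have ht : t ∈ maximalIdeal R := by
    rw [htB]
    exact (IsLocalization.AtPrime.to_map_mem_maximal_iff R q.asIdeal _).mpr hπq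
  have hreg' : IsSMulRegular N t := by
    rw [htB]
    exact IsSMulRegular.of_isLocalizedModule R q.asIdeal.primeCompl
      (LocalizedModule.mkLinearMap q.asIdeal.primeCompl M) hreg
  haveI : Nontrivial N := by
    have : q ∈ Module.support B M :=
      Module.mem_support_iff_of_finite.mpr (le_sup_left.trans hmin.1.2)
    exact Module.mem_support_iff.mp this
  have huniq : ∀ P : Ideal R, P.IsPrime → Module.annihilator R N ≤ P → t ∈ P →
      P = maximalIdeal R := by
    intro P hP h1 h2
    haveI := hP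
    apply eq_maximalIdeal_of_minimal q.asIdeal _ hmin P
    apply sup_le
    · exact (ann_le_iff M q.asIdeal P).mp h1
    · rw [Ideal.span_le, Set.singleton_subset_iff]
      show algebraMap B R (algebraMap A B π) ∈ P
      rw [← htB]
      exact h2
  have hfin := length_quot_ne_top N t huniq
  have S := formula_local t ht N hreg' hfin
  rw [lam_eq_length_quot M π q hq, S]
  -- reindex
  let φ : {𝔯 : PrimeSpectrum B //
      𝔯.asIdeal ∈ (Module.annihilator B M).minimalPrimes ∧ 𝔯 ≤ q} →
        (Module.annihilator R N).minimalPrimes := fun 𝔯 =>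
    ⟨𝔯.1.asIdeal.map (algebraMap B R),
      (map_mem_minimalPrimes M q.asIdeal 𝔯.1.asIdeal 𝔯.2.1 𝔯.2.2).1⟩
  have hφc : ∀ 𝔯, (φ 𝔯).1.comap (algebraMap B R) = 𝔯.1.asIdeal := fun 𝔯 =>
    (map_mem_minimalPrimes M q.asIdeal 𝔯.1.asIdeal 𝔯.2.1 𝔯.2.2).2
  have hφinj : Function.Injective φ := by
    intro a b hab
    apply Subtype.ext
    apply PrimeSpectrum.ext
    rw [← hφc a, ← hφc b, hab]
  have hφsurj : Function.Surjective φ := by
    intro P
    have h1 := comap_mem_minimalPrimes M q.asIdeal P.1 P.2
    haveI : P.1.IsPrime := P.2.1.1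
    refine ⟨⟨⟨P.1.comap (algebraMap B R), Ideal.comap_isPrime _ _⟩, h1.1, h1.2⟩, ?_⟩
    apply Subtype.ext
    exact IsLocalization.map_under q.asIdeal.primeCompl R P.1
  rw [← finsum_comp_equiv (Equiv.ofBijective φ ⟨hφinj, hφsurj⟩)]
  apply finsum_congr
  intro 𝔯
  haveI : (φ 𝔯).1.IsPrime := (φ 𝔯).2.1.1
  show Module.length (Localization.AtPrime (φ 𝔯).1) (LocalizedModule (φ 𝔯).1.primeCompl N) *
    Module.length R (R ⧸ ((φ 𝔯).1 ⊔ Ideal.span {t})) = _
  have hτ : algebraMap A B π ∉ 𝔯.1.asIdeal := hreg.notMem_of_mem_minimalPrimes 𝔯.2.1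
  have h0 : ((φ 𝔯).1.comap (algebraMap B R)).comap (algebraMap A B) = ⊥ := by
    rw [hφc]
    exact hA _ (Ideal.comap_isPrime _ _) hτ
  have h1 := length_loc_loc_eq (A := A) M q.asIdeal (φ 𝔯).1 h0
  have h2 : (⟨(φ 𝔯).1.comap (algebraMap B R), inferInstance⟩ : PrimeSpectrum B) = 𝔯.1 :=
    PrimeSpectrum.ext (hφc 𝔯)
  rw [h2] at h1
  rw [h1]
  rfl

/-- finiteness of the factors of `lam_eq_sum` -/
theorem factors_chart_ne_top (π : A) (q : PrimeSpectrum B)
    (hq : q.asIdeal.comap (algebraMap A B) = Ideal.span {π})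
    (hfin : lam A M q ≠ ⊤) (𝔯 : PrimeSpectrum B)
    (h𝔯 : 𝔯.asIdeal ∈ (Module.annihilator B M).minimalPrimes) (h𝔯q : 𝔯 ≤ q)
    (h0 : 𝔯.asIdeal.comap (algebraMap A B) = ⊥) :
    lam A M 𝔯 ≠ ⊤ ∧ cmult π q 𝔯 ≠ ⊤ := by
  set R := Localization.AtPrime q.asIdeal with hR
  set N := LocalizedModule q.asIdeal.primeCompl M with hN
  set t : R := algebraMap A R π with ht_def
  haveI : IsNoetherianRing R := IsLocalization.isNoetherianRing q.asIdeal.primeCompl R inferInstance
  haveI : Module.Finite R N := Module.Finite.of_isLocalizedModule q.asIdeal.primeCompl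
    (LocalizedModule.mkLinearMap q.asIdeal.primeCompl M)
  rw [lam_eq_length_quot M π q hq] at hfin
  have hm := map_mem_minimalPrimes M q.asIdeal 𝔯.asIdeal h𝔯 h𝔯q
  haveI : (𝔯.asIdeal.map (algebraMap B R)).IsPrime := hm.1.1.1
  have h1 := factors_ne_top t N hfin (𝔯.asIdeal.map (algebraMap B R)) hm.1
  refine ⟨?_, h1.2⟩
  have h0' : ((𝔯.asIdeal.map (algebraMap B R)).comap (algebraMap B R)).comap (algebraMap A B) =
      ⊥ := by
    rw [hm.2]; exact h0
  have h2 := length_loc_loc_eq (A := A) M q.asIdeal (𝔯.asIdeal.map (algebraMap B R)) h0'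
  have h3 : (⟨(𝔯.asIdeal.map (algebraMap B R)).comap (algebraMap B R), inferInstance⟩ :
      PrimeSpectrum B) = 𝔯 := PrimeSpectrum.ext hm.2
  rw [h3] at h2
  rw [← h2]
  exact h1.1

end Ring

end Groth.Agent.Lib.CycSpH5
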