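/- helper5: ring-level (S_k) and no-embedded-component loci of fibre modules. APPEND-ONLY once landed. -/
import Mathlib
import Groth.Agent.Lib.FibAssDim1_helper5
import Groth.Agent.Lib.EmbS1_helper5

set_option autoImplicit false
set_option backward.isDefEq.respectTransparency false

namespace Groth.Agent.Lib.FibAssH5

open TensorProduct Pointwise CategoryTheory
open Groth.Agent.Lib.FibSkH5 Groth.Agent.Lib.FibPdH5 Groth.Agent.Lib.FibRectH5

universe u

section LocFib

variable (A : Type u) {B : Type u} [CommRing A] [CommRing B] [Algebra A B]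
variable (q : Ideal B) [q.IsPrime] (P : Ideal (Fib A q)) [P.IsPrime]
  (M : Type u) [AddCommGroup M] [Module B M]

theorem supportDim_fibModQ_loc :
    Module.supportDim (Localization.AtPrime P) (LocalizedModule P.primeCompl (FibModQ A q M)) =
      Module.supportDim (Fib A (below A q P)) (FibModQ A (below A q P) M) := by
  obtain ⟨σ, ε, h⟩ := exists_semilinear_fibModQ_loc A q P M
  have hs := Groth.Agent.Lib.SemiSk_helper6.symm_semilinear (R := Localization.AtPrime P)
    (R' := Fib A (below A q P)) (M := LocalizedModule P.primeCompl (FibModQ A q M))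
    (M' := FibModQ A (below A q P) M) σ ε h
  exact le_antisymm
    (Groth.Agent.Lib.SemiSk_helper6.supportDim_le σ.symm ε.symm hs)
    (Groth.Agent.Lib.SemiSk_helper6.supportDim_le σ ε h)

theorem nontrivial_fibModQ_loc_iff :
    Nontrivial (LocalizedModule P.primeCompl (FibModQ A q M)) ↔
      Nontrivial (FibModQ A (below A q P) M) := by
  obtain ⟨σ, ε, h⟩ := exists_semilinear_fibModQ_loc A q P M
  exact ε.toEquiv.nontrivial_congr

/-- `below` is injective -/
theorem below_injective (P₁ P₂ : Ideal (Fib A q)) (h : below A q P₁ = below A q P₂) : P₁ = P₂ := by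
  have h1 : P₁.comap (Ideal.Quotient.mk (fibJ A q)) = P₂.comap (Ideal.Quotient.mk (fibJ A q)) := by
    have hc : ∀ P' : Ideal (Fib A q), below A q P' =
        (P'.comap (Ideal.Quotient.mk (fibJ A q))).comap (algebraMap B (Localization.AtPrime q)) := by
      intro P'
      rw [Ideal.comap_comap]
      rfl
    rw [hc, hc] at h
    rw [← IsLocalization.map_under q.primeCompl (Localization.AtPrime q)
        (P₁.comap (Ideal.Quotient.mk (fibJ A q))),
      ← IsLocalization.map_under q.primeCompl (Localization.AtPrime q)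
        (P₂.comap (Ideal.Quotient.mk (fibJ A q)))]
    exact congrArg (Ideal.map (algebraMap B (Localization.AtPrime q))) h
  exact Ideal.comap_injective_of_surjective _ Ideal.Quotient.mk_surjective h1

theorem below_maximalIdeal : below A q (IsLocalRing.maximalIdeal (Fib A q)) = q := by
  apply le_antisymm (below_le A q _)
  intro b hb
  exact algebraMap_mem_maximalIdeal_fib A q hb

end LocFib

section SkAt

variable {A B : Type u} [CommRing A] [CommRing B] [Algebra A B]

/-- `(S_k)` at the closed point of the fibre module at `𝔯` -/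
def SkAt (A : Type u) {B : Type u} [CommRing A] [CommRing B] [Algebra A B]
    (M : Type u) [AddCommGroup M] [Module B M] (k : ℕ) (𝔯 : PrimeSpectrum B) : Prop :=
  min (k : WithBot ℕ∞) (Module.supportDim (Fib A 𝔯.asIdeal) (FibModQ A 𝔯.asIdeal M)) ≤
    ((LocCoh.depth (Fib A 𝔯.asIdeal) (FibModQ A 𝔯.asIdeal M) : ℕ∞) : WithBot ℕ∞)

/-- the non-Cohen–Macaulay locus of the fibre modules -/
def nonCMLocus (A : Type u) {B : Type u} [CommRing A] [CommRing B] [Algebra A B]
    (M : Type u) [AddCommGroup M] [Module B M] : Set (PrimeSpectrum B) :=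
  {𝔯 | ¬ CodepthLE A M 0 𝔯}

variable (M : Type u) [AddCommGroup M] [Module B M]

/-- transport along an equality of primes -/
theorem skAt_congr (k : ℕ) (r : Ideal B) [hr : r.IsPrime] (𝔯 : PrimeSpectrum B)
    (h : r = 𝔯.asIdeal) :
    min (k : WithBot ℕ∞) (Module.supportDim (Fib A r) (FibModQ A r M)) ≤
      ((LocCoh.depth (Fib A r) (FibModQ A r M) : ℕ∞) : WithBot ℕ∞) ↔ SkAt A M k 𝔯 := by
  obtain ⟨r', hr'⟩ := 𝔯
  subst h
  rfl

theorem skAt_iff_of_mem (k : ℕ) (𝔯 : PrimeSpectrum B) (h : 𝔯 ∈ nonCMLocus A M) :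
    SkAt A M k 𝔯 ↔ (k : ℕ∞) ≤ LocCoh.depth (Fib A 𝔯.asIdeal) (FibModQ A 𝔯.asIdeal M) := by
  unfold SkAt
  have h' : ¬ Module.supportDim (Fib A 𝔯.asIdeal) (FibModQ A 𝔯.asIdeal M) ≤
      ((LocCoh.depth (Fib A 𝔯.asIdeal) (FibModQ A 𝔯.asIdeal M) : ℕ∞) : WithBot ℕ∞) := by
    intro hle
    apply h
    unfold CodepthLE
    rw [Nat.cast_zero, add_zero]
    exact hle
  constructor
  · intro hmin
    rcases min_le_iff.mp hmin with h1 | h1
    · exact_mod_cast h1
    · exact absurd h1 h'
  · intro hk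
    refine (min_le_left _ _).trans ?_
    exact_mod_cast hk

theorem skAt_of_not_mem (k : ℕ) (𝔯 : PrimeSpectrum B) (h : 𝔯 ∉ nonCMLocus A M) :
    SkAt A M k 𝔯 := by
  unfold SkAt
  have h' : Module.supportDim (Fib A 𝔯.asIdeal) (FibModQ A 𝔯.asIdeal M) ≤
      ((LocCoh.depth (Fib A 𝔯.asIdeal) (FibModQ A 𝔯.asIdeal M) : ℕ∞) : WithBot ℕ∞) := by
    have := not_not.mp h
    unfold CodepthLE at this
    rwa [Nat.cast_zero, add_zero] at this
  exact (min_le_right _ _).trans h'

/-- (L1) -/
theorem forall_skAt_iff_alongGE (k : ℕ) (q : PrimeSpectrum B) :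
    (∀ 𝔯 : PrimeSpectrum B, 𝔯 ≤ q →
      𝔯.asIdeal.comap (algebraMap A B) = q.asIdeal.comap (algebraMap A B) → SkAt A M k 𝔯) ↔
      AlongGE A M (nonCMLocus A M) k q := by
  constructor
  · intro h 𝔯 hle hc hZ
    exact (skAt_iff_of_mem M k 𝔯 hZ).mp (h 𝔯 hle hc)
  · intro h 𝔯 hle hc
    by_cases hZ : 𝔯 ∈ nonCMLocus A M
    · exact (skAt_iff_of_mem M k 𝔯 hZ).mpr (h 𝔯 hle hc hZ)
    · exact skAt_of_not_mem M k 𝔯 hZ

/-- (L2): pointwise description of `(S_k)` for the fibre module -/
theorem hasSk_fibModQ_iff (k : ℕ) (q : PrimeSpectrum B) :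
    LocCoh.HasSk k (Fib A q.asIdeal) (FibModQ A q.asIdeal M) ↔
      ∀ 𝔯 : PrimeSpectrum B, 𝔯 ≤ q →
        𝔯.asIdeal.comap (algebraMap A B) = q.asIdeal.comap (algebraMap A B) → SkAt A M k 𝔯 := by
  unfold LocCoh.HasSk
  constructor
  · intro h 𝔯 hle hc
    obtain ⟨P, hP, hPq⟩ := exists_prime_fib_of_le A q.asIdeal 𝔯.asIdeal hle hc
    have := h P
    rw [depth_fibModQ_loc, supportDim_fibModQ_loc] at this
    exact (skAt_congr M k (below A q.asIdeal P) 𝔯 hPq).mp this
  · intro h P _
    rw [depth_fibModQ_loc, supportDim_fibModQ_loc]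
    exact h ⟨below A q.asIdeal P, inferInstance⟩ (below_le A q.asIdeal P)
      (comap_below A q.asIdeal P)

end SkAt

section OpenSk

variable {A B : Type u} [CommRing A] [CommRing B] [Algebra A B] [Algebra.FinitePresentation A B]
  (M : Type u) [AddCommGroup M] [Module B M] [Module A M]
  [IsScalarTower A B M] [Module.FinitePresentation B M] [Module.Flat A M]

theorem isClosed_nonCMLocus : IsClosed (nonCMLocus A M : Set (PrimeSpectrum B)) := by
  rw [← isOpen_compl_iff]
  have : (nonCMLocus A M : Set (PrimeSpectrum B))ᶜ = {q : PrimeSpectrum B | CodepthLE A M 0 q} := by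
    ext q
    simp [nonCMLocus]
  rw [this]
  exact isOpen_codepthLE M 0

/-- **Ring-level EGA IV 12.1.1 (iv) for modules**: the fibrewise `(S_k)` locus is open. -/
theorem isOpen_hasSk_fibModQ (k : ℕ) :
    IsOpen {q : PrimeSpectrum B | LocCoh.HasSk k (Fib A q.asIdeal) (FibModQ A q.asIdeal M)} := by
  have h := isOpen_alongGE (A := A) M (nonCMLocus (B := B) A M) (isClosed_nonCMLocus M) k
  convert h using 1
  ext q
  rw [Set.mem_ofPred_eq, Set.mem_ofPred_eq, hasSk_fibModQ_iff, forall_skAt_iff_alongGE]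

end OpenSk

section NoEmb

variable {A B : Type u} [CommRing A] [CommRing B] [Algebra A B] [Algebra.FiniteType A B]
  (M : Type u) [AddCommGroup M] [Module B M] [Module.Finite B M]

/-- associated primes of the fibre module at `q` are the associated points of the fibre modules
at the generizations in the fibre -/
theorem mem_associatedPrimes_fibModQ_iff (q : Ideal B) [q.IsPrime] (P : Ideal (Fib A q))
    [P.IsPrime] :
    P ∈ associatedPrimes (Fib A q) (FibModQ A q M) ↔
      AssFib A M ⟨below A q P, inferInstance⟩ := by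
  haveI := isNoetherianRing_fib (A := A) q
  haveI := isNoetherianRing_fib (A := A) (below A q P)
  have h1 := Module.associatedPrimes.preimage_comap_associatedPrimes_eq_associatedPrimes_of_isLocalizedModule
    P.primeCompl (Localization.AtPrime P)
    (LocalizedModule.mkLinearMap P.primeCompl (FibModQ A q M))
  have h2 : IsLocalRing.maximalIdeal (Localization.AtPrime P) ∈
      associatedPrimes (Localization.AtPrime P) (LocalizedModule P.primeCompl (FibModQ A q M)) ↔
      P ∈ associatedPrimes (Fib A q) (FibModQ A q M) := by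
    have hcm : Ideal.comap (algebraMap (Fib A q) (Localization.AtPrime P))
        (IsLocalRing.maximalIdeal (Localization.AtPrime P)) = P :=
      Localization.AtPrime.under_maximalIdeal
    rw [← h1, Set.mem_preimage, hcm]
  rw [← h2]
  haveI : IsNoetherianRing (Localization.AtPrime P) :=
    IsLocalization.isNoetherianRing P.primeCompl _ inferInstance
  haveI : Module.Finite (Localization.AtPrime P)
      (LocalizedModule P.primeCompl (FibModQ A q M)) :=
    Module.Finite.of_isLocalizedModule P.primeCompl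
      (LocalizedModule.mkLinearMap P.primeCompl (FibModQ A q M))
  show IsAssociatedPrime (IsLocalRing.maximalIdeal (Localization.AtPrime P))
      (LocalizedModule P.primeCompl (FibModQ A q M)) ↔
    IsAssociatedPrime (IsLocalRing.maximalIdeal (Fib A (below A q P)))
      (FibModQ A (below A q P) M)
  have hA := isAssociatedPrime_maximalIdeal_iff (R := Localization.AtPrime P)
    (LocalizedModule P.primeCompl (FibModQ A q M))
  have hB := isAssociatedPrime_maximalIdeal_iff (R := Fib A (below A q P))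
    (FibModQ A (below A q P) M)
  rw [hB]
  refine hA.trans ?_
  rw [depth_fibModQ_loc, nontrivial_fibModQ_loc_iff]

/-- no embedded associated point of the fibre module among the generizations of `q` -/
def NoEmbR (A : Type u) {B : Type u} [CommRing A] [CommRing B] [Algebra A B]
    (M : Type u) [AddCommGroup M] [Module B M] (q : PrimeSpectrum B) : Prop :=
  ∀ 𝔯 : PrimeSpectrum B, 𝔯 ≤ q →
    𝔯.asIdeal.comap (algebraMap A B) = q.asIdeal.comap (algebraMap A B) → AssFib A M 𝔯 →
    ∀ 𝔯' : PrimeSpectrum B, 𝔯' ≤ 𝔯 →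
      𝔯'.asIdeal.comap (algebraMap A B) = 𝔯.asIdeal.comap (algebraMap A B) → AssFib A M 𝔯' →
      𝔯' = 𝔯

theorem assFib_congr (r : Ideal B) [hr : r.IsPrime] (𝔯 : PrimeSpectrum B) (h : r = 𝔯.asIdeal) :
    AssFib A M ⟨r, hr⟩ ↔ AssFib A M 𝔯 := by
  obtain ⟨r', hr'⟩ := 𝔯
  subst h
  rfl

/-- (L3) -/
theorem noEmbR_iff (q : PrimeSpectrum B) :
    NoEmbR A M q ↔ ∀ 𝔯 : PrimeSpectrum B, 𝔯 ≤ q →
      𝔯.asIdeal.comap (algebraMap A B) = q.asIdeal.comap (algebraMap A B) → SkAt A M 1 𝔯 := by
  have key : ∀ 𝔯 : PrimeSpectrum B, SkAt A M 1 𝔯 ↔ (AssFib A M 𝔯 →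
      ∀ 𝔯' : PrimeSpectrum B, 𝔯' ≤ 𝔯 →
        𝔯'.asIdeal.comap (algebraMap A B) = 𝔯.asIdeal.comap (algebraMap A B) → AssFib A M 𝔯' →
        𝔯' = 𝔯) := by
    intro 𝔯
    haveI := isNoetherianRing_fib (A := A) 𝔯.asIdeal
    unfold SkAt
    have h1 := Groth.Agent.EmbS1.s1_iff (Fib A 𝔯.asIdeal) (FibModQ A 𝔯.asIdeal M)
    have h1' : min ((1 : ℕ) : WithBot ℕ∞)
        (Module.supportDim (Fib A 𝔯.asIdeal) (FibModQ A 𝔯.asIdeal M)) ≤
        ((LocCoh.depth (Fib A 𝔯.asIdeal) (FibModQ A 𝔯.asIdeal M) : ℕ∞) : WithBot ℕ∞) ↔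
        min (1 : WithBot ℕ∞) (Module.supportDim (Fib A 𝔯.asIdeal) (FibModQ A 𝔯.asIdeal M)) ≤
        ((LocCoh.depth (Fib A 𝔯.asIdeal) (FibModQ A 𝔯.asIdeal M) : ℕ∞) : WithBot ℕ∞) := by
      rw [Nat.cast_one]
    rw [h1', h1]
    constructor
    · intro h hass 𝔯' hle hc hass'
      obtain ⟨P', hP', hPq⟩ := exists_prime_fib_of_le A 𝔯.asIdeal 𝔯'.asIdeal hle hc
      have h2 : P' ∈ associatedPrimes (Fib A 𝔯.asIdeal) (FibModQ A 𝔯.asIdeal M) :=
        (mem_associatedPrimes_fibModQ_iff M 𝔯.asIdeal P').mpr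
          ((assFib_congr M (below A 𝔯.asIdeal P') 𝔯' hPq).mpr hass')
      have h3 := h hass P' h2
      apply PrimeSpectrum.ext
      rw [← hPq, h3, below_maximalIdeal]
    · intro h hass P' hP'
      haveI := hP'.isPrime
      have h2 := (mem_associatedPrimes_fibModQ_iff M 𝔯.asIdeal P').mp hP'
      have h3 := h hass ⟨below A 𝔯.asIdeal P', inferInstance⟩ (below_le A 𝔯.asIdeal P')
        (comap_below A 𝔯.asIdeal P') h2
      apply below_injective A 𝔯.asIdeal
      rw [below_maximalIdeal]
      exact congrArg PrimeSpectrum.asIdeal h3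
  unfold NoEmbR
  constructor
  · intro h 𝔯 hle hc
    exact (key 𝔯).mpr (h 𝔯 hle hc)
  · intro h 𝔯 hle hc
    exact (key 𝔯).mp (h 𝔯 hle hc)

end NoEmb

section OpenNoEmb

variable {A B : Type u} [CommRing A] [CommRing B] [Algebra A B] [Algebra.FinitePresentation A B]
  (M : Type u) [AddCommGroup M] [Module B M] [Module A M]
  [IsScalarTower A B M] [Module.FinitePresentation B M] [Module.Flat A M]

/-- **Ring-level EGA IV 12.1.1 (i)**: the set of `q` with no embedded associated point of the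
fibre module among the generizations of `q` in its fibre is open. -/
theorem isOpen_noEmbR : IsOpen {q : PrimeSpectrum B | NoEmbR A M q} := by
  have h := isOpen_alongGE (A := A) M (nonCMLocus (B := B) A M) (isClosed_nonCMLocus M) 1
  convert h using 1
  ext q
  rw [Set.mem_ofPred_eq, Set.mem_ofPred_eq, noEmbR_iff, forall_skAt_iff_alongGE]

end OpenNoEmb

end Groth.Agent.Lib.FibAssH5
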