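/-
helper5: no embedded associated cycle of the fibre module through x, scheme level (EGA IV 12.1.1 (i)).
* `isOpen_fibNoEmb` (S4983 form).
APPEND-ONLY once landed.
-/
import Mathlib
import Groth.Agent.Lib.FibAssDim2_helper5
import Groth.Agent.Lib.FibAssDim3_helper5

set_option autoImplicit false

namespace Groth.Agent.Lib.FibAssH5

open AlgebraicGeometry CategoryTheory TopologicalSpace TensorProduct
open Groth.Agent.Lib.FibSkH5 Groth.Agent.Lib.FibPdH5 Groth.Agent.Lib.FibRectH5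

universe u

section NoEmbScheme

variable {X Y : Scheme.{u}} (f : X ⟶ Y)

/-- reformulation of the condition of S4983 through points of `X` -/
theorem noEmb_set_eq (F : X.Modules) :
    {x : X | ∀ z ∈ AssSch.Ass ((Scheme.Modules.pullback (f.fiberι (f.base x))).obj F),
      f.asFiber x ∈ closure {z} →
      ∀ z' ∈ AssSch.Ass ((Scheme.Modules.pullback (f.fiberι (f.base x))).obj F),
        z ∈ closure {z'} → z' = z} =
    {x : X | ∀ x' : X, x' ⤳ x → f.base x' = f.base x →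
      f.asFiber x' ∈ AssSch.Ass ((Scheme.Modules.pullback (f.fiberι (f.base x'))).obj F) →
      ∀ x'' : X, x'' ⤳ x' → f.base x'' = f.base x' →
        f.asFiber x'' ∈ AssSch.Ass ((Scheme.Modules.pullback (f.fiberι (f.base x''))).obj F) →
        x'' = x'} := by
  ext x
  rw [Set.mem_ofPred_eq, Set.mem_ofPred_eq]
  -- inner statement for a fixed point `x'`
  have inner : ∀ x' : X,
      (∀ z' ∈ AssSch.Ass ((Scheme.Modules.pullback (f.fiberι (f.base x'))).obj F),
        f.asFiber x' ∈ closure {z'} → z' = f.asFiber x') ↔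
      ∀ x'' : X, x'' ⤳ x' → f.base x'' = f.base x' →
        f.asFiber x'' ∈ AssSch.Ass ((Scheme.Modules.pullback (f.fiberι (f.base x''))).obj F) →
        x'' = x' := by
    intro x'
    have h := forall_generization_iff f
      (fun y z' => z' ∈ AssSch.Ass ((Scheme.Modules.pullback (f.fiberι y)).obj F) →
        f.fiberι y z' = x') x'
    have hinj : ∀ z' : f.fiber (f.base x'), z' = f.asFiber x' ↔ f.fiberι (f.base x') z' = x' := by
      intro z'
      constructor
      · rintro rfl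
        exact f.fiberι_asFiber x'
      · intro hz
        apply (f.fiberι (f.base x')).isEmbedding.injective
        rw [hz, f.fiberι_asFiber x']
    constructor
    · intro h1 x'' hsp hy hass
      have h2 := h.mp (fun z' hz' hass' => (hinj z').mp (h1 z' hass' hz')) x'' hsp hy hass
      rwa [f.fiberι_asFiber x''] at h2
    · intro h1 z' hass' hz'
      refine (hinj z').mpr (h.mpr ?_ z' hz' hass')
      intro x'' hsp hy hass
      rw [f.fiberι_asFiber x'']
      exact h1 x'' hsp hy hass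
  have outer := forall_generization_iff f
    (fun y z => z ∈ AssSch.Ass ((Scheme.Modules.pullback (f.fiberι y)).obj F) →
      ∀ z' ∈ AssSch.Ass ((Scheme.Modules.pullback (f.fiberι y)).obj F),
        z ∈ closure {z'} → z' = z) x
  constructor
  · intro h x' hsp hy hass
    have h1 := outer.mp (fun z hz hass => h z hass hz) x' hsp hy hass
    exact (inner x').mp h1
  · intro h z hass hz
    refine outer.mpr ?_ z hz hass
    intro x' hsp hy hass'
    exact (inner x').mpr (h x' hsp hy hass')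

set_option maxHeartbeats 1000000 in
/-- **EGA IV 12.1.1 (i)** (S4983 form): the set of `x` lying on no embedded associated cycle of
`F_{f x}` is open. -/
theorem isOpen_fibNoEmb [LocallyOfFinitePresentation f] (F : X.Modules)
    (hF : CohB1.IsFP F) (hflat : FlatMod.IsFlatOver f F) :
    IsOpen {x : X | ∀ z ∈ AssSch.Ass ((Scheme.Modules.pullback (f.fiberι (f.base x))).obj F),
      f.asFiber x ∈ closure {z} →
      ∀ z' ∈ AssSch.Ass ((Scheme.Modules.pullback (f.fiberι (f.base x))).obj F),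
        z ∈ closure {z'} → z' = z} := by
  classical
  haveI : SheafOfModules.IsFinitePresentation (R := X.ringCatSheaf) F := hF
  haveI : F.IsQuasicoherent := inferInstance
  rw [noEmb_set_eq, isOpen_iff_forall_mem_open]
  intro x hx
  obtain ⟨V, hV, hyV, -⟩ := Opens.isBasis_iff_nbhd.mp Y.isBasis_affineOpens
    (show f.base x ∈ (⊤ : Y.Opens) from trivial)
  obtain ⟨U, hU, hxU, e⟩ := Opens.isBasis_iff_nbhd.mp X.isBasis_affineOpens
    (show x ∈ f ⁻¹ᵁ V from hyV)
  letI algAB : Algebra Γ(Y, V) Γ(X, U) := (f.appLE V U e).hom.toAlgebra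
  haveI : Algebra.FinitePresentation Γ(Y, V) Γ(X, U) :=
    HasRingHomProperty.appLE (P := @LocallyOfFinitePresentation) f inferInstance ⟨V, hV⟩ ⟨U, hU⟩ e
  letI mAM : Module Γ(Y, V) Γ(F, U) := Module.compHom Γ(F, U) (f.appLE V U e).hom
  haveI : IsScalarTower Γ(Y, V) Γ(X, U) Γ(F, U) :=
    IsScalarTower.of_algebraMap_smul (fun _ _ => rfl)
  haveI : Module.FinitePresentation Γ(X, U) Γ(F, U) :=
    QCohFP2.finitePresentation_of_isFinitePresentation F hU
  haveI : Module.Flat Γ(Y, V) Γ(F, U) :=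
    FlatSecH8.flat_sections_of_flat_stalks f F hU e (fun x' hx'U =>
      (FlatSecH8.isFlatOverAt_iff_flat_stalk f F hV e hx'U).mp (hflat x'))
  have hopen := isOpen_noEmbR (A := Γ(Y, V)) (B := Γ(X, U)) Γ(F, U)
  have hmemU : ∀ 𝔭 : PrimeSpectrum Γ(X, U), (hU.fromSpec 𝔭 : X) ∈ U :=
    fun 𝔭 => Groth.Agent.SchFTH8.fromSpec_mem hU 𝔭
  have hprime : ∀ 𝔭 : PrimeSpectrum Γ(X, U),
      hU.primeIdealOf ⟨hU.fromSpec 𝔭, hmemU 𝔭⟩ = 𝔭 :=
    fun 𝔭 => Groth.Agent.SchFTH8.primeIdealOf_fromSpec hU 𝔭 (hmemU 𝔭)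
  have hass : ∀ 𝔯 : PrimeSpectrum Γ(X, U),
      f.asFiber (hU.fromSpec 𝔯) ∈ AssSch.Ass
        ((Scheme.Modules.pullback (f.fiberι (f.base (hU.fromSpec 𝔯)))).obj F) ↔
      AssFib Γ(Y, V) Γ(F, U) 𝔯 := by
    intro 𝔯
    have h1 := asFiber_mem_ass_iff f hV hU e F hF (hmemU 𝔯)
    rw [hprime] at h1
    exact h1
  have hiff : ∀ 𝔭 : PrimeSpectrum Γ(X, U), NoEmbR Γ(Y, V) Γ(F, U) 𝔭 ↔
      ∀ x' : X, x' ⤳ hU.fromSpec 𝔭 → f.base x' = f.base (hU.fromSpec 𝔭) →
        f.asFiber x' ∈ AssSch.Ass ((Scheme.Modules.pullback (f.fiberι (f.base x'))).obj F) →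
        ∀ x'' : X, x'' ⤳ x' → f.base x'' = f.base x' →
          f.asFiber x'' ∈ AssSch.Ass ((Scheme.Modules.pullback (f.fiberι (f.base x''))).obj F) →
          x'' = x' := by
    intro 𝔭
    constructor
    · intro h x' hsp hy hass' x'' hsp' hy' hass''
      have hx'U : x' ∈ U := hsp.mem_open U.isOpen (hmemU 𝔭)
      have hx''U : x'' ∈ U := hsp'.mem_open U.isOpen hx'U
      have hxx : (hU.fromSpec (hU.primeIdealOf ⟨x', hx'U⟩) : X) = x' :=
        hU.fromSpec_primeIdealOf ⟨x', hx'U⟩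
      have hxx' : (hU.fromSpec (hU.primeIdealOf ⟨x'', hx''U⟩) : X) = x'' :=
        hU.fromSpec_primeIdealOf ⟨x'', hx''U⟩
      have key := h (hU.primeIdealOf ⟨x', hx'U⟩)
        (by rw [← fromSpec_specializes_iff hU, hxx]; exact hsp)
        ((base_fromSpec_eq_iff f hV hU e (hU.primeIdealOf ⟨x', hx'U⟩) 𝔭).mp
          (by rw [hxx]; exact hy))
        ((hass _).mp (by rw [hxx]; exact hass'))
        (hU.primeIdealOf ⟨x'', hx''U⟩)
        (by rw [← fromSpec_specializes_iff hU, hxx, hxx']; exact hsp')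
        ((base_fromSpec_eq_iff f hV hU e (hU.primeIdealOf ⟨x'', hx''U⟩)
          (hU.primeIdealOf ⟨x', hx'U⟩)).mp (by rw [hxx, hxx']; exact hy'))
        ((hass _).mp (by rw [hxx']; exact hass''))
      rw [← hxx, ← hxx', key]
    · intro h 𝔯 hle hc hassr 𝔯' hle' hc' hassr'
      have h1 := h (hU.fromSpec 𝔯) ((fromSpec_specializes_iff hU 𝔯 𝔭).mpr hle)
        ((base_fromSpec_eq_iff f hV hU e 𝔯 𝔭).mpr hc) ((hass 𝔯).mpr hassr)
        (hU.fromSpec 𝔯') ((fromSpec_specializes_iff hU 𝔯' 𝔯).mpr hle')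
        ((base_fromSpec_eq_iff f hV hU e 𝔯' 𝔯).mpr hc') ((hass 𝔯').mpr hassr')
      exact hU.fromSpec.isOpenEmbedding.injective h1
  refine ⟨(fun 𝔭 : PrimeSpectrum Γ(X, U) => (hU.fromSpec 𝔭 : X)) ''
    {q : PrimeSpectrum Γ(X, U) | NoEmbR Γ(Y, V) Γ(F, U) q}, ?_,
    hU.fromSpec.isOpenEmbedding.isOpenMap _ hopen, ?_⟩
  · rintro _ ⟨𝔭, h𝔭, rfl⟩
    exact (hiff 𝔭).mp h𝔭
  · refine ⟨hU.primeIdealOf ⟨x, hxU⟩, ?_, hU.fromSpec_primeIdealOf ⟨x, hxU⟩⟩
    rw [Set.mem_ofPred_eq, hiff]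
    have hxx : (hU.fromSpec (hU.primeIdealOf ⟨x, hxU⟩) : X) = x :=
      hU.fromSpec_primeIdealOf ⟨x, hxU⟩
    rw [hxx]
    exact hx

end NoEmbScheme

end Groth.Agent.Lib.FibAssH5
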