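import Mathlib

/-!
# Torsion of a localized module over a local domain, and Nakayama for base change (helper2)

Algebra for S4831.
APPEND-ONLY once landed.
-/

set_option autoImplicit false
set_option maxHeartbeats 800000
universe u

open TensorProduct

namespace Groth.Agent.Lib.FibTors

/-- A finite module all of whose elements are killed by elements of a multiplicative family is
killed by one element of the family. -/
theorem exists_common_killer {C : Type*} [CommRing C] {N : Type*} [AddCommGroup N] [Module C N]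
    [Module.Finite C N] (P : C → Prop) (hP1 : P 1) (hPmul : ∀ a b, P a → P b → P (a * b))
    (h : ∀ n : N, ∃ u : C, P u ∧ u • n = 0) : ∃ u : C, P u ∧ ∀ n : N, u • n = 0 := by
  classical
  obtain ⟨s, hs⟩ := (Module.Finite.fg_top : (⊤ : Submodule C N).FG)
  choose u hu1 hu2 using h
  refine ⟨∏ n ∈ s, u n, Finset.prod_induction u P hPmul hP1 (fun n _ => hu1 n), ?_⟩
  intro n
  have hn : n ∈ Submodule.span C (s : Set N) := by rw [hs]; trivial
  induction hn using Submodule.span_induction with
  | mem m hm =>
    rw [← Finset.prod_erase_mul s u hm, mul_smul, hu2 m, smul_zero]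
  | zero => rw [smul_zero]
  | add x y _ _ hx hy => rw [smul_add, hx, hy, add_zero]
  | smul a x _ hx => rw [smul_comm, hx, smul_zero]

section Torsion

variable {C : Type*} [CommRing C] [IsNoetherianRing C] (q : Ideal C) [q.IsPrime] {N : Type*}
  [AddCommGroup N] [Module C N] [Module.Finite C N] (R' : Type*) [CommRing R'] [Algebra C R']
  [IsLocalization.AtPrime R' q] [IsDomain R'] {N' : Type*} [AddCommGroup N'] [Module C N']
  [Module R' N'] [IsScalarTower C R' N'] (g : N →ₗ[C] N') [IsLocalizedModule q.primeCompl g]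

include g in
/-- The localization `N_q` over the local domain `C_q` is a torsion module iff the complement of
the support of `N` is dense near `q`. -/
theorem torsion_eq_top_iff :
    Submodule.torsion R' N' = ⊤ ↔
      ∀ t : C, t ∉ q → ∃ z : Ideal C, z.IsPrime ∧ t ∉ z ∧ ∀ n : N, ∃ u : C, u ∉ z ∧ u • n = 0 := by
  have hunit : ∀ t : C, t ∉ q → algebraMap C R' t ≠ 0 := by
    intro t ht
    exact (IsLocalization.map_units R' (⟨t, ht⟩ : q.primeCompl)).ne_zero
  set z₀ : Ideal C := RingHom.ker (algebraMap C R') with hz₀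
  haveI hz₀prime : z₀.IsPrime := RingHom.ker_isPrime _
  have hz₀mem : ∀ a : C, a ∈ z₀ ↔ algebraMap C R' a = 0 := fun a => RingHom.mem_ker
  constructor
  · intro htop t ht
    have h1 : ∀ n : N, ∃ b : C, algebraMap C R' b ≠ 0 ∧ b • n = 0 := by
      intro n
      have hmem : g n ∈ Submodule.torsion R' N' := by rw [htop]; trivial
      obtain ⟨ρ, hρ⟩ := (Submodule.mem_torsion_iff (g n)).mp hmem
      obtain ⟨a, u, hau⟩ := IsLocalization.exists_mk'_eq q.primeCompl (ρ : R')
      have ha : algebraMap C R' a = (ρ : R') * algebraMap C R' (u : C) := by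
        rw [← hau, IsLocalization.mk'_spec]
      have hρ0 : (ρ : R') ≠ 0 := nonZeroDivisors.ne_zero ρ.2
      have ha0 : algebraMap C R' a ≠ 0 := by
        rw [ha]
        exact mul_ne_zero hρ0 (hunit u u.2)
      have h2 : g (a • n) = 0 := by
        rw [map_smul, ← algebraMap_smul R' a (g n), ha, mul_comm, mul_smul]
        have : (ρ : R') • g n = 0 := hρ
        rw [this, smul_zero]
      obtain ⟨t₁, ht₁⟩ := (IsLocalizedModule.eq_zero_iff q.primeCompl g).mp h2
      refine ⟨(t₁ : C) * a, ?_, ?_⟩
      · rw [map_mul]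
        exact mul_ne_zero (hunit t₁ t₁.2) ha0
      · rw [mul_smul]
        exact ht₁
    obtain ⟨b, hb, hbN⟩ := exists_common_killer (C := C) (N := N)
      (fun b => algebraMap C R' b ≠ 0) (by rw [map_one]; exact one_ne_zero)
      (fun a b ha hb => by rw [map_mul]; exact mul_ne_zero ha hb) h1
    refine ⟨z₀, hz₀prime, fun h => hunit t ht ((hz₀mem t).mp h), fun n => ⟨b, ?_, hbN n⟩⟩
    intro h
    exact hb ((hz₀mem b).mp h)
  · intro H
    rw [eq_top_iff]
    intro x _
    by_cases hA : ∃ a ∈ Module.annihilator C N, a ∉ z₀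
    · obtain ⟨a, haI, haz⟩ := hA
      have ha0 : algebraMap C R' a ≠ 0 := fun h => haz ((hz₀mem a).mpr h)
      rw [Submodule.mem_torsion_iff]
      refine ⟨⟨algebraMap C R' a, mem_nonZeroDivisors_of_ne_zero ha0⟩, ?_⟩
      obtain ⟨⟨n, s⟩, hns⟩ := IsLocalizedModule.surj q.primeCompl g x
      have hns' : (s : C) • x = g n := hns
      have h3 : (s : C) • (a • x) = 0 := by
        rw [smul_comm, hns', ← map_smul, Module.mem_annihilator.mp haI n, map_zero]
      have h4 : a • x = 0 := by
        have hinj := IsLocalizedModule.smul_injective g s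
        apply hinj
        show (s : C) • (a • x) = (s : C) • (0 : N')
        rw [smul_zero]
        exact h3
      show algebraMap C R' a • x = 0
      rw [algebraMap_smul]
      exact h4
    · exfalso
      push_neg at hA
      -- the annihilator dies in the localization
      have h1 : ∀ a : ↥(Module.annihilator C N), ∃ t : C, t ∉ q ∧ t • a = 0 := by
        intro a
        have ha0 : algebraMap C R' (a : C) = 0 := (hz₀mem _).mp (hA a a.2)
        obtain ⟨t, ht⟩ := (IsLocalization.map_eq_zero_iff q.primeCompl R' (a : C)).mp ha0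
        refine ⟨t, t.2, ?_⟩
        apply Subtype.ext
        rw [Submodule.coe_smul, smul_eq_mul]
        exact ht
      obtain ⟨t, ht, htI⟩ := exists_common_killer (C := C) (N := ↥(Module.annihilator C N))
        (fun t => t ∉ q) (fun h => (Ideal.IsPrime.ne_top ‹q.IsPrime›) ((Ideal.eq_top_iff_one q).mpr h))
        (fun a b ha hb h => (Ideal.IsPrime.mem_or_mem ‹q.IsPrime› h).elim ha hb) h1
      obtain ⟨z, hz, htz, hzN⟩ := H t ht
      obtain ⟨u, huz, huN⟩ := exists_common_killer (C := C) (N := N)
        (fun u => u ∉ z) (fun h => hz.ne_top ((Ideal.eq_top_iff_one z).mpr h))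
        (fun a b ha hb h => (hz.mem_or_mem h).elim ha hb) hzN
      have huI : u ∈ Module.annihilator C N := Module.mem_annihilator.mpr huN
      have h5 : t * u = 0 := by
        have := htI ⟨u, huI⟩
        have h6 := congrArg Subtype.val this
        simpa using h6
      have h7 : t * u ∈ z := by rw [h5]; exact z.zero_mem
      exact (hz.mem_or_mem h7).elim htz huz

end Torsion

section Nakayama

variable {R R' : Type*} [CommRing R] [CommRing R'] [Algebra R R'] [IsLocalRing R]
  {F G' : Type*} [AddCommGroup F] [Module R F] [AddCommGroup G'] [Module R G'] [Module R' G']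
  [IsScalarTower R R' G'] (c : F →ₗ[R] G')

theorem subsingleton_of_isBaseChange_of_subsingleton (hc : IsBaseChange R' c) [Subsingleton F] :
    Subsingleton G' := by
  refine subsingleton_of_forall_eq 0 (fun y => ?_)
  refine hc.inductionOn y _ rfl ?_ ?_ ?_
  · intro m
    rw [Subsingleton.elim m 0, map_zero]
  · intro s n hn
    rw [hn, smul_zero]
  · intro n₁ n₂ h1 h2
    rw [h1, h2, add_zero]

theorem subsingleton_of_isBaseChange (hsurj : Function.Surjective (algebraMap R R'))
    (hker : RingHom.ker (algebraMap R R') ≤ IsLocalRing.maximalIdeal R) [Module.Finite R F]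
    (hc : IsBaseChange R' c) [Subsingleton G'] : Subsingleton F := by
  set I : Ideal R := RingHom.ker (algebraMap R R') with hI
  let e₁ : (R ⧸ I) ≃ₗ[R] R' :=
    (Ideal.quotientKerAlgEquivOfSurjective (f := Algebra.ofId R R') hsurj).toLinearEquiv
  let e₂ : (R ⧸ I) ⊗[R] F ≃ₗ[R] R' ⊗[R] F := TensorProduct.congr e₁ (LinearEquiv.refl R F)
  let e₃ : (R ⧸ I) ⊗[R] F ≃ₗ[R] F ⧸ (I • (⊤ : Submodule R F)) :=
    TensorProduct.quotTensorEquivQuotSMul F I
  haveI : Subsingleton (R' ⊗[R] F) := (hc.equiv.restrictScalars R).toEquiv.subsingleton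
  haveI : Subsingleton ((R ⧸ I) ⊗[R] F) := e₂.toEquiv.subsingleton
  haveI : Subsingleton (F ⧸ (I • (⊤ : Submodule R F))) := e₃.symm.toEquiv.subsingleton
  have htop : I • (⊤ : Submodule R F) = ⊤ := Submodule.Quotient.subsingleton_iff.mp inferInstance
  have hbot : (⊤ : Submodule R F) = ⊥ :=
    Submodule.eq_bot_of_le_smul_of_le_jacobson_bot I ⊤ Module.Finite.fg_top
      (by rw [htop]) (by rw [IsLocalRing.jacobson_eq_maximalIdeal ⊥ bot_ne_top]; exact hker)
  exact (Submodule.subsingleton_iff R).mp (subsingleton_of_bot_eq_top hbot.symm)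

end Nakayama

end Groth.Agent.Lib.FibTors
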