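import Mathlib
import Groth.Agent.Lib.ResQuot2_helper8

/-! Generic surjectivity on spectra for algebraic finite type extensions of domains. -/

universe u

namespace GenImgH8

variable {A B : Type u} [CommRing A] [CommRing B] [IsDomain A] [IsDomain B] [Algebra A B]

/-- common denominator making a finite set integral. -/
theorem exists_common_multiple [Algebra.IsAlgebraic A B] (s : Finset B) :
    ∃ a : A, a ≠ 0 ∧ ∀ b ∈ s, IsIntegral A (a • b) := by
  classical
  induction s using Finset.induction_on with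
  | empty => exact ⟨1, one_ne_zero, by simp⟩
  | insert b s hb ih =>
    obtain ⟨a, ha, hs⟩ := ih
    obtain ⟨y, hy, hyb⟩ := (Algebra.IsAlgebraic.isAlgebraic (R := A) b).exists_integral_multiple
    refine ⟨a * y, mul_ne_zero ha hy, ?_⟩
    intro c hc
    rcases Finset.mem_insert.mp hc with rfl | hc
    · rw [mul_smul]
      exact hyb.smul a
    · rw [mul_comm, mul_smul]
      exact (hs c hc).smul y


/-- every element becomes integral after multiplication by a power of `a`. -/
theorem exists_pow_smul_mem_integralClosure (a : A) (s : Finset B)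
    (hs : Algebra.adjoin A (s : Set B) = ⊤) (ha : ∀ b ∈ s, IsIntegral A (a • b)) (y : B) :
    ∃ N : ℕ, IsIntegral A (a ^ N • y) := by
  have hy : y ∈ Algebra.adjoin A (s : Set B) := by rw [hs]; trivial
  induction hy using Algebra.adjoin_induction with
  | mem x hx => exact ⟨1, by rw [pow_one]; exact ha x hx⟩
  | algebraMap r => exact ⟨0, by rw [pow_zero, one_smul]; exact isIntegral_algebraMap⟩
  | add x y _ _ hx hy =>
    obtain ⟨N1, h1⟩ := hx
    obtain ⟨N2, h2⟩ := hy
    refine ⟨N1 + N2, ?_⟩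
    have : a ^ (N1 + N2) • (x + y) = a ^ N2 • (a ^ N1 • x) + a ^ N1 • (a ^ N2 • y) := by
      rw [smul_add, pow_add, mul_smul, mul_smul, smul_comm (a ^ N1) (a ^ N2) x]
    rw [this]
    exact (h1.smul _).add (h2.smul _)
  | mul x y _ _ hx hy =>
    obtain ⟨N1, h1⟩ := hx
    obtain ⟨N2, h2⟩ := hy
    refine ⟨N1 + N2, ?_⟩
    have : a ^ (N1 + N2) • (x * y) = (a ^ N1 • x) * (a ^ N2 • y) := by
      rw [smul_mul_smul_comm, pow_add]
    rw [this]
    exact h1.mul h2


/-- **Lemma R'.** For an injective algebraic finite type extension of domains, primes away from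
some nonzero element lift. -/
theorem exists_ne_zero_forall_prime_lifts [Algebra.FiniteType A B] [Algebra.IsAlgebraic A B]
    (hinj : Function.Injective (algebraMap A B)) :
    ∃ a : A, a ≠ 0 ∧ ∀ P : Ideal A, P.IsPrime → a ∉ P →
      ∃ Q : Ideal B, Q.IsPrime ∧ Q.comap (algebraMap A B) = P := by
  classical
  obtain ⟨s, hs⟩ := (Algebra.FiniteType.out : (⊤ : Subalgebra A B).FG)
  obtain ⟨a, ha0, ha⟩ := exists_common_multiple (A := A) s
  refine ⟨a, ha0, ?_⟩
  intro P hP haP
  rw [← Ideal.comap_map_eq_self_iff_of_isPrime]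
  apply le_antisymm _ Ideal.le_comap_map
  intro x hx
  have hx' : algebraMap A B x ∈ P.map (algebraMap A B) := hx
  have key : ∀ y ∈ P.map (algebraMap A B), ∃ N : ℕ, ∃ c : integralClosure A B,
      (c : B) = a ^ N • y ∧ c ∈ P.map (algebraMap A (integralClosure A B)) := by
    intro y hy
    induction hy using Submodule.span_induction with
    | mem y hy =>
      obtain ⟨p, hp, rfl⟩ := hy
      exact ⟨0, algebraMap A (integralClosure A B) p, by simp, Ideal.mem_map_of_mem _ hp⟩
    | zero => exact ⟨0, 0, by simp, zero_mem _⟩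
    | add y z _ _ hy hz =>
      obtain ⟨N1, c1, h1, h1P⟩ := hy
      obtain ⟨N2, c2, h2, h2P⟩ := hz
      refine ⟨N1 + N2, a ^ N2 • c1 + a ^ N1 • c2, ?_, ?_⟩
      · push_cast
        rw [h1, h2, smul_add, pow_add, mul_smul, mul_smul, smul_comm (a ^ N1) (a ^ N2) y]
      · refine Ideal.add_mem _ ?_ ?_
        · rw [Algebra.smul_def]; exact Ideal.mul_mem_left _ _ h1P
        · rw [Algebra.smul_def]; exact Ideal.mul_mem_left _ _ h2P
    | smul β y _ hy =>
      obtain ⟨N, c, hc, hcP⟩ := hy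
      obtain ⟨M, hM⟩ := exists_pow_smul_mem_integralClosure a s hs ha β
      refine ⟨M + N, ⟨a ^ M • β, hM⟩ * c, ?_, Ideal.mul_mem_left _ _ hcP⟩
      push_cast
      rw [hc, smul_eq_mul, smul_mul_smul_comm, pow_add]
  obtain ⟨N, c, hc, hcP⟩ := key _ hx'
  have hc' : c = algebraMap A (integralClosure A B) (a ^ N * x) := by
    apply Subtype.ext
    rw [hc]
    simp [Algebra.smul_def]
  have hker : RingHom.ker (algebraMap A (integralClosure A B)) ≤ P := by
    intro t ht
    have h1 : algebraMap A B t = 0 := by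
      have := congrArg (fun c : integralClosure A B => (c : B)) (RingHom.mem_ker.mp ht)
      simpa using this
    rw [hinj (h1.trans (map_zero _).symm)]
    exact zero_mem _
  obtain ⟨Q, hQ, hQP⟩ := Ideal.exists_ideal_over_prime_of_isIntegral_of_isDomain
    (S := integralClosure A B) P hker
  have h2 : a ^ N * x ∈ P := by
    rw [← hQP, Ideal.mem_comap, ← hc']
    exact (Ideal.map_le_iff_le_comap.mpr (le_of_eq hQP.symm)) hcP
  exact (hP.mem_or_mem h2).resolve_left (fun h => haP (hP.mem_of_pow_mem _ h))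

end GenImgH8

namespace GenImgH8

/-- **Lemma R.** General form with quotients. -/
theorem exists_notMem_forall_prime_lifts {A B : Type u} [CommRing A] [CommRing B] (φ : A →+* B)
    (hφ : φ.FiniteType) (p₀ : Ideal A) (q : Ideal B) [hp₀ : p₀.IsPrime] [hq : q.IsPrime]
    (hp : p₀ = q.comap φ)
    (halg : @Algebra.IsAlgebraic (A ⧸ p₀) (B ⧸ q) _ _
      (Ideal.quotientMap q φ (le_of_eq hp)).toAlgebra) :
    ∃ a : A, a ∉ p₀ ∧ ∀ P : Ideal A, P.IsPrime → p₀ ≤ P → a ∉ P →
      ∃ Q : Ideal B, Q.IsPrime ∧ Q.comap φ = P := by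
  letI alg : Algebra (A ⧸ p₀) (B ⧸ q) := (Ideal.quotientMap q φ (le_of_eq hp)).toAlgebra
  haveI : Algebra.FiniteType (A ⧸ p₀) (B ⧸ q) :=
    Groth.Agent.ResQuot2H8.finiteType_quotientMap φ hφ q p₀ hp
  have hinj : Function.Injective (algebraMap (A ⧸ p₀) (B ⧸ q)) :=
    Ideal.quotientMap_injective' (le_of_eq hp.symm)
  obtain ⟨abar, habar, hlift⟩ := exists_ne_zero_forall_prime_lifts (A := A ⧸ p₀) (B := B ⧸ q) hinj
  obtain ⟨a, rfl⟩ := Ideal.Quotient.mk_surjective abar
  refine ⟨a, fun h => habar (Ideal.Quotient.eq_zero_iff_mem.mpr h), ?_⟩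
  intro P hP hle haP
  have hker : RingHom.ker (Ideal.Quotient.mk p₀) ≤ P := by rw [Ideal.mk_ker]; exact hle
  have hcm : (P.map (Ideal.Quotient.mk p₀)).comap (Ideal.Quotient.mk p₀) = P := by
    rw [Ideal.comap_map_of_surjective _ Ideal.Quotient.mk_surjective, ← RingHom.ker_eq_comap_bot,
      sup_eq_left.mpr hker]
  have hPbar : (P.map (Ideal.Quotient.mk p₀)).IsPrime :=
    Ideal.map_isPrime_of_surjective Ideal.Quotient.mk_surjective hker
  have haPbar : Ideal.Quotient.mk p₀ a ∉ P.map (Ideal.Quotient.mk p₀) := by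
    intro h
    apply haP
    rw [← hcm]
    exact h
  obtain ⟨Qbar, hQbar, hQP⟩ := hlift _ hPbar haPbar
  refine ⟨Qbar.comap (Ideal.Quotient.mk q), Ideal.comap_isPrime _ _, ?_⟩
  have hcomm : (Ideal.Quotient.mk q).comp φ =
      (algebraMap (A ⧸ p₀) (B ⧸ q)).comp (Ideal.Quotient.mk p₀) := by
    ext t
    exact (Ideal.quotientMap_mk (f := φ) (H := le_of_eq hp)).symm
  rw [Ideal.comap_comap, hcomm, ← Ideal.comap_comap, hQP, hcm]

end GenImgH8
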