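import Mathlib
import Groth.Agent.S1332
import Groth.Agent.S1299
import Groth.Agent.Lib.GenFibDim_helper8
import Groth.Agent.Lib.EquidimSub_helper8
import Groth.Agent.Lib.SubLocDim_helper8
import Groth.Agent.Lib.CohDev6_helper8
import Groth.Agent.Lib.FibDimCons_helper8

/-!
# Nowhere dense closed subsets of the generic fibre spread out (Stacks 0573) (helper8)
APPEND-ONLY once landed.
-/

set_option autoImplicit false
universe u
open AlgebraicGeometry CategoryTheory TopologicalSpace Limits Topology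

namespace NDFibH8

section Top

variable {α : Type*} [TopologicalSpace α]

/-- A nonempty open set covered by finitely many closed sets meets the interior of one of them. -/
theorem exists_interior_of_finite_closed_cover {ι : Type*} (s : Finset ι) (F : ι → Set α)
    (hF : ∀ i ∈ s, IsClosed (F i)) :
    ∀ O : Set α, IsOpen O → O.Nonempty → O ⊆ ⋃ i ∈ s, F i →
      ∃ i ∈ s, (interior (F i) ∩ O).Nonempty := by
  classical
  induction s using Finset.induction_on with
  | empty =>
    intro O _ hne hsub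
    obtain ⟨x, hx⟩ := hne
    have := hsub hx
    simp at this
  | insert a s' ha ih =>
    intro O hO hne hsub
    by_cases hOa : O ⊆ F a
    · obtain ⟨x, hx⟩ := hne
      exact ⟨a, Finset.mem_insert_self a s', x, (interior_maximal hOa hO) hx, hx⟩
    · have hFa : IsClosed (F a) := hF a (Finset.mem_insert_self a s')
      have hne' : (O \ F a).Nonempty := Set.nonempty_of_not_subset hOa
      have hopen' : IsOpen (O \ F a) := hO.sdiff hFa
      have hsub' : O \ F a ⊆ ⋃ i ∈ s', F i := by
        intro x hx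
        have := hsub hx.1
        simp only [Finset.mem_insert, Set.mem_iUnion, exists_prop] at this ⊢
        obtain ⟨i, hi | hi, hxi⟩ := this
        · subst hi
          exact absurd hxi hx.2
        · exact ⟨i, hi, hxi⟩
      obtain ⟨i, hi, x, hx1, hx2⟩ := ih (fun i hi => hF i (Finset.mem_insert_of_mem hi))
        (O \ F a) hopen' hne' hsub'
      exact ⟨i, Finset.mem_insert_of_mem hi, x, hx1, hx2.1⟩

/-- A closed subset of a subspace `G ⊆ closure {ω}` missing `ω ∈ G` has smaller dimension. -/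
theorem topDim_add_one_le_of_closure (ω : α) (G A : Set α) (hAG : A ⊆ G) (hωG : ω ∈ G)
    (hG : G ⊆ closure {ω}) (hA : ∃ C : Set α, IsClosed C ∧ A = C ∩ G) (hωA : ω ∉ A) :
    topologicalKrullDim ↥A + 1 ≤ topologicalKrullDim ↥G := by
  obtain ⟨C, hC, rfl⟩ := hA
  unfold topologicalKrullDim
  rcases isEmpty_or_nonempty (IrreducibleCloseds ↥(C ∩ G)) with hemp | hne
  · rw [Order.krullDim_eq_bot]
    simp
  rw [← Order.krullDim_WithTop]
  have hemb : Topology.IsEmbedding (Set.inclusion hAG) := Topology.IsEmbedding.inclusion hAG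
  have hirr : IsIrreducible (Set.univ : Set ↥G) := by
    have h1 : IsIrreducible ({(⟨ω, hωG⟩ : ↥G)} : Set ↥G) := isIrreducible_singleton
    have h2 : closure ({(⟨ω, hωG⟩ : ↥G)} : Set ↥G) = Set.univ := by
      rw [Set.eq_univ_iff_forall]
      intro x
      rw [closure_subtype]
      simpa using hG x.2
    rw [← h2]
    exact h1.closure
  let top' : IrreducibleCloseds ↥G := ⟨Set.univ, hirr, isClosed_univ⟩
  let ψ : WithTop (IrreducibleCloseds ↥(C ∩ G)) → IrreducibleCloseds ↥G := fun c =>
    match c with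
    | ⊤ => top'
    | (c : IrreducibleCloseds ↥(C ∩ G)) => IrreducibleCloseds.map (Set.inclusion hAG) hemb.continuous c
  have hlt : ∀ c : IrreducibleCloseds ↥(C ∩ G),
      IrreducibleCloseds.map (Set.inclusion hAG) hemb.continuous c < top' := by
    intro c
    refine lt_of_le_of_ne (fun x _ => Set.mem_univ x) ?_
    intro heq
    have h1 : (⟨ω, hωG⟩ : ↥G) ∈ (IrreducibleCloseds.map (Set.inclusion hAG) hemb.continuous c :
        Set ↥G) := by
      rw [heq]; exact Set.mem_univ _
    rw [IrreducibleCloseds.coe_map] at h1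
    have hcl : IsClosed (Subtype.val ⁻¹' C : Set ↥G) := hC.preimage continuous_subtype_val
    have h2 : closure (Set.inclusion hAG '' (c : Set ↥(C ∩ G))) ⊆ (Subtype.val ⁻¹' C : Set ↥G) := by
      apply closure_minimal _ hcl
      rintro _ ⟨a, _, rfl⟩
      exact a.2.1
    exact hωA ⟨h2 h1, hωG⟩
  refine Order.krullDim_le_of_strictMono ψ ?_
  intro a b hab
  induction a with
  | top => exact absurd hab (not_top_lt)
  | coe a =>
    induction b with
    | top => exact hlt a
    | coe b =>
      exact IrreducibleCloseds.map_strictMono_of_isInducing hemb.isInducing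
        (WithTop.coe_lt_coe.mp hab)

end Top

section Sch

variable {X Y : Scheme.{u}} (f : X ⟶ Y)

/-- If a closed subset of the source misses the generic fibre, the generic point is not in the
closure of its image. -/
theorem generic_notMem_closure_image [IrreducibleSpace Y] [QuasiCompact f]
    (C : Set X) (hC : IsClosed C) (h : ∀ x ∈ C, f x ≠ genericPoint Y) :
    genericPoint Y ∉ closure (f '' C) := by
  set η := genericPoint Y with hη
  intro hcon
  obtain ⟨C'', i, hi, hrange⟩ := ProdGenH8.exists_closedImmersion_range X C hC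
  have hrg : Set.range ⇑(i ≫ f) = ⇑f '' C := by
    rw [Scheme.Hom.comp_base, TopCat.coe_comp, Set.range_comp, hrange]
  haveI : IsDominant (i ≫ f) := by
    constructor
    rw [DenseRange, dense_iff_closure_eq, hrg]
    apply Set.eq_univ_of_univ_subset
    intro s _
    have hs : η ⤳ s := genericPoint_specializes s
    exact hs.mem_closed isClosed_closure hcon
  have hcompη : closure ({η} : Set Y) ∈ irreducibleComponents ↥Y := by
    rw [SubCompH8.closure_mem_irreducibleComponents_iff]
    intro z hz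
    exact ((genericPoint_specializes z).antisymm hz).eq.symm
  obtain ⟨x, -, hx⟩ := (Groth.Agent.S2255.result (i ≫ f)).mp inferInstance η hcompη
  have hixC : i x ∈ C := hrange ▸ Set.mem_range_self x
  exact h (i x) hixC hx

/-- Generic equidimensionality: for a dominant morphism of finite type from an irreducible scheme,
over a neighbourhood of the generic point all fibres have local dimension `d` everywhere. -/
theorem exists_open_fibreDimAt_eq {W : Scheme.{u}} [IrreducibleSpace W] [IrreducibleSpace Y]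
    (g : W ⟶ Y) [LocallyOfFiniteType g] [QuasiCompact g] [IsDominant g] (d : ℕ)
    (hd : topologicalKrullDim ↥(g.fiber (genericPoint Y)) = d) :
    ∃ V : Set Y, IsOpen V ∧ genericPoint Y ∈ V ∧
      ∀ x : W, g x ∈ V → FlatMor.fibreDimAt g x = d := by
  set C : Set W := {z : W | FlatMor.fibreDimAt g z ≤ (d : WithBot ℕ∞)}ᶜ with hC
  have hCc : IsClosed C := (ChevH8.isOpen_fibreDimAt_le g d).isClosed_compl
  have hgen : ∀ x ∈ C, g x ≠ genericPoint Y := by
    intro x hx hgx
    apply hx
    have h3 : topologicalKrullDim ↥(g.fiber (g x)) = d := by rw [hgx]; exact hd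
    change FlatMor.fibreDimAt g x ≤ (d : WithBot ℕ∞)
    rw [← h3]
    exact TopDimLocH8.localDim_le_topDim (g.fiber (g x)) (g.asFiber x)
  refine ⟨(closure (g '' C))ᶜ, isClosed_closure.isOpen_compl,
    generic_notMem_closure_image g C hCc hgen, fun x hx => le_antisymm ?_ ?_⟩
  · by_contra hcon
    exact hx (subset_closure ⟨x, hcon, rfl⟩)
  · rw [← hd]
    exact GenFibDimH8.generic_le g x

/-- The dimension of a fibre of a composite with an embedding, as a subset of the target of the
embedding. -/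
theorem topDim_fiber_comp_eq {A : Scheme.{u}} (e : A ⟶ X) (he : Topology.IsEmbedding e)
    (y : Y) :
    topologicalKrullDim ↥((e ≫ f).fiber y) =
      topologicalKrullDim ↥(Set.range e ∩ f ⁻¹' {y}) := by
  have h1 := IsHomeomorph.topologicalKrullDim_eq _ ((e ≫ f).fiberHomeo y).isHomeomorph
  rw [h1]
  let ψ := he.homeomorphImage ((e ≫ f) ⁻¹' {y})
  have h2 := IsHomeomorph.topologicalKrullDim_eq _ ψ.isHomeomorph
  rw [h2]
  have hset : (e '' ((e ≫ f) ⁻¹' {y})) = Set.range e ∩ f ⁻¹' {y} := by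
    ext x
    constructor
    · rintro ⟨a, ha, rfl⟩
      exact ⟨⟨a, rfl⟩, ha⟩
    · rintro ⟨⟨a, rfl⟩, ha⟩
      exact ⟨a, ha, rfl⟩
  rw [hset]

/-- Nowhere density of the trace of a closed set on a fibre, in terms of open subsets of the
source. -/
theorem isNowhereDense_fiber_iff (Z : Set X) (hZ : IsClosed Z) (y : Y) :
    IsNowhereDense ((f.fiberι y) ⁻¹' Z) ↔
      ∀ V : Set X, IsOpen V → V ∩ f ⁻¹' {y} ⊆ Z → V ∩ f ⁻¹' {y} = ∅ := by
  have hcl : IsClosed ((f.fiberι y) ⁻¹' Z) := hZ.preimage (f.fiberι y).continuous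
  rw [hcl.isNowhereDense_iff]
  have hrange : Set.range (f.fiberι y) = f ⁻¹' {y} := f.range_fiberι y
  constructor
  · intro h V hV hsub
    have h1 : (f.fiberι y) ⁻¹' V ⊆ interior ((f.fiberι y) ⁻¹' Z) := by
      apply interior_maximal _ (hV.preimage (f.fiberι y).continuous)
      intro z hz
      exact hsub ⟨hz, hrange ▸ Set.mem_range_self z⟩
    rw [h] at h1
    rw [Set.eq_empty_iff_forall_notMem]
    rintro x ⟨hxV, hxy⟩
    rw [← hrange] at hxy
    obtain ⟨z, rfl⟩ := hxy
    exact h1 hxV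
  · intro h
    rw [Set.eq_empty_iff_forall_notMem]
    intro z hz
    have hopen : IsOpen (interior ((f.fiberι y) ⁻¹' Z)) := isOpen_interior
    obtain ⟨V, hV, hVeq⟩ := (f.fiberι y).isEmbedding.isInducing.isOpen_iff.mp hopen
    have h1 : V ∩ f ⁻¹' {y} ⊆ Z := by
      rintro x ⟨hxV, hxy⟩
      rw [← hrange] at hxy
      obtain ⟨z', rfl⟩ := hxy
      have : z' ∈ interior ((f.fiberι y) ⁻¹' Z) := by rw [← hVeq]; exact hxV
      have h' : z' ∈ (f.fiberι y) ⁻¹' Z := interior_subset this
      exact h'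
    have h2 := h V hV h1
    have h3 : (f.fiberι y) z ∈ V ∩ f ⁻¹' {y} := by
      refine ⟨?_, hrange ▸ Set.mem_range_self z⟩
      have : z ∈ (f.fiberι y) ⁻¹' V := by rw [hVeq]; exact hz
      exact this
    rw [h2] at h3
    exact h3

theorem exists_nat_of_le_of_ne_bot (c : WithBot ℕ∞) (n : ℕ) (h1 : c ≤ n) (h2 : c ≠ ⊥) :
    ∃ d : ℕ, c = d := by
  induction c with
  | bot => exact absurd rfl h2
  | coe c =>
    have h3 : c ≤ (n : ℕ∞) := by exact_mod_cast h1
    have h4 : c ≠ ⊤ := ne_top_of_le_ne_top (ENat.natCast_ne_top n) h3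
    obtain ⟨d, rfl⟩ := ENat.ne_top_iff_exists.mp h4
    exact ⟨d, rfl⟩

/-- **Per-component step.** -/
theorem component_step [IrreducibleSpace Y] [LocallyOfFiniteType f] [QuasiCompact f] (ξ : X)
    (hξ : f ξ = genericPoint Y) (Z : Set X) (hZ : IsClosed Z) (hξZ : ξ ∉ Z) :
    ∃ V : Set Y, IsOpen V ∧ genericPoint Y ∈ V ∧ ∀ y ∈ V, ∀ O : Set X, IsOpen O →
      O ∩ (closure {ξ} ∩ f ⁻¹' {y}) ⊆ Z → O ∩ (closure {ξ} ∩ f ⁻¹' {y}) = ∅ := by
  set η := genericPoint Y with hη
  obtain ⟨W', j, hj, hint, hrange, hgen⟩ :=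
    CohDevH8.exists_integral_subscheme (closure {ξ}) isClosed_closure ξ rfl
  haveI := hj; haveI := hint
  set g := j ≫ f with hg
  have hgω : g (genericPoint W') = η := by
    rw [hg, Scheme.Hom.comp_apply, hgen, hξ]
  haveI : IsDominant g := by
    constructor
    rw [DenseRange, dense_iff_closure_eq]
    apply Set.eq_univ_of_univ_subset
    intro s _
    have hs : η ⤳ s := genericPoint_specializes s
    exact hs.mem_closed isClosed_closure (subset_closure ⟨genericPoint W', hgω⟩)
  -- dimension of the generic fibre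
  obtain ⟨n, hn⟩ := FibDimConsH8.dim_fiber_lt_top g η
  have hne : topologicalKrullDim ↥(g.fiber η) ≠ ⊥ := by
    have := TopDimLocH8.topDim_ne_bot (g.fiber (g (genericPoint W'))) (g.asFiber (genericPoint W'))
    rwa [hgω] at this
  obtain ⟨d, hd⟩ := exists_nat_of_le_of_ne_bot _ n hn hne
  obtain ⟨V₁, hV₁, hηV₁, hV₁d⟩ := exists_open_fibreDimAt_eq g d hd
  -- the trace of `Z`
  set T : Set W' := j ⁻¹' Z with hT
  have hTc : IsClosed T := hZ.preimage j.continuous
  have hωT : genericPoint W' ∉ T := by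
    intro h
    apply hξZ
    rw [← hgen]
    exact h
  obtain ⟨T', k, hk, hkrange⟩ := ProdGenH8.exists_closedImmersion_range W' T hTc
  haveI := hk
  set h := k ≫ j ≫ f with hh
  have hassoc : (k ≫ j) ≫ f = h := Category.assoc _ _ _
  have hkj : Set.range (k ≫ j) = Z ∩ closure {ξ} := by
    rw [Scheme.Hom.comp_base, TopCat.coe_comp, Set.range_comp, hkrange, hT,
      Set.image_preimage_eq_inter_range, hrange]
  -- the fibres of `h` near the generic point have dimension `< d`
  obtain ⟨V₂, hV₂, hηV₂, hV₂d⟩ : ∃ V₂ : Set Y, IsOpen V₂ ∧ η ∈ V₂ ∧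
      ∀ y ∈ V₂, topologicalKrullDim ↥(h.fiber y) < (d : WithBot ℕ∞) := by
    by_cases hemp : ∀ t : T', h t ≠ η
    · refine ⟨(closure (h '' Set.univ))ᶜ, isClosed_closure.isOpen_compl,
        generic_notMem_closure_image h Set.univ isClosed_univ (fun t _ => hemp t), ?_⟩
      intro y hy
      haveI : IsEmpty ↥(h.fiber y) := by
        constructor
        intro z
        apply hy
        apply subset_closure
        exact ⟨(h.fiberι y) z, trivial, Groth.Agent.FibRes2H8.fiberι_mem h y z⟩
      rw [TopDimLocH8.topDim_eq_bot_of_isEmpty]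
      exact WithBot.bot_lt_coe _
    · push Not at hemp
      obtain ⟨t₀, ht₀⟩ := hemp
      obtain ⟨n', hn'⟩ := FibDimConsH8.dim_fiber_lt_top h η
      have hne' : topologicalKrullDim ↥(h.fiber η) ≠ ⊥ := by
        have := TopDimLocH8.topDim_ne_bot (h.fiber (h t₀)) (h.asFiber t₀)
        rwa [ht₀] at this
      obtain ⟨m, hm⟩ := exists_nat_of_le_of_ne_bot _ n' hn' hne'
      obtain ⟨V₂, hV₂ne, hV₂⟩ := Groth.Agent.S1332.result h m hm
      refine ⟨V₂, V₂.2, ((genericPoint_spec Y).mem_open_set_iff V₂.2).2 (by simpa using hV₂ne), ?_⟩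
      intro y hy
      rw [hV₂ y hy]
      -- `m < d`
      have e1 : topologicalKrullDim ↥(h.fiber η) =
          topologicalKrullDim ↥(Set.range k ∩ g ⁻¹' {η}) :=
        topDim_fiber_comp_eq g k k.isEmbedding η
      have e2 : topologicalKrullDim ↥(g.fiber η) = topologicalKrullDim ↥(g ⁻¹' {η}) :=
        IsHomeomorph.topologicalKrullDim_eq _ (g.fiberHomeo η).isHomeomorph
      have e3 := topDim_add_one_le_of_closure (genericPoint W') (g ⁻¹' {η})
        (Set.range k ∩ g ⁻¹' {η}) Set.inter_subset_right hgω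
        (by
          intro x _
          exact (genericPoint_specializes x).mem_closed isClosed_closure (subset_closure rfl))
        ⟨T, hTc, by rw [hkrange]⟩ (by
          rintro ⟨h1, -⟩
          rw [hkrange] at h1
          exact hωT h1)
      rw [← e1, ← e2, hm, hd] at e3
      have e4 : ((m + 1 : ℕ) : WithBot ℕ∞) ≤ (d : WithBot ℕ∞) := by exact_mod_cast e3
      have e5 : m + 1 ≤ d := by exact_mod_cast e4
      exact_mod_cast (Nat.lt_of_succ_le e5)
  refine ⟨V₁ ∩ V₂, hV₁.inter hV₂, ⟨hηV₁, hηV₂⟩, ?_⟩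
  rintro y ⟨hy1, hy2⟩ O hO hsub
  rw [Set.eq_empty_iff_forall_notMem]
  rintro x ⟨hxO, hxξ, hxy⟩
  have hxr : x ∈ Set.range j := by rw [hrange]; exact hxξ
  obtain ⟨x', rfl⟩ := hxr
  have hgx' : g x' = y := hxy
  have h1 : FlatMor.fibreDimAt g x' = d := hV₁d x' (by rw [hgx']; exact hy1)
  have h2 := EquidimSubH8.fibreDimAt_comp_eq_localDim f j j.isEmbedding x'
  rw [h2, SubLocDimH8.localDim_subtype_eq] at h1
  have h3 : (d : WithBot ℕ∞) ≤ topologicalKrullDim
      ↥(O ∩ (Set.range j ∩ f ⁻¹' {f (j x')})) := by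
    rw [← h1]
    exact iInf_le _ (⟨⟨O, hO⟩, hxO⟩ : {V : Opens X // j x' ∈ V})
  have hfy : f (j x') = y := hxy
  rw [hfy] at h3
  have h4 : O ∩ (Set.range j ∩ f ⁻¹' {y}) ⊆ Set.range (k ≫ j) ∩ f ⁻¹' {y} := by
    intro a ha
    rw [hkj]
    have ha' : a ∈ O ∩ (closure {ξ} ∩ f ⁻¹' {y}) := by
      rw [← hrange]; exact ha
    exact ⟨⟨hsub ha', ha'.2.1⟩, ha.2.2⟩
  have h5 := SubLocDimH8.topDim_mono h4
  have h6 := topDim_fiber_comp_eq f (k ≫ j) (j.isEmbedding.comp k.isEmbedding) y
  rw [hassoc] at h6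
  have h7 := hV₂d y hy2
  rw [h6] at h7
  exact absurd (h3.trans h5) (not_le_of_gt h7)

/-- **Stacks 0573**: a closed subset whose trace on the generic fibre is nowhere dense has nowhere
dense trace on all fibres over a nonempty open. -/
theorem main1298 [IrreducibleSpace Y] [LocallyOfFiniteType f] [QuasiCompact f]
    (Z : Set X) (hZ : IsClosed Z)
    (h : IsNowhereDense ((f.fiberι (genericPoint Y)) ⁻¹' Z)) :
    ∃ V : Y.Opens, (V : Set Y).Nonempty ∧ ∀ y ∈ V, IsNowhereDense ((f.fiberι y) ⁻¹' Z) := by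
  classical
  set η := genericPoint Y with hη
  haveI : LocallyOfFiniteType (f.fiberToSpecResidueField η) :=
    MorphismProperty.pullback_snd _ _ inferInstance
  haveI : IsLocallyNoetherian (f.fiber η) :=
    LocallyOfFiniteType.isLocallyNoetherian (f.fiberToSpecResidueField η)
  haveI : IsNoetherian (f.fiber η) := {}
  have hfin : (irreducibleComponents ↥(f.fiber η)).Finite :=
    TopologicalSpace.NoetherianSpace.finite_irreducibleComponents
  obtain ⟨n, e, he⟩ := hfin.fin_embedding
  have hmem : ∀ i, (e i : Set ↥(f.fiber η)) ∈ irreducibleComponents ↥(f.fiber η) := by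
    intro i
    rw [← he]
    exact Set.mem_range_self i
  have hcl : ∀ i, IsClosed (e i) := fun i => isClosed_of_mem_irreducibleComponents _ (hmem i)
  have hcov : ⋃ i, e i = Set.univ := by
    rw [← sUnion_irreducibleComponents (X := ↥(f.fiber η)), ← he, Set.sUnion_range]
  obtain ⟨V₀, hV₀ne, hV₀⟩ := Groth.Agent.S1299.result f (fun i => e i) hcl hcov
  -- generic points of the components
  have hgp : ∀ i, ∃ w : ↥(f.fiber η), IsGenericPoint w (e i) := fun i =>
    QuasiSober.sober (hmem i).1 (hcl i)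
  choose w hw using hgp
  set ξ : Fin n → X := fun i => (f.fiberι η) (w i) with hξdef
  have hfξ : ∀ i, f (ξ i) = η := fun i => Groth.Agent.FibRes2H8.fiberι_mem f η (w i)
  have hclosure : ∀ i, closure ((f.fiberι η) '' (e i)) = closure {ξ i} := by
    intro i
    rw [← (hw i).def, closure_image_closure (f.fiberι η).continuous, Set.image_singleton]
  set Zη : Set ↥(f.fiber η) := (f.fiberι η) ⁻¹' Z with hZη
  have hZηc : IsClosed Zη := hZ.preimage (f.fiberι η).continuous
  have hint : interior Zη = ∅ := (hZηc.isNowhereDense_iff).mp h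
  have hξZ : ∀ i, ξ i ∉ Z := by
    intro i hi
    have hwi : w i ∈ Zη := hi
    have hsub : (e i : Set ↥(f.fiber η)) ⊆ Zη := by
      rw [← (hw i).def]
      exact closure_minimal (Set.singleton_subset_iff.mpr hwi) hZηc
    set Ui : Set ↥(f.fiber η) := (⋃ j ∈ (Finset.univ.erase i : Finset (Fin n)), e j)ᶜ with hUi
    have hUio : IsOpen Ui := by
      rw [hUi, isOpen_compl_iff]
      exact isClosed_biUnion_finset (fun j _ => hcl j)
    have hwUi : w i ∈ Ui := by
      rw [hUi, Set.mem_compl_iff, Set.mem_iUnion₂]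
      rintro ⟨j, hj, hwj⟩
      have hji : j ≠ i := (Finset.mem_erase.mp hj).1
      have h1 : (e i : Set ↥(f.fiber η)) ⊆ e j := by
        rw [← (hw i).def]
        exact closure_minimal (Set.singleton_subset_iff.mpr hwj) (hcl j)
      have h2 : (e j : Set ↥(f.fiber η)) ⊆ e i := (hmem i).2 (hmem j).1 h1
      exact hji (e.injective (Set.Subset.antisymm h2 h1))
    have hUisub : Ui ⊆ e i := by
      intro z hz
      have hz' : z ∈ ⋃ j, e j := by rw [hcov]; trivial
      obtain ⟨j, hj⟩ := Set.mem_iUnion.mp hz'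
      by_cases hji : j = i
      · rw [← hji]; exact hj
      · exfalso
        apply hz
        exact Set.mem_iUnion₂.mpr ⟨j, Finset.mem_erase.mpr ⟨hji, Finset.mem_univ j⟩, hj⟩
    have : w i ∈ interior Zη := (interior_maximal (hUisub.trans hsub) hUio) hwUi
    rw [hint] at this
    exact this
  have hstep := fun i => component_step f (ξ i) (hfξ i) Z hZ (hξZ i)
  choose Vc hVco hηVc hVc using hstep
  have hηV₀ : η ∈ V₀ := ((genericPoint_spec Y).mem_open_set_iff V₀.2).2 (by simpa using hV₀ne)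
  refine ⟨⟨(V₀ : Set Y) ∩ ⋂ i, Vc i, V₀.2.inter (isOpen_iInter_of_finite hVco)⟩,
    ⟨η, hηV₀, Set.mem_iInter.mpr hηVc⟩, ?_⟩
  rintro y ⟨hy0, hyc⟩
  rw [Set.mem_iInter] at hyc
  rw [isNowhereDense_fiber_iff f Z hZ y]
  intro O hO hsub
  rw [Set.eq_empty_iff_forall_notMem]
  rintro x ⟨hxO, hxy⟩
  have hrange : Set.range (f.fiberι y) = f ⁻¹' {y} := f.range_fiberι y
  -- work in the fibre
  have hcovy := hV₀ y hy0
  set Oy : Set ↥(f.fiber y) := (f.fiberι y) ⁻¹' O with hOy
  have hOyo : IsOpen Oy := hO.preimage (f.fiberι y).continuous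
  have hxr : x ∈ Set.range (f.fiberι y) := by rw [hrange]; exact hxy
  obtain ⟨z₀, rfl⟩ := hxr
  have hOyne : Oy.Nonempty := ⟨z₀, hxO⟩
  have hFc : ∀ i ∈ (Finset.univ : Finset (Fin n)),
      IsClosed ((f.fiberι y) ⁻¹' closure ((f.fiberι η) '' (e i))) :=
    fun i _ => isClosed_closure.preimage (f.fiberι y).continuous
  obtain ⟨i, -, z, hz1, hz2⟩ := exists_interior_of_finite_closed_cover Finset.univ
    (fun i => (f.fiberι y) ⁻¹' closure ((f.fiberι η) '' (e i))) hFc Oy hOyo hOyne (by
      intro a _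
      have : a ∈ ⋃ i, (f.fiberι y) ⁻¹' closure ((f.fiberι η) '' (e i)) := by
        rw [hcovy]; trivial
      obtain ⟨i, hi⟩ := Set.mem_iUnion.mp this
      exact Set.mem_iUnion₂.mpr ⟨i, Finset.mem_univ i, hi⟩)
  obtain ⟨O₂, hO₂, hO₂eq⟩ := (f.fiberι y).isEmbedding.isInducing.isOpen_iff.mp
    (isOpen_interior (s := (f.fiberι y) ⁻¹' closure ((f.fiberι η) '' (e i))))
  have hkey := hVc i y (hyc i) (O ∩ O₂) (hO.inter hO₂) (by
    rintro a ⟨⟨haO, haO₂⟩, -, hay⟩
    exact hsub ⟨haO, hay⟩)
  have hzmem : (f.fiberι y) z ∈ (O ∩ O₂) ∩ (closure {ξ i} ∩ f ⁻¹' {y}) := by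
    refine ⟨⟨hz2, ?_⟩, ?_, hrange ▸ Set.mem_range_self z⟩
    · have : z ∈ (f.fiberι y) ⁻¹' O₂ := by rw [hO₂eq]; exact hz1
      exact this
    · rw [← hclosure i]
      have h' : z ∈ (f.fiberι y) ⁻¹' closure ((f.fiberι η) '' (e i)) := interior_subset hz1
      exact h'
  rw [hkey] at hzmem
  exact hzmem

end Sch

end NDFibH8
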