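import Mathlib
import Groth.Agent.Lib.NDFib1_helper8
import Groth.Agent.Lib.Constr_lead

/-!
# Closure commutes with passage to the fibres, generically (EGA IV 9.5.1/9.5.2-type) (helper8)
APPEND-ONLY once landed.
-/

set_option autoImplicit false
universe u
open AlgebraicGeometry CategoryTheory TopologicalSpace Limits Topology

namespace NDFibH8

variable {X Y : Scheme.{u}} (f : X ⟶ Y)

/-- **Closure and fibres.** For a constructible subset `E` of a Noetherian scheme `X` of finite
type over an irreducible scheme `Y`, over a neighbourhood of the generic point the closure of `E`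
meets each fibre in the closure of the trace of `E`. -/
theorem closure_inter_fiber_subset [IrreducibleSpace Y] [LocallyOfFiniteType f] [QuasiCompact f]
    [NoetherianSpace X] (E : Set X) (hE : IsConstructible E) :
    ∃ V : Set Y, IsOpen V ∧ genericPoint Y ∈ V ∧
      ∀ y ∈ V, closure E ∩ f ⁻¹' {y} ⊆ closure (E ∩ f ⁻¹' {y}) := by
  classical
  set η := genericPoint Y with hη
  set Ebar : Set X := closure E with hEbar
  have hEbarc : IsClosed Ebar := isClosed_closure
  haveI : QuasiSober ↥Ebar := hEbarc.isClosedEmbedding_subtypeVal.quasiSober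
  have hfin : (irreducibleComponents ↥Ebar).Finite :=
    TopologicalSpace.NoetherianSpace.finite_irreducibleComponents
  obtain ⟨n, e, he⟩ := hfin.fin_embedding
  have hmem : ∀ i, (e i : Set ↥Ebar) ∈ irreducibleComponents ↥Ebar := by
    intro i
    rw [← he]
    exact Set.mem_range_self i
  have hcl : ∀ i, IsClosed (e i) := fun i => isClosed_of_mem_irreducibleComponents _ (hmem i)
  have hcov : ⋃ i, e i = Set.univ := by
    rw [← sUnion_irreducibleComponents (X := ↥Ebar), ← he, Set.sUnion_range]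
  have hgp : ∀ i, ∃ w : ↥Ebar, IsGenericPoint w (e i) := fun i =>
    QuasiSober.sober (hmem i).1 (hcl i)
  choose w hw using hgp
  set ζ : Fin n → X := fun i => (w i : X) with hζ
  -- closure of `ζ i` in `X`
  have hclζ : ∀ i, closure ({ζ i} : Set X) = Subtype.val '' (e i) := by
    intro i
    rw [← (hw i).def, ← hEbarc.isClosedEmbedding_subtypeVal.closure_image_eq, Set.image_singleton]
  -- an open neighbourhood of `ζ i` in `X` whose trace on `Ebar` lies in `closure {ζ i}`
  have hopen : ∀ i, ∃ O : Set X, IsOpen O ∧ ζ i ∈ O ∧ O ∩ Ebar ⊆ closure {ζ i} := by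
    intro i
    set Ui : Set ↥Ebar := (⋃ j ∈ (Finset.univ.erase i : Finset (Fin n)), e j)ᶜ with hUi
    have hUio : IsOpen Ui := by
      rw [hUi, isOpen_compl_iff]
      exact isClosed_biUnion_finset (fun j _ => hcl j)
    have hwUi : w i ∈ Ui := by
      rw [hUi, Set.mem_compl_iff, Set.mem_iUnion₂]
      rintro ⟨j, hj, hwj⟩
      have hji : j ≠ i := (Finset.mem_erase.mp hj).1
      have h1 : (e i : Set ↥Ebar) ⊆ e j := by
        rw [← (hw i).def]
        exact closure_minimal (Set.singleton_subset_iff.mpr hwj) (hcl j)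
      have h2 : (e j : Set ↥Ebar) ⊆ e i := (hmem i).2 (hmem j).1 h1
      exact hji (e.injective (Set.Subset.antisymm h2 h1))
    have hUisub : Ui ⊆ e i := by
      intro z hz
      have hz' : z ∈ ⋃ j, e j := by rw [hcov]; trivial
      obtain ⟨j, hj⟩ := Set.mem_iUnion.mp hz'
      by_cases hji : j = i
      · rw [← hji]; exact hj
      · exfalso
        apply hz
        exact Set.mem_iUnion₂.mpr ⟨j, Finset.mem_erase.mpr ⟨hji, Finset.mem_univ j⟩, hj⟩
    obtain ⟨O, hO, hOeq⟩ := isOpen_induced_iff.mp hUio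
    refine ⟨O, hO, ?_, ?_⟩
    · have : w i ∈ Subtype.val ⁻¹' O := by rw [hOeq]; exact hwUi
      exact this
    · rintro a ⟨haO, haE⟩
      rw [hclζ i]
      have : (⟨a, haE⟩ : ↥Ebar) ∈ Subtype.val ⁻¹' O := haO
      rw [hOeq] at this
      exact ⟨⟨a, haE⟩, hUisub this, rfl⟩
  choose O hO hζO hOsub using hopen
  -- `E` contains a neighbourhood of `ζ i` in `closure {ζ i}`
  have hnb : ∀ i, ∃ U : Set X, IsOpen U ∧ ζ i ∈ U ∧ U ∩ closure {ζ i} ⊆ E := by
    intro i
    obtain ⟨U, hU, hζU, hcase⟩ :=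
      Groth.Agent.Lib.Constr_lead.exists_open_generic_of_isConstructible hE
        (isGenericPoint_closure (x := ζ i))
    rcases hcase with h1 | h1
    · exact ⟨U, hU, hζU, h1⟩
    · exfalso
      have hζE : ζ i ∈ closure E := (w i).2
      obtain ⟨a, ⟨haU, haO⟩, haE⟩ := mem_closure_iff.mp hζE (U ∩ O i) (hU.inter (hO i))
        ⟨hζU, hζO i⟩
      have ha1 : a ∈ closure ({ζ i} : Set X) := hOsub i ⟨haO, subset_closure haE⟩
      exact h1 ⟨haU, ha1⟩ haE
  choose U hU hζU hUsub using hnb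
  -- the open subsets of `Y`
  have hV : ∀ i, ∃ V : Set Y, IsOpen V ∧ η ∈ V ∧ (f (ζ i) ≠ η → ∀ y ∈ V, y ∉ closure {f (ζ i)}) ∧
      (f (ζ i) = η → ∀ y ∈ V, ∀ O' : Set X, IsOpen O' →
        O' ∩ (closure {ζ i} ∩ f ⁻¹' {y}) ⊆ closure {ζ i} \ U i →
        O' ∩ (closure {ζ i} ∩ f ⁻¹' {y}) = ∅) := by
    intro i
    by_cases hi : f (ζ i) = η
    · obtain ⟨V, hVo, hηV, hVp⟩ := component_step f (ζ i) hi (closure {ζ i} \ U i)
        (isClosed_closure.sdiff (hU i)) (fun h => h.2 (hζU i))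
      exact ⟨V, hVo, hηV, fun h => absurd hi h, fun _ => hVp⟩
    · refine ⟨(closure {f (ζ i)})ᶜ, isClosed_closure.isOpen_compl, ?_, fun _ y hy => hy,
        fun h => absurd h hi⟩
      intro hcon
      have h1 : f (ζ i) ⤳ η := specializes_iff_mem_closure.mpr hcon
      exact hi ((genericPoint_specializes (f (ζ i))).antisymm h1).eq.symm
  choose V hVo hηV hV1 hV2 using hV
  refine ⟨⋂ i, V i, isOpen_iInter_of_finite hVo, Set.mem_iInter.mpr hηV, ?_⟩
  intro y hy x hx
  rw [Set.mem_iInter] at hy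
  obtain ⟨hxE, hxy⟩ := hx
  -- the component containing `x`
  have hx' : (⟨x, hxE⟩ : ↥Ebar) ∈ ⋃ i, e i := by rw [hcov]; trivial
  obtain ⟨i, hi⟩ := Set.mem_iUnion.mp hx'
  have hxi : x ∈ closure ({ζ i} : Set X) := by
    rw [hclζ i]; exact ⟨⟨x, hxE⟩, hi, rfl⟩
  have hfi : f (ζ i) = η := by
    by_contra hne
    apply hV1 i hne y (hy i)
    have h1 : ζ i ⤳ x := specializes_iff_mem_closure.mpr hxi
    have h2 : f (ζ i) ⤳ f x := h1.map f.continuous
    have hxy' : f x = y := hxy
    rw [hxy'] at h2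
    exact specializes_iff_mem_closure.mp h2
  rw [mem_closure_iff]
  intro O' hO' hxO'
  by_contra hcon
  have hsub : O' ∩ (closure {ζ i} ∩ f ⁻¹' {y}) ⊆ closure {ζ i} \ U i := by
    rintro a ⟨haO', haζ, hay⟩
    refine ⟨haζ, fun haU => hcon ⟨a, haO', hUsub i ⟨haU, haζ⟩, hay⟩⟩
  have := hV2 i hfi y (hy i) O' hO' hsub
  have hxm : x ∈ O' ∩ (closure {ζ i} ∩ f ⁻¹' {y}) := ⟨hxO', hxi, hxy⟩
  rw [this] at hxm
  exact hxm

end NDFibH8
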