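import Mathlib
import Groth.Agent.Lib.ConsProp3_helper7
import Groth.Agent.Lib.LimConstr_helper9

/-!
# Constructible topological properties of the traces of constructible sets on the fibres (helper8)
A set-level analogue of `ConsPropH7.main5880` (EGA IV 9.5.x-type statements).
APPEND-ONLY once landed.
-/

set_option autoImplicit false
set_option linter.style.haveILetI false
universe u
open AlgebraicGeometry CategoryTheory CategoryTheory.Limits TopologicalSpace Topology

namespace SetConsH8

/-- A topological predicate on a space equipped with two subsets. -/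
abbrev TopPred := ∀ (F : Type u) [TopologicalSpace F], Set F → Set F → Prop

/-- Invariance under continuous open surjections. -/
def Invariant (Q : TopPred.{u}) : Prop :=
  ∀ (F F' : Type u) [TopologicalSpace F] [TopologicalSpace F'] (p : F' → F),
    Continuous p → IsOpenMap p → Function.Surjective p → ∀ A B : Set F,
      (Q F' (p ⁻¹' A) (p ⁻¹' B) ↔ Q F A B)

/-- The set of points of the base whose fibre (as a subspace) satisfies `Q` for the traces. -/
def locus (Q : TopPred.{u}) {X S : Scheme.{u}} (f : X ⟶ S) (Z Z' : Set X) : Set S :=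
  {s | Q ↥(f ⁻¹' {s}) (Subtype.val ⁻¹' Z) (Subtype.val ⁻¹' Z')}

variable {Q : TopPred.{u}}

/-- The locus commutes with base change. -/
theorem locus_baseChange (hQ : Invariant Q) {X S X' S' : Scheme.{u}} (f : X ⟶ S) (f' : X' ⟶ S')
    (q : X' ⟶ X) (h : S' ⟶ S) (sq : IsPullback q f' f h) (Z Z' : Set X) (s' : S') :
    s' ∈ locus Q f' (q ⁻¹' Z) (q ⁻¹' Z') ↔ h s' ∈ locus Q f Z Z' := by
  obtain ⟨θ, hθ1, sqF⟩ : ∃ θ : f'.fiber s' ⟶ f.fiber (h s'),
      θ ≫ f.fiberι (h s') = f'.fiberι s' ≫ q ∧
      IsPullback θ (f'.fiberToSpecResidueField s') (f.fiberToSpecResidueField (h s'))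
        (Spec.map (h.residueFieldMap s')) :=
    ⟨_, pullback.lift_fst _ _ _, isPullback_fiberToSpecResidueField_of_isPullback sq s'⟩
  haveI : Surjective (Spec.map (h.residueFieldMap s')) := by
    constructor
    intro y
    exact ⟨default, Subsingleton.elim _ _⟩
  haveI : UniversallyOpen θ :=
    MorphismProperty.of_isPullback (P := @UniversallyOpen) sqF.flip inferInstance
  haveI : Surjective θ :=
    MorphismProperty.of_isPullback (P := @Surjective) sqF.flip inferInstance
  -- the induced map on the set-theoretic fibres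
  let p : ↥(f' ⁻¹' {s'}) → ↥(f ⁻¹' {h s'}) := fun x => ⟨q x.1, by
    have hx : f' x.1 = s' := x.2
    show f (q x.1) = h s'
    rw [← Scheme.Hom.comp_apply, sq.w, Scheme.Hom.comp_apply, hx]⟩
  have hp : ∀ z, p (f'.fiberHomeo s' z) = f.fiberHomeo (h s') (θ z) := by
    intro z
    apply Subtype.ext
    show q (f'.fiberι s' z) = f.fiberι (h s') (θ z)
    rw [← Scheme.Hom.comp_apply, ← Scheme.Hom.comp_apply, hθ1]
  have hp' : p = (f.fiberHomeo (h s')) ∘ θ ∘ (f'.fiberHomeo s').symm := by
    funext x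
    obtain ⟨z, rfl⟩ := (f'.fiberHomeo s').surjective x
    rw [hp]
    simp
  have hpc : Continuous p := by
    rw [hp']
    exact (f.fiberHomeo (h s')).continuous.comp (θ.continuous.comp (f'.fiberHomeo s').symm.continuous)
  have hpo : IsOpenMap p := by
    rw [hp']
    exact (f.fiberHomeo (h s')).isOpenMap.comp (θ.isOpenMap.comp (f'.fiberHomeo s').symm.isOpenMap)
  have hps : Function.Surjective p := by
    rw [hp']
    exact (f.fiberHomeo (h s')).surjective.comp (θ.surjective.comp (f'.fiberHomeo s').symm.surjective)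
  exact hQ _ _ p hpc hpo hps (Subtype.val ⁻¹' Z) (Subtype.val ⁻¹' Z')

/-- The generic dichotomy over integral Noetherian bases. -/
def GenericDichotomy (Q : TopPred.{u}) : Prop :=
  ∀ ⦃X S : Scheme.{u}⦄ (f : X ⟶ S) [IsIntegral S] [IsNoetherian S]
    [LocallyOfFiniteType f] [QuasiCompact f] (Z Z' : Set X),
    IsConstructible Z → IsConstructible Z' →
    (interior (locus Q f Z Z')).Nonempty ∨ (interior (locus Q f Z Z')ᶜ).Nonempty

/-- Over a Noetherian base, the locus is constructible. -/
theorem isConstructible_locus (hQ : Invariant Q) (hG : GenericDichotomy Q) {X S : Scheme.{u}}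
    (f : X ⟶ S) [IsNoetherian S] [LocallyOfFiniteType f] [QuasiCompact f] (Z Z' : Set X)
    (hZ : IsConstructible Z) (hZ' : IsConstructible Z') : IsConstructible (locus Q f Z Z') := by
  apply Groth.Agent.Lib.ConsPropH7.isConstructible_of_forall_generic
  intro ξ
  obtain ⟨I, hint, hnoe, hgen, hrange⟩ := Groth.Agent.Lib.ConsPropH7.exists_red_closure ξ
  haveI := hint
  haveI := hnoe
  have hloc : ∀ t : I.subscheme,
      t ∈ locus Q (pullback.snd f I.subschemeι) ((pullback.fst f I.subschemeι) ⁻¹' Z)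
        ((pullback.fst f I.subschemeι) ⁻¹' Z') ↔ I.subschemeι t ∈ locus Q f Z Z' :=
    fun t => locus_baseChange hQ f (pullback.snd f I.subschemeι) (pullback.fst f I.subschemeι)
      I.subschemeι (IsPullback.of_hasPullback _ _) Z Z' t
  have key : ∀ (W : Set I.subscheme) (F : Set S), IsOpen W → W.Nonempty →
      (∀ t ∈ W, I.subschemeι t ∈ F) →
      ∃ U : Set S, IsOpen U ∧ ξ ∈ U ∧ U ∩ closure {ξ} ⊆ F := by
    intro W F hW hWne hWF
    obtain ⟨U, hU, hUW⟩ := I.subschemeι.isClosedEmbedding.isInducing.isOpen_iff.mp hW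
    refine ⟨U, hU, ?_, ?_⟩
    · have hη : genericPoint I.subscheme ∈ W :=
        ((genericPoint_spec _).mem_open_set_iff hW).mpr (by simpa using hWne)
      rw [← hgen]
      have : genericPoint I.subscheme ∈ I.subschemeι ⁻¹' U := by rw [hUW]; exact hη
      exact this
    · rintro z ⟨hzU, hzZ⟩
      rw [← hrange] at hzZ
      obtain ⟨t, rfl⟩ := hzZ
      apply hWF
      rw [← hUW]
      exact hzU
  rcases hG (pullback.snd f I.subschemeι) ((pullback.fst f I.subschemeι) ⁻¹' Z)
      ((pullback.fst f I.subschemeι) ⁻¹' Z')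
      ((pullback.fst f I.subschemeι).isConstructible_preimage hZ)
      ((pullback.fst f I.subschemeι).isConstructible_preimage hZ') with h1 | h1
  · obtain ⟨U, hU, hξU, hsub⟩ := key _ (locus Q f Z Z') isOpen_interior h1
      (fun t ht => (hloc t).mp (interior_subset ht))
    exact ⟨U, hU, hξU, Or.inl hsub⟩
  · obtain ⟨U, hU, hξU, hsub⟩ := key _ (locus Q f Z Z')ᶜ isOpen_interior h1
      (fun t ht hcon => interior_subset ht ((hloc t).mpr hcon))
    exact ⟨U, hU, hξU, Or.inr hsub⟩

section Descend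

open Groth.Agent.Lib.LimBaseChangeH7 Groth.Agent.Lib.LimDescFPH7

/-- A finitely presented scheme over a limit, together with two constructible subsets, descends to
a stage. -/
theorem exists_descend_sets {I : Type u} [SmallCategory I] [IsCofiltered I]
    (D : I ⥤ Scheme.{u}) (c : Cone D) (hc : IsLimit c)
    [∀ (i j : I) (a : i ⟶ j), IsAffineHom (D.map a)] [∀ i, CompactSpace (D.obj i)]
    [∀ i, QuasiSeparatedSpace (D.obj i)] {X : Scheme.{u}} (f : X ⟶ c.pt)
    [LocallyOfFinitePresentation f] [QuasiCompact f] [QuasiSeparated f] (Z Z' : Set X)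
    (hZ : IsConstructible Z) (hZ' : IsConstructible Z') :
    ∃ (i : I) (Xi : Scheme.{u}) (fi : Xi ⟶ D.obj i) (q : X ⟶ Xi) (Zi Zi' : Set Xi),
      LocallyOfFiniteType fi ∧ QuasiCompact fi ∧ IsPullback q f fi (c.π.app i) ∧
        IsConstructible Zi ∧ IsConstructible Zi' ∧ q ⁻¹' Zi = Z ∧ q ⁻¹' Zi' = Z' := by
  obtain ⟨i₁, X₁, f₁, q₁, hlfp₁, hqc₁, hqs₁, hpb₁⟩ := main591 hc X f
  haveI := hlfp₁
  haveI := hqc₁
  haveI := hqs₁
  haveI : CompactSpace X₁ := QuasiCompact.compactSpace_of_compactSpace f₁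
  haveI : QuasiSeparatedSpace X₁ := quasiSeparatedSpace_of_quasiSeparated f₁
  let i₀ : Over i₁ := Over.mk (𝟙 i₁)
  obtain ⟨j, -, Zj, hZj, ej⟩ :=
    Groth.Agent.Lib.LimConstr.exists_constructible_preimage_eq (bcDiagram D i₁ f₁)
      (bcCone c hpb₁) (isLimitBcCone c hpb₁ hc) i₀ Z hZ
  obtain ⟨j', -, Zj', hZj', ej'⟩ :=
    Groth.Agent.Lib.LimConstr.exists_constructible_preimage_eq (bcDiagram D i₁ f₁)
      (bcCone c hpb₁) (isLimitBcCone c hpb₁ hc) i₀ Z' hZ'
  let k : Over i₁ := IsCofiltered.min j j'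
  let a : k ⟶ j := IsCofiltered.minToLeft j j'
  let b : k ⟶ j' := IsCofiltered.minToRight j j'
  refine ⟨k.left, pullback f₁ (D.map k.hom), pullback.snd f₁ (D.map k.hom),
    (bcCone c hpb₁).π.app k, ((bcDiagram D i₁ f₁).map a) ⁻¹' Zj,
    ((bcDiagram D i₁ f₁).map b) ⁻¹' Zj', inferInstance, inferInstance,
    isPullback_bcCone_π c hpb₁ k, Scheme.Hom.isConstructible_preimage _ hZj,
    Scheme.Hom.isConstructible_preimage _ hZj', ?_, ?_⟩
  · exact (Groth.Agent.Lib.LimConstr.preimage_π_preimage_map (bcDiagram D i₁ f₁)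
      (bcCone c hpb₁) a Zj).trans ej
  · exact (Groth.Agent.Lib.LimConstr.preimage_π_preimage_map (bcDiagram D i₁ f₁)
      (bcCone c hpb₁) b Zj').trans ej'

end Descend

section Affine

open Groth.Agent.Lib.LimBaseChangeH7 Groth.Agent.Lib.LimDescFPH7

theorem isConstructible_locus_of_spec (hQ : Invariant Q) (hG : GenericDichotomy Q)
    (A : Type u) [CommRing A] {X : Scheme.{u}} (f : X ⟶ Spec (CommRingCat.of A))
    [LocallyOfFinitePresentation f] [QuasiCompact f] [QuasiSeparated f] (Z Z' : Set X)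
    (hZ : IsConstructible Z) (hZ' : IsConstructible Z') : IsConstructible (locus Q f Z Z') := by
  letI : Algebra (ULift.{u} ℤ) A := ULift.algebra' ℤ A
  haveI : ∀ i, CompactSpace ((DS (ULift.{u} ℤ) A).obj i) := fun i => inferInstance
  haveI : ∀ i, QuasiSeparatedSpace ((DS (ULift.{u} ℤ) A).obj i) := fun i => inferInstance
  let f' : X ⟶ (coneS (ULift.{u} ℤ) A).pt := f
  haveI : LocallyOfFinitePresentation f' := ‹LocallyOfFinitePresentation f›
  haveI : QuasiCompact f' := ‹QuasiCompact f›
  haveI : QuasiSeparated f' := ‹QuasiSeparated f›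
  obtain ⟨i, Xi, fi, q, Zi, Zi', h1, h2, hpb, hZi, hZi', e1, e2⟩ :=
    exists_descend_sets (DS (ULift.{u} ℤ) A) (coneS (ULift.{u} ℤ) A)
      (isLimitConeS (ULift.{u} ℤ) A) f' Z Z' hZ hZ'
  haveI := h1
  haveI := h2
  haveI : IsNoetherian ((DS (ULift.{u} ℤ) A).obj i) :=
    Groth.Agent.Lib.ConsPropH7.isNoetherian_stage A i
  have e : locus Q f Z Z' = ((coneS (ULift.{u} ℤ) A).π.app i) ⁻¹' locus Q fi Zi Zi' := by
    ext s
    have := locus_baseChange hQ fi f' q ((coneS (ULift.{u} ℤ) A).π.app i) hpb Zi Zi' s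
    rw [e1, e2] at this
    exact this
  rw [e]
  exact Scheme.Hom.isConstructible_preimage _ (isConstructible_locus hQ hG fi Zi Zi' hZi hZi')

theorem isConstructible_locus_of_isAffine (hQ : Invariant Q) (hG : GenericDichotomy Q)
    {X S : Scheme.{u}} [IsAffine S] (f : X ⟶ S)
    [LocallyOfFinitePresentation f] [QuasiCompact f] [QuasiSeparated f] (Z Z' : Set X)
    (hZ : IsConstructible Z) (hZ' : IsConstructible Z') : IsConstructible (locus Q f Z Z') := by
  let e : S ⟶ Spec (CommRingCat.of Γ(S, ⊤)) := S.isoSpec.hom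
  haveI : IsIso e := inferInstanceAs (IsIso S.isoSpec.hom)
  have hiso : IsPullback (𝟙 X) f (f ≫ e) e := IsPullback.of_horiz_isIso ⟨by simp⟩
  have e' : locus Q f Z Z' = e ⁻¹' locus Q (f ≫ e) Z Z' := by
    ext s
    have := locus_baseChange hQ (f ≫ e) f (𝟙 X) e hiso Z Z' s
    simpa using this
  rw [e']
  exact Scheme.Hom.isConstructible_preimage _
    (isConstructible_locus_of_spec hQ hG Γ(S, ⊤) (f ≫ e) Z Z' hZ hZ')

end Affine

section General

open Set.Notation

theorem isConstructible_locus_restrict (hQ : Invariant Q) (hG : GenericDichotomy Q)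
    {X S : Scheme.{u}} (f : X ⟶ S)
    [LocallyOfFinitePresentation f] [QuasiCompact f] [QuasiSeparated f] (Z Z' : Set X)
    (hZ : IsLocallyConstructible Z) (hZ' : IsLocallyConstructible Z') (U : S.Opens)
    (hU : IsAffineOpen U) : IsConstructible ((U : Set S) ↓∩ locus Q f Z Z') := by
  haveI : IsAffine (U : Scheme.{u}) := hU
  have hsq := IsPullback.of_hasPullback f U.ι
  have e : ((U : Set S) ↓∩ locus Q f Z Z') =
      locus Q (pullback.snd f U.ι) ((pullback.fst f U.ι) ⁻¹' Z) ((pullback.fst f U.ι) ⁻¹' Z') := by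
    ext t
    exact (locus_baseChange hQ f (pullback.snd f U.ι) (pullback.fst f U.ι) U.ι hsq Z Z' t).symm
  rw [e]
  haveI : CompactSpace ↥(pullback f U.ι) :=
    QuasiCompact.compactSpace_of_compactSpace (pullback.snd f U.ι)
  haveI : QuasiSeparatedSpace ↥(pullback f U.ι) :=
    quasiSeparatedSpace_of_quasiSeparated (pullback.snd f U.ι)
  exact isConstructible_locus_of_isAffine hQ hG (pullback.snd f U.ι) _ _
    (hZ.preimage_of_isOpenEmbedding (pullback.fst f U.ι).isOpenEmbedding).isConstructible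
    (hZ'.preimage_of_isOpenEmbedding (pullback.fst f U.ι).isOpenEmbedding).isConstructible

/-- **Main theorem**: the locus of an invariant topological predicate with generic dichotomy is
locally constructible, for morphisms of finite presentation and locally constructible sets. -/
theorem main (hQ : Invariant Q) (hG : GenericDichotomy Q) {X S : Scheme.{u}} (f : X ⟶ S)
    [LocallyOfFinitePresentation f] [QuasiCompact f] [QuasiSeparated f] (Z Z' : Set X)
    (hZ : IsLocallyConstructible Z) (hZ' : IsLocallyConstructible Z') :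
    IsLocallyConstructible (locus Q f Z Z') := by
  intro x
  obtain ⟨_, ⟨U, hU, rfl⟩, hxU, -⟩ :=
    S.isBasis_affineOpens.exists_subset_of_mem_open (Set.mem_univ x) isOpen_univ
  exact ⟨U, U.2.mem_nhds hxU, U.2, isConstructible_locus_restrict hQ hG f Z Z' hZ hZ' U hU⟩

end General

end SetConsH8
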