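import Mathlib
import Groth.Agent.Lib.SetCons1_helper8
import Groth.Agent.Lib.NDFib2_helper8
import Groth.Agent.Lib.Constr_lead

/-!
# Density / closedness / local closedness of traces on the fibres (EGA IV 9.5.3, 9.5.4) (helper8)
APPEND-ONLY once landed.
-/

set_option autoImplicit false
set_option linter.style.haveILetI false
universe u
open AlgebraicGeometry CategoryTheory CategoryTheory.Limits TopologicalSpace Topology

namespace SetConsH8

/-- `B ⊆ closure A`. -/
def QDense : TopPred.{u} := fun _ _ A B => B ⊆ closure A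
/-- `A` is closed. -/
def QClosed : TopPred.{u} := fun _ _ A _ => IsClosed A
/-- `A` is locally closed. -/
def QLocClosed : TopPred.{u} := fun _ _ A _ => IsLocallyClosed A

theorem invariant_QDense : Invariant QDense.{u} := by
  intro F F' _ _ p hc ho hs A B
  show p ⁻¹' B ⊆ closure (p ⁻¹' A) ↔ B ⊆ closure A
  rw [← ho.preimage_closure_eq_closure_preimage hc]
  exact hs.preimage_subset_preimage_iff

theorem invariant_QClosed : Invariant QClosed.{u} := by
  intro F F' _ _ p hc ho hs A B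
  exact (ho.isQuotientMap hc hs).isClosed_preimage

theorem invariant_QLocClosed : Invariant QLocClosed.{u} := by
  intro F F' _ _ p hc ho hs A B
  show IsLocallyClosed (p ⁻¹' A) ↔ IsLocallyClosed A
  rw [isLocallyClosed_iff_isOpen_coborder, isLocallyClosed_iff_isOpen_coborder,
    coborder_preimage ho hc]
  exact (ho.isQuotientMap hc hs).isOpen_preimage

variable {X S : Scheme.{u}} (f : X ⟶ S)

theorem mem_closure_trace_iff (Z : Set X) (s : S) (x : ↥(f ⁻¹' {s})) :
    x ∈ closure (Subtype.val ⁻¹' Z : Set ↥(f ⁻¹' {s})) ↔ x.1 ∈ closure (Z ∩ f ⁻¹' {s}) := by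
  rw [closure_subtype, Subtype.image_preimage_coe, Set.inter_comm]

theorem mem_locus_QDense (Z Z' : Set X) (s : S) :
    s ∈ locus QDense f Z Z' ↔ Z' ∩ f ⁻¹' {s} ⊆ closure (Z ∩ f ⁻¹' {s}) := by
  constructor
  · rintro h x ⟨hxZ', hxs⟩
    have h1 : (⟨x, hxs⟩ : ↥(f ⁻¹' {s})) ∈ closure (Subtype.val ⁻¹' Z : Set ↥(f ⁻¹' {s})) :=
      h (show (⟨x, hxs⟩ : ↥(f ⁻¹' {s})) ∈ Subtype.val ⁻¹' Z' from hxZ')
    exact (mem_closure_trace_iff f Z s _).mp h1
  · intro h x hx
    exact (mem_closure_trace_iff f Z s x).mpr (h ⟨hx, x.2⟩)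

theorem mem_locus_QClosed (Z Z' : Set X) (s : S) :
    s ∈ locus QClosed f Z Z' ↔ closure (Z ∩ f ⁻¹' {s}) ∩ f ⁻¹' {s} ⊆ Z := by
  show IsClosed (Subtype.val ⁻¹' Z : Set ↥(f ⁻¹' {s})) ↔ _
  rw [← closure_subset_iff_isClosed]
  constructor
  · rintro h x ⟨hx1, hxs⟩
    exact h ((mem_closure_trace_iff f Z s ⟨x, hxs⟩).mpr hx1)
  · intro h x hx
    exact h ⟨(mem_closure_trace_iff f Z s x).mp hx, x.2⟩

/-- A criterion for the generic dichotomy. -/
theorem dichotomy_of_eq_on_open [IsIntegral S] [IsNoetherian S] [LocallyOfFiniteType f]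
    [QuasiCompact f] (L : Set S) (V : Set S) (hV : IsOpen V) (hη : genericPoint S ∈ V)
    (D : Set X) (hD : IsConstructible D) (h : ∀ y ∈ V, y ∈ L ↔ y ∉ f '' D) :
    (interior L).Nonempty ∨ (interior Lᶜ).Nonempty := by
  haveI : LocallyOfFinitePresentation f :=
    LocallyOfFinitePresentation.iff_locallyOfFiniteType.mpr inferInstance
  have hE : IsConstructible (f '' D) := f.isConstructible_image hD
  obtain ⟨U, hU, hηU, hcase⟩ :=
    Groth.Agent.Lib.Constr_lead.exists_open_generic_of_isConstructible hE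
      (genericPoint_spec S)
  rcases hcase with h1 | h1
  · right
    refine ⟨genericPoint S, mem_interior.mpr ⟨V ∩ U, ?_, hV.inter hU, hη, hηU⟩⟩
    rintro y ⟨hyV, hyU⟩ hyL
    exact (h y hyV).mp hyL (h1 ⟨hyU, trivial⟩)
  · left
    refine ⟨genericPoint S, mem_interior.mpr ⟨V ∩ U, ?_, hV.inter hU, hη, hηU⟩⟩
    rintro y ⟨hyV, hyU⟩
    exact (h y hyV).mpr (h1 ⟨hyU, trivial⟩)

theorem noetherianSpace_of_lft [IsNoetherian S] [LocallyOfFiniteType f] [QuasiCompact f] :
    NoetherianSpace X := by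
  haveI : IsLocallyNoetherian X := LocallyOfFiniteType.isLocallyNoetherian f
  haveI : CompactSpace X := QuasiCompact.compactSpace_of_compactSpace f
  haveI : IsNoetherian X := {}
  infer_instance

theorem dichotomy_QDense : GenericDichotomy QDense.{u} := by
  intro X S f _ _ _ _ Z Z' hZ hZ'
  haveI : NoetherianSpace X := noetherianSpace_of_lft f
  obtain ⟨V, hV, hηV, hVp⟩ := NDFibH8.closure_inter_fiber_subset f Z hZ
  refine dichotomy_of_eq_on_open f _ V hV hηV (Z' \ closure Z)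
    (hZ'.sdiff (Groth.Agent.Lib.ConsPropH7.isConstructible_of_isClosed_noeth isClosed_closure)) ?_
  intro y hy
  rw [mem_locus_QDense]
  constructor
  · rintro hsub ⟨x, ⟨hxZ', hxZ⟩, rfl⟩
    exact hxZ (closure_mono Set.inter_subset_left (hsub ⟨hxZ', rfl⟩))
  · rintro hn x ⟨hxZ', hxy⟩
    have hxZ : x ∈ closure Z := by
      by_contra hcon
      exact hn ⟨x, ⟨hxZ', hcon⟩, hxy⟩
    exact hVp y hy ⟨hxZ, hxy⟩

theorem dichotomy_QClosed : GenericDichotomy QClosed.{u} := by
  intro X S f _ _ _ _ Z Z' hZ hZ'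
  haveI : NoetherianSpace X := noetherianSpace_of_lft f
  obtain ⟨V, hV, hηV, hVp⟩ := NDFibH8.closure_inter_fiber_subset f Z hZ
  refine dichotomy_of_eq_on_open f _ V hV hηV (closure Z \ Z)
    ((Groth.Agent.Lib.ConsPropH7.isConstructible_of_isClosed_noeth isClosed_closure).sdiff hZ) ?_
  intro y hy
  rw [mem_locus_QClosed]
  constructor
  · rintro hsub ⟨x, ⟨hxcl, hxZ⟩, rfl⟩
    exact hxZ (hsub ⟨hVp _ hy ⟨hxcl, rfl⟩, rfl⟩)
  · rintro hn x ⟨hx1, hxy⟩
    by_contra hcon
    exact hn ⟨x, ⟨closure_mono Set.inter_subset_left hx1, hcon⟩, hxy⟩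

theorem dichotomy_QLocClosed : GenericDichotomy QLocClosed.{u} := by
  intro X S f _ _ _ _ Z Z' hZ hZ'
  haveI : NoetherianSpace X := noetherianSpace_of_lft f
  obtain ⟨V, hV, hηV, hVp⟩ := NDFibH8.closure_inter_fiber_subset f Z hZ
  have hW : IsConstructible (closure Z \ Z) := (Groth.Agent.Lib.ConsPropH7.isConstructible_of_isClosed_noeth isClosed_closure).sdiff hZ
  obtain ⟨V', hV', hηV', hVp'⟩ := NDFibH8.closure_inter_fiber_subset f (closure Z \ Z) hW
  refine dichotomy_of_eq_on_open f _ (V ∩ V') (hV.inter hV') ⟨hηV, hηV'⟩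
    (closure (closure Z \ Z) \ (closure Z \ Z)) ((Groth.Agent.Lib.ConsPropH7.isConstructible_of_isClosed_noeth isClosed_closure).sdiff hW) ?_
  rintro y ⟨hy, hy'⟩
  -- on `V`, local closedness of `Z_y` is closedness of `(closure Z \ Z)_y`
  have h1 : y ∈ locus QLocClosed f Z Z' ↔ y ∈ locus QClosed f (closure Z \ Z) Z' := by
    show IsLocallyClosed (Subtype.val ⁻¹' Z : Set ↥(f ⁻¹' {y})) ↔
      IsClosed (Subtype.val ⁻¹' (closure Z \ Z) : Set ↥(f ⁻¹' {y}))
    have hcl : closure (Subtype.val ⁻¹' Z : Set ↥(f ⁻¹' {y})) = Subtype.val ⁻¹' (closure Z) := by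
      ext x
      rw [mem_closure_trace_iff]
      constructor
      · intro hx
        exact closure_mono Set.inter_subset_left hx
      · intro hx
        exact hVp y hy ⟨hx, x.2⟩
    rw [isLocallyClosed_iff_isOpen_coborder, ← isClosed_compl_iff, coborder, compl_compl, hcl]
    rfl
  rw [h1, mem_locus_QClosed]
  constructor
  · rintro hsub ⟨x, ⟨hxcl, hxZ⟩, rfl⟩
    exact hxZ (hsub ⟨hVp' _ hy' ⟨hxcl, rfl⟩, rfl⟩)
  · rintro hn x ⟨hx1, hxy⟩
    by_contra hcon
    exact hn ⟨x, ⟨closure_mono Set.inter_subset_left hx1, hcon⟩, hxy⟩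

theorem isLocallyConstructible_compl {T : Type*} [TopologicalSpace T] {s : Set T}
    (hs : IsLocallyConstructible s) : IsLocallyConstructible sᶜ := by
  intro x
  obtain ⟨U, hU, hUo, hc⟩ := hs x
  refine ⟨U, hU, hUo, ?_⟩
  have : (Subtype.val ⁻¹' sᶜ : Set ↥U) = (Subtype.val ⁻¹' s)ᶜ := rfl
  rw [this]
  exact hc.compl

/-- **S3427** -/
theorem main3427 (f : X ⟶ S) [LocallyOfFinitePresentation f]
    [QuasiCompact f] [QuasiSeparated f] (Z Z' : Set X) (hZ : IsLocallyConstructible Z)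
    (hZ' : IsLocallyConstructible Z') :
    IsLocallyConstructible {s : S | Z' ∩ f ⁻¹' {s} ⊆ closure (Z ∩ f ⁻¹' {s})} := by
  have := main invariant_QDense dichotomy_QDense f Z Z' hZ hZ'
  convert this using 1
  ext s
  exact (mem_locus_QDense f Z Z' s).symm

/-- **S3428** -/
theorem main3428 (f : X ⟶ S)
    [LocallyOfFinitePresentation f] [QuasiCompact f] [QuasiSeparated f] (Z : Set X)
    (hZ : IsLocallyConstructible Z) :
    IsLocallyConstructible {s : S | IsClosed (Subtype.val ⁻¹' Z : Set ↥(f ⁻¹' {s}))} ∧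
      IsLocallyConstructible {s : S | IsOpen (Subtype.val ⁻¹' Z : Set ↥(f ⁻¹' {s}))} ∧
      IsLocallyConstructible
        {s : S | IsLocallyClosed (Subtype.val ⁻¹' Z : Set ↥(f ⁻¹' {s}))} := by
  refine ⟨main invariant_QClosed dichotomy_QClosed f Z Z hZ hZ, ?_,
    main invariant_QLocClosed dichotomy_QLocClosed f Z Z hZ hZ⟩
  have := main invariant_QClosed dichotomy_QClosed f Zᶜ Zᶜ (isLocallyConstructible_compl hZ)
    (isLocallyConstructible_compl hZ)
  convert this using 1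
  ext s
  show IsOpen (Subtype.val ⁻¹' Z : Set ↥(f ⁻¹' {s})) ↔
    IsClosed (Subtype.val ⁻¹' Zᶜ : Set ↥(f ⁻¹' {s}))
  rw [Set.preimage_compl, isClosed_compl_iff]

end SetConsH8
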