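import Mathlib
import Groth.Prelude
import Groth.Agent.Lib.FibTors1_helper2
import Groth.Agent.Lib.RelAssSpread_helper2
import Groth.Agent.Lib.SetCons2_helper8
import Groth.Agent.Lib.SuppFT_helper9
import Groth.Agent.Lib.Fpqc1_helper8
import Groth.Agent.Lib.PB10_helper8
import Groth.Agent.Lib.FibStalkKer_helper5

/-!
# The locus of points of the base over which the fibre module is torsion (helper2, S4831)
APPEND-ONLY once landed.
-/

set_option autoImplicit false
set_option maxHeartbeats 1000000
universe u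

open CategoryTheory CategoryTheory.Limits AlgebraicGeometry TopologicalSpace Opposite Topology

namespace Groth.Agent.Lib.FibTors

open Groth.Agent.Lib.RelAssSpread

variable {X S : Scheme.{u}}

theorem isFT_of_isFP (F : X.Modules) (hF : CohB1.IsFP F) : CohB1.IsFT F := by
  obtain ⟨σ, hσ⟩ :=
    SheafOfModules.IsFinitePresentation.exists_quasicoherentData (R := X.ringCatSheaf) F
  show SheafOfModules.IsFiniteType (R := X.ringCatSheaf) F
  constructor
  refine ⟨σ.localGeneratorsData, ?_⟩
  constructor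
  intro i
  exact (hσ.isFinite_presentation i).isFiniteType_generators

theorem isLocallyConstructible_of_isOpen [IsLocallyNoetherian X] {Z : Set X} (hZ : IsOpen Z) :
    IsLocallyConstructible Z := by
  intro x
  obtain ⟨_, ⟨U, hU, rfl⟩, hxU, -⟩ :=
    X.isBasis_affineOpens.exists_subset_of_mem_open (Set.mem_univ x) isOpen_univ
  have hU : IsAffineOpen U := hU
  haveI : IsNoetherianRing Γ(X, U) := IsLocallyNoetherian.component_noetherian ⟨U, hU⟩
  haveI : NoetherianSpace ↥(U : Set X) := noetherianSpace_of_isAffineOpen U hU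
  exact ⟨U, U.2.mem_nhds hxU, U.2,
    Groth.Agent.Lib.ConsPropH7.isConstructible_of_isOpen_noeth (hZ.preimage continuous_subtype_val)⟩

section Stalk

variable (F : X.Modules) [F.IsQuasicoherent]

theorem finite_stalk [SheafOfModules.IsFiniteType (R := X.ringCatSheaf) F] (x : X) :
    Module.Finite (X.presheaf.stalk x) (F.presheaf.stalk x) := by
  obtain ⟨_, ⟨U, hU, rfl⟩, hxU, -⟩ :=
    X.isBasis_affineOpens.exists_subset_of_mem_open (Set.mem_univ x) isOpen_univ
  have hU : IsAffineOpen U := hU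
  have hxU : x ∈ U := hxU
  letI := TopCat.Presheaf.algebra_section_stalk X.presheaf (⟨x, hxU⟩ : U)
  haveI : IsLocalization.AtPrime (X.presheaf.stalk x) (hU.primeIdealOf ⟨x, hxU⟩).asIdeal :=
    hU.isLocalization_stalk ⟨x, hxU⟩
  letI := StalkLocH8.modSec F hxU
  haveI : IsScalarTower Γ(X, U) (X.presheaf.stalk x) (F.presheaf.stalk x) :=
    IsScalarTower.of_algebraMap_smul (fun _ _ => rfl)
  haveI := StalkLocH8.isLocalizedModule_germLin F hU hxU
  haveI : Module.Finite Γ(X, U) Γ(F, U) := QCohFT.finite_of_isFiniteType F hU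
  exact Module.Finite.of_isLocalizedModule (hU.primeIdealOf ⟨x, hxU⟩).asIdeal.primeCompl
    (StalkLocH8.germLin F hxU)

/-- Vanishing of a stalk in terms of sections over an affine open. -/
theorem subsingleton_stalk_iff {W : X.Opens} (hW : IsAffineOpen W) {z : X} (hz : z ∈ W) :
    Subsingleton (F.presheaf.stalk z) ↔
      ∀ n : Γ(F, W), ∃ u : Γ(X, W), u ∉ (hW.primeIdealOf ⟨z, hz⟩).asIdeal ∧ u • n = 0 := by
  letI := TopCat.Presheaf.algebra_section_stalk X.presheaf (⟨z, hz⟩ : W)
  haveI : IsLocalization.AtPrime (X.presheaf.stalk z) (hW.primeIdealOf ⟨z, hz⟩).asIdeal :=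
    hW.isLocalization_stalk ⟨z, hz⟩
  letI := StalkLocH8.modSec F hz
  haveI : IsScalarTower Γ(X, W) (X.presheaf.stalk z) (F.presheaf.stalk z) :=
    IsScalarTower.of_algebraMap_smul (fun _ _ => rfl)
  haveI := StalkLocH8.isLocalizedModule_germLin F hW hz
  set q := (hW.primeIdealOf ⟨z, hz⟩).asIdeal with hq
  constructor
  · intro h n
    have h0 : StalkLocH8.germLin F hz n = 0 := Subsingleton.elim _ _
    obtain ⟨u, hu⟩ := (IsLocalizedModule.eq_zero_iff q.primeCompl (StalkLocH8.germLin F hz)).mp h0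
    exact ⟨u, u.2, hu⟩
  · intro h
    refine subsingleton_of_forall_eq 0 (fun y => ?_)
    obtain ⟨⟨n, s⟩, hns⟩ := IsLocalizedModule.surj q.primeCompl (StalkLocH8.germLin F hz) y
    have hns' : (s : Γ(X, W)) • y = StalkLocH8.germLin F hz n := hns
    obtain ⟨u, hu, hun⟩ := h n
    have h0 : StalkLocH8.germLin F hz n = 0 :=
      (IsLocalizedModule.eq_zero_iff q.primeCompl (StalkLocH8.germLin F hz)).mpr ⟨⟨u, hu⟩, hun⟩
    have hinj := IsLocalizedModule.smul_injective (StalkLocH8.germLin F hz) s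
    apply hinj
    show (s : Γ(X, W)) • y = (s : Γ(X, W)) • (0 : F.presheaf.stalk z)
    rw [hns', h0, smul_zero]

/-- **Torsion stalks on a locally Noetherian scheme**: the stalk at `x` (with `O_{X,x}` a domain)
is torsion iff the complement of the support is dense near `x`. -/
theorem torsion_stalk_iff [IsLocallyNoetherian X]
    [SheafOfModules.IsFiniteType (R := X.ringCatSheaf) F] {W : X.Opens} (hW : IsAffineOpen W)
    {x : X} (hx : x ∈ W) [IsDomain (X.presheaf.stalk x)] :
    Submodule.torsion (X.presheaf.stalk x) (F.presheaf.stalk x) = ⊤ ↔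
      ∀ t : Γ(X, W), x ∈ X.basicOpen t →
        ∃ z : X, z ∈ W ∧ z ∈ X.basicOpen t ∧ Subsingleton (F.presheaf.stalk z) := by
  letI := TopCat.Presheaf.algebra_section_stalk X.presheaf (⟨x, hx⟩ : W)
  haveI : IsLocalization.AtPrime (X.presheaf.stalk x) (hW.primeIdealOf ⟨x, hx⟩).asIdeal :=
    hW.isLocalization_stalk ⟨x, hx⟩
  letI := StalkLocH8.modSec F hx
  haveI : IsScalarTower Γ(X, W) (X.presheaf.stalk x) (F.presheaf.stalk x) :=
    IsScalarTower.of_algebraMap_smul (fun _ _ => rfl)
  haveI := StalkLocH8.isLocalizedModule_germLin F hW hx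
  haveI : IsNoetherianRing Γ(X, W) := IsLocallyNoetherian.component_noetherian ⟨W, hW⟩
  haveI : Module.Finite Γ(X, W) Γ(F, W) := QCohFT.finite_of_isFiniteType F hW
  rw [torsion_eq_top_iff (hW.primeIdealOf ⟨x, hx⟩).asIdeal (X.presheaf.stalk x)
    (StalkLocH8.germLin F hx)]
  constructor
  · intro H t hxt
    obtain ⟨z, hz, htz, hzN⟩ := H t ((mem_basicOpen_iff_notMem_prime hW hx t).mp hxt)
    obtain ⟨z', hz'W, hz'z⟩ := exists_point_of_prime hW z hz
    refine ⟨z', hz'W, ?_, ?_⟩
    · rw [mem_basicOpen_iff_notMem_prime hW hz'W, hz'z]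
      exact htz
    · rw [subsingleton_stalk_iff F hW hz'W, hz'z]
      exact hzN
  · intro H t ht
    obtain ⟨z', hz'W, hz't, hsub⟩ := H t ((mem_basicOpen_iff_notMem_prime hW hx t).mpr ht)
    refine ⟨(hW.primeIdealOf ⟨z', hz'W⟩).asIdeal, inferInstance, ?_, ?_⟩
    · exact (mem_basicOpen_iff_notMem_prime hW hz'W t).mp hz't
    · exact (subsingleton_stalk_iff F hW hz'W).mp hsub

end Stalk

section Fibre

variable (f : X ⟶ S) (F : X.Modules) [F.IsQuasicoherent]
  [SheafOfModules.IsFiniteType (R := X.ringCatSheaf) F]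

/-- The support of the restriction to a fibre. -/
theorem subsingleton_stalk_fiber_iff (s : S) (z : ↥(f.fiber s)) :
    Subsingleton (((Scheme.Modules.pullback (f.fiberι s)).obj F).presheaf.stalk z) ↔
      Subsingleton (F.presheaf.stalk ((f.fiberι s) z)) := by
  obtain ⟨hsurj, hker⟩ := Groth.Agent.FibStalkKer.main9501 f s z
  letI alg := ((f.fiberι s).stalkMap z).hom.toAlgebra
  letI : Module (X.presheaf.stalk ((f.fiberι s) z))
      (((Scheme.Modules.pullback (f.fiberι s)).obj F).presheaf.stalk z) :=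
    Module.compHom _ ((f.fiberι s).stalkMap z).hom
  haveI : IsScalarTower (X.presheaf.stalk ((f.fiberι s) z)) ((f.fiber s).presheaf.stalk z)
      (((Scheme.Modules.pullback (f.fiberι s)).obj F).presheaf.stalk z) :=
    IsScalarTower.of_algebraMap_smul fun _ _ => rfl
  have hb := PBH8.isBaseChange_cStalk (f.fiberι s) F z
  haveI := finite_stalk F ((f.fiberι s) z)
  have hker' : RingHom.ker (algebraMap (X.presheaf.stalk ((f.fiberι s) z))
      ((f.fiber s).presheaf.stalk z)) ≤
      IsLocalRing.maximalIdeal (X.presheaf.stalk ((f.fiberι s) z)) := by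
    show RingHom.ker ((f.fiberι s).stalkMap z).hom ≤ _
    rw [hker]
    have hloc : IsLocalHom (f.stalkMap ((f.fiberι s) z)).hom := inferInstance
    exact ((IsLocalRing.local_hom_TFAE (f.stalkMap ((f.fiberι s) z)).hom).out 0 2).mp hloc
  constructor
  · intro h
    exact subsingleton_of_isBaseChange _ hsurj hker' hb
  · intro h
    exact subsingleton_of_isBaseChange_of_subsingleton _ hb

variable [LocallyOfFiniteType f]

/-- Pointwise form of S4831: the fibre module over `s` is torsion iff the complement of the support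
of `F` is dense in the fibre. -/
theorem torsion_fiber_iff (s : S)
    (hint : ∀ x : ↥(f.fiber s), IsDomain ((f.fiber s).presheaf.stalk x)) :
    (∀ x : ↥(f.fiber s), Submodule.torsion ((f.fiber s).presheaf.stalk x)
      (((Scheme.Modules.pullback (f.fiberι s)).obj F).presheaf.stalk x) = ⊤) ↔
      f ⁻¹' {s} ⊆ closure ((CohB1.support F)ᶜ ∩ f ⁻¹' {s}) := by
  haveI : LocallyOfFiniteType (f.fiberToSpecResidueField s) :=
    MorphismProperty.pullback_snd _ _ inferInstance
  haveI : IsLocallyNoetherian (f.fiber s) :=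
    LocallyOfFiniteType.isLocallyNoetherian (f.fiberToSpecResidueField s)
  set G := (Scheme.Modules.pullback (f.fiberι s)).obj F with hG
  haveI : G.IsQuasicoherent := PBH8.isQuasicoherent_pullback (f.fiberι s) F
  haveI : SheafOfModules.IsFiniteType (R := (f.fiber s).ringCatSheaf) G :=
    FpqcH8.isFiniteType_pullback (f.fiberι s) F
  have hrange : ∀ y : X, f y = s → ∃ z : ↥(f.fiber s), (f.fiberι s) z = y := by
    intro y hy
    have : y ∈ Set.range (f.fiberι s) := by
      rw [Scheme.Hom.range_fiberι]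
      exact hy
    exact this
  have hfib : ∀ z : ↥(f.fiber s), f ((f.fiberι s) z) = s := by
    intro z
    have : (f.fiberι s) z ∈ Set.range (f.fiberι s) := ⟨z, rfl⟩
    rw [Scheme.Hom.range_fiberι] at this
    exact this
  constructor
  · intro H x hxs
    obtain ⟨xb, rfl⟩ := hrange x hxs
    haveI := hint xb
    obtain ⟨_, ⟨W, hW, rfl⟩, hxW, -⟩ :=
      (f.fiber s).isBasis_affineOpens.exists_subset_of_mem_open (Set.mem_univ xb) isOpen_univ
    have hW : IsAffineOpen W := hW
    have hxW : xb ∈ W := hxW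
    rw [mem_closure_iff]
    intro O hO hxO
    set O' : (f.fiber s).Opens := ⟨(f.fiberι s) ⁻¹' O, hO.preimage (f.fiberι s).continuous⟩ ⊓ W
      with hO'
    obtain ⟨t, htO, hxt⟩ := hW.exists_basicOpen_le (V := O') ⟨xb, ⟨hxO, hxW⟩⟩ hxW
    obtain ⟨z, hzW, hzt, hzsub⟩ := (torsion_stalk_iff G hW hxW).mp (H xb) t hxt
    refine ⟨(f.fiberι s) z, (htO hzt).1, ?_, hfib z⟩
    show (f.fiberι s) z ∉ CohB1.support F
    intro hmem
    exact hmem ((subsingleton_stalk_fiber_iff f F s z).mp hzsub)
  · intro H xb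
    haveI := hint xb
    obtain ⟨_, ⟨W, hW, rfl⟩, hxW, -⟩ :=
      (f.fiber s).isBasis_affineOpens.exists_subset_of_mem_open (Set.mem_univ xb) isOpen_univ
    have hW : IsAffineOpen W := hW
    have hxW : xb ∈ W := hxW
    rw [torsion_stalk_iff G hW hxW]
    intro t hxt
    obtain ⟨O, hO, hOt⟩ := (f.fiberι s).isEmbedding.isInducing.isOpen_iff.mp
      ((f.fiber s).basicOpen t).2
    have hxO : (f.fiberι s) xb ∈ O := by
      have : xb ∈ (f.fiberι s) ⁻¹' O := by rw [hOt]; exact hxt
      exact this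
    have hcl := H (hfib xb)
    obtain ⟨y, hyO, hyZ, hys⟩ := mem_closure_iff.mp hcl O hO hxO
    obtain ⟨z, rfl⟩ := hrange y hys
    have hzt : z ∈ (f.fiber s).basicOpen t := by
      have : z ∈ (f.fiberι s) ⁻¹' O := hyO
      rw [hOt] at this
      exact this
    refine ⟨z, (f.fiber s).basicOpen_le t hzt, hzt, ?_⟩
    rw [subsingleton_stalk_fiber_iff f F s z]
    by_contra hns
    exact hyZ hns

end Fibre

/-- **S4831.** -/
theorem main4831 (f : X ⟶ S) [IsLocallyNoetherian S]
    [LocallyOfFiniteType f] [QuasiCompact f] (F : X.Modules) [Coh.IsQCoh F] (hF : CohB1.IsFP F)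
    (hint : ∀ (s : S) (x : ↥(f.fiber s)), IsDomain ((f.fiber s).presheaf.stalk x)) :
    Topology.IsLocallyConstructible {s : S | ∀ x : ↥(f.fiber s),
      Submodule.torsion ((f.fiber s).presheaf.stalk x)
        (((Scheme.Modules.pullback (f.fiberι s)).obj F).presheaf.stalk x) = ⊤} := by
  haveI : IsLocallyNoetherian X := LocallyOfFiniteType.isLocallyNoetherian f
  haveI : F.IsQuasicoherent := ‹Coh.IsQCoh F›
  haveI hFT : SheafOfModules.IsFiniteType (R := X.ringCatSheaf) F := isFT_of_isFP F hF
  set Z : Set X := (CohB1.support F)ᶜ with hZ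
  have hZo : IsOpen Z := (SuppFT.isClosed_support F).isOpen_compl
  have h := SetConsH8.main3427 f Z Set.univ (isLocallyConstructible_of_isOpen hZo)
    (isLocallyConstructible_of_isOpen isOpen_univ)
  convert h using 1
  ext s
  simp only [Set.mem_setOf_eq, Set.univ_inter]
  exact torsion_fiber_iff f F s (hint s)

end Groth.Agent.Lib.FibTors
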