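/-
helper5: fibre modules without embedded associated points over an integral noetherian base: generic openness
(EGA IV 9.8.3-type; S5872).
* `isOpen_fibNoEmb_inter`: variant of `isOpen_fibNoEmb` (flatness only over an open of the base).
* `noEmbedded_fiber_iff`: `NoEmbedded (F_s)` in terms of the points of `X` over `s`.
* `exists_open_noEmbedded_or` / `main5872`.
APPEND-ONLY once landed.
-/
import Mathlib
import Groth.Agent.Lib.FibAssDim4_helper5
import Groth.Agent.Lib.GenFlatSch_helper8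
import Groth.Agent.Lib.ProdGen_helper8
import Groth.Agent.Lib.SubComp_helper8
import Groth.Agent.Lib.FibTors2_helper2
import Groth.Agent.S2255

set_option autoImplicit false

namespace Groth.Agent.Lib.FibNoEmbH5

open AlgebraicGeometry CategoryTheory TopologicalSpace TensorProduct
open Groth.Agent.Lib.FibSkH5 Groth.Agent.Lib.FibPdH5 Groth.Agent.Lib.FibRectH5 Groth.Agent.Lib.FibAssH5

universe u

variable {X Y : Scheme.{u}} (f : X ⟶ Y)

/-- the set of points of `X` lying on no embedded associated cycle of the fibre module through them -/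
def NE (F : X.Modules) : Set X :=
  {x : X | ∀ z ∈ AssSch.Ass ((Scheme.Modules.pullback (f.fiberι (f.base x))).obj F),
      f.asFiber x ∈ closure {z} →
      ∀ z' ∈ AssSch.Ass ((Scheme.Modules.pullback (f.fiberι (f.base x))).obj F),
        z ∈ closure {z'} → z' = z}

set_option maxHeartbeats 1000000 in
/-- variant of `isOpen_fibNoEmb` where `F` is only assumed flat over an open subset `U₀` of the base -/
theorem isOpen_fibNoEmb_inter [LocallyOfFinitePresentation f] (F : X.Modules)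
    (hF : CohB1.IsFP F) (U₀ : Y.Opens) (hflat : ∀ x : X, f.base x ∈ U₀ → FlatMod.IsFlatOverAt f F x) :
    IsOpen ({x : X | ∀ z ∈ AssSch.Ass ((Scheme.Modules.pullback (f.fiberι (f.base x))).obj F),
      f.asFiber x ∈ closure {z} →
      ∀ z' ∈ AssSch.Ass ((Scheme.Modules.pullback (f.fiberι (f.base x))).obj F),
        z ∈ closure {z'} → z' = z} ∩ f.base ⁻¹' (U₀ : Set Y)) := by
  classical
  haveI : SheafOfModules.IsFinitePresentation (R := X.ringCatSheaf) F := hF
  haveI : F.IsQuasicoherent := inferInstance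
  rw [noEmb_set_eq, isOpen_iff_forall_mem_open]
  rintro x ⟨hx, hxU₀⟩
  obtain ⟨V, hV, hyV, hVU₀⟩ := Opens.isBasis_iff_nbhd.mp Y.isBasis_affineOpens
    (show f.base x ∈ U₀ from hxU₀)
  obtain ⟨U, hU, hxU, e⟩ := Opens.isBasis_iff_nbhd.mp X.isBasis_affineOpens
    (show x ∈ f ⁻¹ᵁ V from hyV)
  letI algAB : Algebra Γ(Y, V) Γ(X, U) := (f.appLE V U e).hom.toAlgebra
  haveI : Algebra.FinitePresentation Γ(Y, V) Γ(X, U) :=
    HasRingHomProperty.appLE (P := @LocallyOfFinitePresentation) f inferInstance ⟨V, hV⟩ ⟨U, hU⟩ e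
  letI mAM : Module Γ(Y, V) Γ(F, U) := Module.compHom Γ(F, U) (f.appLE V U e).hom
  haveI : IsScalarTower Γ(Y, V) Γ(X, U) Γ(F, U) :=
    IsScalarTower.of_algebraMap_smul (fun _ _ => rfl)
  haveI : Module.FinitePresentation Γ(X, U) Γ(F, U) :=
    QCohFP2.finitePresentation_of_isFinitePresentation F hU
  haveI : Module.Flat Γ(Y, V) Γ(F, U) :=
    FlatSecH8.flat_sections_of_flat_stalks f F hU e (fun x' hx'U =>
      (FlatSecH8.isFlatOverAt_iff_flat_stalk f F hV e hx'U).mp (hflat x' (hVU₀ (e hx'U))))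
  have hopen := isOpen_noEmbR (A := Γ(Y, V)) (B := Γ(X, U)) Γ(F, U)
  have hmemU : ∀ 𝔭 : PrimeSpectrum Γ(X, U), (hU.fromSpec 𝔭 : X) ∈ U :=
    fun 𝔭 => Groth.Agent.SchFTH8.fromSpec_mem hU 𝔭
  have hprime : ∀ 𝔭 : PrimeSpectrum Γ(X, U),
      hU.primeIdealOf ⟨hU.fromSpec 𝔭, hmemU 𝔭⟩ = 𝔭 :=
    fun 𝔭 => Groth.Agent.SchFTH8.primeIdealOf_fromSpec hU 𝔭 (hmemU 𝔭)
  have hass : ∀ 𝔯 : PrimeSpectrum Γ(X, U),
      f.asFiber (hU.fromSpec 𝔯) ∈ AssSch.Ass
        ((Scheme.Modules.pullback (f.fiberι (f.base (hU.fromSpec 𝔯)))).obj F) ↔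
      AssFib Γ(Y, V) Γ(F, U) 𝔯 := by
    intro 𝔯
    have h1 := asFiber_mem_ass_iff f hV hU e F hF (hmemU 𝔯)
    rw [hprime] at h1
    exact h1
  have hiff : ∀ 𝔭 : PrimeSpectrum Γ(X, U), NoEmbR Γ(Y, V) Γ(F, U) 𝔭 ↔
      ∀ x' : X, x' ⤳ hU.fromSpec 𝔭 → f.base x' = f.base (hU.fromSpec 𝔭) →
        f.asFiber x' ∈ AssSch.Ass ((Scheme.Modules.pullback (f.fiberι (f.base x'))).obj F) →
        ∀ x'' : X, x'' ⤳ x' → f.base x'' = f.base x' →
          f.asFiber x'' ∈ AssSch.Ass ((Scheme.Modules.pullback (f.fiberι (f.base x''))).obj F) →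
          x'' = x' := by
    intro 𝔭
    constructor
    · intro h x' hsp hy hass' x'' hsp' hy' hass''
      have hx'U : x' ∈ U := hsp.mem_open U.isOpen (hmemU 𝔭)
      have hx''U : x'' ∈ U := hsp'.mem_open U.isOpen hx'U
      have hxx : (hU.fromSpec (hU.primeIdealOf ⟨x', hx'U⟩) : X) = x' :=
        hU.fromSpec_primeIdealOf ⟨x', hx'U⟩
      have hxx' : (hU.fromSpec (hU.primeIdealOf ⟨x'', hx''U⟩) : X) = x'' :=
        hU.fromSpec_primeIdealOf ⟨x'', hx''U⟩
      have key := h (hU.primeIdealOf ⟨x', hx'U⟩)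
        (by rw [← fromSpec_specializes_iff hU, hxx]; exact hsp)
        ((base_fromSpec_eq_iff f hV hU e (hU.primeIdealOf ⟨x', hx'U⟩) 𝔭).mp
          (by rw [hxx]; exact hy))
        ((hass _).mp (by rw [hxx]; exact hass'))
        (hU.primeIdealOf ⟨x'', hx''U⟩)
        (by rw [← fromSpec_specializes_iff hU, hxx, hxx']; exact hsp')
        ((base_fromSpec_eq_iff f hV hU e (hU.primeIdealOf ⟨x'', hx''U⟩)
          (hU.primeIdealOf ⟨x', hx'U⟩)).mp (by rw [hxx, hxx']; exact hy'))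
        ((hass _).mp (by rw [hxx']; exact hass''))
      rw [← hxx, ← hxx', key]
    · intro h 𝔯 hle hc hassr 𝔯' hle' hc' hassr'
      have h1 := h (hU.fromSpec 𝔯) ((fromSpec_specializes_iff hU 𝔯 𝔭).mpr hle)
        ((base_fromSpec_eq_iff f hV hU e 𝔯 𝔭).mpr hc) ((hass 𝔯).mpr hassr)
        (hU.fromSpec 𝔯') ((fromSpec_specializes_iff hU 𝔯' 𝔯).mpr hle')
        ((base_fromSpec_eq_iff f hV hU e 𝔯' 𝔯).mpr hc') ((hass 𝔯').mpr hassr')
      exact hU.fromSpec.isOpenEmbedding.injective h1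
  refine ⟨(fun 𝔭 : PrimeSpectrum Γ(X, U) => (hU.fromSpec 𝔭 : X)) ''
    {q : PrimeSpectrum Γ(X, U) | NoEmbR Γ(Y, V) Γ(F, U) q}, ?_,
    hU.fromSpec.isOpenEmbedding.isOpenMap _ hopen, ?_⟩
  · rintro _ ⟨𝔭, h𝔭, rfl⟩
    exact ⟨(hiff 𝔭).mp h𝔭, hVU₀ (e (hmemU 𝔭))⟩
  · refine ⟨hU.primeIdealOf ⟨x, hxU⟩, ?_, hU.fromSpec_primeIdealOf ⟨x, hxU⟩⟩
    rw [Set.mem_ofPred_eq, hiff]
    have hxx : (hU.fromSpec (hU.primeIdealOf ⟨x, hxU⟩) : X) = x :=
      hU.fromSpec_primeIdealOf ⟨x, hxU⟩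
    rw [hxx]
    exact hx


/-- `F_s` has no embedded associated point iff every point of `X` over `s` lies in `NE f F` -/
theorem noEmbedded_fiber_iff (F : X.Modules) (s : Y) :
    AssSch.NoEmbedded ((Scheme.Modules.pullback (f.fiberι s)).obj F) ↔
      ∀ x : X, f.base x = s → x ∈ NE f F := by
  constructor
  · intro h x hx
    subst hx
    intro z hz _ z' hz' hzz'
    exact (h z hz z' hz' (specializes_iff_mem_closure.mpr hzz')).symm
  · intro h z hz z' hz' hsp
    have htr := fiber_point_transport f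
      (fun y w => ∀ z₁ ∈ AssSch.Ass ((Scheme.Modules.pullback (f.fiberι y)).obj F),
        w ∈ closure {z₁} →
        ∀ z₂ ∈ AssSch.Ass ((Scheme.Modules.pullback (f.fiberι y)).obj F),
          z₁ ∈ closure {z₂} → z₂ = z₁) s z
    have hmem : f.fiberι s z ∈ NE f F := h _ (Groth.Agent.FibRes2H8.fiberι_mem f s z)
    have hQ := htr.mpr hmem
    exact (hQ z hz (subset_closure rfl) z' hz' (specializes_iff_mem_closure.mp hsp)).symm

set_option maxHeartbeats 800000 in
/-- over an integral noetherian base: a neighbourhood `U` of the generic point, an open `O` of `X` such that over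
`U` the set `NE f F` is `O`, and the image of the complement is not dense if `F_η` has no embedded point. -/
theorem exists_open_NE {X S : Scheme.{u}} [IsIntegral S] [IsNoetherian S]
    (f : X ⟶ S) [LocallyOfFiniteType f] [QuasiCompact f]
    (F : X.Modules) [Coh.IsQCoh F] (hF : CohB1.IsFP F) :
    ∃ U₀ : S.Opens, genericPoint S ∈ U₀ ∧ IsOpen (NE f F ∩ f.base ⁻¹' (U₀ : Set S)) := by
  haveI : F.IsQuasicoherent := ‹Coh.IsQCoh F›
  haveI : SheafOfModules.IsFiniteType (R := X.ringCatSheaf) F :=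
    Groth.Agent.Lib.FibTors.isFT_of_isFP F hF
  haveI : LocallyOfFinitePresentation f :=
    LocallyOfFinitePresentation.iff_locallyOfFiniteType.mpr inferInstance
  obtain ⟨U₀, ⟨s₀, hs₀⟩, hfl⟩ := GenFlatSchH8.generic_flat f F
  refine ⟨U₀, (genericPoint_specializes s₀).mem_open U₀.2 hs₀, ?_⟩
  exact isOpen_fibNoEmb_inter f F hF U₀ hfl

set_option maxHeartbeats 800000 in
/-- **S5872** -/
theorem main5872 {X S : Scheme.{u}} [IsIntegral S] [IsNoetherian S]
    (f : X ⟶ S) [LocallyOfFiniteType f] [QuasiCompact f]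
    (F : X.Modules) [Coh.IsQCoh F] (hF : CohB1.IsFP F)
    (hη : AssSch.NoEmbedded ((Scheme.Modules.pullback (f.fiberι (genericPoint S))).obj F)) :
    ∃ U : S.Opens, genericPoint S ∈ U ∧
      ∀ s ∈ U, AssSch.NoEmbedded ((Scheme.Modules.pullback (f.fiberι s)).obj F) := by
  obtain ⟨U₀, hηU₀, hopen⟩ := exists_open_NE f F hF
  set η := genericPoint S with hηdef
  set C₁ : Set X := (NE f F ∩ f.base ⁻¹' (U₀ : Set S))ᶜ with hC₁
  have hC₁c : IsClosed C₁ := hopen.isClosed_compl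
  have hηC : η ∉ closure (⇑f '' C₁) := by
    intro hcon
    obtain ⟨C'', i, hi, hrange⟩ := ProdGenH8.exists_closedImmersion_range X C₁ hC₁c
    have hrg : Set.range ⇑(i ≫ f) = ⇑f '' C₁ := by
      rw [Scheme.Hom.comp_base, TopCat.coe_comp, Set.range_comp, hrange]
    haveI : IsDominant (i ≫ f) := by
      constructor
      rw [DenseRange, dense_iff_closure_eq, hrg]
      apply Set.eq_univ_of_univ_subset
      intro s _
      have hs : η ⤳ s := genericPoint_specializes s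
      exact hs.mem_closed isClosed_closure hcon
    have hcompη : closure ({η} : Set S) ∈ irreducibleComponents ↥S := by
      rw [SubCompH8.closure_mem_irreducibleComponents_iff]
      intro z hz
      exact ((genericPoint_specializes z).antisymm hz).eq.symm
    obtain ⟨x, -, hx⟩ := (Groth.Agent.S2255.result (i ≫ f)).mp inferInstance η hcompη
    have hixC : i x ∈ C₁ := hrange ▸ Set.mem_range_self x
    apply hixC
    have hfx : f.base (i x) = η := hx
    refine ⟨(noEmbedded_fiber_iff f F η).mp hη (i x) hfx, ?_⟩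
    show f.base (i x) ∈ U₀
    rw [hfx]; exact hηU₀
  refine ⟨U₀ ⊓ ⟨(closure (⇑f '' C₁))ᶜ, isClosed_closure.isOpen_compl⟩, ⟨hηU₀, hηC⟩, ?_⟩
  rintro s ⟨hsU₀, hsC⟩
  rw [noEmbedded_fiber_iff]
  intro x hx
  by_contra hxNE
  apply hsC
  apply subset_closure
  refine ⟨x, ?_, hx⟩
  intro hmem
  exact hxNE hmem.1

end Groth.Agent.Lib.FibNoEmbH5
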