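import Mathlib
import Groth.Agent.Lib.SpecLen2_helper5
import Groth.Agent.Lib.FibAssDim4_helper5
import Groth.Agent.Lib.FibNoEmb1_helper5
import Groth.Agent.Lib.SuppTens2_helper8
import Groth.Agent.Lib.AnnSh2_helper8
import Groth.Agent.Lib.SuppFT_helper9
import Groth.Agent.Lib.FibRes2_helper8

/-!
# Lengths at maximal points of the support under specialization over a DVR, part 3 (helper5)

Scheme-level dictionary: `finite_maxPts` (maximal points of a closed subset of a Noetherian sober
space), `aLen` (length of the stalk of the fibre module), `MaxSupp` (maximal points of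
`Supp F ∩ X_s`), `finsum_fibre_eq` (the sums of S4980 as sums over points of `X`), `aLen_eq_lam`,
`fromSpec_mem_support_iff`.

APPEND-ONLY once landed.
-/

set_option autoImplicit false

namespace Groth.Agent.Lib.SpecLenH5

open AlgebraicGeometry CategoryTheory TopologicalSpace
open Groth.Agent.Lib.FibSkH5 Groth.Agent.Lib.FibPdH5 Groth.Agent.Lib.FibRectH5
  Groth.Agent.Lib.FibAssH5

universe u

section Topology

/-- the maximal points of a closed subset of a Noetherian sober space are finite in number -/
theorem finite_maxPts {T : Type*} [TopologicalSpace T] [NoetherianSpace T] [QuasiSober T]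
    [T0Space T] (Z : Set T) (hZ : IsClosed Z) :
    {x | x ∈ Z ∧ ∀ w ∈ Z, w ⤳ x → w = x}.Finite := by
  obtain ⟨S, hSfin, hScl, hSirr, hZS⟩ := NoetherianSpace.exists_finite_set_isClosed_irreducible hZ
  have hfin : (⋃ t ∈ S, {x : T | IsGenericPoint x t}).Finite := by
    apply Set.Finite.biUnion hSfin
    intro t _
    apply Set.Subsingleton.finite
    intro a ha b hb
    exact IsGenericPoint.eq ha hb
  apply hfin.subset
  rintro x ⟨hxZ, hmax⟩
  rw [hZS] at hxZ
  obtain ⟨t, htS, hxt⟩ := hxZ
  obtain ⟨g, hg⟩ := QuasiSober.sober (hSirr t htS) (hScl t htS)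
  have hgt : g ∈ t := hg.mem
  have hgZ : g ∈ Z := by
    rw [hZS]
    exact ⟨t, htS, hgt⟩
  have hgx : g ⤳ x := hg.specializes hxt
  have := hmax g hgZ hgx
  subst this
  simp only [Set.mem_iUnion]
  exact ⟨t, htS, hg⟩

end Topology

section Defs

variable {X Y : Scheme.{u}} (f : X ⟶ Y) (F : X.Modules)

/-- the length of the stalk at `x` of the restriction of `F` to the fibre through `x`, over the
local ring of the fibre -/
noncomputable def aLen (x : X) : ℕ∞ :=
  Module.length ((f.fiber (f x)).presheaf.stalk (f.asFiber x))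
    (((Scheme.Modules.pullback (f.fiberι (f x))).obj F).presheaf.stalk (f.asFiber x))

/-- the maximal points of `Supp F ∩ X_s` -/
def MaxSupp (s : Y) : Set X :=
  {x | f x = s ∧ x ∈ CohB1.support F ∧
    ∀ w : X, f w = s → w ∈ CohB1.support F → w ⤳ x → w = x}

/-- transport of a fibrewise quantity between `(y, x')` and `(f x, asFiber x)` -/
theorem fiber_fun_transport {α : Sort*} (Q : ∀ (y : Y), f.fiber y → α) (y : Y) (x' : f.fiber y) :
    Q y x' = Q (f (f.fiberι y x')) (f.asFiber (f.fiberι y x')) := by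
  have hy : f (f.fiberι y x') = y := Groth.Agent.FibRes2H8.fiberι_mem f y x'
  have key : ∀ (y₀ : Y) (h : y₀ = y) (z : f.fiber y₀), f.fiberι y₀ z = f.fiberι y x' →
      (Q y x' = Q y₀ z) := by
    intro y₀ h z hz
    subst h
    have : z = x' := (f.fiberι y₀).isEmbedding.injective hz
    rw [this]
  exact key _ hy _ (f.fiberι_asFiber _)

variable [F.IsQuasicoherent] [SheafOfModules.IsFiniteType (R := X.ringCatSheaf) F]

/-- the sum of the statement of S4980 over the maximal points of the support of `F_s`, as a sum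
over points of `X` -/
theorem finsum_fibre_eq (s : Y) :
    ∑ᶠ z : {v : ↥(f.fiber s) //
        Nontrivial (((Scheme.Modules.pullback (f.fiberι s)).obj F).presheaf.stalk v) ∧
        ∀ w : ↥(f.fiber s),
          Nontrivial (((Scheme.Modules.pullback (f.fiberι s)).obj F).presheaf.stalk w) →
          v ∈ closure {w} → w = v},
        Module.length ((f.fiber s).presheaf.stalk z.1)
          (((Scheme.Modules.pullback (f.fiberι s)).obj F).presheaf.stalk z.1) =
      ∑ᶠ x ∈ MaxSupp f F s, aLen f F x := by
  refine Eq.trans (finsum_subtype_eq_finsum_cond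
    (f := fun v : ↥(f.fiber s) => Module.length ((f.fiber s).presheaf.stalk v)
      (((Scheme.Modules.pullback (f.fiberι s)).obj F).presheaf.stalk v))
    (fun v : ↥(f.fiber s) =>
        Nontrivial (((Scheme.Modules.pullback (f.fiberι s)).obj F).presheaf.stalk v) ∧
        ∀ w : ↥(f.fiber s),
          Nontrivial (((Scheme.Modules.pullback (f.fiberι s)).obj F).presheaf.stalk w) →
          v ∈ closure {w} → w = v)) ?_
  have hsupp : ∀ v : f.fiber s,
      Nontrivial (((Scheme.Modules.pullback (f.fiberι s)).obj F).presheaf.stalk v) ↔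
        f.fiberι s v ∈ CohB1.support F := by
    intro v
    have h := SuppTensH8.support_pullback (f.fiberι s) F
    have h2 : v ∈ CohB1.support ((Scheme.Modules.pullback (f.fiberι s)).obj F) ↔
        f.fiberι s v ∈ CohB1.support F := by
      rw [h]; rfl
    rw [← h2]
    exact not_subsingleton_iff_nontrivial.symm
  refine finsum_mem_eq_of_bijOn (s := {v : ↥(f.fiber s) |
        Nontrivial (((Scheme.Modules.pullback (f.fiberι s)).obj F).presheaf.stalk v) ∧
        ∀ w : ↥(f.fiber s),
          Nontrivial (((Scheme.Modules.pullback (f.fiberι s)).obj F).presheaf.stalk w) →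
          v ∈ closure {w} → w = v}) (f.fiberι s) ⟨?_, ?_, ?_⟩ ?_
  · rintro v ⟨hv1, hv2⟩
    refine ⟨Groth.Agent.FibRes2H8.fiberι_mem f s v, (hsupp v).mp hv1, ?_⟩
    intro w hws hwF hwv
    have hw : w ∈ Set.range (f.fiberι s) := by
      rw [f.range_fiberι s]; exact hws
    obtain ⟨w', rfl⟩ := hw
    have hsp : w' ⤳ v := (Groth.Agent.FibRes2H8.specializes_fiber_iff f s w' v).mpr hwv
    rw [hv2 w' ((hsupp w').mpr hwF) (specializes_iff_mem_closure.mp hsp)]
  · exact (f.fiberι s).isEmbedding.injective.injOn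
  · rintro x ⟨hxs, hxF, hmax⟩
    have hx : x ∈ Set.range (f.fiberι s) := by
      rw [f.range_fiberι s]; exact hxs
    obtain ⟨v, rfl⟩ := hx
    refine ⟨v, ⟨(hsupp v).mpr hxF, ?_⟩, rfl⟩
    intro w hw hvw
    have hsp : f.fiberι s w ⤳ f.fiberι s v :=
      (Groth.Agent.FibRes2H8.specializes_fiber_iff f s w v).mp
        (specializes_iff_mem_closure.mpr hvw)
    exact (f.fiberι s).isEmbedding.injective
      (hmax _ (Groth.Agent.FibRes2H8.fiberι_mem f s w) ((hsupp w).mp hw) hsp)
  · intro v _
    exact fiber_fun_transport f (fun y z => Module.length ((f.fiber y).presheaf.stalk z)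
      (((Scheme.Modules.pullback (f.fiberι y)).obj F).presheaf.stalk z)) s v

end Defs

section Chart

variable {X Y : Scheme.{u}} (f : X ⟶ Y) {V : Y.Opens} (hV : IsAffineOpen V) {U : X.Opens}
  (hU : IsAffineOpen U) (e : U ≤ f ⁻¹ᵁ V) (F : X.Modules) [F.IsQuasicoherent]

include hV in
/-- the length of the fibre module at a point of an affine chart, in ring terms -/
theorem aLen_eq_lam {x : X} (hxU : x ∈ U) :
    letI : Algebra Γ(Y, V) Γ(X, U) := (f.appLE V U e).hom.toAlgebra
    aLen f F x = lam Γ(Y, V) Γ(F, U) (hU.primeIdealOf ⟨x, hxU⟩) := by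
  letI algAB : Algebra Γ(Y, V) Γ(X, U) := (f.appLE V U e).hom.toAlgebra
  obtain ⟨σ, ε, hε⟩ := exists_semilinear_fibMod f hV hU e F hxU
  exact (length_eq_of_semilinear σ ε hε).symm

/-- support in an affine chart -/
theorem fromSpec_mem_support_iff [SheafOfModules.IsFiniteType (R := X.ringCatSheaf) F]
    [Module.Finite Γ(X, U) Γ(F, U)] (𝔭 : PrimeSpectrum Γ(X, U)) :
    hU.fromSpec 𝔭 ∈ CohB1.support F ↔ Module.annihilator Γ(X, U) Γ(F, U) ≤ 𝔭.asIdeal := by
  have h := AnnSh2H8.mem_support_iff F hU (Groth.Agent.SchFTH8.fromSpec_mem hU 𝔭)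
  rw [Groth.Agent.SchFTH8.primeIdealOf_fromSpec] at h
  rw [← h, Module.mem_support_iff_of_finite]

end Chart

end Groth.Agent.Lib.SpecLenH5
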