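import Mathlib
import Groth.Agent.Lib.SpecLen3_helper5
import Groth.Agent.Lib.FlatSec_helper8
import Groth.Agent.Lib.AffStalk_helper3

/-!
# Lengths at maximal points of the support under specialization over a DVR, part 4 (helper5)

Dictionary for the maximal points of `Supp F ∩ X_s` in an affine chart, over a base with a closed
point `y` cut out by `π` and a generic point `y'` (`DVRBase`): `generic_max_iff`, `special_max_iff`
(ring level), `primeIdealOf_closed`, `primeIdealOf_generic`, `fromSpec_mem_maxSupp_iff`,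
`fromSpec_mem_maxSupp_special_iff`, `fromSpec_mem_maxSupp_generic_iff`.

APPEND-ONLY once landed.
-/

set_option autoImplicit false

namespace Groth.Agent.Lib.SpecLenH5

open AlgebraicGeometry CategoryTheory TopologicalSpace IsLocalRing
open Groth.Agent.Lib.FibSkH5 Groth.Agent.Lib.FibPdH5 Groth.Agent.Lib.FibRectH5
  Groth.Agent.Lib.FibAssH5

universe u

section RingDict

variable {A B : Type u} [CommRing A] [CommRing B] [Algebra A B]
  (M : Type u) [AddCommGroup M] [Module B M] (π : A)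

/-- the maximal points of the support over the generic point, in ring terms -/
theorem generic_max_iff (hreg : IsSMulRegular M (algebraMap A B π))
    (hA : ∀ P : Ideal A, P.IsPrime → π ∉ P → P = ⊥) (𝔭 : PrimeSpectrum B) :
    (𝔭.asIdeal.comap (algebraMap A B) = ⊥ ∧ Module.annihilator B M ≤ 𝔭.asIdeal ∧
      ∀ 𝔯 : PrimeSpectrum B, 𝔯.asIdeal.comap (algebraMap A B) = ⊥ →
        Module.annihilator B M ≤ 𝔯.asIdeal → 𝔯 ≤ 𝔭 → 𝔯 = 𝔭) ↔
      𝔭.asIdeal ∈ (Module.annihilator B M).minimalPrimes := by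
  constructor
  · rintro ⟨h0, h1, h2⟩
    refine ⟨⟨𝔭.isPrime, h1⟩, ?_⟩
    intro Q hQ hQ𝔭
    have hQ0 : (⟨Q, hQ.1⟩ : PrimeSpectrum B).asIdeal.comap (algebraMap A B) = ⊥ := by
      apply le_bot_iff.mp
      rw [← h0]
      exact Ideal.comap_mono hQ𝔭
    have := h2 ⟨Q, hQ.1⟩ hQ0 hQ.2 hQ𝔭
    rw [← this]
  · intro h
    have hτ : algebraMap A B π ∉ 𝔭.asIdeal := hreg.notMem_of_mem_minimalPrimes h
    refine ⟨hA _ (Ideal.comap_isPrime _ _) hτ, h.1.2, ?_⟩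
    intro 𝔯 _ h1 h2
    exact le_antisymm h2 (h.2 ⟨𝔯.isPrime, h1⟩ h2)

/-- the maximal points of the support over the closed point, in ring terms -/
theorem special_max_iff (hm : (Ideal.span {π}).IsMaximal) (𝔭 : PrimeSpectrum B) :
    (𝔭.asIdeal.comap (algebraMap A B) = Ideal.span {π} ∧ Module.annihilator B M ≤ 𝔭.asIdeal ∧
      ∀ 𝔯 : PrimeSpectrum B, 𝔯.asIdeal.comap (algebraMap A B) = Ideal.span {π} →
        Module.annihilator B M ≤ 𝔯.asIdeal → 𝔯 ≤ 𝔭 → 𝔯 = 𝔭) ↔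
      𝔭.asIdeal ∈ (Module.annihilator B M ⊔ Ideal.span {algebraMap A B π}).minimalPrimes := by
  have hcm : ∀ Q : Ideal B, Q.IsPrime → algebraMap A B π ∈ Q →
      Q.comap (algebraMap A B) = Ideal.span {π} := by
    intro Q hQ hτ
    have hle : Ideal.span {π} ≤ Q.comap (algebraMap A B) := by
      rw [Ideal.span_le, Set.singleton_subset_iff]
      exact hτ
    exact (hm.eq_of_le (Ideal.comap_isPrime _ _).ne_top hle).symm
  have hmem : ∀ Q : Ideal B, Q.comap (algebraMap A B) = Ideal.span {π} →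
      algebraMap A B π ∈ Q := by
    intro Q hQ
    have : π ∈ Q.comap (algebraMap A B) := by
      rw [hQ]; exact Ideal.subset_span rfl
    exact this
  constructor
  · rintro ⟨h0, h1, h2⟩
    have hτ := hmem _ h0
    refine ⟨⟨𝔭.isPrime, sup_le h1 ?_⟩, ?_⟩
    · rw [Ideal.span_le, Set.singleton_subset_iff]
      exact hτ
    · intro Q hQ hQ𝔭
      have hτQ : algebraMap A B π ∈ Q := hQ.2 (le_sup_right (a := Module.annihilator B M)
        (Ideal.subset_span rfl))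
      have := h2 ⟨Q, hQ.1⟩ (hcm Q hQ.1 hτQ) (le_sup_left.trans hQ.2) hQ𝔭
      rw [← this]
  · intro h
    have hτ : algebraMap A B π ∈ 𝔭.asIdeal := h.1.2 (le_sup_right (a := Module.annihilator B M)
      (Ideal.subset_span rfl))
    refine ⟨hcm _ 𝔭.isPrime hτ, le_sup_left.trans h.1.2, ?_⟩
    intro 𝔯 h0 h1 h2
    refine le_antisymm h2 (h.2 ⟨𝔯.isPrime, sup_le h1 ?_⟩ h2)
    rw [Ideal.span_le, Set.singleton_subset_iff]
    exact hmem _ h0

end RingDict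

section BaseDict

variable {Y : Scheme.{u}} {V : Y.Opens} (hV : IsAffineOpen V)

include hV in
/-- a point of `V` to which all points of `V` specialize corresponds to the maximal ideal -/
theorem primeIdealOf_closed [IsLocalRing Γ(Y, V)] (y : Y) (hyV : y ∈ V)
    (hy : ∀ s : Y, s ∈ V → s ⤳ y) :
    (hV.primeIdealOf ⟨y, hyV⟩).asIdeal = maximalIdeal Γ(Y, V) := by
  set 𝔪 : PrimeSpectrum Γ(Y, V) := ⟨maximalIdeal _, inferInstance⟩ with h𝔪
  have h1 : (hV.fromSpec 𝔪 : Y) ⤳ y := hy _ (Groth.Agent.SchFTH8.fromSpec_mem hV 𝔪)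
  have h2 : hV.fromSpec (hV.primeIdealOf ⟨y, hyV⟩) = y := hV.fromSpec_primeIdealOf ⟨y, hyV⟩
  rw [← h2, fromSpec_specializes_iff] at h1
  exact ((maximalIdeal.isMaximal _).eq_of_le (hV.primeIdealOf ⟨y, hyV⟩).isPrime.ne_top h1).symm

include hV in
/-- a point of `V` specializing to all points of `V` corresponds to the zero ideal -/
theorem primeIdealOf_generic [IsDomain Γ(Y, V)] (y' : Y) (hyV : y' ∈ V)
    (hy' : ∀ s : Y, s ∈ V → y' ⤳ s) :
    (hV.primeIdealOf ⟨y', hyV⟩).asIdeal = ⊥ := by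
  set 𝔬 : PrimeSpectrum Γ(Y, V) := ⟨⊥, Ideal.isPrime_bot⟩ with h𝔬
  have h1 : y' ⤳ (hV.fromSpec 𝔬 : Y) := hy' _ (Groth.Agent.SchFTH8.fromSpec_mem hV 𝔬)
  have h2 : hV.fromSpec (hV.primeIdealOf ⟨y', hyV⟩) = y' := hV.fromSpec_primeIdealOf ⟨y', hyV⟩
  rw [← h2, fromSpec_specializes_iff] at h1
  exact le_bot_iff.mp h1

variable {X : Scheme.{u}} (f : X ⟶ Y) {U : X.Opens} (hU : IsAffineOpen U) (e : U ≤ f ⁻¹ᵁ V)

include hV in
/-- the image of a point of an affine chart, in ring terms -/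
theorem base_fromSpec_eq_iff' (s : Y) (hsV : s ∈ V) (𝔭 : PrimeSpectrum Γ(X, U)) :
    f (hU.fromSpec 𝔭) = s ↔
      𝔭.asIdeal.comap (f.appLE V U e).hom = (hV.primeIdealOf ⟨s, hsV⟩).asIdeal := by
  rw [comap_eq_primeIdealOf f hV hU e]
  constructor
  · intro h
    have : (⟨f (hU.fromSpec 𝔭), e (Groth.Agent.SchFTH8.fromSpec_mem hU 𝔭)⟩ : V) = ⟨s, hsV⟩ :=
      Subtype.ext h
    rw [this]
  · intro h
    have h' := Groth.Agent.Lib.AffStalk_helper3.primeIdealOf_injective hV (PrimeSpectrum.ext h)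
    exact congrArg Subtype.val h'

end BaseDict

section ChartMax

variable {X Y : Scheme.{u}} (f : X ⟶ Y) {V : Y.Opens} (hV : IsAffineOpen V) {U : X.Opens}
  (hU : IsAffineOpen U) (e : U ≤ f ⁻¹ᵁ V) (F : X.Modules) [F.IsQuasicoherent]
  [SheafOfModules.IsFiniteType (R := X.ringCatSheaf) F] [Module.Finite Γ(X, U) Γ(F, U)]

/-- maximal points of `Supp F ∩ X_s` in an affine chart -/
theorem fromSpec_mem_maxSupp_iff (s : Y) (𝔭 : PrimeSpectrum Γ(X, U)) :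
    hU.fromSpec 𝔭 ∈ MaxSupp f F s ↔
      f (hU.fromSpec 𝔭) = s ∧ Module.annihilator Γ(X, U) Γ(F, U) ≤ 𝔭.asIdeal ∧
        ∀ 𝔯 : PrimeSpectrum Γ(X, U), f (hU.fromSpec 𝔯) = s →
          Module.annihilator Γ(X, U) Γ(F, U) ≤ 𝔯.asIdeal → 𝔯 ≤ 𝔭 → 𝔯 = 𝔭 := by
  have hinj : Function.Injective (hU.fromSpec : PrimeSpectrum Γ(X, U) → X) :=
    hU.fromSpec.isOpenEmbedding.injective
  constructor
  · rintro ⟨h1, h2, h3⟩
    refine ⟨h1, (fromSpec_mem_support_iff hU F 𝔭).mp h2, ?_⟩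
    intro 𝔯 hr1 hr2 hr3
    exact hinj (h3 _ hr1 ((fromSpec_mem_support_iff hU F 𝔯).mpr hr2)
      ((fromSpec_specializes_iff hU 𝔯 𝔭).mpr hr3))
  · rintro ⟨h1, h2, h3⟩
    refine ⟨h1, (fromSpec_mem_support_iff hU F 𝔭).mpr h2, ?_⟩
    intro w hw1 hw2 hw3
    have hwU : w ∈ U := hw3.mem_open U.2 (Groth.Agent.SchFTH8.fromSpec_mem hU 𝔭)
    have hw : hU.fromSpec (hU.primeIdealOf ⟨w, hwU⟩) = w := hU.fromSpec_primeIdealOf ⟨w, hwU⟩
    rw [← hw] at hw1 hw2 hw3 ⊢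
    rw [h3 _ hw1 ((fromSpec_mem_support_iff hU F _).mp hw2)
      ((fromSpec_specializes_iff hU _ 𝔭).mp hw3)]

end ChartMax

section DVR

/-- the base is the spectrum of a ring with a closed point `y`, cut out by `π`, and a generic
point `y'`, and no other prime avoids `π` (e.g. a discrete valuation ring) -/
structure DVRBase {Y : Scheme.{u}} [IsAffine Y] (y y' : Y) (π : Γ(Y, ⊤)) : Prop where
  hyp : ((isAffineOpen_top Y).primeIdealOf ⟨y, trivial⟩).asIdeal = Ideal.span {π}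
  hyp' : ((isAffineOpen_top Y).primeIdealOf ⟨y', trivial⟩).asIdeal = ⊥
  hm : (Ideal.span {π}).IsMaximal
  hA : ∀ P : Ideal Γ(Y, ⊤), P.IsPrime → π ∉ P → P = ⊥
  hy : ∀ s : Y, s ⤳ y
  hy' : ∀ s : Y, y' ⤳ s

variable {X Y : Scheme.{u}} [IsAffine Y] (f : X ⟶ Y) (F : X.Modules) [F.IsQuasicoherent]
  [SheafOfModules.IsFiniteType (R := X.ringCatSheaf) F]
  {y y' : Y} {π : Γ(Y, ⊤)} (hD : DVRBase y y' π)
  {U : X.Opens} (hU : IsAffineOpen U) (e : U ≤ f ⁻¹ᵁ ⊤) [Module.Finite Γ(X, U) Γ(F, U)]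

include hD in
theorem base_special_iff (𝔭 : PrimeSpectrum Γ(X, U)) :
    letI : Algebra Γ(Y, ⊤) Γ(X, U) := (f.appLE ⊤ U e).hom.toAlgebra
    f (hU.fromSpec 𝔭) = y ↔
      𝔭.asIdeal.comap (algebraMap Γ(Y, ⊤) Γ(X, U)) = Ideal.span {π} := by
  letI algAB : Algebra Γ(Y, ⊤) Γ(X, U) := (f.appLE ⊤ U e).hom.toAlgebra
  rw [base_fromSpec_eq_iff' (isAffineOpen_top Y) f hU e y trivial 𝔭, hD.hyp]
  rfl

include hD in
theorem base_generic_iff (𝔭 : PrimeSpectrum Γ(X, U)) :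
    letI : Algebra Γ(Y, ⊤) Γ(X, U) := (f.appLE ⊤ U e).hom.toAlgebra
    f (hU.fromSpec 𝔭) = y' ↔
      𝔭.asIdeal.comap (algebraMap Γ(Y, ⊤) Γ(X, U)) = ⊥ := by
  letI algAB : Algebra Γ(Y, ⊤) Γ(X, U) := (f.appLE ⊤ U e).hom.toAlgebra
  rw [base_fromSpec_eq_iff' (isAffineOpen_top Y) f hU e y' trivial 𝔭, hD.hyp']
  rfl

include hD in
/-- maximal points of `Supp F ∩ X_y` in a chart -/
theorem fromSpec_mem_maxSupp_special_iff (𝔭 : PrimeSpectrum Γ(X, U)) :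
    letI : Algebra Γ(Y, ⊤) Γ(X, U) := (f.appLE ⊤ U e).hom.toAlgebra
    hU.fromSpec 𝔭 ∈ MaxSupp f F y ↔
      𝔭.asIdeal ∈ (Module.annihilator Γ(X, U) Γ(F, U) ⊔
        Ideal.span {algebraMap Γ(Y, ⊤) Γ(X, U) π}).minimalPrimes := by
  letI algAB : Algebra Γ(Y, ⊤) Γ(X, U) := (f.appLE ⊤ U e).hom.toAlgebra
  rw [fromSpec_mem_maxSupp_iff f hU F, ← special_max_iff Γ(F, U) π hD.hm 𝔭]
  have hb := base_special_iff f hD hU e
  constructor
  · rintro ⟨h1, h2, h3⟩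
    exact ⟨(hb 𝔭).mp h1, h2, fun 𝔯 hr => h3 𝔯 ((hb 𝔯).mpr hr)⟩
  · rintro ⟨h1, h2, h3⟩
    exact ⟨(hb 𝔭).mpr h1, h2, fun 𝔯 hr => h3 𝔯 ((hb 𝔯).mp hr)⟩

include hD in
/-- maximal points of `Supp F ∩ X_{y'}` in a chart -/
theorem fromSpec_mem_maxSupp_generic_iff
    (hreg : IsSMulRegular Γ(F, U) ((f.appLE ⊤ U e).hom π)) (𝔭 : PrimeSpectrum Γ(X, U)) :
    hU.fromSpec 𝔭 ∈ MaxSupp f F y' ↔
      𝔭.asIdeal ∈ (Module.annihilator Γ(X, U) Γ(F, U)).minimalPrimes := by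
  letI algAB : Algebra Γ(Y, ⊤) Γ(X, U) := (f.appLE ⊤ U e).hom.toAlgebra
  rw [fromSpec_mem_maxSupp_iff f hU F, ← generic_max_iff (A := Γ(Y, ⊤)) Γ(F, U) π hreg hD.hA 𝔭]
  have hb := base_generic_iff f hD hU e
  constructor
  · rintro ⟨h1, h2, h3⟩
    exact ⟨(hb 𝔭).mp h1, h2, fun 𝔯 hr => h3 𝔯 ((hb 𝔯).mpr hr)⟩
  · rintro ⟨h1, h2, h3⟩
    exact ⟨(hb 𝔭).mpr h1, h2, fun 𝔯 hr => h3 𝔯 ((hb 𝔯).mp hr)⟩

end DVR

end Groth.Agent.Lib.SpecLenH5
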