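import Mathlib
import Groth.Agent.Lib.SpecLen4_helper5
import Groth.Agent.Lib.TFFree_helper8
import Groth.Agent.Lib.QCohFT_helper9

/-!
# Lengths at maximal points of the support under specialization over a DVR, part 5 (helper5)

* `exists_specialization`: every maximal point of `Supp F` over the generic point specializes to
  a maximal point of `Supp F ∩ X_y` (properness + no embedded point of `F_y`);
* `sum_aLen_le`: the local inequality at a maximal point of `Supp F ∩ X_y`;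
* `main_aux`: the inequality of S4980 over an abstract base (`DVRBase`).

APPEND-ONLY once landed.
-/

set_option autoImplicit false

namespace Groth.Agent.Lib.SpecLenH5

open AlgebraicGeometry CategoryTheory TopologicalSpace IsLocalRing
open Groth.Agent.Lib.FibSkH5 Groth.Agent.Lib.FibPdH5 Groth.Agent.Lib.FibRectH5
  Groth.Agent.Lib.FibAssH5

universe u

section FromSpecForms

variable {X Y : Scheme.{u}} (f : X ⟶ Y) {V : Y.Opens} (hV : IsAffineOpen V) {U : X.Opens}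
  (hU : IsAffineOpen U) (e : U ≤ f ⁻¹ᵁ V) (F : X.Modules) [F.IsQuasicoherent]

include hV in
theorem aLen_fromSpec_eq_lam (𝔭 : PrimeSpectrum Γ(X, U)) :
    letI : Algebra Γ(Y, V) Γ(X, U) := (f.appLE V U e).hom.toAlgebra
    aLen f F (hU.fromSpec 𝔭) = lam Γ(Y, V) Γ(F, U) 𝔭 := by
  letI algAB : Algebra Γ(Y, V) Γ(X, U) := (f.appLE V U e).hom.toAlgebra
  have h := aLen_eq_lam f hV hU e F (Groth.Agent.SchFTH8.fromSpec_mem hU 𝔭)
  rwa [Groth.Agent.SchFTH8.primeIdealOf_fromSpec] at h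

include hV in
theorem asFiber_fromSpec_mem_ass_iff [LocallyOfFinitePresentation f] (hF : CohB1.IsFP F)
    (𝔭 : PrimeSpectrum Γ(X, U)) :
    letI : Algebra Γ(Y, V) Γ(X, U) := (f.appLE V U e).hom.toAlgebra
    f.asFiber (hU.fromSpec 𝔭) ∈
        AssSch.Ass ((Scheme.Modules.pullback (f.fiberι (f (hU.fromSpec 𝔭)))).obj F) ↔
      AssFib Γ(Y, V) Γ(F, U) 𝔭 := by
  letI algAB : Algebra Γ(Y, V) Γ(X, U) := (f.appLE V U e).hom.toAlgebra
  have h := asFiber_mem_ass_iff f hV hU e F hF (Groth.Agent.SchFTH8.fromSpec_mem hU 𝔭)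
  rwa [Groth.Agent.SchFTH8.primeIdealOf_fromSpec] at h

end FromSpecForms

section Main

variable {X Y : Scheme.{u}} [IsAffine Y] (f : X ⟶ Y) (F : X.Modules) [F.IsQuasicoherent]
  [SheafOfModules.IsFiniteType (R := X.ringCatSheaf) F]
  {y y' : Y} {π : Γ(Y, ⊤)} (hD : DVRBase y y' π)

set_option maxHeartbeats 1000000 in
include hD in
/-- every maximal point of `Supp F` over `y'` specializes to a maximal point of `Supp F ∩ X_y`,
when `f` is proper, `π` is `F`-regular and `F_y` has no embedded point -/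
theorem exists_specialization [IsProper f] [IsLocallyNoetherian Y]
    (hreg : ∀ (U : X.Opens) (_ : IsAffineOpen U) (e : U ≤ f ⁻¹ᵁ ⊤),
      IsSMulRegular Γ(F, U) ((f.appLE ⊤ U e).hom π))
    (hemb : AssSch.NoEmbedded ((Scheme.Modules.pullback (f.fiberι y)).obj F))
    {x' : X} (hx' : x' ∈ MaxSupp f F y') : ∃ x ∈ MaxSupp f F y, x' ⤳ x := by
  haveI : IsLocallyNoetherian X := LocallyOfFiniteType.isLocallyNoetherian f
  haveI : LocallyOfFinitePresentation f :=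
    LocallyOfFinitePresentation.iff_locallyOfFiniteType.mpr inferInstance
  have hfp : CohB1.IsFP F := FLFH8.isFinitePresentation_of_isCoh F
  -- a point of the closure over `y`
  have hcl : IsClosed (f '' closure {x'}) := f.isClosedMap _ isClosed_closure
  have hy'mem : y' ∈ f '' closure {x'} := ⟨x', subset_closure rfl, hx'.1⟩
  have hymem : y ∈ f '' closure {x'} := (hD.hy' y).mem_closed hcl hy'mem
  obtain ⟨x₀, hx₀cl, hx₀y⟩ := hymem
  have hsp₀ : x' ⤳ x₀ := specializes_iff_mem_closure.mpr hx₀cl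
  -- an affine chart
  obtain ⟨U, hU', hx₀U, -⟩ := (Opens.isBasis_iff_nbhd.mp X.isBasis_affineOpens)
    (show x₀ ∈ (⊤ : X.Opens) from trivial)
  have hU : IsAffineOpen U := hU'
  have e : U ≤ f ⁻¹ᵁ ⊤ := fun _ _ => trivial
  letI algAB : Algebra Γ(Y, ⊤) Γ(X, U) := (f.appLE ⊤ U e).hom.toAlgebra
  haveI : IsNoetherianRing Γ(X, U) := IsLocallyNoetherian.component_noetherian ⟨U, hU⟩
  haveI : Module.Finite Γ(X, U) Γ(F, U) := QCohFT.finite_of_isFiniteType F hU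
  have hx'U : x' ∈ U := hsp₀.mem_open U.2 hx₀U
  set 𝔮₀ := hU.primeIdealOf ⟨x₀, hx₀U⟩ with h𝔮₀
  set 𝔮' := hU.primeIdealOf ⟨x', hx'U⟩ with h𝔮'
  have h₀ : hU.fromSpec 𝔮₀ = x₀ := hU.fromSpec_primeIdealOf ⟨x₀, hx₀U⟩
  have h' : hU.fromSpec 𝔮' = x' := hU.fromSpec_primeIdealOf ⟨x', hx'U⟩
  have hle : 𝔮' ≤ 𝔮₀ := by
    rw [← h₀, ← h'] at hsp₀
    exact (fromSpec_specializes_iff hU _ _).mp hsp₀
  have hregU : IsSMulRegular Γ(F, U) (algebraMap Γ(Y, ⊤) Γ(X, U) π) := hreg U hU e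
  have hmin' : 𝔮'.asIdeal ∈ (Module.annihilator Γ(X, U) Γ(F, U)).minimalPrimes := by
    apply (fromSpec_mem_maxSupp_generic_iff f F hD hU e hregU 𝔮').mp
    rw [h']; exact hx'
  have hτ₀ : algebraMap Γ(Y, ⊤) Γ(X, U) π ∈ 𝔮₀.asIdeal := by
    have h1 : f (hU.fromSpec 𝔮₀) = y := by rw [h₀]; exact hx₀y
    have h2 := (base_special_iff f hD hU e 𝔮₀).mp h1
    have : π ∈ 𝔮₀.asIdeal.comap (algebraMap Γ(Y, ⊤) Γ(X, U)) := by
      rw [h2]; exact Ideal.subset_span rfl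
    exact this
  have hsup : 𝔮'.asIdeal ⊔ Ideal.span {algebraMap Γ(Y, ⊤) Γ(X, U) π} ≤ 𝔮₀.asIdeal := by
    apply sup_le hle
    rw [Ideal.span_le, Set.singleton_subset_iff]
    exact hτ₀
  obtain ⟨q, hq, hqle⟩ := Ideal.exists_minimalPrimes_le hsup
  have hqprime : q.IsPrime := hq.1.1
  set 𝔮 : PrimeSpectrum Γ(X, U) := ⟨q, hqprime⟩ with h𝔮
  have hτq : algebraMap Γ(Y, ⊤) Γ(X, U) π ∈ q :=
    hq.1.2 (le_sup_right (a := 𝔮'.asIdeal) (Ideal.subset_span rfl))
  have hqc : 𝔮.asIdeal.comap (algebraMap Γ(Y, ⊤) Γ(X, U)) = Ideal.span {π} := by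
    have hle' : Ideal.span {π} ≤ q.comap (algebraMap Γ(Y, ⊤) Γ(X, U)) := by
      rw [Ideal.span_le, Set.singleton_subset_iff]
      exact hτq
    exact (hD.hm.eq_of_le (Ideal.comap_isPrime _ _).ne_top hle').symm
  have hfx : f (hU.fromSpec 𝔮) = y := (base_special_iff f hD hU e 𝔮).mpr hqc
  -- no embedded point
  have hne : ∀ 𝔴 : PrimeSpectrum Γ(X, U), 𝔴 ≤ 𝔮 →
      𝔴.asIdeal.comap (algebraMap Γ(Y, ⊤) Γ(X, U)) = Ideal.span {π} →
      AssFib Γ(Y, ⊤) Γ(F, U) 𝔴 → AssFib Γ(Y, ⊤) Γ(F, U) 𝔮 → 𝔴 = 𝔮 := by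
    intro 𝔴 hw𝔮 hwc hassw hassq
    have hfw : f (hU.fromSpec 𝔴) = y := (base_special_iff f hD hU e 𝔴).mpr hwc
    have hNE : hU.fromSpec 𝔮 ∈ Groth.Agent.Lib.FibNoEmbH5.NE f F :=
      (Groth.Agent.Lib.FibNoEmbH5.noEmbedded_fiber_iff f F y).mp hemb _ hfx
    unfold Groth.Agent.Lib.FibNoEmbH5.NE at hNE
    rw [noEmb_set_eq f F] at hNE
    have hassx := (asFiber_fromSpec_mem_ass_iff f (isAffineOpen_top Y) hU e F hfp 𝔮).mpr hassq
    have hassw' := (asFiber_fromSpec_mem_ass_iff f (isAffineOpen_top Y) hU e F hfp 𝔴).mpr hassw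
    have := hNE (hU.fromSpec 𝔮) specializes_rfl rfl hassx (hU.fromSpec 𝔴)
      ((fromSpec_specializes_iff hU 𝔴 𝔮).mpr hw𝔮) (hfw.trans hfx.symm) hassw'
    exact hU.fromSpec.isOpenEmbedding.injective this
  have hminq := minimal_of_noEmb (A := Γ(Y, ⊤)) Γ(F, U) π hregU 𝔮 hqc 𝔮'.asIdeal hmin' hq hne
  refine ⟨hU.fromSpec 𝔮, (fromSpec_mem_maxSupp_special_iff f F hD hU e 𝔮).mpr hminq, ?_⟩
  rw [← h']
  exact (fromSpec_specializes_iff hU 𝔮' 𝔮).mpr (le_sup_left.trans hq.1.2)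

set_option maxHeartbeats 1000000 in
include hD in
/-- the local inequality at a maximal point `x` of `Supp F ∩ X_y` -/
theorem sum_aLen_le [LocallyOfFiniteType f] [IsLocallyNoetherian Y]
    (hreg : ∀ (U : X.Opens) (_ : IsAffineOpen U) (e : U ≤ f ⁻¹ᵁ ⊤),
      IsSMulRegular Γ(F, U) ((f.appLE ⊤ U e).hom π))
    {x : X} (hx : x ∈ MaxSupp f F y) (S : Finset X)
    (hS : ∀ x' ∈ S, x' ∈ MaxSupp f F y' ∧ x' ⤳ x) :
    ∑ x' ∈ S, aLen f F x' ≤ aLen f F x := by
  classical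
  haveI : IsLocallyNoetherian X := LocallyOfFiniteType.isLocallyNoetherian f
  obtain ⟨U, hU', hxU, -⟩ := (Opens.isBasis_iff_nbhd.mp X.isBasis_affineOpens)
    (show x ∈ (⊤ : X.Opens) from trivial)
  have hU : IsAffineOpen U := hU'
  have e : U ≤ f ⁻¹ᵁ ⊤ := fun _ _ => trivial
  letI algAB : Algebra Γ(Y, ⊤) Γ(X, U) := (f.appLE ⊤ U e).hom.toAlgebra
  haveI : IsNoetherianRing Γ(X, U) := IsLocallyNoetherian.component_noetherian ⟨U, hU⟩
  haveI : Module.Finite Γ(X, U) Γ(F, U) := QCohFT.finite_of_isFiniteType F hU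
  have hregU : IsSMulRegular Γ(F, U) (algebraMap Γ(Y, ⊤) Γ(X, U) π) := hreg U hU e
  set 𝔮 := hU.primeIdealOf ⟨x, hxU⟩ with h𝔮
  have hq : hU.fromSpec 𝔮 = x := hU.fromSpec_primeIdealOf ⟨x, hxU⟩
  have hminq : 𝔮.asIdeal ∈ (Module.annihilator Γ(X, U) Γ(F, U) ⊔
      Ideal.span {algebraMap Γ(Y, ⊤) Γ(X, U) π}).minimalPrimes := by
    apply (fromSpec_mem_maxSupp_special_iff f F hD hU e 𝔮).mp
    rw [hq]; exact hx
  have hqc : 𝔮.asIdeal.comap (algebraMap Γ(Y, ⊤) Γ(X, U)) = Ideal.span {π} := by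
    apply (base_special_iff f hD hU e 𝔮).mp
    rw [hq]; exact hx.1
  haveI : Nonempty (PrimeSpectrum Γ(X, U)) := ⟨𝔮⟩
  set ψ : X → PrimeSpectrum Γ(X, U) :=
    Function.invFun (hU.fromSpec : PrimeSpectrum Γ(X, U) → X) with hψ
  have hfs : ∀ x' ∈ S, hU.fromSpec (ψ x') = x' := by
    intro x' hx'
    have hx'U : x' ∈ U := (hS x' hx').2.mem_open U.2 hxU
    exact Function.invFun_eq ⟨hU.primeIdealOf ⟨x', hx'U⟩, hU.fromSpec_primeIdealOf ⟨x', hx'U⟩⟩
  have hT : ∀ 𝔯 ∈ S.image ψ,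
      𝔯.asIdeal ∈ (Module.annihilator Γ(X, U) Γ(F, U)).minimalPrimes ∧ 𝔯 ≤ 𝔮 ∧
        𝔯.asIdeal.comap (algebraMap Γ(Y, ⊤) Γ(X, U)) = ⊥ := by
    intro 𝔯 h𝔯
    obtain ⟨x', hx', rfl⟩ := Finset.mem_image.mp h𝔯
    have h1 := hfs x' hx'
    have h2 : hU.fromSpec (ψ x') ∈ MaxSupp f F y' := by rw [h1]; exact (hS x' hx').1
    refine ⟨(fromSpec_mem_maxSupp_generic_iff f F hD hU e hregU _).mp h2, ?_,
      (base_generic_iff f hD hU e _).mp h2.1⟩
    have h3 := (hS x' hx').2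
    rw [← h1, ← hq] at h3
    exact (fromSpec_specializes_iff hU _ _).mp h3
  have hmain := sum_lam_le (A := Γ(Y, ⊤)) Γ(F, U) π hregU 𝔮 hqc hminq (S.image ψ) hT
  have hinj : ∀ a ∈ S, ∀ b ∈ S, ψ a = ψ b → a = b := by
    intro a ha b hb hab
    rw [← hfs a ha, ← hfs b hb, hab]
  rw [Finset.sum_image hinj] at hmain
  have hx_eq : aLen f F x = lam Γ(Y, ⊤) Γ(F, U) 𝔮 := by
    rw [← hq]
    exact aLen_fromSpec_eq_lam f (isAffineOpen_top Y) hU e F 𝔮
  rw [hx_eq]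
  refine le_trans (le_of_eq ?_) hmain
  apply Finset.sum_congr rfl
  intro x' hx'
  have h1 := aLen_fromSpec_eq_lam f (isAffineOpen_top Y) hU e F (ψ x')
  rw [hfs x' hx'] at h1
  exact h1

include hD in
theorem isClosed_singleton_special : IsClosed ({y} : Set Y) := by
  rw [← closure_eq_iff_isClosed]
  apply Set.Subset.antisymm _ subset_closure
  intro s hs
  have h1 : y ⤳ s := specializes_iff_mem_closure.mpr hs
  exact ((hD.hy s).antisymm h1).eq

set_option maxHeartbeats 1000000 in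
include hD in
/-- **EGA IV 12.2-type inequality** (S4980, abstract base): the sum of the lengths of the stalks of
`F_{y'}` at the maximal points of its support is at most the same sum for `F_y`. -/
theorem main_aux [IsProper f] [IsLocallyNoetherian Y]
    (hreg : ∀ (U : X.Opens) (_ : IsAffineOpen U) (e : U ≤ f ⁻¹ᵁ ⊤),
      IsSMulRegular Γ(F, U) ((f.appLE ⊤ U e).hom π))
    (hemb : AssSch.NoEmbedded ((Scheme.Modules.pullback (f.fiberι y)).obj F)) :
    ∑ᶠ x ∈ MaxSupp f F y', aLen f F x ≤ ∑ᶠ x ∈ MaxSupp f F y, aLen f F x := by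
  classical
  haveI : IsLocallyNoetherian X := LocallyOfFiniteType.isLocallyNoetherian f
  haveI : CompactSpace X := QuasiCompact.compactSpace_of_compactSpace f
  haveI : IsNoetherian X := {}
  have hsuppcl : IsClosed (CohB1.support F) := SuppFT.isClosed_support F
  -- finiteness
  have hfin : (MaxSupp f F y).Finite := by
    have hZ : IsClosed (f ⁻¹' {y} ∩ CohB1.support F) :=
      ((isClosed_singleton_special hD).preimage f.continuous).inter hsuppcl
    apply (finite_maxPts _ hZ).subset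
    rintro x ⟨h1, h2, h3⟩
    exact ⟨⟨h1, h2⟩, fun w hw hwx => h3 w hw.1 hw.2 hwx⟩
  have hfin' : (MaxSupp f F y').Finite := by
    apply (finite_maxPts _ hsuppcl).subset
    rintro x ⟨h1, h2, h3⟩
    refine ⟨h2, fun w hw hwx => h3 w ?_ hw hwx⟩
    have h4 : f w ⤳ f x := hwx.map f.continuous
    rw [h1] at h4
    exact (h4.antisymm (hD.hy' (f w))).eq
  rw [finsum_mem_eq_finite_toFinset_sum _ hfin, finsum_mem_eq_finite_toFinset_sum _ hfin']
  set M := hfin.toFinset with hM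
  set M' := hfin'.toFinset with hM'
  have hex : ∀ x' ∈ M', ∃ x ∈ M, x' ⤳ x := by
    intro x' hx'
    obtain ⟨x, hx, hsp⟩ := exists_specialization f F hD hreg hemb (hfin'.mem_toFinset.mp hx')
    exact ⟨x, hfin.mem_toFinset.mpr hx, hsp⟩
  calc ∑ x' ∈ M', aLen f F x'
      ≤ ∑ x' ∈ M', ∑ x ∈ M.filter (fun x => x' ⤳ x), aLen f F x' := by
        apply Finset.sum_le_sum
        intro x' hx'
        obtain ⟨x, hx, hsp⟩ := hex x' hx'
        exact Finset.single_le_sum (f := fun _ => aLen f F x') (fun _ _ => zero_le)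
          (Finset.mem_filter.mpr ⟨hx, hsp⟩)
    _ = ∑ x ∈ M, ∑ x' ∈ M'.filter (fun x' => x' ⤳ x), aLen f F x' := by
        apply Finset.sum_comm'
        intro x' x
        simp only [Finset.mem_filter]
        tauto
    _ ≤ ∑ x ∈ M, aLen f F x := by
        apply Finset.sum_le_sum
        intro x hx
        apply sum_aLen_le f F hD hreg (hfin.mem_toFinset.mp hx)
        intro x' hx'
        rw [Finset.mem_filter] at hx'
        exact ⟨hfin'.mem_toFinset.mp hx'.1, hx'.2⟩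

end Main

end Groth.Agent.Lib.SpecLenH5
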