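import Mathlib
import Groth.Agent.Lib.SpecLen5_helper5

/-!
# Lengths at maximal points of the support under specialization over a DVR, part 6 (helper5)

`isSMulRegular_sections` (a nonzero element of the base domain is regular on the sections of an
`f`-flat module), `exists_dvrBase` (the spectrum of a DVR is a `DVRBase`), `main4980`.

APPEND-ONLY once landed.
-/

set_option autoImplicit false

namespace Groth.Agent.Lib.SpecLenH5

open AlgebraicGeometry CategoryTheory TopologicalSpace IsLocalRing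
open Groth.Agent.Lib.FibSkH5 Groth.Agent.Lib.FibPdH5 Groth.Agent.Lib.FibRectH5
  Groth.Agent.Lib.FibAssH5

universe u

section Reg

variable {X Y : Scheme.{u}} [IsAffine Y] (f : X ⟶ Y) (F : X.Modules) [F.IsQuasicoherent]

/-- a nonzero element of the (domain) base ring is regular on the sections of an `f`-flat
module over an affine open -/
theorem isSMulRegular_sections [IsDomain Γ(Y, ⊤)] (hflat : FlatMod.IsFlatOver f F)
    (π : Γ(Y, ⊤)) (hπ : π ≠ 0) (U : X.Opens) (hU : IsAffineOpen U) (e : U ≤ f ⁻¹ᵁ ⊤) :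
    IsSMulRegular Γ(F, U) ((f.appLE ⊤ U e).hom π) := by
  have h1 := FlatSecH8.flat_sections_of_flat_stalks f F hU e
    (fun x hxU => (FlatSecH8.isFlatOverAt_iff_flat_stalk f F (isAffineOpen_top Y) e hxU).mp
      (hflat x))
  letI mRM : Module Γ(Y, ⊤) Γ(F, U) := Module.compHom Γ(F, U) (f.appLE ⊤ U e).hom
  haveI : Module.Flat Γ(Y, ⊤) Γ(F, U) := h1
  have h2 : IsSMulRegular Γ(F, U) π :=
    Module.Flat.isSMulRegular_of_nonZeroDivisors (mem_nonZeroDivisors_of_ne_zero hπ)
  intro a b hab
  exact h2 hab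

end Reg

section Final

variable {A : Type u} [CommRing A] [IsDomain A] [IsDiscreteValuationRing A]

/-- the spectrum of a discrete valuation ring is a `DVRBase` -/
theorem exists_dvrBase :
    ∃ (_ : IsDomain Γ(Spec (CommRingCat.of A), ⊤)) (π : Γ(Spec (CommRingCat.of A), ⊤)),
      π ≠ 0 ∧ DVRBase (Y := Spec (CommRingCat.of A)) (IsLocalRing.closedPoint A)
        (genericPoint (Spec (CommRingCat.of A))) π := by
  set Y := Spec (CommRingCat.of A) with hY
  let eA : Γ(Y, ⊤) ≃+* A := (Scheme.ΓSpecIso (CommRingCat.of A)).commRingCatIsoToRingEquiv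
  haveI hdom : IsDomain Γ(Y, ⊤) := eA.toMulEquiv.isDomain A
  haveI : IsDiscreteValuationRing Γ(Y, ⊤) :=
    IsDiscreteValuationRing.RingEquivClass.isDiscreteValuationRing (A := A) (B := Γ(Y, ⊤)) eA.symm
  obtain ⟨π, hπ⟩ := IsDiscreteValuationRing.exists_irreducible Γ(Y, ⊤)
  have hmax : maximalIdeal Γ(Y, ⊤) = Ideal.span {π} := hπ.maximalIdeal_eq
  refine ⟨hdom, π, hπ.ne_zero, ?_⟩
  have hy : ∀ s : Y, s ⤳ (IsLocalRing.closedPoint A : Y) := fun s =>
    IsLocalRing.specializes_closedPoint (R := A) s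
  have hy' : ∀ s : Y, genericPoint Y ⤳ s := fun s => genericPoint_specializes s
  refine ⟨?_, ?_, ?_, ?_, hy, hy'⟩
  · rw [← hmax]
    exact primeIdealOf_closed (isAffineOpen_top Y) _ trivial (fun s _ => hy s)
  · exact primeIdealOf_generic (isAffineOpen_top Y) _ trivial (fun s _ => hy' s)
  · rw [← hmax]
    exact maximalIdeal.isMaximal _
  · intro P hP hπP
    by_contra hne
    have hPmax : P.IsMaximal := hP.isMaximal hne
    have : P = maximalIdeal Γ(Y, ⊤) := IsLocalRing.eq_maximalIdeal hPmax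
    apply hπP
    rw [this, hmax]
    exact Ideal.subset_span rfl

set_option maxHeartbeats 1000000 in
/-- **S4980** in terms of points of `X`. -/
theorem main4980 {X : Scheme.{u}} (f : X ⟶ Spec (CommRingCat.of A)) [IsProper f]
    (F : X.Modules) [F.IsQuasicoherent] [SheafOfModules.IsFiniteType (R := X.ringCatSheaf) F]
    (hflat : FlatMod.IsFlatOver f F)
    (hemb : AssSch.NoEmbedded
      ((Scheme.Modules.pullback (f.fiberι (IsLocalRing.closedPoint A))).obj F)) :
    ∑ᶠ x ∈ MaxSupp f F (genericPoint (Spec (CommRingCat.of A))), aLen f F x ≤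
      ∑ᶠ x ∈ MaxSupp f F (IsLocalRing.closedPoint A), aLen f F x := by
  obtain ⟨hdom, π, hπ0, hD⟩ := exists_dvrBase (A := A)
  haveI := hdom
  exact main_aux f F hD (isSMulRegular_sections f F hflat π hπ0) hemb

end Final

end Groth.Agent.Lib.SpecLenH5
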