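import Mathlib
import Groth.Agent.Lib.CycSp2_helper5
import Groth.Agent.Lib.SpecLen6_helper5
import Groth.Agent.Lib.GenFlatSch_helper8
import Groth.Agent.Lib.ResQuot_helper8
import Groth.Agent.Lib.ResQuot2_helper8
import Groth.Agent.Lib.FibRes_helper8
import Groth.Agent.Lib.DimEqSch_helper8
import Groth.Prelude.Def_Cyc

/-!
# Specialization of cycles over a DVR, part 3 (helper5)

Scheme-level dictionary:
* `smult f ξ x` (the multiplicity of `Cyc.spFun`) and `smult_eq_cmult` (in an affine chart);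
* `delta_eq_trdeg`: a function on a fibre compatible (`Cyc.DeltaCompat`) with the zero function on
  `Spec κ(y)` is the transcendence degree of the residue field extension of `f`;
* `dim_formula_fibres`: for a specialization `ξ ⤳ x` from the generic to the closed fibre over a
  one-dimensional base, `trdeg κ(x) ≤ trdeg κ(ξ)`, with equality only for immediate specializations.

APPEND-ONLY once landed.
-/

set_option autoImplicit false

namespace Groth.Agent.Lib.CycSpH5

open IsLocalRing AlgebraicGeometry CategoryTheory TopologicalSpace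
open Groth.Agent.Lib.SpecLenH5

universe u

section LQ

theorem length_locQuot_eq {B : Type u} [CommRing B] (q : Ideal B) [q.IsPrime] (O : Type u)
    [CommRing O] [Algebra B O] [IsLocalization.AtPrime O q] (𝔯 : Ideal B) (t : B) (K : Ideal O)
    (hK : K = 𝔯.map (algebraMap B O)) (J : Ideal (O ⧸ K))
    (hJ : J = Ideal.span {Ideal.Quotient.mk K (algebraMap B O t)}) :
    Module.length O ((O ⧸ K) ⧸ J) =
      Module.length (Localization.AtPrime q) (Localization.AtPrime q ⧸
        (𝔯.map (algebraMap B (Localization.AtPrime q)) ⊔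
          Ideal.span {algebraMap B (Localization.AtPrime q) t})) := by
  have hJ' : J = (Ideal.span {algebraMap B O t}).map (Ideal.Quotient.mk K) := by
    rw [hJ, Ideal.map_span, Set.image_singleton]
  subst hJ'
  have h1 : Module.length O ((O ⧸ K) ⧸ (Ideal.span {algebraMap B O t}).map (Ideal.Quotient.mk K)) =
      Module.length O (O ⧸ (K ⊔ Ideal.span {algebraMap B O t})) :=
    (DoubleQuot.quotQuotEquivQuotSupₐ O K (Ideal.span {algebraMap B O t})).toLinearEquiv.length_eq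
  rw [h1]
  let σ : Localization.AtPrime q ≃ₐ[B] O := IsLocalization.algEquiv q.primeCompl _ _
  have hIJ : K ⊔ Ideal.span {algebraMap B O t} =
      (𝔯.map (algebraMap B (Localization.AtPrime q)) ⊔
        Ideal.span {algebraMap B (Localization.AtPrime q) t}).map
          ((σ : Localization.AtPrime q ≃+* O) : Localization.AtPrime q →+* O) := by
    rw [Ideal.map_sup, Ideal.map_map, Ideal.map_span, Set.image_singleton, hK]
    congr 1
    · congr 1
      ext b
      exact (σ.commutes b).symm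
    · congr 2
      exact (σ.commutes t).symm
  let ε := Ideal.quotientEquiv _ _ (σ : Localization.AtPrime q ≃+* O) hIJ
  symm
  refine length_eq_of_semilinear (σ : Localization.AtPrime q ≃+* O) ε.toAddEquiv ?_
  intro r n
  obtain ⟨n, rfl⟩ := Ideal.Quotient.mk_surjective n
  show ε (r • Ideal.Quotient.mk _ n) = σ r • ε (Ideal.Quotient.mk _ n)
  rw [Algebra.smul_def, Algebra.smul_def, map_mul]
  rfl


variable {X Y : Scheme.{u}} (f : X ⟶ Y)

open scoped Classical in
/-- the multiplicity at `x` of the fibre through `x` of the closure of `ξ` -/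
noncomputable def smult (ξ x : X) : ℕ∞ :=
  if h : ξ ⤳ x then
    Module.length (X.presheaf.stalk x)
      (Cyc.LocQuot x ξ h ⧸ (IsLocalRing.maximalIdeal (Y.presheaf.stalk (f x))).map
         ((Ideal.Quotient.mk (RingHom.ker (Cyc.specMap x ξ h))).comp (f.stalkMap x).hom))
  else 0

theorem ker_specMap {U : X.Opens} (hU : IsAffineOpen U) (ξ x : X) (h : ξ ⤳ x) (hxU : x ∈ U)
    (hξU : ξ ∈ U) :
    RingHom.ker (Cyc.specMap x ξ h) =
      (hU.primeIdealOf ⟨ξ, hξU⟩).asIdeal.map (X.presheaf.germ U x hxU).hom := by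
  letI : Algebra Γ(X, U) (X.presheaf.stalk x) :=
    TopCat.Presheaf.algebra_section_stalk X.presheaf (⟨x, hxU⟩ : U)
  haveI : IsLocalization.AtPrime (X.presheaf.stalk x) (hU.primeIdealOf ⟨x, hxU⟩).asIdeal :=
    hU.isLocalization_stalk ⟨x, hxU⟩
  haveI : (RingHom.ker (Cyc.specMap x ξ h)).IsPrime := RingHom.ker_isPrime _
  have h1 := IsLocalization.map_under (hU.primeIdealOf ⟨x, hxU⟩).asIdeal.primeCompl
    (X.presheaf.stalk x) (RingHom.ker (Cyc.specMap x ξ h))
  rw [← h1]
  congr 1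
  rw [← Groth.Agent.SchFTH8.ker_toRes hU ξ hξU]
  ext a
  rw [Ideal.mem_comap, RingHom.mem_ker, RingHom.mem_ker]
  show (Cyc.specMap x ξ h) ((X.presheaf.germ U x hxU).hom a) = 0 ↔ _
  unfold Cyc.specMap Groth.Agent.SchFTH8.toRes
  rw [CommRingCat.hom_comp, RingHom.comp_apply, RingHom.comp_apply]
  have h2 := TopCat.Presheaf.germ_stalkSpecializes X.presheaf hxU h
  have h3 := congrArg (fun φ => φ.hom a) h2
  simp only [CommRingCat.hom_comp, RingHom.comp_apply] at h3
  rw [h3]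

theorem smult_eq_cmult [IsAffine Y] {y y' : Y} {π : Γ(Y, ⊤)} (hD : DVRBase y y' π)
    {U : X.Opens} (hU : IsAffineOpen U) (e : U ≤ f ⁻¹ᵁ ⊤) (ξ x : X) (h : ξ ⤳ x) (hxU : x ∈ U)
    (hξU : ξ ∈ U) (hx : f x = y) :
    letI : Algebra Γ(Y, ⊤) Γ(X, U) := (f.appLE ⊤ U e).hom.toAlgebra
    smult f ξ x = cmult π (hU.primeIdealOf ⟨x, hxU⟩) (hU.primeIdealOf ⟨ξ, hξU⟩) := by
  letI algAB : Algebra Γ(Y, ⊤) Γ(X, U) := (f.appLE ⊤ U e).hom.toAlgebra
  subst hx
  letI : Algebra Γ(X, U) (X.presheaf.stalk x) :=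
    TopCat.Presheaf.algebra_section_stalk X.presheaf (⟨x, hxU⟩ : U)
  haveI : IsLocalization.AtPrime (X.presheaf.stalk x) (hU.primeIdealOf ⟨x, hxU⟩).asIdeal :=
    hU.isLocalization_stalk ⟨x, hxU⟩
  letI : Algebra Γ(Y, ⊤) (Y.presheaf.stalk (f x)) :=
    TopCat.Presheaf.algebra_section_stalk Y.presheaf (⟨f x, trivial⟩ : (⊤ : Y.Opens))
  haveI : IsLocalization.AtPrime (Y.presheaf.stalk (f x))
      ((isAffineOpen_top Y).primeIdealOf ⟨f x, trivial⟩).asIdeal :=
    (isAffineOpen_top Y).isLocalization_stalk ⟨f x, trivial⟩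
  have hmax : maximalIdeal (Y.presheaf.stalk (f x)) =
      Ideal.span {(Y.presheaf.germ ⊤ (f x) trivial).hom π} := by
    rw [← IsLocalization.AtPrime.map_eq_maximalIdeal
      ((isAffineOpen_top Y).primeIdealOf ⟨f x, trivial⟩).asIdeal (Y.presheaf.stalk (f x)),
      hD.hyp, Ideal.map_span, Set.image_singleton]
    rfl
  unfold smult cmult
  rw [dif_pos h]
  have hJ : (maximalIdeal (Y.presheaf.stalk (f x))).map
      ((Ideal.Quotient.mk (RingHom.ker (Cyc.specMap x ξ h))).comp (f.stalkMap x).hom) =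
      Ideal.span {Ideal.Quotient.mk (RingHom.ker (Cyc.specMap x ξ h))
        (algebraMap Γ(X, U) (X.presheaf.stalk x) ((f.appLE ⊤ U e).hom π))} := by
    rw [hmax, Ideal.map_span, Set.image_singleton, RingHom.comp_apply,
      GenFlatSchH8.stalkMap_germ_appLE f e hxU π]
    rfl
  have := length_locQuot_eq (hU.primeIdealOf ⟨x, hxU⟩).asIdeal (X.presheaf.stalk x)
    (hU.primeIdealOf ⟨ξ, hξU⟩).asIdeal ((f.appLE ⊤ U e).hom π)
    (RingHom.ker (Cyc.specMap x ξ h)) (ker_specMap hU ξ x h hxU hξU) _ hJ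
  rw [this, IsScalarTower.algebraMap_apply Γ(Y, ⊤) Γ(X, U)
    (Localization.AtPrime (hU.primeIdealOf ⟨x, hxU⟩).asIdeal) π]
  rfl


end LQ

section D1

theorem trdeg_residueFieldMap_eq_curv (k : Type u) [Field k] (Z : Scheme.{u})
    (g : Z ⟶ Spec (CommRingCat.of k)) (z : Z) :
    letI : Z.Over (Spec (CommRingCat.of k)) := ⟨g⟩
    @Algebra.trdeg ((Spec (CommRingCat.of k)).residueField (g z)) (Z.residueField z) _ _
      (g.residueFieldMap z).hom.toAlgebra =
    @Algebra.trdeg k (Z.residueField z) _ _ (Curv2.resAlgebra k Z z) := by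
  letI ov : Z.Over (Spec (CommRingCat.of k)) := ⟨g⟩
  letI a1 : Algebra ((Spec (CommRingCat.of k)).residueField (g z)) (Z.residueField z) :=
    (g.residueFieldMap z).hom.toAlgebra
  letI a2 : Algebra k (Z.residueField z) := Curv2.resAlgebra k Z z
  symm
  refine Groth.Agent.DimIneqH8.trdeg_eq_of_ringEquiv
    (RingEquiv.ofBijective (Groth.Agent.FibResH8.specResMap k (g z))
      (Groth.Agent.FibResH8.specResMap_bijective k (g z))) (RingEquiv.refl _) ?_
  intro r
  show Curv2.resMap k Z z r =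
    (g.residueFieldMap z).hom (Groth.Agent.FibResH8.specResMap k (g z) r)
  simp only [Curv2.resMap, Curv2.stalkMap, Coh.toGlobal, Groth.Agent.FibResH8.specResMap,
    RingHom.comp_apply]
  have h1 := Scheme.residue_residueFieldMap g z
  have h2 := congrArg (fun φ => φ.hom (((Spec (CommRingCat.of k)).presheaf.germ ⊤ (g z)
    trivial).hom ((Scheme.ΓSpecIso (CommRingCat.of k)).inv.hom r))) h1
  simp only [CommRingCat.hom_comp, RingHom.comp_apply] at h2
  erw [h2]
  congr 1
  have h3 := Scheme.Hom.germ_stalkMap_apply g ⊤ z trivial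
    ((Scheme.ΓSpecIso (CommRingCat.of k)).inv.hom r)
  erw [h3]
  rfl


/-- the fibrewise transcendence degree (in the form of `Cyc.DeltaCompat`) -/
noncomputable def fibTr {X Y : Scheme.{u}} (f : X ⟶ Y) (y : Y) (z : f.fiber y) : Cardinal :=
  @Algebra.trdeg ((Spec (CommRingCat.of (Y.residueField y))).residueField
      ((f.fiberToSpecResidueField y) z)) ((f.fiber y).residueField z) _ _
    ((f.fiberToSpecResidueField y).residueFieldMap z).hom.toAlgebra

theorem fibTr_asFiber {X Y : Scheme.{u}} (f : X ⟶ Y) (x : X) :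
    fibTr f (f x) (f.asFiber x) =
      @Algebra.trdeg (Y.residueField (f x)) (X.residueField x) _ _
        (f.residueFieldMap x).hom.toAlgebra := by
  unfold fibTr
  rw [trdeg_residueFieldMap_eq_curv]
  exact Groth.Agent.FibResH8.trdeg_asFiber f x

theorem fibTr_eq {X Y : Scheme.{u}} (f : X ⟶ Y) (y : Y) (z : f.fiber y) :
    fibTr f y z =
      @Algebra.trdeg (Y.residueField (f (f.fiberι y z))) (X.residueField (f.fiberι y z)) _ _
        (f.residueFieldMap (f.fiberι y z)).hom.toAlgebra := by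
  rw [fiber_fun_transport f (fibTr f) y z, fibTr_asFiber]

theorem delta_eq_trdeg {X Y : Scheme.{u}} (f : X ⟶ Y) (pt : Y) (δ : f.fiber pt → ℤ)
    (hδ : Cyc.DeltaCompat (f.fiberToSpecResidueField pt) δ (fun _ => 0)) (z : f.fiber pt) :
    ∃ n : ℕ, @Algebra.trdeg (Y.residueField (f (f.fiberι pt z)))
      (X.residueField (f.fiberι pt z)) _ _
        (f.residueFieldMap (f.fiberι pt z)).hom.toAlgebra = n ∧ δ z = n := by
  obtain ⟨n, hn, hδz⟩ := hδ z
  refine ⟨n, ?_, by simpa using hδz⟩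
  rw [← fibTr_eq]
  exact hn


end D1

section RingLemmas

variable {B : Type u} [CommRing B]

theorem comap_map_mk_of_le (q0 𝔷 : Ideal B) (h : q0 ≤ 𝔷) :
    (𝔷.map (Ideal.Quotient.mk q0)).comap (Ideal.Quotient.mk q0) = 𝔷 := by
  rw [Ideal.comap_map_of_surjective _ Ideal.Quotient.mk_surjective, ← RingHom.ker_eq_comap_bot,
    Ideal.mk_ker]
  exact sup_eq_left.mpr h

theorem height_map_mk_ne_zero (q0 q : Ideal B) [q0.IsPrime] (hle : q0 ≤ q) (hne : q ≠ q0) :
    (q.map (Ideal.Quotient.mk q0)).height ≠ 0 := by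
  intro h0
  rw [Ideal.height_eq_zero_iff_eq_bot] at h0
  apply hne
  apply le_antisymm _ hle
  have h1 := comap_map_mk_of_le q0 q hle
  rw [h0, ← RingHom.ker_eq_comap_bot, Ideal.mk_ker] at h1
  exact le_of_eq h1.symm

theorem eq_or_eq_of_height_one [IsNoetherianRing B] (q0 q : Ideal B) [q0.IsPrime] [q.IsPrime]
    (hle : q0 ≤ q) (hht : (q.map (Ideal.Quotient.mk q0)).height = 1) (𝔷 : Ideal B) [𝔷.IsPrime]
    (h1 : q0 ≤ 𝔷) (h2 : 𝔷 ≤ q) : 𝔷 = q0 ∨ 𝔷 = q := by
  by_contra hcon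
  push Not at hcon
  obtain ⟨hne0, hneq⟩ := hcon
  have hker : RingHom.ker (Ideal.Quotient.mk q0) ≤ 𝔷 := by rw [Ideal.mk_ker]; exact h1
  haveI : (𝔷.map (Ideal.Quotient.mk q0)).IsPrime :=
    Ideal.map_isPrime_of_surjective Ideal.Quotient.mk_surjective hker
  have hlt : 𝔷.map (Ideal.Quotient.mk q0) < q.map (Ideal.Quotient.mk q0) := by
    refine lt_of_le_of_ne (Ideal.map_mono h2) ?_
    intro heq
    apply hneq
    rw [← comap_map_mk_of_le q0 𝔷 h1, heq, comap_map_mk_of_le q0 q hle]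
  have h3 := Ideal.height_strict_mono_of_isPrime hlt
  rw [hht, Order.lt_one_iff] at h3
  exact height_map_mk_ne_zero q0 𝔷 h1 hne0 h3

end RingLemmas


section DF

variable {X Y : Scheme.{u}} [IsAffine Y] (f : X ⟶ Y)

set_option maxHeartbeats 1000000 in
/-- dimension formula for a specialization from the generic to the closed fibre over a
one-dimensional base -/
theorem dim_formula_fibres [IsLocallyNoetherian Y] [LocallyOfFiniteType f] [IsDomain Γ(Y, ⊤)]
    {y y' : Y} {π : Γ(Y, ⊤)} (hD : DVRBase y y' π) (hπ : π ≠ 0)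
    (hcat : CAlg.IsUniversallyCatenary (Y.presheaf.stalk y))
    (ξ x : X) (h : ξ ⤳ x) (hξ : f ξ = y') (hx : f x = y) (n E : ℕ)
    (hn : @Algebra.trdeg (Y.residueField (f x)) (X.residueField x) _ _
      (f.residueFieldMap x).hom.toAlgebra = n)
    (hE : @Algebra.trdeg (Y.residueField (f ξ)) (X.residueField ξ) _ _
      (f.residueFieldMap ξ).hom.toAlgebra = E) :
    n ≤ E ∧ (n = E → ∀ z : X, ξ ⤳ z → z ⤳ x → z = ξ ∨ z = x) := by
  classical
  subst hx
  obtain ⟨U, hU', hxU, -⟩ := (Opens.isBasis_iff_nbhd.mp X.isBasis_affineOpens)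
    (show x ∈ (⊤ : X.Opens) from trivial)
  have hU : IsAffineOpen U := hU'
  have hV : IsAffineOpen (⊤ : Y.Opens) := isAffineOpen_top Y
  have e : U ≤ f ⁻¹ᵁ ⊤ := fun _ _ => trivial
  haveI hRn : IsNoetherianRing Γ(Y, ⊤) := IsLocallyNoetherian.component_noetherian ⟨⊤, hV⟩
  have hφ : (f.appLE ⊤ U e).hom.FiniteType :=
    HasRingHomProperty.appLE (P := @LocallyOfFiniteType) f inferInstance ⟨⊤, hV⟩ ⟨U, hU⟩ e
  haveI hBn : IsNoetherianRing Γ(X, U) := by
    letI := (f.appLE ⊤ U e).hom.toAlgebra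
    haveI : Algebra.FiniteType Γ(Y, ⊤) Γ(X, U) := hφ
    exact Algebra.FiniteType.isNoetherianRing Γ(Y, ⊤) Γ(X, U)
  have hξU : ξ ∈ U := h.mem_open U.2 hxU
  set q := (hU.primeIdealOf ⟨x, hxU⟩).asIdeal with hq
  haveI hqp : q.IsPrime := (hU.primeIdealOf ⟨x, hxU⟩).2
  set q0 := (hU.primeIdealOf ⟨ξ, hξU⟩).asIdeal with hq0
  haveI hq0p : q0.IsPrime := (hU.primeIdealOf ⟨ξ, hξU⟩).2
  have hqq : q0 ≤ q :=
    (Groth.Agent.SchFTH8.specializes_iff_primeIdealOf_le hU ξ x hξU hxU).mp h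
  set p := (hV.primeIdealOf ⟨f x, e hxU⟩).asIdeal with hp
  haveI hpp : p.IsPrime := (hV.primeIdealOf ⟨f x, e hxU⟩).2
  set p0 := (hV.primeIdealOf ⟨f ξ, e hξU⟩).asIdeal with hp0
  haveI hp0p : p0.IsPrime := (hV.primeIdealOf ⟨f ξ, e hξU⟩).2
  have hpπ : p = Ideal.span {π} := hD.hyp
  have hp0bot : p0 = ⊥ := by
    have : (⟨f ξ, e hξU⟩ : (⊤ : Y.Opens)) = ⟨y', trivial⟩ := Subtype.ext hξ
    rw [hp0, this]
    exact hD.hyp'
  letI algO : Algebra Γ(Y, ⊤) (Y.presheaf.stalk (f x)) :=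
    TopCat.Presheaf.algebra_section_stalk Y.presheaf ⟨f x, e hxU⟩
  haveI hloc : IsLocalization.AtPrime (Y.presheaf.stalk (f x)) p :=
    hV.isLocalization_stalk ⟨f x, e hxU⟩
  have hpq : p = q.comap (f.appLE ⊤ U e).hom :=
    Groth.Agent.ResQuotH8.primeIdealOf_map f hU hV e x hxU
  have hpq0 : p0 = q0.comap (f.appLE ⊤ U e).hom :=
    Groth.Agent.ResQuotH8.primeIdealOf_map f hU hV e ξ hξU
  obtain ⟨a, b, r, r0, ha, hb, hr, hr0, hsum⟩ :=
    Groth.Agent.DimEqQH8.dim_eq_quot (f.appLE ⊤ U e).hom hφ q0 q hqq p0 p hpq0 hpq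
      (Y.presheaf.stalk (f x)) hcat
  have hrx := Groth.Agent.ResQuotH8.trdeg_residueFieldMap f hU hV e x hxU
  have hrξ := Groth.Agent.ResQuotH8.trdeg_residueFieldMap f hU hV e ξ hξU
  have hrn : r = n := by
    have h1 : ((r : ℕ) : Cardinal) = ((n : ℕ) : Cardinal) := by
      rw [← hn, hrx]; exact hr.symm
    exact_mod_cast h1
  have hr0E : r0 = E := by
    have h1 : ((r0 : ℕ) : Cardinal) = ((E : ℕ) : Cardinal) := by
      rw [← hE, hrξ]; exact hr0.symm
    exact_mod_cast h1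
  -- b = 1
  have hb1 : b = 1 := by
    have h1 : (p.map (Ideal.Quotient.mk p0)).height = p.height := by
      apply Groth.Agent.DimEqSchH8.height_map_mk_of_le_all p0 p
      intro q' _
      rw [hp0bot]; exact bot_le
    have h2 : p.height ≤ 1 := by
      haveI : p.IsPrincipal := by rw [hpπ]; exact ⟨⟨π, rfl⟩⟩
      apply Ideal.height_le_one_of_isPrincipal_of_mem_minimalPrimes p p
      exact ⟨⟨hpp, le_rfl⟩, fun _ hQ hQp => hQ.2⟩
    have h3 : p.height ≠ 0 := by
      rw [Ne, Ideal.height_eq_zero_iff_eq_bot, hpπ, Ideal.span_singleton_eq_bot]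
      exact hπ
    have h4 : p.height = 1 := le_antisymm h2 (Order.one_le_iff_ne_zero.mpr h3)
    have h5 : ((b : ℕ) : ℕ∞) = 1 := by rw [← hb, h1, h4]
    exact_mod_cast h5
  -- a ≥ 1
  have hπq : (f.appLE ⊤ U e).hom π ∈ q := by
    have : π ∈ q.comap (f.appLE ⊤ U e).hom := by
      rw [← hpq, hpπ]; exact Ideal.subset_span rfl
    exact this
  have hπq0 : (f.appLE ⊤ U e).hom π ∉ q0 := by
    intro hmem
    have : π ∈ q0.comap (f.appLE ⊤ U e).hom := hmem
    rw [← hpq0, hp0bot, Ideal.mem_bot] at this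
    exact hπ this
  have hne : q ≠ q0 := by
    intro heq
    rw [heq] at hπq
    exact hπq0 hπq
  have ha1 : 1 ≤ a := by
    have h1 := height_map_mk_ne_zero q0 q hqq hne
    rw [ha] at h1
    have : a ≠ 0 := by exact_mod_cast h1
    omega
  subst hrn hr0E hb1
  refine ⟨by omega, ?_⟩
  intro hnE z hξz hzx
  have ha' : a = 1 := by omega
  have hzU : z ∈ U := hzx.mem_open U.2 hxU
  have h1 := (Groth.Agent.SchFTH8.specializes_iff_primeIdealOf_le hU ξ z hξU hzU).mp hξz
  have h2 := (Groth.Agent.SchFTH8.specializes_iff_primeIdealOf_le hU z x hzU hxU).mp hzx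
  haveI : (hU.primeIdealOf ⟨z, hzU⟩).asIdeal.IsPrime := (hU.primeIdealOf ⟨z, hzU⟩).2
  have hht : (q.map (Ideal.Quotient.mk q0)).height = 1 := by rw [ha, ha']; rfl
  rcases eq_or_eq_of_height_one q0 q hqq hht (hU.primeIdealOf ⟨z, hzU⟩).asIdeal h1 h2 with h3 | h3
  · left
    have := Groth.Agent.Lib.AffStalk_helper3.primeIdealOf_injective hU (PrimeSpectrum.ext h3)
    exact congrArg Subtype.val this
  · right
    have := Groth.Agent.Lib.AffStalk_helper3.primeIdealOf_injective hU (PrimeSpectrum.ext h3)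
    exact congrArg Subtype.val this

end DF


end Groth.Agent.Lib.CycSpH5
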