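import Mathlib
import Groth.Agent.Lib.CycSp3_helper5

/-!
# Specialization of cycles over a DVR, part 4 (helper5)

* `lam_ne_top_of_minimal` (ring level);
* `aLen_eq_finsum`: at a maximal point `x` of `Supp F ∩ X_y`, the length of the stalk of `F_y` is
  the sum over the maximal points `ξ ⤳ x` of `Supp F` of the length of the stalk of `F_{y'}` at
  `ξ` times the multiplicity `smult f ξ x` (with the finiteness statements);
* `nontrivial_stalk_pullback_iff`, `length_stalk_fibre_eq_aLen`.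

APPEND-ONLY once landed.
-/

set_option autoImplicit false

namespace Groth.Agent.Lib.CycSpH5

open IsLocalRing AlgebraicGeometry CategoryTheory TopologicalSpace
open Groth.Agent.Lib.SpecLenH5
open Groth.Agent.Lib.FibSkH5 Groth.Agent.Lib.FibPdH5 Groth.Agent.Lib.FibRectH5
  Groth.Agent.Lib.FibAssH5

universe u

section Ring

variable {A : Type u} {B : Type u} [CommRing A] [CommRing B] [Algebra A B]
  (M : Type u) [AddCommGroup M] [Module B M] [IsNoetherianRing B] [Module.Finite B M]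

/-- the fibre module at a prime minimal over `Ann M + πB` has finite length -/
theorem lam_ne_top_of_minimal (π : A) (q : PrimeSpectrum B)
    (hq : q.asIdeal.comap (algebraMap A B) = Ideal.span {π})
    (hmin : q.asIdeal ∈
      (Module.annihilator B M ⊔ Ideal.span {algebraMap A B π}).minimalPrimes) :
    lam A M q ≠ ⊤ := by
  set R := Localization.AtPrime q.asIdeal with hR
  set N := LocalizedModule q.asIdeal.primeCompl M with hN
  set t : R := algebraMap A R π with ht_def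
  haveI : IsNoetherianRing R := IsLocalization.isNoetherianRing q.asIdeal.primeCompl R inferInstance
  haveI : Module.Finite R N := Module.Finite.of_isLocalizedModule q.asIdeal.primeCompl
    (LocalizedModule.mkLinearMap q.asIdeal.primeCompl M)
  have htB : t = algebraMap B R (algebraMap A B π) := IsScalarTower.algebraMap_apply A B R π
  have huniq : ∀ P : Ideal R, P.IsPrime → Module.annihilator R N ≤ P → t ∈ P →
      P = maximalIdeal R := by
    intro P hP h1 h2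
    haveI := hP
    apply eq_maximalIdeal_of_minimal q.asIdeal _ hmin P
    apply sup_le
    · exact (ann_le_iff M q.asIdeal P).mp h1
    · rw [Ideal.span_le, Set.singleton_subset_iff]
      show algebraMap B R (algebraMap A B π) ∈ P
      rw [← htB]
      exact h2
  rw [lam_eq_length_quot M π q hq]
  exact length_quot_ne_top N t huniq

end Ring

section Scheme

variable {X Y : Scheme.{u}} [IsAffine Y] (f : X ⟶ Y) (F : X.Modules) [F.IsQuasicoherent]
  [SheafOfModules.IsFiniteType (R := X.ringCatSheaf) F]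
  {y y' : Y} {π : Γ(Y, ⊤)} (hD : DVRBase y y' π)

set_option maxHeartbeats 1000000 in
include hD in
/-- **The multiplicity formula at a maximal point of `Supp F ∩ X_y`.** -/
theorem aLen_eq_finsum [LocallyOfFiniteType f] [IsLocallyNoetherian Y]
    (hreg : ∀ (U : X.Opens) (_ : IsAffineOpen U) (e : U ≤ f ⁻¹ᵁ ⊤),
      IsSMulRegular Γ(F, U) ((f.appLE ⊤ U e).hom π))
    {x : X} (hx : x ∈ MaxSupp f F y) :
    {ξ | ξ ∈ MaxSupp f F y' ∧ ξ ⤳ x}.Finite ∧ aLen f F x ≠ ⊤ ∧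
      (∀ ξ, ξ ∈ MaxSupp f F y' → ξ ⤳ x → aLen f F ξ ≠ ⊤ ∧ smult f ξ x ≠ ⊤) ∧
      aLen f F x = ∑ᶠ ξ ∈ {ξ | ξ ∈ MaxSupp f F y' ∧ ξ ⤳ x}, aLen f F ξ * smult f ξ x := by
  classical
  haveI : IsLocallyNoetherian X := LocallyOfFiniteType.isLocallyNoetherian f
  obtain ⟨U, hU', hxU, -⟩ := (Opens.isBasis_iff_nbhd.mp X.isBasis_affineOpens)
    (show x ∈ (⊤ : X.Opens) from trivial)
  have hU : IsAffineOpen U := hU'
  have e : U ≤ f ⁻¹ᵁ ⊤ := fun _ _ => trivial
  letI algAB : Algebra Γ(Y, ⊤) Γ(X, U) := (f.appLE ⊤ U e).hom.toAlgebra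
  haveI : IsNoetherianRing Γ(X, U) := IsLocallyNoetherian.component_noetherian ⟨U, hU⟩
  haveI : Module.Finite Γ(X, U) Γ(F, U) := QCohFT.finite_of_isFiniteType F hU
  have hregU : IsSMulRegular Γ(F, U) (algebraMap Γ(Y, ⊤) Γ(X, U) π) := hreg U hU e
  set 𝔮 := hU.primeIdealOf ⟨x, hxU⟩ with h𝔮
  have hq : hU.fromSpec 𝔮 = x := hU.fromSpec_primeIdealOf ⟨x, hxU⟩
  have hminq : 𝔮.asIdeal ∈ (Module.annihilator Γ(X, U) Γ(F, U) ⊔
      Ideal.span {algebraMap Γ(Y, ⊤) Γ(X, U) π}).minimalPrimes := by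
    apply (fromSpec_mem_maxSupp_special_iff f F hD hU e 𝔮).mp
    rw [hq]; exact hx
  have hqc : 𝔮.asIdeal.comap (algebraMap Γ(Y, ⊤) Γ(X, U)) = Ideal.span {π} := by
    apply (base_special_iff f hD hU e 𝔮).mp
    rw [hq]; exact hx.1
  have hx_eq : aLen f F x = lam Γ(Y, ⊤) Γ(F, U) 𝔮 := by
    rw [← hq]
    exact aLen_fromSpec_eq_lam f (isAffineOpen_top Y) hU e F 𝔮
  have hfin : lam Γ(Y, ⊤) Γ(F, U) 𝔮 ≠ ⊤ :=
    lam_ne_top_of_minimal (A := Γ(Y, ⊤)) Γ(F, U) π 𝔮 hqc hminq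
  -- the index sets
  set T : Set (PrimeSpectrum Γ(X, U)) :=
    {𝔯 | 𝔯.asIdeal ∈ (Module.annihilator Γ(X, U) Γ(F, U)).minimalPrimes ∧ 𝔯 ≤ 𝔮} with hT
  set S : Set X := {ξ | ξ ∈ MaxSupp f F y' ∧ ξ ⤳ x} with hS
  have hbij : Set.BijOn (hU.fromSpec : PrimeSpectrum Γ(X, U) → X) T S := by
    refine ⟨?_, hU.fromSpec.isOpenEmbedding.injective.injOn, ?_⟩
    · rintro 𝔯 ⟨h1, h2⟩
      refine ⟨(fromSpec_mem_maxSupp_generic_iff f F hD hU e hregU 𝔯).mpr h1, ?_⟩
      rw [← hq]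
      exact (fromSpec_specializes_iff hU 𝔯 𝔮).mpr h2
    · rintro ξ ⟨h1, h2⟩
      have hξU : ξ ∈ U := h2.mem_open U.2 hxU
      have hξ : hU.fromSpec (hU.primeIdealOf ⟨ξ, hξU⟩) = ξ := hU.fromSpec_primeIdealOf ⟨ξ, hξU⟩
      refine ⟨hU.primeIdealOf ⟨ξ, hξU⟩, ⟨?_, ?_⟩, hξ⟩
      · apply (fromSpec_mem_maxSupp_generic_iff f F hD hU e hregU _).mp
        rw [hξ]; exact h1
      · rw [← hξ, ← hq] at h2
        exact (fromSpec_specializes_iff hU _ _).mp h2
  have hTfin : T.Finite := by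
    have h1 : (Module.annihilator Γ(X, U) Γ(F, U)).minimalPrimes.Finite :=
      Ideal.finite_minimalPrimes_of_isNoetherianRing _ _
    have hinj : Set.InjOn (PrimeSpectrum.asIdeal : PrimeSpectrum Γ(X, U) → Ideal Γ(X, U))
        (PrimeSpectrum.asIdeal ⁻¹' (Module.annihilator Γ(X, U) Γ(F, U)).minimalPrimes) :=
      Set.injOn_of_injective (fun p q h => PrimeSpectrum.ext h)
    exact (Set.Finite.preimage hinj h1).subset (fun 𝔯 h𝔯 => h𝔯.1)
  have hterm : ∀ 𝔯 ∈ T, aLen f F (hU.fromSpec 𝔯) = lam Γ(Y, ⊤) Γ(F, U) 𝔯 ∧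
      smult f (hU.fromSpec 𝔯) x = cmult π 𝔮 𝔯 := by
    rintro 𝔯 ⟨h1, h2⟩
    refine ⟨aLen_fromSpec_eq_lam f (isAffineOpen_top Y) hU e F 𝔯, ?_⟩
    have hsp : (hU.fromSpec 𝔯 : X) ⤳ x := by
      rw [← hq]
      exact (fromSpec_specializes_iff hU 𝔯 𝔮).mpr h2
    have h3 := smult_eq_cmult f hD hU e (hU.fromSpec 𝔯) x hsp hxU
      (Groth.Agent.SchFTH8.fromSpec_mem hU 𝔯) hx.1
    rw [Groth.Agent.SchFTH8.primeIdealOf_fromSpec] at h3
    exact h3
  have h0 : ∀ 𝔯 ∈ T, 𝔯.asIdeal.comap (algebraMap Γ(Y, ⊤) Γ(X, U)) = ⊥ := by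
    rintro 𝔯 ⟨h1, h2⟩
    exact hD.hA _ (Ideal.comap_isPrime _ _) (hregU.notMem_of_mem_minimalPrimes h1)
  refine ⟨?_, ?_, ?_, ?_⟩
  · rw [← hbij.image_eq]
    exact hTfin.image _
  · rw [hx_eq]; exact hfin
  · intro ξ h1 h2
    obtain ⟨𝔯, h𝔯, rfl⟩ := hbij.surjOn ⟨h1, h2⟩
    rw [(hterm 𝔯 h𝔯).1, (hterm 𝔯 h𝔯).2]
    exact factors_chart_ne_top (A := Γ(Y, ⊤)) Γ(F, U) π 𝔮 hqc hfin 𝔯 h𝔯.1 h𝔯.2 (h0 𝔯 h𝔯)
  · rw [hx_eq, lam_eq_sum (A := Γ(Y, ⊤)) Γ(F, U) π hregU hD.hA 𝔮 hqc hminq]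
    refine Eq.trans (finsum_subtype_eq_finsum_cond
      (f := fun 𝔯 => lam Γ(Y, ⊤) Γ(F, U) 𝔯 * cmult π 𝔮 𝔯)
      (fun 𝔯 : PrimeSpectrum Γ(X, U) =>
        𝔯.asIdeal ∈ (Module.annihilator Γ(X, U) Γ(F, U)).minimalPrimes ∧ 𝔯 ≤ 𝔮)) ?_
    refine finsum_mem_eq_of_bijOn (s := T) (hU.fromSpec : PrimeSpectrum Γ(X, U) → X) hbij ?_
    intro 𝔯 h𝔯
    rw [(hterm 𝔯 h𝔯).1, (hterm 𝔯 h𝔯).2]

end Scheme

section Fibre

variable {X Y : Scheme.{u}} (f : X ⟶ Y) (F : X.Modules)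

/-- the support of the restriction to a fibre -/
theorem nontrivial_stalk_pullback_iff [F.IsQuasicoherent]
    [SheafOfModules.IsFiniteType (R := X.ringCatSheaf) F] (s : Y) (v : f.fiber s) :
    Nontrivial (((Scheme.Modules.pullback (f.fiberι s)).obj F).presheaf.stalk v) ↔
      f.fiberι s v ∈ CohB1.support F := by
  have h := SuppTensH8.support_pullback (f.fiberι s) F
  have h2 : v ∈ CohB1.support ((Scheme.Modules.pullback (f.fiberι s)).obj F) ↔
      f.fiberι s v ∈ CohB1.support F := by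
    rw [h]; rfl
  rw [← h2]
  exact not_subsingleton_iff_nontrivial.symm

/-- the length of the stalk of the restriction to a fibre is `aLen` -/
theorem length_stalk_fibre_eq_aLen (s : Y) (v : f.fiber s) :
    Module.length ((f.fiber s).presheaf.stalk v)
        (((Scheme.Modules.pullback (f.fiberι s)).obj F).presheaf.stalk v) =
      aLen f F (f.fiberι s v) :=
  fiber_fun_transport f (fun y z => Module.length ((f.fiber y).presheaf.stalk z)
    (((Scheme.Modules.pullback (f.fiberι y)).obj F).presheaf.stalk z)) s v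

end Fibre

end Groth.Agent.Lib.CycSpH5
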