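import Mathlib
import Groth.Agent.Lib.CycSp4_helper5

/-!
# Flat pullback commutes with specialization of cycles over a DVR, part 1: ring level (helper5)

`R₀ → C → C'` with `C → C'` flat, `π ∈ R₀`, `𝔭 ⊆ 𝔵` primes of `C`, `q` a prime of `C'` over `𝔵`.
* `length_quot_map_flat`: for a flat local homomorphism `A → B` and an ideal `I` of `A`,
  `length_B (B/IB) = length_A (A/I) * length_B (B/m_A B)`;
* `lam_generic`, `length_localizedModule_quot`, `lam_special_quot`: the fibre lengths `lam` of a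
  cyclic module `C'/J`;
* `comap_eq_of_mem_minimalPrimes` (going down), `mem_minimalPrimes_sup`;
* `cpm`, `core_ring`: the multiplicity identity
  `cmult π 𝔵 𝔭 * cpm 𝔵 q = ∑ 𝔯, cpm 𝔭 𝔯 * cmult π q 𝔯`, over the minimal primes `𝔯 ⊆ q` of `𝔭C'`.

APPEND-ONLY once landed.
-/

set_option autoImplicit false

namespace Groth.Agent.Lib.CycFPH5

open IsLocalRing Submodule TensorProduct
open Groth.Agent.Lib.FibSkH5 Groth.Agent.Lib.FibPdH5 Groth.Agent.Lib.FibAssH5
open Groth.Agent.Lib.SpecLenH5 Groth.Agent.Lib.CycSpH5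

universe u

/-- flat local length multiplicativity for cyclic modules -/
theorem length_quot_map_flat {A B : Type*} [CommRing A] [CommRing B] [IsLocalRing A]
    [IsLocalRing B] (ψ : A →+* B) [IsLocalHom ψ] (hψ : ψ.Flat) (I : Ideal A) :
    Module.length B (B ⧸ I.map ψ) =
      Module.length A (A ⧸ I) * Module.length B (B ⧸ (maximalIdeal A).map ψ) := by
  letI : Algebra A B := ψ.toAlgebra
  haveI : Module.Flat A B := hψ
  haveI : IsLocalHom (algebraMap A B) := by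
    rw [RingHom.algebraMap_toAlgebra]
    infer_instance
  have h1 : I.map ψ = I.map (algebraMap A B) := rfl
  rw [h1, (Algebra.TensorProduct.quotIdealMapEquivTensorQuot B I).toLinearEquiv.length_eq,
    IsLocalRing.length_baseChange]
  rfl

section Lam

variable {R₀ C' : Type u} [CommRing R₀] [CommRing C'] [Algebra R₀ C']

/-- the fibre length over a prime lying over `⊥` -/
theorem lam_generic (M : Type u) [AddCommGroup M] [Module C' M] (𝔯 : PrimeSpectrum C')
    (h0 : 𝔯.asIdeal.comap (algebraMap R₀ C') = ⊥) :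
    lam R₀ M 𝔯 = Module.length (Localization.AtPrime 𝔯.asIdeal)
      (LocalizedModule 𝔯.asIdeal.primeCompl M) := by
  have hJ : fibJ R₀ 𝔯.asIdeal = ⊥ := by
    show (𝔯.asIdeal.comap (algebraMap R₀ C')).map _ = ⊥
    rw [h0, Ideal.map_bot]
  unfold lam
  rw [← Module.length_eq_of_surjective (S := Localization.AtPrime 𝔯.asIdeal)
    (R := Fib R₀ 𝔯.asIdeal) (M := FibModQ R₀ 𝔯.asIdeal M) Ideal.Quotient.mk_surjective]
  have hbot : (fibJ R₀ 𝔯.asIdeal • ⊤ : Submodule (Localization.AtPrime 𝔯.asIdeal)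
      (LocalizedModule 𝔯.asIdeal.primeCompl M)) = ⊥ := by
    rw [hJ, Submodule.bot_smul]
  exact (Submodule.quotEquivOfEqBot _ hbot).length_eq

/-- the localization of a cyclic module -/
noncomputable def locQuotEquiv (J : Ideal C') (𝔯 : Ideal C') [𝔯.IsPrime] :
    (Localization.AtPrime 𝔯 ⧸ J.map (algebraMap C' (Localization.AtPrime 𝔯)))
      ≃ₗ[Localization.AtPrime 𝔯] LocalizedModule 𝔯.primeCompl (C' ⧸ J) :=
  (Algebra.TensorProduct.quotIdealMapEquivTensorQuot (Localization.AtPrime 𝔯) J).toLinearEquiv ≪≫ₗ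
    (IsLocalizedModule.isBaseChange 𝔯.primeCompl (Localization.AtPrime 𝔯)
      (LocalizedModule.mkLinearMap 𝔯.primeCompl (C' ⧸ J))).equiv

theorem length_localizedModule_quot (J : Ideal C') (𝔯 : Ideal C') [𝔯.IsPrime] :
    Module.length (Localization.AtPrime 𝔯) (LocalizedModule 𝔯.primeCompl (C' ⧸ J)) =
      Module.length (Localization.AtPrime 𝔯)
        (Localization.AtPrime 𝔯 ⧸ J.map (algebraMap C' (Localization.AtPrime 𝔯))) :=
  (locQuotEquiv J 𝔯).length_eq.symm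

/-- a double quotient as a single quotient, for lengths -/
theorem length_quot_smul_top {R : Type*} [CommRing R] (K I : Ideal R) :
    Module.length R ((R ⧸ K) ⧸ (I • ⊤ : Submodule R (R ⧸ K))) = Module.length R (R ⧸ (K ⊔ I)) := by
  have h : (I • ⊤ : Submodule R (R ⧸ K)) = Submodule.map (Submodule.mkQ K) (K ⊔ I) := by
    rw [Submodule.map_sup, Submodule.mkQ_map_self, bot_sup_eq]
    have h1 : (I : Submodule R R) = I • (⊤ : Submodule R R) := by
      show I = I • (⊤ : Ideal R)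
      rw [smul_eq_mul, Ideal.mul_top]
    conv_rhs => rw [h1]
    rw [Submodule.map_smul'', Submodule.map_top, Submodule.range_mkQ]
  exact (Submodule.quotEquivOfEq _ _ h).length_eq.trans
    (Submodule.quotientQuotientEquivQuotient K (K ⊔ I) le_sup_left).length_eq

/-- the fibre length of a cyclic module over a prime lying over `(π)` -/
theorem lam_special_quot (J : Ideal C') (π : R₀) (q : PrimeSpectrum C')
    (hq : q.asIdeal.comap (algebraMap R₀ C') = Ideal.span {π}) :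
    lam R₀ (C' ⧸ J) q = Module.length (Localization.AtPrime q.asIdeal)
      (Localization.AtPrime q.asIdeal ⧸
        (J.map (algebraMap C' (Localization.AtPrime q.asIdeal)) ⊔
          Ideal.span {algebraMap R₀ (Localization.AtPrime q.asIdeal) π})) := by
  rw [lam_eq_length_quot (C' ⧸ J) π q hq, ← length_quot_smul_top]
  set I : Ideal (Localization.AtPrime q.asIdeal) :=
    Ideal.span {algebraMap R₀ (Localization.AtPrime q.asIdeal) π} with hI
  have hmap : Submodule.map (locQuotEquiv J q.asIdeal).toLinearMap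
      (I • ⊤ : Submodule (Localization.AtPrime q.asIdeal)
        (Localization.AtPrime q.asIdeal ⧸
          J.map (algebraMap C' (Localization.AtPrime q.asIdeal)))) = I • ⊤ := by
    rw [Submodule.map_smul'', Submodule.map_top, LinearEquiv.range]
  exact (Submodule.Quotient.equiv _ _ (locQuotEquiv J q.asIdeal) hmap).length_eq.symm

end Lam

section Core

variable {R₀ C C' : Type u} [CommRing R₀] [CommRing C] [CommRing C'] [Algebra R₀ C]
  [Algebra C C'] [Algebra R₀ C'] [IsScalarTower R₀ C C']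

/-- the flat pullback multiplicity in a chart: `length (C'_q / 𝔞 C'_q)` -/
noncomputable def cpm (𝔞 : Ideal C) (q : PrimeSpectrum C') : ℕ∞ :=
  Module.length (Localization.AtPrime q.asIdeal)
    (Localization.AtPrime q.asIdeal ⧸ 𝔞.map (algebraMap C (Localization.AtPrime q.asIdeal)))

/-- going down: a minimal prime of `𝔭C'` lies over `𝔭` -/
theorem comap_eq_of_mem_minimalPrimes [Module.Flat C C'] (𝔭 : Ideal C) [𝔭.IsPrime] (𝔯 : Ideal C')
    (h : 𝔯 ∈ (𝔭.map (algebraMap C C')).minimalPrimes) : 𝔯.comap (algebraMap C C') = 𝔭 := by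
  haveI : 𝔯.IsPrime := h.1.1
  have hle : 𝔭 ≤ 𝔯.under C := Ideal.map_le_iff_le_comap.mp h.1.2
  obtain ⟨Q, hQ𝔯, hQp, hQo⟩ := Ideal.exists_ideal_le_liesOver_of_le (R := C) 𝔯 hle
  have h1 : 𝔭.map (algebraMap C C') ≤ Q := by
    rw [Ideal.map_le_iff_le_comap]
    exact le_of_eq hQo.over
  have h2 : 𝔯 ≤ Q := h.2 ⟨hQp, h1⟩ hQ𝔯
  have h3 : Q = 𝔯 := le_antisymm hQ𝔯 h2
  rw [← h3]
  exact hQo.over.symm

/-- `q` is minimal over `𝔭C' + πC'` when `q ∩ C` is minimal over `𝔭 + πC` and `q` is minimal over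
`(q ∩ C)C'` -/
theorem mem_minimalPrimes_sup (π : R₀) (𝔭 𝔵 : Ideal C) (q : Ideal C') [q.IsPrime]
    (h𝔵 : q.comap (algebraMap C C') = 𝔵)
    (h𝔵min : 𝔵 ∈ (𝔭 ⊔ Ideal.span {algebraMap R₀ C π}).minimalPrimes)
    (hqmin : q ∈ (𝔵.map (algebraMap C C')).minimalPrimes) :
    q ∈ (𝔭.map (algebraMap C C') ⊔ Ideal.span {algebraMap R₀ C' π}).minimalPrimes := by
  have hπ : algebraMap R₀ C' π = algebraMap C C' (algebraMap R₀ C π) :=
    IsScalarTower.algebraMap_apply R₀ C C' π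
  have hsup : 𝔭.map (algebraMap C C') ⊔ Ideal.span {algebraMap R₀ C' π} =
      (𝔭 ⊔ Ideal.span {algebraMap R₀ C π}).map (algebraMap C C') := by
    rw [Ideal.map_sup, Ideal.map_span, Set.image_singleton, hπ]
  rw [hsup]
  refine ⟨⟨inferInstance, ?_⟩, ?_⟩
  · exact (Ideal.map_mono h𝔵min.1.2).trans hqmin.1.2
  · rintro Q ⟨hQp, hQ⟩ hQq
    haveI := hQp
    have h1 : 𝔭 ⊔ Ideal.span {algebraMap R₀ C π} ≤ Q.comap (algebraMap C C') :=
      Ideal.map_le_iff_le_comap.mp hQ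
    have h2 : Q.comap (algebraMap C C') ≤ 𝔵 := by
      rw [← h𝔵]; exact Ideal.comap_mono hQq
    have h3 : 𝔵 ≤ Q.comap (algebraMap C C') := h𝔵min.2 ⟨Ideal.comap_isPrime _ _, h1⟩ h2
    have h4 : 𝔵.map (algebraMap C C') ≤ Q := Ideal.map_le_iff_le_comap.mpr h3
    exact hqmin.2 ⟨hQp, h4⟩ hQq

/-- `π` is regular on `C'/𝔭C'` -/
theorem isSMulRegular_quot_map [Module.Flat C C'] (π : R₀) (𝔭 : Ideal C) [𝔭.IsPrime]
    (hπ𝔭 : algebraMap R₀ C π ∉ 𝔭) :
    IsSMulRegular (C' ⧸ 𝔭.map (algebraMap C C')) (algebraMap R₀ C' π) := by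
  have h1 : IsSMulRegular (C ⧸ 𝔭) (algebraMap R₀ C π) := by
    intro a b hab
    obtain ⟨a, rfl⟩ := Ideal.Quotient.mk_surjective a
    obtain ⟨b, rfl⟩ := Ideal.Quotient.mk_surjective b
    have h2 : Ideal.Quotient.mk 𝔭 (algebraMap R₀ C π * a) =
        Ideal.Quotient.mk 𝔭 (algebraMap R₀ C π * b) := hab
    rw [Ideal.Quotient.eq, ← mul_sub] at h2
    rw [Ideal.Quotient.eq]
    exact (Ideal.IsPrime.mem_or_mem inferInstance h2).resolve_left hπ𝔭
  have h2 : IsSMulRegular (C' ⊗[C] (C ⧸ 𝔭)) (algebraMap R₀ C π) := h1.lTensor C'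
  have e := (Algebra.TensorProduct.quotIdealMapEquivTensorQuot C' 𝔭).toLinearEquiv.restrictScalars C
  have h3 : IsSMulRegular (C' ⧸ 𝔭.map (algebraMap C C')) (algebraMap R₀ C π) :=
    (e.isSMulRegular_congr _).mpr h2
  rw [IsScalarTower.algebraMap_apply R₀ C C' π]
  exact (isSMulRegular_algebraMap_iff (A := C') (M := C' ⧸ 𝔭.map (algebraMap C C'))
    (r := algebraMap R₀ C π)).mpr h3

theorem cpm_ne_zero (𝔞 : Ideal C) (q : PrimeSpectrum C')
    (h : 𝔞.map (algebraMap C C') ≤ q.asIdeal) : cpm 𝔞 q ≠ 0 := by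
  unfold cpm
  rw [Ne, Module.length_eq_zero_iff, not_subsingleton_iff_nontrivial,
    Ideal.Quotient.nontrivial_iff]
  intro htop
  have h1 : 𝔞.map (algebraMap C (Localization.AtPrime q.asIdeal)) ≤
      maximalIdeal (Localization.AtPrime q.asIdeal) := by
    rw [IsScalarTower.algebraMap_eq C C' (Localization.AtPrime q.asIdeal), ← Ideal.map_map,
      ← Localization.AtPrime.map_eq_maximalIdeal]
    exact Ideal.map_mono h
  rw [htop] at h1
  exact (maximalIdeal.isMaximal _).ne_top (top_le_iff.mp h1)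

theorem cmult_ne_zero {A B : Type u} [CommRing A] [CommRing B] [Algebra A B] (π : A)
    (q 𝔯 : PrimeSpectrum B) (h𝔯q : 𝔯 ≤ q) (hπq : algebraMap A B π ∈ q.asIdeal) :
    cmult π q 𝔯 ≠ 0 := by
  unfold cmult
  rw [Ne, Module.length_eq_zero_iff, not_subsingleton_iff_nontrivial,
    Ideal.Quotient.nontrivial_iff]
  intro htop
  have h1 : 𝔯.asIdeal.map (algebraMap B (Localization.AtPrime q.asIdeal)) ⊔
      Ideal.span {algebraMap A (Localization.AtPrime q.asIdeal) π} ≤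
      maximalIdeal (Localization.AtPrime q.asIdeal) := by
    rw [← Localization.AtPrime.map_eq_maximalIdeal]
    apply sup_le
    · exact Ideal.map_mono h𝔯q
    · rw [Ideal.span_le, Set.singleton_subset_iff,
        IsScalarTower.algebraMap_apply A B (Localization.AtPrime q.asIdeal) π]
      exact Ideal.mem_map_of_mem _ hπq
  rw [htop] at h1
  exact (maximalIdeal.isMaximal _).ne_top (top_le_iff.mp h1)

/-- the closed-fibre side of the identity -/
theorem lam_special_eq [Module.Flat C C'] (π : R₀) (𝔭 𝔵 : PrimeSpectrum C) (q : PrimeSpectrum C')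
    (h𝔵 : q.asIdeal.comap (algebraMap C C') = 𝔵.asIdeal)
    (hq : q.asIdeal.comap (algebraMap R₀ C') = Ideal.span {π}) :
    lam R₀ (C' ⧸ 𝔭.asIdeal.map (algebraMap C C')) q = cmult π 𝔵 𝔭 * cpm 𝔵.asIdeal q := by
  rw [lam_special_quot _ π q hq]
  set ψ : Localization.AtPrime 𝔵.asIdeal →+* Localization.AtPrime q.asIdeal :=
    Localization.localRingHom 𝔵.asIdeal q.asIdeal (algebraMap C C') h𝔵.symm with hψ
  have hψflat : ψ.Flat :=
    RingHom.Flat.localRingHom (RingHom.flat_algebraMap_iff.mpr inferInstance) q.asIdeal 𝔵.asIdeal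
      h𝔵.symm
  haveI : IsLocalHom ψ := Localization.isLocalHom_localRingHom 𝔵.asIdeal q.asIdeal _ h𝔵.symm
  have hψC : ψ.comp (algebraMap C (Localization.AtPrime 𝔵.asIdeal)) =
      algebraMap C (Localization.AtPrime q.asIdeal) := by
    ext c
    rw [RingHom.comp_apply, hψ, Localization.localRingHom_to_map]
    exact (IsScalarTower.algebraMap_apply C C' (Localization.AtPrime q.asIdeal) c).symm
  have hψπ : ψ (algebraMap R₀ (Localization.AtPrime 𝔵.asIdeal) π) =
      algebraMap R₀ (Localization.AtPrime q.asIdeal) π := by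
    rw [IsScalarTower.algebraMap_apply R₀ C (Localization.AtPrime 𝔵.asIdeal) π]
    have := congrArg (fun φ : C →+* Localization.AtPrime q.asIdeal => φ (algebraMap R₀ C π)) hψC
    simp only [RingHom.comp_apply] at this
    rw [this, IsScalarTower.algebraMap_apply R₀ C' (Localization.AtPrime q.asIdeal) π,
      IsScalarTower.algebraMap_apply R₀ C C' π,
      ← IsScalarTower.algebraMap_apply C C' (Localization.AtPrime q.asIdeal)]
  have key := length_quot_map_flat ψ hψflat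
    (𝔭.asIdeal.map (algebraMap C (Localization.AtPrime 𝔵.asIdeal)) ⊔
      Ideal.span {algebraMap R₀ (Localization.AtPrime 𝔵.asIdeal) π})
  rw [Ideal.map_sup, Ideal.map_map, hψC, Ideal.map_span, Set.image_singleton, hψπ,
    ← Localization.AtPrime.map_eq_maximalIdeal, Ideal.map_map, hψC] at key
  have hJ : (𝔭.asIdeal.map (algebraMap C C')).map
      (algebraMap C' (Localization.AtPrime q.asIdeal)) =
      𝔭.asIdeal.map (algebraMap C (Localization.AtPrime q.asIdeal)) := by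
    rw [Ideal.map_map, ← IsScalarTower.algebraMap_eq]
  rw [hJ, key]
  rfl

/-- the generic-fibre side of the identity -/
theorem lam_generic_eq (𝔭 : Ideal C) (𝔯 : PrimeSpectrum C')
    (h0 : 𝔯.asIdeal.comap (algebraMap R₀ C') = ⊥) :
    lam R₀ (C' ⧸ 𝔭.map (algebraMap C C')) 𝔯 = cpm 𝔭 𝔯 := by
  rw [lam_generic _ 𝔯 h0, length_localizedModule_quot]
  have hJ : (𝔭.map (algebraMap C C')).map (algebraMap C' (Localization.AtPrime 𝔯.asIdeal)) =
      𝔭.map (algebraMap C (Localization.AtPrime 𝔯.asIdeal)) := by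
    rw [Ideal.map_map, ← IsScalarTower.algebraMap_eq]
  rw [hJ]
  rfl

/-- **The multiplicity identity, ring level**, with the finiteness of all the terms. -/
theorem core_ring [IsNoetherianRing C'] [Module.Flat C C'] (π : R₀)
    (hA : ∀ P : Ideal R₀, P.IsPrime → π ∉ P → P = ⊥)
    (𝔭 𝔵 : PrimeSpectrum C) (q : PrimeSpectrum C')
    (h𝔵 : q.asIdeal.comap (algebraMap C C') = 𝔵.asIdeal)
    (hq : q.asIdeal.comap (algebraMap R₀ C') = Ideal.span {π})
    (hπ𝔭 : algebraMap R₀ C π ∉ 𝔭.asIdeal)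
    (hmin : q.asIdeal ∈ (𝔭.asIdeal.map (algebraMap C C') ⊔
      Ideal.span {algebraMap R₀ C' π}).minimalPrimes) :
    (cmult π 𝔵 𝔭 ≠ ⊤ ∧ cpm 𝔵.asIdeal q ≠ ⊤) ∧
    (∀ 𝔯 : PrimeSpectrum C', 𝔯.asIdeal ∈ (𝔭.asIdeal.map (algebraMap C C')).minimalPrimes →
      𝔯 ≤ q → cpm 𝔭.asIdeal 𝔯 ≠ ⊤ ∧ cmult π q 𝔯 ≠ ⊤) ∧
    cmult π 𝔵 𝔭 * cpm 𝔵.asIdeal q =
      ∑ᶠ 𝔯 : {𝔯 : PrimeSpectrum C' //
        𝔯.asIdeal ∈ (𝔭.asIdeal.map (algebraMap C C')).minimalPrimes ∧ 𝔯 ≤ q},
        cpm 𝔭.asIdeal 𝔯.1 * cmult π q 𝔯.1 := by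
  set J : Ideal C' := 𝔭.asIdeal.map (algebraMap C C') with hJ
  have hann : Module.annihilator C' (C' ⧸ J) = J := Ideal.annihilator_quotient
  have hreg : IsSMulRegular (C' ⧸ J) (algebraMap R₀ C' π) :=
    isSMulRegular_quot_map π 𝔭.asIdeal hπ𝔭
  have hmin' : q.asIdeal ∈ (Module.annihilator C' (C' ⧸ J) ⊔
      Ideal.span {algebraMap R₀ C' π}).minimalPrimes := by rw [hann]; exact hmin
  have h0 : ∀ 𝔯 : PrimeSpectrum C', 𝔯.asIdeal ∈ J.minimalPrimes →
      𝔯.asIdeal.comap (algebraMap R₀ C') = ⊥ := by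
    intro 𝔯 h𝔯
    have h𝔯' : 𝔯.asIdeal ∈ (Module.annihilator C' (C' ⧸ J)).minimalPrimes := by
      rw [hann]; exact h𝔯
    exact hA _ (Ideal.comap_isPrime _ _) (hreg.notMem_of_mem_minimalPrimes h𝔯')
  have hfin : lam R₀ (C' ⧸ J) q ≠ ⊤ := lam_ne_top_of_minimal (A := R₀) (C' ⧸ J) π q hq hmin'
  have hL := lam_special_eq π 𝔭 𝔵 q h𝔵 hq
  refine ⟨?_, ?_, ?_⟩
  · have hprod : cmult π 𝔵 𝔭 * cpm 𝔵.asIdeal q ≠ ⊤ := by rw [← hL]; exact hfin
    have hle : 𝔭.asIdeal ≤ 𝔵.asIdeal := by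
      rw [← h𝔵]
      exact Ideal.map_le_iff_le_comap.mp (le_sup_left.trans hmin.1.2)
    have hπ𝔵 : algebraMap R₀ C π ∈ 𝔵.asIdeal := by
      rw [← h𝔵, Ideal.mem_comap, ← IsScalarTower.algebraMap_apply R₀ C C' π]
      exact hmin.1.2 (Ideal.mem_sup_right (Ideal.subset_span rfl))
    have ha : cmult π 𝔵 𝔭 ≠ 0 := cmult_ne_zero π 𝔵 𝔭 hle hπ𝔵
    have hb : cpm 𝔵.asIdeal q ≠ 0 :=
      cpm_ne_zero 𝔵.asIdeal q (by rw [← h𝔵]; exact Ideal.map_comap_le)
    constructor
    · intro h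
      exact hprod (WithTop.mul_eq_top_iff.mpr (Or.inr ⟨h, hb⟩))
    · intro h
      exact hprod (WithTop.mul_eq_top_iff.mpr (Or.inl ⟨ha, h⟩))
  · intro 𝔯 h𝔯 h𝔯q
    have h𝔯' : 𝔯.asIdeal ∈ (Module.annihilator C' (C' ⧸ J)).minimalPrimes := by
      rw [hann]; exact h𝔯
    have := factors_chart_ne_top (A := R₀) (C' ⧸ J) π q hq hfin 𝔯 h𝔯' h𝔯q (h0 𝔯 h𝔯)
    rw [lam_generic_eq 𝔭.asIdeal 𝔯 (h0 𝔯 h𝔯)] at this
    exact this
  · have key := lam_eq_sum (A := R₀) (C' ⧸ J) π hreg hA q hq hmin'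
    rw [hann] at key
    rw [← hL, key]
    apply finsum_congr
    intro 𝔯
    rw [lam_generic_eq 𝔭.asIdeal 𝔯.1 (h0 𝔯.1 𝔯.2.1)]

end Core

end Groth.Agent.Lib.CycFPH5
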