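import Mathlib
import Groth.Agent.Lib.CycSp4_helper5

/-!
# Specialization of cycles over a DVR, part 5 (helper5)

Assembly of S1911 over an abstract one-dimensional base (`DVRBase`): `trN` (the transcendence
degree of the residue field extension as a natural number), `delta_eq_trN`, `trN_le`,
`exists_maxSupp_specializes`, `aLen_eq_zero_iff`, `mem_maxSupp_special`, `mem_maxSupp_generic`,
`main_aux`.

APPEND-ONLY once landed.
-/

set_option autoImplicit false

namespace Groth.Agent.Lib.CycSpH5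

open IsLocalRing AlgebraicGeometry CategoryTheory TopologicalSpace
open Groth.Agent.Lib.SpecLenH5
open Groth.Agent.Lib.FibSkH5 Groth.Agent.Lib.FibPdH5 Groth.Agent.Lib.FibRectH5
  Groth.Agent.Lib.FibAssH5

universe u

section TrN

variable {X Y : Scheme.{u}} (f : X ⟶ Y) [LocallyOfFiniteType f]

/-- the transcendence degree of `κ(x)` over `κ(f x)` -/
noncomputable def trN (x : X) : ℕ :=
  Classical.choose (Groth.Agent.ResQuot2H8.exists_trdeg_nat f x)

theorem trN_spec (x : X) :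
    @Algebra.trdeg (Y.residueField (f x)) (X.residueField x) _ _
      (f.residueFieldMap x).hom.toAlgebra = trN f x :=
  Classical.choose_spec (Groth.Agent.ResQuot2H8.exists_trdeg_nat f x)

theorem delta_eq_trN (pt : Y) (δ : f.fiber pt → ℤ)
    (hδ : Cyc.DeltaCompat (f.fiberToSpecResidueField pt) δ (fun _ => 0)) (z : f.fiber pt) :
    δ z = (trN f (f.fiberι pt z) : ℤ) := by
  obtain ⟨n, hn, hz⟩ := delta_eq_trdeg f pt δ hδ z
  rw [hz]
  have h := trN_spec f (f.fiberι pt z)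
  rw [hn] at h
  have : n = trN f (f.fiberι pt z) := by exact_mod_cast h
  rw [this]

end TrN

section Main

variable {X Y : Scheme.{u}} [IsAffine Y] (f : X ⟶ Y) (F : X.Modules) [F.IsQuasicoherent]
  [SheafOfModules.IsFiniteType (R := X.ringCatSheaf) F]
  {y y' : Y} {π : Γ(Y, ⊤)} (hD : DVRBase y y' π)

include hD in
theorem ne_of_dvrBase [Nontrivial Γ(Y, ⊤)] (hπ : π ≠ 0) : y ≠ y' := by
  intro h
  have h1 := hD.hyp
  have h2 := hD.hyp'
  have h3 : (⟨y, trivial⟩ : (⊤ : Y.Opens)) = ⟨y', trivial⟩ := Subtype.ext h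
  rw [h3, h2] at h1
  have : π ∈ (⊥ : Ideal Γ(Y, ⊤)) := by rw [h1]; exact Ideal.subset_span rfl
  exact hπ this

include hD in
/-- over a maximal point of the closed fibre: `trdeg κ(x) ≤ trdeg κ(ξ)` and equality forces the
specialization to be immediate -/
theorem trN_le [LocallyOfFiniteType f] [IsLocallyNoetherian Y] [IsDomain Γ(Y, ⊤)] (hπ : π ≠ 0)
    (hcat : CAlg.IsUniversallyCatenary (Y.presheaf.stalk y))
    (ξ x : X) (h : ξ ⤳ x) (hξ : f ξ = y') (hx : f x = y) :
    trN f x ≤ trN f ξ ∧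
      (trN f x = trN f ξ → ∀ z : X, ξ ⤳ z → z ⤳ x → z = ξ ∨ z = x) :=
  dim_formula_fibres f hD hπ hcat ξ x h hξ hx (trN f x) (trN f ξ) (trN_spec f x) (trN_spec f ξ)

include hD in
/-- every point of `Supp F` is a specialization of a maximal point of `Supp F` (which lies over
the generic point) -/
theorem exists_maxSupp_specializes
    (hreg : ∀ (U : X.Opens) (_ : IsAffineOpen U) (e : U ≤ f ⁻¹ᵁ ⊤),
      IsSMulRegular Γ(F, U) ((f.appLE ⊤ U e).hom π))
    {x : X} (hx : x ∈ CohB1.support F) : ∃ ξ ∈ MaxSupp f F y', ξ ⤳ x := by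
  obtain ⟨U, hU', hxU, -⟩ := (Opens.isBasis_iff_nbhd.mp X.isBasis_affineOpens)
    (show x ∈ (⊤ : X.Opens) from trivial)
  have hU : IsAffineOpen U := hU'
  have e : U ≤ f ⁻¹ᵁ ⊤ := fun _ _ => trivial
  letI algAB : Algebra Γ(Y, ⊤) Γ(X, U) := (f.appLE ⊤ U e).hom.toAlgebra
  haveI : Module.Finite Γ(X, U) Γ(F, U) := QCohFT.finite_of_isFiniteType F hU
  have hregU : IsSMulRegular Γ(F, U) (algebraMap Γ(Y, ⊤) Γ(X, U) π) := hreg U hU e
  set 𝔮 := hU.primeIdealOf ⟨x, hxU⟩ with h𝔮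
  have hq : hU.fromSpec 𝔮 = x := hU.fromSpec_primeIdealOf ⟨x, hxU⟩
  have hle : Module.annihilator Γ(X, U) Γ(F, U) ≤ 𝔮.asIdeal := by
    apply (fromSpec_mem_support_iff hU F 𝔮).mp
    rw [hq]; exact hx
  obtain ⟨p, hp, hpq⟩ := Ideal.exists_minimalPrimes_le hle
  have hpp : p.IsPrime := hp.1.1
  refine ⟨hU.fromSpec ⟨p, hpp⟩,
    (fromSpec_mem_maxSupp_generic_iff f F hD hU e hregU ⟨p, hpp⟩).mpr hp, ?_⟩
  rw [← hq]
  exact (fromSpec_specializes_iff hU ⟨p, hpp⟩ 𝔮).mpr hpq

omit [IsAffine Y] in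
/-- the fibre module has zero length exactly off the support -/
theorem aLen_eq_zero_iff (x : X) : aLen f F x = 0 ↔ x ∉ CohB1.support F := by
  unfold aLen
  rw [Module.length_eq_zero_iff, ← not_nontrivial_iff_subsingleton,
    nontrivial_stalk_pullback_iff f F (f x) (f.asFiber x), f.fiberι_asFiber]

variable [LocallyOfFiniteType f] [IsLocallyNoetherian Y] [IsDomain Γ(Y, ⊤)] (hπ : π ≠ 0)
  (hcat : CAlg.IsUniversallyCatenary (Y.presheaf.stalk y))
  (hreg : ∀ (U : X.Opens) (_ : IsAffineOpen U) (e : U ≤ f ⁻¹ᵁ ⊤),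
    IsSMulRegular Γ(F, U) ((f.appLE ⊤ U e).hom π))
  (r : ℤ) (hdim : ∀ ξ ∈ CohB1.support F, f ξ = y' → (trN f ξ : ℤ) ≤ r)

include hD hπ hcat hreg hdim

/-- part (A): the dimension of the support of the closed fibre -/
theorem trN_le_of_mem_support {x : X} (hx : x ∈ CohB1.support F) (hxy : f x = y) :
    (trN f x : ℤ) ≤ r := by
  obtain ⟨ξ, hξ, hξx⟩ := exists_maxSupp_specializes f F hD hreg hx
  have h1 := (trN_le f hD hπ hcat ξ x hξx hξ.1 hxy).1
  have h2 := hdim ξ hξ.2.1 hξ.1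
  omega

/-- at a point of the support of the closed fibre of dimension `r`, the maximal points of
`Supp F` above it have dimension `r` and specialize immediately -/
theorem trN_eq_of_maxSupp {x : X} (hxy : f x = y) (hxr : (trN f x : ℤ) = r)
    {ξ : X} (hξ : ξ ∈ MaxSupp f F y') (hξx : ξ ⤳ x) :
    (trN f ξ : ℤ) = r ∧ ∀ z : X, ξ ⤳ z → z ⤳ x → z = ξ ∨ z = x := by
  have h1 := trN_le f hD hπ hcat ξ x hξx hξ.1 hxy
  have h2 := hdim ξ hξ.2.1 hξ.1
  have h3 : (trN f ξ : ℤ) = r := by omega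
  exact ⟨h3, h1.2 (by omega)⟩

/-- a point of the support of the closed fibre of dimension `r` is a maximal point of
`Supp F ∩ X_y` -/
theorem mem_maxSupp_special {x : X} (hx : x ∈ CohB1.support F) (hxy : f x = y)
    (hxr : (trN f x : ℤ) = r) : x ∈ MaxSupp f F y := by
  refine ⟨hxy, hx, ?_⟩
  intro w hwy hw hwx
  obtain ⟨ξ, hξ, hξw⟩ := exists_maxSupp_specializes f F hD hreg hw
  have h1 := (trN_eq_of_maxSupp f F hD hπ hcat hreg r hdim hxy hxr hξ (hξw.trans hwx)).2
    w hξw hwx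
  rcases h1 with h1 | h1
  · exfalso
    apply ne_of_dvrBase hD hπ
    rw [← hwy, h1, hξ.1]
  · exact h1

/-- a point of `Supp F` over `y'` of dimension `r` specializing to a point of the support of the
closed fibre of dimension `r` is a maximal point of `Supp F` -/
theorem mem_maxSupp_generic {x : X} (hxy : f x = y)
    (hxr : (trN f x : ℤ) = r) {ξ : X} (hξ : ξ ∈ CohB1.support F) (hξy : f ξ = y')
    (hξx : ξ ⤳ x) :
    ξ ∈ MaxSupp f F y' := by
  obtain ⟨ξ', hξ', hξ'ξ⟩ := exists_maxSupp_specializes f F hD hreg hξ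
  have h1 := (trN_eq_of_maxSupp f F hD hπ hcat hreg r hdim hxy hxr hξ' (hξ'ξ.trans hξx)).2
    ξ hξ'ξ hξx
  rcases h1 with h1 | h1
  · rw [h1]; exact hξ'
  · exfalso
    apply ne_of_dvrBase hD hπ
    rw [← hxy, ← h1, hξy]

end Main

section Final

variable {X Y : Scheme.{u}} [IsAffine Y] (f : X ⟶ Y) (F : X.Modules) [F.IsQuasicoherent]
  [SheafOfModules.IsFiniteType (R := X.ringCatSheaf) F]
  {y y' : Y} {π : Γ(Y, ⊤)} (hD : DVRBase y y' π)

/-- passing from `ℕ∞` to `ℤ` in a finite sum of products of finite terms -/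
theorem toNat_finsum_mul {ι : Type*} (S : Set ι) (hS : S.Finite) (a b : ι → ℕ∞) (c : ℕ∞)
    (ha : ∀ i ∈ S, a i ≠ ⊤) (hb : ∀ i ∈ S, b i ≠ ⊤) (hc : c = ∑ᶠ i ∈ S, a i * b i) :
    ((c.toNat : ℕ) : ℤ) = ∑ᶠ i ∈ S, (((a i).toNat : ℕ) : ℤ) * (((b i).toNat : ℕ) : ℤ) := by
  rw [finsum_mem_eq_finite_toFinset_sum _ hS] at hc ⊢
  have h1 : ∑ i ∈ hS.toFinset, a i * b i =
      ((∑ i ∈ hS.toFinset, (a i).toNat * (b i).toNat : ℕ) : ℕ∞) := by
    rw [Nat.cast_sum]
    apply Finset.sum_congr rfl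
    intro i hi
    have hi' : i ∈ S := hS.mem_toFinset.mp hi
    rw [Nat.cast_mul, ENat.natCast_toNat (ha i hi'), ENat.natCast_toNat (hb i hi')]
  rw [hc, h1, ENat.toNat_natCast]
  push_cast
  rfl

set_option maxHeartbeats 1000000 in
include hD in
/-- **S1911 over an abstract one-dimensional base.** -/
theorem main_aux [LocallyOfFiniteType f] [IsLocallyNoetherian Y] [IsDomain Γ(Y, ⊤)] (hπ : π ≠ 0)
    (hcat : CAlg.IsUniversallyCatenary (Y.presheaf.stalk y))
    (hreg : ∀ (U : X.Opens) (_ : IsAffineOpen U) (e : U ≤ f ⁻¹ᵁ ⊤),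
      IsSMulRegular Γ(F, U) ((f.appLE ⊤ U e).hom π))
    (δη : f.fiber y' → ℤ) (δs : f.fiber y → ℤ)
    (hδη : Cyc.DeltaCompat (f.fiberToSpecResidueField y') δη (fun _ => 0))
    (hδs : Cyc.DeltaCompat (f.fiberToSpecResidueField y) δs (fun _ => 0))
    (r : ℤ)
    (hdim : ∀ ζ : f.fiber y',
      Nontrivial (((Scheme.Modules.pullback (f.fiberι y')).obj F).presheaf.stalk ζ) → δη ζ ≤ r) :
    (∀ x : f.fiber y,
      Nontrivial (((Scheme.Modules.pullback (f.fiberι y)).obj F).presheaf.stalk x) → δs x ≤ r) ∧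
    Cyc.spFun f y' y δη δs r
        (Cyc.sheafFun δη r ((Scheme.Modules.pullback (f.fiberι y')).obj F)) =
      Cyc.sheafFun δs r ((Scheme.Modules.pullback (f.fiberι y)).obj F) := by
  classical
  have hdim' : ∀ ξ ∈ CohB1.support F, f ξ = y' → (trN f ξ : ℤ) ≤ r := by
    intro ξ hξ hξy
    have hmem : ξ ∈ Set.range (f.fiberι y') := by rw [f.range_fiberι y']; exact hξy
    obtain ⟨ζ, rfl⟩ := hmem
    rw [← delta_eq_trN f y' δη hδη ζ]
    exact hdim ζ ((nontrivial_stalk_pullback_iff f F y' ζ).mpr hξ)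
  have hcl : IsClosed (CohB1.support F) := SuppFT.isClosed_support F
  constructor
  · intro x' hx'
    rw [delta_eq_trN f y δs hδs x']
    exact trN_le_of_mem_support f F hD hπ hcat hreg r hdim'
      ((nontrivial_stalk_pullback_iff f F y x').mp hx')
      (Groth.Agent.FibRes2H8.fiberι_mem f y x')
  · funext x'
    set x : X := f.fiberι y x' with hx_def
    have hxy : f x = y := Groth.Agent.FibRes2H8.fiberι_mem f y x'
    simp only [Cyc.spFun, Cyc.sheafFun]
    by_cases hr : δs x' = r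
    swap
    · rw [if_neg hr, if_neg hr]
    rw [if_pos hr, if_pos hr, length_stalk_fibre_eq_aLen f F y x']
    have hxr : (trN f x : ℤ) = r := by rw [← hr, delta_eq_trN f y δs hδs x']
    -- the terms of the sum
    set G : X → ℤ := fun ξ => (((aLen f F ξ).toNat : ℕ) : ℤ) * (((smult f ξ x).toNat : ℕ) : ℤ)
      with hG
    have hterm : ∀ ζ : {ζ : f.fiber y' // δη ζ = r ∧ (f.fiberι y' ζ) ⤳ (f.fiberι y x')},
        (if δη ζ.1 = r then
          (((Module.length ((f.fiber y').presheaf.stalk ζ.1)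
            (((Scheme.Modules.pullback (f.fiberι y')).obj F).presheaf.stalk ζ.1)).toNat : ℕ) : ℤ)
          else 0) *
          (((Module.length (X.presheaf.stalk (f.fiberι y x'))
            (Cyc.LocQuot (f.fiberι y x') (f.fiberι y' ζ.1) ζ.2.2 ⧸
              (IsLocalRing.maximalIdeal (Y.presheaf.stalk (f (f.fiberι y x')))).map
                ((Ideal.Quotient.mk (RingHom.ker
                  (Cyc.specMap (f.fiberι y x') (f.fiberι y' ζ.1) ζ.2.2))).comp
                  (f.stalkMap (f.fiberι y x')).hom))).toNat : ℕ) : ℤ) =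
        G (f.fiberι y' ζ.1) := by
      intro ζ
      rw [if_pos ζ.2.1, length_stalk_fibre_eq_aLen f F y' ζ.1]
      show _ = (((aLen f F (f.fiberι y' ζ.1)).toNat : ℕ) : ℤ) *
        (((smult f (f.fiberι y' ζ.1) (f.fiberι y x')).toNat : ℕ) : ℤ)
      unfold smult
      rw [dif_pos ζ.2.2]
    rw [finsum_congr hterm]
    by_cases hx : x ∈ CohB1.support F
    swap
    · -- off the support everything vanishes
      rw [(aLen_eq_zero_iff f F x).mpr hx]
      apply finsum_eq_zero_of_forall_eq_zero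
      intro ζ
      have h1 : f.fiberι y' ζ.1 ∉ CohB1.support F := fun h => hx (ζ.2.2.mem_closed hcl h)
      show (((aLen f F (f.fiberι y' ζ.1)).toNat : ℕ) : ℤ) * _ = 0
      rw [(aLen_eq_zero_iff f F _).mpr h1]
      simp
    have hxmax := mem_maxSupp_special f F hD hπ hcat hreg r hdim' hx hxy hxr
    obtain ⟨hSfin, hxfin, hfac, hform⟩ := aLen_eq_finsum f F hD hreg hxmax
    set S : Set X := {ξ | ξ ∈ MaxSupp f F y' ∧ ξ ⤳ x} with hS
    have hinj : Function.Injective
        (fun ζ : {ζ : f.fiber y' // δη ζ = r ∧ (f.fiberι y' ζ) ⤳ (f.fiberι y x')} =>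
          f.fiberι y' ζ.1) := by
      intro a b hab
      exact Subtype.ext ((f.fiberι y').isEmbedding.injective hab)
    rw [← finsum_mem_range (f := G) hinj]
    have hsets : Set.range
        (fun ζ : {ζ : f.fiber y' // δη ζ = r ∧ (f.fiberι y' ζ) ⤳ (f.fiberι y x')} =>
          f.fiberι y' ζ.1) ∩ Function.support G = S ∩ Function.support G := by
      ext ξ
      constructor
      · rintro ⟨⟨ζ, rfl⟩, hGξ⟩
        refine ⟨⟨?_, ζ.2.2⟩, hGξ⟩
        have hξF : f.fiberι y' ζ.1 ∈ CohB1.support F := by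
          by_contra hcon
          apply hGξ
          show (((aLen f F (f.fiberι y' ζ.1)).toNat : ℕ) : ℤ) * _ = 0
          rw [(aLen_eq_zero_iff f F _).mpr hcon]
          simp
        have hξr : (trN f (f.fiberι y' ζ.1) : ℤ) = r := by
          rw [← delta_eq_trN f y' δη hδη ζ.1]
          exact ζ.2.1
        exact mem_maxSupp_generic f F hD hπ hcat hreg r hdim' hxy hxr hξF
          (Groth.Agent.FibRes2H8.fiberι_mem f y' ζ.1) ζ.2.2
      · rintro ⟨⟨hξ1, hξ2⟩, hGξ⟩
        refine ⟨?_, hGξ⟩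
        have hmem : ξ ∈ Set.range (f.fiberι y') := by rw [f.range_fiberι y']; exact hξ1.1
        obtain ⟨ζ, rfl⟩ := hmem
        have h1 := (trN_eq_of_maxSupp f F hD hπ hcat hreg r hdim' hxy hxr hξ1 hξ2).1
        exact ⟨⟨ζ, by rw [delta_eq_trN f y' δη hδη ζ]; exact h1, hξ2⟩, rfl⟩
    rw [finsum_mem_inter_support_eq G _ S hsets]
    exact (toNat_finsum_mul S hSfin (fun ξ => aLen f F ξ) (fun ξ => smult f ξ x) _
      (fun ξ hξ => (hfac ξ hξ.1 hξ.2).1) (fun ξ hξ => (hfac ξ hξ.1 hξ.2).2) hform).symm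

end Final

end Groth.Agent.Lib.CycSpH5
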