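import Mathlib
import Groth.Agent.Lib.CycSp5_helper5

/-!
# Specialization of cycles over a DVR, part 6 (helper5)

Dictionary for a closed immersion `ι : W ⟶ X` and `a : X ⟶ Y`, `g = ι ≫ a`:
* `length_eq_of_semilinear_surjective`;
* `trN_comp_of_isClosedImmersion`: `trN (ι ≫ a) w = trN a (ι w)`;
* `smult_comp_of_isClosedImmersion`: `smult (ι ≫ a) ξ' w = smult a (ι ξ') (ι w)`.

APPEND-ONLY once landed.
-/

set_option autoImplicit false

namespace Groth.Agent.Lib.CycSpH5

open IsLocalRing AlgebraicGeometry CategoryTheory TopologicalSpace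
open Groth.Agent.Lib.SpecLenH5

universe u

section Semi

/-- length is invariant under isomorphisms semilinear over a surjective ring homomorphism -/
theorem length_eq_of_semilinear_surjective {R R' N N' : Type*} [CommRing R] [CommRing R']
    [AddCommGroup N] [AddCommGroup N'] [Module R N] [Module R' N'] (σ : R →+* R')
    (hσ : Function.Surjective σ) (ε : N ≃+ N') (h : ∀ (r : R) (n : N), ε (r • n) = σ r • ε n) :
    Module.length R N = Module.length R' N' := by
  haveI : RingHomSurjective σ := ⟨hσ⟩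
  let g : N →ₛₗ[σ] N' :=
    { toFun := ε
      map_add' := map_add ε
      map_smul' := h }
  have hg : Function.Bijective g := ε.bijective
  rw [Module.length, Module.length, WithBot.unbot_inj,
    Order.krullDim_eq_of_orderIso (Submodule.orderIsoMapComapOfBijective g hg)]

/-- the abstract form of the comparison of the multiplicities along a surjection of local rings -/
theorem length_doubleQuot_eq {T R S : Type u} [CommRing T] [CommRing R] [CommRing S]
    (α : T →+* R) (φ : R →+* S) (hφ : Function.Surjective φ) (m : Ideal T) (K : Ideal R)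
    (K' : Ideal S) (hK : K = K'.comap φ) :
    Module.length R ((R ⧸ K) ⧸ m.map ((Ideal.Quotient.mk K).comp α)) =
      Module.length S ((S ⧸ K') ⧸ m.map ((Ideal.Quotient.mk K').comp (φ.comp α))) := by
  have hle : K ≤ K'.comap φ := le_of_eq hK
  let ψ₀ : R ⧸ K →+* S ⧸ K' := Ideal.quotientMap K' φ hle
  have hψ₀ : Function.Bijective ψ₀ :=
    ⟨Ideal.quotientMap_injective' (le_of_eq hK.symm), Ideal.quotientMap_surjective hφ⟩
  let ψ : R ⧸ K ≃+* S ⧸ K' := RingEquiv.ofBijective ψ₀ hψ₀
  have hψmk : ∀ r : R, ψ (Ideal.Quotient.mk K r) = Ideal.Quotient.mk K' (φ r) := by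
    intro r
    show Ideal.quotientMap K' φ hle (Ideal.Quotient.mk K r) = _
    rw [Ideal.quotientMap_mk]
  have hJ : m.map ((Ideal.Quotient.mk K').comp (φ.comp α)) =
      (m.map ((Ideal.Quotient.mk K).comp α)).map (ψ : R ⧸ K →+* S ⧸ K') := by
    rw [Ideal.map_map]
    congr 1
  let ε := Ideal.quotientEquiv _ _ ψ hJ
  refine length_eq_of_semilinear_surjective φ hφ ε.toAddEquiv ?_
  intro r n
  obtain ⟨n, rfl⟩ := Ideal.Quotient.mk_surjective n
  obtain ⟨n, rfl⟩ := Ideal.Quotient.mk_surjective n
  show ε (Ideal.Quotient.mk _ (Ideal.Quotient.mk K (r * n))) =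
    φ r • ε (Ideal.Quotient.mk _ (Ideal.Quotient.mk K n))
  rw [Ideal.quotientEquiv_mk, Ideal.quotientEquiv_mk]
  show Ideal.Quotient.mk _ (ψ (Ideal.Quotient.mk K (r * n))) =
    φ r • Ideal.Quotient.mk _ (ψ (Ideal.Quotient.mk K n))
  rw [hψmk, hψmk, map_mul]
  rfl

end Semi

section Closed

variable {W X Y : Scheme.{u}} (ι : W ⟶ X) [IsClosedImmersion ι] (a : X ⟶ Y)

/-- the transcendence degree of the residue field extension does not change along a closed
immersion -/
theorem trN_comp [LocallyOfFiniteType a] (w : W) : trN (ι ≫ a) w = trN a (ι w) := by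
  have h1 := trN_spec (ι ≫ a) w
  have h2 := trN_spec a (ι w)
  have hbij : Function.Bijective (ι.residueFieldMap w).hom :=
    ⟨(ι.residueFieldMap w).hom.injective,
      Groth.Agent.FibResH8.residueFieldMap_surjective_of_isPreimmersion ι w⟩
  have h3 : @Algebra.trdeg (Y.residueField (a (ι w))) (X.residueField (ι w)) _ _
      (a.residueFieldMap (ι w)).hom.toAlgebra =
      @Algebra.trdeg (Y.residueField ((ι ≫ a) w)) (W.residueField w) _ _
        ((ι ≫ a).residueFieldMap w).hom.toAlgebra := by
    letI a1 : Algebra (Y.residueField (a (ι w))) (X.residueField (ι w)) :=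
      (a.residueFieldMap (ι w)).hom.toAlgebra
    letI a2 : Algebra (Y.residueField ((ι ≫ a) w)) (W.residueField w) :=
      ((ι ≫ a).residueFieldMap w).hom.toAlgebra
    refine Groth.Agent.DimIneqH8.trdeg_eq_of_ringEquiv
      (RingEquiv.refl (Y.residueField (a (ι w))))
      (RingEquiv.ofBijective (ι.residueFieldMap w).hom hbij) ?_
    intro r
    show (ι.residueFieldMap w).hom ((a.residueFieldMap (ι w)).hom r) =
      ((ι ≫ a).residueFieldMap w).hom r
    rw [Scheme.residueFieldMap_comp]
    rfl
  rw [h3, h1] at h2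
  exact_mod_cast h2

/-- the kernel of `O_{X, ι w} → κ(ι ξ')` is the preimage of the kernel of `O_{W,w} → κ(ξ')` -/
theorem ker_specMap_comap (ξ' w : W) (h' : ξ' ⤳ w) (h : ι ξ' ⤳ ι w) :
    RingHom.ker (Cyc.specMap (ι w) (ι ξ') h) =
      (RingHom.ker (Cyc.specMap w ξ' h')).comap (ι.stalkMap w).hom := by
  have key : ∀ r : X.presheaf.stalk (ι w), Cyc.specMap w ξ' h' ((ι.stalkMap w).hom r) =
      (ι.residueFieldMap ξ').hom (Cyc.specMap (ι w) (ι ξ') h r) := by
    intro r
    unfold Cyc.specMap
    rw [CommRingCat.hom_comp, RingHom.comp_apply, CommRingCat.hom_comp, RingHom.comp_apply]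
    have h1 := Scheme.Hom.stalkSpecializes_stalkMap_apply ι ξ' w h' r
    have h2 := Scheme.residue_residueFieldMap ι ξ'
    have h3 := congrArg (fun ψ => ψ.hom ((X.presheaf.stalkSpecializes h).hom r)) h2
    simp only [CommRingCat.hom_comp, RingHom.comp_apply] at h3
    rw [h3]
    congr 1
    exact h1.symm
  ext r
  rw [RingHom.mem_ker, Ideal.mem_comap, RingHom.mem_ker, key]
  constructor
  · intro h0
    rw [h0, map_zero]
  · intro h0
    exact (ι.residueFieldMap ξ').hom.injective (by rw [h0, map_zero])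

/-- the multiplicity of `Cyc.spFun` does not change along a closed immersion -/
theorem smult_comp (ξ' w : W) (h' : ξ' ⤳ w) :
    smult (ι ≫ a) ξ' w = smult a (ι ξ') (ι w) := by
  have h : ι ξ' ⤳ ι w := h'.map ι.continuous
  unfold smult
  rw [dif_pos h', dif_pos h]
  have hcomp : ((ι ≫ a).stalkMap w).hom = (ι.stalkMap w).hom.comp (a.stalkMap (ι w)).hom := by
    rw [Scheme.Hom.stalkMap_comp]
    rfl
  have := length_doubleQuot_eq (a.stalkMap (ι w)).hom (ι.stalkMap w).hom
    (ι.stalkMap_surjective w) (maximalIdeal (Y.presheaf.stalk (a (ι w))))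
    (RingHom.ker (Cyc.specMap (ι w) (ι ξ') h)) (RingHom.ker (Cyc.specMap w ξ' h'))
    (ker_specMap_comap ι ξ' w h' h)
  rw [this, ← hcomp]
  rfl

end Closed

end Groth.Agent.Lib.CycSpH5
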