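/-
helper5: equidimensionality of fibre modules, ring level (EGA IV 12.1.1 (v)-type).
* `ringKrullDim_quotient_comap_of_surjective`, `isEquidimModule_iff_of_surjective`,
  `exists_minimalPrimes_dim_eq_supportDim`.
* `dim_quotient_add_fibCoheight`: dim (Fib_q/𝔓) + dim cl(q) = dim cl(𝔓 ∩ B) in the fibre; `fibCoheight_ne_top`.
* `isEquidimModule_fibModQ_iff`; `EquidimSk`; `isOpen_equidimSk`.
APPEND-ONLY once landed.
-/
import Mathlib
import Groth.Agent.Lib.FibAssDim3_helper5
import Groth.Agent.Lib.CMChain_helper5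
import Groth.Agent.Lib.Equi133_helper8
import Groth.Prelude.Def_EGA4b

set_option autoImplicit false
set_option backward.isDefEq.respectTransparency false

namespace Groth.Agent.Lib.FibAssH5

open TensorProduct Pointwise CategoryTheory
open Groth.Agent.Lib.FibSkH5 Groth.Agent.Lib.FibPdH5 Groth.Agent.Lib.FibRectH5

universe u

section General

theorem ringKrullDim_quotient_comap_of_surjective {R S : Type*} [CommRing R] [CommRing S]
    (f : R →+* S) (hf : Function.Surjective f) (I : Ideal S) :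
    ringKrullDim (R ⧸ I.comap f) = ringKrullDim (S ⧸ I) :=
  ringKrullDim_eq_of_ringEquiv (RingEquiv.ofBijective (Ideal.quotientMap I f le_rfl)
    ⟨Ideal.quotientMap_injective, Ideal.quotientMap_surjective hf⟩)

/-- equidimensionality along a surjective ring map and a semilinear additive isomorphism -/
theorem isEquidimModule_iff_of_surjective {R R' : Type u} [CommRing R] [CommRing R']
    (φ : R →+* R') (hφ : Function.Surjective φ)
    {N N' : Type u} [AddCommGroup N] [Module R N] [AddCommGroup N'] [Module R' N']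
    (ε : N ≃+ N') (hε : ∀ (r : R) (x : N), ε (r • x) = φ r • ε x)
    (hdim : Module.supportDim R N = Module.supportDim R' N') :
    EGA4.IsEquidimModule R N ↔ EGA4.IsEquidimModule R' N' := by
  have hann : Module.annihilator R N = (Module.annihilator R' N').comap φ := by
    ext r
    rw [Ideal.mem_comap, Module.mem_annihilator, Module.mem_annihilator]
    constructor
    · intro h y
      obtain ⟨x, rfl⟩ := ε.surjective y
      rw [← hε, h, map_zero]
    · intro h x
      apply ε.injective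
      rw [hε, h, map_zero]
  have hmin := Ideal.comap_minimalPrimes_eq_of_surjective hφ (Module.annihilator R' N')
  unfold EGA4.IsEquidimModule
  rw [hann, hmin]
  constructor
  · intro h p' hp'
    have := h (p'.comap φ) ⟨p', hp', rfl⟩
    rw [ringKrullDim_quotient_comap_of_surjective φ hφ, hdim] at this
    exact this
  · rintro h _ ⟨p', hp', rfl⟩
    rw [ringKrullDim_quotient_comap_of_surjective φ hφ, hdim]
    exact h p' hp'

/-- a nonzero finite module over a Noetherian local ring has a minimal prime of its support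
of full coheight -/
theorem exists_minimalPrimes_dim_eq_supportDim (R : Type u) [CommRing R] [IsLocalRing R]
    [IsNoetherianRing R] (N : Type u) [AddCommGroup N] [Module R N] [Module.Finite R N]
    [Nontrivial N] :
    ∃ p ∈ (Module.annihilator R N).minimalPrimes,
      ringKrullDim (R ⧸ p) = Module.supportDim R N := by
  have hne : Module.annihilator R N ≠ ⊤ := by
    intro h
    rw [Module.annihilator_eq_top_iff] at h
    exact not_subsingleton N h
  haveI : Nontrivial (R ⧸ Module.annihilator R N) := Ideal.Quotient.nontrivial_iff.mpr hne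
  haveI : IsLocalRing (R ⧸ Module.annihilator R N) :=
    IsLocalRing.of_surjective' (Ideal.Quotient.mk _) Ideal.Quotient.mk_surjective
  obtain ⟨𝔭, h𝔭, hd⟩ := Equi133H8.exists_minimalPrimes_dim_eq (R ⧸ Module.annihilator R N)
  refine ⟨𝔭.comap (Ideal.Quotient.mk _), ?_, ?_⟩
  · rw [Ideal.minimalPrimes_eq_comap]
    exact ⟨𝔭, h𝔭, rfl⟩
  · rw [ringKrullDim_quotient_comap_of_surjective _ Ideal.Quotient.mk_surjective, hd,
      Module.supportDim_eq_ringKrullDim_quotient_annihilator]

end General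


section Poly

variable (A : Type u) [CommRing A] (N : ℕ)

theorem support_self (R : Type*) [CommRing R] : Module.support R R = Set.univ := by
  rw [Module.support_eq_zeroLocus, Module.annihilator_eq_bot.mpr inferInstance]
  simp

theorem lift_nat {x : WithBot ℕ∞} {d : ℕ} (h0 : 0 ≤ x) (h1 : x ≤ (d : WithBot ℕ∞)) :
    ∃ n : ℕ, x = (n : WithBot ℕ∞) := by
  induction x with
  | bot => exact absurd h0 (by simp)
  | coe y =>
    have hy : y ≤ (d : ℕ∞) := by exact_mod_cast h1
    have hy' : y ≠ ⊤ := ne_top_of_le_ne_top (ENat.natCast_ne_top d) hy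
    lift y to ℕ using hy'
    exact ⟨y, rfl⟩

theorem dim_arith (d₁ d₂ N n : ℕ) (cQ cr : ℕ∞)
    (h1 : (d₁ : WithBot ℕ∞) + ((cQ : ℕ∞) : WithBot ℕ∞) = (N : WithBot ℕ∞))
    (h2 : (d₂ : WithBot ℕ∞) + ((cr : ℕ∞) : WithBot ℕ∞) = (N : WithBot ℕ∞))
    (key : (d₂ : WithBot ℕ∞) + (n : WithBot ℕ∞) = (d₁ : WithBot ℕ∞)) :
    (n : WithBot ℕ∞) + ((cQ : ℕ∞) : WithBot ℕ∞) = ((cr : ℕ∞) : WithBot ℕ∞) := by
  have h1' : (d₁ : ℕ∞) + cQ = (N : ℕ∞) := by exact_mod_cast h1
  have h2' : (d₂ : ℕ∞) + cr = (N : ℕ∞) := by exact_mod_cast h2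
  have hcQ : cQ ≠ ⊤ := by
    intro h; rw [h, add_top] at h1'; exact ENat.top_ne_natCast N h1'
  have hcr : cr ≠ ⊤ := by
    intro h; rw [h, add_top] at h2'; exact ENat.top_ne_natCast N h2'
  lift cQ to ℕ using hcQ
  lift cr to ℕ using hcr
  have k1 : d₁ + cQ = N := by exact_mod_cast h1'
  have k2 : d₂ + cr = N := by exact_mod_cast h2'
  have k3 : d₂ + n = d₁ := by exact_mod_cast key
  have : n + cQ = cr := by omega
  exact_mod_cast this

theorem fibCoheight_congr {B : Type u} [CommRing B] [Algebra A B] (r₁ r₂ : Ideal B)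
    [r₁.IsPrime] [r₂.IsPrime] (h : r₁ = r₂) : fibCoheight A r₁ = fibCoheight A r₂ := by
  subst h
  rfl

set_option maxHeartbeats 1000000 in
/-- the dimension formula for quotients of the fibre local rings of a polynomial algebra -/
theorem dim_quotient_add_fibCoheight_mvPolynomial (Q : Ideal (MvPolynomial (Fin N) A)) [Q.IsPrime]
    (𝔓 : Ideal (Fib A Q)) [𝔓.IsPrime] :
    ringKrullDim (Fib A Q ⧸ 𝔓) + ((fibCoheight A Q : ℕ∞) : WithBot ℕ∞) =
      ((fibCoheight A (below A Q 𝔓) : ℕ∞) : WithBot ℕ∞) := by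
  haveI := isRegularLocalRing_fib_mvPolynomial A N Q
  have hCM : LocCoh.IsCohenMacaulayModule (Fib A Q) (Fib A Q) :=
    Groth.Agent.RegQuot.isCM_of_regular (Fib A Q)
  have key := Groth.Agent.CMChain.height_add_ringKrullDim_quotient (Fib A Q) (Fib A Q) hCM
    (support_self _) 𝔓
  obtain ⟨σ, -⟩ := exists_fib_loc_ringEquiv A Q 𝔓
  have hht : (𝔓.height : WithBot ℕ∞) = ringKrullDim (Fib A (below A Q 𝔓)) := by
    rw [← IsLocalization.AtPrime.ringKrullDim_eq_height 𝔓 (Localization.AtPrime 𝔓)]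
    exact ringKrullDim_eq_of_ringEquiv σ
  have h1 := dim_fib_add_fibCoheight_mvPolynomial A N Q
  have h2 := dim_fib_add_fibCoheight_mvPolynomial A N (below A Q 𝔓)
  rw [hht] at key
  -- arithmetic
  obtain ⟨d₁, hd₁⟩ := Groth.Agent.GlDim.exists_dim (Fib A Q)
  haveI := isRegularLocalRing_fib_mvPolynomial A N (below A Q 𝔓)
  obtain ⟨d₂, hd₂⟩ := Groth.Agent.GlDim.exists_dim (Fib A (below A Q 𝔓))
  rw [hd₁] at h1 key
  rw [hd₂] at h2 key
  have hx0 : 0 ≤ ringKrullDim (Fib A Q ⧸ 𝔓) := ringKrullDim_nonneg_of_nontrivial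
  have hx1 : ringKrullDim (Fib A Q ⧸ 𝔓) ≤ (d₁ : WithBot ℕ∞) := by
    rw [← hd₁]
    exact ringKrullDim_quotient_le 𝔓
  obtain ⟨n, hn⟩ := lift_nat hx0 hx1
  rw [hn] at key ⊢
  exact dim_arith d₁ d₂ N n _ _ h1 h2 key

end Poly


section Transfer

variable (A : Type u) {P B : Type u} [CommRing A] [CommRing P] [CommRing B] [Algebra A P]
  [Algebra A B] [Algebra P B] [IsScalarTower A P B]
  (hsurj : Function.Surjective (algebraMap P B)) (q : Ideal B) [q.IsPrime]
  (𝔓 : Ideal (Fib A q)) [𝔓.IsPrime]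

theorem fibMap_algebraMap (x : P) :
    fibMap (P := P) A q (algebraMap P (Fib A (under (P := P) q)) x) =
      algebraMap B (Fib A q) (algebraMap P B x) := by
  rw [IsScalarTower.algebraMap_apply P (Localization.AtPrime (under (P := P) q))
    (Fib A (under (P := P) q)), Ideal.Quotient.algebraMap_eq, fibMap_mk, locMap_algebraMap,
    IsScalarTower.algebraMap_apply B (Localization.AtPrime q) (Fib A q),
    Ideal.Quotient.algebraMap_eq]

theorem below_comap_fibMap :
    below A (under (P := P) q) (𝔓.comap (fibMap (P := P) A q)) =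
      under (P := P) (below A q 𝔓) := by
  ext x
  show fibMap (P := P) A q (algebraMap P (Fib A (under (P := P) q)) x) ∈ 𝔓 ↔
    algebraMap B (Fib A q) (algebraMap P B x) ∈ 𝔓
  rw [fibMap_algebraMap]

end Transfer

section Formula

variable {A B : Type u} [CommRing A] [CommRing B] [Algebra A B] [Algebra.FiniteType A B]

set_option maxHeartbeats 1000000 in
/-- **the dimension formula in the fibre local rings**: for a prime `𝔓` of the local ring of the
fibre at `q`, `dim (Fib_q / 𝔓) + dim cl(q) = dim cl(𝔓 ∩ B)` (closures in the fibre). -/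
theorem dim_quotient_add_fibCoheight (q : Ideal B) [q.IsPrime] (𝔓 : Ideal (Fib A q))
    [𝔓.IsPrime] :
    ringKrullDim (Fib A q ⧸ 𝔓) + ((fibCoheight A q : ℕ∞) : WithBot ℕ∞) =
      ((fibCoheight A (below A q 𝔓) : ℕ∞) : WithBot ℕ∞) := by
  obtain ⟨N, f, hf⟩ := Algebra.FiniteType.iff_quotient_mvPolynomial''.mp
    (inferInstance : Algebra.FiniteType A B)
  letI algPB : Algebra (MvPolynomial (Fin N) A) B := f.toRingHom.toAlgebra
  haveI : IsScalarTower A (MvPolynomial (Fin N) A) B :=
    IsScalarTower.of_algebraMap_eq fun a => (f.commutes a).symm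
  have hsurj : Function.Surjective (algebraMap (MvPolynomial (Fin N) A) B) := hf
  have h := dim_quotient_add_fibCoheight_mvPolynomial A N
    (under (P := MvPolynomial (Fin N) A) q)
    (𝔓.comap (fibMap (P := MvPolynomial (Fin N) A) A q))
  rw [ringKrullDim_quotient_comap_of_surjective (fibMap (P := MvPolynomial (Fin N) A) A q)
    (fibMap_surjective A hsurj q) 𝔓, fibCoheight_under A hsurj q,
    fibCoheight_congr A _ _ (below_comap_fibMap A q 𝔓),
    fibCoheight_under A hsurj (below A q 𝔓)] at h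
  exact h

/-- the closure of a point in its fibre is finite dimensional -/
theorem fibCoheight_ne_top (q : Ideal B) [q.IsPrime] : fibCoheight A q ≠ ⊤ := by
  obtain ⟨N, f, hf⟩ := Algebra.FiniteType.iff_quotient_mvPolynomial''.mp
    (inferInstance : Algebra.FiniteType A B)
  letI algPB : Algebra (MvPolynomial (Fin N) A) B := f.toRingHom.toAlgebra
  haveI : IsScalarTower A (MvPolynomial (Fin N) A) B :=
    IsScalarTower.of_algebraMap_eq fun a => (f.commutes a).symm
  have hsurj : Function.Surjective (algebraMap (MvPolynomial (Fin N) A) B) := hf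
  have h := dim_fib_add_fibCoheight_mvPolynomial A N (under (P := MvPolynomial (Fin N) A) q)
  rw [fibCoheight_under A hsurj q] at h
  haveI := isRegularLocalRing_fib_mvPolynomial A N (under (P := MvPolynomial (Fin N) A) q)
  obtain ⟨d, hd⟩ := Groth.Agent.GlDim.exists_dim (Fib A (under (P := MvPolynomial (Fin N) A) q))
  rw [hd] at h
  intro htop
  rw [htop] at h
  have h' : ((d : ℕ∞) + ⊤ : ℕ∞) = (N : ℕ∞) := by exact_mod_cast h
  rw [add_top] at h'
  exact ENat.top_ne_natCast N h'

end Formula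


section Equidim

variable {A B : Type u} [CommRing A] [CommRing B] [Algebra A B] [Algebra.FiniteType A B]
  (M : Type u) [AddCommGroup M] [Module B M] [Module.Finite B M]

set_option maxHeartbeats 1000000 in
/-- when the fibre module at `q` has no embedded prime, it is equidimensional iff all the
associated points of the fibre module generizing `q` have closures of the same dimension -/
theorem isEquidimModule_fibModQ_iff (q : PrimeSpectrum B) (hS1 : NoEmbR A M q) :
    EGA4.IsEquidimModule (Fib A q.asIdeal) (FibModQ A q.asIdeal M) ↔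
      ∃ k₀ : ℕ, AssDimIn A M {k₀} q := by
  haveI := isNoetherianRing_fib (A := A) q.asIdeal
  constructor
  · intro heq
    by_cases hex : ∃ 𝔯₁ : PrimeSpectrum B, 𝔯₁ ≤ q ∧
        𝔯₁.asIdeal.comap (algebraMap A B) = q.asIdeal.comap (algebraMap A B) ∧ AssFib A M 𝔯₁
    · obtain ⟨𝔯₁, hle₁, hc₁, hass₁⟩ := hex
      have key : ∀ 𝔯 : PrimeSpectrum B, 𝔯 ≤ q →
          𝔯.asIdeal.comap (algebraMap A B) = q.asIdeal.comap (algebraMap A B) → AssFib A M 𝔯 →
          Module.supportDim (Fib A q.asIdeal) (FibModQ A q.asIdeal M) +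
            ((fibCoheight A q.asIdeal : ℕ∞) : WithBot ℕ∞) =
            ((fibCoheight A 𝔯.asIdeal : ℕ∞) : WithBot ℕ∞) := by
        intro 𝔯 hle hc hass
        obtain ⟨𝔓, h𝔓, h𝔓𝔯⟩ := exists_prime_fib_of_le A q.asIdeal 𝔯.asIdeal hle hc
        have hassP : 𝔓 ∈ associatedPrimes (Fib A q.asIdeal) (FibModQ A q.asIdeal M) :=
          (mem_associatedPrimes_fibModQ_iff M q.asIdeal 𝔓).mpr
            ((assFib_congr M (below A q.asIdeal 𝔓) 𝔯 h𝔓𝔯).mpr hass)
        have hann : Module.annihilator (Fib A q.asIdeal) (FibModQ A q.asIdeal M) ≤ 𝔓 := by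
          rw [← Submodule.annihilator_top]
          exact IsAssociatedPrime.annihilator_le hassP
        obtain ⟨𝔓₀, h𝔓₀, hle₀⟩ := Ideal.exists_minimalPrimes_le hann
        haveI := h𝔓₀.1.1
        have hass₀ : 𝔓₀ ∈ associatedPrimes (Fib A q.asIdeal) (FibModQ A q.asIdeal M) :=
          Module.associatedPrimes.minimalPrimes_annihilator_subset_associatedPrimes _ _ h𝔓₀
        have hassF₀ := (mem_associatedPrimes_fibModQ_iff M q.asIdeal 𝔓₀).mp hass₀
        have hle' : (⟨below A q.asIdeal 𝔓₀, inferInstance⟩ : PrimeSpectrum B) ≤ 𝔯 := by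
          show below A q.asIdeal 𝔓₀ ≤ 𝔯.asIdeal
          rw [← h𝔓𝔯]
          exact Ideal.comap_mono hle₀
        have hc' : (below A q.asIdeal 𝔓₀).comap (algebraMap A B) =
            𝔯.asIdeal.comap (algebraMap A B) := by
          rw [comap_below, hc]
        have heq₀ := hS1 𝔯 hle hc hass ⟨below A q.asIdeal 𝔓₀, inferInstance⟩ hle' hc' hassF₀
        have h𝔓eq : 𝔓₀ = 𝔓 := by
          apply below_injective A q.asIdeal
          rw [h𝔓𝔯]
          exact congrArg PrimeSpectrum.asIdeal heq₀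
        rw [h𝔓eq] at h𝔓₀
        have hdim := heq 𝔓 h𝔓₀
        have hform := dim_quotient_add_fibCoheight (A := A) q.asIdeal 𝔓
        rw [hdim] at hform
        rw [hform, fibCoheight_congr A _ _ h𝔓𝔯]
      have hfin := fibCoheight_ne_top (A := A) 𝔯₁.asIdeal
      obtain ⟨k₀, hk₀⟩ := ENat.ne_top_iff_exists.mp hfin
      refine ⟨k₀, fun 𝔯 hle hc hass => ⟨k₀, rfl, ?_⟩⟩
      have h1 := key 𝔯 hle hc hass
      have h2 := key 𝔯₁ hle₁ hc₁ hass₁
      rw [h1] at h2
      rw [hk₀]
      exact WithBot.coe_injective h2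
    · exact ⟨0, fun 𝔯 hle hc hass => absurd ⟨𝔯, hle, hc, hass⟩ hex⟩
  · rintro ⟨k₀, hk₀⟩ 𝔓 h𝔓
    haveI := h𝔓.1.1
    have hass : 𝔓 ∈ associatedPrimes (Fib A q.asIdeal) (FibModQ A q.asIdeal M) :=
      Module.associatedPrimes.minimalPrimes_annihilator_subset_associatedPrimes _ _ h𝔓
    haveI : Nontrivial (FibModQ A q.asIdeal M) := by
      by_contra hnt
      rw [not_nontrivial_iff_subsingleton] at hnt
      have : associatedPrimes (Fib A q.asIdeal) (FibModQ A q.asIdeal M) = ∅ :=
        associatedPrimes.eq_empty_of_subsingleton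
      rw [this] at hass
      exact Set.notMem_empty _ hass
    have hall : ∀ 𝔓' ∈ (Module.annihilator (Fib A q.asIdeal) (FibModQ A q.asIdeal M)).minimalPrimes,
        ringKrullDim (Fib A q.asIdeal ⧸ 𝔓') + ((fibCoheight A q.asIdeal : ℕ∞) : WithBot ℕ∞) =
          ((k₀ : ℕ∞) : WithBot ℕ∞) := by
      intro 𝔓' h𝔓'
      haveI := h𝔓'.1.1
      have hass' : 𝔓' ∈ associatedPrimes (Fib A q.asIdeal) (FibModQ A q.asIdeal M) :=
        Module.associatedPrimes.minimalPrimes_annihilator_subset_associatedPrimes _ _ h𝔓'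
      have hassF := (mem_associatedPrimes_fibModQ_iff M q.asIdeal 𝔓').mp hass'
      obtain ⟨n, hn, hcn⟩ := hk₀ ⟨below A q.asIdeal 𝔓', inferInstance⟩ (below_le A q.asIdeal 𝔓')
        (comap_below A q.asIdeal 𝔓') hassF
      rw [Set.mem_singleton_iff] at hn
      subst hn
      have hform := dim_quotient_add_fibCoheight (A := A) q.asIdeal 𝔓'
      rw [hform]
      exact congrArg _ hcn
    obtain ⟨𝔓₁, h𝔓₁, hd₁⟩ := exists_minimalPrimes_dim_eq_supportDim (Fib A q.asIdeal)
      (FibModQ A q.asIdeal M)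
    have e1 := hall 𝔓 h𝔓
    have e2 := hall 𝔓₁ h𝔓₁
    rw [← e2] at e1
    obtain ⟨c, hc⟩ := ENat.ne_top_iff_exists.mp (fibCoheight_ne_top (A := A) q.asIdeal)
    rw [← hc] at e1
    rw [← hd₁]
    exact Equi133H8.add_nat_cancel _ _ c e1

end Equidim


section OpenEquidim

variable {A B : Type u} [CommRing A] [CommRing B] [Algebra A B] [Algebra.FinitePresentation A B]
  (M : Type u) [AddCommGroup M] [Module B M] [Module A M]
  [IsScalarTower A B M] [Module.FinitePresentation B M] [Module.Flat A M]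

/-- the fibre module at `q` is equidimensional and `(S_k)` -/
def EquidimSk (A : Type u) {B : Type u} [CommRing A] [CommRing B] [Algebra A B]
    (M : Type u) [AddCommGroup M] [Module B M] (k : ℕ) (q : PrimeSpectrum B) : Prop :=
  EGA4.IsEquidimModule (Fib A q.asIdeal) (FibModQ A q.asIdeal M) ∧
    LocCoh.HasSk k (Fib A q.asIdeal) (FibModQ A q.asIdeal M)

theorem skAt_one_of_le {k : ℕ} (hk : 1 ≤ k) (𝔯 : PrimeSpectrum B) (h : SkAt A M k 𝔯) :
    SkAt A M 1 𝔯 := by
  unfold SkAt at h ⊢
  refine le_trans (min_le_min_right _ ?_) h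
  exact_mod_cast hk

/-- **Ring-level EGA IV 12.1.1 (v)-type**: for `k ≥ 1` the locus where the fibre module is
equidimensional and `(S_k)` is open. -/
theorem isOpen_equidimSk (k : ℕ) (hk : 1 ≤ k) :
    IsOpen {q : PrimeSpectrum B | EquidimSk A M k q} := by
  have h1 := isOpen_hasSk_fibModQ (A := A) (B := B) M k
  have h2 : IsOpen (⋃ k₀ : ℕ, {q : PrimeSpectrum B | AssDimIn A M {k₀} q}) :=
    isOpen_iUnion fun k₀ => isOpen_assDimIn M {k₀}
  convert h2.inter h1 using 1
  ext q
  rw [Set.mem_inter_iff, Set.mem_iUnion, Set.mem_ofPred_eq, Set.mem_ofPred_eq]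
  unfold EquidimSk
  have hno : LocCoh.HasSk k (Fib A q.asIdeal) (FibModQ A q.asIdeal M) → NoEmbR A M q := by
    intro hs
    rw [noEmbR_iff]
    intro 𝔯 hle hc
    exact skAt_one_of_le M hk 𝔯 ((hasSk_fibModQ_iff M k q).mp hs 𝔯 hle hc)
  constructor
  · rintro ⟨he, hs⟩
    exact ⟨(isEquidimModule_fibModQ_iff M q (hno hs)).mp he, hs⟩
  · rintro ⟨he, hs⟩
    exact ⟨(isEquidimModule_fibModQ_iff M q (hno hs)).mpr he, hs⟩

end OpenEquidim

end Groth.Agent.Lib.FibAssH5
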