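/-
helper5: equidimensional and (S_k) locus of fibre modules, scheme level (EGA IV 12.1.1 (v)-type, 12.2.1).
* `isOpen_fibEquidimSk` (S4984 form), `isOpen_proper_fibEquidimSk` (S5919 form).
APPEND-ONLY once landed.
-/
import Mathlib
import Groth.Agent.Lib.FibAssDim2_helper5
import Groth.Agent.Lib.FibEquidim1_helper5

set_option autoImplicit false

namespace Groth.Agent.Lib.FibAssH5

open AlgebraicGeometry CategoryTheory TopologicalSpace TensorProduct
open Groth.Agent.Lib.FibSkH5 Groth.Agent.Lib.FibPdH5 Groth.Agent.Lib.FibRectH5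

universe u

section EquidimScheme

variable {X Y : Scheme.{u}} (f : X ⟶ Y)

/-- the condition of S4984 at a point of a fibre -/
def FibEquidimSk (F : X.Modules) (k : ℕ) (y : Y) (z : f.fiber y) : Prop :=
  EGA4.IsEquidimModule ((f.fiber y).presheaf.stalk z)
      (((Scheme.Modules.pullback (f.fiberι y)).obj F).presheaf.stalk z) ∧
    LocCoh.HasSk k ((f.fiber y).presheaf.stalk z)
      (((Scheme.Modules.pullback (f.fiberι y)).obj F).presheaf.stalk z)

set_option maxHeartbeats 1000000 in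
/-- **EGA IV 12.1.1 (v)-type** (S4984 form) -/
theorem isOpen_fibEquidimSk [LocallyOfFinitePresentation f] (F : X.Modules)
    (hF : CohB1.IsFP F) (hflat : FlatMod.IsFlatOver f F) (k : ℕ) (hk : 1 ≤ k) :
    IsOpen {x : X | FibEquidimSk f F k (f.base x) (f.asFiber x)} := by
  classical
  haveI : SheafOfModules.IsFinitePresentation (R := X.ringCatSheaf) F := hF
  haveI : F.IsQuasicoherent := inferInstance
  rw [isOpen_iff_forall_mem_open]
  intro x hx
  obtain ⟨V, hV, hyV, -⟩ := Opens.isBasis_iff_nbhd.mp Y.isBasis_affineOpens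
    (show f.base x ∈ (⊤ : Y.Opens) from trivial)
  obtain ⟨U, hU, hxU, e⟩ := Opens.isBasis_iff_nbhd.mp X.isBasis_affineOpens
    (show x ∈ f ⁻¹ᵁ V from hyV)
  letI algAB : Algebra Γ(Y, V) Γ(X, U) := (f.appLE V U e).hom.toAlgebra
  haveI : Algebra.FinitePresentation Γ(Y, V) Γ(X, U) :=
    HasRingHomProperty.appLE (P := @LocallyOfFinitePresentation) f inferInstance ⟨V, hV⟩ ⟨U, hU⟩ e
  letI mAM : Module Γ(Y, V) Γ(F, U) := Module.compHom Γ(F, U) (f.appLE V U e).hom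
  haveI : IsScalarTower Γ(Y, V) Γ(X, U) Γ(F, U) :=
    IsScalarTower.of_algebraMap_smul (fun _ _ => rfl)
  haveI : Module.FinitePresentation Γ(X, U) Γ(F, U) :=
    QCohFP2.finitePresentation_of_isFinitePresentation F hU
  haveI : Module.Flat Γ(Y, V) Γ(F, U) :=
    FlatSecH8.flat_sections_of_flat_stalks f F hU e (fun x' hx'U =>
      (FlatSecH8.isFlatOverAt_iff_flat_stalk f F hV e hx'U).mp (hflat x'))
  have hopen := isOpen_equidimSk (A := Γ(Y, V)) (B := Γ(X, U)) Γ(F, U) k hk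
  have hmemU : ∀ 𝔭 : PrimeSpectrum Γ(X, U), (hU.fromSpec 𝔭 : X) ∈ U :=
    fun 𝔭 => Groth.Agent.SchFTH8.fromSpec_mem hU 𝔭
  have hprime : ∀ 𝔭 : PrimeSpectrum Γ(X, U),
      hU.primeIdealOf ⟨hU.fromSpec 𝔭, hmemU 𝔭⟩ = 𝔭 :=
    fun 𝔭 => Groth.Agent.SchFTH8.primeIdealOf_fromSpec hU 𝔭 (hmemU 𝔭)
  -- the pointwise dictionary
  have hdict : ∀ (y : X) (hyU : y ∈ U),
      EquidimSk Γ(Y, V) Γ(F, U) k (hU.primeIdealOf ⟨y, hyU⟩) ↔
        FibEquidimSk f F k (f.base y) (f.asFiber y) := by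
    intro y hyU
    obtain ⟨σ, ε, hε⟩ := exists_semilinear_fibMod f hV hU e F hyU
    have hs := Groth.Agent.Lib.SemiSk_helper6.symm_semilinear σ ε hε
    have hdim : Module.supportDim (Fib Γ(Y, V) (hU.primeIdealOf ⟨y, hyU⟩).asIdeal)
        (FibModQ Γ(Y, V) (hU.primeIdealOf ⟨y, hyU⟩).asIdeal Γ(F, U)) =
        Module.supportDim ((f.fiber (f.base y)).presheaf.stalk (f.asFiber y))
          (((Scheme.Modules.pullback (f.fiberι (f.base y))).obj F).presheaf.stalk (f.asFiber y)) :=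
      le_antisymm (Groth.Agent.Lib.SemiSk_helper6.supportDim_le σ.symm ε.symm hs)
        (Groth.Agent.Lib.SemiSk_helper6.supportDim_le σ ε hε)
    have h1 := isEquidimModule_iff_of_surjective σ.toRingHom σ.surjective ε hε hdim
    unfold EquidimSk FibEquidimSk
    rw [h1]
    constructor
    · rintro ⟨he, hsk⟩
      exact ⟨he, Groth.Agent.Lib.SemiSk_helper6.hasSk_of_semilinear σ ε hε k hsk⟩
    · rintro ⟨he, hsk⟩
      exact ⟨he, Groth.Agent.Lib.SemiSk_helper6.hasSk_of_semilinear σ.symm ε.symm hs k hsk⟩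
  refine ⟨(fun 𝔭 : PrimeSpectrum Γ(X, U) => (hU.fromSpec 𝔭 : X)) ''
    {q : PrimeSpectrum Γ(X, U) | EquidimSk Γ(Y, V) Γ(F, U) k q}, ?_,
    hU.fromSpec.isOpenEmbedding.isOpenMap _ hopen, ?_⟩
  · rintro _ ⟨𝔭, h𝔭, rfl⟩
    have := (hdict (hU.fromSpec 𝔭) (hmemU 𝔭)).mp (by rw [hprime]; exact h𝔭)
    exact this
  · exact ⟨hU.primeIdealOf ⟨x, hxU⟩, (hdict x hxU).mpr hx, hU.fromSpec_primeIdealOf ⟨x, hxU⟩⟩

/-- S5919 form: proper case -/
theorem isOpen_proper_fibEquidimSk [IsProper f] [LocallyOfFinitePresentation f] (F : X.Modules)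
    (hF : CohB1.IsFP F) (hflat : FlatMod.IsFlatOver f F) (k : ℕ) (hk : 1 ≤ k) :
    IsOpen {y : Y | ∀ x : ↥(f.fiber y), FibEquidimSk f F k y x} :=
  isOpen_forall_fiber f f.isClosedMap (FibEquidimSk f F k) (isOpen_fibEquidimSk f F hF hflat k hk)

end EquidimScheme

end Groth.Agent.Lib.FibAssH5
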