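import Mathlib
import Groth.Agent.Lib.FibSk4_helper5
import Groth.Agent.Lib.TensorSkAt_helper9
import Groth.Agent.Lib.FibCons2_helper8
import Groth.Agent.Lib.CMLocusBC_helper5

/-!
# Fibrewise (S_k), part 6: flat morphisms with Cohen–Macaulay fibres (helper5)

* `hasSkAt_iff_of_cm_fibLocRing`: variant of helper9's `TensorCM.hasSkAt_iff_of_cm_fibres` with the
  hypothesis on the fibre local rings `B_Q / pB_Q`.
* `hasSk_stalk_iff_of_flat`: for a flat morphism `φ : W' ⟶ W` of locally Noetherian schemes whose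
  fibre local rings are all Cohen–Macaulay, `O_{W',w'}` is `(S_k)` iff `O_{W,φ w'}` is.

APPEND-ONLY once landed.
-/

set_option autoImplicit false

namespace Groth.Agent.Lib.FibSkH5

open AlgebraicGeometry CategoryTheory TopologicalSpace

universe u

section Ring

open Groth.Agent.FlatCM Groth.Agent.TensorCM Groth.Agent.DepthLib

variable (R S : Type u) [CommRing R] [CommRing S] [Algebra R S] [IsNoetherianRing R]
  [IsNoetherianRing S] [Module.Flat R S]

/-- for a flat map whose fibre local rings are all CM, `(S_n)` at `Q ∩ R` is equivalent to `(S_n)`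
at `Q`. -/
theorem hasSkAt_iff_of_cm_fibLocRing
    (hfib : ∀ (P : Ideal S) [P.IsPrime], LocCoh.IsCohenMacaulayLocalRing (EGA4.FibLocRing R S P))
    (n : ℕ) (Q : Ideal S) [Q.IsPrime] :
    EGA4.HasSkAt n R R (Q.comap (algebraMap R S)) ↔ EGA4.HasSkAt n S S Q := by
  rw [hasSkAt_self_iff, hasSkAt_self_iff]
  constructor
  · intro h r' hr' hr'Q
    haveI := isNoetherianRing_fibLocRing R S r'
    refine sk_at_of_flat R S n r' (h _ (Ideal.comap_mono hr'Q)) ?_
    exact skLoc_of_isCMLocalRing n _ (hfib r')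
  · intro h r hr hrq
    have hle : r.map (algebraMap R S) ≤ Q := Ideal.map_le_iff_le_comap.2 hrq
    obtain ⟨P, hP, hPQ⟩ := Ideal.exists_minimalPrimes_le hle
    haveI : P.IsPrime := hP.1.1
    have hlo := liesOver_of_mem_minimalPrimes_map R S r P hP
    have hPr : P.comap (algebraMap R S) = r := hlo.over.symm
    have hP' : P ∈ ((P.comap (algebraMap R S)).map (algebraMap R S)).minimalPrimes := by
      rw [hPr]; exact hP
    have hdim0 := Groth.Agent.FibLocH8.dim_fibLocRing_eq_zero (A := R) P hP'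
    haveI := isNoetherianRing_fibLocRing R S P
    have hdep0 : LocCoh.depth (EGA4.FibLocRing R S P) (EGA4.FibLocRing R S P) = 0 := by
      have h1 := depth_le_dim (EGA4.FibLocRing R S P)
      rw [hdim0] at h1
      have h2 : LocCoh.depth (EGA4.FibLocRing R S P) (EGA4.FibLocRing R S P) ≤ 0 := by
        have : ((LocCoh.depth (EGA4.FibLocRing R S P) (EGA4.FibLocRing R S P) : ℕ∞) :
            WithBot ℕ∞) ≤ ((0 : ℕ∞) : WithBot ℕ∞) := h1
        exact WithBot.coe_le_coe.1 this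
      exact le_antisymm h2 zero_le
    obtain ⟨hd, hdim⟩ := depth_dim_localization_eq_add R S P
    rw [hdep0, add_zero] at hd
    rw [hdim0, add_zero] at hdim
    have h3 : SkLoc n (Localization.AtPrime P) := h P hPQ
    have h4 : SkLoc n (Localization.AtPrime (P.comap (algebraMap R S))) := by
      unfold SkLoc at h3 ⊢
      rw [← hd, ← hdim]
      exact h3
    have tr : ∀ (r' : Ideal R) [r'.IsPrime], r' = r →
        SkLoc n (Localization.AtPrime r') → SkLoc n (Localization.AtPrime r) := by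
      intro r' _ e h
      subst e
      exact h
    exact tr _ hPr h4

/-- `(S_n)` at a prime, read on any model of the localization. -/
theorem hasSkAt_iff_hasSk_of_isLocalization (n : ℕ) (R : Type u) [CommRing R] [IsNoetherianRing R]
    (q : Ideal R) [q.IsPrime] (T : Type u) [CommRing T] [Algebra R T]
    [IsLocalization.AtPrime T q] :
    EGA4.HasSkAt n R R q ↔ LocCoh.HasSk n T T := by
  haveI : IsNoetherianRing (Localization.AtPrime q) :=
    IsLocalization.isNoetherianRing q.primeCompl _ inferInstance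
  have h1 : EGA4.HasSkAt n R R q ↔
      LocCoh.HasSk n (Localization.AtPrime q) (Localization.AtPrime q) := by
    unfold EGA4.HasSkAt
    exact ⟨hasSk_congr (locSelfEquiv R q) n, hasSk_congr (locSelfEquiv R q).symm n⟩
  rw [h1]
  let σ : Localization.AtPrime q ≃+* T :=
    (IsLocalization.algEquiv q.primeCompl (Localization.AtPrime q) T).toRingEquiv
  exact ⟨Groth.Agent.Lib.SemiSk_helper6.hasSk_of_semilinear σ σ.toAddEquiv
      (fun r m => map_mul σ r m) n,
    Groth.Agent.Lib.SemiSk_helper6.hasSk_of_semilinear σ.symm σ.symm.toAddEquiv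
      (fun r m => map_mul σ.symm r m) n⟩

end Ring

section Scheme

/-- For a flat morphism `φ : W' ⟶ W` of locally Noetherian schemes all of whose fibre local rings
are Cohen–Macaulay, `O_{W',w'}` satisfies `(S_k)` iff `O_{W,φ w'}` does. -/
theorem hasSk_stalk_iff_of_flat {W' W : Scheme.{u}} (φ : W' ⟶ W) [Flat φ]
    [IsLocallyNoetherian W'] [IsLocallyNoetherian W]
    (hfib : ∀ w' : W', LocCoh.IsCohenMacaulayLocalRing
      ((φ.fiber (φ w')).presheaf.stalk (φ.asFiber w')))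
    (k : ℕ) (w' : W') :
    LocCoh.HasSk k (W'.presheaf.stalk w') (W'.presheaf.stalk w') ↔
      LocCoh.HasSk k (W.presheaf.stalk (φ w')) (W.presheaf.stalk (φ w')) := by
  classical
  obtain ⟨V, hV, hyV, -⟩ := Opens.isBasis_iff_nbhd.mp W.isBasis_affineOpens
    (show φ w' ∈ (⊤ : W.Opens) from trivial)
  obtain ⟨U, hU, hxU, e⟩ := Opens.isBasis_iff_nbhd.mp W'.isBasis_affineOpens
    (show w' ∈ φ ⁻¹ᵁ V from hyV)
  letI algAB : Algebra Γ(W, V) Γ(W', U) := (φ.appLE V U e).hom.toAlgebra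
  haveI : Module.Flat Γ(W, V) Γ(W', U) :=
    HasRingHomProperty.appLE (P := @Flat) φ inferInstance ⟨V, hV⟩ ⟨U, hU⟩ e
  haveI : IsNoetherianRing Γ(W, V) := IsLocallyNoetherian.component_noetherian ⟨V, hV⟩
  haveI : IsNoetherianRing Γ(W', U) := IsLocallyNoetherian.component_noetherian ⟨U, hU⟩
  have hmemU : ∀ 𝔭 : PrimeSpectrum Γ(W', U), (hU.fromSpec 𝔭 : W') ∈ U := by
    intro 𝔭
    have : (hU.fromSpec 𝔭 : W') ∈ hU.fromSpec.opensRange := ⟨𝔭, rfl⟩
    rwa [hU.opensRange_fromSpec] at this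
  have hprime : ∀ 𝔭 : PrimeSpectrum Γ(W', U),
      hU.primeIdealOf ⟨hU.fromSpec 𝔭, hmemU 𝔭⟩ = 𝔭 := by
    intro 𝔭
    apply hU.fromSpec.isOpenEmbedding.injective
    rw [hU.fromSpec_primeIdealOf]
  have key' : ∀ 𝔭 : PrimeSpectrum Γ(W', U),
      Nonempty (Fib Γ(W, V) 𝔭.asIdeal ≃+*
        (φ.fiber (φ (hU.fromSpec 𝔭))).presheaf.stalk (φ.asFiber (hU.fromSpec 𝔭))) := by
    intro 𝔭
    have := nonempty_fib_ringEquiv φ hV hU e (hmemU 𝔭)
    rwa [hprime] at this
  have hfibR : ∀ (P : Ideal Γ(W', U)) [P.IsPrime],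
      LocCoh.IsCohenMacaulayLocalRing (EGA4.FibLocRing Γ(W, V) Γ(W', U) P) := by
    intro P hP
    obtain ⟨σ⟩ := key' ⟨P, hP⟩
    haveI := hfib (hU.fromSpec ⟨P, hP⟩)
    exact Groth.Agent.FlatCM.isCMLocalRing_of_ringEquiv σ.symm
  have main := hasSkAt_iff_of_cm_fibLocRing Γ(W, V) Γ(W', U) hfibR k
    (hU.primeIdealOf ⟨w', hxU⟩).asIdeal
  have hcomap : (hU.primeIdealOf ⟨w', hxU⟩).asIdeal.comap (algebraMap Γ(W, V) Γ(W', U)) =
      (hV.primeIdealOf ⟨φ w', e hxU⟩).asIdeal := primeIdealOf_comap φ hV hU e hxU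
  letI aX : Algebra Γ(W', U) (W'.presheaf.stalk w') :=
    TopCat.Presheaf.algebra_section_stalk W'.presheaf (⟨w', hxU⟩ : U)
  letI aY : Algebra Γ(W, V) (W.presheaf.stalk (φ w')) :=
    TopCat.Presheaf.algebra_section_stalk W.presheaf (⟨φ w', e hxU⟩ : V)
  haveI : IsLocalization.AtPrime (W'.presheaf.stalk w') (hU.primeIdealOf ⟨w', hxU⟩).asIdeal :=
    hU.isLocalization_stalk ⟨w', hxU⟩
  haveI : IsLocalization.AtPrime (W.presheaf.stalk (φ w'))
      (hV.primeIdealOf ⟨φ w', e hxU⟩).asIdeal := hV.isLocalization_stalk ⟨φ w', e hxU⟩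
  rw [← hasSkAt_iff_hasSk_of_isLocalization k Γ(W', U) (hU.primeIdealOf ⟨w', hxU⟩).asIdeal,
    ← hasSkAt_iff_hasSk_of_isLocalization k Γ(W, V) (hV.primeIdealOf ⟨φ w', e hxU⟩).asIdeal,
    ← main]
  have tr : ∀ (r r' : Ideal Γ(W, V)) [r.IsPrime] [r'.IsPrime], r = r' →
      (EGA4.HasSkAt k Γ(W, V) Γ(W, V) r ↔ EGA4.HasSkAt k Γ(W, V) Γ(W, V) r') := by
    intro r r' _ _ h
    subst h
    exact Iff.rfl
  exact tr _ _ hcomap

end Scheme

section Fibrewise

open Limits Topology
open Groth.Agent.FibMapFlat Groth.Agent.FibNoeth Groth.Agent.CMLocusBC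
  Groth.Agent.Lib.FibConsH8

/-- the local ring of the fibre through `x` at `x` satisfies `(S_k)` -/
def FibSk (k : ℕ) {X S : Scheme.{u}} (f : X ⟶ S) (x : X) : Prop :=
  LocCoh.HasSk k ((f.fiber (f.base x)).presheaf.stalk (f.asFiber x))
    ((f.fiber (f.base x)).presheaf.stalk (f.asFiber x))

theorem hasSk_of_ringEquiv' {R R' : Type u} [CommRing R] [CommRing R'] (σ : R ≃+* R') (k : ℕ)
    (h : LocCoh.HasSk k R R) : LocCoh.HasSk k R' R' :=
  Groth.Agent.Lib.SemiSk_helper6.hasSk_of_semilinear σ σ.toAddEquiv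
    (fun r m => map_mul σ r m) k h

theorem fibSk_bc (k : ℕ) {X Y X' Y' : Scheme.{u}} (f : X ⟶ Y) [LocallyOfFiniteType f]
    (f' : X' ⟶ Y') (g' : X' ⟶ X) (g : Y' ⟶ Y) (hc : IsPullback g' f' f g) (x' : X') :
    FibSk k f' x' ↔ FibSk k f (g' x') := by
  haveI hflφ : Flat (fibMap hc (f' x')) := flat_fibMap hc (f' x')
  have hpt : (f.fiberι (g (f' x'))) (fibMap hc (f' x') (f'.asFiber x')) = g' x' := by
    rw [fiberι_fibMap_apply, Scheme.Hom.fiberι_asFiber]
  obtain ⟨e⟩ := fiberStalk_transport_equiv f (g (f' x')) (fibMap hc (f' x') (f'.asFiber x'))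
    (g' x') hpt
  haveI : IsLocallyNoetherian (f.fiber (g (f' x'))) := isLocallyNoetherian_fiber f _
  haveI : LocallyOfFiniteType f' :=
    MorphismProperty.of_isPullback (P := @LocallyOfFiniteType) hc inferInstance
  haveI : IsLocallyNoetherian (f'.fiber (f' x')) := isLocallyNoetherian_fiber f' (f' x')
  have key := hasSk_stalk_iff_of_flat (fibMap hc (f' x'))
    (fun w' => isCM_stalk_fiber_fibMap' hc (f' x') (fibMap hc (f' x') w')
      ((fibMap hc (f' x')).asFiber w')) k (f'.asFiber x')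
  unfold FibSk
  rw [key]
  exact ⟨hasSk_of_ringEquiv' e.symm k, hasSk_of_ringEquiv' e k⟩

theorem fibSk_loc (k : ℕ) {X S U : Scheme.{u}} (f : X ⟶ S) [LocallyOfFiniteType f] (j : U ⟶ X)
    [IsOpenImmersion j] (u : U) : FibSk k (j ≫ f) u ↔ FibSk k f (j u) := by
  haveI : IsOpenImmersion (fibComp f j ((j ≫ f) u)) :=
    MorphismProperty.of_isPullback (P := @IsOpenImmersion)
      (isPullback_fibComp f j ((j ≫ f) u)).flip inferInstance
  have hpt : (f.fiberι ((j ≫ f) u)) (fibComp f j ((j ≫ f) u) ((j ≫ f).asFiber u)) = j u := by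
    rw [← Scheme.Hom.comp_apply, fibComp_fiberι, Scheme.Hom.comp_apply,
      Scheme.Hom.fiberι_asFiber]
  obtain ⟨e⟩ := fiberStalk_transport_equiv f ((j ≫ f) u)
    (fibComp f j ((j ≫ f) u) ((j ≫ f).asFiber u)) (j u) hpt
  let σ : (f.fiber ((j ≫ f) u)).presheaf.stalk
        (fibComp f j ((j ≫ f) u) ((j ≫ f).asFiber u)) ≃+*
      ((j ≫ f).fiber ((j ≫ f) u)).presheaf.stalk ((j ≫ f).asFiber u) :=
    (asIso ((fibComp f j ((j ≫ f) u)).stalkMap ((j ≫ f).asFiber u))).commRingCatIsoToRingEquiv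
  unfold FibSk
  exact ⟨fun h => hasSk_of_ringEquiv' (σ.symm.trans e.symm) k h,
    fun h => hasSk_of_ringEquiv' (e.trans σ) k h⟩

theorem fibSk_isOpen (k : ℕ) {X S : Scheme.{u}} (f : X ⟶ S) [Flat f]
    [LocallyOfFinitePresentation f] : IsOpen {x : X | FibSk k f x} :=
  isOpen_fibre_hasSk f k

theorem isFibrewise_fibSk (k : ℕ) : IsFibrewise.{u} (fun {X S} f x => FibSk k f x) where
  bc f _ f' g' g hc x' := fibSk_bc k f f' g' g hc x'
  loc f _ j _ u := fibSk_loc k f j u
  isOpen f _ _ := fibSk_isOpen k f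

/-- **EGA IV 9.9.3 for `(S_k)`**: the fibrewise `(S_k)` locus of a morphism locally of finite
presentation is locally constructible. -/
theorem main3422 {X S : Scheme.{u}} (f : X ⟶ S) [LocallyOfFinitePresentation f] (k : ℕ) :
    Topology.IsLocallyConstructible {x : X |
      LocCoh.HasSk k ((f.fiber (f.base x)).presheaf.stalk (f.asFiber x))
        ((f.fiber (f.base x)).presheaf.stalk (f.asFiber x))} :=
  isLocallyConstructible (isFibrewise_fibSk k) f

end Fibrewise

end Groth.Agent.Lib.FibSkH5
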