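/-
helper5: the local rings of the fibres of a finite type algebra are catenary; (S_2) fibre local rings are
equidimensional.
APPEND-ONLY once landed.
-/
import Mathlib
import Groth.Agent.Lib.FibEquidim1_helper5
import Groth.Agent.Lib.RegUC_helper8
import Groth.Agent.Lib.Catenary_helper4
import Groth.Agent.S1717

set_option autoImplicit false

namespace Groth.Agent.Lib.SkEquidimH5

open TensorProduct Pointwise CategoryTheory
open Groth.Agent.Lib.FibSkH5 Groth.Agent.Lib.FibPdH5 Groth.Agent.Lib.FibRectH5
  Groth.Agent.Lib.FibAssH5

universe u

/-- the local rings of the fibres of a finite type algebra are catenary -/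
theorem isCatenary_fib {A B : Type u} [CommRing A] [CommRing B] [Algebra A B]
    [Algebra.FiniteType A B] (q : Ideal B) [q.IsPrime] : CAlg.IsCatenary (Fib A q) := by
  obtain ⟨N, f, hf⟩ := Algebra.FiniteType.iff_quotient_mvPolynomial''.mp
    (inferInstance : Algebra.FiniteType A B)
  letI algPB : Algebra (MvPolynomial (Fin N) A) B := f.toRingHom.toAlgebra
  haveI : IsScalarTower A (MvPolynomial (Fin N) A) B :=
    IsScalarTower.of_algebraMap_eq fun a => (f.commutes a).symm
  have hsurj : Function.Surjective (algebraMap (MvPolynomial (Fin N) A) B) := hf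
  haveI := isRegularLocalRing_fib_mvPolynomial A N (under (P := MvPolynomial (Fin N) A) q)
  have hCM : LocCoh.IsCohenMacaulayModule (Fib A (under (P := MvPolynomial (Fin N) A) q))
      (Fib A (under (P := MvPolynomial (Fin N) A) q)) :=
    Groth.Agent.RegQuot.isCM_of_regular _
  have h1 := RegUCH8.isCatenary_of_isCM _ hCM
  have h2 := Groth.Agent.Lib.Catenary_helper4.isCatenary_quotient _
    (RingHom.ker (fibMap (P := MvPolynomial (Fin N) A) A q)) h1
  exact RegUCH8.isCatenary_of_ringEquiv
    (RingHom.quotientKerEquivOfSurjective (fibMap_surjective A hsurj q)) h2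

/-- a catenary Noetherian local ring which is `(S_2)` is equidimensional (module form) -/
theorem isEquidimModule_self (R : Type u) [CommRing R] [IsLocalRing R] [IsNoetherianRing R]
    (hc : CAlg.IsCatenary R) (hS : LocCoh.HasSk 2 R R) : EGA4.IsEquidimModule R R := by
  intro p hp
  have hann : Module.annihilator R R = ⊥ := by
    rw [eq_bot_iff]
    intro r hr
    have := Module.mem_annihilator.mp hr 1
    simpa using this
  rw [hann] at hp
  rw [Module.supportDim_self_eq_ringKrullDim]
  exact Groth.Agent.S1717.result R hc hS p hp

end Groth.Agent.Lib.SkEquidimH5
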