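/-
helper5: a point at which the fibre is (S_2) has a well defined "dimension of the fibre components through it"
(scheme level): all associated points of the fibre generizing it have closures of the same dimension.
APPEND-ONLY once landed.
-/
import Mathlib
import Groth.Agent.Lib.SkEquidim1_helper5
import Groth.Agent.Lib.FibEquidim2_helper5
import Groth.Agent.Lib.FibSk6_helper5
import Groth.Agent.Lib.CycLen2_helper8
import Groth.Agent.Lib.CohDev17_helper8
import Groth.Agent.Lib.PB9_helper8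
import Groth.Agent.Lib.TFFree_helper8

set_option autoImplicit false

namespace Groth.Agent.Lib.SkEquidimH5

open AlgebraicGeometry CategoryTheory TopologicalSpace TensorProduct
open Groth.Agent.Lib.FibSkH5 Groth.Agent.Lib.FibPdH5 Groth.Agent.Lib.FibRectH5
  Groth.Agent.Lib.FibAssH5

universe u

section Dict

variable {X Y : Scheme.{u}} (f : X ⟶ Y) [LocallyOfFinitePresentation f] {V : Y.Opens}
  (hV : IsAffineOpen V) {U : X.Opens} (hU : IsAffineOpen U) (e : U ≤ f ⁻¹ᵁ V) (F : X.Modules)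

include hV in
/-- the pointwise dictionary for `FibAssQ` -/
theorem fibAssQ_iff (hF : CohB1.IsFP F) (Φ : Set ℕ) {x : X} (hxU : x ∈ U) :
    letI : Algebra Γ(Y, V) Γ(X, U) := (f.appLE V U e).hom.toAlgebra
    FibAssQ f F Φ (f.base x) (f.asFiber x) ↔
      (AssFib Γ(Y, V) Γ(F, U) (hU.primeIdealOf ⟨x, hxU⟩) →
        ∃ n ∈ Φ, fibCoheight Γ(Y, V) (hU.primeIdealOf ⟨x, hxU⟩).asIdeal = (n : ℕ∞)) := by
  letI algAB : Algebra Γ(Y, V) Γ(X, U) := (f.appLE V U e).hom.toAlgebra
  have h1 := asFiber_mem_ass_iff f hV hU e F hF hxU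
  have h2 := dim_closure_asFiber f hV hU e hxU
  unfold FibAssQ
  rw [h1, h2]
  constructor
  · intro h hass
    obtain ⟨n, hn, hcn⟩ := h hass
    exact ⟨n, hn, by exact_mod_cast hcn⟩
  · intro h hass
    obtain ⟨n, hn, hcn⟩ := h hass
    exact ⟨n, hn, by rw [hcn]; rfl⟩

include hV in
/-- the dictionary for the condition of `isOpen_fibAssDimIn` -/
theorem assDimIn_iff_forall_fibAssQ (hF : CohB1.IsFP F) (Φ : Set ℕ) {x : X} (hxU : x ∈ U) :
    letI : Algebra Γ(Y, V) Γ(X, U) := (f.appLE V U e).hom.toAlgebra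
    AssDimIn Γ(Y, V) Γ(F, U) Φ (hU.primeIdealOf ⟨x, hxU⟩) ↔
      ∀ z : f.fiber (f.base x), f.asFiber x ∈ closure ({z} : Set ↥(f.fiber (f.base x))) →
        FibAssQ f F Φ (f.base x) z := by
  letI algAB : Algebra Γ(Y, V) Γ(X, U) := (f.appLE V U e).hom.toAlgebra
  rw [forall_generization_iff f (FibAssQ f F Φ) x]
  have hmemU : ∀ 𝔭 : PrimeSpectrum Γ(X, U), (hU.fromSpec 𝔭 : X) ∈ U :=
    fun 𝔭 => Groth.Agent.SchFTH8.fromSpec_mem hU 𝔭
  have hprime : ∀ 𝔭 : PrimeSpectrum Γ(X, U),
      hU.primeIdealOf ⟨hU.fromSpec 𝔭, hmemU 𝔭⟩ = 𝔭 :=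
    fun 𝔭 => Groth.Agent.SchFTH8.primeIdealOf_fromSpec hU 𝔭 (hmemU 𝔭)
  have hxx : (hU.fromSpec (hU.primeIdealOf ⟨x, hxU⟩) : X) = x :=
    hU.fromSpec_primeIdealOf ⟨x, hxU⟩
  constructor
  · intro h x' hsp hy
    have hx'U : x' ∈ U := hsp.mem_open U.isOpen hxU
    have hxx' : (hU.fromSpec (hU.primeIdealOf ⟨x', hx'U⟩) : X) = x' :=
      hU.fromSpec_primeIdealOf ⟨x', hx'U⟩
    rw [fibAssQ_iff f hV hU e F hF Φ hx'U]
    intro hass
    apply h (hU.primeIdealOf ⟨x', hx'U⟩) _ _ hass
    · rw [← fromSpec_specializes_iff hU, hxx', hxx]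
      exact hsp
    · have := (base_fromSpec_eq_iff f hV hU e (hU.primeIdealOf ⟨x', hx'U⟩)
        (hU.primeIdealOf ⟨x, hxU⟩)).mp (by rw [hxx', hxx]; exact hy)
      exact this
  · intro h 𝔯 hle hc hass
    have h1 := h (hU.fromSpec 𝔯) (by
        rw [← hxx]; exact (fromSpec_specializes_iff hU 𝔯 _).mpr hle)
      (by
        rw [← hxx]; exact (base_fromSpec_eq_iff f hV hU e 𝔯 _).mpr hc)
    have h2 := (fibAssQ_iff f hV hU e F hF Φ (hmemU 𝔯)).mp h1
    rw [hprime] at h2
    exact h2 hass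

end Dict

section Main

variable {X Y : Scheme.{u}} (f : X ⟶ Y) [LocallyOfFinitePresentation f]

/-- the structure module of a locally Noetherian scheme is of finite presentation -/
theorem isFP_structureModule (X : Scheme.{u}) [IsLocallyNoetherian X] :
    CohB1.IsFP (Coh.structureModule X) := by
  obtain ⟨h1, h2⟩ := CohDevH8.isCoh_structureModule X
  haveI : (Coh.structureModule X).IsQuasicoherent := h1
  haveI : SheafOfModules.IsFiniteType (R := X.ringCatSheaf) (Coh.structureModule X) := h2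
  exact FLFH8.isFinitePresentation_of_isCoh (Coh.structureModule X)

/-- the stalk of the restriction of the structure module to a fibre is the local ring of the fibre -/
noncomputable def stalkPullbackStructureEquiv (y : Y) (z : f.fiber y) :
    (f.fiber y).presheaf.stalk z ≃ₗ[(f.fiber y).presheaf.stalk z]
      ((Scheme.Modules.pullback (f.fiberι y)).obj (Coh.structureModule X)).presheaf.stalk z :=
  (CycLenH8.stalkStructureEquiv z) ≪≫ₗ
    (CohDevH8.stalkEquivOfIso (PBH8.pullbackUnitIso (f.fiberι y)).symm z)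

set_option maxHeartbeats 1000000 in
/-- **(S_2) ⇒ locally equidimensional fibre**: if the local ring of the fibre at `x` is `(S_2)`, all the
associated points of the fibre generizing `x` have closures of the same dimension. -/
theorem exists_fibAssQ_of_fibSk [IsLocallyNoetherian X] (x : X) (hx : FibSk 2 f x) :
    ∃ e₀ : ℕ, ∀ z : f.fiber (f.base x),
      f.asFiber x ∈ closure ({z} : Set ↥(f.fiber (f.base x))) →
        FibAssQ f (Coh.structureModule X) {e₀} (f.base x) z := by
  classical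
  set F := Coh.structureModule X with hFdef
  have hF : CohB1.IsFP F := isFP_structureModule X
  haveI : SheafOfModules.IsFinitePresentation (R := X.ringCatSheaf) F := hF
  haveI : F.IsQuasicoherent := inferInstance
  obtain ⟨V, hV, hyV, -⟩ := Opens.isBasis_iff_nbhd.mp Y.isBasis_affineOpens
    (show f.base x ∈ (⊤ : Y.Opens) from trivial)
  obtain ⟨U, hU, hxU, e⟩ := Opens.isBasis_iff_nbhd.mp X.isBasis_affineOpens
    (show x ∈ f ⁻¹ᵁ V from hyV)
  letI algAB : Algebra Γ(Y, V) Γ(X, U) := (f.appLE V U e).hom.toAlgebra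
  haveI : Algebra.FinitePresentation Γ(Y, V) Γ(X, U) :=
    HasRingHomProperty.appLE (P := @LocallyOfFinitePresentation) f inferInstance ⟨V, hV⟩ ⟨U, hU⟩ e
  haveI : Algebra.FiniteType Γ(Y, V) Γ(X, U) := inferInstance
  haveI : Module.FinitePresentation Γ(X, U) Γ(F, U) :=
    QCohFP2.finitePresentation_of_isFinitePresentation F hU
  haveI : Module.Finite Γ(X, U) Γ(F, U) := inferInstance
  set q := hU.primeIdealOf ⟨x, hxU⟩ with hq
  obtain ⟨σ, ε, hε⟩ := exists_semilinear_fibMod f hV hU e F hxU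
  have hs := Groth.Agent.Lib.SemiSk_helper6.symm_semilinear σ ε hε
  haveI := isNoetherianRing_fibre_stalk f (f.base x) (f.asFiber x)
  -- the local ring of the fibre is catenary and `(S_2)`, hence equidimensional
  have hcatFib : CAlg.IsCatenary (Fib Γ(Y, V) q.asIdeal) := isCatenary_fib (A := Γ(Y, V)) q.asIdeal
  have hcatR : CAlg.IsCatenary ((f.fiber (f.base x)).presheaf.stalk (f.asFiber x)) :=
    RegUCH8.isCatenary_of_ringEquiv σ hcatFib
  have heqR : EGA4.IsEquidimModule ((f.fiber (f.base x)).presheaf.stalk (f.asFiber x))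
      ((f.fiber (f.base x)).presheaf.stalk (f.asFiber x)) :=
    isEquidimModule_self _ hcatR hx
  -- transfer to the stalk of the restriction of the structure module
  set ℓ := stalkPullbackStructureEquiv f (f.base x) (f.asFiber x) with hℓ
  have heqM : EGA4.IsEquidimModule ((f.fiber (f.base x)).presheaf.stalk (f.asFiber x))
      (((Scheme.Modules.pullback (f.fiberι (f.base x))).obj F).presheaf.stalk (f.asFiber x)) :=
    (isEquidimModule_iff_of_surjective (RingHom.id _) Function.surjective_id ℓ.toAddEquiv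
      (fun r m => ℓ.map_smul r m) (Module.supportDim_eq_of_equiv ℓ)).mp heqR
  have hskM : LocCoh.HasSk 2 ((f.fiber (f.base x)).presheaf.stalk (f.asFiber x))
      (((Scheme.Modules.pullback (f.fiberι (f.base x))).obj F).presheaf.stalk (f.asFiber x)) :=
    Groth.Agent.Lib.SemiSk_helper6.hasSk_of_semilinear (RingEquiv.refl _) ℓ.toAddEquiv
      (fun r m => ℓ.map_smul r m) 2 hx
  -- transfer to the ring level
  have hdim : Module.supportDim (Fib Γ(Y, V) q.asIdeal) (FibModQ Γ(Y, V) q.asIdeal Γ(F, U)) =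
      Module.supportDim ((f.fiber (f.base x)).presheaf.stalk (f.asFiber x))
        (((Scheme.Modules.pullback (f.fiberι (f.base x))).obj F).presheaf.stalk (f.asFiber x)) :=
    le_antisymm (Groth.Agent.Lib.SemiSk_helper6.supportDim_le σ.symm ε.symm hs)
      (Groth.Agent.Lib.SemiSk_helper6.supportDim_le σ ε hε)
  have heqFib : EGA4.IsEquidimModule (Fib Γ(Y, V) q.asIdeal)
      (FibModQ Γ(Y, V) q.asIdeal Γ(F, U)) :=
    (isEquidimModule_iff_of_surjective σ.toRingHom σ.surjective ε hε hdim).mpr heqM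
  have hskFib : LocCoh.HasSk 2 (Fib Γ(Y, V) q.asIdeal) (FibModQ Γ(Y, V) q.asIdeal Γ(F, U)) :=
    Groth.Agent.Lib.SemiSk_helper6.hasSk_of_semilinear σ.symm ε.symm hs 2 hskM
  have hno : NoEmbR Γ(Y, V) Γ(F, U) q := by
    rw [noEmbR_iff]
    intro 𝔯 hle hc
    have h2 := (hasSk_fibModQ_iff Γ(F, U) 2 q).mp hskFib 𝔯 hle hc
    unfold SkAt at h2 ⊢
    refine le_trans (min_le_min_right _ ?_) h2
    exact_mod_cast (by norm_num : (1 : ℕ) ≤ 2)
  obtain ⟨e₀, he₀⟩ := (isEquidimModule_fibModQ_iff Γ(F, U) q hno).mp heqFib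
  exact ⟨e₀, (assDimIn_iff_forall_fibAssQ f hV hU e F hF {e₀} hxU).mp he₀⟩

end Main

end Groth.Agent.Lib.SkEquidimH5
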