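import Mathlib
import Groth.Agent.Lib.CycSp6_helper5
import Groth.Agent.Lib.SkEquidim2_helper5

/-!
# Specialization of cycles over a DVR, part 7 (helper5)

For a closed immersion `ι : W ⟶ X` and `a : X ⟶ Y`: the closed subscheme `W ×_X X_y` of the fibre
`X_y` is the fibre of `ι ≫ a` (`fibreIso`), and `subschemeFun_eq` computes the coefficients
`Cyc.subschemeFun` of `W ×_X X_y ⟶ X_y` through the lengths `aLen (ι ≫ a) O_W`.

APPEND-ONLY once landed.
-/

set_option autoImplicit false

namespace Groth.Agent.Lib.CycSpH5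

open IsLocalRing AlgebraicGeometry CategoryTheory CategoryTheory.Limits TopologicalSpace
open Groth.Agent.Lib.SpecLenH5

universe u

section Sub

/-- the length of a ring over itself is invariant under ring isomorphisms -/
theorem length_self_eq_of_ringEquiv {R S : Type*} [CommRing R] [CommRing S] (σ : R ≃+* S) :
    Module.length R R = Module.length S S :=
  length_eq_of_semilinear σ σ.toAddEquiv (fun r n => map_mul σ r n)

variable {W X Y : Scheme.{u}} (ι : W ⟶ X) (a : X ⟶ Y) (pt : Y)

/-- `W ×_X X_y` is the fibre of `W ⟶ Y` over `y` -/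
noncomputable def fibreIso : pullback ι (a.fiberι pt) ≅ (ι ≫ a).fiber pt :=
  pullbackRightPullbackFstIso a (Y.fromSpecResidueField pt) ι

theorem fibreIso_hom_fiberι :
    (fibreIso ι a pt).hom ≫ (ι ≫ a).fiberι pt = pullback.fst ι (a.fiberι pt) :=
  pullbackRightPullbackFstIso_hom_fst a (Y.fromSpecResidueField pt) ι

theorem fiberι_fibreIso_apply (z : ↥(pullback ι (a.fiberι pt))) :
    (ι ≫ a).fiberι pt ((fibreIso ι a pt).hom z) = pullback.fst ι (a.fiberι pt) z := by
  rw [← fibreIso_hom_fiberι ι a pt]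
  rfl

theorem ι_fst_apply (z : ↥(pullback ι (a.fiberι pt))) :
    ι (pullback.fst ι (a.fiberι pt) z) = a.fiberι pt (pullback.snd ι (a.fiberι pt) z) := by
  have h := pullback.condition (f := ι) (g := a.fiberι pt)
  have h2 := congrArg (fun φ : pullback ι (a.fiberι pt) ⟶ X => φ z) h
  exact h2

/-- the local ring of `W ×_X X_y` at `z` has the length of the stalk of the restriction of the
structure module of `W` to the fibre of `W ⟶ Y` -/
theorem length_stalk_pullback_eq_aLen (z : ↥(pullback ι (a.fiberι pt))) :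
    Module.length ((pullback ι (a.fiberι pt)).presheaf.stalk z)
        ((pullback ι (a.fiberι pt)).presheaf.stalk z) =
      aLen (ι ≫ a) (Coh.structureModule W) (pullback.fst ι (a.fiberι pt) z) := by
  set e := fibreIso ι a pt with he
  haveI : IsIso (e.hom.stalkMap z) := inferInstance
  have h1 := length_self_eq_of_ringEquiv
    (asIso (e.hom.stalkMap z)).commRingCatIsoToRingEquiv
  rw [← h1, ← fiberι_fibreIso_apply ι a pt z,
    ← length_stalk_fibre_eq_aLen (ι ≫ a) (Coh.structureModule W) pt (e.hom z)]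
  exact (Groth.Agent.Lib.SkEquidimH5.stalkPullbackStructureEquiv (ι ≫ a) pt (e.hom z)).length_eq

/-- **the coefficients of the closed subscheme `W ×_X X_y` of the fibre `X_y`** -/
theorem subschemeFun_eq (δ : a.fiber pt → ℤ) (r : ℤ) (ζ : a.fiber pt) :
    Cyc.subschemeFun δ r (pullback.snd ι (a.fiberι pt)) ζ =
      if δ ζ = r then ∑ᶠ w ∈ {w : W | ι w = a.fiberι pt ζ},
        (((aLen (ι ≫ a) (Coh.structureModule W) w).toNat : ℕ) : ℤ) else 0 := by
  unfold Cyc.subschemeFun
  by_cases hr : δ ζ = r
  swap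
  · rw [if_neg hr, if_neg hr]
  rw [if_pos hr, if_pos hr]
  set e := fibreIso ι a pt with he
  refine finsum_mem_eq_of_bijOn (fun z => pullback.fst ι (a.fiberι pt) z) ⟨?_, ?_, ?_⟩ ?_
  · intro z hz
    show ι (pullback.fst ι (a.fiberι pt) z) = a.fiberι pt ζ
    rw [ι_fst_apply, hz]
  · intro z₁ _ z₂ _ h12
    have h12' : pullback.fst ι (a.fiberι pt) z₁ = pullback.fst ι (a.fiberι pt) z₂ := h12
    rw [← fiberι_fibreIso_apply ι a pt z₁, ← fiberι_fibreIso_apply ι a pt z₂] at h12'
    have h3 := ((ι ≫ a).fiberι pt).isEmbedding.injective h12'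
    have hinj := (ConcreteCategory.bijective_of_isIso e.hom.base).1
    exact hinj h3
  · intro w hw
    have hw' : ι w = a.fiberι pt ζ := hw
    have hgw : (ι ≫ a) w = pt := by
      show a (ι w) = pt
      rw [hw']
      exact Groth.Agent.FibRes2H8.fiberι_mem a pt ζ
    have hmem : w ∈ Set.range ((ι ≫ a).fiberι pt) := by
      rw [(ι ≫ a).range_fiberι pt]; exact hgw
    obtain ⟨w', rfl⟩ := hmem
    have hsurj := (ConcreteCategory.bijective_of_isIso e.hom.base).2
    obtain ⟨z, rfl⟩ := hsurj w'
    refine ⟨z, ?_, fiberι_fibreIso_apply ι a pt z |>.symm⟩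
    show pullback.snd ι (a.fiberι pt) z = ζ
    apply (a.fiberι pt).isEmbedding.injective
    rw [← ι_fst_apply, ← fiberι_fibreIso_apply ι a pt z]
    exact hw'
  · intro z _
    show (((Module.length _ _).toNat : ℕ) : ℤ) = _
    rw [length_stalk_pullback_eq_aLen ι a pt z]

end Sub

end Groth.Agent.Lib.CycSpH5
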