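import Mathlib
import Groth.Agent.Lib.CycSp7_helper5

/-!
# Specialization of cycles over a DVR, part 8 (helper5)

* `pointwise_formula`: the pointwise form of S1911 in terms of points of `X`;
* `main1910_aux`: S1910 (closed subschemes) over an abstract one-dimensional base.

APPEND-ONLY once landed.
-/

set_option autoImplicit false

namespace Groth.Agent.Lib.CycSpH5

open IsLocalRing AlgebraicGeometry CategoryTheory CategoryTheory.Limits TopologicalSpace
open Groth.Agent.Lib.SpecLenH5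

universe u

section Flat

variable {X S : Scheme.{u}} (h : X ⟶ S)

/-- the structure sheaf of the source of a flat morphism is flat over the base (same proof as
helper2's `BCFunH2.isFlatOver_unit`, repeated here to avoid its long import chain) -/
theorem isFlatOver_structureModule [Flat h] : FlatMod.IsFlatOver h (Coh.structureModule X) := by
  intro x
  unfold FlatMod.IsFlatOverAt
  letI := FlatMod.moduleStalkOver h (Coh.structureModule X) x
  letI : Algebra (S.presheaf.stalk (h.base x)) (X.presheaf.stalk x) :=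
    (h.stalkMap x).hom.toAlgebra
  haveI : Module.Flat (S.presheaf.stalk (h.base x)) (X.presheaf.stalk x) := Flat.stalkMap h x
  let e : (X.presheaf.stalk x) ≃ₗ[S.presheaf.stalk (h.base x)]
      ((Coh.structureModule X).presheaf.stalk x) :=
    { (CycLenH8.stalkStructureEquiv x) with
      map_smul' := fun r z => by
        show (CycLenH8.stalkStructureEquiv x) ((h.stalkMap x).hom r * z) =
          (h.stalkMap x).hom r • (CycLenH8.stalkStructureEquiv x) z
        rw [← smul_eq_mul, map_smul] }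
  exact Module.Flat.of_linearEquiv e.symm

/-- the support of the structure module is everything -/
theorem mem_support_structureModule (x : X) : x ∈ CohB1.support (Coh.structureModule X) := by
  show ¬ Subsingleton ((Coh.structureModule X).presheaf.stalk x)
  rw [not_subsingleton_iff_nontrivial]
  exact (CycLenH8.stalkStructureEquiv x).symm.toEquiv.nontrivial

end Flat

section GT

variable {X Y : Scheme.{u}} [IsAffine Y] (f : X ⟶ Y) (F : X.Modules) [F.IsQuasicoherent]
  [SheafOfModules.IsFiniteType (R := X.ringCatSheaf) F]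
  {y y' : Y} {π : Γ(Y, ⊤)} (hD : DVRBase y y' π)

set_option maxHeartbeats 1000000 in
include hD in
/-- **the pointwise specialization formula**, in terms of points of `X` -/
theorem pointwise_formula [LocallyOfFiniteType f] [IsLocallyNoetherian Y] [IsDomain Γ(Y, ⊤)]
    (hπ : π ≠ 0) (hcat : CAlg.IsUniversallyCatenary (Y.presheaf.stalk y))
    (hreg : ∀ (U : X.Opens) (_ : IsAffineOpen U) (e : U ≤ f ⁻¹ᵁ ⊤),
      IsSMulRegular Γ(F, U) ((f.appLE ⊤ U e).hom π))
    (r : ℤ) (hdim : ∀ ξ ∈ CohB1.support F, f ξ = y' → (trN f ξ : ℤ) ≤ r)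
    {x : X} (hxy : f x = y) (hxr : (trN f x : ℤ) = r) :
    (((aLen f F x).toNat : ℕ) : ℤ) =
      ∑ᶠ ξ ∈ {ξ : X | f ξ = y' ∧ (trN f ξ : ℤ) = r ∧ ξ ⤳ x},
        (((aLen f F ξ).toNat : ℕ) : ℤ) * (((smult f ξ x).toNat : ℕ) : ℤ) := by
  classical
  have hcl : IsClosed (CohB1.support F) := SuppFT.isClosed_support F
  by_cases hx : x ∈ CohB1.support F
  swap
  · rw [(aLen_eq_zero_iff f F x).mpr hx]
    symm
    apply finsum_mem_eq_zero_of_forall_eq_zero
    intro ξ hξ
    have h1 : ξ ∉ CohB1.support F := fun h => hx (hξ.2.2.mem_closed hcl h)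
    rw [(aLen_eq_zero_iff f F _).mpr h1]
    simp
  have hxmax := mem_maxSupp_special f F hD hπ hcat hreg r hdim hx hxy hxr
  obtain ⟨hSfin, hxfin, hfac, hform⟩ := aLen_eq_finsum f F hD hreg hxmax
  set S : Set X := {ξ | ξ ∈ MaxSupp f F y' ∧ ξ ⤳ x} with hS
  set G : X → ℤ := fun ξ => (((aLen f F ξ).toNat : ℕ) : ℤ) * (((smult f ξ x).toNat : ℕ) : ℤ)
    with hG
  have hsets : {ξ : X | f ξ = y' ∧ (trN f ξ : ℤ) = r ∧ ξ ⤳ x} ∩ Function.support G =
      S ∩ Function.support G := by
    ext ξ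
    constructor
    · rintro ⟨⟨h1, h2, h3⟩, hGξ⟩
      refine ⟨⟨?_, h3⟩, hGξ⟩
      have hξF : ξ ∈ CohB1.support F := by
        by_contra hcon
        apply hGξ
        show (((aLen f F ξ).toNat : ℕ) : ℤ) * _ = 0
        rw [(aLen_eq_zero_iff f F _).mpr hcon]
        simp
      exact mem_maxSupp_generic f F hD hπ hcat hreg r hdim hxy hxr hξF h1 h3
    · rintro ⟨⟨hξ1, hξ2⟩, hGξ⟩
      exact ⟨⟨hξ1.1, (trN_eq_of_maxSupp f F hD hπ hcat hreg r hdim hxy hxr hξ1 hξ2).1, hξ2⟩, hGξ⟩
  rw [finsum_mem_inter_support_eq G _ S hsets]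
  exact toNat_finsum_mul S hSfin (fun ξ => aLen f F ξ) (fun ξ => smult f ξ x) _
    (fun ξ hξ => (hfac ξ hξ.1 hξ.2).1) (fun ξ hξ => (hfac ξ hξ.1 hξ.2).2) hform

end GT

section Closed

variable {W X Y : Scheme.{u}} [IsAffine Y] (a : X ⟶ Y) {y y' : Y} {π : Γ(Y, ⊤)}
  (hD : DVRBase y y' π) (ι : W ⟶ X) [IsClosedImmersion ι]

set_option maxHeartbeats 2000000 in
include hD in
/-- **S1910 over an abstract one-dimensional base.** -/
theorem main1910_aux [LocallyOfFiniteType a] [IsLocallyNoetherian Y] [IsDomain Γ(Y, ⊤)]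
    [Flat (ι ≫ a)] (hπ : π ≠ 0) (hcat : CAlg.IsUniversallyCatenary (Y.presheaf.stalk y))
    (δη : a.fiber y' → ℤ) (δs : a.fiber y → ℤ)
    (hδη : Cyc.DeltaCompat (a.fiberToSpecResidueField y') δη (fun _ => 0))
    (hδs : Cyc.DeltaCompat (a.fiberToSpecResidueField y) δs (fun _ => 0))
    (r : ℤ) (hdim : ∀ ζ : a.fiber y', a.fiberι y' ζ ∈ Set.range ι → δη ζ ≤ r) :
    (∀ x : a.fiber y, a.fiberι y x ∈ Set.range ι → δs x ≤ r) ∧
    Cyc.spFun a y' y δη δs r (Cyc.subschemeFun δη r (pullback.snd ι (a.fiberι y'))) =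
      Cyc.subschemeFun δs r (pullback.snd ι (a.fiberι y)) := by
  classical
  set g : W ⟶ Y := ι ≫ a with hg
  haveI : IsLocallyNoetherian W := LocallyOfFiniteType.isLocallyNoetherian g
  set OW := Coh.structureModule W with hOW
  have hFP : CohB1.IsFP OW := Groth.Agent.Lib.SkEquidimH5.isFP_structureModule W
  haveI : SheafOfModules.IsFinitePresentation (R := W.ringCatSheaf) OW := hFP
  haveI : OW.IsQuasicoherent := inferInstance
  haveI : SheafOfModules.IsFiniteType (R := W.ringCatSheaf) OW := inferInstance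
  have hregW := isSMulRegular_sections g OW (isFlatOver_structureModule g) π hπ
  have hrange_closed : IsClosed (Set.range ι) := ι.isClosedEmbedding.isClosed_range
  have hιinj : Function.Injective ι := ι.isEmbedding.injective
  have hdimW : ∀ ξ' ∈ CohB1.support OW, g ξ' = y' → (trN g ξ' : ℤ) ≤ r := by
    intro ξ' _ hξ'
    have hmem : ι ξ' ∈ Set.range (a.fiberι y') := by rw [a.range_fiberι y']; exact hξ'
    obtain ⟨ζ, hζ⟩ := hmem
    have h1 := hdim ζ ⟨ξ', hζ.symm⟩
    rw [delta_eq_trN a y' δη hδη ζ, hζ, ← trN_comp ι a ξ'] at h1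
    exact h1
  constructor
  · rintro x' ⟨w, hw⟩
    rw [delta_eq_trN a y δs hδs x', ← hw, ← trN_comp ι a w]
    refine trN_le_of_mem_support g OW hD hπ hcat hregW r hdimW (mem_support_structureModule w) ?_
    show a (ι w) = y
    rw [hw]
    exact Groth.Agent.FibRes2H8.fiberι_mem a y x'
  · funext x'
    set x : X := a.fiberι y x' with hx_def
    simp only [Cyc.spFun]
    rw [subschemeFun_eq ι a y δs r x']
    by_cases hr : δs x' = r
    swap
    · rw [if_neg hr, if_neg hr]
    rw [if_pos hr, if_pos hr]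
    set H : X → ℤ := fun ξ =>
      (∑ᶠ ξ' ∈ {ξ' : W | ι ξ' = ξ}, (((aLen g OW ξ').toNat : ℕ) : ℤ)) *
        (((smult a ξ x).toNat : ℕ) : ℤ) with hH
    have hterm : ∀ ζ : {ζ : a.fiber y' // δη ζ = r ∧ (a.fiberι y' ζ) ⤳ (a.fiberι y x')},
        Cyc.subschemeFun δη r (pullback.snd ι (a.fiberι y')) ζ.1 *
          (((Module.length (X.presheaf.stalk (a.fiberι y x'))
            (Cyc.LocQuot (a.fiberι y x') (a.fiberι y' ζ.1) ζ.2.2 ⧸
              (IsLocalRing.maximalIdeal (Y.presheaf.stalk (a (a.fiberι y x')))).map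
                ((Ideal.Quotient.mk (RingHom.ker
                  (Cyc.specMap (a.fiberι y x') (a.fiberι y' ζ.1) ζ.2.2))).comp
                  (a.stalkMap (a.fiberι y x')).hom))).toNat : ℕ) : ℤ) =
        H (a.fiberι y' ζ.1) := by
      intro ζ
      rw [subschemeFun_eq ι a y' δη r ζ.1, if_pos ζ.2.1]
      show _ = (∑ᶠ ξ' ∈ {ξ' : W | ι ξ' = a.fiberι y' ζ.1}, (((aLen g OW ξ').toNat : ℕ) : ℤ)) *
        (((smult a (a.fiberι y' ζ.1) (a.fiberι y x')).toNat : ℕ) : ℤ)
      unfold smult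
      rw [dif_pos ζ.2.2]
    rw [finsum_congr hterm]
    have hinj : Function.Injective
        (fun ζ : {ζ : a.fiber y' // δη ζ = r ∧ (a.fiberι y' ζ) ⤳ (a.fiberι y x')} =>
          a.fiberι y' ζ.1) := by
      intro u v huv
      exact Subtype.ext ((a.fiberι y').isEmbedding.injective huv)
    rw [← finsum_mem_range (f := H) hinj]
    by_cases hxW : x ∈ Set.range ι
    swap
    · -- `x ∉ W`: both sides vanish
      have hempty : {w : W | ι w = x} = ∅ := by
        apply Set.eq_empty_of_forall_notMem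
        intro w hw
        exact hxW ⟨w, hw⟩
      rw [hempty, finsum_mem_empty]
      apply finsum_mem_eq_zero_of_forall_eq_zero
      rintro ξ ⟨ζ, rfl⟩
      have hempty' : {ξ' : W | ι ξ' = a.fiberι y' ζ.1} = ∅ := by
        apply Set.eq_empty_of_forall_notMem
        intro ξ' hξ'
        apply hxW
        have h1 : a.fiberι y' ζ.1 ∈ Set.range ι := ⟨ξ', hξ'⟩
        exact ζ.2.2.mem_closed hrange_closed h1
      show (∑ᶠ ξ' ∈ {ξ' : W | ι ξ' = a.fiberι y' ζ.1}, (((aLen g OW ξ').toNat : ℕ) : ℤ)) * _ = 0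
      rw [hempty', finsum_mem_empty, zero_mul]
    obtain ⟨w, hw⟩ := hxW
    have hsing : {w' : W | ι w' = x} = {w} := by
      ext w'
      simp only [Set.mem_ofPred_eq, Set.mem_singleton_iff]
      exact ⟨fun h => hιinj (h.trans hw.symm), fun h => by rw [h, hw]⟩
    rw [hsing, finsum_mem_singleton]
    have hgw : g w = y := by
      show a (ι w) = y
      rw [hw]
      exact Groth.Agent.FibRes2H8.fiberι_mem a y x'
    have hwr : (trN g w : ℤ) = r := by
      rw [trN_comp ι a w, hw, ← delta_eq_trN a y δs hδs x']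
      exact hr
    rw [pointwise_formula g OW hD hπ hcat hregW r hdimW hgw hwr]
    set T' : Set W := {ξ' : W | g ξ' = y' ∧ (trN g ξ' : ℤ) = r ∧ ξ' ⤳ w} with hT'
    have hHι : ∀ ξ' ∈ T', (((aLen g OW ξ').toNat : ℕ) : ℤ) * (((smult g ξ' w).toNat : ℕ) : ℤ) =
        H (ι ξ') := by
      intro ξ' hξ'
      have hsing' : {ξ'' : W | ι ξ'' = ι ξ'} = {ξ'} := by
        ext ξ''
        simp only [Set.mem_ofPred_eq, Set.mem_singleton_iff]
        exact ⟨fun h => hιinj h, fun h => by rw [h]⟩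
      show _ = (∑ᶠ ξ'' ∈ {ξ'' : W | ι ξ'' = ι ξ'}, (((aLen g OW ξ'').toNat : ℕ) : ℤ)) *
        (((smult a (ι ξ') x).toNat : ℕ) : ℤ)
      rw [hsing', finsum_mem_singleton, smult_comp ι a ξ' w hξ'.2.2, hw]
    rw [finsum_mem_congr rfl hHι, ← finsum_mem_image (f := H) (hιinj.injOn)]
    apply finsum_mem_inter_support_eq
    ext ξ
    constructor
    · rintro ⟨⟨ζ, rfl⟩, hHξ⟩
      refine ⟨?_, hHξ⟩
      have hne : ({ξ' : W | ι ξ' = a.fiberι y' ζ.1}).Nonempty := by
        by_contra hcon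
        rw [Set.not_nonempty_iff_eq_empty] at hcon
        apply hHξ
        show (∑ᶠ ξ' ∈ {ξ' : W | ι ξ' = a.fiberι y' ζ.1}, (((aLen g OW ξ').toNat : ℕ) : ℤ)) * _ = 0
        rw [hcon, finsum_mem_empty, zero_mul]
      obtain ⟨ξ', hξ'⟩ := hne
      have hξ'' : ι ξ' = a.fiberι y' ζ.1 := hξ'
      refine ⟨ξ', ⟨?_, ?_, ?_⟩, hξ''⟩
      · show a (ι ξ') = y'
        rw [hξ'']
        exact Groth.Agent.FibRes2H8.fiberι_mem a y' ζ.1
      · rw [trN_comp ι a ξ', hξ'', ← delta_eq_trN a y' δη hδη ζ.1]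
        exact ζ.2.1
      · rw [← ι.isEmbedding.isInducing.specializes_iff, hξ'', hw]
        exact ζ.2.2
    · rintro ⟨⟨ξ', ⟨h1, h2, h3⟩, rfl⟩, hHξ⟩
      refine ⟨?_, hHξ⟩
      have hmem : ι ξ' ∈ Set.range (a.fiberι y') := by rw [a.range_fiberι y']; exact h1
      obtain ⟨ζ, hζ⟩ := hmem
      refine ⟨⟨ζ, ?_, ?_⟩, hζ⟩
      · rw [delta_eq_trN a y' δη hδη ζ, hζ, ← trN_comp ι a ξ']
        exact h2
      · rw [hζ, ← hx_def, ← hw]
        exact h3.map ι.continuous

end Closed

end Groth.Agent.Lib.CycSpH5
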