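import Mathlib
import Groth.Agent.Lib.CycFP1_helper5
import Groth.Agent.Lib.CycSp8_helper5
import Groth.Agent.Lib.CycFBC1_helper5
import Groth.Agent.Lib.FibStalkKer_helper5

/-!
# Flat pullback commutes with specialization of cycles over a DVR, part 2: dictionary (helper5)

* `length_quot_isLocalization`, `pmult_eq_cpm`: the flat pullback multiplicity in a chart;
* `pmult_comp_of_surjective`, `pmult_comp_of_ker_le`, `pmult_fibre_map`: the flat pullback
  multiplicity of the map induced on fibres equals the one of the map itself.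

APPEND-ONLY once landed.
-/

set_option autoImplicit false

namespace Groth.Agent.Lib.CycFPH5

open IsLocalRing AlgebraicGeometry CategoryTheory TopologicalSpace
open Groth.Agent.Lib.SpecLenH5 Groth.Agent.Lib.CycSpH5 Groth.Agent.Lib.CycFBCH5

universe u

section LQ

theorem length_quot_isLocalization {B : Type u} [CommRing B] (q : Ideal B) [q.IsPrime]
    (O : Type u) [CommRing O] [Algebra B O] [IsLocalization.AtPrime O q] (𝔞 : Ideal B) :
    Module.length O (O ⧸ 𝔞.map (algebraMap B O)) =
      Module.length (Localization.AtPrime q)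
        (Localization.AtPrime q ⧸ 𝔞.map (algebraMap B (Localization.AtPrime q))) := by
  let σ : Localization.AtPrime q ≃ₐ[B] O := IsLocalization.algEquiv q.primeCompl _ _
  have hIJ : 𝔞.map (algebraMap B O) =
      (𝔞.map (algebraMap B (Localization.AtPrime q))).map
          ((σ : Localization.AtPrime q ≃+* O) : Localization.AtPrime q →+* O) := by
    rw [Ideal.map_map]
    congr 1
    ext b
    exact (σ.commutes b).symm
  let ε := Ideal.quotientEquiv _ _ (σ : Localization.AtPrime q ≃+* O) hIJ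
  symm
  refine length_eq_of_semilinear (σ : Localization.AtPrime q ≃+* O) ε.toAddEquiv ?_
  intro r n
  obtain ⟨n, rfl⟩ := Ideal.Quotient.mk_surjective n
  have h1 : r • Ideal.Quotient.mk (𝔞.map (algebraMap B (Localization.AtPrime q))) n =
      Ideal.Quotient.mk _ r * Ideal.Quotient.mk _ n := rfl
  show ε (r • Ideal.Quotient.mk _ n) = σ r • ε (Ideal.Quotient.mk _ n)
  rw [h1, map_mul]
  rfl

end LQ

section Chart

variable {X' X : Scheme.{u}} (f : X' ⟶ X)

/-- the flat pullback multiplicity in a chart -/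
theorem pmult_eq_cpm {U : X.Opens} (hU : IsAffineOpen U) {U' : X'.Opens} (hU' : IsAffineOpen U')
    (e : U' ≤ f ⁻¹ᵁ U) (x' : X') (hx' : x' ∈ U') :
    letI : Algebra Γ(X, U) Γ(X', U') := (f.appLE U U' e).hom.toAlgebra
    pmult f x' = cpm (hU.primeIdealOf ⟨f x', e hx'⟩).asIdeal (hU'.primeIdealOf ⟨x', hx'⟩) := by
  letI algCC : Algebra Γ(X, U) Γ(X', U') := (f.appLE U U' e).hom.toAlgebra
  letI : Algebra Γ(X', U') (X'.presheaf.stalk x') :=
    TopCat.Presheaf.algebra_section_stalk X'.presheaf (⟨x', hx'⟩ : U')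
  haveI : IsLocalization.AtPrime (X'.presheaf.stalk x') (hU'.primeIdealOf ⟨x', hx'⟩).asIdeal :=
    hU'.isLocalization_stalk ⟨x', hx'⟩
  letI : Algebra Γ(X, U) (X.presheaf.stalk (f x')) :=
    TopCat.Presheaf.algebra_section_stalk X.presheaf (⟨f x', e hx'⟩ : U)
  haveI : IsLocalization.AtPrime (X.presheaf.stalk (f x'))
      (hU.primeIdealOf ⟨f x', e hx'⟩).asIdeal := hU.isLocalization_stalk ⟨f x', e hx'⟩
  set 𝔵 := (hU.primeIdealOf ⟨f x', e hx'⟩).asIdeal with h𝔵
  have hI : Ideal.map (f.stalkMap x').hom (maximalIdeal (X.presheaf.stalk (f x'))) =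
      (𝔵.map (algebraMap Γ(X, U) Γ(X', U'))).map
        (algebraMap Γ(X', U') (X'.presheaf.stalk x')) := by
    rw [← IsLocalization.AtPrime.map_eq_maximalIdeal 𝔵 (X.presheaf.stalk (f x')), Ideal.map_map,
      Ideal.map_map]
    congr 1
    ext r
    exact GenFlatSchH8.stalkMap_germ_appLE f e hx' r
  unfold pmult cpm
  rw [hI, length_quot_isLocalization (hU'.primeIdealOf ⟨x', hx'⟩).asIdeal
    (X'.presheaf.stalk x') (𝔵.map (algebraMap Γ(X, U) Γ(X', U'))), Ideal.map_map]
  rfl

end Chart

section FibreMap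

theorem length_quot_map_comp_surj {A B C : Type*} [CommRing A] [CommRing B] [CommRing C]
    [IsLocalRing A] [IsLocalRing B] (φ : A →+* B) (ψ : B →+* C)
    (hs : Function.Surjective φ) :
    Module.length C (C ⧸ Ideal.map (ψ.comp φ) (maximalIdeal A)) =
      Module.length C (C ⧸ Ideal.map ψ (maximalIdeal B)) := by
  rw [← Ideal.map_map, IsLocalRing.map_maximalIdeal_of_surjective φ hs]

theorem length_quot_map_comp_ker {A B C : Type*} [CommRing A] [CommRing B] [CommRing C]
    [IsLocalRing A] (h : A →+* B) (φ : B →+* C) (hs : Function.Surjective φ)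
    (hk : RingHom.ker φ ≤ Ideal.map h (maximalIdeal A)) :
    Module.length C (C ⧸ Ideal.map (φ.comp h) (maximalIdeal A)) =
      Module.length B (B ⧸ Ideal.map h (maximalIdeal A)) := by
  set I := Ideal.map h (maximalIdeal A) with hI
  rw [← Ideal.map_map, ← hI]
  have hle : I ≤ (I.map φ).comap φ := Ideal.le_comap_map
  have hcm : (I.map φ).comap φ ≤ I := by
    rw [Ideal.comap_map_of_surjective φ hs, ← RingHom.ker_eq_comap_bot]
    exact sup_le le_rfl hk
  let ψ₀ : B ⧸ I →+* C ⧸ I.map φ := Ideal.quotientMap (I.map φ) φ hle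
  have hψ₀ : Function.Bijective ψ₀ :=
    ⟨Ideal.quotientMap_injective' hcm, Ideal.quotientMap_surjective hs⟩
  let ψ := RingEquiv.ofBijective ψ₀ hψ₀
  symm
  refine length_eq_of_semilinear_surjective φ hs ψ.toAddEquiv ?_
  intro r n
  obtain ⟨n, rfl⟩ := Ideal.Quotient.mk_surjective n
  have h2 : r • Ideal.Quotient.mk I n = Ideal.Quotient.mk I r * Ideal.Quotient.mk I n := rfl
  show ψ (r • Ideal.Quotient.mk I n) = φ r • ψ (Ideal.Quotient.mk I n)
  rw [h2, map_mul]
  rfl

theorem map_comp_maximalIdeal_le {A B C : Type*} [CommRing A] [CommRing B] [CommRing C]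
    [IsLocalRing A] [IsLocalRing B] (g : A →+* B) [IsLocalHom g] (h : B →+* C) :
    Ideal.map (h.comp g) (maximalIdeal A) ≤ Ideal.map h (maximalIdeal B) := by
  rw [← Ideal.map_map]
  apply Ideal.map_mono
  exact IsLocalRing.map_maximalIdeal_le g

/-- composing with a map whose stalk map is surjective does not change the multiplicity -/
theorem pmult_comp_of_surjective {X'' X' X : Scheme.{u}} (p' : X'' ⟶ X') (p : X' ⟶ X)
    (x'' : X'') (hs : Function.Surjective (p.stalkMap (p' x'')).hom) :
    pmult (p' ≫ p) x'' = pmult p' x'' := by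
  unfold pmult
  rw [Scheme.Hom.stalkMap_comp p' p x'']
  exact length_quot_map_comp_surj (p.stalkMap (p' x'')).hom (p'.stalkMap x'').hom hs

/-- precomposing with a map whose stalk map is surjective with small kernel does not change the
multiplicity -/
theorem pmult_comp_of_ker_le {X'' X' X : Scheme.{u}} (p' : X'' ⟶ X') (p : X' ⟶ X)
    (x'' : X'') (hs : Function.Surjective (p'.stalkMap x'').hom)
    (hk : RingHom.ker (p'.stalkMap x'').hom ≤
      Ideal.map (p.stalkMap (p' x'')).hom (maximalIdeal (X.presheaf.stalk (p (p' x''))))) :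
    pmult (p' ≫ p) x'' = pmult p (p' x'') := by
  unfold pmult
  rw [Scheme.Hom.stalkMap_comp p' p x'']
  exact length_quot_map_comp_ker (p.stalkMap (p' x'')).hom (p'.stalkMap x'').hom hs hk

/-- the flat pullback multiplicity of the map induced on fibres -/
theorem pmult_fibre_map {X' X Y : Scheme.{u}} (f : X' ⟶ X) (b : X ⟶ Y) (pt : Y)
    (fpt : (f ≫ b).fiber pt ⟶ b.fiber pt)
    (hf : fpt ≫ b.fiberι pt = (f ≫ b).fiberι pt ≫ f) (z : (f ≫ b).fiber pt) :
    pmult fpt z = pmult f ((f ≫ b).fiberι pt z) := by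
  rw [← pmult_comp_of_surjective fpt (b.fiberι pt) z ((b.fiberι pt).stalkMap_surjective _),
    pmult_congr hf z]
  apply pmult_comp_of_ker_le
  · exact ((f ≫ b).fiberι pt).stalkMap_surjective z
  · rw [(Groth.Agent.FibStalkKer.main9501 (f ≫ b) pt z).2,
      Scheme.Hom.stalkMap_comp f b ((f ≫ b).fiberι pt z)]
    exact map_comp_maximalIdeal_le (b.stalkMap (f ((f ≫ b).fiberι pt z))).hom
      (f.stalkMap ((f ≫ b).fiberι pt z)).hom

end FibreMap

end Groth.Agent.Lib.CycFPH5
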