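import Mathlib
import Groth.Agent.Lib.CycFP2_helper5

/-!
# Flat pullback of principal divisors, part 1: the ring identity (helper5)

For a flat local homomorphism `φ : A → B` of local rings (`B` Noetherian), a prime `I` of `A`
and `a ∉ I`:
`length_A (A/(I + aA)) * length_B (B/m_A B) = ∑_P length (B_P / I B_P) * length_B (B/(P + φ(a)B))`,
the sum over the minimal primes `P` of `IB` (`ring_identity`, from `CycSpH5.formula_local`), its
`ℤ`-valued versions `ring_identity_int`, `ring_identity_sub`.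

APPEND-ONLY once landed.
-/

set_option autoImplicit false

namespace Groth.Agent.Lib.CycFDH5

open IsLocalRing Submodule
open Groth.Agent.Lib.SpecLenH5 Groth.Agent.Lib.CycSpH5 Groth.Agent.Lib.CycFPH5

universe u

/-- the flat pullback multiplicity at a minimal prime is finite -/
theorem cpm_self_ne_top {B : Type u} [CommRing B] [IsNoetherianRing B] [IsLocalRing B]
    (𝔞 : Ideal B) (P : PrimeSpectrum B) (hP : P.asIdeal ∈ 𝔞.minimalPrimes) :
    cpm 𝔞 P ≠ ⊤ := by
  have hann : Module.annihilator B (B ⧸ 𝔞) = 𝔞 := Ideal.annihilator_quotient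
  have hfin : Module.length B ((B ⧸ 𝔞) ⧸ (Ideal.span {(1 : B)} • (⊤ : Submodule B (B ⧸ 𝔞)))) ≠ ⊤ := by
    rw [Ideal.span_singleton_one, Submodule.top_smul]
    have : Subsingleton ((B ⧸ 𝔞) ⧸ (⊤ : Submodule B (B ⧸ 𝔞))) := inferInstance
    rw [Module.length_eq_zero]
    exact ENat.zero_ne_top
  have h1 := (factors_ne_top (1 : B) (B ⧸ 𝔞) hfin P.asIdeal (by rw [hann]; exact hP)).1
  rw [length_localizedModule_quot] at h1
  exact h1

section Identity

variable {A B : Type u} [CommRing A] [CommRing B] [IsLocalRing A] [IsLocalRing B]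
  [IsNoetherianRing B]

/-- **The ring identity behind flat pullback of principal divisors.** -/
theorem ring_identity (φ : A →+* B) [IsLocalHom φ] (hφ : φ.Flat) (I : Ideal A) [I.IsPrime]
    (a : A) (ha : a ∉ I)
    (hfinA : Module.length A (A ⧸ (I ⊔ Ideal.span {a})) ≠ ⊤)
    (hfinB : Module.length B (B ⧸ (maximalIdeal A).map φ) ≠ ⊤) :
    (∀ P : PrimeSpectrum B, P.asIdeal ∈ (I.map φ).minimalPrimes →
      cpm (I.map φ) P ≠ ⊤ ∧
        Module.length B (B ⧸ (P.asIdeal ⊔ Ideal.span {φ a})) ≠ ⊤) ∧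
    Module.length A (A ⧸ (I ⊔ Ideal.span {a})) * Module.length B (B ⧸ (maximalIdeal A).map φ) =
      ∑ᶠ P : {P : PrimeSpectrum B // P.asIdeal ∈ (I.map φ).minimalPrimes},
        cpm (I.map φ) P.1 * Module.length B (B ⧸ (P.1.asIdeal ⊔ Ideal.span {φ a})) := by
  classical
  letI : Algebra A B := φ.toAlgebra
  haveI : Module.Flat A B := hφ
  set J : Ideal B := I.map φ with hJ
  have hann : Module.annihilator B (B ⧸ J) = J := Ideal.annihilator_quotient
  have hsup : J ⊔ Ideal.span {φ a} = (I ⊔ Ideal.span {a}).map φ := by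
    rw [Ideal.map_sup, Ideal.map_span, Set.image_singleton]
  have hlen : Module.length B ((B ⧸ J) ⧸ (Ideal.span {φ a} • (⊤ : Submodule B (B ⧸ J)))) =
      Module.length A (A ⧸ (I ⊔ Ideal.span {a})) *
        Module.length B (B ⧸ (maximalIdeal A).map φ) := by
    rw [length_quot_smul_top, hsup, length_quot_map_flat φ hφ]
  have hfin : Module.length B ((B ⧸ J) ⧸ (Ideal.span {φ a} • (⊤ : Submodule B (B ⧸ J)))) ≠ ⊤ := by
    rw [hlen]
    exact WithTop.mul_ne_top hfinA hfinB
  have hfac : ∀ P : PrimeSpectrum B, P.asIdeal ∈ J.minimalPrimes →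
      cpm J P ≠ ⊤ ∧ Module.length B (B ⧸ (P.asIdeal ⊔ Ideal.span {φ a})) ≠ ⊤ := by
    intro P hP
    refine ⟨cpm_self_ne_top J P hP, ?_⟩
    exact (factors_ne_top (φ a) (B ⧸ J) hfin P.asIdeal (by rw [hann]; exact hP)).2
  refine ⟨hfac, ?_⟩
  by_cases hau : IsUnit a
  · have h1 : I ⊔ Ideal.span {a} = ⊤ := by
      rw [Ideal.span_singleton_eq_top.mpr hau, sup_top_eq]
    have h2 : Module.length A (A ⧸ (I ⊔ Ideal.span {a})) = 0 := by
      rw [h1, Module.length_eq_zero_iff]
      infer_instance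
    rw [h2, zero_mul]
    symm
    apply finsum_eq_zero_of_forall_eq_zero
    intro P
    have h3 : P.1.asIdeal ⊔ Ideal.span {φ a} = ⊤ := by
      rw [Ideal.span_singleton_eq_top.mpr (hau.map φ), sup_top_eq]
    have h4 : Module.length B (B ⧸ (P.1.asIdeal ⊔ Ideal.span {φ a})) = 0 := by
      rw [h3, Module.length_eq_zero_iff]
      infer_instance
    rw [h4, mul_zero]
  · have ham : a ∈ maximalIdeal A := (mem_maximalIdeal a).mpr hau
    have ht : φ a ∈ maximalIdeal B := by
      rw [mem_maximalIdeal, mem_nonunits_iff]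
      intro h
      exact hau (isUnit_of_map_unit φ a h)
    have hJle : J ≤ maximalIdeal B := by
      rw [hJ, Ideal.map_le_iff_le_comap]
      intro z hz
      have hz' : z ∈ maximalIdeal A := le_maximalIdeal (Ideal.IsPrime.ne_top inferInstance) hz
      rw [Ideal.mem_comap, mem_maximalIdeal, mem_nonunits_iff]
      intro h
      exact ((mem_maximalIdeal z).mp hz') (isUnit_of_map_unit φ z h)
    haveI : Nontrivial (B ⧸ J) := Ideal.Quotient.nontrivial_iff.mpr
      (fun h => (maximalIdeal.isMaximal B).ne_top (top_le_iff.mp (h ▸ hJle)))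
    have hreg : IsSMulRegular (B ⧸ J) (φ a) := by
      have := isSMulRegular_quot_map (R₀ := A) (C := A) (C' := B) a I ha
      exact this
    have key := formula_local (φ a) ht (B ⧸ J) hreg hfin
    rw [← hlen, key]
    -- reindex
    let ψ : {P : PrimeSpectrum B // P.asIdeal ∈ J.minimalPrimes} →
        (Module.annihilator B (B ⧸ J)).minimalPrimes := fun P =>
      ⟨P.1.asIdeal, by rw [hann]; exact P.2⟩
    have hψinj : Function.Injective ψ := by
      intro P Q hPQ
      apply Subtype.ext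
      apply PrimeSpectrum.ext
      exact congrArg Subtype.val hPQ
    have hψsurj : Function.Surjective ψ := by
      intro p
      have hgen : ∀ q : Ideal B, q ∈ (Module.annihilator B (B ⧸ J)).minimalPrimes →
          q ∈ J.minimalPrimes := by
        rw [hann]; exact fun q h => h
      have hp : p.1 ∈ J.minimalPrimes := hgen p.1 p.2
      exact ⟨⟨⟨p.1, hp.1.1⟩, hp⟩, rfl⟩
    rw [← finsum_comp_equiv (Equiv.ofBijective ψ ⟨hψinj, hψsurj⟩)]
    apply finsum_congr
    intro P
    haveI : (ψ P).1.IsPrime := P.1.isPrime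
    show Module.length (Localization.AtPrime P.1.asIdeal)
      (LocalizedModule P.1.asIdeal.primeCompl (B ⧸ J)) * _ = _
    rw [length_localizedModule_quot]
    rfl


theorem finite_minimalPrimes_subtype (J : Ideal B) :
    Finite {P : PrimeSpectrum B // P.asIdeal ∈ J.minimalPrimes} := by
  have hfin : (J.minimalPrimes).Finite := Ideal.finite_minimalPrimes_of_isNoetherianRing B J
  haveI : Finite (J.minimalPrimes) := hfin
  refine Finite.of_injective
    (fun P : {P : PrimeSpectrum B // P.asIdeal ∈ J.minimalPrimes} =>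
      (⟨P.1.asIdeal, P.2⟩ : J.minimalPrimes)) ?_
  intro P Q hPQ
  apply Subtype.ext
  apply PrimeSpectrum.ext
  exact congrArg Subtype.val hPQ

/-- the ring identity in `ℤ` -/
theorem ring_identity_int (φ : A →+* B) [IsLocalHom φ] (hφ : φ.Flat) (I : Ideal A) [I.IsPrime]
    (a : A) (ha : a ∉ I)
    (hfinA : Module.length A (A ⧸ (I ⊔ Ideal.span {a})) ≠ ⊤)
    (hfinB : Module.length B (B ⧸ (maximalIdeal A).map φ) ≠ ⊤) :
    ((Module.length A (A ⧸ (I ⊔ Ideal.span {a}))).toNat : ℤ) *
        ((Module.length B (B ⧸ (maximalIdeal A).map φ)).toNat : ℤ) =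
      ∑ᶠ P : {P : PrimeSpectrum B // P.asIdeal ∈ (I.map φ).minimalPrimes},
        ((cpm (I.map φ) P.1).toNat : ℤ) *
          ((Module.length B (B ⧸ (P.1.asIdeal ⊔ Ideal.span {φ a}))).toNat : ℤ) := by
  obtain ⟨hfac, hid⟩ := ring_identity φ hφ I a ha hfinA hfinB
  haveI := finite_minimalPrimes_subtype (I.map φ)
  have h1 := toNat_finsum_mul (Set.univ :
      Set {P : PrimeSpectrum B // P.asIdeal ∈ (I.map φ).minimalPrimes}) Set.finite_univ
    (fun P => cpm (I.map φ) P.1)
    (fun P => Module.length B (B ⧸ (P.1.asIdeal ⊔ Ideal.span {φ a})))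
    (Module.length A (A ⧸ (I ⊔ Ideal.span {a})) *
      Module.length B (B ⧸ (maximalIdeal A).map φ))
    (fun P _ => (hfac P.1 P.2).1) (fun P _ => (hfac P.1 P.2).2)
    (by rw [finsum_mem_univ]; exact hid)
  rw [finsum_mem_univ, ENat.toNat_mul] at h1
  rw [← h1]
  push_cast
  rfl

/-- the ring identity for a fraction `a / b` -/
theorem ring_identity_sub (φ : A →+* B) [IsLocalHom φ] (hφ : φ.Flat) (I : Ideal A) [I.IsPrime]
    (a b : A) (ha : a ∉ I) (hb : b ∉ I)
    (hfina : Module.length A (A ⧸ (I ⊔ Ideal.span {a})) ≠ ⊤)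
    (hfinb : Module.length A (A ⧸ (I ⊔ Ideal.span {b})) ≠ ⊤)
    (hfinB : Module.length B (B ⧸ (maximalIdeal A).map φ) ≠ ⊤) :
    (((Module.length A (A ⧸ (I ⊔ Ideal.span {a}))).toNat : ℤ) -
      ((Module.length A (A ⧸ (I ⊔ Ideal.span {b}))).toNat : ℤ)) *
        ((Module.length B (B ⧸ (maximalIdeal A).map φ)).toNat : ℤ) =
      ∑ᶠ P : {P : PrimeSpectrum B // P.asIdeal ∈ (I.map φ).minimalPrimes},
        ((cpm (I.map φ) P.1).toNat : ℤ) *
          (((Module.length B (B ⧸ (P.1.asIdeal ⊔ Ideal.span {φ a}))).toNat : ℤ) -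
            ((Module.length B (B ⧸ (P.1.asIdeal ⊔ Ideal.span {φ b}))).toNat : ℤ)) := by
  haveI := finite_minimalPrimes_subtype (I.map φ)
  rw [sub_mul, ring_identity_int φ hφ I a ha hfina hfinB,
    ring_identity_int φ hφ I b hb hfinb hfinB,
    ← finsum_sub_distrib (Set.toFinite _) (Set.toFinite _)]
  apply finsum_congr
  intro P
  ring

end Identity

end Groth.Agent.Lib.CycFDH5
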