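import Mathlib
import Groth.Prelude
import Groth.Agent.Lib.CycFP2_helper5
import Groth.Agent.Lib.OrdFlat2_helper8
import Groth.Agent.Lib.StalkLocz1_helper8
import Groth.Agent.Lib.SecOrd2_helper8

/-!
# Flat pullback of principal divisors, part 2: dictionary points/primes of the stalk (helper5)

For `x : X`, generizations `ξ'` of `x` correspond to primes of `O_{X,x}` (`DimFunH8.φ`).
* `ker_specMap_injective`, `ker_specMap_φ`, `ker_specMap_self`, `comap_ker_specMap`;
* `pmult_eq_cpm_stalk`: the flat pullback multiplicity at `ξ'` computed in `O_{X,x}`;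
* `ordAt_div`, `length_quot_ker_sup_ne_top`, `exists_specMap_div`, `ordAt_pull_div`;
* `pmult_ne_top_of_fibMax`;
* `f_φ_eq_iff`, `f_φ_eq_f_φ_iff`, `fibMax_φ_iff`.

APPEND-ONLY once landed.
-/

set_option autoImplicit false

namespace Groth.Agent.Lib.CycFDH5

open IsLocalRing AlgebraicGeometry CategoryTheory TopologicalSpace
open Groth.Agent.Lib.SpecLenH5 Groth.Agent.Lib.CycSpH5 Groth.Agent.Lib.CycFBCH5
open Groth.Agent.Lib.CycFPH5 Groth.Agent.DimFunH8
open Groth.Agent.LatticeDet Groth.Agent.OrdSum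

universe u

section Dict

variable {X Y : Scheme.{u}}

/-- the prime of a generization determines the generization -/
theorem ker_specMap_injective (x ξ ξ' : X) (h : ξ ⤳ x) (h' : ξ' ⤳ x)
    (e : RingHom.ker (Cyc.specMap x ξ h) = RingHom.ker (Cyc.specMap x ξ' h')) : ξ = ξ' := by
  have h1 := φ_ker X x ξ h
  have h2 := φ_ker X x ξ' h'
  rw [← h1, ← h2]
  congr 1
  apply PrimeSpectrum.ext
  exact e

/-- the prime of the generization attached to a prime -/
theorem ker_specMap_φ (x : X) (P : PrimeSpectrum (X.presheaf.stalk x)) :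
    RingHom.ker (Cyc.specMap x (φ X x P) (φ_specializes X x P)) = P.asIdeal := by
  have h1 := φ_ker X x (φ X x P) (φ_specializes X x P)
  have h2 := φ_injective X x h1
  exact congrArg PrimeSpectrum.asIdeal h2

/-- the prime of the closed point -/
theorem ker_specMap_self (x : X) :
    RingHom.ker (Cyc.specMap x x specializes_rfl) = maximalIdeal (X.presheaf.stalk x) := by
  ext a
  rw [StalkLoczH8.mem_ker_specMap_iff, TopCat.Presheaf.stalkSpecializes_refl]
  rfl

/-- contraction of the prime of a generization along a morphism -/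
theorem comap_ker_specMap (f : X ⟶ Y) (x ξ' : X) (h' : ξ' ⤳ x) (h : f ξ' ⤳ f x) :
    (RingHom.ker (Cyc.specMap x ξ' h')).comap (f.stalkMap x).hom =
      RingHom.ker (Cyc.specMap (f x) (f ξ') h) := by
  ext a
  rw [Ideal.mem_comap, RingHom.mem_ker, RingHom.mem_ker,
    ← OrdFlatH8.residueFieldMap_specMap f x ξ' h' h a]
  exact map_eq_zero_iff _ (RingHom.injective (f.residueFieldMap ξ').hom)


/-- the flat pullback multiplicity at a generization `ξ'` of `x`, computed in the local ring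
at `x` -/
theorem pmult_eq_cpm_stalk (f : X ⟶ Y) (x ξ' : X) (h' : ξ' ⤳ x) (h : f ξ' ⤳ f x) :
    pmult f ξ' = cpm ((RingHom.ker (Cyc.specMap (f x) (f ξ') h)).map (f.stalkMap x).hom)
      (⟨RingHom.ker (Cyc.specMap x ξ' h'), RingHom.ker_isPrime _⟩ :
        PrimeSpectrum (X.presheaf.stalk x)) := by
  haveI hpx : (RingHom.ker (Cyc.specMap x ξ' h')).IsPrime := RingHom.ker_isPrime _
  haveI hpy : (RingHom.ker (Cyc.specMap (f x) (f ξ') h)).IsPrime := RingHom.ker_isPrime _
  letI algX : Algebra (X.presheaf.stalk x) (X.presheaf.stalk ξ') :=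
    (X.presheaf.stalkSpecializes h').hom.toAlgebra
  letI algY : Algebra (Y.presheaf.stalk (f x)) (Y.presheaf.stalk (f ξ')) :=
    (Y.presheaf.stalkSpecializes h).hom.toAlgebra
  haveI locX : IsLocalization.AtPrime (X.presheaf.stalk ξ') (RingHom.ker (Cyc.specMap x ξ' h')) :=
    StalkLoczH8.isLocalization_stalkSpecializes h'
  haveI locY : IsLocalization.AtPrime (Y.presheaf.stalk (f ξ'))
      (RingHom.ker (Cyc.specMap (f x) (f ξ') h)) :=
    StalkLoczH8.isLocalization_stalkSpecializes h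
  have hI : Ideal.map (f.stalkMap ξ').hom (maximalIdeal (Y.presheaf.stalk (f ξ'))) =
      ((RingHom.ker (Cyc.specMap (f x) (f ξ') h)).map (f.stalkMap x).hom).map
        (algebraMap (X.presheaf.stalk x) (X.presheaf.stalk ξ')) := by
    rw [← IsLocalization.AtPrime.map_eq_maximalIdeal (RingHom.ker (Cyc.specMap (f x) (f ξ') h))
      (Y.presheaf.stalk (f ξ')), Ideal.map_map, Ideal.map_map]
    congr 1
    ext r
    exact Scheme.Hom.stalkSpecializes_stalkMap_apply f ξ' x h' r
  unfold pmult cpm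
  rw [hI, length_quot_isLocalization (RingHom.ker (Cyc.specMap x ξ' h'))
    (X.presheaf.stalk ξ')]


/-- the order of a fraction along an immediate specialization -/
theorem ordAt_div [IsLocallyNoetherian X] (x ξ : X) (h : ξ ⤳ x)
    [Ring.KrullDimLE 1 (Cyc.LocQuot x ξ h)] (a b : X.presheaf.stalk x)
    (ha : a ∉ RingHom.ker (Cyc.specMap x ξ h)) (hb : b ∉ RingHom.ker (Cyc.specMap x ξ h)) :
    Cyc.ordAt x ξ h (Cyc.specMap x ξ h a / Cyc.specMap x ξ h b) =
      ((Module.length (X.presheaf.stalk x) (X.presheaf.stalk x ⧸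
        (RingHom.ker (Cyc.specMap x ξ h) ⊔ Ideal.span {a}))).toNat : ℤ) -
      ((Module.length (X.presheaf.stalk x) (X.presheaf.stalk x ⧸
        (RingHom.ker (Cyc.specMap x ξ h) ⊔ Ideal.span {b}))).toNat : ℤ) := by
  haveI hp : (RingHom.ker (Cyc.specMap x ξ h)).IsPrime := RingHom.ker_isPrime _
  haveI hfr := OrdFlatH8.isFractionRing_locQuot x ξ h
  have ha0 : Ideal.Quotient.mk (RingHom.ker (Cyc.specMap x ξ h)) a ≠ 0 := by
    rwa [Ne, Ideal.Quotient.eq_zero_iff_mem]
  have hb0 : Ideal.Quotient.mk (RingHom.ker (Cyc.specMap x ξ h)) b ≠ 0 := by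
    rwa [Ne, Ideal.Quotient.eq_zero_iff_mem]
  have hKa : algebraMap (Cyc.LocQuot x ξ h) (X.residueField ξ)
      (Ideal.Quotient.mk (RingHom.ker (Cyc.specMap x ξ h)) a) ≠ 0 :=
    (map_ne_zero_iff _ (IsFractionRing.injective (Cyc.LocQuot x ξ h) (X.residueField ξ))).mpr ha0
  have hKb : algebraMap (Cyc.LocQuot x ξ h) (X.residueField ξ)
      (Ideal.Quotient.mk (RingHom.ker (Cyc.specMap x ξ h)) b) ≠ 0 :=
    (map_ne_zero_iff _ (IsFractionRing.injective (Cyc.LocQuot x ξ h) (X.residueField ξ))).mpr hb0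
  unfold Cyc.ordAt
  rw [← OrdFlatH8.algebraMap_locQuot_mk, ← OrdFlatH8.algebraMap_locQuot_mk,
    ordFrac_div (Cyc.LocQuot x ξ h) (X.residueField ξ) hKa hKb,
    ordFrac_algebraMap (Cyc.LocQuot x ξ h) (X.residueField ξ) ha0,
    ordFrac_algebraMap (Cyc.LocQuot x ξ h) (X.residueField ξ) hb0,
    length_quot_quot, length_quot_quot]

/-- finiteness of the lengths in `ordAt_div` -/
theorem length_quot_ker_sup_ne_top [IsLocallyNoetherian X] (x ξ : X) (h : ξ ⤳ x)
    [Ring.KrullDimLE 1 (Cyc.LocQuot x ξ h)] (a : X.presheaf.stalk x)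
    (ha : a ∉ RingHom.ker (Cyc.specMap x ξ h)) :
    Module.length (X.presheaf.stalk x) (X.presheaf.stalk x ⧸
      (RingHom.ker (Cyc.specMap x ξ h) ⊔ Ideal.span {a})) ≠ ⊤ := by
  haveI hp : (RingHom.ker (Cyc.specMap x ξ h)).IsPrime := RingHom.ker_isPrime _
  have ha0 : Ideal.Quotient.mk (RingHom.ker (Cyc.specMap x ξ h)) a ≠ 0 := by
    rwa [Ne, Ideal.Quotient.eq_zero_iff_mem]
  rw [← length_quot_quot]
  exact Ring.ord_ne_top (R := Cyc.LocQuot x ξ h) (mem_nonZeroDivisors_iff_ne_zero.mpr ha0)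

/-- every element of `κ(ξ)` is a fraction of elements of `O_{X,x}` -/
theorem exists_specMap_div [IsLocallyNoetherian X] (x ξ : X) (h : ξ ⤳ x)
    (g : X.residueField ξ) (hg : g ≠ 0) :
    ∃ a b : X.presheaf.stalk x, a ∉ RingHom.ker (Cyc.specMap x ξ h) ∧
      b ∉ RingHom.ker (Cyc.specMap x ξ h) ∧
      g = Cyc.specMap x ξ h a / Cyc.specMap x ξ h b := by
  haveI hp : (RingHom.ker (Cyc.specMap x ξ h)).IsPrime := RingHom.ker_isPrime _
  haveI hfr := OrdFlatH8.isFractionRing_locQuot x ξ h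
  obtain ⟨a', b', hb', rfl⟩ := IsFractionRing.div_surjective (A := Cyc.LocQuot x ξ h) g
  have hb'0 : b' ≠ 0 := nonZeroDivisors.ne_zero hb'
  have ha'0 : a' ≠ 0 := by
    rintro rfl
    rw [map_zero, zero_div] at hg
    exact hg rfl
  obtain ⟨a, rfl⟩ := Ideal.Quotient.mk_surjective a'
  obtain ⟨b, rfl⟩ := Ideal.Quotient.mk_surjective b'
  refine ⟨a, b, ?_, ?_, ?_⟩
  · rwa [Ne, Ideal.Quotient.eq_zero_iff_mem] at ha'0
  · rwa [Ne, Ideal.Quotient.eq_zero_iff_mem] at hb'0
  · rw [OrdFlatH8.algebraMap_locQuot_mk, OrdFlatH8.algebraMap_locQuot_mk]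


/-- the flat pullback multiplicity is finite at the points maximal in their fibre -/
theorem pmult_ne_top_of_fibMax [IsLocallyNoetherian X] (f : X ⟶ Y) (x : X) (hx : FibMax f x) :
    pmult f x ≠ ⊤ := by
  unfold pmult
  rw [Module.length_ne_top_iff]
  apply Groth.Agent.DimLib.isFiniteLength_of_support_isMaximal
  intro P hP
  rw [Module.mem_support_iff_of_finite, Ideal.annihilator_quotient] at hP
  have h'' : φ X x P ⤳ x := φ_specializes X x P
  have hf'' : f (φ X x P) ⤳ f x := h''.map f.continuous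
  have h1 := comap_ker_specMap f x (φ X x P) h'' hf''
  rw [ker_specMap_φ] at h1
  have h2 : maximalIdeal (Y.presheaf.stalk (f x)) ≤ P.asIdeal.comap (f.stalkMap x).hom :=
    Ideal.map_le_iff_le_comap.mp hP
  have h3 : maximalIdeal (Y.presheaf.stalk (f x)) = P.asIdeal.comap (f.stalkMap x).hom :=
    (maximalIdeal.isMaximal _).eq_of_le (Ideal.IsPrime.ne_top (Ideal.comap_isPrime _ _)) h2
  have h4 : f (φ X x P) = f x := by
    apply ker_specMap_injective (f x) (f (φ X x P)) (f x) hf'' specializes_rfl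
    rw [← h1, ← h3, ker_specMap_self]
  have h5 : φ X x P = x := hx _ h4 h''
  have h6 : P = closedPoint (X.presheaf.stalk x) := by
    apply φ_injective X x
    rw [h5, φ_closedPoint]
  rw [h6]
  exact maximalIdeal.isMaximal _


/-- the image of the generization attached to a prime -/
theorem f_φ_eq_iff (f : X ⟶ Y) (x : X) (P : PrimeSpectrum (X.presheaf.stalk x)) (ξ : Y)
    (hξy : ξ ⤳ f x) :
    f (φ X x P) = ξ ↔
      P.asIdeal.comap (f.stalkMap x).hom = RingHom.ker (Cyc.specMap (f x) ξ hξy) := by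
  have h'' : φ X x P ⤳ x := φ_specializes X x P
  have hf'' : f (φ X x P) ⤳ f x := h''.map f.continuous
  have h1 := comap_ker_specMap f x (φ X x P) h'' hf''
  rw [ker_specMap_φ] at h1
  constructor
  · intro e
    subst e
    exact h1
  · intro e
    apply ker_specMap_injective (f x) (f (φ X x P)) ξ hf'' hξy
    rw [← h1, e]

theorem f_φ_eq_f_φ_iff (f : X ⟶ Y) (x : X) (P Q : PrimeSpectrum (X.presheaf.stalk x)) :
    f (φ X x Q) = f (φ X x P) ↔
      Q.asIdeal.comap (f.stalkMap x).hom = P.asIdeal.comap (f.stalkMap x).hom := by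
  have h'' : φ X x P ⤳ x := φ_specializes X x P
  have hf'' : f (φ X x P) ⤳ f x := h''.map f.continuous
  rw [f_φ_eq_iff f x Q (f (φ X x P)) hf'', (f_φ_eq_iff f x P (f (φ X x P)) hf'').mp rfl]

/-- fibre-maximality of the generization attached to a prime -/
theorem fibMax_φ_iff (f : X ⟶ Y) (x : X) (P : PrimeSpectrum (X.presheaf.stalk x)) :
    FibMax f (φ X x P) ↔
      P.asIdeal ∈ ((P.asIdeal.comap (f.stalkMap x).hom).map (f.stalkMap x).hom).minimalPrimes := by
  constructor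
  · intro hmax
    refine ⟨⟨P.isPrime, Ideal.map_comap_le⟩, ?_⟩
    rintro Q ⟨hQp, hQ⟩ hQP
    have h1 : P.asIdeal.comap (f.stalkMap x).hom ≤ Q.comap (f.stalkMap x).hom :=
      Ideal.map_le_iff_le_comap.mp hQ
    have h2 : Q.comap (f.stalkMap x).hom ≤ P.asIdeal.comap (f.stalkMap x).hom :=
      Ideal.comap_mono hQP
    have h3 : f (φ X x ⟨Q, hQp⟩) = f (φ X x P) :=
      (f_φ_eq_f_φ_iff f x P ⟨Q, hQp⟩).mpr (le_antisymm h2 h1)
    have h4 : φ X x ⟨Q, hQp⟩ ⤳ φ X x P := (φ_specializes_iff X x ⟨Q, hQp⟩ P).mpr hQP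
    have h5 := φ_injective X x (hmax _ h3 h4)
    rw [← h5]
  · intro hmin ξ'' hf hsp
    obtain ⟨P'', rfl⟩ := exists_φ_eq X x ξ'' (hsp.trans (φ_specializes X x P))
    have h1 : P'' ≤ P := (φ_specializes_iff X x P'' P).mp hsp
    have h2 := (f_φ_eq_f_φ_iff f x P P'').mp hf
    have h3 : (P.asIdeal.comap (f.stalkMap x).hom).map (f.stalkMap x).hom ≤ P''.asIdeal := by
      rw [← h2]
      exact Ideal.map_comap_le
    have h4 : P.asIdeal ≤ P''.asIdeal := hmin.2 ⟨P''.isPrime, h3⟩ h1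
    have h5 : P'' = P := le_antisymm h1 h4
    rw [h5]


/-- compatibility of `specMap` with the residue field maps, with a transport -/
theorem residueFieldMap_congr_specMap (f : X ⟶ Y) (x ξ' : X) (h' : ξ' ⤳ x) (ξ : Y)
    (e : f ξ' = ξ) (hξy : ξ ⤳ f x) (a : Y.presheaf.stalk (f x)) :
    f.residueFieldMap ξ' ((Y.residueFieldCongr e.symm).hom (Cyc.specMap (f x) ξ hξy a)) =
      Cyc.specMap x ξ' h' ((f.stalkMap x).hom a) := by
  subst e
  exact OrdFlatH8.residueFieldMap_specMap f x ξ' h' hξy a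

/-- the order of the pullback of a fraction -/
theorem ordAt_pull_div [IsLocallyNoetherian X] (f : X ⟶ Y) (x ξ' : X) (h' : ξ' ⤳ x)
    [Ring.KrullDimLE 1 (Cyc.LocQuot x ξ' h')] (ξ : Y)
    (e : f ξ' = ξ) (hξy : ξ ⤳ f x) (a b : Y.presheaf.stalk (f x))
    (ha : a ∉ RingHom.ker (Cyc.specMap (f x) ξ hξy))
    (hb : b ∉ RingHom.ker (Cyc.specMap (f x) ξ hξy)) :
    Cyc.ordAt x ξ' h' (f.residueFieldMap ξ' ((Y.residueFieldCongr e.symm).hom
      (Cyc.specMap (f x) ξ hξy a / Cyc.specMap (f x) ξ hξy b))) =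
      ((Module.length (X.presheaf.stalk x) (X.presheaf.stalk x ⧸
        (RingHom.ker (Cyc.specMap x ξ' h') ⊔ Ideal.span {(f.stalkMap x).hom a}))).toNat : ℤ) -
      ((Module.length (X.presheaf.stalk x) (X.presheaf.stalk x ⧸
        (RingHom.ker (Cyc.specMap x ξ' h') ⊔ Ideal.span {(f.stalkMap x).hom b}))).toNat : ℤ) := by
  have hc : (RingHom.ker (Cyc.specMap x ξ' h')).comap (f.stalkMap x).hom =
      RingHom.ker (Cyc.specMap (f x) ξ hξy) := by
    subst e
    exact comap_ker_specMap f x ξ' h' hξy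
  have ha' : (f.stalkMap x).hom a ∉ RingHom.ker (Cyc.specMap x ξ' h') := by
    intro h
    apply ha
    rw [← hc]
    exact h
  have hb' : (f.stalkMap x).hom b ∉ RingHom.ker (Cyc.specMap x ξ' h') := by
    intro h
    apply hb
    rw [← hc]
    exact h
  rw [map_div₀, map_div₀, residueFieldMap_congr_specMap f x ξ' h' ξ e hξy a,
    residueFieldMap_congr_specMap f x ξ' h' ξ e hξy b]
  exact ordAt_div x ξ' h' _ _ ha' hb'

end Dict

end Groth.Agent.Lib.CycFDH5
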