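import Mathlib
import Groth.Prelude
import Groth.Agent.Lib.CycFD1_helper5
import Groth.Agent.Lib.CycFD2_helper5
import Groth.Agent.Lib.CycPull1_helper8

/-!
# Flat pullback of principal divisors, part 3: the formula (helper5)

* `toIdx`, `toIdx_bijOn`: minimal primes of `𝔭_ξ O_{X,x}` ↔ points maximal in the fibre over `ξ`
  specializing to `x`;
* `term_eq`, `main_case`, `ordAt_pull_eq_zero`;
* `pull_div`: `f^* div_ξ(g) = ∑_{ξ'} pmult f ξ' · div_{ξ'}(g)`, the sum over the points `ξ'` maximal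
  in the fibre of `f` over `ξ` (general form of S1907).

APPEND-ONLY once landed.
-/

set_option autoImplicit false

namespace Groth.Agent.Lib.CycFDH5

open IsLocalRing AlgebraicGeometry CategoryTheory TopologicalSpace
open Groth.Agent.Lib.SpecLenH5 Groth.Agent.Lib.CycSpH5 Groth.Agent.Lib.CycFBCH5
open Groth.Agent.Lib.CycFPH5 Groth.Agent.DimFunH8

universe u

section Main

variable {X Y : Scheme.{u}}

theorem ker_specMap_congr (y η η' : Y) (e : η = η') (h : η ⤳ y) (h' : η' ⤳ y) :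
    RingHom.ker (Cyc.specMap y η h) = RingHom.ker (Cyc.specMap y η' h') := by
  subst e; rfl

/-- going down for the stalk map of a flat morphism -/
theorem comap_eq_of_minimal (f : X ⟶ Y) [Flat f] (x : X) (I : Ideal (Y.presheaf.stalk (f x)))
    [I.IsPrime] (P : Ideal (X.presheaf.stalk x))
    (hP : P ∈ (I.map (f.stalkMap x).hom).minimalPrimes) :
    P.comap (f.stalkMap x).hom = I := by
  have hφ : (f.stalkMap x).hom.Flat := Flat.stalkMap f x
  letI : Algebra (Y.presheaf.stalk (f x)) (X.presheaf.stalk x) := (f.stalkMap x).hom.toAlgebra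
  haveI : Module.Flat (Y.presheaf.stalk (f x)) (X.presheaf.stalk x) := hφ
  exact comap_eq_of_mem_minimalPrimes I P hP

/-- the point of the fibre-maximal locus over `ξ` attached to a minimal prime of `𝔭_ξ O_{X,x}` -/
noncomputable def toIdx (f : X ⟶ Y) [Flat f] (x : X) (ξ : Y) (hξy : ξ ⤳ f x)
    (P : {P : PrimeSpectrum (X.presheaf.stalk x) // P.asIdeal ∈
      ((RingHom.ker (Cyc.specMap (f x) ξ hξy)).map (f.stalkMap x).hom).minimalPrimes}) :
    {ξ' : X // FibMax f ξ' ∧ f ξ' = ξ} :=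
  haveI : (RingHom.ker (Cyc.specMap (f x) ξ hξy)).IsPrime := RingHom.ker_isPrime _
  ⟨φ X x P.1,
    (fibMax_φ_iff f x P.1).mpr (by
      rw [comap_eq_of_minimal f x (RingHom.ker (Cyc.specMap (f x) ξ hξy)) P.1.asIdeal P.2]
      exact P.2),
    (f_φ_eq_iff f x P.1 ξ hξy).mpr
      (comap_eq_of_minimal f x (RingHom.ker (Cyc.specMap (f x) ξ hξy)) P.1.asIdeal P.2)⟩

theorem toIdx_val (f : X ⟶ Y) [Flat f] (x : X) (ξ : Y) (hξy : ξ ⤳ f x)
    (P : {P : PrimeSpectrum (X.presheaf.stalk x) // P.asIdeal ∈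
      ((RingHom.ker (Cyc.specMap (f x) ξ hξy)).map (f.stalkMap x).hom).minimalPrimes}) :
    (toIdx f x ξ hξy P).1 = φ X x P.1 := rfl

theorem toIdx_bijOn (f : X ⟶ Y) [Flat f] (x : X) (ξ : Y) (hξy : ξ ⤳ f x) :
    Set.BijOn (toIdx f x ξ hξy) Set.univ {ξ' | ξ'.1 ⤳ x} := by
  refine ⟨?_, ?_, ?_⟩
  · intro P _
    exact φ_specializes X x P.1
  · intro P _ Q _ hPQ
    apply Subtype.ext
    have h : (toIdx f x ξ hξy P).1 = (toIdx f x ξ hξy Q).1 := congrArg Subtype.val hPQ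
    rw [toIdx_val, toIdx_val] at h
    exact φ_injective X x h
  · intro ξ' h'
    have h'' : ξ'.1 ⤳ x := h'
    obtain ⟨P, hP⟩ := exists_φ_eq X x ξ'.1 h''
    have h1 : P.asIdeal.comap (f.stalkMap x).hom = RingHom.ker (Cyc.specMap (f x) ξ hξy) :=
      (f_φ_eq_iff f x P ξ hξy).mp (by rw [hP]; exact ξ'.2.2)
    have h2 := (fibMax_φ_iff f x P).mp (by rw [hP]; exact ξ'.2.1)
    rw [h1] at h2
    refine ⟨⟨P, h2⟩, Set.mem_univ _, ?_⟩
    apply Subtype.ext
    rw [toIdx_val]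
    exact hP


/-- the term of the sum attached to a prime -/
theorem term_eq [IsLocallyNoetherian X] (f : X ⟶ Y) (x : X) (ξ : Y) (hξy : ξ ⤳ f x)
    (ξ' : X) (h' : ξ' ⤳ x) (P : PrimeSpectrum (X.presheaf.stalk x)) (hP : φ X x P = ξ')
    (e : f ξ' = ξ) [Ring.KrullDimLE 1 (Cyc.LocQuot x ξ' h')]
    (a b : Y.presheaf.stalk (f x))
    (ha : a ∉ RingHom.ker (Cyc.specMap (f x) ξ hξy))
    (hb : b ∉ RingHom.ker (Cyc.specMap (f x) ξ hξy)) :
    ((pmult f ξ').toNat : ℤ) *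
      Cyc.ordAt x ξ' h' (f.residueFieldMap ξ'
        ((Y.residueFieldCongr e.symm).hom
          (Cyc.specMap (f x) ξ hξy a / Cyc.specMap (f x) ξ hξy b))) =
    ((cpm ((RingHom.ker (Cyc.specMap (f x) ξ hξy)).map (f.stalkMap x).hom) P).toNat : ℤ) *
      (((Module.length (X.presheaf.stalk x) (X.presheaf.stalk x ⧸
        (P.asIdeal ⊔ Ideal.span {(f.stalkMap x).hom a}))).toNat : ℤ) -
      ((Module.length (X.presheaf.stalk x) (X.presheaf.stalk x ⧸
        (P.asIdeal ⊔ Ideal.span {(f.stalkMap x).hom b}))).toNat : ℤ)) := by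
  have hf' : f ξ' ⤳ f x := h'.map f.continuous
  have hk : RingHom.ker (Cyc.specMap x ξ' h') = P.asIdeal := by
    subst hP
    exact ker_specMap_φ x P
  rw [ordAt_pull_div f x ξ' h' ξ e hξy a b ha hb,
    pmult_eq_cpm_stalk f x ξ' h' hf',
    ker_specMap_congr (f x) (f ξ') ξ e hf' hξy]
  have h3 : (⟨RingHom.ker (Cyc.specMap x ξ' h'), RingHom.ker_isPrime _⟩ :
      PrimeSpectrum (X.presheaf.stalk x)) = P := PrimeSpectrum.ext hk
  rw [h3, hk]

open Classical in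
/-- **The main case**: `x` maximal in its fibre, `ξ` specializing immediately to `f x`. -/
theorem main_case [IsLocallyNoetherian X] [IsLocallyNoetherian Y] (f : X ⟶ Y) [Flat f]
    (δX : X → ℤ) (hδX : Cyc.IsDimFun X δX) (δY : Y → ℤ) (hδY : Cyc.IsDimFun Y δY)
    (x : X) (hx : FibMax f x) (ξ : Y) (hξy : ξ ⤳ f x) (hd : δY ξ ≤ δY (f x) + 1)
    (hdX : ∀ ξ' : X, FibMax f ξ' → f ξ' = ξ → δX ξ' ≤ δX x + 1)
    (g : Y.residueField ξ) (hg : g ≠ 0) :
    Cyc.ordAt (f x) ξ hξy g * ((pmult f x).toNat : ℤ) =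
      ∑ᶠ ξ' : {ξ' : X // FibMax f ξ' ∧ f ξ' = ξ},
        ((pmult f ξ'.1).toNat : ℤ) * (if h : ξ'.1 ⤳ x then
          Cyc.ordAt x ξ'.1 h (f.residueFieldMap ξ'.1 ((Y.residueFieldCongr ξ'.2.2.symm).hom g))
          else 0) := by
  haveI hpI : (RingHom.ker (Cyc.specMap (f x) ξ hξy)).IsPrime := RingHom.ker_isPrime _
  haveI hkY := OrdFlatH8.krullDimLE_one_locQuot δY hδY (f x) ξ hξy hd
  obtain ⟨a, b, ha, hb, hgab⟩ := exists_specMap_div (f x) ξ hξy g hg
  have hφ : (f.stalkMap x).hom.Flat := Flat.stalkMap f x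
  have hfinB : Module.length (X.presheaf.stalk x) (X.presheaf.stalk x ⧸
      (maximalIdeal (Y.presheaf.stalk (f x))).map (f.stalkMap x).hom) ≠ ⊤ :=
    pmult_ne_top_of_fibMax f x hx
  have key := ring_identity_sub (f.stalkMap x).hom hφ (RingHom.ker (Cyc.specMap (f x) ξ hξy))
    a b ha hb
    (length_quot_ker_sup_ne_top (f x) ξ hξy a ha) (length_quot_ker_sup_ne_top (f x) ξ hξy b hb)
    hfinB
  have hpm : pmult f x = Module.length (X.presheaf.stalk x) (X.presheaf.stalk x ⧸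
      (maximalIdeal (Y.presheaf.stalk (f x))).map (f.stalkMap x).hom) := rfl
  rw [hgab, ordAt_div (f x) ξ hξy a b ha hb, hpm, key,
    ← finsum_mem_univ,
    ← finsum_mem_univ (fun ξ' : {ξ' : X // FibMax f ξ' ∧ f ξ' = ξ} => _),
    finsum_mem_inter_support_eq' _ Set.univ
      {ξ' : {ξ' : X // FibMax f ξ' ∧ f ξ' = ξ} | ξ'.1 ⤳ x}]
  · apply finsum_mem_eq_of_bijOn (toIdx f x ξ hξy) (toIdx_bijOn f x ξ hξy)
    intro P _
    have h' : (toIdx f x ξ hξy P).1 ⤳ x := φ_specializes X x P.1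
    haveI hkX := OrdFlatH8.krullDimLE_one_locQuot δX hδX x (toIdx f x ξ hξy P).1 h'
      (hdX _ (toIdx f x ξ hξy P).2.1 (toIdx f x ξ hξy P).2.2)
    have ht := term_eq f x ξ hξy (toIdx f x ξ hξy P).1 h' P.1 (toIdx_val f x ξ hξy P)
      (toIdx f x ξ hξy P).2.2 a b ha hb
    rw [← ht, dif_pos h']
  · intro ξ' hξ'
    simp only [Set.mem_univ, Set.mem_ofPred_eq, true_iff]
    by_contra hns
    apply hξ'
    show _ * (if h : ξ'.1 ⤳ x then _ else 0) = 0
    rw [dif_neg hns, mul_zero]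


/-- the order of the pullback of a function from the image point vanishes -/
theorem ordAt_pull_eq_zero [IsLocallyNoetherian X] [IsLocallyNoetherian Y] (f : X ⟶ Y)
    (x ξ' : X) (h' : ξ' ⤳ x) [Ring.KrullDimLE 1 (Cyc.LocQuot x ξ' h')] (ξ : Y) (e : f ξ' = ξ)
    (hfx : f x = ξ) (g : Y.residueField ξ) (hg : g ≠ 0) :
    Cyc.ordAt x ξ' h' (f.residueFieldMap ξ' ((Y.residueFieldCongr e.symm).hom g)) = 0 := by
  subst hfx
  have hξy : f x ⤳ f x := specializes_rfl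
  obtain ⟨a, b, ha, hb, rfl⟩ := exists_specMap_div (f x) (f x) hξy g hg
  rw [ordAt_pull_div f x ξ' h' (f x) e hξy a b ha hb]
  rw [ker_specMap_self, mem_maximalIdeal, mem_nonunits_iff, not_not] at ha hb
  have h1 : ∀ c : Y.presheaf.stalk (f x), IsUnit c →
      Module.length (X.presheaf.stalk x) (X.presheaf.stalk x ⧸
        (RingHom.ker (Cyc.specMap x ξ' h') ⊔ Ideal.span {(f.stalkMap x).hom c})) = 0 := by
    intro c hc
    rw [Ideal.span_singleton_eq_top.mpr (hc.map (f.stalkMap x).hom), sup_top_eq,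
      Module.length_eq_zero_iff]
    infer_instance
  rw [h1 a ha, h1 b hb]
  rfl


theorem divFun_pos (δ : X → ℤ) (ξ x : X) (g : X.residueField ξ) (h : ξ ⤳ x ∧ δ x + 1 = δ ξ) :
    Cyc.divFun δ ξ g x = Cyc.ordAt x ξ h.1 g := dif_pos h

theorem divFun_neg (δ : X → ℤ) (ξ x : X) (g : X.residueField ξ)
    (h : ¬ (ξ ⤳ x ∧ δ x + 1 = δ ξ)) : Cyc.divFun δ ξ g x = 0 := dif_neg h

open Classical in
/-- **Flat pullback of a principal divisor** (general form): for `f : X → Y` flat, locally of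
finite type, of relative dimension `r`, `ξ ∈ Y` and `g ∈ κ(ξ)^×`,
`f^* div_ξ(g) = ∑_{ξ'} pmult f ξ' · div_{ξ'}(g)`, the sum over the points `ξ'` maximal in the
fibre of `f` over `ξ`. -/
theorem pull_div (δX : X → ℤ) (δY : Y → ℤ) (hX : Cyc.IsSetup X δX) (hY : Cyc.IsSetup Y δY)
    (f : X ⟶ Y) [Flat f] [LocallyOfFiniteType f] (r : ℕ) (hr : Cyc.HasRelDim f r)
    (hδ : Cyc.DeltaCompat f δX δY) (ξ : Y) (g : Y.residueField ξ) (hg : g ≠ 0) (x : X) :
    Cyc.pullFun f δX δY r (Cyc.divFun δY ξ g) x =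
      ∑ᶠ ξ' : {ξ' : X // FibMax f ξ' ∧ f ξ' = ξ},
        ((pmult f ξ'.1).toNat : ℤ) * Cyc.divFun δX ξ'.1
          (f.residueFieldMap ξ'.1 ((Y.residueFieldCongr ξ'.2.2.symm).hom g)) x := by
  obtain ⟨hXn, -, hδX⟩ := hX
  obtain ⟨hYn, -, hδY⟩ := hY
  haveI := hXn
  haveI := hYn
  have hFM : ∀ z : X, δX z = δY (f z) + r ↔ FibMax f z :=
    delta_eq_iff_fibMax f δX δY r hr hδ
  have hidx : ∀ ξ' : {ξ' : X // FibMax f ξ' ∧ f ξ' = ξ}, δX ξ'.1 = δY ξ + r := by
    intro ξ'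
    have := (hFM ξ'.1).mpr ξ'.2.1
    rw [ξ'.2.2] at this
    exact this
  have hdle := CycPullH8.delta_le f δX δY r hr hδ x
  rw [pullFun_eq]
  by_cases hx : δX x = δY (f x) + r
  · rw [if_pos hx]
    have hxmax : FibMax f x := (hFM x).mp hx
    by_cases h2 : ξ ⤳ f x ∧ δY (f x) + 1 = δY ξ
    · have hdiv : Cyc.divFun δY ξ g (f x) = Cyc.ordAt (f x) ξ h2.1 g := dif_pos h2
      rw [hdiv, main_case f δX hδX δY hδY x hxmax ξ h2.1 (by omega)
        (fun ξ' h1 h3 => by have := hidx ⟨ξ', h1, h3⟩; simp only at this; omega) g hg]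
      apply finsum_congr
      intro ξ'
      have h4 : δX x + 1 = δX ξ'.1 := by have := hidx ξ'; omega
      congr 1
      by_cases h' : ξ'.1 ⤳ x
      · rw [dif_pos h', divFun_pos δX ξ'.1 x _ ⟨h', h4⟩]
      · rw [dif_neg h', divFun_neg δX ξ'.1 x _ (fun h => h' h.1)]
    · have hdiv : Cyc.divFun δY ξ g (f x) = 0 := dif_neg h2
      rw [hdiv, zero_mul]
      symm
      apply finsum_eq_zero_of_forall_eq_zero
      intro ξ'
      have h5 : ¬ (ξ'.1 ⤳ x ∧ δX x + 1 = δX ξ'.1) := by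
        rintro ⟨h', h4⟩
        apply h2
        have h6 : f ξ'.1 ⤳ f x := h'.map f.continuous
        rw [ξ'.2.2] at h6
        refine ⟨h6, ?_⟩
        have := hidx ξ'
        omega
      have hdiv' : Cyc.divFun δX ξ'.1
          (f.residueFieldMap ξ'.1 ((Y.residueFieldCongr ξ'.2.2.symm).hom g)) x = 0 := dif_neg h5
      rw [hdiv', mul_zero]
  · rw [if_neg hx]
    symm
    apply finsum_eq_zero_of_forall_eq_zero
    intro ξ'
    by_cases h5 : ξ'.1 ⤳ x ∧ δX x + 1 = δX ξ'.1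
    · have hdiv' : Cyc.divFun δX ξ'.1
          (f.residueFieldMap ξ'.1 ((Y.residueFieldCongr ξ'.2.2.symm).hom g)) x =
          Cyc.ordAt x ξ'.1 h5.1
            (f.residueFieldMap ξ'.1 ((Y.residueFieldCongr ξ'.2.2.symm).hom g)) := dif_pos h5
      have h6 : f ξ'.1 ⤳ f x := h5.1.map f.continuous
      rw [ξ'.2.2] at h6
      have hfx : f x = ξ := by
        by_contra hne
        have := (hδY _ _ h6 (fun e => hne e.symm)).1
        have := hidx ξ'
        omega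
      haveI hkX := OrdFlatH8.krullDimLE_one_locQuot δX hδX x ξ'.1 h5.1 (by omega)
      rw [hdiv', ordAt_pull_eq_zero f x ξ'.1 h5.1 ξ ξ'.2.2 hfx g hg, mul_zero]
    · have hdiv' : Cyc.divFun δX ξ'.1
          (f.residueFieldMap ξ'.1 ((Y.residueFieldCongr ξ'.2.2.symm).hom g)) x = 0 := dif_neg h5
      rw [hdiv', mul_zero]

end Main

end Groth.Agent.Lib.CycFDH5
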