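import Mathlib
import Groth.Prelude
import Groth.Agent.Lib.CycFD3_helper5
import Groth.Agent.Lib.CycLen7_helper8

/-!
# Flat pullback preserves rational equivalence (helper5)

* `finsum_subtype_dite`;
* `finite_fibMax_inter`, `finite_fibMax_specializes`: finiteness of the points maximal in the fibre
  over a given point, in an affine open / among the generizations of a point;
* `pullFun_finsum`;
* `ratEquivZero_pull`: if `γ` is rationally equivalent to zero on `Y` then `f^*γ` is rationally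
  equivalent to zero on `X` (from `pull_div` and `n · div(g) = div(g^n)`).

APPEND-ONLY once landed.
-/

set_option autoImplicit false

namespace Groth.Agent.Lib.CycFDH5

open IsLocalRing AlgebraicGeometry CategoryTheory TopologicalSpace
open Groth.Agent.Lib.CycFBCH5 Groth.Agent.DimFunH8

universe u

section Finsum

theorem finsum_subtype_dite {α M : Type*} [AddCommMonoid M] (P : α → Prop) [DecidablePred P]
    (D : Subtype P → M) :
    ∑ᶠ p : Subtype P, D p = ∑ᶠ q : α, if h : P q then D ⟨q, h⟩ else 0 := by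
  set G : α → M := fun q => if h : P q then D ⟨q, h⟩ else 0 with hG
  have h1 : ∑ᶠ q : α, G q = ∑ᶠ q ∈ {q | P q}, G q := by
    rw [← finsum_mem_univ]
    apply finsum_mem_inter_support_eq'
    intro q hq
    simp only [Set.mem_univ, Set.mem_ofPred_eq, true_iff]
    by_contra hP
    apply hq
    show (if h : P q then D ⟨q, h⟩ else 0) = 0
    rw [dif_neg hP]
  rw [h1]
  have h2 : ∑ᶠ q ∈ {q | P q}, G q = ∑ᶠ p : Subtype P, G p.1 :=
    (finsum_subtype_eq_finsum_cond (f := G) P).symm
  rw [h2]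
  apply finsum_congr
  intro p
  show D p = if h : P p.1 then D ⟨p.1, h⟩ else 0
  rw [dif_pos p.2]

end Finsum

section Top

variable {X Y : Scheme.{u}}

/-- an affine open of a locally Noetherian scheme contains finitely many points maximal in the
fibre over a given point -/
theorem finite_fibMax_inter [IsLocallyNoetherian X] (f : X ⟶ Y) (U' : X.Opens)
    (hU' : IsAffineOpen U') (η : Y) : {x' : X | x' ∈ U' ∧ FibMax f x' ∧ f x' = η}.Finite := by
  haveI : IsNoetherianRing Γ(X, U') := IsLocallyNoetherian.component_noetherian ⟨U', hU'⟩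
  haveI : NoetherianSpace U' := noetherianSpace_of_isAffineOpen U' hU'
  haveI : QuasiSober U' := U'.isOpenEmbedding'.quasiSober
  set T : Set U' := {z | f z.1 = η} with hT
  have hZ : IsClosed (closure T) := isClosed_closure
  have hfin := CycLenH8.finite_maximal_points hZ
  refine (hfin.image Subtype.val).subset ?_
  rintro x' ⟨hx'U, hmax, hfx'⟩
  refine ⟨⟨x', hx'U⟩, ⟨subset_closure hfx', ?_⟩, rfl⟩
  intro t ht hsp
  have hC : IsClosed {z : U' | f z.1 ∈ closure ({η} : Set Y)} :=
    isClosed_closure.preimage (f.continuous.comp continuous_subtype_val)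
  have h1 : closure T ⊆ {z : U' | f z.1 ∈ closure ({η} : Set Y)} := by
    apply hC.closure_subset_iff.mpr
    intro z hz
    have hz' : f z.1 = η := hz
    show f z.1 ∈ closure ({η} : Set Y)
    rw [hz']
    exact subset_closure rfl
  have h2 : η ⤳ f t.1 := specializes_iff_mem_closure.mpr (h1 ht)
  have h3 : t.1 ⤳ x' := hsp.map continuous_subtype_val
  have h4 : f t.1 ⤳ η := by
    rw [← hfx']
    exact h3.map f.continuous
  have h5 : f t.1 = f x' := by rw [hfx']; exact (h4.antisymm h2).eq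
  exact Subtype.ext (hmax t.1 h5 h3)

/-- finitely many points maximal in the fibre over a given point specialize to a given point -/
theorem finite_fibMax_specializes [IsLocallyNoetherian X] (f : X ⟶ Y) (x : X) (η : Y) :
    {x' : X | x' ⤳ x ∧ FibMax f x' ∧ f x' = η}.Finite := by
  obtain ⟨U', hU0', hxU', -⟩ := (Opens.isBasis_iff_nbhd.mp X.isBasis_affineOpens)
    (show x ∈ (⊤ : X.Opens) from trivial)
  have hU' : IsAffineOpen U' := hU0'
  refine (finite_fibMax_inter f U' hU' η).subset ?_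
  rintro x' ⟨h1, h2, h3⟩
  exact ⟨h1.mem_open U'.2 hxU', h2, h3⟩


theorem divFun_ne_zero_specializes (δ : X → ℤ) (ξ x : X) (g : X.residueField ξ)
    (h : Cyc.divFun δ ξ g x ≠ 0) : ξ ⤳ x := by
  by_contra hne
  exact h (divFun_neg δ ξ x g (fun hc => hne hc.1))

theorem pullFun_finsum (f : X ⟶ Y) (δX : X → ℤ) (δY : Y → ℤ) (r : ℤ) {ι : Type*}
    (a : ι → Y → ℤ) (x : X) :
    Cyc.pullFun f δX δY r (fun y => ∑ᶠ i, a i y) x = ∑ᶠ i, Cyc.pullFun f δX δY r (a i) x := by
  rw [pullFun_eq]
  by_cases hc : δX x = δY (f x) + r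
  · rw [if_pos hc, finsum_mul]
    apply finsum_congr
    intro i
    rw [pullFun_eq, if_pos hc]
  · rw [if_neg hc]
    symm
    apply finsum_eq_zero_of_forall_eq_zero
    intro i
    rw [pullFun_eq, if_neg hc]


set_option maxHeartbeats 1000000 in
/-- **Flat pullback preserves rational equivalence to zero.** -/
theorem ratEquivZero_pull (δX : X → ℤ) (δY : Y → ℤ) (hX : Cyc.IsSetup X δX)
    (hY : Cyc.IsSetup Y δY) (f : X ⟶ Y) [Flat f] [LocallyOfFiniteType f] (r : ℕ)
    (hr : Cyc.HasRelDim f r) (hδ : Cyc.DeltaCompat f δX δY) (k : ℤ)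
    (γ : AlgebraicCycle Y ℤ) (h : Cyc.RatEquivZero δY k γ) (γ' : AlgebraicCycle X ℤ)
    (hγ' : ⇑γ' = Cyc.pullFun f δX δY r ⇑γ) : Cyc.RatEquivZero δX (k + r) γ' := by
  classical
  obtain ⟨ι, ξ, g, hdim, hg0, hlf, hsum⟩ := h
  have hXn : IsLocallyNoetherian X := hX.1
  have hδX : Cyc.IsDimFun X δX := hX.2.2
  have hFM : ∀ z : X, δX z = δY (f z) + r ↔ FibMax f z :=
    delta_eq_iff_fibMax f δX δY r hr hδ
  -- the pulled back functions
  let gp : (p : {p : ι × X // FibMax f p.2 ∧ f p.2 = ξ p.1}) → X.residueField p.1.2 := fun p =>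
    f.residueFieldMap p.1.2 ((Y.residueFieldCongr p.2.2.symm).hom (g p.1.1))
  have hgp0 : ∀ p, gp p ≠ 0 := by
    intro p
    show f.residueFieldMap p.1.2 ((Y.residueFieldCongr p.2.2.symm).hom (g p.1.1)) ≠ 0
    rw [map_ne_zero, map_ne_zero]
    exact hg0 p.1.1
  refine ⟨{p : ι × X // FibMax f p.2 ∧ f p.2 = ξ p.1}, fun p => p.1.2,
    fun p => gp p ^ ((pmult f p.1.2).toNat : ℤ), ?_, ?_, ?_, ?_⟩
  · intro p
    have h1 := (hFM p.1.2).mpr p.2.1
    rw [p.2.2, hdim p.1.1] at h1
    rw [h1]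
    ring
  · intro p
    exact zpow_ne_zero _ (hgp0 p)
  · -- local finiteness
    intro x
    obtain ⟨U, hUo, hfxU, hUfin⟩ := hlf (f x)
    obtain ⟨U', hU0', hxU', hU'le⟩ := (Opens.isBasis_iff_nbhd.mp X.isBasis_affineOpens)
      (show x ∈ f ⁻¹ᵁ (⟨U, hUo⟩ : Y.Opens) from hfxU)
    have hU' : IsAffineOpen U' := hU0'
    refine ⟨U', U'.2, hxU', ?_⟩
    set S : Set ι := {i | (closure {ξ i} ∩ U).Nonempty} with hS
    set T' : Set X := ⋃ i ∈ S, {x' : X | x' ∈ U' ∧ FibMax f x' ∧ f x' = ξ i} with hT'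
    have hT'fin : T'.Finite := hUfin.biUnion (fun i _ => finite_fibMax_inter f U' hU' (ξ i))
    have hsub : {p : {p : ι × X // FibMax f p.2 ∧ f p.2 = ξ p.1} |
        (closure {p.1.2} ∩ (U' : Set X)).Nonempty} ⊆ Subtype.val ⁻¹' (S ×ˢ T') := by
      rintro p ⟨y, hy1, hy2⟩
      have hsp : p.1.2 ⤳ y := specializes_iff_mem_closure.mpr hy1
      have hpU' : p.1.2 ∈ U' := hsp.mem_open U'.2 hy2
      have hfU : f p.1.2 ∈ U := hU'le hpU'
      have hiS : p.1.1 ∈ S := by
        refine ⟨ξ p.1.1, subset_closure rfl, ?_⟩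
        rw [← p.2.2]
        exact hfU
      refine ⟨hiS, ?_⟩
      simp only [hT', Set.mem_iUnion]
      exact ⟨p.1.1, hiS, hpU', p.2.1, p.2.2⟩
    exact ((hUfin.prod hT'fin).preimage Subtype.val_injective.injOn).subset hsub
  · -- the formula
    intro x
    rw [hγ']
    have hfun : (⇑γ : Y → ℤ) = fun y => ∑ᶠ i, Cyc.divFun δY (ξ i) (g i) y := funext hsum
    rw [hfun, pullFun_finsum]
    -- the finite index sets
    obtain ⟨U, hUo, hfxU, hUfin⟩ := hlf (f x)
    set S : Set ι := {i | ξ i ⤳ f x} with hS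
    have hSfin : S.Finite := by
      refine hUfin.subset ?_
      intro i hi
      exact ⟨f x, specializes_iff_mem_closure.mp hi, hfxU⟩
    set T : Set X := ⋃ i ∈ S, {x' : X | x' ⤳ x ∧ FibMax f x' ∧ f x' = ξ i} with hT
    have hTfin : T.Finite := hSfin.biUnion (fun i _ => finite_fibMax_specializes f x (ξ i))
    -- the terms
    set D : {p : ι × X // FibMax f p.2 ∧ f p.2 = ξ p.1} → ℤ := fun p =>
      Cyc.divFun δX p.1.2 (gp p ^ ((pmult f p.1.2).toNat : ℤ)) x with hD
    show _ = ∑ᶠ p, D p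
    rw [finsum_subtype_dite (fun q : ι × X => FibMax f q.2 ∧ f q.2 = ξ q.1) D]
    have hsupp : (Function.support fun q : ι × X =>
        if h : FibMax f q.2 ∧ f q.2 = ξ q.1 then D ⟨q, h⟩ else 0).Finite := by
      refine (hSfin.prod hTfin).subset ?_
      intro q hq
      rw [Function.mem_support] at hq
      by_cases hP : FibMax f q.2 ∧ f q.2 = ξ q.1
      · rw [dif_pos hP] at hq
        have hsp : q.2 ⤳ x := divFun_ne_zero_specializes δX _ x _ hq
        have hsp' : ξ q.1 ⤳ f x := by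
          rw [← hP.2]
          exact hsp.map f.continuous
        refine ⟨hsp', ?_⟩
        simp only [hT, Set.mem_iUnion]
        exact ⟨q.1, hsp', hsp, hP.1, hP.2⟩
      · rw [dif_neg hP] at hq
        exact absurd rfl hq
    rw [finsum_curry _ hsupp]
    apply finsum_congr
    intro i
    rw [pull_div δX δY hX hY f r hr hδ (ξ i) (g i) (hg0 i) x,
      finsum_subtype_dite (fun x' : X => FibMax f x' ∧ f x' = ξ i)]
    apply finsum_congr
    intro x'
    by_cases hP : FibMax f x' ∧ f x' = ξ i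
    · rw [dif_pos hP]
      have hP' : FibMax f (i, x').2 ∧ f (i, x').2 = ξ (i, x').1 := hP
      rw [dif_pos hP']
      show _ = Cyc.divFun δX x' (gp ⟨(i, x'), hP'⟩ ^ ((pmult f x').toNat : ℤ)) x
      rw [SecOrdH8.divFun_zpow δX hδX x' (hgp0 ⟨(i, x'), hP'⟩)]
    · rw [dif_neg hP]
      have hP' : ¬ (FibMax f (i, x').2 ∧ f (i, x').2 = ξ (i, x').1) := hP
      rw [dif_neg hP']

end Top

end Groth.Agent.Lib.CycFDH5
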