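import Mathlib
import Groth.Prelude
import Groth.Agent.Lib.CycFD4_helper5
import Groth.Agent.Lib.CycLen5_helper8

/-!
# Flat pullback of principal divisors and rational equivalence, abstract form (helper5)

`pull_div_shift`, `ratEquivZero_pull_shift`: the statements of `pull_div`, `ratEquivZero_pull` for a
flat morphism `f : X → Y` (not necessarily of finite type) with dimension functions such that
`δX = δY ∘ f + r` exactly at the points maximal in their fibre and `δX ≤ δY ∘ f + r` everywhere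
(e.g. the flat base change setting with shift `c`).

APPEND-ONLY once landed.
-/

set_option autoImplicit false

namespace Groth.Agent.Lib.CycFDH5

open IsLocalRing AlgebraicGeometry CategoryTheory TopologicalSpace
open Groth.Agent.Lib.SpecLenH5 Groth.Agent.Lib.CycSpH5 Groth.Agent.Lib.CycFBCH5
open Groth.Agent.Lib.CycFPH5 Groth.Agent.DimFunH8

universe u

section Shift

variable {X Y : Scheme.{u}}

open Classical in
/-- **Flat pullback of a principal divisor**, abstract form: `f : X → Y` flat, with dimension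
functions such that `δX = δY ∘ f + r` exactly at the points maximal in their fibre and
`δX ≤ δY ∘ f + r` everywhere. -/
theorem pull_div_shift (δX : X → ℤ) (δY : Y → ℤ) (hX : Cyc.IsSetup X δX) (hY : Cyc.IsSetup Y δY)
    (f : X ⟶ Y) [Flat f] (r : ℤ)
    (hFM : ∀ z : X, δX z = δY (f z) + r ↔ FibMax f z)
    (hle : ∀ z : X, δX z ≤ δY (f z) + r)
    (ξ : Y) (g : Y.residueField ξ) (hg : g ≠ 0) (x : X) :
    Cyc.pullFun f δX δY r (Cyc.divFun δY ξ g) x =
      ∑ᶠ ξ' : {ξ' : X // FibMax f ξ' ∧ f ξ' = ξ},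
        ((pmult f ξ'.1).toNat : ℤ) * Cyc.divFun δX ξ'.1
          (f.residueFieldMap ξ'.1 ((Y.residueFieldCongr ξ'.2.2.symm).hom g)) x := by
  obtain ⟨hXn, -, hδX⟩ := hX
  obtain ⟨hYn, -, hδY⟩ := hY
  haveI := hXn
  haveI := hYn
  have hidx : ∀ ξ' : {ξ' : X // FibMax f ξ' ∧ f ξ' = ξ}, δX ξ'.1 = δY ξ + r := by
    intro ξ'
    have := (hFM ξ'.1).mpr ξ'.2.1
    rw [ξ'.2.2] at this
    exact this
  have hdle := hle x
  rw [pullFun_eq]
  by_cases hx : δX x = δY (f x) + r
  · rw [if_pos hx]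
    have hxmax : FibMax f x := (hFM x).mp hx
    by_cases h2 : ξ ⤳ f x ∧ δY (f x) + 1 = δY ξ
    · have hdiv : Cyc.divFun δY ξ g (f x) = Cyc.ordAt (f x) ξ h2.1 g := dif_pos h2
      rw [hdiv, main_case f δX hδX δY hδY x hxmax ξ h2.1 (by omega)
        (fun ξ' h1 h3 => by have := hidx ⟨ξ', h1, h3⟩; simp only at this; omega) g hg]
      apply finsum_congr
      intro ξ'
      have h4 : δX x + 1 = δX ξ'.1 := by have := hidx ξ'; omega
      congr 1
      by_cases h' : ξ'.1 ⤳ x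
      · rw [dif_pos h', divFun_pos δX ξ'.1 x _ ⟨h', h4⟩]
      · rw [dif_neg h', divFun_neg δX ξ'.1 x _ (fun h => h' h.1)]
    · have hdiv : Cyc.divFun δY ξ g (f x) = 0 := dif_neg h2
      rw [hdiv, zero_mul]
      symm
      apply finsum_eq_zero_of_forall_eq_zero
      intro ξ'
      have h5 : ¬ (ξ'.1 ⤳ x ∧ δX x + 1 = δX ξ'.1) := by
        rintro ⟨h', h4⟩
        apply h2
        have h6 : f ξ'.1 ⤳ f x := h'.map f.continuous
        rw [ξ'.2.2] at h6
        refine ⟨h6, ?_⟩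
        have := hidx ξ'
        omega
      have hdiv' : Cyc.divFun δX ξ'.1
          (f.residueFieldMap ξ'.1 ((Y.residueFieldCongr ξ'.2.2.symm).hom g)) x = 0 := dif_neg h5
      rw [hdiv', mul_zero]
  · rw [if_neg hx]
    symm
    apply finsum_eq_zero_of_forall_eq_zero
    intro ξ'
    by_cases h5 : ξ'.1 ⤳ x ∧ δX x + 1 = δX ξ'.1
    · have hdiv' : Cyc.divFun δX ξ'.1
          (f.residueFieldMap ξ'.1 ((Y.residueFieldCongr ξ'.2.2.symm).hom g)) x =
          Cyc.ordAt x ξ'.1 h5.1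
            (f.residueFieldMap ξ'.1 ((Y.residueFieldCongr ξ'.2.2.symm).hom g)) := dif_pos h5
      have h6 : f ξ'.1 ⤳ f x := h5.1.map f.continuous
      rw [ξ'.2.2] at h6
      have hfx : f x = ξ := by
        by_contra hne
        have := (hδY _ _ h6 (fun e => hne e.symm)).1
        have := hidx ξ'
        omega
      haveI hkX := OrdFlatH8.krullDimLE_one_locQuot δX hδX x ξ'.1 h5.1 (by omega)
      rw [hdiv', ordAt_pull_eq_zero f x ξ'.1 h5.1 ξ ξ'.2.2 hfx g hg, mul_zero]
    · have hdiv' : Cyc.divFun δX ξ'.1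
          (f.residueFieldMap ξ'.1 ((Y.residueFieldCongr ξ'.2.2.symm).hom g)) x = 0 := dif_neg h5
      rw [hdiv', mul_zero]

set_option maxHeartbeats 1000000 in
/-- **Flat pullback preserves rational equivalence to zero**, abstract form. -/
theorem ratEquivZero_pull_shift (δX : X → ℤ) (δY : Y → ℤ) (hX : Cyc.IsSetup X δX)
    (hY : Cyc.IsSetup Y δY) (f : X ⟶ Y) [Flat f] (r : ℤ)
    (hFM : ∀ z : X, δX z = δY (f z) + r ↔ FibMax f z)
    (hle : ∀ z : X, δX z ≤ δY (f z) + r) (k : ℤ)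
    (γ : AlgebraicCycle Y ℤ) (h : Cyc.RatEquivZero δY k γ) (γ' : AlgebraicCycle X ℤ)
    (hγ' : ⇑γ' = Cyc.pullFun f δX δY r ⇑γ) : Cyc.RatEquivZero δX (k + r) γ' := by
  classical
  obtain ⟨ι, ξ, g, hdim, hg0, hlf, hsum⟩ := h
  have hXn : IsLocallyNoetherian X := hX.1
  have hδX : Cyc.IsDimFun X δX := hX.2.2
  -- the pulled back functions
  let gp : (p : {p : ι × X // FibMax f p.2 ∧ f p.2 = ξ p.1}) → X.residueField p.1.2 := fun p =>
    f.residueFieldMap p.1.2 ((Y.residueFieldCongr p.2.2.symm).hom (g p.1.1))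
  have hgp0 : ∀ p, gp p ≠ 0 := by
    intro p
    show f.residueFieldMap p.1.2 ((Y.residueFieldCongr p.2.2.symm).hom (g p.1.1)) ≠ 0
    rw [map_ne_zero, map_ne_zero]
    exact hg0 p.1.1
  refine ⟨{p : ι × X // FibMax f p.2 ∧ f p.2 = ξ p.1}, fun p => p.1.2,
    fun p => gp p ^ ((pmult f p.1.2).toNat : ℤ), ?_, ?_, ?_, ?_⟩
  · intro p
    have h1 := (hFM p.1.2).mpr p.2.1
    rw [p.2.2, hdim p.1.1] at h1
    rw [h1]
    ring
  · intro p
    exact zpow_ne_zero _ (hgp0 p)
  · -- local finiteness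
    intro x
    obtain ⟨U, hUo, hfxU, hUfin⟩ := hlf (f x)
    obtain ⟨U', hU0', hxU', hU'le⟩ := (Opens.isBasis_iff_nbhd.mp X.isBasis_affineOpens)
      (show x ∈ f ⁻¹ᵁ (⟨U, hUo⟩ : Y.Opens) from hfxU)
    have hU' : IsAffineOpen U' := hU0'
    refine ⟨U', U'.2, hxU', ?_⟩
    set S : Set ι := {i | (closure {ξ i} ∩ U).Nonempty} with hS
    set T' : Set X := ⋃ i ∈ S, {x' : X | x' ∈ U' ∧ FibMax f x' ∧ f x' = ξ i} with hT'
    have hT'fin : T'.Finite := hUfin.biUnion (fun i _ => finite_fibMax_inter f U' hU' (ξ i))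
    have hsub : {p : {p : ι × X // FibMax f p.2 ∧ f p.2 = ξ p.1} |
        (closure {p.1.2} ∩ (U' : Set X)).Nonempty} ⊆ Subtype.val ⁻¹' (S ×ˢ T') := by
      rintro p ⟨y, hy1, hy2⟩
      have hsp : p.1.2 ⤳ y := specializes_iff_mem_closure.mpr hy1
      have hpU' : p.1.2 ∈ U' := hsp.mem_open U'.2 hy2
      have hfU : f p.1.2 ∈ U := hU'le hpU'
      have hiS : p.1.1 ∈ S := by
        refine ⟨ξ p.1.1, subset_closure rfl, ?_⟩
        rw [← p.2.2]
        exact hfU
      refine ⟨hiS, ?_⟩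
      simp only [hT', Set.mem_iUnion]
      exact ⟨p.1.1, hiS, hpU', p.2.1, p.2.2⟩
    exact ((hUfin.prod hT'fin).preimage Subtype.val_injective.injOn).subset hsub
  · -- the formula
    intro x
    rw [hγ']
    have hfun : (⇑γ : Y → ℤ) = fun y => ∑ᶠ i, Cyc.divFun δY (ξ i) (g i) y := funext hsum
    rw [hfun, pullFun_finsum]
    -- the finite index sets
    obtain ⟨U, hUo, hfxU, hUfin⟩ := hlf (f x)
    set S : Set ι := {i | ξ i ⤳ f x} with hS
    have hSfin : S.Finite := by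
      refine hUfin.subset ?_
      intro i hi
      exact ⟨f x, specializes_iff_mem_closure.mp hi, hfxU⟩
    set T : Set X := ⋃ i ∈ S, {x' : X | x' ⤳ x ∧ FibMax f x' ∧ f x' = ξ i} with hT
    have hTfin : T.Finite := hSfin.biUnion (fun i _ => finite_fibMax_specializes f x (ξ i))
    -- the terms
    set D : {p : ι × X // FibMax f p.2 ∧ f p.2 = ξ p.1} → ℤ := fun p =>
      Cyc.divFun δX p.1.2 (gp p ^ ((pmult f p.1.2).toNat : ℤ)) x with hD
    show _ = ∑ᶠ p, D p
    rw [finsum_subtype_dite (fun q : ι × X => FibMax f q.2 ∧ f q.2 = ξ q.1) D]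
    have hsupp : (Function.support fun q : ι × X =>
        if h : FibMax f q.2 ∧ f q.2 = ξ q.1 then D ⟨q, h⟩ else 0).Finite := by
      refine (hSfin.prod hTfin).subset ?_
      intro q hq
      rw [Function.mem_support] at hq
      by_cases hP : FibMax f q.2 ∧ f q.2 = ξ q.1
      · rw [dif_pos hP] at hq
        have hsp : q.2 ⤳ x := divFun_ne_zero_specializes δX _ x _ hq
        have hsp' : ξ q.1 ⤳ f x := by
          rw [← hP.2]
          exact hsp.map f.continuous
        refine ⟨hsp', ?_⟩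
        simp only [hT, Set.mem_iUnion]
        exact ⟨q.1, hsp', hsp, hP.1, hP.2⟩
      · rw [dif_neg hP] at hq
        exact absurd rfl hq
    rw [finsum_curry _ hsupp]
    apply finsum_congr
    intro i
    rw [pull_div_shift δX δY hX hY f r hFM hle (ξ i) (g i) (hg0 i) x,
      finsum_subtype_dite (fun x' : X => FibMax f x' ∧ f x' = ξ i)]
    apply finsum_congr
    intro x'
    by_cases hP : FibMax f x' ∧ f x' = ξ i
    · rw [dif_pos hP]
      have hP' : FibMax f (i, x').2 ∧ f (i, x').2 = ξ (i, x').1 := hP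
      rw [dif_pos hP']
      show _ = Cyc.divFun δX x' (gp ⟨(i, x'), hP'⟩ ^ ((pmult f x').toNat : ℤ)) x
      rw [SecOrdH8.divFun_zpow δX hδX x' (hgp0 ⟨(i, x'), hP'⟩)]
    · rw [dif_neg hP]
      have hP' : ¬ (FibMax f (i, x').2 ∧ f (i, x').2 = ξ (i, x').1) := hP
      rw [dif_neg hP']

end Shift

end Groth.Agent.Lib.CycFDH5
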