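import Mathlib
import Groth.Prelude
import Groth.Agent.Lib.CycFD5_helper5
import Groth.Agent.Lib.CycLen8_helper8

/-!
# Excision for rational equivalence (helper5)

* `pull_div_shift'`: `CycFDH5.pull_div_shift` with weaker standing hypotheses;
* `divFun_open`: the principal divisor of a function restricted to an open subscheme
  (flat pullback along an open immersion);
* `locallyFinite_open`: a family of points of an open `U` of a locally Noetherian scheme that is
  locally finite in `U` is locally finite in the scheme;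
* `finite_divFun_support_inter`: a principal divisor has finite support on an affine open;
* `excision`: if the restrictions of `α, β` to `U` are rationally equivalent then `α ∼ β + γ` with `γ`
  a cycle vanishing on `U`.

APPEND-ONLY once landed.
-/

set_option autoImplicit false

namespace Groth.Agent.Lib.CycExH5

open IsLocalRing AlgebraicGeometry CategoryTheory TopologicalSpace
open Groth.Agent.Lib.SpecLenH5 Groth.Agent.Lib.CycSpH5 Groth.Agent.Lib.CycFBCH5
open Groth.Agent.Lib.CycFPH5 Groth.Agent.DimFunH8 Groth.Agent.Lib.CycFDH5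

universe u

section Shift

variable {X Y : Scheme.{u}}

open Classical in
/-- **Flat pullback of a principal divisor**, abstract form with weaker standing hypotheses: `f : X → Y` flat, with dimension
functions such that `δX = δY ∘ f + r` exactly at the points maximal in their fibre and
`δX ≤ δY ∘ f + r` everywhere. -/
theorem pull_div_shift' [IsLocallyNoetherian X] [IsLocallyNoetherian Y] (δX : X → ℤ) (δY : Y → ℤ)
    (hδX : Cyc.IsDimFun X δX) (hδY : Cyc.IsDimFun Y δY)
    (f : X ⟶ Y) [Flat f] (r : ℤ)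
    (hFM : ∀ z : X, δX z = δY (f z) + r ↔ FibMax f z)
    (hle : ∀ z : X, δX z ≤ δY (f z) + r)
    (ξ : Y) (g : Y.residueField ξ) (hg : g ≠ 0) (x : X) :
    Cyc.pullFun f δX δY r (Cyc.divFun δY ξ g) x =
      ∑ᶠ ξ' : {ξ' : X // FibMax f ξ' ∧ f ξ' = ξ},
        ((pmult f ξ'.1).toNat : ℤ) * Cyc.divFun δX ξ'.1
          (f.residueFieldMap ξ'.1 ((Y.residueFieldCongr ξ'.2.2.symm).hom g)) x := by
  have hidx : ∀ ξ' : {ξ' : X // FibMax f ξ' ∧ f ξ' = ξ}, δX ξ'.1 = δY ξ + r := by
    intro ξ'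
    have := (hFM ξ'.1).mpr ξ'.2.1
    rw [ξ'.2.2] at this
    exact this
  have hdle := hle x
  rw [pullFun_eq]
  by_cases hx : δX x = δY (f x) + r
  · rw [if_pos hx]
    have hxmax : FibMax f x := (hFM x).mp hx
    by_cases h2 : ξ ⤳ f x ∧ δY (f x) + 1 = δY ξ
    · have hdiv : Cyc.divFun δY ξ g (f x) = Cyc.ordAt (f x) ξ h2.1 g := dif_pos h2
      rw [hdiv, main_case f δX hδX δY hδY x hxmax ξ h2.1 (by omega)
        (fun ξ' h1 h3 => by have := hidx ⟨ξ', h1, h3⟩; simp only at this; omega) g hg]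
      apply finsum_congr
      intro ξ'
      have h4 : δX x + 1 = δX ξ'.1 := by have := hidx ξ'; omega
      congr 1
      by_cases h' : ξ'.1 ⤳ x
      · rw [dif_pos h', divFun_pos δX ξ'.1 x _ ⟨h', h4⟩]
      · rw [dif_neg h', divFun_neg δX ξ'.1 x _ (fun h => h' h.1)]
    · have hdiv : Cyc.divFun δY ξ g (f x) = 0 := dif_neg h2
      rw [hdiv, zero_mul]
      symm
      apply finsum_eq_zero_of_forall_eq_zero
      intro ξ'
      have h5 : ¬ (ξ'.1 ⤳ x ∧ δX x + 1 = δX ξ'.1) := by
        rintro ⟨h', h4⟩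
        apply h2
        have h6 : f ξ'.1 ⤳ f x := h'.map f.continuous
        rw [ξ'.2.2] at h6
        refine ⟨h6, ?_⟩
        have := hidx ξ'
        omega
      have hdiv' : Cyc.divFun δX ξ'.1
          (f.residueFieldMap ξ'.1 ((Y.residueFieldCongr ξ'.2.2.symm).hom g)) x = 0 := dif_neg h5
      rw [hdiv', mul_zero]
  · rw [if_neg hx]
    symm
    apply finsum_eq_zero_of_forall_eq_zero
    intro ξ'
    by_cases h5 : ξ'.1 ⤳ x ∧ δX x + 1 = δX ξ'.1
    · have hdiv' : Cyc.divFun δX ξ'.1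
          (f.residueFieldMap ξ'.1 ((Y.residueFieldCongr ξ'.2.2.symm).hom g)) x =
          Cyc.ordAt x ξ'.1 h5.1
            (f.residueFieldMap ξ'.1 ((Y.residueFieldCongr ξ'.2.2.symm).hom g)) := dif_pos h5
      have h6 : f ξ'.1 ⤳ f x := h5.1.map f.continuous
      rw [ξ'.2.2] at h6
      have hfx : f x = ξ := by
        by_contra hne
        have := (hδY _ _ h6 (fun e => hne e.symm)).1
        have := hidx ξ'
        omega
      haveI hkX := OrdFlatH8.krullDimLE_one_locQuot δX hδX x ξ'.1 h5.1 (by omega)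
      rw [hdiv', ordAt_pull_eq_zero f x ξ'.1 h5.1 ξ ξ'.2.2 hfx g hg, mul_zero]
    · have hdiv' : Cyc.divFun δX ξ'.1
          (f.residueFieldMap ξ'.1 ((Y.residueFieldCongr ξ'.2.2.symm).hom g)) x = 0 := dif_neg h5
      rw [hdiv', mul_zero]

end Shift

section Open

variable {V X : Scheme.{u}}

theorem fibMax_of_injective (j : V ⟶ X) (hj : Function.Injective j) (z : V) : FibMax j z :=
  fun _ hy _ => hj hy

theorem pmult_of_surjective (j : V ⟶ X) (z : V) (hs : Function.Surjective (j.stalkMap z).hom) :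
    pmult j z = 1 := by
  unfold pmult
  rw [IsLocalRing.map_maximalIdeal_of_surjective _ hs]
  exact CycLenH8.length_residueField (V.presheaf.stalk z)

/-- the dimension function restricted along an open immersion -/
theorem isDimFun_comp (j : V ⟶ X) [IsOpenImmersion j] (δ : X → ℤ) (hδ : Cyc.IsDimFun X δ) :
    Cyc.IsDimFun V (fun v => δ (j v)) := by
  intro x y hxy hne
  have hsp : j x ⤳ j y := hxy.map j.continuous
  have hne' : j x ≠ j y := fun e => hne (j.isOpenEmbedding.injective e)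
  refine ⟨(hδ _ _ hsp hne').1, ?_⟩
  intro himm
  apply (hδ _ _ hsp hne').2
  intro z hxz hzy
  have hz : z ∈ Set.range j := by
    have hy : j y ∈ Set.range j := ⟨y, rfl⟩
    exact hzy.mem_open j.isOpenEmbedding.isOpen_range hy
  obtain ⟨z', rfl⟩ := hz
  have h1 : x ⤳ z' := j.isOpenEmbedding.isInducing.specializes_iff.mp hxz
  have h2 : z' ⤳ y := j.isOpenEmbedding.isInducing.specializes_iff.mp hzy
  rcases himm z' h1 h2 with h | h
  · left; rw [h]
  · right; rw [h]


/-- the principal divisor of a function restricted to an open subscheme -/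
theorem divFun_open (j : V ⟶ X) [IsOpenImmersion j] [IsLocallyNoetherian X] (δ : X → ℤ)
    (hδ : Cyc.IsDimFun X δ) (ξ : V) (g : V.residueField ξ) (hg : g ≠ 0) (u : V) :
    Cyc.divFun δ (j ξ) (inv (j.residueFieldMap ξ) g) (j u) =
      Cyc.divFun (fun v => δ (j v)) ξ g u := by
  haveI : IsLocallyNoetherian V := isLocallyNoetherian_of_isOpenImmersion j
  have hinj : Function.Injective j := j.isOpenEmbedding.injective
  have hg' : inv (j.residueFieldMap ξ) g ≠ 0 := by
    rw [map_ne_zero]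
    exact hg
  have key := pull_div_shift' (fun v => δ (j v)) δ (isDimFun_comp j δ hδ) hδ j 0
    (fun z => iff_of_true (add_zero _).symm (fibMax_of_injective j hinj z))
    (fun z => le_of_eq (add_zero _).symm) (j ξ) (inv (j.residueFieldMap ξ) g) hg' u
  rw [pullFun_eq, if_pos (add_zero _).symm,
    pmult_of_surjective j u ((ConcreteCategory.bijective_of_isIso (j.stalkMap u)).2)] at key
  letI : Unique {ξ' : V // FibMax j ξ' ∧ j ξ' = j ξ} :=
    ⟨⟨⟨ξ, fibMax_of_injective j hinj ξ, rfl⟩⟩, fun ξ' => Subtype.ext (hinj ξ'.2.2)⟩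
  rw [finsum_unique] at key
  have h1 : ((1 : ℕ∞).toNat : ℤ) = 1 := by simp
  rw [h1, mul_one] at key
  rw [key]
  show ((pmult j ξ).toNat : ℤ) * Cyc.divFun (fun v => δ (j v)) ξ
    (j.residueFieldMap ξ (inv (j.residueFieldMap ξ) g)) u = _
  rw [pmult_of_surjective j ξ ((ConcreteCategory.bijective_of_isIso (j.stalkMap ξ)).2), h1,
    one_mul]
  congr 1
  have h2 := IsIso.inv_hom_id (j.residueFieldMap ξ)
  exact DFunLike.congr_fun (CommRingCat.hom_ext_iff.mp h2) g


/-- a family of points of an open subscheme of a locally Noetherian scheme which is locally finite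
in the open is locally finite in the scheme -/
theorem locallyFinite_open [IsLocallyNoetherian X] (U : X.Opens) {ι : Type*} (ξ : ι → ↥U)
    (hlf : ∀ u : ↥U, ∃ W : Set ↥U, IsOpen W ∧ u ∈ W ∧
      {i | (closure {ξ i} ∩ W).Nonempty}.Finite) (x : X) :
    ∃ W : Set X, IsOpen W ∧ x ∈ W ∧
      {i | (closure {(U.ι (ξ i) : X)} ∩ W).Nonempty}.Finite := by
  obtain ⟨V, hV0, hxV, -⟩ := (Opens.isBasis_iff_nbhd.mp X.isBasis_affineOpens)
    (show x ∈ (⊤ : X.Opens) from trivial)
  have hV : IsAffineOpen V := hV0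
  haveI : IsNoetherianRing Γ(X, V) := IsLocallyNoetherian.component_noetherian ⟨V, hV⟩
  haveI : NoetherianSpace V := noetherianSpace_of_isAffineOpen V hV
  refine ⟨V, V.2, hxV, ?_⟩
  have hLF : LocallyFinite (fun i => closure ({ξ i} : Set ↥U)) := by
    intro u
    obtain ⟨W, hWo, huW, hfin⟩ := hlf u
    exact ⟨W, hWo.mem_nhds huW, hfin⟩
  have hcomp : IsCompact {u : ↥U | (u : X) ∈ V} := by
    rw [Topology.IsInducing.subtypeVal.isCompact_iff]
    have h1 : IsCompact ({v : V | (v : X) ∈ U} : Set V) := NoetherianSpace.isCompact _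
    have h2 := h1.image continuous_subtype_val
    have hset : (Subtype.val '' {u : ↥U | (u : X) ∈ V} : Set X) =
        Subtype.val '' ({v : V | (v : X) ∈ U} : Set V) := by
      apply Set.eq_of_subset_of_subset
      · rintro _ ⟨u, hu, rfl⟩
        exact ⟨⟨u.1, hu⟩, u.2, rfl⟩
      · rintro _ ⟨v, hv, rfl⟩
        exact ⟨⟨v.1, hv⟩, v.2, rfl⟩
    convert h2 using 1
    · rfl
    · exact hset
  have hfin := hLF.finite_nonempty_inter_compact hcomp
  refine hfin.subset ?_
  rintro i ⟨y, hy1, hy2⟩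
  have hsp : (U.ι (ξ i) : X) ⤳ y := specializes_iff_mem_closure.mpr hy1
  have hV' : (U.ι (ξ i) : X) ∈ V := hsp.mem_open V.2 hy2
  exact ⟨ξ i, subset_closure rfl, hV'⟩

end Open

section DivFinite

variable {X : Scheme.{u}}

theorem specMap_germ (V : X.Opens) (x η : X) (h : η ⤳ x) (hxV : x ∈ V) (hηV : η ∈ V)
    (c : Γ(X, V)) :
    Cyc.specMap x η h (X.presheaf.germ V x hxV c) = X.residue η (X.presheaf.germ V η hηV c) := by
  have h1 : X.presheaf.stalkSpecializes h (X.presheaf.germ V x hxV c) =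
      X.presheaf.germ V η hηV c := by
    rw [← ConcreteCategory.comp_apply, X.presheaf.germ_stalkSpecializes]
  change X.residue η (X.presheaf.stalkSpecializes h (X.presheaf.germ V x hxV c)) = _
  rw [h1]

theorem isUnit_germ_iff {V : X.Opens} (hV : IsAffineOpen V) (x : X) (hxV : x ∈ V) (c : Γ(X, V)) :
    IsUnit (X.presheaf.germ V x hxV c) ↔ c ∉ (hV.primeIdealOf ⟨x, hxV⟩).asIdeal := by
  letI : Algebra Γ(X, V) (X.presheaf.stalk x) :=
    TopCat.Presheaf.algebra_section_stalk X.presheaf (⟨x, hxV⟩ : V)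
  haveI : IsLocalization.AtPrime (X.presheaf.stalk x) (hV.primeIdealOf ⟨x, hxV⟩).asIdeal :=
    hV.isLocalization_stalk ⟨x, hxV⟩
  exact IsLocalization.AtPrime.isUnit_to_map_iff (X.presheaf.stalk x)
    (hV.primeIdealOf ⟨x, hxV⟩).asIdeal c

theorem primeIdealOf_le_iff {V : X.Opens} (hV : IsAffineOpen V) (x η : X) (hxV : x ∈ V)
    (hηV : η ∈ V) : hV.primeIdealOf ⟨η, hηV⟩ ≤ hV.primeIdealOf ⟨x, hxV⟩ ↔ η ⤳ x := by
  have h1 : hV.fromSpec (hV.primeIdealOf ⟨η, hηV⟩) = η := hV.fromSpec_primeIdealOf ⟨η, hηV⟩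
  have h2 : hV.fromSpec (hV.primeIdealOf ⟨x, hxV⟩) = x := hV.fromSpec_primeIdealOf ⟨x, hxV⟩
  rw [PrimeSpectrum.le_iff_specializes]
  have h3 := hV.fromSpec.isOpenEmbedding.isInducing.specializes_iff
    (x := hV.primeIdealOf ⟨η, hηV⟩) (y := hV.primeIdealOf ⟨x, hxV⟩)
  rw [h1, h2] at h3
  exact h3.symm


theorem fromSpec_specializes_iff' {V : X.Opens} (hV : IsAffineOpen V)
    (P Q : PrimeSpectrum Γ(X, V)) : (hV.fromSpec P : X) ⤳ hV.fromSpec Q ↔ P ≤ Q := by
  rw [PrimeSpectrum.le_iff_specializes]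
  exact hV.fromSpec.isOpenEmbedding.isInducing.specializes_iff

theorem finite_primes_minimal {R : Type*} [CommRing R] [IsNoetherianRing R] (I : Ideal R) :
    {q : PrimeSpectrum R | q.asIdeal ∈ I.minimalPrimes}.Finite := by
  have hfin : (I.minimalPrimes).Finite := Ideal.finite_minimalPrimes_of_isNoetherianRing R I
  refine Set.Finite.of_injOn (f := fun q : PrimeSpectrum R => q.asIdeal) (t := I.minimalPrimes)
    ?_ ?_ hfin
  · intro q hq
    exact hq
  · intro q _ q' _ h
    exact PrimeSpectrum.ext h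

set_option maxHeartbeats 1000000 in
/-- a principal divisor has finite support on an affine open -/
theorem finite_divFun_support_inter [IsLocallyNoetherian X] (δ : X → ℤ) (hδ : Cyc.IsDimFun X δ)
    (V : X.Opens) (hV : IsAffineOpen V) (η : X) (g : X.residueField η) (hg : g ≠ 0) :
    {x : X | x ∈ V ∧ Cyc.divFun δ η g x ≠ 0}.Finite := by
  classical
  haveI : IsNoetherianRing Γ(X, V) := IsLocallyNoetherian.component_noetherian ⟨V, hV⟩
  by_cases hηV : η ∈ V
  swap
  · convert Set.finite_empty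
    ext x
    simp only [Set.mem_ofPred_eq, Set.mem_empty_iff_false, iff_false, not_and, not_not]
    intro hxV
    by_contra hne
    exact hηV ((divFun_ne_zero_specializes δ η x g hne).mem_open V.2 hxV)
  -- write `g` as a fraction of sections
  letI algη : Algebra Γ(X, V) (X.presheaf.stalk η) :=
    TopCat.Presheaf.algebra_section_stalk X.presheaf (⟨η, hηV⟩ : V)
  haveI locη : IsLocalization.AtPrime (X.presheaf.stalk η) (hV.primeIdealOf ⟨η, hηV⟩).asIdeal :=
    hV.isLocalization_stalk ⟨η, hηV⟩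
  set p := hV.primeIdealOf ⟨η, hηV⟩ with hp
  obtain ⟨z, hz⟩ := IsLocalRing.residue_surjective (R := X.presheaf.stalk η) g
  have hz' : X.residue η z = g := hz
  obtain ⟨⟨r, s⟩, hrs⟩ := IsLocalization.surj p.asIdeal.primeCompl z
  have halg : ∀ c : Γ(X, V), algebraMap Γ(X, V) (X.presheaf.stalk η) c =
      X.presheaf.germ V η hηV c := fun c => rfl
  rw [halg, halg] at hrs
  have hs : s.1 ∉ p.asIdeal := s.2
  have hsu : IsUnit (X.presheaf.germ V η hηV s.1) := (isUnit_germ_iff hV η hηV s.1).mpr hs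
  have hs0 : X.residue η (X.presheaf.germ V η hηV s.1) ≠ 0 :=
    (hsu.map (X.residue η).hom).ne_zero
  have hgrs : g * X.residue η (X.presheaf.germ V η hηV s.1) =
      X.residue η (X.presheaf.germ V η hηV r) := by
    rw [← hz', ← map_mul, hrs]
  have hr0 : X.residue η (X.presheaf.germ V η hηV r) ≠ 0 := by
    rw [← hgrs]
    exact mul_ne_zero hg hs0
  have hr : r ∉ p.asIdeal := by
    intro hrp
    apply hr0
    have : ¬ IsUnit (X.presheaf.germ V η hηV r) := fun hu =>
      ((isUnit_germ_iff hV η hηV r).mp hu) hrp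
    exact (IsLocalRing.residue_eq_zero_iff _).mpr ((IsLocalRing.mem_maximalIdeal _).mpr this)
  have hgdiv : g = X.residue η (X.presheaf.germ V η hηV r) /
      X.residue η (X.presheaf.germ V η hηV s.1) := by
    rw [eq_div_iff hs0, hgrs]
  -- the finite set
  set T : Set (PrimeSpectrum Γ(X, V)) :=
    {q | q.asIdeal ∈ (p.asIdeal ⊔ Ideal.span {r}).minimalPrimes} ∪
      {q | q.asIdeal ∈ (p.asIdeal ⊔ Ideal.span {s.1}).minimalPrimes} with hT
  have hTfin : T.Finite := (finite_primes_minimal _).union (finite_primes_minimal _)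
  refine (hTfin.image (fun q => (hV.fromSpec q : X))).subset ?_
  rintro x ⟨hxV, hne⟩
  have hsp : η ⤳ x := divFun_ne_zero_specializes δ η x _ hne
  have hcond : η ⤳ x ∧ δ x + 1 = δ η := by
    by_contra hc
    exact hne (divFun_neg δ η x _ hc)
  rw [divFun_pos δ η x _ hcond] at hne
  haveI hkX := OrdFlatH8.krullDimLE_one_locQuot δ hδ x η hsp (by omega)
  have ha : X.presheaf.germ V x hxV r ∉ RingHom.ker (Cyc.specMap x η hsp) := by
    rw [RingHom.mem_ker, specMap_germ V x η hsp hxV hηV r]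
    exact hr0
  have hb : X.presheaf.germ V x hxV s.1 ∉ RingHom.ker (Cyc.specMap x η hsp) := by
    rw [RingHom.mem_ker, specMap_germ V x η hsp hxV hηV s.1]
    exact hs0
  rw [hgdiv, ← specMap_germ V x η hsp hxV hηV r, ← specMap_germ V x η hsp hxV hηV s.1,
    ordAt_div x η hsp _ _ ha hb] at hne
  set q := hV.primeIdealOf ⟨x, hxV⟩ with hq
  have hqx : hV.fromSpec q = x := hV.fromSpec_primeIdealOf ⟨x, hxV⟩
  have hpq : p ≤ q := (primeIdealOf_le_iff hV x η hxV hηV).mpr hsp
  -- one of the two lengths is nonzero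
  have hmem : ∀ c : Γ(X, V), c ∉ p.asIdeal →
      Module.length (X.presheaf.stalk x) (X.presheaf.stalk x ⧸
        (RingHom.ker (Cyc.specMap x η hsp) ⊔ Ideal.span {X.presheaf.germ V x hxV c})) ≠ 0 →
      q.asIdeal ∈ (p.asIdeal ⊔ Ideal.span {c}).minimalPrimes := by
    intro c hcp hlen
    have hcq : c ∈ q.asIdeal := by
      by_contra hcq
      apply hlen
      have hu : IsUnit (X.presheaf.germ V x hxV c) := (isUnit_germ_iff hV x hxV c).mpr hcq
      rw [Ideal.span_singleton_eq_top.mpr hu, sup_top_eq, Module.length_eq_zero_iff]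
      infer_instance
    refine ⟨⟨q.isPrime, sup_le hpq ?_⟩, ?_⟩
    · rw [Ideal.span_le, Set.singleton_subset_iff]
      exact hcq
    · rintro Q ⟨hQp, hQ⟩ hQq
      set zQ : X := hV.fromSpec ⟨Q, hQp⟩ with hzQ
      have hzV : zQ ∈ V := Groth.Agent.SchFTH8.fromSpec_mem hV ⟨Q, hQp⟩
      have h1 : η ⤳ zQ := by
        have := (fromSpec_specializes_iff' hV p ⟨Q, hQp⟩).mpr (le_sup_left.trans hQ)
        rw [hV.fromSpec_primeIdealOf ⟨η, hηV⟩] at this
        exact this
      have h2 : zQ ⤳ x := by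
        have := (fromSpec_specializes_iff' hV ⟨Q, hQp⟩ q).mpr hQq
        rw [hqx] at this
        exact this
      have hne1 : η ≠ zQ := by
        intro e
        have h3 : hV.fromSpec p = hV.fromSpec ⟨Q, hQp⟩ := by
          rw [hV.fromSpec_primeIdealOf ⟨η, hηV⟩]
          exact e
        have h4 := hV.fromSpec.isOpenEmbedding.injective h3
        apply hcp
        rw [h4]
        exact hQ (Ideal.mem_sup_right (Ideal.subset_span rfl))
      have hd1 := (hδ _ _ h1 hne1).1
      have hzx : zQ = x := by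
        by_contra hne2
        have hd2 := (hδ _ _ h2 hne2).1
        omega
      have h5 : (⟨Q, hQp⟩ : PrimeSpectrum Γ(X, V)) = q := by
        apply hV.fromSpec.isOpenEmbedding.injective
        rw [hqx]
        exact hzx
      rw [← h5]
  by_cases hlr : Module.length (X.presheaf.stalk x) (X.presheaf.stalk x ⧸
      (RingHom.ker (Cyc.specMap x η hsp) ⊔ Ideal.span {X.presheaf.germ V x hxV r})) = 0
  · by_cases hls : Module.length (X.presheaf.stalk x) (X.presheaf.stalk x ⧸
        (RingHom.ker (Cyc.specMap x η hsp) ⊔ Ideal.span {X.presheaf.germ V x hxV s.1})) = 0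
    · exfalso
      apply hne
      rw [hlr, hls]
      rfl
    · exact ⟨q, Or.inr (hmem s.1 hs hls), hqx⟩
  · exact ⟨q, Or.inl (hmem r hr hlr), hqx⟩

end DivFinite

section Excision

variable {X : Scheme.{u}}

theorem exists_ne_zero_of_finsum_ne_zero' {ι : Type*} (F : ι → ℤ) (h : ∑ᶠ i, F i ≠ 0) :
    ∃ i, F i ≠ 0 := by
  by_contra hne
  push Not at hne
  exact h (finsum_eq_zero_of_forall_eq_zero hne)

set_option maxHeartbeats 1000000 in
/-- **Excision for rational equivalence.** -/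
theorem excision (δ : X → ℤ) (hX : Cyc.IsSetup X δ) (U : X.Opens) (k : ℤ)
    (α β : AlgebraicCycle X ℤ) (hα : α ∈ Cyc.Zk X δ k) (hβ : β ∈ Cyc.Zk X δ k)
    (αU βU : AlgebraicCycle (↑U : Scheme.{u}) ℤ) (hαU : ∀ u : ↥U, αU u = α (U.ι u))
    (hβU : ∀ u : ↥U, βU u = β (U.ι u))
    (h : Cyc.RatEquiv (fun u : ↥U => δ (U.ι u)) k αU βU) :
    ∃ γ : AlgebraicCycle X ℤ, γ ∈ Cyc.Zk X δ k ∧ (∀ x : X, x ∈ U → γ x = 0) ∧
      Cyc.RatEquiv δ k α (β + γ) := by
  classical
  haveI hXn : IsLocallyNoetherian X := hX.1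
  have hδ : Cyc.IsDimFun X δ := hX.2.2
  obtain ⟨ι, ξ, g, hdim, hg0, hlf, hsum⟩ := h
  -- the family on `X`
  set ξ' : ι → X := fun i => U.ι (ξ i) with hξ'
  set g' : (i : ι) → X.residueField (ξ' i) := fun i => inv (U.ι.residueFieldMap (ξ i)) (g i)
    with hg'
  have hg'0 : ∀ i, g' i ≠ 0 := by
    intro i
    show inv (U.ι.residueFieldMap (ξ i)) (g i) ≠ 0
    rw [map_ne_zero]
    exact hg0 i
  have hdim' : ∀ i, δ (ξ' i) = k + 1 := hdim
  have hlf' := locallyFinite_open U ξ hlf
  have hres : ∀ (i : ι) (u : ↥U), Cyc.divFun δ (ξ' i) (g' i) (U.ι u) =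
      Cyc.divFun (fun v : ↥U => δ (U.ι v)) (ξ i) (g i) u :=
    fun i u => divFun_open U.ι δ hδ (ξ i) (g i) (hg0 i) u
  -- the sum of the divisors
  set D : X → ℤ := fun x => ∑ᶠ i, Cyc.divFun δ (ξ' i) (g' i) x with hD
  have hDlf : ∀ z ∈ (Set.univ : Set X), ∃ t ∈ nhds z, Set.Finite (t ∩ Function.support D) := by
    intro x _
    obtain ⟨W, hWo, hxW, hWfin⟩ := hlf' x
    obtain ⟨V, hV0, hxV, hVW⟩ := (Opens.isBasis_iff_nbhd.mp X.isBasis_affineOpens)
      (show x ∈ (⟨W, hWo⟩ : X.Opens) from hxW)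
    have hV : IsAffineOpen V := hV0
    refine ⟨V, V.2.mem_nhds hxV, ?_⟩
    have hfin : (⋃ i ∈ {i | (closure {ξ' i} ∩ W).Nonempty},
        {x' : X | x' ∈ V ∧ Cyc.divFun δ (ξ' i) (g' i) x' ≠ 0}).Finite :=
      hWfin.biUnion (fun i _ => finite_divFun_support_inter δ hδ V hV (ξ' i) (g' i) (hg'0 i))
    refine hfin.subset ?_
    rintro x' ⟨hx'V, hx'D⟩
    rw [Function.mem_support] at hx'D
    obtain ⟨i, hi⟩ := exists_ne_zero_of_finsum_ne_zero' _ hx'D
    have hsp : ξ' i ⤳ x' := divFun_ne_zero_specializes δ _ x' _ hi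
    simp only [Set.mem_iUnion]
    exact ⟨i, ⟨x', specializes_iff_mem_closure.mp hsp, hVW hx'V⟩, hx'V, hi⟩
  let D' : AlgebraicCycle X ℤ :=
    { toFun := D
      supportWithinDomain' := Set.subset_univ _
      supportLocallyFiniteWithinDomain' := hDlf }
  have hD' : ∀ x, D' x = D x := fun x => rfl
  have hDk : ∀ x : X, δ x ≠ k → D x = 0 := by
    intro x hx
    apply finsum_eq_zero_of_forall_eq_zero
    intro i
    apply divFun_neg
    rintro ⟨-, h2⟩
    rw [hdim' i] at h2
    omega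
  refine ⟨α - β - D', ?_, ?_, ?_⟩
  · intro x hx
    have h1 : (α - β - D') x = α x - β x - D' x := by
      rw [Function.locallyFinsuppWithin.coe_sub, Function.locallyFinsuppWithin.coe_sub]
      rfl
    rw [h1, hα x hx, hβ x hx, hD', hDk x hx]
    ring
  · intro x hxU
    have h1 : (α - β - D') x = α x - β x - D' x := by
      rw [Function.locallyFinsuppWithin.coe_sub, Function.locallyFinsuppWithin.coe_sub]
      rfl
    have h2 : (αU - βU) (⟨x, hxU⟩ : ↥U) = αU ⟨x, hxU⟩ - βU ⟨x, hxU⟩ := by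
      rw [Function.locallyFinsuppWithin.coe_sub]
      rfl
    have h3 := hsum ⟨x, hxU⟩
    rw [h2, hαU, hβU] at h3
    have h4 : (U.ι (⟨x, hxU⟩ : ↥U) : X) = x := rfl
    rw [h4] at h3
    rw [h1, h3, hD']
    have h5 : D x = ∑ᶠ i, Cyc.divFun (fun v : ↥U => δ (U.ι v)) (ξ i) (g i) ⟨x, hxU⟩ := by
      apply finsum_congr
      intro i
      exact hres i ⟨x, hxU⟩
    rw [h5]
    ring
  · refine ⟨ι, ξ', g', hdim', hg'0, hlf', ?_⟩
    intro x
    have h1 : (α - (β + (α - β - D'))) x = α x - (β x + (α x - β x - D' x)) := by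
      rw [Function.locallyFinsuppWithin.coe_sub, Function.locallyFinsuppWithin.coe_add,
        Function.locallyFinsuppWithin.coe_sub, Function.locallyFinsuppWithin.coe_sub]
      rfl
    rw [h1, hD']
    ring

end Excision

end Groth.Agent.Lib.CycExH5
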