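import Mathlib
import Groth.Prelude
import Groth.Agent.Lib.CycEx1_helper5
import Groth.Agent.Lib.SecOrd2_helper8
import Groth.Agent.Lib.PB10_helper8
import Groth.Agent.Lib.Tens18_helper8

/-!
# Flat pullback commutes with capping with `c_1` (helper5)

* `cStalkHom_stalkSpecializes`, `isFreeGen_cStalkHom`: the canonical stalk maps `L_{f x} → (f^*L)_x`
  commute with specialization and send free generators to free generators;
* `pullSec`, `pullSec_ne_zero`, `secOrdAt_pullSec`: the pulled back rational sections;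
* `pull_secDiv`: flat pullback of the divisor of a rational section;
* `pull_c1Cap`: `f^*(c_1(L) ∩ α) = c_1(f^*L) ∩ f^*α` for the pulled back sections;
* `pullFun_locallyFinite`, `ratEquiv_pull_c1Cap`.

APPEND-ONLY once landed.
-/

set_option autoImplicit false

namespace Groth.Agent.Lib.CycC1PH5

open AlgebraicGeometry CategoryTheory TopologicalSpace
open Groth.Agent.Lib.CycFBCH5 Groth.Agent.Lib.CycFDH5 SecOrdH8 PBH8

universe u

variable {X Y : Scheme.{u}} (f : X ⟶ Y)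

/-- The canonical stalk maps `F_{f x} → (f^*F)_x` commute with specialization. -/
theorem cStalkHom_stalkSpecializes (F : Y.Modules) {x ξ' : X} (h' : ξ' ⤳ x) (h : f ξ' ⤳ f x)
    (m : F.presheaf.stalk (f x)) :
    ((Scheme.Modules.pullback f).obj F).presheaf.stalkSpecializes h' (cStalkHom f F x m) =
      cStalkHom f F ξ' (F.presheaf.stalkSpecializes h m) := by
  obtain ⟨V, hxV, m₀, rfl⟩ := TopCat.Presheaf.exists_germ_eq F.presheaf m
  rw [cStalkHom_germ, stalkSpecializes_germ, stalkSpecializes_germ, cStalkHom_germ]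

/-- The canonical stalk map sends free generators to free generators. -/
theorem isFreeGen_cStalkHom {L : Y.Modules} (hL : PicF.IsInvertible L) (x : X)
    {t : L.presheaf.stalk (f x)} (ht : IsFreeGen L (f x) t) :
    IsFreeGen ((Scheme.Modules.pullback f).obj L) x (cStalkHom f L x t) := by
  obtain ⟨V, hV, hxV, e, he⟩ := GenLocH8.exists_isGen hL (f x)
  have h1 : IsFreeGen L (f x) (L.presheaf.germ V (f x) hxV e) := stalk_gen he hxV
  obtain ⟨u, hu, rfl⟩ := h1.exists_unit ht.span_eq_top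
  rw [cStalkHom_smul]
  have hx' : x ∈ f ⁻¹ᵁ V := hxV
  have h2 := cStalkHom_germ_cUV f L (le_refl (f ⁻¹ᵁ V)) hx' e
  rw [h2]
  exact IsFreeGen.smul_unit (stalk_gen (TensH8.isGen_cUV f hL hV he) hx')
    (hu.map (f.stalkMap x).hom)

/-- A representative in the stalk of a class in the fibre. -/
noncomputable def rep (L : Y.Modules) (η : Y) (s : Cyc.secFibre L η) : L.presheaf.stalk η :=
  Classical.choose (Submodule.Quotient.mk_surjective _ s)

theorem fmk_rep (L : Y.Modules) (η : Y) (s : Cyc.secFibre L η) : fmk L η (rep L η s) = s :=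
  Classical.choose_spec (Submodule.Quotient.mk_surjective _ s)

/-- The pulled back rational sections: at `ξ'` the image of (a representative of) `v (f ξ')` under
`L_{f ξ'} → (f^*L)_{ξ'} → (f^*L)(ξ')`. -/
noncomputable def pullSec (L : Y.Modules) (v : (η : Y) → Cyc.secFibre L η) (ξ' : X) :
    Cyc.secFibre ((Scheme.Modules.pullback f).obj L) ξ' :=
  fmk ((Scheme.Modules.pullback f).obj L) ξ' (cStalkHom f L ξ' (rep L (f ξ') (v (f ξ'))))

theorem pullSec_ne_zero {L : Y.Modules} (hL : PicF.IsInvertible L) (v : (η : Y) → Cyc.secFibre L η)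
    (hv : ∀ η, v η ≠ 0) (ξ' : X) : pullSec f L v ξ' ≠ 0 := by
  obtain ⟨t, ht⟩ := exists_isFreeGen hL (f ξ')
  obtain ⟨ψ, hψ⟩ := ht.1 (rep L (f ξ') (v (f ξ')))
  have h1 : v (f ξ') = ψ • fmk L (f ξ') t := by
    rw [← fmk_rep L (f ξ') (v (f ξ')), hψ]
    rfl
  have hψu : IsUnit ψ := by
    by_contra hnu
    apply hv (f ξ')
    rw [h1, ht.fibre_smul_eq_zero_iff]
    exact (IsLocalRing.mem_maximalIdeal _).mpr hnu
  have h3 : pullSec f L v ξ' = (f.stalkMap ξ').hom ψ •
      fmk ((Scheme.Modules.pullback f).obj L) ξ' (cStalkHom f L ξ' t) := by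
    unfold pullSec
    rw [hψ, cStalkHom_smul]
    rfl
  rw [h3, Ne, (isFreeGen_cStalkHom f hL ξ' ht).fibre_smul_eq_zero_iff]
  have hu' : IsUnit ((f.stalkMap ξ').hom ψ) := hψu.map (f.stalkMap ξ').hom
  exact fun hmem => ((IsLocalRing.mem_maximalIdeal _).mp hmem) hu'

/-- The order of the pulled back rational section along `ξ' ⤳ x` in terms of the coefficient of
`v η`, `η = f ξ'`, on a free generator of `L_{f x}`. -/
theorem secOrdAt_pullSec {L : Y.Modules} (hL : PicF.IsInvertible L)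
    (v : (η : Y) → Cyc.secFibre L η) {ξ' x : X} (h' : ξ' ⤳ x) (η : Y) (e : f ξ' = η)
    (h : η ⤳ f x) {t : L.presheaf.stalk (f x)} (ht : IsFreeGen L (f x) t)
    (φ : Y.presheaf.stalk η) (hφ : v η = φ • fmk L η (L.presheaf.stalkSpecializes h t)) :
    Cyc.secOrdAt ((Scheme.Modules.pullback f).obj L) ξ' x h' (pullSec f L v ξ') =
      Cyc.ordAt x ξ' h'
        (f.residueFieldMap ξ' ((Y.residueFieldCongr e.symm).hom (Y.residue η φ))) := by
  subst e
  have hfree : IsFreeGen L (f ξ') (L.presheaf.stalkSpecializes h t) := ht.stalkSpecializes hL h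
  obtain ⟨ψ, hψ⟩ := hfree.1 (rep L (f ξ') (v (f ξ')))
  have h1 : v (f ξ') = ψ • fmk L (f ξ') (L.presheaf.stalkSpecializes h t) := by
    rw [← fmk_rep L (f ξ') (v (f ξ')), hψ]
    rfl
  have h2 : Y.residue (f ξ') φ = Y.residue (f ξ') ψ :=
    (hfree.fibre_smul_eq_iff _ _).mp (hφ.symm.trans h1)
  have h3 : pullSec f L v ξ' = (f.stalkMap ξ').hom ψ •
      fmk ((Scheme.Modules.pullback f).obj L) ξ'
        (((Scheme.Modules.pullback f).obj L).presheaf.stalkSpecializes h' (cStalkHom f L x t)) := by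
    unfold pullSec
    rw [hψ, cStalkHom_smul, cStalkHom_stalkSpecializes f L h' h t]
    rfl
  rw [secOrdAt_eq (TensH8.isInvertible_pullback f hL) h' _ (isFreeGen_cStalkHom f hL x ht) _ h3]
  congr 1
  rw [h2]
  have h4 := Scheme.residue_residueFieldMap f ξ'
  have h5 := congrArg (fun g => g.hom ψ) h4
  exact h5.symm

theorem secDivFun_pos {Z : Scheme.{u}} (δ : Z → ℤ) (L : Z.Modules) (ξ x : Z)
    (s : Cyc.secFibre L ξ) (h : ξ ⤳ x ∧ δ x + 1 = δ ξ) :
    Cyc.secDivFun δ L ξ s x = Cyc.secOrdAt L ξ x h.1 s := dif_pos h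

theorem secDivFun_neg {Z : Scheme.{u}} (δ : Z → ℤ) (L : Z.Modules) (ξ x : Z)
    (s : Cyc.secFibre L ξ) (h : ¬ (ξ ⤳ x ∧ δ x + 1 = δ ξ)) :
    Cyc.secDivFun δ L ξ s x = 0 := dif_neg h

open Classical in
/-- **Flat pullback of the divisor of a rational section**: `f^* div_{L|W}(v η)` is the sum over
the points `ξ'` maximal in the fibre over `η` of `pmult ξ' · div_{f^*L|W'}(pulled back section)`. -/
theorem pull_secDiv [IsLocallyNoetherian X] [IsLocallyNoetherian Y] (δX : X → ℤ) (δY : Y → ℤ)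
    (hδX : Cyc.IsDimFun X δX) (hδY : Cyc.IsDimFun Y δY) [Flat f] (r : ℤ)
    (hFM : ∀ z : X, δX z = δY (f z) + r ↔ FibMax f z)
    (hle : ∀ z : X, δX z ≤ δY (f z) + r)
    {L : Y.Modules} (hL : PicF.IsInvertible L) (v : (η : Y) → Cyc.secFibre L η)
    (hv : ∀ η, v η ≠ 0) (η : Y) (x : X) :
    Cyc.pullFun f δX δY r (Cyc.secDivFun δY L η (v η)) x =
      ∑ᶠ ξ' : {ξ' : X // FibMax f ξ' ∧ f ξ' = η},
        ((pmult f ξ'.1).toNat : ℤ) *
          Cyc.secDivFun δX ((Scheme.Modules.pullback f).obj L) ξ'.1 (pullSec f L v ξ'.1) x := by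
  obtain ⟨t, ht⟩ := exists_isFreeGen hL (f x)
  by_cases hsp : η ⤳ f x
  · have hfree : IsFreeGen L η (L.presheaf.stalkSpecializes hsp t) := ht.stalkSpecializes hL hsp
    obtain ⟨φ, hφ⟩ := hfree.fibre_surj (v η)
    have hg : Y.residue η φ ≠ 0 := by
      intro h0
      apply hv η
      rw [hφ, hfree.fibre_smul_eq_zero_iff]
      exact (IsLocalRing.residue_eq_zero_iff _).mp h0
    have h1 : Cyc.pullFun f δX δY r (Cyc.secDivFun δY L η (v η)) x =
        Cyc.pullFun f δX δY r (Cyc.divFun δY η (Y.residue η φ)) x := by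
      rw [pullFun_eq, pullFun_eq]
      have h2 : Cyc.secDivFun δY L η (v η) (f x) = Cyc.divFun δY η (Y.residue η φ) (f x) := by
        by_cases hc : η ⤳ f x ∧ δY (f x) + 1 = δY η
        · rw [secDivFun_pos δY L η (f x) _ hc, divFun_pos δY η (f x) _ hc]
          exact secOrdAt_eq hL hc.1 (v η) ht φ hφ
        · rw [secDivFun_neg δY L η (f x) _ hc, divFun_neg δY η (f x) _ hc]
      rw [h2]
    rw [h1, Groth.Agent.Lib.CycExH5.pull_div_shift' δX δY hδX hδY f r hFM hle η _ hg x]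
    apply finsum_congr
    intro ξ'
    congr 1
    by_cases hc' : ξ'.1 ⤳ x ∧ δX x + 1 = δX ξ'.1
    · rw [secDivFun_pos δX _ ξ'.1 x _ hc', divFun_pos δX ξ'.1 x _ hc']
      exact (secOrdAt_pullSec f hL v hc'.1 η ξ'.2.2 hsp ht φ hφ).symm
    · rw [secDivFun_neg δX _ ξ'.1 x _ hc', divFun_neg δX ξ'.1 x _ hc']
  · have h0 : Cyc.secDivFun δY L η (v η) (f x) = 0 :=
      secDivFun_neg δY L η (f x) _ (fun hc => hsp hc.1)
    rw [pullFun_eq, h0, zero_mul, ite_self]
    symm
    apply finsum_eq_zero_of_forall_eq_zero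
    intro ξ'
    have h5 : ¬ (ξ'.1 ⤳ x ∧ δX x + 1 = δX ξ'.1) := by
      rintro ⟨h', -⟩
      apply hsp
      have h6 : f ξ'.1 ⤳ f x := h'.map f.continuous
      rw [ξ'.2.2] at h6
      exact h6
    rw [secDivFun_neg δX _ ξ'.1 x _ h5, mul_zero]

theorem pullFun_const_mul (δX : X → ℤ) (δY : Y → ℤ) (r : ℤ) (a : ℤ) (b : Y → ℤ) (x : X) :
    Cyc.pullFun f δX δY r (fun y => a * b y) x = a * Cyc.pullFun f δX δY r b x := by
  rw [pullFun_eq, pullFun_eq]
  by_cases hc : δX x = δY (f x) + r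
  · rw [if_pos hc, if_pos hc, mul_assoc]
  · rw [if_neg hc, if_neg hc, mul_zero]

open Classical in
set_option maxHeartbeats 1000000 in
/-- **Flat pullback commutes with capping with `c_1`**, on the level of coefficient functions, for
the pulled back rational sections. -/
theorem pull_c1Cap [IsLocallyNoetherian X] [IsLocallyNoetherian Y] (δX : X → ℤ) (δY : Y → ℤ)
    (hδX : Cyc.IsDimFun X δX) (hδY : Cyc.IsDimFun Y δY) [Flat f] (r : ℤ)
    (hFM : ∀ z : X, δX z = δY (f z) + r ↔ FibMax f z)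
    (hle : ∀ z : X, δX z ≤ δY (f z) + r)
    {L : Y.Modules} (hL : PicF.IsInvertible L) (v : (η : Y) → Cyc.secFibre L η)
    (hv : ∀ η, v η ≠ 0) (α : AlgebraicCycle Y ℤ) (x : X) :
    Cyc.pullFun f δX δY r (Cyc.c1CapFun δY L ⇑α v) x =
      Cyc.c1CapFun δX ((Scheme.Modules.pullback f).obj L) (Cyc.pullFun f δX δY r ⇑α)
        (pullSec f L v) x := by
  set S' : X → ℤ := fun ξ' =>
    Cyc.secDivFun δX ((Scheme.Modules.pullback f).obj L) ξ' (pullSec f L v ξ') x with hS'
  set K : Y × X → ℤ := fun q =>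
    if FibMax f q.2 ∧ f q.2 = q.1 then α q.1 * (((pmult f q.2).toNat : ℤ) * S' q.2) else 0 with hK
  -- finiteness of the support of `K`
  have hAfin : {η : Y | α η ≠ 0 ∧ η ⤳ f x}.Finite := finite_support_specializes α (f x)
  set B : Set X := ⋃ η ∈ {η : Y | α η ≠ 0 ∧ η ⤳ f x},
    {x' : X | x' ⤳ x ∧ FibMax f x' ∧ f x' = η} with hB
  have hBfin : B.Finite := hAfin.biUnion (fun η _ => finite_fibMax_specializes f x η)
  have hKfin : (Function.support K).Finite := by
    refine (hAfin.prod hBfin).subset ?_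
    intro q hq
    rw [Function.mem_support] at hq
    by_cases hP : FibMax f q.2 ∧ f q.2 = q.1
    · have hq' : α q.1 * (((pmult f q.2).toNat : ℤ) * S' q.2) ≠ 0 := by
        have : K q = α q.1 * (((pmult f q.2).toNat : ℤ) * S' q.2) := if_pos hP
        rwa [this] at hq
      have hα0 : α q.1 ≠ 0 := left_ne_zero_of_mul hq'
      have hS0 : S' q.2 ≠ 0 := right_ne_zero_of_mul (right_ne_zero_of_mul hq')
      have hsp : q.2 ⤳ x := secDivFun_ne_zero hS0
      have hsp' : q.1 ⤳ f x := by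
        rw [← hP.2]
        exact hsp.map f.continuous
      refine ⟨⟨hα0, hsp'⟩, ?_⟩
      simp only [hB, Set.mem_iUnion]
      exact ⟨q.1, ⟨hα0, hsp'⟩, hsp, hP.1, hP.2⟩
    · have : K q = 0 := if_neg hP
      exact absurd this hq
  -- the left hand side
  have hL1 : Cyc.pullFun f δX δY r (Cyc.c1CapFun δY L ⇑α v) x = ∑ᶠ q, K q := by
    have e0 : Cyc.c1CapFun δY L ⇑α v =
        fun y => ∑ᶠ η, (fun η y => α η * Cyc.secDivFun δY L η (v η) y) η y := rfl
    rw [e0, pullFun_finsum, finsum_curry K hKfin]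
    apply finsum_congr
    intro η
    show Cyc.pullFun f δX δY r (fun y => α η * Cyc.secDivFun δY L η (v η) y) x = _
    rw [pullFun_const_mul, pull_secDiv f δX δY hδX hδY r hFM hle hL v hv η x,
      finsum_subtype_dite (fun ξ' : X => FibMax f ξ' ∧ f ξ' = η), mul_finsum]
    apply finsum_congr
    intro ξ'
    by_cases hP : FibMax f ξ' ∧ f ξ' = η
    · rw [dif_pos hP]
      exact (if_pos (show FibMax f (η, ξ').2 ∧ f (η, ξ').2 = (η, ξ').1 from hP)).symm
    · rw [dif_neg hP, mul_zero]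
      exact (if_neg (show ¬ (FibMax f (η, ξ').2 ∧ f (η, ξ').2 = (η, ξ').1) from hP)).symm
  -- the right hand side
  have hR1 : Cyc.c1CapFun δX ((Scheme.Modules.pullback f).obj L) (Cyc.pullFun f δX δY r ⇑α)
      (pullSec f L v) x = ∑ᶠ q, K q := by
    have hswap : ∑ᶠ q, K q = ∑ᶠ q' : X × Y, K ((Equiv.prodComm X Y) q') :=
      (finsum_comp_equiv (Equiv.prodComm X Y) (f := K)).symm
    have hK'fin : (Function.support fun q' : X × Y => K ((Equiv.prodComm X Y) q')).Finite := by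
      refine (hKfin.preimage (Equiv.prodComm X Y).injective.injOn).subset ?_
      intro q' hq'
      exact hq'
    rw [hswap, finsum_curry _ hK'fin]
    show ∑ᶠ ξ', Cyc.pullFun f δX δY r ⇑α ξ' * S' ξ' = _
    apply finsum_congr
    intro ξ'
    have hsingle : ∑ᶠ η : Y, K ((Equiv.prodComm X Y) (ξ', η)) =
        K ((Equiv.prodComm X Y) (ξ', f ξ')) := by
      apply finsum_eq_single
      intro η hη
      refine if_neg ?_
      rintro ⟨-, h2⟩
      exact hη h2.symm
    rw [hsingle, pullFun_eq]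
    show _ = K (f ξ', ξ')
    by_cases hc : δX ξ' = δY (f ξ') + r
    · rw [if_pos hc]
      have hP : FibMax f (f ξ', ξ').2 ∧ f (f ξ', ξ').2 = (f ξ', ξ').1 := ⟨(hFM ξ').mp hc, rfl⟩
      rw [show K (f ξ', ξ') = α (f ξ') * (((pmult f ξ').toNat : ℤ) * S' ξ') from if_pos hP]
      ring
    · rw [if_neg hc, zero_mul]
      have hP : ¬ (FibMax f (f ξ', ξ').2 ∧ f (f ξ', ξ').2 = (f ξ', ξ').1) :=
        fun hP => hc ((hFM ξ').mpr hP.1)
      exact (if_neg hP).symm
  rw [hL1, hR1]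

/-- The flat pullback of a cycle has locally finite support. -/
theorem pullFun_locallyFinite [IsLocallyNoetherian X] (δX : X → ℤ) (δY : Y → ℤ) (r : ℤ)
    (hFM : ∀ z : X, δX z = δY (f z) + r ↔ FibMax f z) (α : AlgebraicCycle Y ℤ) :
    ∀ z ∈ (Set.univ : Set X), ∃ t ∈ nhds z,
      Set.Finite (t ∩ Function.support (Cyc.pullFun f δX δY r ⇑α)) := by
  intro x _
  obtain ⟨T, hT, hfin⟩ := α.supportLocallyFiniteWithinDomain (f x) trivial
  obtain ⟨U, hUT, hUo, hfxU⟩ := mem_nhds_iff.mp hT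
  obtain ⟨V, hV0, hxV, hVle⟩ := (Opens.isBasis_iff_nbhd.mp X.isBasis_affineOpens)
    (show x ∈ f ⁻¹ᵁ (⟨U, hUo⟩ : Y.Opens) from hfxU)
  have hV : IsAffineOpen V := hV0
  refine ⟨V, V.2.mem_nhds hxV, ?_⟩
  have hfin' : (⋃ η ∈ T ∩ Function.support ⇑α,
      {x' : X | x' ∈ V ∧ FibMax f x' ∧ f x' = η}).Finite :=
    hfin.biUnion (fun η _ => finite_fibMax_inter f V hV η)
  refine hfin'.subset ?_
  rintro x' ⟨hx'V, hx'⟩
  rw [Function.mem_support, pullFun_eq] at hx'
  by_cases hc : δX x' = δY (f x') + r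
  · rw [if_pos hc] at hx'
    have hα0 : α (f x') ≠ 0 := left_ne_zero_of_mul hx'
    simp only [Set.mem_iUnion]
    exact ⟨f x', ⟨hUT (hVle hx'V), hα0⟩, hx'V, (hFM x').mp hc, rfl⟩
  · rw [if_neg hc] at hx'
    exact absurd rfl hx'

/-- **`f^*(c_1(L) ∩ α) ∼_rat c_1(f^*L) ∩ f^*α`**, abstract form: `f : X → Y` flat with dimension
functions such that `δX = δY ∘ f + r` exactly at the points maximal in their fibre and
`δX ≤ δY ∘ f + r` everywhere. -/
theorem ratEquiv_pull_c1Cap (δX : X → ℤ) (δY : Y → ℤ) (hX : Cyc.IsSetup X δX)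
    (hY : Cyc.IsSetup Y δY) [Flat f] (r : ℤ)
    (hFM : ∀ z : X, δX z = δY (f z) + r ↔ FibMax f z)
    (hle : ∀ z : X, δX z ≤ δY (f z) + r)
    {L : Y.Modules} (hL : PicF.IsInvertible L) (k : ℤ) (α : AlgebraicCycle Y ℤ)
    (hα : α ∈ Cyc.Zk Y δY k) (v : (η : Y) → Cyc.secFibre L η) (hv : ∀ η, v η ≠ 0)
    (u : (ξ : X) → Cyc.secFibre ((Scheme.Modules.pullback f).obj L) ξ) (hu : ∀ ξ, u ξ ≠ 0)
    (γ₁ γ₂ : AlgebraicCycle X ℤ)
    (h₁ : ⇑γ₁ = Cyc.pullFun f δX δY r (Cyc.c1CapFun δY L ⇑α v))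
    (h₂ : ⇑γ₂ = Cyc.c1CapFun δX ((Scheme.Modules.pullback f).obj L)
      (Cyc.pullFun f δX δY r ⇑α) u) : Cyc.RatEquiv δX (k + r - 1) γ₁ γ₂ := by
  haveI : IsLocallyNoetherian X := hX.1
  haveI : IsLocallyNoetherian Y := hY.1
  let α' : AlgebraicCycle X ℤ :=
    { toFun := Cyc.pullFun f δX δY r ⇑α
      supportWithinDomain' := Set.subset_univ _
      supportLocallyFiniteWithinDomain' := pullFun_locallyFinite f δX δY r hFM α }
  have hα'coe : (⇑α' : X → ℤ) = Cyc.pullFun f δX δY r ⇑α := rfl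
  have hα' : α' ∈ Cyc.Zk X δX (k + r - 1 + 1) := by
    intro x hx
    show Cyc.pullFun f δX δY r ⇑α x = 0
    rw [pullFun_eq]
    by_cases hc : δX x = δY (f x) + r
    · rw [if_pos hc]
      have h0 : α (f x) = 0 := by
        apply hα
        intro hk
        apply hx
        rw [hc, hk]
        ring
      rw [h0, zero_mul]
    · rw [if_neg hc]
  refine ratEquiv_c1Cap δX hX (TensH8.isInvertible_pullback f hL) (k + r - 1) α' hα'
    (pullSec f L v) u (pullSec_ne_zero f hL v hv) hu γ₁ γ₂ ?_ ?_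
  · rw [h₁, hα'coe]
    funext x
    exact pull_c1Cap f δX δY hX.2.2 hY.2.2 r hFM hle hL v hv α x
  · rw [h₂, hα'coe]

end Groth.Agent.Lib.CycC1PH5
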