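import Mathlib
import Groth.Prelude
import Groth.Agent.Lib.CycC1P1_helper5

/-!
# Cycles and closed immersions (helper5)

* `length_quot_sup_span_of_surjective`, `ordAt_of_surjective`: orders along specializations on a
  closed subscheme agree with the orders on the ambient scheme;
* `isUniversallyCatenary_of_surjective`, `specializes_iff_of_isClosedImmersion`,
  `isDimFun_of_isClosedImmersion`, `isSetup_of_isClosedImmersion`;
* `residueFieldMap_surjective`, `residueDegree_eq_one`, `map_apply_closedImmersion`,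
  `map_apply_of_notMem_range`: pushforward of cycles along a closed immersion;
* `gysinChoice_ne_zero`, `secDivFun_closedImmersion`, `c1Cap_push_closedImmersion`,
  `ratEquiv_c1Cap_push`: `c_1(L) ∩ i_*α` on `D` is `c_1(i^*L) ∩ α`.

APPEND-ONLY once landed.
-/

set_option autoImplicit false

namespace Groth.Agent.Lib.CycCIH5

open AlgebraicGeometry CategoryTheory TopologicalSpace
open Groth.Agent.Lib.CycFBCH5 Groth.Agent.Lib.CycFDH5 SecOrdH8 PBH8 Groth.Agent.Lib.CycC1PH5

universe u

section Alg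

/-- lengths of quotients along a surjective ring homomorphism -/
theorem length_quot_sup_span_of_surjective {A B : Type u} [CommRing A] [CommRing B] (φ : A →+* B)
    (hφ : Function.Surjective φ) (q : Ideal B) (a : A) :
    Module.length B (B ⧸ (q ⊔ Ideal.span {φ a})) =
      Module.length A (A ⧸ (q.comap φ ⊔ Ideal.span {a})) := by
  letI : Algebra A B := φ.toAlgebra
  have hφ' : Function.Surjective (algebraMap A B) := hφ
  rw [← Module.length_eq_of_surjective (S := A) (R := B) (M := B ⧸ (q ⊔ Ideal.span {φ a})) hφ']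
  let g : A →ₗ[A] B ⧸ (q ⊔ Ideal.span {φ a}) :=
    ((Submodule.mkQ (q ⊔ Ideal.span {φ a})).restrictScalars A).comp (Algebra.linearMap A B)
  have hg : Function.Surjective g := by
    intro z
    obtain ⟨b, rfl⟩ := Submodule.Quotient.mk_surjective _ z
    obtain ⟨x, rfl⟩ := hφ b
    exact ⟨x, rfl⟩
  have hker : LinearMap.ker g = q.comap φ ⊔ Ideal.span {a} := by
    ext x
    rw [LinearMap.mem_ker]
    show Submodule.Quotient.mk (φ x) = (0 : B ⧸ (q ⊔ Ideal.span {φ a})) ↔ _
    rw [Submodule.Quotient.mk_eq_zero]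
    constructor
    · intro hx
      obtain ⟨y, hy, z, hz, hyz⟩ := Submodule.mem_sup.mp hx
      obtain ⟨b, rfl⟩ := Ideal.mem_span_singleton'.mp hz
      obtain ⟨b', rfl⟩ := hφ b
      have h1 : x - b' * a ∈ q.comap φ := by
        rw [Ideal.mem_comap, map_sub, map_mul, ← hyz]
        simpa using hy
      have h2 : x = (x - b' * a) + b' * a := by ring
      rw [h2]
      exact Submodule.add_mem_sup h1 (Ideal.mem_span_singleton'.mpr ⟨b', rfl⟩)
    · intro hx
      obtain ⟨y, hy, z, hz, rfl⟩ := Submodule.mem_sup.mp hx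
      obtain ⟨b, rfl⟩ := Ideal.mem_span_singleton'.mp hz
      rw [map_add, map_mul]
      exact Submodule.add_mem_sup (Ideal.mem_comap.mp hy)
        (Ideal.mem_span_singleton'.mpr ⟨φ b, rfl⟩)
  have e1 : (A ⧸ LinearMap.ker g) ≃ₗ[A] B ⧸ (q ⊔ Ideal.span {φ a}) :=
    LinearMap.quotKerEquivOfSurjective g hg
  have e2 : (A ⧸ LinearMap.ker g) ≃ₗ[A] (A ⧸ (q.comap φ ⊔ Ideal.span {a})) :=
    Submodule.quotEquivOfEq _ _ hker
  exact (e1.symm.trans e2).length_eq

end Alg

section Ord

variable {D X : Scheme.{u}}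

/-- The order along a specialization `d' ⤳ d` on `D` agrees with the order along `i d' ⤳ i d`
on `X`, when `O_{X,i d} → O_{D,d}` is surjective (e.g. `i` a closed immersion). -/
theorem ordAt_of_surjective [IsLocallyNoetherian X] [IsLocallyNoetherian D] (i : D ⟶ X)
    (d d' : D) (h' : d' ⤳ d) (h : i d' ⤳ i d)
    (hsurj : Function.Surjective (i.stalkMap d).hom)
    [Ring.KrullDimLE 1 (Cyc.LocQuot d d' h')] [Ring.KrullDimLE 1 (Cyc.LocQuot (i d) (i d') h)]
    (g : X.residueField (i d')) (hg : g ≠ 0) :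
    Cyc.ordAt d d' h' (i.residueFieldMap d' g) = Cyc.ordAt (i d) (i d') h g := by
  obtain ⟨a, b, ha, hb, rfl⟩ := exists_specMap_div (i d) (i d') h g hg
  rw [ordAt_div (i d) (i d') h a b ha hb]
  have key := ordAt_pull_div i d d' h' (i d') rfl h a b ha hb
  have hc := comap_ker_specMap i d d' h' h
  rw [length_quot_sup_span_of_surjective (i.stalkMap d).hom hsurj, hc,
    length_quot_sup_span_of_surjective (i.stalkMap d).hom hsurj, hc] at key
  exact key

end Ord

section Setup

theorem isUniversallyCatenary_of_surjective {A B : Type u} [CommRing A] [CommRing B]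
    (φ : A →+* B) (hφ : Function.Surjective φ) (hA : CAlg.IsUniversallyCatenary A) :
    CAlg.IsUniversallyCatenary B := by
  obtain ⟨hN, hcat⟩ := hA
  haveI := hN
  refine ⟨isNoetherianRing_of_surjective A B φ hφ, ?_⟩
  intro S _ _ hS
  letI : Algebra A B := φ.toAlgebra
  letI : Algebra A S := ((algebraMap B S).comp φ).toAlgebra
  haveI : IsScalarTower A B S := IsScalarTower.of_algebraMap_eq' rfl
  have h1 : Algebra.FiniteType A B :=
    Algebra.FiniteType.of_surjective (Algebra.ofId A B) hφ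
  exact hcat S (Algebra.FiniteType.trans h1 hS)

variable {D X : Scheme.{u}} (i : D ⟶ X) [IsClosedImmersion i]

theorem specializes_iff_of_isClosedImmersion (d' d : D) : i d' ⤳ i d ↔ d' ⤳ d :=
  i.isClosedEmbedding.isInducing.specializes_iff

theorem isDimFun_of_isClosedImmersion (δ : X → ℤ) (hδ : Cyc.IsDimFun X δ) :
    Cyc.IsDimFun D (fun d => δ (i d)) := by
  intro x y hxy hne
  have hsp : i x ⤳ i y := hxy.map i.continuous
  have hne' : i x ≠ i y := fun e => hne (i.isClosedEmbedding.injective e)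
  refine ⟨(hδ _ _ hsp hne').1, ?_⟩
  intro himm
  apply (hδ _ _ hsp hne').2
  intro z hxz hzy
  have hz : z ∈ Set.range i := by
    have hcl : IsClosed (Set.range i) := i.isClosedEmbedding.isClosed_range
    have h1 : z ∈ closure ({i x} : Set X) := specializes_iff_mem_closure.mp hxz
    have h2 : closure ({i x} : Set X) ⊆ Set.range i := by
      apply hcl.closure_subset_iff.mpr
      rintro _ rfl
      exact ⟨x, rfl⟩
    exact h2 h1
  obtain ⟨z', rfl⟩ := hz
  have h1 : x ⤳ z' := (specializes_iff_of_isClosedImmersion i x z').mp hxz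
  have h2 : z' ⤳ y := (specializes_iff_of_isClosedImmersion i z' y).mp hzy
  rcases himm z' h1 h2 with h | h
  · left; rw [h]
  · right; rw [h]

theorem isSetup_of_isClosedImmersion (δ : X → ℤ) (hX : Cyc.IsSetup X δ) :
    Cyc.IsSetup D (fun d => δ (i d)) := by
  obtain ⟨hXn, hcat, hδ⟩ := hX
  haveI := hXn
  refine ⟨LocallyOfFiniteType.isLocallyNoetherian i, ?_, isDimFun_of_isClosedImmersion i δ hδ⟩
  intro d
  exact isUniversallyCatenary_of_surjective (i.stalkMap d).hom (i.stalkMap_surjective d)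
    (hcat (i d))

end Setup

section Push

variable {D X : Scheme.{u}} (i : D ⟶ X) [IsClosedImmersion i]

theorem residueFieldMap_surjective (d : D) : Function.Surjective (i.residueFieldMap d) := by
  intro z
  obtain ⟨b, rfl⟩ := IsLocalRing.residue_surjective (R := D.presheaf.stalk d) z
  obtain ⟨a, rfl⟩ := i.stalkMap_surjective d b
  refine ⟨X.residue (i d) a, ?_⟩
  have h4 := Scheme.residue_residueFieldMap i d
  exact congrArg (fun g => g.hom a) h4

theorem residueDegree_eq_one (d : D) : i.residueDegree d = 1 := by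
  unfold Scheme.Hom.residueDegree
  letI := (i.residueFieldMap d).hom.toAlgebra
  have hbij : Function.Bijective (algebraMap (X.residueField (i d)) (D.residueField d)) :=
    ⟨RingHom.injective _, residueFieldMap_surjective i d⟩
  have e : X.residueField (i d) ≃ₗ[X.residueField (i d)] D.residueField d :=
    LinearEquiv.ofBijective (Algebra.linearMap _ _) hbij
  rw [← e.finrank_eq, Module.finrank_self]

theorem map_apply_closedImmersion (δ : X → ℤ) (α : AlgebraicCycle D ℤ) (d : D) :
    AlgebraicCycle.map i (fun d => δ (i d)) δ α (i d) = α d := by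
  show ∑ᶠ x ∈ (⇑i : D → X) ⁻¹' {i d},
    α x * ((AlgebraicCycle.mapCoeff i (fun d => δ (i d)) δ x : ℕ) : ℤ) = α d
  have hpre : (⇑i : D → X) ⁻¹' {i d} = {d} := by
    ext x
    simp only [Set.mem_preimage, Set.mem_singleton_iff]
    exact ⟨fun e => i.isClosedEmbedding.injective e, fun e => by rw [e]⟩
  rw [hpre, finsum_mem_singleton]
  unfold AlgebraicCycle.mapCoeff
  rw [if_pos rfl, residueDegree_eq_one]
  simp

theorem map_apply_of_notMem_range (δ : X → ℤ) (α : AlgebraicCycle D ℤ) (x : X)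
    (hx : x ∉ Set.range i) :
    AlgebraicCycle.map i (fun d => δ (i d)) δ α x = 0 := by
  show ∑ᶠ z ∈ (⇑i : D → X) ⁻¹' {x},
    α z * ((AlgebraicCycle.mapCoeff i (fun d => δ (i d)) δ z : ℕ) : ℤ) = 0
  have hpre : (⇑i : D → X) ⁻¹' {x} = ∅ := by
    ext z
    simp only [Set.mem_preimage, Set.mem_singleton_iff, Set.mem_empty_iff_false, iff_false]
    exact fun e => hx ⟨z, e⟩
  rw [hpre, finsum_mem_empty]

end Push

section C1

variable {D X : Scheme.{u}} (i : D ⟶ X) [IsClosedImmersion i]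

theorem gysinChoice_ne_zero {Z : Scheme.{u}} (L : Z.Modules) (s : L.presheaf.obj (Opposite.op ⊤))
    (t : (ξ : Z) → Cyc.secFibre L ξ) (ht : ∀ ξ, t ξ ≠ 0) (ξ : Z) :
    Cyc.gysinChoice L s t ξ ≠ 0 := by
  unfold Cyc.gysinChoice
  split_ifs with h
  · exact h
  · exact ht ξ

/-- The divisor of a rational section on `X` at points of the closed subscheme `D` agrees with the
divisor of the pulled back section on `D`. -/
theorem secDivFun_closedImmersion (δ : X → ℤ) (hX : Cyc.IsSetup X δ) {L : X.Modules}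
    (hL : PicF.IsInvertible L) (v : (ξ : X) → Cyc.secFibre L ξ) (hv : ∀ ξ, v ξ ≠ 0) (d' d : D) :
    Cyc.secDivFun δ L (i d') (v (i d')) (i d) =
      Cyc.secDivFun (fun d => δ (i d)) ((Scheme.Modules.pullback i).obj L) d'
        (pullSec i L v d') d := by
  have hD := isSetup_of_isClosedImmersion i δ hX
  haveI : IsLocallyNoetherian X := hX.1
  haveI : IsLocallyNoetherian D := hD.1
  by_cases hc : d' ⤳ d ∧ δ (i d) + 1 = δ (i d')
  · have hc' : i d' ⤳ i d ∧ δ (i d) + 1 = δ (i d') :=
      ⟨(specializes_iff_of_isClosedImmersion i d' d).mpr hc.1, hc.2⟩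
    rw [secDivFun_pos δ L (i d') (i d) _ hc',
      secDivFun_pos (fun d => δ (i d)) _ d' d _ hc]
    obtain ⟨t, ht⟩ := exists_isFreeGen hL (i d)
    have hfree : IsFreeGen L (i d') (L.presheaf.stalkSpecializes hc'.1 t) :=
      ht.stalkSpecializes hL hc'.1
    obtain ⟨φ, hφ⟩ := hfree.fibre_surj (v (i d'))
    have hg : X.residue (i d') φ ≠ 0 := by
      intro h0
      apply hv (i d')
      rw [hφ, hfree.fibre_smul_eq_zero_iff]
      exact (IsLocalRing.residue_eq_zero_iff _).mp h0
    rw [secOrdAt_eq hL hc'.1 (v (i d')) ht φ hφ,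
      secOrdAt_pullSec i hL v hc.1 (i d') rfl hc'.1 ht φ hφ]
    haveI := OrdFlatH8.krullDimLE_one_locQuot δ hX.2.2 (i d) (i d') hc'.1 (by omega)
    haveI := OrdFlatH8.krullDimLE_one_locQuot (fun d => δ (i d)) hD.2.2 d d' hc.1
      (by show δ (i d') ≤ δ (i d) + 1; omega)
    exact (ordAt_of_surjective i d d' hc.1 hc'.1 (i.stalkMap_surjective d) _ hg).symm
  · have hc' : ¬ (i d' ⤳ i d ∧ δ (i d) + 1 = δ (i d')) :=
      fun h => hc ⟨(specializes_iff_of_isClosedImmersion i d' d).mp h.1, h.2⟩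
    rw [secDivFun_neg δ L (i d') (i d) _ hc',
      secDivFun_neg (fun d => δ (i d)) _ d' d _ hc]

/-- `c_1(L) ∩ i_*α` at the points of `D` is `c_1(i^*L) ∩ α` computed with the pulled back
sections. -/
theorem c1Cap_push_closedImmersion (δ : X → ℤ) (hX : Cyc.IsSetup X δ) {L : X.Modules}
    (hL : PicF.IsInvertible L) (v : (ξ : X) → Cyc.secFibre L ξ) (hv : ∀ ξ, v ξ ≠ 0)
    (α : AlgebraicCycle D ℤ) (d : D) :
    Cyc.c1CapFun δ L ⇑(AlgebraicCycle.map i (fun d => δ (i d)) δ α) v (i d) =
      Cyc.c1CapFun (fun d => δ (i d)) ((Scheme.Modules.pullback i).obj L) ⇑α (pullSec i L v) d := by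
  unfold Cyc.c1CapFun
  have h1 : ∑ᶠ ξ : X, (AlgebraicCycle.map i (fun d => δ (i d)) δ α) ξ *
        Cyc.secDivFun δ L ξ (v ξ) (i d) =
      ∑ᶠ ξ ∈ Set.range (⇑i : D → X), (AlgebraicCycle.map i (fun d => δ (i d)) δ α) ξ *
        Cyc.secDivFun δ L ξ (v ξ) (i d) := by
    rw [← finsum_mem_univ]
    apply finsum_mem_inter_support_eq'
    intro ξ hξ
    simp only [Set.mem_univ, true_iff]
    by_contra hr
    apply hξ
    show (AlgebraicCycle.map i (fun d => δ (i d)) δ α) ξ * Cyc.secDivFun δ L ξ (v ξ) (i d) = 0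
    rw [map_apply_of_notMem_range i δ α ξ hr, zero_mul]
  rw [h1, finsum_mem_range i.isClosedEmbedding.injective]
  apply finsum_congr
  intro d'
  rw [map_apply_closedImmersion, secDivFun_closedImmersion i δ hX hL v hv d' d]

/-- `i^* i_* α ∼_rat c_1(i^*L) ∩ α` on `D`. -/
theorem ratEquiv_c1Cap_push (δ : X → ℤ) (hX : Cyc.IsSetup X δ) {L : X.Modules}
    (hL : PicF.IsInvertible L) (k : ℤ) (α : AlgebraicCycle D ℤ)
    (hα : α ∈ Cyc.Zk D (fun d => δ (i d)) k)
    (v : (ξ : X) → Cyc.secFibre L ξ) (hv : ∀ ξ, v ξ ≠ 0)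
    (t : (d : D) → Cyc.secFibre ((Scheme.Modules.pullback i).obj L) d) (ht : ∀ d, t d ≠ 0)
    (ζ₁ ζ₂ : AlgebraicCycle D ℤ)
    (h₁ : ∀ d, ζ₁ d = Cyc.c1CapFun δ L ⇑(AlgebraicCycle.map i (fun d => δ (i d)) δ α) v (i d))
    (h₂ : ⇑ζ₂ = Cyc.c1CapFun (fun d => δ (i d)) ((Scheme.Modules.pullback i).obj L) ⇑α t) :
    Cyc.RatEquiv (fun d => δ (i d)) (k - 1) ζ₁ ζ₂ := by
  have hD := isSetup_of_isClosedImmersion i δ hX
  have hα' : α ∈ Cyc.Zk D (fun d => δ (i d)) (k - 1 + 1) := by
    have : k - 1 + 1 = k := by ring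
    rw [this]
    exact hα
  refine ratEquiv_c1Cap (fun d => δ (i d)) hD (TensH8.isInvertible_pullback i hL) (k - 1) α hα'
    (pullSec i L v) t (pullSec_ne_zero i hL v hv) ht ζ₁ ζ₂ ?_ h₂
  funext d
  rw [h₁ d, c1Cap_push_closedImmersion i δ hX hL v hv α d]

end C1

end Groth.Agent.Lib.CycCIH5
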