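import Mathlib
import Groth.Prelude
import Groth.Agent.Lib.CycCI1_helper5

/-!
# Cycles and closed immersions, II (helper5)

* `divFun_closedImmersion`, `divFun_of_notMem_range`, `resInv`, `locallyFinite_closedImmersion`,
  `ratEquivZero_push_closedImmersion`, `map_sub_closedImmersion`, `ratEquiv_push_closedImmersion`:
  pushforward along a closed immersion preserves rational equivalence;
* `divFun_congr_point`, `finite_support_divFun_family`, `sum_divFun_locallyFinite`, `sumDivCycle`,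
  `sum_divFun_eq_zero_of_ne`, `ratEquivZero_neg`, `finsum_split`;
* `resPt`, `resFun`, `divFun_resFun`, `locallyFinite_resPt`: restriction of a family of rational
  functions to a closed subscheme; `comapCycle`.

APPEND-ONLY once landed.
-/

set_option autoImplicit false

namespace Groth.Agent.Lib.CycCIH5

open AlgebraicGeometry CategoryTheory TopologicalSpace
open Groth.Agent.Lib.CycFBCH5 Groth.Agent.Lib.CycFDH5 SecOrdH8 PBH8 Groth.Agent.Lib.CycC1PH5

universe u

section Div

variable {D X : Scheme.{u}} (i : D ⟶ X) [IsClosedImmersion i]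

/-- The principal divisor on `X` of a function on the closure of a point of `D`, at the points
of `D`. -/
theorem divFun_closedImmersion (δ : X → ℤ) (hX : Cyc.IsSetup X δ) (d' : D)
    (g : X.residueField (i d')) (hg : g ≠ 0) (d : D) :
    Cyc.divFun (fun d => δ (i d)) d' (i.residueFieldMap d' g) d = Cyc.divFun δ (i d') g (i d) := by
  have hD := isSetup_of_isClosedImmersion i δ hX
  haveI : IsLocallyNoetherian X := hX.1
  haveI : IsLocallyNoetherian D := hD.1
  by_cases hc : d' ⤳ d ∧ δ (i d) + 1 = δ (i d')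
  · have hc' : i d' ⤳ i d ∧ δ (i d) + 1 = δ (i d') :=
      ⟨(specializes_iff_of_isClosedImmersion i d' d).mpr hc.1, hc.2⟩
    rw [divFun_pos δ (i d') (i d) _ hc', divFun_pos (fun d => δ (i d)) d' d _ hc]
    haveI := OrdFlatH8.krullDimLE_one_locQuot δ hX.2.2 (i d) (i d') hc'.1 (by omega)
    haveI := OrdFlatH8.krullDimLE_one_locQuot (fun d => δ (i d)) hD.2.2 d d' hc.1
      (by show δ (i d') ≤ δ (i d) + 1; omega)
    exact ordAt_of_surjective i d d' hc.1 hc'.1 (i.stalkMap_surjective d) _ hg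
  · have hc' : ¬ (i d' ⤳ i d ∧ δ (i d) + 1 = δ (i d')) :=
      fun h => hc ⟨(specializes_iff_of_isClosedImmersion i d' d).mp h.1, h.2⟩
    rw [divFun_neg δ (i d') (i d) _ hc', divFun_neg (fun d => δ (i d)) d' d _ hc]

theorem mem_range_of_specializes (d' : D) (x : X) (h : i d' ⤳ x) : x ∈ Set.range i := by
  have hcl : IsClosed (Set.range i) := i.isClosedEmbedding.isClosed_range
  have h1 : x ∈ closure ({i d'} : Set X) := specializes_iff_mem_closure.mp h
  have h2 : closure ({i d'} : Set X) ⊆ Set.range i := by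
    apply hcl.closure_subset_iff.mpr
    rintro _ rfl
    exact ⟨d', rfl⟩
  exact h2 h1

theorem divFun_of_notMem_range (δ : X → ℤ) (d' : D) (g : X.residueField (i d')) (x : X)
    (hx : x ∉ Set.range i) : Cyc.divFun δ (i d') g x = 0 :=
  divFun_neg δ (i d') x g (fun h => hx (mem_range_of_specializes i d' x h.1))

/-- the inverse of the residue field isomorphism of a closed immersion -/
noncomputable def resInv (d : D) (f : D.residueField d) : X.residueField (i d) :=
  (RingEquiv.ofBijective (i.residueFieldMap d).hom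
    ⟨RingHom.injective _, residueFieldMap_surjective i d⟩).symm f

theorem residueFieldMap_resInv (d : D) (f : D.residueField d) :
    i.residueFieldMap d (resInv i d f) = f :=
  (RingEquiv.ofBijective (i.residueFieldMap d).hom
    ⟨RingHom.injective _, residueFieldMap_surjective i d⟩).apply_symm_apply f

theorem resInv_ne_zero (d : D) (f : D.residueField d) (hf : f ≠ 0) : resInv i d f ≠ 0 := by
  intro h0
  apply hf
  rw [← residueFieldMap_resInv i d f, h0, map_zero]

/-- a locally finite family of points of a closed subscheme is locally finite in the ambient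
scheme -/
theorem locallyFinite_closedImmersion {ι : Type*} (ξ : ι → D)
    (hlf : ∀ d : D, ∃ W : Set D, IsOpen W ∧ d ∈ W ∧ {j | (closure {ξ j} ∩ W).Nonempty}.Finite)
    (x : X) :
    ∃ W : Set X, IsOpen W ∧ x ∈ W ∧ {j | (closure {(i (ξ j) : X)} ∩ W).Nonempty}.Finite := by
  by_cases hx : x ∈ Set.range i
  · obtain ⟨d, rfl⟩ := hx
    obtain ⟨W, hWo, hdW, hfin⟩ := hlf d
    obtain ⟨U, hUo, rfl⟩ := i.isClosedEmbedding.isInducing.isOpen_iff.mp hWo
    refine ⟨U, hUo, hdW, hfin.subset ?_⟩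
    rintro j ⟨y, hy1, hy2⟩
    have hsp : i (ξ j) ⤳ y := specializes_iff_mem_closure.mpr hy1
    obtain ⟨d'', rfl⟩ := mem_range_of_specializes i (ξ j) y hsp
    have hsp' : ξ j ⤳ d'' := (specializes_iff_of_isClosedImmersion i (ξ j) d'').mp hsp
    exact ⟨d'', specializes_iff_mem_closure.mp hsp', hy2⟩
  · refine ⟨(Set.range i)ᶜ, i.isClosedEmbedding.isClosed_range.isOpen_compl, hx, ?_⟩
    convert Set.finite_empty
    ext j
    simp only [Set.mem_ofPred_eq, Set.mem_empty_iff_false, iff_false]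
    rintro ⟨y, hy1, hy2⟩
    exact hy2 (mem_range_of_specializes i (ξ j) y (specializes_iff_mem_closure.mpr hy1))

/-- **Pushforward along a closed immersion preserves rational equivalence to zero.** -/
theorem ratEquivZero_push_closedImmersion (δ : X → ℤ) (hX : Cyc.IsSetup X δ) (k : ℤ)
    (β : AlgebraicCycle D ℤ) (h : Cyc.RatEquivZero (fun d => δ (i d)) k β) :
    Cyc.RatEquivZero δ k (AlgebraicCycle.map i (fun d => δ (i d)) δ β) := by
  obtain ⟨ι, ξ, f, hdim, hf0, hlf, hsum⟩ := h
  refine ⟨ι, fun j => i (ξ j), fun j => resInv i (ξ j) (f j), hdim,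
    fun j => resInv_ne_zero i (ξ j) (f j) (hf0 j), locallyFinite_closedImmersion i ξ hlf, ?_⟩
  intro x
  by_cases hx : x ∈ Set.range i
  · obtain ⟨d, rfl⟩ := hx
    rw [map_apply_closedImmersion, hsum d]
    apply finsum_congr
    intro j
    rw [← divFun_closedImmersion i δ hX (ξ j) _ (resInv_ne_zero i (ξ j) (f j) (hf0 j)) d,
      residueFieldMap_resInv]
  · rw [map_apply_of_notMem_range i δ β x hx]
    symm
    apply finsum_eq_zero_of_forall_eq_zero
    intro j
    exact divFun_of_notMem_range i δ (ξ j) _ x hx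

theorem map_sub_closedImmersion (δ : X → ℤ) (a b : AlgebraicCycle D ℤ) :
    AlgebraicCycle.map i (fun d => δ (i d)) δ (a - b) =
      AlgebraicCycle.map i (fun d => δ (i d)) δ a - AlgebraicCycle.map i (fun d => δ (i d)) δ b := by
  ext x
  rw [Function.locallyFinsuppWithin.coe_sub]
  show _ = (AlgebraicCycle.map i (fun d => δ (i d)) δ a) x -
    (AlgebraicCycle.map i (fun d => δ (i d)) δ b) x
  by_cases hx : x ∈ Set.range i
  · obtain ⟨d, rfl⟩ := hx
    rw [map_apply_closedImmersion, map_apply_closedImmersion, map_apply_closedImmersion,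
      Function.locallyFinsuppWithin.coe_sub]
    rfl
  · rw [map_apply_of_notMem_range i δ _ x hx, map_apply_of_notMem_range i δ _ x hx,
      map_apply_of_notMem_range i δ _ x hx, sub_zero]

/-- **Pushforward along a closed immersion preserves rational equivalence.** -/
theorem ratEquiv_push_closedImmersion (δ : X → ℤ) (hX : Cyc.IsSetup X δ) (k : ℤ)
    (a b : AlgebraicCycle D ℤ) (h : Cyc.RatEquiv (fun d => δ (i d)) k a b) :
    Cyc.RatEquiv δ k (AlgebraicCycle.map i (fun d => δ (i d)) δ a)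
      (AlgebraicCycle.map i (fun d => δ (i d)) δ b) := by
  show Cyc.RatEquivZero δ k _
  rw [← map_sub_closedImmersion]
  exact ratEquivZero_push_closedImmersion i δ hX k (a - b) h

end Div

section Family

variable {X : Scheme.{u}}

theorem divFun_congr_point (δ : X → ℤ) {ξ ξ' : X} (e : ξ' = ξ) (f : X.residueField ξ) (x : X) :
    Cyc.divFun δ ξ' ((X.residueFieldCongr e.symm).hom f) x = Cyc.divFun δ ξ f x := by
  subst e
  rfl

/-- the terms of a locally finite family of principal divisors have finite support at each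
point -/
theorem finite_support_divFun_family (δ : X → ℤ) {ι : Type*} (ξ : ι → X)
    (g : (j : ι) → X.residueField (ξ j))
    (hlf : ∀ x : X, ∃ U : Set X, IsOpen U ∧ x ∈ U ∧ {j | (closure {ξ j} ∩ U).Nonempty}.Finite)
    (x : X) : (Function.support fun j => Cyc.divFun δ (ξ j) (g j) x).Finite := by
  obtain ⟨U, hUo, hxU, hfin⟩ := hlf x
  refine hfin.subset ?_
  intro j hj
  rw [Function.mem_support] at hj
  have hsp : ξ j ⤳ x := divFun_ne_zero_specializes δ _ x _ hj
  exact ⟨x, specializes_iff_mem_closure.mp hsp, hxU⟩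

/-- the sum of a locally finite family of principal divisors has locally finite support -/
theorem sum_divFun_locallyFinite [IsLocallyNoetherian X] (δ : X → ℤ) (hδ : Cyc.IsDimFun X δ)
    {ι : Type*} (ξ : ι → X) (g : (j : ι) → X.residueField (ξ j)) (hg0 : ∀ j, g j ≠ 0)
    (hlf : ∀ x : X, ∃ U : Set X, IsOpen U ∧ x ∈ U ∧ {j | (closure {ξ j} ∩ U).Nonempty}.Finite) :
    ∀ z ∈ (Set.univ : Set X), ∃ t ∈ nhds z,
      Set.Finite (t ∩ Function.support fun x => ∑ᶠ j, Cyc.divFun δ (ξ j) (g j) x) := by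
  intro x _
  obtain ⟨W, hWo, hxW, hWfin⟩ := hlf x
  obtain ⟨V, hV0, hxV, hVW⟩ := (Opens.isBasis_iff_nbhd.mp X.isBasis_affineOpens)
    (show x ∈ (⟨W, hWo⟩ : X.Opens) from hxW)
  have hV : IsAffineOpen V := hV0
  refine ⟨V, V.2.mem_nhds hxV, ?_⟩
  have hfin : (⋃ j ∈ {j | (closure {ξ j} ∩ W).Nonempty},
      {x' : X | x' ∈ V ∧ Cyc.divFun δ (ξ j) (g j) x' ≠ 0}).Finite :=
    hWfin.biUnion (fun j _ =>
      Groth.Agent.Lib.CycExH5.finite_divFun_support_inter δ hδ V hV (ξ j) (g j) (hg0 j))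
  refine hfin.subset ?_
  rintro x' ⟨hx'V, hx'D⟩
  rw [Function.mem_support] at hx'D
  obtain ⟨j, hj⟩ := Groth.Agent.Lib.CycExH5.exists_ne_zero_of_finsum_ne_zero' _ hx'D
  have hsp : ξ j ⤳ x' := divFun_ne_zero_specializes δ _ x' _ hj
  simp only [Set.mem_iUnion]
  exact ⟨j, ⟨x', specializes_iff_mem_closure.mp hsp, hVW hx'V⟩, hx'V, hj⟩

/-- the cycle `∑ div(g_j)` of a locally finite family -/
noncomputable def sumDivCycle [IsLocallyNoetherian X] (δ : X → ℤ) (hδ : Cyc.IsDimFun X δ)
    {ι : Type*} (ξ : ι → X) (g : (j : ι) → X.residueField (ξ j)) (hg0 : ∀ j, g j ≠ 0)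
    (hlf : ∀ x : X, ∃ U : Set X, IsOpen U ∧ x ∈ U ∧ {j | (closure {ξ j} ∩ U).Nonempty}.Finite) :
    AlgebraicCycle X ℤ :=
  { toFun := fun x => ∑ᶠ j, Cyc.divFun δ (ξ j) (g j) x
    supportWithinDomain' := Set.subset_univ _
    supportLocallyFiniteWithinDomain' := sum_divFun_locallyFinite δ hδ ξ g hg0 hlf }

theorem sumDivCycle_apply [IsLocallyNoetherian X] (δ : X → ℤ) (hδ : Cyc.IsDimFun X δ)
    {ι : Type*} (ξ : ι → X) (g : (j : ι) → X.residueField (ξ j)) (hg0 : ∀ j, g j ≠ 0)
    (hlf : ∀ x : X, ∃ U : Set X, IsOpen U ∧ x ∈ U ∧ {j | (closure {ξ j} ∩ U).Nonempty}.Finite)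
    (x : X) : sumDivCycle δ hδ ξ g hg0 hlf x = ∑ᶠ j, Cyc.divFun δ (ξ j) (g j) x := rfl

theorem sum_divFun_eq_zero_of_ne (δ : X → ℤ) (k : ℤ) {ι : Type*} (ξ : ι → X)
    (g : (j : ι) → X.residueField (ξ j)) (hdim : ∀ j, δ (ξ j) = k + 1) (x : X) (hx : δ x ≠ k) :
    ∑ᶠ j, Cyc.divFun δ (ξ j) (g j) x = 0 := by
  apply finsum_eq_zero_of_forall_eq_zero
  intro j
  apply divFun_neg
  rintro ⟨-, h2⟩
  rw [hdim j] at h2
  omega

theorem ratEquivZero_neg [IsLocallyNoetherian X] (δ : X → ℤ) (hδ : Cyc.IsDimFun X δ) (k : ℤ)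
    (α β : AlgebraicCycle X ℤ) (h : Cyc.RatEquivZero δ k α) (hβ : ∀ x, β x = - α x) :
    Cyc.RatEquivZero δ k β := by
  obtain ⟨ι, ξ, f, hdim, hf0, hlf, hsum⟩ := h
  refine ⟨ι, ξ, fun j => (f j) ^ (-1 : ℤ), hdim, fun j => zpow_ne_zero _ (hf0 j), hlf, ?_⟩
  intro x
  rw [hβ x, hsum x, ← finsum_neg_distrib]
  apply finsum_congr
  intro j
  rw [divFun_zpow δ hδ (ξ j) (hf0 j) (-1) x]
  ring

theorem finsum_split {ι : Type*} (P : ι → Prop) (F : ι → ℤ) (hF : (Function.support F).Finite) :
    ∑ᶠ j, F j = ∑ᶠ j : {j // P j}, F j.1 + ∑ᶠ j : {j // ¬ P j}, F j.1 := by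
  classical
  rw [finsum_subtype_eq_finsum_cond (f := F) P, finsum_subtype_eq_finsum_cond (f := F) (fun j => ¬ P j)]
  have h1 : ∑ᶠ j, F j = ∑ᶠ j ∈ ({j | P j} ∪ {j | ¬ P j} : Set ι), F j := by
    have : ({j | P j} ∪ {j | ¬ P j} : Set ι) = Set.univ := by
      ext j
      simp only [Set.mem_union, Set.mem_ofPred_eq, Set.mem_univ, iff_true]
      exact em _
    rw [this, finsum_mem_univ]
  rw [h1]
  apply finsum_mem_union'
  · rw [Set.disjoint_left]
    intro j h1 h2
    exact h2 h1
  · exact hF.subset Set.inter_subset_right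
  · exact hF.subset Set.inter_subset_right

end Family

section Res

variable {D X : Scheme.{u}} (i : D ⟶ X) [IsClosedImmersion i]

/-- the point of `D` over a point of a family lying in the image of `D` -/
noncomputable def resPt {J : Type*} (ξ : J → X) (j : {j : J // ξ j ∈ Set.range i}) : D :=
  Classical.choose j.2

theorem resPt_spec {J : Type*} (ξ : J → X) (j : {j : J // ξ j ∈ Set.range i}) :
    i (resPt i ξ j) = ξ j.1 :=
  Classical.choose_spec j.2

/-- the function of a family restricted to `D` -/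
noncomputable def resFun {J : Type*} (ξ : J → X) (f : (j : J) → X.residueField (ξ j))
    (j : {j : J // ξ j ∈ Set.range i}) : D.residueField (resPt i ξ j) :=
  i.residueFieldMap (resPt i ξ j) ((X.residueFieldCongr (resPt_spec i ξ j).symm).hom (f j.1))

theorem resFun_ne_zero {J : Type*} (ξ : J → X) (f : (j : J) → X.residueField (ξ j))
    (hf0 : ∀ j, f j ≠ 0) (j : {j : J // ξ j ∈ Set.range i}) : resFun i ξ f j ≠ 0 := by
  unfold resFun
  rw [map_ne_zero, map_ne_zero]
  exact hf0 j.1

theorem divFun_resFun (δ : X → ℤ) (hX : Cyc.IsSetup X δ) {J : Type*} (ξ : J → X)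
    (f : (j : J) → X.residueField (ξ j)) (hf0 : ∀ j, f j ≠ 0)
    (j : {j : J // ξ j ∈ Set.range i}) (d : D) :
    Cyc.divFun (fun d => δ (i d)) (resPt i ξ j) (resFun i ξ f j) d =
      Cyc.divFun δ (ξ j.1) (f j.1) (i d) := by
  unfold resFun
  rw [divFun_closedImmersion i δ hX (resPt i ξ j) _
    (by rw [map_ne_zero]; exact hf0 j.1) d, divFun_congr_point δ (resPt_spec i ξ j)]

theorem locallyFinite_resPt {J : Type*} (ξ : J → X)
    (hlf : ∀ x : X, ∃ U : Set X, IsOpen U ∧ x ∈ U ∧ {j | (closure {ξ j} ∩ U).Nonempty}.Finite)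
    (d : D) : ∃ W : Set D, IsOpen W ∧ d ∈ W ∧
      {j : {j : J // ξ j ∈ Set.range i} | (closure {resPt i ξ j} ∩ W).Nonempty}.Finite := by
  obtain ⟨U, hUo, hdU, hfin⟩ := hlf (i d)
  refine ⟨(⇑i : D → X) ⁻¹' U, hUo.preimage i.continuous, hdU, ?_⟩
  refine (hfin.preimage Subtype.val_injective.injOn).subset ?_
  rintro j ⟨y, hy1, hy2⟩
  have hsp : resPt i ξ j ⤳ y := specializes_iff_mem_closure.mpr hy1
  have hsp' : ξ j.1 ⤳ i y := by
    rw [← resPt_spec i ξ j]
    exact hsp.map i.continuous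
  exact ⟨i y, specializes_iff_mem_closure.mp hsp', hy2⟩

theorem divFun_eq_zero_of_notMem_range (δ : X → ℤ) {ξ : X} (hξ : ξ ∈ Set.range i)
    (g : X.residueField ξ) (x : X) (hx : x ∉ Set.range i) : Cyc.divFun δ ξ g x = 0 := by
  obtain ⟨d', rfl⟩ := hξ
  exact divFun_of_notMem_range i δ d' g x hx

/-- the restriction of a cycle on `X` to the closed subscheme `D` (as a function on points) -/
noncomputable def comapCycle (γ : AlgebraicCycle X ℤ) : AlgebraicCycle D ℤ :=
  { toFun := fun d => γ (i d)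
    supportWithinDomain' := Set.subset_univ _
    supportLocallyFiniteWithinDomain' := by
      intro d _
      obtain ⟨T, hT, hfin⟩ := γ.supportLocallyFiniteWithinDomain (i d) trivial
      refine ⟨(⇑i : D → X) ⁻¹' T, i.continuous.continuousAt.preimage_mem_nhds hT, ?_⟩
      refine (hfin.preimage i.isClosedEmbedding.injective.injOn).subset ?_
      rintro d' ⟨h1, h2⟩
      exact ⟨h1, h2⟩ }

theorem comapCycle_apply (γ : AlgebraicCycle X ℤ) (d : D) : comapCycle i γ d = γ (i d) := rfl

end Res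

end Groth.Agent.Lib.CycCIH5
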