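import Mathlib
import Groth.Prelude
import Groth.Agent.Lib.CycCI2_helper5

/-!
# Cycles and closed immersions, III (helper5)

* `locallyFinite_top_dim`, `fundCycle`: the fundamental cycle `[Y]_{k+1}` of a scheme with `δ ≤ k+1`;
* `subschemeFun_closedImmersion`, `subschemeFun_of_notMem_range`, `c1Cap_push_of_notMem_range`,
  `c1CapFun_congr_sec`;
* `ratEquiv_c1Cap_subscheme`: `c_1(L) ∩ [Y]_{k+1} ∼_rat ι_*[Z(s)]_k`.

APPEND-ONLY once landed.
-/

set_option autoImplicit false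

namespace Groth.Agent.Lib.CycCIH5

open AlgebraicGeometry CategoryTheory TopologicalSpace
open Groth.Agent.Lib.CycFBCH5 Groth.Agent.Lib.CycFDH5 SecOrdH8 PBH8 Groth.Agent.Lib.CycC1PH5

universe u

section Fund

variable {Y : Scheme.{u}}

/-- the points of maximal `δ` are locally finite -/
theorem locallyFinite_top_dim [IsLocallyNoetherian Y] (δ : Y → ℤ) (hδ : Cyc.IsDimFun Y δ) (k : ℤ)
    (hdim : ∀ y : Y, δ y ≤ k + 1) (F : Y → ℤ) (hF : ∀ y, F y ≠ 0 → δ y = k + 1) :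
    ∀ z ∈ (Set.univ : Set Y), ∃ t ∈ nhds z, Set.Finite (t ∩ Function.support F) := by
  intro y _
  obtain ⟨V, hV0, hyV, -⟩ := (Opens.isBasis_iff_nbhd.mp Y.isBasis_affineOpens)
    (show y ∈ (⊤ : Y.Opens) from trivial)
  have hV : IsAffineOpen V := hV0
  haveI : IsNoetherianRing Γ(Y, V) := IsLocallyNoetherian.component_noetherian ⟨V, hV⟩
  haveI : NoetherianSpace V := noetherianSpace_of_isAffineOpen V hV
  haveI : QuasiSober V := V.isOpenEmbedding'.quasiSober
  refine ⟨V, V.2.mem_nhds hyV, ?_⟩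
  have hfin := CycLenH8.finite_maximal_points (X := V) (Z₀ := Set.univ) isClosed_univ
  refine (hfin.image Subtype.val).subset ?_
  rintro y' ⟨hy'V, hy'F⟩
  rw [Function.mem_support] at hy'F
  have hd := hF y' hy'F
  refine ⟨⟨y', hy'V⟩, ⟨trivial, ?_⟩, rfl⟩
  intro t _ hsp
  have h3 : t.1 ⤳ y' := hsp.map continuous_subtype_val
  by_contra hne
  have hne' : t.1 ≠ y' := fun e => hne (Subtype.ext e)
  have := (hδ _ _ h3 hne').1
  have := hdim t.1
  omega

/-- the fundamental cycle `[Y]_{k+1}` of a scheme with `δ ≤ k + 1` -/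
noncomputable def fundCycle [IsLocallyNoetherian Y] (δ : Y → ℤ) (hδ : Cyc.IsDimFun Y δ) (k : ℤ)
    (hdim : ∀ y : Y, δ y ≤ k + 1) : AlgebraicCycle Y ℤ :=
  { toFun := Cyc.subschemeFun δ (k + 1) (𝟙 Y)
    supportWithinDomain' := Set.subset_univ _
    supportLocallyFiniteWithinDomain' := locallyFinite_top_dim δ hδ k hdim _ (by
      intro y hy
      by_contra hne
      apply hy
      unfold Cyc.subschemeFun
      rw [if_neg hne]) }

end Fund

section Sub

variable {Y X : Scheme.{u}} (ι : Y ⟶ X) [IsClosedImmersion ι]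

theorem subschemeFun_closedImmersion (δ : X → ℤ) (k : ℤ) (y : Y) :
    Cyc.subschemeFun δ k ι (ι y) = Cyc.subschemeFun (fun y => δ (ι y)) k (𝟙 Y) y := by
  unfold Cyc.subschemeFun
  have h1 : {z : Y | ι z = ι y} = {y} := by
    ext z
    simp only [Set.mem_ofPred_eq, Set.mem_singleton_iff]
    exact ⟨fun e => ι.isClosedEmbedding.injective e, fun e => by rw [e]⟩
  have h2 : {z : Y | (𝟙 Y : Y ⟶ Y) z = y} = {y} := by
    ext z
    simp
  rw [h1, h2]

theorem subschemeFun_of_notMem_range (δ : X → ℤ) (k : ℤ) (x : X) (hx : x ∉ Set.range ι) :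
    Cyc.subschemeFun δ k ι x = 0 := by
  unfold Cyc.subschemeFun
  have h1 : {z : Y | ι z = x} = ∅ := by
    ext z
    simp only [Set.mem_ofPred_eq, Set.mem_empty_iff_false, iff_false]
    exact fun e => hx ⟨z, e⟩
  rw [h1, finsum_mem_empty, ite_self]

theorem c1Cap_push_of_notMem_range (δ : X → ℤ) (L : X.Modules) (a : X → ℤ)
    (ha : ∀ x, x ∉ Set.range ι → a x = 0) (v : (ξ : X) → Cyc.secFibre L ξ) (x : X)
    (hx : x ∉ Set.range ι) : Cyc.c1CapFun δ L a v x = 0 := by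
  unfold Cyc.c1CapFun
  apply finsum_eq_zero_of_forall_eq_zero
  intro ξ
  by_cases hξ : ξ ∈ Set.range ι
  · obtain ⟨y', rfl⟩ := hξ
    have : Cyc.secDivFun δ L (ι y') (v (ι y')) x = 0 :=
      secDivFun_neg δ L (ι y') x _ (fun h => hx (mem_range_of_specializes ι y' x h.1))
    rw [this, mul_zero]
  · rw [ha ξ hξ, zero_mul]

theorem c1CapFun_congr_coeff {Z : Scheme.{u}} (δ : Z → ℤ) (L : Z.Modules) (a b : Z → ℤ)
    (hab : a = b) (v : (ξ : Z) → Cyc.secFibre L ξ) : Cyc.c1CapFun δ L a v = Cyc.c1CapFun δ L b v := by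
  rw [hab]

theorem c1CapFun_congr_sec {Z : Scheme.{u}} (δ : Z → ℤ) (L : Z.Modules) (a : Z → ℤ)
    (v w : (ξ : Z) → Cyc.secFibre L ξ) (h : ∀ ξ, a ξ ≠ 0 → v ξ = w ξ) :
    Cyc.c1CapFun δ L a v = Cyc.c1CapFun δ L a w := by
  funext x
  unfold Cyc.c1CapFun
  apply finsum_congr
  intro ξ
  by_cases ha : a ξ = 0
  · rw [ha, zero_mul, zero_mul]
  · rw [h ξ ha]

/-- `c_1(L) ∩ [Y]_{k+1} ∼_rat ι_*[Z(s)]_k`, given the identity `[Z(s)]_k = c_1(L|_Y) ∩ [Y]_{k+1}`
on `Y` for the sections induced by `s`. -/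
theorem ratEquiv_c1Cap_subscheme (δ : X → ℤ) (hX : Cyc.IsSetup X δ) (L : X.Modules)
    (hL : PicF.IsInvertible L) (k : ℤ) (hY : ∀ y : Y, δ (ι y) ≤ k + 1)
    (s : ((Scheme.Modules.pullback ι).obj L).presheaf.obj (Opposite.op ⊤))
    (hZ : ∀ y : Y, (((Scheme.Modules.pullback ι).obj L).presheaf.germ ⊤ y trivial) s ∈
      IsLocalRing.maximalIdeal (Y.presheaf.stalk y) •
        (⊤ : Submodule (Y.presheaf.stalk y) (((Scheme.Modules.pullback ι).obj L).presheaf.stalk y)) →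
      δ (ι y) ≤ k)
    (hzero : Cyc.zeroSectionFun (fun y => δ (ι y)) k ((Scheme.Modules.pullback ι).obj L) s =
      Cyc.c1CapFun (fun y => δ (ι y)) ((Scheme.Modules.pullback ι).obj L)
        (Cyc.subschemeFun (fun y => δ (ι y)) (k + 1) (𝟙 Y))
        (fun ξ => Submodule.Quotient.mk
          ((((Scheme.Modules.pullback ι).obj L).presheaf.germ ⊤ ξ trivial) s)))
    (v : (ξ : X) → Cyc.secFibre L ξ) (hv : ∀ ξ, v ξ ≠ 0) (γ : AlgebraicCycle X ℤ)
    (hγ : ⇑γ = Cyc.c1CapFun δ L (Cyc.subschemeFun δ (k + 1) ι) v) (ζ : AlgebraicCycle Y ℤ)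
    (hζ : ⇑ζ = Cyc.zeroSectionFun (fun y => δ (ι y)) k ((Scheme.Modules.pullback ι).obj L) s) :
    Cyc.RatEquiv δ k γ (AlgebraicCycle.map ι (fun y => δ (ι y)) δ ζ) := by
  have hYs := isSetup_of_isClosedImmersion ι δ hX
  haveI : IsLocallyNoetherian Y := hYs.1
  have hLY := TensH8.isInvertible_pullback ι hL
  -- the fundamental cycle of `Y`
  let Θ : AlgebraicCycle Y ℤ := fundCycle (fun y => δ (ι y)) hYs.2.2 k hY
  have hΘcoe : (⇑Θ : Y → ℤ) = Cyc.subschemeFun (fun y => δ (ι y)) (k + 1) (𝟙 Y) := rfl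
  have hΘk : Θ ∈ Cyc.Zk Y (fun y => δ (ι y)) (k + 1) := by
    intro y hy
    show Cyc.subschemeFun (fun y => δ (ι y)) (k + 1) (𝟙 Y) y = 0
    unfold Cyc.subschemeFun
    rw [if_neg hy]
  have hsub : Cyc.subschemeFun δ (k + 1) ι =
      ⇑(AlgebraicCycle.map ι (fun y => δ (ι y)) δ Θ) := by
    funext x
    by_cases hx : x ∈ Set.range ι
    · obtain ⟨y, rfl⟩ := hx
      rw [map_apply_closedImmersion, subschemeFun_closedImmersion]
      rfl
    · rw [map_apply_of_notMem_range ι δ Θ x hx, subschemeFun_of_notMem_range ι δ (k + 1) x hx]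
  -- `γ` restricted to `Y`
  let γY : AlgebraicCycle Y ℤ := comapCycle ι γ
  have hγY : (⇑γY : Y → ℤ) = Cyc.c1CapFun (fun y => δ (ι y)) ((Scheme.Modules.pullback ι).obj L)
      ⇑Θ (pullSec ι L v) := by
    funext y
    show γ (ι y) = _
    rw [hγ, hsub, c1Cap_push_closedImmersion ι δ hX hL v hv Θ y]
  have hγout : ∀ x, x ∉ Set.range ι → γ x = 0 := by
    intro x hx
    rw [hγ]
    exact c1Cap_push_of_notMem_range ι δ L _
      (fun x hx => subschemeFun_of_notMem_range ι δ (k + 1) x hx) v x hx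
  have hmap : AlgebraicCycle.map ι (fun y => δ (ι y)) δ γY = γ := by
    ext x
    by_cases hx : x ∈ Set.range ι
    · obtain ⟨y, rfl⟩ := hx
      rw [map_apply_closedImmersion]
      rfl
    · rw [map_apply_of_notMem_range ι δ γY x hx, hγout x hx]
  -- the sections induced by `s`
  set sY : (y : Y) → Cyc.secFibre ((Scheme.Modules.pullback ι).obj L) y :=
    Cyc.gysinChoice ((Scheme.Modules.pullback ι).obj L) s (pullSec ι L v) with hsY
  have hsY0 : ∀ y, sY y ≠ 0 :=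
    gysinChoice_ne_zero _ s _ (pullSec_ne_zero ι hL v hv)
  have hζ' : (⇑ζ : Y → ℤ) = Cyc.c1CapFun (fun y => δ (ι y)) ((Scheme.Modules.pullback ι).obj L)
      ⇑Θ sY := by
    rw [hζ, hzero, hΘcoe]
    apply c1CapFun_congr_sec
    intro ξ hξ
    have hξk : δ (ι ξ) = k + 1 := by
      by_contra hne
      apply hξ
      unfold Cyc.subschemeFun
      rw [if_neg hne]
    have hne : (Submodule.Quotient.mk
        ((((Scheme.Modules.pullback ι).obj L).presheaf.germ ⊤ ξ trivial) s) :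
        Cyc.secFibre ((Scheme.Modules.pullback ι).obj L) ξ) ≠ 0 := by
      intro h0
      have := hZ ξ ((Submodule.Quotient.mk_eq_zero _).mp h0)
      omega
    show _ = Cyc.gysinChoice ((Scheme.Modules.pullback ι).obj L) s (pullSec ι L v) ξ
    unfold Cyc.gysinChoice
    rw [if_pos hne]
  have hrat : Cyc.RatEquiv (fun y => δ (ι y)) k γY ζ :=
    ratEquiv_c1Cap (fun y => δ (ι y)) hYs hLY k Θ hΘk (pullSec ι L v) sY
      (pullSec_ne_zero ι hL v hv) hsY0 γY ζ hγY hζ'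
  have := ratEquiv_push_closedImmersion ι δ hX k γY ζ hrat
  rwa [hmap] at this

end Sub

end Groth.Agent.Lib.CycCIH5
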