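import Mathlib

/-!
# Lengths of localisations of cyclic modules (helper9)

`lenAt p J` is the length of `(R/J)_p` over `R_p`.  It vanishes unless `J ≤ p`, is `1` for `J = p`,
and is additive along `0 → R/(J : x) → R/J → R/(J + x) → 0`.
APPEND-ONLY once landed.
-/

set_option autoImplicit false
set_option maxHeartbeats 400000
set_option linter.style.haveILetI false
universe u

namespace Groth.Agent.HilbDeg9

section Len

variable {R : Type u} [CommRing R]

/-- the length of `(R/J)_p` over `R_p` -/
noncomputable def lenAt (p : Ideal R) [p.IsPrime] (J : Ideal R) : ℕ∞ :=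
  Module.length (Localization.AtPrime p) (LocalizedModule p.primeCompl (R ⧸ J))

/-- length of localisations is additive on short exact sequences -/
theorem length_localized_add (p : Ideal R) [p.IsPrime] {M N P : Type u}
    [AddCommGroup M] [Module R M] [AddCommGroup N] [Module R N] [AddCommGroup P] [Module R P]
    (f : N →ₗ[R] M) (g : M →ₗ[R] P) (hf : Function.Injective f) (hg : Function.Surjective g)
    (H : Function.Exact f g) :
    Module.length (Localization.AtPrime p) (LocalizedModule p.primeCompl M) =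
      Module.length (Localization.AtPrime p) (LocalizedModule p.primeCompl N) +
      Module.length (Localization.AtPrime p) (LocalizedModule p.primeCompl P) :=
  Module.length_eq_add_of_exact (LocalizedModule.map p.primeCompl f)
    (LocalizedModule.map p.primeCompl g) (LocalizedModule.map_injective _ f hf)
    (LocalizedModule.map_surjective _ g hg) (LocalizedModule.map_exact _ f g H)

theorem lenAt_eq_zero (p : Ideal R) [p.IsPrime] (J : Ideal R) (h : ¬ J ≤ p) : lenAt p J = 0 := by
  obtain ⟨a, haJ, hap⟩ := SetLike.not_le_iff_exists.1 h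
  unfold lenAt
  rw [Module.length_eq_zero_iff, LocalizedModule.subsingleton_iff]
  intro m
  refine ⟨a, hap, ?_⟩
  obtain ⟨b, rfl⟩ := Ideal.Quotient.mk_surjective m
  rw [Algebra.smul_def, Ideal.Quotient.algebraMap_eq, ← map_mul,
    Ideal.Quotient.eq_zero_iff_mem]
  exact J.mul_mem_right _ haJ

theorem mk_eq_zero_iff (p : Ideal R) [p.IsPrime] (a : R) (s : p.primeCompl) :
    LocalizedModule.mk (Ideal.Quotient.mk p a) s = 0 ↔ a ∈ p := by
  rw [← LocalizedModule.zero_mk (1 : p.primeCompl), LocalizedModule.mk_eq]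
  constructor
  · rintro ⟨u, hu⟩
    simp only [smul_zero, one_smul] at hu
    rw [Submonoid.smul_def, Algebra.smul_def, Ideal.Quotient.algebraMap_eq,
      ← map_mul, Ideal.Quotient.eq_zero_iff_mem] at hu
    exact (Ideal.IsPrime.mem_or_mem ‹_› hu).resolve_left u.2
  · intro ha
    refine ⟨1, ?_⟩
    simp only [smul_zero, one_smul]
    exact Ideal.Quotient.eq_zero_iff_mem.2 ha

theorem lenAt_self (p : Ideal R) [hp : p.IsPrime] : lenAt p p = 1 := by
  unfold lenAt
  rw [Module.length_eq_one_iff, isSimpleModule_iff_toSpanSingleton_surjective]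
  constructor
  · refine ⟨⟨LocalizedModule.mk (Ideal.Quotient.mk p 1) 1, 0, fun h0 => ?_⟩⟩
    rw [mk_eq_zero_iff] at h0
    exact hp.ne_top ((Ideal.eq_top_iff_one p).2 h0)
  · intro x hx z
    revert hx
    refine LocalizedModule.induction_on (fun m₁ s₁ hx => ?_) x
    refine LocalizedModule.induction_on (fun m₂ s₂ => ?_) z
    obtain ⟨a, rfl⟩ := Ideal.Quotient.mk_surjective m₁
    obtain ⟨b, rfl⟩ := Ideal.Quotient.mk_surjective m₂
    have ha : a ∉ p := fun h => hx ((mk_eq_zero_iff p a s₁).2 h)
    refine ⟨Localization.mk (b * s₁) (⟨a, ha⟩ * s₂), ?_⟩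
    rw [LinearMap.toSpanSingleton_apply, LocalizedModule.mk_smul_mk, LocalizedModule.mk_eq]
    refine ⟨1, ?_⟩
    simp only [one_smul, Submonoid.smul_def, Submonoid.coe_mul, Algebra.smul_def,
      Ideal.Quotient.algebraMap_eq, ← map_mul]
    congr 1
    ring

/-- multiplication by `x` as a map `R/(J : x) → R/J` -/
noncomputable def mulMap (J : Ideal R) (x : R) :
    (R ⧸ J.colon ({x} : Set R)) →ₗ[R] (R ⧸ J) :=
  Submodule.mapQ (J.colon ({x} : Set R)) J (LinearMap.mulLeft R x) (by
    intro a ha
    rw [Submodule.mem_colon_singleton, smul_eq_mul] at ha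
    rw [Submodule.mem_comap, LinearMap.mulLeft_apply, mul_comm]
    exact ha)

/-- the projection `R/J → R/(J + x)` -/
noncomputable def projMap (J : Ideal R) (x : R) :
    (R ⧸ J) →ₗ[R] (R ⧸ (J ⊔ Ideal.span {x})) :=
  Submodule.mapQ J (J ⊔ Ideal.span {x}) LinearMap.id (by
    intro a ha
    exact Ideal.mem_sup_left ha)

theorem mulMap_injective (J : Ideal R) (x : R) : Function.Injective (mulMap J x) := by
  rw [← LinearMap.ker_eq_bot, LinearMap.ker_eq_bot']
  intro y hy
  obtain ⟨a, rfl⟩ := Submodule.Quotient.mk_surjective _ y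
  rw [mulMap, Submodule.mapQ_apply, Submodule.Quotient.mk_eq_zero, LinearMap.mulLeft_apply] at hy
  rw [Submodule.Quotient.mk_eq_zero, Submodule.mem_colon_singleton, smul_eq_mul, mul_comm]
  exact hy

theorem projMap_surjective (J : Ideal R) (x : R) : Function.Surjective (projMap J x) := by
  intro y
  obtain ⟨a, rfl⟩ := Submodule.Quotient.mk_surjective _ y
  exact ⟨Submodule.Quotient.mk a, by rw [projMap, Submodule.mapQ_apply]; rfl⟩

theorem exact_mulMap_projMap (J : Ideal R) (x : R) :
    Function.Exact (mulMap J x) (projMap J x) := by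
  intro y
  obtain ⟨a, rfl⟩ := Submodule.Quotient.mk_surjective _ y
  rw [projMap, Submodule.mapQ_apply, LinearMap.id_apply, Submodule.Quotient.mk_eq_zero]
  constructor
  · intro ha
    obtain ⟨j, hj, c, hc, rfl⟩ := Submodule.mem_sup.1 ha
    obtain ⟨c', rfl⟩ := Ideal.mem_span_singleton'.1 hc
    refine ⟨Submodule.Quotient.mk c', ?_⟩
    rw [mulMap, Submodule.mapQ_apply, LinearMap.mulLeft_apply, Submodule.Quotient.eq]
    have : x * c' - (j + c' * x) = -j := by ring
    rw [this]
    exact J.neg_mem hj
  · rintro ⟨z, hz⟩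
    obtain ⟨c, rfl⟩ := Submodule.Quotient.mk_surjective _ z
    rw [mulMap, Submodule.mapQ_apply, LinearMap.mulLeft_apply, Submodule.Quotient.eq] at hz
    have h1 : a = x * c - (x * c - a) := by ring
    rw [h1]
    exact Ideal.sub_mem _ (Ideal.mem_sup_right (Ideal.mem_span_singleton'.2 ⟨c, mul_comm _ _⟩))
      (Ideal.mem_sup_left hz)

/-- additivity of the length along `0 → R/(J : x) → R/J → R/(J + x) → 0` -/
theorem lenAt_add (p : Ideal R) [p.IsPrime] (J : Ideal R) (x : R) :
    lenAt p J = lenAt p (J.colon ({x} : Set R)) + lenAt p (J ⊔ Ideal.span {x}) :=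
  length_localized_add p (mulMap J x) (projMap J x) (mulMap_injective J x)
    (projMap_surjective J x) (exact_mulMap_projMap J x)

theorem lenAt_top (p : Ideal R) [p.IsPrime] : lenAt p ⊤ = 0 :=
  lenAt_eq_zero p ⊤ (fun h => (‹p.IsPrime›).ne_top (top_le_iff.1 h))

end Len

end Groth.Agent.HilbDeg9
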