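import Mathlib
import Groth.Prelude.Def_CycDet
import Groth.Agent.Lib.HilbDeg1_helper9

/-!
# Chains with successive quotients `R/q` (helper3)

For a finite module `M` over a Noetherian local ring and a minimal prime `q` of its support:
existence of `x₁,…,x_l` with successive quotients `R/q` and `q ∉ Supp (M/⟨x⟩)`, and `l = length M_q`.
APPEND-ONLY once landed.
-/

set_option autoImplicit false
universe u

namespace Groth.Agent.Lib.CycChainH3

open CycDet

section Span

variable {R : Type u} [CommRing R] [IsLocalRing R] {M : Type u} [AddCommGroup M] [Module R M]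

theorem spanBefore_zero {l : ℕ} (e : Fin l → M) : spanBefore R M e 0 = ⊥ := by
  unfold spanBefore
  simp

theorem spanBefore_succ {l : ℕ} (e : Fin l → M) (i : Fin l) :
    spanBefore R M e ((i : ℕ) + 1) = spanBefore R M e i ⊔ Submodule.span R {e i} := by
  unfold spanBefore
  rw [← Submodule.span_union]
  congr 1
  ext m
  simp only [Set.mem_image, Set.mem_setOf_eq, Set.mem_union, Set.mem_singleton_iff]
  constructor
  · rintro ⟨j, hj, rfl⟩
    rcases Nat.lt_succ_iff_lt_or_eq.1 hj with h | h
    · exact Or.inl ⟨j, h, rfl⟩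
    · right
      congr 1
      exact Fin.ext h
  · rintro (⟨j, hj, rfl⟩ | rfl)
    · exact ⟨j, Nat.lt_succ_of_lt hj, rfl⟩
    · exact ⟨i, Nat.lt_succ_self _, rfl⟩

theorem spanBefore_top {l : ℕ} (e : Fin l → M) :
    spanBefore R M e l = Submodule.span R (Set.range e) := by
  unfold spanBefore
  congr 1
  ext m
  simp

theorem spanBefore_mono {l : ℕ} (e : Fin l → M) {i j : ℕ} (h : i ≤ j) :
    spanBefore R M e i ≤ spanBefore R M e j :=
  Submodule.span_mono (Set.image_mono fun _ hk => lt_of_lt_of_le hk h)

end Span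

section Len

variable {R : Type u} [CommRing R] {M : Type u} [AddCommGroup M] [Module R M]

/-- localized length -/
noncomputable abbrev ell (q : Ideal R) [q.IsPrime] (N : Type u) [AddCommGroup N] [Module R N] :
    ℕ∞ :=
  Module.length (Localization.AtPrime q) (LocalizedModule q.primeCompl N)

theorem ell_congr (q : Ideal R) [q.IsPrime] {A B : Type u} [AddCommGroup A] [Module R A]
    [AddCommGroup B] [Module R B] (e : A ≃ₗ[R] B) : ell q A = ell q B :=
  LinearEquiv.length_eq (IsLocalizedModule.mapEquiv q.primeCompl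
    (LocalizedModule.mkLinearMap q.primeCompl A) (LocalizedModule.mkLinearMap q.primeCompl B)
    (Localization.AtPrime q) e)

theorem ell_step (q : Ideal R) [q.IsPrime] (N N' : Submodule R M) (h : N ≤ N')
    (e : (↥N' ⧸ N.submoduleOf N') ≃ₗ[R] R ⧸ q) : ell q N' = ell q N + 1 := by
  have hex : Function.Exact (Submodule.inclusion h) (N.submoduleOf N').mkQ := by
    rw [LinearMap.exact_iff, Submodule.ker_mkQ, Submodule.range_inclusion]
    rfl
  have := HilbDeg9.length_localized_add q (Submodule.inclusion h) (N.submoduleOf N').mkQ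
    (Submodule.inclusion_injective h) (Submodule.mkQ_surjective _) hex
  unfold ell
  rw [this]
  congr 1
  exact (ell_congr q e).trans (HilbDeg9.lenAt_self q)

end Len

section Chain

variable {R : Type u} [CommRing R] [IsLocalRing R] {M : Type u} [AddCommGroup M] [Module R M]

theorem ell_spanBefore (q : Ideal R) [q.IsPrime] {l : ℕ} (x : Fin l → M)
    (hx : ∀ i : Fin l, Nonempty ((↥(spanBefore R M x (i + 1)) ⧸
      (spanBefore R M x i).submoduleOf (spanBefore R M x (i + 1))) ≃ₗ[R] (R ⧸ q))) :
    ∀ i : ℕ, i ≤ l → ell q (spanBefore R M x i) = i := by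
  intro i
  induction i with
  | zero =>
    intro _
    rw [spanBefore_zero]
    simp only [Nat.cast_zero]
    rw [Module.length_eq_zero_iff]
    infer_instance
  | succ n ih =>
    intro hn
    obtain ⟨e⟩ := hx ⟨n, hn⟩
    have := ell_step q (spanBefore R M x n) (spanBefore R M x (n + 1))
      (spanBefore_mono x (Nat.le_succ n)) e
    rw [this, ih (Nat.le_of_succ_le hn)]
    push_cast
    rfl

theorem part2 (q : PrimeSpectrum R) {l : ℕ} (x : Fin l → M)
    (hsupp : q ∉ Module.support R (M ⧸ Submodule.span R (Set.range x)))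
    (hx : ∀ i : Fin l, Nonempty ((↥(spanBefore R M x (i + 1)) ⧸
      (spanBefore R M x i).submoduleOf (spanBefore R M x (i + 1))) ≃ₗ[R] (R ⧸ q.asIdeal))) :
    (l : ℕ∞) = Module.length (Localization.AtPrime q.asIdeal)
      (LocalizedModule q.asIdeal.primeCompl M) := by
  have h1 := ell_spanBefore q.asIdeal x hx l le_rfl
  rw [spanBefore_top] at h1
  have h2 := HilbDeg9.length_localized_add q.asIdeal (Submodule.span R (Set.range x)).subtype
    (Submodule.span R (Set.range x)).mkQ (Submodule.injective_subtype _)
    (Submodule.mkQ_surjective _) (LinearMap.exact_subtype_mkQ _)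
  have h3 : ell q.asIdeal (M ⧸ Submodule.span R (Set.range x)) = 0 := by
    rw [Module.length_eq_zero_iff]
    exact Module.notMem_support_iff.1 hsupp
  unfold ell at h1 h3
  rw [h2, h1, h3, add_zero]

end Chain

section Exist

variable {R : Type u} [CommRing R] {M : Type u} [AddCommGroup M] [Module R M]
variable (q : PrimeSpectrum R)

/-- the annihilator of the class of `y` in `M/N` is `q` -/
def P (N : Submodule R M) (y : M) : Prop := ∀ r : R, r • y ∈ N ↔ r ∈ q.asIdeal

theorem exists_P [IsNoetherianRing R] [Module.Finite R M]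
    (hq : Minimal (fun p : PrimeSpectrum R => p ∈ Module.support R M) q) (N : Submodule R M)
    (hN : q ∈ Module.support R (M ⧸ N)) : ∃ y, P q N y := by
  have hmin : q.asIdeal ∈ (Module.annihilator R (M ⧸ N)).minimalPrimes := by
    refine ⟨⟨q.isPrime, Module.annihilator_le_of_mem_support hN⟩, ?_⟩
    rintro p' ⟨hp', hann⟩ hle
    have hmem : (⟨p', hp'⟩ : PrimeSpectrum R) ∈ Module.support R (M ⧸ N) := by
      rw [Module.support_eq_zeroLocus]
      exact hann
    have hmemM : (⟨p', hp'⟩ : PrimeSpectrum R) ∈ Module.support R M :=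
      Module.support_subset_of_surjective N.mkQ (Submodule.mkQ_surjective N) hmem
    exact hq.2 hmemM hle
  have hass := Module.associatedPrimes.minimalPrimes_annihilator_subset_associatedPrimes R
    (M ⧸ N) hmin
  obtain ⟨_, ybar, hy⟩ := (isAssociatedPrime_iff).1 hass
  obtain ⟨y, rfl⟩ := Submodule.mkQ_surjective N ybar
  refine ⟨y, fun r => ?_⟩
  rw [hy, Submodule.mem_colon_singleton, Submodule.mem_bot, ← map_smul, Submodule.mkQ_apply,
    Submodule.Quotient.mk_eq_zero]

open Classical in
/-- a choice of element with annihilator `q` modulo `N`, if one exists -/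
noncomputable def pick (N : Submodule R M) : M := if h : ∃ y, P q N y then h.choose else 0

theorem pick_spec (N : Submodule R M) (h : ∃ y, P q N y) : P q N (pick q N) := by
  unfold pick
  rw [dif_pos h]
  exact h.choose_spec

/-- the chain of submodules -/
noncomputable def Nseq : ℕ → Submodule R M
  | 0 => ⊥
  | n + 1 => Nseq n ⊔ Submodule.span R {pick q (Nseq n)}

theorem Nseq_mono : Monotone (Nseq (M := M) q) :=
  monotone_nat_of_le_succ fun _ => le_sup_left

theorem exists_stop [IsNoetherianRing R] [Module.Finite R M] :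
    ∃ n, ¬ ∃ y, P q (Nseq (M := M) q n) y := by
  have : IsNoetherian R M := isNoetherian_of_isNoetherianRing_of_finite R M
  obtain ⟨n, hn⟩ := monotone_stabilizes_iff_noetherian.2 this ⟨Nseq q, Nseq_mono q⟩
  refine ⟨n, fun h => ?_⟩
  have hP := pick_spec q _ h
  have hmem : pick q (Nseq (M := M) q n) ∈ Nseq q n := by
    have h1 : Nseq (M := M) q n = Nseq q (n + 1) := hn (n + 1) (Nat.le_succ n)
    have h2 : pick q (Nseq (M := M) q n) ∈ Nseq q (n + 1) :=
      Submodule.mem_sup_right (Submodule.mem_span_singleton_self _)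
    rw [← h1] at h2
    exact h2
  have h1 : (1 : R) ∈ q.asIdeal := (hP 1).1 (by rwa [one_smul])
  exact q.isPrime.ne_top ((Ideal.eq_top_iff_one _).2 h1)

theorem quot_iso (N N' : Submodule R M) (y : M) (hN' : N' = N ⊔ Submodule.span R {y})
    (hP : P q N y) : Nonempty ((↥N' ⧸ N.submoduleOf N') ≃ₗ[R] R ⧸ q.asIdeal) := by
  subst hN'
  have hy : y ∈ N ⊔ Submodule.span R {y} :=
    Submodule.mem_sup_right (Submodule.mem_span_singleton_self y)
  let g : R →ₗ[R] (↥(N ⊔ Submodule.span R {y}) ⧸ N.submoduleOf (N ⊔ Submodule.span R {y})) :=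
    (N.submoduleOf (N ⊔ Submodule.span R {y})).mkQ ∘ₗ
      LinearMap.toSpanSingleton R (↥(N ⊔ Submodule.span R {y})) ⟨y, hy⟩
  have hg : ∀ r : R, g r = Submodule.Quotient.mk ⟨r • y, Submodule.smul_mem _ r hy⟩ := by
    intro r
    simp only [g, LinearMap.comp_apply, LinearMap.toSpanSingleton_apply, Submodule.mkQ_apply]
    rfl
  have hker : LinearMap.ker g = q.asIdeal := by
    ext r
    rw [LinearMap.mem_ker, hg, Submodule.Quotient.mk_eq_zero]
    exact hP r
  have hsurj : Function.Surjective g := by
    intro z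
    obtain ⟨⟨w, hw⟩, rfl⟩ := Submodule.mkQ_surjective _ z
    obtain ⟨n, hn, z', hz', rfl⟩ := Submodule.mem_sup.1 hw
    obtain ⟨r, rfl⟩ := Submodule.mem_span_singleton.1 hz'
    refine ⟨r, ?_⟩
    rw [hg, Submodule.mkQ_apply, Submodule.Quotient.eq]
    show (r • y - (n + r • y)) ∈ N
    have : r • y - (n + r • y) = -n := by abel
    rw [this]
    exact N.neg_mem hn
  exact ⟨((Submodule.quotEquivOfEq _ _ hker.symm).trans
    (LinearMap.quotKerEquivOfSurjective g hsurj)).symm⟩

theorem part1 [IsLocalRing R] [IsNoetherianRing R] [Module.Finite R M]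
    (hq : Minimal (fun p : PrimeSpectrum R => p ∈ Module.support R M) q) :
    ∃ (l : ℕ) (x : Fin l → M), q ∉ Module.support R (M ⧸ Submodule.span R (Set.range x)) ∧
      ∀ i : Fin l, Nonempty ((↥(spanBefore R M x (i + 1)) ⧸
        (spanBefore R M x i).submoduleOf (spanBefore R M x (i + 1))) ≃ₗ[R] (R ⧸ q.asIdeal)) := by
  classical
  have hex := exists_stop (M := M) q
  refine ⟨Nat.find hex, fun i => pick q (Nseq q i), ?_, ?_⟩
  all_goals
    have key : ∀ i : ℕ, i ≤ Nat.find hex →
        spanBefore R M (fun i : Fin (Nat.find hex) => pick q (Nseq (M := M) q i)) i = Nseq q i := by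
      intro i
      induction i with
      | zero => intro _; exact (spanBefore_zero (R := R) (M := M) _).trans rfl
      | succ n ih =>
        intro hn
        have := spanBefore_succ (R := R)
          (fun i : Fin (Nat.find hex) => pick q (Nseq (M := M) q i)) ⟨n, hn⟩
        simp only at this
        rw [this, ih (Nat.le_of_succ_le hn)]
        rfl
  · rw [← spanBefore_top, key _ le_rfl]
    intro hmem
    exact Nat.find_spec hex (exists_P q hq _ hmem)
  · intro i
    have hlt : ∃ y, P q (Nseq (M := M) q i) y := by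
      by_contra hcon
      exact Nat.find_min hex i.2 hcon
    have hP : P q (spanBefore R M (fun i : Fin (Nat.find hex) => pick q (Nseq (M := M) q i)) i)
        (pick q (Nseq q i)) := by
      rw [key i i.2.le]
      exact pick_spec q _ hlt
    refine quot_iso q _ _ (pick q (Nseq q i)) ?_ hP
    exact spanBefore_succ (fun i : Fin (Nat.find hex) => pick q (Nseq (M := M) q i)) i

end Exist

end Groth.Agent.Lib.CycChainH3
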