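import Mathlib
import Groth.Agent.Lib.NormalLift_helper4

/-!
# Cyclic covers: preliminaries (helper3)

* `mem_range_of_isIntegral`: a ring all of whose localizations at maximal ideals are integrally
  closed domains is integrally closed in any localization at nonzerodivisors.
* `exists_data`: Bezout data for a cyclic cover.
* group identities `mul1`-`mul6`.
-/

set_option autoImplicit false
universe u

namespace Groth.Agent.Lib.CycCovH3

section normal

/-- A ring whose localizations at maximal ideals are integrally closed domains is integrally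
closed in every localization at a submonoid of nonzerodivisors. -/
theorem mem_range_of_isIntegral {R : Type u} [CommRing R] (M : Submonoid R)
    (hM : M ≤ nonZeroDivisors R) {L : Type u} [CommRing L] [Algebra R L] [IsLocalization M L]
    (hR : ∀ (Q : Ideal R) [Q.IsMaximal], IsDomain (Localization.AtPrime Q) ∧
      IsIntegrallyClosed (Localization.AtPrime Q))
    (x : L) (hx : IsIntegral R x) : ∃ y : R, algebraMap R L y = x := by
  obtain ⟨⟨r, m⟩, h⟩ := IsLocalization.surj M x
  simp only at h
  have hmem : r ∈ Ideal.span {(m : R)} := by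
    apply Ideal.mem_of_localization_maximal
    intro Q hQ
    obtain ⟨hdom, hic⟩ := hR Q
    have hm0 : algebraMap R (Localization.AtPrime Q) (m : R) ≠ 0 := by
      have h1 : algebraMap R (Localization.AtPrime Q) (m : R) ∈
          nonZeroDivisors (Localization.AtPrime Q) :=
        IsLocalization.map_nonZeroDivisors_le Q.primeCompl (Localization.AtPrime Q)
          ⟨(m : R), hM m.2, rfl⟩
      exact nonZeroDivisors.ne_zero h1
    let F := FractionRing (Localization.AtPrime Q)
    have hunit : ∀ y : M, IsUnit ((Algebra.ofId R F) (y : R)) := by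
      intro y
      have h1 : algebraMap R (Localization.AtPrime Q) (y : R) ∈
          nonZeroDivisors (Localization.AtPrime Q) :=
        IsLocalization.map_nonZeroDivisors_le Q.primeCompl (Localization.AtPrime Q)
          ⟨(y : R), hM y.2, rfl⟩
      have h2 : algebraMap (Localization.AtPrime Q) F
          (algebraMap R (Localization.AtPrime Q) (y : R)) ≠ 0 := by
        intro h0
        exact nonZeroDivisors.ne_zero h1
          ((IsFractionRing.injective (Localization.AtPrime Q) F) (by rw [h0, map_zero]))
      have h3 : (Algebra.ofId R F) (y : R) = algebraMap (Localization.AtPrime Q) F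
          (algebraMap R (Localization.AtPrime Q) (y : R)) := by
        rw [Algebra.ofId_apply, IsScalarTower.algebraMap_apply R (Localization.AtPrime Q) F]
      rw [h3]
      exact IsUnit.mk0 _ h2
    let g : L →ₐ[R] F := IsLocalization.liftAlgHom (M := M) (f := Algebra.ofId R F) hunit
    have hg : ∀ c : R, g (algebraMap R L c) = algebraMap (Localization.AtPrime Q) F
        (algebraMap R (Localization.AtPrime Q) c) := by
      intro c
      rw [AlgHom.commutes, IsScalarTower.algebraMap_apply R (Localization.AtPrime Q) F]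
    have hgx : IsIntegral (Localization.AtPrime Q) (g x) :=
      (IsIntegral.map g hx).tower_top
    obtain ⟨z, hz⟩ := (IsIntegrallyClosed.isIntegral_iff (R := Localization.AtPrime Q)
      (K := F)).1 hgx
    have h4 : z * algebraMap R (Localization.AtPrime Q) (m : R) =
        algebraMap R (Localization.AtPrime Q) r := by
      apply IsFractionRing.injective (Localization.AtPrime Q) F
      rw [map_mul, hz, ← hg, ← hg, ← map_mul, h]
    rw [Ideal.map_span, Set.image_singleton, Ideal.mem_span_singleton]
    exact ⟨z, by rw [← h4, mul_comm]⟩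
  obtain ⟨c, hc⟩ := Ideal.mem_span_singleton.1 hmem
  refine ⟨c, ?_⟩
  have hmu : IsUnit (algebraMap R L (m : R)) := IsLocalization.map_units L m
  apply hmu.mul_right_cancel
  rw [h, hc, map_mul, mul_comm]

end normal

section arith

/-- Bezout data for a cyclic cover. -/
theorem exists_data (N α : ℕ) (hN : 0 < N) :
    ∃ (d N' α' a : ℕ) (b : ℤ), N = d * N' ∧ α = d * α' ∧ a < N ∧
      (a : ℤ) * α' - b * N' = 1 := by
  obtain ⟨d, N', α', hd, hcop0, hN', hα'⟩ :=
    Nat.exists_coprime' (m := N) (n := α) (Nat.gcd_pos_of_pos_left _ hN)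
  rw [mul_comm] at hN' hα'
  have hN'pos : 0 < N' := by
    rcases Nat.eq_zero_or_pos N' with h | h
    · rw [h, mul_zero] at hN'; omega
    · exact h
  have hcop : Nat.gcd α' N' = 1 := by
    rw [Nat.gcd_comm]; exact hcop0
  have hbez := Nat.gcd_eq_gcd_ab α' N'
  rw [hcop] at hbez
  set A := Nat.gcdA α' N' with hA
  set Bz := Nat.gcdB α' N' with hBz
  have hN'z : (0 : ℤ) < (N' : ℤ) := by exact_mod_cast hN'pos
  have ha0 : 0 ≤ A % (N' : ℤ) := Int.emod_nonneg _ hN'z.ne'
  have ha1 : A % (N' : ℤ) < N' := Int.emod_lt_of_pos _ hN'z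
  refine ⟨d, N', α', (A % (N' : ℤ)).toNat, -(Bz + α' * (A / (N' : ℤ))), hN', hα', ?_, ?_⟩
  · have h1 : (A % (N' : ℤ)).toNat < N' := by
      rw [Int.toNat_lt ha0]; exact ha1
    have h2 : N' ≤ N := by
      rw [hN']; exact Nat.le_mul_of_pos_left _ hd
    omega
  · rw [Int.toNat_of_nonneg ha0]
    have h3 : A = (N' : ℤ) * (A / (N' : ℤ)) + A % (N' : ℤ) := (Int.mul_ediv_add_emod A N').symm
    have h4 : (1 : ℤ) = α' * A + N' * Bz := by exact_mod_cast hbez
    have h5 : A % (N' : ℤ) = A - (N' : ℤ) * (A / (N' : ℤ)) := by linarith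
    rw [h5]
    linear_combination -h4

end arith

section groupIds

theorem add1 {M : Type*} [AddCommGroup M] (T F U : M) (N' d α' : ℤ)
    (h : (d * N') • T = U + (d * α') • F) : d • (N' • T - α' • F) = U := by
  linear_combination (norm := module) h

theorem add2 {M : Type*} [AddCommGroup M] (T F : M) (N' α' a b : ℤ)
    (hab : a * α' - b * N' = 1) :
    N' • (a • T - b • F) = a • (N' • T - α' • F) + F := by
  have : N' • (a • T - b • F) = a • (N' • T - α' • F) + (a * α' - b * N') • F := by module
  rw [this, hab, one_smul]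

theorem add3 {M : Type*} [AddCommGroup M] (T F : M) (N' α' a b : ℤ)
    (hab : a * α' - b * N' = 1) :
    α' • (a • T - b • F) - b • (N' • T - α' • F) = T := by
  have : α' • (a • T - b • F) - b • (N' • T - α' • F) = (a * α' - b * N') • T := by module
  rw [this, hab, one_smul]

theorem add4 {M : Type*} [AddCommGroup M] (ω σ F U : M) (N' d α' a b : ℤ)
    (hab : a * α' - b * N' = 1)
    (h1 : d • ω = U) (h2 : N' • σ = a • ω + F) :
    (d * N') • (α' • σ - b • ω) = U + (d * α') • F := by
  have : (d * N') • (α' • σ - b • ω) = (a * α' - b * N') • U + (d * α') • F := by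
    linear_combination (norm := module) (a * α' - b * N') • h1 + (d * α') • h2
  rw [this, hab, one_smul]

theorem add5 {M : Type*} [AddCommGroup M] (ω σ F : M) (N' α' a b : ℤ)
    (hab : a * α' - b * N' = 1) (h2 : N' • σ = a • ω + F) :
    N' • (α' • σ - b • ω) - α' • F = ω := by
  have : N' • (α' • σ - b • ω) - α' • F = (a * α' - b * N') • ω := by
    linear_combination (norm := module) α' • h2
  rw [this, hab, one_smul]

theorem add6 {M : Type*} [AddCommGroup M] (ω σ F : M) (N' α' a b : ℤ)
    (hab : a * α' - b * N' = 1) (h2 : N' • σ = a • ω + F) :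
    a • (α' • σ - b • ω) - b • F = σ := by
  have : a • (α' • σ - b • ω) - b • F = (a * α' - b * N') • σ := by
    linear_combination (norm := module) b • h2
  rw [this, hab, one_smul]

variable {G : Type*} [CommGroup G]

theorem mul1 (T F U : G) (N' d α' : ℤ)
    (h : T ^ (d * N') = U * F ^ (d * α')) : (T ^ N' / F ^ α') ^ d = U :=
  add1 (M := Additive G) T F U N' d α' h

theorem mul2 (T F : G) (N' α' a b : ℤ) (hab : a * α' - b * N' = 1) :
    (T ^ a / F ^ b) ^ N' = (T ^ N' / F ^ α') ^ a * F :=
  add2 (M := Additive G) T F N' α' a b hab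

theorem mul3 (T F : G) (N' α' a b : ℤ) (hab : a * α' - b * N' = 1) :
    (T ^ a / F ^ b) ^ α' / (T ^ N' / F ^ α') ^ b = T :=
  add3 (M := Additive G) T F N' α' a b hab

theorem mul4 (ω σ F U : G) (N' d α' a b : ℤ) (hab : a * α' - b * N' = 1)
    (h1 : ω ^ d = U) (h2 : σ ^ N' = ω ^ a * F) :
    (σ ^ α' / ω ^ b) ^ (d * N') = U * F ^ (d * α') :=
  add4 (M := Additive G) ω σ F U N' d α' a b hab h1 h2

theorem mul5 (ω σ F : G) (N' α' a b : ℤ) (hab : a * α' - b * N' = 1)
    (h2 : σ ^ N' = ω ^ a * F) :
    (σ ^ α' / ω ^ b) ^ N' / F ^ α' = ω :=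
  add5 (M := Additive G) ω σ F N' α' a b hab h2

theorem mul6 (ω σ F : G) (N' α' a b : ℤ) (hab : a * α' - b * N' = 1)
    (h2 : σ ^ N' = ω ^ a * F) :
    (σ ^ α' / ω ^ b) ^ a / F ^ b = σ :=
  add6 (M := Additive G) ω σ F N' α' a b hab h2

end groupIds

end Groth.Agent.Lib.CycCovH3
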