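import Mathlib
import Groth.Agent.Lib.Regular_helper5
import Groth.Agent.Lib.RegFlat_helper3
import Groth.Agent.Lib.SmoothRegHom_helper3
import Groth.Agent.Lib.RegLoc_helper3
import Groth.Agent.Lib.Jacobian_helper3

/-!
# Regularity of Kummer coverings `A[t]/(t^e - s)` (helper3)

* `isRegularLocalRing_of_quotient`: a Noetherian local ring `R` with a regular element `x ∈ 𝔪` such
  that `R/(x)` is regular is regular.
* `ker_toQuot`: `A[t]/(t^e - s) / (t) ≅ A/(s)`.
* `isRegularRing_adjoinRoot`: for a regular local ring `A`, `s ≠ 0` with `A/(s)` regular and `e`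
  invertible, `A[t]/(t^e - s)` is regular.
APPEND-ONLY once landed.
-/

set_option autoImplicit false
universe u

open Polynomial IsLocalRing

namespace Groth.Agent.Lib.KummerRegH3

section quotient

theorem isRegularLocalRing_of_quotient {R : Type u} [CommRing R] [IsLocalRing R]
    [IsNoetherianRing R] (x : R) (hx : x ∈ maximalIdeal R) (hreg : IsSMulRegular R x)
    [IsLocalRing (R ⧸ Ideal.span {x})] [IsRegularLocalRing (R ⧸ Ideal.span {x})] :
    IsRegularLocalRing R := by
  classical
  apply IsRegularLocalRing.of_spanFinrank_maximalIdeal_le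
  have hdim := ringKrullDim_quotient_span_singleton_succ_eq_ringKrullDim hreg hx
  have h0 : ((maximalIdeal (R ⧸ Ideal.span {x})).spanFinrank : WithBot ℕ∞) =
      ringKrullDim (R ⧸ Ideal.span {x}) := IsRegularLocalRing.spanFinrank_maximalIdeal
  have hfg0 : Submodule.FG (maximalIdeal (R ⧸ Ideal.span {x})) := IsNoetherian.noetherian _
  set t : Set (R ⧸ Ideal.span {x}) :=
    Submodule.generators (maximalIdeal (R ⧸ Ideal.span {x})) with ht
  have htfin : t.Finite := hfg0.finite_generators
  have htspan : Ideal.span t = maximalIdeal (R ⧸ Ideal.span {x}) := Submodule.span_generators _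
  have htcard : t.ncard = (maximalIdeal (R ⧸ Ideal.span {x})).spanFinrank :=
    hfg0.generators_ncard
  have hmk : Function.Surjective (Ideal.Quotient.mk (Ideal.span {x})) :=
    Ideal.Quotient.mk_surjective
  set t' : Set R := Function.surjInv hmk '' t with ht'
  have ht'img : (Ideal.Quotient.mk (Ideal.span {x})) '' t' = t := by
    rw [ht', Set.image_image]
    simp [Function.surjInv_eq hmk]
  haveI : IsLocalHom (Ideal.Quotient.mk (Ideal.span {x})) := IsLocalHom.of_surjective _ hmk
  have hcomap : (maximalIdeal (R ⧸ Ideal.span {x})).comap (Ideal.Quotient.mk (Ideal.span {x})) =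
      maximalIdeal R := IsLocalRing.maximalIdeal_comap _
  have h1 : maximalIdeal R = Ideal.span t' ⊔ Ideal.span {x} := by
    rw [← hcomap, ← htspan, ← ht'img, ← Ideal.map_span,
      Ideal.comap_map_of_surjective _ hmk, ← RingHom.ker_eq_comap_bot, Ideal.mk_ker]
  have h3 : maximalIdeal R = Ideal.span (t' ∪ {x}) := by
    rw [Ideal.span_union, ← h1]
  have hfin : (t' ∪ {x}).Finite := (htfin.image _).union (Set.finite_singleton x)
  have hle : (maximalIdeal R).spanFinrank ≤
      (maximalIdeal (R ⧸ Ideal.span {x})).spanFinrank + 1 :=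
    calc (maximalIdeal R).spanFinrank
        = (Ideal.span (t' ∪ {x})).spanFinrank := by rw [← h3]
      _ ≤ (t' ∪ {x}).ncard := Submodule.spanFinrank_span_le_ncard_of_finite hfin
      _ ≤ t'.ncard + ({x} : Set R).ncard := Set.ncard_union_le _ _
      _ ≤ t.ncard + 1 := add_le_add (Set.ncard_image_le htfin) (by simp)
      _ = _ := by rw [htcard]
  rw [← hdim, ← h0]
  exact_mod_cast hle

end quotient

section kummer

variable {A : Type u} [CommRing A] (s : A) (e : ℕ)

/-- The Kummer polynomial `X^e - s`. -/
noncomputable abbrev poly : A[X] := X ^ e - C s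

theorem root_pow : AdjoinRoot.root (poly s e) ^ e = AdjoinRoot.of (poly s e) s := by
  have h := AdjoinRoot.eval₂_root (poly s e)
  rw [poly, eval₂_sub, eval₂_X_pow, eval₂_C, sub_eq_zero] at h
  exact h

/-- The map `A[t]/(t^e - s) → A/(s)`, `t ↦ 0`. -/
noncomputable def toQuot (he : 0 < e) : AdjoinRoot (poly s e) →+* A ⧸ Ideal.span {s} :=
  AdjoinRoot.lift (Ideal.Quotient.mk _) 0 (by
    rw [poly, eval₂_sub, eval₂_X_pow, eval₂_C, zero_pow he.ne', zero_sub, neg_eq_zero,
      Ideal.Quotient.eq_zero_iff_mem]
    exact Ideal.mem_span_singleton_self s)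

theorem toQuot_of (he : 0 < e) (a : A) :
    toQuot s e he (AdjoinRoot.of (poly s e) a) = Ideal.Quotient.mk _ a := by
  simp [toQuot]

theorem toQuot_root (he : 0 < e) : toQuot s e he (AdjoinRoot.root (poly s e)) = 0 := by
  simp [toQuot]

theorem toQuot_surjective (he : 0 < e) : Function.Surjective (toQuot s e he) := by
  intro y
  obtain ⟨a, rfl⟩ := Ideal.Quotient.mk_surjective y
  exact ⟨AdjoinRoot.of _ a, toQuot_of s e he a⟩

theorem ker_toQuot (he : 0 < e) :
    RingHom.ker (toQuot s e he) = Ideal.span {AdjoinRoot.root (poly s e)} := by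
  apply le_antisymm
  · intro b hb
    obtain ⟨g, rfl⟩ := AdjoinRoot.mk_surjective b
    rw [RingHom.mem_ker] at hb
    have hg : g = X * divX g + C (g.coeff 0) := (X_mul_divX_add g).symm
    have h1 : AdjoinRoot.mk (poly s e) g =
        AdjoinRoot.root (poly s e) * AdjoinRoot.mk (poly s e) (divX g) +
          AdjoinRoot.of (poly s e) (g.coeff 0) := by
      conv_lhs => rw [hg]
      rw [map_add, map_mul, AdjoinRoot.mk_X, AdjoinRoot.mk_C]
    rw [h1, map_add, map_mul, toQuot_root, zero_mul, zero_add, toQuot_of,
      Ideal.Quotient.eq_zero_iff_mem, Ideal.mem_span_singleton'] at hb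
    obtain ⟨a, ha⟩ := hb
    rw [h1, ← ha, map_mul, ← root_pow, Ideal.mem_span_singleton']
    refine ⟨AdjoinRoot.mk (poly s e) (divX g) +
      AdjoinRoot.of (poly s e) a * AdjoinRoot.root (poly s e) ^ (e - 1), ?_⟩
    have : AdjoinRoot.root (poly s e) ^ e =
        AdjoinRoot.root (poly s e) ^ (e - 1) * AdjoinRoot.root (poly s e) := by
      rw [← pow_succ, Nat.sub_add_cancel he]
    rw [this]
    ring
  · rw [Ideal.span_le, Set.singleton_subset_iff]
    exact toQuot_root s e he

end kummer

section main

variable (A : Type u) [CommRing A] (s : A) (e : ℕ)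

/-- The standard étale pair `(X^e - s, s)`. -/
noncomputable def pair (he : 0 < e) (heu : IsUnit (e : A)) : StandardEtalePair A where
  f := poly s e
  monic_f := monic_X_pow_sub_C s he.ne'
  g := C s
  cond := by
    obtain ⟨u, hu⟩ := heu
    refine ⟨C (↑u⁻¹ : A) * X, -1, 1, ?_⟩
    rw [pow_one, poly, derivative_sub, derivative_X_pow, derivative_C, sub_zero]
    have h1 : (C (e : A) : A[X]) * C (↑u⁻¹ : A) = 1 := by
      rw [← C_mul, ← hu, Units.mul_inv, C_1]
    have h2 : (X : A[X]) ^ (e - 1) * X = X ^ e := by rw [← pow_succ, Nat.sub_add_cancel he]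
    calc C (e : A) * X ^ (e - 1) * (C (↑u⁻¹ : A) * X) + (X ^ e - C s) * (-1)
        = (C (e : A) * C (↑u⁻¹ : A)) * (X ^ (e - 1) * X) - (X ^ e - C s) := by ring
      _ = C s := by rw [h1, h2]; ring

theorem etale_away (he : 0 < e) (heu : IsUnit (e : A)) :
    Algebra.Etale A (Localization.Away (AdjoinRoot.mk (poly s e) (C s))) :=
  Algebra.Etale.of_equiv (pair A s e he heu).equivAwayAdjoinRoot

theorem isRegularRing_away [IsRegularRing A] (he : 0 < e) (heu : IsUnit (e : A)) :
    IsRegularRing (Localization.Away (AdjoinRoot.mk (poly s e) (C s))) := by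
  haveI := etale_away A s e he heu
  have hR := SmoothRegHomH3.isRegularHom_of_smooth A
    (Localization.Away (AdjoinRoot.mk (poly s e) (C s)))
  haveI : Module.Flat A (Localization.Away (AdjoinRoot.mk (poly s e) (C s))) := hR.1
  haveI : IsNoetherianRing (Localization.Away (AdjoinRoot.mk (poly s e) (C s))) :=
    Algebra.FiniteType.isNoetherianRing A _
  apply RegFlatH3.isRegularRing_of_flat_of_fiber A
    (Localization.Away (AdjoinRoot.mk (poly s e) (C s)))
  intro p hp
  exact RegFlatH3.isRegularRing_of_isGeometricallyRegular _ _ (hR.2 p).2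

/-- For a regular local ring `A`, `s ≠ 0` with `A/(s)` regular and `e` invertible in `A`,
`A[t]/(t^e - s)` is regular. -/
theorem isRegularRing_adjoinRoot [IsLocalRing A] [IsRegularRing A] (hs : s ≠ 0)
    (hreg : IsRegularRing (A ⧸ Ideal.span {s})) (he : 0 < e) (heu : IsUnit (e : A)) :
    IsRegularRing (AdjoinRoot (poly s e)) := by
  haveI : IsNoetherianRing (AdjoinRoot (poly s e)) :=
    (inferInstance : IsNoetherianRing (A[X] ⧸ Ideal.span {poly s e}))
  rw [isRegularRing_iff]
  intro Q hQ
  by_cases hsQ : AdjoinRoot.mk (poly s e) (C s) ∈ Q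
  · -- the ramified case
    have hrQ : AdjoinRoot.root (poly s e) ∈ Q := by
      have h1 : AdjoinRoot.root (poly s e) ^ e ∈ Q := by
        rw [root_pow, ← AdjoinRoot.mk_C]; exact hsQ
      exact hQ.mem_of_pow_mem e h1
    haveI : IsRegularLocalRing A := IsRegularLocalRing.of_isRegularRing_of_isLocalRing A
    haveI : IsDomain A := Groth.Agent.RegularLib.isDomain A
    haveI : Module.Free A (AdjoinRoot (poly s e)) :=
      Module.Free.of_basis (AdjoinRoot.powerBasis' (monic_X_pow_sub_C s he.ne')).basis
    have hs_reg : ∀ b : AdjoinRoot (poly s e), AdjoinRoot.mk (poly s e) (C s) * b = 0 → b = 0 := by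
      intro b hb
      have h1 : IsSMulRegular (AdjoinRoot (poly s e)) s :=
        Module.Flat.isSMulRegular_of_nonZeroDivisors (mem_nonZeroDivisors_of_ne_zero hs)
      apply h1
      show s • b = s • (0 : AdjoinRoot (poly s e))
      rw [smul_zero, Algebra.smul_def, AdjoinRoot.algebraMap_eq, ← AdjoinRoot.mk_C]
      exact hb
    have hr_reg : AdjoinRoot.root (poly s e) ∈ nonZeroDivisors (AdjoinRoot (poly s e)) := by
      rw [mem_nonZeroDivisors_iff_right]
      intro b hb
      apply hs_reg
      have h2 : AdjoinRoot.root (poly s e) ^ e =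
          AdjoinRoot.root (poly s e) ^ (e - 1) * AdjoinRoot.root (poly s e) := by
        rw [← pow_succ, Nat.sub_add_cancel he]
      rw [AdjoinRoot.mk_C, ← root_pow, h2, mul_assoc, mul_comm _ b, hb, mul_zero]
    haveI : IsNoetherianRing (Localization.AtPrime Q) :=
      IsLocalization.isNoetherianRing Q.primeCompl _ inferInstance
    have hx : algebraMap (AdjoinRoot (poly s e)) (Localization.AtPrime Q)
        (AdjoinRoot.root (poly s e)) ∈ maximalIdeal (Localization.AtPrime Q) :=
      (IsLocalization.AtPrime.to_map_mem_maximal_iff (Localization.AtPrime Q) Q _).2 hrQ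
    have hxreg : IsSMulRegular (Localization.AtPrime Q)
        (algebraMap (AdjoinRoot (poly s e)) (Localization.AtPrime Q)
          (AdjoinRoot.root (poly s e))) := by
      haveI : Module.Flat (AdjoinRoot (poly s e)) (Localization.AtPrime Q) :=
        IsLocalization.flat _ Q.primeCompl
      have h1 : IsSMulRegular (Localization.AtPrime Q) (AdjoinRoot.root (poly s e)) :=
        Module.Flat.isSMulRegular_of_nonZeroDivisors hr_reg
      intro a b hab
      apply h1
      simpa [Algebra.smul_def] using hab
    have hJQ : Ideal.span {AdjoinRoot.root (poly s e)} ≤ Q :=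
      (Ideal.span_singleton_le_iff_mem _).2 hrQ
    let eC : (AdjoinRoot (poly s e) ⧸ Ideal.span {AdjoinRoot.root (poly s e)}) ≃+*
        A ⧸ Ideal.span {s} :=
      (Ideal.quotEquivOfEq (ker_toQuot s e he).symm).trans
        (RingHom.quotientKerEquivOfSurjective (toQuot_surjective s e he))
    haveI : IsRegularRing
        (AdjoinRoot (poly s e) ⧸ Ideal.span {AdjoinRoot.root (poly s e)}) :=
      IsRegularRing.of_ringEquiv eC.symm
    haveI : (Q.map (Ideal.Quotient.mk (Ideal.span {AdjoinRoot.root (poly s e)}))).IsPrime :=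
      Ideal.map_isPrime_of_surjective Ideal.Quotient.mk_surjective (by rwa [Ideal.mk_ker])
    obtain ⟨e2⟩ := JacobianH3.nonempty_algEquiv_quotient_localization (AdjoinRoot (poly s e))
      (Ideal.span {AdjoinRoot.root (poly s e)}) Q hJQ
    have hmap : (Ideal.span {AdjoinRoot.root (poly s e)}).map
        (algebraMap (AdjoinRoot (poly s e)) (Localization.AtPrime Q)) =
        Ideal.span {algebraMap (AdjoinRoot (poly s e)) (Localization.AtPrime Q)
          (AdjoinRoot.root (poly s e))} := by
      rw [Ideal.map_span, Set.image_singleton]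
    let e3 : (Localization.AtPrime Q ⧸
        Ideal.span {algebraMap (AdjoinRoot (poly s e)) (Localization.AtPrime Q)
          (AdjoinRoot.root (poly s e))}) ≃+*
        Localization.AtPrime
          (Q.map (Ideal.Quotient.mk (Ideal.span {AdjoinRoot.root (poly s e)}))) :=
      (Ideal.quotEquivOfEq hmap.symm).trans e2.toRingEquiv
    haveI : IsLocalRing (Localization.AtPrime Q ⧸
        Ideal.span {algebraMap (AdjoinRoot (poly s e)) (Localization.AtPrime Q)
          (AdjoinRoot.root (poly s e))}) := e3.symm.isLocalRing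
    haveI : IsRegularLocalRing (Localization.AtPrime Q ⧸
        Ideal.span {algebraMap (AdjoinRoot (poly s e)) (Localization.AtPrime Q)
          (AdjoinRoot.root (poly s e))}) := IsRegularLocalRing.of_ringEquiv e3.symm
    exact isRegularLocalRing_of_quotient _ hx hxreg
  · -- the étale case
    haveI : IsRegularRing (Localization.Away (AdjoinRoot.mk (poly s e) (C s))) :=
      isRegularRing_away A s e he heu
    have hunit : IsUnit (algebraMap (AdjoinRoot (poly s e)) (Localization.AtPrime Q)
        (AdjoinRoot.mk (poly s e) (C s))) :=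
      IsLocalization.map_units _ (⟨_, hsQ⟩ : Q.primeCompl)
    letI : Algebra (Localization.Away (AdjoinRoot.mk (poly s e) (C s)))
        (Localization.AtPrime Q) :=
      (IsLocalization.Away.lift (AdjoinRoot.mk (poly s e) (C s)) hunit).toAlgebra
    haveI : IsScalarTower (AdjoinRoot (poly s e))
        (Localization.Away (AdjoinRoot.mk (poly s e) (C s))) (Localization.AtPrime Q) :=
      IsScalarTower.of_algebraMap_eq' (IsLocalization.Away.lift_comp _ hunit).symm
    haveI : IsLocalization (Q.primeCompl.map (algebraMap (AdjoinRoot (poly s e))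
        (Localization.Away (AdjoinRoot.mk (poly s e) (C s))))) (Localization.AtPrime Q) :=
      IsLocalization.isLocalization_of_submonoid_le _ _
        (Submonoid.powers (AdjoinRoot.mk (poly s e) (C s))) Q.primeCompl
        (Submonoid.powers_le.2 hsQ)
    haveI : IsRegularRing (Localization.AtPrime Q) :=
      RegLocH3.isRegularRing_of_isLocalization
        (Q.primeCompl.map (algebraMap (AdjoinRoot (poly s e))
          (Localization.Away (AdjoinRoot.mk (poly s e) (C s))))) _
    exact IsRegularLocalRing.of_isRegularRing_of_isLocalRing _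

end main

end Groth.Agent.Lib.KummerRegH3
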