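import Mathlib
import Groth.Agent.Lib.KummerReg_helper3

/-!
# Regularity of Kummer coverings over a non-local regular base (helper3)
-/

set_option autoImplicit false
universe u

open Polynomial IsLocalRing

namespace Groth.Agent.Lib.KummerRegH3

section main2

variable (A : Type u) [CommRing A] (s : A) (e : ℕ)

/-- For a regular ring `A`, a nonzerodivisor `s` with `A/(s)` regular and `e` invertible in `A`,
`A[t]/(t^e - s)` is regular. -/
theorem isRegularRing_adjoinRoot' [IsRegularRing A] (hs : s ∈ nonZeroDivisors A)
    (hreg : IsRegularRing (A ⧸ Ideal.span {s})) (he : 0 < e) (heu : IsUnit (e : A)) :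
    IsRegularRing (AdjoinRoot (poly s e)) := by
  haveI : IsNoetherianRing (AdjoinRoot (poly s e)) :=
    (inferInstance : IsNoetherianRing (A[X] ⧸ Ideal.span {poly s e}))
  rw [isRegularRing_iff]
  intro Q hQ
  by_cases hsQ : AdjoinRoot.mk (poly s e) (C s) ∈ Q
  · -- the ramified case
    have hrQ : AdjoinRoot.root (poly s e) ∈ Q := by
      have h1 : AdjoinRoot.root (poly s e) ^ e ∈ Q := by
        rw [root_pow, ← AdjoinRoot.mk_C]; exact hsQ
      exact hQ.mem_of_pow_mem e h1
    haveI : Module.Free A (AdjoinRoot (poly s e)) :=
      Module.Free.of_basis (AdjoinRoot.powerBasis' (monic_X_pow_sub_C s he.ne')).basis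
    have hs_reg : ∀ b : AdjoinRoot (poly s e), AdjoinRoot.mk (poly s e) (C s) * b = 0 → b = 0 := by
      intro b hb
      have h1 : IsSMulRegular (AdjoinRoot (poly s e)) s :=
        Module.Flat.isSMulRegular_of_nonZeroDivisors hs
      apply h1
      show s • b = s • (0 : AdjoinRoot (poly s e))
      rw [smul_zero, Algebra.smul_def, AdjoinRoot.algebraMap_eq, ← AdjoinRoot.mk_C]
      exact hb
    have hr_reg : AdjoinRoot.root (poly s e) ∈ nonZeroDivisors (AdjoinRoot (poly s e)) := by
      rw [mem_nonZeroDivisors_iff_right]
      intro b hb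
      apply hs_reg
      have h2 : AdjoinRoot.root (poly s e) ^ e =
          AdjoinRoot.root (poly s e) ^ (e - 1) * AdjoinRoot.root (poly s e) := by
        rw [← pow_succ, Nat.sub_add_cancel he]
      rw [AdjoinRoot.mk_C, ← root_pow, h2, mul_assoc, mul_comm _ b, hb, mul_zero]
    haveI : IsNoetherianRing (Localization.AtPrime Q) :=
      IsLocalization.isNoetherianRing Q.primeCompl _ inferInstance
    have hx : algebraMap (AdjoinRoot (poly s e)) (Localization.AtPrime Q)
        (AdjoinRoot.root (poly s e)) ∈ maximalIdeal (Localization.AtPrime Q) :=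
      (IsLocalization.AtPrime.to_map_mem_maximal_iff (Localization.AtPrime Q) Q _).2 hrQ
    have hxreg : IsSMulRegular (Localization.AtPrime Q)
        (algebraMap (AdjoinRoot (poly s e)) (Localization.AtPrime Q)
          (AdjoinRoot.root (poly s e))) := by
      haveI : Module.Flat (AdjoinRoot (poly s e)) (Localization.AtPrime Q) :=
        IsLocalization.flat _ Q.primeCompl
      have h1 : IsSMulRegular (Localization.AtPrime Q) (AdjoinRoot.root (poly s e)) :=
        Module.Flat.isSMulRegular_of_nonZeroDivisors hr_reg
      intro a b hab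
      apply h1
      simpa [Algebra.smul_def] using hab
    have hJQ : Ideal.span {AdjoinRoot.root (poly s e)} ≤ Q :=
      (Ideal.span_singleton_le_iff_mem _).2 hrQ
    let eC : (AdjoinRoot (poly s e) ⧸ Ideal.span {AdjoinRoot.root (poly s e)}) ≃+*
        A ⧸ Ideal.span {s} :=
      (Ideal.quotEquivOfEq (ker_toQuot s e he).symm).trans
        (RingHom.quotientKerEquivOfSurjective (toQuot_surjective s e he))
    haveI : IsRegularRing
        (AdjoinRoot (poly s e) ⧸ Ideal.span {AdjoinRoot.root (poly s e)}) :=
      IsRegularRing.of_ringEquiv eC.symm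
    haveI : (Q.map (Ideal.Quotient.mk (Ideal.span {AdjoinRoot.root (poly s e)}))).IsPrime :=
      Ideal.map_isPrime_of_surjective Ideal.Quotient.mk_surjective (by rwa [Ideal.mk_ker])
    obtain ⟨e2⟩ := JacobianH3.nonempty_algEquiv_quotient_localization (AdjoinRoot (poly s e))
      (Ideal.span {AdjoinRoot.root (poly s e)}) Q hJQ
    have hmap : (Ideal.span {AdjoinRoot.root (poly s e)}).map
        (algebraMap (AdjoinRoot (poly s e)) (Localization.AtPrime Q)) =
        Ideal.span {algebraMap (AdjoinRoot (poly s e)) (Localization.AtPrime Q)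
          (AdjoinRoot.root (poly s e))} := by
      rw [Ideal.map_span, Set.image_singleton]
    let e3 : (Localization.AtPrime Q ⧸
        Ideal.span {algebraMap (AdjoinRoot (poly s e)) (Localization.AtPrime Q)
          (AdjoinRoot.root (poly s e))}) ≃+*
        Localization.AtPrime
          (Q.map (Ideal.Quotient.mk (Ideal.span {AdjoinRoot.root (poly s e)}))) :=
      (Ideal.quotEquivOfEq hmap.symm).trans e2.toRingEquiv
    haveI : IsLocalRing (Localization.AtPrime Q ⧸
        Ideal.span {algebraMap (AdjoinRoot (poly s e)) (Localization.AtPrime Q)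
          (AdjoinRoot.root (poly s e))}) := e3.symm.isLocalRing
    haveI : IsRegularLocalRing (Localization.AtPrime Q ⧸
        Ideal.span {algebraMap (AdjoinRoot (poly s e)) (Localization.AtPrime Q)
          (AdjoinRoot.root (poly s e))}) := IsRegularLocalRing.of_ringEquiv e3.symm
    exact isRegularLocalRing_of_quotient _ hx hxreg
  · -- the étale case
    haveI : IsRegularRing (Localization.Away (AdjoinRoot.mk (poly s e) (C s))) :=
      isRegularRing_away A s e he heu
    have hunit : IsUnit (algebraMap (AdjoinRoot (poly s e)) (Localization.AtPrime Q)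
        (AdjoinRoot.mk (poly s e) (C s))) :=
      IsLocalization.map_units _ (⟨_, hsQ⟩ : Q.primeCompl)
    letI : Algebra (Localization.Away (AdjoinRoot.mk (poly s e) (C s)))
        (Localization.AtPrime Q) :=
      (IsLocalization.Away.lift (AdjoinRoot.mk (poly s e) (C s)) hunit).toAlgebra
    haveI : IsScalarTower (AdjoinRoot (poly s e))
        (Localization.Away (AdjoinRoot.mk (poly s e) (C s))) (Localization.AtPrime Q) :=
      IsScalarTower.of_algebraMap_eq' (IsLocalization.Away.lift_comp _ hunit).symm
    haveI : IsLocalization (Q.primeCompl.map (algebraMap (AdjoinRoot (poly s e))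
        (Localization.Away (AdjoinRoot.mk (poly s e) (C s))))) (Localization.AtPrime Q) :=
      IsLocalization.isLocalization_of_submonoid_le _ _
        (Submonoid.powers (AdjoinRoot.mk (poly s e) (C s))) Q.primeCompl
        (Submonoid.powers_le.2 hsQ)
    haveI : IsRegularRing (Localization.AtPrime Q) :=
      RegLocH3.isRegularRing_of_isLocalization
        (Q.primeCompl.map (algebraMap (AdjoinRoot (poly s e))
          (Localization.Away (AdjoinRoot.mk (poly s e) (C s))))) _
    exact IsRegularLocalRing.of_isRegularRing_of_isLocalRing _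

end main2

end Groth.Agent.Lib.KummerRegH3
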