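import Mathlib
import Groth.Agent.Lib.KummerReg2_helper3
import Groth.Agent.Lib.CycCov1_helper3

/-!
# Cyclic covers: the regular model `B[W,S]/(W^d - u, S^N' - W^a f)` (helper3)
-/

set_option autoImplicit false
universe u

open Polynomial

namespace Groth.Agent.Lib.CycCovH3

open KummerRegH3

/-- The zero ring is regular. -/
theorem isRegularRing_of_subsingleton (R : Type u) [CommRing R] [Subsingleton R] :
    IsRegularRing R := by
  haveI : Finite R := Finite.of_subsingleton
  haveI : IsNoetherianRing R := isNoetherian_of_finite R R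
  rw [isRegularRing_iff]
  intro p hp
  exact absurd (Subsingleton.elim _ _) hp.ne_top

/-- Adjoining a `d`-th root of a unit to a regular ring in which `d` is invertible gives a
regular ring. -/
theorem isRegularRing_unitRoot (B : Type u) [CommRing B] [IsRegularRing B] (u : Bˣ) (d : ℕ)
    (hd : 0 < d) (hdu : IsUnit (d : B)) : IsRegularRing (AdjoinRoot (poly (u : B) d)) := by
  haveI : Subsingleton (B ⧸ Ideal.span {(u : B)}) := by
    rw [Ideal.span_singleton_eq_top.2 u.isUnit]
    exact Ideal.Quotient.subsingleton_iff.2 rfl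
  exact isRegularRing_adjoinRoot' B (u : B) d u.isUnit.mem_nonZeroDivisors
    (isRegularRing_of_subsingleton _) hd hdu

section constr

variable {B : Type u} [CommRing B] (u : Bˣ) (f : B) (d N' a : ℕ)

/-- `B₁ = B[W]/(W^d - u)`. -/
abbrev B1 : Type u := AdjoinRoot (poly (u : B) d)

/-- `c = W^a f`. -/
noncomputable def cc : B1 u d :=
  AdjoinRoot.root (poly (u : B) d) ^ a * AdjoinRoot.of (poly (u : B) d) f

/-- `A₂ = B₁[S]/(S^N' - W^a f)`. -/
abbrev A2 : Type u := AdjoinRoot (poly (cc u f d a) N')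

theorem W_pow : AdjoinRoot.root (poly (u : B) d) ^ d = AdjoinRoot.of (poly (u : B) d) (u : B) :=
  root_pow _ _

theorem W_isUnit (hd : 0 < d) : IsUnit (AdjoinRoot.root (poly (u : B) d)) := by
  have : IsUnit ((AdjoinRoot.root (poly (u : B) d)) ^ d) := by
    rw [W_pow]; exact u.isUnit.map _
  exact (isUnit_pow_iff hd.ne').1 this

theorem free_B1 (hd : 0 < d) : Module.Free B (B1 u d) :=
  Module.Free.of_basis (AdjoinRoot.powerBasis' (monic_X_pow_sub_C (u : B) hd.ne')).basis

theorem free_A2 (hN' : 0 < N') : Module.Free (B1 u d) (A2 u f d N' a) :=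
  Module.Free.of_basis (AdjoinRoot.powerBasis' (monic_X_pow_sub_C (cc u f d a) hN'.ne')).basis

theorem of_f_nzd [IsDomain B] (hf : f ≠ 0) (hd : 0 < d) :
    AdjoinRoot.of (poly (u : B) d) f ∈ nonZeroDivisors (B1 u d) := by
  haveI := free_B1 u d hd
  have h1 : IsSMulRegular (B1 u d) f :=
    Module.Flat.isSMulRegular_of_nonZeroDivisors (mem_nonZeroDivisors_of_ne_zero hf)
  rw [mem_nonZeroDivisors_iff_right]
  intro x hx
  apply h1
  show f • x = f • (0 : B1 u d)
  rw [smul_zero, Algebra.smul_def, AdjoinRoot.algebraMap_eq, mul_comm]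
  exact hx

theorem cc_nzd [IsDomain B] (hf : f ≠ 0) (hd : 0 < d) :
    cc u f d a ∈ nonZeroDivisors (B1 u d) :=
  mul_mem ((W_isUnit u d hd).pow a).mem_nonZeroDivisors (of_f_nzd u f d hf hd)

theorem span_cc (hd : 0 < d) :
    Ideal.span {cc u f d a} = (Ideal.span {f}).map (AdjoinRoot.of (poly (u : B) d)) := by
  rw [Ideal.map_span, Set.image_singleton, cc]
  exact Ideal.span_singleton_mul_left_unit ((W_isUnit u d hd).pow a) _

theorem map_poly (I : Ideal B) :
    (poly (u : B) d).map (Ideal.Quotient.mk I) = poly (Ideal.Quotient.mk I (u : B)) d := by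
  simp [poly, Polynomial.map_sub, Polynomial.map_pow]

theorem quot_cc_regular (hD : IsRegularRing (B ⧸ Ideal.span {f})) (hd : 0 < d)
    (hdu : IsUnit (d : B)) : IsRegularRing (B1 u d ⧸ Ideal.span {cc u f d a}) := by
  haveI := hD
  have hreg : IsRegularRing (AdjoinRoot (poly (Ideal.Quotient.mk (Ideal.span {f}) (u : B)) d)) :=
    isRegularRing_unitRoot (B ⧸ Ideal.span {f}) (Units.map (Ideal.Quotient.mk (Ideal.span {f})
      : B →* B ⧸ Ideal.span {f}) u) d hd (by simpa using hdu.map (Ideal.Quotient.mk (Ideal.span {f})))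
  let e1 : (B1 u d ⧸ Ideal.span {cc u f d a}) ≃+*
      (B1 u d ⧸ (Ideal.span {f}).map (AdjoinRoot.of (poly (u : B) d))) :=
    Ideal.quotEquivOfEq (span_cc u f d a hd)
  let e2 := AdjoinRoot.quotAdjoinRootEquivQuotPolynomialQuot (Ideal.span {f}) (poly (u : B) d)
  have h3 : IsRegularRing ((B ⧸ Ideal.span {f})[X] ⧸
      Ideal.span {(poly (u : B) d).map (Ideal.Quotient.mk (Ideal.span {f}))}) := by
    rw [map_poly]; exact hreg
  exact @IsRegularRing.of_ringEquiv _ _ _ _ (e1.trans e2).symm h3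

theorem A2_regular [IsDomain B] [IsRegularRing B] (hf : f ≠ 0)
    (hD : IsRegularRing (B ⧸ Ideal.span {f})) (hd : 0 < d) (hdu : IsUnit (d : B))
    (hN' : 0 < N') (hN'u : IsUnit (N' : B)) : IsRegularRing (A2 u f d N' a) := by
  haveI : IsRegularRing (B1 u d) := isRegularRing_unitRoot B u d hd hdu
  exact isRegularRing_adjoinRoot' (B1 u d) (cc u f d a) N' (cc_nzd u f d a hf hd)
    (quot_cc_regular u f d a hD hd hdu) hN'
    (by simpa using hN'u.map (AdjoinRoot.of (poly (u : B) d)))

theorem algebraMap_A2 (x : B) : algebraMap B (A2 u f d N' a) x =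
    AdjoinRoot.of (poly (cc u f d a) N') (AdjoinRoot.of (poly (u : B) d) x) := by
  rw [AdjoinRoot.algebraMap_eq', RingHom.comp_apply, AdjoinRoot.algebraMap_eq]

/-- The model `A₂` with its universal property. -/
theorem step1 [IsDomain B] [IsRegularRing B] (hf : f ≠ 0)
    (hD : IsRegularRing (B ⧸ Ideal.span {f})) (hd : 0 < d) (hdu : IsUnit (d : B))
    (hN' : 0 < N') (hN'u : IsUnit (N' : B)) :
    ∃ (A₂ : Type u) (_ : CommRing A₂) (_ : Algebra B A₂) (W S : A₂),
      IsRegularRing A₂ ∧ algebraMap B A₂ f ∈ nonZeroDivisors A₂ ∧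
      W ^ d = algebraMap B A₂ (u : B) ∧ S ^ N' = W ^ a * algebraMap B A₂ f ∧
      (∀ (L : Type u) [CommRing L] (g : B →+* L) (w s : L), w ^ d = g (u : B) →
        s ^ N' = w ^ a * g f →
        ∃ Φ : A₂ →+* L, Φ.comp (algebraMap B A₂) = g ∧ Φ W = w ∧ Φ S = s) ∧
      (∀ (L : Type u) [CommRing L] (Φ Φ' : A₂ →+* L),
        Φ.comp (algebraMap B A₂) = Φ'.comp (algebraMap B A₂) → Φ W = Φ' W → Φ S = Φ' S →
        Φ = Φ') := by
  refine ⟨A2 u f d N' a, inferInstance, inferInstance,
    AdjoinRoot.of (poly (cc u f d a) N') (AdjoinRoot.root (poly (u : B) d)),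
    AdjoinRoot.root (poly (cc u f d a) N'), A2_regular u f d N' a hf hD hd hdu hN' hN'u,
    ?_, ?_, ?_, ?_, ?_⟩
  · haveI := free_A2 u f d N' a hN'
    have h1 : IsSMulRegular (A2 u f d N' a) (AdjoinRoot.of (poly (u : B) d) f) :=
      Module.Flat.isSMulRegular_of_nonZeroDivisors (of_f_nzd u f d hf hd)
    rw [mem_nonZeroDivisors_iff_right]
    intro x hx
    apply h1
    show AdjoinRoot.of (poly (u : B) d) f • x =
      AdjoinRoot.of (poly (u : B) d) f • (0 : A2 u f d N' a)
    rw [smul_zero, Algebra.smul_def, AdjoinRoot.algebraMap_eq, mul_comm, ← algebraMap_A2]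
    exact hx
  · rw [← map_pow, W_pow, algebraMap_A2]
  · have h0 : AdjoinRoot.of (poly (cc u f d a) N') (cc u f d a) =
        AdjoinRoot.of (poly (cc u f d a) N')
          (AdjoinRoot.root (poly (u : B) d) ^ a * AdjoinRoot.of (poly (u : B) d) f) := rfl
    rw [root_pow, algebraMap_A2, h0, map_mul, map_pow]
  · intro L _ g w s hw hs
    have h1 : (poly (u : B) d).eval₂ g w = 0 := by
      rw [poly, eval₂_sub, eval₂_X_pow, eval₂_C, hw, sub_self]
    have h2 : (poly (cc u f d a) N').eval₂ (AdjoinRoot.lift g w h1) s = 0 := by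
      show (X ^ N' - C (AdjoinRoot.root (poly (u : B) d) ^ a *
        AdjoinRoot.of (poly (u : B) d) f)).eval₂ (AdjoinRoot.lift g w h1) s = 0
      rw [eval₂_sub, eval₂_X_pow, eval₂_C, map_mul, map_pow, AdjoinRoot.lift_root,
        AdjoinRoot.lift_of, hs, sub_self]
    refine ⟨AdjoinRoot.lift (AdjoinRoot.lift g w h1) s h2, ?_, ?_, ?_⟩
    · ext x
      rw [RingHom.comp_apply, algebraMap_A2, AdjoinRoot.lift_of, AdjoinRoot.lift_of]
    · rw [AdjoinRoot.lift_of, AdjoinRoot.lift_root]
    · rw [AdjoinRoot.lift_root]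
  · intro L _ Φ Φ' h1 h2 h3
    apply AdjoinRoot.ringHom_ext _ h3
    apply AdjoinRoot.ringHom_ext
    · ext x
      have := RingHom.congr_fun h1 x
      simpa [algebraMap_A2] using this
    · simpa using h2

end constr

end Groth.Agent.Lib.CycCovH3
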