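import Mathlib
import Groth.Agent.Lib.KummerReg_helper3
import Groth.Agent.Lib.CycCov1_helper3

/-!
# Cyclic covers: comparison of the cyclic cover algebra with the regular model (helper3)
-/

set_option autoImplicit false
universe u

open Polynomial

namespace Groth.Agent.Lib.CycCovH3

section step2

variable {B : Type u} [CommRing B] (N : ℕ) (u : Bˣ) (α : ℕ) (f : B)

/-- `A' = B[t]/(t^N - u f^α)`. -/
abbrev Ap : Type u := AdjoinRoot (X ^ N - C ((u : B) * f ^ α) : B[X])

variable (K : Type u) [CommRing K] [Algebra B K] [Algebra (Ap N u α f) K]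
  [IsScalarTower B (Ap N u α f) K] [IsLocalization.Away (algebraMap B (Ap N u α f) f) K]

/-- The generators `t^i f^{-⌊iα/N⌋}`. -/
noncomputable def gen (i : ℕ) : K :=
  algebraMap (Ap N u α f) K (AdjoinRoot.root (X ^ N - C ((u : B) * f ^ α) : B[X]) ^ i) *
    IsLocalization.Away.invSelf (S := K) (algebraMap B (Ap N u α f) f) ^ (i * α / N)

theorem f_mul_invSelf : algebraMap B K f *
    IsLocalization.Away.invSelf (S := K) (algebraMap B (Ap N u α f) f) = 1 := by
  rw [IsScalarTower.algebraMap_apply B (Ap N u α f) K]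
  exact IsLocalization.Away.mul_invSelf _

/-- `f` as a unit of `K`. -/
noncomputable def FK : Kˣ :=
  ⟨algebraMap B K f, IsLocalization.Away.invSelf (S := K) (algebraMap B (Ap N u α f) f),
    f_mul_invSelf N u α f K, by rw [mul_comm]; exact f_mul_invSelf N u α f K⟩

theorem root_pow_N : AdjoinRoot.root (X ^ N - C ((u : B) * f ^ α) : B[X]) ^ N =
    algebraMap B (Ap N u α f) ((u : B) * f ^ α) := by
  rw [AdjoinRoot.algebraMap_eq]
  exact KummerRegH3.root_pow ((u : B) * f ^ α) N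

theorem gen_pow (i : ℕ) : gen N u α f K i ^ N =
    algebraMap B K ((u : B) ^ i * f ^ (i * α % N)) := by
  obtain ⟨q, hq⟩ : ∃ q, q = i * α / N := ⟨_, rfl⟩
  obtain ⟨r, hr⟩ : ∃ r, r = i * α % N := ⟨_, rfl⟩
  have h2 : i * α = N * q + r := by rw [hq, hr]; exact (Nat.div_add_mod _ _).symm
  have h1 : (AdjoinRoot.root (X ^ N - C ((u : B) * f ^ α) : B[X]) ^ i) ^ N =
      algebraMap B (Ap N u α f) (((u : B) * f ^ α) ^ i) := by
    rw [← pow_mul, mul_comm i N, pow_mul, root_pow_N, ← map_pow]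
  have h3 : ((u : B) * f ^ α) ^ i = (u : B) ^ i * f ^ r * f ^ (q * N) := by
    rw [mul_pow, ← pow_mul, mul_comm α i, h2, pow_add, mul_comm N q]; ring
  rw [gen, ← hq, ← hr, mul_pow, ← map_pow, h1, ← IsScalarTower.algebraMap_apply, h3, map_mul,
    ← pow_mul, mul_assoc, map_pow (algebraMap B K) f, ← mul_pow, f_mul_invSelf, one_pow, mul_one]

theorem gen_isIntegral (hN : 0 < N) (i : ℕ) : IsIntegral B (gen N u α f K i) := by
  apply IsIntegral.of_pow hN
  rw [gen_pow]
  exact isIntegral_algebraMap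

set_option maxHeartbeats 1600000 in
/-- Comparison of the cyclic cover algebra with a model `A₂`. -/
theorem step2 (hN : 0 < N) (d N' α' a : ℕ) (b : ℤ) (hNd : N = d * N') (hαd : α = d * α')
    (haN : a < N) (hab : (a : ℤ) * α' - b * N' = 1)
    (A₂ : Type u) [CommRing A₂] [Algebra B A₂] (W S : A₂)
    (hnorm : ∀ (Q : Ideal A₂) [Q.IsMaximal], IsDomain (Localization.AtPrime Q) ∧
      IsIntegrallyClosed (Localization.AtPrime Q))
    (hfnzd : algebraMap B A₂ f ∈ nonZeroDivisors A₂)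
    (hW : W ^ d = algebraMap B A₂ (u : B)) (hS : S ^ N' = W ^ a * algebraMap B A₂ f)
    (hlift : ∀ (L : Type u) [CommRing L] (g : B →+* L) (w s : L), w ^ d = g (u : B) →
      s ^ N' = w ^ a * g f →
      ∃ Φ : A₂ →+* L, Φ.comp (algebraMap B A₂) = g ∧ Φ W = w ∧ Φ S = s)
    (hext : ∀ (L : Type u) [CommRing L] (Φ Φ' : A₂ →+* L),
      Φ.comp (algebraMap B A₂) = Φ'.comp (algebraMap B A₂) → Φ W = Φ' W → Φ S = Φ' S →
      Φ = Φ') :
    ∃ Φ : A₂ →ₐ[B] K, Function.Injective Φ ∧ (∀ x : K, IsIntegral B x → x ∈ Φ.range) ∧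
      Φ.range ≤ Algebra.adjoin B (Set.range fun i : Fin N => gen N u α f K i) := by
  classical
  have hd0 : d ≠ 0 := by rintro rfl; rw [zero_mul] at hNd; omega
  have hN'0 : N' ≠ 0 := by rintro rfl; rw [mul_zero] at hNd; omega
  -- the `K` side
  obtain ⟨t', ht'⟩ : ∃ t' : K, t' = algebraMap (Ap N u α f) K
    (AdjoinRoot.root (X ^ N - C ((u : B) * f ^ α) : B[X])) := ⟨_, rfl⟩
  have htN : t' ^ N = algebraMap B K ((u : B) * f ^ α) := by
    rw [ht', ← map_pow, root_pow_N, ← IsScalarTower.algebraMap_apply]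
  obtain ⟨F, hF⟩ : ∃ F : Kˣ, F = FK N u α f K := ⟨_, rfl⟩
  have hFv : (F : K) = algebraMap B K f := by rw [hF]; rfl
  have hFi : ((F⁻¹ : Kˣ) : K) =
      IsLocalization.Away.invSelf (S := K) (algebraMap B (Ap N u α f) f) := by rw [hF]; rfl
  obtain ⟨U, hU⟩ : ∃ U : Kˣ, U = Units.map (algebraMap B K : B →* K) u := ⟨_, rfl⟩
  have hUv : (U : K) = algebraMap B K (u : B) := by rw [hU]; rfl
  have htu : IsUnit t' := by
    have : IsUnit (t' ^ N) := by
      rw [htN, map_mul, map_pow, ← hUv, ← hFv]; exact U.isUnit.mul (F.isUnit.pow α)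
    exact (isUnit_pow_iff hN.ne').1 this
  obtain ⟨T, hT⟩ : ∃ T : Kˣ, (T : K) = t' := ⟨htu.unit, htu.unit_spec⟩
  have hTN : T ^ N = U * F ^ α := by
    apply Units.ext
    rw [Units.val_pow_eq_pow_val, hT, htN, Units.val_mul, Units.val_pow_eq_pow_val, map_mul,
      map_pow, hUv, hFv]
  have hTNz : T ^ ((d : ℤ) * N') = U * F ^ ((d : ℤ) * α') := by
    have h1 : T ^ (d * N') = U * F ^ (d * α') := by rw [← hNd, ← hαd]; exact hTN
    exact_mod_cast h1
  obtain ⟨w, hwdef⟩ : ∃ w : Kˣ, w = T ^ (N' : ℤ) / F ^ (α' : ℤ) := ⟨_, rfl⟩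
  obtain ⟨s, hsdef⟩ : ∃ s : Kˣ, s = T ^ (a : ℤ) / F ^ b := ⟨_, rfl⟩
  have hw : w ^ (d : ℤ) = U := by rw [hwdef]; exact mul1 T F U N' d α' hTNz
  have hs : s ^ (N' : ℤ) = w ^ (a : ℤ) * F := by
    rw [hwdef, hsdef]; exact mul2 T F N' α' a b hab
  have ht : s ^ (α' : ℤ) / w ^ b = T := by
    rw [hwdef, hsdef]; exact mul3 T F N' α' a b hab
  have hw' : (w : K) ^ d = algebraMap B K (u : B) := by
    have := congrArg Units.val hw
    rw [zpow_natCast, Units.val_pow_eq_pow_val, hUv] at this; exact this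
  have hs' : (s : K) ^ N' = (w : K) ^ a * algebraMap B K f := by
    have := congrArg Units.val hs
    rw [zpow_natCast, zpow_natCast, Units.val_mul, Units.val_pow_eq_pow_val,
      Units.val_pow_eq_pow_val, hFv] at this
    exact this
  obtain ⟨Φ, hΦB, hΦW, hΦS⟩ := hlift K (algebraMap B K) (w : K) (s : K) hw' hs'
  -- the `K₂` side
  obtain ⟨F₂, hF₂v⟩ : ∃ F₂ : (Localization.Away (algebraMap B A₂ f))ˣ,
      (F₂ : Localization.Away (algebraMap B A₂ f)) = algebraMap B _ f := by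
    have h1 : algebraMap B (Localization.Away (algebraMap B A₂ f)) f *
        IsLocalization.Away.invSelf (S := Localization.Away (algebraMap B A₂ f))
          (algebraMap B A₂ f) = 1 := by
      rw [IsScalarTower.algebraMap_apply B A₂ (Localization.Away (algebraMap B A₂ f))]
      exact IsLocalization.Away.mul_invSelf _
    exact ⟨⟨_, _, h1, by rw [mul_comm]; exact h1⟩, rfl⟩
  obtain ⟨U₂, hU₂v⟩ : ∃ U₂ : (Localization.Away (algebraMap B A₂ f))ˣ,
      (U₂ : Localization.Away (algebraMap B A₂ f)) = algebraMap B _ (u : B) :=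
    ⟨Units.map (algebraMap B (Localization.Away (algebraMap B A₂ f)) : B →* _) u, rfl⟩
  have hωu : IsUnit (algebraMap A₂ (Localization.Away (algebraMap B A₂ f)) W) := by
    have : IsUnit ((algebraMap A₂ (Localization.Away (algebraMap B A₂ f)) W) ^ d) := by
      rw [← map_pow, hW, ← IsScalarTower.algebraMap_apply, ← hU₂v]; exact U₂.isUnit
    exact (isUnit_pow_iff hd0).1 this
  obtain ⟨ω, hω⟩ : ∃ ω : (Localization.Away (algebraMap B A₂ f))ˣ,
      (ω : Localization.Away (algebraMap B A₂ f)) = algebraMap A₂ _ W :=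
    ⟨hωu.unit, hωu.unit_spec⟩
  have hωd : ω ^ (d : ℤ) = U₂ := by
    rw [zpow_natCast]; apply Units.ext
    rw [Units.val_pow_eq_pow_val, hω, ← map_pow, hW, ← IsScalarTower.algebraMap_apply, hU₂v]
  have hσu : IsUnit (algebraMap A₂ (Localization.Away (algebraMap B A₂ f)) S) := by
    have : IsUnit ((algebraMap A₂ (Localization.Away (algebraMap B A₂ f)) S) ^ N') := by
      rw [← map_pow, hS, map_mul, map_pow, ← IsScalarTower.algebraMap_apply, ← hF₂v]
      exact (hωu.pow a).mul F₂.isUnit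
    exact (isUnit_pow_iff hN'0).1 this
  obtain ⟨σ, hσ⟩ : ∃ σ : (Localization.Away (algebraMap B A₂ f))ˣ,
      (σ : Localization.Away (algebraMap B A₂ f)) = algebraMap A₂ _ S :=
    ⟨hσu.unit, hσu.unit_spec⟩
  have hσN : σ ^ (N' : ℤ) = ω ^ (a : ℤ) * F₂ := by
    rw [zpow_natCast, zpow_natCast]; apply Units.ext
    rw [Units.val_pow_eq_pow_val, Units.val_mul, Units.val_pow_eq_pow_val, hσ, hω, ← map_pow, hS,
      map_mul, map_pow, ← IsScalarTower.algebraMap_apply, hF₂v]
  obtain ⟨τ, hτdef⟩ : ∃ τ : (Localization.Away (algebraMap B A₂ f))ˣ,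
      τ = σ ^ (α' : ℤ) / ω ^ b := ⟨_, rfl⟩
  have hτN : τ ^ ((d : ℤ) * N') = U₂ * F₂ ^ ((d : ℤ) * α') := by
    rw [hτdef]; exact mul4 ω σ F₂ U₂ N' d α' a b hab hωd hσN
  have hτw : τ ^ (N' : ℤ) / F₂ ^ (α' : ℤ) = ω := by
    rw [hτdef]; exact mul5 ω σ F₂ N' α' a b hab hσN
  have hτs : τ ^ (a : ℤ) / F₂ ^ b = σ := by
    rw [hτdef]; exact mul6 ω σ F₂ N' α' a b hab hσN
  have hτN' : (τ : Localization.Away (algebraMap B A₂ f)) ^ N =
      algebraMap B _ ((u : B) * f ^ α) := by
    have h1 : τ ^ (d * N') = U₂ * F₂ ^ (d * α') := by exact_mod_cast hτN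
    rw [← hNd, ← hαd] at h1
    have := congrArg Units.val h1
    rw [Units.val_pow_eq_pow_val, Units.val_mul, Units.val_pow_eq_pow_val] at this
    rw [this, map_mul, map_pow, hU₂v, hF₂v]
  have hΨ₀ : (X ^ N - C ((u : B) * f ^ α) : B[X]).eval₂
      (algebraMap B (Localization.Away (algebraMap B A₂ f)))
      (τ : Localization.Away (algebraMap B A₂ f)) = 0 := by
    rw [eval₂_sub, eval₂_X_pow, eval₂_C, hτN', sub_self]
  obtain ⟨Ψ₀, hΨ₀of, hΨ₀root⟩ : ∃ Ψ₀ : Ap N u α f →+* Localization.Away (algebraMap B A₂ f),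
      (∀ x : B, Ψ₀ (algebraMap B (Ap N u α f) x) = algebraMap B _ x) ∧
      Ψ₀ (AdjoinRoot.root (X ^ N - C ((u : B) * f ^ α) : B[X])) = τ :=
    ⟨AdjoinRoot.lift (algebraMap B (Localization.Away (algebraMap B A₂ f))) _ hΨ₀,
      fun x => by rw [AdjoinRoot.algebraMap_eq, AdjoinRoot.lift_of], AdjoinRoot.lift_root _⟩
  have hΨ₀f : IsUnit (Ψ₀ (algebraMap B (Ap N u α f) f)) := by
    rw [hΨ₀of, ← hF₂v]; exact F₂.isUnit
  obtain ⟨Ψ, hΨA⟩ : ∃ Ψ : K →+* Localization.Away (algebraMap B A₂ f),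
      ∀ x, Ψ (algebraMap (Ap N u α f) K x) = Ψ₀ x :=
    ⟨IsLocalization.Away.lift (algebraMap B (Ap N u α f) f) hΨ₀f,
      fun x => IsLocalization.Away.lift_eq _ hΨ₀f x⟩
  have hΨB : ∀ x : B, Ψ (algebraMap B K x) = algebraMap B _ x := by
    intro x
    rw [IsScalarTower.algebraMap_apply B (Ap N u α f) K, hΨA, hΨ₀of]
  have hΨt : Ψ t' = τ := by rw [ht', hΨA, hΨ₀root]
  have hΦf0 : IsUnit (Φ (algebraMap B A₂ f)) := by
    rw [← RingHom.comp_apply, hΦB, ← hFv]; exact F.isUnit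
  obtain ⟨Φf, hΦfA⟩ : ∃ Φf : Localization.Away (algebraMap B A₂ f) →+* K,
      ∀ x, Φf (algebraMap A₂ _ x) = Φ x :=
    ⟨IsLocalization.Away.lift (algebraMap B A₂ f) hΦf0,
      fun x => IsLocalization.Away.lift_eq _ hΦf0 x⟩
  have hΦfB : ∀ x : B, Φf (algebraMap B _ x) = algebraMap B K x := by
    intro x
    rw [IsScalarTower.algebraMap_apply B A₂ (Localization.Away (algebraMap B A₂ f)), hΦfA,
      ← RingHom.comp_apply, hΦB]
  -- images of units
  have m1 : Units.map (Ψ : K →* Localization.Away (algebraMap B A₂ f)) T = τ :=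
    Units.ext (by rw [Units.coe_map]; show Ψ (T : K) = τ; rw [hT, hΨt])
  have m2 : Units.map (Ψ : K →* Localization.Away (algebraMap B A₂ f)) F = F₂ :=
    Units.ext (by rw [Units.coe_map]; show Ψ (F : K) = F₂; rw [hFv, hΨB, hF₂v])
  have m3 : Units.map (Φf : Localization.Away (algebraMap B A₂ f) →* K) ω = w :=
    Units.ext (by
      rw [Units.coe_map]
      show Φf (ω : Localization.Away (algebraMap B A₂ f)) = w
      rw [hω, hΦfA, hΦW])
  have m4 : Units.map (Φf : Localization.Away (algebraMap B A₂ f) →* K) σ = s :=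
    Units.ext (by
      rw [Units.coe_map]
      show Φf (σ : Localization.Away (algebraMap B A₂ f)) = s
      rw [hσ, hΦfA, hΦS])
  have m6 : Units.map (Φf : Localization.Away (algebraMap B A₂ f) →* K) τ = T := by
    rw [hτdef, _root_.map_div, map_zpow, map_zpow, m3, m4]; exact ht
  have m7 : Units.map (Ψ : K →* Localization.Away (algebraMap B A₂ f)) w = ω := by
    rw [hwdef, _root_.map_div, map_zpow, map_zpow, m1, m2]; exact hτw
  have m8 : Units.map (Ψ : K →* Localization.Away (algebraMap B A₂ f)) s = σ := by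
    rw [hsdef, _root_.map_div, map_zpow, map_zpow, m1, m2]; exact hτs
  -- compositions
  have hcomp1 : Φf.comp Ψ = RingHom.id K := by
    apply IsLocalization.ringHom_ext (Submonoid.powers (algebraMap B (Ap N u α f) f))
    apply AdjoinRoot.ringHom_ext
    · ext x
      simp only [RingHom.comp_apply, RingHom.id_apply]
      rw [← AdjoinRoot.algebraMap_eq, ← IsScalarTower.algebraMap_apply B (Ap N u α f) K, hΨB,
        hΦfB]
    · simp only [RingHom.comp_apply, RingHom.id_apply]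
      rw [← ht', hΨt]
      have := congrArg Units.val m6
      rw [Units.coe_map] at this
      exact this.trans hT
  have hcomp2 : Ψ.comp Φ = algebraMap A₂ (Localization.Away (algebraMap B A₂ f)) := by
    apply hext
    · ext x
      simp only [RingHom.comp_apply]
      rw [← RingHom.comp_apply Φ, hΦB, hΨB,
        IsScalarTower.algebraMap_apply B A₂ (Localization.Away (algebraMap B A₂ f))]
    · rw [RingHom.comp_apply, hΦW]
      have := congrArg Units.val m7
      rw [Units.coe_map] at this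
      exact this.trans hω
    · rw [RingHom.comp_apply, hΦS]
      have := congrArg Units.val m8
      rw [Units.coe_map] at this
      exact this.trans hσ
  have hinjK₂ : Function.Injective (algebraMap A₂ (Localization.Away (algebraMap B A₂ f))) :=
    IsLocalization.injective _ (Submonoid.powers_le.2 hfnzd)
  have hinj : Function.Injective Φ := by
    intro x y hxy
    apply hinjK₂
    rw [← hcomp2, RingHom.comp_apply, RingHom.comp_apply, hxy]
  have hINT : ∀ x : K, IsIntegral B x → ∃ y : A₂, Φ y = x := by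
    intro x hx
    have h1 : IsIntegral A₂ (Ψ x) :=
      IsIntegral.map_of_comp_eq (algebraMap B A₂) Ψ (by
        ext c
        simp only [RingHom.comp_apply]
        rw [hΨB, IsScalarTower.algebraMap_apply B A₂ (Localization.Away (algebraMap B A₂ f))]) hx
    obtain ⟨y, hy⟩ := mem_range_of_isIntegral (Submonoid.powers (algebraMap B A₂ f))
      (Submonoid.powers_le.2 hfnzd) hnorm (Ψ x) h1
    refine ⟨y, ?_⟩
    calc Φ y = Φf (algebraMap A₂ _ y) := (hΦfA y).symm
      _ = Φf (Ψ x) := by rw [hy]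
      _ = x := RingHom.congr_fun hcomp1 x
  -- membership in the adjoin
  obtain ⟨Aa, hAa⟩ : ∃ Aa : Subalgebra B K,
      Aa = Algebra.adjoin B (Set.range fun i : Fin N => gen N u α f K i) := ⟨_, rfl⟩
  have hgenmem : ∀ (i : ℕ) (c : ℤ), i < N → c * N ≤ i * α →
      ((T ^ (i : ℤ) / F ^ c : Kˣ) : K) ∈ Aa := by
    intro i c hi hc
    obtain ⟨q, hq⟩ : ∃ q, q = i * α / N := ⟨_, rfl⟩
    have hcq : c ≤ (q : ℤ) := by
      rw [hq]; push_cast
      exact Int.le_ediv_of_mul_le (by exact_mod_cast hN) hc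
    obtain ⟨m, hm⟩ := Int.eq_ofNat_of_zero_le (sub_nonneg.2 hcq)
    have h1 : (T ^ (i : ℤ) / F ^ c : Kˣ) = (T ^ i * (F⁻¹) ^ q) * F ^ m := by
      have hc' : c = (q : ℤ) - m := by linarith
      rw [hc', zpow_sub, zpow_natCast, zpow_natCast, zpow_natCast, inv_pow]
      simp only [div_eq_mul_inv, mul_inv_rev, inv_inv]
      rw [mul_assoc, mul_comm (F ^ m)]
    rw [h1, Units.val_mul, Units.val_mul, Units.val_pow_eq_pow_val, Units.val_pow_eq_pow_val,
      Units.val_pow_eq_pow_val, hT, hFi, hFv]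
    apply Subalgebra.mul_mem
    · rw [hAa]
      apply Algebra.subset_adjoin
      refine ⟨⟨i, hi⟩, ?_⟩
      show gen N u α f K i = _
      rw [gen, map_pow, ← ht', ← hq]
    · rw [← map_pow]; exact Subalgebra.algebraMap_mem _ _
  have hwmem : (w : K) ∈ Aa := by
    rcases Nat.lt_or_ge N' N with h | h
    · rw [hwdef]
      refine hgenmem N' α' h ?_
      rw [hNd, hαd]; push_cast
      exact le_of_eq (by ring)
    · have hd1 : d = 1 := by
        have h2 : d * N' ≤ 1 * N' := by rw [one_mul, ← hNd]; exact h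
        have := Nat.le_of_mul_le_mul_right h2 (Nat.pos_of_ne_zero hN'0)
        omega
      have h3 : w = U := by
        rw [← hw, hd1]; simp
      rw [h3, hUv]; exact Subalgebra.algebraMap_mem _ _
  have hsmem : (s : K) ∈ Aa := by
    rw [hsdef]
    refine hgenmem a b haN ?_
    have h1 : b * N' = a * α' - 1 := by linarith
    have h2 : b * ((d : ℤ) * N') = a * ((d : ℤ) * α') - d := by
      have : b * ((d : ℤ) * N') = d * (b * N') := by ring
      rw [this, h1]; ring
    rw [hNd, hαd]; push_cast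
    rw [h2]
    linarith [Int.natCast_nonneg d]
  obtain ⟨ΦA, hΦAB, hΦAW, hΦAS⟩ := hlift Aa (algebraMap B Aa) ⟨(w : K), hwmem⟩ ⟨(s : K), hsmem⟩
    (Subtype.ext (by simpa using hw')) (Subtype.ext (by simpa using hs'))
  have hΦval : (Aa.val : Aa →+* K).comp ΦA = Φ := by
    apply hext
    · rw [RingHom.comp_assoc, hΦAB, hΦB]
      ext x; rfl
    · rw [RingHom.comp_apply, hΦAW, hΦW]; rfl
    · rw [RingHom.comp_apply, hΦAS, hΦS]; rfl
  refine ⟨{ toRingHom := Φ, commutes' := fun r => RingHom.congr_fun hΦB r }, hinj, ?_, ?_⟩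
  · intro x hx
    obtain ⟨y, hy⟩ := hINT x hx
    exact ⟨y, hy⟩
  · rintro _ ⟨y, rfl⟩
    rw [← hAa]
    show Φ y ∈ Aa
    rw [← hΦval]
    exact (ΦA y).2

end step2

end Groth.Agent.Lib.CycCovH3
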