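import Mathlib
import Groth.Agent.Lib.CycCov2_helper3
import Groth.Agent.Lib.CycCov3_helper3

/-!
# Cyclic covers: the cyclic cover algebra is finite, normal and regular (helper3)
-/

set_option autoImplicit false
universe u

open Polynomial

namespace Groth.Agent.Lib.CycCovH3

/-- The cyclic cover algebra `A = B[t^i f^{-⌊iα/N⌋}]` of a regular domain `B` branched along a
regular divisor `f` is finite over `B`, is the integral closure of `A' = B[t]/(t^N - u f^α)` in
`A'[1/f]` and is regular. -/
theorem main {B : Type u} [CommRing B] [IsDomain B] [IsRegularRing B] (N : ℕ) (hN : 0 < N)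
    (hNu : IsUnit ((N : ℕ) : B)) (u : Bˣ) (α : ℕ) (f : B) (hf : f ≠ 0)
    (hD : IsRegularRing (B ⧸ Ideal.span {f}))
    (K : Type u) [CommRing K] [Algebra B K] [Algebra (Ap N u α f) K]
    [IsScalarTower B (Ap N u α f) K] [IsLocalization.Away (algebraMap B (Ap N u α f) f) K] :
    Module.Finite B (Algebra.adjoin B (Set.range fun i : Fin N => gen N u α f K i)) ∧
    IsIntegralClosure (Algebra.adjoin B (Set.range fun i : Fin N => gen N u α f K i))
      (Ap N u α f) K ∧
    IsRegularRing (Algebra.adjoin B (Set.range fun i : Fin N => gen N u α f K i)) := by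
  obtain ⟨d, N', α', a, b, hNd, hαd, haN, hab⟩ := exists_data N α hN
  have hd : 0 < d := Nat.pos_of_ne_zero (by rintro rfl; rw [zero_mul] at hNd; omega)
  have hN' : 0 < N' := Nat.pos_of_ne_zero (by rintro rfl; rw [mul_zero] at hNd; omega)
  have hcast : ((N : ℕ) : B) = (d : B) * (N' : B) := by rw [hNd]; push_cast; rfl
  have hdu : IsUnit (d : B) := by
    rw [hcast] at hNu; exact isUnit_of_mul_isUnit_left hNu
  have hN'u : IsUnit (N' : B) := by
    rw [hcast] at hNu; exact isUnit_of_mul_isUnit_right hNu
  obtain ⟨A₂, _, _, W, S, hreg, hfnzd, hW, hS, hlift, hext⟩ :=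
    step1 u f d N' a hf hD hd hdu hN' hN'u
  have hnorm : ∀ (Q : Ideal A₂) [Q.IsMaximal], IsDomain (Localization.AtPrime Q) ∧
      IsIntegrallyClosed (Localization.AtPrime Q) := by
    intro Q hQ
    haveI : IsRegularLocalRing (Localization.AtPrime Q) :=
      hreg.isRegularLocalRing_localization Q
    exact ⟨Groth.Agent.RegularLib.isDomain _,
      NormalLiftH4.isIntegrallyClosed_of_isRegularLocalRing _⟩
  obtain ⟨Φ, hinj, hINT, hle⟩ := step2 N u α f K hN d N' α' a b hNd hαd haN hab A₂ W S hnorm
    hfnzd hW hS hlift hext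
  have hgenint : ∀ x ∈ Set.range (fun i : Fin N => gen N u α f K i), IsIntegral B x := by
    rintro _ ⟨i, rfl⟩
    exact gen_isIntegral N u α f K hN i
  have hAale : Algebra.adjoin B (Set.range fun i : Fin N => gen N u α f K i) ≤
      integralClosure B K := Algebra.adjoin_le hgenint
  have hAaeq : Algebra.adjoin B (Set.range fun i : Fin N => gen N u α f K i) = Φ.range :=
    le_antisymm (fun x hx => hINT x (hAale hx)) hle
  have hmonic : (X ^ N - C ((u : B) * f ^ α) : B[X]).Monic :=
    monic_X_pow_sub_C _ hN.ne'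
  haveI : Module.Finite B (Ap N u α f) :=
    Module.Finite.of_basis (AdjoinRoot.powerBasis' hmonic).basis
  haveI : Algebra.IsIntegral B (Ap N u α f) := Algebra.IsIntegral.of_finite B _
  refine ⟨Algebra.finite_adjoin_of_finite_of_isIntegral (Set.finite_range _) hgenint, ?_, ?_⟩
  · refine ⟨Subtype.val_injective, ?_⟩
    intro x
    constructor
    · intro hx
      have h1 : IsIntegral B x := isIntegral_trans x hx
      have h2 : x ∈ Algebra.adjoin B (Set.range fun i : Fin N => gen N u α f K i) := by
        rw [hAaeq]; exact hINT x h1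
      exact ⟨⟨x, h2⟩, rfl⟩
    · rintro ⟨y, rfl⟩
      have h1 : IsIntegral B (y : K) := hAale y.2
      exact h1.tower_top
  · let e1 : A₂ ≃ₐ[B] Φ.range := AlgEquiv.ofInjective Φ hinj
    let e2 : Φ.range ≃ₐ[B] Algebra.adjoin B (Set.range fun i : Fin N => gen N u α f K i) :=
      Subalgebra.equivOfEq _ _ hAaeq.symm
    exact IsRegularRing.of_ringEquiv (e1.trans e2).toRingEquiv

end Groth.Agent.Lib.CycCovH3
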