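import Mathlib
import Groth.Prelude.Def_CycDet

/-!
# `det_κ` of a finite-dimensional `κ`-vector space is its top exterior power (helper9)
-/

set_option autoImplicit false

universe u v

namespace Groth.Agent.CycDetExt

open IsLocalRing CycDet

section Basic

variable (R : Type u) [CommRing R] [IsLocalRing R] (M : Type v) [AddCommGroup M] [Module R M]
  [Module (ResidueField R) M] [IsScalarTower R (ResidueField R) M]

lemma smul_eq_zero_of_mem {r : R} (hr : r ∈ maximalIdeal R) (x : M) : r • x = 0 := by
  rw [← algebraMap_smul (ResidueField R) r x]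
  have : algebraMap R (ResidueField R) r = 0 := (residue_eq_zero_iff r).mpr hr
  rw [this, zero_smul]

lemma isAdmissible_all {l : ℕ} (e : Fin l → M) : IsAdmissible R M e := by
  intro i r hr
  rw [smul_eq_zero_of_mem R M hr]
  exact zero_mem _

/-- Every tuple is admissible. -/
def mkAdm {l : ℕ} (e : Fin l → M) : Adm R M l := ⟨e, isAdmissible_all R M e⟩

/-- The class of a tuple. -/
noncomputable def T {l : ℕ} (e : Fin l → M) : DetOfLen R M l :=
  Submodule.Quotient.mk (sym R M (mkAdm R M e))

/-- The `κ`-span of the entries before `i`. -/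
noncomputable def spanBeforeK {l : ℕ} (e : Fin l → M) (i : ℕ) : Submodule (ResidueField R) M :=
  Submodule.span (ResidueField R) (e '' {j : Fin l | (j : ℕ) < i})

lemma mem_spanBefore_iff {l : ℕ} (e : Fin l → M) (i : ℕ) (x : M) :
    x ∈ spanBefore R M e i ↔ x ∈ spanBeforeK R M e i := by
  unfold spanBefore spanBeforeK
  rw [← Submodule.restrictScalars_span R (ResidueField R) residue_surjective]
  rfl

lemma relA {l : ℕ} (e : Fin l → M) (a : Fin l) (h : e a ∈ spanBeforeK R M e a) :
    T R M e = 0 := by
  unfold T
  rw [Submodule.Quotient.mk_eq_zero]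
  apply Submodule.subset_span
  left; left
  exact ⟨mkAdm R M e, a, (mem_spanBefore_iff R M e a _).mpr h, rfl⟩

lemma relB {l : ℕ} (e e' : Fin l → M) (a : Fin l) (c : Rˣ) (hne : ∀ j, j ≠ a → e j = e' j)
    (h : e a - (c : R) • e' a ∈ spanBeforeK R M e a) :
    T R M e = residue R (c : R) • T R M e' := by
  unfold T
  rw [← sub_eq_zero, ← Submodule.Quotient.mk_smul, ← Submodule.Quotient.mk_sub,
    Submodule.Quotient.mk_eq_zero]
  apply Submodule.subset_span
  left; right
  exact ⟨mkAdm R M e, mkAdm R M e', a, c, hne, (mem_spanBefore_iff R M e a _).mpr h, rfl⟩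

lemma relC {l : ℕ} (e : Fin l → M) (a b : Fin l) (hab : (b : ℕ) + 1 = (a : ℕ)) :
    T R M e + T R M (e ∘ Equiv.swap a b) = 0 := by
  unfold T
  rw [← Submodule.Quotient.mk_add, Submodule.Quotient.mk_eq_zero]
  apply Submodule.subset_span
  right
  refine ⟨mkAdm R M e, mkAdm R M (e ∘ Equiv.swap a b), a, b, hab, ?_, rfl, rfl⟩
  intro r hr
  show r • e a ∈ _
  rw [smul_eq_zero_of_mem R M hr]
  exact zero_mem _

end Basic


section Perm

variable (R : Type u) [CommRing R] [IsLocalRing R] (M : Type v) [AddCommGroup M] [Module R M]
  [Module (ResidueField R) M] [IsScalarTower R (ResidueField R) M]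

lemma T_comp_perm {l : ℕ} (σ : Equiv.Perm (Fin l)) (e : Fin l → M) :
    T R M (e ∘ σ) = ((Equiv.Perm.sign σ : ℤˣ) : ℤ) • T R M e := by
  rcases l with _ | n
  · have : σ = 1 := Subsingleton.elim _ _
    subst this
    simp
  · have hmem : σ ∈ Submonoid.closure
        (Set.range fun i : Fin n => Equiv.swap i.castSucc i.succ) := by
      rw [Equiv.Perm.mclosure_swap_castSucc_succ]
      trivial
    have key : ∀ τ : Equiv.Perm (Fin (n + 1)),
        τ ∈ Submonoid.closure (Set.range fun i : Fin n => Equiv.swap i.castSucc i.succ) →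
        ∀ e : Fin (n + 1) → M,
          T R M (e ∘ τ) = ((Equiv.Perm.sign τ : ℤˣ) : ℤ) • T R M e := by
      intro τ hτ
      induction hτ using Submonoid.closure_induction with
      | mem x hx =>
        obtain ⟨i, rfl⟩ := hx
        intro e
        have h := relC R M e i.succ i.castSucc (by simp)
        have hne : i.castSucc ≠ i.succ := (Fin.castSucc_lt_succ (i := i)).ne
        rw [Equiv.swap_comm] at h
        rw [Equiv.Perm.sign_swap hne]
        have : T R M (e ∘ ⇑(Equiv.swap i.castSucc i.succ)) = -T R M e :=
          eq_neg_of_add_eq_zero_right h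
        rw [this]
        simp
      | one =>
        intro e
        simp
      | mul x y hx hy ihx ihy =>
        intro e
        have e1 : e ∘ ⇑(x * y) = (e ∘ ⇑x) ∘ ⇑y := by
          rw [Equiv.Perm.coe_mul]
          rfl
        rw [e1, ihy, ihx, Equiv.Perm.sign_mul, Units.val_mul, mul_smul, smul_comm]
    exact key σ hmem e

end Perm

section Dep

variable {K : Type u} [Field K] {V : Type v} [AddCommGroup V] [Module K V]

/-- A linearly dependent tuple has an entry in the span of the earlier ones. -/
lemma exists_mem_span_earlier : ∀ {n : ℕ} (w : Fin n → V), ¬ LinearIndependent K w →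
    ∃ a : Fin n, w a ∈ Submodule.span K (w '' {j : Fin n | (j : ℕ) < (a : ℕ)})
  | 0, w, h => absurd linearIndependent_empty_type h
  | n + 1, w, h => by
    by_cases hi : LinearIndependent K (Fin.init w)
    · have h1 : w (Fin.last n) ∈ Submodule.span K (Set.range (Fin.init w)) := by
        by_contra h2
        exact h (linearIndependent_finSucc'.mpr ⟨hi, h2⟩)
      refine ⟨Fin.last n, ?_⟩
      refine Submodule.span_mono ?_ h1
      rintro _ ⟨j, rfl⟩
      exact ⟨j.castSucc, by simp, rfl⟩
    · obtain ⟨a, ha⟩ := exists_mem_span_earlier (Fin.init w) hi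
      refine ⟨a.castSucc, ?_⟩
      have e1 : w a.castSucc = Fin.init w a := rfl
      rw [e1]
      refine Submodule.span_mono ?_ ha
      rintro _ ⟨j, hj, rfl⟩
      exact ⟨j.castSucc, by simpa using hj, rfl⟩

end Dep


section Alt

variable (R : Type u) [CommRing R] [IsLocalRing R] (M : Type v) [AddCommGroup M] [Module R M]
  [Module (ResidueField R) M] [IsScalarTower R (ResidueField R) M]

lemma T_eq_zero_of_eq {l : ℕ} (e : Fin l → M) (i j : Fin l) (hij : e i = e j) (hne : i ≠ j) :
    T R M e = 0 := by
  wlog hlt : i < j generalizing i j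
  · exact this j i hij.symm hne.symm (lt_of_le_of_ne (not_lt.mp hlt) hne.symm)
  apply relA R M e j
  apply Submodule.subset_span
  exact ⟨i, hlt, hij⟩

omit [Module (ResidueField R) M] [IsScalarTower R (ResidueField R) M] [AddCommGroup M]
  [Module R M] in
lemma exists_unit_residue (β : ResidueField R) (hβ : β ≠ 0) :
    ∃ c : Rˣ, residue R (c : R) = β := by
  obtain ⟨r, rfl⟩ := residue_surjective β
  have : IsUnit r := by
    by_contra h
    exact hβ ((residue_eq_zero_iff r).mpr ((mem_maximalIdeal r).mpr h))
  exact ⟨this.unit, rfl⟩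

lemma residue_smul (c : R) (x : M) : residue R c • x = c • x :=
  algebraMap_smul (ResidueField R) c x

lemma spanBeforeK_congr {l : ℕ} (e e' : Fin l → M) (i : ℕ)
    (h : ∀ j : Fin l, (j : ℕ) < i → e j = e' j) :
    spanBeforeK R M e i = spanBeforeK R M e' i := by
  unfold spanBeforeK
  congr 1
  exact Set.image_congr (fun j hj => h j hj)

lemma T_eq_sign_smul {l : ℕ} (σ : Equiv.Perm (Fin l)) (e : Fin l → M) :
    T R M e = ((Equiv.Perm.sign σ : ℤˣ) : ℤ) • T R M (e ∘ σ) := by
  rw [T_comp_perm, ← mul_smul, Int.units_coe_mul_self, one_smul]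

variable {n : ℕ}

lemma ne_last_of_lt {j a : Fin (n + 1)} (h : (j : ℕ) < (a : ℕ)) : j ≠ Fin.last n := by
  intro hj
  subst hj
  have := a.is_le
  simp only [Fin.val_last] at h
  omega

lemma T_smul_last (e e' : Fin (n + 1) → M) (hne : ∀ j, j ≠ Fin.last n → e' j = e j)
    (β : ResidueField R) (h : e' (Fin.last n) = β • e (Fin.last n)) :
    T R M e' = β • T R M e := by
  by_cases hβ : β = 0
  · subst hβ
    rw [zero_smul] at h ⊢
    apply relA R M e' (Fin.last n)
    rw [h]
    exact zero_mem _
  · obtain ⟨c, rfl⟩ := exists_unit_residue R β hβ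
    apply relB R M e' e (Fin.last n) c hne
    rw [h, residue_smul, sub_self]
    exact zero_mem _

lemma T_add_last_of_mem (e e' e'' : Fin (n + 1) → M)
    (h' : ∀ j, j ≠ Fin.last n → e' j = e j) (h'' : ∀ j, j ≠ Fin.last n → e'' j = e j)
    (hadd : e'' (Fin.last n) = e (Fin.last n) + e' (Fin.last n))
    (hmem : e (Fin.last n) ∈ spanBeforeK R M e (Fin.last n : Fin (n + 1))) :
    T R M e'' = T R M e + T R M e' := by
  have h0 : T R M e = 0 := relA R M e (Fin.last n) hmem
  have h1 : T R M e'' = residue R ((1 : Rˣ) : R) • T R M e' := by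
    apply relB R M e'' e' (Fin.last n) 1 (fun j hj => by rw [h'' j hj, h' j hj])
    rw [hadd, Units.val_one, one_smul, add_sub_cancel_right,
      spanBeforeK_congr R M e'' e _ (fun j hj => h'' j (ne_last_of_lt hj))]
    exact hmem
  rw [h0, h1, Units.val_one, map_one, one_smul, zero_add]

lemma T_add_last [Module.Finite (ResidueField R) M]
    (hdim : Module.finrank (ResidueField R) M = n + 1) (e e' e'' : Fin (n + 1) → M)
    (h' : ∀ j, j ≠ Fin.last n → e' j = e j) (h'' : ∀ j, j ≠ Fin.last n → e'' j = e j)
    (hadd : e'' (Fin.last n) = e (Fin.last n) + e' (Fin.last n)) :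
    T R M e'' = T R M e + T R M e' := by
  have hW' : spanBeforeK R M e' (Fin.last n : Fin (n + 1)) =
      spanBeforeK R M e (Fin.last n : Fin (n + 1)) :=
    spanBeforeK_congr R M e' e _ (fun j hj => h' j (ne_last_of_lt hj))
  have hW'' : spanBeforeK R M e'' (Fin.last n : Fin (n + 1)) =
      spanBeforeK R M e (Fin.last n : Fin (n + 1)) :=
    spanBeforeK_congr R M e'' e _ (fun j hj => h'' j (ne_last_of_lt hj))
  by_cases hli : LinearIndependent (ResidueField R) e
  · have hspan : Submodule.span (ResidueField R) (Set.range e) = ⊤ :=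
      hli.span_eq_top_of_card_eq_finrank' (by rw [Fintype.card_fin, hdim])
    have hdecomp : ∀ y : M, ∃ β : ResidueField R,
        ∃ w ∈ spanBeforeK R M e (Fin.last n : Fin (n + 1)), y = β • e (Fin.last n) + w := by
      intro y
      have hy : y ∈ Submodule.span (ResidueField R) (Set.range e) := by rw [hspan]; trivial
      have hr : Set.range e ⊆ e '' {j : Fin (n + 1) | (j : ℕ) < ((Fin.last n : Fin (n + 1)) : ℕ)} ∪
          {e (Fin.last n)} := by
        rintro _ ⟨j, rfl⟩
        by_cases hj : j = Fin.last n
        · right; rw [hj]; rfl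
        · left
          exact ⟨j, Fin.lt_last_iff_ne_last.mpr hj, rfl⟩
      have hy2 := Submodule.span_mono hr hy
      rw [Submodule.span_union, Submodule.mem_sup] at hy2
      obtain ⟨w, hw, z, hz, rfl⟩ := hy2
      obtain ⟨β, rfl⟩ := Submodule.mem_span_singleton.mp hz
      exact ⟨β, w, hw, add_comm _ _⟩
    obtain ⟨β, w, hw, hy⟩ := hdecomp (e' (Fin.last n))
    by_cases hβ : β = 0
    · have hmem' : e' (Fin.last n) ∈ spanBeforeK R M e' (Fin.last n : Fin (n + 1)) := by
        rw [hW', hy, hβ, zero_smul, zero_add]
        exact hw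
      rw [add_comm (T R M e) (T R M e')]
      exact T_add_last_of_mem R M e' e e'' (fun j hj => (h' j hj).symm)
        (fun j hj => by rw [h'' j hj, h' j hj]) (by rw [hadd, add_comm]) hmem'
    · obtain ⟨c, hc⟩ := exists_unit_residue R β hβ
      have hT' : T R M e' = β • T R M e := by
        rw [← hc]
        apply relB R M e' e (Fin.last n) c h'
        rw [hW', hy, ← residue_smul R M (c : R) (e (Fin.last n)), hc, add_sub_cancel_left]
        exact hw
      by_cases h1 : 1 + β = 0
      · have hT'' : T R M e'' = 0 := by
          apply relA R M e'' (Fin.last n)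
          rw [hW'', hadd, hy]
          have : e (Fin.last n) + (β • e (Fin.last n) + w) = (1 + β) • e (Fin.last n) + w := by
            rw [add_smul, one_smul, add_assoc]
          rw [this, h1, zero_smul, zero_add]
          exact hw
        rw [hT'', hT']
        have : T R M e + β • T R M e = (1 + β) • T R M e := by rw [add_smul, one_smul]
        rw [this, h1, zero_smul]
      · obtain ⟨c', hc'⟩ := exists_unit_residue R (1 + β) h1
        have hT'' : T R M e'' = (1 + β) • T R M e := by
          rw [← hc']
          apply relB R M e'' e (Fin.last n) c' h''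
          rw [hW'', hadd, hy, ← residue_smul R M (c' : R) (e (Fin.last n)), hc']
          have : e (Fin.last n) + (β • e (Fin.last n) + w) - (1 + β) • e (Fin.last n) = w := by
            rw [add_smul, one_smul]; abel
          rw [this]
          exact hw
        rw [hT'', hT', add_smul, one_smul]
  · obtain ⟨a, ha⟩ := exists_mem_span_earlier e hli
    by_cases hal : a = Fin.last n
    · subst hal
      exact T_add_last_of_mem R M e e' e'' h' h'' hadd ha
    · have h0 : T R M e = 0 := relA R M e a ha
      have h0' : T R M e' = 0 := by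
        apply relA R M e' a
        rw [h' a hal, spanBeforeK_congr R M e' e _
          (fun j hj => h' j (ne_last_of_lt (lt_of_lt_of_le hj (Fin.le_last a))))]
        exact ha
      have h0'' : T R M e'' = 0 := by
        apply relA R M e'' a
        rw [h'' a hal, spanBeforeK_congr R M e'' e _
          (fun j hj => h'' j (ne_last_of_lt (lt_of_lt_of_le hj (Fin.le_last a))))]
        exact ha
      rw [h0, h0', h0'', add_zero]

end Alt


section AltMap

variable (R : Type u) [CommRing R] [IsLocalRing R] (M : Type v) [AddCommGroup M] [Module R M]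
  [Module (ResidueField R) M] [IsScalarTower R (ResidueField R) M]

omit [Module (ResidueField R) M] [IsScalarTower R (ResidueField R) M] [Module R M]
  [AddCommGroup M] [CommRing R] [IsLocalRing R] in
lemma update_comp_swap {n : ℕ} (m : Fin (n + 1) → M) (i : Fin (n + 1)) (z : M) :
    Function.update m i z ∘ ⇑(Equiv.swap i (Fin.last n)) =
      Function.update (m ∘ ⇑(Equiv.swap i (Fin.last n))) (Fin.last n) z := by
  funext j
  simp only [Function.comp_apply, Function.update_apply]
  by_cases hj : j = Fin.last n
  · subst hj
    simp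
  · have : Equiv.swap i (Fin.last n) j ≠ i := by
      intro h
      rw [Equiv.swap_apply_eq_iff, Equiv.swap_apply_left] at h
      exact hj h
    rw [if_neg this, if_neg hj]

lemma T_update_add {l : ℕ} [Module.Finite (ResidueField R) M]
    (hdim : Module.finrank (ResidueField R) M = l) (m : Fin l → M) (i : Fin l) (x y : M) :
    T R M (Function.update m i (x + y)) =
      T R M (Function.update m i x) + T R M (Function.update m i y) := by
  rcases l with _ | n
  · exact i.elim0
  · rw [T_eq_sign_smul R M (Equiv.swap i (Fin.last n)) (Function.update m i (x + y)),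
      T_eq_sign_smul R M (Equiv.swap i (Fin.last n)) (Function.update m i x),
      T_eq_sign_smul R M (Equiv.swap i (Fin.last n)) (Function.update m i y),
      update_comp_swap, update_comp_swap, update_comp_swap, ← smul_add]
    congr 1
    apply T_add_last R M hdim
    · intro j hj
      rw [Function.update_of_ne hj, Function.update_of_ne hj]
    · intro j hj
      rw [Function.update_of_ne hj, Function.update_of_ne hj]
    · rw [Function.update_self, Function.update_self, Function.update_self]

lemma T_update_smul {l : ℕ} (m : Fin l → M) (i : Fin l) (c : ResidueField R) (x : M) :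
    T R M (Function.update m i (c • x)) = c • T R M (Function.update m i x) := by
  rcases l with _ | n
  · exact i.elim0
  · rw [T_eq_sign_smul R M (Equiv.swap i (Fin.last n)) (Function.update m i (c • x)),
      T_eq_sign_smul R M (Equiv.swap i (Fin.last n)) (Function.update m i x),
      update_comp_swap, update_comp_swap, smul_comm]
    congr 1
    apply T_smul_last R M
    · intro j hj
      rw [Function.update_of_ne hj, Function.update_of_ne hj]
    · rw [Function.update_self, Function.update_self]

/-- The class map as an alternating map. -/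
noncomputable def altT {l : ℕ} [Module.Finite (ResidueField R) M]
    (hdim : Module.finrank (ResidueField R) M = l) :
    M [⋀^Fin l]→ₗ[ResidueField R] DetOfLen R M l :=
  { toFun := T R M
    map_update_add' := by
      intro inst m i x y
      rw [Subsingleton.elim inst (instDecidableEqFin l)]
      exact T_update_add R M hdim m i x y
    map_update_smul' := by
      intro inst m i c x
      rw [Subsingleton.elim inst (instDecidableEqFin l)]
      exact T_update_smul R M m i c x
    map_eq_zero_of_eq' := fun v i j h hne => T_eq_zero_of_eq R M v i j h hne }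

lemma altT_apply {l : ℕ} [Module.Finite (ResidueField R) M]
    (hdim : Module.finrank (ResidueField R) M = l) (e : Fin l → M) :
    altT R M hdim e = T R M e := rfl

end AltMap


section Final

variable (R : Type u) [CommRing R] [IsLocalRing R] (M : Type v) [AddCommGroup M] [Module R M]
  [Module (ResidueField R) M] [IsScalarTower R (ResidueField R) M]

lemma ιMulti_eq_zero_of_mem {l : ℕ} (e : Fin l → M) (a : Fin l)
    (h : e a ∈ spanBeforeK R M e a) :
    exteriorPower.ιMulti (ResidueField R) l e = 0 := by
  apply AlternatingMap.map_linearDependent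
  intro hli
  apply linearIndependent_iff_notMem_span.mp hli a
  refine Submodule.span_mono ?_ h
  rintro _ ⟨j, hj, rfl⟩
  refine ⟨j, ⟨Set.mem_univ _, ?_⟩, rfl⟩
  intro hja
  rw [Set.mem_singleton_iff] at hja
  subst hja
  exact lt_irrefl _ (show (j : ℕ) < (j : ℕ) from hj)

/-- The wedge map on the free space of symbols. -/
noncomputable def Φ₀ (l : ℕ) : Free R M l →ₗ[ResidueField R] ⋀[ResidueField R]^l M :=
  Finsupp.linearCombination (ResidueField R)
    (fun e : Adm R M l => exteriorPower.ιMulti (ResidueField R) l e.1)

lemma Φ₀_sym {l : ℕ} (e : Adm R M l) :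
    Φ₀ R M l (sym R M e) = exteriorPower.ιMulti (ResidueField R) l e.1 := by
  unfold Φ₀ sym
  rw [Finsupp.linearCombination_single, one_smul]

lemma Φ₀_rel {l : ℕ} (x : Free R M l) (hx : x ∈ relSet R M l) : Φ₀ R M l x = 0 := by
  rcases hx with (⟨e, a, h, rfl⟩ | ⟨e, e', a, c, hne, h, rfl⟩) | ⟨e, e', a, b, hab, _, he', rfl⟩
  · rw [Φ₀_sym]
    exact ιMulti_eq_zero_of_mem R M e.1 a ((mem_spanBefore_iff R M e.1 a _).mp h)
  · rw [map_sub, map_smul, Φ₀_sym, Φ₀_sym]
    have hw := (mem_spanBefore_iff R M e.1 a _).mp h
    have he : e.1 = Function.update e'.1 a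
        (residue R (c : R) • e'.1 a + (e.1 a - (c : R) • e'.1 a)) := by
      funext j
      by_cases hj : j = a
      · subst hj
        rw [Function.update_self, residue_smul]
        abel
      · rw [Function.update_of_ne hj, hne j hj]
    have h0 : exteriorPower.ιMulti (ResidueField R) l
        (Function.update e'.1 a (e.1 a - (c : R) • e'.1 a)) = 0 := by
      apply ιMulti_eq_zero_of_mem R M _ a
      rw [Function.update_self, spanBeforeK_congr R M _ e.1 _ (fun j hj => by
        have hja : j ≠ a := fun hja => by subst hja; exact lt_irrefl _ hj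
        rw [Function.update_of_ne hja, hne j hja])]
      exact hw
    rw [he, AlternatingMap.map_update_add, AlternatingMap.map_update_smul,
      Function.update_eq_self, h0, add_zero, sub_self]
  · rw [map_add, Φ₀_sym, Φ₀_sym, he', add_comm]
    apply AlternatingMap.map_swap_add
    intro hab'
    subst hab'
    omega

/-- The wedge map on `det`. -/
noncomputable def Φ (l : ℕ) : DetOfLen R M l →ₗ[ResidueField R] ⋀[ResidueField R]^l M :=
  Submodule.liftQ _ (Φ₀ R M l) (by
    rw [Submodule.span_le]
    intro x hx
    exact Φ₀_rel R M x hx)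

lemma Φ_mk {l : ℕ} (e : Adm R M l) :
    Φ R M l (Submodule.Quotient.mk (sym R M e)) =
      exteriorPower.ιMulti (ResidueField R) l e.1 := by
  unfold Φ
  rw [Submodule.liftQ_apply, Φ₀_sym]

lemma finrank_eq_length [Module.Finite (ResidueField R) M] :
    Module.finrank (ResidueField R) M = (Module.length R M).toNat := by
  rw [Module.length_eq_of_surjective (R := ResidueField R) (S := R) (M := M) residue_surjective,
    Module.length_eq_finrank, ENat.toNat_natCast]

/-- S1840. -/
theorem exists_det_equiv [Module.Finite (ResidueField R) M] :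
    ∃ Φ' : CycDet.Det R M ≃ₗ[ResidueField R]
        (⋀[ResidueField R]^((Module.length R M).toNat) M),
      ∀ e : CycDet.Adm R M (Module.length R M).toNat,
        Φ' (CycDet.symbol R M e) =
          exteriorPower.ιMulti (ResidueField R) ((Module.length R M).toNat) e.1 := by
  have hdim := finrank_eq_length R M
  set l := (Module.length R M).toNat with hl
  let Ψ : ⋀[ResidueField R]^l M →ₗ[ResidueField R] DetOfLen R M l :=
    exteriorPower.alternatingMapLinearEquiv (altT R M hdim)
  have hΨ : ∀ e : Fin l → M,
      Ψ (exteriorPower.ιMulti (ResidueField R) l e) = T R M e := fun e =>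
    exteriorPower.alternatingMapLinearEquiv_apply_ιMulti (altT R M hdim) e
  have h1 : (Φ R M l) ∘ₗ Ψ = LinearMap.id := by
    apply exteriorPower.linearMap_ext
    apply AlternatingMap.ext
    intro e
    show Φ R M l (Ψ (exteriorPower.ιMulti (ResidueField R) l e)) =
      exteriorPower.ιMulti (ResidueField R) l e
    rw [hΨ]
    exact Φ_mk R M (mkAdm R M e)
  have h2 : Ψ ∘ₗ (Φ R M l) = LinearMap.id := by
    apply Submodule.linearMap_qext
    apply Finsupp.lhom_ext
    intro e c
    simp only [LinearMap.coe_comp, Function.comp_apply, Submodule.mkQ_apply, LinearMap.id_coe,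
      id_eq]
    have e1 : (Finsupp.single e c : Free R M l) = c • sym R M e := by
      unfold sym
      rw [Finsupp.smul_single, smul_eq_mul, mul_one]
    rw [e1, Submodule.Quotient.mk_smul, map_smul, map_smul, Φ_mk, hΨ]
    rfl
  refine ⟨LinearEquiv.ofLinear (Φ R M l) Ψ h1 h2, ?_⟩
  intro e
  exact Φ_mk R M e

end Final

end Groth.Agent.CycDetExt
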