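import Mathlib
import Groth.Prelude

set_option autoImplicit false
set_option linter.style.haveILetI false
set_option linter.unusedVariables false

universe u v

open IsLocalRing

namespace Groth.Agent.Lib.CycDetH4

variable (R : Type u) [CommRing R] [IsLocalRing R] {M : Type v} [AddCommGroup M] [Module R M] {n : ℕ}

/-- shorthand for `spanBefore` -/
abbrev S (e : Fin n → M) (k : ℕ) : Submodule R M := CycDet.spanBefore R M e k

theorem mem_S_of_lt (e : Fin n → M) {j : Fin n} {k : ℕ} (h : j.val < k) : e j ∈ S R e k :=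
  Submodule.subset_span ⟨j, h, rfl⟩

theorem S_le_of (e : Fin n → M) (k : ℕ) (N : Submodule R M)
    (h : ∀ j : Fin n, j.val < k → e j ∈ N) : S R e k ≤ N :=
  Submodule.span_le.mpr (by rintro _ ⟨j, hj, rfl⟩; exact h j hj)

theorem S_mono (e : Fin n → M) {k k' : ℕ} (h : k ≤ k') : S R e k ≤ S R e k' :=
  S_le_of R e k _ (fun j hj => mem_S_of_lt R e (lt_of_lt_of_le hj h))

theorem S_congr (e e' : Fin n → M) (k : ℕ) (h : ∀ j : Fin n, j.val < k → e j = e' j) :
    S R e k = S R e' k :=
  le_antisymm (S_le_of R e k _ (fun j hj => by rw [h j hj]; exact mem_S_of_lt R e' hj))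
    (S_le_of R e' k _ (fun j hj => by rw [← h j hj]; exact mem_S_of_lt R e hj))

theorem S_succ (e : Fin n → M) (a : Fin n) :
    S R e (a.val + 1) = S R e a.val ⊔ Submodule.span R {e a} := by
  apply le_antisymm
  · refine S_le_of R e _ _ (fun j hj => ?_)
    rcases Nat.lt_succ_iff_lt_or_eq.mp hj with h | h
    · exact Submodule.mem_sup_left (mem_S_of_lt R e h)
    · have hja : j = a := Fin.ext h
      rw [hja]
      exact Submodule.mem_sup_right (Submodule.mem_span_singleton_self _)
  · refine sup_le (S_mono R e (Nat.le_succ _)) ?_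
    rw [Submodule.span_le, Set.singleton_subset_iff]
    exact mem_S_of_lt R e (Nat.lt_succ_self _)

/-- no entry lies in the span of the earlier ones -/
def NonDeg (e : Fin n → M) : Prop := ∀ i : Fin n, e i ∉ S R e i.val

/-- the entries generate -/
def Gen (e : Fin n → M) : Prop := S R e n = ⊤

theorem S_update_eq (e : Fin n → M) (a : Fin n) (y : M) :
    S R e a.val = S R (Function.update e a y) a.val :=
  S_congr R e _ _ (fun j' hj' => by
    rw [Function.update_of_ne (fun hh => by rw [hh] at hj'; exact lt_irrefl _ hj')])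

theorem S_le_S_update (e : Fin n → M) (a : Fin n) (y : M) (c : R)
    (h : e a - c • y ∈ S R e a.val) (k : ℕ) :
    S R e k ≤ S R (Function.update e a y) k := by
  refine S_le_of R e k _ (fun j hj => ?_)
  by_cases hja : j = a
  · have hak : a.val < k := by rw [← hja]; exact hj
    rw [hja]
    have h1 := S_update_eq R e a y
    have h2 : e a = (e a - c • y) + c • (Function.update e a y a) := by
      rw [Function.update_self]; abel
    rw [h2]
    refine Submodule.add_mem _ ?_ (Submodule.smul_mem _ _ (mem_S_of_lt R _ hak))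
    exact S_mono R _ (le_of_lt hak) (h1 ▸ h)
  · have h3 : e j = Function.update e a y j := (Function.update_of_ne hja _ _).symm
    rw [h3]; exact mem_S_of_lt R _ hj

theorem adm_update (e : Fin n → M) (he : CycDet.IsAdmissible R M e) (a : Fin n) (y : M) (c : Rˣ)
    (h : e a - (c : R) • y ∈ S R e a.val) :
    CycDet.IsAdmissible R M (Function.update e a y) := by
  intro i r hr
  by_cases hia : i = a
  · rw [hia, Function.update_self]
    show r • y ∈ S R (Function.update e a y) a.val
    rw [← S_update_eq R e a y]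
    have h2 : r • ((c : R) • y) ∈ S R e a.val := by
      have h4 : r • ((c : R) • y) = r • e a - r • (e a - (c : R) • y) := by
        rw [smul_sub]; abel
      rw [h4]
      exact Submodule.sub_mem _ (he a r hr) (Submodule.smul_mem _ _ h)
    have h5 : ((c⁻¹ : Rˣ) : R) * r * (c : R) = r := by
      rw [mul_comm ((c⁻¹ : Rˣ) : R) r, mul_assoc, Units.inv_mul, mul_one]
    have h3 : r • y = ((c⁻¹ : Rˣ) : R) • (r • ((c : R) • y)) := by
      rw [smul_smul, smul_smul, h5]
    rw [h3]; exact Submodule.smul_mem _ _ h2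
  · rw [Function.update_of_ne hia]
    exact S_le_S_update R e a y c h _ (he i r hr)

/-- constructor for `Adm` -/
def mkAdm (e : Fin n → M) (he : CycDet.IsAdmissible R M e) : CycDet.Adm R M n := Subtype.mk e he

/-- the class of a symbol -/
noncomputable def sy (e : CycDet.Adm R M n) : CycDet.DetOfLen R M n :=
  Submodule.Quotient.mk (CycDet.sym R M e)

theorem mk_eq_zero_of_mem (x : CycDet.Free R M n) (hx : x ∈ CycDet.relSet R M n) :
    (Submodule.Quotient.mk x : CycDet.DetOfLen R M n) = 0 :=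
  (Submodule.Quotient.mk_eq_zero _).mpr (Submodule.subset_span hx)

theorem sy_degenerate (e : CycDet.Adm R M n) (a : Fin n) (h : e.1 a ∈ S R e.1 a.val) :
    sy R e = 0 :=
  mk_eq_zero_of_mem R _ (Or.inl (Or.inl ⟨e, a, h, rfl⟩))

theorem sy_update (e : CycDet.Adm R M n) (a : Fin n) (y : M) (c : Rˣ)
    (h : e.1 a - (c : R) • y ∈ S R e.1 a.val) :
    ∃ e' : CycDet.Adm R M n, e'.1 = Function.update e.1 a y ∧
      sy R e = residue R (c : R) • sy R e' := by
  refine ⟨mkAdm R (Function.update e.1 a y) (adm_update R e.1 e.2 a y c h), rfl, ?_⟩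
  have hx : CycDet.sym R M e - residue R (c : R) •
      CycDet.sym R M (mkAdm R (Function.update e.1 a y) (adm_update R e.1 e.2 a y c h))
      ∈ CycDet.relSet R M n := by
    refine Or.inl (Or.inr ⟨e, mkAdm R (Function.update e.1 a y) (adm_update R e.1 e.2 a y c h),
      a, c, ?_, ?_, rfl⟩)
    · intro j hj; exact (Function.update_of_ne hj _ _).symm
    · show e.1 a - (c : R) • Function.update e.1 a y a ∈ _
      rw [Function.update_self]; exact h
  have h0 := mk_eq_zero_of_mem R _ hx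
  rw [Submodule.Quotient.mk_sub, Submodule.Quotient.mk_smul, sub_eq_zero] at h0
  exact h0

theorem S_le_S_swap (e : Fin n → M) (a b : Fin n) (hab : b.val + 1 = a.val) (k : ℕ)
    (hk : k ≤ b.val ∨ a.val < k) :
    S R e k ≤ S R (e ∘ Equiv.swap a b) k := by
  refine S_le_of R e k _ (fun j hj => ?_)
  have hej : e j = (e ∘ Equiv.swap a b) (Equiv.swap a b j) := by
    show e j = e (Equiv.swap a b (Equiv.swap a b j))
    rw [Equiv.swap_apply_self]
  rw [hej]
  refine mem_S_of_lt R (e ∘ Equiv.swap a b) (j := Equiv.swap a b j) ?_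
  by_cases hja : j = a
  · rw [hja, Equiv.swap_apply_left]
    rw [hja] at hj
    omega
  · by_cases hjb : j = b
    · rw [hjb, Equiv.swap_apply_right]
      rw [hjb] at hj
      omega
    · rw [Equiv.swap_apply_of_ne_of_ne hja hjb]; exact hj

theorem S_swap_eq (e : Fin n → M) (a b : Fin n) (hab : b.val + 1 = a.val) (k : ℕ)
    (hk : k ≤ b.val ∨ a.val < k) :
    S R (e ∘ Equiv.swap a b) k = S R e k := by
  apply le_antisymm
  · have h := S_le_S_swap R (e ∘ Equiv.swap a b) a b hab k hk
    have h2 : (e ∘ Equiv.swap a b) ∘ Equiv.swap a b = e := by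
      funext j
      show e (Equiv.swap a b (Equiv.swap a b j)) = e j
      rw [Equiv.swap_apply_self]
    rw [h2] at h; exact h
  · exact S_le_S_swap R e a b hab k hk

theorem adm_swap (e : Fin n → M) (he : CycDet.IsAdmissible R M e) (a b : Fin n)
    (hab : b.val + 1 = a.val)
    (hma : ∀ r ∈ maximalIdeal R, r • e a ∈ S R e b.val) :
    CycDet.IsAdmissible R M (e ∘ Equiv.swap a b) := by
  intro i r hr
  show r • e (Equiv.swap a b i) ∈ S R (e ∘ Equiv.swap a b) i.val
  by_cases hia : i = a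
  · rw [hia, Equiv.swap_apply_left]
    have h1 : S R e b.val ≤ S R (e ∘ Equiv.swap a b) a.val := by
      rw [← S_swap_eq R e a b hab b.val (Or.inl le_rfl)]
      exact S_mono R _ (by omega)
    exact h1 (he b r hr)
  · by_cases hib : i = b
    · rw [hib, Equiv.swap_apply_right, S_swap_eq R e a b hab b.val (Or.inl le_rfl)]
      exact hma r hr
    · rw [Equiv.swap_apply_of_ne_of_ne hia hib]
      have hk : i.val ≤ b.val ∨ a.val < i.val := by
        have h1 : i.val ≠ a.val := fun h => hia (Fin.ext h)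
        have h2 : i.val ≠ b.val := fun h => hib (Fin.ext h)
        omega
      rw [S_swap_eq R e a b hab i.val hk]
      exact he i r hr

theorem sy_swap (e : CycDet.Adm R M n) (a b : Fin n) (hab : b.val + 1 = a.val)
    (hma : ∀ r ∈ maximalIdeal R, r • e.1 a ∈ S R e.1 b.val) :
    ∃ e' : CycDet.Adm R M n, e'.1 = e.1 ∘ Equiv.swap a b ∧ sy R e = - sy R e' := by
  refine ⟨mkAdm R (e.1 ∘ Equiv.swap a b) (adm_swap R e.1 e.2 a b hab hma), rfl, ?_⟩
  have hx : CycDet.sym R M e +
      CycDet.sym R M (mkAdm R (e.1 ∘ Equiv.swap a b) (adm_swap R e.1 e.2 a b hab hma))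
      ∈ CycDet.relSet R M n :=
    Or.inr ⟨e, mkAdm R (e.1 ∘ Equiv.swap a b) (adm_swap R e.1 e.2 a b hab hma), a, b, hab, hma,
      rfl, rfl⟩
  have h0 := mk_eq_zero_of_mem R _ hx
  rw [Submodule.Quotient.mk_add] at h0
  exact eq_neg_of_add_eq_zero_left h0

theorem gen_of_nonDeg {l : ℕ} (hl : Module.length R M = (l : ℕ∞)) (e : Fin l → M)
    (hnd : NonDeg R e) : Gen R e := by
  by_contra hgen
  have hlt : S R e l < ⊤ := lt_top_iff_ne_top.mpr hgen
  obtain ⟨T, hTdef⟩ : ∃ T : Fin (l + 1 + 1) → Submodule R M,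
      ∀ i, T i = if i.val ≤ l then S R e i.val else ⊤ := ⟨_, fun _ => rfl⟩
  have hT : StrictMono T := by
    rw [Fin.strictMono_iff_lt_succ]
    intro i
    have hi : i.val ≤ l := Nat.lt_succ_iff.mp i.2
    have e1 : T i.castSucc = S R e i.val := by rw [hTdef]; exact if_pos hi
    by_cases hil : i.val < l
    · have e2 : T i.succ = S R e (i.val + 1) := by
        rw [hTdef, if_pos (show (i.succ).val ≤ l by rw [Fin.val_succ]; omega), Fin.val_succ]
      rw [e1, e2]
      refine lt_of_le_of_ne (S_mono R e (Nat.le_succ _)) (fun heq => ?_)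
      have hmem : e ⟨i.val, hil⟩ ∈ S R e (i.val + 1) :=
        mem_S_of_lt R e (j := ⟨i.val, hil⟩) (Nat.lt_succ_self _)
      rw [← heq] at hmem
      exact hnd ⟨i.val, hil⟩ hmem
    · have hil' : i.val = l := by omega
      have e2 : T i.succ = ⊤ := by
        rw [hTdef]
        exact if_neg (show ¬ (i.succ).val ≤ l by rw [Fin.val_succ]; omega)
      rw [e1, e2, hil']; exact hlt
  have hser := Order.LTSeries.length_le_krullDim (LTSeries.mk (l + 1) T hT)
  rw [← Module.coe_length, hl] at hser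
  have h2 : l + 1 ≤ l := by exact_mod_cast hser
  omega

theorem swap_down (y : M) (k : ℕ) (hkn : k < n) :
    ∀ (d : ℕ) (e : CycDet.Adm R M n) (i : Fin n), i.val = k + d → e.1 i = y →
      (∀ r ∈ maximalIdeal R, r • y ∈ S R e.1 k) → Gen R e.1 →
      ∃ (e' : CycDet.Adm R M n) (ε : ResidueField R), sy R e = ε • sy R e' ∧ Gen R e'.1 ∧
        (∀ j : Fin n, j.val < k → e'.1 j = e.1 j) ∧ e'.1 ⟨k, hkn⟩ = y := by
  intro d
  induction d with
  | zero =>
    intro e i hi hey _ hgen
    have hik : i = ⟨k, hkn⟩ := Fin.ext (by simpa using hi)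
    exact ⟨e, 1, by rw [one_smul], hgen, fun _ _ => rfl, by rw [← hik]; exact hey⟩
  | succ d ih =>
    intro e i hi hey hmy hgen
    have hb : k + d < n := by have := i.2; omega
    obtain ⟨b, hbv⟩ : ∃ b : Fin n, b.val = k + d := ⟨⟨k + d, hb⟩, rfl⟩
    have hab : b.val + 1 = i.val := by omega
    have hma : ∀ r ∈ maximalIdeal R, r • e.1 i ∈ S R e.1 b.val := fun r hr => by
      rw [hey]; exact S_mono R e.1 (by omega) (hmy r hr)
    obtain ⟨e1, he1, hsy1⟩ := sy_swap R e i b hab hma
    have hpre1 : ∀ j : Fin n, j.val < k → e1.1 j = e.1 j := by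
      intro j hj
      rw [he1]
      show e.1 (Equiv.swap i b j) = e.1 j
      rw [Equiv.swap_apply_of_ne_of_ne (fun h => by rw [h] at hj; omega)
        (fun h => by rw [h] at hj; omega)]
    have hy1 : e1.1 b = y := by
      rw [he1]
      show e.1 (Equiv.swap i b b) = y
      rw [Equiv.swap_apply_right]; exact hey
    have hmy1 : ∀ r ∈ maximalIdeal R, r • y ∈ S R e1.1 k := fun r hr => by
      rw [S_congr R e1.1 e.1 k hpre1]; exact hmy r hr
    have hgen1 : Gen R e1.1 := by
      show S R e1.1 n = ⊤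
      rw [he1, S_swap_eq R e.1 i b hab n (Or.inr i.2)]; exact hgen
    obtain ⟨e', ε, hsy', hgen', hpre', hk'⟩ := ih e1 b hbv hy1 hmy1 hgen1
    refine ⟨e', -ε, ?_, hgen', fun j hj => (hpre' j hj).trans (hpre1 j hj), hk'⟩
    rw [hsy1, hsy', neg_smul]

theorem prop (f : CycDet.Adm R M n) (hf : NonDeg R f.1) :
    ∀ (d k : ℕ), k + d = n → ∀ e : CycDet.Adm R M n, Gen R e.1 →
      (∀ j : Fin n, j.val < k → e.1 j = f.1 j) →
      ∃ c : ResidueField R, sy R e = c • sy R f := by
  intro d
  induction d with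
  | zero =>
    intro k hk e _ hpre
    have hef : e = f := Subtype.ext (funext (fun j => hpre j (by have := j.2; omega)))
    exact ⟨1, by rw [hef, one_smul]⟩
  | succ d ih =>
    intro k hk e hgen hpre
    classical
    have hkn : k < n := by omega
    obtain ⟨y, hy⟩ : ∃ y, y = f.1 ⟨k, hkn⟩ := ⟨_, rfl⟩
    have hex : ∃ i, k ≤ i ∧ i < n ∧ y ∈ S R e.1 (i + 1) := by
      refine ⟨n - 1, by omega, by omega, ?_⟩
      have h1 : n - 1 + 1 = n := by omega
      rw [h1, show S R e.1 n = ⊤ from hgen]; exact Submodule.mem_top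
    obtain ⟨i, ⟨hki, hin, hyi1⟩, hi_min⟩ :
        ∃ i, (k ≤ i ∧ i < n ∧ y ∈ S R e.1 (i + 1)) ∧
          ∀ i' < i, ¬ (k ≤ i' ∧ i' < n ∧ y ∈ S R e.1 (i' + 1)) :=
      ⟨Nat.find hex, Nat.find_spec hex, fun i' hi' => Nat.find_min hex hi'⟩
    have hyi : y ∉ S R e.1 i := by
      intro hmem
      rcases Nat.eq_or_lt_of_le hki with h | h
      · rw [← h, S_congr R e.1 f.1 k hpre, hy] at hmem
        exact hf ⟨k, hkn⟩ hmem
      · refine hi_min (i - 1) (by omega) ⟨by omega, by omega, ?_⟩
        have h1 : i - 1 + 1 = i := by omega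
        rw [h1]; exact hmem
    have hS : S R e.1 (i + 1) = S R e.1 i ⊔ Submodule.span R {e.1 ⟨i, hin⟩} :=
      S_succ R e.1 ⟨i, hin⟩
    rw [hS] at hyi1
    obtain ⟨s, hs, t, ht, hst⟩ := Submodule.mem_sup.mp hyi1
    obtain ⟨r, hr⟩ := Submodule.mem_span_singleton.mp ht
    have hru : IsUnit r := by
      by_contra hnu
      have hrm : r ∈ maximalIdeal R := (IsLocalRing.mem_maximalIdeal r).mpr hnu
      apply hyi
      rw [← hst, ← hr]
      exact Submodule.add_mem _ hs (e.2 ⟨i, hin⟩ r hrm)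
    obtain ⟨u, hu⟩ : ∃ u : Rˣ, (u : R) = r := ⟨hru.unit, rfl⟩
    have hrel : e.1 ⟨i, hin⟩ - ((u⁻¹ : Rˣ) : R) • y ∈ S R e.1 i := by
      have h1 : e.1 ⟨i, hin⟩ - ((u⁻¹ : Rˣ) : R) • y = - (((u⁻¹ : Rˣ) : R) • s) := by
        rw [← hst, ← hr, ← hu, smul_add, smul_smul, Units.inv_mul, one_smul]; abel
      rw [h1]
      exact Submodule.neg_mem _ (Submodule.smul_mem _ _ hs)
    obtain ⟨e1, he1, hsy1⟩ := sy_update R e ⟨i, hin⟩ y u⁻¹ hrel
    have hgen1 : Gen R e1.1 := by
      show S R e1.1 n = ⊤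
      rw [he1]
      have h1 := S_le_S_update R e.1 ⟨i, hin⟩ y _ hrel n
      rw [show S R e.1 n = ⊤ from hgen] at h1
      exact top_le_iff.mp h1
    have hpre1 : ∀ j : Fin n, j.val < k → e1.1 j = e.1 j := by
      intro j hj
      rw [he1, Function.update_of_ne (fun h => by rw [h] at hj; exact (not_lt.mpr hki) hj)]
    have hmy : ∀ r ∈ maximalIdeal R, r • y ∈ S R e1.1 k := fun r hr => by
      rw [S_congr R e1.1 f.1 k (fun j hj => (hpre1 j hj).trans (hpre j hj)), hy]
      exact f.2 ⟨k, hkn⟩ r hr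
    obtain ⟨e2, ε, hsy2, hgen2, hpre2, hk2⟩ :=
      swap_down R y k hkn (i - k) e1 ⟨i, hin⟩ (by show i = k + (i - k); omega)
        (by rw [he1, Function.update_self]) hmy hgen1
    obtain ⟨c', hc'⟩ := ih (k + 1) (by omega) e2 hgen2 (fun j hj => by
      rcases Nat.lt_succ_iff_lt_or_eq.mp hj with h | h
      · rw [hpre2 j h, hpre1 j h, hpre j h]
      · have hjk : j = ⟨k, hkn⟩ := Fin.ext h
        rw [hjk, hk2, hy])
    exact ⟨residue R ((u⁻¹ : Rˣ) : R) * ε * c', by rw [hsy1, hsy2, hc', smul_smul, smul_smul]⟩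

theorem main (R : Type u) [CommRing R] [IsLocalRing R] (M : Type v) [AddCommGroup M] [Module R M]
    (hM : IsFiniteLength R M) :
    Module.rank (ResidueField R) (CycDet.Det R M) ≤ 1 := by
  classical
  have hfin : Module.length R M ≠ ⊤ := Module.length_ne_top_iff.mpr hM
  have hl : Module.length R M = (((Module.length R M).toNat : ℕ) : ℕ∞) :=
    (ENat.coe_toNat hfin).symm
  obtain ⟨v₀, hv₀⟩ : ∃ v₀ : CycDet.Det R M,
      ∀ e : CycDet.Adm R M (Module.length R M).toNat, ∃ c : ResidueField R, sy R e = c • v₀ := by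
    by_cases hne : ∃ f : CycDet.Adm R M (Module.length R M).toNat, NonDeg R f.1
    · obtain ⟨f, hf⟩ := hne
      refine ⟨sy R f, fun e => ?_⟩
      by_cases hnd : NonDeg R e.1
      · exact prop R f hf _ 0 (Nat.zero_add _) e (gen_of_nonDeg R hl e.1 hnd)
          (fun j hj => absurd hj (Nat.not_lt_zero _))
      · unfold NonDeg at hnd
        push_neg at hnd
        obtain ⟨a, ha⟩ := hnd
        exact ⟨0, by rw [zero_smul]; exact sy_degenerate R e a ha⟩
    · refine ⟨0, fun e => ⟨0, ?_⟩⟩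
      rw [smul_zero]
      have hnd : ¬ NonDeg R e.1 := fun h => hne ⟨e, h⟩
      unfold NonDeg at hnd
      push_neg at hnd
      obtain ⟨a, ha⟩ := hnd
      exact sy_degenerate R e a ha
  rw [rank_le_one_iff]
  refine ⟨v₀, fun v => ?_⟩
  obtain ⟨z, rfl⟩ := Submodule.Quotient.mk_surjective _ v
  induction z using Finsupp.induction_linear with
  | zero => exact ⟨0, by rw [zero_smul]; rfl⟩
  | add z₁ z₂ h₁ h₂ =>
    obtain ⟨r₁, h₁⟩ := h₁
    obtain ⟨r₂, h₂⟩ := h₂
    exact ⟨r₁ + r₂, by rw [add_smul, h₁, h₂]; rfl⟩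
  | single e c =>
    obtain ⟨c', hc'⟩ := hv₀ e
    refine ⟨c * c', ?_⟩
    have h1 : (Submodule.Quotient.mk (Finsupp.single e c) : CycDet.Det R M) = c • sy R e := by
      rw [← Finsupp.smul_single_one]; rfl
    rw [h1, hc', smul_smul]

end Groth.Agent.Lib.CycDetH4
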