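import Mathlib
import Groth.Prelude
import Groth.Agent.Lib.CycDet_helper4

set_option autoImplicit false
set_option linter.style.haveILetI false
set_option linter.unusedVariables false
set_option linter.unusedTactic false
set_option linter.unreachableTactic false
set_option linter.unusedSectionVars false
set_option maxHeartbeats 800000

universe u v

open IsLocalRing

namespace Groth.Agent.Lib.CycDetNZH4

open Groth.Agent.Lib.CycDetH4

section Main

variable (R : Type u) [CommRing R] [IsLocalRing R] {M : Type v} [AddCommGroup M] [Module R M]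

/-- "determinant functions" on `l`-tuples: functions respecting the three admissible relations and
not vanishing on generating admissible tuples -/
structure IsDetFun (l : ℕ) (L : (Fin l → M) → ResidueField R) : Prop where
  relA : ∀ (e : Fin l → M), CycDet.IsAdmissible R M e → ∀ a : Fin l, e a ∈ S R e a.val → L e = 0
  relB : ∀ (e e' : Fin l → M), CycDet.IsAdmissible R M e → CycDet.IsAdmissible R M e' →
    ∀ (a : Fin l) (c : Rˣ), (∀ j, j ≠ a → e j = e' j) → e a - (c : R) • e' a ∈ S R e a.val →
      L e = residue R (c : R) * L e'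
  relC : ∀ (e : Fin l → M), CycDet.IsAdmissible R M e → ∀ (a b : Fin l), b.val + 1 = a.val →
    (∀ r ∈ maximalIdeal R, r • e a ∈ S R e b.val) → L e + L (e ∘ Equiv.swap a b) = 0
  nz : ∀ (e : Fin l → M), CycDet.IsAdmissible R M e → Submodule.span R (Set.range e) = ⊤ → L e ≠ 0

theorem symbol_ne_zero_of_detFun {l : ℕ} (L : (Fin l → M) → ResidueField R) (hL : IsDetFun R l L)
    (e : CycDet.Adm R M l) (he : Submodule.span R (Set.range e.1) = ⊤) :
    (Submodule.Quotient.mk (CycDet.sym R M e) : CycDet.DetOfLen R M l) ≠ 0 := by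
  obtain ⟨Φ, hΦ⟩ : ∃ Φ : CycDet.Free R M l →ₗ[ResidueField R] ResidueField R,
      ∀ e : CycDet.Adm R M l, Φ (CycDet.sym R M e) = L e.1 :=
    ⟨Finsupp.lift (ResidueField R) (ResidueField R) (CycDet.Adm R M l) (fun e => L e.1), fun e => by
      unfold CycDet.sym
      rw [Finsupp.lift_apply, Finsupp.sum_single_index, one_smul]
      exact zero_smul _ _⟩
  have hker : Submodule.span (ResidueField R) (CycDet.relSet R M l) ≤ LinearMap.ker Φ := by
    rw [Submodule.span_le]
    rintro x ((⟨e, a, h, rfl⟩ | ⟨e, e', a, c, h1, h2, rfl⟩) | ⟨e, e', a, b, hab, hm, he', rfl⟩)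
    · show Φ _ = 0
      rw [hΦ]; exact hL.relA e.1 e.2 a h
    · show Φ _ = 0
      rw [map_sub, map_smul, hΦ, hΦ, smul_eq_mul, sub_eq_zero]
      exact hL.relB e.1 e'.1 e.2 e'.2 a c h1 h2
    · show Φ _ = 0
      rw [map_add, hΦ, hΦ, he']
      exact hL.relC e.1 e.2 a b hab hm
  intro h0
  have h1 : Φ (CycDet.sym R M e) = 0 := hker ((Submodule.Quotient.mk_eq_zero _).mp h0)
  rw [hΦ] at h1
  exact hL.nz e.1 e.2 he h1

theorem detFun_zero : IsDetFun R 0 (fun _ : Fin 0 → M => (1 : ResidueField R)) where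
  relA := fun e _ a _ => a.elim0
  relB := fun e e' _ _ a _ _ _ => a.elim0
  relC := fun e _ a _ _ _ => a.elim0
  nz := fun _ _ _ => one_ne_zero

section Step

variable {l : ℕ} (f : M)

/-- the quotient map modulo `f` -/
abbrev pr : M →ₗ[R] M ⧸ Submodule.span R {f} := (Submodule.span R {f}).mkQ

/-- reduced tuple: delete position `i` and project modulo `f` -/
def red (e : Fin (l + 1) → M) (i : Fin (l + 1)) : Fin l → M ⧸ Submodule.span R {f} :=
  fun j => pr R f (e (i.succAbove j))

/-- pivot data: `f` enters the span of the tuple exactly at position `i`, with coefficient `a` -/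
structure Piv (e : Fin (l + 1) → M) (i : Fin (l + 1)) (a : R) (s : M) : Prop where
  mem : s ∈ S R e i.val
  feq : f = a • e i + s
  nmem : f ∉ S R e i.val

theorem piv_unit (e : Fin (l + 1) → M) (he : CycDet.IsAdmissible R M e) {i : Fin (l + 1)} {a : R}
    {s : M} (hp : Piv R f e i a s) : IsUnit a := by
  by_contra hnu
  have ha : a ∈ maximalIdeal R := (mem_maximalIdeal a).mpr hnu
  apply hp.nmem
  rw [hp.feq]
  exact Submodule.add_mem _ (he i a ha) hp.mem

theorem piv_unique (e : Fin (l + 1) → M) {i i' : Fin (l + 1)} {a a' : R} {s s' : M}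
    (hp : Piv R f e i a s) (hp' : Piv R f e i' a' s') : i = i' ∧ residue R a = residue R a' := by
  have key : ∀ {i i' : Fin (l + 1)} {a a' : R} {s s' : M}, Piv R f e i a s → Piv R f e i' a' s' →
      ¬ i.val < i'.val := by
    intro i i' a a' s s' hp hp' hlt
    apply hp'.nmem
    rw [hp.feq]
    exact Submodule.add_mem _ (Submodule.smul_mem _ _ (mem_S_of_lt R e hlt))
      (S_mono R e (le_of_lt hlt) hp.mem)
  have hii : i = i' := Fin.ext (by have h1 := key hp hp'; have h2 := key hp' hp; omega)
  rw [← hii] at hp'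
  refine ⟨hii, ?_⟩
  by_contra hne
  have hu : IsUnit (a - a') := by
    by_contra hnu
    apply hne
    have hmem : a - a' ∈ maximalIdeal R := (mem_maximalIdeal _).mpr hnu
    have h0 : residue R (a - a') = 0 := (residue_eq_zero_iff _).mpr hmem
    rw [map_sub, sub_eq_zero] at h0
    exact h0
  have hsm : (a - a') • e i ∈ S R e i.val := by
    have h1 : (a - a') • e i = s' - s := by
      have h2 : a • e i + s = a' • e i + s' := by rw [← hp.feq, ← hp'.feq]
      rw [sub_smul, sub_eq_sub_iff_add_eq_add, h2, add_comm]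
    rw [h1]
    exact Submodule.sub_mem _ hp'.mem hp.mem
  have hei : e i ∈ S R e i.val := by
    have h3 : e i = (↑(hu.unit⁻¹) : R) • ((a - a') • e i) := by
      rw [smul_smul, IsUnit.val_inv_mul, one_smul]
    rw [h3]
    exact Submodule.smul_mem _ _ hsm
  apply hp.nmem
  rw [hp.feq]
  exact Submodule.add_mem _ (Submodule.smul_mem _ _ hei) hp.mem

theorem S_zero (e : Fin (l + 1) → M) : S R e 0 = ⊥ :=
  le_bot_iff.mp (S_le_of R e 0 ⊥ (fun j hj => absurd hj (Nat.not_lt_zero _)))

theorem exists_piv (hf0 : f ≠ 0) (e : Fin (l + 1) → M) (hmem : f ∈ S R e (l + 1)) :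
    ∃ p : Fin (l + 1) × R × M, Piv R f e p.1 p.2.1 p.2.2 := by
  classical
  have hex : ∃ k, f ∈ S R e (k + 1) := ⟨l, hmem⟩
  obtain ⟨k, hk, hmin⟩ : ∃ k, f ∈ S R e (k + 1) ∧ ∀ k' < k, f ∉ S R e (k' + 1) :=
    ⟨Nat.find hex, Nat.find_spec hex, fun k' hk' => Nat.find_min hex hk'⟩
  have hkl : k ≤ l := by
    by_contra hlt
    exact hmin l (by omega) hmem
  have hnot : f ∉ S R e k := by
    rcases Nat.eq_zero_or_pos k with h0 | hpos
    · rw [h0, S_zero]
      intro h; exact hf0 ((Submodule.mem_bot R).mp h)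
    · obtain ⟨k', rfl⟩ : ∃ k', k = k' + 1 := ⟨k - 1, by omega⟩
      exact hmin k' (Nat.lt_succ_self _)
  obtain ⟨i, hi⟩ : ∃ i : Fin (l + 1), i.val = k := ⟨⟨k, by omega⟩, rfl⟩
  rw [← hi] at hk hnot
  rw [S_succ R e i] at hk
  obtain ⟨y, hy, z, hz, hyz⟩ := Submodule.mem_sup.mp hk
  obtain ⟨a, ha⟩ := Submodule.mem_span_singleton.mp hz
  refine ⟨(i, a, y), hy, ?_, hnot⟩
  show f = a • e i + y
  rw [← hyz, ← ha, add_comm]

theorem mem_of_piv (e : Fin (l + 1) → M) {i : Fin (l + 1)} {a : R} {s : M}
    (hp : Piv R f e i a s) : f ∈ S R e (l + 1) := by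
  rw [hp.feq]
  exact Submodule.add_mem _ (Submodule.smul_mem _ _ (mem_S_of_lt R e i.2))
    (S_mono R e (le_of_lt i.2) hp.mem)

theorem pr_piv (e : Fin (l + 1) → M) {i : Fin (l + 1)} {a : R} {s : M} (hu : IsUnit a)
    (hp : Piv R f e i a s) : ∃ t ∈ S R e i.val, pr R f (e i) = pr R f t := by
  refine ⟨-((↑(hu.unit⁻¹) : R) • s), Submodule.neg_mem _ (Submodule.smul_mem _ _ hp.mem), ?_⟩
  show (Submodule.Quotient.mk (e i) : M ⧸ Submodule.span R {f}) = Submodule.Quotient.mk _
  rw [Submodule.Quotient.eq]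
  have h1 : e i - -((↑(hu.unit⁻¹) : R) • s) = (↑(hu.unit⁻¹) : R) • f := by
    rw [hp.feq, smul_add, smul_smul, IsUnit.val_inv_mul, one_smul, sub_neg_eq_add]
  rw [h1]
  exact Submodule.smul_mem _ _ (Submodule.mem_span_singleton_self f)

theorem mem_S_red (e : Fin (l + 1) → M) (i : Fin (l + 1)) (j : Fin l) (t : Fin (l + 1))
    (hti : t ≠ i) (ht : t.val < (i.succAbove j).val) :
    pr R f (e t) ∈ S R (red R f e i) j.val := by
  obtain ⟨j', hj'⟩ := Fin.exists_succAbove_eq hti
  have hlt : j' < j :=
    (Fin.strictMono_succAbove i).lt_iff_lt.mp (by rw [hj']; exact Fin.lt_def.mpr ht)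
  have h1 : red R f e i j' ∈ S R (red R f e i) j.val :=
    mem_S_of_lt R (red R f e i) (Fin.lt_def.mp hlt)
  have h2 : red R f e i j' = pr R f (e t) := by
    show pr R f (e (i.succAbove j')) = _
    rw [hj']
  rw [← h2]; exact h1

theorem map_S_le_red (e : Fin (l + 1) → M) {i : Fin (l + 1)} {a : R} {s : M} (hu : IsUnit a)
    (hp : Piv R f e i a s) (j : Fin l) (k : ℕ) (hk : k ≤ (i.succAbove j).val) :
    (S R e k).map (pr R f) ≤ S R (red R f e i) j.val := by
  rw [Submodule.map_le_iff_le_comap]
  refine S_le_of R e k _ (fun t ht => ?_)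
  show pr R f (e t) ∈ S R (red R f e i) j.val
  by_cases hti : t = i
  · obtain ⟨t0, ht0, heq⟩ := pr_piv R f e hu hp
    rw [hti, heq]
    have hle : S R e i.val ≤ (S R (red R f e i) j.val).comap (pr R f) :=
      S_le_of R e i.val _ (fun t' ht' => by
        show pr R f (e t') ∈ S R (red R f e i) j.val
        exact mem_S_red R f e i j t' (Fin.ne_of_val_ne (by omega))
          (by rw [hti] at ht; omega))
    exact hle ht0
  · exact mem_S_red R f e i j t hti (lt_of_lt_of_le ht hk)

theorem adm_red (e : Fin (l + 1) → M) (he : CycDet.IsAdmissible R M e) {i : Fin (l + 1)} {a : R}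
    {s : M} (hu : IsUnit a) (hp : Piv R f e i a s) :
    CycDet.IsAdmissible R (M ⧸ Submodule.span R {f}) (red R f e i) := by
  intro j r hr
  show r • pr R f (e (i.succAbove j)) ∈ S R (red R f e i) j.val
  rw [← map_smul]
  exact map_S_le_red R f e hu hp j _ le_rfl (Submodule.mem_map_of_mem (he (i.succAbove j) r hr))

theorem gen_red (e : Fin (l + 1) → M) {i : Fin (l + 1)} {a : R} {s : M} (hu : IsUnit a)
    (hp : Piv R f e i a s) (hgen : Submodule.span R (Set.range e) = ⊤) :
    Submodule.span R (Set.range (red R f e i)) = ⊤ := by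
  have hrange : ∀ t : Fin (l + 1), t ≠ i →
      pr R f (e t) ∈ Submodule.span R (Set.range (red R f e i)) := by
    intro t hti
    obtain ⟨j', hj'⟩ := Fin.exists_succAbove_eq hti
    refine Submodule.subset_span ⟨j', ?_⟩
    show pr R f (e (i.succAbove j')) = _
    rw [hj']
  have hle : Submodule.span R (Set.range e) ≤
      (Submodule.span R (Set.range (red R f e i))).comap (pr R f) := by
    rw [Submodule.span_le]
    rintro _ ⟨t, rfl⟩
    show pr R f (e t) ∈ Submodule.span R (Set.range (red R f e i))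
    by_cases hti : t = i
    · obtain ⟨t0, ht0, heq⟩ := pr_piv R f e hu hp
      rw [hti, heq]
      have h2 : S R e i.val ≤ (Submodule.span R (Set.range (red R f e i))).comap (pr R f) :=
        S_le_of R e i.val _ (fun t' ht' => hrange t' (Fin.ne_of_val_ne (by omega)))
      exact h2 ht0
    · exact hrange t hti
  rw [eq_top_iff]
  intro x _
  obtain ⟨y, rfl⟩ := Submodule.mkQ_surjective (Submodule.span R {f}) x
  exact hle (by rw [hgen]; exact Submodule.mem_top)

open Classical in
/-- the functional on `(l+1)`-tuples of `M` built from one on `l`-tuples of `M/f` -/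
noncomputable def Lfun (Lb : (Fin l → M ⧸ Submodule.span R {f}) → ResidueField R)
    (e : Fin (l + 1) → M) : ResidueField R :=
  if h : ∃ p : Fin (l + 1) × R × M, Piv R f e p.1 p.2.1 p.2.2 then
    (-1) ^ (Classical.choose h).1.val * (residue R (Classical.choose h).2.1)⁻¹ *
      Lb (red R f e (Classical.choose h).1)
  else 0

theorem Lfun_eq (Lb : (Fin l → M ⧸ Submodule.span R {f}) → ResidueField R)
    (e : Fin (l + 1) → M) {i : Fin (l + 1)} {a : R} {s : M} (hp : Piv R f e i a s) :
    Lfun R f Lb e = (-1) ^ i.val * (residue R a)⁻¹ * Lb (red R f e i) := by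
  have h : ∃ p : Fin (l + 1) × R × M, Piv R f e p.1 p.2.1 p.2.2 := ⟨(i, a, s), hp⟩
  unfold Lfun
  rw [dif_pos h]
  obtain ⟨h1, h2⟩ := piv_unique R f e (Classical.choose_spec h) hp
  rw [h1, h2]

theorem Lfun_eq_zero (Lb : (Fin l → M ⧸ Submodule.span R {f}) → ResidueField R)
    (e : Fin (l + 1) → M) (h : ¬ ∃ p : Fin (l + 1) × R × M, Piv R f e p.1 p.2.1 p.2.2) :
    Lfun R f Lb e = 0 := by
  unfold Lfun
  rw [dif_neg h]

theorem Lb_red_eq_zero (Lb : (Fin l → M ⧸ Submodule.span R {f}) → ResidueField R)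
    (hLb : IsDetFun R l Lb) (e : Fin (l + 1) → M) (he : CycDet.IsAdmissible R M e)
    {i : Fin (l + 1)} {a : R} {s : M} (hu : IsUnit a) (hp : Piv R f e i a s)
    (k : Fin (l + 1)) (hki : k ≠ i) (hk : pr R f (e k) ∈ (S R e k.val).map (pr R f)) :
    Lb (red R f e i) = 0 := by
  obtain ⟨j, hj⟩ := Fin.exists_succAbove_eq hki
  refine hLb.relA (red R f e i) (adm_red R f e he hu hp) j ?_
  show pr R f (e (i.succAbove j)) ∈ S R (red R f e i) j.val
  rw [hj]
  exact map_S_le_red R f e hu hp j k.val (le_of_eq (congrArg Fin.val hj).symm) hk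

theorem Lfun_relA (Lb : (Fin l → M ⧸ Submodule.span R {f}) → ResidueField R)
    (hLb : IsDetFun R l Lb) (e : Fin (l + 1) → M) (he : CycDet.IsAdmissible R M e)
    (k : Fin (l + 1)) (hk : e k ∈ S R e k.val) : Lfun R f Lb e = 0 := by
  by_cases h : ∃ p : Fin (l + 1) × R × M, Piv R f e p.1 p.2.1 p.2.2
  · obtain ⟨⟨i, a, s⟩, hp⟩ := h
    have hp : Piv R f e i a s := hp
    rw [Lfun_eq R f Lb e hp]
    have hu := piv_unit R f e he hp
    have hki : k ≠ i := by
      intro hki
      rw [hki] at hk
      exact hp.nmem (by rw [hp.feq]; exact Submodule.add_mem _ (Submodule.smul_mem _ _ hk) hp.mem)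
    rw [Lb_red_eq_zero R f Lb hLb e he hu hp k hki (Submodule.mem_map_of_mem hk), mul_zero]
  · exact Lfun_eq_zero R f Lb e h

theorem S_eq_of_relB {n : ℕ} (e e' : Fin n → M) (k : Fin n) (c : Rˣ)
    (hoff : ∀ j, j ≠ k → e j = e' j) (hk : e k - (c : R) • e' k ∈ S R e k.val) (m : ℕ) :
    S R e m = S R e' m := by
  have hSk : S R e k.val = S R e' k.val :=
    S_congr R e e' k.val (fun j hj => hoff j (Fin.ne_of_val_ne (by omega)))
  apply le_antisymm
  · refine S_le_of R e m _ (fun j hj => ?_)
    by_cases hjk : j = k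
    · rw [hjk] at hj ⊢
      have h1 : e k = (e k - (c : R) • e' k) + (c : R) • e' k := by abel
      rw [h1]
      exact Submodule.add_mem _ (S_mono R e' (le_of_lt hj) (by rw [← hSk]; exact hk))
        (Submodule.smul_mem _ _ (mem_S_of_lt R e' hj))
    · rw [hoff j hjk]; exact mem_S_of_lt R e' hj
  · refine S_le_of R e' m _ (fun j hj => ?_)
    by_cases hjk : j = k
    · rw [hjk] at hj ⊢
      have h1 : e' k = (↑(c⁻¹) : R) • (e k - (e k - (c : R) • e' k)) := by
        rw [sub_sub_cancel, smul_smul, Units.inv_mul, one_smul]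
      rw [h1]
      exact Submodule.smul_mem _ _ (Submodule.sub_mem _ (mem_S_of_lt R e hj)
        (S_mono R e (le_of_lt hj) hk))
    · rw [← hoff j hjk]; exact mem_S_of_lt R e hj

theorem Lfun_relB (hf0 : f ≠ 0) (Lb : (Fin l → M ⧸ Submodule.span R {f}) → ResidueField R)
    (hLb : IsDetFun R l Lb) (e e' : Fin (l + 1) → M)
    (he : CycDet.IsAdmissible R M e) (he' : CycDet.IsAdmissible R M e') (k : Fin (l + 1)) (c : Rˣ)
    (hoff : ∀ j, j ≠ k → e j = e' j) (hk : e k - (c : R) • e' k ∈ S R e k.val) :
    Lfun R f Lb e = residue R (c : R) * Lfun R f Lb e' := by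
  have hS := S_eq_of_relB R e e' k c hoff hk
  have hc : residue R (c : R) ≠ 0 := (residue_ne_zero_iff_isUnit _).mpr c.isUnit
  by_cases h : ∃ p : Fin (l + 1) × R × M, Piv R f e p.1 p.2.1 p.2.2
  · obtain ⟨⟨i, a, s⟩, hp⟩ := h
    have hp : Piv R f e i a s := hp
    have hu := piv_unit R f e he hp
    by_cases hik : i = k
    · rw [← hik] at hoff hk
      have hp' : Piv R f e' i (a * c) (a • (e i - (c : R) • e' i) + s) := by
        refine ⟨?_, ?_, ?_⟩
        · rw [← hS]; exact Submodule.add_mem _ (Submodule.smul_mem _ _ hk) hp.mem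
        · rw [mul_smul, smul_sub, hp.feq]; abel
        · rw [← hS]; exact hp.nmem
      have hred : red R f e i = red R f e' i := by
        funext j
        show pr R f (e (i.succAbove j)) = pr R f (e' (i.succAbove j))
        rw [hoff _ (Fin.succAbove_ne i j)]
      rw [Lfun_eq R f Lb e hp, Lfun_eq R f Lb e' hp', hred, map_mul, mul_inv]
      have hcc : residue R (c : R) * (residue R (c : R))⁻¹ = 1 := mul_inv_cancel₀ hc
      linear_combination (-((-1) ^ i.val * (residue R a)⁻¹ * Lb (red R f e' i))) * hcc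
    · have hki : k ≠ i := fun h => hik h.symm
      obtain ⟨j, hj⟩ := Fin.exists_succAbove_eq hki
      have hp' : Piv R f e' i a s :=
        ⟨by rw [← hS]; exact hp.mem, by rw [← hoff i hik]; exact hp.feq,
          by rw [← hS]; exact hp.nmem⟩
      have hu' := piv_unit R f e' he' hp'
      have hoff' : ∀ j', j' ≠ j → red R f e i j' = red R f e' i j' := by
        intro j' hj'
        show pr R f (e (i.succAbove j')) = pr R f (e' (i.succAbove j'))
        rw [hoff _ (fun h => hj' (Fin.succAbove_right_injective (h.trans hj.symm)))]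
      have hmem' : red R f e i j - (c : R) • red R f e' i j ∈ S R (red R f e i) j.val := by
        show pr R f (e (i.succAbove j)) - (c : R) • pr R f (e' (i.succAbove j)) ∈ _
        rw [hj, ← map_smul, ← map_sub]
        exact map_S_le_red R f e hu hp j k.val (le_of_eq (congrArg Fin.val hj).symm)
          (Submodule.mem_map_of_mem hk)
      have hB := hLb.relB _ _ (adm_red R f e he hu hp) (adm_red R f e' he' hu' hp') j c hoff' hmem'
      rw [Lfun_eq R f Lb e hp, Lfun_eq R f Lb e' hp', hB]
      ring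
  · have h' : ¬ ∃ p : Fin (l + 1) × R × M, Piv R f e' p.1 p.2.1 p.2.2 := by
      rintro ⟨⟨i', a', s'⟩, hp'⟩
      have hp' : Piv R f e' i' a' s' := hp'
      exact h (exists_piv R f hf0 e (by rw [hS]; exact mem_of_piv R f e' hp'))
    rw [Lfun_eq_zero R f Lb e h, Lfun_eq_zero R f Lb e' h', mul_zero]

theorem swap_succAbove (a b : Fin (l + 1)) (hab : b.val + 1 = a.val) (j : Fin l) :
    Equiv.swap a b (a.succAbove j) = b.succAbove j := by
  have hc : (j.castSucc).val = j.val := rfl
  have hs : (j.succ).val = j.val + 1 := Fin.val_succ j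
  rcases lt_trichotomy j.val b.val with h | h | h
  · have h1 : a.succAbove j = j.castSucc :=
      Fin.succAbove_of_castSucc_lt a j (Fin.lt_def.mpr (by omega))
    have h2 : b.succAbove j = j.castSucc :=
      Fin.succAbove_of_castSucc_lt b j (Fin.lt_def.mpr (by omega))
    rw [h1, h2]
    exact Equiv.swap_apply_of_ne_of_ne (Fin.ne_of_val_ne (by omega)) (Fin.ne_of_val_ne (by omega))
  · have h1 : a.succAbove j = j.castSucc :=
      Fin.succAbove_of_castSucc_lt a j (Fin.lt_def.mpr (by omega))
    have h2 : b.succAbove j = j.succ :=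
      Fin.succAbove_of_le_castSucc b j (Fin.le_def.mpr (by omega))
    have h3 : j.castSucc = b := Fin.ext (by omega)
    have h4 : j.succ = a := Fin.ext (by omega)
    rw [h1, h2, h3, h4, Equiv.swap_apply_right]
  · have h1 : a.succAbove j = j.succ :=
      Fin.succAbove_of_le_castSucc a j (Fin.le_def.mpr (by omega))
    have h2 : b.succAbove j = j.succ :=
      Fin.succAbove_of_le_castSucc b j (Fin.le_def.mpr (by omega))
    rw [h1, h2]
    exact Equiv.swap_apply_of_ne_of_ne (Fin.ne_of_val_ne (by omega)) (Fin.ne_of_val_ne (by omega))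

theorem Lfun_relC_aux (Lb : (Fin l → M ⧸ Submodule.span R {f}) → ResidueField R)
    (hLb : IsDetFun R l Lb) (e : Fin (l + 1) → M)
    (he : CycDet.IsAdmissible R M e) (a b : Fin (l + 1)) (hab : b.val + 1 = a.val)
    (hm : ∀ r ∈ maximalIdeal R, r • e a ∈ S R e b.val)
    {i : Fin (l + 1)} {α : R} {s : M} (hp : Piv R f e i α s) :
    Lfun R f Lb e + Lfun R f Lb (e ∘ Equiv.swap a b) = 0 := by
  obtain ⟨e', he'def⟩ : ∃ e' : Fin (l + 1) → M, e' = e ∘ Equiv.swap a b := ⟨_, rfl⟩
  rw [← he'def]
  have he' : CycDet.IsAdmissible R M e' := by rw [he'def]; exact adm_swap R e he a b hab hm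
  have hu := piv_unit R f e he hp
  have hea : e' a = e b := by
    rw [he'def]; show e (Equiv.swap a b a) = e b; rw [Equiv.swap_apply_left]
  have heb : e' b = e a := by
    rw [he'def]; show e (Equiv.swap a b b) = e a; rw [Equiv.swap_apply_right]
  have heo : ∀ t, t ≠ a → t ≠ b → e' t = e t := by
    intro t h1 h2
    rw [he'def]; show e (Equiv.swap a b t) = e t; rw [Equiv.swap_apply_of_ne_of_ne h1 h2]
  have hSo : ∀ k : ℕ, k ≤ b.val ∨ a.val < k → S R e' k = S R e k := by
    intro k hk; rw [he'def]; exact S_swap_eq R e a b hab k hk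
  have hSb : S R e' b.val = S R e b.val := hSo b.val (Or.inl le_rfl)
  have hSa' : S R e' a.val = S R e b.val ⊔ Submodule.span R {e a} := by
    rw [← hab, S_succ R e' b, hSb, heb]
  have hSa : S R e a.val = S R e b.val ⊔ Submodule.span R {e b} := by
    rw [← hab, S_succ R e b]
  have hba : b ≠ a := Fin.ne_of_val_ne (by omega)
  have hab' : a ≠ b := fun h => hba h.symm
  have hSba : S R e b.val ≤ S R e a.val := S_mono R e (by omega)
  have hSba' : S R e' b.val ≤ S R e' a.val := S_mono R e' (by omega)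
  by_cases hia : i = a
  · rw [hia] at hp
    by_cases hfb : f ∈ S R e' a.val
    · rw [hSa'] at hfb
      obtain ⟨y, hy, z, hz, hyz⟩ := Submodule.mem_sup.mp hfb
      obtain ⟨β, hβ⟩ := Submodule.mem_span_singleton.mp hz
      have hfeq : f = β • e a + y := by rw [← hyz, ← hβ, add_comm]
      have hp2 : Piv R f e a β y := ⟨hSba hy, hfeq, hp.nmem⟩
      have hp' : Piv R f e' b β y :=
        ⟨by rw [hSb]; exact hy, by rw [heb]; exact hfeq,
          fun h => hp.nmem (hSba (by rw [← hSb]; exact h))⟩
      have hred : red R f e a = red R f e' b := by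
        funext j
        show pr R f (e (a.succAbove j)) = pr R f (e' (b.succAbove j))
        rw [he'def]
        show _ = pr R f (e (Equiv.swap a b (b.succAbove j)))
        rw [← swap_succAbove a b hab j, Equiv.swap_apply_self]
      rw [Lfun_eq R f Lb e hp2, Lfun_eq R f Lb e' hp', hred, ← hab, pow_succ]
      ring
    · have hsmem : s ∈ S R e b.val ⊔ Submodule.span R {e b} := by rw [← hSa]; exact hp.mem
      obtain ⟨s0, hs0, z, hz, hsz⟩ := Submodule.mem_sup.mp hsmem
      obtain ⟨β, hβ⟩ := Submodule.mem_span_singleton.mp hz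
      have hfeq : f = α • e a + (s0 + β • e b) := by rw [hβ, hsz]; exact hp.feq
      have hp' : Piv R f e' a β (α • e a + s0) := by
        refine ⟨?_, ?_, hfb⟩
        · rw [hSa']
          exact Submodule.add_mem _ (Submodule.mem_sup_right (Submodule.smul_mem _ _
            (Submodule.mem_span_singleton_self _))) (Submodule.mem_sup_left hs0)
        · rw [hea, hfeq]; abel
      have hu' := piv_unit R f e' he' hp'
      obtain ⟨jb, hjb⟩ := Fin.exists_succAbove_eq hba
      have hoff' : ∀ j, j ≠ jb → red R f e' a j = red R f e a j := by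
        intro j hj
        show pr R f (e' (a.succAbove j)) = pr R f (e (a.succAbove j))
        rw [heo _ (Fin.succAbove_ne a j)
          (fun h => hj (Fin.succAbove_right_injective (h.trans hjb.symm)))]
      obtain ⟨c, hc⟩ : ∃ c : Rˣ, (c : R) = -(β * (↑(hu.unit⁻¹) : R)) :=
        ⟨-(hu'.unit * hu.unit⁻¹), by rw [Units.val_neg, Units.val_mul, IsUnit.unit_spec]⟩
      have hmem' : red R f e' a jb - (c : R) • red R f e a jb ∈ S R (red R f e' a) jb.val := by
        show pr R f (e' (a.succAbove jb)) - (c : R) • pr R f (e (a.succAbove jb)) ∈ _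
        rw [hjb, heb, ← map_smul, ← map_sub]
        have h1 : pr R f (e a - (c : R) • e b) = pr R f (-((↑(hu.unit⁻¹) : R) • s0)) := by
          show (Submodule.Quotient.mk _ : M ⧸ Submodule.span R {f}) = Submodule.Quotient.mk _
          rw [Submodule.Quotient.eq]
          have h2 : e a - (c : R) • e b - -((↑(hu.unit⁻¹) : R) • s0) =
              (↑(hu.unit⁻¹) : R) • f := by
            rw [hfeq, hc, smul_add, smul_add, smul_smul, smul_smul, IsUnit.val_inv_mul, one_smul,
              neg_smul, mul_comm β]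
            abel
          rw [h2]
          exact Submodule.smul_mem _ _ (Submodule.mem_span_singleton_self f)
        rw [h1]
        refine map_S_le_red R f e' hu' hp' jb b.val (le_of_eq (congrArg Fin.val hjb).symm)
          (Submodule.mem_map_of_mem ?_)
        rw [hSb]
        exact Submodule.neg_mem _ (Submodule.smul_mem _ _ hs0)
      have hB := hLb.relB _ _ (adm_red R f e' he' hu' hp') (adm_red R f e he hu hp) jb c
        hoff' hmem'
      have hrc : residue R (c : R) = -(residue R β * (residue R α)⁻¹) := by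
        rw [hc, map_neg, map_mul, eq_inv_of_mul_eq_one_left
          (show residue R (↑(hu.unit⁻¹) : R) * residue R α = 1 by
            rw [← map_mul, IsUnit.val_inv_mul, map_one])]
      have hβ0 : residue R β ≠ 0 := (residue_ne_zero_iff_isUnit _).mpr hu'
      have hββ : residue R β * (residue R β)⁻¹ = 1 := mul_inv_cancel₀ hβ0
      rw [Lfun_eq R f Lb e hp, Lfun_eq R f Lb e' hp', hB, hrc]
      linear_combination (-((-1) ^ a.val * (residue R α)⁻¹ * Lb (red R f e a))) * hββ
  · by_cases hib : i = b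
    · rw [hib] at hp
      by_cases hfa : f ∈ S R e' a.val
      · rw [hSa'] at hfa
        obtain ⟨y, hy, z, hz, hyz⟩ := Submodule.mem_sup.mp hfa
        obtain ⟨β, hβ⟩ := Submodule.mem_span_singleton.mp hz
        have hp' : Piv R f e' b β y :=
          ⟨by rw [hSb]; exact hy, by rw [heb, ← hyz, ← hβ, add_comm],
            by rw [hSb]; exact hp.nmem⟩
        have hu' := piv_unit R f e' he' hp'
        have hz1 : Lb (red R f e b) = 0 := by
          refine Lb_red_eq_zero R f Lb hLb e he hu hp a hab' ?_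
          obtain ⟨t, ht, heq⟩ := pr_piv R f e' hu' hp'
          rw [← heb, heq]
          exact Submodule.mem_map_of_mem (hSba (by rw [← hSb]; exact ht))
        have hz2 : Lb (red R f e' b) = 0 := by
          refine Lb_red_eq_zero R f Lb hLb e' he' hu' hp' a hab' ?_
          obtain ⟨t, ht, heq⟩ := pr_piv R f e hu hp
          rw [hea, heq]
          exact Submodule.mem_map_of_mem (hSba' (by rw [hSb]; exact ht))
        rw [Lfun_eq R f Lb e hp, Lfun_eq R f Lb e' hp', hz1, hz2, mul_zero, mul_zero, add_zero]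
      · have hp' : Piv R f e' a α s :=
          ⟨hSba' (by rw [hSb]; exact hp.mem), by rw [hea]; exact hp.feq, hfa⟩
        have hred : red R f e b = red R f e' a := by
          funext j
          show pr R f (e (b.succAbove j)) = pr R f (e' (a.succAbove j))
          rw [he'def]
          show _ = pr R f (e (Equiv.swap a b (a.succAbove j)))
          rw [swap_succAbove a b hab j]
        rw [Lfun_eq R f Lb e hp, Lfun_eq R f Lb e' hp', hred, ← hab, pow_succ]
        ring
    · have hk : i.val ≤ b.val ∨ a.val < i.val := by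
        have h1 : i.val ≠ a.val := fun h => hia (Fin.ext h)
        have h2 : i.val ≠ b.val := fun h => hib (Fin.ext h)
        omega
      have hp' : Piv R f e' i α s :=
        ⟨by rw [hSo _ hk]; exact hp.mem, by rw [heo i hia hib]; exact hp.feq,
          by rw [hSo _ hk]; exact hp.nmem⟩
      have hu' := piv_unit R f e' he' hp'
      obtain ⟨ja, hja⟩ := Fin.exists_succAbove_eq (Ne.symm hia)
      obtain ⟨jb, hjb⟩ := Fin.exists_succAbove_eq (Ne.symm hib)
      have hjab : jb.val + 1 = ja.val := by
        have hmono := Fin.strictMono_succAbove i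
        have h1 : jb < ja :=
          hmono.lt_iff_lt.mp (by rw [hja, hjb]; exact Fin.lt_def.mpr (by omega))
        by_contra hne
        have h2 : jb.val + 1 < ja.val := by have := Fin.lt_def.mp h1; omega
        obtain ⟨z, hz⟩ : ∃ z : Fin l, z.val = jb.val + 1 :=
          ⟨⟨jb.val + 1, by have := ja.2; omega⟩, rfl⟩
        have h3 : i.succAbove jb < i.succAbove z := hmono (Fin.lt_def.mpr (by omega))
        have h4 : i.succAbove z < i.succAbove ja := hmono (Fin.lt_def.mpr (by omega))
        rw [hjb] at h3; rw [hja] at h4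
        have h5 := Fin.lt_def.mp h3
        have h6 := Fin.lt_def.mp h4
        omega
      have hred : red R f e' i = red R f e i ∘ Equiv.swap ja jb := by
        funext j
        show pr R f (e' (i.succAbove j)) = pr R f (e (i.succAbove (Equiv.swap ja jb j)))
        rw [he'def]
        show pr R f (e (Equiv.swap a b (i.succAbove j))) = _
        rw [← hja, ← hjb, (Fin.succAbove_right_injective (p := i)).swap_apply]
      have hmred : ∀ r ∈ maximalIdeal R, r • red R f e i ja ∈ S R (red R f e i) jb.val := by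
        intro r hr
        show r • pr R f (e (i.succAbove ja)) ∈ _
        rw [hja, ← map_smul]
        exact map_S_le_red R f e hu hp jb b.val (le_of_eq (congrArg Fin.val hjb).symm)
          (Submodule.mem_map_of_mem (hm r hr))
      have hC := hLb.relC (red R f e i) (adm_red R f e he hu hp) ja jb hjab hmred
      rw [Lfun_eq R f Lb e hp, Lfun_eq R f Lb e' hp', hred]
      linear_combination ((-1) ^ i.val * (residue R α)⁻¹) * hC

theorem Lfun_relC (Lb : (Fin l → M ⧸ Submodule.span R {f}) → ResidueField R)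
    (hLb : IsDetFun R l Lb) (e : Fin (l + 1) → M)
    (he : CycDet.IsAdmissible R M e) (a b : Fin (l + 1)) (hab : b.val + 1 = a.val)
    (hm : ∀ r ∈ maximalIdeal R, r • e a ∈ S R e b.val) :
    Lfun R f Lb e + Lfun R f Lb (e ∘ Equiv.swap a b) = 0 := by
  by_cases h : ∃ p : Fin (l + 1) × R × M, Piv R f e p.1 p.2.1 p.2.2
  · obtain ⟨⟨i, α, s⟩, hp⟩ := h
    have hp : Piv R f e i α s := hp
    exact Lfun_relC_aux R f Lb hLb e he a b hab hm hp
  · by_cases h' : ∃ p : Fin (l + 1) × R × M, Piv R f (e ∘ Equiv.swap a b) p.1 p.2.1 p.2.2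
    · obtain ⟨⟨i, α, s⟩, hp'⟩ := h'
      have hp' : Piv R f (e ∘ Equiv.swap a b) i α s := hp'
      have he' := adm_swap R e he a b hab hm
      have hm' : ∀ r ∈ maximalIdeal R,
          r • (e ∘ Equiv.swap a b) a ∈ S R (e ∘ Equiv.swap a b) b.val := by
        intro r hr
        show r • e (Equiv.swap a b a) ∈ _
        rw [Equiv.swap_apply_left, S_swap_eq R e a b hab b.val (Or.inl le_rfl)]
        exact he b r hr
      have h2 : (e ∘ Equiv.swap a b) ∘ Equiv.swap a b = e := by
        funext j
        show e (Equiv.swap a b (Equiv.swap a b j)) = e j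
        rw [Equiv.swap_apply_self]
      have h3 := Lfun_relC_aux R f Lb hLb (e ∘ Equiv.swap a b) he' a b hab hm' hp'
      rw [h2] at h3
      rw [add_comm]; exact h3
    · rw [Lfun_eq_zero R f Lb e h, Lfun_eq_zero R f Lb _ h', add_zero]

theorem Lfun_nz (hf0 : f ≠ 0) (Lb : (Fin l → M ⧸ Submodule.span R {f}) → ResidueField R)
    (hLb : IsDetFun R l Lb) (e : Fin (l + 1) → M) (he : CycDet.IsAdmissible R M e)
    (hgen : Submodule.span R (Set.range e) = ⊤) : Lfun R f Lb e ≠ 0 := by
  have hmem : f ∈ S R e (l + 1) := by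
    have htop : S R e (l + 1) = ⊤ := by
      rw [eq_top_iff, ← hgen, Submodule.span_le]
      rintro _ ⟨j, rfl⟩
      exact mem_S_of_lt R e j.2
    rw [htop]; exact Submodule.mem_top
  obtain ⟨⟨i, a, s⟩, hp⟩ := exists_piv R f hf0 e hmem
  have hp : Piv R f e i a s := hp
  have hu := piv_unit R f e he hp
  rw [Lfun_eq R f Lb e hp]
  have h1 : residue R a ≠ 0 := (residue_ne_zero_iff_isUnit _).mpr hu
  have h2 := hLb.nz (red R f e i) (adm_red R f e he hu hp) (gen_red R f e hu hp hgen)
  exact mul_ne_zero (mul_ne_zero (pow_ne_zero _ (neg_ne_zero.mpr one_ne_zero)) (inv_ne_zero h1)) h2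

theorem step (hf0 : f ≠ 0) (Lb : (Fin l → M ⧸ Submodule.span R {f}) → ResidueField R)
    (hLb : IsDetFun R l Lb) : IsDetFun R (l + 1) (Lfun R f Lb) where
  relA := fun e he a h => Lfun_relA R f Lb hLb e he a h
  relB := fun e e' he he' a c h1 h2 => Lfun_relB R f hf0 Lb hLb e e' he he' a c h1 h2
  relC := fun e he a b hab hm => Lfun_relC R f Lb hLb e he a b hab hm
  nz := fun e he hgen => Lfun_nz R f hf0 Lb hLb e he hgen

end Step

theorem exists_socle (hM : IsFiniteLength R M) [Nontrivial M] :
    ∃ f : M, f ≠ 0 ∧ IsSimpleModule R (Submodule.span R {f}) := by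
  obtain ⟨_, hart⟩ := isFiniteLength_iff_isNoetherian_isArtinian.mp hM
  haveI : IsArtinian R M := hart
  haveI : IsAtomic (Submodule R M) := isAtomic_of_orderBot_wellFounded_lt wellFounded_lt
  obtain ⟨N, hN⟩ := IsAtomic.exists_atom (Submodule R M)
  obtain ⟨f, hfN, hf0⟩ := Submodule.exists_mem_ne_zero_of_ne_bot hN.1
  have hspan : Submodule.span R {f} = N :=
    (hN.le_iff_eq (by rw [Ne, Submodule.span_singleton_eq_bot]; exact hf0)).mp
      ((Submodule.span_singleton_le_iff_mem f N).mpr hfN)
  refine ⟨f, hf0, ?_⟩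
  rw [hspan]
  exact isSimpleModule_iff_isAtom.mpr hN

theorem length_quot (l : ℕ) (hlen : Module.length R M = ((l + 1 : ℕ) : ℕ∞)) (f : M)
    (hs : IsSimpleModule R (Submodule.span R {f})) :
    Module.length R (M ⧸ Submodule.span R {f}) = (l : ℕ∞) := by
  have h1 := Module.length_eq_add_of_exact (Submodule.span R {f}).subtype
    (Submodule.span R {f}).mkQ (Submodule.injective_subtype _) (Submodule.mkQ_surjective _)
    (LinearMap.exact_subtype_mkQ _)
  rw [hlen, Module.length_eq_one_iff.mpr hs] at h1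
  generalize Module.length R (M ⧸ Submodule.span R {f}) = x at h1 ⊢
  induction x using ENat.recTopCoe with
  | top =>
    rw [add_top] at h1
    exact absurd h1 (ENat.coe_ne_top _)
  | coe n =>
    have h2 : l + 1 = 1 + n := by exact_mod_cast h1
    have h3 : n = l := by omega
    rw [h3]

end Main

theorem exists_detFun (R : Type u) [CommRing R] [IsLocalRing R] : ∀ (l : ℕ) (M : Type v)
    [AddCommGroup M] [Module R M], Module.length R M = (l : ℕ∞) →
    ∃ L : (Fin l → M) → ResidueField R, IsDetFun R l L := by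
  intro l
  induction l with
  | zero =>
    intro M _ _ _
    exact ⟨_, detFun_zero R⟩
  | succ l ih =>
    intro M _ _ hlen
    have hfl : IsFiniteLength R M :=
      Module.length_ne_top_iff.mp (by rw [hlen]; exact ENat.coe_ne_top _)
    haveI : Nontrivial M :=
      Module.length_pos_iff.mp (by rw [hlen]; exact_mod_cast Nat.succ_pos l)
    obtain ⟨f, hf0, hs⟩ := exists_socle R hfl
    obtain ⟨Lb, hLb⟩ := ih (M ⧸ Submodule.span R {f}) (length_quot R l hlen f hs)
    exact ⟨Lfun R f Lb, step R f hf0 Lb hLb⟩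

theorem main (R : Type u) [CommRing R] [IsLocalRing R] (M : Type v) [AddCommGroup M] [Module R M]
    (hM : IsFiniteLength R M) (e : CycDet.Adm R M (Module.length R M).toNat)
    (he : Submodule.span R (Set.range e.1) = ⊤) : CycDet.symbol R M e ≠ 0 := by
  have hlen : Module.length R M = ((Module.length R M).toNat : ℕ∞) :=
    (ENat.natCast_toNat (Module.length_ne_top_iff.mpr hM)).symm
  obtain ⟨L, hL⟩ := exists_detFun R _ M hlen
  exact symbol_ne_zero_of_detFun R L hL e he

end Groth.Agent.Lib.CycDetNZH4
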