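import Mathlib
import Groth.Prelude
import Groth.Agent.Lib.CycDet_helper4
import Groth.Agent.Lib.CycDetNZ_helper4

set_option autoImplicit false
set_option linter.style.haveILetI false
set_option linter.unusedVariables false
set_option linter.unusedTactic false
set_option linter.unreachableTactic false
set_option linter.unusedSectionVars false
set_option maxHeartbeats 800000

universe u v w

open IsLocalRing TensorProduct

namespace Groth.Agent.Lib.CycDetGammaH4

open Groth.Agent.Lib.CycDetH4 Groth.Agent.Lib.CycDetNZH4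

/-- the linear equivalence `F ≃ V` attached to a spanning nonzero vector -/
noncomputable def psi {F : Type*} [Field F] {V : Type*} [AddCommGroup V] [Module F V] (v : V)
    (hv : v ≠ 0) (hs : ∀ w : V, ∃ c : F, w = c • v) : F ≃ₗ[F] V :=
  LinearEquiv.ofBijective (LinearMap.toSpanSingleton F V v)
    ⟨fun c c' h => by
      have h' : c • v = c' • v := h
      have h1 : (c - c') • v = 0 := by rw [sub_smul]; exact sub_eq_zero.mpr h'
      rcases smul_eq_zero.mp h1 with h2 | h2
      · exact sub_eq_zero.mp h2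
      · exact absurd h2 hv,
     fun w => by
      obtain ⟨c, hc⟩ := hs w
      exact ⟨c, hc.symm⟩⟩

theorem psi_apply {F : Type*} [Field F] {V : Type*} [AddCommGroup V] [Module F V] (v : V)
    (hv : v ≠ 0) (hs : ∀ w : V, ∃ c : F, w = c • v) (c : F) : psi v hv hs c = c • v := rfl

theorem psi_symm_self {F : Type*} [Field F] {V : Type*} [AddCommGroup V] [Module F V] (v : V)
    (hv : v ≠ 0) (hs : ∀ w : V, ∃ c : F, w = c • v) : (psi v hv hs).symm v = 1 := by
  rw [LinearEquiv.symm_apply_eq, psi_apply, one_smul]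

section Main

variable (R : Type u) [CommRing R] [IsLocalRing R] {M : Type v} [AddCommGroup M] [Module R M]

/-- functions on `l`-tuples respecting the three admissible relations -/
structure IsRelFun (l : ℕ) (H : (Fin l → M) → ResidueField R) : Prop where
  relA : ∀ (e : Fin l → M), CycDet.IsAdmissible R M e → ∀ a : Fin l, e a ∈ S R e a.val → H e = 0
  relB : ∀ (e e' : Fin l → M), CycDet.IsAdmissible R M e → CycDet.IsAdmissible R M e' →
    ∀ (a : Fin l) (c : Rˣ), (∀ j, j ≠ a → e j = e' j) → e a - (c : R) • e' a ∈ S R e a.val →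
      H e = residue R (c : R) * H e'
  relC : ∀ (e : Fin l → M), CycDet.IsAdmissible R M e → ∀ (a b : Fin l), b.val + 1 = a.val →
    (∀ r ∈ maximalIdeal R, r • e a ∈ S R e b.val) → H e + H (e ∘ Equiv.swap a b) = 0

theorem relFun_of_detFun {l : ℕ} {D : (Fin l → M) → ResidueField R} (h : IsDetFun R l D) :
    IsRelFun R l D := ⟨h.relA, h.relB, h.relC⟩

theorem exists_functional {l : ℕ} (H : (Fin l → M) → ResidueField R) (hH : IsRelFun R l H) :
    ∃ Φ : CycDet.DetOfLen R M l →ₗ[ResidueField R] ResidueField R,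
      ∀ e : CycDet.Adm R M l, Φ (Submodule.Quotient.mk (CycDet.sym R M e)) = H e.1 := by
  obtain ⟨Φ, hΦ⟩ : ∃ Φ : CycDet.Free R M l →ₗ[ResidueField R] ResidueField R,
      ∀ e : CycDet.Adm R M l, Φ (CycDet.sym R M e) = H e.1 :=
    ⟨Finsupp.lift (ResidueField R) (ResidueField R) (CycDet.Adm R M l) (fun e => H e.1), fun e => by
      unfold CycDet.sym
      rw [Finsupp.lift_apply, Finsupp.sum_single_index, one_smul]
      exact zero_smul _ _⟩
  have hker : Submodule.span (ResidueField R) (CycDet.relSet R M l) ≤ LinearMap.ker Φ := by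
    rw [Submodule.span_le]
    rintro x ((⟨e, a, h, rfl⟩ | ⟨e, e', a, c, h1, h2, rfl⟩) | ⟨e, e', a, b, hab, hm, he', rfl⟩)
    · show Φ _ = 0
      rw [hΦ]; exact hH.relA e.1 e.2 a h
    · show Φ _ = 0
      rw [map_sub, map_smul, hΦ, hΦ, smul_eq_mul, sub_eq_zero]
      exact hH.relB e.1 e'.1 e.2 e'.2 a c h1 h2
    · show Φ _ = 0
      rw [map_add, hΦ, hΦ, he']
      exact hH.relC e.1 e.2 a b hab hm
  refine ⟨(Submodule.span (ResidueField R) (CycDet.relSet R M l)).liftQ Φ hker, fun e => ?_⟩
  rw [Submodule.liftQ_apply, hΦ]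

theorem S_map {N : Type w} [AddCommGroup N] [Module R N] (φ : M →ₗ[R] N) {n : ℕ} (e : Fin n → M)
    (k : ℕ) : S R (φ ∘ e) k = (S R e k).map φ := by
  show Submodule.span R ((φ ∘ e) '' {j : Fin n | j.val < k}) =
    (Submodule.span R (e '' {j : Fin n | j.val < k})).map φ
  rw [Submodule.map_span, Set.image_comp]

theorem adm_map {N : Type w} [AddCommGroup N] [Module R N] (φ : M →ₗ[R] N) {n : ℕ}
    (e : Fin n → M) (he : CycDet.IsAdmissible R M e) : CycDet.IsAdmissible R N (φ ∘ e) := by
  intro i r hr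
  show r • φ (e i) ∈ S R (φ ∘ e) i.val
  rw [S_map, ← map_smul]
  exact Submodule.mem_map_of_mem (he i r hr)

theorem S_top {n : ℕ} (e : Fin n → M) : S R e n = Submodule.span R (Set.range e) := by
  apply le_antisymm
  · exact S_le_of R e n _ (fun j _ => Submodule.subset_span ⟨j, rfl⟩)
  · rw [Submodule.span_le]
    rintro _ ⟨j, rfl⟩
    exact mem_S_of_lt R e j.2

section Append

variable {a b : ℕ} (u : Fin a → M) (y : Fin b → M)

theorem app_cases (t : Fin (a + b)) :
    (∃ i : Fin a, t = Fin.castAdd b i) ∨ (∃ j : Fin b, t = Fin.natAdd a j) := by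
  rcases Nat.lt_or_ge t.val a with h | h
  · exact Or.inl ⟨⟨t.val, h⟩, Fin.ext rfl⟩
  · exact Or.inr ⟨⟨t.val - a, by have := t.2; omega⟩,
      Fin.ext (by show t.val = a + (t.val - a); omega)⟩

theorem ne_cn (i : Fin a) (j : Fin b) : Fin.castAdd b i ≠ Fin.natAdd a j :=
  Fin.ne_of_val_ne (by show i.val ≠ a + j.val; have := i.2; omega)

theorem natAdd_inj : Function.Injective (Fin.natAdd a : Fin b → Fin (a + b)) :=
  fun x y h => Fin.ext (Nat.add_left_cancel (congrArg Fin.val h))

theorem castAdd_inj : Function.Injective (Fin.castAdd b : Fin a → Fin (a + b)) :=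
  fun x y h => by
    have h2 := congrArg Fin.val h
    exact Fin.ext h2

theorem S_append_le (k : ℕ) (hk : k ≤ a) : S R (Fin.append u y) k = S R u k := by
  apply le_antisymm
  · refine S_le_of R _ k _ (fun t ht => ?_)
    rcases app_cases t with ⟨i, rfl⟩ | ⟨j, rfl⟩
    · rw [Fin.append_left]; exact mem_S_of_lt R u ht
    · exfalso
      have h1 : (Fin.natAdd a j).val = a + j.val := rfl
      omega
  · refine S_le_of R u k _ (fun i hi => ?_)
    have h2 : Fin.append u y (Fin.castAdd b i) ∈ S R (Fin.append u y) k :=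
      mem_S_of_lt R (Fin.append u y) (j := Fin.castAdd b i) hi
    rw [Fin.append_left] at h2
    exact h2

theorem S_append_add (k : ℕ) :
    S R (Fin.append u y) (a + k) = Submodule.span R (Set.range u) ⊔ S R y k := by
  apply le_antisymm
  · refine S_le_of R _ _ _ (fun t ht => ?_)
    rcases app_cases t with ⟨i, rfl⟩ | ⟨j, rfl⟩
    · rw [Fin.append_left]; exact Submodule.mem_sup_left (Submodule.subset_span ⟨i, rfl⟩)
    · rw [Fin.append_right]
      have h1 : (Fin.natAdd a j).val = a + j.val := rfl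
      exact Submodule.mem_sup_right (mem_S_of_lt R y (by omega))
  · refine sup_le ?_ ?_
    · rw [Submodule.span_le]
      rintro _ ⟨i, rfl⟩
      have h2 : Fin.append u y (Fin.castAdd b i) ∈ S R (Fin.append u y) (a + k) :=
        mem_S_of_lt R (Fin.append u y) (j := Fin.castAdd b i)
          (by show i.val < a + k; have := i.2; omega)
      rw [Fin.append_left] at h2
      exact h2
    · refine S_le_of R y k _ (fun j hj => ?_)
      have h2 : Fin.append u y (Fin.natAdd a j) ∈ S R (Fin.append u y) (a + k) :=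
        mem_S_of_lt R (Fin.append u y) (j := Fin.natAdd a j)
          (by show a + j.val < a + k; omega)
      rw [Fin.append_right] at h2
      exact h2

theorem adm_append (hu : CycDet.IsAdmissible R M u)
    (hy : ∀ j : Fin b, ∀ r ∈ maximalIdeal R,
      r • y j ∈ Submodule.span R (Set.range u) ⊔ S R y j.val) :
    CycDet.IsAdmissible R M (Fin.append u y) := by
  intro t r hr
  show r • Fin.append u y t ∈ S R (Fin.append u y) t.val
  rcases app_cases t with ⟨i, rfl⟩ | ⟨j, rfl⟩
  · rw [Fin.append_left, show (Fin.castAdd b i).val = i.val from rfl,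
      S_append_le R u y i.val (le_of_lt i.2)]
    exact hu i r hr
  · rw [Fin.append_right, show (Fin.natAdd a j).val = a + j.val from rfl, S_append_add]
    exact hy j r hr

theorem adm_append_right (h : CycDet.IsAdmissible R M (Fin.append u y)) (j : Fin b) (r : R)
    (hr : r ∈ maximalIdeal R) : r • y j ∈ Submodule.span R (Set.range u) ⊔ S R y j.val := by
  have h1 : r • Fin.append u y (Fin.natAdd a j) ∈ S R (Fin.append u y) (a + j.val) :=
    h (Fin.natAdd a j) r hr
  rw [Fin.append_right, S_append_add] at h1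
  exact h1

theorem span_range_append : Submodule.span R (Set.range (Fin.append u y)) =
    Submodule.span R (Set.range u) ⊔ Submodule.span R (Set.range y) := by
  rw [← S_top R (Fin.append u y), ← S_top R y, S_append_add]

theorem adm_append_congr (u' : Fin a → M) (hu' : CycDet.IsAdmissible R M u')
    (hspan : Submodule.span R (Set.range u) = Submodule.span R (Set.range u'))
    (h : CycDet.IsAdmissible R M (Fin.append u y)) :
    CycDet.IsAdmissible R M (Fin.append u' y) :=
  adm_append R u' y hu' (fun j r hr => by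
    rw [← hspan]; exact adm_append_right R u y h j r hr)

end Append

theorem S_cons_succ {n : ℕ} (x0 : M) (x : Fin n → M) (k : ℕ) :
    S R (Fin.cons x0 x : Fin (n + 1) → M) (k + 1) = Submodule.span R {x0} ⊔ S R x k := by
  apply le_antisymm
  · refine S_le_of R _ _ _ (fun t ht => ?_)
    rcases Fin.eq_zero_or_eq_succ t with rfl | ⟨j, rfl⟩
    · rw [Fin.cons_zero]; exact Submodule.mem_sup_left (Submodule.mem_span_singleton_self _)
    · rw [Fin.cons_succ]
      have h1 : (j.succ).val = j.val + 1 := Fin.val_succ j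
      exact Submodule.mem_sup_right (mem_S_of_lt R x (by omega))
  · refine sup_le ?_ ?_
    · rw [Submodule.span_le, Set.singleton_subset_iff]
      have h2 : (Fin.cons x0 x : Fin (n + 1) → M) 0 ∈ S R (Fin.cons x0 x : Fin (n + 1) → M) (k + 1) :=
        mem_S_of_lt R _ (by rw [Fin.val_zero]; exact Nat.succ_pos k)
      rw [Fin.cons_zero] at h2
      exact h2
    · refine S_le_of R x k _ (fun j hj => ?_)
      have h2 : (Fin.cons x0 x : Fin (n + 1) → M) j.succ ∈
          S R (Fin.cons x0 x : Fin (n + 1) → M) (k + 1) :=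
        mem_S_of_lt R _ (by rw [Fin.val_succ]; omega)
      rw [Fin.cons_succ] at h2
      exact h2

theorem smul_eq_zero_of_simple (f : M) (hs : IsSimpleModule R (Submodule.span R {f})) (r : R)
    (hr : r ∈ maximalIdeal R) : r • f = 0 := by
  by_contra hne
  have hatom : IsAtom (Submodule.span R {f}) := isSimpleModule_iff_isAtom.mp hs
  have hle : Submodule.span R {r • f} ≤ Submodule.span R {f} :=
    (Submodule.span_singleton_le_iff_mem _ _).mpr
      (Submodule.smul_mem _ _ (Submodule.mem_span_singleton_self f))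
  have heq : Submodule.span R {r • f} = Submodule.span R {f} :=
    (hatom.le_iff_eq (by rw [Ne, Submodule.span_singleton_eq_bot]; exact hne)).mp hle
  have hmem : f ∈ Submodule.span R {r • f} := by
    rw [heq]; exact Submodule.mem_span_singleton_self f
  obtain ⟨t, ht⟩ := Submodule.mem_span_singleton.mp hmem
  have hu : IsUnit (1 - t * r) :=
    isUnit_one_sub_self_of_mem_nonunits _ ((mem_maximalIdeal _).mp (Ideal.mul_mem_left _ t hr))
  have h0 : (1 - t * r) • f = 0 := by rw [sub_smul, one_smul, mul_smul, ht, sub_self]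
  exact hne (by rw [hu.smul_eq_zero.mp h0, smul_zero])

end Main

theorem exists_gen_adm (R : Type u) [CommRing R] [IsLocalRing R] : ∀ (l : ℕ) (M : Type v)
    [AddCommGroup M] [Module R M], Module.length R M = (l : ℕ∞) →
    ∃ e : Fin l → M, CycDet.IsAdmissible R M e ∧ Submodule.span R (Set.range e) = ⊤ := by
  intro l
  induction l with
  | zero =>
    intro M _ _ hlen
    haveI : Subsingleton M := Module.length_eq_zero_iff.mp (by rw [hlen, Nat.cast_zero])
    refine ⟨fun i => i.elim0, fun i => i.elim0, ?_⟩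
    rw [eq_top_iff]
    intro x _
    rw [Subsingleton.elim x 0]; exact Submodule.zero_mem _
  | succ l ih =>
    intro M _ _ hlen
    have hfl : IsFiniteLength R M :=
      Module.length_ne_top_iff.mp (by rw [hlen]; exact ENat.coe_ne_top _)
    haveI : Nontrivial M :=
      Module.length_pos_iff.mp (by rw [hlen]; exact_mod_cast Nat.succ_pos l)
    obtain ⟨f, hf0, hs⟩ := exists_socle R hfl
    obtain ⟨eb, heb, hgenb⟩ := ih (M ⧸ Submodule.span R {f}) (length_quot R l hlen f hs)
    obtain ⟨x, hx⟩ : ∃ x : Fin l → M, ∀ j, (Submodule.span R {f}).mkQ (x j) = eb j :=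
      ⟨fun j => Function.surjInv (Submodule.mkQ_surjective _) (eb j),
        fun j => Function.surjInv_eq _ _⟩
    have hcomp : (Submodule.span R {f}).mkQ ∘ x = eb := funext hx
    have key : ∀ (k : ℕ) (z : M), (Submodule.span R {f}).mkQ z ∈ S R eb k →
        z ∈ Submodule.span R {f} ⊔ S R x k := by
      intro k z hz
      rw [← hcomp, S_map] at hz
      obtain ⟨z', hz', hzz⟩ := Submodule.mem_map.mp hz
      have h1 : z - z' ∈ Submodule.span R {f} := by
        rw [← Submodule.ker_mkQ (Submodule.span R {f}), LinearMap.mem_ker, map_sub, hzz, sub_self]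
      have h3 : z = (z - z') + z' := by abel
      rw [h3]
      exact Submodule.add_mem _ (Submodule.mem_sup_left h1) (Submodule.mem_sup_right hz')
    refine ⟨Fin.cons f x, ?_, ?_⟩
    · intro t r hr
      rcases Fin.eq_zero_or_eq_succ t with rfl | ⟨j, rfl⟩
      · rw [Fin.cons_zero, smul_eq_zero_of_simple R f hs r hr]; exact Submodule.zero_mem _
      · rw [Fin.cons_succ]
        show r • x j ∈ S R (Fin.cons f x : Fin (l + 1) → M) (j.succ).val
        rw [Fin.val_succ, S_cons_succ]
        refine key j.val _ ?_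
        rw [map_smul, hx]
        exact heb j r hr
    · rw [← S_top, S_cons_succ, eq_top_iff]
      intro z _
      refine key l z ?_
      rw [S_top, hgenb]; exact Submodule.mem_top

section Exact

variable (R : Type u) [CommRing R] [IsLocalRing R]
  {K L M : Type v} [AddCommGroup K] [Module R K] [AddCommGroup L] [Module R L]
  [AddCommGroup M] [Module R M]
  (f : K →ₗ[R] L) (g : L →ₗ[R] M) (hfg : LinearMap.range f = LinearMap.ker g) {a b : ℕ}

include hfg in
theorem key_mem (eK : Fin a → K) (hgen : Submodule.span R (Set.range eK) = ⊤) (y : Fin b → L)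
    (k : ℕ) (x : L) (hx : g x ∈ S R (g ∘ y) k) :
    x ∈ Submodule.span R (Set.range (f ∘ eK)) ⊔ S R y k := by
  rw [S_map] at hx
  obtain ⟨x', hx', hgx⟩ := Submodule.mem_map.mp hx
  have h1 : x - x' ∈ LinearMap.ker g := by rw [LinearMap.mem_ker, map_sub, hgx, sub_self]
  rw [← hfg] at h1
  have h2 : LinearMap.range f = Submodule.span R (Set.range (f ∘ eK)) := by
    rw [Set.range_comp, ← Submodule.map_span, hgen, Submodule.map_top]
  rw [h2] at h1
  have h3 : x = (x - x') + x' := by abel
  rw [h3]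
  exact Submodule.add_mem _ (Submodule.mem_sup_left h1) (Submodule.mem_sup_right hx')

include hfg in
theorem adm_append_exact (eK : Fin a → K) (heK : CycDet.IsAdmissible R K eK)
    (hgen : Submodule.span R (Set.range eK) = ⊤) (y : Fin b → L)
    (hy : CycDet.IsAdmissible R M (g ∘ y)) :
    CycDet.IsAdmissible R L (Fin.append (f ∘ eK) y) := by
  refine adm_append R _ _ (adm_map R f eK heK) (fun j r hr => ?_)
  refine key_mem R f g hfg eK hgen y j.val (r • y j) ?_
  rw [map_smul]
  exact hy j r hr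

include hfg in
theorem gen_append_exact (eK : Fin a → K) (hgen : Submodule.span R (Set.range eK) = ⊤)
    (y : Fin b → L) (hy : Submodule.span R (Set.range (g ∘ y)) = ⊤) :
    Submodule.span R (Set.range (Fin.append (f ∘ eK) y)) = ⊤ := by
  rw [span_range_append, eq_top_iff]
  intro x _
  have h1 : g x ∈ S R (g ∘ y) b := by rw [S_top, hy]; exact Submodule.mem_top
  have h2 := key_mem R f g hfg eK hgen y b x h1
  rw [S_top] at h2
  exact h2

include hfg in
theorem relFun_F (D : (Fin (a + b) → L) → ResidueField R) (hD : IsDetFun R (a + b) D)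
    (eK : Fin a → K) (heK : CycDet.IsAdmissible R K eK)
    (hgen : Submodule.span R (Set.range eK) = ⊤) (σ : M → L) (hσ : ∀ m, g (σ m) = m) :
    IsRelFun R b (fun eM : Fin b → M => D (Fin.append (f ∘ eK) (σ ∘ eM))) := by
  have hcomp : ∀ eM : Fin b → M, g ∘ (σ ∘ eM) = eM := fun eM => funext (fun j => hσ (eM j))
  have hadm : ∀ eM : Fin b → M, CycDet.IsAdmissible R M eM →
      CycDet.IsAdmissible R L (Fin.append (f ∘ eK) (σ ∘ eM)) := fun eM h =>
    adm_append_exact R f g hfg eK heK hgen (σ ∘ eM) (by rw [hcomp]; exact h)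
  have hmem : ∀ (eM : Fin b → M) (k : ℕ) (x : L), g x ∈ S R eM k →
      x ∈ S R (Fin.append (f ∘ eK) (σ ∘ eM)) (a + k) := by
    intro eM k x hx
    rw [S_append_add]
    exact key_mem R f g hfg eK hgen (σ ∘ eM) k x (by rw [hcomp]; exact hx)
  refine ⟨?_, ?_, ?_⟩
  · intro eM heM j hj
    refine hD.relA _ (hadm eM heM) (Fin.natAdd a j) ?_
    rw [Fin.append_right]
    exact hmem eM j.val _ (by show g (σ (eM j)) ∈ _; rw [hσ]; exact hj)
  · intro eM eM' heM heM' j c hoff hj
    refine hD.relB _ _ (hadm eM heM) (hadm eM' heM') (Fin.natAdd a j) c ?_ ?_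
    · intro t ht
      rcases app_cases t with ⟨i, rfl⟩ | ⟨j', rfl⟩
      · rw [Fin.append_left, Fin.append_left]
      · rw [Fin.append_right, Fin.append_right]
        have hne : j' ≠ j := fun h => ht (by rw [h])
        show σ (eM j') = σ (eM' j')
        rw [hoff j' hne]
    · rw [Fin.append_right, Fin.append_right]
      refine hmem eM j.val _ ?_
      show g (σ (eM j) - (c : R) • σ (eM' j)) ∈ _
      rw [map_sub, map_smul, hσ, hσ]
      exact hj
  · intro eM heM ja jb hjab hm
    have hsw : Fin.append (f ∘ eK) (σ ∘ (eM ∘ Equiv.swap ja jb)) =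
        Fin.append (f ∘ eK) (σ ∘ eM) ∘ Equiv.swap (Fin.natAdd a ja) (Fin.natAdd a jb) := by
      funext t
      rcases app_cases t with ⟨i, rfl⟩ | ⟨j, rfl⟩
      · show _ = Fin.append (f ∘ eK) (σ ∘ eM)
          (Equiv.swap (Fin.natAdd a ja) (Fin.natAdd a jb) (Fin.castAdd b i))
        rw [Equiv.swap_apply_of_ne_of_ne (ne_cn i ja) (ne_cn i jb), Fin.append_left,
          Fin.append_left]
      · show _ = Fin.append (f ∘ eK) (σ ∘ eM)
          (Equiv.swap (Fin.natAdd a ja) (Fin.natAdd a jb) (Fin.natAdd a j))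
        rw [natAdd_inj.swap_apply, Fin.append_right, Fin.append_right]
        try rfl
    show D (Fin.append (f ∘ eK) (σ ∘ eM)) +
      D (Fin.append (f ∘ eK) (σ ∘ (eM ∘ Equiv.swap ja jb))) = 0
    rw [hsw]
    refine hD.relC _ (hadm eM heM) (Fin.natAdd a ja) (Fin.natAdd a jb) ?_ ?_
    · show a + jb.val + 1 = a + ja.val; omega
    · intro r hr
      rw [Fin.append_right]
      refine hmem eM jb.val _ ?_
      show g (r • σ (eM ja)) ∈ _
      rw [map_smul, hσ]
      exact hm r hr

include hfg in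
theorem D_indep (D : (Fin (a + b) → L) → ResidueField R) (hD : IsDetFun R (a + b) D)
    (eK : Fin a → K) (heK : CycDet.IsAdmissible R K eK)
    (hgen : Submodule.span R (Set.range eK) = ⊤) (y y' : Fin b → L) (hyy : g ∘ y = g ∘ y')
    (hy : CycDet.IsAdmissible R M (g ∘ y)) :
    D (Fin.append (f ∘ eK) y') = D (Fin.append (f ∘ eK) y) := by
  classical
  obtain ⟨hyb, hhyb⟩ : ∃ hyb : ℕ → Fin b → L, ∀ k j, hyb k j = if j.val < k then y' j else y j :=
    ⟨fun k j => if j.val < k then y' j else y j, fun _ _ => rfl⟩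
  have hg : ∀ k, g ∘ hyb k = g ∘ y := by
    intro k
    funext j
    show g (hyb k j) = g (y j)
    rw [hhyb]
    by_cases h : j.val < k
    · rw [if_pos h]; exact (congrFun hyy j).symm
    · rw [if_neg h]
  have hadm : ∀ k, CycDet.IsAdmissible R L (Fin.append (f ∘ eK) (hyb k)) := fun k =>
    adm_append_exact R f g hfg eK heK hgen (hyb k) (by rw [hg]; exact hy)
  have hstep : ∀ k, k ≤ b → D (Fin.append (f ∘ eK) (hyb k)) = D (Fin.append (f ∘ eK) y) := by
    intro k
    induction k with
    | zero =>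
      intro _
      have h0 : hyb 0 = y := by
        funext j
        rw [hhyb, if_neg (Nat.not_lt_zero _)]
      rw [h0]
    | succ k ih =>
      intro hk
      have hkb : k < b := hk
      rw [← ih (le_of_lt hkb)]
      have hB := hD.relB (Fin.append (f ∘ eK) (hyb (k + 1))) (Fin.append (f ∘ eK) (hyb k))
        (hadm (k + 1)) (hadm k) (Fin.natAdd a ⟨k, hkb⟩) 1 ?_ ?_
      · rw [hB, Units.val_one, map_one, one_mul]
      · intro t ht
        rcases app_cases t with ⟨i, rfl⟩ | ⟨j, rfl⟩
        · rw [Fin.append_left, Fin.append_left]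
        · rw [Fin.append_right, Fin.append_right]
          have hne : j.val ≠ k := fun h => ht (by
            have : j = ⟨k, hkb⟩ := Fin.ext h
            rw [this])
          rw [hhyb, hhyb]
          by_cases h : j.val < k
          · rw [if_pos h, if_pos (by omega)]
          · rw [if_neg h, if_neg (by omega)]
      · rw [Fin.append_right, Fin.append_right]
        show hyb (k + 1) ⟨k, hkb⟩ - ((1 : Rˣ) : R) • hyb k ⟨k, hkb⟩ ∈
          S R (Fin.append (f ∘ eK) (hyb (k + 1))) (a + k)
        rw [S_append_add]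
        refine key_mem R f g hfg eK hgen (hyb (k + 1)) k _ ?_
        have h0 : g (hyb (k + 1) ⟨k, hkb⟩ - ((1 : Rˣ) : R) • hyb k ⟨k, hkb⟩) = 0 := by
          rw [map_sub, map_smul, Units.val_one, one_smul]
          have h1 : g (hyb (k + 1) ⟨k, hkb⟩) = g (y ⟨k, hkb⟩) := congrFun (hg (k + 1)) ⟨k, hkb⟩
          have h2 : g (hyb k ⟨k, hkb⟩) = g (y ⟨k, hkb⟩) := congrFun (hg k) ⟨k, hkb⟩
          rw [h1, h2, sub_self]
        rw [h0]
        exact Submodule.zero_mem _
  have hb : hyb b = y' := by
    funext j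
    rw [hhyb, if_pos j.2]
  rw [← hb]
  exact hstep b le_rfl

open Classical in
/-- the functional on tuples of `K` obtained by appending fixed lifts `x0` -/
noncomputable def Gfun (D : (Fin (a + b) → L) → ResidueField R) (x0 : Fin b → L)
    (eK : Fin a → K) : ResidueField R :=
  if CycDet.IsAdmissible R L (Fin.append (f ∘ eK) x0) then D (Fin.append (f ∘ eK) x0) else 0

theorem Gfun_pos (D : (Fin (a + b) → L) → ResidueField R) (x0 : Fin b → L) (eK : Fin a → K)
    (h : CycDet.IsAdmissible R L (Fin.append (f ∘ eK) x0)) :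
    Gfun R f D x0 eK = D (Fin.append (f ∘ eK) x0) := by
  unfold Gfun
  rw [if_pos h]

theorem Gfun_neg (D : (Fin (a + b) → L) → ResidueField R) (x0 : Fin b → L) (eK : Fin a → K)
    (h : ¬ CycDet.IsAdmissible R L (Fin.append (f ∘ eK) x0)) :
    Gfun R f D x0 eK = 0 := by
  unfold Gfun
  rw [if_neg h]

theorem relFun_G (D : (Fin (a + b) → L) → ResidueField R) (hD : IsDetFun R (a + b) D)
    (x0 : Fin b → L) : IsRelFun R a (Gfun R f D x0) := by
  have hS : ∀ (eK : Fin a → K) (k : ℕ), k ≤ a →
      S R (Fin.append (f ∘ eK) x0) k = (S R eK k).map f := by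
    intro eK k hk
    rw [S_append_le R _ _ k hk, S_map]
  refine ⟨?_, ?_, ?_⟩
  · intro eK heK i hi
    by_cases h : CycDet.IsAdmissible R L (Fin.append (f ∘ eK) x0)
    · rw [Gfun_pos R f D x0 eK h]
      refine hD.relA _ h (Fin.castAdd b i) ?_
      rw [Fin.append_left]
      show f (eK i) ∈ S R (Fin.append (f ∘ eK) x0) i.val
      rw [hS eK i.val (le_of_lt i.2)]
      exact Submodule.mem_map_of_mem hi
    · exact Gfun_neg R f D x0 eK h
  · intro eK eK' heK heK' i c hoff hi
    have hSeq := S_eq_of_relB R eK eK' i c hoff hi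
    have hspan : Submodule.span R (Set.range (f ∘ eK)) = Submodule.span R (Set.range (f ∘ eK')) := by
      rw [← S_top, ← S_top, S_map, S_map, hSeq a]
    by_cases h : CycDet.IsAdmissible R L (Fin.append (f ∘ eK) x0)
    · have h' := adm_append_congr R (f ∘ eK) x0 (f ∘ eK') (adm_map R f eK' heK') hspan h
      rw [Gfun_pos R f D x0 eK h, Gfun_pos R f D x0 eK' h']
      refine hD.relB _ _ h h' (Fin.castAdd b i) c ?_ ?_
      · intro t ht
        rcases app_cases t with ⟨i', rfl⟩ | ⟨j, rfl⟩
        · rw [Fin.append_left, Fin.append_left]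
          have hne : i' ≠ i := fun h => ht (by rw [h])
          show f (eK i') = f (eK' i')
          rw [hoff i' hne]
        · rw [Fin.append_right, Fin.append_right]
      · rw [Fin.append_left, Fin.append_left]
        show f (eK i) - (c : R) • f (eK' i) ∈ S R (Fin.append (f ∘ eK) x0) i.val
        rw [hS eK i.val (le_of_lt i.2), ← map_smul, ← map_sub]
        exact Submodule.mem_map_of_mem hi
    · have h' : ¬ CycDet.IsAdmissible R L (Fin.append (f ∘ eK') x0) := fun h' =>
        h (adm_append_congr R (f ∘ eK') x0 (f ∘ eK) (adm_map R f eK heK) hspan.symm h')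
      rw [Gfun_neg R f D x0 eK h, Gfun_neg R f D x0 eK' h', mul_zero]
  · intro eK heK ia ib hiab hm
    have heK' := adm_swap R eK heK ia ib hiab hm
    have hsw : Fin.append (f ∘ (eK ∘ Equiv.swap ia ib)) x0 =
        Fin.append (f ∘ eK) x0 ∘ Equiv.swap (Fin.castAdd b ia) (Fin.castAdd b ib) := by
      funext t
      rcases app_cases t with ⟨i, rfl⟩ | ⟨j, rfl⟩
      · show _ = Fin.append (f ∘ eK) x0
          (Equiv.swap (Fin.castAdd b ia) (Fin.castAdd b ib) (Fin.castAdd b i))
        rw [castAdd_inj.swap_apply, Fin.append_left, Fin.append_left]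
        try rfl
      · show _ = Fin.append (f ∘ eK) x0
          (Equiv.swap (Fin.castAdd b ia) (Fin.castAdd b ib) (Fin.natAdd a j))
        rw [Equiv.swap_apply_of_ne_of_ne (ne_cn ia j).symm (ne_cn ib j).symm, Fin.append_right,
          Fin.append_right]
    have hspan : Submodule.span R (Set.range (f ∘ (eK ∘ Equiv.swap ia ib))) =
        Submodule.span R (Set.range (f ∘ eK)) := by
      have h1 : Set.range (f ∘ (eK ∘ Equiv.swap ia ib)) = Set.range (f ∘ eK) :=
        (Equiv.swap ia ib).surjective.range_comp (f ∘ eK)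
      rw [h1]
    by_cases h : CycDet.IsAdmissible R L (Fin.append (f ∘ eK) x0)
    · have h' := adm_append_congr R (f ∘ eK) x0 (f ∘ (eK ∘ Equiv.swap ia ib))
        (adm_map R f _ heK') hspan.symm h
      rw [Gfun_pos R f D x0 eK h, Gfun_pos R f D x0 _ h', hsw]
      refine hD.relC _ h (Fin.castAdd b ia) (Fin.castAdd b ib) hiab ?_
      intro r hr
      rw [Fin.append_left]
      show r • f (eK ia) ∈ S R (Fin.append (f ∘ eK) x0) ib.val
      rw [hS eK ib.val (le_of_lt ib.2), ← map_smul]
      exact Submodule.mem_map_of_mem (hm r hr)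
    · have h' : ¬ CycDet.IsAdmissible R L (Fin.append (f ∘ (eK ∘ Equiv.swap ia ib)) x0) :=
        fun h' => h (adm_append_congr R _ x0 (f ∘ eK) (adm_map R f eK heK) hspan h')
      rw [Gfun_neg R f D x0 eK h, Gfun_neg R f D x0 _ h', add_zero]

end Exact

theorem rank_le_one (R : Type u) [CommRing R] [IsLocalRing R] {X : Type v} [AddCommGroup X]
    [Module R X] (m : ℕ) (hm : Module.length R X = (m : ℕ∞)) :
    Module.rank (ResidueField R) (CycDet.DetOfLen R X m) ≤ 1 := by
  have hfl : IsFiniteLength R X :=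
    Module.length_ne_top_iff.mp (by rw [hm]; exact ENat.coe_ne_top _)
  have h2 : (Module.length R X).toNat = m := by rw [hm]; exact ENat.toNat_natCast m
  subst h2
  exact Groth.Agent.Lib.CycDetH4.main R X hfl

theorem spanning (R : Type u) [CommRing R] [IsLocalRing R] {X : Type v} [AddCommGroup X]
    [Module R X] (m : ℕ) (hm : Module.length R X = (m : ℕ∞)) (v : CycDet.DetOfLen R X m)
    (hv : v ≠ 0) : ∀ w : CycDet.DetOfLen R X m, ∃ c : ResidueField R, w = c • v := by
  obtain ⟨v0, hv0⟩ := rank_le_one_iff.mp (rank_le_one R m hm)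
  obtain ⟨r0, hr0⟩ := hv0 v
  have hr0ne : r0 ≠ 0 := by
    rintro rfl
    rw [zero_smul] at hr0
    exact hv hr0.symm
  intro w
  obtain ⟨r, hr⟩ := hv0 w
  refine ⟨r * r0⁻¹, ?_⟩
  rw [← hr0, smul_smul, mul_assoc, inv_mul_cancel₀ hr0ne, mul_one, hr]

theorem main_gen (R : Type u) [CommRing R] [IsLocalRing R] (K L M : Type u)
    [AddCommGroup K] [Module R K] [AddCommGroup L] [Module R L] [AddCommGroup M] [Module R M]
    (f : K →ₗ[R] L) (g : L →ₗ[R] M) (hf : Function.Injective f) (hg : Function.Surjective g)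
    (hfg : LinearMap.range f = LinearMap.ker g) (a b n : ℕ)
    (haK : Module.length R K = (a : ℕ∞)) (hbM : Module.length R M = (b : ℕ∞))
    (hlen : a + b = n) :
    ∃ γ : (CycDet.DetOfLen R K a ⊗[ResidueField R] CycDet.DetOfLen R M b) ≃ₗ[ResidueField R]
        CycDet.DetOfLen R L n,
      ∀ (eK : CycDet.Adm R K a) (eM : CycDet.Adm R M b) (eL : CycDet.Adm R L n),
        (Submodule.Quotient.mk (CycDet.sym R K eK) : CycDet.DetOfLen R K a) ≠ 0 →
        (∀ i : Fin a, eL.1 (Fin.cast hlen (Fin.castAdd b i)) = f (eK.1 i)) →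
        (∀ j : Fin b, g (eL.1 (Fin.cast hlen (Fin.natAdd a j))) = eM.1 j) →
        γ ((Submodule.Quotient.mk (CycDet.sym R K eK) : CycDet.DetOfLen R K a) ⊗ₜ
            (Submodule.Quotient.mk (CycDet.sym R M eM) : CycDet.DetOfLen R M b)) =
          (Submodule.Quotient.mk (CycDet.sym R L eL) : CycDet.DetOfLen R L n) := by
  subst hlen
  classical
  have hexact : Function.Exact f g := LinearMap.exact_iff.mpr hfg.symm
  have hLlen : Module.length R L = ((a + b : ℕ) : ℕ∞) := by
    rw [Module.length_eq_add_of_exact f g hf hg hexact, haK, hbM, Nat.cast_add]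
  obtain ⟨eK0, heK0, hgK0⟩ := exists_gen_adm R a K haK
  obtain ⟨eM0, heM0, hgM0⟩ := exists_gen_adm R b M hbM
  obtain ⟨σ, hσ⟩ : ∃ σ : M → L, ∀ m, g (σ m) = m :=
    ⟨Function.surjInv hg, Function.surjInv_eq hg⟩
  obtain ⟨D, hD⟩ := exists_detFun R (a + b) L hLlen
  obtain ⟨DK, hDK⟩ := exists_detFun R a K haK
  obtain ⟨DM, hDM⟩ := exists_detFun R b M hbM
  have hcomp : ∀ eM : Fin b → M, g ∘ (σ ∘ eM) = eM := fun eM => funext (fun j => hσ (eM j))
  have heL0 : CycDet.IsAdmissible R L (Fin.append (f ∘ eK0) (σ ∘ eM0)) :=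
    adm_append_exact R f g hfg eK0 heK0 hgK0 _ (by rw [hcomp]; exact heM0)
  have hgL0 : Submodule.span R (Set.range (Fin.append (f ∘ eK0) (σ ∘ eM0))) = ⊤ :=
    gen_append_exact R f g hfg eK0 hgK0 _ (by rw [hcomp]; exact hgM0)
  have hD0 : D (Fin.append (f ∘ eK0) (σ ∘ eM0)) ≠ 0 := hD.nz _ heL0 hgL0
  obtain ⟨vK, hvK⟩ : ∃ v : CycDet.DetOfLen R K a,
      v = Submodule.Quotient.mk (CycDet.sym R K ⟨eK0, heK0⟩) := ⟨_, rfl⟩
  obtain ⟨vM, hvM⟩ : ∃ v : CycDet.DetOfLen R M b,
      v = Submodule.Quotient.mk (CycDet.sym R M ⟨eM0, heM0⟩) := ⟨_, rfl⟩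
  obtain ⟨vL, hvL⟩ : ∃ v : CycDet.DetOfLen R L (a + b),
      v = Submodule.Quotient.mk (CycDet.sym R L ⟨Fin.append (f ∘ eK0) (σ ∘ eM0), heL0⟩) :=
    ⟨_, rfl⟩
  have hvK0 : vK ≠ 0 := by
    rw [hvK]; exact symbol_ne_zero_of_detFun R DK hDK ⟨eK0, heK0⟩ hgK0
  have hvM0 : vM ≠ 0 := by
    rw [hvM]; exact symbol_ne_zero_of_detFun R DM hDM ⟨eM0, heM0⟩ hgM0
  have hvL0 : vL ≠ 0 := by
    rw [hvL]; exact symbol_ne_zero_of_detFun R D hD ⟨_, heL0⟩ hgL0
  have hsK := spanning R a haK vK hvK0
  have hsM := spanning R b hbM vM hvM0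
  have hsL := spanning R (a + b) hLlen vL hvL0
  -- functionals
  obtain ⟨ΦL, hΦL⟩ := exists_functional R D (relFun_of_detFun R hD)
  obtain ⟨ΦG, hΦG⟩ := exists_functional R (Gfun R f D (σ ∘ eM0)) (relFun_G R f D hD (σ ∘ eM0))
  refine ⟨(TensorProduct.congr (psi vK hvK0 hsK).symm (psi vM hvM0 hsM).symm).trans
    ((TensorProduct.lid (ResidueField R) (ResidueField R)).trans (psi vL hvL0 hsL)), ?_⟩
  intro eK eM eL hne h1 h2
  have hγ0 : ∀ s t : ResidueField R,
      ((TensorProduct.congr (psi vK hvK0 hsK).symm (psi vM hvM0 hsM).symm).trans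
        ((TensorProduct.lid (ResidueField R) (ResidueField R)).trans (psi vL hvL0 hsL)))
        ((s • vK) ⊗ₜ (t • vM)) = (s * t) • vL := by
    intro s t
    rw [LinearEquiv.trans_apply, LinearEquiv.trans_apply, TensorProduct.congr_tmul, map_smul,
      map_smul, psi_symm_self, psi_symm_self, TensorProduct.lid_tmul, psi_apply]
    simp only [smul_eq_mul, mul_one]
  -- eK generates
  have hnd : NonDeg R eK.1 := fun i hi => hne (sy_degenerate R eK i hi)
  have hgenK : Submodule.span R (Set.range eK.1) = ⊤ := by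
    rw [← S_top]; exact gen_of_nonDeg R haK eK.1 hnd
  obtain ⟨ΦF, hΦF⟩ := exists_functional R _ (relFun_F R f g hfg D hD eK.1 eK.2 hgenK σ hσ)
  obtain ⟨s, hs⟩ := hsK (Submodule.Quotient.mk (CycDet.sym R K eK))
  obtain ⟨t, ht⟩ := hsM (Submodule.Quotient.mk (CycDet.sym R M eM))
  obtain ⟨c, hc⟩ := hsL (Submodule.Quotient.mk (CycDet.sym R L eL))
  rw [hs, ht, hγ0 s t, hc]
  -- shape of eL
  obtain ⟨y, hy⟩ : ∃ y : Fin b → L, y = fun j => eL.1 (Fin.natAdd a j) := ⟨_, rfl⟩
  have hshape : eL.1 = Fin.append (f ∘ eK.1) y := by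
    funext t'
    rcases app_cases t' with ⟨i, rfl⟩ | ⟨j, rfl⟩
    · rw [Fin.append_left]; exact h1 i
    · rw [Fin.append_right, hy]
  have hgy : g ∘ y = eM.1 := by
    funext j
    show g (y j) = eM.1 j
    rw [hy]; exact h2 j
  have hadmK : CycDet.IsAdmissible R L (Fin.append (f ∘ eK.1) (σ ∘ eM0)) :=
    adm_append_exact R f g hfg eK.1 eK.2 hgenK _ (by rw [hcomp]; exact heM0)
  -- compute D eL
  have e1 : D eL.1 = D (Fin.append (f ∘ eK.1) (σ ∘ eM.1)) := by
    rw [hshape]
    exact (D_indep R f g hfg D hD eK.1 eK.2 hgenK (σ ∘ eM.1) y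
      (by rw [hcomp, hgy]) (by rw [hcomp]; exact eM.2))
  have e2 : D (Fin.append (f ∘ eK.1) (σ ∘ eM.1)) = t * D (Fin.append (f ∘ eK.1) (σ ∘ eM0)) := by
    have h3 := hΦF eM
    rw [ht, map_smul, hvM, hΦF ⟨eM0, heM0⟩, smul_eq_mul] at h3
    exact h3.symm
  have e3 : D (Fin.append (f ∘ eK.1) (σ ∘ eM0)) = s * D (Fin.append (f ∘ eK0) (σ ∘ eM0)) := by
    have h3 := hΦG eK
    rw [hs, map_smul, hvK, hΦG ⟨eK0, heK0⟩, smul_eq_mul, Gfun_pos R f D (σ ∘ eM0) eK.1 hadmK,
      Gfun_pos R f D (σ ∘ eM0) eK0 heL0] at h3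
    exact h3.symm
  have e4 : D eL.1 = c * D (Fin.append (f ∘ eK0) (σ ∘ eM0)) := by
    have h3 := hΦL eL
    rw [hc, map_smul, hvL, hΦL ⟨_, heL0⟩, smul_eq_mul] at h3
    exact h3.symm
  have hcst : c = s * t := by
    have h5 : c * D (Fin.append (f ∘ eK0) (σ ∘ eM0)) =
        (s * t) * D (Fin.append (f ∘ eK0) (σ ∘ eM0)) := by
      rw [← e4, e1, e2, e3]; ring
    exact mul_right_cancel₀ hD0 h5
  rw [hcst]

theorem main (R : Type u) [CommRing R] [IsLocalRing R] (K L M : Type u)
    [AddCommGroup K] [Module R K] [AddCommGroup L] [Module R L] [AddCommGroup M] [Module R M]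
    (hK : IsFiniteLength R K) (hM : IsFiniteLength R M) (f : K →ₗ[R] L) (g : L →ₗ[R] M)
    (hf : Function.Injective f) (hg : Function.Surjective g)
    (hfg : LinearMap.range f = LinearMap.ker g)
    (hlen : (Module.length R K).toNat + (Module.length R M).toNat = (Module.length R L).toNat) :
    ∃ γ : (CycDet.Det R K ⊗[IsLocalRing.ResidueField R] CycDet.Det R M) ≃ₗ[IsLocalRing.ResidueField R]
        CycDet.Det R L,
      ∀ (eK : CycDet.Adm R K (Module.length R K).toNat)
        (eM : CycDet.Adm R M (Module.length R M).toNat)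
        (eL : CycDet.Adm R L (Module.length R L).toNat),
        CycDet.symbol R K eK ≠ 0 →
        (∀ i : Fin (Module.length R K).toNat,
          eL.1 (Fin.cast hlen (Fin.castAdd (Module.length R M).toNat i)) = f (eK.1 i)) →
        (∀ j : Fin (Module.length R M).toNat,
          g (eL.1 (Fin.cast hlen (Fin.natAdd (Module.length R K).toNat j))) = eM.1 j) →
        γ (CycDet.symbol R K eK ⊗ₜ CycDet.symbol R M eM) = CycDet.symbol R L eL :=
  main_gen R K L M f g hf hg hfg (Module.length R K).toNat (Module.length R M).toNat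
    (Module.length R L).toNat
    (ENat.natCast_toNat (Module.length_ne_top_iff.mpr hK)).symm
    (ENat.natCast_toNat (Module.length_ne_top_iff.mpr hM)).symm hlen

end Groth.Agent.Lib.CycDetGammaH4
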