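import Mathlib
import Groth.Prelude
import Groth.Agent.Lib.CycFBC1_helper5

/-!
# Flat base change commutes with flat pullback of cycles, coefficientwise (helper5).
APPEND-ONLY once landed.
-/

set_option autoImplicit false
universe u

open CategoryTheory CategoryTheory.Limits AlgebraicGeometry TopologicalSpace Opposite

namespace Groth.Agent.Lib.CycFBCH5

theorem main6478_aux (X X' Y : Scheme.{u}) (f : Y ⟶ X) (p : X' ⟶ X) [Flat f]
    [LocallyOfFiniteType f] [Flat p] (r : ℕ) (hr : Cyc.HasRelDim f r) (δ : X → ℤ) (δ' : X' → ℤ)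
    (δY : Y → ℤ) (δY' : ↥(pullback f p) → ℤ)
    (hX' : Cyc.IsSetup X' δ')
    (hf : Cyc.DeltaCompat f δY δ) (hf' : Cyc.DeltaCompat (pullback.snd f p) δY' δ') (c : ℤ)
    (hc : ∀ x' : X', (∀ y, p y = p x' → y ⤳ x' → y = x') → δ' x' = δ (p x') + c)
    (hcY : ∀ y' : ↥(pullback f p), (∀ y, pullback.fst f p y = pullback.fst f p y' → y ⤳ y' →
      y = y') → δY' y' = δY (pullback.fst f p y') + c) (α : X → ℤ) :
    Cyc.pullFun (pullback.snd f p) δY' δ' r (Cyc.pullFun p δ' δ c α) =
      Cyc.pullFun (pullback.fst f p) δY' δY c (Cyc.pullFun f δY δ r α) := by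
  funext y'
  have hr' : Cyc.HasRelDim (pullback.snd f p) r := hasRelDim_snd f p r hr
  have hdimY' : Cyc.IsDimFun (pullback f p) δY' :=
    Groth.Agent.S9684.result (pullback.snd f p) δ' hX' δY' hf'
  have cond : pullback.fst f p ≫ f = pullback.snd f p ≫ p := pullback.condition
  have hxy : f (pullback.fst f p y') = p (pullback.snd f p y') := by
    have := congrArg (fun g : pullback f p ⟶ X => g y') cond
    simpa only [Scheme.Hom.comp_apply] using this
  have hA := delta_eq_iff_fibMax (pullback.snd f p) δY' δ' r hr' hf' y'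
  have hB := shift_eq_iff_fibMax p δ' δ c hX'.2.2 hc (pullback.snd f p y')
  have hC := shift_eq_iff_fibMax (pullback.fst f p) δY' δY c hdimY' hcY y'
  have hD := delta_eq_iff_fibMax f δY δ r hr hf (pullback.fst f p y')
  have hAB : (FibMax (pullback.snd f p) y' ∧ FibMax p (pullback.snd f p y')) ↔
      FibMax (pullback.snd f p ≫ p) y' :=
    ⟨fun h => fibMax_comp _ _ _ h.1 h.2, fun h => fibMax_of_comp _ _ _ h⟩
  have hCD : (FibMax (pullback.fst f p) y' ∧ FibMax f (pullback.fst f p y')) ↔
      FibMax (pullback.fst f p ≫ f) y' :=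
    ⟨fun h => fibMax_comp _ _ _ h.1 h.2, fun h => fibMax_of_comp _ _ _ h⟩
  have hiff : (FibMax (pullback.snd f p) y' ∧ FibMax p (pullback.snd f p y')) ↔
      (FibMax (pullback.fst f p) y' ∧ FibMax f (pullback.fst f p y')) := by
    rw [hAB, hCD]; exact (fibMax_congr cond y').symm
  rw [pullFun_eq, pullFun_eq, pullFun_eq, pullFun_eq]
  by_cases h1 : FibMax (pullback.snd f p) y' ∧ FibMax p (pullback.snd f p y')
  · have h2 := hiff.mp h1
    rw [if_pos (hA.mpr h1.1), if_pos (hB.mpr h1.2), if_pos (hC.mpr h2.1), if_pos (hD.mpr h2.2)]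
    have e1 := pmult_comp p (pullback.snd f p) y'
    have e2 := pmult_comp f (pullback.fst f p) y'
    rw [← pmult_congr cond y', e2] at e1
    have e3 := congrArg ENat.toNat e1
    rw [ENat.toNat_mul, ENat.toNat_mul] at e3
    have e4 : ((pmult f (pullback.fst f p y')).toNat : ℤ) * ((pmult (pullback.fst f p) y').toNat : ℤ)
        = ((pmult p (pullback.snd f p y')).toNat : ℤ) * ((pmult (pullback.snd f p) y').toNat : ℤ) := by
      exact_mod_cast e3
    rw [hxy, mul_assoc, mul_assoc, e4]
  · have h2 : ¬ (FibMax (pullback.fst f p) y' ∧ FibMax f (pullback.fst f p y')) :=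
      fun h => h1 (hiff.mpr h)
    have l : (if δY' y' = δ' (pullback.snd f p y') + r then
        (if δ' (pullback.snd f p y') = δ (p (pullback.snd f p y')) + c then
          α (p (pullback.snd f p y')) * ((pmult p (pullback.snd f p y')).toNat : ℤ) else 0) *
        ((pmult (pullback.snd f p) y').toNat : ℤ) else 0) = 0 := by
      by_cases hA' : δY' y' = δ' (pullback.snd f p y') + r
      · rw [if_pos hA']
        have hB' : ¬ δ' (pullback.snd f p y') = δ (p (pullback.snd f p y')) + c :=
          fun hB' => h1 ⟨hA.mp hA', hB.mp hB'⟩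
        rw [if_neg hB', zero_mul]
      · rw [if_neg hA']
    have rr : (if δY' y' = δY (pullback.fst f p y') + c then
        (if δY (pullback.fst f p y') = δ (f (pullback.fst f p y')) + r then
          α (f (pullback.fst f p y')) * ((pmult f (pullback.fst f p y')).toNat : ℤ) else 0) *
        ((pmult (pullback.fst f p) y').toNat : ℤ) else 0) = 0 := by
      by_cases hC' : δY' y' = δY (pullback.fst f p y') + c
      · rw [if_pos hC']
        have hD' : ¬ δY (pullback.fst f p y') = δ (f (pullback.fst f p y')) + r :=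
          fun hD' => h2 ⟨hC.mp hC', hD.mp hD'⟩
        rw [if_neg hD', zero_mul]
      · rw [if_neg hC']
    rw [l, rr]

end Groth.Agent.Lib.CycFBCH5
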