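import Mathlib
import Groth.Agent.Lib.CycFP2_helper5

/-!
# Flat pullback commutes with specialization of cycles over a DVR, part 3: charts (helper5)

* `base_eq_iff_comap_eq`, `fibMax_fromSpec_iff`: fibres and fibre-maximal points in affine charts;
* `core_scheme`: the multiplicity identity for points.

APPEND-ONLY once landed.
-/

set_option autoImplicit false

namespace Groth.Agent.Lib.CycFPH5

open IsLocalRing AlgebraicGeometry CategoryTheory TopologicalSpace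
open Groth.Agent.Lib.SpecLenH5 Groth.Agent.Lib.CycSpH5 Groth.Agent.Lib.CycFBCH5
open Groth.Agent.Lib.FibSkH5 Groth.Agent.Lib.FibPdH5 Groth.Agent.Lib.FibRectH5

universe u

section Dict

variable {X' X : Scheme.{u}} (f : X' ⟶ X) {U : X.Opens} (hU : IsAffineOpen U) {U' : X'.Opens}
  (hU' : IsAffineOpen U') (e : U' ≤ f ⁻¹ᵁ U)

include hU in
theorem base_eq_iff_comap_eq (𝔯 𝔯' : PrimeSpectrum Γ(X', U')) :
    f (hU'.fromSpec 𝔯) = f (hU'.fromSpec 𝔯') ↔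
      𝔯.asIdeal.comap (f.appLE U U' e).hom = 𝔯'.asIdeal.comap (f.appLE U U' e).hom := by
  rw [comap_eq_primeIdealOf f hU hU' e 𝔯, comap_eq_primeIdealOf f hU hU' e 𝔯']
  constructor
  · intro h
    have : (⟨f.base (hU'.fromSpec 𝔯), e (Groth.Agent.SchFTH8.fromSpec_mem hU' 𝔯)⟩ : U) =
        ⟨f.base (hU'.fromSpec 𝔯'), e (Groth.Agent.SchFTH8.fromSpec_mem hU' 𝔯')⟩ := Subtype.ext h
    rw [this]
  · intro h
    have h' := Groth.Agent.Lib.AffStalk_helper3.primeIdealOf_injective hU (PrimeSpectrum.ext h)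
    exact congrArg Subtype.val h'

include hU in
/-- fibre-maximal points in an affine chart -/
theorem fibMax_fromSpec_iff (𝔯 : PrimeSpectrum Γ(X', U')) :
    letI : Algebra Γ(X, U) Γ(X', U') := (f.appLE U U' e).hom.toAlgebra
    FibMax f (hU'.fromSpec 𝔯) ↔ 𝔯.asIdeal ∈
      ((𝔯.asIdeal.comap (algebraMap Γ(X, U) Γ(X', U'))).map
        (algebraMap Γ(X, U) Γ(X', U'))).minimalPrimes := by
  letI algCC : Algebra Γ(X, U) Γ(X', U') := (f.appLE U U' e).hom.toAlgebra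
  constructor
  · intro hmax
    refine ⟨⟨𝔯.isPrime, Ideal.map_comap_le⟩, ?_⟩
    rintro Q ⟨hQp, hQ⟩ hQ𝔯
    have h1 : 𝔯.asIdeal.comap (algebraMap Γ(X, U) Γ(X', U')) ≤
        Q.comap (algebraMap Γ(X, U) Γ(X', U')) := Ideal.map_le_iff_le_comap.mp hQ
    have h2 : Q.comap (algebraMap Γ(X, U) Γ(X', U')) ≤
        𝔯.asIdeal.comap (algebraMap Γ(X, U) Γ(X', U')) := Ideal.comap_mono hQ𝔯
    have h3 : f (hU'.fromSpec ⟨Q, hQp⟩) = f (hU'.fromSpec 𝔯) :=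
      (base_eq_iff_comap_eq f hU hU' e ⟨Q, hQp⟩ 𝔯).mpr (le_antisymm h2 h1)
    have h4 : (hU'.fromSpec ⟨Q, hQp⟩ : X') ⤳ hU'.fromSpec 𝔯 :=
      (fromSpec_specializes_iff hU' ⟨Q, hQp⟩ 𝔯).mpr hQ𝔯
    have h5 := hU'.fromSpec.isOpenEmbedding.injective (hmax _ h3 h4)
    rw [← h5]
  · intro hmin y hy hyx
    have hyU' : y ∈ U' := hyx.mem_open U'.2 (Groth.Agent.SchFTH8.fromSpec_mem hU' 𝔯)
    have hy' : hU'.fromSpec (hU'.primeIdealOf ⟨y, hyU'⟩) = y := hU'.fromSpec_primeIdealOf ⟨y, hyU'⟩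
    set Q := hU'.primeIdealOf ⟨y, hyU'⟩ with hQ
    rw [← hy'] at hy hyx ⊢
    have h1 : Q ≤ 𝔯 := (fromSpec_specializes_iff hU' Q 𝔯).mp hyx
    have h2 : Q.asIdeal.comap (algebraMap Γ(X, U) Γ(X', U')) =
        𝔯.asIdeal.comap (algebraMap Γ(X, U) Γ(X', U')) :=
      (base_eq_iff_comap_eq f hU hU' e Q 𝔯).mp hy
    have h3 : (𝔯.asIdeal.comap (algebraMap Γ(X, U) Γ(X', U'))).map
        (algebraMap Γ(X, U) Γ(X', U')) ≤ Q.asIdeal := by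
      rw [← h2]; exact Ideal.map_comap_le
    have h4 : 𝔯.asIdeal ≤ Q.asIdeal := hmin.2 ⟨Q.isPrime, h3⟩ h1
    have h5 : Q = 𝔯 := le_antisymm h1 h4
    rw [h5]

end Dict

section CoreScheme

variable {X' X Y : Scheme.{u}} [IsAffine Y] (b : X ⟶ Y) (f : X' ⟶ X)
  {y y' : Y} {π : Γ(Y, ⊤)} (hD : DVRBase y y' π)

set_option maxHeartbeats 1000000 in
include hD in
/-- **The multiplicity identity for points**: `x'` maximal in its fibre of `f` over the closed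
fibre, `ζ` a point of the generic fibre of `X` specializing immediately to `f x'`. -/
theorem core_scheme [Flat f] [LocallyOfFiniteType b] [LocallyOfFiniteType f]
    [IsLocallyNoetherian Y] (hπ : π ≠ 0)
    (x' : X') (hx'y : (f ≫ b) x' = y) (hx'max : FibMax f x')
    (ζ : X) (hζy : b ζ = y') (hζx : ζ ⤳ f x')
    (himm : ∀ z : X, ζ ⤳ z → z ⤳ f x' → z = ζ ∨ z = f x') :
    {ζ' : X' | f ζ' = ζ ∧ FibMax f ζ' ∧ ζ' ⤳ x'}.Finite ∧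
    (smult b ζ (f x') ≠ ⊤ ∧ pmult f x' ≠ ⊤) ∧
    (∀ ζ' : X', f ζ' = ζ → FibMax f ζ' → ζ' ⤳ x' →
      pmult f ζ' ≠ ⊤ ∧ smult (f ≫ b) ζ' x' ≠ ⊤) ∧
    smult b ζ (f x') * pmult f x' =
      ∑ᶠ ζ' ∈ {ζ' : X' | f ζ' = ζ ∧ FibMax f ζ' ∧ ζ' ⤳ x'},
        pmult f ζ' * smult (f ≫ b) ζ' x' := by
  classical
  haveI : IsLocallyNoetherian X := LocallyOfFiniteType.isLocallyNoetherian b
  haveI : IsLocallyNoetherian X' := LocallyOfFiniteType.isLocallyNoetherian f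
  -- charts
  obtain ⟨U, hU0, hxU, -⟩ := (Opens.isBasis_iff_nbhd.mp X.isBasis_affineOpens)
    (show f x' ∈ (⊤ : X.Opens) from trivial)
  have hU : IsAffineOpen U := hU0
  obtain ⟨U', hU0', hx'U', hU'le⟩ := (Opens.isBasis_iff_nbhd.mp X'.isBasis_affineOpens)
    (show x' ∈ f ⁻¹ᵁ U from hxU)
  have hU' : IsAffineOpen U' := hU0'
  have e : U' ≤ f ⁻¹ᵁ U := hU'le
  have eU : U ≤ b ⁻¹ᵁ ⊤ := fun _ _ => trivial
  have eU' : U' ≤ (f ≫ b) ⁻¹ᵁ ⊤ := fun _ _ => trivial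
  letI algR0C : Algebra Γ(Y, ⊤) Γ(X, U) := (b.appLE ⊤ U eU).hom.toAlgebra
  letI algCC' : Algebra Γ(X, U) Γ(X', U') := (f.appLE U U' e).hom.toAlgebra
  letI algR0C' : Algebra Γ(Y, ⊤) Γ(X', U') := ((f ≫ b).appLE ⊤ U' eU').hom.toAlgebra
  haveI : IsScalarTower Γ(Y, ⊤) Γ(X, U) Γ(X', U') := IsScalarTower.of_algebraMap_eq (fun r => by
    have h1 := Scheme.Hom.appLE_comp_appLE f b ⊤ U U' eU e
    have h2 := congrArg (fun φ => φ.hom r) h1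
    exact h2.symm)
  haveI : IsNoetherianRing Γ(X', U') := IsLocallyNoetherian.component_noetherian ⟨U', hU'⟩
  haveI : IsNoetherianRing Γ(X, U) := IsLocallyNoetherian.component_noetherian ⟨U, hU⟩
  haveI : Module.Flat Γ(X, U) Γ(X', U') :=
    HasRingHomProperty.appLE (P := @Flat) f inferInstance ⟨U, hU⟩ ⟨U', hU'⟩ e
  -- points and primes
  have hζU : ζ ∈ U := hζx.mem_open U.2 hxU
  set q := hU'.primeIdealOf ⟨x', hx'U'⟩ with hq_def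
  set 𝔵 := hU.primeIdealOf ⟨f x', hxU⟩ with h𝔵_def
  set 𝔭 := hU.primeIdealOf ⟨ζ, hζU⟩ with h𝔭_def
  have hqx' : hU'.fromSpec q = x' := hU'.fromSpec_primeIdealOf ⟨x', hx'U'⟩
  have h𝔵x : hU.fromSpec 𝔵 = f x' := hU.fromSpec_primeIdealOf ⟨f x', hxU⟩
  have h𝔭ζ : hU.fromSpec 𝔭 = ζ := hU.fromSpec_primeIdealOf ⟨ζ, hζU⟩
  have h𝔵 : q.asIdeal.comap (algebraMap Γ(X, U) Γ(X', U')) = 𝔵.asIdeal :=
    primeIdealOf_comap f hU hU' e hx'U'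
  have hq : q.asIdeal.comap (algebraMap Γ(Y, ⊤) Γ(X', U')) = Ideal.span {π} := by
    apply (base_special_iff (f ≫ b) hD hU' eU' q).mp
    rw [hqx']; exact hx'y
  have h𝔵y : 𝔵.asIdeal.comap (algebraMap Γ(Y, ⊤) Γ(X, U)) = Ideal.span {π} := by
    apply (base_special_iff b hD hU eU 𝔵).mp
    rw [h𝔵x]; exact hx'y
  have h𝔭0 : 𝔭.asIdeal.comap (algebraMap Γ(Y, ⊤) Γ(X, U)) = ⊥ := by
    apply (base_generic_iff b hD hU eU 𝔭).mp
    rw [h𝔭ζ]; exact hζy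
  have hπ𝔭 : algebraMap Γ(Y, ⊤) Γ(X, U) π ∉ 𝔭.asIdeal := by
    intro h
    have h1 : π ∈ 𝔭.asIdeal.comap (algebraMap Γ(Y, ⊤) Γ(X, U)) := h
    rw [h𝔭0] at h1
    exact hπ h1
  have h𝔭𝔵 : 𝔭 ≤ 𝔵 := by
    rw [← h𝔭ζ, ← h𝔵x] at hζx
    exact (fromSpec_specializes_iff hU 𝔭 𝔵).mp hζx
  -- minimality downstairs
  have h𝔵min : 𝔵.asIdeal ∈
      (𝔭.asIdeal ⊔ Ideal.span {algebraMap Γ(Y, ⊤) Γ(X, U) π}).minimalPrimes := by
    have hπ𝔵 : algebraMap Γ(Y, ⊤) Γ(X, U) π ∈ 𝔵.asIdeal := by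
      have h1 : π ∈ 𝔵.asIdeal.comap (algebraMap Γ(Y, ⊤) Γ(X, U)) := by
        rw [h𝔵y]; exact Ideal.subset_span rfl
      exact h1
    refine ⟨⟨𝔵.isPrime, sup_le h𝔭𝔵 ?_⟩, ?_⟩
    · rw [Ideal.span_le, Set.singleton_subset_iff]; exact hπ𝔵
    · rintro Q ⟨hQp, hQ⟩ hQ𝔵
      have h1 : 𝔭 ≤ (⟨Q, hQp⟩ : PrimeSpectrum Γ(X, U)) := le_sup_left.trans hQ
      have h2 : (hU.fromSpec ⟨Q, hQp⟩ : X) ⤳ f x' := by
        rw [← h𝔵x]; exact (fromSpec_specializes_iff hU _ _).mpr hQ𝔵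
      have h3 : ζ ⤳ (hU.fromSpec ⟨Q, hQp⟩ : X) := by
        rw [← h𝔭ζ]; exact (fromSpec_specializes_iff hU _ _).mpr h1
      rcases himm _ h3 h2 with h4 | h4
      · exfalso
        rw [← h𝔭ζ] at h4
        have h5 := hU.fromSpec.isOpenEmbedding.injective h4
        apply hπ𝔭
        rw [← h5]
        exact hQ (Ideal.mem_sup_right (Ideal.subset_span rfl))
      · rw [← h𝔵x] at h4
        have h5 := hU.fromSpec.isOpenEmbedding.injective h4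
        rw [← h5]
  -- minimality upstairs
  have hqmin : q.asIdeal ∈ (𝔵.asIdeal.map (algebraMap Γ(X, U) Γ(X', U'))).minimalPrimes := by
    have h1 := (fibMax_fromSpec_iff f hU hU' e q).mp (by rw [hqx']; exact hx'max)
    rw [h𝔵] at h1
    exact h1
  have hmin := mem_minimalPrimes_sup π 𝔭.asIdeal 𝔵.asIdeal q.asIdeal h𝔵 h𝔵min hqmin
  obtain ⟨hfin, hfac, hform⟩ := core_ring π hD.hA 𝔭 𝔵 q h𝔵 hq hπ𝔭 hmin
  -- index sets
  set T : Set (PrimeSpectrum Γ(X', U')) := {𝔯 | 𝔯.asIdeal ∈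
    (𝔭.asIdeal.map (algebraMap Γ(X, U) Γ(X', U'))).minimalPrimes ∧ 𝔯 ≤ q} with hT
  set S' : Set X' := {ζ' | f ζ' = ζ ∧ FibMax f ζ' ∧ ζ' ⤳ x'} with hS'
  have hcomapT : ∀ 𝔯 ∈ T, 𝔯.asIdeal.comap (algebraMap Γ(X, U) Γ(X', U')) = 𝔭.asIdeal :=
    fun 𝔯 h => comap_eq_of_mem_minimalPrimes 𝔭.asIdeal 𝔯.asIdeal h.1
  have hbase : ∀ 𝔯 : PrimeSpectrum Γ(X', U'), f (hU'.fromSpec 𝔯) = ζ ↔
      𝔯.asIdeal.comap (algebraMap Γ(X, U) Γ(X', U')) = 𝔭.asIdeal :=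
    fun 𝔯 => base_fromSpec_eq_iff' hU f hU' e ζ hζU 𝔯
  have hbij : Set.BijOn (hU'.fromSpec : PrimeSpectrum Γ(X', U') → X') T S' := by
    refine ⟨?_, hU'.fromSpec.isOpenEmbedding.injective.injOn, ?_⟩
    · rintro 𝔯 ⟨h1, h2⟩
      have h3 := hcomapT 𝔯 ⟨h1, h2⟩
      refine ⟨(hbase 𝔯).mpr h3, ?_, ?_⟩
      · apply (fibMax_fromSpec_iff f hU hU' e 𝔯).mpr
        rw [h3]; exact h1
      · rw [← hqx']; exact (fromSpec_specializes_iff hU' 𝔯 q).mpr h2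
    · rintro ζ' ⟨h1, h2, h3⟩
      have hζ'U' : ζ' ∈ U' := h3.mem_open U'.2 hx'U'
      have hζ' : hU'.fromSpec (hU'.primeIdealOf ⟨ζ', hζ'U'⟩) = ζ' :=
        hU'.fromSpec_primeIdealOf ⟨ζ', hζ'U'⟩
      refine ⟨hU'.primeIdealOf ⟨ζ', hζ'U'⟩, ⟨?_, ?_⟩, hζ'⟩
      · have h4 := (hbase _).mp (by rw [hζ']; exact h1)
        have h5 := (fibMax_fromSpec_iff f hU hU' e _).mp (by rw [hζ']; exact h2)
        rw [h4] at h5
        exact h5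
      · rw [← hζ', ← hqx'] at h3
        exact (fromSpec_specializes_iff hU' _ _).mp h3
  have hTfin : T.Finite := by
    have h1 : (𝔭.asIdeal.map (algebraMap Γ(X, U) Γ(X', U'))).minimalPrimes.Finite :=
      Ideal.finite_minimalPrimes_of_isNoetherianRing _ _
    have hinj : Set.InjOn (PrimeSpectrum.asIdeal : PrimeSpectrum Γ(X', U') → Ideal Γ(X', U'))
        (PrimeSpectrum.asIdeal ⁻¹'
          (𝔭.asIdeal.map (algebraMap Γ(X, U) Γ(X', U'))).minimalPrimes) :=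
      Set.injOn_of_injective (fun p q h => PrimeSpectrum.ext h)
    exact (Set.Finite.preimage hinj h1).subset (fun 𝔯 h𝔯 => h𝔯.1)
  have hterm : ∀ 𝔯 ∈ T, pmult f (hU'.fromSpec 𝔯) = cpm 𝔭.asIdeal 𝔯 ∧
      smult (f ≫ b) (hU'.fromSpec 𝔯) x' = cmult π q 𝔯 := by
    rintro 𝔯 ⟨h1, h2⟩
    have hmem := Groth.Agent.SchFTH8.fromSpec_mem hU' 𝔯
    constructor
    · have h3 := pmult_eq_cpm f hU hU' e (hU'.fromSpec 𝔯) hmem
      rw [Groth.Agent.SchFTH8.primeIdealOf_fromSpec] at h3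
      have h4 : f (hU'.fromSpec 𝔯) = ζ := (hbase 𝔯).mpr (hcomapT 𝔯 ⟨h1, h2⟩)
      have h5 : (hU.primeIdealOf ⟨f (hU'.fromSpec 𝔯), e hmem⟩) = 𝔭 := by
        have h6 : (⟨f (hU'.fromSpec 𝔯), e hmem⟩ : U) = ⟨ζ, hζU⟩ := Subtype.ext h4
        rw [h6]
      rw [h3, h5]
    · have hsp : (hU'.fromSpec 𝔯 : X') ⤳ x' := by
        rw [← hqx']; exact (fromSpec_specializes_iff hU' 𝔯 q).mpr h2
      have h3 := smult_eq_cmult (f ≫ b) hD hU' eU' (hU'.fromSpec 𝔯) x' hsp hx'U' hmem hx'y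
      rw [Groth.Agent.SchFTH8.primeIdealOf_fromSpec] at h3
      exact h3
  have hL1 : smult b ζ (f x') = cmult π 𝔵 𝔭 :=
    smult_eq_cmult b hD hU eU ζ (f x') hζx hxU hζU hx'y
  have hL2 : pmult f x' = cpm 𝔵.asIdeal q := pmult_eq_cpm f hU hU' e x' hx'U'
  refine ⟨?_, ?_, ?_, ?_⟩
  · rw [← hbij.image_eq]
    exact hTfin.image _
  · rw [hL1, hL2]; exact hfin
  · intro ζ' h1 h2 h3
    obtain ⟨𝔯, h𝔯, rfl⟩ := hbij.surjOn ⟨h1, h2, h3⟩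
    rw [(hterm 𝔯 h𝔯).1, (hterm 𝔯 h𝔯).2]
    exact hfac 𝔯 h𝔯.1 h𝔯.2
  · rw [hL1, hL2, hform]
    refine Eq.trans (finsum_subtype_eq_finsum_cond
      (f := fun 𝔯 => cpm 𝔭.asIdeal 𝔯 * cmult π q 𝔯)
      (fun 𝔯 : PrimeSpectrum Γ(X', U') =>
        𝔯.asIdeal ∈ (𝔭.asIdeal.map (algebraMap Γ(X, U) Γ(X', U'))).minimalPrimes ∧ 𝔯 ≤ q)) ?_
    refine finsum_mem_eq_of_bijOn (s := T) (hU'.fromSpec : PrimeSpectrum Γ(X', U') → X') hbij ?_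
    intro 𝔯 h𝔯
    rw [(hterm 𝔯 h𝔯).1, (hterm 𝔯 h𝔯).2]

end CoreScheme

end Groth.Agent.Lib.CycFPH5
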