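import Mathlib
import Groth.Agent.Lib.CycFP3_helper5

/-!
# Flat pullback commutes with specialization of cycles over a DVR, part 4: sums (helper5)

* `trN_add`, `trN_le_relDim`, `trN_eq_iff_fibMax`;
* `pointwise_sum`: the identity of S1915 at a point, as sums over points of `X'` and `X`.

APPEND-ONLY once landed.
-/

set_option autoImplicit false

namespace Groth.Agent.Lib.CycFPH5

open IsLocalRing AlgebraicGeometry CategoryTheory TopologicalSpace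
open Groth.Agent.Lib.SpecLenH5 Groth.Agent.Lib.CycSpH5 Groth.Agent.Lib.CycFBCH5

universe u

section TrN

variable {X' X Y : Scheme.{u}} (f : X' ⟶ X) (b : X ⟶ Y) [LocallyOfFiniteType f]

theorem trN_add [LocallyOfFiniteType b] (x' : X') :
    trN (f ≫ b) x' = trN b (f x') + trN f x' := by
  have h := ResTrdegH8.resTrdeg_comp f b x'
  have h1 : Dual3.resTrdeg (f ≫ b) x' = trN (f ≫ b) x' := trN_spec (f ≫ b) x'
  have h2 : Dual3.resTrdeg b (f x') = trN b (f x') := trN_spec b (f x')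
  have h3 : Dual3.resTrdeg f x' = trN f x' := trN_spec f x'
  rw [h1, h2, h3] at h
  exact_mod_cast h

theorem trN_le_relDim (e : ℕ) (he : Cyc.HasRelDim f e) (x' : X') : trN f x' ≤ e :=
  CycPullH8.trdeg_le_of_hasRelDim f e he x' (trN f x') (trN_spec f x')

theorem trN_eq_iff_fibMax (e : ℕ) (he : Cyc.HasRelDim f e) (x' : X') :
    trN f x' = e ↔ FibMax f x' := by
  have h := delta_eq_iff_fibMax f (fun x'' => (trN f x'' : ℤ)) (fun _ => 0) e he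
    (fun x'' => ⟨trN f x'', trN_spec f x'', by simp⟩) x'
  rw [← h]
  constructor
  · intro h1
    simp [h1]
  · intro h1
    have h2 : (trN f x' : ℤ) = e := by simpa using h1
    exact_mod_cast h2

end TrN

section Sum

variable {X' X Y : Scheme.{u}} [IsAffine Y] (b : X ⟶ Y) (f : X' ⟶ X)
  {y y' : Y} {π : Γ(Y, ⊤)} (hD : DVRBase y y' π)

set_option maxHeartbeats 1000000 in
include hD in
/-- **The identity of S1915 at a point**, as sums over points of `X'` and of `X`. -/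
theorem pointwise_sum [Flat f] [LocallyOfFiniteType b] [LocallyOfFiniteType f]
    [IsLocallyNoetherian Y] [IsDomain Γ(Y, ⊤)] (hπ : π ≠ 0)
    (hcat : CAlg.IsUniversallyCatenary (Y.presheaf.stalk y))
    (e : ℕ) (he : Cyc.HasRelDim f e) (r : ℤ) (αX : X → ℤ)
    (x' : X') (hx'y : (f ≫ b) x' = y) (hx'r : (trN (f ≫ b) x' : ℤ) = r + e)
    (hxr : (trN b (f x') : ℤ) = r)
    (hfin : {ζ : X | αX ζ ≠ 0 ∧ b ζ = y' ∧ ζ ⤳ f x'}.Finite) :
    ∑ᶠ ζ' ∈ {ζ' : X' | (f ≫ b) ζ' = y' ∧ (trN (f ≫ b) ζ' : ℤ) = r + e ∧ ζ' ⤳ x'},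
        (if (trN (f ≫ b) ζ' : ℤ) = trN b (f ζ') + e then
          αX (f ζ') * (((pmult f ζ').toNat : ℕ) : ℤ) else 0) *
          (((smult (f ≫ b) ζ' x').toNat : ℕ) : ℤ) =
      (∑ᶠ ζ ∈ {ζ : X | b ζ = y' ∧ (trN b ζ : ℤ) = r ∧ ζ ⤳ f x'},
        αX ζ * (((smult b ζ (f x')).toNat : ℕ) : ℤ)) * (((pmult f x').toNat : ℕ) : ℤ) := by
  classical
  have hadd : ∀ z : X', (trN (f ≫ b) z : ℤ) = trN b (f z) + trN f z := by
    intro z
    have := trN_add f b z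
    exact_mod_cast this
  have hx'max : FibMax f x' := by
    apply (trN_eq_iff_fibMax f e he x').mp
    have := hadd x'
    omega
  have hxy : b (f x') = y := hx'y
  set A' : Set X' := {ζ' : X' | (f ≫ b) ζ' = y' ∧ (trN (f ≫ b) ζ' : ℤ) = r + e ∧ ζ' ⤳ x'}
    with hA'
  set A : Set X := {ζ : X | b ζ = y' ∧ (trN b ζ : ℤ) = r ∧ ζ ⤳ f x'} with hA
  set B' : Set X' := {ζ' : X' | b (f ζ') = y' ∧ (trN b (f ζ') : ℤ) = r ∧ FibMax f ζ' ∧ ζ' ⤳ x'}
    with hB'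
  set H : X' → ℤ := fun ζ' => αX (f ζ') *
    ((((pmult f ζ').toNat : ℕ) : ℤ) * (((smult (f ≫ b) ζ' x').toNat : ℕ) : ℤ)) with hH
  -- Step 1
  have step1 : ∑ᶠ ζ' ∈ A', (if (trN (f ≫ b) ζ' : ℤ) = trN b (f ζ') + e then
        αX (f ζ') * (((pmult f ζ').toNat : ℕ) : ℤ) else 0) *
        (((smult (f ≫ b) ζ' x').toNat : ℕ) : ℤ) = ∑ᶠ ζ' ∈ B', H ζ' := by
    rw [finsum_mem_def, finsum_mem_def]
    apply finsum_congr
    intro ζ'
    by_cases h : ζ' ∈ B'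
    · obtain ⟨h1, h2, h3, h4⟩ := h
      have h5 : trN f ζ' = e := (trN_eq_iff_fibMax f e he ζ').mpr h3
      have h6 := hadd ζ'
      have hc : (trN (f ≫ b) ζ' : ℤ) = trN b (f ζ') + e := by rw [h6, h5]
      have hmemA : ζ' ∈ A' := ⟨h1, by rw [hc, h2], h4⟩
      rw [Set.indicator_of_mem hmemA, Set.indicator_of_mem (show ζ' ∈ B' from ⟨h1, h2, h3, h4⟩),
        if_pos hc]
      simp only [hH]
      ring
    · rw [Set.indicator_of_notMem h]
      by_cases hmemA : ζ' ∈ A'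
      · rw [Set.indicator_of_mem hmemA]
        have hc : ¬ (trN (f ≫ b) ζ' : ℤ) = trN b (f ζ') + e := by
          intro hc
          apply h
          obtain ⟨h1, h2, h3⟩ := hmemA
          have h6 := hadd ζ'
          have h5 : trN f ζ' = e := by omega
          exact ⟨h1, by omega, (trN_eq_iff_fibMax f e he ζ').mp h5, h3⟩
        rw [if_neg hc, zero_mul]
      · rw [Set.indicator_of_notMem hmemA]
  rw [step1]
  -- the fibres of `f` over the points of `A`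
  set S' : X → Set X' := fun ζ => {ζ' : X' | f ζ' = ζ ∧ FibMax f ζ' ∧ ζ' ⤳ x'} with hS'
  set Aα : Set X := A ∩ {ζ | αX ζ ≠ 0} with hAα
  have hAαfin : Aα.Finite := hfin.subset (fun ζ hζ => ⟨hζ.2, hζ.1.1, hζ.1.2.2⟩)
  have himm : ∀ ζ ∈ A, ∀ z : X, ζ ⤳ z → z ⤳ f x' → z = ζ ∨ z = f x' := by
    intro ζ hζ
    have h1 := trN_le b hD hπ hcat ζ (f x') hζ.2.2 hζ.1 hxy
    apply h1.2
    have : (trN b (f x') : ℤ) = trN b ζ := by rw [hxr, hζ.2.1]
    exact_mod_cast this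
  have hcore : ∀ ζ ∈ A, _ := fun ζ (hζ : ζ ∈ A) =>
    core_scheme b f hD hπ x' hx'y hx'max ζ hζ.1 hζ.2.2 (himm ζ hζ)
  -- Step 2
  have hB'' : ∀ ζ' ∈ Function.support H, ζ' ∈ B' ↔ ζ' ∈ ⋃ ζ ∈ Aα, S' ζ := by
    intro ζ' hsupp
    have hα : αX (f ζ') ≠ 0 := by
      intro h0
      apply hsupp
      simp only [hH, h0, zero_mul]
    simp only [Set.mem_iUnion, exists_prop]
    constructor
    · rintro ⟨h1, h2, h3, h4⟩
      exact ⟨f ζ', ⟨⟨h1, h2, h4.map f.continuous⟩, hα⟩, rfl, h3, h4⟩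
    · rintro ⟨ζ, ⟨⟨h1, h2, h3⟩, h4⟩, h5, h6, h7⟩
      subst h5
      exact ⟨h1, h2, h6, h7⟩
  have step2 : ∑ᶠ ζ' ∈ B', H ζ' = ∑ᶠ ζ ∈ Aα, ∑ᶠ ζ' ∈ S' ζ, H ζ' := by
    rw [finsum_mem_inter_support_eq' H B' (⋃ ζ ∈ Aα, S' ζ) hB'']
    apply finsum_mem_biUnion
    · intro ζ₁ _ ζ₂ _ hne
      rw [Function.onFun, Set.disjoint_left]
      rintro ζ' ⟨h1, -, -⟩ ⟨h2, -, -⟩
      exact hne (h1.symm.trans h2)
    · exact hAαfin
    · intro ζ hζ
      exact (hcore ζ hζ.1).1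
  rw [step2]
  -- Step 3
  have step3 : ∀ ζ ∈ Aα, ∑ᶠ ζ' ∈ S' ζ, H ζ' =
      αX ζ * (((smult b ζ (f x')).toNat : ℕ) : ℤ) * (((pmult f x').toNat : ℕ) : ℤ) := by
    intro ζ hζ
    obtain ⟨hSfin, ⟨hf1, hf2⟩, hfac, hform⟩ := hcore ζ hζ.1
    have h1 : ∑ᶠ ζ' ∈ S' ζ, H ζ' = ∑ᶠ ζ' ∈ S' ζ, αX ζ *
        ((((pmult f ζ').toNat : ℕ) : ℤ) * (((smult (f ≫ b) ζ' x').toNat : ℕ) : ℤ)) := by
      apply finsum_mem_congr rfl
      intro ζ' hζ'
      simp only [hH]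
      rw [hζ'.1]
    rw [h1, ← mul_finsum_mem, mul_assoc]
    congr 1
    have h2 := toNat_finsum_mul (S' ζ) hSfin (fun ζ' => pmult f ζ')
      (fun ζ' => smult (f ≫ b) ζ' x') _
      (fun ζ' hζ' => (hfac ζ' hζ'.1 hζ'.2.1 hζ'.2.2).1)
      (fun ζ' hζ' => (hfac ζ' hζ'.1 hζ'.2.1 hζ'.2.2).2) hform
    rw [← h2, ENat.toNat_mul]
    push_cast
    rfl
  rw [finsum_mem_congr rfl step3, ← finsum_mem_mul]
  congr 1
  -- Step 4
  apply finsum_mem_inter_support_eq'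
  intro ζ hsupp
  have hα : αX ζ ≠ 0 := by
    intro h0
    apply hsupp
    simp only [h0, zero_mul]
  exact ⟨fun h => h.1, fun h => ⟨h, hα⟩⟩

end Sum

end Groth.Agent.Lib.CycFPH5
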