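import Mathlib
import Groth.Agent.Lib.CycFP4_helper5

/-!
# Flat pullback commutes with specialization of cycles over a DVR, part 5: assembly (helper5)

* `spFun_eq`, `fibre_finsum`: `Cyc.spFun` as a sum over points of the total space;
* `main1915_aux`: S1915 over an abstract one-dimensional base.

APPEND-ONLY once landed.
-/

set_option autoImplicit false

namespace Groth.Agent.Lib.CycFPH5

open IsLocalRing AlgebraicGeometry CategoryTheory TopologicalSpace
open Groth.Agent.Lib.SpecLenH5 Groth.Agent.Lib.CycSpH5 Groth.Agent.Lib.CycFBCH5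

universe u

section SpFun

variable {X S : Scheme.{u}} (g : X ⟶ S)

/-- `Cyc.spFun` in terms of `smult` -/
theorem spFun_eq (η s : S) (δη : g.fiber η → ℤ) (δs : g.fiber s → ℤ) (r : ℤ)
    (α : g.fiber η → ℤ) (x : g.fiber s) :
    Cyc.spFun g η s δη δs r α x = if δs x = r then
      ∑ᶠ ζ : {ζ : g.fiber η // δη ζ = r ∧ (g.fiberι η ζ) ⤳ (g.fiberι s x)},
        α ζ.1 * (((smult g (g.fiberι η ζ.1) (g.fiberι s x)).toNat : ℕ) : ℤ) else 0 := by
  unfold Cyc.spFun
  by_cases h : δs x = r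
  · rw [if_pos h, if_pos h]
    apply finsum_congr
    intro ζ
    unfold smult
    rw [dif_pos ζ.2.2]
  · rw [if_neg h, if_neg h]

/-- a sum over points of a fibre as a sum over points of the total space -/
theorem fibre_finsum [LocallyOfFiniteType g] (η : S) (δη : g.fiber η → ℤ)
    (hδη : Cyc.DeltaCompat (g.fiberToSpecResidueField η) δη (fun _ => 0)) (r : ℤ) (x₀ : X)
    (Φ : g.fiber η → ℤ) (ΦX : X → ℤ) (hΦ : ∀ ζ, ΦX (g.fiberι η ζ) = Φ ζ) :
    ∑ᶠ ζ : {ζ : g.fiber η // δη ζ = r ∧ (g.fiberι η ζ) ⤳ x₀}, Φ ζ.1 =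
      ∑ᶠ ξ ∈ {ξ : X | g ξ = η ∧ (trN g ξ : ℤ) = r ∧ ξ ⤳ x₀}, ΦX ξ := by
  have hinj : Function.Injective
      (fun ζ : {ζ : g.fiber η // δη ζ = r ∧ (g.fiberι η ζ) ⤳ x₀} => g.fiberι η ζ.1) := by
    intro a b hab
    exact Subtype.ext ((g.fiberι η).isEmbedding.injective hab)
  have h1 : (fun ζ : {ζ : g.fiber η // δη ζ = r ∧ (g.fiberι η ζ) ⤳ x₀} => Φ ζ.1) =
      fun ζ => ΦX ((fun ζ : {ζ : g.fiber η // δη ζ = r ∧ (g.fiberι η ζ) ⤳ x₀} =>
        g.fiberι η ζ.1) ζ) := funext (fun ζ => (hΦ ζ.1).symm)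
  rw [h1, ← finsum_mem_range (f := ΦX) hinj]
  apply finsum_mem_congr _ (fun _ _ => rfl)
  ext ξ
  constructor
  · rintro ⟨ζ, rfl⟩
    refine ⟨Groth.Agent.FibRes2H8.fiberι_mem g η ζ.1, ?_, ζ.2.2⟩
    rw [← delta_eq_trN g η δη hδη ζ.1]
    exact ζ.2.1
  · rintro ⟨h1, h2, h3⟩
    have hmem : ξ ∈ Set.range (g.fiberι η) := by rw [g.range_fiberι η]; exact h1
    obtain ⟨ζ, rfl⟩ := hmem
    exact ⟨⟨ζ, by rw [delta_eq_trN g η δη hδη ζ]; exact h2, h3⟩, rfl⟩

end SpFun

section Main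

variable {X' X Y : Scheme.{u}} [IsAffine Y] (b : X ⟶ Y) (f : X' ⟶ X)
  {y y' : Y} {π : Γ(Y, ⊤)} (hD : DVRBase y y' π)

set_option maxHeartbeats 1000000 in
include hD in
/-- **S1915 over an abstract one-dimensional base.** -/
theorem main1915_aux [Flat f] [LocallyOfFiniteType b] [LocallyOfFiniteType f]
    [IsLocallyNoetherian Y] [IsDomain Γ(Y, ⊤)] (hπ : π ≠ 0)
    (hcat : CAlg.IsUniversallyCatenary (Y.presheaf.stalk y))
    (e : ℕ) (he : Cyc.HasRelDim f e)
    (fη : (f ≫ b).fiber y' ⟶ b.fiber y')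
    (hfη : fη ≫ b.fiberι y' = (f ≫ b).fiberι y' ≫ f)
    (fs : (f ≫ b).fiber y ⟶ b.fiber y)
    (hfs : fs ≫ b.fiberι y = (f ≫ b).fiberι y ≫ f)
    (δX'η : (f ≫ b).fiber y' → ℤ) (δX's : (f ≫ b).fiber y → ℤ)
    (δXη : b.fiber y' → ℤ) (δXs : b.fiber y → ℤ)
    (h1 : Cyc.DeltaCompat ((f ≫ b).fiberToSpecResidueField y') δX'η (fun _ => 0))
    (h2 : Cyc.DeltaCompat ((f ≫ b).fiberToSpecResidueField y) δX's (fun _ => 0))
    (h3 : Cyc.DeltaCompat (b.fiberToSpecResidueField y') δXη (fun _ => 0))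
    (h4 : Cyc.DeltaCompat (b.fiberToSpecResidueField y) δXs (fun _ => 0))
    (r : ℤ) (α : b.fiber y' → ℤ)
    (hαfin : ∀ x : X, {ζ : b.fiber y' | α ζ ≠ 0 ∧ b.fiberι y' ζ ⤳ x}.Finite) :
    Cyc.spFun (f ≫ b) y' y δX'η δX's (r + e) (Cyc.pullFun fη δX'η δXη e α) =
      Cyc.pullFun fs δX's δXs e (Cyc.spFun b y' y δXη δXs r α) := by
  classical
  funext x's
  set x' : X' := (f ≫ b).fiberι y x's with hx'_def
  have hx'y : (f ≫ b) x' = y := Groth.Agent.FibRes2H8.fiberι_mem (f ≫ b) y x's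
  have hfsx : b.fiberι y (fs x's) = f x' := by
    have := congrArg (fun g : (f ≫ b).fiber y ⟶ X => g x's) hfs
    simpa only [Scheme.Hom.comp_apply] using this
  have hfηx : ∀ ζ : (f ≫ b).fiber y', b.fiberι y' (fη ζ) = f ((f ≫ b).fiberι y' ζ) := by
    intro ζ
    have := congrArg (fun g : (f ≫ b).fiber y' ⟶ X => g ζ) hfη
    simpa only [Scheme.Hom.comp_apply] using this
  have hadd : ∀ z : X', (trN (f ≫ b) z : ℤ) = trN b (f z) + trN f z := by
    intro z
    have := trN_add f b z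
    exact_mod_cast this
  have hδ1 : ∀ ζ, δX'η ζ = (trN (f ≫ b) ((f ≫ b).fiberι y' ζ) : ℤ) :=
    delta_eq_trN (f ≫ b) y' δX'η h1
  have hδ2 : δX's x's = (trN (f ≫ b) x' : ℤ) := delta_eq_trN (f ≫ b) y δX's h2 x's
  have hδ3 : ∀ ζ, δXη ζ = (trN b (b.fiberι y' ζ) : ℤ) := delta_eq_trN b y' δXη h3
  have hδ4 : δXs (fs x's) = (trN b (f x') : ℤ) := by
    rw [delta_eq_trN b y δXs h4 (fs x's), hfsx]
  have hιinj : Function.Injective (b.fiberι y') := (b.fiberι y').isEmbedding.injective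
  set αX : X → ℤ := Function.extend (b.fiberι y') α 0 with hαX
  have hαX' : ∀ ζ, αX (b.fiberι y' ζ) = α ζ := fun ζ => hιinj.extend_apply α 0 ζ
  rw [spFun_eq, pullFun_eq, spFun_eq]
  by_cases hr : δX's x's = r + e
  · rw [if_pos hr]
    by_cases hxr : δXs (fs x's) = r
    · -- the main case
      have hcond : δX's x's = δXs (fs x's) + e := by rw [hr, hxr]
      rw [if_pos hcond, if_pos hxr, hfsx]
      rw [fibre_finsum (f ≫ b) y' δX'η h1 (r + e) x'
        (fun ζ => Cyc.pullFun fη δX'η δXη e α ζ *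
          (((smult (f ≫ b) ((f ≫ b).fiberι y' ζ) x').toNat : ℕ) : ℤ))
        (fun ζ' => (if (trN (f ≫ b) ζ' : ℤ) = trN b (f ζ') + e then
          αX (f ζ') * (((pmult f ζ').toNat : ℕ) : ℤ) else 0) *
          (((smult (f ≫ b) ζ' x').toNat : ℕ) : ℤ))
        (fun ζ => by
          simp only []
          rw [pullFun_eq, hδ1 ζ, hδ3 (fη ζ), hfηx ζ, ← hαX' (fη ζ), hfηx ζ,
            pmult_fibre_map f b y' fη hfη ζ])]
      rw [fibre_finsum b y' δXη h3 r (f x')
        (fun ζ => α ζ * (((smult b (b.fiberι y' ζ) (f x')).toNat : ℕ) : ℤ))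
        (fun ξ => αX ξ * (((smult b ξ (f x')).toNat : ℕ) : ℤ))
        (fun ζ => by simp only []; rw [hαX' ζ])]
      rw [pmult_fibre_map f b y fs hfs x's]
      have hfin : {ζ : X | αX ζ ≠ 0 ∧ b ζ = y' ∧ ζ ⤳ f x'}.Finite := by
        apply ((hαfin (f x')).image (b.fiberι y')).subset
        rintro ζ ⟨hα0, hζy, hζx⟩
        have hmem : ζ ∈ Set.range (b.fiberι y') := by rw [b.range_fiberι y']; exact hζy
        obtain ⟨ζη, rfl⟩ := hmem
        exact ⟨ζη, ⟨by rw [← hαX' ζη]; exact hα0, hζx⟩, rfl⟩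
      exact pointwise_sum b f hD hπ hcat e he r αX x' hx'y (by rw [← hδ2]; exact hr)
        (by rw [← hδ4]; exact hxr) hfin
    · -- the right side vanishes, and so does every term on the left
      have hR : (if δX's x's = δXs (fs x's) + e then
          (if δXs (fs x's) = r then
            ∑ᶠ ζ : {ζ : b.fiber y' // δXη ζ = r ∧ (b.fiberι y' ζ) ⤳ (b.fiberι y (fs x's))},
              α ζ.1 * (((smult b (b.fiberι y' ζ.1) (b.fiberι y (fs x's))).toNat : ℕ) : ℤ)
            else 0) * (((pmult fs x's).toNat : ℕ) : ℤ) else 0) = 0 := by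
        by_cases hcond : δX's x's = δXs (fs x's) + e
        · rw [if_pos hcond, if_neg hxr, zero_mul]
        · rw [if_neg hcond]
      rw [hR]
      apply finsum_eq_zero_of_forall_eq_zero
      intro ζ
      rw [pullFun_eq]
      by_cases hc : δX'η ζ.1 = δXη (fη ζ.1) + e
      · exfalso
        apply hxr
        have e1 := ζ.2.1
        rw [hδ1 ζ.1] at e1 hc
        rw [hδ3 (fη ζ.1), hfηx ζ.1] at hc
        set ζ' : X' := (f ≫ b).fiberι y' ζ.1 with hζ'
        have hζ'y : b (f ζ') = y' := Groth.Agent.FibRes2H8.fiberι_mem (f ≫ b) y' ζ.1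
        have hsp : f ζ' ⤳ f x' := ζ.2.2.map f.continuous
        have e2 := (trN_le b hD hπ hcat (f ζ') (f x') hsp hζ'y hx'y).1
        have e3 := trN_le_relDim f e he x'
        have e4 := hadd x'
        rw [hδ2] at hr
        rw [hδ4]
        omega
      · rw [if_neg hc, zero_mul]
  · rw [if_neg hr]
    by_cases hcond : δX's x's = δXs (fs x's) + e
    · rw [if_pos hcond]
      by_cases hxr : δXs (fs x's) = r
      · exfalso
        apply hr
        rw [hcond, hxr]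
      · rw [if_neg hxr, zero_mul]
    · rw [if_neg hcond]

end Main

section Fin

/-- finitely many points of the support of a cycle on a fibre specialize to a given point -/
theorem finite_support_specializes {X Y : Scheme.{u}} [IsAffine Y] (b : X ⟶ Y) (y' : Y)
    (α : AlgebraicCycle (b.fiber y') ℤ) (x : X) :
    {ζ : b.fiber y' | α ζ ≠ 0 ∧ b.fiberι y' ζ ⤳ x}.Finite := by
  obtain ⟨U, hU0, hxU, -⟩ := (Opens.isBasis_iff_nbhd.mp X.isBasis_affineOpens)
    (show x ∈ (⊤ : X.Opens) from trivial)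
  have hU : IsAffineOpen U := hU0
  have hW : IsAffineOpen ((b.fiberι y') ⁻¹ᵁ U) :=
    (Groth.Agent.Lib.EtNbhdH8.fiber_affine_fracSurj b y' (isAffineOpen_top Y) trivial hU
      (fun _ _ => trivial)).1
  have hK : IsCompact (((b.fiberι y') ⁻¹ᵁ U : (b.fiber y').Opens) : Set (b.fiber y')) :=
    hW.isCompact
  have hfin := (Function.locallyFinsupp.locallyFiniteSupport α).finite_inter_support_of_isCompact hK
  apply hfin.subset
  rintro ζ ⟨h1, h2⟩
  exact ⟨h2.mem_open U.2 hxU, h1⟩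

end Fin

end Groth.Agent.Lib.CycFPH5
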