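import Mathlib

/-!
# Stalks of a cofiltered limit of schemes with affine transition maps (helper7)

* `exists_stalkMap_eq`: every element of a stalk of the limit comes from a finite stage.
* `exists_map_maximalIdeal_eq`: if the limit is locally Noetherian, the maximal ideal of the stalk
  of the limit at `s` is generated by the maximal ideal of the stalk at a finite stage
  (and then at all later stages).
-/

set_option autoImplicit false
set_option backward.isDefEq.respectTransparency false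
universe u
open CategoryTheory CategoryTheory.Limits AlgebraicGeometry

namespace Groth.Agent.Lib.LimStalkH7

variable {I : Type u} [SmallCategory I] [IsCofiltered I]
  (D : I ⥤ Scheme.{u}) (c : Cone D) (hc : IsLimit c)
  [∀ (i j : I) (f : i ⟶ j), IsAffineHom (D.map f)]

include hc in
/-- affine case -/
theorem exists_stalkMap_eq_of_isAffine [∀ i, IsAffine (D.obj i)] [IsAffine c.pt]
    (s : c.pt) (a : c.pt.presheaf.stalk s) :
    ∃ (i : I) (b : (D.obj i).presheaf.stalk ((c.π.app i) s)),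
      ((c.π.app i).stalkMap s).hom b = a := by
  have hU : IsAffineOpen (⊤ : c.pt.Opens) := isAffineOpen_top c.pt
  letI := c.pt.presheaf.algebra_section_stalk (U := ⊤) ⟨s, trivial⟩
  haveI := hU.isLocalization_stalk ⟨s, trivial⟩
  obtain ⟨⟨b', t'⟩, hbt⟩ :=
    IsLocalization.surj (hU.primeIdealOf ⟨s, trivial⟩).asIdeal.primeCompl a
  have hunit : IsUnit (algebraMap Γ(c.pt, ⊤) (c.pt.presheaf.stalk s) t'.1) :=
    IsLocalization.map_units (M := (hU.primeIdealOf ⟨s, trivial⟩).asIdeal.primeCompl)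
      (c.pt.presheaf.stalk s) t'
  obtain ⟨j₁, b₁, hb₁⟩ := exists_appTop_π_eq_of_isAffine_of_isLimit D c hc b'
  obtain ⟨j₂, t₂, ht₂⟩ := exists_appTop_π_eq_of_isAffine_of_isLimit D c hc t'.1
  let j := IsCofiltered.min j₁ j₂
  let u₁ : j ⟶ j₁ := IsCofiltered.minToLeft j₁ j₂
  let u₂ : j ⟶ j₂ := IsCofiltered.minToRight j₁ j₂
  have hb : (c.π.app j).appTop ((D.map u₁).appTop b₁) = b' := by
    rw [← hb₁, ← c.w u₁, Scheme.Hom.comp_appTop]
    rfl
  have ht : (c.π.app j).appTop ((D.map u₂).appTop t₂) = t'.1 := by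
    rw [← ht₂, ← c.w u₂, Scheme.Hom.comp_appTop]
    rfl
  obtain ⟨β, hβ⟩ : ∃ β : (D.obj j).presheaf.stalk ((c.π.app j) s),
      ((c.π.app j).stalkMap s).hom β = algebraMap Γ(c.pt, ⊤) (c.pt.presheaf.stalk s) b' := by
    refine ⟨(D.obj j).presheaf.germ ⊤ (c.π.app j s) trivial ((D.map u₁).appTop b₁), ?_⟩
    rw [← hb]
    exact Scheme.Hom.germ_stalkMap_apply (c.π.app j) ⊤ s trivial _
  obtain ⟨τ, hτ⟩ : ∃ τ : (D.obj j).presheaf.stalk ((c.π.app j) s),
      ((c.π.app j).stalkMap s).hom τ = algebraMap Γ(c.pt, ⊤) (c.pt.presheaf.stalk s) t'.1 := by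
    refine ⟨(D.obj j).presheaf.germ ⊤ (c.π.app j s) trivial ((D.map u₂).appTop t₂), ?_⟩
    rw [← ht]
    exact Scheme.Hom.germ_stalkMap_apply (c.π.app j) ⊤ s trivial _
  have hτu : IsUnit τ := by
    have : IsUnit (((c.π.app j).stalkMap s).hom τ) := by rw [hτ]; exact hunit
    exact isUnit_of_map_unit ((c.π.app j).stalkMap s).hom τ this
  obtain ⟨τu, hτu'⟩ := hτu
  refine ⟨j, β * ↑τu⁻¹, ?_⟩
  have h1 : ((c.π.app j).stalkMap s).hom (β * ↑τu⁻¹) * ((c.π.app j).stalkMap s).hom τ =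
      ((c.π.app j).stalkMap s).hom β := by
    rw [← map_mul, ← hτu', mul_assoc, Units.inv_mul, mul_one]
  rw [hτ, hβ] at h1
  exact hunit.mul_right_cancel (h1.trans hbt.symm)

include hc in
theorem exists_stalkMap_eq (s : c.pt) (a : c.pt.presheaf.stalk s) :
    ∃ (i : I) (b : (D.obj i).presheaf.stalk ((c.π.app i) s)),
      ((c.π.app i).stalkMap s).hom b = a := by
  obtain ⟨i₀⟩ := IsCofiltered.nonempty (C := I)
  obtain ⟨_, ⟨V, hV : IsAffineOpen V, rfl⟩, hsV, -⟩ :=
    (D.obj i₀).isBasis_affineOpens.exists_subset_of_mem_open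
      (Set.mem_univ ((c.π.app i₀) s)) isOpen_univ
  haveI : ∀ j, IsAffine ((opensDiagram D i₀ V).obj j) := fun j => hV.preimage (D.map j.hom)
  haveI : IsAffineHom (c.π.app i₀) := isAffineHom_π_app D c hc i₀
  haveI : IsAffine (opensCone D c i₀ V).pt := hV.preimage (c.π.app i₀)
  let W' : c.pt.Opens := c.π.app i₀ ⁻¹ᵁ V
  let s' : W'.toScheme := ⟨s, hsV⟩
  let a' : W'.toScheme.presheaf.stalk s' := (W'.ι.stalkMap s').hom a
  obtain ⟨j, β, hβ⟩ := exists_stalkMap_eq_of_isAffine (opensDiagram D i₀ V)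
    (opensCone D c i₀ V) (isLimitOpensCone D c hc i₀ V) s' a'
  let ιj : (opensDiagram D i₀ V).obj j ⟶ D.obj j.left := (D.map j.hom ⁻¹ᵁ V).ι
  have e : (opensCone D c i₀ V).π.app j ≫ ιj = W'.ι ≫ c.π.app j.left := by
    simp [opensCone, ιj, W']
  let y : (opensDiagram D i₀ V).obj j := ((opensCone D c i₀ V).π.app j) s'
  let b₀ : (D.obj j.left).presheaf.stalk (ιj y) := (inv (ιj.stalkMap y)).hom β
  have hb₀ : (ιj.stalkMap y).hom b₀ = β := by
    show ((inv (ιj.stalkMap y)) ≫ ιj.stalkMap y).hom β = β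
    rw [IsIso.inv_hom_id]
    rfl
  have hpt : ((opensCone D c i₀ V).π.app j ≫ ιj) s' = (W'.ι ≫ c.π.app j.left) s' :=
    congr($e s')
  refine ⟨j.left, ((D.obj j.left).presheaf.stalkCongr (.of_eq hpt)).hom b₀, ?_⟩
  have hinj : Function.Injective (W'.ι.stalkMap s').hom :=
    (ConcreteCategory.bijective_of_isIso (W'.ι.stalkMap s')).1
  apply hinj
  have h1 := Scheme.Hom.stalkMap_congr_hom _ _ e s'
  rw [Scheme.Hom.stalkMap_comp, Scheme.Hom.stalkMap_comp] at h1
  have h2 := congr($(h1).hom b₀)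
  simp only [CommRingCat.hom_comp, RingHom.coe_comp, Function.comp_apply] at h2
  erw [hb₀, hβ] at h2
  exact h2.symm

/-- The stalk map at stage `i` factors through the stalk map at a later stage `j`. -/
theorem stalkMap_factor {i j : I} (f : j ⟶ i) (s : c.pt) :
    ∃ φ : (D.obj i).presheaf.stalk (c.π.app i s) →+* (D.obj j).presheaf.stalk (c.π.app j s),
      IsLocalHom φ ∧ ((c.π.app i).stalkMap s).hom = ((c.π.app j).stalkMap s).hom.comp φ := by
  have e : c.π.app i = c.π.app j ≫ D.map f := (c.w f).symm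
  have h1 := Scheme.Hom.stalkMap_congr_hom _ _ e s
  rw [Scheme.Hom.stalkMap_comp] at h1
  have hpt : (c.π.app i) s = (c.π.app j ≫ D.map f) s := congr($e s)
  haveI : IsLocalHom ((D.obj i).presheaf.stalkCongr (.of_eq hpt)).hom.hom :=
    isLocalHom_of_iso _
  refine ⟨(((D.obj i).presheaf.stalkCongr (.of_eq hpt)).hom ≫
    (D.map f).stalkMap (c.π.app j s)).hom, CommRingCat.isLocalHom_comp _ _, ?_⟩
  rw [h1]
  rfl

theorem map_maximalIdeal_mono {i j : I} (f : j ⟶ i) (s : c.pt) :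
    Ideal.map ((c.π.app i).stalkMap s).hom
        (IsLocalRing.maximalIdeal ((D.obj i).presheaf.stalk (c.π.app i s))) ≤
      Ideal.map ((c.π.app j).stalkMap s).hom
        (IsLocalRing.maximalIdeal ((D.obj j).presheaf.stalk (c.π.app j s))) := by
  obtain ⟨φ, hφ, h⟩ := stalkMap_factor D c f s
  have hle : Ideal.map φ (IsLocalRing.maximalIdeal _) ≤ IsLocalRing.maximalIdeal _ :=
    ((IsLocalRing.local_hom_TFAE φ).out 0 2).mp hφ
  rw [h, ← Ideal.map_map]
  exact Ideal.map_mono hle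

include hc in
theorem exists_map_maximalIdeal_eq [IsLocallyNoetherian c.pt] (s : c.pt) :
    ∃ i : I, ∀ (j : I) (_ : j ⟶ i),
      Ideal.map ((c.π.app j).stalkMap s).hom
          (IsLocalRing.maximalIdeal ((D.obj j).presheaf.stalk (c.π.app j s))) =
        IsLocalRing.maximalIdeal (c.pt.presheaf.stalk s) := by
  classical
  have hle : ∀ j : I, Ideal.map ((c.π.app j).stalkMap s).hom
      (IsLocalRing.maximalIdeal ((D.obj j).presheaf.stalk (c.π.app j s))) ≤
      IsLocalRing.maximalIdeal (c.pt.presheaf.stalk s) := fun j => by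
    have hloc : IsLocalHom ((c.π.app j).stalkMap s).hom := inferInstance
    exact ((IsLocalRing.local_hom_TFAE ((c.π.app j).stalkMap s).hom).out 0 2).mp hloc
  obtain ⟨G, hG⟩ : (IsLocalRing.maximalIdeal (c.pt.presheaf.stalk s)).FG :=
    IsNoetherian.noetherian _
  have key : ∀ g ∈ G, ∃ i : I, g ∈ Ideal.map ((c.π.app i).stalkMap s).hom
      (IsLocalRing.maximalIdeal ((D.obj i).presheaf.stalk (c.π.app i s))) := by
    intro g hg
    obtain ⟨i, b, hb⟩ := exists_stalkMap_eq D c hc s g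
    refine ⟨i, ?_⟩
    rw [← hb]
    apply Ideal.mem_map_of_mem
    rw [IsLocalRing.mem_maximalIdeal, mem_nonunits_iff]
    intro hu
    have hgm : g ∈ IsLocalRing.maximalIdeal (c.pt.presheaf.stalk s) := by
      rw [← hG]
      exact Ideal.subset_span hg
    rw [IsLocalRing.mem_maximalIdeal, mem_nonunits_iff] at hgm
    exact hgm (hb ▸ hu.map ((c.π.app i).stalkMap s).hom)
  haveI : Nonempty I := IsCofiltered.nonempty
  choose! ι hι using key
  obtain ⟨i, hi⟩ := IsCofiltered.inf_objs_exists (G.image ι)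
  refine ⟨i, fun j f => le_antisymm (hle j) ?_⟩
  rw [← hG, Ideal.span_le]
  intro g hg
  have f' : i ⟶ ι g := (hi (Finset.mem_image_of_mem ι hg)).some
  exact map_maximalIdeal_mono D c (f ≫ f') s (hι g hg)

end Groth.Agent.Lib.LimStalkH7
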