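import Mathlib
import Groth.Prelude.Def_Cyc
import Groth.Agent.Lib.LimStalk_helper7

/-!
# Cycles on a cofiltered limit of schemes with affine flat transition maps (helper7)
-/

set_option autoImplicit false
set_option backward.isDefEq.respectTransparency false
universe u
open CategoryTheory CategoryTheory.Limits AlgebraicGeometry

namespace Groth.Agent.Lib.CycLimH7

/-! ## Dictionary: generizations of `x` inside the fibre of `f` through `x` -/

theorem map_fromSpecStalk_eq_iff {X Y : Scheme.{u}} (f : X ⟶ Y) (x : X)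
    (q : Spec (X.presheaf.stalk x)) :
    f (X.fromSpecStalk x q) = f x ↔
      Ideal.map (f.stalkMap x).hom (IsLocalRing.maximalIdeal (Y.presheaf.stalk (f x))) ≤
        q.asIdeal := by
  have h1 : f (X.fromSpecStalk x q) = Y.fromSpecStalk (f x) (Spec.map (f.stalkMap x) q) := by
    have h2 := congr($(Scheme.SpecMap_stalkMap_fromSpecStalk (f := f) (x := x)) q)
    exact h2.symm
  rw [h1]
  have hinj : Function.Injective (Y.fromSpecStalk (f x)) :=
    (Y.fromSpecStalk (f x)).isEmbedding.injective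
  have hcomap : (Spec.map (f.stalkMap x) q).asIdeal = Ideal.comap (f.stalkMap x).hom q.asIdeal :=
    rfl
  constructor
  · intro h
    have h3 : Spec.map (f.stalkMap x) q = IsLocalRing.closedPoint _ :=
      hinj (h.trans Scheme.fromSpecStalk_closedPoint.symm)
    have h4 : (Spec.map (f.stalkMap x) q).asIdeal = IsLocalRing.maximalIdeal _ := by
      rw [h3]; rfl
    rw [Ideal.map_le_iff_le_comap, ← hcomap, h4]
  · intro h
    rw [Ideal.map_le_iff_le_comap, ← hcomap] at h
    have h3 : Spec.map (f.stalkMap x) q = IsLocalRing.closedPoint _ := by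
      apply PrimeSpectrum.ext
      exact ((IsLocalRing.maximalIdeal.isMaximal _).eq_of_le
        (Spec.map (f.stalkMap x) q).isPrime.ne_top h).symm
    rw [h3]
    exact Scheme.fromSpecStalk_closedPoint

theorem fromSpecStalk_specializes {X : Scheme.{u}} (x : X) (q : Spec (X.presheaf.stalk x)) :
    X.fromSpecStalk x q ⤳ x := by
  have : X.fromSpecStalk x q ∈ Set.range (X.fromSpecStalk x) := ⟨q, rfl⟩
  rw [Scheme.range_fromSpecStalk] at this
  exact this

theorem map_maximalIdeal_le {X Y : Scheme.{u}} (f : X ⟶ Y) (x : X) :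
    Ideal.map (f.stalkMap x).hom (IsLocalRing.maximalIdeal (Y.presheaf.stalk (f x))) ≤
      IsLocalRing.maximalIdeal (X.presheaf.stalk x) := by
  have hloc : IsLocalHom (f.stalkMap x).hom := inferInstance
  exact ((IsLocalRing.local_hom_TFAE (f.stalkMap x).hom).out 0 2).mp hloc

/-- Every point has a generization in its fibre which is generic in the fibre. -/
theorem exists_generic_in_fiber {X Y : Scheme.{u}} (f : X ⟶ Y) (x : X) :
    ∃ x' : X, x' ⤳ x ∧ f x' = f x ∧ ∀ z : X, f z = f x' → z ⤳ x' → z = x' := by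
  obtain ⟨p, hp, -⟩ := Ideal.exists_minimalPrimes_le (map_maximalIdeal_le f x)
  have hp' := hp
  rw [Ideal.minimalPrimes, Set.mem_setOf_eq] at hp'
  let q : Spec (X.presheaf.stalk x) := ⟨p, hp'.1.1⟩
  have hfq : f (X.fromSpecStalk x q) = f x := (map_fromSpecStalk_eq_iff f x q).2 hp'.1.2
  refine ⟨X.fromSpecStalk x q, fromSpecStalk_specializes x q, hfq, ?_⟩
  intro z hz hzq
  have hzx : z ⤳ x := hzq.trans (fromSpecStalk_specializes x q)
  obtain ⟨q', rfl⟩ : z ∈ Set.range (X.fromSpecStalk x) := by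
    rw [Scheme.range_fromSpecStalk]; exact hzx
  have h1 : Ideal.map (f.stalkMap x).hom (IsLocalRing.maximalIdeal (Y.presheaf.stalk (f x))) ≤
      q'.asIdeal := (map_fromSpecStalk_eq_iff f x q').1 (hz.trans hfq)
  have h2 : q' ⤳ q := (X.fromSpecStalk x).isEmbedding.isInducing.specializes_iff.mp hzq
  have h3 : q'.asIdeal ≤ q.asIdeal := (PrimeSpectrum.le_iff_specializes q' q).mpr h2
  have h4 : q.asIdeal ≤ q'.asIdeal := hp'.2 ⟨q'.isPrime, h1⟩ h3
  have : q' = q := PrimeSpectrum.ext (le_antisymm h3 h4)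
  rw [this]

/-- At a point generic in its fibre (source locally Noetherian), the local ring of the fibre has
finite nonzero length. -/
theorem length_toNat_ne_zero {X Y : Scheme.{u}} [IsLocallyNoetherian X] (f : X ⟶ Y) (x : X)
    (hx : ∀ z : X, f z = f x → z ⤳ x → z = x) :
    (Module.length (X.presheaf.stalk x) (X.presheaf.stalk x ⧸ Ideal.map (f.stalkMap x).hom
        (IsLocalRing.maximalIdeal (Y.presheaf.stalk (f x))))).toNat ≠ 0 := by
  obtain ⟨I, hI⟩ : ∃ I : Ideal (X.presheaf.stalk x), I = Ideal.map (f.stalkMap x).hom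
        (IsLocalRing.maximalIdeal (Y.presheaf.stalk (f x))) := ⟨_, rfl⟩
  rw [← hI]
  have hIle : I ≤ IsLocalRing.maximalIdeal (X.presheaf.stalk x) := hI ▸ map_maximalIdeal_le f x
  have hmin : IsLocalRing.maximalIdeal (X.presheaf.stalk x) ∈ I.minimalPrimes := by
    rw [Ideal.minimalPrimes, Set.mem_setOf_eq]
    refine ⟨⟨inferInstance, hIle⟩, ?_⟩
    rintro p ⟨hp, hIp⟩ -
    let q : Spec (X.presheaf.stalk x) := ⟨p, hp⟩
    have h1 : f (X.fromSpecStalk x q) = f x := (map_fromSpecStalk_eq_iff f x q).2 (hI ▸ hIp)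
    have h3 := hx _ h1 (fromSpecStalk_specializes x q)
    have h4 : q = IsLocalRing.closedPoint (X.presheaf.stalk x) :=
      (X.fromSpecStalk x).isEmbedding.injective (h3.trans Scheme.fromSpecStalk_closedPoint.symm)
    have h5 : p = IsLocalRing.maximalIdeal (X.presheaf.stalk x) :=
      congrArg PrimeSpectrum.asIdeal h4
    exact h5.ge
  haveI : IsArtinianRing (X.presheaf.stalk x ⧸ I) :=
    IsLocalRing.quotient_artinian_of_mem_minimalPrimes_of_isLocalRing I hmin
  haveI : IsArtinian (X.presheaf.stalk x) (X.presheaf.stalk x ⧸ I) :=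
    isArtinian_of_surjective_algebraMap (R := X.presheaf.stalk x ⧸ I)
      (S := X.presheaf.stalk x) Ideal.Quotient.mk_surjective
  have hne : Module.length (X.presheaf.stalk x) (X.presheaf.stalk x ⧸ I) ≠ ⊤ :=
    Module.length_ne_top
  have hItop : I ≠ ⊤ := fun h =>
    (IsLocalRing.maximalIdeal.isMaximal (X.presheaf.stalk x)).ne_top (top_le_iff.mp (h ▸ hIle))
  haveI : Nontrivial (X.presheaf.stalk x ⧸ I) := Ideal.Quotient.nontrivial_iff.mpr hItop
  have hpos : 0 < Module.length (X.presheaf.stalk x) (X.presheaf.stalk x ⧸ I) :=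
    Module.length_pos
  intro h0
  rcases ENat.toNat_eq_zero.mp h0 with h | h
  · exact hpos.ne' h
  · exact hne h

theorem length_quot_eq_one {R : Type*} [CommRing R] [IsLocalRing R] (J : Ideal R)
    (hJ : J = IsLocalRing.maximalIdeal R) : Module.length R (R ⧸ J) = 1 := by
  subst hJ
  exact Module.length_eq_one_iff.mpr
    (isSimpleModule_iff_isCoatom.mpr (Ideal.isMaximal_def.mp inferInstance))

theorem finite_support {X : Scheme.{u}} [CompactSpace X] (α : AlgebraicCycle X ℤ) :
    (Function.support ⇑α).Finite := by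
  have h := Function.locallyFinsupp.locallyFiniteSupport α
  have := h.finite_inter_support_of_isCompact isCompact_univ
  simpa using this

/-! ## Limits -/

section Lim

variable {J : Type u} [SmallCategory J] [IsCofiltered J]
  (D : J ⥤ Scheme.{u}) (c : Cone D) (hc : IsLimit c)
  [∀ (i j : J) (f : i ⟶ j), IsAffineHom (D.map f)]

theorem map_π_apply {i j : J} (f : j ⟶ i) (z : c.pt) :
    D.map f (c.π.app j z) = c.π.app i z := by
  exact (Scheme.Hom.comp_apply _ _ _).symm.trans congr($(c.w f) z)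

include hc in
/-- A point of a stage which lifts to all later stages lifts to the limit (flat projection). -/
theorem exists_preimage_of_forall [∀ i, CompactSpace (D.obj i)] {i : J} [Flat (c.π.app i)]
    (y : D.obj i) (h : ∀ (j : J) (f : j ⟶ i), ∃ z : D.obj j, D.map f z = y) :
    ∃ x : c.pt, c.π.app i x = y := by
  obtain ⟨s, hs⟩ := exists_mem_of_isClosed_of_nonempty' D c hc
    (fun j f => (D.map f) ⁻¹' (closure {y}))
    (fun j f => isClosed_closure.preimage (D.map f).continuous)
    (fun j f => by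
      obtain ⟨z, hz⟩ := h j f
      exact ⟨z, by simp only [Set.mem_preimage, hz]; exact subset_closure rfl⟩)
    (fun j f => (isClosed_closure.preimage (D.map f).continuous).isCompact)
    (fun i₁ i₂ g f z hz => by
      simp only [Set.mem_preimage] at hz ⊢
      rwa [Functor.map_comp, Scheme.Hom.comp_apply] at hz)
  have h1 : c.π.app i s ∈ closure {y} := by
    have := hs i (𝟙 i)
    simpa using this
  have h2 : y ⤳ c.π.app i s := specializes_iff_mem_closure.mpr h1
  obtain ⟨s', -, hs'⟩ := (Flat.generalizingMap (c.π.app i)) h2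
  exact ⟨s', hs'⟩

include hc in
/-- For `t` in a locally Noetherian limit, the closure of `t` is the preimage of the closure of
its image at all sufficiently late stages. -/
theorem exists_preimage_closure_eq [∀ i, CompactSpace (D.obj i)] [IsLocallyNoetherian c.pt]
    (t : c.pt) :
    ∃ i : J, ∀ (j : J) (_ : j ⟶ i),
      (c.π.app j) ⁻¹' (closure {c.π.app j t}) = closure {t} := by
  haveI : CompactSpace c.pt := Scheme.compactSpace_of_isLimit D c hc
  haveI : IsNoetherian c.pt :=
    { toIsLocallyNoetherian := inferInstance, toCompactSpace := inferInstance }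
  haveI : TopologicalSpace.NoetherianSpace c.pt := inferInstance
  let C : J → TopologicalSpace.Closeds c.pt := fun j =>
    ⟨(c.π.app j) ⁻¹' (closure {c.π.app j t}), isClosed_closure.preimage (c.π.app j).continuous⟩
  have hmem : ∀ (j : J) (x : c.pt), x ∈ C j ↔ c.π.app j t ⤳ c.π.app j x := fun j x => by
    rw [specializes_iff_mem_closure]; rfl
  have hmono : ∀ {i j : J} (f : j ⟶ i), C j ≤ C i := by
    intro i j f x hx
    rw [hmem] at hx ⊢
    have h2 := hx.map (D.map f).continuous
    rw [map_π_apply, map_π_apply] at h2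
    exact h2
  have hsub : ∀ j, closure {t} ⊆ (C j : Set c.pt) := by
    intro j x hx
    show x ∈ C j
    rw [hmem]
    exact (specializes_iff_mem_closure.mpr hx).map (c.π.app j).continuous
  obtain ⟨i₀⟩ := IsCofiltered.nonempty (C := J)
  obtain ⟨m, ⟨i, rfl⟩, hmin⟩ := WellFounded.has_min
    (wellFounded_lt (α := TopologicalSpace.Closeds c.pt)) (Set.range C) ⟨_, i₀, rfl⟩
  have hle : ∀ j, C i ≤ C j := by
    intro j
    have h1 : C (IsCofiltered.min i j) ≤ C i := hmono (IsCofiltered.minToLeft i j)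
    have h2 : C (IsCofiltered.min i j) ≤ C j := hmono (IsCofiltered.minToRight i j)
    have h3 : C (IsCofiltered.min i j) = C i := by
      by_contra hne
      exact hmin _ ⟨_, rfl⟩ (lt_of_le_of_ne h1 hne)
    exact h3 ▸ h2
  refine ⟨i, fun j f => Set.Subset.antisymm ?_ (hsub j)⟩
  intro x hx
  have hxi : x ∈ C i := hmono f hx
  by_contra hxt
  have hopen : IsOpen (closure {t})ᶜ := isClosed_closure.isOpen_compl
  obtain ⟨U', ⟨j', V, hV, rfl⟩, hxV, hVsub⟩ := TopologicalSpace.Opens.isBasis_iff_nbhd.mp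
    (isBasis_preimage_isAffineOpen D c hc) (U := ⟨(closure {t})ᶜ, hopen⟩) hxt
  have hxj' : c.π.app j' t ⤳ c.π.app j' x := (hmem j' x).mp (hle j' hxi)
  have htV : c.π.app j' t ∈ V := hxj'.mem_open V.2 hxV
  exact hVsub (show t ∈ c.π.app j' ⁻¹ᵁ V from htV) (subset_closure rfl)

end Lim

/-! ## Main theorems -/

section Main

variable (I : Type u) [Preorder I] [IsDirected I (fun a b => a ≤ b)] [Nonempty I]
  (D : Iᵒᵖ ⥤ Scheme.{u}) (c : Cone D) (hc : IsLimit c)

include hc in
theorem main6496 (haff : ∀ (i j : Iᵒᵖ) (f : i ⟶ j), IsAffineHom (D.map f))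
    (hqc : ∀ i, CompactSpace ↥(D.obj i)) (δ : (i : Iᵒᵖ) → ↥(D.obj i) → ℤ) (δ' : ↥c.pt → ℤ)
    (hset' : Cyc.IsSetup c.pt δ') (hflat' : ∀ i, Flat (c.π.app i))
    (hshift' : ∀ (i : Iᵒᵖ) (x : ↥c.pt),
      (∀ y, c.π.app i y = c.π.app i x → y ⤳ x → y = x) → δ' x = δ i (c.π.app i x))
    (i : Iᵒᵖ) (α : AlgebraicCycle (D.obj i) ℤ)
    (h0 : Cyc.pullFun (c.π.app i) δ' (δ i) 0 ⇑α = 0) :
    ∃ (j : Iᵒᵖ) (f : j ⟶ i), Cyc.pullFun (D.map f) (δ j) (δ i) 0 ⇑α = 0 := by
  classical
  haveI := haff
  haveI := hqc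
  haveI := hflat'
  haveI : IsLocallyNoetherian c.pt := hset'.1
  have hT := finite_support α
  have hempty : ∀ y ∈ Function.support ⇑α, ∀ x : c.pt, c.π.app i x ≠ y := by
    intro y hy x hx
    obtain ⟨x', hx'x, hfx', hmin⟩ := exists_generic_in_fiber (c.π.app i) x
    have h1 := congrFun h0 x'
    have hδ : δ' x' = δ i (c.π.app i x') := hshift' i x' (fun z hz hzx => hmin z hz hzx)
    simp only [Cyc.pullFun, Pi.zero_apply] at h1
    rw [if_pos (by rw [hδ, add_zero])] at h1
    have hα : α (c.π.app i x') ≠ 0 := by rw [hfx', hx]; exact hy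
    have hlen := length_toNat_ne_zero (X := c.pt) (c.π.app i) x' (fun z hz hzx => hmin z hz hzx)
    rcases mul_eq_zero.mp h1 with h | h
    · exact hα h
    · exact hlen (by exact_mod_cast h)
  have hstage : ∀ y : D.obj i, ∃ (j : Iᵒᵖ) (f : j ⟶ i),
      y ∈ Function.support ⇑α → ∀ z : D.obj j, D.map f z ≠ y := by
    intro y
    by_cases hy : y ∈ Function.support ⇑α
    · by_contra hcon
      push Not at hcon
      obtain ⟨x, hx⟩ := exists_preimage_of_forall D c hc y (fun j f => (hcon j f).2)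
      exact hempty y hy x hx
    · exact ⟨i, 𝟙 i, fun h => absurd h hy⟩
  choose jy fy hjy using hstage
  obtain ⟨j, hj⟩ := IsCofiltered.inf_objs_exists (insert i (hT.toFinset.image jy))
  have f : j ⟶ i := (hj (Finset.mem_insert_self _ _)).some
  refine ⟨j, f, ?_⟩
  funext z
  simp only [Cyc.pullFun, Pi.zero_apply]
  split_ifs with hif
  · have : α (D.map f z) = 0 := by
      by_contra hne
      obtain ⟨y, hy⟩ : ∃ y, y = D.map f z := ⟨_, rfl⟩
      rw [← hy] at hne
      have hys : y ∈ Function.support ⇑α := hne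
      have g : j ⟶ jy y := (hj (Finset.mem_insert_of_mem
        (Finset.mem_image_of_mem _ (hT.mem_toFinset.mpr hys)))).some
      have hfg : g ≫ fy y = f := Subsingleton.elim _ _
      apply hjy y hys (D.map g z)
      rw [← Scheme.Hom.comp_apply, ← Functor.map_comp, hfg, hy]
    rw [this, zero_mul]
  · rfl

include hc in
theorem main6495 (haff : ∀ (i j : Iᵒᵖ) (f : i ⟶ j), IsAffineHom (D.map f))
    (hqc : ∀ i, CompactSpace ↥(D.obj i)) (δ : (i : Iᵒᵖ) → ↥(D.obj i) → ℤ) (δ' : ↥c.pt → ℤ)
    (hset' : Cyc.IsSetup c.pt δ') (hflat' : ∀ i, Flat (c.π.app i))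
    (hshift' : ∀ (i : Iᵒᵖ) (x : ↥c.pt),
      (∀ y, c.π.app i y = c.π.app i x → y ⤳ x → y = x) → δ' x = δ i (c.π.app i x))
    (k : ℤ) (α' : AlgebraicCycle c.pt ℤ) (hα' : α' ∈ Cyc.Zk c.pt δ' k) :
    ∃ (i : Iᵒᵖ) (α : AlgebraicCycle (D.obj i) ℤ), α ∈ Cyc.Zk (D.obj i) (δ i) k ∧
      Cyc.pullFun (c.π.app i) δ' (δ i) 0 ⇑α = ⇑α' := by
  classical
  haveI := haff
  haveI := hqc
  haveI := hflat'
  haveI : IsLocallyNoetherian c.pt := hset'.1
  haveI : CompactSpace c.pt := Scheme.compactSpace_of_isLimit D c hc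
  have hT := finite_support α'
  have hA : ∀ t : c.pt, ∃ i : Iᵒᵖ, ∀ (j : Iᵒᵖ) (_ : j ⟶ i),
      Ideal.map ((c.π.app j).stalkMap t).hom
          (IsLocalRing.maximalIdeal ((D.obj j).presheaf.stalk (c.π.app j t))) =
        IsLocalRing.maximalIdeal (c.pt.presheaf.stalk t) :=
    fun t => Groth.Agent.Lib.LimStalkH7.exists_map_maximalIdeal_eq D c hc t
  have hB : ∀ t : c.pt, ∃ i : Iᵒᵖ, ∀ (j : Iᵒᵖ) (_ : j ⟶ i),
      (c.π.app j) ⁻¹' (closure {c.π.app j t}) = closure {t} :=
    fun t => exists_preimage_closure_eq D c hc t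
  choose iA hiA using hA
  choose iB hiB using hB
  obtain ⟨i, hi⟩ := IsCofiltered.inf_objs_exists
    (hT.toFinset.image iA ∪ hT.toFinset.image iB)
  have hiA' : ∀ t ∈ Function.support ⇑α', Ideal.map ((c.π.app i).stalkMap t).hom
      (IsLocalRing.maximalIdeal ((D.obj i).presheaf.stalk (c.π.app i t))) =
        IsLocalRing.maximalIdeal (c.pt.presheaf.stalk t) := fun t ht =>
    hiA t i (hi (Finset.mem_union_left _
      (Finset.mem_image_of_mem _ (hT.mem_toFinset.mpr ht)))).some
  have hiB' : ∀ t ∈ Function.support ⇑α',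
      (c.π.app i) ⁻¹' (closure {c.π.app i t}) = closure {t} := fun t ht =>
    hiB t i (hi (Finset.mem_union_right _
      (Finset.mem_image_of_mem _ (hT.mem_toFinset.mpr ht)))).some
  have hinj : ∀ t ∈ Function.support ⇑α', ∀ t' ∈ Function.support ⇑α',
      c.π.app i t = c.π.app i t' → t = t' := by
    intro t ht t' ht' h
    have h1 : closure {t} = closure {t'} := by rw [← hiB' t ht, ← hiB' t' ht', h]
    exact (inseparable_iff_closure_eq.mpr h1).eq
  have hδt : ∀ t ∈ Function.support ⇑α', δ' t = δ i (c.π.app i t) := by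
    intro t ht
    apply hshift' i t
    intro y hy hyt
    have h1 : y ∈ (c.π.app i) ⁻¹' closure {c.π.app i t} := by
      simp only [Set.mem_preimage, hy]; exact subset_closure rfl
    rw [hiB' t ht] at h1
    have h2 : t ⤳ y := specializes_iff_mem_closure.mpr h1
    exact (hyt.antisymm h2).eq
  let αf : D.obj i → ℤ := fun y =>
    if h : ∃ t, α' t ≠ 0 ∧ c.π.app i t = y then α' h.choose else 0
  have hαf : ∀ t, α' t ≠ 0 → αf (c.π.app i t) = α' t := by
    intro t ht
    have h : ∃ t₁, α' t₁ ≠ 0 ∧ c.π.app i t₁ = c.π.app i t := ⟨t, ht, rfl⟩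
    simp only [αf, dif_pos h]
    rw [hinj _ h.choose_spec.1 _ ht h.choose_spec.2]
  have hαf0 : ∀ y, αf y ≠ 0 → ∃ t, α' t ≠ 0 ∧ c.π.app i t = y := by
    intro y hy
    by_contra hcon
    exact hy (by simp only [αf, dif_neg hcon])
  have hsupp : (Function.support αf).Finite := by
    refine (hT.image (c.π.app i)).subset ?_
    intro y hy
    obtain ⟨t, ht, rfl⟩ := hαf0 y hy
    exact ⟨t, ht, rfl⟩
  let α : AlgebraicCycle (D.obj i) ℤ :=
    ⟨αf, Set.subset_univ _, fun z _ => ⟨Set.univ, Filter.univ_mem, by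
      rw [Set.univ_inter]; exact hsupp⟩⟩
  have hαcoe : ∀ y, α y = αf y := fun y => rfl
  refine ⟨i, α, ?_, ?_⟩
  · intro y hy
    by_contra hne
    rw [hαcoe] at hne
    obtain ⟨t, ht, rfl⟩ := hαf0 y hne
    have hk : δ' t = k := by
      by_contra h
      exact ht (hα' t h)
    exact hy (by rw [← hδt t ht, hk])
  · funext x
    simp only [Cyc.pullFun]
    by_cases hx : α' x = 0
    · rw [hx]
      split_ifs with hif
      · have : αf (c.π.app i x) = 0 := by
          by_contra hne
          obtain ⟨t, ht, hte⟩ := hαf0 _ hne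
          have h1 : x ∈ (c.π.app i) ⁻¹' closure {c.π.app i t} := by
            simp only [Set.mem_preimage, hte]; exact subset_closure rfl
          rw [hiB' t ht] at h1
          have h2 : t ⤳ x := specializes_iff_mem_closure.mpr h1
          have hδ1 : δ' x = δ' t := by rw [hif, add_zero, ← hte, hδt t ht]
          by_cases htx : t = x
          · exact ht (htx ▸ hx)
          · have := (hset'.2.2 t x h2 htx).1
            omega
        rw [hαcoe, this, zero_mul]
      · rfl
    · have hδ := hδt x hx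
      rw [if_pos (by rw [hδ, add_zero])]
      rw [length_quot_eq_one _ (hiA' x hx), hαcoe, hαf x hx]
      simp

end Main

end Groth.Agent.Lib.CycLimH7
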