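import Mathlib
import Groth.Prelude
import Groth.Agent.Lib.CycCI2_helper5

/-!
# Mayer–Vietoris for Chow groups (helper5)

`mayerVietoris`: exactness in the middle of `CH_k(X₁ ∩ X₂) → CH_k(X₁) ⊕ CH_k(X₂) → CH_k(X)` for a
closed cover `X = X₁ ∪ X₂`.

APPEND-ONLY once landed.
-/

set_option autoImplicit false

namespace Groth.Agent.Lib.CycCIH5

open AlgebraicGeometry CategoryTheory TopologicalSpace
open Groth.Agent.Lib.CycFBCH5 Groth.Agent.Lib.CycFDH5 SecOrdH8 PBH8 Groth.Agent.Lib.CycC1PH5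

universe u

section MV

open CategoryTheory.Limits

set_option maxHeartbeats 1000000 in
/-- **Mayer–Vietoris for Chow groups, exactness in the middle.** -/
theorem mayerVietoris (X : Scheme.{u}) (δ : X → ℤ) (hX : Cyc.IsSetup X δ) (X₁ X₂ : Scheme.{u})
    (i₁ : X₁ ⟶ X) (i₂ : X₂ ⟶ X) [IsClosedImmersion i₁] [IsClosedImmersion i₂]
    (hcov : Set.range ⇑i₁ ∪ Set.range ⇑i₂ = Set.univ) (k : ℤ) (α₁ : AlgebraicCycle X₁ ℤ)
    (α₂ : AlgebraicCycle X₂ ℤ) (h₁ : α₁ ∈ Cyc.Zk X₁ (fun x => δ (i₁ x)) k)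
    (h₂ : α₂ ∈ Cyc.Zk X₂ (fun x => δ (i₂ x)) k)
    (h : Cyc.RatEquiv δ k (AlgebraicCycle.map i₁ (fun x => δ (i₁ x)) δ α₁)
      (AlgebraicCycle.map i₂ (fun x => δ (i₂ x)) δ α₂)) :
    ∃ β : AlgebraicCycle (pullback i₁ i₂) ℤ,
      β ∈ Cyc.Zk (pullback i₁ i₂) (fun z => δ (i₁ (pullback.fst i₁ i₂ z))) k ∧
      Cyc.RatEquiv (fun x => δ (i₁ x)) k α₁
        (AlgebraicCycle.map (pullback.fst i₁ i₂) (fun z => δ (i₁ (pullback.fst i₁ i₂ z)))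
          (fun x => δ (i₁ x)) β) ∧
      Cyc.RatEquiv (fun x => δ (i₂ x)) k α₂
        (AlgebraicCycle.map (pullback.snd i₁ i₂) (fun z => δ (i₁ (pullback.fst i₁ i₂ z)))
          (fun x => δ (i₂ x)) β) := by
  classical
  haveI : IsLocallyNoetherian X := hX.1
  have hX₁ := isSetup_of_isClosedImmersion i₁ δ hX
  have hX₂ := isSetup_of_isClosedImmersion i₂ δ hX
  haveI : IsLocallyNoetherian X₁ := hX₁.1
  haveI : IsLocallyNoetherian X₂ := hX₂.1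
  obtain ⟨J, ξ, f, hdim, hf0, hlf, hsum⟩ := h
  -- the second family: the points not in `X₁`
  let ξ₂ : {j : J // ξ j ∉ Set.range i₁} → X := fun j => ξ j.1
  let f₂ : (j : {j : J // ξ j ∉ Set.range i₁}) → X.residueField (ξ₂ j) := fun j => f j.1
  have hξ₂ : ∀ j, ξ₂ j ∈ Set.range i₂ := by
    intro j
    have hmem : ξ j.1 ∈ Set.range ⇑i₁ ∪ Set.range ⇑i₂ := by rw [hcov]; trivial
    rcases hmem with h | h
    · exact absurd h j.2
    · exact h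
  have hlf₂ : ∀ x : X, ∃ U : Set X, IsOpen U ∧ x ∈ U ∧
      {j | (closure {ξ₂ j} ∩ U).Nonempty}.Finite := by
    intro x
    obtain ⟨U, hUo, hxU, hfin⟩ := hlf x
    exact ⟨U, hUo, hxU, (hfin.preimage Subtype.val_injective.injOn).subset (fun j hj => hj)⟩
  have hf₂0 : ∀ j, f₂ j ≠ 0 := fun j => hf0 j.1
  -- the divisor cycles on `X₁` and `X₂`
  let D₁ : AlgebraicCycle X₁ ℤ := sumDivCycle (fun x => δ (i₁ x)) hX₁.2.2 (resPt i₁ ξ)
    (resFun i₁ ξ f) (resFun_ne_zero i₁ ξ f hf0) (locallyFinite_resPt i₁ ξ hlf)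
  let D₂ : AlgebraicCycle X₂ ℤ := sumDivCycle (fun x => δ (i₂ x)) hX₂.2.2 (resPt i₂ ξ₂)
    (resFun i₂ ξ₂ f₂) (resFun_ne_zero i₂ ξ₂ f₂ hf₂0) (locallyFinite_resPt i₂ ξ₂ hlf₂)
  set S₁ : X → ℤ := fun x => ∑ᶠ j : {j : J // ξ j ∈ Set.range i₁}, Cyc.divFun δ (ξ j.1) (f j.1) x
    with hS₁
  set S₂ : X → ℤ := fun x => ∑ᶠ j : {j : J // ξ j ∉ Set.range i₁}, Cyc.divFun δ (ξ j.1) (f j.1) x
    with hS₂
  have hΔ : ∀ x, (AlgebraicCycle.map i₁ (fun x => δ (i₁ x)) δ α₁) x -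
      (AlgebraicCycle.map i₂ (fun x => δ (i₂ x)) δ α₂) x = S₁ x + S₂ x := by
    intro x
    have h0 := hsum x
    rw [Function.locallyFinsuppWithin.coe_sub] at h0
    have h0' : (AlgebraicCycle.map i₁ (fun x => δ (i₁ x)) δ α₁) x -
      (AlgebraicCycle.map i₂ (fun x => δ (i₂ x)) δ α₂) x =
        ∑ᶠ j, Cyc.divFun δ (ξ j) (f j) x := h0
    rw [h0', finsum_split (fun j => ξ j ∈ Set.range i₁) _
      (finite_support_divFun_family δ ξ f hlf x)]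
  have hD₁ : ∀ x₁, D₁ x₁ = S₁ (i₁ x₁) := by
    intro x₁
    show ∑ᶠ j, Cyc.divFun (fun x => δ (i₁ x)) (resPt i₁ ξ j) (resFun i₁ ξ f j) x₁ = _
    exact finsum_congr (fun j => divFun_resFun i₁ δ hX ξ f hf0 j x₁)
  have hD₂ : ∀ x₂, D₂ x₂ = S₂ (i₂ x₂) := by
    intro x₂
    show ∑ᶠ j, Cyc.divFun (fun x => δ (i₂ x)) (resPt i₂ ξ₂ j) (resFun i₂ ξ₂ f₂ j) x₂ = _
    rw [finsum_congr (fun j => divFun_resFun i₂ δ hX ξ₂ f₂ hf₂0 j x₂)]
    exact finsum_comp_equiv (Equiv.subtypeUnivEquiv hξ₂)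
      (f := fun j' => Cyc.divFun δ (ξ₂ j') (f₂ j') (i₂ x₂))
  have hS₁out : ∀ x, x ∉ Set.range i₁ → S₁ x = 0 := by
    intro x hx
    apply finsum_eq_zero_of_forall_eq_zero
    intro j
    exact divFun_eq_zero_of_notMem_range i₁ δ j.2 _ x hx
  have hS₂out : ∀ x, x ∉ Set.range i₂ → S₂ x = 0 := by
    intro x hx
    apply finsum_eq_zero_of_forall_eq_zero
    intro j
    exact divFun_eq_zero_of_notMem_range i₂ δ (hξ₂ j) _ x hx
  -- points of the fibre product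
  have hcond : ∀ z : ↥(pullback i₁ i₂), i₁ (pullback.fst i₁ i₂ z) = i₂ (pullback.snd i₁ i₂ z) := by
    intro z
    rw [← Scheme.Hom.comp_apply, pullback.condition, Scheme.Hom.comp_apply]
  have hex : ∀ (x₁ : X₁) (x₂ : X₂), i₁ x₁ = i₂ x₂ →
      ∃ z : ↥(pullback i₁ i₂), pullback.fst i₁ i₂ z = x₁ ∧ pullback.snd i₁ i₂ z = x₂ :=
    fun x₁ x₂ e => Scheme.Pullback.exists_preimage_pullback x₁ x₂ e
  -- the key identities
  have hγ₁ : ∀ x₁, α₁ x₁ - D₁ x₁ =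
      (AlgebraicCycle.map i₂ (fun x => δ (i₂ x)) δ α₂) (i₁ x₁) + S₂ (i₁ x₁) := by
    intro x₁
    have := hΔ (i₁ x₁)
    rw [map_apply_closedImmersion] at this
    rw [hD₁ x₁]
    linarith
  have hγ₂ : ∀ x₂, α₂ x₂ + D₂ x₂ =
      (AlgebraicCycle.map i₁ (fun x => δ (i₁ x)) δ α₁) (i₂ x₂) - S₁ (i₂ x₂) := by
    intro x₂
    have := hΔ (i₂ x₂)
    rw [map_apply_closedImmersion] at this
    rw [hD₂ x₂]
    linarith
  have hout₁ : ∀ x₁, x₁ ∉ Set.range (pullback.fst i₁ i₂) → α₁ x₁ - D₁ x₁ = 0 := by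
    intro x₁ hx₁
    have hx : i₁ x₁ ∉ Set.range i₂ := by
      rintro ⟨x₂, e⟩
      obtain ⟨z, hz, -⟩ := hex x₁ x₂ e.symm
      exact hx₁ ⟨z, hz⟩
    rw [hγ₁ x₁, map_apply_of_notMem_range i₂ δ α₂ _ hx, hS₂out _ hx, add_zero]
  have hout₂ : ∀ x₂, x₂ ∉ Set.range (pullback.snd i₁ i₂) → α₂ x₂ + D₂ x₂ = 0 := by
    intro x₂ hx₂
    have hx : i₂ x₂ ∉ Set.range i₁ := by
      rintro ⟨x₁, e⟩
      obtain ⟨z, -, hz⟩ := hex x₁ x₂ e
      exact hx₂ ⟨z, hz⟩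
    rw [hγ₂ x₂, map_apply_of_notMem_range i₁ δ α₁ _ hx, hS₁out _ hx, sub_zero]
  -- the cycle on the intersection
  let β : AlgebraicCycle (pullback i₁ i₂) ℤ := comapCycle (pullback.fst i₁ i₂) (α₁ - D₁)
  have hβ₁ : ∀ z, β z = α₁ (pullback.fst i₁ i₂ z) - D₁ (pullback.fst i₁ i₂ z) := by
    intro z
    show (α₁ - D₁) (pullback.fst i₁ i₂ z) = _
    rw [Function.locallyFinsuppWithin.coe_sub]
    rfl
  have hβ₂ : ∀ z, β z = α₂ (pullback.snd i₁ i₂ z) + D₂ (pullback.snd i₁ i₂ z) := by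
    intro z
    rw [hβ₁ z, hγ₁, hγ₂, hcond z, map_apply_closedImmersion, ← hcond z,
      map_apply_closedImmersion]
    have := hΔ (i₁ (pullback.fst i₁ i₂ z))
    rw [map_apply_closedImmersion, hcond z, map_apply_closedImmersion] at this
    rw [hcond z]
    linarith
  have hdim₁ : ∀ j, δ (i₁ (resPt i₁ ξ j)) = k + 1 := by
    intro j
    rw [resPt_spec i₁ ξ j]
    exact hdim j.1
  have hdim₂ : ∀ j, δ (i₂ (resPt i₂ ξ₂ j)) = k + 1 := by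
    intro j
    rw [resPt_spec i₂ ξ₂ j]
    exact hdim j.1.1
  refine ⟨β, ?_, ?_, ?_⟩
  · intro z hz
    rw [hβ₁ z, h₁ _ hz]
    have : D₁ (pullback.fst i₁ i₂ z) = 0 :=
      sum_divFun_eq_zero_of_ne (fun x => δ (i₁ x)) k (resPt i₁ ξ) (resFun i₁ ξ f) hdim₁ _ hz
    rw [this, sub_zero]
  · refine ⟨_, resPt i₁ ξ, resFun i₁ ξ f, hdim₁, resFun_ne_zero i₁ ξ f hf0,
      locallyFinite_resPt i₁ ξ hlf, ?_⟩
    intro x₁
    rw [Function.locallyFinsuppWithin.coe_sub]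
    show α₁ x₁ - (AlgebraicCycle.map (pullback.fst i₁ i₂)
      (fun z => δ (i₁ (pullback.fst i₁ i₂ z))) (fun x => δ (i₁ x)) β) x₁ = D₁ x₁
    by_cases hx₁ : x₁ ∈ Set.range (pullback.fst i₁ i₂)
    · obtain ⟨z, rfl⟩ := hx₁
      have := map_apply_closedImmersion (pullback.fst i₁ i₂) (fun x => δ (i₁ x)) β z
      rw [this, hβ₁ z]
      ring
    · have := map_apply_of_notMem_range (pullback.fst i₁ i₂) (fun x => δ (i₁ x)) β x₁ hx₁
      rw [this, sub_zero]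
      have := hout₁ x₁ hx₁
      linarith
  · have hw : (fun z : ↥(pullback i₁ i₂) => δ (i₁ (pullback.fst i₁ i₂ z))) =
        fun z => δ (i₂ (pullback.snd i₁ i₂ z)) := funext (fun z => by rw [hcond z])
    rw [hw]
    have hD₂rat : Cyc.RatEquivZero (fun x => δ (i₂ x)) k D₂ :=
      ⟨_, resPt i₂ ξ₂, resFun i₂ ξ₂ f₂, hdim₂, resFun_ne_zero i₂ ξ₂ f₂ hf₂0,
        locallyFinite_resPt i₂ ξ₂ hlf₂, fun x₂ => rfl⟩
    refine ratEquivZero_neg (fun x => δ (i₂ x)) hX₂.2.2 k D₂ _ hD₂rat ?_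
    intro x₂
    rw [Function.locallyFinsuppWithin.coe_sub]
    show α₂ x₂ - (AlgebraicCycle.map (pullback.snd i₁ i₂)
      (fun z => δ (i₂ (pullback.snd i₁ i₂ z))) (fun x => δ (i₂ x)) β) x₂ = - D₂ x₂
    by_cases hx₂ : x₂ ∈ Set.range (pullback.snd i₁ i₂)
    · obtain ⟨z, rfl⟩ := hx₂
      have := map_apply_closedImmersion (pullback.snd i₁ i₂) (fun x => δ (i₂ x)) β z
      rw [this, hβ₂ z]
      ring
    · have := map_apply_of_notMem_range (pullback.snd i₁ i₂) (fun x => δ (i₂ x)) β x₂ hx₂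
      rw [this, sub_zero]
      have := hout₂ x₂ hx₂
      linarith

end MV

end Groth.Agent.Lib.CycCIH5
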