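import Mathlib
import Groth.Prelude.Def_Cyc

universe u
open AlgebraicGeometry CategoryTheory

namespace CycPushH8

/-- Fiberwise decomposition of a `finsum` over a preimage. -/
theorem finsum_mem_fiberwise {α β M : Type*} [AddCommMonoid M] (φ : α → β) (F : α → M) (s : Set β)
    (hfin : (φ ⁻¹' s ∩ Function.support F).Finite) :
    ∑ᶠ a ∈ φ ⁻¹' s, F a = ∑ᶠ b ∈ s, ∑ᶠ a ∈ φ ⁻¹' {b}, F a := by
  classical
  set T := hfin.toFinset with hT
  have hTmem : ∀ a, a ∈ T ↔ φ a ∈ s ∧ F a ≠ 0 := by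
    intro a
    simp [hT, Set.Finite.mem_toFinset]
  have h1 : ∑ᶠ a ∈ φ ⁻¹' s, F a = ∑ a ∈ T, F a := by
    apply finsum_mem_eq_sum_of_inter_support_eq
    ext a
    simp [hTmem a]
  have h2 : ∀ b ∈ s, ∑ᶠ a ∈ φ ⁻¹' {b}, F a = ∑ a ∈ T.filter (fun a => φ a = b), F a := by
    intro b hb
    apply finsum_mem_eq_sum_of_inter_support_eq
    ext a
    simp only [Set.mem_inter_iff, Set.mem_preimage, Set.mem_singleton_iff, Function.mem_support,
      Finset.coe_filter, hTmem, Set.mem_ofPred_eq]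
    constructor
    · rintro ⟨h, h'⟩
      exact ⟨⟨⟨h ▸ hb, h'⟩, h⟩, h'⟩
    · rintro ⟨⟨⟨_, h'⟩, h⟩, _⟩
      exact ⟨h, h'⟩
  rw [h1, finsum_mem_congr rfl h2]
  have h3 : ∑ᶠ b ∈ s, ∑ a ∈ T.filter (fun a => φ a = b), F a
      = ∑ b ∈ T.image φ, ∑ a ∈ T.filter (fun a => φ a = b), F a := by
    apply finsum_mem_eq_sum_of_inter_support_eq
    ext b
    simp only [Set.mem_inter_iff, Function.mem_support, Finset.coe_image, Set.mem_image,
      Finset.mem_coe]
    constructor
    · rintro ⟨hb, hne⟩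
      obtain ⟨a, ha, _⟩ := Finset.exists_ne_zero_of_sum_ne_zero hne
      rw [Finset.mem_filter] at ha
      exact ⟨⟨a, ha.1, ha.2⟩, hne⟩
    · rintro ⟨⟨a, ha, rfl⟩, hne⟩
      exact ⟨((hTmem a).1 ha).1, hne⟩
  rw [h3]
  exact (Finset.sum_fiberwise_of_maps_to (fun a ha => Finset.mem_image_of_mem φ ha) F).symm

/-- For a spectral map into a prespectral space, the fibres meet the support of a locally finitely
supported function in finitely many points. -/
theorem finite_fiber_inter_support {X Y R : Type*} [TopologicalSpace X] [TopologicalSpace Y]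
    [Zero R] [PrespectralSpace Y] {f : X → Y} (hf : IsSpectralMap f)
    (c : Function.locallyFinsupp X R) (y : Y) : (f ⁻¹' {y} ∩ Function.support c).Finite := by
  obtain ⟨U, hU⟩ := (PrespectralSpace.isTopologicalBasis (X := Y)).exists_subset_of_mem_open
    (by simp : y ∈ (⊤ : Set Y)) (by simp)
  refine (c.locallyFiniteSupport.finite_inter_support_of_isCompact <| hf.2 hU.1.1 hU.1.2).subset ?_
  rintro x ⟨hx, hx'⟩
  refine ⟨?_, hx'⟩
  have : f x = y := hx
  show f x ∈ U
  rw [this]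
  exact hU.2.1

/-- Residue degrees multiply in towers. -/
theorem residueDegree_comp {X Y Z : Scheme.{u}} (f : X ⟶ Y) (g : Y ⟶ Z) (x : X) :
    (f ≫ g).residueDegree x = g.residueDegree (f x) * f.residueDegree x := by
  letI a1 := (f.residueFieldMap x).hom.toAlgebra
  letI a2 := (g.residueFieldMap (f x)).hom.toAlgebra
  letI a3 : Algebra (Z.residueField (g (f x))) (X.residueField x) :=
    ((f ≫ g).residueFieldMap x).hom.toAlgebra
  haveI : IsScalarTower (Z.residueField (g (f x))) (Y.residueField (f x)) (X.residueField x) := by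
    refine IsScalarTower.of_algebraMap_eq' ?_
    show ((f ≫ g).residueFieldMap x).hom = (f.residueFieldMap x).hom.comp (g.residueFieldMap (f x)).hom
    rw [Scheme.residueFieldMap_comp]
    rfl
  exact (Module.finrank_mul_finrank (Z.residueField (g (f x))) (Y.residueField (f x))
    (X.residueField x)).symm

/-- The pushforward coefficients multiply. -/
theorem mapCoeff_comp {X Y Z : Scheme.{u}} (f : X ⟶ Y) (g : Y ⟶ Z) (δX : X → ℤ) (δY : Y → ℤ)
    (δZ : Z → ℤ) (hf : Cyc.DeltaCompat f δX δY) (hg : Cyc.DeltaCompat g δY δZ) (x : X) :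
    AlgebraicCycle.mapCoeff (f ≫ g) δX δZ x =
      AlgebraicCycle.mapCoeff f δX δY x * AlgebraicCycle.mapCoeff g δY δZ (f x) := by
  obtain ⟨n1, -, h1⟩ := hf x
  obtain ⟨n2, -, h2⟩ := hg (f x)
  unfold AlgebraicCycle.mapCoeff
  have hb : (f ≫ g).base x = g (f x) := rfl
  rw [hb]
  by_cases hA : δX x = δY (f x)
  · by_cases hB : δY (f x) = δZ (g (f x))
    · have hC : δX x = δZ (g (f x)) := hA.trans hB
      rw [if_pos hA, if_pos hB, if_pos hC, residueDegree_comp, mul_comm]
    · have hC : ¬ δX x = δZ (g (f x)) := by omega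
      rw [if_neg hB, if_neg hC, mul_zero]
  · have hC : ¬ δX x = δZ (g (f x)) := by omega
    rw [if_neg hA, if_neg hC, zero_mul]


/-- Functoriality of proper pushforward of cycles. -/
theorem map_map {X Y Z : Scheme.{u}} (f : X ⟶ Y) (g : Y ⟶ Z) [QuasiCompact f] [QuasiCompact g]
    (δX : X → ℤ) (δY : Y → ℤ) (δZ : Z → ℤ)
    (hf : Cyc.DeltaCompat f δX δY) (hg : Cyc.DeltaCompat g δY δZ) (α : AlgebraicCycle X ℤ) :
    AlgebraicCycle.map g δY δZ (AlgebraicCycle.map f δX δY α) =
      AlgebraicCycle.map (f ≫ g) δX δZ α := by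
  ext z
  unfold AlgebraicCycle.map
  rw [Function.locallyFinsupp.map_apply, Function.locallyFinsupp.map_apply]
  simp only [Function.locallyFinsupp.map_apply]
  have hpre : ((f ≫ g : X ⟶ Z) : X → Z) ⁻¹' {z} = (f : X → Y) ⁻¹' ((g : Y → Z) ⁻¹' {z}) := rfl
  rw [hpre]
  have hfin : ((f : X → Y) ⁻¹' ((g : Y → Z) ⁻¹' {z}) ∩
      Function.support (fun x => α x * ((AlgebraicCycle.mapCoeff (f ≫ g) δX δZ x : ℕ) : ℤ))).Finite := by
    refine (finite_fiber_inter_support (f ≫ g).isSpectralMap α z).subset ?_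
    rintro x ⟨hx, hx'⟩
    refine ⟨hx, ?_⟩
    intro h0
    apply hx'
    show α x * _ = 0
    rw [h0, zero_mul]
  rw [finsum_mem_fiberwise (f : X → Y) _ _ hfin]
  apply finsum_mem_congr rfl
  intro y hy
  rw [finsum_mem_mul]
  apply finsum_mem_congr rfl
  intro x hx
  have hxy : f x = y := hx
  subst hxy
  rw [mapCoeff_comp f g δX δY δZ hf hg x]
  push_cast
  ring

end CycPushH8
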