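import Mathlib
import Groth.Prelude.Def_W4c6equivkfinstabCyc

set_option autoImplicit false
open Polynomial

namespace Groth.Agent.Lib.CycQuotH4

open W4c6equivkfinstab

/-- If `ζ` is a root of `Φ_n` in a ring where `n` is invertible and `n ∤ k`, then `1 - ζ^k` is
a unit. -/
theorem isUnit_one_sub_pow {R : Type*} [CommRing R] {n k : ℕ} (hn : IsUnit ((n : ℕ) : R)) {ζ : R}
    (hζ : (cyclotomic n R).eval ζ = 0) (hk : ¬ n ∣ k) : IsUnit (1 - ζ ^ k) := by
  by_contra h
  obtain ⟨m, hm, hmem⟩ := exists_max_ideal_of_mem_nonunits (mem_nonunits_iff.2 h)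
  let _ : Field (R ⧸ m) := Ideal.Quotient.field m
  have hne : ((n : ℕ) : R ⧸ m) ≠ 0 := by
    have h1 := hn.map (Ideal.Quotient.mk m)
    rw [map_natCast] at h1
    exact h1.ne_zero
  have : NeZero ((n : ℕ) : R ⧸ m) := ⟨hne⟩
  have hroot : (cyclotomic n (R ⧸ m)).IsRoot (Ideal.Quotient.mk m ζ) := by
    rw [IsRoot.def, ← map_cyclotomic n (Ideal.Quotient.mk m), eval_map_apply, hζ, map_zero]
  have hprim : IsPrimitiveRoot (Ideal.Quotient.mk m ζ) n := isRoot_cyclotomic_iff.1 hroot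
  have h1 : (Ideal.Quotient.mk m ζ) ^ k = 1 := by
    have h2 : Ideal.Quotient.mk m (1 - ζ ^ k) = 0 := Ideal.Quotient.eq_zero_iff_mem.2 hmem
    rw [map_sub, map_one, map_pow, sub_eq_zero] at h2
    exact h2.symm
  exact hk (hprim.dvd_of_pow_eq_one k h1)

variable (Λ : Type*) [CommRing Λ]

theorem quotMap_single (M : Type*) [AddCommGroup M] (B : AddSubgroup M) (a : M) (r : Λ) :
    quotMap Λ M B (AddMonoidAlgebra.single a r) = AddMonoidAlgebra.single (a : M ⧸ B) r := by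
  simp [quotMap]

theorem quotMap_surjective (M : Type*) [AddCommGroup M] (B : AddSubgroup M) :
    Function.Surjective (quotMap Λ M B) := by
  intro y
  induction y using AddMonoidAlgebra.induction_linear with
  | zero => exact ⟨0, map_zero _⟩
  | add x y hx hy =>
    obtain ⟨a, rfl⟩ := hx
    obtain ⟨b, rfl⟩ := hy
    exact ⟨a + b, map_add _ _ _⟩
  | single m r =>
    obtain ⟨a, rfl⟩ := QuotientAddGroup.mk_surjective m
    exact ⟨AddMonoidAlgebra.single a r, quotMap_single Λ M B a r⟩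

theorem cycQuotMap_surjective (M : Type*) [AddCommGroup M] (B : AddSubgroup M) :
    Function.Surjective (cycQuotMap Λ M B) := by
  intro y
  obtain ⟨y', rfl⟩ := Ideal.Quotient.mk_surjective y
  obtain ⟨x, rfl⟩ := quotMap_surjective Λ M B y'
  exact ⟨x, rfl⟩

theorem cycQuotMap_apply (M : Type*) [AddCommGroup M] (B : AddSubgroup M)
    (x : AddMonoidAlgebra Λ M) :
    cycQuotMap Λ M B x = Ideal.Quotient.mk (cycIdeal Λ (M ⧸ B)) (quotMap Λ M B x) := rfl

theorem cycQuotMap_one_sub_single (M : Type*) [AddCommGroup M] (B : AddSubgroup M) (b : M) :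
    cycQuotMap Λ M B (1 - AddMonoidAlgebra.single b (1 : Λ)) =
      Ideal.Quotient.mk (cycIdeal Λ (M ⧸ B))
        (1 - AddMonoidAlgebra.single (b : M ⧸ B) (1 : Λ)) := by
  rw [cycQuotMap_apply, map_sub, map_one, quotMap_single]

theorem cycQuotMap_one_sub_single_of_mem (M : Type*) [AddCommGroup M] (B : AddSubgroup M)
    {b : M} (hb : b ∈ B) :
    cycQuotMap Λ M B (1 - AddMonoidAlgebra.single b (1 : Λ)) = 0 := by
  rw [cycQuotMap_one_sub_single]
  have h0 : ((b : M) : M ⧸ B) = 0 := (QuotientAddGroup.eq_zero_iff b).2 hb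
  rw [h0, ← AddMonoidAlgebra.one_def, sub_self, map_zero]

/-- In the cyclotomic quotient of the group ring of a finite cyclic group `C` whose order is
invertible, `1 - [c]` is a unit for `c ≠ 0`. -/
theorem isUnit_one_sub_single {C : Type*} [AddCommGroup C] [Finite C] [IsAddCyclic C]
    (hn : IsUnit ((Nat.card C : ℕ) : Λ)) {c : C} (hc : c ≠ 0) :
    IsUnit (Ideal.Quotient.mk (cycIdeal Λ C) (1 - AddMonoidAlgebra.single c (1 : Λ))) := by
  obtain ⟨g, hg⟩ := IsAddCyclic.exists_addMonoid_generator (α := C)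
  have hgtop : AddSubgroup.zmultiples g = ⊤ := by
    rw [AddSubgroup.eq_top_iff']
    intro x
    obtain ⟨k, hk⟩ := (AddSubmonoid.mem_multiples_iff _ _).1 (hg x)
    exact ⟨(k : ℤ), by simpa using hk⟩
  obtain ⟨k, hk⟩ := (AddSubmonoid.mem_multiples_iff _ _).1 (hg c)
  have hmem : Polynomial.aeval (AddMonoidAlgebra.single g (1 : Λ))
      (Polynomial.cyclotomic (Nat.card C) Λ) ∈ cycIdeal Λ C :=
    Ideal.subset_span ⟨g, hgtop, rfl⟩
  have h0 : Ideal.Quotient.mk (cycIdeal Λ C) (Polynomial.aeval (AddMonoidAlgebra.single g (1 : Λ))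
      (Polynomial.cyclotomic (Nat.card C) Λ)) = 0 := Ideal.Quotient.eq_zero_iff_mem.2 hmem
  have hζ : (cyclotomic (Nat.card C) (CycQuot Λ C)).eval
      (Ideal.Quotient.mk (cycIdeal Λ C) (AddMonoidAlgebra.single g (1 : Λ))) = 0 := by
    rw [← map_cyclotomic (Nat.card C) (algebraMap Λ (CycQuot Λ C)), eval_map_algebraMap]
    have h1 := Polynomial.aeval_algHom_apply (Ideal.Quotient.mkₐ Λ (cycIdeal Λ C))
      (AddMonoidAlgebra.single g (1 : Λ)) (Polynomial.cyclotomic (Nat.card C) Λ)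
    exact h1.trans h0
  have hnk : ¬ Nat.card C ∣ k := by
    intro hdvd
    apply hc
    obtain ⟨t, rfl⟩ := hdvd
    rw [← hk, mul_comm, mul_nsmul, card_nsmul_eq_zero']
  have hn' : IsUnit ((Nat.card C : ℕ) : CycQuot Λ C) := by
    have h1 := hn.map (algebraMap Λ (CycQuot Λ C))
    rwa [map_natCast] at h1
  have hunit := isUnit_one_sub_pow hn' hζ hnk
  have heq : Ideal.Quotient.mk (cycIdeal Λ C) (1 - AddMonoidAlgebra.single c (1 : Λ)) =
      1 - (Ideal.Quotient.mk (cycIdeal Λ C) (AddMonoidAlgebra.single g (1 : Λ))) ^ k := by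
    rw [map_sub, map_one, ← map_pow, AddMonoidAlgebra.single_pow, one_pow, hk]
  rw [heq]
  exact hunit

theorem exists_inv (M : Type*) [AddCommGroup M] (B : AddSubgroup M) [B.FiniteIndex]
    [IsAddCyclic (M ⧸ B)] (hB : IsUnit ((B.index : ℕ) : Λ)) {b : M} (hb : b ∉ B) :
    ∃ w : AddMonoidAlgebra Λ M,
      cycQuotMap Λ M B ((1 - AddMonoidAlgebra.single b (1 : Λ)) * w) = 1 := by
  have hc : ((b : M) : M ⧸ B) ≠ 0 := by
    intro h
    exact hb ((QuotientAddGroup.eq_zero_iff b).1 h)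
  have hcard : Nat.card (M ⧸ B) = B.index := rfl
  have hu := isUnit_one_sub_single Λ (C := M ⧸ B) (by rw [hcard]; exact hB) hc
  obtain ⟨v, hv⟩ := hu.exists_right_inv
  obtain ⟨w, rfl⟩ := cycQuotMap_surjective Λ M B v
  refine ⟨w, ?_⟩
  rw [map_mul, cycQuotMap_one_sub_single, hv]

theorem exists_sep (M : Type*) [AddCommGroup M] (B B' : AddSubgroup M) [B.FiniteIndex]
    [B'.FiniteIndex] [IsAddCyclic (M ⧸ B)] [IsAddCyclic (M ⧸ B')] (hne : B ≠ B')
    (hB : IsUnit ((B.index : ℕ) : Λ)) (hB' : IsUnit ((B'.index : ℕ) : Λ)) :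
    ∃ s : AddMonoidAlgebra Λ M, cycQuotMap Λ M B' s = 1 ∧ cycQuotMap Λ M B s = 0 := by
  by_cases hle : B ≤ B'
  · have hnle : ¬ B' ≤ B := fun h => hne (le_antisymm hle h)
    obtain ⟨b', hb', hb'B⟩ := SetLike.not_le_iff_exists.1 hnle
    obtain ⟨w, hw⟩ := exists_inv Λ M B hB hb'B
    refine ⟨1 - (1 - AddMonoidAlgebra.single b' (1 : Λ)) * w, ?_, ?_⟩
    · rw [map_sub, map_one, map_mul, cycQuotMap_one_sub_single_of_mem Λ M B' hb', zero_mul,
        sub_zero]
    · rw [map_sub, map_one, hw, sub_self]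
  · obtain ⟨b, hb, hbB'⟩ := SetLike.not_le_iff_exists.1 hle
    obtain ⟨w, hw⟩ := exists_inv Λ M B' hB' hbB'
    refine ⟨(1 - AddMonoidAlgebra.single b (1 : Λ)) * w, hw, ?_⟩
    rw [map_mul, cycQuotMap_one_sub_single_of_mem Λ M B hb, zero_mul]

end Groth.Agent.Lib.CycQuotH4
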