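import Mathlib
import Groth.Prelude.Def_W4c6equivkfinstabCyc
import Groth.Agent.Lib.CycQuot_helper4

set_option autoImplicit false
open Polynomial

namespace Groth.Agent.Lib.CycQuot2H4

open W4c6equivkfinstab Groth.Agent.Lib.CycQuotH4

theorem X_pow_sub_one_dvd (Λ : Type*) [CommRing Λ] {d : ℕ} (hd : 0 < d) :
    ((X : Λ[X]) ^ d - 1) ∣
      cyclotomic d Λ * ∏ e ∈ d.properDivisors, (1 - (X : Λ[X]) ^ e) := by
  have h1 : (X : Λ[X]) ^ d - 1 =
      cyclotomic d Λ * ∏ e ∈ d.properDivisors, cyclotomic e Λ := by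
    rw [← prod_cyclotomic_eq_X_pow_sub_one hd Λ, ← Nat.insert_self_properDivisors hd.ne',
      Finset.prod_insert Nat.self_notMem_properDivisors]
  rw [h1]
  apply mul_dvd_mul_left
  apply Finset.prod_dvd_prod_of_dvd
  intro e _
  have h2 : cyclotomic e Λ ∣ (X : Λ[X]) ^ e - 1 := cyclotomic.dvd_X_pow_sub_one e Λ
  have h3 : (1 : Λ[X]) - X ^ e = -(X ^ e - 1) := by ring
  rw [h3]
  exact (dvd_neg).2 h2

section
variable (Λ : Type*) [CommRing Λ] {A : Type*} [AddCommGroup A]

/-- The sum of the group-ring elements of a finite subgroup. -/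
noncomputable def normElt [Finite A] (K : AddSubgroup A) : AddMonoidAlgebra Λ A :=
  letI := Fintype.ofFinite K
  ∑ k : K, AddMonoidAlgebra.single (k : A) (1 : Λ)

theorem single_mul_normElt [Finite A] (K : AddSubgroup A) {k : A} (hk : k ∈ K) :
    AddMonoidAlgebra.single k (1 : Λ) * normElt Λ K = normElt Λ K := by
  classical
  unfold normElt
  letI := Fintype.ofFinite K
  rw [Finset.mul_sum]
  refine Fintype.sum_equiv (Equiv.addLeft (⟨k, hk⟩ : K)) _ _ (fun k' => ?_)
  rw [AddMonoidAlgebra.single_mul_single, one_mul]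
  rfl

/-- A set-theoretic section of the quotient map followed by multiplication by `n`. -/
noncomputable def tau (K : AddSubgroup A) (n : AddMonoidAlgebra Λ A)
    (y : AddMonoidAlgebra Λ (A ⧸ K)) : AddMonoidAlgebra Λ A :=
  y.coeff.sum (fun ā r => AddMonoidAlgebra.single (Quotient.out ā) r * n)

theorem tau_key [Finite A] (K : AddSubgroup A) (x : AddMonoidAlgebra Λ A) :
    tau Λ K (normElt Λ K) (quotMap Λ A K x) = x * normElt Λ K := by
  induction x using AddMonoidAlgebra.induction_linear with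
  | zero => simp [tau]
  | add x y hx hy =>
    rw [map_add, add_mul, ← hx, ← hy]
    unfold tau
    rw [AddMonoidAlgebra.coeff_add, Finsupp.sum_add_index']
    · intro a; rw [AddMonoidAlgebra.single_zero, zero_mul]
    · intro a b₁ b₂; rw [AddMonoidAlgebra.single_add, add_mul]
  | single a r =>
    rw [quotMap_single]
    unfold tau
    rw [AddMonoidAlgebra.coeff_single, Finsupp.sum_single_index
      (by rw [AddMonoidAlgebra.single_zero, zero_mul])]
    have hk : -a + Quotient.out (a : A ⧸ K) ∈ K := by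
      rw [← QuotientAddGroup.eq]
      exact (QuotientAddGroup.out_eq' _).symm
    have h1 : AddMonoidAlgebra.single (Quotient.out (a : A ⧸ K)) r =
        AddMonoidAlgebra.single a r *
          AddMonoidAlgebra.single (-a + Quotient.out (a : A ⧸ K)) (1 : Λ) := by
      rw [AddMonoidAlgebra.single_mul_single, mul_one, add_neg_cancel_left]
    rw [h1, mul_assoc, single_mul_normElt Λ K hk]

theorem mul_normElt_eq_zero [Finite A] (K : AddSubgroup A) (x : AddMonoidAlgebra Λ A)
    (hx : quotMap Λ A K x = 0) : x * normElt Λ K = 0 := by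
  rw [← tau_key, hx]
  simp [tau]

theorem quotMap_aeval (K : AddSubgroup A) (y : AddMonoidAlgebra Λ A) (p : Λ[X]) :
    quotMap Λ A K (aeval y p) = aeval (quotMap Λ A K y) p :=
  (Polynomial.aeval_algHom_apply
    (AddMonoidAlgebra.mapDomainAlgHom Λ Λ (QuotientAddGroup.mk' K)) y p).symm

theorem gen_kill [Finite A] (K : AddSubgroup A) (a : A) :
    (∏ e ∈ (Nat.card (A ⧸ K)).properDivisors,
        (1 - AddMonoidAlgebra.single (e • a) (1 : Λ))) * normElt Λ K *
      aeval (AddMonoidAlgebra.single a (1 : Λ)) (cyclotomic (Nat.card (A ⧸ K)) Λ) = 0 := by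
  have hd : 0 < Nat.card (A ⧸ K) := Nat.card_pos
  obtain ⟨q, hq⟩ := map_dvd (aeval (AddMonoidAlgebra.single a (1 : Λ)))
    (X_pow_sub_one_dvd Λ hd)
  simp only [map_mul, map_prod, map_sub, map_one, map_pow, aeval_X] at hq
  have hpow : ∀ e : ℕ, (AddMonoidAlgebra.single a (1 : Λ)) ^ e =
      AddMonoidAlgebra.single (e • a) 1 := by
    intro e
    rw [AddMonoidAlgebra.single_pow, one_pow]
  simp only [hpow] at hq
  have hda : (Nat.card (A ⧸ K)) • a ∈ K := by
    rw [← QuotientAddGroup.eq_zero_iff]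
    have h1 : (((Nat.card (A ⧸ K)) • a : A) : A ⧸ K) = (Nat.card (A ⧸ K)) • (a : A ⧸ K) := rfl
    rw [h1]
    exact card_nsmul_eq_zero'
  have h0 : (AddMonoidAlgebra.single ((Nat.card (A ⧸ K)) • a) (1 : Λ) - 1) * normElt Λ K = 0 := by
    rw [sub_mul, one_mul, single_mul_normElt Λ K hda, sub_self]
  calc _ = normElt Λ K *
        (aeval (AddMonoidAlgebra.single a (1 : Λ)) (cyclotomic (Nat.card (A ⧸ K)) Λ) *
          ∏ e ∈ (Nat.card (A ⧸ K)).properDivisors,
            (1 - AddMonoidAlgebra.single (e • a) (1 : Λ))) := by ring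
    _ = 0 := by rw [hq, ← mul_assoc, mul_comm (normElt Λ K), h0, zero_mul]

theorem kill_of_dvd [Finite A] (K : AddSubgroup A) (t : AddMonoidAlgebra Λ A)
    (ht : ∀ a : A, AddSubgroup.zmultiples (a : A ⧸ K) = ⊤ →
      (∏ e ∈ (Nat.card (A ⧸ K)).properDivisors,
        (1 - AddMonoidAlgebra.single (e • a) (1 : Λ))) ∣ t)
    (x : AddMonoidAlgebra Λ A) (hx : cycQuotMap Λ A K x = 0) :
    t * normElt Λ K * x = 0 := by
  have hxmem : quotMap Λ A K x ∈ cycIdeal Λ (A ⧸ K) := Ideal.Quotient.eq_zero_iff_mem.1 hx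
  have key : ∀ y ∈ cycIdeal Λ (A ⧸ K), ∀ x', quotMap Λ A K x' = y →
      t * normElt Λ K * x' = 0 := by
    intro y hy
    unfold cycIdeal at hy
    refine Submodule.span_induction (p := fun y _ => ∀ x', quotMap Λ A K x' = y →
      t * normElt Λ K * x' = 0) ?_ ?_ ?_ ?_ hy
    · rintro _ ⟨g, hg, rfl⟩ x' hx'
      obtain ⟨a, rfl⟩ := QuotientAddGroup.mk_surjective g
      have h1 : quotMap Λ A K (x' - aeval (AddMonoidAlgebra.single a (1 : Λ))
          (cyclotomic (Nat.card (A ⧸ K)) Λ)) = 0 := by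
        rw [map_sub, quotMap_aeval, quotMap_single, hx', sub_self]
      have h2 := mul_normElt_eq_zero Λ K _ h1
      rw [sub_mul, sub_eq_zero] at h2
      obtain ⟨c, hc⟩ := ht a hg
      calc t * normElt Λ K * x' = t * (x' * normElt Λ K) := by ring
        _ = t * (aeval (AddMonoidAlgebra.single a (1 : Λ))
              (cyclotomic (Nat.card (A ⧸ K)) Λ) * normElt Λ K) := by rw [h2]
        _ = c * ((∏ e ∈ (Nat.card (A ⧸ K)).properDivisors,
              (1 - AddMonoidAlgebra.single (e • a) (1 : Λ))) * normElt Λ K *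
              aeval (AddMonoidAlgebra.single a (1 : Λ))
                (cyclotomic (Nat.card (A ⧸ K)) Λ)) := by rw [hc]; ring
        _ = 0 := by rw [gen_kill Λ K a, mul_zero]
    · intro x' hx'
      rw [mul_assoc, mul_comm (normElt Λ K), mul_normElt_eq_zero Λ K x' hx', mul_zero]
    · intro y₁ y₂ _ _ h₁ h₂ x' hx'
      obtain ⟨x₁, hx₁⟩ := quotMap_surjective Λ A K y₁
      have hx₂ : quotMap Λ A K (x' - x₁) = y₂ := by
        rw [map_sub, hx', hx₁, add_sub_cancel_left]
      calc t * normElt Λ K * x' =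
            t * normElt Λ K * x₁ + t * normElt Λ K * (x' - x₁) := by ring
        _ = 0 := by rw [h₁ x₁ hx₁, h₂ _ hx₂, add_zero]
    · intro r y₁ _ h₁ x' hx'
      obtain ⟨x₁, hx₁⟩ := quotMap_surjective Λ A K y₁
      obtain ⟨r', hr'⟩ := quotMap_surjective Λ A K r
      have h0 : quotMap Λ A K (x' - r' * x₁) = 0 := by
        rw [map_sub, map_mul, hx', hx₁, hr', smul_eq_mul, sub_self]
      have h2 := mul_normElt_eq_zero Λ K _ h0
      calc t * normElt Λ K * x' =
            t * ((x' - r' * x₁) * normElt Λ K) + r' * (t * normElt Λ K * x₁) := by ring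
        _ = 0 := by rw [h2, h₁ x₁ hx₁, mul_zero, mul_zero, add_zero]
  exact key _ hxmem x rfl

theorem exists_kill [Finite A] (hA : IsUnit ((Nat.card A : ℕ) : Λ)) {F : Type*} [Field F]
    (π : AddMonoidAlgebra Λ A →+* F) :
    ∃ (K : AddSubgroup A) (_ : IsAddCyclic (A ⧸ K)) (s : AddMonoidAlgebra Λ A), π s ≠ 0 ∧
      ∀ x, cycQuotMap Λ A K x = 0 → s * x = 0 := by
  classical
  let χm : Multiplicative A →* F := π.toMonoidHom.comp (AddMonoidAlgebra.of Λ A)
  have hχm : ∀ a : A, χm (Multiplicative.ofAdd a) = π (AddMonoidAlgebra.single a (1 : Λ)) :=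
    fun a => rfl
  clear_value χm
  let φ : A →+ Additive Fˣ := MonoidHom.toAdditiveRight χm.toHomUnits
  have hφ : ∀ a, φ a = Additive.ofMul (χm.toHomUnits (Multiplicative.ofAdd a)) := fun a => rfl
  clear_value φ
  have hKmem : ∀ a, a ∈ φ.ker ↔ π (AddMonoidAlgebra.single a (1 : Λ)) = 1 := by
    intro a
    rw [AddMonoidHom.mem_ker, hφ, ofMul_eq_zero, ← Units.val_eq_one, MonoidHom.coe_toHomUnits,
      hχm]
  have hcyc : IsAddCyclic (A ⧸ φ.ker) := by
    let ψa : A ⧸ φ.ker →+ Additive Fˣ := QuotientAddGroup.kerLift φ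
    have hψa : Function.Injective ψa := QuotientAddGroup.kerLift_injective φ
    let ψ : Multiplicative (A ⧸ φ.ker) →* F :=
      (Units.coeHom F).comp (AddMonoidHom.toMultiplicativeLeft ψa)
    have hψ : Function.Injective ψ := by
      intro x y h
      have h0 : (AddMonoidHom.toMultiplicativeLeft ψa) x =
          (AddMonoidHom.toMultiplicativeLeft ψa) y := Units.ext h
      have h1 : ψa x.toAdd = ψa y.toAdd := Additive.toMul.injective h0
      exact Multiplicative.toAdd.injective (hψa h1)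
    have h2 := isCyclic_of_injective_ringHom ψ hψ
    exact isCyclic_multiplicative_iff.1 h2
  letI : Fintype A := Fintype.ofFinite A
  let fac : A → ℕ → AddMonoidAlgebra Λ A := fun a e =>
    if e • a ∈ φ.ker then 1 else 1 - AddMonoidAlgebra.single (e • a) (1 : Λ)
  let t : AddMonoidAlgebra Λ A :=
    ∏ a : A, ∏ e ∈ (Nat.card (A ⧸ φ.ker)).properDivisors, fac a e
  have hKunit : IsUnit ((Nat.card φ.ker : ℕ) : Λ) := by
    obtain ⟨m, hm⟩ := AddSubgroup.card_addSubgroup_dvd_card φ.ker
    rw [hm, Nat.cast_mul] at hA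
    exact isUnit_of_mul_isUnit_left hA
  have hKF : ((Nat.card φ.ker : ℕ) : F) ≠ 0 := by
    have h1 := hKunit.map (π.comp (algebraMap Λ (AddMonoidAlgebra Λ A)))
    rw [map_natCast] at h1
    exact h1.ne_zero
  have hπN : π (normElt Λ φ.ker) = ((Nat.card φ.ker : ℕ) : F) := by
    unfold normElt
    letI := Fintype.ofFinite φ.ker
    rw [map_sum]
    have h1 : ∀ k : φ.ker, π (AddMonoidAlgebra.single (k : A) (1 : Λ)) = 1 :=
      fun k => (hKmem (k : A)).1 k.2
    simp only [h1]
    rw [Finset.sum_const, Finset.card_univ, nsmul_eq_mul, mul_one, ← Nat.card_eq_fintype_card]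
  refine ⟨φ.ker, hcyc, t * normElt Λ φ.ker, ?_, ?_⟩
  · intro h0
    rw [map_mul, mul_eq_zero] at h0
    rcases h0 with h0 | h0
    · rw [map_prod, Finset.prod_eq_zero_iff] at h0
      obtain ⟨a, _, h1⟩ := h0
      rw [map_prod, Finset.prod_eq_zero_iff] at h1
      obtain ⟨e, _, h2⟩ := h1
      by_cases hk : e • a ∈ φ.ker
      · simp only [fac, if_pos hk, map_one] at h2
        exact one_ne_zero h2
      · simp only [fac, if_neg hk, map_sub, map_one] at h2
        rw [sub_eq_zero] at h2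
        exact hk ((hKmem _).2 h2.symm)
    · rw [hπN] at h0
      exact hKF h0
  · intro x hx
    refine kill_of_dvd Λ φ.ker t ?_ x hx
    intro a hg
    have h3 : ∀ e ∈ (Nat.card (A ⧸ φ.ker)).properDivisors,
        fac a e = 1 - AddMonoidAlgebra.single (e • a) (1 : Λ) := by
      intro e he
      have hek : e • a ∉ φ.ker := by
        intro hmem
        have h4 : e • ((a : A) : A ⧸ φ.ker) = 0 := (QuotientAddGroup.eq_zero_iff _).2 hmem
        have h5 : addOrderOf ((a : A) : A ⧸ φ.ker) = Nat.card (A ⧸ φ.ker) :=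
          addOrderOf_eq_card_of_forall_mem_zmultiples (fun z => by rw [hg]; trivial)
        have h6 : Nat.card (A ⧸ φ.ker) ∣ e := by
          rw [← h5]
          exact addOrderOf_dvd_of_nsmul_eq_zero h4
        have h7 := Nat.mem_properDivisors.1 he
        exact absurd (Nat.le_of_dvd (Nat.pos_of_mem_properDivisors he) h6) (not_le.2 h7.2)
      simp only [fac, if_neg hek]
    have h4 : (∏ e ∈ (Nat.card (A ⧸ φ.ker)).properDivisors, fac a e) ∣ t :=
      Finset.dvd_prod_of_mem (fun a => ∏ e ∈ (Nat.card (A ⧸ φ.ker)).properDivisors, fac a e)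
        (Finset.mem_univ a)
    rw [Finset.prod_congr rfl h3] at h4
    exact h4

/-- Joint injectivity of the cyclotomic quotient maps. -/
theorem eq_zero_of_forall [Finite A] (hA : IsUnit ((Nat.card A : ℕ) : Λ))
    (x : AddMonoidAlgebra Λ A)
    (hx : ∀ B : AddSubgroup A, IsAddCyclic (A ⧸ B) → cycQuotMap Λ A B x = 0) : x = 0 := by
  by_contra hx0
  have hne : (Submodule.span (AddMonoidAlgebra Λ A)
      ({x} : Set (AddMonoidAlgebra Λ A))).annihilator ≠ ⊤ := by
    intro h
    have h1 : (1 : AddMonoidAlgebra Λ A) ∈ (Submodule.span (AddMonoidAlgebra Λ A)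
        ({x} : Set (AddMonoidAlgebra Λ A))).annihilator := by
      rw [h]; trivial
    rw [Submodule.mem_annihilator_span_singleton, one_smul] at h1
    exact hx0 h1
  obtain ⟨𝔪, h𝔪, hle⟩ := Ideal.exists_le_maximal _ hne
  letI : Field (AddMonoidAlgebra Λ A ⧸ 𝔪) := Ideal.Quotient.field 𝔪
  obtain ⟨K, hK, s, hs, hkill⟩ := exists_kill Λ hA (Ideal.Quotient.mk 𝔪)
  apply hs
  rw [Ideal.Quotient.eq_zero_iff_mem]
  apply hle
  rw [Submodule.mem_annihilator_span_singleton, smul_eq_mul]
  exact hkill x (hx K hK)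

end

section transport
variable (Λ : Type*) [CommRing Λ]

theorem mapDomain_mem_cycIdeal {C C' : Type*} [AddCommGroup C] [AddCommGroup C'] (θ : C ≃+ C')
    (y : AddMonoidAlgebra Λ C) (hy : y ∈ cycIdeal Λ C) :
    AddMonoidAlgebra.mapDomainRingHom Λ θ.toAddMonoidHom y ∈ cycIdeal Λ C' := by
  have hle : cycIdeal Λ C ≤
      (cycIdeal Λ C').comap (AddMonoidAlgebra.mapDomainRingHom Λ θ.toAddMonoidHom) := by
    unfold cycIdeal
    rw [Ideal.span_le]
    rintro _ ⟨g, hg, rfl⟩
    rw [SetLike.mem_coe, Ideal.mem_comap]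
    apply Ideal.subset_span
    refine ⟨θ g, ?_, ?_⟩
    · rw [AddSubgroup.eq_top_iff'] at hg ⊢
      intro z
      obtain ⟨k, hk⟩ := AddSubgroup.mem_zmultiples_iff.1 (hg (θ.symm z))
      refine AddSubgroup.mem_zmultiples_iff.2 ⟨k, ?_⟩
      rw [← map_zsmul, hk, AddEquiv.apply_symm_apply]
    · have hcard : Nat.card C = Nat.card C' := Nat.card_congr θ.toEquiv
      rw [← hcard]
      have h1 := Polynomial.aeval_algHom_apply
        (AddMonoidAlgebra.mapDomainAlgHom Λ Λ θ.toAddMonoidHom)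
        (AddMonoidAlgebra.single g (1 : Λ)) (cyclotomic (Nat.card C) Λ)
      have h2 : (AddMonoidAlgebra.mapDomainAlgHom Λ Λ θ.toAddMonoidHom)
          (AddMonoidAlgebra.single g (1 : Λ)) = AddMonoidAlgebra.single (θ g) 1 := by
        simp
      rw [h2] at h1
      exact h1.symm
  exact hle hy

end transport

end Groth.Agent.Lib.CycQuot2H4
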