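import Mathlib
import Groth.Prelude
import Groth.Agent.Lib.CycCI3_helper5

/-!
# Relative effective Cartier divisors and cycles, algebra (helper5)

* `cartier_identity(_int)`: for `B` Noetherian local, `f ∈ 𝔪_B` regular on `B/J`,
  `length (B/(J + f)) = ∑_P length (B_P/J B_P) · length (B/(P + f))` over the minimal primes of `J`;
* `isSMulRegular_quot_of_flat_quot`: if `B/(f)` is `A`-flat and `f` is a nonzerodivisor then `f` is a
  nonzerodivisor on `B/IB`;
* `length_quot_map_of_surjective`, `flat_quot_of_surjective`.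

APPEND-ONLY once landed.
-/

set_option autoImplicit false

namespace Groth.Agent.Lib.CycRCH5

open IsLocalRing Submodule
open Groth.Agent.Lib.SpecLenH5 Groth.Agent.Lib.CycSpH5 Groth.Agent.Lib.CycFPH5
open Groth.Agent.Lib.CycFDH5

universe u

section Alg

variable {B : Type u} [CommRing B] [IsLocalRing B] [IsNoetherianRing B]

/-- **The multiplicity formula for a hypersurface section of `B/J`.** -/
theorem cartier_identity (J : Ideal B) (hJle : J ≤ maximalIdeal B) (f : B)
    (hf : f ∈ maximalIdeal B) (hreg : IsSMulRegular (B ⧸ J) f)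
    (hfin : Module.length B (B ⧸ (J ⊔ Ideal.span {f})) ≠ ⊤) :
    (∀ P : PrimeSpectrum B, P.asIdeal ∈ J.minimalPrimes →
      cpm J P ≠ ⊤ ∧ Module.length B (B ⧸ (P.asIdeal ⊔ Ideal.span {f})) ≠ ⊤) ∧
    Module.length B (B ⧸ (J ⊔ Ideal.span {f})) =
      ∑ᶠ P : {P : PrimeSpectrum B // P.asIdeal ∈ J.minimalPrimes},
        cpm J P.1 * Module.length B (B ⧸ (P.1.asIdeal ⊔ Ideal.span {f})) := by
  classical
  have hann : Module.annihilator B (B ⧸ J) = J := Ideal.annihilator_quotient
  have hlen : Module.length B ((B ⧸ J) ⧸ (Ideal.span {f} • (⊤ : Submodule B (B ⧸ J)))) =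
      Module.length B (B ⧸ (J ⊔ Ideal.span {f})) := length_quot_smul_top J (Ideal.span {f})
  have hfin' : Module.length B ((B ⧸ J) ⧸ (Ideal.span {f} • (⊤ : Submodule B (B ⧸ J)))) ≠ ⊤ := by
    rw [hlen]
    exact hfin
  have hfac : ∀ P : PrimeSpectrum B, P.asIdeal ∈ J.minimalPrimes →
      cpm J P ≠ ⊤ ∧ Module.length B (B ⧸ (P.asIdeal ⊔ Ideal.span {f})) ≠ ⊤ := by
    intro P hP
    refine ⟨cpm_self_ne_top J P hP, ?_⟩
    exact (factors_ne_top f (B ⧸ J) hfin' P.asIdeal (by rw [hann]; exact hP)).2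
  refine ⟨hfac, ?_⟩
  haveI : Nontrivial (B ⧸ J) := Ideal.Quotient.nontrivial_iff.mpr
    (fun h => (maximalIdeal.isMaximal B).ne_top (top_le_iff.mp (h ▸ hJle)))
  have key := formula_local f hf (B ⧸ J) hreg hfin'
  rw [← hlen, key]
  -- reindex
  let ψ : {P : PrimeSpectrum B // P.asIdeal ∈ J.minimalPrimes} →
      (Module.annihilator B (B ⧸ J)).minimalPrimes := fun P =>
    ⟨P.1.asIdeal, by rw [hann]; exact P.2⟩
  have hψinj : Function.Injective ψ := by
    intro P Q hPQ
    apply Subtype.ext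
    apply PrimeSpectrum.ext
    exact congrArg Subtype.val hPQ
  have hψsurj : Function.Surjective ψ := by
    intro p
    have hgen : ∀ q : Ideal B, q ∈ (Module.annihilator B (B ⧸ J)).minimalPrimes →
        q ∈ J.minimalPrimes := by
      rw [hann]; exact fun q h => h
    have hp : p.1 ∈ J.minimalPrimes := hgen p.1 p.2
    exact ⟨⟨⟨p.1, hp.1.1⟩, hp⟩, rfl⟩
  rw [← finsum_comp_equiv (Equiv.ofBijective ψ ⟨hψinj, hψsurj⟩)]
  apply finsum_congr
  intro P
  haveI : (ψ P).1.IsPrime := P.1.isPrime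
  show Module.length (Localization.AtPrime P.1.asIdeal)
    (LocalizedModule P.1.asIdeal.primeCompl (B ⧸ J)) * _ = _
  rw [length_localizedModule_quot]
  rfl

/-- the multiplicity formula in `ℤ` -/
theorem cartier_identity_int (J : Ideal B) (hJle : J ≤ maximalIdeal B) (f : B)
    (hf : f ∈ maximalIdeal B) (hreg : IsSMulRegular (B ⧸ J) f)
    (hfin : Module.length B (B ⧸ (J ⊔ Ideal.span {f})) ≠ ⊤) :
    ((Module.length B (B ⧸ (J ⊔ Ideal.span {f}))).toNat : ℤ) =
      ∑ᶠ P : {P : PrimeSpectrum B // P.asIdeal ∈ J.minimalPrimes},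
        ((cpm J P.1).toNat : ℤ) *
          ((Module.length B (B ⧸ (P.1.asIdeal ⊔ Ideal.span {f}))).toNat : ℤ) := by
  obtain ⟨hfac, hid⟩ := cartier_identity J hJle f hf hreg hfin
  haveI := finite_minimalPrimes_subtype J
  have h1 := toNat_finsum_mul (Set.univ :
      Set {P : PrimeSpectrum B // P.asIdeal ∈ J.minimalPrimes}) Set.finite_univ
    (fun P => cpm J P.1)
    (fun P => Module.length B (B ⧸ (P.1.asIdeal ⊔ Ideal.span {f})))
    (Module.length B (B ⧸ (J ⊔ Ideal.span {f})))
    (fun P _ => (hfac P.1 P.2).1) (fun P _ => (hfac P.1 P.2).2)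
    (by rw [finsum_mem_univ]; exact hid)
  rw [finsum_mem_univ] at h1
  exact h1

/-- If `B/(f)` is flat over `A` and `f` is a nonzerodivisor of `B`, then `f` is a nonzerodivisor on
`B/IB` for every ideal `I` of `A`. -/
theorem isSMulRegular_quot_of_flat_quot {A : Type u} [CommRing A] {B : Type u} [CommRing B]
    [Algebra A B] (f : B)
    (hflat : Module.Flat A (B ⧸ Ideal.span {f})) (hf : IsSMulRegular B f) (I : Ideal A) :
    IsSMulRegular (B ⧸ I.map (algebraMap A B)) f := by
  let g : B →ₗ[A] B := LinearMap.mulLeft A f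
  let π : B →ₗ[A] B ⧸ Ideal.span {f} := (Submodule.mkQ (Ideal.span {f})).restrictScalars A
  have hπ : Function.Surjective π := Submodule.mkQ_surjective _
  have hg : Function.Injective g := fun a b hab => hf hab
  have hex : Function.Exact g π := by
    intro b
    constructor
    · intro hb
      have hb' : b ∈ Ideal.span {f} := (Submodule.Quotient.mk_eq_zero _).mp hb
      obtain ⟨c, rfl⟩ := Ideal.mem_span_singleton'.mp hb'
      exact ⟨c, mul_comm f c⟩
    · rintro ⟨c, rfl⟩
      show Submodule.Quotient.mk (f * c) = (0 : B ⧸ Ideal.span {f})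
      rw [Submodule.Quotient.mk_eq_zero]
      exact Ideal.mem_span_singleton'.mpr ⟨c, mul_comm c f⟩
  have hinj := LinearMap.lTensor_injective_of_exact_of_flat π hπ g hg hex (A ⧸ I)
  let e := TensorProduct.quotTensorEquivQuotSMul B I
  intro a b hab
  obtain ⟨a, rfl⟩ := Ideal.Quotient.mk_surjective a
  obtain ⟨b, rfl⟩ := Ideal.Quotient.mk_surjective b
  have hab' : f * a - f * b ∈ I.map (algebraMap A B) := by
    have : Ideal.Quotient.mk (I.map (algebraMap A B)) (f * a) =
        Ideal.Quotient.mk (I.map (algebraMap A B)) (f * b) := hab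
    exact (Ideal.Quotient.mk_eq_mk_iff_sub_mem _ _).mp this
  have hmem : ∀ c : B, c ∈ I.map (algebraMap A B) ↔ c ∈ (I • ⊤ : Submodule A B) := by
    intro c
    rw [Ideal.smul_top_eq_map]
    rfl
  have h1 : (g.lTensor (A ⧸ I)) ((Ideal.Quotient.mk I 1) ⊗ₜ[A] (a - b)) = 0 := by
    rw [LinearMap.lTensor_tmul]
    apply e.injective
    rw [map_zero, TensorProduct.quotTensorEquivQuotSMul_mk_tmul, one_smul]
    rw [Submodule.Quotient.mk_eq_zero, ← hmem]
    show f * (a - b) ∈ _
    rw [mul_sub]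
    exact hab'
  have h2 : (Ideal.Quotient.mk I 1) ⊗ₜ[A] (a - b) = (0 : TensorProduct A (A ⧸ I) B) :=
    hinj (by rw [h1, map_zero])
  have h3 := congrArg e h2
  rw [map_zero, TensorProduct.quotTensorEquivQuotSMul_mk_tmul, one_smul,
    Submodule.Quotient.mk_eq_zero, ← hmem] at h3
  exact (Ideal.Quotient.mk_eq_mk_iff_sub_mem _ _).mpr h3

end Alg

section Alg2

/-- lengths of quotients along a surjective ring homomorphism, general ideal -/
theorem length_quot_map_of_surjective {B B' : Type u} [CommRing B] [CommRing B'] (ψ : B →+* B')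
    (hψ : Function.Surjective ψ) (J : Ideal B) :
    Module.length B' (B' ⧸ J.map ψ) = Module.length B (B ⧸ (J ⊔ RingHom.ker ψ)) := by
  letI : Algebra B B' := ψ.toAlgebra
  have hψ' : Function.Surjective (algebraMap B B') := hψ
  rw [← Module.length_eq_of_surjective (S := B) (R := B') (M := B' ⧸ J.map ψ) hψ']
  let g : B →ₗ[B] B' ⧸ J.map ψ :=
    ((Submodule.mkQ (J.map ψ)).restrictScalars B).comp (Algebra.linearMap B B')
  have hg : Function.Surjective g := by
    intro z
    obtain ⟨b, rfl⟩ := Submodule.Quotient.mk_surjective _ z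
    obtain ⟨x, rfl⟩ := hψ b
    exact ⟨x, rfl⟩
  have hker : LinearMap.ker g = J ⊔ RingHom.ker ψ := by
    ext x
    rw [LinearMap.mem_ker]
    show Submodule.Quotient.mk (ψ x) = (0 : B' ⧸ J.map ψ) ↔ _
    rw [Submodule.Quotient.mk_eq_zero]
    have h1 : ψ x ∈ J.map ψ ↔ x ∈ (J.map ψ).comap ψ := Iff.rfl
    rw [h1, Ideal.comap_map_of_surjective ψ hψ J]
    rfl
  have e1 : (B ⧸ LinearMap.ker g) ≃ₗ[B] B' ⧸ J.map ψ :=
    LinearMap.quotKerEquivOfSurjective g hg
  have e2 : (B ⧸ LinearMap.ker g) ≃ₗ[B] (B ⧸ (J ⊔ RingHom.ker ψ)) :=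
    Submodule.quotEquivOfEq _ _ hker
  exact (e1.symm.trans e2).length_eq

/-- transport of flatness to the quotient presenting a surjective image -/
theorem flat_quot_of_surjective {A B B' : Type u} [CommRing A] [CommRing B] [CommRing B']
    [Algebra A B] (ψ : B →+* B') (hψ : Function.Surjective ψ) (f : B)
    (hker : RingHom.ker ψ = Ideal.span {f})
    (hflat : (ψ.comp (algebraMap A B)).Flat) : Module.Flat A (B ⧸ Ideal.span {f}) := by
  letI : Algebra A B' := (ψ.comp (algebraMap A B)).toAlgebra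
  haveI : Module.Flat A B' := hflat
  let e0 : (B ⧸ RingHom.ker ψ) ≃+* B' := RingHom.quotientKerEquivOfSurjective hψ
  let e : (B ⧸ RingHom.ker ψ) ≃ₗ[A] B' :=
    { e0.toAddEquiv with
      map_smul' := by
        intro a z
        obtain ⟨b, rfl⟩ := Ideal.Quotient.mk_surjective z
        show e0 (a • Ideal.Quotient.mk _ b) = a • e0 (Ideal.Quotient.mk _ b)
        have h1 : a • (Ideal.Quotient.mk (RingHom.ker ψ) b) =
            Ideal.Quotient.mk (RingHom.ker ψ) (algebraMap A B a * b) := by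
          rw [Algebra.smul_def]
          rfl
        rw [h1]
        have h2 : ∀ c : B, e0 (Ideal.Quotient.mk (RingHom.ker ψ) c) = ψ c :=
          fun c => RingHom.quotientKerEquivOfSurjective_apply_mk hψ c
        rw [h2, h2, map_mul, Algebra.smul_def]
        rfl }
  have hfl : Module.Flat A (B ⧸ RingHom.ker ψ) := Module.Flat.of_linearEquiv e
  rwa [hker] at hfl

end Alg2

end Groth.Agent.Lib.CycRCH5
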