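import Mathlib
import Groth.Prelude
import Groth.Agent.Lib.CycRC1_helper5
import Groth.Agent.Lib.DimIneq_helper8

/-!
# Relative effective Cartier divisors and cycles (helper5)

* `deltaCompat_comp_closedImmersion`, `pmult_comp_closedImmersion`;
* `local_formula`: `length (B/(𝔪_y B + f)) = ∑_{ξ'} pmult ξ' · ord_{ξ' ⤳ x}(f)` over the points `ξ'`
  maximal in the fibre through `x`, `B = O_{X,x}`;
* `mk_germ_eq`, `secOrdAt_gysinChoice`;
* `ratEquiv_refl'`, `gysin_pull_eq`: for a relative effective Cartier divisor `i : D → X` over `Y`,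
  `i^*(p^*α) = (p|_D)^*α` coefficientwise.

APPEND-ONLY once landed.
-/

set_option autoImplicit false

namespace Groth.Agent.Lib.CycRCH5

open IsLocalRing AlgebraicGeometry CategoryTheory TopologicalSpace
open Groth.Agent.Lib.SpecLenH5 Groth.Agent.Lib.CycSpH5 Groth.Agent.Lib.CycFBCH5
open Groth.Agent.Lib.CycFPH5 Groth.Agent.DimFunH8 Groth.Agent.Lib.CycFDH5 SecOrdH8
open Groth.Agent.Lib.CycCIH5 Groth.Agent.Lib.CycC1PH5

universe u

section Geo

variable {D X Y : Scheme.{u}}

theorem deltaCompat_comp_closedImmersion (i : D ⟶ X) [IsClosedImmersion i] (p : X ⟶ Y)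
    (δX : X → ℤ) (δY : Y → ℤ) (hδ : Cyc.DeltaCompat p δX δY) :
    Cyc.DeltaCompat (i ≫ p) (fun d => δX (i d)) δY := by
  intro d
  obtain ⟨n, hn, hx⟩ := hδ (i d)
  refine ⟨n, ?_, hx⟩
  have hbij : Function.Bijective (i.residueFieldMap d).hom :=
    ⟨(i.residueFieldMap d).hom.injective, residueFieldMap_surjective i d⟩
  have h3 : @Algebra.trdeg (Y.residueField (p (i d))) (X.residueField (i d)) _ _
      (p.residueFieldMap (i d)).hom.toAlgebra =
      @Algebra.trdeg (Y.residueField ((i ≫ p) d)) (D.residueField d) _ _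
        ((i ≫ p).residueFieldMap d).hom.toAlgebra := by
    letI a1 : Algebra (Y.residueField (p (i d))) (X.residueField (i d)) :=
      (p.residueFieldMap (i d)).hom.toAlgebra
    letI a2 : Algebra (Y.residueField ((i ≫ p) d)) (D.residueField d) :=
      ((i ≫ p).residueFieldMap d).hom.toAlgebra
    refine Groth.Agent.DimIneqH8.trdeg_eq_of_ringEquiv
      (RingEquiv.refl (Y.residueField (p (i d))))
      (RingEquiv.ofBijective (i.residueFieldMap d).hom hbij) ?_
    intro r
    show (i.residueFieldMap d).hom ((p.residueFieldMap (i d)).hom r) =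
      ((i ≫ p).residueFieldMap d).hom r
    rw [Scheme.residueFieldMap_comp]
    rfl
  rw [← h3]
  exact hn

theorem pmult_comp_closedImmersion (i : D ⟶ X) [IsClosedImmersion i] (p : X ⟶ Y) (d : D)
    (f : X.presheaf.stalk (i d)) (hker : RingHom.ker (i.stalkMap d).hom = Ideal.span {f}) :
    pmult (i ≫ p) d = Module.length (X.presheaf.stalk (i d)) (X.presheaf.stalk (i d) ⧸
      ((maximalIdeal (Y.presheaf.stalk (p (i d)))).map (p.stalkMap (i d)).hom ⊔
        Ideal.span {f})) := by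
  have hcomp : ((i ≫ p).stalkMap d).hom = (i.stalkMap d).hom.comp (p.stalkMap (i d)).hom := by
    rw [Scheme.Hom.stalkMap_comp]
    rfl
  rw [← hker, ← length_quot_map_of_surjective (i.stalkMap d).hom (i.stalkMap_surjective d),
    Ideal.map_map, ← hcomp]
  rfl

end Geo

section Loc

variable {X Y : Scheme.{u}}

open Classical in
/-- **The local formula**: for `f` in the maximal ideal of `B = O_{X,x}`, regular on the fibre ring
`B/𝔪_{p x}B`, the length of `B/(𝔪_{p x}B + f)` is the sum over the points `ξ'` maximal in the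
fibre through `x` of `pmult ξ' · ord_{ξ' ⤳ x}(f)`. -/
theorem local_formula [IsLocallyNoetherian X] [IsLocallyNoetherian Y] (p : X ⟶ Y) [Flat p]
    (δX : X → ℤ) (hδX : Cyc.IsDimFun X δX) (x : X) (f : X.presheaf.stalk x)
    (hf : f ∈ maximalIdeal (X.presheaf.stalk x))
    (hreg : IsSMulRegular (X.presheaf.stalk x ⧸
      (maximalIdeal (Y.presheaf.stalk (p x))).map (p.stalkMap x).hom) f)
    (hfin : Module.length (X.presheaf.stalk x) (X.presheaf.stalk x ⧸
      ((maximalIdeal (Y.presheaf.stalk (p x))).map (p.stalkMap x).hom ⊔ Ideal.span {f})) ≠ ⊤)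
    (hdX : ∀ ξ' : X, FibMax p ξ' → p ξ' = p x → δX ξ' ≤ δX x + 1)
    (hfξ : ∀ (ξ' : X) (h : ξ' ⤳ x), FibMax p ξ' → p ξ' = p x →
      f ∉ RingHom.ker (Cyc.specMap x ξ' h)) :
    ((Module.length (X.presheaf.stalk x) (X.presheaf.stalk x ⧸
      ((maximalIdeal (Y.presheaf.stalk (p x))).map (p.stalkMap x).hom ⊔
        Ideal.span {f}))).toNat : ℤ) =
      ∑ᶠ ξ' : {ξ' : X // FibMax p ξ' ∧ p ξ' = p x}, ((pmult p ξ'.1).toNat : ℤ) *
        (if h : ξ'.1 ⤳ x then Cyc.ordAt x ξ'.1 h (Cyc.specMap x ξ'.1 h f) else 0) := by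
  have hxx : p x ⤳ p x := specializes_rfl
  have hJ : (RingHom.ker (Cyc.specMap (p x) (p x) hxx)).map (p.stalkMap x).hom =
      (maximalIdeal (Y.presheaf.stalk (p x))).map (p.stalkMap x).hom := by
    rw [ker_specMap_self]
  have hJle : (RingHom.ker (Cyc.specMap (p x) (p x) hxx)).map (p.stalkMap x).hom ≤
      maximalIdeal (X.presheaf.stalk x) := by
    rw [hJ]
    have hloc : IsLocalHom (p.stalkMap x).hom := inferInstance
    exact ((IsLocalRing.local_hom_TFAE (p.stalkMap x).hom).out 0 2).mp hloc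
  rw [← hJ] at hreg hfin ⊢
  rw [cartier_identity_int _ hJle f hf hreg hfin, ← finsum_mem_univ,
    ← finsum_mem_univ (fun ξ' : {ξ' : X // FibMax p ξ' ∧ p ξ' = p x} => _),
    finsum_mem_inter_support_eq' _ Set.univ
      {ξ' : {ξ' : X // FibMax p ξ' ∧ p ξ' = p x} | ξ'.1 ⤳ x}]
  · apply finsum_mem_eq_of_bijOn (toIdx p x (p x) hxx) (toIdx_bijOn p x (p x) hxx)
    intro P _
    have h' : (toIdx p x (p x) hxx P).1 ⤳ x := φ_specializes X x P.1
    have hmax := (toIdx p x (p x) hxx P).2.1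
    have e := (toIdx p x (p x) hxx P).2.2
    haveI hkX := OrdFlatH8.krullDimLE_one_locQuot δX hδX x (toIdx p x (p x) hxx P).1 h'
      (hdX _ hmax e)
    rw [dif_pos h']
    have hf' : p (toIdx p x (p x) hxx P).1 ⤳ p x := h'.map p.continuous
    have hk : RingHom.ker (Cyc.specMap x (toIdx p x (p x) hxx P).1 h') = P.1.asIdeal :=
      ker_specMap_φ x P.1
    have h3 : (⟨RingHom.ker (Cyc.specMap x (toIdx p x (p x) hxx P).1 h'), RingHom.ker_isPrime _⟩ :
        PrimeSpectrum (X.presheaf.stalk x)) = P.1 := PrimeSpectrum.ext hk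
    have hfP := hfξ _ h' hmax e
    have h1P : (1 : X.presheaf.stalk x) ∉
        RingHom.ker (Cyc.specMap x (toIdx p x (p x) hxx P).1 h') := by
      rw [RingHom.mem_ker, map_one]
      exact one_ne_zero
    have hord := ordAt_div x (toIdx p x (p x) hxx P).1 h' f 1 hfP h1P
    rw [map_one, div_one] at hord
    have hzero : Module.length (X.presheaf.stalk x) (X.presheaf.stalk x ⧸
        (RingHom.ker (Cyc.specMap x (toIdx p x (p x) hxx P).1 h') ⊔
          Ideal.span {(1 : X.presheaf.stalk x)})) = 0 := by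
      rw [Ideal.span_singleton_one, sup_top_eq, Module.length_eq_zero_iff]
      infer_instance
    rw [hzero] at hord
    rw [hord, pmult_eq_cpm_stalk p x _ h' hf',
      ker_specMap_congr (p x) (p (toIdx p x (p x) hxx P).1) (p x) e hf' hxx, h3, hk]
    simp
  · intro ξ' hξ'
    simp only [Set.mem_univ, Set.mem_ofPred_eq, true_iff]
    by_contra hns
    apply hξ'
    show _ * (if h : ξ'.1 ⤳ x then _ else 0) = 0
    rw [dif_neg hns, mul_zero]

end Loc

section Sec

variable {X : Scheme.{u}}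

theorem mk_germ_eq (L : X.Modules) (s : L.presheaf.obj (Opposite.op ⊤)) {x ξ' : X} (h' : ξ' ⤳ x)
    (t : L.presheaf.stalk x) (f : X.presheaf.stalk x)
    (hs : (L.presheaf.germ ⊤ x trivial) s = f • t) :
    (Submodule.Quotient.mk ((L.presheaf.germ ⊤ ξ' trivial) s) : Cyc.secFibre L ξ') =
      X.presheaf.stalkSpecializes h' f • fmk L ξ' (L.presheaf.stalkSpecializes h' t) := by
  have h1 : (L.presheaf.germ ⊤ ξ' trivial) s =
      L.presheaf.stalkSpecializes h' ((L.presheaf.germ ⊤ x trivial) s) :=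
    (stalkSpecializes_germ L h' ⊤ trivial s).symm
  rw [h1, hs, stalkSpecializes_smul]
  rfl

/-- the order of the Gysin section along `ξ' ⤳ x` at a point `ξ'` outside the zero scheme -/
theorem secOrdAt_gysinChoice {L : X.Modules} (hL : PicF.IsInvertible L)
    (s : L.presheaf.obj (Opposite.op ⊤)) (w : (ξ : X) → Cyc.secFibre L ξ) {x ξ' : X}
    (h' : ξ' ⤳ x) (t : L.presheaf.stalk x) (ht : IsFreeGen L x t) (f : X.presheaf.stalk x)
    (hs : (L.presheaf.germ ⊤ x trivial) s = f • t)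
    (hne : (Submodule.Quotient.mk ((L.presheaf.germ ⊤ ξ' trivial) s) : Cyc.secFibre L ξ') ≠ 0) :
    Cyc.secOrdAt L ξ' x h' (Cyc.gysinChoice L s w ξ') =
        Cyc.ordAt x ξ' h' (Cyc.specMap x ξ' h' f) ∧
      f ∉ RingHom.ker (Cyc.specMap x ξ' h') := by
  have hgc : Cyc.gysinChoice L s w ξ' =
      Submodule.Quotient.mk ((L.presheaf.germ ⊤ ξ' trivial) s) := by
    unfold Cyc.gysinChoice
    rw [if_pos hne]
  have hφ := mk_germ_eq L s h' t f hs
  constructor
  · rw [hgc, secOrdAt_eq hL h' _ ht _ hφ]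
    rfl
  · intro hmem
    apply hne
    rw [hφ, (ht.stalkSpecializes hL h').fibre_smul_eq_zero_iff]
    rw [RingHom.mem_ker] at hmem
    exact (IsLocalRing.residue_eq_zero_iff _).mp hmem

end Sec

section Main

variable {D X Y : Scheme.{u}}

theorem ratEquiv_refl' {Z : Scheme.{u}} (δ : Z → ℤ) (k : ℤ) (a b : AlgebraicCycle Z ℤ)
    (hab : ∀ z, a z = b z) : Cyc.RatEquiv δ k a b := by
  refine ⟨PEmpty, fun e => e.elim, fun e => e.elim, fun e => e.elim, fun e => e.elim, ?_, ?_⟩
  · intro x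
    refine ⟨Set.univ, isOpen_univ, trivial, ?_⟩
    exact Set.toFinite _
  · intro x
    rw [Function.locallyFinsuppWithin.coe_sub]
    show a x - b x = _
    rw [hab x, sub_self]
    symm
    apply finsum_eq_zero_of_forall_eq_zero
    intro e
    exact e.elim

open Classical in
set_option maxHeartbeats 1600000 in
/-- **Relative effective Cartier divisors**: `i^*(p^*α) = (p|_D)^*α` coefficientwise. -/
theorem gysin_pull_eq (δX : X → ℤ) (δY : Y → ℤ) (hX : Cyc.IsSetup X δX) (hY : Cyc.IsSetup Y δY)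
    (p : X ⟶ Y) [Flat p] [LocallyOfFiniteType p] (r : ℕ) (hr : Cyc.HasRelDim p (r + 1))
    (hδ : Cyc.DeltaCompat p δX δY) (L : X.Modules) (hL : PicF.IsInvertible L)
    (s : L.presheaf.obj (Opposite.op ⊤))
    (hreg : ∀ x : X, Function.Injective
      (fun a : X.presheaf.stalk x => a • (L.presheaf.germ ⊤ x trivial) s))
    (i : D ⟶ X) [IsClosedImmersion i] (hD : Cyc.IsZeroSchemeOf i L s) [Flat (i ≫ p)]
    (hrD : Cyc.HasRelDim (i ≫ p) r) (k : ℤ) (α : AlgebraicCycle Y ℤ)
    (hα : α ∈ Cyc.Zk Y δY (k + 1)) (w : (ξ : X) → Cyc.secFibre L ξ) (d : D) :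
    Cyc.c1CapFun δX L (Cyc.pullFun p δX δY (r + 1) ⇑α) (Cyc.gysinChoice L s w) (i d) =
      Cyc.pullFun (i ≫ p) (fun d => δX (i d)) δY r ⇑α d := by
  haveI : IsLocallyNoetherian X := hX.1
  haveI : IsLocallyNoetherian Y := hY.1
  have hDs := isSetup_of_isClosedImmersion i δX hX
  haveI : IsLocallyNoetherian D := hDs.1
  have hδX := hX.2.2
  have hδY := hY.2.2
  have hFMp : ∀ z : X, δX z = δY (p z) + ((r : ℤ) + 1) ↔ FibMax p z := by
    intro z
    have := delta_eq_iff_fibMax p δX δY (r + 1) hr hδ z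
    push_cast at this
    exact this
  have hδq := deltaCompat_comp_closedImmersion i p δX δY hδ
  have hFMq : ∀ d : D, δX (i d) = δY ((i ≫ p) d) + (r : ℤ) ↔ FibMax (i ≫ p) d :=
    delta_eq_iff_fibMax (i ≫ p) (fun d => δX (i d)) δY r hrD hδq
  have hleq : ∀ d : D, δX (i d) ≤ δY (p (i d)) + (r : ℤ) :=
    CycPullH8.delta_le (i ≫ p) (fun d => δX (i d)) δY r hrD hδq
  -- points of `D` are not maximal in the fibres of `p`
  have hnotD : ∀ ξ : X, FibMax p ξ → ξ ∉ Set.range i := by
    rintro ξ hmax ⟨d', rfl⟩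
    have h1 := (hFMp (i d')).mpr hmax
    have h2 := hleq d'
    omega
  have hmkne : ∀ ξ : X, FibMax p ξ →
      (Submodule.Quotient.mk ((L.presheaf.germ ⊤ ξ trivial) s) : Cyc.secFibre L ξ) ≠ 0 := by
    intro ξ hmax h0
    apply hnotD ξ hmax
    rw [hD.1]
    exact h0
  -- the terms
  have hterm : ∀ ξ : X, Cyc.pullFun p δX δY ((r : ℤ) + 1) ⇑α ξ *
      Cyc.secDivFun δX L ξ (Cyc.gysinChoice L s w ξ) (i d) ≠ 0 →
      FibMax p ξ ∧ p ξ = p (i d) ∧ δY (p (i d)) = k + 1 ∧ δX (i d) = δY (p (i d)) + r := by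
    intro ξ hne
    have hA := left_ne_zero_of_mul hne
    have hS := right_ne_zero_of_mul hne
    rw [pullFun_eq] at hA
    have hc : δX ξ = δY (p ξ) + ((r : ℤ) + 1) := by
      by_contra hc
      rw [if_neg hc] at hA
      exact hA rfl
    rw [if_pos hc] at hA
    have hα0 : α (p ξ) ≠ 0 := left_ne_zero_of_mul hA
    have hk : δY (p ξ) = k + 1 := by
      by_contra hk
      exact hα0 (hα (p ξ) hk)
    have hsd : ξ ⤳ i d ∧ δX (i d) + 1 = δX ξ := by
      by_contra hsd
      exact hS (secDivFun_neg δX L ξ (i d) _ hsd)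
    have hsp : p ξ ⤳ p (i d) := hsd.1.map p.continuous
    have h2 := hleq d
    have hpe : p ξ = p (i d) := by
      by_contra hpne
      have := (hδY _ _ hsp hpne).1
      omega
    refine ⟨(hFMp ξ).mp hc, hpe, ?_, ?_⟩
    · rw [← hpe]; exact hk
    · rw [← hpe]; omega
  by_cases hmain : δX (i d) = δY (p (i d)) + r ∧ δY (p (i d)) = k + 1
  swap
  · -- the trivial case
    have hL0 : Cyc.c1CapFun δX L (Cyc.pullFun p δX δY ((r : ℤ) + 1) ⇑α) (Cyc.gysinChoice L s w)
        (i d) = 0 := by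
      apply finsum_eq_zero_of_forall_eq_zero
      intro ξ
      by_contra hne
      obtain ⟨-, -, h3, h4⟩ := hterm ξ hne
      exact hmain ⟨h4, h3⟩
    rw [hL0, pullFun_eq]
    by_cases hc : δX (i d) = δY ((i ≫ p) d) + (r : ℤ)
    · rw [if_pos hc]
      have hk : δY (p (i d)) ≠ k + 1 := fun hk => hmain ⟨hc, hk⟩
      have : α ((i ≫ p) d) = 0 := hα (p (i d)) hk
      rw [this, zero_mul]
    · rw [if_neg hc]
  -- the main case
  obtain ⟨hmain1, hmain2⟩ := hmain
  obtain ⟨t, f, hspan, hs, hker⟩ := hD.2 d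
  obtain ⟨t₀, ht₀⟩ := exists_isFreeGen hL (i d)
  obtain ⟨u, hu, rfl⟩ := ht₀.exists_unit hspan
  have ht : IsFreeGen L (i d) (u • t₀) := ht₀.smul_unit hu
  -- `f` is a nonzerodivisor in the maximal ideal
  have hfreg : IsSMulRegular (X.presheaf.stalk (i d)) f := by
    intro a b hab
    have hab' : f * a = f * b := hab
    have h1 : (a - b) • (L.presheaf.germ ⊤ (i d) trivial) s =
        (0 : X.presheaf.stalk (i d)) • (L.presheaf.germ ⊤ (i d) trivial) s := by
      rw [hs, smul_smul, zero_smul]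
      have : (a - b) * f = 0 := by rw [sub_mul, mul_comm a f, mul_comm b f, hab', sub_self]
      rw [this, zero_smul]
    have h2 := hreg (i d) h1
    exact sub_eq_zero.mp h2
  have hfm : f ∈ maximalIdeal (X.presheaf.stalk (i d)) := by
    rw [mem_maximalIdeal, mem_nonunits_iff]
    intro hfu
    have h1 : RingHom.ker (i.stalkMap d).hom = ⊤ := by
      rw [hker]
      exact Ideal.span_singleton_eq_top.mpr hfu
    exact (RingHom.ker_ne_top (i.stalkMap d).hom) h1
  -- flatness of `B/(f)`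
  letI algAB : Algebra (Y.presheaf.stalk (p (i d))) (X.presheaf.stalk (i d)) :=
    (p.stalkMap (i d)).hom.toAlgebra
  have hcomp : ((i ≫ p).stalkMap d).hom = (i.stalkMap d).hom.comp (p.stalkMap (i d)).hom := by
    rw [Scheme.Hom.stalkMap_comp]
    rfl
  have hflatq : ((i.stalkMap d).hom.comp
      (algebraMap (Y.presheaf.stalk (p (i d))) (X.presheaf.stalk (i d)))).Flat := by
    have := Flat.stalkMap (i ≫ p) d
    rw [hcomp] at this
    exact this
  have hflatB : Module.Flat (Y.presheaf.stalk (p (i d)))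
      (X.presheaf.stalk (i d) ⧸ Ideal.span {f}) :=
    flat_quot_of_surjective (i.stalkMap d).hom (i.stalkMap_surjective d) f hker hflatq
  have hregJ : IsSMulRegular (X.presheaf.stalk (i d) ⧸
      (maximalIdeal (Y.presheaf.stalk (p (i d)))).map (p.stalkMap (i d)).hom) f :=
    isSMulRegular_quot_of_flat_quot f hflatB hfreg (maximalIdeal (Y.presheaf.stalk (p (i d))))
  have hpm := pmult_comp_closedImmersion i p d f hker
  have hfinJ : Module.length (X.presheaf.stalk (i d)) (X.presheaf.stalk (i d) ⧸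
      ((maximalIdeal (Y.presheaf.stalk (p (i d)))).map (p.stalkMap (i d)).hom ⊔
        Ideal.span {f})) ≠ ⊤ := by
    rw [← hpm]
    exact pmult_ne_top_of_fibMax (i ≫ p) d ((hFMq d).mp hmain1)
  have hdimξ : ∀ ξ' : X, FibMax p ξ' → p ξ' = p (i d) → δX (i d) + 1 = δX ξ' := by
    intro ξ' hmax e
    have := (hFMp ξ').mpr hmax
    rw [e] at this
    omega
  have hloc := local_formula p δX hδX (i d) f hfm hregJ hfinJ
    (fun ξ' hmax e => le_of_eq (hdimξ ξ' hmax e).symm)
    (fun ξ' h' hmax e => (secOrdAt_gysinChoice hL s w h' (u • t₀) ht f hs (hmkne ξ' hmax)).2)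
  -- the right hand side
  have hmain1' : δX (i d) = δY ((i ≫ p) d) + (r : ℤ) := hmain1
  rw [pullFun_eq, if_pos hmain1', hpm, hloc, mul_finsum]
  -- the left hand side
  rw [finsum_subtype_dite (fun ξ' : X => FibMax p ξ' ∧ p ξ' = p (i d))]
  apply finsum_congr
  intro ξ
  by_cases hP : FibMax p ξ ∧ p ξ = p (i d)
  · rw [dif_pos hP, pullFun_eq, if_pos ((hFMp ξ).mpr hP.1), hP.2]
    have hαe : α ((i ≫ p) d) = α (p (i d)) := rfl
    rw [hαe, mul_assoc]
    congr 2
    by_cases hsp : ξ ⤳ i d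
    · rw [dif_pos hsp, secDivFun_pos δX L ξ (i d) _ ⟨hsp, hdimξ ξ hP.1 hP.2⟩]
      exact (secOrdAt_gysinChoice hL s w hsp (u • t₀) ht f hs (hmkne ξ hP.1)).1
    · rw [dif_neg hsp, secDivFun_neg δX L ξ (i d) _ (fun h => hsp h.1)]
  · rw [dif_neg hP]
    by_contra hne
    obtain ⟨h1, h2, -, -⟩ := hterm ξ hne
    exact hP ⟨h1, h2⟩

end Main

end Groth.Agent.Lib.CycRCH5
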