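import Mathlib
import Groth.Prelude

set_option autoImplicit false
set_option linter.style.haveILetI false
set_option linter.unusedVariables false

universe u v

open SimpleGraph

namespace Groth.Agent.Lib.CycSpH4

variable {V : Type u} [Fintype V] [DecidableEq V]

/-- vertex sums -/
def D {M : Type*} [AddCommMonoid M] (x : Sym2 V → M) (v : V) : M :=
  ∑ e ∈ (Finset.univ : Finset (Sym2 V)).filter (fun e => v ∈ e), x e

theorem D_sub {M : Type*} [AddCommGroup M] (x y : Sym2 V → M) (v : V) :
    D (x - y) v = D x v - D y v := by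
  unfold D
  simp only [Pi.sub_apply, Finset.sum_sub_distrib]

theorem D_zero {M : Type*} [AddCommMonoid M] (v : V) : D (0 : Sym2 V → M) v = 0 := by
  unfold D
  simp

theorem D_single (e : Sym2 V) (v : V) :
    D (Pi.single e (1 : ℤ)) v = if v ∈ e then 1 else 0 := by
  unfold D
  rw [Finset.sum_filter]
  by_cases h : v ∈ e
  · rw [if_pos h, Finset.sum_eq_single e]
    · rw [if_pos h, Pi.single_eq_same]
    · intro b _ hb
      split_ifs
      · exact Pi.single_eq_of_ne hb _
      · rfl
    · intro h'; exact absurd (Finset.mem_univ e) h'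
  · rw [if_neg h]
    apply Finset.sum_eq_zero
    intro b _
    split_ifs with hb
    · apply Pi.single_eq_of_ne
      rintro rfl
      exact h hb
    · rfl

theorem duality {A : Type v} [AddCommGroup A] (φ : V → ℤ) (x : Sym2 V → A) :
    ∑ w, φ w • D x w =
      ∑ e : Sym2 V, (∑ w ∈ Finset.univ.filter (fun w => w ∈ e), φ w) • x e := by
  calc ∑ w, φ w • D x w = ∑ w, ∑ e : Sym2 V, if w ∈ e then φ w • x e else 0 := by
        apply Finset.sum_congr rfl
        intro w _
        unfold D
        rw [Finset.smul_sum, Finset.sum_filter]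
    _ = ∑ e : Sym2 V, ∑ w, if w ∈ e then φ w • x e else 0 := Finset.sum_comm
    _ = _ := by
        apply Finset.sum_congr rfl
        intro e _
        rw [Finset.sum_smul, Finset.sum_filter]

theorem filter_mem_mk (a b : V) :
    (Finset.univ.filter (fun w => w ∈ s(a, b))) = {a, b} := by
  ext w
  simp [Sym2.mem_iff]

theorem sum_mem_mk (φ : V → ℤ) (a b : V) (hab : a ≠ b) :
    ∑ w ∈ Finset.univ.filter (fun w => w ∈ s(a, b)), φ w = φ a + φ b := by
  rw [filter_mem_mk, Finset.sum_pair hab]

/-- bipartite sign -/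
def eps (c : V → Bool) (w : V) : ℤ := if c w then 1 else -1

theorem eps_add (c : V → Bool) (a b : V) (h : c a ≠ c b) : eps c a + eps c b = 0 := by
  unfold eps
  cases ha : c a <;> cases hb : c b <;> simp_all

theorem eps_smul {A : Type v} [AddCommGroup A] (c : V → Bool) (w : V) (y : A)
    (h : eps c w • y = 0) : y = 0 := by
  unfold eps at h
  cases hv : c w
  · rw [hv] at h; simpa using h
  · rw [hv] at h; simpa using h

theorem tree_zero {A : Type v} [AddCommGroup A] (G T : SimpleGraph V) (hT : T.IsAcyclic)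
    (hle : T ≤ G) (c : V → Bool) (hbip : ∀ v w, G.Adj v w → c v ≠ c w)
    (x : Sym2 V → A) (hx : ∀ e, e ∉ T.edgeSet → x e = 0) (hD : ∀ v, D x v = 0) : x = 0 := by
  classical
  funext e
  by_cases he : e ∈ T.edgeSet
  swap
  · exact hx e he
  revert he
  refine Sym2.ind (fun u w => ?_) e
  intro he
  have hadj : T.Adj u w := (mem_edgeSet T).mp he
  have hbr := (isAcyclic_iff_forall_adj_isBridge.mp hT) hadj
  rw [isBridge_iff] at hbr
  have hdual := duality (fun t => if (T.deleteEdges {s(u, w)}).Reachable u t then eps c t else 0) x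
  have hL : ∑ t, (if (T.deleteEdges {s(u, w)}).Reachable u t then eps c t else 0) • D x t = 0 :=
    Finset.sum_eq_zero (fun t _ => by rw [hD t, smul_zero])
  rw [hL, Finset.sum_eq_single s(u, w)] at hdual
  · rw [sum_mem_mk _ u w hadj.ne, if_pos (Reachable.refl u), if_neg hbr, add_zero] at hdual
    exact eps_smul c u _ hdual.symm
  · intro e' _ hne
    by_cases he' : e' ∈ T.edgeSet
    · revert he' hne
      refine Sym2.ind (fun a b => ?_) e'
      intro hne he'
      have hab : T.Adj a b := (mem_edgeSet T).mp he'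
      rw [sum_mem_mk _ a b hab.ne]
      have hab' : (T.deleteEdges {s(u, w)}).Adj a b := by
        rw [deleteEdges_adj]
        exact ⟨hab, fun h1 => hne (Set.mem_singleton_iff.mp h1)⟩
      have hiff : (T.deleteEdges {s(u, w)}).Reachable u a ↔
          (T.deleteEdges {s(u, w)}).Reachable u b :=
        ⟨fun h => h.trans hab'.reachable, fun h => h.trans hab'.symm.reachable⟩
      have hcab : c a ≠ c b := hbip a b (hle hab)
      have h0 : (if (T.deleteEdges {s(u, w)}).Reachable u a then eps c a else 0) +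
          (if (T.deleteEdges {s(u, w)}).Reachable u b then eps c b else 0) = 0 := by
        by_cases hr : (T.deleteEdges {s(u, w)}).Reachable u a
        · rw [if_pos hr, if_pos (hiff.mp hr)]
          exact eps_add c a b hcab
        · rw [if_neg hr, if_neg (fun h => hr (hiff.mpr h)), add_zero]
      rw [h0, zero_smul]
    · rw [hx e' he', smul_zero]
  · intro h; exact absurd (Finset.mem_univ _) h

/-- alternating walk vector -/
def chi {T : SimpleGraph V} : ∀ {a b : V}, T.Walk a b → (Sym2 V → ℤ)
  | _, _, .nil => 0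
  | a, _, .cons (v := t) _ p => Pi.single s(a, t) 1 - chi p

theorem chi_nil {T : SimpleGraph V} (a : V) : chi (Walk.nil : T.Walk a a) = 0 := rfl

theorem chi_cons {T : SimpleGraph V} {a t b : V} (h : T.Adj a t) (p : T.Walk t b) :
    chi (Walk.cons h p) = Pi.single s(a, t) 1 - chi p := rfl

theorem chi_off {T : SimpleGraph V} {a b : V} (p : T.Walk a b) (e : Sym2 V)
    (he : e ∉ T.edgeSet) : chi p e = 0 := by
  induction p with
  | nil => rfl
  | cons h p ih =>
    rw [chi_cons, Pi.sub_apply, ih, sub_zero]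
    apply Pi.single_eq_of_ne
    rintro rfl
    exact he ((mem_edgeSet T).mpr h)

theorem mem_mk_ite (a t w : V) (hne : a ≠ t) :
    (if w ∈ s(a, t) then (1 : ℤ) else 0) = (if w = a then 1 else 0) + (if w = t then 1 else 0) := by
  by_cases h1 : w = a
  · subst h1
    simp [hne]
  · by_cases h2 : w = t
    · subst h2
      simp [h1]
    · simp [Sym2.mem_iff, h1, h2]

theorem D_chi {T : SimpleGraph V} {a b : V} (p : T.Walk a b) (w : V) :
    D (chi p) w = (if w = a then 1 else 0) - (-1) ^ p.length * (if w = b then 1 else 0) := by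
  induction p with
  | nil => rw [chi_nil, D_zero]; simp
  | @cons a t b h p ih =>
    rw [chi_cons, D_sub, D_single, ih, Walk.length_cons, pow_succ, mem_mk_ite a t w h.ne]
    ring

theorem parity {T : SimpleGraph V} (c : V → Bool) (hbip : ∀ v w, T.Adj v w → c v ≠ c w)
    {a b : V} (p : T.Walk a b) : (c a = c b ↔ Even p.length) := by
  induction p with
  | nil => simp
  | @cons a t b h p ih =>
    rw [Walk.length_cons, Nat.even_add_one, ← ih]
    have h1 := hbip a t h
    cases ha : c a <;> cases ht : c t <;> cases hb : c b <;> simp_all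

theorem exists_cycle (T : SimpleGraph V) (hconn : T.Connected) (c : V → Bool)
    (hbip : ∀ v w, T.Adj v w → c v ≠ c w) (u w : V) (hc : c u ≠ c w)
    (he : s(u, w) ∉ T.edgeSet) :
    ∃ z : Sym2 V → ℤ, z s(u, w) = 1 ∧ (∀ e, e ∉ T.edgeSet → e ≠ s(u, w) → z e = 0) ∧
      ∀ t, D z t = 0 := by
  obtain ⟨p⟩ := hconn w u
  have hodd : ¬ Even p.length := by
    rw [← parity c hbip p]
    exact fun h => hc h.symm
  have hpow : (-1 : ℤ) ^ p.length = -1 := Odd.neg_one_pow (Nat.not_even_iff_odd.mp hodd)
  have huw : u ≠ w := fun h => hc (by rw [h])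
  refine ⟨Pi.single s(u, w) 1 - chi p, ?_, ?_, ?_⟩
  · rw [Pi.sub_apply, Pi.single_eq_same, chi_off p _ he, sub_zero]
  · intro e he' hne
    rw [Pi.sub_apply, Pi.single_eq_of_ne hne, chi_off p _ he', sub_zero]
  · intro t
    rw [D_sub, D_single, D_chi, hpow, mem_mk_ite u w t huw]
    ring

theorem main (G : SimpleGraph V) [DecidableRel G.Adj] (hconn : G.Connected) (c : V → Bool)
    (hbip : ∀ v w : V, G.Adj v w → c v ≠ c w) (A : Type v) [AddCommGroup A] (n : ℕ)
    (hn : G.edgeFinset.card + 1 = Fintype.card V + n) :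
    ∃ f : (Fin n → A) →+ (Sym2 V → A), Function.Injective f ∧
      Set.range f = {x : Sym2 V → A | (∀ e : Sym2 V, e ∉ G.edgeSet → x e = 0) ∧
        ∀ v : V, ∑ e ∈ G.incidenceFinset v, x e = 0} := by
  classical
  obtain ⟨T, hTG, hT⟩ := hconn.exists_isTree_le
  have hcardN : (G.edgeFinset.filter (fun e => e ∉ T.edgeSet)).card = n := by
    have h1 := Finset.card_filter_add_card_filter_not (s := G.edgeFinset)
      (fun e => e ∈ T.edgeSet)
    have h2 : (G.edgeFinset.filter (fun e => e ∈ T.edgeSet)) = T.edgeFinset := by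
      ext e
      simp only [Finset.mem_filter, mem_edgeFinset]
      exact ⟨fun h => h.2, fun h => ⟨edgeSet_subset_edgeSet.mpr hTG h, h⟩⟩
    have h3 := hT.card_edgeFinset
    rw [h2] at h1
    omega
  have hmemN : ∀ e, e ∈ G.edgeFinset.filter (fun e => e ∉ T.edgeSet) ↔
      e ∈ G.edgeSet ∧ e ∉ T.edgeSet := by
    intro e
    rw [Finset.mem_filter, mem_edgeFinset]
  let eN : Fin n ≃ ↥(G.edgeFinset.filter (fun e => e ∉ T.edgeSet)) :=
    (Finset.equivFinOfCardEq hcardN).symm
  have hNe : ∀ i, (eN i).1 ∈ G.edgeSet ∧ (eN i).1 ∉ T.edgeSet := fun i => (hmemN _).mp (eN i).2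
  have hTbip : ∀ v w, T.Adj v w → c v ≠ c w := fun v w h => hbip v w (hTG h)
  have hex : ∀ i : Fin n, ∃ z : Sym2 V → ℤ, z (eN i).1 = 1 ∧
      (∀ e, e ∉ T.edgeSet → e ≠ (eN i).1 → z e = 0) ∧ ∀ t, D z t = 0 := by
    intro i
    have hmem := hNe i
    obtain ⟨e, he⟩ : ∃ e, e = (eN i).1 := ⟨_, rfl⟩
    rw [← he] at hmem ⊢
    clear he
    revert hmem
    refine Sym2.ind (fun u w => ?_) e
    intro hmem
    exact exists_cycle T hT.connected c hTbip u w
      (hbip u w ((mem_edgeSet G).mp hmem.1)) hmem.2
  choose z hz1 hz2 hz3 using hex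
  let f : (Fin n → A) →+ (Sym2 V → A) :=
    { toFun := fun a e => ∑ i, z i e • a i
      map_zero' := by funext e; simp
      map_add' := by intro a b; funext e; simp [smul_add, Finset.sum_add_distrib] }
  have hf : ∀ a e, f a e = ∑ i, z i e • a i := fun a e => rfl
  have hzij : ∀ i j, z j (eN i).1 = if j = i then 1 else 0 := by
    intro i j
    by_cases h : j = i
    · rw [if_pos h, h]; exact hz1 i
    · rw [if_neg h]
      apply hz2 j _ (hNe i).2
      intro heq
      apply h
      exact (eN.injective (Subtype.ext heq)).symm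
  have heval : ∀ a i, f a (eN i).1 = a i := by
    intro a i
    rw [hf, Finset.sum_eq_single i]
    · rw [hzij i i, if_pos rfl, one_smul]
    · intro j _ hj; rw [hzij i j, if_neg hj, zero_smul]
    · intro h; exact absurd (Finset.mem_univ i) h
  have hDf : ∀ a t, D (f a) t = 0 := by
    intro a t
    unfold D
    simp only [hf]
    rw [Finset.sum_comm]
    apply Finset.sum_eq_zero
    intro i _
    rw [← Finset.sum_smul]
    have h1 := hz3 i t
    unfold D at h1
    rw [h1, zero_smul]
  have hfoff : ∀ a e, e ∉ G.edgeSet → f a e = 0 := by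
    intro a e he
    rw [hf]
    apply Finset.sum_eq_zero
    intro i _
    rw [hz2 i e (fun h => he (edgeSet_subset_edgeSet.mpr hTG h))
      (fun h => he (h ▸ (hNe i).1)), zero_smul]
  have hinc : ∀ (x : Sym2 V → A), (∀ e, e ∉ G.edgeSet → x e = 0) →
      ∀ t, ∑ e ∈ G.incidenceFinset t, x e = D x t := by
    intro x hx t
    unfold D
    apply Finset.sum_subset
    · intro e he
      rw [mem_incidenceFinset] at he
      rw [Finset.mem_filter]
      exact ⟨Finset.mem_univ _, he.2⟩
    · intro e he1 he2
      apply hx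
      intro hE
      apply he2
      rw [mem_incidenceFinset]
      exact ⟨hE, (Finset.mem_filter.mp he1).2⟩
  refine ⟨f, ?_, ?_⟩
  · intro a b hab
    funext i
    rw [← heval a i, ← heval b i, hab]
  · ext x
    simp only [Set.mem_range, Set.mem_setOf_eq]
    constructor
    · rintro ⟨a, rfl⟩
      refine ⟨hfoff a, fun t => ?_⟩
      rw [hinc (f a) (hfoff a) t, hDf a t]
    · rintro ⟨hx1, hx2⟩
      refine ⟨fun i => x (eN i).1, ?_⟩
      have hy : x - f (fun i => x (eN i).1) = 0 := by
        apply tree_zero G T hT.isAcyclic hTG c hbip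
        · intro e he
          rw [Pi.sub_apply]
          by_cases hE : e ∈ G.edgeSet
          · obtain ⟨i, hi⟩ := eN.surjective ⟨e, (hmemN e).mpr ⟨hE, he⟩⟩
            have h1 : e = (eN i).1 := by rw [hi]
            rw [h1, heval, sub_self]
          · rw [hx1 e hE, hfoff _ e hE, sub_zero]
        · intro t
          rw [D_sub, hDf _ t, sub_zero, ← hinc x hx1 t, hx2 t]
      exact (sub_eq_zero.mp hy).symm

end Groth.Agent.Lib.CycSpH4
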