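import Mathlib
import Groth.Prelude
import Groth.Agent.Lib.SecOrd2_helper8

/-!
# Orders of rational sections, IV: the divisor of a regular section (helper8).
APPEND-ONLY once landed.
-/

set_option autoImplicit false
universe u

open CategoryTheory AlgebraicGeometry TopologicalSpace Opposite
open Groth.Agent.LatticeDet Groth.Agent.OrdSum

namespace SecOrdH8

variable {X : Scheme.{u}}

/-- On an integral scheme the maps `O_{X,x} → κ(η)` are injective. -/
theorem specMap_genericPoint_injective [IsIntegral X] (x : X) (h : genericPoint X ⤳ x) :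
    Function.Injective (Cyc.specMap x (genericPoint X) h) := by
  have h1 : Function.Injective (X.presheaf.stalkSpecializes h).hom :=
    IsFractionRing.injective (X.presheaf.stalk x) X.functionField
  have h2 : Function.Injective (X.residue (genericPoint X)).hom :=
    RingHom.injective (R := X.functionField) (X.residue (genericPoint X)).hom
  exact h2.comp h1

/-- The order of a regular section along `ξ ⤳ x` as a length. -/
theorem secOrdAt_germ_eq_length [IsLocallyNoetherian X] (δ : X → ℤ) (hδ : Cyc.IsDimFun X δ)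
    {L : X.Modules} (hL : PicF.IsInvertible L) {x ξ : X} (h : ξ ⤳ x) (hd : δ x + 1 = δ ξ)
    (z : L.presheaf.stalk x) {t : L.presheaf.stalk x} (ht : IsFreeGen L x t)
    (f : X.presheaf.stalk x) (hz : z = f • t) (hf : f ∉ RingHom.ker (Cyc.specMap x ξ h)) :
    Cyc.secOrdAt L ξ x h (fmk L ξ (L.presheaf.stalkSpecializes h z)) =
      ((Module.length (X.presheaf.stalk x) (X.presheaf.stalk x ⧸
        (RingHom.ker (Cyc.specMap x ξ h) ⊔ Ideal.span {f}))).toNat : ℤ) := by
  haveI := OrdFlatH8.krullDimLE_one_locQuot δ hδ x ξ h (by omega)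
  haveI := OrdFlatH8.isFractionRing_locQuot x ξ h
  rw [secOrdAt_eq hL h _ ht (X.presheaf.stalkSpecializes h f)
    (by rw [hz, stalkSpecializes_smul]; rfl)]
  unfold Cyc.ordAt
  have h3 : X.residue ξ (X.presheaf.stalkSpecializes h f) =
      algebraMap (Cyc.LocQuot x ξ h) (X.residueField ξ)
        (Ideal.Quotient.mk (RingHom.ker (Cyc.specMap x ξ h)) f) := by
    rw [OrdFlatH8.algebraMap_locQuot_mk]
    rfl
  have h0 : Ideal.Quotient.mk (RingHom.ker (Cyc.specMap x ξ h)) f ≠ 0 := by
    rwa [Ne, Ideal.Quotient.eq_zero_iff_mem]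
  rw [h3, ordFrac_algebraMap (Cyc.LocQuot x ξ h) (X.residueField ξ) h0]
  congr 2
  exact length_quot_quot (RingHom.ker (Cyc.specMap x ξ h)) f

end SecOrdH8
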