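import Mathlib
import Groth.Prelude
import Groth.Agent.Lib.StalkLocz1_helper8
import Groth.Agent.Lib.SecOrd4_helper8
import Groth.Agent.Lib.DimFun_helper8
import Groth.Agent.Lib.OrdSum_helper9

/-!
# The cycle of the zero scheme of a regular section (helper8).  APPEND-ONLY once landed.
-/

set_option autoImplicit false
universe u

open CategoryTheory AlgebraicGeometry TopologicalSpace Opposite
open Groth.Agent.MultDim1 Groth.Agent.DimFunH8 Groth.Agent.HerbrandDim1 Groth.Agent.OrdSum
open scoped Pointwise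

namespace CycZeroH8

variable {X : Scheme.{u}}

/-- The prime of `O_{X,x}` attached to the point `φ P` is `P`. -/
theorem ker_specMap_φ (x : X) (P : PrimeSpectrum (X.presheaf.stalk x)) :
    RingHom.ker (Cyc.specMap x (φ X x P) (φ_specializes X x P)) = P.asIdeal := by
  have h1 := φ_ker X x (φ X x P) (φ_specializes X x P)
  have h2 := φ_injective X x h1
  exact congrArg PrimeSpectrum.asIdeal h2

/-- Points of `δ = k` in a scheme with `δ ≤ k + 1` have local rings of dimension at most one;
more precisely, the primes of the local ring are the closed point and the primes of the points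
with `δ = k + 1`, which are minimal. -/
theorem isMin_of_delta (δ : X → ℤ) (hδ : Cyc.IsDimFun X δ) (k : ℤ) (hdim : ∀ y : X, δ y ≤ k + 1)
    (x : X) (P : PrimeSpectrum (X.presheaf.stalk x)) (hP : δ (φ X x P) = k + 1) : IsMin P := by
  intro Q hQP
  by_contra hne
  have hlt : Q < P := lt_of_le_not_ge hQP hne
  have h1 : φ X x Q ⤳ φ X x P := (φ_specializes_iff X x Q P).mpr hQP
  have h2 : φ X x Q ≠ φ X x P := fun e => hlt.ne (φ_injective X x e)
  have := (hδ _ _ h1 h2).1
  have := hdim (φ X x Q)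
  omega

theorem delta_φ_of_ne (δ : X → ℤ) (hδ : Cyc.IsDimFun X δ) (k : ℤ) (hdim : ∀ y : X, δ y ≤ k + 1)
    (x : X) (hx : δ x = k) (P : PrimeSpectrum (X.presheaf.stalk x)) (hP : φ X x P ≠ x) :
    δ (φ X x P) = k + 1 := by
  have := (hδ _ _ (φ_specializes X x P) hP).1
  have := hdim (φ X x P)
  omega

theorem krullDimLE_one_stalk (δ : X → ℤ) (hδ : Cyc.IsDimFun X δ) (k : ℤ)
    (hdim : ∀ y : X, δ y ≤ k + 1) (x : X) (hx : δ x = k) :
    Ring.KrullDimLE 1 (X.presheaf.stalk x) := by
  rw [Ring.KrullDimLE, Order.krullDimLE_iff]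
  change Order.krullDim (PrimeSpectrum (X.presheaf.stalk x)) ≤ 1
  rw [Order.krullDim_le_one_iff]
  intro P
  by_cases hP : φ X x P = x
  · right
    have : P = IsLocalRing.closedPoint (X.presheaf.stalk x) :=
      φ_injective X x (hP.trans (φ_closedPoint X x).symm)
    rw [this]
    intro Q hQ
    exact IsLocalRing.le_maximalIdeal Q.2.ne_top
  · left
    exact isMin_of_delta δ hδ k hdim x P (delta_φ_of_ne δ hδ k hdim x hx P hP)

theorem lam_congr {A : Type u} [CommRing A] (I J : Ideal A) [I.IsPrime] [J.IsPrime] (h : I = J) :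
    lam I A = lam J A := by
  subst h
  rfl

/-- Multiplicity formula for a nonzerodivisor in a one-dimensional Noetherian ring. -/
theorem length_quot_nzd {A : Type u} [CommRing A] [IsNoetherianRing A] [Ring.KrullDimLE 1 A]
    {c : A} (hc : c ∈ nonZeroDivisors A) :
    ((Module.length A (A ⧸ Ideal.span {c})).toNat : ℤ) =
      ∑ᶠ p ∈ Smin A, ((lam p.asIdeal A).toNat : ℤ) *
        ((Module.length A (A ⧸ (p.asIdeal ⊔ Ideal.span {c}))).toNat : ℤ) := by
  have hmin := not_mem_minimal hc
  have h := formula_of_finite hmin A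
  have hfin := length_coker_ne_top' hmin A
  unfold Formula at h
  have hker : LinearMap.ker (mulT c A) = ⊥ := by
    rw [eq_bot_iff]
    intro z hz
    have hz' : c * z = 0 := hz
    rw [Submodule.mem_bot]
    exact (mem_nonZeroDivisors_iff.mp hc).1 z hz'
  have hk0 : Module.length A (LinearMap.ker (mulT c A)) = 0 := by
    rw [hker]
    exact Module.length_eq_zero
  rw [hk0, zero_add] at h
  have hrange : (c • (⊤ : Submodule A A)) = Ideal.span {c} := by
    rw [← Submodule.ideal_span_singleton_smul, smul_eq_mul, Ideal.mul_top]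
  change Module.length A (A ⧸ c • (⊤ : Submodule A A)) = _ at h
  change Module.length A (A ⧸ c • (⊤ : Submodule A A)) ≠ ⊤ at hfin
  rw [hrange] at h hfin
  rw [h]
  exact Rsum_toNat c (h ▸ hfin)

/-- `[Z(s)]_k = c_1(L) ∩ [Y]_{k+1}` for a regular section `s`, computed with the rational sections
induced by `s`. -/
theorem zeroSectionFun_eq_c1Cap (Y : Scheme.{u}) (δ : Y → ℤ) (hY : Cyc.IsSetup Y δ)
    (L : Y.Modules) (hL : PicF.IsInvertible L) (k : ℤ) (hdim : ∀ y : Y, δ y ≤ k + 1)
    (s : L.presheaf.obj (Opposite.op ⊤))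
    (hreg : ∀ y : Y, δ y = k →
      Function.Injective (fun a : Y.presheaf.stalk y => a • (L.presheaf.germ ⊤ y trivial) s)) :
    Cyc.zeroSectionFun δ k L s =
      Cyc.c1CapFun δ L (Cyc.subschemeFun δ (k + 1) (𝟙 Y))
        (fun ξ => Submodule.Quotient.mk ((L.presheaf.germ ⊤ ξ trivial) s)) := by
  classical
  obtain ⟨hYn, -, hδ⟩ := hY
  haveI := hYn
  funext x
  by_cases hx : δ x = k
  swap
  · unfold Cyc.zeroSectionFun
    rw [if_neg hx]
    unfold Cyc.c1CapFun
    symm
    apply finsum_eq_zero_of_forall_eq_zero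
    intro ξ
    unfold Cyc.subschemeFun Cyc.secDivFun
    by_cases h1 : δ ξ = k + 1
    · rw [dif_neg (fun hc => hx (by have := hc.2; omega)), mul_zero]
    · rw [if_neg h1, zero_mul]
  -- the main case
  haveI hdim1 : Ring.KrullDimLE 1 (Y.presheaf.stalk x) := krullDimLE_one_stalk δ hδ k hdim x hx
  obtain ⟨t, ht⟩ := SecOrdH8.exists_isFreeGen hL x
  have ht₀ : ∃ t : L.presheaf.stalk x, Submodule.span (Y.presheaf.stalk x) {t} = ⊤ :=
    ⟨t, ht.span_eq_top⟩
  have hspan := Classical.choose_spec ht₀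
  obtain ⟨u, hu, htu⟩ := ht.exists_unit hspan
  have hfree0 : SecOrdH8.IsFreeGen L x (Classical.choose ht₀) := by
    rw [htu]; exact ht.smul_unit hu
  have hf : ∃ f : Y.presheaf.stalk x,
      (L.presheaf.germ ⊤ x trivial) s = f • Classical.choose ht₀ := hfree0.1 _
  unfold Cyc.zeroSectionFun
  rw [if_pos hx, dif_pos ht₀, dif_pos hf]
  have hspec := Classical.choose_spec hf
  generalize Classical.choose hf = f₀ at hspec ⊢
  -- `f₀` is a nonzerodivisor
  have hnzd : f₀ ∈ nonZeroDivisors (Y.presheaf.stalk x) := by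
    rw [mem_nonZeroDivisors_iff_right]
    intro a ha
    apply hreg x hx
    change a • (L.presheaf.germ ⊤ x trivial) s = (0 : Y.presheaf.stalk x) • _
    rw [hspec, smul_smul, ha, zero_smul, zero_smul]
  have hmin := not_mem_minimal hnzd
  rw [length_quot_nzd hnzd]
  unfold Cyc.c1CapFun
  set F : PrimeSpectrum (Y.presheaf.stalk x) → ℤ := fun p =>
    ((lam p.asIdeal (Y.presheaf.stalk x)).toNat : ℤ) *
      ((Module.length (Y.presheaf.stalk x)
        (Y.presheaf.stalk x ⧸ (p.asIdeal ⊔ Ideal.span {f₀}))).toNat : ℤ) with hF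
  set G : Y → ℤ := fun ξ => Cyc.subschemeFun δ (k + 1) (𝟙 Y) ξ *
    Cyc.secDivFun δ L ξ (Submodule.Quotient.mk ((L.presheaf.germ ⊤ ξ trivial) s)) x with hG
  set S' : Set (PrimeSpectrum (Y.presheaf.stalk x)) := {P | δ (φ Y x P) = k + 1} with hS'
  -- Step A
  have stepA : ∑ᶠ p ∈ Smin (Y.presheaf.stalk x), F p = ∑ᶠ p ∈ S', F p := by
    apply finsum_mem_inter_support_eq'
    intro p hp
    constructor
    · intro hpmin
      by_contra hnot
      have hφ : φ Y x p = x := by
        by_contra hne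
        exact hnot (delta_φ_of_ne δ hδ k hdim x hx p hne)
      have hpc : p = IsLocalRing.closedPoint (Y.presheaf.stalk x) :=
        φ_injective Y x (hφ.trans (φ_closedPoint Y x).symm)
      have hf₀ : f₀ ∉ p.asIdeal := hmin p.asIdeal hpmin
      have hunit : IsUnit f₀ := by
        rw [hpc] at hf₀
        exact IsLocalRing.notMem_maximalIdeal.mp hf₀
      apply hp
      change F p = 0
      rw [hF]
      have htop : p.asIdeal ⊔ Ideal.span {f₀} = ⊤ := by
        rw [Ideal.span_singleton_eq_top.mpr hunit, sup_top_eq]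
      have : Module.length (Y.presheaf.stalk x)
          (Y.presheaf.stalk x ⧸ (p.asIdeal ⊔ Ideal.span {f₀})) = 0 := by
        rw [htop]
        exact Module.length_eq_zero_iff.mpr inferInstance
      simp only [this]
      simp
    · intro hpS
      exact PrimeSpectrum.isMin_iff.mp (isMin_of_delta δ hδ k hdim x p hpS)
  -- Step B
  have stepB : ∑ᶠ p ∈ S', F p = ∑ᶠ p ∈ S', G (φ Y x p) := by
    apply finsum_mem_congr rfl
    intro P hP
    have hPδ : δ (φ Y x P) = k + 1 := hP
    have hsp := φ_specializes Y x P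
    have hker := ker_specMap_φ x P
    have hPmin : P.asIdeal ∈ minimalPrimes (Y.presheaf.stalk x) :=
      PrimeSpectrum.isMin_iff.mp (isMin_of_delta δ hδ k hdim x P hPδ)
    rw [hF, hG]
    simp only
    -- the multiplicity of `Y` at `φ P`
    have e1 : Cyc.subschemeFun δ (k + 1) (𝟙 Y) (φ Y x P) =
        ((lam P.asIdeal (Y.presheaf.stalk x)).toNat : ℤ) := by
      unfold Cyc.subschemeFun
      rw [if_pos hPδ]
      have hset : {z : Y | (𝟙 Y : Y ⟶ Y) z = φ Y x P} = {φ Y x P} := by
        ext z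
        simp
      rw [hset, finsum_mem_singleton]
      haveI : (RingHom.ker (Cyc.specMap x (φ Y x P) hsp)).IsPrime := RingHom.ker_isPrime _
      letI : Algebra (Y.presheaf.stalk x) (Y.presheaf.stalk (φ Y x P)) :=
        (Y.presheaf.stalkSpecializes hsp).hom.toAlgebra
      haveI : IsLocalization.AtPrime (Y.presheaf.stalk (φ Y x P))
          (RingHom.ker (Cyc.specMap x (φ Y x P) hsp)) :=
        StalkLoczH8.isLocalization_stalkSpecializes hsp
      rw [lam_congr P.asIdeal (RingHom.ker (Cyc.specMap x (φ Y x P) hsp)) hker.symm,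
        StalkLoczH8.lam_self_eq (RingHom.ker (Cyc.specMap x (φ Y x P) hsp))
          (Y.presheaf.stalk (φ Y x P))]
    have e2 : Cyc.secDivFun δ L (φ Y x P)
        (Submodule.Quotient.mk ((L.presheaf.germ ⊤ (φ Y x P) trivial) s)) x =
        ((Module.length (Y.presheaf.stalk x)
          (Y.presheaf.stalk x ⧸ (P.asIdeal ⊔ Ideal.span {f₀}))).toNat : ℤ) := by
      unfold Cyc.secDivFun
      have hd : δ x + 1 = δ (φ Y x P) := by omega
      rw [dif_pos (show φ Y x P ⤳ x ∧ δ x + 1 = δ (φ Y x P) from ⟨hsp, hd⟩)]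
      have hgerm : (L.presheaf.germ ⊤ (φ Y x P) trivial) s =
          L.presheaf.stalkSpecializes hsp ((L.presheaf.germ ⊤ x trivial) s) :=
        (SecOrdH8.stalkSpecializes_germ L hsp ⊤ trivial s).symm
      have hf0 : f₀ ∉ RingHom.ker (Cyc.specMap x (φ Y x P) hsp) := by
        rw [hker]
        exact hmin P.asIdeal hPmin
      have key := SecOrdH8.secOrdAt_germ_eq_length δ hδ hL hsp hd _ hfree0 f₀ hspec hf0
      rw [hker] at key
      rw [hgerm]
      exact key
    rw [e1, e2]
  -- Step C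
  have stepC : ∑ᶠ p ∈ S', G (φ Y x p) = ∑ᶠ ξ ∈ φ Y x '' S', G ξ :=
    (finsum_mem_image ((φ_injective Y x).injOn)).symm
  -- Step D
  have stepD : ∑ᶠ ξ ∈ φ Y x '' S', G ξ = ∑ᶠ ξ, G ξ := by
    rw [← finsum_mem_univ G]
    apply finsum_mem_inter_support_eq'
    intro ξ hξ
    simp only [Set.mem_univ, iff_true]
    have hξ' : G ξ ≠ 0 := hξ
    rw [hG] at hξ'
    have h1 : Cyc.subschemeFun δ (k + 1) (𝟙 Y) ξ ≠ 0 := left_ne_zero_of_mul hξ'
    have h2 := SecOrdH8.secDivFun_ne_zero (right_ne_zero_of_mul hξ')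
    have h3 : δ ξ = k + 1 := by
      by_contra hne
      apply h1
      unfold Cyc.subschemeFun
      rw [if_neg hne]
    obtain ⟨P, rfl⟩ := exists_φ_eq Y x ξ h2
    exact ⟨P, h3, rfl⟩
  rw [stepA, stepB, stepC, stepD]

end CycZeroH8
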