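import Mathlib

set_option autoImplicit false
set_option linter.unusedVariables false
set_option linter.unusedTactic false
set_option linter.unreachableTactic false
set_option linter.unusedSectionVars false
set_option maxHeartbeats 800000

universe u

namespace Groth.Agent.Lib.CycleWedgeH4

open ExteriorAlgebra

variable {k : Type u} [Field k]


theorem det4 (p q r s : k) :
    Matrix.det (!![p,0,q,0; 0,p,0,q; r,0,s,0; 0,r,0,s] : Matrix (Fin 4) (Fin 4) k) = (p*s - q*r)^2 := by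
  have h : Fin.succAbove (2 : Fin 4) (2 : Fin 3) = 3 := by decide
  simp [Matrix.det_succ_row_zero, Fin.sum_univ_succ, h]
  ring

theorem e4 {M : Type u} [AddCommGroup M] [Module k M] (x1 x2 x3 x4 : M) :
    ι k x1 * ι k x2 * ι k x3 * ι k x4 = ExteriorAlgebra.ιMulti k 4 ![x1, x2, x3, x4] := by
  rw [ExteriorAlgebra.ιMulti_apply]
  simp [List.ofFn_succ, mul_assoc]

theorem swap4 {M : Type u} [AddCommGroup M] [Module k M] (a0 a1 b0 b1 : M) :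
    ι k b0 * ι k b1 * ι k a0 * ι k a1 = ι k a0 * ι k a1 * ι k b0 * ι k b1 := by
  have h : ∀ x y : M, ι k x * ι k y = -(ι k y * ι k x) := fun x y =>
    eq_neg_of_add_eq_zero_left (ExteriorAlgebra.ι_add_mul_swap (R := k) x y)
  obtain ⟨A0, hA0⟩ : ∃ A0, A0 = ι k a0 := ⟨_, rfl⟩
  obtain ⟨A1, hA1⟩ : ∃ A1, A1 = ι k a1 := ⟨_, rfl⟩
  obtain ⟨B0, hB0⟩ : ∃ B0, B0 = ι k b0 := ⟨_, rfl⟩
  obtain ⟨B1, hB1⟩ : ∃ B1, B1 = ι k b1 := ⟨_, rfl⟩
  have h1 : B1 * A0 = -(A0 * B1) := by rw [hA0, hB1]; exact h b1 a0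
  have h2 : B0 * A0 = -(A0 * B0) := by rw [hA0, hB0]; exact h b0 a0
  have h3 : B1 * A1 = -(A1 * B1) := by rw [hA1, hB1]; exact h b1 a1
  have h4 : B0 * A1 = -(A1 * B0) := by rw [hA1, hB0]; exact h b0 a1
  rw [← hA0, ← hA1, ← hB0, ← hB1]
  calc B0 * B1 * A0 * A1 = B0 * (B1 * A0) * A1 := by simp only [mul_assoc]
    _ = B0 * (-(A0 * B1)) * A1 := by rw [h1]
    _ = -((B0 * A0) * (B1 * A1)) := by simp only [mul_assoc, mul_neg, neg_mul, neg_neg]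
    _ = -((-(A0 * B0)) * (-(A1 * B1))) := by rw [h2, h3]
    _ = -(A0 * (B0 * A1) * B1) := by simp only [mul_assoc, mul_neg, neg_mul, neg_neg]
    _ = -(A0 * (-(A1 * B0)) * B1) := by rw [h4]
    _ = A0 * A1 * B0 * B1 := by simp only [mul_assoc, mul_neg, neg_mul, neg_neg]

/-- integer cycle indicator -/
def cycZ (i j l a b : Fin 4) : ℤ :=
  (if a = i ∧ b = j then 1 else 0) + (if a = j ∧ b = l then 1 else 0) + (if a = l ∧ b = i then 1 else 0)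
    - (if a = j ∧ b = i then 1 else 0) - (if a = l ∧ b = j then 1 else 0) - (if a = i ∧ b = l then 1 else 0)

def mZ (σ : Equiv.Perm (Fin 4)) : ℤ :=
  cycZ (σ 0) (σ 1) (σ 2) 0 1 * cycZ (σ 0) (σ 2) (σ 3) 2 3 -
    cycZ (σ 0) (σ 1) (σ 2) 2 3 * cycZ (σ 0) (σ 2) (σ 3) 0 1

theorem mZ_one : (mZ 1) ^ 2 = 1 := by decide

/-- coordinate projection -/
def L : (Fin 2 → Fin 4 → Fin 4 → k) →ₗ[k] (Fin 4 → k) where
  toFun f := ![f 0 0 1, f 1 0 1, f 0 2 3, f 1 2 3]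
  map_add' f g := by ext i; fin_cases i <;> rfl
  map_smul' c f := by ext i; fin_cases i <;> rfl

theorem L_apply (f : (Fin 2 → Fin 4 → Fin 4 → k)) : L f = ![f 0 0 1, f 1 0 1, f 0 2 3, f 1 2 3] := rfl

noncomputable def g : (Fin 2 → Fin 4 → Fin 4 → k) [⋀^Fin 4]→ₗ[k] k :=
  (Matrix.detRowAlternating (n := Fin 4) (R := k)).compLinearMap L

theorem g_apply (v : Fin 4 → (Fin 2 → Fin 4 → Fin 4 → k)) : g v = Matrix.det (Matrix.of fun i => L (v i)) := by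
  rw [g, AlternatingMap.compLinearMap_apply]
  rfl

noncomputable def fam : ∀ i : ℕ, (Fin 2 → Fin 4 → Fin 4 → k) [⋀^Fin i]→ₗ[k] k
  | 4 => g
  | _ => 0

noncomputable def Φ : ExteriorAlgebra k (Fin 2 → Fin 4 → Fin 4 → k) →ₗ[k] k := ExteriorAlgebra.liftAlternating fam

theorem Φ_prod (x1 x2 x3 x4 : (Fin 2 → Fin 4 → Fin 4 → k)) :
    Φ (ι k x1 * ι k x2 * ι k x3 * ι k x4) = Matrix.det (Matrix.of ![L x1, L x2, L x3, L x4]) := by
  rw [e4, Φ, ExteriorAlgebra.liftAlternating_apply_ιMulti]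
  show g ![x1, x2, x3, x4] = _
  rw [g_apply]
  congr 2
  funext i
  fin_cases i <;> rfl

section zz

variable (z : Fin 2 → Fin 4 → Fin 4 → Fin 4 → (Fin 2 → Fin 4 → Fin 4 → k))
    (hz : ∀ (c : Fin 2) (i j l : Fin 4) (c' : Fin 2) (a b : Fin 4), z c i j l c' a b =
      if c' = c then
        ((if a = i ∧ b = j then 1 else 0) + (if a = j ∧ b = l then 1 else 0) + (if a = l ∧ b = i then 1 else 0)
          - (if a = j ∧ b = i then 1 else 0) - (if a = l ∧ b = j then 1 else 0) - (if a = i ∧ b = l then 1 else 0))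
      else 0)
include hz

theorem zrev (c : Fin 2) (i j l : Fin 4) : z c l j i = - z c i j l := by
  funext c' a b
  simp only [Pi.neg_apply]
  rw [hz, hz]
  by_cases h : c' = c
  · rw [if_pos h, if_pos h]; ring
  · rw [if_neg h, if_neg h, neg_zero]

theorem zcyc (c : Fin 2) (i j l : Fin 4) : z c j l i = z c i j l := by
  funext c' a b
  rw [hz, hz]
  by_cases h : c' = c
  · rw [if_pos h, if_pos h]; ring
  · rw [if_neg h, if_neg h]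

theorem zc_same (c : Fin 2) (i j l a b : Fin 4) :
    z c i j l c a b = ((cycZ i j l a b : ℤ) : k) := by
  rw [hz, if_pos rfl]
  simp [cycZ]

theorem zc_ne (c c' : Fin 2) (h : c' ≠ c) (i j l a b : Fin 4) : z c i j l c' a b = 0 := by
  rw [hz, if_neg h]

theorem L_z0 (i j l : Fin 4) :
    L (z 0 i j l) = ![((cycZ i j l 0 1 : ℤ) : k), 0, ((cycZ i j l 2 3 : ℤ) : k), 0] := by
  rw [L_apply, zc_same z hz 0 i j l 0 1, zc_same z hz 0 i j l 2 3,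
    zc_ne z hz 0 1 (by decide) i j l 0 1, zc_ne z hz 0 1 (by decide) i j l 2 3]

theorem L_z1 (i j l : Fin 4) :
    L (z 1 i j l) = ![0, ((cycZ i j l 0 1 : ℤ) : k), 0, ((cycZ i j l 2 3 : ℤ) : k)] := by
  rw [L_apply, zc_same z hz 1 i j l 0 1, zc_same z hz 1 i j l 2 3,
    zc_ne z hz 1 0 (by decide) i j l 0 1, zc_ne z hz 1 0 (by decide) i j l 2 3]

variable (P : Equiv.Perm (Fin 4) → ((Fin 2 → Fin 4 → Fin 4 → k) →ₗ[k] (Fin 2 → Fin 4 → Fin 4 → k)))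
    (hP : ∀ (σ : Equiv.Perm (Fin 4)) (f : (Fin 2 → Fin 4 → Fin 4 → k)) (c : Fin 2) (a b : Fin 4),
      P σ f c a b = f c (σ.symm a) (σ.symm b))
include hP

theorem Pz (σ : Equiv.Perm (Fin 4)) (c : Fin 2) (i j l : Fin 4) :
    P σ (z c i j l) = z c (σ i) (σ j) (σ l) := by
  funext c' a b
  rw [hP, hz, hz]
  simp only [Equiv.symm_apply_eq]

variable (ω : ExteriorAlgebra k (Fin 2 → Fin 4 → Fin 4 → k))
    (hω : ω = ExteriorAlgebra.ι k (z 0 0 1 2) * ExteriorAlgebra.ι k (z 1 0 1 2) *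
      ExteriorAlgebra.ι k (z 0 0 2 3) * ExteriorAlgebra.ι k (z 1 0 2 3))
include hω

theorem mapω (σ : Equiv.Perm (Fin 4)) :
    ExteriorAlgebra.map (P σ) ω =
      ι k (z 0 (σ 0) (σ 1) (σ 2)) * ι k (z 1 (σ 0) (σ 1) (σ 2)) *
        ι k (z 0 (σ 0) (σ 2) (σ 3)) * ι k (z 1 (σ 0) (σ 2) (σ 3)) := by
  rw [hω]
  simp only [map_mul, ExteriorAlgebra.map_apply_ι, Pz z hz P hP]

theorem fix02 : ExteriorAlgebra.map (P (Equiv.swap 0 2)) ω = ω := by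
  rw [mapω z hz P hP ω hω]
  have e0 : Equiv.swap (0 : Fin 4) 2 0 = 2 := by decide
  have e1 : Equiv.swap (0 : Fin 4) 2 1 = 1 := by decide
  have e2 : Equiv.swap (0 : Fin 4) 2 2 = 0 := by decide
  have e3 : Equiv.swap (0 : Fin 4) 2 3 = 3 := by decide
  rw [e0, e1, e2, e3]
  have h1 : ∀ c, z c 2 1 0 = - z c 0 1 2 := fun c => zrev z hz c 0 1 2
  have h2 : ∀ c, z c 2 0 3 = - z c 0 2 3 := fun c => by
    rw [← zrev z hz c 0 2 3]
    exact zcyc z hz c 3 2 0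
  rw [h1, h1, h2, h2, hω]
  simp only [map_neg, neg_mul, mul_neg, neg_neg]

theorem fix13 : ExteriorAlgebra.map (P (Equiv.swap 1 3)) ω = ω := by
  rw [mapω z hz P hP ω hω]
  have e0 : Equiv.swap (1 : Fin 4) 3 0 = 0 := by decide
  have e1 : Equiv.swap (1 : Fin 4) 3 1 = 3 := by decide
  have e2 : Equiv.swap (1 : Fin 4) 3 2 = 2 := by decide
  have e3 : Equiv.swap (1 : Fin 4) 3 3 = 1 := by decide
  rw [e0, e1, e2, e3]
  have h1 : ∀ c, z c 0 3 2 = - z c 0 2 3 := fun c => by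
    rw [← zrev z hz c 0 2 3]
    exact (zcyc z hz c 0 3 2).symm
  have h2 : ∀ c, z c 0 2 1 = - z c 0 1 2 := fun c => by
    rw [← zrev z hz c 0 1 2]
    exact (zcyc z hz c 0 2 1).symm
  rw [h1, h1, h2, h2, hω]
  simp only [map_neg, neg_mul, mul_neg, neg_neg]
  exact swap4 _ _ _ _

theorem Φ_map (σ : Equiv.Perm (Fin 4)) :
    Φ (ExteriorAlgebra.map (P σ) ω) = (((mZ σ) ^ 2 : ℤ) : k) := by
  rw [mapω z hz P hP ω hω, Φ_prod, L_z0 z hz, L_z1 z hz, L_z0 z hz, L_z1 z hz]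
  rw [show (Matrix.of ![![((cycZ (σ 0) (σ 1) (σ 2) 0 1 : ℤ) : k), 0, ((cycZ (σ 0) (σ 1) (σ 2) 2 3 : ℤ) : k), 0],
      ![0, ((cycZ (σ 0) (σ 1) (σ 2) 0 1 : ℤ) : k), 0, ((cycZ (σ 0) (σ 1) (σ 2) 2 3 : ℤ) : k)],
      ![((cycZ (σ 0) (σ 2) (σ 3) 0 1 : ℤ) : k), 0, ((cycZ (σ 0) (σ 2) (σ 3) 2 3 : ℤ) : k), 0],
      ![0, ((cycZ (σ 0) (σ 2) (σ 3) 0 1 : ℤ) : k), 0, ((cycZ (σ 0) (σ 2) (σ 3) 2 3 : ℤ) : k)]] :
        Matrix (Fin 4) (Fin 4) k) =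
      !![((cycZ (σ 0) (σ 1) (σ 2) 0 1 : ℤ) : k), 0, ((cycZ (σ 0) (σ 1) (σ 2) 2 3 : ℤ) : k), 0;
        0, ((cycZ (σ 0) (σ 1) (σ 2) 0 1 : ℤ) : k), 0, ((cycZ (σ 0) (σ 1) (σ 2) 2 3 : ℤ) : k);
        ((cycZ (σ 0) (σ 2) (σ 3) 0 1 : ℤ) : k), 0, ((cycZ (σ 0) (σ 2) (σ 3) 2 3 : ℤ) : k), 0;
        0, ((cycZ (σ 0) (σ 2) (σ 3) 0 1 : ℤ) : k), 0, ((cycZ (σ 0) (σ 2) (σ 3) 2 3 : ℤ) : k)] from rfl]
  rw [det4]
  unfold mZ
  push_cast
  ring

theorem sum_ne_zero [CharZero k] :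
    (∑ σ : Equiv.Perm (Fin 4), ExteriorAlgebra.map (P σ) ω) ≠ 0 := by
  intro h
  have h1 := congrArg (Φ (k := k)) h
  rw [map_sum, map_zero, Finset.sum_congr rfl (fun σ _ => Φ_map z hz P hP ω hω σ),
    ← Int.cast_sum, Int.cast_eq_zero] at h1
  have h2 : (1 : ℤ) ≤ ∑ σ : Equiv.Perm (Fin 4), (mZ σ) ^ 2 := by
    have h3 := Finset.single_le_sum (f := fun σ : Equiv.Perm (Fin 4) => (mZ σ) ^ 2)
      (fun σ _ => sq_nonneg _) (Finset.mem_univ (1 : Equiv.Perm (Fin 4)))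
    rw [mZ_one] at h3
    exact h3
  rw [h1] at h2
  exact absurd h2 (by norm_num)

theorem main19221 [CharZero k] :
    ExteriorAlgebra.map (P (Equiv.swap 0 2)) ω = ω ∧
    ExteriorAlgebra.map (P (Equiv.swap 1 3)) ω = ω ∧
    (∑ σ : Equiv.Perm (Fin 4), ExteriorAlgebra.map (P σ) ω) ≠ 0 :=
  ⟨fix02 z hz P hP ω hω, fix13 z hz P hP ω hω, sum_ne_zero z hz P hP ω hω⟩

end zz

end Groth.Agent.Lib.CycleWedgeH4
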