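import Mathlib

set_option autoImplicit false

namespace Groth.Agent.Lib.CyclicBlock

open Matrix

variable {S : Type*} [CommRing S] {m : Type*} [Fintype m] [DecidableEq m]
variable (N : ℕ) (A : Matrix m m S) (t : S)

/-- the cyclic block matrix. -/
def Bm : Matrix (Fin (N + 1) × m) (Fin (N + 1) × m) S := Matrix.of fun p q =>
  if p.1.val = 0 then (if q.1.val = N then A p.2 q.2 else 0)
  else (if q.1.val + 1 = p.1.val ∧ p.2 = q.2 then 1 else 0)

/-- the unipotent matrix `(1 - tS)⁻¹`. -/
def Um : Matrix (Fin (N + 1) × m) (Fin (N + 1) × m) S := Matrix.of fun p q =>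
  if q.1.val ≤ p.1.val ∧ p.2 = q.2 then t ^ (p.1.val - q.1.val) else 0

/-- the product. -/
def Pm : Matrix (Fin (N + 1) × m) (Fin (N + 1) × m) S := Matrix.of fun p q =>
  if p.1.val = 0 then
    ((if q.1.val = 0 ∧ p.2 = q.2 then 1 else 0) - t ^ (N + 1 - q.1.val) * A p.2 q.2)
  else (if p.1.val = q.1.val ∧ p.2 = q.2 then 1 else 0)

omit [DecidableEq m] in
theorem BU_zero [DecidableEq m] (i j : Fin (N + 1)) (a c : m) (hi : i.val = 0) :
    ∑ r : Fin (N + 1) × m, Bm N A (i, a) r * Um N t r (j, c) = A a c * t ^ (N - j.val) := by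
  rw [Fintype.sum_prod_type, Finset.sum_eq_single (Fin.last N)]
  · rw [Finset.sum_eq_single c]
    · simp only [Bm, Um, Matrix.of_apply, hi, if_true, Fin.val_last]
      rw [if_pos ⟨Fin.is_le j, trivial⟩]
    · intro d _ hd
      simp only [Um, Matrix.of_apply]
      rw [if_neg (fun h => hd h.2), mul_zero]
    · intro h; exact absurd (Finset.mem_univ _) h
  · intro k _ hk
    refine Finset.sum_eq_zero fun d _ => ?_
    have hk' : k.val ≠ N := fun h => hk (Fin.ext (by rw [h, Fin.val_last]))
    simp only [Bm, Matrix.of_apply, hi, if_true, if_neg hk', zero_mul]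
  · intro h; exact absurd (Finset.mem_univ _) h

theorem BU_succ (i j : Fin (N + 1)) (a c : m) (hi : i.val ≠ 0) :
    ∑ r : Fin (N + 1) × m, Bm N A (i, a) r * Um N t r (j, c) =
      if j.val ≤ i.val - 1 ∧ a = c then t ^ (i.val - 1 - j.val) else 0 := by
  have hlt : i.val - 1 < N + 1 := by have := i.isLt; omega
  rw [Fintype.sum_prod_type, Finset.sum_eq_single (⟨i.val - 1, hlt⟩ : Fin (N + 1))]
  · rw [Finset.sum_eq_single a]
    · simp only [Bm, Um, Matrix.of_apply, if_neg hi]
      rw [if_pos ⟨by omega, trivial⟩, one_mul]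
    · intro d _ hd
      simp only [Bm, Matrix.of_apply, if_neg hi]
      rw [if_neg (fun h => hd h.2.symm), zero_mul]
    · intro h; exact absurd (Finset.mem_univ _) h
  · intro k _ hk
    refine Finset.sum_eq_zero fun d _ => ?_
    have hk' : ¬ (k.val + 1 = i.val) := fun h => hk (Fin.ext (by simp only; omega))
    simp only [Bm, Matrix.of_apply, if_neg hi]
    rw [if_neg (fun h => hk' h.1), zero_mul]
  · intro h; exact absurd (Finset.mem_univ _) h

theorem mul_eq : (1 - t • Bm N A) * Um N t = Pm N A t := by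
  rw [sub_mul, one_mul, Matrix.smul_mul]
  ext ⟨i, a⟩ ⟨j, c⟩
  rw [Matrix.sub_apply, Matrix.smul_apply, Matrix.mul_apply, smul_eq_mul]
  by_cases hi : i.val = 0
  · rw [BU_zero N A t i j a c hi]
    simp only [Um, Pm, Matrix.of_apply, hi, if_true]
    have hj : N + 1 - j.val = (N - j.val) + 1 := by have := j.isLt; omega
    rw [hj, pow_succ]
    by_cases h0 : j.val = 0
    · by_cases hac : a = c
      · rw [if_pos ⟨by omega, hac⟩, if_pos ⟨h0, hac⟩, h0]; simp; ring
      · rw [if_neg (fun h => hac h.2), if_neg (fun h => hac h.2)]; ring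
    · rw [if_neg (fun h => h0 (by omega)), if_neg (fun h => h0 h.1)]; ring
  · rw [BU_succ N A t i j a c hi]
    simp only [Um, Pm, Matrix.of_apply, if_neg hi]
    by_cases hac : a = c
    · rcases lt_trichotomy j.val i.val with h | h | h
      · rw [if_pos ⟨by omega, hac⟩, if_pos ⟨by omega, hac⟩, if_neg (fun h' => by omega)]
        have hx : i.val - j.val = (i.val - 1 - j.val) + 1 := by omega
        rw [hx, pow_succ]; ring
      · rw [if_pos ⟨by omega, hac⟩, if_neg (fun h' => by omega), if_pos ⟨h.symm, hac⟩, h]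
        simp
      · rw [if_neg (fun h' => by omega), if_neg (fun h' => by omega),
          if_neg (fun h' => by omega)]
        simp
    · rw [if_neg (fun h => hac h.2), if_neg (fun h => hac h.2), if_neg (fun h => hac h.2)]
      simp

theorem det_Um : (Um N t : Matrix (Fin (N + 1) × m) (Fin (N + 1) × m) S).det = 1 := by
  have hbt : (Um N t : Matrix (Fin (N + 1) × m) (Fin (N + 1) × m) S).BlockTriangular
      (fun p : Fin (N + 1) × m => OrderDual.toDual p.1) := by
    intro p q hpq
    have h : p.1 < q.1 := OrderDual.toDual_lt_toDual.mp hpq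
    have h' : p.1.val < q.1.val := Fin.lt_def.mp h
    simp only [Um, Matrix.of_apply]
    rw [if_neg]
    rintro ⟨h1, _⟩
    omega
  rw [hbt.det_fintype]
  refine Finset.prod_eq_one fun k _ => ?_
  have hone : (Um N t : Matrix (Fin (N + 1) × m) (Fin (N + 1) × m) S).toSquareBlock
      (fun p : Fin (N + 1) × m => OrderDual.toDual p.1) k = 1 := by
    ext ⟨p, hp⟩ ⟨q, hq⟩
    have h1 : p.1 = q.1 := OrderDual.toDual.injective (hp.trans hq.symm)
    simp only [Matrix.toSquareBlock_def, Matrix.of_apply, Um, Matrix.one_apply, Subtype.mk.injEq]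
    by_cases h2 : p.2 = q.2
    · rw [if_pos ⟨by rw [h1], h2⟩, if_pos (Prod.ext h1 h2), h1, Nat.sub_self, pow_zero]
    · rw [if_neg (fun h => h2 h.2), if_neg (fun h => h2 (congrArg Prod.snd h))]
  rw [hone, Matrix.det_one]

theorem det_Pm : (Pm N A t).det = (1 - t ^ (N + 1) • A).det := by
  have hbt : (Pm N A t).BlockTriangular (fun p : Fin (N + 1) × m => p.1) := by
    intro p q hpq
    have h : q.1.val < p.1.val := Fin.lt_def.mp hpq
    simp only [Pm, Matrix.of_apply]
    rw [if_neg (by omega), if_neg]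
    rintro ⟨h1, _⟩
    omega
  rw [hbt.det_fintype, Fintype.prod_eq_single (0 : Fin (N + 1))]
  · let e : m ≃ {p : Fin (N + 1) × m // p.1 = 0} :=
      { toFun := fun a => ⟨(0, a), rfl⟩
        invFun := fun p => p.1.2
        left_inv := fun a => rfl
        right_inv := fun ⟨⟨i, a⟩, h⟩ => by
          have h' : i = 0 := h
          subst h'; rfl }
    have hre := Matrix.det_reindex_self e.symm
      ((Pm N A t).toSquareBlock (fun p : Fin (N + 1) × m => p.1) 0)
    rw [← hre]
    congr 1
    ext a c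
    simp only [Matrix.reindex_apply, Matrix.submatrix_apply, Equiv.symm_symm,
      Matrix.toSquareBlock_def, Matrix.of_apply, Pm, e, Equiv.coe_fn_mk, Matrix.sub_apply,
      Matrix.one_apply, Matrix.smul_apply, smul_eq_mul, Fin.val_zero, if_true, true_and,
      Nat.sub_zero]
  · intro k hk
    have hk' : k.val ≠ 0 := fun h => hk (Fin.ext h)
    have hone : (Pm N A t).toSquareBlock (fun p : Fin (N + 1) × m => p.1) k = 1 := by
      ext ⟨p, hp⟩ ⟨q, hq⟩
      have hp' : p.1 = k := hp
      have hq' : q.1 = k := hq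
      simp only [Matrix.toSquareBlock_def, Matrix.of_apply, Pm, Matrix.one_apply,
        Subtype.mk.injEq]
      rw [if_neg (by rw [hp']; exact hk')]
      by_cases h2 : p.2 = q.2
      · rw [if_pos ⟨by rw [hp', hq'], h2⟩, if_pos (Prod.ext (hp'.trans hq'.symm) h2)]
      · rw [if_neg (fun h => h2 h.2), if_neg (fun h => h2 (congrArg Prod.snd h))]
    rw [hone, Matrix.det_one]

theorem det_main : (1 - t • Bm N A).det = (1 - t ^ (N + 1) • A).det := by
  have h := congrArg Matrix.det (mul_eq N A t)
  rw [Matrix.det_mul, det_Um, mul_one, det_Pm] at h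
  exact h

end Groth.Agent.Lib.CyclicBlock
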