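import Mathlib

/-!
# A cyclic subgroup of order `n` in `SL(2, K)` when `ξ + ξ⁻¹ ∈ K` (S14848)
-/

universe u v

namespace Groth.Agent.Lib.CyclicSL2

open Matrix

variable {K : Type u} {L : Type v} [Field K] [Field L] [Algebra K L]

/-- the companion matrix -/
def sig (c : K) : Matrix.SpecialLinearGroup (Fin 2) K :=
  ⟨!![0, -1; 1, 2 * c], by simp [Matrix.det_fin_two]⟩

/-- matrix of eigenvectors -/
def Pm (ξ : L) : Matrix (Fin 2) (Fin 2) L := !![1, 1; -ξ, -ξ⁻¹]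

/-- diagonal matrix of eigenvalue powers -/
def Dm (ξ : L) (k : ℕ) : Matrix (Fin 2) (Fin 2) L := !![ξ ^ k, 0; 0, ξ⁻¹ ^ k]

lemma AL_eq (ξ : L) (c : K) (hc : algebraMap K L (2 * c) = ξ + ξ⁻¹) :
    ((sig c).val).map (algebraMap K L) = !![0, -1; 1, ξ + ξ⁻¹] := by
  ext i j
  fin_cases i <;> fin_cases j <;> simp [sig, hc.symm]

lemma A_mul_P (ξ : L) (hξ0 : ξ ≠ 0) :
    (!![0, -1; 1, ξ + ξ⁻¹] : Matrix (Fin 2) (Fin 2) L) * Pm ξ = Pm ξ * Dm ξ 1 := by
  ext i j
  fin_cases i <;> fin_cases j <;>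
    simp [Pm, Dm, Matrix.mul_apply, Fin.sum_univ_two] <;> field_simp <;> ring

lemma D_mul (ξ : L) (k : ℕ) : Dm ξ k * Dm ξ 1 = Dm ξ (k + 1) := by
  ext i j
  fin_cases i <;> fin_cases j <;> simp [Dm, Matrix.mul_apply, Fin.sum_univ_two, pow_succ]

lemma pow_mul_P (ξ : L) (hξ0 : ξ ≠ 0) (k : ℕ) :
    (!![0, -1; 1, ξ + ξ⁻¹] : Matrix (Fin 2) (Fin 2) L) ^ k * Pm ξ = Pm ξ * Dm ξ k := by
  induction k with
  | zero =>
    have : Dm ξ 0 = 1 := by
      ext i j
      fin_cases i <;> fin_cases j <;> simp [Dm]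
    rw [pow_zero, one_mul, this, mul_one]
  | succ k ih =>
    rw [pow_succ, Matrix.mul_assoc, A_mul_P ξ hξ0, ← Matrix.mul_assoc, ih, Matrix.mul_assoc, D_mul]

lemma pow_eq_one_iff (ξ : L) (hξ0 : ξ ≠ 0) (hξ2 : ξ ^ 2 ≠ 1) (c : K)
    (hc : algebraMap K L (2 * c) = ξ + ξ⁻¹) (k : ℕ) :
    (sig c) ^ k = 1 ↔ ξ ^ k = 1 := by
  have hmap : ((((sig c) ^ k : Matrix.SpecialLinearGroup (Fin 2) K)).val).map (algebraMap K L)
      = (!![0, -1; 1, ξ + ξ⁻¹] : Matrix (Fin 2) (Fin 2) L) ^ k := by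
    rw [Matrix.SpecialLinearGroup.coe_pow, ← AL_eq ξ c hc, ← RingHom.mapMatrix_apply,
      ← RingHom.mapMatrix_apply, map_pow]
  constructor
  · intro h
    rw [h] at hmap
    have h1 := pow_mul_P ξ hξ0 k
    rw [← hmap] at h1
    have h2 : ((1 : Matrix.SpecialLinearGroup (Fin 2) K).val).map (algebraMap K L)
        = (1 : Matrix (Fin 2) (Fin 2) L) := by
      rw [Matrix.SpecialLinearGroup.coe_one]
      exact Matrix.map_one _ (map_zero _) (map_one _)
    rw [h2, one_mul] at h1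
    have h3 := congrFun (congrFun h1 0) 0
    simp [Pm, Dm, Matrix.mul_apply, Fin.sum_univ_two] at h3
    exact h3.symm
  · intro h
    have hD : Dm ξ k = 1 := by
      have h' : ξ⁻¹ ^ k = 1 := by rw [inv_pow, h, inv_one]
      ext i j
      fin_cases i <;> fin_cases j <;> simp [Dm, h, h']
    have h1 := pow_mul_P ξ hξ0 k
    rw [hD, mul_one] at h1
    have hdet : IsUnit (Pm ξ).det := by
      rw [isUnit_iff_ne_zero]
      simp only [Pm, Matrix.det_fin_two_of]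
      intro h0
      apply hξ2
      have : ξ = ξ⁻¹ := by
        have : -ξ⁻¹ + ξ = 0 := by
          rw [← h0]; ring
        rw [neg_add_eq_zero] at this
        exact this.symm
      rw [pow_two]
      nth_rewrite 2 [this]
      exact mul_inv_cancel₀ hξ0
    have h4 : (!![0, -1; 1, ξ + ξ⁻¹] : Matrix (Fin 2) (Fin 2) L) ^ k = 1 := by
      calc (!![0, -1; 1, ξ + ξ⁻¹] : Matrix (Fin 2) (Fin 2) L) ^ k
          = (!![0, -1; 1, ξ + ξ⁻¹] : Matrix (Fin 2) (Fin 2) L) ^ k * (Pm ξ * (Pm ξ)⁻¹) := by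
            rw [Matrix.mul_nonsing_inv _ hdet, mul_one]
        _ = Pm ξ * (Pm ξ)⁻¹ := by rw [← Matrix.mul_assoc, h1]
        _ = 1 := Matrix.mul_nonsing_inv _ hdet
    rw [← hmap] at h4
    apply Subtype.ext
    rw [Matrix.SpecialLinearGroup.coe_one]
    apply Matrix.map_injective (algebraMap K L).injective
    show (((sig c) ^ k : Matrix.SpecialLinearGroup (Fin 2) K).val).map (algebraMap K L)
      = (1 : Matrix (Fin 2) (Fin 2) K).map (algebraMap K L)
    rw [h4]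
    exact (Matrix.map_one _ (map_zero _) (map_one _)).symm

theorem main {K : Type u} {L : Type v} [Field K] [Field L]
    [CharZero K] [Algebra K L] (n : ℕ) (hn : 1 ≤ n) (ξ : L) (hξ : IsPrimitiveRoot ξ n) (c : K)
    (hc : algebraMap K L (2 * c) = ξ + ξ⁻¹) :
    ∃ M : Matrix.SpecialLinearGroup (Fin 2) K, orderOf M = n := by
  by_cases h1 : n = 1
  · subst h1; exact ⟨1, orderOf_one⟩
  by_cases h2 : n = 2
  · subst h2
    let m : Matrix.SpecialLinearGroup (Fin 2) K :=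
      ⟨!![-1, 0; 0, -1], by simp [Matrix.det_fin_two]⟩
    refine ⟨m, ?_⟩
    haveI : Fact (Nat.Prime 2) := ⟨Nat.prime_two⟩
    apply orderOf_eq_prime
    · apply Subtype.ext
      rw [Matrix.SpecialLinearGroup.coe_pow, Matrix.SpecialLinearGroup.coe_one]
      ext i j
      fin_cases i <;> fin_cases j <;> simp [m, pow_two, Matrix.mul_apply, Fin.sum_univ_two]
    · intro h
      have h3 := congrArg (fun M : Matrix.SpecialLinearGroup (Fin 2) K => M.val 0 0) h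
      simp [m] at h3
      have h4 : (2 : K) = 0 := by linear_combination -h3
      exact two_ne_zero h4
  · have hn3 : 3 ≤ n := by omega
    have hξ0 : ξ ≠ 0 := hξ.ne_zero (by omega)
    have hξ2 : ξ ^ 2 ≠ 1 := hξ.pow_ne_one_of_pos_of_lt (by norm_num) (by omega)
    refine ⟨sig c, ?_⟩
    rw [orderOf_eq_iff (by omega)]
    refine ⟨(pow_eq_one_iff ξ hξ0 hξ2 c hc n).mpr hξ.pow_eq_one, ?_⟩
    intro m hm hm0 h
    exact hξ.pow_ne_one_of_pos_of_lt hm0.ne' hm ((pow_eq_one_iff ξ hξ0 hξ2 c hc m).mp h)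

end Groth.Agent.Lib.CyclicSL2
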