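import Mathlib

/-!
# The mapping cylinder splitting (helper6)

For a chain map `a : M ⟶ N` whose mapping cone is contractible,
`M ⊞ cone(a) ≅ N ⊞ cone(𝟙 M)` as complexes.
-/

set_option autoImplicit false
set_option linter.unusedSectionVars false
set_option linter.unusedVariables false
universe v u
open CategoryTheory CategoryTheory.Limits CochainComplex HomComplex

namespace Groth.Agent.Lib.CylSplitH6

variable {C : Type u} [Category.{v} C] [Abelian C] {M N : CochainComplex C ℤ} (a : M ⟶ N)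

/-- `cone(𝟙 M) ⟶ cone(a)` -/
noncomputable def mm : mappingCone (𝟙 M) ⟶ mappingCone a :=
  mappingCone.map (𝟙 M) a (𝟙 M) a (by simp)

lemma inr_mm : mappingCone.inr (𝟙 M) ≫ mm a = a ≫ mappingCone.inr a := by
  simp [mm, mappingCone.map]

lemma inl_v_mm_f (p q : ℤ) (h : p + (-1) = q) :
    (mappingCone.inl (𝟙 M)).v p q h ≫ (mm a).f q = (mappingCone.inl a).v p q h := by
  simp [mm, mappingCone.map]

lemma mm_f_snd_v (n : ℤ) :
    (mm a).f n ≫ (mappingCone.snd a).v n n (add_zero n) =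
      (mappingCone.snd (𝟙 M)).v n n (add_zero n) ≫ a.f n := by
  rw [mappingCone.ext_from_iff _ (n + 1) n rfl]
  constructor
  · simp [mm, mappingCone.map]
  · simp [mm, mappingCone.map]

lemma mm_f_fst_v (n m : ℤ) (h : n + 1 = m) :
    (mm a).f n ≫ (mappingCone.fst a).1.v n m h =
      (mappingCone.fst (𝟙 M)).1.v n m h := by
  subst h
  rw [mappingCone.ext_from_iff _ (n + 1) n rfl]
  constructor
  · simp [mm, mappingCone.map]
  · simp [mm, mappingCone.map]

/-- `M ⟶ N ⊞ cone(𝟙 M)` -/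
noncomputable def uu : M ⟶ N ⊞ mappingCone (𝟙 M) := biprod.lift a (mappingCone.inr (𝟙 M))

/-- `N ⊞ cone(𝟙 M) ⟶ cone(a)` -/
noncomputable def pp : N ⊞ mappingCone (𝟙 M) ⟶ mappingCone a :=
  biprod.desc (mappingCone.inr a) (-(mm a))

lemma uu_pp : uu a ≫ pp a = 0 := by
  simp [uu, pp, inr_mm]

/-- degreewise retraction of `uu` -/
noncomputable def rr (M N : CochainComplex C ℤ) (n : ℤ) : (N ⊞ mappingCone (𝟙 M)).X n ⟶ M.X n :=
  (biprod.snd : N ⊞ mappingCone (𝟙 M) ⟶ _).f n ≫ (mappingCone.snd (𝟙 M)).v n n (add_zero n)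

/-- degreewise section of `pp` -/
noncomputable def ss (n : ℤ) : (mappingCone a).X n ⟶ (N ⊞ mappingCone (𝟙 M)).X n :=
  (mappingCone.snd a).v n n (add_zero n) ≫ (biprod.inl : N ⟶ N ⊞ mappingCone (𝟙 M)).f n -
    (mappingCone.fst a).1.v n (n + 1) rfl ≫ (mappingCone.inl (𝟙 M)).v (n + 1) n (by omega) ≫
      (biprod.inr : mappingCone (𝟙 M) ⟶ N ⊞ mappingCone (𝟙 M)).f n

lemma uu_rr (n : ℤ) : (uu a).f n ≫ rr M N n = 𝟙 _ := by
  have h : uu a ≫ (biprod.snd : N ⊞ mappingCone (𝟙 M) ⟶ _) = mappingCone.inr (𝟙 M) := by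
    simp [uu]
  have h' := HomologicalComplex.congr_hom h n
  rw [HomologicalComplex.comp_f] at h'
  rw [rr, ← Category.assoc, h']
  simp

lemma inl_pp : (biprod.inl : N ⟶ N ⊞ mappingCone (𝟙 M)) ≫ pp a = mappingCone.inr a := by
  simp [pp]

lemma inr_pp : (biprod.inr : mappingCone (𝟙 M) ⟶ N ⊞ mappingCone (𝟙 M)) ≫ pp a = -(mm a) := by
  simp [pp]

lemma ss_pp (n : ℤ) : ss a n ≫ (pp a).f n = 𝟙 _ := by
  have h1 := HomologicalComplex.congr_hom (inl_pp a) n
  have h2 := HomologicalComplex.congr_hom (inr_pp a) n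
  rw [HomologicalComplex.comp_f] at h1 h2
  rw [ss, Preadditive.sub_comp, Category.assoc, h1, Category.assoc, Category.assoc, h2,
    HomologicalComplex.neg_f_apply, Preadditive.comp_neg, Preadditive.comp_neg, sub_neg_eq_add,
    inl_v_mm_f, add_comm]
  exact mappingCone.id_X a n (n + 1) rfl

lemma pp_eq : pp a = (biprod.fst : N ⊞ mappingCone (𝟙 M) ⟶ N) ≫ mappingCone.inr a -
    (biprod.snd : N ⊞ mappingCone (𝟙 M) ⟶ _) ≫ mm a := by
  apply biprod.hom_ext'
  · simp [pp]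
  · simp [pp]

lemma uu_eq : uu a = a ≫ (biprod.inl : N ⟶ N ⊞ mappingCone (𝟙 M)) +
    mappingCone.inr (𝟙 M) ≫ (biprod.inr : mappingCone (𝟙 M) ⟶ N ⊞ mappingCone (𝟙 M)) := by
  apply biprod.hom_ext
  · simp [uu]
  · simp [uu]

lemma rr_uu_add_pp_ss (n : ℤ) : rr M N n ≫ (uu a).f n + (pp a).f n ≫ ss a n = 𝟙 _ := by
  have htot : (𝟙 (N ⊞ mappingCone (𝟙 M)) : N ⊞ mappingCone (𝟙 M) ⟶ _) =
      biprod.fst ≫ biprod.inl + biprod.snd ≫ biprod.inr := biprod.total.symm
  have htot' := HomologicalComplex.congr_hom htot n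
  rw [HomologicalComplex.id_f] at htot'
  rw [htot']
  have hu := HomologicalComplex.congr_hom (uu_eq a) n
  have hp := HomologicalComplex.congr_hom (pp_eq a) n
  rw [hu, hp]
  simp only [HomologicalComplex.add_f_apply, HomologicalComplex.sub_f_apply,
    HomologicalComplex.comp_f, rr, ss, Preadditive.comp_add, Preadditive.add_comp,
    Preadditive.comp_sub, Preadditive.sub_comp, Category.assoc]
  have e1 := mappingCone.inr_f_snd_v a n
  have e2 := mappingCone.inr_f_fst_v a n (n + 1) rfl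
  have e3 := mm_f_snd_v a n
  have e4 := mm_f_fst_v a n (n + 1) rfl
  have e5 := mappingCone.id_X (𝟙 M) n (n + 1) rfl
  rw [reassoc_of% e1, reassoc_of% e2, reassoc_of% e3, reassoc_of% e4]
  simp only [zero_comp, comp_zero, sub_zero]
  -- regroup
  have key : (biprod.snd : N ⊞ mappingCone (𝟙 M) ⟶ _).f n ≫
      ((mappingCone.snd (𝟙 M)).v n n (add_zero n) ≫ (mappingCone.inr (𝟙 M)).f n +
        (mappingCone.fst (𝟙 M)).1.v n (n + 1) rfl ≫
          (mappingCone.inl (𝟙 M)).v (n + 1) n (by omega)) ≫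
      (biprod.inr : mappingCone (𝟙 M) ⟶ N ⊞ mappingCone (𝟙 M)).f n =
      (biprod.snd : N ⊞ mappingCone (𝟙 M) ⟶ _).f n ≫
        (biprod.inr : mappingCone (𝟙 M) ⟶ N ⊞ mappingCone (𝟙 M)).f n := by
    rw [add_comm, e5, Category.id_comp]
  rw [← key]
  simp only [Preadditive.comp_add, Preadditive.add_comp, Category.assoc]
  abel

end Groth.Agent.Lib.CylSplitH6
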