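import Mathlib
import Groth.Agent.Lib.CylSplit1_helper6

/-!
# The mapping cylinder splitting (helper6), part 2

`nonempty_iso_of_contractible_cone`: for `a : M ⟶ N` with `cone(a)` contractible,
`N ⊞ cone(𝟙 M) ≅ M ⊞ cone(a)`.
-/

set_option autoImplicit false
set_option linter.unusedSectionVars false
set_option linter.unusedVariables false
set_option linter.style.haveILetI false
universe v u
open CategoryTheory CategoryTheory.Limits CochainComplex HomComplex

namespace Groth.Agent.Lib.CylSplitH6

variable {C : Type u} [Category.{v} C] [Abelian C] {M N : CochainComplex C ℤ} (a : M ⟶ N)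

/-- the cylinder short complex `M ⟶ N ⊞ cone(𝟙 M) ⟶ cone(a)` -/
noncomputable def cylSC : ShortComplex (CochainComplex C ℤ) :=
  ShortComplex.mk (uu a) (pp a) (uu_pp a)

/-- degreewise splitting of the cylinder short complex -/
noncomputable def cylSplitting (n : ℤ) :
    ((cylSC a).map (HomologicalComplex.eval C (ComplexShape.up ℤ) n)).Splitting where
  r := rr M N n
  s := ss a n
  f_r := uu_rr a n
  s_g := ss_pp a n
  id := rr_uu_add_pp_ss a n

lemma cylSC_shortExact : (cylSC a).ShortExact :=
  HomologicalComplex.shortExact_of_degreewise_shortExact _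
    (fun n => (cylSplitting a n).shortExact)

/-- a chain map section of `pp` from a contraction of the cone -/
noncomputable def tauCocycle (z : Cochain (mappingCone a) (mappingCone a) (-1)) :
    Cocycle (mappingCone a) (N ⊞ mappingCone (𝟙 M)) 0 :=
  Cocycle.mk (δ (-1) 0 (z.comp (Cochain.ofHoms (ss a)) (add_zero (-1)))) 1 (zero_add 1)
    (δ_δ _ _ _ _)

/-- the section -/
noncomputable def tau (z : Cochain (mappingCone a) (mappingCone a) (-1)) :
    mappingCone a ⟶ N ⊞ mappingCone (𝟙 M) :=
  Cocycle.homOf (tauCocycle a z)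

lemma tau_pp (z : Cochain (mappingCone a) (mappingCone a) (-1))
    (hz : Cochain.ofHom (𝟙 (mappingCone a)) = δ (-1) 0 z) : tau a z ≫ pp a = 𝟙 _ := by
  apply Cochain.ofHom_injective
  rw [Cochain.ofHom_comp, tau, Cocycle.cochain_ofHom_homOf_eq_coe]
  show (δ (-1) 0 (z.comp (Cochain.ofHoms (ss a)) (add_zero (-1)))).comp
    (Cochain.ofHom (pp a)) (add_zero 0) = _
  rw [← δ_comp_ofHom, Cochain.comp_assoc_of_second_is_zero_cochain]
  have h1 : (Cochain.ofHoms (ss a)).comp (Cochain.ofHom (pp a)) (add_zero 0) =
      Cochain.ofHom (𝟙 (mappingCone a)) := by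
    ext n
    simp only [Cochain.comp_zero_cochain_v, Cochain.ofHoms_v, Cochain.ofHom_v,
      HomologicalComplex.id_f]
    exact ss_pp a n
  rw [h1, Cochain.comp_id]
  exact hz.symm

/-- **the mapping cylinder splitting** -/
theorem nonempty_iso_of_contractible_cone (h : Homotopy (𝟙 (mappingCone a)) 0) :
    Nonempty (N ⊞ mappingCone (𝟙 M) ≅ M ⊞ mappingCone a) := by
  have hS := cylSC_shortExact a
  haveI : Mono (cylSC a).f := hS.mono_f
  obtain ⟨z, hz⟩ := (Cochain.equivHomotopy _ _) h
  have h3 : Cochain.ofHom (0 : mappingCone a ⟶ mappingCone a) = 0 := by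
    ext n
    simp
  rw [h3, add_zero] at hz
  exact ⟨(ShortComplex.Splitting.ofExactOfSection (cylSC a) hS.exact (tau a z)
    (tau_pp a z hz) inferInstance).isoBinaryBiproduct⟩

end Groth.Agent.Lib.CylSplitH6
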