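import Mathlib

/-!
# Finite projective modules become free after inverting one element (helper6)

* `exists_away_free`: for `X` finite projective and `p` prime, some `g ∉ p` with `R_g ⊗ X` free.
* `free_away_of_dvd`: freeness of `R_g ⊗ X` passes to `R_f ⊗ X` for `g ∣ f`.
* `exists_away_free_family`: simultaneous version for a finite family.
-/

set_option autoImplicit false
set_option linter.unusedSectionVars false
set_option linter.unusedVariables false
set_option linter.style.haveILetI false
universe u
open TensorProduct

namespace Groth.Agent.Lib.CylSplitH6

variable {R : Type u} [CommRing R]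

theorem exists_away_free (p : Ideal R) [p.IsPrime] (X : Type u) [AddCommGroup X] [Module R X]
    [Module.Finite R X] [Module.Projective R X] :
    ∃ g : R, g ∉ p ∧ Module.Free (Localization.Away g) (Localization.Away g ⊗[R] X) := by
  haveI : Module.FinitePresentation R X := Module.finitePresentation_of_projective R X
  haveI : Module.Free (Localization.AtPrime p) (LocalizedModule p.primeCompl X) :=
    Module.free_of_flat_of_isLocalRing
  obtain ⟨g, hg, hgfree, -⟩ := Module.FinitePresentation.exists_free_localizedModule_powers
    p.primeCompl (LocalizedModule.mkLinearMap p.primeCompl X) (Localization.AtPrime p)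
  refine ⟨g, hg, ?_⟩
  haveI : Module.Free (Localization.Away g) (LocalizedModule (Submonoid.powers g) X) := hgfree
  exact Module.Free.of_equiv (LocalizedModule.equivTensorProduct (Submonoid.powers g) X)

theorem free_away_of_dvd (g f : R) (h : g ∣ f) (X : Type u) [AddCommGroup X] [Module R X]
    (hX : Module.Free (Localization.Away g) (Localization.Away g ⊗[R] X)) :
    Module.Free (Localization.Away f) (Localization.Away f ⊗[R] X) := by
  have hu : IsUnit (algebraMap R (Localization.Away f) g) :=
    IsLocalization.Away.isUnit_of_dvd f h
  letI : Algebra (Localization.Away g) (Localization.Away f) :=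
    (IsLocalization.Away.lift (S := Localization.Away g) g hu).toAlgebra
  haveI : IsScalarTower R (Localization.Away g) (Localization.Away f) :=
    IsScalarTower.of_algebraMap_eq' (IsLocalization.Away.lift_comp g hu).symm
  haveI := hX
  exact Module.Free.of_equiv (TensorProduct.AlgebraTensorModule.cancelBaseChange R
    (Localization.Away g) (Localization.Away f) (Localization.Away f) X)

theorem exists_away_free_family (p : Ideal R) [p.IsPrime] {ι : Type} [Fintype ι]
    (X : ι → Type u) [∀ i, AddCommGroup (X i)] [∀ i, Module R (X i)]
    [∀ i, Module.Finite R (X i)] [∀ i, Module.Projective R (X i)] :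
    ∃ g : R, g ∉ p ∧ ∀ f : R, g ∣ f → ∀ i,
      Module.Free (Localization.Away f) (Localization.Away f ⊗[R] X i) := by
  choose g hg hfree using fun i => exists_away_free p (X i)
  refine ⟨∏ i, g i, ?_, fun f hf i => ?_⟩
  · intro hmem
    obtain ⟨i, -, hi⟩ := (Ideal.IsPrime.prod_mem_iff).1 hmem
    exact hg i hi
  · exact free_away_of_dvd (g i) f
      ((Finset.dvd_prod_of_mem g (Finset.mem_univ i)).trans hf) (X i) (hfree i)

end Groth.Agent.Lib.CylSplitH6
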