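import Mathlib
import Groth.Prelude.Def_DRing2
import Groth.Agent.Lib.DMod7_helper6
import Groth.Agent.Lib.CylSplit3_helper6

/-!
# Localising a contractible bounded complex of finite projective modules (helper6)
-/

set_option autoImplicit false
set_option linter.unusedSectionVars false
set_option linter.unusedVariables false
set_option linter.style.haveILetI false
universe u
open CategoryTheory CategoryTheory.Limits TensorProduct
attribute [local instance] HasDerivedCategory.standard

namespace Groth.Agent.Lib.CylSplitH6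

open DRing Groth.Agent.Lib.DMod_helper6 Groth.Agent.ExtendScalarsLib

variable {R : Type u} [CommRing R]

section Split

variable {A B : Type u} [CommRing A] [CommRing B]

lemma free_range_map_of_split (F : ModuleCat.{u} A ⥤ ModuleCat.{u} B) {X Y Z : ModuleCat.{u} A}
    (π : X ⟶ Z) (ι : Z ⟶ Y) (σ : Z ⟶ X) (ρ : Y ⟶ Z) (hσ : σ ≫ π = 𝟙 Z) (hρ : ι ≫ ρ = 𝟙 Z)
    (hfree : Module.Free B (F.obj Z)) :
    Module.Free B (LinearMap.range (F.map (π ≫ ι)).hom) := by
  have hsurj : Function.Surjective (F.map π).hom := by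
    intro z
    refine ⟨(F.map σ).hom z, ?_⟩
    have := congrArg (fun t => (F.map t).hom z) hσ
    simpa using this
  have hinj : Function.Injective (F.map ι).hom := by
    intro z z' hz
    have h1 : ∀ w, (F.map ρ).hom ((F.map ι).hom w) = w := fun w => by
      have := congrArg (fun t => (F.map t).hom w) hρ
      simpa using this
    rw [← h1 z, ← h1 z', hz]
  have hrange : LinearMap.range (F.map (π ≫ ι)).hom = LinearMap.range (F.map ι).hom := by
    rw [Functor.map_comp, ModuleCat.hom_comp]
    exact LinearMap.range_comp_of_range_eq_top _ (LinearMap.range_eq_top.2 hsurj)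
  rw [hrange]
  exact Module.Free.of_equiv (LinearEquiv.ofInjective (F.map ι).hom hinj)

end Split

section Bd

variable (X : Cx R) (h : Homotopy (𝟙 X) 0)

include h in
lemma d_s_d (i : ℤ) : X.d i (i + 1) ≫ h.hom (i + 1) i ≫ X.d i (i + 1) = X.d i (i + 1) := by
  have hc := h.comm i
  rw [dNext_eq h.hom (show (ComplexShape.up ℤ).Rel i (i + 1) from rfl),
    prevD_eq h.hom (show (ComplexShape.up ℤ).Rel (i - 1) i by simp),
    HomologicalComplex.id_f, HomologicalComplex.zero_f, add_zero] at hc
  have h2 := congrArg (fun t => t ≫ X.d i (i + 1)) hc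
  simp only [Category.id_comp, Preadditive.add_comp, Category.assoc,
    HomologicalComplex.d_comp_d, comp_zero, add_zero] at h2
  exact h2.symm

/-- the boundaries -/
abbrev Bd (i : ℤ) : Submodule R (X.X (i + 1)) := LinearMap.range (X.d i (i + 1)).hom

/-- `X^i ⟶ B^i` -/
noncomputable def bdπ (i : ℤ) : X.X i ⟶ ModuleCat.of R (Bd X i) :=
  ModuleCat.ofHom (X.d i (i + 1)).hom.rangeRestrict

/-- `B^i ⟶ X^{i+1}` -/
noncomputable def bdι (i : ℤ) : ModuleCat.of R (Bd X i) ⟶ X.X (i + 1) :=
  ModuleCat.ofHom (Bd X i).subtype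

lemma bdπ_ι (i : ℤ) : bdπ X i ≫ bdι X i = X.d i (i + 1) := by
  apply ModuleCat.hom_ext
  apply LinearMap.ext
  intro x
  rfl

/-- section of `bdπ` -/
noncomputable def bdσ (i : ℤ) : ModuleCat.of R (Bd X i) ⟶ X.X i :=
  bdι X i ≫ h.hom (i + 1) i

/-- retraction of `bdι` -/
noncomputable def bdρ (i : ℤ) : X.X (i + 1) ⟶ ModuleCat.of R (Bd X i) :=
  h.hom (i + 1) i ≫ bdπ X i

lemma bdι_ρ (i : ℤ) : bdι X i ≫ bdρ X h i = 𝟙 _ := by
  apply ModuleCat.hom_ext
  apply LinearMap.ext
  rintro ⟨y, x, rfl⟩
  apply Subtype.ext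
  have := congrArg (fun t => t.hom x) (d_s_d X h i)
  exact this

lemma bdσ_π (i : ℤ) : bdσ X h i ≫ bdπ X i = 𝟙 _ := bdι_ρ X h i

lemma finite_Bd (i : ℤ) (hf : Module.Finite R (X.X i)) : Module.Finite R (Bd X i) :=
  Module.Finite.range _

include h in
lemma projective_Bd (i : ℤ) (hp : Module.Projective R (X.X (i + 1))) :
    Module.Projective R (Bd X i) :=
  Module.Projective.of_split (bdι X i).hom (bdρ X h i).hom (by
    have := congrArg ModuleCat.Hom.hom (bdι_ρ X h i)
    exact this)

end Bd

section Main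

/-- extension of scalars of complexes to `R_f` -/
noncomputable abbrev ESa (f : R) : Cx R ⥤ Cx (Localization.Away f) :=
  (ModuleCat.extendScalars (algebraMap R (Localization.Away f))).mapHomologicalComplex
    (ComplexShape.up ℤ)

theorem exists_away_props (p : Ideal R) [p.IsPrime] (X : Cx R) (a' b' : ℤ)
    (hX : VanishesOutside X a' b') (hp : TermwiseFiniteProjective X) (h : Homotopy (𝟙 X) 0) :
    ∃ g : R, g ∉ p ∧ ∀ f : R, g ∣ f →
      ((∃ a'' b'' : ℤ, VanishesOutside ((ESa f).obj X) a'' b'') ∧
        TermwiseFiniteFree ((ESa f).obj X) ∧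
        (∀ i : ℤ, Module.Free (Localization.Away f)
          (LinearMap.range (((ESa f).obj X).d i (i + 1)).hom)) ∧
        Nonempty (Homotopy (𝟙 ((ESa f).obj X)) 0)) := by
  let ι : Type := {i : ℤ // i ∈ Finset.Icc (a' - 1) b'}
  haveI : Fintype ι := inferInstanceAs (Fintype {i : ℤ // i ∈ Finset.Icc (a' - 1) b'})
  haveI : ∀ i : ι, Module.Finite R (X.X i.1) := fun i => (hp i.1).1
  haveI : ∀ i : ι, Module.Projective R (X.X i.1) := fun i => (hp i.1).2
  haveI : ∀ i : ι, Module.Finite R (Bd X i.1) := fun i => finite_Bd X i.1 (hp i.1).1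
  haveI : ∀ i : ι, Module.Projective R (Bd X i.1) := fun i =>
    projective_Bd X h i.1 (hp (i.1 + 1)).2
  obtain ⟨g₁, hg₁, hfree₁⟩ := exists_away_free_family p (fun i : ι => X.X i.1)
  obtain ⟨g₂, hg₂, hfree₂⟩ := exists_away_free_family p (fun i : ι => Bd X i.1)
  refine ⟨g₁ * g₂, fun hmem => ?_, fun f hf => ⟨⟨a', b', ?_⟩, ?_, ?_, ?_⟩⟩
  · rcases (Ideal.IsPrime.mem_or_mem inferInstance hmem) with h1 | h1
    · exact hg₁ h1
    · exact hg₂ h1
  · intro i hi
    exact (ModuleCat.extendScalars (algebraMap R (Localization.Away f))).map_isZero (hX i hi)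
  · intro i
    refine ⟨finite_ES (B := Localization.Away f) (X.X i) (hp i).1, ?_⟩
    by_cases hi : i ∈ Finset.Icc (a' - 1) b'
    · have := hfree₁ f ((Dvd.intro _ rfl).trans hf) ⟨i, hi⟩
      exact Module.Free.of_equiv (extendScalarsEquivTensor (S := Localization.Away f) (X.X i)).symm
    · have hz : IsZero (X.X i) := hX i (by
        rw [Finset.mem_Icc] at hi
        omega)
      haveI : Subsingleton (((ESa f).obj X).X i) :=
        ModuleCat.subsingleton_of_isZero
          ((ModuleCat.extendScalars (algebraMap R (Localization.Away f))).map_isZero hz)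
      exact Module.Free.of_subsingleton _ _
  · intro i
    by_cases hi : i ∈ Finset.Icc (a' - 1) b'
    · have hfr := hfree₂ f ((Dvd.intro_left _ rfl).trans hf) ⟨i, hi⟩
      have hfr' : Module.Free (Localization.Away f)
          ((ES R (Localization.Away f)).obj (ModuleCat.of R (Bd X i))) :=
        Module.Free.of_equiv (extendScalarsEquivTensor (S := Localization.Away f)
          (ModuleCat.of R (Bd X i))).symm
      have := free_range_map_of_split (ES R (Localization.Away f)) (bdπ X i) (bdι X i)
        (bdσ X h i) (bdρ X h i) (bdσ_π X h i) (bdι_ρ X h i) hfr'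
      rw [bdπ_ι] at this
      exact this
    · have hz : IsZero (X.X (i + 1)) := hX (i + 1) (by
        rw [Finset.mem_Icc] at hi
        omega)
      haveI : Subsingleton (((ESa f).obj X).X (i + 1)) :=
        ModuleCat.subsingleton_of_isZero
          ((ModuleCat.extendScalars (algebraMap R (Localization.Away f))).map_isZero hz)
      exact Module.Free.of_subsingleton _ _
  · have h1 := (ModuleCat.extendScalars (algebraMap R (Localization.Away f))).mapHomotopy h
    rw [Functor.map_zero, CategoryTheory.Functor.map_id] at h1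
    exact ⟨h1⟩

end Main

end Groth.Agent.Lib.CylSplitH6
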