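import Mathlib
import Groth.Agent.Lib.CylSplit2_helper6
import Groth.Agent.Lib.CylSplit4_helper6
import Groth.Agent.Lib.DMod25_helper6
import Groth.Agent.Lib.PerfectCx_helper2
import Groth.Agent.Lib.BifCone_helper2

/-!
# Quasi-isomorphic bounded complexes of finite projective modules are stably isomorphic locally
(helper6)
-/

set_option autoImplicit false
set_option linter.unusedSectionVars false
set_option linter.unusedVariables false
set_option linter.style.haveILetI false
universe u
open CategoryTheory CategoryTheory.Limits TensorProduct CochainComplex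
attribute [local instance] HasDerivedCategory.standard

namespace Groth.Agent.Lib.CylSplitH6

open DRing Groth.Agent.Lib.DMod_helper6 Groth.Agent.ExtendScalarsLib Groth.Agent.Lib.BifCone

variable {R : Type u} [CommRing R]

lemma cone_vanishesOutside {M N : Cx R} (φ : M ⟶ N) (a b : ℤ) (hM : VanishesOutside M a b)
    (hN : VanishesOutside N a b) : VanishesOutside (mappingCone φ) (a - 1) b := fun i hi =>
  IsZero.of_iso (isZero_biprod (hM (i + 1) (by omega)) (hN i (by omega))) (coneXIso φ i)

lemma cone_termwiseFiniteProjective {M N : Cx R} (φ : M ⟶ N) (hM : TermwiseFiniteProjective M)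
    (hN : TermwiseFiniteProjective N) : TermwiseFiniteProjective (mappingCone φ) := fun i =>
  ⟨finite_of_iso (coneXIso φ i).symm (finite_biprod (hM (i + 1)).1 (hN i).1),
    projective_of_iso (coneXIso φ i).symm (projective_biprod (hM (i + 1)).2 (hN i).2)⟩

theorem main12098 (p : Ideal R) [p.IsPrime]
    (M N : DRing.Cx R) (a b : ℤ) (hM : DRing.VanishesOutside M a b)
    (hN : DRing.VanishesOutside N a b)
    (hMp : DRing.TermwiseFiniteProjective M) (hNp : DRing.TermwiseFiniteProjective N)
    (h : Nonempty (DRing.toD M ≅ DRing.toD N)) :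
    ∃ f : R, f ∉ p ∧ ∃ P Q : DRing.Cx (Localization.Away f),
      ((∃ a' b' : ℤ, DRing.VanishesOutside P a' b') ∧ DRing.TermwiseFiniteFree P ∧
          (∀ i : ℤ, Module.Free (Localization.Away f) (LinearMap.range (P.d i (i + 1)).hom)) ∧
          Nonempty (Homotopy (𝟙 P) 0)) ∧
      ((∃ a' b' : ℤ, DRing.VanishesOutside Q a' b') ∧ DRing.TermwiseFiniteFree Q ∧
          (∀ i : ℤ, Module.Free (Localization.Away f) (LinearMap.range (Q.d i (i + 1)).hom)) ∧
          Nonempty (Homotopy (𝟙 Q) 0)) ∧
      Nonempty ((ESa f).obj M ⊞ P ≅ (ESa f).obj N ⊞ Q) := by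
  obtain ⟨e⟩ := h
  haveI : M.IsKProjective :=
    isKProjective_of_projective_bounded M b (fun i hi => hM i (Or.inr hi)) (fun i => (hMp i).2)
  obtain ⟨φ, hφ, -⟩ := Groth.Agent.PerfectCx.exists_quasiIso_of_iso M N e
  haveI := hφ
  -- the cone of `φ` is contractible
  have hDb := cone_vanishesOutside φ a b hM hN
  have hDp := cone_termwiseFiniteProjective φ hMp hNp
  haveI : (mappingCone φ).IsKProjective :=
    isKProjective_of_projective_bounded _ b (fun i hi => hDb i (Or.inr hi)) (fun i => (hDp i).2)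
  have hDac : (mappingCone φ).Acyclic := (quasiIso_iff_acyclic_mappingCone φ).1 inferInstance
  have hD : Homotopy (𝟙 (mappingCone φ)) 0 :=
    CochainComplex.IsKProjective.homotopyZero (𝟙 (mappingCone φ)) hDac
  -- the cone of the identity
  have hKb := cone_vanishesOutside (𝟙 M) a b hM hM
  have hKp := cone_termwiseFiniteProjective (𝟙 M) hMp hMp
  have hK : Homotopy (𝟙 (mappingCone (𝟙 M))) 0 := mappingCone.homotopyToZeroOfId M
  obtain ⟨Θ⟩ := nonempty_iso_of_contractible_cone φ hD
  obtain ⟨g₁, hg₁, hP⟩ := exists_away_props p (mappingCone φ) (a - 1) b hDb hDp hD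
  obtain ⟨g₂, hg₂, hQ⟩ := exists_away_props p (mappingCone (𝟙 M)) (a - 1) b hKb hKp hK
  refine ⟨g₁ * g₂, fun hmem => ?_, (ESa (g₁ * g₂)).obj (mappingCone φ),
    (ESa (g₁ * g₂)).obj (mappingCone (𝟙 M)), hP _ (Dvd.intro _ rfl), hQ _ (Dvd.intro_left _ rfl),
    ⟨?_⟩⟩
  · rcases (Ideal.IsPrime.mem_or_mem inferInstance hmem) with h1 | h1
    · exact hg₁ h1
    · exact hg₂ h1
  · haveI : PreservesBinaryBiproducts (ESa (g₁ * g₂)) :=
      preservesBinaryBiproducts_of_preservesBiproducts _
    exact ((ESa (g₁ * g₂)).mapBiprod M (mappingCone φ)).symm ≪≫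
      (ESa (g₁ * g₂)).mapIso Θ.symm ≪≫ (ESa (g₁ * g₂)).mapBiprod N (mappingCone (𝟙 M))

end Groth.Agent.Lib.CylSplitH6
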