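import Mathlib

/-!
# The free presheaf of modules on a representable, and its adjunction with evaluation (helper3)
-/

set_option autoImplicit false
set_option linter.all false
set_option maxHeartbeats 1600000

open CategoryTheory Limits Opposite

namespace Groth.Agent.Lib.DCShH3

universe u

variable {C : Type (u + 1)} [Category.{u} C] (Λ : Type (u + 1)) [CommRing Λ] (U : C)

/-- The presheaf `V ↦ ⊕_{Hom(V,U)} M`. -/
noncomputable def freePshObj (M : ModuleCat.{u + 1} Λ) : Cᵒᵖ ⥤ ModuleCat.{u + 1} Λ where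
  obj V := ModuleCat.of Λ ((V.unop ⟶ U) →₀ M)
  map {V V'} g := ModuleCat.ofHom (Finsupp.lmapDomain M Λ (fun a => g.unop ≫ a))
  map_id V := by
    ext : 1
    apply Finsupp.lhom_ext'
    intro a
    ext m
    simp [Finsupp.lmapDomain]
  map_comp {V V' V''} g h := by
    ext : 1
    apply Finsupp.lhom_ext'
    intro a
    ext m
    simp [Finsupp.lmapDomain, Finsupp.mapDomain_single]

/-- Functoriality in the module. -/
noncomputable def freePsh : ModuleCat.{u + 1} Λ ⥤ (Cᵒᵖ ⥤ ModuleCat.{u + 1} Λ) where
  obj M := freePshObj Λ U M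
  map {M M'} φ :=
    { app := fun V => ModuleCat.ofHom (Finsupp.mapRange.linearMap φ.hom)
      naturality := by
        intro V V' g
        ext : 1
        apply Finsupp.lhom_ext'
        intro a
        ext m
        show Finsupp.mapRange φ.hom (map_zero _)
            (Finsupp.mapDomain (fun a => g.unop ≫ a) (Finsupp.single a m)) =
          Finsupp.mapDomain (fun a => g.unop ≫ a)
            (Finsupp.mapRange φ.hom (map_zero _) (Finsupp.single a m))
        rw [Finsupp.mapDomain_single, Finsupp.mapRange_single, Finsupp.mapRange_single,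
          Finsupp.mapDomain_single] }
  map_id M := by
    ext V : 2
    ext : 1
    apply Finsupp.lhom_ext'
    intro a
    ext m
    show Finsupp.mapRange (LinearMap.id : M →ₗ[Λ] M) (map_zero _) (Finsupp.single a m) =
      Finsupp.single a m
    rw [Finsupp.mapRange_single]
    rfl
  map_comp φ ψ := by
    ext V : 2
    ext : 1
    apply Finsupp.lhom_ext'
    intro a
    ext m
    show Finsupp.mapRange (ψ.hom ∘ₗ φ.hom) (map_zero _) (Finsupp.single a m) =
      Finsupp.mapRange ψ.hom (map_zero _) (Finsupp.mapRange φ.hom (map_zero _)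
        (Finsupp.single a m))
    rw [Finsupp.mapRange_single, Finsupp.mapRange_single, Finsupp.mapRange_single]
    rfl

variable {Λ U}

/-- The map `P_M ⟶ H` attached to `M ⟶ H(U)`. -/
noncomputable def freeDesc {M : ModuleCat.{u + 1} Λ} {H : Cᵒᵖ ⥤ ModuleCat.{u + 1} Λ}
    (φ : M ⟶ H.obj (op U)) : freePshObj Λ U M ⟶ H where
  app V := ModuleCat.ofHom (Finsupp.lsum Λ (fun a : V.unop ⟶ U => (H.map a.op).hom ∘ₗ φ.hom))
  naturality := by
    intro V V' g
    ext : 1
    apply Finsupp.lhom_ext'
    intro a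
    ext m
    show (Finsupp.lsum Λ (fun a : V'.unop ⟶ U => (H.map a.op).hom ∘ₗ φ.hom))
        (Finsupp.mapDomain (fun a => g.unop ≫ a) (Finsupp.single a m)) =
      (H.map g).hom ((Finsupp.lsum Λ (fun a : V.unop ⟶ U => (H.map a.op).hom ∘ₗ φ.hom))
        (Finsupp.single a m))
    rw [Finsupp.mapDomain_single, Finsupp.lsum_single, Finsupp.lsum_single]
    show (H.map (g.unop ≫ a).op).hom (φ.hom m) = (H.map g).hom ((H.map a.op).hom (φ.hom m))
    rw [op_comp, Functor.map_comp]
    rfl

theorem freeDesc_app_single {M : ModuleCat.{u + 1} Λ} {H : Cᵒᵖ ⥤ ModuleCat.{u + 1} Λ}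
    (φ : M ⟶ H.obj (op U)) (V : Cᵒᵖ) (a : V.unop ⟶ U) (m : M) :
    ((freeDesc φ).app V).hom (Finsupp.single a m) = (H.map a.op).hom (φ.hom m) := by
  show (Finsupp.lsum Λ (fun a : V.unop ⟶ U => (H.map a.op).hom ∘ₗ φ.hom))
    (Finsupp.single a m) = _
  rw [Finsupp.lsum_single]
  rfl

/-- The section of `P_M` over `U` attached to `m`. -/
noncomputable def freeUnit (M : ModuleCat.{u + 1} Λ) : M ⟶ (freePshObj Λ U M).obj (op U) :=
  ModuleCat.ofHom (Finsupp.lsingle (𝟙 U))

theorem freePshObj_map_single (M : ModuleCat.{u + 1} Λ) {V V' : Cᵒᵖ} (g : V ⟶ V')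
    (a : V.unop ⟶ U) (m : M) :
    ((freePshObj Λ U M).map g).hom (Finsupp.single a m) = Finsupp.single (g.unop ≫ a) m := by
  show Finsupp.mapDomain (fun a => g.unop ≫ a) (Finsupp.single a m) = _
  rw [Finsupp.mapDomain_single]

/-- `Hom(P_M, H) ≃ Hom(M, H(U))`. -/
noncomputable def freeHomEquiv (M : ModuleCat.{u + 1} Λ) (H : Cᵒᵖ ⥤ ModuleCat.{u + 1} Λ) :
    (freePshObj Λ U M ⟶ H) ≃ (M ⟶ H.obj (op U)) where
  toFun η := freeUnit M ≫ η.app (op U)
  invFun φ := freeDesc φ
  left_inv η := by
    ext V : 2
    ext : 1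
    apply Finsupp.lhom_ext'
    intro a
    ext m
    show ((freeDesc (freeUnit M ≫ η.app (op U))).app V).hom (Finsupp.single a m) =
      (η.app V).hom (Finsupp.single a m)
    rw [freeDesc_app_single]
    show (H.map a.op).hom ((η.app (op U)).hom (Finsupp.single (𝟙 U) m)) = _
    have hnat := congrArg (fun t => t.hom (Finsupp.single (𝟙 U) m)) (η.naturality a.op)
    dsimp only at hnat
    rw [ModuleCat.comp_apply, ModuleCat.comp_apply] at hnat
    rw [← hnat, freePshObj_map_single]
    show (η.app V).hom (Finsupp.single (a ≫ 𝟙 U) m) = _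
    rw [Category.comp_id]
  right_inv φ := by
    ext m
    show ((freeDesc φ).app (op U)).hom (Finsupp.single (𝟙 U) m) = φ.hom m
    rw [freeDesc_app_single]
    show (H.map (𝟙 (op U))).hom (φ.hom m) = φ.hom m
    rw [H.map_id]
    rfl

variable (Λ U)

/-- The adjunction between the free presheaf functor and evaluation at `U`. -/
noncomputable def freeAdj :
    freePsh Λ U ⊣ (evaluation Cᵒᵖ (ModuleCat.{u + 1} Λ)).obj (op U) :=
  Adjunction.mkOfHomEquiv
    { homEquiv := fun M H => freeHomEquiv M H
      homEquiv_naturality_left_symm := by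
        intro M' M H ψ φ
        ext V : 2
        ext : 1
        apply Finsupp.lhom_ext'
        intro a
        ext m
        show ((freeDesc (ψ ≫ φ)).app V).hom (Finsupp.single a m) =
          ((freeDesc φ).app V).hom (Finsupp.mapRange ψ.hom (map_zero _) (Finsupp.single a m))
        rw [Finsupp.mapRange_single, freeDesc_app_single, freeDesc_app_single]
        rfl
      homEquiv_naturality_right := by
        intro M H H' η θ
        rfl }

end Groth.Agent.Lib.DCShH3
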