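import Mathlib
import Groth.Prelude.Def_ProEtDC
import Groth.Agent.Lib.DCSh1_helper3

/-!
# Extension by zero of constant sheaves of modules on the pro-étale site, explicitly (helper3)
-/

set_option autoImplicit false
set_option linter.all false
set_option maxHeartbeats 1600000

open CategoryTheory Limits Opposite AlgebraicGeometry

namespace Groth.Agent.Lib.DCShH3

universe u

variable {X : Scheme.{u}} (Λ : Type (u + 1)) [CommRing Λ] (U : X.ProEt)

/-- The free presheaf functor preserves monomorphisms. -/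
instance freePsh_preservesMono {C : Type (u + 1)} [Category.{u} C] (U : C) :
    (freePsh Λ U).PreservesMonomorphisms := by
  refine ⟨fun {M M'} φ hφ => ?_⟩
  haveI : ∀ V, Mono (((freePsh Λ U).map φ).app V) := by
    intro V
    rw [ModuleCat.mono_iff_injective]
    have hinj : Function.Injective φ.hom := (ModuleCat.mono_iff_injective φ).mp hφ
    exact Finsupp.mapRange_injective _ (map_zero _) hinj
  exact NatTrans.mono_of_mono_app _

/-- The explicit extension by zero of the constant sheaf. -/
noncomputable def Lx : ModuleCat.{u + 1} Λ ⥤ EtModW.ModP Λ X :=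
  freePsh Λ U ⋙ presheafToSheaf (Scheme.ProEt.topology X) (ModuleCat.{u + 1} Λ)

/-- Sections over `U`. -/
noncomputable def Rx : EtModW.ModP Λ X ⥤ ModuleCat.{u + 1} Λ :=
  sheafToPresheaf (Scheme.ProEt.topology X) (ModuleCat.{u + 1} Λ) ⋙
    (evaluation X.ProEtᵒᵖ (ModuleCat.{u + 1} Λ)).obj (op U)

noncomputable def adjx : Lx Λ U ⊣ Rx Λ U :=
  (freeAdj Λ U).comp (sheafificationAdjunction (Scheme.ProEt.topology X) (ModuleCat.{u + 1} Λ))

instance : (Lx Λ U).PreservesMonomorphisms := by
  unfold Lx
  infer_instance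

/-- The abstract version (as in the definition of `ProEtDC.locExt`). -/
noncomputable def La : ModuleCat.{u + 1} Λ ⥤ EtModW.ModP Λ X :=
  constantSheaf ((Scheme.ProEt.topology X).over U) (ModuleCat.{u + 1} Λ) ⋙ ProEtDC.extZeroModP Λ U

noncomputable def Ra : EtModW.ModP Λ X ⥤ ModuleCat.{u + 1} Λ :=
  (Over.forget U).sheafPushforwardContinuous (ModuleCat.{u + 1} Λ)
    ((Scheme.ProEt.topology X).over U) (Scheme.ProEt.topology X) ⋙
    (sheafSections ((Scheme.ProEt.topology X).over U) (ModuleCat.{u + 1} Λ)).obj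
      (op (Over.mk (𝟙 U)))

noncomputable def adja : La Λ U ⊣ Ra Λ U :=
  (constantSheafAdj ((Scheme.ProEt.topology X).over U) (ModuleCat.{u + 1} Λ)
    Over.mkIdTerminal).comp
    ((Over.forget U).sheafAdjunctionContinuous (ModuleCat.{u + 1} Λ)
      ((Scheme.ProEt.topology X).over U) (Scheme.ProEt.topology X))

noncomputable def RaIsoRx : Ra Λ U ≅ Rx Λ U :=
  NatIso.ofComponents (fun F => Iso.refl _) (by intro F G φ; rfl)

noncomputable def LaIsoLx : La Λ U ≅ Lx Λ U :=
  Adjunction.leftAdjointUniq (adja Λ U) ((adjx Λ U).ofNatIsoRight (RaIsoRx Λ U).symm)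

theorem locExt_eq (f : Λ) :
    ProEtDC.locExt Λ U f = (La Λ U).obj (ModuleCat.of Λ (Localization.Away f)) := rfl

end Groth.Agent.Lib.DCShH3
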