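import Mathlib
import Groth.Prelude.Def_ProEtDC
import Groth.Agent.Lib.DCSh2_helper3

/-!
# Derived complete sheaves: sections are derived complete modules (helper3)
-/

set_option autoImplicit false
set_option linter.all false
set_option maxHeartbeats 1600000

open CategoryTheory Limits Opposite AlgebraicGeometry Polynomial

namespace Groth.Agent.Lib.DCShH3

universe u

section Module

variable (Λ : Type (u + 1)) [CommRing Λ] (f : Λ)

/-- The polynomial `f X - 1`. -/
noncomputable abbrev gPoly : Λ[X] := C f * X - 1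

theorem gPoly_mul_eq_zero {p : Λ[X]} (h : gPoly Λ f * p = 0) : p = 0 := by
  have hu : IsUnit ((gPoly Λ f : Λ[X]) : PowerSeries Λ) := by
    rw [PowerSeries.isUnit_iff_constantCoeff]
    simp [gPoly]
  have h2 : ((gPoly Λ f : Λ[X]) : PowerSeries Λ) * (p : PowerSeries Λ) = 0 := by
    rw [← Polynomial.coe_mul, h, Polynomial.coe_zero]
  have h3 : (p : PowerSeries Λ) = 0 := (hu.mul_right_eq_zero).mp h2
  exact Polynomial.coe_eq_zero_iff.mp h3

noncomputable def dPoly : ModuleCat.of Λ Λ[X] ⟶ ModuleCat.of Λ Λ[X] :=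
  ModuleCat.ofHom (LinearMap.mulLeft Λ (gPoly Λ f))

noncomputable def piPoly : ModuleCat.of Λ Λ[X] ⟶ ModuleCat.of Λ (Localization.Away f) :=
  ModuleCat.ofHom ((Localization.awayEquivAdjoin f).symm.toLinearMap ∘ₗ
    (AdjoinRoot.mkₐ (gPoly Λ f)).toLinearMap)

theorem piPoly_apply (p : Λ[X]) :
    (piPoly Λ f).hom p = (Localization.awayEquivAdjoin f).symm (AdjoinRoot.mk (gPoly Λ f) p) :=
  rfl

theorem dPoly_apply (p : Λ[X]) : (dPoly Λ f).hom p = gPoly Λ f * p := rfl

noncomputable def polySC : ShortComplex (ModuleCat.{u + 1} Λ) :=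
  ShortComplex.mk (dPoly Λ f) (piPoly Λ f) (by
    apply ModuleCat.hom_ext
    apply LinearMap.ext
    intro p
    show (piPoly Λ f).hom ((dPoly Λ f).hom p) = 0
    rw [dPoly_apply, piPoly_apply, map_mul, AdjoinRoot.mk_self, zero_mul, map_zero])

theorem polySC_shortExact : (polySC Λ f).ShortExact := by
  refine ShortComplex.ShortExact.mk' ?_ ?_ ?_
  · rw [ShortComplex.moduleCat_exact_iff]
    intro p hp
    have hp' : (Localization.awayEquivAdjoin f).symm (AdjoinRoot.mk (gPoly Λ f) p) = 0 := hp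
    have h2 : AdjoinRoot.mk (gPoly Λ f) p = 0 := by
      have := congrArg (Localization.awayEquivAdjoin f) hp'
      rw [AlgEquiv.apply_symm_apply, map_zero] at this
      exact this
    rw [AdjoinRoot.mk_eq_zero] at h2
    obtain ⟨q, rfl⟩ := h2
    exact ⟨q, rfl⟩
  · rw [ModuleCat.mono_iff_injective]
    intro (p : Λ[X]) (q : Λ[X]) hpq
    have h1 : gPoly Λ f * (p - q) = 0 := by
      have : gPoly Λ f * p = gPoly Λ f * q := hpq
      rw [mul_sub, this, sub_self]
    exact sub_eq_zero.mp (gPoly_mul_eq_zero Λ f h1)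
  · rw [ModuleCat.epi_iff_surjective]
    intro y
    obtain ⟨p, hp⟩ := AdjoinRoot.mk_surjective (Localization.awayEquivAdjoin f y)
    refine ⟨p, ?_⟩
    show (Localization.awayEquivAdjoin f).symm (AdjoinRoot.mk (gPoly Λ f) p) = y
    rw [hp, AlgEquiv.symm_apply_apply]

end Module

section Abstract

open Abelian

variable {𝒜 : Type*} [Category 𝒜] [Abelian 𝒜] [HasExt.{u + 1} 𝒜]

/-- For a short exact sequence `0 → P → P' → Q → 0` and `F` with `Ext^0(Q,F) = Ext^1(Q,F) = 0`,
precomposition with `P → P'` is bijective on `Hom(-, F)`. -/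
theorem bijective_precomp_of_ext_vanish {S : ShortComplex 𝒜} (hS : S.ShortExact) (F : 𝒜)
    (h0 : Subsingleton (Ext.{u + 1} S.X₃ F 0)) (h1 : Subsingleton (Ext.{u + 1} S.X₃ F 1)) :
    Function.Bijective (fun h : S.X₂ ⟶ F => S.f ≫ h) := by
  constructor
  · intro h h' hh
    have hsub : S.f ≫ (h - h') = 0 := by
      rw [Preadditive.comp_sub]
      exact sub_eq_zero.mpr hh
    have h2 : (Ext.mk₀ S.f).comp (Ext.mk₀ (h - h')) (zero_add 0) = 0 := by
      rw [Ext.mk₀_comp_mk₀, hsub, Ext.mk₀_zero]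
    obtain ⟨x₁, hx₁⟩ := Ext.contravariant_sequence_exact₂ hS F (Ext.mk₀ (h - h')) h2
    have hx0 : x₁ = 0 := Subsingleton.elim _ _
    rw [hx0, Ext.comp_zero] at hx₁
    have h3 : h - h' = 0 := (Ext.mk₀_eq_zero_iff _).mp hx₁.symm
    exact sub_eq_zero.mp h3
  · intro k
    have h2 : hS.extClass.comp (Ext.mk₀ k) (add_zero 1) = 0 := Subsingleton.elim _ _
    obtain ⟨x₂, hx₂⟩ := Ext.contravariant_sequence_exact₁ hS F (Ext.mk₀ k) (add_zero 1) h2
    refine ⟨Ext.addEquiv₀ x₂, ?_⟩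
    apply (Ext.mk₀_bijective _ _).1
    show Ext.mk₀ (S.f ≫ Ext.addEquiv₀ x₂) = Ext.mk₀ k
    rw [← Ext.mk₀_comp_mk₀, Ext.mk₀_addEquiv₀_apply, hx₂]

/-- Vanishing of `Ext` transfers along isomorphisms in the first variable. -/
theorem subsingleton_ext_of_iso {A B : 𝒜} (e : A ≅ B) (F : 𝒜) (n : ℕ)
    (h : Subsingleton (Ext.{u + 1} A F n)) : Subsingleton (Ext.{u + 1} B F n) := by
  refine ⟨fun x y => ?_⟩
  have hx : (Ext.mk₀ e.hom).comp x (zero_add n) = (Ext.mk₀ e.hom).comp y (zero_add n) :=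
    Subsingleton.elim _ _
  have := congrArg (fun z => (Ext.mk₀ e.inv).comp z (zero_add n)) hx
  rw [Ext.mk₀_comp_mk₀_assoc, Ext.mk₀_comp_mk₀_assoc, e.inv_hom_id, Ext.mk₀_id_comp,
    Ext.mk₀_id_comp] at this
  exact this

end Abstract

section Sheaf

variable {X : Scheme.{u}} (Λ : Type (u + 1)) [CommRing Λ] (U : X.ProEt) (f : Λ)

instance : (Rx Λ U).Additive where
  map_add := rfl

instance : (Lx Λ U).Additive := (adjx Λ U).left_adjoint_additive

theorem shortExact_Lx : ((polySC Λ f).map (Lx Λ U)).ShortExact := by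
  have hS := polySC_shortExact Λ f
  haveI := hS.mono_f
  haveI := hS.epi_g
  haveI : (Lx Λ U).IsLeftAdjoint := (adjx Λ U).isLeftAdjoint
  refine ShortComplex.ShortExact.mk' ?_ ?_ ?_
  · exact hS.exact.map_of_epi_of_preservesCokernel (Lx Λ U) inferInstance inferInstance
  · show Mono ((Lx Λ U).map (polySC Λ f).f)
    infer_instance
  · show Epi ((Lx Λ U).map (polySC Λ f).g)
    infer_instance

/-- Sections of a derived complete sheaf: precomposition with multiplication by `f X - 1` is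
bijective on `Hom_Λ(Λ[X], F(U))`. -/
theorem bijective_of_isDCSheaf {I : Ideal Λ} (F : EtModW.ModP Λ X)
    (hF : ProEtDC.IsDCSheaf Λ I F) (hf : f ∈ I) :
    Function.Bijective (fun h : ModuleCat.of Λ Λ[X] ⟶ F.obj.obj (op U) => dPoly Λ f ≫ h) := by
  have hS := shortExact_Lx Λ U f
  let e : (La Λ U).obj (ModuleCat.of Λ (Localization.Away f)) ≅
      (Lx Λ U).obj (ModuleCat.of Λ (Localization.Away f)) := (LaIsoLx Λ U).app _
  have h0 := subsingleton_ext_of_iso e F 0 (hF U f hf 0)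
  have h1 := subsingleton_ext_of_iso e F 1 (hF U f hf 1)
  have key := bijective_precomp_of_ext_vanish hS F h0 h1
  let E := (adjx Λ U).homEquiv (ModuleCat.of Λ Λ[X]) F
  have hcomm : ∀ h : ModuleCat.of Λ Λ[X] ⟶ F.obj.obj (op U),
      dPoly Λ f ≫ h = E ((Lx Λ U).map (dPoly Λ f) ≫ E.symm h) := by
    intro h
    rw [Adjunction.homEquiv_naturality_left, Equiv.apply_symm_apply]
    rfl
  have : (fun h : ModuleCat.of Λ Λ[X] ⟶ F.obj.obj (op U) => dPoly Λ f ≫ h) =
      E ∘ (fun h => (Lx Λ U).map (dPoly Λ f) ≫ h) ∘ E.symm := by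
    funext h
    exact hcomm h
  rw [this]
  exact E.bijective.comp (key.comp E.symm.bijective)

end Sheaf

end Groth.Agent.Lib.DCShH3
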