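import Mathlib

/-!
# Derived complete modules, elementwise (helper3)

For a module `M` over `Λ` and `f : Λ` we consider the operator `T_f` on sequences,
`(T_f m)_n = f • m_{n+1} - m_n`.  `M` is derived `f`-complete iff `T_f` is bijective.
-/

set_option autoImplicit false
set_option linter.all false
set_option maxHeartbeats 1600000

open Polynomial

namespace Groth.Agent.Lib.DCShH3

universe v w

variable {Λ : Type w} [CommRing Λ]

section Seq

variable (f : Λ) (M : Type v) [AddCommGroup M] [Module Λ M]

/-- The operator `T_f` on sequences. -/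
def Tseq (m : ℕ → M) : ℕ → M := fun n => f • m (n + 1) - m n

/-- Derived `f`-completeness, elementwise. -/
def DCSeq : Prop := Function.Bijective (Tseq f M)

variable {f M}

theorem Tseq_add (m m' : ℕ → M) : Tseq f M (m + m') = Tseq f M m + Tseq f M m' := by
  funext n
  simp only [Tseq, Pi.add_apply, smul_add]
  abel

theorem Tseq_sub (m m' : ℕ → M) : Tseq f M (m - m') = Tseq f M m - Tseq f M m' := by
  funext n
  simp only [Tseq, Pi.sub_apply, smul_sub]
  abel

theorem Tseq_zero : Tseq f M 0 = 0 := by
  funext n
  simp [Tseq]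

theorem Tseq_map {N : Type*} [AddCommGroup N] [Module Λ N] (g : M →ₗ[Λ] N) (m : ℕ → M) :
    Tseq f N (fun n => g (m n)) = fun n => g (Tseq f M m n) := by
  funext n
  simp [Tseq]

theorem Tseq_injective_iff :
    Function.Injective (Tseq f M) ↔ ∀ m : ℕ → M, Tseq f M m = 0 → m = 0 := by
  constructor
  · intro h m hm
    exact h (hm.trans Tseq_zero.symm)
  · intro h m m' hmm
    have : Tseq f M (m - m') = 0 := by rw [Tseq_sub, hmm, sub_self]
    exact sub_eq_zero.mp (h _ this)

/-- The cokernel of a linear map between derived complete modules is derived complete. -/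
theorem DCSeq.quotient_range {N : Type*} [AddCommGroup N] [Module Λ N] (g : M →ₗ[Λ] N)
    (hM : Function.Surjective (Tseq f M)) (hN : DCSeq f N) :
    DCSeq f (N ⧸ LinearMap.range g) := by
  constructor
  · rw [Tseq_injective_iff]
    intro q hq
    choose n hn using fun k => Submodule.Quotient.mk_surjective (LinearMap.range g) (q k)
    have h1 : ∀ k, Tseq f N n k ∈ LinearMap.range g := by
      intro k
      rw [← Submodule.Quotient.mk_eq_zero]
      have := congrFun hq k
      simp only [Tseq, Pi.zero_apply] at this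
      simp only [Tseq, Submodule.Quotient.mk_sub, Submodule.Quotient.mk_smul, hn]
      exact this
    choose m hm using h1
    obtain ⟨m', hm'⟩ := hM m
    have h2 : Tseq f N (n - fun k => g (m' k)) = 0 := by
      rw [Tseq_sub, Tseq_map g m', hm']
      funext k
      simp only [Pi.sub_apply, Pi.zero_apply, hm k, sub_self]
    have h3 := (Tseq_injective_iff.mp hN.1) _ h2
    funext k
    have h4 : n k = g (m' k) := by
      have := congrFun h3 k
      simpa [sub_eq_zero] using this
    rw [← hn k, h4]
    simp only [Pi.zero_apply]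
    rw [Submodule.Quotient.mk_eq_zero]
    exact ⟨m' k, rfl⟩
  · intro q
    choose n hn using fun k => Submodule.Quotient.mk_surjective (LinearMap.range g) (q k)
    obtain ⟨n', hn'⟩ := hN.2 n
    refine ⟨fun k => Submodule.Quotient.mk (n' k), ?_⟩
    funext k
    have := congrFun hn' k
    simp only [Tseq] at this ⊢
    rw [← hn k, ← this, Submodule.Quotient.mk_sub, Submodule.Quotient.mk_smul]

/-- Nakayama for one element: a module with injective `T_f` and `M = f M` vanishes. -/
theorem eq_zero_of_smul_surjective (hM : Function.Injective (Tseq f M))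
    (hdiv : ∀ m : M, ∃ m' : M, m = f • m') (m : M) : m = 0 := by
  choose d hd using hdiv
  let s : ℕ → M := fun n => Nat.rec m (fun _ x => d x) n
  have hs : ∀ n, s n = f • s (n + 1) := fun n => hd (s n)
  have h0 : Tseq f M s = 0 := by
    funext n
    simp only [Tseq, Pi.zero_apply]
    rw [← hs n, sub_self]
  have := (Tseq_injective_iff.mp hM) s h0
  exact congrFun this 0

end Seq

/-- Derived Nakayama: a module which is derived complete with respect to `a_1, …, a_r` and
satisfies `M = Σ a_k M` vanishes. -/
theorem nakayama : ∀ {r : ℕ} (a : Fin r → Λ) (M : Type v) [AddCommGroup M] [Module Λ M]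
    (hdc : ∀ k, DCSeq (a k) M)
    (hgen : ∀ m : M, ∃ c : Fin r → M, m = ∑ k, a k • c k) (m : M), m = 0 := by
  intro r
  induction r with
  | zero =>
    intro a M _ _ hdc hgen m
    obtain ⟨c, hc⟩ := hgen m
    rw [hc]
    simp
  | succ r ih =>
    intro a M _ _ hdc hgen m
    let g : M →ₗ[Λ] M := a 0 • LinearMap.id
    have hQ : ∀ q : M ⧸ LinearMap.range g, q = 0 := by
      refine ih (fun k => a k.succ) (M ⧸ LinearMap.range g)
        (fun k => DCSeq.quotient_range g (hdc k.succ).2 (hdc k.succ)) ?_
      intro q
      obtain ⟨m, rfl⟩ := Submodule.Quotient.mk_surjective _ q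
      obtain ⟨c, hc⟩ := hgen m
      refine ⟨fun k => Submodule.Quotient.mk (c k.succ), ?_⟩
      rw [hc, Fin.sum_univ_succ, Submodule.Quotient.mk_add]
      have h0 : (Submodule.Quotient.mk (a 0 • c 0) : M ⧸ LinearMap.range g) = 0 := by
        rw [Submodule.Quotient.mk_eq_zero]
        exact ⟨c 0, rfl⟩
      rw [h0, zero_add, ← Submodule.mkQ_apply, map_sum]
      rfl
    refine eq_zero_of_smul_surjective (hdc 0).1 ?_ m
    intro m
    have := hQ (Submodule.Quotient.mk m)
    rw [Submodule.Quotient.mk_eq_zero] at this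
    obtain ⟨m', hm'⟩ := this
    exact ⟨m', hm'.symm⟩

section Poly

variable (f : Λ) (M : Type v) [AddCommGroup M] [Module Λ M]

variable (Λ) in
/-- Linear maps out of the polynomial ring are sequences. -/
noncomputable def polyHomEquiv : (Λ[X] →ₗ[Λ] M) ≃ (ℕ → M) where
  toFun h n := h (X ^ n)
  invFun m := Polynomial.lsum (fun n => LinearMap.toSpanSingleton Λ M (m n))
  left_inv h := by
    apply Polynomial.lhom_ext'
    intro n
    ext
    simp only [LinearMap.coe_comp, Function.comp_apply, Polynomial.lsum_apply]
    rw [Polynomial.sum_monomial_index]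
    · simp [Polynomial.monomial_one_right_eq_X_pow]
    · simp
  right_inv m := by
    funext n
    simp only [Polynomial.lsum_apply]
    rw [← Polynomial.monomial_one_right_eq_X_pow, Polynomial.sum_monomial_index]
    · simp
    · simp

theorem polyHomEquiv_comp_mulLeft (h : Λ[X] →ₗ[Λ] M) :
    polyHomEquiv Λ M (h ∘ₗ LinearMap.mulLeft Λ (C f * X - 1)) = Tseq f M (polyHomEquiv Λ M h) := by
  funext n
  show h ((C f * X - 1) * X ^ n) = f • h (X ^ (n + 1)) - h (X ^ n)
  have : (C f * X - 1) * X ^ n = f • X ^ (n + 1) - X ^ n := by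
    rw [Polynomial.smul_eq_C_mul, pow_succ]
    ring
  rw [this, map_sub, map_smul]

theorem dcSeq_iff_bijective :
    DCSeq f M ↔ Function.Bijective
      (fun h : Λ[X] →ₗ[Λ] M => h ∘ₗ LinearMap.mulLeft Λ (C f * X - 1)) := by
  have hcomm : (fun h : Λ[X] →ₗ[Λ] M => h ∘ₗ LinearMap.mulLeft Λ (C f * X - 1)) =
      (polyHomEquiv Λ M).symm ∘ Tseq f M ∘ polyHomEquiv Λ M := by
    funext h
    apply (polyHomEquiv Λ M).injective
    simp only [Function.comp_apply, Equiv.apply_symm_apply]
    exact polyHomEquiv_comp_mulLeft f M h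
  rw [hcomm]
  constructor
  · intro h
    exact (polyHomEquiv Λ M).symm.bijective.comp (h.comp (polyHomEquiv Λ M).bijective)
  · intro h
    have h2 : Tseq f M = polyHomEquiv Λ M ∘
        ((polyHomEquiv Λ M).symm ∘ Tseq f M ∘ polyHomEquiv Λ M) ∘ (polyHomEquiv Λ M).symm := by
      funext m
      simp
    unfold DCSeq
    rw [h2]
    exact (polyHomEquiv Λ M).bijective.comp (h.comp (polyHomEquiv Λ M).symm.bijective)

end Poly

end Groth.Agent.Lib.DCShH3
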