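import Mathlib
import Groth.Prelude.Def_FlatMod2

open AlgebraicGeometry CategoryTheory Limits TensorProduct

namespace Groth.Agent.Lib.WeaklyEtaleAff

universe u

theorem weaklyEtale_SpecMap_iff {R A : CommRingCat.{u}} (φ : R ⟶ A) :
    WeaklyEtale (Spec.map φ) ↔ (letI := φ.hom.toAlgebra; Algebra.WeaklyEtale R A) := by
  letI := φ.hom.toAlgebra
  show WeaklyEtale (Spec.map φ) ↔ Algebra.WeaklyEtale R A
  rw [weaklyEtale_iff, Algebra.weaklyEtale_iff]
  rw [show φ = CommRingCat.ofHom (algebraMap R A) from rfl, diagonal_SpecMap R A,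
    MorphismProperty.cancel_right_of_respectsIso @Flat,
    HasRingHomProperty.Spec_iff (P := @Flat), HasRingHomProperty.Spec_iff (P := @Flat),
    CommRingCat.hom_ofHom, CommRingCat.hom_ofHom, RingHom.flat_algebraMap_iff]

theorem resLE_eq {X S : Scheme.{u}} (f : X ⟶ S) {U : X.Opens} {V : S.Opens}
    (hU : IsAffineOpen U) (hV : IsAffineOpen V) (e : U ≤ f ⁻¹ᵁ V) :
    f.resLE V U e = hU.isoSpec.hom ≫ Spec.map (f.appLE V U e) ≫ hV.isoSpec.inv := by
  rw [← cancel_mono V.ι, Scheme.Hom.resLE_comp_ι, Category.assoc, Category.assoc,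
    IsAffineOpen.isoSpec_inv_ι, IsAffineOpen.SpecMap_appLE_fromSpec f hV hU e,
    IsAffineOpen.isoSpec_hom_fromSpec_assoc]

instance : MorphismProperty.RespectsRight @WeaklyEtale @IsOpenImmersion where
  postcomp i hi f hf := by
    haveI : IsOpenImmersion i := hi
    haveI : WeaklyEtale f := hf
    exact inferInstanceAs (WeaklyEtale (f ≫ i))

theorem main {X S : Scheme.{u}} (f : X ⟶ S) :
    WeaklyEtale f ↔ ∀ (U : X.Opens) (V : S.Opens) (_ : IsAffineOpen U) (_ : IsAffineOpen V)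
      (hUV : U ≤ f ⁻¹ᵁ V),
      (letI := (f.appLE V U hUV).hom.toAlgebra
       Algebra.WeaklyEtale Γ(S, V) Γ(X, U)) := by
  constructor
  · intro hf U V hU hV hUV
    have h1 : WeaklyEtale (f.resLE V U hUV) := inferInstance
    rw [resLE_eq f hU hV hUV, MorphismProperty.cancel_left_of_respectsIso @WeaklyEtale,
      MorphismProperty.cancel_right_of_respectsIso @WeaklyEtale] at h1
    exact (weaklyEtale_SpecMap_iff _).mp h1
  · intro H
    refine IsZariskiLocalAtSource.iff_exists_resLE.mpr fun x => ?_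
    obtain ⟨_, ⟨V, hV, rfl⟩, hxV, -⟩ :=
      S.isBasis_affineOpens.exists_subset_of_mem_open (Set.mem_univ (f x)) isOpen_univ
    obtain ⟨_, ⟨U, hU, rfl⟩, hxU, hUV : U ≤ f ⁻¹ᵁ V⟩ :=
      X.isBasis_affineOpens.exists_subset_of_mem_open
        (show x ∈ ((f ⁻¹ᵁ V : X.Opens) : Set X) from hxV) (f ⁻¹ᵁ V).isOpen
    refine ⟨V, U, hxU, hUV, ?_⟩
    rw [resLE_eq f hU hV hUV, MorphismProperty.cancel_left_of_respectsIso @WeaklyEtale,
      MorphismProperty.cancel_right_of_respectsIso @WeaklyEtale]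
    exact (weaklyEtale_SpecMap_iff _).mpr (H U V hU hV hUV)

end Groth.Agent.Lib.WeaklyEtaleAff
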