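import Mathlib
import Groth.Prelude.Def_PBC
import Groth.Prelude.Def_ProEtS
import Groth.Agent.Lib.WeaklyEtaleAff_lead
import Groth.Agent.Lib.WeaklyEtaleSpec_helper3

/-!
# Covering sieves of the small pro-étale site: refinement by finitely many affines (helper3)
-/

set_option autoImplicit false
set_option linter.all false
set_option maxHeartbeats 1600000
universe u

open AlgebraicGeometry CategoryTheory Limits Opposite TopologicalSpace

namespace Groth.Agent.Lib.WCSiteH3

instance instComp (X : Scheme.{u}) : (Scheme.ProEt.precoverage X).IsStableUnderComposition := by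
  unfold Scheme.ProEt.precoverage; infer_instance
instance instBC (X : Scheme.{u}) : (Scheme.ProEt.precoverage X).IsStableUnderBaseChange := by
  unfold Scheme.ProEt.precoverage; infer_instance
instance instIsos (X : Scheme.{u}) : (Scheme.ProEt.precoverage X).HasIsos := by
  unfold Scheme.ProEt.precoverage; infer_instance
instance instPB (X : Scheme.{u}) : (Scheme.ProEt.precoverage X).HasPullbacks := by
  unfold Scheme.ProEt.precoverage; infer_instance

/-- A sieve is covering for the pro-étale topology iff it contains a covering family of the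
pro-étale precoverage. -/
theorem mem_topology_iff {X : Scheme.{u}} {U : X.ProEt} {S : Sieve U} :
    S ∈ Scheme.ProEt.topology X U ↔ ∃ R ∈ Scheme.ProEt.precoverage X U, R ≤ S := by
  unfold Scheme.ProEt.topology
  exact Precoverage.mem_toGrothendieck_iff_of_isStableUnderComposition

/-- Every covering sieve of a quasi-compact object contains finitely many morphisms from affine
objects which are jointly surjective. -/
theorem exists_finite_affine {X : Scheme.{u}} (U : X.ProEt) [CompactSpace U.left] (S : Sieve U)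
    (hS : S ∈ Scheme.ProEt.topology X U) :
    ∃ (n : ℕ) (V : Fin n → X.ProEt) (g : ∀ i, V i ⟶ U),
      (∀ i, IsAffine (V i).left) ∧ (∀ i, S (g i)) ∧
        ∀ x : U.left, ∃ i, x ∈ Set.range (g i).left := by
  obtain ⟨R, hR, hle⟩ := mem_topology_iff.mp hS
  rw [Precoverage.mem_iff_exists_zeroHypercover] at hR
  obtain ⟨E, rfl⟩ := hR
  have hE := E.mem₀
  change E.presieve₀ ∈ (Scheme.proetalePrecoverage.comap
      (Scheme.ProEt.forget X ⋙ Over.forget X)) U at hE
  rw [Precoverage.mem_comap_iff] at hE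
  have hE1 := hE.1
  let E' : PreZeroHypercover.{u+1} U.left :=
    { I₀ := E.I₀
      X := fun i => (E.X i).left
      f := fun i => (E.f i).left }
  have hE2 : E'.presieve₀ ∈ Scheme.qcPrecoverage U.left := by
    have := hE1
    rw [show E.presieve₀ = Presieve.ofArrows E.X E.f from rfl, Presieve.map_ofArrows] at this
    exact this
  rw [Scheme.presieve₀_mem_qcPrecoverage_iff] at hE2
  obtain ⟨n, a, W, hW, hun⟩ := QuasiCompactCover.exists_isAffineOpen_of_isCompact E'
    (U := ⊤) (by simpa using isCompact_univ)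
  haveI : ∀ i, WeaklyEtale ((W i).ι ≫ (E.X (a i)).hom) := fun i => inferInstance
  refine ⟨n, fun i => Scheme.ProEt.mk ((W i).ι ≫ (E.X (a i)).hom),
    fun i => (MorphismProperty.Over.homMk (W i).ι : Scheme.ProEt.mk ((W i).ι ≫ (E.X (a i)).hom) ⟶
      E.X (a i)) ≫ E.f (a i), fun i => ?_, fun i => ?_, fun x => ?_⟩
  · exact hW i
  · exact S.downward_closed (hle _ _ (Presieve.ofArrows.mk (a i))) _
  · have hx : x ∈ ⋃ i, (E'.f (a i)) '' (W i : Set (E'.X (a i))) := by
      rw [hun]; trivial
    obtain ⟨i, y, hy, rfl⟩ := Set.mem_iUnion.mp hx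
    refine ⟨i, ⟨y, hy⟩, ?_⟩
    rfl

/-- Morphisms of the small pro-étale site are weakly étale. -/
theorem weaklyEtale_left {X : Scheme.{u}} {V U : X.ProEt} (g : V ⟶ U) : WeaklyEtale g.left := by
  haveI : WeaklyEtale (g.left ≫ U.hom) := by
    have h : g.left ≫ U.hom = V.hom := CategoryTheory.Over.w g.hom
    rw [h]; infer_instance
  exact WeaklyEtale.of_comp g.left U.hom

/-- A surjective weakly étale morphism of affine schemes onto an affine scheme with w-contractible
coordinate ring has a section. -/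
theorem exists_section {U V : Scheme.{u}} [IsAffine U] [IsAffine V] (g : V ⟶ U) [WeaklyEtale g]
    [Surjective g] (hA : EtPBC.IsWContractible ↥(Γ(U, ⊤))) : ∃ s : U ⟶ V, s ≫ g = 𝟙 U := by
  let φ : Γ(U, ⊤) ⟶ Γ(V, ⊤) := g.appTop
  letI : Algebra Γ(U, ⊤) Γ(V, ⊤) := φ.hom.toAlgebra
  have hg : g = V.isoSpec.hom ≫ Spec.map φ ≫ U.isoSpec.inv := by
    rw [Scheme.isoSpec_hom_naturality_assoc, Iso.hom_inv_id, Category.comp_id]
  have hφ : Spec.map φ = V.isoSpec.inv ≫ g ≫ U.isoSpec.hom := by
    rw [hg]; simp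
  haveI h1 : WeaklyEtale (Spec.map φ) := by
    rw [hφ]; infer_instance
  haveI h2 : Surjective (Spec.map φ) := by
    rw [hφ]; infer_instance
  have hwe : Algebra.WeaklyEtale Γ(U, ⊤) Γ(V, ⊤) :=
    (Groth.Agent.Lib.WeaklyEtaleAff.weaklyEtale_SpecMap_iff φ).mp h1
  haveI : Module.Flat Γ(U, ⊤) Γ(V, ⊤) := hwe.flat
  have hff : Module.FaithfullyFlat Γ(U, ⊤) Γ(V, ⊤) := by
    apply Module.FaithfullyFlat.of_comap_surjective
    exact h2.surj
  obtain ⟨σ⟩ := hA Γ(V, ⊤) hff hwe
  have hσ : φ ≫ CommRingCat.ofHom σ.toRingHom = 𝟙 _ := by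
    ext a
    exact σ.commutes a
  refine ⟨U.isoSpec.hom ≫ Spec.map (CommRingCat.ofHom σ.toRingHom) ≫ V.isoSpec.inv, ?_⟩
  rw [hg]
  simp only [Category.assoc, Iso.inv_hom_id_assoc]
  rw [← Spec.map_comp_assoc, hσ]
  simp

/-- Topological lemma: pairwise disjoint open sets covering the space are clopen. -/
theorem isClopen_of_disjoint_cover {T : Type*} [TopologicalSpace T] {ι : Type*} (W : ι → Set T)
    (hopen : ∀ k, IsOpen (W k)) (hdisj : Pairwise (fun k l => Disjoint (W k) (W l)))
    (hcov : (⋃ k, W k) = Set.univ) (k : ι) : IsClopen (W k) := by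
  refine ⟨?_, hopen k⟩
  rw [← isOpen_compl_iff]
  have : (W k)ᶜ = ⋃ l ∈ {l | l ≠ k}, W l := by
    ext x
    simp only [Set.mem_compl_iff, Set.mem_iUnion, Set.mem_setOf_eq, exists_prop]
    constructor
    · intro hx
      have hx' : x ∈ ⋃ k, W k := by rw [hcov]; trivial
      obtain ⟨l, hl⟩ := Set.mem_iUnion.mp hx'
      refine ⟨l, ?_, hl⟩
      rintro rfl
      exact hx hl
    · rintro ⟨l, hlk, hl⟩ hxk
      exact Set.disjoint_left.mp (hdisj hlk) hl hxk
  rw [this]
  exact isOpen_biUnion fun l _ => hopen l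

/-- (S0757, forward direction) If the coordinate ring of an affine object `U` of the pro-étale site
is w-contractible, every covering sieve of `U` contains a finite clopen decomposition of `U`. -/
theorem exists_clopen_refinement {X : Scheme.{u}} (U : X.ProEt) [IsAffine U.left]
    (hA : EtPBC.IsWContractible ↥(Γ(U.left, ⊤))) (R : Sieve U)
    (hR : R ∈ Scheme.ProEt.topology X U) :
    ∃ (n : ℕ) (W : Fin n → U.left.Opens),
        (∀ k, IsClopen ((W k : Set ↥U.left))) ∧
        Pairwise (fun k l => Disjoint (W k : Set ↥U.left) (W l)) ∧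
        (⋃ k, (W k : Set ↥U.left)) = Set.univ ∧
        ∀ k, R.arrows (MorphismProperty.Over.homMk (W k).ι :
          Scheme.ProEt.mk ((W k).ι ≫ U.hom) ⟶ U) := by
  obtain ⟨n, V, g, haff, hRg, hsurj⟩ := exists_finite_affine U R hR
  haveI := haff
  haveI hwe : ∀ i, WeaklyEtale (g i).left := fun i => weaklyEtale_left (g i)
  let G : (∐ fun i => (V i).left) ⟶ U.left := Sigma.desc fun i => (g i).left
  haveI : WeaklyEtale G := IsZariskiLocalAtSource.sigmaDesc (P := @WeaklyEtale) hwe
  haveI : Surjective G := by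
    apply Surjective.sigmaDesc_of_union_range_eq_univ
    rw [Set.eq_univ_iff_forall]
    intro x
    exact Set.mem_iUnion.mpr (hsurj x)
  obtain ⟨s, hs⟩ := exists_section G hA
  let W : Fin n → U.left.Opens := fun k => s ⁻¹ᵁ (Sigma.ι (fun i => (V i).left) k).opensRange
  have hdisj : Pairwise (fun k l => Disjoint (W k : Set ↥U.left) (W l)) := by
    intro k l hkl
    have h := disjoint_opensRange_sigmaι (fun i => (V i).left) k l hkl
    rw [Set.disjoint_left]
    intro x hxk hxl
    have h' := (disjoint_iff.mp h)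
    have hx : s x ∈ ((Sigma.ι (fun i => (V i).left) k).opensRange ⊓
      (Sigma.ι (fun i => (V i).left) l).opensRange : (∐ fun i => (V i).left).Opens) :=
      ⟨hxk, hxl⟩
    rw [h'] at hx
    exact hx
  have hcov : (⋃ k, (W k : Set ↥U.left)) = Set.univ := by
    rw [Set.eq_univ_iff_forall]
    intro x
    obtain ⟨k, y, hy⟩ := (sigmaOpenCover (fun i => (V i).left)).exists_eq (s x)
    exact Set.mem_iUnion.mpr ⟨k, ⟨y, hy⟩⟩
  refine ⟨n, W, fun k => isClopen_of_disjoint_cover (fun k => (W k : Set ↥U.left))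
    (fun k => (W k).isOpen) hdisj hcov k, hdisj, hcov, fun k => ?_⟩
  have hrange : Set.range ((W k).ι ≫ s) ⊆ Set.range (Sigma.ι (fun i => (V i).left) k) := by
    rintro _ ⟨x, rfl⟩
    exact x.2
  let l : ↑(W k) ⟶ (V k).left :=
    IsOpenImmersion.lift (Sigma.ι (fun i => (V i).left) k) ((W k).ι ≫ s) hrange
  have hl : l ≫ (g k).left = (W k).ι := by
    have h1 : (g k).left = Sigma.ι (fun i => (V i).left) k ≫ G := by
      simp [G]
    rw [h1, IsOpenImmersion.lift_fac_assoc, Category.assoc, hs, Category.comp_id]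
  haveI : WeaklyEtale ((W k).ι ≫ U.hom) := inferInstance
  have hl2 : l ≫ (V k).hom = (W k).ι ≫ U.hom := by
    rw [← hl, Category.assoc]
    congr 1
    exact (CategoryTheory.Over.w (g k).hom).symm
  let l' : Scheme.ProEt.mk ((W k).ι ≫ U.hom) ⟶ V k := MorphismProperty.Over.homMk l hl2
  have : (MorphismProperty.Over.homMk (W k).ι : Scheme.ProEt.mk ((W k).ι ≫ U.hom) ⟶ U) =
      l' ≫ g k := by
    apply MorphismProperty.Over.Hom.ext
    exact hl.symm
  rw [this]
  exact R.downward_closed (hRg k) l'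

/-- A single surjective quasi-compact morphism of the pro-étale site generates a covering sieve. -/
theorem generate_singleton_mem {X : Scheme.{u}} {V U : X.ProEt} (g : V ⟶ U) [Surjective g.left]
    [QuasiCompact g.left] :
    Sieve.generate (Presieve.singleton g) ∈ Scheme.ProEt.topology X U := by
  apply Precoverage.generate_mem_toGrothendieck
  show Presieve.singleton g ∈ (Scheme.proetalePrecoverage.comap
      (Scheme.ProEt.forget X ⋙ Over.forget X)) U
  rw [Precoverage.mem_comap_iff, Presieve.map_singleton]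
  exact Scheme.Hom.singleton_mem_propQCPrecoverage (P := @WeaklyEtale) (f := g.left)
    (weaklyEtale_left g)

/-- A section of `Spec B ⟶ Spec A ≅ U` gives an algebra retraction. -/
theorem exists_retraction_of_section {U : Scheme.{u}} [IsAffine U] (B : Type u) [CommRing B]
    [Algebra Γ(U, ⊤) B]
    (s : U ⟶ Spec (CommRingCat.of B))
    (hs : s ≫ Spec.map (CommRingCat.ofHom (algebraMap Γ(U, ⊤) B)) ≫ U.isoSpec.inv = 𝟙 U) :
    Nonempty (B →ₐ[Γ(U, ⊤)] Γ(U, ⊤)) := by
  let t : Spec Γ(U, ⊤) ⟶ Spec (CommRingCat.of B) := U.isoSpec.inv ≫ s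
  have ht : t ≫ Spec.map (CommRingCat.ofHom (algebraMap Γ(U, ⊤) B)) = 𝟙 _ := by
    have h1 : s ≫ Spec.map (CommRingCat.ofHom (algebraMap Γ(U, ⊤) B)) = U.isoSpec.hom := by
      have := congrArg (fun m => m ≫ U.isoSpec.hom) hs
      simpa using this
    show (U.isoSpec.inv ≫ s) ≫ _ = _
    rw [Category.assoc, h1, Iso.inv_hom_id]
  let σ : CommRingCat.of B ⟶ Γ(U, ⊤) := Spec.preimage t
  have hσ : CommRingCat.ofHom (algebraMap Γ(U, ⊤) B) ≫ σ = 𝟙 _ := by
    apply Spec.map_injective
    rw [Spec.map_comp, Spec.map_preimage, ht, Spec.map_id]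
    rfl
  refine ⟨{ toRingHom := σ.hom, commutes' := fun a => ?_ }⟩
  have := congrArg (fun m => m.hom a) hσ
  simpa using this

/-- (S0757, backward direction). -/
theorem isWContractible_of_clopen_refinement {X : Scheme.{u}} (U : X.ProEt) [IsAffine U.left]
    (h : ∀ R ∈ Scheme.ProEt.topology X U, ∃ (n : ℕ) (W : Fin n → U.left.Opens),
        (∀ k, IsClopen ((W k : Set ↥U.left))) ∧
        Pairwise (fun k l => Disjoint (W k : Set ↥U.left) (W l)) ∧
        (⋃ k, (W k : Set ↥U.left)) = Set.univ ∧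
        ∀ k, R.arrows (MorphismProperty.Over.homMk (W k).ι :
          Scheme.ProEt.mk ((W k).ι ≫ U.hom) ⟶ U)) :
    EtPBC.IsWContractible ↥(Γ(U.left, ⊤)) := by
  intro B _ _ hff hwe
  haveI := hff
  haveI := hwe
  let gV : Spec (CommRingCat.of B) ⟶ U.left :=
    Spec.map (CommRingCat.ofHom (algebraMap Γ(U.left, ⊤) B)) ≫ U.left.isoSpec.inv
  haveI : WeaklyEtale (Spec.map (CommRingCat.ofHom (algebraMap Γ(U.left, ⊤) B))) :=
    Groth.Agent.Lib.WeaklyEtaleSpecH3.weaklyEtale_SpecMap Γ(U.left, ⊤) B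
  haveI : WeaklyEtale gV := inferInstanceAs (WeaklyEtale (_ ≫ _))
  haveI : Surjective (Spec.map (CommRingCat.ofHom (algebraMap Γ(U.left, ⊤) B))) :=
    ⟨PrimeSpectrum.comap_surjective_of_faithfullyFlat (A := Γ(U.left, ⊤)) (B := B)⟩
  haveI : Surjective gV := inferInstanceAs (Surjective (_ ≫ _))
  haveI : WeaklyEtale (gV ≫ U.hom) := inferInstance
  let g' : Scheme.ProEt.mk (gV ≫ U.hom) ⟶ U := MorphismProperty.Over.homMk gV
  haveI : Surjective g'.left := inferInstanceAs (Surjective gV)
  haveI : QuasiCompact g'.left := inferInstanceAs (QuasiCompact gV)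
  obtain ⟨n, W, -, hdisj, hcov, hW⟩ := h _ (generate_singleton_mem g')
  -- the factorizations
  have hfac : ∀ k, ∃ l : ↑(W k) ⟶ Spec (CommRingCat.of B), l ≫ gV = (W k).ι := by
    intro k
    obtain ⟨Y, a, b, hb, hab⟩ := hW k
    obtain ⟨⟩ := hb
    refine ⟨a.left, ?_⟩
    have := congrArg (fun m => m.left) hab
    exact this
  choose l hl using hfac
  obtain ⟨hc⟩ := nonempty_isColimit_cofanMk_of (fun k => (W k).ι)
    (by
      rw [eq_top_iff]
      intro x _
      have hx : x ∈ ⋃ k, (W k : Set ↥U.left) := by rw [hcov]; trivial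
      obtain ⟨k, hk⟩ := Set.mem_iUnion.mp hx
      simp only [Scheme.Opens.opensRange_ι]
      exact Opens.mem_iSup.mpr ⟨k, hk⟩)
    (by
      intro k k' hkk'
      simp only [Function.onFun, Scheme.Opens.opensRange_ι]
      rw [disjoint_iff]
      ext x
      simp only [Opens.coe_inf, Opens.coe_bot, Set.mem_inter_iff, Set.mem_empty_iff_false,
        iff_false, not_and]
      intro hx hx'
      exact Set.disjoint_left.mp (hdisj hkk') hx hx')
  let s : U.left ⟶ Spec (CommRingCat.of B) := Cofan.IsColimit.desc hc l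
  have hs : s ≫ gV = 𝟙 _ := by
    apply Cofan.IsColimit.hom_ext hc
    intro k
    show (W k).ι ≫ s ≫ gV = (W k).ι ≫ 𝟙 _
    rw [← Category.assoc]
    have : (W k).ι ≫ s = l k := Cofan.IsColimit.fac hc l k
    rw [this, hl, Category.comp_id]
  exact exists_retraction_of_section B s hs

theorem main0757 {X : Scheme.{u}} (U : X.ProEt) [IsAffine U.left] :
    EtPBC.IsWContractible ↥(Γ(U.left, ⊤)) ↔
      ∀ R ∈ Scheme.ProEt.topology X U, ∃ (n : ℕ) (W : Fin n → U.left.Opens),
        (∀ k, IsClopen ((W k : Set ↥U.left))) ∧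
        Pairwise (fun k l => Disjoint (W k : Set ↥U.left) (W l)) ∧
        (⋃ k, (W k : Set ↥U.left)) = Set.univ ∧
        ∀ k, R.arrows (MorphismProperty.Over.homMk (W k).ι :
          Scheme.ProEt.mk ((W k).ι ≫ U.hom) ⟶ U) :=
  ⟨fun hA R hR => exists_clopen_refinement U hA R hR, isWContractible_of_clopen_refinement U⟩

end Groth.Agent.Lib.WCSiteH3
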