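import Mathlib
import Groth.Prelude.Def_PBC
import Groth.Prelude.Def_ProEtS
import Groth.Agent.Lib.WCSite1_helper3

/-!
# Weakly contractible objects of the small pro-étale site (helper3)
-/

set_option autoImplicit false
set_option linter.all false
set_option maxHeartbeats 1600000
universe u

open AlgebraicGeometry CategoryTheory Limits Opposite TopologicalSpace

namespace Groth.Agent.Lib.WCSiteH3

/-- The map of representable sheaves induced by a covering morphism is locally surjective. -/
theorem isLocallySurjective_uliftYoneda_map {X : Scheme.{u}} {V U : X.ProEt} (g : V ⟶ U)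
    (hg : Sieve.generate (Presieve.singleton g) ∈ Scheme.ProEt.topology X U) :
    Sheaf.IsLocallySurjective
      ((GrothendieckTopology.uliftYoneda.{u+1} (Scheme.ProEt.topology X)).map g) := by
  constructor
  intro T t
  refine (Scheme.ProEt.topology X).superset_covering ?_
    ((Scheme.ProEt.topology X).pullback_stable (ULift.down t) hg)
  intro T' f hf
  obtain ⟨Y, a, b, hb, hab⟩ := hf
  obtain ⟨⟩ := hb
  refine ⟨ULift.up a, ?_⟩
  apply ULift.ext
  exact hab

/-- If every single-morphism covering of an affine object `U` has a section, then the coordinate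
ring of `U` is w-contractible. -/
theorem isWContractible_of_sections {X : Scheme.{u}} (U : X.ProEt) [IsAffine U.left]
    (h : ∀ (V : X.ProEt) (g : V ⟶ U),
      Sieve.generate (Presieve.singleton g) ∈ Scheme.ProEt.topology X U →
        ∃ s : U ⟶ V, s ≫ g = 𝟙 U) :
    EtPBC.IsWContractible ↥(Γ(U.left, ⊤)) := by
  intro B _ _ hff hwe
  haveI := hff
  haveI := hwe
  let gV : Spec (CommRingCat.of B) ⟶ U.left :=
    Spec.map (CommRingCat.ofHom (algebraMap Γ(U.left, ⊤) B)) ≫ U.left.isoSpec.inv
  haveI : WeaklyEtale (Spec.map (CommRingCat.ofHom (algebraMap Γ(U.left, ⊤) B))) :=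
    Groth.Agent.Lib.WeaklyEtaleSpecH3.weaklyEtale_SpecMap Γ(U.left, ⊤) B
  haveI : WeaklyEtale gV := inferInstanceAs (WeaklyEtale (_ ≫ _))
  haveI : Surjective (Spec.map (CommRingCat.ofHom (algebraMap Γ(U.left, ⊤) B))) :=
    ⟨PrimeSpectrum.comap_surjective_of_faithfullyFlat (A := Γ(U.left, ⊤)) (B := B)⟩
  haveI : Surjective gV := inferInstanceAs (Surjective (_ ≫ _))
  haveI : WeaklyEtale (gV ≫ U.hom) := inferInstance
  let g' : Scheme.ProEt.mk (gV ≫ U.hom) ⟶ U := MorphismProperty.Over.homMk gV
  haveI : Surjective g'.left := inferInstanceAs (Surjective gV)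
  haveI : QuasiCompact g'.left := inferInstanceAs (QuasiCompact gV)
  obtain ⟨s, hs⟩ := h _ g' (generate_singleton_mem g')
  have hs' : s.left ≫ gV = 𝟙 _ := congrArg (fun m => m.left) hs
  exact exists_retraction_of_section B s.left hs'

/-- (S0715, backward direction) -/
theorem isWContractible_of_isWC {X : Scheme.{u}} (U : X.ProEt) [IsAffine U.left]
    (hU : ProEtS.IsWC U) : EtPBC.IsWContractible ↥(Γ(U.left, ⊤)) := by
  apply isWContractible_of_sections
  intro V g hg
  haveI := isLocallySurjective_uliftYoneda_map g hg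
  have hepi : Epi ((GrothendieckTopology.uliftYoneda.{u+1} (Scheme.ProEt.topology X)).map g) :=
    inferInstance
  obtain ⟨s, hs⟩ := hU _ _ _ hepi (ULift.up (𝟙 U))
  exact ⟨ULift.down s, congrArg ULift.down hs⟩

/-- Families of open immersions which are jointly surjective are coverings. -/
theorem ofArrows_mem_topology_of_openCover {X : Scheme.{u}} {ι : Type*} {V : X.ProEt}
    (Vi : ι → X.ProEt) (g : ∀ i, Vi i ⟶ V) (hopen : ∀ i, IsOpenImmersion (g i).left)
    (hcov : ∀ x : V.left, ∃ i, x ∈ Set.range (g i).left) :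
    Sieve.generate (Presieve.ofArrows Vi g) ∈ Scheme.ProEt.topology X V := by
  apply Precoverage.generate_mem_toGrothendieck
  show Presieve.ofArrows _ _ ∈ (Scheme.proetalePrecoverage.comap
      (Scheme.ProEt.forget X ⋙ Over.forget X)) V
  rw [Precoverage.mem_comap_iff, Presieve.map_ofArrows]
  apply Scheme.zariskiPrecoverage_le_propQCPrecoverage (P := @WeaklyEtale)
  show Presieve.ofArrows _ _ ∈ Scheme.precoverage @IsOpenImmersion V.left
  rw [Scheme.ofArrows_mem_precoverage_iff]
  exact ⟨hcov, hopen⟩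

/-- Sections of a sheaf over an empty object form a subsingleton. -/
theorem subsingleton_of_isEmpty {X : Scheme.{u}}
    (F : Sheaf (Scheme.ProEt.topology X) (Type (u + 1))) (Z : X.ProEt) [IsEmpty Z.left] :
    Subsingleton (F.obj.obj (op Z)) := by
  have h := Sheaf.isTerminalOfBotCover F Z (Scheme.ProEt.bot_mem_topology Z)
  exact @Unique.instSubsingleton _ (Types.isTerminalEquivUnique _ h)

/-- Gluing sections of a sheaf along a cover by pairwise disjoint open subobjects. -/
theorem existsUnique_glue {X : Scheme.{u}} (F : Sheaf (Scheme.ProEt.topology X) (Type (u + 1)))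
    {ι : Type*} {V : X.ProEt} (Vi : ι → X.ProEt) (g : ∀ i, Vi i ⟶ V)
    (hopen : ∀ i, IsOpenImmersion (g i).left)
    (hdisj : Pairwise fun i j => Disjoint (Set.range (g i).left) (Set.range (g j).left))
    (hcov : ∀ x : V.left, ∃ i, x ∈ Set.range (g i).left)
    (x : ∀ i, F.obj.obj (op (Vi i))) :
    ∃! t : F.obj.obj (op V), ∀ i, F.obj.map (g i).op t = x i := by
  have hS := ofArrows_mem_topology_of_openCover Vi g hopen hcov
  have h1 : Presieve.IsSheafFor F.obj (Presieve.ofArrows Vi g) := by
    exact ((isSheaf_iff_isSheaf_of_type _ _).1 F.2).isSheafFor _ hS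
  rw [Presieve.isSheafFor_arrows_iff] at h1
  apply h1
  intro i j Z gi gj hij
  by_cases h : i = j
  · subst h
    haveI : Mono (g i).left := inferInstance
    have : gi = gj := by
      apply MorphismProperty.Over.Hom.ext
      rw [← cancel_mono (g i).left]
      exact congrArg (fun m => m.left) hij
    rw [this]
  · haveI : IsEmpty Z.left := by
      refine ⟨fun z => ?_⟩
      have h2 : gi.left ≫ (g i).left = gj.left ≫ (g j).left := congrArg (fun m => m.left) hij
      have hz : (g i).left (gi.left z) = (g j).left (gj.left z) := by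
        rw [← Scheme.Hom.comp_apply, ← Scheme.Hom.comp_apply, h2]
      exact Set.disjoint_left.mp (hdisj h) ⟨gi.left z, rfl⟩ ⟨gj.left z, hz.symm⟩
    haveI := subsingleton_of_isEmpty F Z
    exact Subsingleton.elim _ _

/-- If a section of `G` lifts along `φ` on each member of a cover by pairwise disjoint open
subobjects, it lifts. -/
theorem exists_lift_of_disjoint_cover {X : Scheme.{u}}
    {F G : Sheaf (Scheme.ProEt.topology X) (Type (u + 1))} (φ : F ⟶ G)
    {ι : Type*} {V : X.ProEt} (Vi : ι → X.ProEt) (g : ∀ i, Vi i ⟶ V)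
    (hopen : ∀ i, IsOpenImmersion (g i).left)
    (hdisj : Pairwise fun i j => Disjoint (Set.range (g i).left) (Set.range (g j).left))
    (hcov : ∀ x : V.left, ∃ i, x ∈ Set.range (g i).left)
    (t : G.obj.obj (op V))
    (h : ∀ i, ∃ s : F.obj.obj (op (Vi i)), φ.hom.app (op (Vi i)) s = G.obj.map (g i).op t) :
    ∃ s : F.obj.obj (op V), φ.hom.app (op V) s = t := by
  choose s hs using h
  obtain ⟨s0, hs0, -⟩ := existsUnique_glue F Vi g hopen hdisj hcov s
  refine ⟨s0, ?_⟩
  obtain ⟨t0, ht0, huniq⟩ := existsUnique_glue G Vi g hopen hdisj hcov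
    (fun i => G.obj.map (g i).op t)
  rw [huniq (φ.hom.app (op V) s0) ?_, huniq t (fun i => rfl)]
  intro i
  have hnat := ConcreteCategory.congr_hom (φ.hom.naturality (g i).op) s0
  dsimp at hnat
  refine Eq.trans ?_ (hs i)
  rw [← hs0 i]
  exact hnat.symm

/-- An object covered by pairwise disjoint open weakly contractible subobjects is weakly
contractible. -/
theorem isWC_of_disjoint_cover {X : Scheme.{u}} {ι : Type*} {V : X.ProEt} (Vi : ι → X.ProEt)
    (g : ∀ i, Vi i ⟶ V) (hopen : ∀ i, IsOpenImmersion (g i).left)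
    (hdisj : Pairwise fun i j => Disjoint (Set.range (g i).left) (Set.range (g j).left))
    (hcov : ∀ x : V.left, ∃ i, x ∈ Set.range (g i).left)
    (hwc : ∀ i, ProEtS.IsWC (Vi i)) : ProEtS.IsWC V := by
  intro F G φ hφ t
  exact exists_lift_of_disjoint_cover φ Vi g hopen hdisj hcov t
    (fun i => hwc i F G φ hφ (G.obj.map (g i).op t))

/-- (S0715, forward direction) -/
theorem isWC_of_isWContractible {X : Scheme.{u}} (U : X.ProEt) [IsAffine U.left]
    (hA : EtPBC.IsWContractible ↥(Γ(U.left, ⊤))) : ProEtS.IsWC U := by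
  intro F G φ hφ t
  haveI : Sheaf.IsLocallySurjective φ := (Sheaf.isLocallySurjective_iff_epi φ).mpr hφ
  have hR := Presheaf.imageSieve_mem (Scheme.ProEt.topology X) φ.hom t
  obtain ⟨n, W, -, hdisj, hcov, hW⟩ := exists_clopen_refinement U hA _ hR
  haveI : ∀ k, WeaklyEtale ((W k).ι ≫ U.hom) := fun k => inferInstance
  refine exists_lift_of_disjoint_cover φ (fun k => Scheme.ProEt.mk ((W k).ι ≫ U.hom))
    (fun k => MorphismProperty.Over.homMk (W k).ι) (fun k => ?_) ?_ ?_ t (fun k => hW k)
  · exact inferInstanceAs (IsOpenImmersion (W k).ι)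
  · intro k l hkl
    have := hdisj hkl
    show Disjoint (Set.range (W k).ι) (Set.range (W l).ι)
    rwa [Scheme.Opens.range_ι, Scheme.Opens.range_ι]
  · intro x
    have hx : x ∈ ⋃ k, (W k : Set ↥U.left) := by rw [hcov]; trivial
    obtain ⟨k, hk⟩ := Set.mem_iUnion.mp hx
    refine ⟨k, ?_⟩
    show x ∈ Set.range (W k).ι
    rwa [Scheme.Opens.range_ι]

theorem main0715 {X : Scheme.{u}} (U : X.ProEt) [IsAffine U.left] :
    EtPBC.IsWContractible ↥(Γ(U.left, ⊤)) ↔ ProEtS.IsWC U :=
  ⟨isWC_of_isWContractible U, isWContractible_of_isWC U⟩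

end Groth.Agent.Lib.WCSiteH3
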