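import Mathlib
import Groth.Prelude.Def_PBC
import Groth.Prelude.Def_ProEtW
import Groth.Agent.Lib.IndEtRetr1_helper3
import Groth.Agent.Lib.IndEtale4_helper3

/-!
# A faithfully flat ind-étale extension with étale retractions (helper3)

For a ring `A` let `Ω = ∏_{p ∈ Spec A} κ(p)^sep` and let `C` be the colimit of all étale `A`-algebras
over `Ω`.  Then `C` is faithfully flat and ind-étale over `A`, and every faithfully flat étale
`C`-algebra has a retraction.
-/

set_option autoImplicit false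
set_option linter.all false
set_option maxHeartbeats 1600000
universe u

open CategoryTheory Limits TensorProduct

namespace Groth.Agent.Lib.IndEtaleH3

/-- A faithfully flat étale algebra maps to any separably closed field over the base. -/
theorem exists_algHom_of_isSepClosed (R E K : Type u) [CommRing R] [CommRing E] [Algebra R E]
    [Algebra.Etale R E] [Module.FaithfullyFlat R E] [Field K] [IsSepClosed K] [Algebra R K] :
    Nonempty (E →ₐ[R] K) := by
  haveI : Nontrivial (K ⊗[R] E) := inferInstance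
  haveI : Algebra.Etale K (K ⊗[R] E) := inferInstance
  let eq := Algebra.FormallyEtale.equivPiOfIsSepClosed K (K ⊗[R] E)
  obtain ⟨p⟩ : Nonempty (PrimeSpectrum (K ⊗[R] E)) := inferInstance
  let χ : K ⊗[R] E →ₐ[K] K := (Pi.evalAlgHom K (fun _ => K) p).comp eq.toAlgHom
  exact ⟨(χ.restrictScalars R).comp Algebra.TensorProduct.includeRight⟩

theorem exists_algHom_pi (R E : Type u) [CommRing R] [CommRing E] [Algebra R E]
    [Algebra.Etale R E] [Module.FaithfullyFlat R E] (J : Type u) (K : J → Type u)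
    [∀ i, Field (K i)] [∀ i, IsSepClosed (K i)] [∀ i, Algebra R (K i)] :
    Nonempty (E →ₐ[R] (Π i, K i)) :=
  ⟨Pi.algHom R K (fun i => (exists_algHom_of_isSepClosed R E (K i)).some)⟩

section Retraction

variable {A B : Type u} [CommRing A] [CommRing B] [Algebra A B]

theorem exists_retraction_of_ringHom
    {Cc : Type u} [CommRing Cc] [Algebra A Cc] (ι : ∀ X : EtOver A B, X.C →ₐ[A] Cc)
    (ρ : Cc →ₐ[A] B) (hρι : ∀ X y, ρ (ι X y) = X.f y)
    (hcompat : ∀ {X Y : EtOver A B} (g : X ⟶ Y) (y : X.C), ι Y (g.1 y) = ι X y)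
    (hfac : ∀ (P : Type u) [CommRing P] [Algebra A P] [Algebra.FinitePresentation A P]
        (f : P →ₐ[A] Cc), ∃ (X : EtOver A B) (g : P →ₐ[A] X.C), ∀ y, ι X (g y) = f y)
    (E : Type u) [CommRing E] [Algebra Cc E] [Algebra.Etale Cc E]
    (φ : E →+* B) (hφ : ∀ c : Cc, φ (algebraMap Cc E c) = ρ c) :
    Nonempty (E →ₐ[Cc] Cc) := by
  obtain ⟨B', F', _, _, hfg, hF', ⟨e₀⟩⟩ := Algebra.Etale.exists_subalgebra_fg ℤ Cc E
  haveI : Algebra.FiniteType ℤ B' := (Subalgebra.fg_iff_finiteType B').mp hfg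
  haveI : Algebra.FinitePresentation ℤ B' := Algebra.FinitePresentation.of_finiteType.mp this
  let f₀ : A ⊗[ℤ] B' →ₐ[A] Cc :=
    Algebra.TensorProduct.lift (Algebra.ofId A Cc) B'.val (fun _ _ => Commute.all _ _)
  obtain ⟨X, g, hg⟩ := hfac (A ⊗[ℤ] B') f₀
  let j : B' →+* X.C :=
    g.toRingHom.comp (Algebra.TensorProduct.includeRight : B' →ₐ[ℤ] A ⊗[ℤ] B').toRingHom
  have hj : ∀ b : B', ι X (j b) = (b : Cc) := by
    intro b
    have := hg (1 ⊗ₜ b)
    simpa [f₀, j] using this
  letI : Algebra B' X.C := j.toAlgebra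
  let ιX' : X.C →ₐ[B'] Cc := { (ι X).toRingHom with commutes' := fun b => hj b }
  have hιX' : ∀ x, ιX' x = ι X x := fun _ => rfl
  let θ : X.C ⊗[B'] F' →ₐ[B'] Cc ⊗[B'] F' := Algebra.TensorProduct.map ιX' (AlgHom.id B' F')
  have hθ : ∀ x f, θ (x ⊗ₜ f) = (ι X x) ⊗ₜ f := fun x f => by
    show Algebra.TensorProduct.map ιX' (AlgHom.id B' F') (x ⊗ₜ f) = _
    rw [Algebra.TensorProduct.map_tmul]
    rfl
  haveI : IsScalarTower A X.C (X.C ⊗[B'] F') := inferInstance
  haveI : Algebra.Etale A (X.C ⊗[B'] F') := Algebra.Etale.comp A X.C _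
  have key : ∀ x : X.C, φ (e₀.symm (θ (x ⊗ₜ 1))) = X.f x := by
    intro x
    rw [hθ]
    have h1 : ((ι X x) ⊗ₜ[B'] (1 : F') : Cc ⊗[B'] F') = algebraMap Cc (Cc ⊗[B'] F') (ι X x) := by
      rw [Algebra.TensorProduct.algebraMap_apply]
      rfl
    rw [h1, e₀.symm.commutes, hφ, hρι]
  let ψ : X.C ⊗[B'] F' →ₐ[A] B :=
    { toRingHom := φ.comp (e₀.symm.toAlgHom.toRingHom.comp θ.toRingHom)
      commutes' := fun a => by
        show φ (e₀.symm (θ (algebraMap A (X.C ⊗[B'] F') a))) = algebraMap A B a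
        rw [Algebra.TensorProduct.algebraMap_apply, key, AlgHom.commutes] }
  have hψ : ∀ z, ψ z = φ (e₀.symm (θ z)) := fun _ => rfl
  obtain ⟨Y, eY, hY⟩ := exists_obj (X.C ⊗[B'] F') ψ
  have hYf : ∀ z, Y.f (eY z) = ψ z := fun z => congr($hY z)
  let incl : X.C →ₐ[A] X.C ⊗[B'] F' := Algebra.TensorProduct.includeLeft
  have hincl : ∀ x, incl x = x ⊗ₜ 1 := fun _ => rfl
  let t : X ⟶ Y := ⟨eY.toAlgHom.comp incl, by
    ext x
    refine (hYf (incl x)).trans ?_
    rw [hψ, hincl]
    exact key x⟩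
  have ht : ∀ x, t.1 x = eY (x ⊗ₜ 1) := fun x => rfl
  let σ : F' →ₐ[B'] Cc :=
    { toRingHom := (ι Y).toRingHom.comp (eY.toAlgHom.toRingHom.comp
        (Algebra.TensorProduct.includeRight (R := B') (A := X.C) (B := F')).toRingHom)
      commutes' := fun b => by
        show ι Y (eY ((1 : X.C) ⊗ₜ[B'] (algebraMap B' F' b))) = algebraMap B' Cc b
        have h1 : ((1 : X.C) ⊗ₜ[B'] (algebraMap B' F' b)) = (j b) ⊗ₜ[B'] (1 : F') := by
          rw [Algebra.algebraMap_eq_smul_one, ← TensorProduct.smul_tmul, Algebra.smul_def, mul_one]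
          rfl
        rw [h1, ← ht, hcompat, hj]
        rfl }
  let r : Cc ⊗[B'] F' →ₐ[Cc] Cc :=
    Algebra.TensorProduct.lift (AlgHom.id Cc Cc) σ (fun _ _ => Commute.all _ _)
  exact ⟨r.comp e₀.toAlgHom⟩

end Retraction

section Main

variable (A : Type u) [CommRing A]

/-- The product of the separable closures of all residue fields. -/
abbrev OmegaSep : Type u := Π p : PrimeSpectrum A, SeparableClosure p.asIdeal.ResidueField

theorem main0693 :
    ∃ (C : Type u) (_ : CommRing C) (_ : Algebra A C),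
      Module.FaithfullyFlat A C ∧ EtPBC.IsIndEtale A C ∧ ProEtW.HasEtaleRetractions C := by
  obtain ⟨Cc, instCc, algCc, ι, ρ, hInd, hρι, hsurjι, hcompat, hzero, hfac⟩ :=
    exists_colimit_data' A (OmegaSep A)
  refine ⟨Cc, instCc, algCc, ?_, hInd, ?_⟩
  · haveI := flat_of_isIndEtale hInd
    apply Module.FaithfullyFlat.of_comap_surjective
    intro p
    let π : Cc →+* SeparableClosure p.asIdeal.ResidueField :=
      (Pi.evalRingHom (fun p : PrimeSpectrum A => SeparableClosure p.asIdeal.ResidueField) p).comp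
        ρ.toRingHom
    refine ⟨⟨RingHom.ker π, RingHom.ker_isPrime π⟩, ?_⟩
    apply PrimeSpectrum.ext
    show Ideal.comap (algebraMap A Cc) (RingHom.ker π) = p.asIdeal
    ext a
    rw [Ideal.mem_comap, RingHom.mem_ker]
    have h1 : π (algebraMap A Cc a) =
        algebraMap A (SeparableClosure p.asIdeal.ResidueField) a := by
      show (ρ (algebraMap A Cc a)) p = _
      rw [ρ.commutes]
      rfl
    rw [h1, IsScalarTower.algebraMap_apply A p.asIdeal.ResidueField
      (SeparableClosure p.asIdeal.ResidueField), map_eq_zero_iff _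
        (algebraMap p.asIdeal.ResidueField (SeparableClosure p.asIdeal.ResidueField)).injective,
      ← RingHom.mem_ker, Ideal.ker_algebraMap_residueField]
  · intro E _ _ hff het
    letI algK : ∀ p : PrimeSpectrum A, Algebra Cc (SeparableClosure p.asIdeal.ResidueField) :=
      fun p => ((Pi.evalRingHom
        (fun p : PrimeSpectrum A => SeparableClosure p.asIdeal.ResidueField) p).comp
          ρ.toRingHom).toAlgebra
    obtain ⟨φ⟩ := exists_algHom_pi Cc E (PrimeSpectrum A)
      (fun p : PrimeSpectrum A => SeparableClosure p.asIdeal.ResidueField)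
    exact exists_retraction_of_ringHom ι ρ hρι hcompat hfac E φ.toRingHom (fun c => by
      show φ (algebraMap Cc E c) = ρ c
      rw [φ.commutes]
      rfl)

end Main

end Groth.Agent.Lib.IndEtaleH3
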