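import Mathlib
import Groth.Prelude.Def_PBC
import Groth.Agent.Lib.IndEtale3_helper3
set_option autoImplicit false
set_option maxSynthPendingDepth 3
universe u
open CategoryTheory Limits TensorProduct

/-! # Transitivity and cancellation for ind-étale algebras -/

namespace Groth.Agent.Lib.IndEtaleH3

/-- étale followed by ind-étale is ind-étale. -/
theorem isIndEtale_of_etale_of_isIndEtale (A F E : Type u) [CommRing A] [CommRing F] [CommRing E]
    [Algebra A F] [Algebra F E] [Algebra A E] [IsScalarTower A F E] [Algebra.Etale A F]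
    (h : EtPBC.IsIndEtale F E) : EtPBC.IsIndEtale A E := by
  apply isIndEtale_of_exists
  · intro e
    obtain ⟨C, _, _, _, f, c, hc⟩ := exists_of_isIndEtale h e
    letI : Algebra A C := ((algebraMap F C).comp (algebraMap A F)).toAlgebra
    haveI : IsScalarTower A F C := .of_algebraMap_eq (fun _ => rfl)
    haveI : Algebra.Etale A C := Algebra.Etale.comp A F C
    exact ⟨C, inferInstance, inferInstance, inferInstance, f.restrictScalars A, c, hc⟩
  · intro C _ _ _ f c hc
    let f' : F ⊗[A] C →ₐ[F] E :=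
      Algebra.TensorProduct.lift (Algebra.ofId F E) f (fun _ _ => Commute.all _ _)
    have hf' : f' (1 ⊗ₜ c) = 0 := by simp [f', hc]
    obtain ⟨D, _, _, _, g, f'', hgf, hg⟩ := exists_factor_of_isIndEtale h (F ⊗[A] C) f' _ hf'
    letI : Algebra A D := ((algebraMap F D).comp (algebraMap A F)).toAlgebra
    haveI : IsScalarTower A F D := .of_algebraMap_eq (fun _ => rfl)
    haveI : Algebra.Etale A D := Algebra.Etale.comp A F D
    refine ⟨D, inferInstance, inferInstance, inferInstance,
      (g.restrictScalars A).comp Algebra.TensorProduct.includeRight, f''.restrictScalars A, ?_, ?_⟩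
    · ext x
      have := congr($hgf (1 ⊗ₜ x))
      simpa [f'] using this
    · simpa using hg

/-- If `A → B₁` is étale, `A → B` is ind-étale, then `B₁ → B` is ind-étale. -/
theorem isIndEtale_cancel_etale (A B₁ B : Type u) [CommRing A] [CommRing B₁] [CommRing B]
    [Algebra A B₁] [Algebra B₁ B] [Algebra A B] [IsScalarTower A B₁ B] [Algebra.Etale A B₁]
    (h : EtPBC.IsIndEtale A B) : EtPBC.IsIndEtale B₁ B := by
  apply isIndEtale_of_exists
  · intro b
    obtain ⟨C, _, _, _, f, c, hc⟩ := exists_of_isIndEtale h b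
    refine ⟨B₁ ⊗[A] C, inferInstance, inferInstance, inferInstance,
      Algebra.TensorProduct.lift (Algebra.ofId B₁ B) f (fun _ _ => Commute.all _ _), 1 ⊗ₜ c, ?_⟩
    simp [hc]
  · intro C _ _ _ f c hc
    letI : Algebra A C := ((algebraMap B₁ C).comp (algebraMap A B₁)).toAlgebra
    haveI : IsScalarTower A B₁ C := .of_algebraMap_eq (fun _ => rfl)
    haveI : Algebra.Etale A C := Algebra.Etale.comp A B₁ C
    obtain ⟨D, _, _, _, g, f', hgf, hg⟩ :=
      exists_factor_of_isIndEtale h C (f.restrictScalars A) c hc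
    letI : Algebra B₁ D := (g.toRingHom.comp (algebraMap B₁ C)).toAlgebra
    haveI : IsScalarTower A B₁ D := .of_algebraMap_eq (fun a => by
      show algebraMap A D a = g (algebraMap B₁ C (algebraMap A B₁ a))
      rw [← IsScalarTower.algebraMap_apply A B₁ C, g.commutes])
    haveI : Algebra.Etale B₁ D := Algebra.Etale.of_restrictScalars A B₁ D
    refine ⟨D, inferInstance, inferInstance, inferInstance,
      ⟨g.toRingHom, fun r => rfl⟩, ⟨f'.toRingHom, fun r => ?_⟩, ?_, hg⟩
    · show f' (g (algebraMap B₁ C r)) = algebraMap B₁ B r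
      have := congr($hgf (algebraMap B₁ C r))
      simpa using this
    · ext x
      exact congr($hgf x)

/-- ind-étale followed by étale is ind-étale. -/
theorem isIndEtale_of_isIndEtale_of_etale (A B E : Type u) [CommRing A] [CommRing B] [CommRing E]
    [Algebra A B] [Algebra B E] [Algebra A E] [IsScalarTower A B E] [Algebra.Etale B E]
    (h : EtPBC.IsIndEtale A B) : EtPBC.IsIndEtale A E := by
  obtain ⟨B', F', _, _, hfg, hF', ⟨e₀⟩⟩ := Algebra.Etale.exists_subalgebra_fg ℤ B E
  haveI : Algebra.FiniteType ℤ B' := (Subalgebra.fg_iff_finiteType B').mp hfg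
  haveI : Algebra.FinitePresentation ℤ B' := Algebra.FinitePresentation.of_finiteType.mp this
  let f₀ : A ⊗[ℤ] B' →ₐ[A] B :=
    Algebra.TensorProduct.lift (Algebra.ofId A B) B'.val (fun _ _ => Commute.all _ _)
  obtain ⟨B₁, _, _, _, g, φ₁, hg, -⟩ :=
    exists_factor_of_isIndEtale h (A ⊗[ℤ] B') f₀ 0 (map_zero _)
  let j : B' →+* B₁ :=
    g.toRingHom.comp (Algebra.TensorProduct.includeRight : B' →ₐ[ℤ] A ⊗[ℤ] B').toRingHom
  have hj : ∀ b : B', φ₁ (j b) = (b : B) := by
    intro b
    have := congr($hg (1 ⊗ₜ b))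
    simpa [f₀, j] using this
  letI : Algebra B' B₁ := j.toAlgebra
  letI : Algebra B₁ B := φ₁.toRingHom.toAlgebra
  haveI : IsScalarTower B' B₁ B := .of_algebraMap_eq (fun b => (hj b).symm)
  haveI : IsScalarTower A B₁ B := .of_algebraMap_eq (fun a => (φ₁.commutes a).symm)
  haveI : IsScalarTower A B₁ (B₁ ⊗[B'] F') := inferInstance
  haveI : Algebra.Etale A (B₁ ⊗[B'] F') := Algebra.Etale.comp A B₁ _
  have hB₁B : EtPBC.IsIndEtale B₁ B := isIndEtale_cancel_etale A B₁ B h
  have h2 : EtPBC.IsIndEtale (B₁ ⊗[B'] F') ((B₁ ⊗[B'] F') ⊗[B₁] B) :=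
    isIndEtale_baseChange B₁ B (B₁ ⊗[B'] F') hB₁B
  let e : ((B₁ ⊗[B'] F') ⊗[B₁] B) ≃+* E :=
    ((Algebra.TensorProduct.comm B₁ (B₁ ⊗[B'] F') B).toRingEquiv.trans
      (Algebra.TensorProduct.cancelBaseChange B' B₁ B B F').toRingEquiv).trans
      e₀.symm.toRingEquiv
  letI : Algebra (B₁ ⊗[B'] F') E :=
    (e.toRingHom.comp (algebraMap (B₁ ⊗[B'] F') ((B₁ ⊗[B'] F') ⊗[B₁] B))).toAlgebra
  haveI : IsScalarTower A (B₁ ⊗[B'] F') E := .of_algebraMap_eq (fun a => by
    show algebraMap A E a = e (algebraMap (B₁ ⊗[B'] F') ((B₁ ⊗[B'] F') ⊗[B₁] B)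
      (algebraMap B₁ (B₁ ⊗[B'] F') (algebraMap A B₁ a)))
    have h1 : e (algebraMap (B₁ ⊗[B'] F') ((B₁ ⊗[B'] F') ⊗[B₁] B)
      (algebraMap B₁ (B₁ ⊗[B'] F') (algebraMap A B₁ a))) =
        e₀.symm ((algebraMap A B a) ⊗ₜ 1) := by
      simp only [e, RingEquiv.trans_apply, AlgEquiv.toRingEquiv_eq_coe, AlgEquiv.coe_ringEquiv,
        Algebra.TensorProduct.algebraMap_apply, Algebra.TensorProduct.comm_tmul,
        Algebra.TensorProduct.cancelBaseChange_tmul]
      simp only [Algebra.algebraMap_self, RingHom.id_apply,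
        Algebra.TensorProduct.cancelBaseChange_tmul]
      congr 2
      rw [Algebra.smul_def, mul_one]
      show φ₁ (algebraMap A B₁ a) = algebraMap A B a
      exact φ₁.commutes a
    rw [h1]
    have h3 : ((algebraMap A B a) ⊗ₜ (1 : F') : B ⊗[B'] F') =
        algebraMap B (B ⊗[B'] F') (algebraMap A B a) := by
      rw [Algebra.TensorProduct.algebraMap_apply]
      rfl
    rw [h3, e₀.symm.commutes, ← IsScalarTower.algebraMap_apply])
  have h3 : EtPBC.IsIndEtale (B₁ ⊗[B'] F') E := isIndEtale_of_ringEquiv e (fun r => rfl) h2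
  exact isIndEtale_of_etale_of_isIndEtale A (B₁ ⊗[B'] F') E h3

/-- Transitivity of ind-étale. -/
theorem isIndEtale_trans (A B C : Type u) [CommRing A] [CommRing B] [CommRing C] [Algebra A B]
    [Algebra B C] [Algebra A C] [IsScalarTower A B C] (hAB : EtPBC.IsIndEtale A B)
    (hBC : EtPBC.IsIndEtale B C) : EtPBC.IsIndEtale A C := by
  apply isIndEtale_of_exists
  · intro c
    obtain ⟨E, _, _, _, f, e, he⟩ := exists_of_isIndEtale hBC c
    letI : Algebra A E := ((algebraMap B E).comp (algebraMap A B)).toAlgebra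
    haveI : IsScalarTower A B E := .of_algebraMap_eq (fun _ => rfl)
    have hE : EtPBC.IsIndEtale A E := isIndEtale_of_isIndEtale_of_etale A B E hAB
    obtain ⟨E', _, _, _, f', e', he'⟩ := exists_of_isIndEtale hE e
    refine ⟨E', inferInstance, inferInstance, inferInstance, (f.restrictScalars A).comp f', e', ?_⟩
    simp [he', he]
  · intro E' _ _ _ f x hx
    let f₁ : B ⊗[A] E' →ₐ[B] C :=
      Algebra.TensorProduct.lift (Algebra.ofId B C) f (fun _ _ => Commute.all _ _)
    have hf₁ : f₁ (1 ⊗ₜ x) = 0 := by simp [f₁, hx]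
    obtain ⟨F, _, _, _, g, f₂, hgf, hg⟩ := exists_factor_of_isIndEtale hBC (B ⊗[A] E') f₁ _ hf₁
    letI : Algebra A F := ((algebraMap B F).comp (algebraMap A B)).toAlgebra
    haveI : IsScalarTower A B F := .of_algebraMap_eq (fun _ => rfl)
    have hF : EtPBC.IsIndEtale A F := isIndEtale_of_isIndEtale_of_etale A B F hAB
    let u : E' →ₐ[A] F := (g.restrictScalars A).comp Algebra.TensorProduct.includeRight
    have hu : u x = 0 := by simpa [u] using hg
    obtain ⟨E'', _, _, _, g', f₃, hgf', hg'⟩ := exists_factor_of_isIndEtale hF E' u x hu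
    refine ⟨E'', inferInstance, inferInstance, inferInstance, g',
      (f₂.restrictScalars A).comp f₃, ?_, hg'⟩
    ext y
    have h1 := congr($hgf' y)
    have h2 := congr($hgf (1 ⊗ₜ y))
    simp only [AlgHom.coe_comp, Function.comp_apply] at h1 h2
    simp only [AlgHom.coe_comp, Function.comp_apply, AlgHom.coe_restrictScalars']
    rw [h1]
    simpa [u, f₁] using h2

/-- Cancellation for ind-étale. -/
theorem isIndEtale_cancel (A B C : Type u) [CommRing A] [CommRing B] [CommRing C] [Algebra A B]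
    [Algebra B C] [Algebra A C] [IsScalarTower A B C] (hB : EtPBC.IsIndEtale A B)
    (hC : EtPBC.IsIndEtale A C) : EtPBC.IsIndEtale B C := by
  apply isIndEtale_of_exists
  · intro c
    obtain ⟨E, _, _, _, f, e, he⟩ := exists_of_isIndEtale hC c
    refine ⟨B ⊗[A] E, inferInstance, inferInstance, inferInstance,
      Algebra.TensorProduct.lift (Algebra.ofId B C) f (fun _ _ => Commute.all _ _), 1 ⊗ₜ e, ?_⟩
    simp [he]
  · intro F _ _ _ f x hx
    letI : Algebra A F := ((algebraMap B F).comp (algebraMap A B)).toAlgebra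
    haveI : IsScalarTower A B F := .of_algebraMap_eq (fun _ => rfl)
    have hF : EtPBC.IsIndEtale A F := isIndEtale_of_isIndEtale_of_etale A B F hB
    obtain ⟨F', _, _, _, u, y, hy⟩ := exists_of_isIndEtale hF x
    have hy0 : ((f.restrictScalars A).comp u) y = 0 := by simp [hy, hx]
    obtain ⟨F'', _, _, _, v, w, hvw, hv⟩ :=
      exists_factor_of_isIndEtale hC F' ((f.restrictScalars A).comp u) y hy0
    letI : Algebra F' F := u.toRingHom.toAlgebra
    letI : Algebra F' F'' := v.toRingHom.toAlgebra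
    haveI : IsScalarTower A F' F := .of_algebraMap_eq (fun a => (u.commutes a).symm)
    haveI : IsScalarTower A F' F'' := .of_algebraMap_eq (fun a => (v.commutes a).symm)
    haveI : Algebra.Etale F' F'' := Algebra.Etale.of_restrictScalars A F' F''
    haveI : IsScalarTower B F (F ⊗[F'] F'') := inferInstance
    haveI : Algebra.Etale B (F ⊗[F'] F'') := Algebra.Etale.comp B F _
    letI : Algebra F' C := ((f : F →+* C).comp (algebraMap F' F)).toAlgebra
    let fF : F →ₐ[F'] C := ⟨(f : F →+* C), fun r => rfl⟩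
    let wF : F'' →ₐ[F'] C := ⟨(w : F'' →+* C), fun r => by
      show w (v r) = f (u r)
      exact congr($hvw r)⟩
    let f' : F ⊗[F'] F'' →ₐ[F'] C :=
      Algebra.TensorProduct.lift fF wF (fun _ _ => Commute.all _ _)
    refine ⟨F ⊗[F'] F'', inferInstance, inferInstance, inferInstance,
      ⟨(Algebra.TensorProduct.includeLeft : F →ₐ[F'] F ⊗[F'] F'').toRingHom, fun r => rfl⟩,
      ⟨f'.toRingHom, fun r => ?_⟩, ?_, ?_⟩
    · show f' (algebraMap F (F ⊗[F'] F'') (algebraMap B F r)) = algebraMap B C r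
      rw [Algebra.TensorProduct.algebraMap_apply]
      simp [f', fF]
    · ext z
      simp [f', fF]
    · show (x ⊗ₜ (1 : F'') : F ⊗[F'] F'') = 0
      rw [← hy]
      show ((algebraMap F' F y) ⊗ₜ (1 : F'') : F ⊗[F'] F'') = 0
      rw [Algebra.algebraMap_eq_smul_one, TensorProduct.smul_tmul, Algebra.smul_def, mul_one]
      show ((1 : F) ⊗ₜ (v y) : F ⊗[F'] F'') = 0
      rw [hv, TensorProduct.tmul_zero]

end Groth.Agent.Lib.IndEtaleH3
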