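import Mathlib
import Groth.Prelude
import Groth.Agent.Lib.IndEtale1_helper3

/-!
# Localizations are ind-étale (helper3)
-/

set_option autoImplicit false
universe u

open TensorProduct

namespace Groth.Agent.Lib.PunctConnH3

open Groth.Agent.Lib.IndEtaleH3

/-- If an étale `R`-algebra `C` maps to a localization `S` of `R` and `c` is killed, then `c` is
killed by an element of `C` which becomes invertible in `S`. -/
theorem exists_mul_eq_zero_of_etale_of_isLocalization
    {R : Type u} [CommRing R] (M : Submonoid R) (S : Type u) [CommRing S] [Algebra R S]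
    [IsLocalization M S] (C : Type u) [CommRing C] [Algebra R C] [Algebra.Etale R C]
    (f : C →ₐ[R] S) (c : C) (hc : f c = 0) :
    ∃ t : C, IsUnit (f t) ∧ t * c = 0 := by
  obtain ⟨e₀, he₀⟩ : ∃ e₀, e₀ = Algebra.FormallyUnramified.elem R C := ⟨_, rfl⟩
  let Φ : C ⊗[R] C →ₐ[R] S ⊗[R] C := Algebra.TensorProduct.map f (AlgHom.id R C)
  let μ : S ⊗[R] C →ₐ[R] S :=
    Algebra.TensorProduct.lift (AlgHom.id R S) f (fun _ _ => Commute.all _ _)
  have h1 : (1 ⊗ₜ c : S ⊗[R] C) * Φ e₀ = 0 := by
    have := congrArg Φ (Algebra.FormallyUnramified.one_tmul_mul_elem (R := R) (S := C) c)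
    rw [map_mul, map_mul] at this
    simp only [Φ, Algebra.TensorProduct.map_tmul, map_one, AlgHom.coe_id, id_eq] at this
    rw [← he₀] at this
    rw [this, hc, TensorProduct.zero_tmul, zero_mul]
  have h2 : μ (Φ e₀) = 1 := by
    have hcomp : μ.comp Φ = f.comp (Algebra.TensorProduct.lmul' R) := by
      ext x <;> simp [μ, Φ]
    have := congr($hcomp e₀)
    simp only [AlgHom.comp_apply] at this
    rw [this, he₀, Algebra.FormallyUnramified.lmul_elem, map_one]
  have hbc : IsBaseChange S (TensorProduct.mk R S C 1) := TensorProduct.isBaseChange R C S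
  haveI hlm : IsLocalizedModule M (TensorProduct.mk R S C 1) :=
    (isLocalizedModule_iff_isBaseChange M S _).mpr hbc
  obtain ⟨⟨ε, m⟩, hε⟩ := IsLocalizedModule.surj M (TensorProduct.mk R S C 1) (Φ e₀)
  replace hε : (m : R) • Φ e₀ = (1 : S) ⊗ₜ[R] ε := hε
  have h3 : (TensorProduct.mk R S C 1) (c * ε) = (TensorProduct.mk R S C 1) 0 := by
    simp only [TensorProduct.mk_apply, map_zero]
    have : ((1 : S) ⊗ₜ[R] (c * ε) : S ⊗[R] C) = (1 ⊗ₜ c) * ((1 : S) ⊗ₜ[R] ε) := by
      rw [Algebra.TensorProduct.tmul_mul_tmul, one_mul]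
    rw [this, ← hε, mul_smul_comm, h1, smul_zero]
  obtain ⟨m', hm'⟩ := IsLocalizedModule.exists_of_eq (S := M) h3
  replace hm' : (m' : R) • (c * ε) = 0 := by
    have : (m' : R) • (c * ε) = (m' : R) • (0 : C) := hm'
    rw [this, smul_zero]
  have hfε : f ε = algebraMap R S m := by
    have h4 : μ ((1 : S) ⊗ₜ[R] ε) = f ε := by simp [μ]
    rw [← h4, ← hε, map_smul, h2, Algebra.smul_def, mul_one]
  refine ⟨(m' : R) • ε, ?_, ?_⟩
  · rw [map_smul, hfε, Algebra.smul_def, ← map_mul]
    exact IsLocalization.map_units S (m' * m)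
  · rw [smul_mul_assoc, mul_comm ε c]
    exact hm'

/-- **A localization is ind-étale.** -/
theorem isIndEtale_of_isLocalization {R : Type u} [CommRing R] (M : Submonoid R) (S : Type u)
    [CommRing S] [Algebra R S] [IsLocalization M S] : EtPBC.IsIndEtale R S := by
  apply isIndEtale_of_exists
  · intro b
    obtain ⟨a, m, rfl⟩ := IsLocalization.exists_mk'_eq M b
    haveI : Algebra.Etale R (Localization.Away (m : R)) := Algebra.Etale.of_isLocalizationAway (m : R)
    have hf : ∀ y : Submonoid.powers (m : R), IsUnit ((Algebra.ofId R S) y) := by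
      rintro ⟨_, k, rfl⟩
      show IsUnit (algebraMap R S ((m : R) ^ k))
      rw [map_pow]
      exact (IsLocalization.map_units S m).pow k
    let f : Localization.Away (m : R) →ₐ[R] S := IsLocalization.liftAlgHom hf
    refine ⟨Localization.Away (m : R), inferInstance, inferInstance, inferInstance, f,
      IsLocalization.mk' _ a (⟨m, 1, pow_one _⟩ : Submonoid.powers (m : R)), ?_⟩
    rw [IsLocalization.eq_mk'_iff_mul_eq, ← f.commutes (m : R), ← map_mul]
    have : IsLocalization.mk' (Localization.Away (m : R)) a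
        (⟨m, 1, pow_one _⟩ : Submonoid.powers (m : R)) * algebraMap R _ (m : R) =
        algebraMap R _ a :=
      IsLocalization.mk'_spec _ a (⟨m, 1, pow_one _⟩ : Submonoid.powers (m : R))
    rw [this, f.commutes]
  · intro C _ _ _ f c hc
    obtain ⟨t, ht, htc⟩ := exists_mul_eq_zero_of_etale_of_isLocalization M S C f c hc
    haveI : Algebra.Etale C (Localization.Away t) := Algebra.Etale.of_isLocalizationAway t
    haveI : Algebra.Etale R (Localization.Away t) := Algebra.Etale.comp R C _
    have hf : ∀ y : Submonoid.powers t, IsUnit (f y) := by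
      rintro ⟨_, k, rfl⟩
      show IsUnit (f (t ^ k))
      rw [map_pow]
      exact ht.pow k
    let f' : Localization.Away t →ₐ[R] S := IsLocalization.liftAlgHom hf
    refine ⟨Localization.Away t, inferInstance, inferInstance, inferInstance,
      IsScalarTower.toAlgHom R C (Localization.Away t), f', ?_, ?_⟩
    · ext x
      simp [f']
    · show algebraMap C (Localization.Away t) c = 0
      have hu : IsUnit (algebraMap C (Localization.Away t) t) :=
        IsLocalization.map_units _ (⟨t, 1, pow_one _⟩ : Submonoid.powers t)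
      have : algebraMap C (Localization.Away t) t * algebraMap C (Localization.Away t) c = 0 := by
        rw [← map_mul, htc, map_zero]
      exact (hu.mul_right_eq_zero).mp this

end Groth.Agent.Lib.PunctConnH3
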