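import Mathlib

/-!
# Two lemmas on flatness (helper3)

* `flat_submodule_of_bezoutPP`: over a "Bézout ring with idempotent supports" (e.g. a product of
  valuation rings) every submodule of a flat module is flat (weak dimension `≤ 1`).
* `mem_range_of_isIntegral_of_flat`: if `x' = r/σ ∈ R'` is integral over `R ⊆ R'` and the ideal
  `(r, σ)` of `R` is flat, then `x' ∈ R`.
-/

set_option autoImplicit false
set_option linter.all false
set_option maxHeartbeats 1600000
universe u

namespace Groth.Agent.Lib.WENormalH3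

/-- Every finite family has a "gcd" `d` whose annihilator is generated by an idempotent-like `1-ε`. -/
def BezoutPP (V : Type*) [CommRing V] : Prop :=
  ∀ (n : ℕ) (f : Fin n → V), ∃ (d ε : V) (g h : Fin n → V),
    (∀ i, f i = d * g i) ∧ ε * ∑ i, h i * g i = ε ∧ (∀ i, (1 - ε) * f i = 0) ∧
    ∀ a : V, d * a = 0 → ε * a = 0

theorem flat_submodule_of_bezoutPP {V : Type*} [CommRing V] (hV : BezoutPP V)
    {M : Type*} [AddCommGroup M] [Module V M] [Module.Flat V M] (M' : Submodule V M) :
    Module.Flat V M' := by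
  classical
  apply Module.Flat.of_forall_isTrivialRelation
  intro l f x hfx
  obtain ⟨d, ε, g, h, hf, hε, hf0, hd⟩ := hV l f
  -- `d • m = 0 → ε • m = 0` in the flat module `M`
  have hdM : ∀ m : M, d • m = 0 → ε • m = 0 := by
    intro m hm
    have hrel : ∑ i : Fin 1, (fun _ => d) i • (fun _ => m) i = 0 := by simpa using hm
    obtain ⟨k, a, y, hy1, hy2⟩ := Module.Flat.isTrivialRelation_of_sum_smul_eq_zero hrel
    have h1 := hy1 0
    simp only at h1
    rw [h1, Finset.smul_sum]
    refine Finset.sum_eq_zero fun j _ => ?_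
    have h2 := hy2 j
    simp only [Finset.univ_unique, Fin.default_eq_zero, Fin.isValue, Finset.sum_singleton] at h2
    rw [smul_smul, hd _ h2, zero_smul]
  let s : M' := ∑ i, g i • x i
  have hs : ε • s = 0 := by
    apply Subtype.ext
    rw [Submodule.coe_smul, Submodule.coe_zero]
    apply hdM
    rw [← Submodule.coe_smul, ← Submodule.coe_zero (p := M'), ← hfx]
    congr 1
    simp only [s, Finset.smul_sum, smul_smul]
    refine Finset.sum_congr rfl fun i _ => ?_
    rw [hf i]
  refine ⟨l, fun i j => (if i = j then 1 else 0) - ε * h i * g j, x, ?_, ?_⟩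
  · intro i
    simp only [sub_smul, Finset.sum_sub_distrib]
    have h1 : ∑ j, (if i = j then (1 : V) else 0) • x j = x i := by
      simp [ite_smul]
    have h2 : ∑ j, (ε * h i * g j) • x j = h i • (ε • s) := by
      simp only [s, Finset.smul_sum, smul_smul]
      refine Finset.sum_congr rfl fun j _ => ?_
      congr 1
      ring
    rw [h1, h2, hs, smul_zero, sub_zero]
  · intro j
    simp only [mul_sub, Finset.sum_sub_distrib]
    have h1 : ∑ i, f i * (if i = j then (1 : V) else 0) = f j := by
      simp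
    have h2 : ∑ i, f i * (ε * h i * g j) = ε * f j := by
      have : ∀ i, f i * (ε * h i * g j) = (d * g j) * (ε * (h i * g i)) := by
        intro i
        rw [hf i]
        ring
      simp only [this]
      rw [← Finset.mul_sum, ← Finset.mul_sum, hε, ← hf j, mul_comm]
    rw [h1, h2]
    have := hf0 j
    rw [sub_mul, one_mul] at this
    exact this

/-- If `x' = r/σ` is integral over `R` and the ideal `(r, σ)` of `R` is flat, then `x' ∈ R`. -/
theorem mem_range_of_isIntegral_of_flat {R R' : Type*} [CommRing R] [CommRing R'] [Algebra R R']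
    (hinj : Function.Injective (algebraMap R R')) (x' : R') (hx' : IsIntegral R x') (σ r : R)
    (hσ : IsUnit (algebraMap R R' σ)) (hr : algebraMap R R' σ * x' = algebraMap R R' r)
    (hflat : Module.Flat R (Ideal.span ({r, σ} : Set R))) :
    x' ∈ Set.range (algebraMap R R') := by
  classical
  set φ := algebraMap R R' with hφ
  set I : Ideal R := Ideal.span ({r, σ} : Set R) with hI
  have hrI : r ∈ I := Ideal.subset_span (by simp)
  have hσI : σ ∈ I := Ideal.subset_span (by simp)
  have hrel : ∑ i : Fin 2, (![σ, -r] : Fin 2 → R) i • (![⟨r, hrI⟩, ⟨σ, hσI⟩] : Fin 2 → I) i = 0 := by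
    rw [Fin.sum_univ_two]
    apply Subtype.ext
    simp [mul_comm]
  obtain ⟨k, a, y, hy1, hy2⟩ := Module.Flat.isTrivialRelation_of_sum_smul_eq_zero hrel
  have hyσ : σ = ∑ j, a 1 j * (y j : R) := by
    have := congrArg Subtype.val (hy1 1)
    simpa using this
  have hrel2 : ∀ j, σ * a 0 j = r * a 1 j := by
    intro j
    have := hy2 j
    rw [Fin.sum_univ_two] at this
    simp only [Matrix.cons_val_zero, Matrix.cons_val_one, neg_mul] at this
    exact (sub_eq_zero.mp (by rw [sub_eq_add_neg]; exact this))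
  -- in `R'`: `φ (a 0 j) = x' * φ (a 1 j)`
  have ha0 : ∀ j, φ (a 0 j) = x' * φ (a 1 j) := by
    intro j
    have := congrArg φ (hrel2 j)
    rw [map_mul, map_mul, ← hr, mul_assoc] at this
    exact hσ.mul_left_cancel this
  -- write `y j = α j * r + β j * σ`
  have hy : ∀ j, ∃ α β : R, α * r + β * σ = (y j : R) := fun j =>
    Ideal.mem_span_pair.mp (y j).2
  choose α β hαβ using hy
  -- the unit relation
  have hone : (1 : R') = ∑ j, φ (a 1 j) * (φ (α j) * x' + φ (β j)) := by
    have h1 := congrArg φ hyσ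
    rw [map_sum] at h1
    have h2 : ∀ j, φ (a 1 j * (y j : R)) = φ σ * (φ (a 1 j) * (φ (α j) * x' + φ (β j))) := by
      intro j
      rw [← hαβ j, map_mul, map_add, map_mul, map_mul, ← hr]
      ring
    simp only [h2] at h1
    rw [← Finset.mul_sum] at h1
    have h3 : φ σ * 1 = φ σ * ∑ j, φ (a 1 j) * (φ (α j) * x' + φ (β j)) := by
      rw [mul_one]; exact h1
    exact hσ.mul_left_cancel h3
  -- Nakayama
  let 𝔞 : Ideal R := Ideal.span (Set.range (a 1))
  let N : Submodule R R' := Subalgebra.toSubmodule (Algebra.adjoin R {x'})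
  have hNfg : N.FG := hx'.fg_adjoin_singleton
  have hx'N : x' ∈ N := Algebra.subset_adjoin (Set.mem_singleton x')
  have h1N : (1 : R') ∈ 𝔞 • N := by
    rw [hone]
    refine Submodule.sum_mem _ fun j _ => ?_
    have hmem : φ (α j) * x' + φ (β j) ∈ N := by
      refine Submodule.add_mem _ ?_ ?_
      · exact Subalgebra.mul_mem _ (Subalgebra.algebraMap_mem _ _) hx'N
      · exact Subalgebra.algebraMap_mem _ _
    have : φ (a 1 j) * (φ (α j) * x' + φ (β j)) = a 1 j • (φ (α j) * x' + φ (β j)) := by
      rw [Algebra.smul_def]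
    rw [this]
    exact Submodule.smul_mem_smul (Ideal.subset_span ⟨j, rfl⟩) hmem
  have hle : N ≤ 𝔞 • N := by
    intro n hn
    have hn1 : n = n * 1 := (mul_one n).symm
    rw [hn1]
    refine Submodule.smul_induction_on h1N ?_ ?_
    · intro c hc m hm
      have : n * c • m = c • (n * m) := by rw [mul_smul_comm]
      rw [this]
      exact Submodule.smul_mem_smul hc (Subalgebra.mul_mem _ hn hm)
    · intro u v hu hv
      rw [mul_add]
      exact Submodule.add_mem _ hu hv
  obtain ⟨ρ, hρ1, hρ2⟩ := Submodule.exists_sub_one_mem_and_smul_eq_zero_of_fg_of_le_smul 𝔞 N hNfg hle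
  have hρ0 : ρ = 0 := by
    apply hinj
    have := hρ2 1 (Subalgebra.one_mem _)
    rw [Algebra.smul_def, mul_one] at this
    rw [this, map_zero]
  have h1𝔞 : (1 : R) ∈ 𝔞 := by
    rw [hρ0, zero_sub] at hρ1
    simpa using 𝔞.neg_mem hρ1
  obtain ⟨c, hc⟩ := Ideal.mem_span_range_iff_exists_fun.mp h1𝔞
  refine ⟨∑ j, c j * a 0 j, ?_⟩
  rw [map_sum]
  have : ∀ j, φ (c j * a 0 j) = x' * φ (c j * a 1 j) := by
    intro j
    rw [map_mul, ha0 j, map_mul]
    ring
  simp only [this]
  rw [← Finset.mul_sum, ← map_sum, hc, map_one, mul_one]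

end Groth.Agent.Lib.WENormalH3
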