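import Mathlib
import Groth.Agent.Lib.FlatMul_lead
import Groth.Agent.Lib.WENormal1_helper3

/-!
# Weakly étale algebras over a normal domain are integrally closed in their generic fibre (helper3)

Stacks 092W: if `A` is a normal domain with fraction field `K` and `B` is weakly étale over `A`,
then `B` is integrally closed in `B ⊗[A] K`.  The proof uses the product `V` of all valuation rings
of `K` containing `A`: it has weak dimension `≤ 1`, `A = K ∩ V` inside `∏ K`, and weak dimension
`≤ 1` ascends along weakly étale maps.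
-/

set_option autoImplicit false
set_option linter.all false
set_option maxHeartbeats 1600000
universe u

open TensorProduct

namespace Groth.Agent.Lib.WENormalH3

section VProd

variable (A K : Type u) [CommRing A] [Field K] [Algebra A K]

/-- Valuation subrings of `K` containing the image of `A`. -/
def VIdx : Type u := {v : ValuationSubring K // ∀ a : A, algebraMap A K a ∈ v}

/-- The product of all valuation rings of `K` containing `A`, as a subalgebra of `VIdx → K`. -/
def VProd : Subalgebra A (VIdx A K → K) where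
  carrier := {l | ∀ j : VIdx A K, l j ∈ j.1}
  mul_mem' := fun ha hb j => j.1.mul_mem _ _ (ha j) (hb j)
  add_mem' := fun ha hb j => j.1.add_mem _ _ (ha j) (hb j)
  algebraMap_mem' := fun a j => j.2 a

theorem mem_vProd {l : VIdx A K → K} : l ∈ VProd A K ↔ ∀ j : VIdx A K, l j ∈ j.1 := Iff.rfl

theorem bezoutPP_vProd : BezoutPP (VProd A K) := by
  classical
  intro n f
  rcases Nat.eq_zero_or_pos n with rfl | hn
  · exact ⟨0, 0, fun _ => 0, fun _ => 0, fun i => i.elim0, by simp, fun i => i.elim0,
      fun a _ => by simp⟩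
  haveI : Nonempty (Fin n) := ⟨⟨0, hn⟩⟩
  have hex : ∀ j : VIdx A K, ∃ i₀ : Fin n, ∀ i,
      j.1.valuation ((f i).1 j) ≤ j.1.valuation ((f i₀).1 j) := by
    intro j
    obtain ⟨i₀, -, h⟩ := Finset.exists_max_image Finset.univ
      (fun i => j.1.valuation ((f i).1 j)) Finset.univ_nonempty
    exact ⟨i₀, fun i => h i (Finset.mem_univ i)⟩
  choose i₀ hi₀ using hex
  let d : VIdx A K → K := fun j => (f (i₀ j)).1 j
  have hd0 : ∀ j i, d j = 0 → (f i).1 j = 0 := by
    intro j i h
    have h1 := hi₀ j i
    rw [show (f (i₀ j)).1 j = 0 from h, map_zero] at h1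
    exact (j.1.valuation.zero_iff).mp (le_antisymm h1 zero_le')
  let g : Fin n → VIdx A K → K := fun i j => if d j = 0 then 0 else (f i).1 j / d j
  let h : Fin n → VIdx A K → K := fun i j => if i = i₀ j then 1 else 0
  let ε : VIdx A K → K := fun j => if d j = 0 then 0 else 1
  have hdV : d ∈ VProd A K := fun j => (f (i₀ j)).2 j
  have hgV : ∀ i, g i ∈ VProd A K := by
    intro i j
    show (if d j = 0 then 0 else (f i).1 j / d j) ∈ j.1
    split_ifs with h0
    · exact j.1.zero_mem
    · rw [← ValuationSubring.valuation_le_one_iff, map_div₀]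
      have hpos : 0 < j.1.valuation (d j) := zero_lt_iff.mpr ((j.1.valuation.ne_zero_iff).mpr h0)
      exact (div_le_one₀ hpos).mpr (hi₀ j i)
  have hhV : ∀ i, h i ∈ VProd A K := by
    intro i j
    show (if i = i₀ j then 1 else 0) ∈ j.1
    split_ifs
    · exact j.1.one_mem
    · exact j.1.zero_mem
  have hεV : ε ∈ VProd A K := by
    intro j
    show (if d j = 0 then 0 else 1) ∈ j.1
    split_ifs
    · exact j.1.zero_mem
    · exact j.1.one_mem
  refine ⟨⟨d, hdV⟩, ⟨ε, hεV⟩, fun i => ⟨g i, hgV i⟩, fun i => ⟨h i, hhV i⟩, ?_, ?_, ?_, ?_⟩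
  · intro i
    apply Subtype.ext
    funext j
    show (f i).1 j = d j * (if d j = 0 then 0 else (f i).1 j / d j)
    split_ifs with h0
    · rw [hd0 j i h0, mul_zero]
    · rw [mul_div_cancel₀ _ h0]
  · apply Subtype.ext
    funext j
    simp only [Subalgebra.coe_mul, AddSubmonoidClass.coe_finset_sum, Pi.mul_apply,
      Finset.sum_apply]
    show (if d j = 0 then (0 : K) else 1) * ∑ i, (if i = i₀ j then (1 : K) else 0) *
      (if d j = 0 then 0 else (f i).1 j / d j) = if d j = 0 then 0 else 1
    split_ifs with h0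
    · rw [zero_mul]
    · simp only [ite_mul, one_mul, zero_mul, Finset.sum_ite_eq', Finset.mem_univ, if_true]
      exact div_self h0
  · intro i
    apply Subtype.ext
    funext j
    show ((1 : K) - (if d j = 0 then 0 else 1)) * (f i).1 j = 0
    split_ifs with h0
    · rw [hd0 j i h0, mul_zero]
    · rw [sub_self, zero_mul]
  · intro a ha
    apply Subtype.ext
    funext j
    have h1 : d j * a.1 j = 0 := congrFun (congrArg Subtype.val ha) j
    show (if d j = 0 then (0 : K) else 1) * a.1 j = 0
    split_ifs with h0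
    · rw [zero_mul]
    · rw [one_mul]
      exact (mul_eq_zero.mp h1).resolve_left h0

variable [IsDomain A] [IsIntegrallyClosed A] [IsFractionRing A K]

/-- `A = K ∩ V`. -/
theorem mem_range_of_forall_mem (k : K) (hk : ∀ j : VIdx A K, k ∈ j.1) :
    k ∈ Set.range (algebraMap A K) := by
  by_contra hcon
  let R₀ : Subring K := (algebraMap A K).range
  letI : Algebra A R₀ := (algebraMap A K).rangeRestrict.toAlgebra
  haveI : IsScalarTower A R₀ K := IsScalarTower.of_algebraMap_eq fun _ => rfl
  haveI : Algebra.IsIntegral A R₀ :=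
    Algebra.IsIntegral.of_surjective (Algebra.ofId A R₀) (algebraMap A K).rangeRestrict_surjective
  haveI : IsIntegrallyClosedIn R₀ K := by
    rw [isIntegrallyClosedIn_iff]
    refine ⟨Subtype.val_injective, fun {x} hx => ?_⟩
    have hxA : IsIntegral A x := isIntegral_trans x hx
    obtain ⟨a, ha⟩ := IsIntegrallyClosed.isIntegral_iff.mp hxA
    exact ⟨⟨x, a, ha⟩, rfl⟩
  obtain ⟨v, hv, hkv⟩ :=
    Subring.exists_le_valuationSubring_of_isIntegrallyClosedIn (R := R₀) (x := k) hcon
  exact hkv (hk ⟨v, fun a => hv ⟨a, rfl⟩⟩)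

end VProd

/-- Over a base of weak dimension `≤ 1` (in the form `BezoutPP`), ideals of a weakly étale algebra
are flat. -/
theorem flat_ideal_of_weaklyEtale {V R : Type u} [CommRing V] [CommRing R] [Algebra V R]
    [Algebra.WeaklyEtale V R] (hV : BezoutPP V) (I : Ideal R) : Module.Flat R I := by
  haveI : Module.Flat V R := Algebra.WeaklyEtale.flat
  have hflatV : Module.Flat V (I.restrictScalars V) := flat_submodule_of_bezoutPP hV _
  haveI hflatV' : Module.Flat V I := hflatV
  exact Groth.Agent.Lib.FlatMul.flat_of_flat_mul V R I (Algebra.WeaklyEtale.flat_lmul' V R)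

section Main

variable (A K B : Type u) [CommRing A] [IsDomain A] [IsIntegrallyClosed A] [Field K] [Algebra A K]
  [IsFractionRing A K] [CommRing B] [Algebra A B]

/-- every element of `K ⊗ B` is of the form `(1/c) ⊗ b` -/
theorem exists_inv_tmul' (x : K ⊗[A] B) :
    ∃ (c : A) (_ : c ≠ 0) (b : B), x = (algebraMap A K c)⁻¹ ⊗ₜ[A] b := by
  induction x using TensorProduct.induction_on with
  | zero => exact ⟨1, one_ne_zero, 0, by simp⟩
  | tmul k s =>
    obtain ⟨a, b, hb, rfl⟩ := IsFractionRing.div_surjective (A := A) k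
    refine ⟨b, nonZeroDivisors.ne_zero hb, a • s, ?_⟩
    rw [TensorProduct.tmul_smul, TensorProduct.smul_tmul']
    congr 1
    rw [Algebra.smul_def, div_eq_mul_inv]
  | add x y hx hy =>
    obtain ⟨r₁, hr₁, s₁, rfl⟩ := hx
    obtain ⟨r₂, hr₂, s₂, rfl⟩ := hy
    have h1 : algebraMap A K r₁ ≠ 0 :=
      (map_ne_zero_iff _ (IsFractionRing.injective A K)).mpr hr₁
    have h2 : algebraMap A K r₂ ≠ 0 :=
      (map_ne_zero_iff _ (IsFractionRing.injective A K)).mpr hr₂
    refine ⟨r₁ * r₂, mul_ne_zero hr₁ hr₂, r₂ • s₁ + r₁ • s₂, ?_⟩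
    rw [TensorProduct.tmul_add, TensorProduct.tmul_smul, TensorProduct.tmul_smul,
      TensorProduct.smul_tmul', TensorProduct.smul_tmul']
    congr 1
    · congr 1
      rw [Algebra.smul_def, map_mul]
      field_simp
    · congr 1
      rw [Algebra.smul_def, map_mul]
      field_simp

variable [Algebra.WeaklyEtale A B]

/-- **Stacks 092W**, in the form `K ⊗[A] B`. -/
theorem exists_of_isIntegralElem (x : K ⊗[A] B)
    (hx : (Algebra.TensorProduct.includeRight : B →ₐ[A] K ⊗[A] B).toRingHom.IsIntegralElem x) :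
    ∃ b : B, (1 : K) ⊗ₜ[A] b = x := by
  classical
  let J := VIdx A K
  let L := J → K
  let V : Subalgebra A L := VProd A K
  let κ : K →ₐ[A] L := Pi.constAlgHom A J K
  let R := V ⊗[A] B
  let R' := L ⊗[A] B
  let ι : R →ₐ[A] R' := Algebra.TensorProduct.map V.val (AlgHom.id A B)
  have hιlin : ∀ z : R, ι z = LinearMap.rTensor B V.val.toLinearMap z := by
    intro z
    induction z using TensorProduct.induction_on with
    | zero => simp
    | tmul a b => rfl
    | add a b ha hb => rw [map_add, map_add, ha, hb]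
  have hιinj : Function.Injective ι := by
    intro z z' hzz
    rw [hιlin, hιlin] at hzz
    exact Module.Flat.rTensor_preserves_injective_linearMap (M := B) V.val.toLinearMap
      Subtype.val_injective hzz
  letI algRR' : Algebra R R' := ι.toRingHom.toAlgebra
  have halg : ∀ z : R, algebraMap R R' z = ι z := fun _ => rfl
  let x' : R' := Algebra.TensorProduct.map κ (AlgHom.id A B) x
  -- integrality of `x'` over `R`
  have hx'int : IsIntegral R x' := by
    obtain ⟨P, hP, hPx⟩ := hx
    let incR : B →+* R := (Algebra.TensorProduct.includeRight : B →ₐ[A] V ⊗[A] B).toRingHom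
    refine ⟨P.map incR, hP.map _, ?_⟩
    rw [Polynomial.eval₂_map]
    have hcomp : (algebraMap R R').comp incR =
        (Algebra.TensorProduct.map κ (AlgHom.id A B)).toRingHom.comp
          (Algebra.TensorProduct.includeRight : B →ₐ[A] K ⊗[A] B).toRingHom := by
      ext b
      show ι ((1 : V) ⊗ₜ[A] b) = Algebra.TensorProduct.map κ (AlgHom.id A B) ((1 : K) ⊗ₜ[A] b)
      rw [Algebra.TensorProduct.map_tmul, Algebra.TensorProduct.map_tmul, map_one, map_one]
    have h := Polynomial.hom_eval₂ P
      (Algebra.TensorProduct.includeRight : B →ₐ[A] K ⊗[A] B).toRingHom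
      (Algebra.TensorProduct.map κ (AlgHom.id A B)).toRingHom x
    rw [hPx, map_zero] at h
    rw [hcomp]
    exact h.symm
  obtain ⟨c, hc, b, rfl⟩ := exists_inv_tmul' A K B x
  have hcK : algebraMap A K c ≠ 0 := (map_ne_zero_iff _ (IsFractionRing.injective A K)).mpr hc
  let σ : R := algebraMap A R c
  let r : R := (1 : V) ⊗ₜ[A] b
  have hισ : algebraMap R R' σ = algebraMap A R' c := by
    rw [halg]
    exact ι.commutes c
  have hσunit : IsUnit (algebraMap R R' σ) := by
    rw [hισ]
    have h1 : algebraMap A R' c =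
        (Algebra.TensorProduct.includeLeft : L →ₐ[A] L ⊗[A] B) (κ (algebraMap A K c)) := by
      rw [AlgHom.commutes, AlgHom.commutes]
    rw [h1]
    exact ((IsUnit.mk0 _ hcK).map κ).map _
  have hr : algebraMap R R' σ * x' = algebraMap R R' r := by
    rw [hισ, halg]
    show algebraMap A R' c * Algebra.TensorProduct.map κ (AlgHom.id A B)
      ((algebraMap A K c)⁻¹ ⊗ₜ[A] b) = ι ((1 : V) ⊗ₜ[A] b)
    rw [Algebra.TensorProduct.map_tmul, ← Algebra.smul_def, TensorProduct.smul_tmul', ← map_smul,
      Algebra.smul_def, mul_inv_cancel₀ hcK, map_one]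
    show (1 : L) ⊗ₜ[A] (AlgHom.id A B) b = ι ((1 : V) ⊗ₜ[A] b)
    rw [Algebra.TensorProduct.map_tmul, map_one]
  -- flatness of the ideal
  have hflat : Module.Flat R (Ideal.span ({r, σ} : Set R)) :=
    flat_ideal_of_weaklyEtale (V := V) (R := V ⊗[A] B) (bezoutPP_vProd A K) _
  obtain ⟨ρ, hρ⟩ := mem_range_of_isIntegral_of_flat hιinj x' hx'int σ r hσunit hr hflat
  -- exactness
  let V' : Submodule A L := Subalgebra.toSubmodule V
  let q : L →ₗ[A] L ⧸ V' := V'.mkQ
  have hex : Function.Exact (Algebra.linearMap A K) (q ∘ₗ κ.toLinearMap) := by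
    intro k
    constructor
    · intro hk
      have h1 : κ k ∈ V' := (Submodule.Quotient.mk_eq_zero V').mp hk
      exact mem_range_of_forall_mem A K k (fun j => h1 j)
    · rintro ⟨a, rfl⟩
      show q (κ (algebraMap A K a)) = 0
      rw [AlgHom.commutes]
      exact (Submodule.Quotient.mk_eq_zero V').mpr (V.algebraMap_mem a)
  have hex' := Module.Flat.rTensor_exact B hex
  have hzero : (q ∘ₗ κ.toLinearMap).rTensor B ((algebraMap A K c)⁻¹ ⊗ₜ[A] b) = 0 := by
    have h1 : (q ∘ₗ κ.toLinearMap).rTensor B ((algebraMap A K c)⁻¹ ⊗ₜ[A] b) =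
        q.rTensor B x' := rfl
    rw [h1, ← hρ, halg, hιlin, ← LinearMap.comp_apply, ← LinearMap.rTensor_comp]
    have h2 : q ∘ₗ V.val.toLinearMap = 0 := by
      ext v
      exact (Submodule.Quotient.mk_eq_zero V').mpr v.2
    rw [h2, LinearMap.rTensor_zero, LinearMap.zero_apply]
  obtain ⟨w, hw⟩ := (hex' _).mp hzero
  have key : ∀ w : A ⊗[A] B, (1 : K) ⊗ₜ[A] (TensorProduct.lid A B w) =
      (Algebra.linearMap A K).rTensor B w := by
    intro w
    induction w using TensorProduct.induction_on with
    | zero => simp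
    | tmul a b' =>
      rw [TensorProduct.lid_tmul, LinearMap.rTensor_tmul, Algebra.linearMap_apply,
        TensorProduct.tmul_smul, TensorProduct.smul_tmul', Algebra.smul_def, mul_one]
    | add u v hu hv => rw [map_add, TensorProduct.tmul_add, hu, hv, map_add]
  exact ⟨TensorProduct.lid A B w, (key w).trans hw⟩

/-- **S1967.** -/
theorem main1967 : IsIntegrallyClosedIn B (B ⊗[A] K) := by
  rw [isIntegrallyClosedIn_iff]
  haveI : Module.Flat A B := Algebra.WeaklyEtale.flat
  refine ⟨Algebra.TensorProduct.includeLeft_injective (S := A)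
    (IsFractionRing.injective A K), fun {z} hz => ?_⟩
  let e := Algebra.TensorProduct.comm A B K
  have hx : (Algebra.TensorProduct.includeRight : B →ₐ[A] K ⊗[A] B).toRingHom.IsIntegralElem
      (e z) := by
    obtain ⟨P, hP, hPz⟩ := hz
    refine ⟨P, hP, ?_⟩
    have hcomp : (Algebra.TensorProduct.includeRight : B →ₐ[A] K ⊗[A] B).toRingHom =
        (e : B ⊗[A] K →+* K ⊗[A] B).comp (algebraMap B (B ⊗[A] K)) := by
      ext b
      simp [e, Algebra.TensorProduct.algebraMap_apply]
    have h := Polynomial.hom_eval₂ P (algebraMap B (B ⊗[A] K)) (e : B ⊗[A] K →+* K ⊗[A] B) z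
    rw [show Polynomial.eval₂ (algebraMap B (B ⊗[A] K)) z P = 0 from hPz, map_zero] at h
    rw [hcomp]
    exact h.symm
  obtain ⟨b, hb⟩ := exists_of_isIntegralElem A K B (e z) hx
  refine ⟨b, ?_⟩
  apply e.injective
  rw [← hb]
  simp [e, Algebra.TensorProduct.algebraMap_apply]

end Main

end Groth.Agent.Lib.WENormalH3
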