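import Mathlib
import Groth.Agent.Lib.WeaklyEtaleAff_lead

/-!
# Weakly étale morphisms are detected on stalks (lead)
-/

set_option autoImplicit false

open AlgebraicGeometry CategoryTheory Limits TensorProduct

namespace Groth.Agent.Lib.WeaklyEtaleStalk

universe u

/-! ### Ring level: cancelling a faithfully flat map -/

lemma flat_of_flat_of_faithfullyFlat (A B C : Type u) [CommRing A] [CommRing B] [CommRing C]
    [Algebra A B] [Algebra B C] [Algebra A C] [IsScalarTower A B C] [Module.Flat A C]
    [Module.FaithfullyFlat B C] : Module.Flat A B := by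
  rw [Module.Flat.iff_lTensor_preserves_injective_linearMap]
  intro N N' _ _ _ _ f hf
  let g : B ⊗[A] N →ₗ[B] B ⊗[A] N' := f.baseChange B
  have key : Function.Injective g := by
    rw [← Module.FaithfullyFlat.lTensor_injective_iff_injective B C g]
    let e₁ := TensorProduct.AlgebraTensorModule.cancelBaseChange A B B C N
    let e₂ := TensorProduct.AlgebraTensorModule.cancelBaseChange A B B C N'
    have hsq : ∀ z, e₂ (g.lTensor C z) = (f.lTensor C) (e₁ z) := by
      intro z
      induction z using TensorProduct.induction_on with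
      | zero => simp
      | tmul c w =>
        induction w using TensorProduct.induction_on with
        | zero => simp
        | tmul b n => simp [e₁, e₂, g]
        | add x y hx hy => simp only [TensorProduct.tmul_add, map_add, hx, hy]
      | add x y hx hy => simp only [map_add, hx, hy]
    have hinj : Function.Injective (f.lTensor C) :=
      Module.Flat.lTensor_preserves_injective_linearMap f hf
    intro z₁ z₂ h
    apply e₁.injective
    apply hinj
    rw [← hsq, ← hsq, h]
  exact key

lemma flat_of_comp_flat_of_flat_of_isLocalHom {A B C : Type u} [CommRing A] [CommRing B]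
    [CommRing C] [IsLocalRing B] [IsLocalRing C] (α : A →+* B) (β : B →+* C) [IsLocalHom β]
    (hβ : β.Flat) (h : (β.comp α).Flat) : α.Flat := by
  letI := α.toAlgebra
  letI := β.toAlgebra
  letI := (β.comp α).toAlgebra
  haveI : IsScalarTower A B C := IsScalarTower.of_algebraMap_eq' rfl
  haveI : Module.Flat B C := hβ
  haveI : Module.Flat A C := h
  haveI : IsLocalHom (algebraMap B C) := ‹IsLocalHom β›
  haveI : Module.FaithfullyFlat B C := Module.FaithfullyFlat.of_flat_of_isLocalHom
  exact flat_of_flat_of_faithfullyFlat A B C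

/-! ### Scheme level -/

lemma flat_fromSpecStalk {X : Scheme.{u}} (x : X) : Flat (X.fromSpecStalk x) := by
  obtain ⟨_, ⟨U, hU, rfl⟩, hxU, -⟩ :=
    X.isBasis_affineOpens.exists_subset_of_mem_open (Set.mem_univ x) isOpen_univ
  have hU' : IsAffineOpen U := hU
  have hx : x ∈ U := hxU
  rw [← hU'.fromSpecStalk_eq_fromSpecStalk hx]
  dsimp only [IsAffineOpen.fromSpecStalk]
  haveI : Flat (Spec.map (X.presheaf.germ U x hx)) := by
    rw [HasRingHomProperty.Spec_iff (P := @Flat)]
    letI : Algebra Γ(X, U) (X.presheaf.stalk x) := (X.presheaf.germ U x hx).hom.toAlgebra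
    haveI := hU'.isLocalization_stalk ⟨x, hx⟩
    exact IsLocalization.flat (X.presheaf.stalk x) (hU'.primeIdealOf ⟨x, hx⟩).asIdeal.primeCompl
  infer_instance

lemma weaklyEtale_of_flat_of_mono {X Y : Scheme.{u}} (g : X ⟶ Y) [Flat g] [Mono g] :
    WeaklyEtale g where

lemma weaklyEtale_fromSpecStalk {X : Scheme.{u}} (x : X) : WeaklyEtale (X.fromSpecStalk x) := by
  haveI := flat_fromSpecStalk x
  exact weaklyEtale_of_flat_of_mono _

lemma flat_stalkMap_congr {X Y : Scheme.{u}} (h : X ⟶ Y) {x x' : X} (e : x = x')
    (hx : (h.stalkMap x).hom.Flat) : (h.stalkMap x').hom.Flat := by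
  subst e
  exact hx

theorem aux {X Y : Scheme.{u}} (f : X ⟶ Y) :
    WeaklyEtale f ↔ ∀ x : X, WeaklyEtale (Spec.map (f.stalkMap x)) := by
  constructor
  · intro hf x
    haveI := weaklyEtale_fromSpecStalk x
    haveI := weaklyEtale_fromSpecStalk (f x)
    haveI : WeaklyEtale (X.fromSpecStalk x ≫ f) := inferInstance
    haveI : WeaklyEtale (Spec.map (f.stalkMap x) ≫ Y.fromSpecStalk (f x)) := by
      rw [Scheme.SpecMap_stalkMap_fromSpecStalk]
      infer_instance
    exact WeaklyEtale.of_comp _ (Y.fromSpecStalk (f x))
  · intro H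
    have hflat : Flat f := Flat.of_stalkMap f fun x => by
      haveI := H x
      have h1 : Flat (Spec.map (f.stalkMap x)) := inferInstance
      exact (HasRingHomProperty.Spec_iff (P := @Flat)).mp h1
    refine { flat := hflat, flat_diagonal := Flat.of_stalkMap _ fun x => ?_ }
    haveI := H x
    haveI := weaklyEtale_fromSpecStalk x
    haveI := weaklyEtale_fromSpecStalk (f x)
    haveI := flat_fromSpecStalk x
    let g : Spec (X.presheaf.stalk x) ⟶ Y := X.fromSpecStalk x ≫ f
    haveI hg : WeaklyEtale g := by
      show WeaklyEtale (X.fromSpecStalk x ≫ f)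
      rw [← Scheme.SpecMap_stalkMap_fromSpecStalk]
      infer_instance
    let j : pullback g g ⟶ pullback f f :=
      pullback.map g g f f (X.fromSpecStalk x) (X.fromSpecStalk x) (𝟙 Y)
        ((Category.comp_id _).trans rfl) ((Category.comp_id _).trans rfl)
    haveI hj : Flat j :=
      MorphismProperty.pullbackMap (P := @Flat) (f := g) (g := g) (f' := f) (g' := f)
        (inferInstance : Flat (X.fromSpecStalk x)) (inferInstance : Flat (X.fromSpecStalk x))
        rfl rfl
    have hcomm : X.fromSpecStalk x ≫ pullback.diagonal f = pullback.diagonal g ≫ j := by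
      apply pullback.hom_ext
      · rw [Category.assoc, Category.assoc, pullback.diagonal_fst, Category.comp_id]
        show _ = pullback.diagonal g ≫ (pullback.map g g f f _ _ _ _ _ ≫ pullback.fst f f)
        rw [pullback.lift_fst, ← Category.assoc, pullback.diagonal_fst, Category.id_comp]
      · rw [Category.assoc, Category.assoc, pullback.diagonal_snd, Category.comp_id]
        show _ = pullback.diagonal g ≫ (pullback.map g g f f _ _ _ _ _ ≫ pullback.snd f f)
        rw [pullback.lift_snd, ← Category.assoc, pullback.diagonal_snd, Category.id_comp]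
    haveI hfl : Flat (X.fromSpecStalk x ≫ pullback.diagonal f) := by
      rw [hcomm]
      infer_instance
    have h1 : (((X.fromSpecStalk x).stalkMap
        (IsLocalRing.closedPoint (X.presheaf.stalk x))).hom.comp
        ((pullback.diagonal f).stalkMap
          ((X.fromSpecStalk x) (IsLocalRing.closedPoint (X.presheaf.stalk x)))).hom).Flat := by
      have h0 := Flat.stalkMap (X.fromSpecStalk x ≫ pullback.diagonal f)
        (IsLocalRing.closedPoint (X.presheaf.stalk x))
      rw [Scheme.Hom.stalkMap_comp] at h0
      exact h0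
    have h2 := Flat.stalkMap (X.fromSpecStalk x) (IsLocalRing.closedPoint (X.presheaf.stalk x))
    have h3 := flat_of_comp_flat_of_flat_of_isLocalHom _ _ h2 h1
    exact flat_stalkMap_congr _ Scheme.fromSpecStalk_closedPoint h3

theorem main {X Y : Scheme.{u}} (f : X ⟶ Y) :
    WeaklyEtale f ↔ ∀ x : X, (f.stalkMap x).hom.Flat ∧
      (letI := (f.stalkMap x).hom.toAlgebra
       (Algebra.TensorProduct.lmul' (S := ↑(X.presheaf.stalk x))
        (↑(Y.presheaf.stalk (f x)))).toRingHom.Flat) := by
  rw [aux]
  refine forall_congr' fun x => ?_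
  rw [Groth.Agent.Lib.WeaklyEtaleAff.weaklyEtale_SpecMap_iff]
  letI := (f.stalkMap x).hom.toAlgebra
  exact ⟨fun h => ⟨h.flat, Algebra.WeaklyEtale.flat_lmul' _ _⟩, fun h => ⟨h.1, h.2⟩⟩

end Groth.Agent.Lib.WeaklyEtaleStalk
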