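import Mathlib
import Groth.Prelude.Def_Pi1
import Groth.Agent.Lib.WEField1_helper9
import Groth.Agent.Lib.WeaklyEtaleStalk_lead
import Groth.Agent.Lib.IndEtaleNormal2_helper3
import Groth.Agent.Lib.WENormal2_helper3

/-!
# Weakly étale over normal is normal (helper3)

* `isField_tensor_of_weaklyEtale`, `isDomain_and_isIntegrallyClosed_of_weaklyEtale`: a local ring
  weakly étale over a normal domain is a normal domain, with fraction field `K ⊗[A] B`.
* `main7180`: the source of a weakly étale morphism with normal target is normal.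
-/

set_option autoImplicit false
set_option linter.all false
set_option maxHeartbeats 1600000
universe u

open TensorProduct

namespace Groth.Agent.Lib.WENormalH3

section Local

variable (A K B : Type u) [CommRing A] [IsDomain A] [IsIntegrallyClosed A] [Field K] [Algebra A K]
  [IsFractionRing A K] [CommRing B] [IsLocalRing B] [Algebra A B] [Algebra.WeaklyEtale A B]

/-- `B` local weakly étale over a normal domain `A`: every idempotent of `K ⊗[A] B` is trivial. -/
theorem idempotent_trivial (e : K ⊗[A] B) (he : IsIdempotentElem e) : e = 0 ∨ e = 1 := by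
  haveI : Module.Flat A B := Algebra.WeaklyEtale.flat
  let ι : B →ₐ[A] K ⊗[A] B := Algebra.TensorProduct.includeRight
  have hι : Function.Injective ι :=
    Algebra.TensorProduct.includeRight_injective (IsFractionRing.injective A K)
  letI : Algebra B (K ⊗[A] B) := ι.toRingHom.toAlgebra
  have hint : IsIntegral B e := Groth.Agent.Lib.IndEtaleH3.isIntegral_of_isIdempotentElem he
  obtain ⟨b, hb⟩ := exists_of_isIntegralElem A K B e hint
  have hb' : ι b = e := hb
  have hbi : IsIdempotentElem b := hι (by rw [map_mul, hb']; exact he.eq)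
  rcases Groth.Agent.Lib.IndEtaleH3.eq_zero_or_eq_one_of_isIdempotentElem hbi with rfl | rfl
  · left; rw [← hb', map_zero]
  · right; rw [← hb', map_one]

theorem isField_tensor_of_weaklyEtale : IsField (K ⊗[A] B) := by
  haveI : Module.Flat A B := Algebra.WeaklyEtale.flat
  let ι : B →ₐ[A] K ⊗[A] B := Algebra.TensorProduct.includeRight
  have hι : Function.Injective ι :=
    Algebra.TensorProduct.includeRight_injective (IsFractionRing.injective A K)
  haveI : Nontrivial (K ⊗[A] B) := hι.nontrivial
  have hV := Groth.Agent.WEField9.isVNR_of_weaklyEtale K (K ⊗[A] B)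
  refine Groth.Agent.Lib.IndEtaleH3.isField_of_forall_exists_of_idempotent (fun x => ?_)
    (idempotent_trivial A K B)
  obtain ⟨y, hy⟩ := hV x
  exact ⟨y, hy.symm⟩

include A K in
/-- A local ring weakly étale over a normal domain is a normal domain. -/
theorem isDomain_and_isIntegrallyClosed_of_weaklyEtale :
    ∃ _ : IsDomain B, IsIntegrallyClosed B := by
  haveI : Module.Flat A B := Algebra.WeaklyEtale.flat
  let ι : B →ₐ[A] K ⊗[A] B := Algebra.TensorProduct.includeRight
  have hι : Function.Injective ι :=
    Algebra.TensorProduct.includeRight_injective (IsFractionRing.injective A K)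
  have hfield := isField_tensor_of_weaklyEtale A K B
  letI := hfield.toField
  haveI hdom : IsDomain B := hι.isDomain ι.toRingHom
  letI algBL : Algebra B (K ⊗[A] B) := ι.toRingHom.toAlgebra
  have halg : ∀ b : B, algebraMap B (K ⊗[A] B) b = (1 : K) ⊗ₜ[A] b := fun _ => rfl
  haveI : IsFractionRing B (K ⊗[A] B) := by
    refine ⟨?_, fun z => ?_, fun {x y} h => ⟨1, by rw [hι h]⟩⟩
    · rintro ⟨b, hb⟩
      have hb0 : b ≠ 0 := nonZeroDivisors.ne_zero hb
      exact (IsUnit.mk0 _ ((map_ne_zero_iff _ hι).mpr hb0))
    · obtain ⟨c, hc, b, rfl⟩ := exists_inv_tmul' A K B z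
      have hcK : algebraMap A K c ≠ 0 :=
        (map_ne_zero_iff _ (IsFractionRing.injective A K)).mpr hc
      have hcB : algebraMap A B c ≠ 0 := by
        intro h0
        have h1 : (algebraMap A K c) ⊗ₜ[A] (1 : B) = 0 := by
          have : (algebraMap A K c) ⊗ₜ[A] (1 : B) = (1 : K) ⊗ₜ[A] (algebraMap A B c) := by
            rw [Algebra.algebraMap_eq_smul_one, Algebra.algebraMap_eq_smul_one,
              TensorProduct.smul_tmul]
          rw [this, h0, TensorProduct.tmul_zero]
        have h2 : ((algebraMap A K c)⁻¹ ⊗ₜ[A] (1 : B)) * ((algebraMap A K c) ⊗ₜ[A] (1 : B)) = 1 := by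
          rw [Algebra.TensorProduct.tmul_mul_tmul, inv_mul_cancel₀ hcK, mul_one]
          rfl
        rw [h1, mul_zero] at h2
        exact zero_ne_one h2
      refine ⟨⟨b, ⟨algebraMap A B c, mem_nonZeroDivisors_of_ne_zero hcB⟩⟩, ?_⟩
      show (algebraMap A K c)⁻¹ ⊗ₜ[A] b * algebraMap B (K ⊗[A] B) (algebraMap A B c) =
        algebraMap B (K ⊗[A] B) b
      rw [halg, halg, Algebra.TensorProduct.tmul_mul_tmul, mul_one,
        Algebra.algebraMap_eq_smul_one (R := A) (A := B) c, mul_smul_comm, mul_one,
        ← TensorProduct.smul_tmul, Algebra.smul_def, mul_inv_cancel₀ hcK]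
  refine ⟨hdom, (isIntegrallyClosed_iff (K ⊗[A] B)).mpr fun {x} hx => ?_⟩
  exact exists_of_isIntegralElem A K B x hx

end Local

section Scheme

open AlgebraicGeometry CategoryTheory

/-- **S7180.** -/
theorem main7180 {X Y : Scheme.{u}} (f : X ⟶ Y) [WeaklyEtale f] (hY : Pi1.IsNormalScheme Y) :
    Pi1.IsNormalScheme X := by
  intro x
  obtain ⟨hdom, hic⟩ := hY (f x)
  have h := (Groth.Agent.Lib.WeaklyEtaleStalk.main f).mp inferInstance x
  letI := (f.stalkMap x).hom.toAlgebra
  haveI : Algebra.WeaklyEtale (Y.presheaf.stalk (f x)) (X.presheaf.stalk x) := ⟨h.1, h.2⟩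
  obtain ⟨h1, h2⟩ := isDomain_and_isIntegrallyClosed_of_weaklyEtale (Y.presheaf.stalk (f x))
    (FractionRing (Y.presheaf.stalk (f x))) (X.presheaf.stalk x)
  exact ⟨h1, h2⟩

end Scheme

end Groth.Agent.Lib.WENormalH3
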