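import Mathlib
import Groth.Agent.Lib.WEField1_helper9
import Groth.Agent.Lib.FlatMul_lead
import Groth.Agent.Lib.HensIntDom_lead
import Groth.Agent.Lib.WENormal3_helper3

/-!
# Olivier's theorem (helper3)

A local homomorphism `A → B` of local rings with `A` strictly henselian and `B` weakly étale over
`A` is an isomorphism.
-/

set_option autoImplicit false
set_option linter.all false
set_option maxHeartbeats 1600000
universe u

open TensorProduct Polynomial

namespace Groth.Agent.Lib.WENormalH3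

section SepClosedField

/-- In a local algebra over a separably closed field, a root of a separable polynomial is a
scalar. -/
theorem exists_algebraMap_eq_of_separable (k F : Type u) [Field k] [IsSepClosed k] [CommRing F]
    [IsLocalRing F] [Algebra k F] :
    ∀ (n : ℕ) (g : k[X]), g.natDegree = n → g.Separable → ∀ x : F, aeval x g = 0 →
      ∃ c : k, algebraMap k F c = x := by
  intro n
  induction n with
  | zero =>
    intro g hg hsep x hx
    exfalso
    rw [Polynomial.eq_C_of_natDegree_eq_zero hg, aeval_C] at hx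
    have h0 : g.coeff 0 = 0 := (algebraMap k F).injective (by rw [hx, map_zero])
    have : g = 0 := by rw [Polynomial.eq_C_of_natDegree_eq_zero hg, h0, C_0]
    exact hsep.ne_zero this
  | succ n ih =>
    intro g hg hsep x hx
    have hdeg : g.degree ≠ 0 := by
      intro h0
      have h1 : g.natDegree = 0 :=
        Polynomial.natDegree_eq_zero_iff_degree_le_zero.mpr (le_of_eq h0)
      omega
    obtain ⟨c, hc⟩ := IsSepClosed.exists_root g hdeg hsep
    obtain ⟨q, hq⟩ := Polynomial.dvd_iff_isRoot.mpr hc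
    have hg0 : g ≠ 0 := hsep.ne_zero
    have hq0 : q ≠ 0 := by rintro rfl; rw [mul_zero] at hq; exact hg0 hq
    have hqdeg : q.natDegree = n := by
      have := congrArg Polynomial.natDegree hq
      rw [Polynomial.natDegree_mul (Polynomial.X_sub_C_ne_zero c) hq0,
        Polynomial.natDegree_X_sub_C, hg] at this
      omega
    have hqsep : q.Separable := by rw [hq] at hsep; exact hsep.of_mul_right
    have hcop : IsCoprime (X - C c) q := by rw [hq] at hsep; exact hsep.isCoprime
    obtain ⟨u, v, huv⟩ := hcop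
    have h1 : aeval x u * (x - algebraMap k F c) + aeval x v * aeval x q = 1 := by
      have := congrArg (aeval x) huv
      simpa using this
    have h2 : (x - algebraMap k F c) * aeval x q = 0 := by
      have := hx
      rw [hq, map_mul] at this
      simpa using this
    rcases IsLocalRing.isUnit_or_isUnit_of_add_one h1 with h | h
    · have hu : IsUnit (x - algebraMap k F c) := isUnit_of_mul_isUnit_right h
      have : aeval x q = 0 := (hu.mul_right_eq_zero).mp h2
      exact ih q hqdeg hqsep x this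
    · have hu : IsUnit (aeval x q) := isUnit_of_mul_isUnit_right h
      have : x - algebraMap k F c = 0 := (hu.mul_left_eq_zero).mp h2
      exact ⟨c, (sub_eq_zero.mp this).symm⟩

/-- A local weakly étale algebra over a separably closed field is trivial. -/
theorem algebraMap_surjective_of_isSepClosed (k F : Type u) [Field k] [IsSepClosed k] [CommRing F]
    [IsLocalRing F] [Algebra k F] [Algebra.WeaklyEtale k F] :
    Function.Surjective (algebraMap k F) := by
  intro x
  obtain ⟨g, hg, h0⟩ := Groth.Agent.WEField9.isSepRoot_of_weaklyEtale k F x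
  exact exists_algebraMap_eq_of_separable k F _ g rfl hg x h0

end SepClosedField

section ResidueStep

variable (A B : Type u) [CommRing A] [CommRing B] [IsLocalRing A] [IsLocalRing B]
  [IsSepClosed (IsLocalRing.ResidueField A)] [Algebra A B] [IsLocalHom (algebraMap A B)]
  [Algebra.WeaklyEtale A B]

/-- **(O-a)** Every element of `B` is congruent to an element of `A` modulo `𝔪_A B`. -/
theorem exists_sub_mem_map_maximalIdeal (b : B) :
    ∃ a : A, b - algebraMap A B a ∈
      Ideal.map (algebraMap A B) (IsLocalRing.maximalIdeal A) := by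
  have hmB : (IsLocalRing.maximalIdeal A) • (⊤ : Submodule A B) =
      (Ideal.map (algebraMap A B) (IsLocalRing.maximalIdeal A)).restrictScalars A :=
    Ideal.smul_top_eq_map _
  have hle : Ideal.map (algebraMap A B) (IsLocalRing.maximalIdeal A) ≤
      IsLocalRing.maximalIdeal B := IsLocalRing.map_maximalIdeal_le (algebraMap A B)
  haveI : Nontrivial (B ⧸ ((IsLocalRing.maximalIdeal A) • (⊤ : Submodule A B))) := by
    rw [Submodule.Quotient.nontrivial_iff]
    intro h
    have h1 : (1 : B) ∈ (IsLocalRing.maximalIdeal A) • (⊤ : Submodule A B) := by rw [h]; trivial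
    rw [hmB] at h1
    exact (IsLocalRing.maximalIdeal.isMaximal B).ne_top
      ((Ideal.eq_top_iff_one _).mpr (hle h1))
  let e : (IsLocalRing.ResidueField A) ⊗[A] B ≃ₗ[A]
      B ⧸ ((IsLocalRing.maximalIdeal A) • (⊤ : Submodule A B)) :=
    TensorProduct.quotTensorEquivQuotSMul B (IsLocalRing.maximalIdeal A)
  have e1 : ∀ (a : A) (x : B), e ((IsLocalRing.residue A a) ⊗ₜ[A] x) =
      Submodule.Quotient.mk (a • x) := fun a x =>
    TensorProduct.quotTensorEquivQuotSMul_mk_tmul _ a x
  have e2 : ∀ (x : B), e ((1 : IsLocalRing.ResidueField A) ⊗ₜ[A] x) =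
      Submodule.Quotient.mk x := fun x =>
    TensorProduct.quotTensorEquivQuotSMul_mk_one_tmul _ x
  haveI : Nontrivial ((IsLocalRing.ResidueField A) ⊗[A] B) := e.toEquiv.nontrivial
  have hsurj : Function.Surjective
      (Algebra.TensorProduct.includeRight :
        B →ₐ[A] (IsLocalRing.ResidueField A) ⊗[A] B).toRingHom :=
    Algebra.TensorProduct.includeRight_surjective _ IsLocalRing.residue_surjective
  haveI : IsLocalRing ((IsLocalRing.ResidueField A) ⊗[A] B) :=
    IsLocalRing.of_surjective' _ hsurj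
  obtain ⟨c, hc⟩ := algebraMap_surjective_of_isSepClosed (IsLocalRing.ResidueField A)
    ((IsLocalRing.ResidueField A) ⊗[A] B) ((1 : IsLocalRing.ResidueField A) ⊗ₜ[A] b)
  obtain ⟨a, rfl⟩ := IsLocalRing.residue_surjective c
  refine ⟨a, ?_⟩
  rw [Algebra.TensorProduct.algebraMap_apply, Algebra.algebraMap_self, RingHom.id_apply] at hc
  have h2 := congrArg e hc
  rw [e1, e2] at h2
  have h3 := (Submodule.Quotient.eq _).mp h2
  rw [hmB] at h3
  have h4 : b - algebraMap A B a = -(a • (1 : B) - b) := by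
    rw [Algebra.algebraMap_eq_smul_one]; ring
  rw [h4]
  exact (Ideal.map (algebraMap A B) (IsLocalRing.maximalIdeal A)).neg_mem h3

end ResidueStep

section Locality

variable (A B : Type u) [CommRing A] [CommRing B] [IsLocalRing A] [IsLocalRing B]
  [IsSepClosed (IsLocalRing.ResidueField A)] [Algebra A B] [IsLocalHom (algebraMap A B)]
  [Algebra.WeaklyEtale A B]
  (A' : Type u) [CommRing A'] [IsLocalRing A'] [Algebra A A'] [Algebra.IsIntegral A A']

theorem exists_sub_tmul_mem (z : B ⊗[A] A') :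
    ∃ a' : A', z - (1 : B) ⊗ₜ[A] a' ∈
      Ideal.map (algebraMap A (B ⊗[A] A')) (IsLocalRing.maximalIdeal A) := by
  induction z using TensorProduct.induction_on with
  | zero => exact ⟨0, by rw [TensorProduct.tmul_zero, sub_zero]; exact Ideal.zero_mem _⟩
  | tmul b a' =>
    obtain ⟨a, ha⟩ := exists_sub_mem_map_maximalIdeal A B b
    refine ⟨a • a', ?_⟩
    have h1 : b ⊗ₜ[A] a' - (1 : B) ⊗ₜ[A] (a • a') =
        algebraMap B (B ⊗[A] A') (b - algebraMap A B a) * ((1 : B) ⊗ₜ[A] a') := by
      rw [Algebra.TensorProduct.algebraMap_apply, Algebra.algebraMap_self, RingHom.id_apply,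
        Algebra.TensorProduct.tmul_mul_tmul, mul_one, one_mul, TensorProduct.sub_tmul,
        ← TensorProduct.smul_tmul, Algebra.algebraMap_eq_smul_one]
    rw [h1]
    apply Ideal.mul_mem_right
    have h2 : Ideal.map (algebraMap A (B ⊗[A] A')) (IsLocalRing.maximalIdeal A) =
        Ideal.map (algebraMap B (B ⊗[A] A'))
          (Ideal.map (algebraMap A B) (IsLocalRing.maximalIdeal A)) := by
      rw [Ideal.map_map, ← IsScalarTower.algebraMap_eq]
    rw [h2]
    exact Ideal.mem_map_of_mem _ ha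
  | add x y hx hy =>
    obtain ⟨a1, h1⟩ := hx
    obtain ⟨a2, h2⟩ := hy
    refine ⟨a1 + a2, ?_⟩
    have : x + y - (1 : B) ⊗ₜ[A] (a1 + a2) =
        (x - (1 : B) ⊗ₜ[A] a1) + (y - (1 : B) ⊗ₜ[A] a2) := by
      rw [TensorProduct.tmul_add]; ring
    rw [this]
    exact Ideal.add_mem _ h1 h2

theorem map_maximalIdeal_le_of_isMaximal (n : Ideal (B ⊗[A] A')) [n.IsMaximal] :
    Ideal.map (algebraMap A (B ⊗[A] A')) (IsLocalRing.maximalIdeal A) ≤ n := by
  haveI : (n.comap (algebraMap B (B ⊗[A] A'))).IsMaximal :=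
    Ideal.isMaximal_comap_of_isIntegral_of_isMaximal n
  have h1 : n.comap (algebraMap B (B ⊗[A] A')) = IsLocalRing.maximalIdeal B :=
    IsLocalRing.eq_maximalIdeal inferInstance
  rw [Ideal.map_le_iff_le_comap]
  intro a ha
  rw [Ideal.mem_comap, IsScalarTower.algebraMap_apply A B (B ⊗[A] A'), ← Ideal.mem_comap, h1]
  exact IsLocalRing.map_maximalIdeal_le (algebraMap A B) (Ideal.mem_map_of_mem _ ha)

theorem isUnit_of_eq_tmul_add (z w : B ⊗[A] A') (a' : A') (hz : z = (1 : B) ⊗ₜ[A] a' + w)
    (hw : w ∈ Ideal.map (algebraMap A (B ⊗[A] A')) (IsLocalRing.maximalIdeal A))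
    (ha' : IsUnit a') : IsUnit z := by
  by_contra hnu
  obtain ⟨n, hn, hzn⟩ := exists_max_ideal_of_mem_nonunits (show z ∈ nonunits _ from hnu)
  haveI := hn
  have hwn : w ∈ n := map_maximalIdeal_le_of_isMaximal A B A' n hw
  have h1 : (1 : B) ⊗ₜ[A] a' ∈ n := by
    have : (1 : B) ⊗ₜ[A] a' = z - w := by rw [hz]; ring
    rw [this]; exact n.sub_mem hzn hwn
  have h2 : IsUnit ((1 : B) ⊗ₜ[A] a') :=
    ha'.map (Algebra.TensorProduct.includeRight : A' →ₐ[A] B ⊗[A] A')
  exact hn.ne_top (Ideal.eq_top_of_isUnit_mem _ h1 h2)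

/-- For `A'` local and integral over `A`, the ring `B ⊗[A] A'` is local. -/
theorem isLocalRing_tensor_left : IsLocalRing (B ⊗[A] A') := by
  haveI : Module.FaithfullyFlat A B := Module.FaithfullyFlat.of_flat_of_isLocalHom
  haveI : Nontrivial (B ⊗[A] A') :=
    (Module.FaithfullyFlat.nontrivial_tensorProduct_iff_right A B).mpr inferInstance
  apply IsLocalRing.of_isUnit_or_isUnit_one_sub_self
  intro z
  obtain ⟨a', ha'⟩ := exists_sub_tmul_mem A B A' z
  rcases IsLocalRing.isUnit_or_isUnit_one_sub_self a' with h | h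
  · left
    exact isUnit_of_eq_tmul_add A B A' z _ a' (by ring) ha' h
  · right
    refine isUnit_of_eq_tmul_add A B A' (1 - z) (-(z - (1 : B) ⊗ₜ[A] a')) (1 - a') ?_
      (neg_mem ha') h
    rw [TensorProduct.tmul_sub, ← Algebra.TensorProduct.one_def]; ring

/-- For `A'` local and integral over `A`, the ring `A' ⊗[A] B` is local. -/
theorem isLocalRing_tensor_right : IsLocalRing (A' ⊗[A] B) := by
  haveI := isLocalRing_tensor_left A B A'
  exact (Algebra.TensorProduct.comm A B A').toRingEquiv.isLocalRing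

end Locality

section FieldStep

variable (A B : Type u) [CommRing A] [CommRing B] [IsLocalRing A] [IsLocalRing B]
  [IsSepClosed (IsLocalRing.ResidueField A)] [Algebra A B] [IsLocalHom (algebraMap A B)]
  [Algebra.WeaklyEtale A B]
  (A' L : Type u) [CommRing A'] [IsLocalRing A'] [IsDomain A'] [IsIntegrallyClosed A']
  [Algebra A A'] [Algebra.IsIntegral A A']
  [Field L] [IsAlgClosed L] [Algebra A' L] [IsFractionRing A' L] [Algebra A L]
  [IsScalarTower A A' L]

include A' in
/-- **(O-b)** With `L` algebraically closed, the fraction field of a normal local domain `A'`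
integral over `A`: every `1 ⊗ b` in `L ⊗[A] B` is a scalar. -/
theorem exists_tmul_one_eq (b : B) : ∃ l : L, l ⊗ₜ[A] (1 : B) = (1 : L) ⊗ₜ[A] b := by
  haveI : IsLocalRing (A' ⊗[A] B) := isLocalRing_tensor_right A B A'
  have hF : IsField (L ⊗[A'] (A' ⊗[A] B)) := isField_tensor_of_weaklyEtale A' L (A' ⊗[A] B)
  let eqv : L ⊗[A'] (A' ⊗[A] B) ≃ₐ[L] L ⊗[A] B :=
    Algebra.TensorProduct.cancelBaseChange A A' L L B
  have hD : IsField (L ⊗[A] B) := eqv.symm.toMulEquiv.isField hF
  haveI : IsDomain (L ⊗[A] B) := hD.isDomain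
  haveI : Algebra.IsIntegral L (L ⊗[A] B) := by
    refine ⟨fun x => ?_⟩
    obtain ⟨g, hg, h0⟩ := Groth.Agent.WEField9.isSepRoot_of_weaklyEtale L (L ⊗[A] B) x
    exact IsAlgebraic.isIntegral ⟨g, hg.ne_zero, h0⟩
  obtain ⟨l, hl⟩ := (IsAlgClosed.algebraMap_bijective_of_isIntegral (k := L)
    (K := L ⊗[A] B)).2 ((1 : L) ⊗ₜ[A] b)
  refine ⟨l, ?_⟩
  rw [← hl, Algebra.TensorProduct.algebraMap_apply, Algebra.algebraMap_self, RingHom.id_apply]

end FieldStep

section Uniqueness

variable (A B : Type u) [CommRing A] [CommRing B] [HenselianLocalRing A] [IsLocalRing B]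
  [IsSepClosed (IsLocalRing.ResidueField A)] [Algebra A B] [IsLocalHom (algebraMap A B)]
  [Algebra.WeaklyEtale A B]

section

variable (A₀ K L : Type u) [CommRing A₀] [IsDomain A₀] [Algebra A A₀]
  [Field K] [Algebra A₀ K] [IsFractionRing A₀ K] [Field L] [Algebra K L] [IsAlgClosed L]
  [Algebra.IsAlgebraic K L] [Algebra A₀ L] [IsScalarTower A₀ K L] [Algebra A L]
  [IsScalarTower A A₀ L]

include A₀ K in
theorem exists_tmul_one_eq' (hsurj : Function.Surjective (algebraMap A A₀)) (b : B) :
    ∃ l : L, l ⊗ₜ[A] (1 : B) = (1 : L) ⊗ₜ[A] b := by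
  haveI : Algebra.IsIntegral A A₀ := Algebra.isIntegral_of_surjective hsurj
  haveI : Algebra.IsIntegral A (integralClosure A₀ L) :=
    Algebra.IsIntegral.trans A₀
  haveI : IsLocalRing (integralClosure A₀ L) :=
    Groth.Agent.Lib.HensIntDom.isLocalRing_of_integral_domain A (integralClosure A₀ L)
  haveI : Algebra.IsAlgebraic A₀ L := (IsFractionRing.comap_isAlgebraic_iff (A := A₀) (K := K)
    (C := L)).mpr inferInstance
  have hinj : Function.Injective (algebraMap A₀ L) := by
    rw [IsScalarTower.algebraMap_eq A₀ K L]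
    exact (algebraMap K L).injective.comp (IsFractionRing.injective A₀ K)
  haveI : IsFractionRing (integralClosure A₀ L) L :=
    integralClosure.isFractionRing_of_algebraic (A := A₀) (L := L)
      (fun x hx => hinj (by rw [hx, map_zero]))
  haveI : IsIntegrallyClosed (integralClosure A₀ L) :=
    (isIntegrallyClosed_iff_isIntegrallyClosedIn L).mpr inferInstance
  exact exists_tmul_one_eq A B (integralClosure A₀ L) L b

end

/-- Two `A`-algebra maps from `B` to an algebraically closed field agree. -/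
theorem algHom_eq_of_isAlgClosed (Ω : Type u) [Field Ω] [IsAlgClosed Ω] [Algebra A Ω]
    (j₁ j₂ : B →ₐ[A] Ω) : j₁ = j₂ := by
  obtain ⟨p, hp⟩ : ∃ p : Ideal A, p = RingHom.ker (algebraMap A Ω) := ⟨_, rfl⟩
  haveI : p.IsPrime := by rw [hp]; exact RingHom.ker_isPrime _
  -- the embedding `A ⧸ p → Ω`
  let φ₀ : A ⧸ p →+* Ω := Ideal.Quotient.lift p (algebraMap A Ω) (fun a ha => by
    rw [hp] at ha; exact ha)
  have hφ₀ : Function.Injective φ₀ := by
    rw [injective_iff_map_eq_zero]
    intro x hx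
    obtain ⟨a, rfl⟩ := Ideal.Quotient.mk_surjective x
    rw [Ideal.Quotient.lift_mk] at hx
    rw [Ideal.Quotient.eq_zero_iff_mem, hp]
    exact hx
  letI algK : Algebra (FractionRing (A ⧸ p)) Ω := (IsFractionRing.lift hφ₀).toAlgebra
  have hK : ∀ x : A ⧸ p, algebraMap (FractionRing (A ⧸ p)) Ω (algebraMap _ _ x) = φ₀ x :=
    fun x => IsFractionRing.lift_algebraMap hφ₀ x
  let σ₀ : AlgebraicClosure (FractionRing (A ⧸ p)) →ₐ[FractionRing (A ⧸ p)] Ω :=
    IsAlgClosed.lift
  have hσ : ∀ a : A, σ₀ (algebraMap A (AlgebraicClosure (FractionRing (A ⧸ p))) a) =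
      algebraMap A Ω a := by
    intro a
    rw [IsScalarTower.algebraMap_apply A (FractionRing (A ⧸ p))
      (AlgebraicClosure (FractionRing (A ⧸ p))), σ₀.commutes,
      IsScalarTower.algebraMap_apply A (A ⧸ p) (FractionRing (A ⧸ p)), hK]
    rfl
  let σ : AlgebraicClosure (FractionRing (A ⧸ p)) →ₐ[A] Ω :=
    { σ₀.toRingHom with commutes' := hσ }
  have hσ' : ∀ l, σ l = σ₀ l := fun _ => rfl
  ext b
  obtain ⟨l, hl⟩ := exists_tmul_one_eq' A B (A ⧸ p) (FractionRing (A ⧸ p))
    (AlgebraicClosure (FractionRing (A ⧸ p))) Ideal.Quotient.mk_surjective b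
  have key : ∀ j : B →ₐ[A] Ω, j b = σ l := by
    intro j
    have := congrArg (Algebra.TensorProduct.productMap σ j) hl
    rw [Algebra.TensorProduct.productMap_apply_tmul, Algebra.TensorProduct.productMap_apply_tmul,
      map_one, map_one, mul_one, one_mul] at this
    exact this.symm
  rw [key j₁, key j₂]

end Uniqueness

section Main

variable (A B : Type u) [CommRing A] [CommRing B] [HenselianLocalRing A] [IsLocalRing B]
  [IsSepClosed (IsLocalRing.ResidueField A)] [Algebra A B] [IsLocalHom (algebraMap A B)]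
  [Algebra.WeaklyEtale A B]

/-- `b ⊗ 1 - 1 ⊗ b` lies in every prime of `B ⊗[A] B`. -/
theorem tmul_sub_tmul_mem_prime (b : B) (Q : Ideal (B ⊗[A] B)) [Q.IsPrime] :
    b ⊗ₜ[A] (1 : B) - (1 : B) ⊗ₜ[A] b ∈ Q := by
  let Ω := AlgebraicClosure (FractionRing ((B ⊗[A] B) ⧸ Q))
  let ψ : (B ⊗[A] B) →ₐ[A] Ω := IsScalarTower.toAlgHom A (B ⊗[A] B) Ω
  have hψ : ∀ x, ψ x = 0 → x ∈ Q := by
    intro x hx
    have h1 : ψ x = algebraMap (FractionRing ((B ⊗[A] B) ⧸ Q)) Ω
        (algebraMap ((B ⊗[A] B) ⧸ Q) (FractionRing ((B ⊗[A] B) ⧸ Q))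
          (Ideal.Quotient.mk Q x)) := by
      show algebraMap (B ⊗[A] B) Ω x = _
      rw [IsScalarTower.algebraMap_apply (B ⊗[A] B) ((B ⊗[A] B) ⧸ Q) Ω,
        IsScalarTower.algebraMap_apply ((B ⊗[A] B) ⧸ Q) (FractionRing ((B ⊗[A] B) ⧸ Q)) Ω]
      rfl
    rw [h1] at hx
    have h2 := (algebraMap (FractionRing ((B ⊗[A] B) ⧸ Q)) Ω).injective
      (hx.trans (map_zero _).symm)
    have h3 := IsFractionRing.injective ((B ⊗[A] B) ⧸ Q) (FractionRing ((B ⊗[A] B) ⧸ Q))
      (h2.trans (map_zero _).symm)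
    exact Ideal.Quotient.eq_zero_iff_mem.mp h3
  apply hψ
  have := algHom_eq_of_isAlgClosed A B Ω
    (ψ.comp (Algebra.TensorProduct.includeLeft : B →ₐ[A] B ⊗[A] B))
    (ψ.comp (Algebra.TensorProduct.includeRight : B →ₐ[A] B ⊗[A] B))
  have h := DFunLike.congr_fun this b
  rw [map_sub, sub_eq_zero]
  exact h

theorem tmul_eq_tmul (b : B) : b ⊗ₜ[A] (1 : B) = (1 : B) ⊗ₜ[A] b := by
  have hnil : ∀ s : B, IsNilpotent (s ⊗ₜ[A] (1 : B) - (1 : B) ⊗ₜ[A] s) := fun s =>
    nilpotent_iff_mem_prime.mpr (fun Q hQ => by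
      haveI := hQ; exact tmul_sub_tmul_mem_prime A B s Q)
  have hker : KaehlerDifferential.ideal A B ≤ nilradical (B ⊗[A] B) := by
    rw [← KaehlerDifferential.span_range_eq_ideal, Ideal.span_le]
    rintro _ ⟨s, rfl⟩
    show (1 : B) ⊗ₜ[A] s - s ⊗ₜ[A] (1 : B) ∈ nilradical (B ⊗[A] B)
    rw [mem_nilradical, ← neg_sub]
    exact (hnil s).neg
  obtain ⟨e, he1, he2⟩ := Groth.Agent.Lib.FlatMul.exists_e A B
    (Algebra.WeaklyEtale.flat_lmul' A B) (fun _ : Fin 1 => b)
  have h1 : (1 - e) ∈ KaehlerDifferential.ideal A B := by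
    rw [RingHom.mem_ker, map_sub, map_one]
    exact sub_eq_zero.mpr he1.symm
  have h2 : IsNilpotent (1 - e) := mem_nilradical.mp (hker h1)
  have hu : IsUnit e := by
    have := h2.isUnit_one_sub
    rwa [sub_sub_cancel] at this
  have h3 := he2 0
  exact hu.mul_left_injective h3

/-- **Olivier's theorem.** -/
theorem main0427 : Function.Bijective (algebraMap A B) := by
  haveI : Module.FaithfullyFlat A B := Module.FaithfullyFlat.of_flat_of_isLocalHom
  refine ⟨FaithfulSMul.algebraMap_injective A B, fun b => ?_⟩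
  have heff := Algebra.IsEffective.of_faithfullyFlat A B
  have h : Algebra.TensorProduct.includeLeftSubRight A B b = 0 := by
    rw [Algebra.TensorProduct.includeLeftSubRight_apply, sub_eq_zero]
    exact tmul_eq_tmul A B b
  obtain ⟨a, ha⟩ := (heff b).1 h
  exact ⟨a, ha⟩

end Main

end Groth.Agent.Lib.WENormalH3
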