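import Mathlib.RingTheory.Etale.Weakly
import Mathlib.RingTheory.Flat.Stability
import Mathlib.RingTheory.TensorProduct.Maps
import Mathlib.LinearAlgebra.TensorProduct.Associator

/-!
# Helpers on flatness along surjections and weakly étale algebras

* `flat_of_surjective`: if `R → S` is surjective and `M` is an `S`-module flat over `R`, then `M` is
  flat over `S`.
* `ringHom_flat_of_comp_surjective`: for `f : R →+* S` surjective and `g ∘ f` flat, `g` is flat.
* `weaklyEtale_of_tower`: for `A → B → C` with `B`, `C` weakly étale over `A`, `C` is weakly étale over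
  `B`.
-/

set_option autoImplicit false
universe u

namespace Groth.Agent.Lib.WeaklyEtale_helper5

open TensorProduct

theorem flat_of_surjective (R S M : Type*) [CommRing R] [CommRing S] [Algebra R S]
    [AddCommGroup M] [Module R M] [Module S M] [IsScalarTower R S M]
    (h : Function.Surjective (algebraMap R S)) [Module.Flat R M] : Module.Flat S M := by
  have h1 : TensorProduct.CompatibleSMul R S S M := .of_algebraMap_surjective _ _ h
  have h2 : TensorProduct.CompatibleSMul S R S M := ⟨fun r m n => by
    rw [← algebraMap_smul S r m, ← algebraMap_smul S r n, smul_tmul]⟩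
  exact Module.Flat.of_linearEquiv (TensorProduct.lidOfCompatibleSMul R S M).symm

theorem ringHom_flat_of_comp_surjective {R S T : Type*} [CommRing R] [CommRing S] [CommRing T]
    (f : R →+* S) (g : S →+* T) (hf : Function.Surjective f) (h : (g.comp f).Flat) : g.Flat := by
  algebraize [f, g, g.comp f]
  exact flat_of_surjective R S T hf

theorem weaklyEtale_of_tower (A B C : Type u) [CommRing A] [CommRing B] [CommRing C]
    [Algebra A B] [Algebra A C] [Algebra B C] [IsScalarTower A B C] [Algebra.WeaklyEtale A B]
    [Algebra.WeaklyEtale A C] : Algebra.WeaklyEtale B C := by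
  refine ⟨?_, ?_⟩
  · -- `B → B ⊗[A] C → B ⊗[B] C ≃ C`
    have h1 : (Algebra.TensorProduct.mapOfCompatibleSMul B A B B C).Flat :=
      RingHom.Flat.mapOfCompatibleSMul B C (Algebra.WeaklyEtale.flat_lmul' A B)
    have h2 : (algebraMap B (B ⊗[A] C)).Flat := RingHom.flat_algebraMap_iff.mpr inferInstance
    have h3 : ((Algebra.TensorProduct.lid B C : B ⊗[B] C ≃ₐ[B] C) : B ⊗[B] C →+* C).Flat :=
      .of_bijective (Algebra.TensorProduct.lid B C).bijective
    have h4 := (h2.comp h1).comp h3
    rw [← RingHom.flat_algebraMap_iff]
    convert h4 using 1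
    ext b
    simp [Algebra.algebraMap_eq_smul_one]
  · -- `C ⊗[A] C ↠ C ⊗[B] C → C`
    apply ringHom_flat_of_comp_surjective
      (Algebra.TensorProduct.mapOfCompatibleSMul B A C C C : C ⊗[A] C →+* C ⊗[B] C) _
      (Algebra.TensorProduct.mapOfCompatibleSMul_surjective B A C C C)
    convert Algebra.WeaklyEtale.flat_lmul' A C using 1
    ext x <;> simp

end Groth.Agent.Lib.WeaklyEtale_helper5
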