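import Mathlib
import Groth.Prelude.Def_Hensel
import Groth.Agent.Lib.WENormal4_helper3
import Groth.Agent.Lib.StrictHens9_lead
import Groth.Agent.Lib.IndEtale4_helper3
import Groth.Agent.Lib.WeaklyEtale_helper5
import Groth.Agent.Lib.FlatTower_helper5
import Groth.Agent.Lib.WeaklyEtaleStalk_lead

/-!
# Weakly étale ⇔ strict henselizations coincide (helper3)
-/

set_option autoImplicit false
set_option linter.all false
set_option maxHeartbeats 1600000
universe u

open TensorProduct IsLocalRing

namespace Groth.Agent.Lib.WENormalH3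

section Residue

/-- The residue field extension of a local weakly étale homomorphism is separable algebraic. -/
theorem isSeparable_residueField_of_weaklyEtale (A R : Type u) [CommRing A] [CommRing R]
    [IsLocalRing A] [IsLocalRing R] [Algebra A R] [IsLocalHom (algebraMap A R)]
    [Algebra.WeaklyEtale A R] : Algebra.IsSeparable (ResidueField A) (ResidueField R) := by
  refine ⟨fun x => ?_⟩
  obtain ⟨r, rfl⟩ := residue_surjective x
  let g : (ResidueField A) ⊗[A] R →ₐ[ResidueField A] ResidueField R :=
    Algebra.TensorProduct.lift (Algebra.ofId (ResidueField A) (ResidueField R))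
      (IsScalarTower.toAlgHom A R (ResidueField R)) (fun _ _ => Commute.all _ _)
  have hg : g ((1 : ResidueField A) ⊗ₜ[A] r) = residue R r := by
    show (Algebra.TensorProduct.lift _ _ _) _ = _
    rw [Algebra.TensorProduct.lift_tmul, map_one, one_mul]
    rfl
  have h1 := Groth.Agent.WEField9.isSepRoot_of_weaklyEtale (ResidueField A)
    ((ResidueField A) ⊗[A] R) ((1 : ResidueField A) ⊗ₜ[A] r)
  have h2 := h1.map g
  rw [hg] at h2
  exact (Groth.Agent.WEField9.isSepRoot_iff_isSeparable _).mp h2

end Residue

section Forward

open Groth.Agent.Lib.StrictHens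

variable (A B R : Type u) [CommRing A] [IsLocalRing A] [CommRing B] [IsLocalRing B]
  [Algebra A B] [IsLocalHom (algebraMap A B)] [Algebra.WeaklyEtale A B]
  [CommRing R] [IsLocalRing R] [Algebra B R] [IsLocalHom (algebraMap B R)]
  [hR : Hensel.IsStrictHenselization B R] [Algebra A R] [IsScalarTower A B R]
  [IsLocalHom (algebraMap A R)]

include B in
/-- If `A → B` is a weakly étale local homomorphism, a strict henselization of `B` is a strict
henselization of `A`. -/
theorem isStrictHenselization_of_weaklyEtale : Hensel.IsStrictHenselization A R := by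
  haveI hens : HenselianLocalRing R := hR.henselian
  haveI : Algebra.WeaklyEtale B R := Groth.Agent.Lib.IndEtaleH3.weaklyEtale_of_isIndEtale
    (isIndEtale_of_isStrictHenselization (R := B) R)
  haveI : Algebra.WeaklyEtale A R := Algebra.WeaklyEtale.trans A B R
  haveI hsepR : IsSepClosed (ResidueField R) := hR.isSepClosure.sep_closed
  haveI hsepAR : Algebra.IsSeparable (ResidueField A) (ResidueField R) :=
    isSeparable_residueField_of_weaklyEtale A R
  have hS : Hensel.IsStrictHenselization A (SHens A) := isStrictHenselization_shens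
  haveI : IsSepClosure (ResidueField A) (ResidueField (SHens A)) := hS.isSepClosure
  haveI : IsSepClosed (ResidueField (SHens A)) := hS.isSepClosure.sep_closed
  haveI : Algebra.IsSeparable (ResidueField A) (ResidueField (SHens A)) :=
    hS.isSepClosure.separable
  let τ₀ : ResidueField (SHens A) →ₐ[ResidueField A] ResidueField R := IsSepClosed.lift
  have hτ₀ : (τ₀ : ResidueField (SHens A) →+* ResidueField R).comp
      (ResidueField.map (algebraMap A (SHens A))) = ResidueField.map (algebraMap A R) := by
    ext x
    obtain ⟨a, rfl⟩ := residue_surjective x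
    exact τ₀.commutes (residue A a)
  obtain ⟨h, ⟨hh1, hh2⟩, -⟩ := hS.universal R (algebraMap A R) τ₀ hτ₀
  have hh1' : ∀ a, h (algebraMap A (SHens A) a) = algebraMap A R a :=
    fun a => DFunLike.congr_fun hh1 a
  haveI hloc : IsLocalHom h := by
    constructor
    intro s hs
    by_contra hns
    have h0 : residue (SHens A) s = 0 := (residue_eq_zero_iff s).mpr hns
    have h1 : residue R (h s) = 0 := by rw [hh2, h0, map_zero]
    exact ((residue_eq_zero_iff (h s)).mp h1) hs
  letI algSR : Algebra (SHens A) R := h.toAlgebra
  haveI : IsScalarTower A (SHens A) R := IsScalarTower.of_algebraMap_eq (fun a => (hh1' a).symm)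
  haveI : IsLocalHom (algebraMap (SHens A) R) := hloc
  haveI : Algebra.WeaklyEtale A (SHens A) :=
    Groth.Agent.Lib.IndEtaleH3.weaklyEtale_of_isIndEtale
      (isIndEtale_of_isStrictHenselization (R := A) (SHens A))
  haveI : Algebra.WeaklyEtale (SHens A) R :=
    Groth.Agent.Lib.WeaklyEtale_helper5.weaklyEtale_of_tower A (SHens A) R
  have hbij : Function.Bijective h := main0427 (SHens A) R
  let e : SHens A ≃+* R := RingEquiv.ofBijective h hbij
  have he : ∀ s, e s = h s := fun _ => rfl
  have hes : ∀ x, h (e.symm x) = x := fun x => e.apply_symm_apply x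
  refine ⟨hens, ⟨hsepR, hsepAR⟩, ?_⟩
  intro T _ _ φ _ τ hτ
  have hτ' : ∀ a : A, τ (residue R (algebraMap A R a)) = residue T (φ a) := by
    intro a
    have := DFunLike.congr_fun hτ (residue A a)
    rwa [RingHom.comp_apply, ResidueField.map_residue, ResidueField.map_residue] at this
  have hcompat : (τ.comp (ResidueField.map h)).comp (ResidueField.map (algebraMap A (SHens A))) =
      ResidueField.map φ := by
    ext x
    obtain ⟨a, rfl⟩ := residue_surjective x
    rw [RingHom.comp_apply, RingHom.comp_apply, ResidueField.map_residue,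
      ResidueField.map_residue, ResidueField.map_residue, hh1', hτ']
  obtain ⟨g', ⟨hg1, hg2⟩, hguniq⟩ := hS.universal T φ (τ.comp (ResidueField.map h)) hcompat
  refine ⟨g'.comp (e.symm : R →+* SHens A), ⟨?_, ?_⟩, ?_⟩
  · ext a
    show g' (e.symm (algebraMap A R a)) = φ a
    have : e.symm (algebraMap A R a) = algebraMap A (SHens A) a := by
      rw [RingEquiv.symm_apply_eq, he, hh1']
    rw [this]
    exact DFunLike.congr_fun hg1 a
  · intro x
    show residue T (g' (e.symm x)) = τ (residue R x)
    rw [hg2, RingHom.comp_apply, ResidueField.map_residue, hes]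
  · rintro g₂ ⟨hg21, hg22⟩
    have h3 : g₂.comp h = g' := by
      apply hguniq
      refine ⟨?_, fun s => ?_⟩
      · ext a
        show g₂ (h (algebraMap A (SHens A) a)) = φ a
        rw [hh1']
        exact DFunLike.congr_fun hg21 a
      · show residue T (g₂ (h s)) = (τ.comp (ResidueField.map h)) (residue (SHens A) s)
        rw [hg22, RingHom.comp_apply, ResidueField.map_residue]
    ext x
    show g₂ x = g' (e.symm x)
    rw [← h3, RingHom.comp_apply, hes]

end Forward

section Backward

open Groth.Agent.Lib.StrictHens

variable (A B R : Type u) [CommRing A] [IsLocalRing A] [CommRing B] [IsLocalRing B]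
  [Algebra A B] [IsLocalHom (algebraMap A B)]
  [CommRing R] [IsLocalRing R] [Algebra B R] [IsLocalHom (algebraMap B R)]
  [hR : Hensel.IsStrictHenselization B R] [Algebra A R] [IsScalarTower A B R]
  [IsLocalHom (algebraMap A R)] [hAR : Hensel.IsStrictHenselization A R]

include R in
/-- If some strict henselization of `B` is a strict henselization of `A`, then `A → B` is weakly
étale. -/
theorem weaklyEtale_of_isStrictHenselization : Algebra.WeaklyEtale A B := by
  haveI : Algebra.WeaklyEtale B R := Groth.Agent.Lib.IndEtaleH3.weaklyEtale_of_isIndEtale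
    (isIndEtale_of_isStrictHenselization (R := B) R)
  haveI : Algebra.WeaklyEtale A R := Groth.Agent.Lib.IndEtaleH3.weaklyEtale_of_isIndEtale
    (isIndEtale_of_isStrictHenselization (R := A) R)
  haveI hff : Module.FaithfullyFlat B R := faithfullyFlat_of_isStrictHenselization (R := B) R
  haveI hflat : Module.Flat A B :=
    Groth.Agent.Lib.FlatTower_helper5.flat_of_faithfullyFlat_tower A B R
  refine ⟨hflat, ?_⟩
  have hψ : (algebraMap B R).FaithfullyFlat := (RingHom.faithfullyFlat_algebraMap_iff).mpr hff
  refine Groth.Agent.Lib.FlatTower_helper5.ringHom_flat_of_comp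
    (Algebra.TensorProduct.lmul' A (S := B)).toRingHom (algebraMap B R) hψ ?_
  let ι : B →ₐ[A] R := IsScalarTower.toAlgHom A B R
  have hι : ι.toRingHom.Flat := by
    show (algebraMap B R).Flat
    exact RingHom.flat_algebraMap_iff.mpr inferInstance
  have hmap : (Algebra.TensorProduct.map ι ι).toRingHom.Flat := RingHom.Flat.tensorProductMap hι hι
  have heq : (algebraMap B R).comp (Algebra.TensorProduct.lmul' A (S := B)).toRingHom =
      (Algebra.TensorProduct.lmul' A (S := R)).toRingHom.comp
        (Algebra.TensorProduct.map ι ι).toRingHom := by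
    refine RingHom.ext fun z => ?_
    show algebraMap B R (Algebra.TensorProduct.lmul' A z) =
      Algebra.TensorProduct.lmul' A (Algebra.TensorProduct.map ι ι z)
    induction z using TensorProduct.induction_on with
    | zero => simp
    | tmul x y =>
      rw [Algebra.TensorProduct.lmul'_apply_tmul, Algebra.TensorProduct.map_tmul,
        Algebra.TensorProduct.lmul'_apply_tmul, map_mul]
      rfl
    | add x y hx hy => rw [map_add, map_add, map_add, map_add, hx, hy]
  rw [heq]
  exact RingHom.Flat.comp hmap (Algebra.WeaklyEtale.flat_lmul' A R)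

end Backward

section Scheme

open AlgebraicGeometry CategoryTheory Groth.Agent.Lib.StrictHens

/-- **S1467.** -/
theorem main1467 {X Y : Scheme.{u}} (f : X ⟶ Y) :
    WeaklyEtale f ↔ ∀ (x : X) (R : Type u) [CommRing R] [IsLocalRing R]
      [Algebra ↑(X.presheaf.stalk x) R]
      [IsLocalHom (algebraMap ↑(X.presheaf.stalk x) R)]
      [Hensel.IsStrictHenselization ↑(X.presheaf.stalk x) R],
      letI : Algebra ↑(Y.presheaf.stalk (f x)) R :=
        ((algebraMap ↑(X.presheaf.stalk x) R).comp (f.stalkMap x).hom).toAlgebra
      ∃ _ : IsLocalHom (algebraMap ↑(Y.presheaf.stalk (f x)) R),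
        Hensel.IsStrictHenselization ↑(Y.presheaf.stalk (f x)) R := by
  constructor
  · intro hf x R _ _ _ _ _
    have h := (Groth.Agent.Lib.WeaklyEtaleStalk.main f).mp hf x
    letI algAB : Algebra (Y.presheaf.stalk (f x)) (X.presheaf.stalk x) :=
      (f.stalkMap x).hom.toAlgebra
    haveI : IsLocalHom (algebraMap (Y.presheaf.stalk (f x)) (X.presheaf.stalk x)) :=
      (inferInstance : IsLocalHom (f.stalkMap x).hom)
    haveI : Algebra.WeaklyEtale (Y.presheaf.stalk (f x)) (X.presheaf.stalk x) := ⟨h.1, h.2⟩
    letI algAR : Algebra ↑(Y.presheaf.stalk (f x)) R :=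
      ((algebraMap ↑(X.presheaf.stalk x) R).comp (f.stalkMap x).hom).toAlgebra
    haveI : IsScalarTower (Y.presheaf.stalk (f x)) (X.presheaf.stalk x) R :=
      IsScalarTower.of_algebraMap_eq (fun _ => rfl)
    haveI hloc : IsLocalHom (algebraMap ↑(Y.presheaf.stalk (f x)) R) :=
      RingHom.isLocalHom_comp (algebraMap ↑(X.presheaf.stalk x) R) (f.stalkMap x).hom
    exact ⟨hloc, isStrictHenselization_of_weaklyEtale (Y.presheaf.stalk (f x))
      (X.presheaf.stalk x) R⟩
  · intro h
    rw [Groth.Agent.Lib.WeaklyEtaleStalk.main f]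
    intro x
    letI algAB : Algebra (Y.presheaf.stalk (f x)) (X.presheaf.stalk x) :=
      (f.stalkMap x).hom.toAlgebra
    haveI : IsLocalHom (algebraMap (Y.presheaf.stalk (f x)) (X.presheaf.stalk x)) :=
      (inferInstance : IsLocalHom (f.stalkMap x).hom)
    haveI hS : Hensel.IsStrictHenselization (X.presheaf.stalk x) (SHens (X.presheaf.stalk x)) :=
      isStrictHenselization_shens
    have hx := h x (SHens (X.presheaf.stalk x))
    letI algAR : Algebra ↑(Y.presheaf.stalk (f x)) (SHens (X.presheaf.stalk x)) :=
      ((algebraMap ↑(X.presheaf.stalk x) (SHens (X.presheaf.stalk x))).comp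
        (f.stalkMap x).hom).toAlgebra
    obtain ⟨hloc, hsh⟩ := hx
    haveI := hloc
    haveI := hsh
    haveI : IsScalarTower (Y.presheaf.stalk (f x)) (X.presheaf.stalk x)
        (SHens (X.presheaf.stalk x)) :=
      IsScalarTower.of_algebraMap_eq (fun _ => rfl)
    have hwe := weaklyEtale_of_isStrictHenselization (Y.presheaf.stalk (f x))
      (X.presheaf.stalk x) (SHens (X.presheaf.stalk x))
    exact ⟨hwe.flat, hwe.flat_lmul'⟩

end Scheme

end Groth.Agent.Lib.WENormalH3
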