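import Mathlib
import Groth.Prelude.Def_PBC
import Groth.Prelude.Def_Hensel
import Groth.Agent.Lib.WENormal5_helper3
import Groth.Agent.Lib.PunctConn1_helper3
import Groth.Agent.Lib.IndEtaleTrans_helper3

/-!
# Weakly étale algebras are ind-étale locally: the local step (helper3)

For a weakly étale `A → Y` and a prime `q` of `Y`, the strict henselization `R` of `Y_q` is, by
Olivier's theorem, also a strict henselization of `A_p`; hence `R` is ind-étale over both `A` and
`Y`.
-/

set_option autoImplicit false
set_option linter.all false
set_option maxHeartbeats 1600000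
universe u

open TensorProduct IsLocalRing

namespace Groth.Agent.Lib.WEIndEtH3

open Groth.Agent.Lib.IndEtaleH3 Groth.Agent.Lib.StrictHens

theorem exists_strictHenselization (S : Type u) [CommRing S] [IsLocalRing S] :
    ∃ (R : Type u) (_ : CommRing R) (_ : IsLocalRing R) (_ : Algebra S R)
      (_ : IsLocalHom (algebraMap S R)), Hensel.IsStrictHenselization S R :=
  ⟨SHens S, inferInstance, inferInstance, inferInstance, inferInstance,
    isStrictHenselization_shens⟩

theorem weaklyEtale_of_isLocalization {R : Type u} [CommRing R] (M : Submonoid R) (S : Type u)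
    [CommRing S] [Algebra R S] [IsLocalization M S] : Algebra.WeaklyEtale R S :=
  weaklyEtale_of_isIndEtale (Groth.Agent.Lib.PunctConnH3.isIndEtale_of_isLocalization M S)

section Loc

variable (A Y : Type u) [CommRing A] [CommRing Y] [Algebra A Y] [Algebra.WeaklyEtale A Y]
  (q : Ideal Y) [q.IsPrime]

theorem exists_local_indEtale :
    ∃ (R : Type u) (_ : CommRing R) (_ : Algebra Y R) (_ : Algebra A R) (_ : IsScalarTower A Y R),
      EtPBC.IsIndEtale A R ∧ EtPBC.IsIndEtale Y R ∧
      ∃ Q : Ideal R, Q.IsPrime ∧ Q.comap (algebraMap Y R) = q := by
  obtain ⟨p, hp⟩ : ∃ p : Ideal A, p = q.comap (algebraMap A Y) := ⟨_, rfl⟩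
  haveI : p.IsPrime := hp ▸ Ideal.comap_isPrime _ _
  obtain ⟨R, _, _, _, _, hR⟩ := exists_strictHenselization (Localization.AtPrime q)
  -- algebra structures
  letI algYR : Algebra Y R :=
    ((algebraMap (Localization.AtPrime q) R).comp (algebraMap Y (Localization.AtPrime q))).toAlgebra
  haveI : IsScalarTower Y (Localization.AtPrime q) R := IsScalarTower.of_algebraMap_eq fun _ => rfl
  letI algAR : Algebra A R := ((algebraMap Y R).comp (algebraMap A Y)).toAlgebra
  haveI towAYR : IsScalarTower A Y R := IsScalarTower.of_algebraMap_eq fun _ => rfl
  letI algApYq : Algebra (Localization.AtPrime p) (Localization.AtPrime q) :=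
    (Localization.localRingHom p q (algebraMap A Y) hp).toAlgebra
  haveI : IsLocalHom (algebraMap (Localization.AtPrime p) (Localization.AtPrime q)) :=
    Localization.isLocalHom_localRingHom p q (algebraMap A Y) hp
  haveI : IsScalarTower A (Localization.AtPrime p) (Localization.AtPrime q) :=
    IsScalarTower.of_algebraMap_eq fun a => by
      show algebraMap A (Localization.AtPrime q) a =
        Localization.localRingHom p q (algebraMap A Y) hp (algebraMap A (Localization.AtPrime p) a)
      rw [Localization.localRingHom_to_map, ← IsScalarTower.algebraMap_apply]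
  letI algApR : Algebra (Localization.AtPrime p) R :=
    ((algebraMap (Localization.AtPrime q) R).comp
      (algebraMap (Localization.AtPrime p) (Localization.AtPrime q))).toAlgebra
  haveI : IsScalarTower (Localization.AtPrime p) (Localization.AtPrime q) R :=
    IsScalarTower.of_algebraMap_eq fun _ => rfl
  haveI : IsScalarTower A (Localization.AtPrime p) R := IsScalarTower.of_algebraMap_eq fun a => by
    show algebraMap (Localization.AtPrime q) R (algebraMap Y (Localization.AtPrime q)
        (algebraMap A Y a)) =
      algebraMap (Localization.AtPrime q) R (algebraMap (Localization.AtPrime p)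
        (Localization.AtPrime q) (algebraMap A (Localization.AtPrime p) a))
    rw [← IsScalarTower.algebraMap_apply A (Localization.AtPrime p) (Localization.AtPrime q),
      ← IsScalarTower.algebraMap_apply A Y (Localization.AtPrime q)]
  haveI : IsLocalHom (algebraMap (Localization.AtPrime p) R) := by
    show IsLocalHom ((algebraMap (Localization.AtPrime q) R).comp
      (algebraMap (Localization.AtPrime p) (Localization.AtPrime q)))
    exact RingHom.isLocalHom_comp _ _
  -- weakly étale facts
  haveI : Algebra.WeaklyEtale A (Localization.AtPrime p) :=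
    weaklyEtale_of_isLocalization p.primeCompl _
  haveI : Algebra.WeaklyEtale Y (Localization.AtPrime q) :=
    weaklyEtale_of_isLocalization q.primeCompl _
  haveI : Algebra.WeaklyEtale A (Localization.AtPrime q) :=
    Algebra.WeaklyEtale.trans A Y (Localization.AtPrime q)
  haveI : Algebra.WeaklyEtale (Localization.AtPrime p) (Localization.AtPrime q) :=
    Groth.Agent.Lib.WeaklyEtale_helper5.weaklyEtale_of_tower A (Localization.AtPrime p)
      (Localization.AtPrime q)
  have hSH : Hensel.IsStrictHenselization (Localization.AtPrime p) R :=
    Groth.Agent.Lib.WENormalH3.isStrictHenselization_of_weaklyEtale (Localization.AtPrime p)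
      (Localization.AtPrime q) R
  have h1 : EtPBC.IsIndEtale (Localization.AtPrime p) R :=
    isIndEtale_of_isStrictHenselization (R := Localization.AtPrime p) R
  have h2 : EtPBC.IsIndEtale A (Localization.AtPrime p) :=
    Groth.Agent.Lib.PunctConnH3.isIndEtale_of_isLocalization p.primeCompl _
  have h3 : EtPBC.IsIndEtale (Localization.AtPrime q) R :=
    isIndEtale_of_isStrictHenselization (R := Localization.AtPrime q) R
  have h4 : EtPBC.IsIndEtale Y (Localization.AtPrime q) :=
    Groth.Agent.Lib.PunctConnH3.isIndEtale_of_isLocalization q.primeCompl _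
  refine ⟨R, inferInstance, algYR, algAR, towAYR,
    isIndEtale_trans A (Localization.AtPrime p) R h2 h1,
    isIndEtale_trans Y (Localization.AtPrime q) R h4 h3, maximalIdeal R, inferInstance, ?_⟩
  show ((maximalIdeal R).comap (algebraMap (Localization.AtPrime q) R)).comap
    (algebraMap Y (Localization.AtPrime q)) = q
  rw [IsLocalRing.maximalIdeal_comap]
  exact Localization.AtPrime.under_maximalIdeal

end Loc

end Groth.Agent.Lib.WEIndEtH3
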