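import Mathlib
import Groth.Prelude.Def_PBC
import Groth.Prelude.Def_ProEtW
import Groth.Agent.Lib.WEIndEt1_helper3

/-!
# Weakly étale algebras are ind-étale locally: gluing (helper3)

`isIndEtale_of_hasEtaleRetractions`: if `A → B` is weakly étale, `C` is an ind-étale `B`-algebra over
which all faithfully flat étale algebras have retractions, then `C` is ind-étale over `A`.
-/

set_option autoImplicit false
set_option linter.all false
set_option maxHeartbeats 1600000
universe u

open TensorProduct IsLocalRing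

namespace Groth.Agent.Lib.WEIndEtH3

open Groth.Agent.Lib.IndEtaleH3

/-- Local lifting data: an étale `A₁`-algebra `E`, an étale `Y`-algebra `Y'` and a compatible ring
map `E → Y'`. -/
structure Datum (A₁ Y : Type u) [CommRing A₁] [CommRing Y] [Algebra A₁ Y] where
  E : Type u
  [cE : CommRing E]
  [aE : Algebra A₁ E]
  [etE : Algebra.Etale A₁ E]
  Y' : Type u
  [cY : CommRing Y']
  [aY : Algebra Y Y']
  [etY : Algebra.Etale Y Y']
  u : E →+* Y'
  hu : ∀ a, u (algebraMap A₁ E a) = algebraMap Y Y' (algebraMap A₁ Y a)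

attribute [instance] Datum.cE Datum.aE Datum.etE Datum.cY Datum.aY Datum.etY

section Glue

variable {A₁ Y : Type u} [CommRing A₁] [CommRing Y] [Algebra A₁ Y]

/-- Finitely many of the `Y'` already cover `Spec Y`. -/
theorem exists_finset_faithfullyFlat (d : PrimeSpectrum Y → Datum A₁ Y)
    (hd : ∀ q, q ∈ Set.range (PrimeSpectrum.comap (algebraMap Y (d q).Y'))) :
    ∃ s : Finset (PrimeSpectrum Y), Module.FaithfullyFlat Y (Π q : s, (d q).Y') := by
  have hopen : ∀ q, IsOpen (Set.range (PrimeSpectrum.comap (algebraMap Y (d q).Y'))) := fun q =>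
    (PrimeSpectrum.isOpenMap_comap_of_hasGoingDown_of_finitePresentation
      (R := Y) (S := (d q).Y')).isOpen_range
  obtain ⟨s, hs⟩ := isCompact_univ.elim_finite_subcover
    (fun q => Set.range (PrimeSpectrum.comap (algebraMap Y (d q).Y'))) hopen
    (fun q _ => Set.mem_iUnion.mpr ⟨q, hd q⟩)
  refine ⟨s, ?_⟩
  haveI : Module.Flat Y (Π q : s, (d q).Y') := inferInstance
  apply Module.FaithfullyFlat.of_comap_surjective
  intro x
  obtain ⟨q, hq, P, hP⟩ : ∃ q ∈ s, x ∈ Set.range (PrimeSpectrum.comap (algebraMap Y (d q).Y')) := by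
    have := hs (Set.mem_univ x)
    simpa using this
  refine ⟨PrimeSpectrum.comap (Pi.evalRingHom (fun q : s => (d q).Y') ⟨q, hq⟩) P, ?_⟩
  rw [← hP]
  apply PrimeSpectrum.ext
  rfl

end Glue

section Retr

/-- A faithfully flat étale algebra over a stage maps to a ring with étale retractions. -/
theorem exists_algHom_of_hasEtaleRetractions (Y C : Type u) [CommRing Y] [CommRing C] [Algebra Y C]
    (hC : ProEtW.HasEtaleRetractions C) (Y' : Type u) [CommRing Y'] [Algebra Y Y']
    [Algebra.Etale Y Y'] [Module.FaithfullyFlat Y Y'] : Nonempty (Y' →ₐ[Y] C) := by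
  obtain ⟨r⟩ := hC (C ⊗[Y] Y') inferInstance inferInstance
  exact ⟨(r.restrictScalars Y).comp Algebra.TensorProduct.includeRight⟩

end Retr

section Main

variable (A B C : Type u) [CommRing A] [CommRing B] [CommRing C] [Algebra A B] [Algebra B C]
  [Algebra A C] [IsScalarTower A B C] [Algebra.WeaklyEtale A B]

/-- Glue local data and map into `C`. -/
theorem exists_glued {A₁ Y : Type u} [CommRing A₁] [CommRing Y] [Algebra A₁ Y] [Algebra Y C]
    (hC : ProEtW.HasEtaleRetractions C)
    (d : PrimeSpectrum Y → Datum A₁ Y)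
    (hd : ∀ q, q ∈ Set.range (PrimeSpectrum.comap (algebraMap Y (d q).Y'))) :
    ∃ (s : Finset (PrimeSpectrum Y)) (w : (Π q : s, (d q).E) →+* C),
      (∀ a, w (algebraMap A₁ (Π q : s, (d q).E) a) = algebraMap Y C (algebraMap A₁ Y a)) ∧
      (∀ (e : Π q : s, (d q).E) (y : Y), (∀ q : s, (d q).u (e q) = algebraMap Y (d q).Y' y) →
        w e = algebraMap Y C y) := by
  obtain ⟨s, hs⟩ := exists_finset_faithfullyFlat d hd
  obtain ⟨v⟩ := exists_algHom_of_hasEtaleRetractions Y C hC (Π q : s, (d q).Y')
  let U : (Π q : s, (d q).E) →+* (Π q : s, (d q).Y') :=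
    Pi.ringHom (fun q => (d q).u.comp (Pi.evalRingHom (fun q : s => (d q).E) q))
  have hU : ∀ e q, U e q = (d q).u (e q) := fun _ _ => rfl
  refine ⟨s, v.toRingHom.comp U, fun a => ?_, fun e y he => ?_⟩
  · show v (U (algebraMap A₁ (Π q : s, (d q).E) a)) = _
    have h1 : U (algebraMap A₁ (Π q : s, (d q).E) a) =
        algebraMap Y (Π q : s, (d q).Y') (algebraMap A₁ Y a) := by
      funext q
      rw [hU]
      exact (d q).hu a
    rw [h1, v.commutes]
  · show v (U e) = _
    have h1 : U e = algebraMap Y (Π q : s, (d q).Y') y := by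
      funext q
      rw [hU]
      exact he q
    rw [h1, v.commutes]

theorem isIndEtale_of_hasEtaleRetractions (hBC : EtPBC.IsIndEtale B C)
    (hC : ProEtW.HasEtaleRetractions C) : EtPBC.IsIndEtale A C := by
  apply isIndEtale_of_exists
  · -- elements
    intro c'
    obtain ⟨Y, _, _, _, g, y, hy⟩ := exists_of_isIndEtale hBC c'
    letI algAY : Algebra A Y := ((algebraMap B Y).comp (algebraMap A B)).toAlgebra
    haveI : IsScalarTower A B Y := IsScalarTower.of_algebraMap_eq fun _ => rfl
    haveI : Algebra.WeaklyEtale A Y := Algebra.WeaklyEtale.trans A B Y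
    letI algYC : Algebra Y C := g.toRingHom.toAlgebra
    have hAYC : ∀ a : A, algebraMap Y C (algebraMap A Y a) = algebraMap A C a := fun a => by
      show g (algebraMap B Y (algebraMap A B a)) = _
      rw [g.commutes, ← IsScalarTower.algebraMap_apply]
    -- local data
    have hloc : ∀ q : PrimeSpectrum Y, ∃ (d : Datum A Y) (e : d.E),
        d.u e = algebraMap Y d.Y' y ∧
        q ∈ Set.range (PrimeSpectrum.comap (algebraMap Y d.Y')) := by
      intro q
      obtain ⟨R, _, _, _, _, hAR, hYR, Q, hQ, hQq⟩ := exists_local_indEtale A Y q.asIdeal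
      obtain ⟨E, _, _, _, f, e, he⟩ := exists_of_isIndEtale hAR (algebraMap Y R y)
      let F : Y ⊗[A] E →ₐ[Y] R :=
        Algebra.TensorProduct.lift (Algebra.ofId Y R) f (fun _ _ => Commute.all _ _)
      have hx : F ((1 : Y) ⊗ₜ[A] e - y ⊗ₜ[A] (1 : E)) = 0 := by
        simp [F, he, Algebra.ofId_apply]
      obtain ⟨Y', _, _, _, g₁, f', hfg, hg₁⟩ :=
        exists_factor_of_isIndEtale hYR (Y ⊗[A] E) F _ hx
      refine ⟨⟨E, Y', g₁.toRingHom.comp
        (Algebra.TensorProduct.includeRight (R := A) (A := Y) (B := E)).toRingHom, fun a => ?_⟩,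
        e, ?_, ?_⟩
      · show g₁ ((1 : Y) ⊗ₜ[A] (algebraMap A E a)) = _
        have h1 : ((1 : Y) ⊗ₜ[A] (algebraMap A E a)) =
            algebraMap Y (Y ⊗[A] E) (algebraMap A Y a) := by
          rw [Algebra.TensorProduct.algebraMap_apply, Algebra.algebraMap_eq_smul_one,
            ← TensorProduct.smul_tmul, Algebra.smul_def, mul_one]
          rfl
        rw [h1, g₁.commutes]
      · show g₁ ((1 : Y) ⊗ₜ[A] e) = _
        rw [map_sub, sub_eq_zero] at hg₁
        rw [hg₁]
        have h1 : (y ⊗ₜ[A] (1 : E) : Y ⊗[A] E) = algebraMap Y (Y ⊗[A] E) y := by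
          rw [Algebra.TensorProduct.algebraMap_apply]
          rfl
        rw [h1, g₁.commutes]
      · refine ⟨⟨Q.comap f'.toRingHom, Ideal.comap_isPrime _ _⟩, ?_⟩
        apply PrimeSpectrum.ext
        show (Q.comap f'.toRingHom).comap (algebraMap Y Y') = q.asIdeal
        rw [← hQq, Ideal.comap_comap]
        congr 1
        ext z
        exact f'.commutes z
    choose d e hde hd using hloc
    obtain ⟨s, w, hw1, hw2⟩ := exists_glued C hC d hd
    refine ⟨Π q : s, (d q).E, inferInstance, inferInstance, inferInstance,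
      ⟨w, fun a => (hw1 a).trans (hAYC a)⟩, fun q => e q, ?_⟩
    show w (fun q => e q) = c'
    rw [hw2 (fun q => e q) y (fun q => hde q)]
    exact hy
  · -- kernel
    intro E _ _ _ f c hc
    let F : B ⊗[A] E →ₐ[B] C :=
      Algebra.TensorProduct.lift (Algebra.ofId B C) f (fun _ _ => Commute.all _ _)
    have hx : F ((1 : B) ⊗ₜ[A] c) = 0 := by simp [F, hc]
    obtain ⟨Y, _, _, _, g₀, g, hgg, hg₀⟩ := exists_factor_of_isIndEtale hBC (B ⊗[A] E) F _ hx
    letI algAY : Algebra A Y := ((algebraMap B Y).comp (algebraMap A B)).toAlgebra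
    haveI : IsScalarTower A B Y := IsScalarTower.of_algebraMap_eq fun _ => rfl
    haveI : Algebra.WeaklyEtale A Y := Algebra.WeaklyEtale.trans A B Y
    let ψ : E →+* Y := g₀.toRingHom.comp
      (Algebra.TensorProduct.includeRight (R := A) (A := B) (B := E)).toRingHom
    have hψ : ∀ x, ψ x = g₀ ((1 : B) ⊗ₜ[A] x) := fun _ => rfl
    have hψA : ∀ a : A, ψ (algebraMap A E a) = algebraMap A Y a := fun a => by
      rw [hψ]
      have h1 : ((1 : B) ⊗ₜ[A] (algebraMap A E a)) =
          algebraMap B (B ⊗[A] E) (algebraMap A B a) := by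
        rw [Algebra.TensorProduct.algebraMap_apply, Algebra.algebraMap_eq_smul_one,
          ← TensorProduct.smul_tmul, Algebra.smul_def, mul_one]
        rfl
      rw [h1, g₀.commutes]
      rfl
    have hψc : ψ c = 0 := hg₀
    have hgψ : ∀ x, g (ψ x) = f x := fun x => by
      rw [hψ]
      have := congr($hgg ((1 : B) ⊗ₜ[A] x))
      simpa [F] using this
    letI algEY : Algebra E Y := ψ.toAlgebra
    haveI : IsScalarTower A E Y := IsScalarTower.of_algebraMap_eq fun a => (hψA a).symm
    haveI : Algebra.WeaklyEtale E Y :=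
      Groth.Agent.Lib.WeaklyEtale_helper5.weaklyEtale_of_tower A E Y
    letI algYC : Algebra Y C := g.toRingHom.toAlgebra
    -- local data
    have hloc : ∀ q : PrimeSpectrum Y, ∃ (d : Datum E Y),
        algebraMap E d.E c = 0 ∧
        q ∈ Set.range (PrimeSpectrum.comap (algebraMap Y d.Y')) := by
      intro q
      obtain ⟨R, _, _, _, _, hER, hYR, Q, hQ, hQq⟩ := exists_local_indEtale E Y q.asIdeal
      have hcR : (Algebra.ofId E R) c = 0 := by
        rw [Algebra.ofId_apply, IsScalarTower.algebraMap_apply E Y R]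
        show algebraMap Y R (ψ c) = 0
        rw [hψc, map_zero]
      obtain ⟨E', _, _, _, g₁, f', hfg, hg₁⟩ :=
        exists_factor_of_isIndEtale hER E (Algebra.ofId E R) c hcR
      let F' : Y ⊗[E] E' →ₐ[Y] R :=
        Algebra.TensorProduct.lift (Algebra.ofId Y R) f' (fun _ _ => Commute.all _ _)
      refine ⟨⟨E', Y ⊗[E] E',
        (Algebra.TensorProduct.includeRight (R := E) (A := Y) (B := E')).toRingHom, fun a => ?_⟩,
        ?_, ?_⟩
      · show ((1 : Y) ⊗ₜ[E] (algebraMap E E' a)) = algebraMap Y (Y ⊗[E] E') (algebraMap E Y a)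
        rw [Algebra.TensorProduct.algebraMap_apply, Algebra.algebraMap_eq_smul_one,
          ← TensorProduct.smul_tmul, Algebra.smul_def, mul_one]
        rfl
      · show algebraMap E E' c = 0
        rw [← hg₁, Algebra.algebraMap_eq_smul_one, ← map_one g₁, ← map_smul, smul_eq_mul, mul_one]
      · refine ⟨⟨Q.comap F'.toRingHom, Ideal.comap_isPrime _ _⟩, ?_⟩
        apply PrimeSpectrum.ext
        show (Q.comap F'.toRingHom).comap (algebraMap Y (Y ⊗[E] E')) = q.asIdeal
        rw [← hQq, Ideal.comap_comap]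
        congr 1
        ext z
        exact F'.commutes z
    choose d hdc hd using hloc
    obtain ⟨s, w, hw1, hw2⟩ := exists_glued C hC d hd
    -- the étale `A`-algebra
    letI algAE' : Algebra A (Π q : s, (d q).E) :=
      ((algebraMap E (Π q : s, (d q).E)).comp (algebraMap A E)).toAlgebra
    haveI : IsScalarTower A E (Π q : s, (d q).E) := IsScalarTower.of_algebraMap_eq fun _ => rfl
    haveI : Algebra.Etale A (Π q : s, (d q).E) := Algebra.Etale.comp A E _
    refine ⟨Π q : s, (d q).E, inferInstance, algAE', inferInstance,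
      IsScalarTower.toAlgHom A E _, ⟨w, fun a => ?_⟩, ?_, ?_⟩
    · show w (algebraMap E (Π q : s, (d q).E) (algebraMap A E a)) = _
      rw [hw1]
      show g (ψ (algebraMap A E a)) = _
      rw [hgψ, f.commutes]
    · ext x
      show w (algebraMap E (Π q : s, (d q).E) x) = f x
      rw [hw1]
      exact hgψ x
    · show algebraMap E (Π q : s, (d q).E) c = 0
      funext q
      exact hdc q

end Main

end Groth.Agent.Lib.WEIndEtH3
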