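import Mathlib
import Groth.Prelude.Def_PBC
import Groth.Prelude.Def_ProEtW
import Groth.Agent.Lib.WEIndEt2_helper3
import Groth.Agent.Lib.IndEtRetr2_helper3

/-!
# Weakly étale = ind-étale locally; w-contractible = retractions for ind-étale covers (helper3)
-/

set_option autoImplicit false
set_option linter.all false
set_option maxHeartbeats 1600000
universe u

open TensorProduct

namespace Groth.Agent.Lib.WEIndEtH3

open Groth.Agent.Lib.IndEtaleH3

/-- **Weakly étale maps are ind-étale after a faithfully flat ind-étale cover.** -/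
theorem main0176 (A B : Type u) [CommRing A] [CommRing B] [Algebra A B]
    [Algebra.WeaklyEtale A B] :
    ∃ (B' : Type u) (_ : CommRing B') (_ : Algebra B B') (_ : Algebra A B')
      (_ : IsScalarTower A B B'),
      Module.FaithfullyFlat B B' ∧ EtPBC.IsIndEtale B B' ∧ EtPBC.IsIndEtale A B' := by
  obtain ⟨C, instC, algBC, hff, hind, hretr⟩ := main0693 B
  letI algAC : Algebra A C := ((algebraMap B C).comp (algebraMap A B)).toAlgebra
  haveI tow : IsScalarTower A B C := IsScalarTower.of_algebraMap_eq fun _ => rfl
  exact ⟨C, instC, algBC, algAC, tow, hff, hind,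
    isIndEtale_of_hasEtaleRetractions A B C hind hretr⟩

theorem isWContractible_of_hasIndEtaleRetractions (A : Type u) [CommRing A]
    (h : ProEtW.HasIndEtaleRetractions A) : EtPBC.IsWContractible A := by
  intro B _ _ hff hwe
  haveI := hwe
  haveI := hff
  obtain ⟨B', _, _, _, _, hff', hBB', hAB'⟩ := main0176 A B
  haveI := hff'
  have hffA : Module.FaithfullyFlat A B' := Module.FaithfullyFlat.trans A B B'
  obtain ⟨r⟩ := h B' hffA hAB'
  exact ⟨r.comp (IsScalarTower.toAlgHom A B B')⟩

theorem main0778 (A : Type u) [CommRing A] :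
    EtPBC.IsWContractible A ↔ ProEtW.HasIndEtaleRetractions A :=
  ⟨fun h B _ _ hff hind => h B hff (weaklyEtale_of_isIndEtale hind),
    isWContractible_of_hasIndEtaleRetractions A⟩

end Groth.Agent.Lib.WEIndEtH3
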