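import Mathlib
import Groth.Prelude.Def_PBC
import Groth.Prelude.Def_ProEtW
import Groth.Agent.Lib.WEIndEt3_helper3

/-!
# Every ring has a faithfully flat ind-étale w-contractible cover (helper3)

`D :=` the colimit of all étale `A`-algebras over `Ω = ∏_p κ(p)^sep`.  Every faithfully flat
ind-étale `D`-algebra `E` maps to `Ω` over `D`; the universal property of `D` then gives a retraction.
-/

set_option autoImplicit false
set_option linter.all false
set_option maxHeartbeats 1600000
universe u

open CategoryTheory Limits TensorProduct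

namespace Groth.Agent.Lib.WEIndEtH3

open Groth.Agent.Lib.IndEtaleH3

section Points

/-- A nonzero weakly étale algebra over a separably closed field has a rational point. -/
theorem exists_algHom_of_isSepClosed_field (K T : Type u) [Field K] [IsSepClosed K] [CommRing T]
    [Nontrivial T] [Algebra K T] [Algebra.WeaklyEtale K T] : Nonempty (T →ₐ[K] K) := by
  obtain ⟨m, hm⟩ := Ideal.exists_maximal T
  haveI := hm.isPrime
  haveI : Algebra.WeaklyEtale T (Localization.AtPrime m) :=
    weaklyEtale_of_isLocalization m.primeCompl _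
  haveI : Algebra.WeaklyEtale K (Localization.AtPrime m) :=
    Algebra.WeaklyEtale.trans K T (Localization.AtPrime m)
  have hsurj := Groth.Agent.Lib.WENormalH3.algebraMap_surjective_of_isSepClosed K
    (Localization.AtPrime m)
  have hinj : Function.Injective (algebraMap K (Localization.AtPrime m)) :=
    (algebraMap K (Localization.AtPrime m)).injective
  let e : K ≃ₐ[K] Localization.AtPrime m :=
    AlgEquiv.ofBijective (Algebra.ofId K (Localization.AtPrime m)) ⟨hinj, hsurj⟩
  exact ⟨e.symm.toAlgHom.comp (IsScalarTower.toAlgHom K T (Localization.AtPrime m))⟩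

/-- A faithfully flat weakly étale algebra maps to any separably closed field over the base. -/
theorem exists_algHom_of_weaklyEtale (R E K : Type u) [CommRing R] [CommRing E] [Algebra R E]
    [Algebra.WeaklyEtale R E] [Module.FaithfullyFlat R E] [Field K] [IsSepClosed K] [Algebra R K] :
    Nonempty (E →ₐ[R] K) := by
  haveI : Nontrivial (K ⊗[R] E) := inferInstance
  haveI : Algebra.WeaklyEtale K (K ⊗[R] E) := inferInstance
  obtain ⟨χ⟩ := exists_algHom_of_isSepClosed_field K (K ⊗[R] E)
  exact ⟨(χ.restrictScalars R).comp Algebra.TensorProduct.includeRight⟩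

end Points

section Univ

variable {A B : Type u} [CommRing A] [CommRing B] [Algebra A B]
  {Cc : Type u} [CommRing Cc] [Algebra A Cc] (ι : ∀ X : EtOver A B, X.C →ₐ[A] Cc)

/-- The canonical map from an étale algebra over `B` to the colimit. -/
noncomputable def canMap (C : Type u) [CommRing C] [Algebra A C] [Algebra.Etale A C]
    (f : C →ₐ[A] B) : C →ₐ[A] Cc :=
  (ι (exists_obj C f).choose).comp (exists_obj C f).choose_spec.choose.toAlgHom

variable (hcompat : ∀ {X Y : EtOver A B} (g : X ⟶ Y) (y : X.C), ι Y (g.1 y) = ι X y)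
include hcompat

theorem canMap_aux (C C' : Type u) [CommRing C] [Algebra A C] [CommRing C']
    [Algebra A C'] (f : C →ₐ[A] B) (f' : C' →ₐ[A] B) (g : C →ₐ[A] C')
    (h : ∀ c, f' (g c) = f c) (X X' : EtOver A B) (e : C ≃ₐ[A] X.C) (e' : C' ≃ₐ[A] X'.C)
    (he : ∀ c, X.f (e c) = f c) (he' : ∀ c, X'.f (e' c) = f' c) (c : C) :
    ι X' (e' (g c)) = ι X (e c) := by
  let m : X ⟶ X' :=
    ⟨e'.toAlgHom.comp (g.comp e.symm.toAlgHom), AlgHom.ext fun y => by
      show X'.f (e' (g (e.symm y))) = X.f y
      rw [he', h, ← he, AlgEquiv.apply_symm_apply]⟩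
  have hm := hcompat m (e c)
  have hm1 : m.1 (e c) = e' (g c) := by
    show e' (g (e.symm (e c))) = _
    rw [AlgEquiv.symm_apply_apply]
  rw [hm1] at hm
  exact hm

theorem canMap_comp (C C' : Type u) [CommRing C] [Algebra A C] [Algebra.Etale A C] [CommRing C']
    [Algebra A C'] [Algebra.Etale A C'] (f : C →ₐ[A] B) (f' : C' →ₐ[A] B) (g : C →ₐ[A] C')
    (h : f'.comp g = f) (c : C) : canMap ι C' f' (g c) = canMap ι C f c :=
  canMap_aux ι hcompat C C' f f' g (fun c => congr($h c)) _ _
    (exists_obj C f).choose_spec.choose (exists_obj C' f').choose_spec.choose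
    (fun c => congr($((exists_obj C f).choose_spec.choose_spec) c))
    (fun c => congr($((exists_obj C' f').choose_spec.choose_spec) c)) c

theorem canMap_self (X : EtOver A B) (y : X.C) : canMap ι X.C X.f y = ι X y := by
  have h := canMap_aux ι hcompat X.C X.C X.f X.f (AlgHom.id A X.C) (fun _ => rfl) X
    (exists_obj X.C X.f).choose AlgEquiv.refl (exists_obj X.C X.f).choose_spec.choose
    (fun _ => rfl) (fun c => congr($((exists_obj X.C X.f).choose_spec.choose_spec) c)) y
  exact h

/-- **Universal property** of the colimit of all étale `A`-algebras over `B` with respect to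
ind-étale `A`-algebras over `B`. -/
theorem exists_univ_map (E : Type u) [CommRing E] [Algebra A E] (hE : EtPBC.IsIndEtale A E)
    (φ : E →ₐ[A] B) :
    ∃ r : E →ₐ[A] Cc, ∀ (X : EtOver A B) (h : X.C →ₐ[A] E), φ.comp h = X.f →
      ∀ y, r (h y) = ι X y := by
  obtain ⟨J, _, _, D, c, hc, het, ⟨e⟩⟩ := hE
  -- the legs
  let lam : ∀ j : J, @AlgHom A (D.obj j).right Cc _ _ _ (algObj D j) _ := fun j =>
    letI := algObj D j
    haveI := het j
    canMap ι (D.obj j).right (φ.comp (ιB c e j))
  have hlam : ∀ {j k : J} (t : j ⟶ k) (z : (D.obj j).right),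
      lam k ((D.map t).right.hom z) = lam j z := by
    intro j k t z
    letI := algObj D j
    haveI := het j
    letI := algObj D k
    haveI := het k
    exact canMap_comp ι hcompat (D.obj j).right (D.obj k).right (φ.comp (ιB c e j))
      (φ.comp (ιB c e k)) (trB D t) (by
        ext w
        show φ (ιB c e k (trB D t w)) = φ (ιB c e j w)
        rw [ιB_trB]) z
  let s : Cocone D :=
    { pt := Under.mk (CommRingCat.ofHom (algebraMap A Cc))
      ι :=
        { app := fun j => Under.homMk (CommRingCat.ofHom
            (@AlgHom.toRingHom A (D.obj j).right Cc _ _ _ (algObj D j) _ (lam j))) (by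
              ext a
              exact @AlgHom.commutes A (D.obj j).right Cc _ _ _ (algObj D j) _ (lam j) a)
          naturality := fun j k t => by
            apply Under.UnderMorphism.ext
            ext z
            simp only [Functor.const_obj_obj, Functor.const_obj_map, Category.comp_id]
            exact hlam t z } }
  have hs : ∀ j (z : (D.obj j).right), (s.ι.app j).right.hom z = lam j z := fun _ _ => rfl
  let r₀ : c.pt.right →+* Cc := (hc.desc s).right.hom
  have hr₀ : ∀ j (z : (D.obj j).right), r₀ ((c.ι.app j).right.hom z) = lam j z := by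
    intro j z
    have h1 := hc.fac s j
    have h2 := congr($(h1).right.hom z)
    exact h2
  have hr₀A : ∀ a : A, r₀ (c.pt.hom.hom a) = algebraMap A Cc a := by
    intro a
    have h1 := congr($(Under.w (hc.desc s)).hom a)
    exact h1
  let r : E →ₐ[A] Cc :=
    { toRingHom := r₀.comp (eRight c e).inv.hom
      commutes' := fun a => by
        show r₀ ((eRight c e).inv.hom (algebraMap A E a)) = algebraMap A Cc a
        rw [eRight_inv_algebraMap, hr₀A] }
  have hr : ∀ j (z : (D.obj j).right), r (ιB c e j z) = lam j z := by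
    intro j z
    show r₀ ((eRight c e).inv.hom (ιB c e j z)) = _
    rw [ιB_apply, eRight_inv_hom, hr₀]
  refine ⟨r, fun X h hh y => ?_⟩
  obtain ⟨k, g, hg, -⟩ := exists_factor_ιB c e hc X.C h 0 (map_zero h)
  rw [← hg y, hr]
  letI := algObj D k
  haveI := het k
  have h1 := canMap_comp ι hcompat X.C (D.obj k).right X.f (φ.comp (ιB c e k)) g (by
    ext w
    show φ (ιB c e k (g w)) = X.f w
    rw [hg, ← hh]
    rfl) y
  rw [canMap_self ι hcompat] at h1
  exact h1

end Univ

section Main

variable (A : Type u) [CommRing A]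

theorem main0177 :
    ∃ (D : Type u) (_ : CommRing D) (_ : Algebra A D),
      Module.FaithfullyFlat A D ∧ EtPBC.IsIndEtale A D ∧ EtPBC.IsWContractible D := by
  obtain ⟨Cc, instCc, algCc, ι, ρ, hInd, hρι, hsurjι, hcompat, hzero, hfac⟩ :=
    exists_colimit_data' A (OmegaSep A)
  refine ⟨Cc, instCc, algCc, ?_, hInd, isWContractible_of_hasIndEtaleRetractions Cc ?_⟩
  · haveI := flat_of_isIndEtale hInd
    apply Module.FaithfullyFlat.of_comap_surjective
    intro p
    let π : Cc →+* SeparableClosure p.asIdeal.ResidueField :=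
      (Pi.evalRingHom (fun p : PrimeSpectrum A => SeparableClosure p.asIdeal.ResidueField) p).comp
        ρ.toRingHom
    refine ⟨⟨RingHom.ker π, RingHom.ker_isPrime π⟩, ?_⟩
    apply PrimeSpectrum.ext
    show Ideal.comap (algebraMap A Cc) (RingHom.ker π) = p.asIdeal
    ext a
    rw [Ideal.mem_comap, RingHom.mem_ker]
    have h1 : π (algebraMap A Cc a) =
        algebraMap A (SeparableClosure p.asIdeal.ResidueField) a := by
      show (ρ (algebraMap A Cc a)) p = _
      rw [ρ.commutes]
      rfl
    rw [h1, IsScalarTower.algebraMap_apply A p.asIdeal.ResidueField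
      (SeparableClosure p.asIdeal.ResidueField), map_eq_zero_iff _
        (algebraMap p.asIdeal.ResidueField (SeparableClosure p.asIdeal.ResidueField)).injective,
      ← RingHom.mem_ker, Ideal.ker_algebraMap_residueField]
  · intro E _ _ hff hE
    haveI := hff
    letI algAE : Algebra A E := ((algebraMap Cc E).comp (algebraMap A Cc)).toAlgebra
    haveI : IsScalarTower A Cc E := IsScalarTower.of_algebraMap_eq fun _ => rfl
    have hAE : EtPBC.IsIndEtale A E := isIndEtale_trans A Cc E hInd hE
    haveI : Algebra.WeaklyEtale Cc E := weaklyEtale_of_isIndEtale hE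
    letI algK : ∀ p : PrimeSpectrum A, Algebra Cc (SeparableClosure p.asIdeal.ResidueField) :=
      fun p => ((Pi.evalRingHom
        (fun p : PrimeSpectrum A => SeparableClosure p.asIdeal.ResidueField) p).comp
          ρ.toRingHom).toAlgebra
    let φ : E →ₐ[Cc] (Π p : PrimeSpectrum A, SeparableClosure p.asIdeal.ResidueField) :=
      Pi.algHom Cc _ (fun p => (exists_algHom_of_weaklyEtale Cc E
        (SeparableClosure p.asIdeal.ResidueField)).some)
    have hφ : ∀ c : Cc, φ (algebraMap Cc E c) = ρ c := fun c => by
      rw [φ.commutes]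
      rfl
    let φA : E →ₐ[A] OmegaSep A :=
      { toRingHom := φ.toRingHom
        commutes' := fun a => by
          show φ (algebraMap Cc E (algebraMap A Cc a)) = _
          rw [hφ, ρ.commutes] }
    obtain ⟨r, hr⟩ := exists_univ_map ι hcompat E hAE φA
    have hid : ∀ c : Cc, r (algebraMap Cc E c) = c := by
      intro c
      obtain ⟨X, y, rfl⟩ := hsurjι c
      exact hr X ((IsScalarTower.toAlgHom A Cc E).comp (ι X)) (AlgHom.ext fun w => by
        show φ (algebraMap Cc E (ι X w)) = X.f w
        rw [hφ, hρι]) y
    exact ⟨{ toRingHom := r.toRingHom, commutes' := hid }⟩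

end Main

end Groth.Agent.Lib.WEIndEtH3
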