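import Mathlib
import Groth.Prelude.Def_PBC
import Groth.Agent.Lib.WEIndEt4_helper3
import Groth.Agent.Lib.WeaklyEtaleSpec_helper3

/-!
# w-contractible affine covers in the small pro-étale site (helper3)
-/

set_option autoImplicit false
set_option linter.all false
set_option maxHeartbeats 1600000
universe u

open AlgebraicGeometry CategoryTheory Limits Opposite TopologicalSpace

namespace Groth.Agent.Lib.WEIndEtH3

open Groth.Agent.Lib.IndEtaleH3

/-- w-contractibility is invariant under ring isomorphisms. -/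
theorem isWContractible_of_ringEquiv {D D' : Type u} [CommRing D] [CommRing D'] (e : D ≃+* D')
    (h : EtPBC.IsWContractible D) : EtPBC.IsWContractible D' := by
  intro E' _ _ hff hwe
  haveI := hff
  haveI := hwe
  letI algDD' : Algebra D D' := e.toRingHom.toAlgebra
  letI algDE' : Algebra D E' := ((algebraMap D' E').comp e.toRingHom).toAlgebra
  haveI : IsScalarTower D D' E' := IsScalarTower.of_algebraMap_eq fun _ => rfl
  have hbij : Function.Bijective (algebraMap D D') := e.bijective
  let eAlg : D ≃ₐ[D] D' := AlgEquiv.ofBijective (Algebra.ofId D D') hbij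
  haveI : Algebra.Etale D D' := Algebra.Etale.of_equiv eAlg
  haveI : Algebra.WeaklyEtale D D' := inferInstance
  haveI : Module.FaithfullyFlat D D' :=
    Module.FaithfullyFlat.of_linearEquiv D D eAlg.symm.toLinearEquiv
  haveI : Algebra.WeaklyEtale D E' := Algebra.WeaklyEtale.trans D D' E'
  haveI : Module.FaithfullyFlat D E' := Module.FaithfullyFlat.trans D D' E'
  obtain ⟨r⟩ := h E' inferInstance inferInstance
  refine ⟨{ toRingHom := e.toRingHom.comp r.toRingHom, commutes' := fun d' => ?_ }⟩
  show e (r (algebraMap D' E' d')) = d'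
  have h1 : algebraMap D' E' d' = algebraMap D E' (e.symm d') := by
    show _ = algebraMap D' E' (e (e.symm d'))
    rw [e.apply_symm_apply]
  rw [h1, r.commutes]
  exact e.apply_symm_apply d'

theorem main7286 {X : Scheme.{u}} (U : X.ProEt) :
    ∃ (ι : Type u) (V : ι → X.ProEt) (g : ∀ i, V i ⟶ U),
      Sieve.generate (Presieve.ofArrows V g) ∈ Scheme.ProEt.topology X U ∧
        ∀ i, IsAffine (V i).left ∧ EtPBC.IsWContractible ↥(Γ((V i).left, ⊤)) := by
  choose D instD algD hffD hindD hwcD using
    fun W : U.left.affineOpens => main0177 (Γ(U.left, W.1))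
  letI : ∀ W, CommRing (D W) := instD
  letI : ∀ W, Algebra Γ(U.left, W.1) (D W) := algD
  haveI : ∀ W, Algebra.WeaklyEtale Γ(U.left, W.1) (D W) := fun W =>
    weaklyEtale_of_isIndEtale (hindD W)
  -- the maps
  let φ : ∀ W : U.left.affineOpens, CommRingCat.of Γ(U.left, W.1) ⟶ CommRingCat.of (D W) :=
    fun W => CommRingCat.ofHom (algebraMap Γ(U.left, W.1) (D W))
  haveI hwe1 : ∀ W, WeaklyEtale (Spec.map (φ W)) := fun W =>
    Groth.Agent.Lib.WeaklyEtaleSpecH3.weaklyEtale_SpecMap Γ(U.left, W.1) (D W)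
  let f : ∀ W : U.left.affineOpens, Spec (CommRingCat.of (D W)) ⟶ U.left :=
    fun W => Spec.map (φ W) ≫ W.2.fromSpec
  haveI hwe2 : ∀ W, WeaklyEtale (f W) := fun W => inferInstanceAs
    (WeaklyEtale (Spec.map (φ W) ≫ W.2.fromSpec))
  haveI hwe3 : ∀ W, WeaklyEtale (f W ≫ U.hom) := fun W => inferInstance
  have hrange : ∀ W : U.left.affineOpens, Set.range (f W) = (W.1 : Set U.left) := by
    intro W
    have hs : Function.Surjective (Spec.map (φ W)) := by
      haveI := hffD W
      exact PrimeSpectrum.comap_surjective_of_faithfullyFlat (A := Γ(U.left, W.1)) (B := D W)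
    show Set.range ((Spec.map (φ W) ≫ W.2.fromSpec)) = _
    rw [Scheme.Hom.comp_base, TopCat.coe_comp, Set.range_comp, Set.range_eq_univ.mpr hs,
      Set.image_univ]
    exact W.2.range_fromSpec
  refine ⟨U.left.affineOpens, fun W => Scheme.ProEt.mk (f W ≫ U.hom),
    fun W => MorphismProperty.Over.homMk (f W), ?_, fun W => ⟨?_, ?_⟩⟩
  · apply Precoverage.generate_mem_toGrothendieck
    show Presieve.ofArrows _ _ ∈ (Scheme.proetalePrecoverage.comap
      (Scheme.ProEt.forget X ⋙ Over.forget X)) U
    rw [Precoverage.mem_comap_iff, Presieve.map_ofArrows]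
    refine ⟨?_, ?_⟩
    · -- quasi-compact cover
      let E : PreZeroHypercover.{u} U.left :=
        { I₀ := U.left.affineOpens
          X := fun W => Spec (CommRingCat.of (D W))
          f := f }
      show E.presieve₀ ∈ Scheme.qcPrecoverage U.left
      rw [Scheme.presieve₀_mem_qcPrecoverage_iff]
      refine ⟨fun {W} hW => ?_⟩
      have h1 := IsCompactOpenCovered.image (f := fun i => (E.f i)) (i := ⟨W, hW⟩)
        (⊤ : Opens (E.X ⟨W, hW⟩)) isCompact_univ
      have h2 : (E.f ⟨W, hW⟩) '' ((⊤ : Opens (E.X ⟨W, hW⟩)) : Set (E.X ⟨W, hW⟩)) = (W : Set U.left) := by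
        rw [Opens.coe_top, Set.image_univ]
        exact hrange ⟨W, hW⟩
      rw [h2] at h1
      exact h1
    · rw [Scheme.ofArrows_mem_precoverage_iff]
      refine ⟨fun x => ?_, fun W => hwe2 W⟩
      obtain ⟨W, hW, hxW⟩ : ∃ W : U.left.Opens, IsAffineOpen W ∧ x ∈ W := by
        obtain ⟨_, ⟨W, hW, rfl⟩, hxW, -⟩ :=
          U.left.isBasis_affineOpens.exists_subset_of_mem_open (Set.mem_univ x) isOpen_univ
        exact ⟨W, hW, hxW⟩
      refine ⟨⟨W, hW⟩, ?_⟩
      show x ∈ Set.range (f ⟨W, hW⟩)
      rw [hrange]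
      exact hxW
  · show IsAffine (Spec (CommRingCat.of (D W)))
    infer_instance
  · show EtPBC.IsWContractible ↥(Γ(Spec (CommRingCat.of (D W)), ⊤))
    exact isWContractible_of_ringEquiv
      (Scheme.ΓSpecIso (CommRingCat.of (D W))).commRingCatIsoToRingEquiv.symm (hwcD W)

end Groth.Agent.Lib.WEIndEtH3
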