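import Mathlib
import Groth.Prelude.Def_PBC
import Groth.Prelude.Def_ProEtS
import Groth.Agent.Lib.WCSite2_helper3
import Groth.Agent.Lib.WEIndEt6_helper3

/-!
# Coverings by weakly contractible objects in the small pro-étale site (helper3)
-/

set_option autoImplicit false
set_option linter.all false
set_option maxHeartbeats 1600000
universe u

open AlgebraicGeometry CategoryTheory Limits Opposite TopologicalSpace

namespace Groth.Agent.Lib.WCSiteH3

/-- The disjoint union of a family of weakly contractible objects over `U` is weakly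
contractible. -/
theorem exists_sigma {X : Scheme.{u}} (U : X.ProEt) {ι : Type u} (V : ι → X.ProEt)
    (g : ∀ i, V i ⟶ U) (hwc : ∀ i, ProEtS.IsWC (V i)) :
    ∃ (V' : X.ProEt) (g' : V' ⟶ U) (j : ∀ i, V i ⟶ V'), (∀ i, j i ≫ g' = g i) ∧
      ProEtS.IsWC V' ∧ V'.left = ∐ fun i => (V i).left := by
  haveI hwe : ∀ i, WeaklyEtale (g i).left := fun i => weaklyEtale_left (g i)
  let G : (∐ fun i => (V i).left) ⟶ U.left := Sigma.desc fun i => (g i).left
  haveI : WeaklyEtale G := IsZariskiLocalAtSource.sigmaDesc (P := @WeaklyEtale) hwe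
  haveI : WeaklyEtale (G ≫ U.hom) := inferInstance
  have hj : ∀ i, Sigma.ι (fun i => (V i).left) i ≫ (G ≫ U.hom) = (V i).hom := by
    intro i
    rw [← Category.assoc]
    simp only [G, Sigma.ι_desc]
    exact CategoryTheory.Over.w (g i).hom
  let j : ∀ i, V i ⟶ Scheme.ProEt.mk (G ≫ U.hom) := fun i =>
    MorphismProperty.Over.homMk (Sigma.ι (fun i => (V i).left) i) (hj i)
  refine ⟨Scheme.ProEt.mk (G ≫ U.hom), MorphismProperty.Over.homMk G, j, fun i => ?_, ?_, rfl⟩
  · apply MorphismProperty.Over.Hom.ext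
    show Sigma.ι (fun i => (V i).left) i ≫ G = (g i).left
    simp [G]
  · refine isWC_of_disjoint_cover V j (fun i => ?_) ?_ ?_ hwc
    · exact inferInstanceAs (IsOpenImmersion (Sigma.ι (fun i => (V i).left) i))
    · intro i i' hii'
      have h := disjoint_opensRange_sigmaι (fun i => (V i).left) i i' hii'
      rw [Set.disjoint_left]
      intro x hx hx'
      have hx2 : x ∈ ((Sigma.ι (fun i => (V i).left) i).opensRange ⊓
        (Sigma.ι (fun i => (V i).left) i').opensRange : (∐ fun i => (V i).left).Opens) :=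
        ⟨hx, hx'⟩
      rw [disjoint_iff.mp h] at hx2
      exact hx2
    · intro x
      obtain ⟨i, y, hy⟩ := (sigmaOpenCover (fun i => (V i).left)).exists_eq x
      exact ⟨i, y, hy⟩

theorem main0713 {X : Scheme.{u}} (U : X.ProEt) :
    ∃ (V : X.ProEt) (g : V ⟶ U),
      Sieve.generate (Presieve.singleton g) ∈ Scheme.ProEt.topology X U ∧ ProEtS.IsWC V := by
  obtain ⟨ι, V, g, hcov, hV⟩ := Groth.Agent.Lib.WEIndEtH3.main7286 U
  have hwc : ∀ i, ProEtS.IsWC (V i) := fun i => by
    haveI := (hV i).1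
    exact isWC_of_isWContractible (V i) (hV i).2
  obtain ⟨V', g', j, hj, hwc', -⟩ := exists_sigma U V g hwc
  refine ⟨V', g', ?_, hwc'⟩
  refine (Scheme.ProEt.topology X).superset_covering ?_ hcov
  rw [Sieve.generate_le_iff]
  rintro _ _ ⟨i⟩
  exact ⟨V', j i, g', Presieve.singleton.mk, hj i⟩

end Groth.Agent.Lib.WCSiteH3
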