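import Mathlib
import Groth.Prelude.Def_ProEtDC
import Groth.Agent.Lib.DCSh3_helper3
import Groth.Agent.Lib.DCSh4_helper3
import Groth.Agent.Lib.WCSite3_helper3

/-!
# Derived Nakayama for sheaves of modules on the pro-étale site (helper3)
-/

set_option autoImplicit false
set_option linter.all false
set_option maxHeartbeats 1600000

open CategoryTheory Limits Opposite AlgebraicGeometry Polynomial

namespace Groth.Agent.Lib.DCShH3

universe u

variable {X : Scheme.{u}} (Λ : Type (u + 1)) [CommRing Λ]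

/-- Sections of a derived complete sheaf are derived complete modules. -/
theorem dcSeq_sections {I : Ideal Λ} (F : EtModW.ModP Λ X) (hF : ProEtDC.IsDCSheaf Λ I F)
    (U : X.ProEt) (f : Λ) (hf : f ∈ I) : DCSeq f (F.obj.obj (op U)) := by
  rw [dcSeq_iff_bijective]
  have key := bijective_of_isDCSheaf Λ U f F hF hf
  let E : (ModuleCat.of Λ Λ[X] ⟶ F.obj.obj (op U)) ≃ (Λ[X] →ₗ[Λ] F.obj.obj (op U)) :=
    ModuleCat.homEquiv
  have hcomm : (fun h : Λ[X] →ₗ[Λ] F.obj.obj (op U) =>
      h ∘ₗ LinearMap.mulLeft Λ (C f * (Polynomial.X : Λ[X]) - 1)) =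
      E ∘ (fun h => dPoly Λ f ≫ h) ∘ E.symm := by
    funext h
    rfl
  rw [hcomm]
  exact E.bijective.comp (key.comp E.symm.bijective)

/-- An epimorphism of sheaves of modules is surjective on sections over weakly contractible
objects. -/
theorem surjective_of_isWC_mod {F G : EtModW.ModP Λ X} (φ : F ⟶ G) [Epi φ]
    (T : X.ProEt) (hT : ProEtS.IsWC T) : Function.Surjective (φ.hom.app (op T)) := by
  haveI : Sheaf.IsLocallySurjective φ :=
    (Sheaf.isLocallySurjective_iff_epi' _ φ).mpr inferInstance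
  let φ' := (sheafCompose (Scheme.ProEt.topology X) (forget (ModuleCat.{u + 1} Λ))).map φ
  haveI : Sheaf.IsLocallySurjective φ' := inferInstance
  have hepi : Epi φ' := inferInstance
  exact hT _ _ φ' hepi

/-- From `F/IF = 0` to generation of sections over weakly contractible objects. -/
theorem exists_gens_of_epi {r : ℕ} (a : Fin r → Λ) (F : EtModW.ModP Λ X)
    (h0 : ProEtDC.ModGensIsZero Λ a F) (W : X.ProEt) (hW : ProEtS.IsWC W)
    (m : F.obj.obj (op W)) :
    ∃ c : Fin r → F.obj.obj (op W), m = ∑ k, a k • c k := by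
  haveI : Epi (biproduct.desc (fun k : Fin r => ProEtDC.smulHom Λ F (a k))) := h0
  obtain ⟨x, hx⟩ := surjective_of_isWC_mod Λ
    (biproduct.desc (fun k : Fin r => ProEtDC.smulHom Λ F (a k))) W hW m
  let R := Rx Λ W
  let φ := biproduct.desc (fun k : Fin r => ProEtDC.smulHom Λ F (a k))
  have hx' : (R.map φ).hom x = m := hx
  refine ⟨fun k => (R.map (biproduct.π (fun _ : Fin r => F) k)).hom x, ?_⟩
  have hid : ∑ k, biproduct.π (fun _ : Fin r => F) k ≫ biproduct.ι (fun _ : Fin r => F) k =
      𝟙 _ := biproduct.total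
  have h1 : ∑ k, (R.map (biproduct.ι (fun _ : Fin r => F) k)).hom
      ((R.map (biproduct.π (fun _ : Fin r => F) k)).hom x) = x := by
    have h2 := congrArg (fun t => (R.map t).hom x) hid
    simp only [Functor.map_sum, Functor.map_comp, Functor.map_id] at h2
    rw [ModuleCat.hom_sum] at h2
    simpa using h2
  have h4 : ∀ k, (R.map φ).hom ((R.map (biproduct.ι (fun _ : Fin r => F) k)).hom
      ((R.map (biproduct.π (fun _ : Fin r => F) k)).hom x)) =
      a k • (R.map (biproduct.π (fun _ : Fin r => F) k)).hom x := by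
    intro k
    have h3 : (R.map φ).hom ((R.map (biproduct.ι (fun _ : Fin r => F) k)).hom
        ((R.map (biproduct.π (fun _ : Fin r => F) k)).hom x)) =
        (R.map (biproduct.ι (fun _ : Fin r => F) k ≫ φ)).hom
          ((R.map (biproduct.π (fun _ : Fin r => F) k)).hom x) := by
      rw [Functor.map_comp]
      rfl
    rw [h3, biproduct.ι_desc]
    rfl
  calc m = (R.map φ).hom x := hx'.symm
    _ = (R.map φ).hom (∑ k, (R.map (biproduct.ι (fun _ : Fin r => F) k)).hom
          ((R.map (biproduct.π (fun _ : Fin r => F) k)).hom x)) := by rw [h1]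
    _ = ∑ k, a k • (R.map (biproduct.π (fun _ : Fin r => F) k)).hom x := by
        rw [map_sum]
        exact Finset.sum_congr rfl fun k _ => h4 k

theorem main0766 (X : Scheme.{u}) (Λ : Type (u + 1)) [CommRing Λ]
    {r : ℕ} (a : Fin r → Λ) (F : EtModW.ModP Λ X)
    (hF : ProEtDC.IsDCSheaf Λ (Ideal.span (Set.range a)) F) (h0 : ProEtDC.ModGensIsZero Λ a F) :
    IsZero F := by
  have hWC : ∀ (W : X.ProEt), ProEtS.IsWC W → ∀ m : F.obj.obj (op W), m = 0 := by
    intro W hW
    exact nakayama a (F.obj.obj (op W))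
      (fun k => dcSeq_sections Λ F hF W (a k) (Ideal.subset_span ⟨k, rfl⟩))
      (fun m => exists_gens_of_epi Λ a F h0 W hW m)
  have hall : ∀ (V : X.ProEt) (s : F.obj.obj (op V)), s = 0 := by
    intro V s
    obtain ⟨W, g, hcov, hW⟩ := Groth.Agent.Lib.WCSiteH3.main0713 V
    refine Sheaf.isSeparated F V _ hcov s 0 ?_
    rintro Y f' ⟨Y', h, g', hg', rfl⟩
    obtain ⟨⟩ := hg'
    have h1 : F.obj.map g.op s = 0 := hWC W hW _
    rw [op_comp, Functor.map_comp, ConcreteCategory.comp_apply, h1, map_zero, map_zero]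
  rw [IsZero.iff_id_eq_zero]
  apply Sheaf.hom_ext
  ext V : 2
  apply ModuleCat.hom_ext
  apply LinearMap.ext
  intro s
  exact (hall V.unop _).trans (hall V.unop _).symm

end Groth.Agent.Lib.DCShH3
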