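import Mathlib
import Groth.Prelude.Def_ProEtDC
import Groth.Agent.Lib.DCSh5_helper3

/-!
# Derived complete sheaves: the converse criterion, part 1 (helper3)
-/

set_option autoImplicit false
set_option linter.all false
set_option maxHeartbeats 1600000

open CategoryTheory Limits Opposite AlgebraicGeometry Polynomial

namespace Groth.Agent.Lib.DCShH3

universe u

section Abstract

open Abelian

variable {𝒜 : Type*} [Category 𝒜] [Abelian 𝒜] [HasExt.{u + 1} 𝒜]

/-- For a short exact sequence `0 → P → P' → Q → 0` with `P`, `P'` projective and `F` such that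
precomposition with `P → P'` is bijective on `Hom(-, F)`, all `Ext^n(Q, F)` vanish. -/
theorem ext_vanish_of_bijective_precomp {S : ShortComplex 𝒜} (hS : S.ShortExact) (F : 𝒜)
    [Projective S.X₁] [Projective S.X₂]
    (hb : Function.Bijective (fun h : S.X₂ ⟶ F => S.f ≫ h)) (n : ℕ) :
    Subsingleton (Ext.{u + 1} S.X₃ F n) := by
  haveI := hS.epi_g
  refine subsingleton_of_forall_eq 0 fun x => ?_
  match n with
  | 0 =>
    obtain ⟨h, rfl⟩ := (Ext.mk₀_bijective _ _).2 x
    have h1 : S.f ≫ (S.g ≫ h) = S.f ≫ 0 := by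
      rw [← Category.assoc, S.zero, Limits.zero_comp, Limits.comp_zero]
    have h2 : S.g ≫ h = 0 := hb.1 h1
    have h3 : h = 0 := by
      rw [← cancel_epi S.g, h2, Limits.comp_zero]
    rw [h3, Ext.mk₀_zero]
  | 1 =>
    have h1 : (Ext.mk₀ S.g).comp x (zero_add 1) = 0 := Ext.eq_zero_of_projective _
    obtain ⟨x₁, hx₁⟩ := Ext.contravariant_sequence_exact₃ hS F x h1 (n₀ := 0) (add_zero 1)
    obtain ⟨k, rfl⟩ := (Ext.mk₀_bijective _ _).2 x₁
    obtain ⟨h, rfl⟩ := hb.2 k
    rw [← hx₁, ← Ext.mk₀_comp_mk₀]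
    exact hS.extClass_comp_assoc _
  | (n + 2) =>
    have h1 : (Ext.mk₀ S.g).comp x (zero_add (n + 2)) = 0 := Ext.eq_zero_of_projective _
    obtain ⟨x₁, hx₁⟩ := Ext.contravariant_sequence_exact₃ hS F x h1 (n₀ := n + 1) (by omega)
    have hx0 : x₁ = 0 := Ext.eq_zero_of_projective _
    rw [← hx₁, hx0, Ext.comp_zero]

end Abstract

section Sheaf

variable {X : Scheme.{u}} (Λ : Type (u + 1)) [CommRing Λ]

/-- Translation between the sheaf-level and the module-level bijectivity statements. -/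
theorem bijective_Lx_iff (U : X.ProEt) (f : Λ) (F : EtModW.ModP Λ X) :
    Function.Bijective (fun h : (Lx Λ U).obj (ModuleCat.of Λ Λ[X]) ⟶ F =>
      (Lx Λ U).map (dPoly Λ f) ≫ h) ↔ DCSeq f (F.obj.obj (op U)) := by
  rw [dcSeq_iff_bijective]
  let E := (adjx Λ U).homEquiv (ModuleCat.of Λ Λ[X]) F
  let E' : (ModuleCat.of Λ Λ[X] ⟶ F.obj.obj (op U)) ≃ (Λ[X] →ₗ[Λ] F.obj.obj (op U)) :=
    ModuleCat.homEquiv
  have hcomm : ∀ h : (Lx Λ U).obj (ModuleCat.of Λ Λ[X]) ⟶ F,
      E' (E ((Lx Λ U).map (dPoly Λ f) ≫ h)) =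
        (E' (E h)) ∘ₗ LinearMap.mulLeft Λ (C f * (Polynomial.X : Λ[X]) - 1) := by
    intro h
    rw [Adjunction.homEquiv_naturality_left]
    rfl
  have h1 : (fun h : (Lx Λ U).obj (ModuleCat.of Λ Λ[X]) ⟶ F => (Lx Λ U).map (dPoly Λ f) ≫ h) =
      (E.trans E').symm ∘ (fun h : Λ[X] →ₗ[Λ] F.obj.obj (op U) =>
        h ∘ₗ LinearMap.mulLeft Λ (C f * (Polynomial.X : Λ[X]) - 1)) ∘ (E.trans E') := by
    funext h
    apply (E.trans E').injective
    simp only [Function.comp_apply, Equiv.apply_symm_apply]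
    exact hcomm h
  rw [h1]
  constructor
  · intro h
    have h2 : (fun h : Λ[X] →ₗ[Λ] F.obj.obj (op U) =>
        h ∘ₗ LinearMap.mulLeft Λ (C f * (Polynomial.X : Λ[X]) - 1)) =
        (E.trans E') ∘ ((E.trans E').symm ∘ (fun h : Λ[X] →ₗ[Λ] F.obj.obj (op U) =>
          h ∘ₗ LinearMap.mulLeft Λ (C f * (Polynomial.X : Λ[X]) - 1)) ∘ (E.trans E')) ∘
          (E.trans E').symm := by
      funext k
      simp
    rw [h2]
    exact (E.trans E').bijective.comp (h.comp (E.trans E').symm.bijective)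
  · intro h
    exact (E.trans E').symm.bijective.comp (h.comp (E.trans E').bijective)

/-- Sections over a weakly contractible object preserve epimorphisms. -/
theorem preservesEpi_Rx (W : X.ProEt) (hW : ProEtS.IsWC W) :
    (Rx Λ W).PreservesEpimorphisms := by
  refine ⟨fun {F G} φ hφ => ?_⟩
  rw [ModuleCat.epi_iff_surjective]
  exact surjective_of_isWC_mod Λ φ W hW

/-- `Ext^n(j_{W!} Λ_f, F) = 0` for `W` weakly contractible if `F(W)` is derived complete. -/
theorem ext_vanish_Lx (W : X.ProEt) (hW : ProEtS.IsWC W) (f : Λ) (F : EtModW.ModP Λ X)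
    (hdc : DCSeq f (F.obj.obj (op W))) (n : ℕ) :
    Subsingleton (Abelian.Ext.{u + 1}
      ((Lx Λ W).obj (ModuleCat.of Λ (Localization.Away f))) F n) := by
  haveI := preservesEpi_Rx Λ W hW
  haveI hP : Projective (ModuleCat.of Λ Λ[X]) := inferInstance
  haveI : Projective ((Lx Λ W).obj (ModuleCat.of Λ Λ[X])) :=
    (adjx Λ W).map_projective _ hP
  have hS := shortExact_Lx Λ W f
  haveI : Projective ((polySC Λ f).map (Lx Λ W)).X₁ :=
    inferInstanceAs (Projective ((Lx Λ W).obj (ModuleCat.of Λ Λ[X])))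
  haveI : Projective ((polySC Λ f).map (Lx Λ W)).X₂ :=
    inferInstanceAs (Projective ((Lx Λ W).obj (ModuleCat.of Λ Λ[X])))
  exact ext_vanish_of_bijective_precomp hS F ((bijective_Lx_iff Λ W f F).mpr hdc) n

end Sheaf

end Groth.Agent.Lib.DCShH3
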