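import Mathlib

/-!
# Vanishing of `Ext` out of a coproduct (helper3)
-/

set_option autoImplicit false
set_option linter.all false
set_option maxHeartbeats 1600000

open CategoryTheory Limits Opposite

namespace Groth.Agent.Lib.DCShH3

universe w

open Abelian

variable {𝒜 : Type*} [Category 𝒜] [Abelian 𝒜] [HasExt.{w} 𝒜] [EnoughInjectives 𝒜]

/-- The short exact sequence `0 → F → I → I/F → 0` with `I` injective. -/
noncomputable def injSC (F : 𝒜) : ShortComplex 𝒜 :=
  ShortComplex.mk (Injective.ι F) (cokernel.π (Injective.ι F)) (cokernel.condition _)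

theorem injSC_shortExact (F : 𝒜) : (injSC F).ShortExact := by
  haveI : Mono (injSC F).f := inferInstanceAs (Mono (Injective.ι F))
  haveI : Epi (injSC F).g := inferInstanceAs (Epi (cokernel.π (Injective.ι F)))
  exact ShortComplex.ShortExact.mk' (ShortComplex.exact_cokernel _) inferInstance inferInstance

instance (F : 𝒜) : Injective (injSC F).X₂ := inferInstanceAs (Injective (Injective.under F))

/-- If `Ext^n(G_a, F) = 0` for all `a`, then `Ext^n(∐ G_a, F) = 0`. -/
theorem ext_sigma_vanish {α : Type*} (G : α → 𝒜) [HasCoproduct G] :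
    ∀ (n : ℕ) (F : 𝒜), (∀ a, Subsingleton (Ext.{w} (G a) F n)) →
      Subsingleton (Ext.{w} (∐ G) F n) := by
  intro n
  induction n with
  | zero =>
    intro F h
    refine subsingleton_of_forall_eq 0 fun x => ?_
    obtain ⟨k, rfl⟩ := (Ext.mk₀_bijective _ _).2 x
    have hk : k = 0 := by
      apply Sigma.hom_ext
      intro a
      have h1 : Ext.mk₀ (Sigma.ι G a ≫ k) = Ext.mk₀ (0 : G a ⟶ F) := (h a).elim _ _
      rw [(Ext.mk₀_bijective _ _).1 h1, comp_zero]
    rw [hk, Ext.mk₀_zero]
  | succ n ih =>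
    intro F h
    refine subsingleton_of_forall_eq 0 fun x => ?_
    have hS := injSC_shortExact F
    cases n with
    | zero =>
      have h1 : x.comp (Ext.mk₀ (injSC F).f) (add_zero 1) = 0 :=
        Ext.eq_zero_of_injective _
      obtain ⟨y, hy⟩ := Ext.covariant_sequence_exact₁ (∐ G) hS x h1 (n₀ := 0) rfl
      obtain ⟨k, rfl⟩ := (Ext.mk₀_bijective _ _).2 y
      have hl : ∀ a, ∃ l : G a ⟶ (injSC F).X₂, l ≫ (injSC F).g = Sigma.ι G a ≫ k := by
        intro a
        have h2 : (Ext.mk₀ (Sigma.ι G a ≫ k)).comp hS.extClass (zero_add 1) = 0 :=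
          (h a).elim _ _
        obtain ⟨z, hz⟩ := Ext.covariant_sequence_exact₃ (G a) hS
          (Ext.mk₀ (Sigma.ι G a ≫ k)) (zero_add 1) h2
        obtain ⟨l, rfl⟩ := (Ext.mk₀_bijective _ _).2 z
        refine ⟨l, ?_⟩
        apply (Ext.mk₀_bijective _ _).1
        rw [← Ext.mk₀_comp_mk₀]
        exact hz
      choose l hl using hl
      have hk : Sigma.desc l ≫ (injSC F).g = k := by
        apply Sigma.hom_ext
        intro a
        rw [← Category.assoc, Sigma.ι_desc, hl a]
      have h3 : (Ext.mk₀ k).comp hS.extClass (zero_add 1) = 0 := by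
        rw [← hk, ← Ext.mk₀_comp_mk₀, Ext.comp_assoc_of_second_deg_zero,
          hS.comp_extClass, Ext.comp_zero]
      exact hy.symm.trans h3
    | succ m =>
      have h1 : x.comp (Ext.mk₀ (injSC F).f) (add_zero (m + 1 + 1)) = 0 :=
        Ext.eq_zero_of_injective _
      obtain ⟨y, hy⟩ := Ext.covariant_sequence_exact₁ (∐ G) hS x h1 (n₀ := m + 1) rfl
      have hQ : ∀ a, Subsingleton (Ext.{w} (G a) (injSC F).X₃ (m + 1)) := by
        intro a
        refine subsingleton_of_forall_eq 0 fun z => ?_
        have h2 : z.comp hS.extClass (rfl : m + 1 + 1 = m + 1 + 1) = 0 := (h a).elim _ _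
        obtain ⟨w', hw'⟩ := Ext.covariant_sequence_exact₃ (G a) hS z rfl h2
        have hw0 : w' = 0 := Ext.eq_zero_of_injective _
        rw [← hw', hw0, Ext.zero_comp]
      haveI := ih (injSC F).X₃ hQ
      have hy0 : y = 0 := Subsingleton.elim _ _
      have h3 : y.comp hS.extClass (rfl : m + 1 + 1 = m + 1 + 1) = 0 := by
        rw [hy0, Ext.zero_comp]
      exact hy.symm.trans h3

end Groth.Agent.Lib.DCShH3
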