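import Mathlib
import Groth.Prelude.Def_ProEtDC
import Groth.Agent.Lib.DCSh6_helper3
import Groth.Agent.Lib.DCSh7_helper3

/-!
# Derived complete sheaves: the converse criterion, part 2 (helper3)
-/

set_option autoImplicit false
set_option linter.all false
set_option maxHeartbeats 1600000

open CategoryTheory Limits Opposite AlgebraicGeometry

namespace Groth.Agent.Lib.DCShH3

universe u

variable {X : Scheme.{u}} (Λ : Type (u + 1)) [CommRing Λ]

/-- Multiplication by a scalar is natural. -/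
theorem smulHom_naturality {G G' : EtModW.ModP Λ X} (φ : G ⟶ G') (a : Λ) :
    ProEtDC.smulHom Λ G a ≫ φ = φ ≫ ProEtDC.smulHom Λ G' a := by
  apply Sheaf.hom_ext
  ext V : 2
  apply ModuleCat.hom_ext
  apply LinearMap.ext
  intro s
  show (φ.hom.app V).hom (a • s) = a • (φ.hom.app V).hom s
  rw [map_smul]

/-- `f` acts invertibly on the sheaf `G`. -/
def IsInv (f : Λ) (G : EtModW.ModP Λ X) : Prop := IsIso (ProEtDC.smulHom Λ G f)

variable {Λ}

theorem IsInv.kernel {f : Λ} {P G : EtModW.ModP Λ X} (π : P ⟶ G) (hP : IsInv Λ f P)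
    (hG : IsInv Λ f G) : IsInv Λ f (kernel π) := by
  haveI : IsIso (ProEtDC.smulHom Λ P f) := hP
  haveI : IsIso (ProEtDC.smulHom Λ G f) := hG
  have hnat : inv (ProEtDC.smulHom Λ P f) ≫ π = π ≫ inv (ProEtDC.smulHom Λ G f) := by
    rw [IsIso.inv_comp_eq, ← Category.assoc, IsIso.eq_comp_inv]
    exact (smulHom_naturality Λ π f).symm
  refine ⟨kernel.lift π (kernel.ι π ≫ inv (ProEtDC.smulHom Λ P f)) ?_, ?_, ?_⟩
  · rw [Category.assoc, hnat, ← Category.assoc, kernel.condition, zero_comp]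
  · rw [← cancel_mono (kernel.ι π), Category.assoc, kernel.lift_ι, ← Category.assoc,
      smulHom_naturality Λ (kernel.ι π) f, Category.assoc, IsIso.hom_inv_id, Category.comp_id,
      Category.id_comp]
  · rw [← cancel_mono (kernel.ι π), Category.assoc, smulHom_naturality Λ (kernel.ι π) f,
      ← Category.assoc, kernel.lift_ι, Category.assoc, IsIso.inv_hom_id, Category.comp_id,
      Category.id_comp]

theorem IsInv.sigma {f : Λ} {α : Type (u + 1)} (P : α → EtModW.ModP Λ X)
    (hP : ∀ a, IsInv Λ f (P a)) : IsInv Λ f (∐ P) := by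
  haveI : ∀ a, IsIso (ProEtDC.smulHom Λ (P a) f) := hP
  have h1 : ProEtDC.smulHom Λ (∐ P) f = Limits.Sigma.map (fun a => ProEtDC.smulHom Λ (P a) f) := by
    apply Sigma.hom_ext
    intro a
    rw [Limits.Sigma.ι_map]
    exact (smulHom_naturality Λ (Sigma.ι P a) f).symm
  refine ⟨Limits.Sigma.map (fun a => inv (ProEtDC.smulHom Λ (P a) f)), ?_, ?_⟩
  · rw [h1]
    apply Sigma.hom_ext
    intro a
    simp
  · rw [h1]
    apply Sigma.hom_ext
    intro a
    simp

/-- A left adjoint of a "linear" functor sends modules on which `f` is invertible to sheaves on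
which `f` is invertible. -/
theorem isInv_of_adj {L : ModuleCat.{u + 1} Λ ⥤ EtModW.ModP Λ X}
    {R : EtModW.ModP Λ X ⥤ ModuleCat.{u + 1} Λ} (adj : L ⊣ R)
    (hR : ∀ (G : EtModW.ModP Λ X) (a : Λ),
      R.map (ProEtDC.smulHom Λ G a) = ModuleCat.ofHom (a • LinearMap.id))
    (M : ModuleCat.{u + 1} Λ) (f : Λ)
    (hM : IsIso (ModuleCat.ofHom (f • LinearMap.id : M →ₗ[Λ] M))) : IsInv Λ f (L.obj M) := by
  have h1 : L.map (ModuleCat.ofHom (f • LinearMap.id : M →ₗ[Λ] M)) =
      ProEtDC.smulHom Λ (L.obj M) f := by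
    apply (adj.homEquiv M (L.obj M)).injective
    rw [Adjunction.homEquiv_unit, Adjunction.homEquiv_unit, hR]
    have := adj.unit.naturality (ModuleCat.ofHom (f • LinearMap.id : M →ₗ[Λ] M))
    simp only [Functor.id_obj, Functor.id_map, Functor.comp_obj, Functor.comp_map] at this
    rw [← this]
    apply ModuleCat.hom_ext
    apply LinearMap.ext
    intro m
    show (adj.unit.app M).hom (f • m) = f • (adj.unit.app M).hom m
    rw [map_smul]
  unfold IsInv
  rw [← h1]
  haveI := hM
  infer_instance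

theorem isIso_smul_away (f : Λ) :
    IsIso (ModuleCat.ofHom (f • LinearMap.id :
      (ModuleCat.of Λ (Localization.Away f)) →ₗ[Λ] (ModuleCat.of Λ (Localization.Away f)))) := by
  refine ⟨ModuleCat.ofHom (LinearMap.mulLeft Λ (IsLocalization.Away.invSelf f)), ?_, ?_⟩
  · apply ModuleCat.hom_ext
    apply LinearMap.ext
    intro (x : Localization.Away f)
    show IsLocalization.Away.invSelf f * (f • x) = x
    rw [Algebra.smul_def, ← mul_assoc, mul_comm (IsLocalization.Away.invSelf f),
      IsLocalization.Away.mul_invSelf, one_mul]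
  · apply ModuleCat.hom_ext
    apply LinearMap.ext
    intro (x : Localization.Away f)
    show f • (IsLocalization.Away.invSelf f * x) = x
    rw [Algebra.smul_def, ← mul_assoc, IsLocalization.Away.mul_invSelf, one_mul]

theorem isInv_locExt (U : X.ProEt) (f : Λ) : IsInv Λ f (ProEtDC.locExt Λ U f) :=
  isInv_of_adj (adja Λ U) (fun G a => rfl) _ f (isIso_smul_away f)

theorem isInv_Lx (U : X.ProEt) (f : Λ) :
    IsInv Λ f ((Lx Λ U).obj (ModuleCat.of Λ (Localization.Away f))) :=
  isInv_of_adj (adjx Λ U) (fun G a => rfl) _ f (isIso_smul_away f)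

/-- A linear map out of `Λ_f` with prescribed value at `1`, when `f` acts bijectively. -/
theorem exists_linearMap_away (f : Λ) (N : Type*) [AddCommGroup N] [Module Λ N]
    (hf : Function.Bijective (fun n : N => f • n)) (s : N) :
    ∃ φ : Localization.Away f →ₗ[Λ] N, φ 1 = s := by
  have hunit : IsUnit (algebraMap Λ (Module.End Λ N) f) := by
    rw [Module.End.isUnit_iff]
    exact hf
  have h : ∀ x : Submonoid.powers f, IsUnit (algebraMap Λ (Module.End Λ N) x) := by
    rintro ⟨_, k, rfl⟩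
    rw [map_pow]
    exact hunit.pow k
  refine ⟨IsLocalizedModule.lift (Submonoid.powers f)
    (Algebra.linearMap Λ (Localization.Away f)) (LinearMap.toSpanSingleton Λ N s) h, ?_⟩
  have := IsLocalizedModule.lift_apply (Submonoid.powers f)
    (Algebra.linearMap Λ (Localization.Away f)) (LinearMap.toSpanSingleton Λ N s) h 1
  rw [Algebra.linearMap_apply, map_one] at this
  rw [this]
  simp

/-- If `f` is invertible on `G`, it acts bijectively on sections. -/
theorem IsInv.bijective_sections {f : Λ} {G : EtModW.ModP Λ X} (hG : IsInv Λ f G)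
    (W : X.ProEt) : Function.Bijective (fun n : G.obj.obj (op W) => f • n) := by
  haveI : IsIso (ProEtDC.smulHom Λ G f) := hG
  have h1 : IsIso ((Rx Λ W).map (ProEtDC.smulHom Λ G f)) := inferInstance
  have h2 := (ConcreteCategory.isIso_iff_bijective _).mp h1
  exact h2

variable (Λ) in
/-- The index set of the generating family. -/
abbrev GenIdx (G : EtModW.ModP Λ X) : Type (u + 1) :=
  Σ W : {W : X.ProEt // ProEtS.IsWC W}, G.obj.obj (op W.1)

/-- Key lemma: a sheaf on which `f` is invertible is a quotient of a coproduct of sheaves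
`j_{W!} Λ_f` with `W` weakly contractible. -/
theorem exists_epi_of_isInv {f : Λ} {G : EtModW.ModP Λ X} (hG : IsInv Λ f G) :
    ∃ π : (∐ fun a : GenIdx Λ G => (Lx Λ a.1.1).obj (ModuleCat.of Λ (Localization.Away f))) ⟶ G,
      Epi π := by
  have hφ : ∀ a : GenIdx Λ G, ∃ φ : Localization.Away f →ₗ[Λ] G.obj.obj (op a.1.1),
      φ 1 = a.2 := fun a => exists_linearMap_away f _ (hG.bijective_sections a.1.1) a.2
  choose φ hφ using hφ
  let ψ : ∀ a : GenIdx Λ G, (Lx Λ a.1.1).obj (ModuleCat.of Λ (Localization.Away f)) ⟶ G :=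
    fun a => ((adjx Λ a.1.1).homEquiv _ G).symm (ModuleCat.ofHom (φ a))
  refine ⟨Sigma.desc ψ, ?_⟩
  rw [← Sheaf.isLocallySurjective_iff_epi' (ModuleCat.{u + 1} Λ)]
  constructor
  intro V t
  obtain ⟨W, g, hcov, hW⟩ := Groth.Agent.Lib.WCSiteH3.main0713 V
  refine (Scheme.ProEt.topology X).superset_covering ?_ hcov
  rw [Sieve.generate_le_iff]
  rintro _ _ ⟨⟩
  let a : GenIdx Λ G := ⟨⟨W, hW⟩, G.obj.map g.op t⟩
  let u0 : ((Lx Λ W).obj (ModuleCat.of Λ (Localization.Away f))).obj.obj (op W) :=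
    ((adjx Λ W).unit.app (ModuleCat.of Λ (Localization.Away f))).hom (1 : Localization.Away f)
  refine ⟨((Rx Λ W).map (Sigma.ι (fun a : GenIdx Λ G =>
    (Lx Λ a.1.1).obj (ModuleCat.of Λ (Localization.Away f))) a)).hom u0, ?_⟩
  have h1 : Sigma.ι (fun a : GenIdx Λ G =>
      (Lx Λ a.1.1).obj (ModuleCat.of Λ (Localization.Away f))) a ≫ Sigma.desc ψ = ψ a :=
    Sigma.ι_desc _ _
  have h2 : (adjx Λ W).unit.app (ModuleCat.of Λ (Localization.Away f)) ≫ (Rx Λ W).map (ψ a) =
      ModuleCat.ofHom (φ a) := by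
    exact (Adjunction.homEquiv_unit (adjx Λ W) _ _ (ψ a)).symm.trans
      (Equiv.apply_symm_apply _ _)
  have h3 : ((Rx Λ W).map (ψ a)).hom u0 = φ a 1 := by
    have := congrArg (fun m => m.hom (1 : Localization.Away f)) h2
    exact this
  show ((Rx Λ W).map (Sigma.desc ψ)).hom (((Rx Λ W).map (Sigma.ι _ a)).hom u0) = G.obj.map g.op t
  have h4 : ((Rx Λ W).map (Sigma.desc ψ)).hom (((Rx Λ W).map (Sigma.ι (fun a : GenIdx Λ G =>
      (Lx Λ a.1.1).obj (ModuleCat.of Λ (Localization.Away f))) a)).hom u0) =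
      ((Rx Λ W).map (ψ a)).hom u0 := by
    rw [← h1, Functor.map_comp]
    rfl
  rw [h4, h3, hφ a]

/-- If the sections of `F` over weakly contractible objects are derived `f`-complete, then
`Ext^n(G, F) = 0` for every sheaf `G` on which `f` is invertible. -/
theorem ext_vanish_of_isInv (f : Λ) (F : EtModW.ModP Λ X)
    (hF : ∀ W : X.ProEt, ProEtS.IsWC W → DCSeq f (F.obj.obj (op W))) :
    ∀ (n : ℕ) (G : EtModW.ModP Λ X), IsInv Λ f G → Subsingleton (Abelian.Ext.{u + 1} G F n) := by
  have hP : ∀ (G : EtModW.ModP Λ X) (n : ℕ), Subsingleton (Abelian.Ext.{u + 1}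
      (∐ fun a : GenIdx Λ G => (Lx Λ a.1.1).obj (ModuleCat.of Λ (Localization.Away f))) F n) :=
    fun G n => ext_sigma_vanish _ n F
      (fun a => ext_vanish_Lx Λ a.1.1 a.1.2 f F (hF _ a.1.2) n)
  intro n
  induction n with
  | zero =>
    intro G hG
    obtain ⟨π, hπ⟩ := exists_epi_of_isInv hG
    haveI := hπ
    refine subsingleton_of_forall_eq 0 fun x => ?_
    obtain ⟨h, rfl⟩ := (Abelian.Ext.mk₀_bijective _ _).2 x
    have h1 : Abelian.Ext.mk₀ (π ≫ h) = Abelian.Ext.mk₀ 0 := (hP G 0).elim _ _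
    have h2 : π ≫ h = 0 := (Abelian.Ext.mk₀_bijective _ _).1 h1
    have h3 : h = 0 := by
      rw [← cancel_epi π, h2, comp_zero]
    rw [h3, Abelian.Ext.mk₀_zero]
  | succ n ih =>
    intro G hG
    obtain ⟨π, hπ⟩ := exists_epi_of_isInv hG
    haveI := hπ
    let S : ShortComplex (EtModW.ModP Λ X) := ShortComplex.mk (kernel.ι π) π (kernel.condition π)
    have hS : S.ShortExact :=
      ShortComplex.ShortExact.mk' (ShortComplex.exact_kernel π)
        (inferInstanceAs (Mono (kernel.ι π))) hπ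
    refine subsingleton_of_forall_eq 0 fun x => ?_
    have h1 : (Abelian.Ext.mk₀ S.g).comp x (zero_add (n + 1)) = 0 := (hP G (n + 1)).elim _ _
    obtain ⟨x₁, hx₁⟩ := Abelian.Ext.contravariant_sequence_exact₃ hS F x h1 (n₀ := n)
      (by omega)
    have hK : IsInv Λ f (kernel π) :=
      IsInv.kernel π (IsInv.sigma _ (fun a => isInv_Lx a.1.1 f)) hG
    haveI := ih (kernel π) hK
    have hx0 : x₁ = 0 := Subsingleton.elim _ _
    rw [← hx₁, hx0, Abelian.Ext.comp_zero]

/-- The converse criterion: a sheaf whose sections over weakly contractible objects are derived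
complete is derived complete. -/
theorem isDCSheaf_of_sections (I : Ideal Λ) (F : EtModW.ModP Λ X)
    (hF : ∀ W : X.ProEt, ProEtS.IsWC W → ∀ f ∈ I, DCSeq f (F.obj.obj (op W))) :
    ProEtDC.IsDCSheaf Λ I F := by
  intro U f hf n
  exact ext_vanish_of_isInv f F (fun W hW => hF W hW f hf) n _ (isInv_locExt U f)

/-- The criterion, as an equivalence. -/
theorem isDCSheaf_iff (I : Ideal Λ) (F : EtModW.ModP Λ X) :
    ProEtDC.IsDCSheaf Λ I F ↔
      ∀ W : X.ProEt, ProEtS.IsWC W → ∀ f ∈ I, DCSeq f (F.obj.obj (op W)) :=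
  ⟨fun h W _ f hf => dcSeq_sections Λ F h W f hf, isDCSheaf_of_sections I F⟩

end Groth.Agent.Lib.DCShH3
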