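import Mathlib
import Groth.Prelude.Def_ProEtDC
import Groth.Agent.Lib.DCSh8_helper3

/-!
# Limits of derived complete sheaves (helper3)
-/

set_option autoImplicit false
set_option linter.all false
set_option maxHeartbeats 1600000

open CategoryTheory Limits Opposite AlgebraicGeometry

namespace Groth.Agent.Lib.DCShH3

universe u

section Module

variable {Λ : Type (u + 1)} [CommRing Λ] (f : Λ)

/-- A limit of derived complete modules is derived complete. -/
theorem DCSeq.of_isLimit {J : Type*} [Category J] (K : J ⥤ ModuleCat.{u + 1} Λ) (c : Cone K)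
    (hc : IsLimit c) (h : ∀ j, DCSeq f (K.obj j)) : DCSeq f c.pt := by
  have hl := isLimitOfPreserves (forget (ModuleCat.{u + 1} Λ)) hc
  have hinj : ∀ x y : c.pt, (∀ j, (c.π.app j).hom x = (c.π.app j).hom y) → x = y := by
    intro x y hxy
    exact Concrete.isLimit_ext _ hc _ _ hxy
  have hπT : ∀ (j : J) (m : ℕ → c.pt), (fun n => (c.π.app j).hom (Tseq f c.pt m n)) =
      Tseq f (K.obj j) (fun n => (c.π.app j).hom (m n)) := by
    intro j m
    exact (Tseq_map (c.π.app j).hom m).symm
  constructor
  · rw [Tseq_injective_iff]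
    intro m hm
    funext n
    apply hinj
    intro j
    have h1 : Tseq f (K.obj j) (fun n => (c.π.app j).hom (m n)) = 0 := by
      rw [← hπT j m, hm]
      funext n
      simp
    have h2 := (Tseq_injective_iff.mp (h j).1) _ h1
    have := congrFun h2 n
    simpa using this
  · intro m
    choose y hy using fun j => (h j).2 (fun n => (c.π.app j).hom (m n))
    have hcompat : ∀ {j j' : J} (φ : j ⟶ j') (n : ℕ), (K.map φ).hom (y j n) = y j' n := by
      intro j j' φ n
      have h1 : Tseq f (K.obj j') (fun n => (K.map φ).hom (y j n)) = Tseq f (K.obj j') (y j') := by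
        rw [Tseq_map (K.map φ).hom (y j), hy j, hy j']
        funext n
        have hw := c.w φ
        have := congrArg (fun t => t.hom (m n)) hw
        exact this
      exact congrFun ((h j').1 h1) n
    have hex : ∀ n, ∃ x : c.pt, ∀ j, (c.π.app j).hom x = y j n := by
      intro n
      have key := (Types.isLimit_iff _).mp ⟨hl⟩ (fun j => y j n) (by
        intro j j' φ
        exact hcompat φ n)
      obtain ⟨x, hx, -⟩ := key
      exact ⟨x, hx⟩
    choose x hx using hex
    refine ⟨x, ?_⟩
    funext n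
    apply hinj
    intro j
    have h1 : (c.π.app j).hom (Tseq f c.pt x n) =
        Tseq f (K.obj j) (fun n => (c.π.app j).hom (x n)) n := congrFun (hπT j x) n
    rw [h1]
    have h2 : (fun n => (c.π.app j).hom (x n)) = y j := funext fun n => hx n j
    rw [h2, hy j]

end Module

section Sheaf

variable {X : Scheme.{u}} {Λ : Type (u + 1)} [CommRing Λ]

/-- Limits of derived complete sheaves are derived complete. -/
theorem isDCSheaf_limit {J : Type (u + 1)} [Category.{u + 1} J] (I : Ideal Λ)
    (D : J ⥤ EtModW.ModP Λ X) (hD : ∀ j, ProEtDC.IsDCSheaf Λ I (D.obj j)) :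
    ProEtDC.IsDCSheaf Λ I (limit D) := by
  apply isDCSheaf_of_sections
  intro W hW f hf
  haveI : PreservesLimitsOfSize.{u + 1, u + 1} (Rx Λ W) :=
    (adjx Λ W).rightAdjoint_preservesLimits
  have hc := isLimitOfPreserves (Rx Λ W) (limit.isLimit D)
  exact DCSeq.of_isLimit f (D ⋙ Rx Λ W) _ hc
    (fun j => dcSeq_sections Λ (D.obj j) (hD j) W f hf)

theorem main0764 (X : Scheme.{u}) (Λ : Type (u + 1)) [CommRing Λ]
    (I : Ideal Λ) (D : ℕᵒᵖ ⥤ EtModW.ModP Λ X)
    (hD : ∀ n : ℕ, ProEtDC.IsDCSheaf Λ I (D.obj (op n))) :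
    ProEtDC.IsDCSheaf Λ I (limit D) := by
  apply isDCSheaf_of_sections
  intro W hW f hf
  haveI : PreservesLimitsOfSize.{0, 0} (Rx Λ W) :=
    (adjx Λ W).rightAdjoint_preservesLimits
  have hc := isLimitOfPreserves (Rx Λ W) (limit.isLimit D)
  exact DCSeq.of_isLimit f (D ⋙ Rx Λ W) _ hc
    (fun j => dcSeq_sections Λ (D.obj j) (hD j.unop) W f hf)

end Sheaf

end Groth.Agent.Lib.DCShH3
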