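import Mathlib
import Groth.Prelude.Def_ProEtDC
import Groth.Agent.Lib.DCSh9_helper3

/-!
# The completed constant sheaf is derived complete (helper3)
-/

set_option autoImplicit false
set_option linter.all false
set_option maxHeartbeats 1600000

open CategoryTheory Limits Opposite AlgebraicGeometry

namespace Groth.Agent.Lib.DCShH3

universe u

section Module

variable {Λ : Type*} [CommRing Λ] (f : Λ)

/-- A module killed by a power of `f` is derived `f`-complete. -/
theorem DCSeq.of_pow_smul_eq_zero {M : Type*} [AddCommGroup M] [Module Λ M] (n : ℕ)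
    (h : ∀ m : M, f ^ n • m = 0) : DCSeq f M := by
  constructor
  · rw [Tseq_injective_iff]
    intro m hm
    have h1 : ∀ k, m k = f • m (k + 1) := by
      intro k
      have := congrFun hm k
      simp only [Tseq, Pi.zero_apply] at this
      exact (sub_eq_zero.mp this).symm
    have h2 : ∀ j k, m k = f ^ j • m (k + j) := by
      intro j
      induction j with
      | zero => intro k; simp
      | succ j ih =>
        intro k
        rw [ih k, h1 (k + j), smul_smul, pow_succ, add_assoc]
    funext k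
    rw [h2 n k, h]
    rfl
  · intro m
    refine ⟨fun k => -∑ j ∈ Finset.range n, f ^ j • m (k + j), ?_⟩
    funext k
    simp only [Tseq]
    have h1 : f • ∑ j ∈ Finset.range n, f ^ j • m (k + 1 + j) =
        ∑ j ∈ Finset.range n, f ^ (j + 1) • m (k + (j + 1)) := by
      rw [Finset.smul_sum]
      refine Finset.sum_congr rfl fun j _ => ?_
      rw [smul_smul, pow_succ, mul_comm, add_assoc, add_comm 1 j]
    have h2 : ∑ j ∈ Finset.range n, (f ^ j • m (k + j) - f ^ (j + 1) • m (k + (j + 1))) =
        f ^ 0 • m (k + 0) - f ^ n • m (k + n) :=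
      Finset.sum_range_sub' (fun j => f ^ j • m (k + j)) n
    rw [smul_neg, h1, neg_sub_neg, ← Finset.sum_sub_distrib, h2, h, sub_zero, pow_zero, one_smul,
      add_zero]

end Module

section Sheaf

variable {X : Scheme.{u}} (Λ : Type (u + 1)) [CommRing Λ]

/-- A left adjoint of a "linear" functor is linear. -/
theorem map_smul_eq_smulHom {L : ModuleCat.{u + 1} Λ ⥤ EtModW.ModP Λ X}
    {R : EtModW.ModP Λ X ⥤ ModuleCat.{u + 1} Λ} (adj : L ⊣ R)
    (hR : ∀ (G : EtModW.ModP Λ X) (a : Λ),
      R.map (ProEtDC.smulHom Λ G a) = ModuleCat.ofHom (a • LinearMap.id))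
    (M : ModuleCat.{u + 1} Λ) (a : Λ) :
    L.map (ModuleCat.ofHom (a • LinearMap.id : M →ₗ[Λ] M)) = ProEtDC.smulHom Λ (L.obj M) a := by
  apply (adj.homEquiv M (L.obj M)).injective
  rw [Adjunction.homEquiv_unit, Adjunction.homEquiv_unit, hR]
  have := adj.unit.naturality (ModuleCat.ofHom (a • LinearMap.id : M →ₗ[Λ] M))
  simp only [Functor.id_obj, Functor.id_map, Functor.comp_obj, Functor.comp_map] at this
  rw [← this]
  apply ModuleCat.hom_ext
  apply LinearMap.ext
  intro m
  show (adj.unit.app M).hom (a • m) = a • (adj.unit.app M).hom m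
  rw [map_smul]

/-- Sections of a constant sheaf whose value is killed by `a` are killed by `a`. -/
theorem smul_sections_constantSheaf (M : ModuleCat.{u + 1} Λ) (a : Λ)
    (ha : ∀ m : M, a • m = 0) (W : X.ProEt)
    (s : ((constantSheaf (Scheme.ProEt.topology X) (ModuleCat.{u + 1} Λ)).obj M).obj.obj (op W)) :
    a • s = 0 := by
  have hzero : (ModuleCat.ofHom (a • LinearMap.id : M →ₗ[Λ] M)) = 0 := by
    apply ModuleCat.hom_ext
    apply LinearMap.ext
    intro m
    exact ha m
  have h1 := map_smul_eq_smulHom Λ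
    (constantSheafAdj (Scheme.ProEt.topology X) (ModuleCat.{u + 1} Λ)
      (terminalIsTerminal (C := X.ProEt))) (fun G a => rfl) M a
  rw [hzero, Functor.map_zero] at h1
  have h2 := congrArg (fun φ => ((Rx Λ W).map φ).hom s) h1
  exact h2.symm

theorem main0776 (X : Scheme.{u}) (Λ : Type (u + 1)) [CommRing Λ] (I : Ideal Λ) :
    ProEtDC.IsDCSheaf Λ I (ProEtDC.lambdaHat Λ X I) := by
  apply isDCSheaf_of_sections
  intro W hW f hf
  haveI : PreservesLimitsOfSize.{0, 0} (Rx Λ W) :=
    (adjx Λ W).rightAdjoint_preservesLimits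
  have hc := isLimitOfPreserves (Rx Λ W) (limit.isLimit
    (ProEtDC.quotTower Λ I ⋙ constantSheaf (Scheme.ProEt.topology X) (ModuleCat.{u + 1} Λ)))
  refine DCSeq.of_isLimit f ((ProEtDC.quotTower Λ I ⋙
    constantSheaf (Scheme.ProEt.topology X) (ModuleCat.{u + 1} Λ)) ⋙ Rx Λ W) _ hc (fun j => ?_)
  refine DCSeq.of_pow_smul_eq_zero f j.unop (fun s => ?_)
  have hkill : ∀ m : Λ ⧸ (I ^ j.unop • ⊤ : Submodule Λ Λ), f ^ j.unop • m = 0 := by
    intro m
    obtain ⟨x, rfl⟩ := Submodule.Quotient.mk_surjective _ m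
    rw [← Submodule.Quotient.mk_smul, Submodule.Quotient.mk_eq_zero]
    exact Submodule.smul_mem_smul (Ideal.pow_mem_pow hf _) Submodule.mem_top
  exact smul_sections_constantSheaf Λ ((ProEtDC.quotTower Λ I).obj j) (f ^ j.unop) hkill W s

end Sheaf

end Groth.Agent.Lib.DCShH3
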