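import Mathlib
import Groth.Prelude.Def_ProEtDC
import Groth.Agent.Lib.DCSh8_helper3

/-!
# Derived complete sheaves form a weak Serre subcategory (helper3)
-/

set_option autoImplicit false
set_option linter.all false
set_option maxHeartbeats 1600000

open CategoryTheory Limits Opposite AlgebraicGeometry

namespace Groth.Agent.Lib.DCShH3

universe u

section Module

variable {Λ : Type*} [CommRing Λ] (f : Λ)
variable {K M N : Type*} [AddCommGroup K] [AddCommGroup M] [AddCommGroup N]
  [Module Λ K] [Module Λ M] [Module Λ N]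

/-- Kernels of maps between derived complete modules are derived complete. -/
theorem DCSeq.of_exact_left (ι : K →ₗ[Λ] M) (g : M →ₗ[Λ] N) (hι : Function.Injective ι)
    (hex : ∀ m, g m = 0 → ∃ k, ι k = m) (hg0 : ∀ k, g (ι k) = 0)
    (hM : DCSeq f M) (hN : Function.Injective (Tseq f N)) : DCSeq f K := by
  constructor
  · rw [Tseq_injective_iff]
    intro k hk
    have h1 : Tseq f M (fun n => ι (k n)) = 0 := by
      rw [Tseq_map ι k, hk]
      funext n
      simp
    have h2 := (Tseq_injective_iff.mp hM.1) _ h1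
    funext n
    apply hι
    have := congrFun h2 n
    simpa using this
  · intro k
    obtain ⟨m, hm⟩ := hM.2 (fun n => ι (k n))
    have h1 : Tseq f N (fun n => g (m n)) = 0 := by
      rw [Tseq_map g m, hm]
      funext n
      simp [hg0]
    have h2 := (Tseq_injective_iff.mp hN) _ h1
    have h3 : ∀ n, ∃ k', ι k' = m n := fun n => hex _ (by simpa using congrFun h2 n)
    choose k' hk' using h3
    refine ⟨k', ?_⟩
    funext n
    apply hι
    have h4 : (fun n => ι (k' n)) = m := funext hk'
    have h5 := congrFun (Tseq_map (f := f) ι k') n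
    rw [h4, hm] at h5
    exact h5.symm

/-- Cokernels of maps between derived complete modules are derived complete. -/
theorem DCSeq.of_exact_right (g : M →ₗ[Λ] N) (p : N →ₗ[Λ] K) (hp : Function.Surjective p)
    (hex : ∀ n, p n = 0 → ∃ m, g m = n) (hpg : ∀ m, p (g m) = 0)
    (hM : Function.Surjective (Tseq f M)) (hN : DCSeq f N) : DCSeq f K := by
  constructor
  · rw [Tseq_injective_iff]
    intro q hq
    choose n hn using fun k => hp (q k)
    have h1 : ∀ k, p (Tseq f N n k) = 0 := by
      intro k
      have := congrFun hq k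
      simp only [Tseq, Pi.zero_apply] at this
      simp only [Tseq, map_sub, map_smul, hn]
      exact this
    choose m hm using fun k => hex _ (h1 k)
    obtain ⟨m', hm'⟩ := hM m
    have h2 : Tseq f N (n - fun k => g (m' k)) = 0 := by
      rw [Tseq_sub, Tseq_map g m', hm']
      funext k
      simp only [Pi.sub_apply, Pi.zero_apply, hm k, sub_self]
    have h3 := (Tseq_injective_iff.mp hN.1) _ h2
    funext k
    have h4 : n k = g (m' k) := by
      have := congrFun h3 k
      simpa [sub_eq_zero] using this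
    rw [← hn k, h4, hpg]
    rfl
  · intro q
    choose n hn using fun k => hp (q k)
    obtain ⟨n', hn'⟩ := hN.2 n
    refine ⟨fun k => p (n' k), ?_⟩
    have h1 := Tseq_map (f := f) p n'
    rw [h1, hn']
    funext k
    exact hn k

/-- Extensions of derived complete modules are derived complete. -/
theorem DCSeq.of_extension (ι : K →ₗ[Λ] M) (p : M →ₗ[Λ] N) (hι : Function.Injective ι)
    (hp : Function.Surjective p) (hex : ∀ m, p m = 0 → ∃ k, ι k = m) (hpι : ∀ k, p (ι k) = 0)
    (hK : DCSeq f K) (hN : DCSeq f N) : DCSeq f M := by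
  constructor
  · rw [Tseq_injective_iff]
    intro m hm
    have h1 : Tseq f N (fun n => p (m n)) = 0 := by
      rw [Tseq_map p m, hm]
      funext n
      simp
    have h2 := (Tseq_injective_iff.mp hN.1) _ h1
    choose k hk using fun n => hex (m n) (by simpa using congrFun h2 n)
    have hkm : (fun n => ι (k n)) = m := funext hk
    have h3 : Tseq f K k = 0 := by
      funext n
      apply hι
      have h5 := congrFun (Tseq_map (f := f) ι k) n
      rw [hkm, hm] at h5
      simpa using h5.symm
    have h4 := (Tseq_injective_iff.mp hK.1) _ h3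
    rw [← hkm]
    funext n
    simp [congrFun h4 n]
  · intro m
    obtain ⟨y'', hy''⟩ := hN.2 (fun n => p (m n))
    choose y hy using fun n => hp (y'' n)
    have hpy : (fun n => p (y n)) = y'' := funext hy
    have h1 : ∀ n, p ((m - Tseq f M y) n) = 0 := by
      intro n
      have h2 := congrFun (Tseq_map (f := f) p y) n
      rw [hpy, hy''] at h2
      simp only [Pi.sub_apply, map_sub]
      rw [← h2, sub_self]
    choose z hz using fun n => hex _ (h1 n)
    obtain ⟨w, hw⟩ := hK.2 z
    refine ⟨y + fun n => ι (w n), ?_⟩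
    rw [Tseq_add, Tseq_map ι w, hw]
    funext n
    simp only [Pi.add_apply, hz n, Pi.sub_apply]
    abel

end Module

section Sheaf

variable {X : Scheme.{u}} {Λ : Type (u + 1)} [CommRing Λ]

/-- Left exactness of sections. -/
theorem sections_exact_left (S : ShortComplex (EtModW.ModP Λ X)) (hS : S.Exact) [Mono S.f]
    (W : X.ProEt) :
    Function.Injective ((Rx Λ W).map S.f).hom ∧
      ∀ m, ((Rx Λ W).map S.g).hom m = 0 → ∃ k, ((Rx Λ W).map S.f).hom k = m := by
  haveI : PreservesLimitsOfSize.{0, 0} (Rx Λ W) := (adjx Λ W).rightAdjoint_preservesLimits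
  constructor
  · have : Mono ((Rx Λ W).map S.f) := inferInstance
    exact (ModuleCat.mono_iff_injective _).mp this
  · have h1 : (S.map (Rx Λ W)).Exact :=
      hS.map_of_mono_of_preservesKernel (Rx Λ W) inferInstance inferInstance
    rw [ShortComplex.moduleCat_exact_iff] at h1
    exact h1

theorem comp_sections {F G H : EtModW.ModP Λ X} (φ : F ⟶ G) (ψ : G ⟶ H) (W : X.ProEt)
    (m : F.obj.obj (op W)) :
    ((Rx Λ W).map ψ).hom (((Rx Λ W).map φ).hom m) = ((Rx Λ W).map (φ ≫ ψ)).hom m := by
  rw [Functor.map_comp]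
  rfl

theorem main0763 (X : Scheme.{u}) (Λ : Type (u + 1)) [CommRing Λ] (I : Ideal Λ) :
    (∀ (F G : EtModW.ModP Λ X) (φ : F ⟶ G), ProEtDC.IsDCSheaf Λ I F → ProEtDC.IsDCSheaf Λ I G →
      ProEtDC.IsDCSheaf Λ I (kernel φ) ∧ ProEtDC.IsDCSheaf Λ I (cokernel φ)) ∧
    ∀ (S : ShortComplex (EtModW.ModP Λ X)), S.ShortExact →
      ProEtDC.IsDCSheaf Λ I S.X₁ → ProEtDC.IsDCSheaf Λ I S.X₃ → ProEtDC.IsDCSheaf Λ I S.X₂ := by
  refine ⟨fun F G φ hF hG => ⟨?_, ?_⟩, fun S hS h1 h3 => ?_⟩
  · apply isDCSheaf_of_sections
    intro W hW f hf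
    let S : ShortComplex (EtModW.ModP Λ X) :=
      ShortComplex.mk (kernel.ι φ) φ (kernel.condition φ)
    haveI : Mono S.f := inferInstanceAs (Mono (kernel.ι φ))
    obtain ⟨hinj, hex⟩ := sections_exact_left S (ShortComplex.exact_kernel φ) W
    refine DCSeq.of_exact_left f ((Rx Λ W).map (kernel.ι φ)).hom ((Rx Λ W).map φ).hom hinj hex
      ?_ (dcSeq_sections Λ F hF W f hf) (dcSeq_sections Λ G hG W f hf).1
    intro k
    refine (comp_sections (kernel.ι φ) φ W k).trans ?_
    rw [kernel.condition, Functor.map_zero]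
    rfl
  · apply isDCSheaf_of_sections
    intro W hW f hf
    let S : ShortComplex (EtModW.ModP Λ X) :=
      ShortComplex.mk (kernel.ι (cokernel.π φ)) (cokernel.π φ) (kernel.condition _)
    haveI : Mono S.f := inferInstanceAs (Mono (kernel.ι (cokernel.π φ)))
    obtain ⟨-, hex⟩ := sections_exact_left S (ShortComplex.exact_kernel _) W
    have hfac : Abelian.factorThruImage φ ≫ kernel.ι (cokernel.π φ) = φ := Abelian.image.fac φ
    refine DCSeq.of_exact_right f ((Rx Λ W).map φ).hom ((Rx Λ W).map (cokernel.π φ)).hom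
      (surjective_of_isWC_mod Λ (cokernel.π φ) W hW) ?_ ?_
      (dcSeq_sections Λ F hF W f hf).2 (dcSeq_sections Λ G hG W f hf)
    · intro n hn
      obtain ⟨y, hy⟩ := hex n hn
      obtain ⟨m, hm⟩ := surjective_of_isWC_mod Λ (Abelian.factorThruImage φ) W hW y
      refine ⟨m, ?_⟩
      have h1 : ((Rx Λ W).map (Abelian.factorThruImage φ)).hom m = y := hm
      rw [← hy, ← h1]
      refine Eq.trans ?_ (comp_sections (Abelian.factorThruImage φ) (kernel.ι (cokernel.π φ))
        W m).symm
      rw [hfac]
    · intro m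
      refine (comp_sections φ (cokernel.π φ) W m).trans ?_
      rw [cokernel.condition, Functor.map_zero]
      rfl
  · apply isDCSheaf_of_sections
    intro W hW f hf
    haveI := hS.mono_f
    haveI := hS.epi_g
    obtain ⟨hinj, hex⟩ := sections_exact_left S hS.exact W
    refine DCSeq.of_extension f ((Rx Λ W).map S.f).hom ((Rx Λ W).map S.g).hom hinj
      (surjective_of_isWC_mod Λ S.g W hW) hex ?_
      (dcSeq_sections Λ S.X₁ h1 W f hf) (dcSeq_sections Λ S.X₃ h3 W f hf)
    intro k
    refine (comp_sections S.f S.g W k).trans ?_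
    rw [S.zero, Functor.map_zero]
    rfl

end Sheaf

end Groth.Agent.Lib.DCShH3
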