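import Mathlib
import Groth.Prelude
import Groth.Agent.Lib.OmField_helper9
import Groth.Agent.Lib.CurveNondeg1_helper9
import Groth.Agent.Lib.ProjTens1_helper9

/-!
# Applications of Ω-duality over an arbitrary field (helper9)
APPEND-ONLY once landed.
-/

set_option autoImplicit false
universe u
open AlgebraicGeometry CategoryTheory CategoryTheory.Limits TopologicalSpace Opposite

namespace OmField

open Groth.Agent.TensInv CohB1

section Field

variable (k : Type u) [Field k] (C : Scheme.{u}) [C.Over (Spec (CommRingCat.of k))]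
  [IsProper (C ↘ Spec (CommRingCat.of k))] [Smooth (C ↘ Spec (CommRingCat.of k))]
  [GeometricallyConnected (C ↘ Spec (CommRingCat.of k))]

/-- **statement of S7842**: on a hyperelliptic curve, `L^{g-1} ≅ Ω` for the `g¹₂` `L` -/
theorem main7842 (hC : topologicalKrullDim C = 1)
    (g : ℕ) (hg2 : 2 ≤ g) (hg : Curv2.genus k C = g)
    (f : C ⟶ CohB1.ProjSpace 1 k)
    (hf : f ≫ CohB1.ProjSpace.toSpec 1 k = C ↘ Spec (CommRingCat.of k)) [IsFinite f] [Flat f]
    (hrk : ∀ y : ↥(CohB1.ProjSpace 1 k), Scheme.Hom.finrank f y = 2) :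
    Nonempty (CohB1.tensorPow ((Scheme.Modules.pullback f).obj (Twist.twistProjSpace 1 k 1))
      (g - 1) ≅ Omega.sheaf (C ↘ Spec (CommRingCat.of k))) := by
  haveI := isIntegral k C
  obtain ⟨hLinv, hLdeg, -⟩ := HypEll.g12_of_cover k C f hf hrk
  have h0 := HypEll.main14340 k C hC g hg f hf hrk (g - 1) (by omega)
  apply main13457 k C hC _ (TensH8.isInvertible_tensorPow hLinv (g - 1))
  · rw [CurveTens.deg_tensorPow k C hC.le hLinv, hLdeg, hg]
    have : ((g - 1 : ℕ) : ℤ) = (g : ℤ) - 1 := by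
      rw [Nat.cast_sub (by omega)]; norm_num
    rw [this]; ring
  · rw [h0, hg]; omega

end Field

section PullLin

open CurveTens CurveNondeg

variable (k : Type u) [Field k] (r : ℕ) (X : Scheme.{u}) [X.Over (Spec (CommRingCat.of k))]
  (i : X ⟶ CohB1.ProjSpace r k)
  (hi : i ≫ CohB1.ProjSpace.toSpec r k = X ↘ Spec (CommRingCat.of k))
  (M : (CohB1.ProjSpace r k).Modules)

/-- pulling back global sections along a `k`-morphism to projective space, as a `k`-linear map
on `H⁰` -/
noncomputable def pullLin : Coh.HH (CohB1.ProjSpace r k) M 0 →ₗ[k]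
    Coh.HH X ((Scheme.Modules.pullback i).obj M) 0 where
  toFun v := (e₀ ((Scheme.Modules.pullback i).obj M)).symm (pullTop i M (e₀ M v))
  map_add' v w := by rw [map_add, map_add, map_add]
  map_smul' c v := by
    have h1 : c • v = (Coh.toGlobal (CohB1.ProjSpace.toSpec r k) c) • v := rfl
    have h2 : ∀ w : Coh.HH X ((Scheme.Modules.pullback i).obj M) 0,
        c • w = (Coh.toGlobal (X ↘ Spec (CommRingCat.of k)) c) • w := fun _ => rfl
    rw [RingHom.id_apply, h1, h2]
    apply (e₀ ((Scheme.Modules.pullback i).obj M)).injective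
    show e₀ _ ((e₀ _).symm (pullTop i M (e₀ M (_ • v)))) =
      e₀ _ (_ • (e₀ _).symm (pullTop i M (e₀ M v)))
    rw [AddEquiv.apply_symm_apply, e₀_smul, e₀_smul, AddEquiv.apply_symm_apply, pullTop_smul]
    congr 1
    have h3 : Coh.toGlobal (X ↘ Spec (CommRingCat.of k)) c =
        Coh.toGlobal (i ≫ CohB1.ProjSpace.toSpec r k) c := by rw [hi]
    rw [h3]
    rfl

theorem e₀_pullLin (v : Coh.HH (CohB1.ProjSpace r k) M 0) :
    e₀ ((Scheme.Modules.pullback i).obj M) (pullLin k r X i hi M v) =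
      OmegaSh.pullSect i M ⊤ (e₀ M v) := by
  show e₀ _ ((e₀ _).symm _) = _
  rw [AddEquiv.apply_symm_apply]
  rfl

end PullLin

section Quadric

variable (k : Type u) [Field k] (X : Scheme.{u}) [X.Over (Spec (CommRingCat.of k))]
  [IsProper (X ↘ Spec (CommRingCat.of k))] [Smooth (X ↘ Spec (CommRingCat.of k))]
  [GeometricallyConnected (X ↘ Spec (CommRingCat.of k))]

/-- an invertible module of negative degree has no sections (any field) -/
theorem finrank_HH0_eq_zero_of_deg_neg (hdim : topologicalKrullDim X = 1) {N : X.Modules}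
    (hN : PicF.IsInvertible N) (hd : Curv2.deg k X N 1 < 0) :
    Module.finrank k (Coh.HH X N 0) = 0 := by
  haveI := isIntegral k X
  by_contra h
  obtain ⟨s, hs⟩ := CurveRR.exists_section_of_finrank_pos k X N (Nat.pos_of_ne_zero h)
  have := CurveDeg.deg_nonneg_of_section k X hdim hN s hs
  omega

/-- `h⁰(Ω ⊗ Ω) = 3g - 3` for `g ≥ 2` -/
theorem finrank_HH0_Omega_sq (hdim : topologicalKrullDim X = 1) (hg : 2 ≤ Curv2.genus k X) :
    (Module.finrank k (Coh.HH X (tensorMod (Omega.sheaf (X ↘ Spec (CommRingCat.of k)))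
      (Omega.sheaf (X ↘ Spec (CommRingCat.of k)))) 0) : ℤ) = 3 * (Curv2.genus k X : ℤ) - 3 := by
  haveI := isIntegral k X
  have hΩ := isInvertible_Omega k X hdim
  have hN := TensH8.isInvertible_tensorMod hΩ hΩ
  obtain ⟨N', hN', ⟨e⟩⟩ := Groth.Agent.InvTensP.exists_inverse _ hN
  haveI : (tensorMod (Omega.sheaf (X ↘ Spec (CommRingCat.of k)))
      (Omega.sheaf (X ↘ Spec (CommRingCat.of k)))).IsQuasicoherent :=
    TensH8.isQuasicoherent_of_isInvertible hN
  haveI : (Coh.structureModule X).IsQuasicoherent := TensH8.isQuasicoherent_structureModule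
  have dN := CurveTens.deg_tensorMod k X hdim.le hΩ hΩ
  rw [deg_Omega k X hdim] at dN
  have dNN := CurveTens.deg_tensorMod k X hdim.le hN hN'
  rw [CurveTens.deg_of_iso k X e 1, CurveDeg.deg_structureModule, dN] at dNN
  have dΩN := CurveTens.deg_tensorMod k X hdim.le hΩ hN'
  rw [deg_Omega k X hdim] at dΩN
  have hg' : (2 : ℤ) ≤ (Curv2.genus k X : ℤ) := by exact_mod_cast hg
  have h1 := finrank_HH1_eq_HH0_Omega_twist k X hdim hN e
  rw [finrank_HH0_eq_zero_of_deg_neg k X hdim (TensH8.isInvertible_tensorMod hΩ hN')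
    (by linarith)] at h1
  have hO0 := finrank_HH0_structureModule k X
  have hχN := CurveRR.euler_eq_sub k X hdim.le (tensorMod
    (Omega.sheaf (X ↘ Spec (CommRingCat.of k))) (Omega.sheaf (X ↘ Spec (CommRingCat.of k))))
  have hχO := CurveRR.euler_eq_sub k X hdim.le (Coh.structureModule X)
  have hgg : (Module.finrank k (Coh.HH X (Coh.structureModule X) 1) : ℤ) =
      (Curv2.genus k X : ℤ) := rfl
  unfold Curv2.deg at dN
  rw [hχN, hχO, hO0, hgg, h1] at dN
  push_cast at dN
  linarith

/-- **statement of S13461**: a canonically embedded curve of genus four lies on a quadric -/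
theorem main13461 (hdim : topologicalKrullDim X = 1) (hg : Curv2.genus k X = 4)
    (i : X ⟶ CohB1.ProjSpace 3 k)
    (hi : i ≫ CohB1.ProjSpace.toSpec 3 k = X ↘ Spec (CommRingCat.of k))
    (hcan : Nonempty ((Scheme.Modules.pullback i).obj (Twist.twistProjSpace 3 k 1) ≅
      Omega.sheaf (X ↘ Spec (CommRingCat.of k)))) :
    ∃ Q : Γ(Twist.twistProjSpace 3 k 2, ⊤), Q ≠ 0 ∧
      OmegaSh.pullSect i (Twist.twistProjSpace 3 k 2) ⊤ Q = 0 := by
  haveI := isIntegral k X
  obtain ⟨ecan⟩ := hcan
  have hΩ := isInvertible_Omega k X hdim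
  have hO1 : PicF.IsInvertible (Twist.twistProjSpace 3 k 1) :=
    Groth.Agent.Horrocks.isInvertible_OO 3 k 1
  obtain ⟨t⟩ := Groth.Agent.ProjTens.twist_add' 3 k 1 1 2 (by norm_num)
  have e2 : (Scheme.Modules.pullback i).obj (Twist.twistProjSpace 3 k 2) ≅
      tensorMod (Omega.sheaf (X ↘ Spec (CommRingCat.of k)))
        (Omega.sheaf (X ↘ Spec (CommRingCat.of k))) :=
    (Scheme.Modules.pullback i).mapIso t.symm ≪≫ PullTensH9.pullTensIso i hO1 hO1 ≪≫
      mapR ecan _ ≪≫ mapL _ ecan
  have h9 := finrank_HH0_Omega_sq k X hdim (by omega)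
  rw [hg] at h9
  have h9' : Module.finrank k (Coh.HH X ((Scheme.Modules.pullback i).obj
      (Twist.twistProjSpace 3 k 2)) 0) = 9 := by
    rw [(Groth.Agent.HypConn.hhEquivOfIso (A := k) e2 0).finrank_eq]
    have : (Module.finrank k (Coh.HH X (tensorMod (Omega.sheaf (X ↘ Spec (CommRingCat.of k)))
      (Omega.sheaf (X ↘ Spec (CommRingCat.of k)))) 0) : ℤ) = 9 := by rw [h9]; norm_num
    exact_mod_cast this
  have h10 : Module.finrank k (Coh.HH (CohB1.ProjSpace 3 k) (Twist.twistProjSpace 3 k 2) 0) =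
      10 := by
    have := Groth.Agent.ProjEuler.finrank_HH_zero k 3 2
    rw [Nat.cast_ofNat] at this
    rw [this]
    rfl
  have hLc : Coh.IsCoh ((Scheme.Modules.pullback i).obj (Twist.twistProjSpace 3 k 2)) :=
    ProperFinH9.isCoh_of_isInvertible (TensH8.isInvertible_pullback i
      (Groth.Agent.Horrocks.isInvertible_OO 3 k 2))
  haveI := ProperFinH9.finite_HH_of_proper k X _ hLc 0
  have hninj : ¬ Function.Injective (pullLin k 3 X i hi (Twist.twistProjSpace 3 k 2)) := by
    intro hinj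
    have := LinearMap.finrank_le_finrank_of_injective hinj
    omega
  rw [← LinearMap.ker_eq_bot, LinearMap.ker_eq_bot'] at hninj
  push Not at hninj
  obtain ⟨v, hv, hv0⟩ := hninj
  refine ⟨CurveTens.e₀ (Twist.twistProjSpace 3 k 2) v, fun h => hv0 ?_, ?_⟩
  · exact (CurveTens.e₀ (Twist.twistProjSpace 3 k 2)).injective (h.trans (map_zero _).symm)
  · have h := e₀_pullLin k 3 X i hi (Twist.twistProjSpace 3 k 2) v
    rw [hv, map_zero] at h
    exact h.symm

end Quadric

end OmField
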