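import Mathlib
import Groth.Prelude
import Groth.Agent.Lib.ConormBC1_helper7
import Groth.Agent.Lib.ConormTrans1_helper7
import Groth.Agent.Lib.OmegaFunct_helper4
import Groth.Agent.Lib.LimHomGlue_helper2

/-!
# Naturality of the extension class of the restricted cotangent sequence of a ribbon (helper7)
APPEND-ONLY once landed.
-/

set_option autoImplicit false
set_option linter.style.haveILetI false

universe w u

open CategoryTheory CategoryTheory.Limits AlgebraicGeometry Opposite TopologicalSpace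

namespace Groth.Agent.Lib.RibbonExtNatH7

open Groth.Agent.Lib.ConormBCH7

section General

variable {X Y Z : Scheme.{u}}

/-- Morphisms out of a pullback module are determined by their values on pulled back sections. -/
theorem pullback_hom_ext (h : Y ⟶ X) {M : X.Modules} {N : Y.Modules}
    (A B : (Scheme.Modules.pullback h).obj M ⟶ N)
    (H : ∀ (U : X.Opens) (m : Γ(M, U)),
      A.app (h ⁻¹ᵁ U) (OmegaSh.pullSect h M U m) = B.app (h ⁻¹ᵁ U) (OmegaSh.pullSect h M U m)) :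
    A = B := by
  apply ((Scheme.Modules.pullbackPushforwardAdjunction h).homEquiv M N).injective
  refine Scheme.Modules.hom_ext _ _ fun U => ?_
  refine AddCommGrpCat.hom_ext (AddMonoidHom.ext fun m => ?_)
  exact (Groth.Agent.Lib.OmegaFunctH4.app_pullSect h A U m).symm.trans
    ((H U m).trans (Groth.Agent.Lib.OmegaFunctH4.app_pullSect h B U m))

theorem pullSect_naturality (h : Y ⟶ X) {M M' : X.Modules} (θ : M ⟶ M') (U : X.Opens)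
    (m : Γ(M, U)) :
    ((Scheme.Modules.pullback h).map θ).app (h ⁻¹ᵁ U) (OmegaSh.pullSect h M U m) =
      OmegaSh.pullSect h M' U (θ.app U m) := by
  have h1 := (Scheme.Modules.pullbackPushforwardAdjunction h).unit.naturality θ
  have h2 := congrArg (fun ψ => (Scheme.Modules.Hom.app ψ U) m) h1
  exact h2.symm

theorem pullbackComp_inv_pullSect (a : X ⟶ Y) (b : Y ⟶ Z) (F : Z.Modules) (W : Z.Opens)
    (p : Γ(F, W)) :
    ((Scheme.Modules.pullbackComp a b).inv.app F).app ((a ≫ b) ⁻¹ᵁ W)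
      (OmegaSh.pullSect (a ≫ b) F W p) =
      OmegaSh.pullSect a ((Scheme.Modules.pullback b).obj F) (b ⁻¹ᵁ W)
        (OmegaSh.pullSect b F W p) := by
  have h1 := Groth.Agent.Lib.LimMod.pullbackComp_unit a b F W p
  have h2 : ((Scheme.Modules.pullbackComp a b).inv.app F).app ((a ≫ b) ⁻¹ᵁ W)
      (((Scheme.Modules.pullbackComp a b).hom.app F).app (a ⁻¹ᵁ (b ⁻¹ᵁ W))
        (OmegaSh.pullSect a ((Scheme.Modules.pullback b).obj F) (b ⁻¹ᵁ W)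
          (OmegaSh.pullSect b F W p))) =
      ((Scheme.Modules.pullbackComp a b).inv.app F).app ((a ≫ b) ⁻¹ᵁ W)
        (OmegaSh.pullSect (a ≫ b) F W p) :=
    congrArg (fun z => ((Scheme.Modules.pullbackComp a b).inv.app F).app ((a ≫ b) ⁻¹ᵁ W) z) h1
  have h3 : (Scheme.Modules.pullbackComp a b).hom.app F ≫
      (Scheme.Modules.pullbackComp a b).inv.app F = 𝟙 _ := Iso.hom_inv_id_app _ _
  have h4 := congrArg (fun ψ => (Scheme.Modules.Hom.app ψ (a ⁻¹ᵁ (b ⁻¹ᵁ W)))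
    (OmegaSh.pullSect a ((Scheme.Modules.pullback b).obj F) (b ⁻¹ᵁ W)
      (OmegaSh.pullSect b F W p))) h3
  exact h2.symm.trans h4

end General

section Main

variable {D C C' S : Scheme.{u}} (i : D ⟶ C) (g : C ⟶ C') (pC : C ⟶ S) (pC' : C' ⟶ S)
  (pD : D ⟶ S)
  {Ω₁ : C.Modules} (d₁ : OmegaSh.Der pC Ω₁) {Ω₁' : C'.Modules} (d₁' : OmegaSh.Der pC' Ω₁')
  {Ω₂ : D.Modules} (d₂ : OmegaSh.Der pD Ω₂)
  (dg : (Scheme.Modules.pullback g).obj Ω₁' ⟶ Ω₁) (hdg : OmegaSh.IsDiffCompat g d₁' d₁ dg)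

/-- The restriction to `D` of the differential of `g`. -/
noncomputable def psi : (Scheme.Modules.pullback (i ≫ g)).obj Ω₁' ⟶
    (Scheme.Modules.pullback i).obj Ω₁ :=
  (Scheme.Modules.pullbackComp i g).inv.app Ω₁' ≫ (Scheme.Modules.pullback i).map dg

include hdg in
theorem psi_pullSect (U' : C'.Opens) (s : Γ(C', U')) :
    (psi i g dg).app ((i ≫ g) ⁻¹ᵁ U')
      (OmegaSh.pullSect (i ≫ g) Ω₁' U' (d₁'.app U' s)) =
    OmegaSh.pullSect i Ω₁ (g ⁻¹ᵁ U') (d₁.app (g ⁻¹ᵁ U') (g.app U' s)) := by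
  have e1 : (psi i g dg).app ((i ≫ g) ⁻¹ᵁ U')
      (OmegaSh.pullSect (i ≫ g) Ω₁' U' (d₁'.app U' s)) =
      ((Scheme.Modules.pullback i).map dg).app (i ⁻¹ᵁ (g ⁻¹ᵁ U'))
        (((Scheme.Modules.pullbackComp i g).inv.app Ω₁').app ((i ≫ g) ⁻¹ᵁ U')
          (OmegaSh.pullSect (i ≫ g) Ω₁' U' (d₁'.app U' s))) := rfl
  rw [e1, pullbackComp_inv_pullSect, pullSect_naturality]
  exact congrArg (fun z => OmegaSh.pullSect i Ω₁ (g ⁻¹ᵁ U') z) (hdg U' s)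

include hdg in
theorem isDiffCompat_psi_comp (c : (Scheme.Modules.pullback i).obj Ω₁ ⟶ Ω₂)
    (hc : OmegaSh.IsDiffCompat i d₁ d₂ c) :
    OmegaSh.IsDiffCompat (i ≫ g) d₁' d₂ (psi i g dg ≫ c) := by
  intro U' s
  have e1 : (psi i g dg ≫ c).app ((i ≫ g) ⁻¹ᵁ U')
      (OmegaSh.pullSect (i ≫ g) Ω₁' U' (d₁'.app U' s)) =
      c.app (i ⁻¹ᵁ (g ⁻¹ᵁ U')) ((psi i g dg).app ((i ≫ g) ⁻¹ᵁ U')
        (OmegaSh.pullSect (i ≫ g) Ω₁' U' (d₁'.app U' s))) := rfl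
  rw [e1, psi_pullSect i g pC pC' d₁ d₁' dg hdg U' s]
  exact hc (g ⁻¹ᵁ U') (g.app U' s)

variable [QuasiCompact i]
  (φ : Omega.conormal i ⟶ (Scheme.Modules.pullback i).obj Ω₁)
  (hφ : OmegaSh.IsConormalDiff i d₁ φ)
  (φ' : Omega.conormal (i ≫ g) ⟶ (Scheme.Modules.pullback (i ≫ g)).obj Ω₁')
  (hφ' : OmegaSh.IsConormalDiff (i ≫ g) d₁' φ')
  (α : (Scheme.Modules.pullback (𝟙 D)).obj (Omega.conormal (i ≫ g)) ⟶ Omega.conormal i)
  (hα : OmegaSh.IsConormalMap i (i ≫ g) g (𝟙 D) α)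

include hdg hφ hφ' hα in
theorem comm_left :
    ((Scheme.Modules.pullbackId D).inv.app (Omega.conormal (i ≫ g)) ≫ α) ≫ φ =
      φ' ≫ psi i g dg := by
  have hsq : 𝟙 D ≫ (i ≫ g) = i ≫ g := Category.id_comp _
  refine pullback_hom_ext (i ≫ g) (M := ClSub.idealMod (i ≫ g).ker) _ _ (fun U' s' => ?_)
  -- right hand side
  have r1 : (φ' ≫ psi i g dg).app ((i ≫ g) ⁻¹ᵁ U')
      (OmegaSh.pullSect (i ≫ g) (ClSub.idealMod (i ≫ g).ker) U' s') =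
      (psi i g dg).app ((i ≫ g) ⁻¹ᵁ U')
        (φ'.app ((i ≫ g) ⁻¹ᵁ U') (OmegaSh.conormalSect (i ≫ g) U' s')) := rfl
  have r2 := hφ' U' s'
  have r3 := psi_pullSect i g pC pC' d₁ d₁' dg hdg U' (OmegaSh.idealSect (i ≫ g).ker U' s')
  -- left hand side
  have l1 : (((Scheme.Modules.pullbackId D).inv.app (Omega.conormal (i ≫ g)) ≫ α) ≫ φ).app
      ((i ≫ g) ⁻¹ᵁ U')
      (OmegaSh.pullSect (i ≫ g) (ClSub.idealMod (i ≫ g).ker) U' s') =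
      φ.app (i ⁻¹ᵁ (g ⁻¹ᵁ U')) (α.app ((𝟙 D) ⁻¹ᵁ ((i ≫ g) ⁻¹ᵁ U'))
        (((Scheme.Modules.pullbackId D).inv.app (Omega.conormal (i ≫ g))).app
          ((i ≫ g) ⁻¹ᵁ U') (OmegaSh.conormalSect (i ≫ g) U' s'))) := rfl
  have l2 := Groth.Agent.Lib.ConormTransH7.pullbackId_inv_app (Omega.conormal (i ≫ g))
    ((i ≫ g) ⁻¹ᵁ U') (OmegaSh.conormalSect (i ≫ g) U' s')
  have l3 := hα.2 U' s' (aSec i (i ≫ g) g (𝟙 D) hsq U' s')
    (aSec_spec i (i ≫ g) g (𝟙 D) hsq U' s')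
    (i ⁻¹ᵁ (g ⁻¹ᵁ U')) (fun _ hz => hz) (le_refl _)
  have l4 : α.app ((𝟙 D) ⁻¹ᵁ ((i ≫ g) ⁻¹ᵁ U'))
      (OmegaSh.pullSect (𝟙 D) (Omega.conormal (i ≫ g)) ((i ≫ g) ⁻¹ᵁ U')
        (OmegaSh.conormalSect (i ≫ g) U' s')) =
      OmegaSh.conormalSect i (g ⁻¹ᵁ U') (aSec i (i ≫ g) g (𝟙 D) hsq U' s') := by
    have m1 := Groth.Agent.Lib.ConormSeqH4.map_homOfLE_rfl (Omega.conormal i)
      (i ⁻¹ᵁ (g ⁻¹ᵁ U'))
      (OmegaSh.conormalSect i (g ⁻¹ᵁ U') (aSec i (i ≫ g) g (𝟙 D) hsq U' s'))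
    have m2 := Groth.Agent.Lib.ConormSeqH4.map_homOfLE_rfl (Omega.conormal i)
      (i ⁻¹ᵁ (g ⁻¹ᵁ U'))
      (α.app ((𝟙 D) ⁻¹ᵁ ((i ≫ g) ⁻¹ᵁ U'))
        (OmegaSh.pullSect (𝟙 D) (Omega.conormal (i ≫ g)) ((i ≫ g) ⁻¹ᵁ U')
          (OmegaSh.conormalSect (i ≫ g) U' s')))
    exact m2.symm.trans (l3.trans m1)
  have l5 := hφ (g ⁻¹ᵁ U') (aSec i (i ≫ g) g (𝟙 D) hsq U' s')
  have l6 := aSec_spec i (i ≫ g) g (𝟙 D) hsq U' s'
  have L : φ.app (i ⁻¹ᵁ (g ⁻¹ᵁ U')) (α.app ((𝟙 D) ⁻¹ᵁ ((i ≫ g) ⁻¹ᵁ U'))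
        (((Scheme.Modules.pullbackId D).inv.app (Omega.conormal (i ≫ g))).app
          ((i ≫ g) ⁻¹ᵁ U') (OmegaSh.conormalSect (i ≫ g) U' s'))) =
      OmegaSh.pullSect i Ω₁ (g ⁻¹ᵁ U') (d₁.app (g ⁻¹ᵁ U')
        (g.app U' (OmegaSh.idealSect (i ≫ g).ker U' s'))) := by
    rw [l2, l4, l5, l6]
  have R : (psi i g dg).app ((i ≫ g) ⁻¹ᵁ U')
        (φ'.app ((i ≫ g) ⁻¹ᵁ U') (OmegaSh.conormalSect (i ≫ g) U' s')) =
      OmegaSh.pullSect i Ω₁ (g ⁻¹ᵁ U') (d₁.app (g ⁻¹ᵁ U')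
        (g.app U' (OmegaSh.idealSect (i ≫ g).ker U' s'))) := by
    rw [r2, r3]
  exact (l1.trans L).trans (r1.trans R).symm

end Main

section Final

open Abelian in
theorem main18351 (k : Type u) [Field k] (D : Scheme.{u})
    (pD : D ⟶ Spec (CommRingCat.of k))
    (Ω₂ : D.Modules) (d₂ : OmegaSh.Der pD Ω₂) [HasExt.{w} D.Modules]
    (C : Scheme.{u}) (i : D ⟶ C) (pC : C ⟶ Spec (CommRingCat.of k))
    (hR : MultCurve.IsRibbon i)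
    (Ω₁ : C.Modules) (d₁ : OmegaSh.Der pC Ω₁)
    (φ : Omega.conormal i ⟶ (Scheme.Modules.pullback i).obj Ω₁)
    (hφ : OmegaSh.IsConormalDiff i d₁ φ)
    (c : (Scheme.Modules.pullback i).obj Ω₁ ⟶ Ω₂) (hc : OmegaSh.IsDiffCompat i d₁ d₂ c)
    (hw : φ ≫ c = 0) (hS : (ShortComplex.mk φ c hw).ShortExact)
    (C' : Scheme.{u}) (i' : D ⟶ C') (pC' : C' ⟶ Spec (CommRingCat.of k))
    (hp' : i' ≫ pC' = pD)
    (Ω₁' : C'.Modules) (d₁' : OmegaSh.Der pC' Ω₁') (hd₁' : OmegaSh.IsUniversal d₁')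
    (φ' : Omega.conormal i' ⟶ (Scheme.Modules.pullback i').obj Ω₁')
    (hφ' : OmegaSh.IsConormalDiff i' d₁' φ')
    (c' : (Scheme.Modules.pullback i').obj Ω₁' ⟶ Ω₂) (hc' : OmegaSh.IsDiffCompat i' d₁' d₂ c')
    (hw' : φ' ≫ c' = 0) (hS' : (ShortComplex.mk φ' c' hw').ShortExact)
    (g : C ⟶ C') (hgi : i ≫ g = i') (hgk : g ≫ pC' = pC)
    (α : (Scheme.Modules.pullback (𝟙 D)).obj (Omega.conormal i') ⟶ Omega.conormal i)
    (hα : OmegaSh.IsConormalMap i i' g (𝟙 D) α) :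
    hS'.extClass.comp (Abelian.Ext.mk₀ ((Scheme.Modules.pullbackId D).inv.app
      (Omega.conormal i') ≫ α)) (add_zero 1) = hS.extClass := by
  subst hgi
  haveI : IsClosedImmersion i := hR.1.1
  obtain ⟨dg, hdg, -⟩ := Groth.Agent.Lib.OmegaFunctH4.main9370 pC' pC g (𝟙 _)
    (by rw [Category.comp_id]; exact hgk.symm) Ω₁' d₁' hd₁' Ω₁ d₁
  have h23 : psi i g dg ≫ c = c' := by
    obtain ⟨c0, -, huniq⟩ := Groth.Agent.Lib.OmegaFunctH4.main9370 pC' pD (i ≫ g) (𝟙 _)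
      (by rw [Category.comp_id]; exact hp'.symm) Ω₁' d₁' hd₁' Ω₂ d₂
    exact (huniq _ (isDiffCompat_psi_comp i g pC pC' pD d₁ d₁' d₂ dg hdg c hc)).trans
      (huniq _ hc').symm
  have h12 := comm_left i g pC pC' d₁ d₁' dg hdg φ hφ φ' hφ' α hα
  let F : ShortComplex.mk φ' c' hw' ⟶ ShortComplex.mk φ c hw :=
    ShortComplex.homMk ((Scheme.Modules.pullbackId D).inv.app (Omega.conormal (i ≫ g)) ≫ α)
      (psi i g dg) (𝟙 Ω₂) h12 (by rw [Category.comp_id]; exact h23)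
  have hn := ShortComplex.ShortExact.extClass_naturality hS' hS F
  have e3 : F.τ₃ = 𝟙 Ω₂ := rfl
  rw [e3, Ext.mk₀_id_comp] at hn
  exact hn

end Final

end Groth.Agent.Lib.RibbonExtNatH7
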