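import Mathlib
import Groth.Prelude
import Groth.Agent.Lib.OmField2_helper9
import Groth.Agent.Lib.HypEll3_helper9
import Groth.Agent.Lib.RibbonExtNat_helper7
import Groth.Agent.Lib.CurveCliff1_helper9
import Groth.Agent.Lib.CurveLin3_helper9
import Groth.Agent.Lib.CurveSpec1_helper9

/-!
# Non-birational linear systems of degree `2r + c` (helper9)

Statement of S19796: if a non-degenerate `ψ : X ⟶ P^r` of degree `2r + c`, `c ≤ r - 2`, factors
through a cover `π : X ⟶ Γ` of degree `a ≥ 2`, then `a = 2` and `2 g(Γ) ≤ c`.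
APPEND-ONLY once landed.
-/

set_option autoImplicit false
universe u
open CategoryTheory CategoryTheory.Limits AlgebraicGeometry Opposite TopologicalSpace

namespace DCov

open CurveTens

section Main

variable (k : Type u) [Field k] [IsAlgClosed k]

/-- a section whose pullback along a composite is nonzero has nonzero pullback along the second
morphism -/
theorem pullSect_ne_zero_of_comp {X Y Z : Scheme.{u}} (a : X ⟶ Y) (b : Y ⟶ Z) (F : Z.Modules)
    (W : Z.Opens) (p : Γ(F, W)) (h : OmegaSh.pullSect (a ≫ b) F W p ≠ 0) :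
    OmegaSh.pullSect b F W p ≠ 0 := by
  intro h0
  apply h
  have h1 := Groth.Agent.Lib.RibbonExtNatH7.pullbackComp_inv_pullSect a b F W p
  rw [h0, map_zero] at h1
  have h3 : (Scheme.Modules.pullbackComp a b).inv.app F ≫
      (Scheme.Modules.pullbackComp a b).hom.app F = 𝟙 _ := Iso.inv_hom_id_app _ _
  have h4 := congrArg (fun ψ => (Scheme.Modules.Hom.app ψ ((a ≫ b) ⁻¹ᵁ W))
    (OmegaSh.pullSect (a ≫ b) F W p)) h3
  have h5 : ((Scheme.Modules.pullbackComp a b).hom.app F).app ((a ≫ b) ⁻¹ᵁ W)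
      (((Scheme.Modules.pullbackComp a b).inv.app F).app ((a ≫ b) ⁻¹ᵁ W)
        (OmegaSh.pullSect (a ≫ b) F W p)) = OmegaSh.pullSect (a ≫ b) F W p := h4
  exact h5.symm.trans ((congrArg (fun z => ((Scheme.Modules.pullbackComp a b).hom.app F).app
    ((a ≫ b) ⁻¹ᵁ W) z) h1).trans (map_zero _))

/-- the numerical data of a non-degenerate map factoring through a cover of degree `a` -/
theorem cover_data (X : Scheme.{u}) [X.Over (Spec (CommRingCat.of k))]
    [IsIntegral X] [IsProper (X ↘ (Spec (CommRingCat.of k)))]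
    (r : ℕ)
    (Γ : Scheme.{u}) [Γ.Over (Spec (CommRingCat.of k))] [IsIntegral Γ]
    [IsProper (Γ ↘ (Spec (CommRingCat.of k)))]
    (hdimΓ : topologicalKrullDim Γ = 1)
    (π : X ⟶ Γ) (hπ : π ≫ (Γ ↘ Spec (CommRingCat.of k)) = X ↘ Spec (CommRingCat.of k))
    [IsFinite π] [Flat π] (a : ℕ) (ha : ∀ y : Γ, Scheme.Hom.finrank π y = a)
    (ψ : Γ ⟶ CohB1.ProjSpace r k)
    (hψ : ψ ≫ CohB1.ProjSpace.toSpec r k = Γ ↘ Spec (CommRingCat.of k))
    (hnd : ∀ s : LinSer.Sect (CohB1.ProjSpace r k) (Twist.twistProjSpace r k 1), s ≠ 0 →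
      OmegaSh.pullSect (π ≫ ψ) (Twist.twistProjSpace r k 1) ⊤ s ≠ 0) :
    ∃ e : ℤ, Curv2.deg k X ((Scheme.Modules.pullback (π ≫ ψ)).obj
      (Twist.twistProjSpace r k 1)) 1 = a * e ∧ (r : ℤ) ≤ e ∧
      ((r : ℤ) + Curv2.genus k Γ ≤ e ∨ 2 * (r : ℤ) ≤ e) := by
  haveI : IsLocallyNoetherian Γ :=
    LocallyOfFiniteType.isLocallyNoetherian (Γ ↘ Spec (CommRingCat.of k))
  have hO1 : PicF.IsInvertible (Twist.twistProjSpace r k 1) :=
    Groth.Agent.Horrocks.isInvertible_OO r k 1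
  obtain ⟨N, hNdef⟩ : ∃ N : Γ.Modules, N = (Scheme.Modules.pullback ψ).obj
    (Twist.twistProjSpace r k 1) := ⟨_, rfl⟩
  have hN : PicF.IsInvertible N := hNdef ▸ TensH8.isInvertible_pullback ψ hO1
  -- degree
  have e1 : (Scheme.Modules.pullback (π ≫ ψ)).obj (Twist.twistProjSpace r k 1) ≅
      (Scheme.Modules.pullback π).obj N :=
    hNdef ▸ ((Scheme.Modules.pullbackComp π ψ).app (Twist.twistProjSpace r k 1)).symm
  have hd1 := CurveTens.deg_of_iso k X e1 1
  have hd2 := HypEll.deg_pullback_cover k π hπ hdimΓ.le ha N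
    (FLFH8.finLocFreeOfRank_one_of_isInvertible hN)
  refine ⟨Curv2.deg k Γ N 1, hd1.trans hd2, ?_⟩
  -- sections
  have hinj : Function.Injective (OmField.pullLin k r Γ ψ hψ (Twist.twistProjSpace r k 1)) := by
    rw [← LinearMap.ker_eq_bot, LinearMap.ker_eq_bot']
    intro v hv
    by_contra hv0
    have hs : e₀ (Twist.twistProjSpace r k 1) v ≠ 0 := fun h =>
      hv0 ((e₀ (Twist.twistProjSpace r k 1)).injective (h.trans (map_zero _).symm))
    have h1 := pullSect_ne_zero_of_comp π ψ _ ⊤ _ (hnd _ hs)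
    have h2 := OmField.e₀_pullLin k r Γ ψ hψ (Twist.twistProjSpace r k 1) v
    rw [hv, map_zero] at h2
    exact h1 h2.symm
  have hNc : Coh.IsCoh N := ProperFinH9.isCoh_of_isInvertible hN
  haveI := ProperFinH9.finite_HH_of_proper k Γ _ hNc 0
  haveI := ProperFinH9.finite_HH_of_proper k Γ _ hNc 1
  haveI : N.IsQuasicoherent := hNc.1
  have hr1 : Module.finrank k (Coh.HH (CohB1.ProjSpace r k) (Twist.twistProjSpace r k 1) 0) =
      r + 1 := by
    have := Groth.Agent.ProjEuler.finrank_HH_zero k r 1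
    rw [Nat.cast_one] at this
    rw [this, add_comm 1 r, Nat.choose_succ_self_right]
  have hh0 : r + 1 ≤ Module.finrank k (Coh.HH Γ N 0) := by
    haveI := ProperFinH9.finite_HH_of_proper k Γ _ (ProperFinH9.isCoh_of_isInvertible
      (TensH8.isInvertible_pullback ψ hO1)) 0
    have := LinearMap.finrank_le_finrank_of_injective hinj
    rw [hr1, ← hNdef] at this
    exact this
  haveI hs : Nontrivial (Coh.HH Γ N 0) := Module.nontrivial_of_finrank_pos (R := k) (by omega)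
  have hO := CurveSpec.finrank_HH0_structureModule k Γ hdimΓ
  have hlin := (CurveLin.h0_le_deg_add_one k Γ hdimΓ hO hN hs).1
  have hRR : Curv2.deg k Γ N 1 = (Module.finrank k (Coh.HH Γ N 0) : ℤ) -
      (Module.finrank k (Coh.HH Γ N 1) : ℤ) - (1 - (Curv2.genus k Γ : ℤ)) := by
    haveI : (Coh.structureModule Γ).IsQuasicoherent := TensH8.isQuasicoherent_structureModule
    unfold Curv2.deg
    rw [CurveRR.euler_eq_sub k Γ hdimΓ.le N,
      CurveRR.euler_eq_sub k Γ hdimΓ.le (Coh.structureModule Γ), hO]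
    unfold Curv2.genus
    push_cast
    ring
  have hh0' : ((r : ℤ) + 1) ≤ (Module.finrank k (Coh.HH Γ N 0) : ℤ) := by exact_mod_cast hh0
  refine ⟨by linarith, ?_⟩
  by_cases h1 : Module.finrank k (Coh.HH Γ N 1) = 0
  · left
    rw [h1] at hRR
    push_cast at hRR
    linarith
  · right
    haveI hs1 : Nontrivial (Coh.HH Γ N 1) :=
      Module.nontrivial_of_finrank_pos (R := k) (by omega)
    have hcl := CurveCliff.finrank_HH0_add_HH1_le k Γ hdimΓ.le hN hs hs1
    have hcl' : (Module.finrank k (Coh.HH Γ N 0) : ℤ) + (Module.finrank k (Coh.HH Γ N 1) : ℤ) ≤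
        (Curv2.genus k Γ : ℤ) + 1 := by exact_mod_cast hcl
    linarith

/-- **statement of S19796** -/
theorem main19796 (X : Scheme.{u}) [X.Over (Spec (CommRingCat.of k))]
    [IsIntegral X] [IsProper (X ↘ (Spec (CommRingCat.of k)))]
    (r c : ℕ) (hc : c + 2 ≤ r)
    (Γ : Scheme.{u}) [Γ.Over (Spec (CommRingCat.of k))] [IsIntegral Γ]
    [IsProper (Γ ↘ (Spec (CommRingCat.of k)))]
    (hdimΓ : topologicalKrullDim Γ = 1)
    (π : X ⟶ Γ) (hπ : π ≫ (Γ ↘ Spec (CommRingCat.of k)) = X ↘ Spec (CommRingCat.of k))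
    [IsFinite π] [Flat π] (a : ℕ) (ha2 : 2 ≤ a) (ha : ∀ y : Γ, Scheme.Hom.finrank π y = a)
    (ψ : Γ ⟶ CohB1.ProjSpace r k)
    (hψ : ψ ≫ CohB1.ProjSpace.toSpec r k = Γ ↘ Spec (CommRingCat.of k))
    (hnd : ∀ s : LinSer.Sect (CohB1.ProjSpace r k) (Twist.twistProjSpace r k 1), s ≠ 0 →
      OmegaSh.pullSect (π ≫ ψ) (Twist.twistProjSpace r k 1) ⊤ s ≠ 0)
    (hdeg : Curv2.deg k X ((Scheme.Modules.pullback (π ≫ ψ)).obj
      (Twist.twistProjSpace r k 1)) 1 = 2 * r + c) :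
    a = 2 ∧ 2 * Curv2.genus k Γ ≤ (c : ℤ) := by
  obtain ⟨e, hde, hre, hcase⟩ := cover_data k X r Γ hdimΓ π hπ a ha ψ hψ hnd
  rw [hde] at hdeg
  have hc' : (c : ℤ) + 2 ≤ r := by exact_mod_cast hc
  have ha3 : a = 2 := by
    by_contra hne
    have h3 : (3 : ℤ) ≤ (a : ℤ) := by
      have : 3 ≤ a := by omega
      exact_mod_cast this
    have hrpos : (0 : ℤ) ≤ (r : ℤ) := Int.natCast_nonneg r
    have h4 : (3 : ℤ) * r ≤ (a : ℤ) * e := by
      calc (3 : ℤ) * r ≤ (a : ℤ) * r := by nlinarith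
        _ ≤ (a : ℤ) * e := by
          apply mul_le_mul_of_nonneg_left hre
          linarith
    linarith
  refine ⟨ha3, ?_⟩
  subst ha3
  push_cast at hdeg
  rcases hcase with h | h
  · linarith
  · exfalso
    linarith

/-- **statement of S16978** -/
theorem main16978 (X : Scheme.{u}) [X.Over (Spec (CommRingCat.of k))]
    [IsIntegral X] [IsProper (X ↘ (Spec (CommRingCat.of k)))]
    (hdim : topologicalKrullDim X = 1)
    (L : X.Modules) (hL : PicF.IsInvertible L) (r : ℕ)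
    (Γ : Scheme.{u}) [Γ.Over (Spec (CommRingCat.of k))] [IsIntegral Γ]
    [IsProper (Γ ↘ (Spec (CommRingCat.of k)))]
    (hdimΓ : topologicalKrullDim Γ = 1)
    (π : X ⟶ Γ) (hπ : π ≫ (Γ ↘ Spec (CommRingCat.of k)) = X ↘ Spec (CommRingCat.of k))
    [IsFinite π] [Flat π] (a : ℕ) (ha : ∀ y : Γ, Scheme.Hom.finrank π y = a)
    (ψ : Γ ⟶ CohB1.ProjSpace r k)
    (hψ : ψ ≫ CohB1.ProjSpace.toSpec r k = Γ ↘ Spec (CommRingCat.of k))
    (ι : (Scheme.Modules.pullback (π ≫ ψ)).obj (Twist.twistProjSpace r k 1) ⟶ L) [Mono ι]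
    (hnd : ∀ s : LinSer.Sect (CohB1.ProjSpace r k) (Twist.twistProjSpace r k 1), s ≠ 0 →
      OmegaSh.pullSect (π ≫ ψ) (Twist.twistProjSpace r k 1) ⊤ s ≠ 0) :
    (a = 2 → 2 * (r : ℤ) + 2 * Curv2.genus k Γ ≤ Curv2.deg k X L 1 ∨
        4 * (r : ℤ) ≤ Curv2.deg k X L 1) ∧
      (3 ≤ a → 3 * (r : ℤ) ≤ Curv2.deg k X L 1) := by
  obtain ⟨e, hde, hre, hcase⟩ := cover_data k X r Γ hdimΓ π hπ a ha ψ hψ hnd
  have hM : PicF.IsInvertible ((Scheme.Modules.pullback (π ≫ ψ)).obj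
      (Twist.twistProjSpace r k 1)) :=
    TensH8.isInvertible_pullback _ (Groth.Agent.Horrocks.isInvertible_OO r k 1)
  have hι : ι ≠ 0 := fun h0 =>
    VBCurve.not_isZero_of_isInvertible hM (IsZero.of_mono_eq_zero ι h0)
  have hle := (CurveDeg.deg_le_of_ne_zero k X hdim hM hL ι hι).1
  rw [hde] at hle
  have hrpos : (0 : ℤ) ≤ (r : ℤ) := Int.natCast_nonneg r
  constructor
  · intro ha2
    subst ha2
    push_cast at hle
    rcases hcase with h | h
    · left; linarith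
    · right; linarith
  · intro ha3
    have h3 : (3 : ℤ) ≤ (a : ℤ) := by exact_mod_cast ha3
    have h4 : (3 : ℤ) * r ≤ (a : ℤ) * e := by
      calc (3 : ℤ) * r ≤ (a : ℤ) * r := by nlinarith
        _ ≤ (a : ℤ) * e := by
          apply mul_le_mul_of_nonneg_left hre
          linarith
    linarith

end Main

end DCov
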