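import Mathlib
import Groth.Agent.Lib.TorLES_helper5

/-!
# Dimension shifting for `Tor` in the SECOND variable (helper5)

Given a short exact sequence `0 → K → P₀ → Y → 0` with `P₀` projective and a projective resolution
`Q` of `K`, the augmented complex `… → Q₁ → Q₀ → P₀` is a projective resolution of `Y`.
Consequently `Tor_{n+2}(X, Y) = 0 ↔ Tor_{n+1}(X, K) = 0`.
-/

set_option autoImplicit false
universe v u

open CategoryTheory CategoryTheory.Limits MonoidalCategory

namespace Groth.Agent.TorShift2

section general

variable {C : Type u} [Category.{v} C] [Abelian C]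

/-- the augmentation map `Q₀ → K` of a projective resolution. -/
noncomputable def q0 {K : C} (Q : ProjectiveResolution K) : Q.complex.X 0 ⟶ K := Q.π.f 0

lemma d_comp_q0 {K : C} (Q : ProjectiveResolution K) : Q.complex.d 1 0 ≫ q0 Q = 0 :=
  Q.complex_d_comp_π_f_zero

set_option backward.isDefEq.respectTransparency false in
instance {K : C} (Q : ProjectiveResolution K) : Epi (q0 Q) :=
  epi_of_isColimit_cofork Q.isColimitCokernelCofork

lemma exact_q0 {K : C} (Q : ProjectiveResolution K) :
    (ShortComplex.mk (Q.complex.d 1 0) (q0 Q) (d_comp_q0 Q)).Exact := Q.exact₀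

/-- the augmented complex `… → Q₁ → Q₀ → P₀`. -/
noncomputable def augComplex {K P₀ : C} (ι : K ⟶ P₀) (Q : ProjectiveResolution K) :
    ChainComplex C ℕ :=
  ChainComplex.augment Q.complex (q0 Q ≫ ι) (by
    rw [← Category.assoc, d_comp_q0, zero_comp])

/-- the augmentation `augComplex → Y[0]`. -/
noncomputable def augπ {K P₀ Y : C} (ι : K ⟶ P₀) (π : P₀ ⟶ Y) (w : ι ≫ π = 0)
    (Q : ProjectiveResolution K) : augComplex ι Q ⟶ (ChainComplex.single₀ C).obj Y :=
  (ChainComplex.toSingle₀Equiv _ _).symm ⟨π, by
    change (q0 Q ≫ ι) ≫ π = 0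
    rw [Category.assoc, w, comp_zero]⟩

lemma augπ_quasiIso {K P₀ Y : C} (ι : K ⟶ P₀) (π : P₀ ⟶ Y) (w : ι ≫ π = 0)
    (Q : ProjectiveResolution K) [Mono ι] [Epi π] (hex : (ShortComplex.mk ι π w).Exact) :
    QuasiIso (augπ ι π w Q) where
  quasiIsoAt m := by
    induction m with
    | zero =>
      rw [ChainComplex.quasiIsoAt₀_iff, ShortComplex.quasiIso_iff_of_zeros' _ rfl rfl rfl]
      have hexact : (ShortComplex.mk (q0 Q ≫ ι) π
          (by rw [Category.assoc, w, comp_zero])).Exact := by
        let α : ShortComplex.mk (q0 Q ≫ ι) π (by rw [Category.assoc, w, comp_zero]) ⟶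
            ShortComplex.mk ι π w :=
          { τ₁ := q0 Q
            τ₂ := 𝟙 _
            τ₃ := 𝟙 _ }
        haveI : Epi α.τ₁ := by
          change Epi (q0 Q)
          infer_instance
        haveI : IsIso α.τ₂ := by change IsIso (𝟙 _); infer_instance
        haveI : Mono α.τ₃ := by change Mono (𝟙 _); infer_instance
        exact (ShortComplex.exact_iff_of_epi_of_isIso_of_mono α).mpr hex
      refine (ShortComplex.exact_and_epi_g_iff_of_iso ?_).2
        ⟨hexact, by dsimp; infer_instance⟩
      exact ShortComplex.isoMk (Iso.refl _) (Iso.refl _) (Iso.refl _)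
        (by
          simp [augComplex]
          exact (Category.id_comp _).trans (Category.comp_id _).symm)
        (by
          simp [augπ]
          exact (Category.id_comp _).trans (Category.comp_id _).symm)
    | succ m _ =>
      rw [quasiIsoAt_iff_exactAt' (hL := ChainComplex.exactAt_succ_single_obj ..),
          HomologicalComplex.exactAt_iff' _ (m + 2) (m + 1) m (by simp) (by simp)]
      cases m with
      | zero =>
        let α : ShortComplex.mk (Q.complex.d 1 0) (q0 Q) (d_comp_q0 Q) ⟶
            ShortComplex.mk (Q.complex.d 1 0) (q0 Q ≫ ι) (by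
              rw [← Category.assoc, d_comp_q0, zero_comp]) :=
          { τ₁ := 𝟙 _
            τ₂ := 𝟙 _
            τ₃ := ι }
        haveI : Epi α.τ₁ := by change Epi (𝟙 _); infer_instance
        haveI : IsIso α.τ₂ := by change IsIso (𝟙 _); infer_instance
        haveI : Mono α.τ₃ := by change Mono ι; infer_instance
        exact (ShortComplex.exact_iff_of_epi_of_isIso_of_mono α).mp (exact_q0 Q)
      | succ m => exact Q.exact_succ m

/-- the augmented projective resolution of `Y`. -/
noncomputable def augRes {K P₀ Y : C} (ι : K ⟶ P₀) (π : P₀ ⟶ Y) (w : ι ≫ π = 0)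
    (Q : ProjectiveResolution K) [Projective P₀] [Mono ι] [Epi π]
    (hex : (ShortComplex.mk ι π w).Exact) : ProjectiveResolution Y where
  complex := augComplex ι Q
  projective n := by
    cases n with
    | zero => exact (inferInstance : Projective P₀)
    | succ n => exact Q.projective n
  π := augπ ι π w Q
  quasiIso := augπ_quasiIso ι π w Q hex

end general

section modules

variable {R : Type u} [CommRing R]

open Groth.Agent.TorLES

/-- second-variable dimension shifting. -/
theorem isZero_tor_shift2 (X : ModuleCat.{u} R) {K P₀ Y : ModuleCat.{u} R} (ι : K ⟶ P₀)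
    (π : P₀ ⟶ Y) (w : ι ≫ π = 0) [Projective P₀] [Mono ι] [Epi π]
    (hex : (ShortComplex.mk ι π w).Exact) (n : ℕ) :
    IsZero (((Tor (ModuleCat.{u} R) (n + 2)).obj X).obj Y) ↔
      IsZero (((Tor (ModuleCat.{u} R) (n + 1)).obj X).obj K) := by
  let Q := ProjectiveResolution.of K
  let P := augRes ι π w Q hex
  rw [isZero_tor_iff Y X P, isZero_tor_iff K X Q,
    ← HomologicalComplex.exactAt_iff_isZero_homology,
    ← HomologicalComplex.exactAt_iff_isZero_homology,
    HomologicalComplex.exactAt_iff' _ (n + 3) (n + 2) (n + 1) (by simp) (by simp),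
    HomologicalComplex.exactAt_iff' _ (n + 2) (n + 1) n (by simp) (by simp)]
  exact Iff.rfl

/-- S14414: if `N` has projective dimension `≤ q` then `Tor_i(X, N) = 0` for `i > q`. -/
theorem isZero_tor_of_projDim (X : ModuleCat.{u} R) : ∀ (q : ℕ) (N : ModuleCat.{u} R)
    [HasProjectiveDimensionLT N (q + 1)] (i : ℕ), q < i →
    IsZero (((Tor (ModuleCat.{u} R) i).obj X).obj N) := by
  intro q
  induction q with
  | zero =>
    intro N hN i hi
    obtain ⟨k, rfl⟩ : ∃ k, i = k + 1 := ⟨i - 1, by omega⟩
    have hN1 : HasProjectiveDimensionLT N 1 := hN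
    haveI : Projective N := projective_iff_hasProjectiveDimensionLT_one.mpr hN1
    exact isZero_Tor_succ_of_projective (C := ModuleCat.{u} R) X N k
  | succ q ih =>
    intro N hN i hi
    obtain ⟨j, rfl⟩ : ∃ j, i = j + 2 := ⟨i - 2, by omega⟩
    haveI : Epi (ShortComplex.kernelSequence (Projective.π N)).g := by
      change Epi (Projective.π N)
      infer_instance
    have hS : (ShortComplex.kernelSequence (Projective.π N)).ShortExact :=
      { exact := ShortComplex.kernelSequence_exact _ }
    haveI : HasProjectiveDimensionLT (ShortComplex.kernelSequence (Projective.π N)).X₁ (q + 1) :=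
      (hS.hasProjectiveDimensionLT_X₃_iff q (by
        change Projective (Projective.over N)
        infer_instance)).mp hN
    have h1 := ih (ShortComplex.kernelSequence (Projective.π N)).X₁ (j + 1) (by omega)
    exact (isZero_tor_shift2 X (kernel.ι (Projective.π N)) (Projective.π N)
      (kernel.condition _) (ShortComplex.kernelSequence_exact _) j).mpr h1

end modules

end Groth.Agent.TorShift2
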