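import Groth.Agent.Lib.TorShift2_helper5
import Groth.Agent.Lib.TorBridge_helper9
import Mathlib.RingTheory.LocalRing.Module

/-! Projective dimension over a Noetherian local ring is detected by `Tor(k, -)` (helper5). -/

set_option autoImplicit false
set_option maxHeartbeats 400000

open CategoryTheory Limits
open scoped TensorProduct

universe u

namespace Groth.Agent.TorPd

open Groth.Agent.TorLES in
theorem pd_of_tor (A : Type u) [CommRing A] [IsLocalRing A] [IsNoetherianRing A] :
    ∀ (n : ℕ) (M : Type u) [AddCommGroup M] [Module A M] [Module.Finite A M],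
      Limits.IsZero (((Tor (ModuleCat.{u} A) (n + 1)).obj
          (ModuleCat.of A (IsLocalRing.ResidueField A))).obj (ModuleCat.of A M)) →
        HasProjectiveDimensionLT (ModuleCat.of A M) (n + 1) := by
  intro n
  induction n with
  | zero =>
    intro M _ _ _ h
    obtain ⟨m, f, hf⟩ := Module.Finite.exists_fin' A M
    have hinj : Function.Injective ((LinearMap.ker f).subtype.lTensor
        (IsLocalRing.ResidueField A)) :=
      (Groth.Agent.Lib.TorBridge.isZero_tor_one_iff (IsLocalRing.ResidueField A) M
        (LinearMap.ker f).subtype f Subtype.val_injective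
        (LinearMap.exact_subtype_ker_map f) hf).mp h
    have hfree : Module.Free A M :=
      Module.free_of_lTensor_residueField_injective (LinearMap.ker f).subtype f hf
        (LinearMap.exact_subtype_ker_map f) hinj
    haveI : Projective (ModuleCat.of A M) :=
      (IsProjective.iff_projective (R := A) (P := M)).mp inferInstance
    exact projective_iff_hasProjectiveDimensionLT_one.mp inferInstance
  | succ n ih =>
    intro M _ _ _ h
    obtain ⟨m, f, hf⟩ := Module.Finite.exists_fin' A M
    have hS := mk_shortExact (LinearMap.ker f).subtype f Subtype.val_injective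
        (LinearMap.exact_subtype_ker_map f) hf
    have hproj : Projective (ModuleCat.of A (Fin m → A)) :=
      (IsProjective.iff_projective (R := A) (P := (Fin m → A))).mp inferInstance
    haveI : Mono (ModuleCat.ofHom (LinearMap.ker f).subtype) := hS.mono_f
    haveI : Epi (ModuleCat.ofHom f) := hS.epi_g
    have hK : IsZero (((Tor (ModuleCat.{u} A) (n + 1)).obj
          (ModuleCat.of A (IsLocalRing.ResidueField A))).obj
          (ModuleCat.of A (LinearMap.ker f))) :=
      (Groth.Agent.TorShift2.isZero_tor_shift2 (ModuleCat.of A (IsLocalRing.ResidueField A))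
        (ModuleCat.ofHom (LinearMap.ker f).subtype) (ModuleCat.ofHom f) _ hS.exact n).mp h
    have hpdK := ih (LinearMap.ker f) hK
    exact (hS.hasProjectiveDimensionLT_X₃_iff n hproj).mpr hpdK

/-- S5809. -/
theorem pd_iff_tor (A : Type u) [CommRing A] [IsLocalRing A]
    [IsNoetherianRing A] (M : Type u) [AddCommGroup M] [Module A M] [Module.Finite A M] (n : ℕ) :
    (HasProjectiveDimensionLT (ModuleCat.of A M) (n + 1) →
        ∀ i : ℕ, n < i → Limits.IsZero (((Tor (ModuleCat.{u} A) i).obj
          (ModuleCat.of A (IsLocalRing.ResidueField A))).obj (ModuleCat.of A M))) ∧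
      (Limits.IsZero (((Tor (ModuleCat.{u} A) (n + 1)).obj
          (ModuleCat.of A (IsLocalRing.ResidueField A))).obj (ModuleCat.of A M)) →
        HasProjectiveDimensionLT (ModuleCat.of A M) (n + 1)) := by
  refine ⟨fun h i hi => ?_, fun h => ?_⟩
  · haveI := h
    exact Groth.Agent.TorShift2.isZero_tor_of_projDim
      (ModuleCat.of A (IsLocalRing.ResidueField A)) n (ModuleCat.of A M) i hi
  · exact pd_of_tor A n M h

end Groth.Agent.TorPd
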