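import Mathlib
import Groth.Prelude.Def_DRing2
import Groth.Prelude.Def_DDual2
import Groth.Prelude.Def_Wider
import Groth.Prelude.Def_CAlg
import Groth.Agent.Lib.DMod112_helper6

/-!
# Derived category toolkit (helper6), part 113: cohomology of `Hom(M, J)` for a K-injective `J` as
`Hom_{D(A)}(M[-k], J)`; `RHom(I, ω) ≅ Hom(I, E)[0]` for an ideal of finite length and the triangle
`RHom(A/I, ω) → ω → Hom(I, E)[0]` (S8945).
-/

set_option autoImplicit false
universe u
open CategoryTheory CategoryTheory.Limits DerivedCategory Pretriangulated ZeroObject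
attribute [local instance] HasDerivedCategory.standard

namespace Groth.Agent.Lib.DMod_helper6

open DRing

section HomCxCohomology

variable {A : Type u} [CommRing A] (M : ModuleCat.{u} A) (J : Cx A)

/-- the value of a cycle of `Hom(M, J)`, as a morphism `M ⟶ J^k` -/
noncomputable def cycVal (k : ℤ) (c : (homCx M J).cycles k) : M ⟶ J.X k :=
  ((homCx M J).iCycles k).hom c

lemma cycVal_comp_d (k j : ℤ) (c : (homCx M J).cycles k) : cycVal M J k c ≫ J.d k j = 0 := by
  have h := LinearMap.congr_fun (congrArg ModuleCat.Hom.hom ((homCx M J).iCycles_d k j)) c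
  exact h

lemma cycVal_add (k : ℤ) (c c' : (homCx M J).cycles k) :
    cycVal M J k (c + c') = cycVal M J k c + cycVal M J k c' :=
  map_add ((homCx M J).iCycles k).hom c c'

lemma cycVal_smul (k : ℤ) (a : A) (c : (homCx M J).cycles k) :
    cycVal M J k (a • c) = a • cycVal M J k c :=
  map_smul ((homCx M J).iCycles k).hom a c

/-- the chain map `M[-k] → J` attached to a `k`-cycle of `Hom(M, J)` -/
noncomputable def cycToHom (k : ℤ) (c : (homCx M J).cycles k) :
    (HomologicalComplex.single (ModuleCat.{u} A) (ComplexShape.up ℤ) k).obj M ⟶ J :=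
  HomologicalComplex.mkHomFromSingle (cycVal M J k c) (fun j _ => cycVal_comp_d M J k j c)

lemma cycToHom_f (k : ℤ) (c : (homCx M J).cycles k) :
    (cycToHom M J k c).f k =
      (HomologicalComplex.singleObjXSelf (ComplexShape.up ℤ) k M).hom ≫ cycVal M J k c :=
  HomologicalComplex.mkHomFromSingle_f _ _

/-- cycles of `Hom(M, J)` to morphisms in the derived category, linearly -/
noncomputable def cycToHomLin (k : ℤ) : (homCx M J).cycles k →ₗ[A]
    (toD ((HomologicalComplex.single (ModuleCat.{u} A) (ComplexShape.up ℤ) k).obj M) ⟶ toD J) where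
  toFun c := Q.map (cycToHom M J k c)
  map_add' c c' := by
    have h : cycToHom M J k (c + c') = cycToHom M J k c + cycToHom M J k c' := by
      apply HomologicalComplex.from_single_hom_ext
      rw [HomologicalComplex.add_f_apply, cycToHom_f, cycToHom_f, cycToHom_f, cycVal_add,
        Preadditive.comp_add]
    rw [h, Functor.map_add]
  map_smul' a c := by
    have h : cycToHom M J k (a • c) = a • cycToHom M J k c := by
      apply HomologicalComplex.from_single_hom_ext
      rw [HomologicalComplex.smul_f_apply, cycToHom_f, cycToHom_f, cycVal_smul, Linear.comp_smul]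
    rw [h, Functor.map_smul, RingHom.id_apply]

lemma exists_cycle_of_comp_d_eq_zero (k : ℤ) (z : M ⟶ J.X k) (hz : z ≫ J.d k (k + 1) = 0) :
    ∃ c : (homCx M J).cycles k, cycVal M J k c = z := by
  let κ : ModuleCat.of A A ⟶ (homCx M J).X k :=
    ModuleCat.ofHom (LinearMap.toSpanSingleton A ((homCx M J).X k) z)
  have hκ : κ ≫ (homCx M J).d k (k + 1) = 0 := by
    refine ModuleCat.hom_ext (LinearMap.ext fun (a : A) => ?_)
    show (a • z) ≫ J.d k (k + 1) = 0
    rw [Linear.smul_comp, hz, smul_zero]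
  refine ⟨((homCx M J).liftCycles κ (k + 1) (by simp) hκ).hom (1 : A), ?_⟩
  have h := LinearMap.congr_fun (congrArg ModuleCat.Hom.hom
    ((homCx M J).liftCycles_i κ (k + 1) (by simp) hκ)) (1 : A)
  exact h.trans (one_smul A z)

lemma cycToHomLin_surjective [J.IsKInjective] (k : ℤ) :
    Function.Surjective (cycToHomLin M J k) := by
  intro f
  obtain ⟨u, hu⟩ := exists_Q_map_eq_of_isKInjective
    (E := (HomologicalComplex.single (ModuleCat.{u} A) (ComplexShape.up ℤ) k).obj M) (F := J) f
  have hz : ((HomologicalComplex.singleObjXSelf (ComplexShape.up ℤ) k M).inv ≫ u.f k) ≫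
      J.d k (k + 1) = 0 := by
    rw [Category.assoc, u.comm k (k + 1), HomologicalComplex.single_obj_d, zero_comp, comp_zero]
  obtain ⟨c, hc⟩ := exists_cycle_of_comp_d_eq_zero M J k _ hz
  refine ⟨c, ?_⟩
  have h1 : cycToHom M J k c = u := by
    apply HomologicalComplex.from_single_hom_ext
    rw [cycToHom_f, hc, Iso.hom_inv_id_assoc]
  show Q.map (cycToHom M J k c) = f
  rw [h1, hu]

lemma cycToHomLin_eq_zero_iff [J.IsKInjective] (k : ℤ) (c : (homCx M J).cycles k) :
    cycToHomLin M J k c = 0 ↔ ((homCx M J).homologyπ k).hom c = 0 := by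
  constructor
  · intro h
    obtain ⟨H⟩ := homotopy_zero_of_Q_map_eq_zero_of_isKInjective (cycToHom M J k c) h
    obtain ⟨s, hs⟩ := exists_lift_of_homotopy J (k - 1) k (by omega) M (cycVal M J k c)
      (fun j _ => cycVal_comp_d M J k j c) H
    have hc : c = ((homCx M J).toCycles (k - 1) k).hom s := by
      have hmono : Function.Injective ((homCx M J).iCycles k).hom :=
        (ModuleCat.mono_iff_injective _).1 inferInstance
      apply hmono
      have h2 := LinearMap.congr_fun (congrArg ModuleCat.Hom.hom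
        ((homCx M J).toCycles_i (k - 1) k)) s
      exact hs.trans h2.symm
    rw [hc]
    exact LinearMap.congr_fun (congrArg ModuleCat.Hom.hom
      ((homCx M J).toCycles_comp_homologyπ (k - 1) k)) s
  · intro h
    let S : ShortComplex (ModuleCat.{u} A) :=
      ShortComplex.mk ((homCx M J).toCycles (k - 1) k) ((homCx M J).homologyπ k)
        ((homCx M J).toCycles_comp_homologyπ (k - 1) k)
    have hex : S.Exact :=
      S.exact_of_g_is_cokernel ((homCx M J).homologyIsCokernel (k - 1) k (by simp))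
    obtain ⟨s, hs⟩ := (ShortComplex.moduleCat_exact_iff S).1 hex c h
    have hz : cycVal M J k c = s ≫ J.d (k - 1) k := by
      rw [← hs]
      exact LinearMap.congr_fun (congrArg ModuleCat.Hom.hom
        ((homCx M J).toCycles_i (k - 1) k)) s
    have h1 : cycToHom M J k c = HomologicalComplex.mkHomFromSingle (s ≫ J.d (k - 1) k)
        (fun j _ => by rw [Category.assoc, HomologicalComplex.d_comp_d, comp_zero]) := by
      apply HomologicalComplex.from_single_hom_ext
      rw [cycToHom_f, HomologicalComplex.mkHomFromSingle_f, hz]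
    show Q.map (cycToHom M J k c) = 0
    rw [h1]
    exact Q_map_mkHomFromSingle_eq_zero J k M s _

/-- `H^k(Hom(M, J)) ≃ Hom_{D(A)}(M[-k], J)` for `J` K-injective -/
noncomputable def homologyHomEquiv [J.IsKInjective] (k : ℤ) :
    (homCx M J).homology k ≃ₗ[A]
      (toD ((HomologicalComplex.single (ModuleCat.{u} A) (ComplexShape.up ℤ) k).obj M) ⟶ toD J) :=
  have hπ : Function.Surjective ((homCx M J).homologyπ k).hom :=
    (ModuleCat.epi_iff_surjective _).1 inferInstance
  have hker : LinearMap.ker ((homCx M J).homologyπ k).hom = LinearMap.ker (cycToHomLin M J k) := by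
    ext c
    rw [LinearMap.mem_ker, LinearMap.mem_ker, cycToHomLin_eq_zero_iff]
  (LinearMap.quotKerEquivOfSurjective _ hπ).symm ≪≫ₗ (Submodule.quotEquivOfEq _ _ hker) ≪≫ₗ
    (LinearMap.quotKerEquivOfSurjective _ (cycToHomLin_surjective M J k))

end HomCxCohomology

section Conc

variable {A : Type u} [CommRing A]

/-- if `Ext^k(M, ω) = 0` for `k ≠ 0` then `RHom(M, ω) ≅ Hom(M, ω)[0]` -/
theorem nonempty_toD_homCx_iso_inD (M : Type u) [AddCommGroup M] [Module A M] (J : Cx A)
    [J.IsKInjective] {ω : Dual.D A} (e : toD J ≅ ω)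
    (hv : ∀ k : ℤ, k ≠ 0 → Subsingleton (Dual.inD A M ⟶ ω⟦k⟧))
    (V : Type u) [AddCommGroup V] [Module A V] (eV : (Dual.inD A M ⟶ ω) ≃ₗ[A] V) :
    Nonempty (toD (homCx (ModuleCat.of A M) J) ≅ Dual.inD A V) := by
  have hsub : ∀ k : ℤ, k ≠ 0 → Subsingleton ((homCx (ModuleCat.of A M) J).homology k) := by
    intro k hk
    haveI : Subsingleton (toD ((HomologicalComplex.single (ModuleCat.{u} A) (ComplexShape.up ℤ)
        k).obj (ModuleCat.of A M)) ⟶ toD J) := by
      refine ⟨fun f g => ?_⟩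
      obtain ⟨u, rfl⟩ := exists_Q_map_eq_of_isKInjective f
      obtain ⟨u', rfl⟩ := exists_Q_map_eq_of_isKInjective g
      rw [Q_map_eq_zero_of_subsingleton_from e k (ModuleCat.of A M) (hv k hk) u,
        Q_map_eq_zero_of_subsingleton_from e k (ModuleCat.of A M) (hv k hk) u']
    exact (homologyHomEquiv (ModuleCat.of A M) J k).toEquiv.subsingleton
  have hz : ∀ k : ℤ, k ≠ 0 → IsZero ((DerivedCategory.homologyFunctor (ModuleCat.{u} A) k).obj
      (toD (homCx (ModuleCat.of A M) J))) := by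
    intro k hk
    haveI := hsub k hk
    have hzero : IsZero ((homCx (ModuleCat.of A M) J).homology k) :=
      ModuleCat.isZero_of_subsingleton _
    exact IsZero.of_iso hzero
      ((DerivedCategory.homologyFunctorFactors (ModuleCat.{u} A) k).app _)
  haveI : DerivedCategory.IsGE (toD (homCx (ModuleCat.of A M) J)) 0 := by
    rw [DerivedCategory.isGE_iff]
    intro j hj
    exact hz j (by omega)
  haveI : DerivedCategory.IsLE (toD (homCx (ModuleCat.of A M) J)) 0 := by
    rw [DerivedCategory.isLE_iff]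
    intro j hj
    exact hz j (by omega)
  obtain ⟨W, ⟨eW⟩⟩ := DerivedCategory.exists_iso_singleFunctor_obj_of_isGE_of_isLE
    (toD (homCx (ModuleCat.of A M) J)) 0
  let i1 : W ≅ (homCx (ModuleCat.of A M) J).homology 0 :=
    ((DerivedCategory.singleFunctorCompHomologyFunctorIso (ModuleCat.{u} A) 0).app W).symm ≪≫
      (DerivedCategory.homologyFunctor (ModuleCat.{u} A) 0).mapIso eW.symm ≪≫
      (DerivedCategory.homologyFunctorFactors (ModuleCat.{u} A) 0).app _
  let l1 : W ≃ₗ[A] (homCx (ModuleCat.of A M) J).homology 0 := i1.toLinearEquiv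
  let l2 := homologyHomEquiv (ModuleCat.of A M) J 0
  let l3 : (toD ((HomologicalComplex.single (ModuleCat.{u} A) (ComplexShape.up ℤ) 0).obj
      (ModuleCat.of A M)) ⟶ toD J) ≃ₗ[A] (Dual.inD A M ⟶ ω) :=
    Linear.homCongr A ((DerivedCategory.singleFunctorIsoCompQ (ModuleCat.{u} A) 0).app
      (ModuleCat.of A M)).symm e
  exact ⟨eW ≪≫ inDIsoOfLinearEquiv (l1 ≪≫ₗ l2 ≪≫ₗ l3 ≪≫ₗ eV)⟩

end Conc

section Tri

variable {A : Type u} [CommRing A] [IsLocalRing A] [IsNoetherianRing A]

/-- S8945. -/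
theorem exists_triangle_rightAdjoint_quotient_finiteLength (ω : Dual.D A)
    (hω : Dual.IsDualizing A ω) (hn : Dual.IsNormalized A ω) (I : Ideal A)
    (hIl : IsFiniteLength A I) (E : Type u) [AddCommGroup E] [Module A E]
    (f : IsLocalRing.ResidueField A →ₗ[A] E) (hf : InjHull.IsInjectiveHull f)
    (R : Dual.D A ⥤ Dual.D (A ⧸ I)) (adj : DRing.restrictD (Ideal.Quotient.mk I) ⊣ R) :
    ∃ (u : (DRing.restrictD (Ideal.Quotient.mk I)).obj (R.obj ω) ⟶ ω)
      (v : ω ⟶ Dual.inD A (I →ₗ[A] E))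
      (w : Dual.inD A (I →ₗ[A] E) ⟶
        ((DRing.restrictD (Ideal.Quotient.mk I)).obj (R.obj ω))⟦(1 : ℤ)⟧),
      Triangle.mk u v w ∈ distTriang (Dual.D A) := by
  obtain ⟨a, b, J, hJ, hinj, ⟨e⟩⟩ := hasFiniteInjDim_of_isDualizing ω hω
  haveI : J.IsKInjective := isKInjective_of_injCls ⟨a, b, hJ, hinj⟩
  let φ : A →+* (A ⧸ I) := Ideal.Quotient.mk I
  let N : ModuleCat.{u} A := resSelf φ
  let π : A →ₗ[A] N :=
    { toFun := fun x => φ x
      map_add' := map_add φ
      map_smul' := fun x y => by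
        show φ (x * y) = φ x * φ y
        exact map_mul φ x y }
  have hfg : Function.Exact (Submodule.subtype I) π := by
    intro y
    show φ y = 0 ↔ y ∈ Set.range (Submodule.subtype I)
    rw [Ideal.Quotient.eq_zero_iff_mem]
    constructor
    · intro hy
      exact ⟨⟨y, hy⟩, rfl⟩
    · rintro ⟨x, rfl⟩
      exact x.2
  have hsurj : Function.Surjective π := Ideal.Quotient.mk_surjective
  have hS := linSC_shortExact (Submodule.subtype I) π hfg (Submodule.injective_subtype I) hsurj
  have hT := DerivedCategory.triangleOfSES_distinguished (homSC_shortExact _ hS J hinj)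
  let T := DerivedCategory.triangleOfSES (homSC_shortExact _ hS J hinj)
  let i₁ : (restrictD φ).obj (R.obj ω) ≅ T.obj₁ := restrictRightAdjIso R adj J e
  let i₂ : T.obj₂ ≅ ω := Q.mapIso (homCxSelfIso J) ≪≫ e
  obtain ⟨hv, ⟨eV⟩⟩ := ext_finiteLength_normalized_dualizing ω hω hn E f hf I hIl
  obtain ⟨i₃⟩ : Nonempty (T.obj₃ ≅ Dual.inD A (I →ₗ[A] E)) :=
    nonempty_toD_homCx_iso_inD I J e hv (I →ₗ[A] E) eV
  refine ⟨i₁.hom ≫ T.mor₁ ≫ i₂.hom, i₂.inv ≫ T.mor₂ ≫ i₃.hom,
    i₃.inv ≫ T.mor₃ ≫ i₁.inv⟦(1 : ℤ)⟧', ?_⟩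
  refine isomorphic_distinguished _ hT _ (Triangle.isoMk _ _ i₁ i₂.symm i₃.symm ?_ ?_ ?_)
  · show (i₁.hom ≫ T.mor₁ ≫ i₂.hom) ≫ i₂.inv = i₁.hom ≫ T.mor₁
    simp only [Category.assoc, Iso.hom_inv_id, Category.comp_id]
  · show (i₂.inv ≫ T.mor₂ ≫ i₃.hom) ≫ i₃.inv = i₂.inv ≫ T.mor₂
    simp only [Category.assoc, Iso.hom_inv_id, Category.comp_id]
  · show (i₃.inv ≫ T.mor₃ ≫ i₁.inv⟦(1 : ℤ)⟧') ≫ i₁.hom⟦(1 : ℤ)⟧' = i₃.inv ≫ T.mor₃
    simp only [Category.assoc, ← Functor.map_comp, Iso.inv_hom_id, CategoryTheory.Functor.map_id,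
      Category.comp_id]

end Tri

end Groth.Agent.Lib.DMod_helper6
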