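import Mathlib
import Groth.Prelude.Def_DRing2
import Groth.Prelude.Def_DDual2
import Groth.Agent.Lib.DMod67_helper6

/-!
# Derived category toolkit (helper6), part 68: splitting an object along a gap in its cohomology
when the connecting morphism vanishes; perfect complexes over regular rings (S6995).
-/

set_option autoImplicit false
universe u
open CategoryTheory CategoryTheory.Limits Pretriangulated DerivedCategory ZeroObject
attribute [local instance] HasDerivedCategory.standard

namespace Groth.Agent.Lib.DMod_helper6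

open DRing CochainComplex Groth.Agent.Lib.DerivedTrunc_helper2

section Split

variable {A : Type u} [CommRing A]


/-- If `H^i(K) = 0` for `n₀ ≤ i < n₁` and there are no nonzero morphisms
`τ_{≥ n₁} K ⟶ (τ_{< n₀} K)[1]`, then `K ≅ τ_{< n₀} K ⊞ τ_{≥ n₁} K` compatibly with the truncation
maps. -/
theorem exists_split_of_gap (K : Dual.D A) (n₀ n₁ : ℤ) (h01 : n₀ ≤ n₁)
    (hgap : ∀ i : ℤ, n₀ ≤ i → i < n₁ →
      IsZero ((DerivedCategory.homologyFunctor (ModuleCat.{u} A) i).obj K))
    (hzero : ∀ f : ((tt (ModuleCat.{u} A)).truncGE n₁).obj K ⟶ (((tt (ModuleCat.{u} A)).truncLT n₀).obj K)⟦(1 : ℤ)⟧, f = 0)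
    [HasBinaryBiproduct (((tt (ModuleCat.{u} A)).truncLT n₀).obj K) (((tt (ModuleCat.{u} A)).truncGE n₁).obj K)] :
    ∃ e : K ≅ ((tt (ModuleCat.{u} A)).truncLT n₀).obj K ⊞ ((tt (ModuleCat.{u} A)).truncGE n₁).obj K,
      ((tt (ModuleCat.{u} A)).truncLTι n₀).app K ≫ e.hom = biprod.inl ∧
        e.hom ≫ biprod.snd = ((tt (ModuleCat.{u} A)).truncGEπ n₁).app K := by
  have hT₁ := (tt (ModuleCat.{u} A)).triangleLTGE_distinguished n₁ K
  have hT₀ := (tt (ModuleCat.{u} A)).triangleLTGE_distinguished n₀ K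
  have hle : (tt (ModuleCat.{u} A)).IsLE (((tt (ModuleCat.{u} A)).triangleLTGE n₁).obj K).obj₁ (n₀ - 1) := by
    show DerivedCategory.IsLE (((tt (ModuleCat.{u} A)).triangleLTGE n₁).obj K).obj₁ (n₀ - 1)
    rw [DerivedCategory.isLE_iff]
    intro i hi
    by_cases hi' : i < n₁
    · haveI h1 : Mono ((DerivedCategory.homologyFunctor (ModuleCat.{u} A) i).map
          (((tt (ModuleCat.{u} A)).triangleLTGE n₁).obj K).mor₁) :=
        ((DerivedCategory.homologyFunctor (ModuleCat.{u} A) 0).homologySequence_mono_shift_map_mor₁_iff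
          _ hT₁ (i - 1) i (by omega)).2
          ((DerivedCategory.isZero_of_isGE (((tt (ModuleCat.{u} A)).triangleLTGE n₁).obj K).obj₃ n₁ (i - 1)
            (by omega)).eq_of_src _ _)
      exact IsZero.of_mono ((DerivedCategory.homologyFunctor (ModuleCat.{u} A) i).map
        (((tt (ModuleCat.{u} A)).triangleLTGE n₁).obj K).mor₁) (hgap i (by omega) hi')
    · exact DerivedCategory.isZero_of_isLE (((tt (ModuleCat.{u} A)).triangleLTGE n₁).obj K).obj₁ (n₁ - 1) i (by omega)
  have hge : (tt (ModuleCat.{u} A)).IsGE (((tt (ModuleCat.{u} A)).triangleLTGE n₁).obj K).obj₃ n₀ :=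
    (tt (ModuleCat.{u} A)).isGE_of_ge (((tt (ModuleCat.{u} A)).triangleLTGE n₁).obj K).obj₃ n₀ n₁ h01
  obtain ⟨e', he'⟩ := Triangulated.TStructure.triangle_iso_exists (tt (ModuleCat.{u} A)) hT₁ hT₀
    (Iso.refl K : (((tt (ModuleCat.{u} A)).triangleLTGE n₁).obj K).obj₂ ≅ (((tt (ModuleCat.{u} A)).triangleLTGE n₀).obj K).obj₂)
    (n₀ - 1) n₀ hle hge inferInstance inferInstance (by omega)
  let δ : ((tt (ModuleCat.{u} A)).truncGE n₁).obj K ⟶ (((tt (ModuleCat.{u} A)).truncLT n₀).obj K)⟦(1 : ℤ)⟧ :=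
    (((tt (ModuleCat.{u} A)).triangleLTGE n₁).obj K).mor₃ ≫ e'.hom.hom₁⟦(1 : ℤ)⟧'
  let T'' : Triangle (Dual.D A) :=
    Triangle.mk (((tt (ModuleCat.{u} A)).truncLTι n₀).app K) (((tt (ModuleCat.{u} A)).truncGEπ n₁).app K) δ
  have hT'' : T'' ∈ distTriang (Dual.D A) := by
    refine isomorphic_distinguished _ hT₁ T''
      (Triangle.isoMk (((tt (ModuleCat.{u} A)).triangleLTGE n₁).obj K) T''
        (show (((tt (ModuleCat.{u} A)).triangleLTGE n₁).obj K).obj₁ ≅ T''.obj₁ from
          Triangle.π₁.mapIso e')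
        (Iso.refl _) (Iso.refl _) ?_ ?_ ?_).symm
    · have h1 := e'.hom.comm₁
      rw [he'] at h1
      exact h1
    · exact (Category.comp_id _).trans (Category.id_comp _).symm
    · exact (Category.id_comp _).symm
  obtain ⟨e, he1, he2⟩ := exists_iso_binaryBiproduct_of_distTriang T'' hT'' (hzero δ)
  exact ⟨e, he1, he2.symm⟩

end Split

section RegularSplit

variable {R : Type u} [CommRing R] [IsNoetherianRing R]

/-- S6995 -/
theorem perfect_splits_of_regular
    (hreg : ∀ p : PrimeSpectrum R, IsRegularLocalRing (Localization.AtPrime p.asIdeal)) (d : ℕ)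
    (hd1 : 1 ≤ d) (hd : ringKrullDim R = d) (K : Dual.D R) (hK : IsPerfect R K) (k : ℤ)
    (hgap : ∀ i : ℤ, k - d + 2 ≤ i → i ≤ k → Subsingleton (Dual.HD R K i))
    [HasBinaryBiproduct
      (((DerivedCategory.TStructure.t : Triangulated.TStructure (Dual.D R)).truncLT
        (k - d + 2)).obj K)
      (((DerivedCategory.TStructure.t : Triangulated.TStructure (Dual.D R)).truncGE
        (k + 1)).obj K)] :
    ∃ e : K ≅
      ((DerivedCategory.TStructure.t : Triangulated.TStructure (Dual.D R)).truncLT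
          (k - d + 2)).obj K ⊞
        ((DerivedCategory.TStructure.t : Triangulated.TStructure (Dual.D R)).truncGE
          (k + 1)).obj K,
      ((DerivedCategory.TStructure.t : Triangulated.TStructure (Dual.D R)).truncLTι
          (k - d + 2)).app K ≫ e.hom = biprod.inl ∧
        e.hom ≫ biprod.snd =
          ((DerivedCategory.TStructure.t : Triangulated.TStructure (Dual.D R)).truncGEπ
            (k + 1)).app K := by
  obtain ⟨E, a, b, hE, -, ⟨eE⟩⟩ := hK
  haveI hKle : DerivedCategory.IsLE K b := by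
    haveI : E.IsStrictlyLE b :=
      (CochainComplex.isStrictlyLE_iff E b).2 (fun j hj => hE j (Or.inr hj))
    exact TStructure.t.isLE_of_iso eE b
  have hgl := fun M : ModuleCat.{u} R =>
    hasProjectiveDimensionLT_of_regular_of_krullDim hreg d hd M
  refine exists_split_of_gap K (k - d + 2) (k + 1) (by omega) (fun i h1 h2 => ?_) (fun f => ?_)
  · haveI := hgap i h1 (by omega)
    exact ModuleCat.isZero_of_subsingleton _
  · exact hom_eq_zero_of_globalDim d hgl _ _ k b inferInstance inferInstance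
      (TStructure.t.isLE_shift _ (k - d + 2 - 1) 1 (k - d) (by omega)) f

end RegularSplit

end Groth.Agent.Lib.DMod_helper6
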