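import Mathlib
import Groth.Prelude.Def_DRing2
import Groth.Prelude.Def_DDual2
import Groth.Agent.Lib.DMod68_helper6

/-!
# Derived category toolkit (helper6), part 69: spreading out a split injection from a prime to a
principal open: if `E^{i-1} → E^i → E^{i+1}` (finite free modules) becomes exact after tensoring
with `κ(p)`, then for some `u ∉ p` the complex `E_u` is exact at `i` and `coker(d^i_u)` is projective.
-/

set_option autoImplicit false
universe u
open CategoryTheory CategoryTheory.Limits Pretriangulated DerivedCategory ZeroObject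
open scoped TensorProduct
attribute [local instance] HasDerivedCategory.standard

namespace Groth.Agent.Lib.DMod_helper6

open DRing CochainComplex Groth.Agent.ExtendScalarsLib

section SpreadSplit

variable {R : Type u} [CommRing R]

lemma injective_lTensor_liftQ' (N : Type u) [AddCommGroup N] [Module R N]
    {M₁ M₂ M₃ : Type u} [AddCommGroup M₁] [AddCommGroup M₂]
    [AddCommGroup M₃] [Module R M₁] [Module R M₂] [Module R M₃]
    (f : M₁ →ₗ[R] M₂) (g : M₂ →ₗ[R] M₃) (hN : LinearMap.range f ≤ LinearMap.ker g)
    (h : Function.Exact (f.lTensor N) (g.lTensor N)) :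
    Function.Injective (((LinearMap.range f).liftQ g hN).lTensor N) := by
  have hcomp : ((LinearMap.range f).liftQ g hN) ∘ₗ (LinearMap.range f).mkQ = g :=
    (LinearMap.range f).liftQ_mkQ g hN
  rw [injective_iff_map_eq_zero]
  intro x hx
  obtain ⟨y, rfl⟩ := LinearMap.lTensor_surjective N
    ((LinearMap.range f).mkQ_surjective) x
  have h0 : g.lTensor N y = 0 := by
    rw [← hcomp, LinearMap.lTensor_comp, LinearMap.comp_apply]
    exact hx
  obtain ⟨z, rfl⟩ := (h y).1 h0
  rw [← LinearMap.comp_apply, ← LinearMap.lTensor_comp]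
  have h1 : (LinearMap.range f).mkQ ∘ₗ f = 0 := by
    ext x
    simp
  rw [h1, LinearMap.lTensor_zero, LinearMap.zero_apply]

lemma exact_lTensor_of_injective_liftQ (N : Type u) [AddCommGroup N] [Module R N]
    {M₁ M₂ M₃ : Type u} [AddCommGroup M₁] [AddCommGroup M₂]
    [AddCommGroup M₃] [Module R M₁] [Module R M₂] [Module R M₃]
    (f : M₁ →ₗ[R] M₂) (g : M₂ →ₗ[R] M₃) (hN : LinearMap.range f ≤ LinearMap.ker g)
    (hinj : Function.Injective (((LinearMap.range f).liftQ g hN).lTensor N)) :
    Function.Exact (f.lTensor N) (g.lTensor N) := by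
  have hcomp : ((LinearMap.range f).liftQ g hN) ∘ₗ (LinearMap.range f).mkQ = g :=
    (LinearMap.range f).liftQ_mkQ g hN
  have hex : Function.Exact (f.lTensor N) ((LinearMap.range f).mkQ.lTensor N) :=
    lTensor_exact N (LinearMap.exact_map_mkQ_range f) (Submodule.mkQ_surjective _)
  intro y
  constructor
  · intro hy
    have h1 : ((LinearMap.range f).liftQ g hN).lTensor N
        (((LinearMap.range f).mkQ.lTensor N) y) = 0 := by
      rw [← LinearMap.comp_apply, ← LinearMap.lTensor_comp, hcomp]
      exact hy
    have h2 : ((LinearMap.range f).mkQ.lTensor N) y = 0 :=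
      hinj (h1.trans (map_zero _).symm)
    exact (hex y).1 h2
  · rintro ⟨x, rfl⟩
    have hgf : g ∘ₗ f = 0 := by
      ext z
      exact hN ⟨z, rfl⟩
    rw [← LinearMap.comp_apply, ← LinearMap.lTensor_comp, hgf, LinearMap.lTensor_zero,
      LinearMap.zero_apply]

/-- Lemma A: a map from a finite module to a finite free module which is injective modulo `p`
admits a retraction up to an element outside of `p`. -/
theorem exists_smul_retraction (p : Ideal R) [p.IsPrime] {Q F : Type u} [AddCommGroup Q]
    [AddCommGroup F] [Module R Q] [Module R F] [Module.Finite R Q] [Module.Finite R F]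
    [Module.Free R F] (l : Q →ₗ[R] F)
    (hl : Function.Injective (l.lTensor p.ResidueField)) :
    ∃ (r : F →ₗ[R] Q) (u : R), u ∉ p ∧ r ∘ₗ l = u • LinearMap.id := by
  have hinj : Function.Injective ((l.baseChange (Localization.AtPrime p)).lTensor
      (IsLocalRing.ResidueField (Localization.AtPrime p))) := by
    intro x y hxy
    apply (TensorProduct.AlgebraTensorModule.cancelBaseChange R (Localization.AtPrime p)
      (Localization.AtPrime p) (IsLocalRing.ResidueField (Localization.AtPrime p)) Q).injective
    apply hl
    have h1 := cancelBaseChange_comm (A := R) (B := Localization.AtPrime p)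
      (IsLocalRing.ResidueField (Localization.AtPrime p)) l x
    have h2 := cancelBaseChange_comm (A := R) (B := Localization.AtPrime p)
      (IsLocalRing.ResidueField (Localization.AtPrime p)) l y
    exact h1.symm.trans ((congrArg _ hxy).trans h2)
  obtain ⟨l', hl'⟩ := (IsLocalRing.split_injective_iff_lTensor_residueField_injective
    (l.baseChange (Localization.AtPrime p))).2 hinj
  let fQ : Q →ₗ[R] (Localization.AtPrime p) ⊗[R] Q :=
    TensorProduct.mk R (Localization.AtPrime p) Q 1
  let fF : F →ₗ[R] (Localization.AtPrime p) ⊗[R] F :=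
    TensorProduct.mk R (Localization.AtPrime p) F 1
  haveI : Module.FinitePresentation R F := Module.finitePresentation_of_projective R F
  obtain ⟨r, t, hr⟩ := Module.FinitePresentation.exists_lift_of_isLocalizedModule p.primeCompl fQ
    ((l'.restrictScalars R) ∘ₗ fF)
  have hcomp : fQ ∘ₗ (r ∘ₗ l) = fQ ∘ₗ ((t : R) • (LinearMap.id : Q →ₗ[R] Q)) := by
    apply LinearMap.ext
    intro q
    have h1 : fQ (r (l q)) = (t • ((l'.restrictScalars R) ∘ₗ fF)) (l q) := by
      rw [← hr]
      rfl
    have h2 : (l.baseChange (Localization.AtPrime p)) (fQ q) = fF (l q) := by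
      show (l.baseChange (Localization.AtPrime p)) ((1 : Localization.AtPrime p) ⊗ₜ[R] q) = _
      rw [LinearMap.baseChange_tmul]
      rfl
    have h3 : l' (fF (l q)) = fQ q := by
      rw [← h2]
      exact LinearMap.congr_fun hl' (fQ q)
    show fQ (r (l q)) = fQ ((t : R) • q)
    rw [h1, map_smul]
    show t • l' (fF (l q)) = (t : R) • fQ q
    rw [h3]
    rfl
  obtain ⟨s, hs⟩ := Module.Finite.exists_smul_of_comp_eq_of_isLocalizedModule p.primeCompl fQ
    (r ∘ₗ l) ((t : R) • (LinearMap.id : Q →ₗ[R] Q)) hcomp
  refine ⟨(s : R) • r, (s : R) * (t : R), (s * t).2, ?_⟩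
  apply LinearMap.ext
  intro q
  have h4 := LinearMap.congr_fun hs q
  show (s : R) • r (l q) = ((s : R) * (t : R)) • q
  rw [mul_smul]
  exact h4

/-- Lemma B1: over an algebra in which `u` is invertible, `l` acquires a retraction. -/
theorem exists_retraction_baseChange {Q F : Type u} [AddCommGroup Q] [AddCommGroup F] [Module R Q]
    [Module R F] (l : Q →ₗ[R] F) (r : F →ₗ[R] Q) (u : R) (hr : r ∘ₗ l = u • LinearMap.id)
    (B : Type u) [CommRing B] [Algebra R B] (hu : IsUnit (algebraMap R B u)) :
    ∃ r' : B ⊗[R] F →ₗ[B] B ⊗[R] Q, r' ∘ₗ l.baseChange B = LinearMap.id := by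
  obtain ⟨v, hv⟩ := hu
  refine ⟨(↑v⁻¹ : B) • r.baseChange B, ?_⟩
  apply LinearMap.ext
  intro x
  have h1 : (r.baseChange B) ((l.baseChange B) x) = u • x := by
    rw [← LinearMap.comp_apply, ← LinearMap.baseChange_comp, hr, LinearMap.baseChange_smul,
      LinearMap.baseChange_id]
    rfl
  show (↑v⁻¹ : B) • (r.baseChange B) ((l.baseChange B) x) = x
  rw [h1, ← algebraMap_smul B u x, ← hv, smul_smul, Units.inv_mul, one_smul]

/-- Lemma B2: the base change of the cokernel of a split injection into a projective module is
projective. -/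
theorem projective_baseChange_coker_of_retraction {Q F : Type u} [AddCommGroup Q] [AddCommGroup F]
    [Module R Q] [Module R F] [Module.Projective R F] (l : Q →ₗ[R] F)
    (B : Type u) [CommRing B] [Algebra R B]
    (r' : B ⊗[R] F →ₗ[B] B ⊗[R] Q) (hr' : r' ∘ₗ l.baseChange B = LinearMap.id) :
    Module.Projective B (B ⊗[R] (F ⧸ LinearMap.range l)) := by
  have hex : Function.Exact (l.baseChange B) ((LinearMap.range l).mkQ.baseChange B) :=
    lTensor_exact B (LinearMap.exact_map_mkQ_range l) (Submodule.mkQ_surjective _)
  have hsurj : Function.Surjective ((LinearMap.range l).mkQ.baseChange B) :=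
    LinearMap.lTensor_surjective B (Submodule.mkQ_surjective _)
  have hinj : Function.Injective (l.baseChange B) :=
    Function.HasLeftInverse.injective ⟨r', LinearMap.congr_fun hr'⟩
  have h01 := (Function.Exact.split_tfae hex hinj hsurj).out 0 1
  obtain ⟨σ, hσ⟩ := h01.2 ⟨r', hr'⟩
  exact Module.Projective.of_split σ _ hσ

end SpreadSplit

section SpreadCx

variable {R : Type u} [CommRing R]

/-- Spreading out: exactness of `E ⊗ κ(p)` at `i` gives, on a principal open neighbourhood of `p`,
exactness of `E` at `i` and projectivity of `coker(d^i)`. -/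
theorem exists_away_exact_and_projective_coker (E : Cx R) (i : ℤ) (p : Ideal R) [p.IsPrime]
    (hff : TermwiseFiniteFree E)
    (hex : Function.Exact ((E.d (i - 1) i).hom.lTensor p.ResidueField)
      ((E.d i (i + 1)).hom.lTensor p.ResidueField)) :
    ∃ u : R, u ∉ p ∧
      (((ES R (Localization.Away u)).mapHomologicalComplex (ComplexShape.up ℤ)).obj E).ExactAt i ∧
      Module.Projective (Localization.Away u)
        (↥((ES R (Localization.Away u)).obj (E.X (i + 1))) ⧸
          LinearMap.range ((ES R (Localization.Away u)).map (E.d i (i + 1))).hom) := by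
  haveI : Module.Finite R (E.X i) := (hff i).1
  haveI : Module.Finite R (E.X (i + 1)) := (hff (i + 1)).1
  haveI : Module.Free R (E.X (i + 1)) := (hff (i + 1)).2
  have hN : LinearMap.range (E.d (i - 1) i).hom ≤ LinearMap.ker (E.d i (i + 1)).hom := by
    rintro _ ⟨x, rfl⟩
    exact LinearMap.congr_fun (congrArg ModuleCat.Hom.hom (E.d_comp_d (i - 1) i (i + 1))) x
  have hinj := injective_lTensor_liftQ' p.ResidueField _ _ hN hex
  obtain ⟨r, u, hu, hr⟩ := exists_smul_retraction p
    ((LinearMap.range (E.d (i - 1) i).hom).liftQ (E.d i (i + 1)).hom hN) hinj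
  refine ⟨u, hu, ?_, ?_⟩
  · obtain ⟨r', hr'⟩ := exists_retraction_baseChange _ r u hr (Localization.Away u)
      (IsLocalization.Away.algebraMap_isUnit u)
    have hinjB : Function.Injective
        (((LinearMap.range (E.d (i - 1) i).hom).liftQ (E.d i (i + 1)).hom hN).lTensor
          (Localization.Away u)) :=
      Function.HasLeftInverse.injective ⟨r', LinearMap.congr_fun hr'⟩
    have h1 := exact_lTensor_of_injective_liftQ (Localization.Away u) _ _ hN hinjB
    exact exactAt_of_function_exact _ (i - 1) i (i + 1) (by omega) rfl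
      ((exact_ES_map_iff (A := R) (B := Localization.Away u) _ _).2 h1)
  · obtain ⟨r', hr'⟩ := exists_retraction_baseChange _ r u hr (Localization.Away u)
      (IsLocalization.Away.algebraMap_isUnit u)
    have h1 := projective_baseChange_coker_of_retraction
      ((LinearMap.range (E.d (i - 1) i).hom).liftQ (E.d i (i + 1)).hom hN)
      (Localization.Away u) r' hr'
    have hrange : LinearMap.range
        ((LinearMap.range (E.d (i - 1) i).hom).liftQ (E.d i (i + 1)).hom hN) =
        LinearMap.range (E.d i (i + 1)).hom :=
      (LinearMap.range (E.d (i - 1) i).hom).range_liftQ (E.d i (i + 1)).hom hN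
    have h2 : Module.Projective (Localization.Away u)
        ((Localization.Away u) ⊗[R] (E.X (i + 1) ⧸ LinearMap.range (E.d i (i + 1)).hom)) := by
      rw [← hrange]
      exact h1
    exact Module.Projective.of_equiv
      (cokerESEquiv (B := Localization.Away u) (E.d i (i + 1))).symm

end SpreadCx

end Groth.Agent.Lib.DMod_helper6
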