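import Mathlib
import Groth.Prelude.Def_DRing2
import Groth.Prelude.Def_DDual2
import Groth.Agent.Lib.DMod69_helper6

/-!
# Derived category toolkit (helper6), part 70: the canonical truncation `τ_{≥ c+1}` as a quotient
complex, and splitting of a pseudo-coherent complex near a prime at which one fibre cohomology group
vanishes (S7002).
-/

set_option autoImplicit false
universe u
open CategoryTheory CategoryTheory.Limits Pretriangulated DerivedCategory ZeroObject
open scoped TensorProduct
attribute [local instance] HasDerivedCategory.standard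

namespace Groth.Agent.Lib.DMod_helper6

open DRing CochainComplex Groth.Agent.ExtendScalarsLib Groth.Agent.Lib.DerivedTrunc_helper2

section QuotTrunc

variable {A : Type u} [CommRing A]

lemma subCx_splitN_exactAt_of_gt (P : Cx A) (c i : ℤ) (hi : c < i) :
    (subCx P (splitN P c) (splitN_stable P c)).ExactAt i := by
  by_cases hi' : i = c + 1
  · subst hi'
    refine subCx_exactAt_of_forall _ _ _ c (c + 1) (c + 1 + 1) rfl rfl (fun y hy _ => ?_)
    rw [splitN_succ] at hy
    obtain ⟨x, hx⟩ := hy
    exact ⟨x, by rw [splitN_of_le P c c le_rfl]; exact Submodule.mem_top, hx⟩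
  · refine subCx_exactAt_of_forall _ _ _ (i - 1) i (i + 1) (by omega) rfl (fun y hy _ => ?_)
    rw [splitN_of_gt P c i (by omega), Submodule.mem_bot] at hy
    exact ⟨0, Submodule.zero_mem _, by rw [map_zero, hy]⟩

lemma quotCx_splitN_isZero (P : Cx A) (c i : ℤ) (hi : i ≤ c) :
    IsZero ((quotCx P (splitN P c) (splitN_stable P c)).X i) := by
  have : Subsingleton (P.X i ⧸ splitN P c i) := by
    refine subsingleton_of_forall_eq 0 (fun y => ?_)
    obtain ⟨x, rfl⟩ := Submodule.mkQ_surjective _ y
    exact (Submodule.Quotient.mk_eq_zero _).2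
      (by rw [splitN_of_le P c i hi]; exact Submodule.mem_top)
  exact @ModuleCat.isZero_of_subsingleton _ _ (ModuleCat.of A (P.X i ⧸ splitN P c i)) this

/-- the terms of `τ_{≥ c+1} P = P / (… → P^c → B^{c+1} → 0)` -/
theorem quotCx_splitN_props (P : Cx A) (c b₁ : ℤ) (hPb : VanishesAbove P b₁)
    (hPff : TermwiseFiniteFree P)
    (hproj : Module.Projective A (P.X (c + 1) ⧸ LinearMap.range (P.d c (c + 1)).hom)) :
    VanishesOutside (quotCx P (splitN P c) (splitN_stable P c)) (c + 1) b₁ ∧
      TermwiseFiniteProjective (quotCx P (splitN P c) (splitN_stable P c)) := by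
  have hsurj : ∀ j, Function.Surjective (Submodule.mkQ (splitN P c j)) := fun j =>
    Submodule.mkQ_surjective _
  constructor
  · rintro j (hj | hj)
    · exact quotCx_splitN_isZero P c j (by omega)
    · haveI : Subsingleton (P.X j) := ModuleCat.subsingleton_of_isZero (hPb j hj)
      haveI : Subsingleton (P.X j ⧸ splitN P c j) := (hsurj j).subsingleton
      exact @ModuleCat.isZero_of_subsingleton _ _ (ModuleCat.of A (P.X j ⧸ splitN P c j))
        inferInstance
  · intro j
    haveI : Module.Finite A (P.X j) := (hPff j).1
    refine ⟨(inferInstance : Module.Finite A (P.X j ⧸ splitN P c j)), ?_⟩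
    by_cases hj : j ≤ c
    · obtain ⟨_, hf2⟩ := finite_free_of_isZero (quotCx_splitN_isZero P c j hj)
      infer_instance
    · by_cases hj' : j = c + 1
      · subst hj'
        exact Module.Projective.of_equiv
          (Submodule.quotEquivOfEq _ _ (splitN_succ P c)).symm
      · haveI : Module.Free A (P.X j) := (hPff j).2
        exact Module.Projective.of_equiv
          (Submodule.quotEquivOfEqBot _ (splitN_of_gt P c j (by omega))).symm

/-- `τ_{≥ c+1}` of the image of a complex is the image of the quotient complex. -/
theorem nonempty_truncGE_iso_quotCx (P : Cx A) (c : ℤ) :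
    Nonempty (toD (quotCx P (splitN P c) (splitN_stable P c)) ≅
      ((tt (ModuleCat.{u} A)).truncGE (c + 1)).obj (toD P)) := by
  have hS := subQuot_shortExact P (splitN P c) (splitN_stable P c)
  have hT := triangleOfSES_distinguished hS
  have hT₀ := (tt (ModuleCat.{u} A)).triangleLTGE_distinguished (c + 1) (toD P)
  have hle : (tt (ModuleCat.{u} A)).IsLE (triangleOfSES hS).obj₁ c := by
    show DerivedCategory.IsLE (toD (subCx P (splitN P c) (splitN_stable P c))) c
    rw [DerivedCategory.isLE_iff]
    intro j hj
    exact isZero_homology_toD_of_exactAt _ j (subCx_splitN_exactAt_of_gt P c j hj)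
  have hge : (tt (ModuleCat.{u} A)).IsGE (triangleOfSES hS).obj₃ (c + 1) := by
    show DerivedCategory.IsGE (toD (quotCx P (splitN P c) (splitN_stable P c))) (c + 1)
    haveI : (quotCx P (splitN P c) (splitN_stable P c)).IsStrictlyGE (c + 1) :=
      (CochainComplex.isStrictlyGE_iff _ _).2
        (fun j hj => quotCx_splitN_isZero P c j (by omega))
    infer_instance
  have hle₀ : (tt (ModuleCat.{u} A)).IsLE
      (((tt (ModuleCat.{u} A)).triangleLTGE (c + 1)).obj (toD P)).obj₁ c :=
    (tt (ModuleCat.{u} A)).isLE_of_le _ (c + 1 - 1) c (by omega)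
  obtain ⟨e', -⟩ := Triangulated.TStructure.triangle_iso_exists (tt (ModuleCat.{u} A)) hT hT₀
    (Iso.refl (toD P) : (triangleOfSES hS).obj₂ ≅
      (((tt (ModuleCat.{u} A)).triangleLTGE (c + 1)).obj (toD P)).obj₂)
    c (c + 1) hle hge hle₀ inferInstance (by omega)
  exact ⟨Triangle.π₃.mapIso e'⟩

end QuotTrunc

section Main

variable {R : Type u} [CommRing R]

/-- S7002 -/
theorem exists_away_split_truncations (p : Ideal R) [p.IsPrime]
    [HasLBaseChange (algebraMap R p.ResidueField)] (i : ℤ) (K : Cx R)
    (hK : IsPseudoCoherent' R (toD K))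
    (hi : Subsingleton (Dual.HD p.ResidueField
      ((LBaseChange (algebraMap R p.ResidueField)).obj (toD K)) i)) :
    ∃ f : R, f ∉ p ∧
      IsPerfect (Localization.Away f)
        (((tt (ModuleCat.{u} (Localization.Away f))).truncGE (i + 1)).obj
          (toD (((ES R (Localization.Away f)).mapHomologicalComplex (ComplexShape.up ℤ)).obj K))) ∧
      (∃ b : ℤ, HasTorAmplitudeIn (Localization.Away f) (i + 1) b
        (((tt (ModuleCat.{u} (Localization.Away f))).truncGE (i + 1)).obj
          (toD (((ES R (Localization.Away f)).mapHomologicalComplex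
            (ComplexShape.up ℤ)).obj K)))) ∧
      ∀ [HasBinaryBiproduct
        (((tt (ModuleCat.{u} (Localization.Away f))).truncGE (i + 1)).obj
          (toD (((ES R (Localization.Away f)).mapHomologicalComplex (ComplexShape.up ℤ)).obj K)))
        (((tt (ModuleCat.{u} (Localization.Away f))).truncLT i).obj
          (toD (((ES R (Localization.Away f)).mapHomologicalComplex
            (ComplexShape.up ℤ)).obj K)))],
        ∃ e : toD (((ES R (Localization.Away f)).mapHomologicalComplex
            (ComplexShape.up ℤ)).obj K) ≅
          (((tt (ModuleCat.{u} (Localization.Away f))).truncGE (i + 1)).obj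
            (toD (((ES R (Localization.Away f)).mapHomologicalComplex
              (ComplexShape.up ℤ)).obj K))) ⊞
          (((tt (ModuleCat.{u} (Localization.Away f))).truncLT i).obj
            (toD (((ES R (Localization.Away f)).mapHomologicalComplex
              (ComplexShape.up ℤ)).obj K))),
          e.hom ≫ biprod.fst =
            ((tt (ModuleCat.{u} (Localization.Away f))).truncGEπ (i + 1)).app
              (toD (((ES R (Localization.Away f)).mapHomologicalComplex
                (ComplexShape.up ℤ)).obj K)) ∧
          ((tt (ModuleCat.{u} (Localization.Away f))).truncLTι i).app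
              (toD (((ES R (Localization.Away f)).mapHomologicalComplex
                (ComplexShape.up ℤ)).obj K)) ≫ e.hom = biprod.inr := by
  obtain ⟨E, b₁, hEb, hEff, ⟨e⟩⟩ := hK
  have hEproj : ∀ j, Module.Projective R (E.X j) := fun j => by
    haveI := (hEff j).2
    infer_instance
  have hEflat : TermwiseFlat E := fun j => by
    haveI := (hEff j).2
    infer_instance
  haveI : E.IsKProjective := isKProjective_of_projective_bounded E b₁ hEb hEproj
  -- the fibre at `p`
  obtain ⟨eL⟩ := nonempty_lBaseChange_iso_of_flat (algebraMap R p.ResidueField) E b₁ hEb hEflat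
  have iso1 := eL.symm ≪≫ (LBaseChange (algebraMap R p.ResidueField)).mapIso e
  have hexκ : (((ModuleCat.extendScalars.{u, u, u}
      (algebraMap R p.ResidueField)).mapHomologicalComplex (ComplexShape.up ℤ)).obj E).ExactAt i :=
    (exactAt_iff_subsingleton_HD iso1 i).2 hi
  have hex1 := function_exact_of_exactAt _ (i - 1) i (i + 1) (by omega) rfl hexκ
  have hex2 : Function.Exact ((E.d (i - 1) i).hom.lTensor p.ResidueField)
      ((E.d i (i + 1)).hom.lTensor p.ResidueField) :=
    (exact_ES_map_iff (A := R) (B := p.ResidueField) _ _).1 hex1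
  obtain ⟨u, hu, hexu, hproju⟩ := exists_away_exact_and_projective_coker E i p hEff hex2
  refine ⟨u, hu, ?_⟩
  haveI : Module.Flat R (Localization.Away u) := IsLocalization.flat _ (Submonoid.powers u)
  -- the chain map `E → K`
  obtain ⟨φ, hφ⟩ := exists_Q_map_eq_of_isKProjective (E := E) (F := K) e.hom
  haveI hφq : QuasiIso φ := by
    rw [← isIso_Q_map_iff_quasiIso, hφ]
    infer_instance
  haveI hφu : IsIso (Q.map ((((ES R (Localization.Away u)).mapHomologicalComplex
      (ComplexShape.up ℤ))).map φ)) := by
    rw [isIso_Q_map_iff_quasiIso]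
    infer_instance
  let eK : toD (((ES R (Localization.Away u)).mapHomologicalComplex (ComplexShape.up ℤ)).obj E) ≅
      toD (((ES R (Localization.Away u)).mapHomologicalComplex (ComplexShape.up ℤ)).obj K) :=
    asIso (Q.map ((((ES R (Localization.Away u)).mapHomologicalComplex
      (ComplexShape.up ℤ))).map φ))
  -- the complex `E' = E_u`
  have hE'b : VanishesAbove (((ES R (Localization.Away u)).mapHomologicalComplex
      (ComplexShape.up ℤ)).obj E) b₁ := fun j hj =>
    (ES R (Localization.Away u)).map_isZero (hEb j hj)
  have hE'ff : TermwiseFiniteFree (((ES R (Localization.Away u)).mapHomologicalComplex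
      (ComplexShape.up ℤ)).obj E) := fun j =>
    ⟨finite_ES (A := R) (B := Localization.Away u) (E.X j) (hEff j).1,
      free_ES (A := R) (B := Localization.Away u) (E.X j) (hEff j).2⟩
  obtain ⟨hB'van, hB'fp⟩ := quotCx_splitN_props _ i b₁ hE'b hE'ff hproju
  obtain ⟨eB⟩ := nonempty_truncGE_iso_quotCx (((ES R (Localization.Away u)).mapHomologicalComplex
      (ComplexShape.up ℤ)).obj E) i
  have isoB := eB ≪≫ ((tt (ModuleCat.{u} (Localization.Away u))).truncGE (i + 1)).mapIso eK
  have hperf : IsPerfect (Localization.Away u)
      (((tt (ModuleCat.{u} (Localization.Away u))).truncGE (i + 1)).obj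
        (toD (((ES R (Localization.Away u)).mapHomologicalComplex
          (ComplexShape.up ℤ)).obj K))) :=
    isPerfect_of_iso isoB ⟨_, i + 1, b₁, hB'van, hB'fp, ⟨Iso.refl _⟩⟩
  have hamp : HasTorAmplitudeIn (Localization.Away u) (i + 1) b₁
      (((tt (ModuleCat.{u} (Localization.Away u))).truncGE (i + 1)).obj
        (toD (((ES R (Localization.Away u)).mapHomologicalComplex
          (ComplexShape.up ℤ)).obj K))) :=
    hasTorAmplitudeIn_of_iso isoB _ _
      ⟨_, hB'van, fun j => by haveI := (hB'fp j).2; infer_instance, ⟨Iso.refl _⟩⟩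
  refine ⟨hperf, ⟨b₁, hamp⟩, ?_⟩
  intro _
  -- splitting
  haveI hKP : (quotCx _ (splitN (((ES R (Localization.Away u)).mapHomologicalComplex
      (ComplexShape.up ℤ)).obj E) i) (splitN_stable _ i)).IsKProjective :=
    isKProjective_of_projective_bounded _ b₁ (fun j hj => hB'van j (Or.inr hj))
      (fun j => (hB'fp j).2)
  obtain ⟨e₀, he₀1, he₀2⟩ := exists_split_of_gap
    (toD (((ES R (Localization.Away u)).mapHomologicalComplex (ComplexShape.up ℤ)).obj K))
    i (i + 1) (by omega)
    (fun j h1 h2 => by
      obtain rfl : j = i := by omega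
      haveI := (exactAt_iff_subsingleton_HD eK j).1 hexu
      exact ModuleCat.isZero_of_subsingleton _)
    (fun f => by
      haveI : DerivedCategory.IsLE
          ((((tt (ModuleCat.{u} (Localization.Away u))).truncLT i).obj
            (toD (((ES R (Localization.Away u)).mapHomologicalComplex
              (ComplexShape.up ℤ)).obj K)))⟦(1 : ℤ)⟧) i := by
        haveI : DerivedCategory.IsLE
            ((((tt (ModuleCat.{u} (Localization.Away u))).truncLT i).obj
              (toD (((ES R (Localization.Away u)).mapHomologicalComplex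
                (ComplexShape.up ℤ)).obj K)))⟦(1 : ℤ)⟧) (i - 2) :=
          TStructure.t.isLE_shift _ (i - 1) 1 (i - 2) (by omega)
        exact TStructure.t.isLE_of_le _ (i - 2) i (by omega)
      have h0 := hom_eq_zero_of_isKProjective_of_isLE _ i
        (fun j hj => hB'van j (Or.inl (by omega))) _ (isoB.hom ≫ f)
      rw [← cancel_epi isoB.hom, h0, comp_zero])
  refine ⟨e₀ ≪≫ biprod.braiding
    (((tt (ModuleCat.{u} (Localization.Away u))).truncLT i).obj
      (toD (((ES R (Localization.Away u)).mapHomologicalComplex (ComplexShape.up ℤ)).obj K)))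
    (((tt (ModuleCat.{u} (Localization.Away u))).truncGE (i + 1)).obj
      (toD (((ES R (Localization.Away u)).mapHomologicalComplex (ComplexShape.up ℤ)).obj K))),
    ?_, ?_⟩
  · rw [Iso.trans_hom, Category.assoc]
    have hbr : (biprod.braiding
        (((tt (ModuleCat.{u} (Localization.Away u))).truncLT i).obj
          (toD (((ES R (Localization.Away u)).mapHomologicalComplex
            (ComplexShape.up ℤ)).obj K)))
        (((tt (ModuleCat.{u} (Localization.Away u))).truncGE (i + 1)).obj
          (toD (((ES R (Localization.Away u)).mapHomologicalComplex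
            (ComplexShape.up ℤ)).obj K)))).hom ≫ biprod.fst = biprod.snd := by
      simp [biprod.braiding]
    rw [hbr, he₀2]
  · rw [Iso.trans_hom, ← Category.assoc, he₀1]
    apply biprod.hom_ext <;> simp [biprod.braiding]

end Main

end Groth.Agent.Lib.DMod_helper6
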