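import Mathlib
import Groth.Prelude.Def_DRing2
import Groth.Prelude.Def_DRing3
import Groth.Prelude.Def_DDual2
import Groth.Agent.Lib.DMod31_helper6
import Groth.Agent.Lib.DMod13_helper6
import Groth.Agent.Lib.DerComplOld_helper9

/-!
# Derived category toolkit (helper6), part 76: the elements `g` for which a module is derived
`g`-complete form an ideal; derived completeness and restriction of scalars (S7057).
-/

set_option autoImplicit false
universe u
open CategoryTheory CategoryTheory.Limits DerivedCategory
attribute [local instance] HasDerivedCategory.standard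

namespace Groth.Agent.Lib.DMod_helper6

open DRing DerComp9

section Op

variable {A : Type u} [CommRing A] {N : Type u} [AddCommGroup N] [Module A N]

/-- `(xᵢ) ↦ (xᵢ - t xᵢ₊₁)`. -/
def phiOp (t : N →ₗ[A] N) : (ℕ → N) →ₗ[A] (ℕ → N) where
  toFun x i := x i - t (x (i + 1))
  map_add' x y := by
    funext i
    simp only [Pi.add_apply, map_add]
    abel
  map_smul' a x := by
    funext i
    simp only [Pi.smul_apply, map_smul, RingHom.id_apply, smul_sub]

@[simp] lemma phiOp_apply (t : N →ₗ[A] N) (x : ℕ → N) (i : ℕ) :
    phiOp t x i = x i - t (x (i + 1)) := rfl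

/-- operator version of derived completeness -/
def OpConc (t : N →ₗ[A] N) : Prop := Function.Bijective (phiOp t)

lemma conc_iff_opConc (f : A) : Conc f N ↔ OpConc (f • (LinearMap.id : N →ₗ[A] N)) := by
  constructor
  · intro h
    constructor
    · rw [injective_iff_map_eq_zero]
      intro x hx
      funext j
      refine h.all_zero x (fun i => ?_) j
      have := congrFun hx i
      simp only [phiOp_apply, LinearMap.smul_apply, LinearMap.id_coe, id_eq, Pi.zero_apply] at this
      exact sub_eq_zero.1 this
    · intro m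
      obtain ⟨x, hx⟩ := h.2 m
      exact ⟨x, funext (fun i => by simpa using hx i)⟩
  · intro h
    constructor
    · intro x hx
      have h0 : phiOp (f • (LinearMap.id : N →ₗ[A] N)) x = 0 := by
        funext i
        simp only [phiOp_apply, LinearMap.smul_apply, LinearMap.id_coe, id_eq, Pi.zero_apply]
        exact sub_eq_zero.2 (hx i)
      have hx0 : x = 0 := h.1 (h0.trans (map_zero _).symm)
      rw [hx0]; rfl
    · intro m
      obtain ⟨x, hx⟩ := h.2 m
      exact ⟨x, fun i => by simpa using congrFun hx i⟩

/-- L1: `1 - t` is bijective. -/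
lemma OpConc.bijective_one_sub {t : N →ₗ[A] N} (h : OpConc t) :
    Function.Bijective (fun y : N => y - t y) := by
  constructor
  · intro y y' hyy'
    have h0 : phiOp t (fun _ => y) = phiOp t (fun _ => y') := by
      funext i
      simp only [phiOp_apply]
      exact hyy'
    exact congrFun (h.1 h0) 0
  · intro n
    obtain ⟨x, hx⟩ := h.2 (fun _ => n)
    have hx' : phiOp t (fun i => x (i + 1)) = phiOp t x := by
      funext i
      have h1 := congrFun hx (i + 1)
      have h2 := congrFun hx i
      simp only [phiOp_apply] at h1 h2 ⊢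
      rw [h1, h2]
    have hsh := h.1 hx'
    have h1 : x 1 = x 0 := congrFun hsh 0
    refine ⟨x 0, ?_⟩
    have h2 := congrFun hx 0
    simp only [phiOp_apply, zero_add] at h2
    show x 0 - t (x 0) = n
    rw [h1] at h2
    exact h2

lemma pow_comm_apply {s t : N →ₗ[A] N} (hst : ∀ y, s (t y) = t (s y)) (k : ℕ) (y : N) :
    (s ^ k) (t y) = t ((s ^ k) y) := by
  induction k generalizing y with
  | zero => simp
  | succ k ih =>
    rw [pow_succ, Module.End.mul_apply, Module.End.mul_apply, hst, ih]

/-- L2: multiples by a commuting operator. -/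
lemma OpConc.comp {t : N →ₗ[A] N} (h : OpConc t) (s : N →ₗ[A] N)
    (hst : ∀ y, s (t y) = t (s y)) : OpConc (s ∘ₗ t) := by
  constructor
  · rw [injective_iff_map_eq_zero]
    intro x hx
    funext j
    have hrec : ∀ i, x i = s (t (x (i + 1))) := fun i => by
      have := congrFun hx i
      simp only [phiOp_apply, LinearMap.comp_apply, Pi.zero_apply] at this
      exact sub_eq_zero.1 this
    have h0 : phiOp t (fun i => (s ^ i) (x (i + j))) = 0 := by
      funext i
      simp only [phiOp_apply, Pi.zero_apply]
      rw [sub_eq_zero, ← pow_comm_apply hst, pow_succ, Module.End.mul_apply]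
      congr 1
      have := hrec (i + j)
      rw [show i + j + 1 = i + 1 + j by omega] at this
      exact this
    have h1 := congrFun (h.1 (h0.trans (map_zero _).symm)) 0
    simpa using h1
  · intro m
    choose z hz using fun k : ℕ => h.2 (fun j => (s ^ j) (m (k + j)))
    have hzrec : ∀ k j, z k j - t (z k (j + 1)) = (s ^ j) (m (k + j)) := fun k j => by
      simpa using congrFun (hz k) j
    have key : ∀ k, (fun j => z k (j + 1)) = fun j => s (z (k + 1) j) := by
      intro k
      have hw : phiOp t (fun j => z k (j + 1) - s (z (k + 1) j)) = 0 := by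
        funext j
        simp only [phiOp_apply, Pi.zero_apply, map_sub]
        have h1 := hzrec k (j + 1)
        have h2 := hzrec (k + 1) j
        have h3 : t (s (z (k + 1) (j + 1))) = s (t (z (k + 1) (j + 1))) := (hst _).symm
        rw [h3]
        have h4 : z k (j + 1) - s (z (k + 1) j) - (t (z k (j + 1 + 1)) - s (t (z (k + 1) (j + 1)))) =
            (z k (j + 1) - t (z k (j + 1 + 1))) - s (z (k + 1) j - t (z (k + 1) (j + 1))) := by
          rw [map_sub]; abel
        rw [h4, h1, h2, pow_succ', Module.End.mul_apply]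
        rw [show k + 1 + j = k + (j + 1) by omega, sub_self]
      have hw0 := h.1 (hw.trans (map_zero _).symm)
      funext j
      exact sub_eq_zero.1 (congrFun hw0 j)
    refine ⟨fun k => z k 0, funext (fun k => ?_)⟩
    simp only [phiOp_apply, LinearMap.comp_apply]
    have h1 := hzrec k 0
    have h2 := congrFun (key k) 0
    simp only [zero_add, pow_zero, Module.End.one_apply, add_zero] at h1 h2
    rw [hst, ← h2]
    exact h1

/-- L3: componentwise. -/
lemma OpConc.pi {t : N →ₗ[A] N} (h : OpConc t) : OpConc (t.compLeft ℕ) := by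
  constructor
  · intro X Y hXY
    funext i k
    have h0 : phiOp t (fun i => X i k) = phiOp t (fun i => Y i k) := by
      funext i
      have := congrFun (congrFun hXY i) k
      simpa using this
    exact congrFun (h.1 h0) i
  · intro m
    choose x hx using fun k : ℕ => h.2 (fun i => m i k)
    refine ⟨fun i k => x k i, ?_⟩
    funext i k
    have := congrFun (hx k) i
    simpa using this

end Op

section Ideal

variable {A : Type u} [CommRing A] {M : Type u} [AddCommGroup M] [Module A M]

lemma conc_zero : Conc (0 : A) M := by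
  rw [conc_iff_opConc]
  have : phiOp ((0 : A) • (LinearMap.id : M →ₗ[A] M)) = LinearMap.id := by
    ext x i
    simp
  unfold OpConc
  rw [this]
  exact Function.bijective_id

lemma conc_mul {f : A} (h : Conc f M) (b : A) : Conc (b * f) M := by
  rw [conc_iff_opConc] at h ⊢
  have h1 := h.comp (b • (LinearMap.id : M →ₗ[A] M)) (fun y => by
    show b • f • y = f • b • y
    exact smul_comm b f y)
  have : (b • (LinearMap.id : M →ₗ[A] M)) ∘ₗ (f • (LinearMap.id : M →ₗ[A] M)) =
      (b * f) • (LinearMap.id : M →ₗ[A] M) := by
    ext y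
    simp [mul_smul]
  rwa [this] at h1

/-- the shift on sequences -/
def seqShift (A : Type u) [CommRing A] (M : Type u) [AddCommGroup M] [Module A M] :
    (ℕ → M) →ₗ[A] (ℕ → M) where
  toFun x i := x (i + 1)
  map_add' _ _ := rfl
  map_smul' _ _ := rfl

lemma conc_add {f g : A} (hf : Conc f M) (hg : Conc g M) : Conc (f + g) M := by
  rw [conc_iff_opConc] at hf hg ⊢
  -- the inverse of `Φ_f`
  let Ef : (ℕ → M) ≃ₗ[A] (ℕ → M) := LinearEquiv.ofBijective _ hf
  let w : (ℕ → M) →ₗ[A] (ℕ → M) := seqShift A M ∘ₗ Ef.symm.toLinearMap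
  have hσΦ : ∀ x : ℕ → M, seqShift A M (phiOp (f • (LinearMap.id : M →ₗ[A] M)) x) =
      phiOp (f • (LinearMap.id : M →ₗ[A] M)) (seqShift A M x) := fun x => rfl
  have hσu : ∀ x : ℕ → M, seqShift A M (Ef.symm x) = Ef.symm (seqShift A M x) := by
    intro x
    apply Ef.injective
    rw [LinearEquiv.apply_symm_apply]
    show phiOp _ (seqShift A M (Ef.symm x)) = seqShift A M x
    rw [← hσΦ]
    congr 1
    exact Ef.apply_symm_apply x
  -- `g` on sequences
  have hgN : OpConc (g • (LinearMap.id : (ℕ → M) →ₗ[A] (ℕ → M))) := by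
    have := hg.pi
    have e : (g • (LinearMap.id : M →ₗ[A] M)).compLeft ℕ =
        g • (LinearMap.id : (ℕ → M) →ₗ[A] (ℕ → M)) := by
      ext x i
      simp
    rwa [e] at this
  have h2 := hgN.comp w (fun y => by simp)
  have h3 := h2.bijective_one_sub
  have hfac : ∀ x : ℕ → M, phiOp ((f + g) • (LinearMap.id : M →ₗ[A] M)) x =
      phiOp (f • (LinearMap.id : M →ₗ[A] M))
        (x - (w ∘ₗ (g • (LinearMap.id : (ℕ → M) →ₗ[A] (ℕ → M)))) x) := by
    intro x
    have h4 : phiOp (f • (LinearMap.id : M →ₗ[A] M)) (seqShift A M (Ef.symm (g • x))) =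
        g • seqShift A M x := by
      rw [← hσΦ]
      have : phiOp (f • (LinearMap.id : M →ₗ[A] M)) (Ef.symm (g • x)) = g • x :=
        Ef.apply_symm_apply (g • x)
      rw [this]
      rfl
    rw [map_sub]
    show _ = _ - phiOp (f • (LinearMap.id : M →ₗ[A] M)) (seqShift A M (Ef.symm (g • x)))
    rw [h4]
    funext i
    simp only [phiOp_apply, LinearMap.smul_apply, LinearMap.id_coe, id_eq, Pi.sub_apply,
      Pi.smul_apply, add_smul]
    show x i - (f • x (i + 1) + g • x (i + 1)) = x i - f • x (i + 1) - g • x (i + 1)
    abel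
  have : phiOp ((f + g) • (LinearMap.id : M →ₗ[A] M)) =
      fun x => phiOp (f • (LinearMap.id : M →ₗ[A] M))
        ((fun y : ℕ → M => y - (w ∘ₗ (g • (LinearMap.id : (ℕ → M) →ₗ[A] (ℕ → M)))) y) x) :=
    funext hfac
  unfold OpConc
  rw [this]
  exact Function.Bijective.comp hf h3

/-- derived completeness w.r.t. all elements of a set implies it for the ideal they generate -/
theorem conc_of_mem_span (S : Set A) (h : ∀ f ∈ S, Conc f M) (g : A) (hg : g ∈ Ideal.span S) :
    Conc g M := by
  induction hg using Submodule.span_induction with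
  | mem x hx => exact h x hx
  | zero => exact conc_zero
  | add x y _ _ hx hy => exact conc_add hx hy
  | smul a x _ hx => exact conc_mul hx a

end Ideal

section Restrict

variable {A B : Type u} [CommRing A] [CommRing B] (φ : A →+* B)

lemma conc_restrictScalars_iff (H : ModuleCat.{u} B) (f : A) :
    Conc f ((ModuleCat.restrictScalars.{u} φ).obj H) ↔ Conc (φ f) H := by
  constructor
  · intro h
    exact ⟨fun x hx => h.1 x hx, fun m => h.2 m⟩
  · intro h
    exact ⟨fun x hx => h.1 x hx, fun m => h.2 m⟩

lemma conc_of_linearEquiv {A : Type u} [CommRing A] {M M' : Type u} [AddCommGroup M]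
    [Module A M] [AddCommGroup M'] [Module A M'] (e : M ≃ₗ[A] M') {f : A} (h : Conc f M) :
    Conc f M' := by
  constructor
  · intro x hx
    have := h.1 (fun i => e.symm (x i)) (fun i => by rw [hx i, map_smul])
    simpa using congrArg e this
  · intro m
    obtain ⟨x, hx⟩ := h.2 (fun i => e.symm (m i))
    refine ⟨fun i => e (x i), fun i => ?_⟩
    have := congrArg e (hx i)
    simpa using this

/-- S7057. -/
theorem isDerivedComplete_map_iff_restrictD (I : Ideal A) (L : Dual.D B) :
    DRing.IsDerivedComplete (I.map φ) L ↔ DRing.IsDerivedComplete I ((DRing.restrictD φ).obj L) := by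
  rw [isDerivedComplete_iff_homology, isDerivedComplete_iff_homology]
  have key : ∀ i : ℤ, (∀ g ∈ I.map φ, Conc g (Dual.HD B L i)) ↔
      ∀ f ∈ I, Conc f (Dual.HD A ((DRing.restrictD φ).obj L) i) := by
    intro i
    obtain ⟨e⟩ := nonempty_HD_restrictD_iso φ L i
    constructor
    · intro h f hf
      have h1 := h (φ f) (Ideal.mem_map_of_mem φ hf)
      have h2 := (conc_restrictScalars_iff φ _ f).2 h1
      exact conc_of_linearEquiv e.symm.toLinearEquiv h2
    · intro h g hg
      refine conc_of_mem_span (φ '' (I : Set A)) ?_ g hg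
      rintro _ ⟨f, hf, rfl⟩
      have h1 := conc_of_linearEquiv e.toLinearEquiv (h f hf)
      exact (conc_restrictScalars_iff φ _ f).1 h1
  constructor
  · intro h i
    rw [DerComp9.isDerivedComplete_iff]
    exact (key i).1 ((DerComp9.isDerivedComplete_iff _ _).1 (h i))
  · intro h i
    rw [DerComp9.isDerivedComplete_iff]
    exact (key i).2 ((DerComp9.isDerivedComplete_iff _ _).1 (h i))

end Restrict

end Groth.Agent.Lib.DMod_helper6
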