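import Mathlib
import Groth.Prelude.Def_DRing2
import Groth.Prelude.Def_DRing3
import Groth.Agent.Lib.DMod76_helper6

/-!
# Derived category toolkit (helper6), part 77: the elements `f` such that `K` is derived
`f`-complete form a radical ideal (S7047).
-/

set_option autoImplicit false
universe u
open CategoryTheory CategoryTheory.Limits DerivedCategory
attribute [local instance] HasDerivedCategory.standard

namespace Groth.Agent.Lib.DMod_helper6

open DRing DerComp9

variable {A : Type u} [CommRing A]

/-- the ideal of elements `g` for which `M` is derived `g`-complete -/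
def concIdeal (M : Type u) [AddCommGroup M] [Module A M] : Ideal A where
  carrier := {g | Conc g M}
  add_mem' := fun ha hb => conc_add ha hb
  zero_mem' := conc_zero
  smul_mem' := fun c x hx => by
    show Conc (c • x) M
    rw [smul_eq_mul]
    exact conc_mul hx c

lemma mem_concIdeal (M : Type u) [AddCommGroup M] [Module A M] (g : A) :
    g ∈ concIdeal M ↔ Conc g M := Iff.rfl

open Abelian in
/-- elementwise form of helper9's criterion -/
lemma VV_away_inD_iff (f : A) (M : Type u) [AddCommGroup M] [Module A M] :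
    VV (Dual.inD A (Localization.Away f)) (Dual.inD A M) ↔ Conc f M := by
  constructor
  · intro hc
    have e0 : Subsingleton (Ext.{u} (S f).X₃ (ModuleCat.of A M) 0) :=
      (Ext.homEquiv (X := (S f).X₃) (Y := ModuleCat.of A M) (n := 0)).subsingleton_congr.mpr
        (hc ((0 : ℕ) : ℤ))
    have e1 : Subsingleton (Ext.{u} (S f).X₃ (ModuleCat.of A M) 1) :=
      (Ext.homEquiv (X := (S f).X₃) (Y := ModuleCat.of A M) (n := 1)).subsingleton_congr.mpr
        (hc ((1 : ℕ) : ℤ))
    exact ⟨concA_of_ext0 f M e0, concB_of_ext1 f M e1⟩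
  · intro h
    exact isDerivedComplete_of_conc (concIdeal M) M (fun g hg => hg) f h

lemma VV_away_iff (f : A) (K : Dual.D A) :
    VV (Dual.inD A (Localization.Away f)) K ↔ ∀ i : ℤ, Conc f (Dual.HD A K i) := by
  constructor
  · intro h i
    exact (VV_away_inD_iff f _).1 (VV_inD_HD (pdOne_away f) K h i)
  · intro h
    exact VV_of_forall_HD (pdOne_away f) K (fun i => (VV_away_inD_iff f _).2 (h i))

/-- the localizations away from `f` and from `f ^ (n + 1)` are isomorphic `A`-modules -/
lemma nonempty_away_pow_iso (f : A) (n : ℕ) :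
    Nonempty (ModuleCat.of A (Localization.Away (f ^ (n + 1))) ≅
      ModuleCat.of A (Localization.Away f)) := by
  haveI : IsLocalization.Away (f ^ (n + 1)) (Localization.Away f) := by
    rw [pow_succ']
    refine IsLocalization.Away.mul_of_isUnit f (f ^ n) ?_
    rw [map_pow]
    exact IsLocalization.Away.algebraMap_pow_isUnit f n
  let e : Localization.Away (f ^ (n + 1)) ≃ₐ[A] Localization.Away f :=
    IsLocalization.algEquiv (Submonoid.powers (f ^ (n + 1))) _ _
  exact ⟨e.toLinearEquiv.toModuleIso⟩

lemma VV_away_of_pow (f : A) (n : ℕ) (K : Dual.D A)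
    (h : VV (Dual.inD A (Localization.Away (f ^ (n + 1)))) K) :
    VV (Dual.inD A (Localization.Away f)) K := by
  obtain ⟨e⟩ := nonempty_away_pow_iso f n
  intro m
  haveI := h m
  let e' : Dual.inD A (Localization.Away (f ^ (n + 1))) ≅ Dual.inD A (Localization.Away f) :=
    (DerivedCategory.singleFunctor (ModuleCat.{u} A) 0).mapIso e
  exact (e'.homFromEquiv (Z := K⟦m⟧)).symm.subsingleton

/-- S7047. -/
theorem exists_radical_ideal_derivedComplete (K : Dual.D A) :
    ∃ J : Ideal A, J.IsRadical ∧
      (J : Set A) = {f : A | ∀ n : ℤ, Subsingleton (Dual.inD A (Localization.Away f) ⟶ K⟦n⟧)} := by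
  have hmem : ∀ f : A, f ∈ (⨅ i : ℤ, concIdeal (Dual.HD A K i)) ↔
      VV (Dual.inD A (Localization.Away f)) K := by
    intro f
    rw [VV_away_iff, Submodule.mem_iInf]
    rfl
  refine ⟨⨅ i : ℤ, concIdeal (Dual.HD A K i), ?_, ?_⟩
  · intro r hr
    obtain ⟨n, hn⟩ := hr
    cases n with
    | zero =>
      rw [pow_zero] at hn
      have : (⨅ i : ℤ, concIdeal (Dual.HD A K i)) = ⊤ := (Ideal.eq_top_iff_one _).2 hn
      rw [this]
      trivial
    | succ n =>
      rw [hmem] at hn ⊢
      exact VV_away_of_pow r n K hn
  · ext f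
    exact hmem f

end Groth.Agent.Lib.DMod_helper6
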