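import Mathlib
import Groth.Prelude.Def_DRing2
import Groth.Prelude.Def_DDual2
import Groth.Agent.Lib.DMod80_helper6
import Groth.Agent.Lib.DMod57_helper6

/-!
# Derived category toolkit (helper6), part 81: local-to-global criterion for dualizing complexes
along a covering family of localizations, and Zariski descent of dualizing complexes (S1787).
-/

set_option autoImplicit false
universe u
open CategoryTheory CategoryTheory.Limits DerivedCategory
open scoped TensorProduct
attribute [local instance] HasDerivedCategory.standard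

namespace Groth.Agent.Lib.DMod_helper6

open DRing Groth.Agent.ExtendScalarsLib

section Cover

variable {A : Type u} [CommRing A] {ι : Type*} (S : ι → Submonoid A) (B : ι → Type u)
  [∀ j, CommRing (B j)] [∀ j, Algebra A (B j)] [∀ j, Module.Flat A (B j)]
  [∀ j, IsLocalization (S j) (B j)]
  (hcov : ∀ I : Ideal A, (∀ j, ∃ s : S j, (s : A) ∈ I) → I = ⊤)

include S hcov

/-- local-to-global vanishing along a covering family of localizations -/
lemma hom_eq_zero_of_cover (K L : Dual.D A) (hK : IsPseudoCoherent' A K) (a : ℤ)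
    [DerivedCategory.IsGE L a] (f : K ⟶ L) (h : ∀ j, (bcD A (B j)).map f = 0) : f = 0 := by
  let I : Ideal A := LinearMap.ker (LinearMap.toSpanSingleton A (K ⟶ L) f)
  have hI : I = ⊤ := hcov I (fun j => by
    obtain ⟨s, hs⟩ := (locHom (B := B j) (S j) K L hK a).2 f (h j)
    refine ⟨s, ?_⟩
    rw [LinearMap.mem_ker, LinearMap.toSpanSingleton_apply]
    exact hs)
  have h1 : (1 : A) ∈ I := by
    rw [hI]
    trivial
  rw [LinearMap.mem_ker, LinearMap.toSpanSingleton_apply, one_smul] at h1
  exact h1

/-- local-to-global criterion for dualizing complexes along a covering family of localizations -/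
theorem isDualizing_of_cover_bcD [IsNoetherianRing A] (K : Dual.D A)
    (hfin : ∀ i : ℤ, Module.Finite A (Dual.HD A K i))
    (hinj : ∃ a b : ℤ, ∀ (M : Type u) [AddCommGroup M] [Module A M] (i : ℤ),
      (i < a ∨ b < i) → Subsingleton (Dual.inD A M ⟶ K⟦i⟧))
    (hloc : ∀ j, Dual.IsDualizing (B j) ((bcD A (B j)).obj K)) :
    Dual.IsDualizing A K := by
  obtain ⟨a, b, hab⟩ := hinj
  have hH : ∀ i : ℤ, (i < a ∨ b < i) → Subsingleton (Dual.HD A K i) := fun i hi =>
    subsingleton_HD_of_hom_quot_bot K i (hab (A ⧸ (⊥ : Ideal A)) i hi)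
  haveI hge : DerivedCategory.IsGE K a := by
    rw [DerivedCategory.isGE_iff]
    intro i hi
    haveI := hH i (Or.inl hi)
    exact ModuleCat.isZero_of_subsingleton _
  have hpc : IsPseudoCoherent' A K := by
    refine isPseudoCoherent'_of_homology K ⟨b, fun j hj => hH j (Or.inr hj)⟩ (fun j => ?_)
    haveI := hfin j
    exact isPseudoCoherentModule'_of_finite _
  have hgeShift : ∀ i : ℤ, DerivedCategory.IsGE (K⟦i⟧) (a - i) := fun i =>
    TStructure.t.isGE_shift K a i (a - i) (by omega)
  refine ⟨inferInstance, ⟨a, b, hab⟩, hfin, ⟨?_, ?_⟩, ?_⟩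
  · -- injectivity of `A → End K`
    intro a₁ a₂ h12
    have h0 : (a₁ - a₂) • 𝟙 K = 0 := by
      rw [sub_smul, sub_eq_zero]
      exact h12
    apply sub_eq_zero.1
    let I : Ideal A := LinearMap.ker (LinearMap.toSpanSingleton A A (a₁ - a₂))
    have hI : I = ⊤ := hcov I (fun j => by
      have h1 : algebraMap A (B j) (a₁ - a₂) = 0 := by
        apply (hloc j).toEnd_bijective.1
        show algebraMap A (B j) (a₁ - a₂) • 𝟙 ((bcD A (B j)).obj K) =
          (0 : B j) • 𝟙 ((bcD A (B j)).obj K)
        rw [zero_smul, ← CategoryTheory.Functor.map_id, ← bcD_map_smul, h0, Functor.map_zero]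
      obtain ⟨s, hs⟩ := (IsLocalization.map_eq_zero_iff (S j) (B j) (a₁ - a₂)).1 h1
      refine ⟨s, ?_⟩
      rw [LinearMap.mem_ker, LinearMap.toSpanSingleton_apply, smul_eq_mul]
      exact hs)
    have h1 : (1 : A) ∈ I := by
      rw [hI]
      trivial
    rw [LinearMap.mem_ker, LinearMap.toSpanSingleton_apply, one_smul] at h1
    exact h1
  · -- surjectivity of `A → End K`
    intro f
    let I : Ideal A := Submodule.comap (LinearMap.toSpanSingleton A (K ⟶ K) f)
      (LinearMap.range (LinearMap.toSpanSingleton A (K ⟶ K) (𝟙 K)))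
    have hI : I = ⊤ := hcov I (fun j => by
      obtain ⟨bm, hbm⟩ := (hloc j).toEnd_bijective.2 ((bcD A (B j)).map f)
      obtain ⟨x, s, hxs⟩ := IsLocalization.exists_mk'_eq (S j) bm
      have h1 : (bcD A (B j)).map ((s : A) • f - x • 𝟙 K) = 0 := by
        rw [Functor.map_sub, bcD_map_smul, bcD_map_smul, CategoryTheory.Functor.map_id]
        have h2 : bm • 𝟙 ((bcD A (B j)).obj K) = (bcD A (B j)).map f := hbm
        rw [← h2, smul_smul, ← hxs, mul_comm, IsLocalization.mk'_spec, sub_self]
      obtain ⟨t, ht⟩ := (locHom (B := B j) (S j) K K hpc a).2 _ h1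
      rw [smul_sub, sub_eq_zero, smul_smul, smul_smul] at ht
      refine ⟨t * s, ?_⟩
      rw [Submodule.mem_comap, LinearMap.toSpanSingleton_apply, Submonoid.coe_mul, ht]
      exact ⟨(t : A) * x, by rw [LinearMap.toSpanSingleton_apply]⟩)
    have h1 : (1 : A) ∈ I := by
      rw [hI]
      trivial
    rw [Submodule.mem_comap, LinearMap.toSpanSingleton_apply, one_smul] at h1
    obtain ⟨x, hx⟩ := h1
    exact ⟨x, by rw [← hx, LinearMap.toSpanSingleton_apply]⟩
  · -- no self-extensions
    intro i hi
    refine subsingleton_of_forall_eq 0 (fun f => ?_)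
    haveI := hgeShift i
    refine hom_eq_zero_of_cover S B hcov K (K⟦i⟧) hpc (a - i) f (fun j => ?_)
    have hsub := (hloc j).ext_self_subsingleton i hi
    rw [← cancel_mono (((bcD A (B j)).commShiftIso i).hom.app K), zero_comp]
    exact hsub.elim _ _

end Cover

section Zariski

variable {A : Type u} [CommRing A]

/-- an ideal containing a power of each member of a family generating the unit ideal is the unit
ideal -/
lemma eq_top_of_forall_powers_mem {n : ℕ} (f : Fin n → A) (hf : Ideal.span (Set.range f) = ⊤)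
    (I : Ideal A) (hI : ∀ j, ∃ s : Submonoid.powers (f j), (s : A) ∈ I) : I = ⊤ := by
  choose s hs using hI
  have hpow : ∀ j, ∃ k : ℕ, f j ^ k ∈ I := fun j => by
    obtain ⟨k, hk⟩ := (Submonoid.mem_powers_iff _ _).1 (s j).2
    exact ⟨k, by rw [hk]; exact hs j⟩
  choose k hk using hpow
  have hN : ∀ j, f j ^ (∑ j, k j) ∈ I := fun j => by
    have hle : k j ≤ ∑ j, k j :=
      Finset.single_le_sum (fun _ _ => Nat.zero_le _) (Finset.mem_univ j)
    rw [← Nat.sub_add_cancel hle, pow_add]
    exact I.mul_mem_left _ (hk j)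
  rw [eq_top_iff, ← Ideal.span_pow_eq_top (Set.range f) hf (∑ j, k j), Ideal.span_le]
  rintro _ ⟨_, ⟨j, rfl⟩, rfl⟩
  exact hN j

/-- S1787. -/
theorem isDualizing_of_away_cover [IsNoetherianRing A] (n : ℕ) (f : Fin n → A)
    (hf : Ideal.span (Set.range f) = ⊤) (ω : Dual.D A)
    (h : ∀ i : Fin n, ∃ _ : DRing.HasLBaseChange (algebraMap A (Localization.Away (f i))),
      Dual.IsDualizing (Localization.Away (f i))
        ((DRing.LBaseChange (algebraMap A (Localization.Away (f i)))).obj ω)) :
    Dual.IsDualizing A ω := by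
  have hcov := eq_top_of_forall_powers_mem f hf
  have hloc : ∀ j, Dual.IsDualizing (Localization.Away (f j))
      ((bcD A (Localization.Away (f j))).obj ω) := fun j => by
    obtain ⟨inst, hd⟩ := h j
    haveI := inst
    obtain ⟨e⟩ := nonempty_lBaseChange_iso_bcD (A := A) (B := Localization.Away (f j))
    exact isDualizing_of_iso (e.app ω) hd
  let X : Cx A := Q.objPreimage ω
  let eX : toD X ≅ ω := Q.objObjPreimageIso ω
  let eJ : ∀ j, (bcD A (Localization.Away (f j))).obj ω ≅
      toD ((EScA (fun j => Localization.Away (f j)) j).obj X) := fun j =>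
    (bcD A (Localization.Away (f j))).mapIso eX.symm ≪≫ bcDIso X
  have hfid := fun j => (hloc j).finite_injective_dimension
  choose a_ b_ hab_ using hfid
  have ha : ∀ j, -(∑ k, |a_ k|) ≤ a_ j := fun j => by
    have h1 : |a_ j| ≤ ∑ k, |a_ k| :=
      Finset.single_le_sum (fun k _ => abs_nonneg (a_ k)) (Finset.mem_univ j)
    have h2 := neg_abs_le (a_ j)
    omega
  have hb : ∀ j, b_ j ≤ ∑ k, |b_ k| := fun j => by
    have h1 : |b_ j| ≤ ∑ k, |b_ k| :=
      Finset.single_le_sum (fun k _ => abs_nonneg (b_ k)) (Finset.mem_univ j)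
    have h2 := le_abs_self (b_ j)
    omega
  set a : ℤ := -(∑ k, |a_ k|) with ha_def
  set b : ℤ := ∑ k, |b_ k| with hb_def
  have hrange : ∀ (j : Fin n) (i : ℤ), (i < a ∨ b < i) → (i < a_ j ∨ b_ j < i) := by
    intro j i hi
    have h1 := ha j
    have h2 := hb j
    omega
  -- cohomology of `ω`
  have hHj : ∀ (j : Fin n) (i : ℤ), (i < a ∨ b < i) →
      Subsingleton (Dual.HD (Localization.Away (f j))
        ((bcD A (Localization.Away (f j))).obj ω) i) := fun j i hi =>
    subsingleton_HD_of_hom_quot_bot _ i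
      (hab_ j (Localization.Away (f j) ⧸ (⊥ : Ideal (Localization.Away (f j)))) i (hrange j i hi))
  have hH : ∀ i : ℤ, (i < a ∨ b < i) → Subsingleton (Dual.HD A ω i) := by
    intro i hi
    rw [← exactAt_iff_subsingleton_HD eX i]
    refine exactAt_of_forall_exactAt_EScA (zar_descendsExact hf) X i (fun j => ?_)
    rw [exactAt_iff_subsingleton_HD (eJ j).symm i]
    exact hHj j i hi
  have hfin : ∀ i : ℤ, Module.Finite A (Dual.HD A ω i) := by
    intro i
    have h1 : Module.Finite A (X.homology i) := by
      refine zar_descendsFinite hf (X.homology i) (fun j => ?_)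
      haveI := (hloc j).finite_cohomology i
      have e : (DerivedCategory.homologyFunctor (ModuleCat.{u} (Localization.Away (f j))) i).obj
          ((bcD A (Localization.Away (f j))).obj ω) ≅
          (ES A (Localization.Away (f j))).obj (X.homology i) :=
        (DerivedCategory.homologyFunctor _ i).mapIso (eJ j) ≪≫
          (homologyFunctorFactors _ i).app _ ≪≫
          homologyEScAIso (fun j => Localization.Away (f j)) j X i
      exact Module.Finite.equiv e.toLinearEquiv
    have e : (DerivedCategory.homologyFunctor (ModuleCat.{u} A) i).obj ω ≅ X.homology i :=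
      (DerivedCategory.homologyFunctor _ i).mapIso eX.symm ≪≫
        (homologyFunctorFactors (ModuleCat.{u} A) i).app X
    haveI := h1
    exact Module.Finite.equiv e.symm.toLinearEquiv
  haveI hge : DerivedCategory.IsGE ω a := by
    rw [DerivedCategory.isGE_iff]
    intro i hi
    haveI := hH i (Or.inl hi)
    exact ModuleCat.isZero_of_subsingleton _
  have hgeShift : ∀ i : ℤ, DerivedCategory.IsGE (ω⟦i⟧) (a - i) := fun i =>
    TStructure.t.isGE_shift ω a i (a - i) (by omega)
  -- finite injective dimension of `ω`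
  have h3 : ∀ (J : Ideal A) (i : ℤ), (i < a ∨ b < i) →
      Subsingleton (Dual.inD A (A ⧸ J) ⟶ ω⟦i⟧) := by
    intro J i hi
    refine subsingleton_of_forall_eq 0 (fun g => ?_)
    haveI := hgeShift i
    have hK : IsPseudoCoherent' A (Dual.inD A (A ⧸ J)) := isPseudoCoherentModule'_of_finite _
    refine hom_eq_zero_of_cover (fun j => Submonoid.powers (f j))
      (fun j => Localization.Away (f j)) hcov _ _ hK (a - i) g (fun j => ?_)
    have hsub := hab_ j (Localization.Away (f j) ⊗[A] (A ⧸ J)) i (hrange j i hi)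
    rw [← cancel_epi (bcSingleIso (B := Localization.Away (f j)) (A ⧸ J)).inv,
      ← cancel_mono (((bcD A (Localization.Away (f j))).commShiftIso i).hom.app ω), comp_zero,
      zero_comp]
    exact hsub.elim _ _
  have hinj : ∃ a b : ℤ, ∀ (M : Type u) [AddCommGroup M] [Module A M] (i : ℤ),
      (i < a ∨ b < i) → Subsingleton (Dual.inD A M ⟶ ω⟦i⟧) :=
    ⟨a, b, fun M _ _ i hi => hom_subsingleton_of_hasInjAmplitudeIn ω a b
      (hasInjAmplitudeIn_of_hom_quot_vanishing ω a b h3) (ModuleCat.of A M) i hi⟩
  exact isDualizing_of_cover_bcD (fun j => Submonoid.powers (f j))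
    (fun j => Localization.Away (f j)) hcov ω hfin hinj hloc

end Zariski

end Groth.Agent.Lib.DMod_helper6
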