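import Mathlib
import Groth.Prelude.Def_DRing2
import Groth.Prelude.Def_DDual2
import Groth.Agent.Lib.DMod26_helper6
import Groth.Agent.Lib.DMod22_helper6
import Groth.Agent.Lib.DMod10_helper6

/-!
# Derived category toolkit (helper6), part 84: `Ext` out of an `m`-pseudo-coherent complex commutes
with filtered colimits of modules in the appropriate range (S6999).
-/

set_option autoImplicit false
universe u
open CategoryTheory CategoryTheory.Limits DerivedCategory
attribute [local instance] HasDerivedCategory.standard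

namespace Groth.Agent.Lib.DMod_helper6

open DRing

section Filtered

variable {R : Type u} [CommRing R] {J : Type u} [SmallCategory J] [IsFiltered J]
  (F : J ⥤ ModuleCat.{u} R) (c : Cocone F) (hc : IsColimit c)

include hc in
/-- a finite set of elements of `F j` dying in the colimit dies at some later stage -/
lemma exists_map_eq_zero_of_finset (j : J) (S : Finset (F.obj j))
    (h : ∀ x ∈ S, (c.ι.app j).hom x = 0) :
    ∃ (j' : J) (f : j ⟶ j'), ∀ x ∈ S, (F.map f).hom x = 0 := by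
  classical
  haveI : PreservesColimitsOfShape J (forget (ModuleCat.{u} R)) :=
    PreservesFilteredColimitsOfSize.preserves_filtered_colimits J
  induction S using Finset.induction_on with
  | empty => exact ⟨j, 𝟙 j, fun x hx => by simp at hx⟩
  | insert a S _ ih =>
    obtain ⟨j1, f1, h1⟩ := ih (fun x hx => h x (Finset.mem_insert_of_mem hx))
    have ha : (c.ι.app j).hom a = (c.ι.app j).hom 0 := by
      rw [h a (Finset.mem_insert_self a S), map_zero]
    obtain ⟨k, g1, g2, hg⟩ := Concrete.isColimit_exists_of_rep_eq F hc a (0 : F.obj j) ha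
    have hg' : (F.map g1).hom a = 0 := by
      have : (F.map g1).hom a = (F.map g2).hom 0 := hg
      rw [this, map_zero]
    obtain ⟨j', a1, a2, ha12⟩ := IsFiltered.span f1 g1
    refine ⟨j', f1 ≫ a1, fun x hx => ?_⟩
    rcases Finset.mem_insert.1 hx with rfl | hx
    · rw [ha12, F.map_comp]
      show (F.map a2).hom ((F.map g1).hom x) = 0
      rw [hg', map_zero]
    · rw [F.map_comp]
      show (F.map a1).hom ((F.map f1).hom x) = 0
      rw [h1 x hx, map_zero]

include hc in
/-- (F2) a map from a finite module to `F j` dying in the colimit dies at some later stage -/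
lemma exists_map_comp_eq_zero (P : ModuleCat.{u} R) [Module.Finite R P] (j : J)
    (u : P ⟶ F.obj j) (h : u ≫ c.ι.app j = 0) : ∃ (j' : J) (f : j ⟶ j'), u ≫ F.map f = 0 := by
  classical
  obtain ⟨S, hS⟩ := (inferInstance : Module.Finite R P).fg_top
  obtain ⟨j', f, hf⟩ := exists_map_eq_zero_of_finset F c hc j (S.image u.hom) (fun x hx => by
    obtain ⟨y, _, rfl⟩ := Finset.mem_image.1 hx
    exact LinearMap.congr_fun (congrArg ModuleCat.Hom.hom h) y)
  refine ⟨j', f, ?_⟩
  apply ModuleCat.hom_ext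
  apply LinearMap.ext_on hS
  intro y hy
  show (F.map f).hom (u.hom y) = 0
  exact hf _ (Finset.mem_image_of_mem _ hy)

include hc in
/-- (F1) a map from a finite free module to the colimit factors through some stage -/
lemma exists_factor_of_finite_free (P : ModuleCat.{u} R) [Module.Finite R P] [Module.Free R P]
    (u : P ⟶ c.pt) : ∃ (j : J) (v : P ⟶ F.obj j), v ≫ c.ι.app j = u := by
  classical
  haveI : PreservesColimitsOfShape J (forget (ModuleCat.{u} R)) :=
    PreservesFilteredColimitsOfSize.preserves_filtered_colimits J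
  let b := Module.Free.chooseBasis R P
  have hrep : ∀ i, ∃ (j : J) (y : F.obj j), (c.ι.app j).hom y = u.hom (b i) := fun i =>
    Concrete.isColimit_exists_rep F hc (u.hom (b i))
  choose jj y hy using hrep
  obtain ⟨j, hj⟩ := IsFiltered.sup_objs_exists (Finset.univ.image jj)
  have t : ∀ i, jj i ⟶ j := fun i =>
    (hj (Finset.mem_image_of_mem jj (Finset.mem_univ i))).some
  let v : P →ₗ[R] F.obj j := b.constr R (fun i => (F.map (t i)).hom (y i))
  refine ⟨j, ModuleCat.ofHom v, ?_⟩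
  apply ModuleCat.hom_ext
  apply b.ext
  intro i
  show (c.ι.app j).hom (v (b i)) = u.hom (b i)
  rw [Module.Basis.constr_basis, ← hy i]
  exact LinearMap.congr_fun (congrArg ModuleCat.Hom.hom (c.w (t i))) (y i)

end Filtered

section ToSingle

variable {R : Type u} [CommRing R]

/-- every chain map to a single complex is `mkHomToSingle` of its component -/
lemma eq_mkHomToSingle (E : Cx R) (cc : ℤ) (N : ModuleCat.{u} R)
    (g : E ⟶ (HomologicalComplex.single (ModuleCat.{u} R) (ComplexShape.up ℤ) cc).obj N) :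
    ∃ (u : E.X cc ⟶ N) (hu : ∀ i, (ComplexShape.up ℤ).Rel i cc → E.d i cc ≫ u = 0),
      g = HomologicalComplex.mkHomToSingle u hu := by
  refine ⟨g.f cc ≫ (HomologicalComplex.singleObjXSelf (ComplexShape.up ℤ) cc N).hom, ?_, ?_⟩
  · intro i hi
    rw [← Category.assoc, ← g.comm, HomologicalComplex.single_obj_d, comp_zero, zero_comp]
  · apply HomologicalComplex.to_single_hom_ext
    rw [HomologicalComplex.mkHomToSingle_f, Category.assoc, Iso.hom_inv_id, Category.comp_id]

lemma mkHomToSingle_comp_map (E : Cx R) (cc : ℤ) {N N' : ModuleCat.{u} R} (u : E.X cc ⟶ N)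
    (hu : ∀ i, (ComplexShape.up ℤ).Rel i cc → E.d i cc ≫ u = 0) (φ : N ⟶ N') :
    HomologicalComplex.mkHomToSingle u hu ≫
        (HomologicalComplex.single (ModuleCat.{u} R) (ComplexShape.up ℤ) cc).map φ =
      HomologicalComplex.mkHomToSingle (u ≫ φ)
        (fun i hi => by rw [← Category.assoc, hu i hi, zero_comp]) := by
  apply HomologicalComplex.to_single_hom_ext
  rw [HomologicalComplex.comp_f, HomologicalComplex.mkHomToSingle_f,
    HomologicalComplex.mkHomToSingle_f, HomologicalComplex.single_map_f_self, Category.assoc,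
    Iso.inv_hom_id_assoc, Category.assoc]

lemma exists_rep_toSingle (E : Cx R) [E.IsKProjective] (cc n : ℤ) (hn : n + cc = 0)
    (N : ModuleCat.{u} R) (x : toD E ⟶ (Dual.inD R N)⟦n⟧) :
    ∃ (u : E.X cc ⟶ N) (hu : ∀ i, (ComplexShape.up ℤ).Rel i cc → E.d i cc ≫ u = 0),
      x = Q.map (HomologicalComplex.mkHomToSingle u hu) ≫ (toDSingleIso N cc n hn).hom := by
  obtain ⟨g, hg⟩ := exists_Q_map_eq_of_isKProjective (x ≫ (toDSingleIso N cc n hn).inv)
  obtain ⟨u, hu, rfl⟩ := eq_mkHomToSingle E cc N g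
  exact ⟨u, hu, by rw [hg, Category.assoc, Iso.inv_hom_id, Category.comp_id]⟩

lemma rep_comp (E : Cx R) (cc n : ℤ) (hn : n + cc = 0) {N N' : ModuleCat.{u} R}
    (u : E.X cc ⟶ N) (hu : ∀ i, (ComplexShape.up ℤ).Rel i cc → E.d i cc ≫ u = 0) (φ : N ⟶ N') :
    (Q.map (HomologicalComplex.mkHomToSingle u hu) ≫ (toDSingleIso N cc n hn).hom) ≫
      (CategoryTheory.shiftFunctor (Dual.D R) n).map
        ((DerivedCategory.singleFunctor (ModuleCat.{u} R) 0).map φ) =
    Q.map (HomologicalComplex.mkHomToSingle (u ≫ φ)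
      (fun i hi => by rw [← Category.assoc, hu i hi, zero_comp])) ≫
      (toDSingleIso N' cc n hn).hom := by
  rw [Category.assoc, ← toDSingleIso_naturality φ cc n hn, ← Category.assoc, ← Functor.map_comp,
    mkHomToSingle_comp_map]

lemma rep_eq_zero_iff (E : Cx R) [E.IsKProjective] (cc n : ℤ) (hn : n + cc = 0)
    (N : ModuleCat.{u} R) (u : E.X cc ⟶ N)
    (hu : ∀ i, (ComplexShape.up ℤ).Rel i cc → E.d i cc ≫ u = 0) :
    Q.map (HomologicalComplex.mkHomToSingle u hu) ≫ (toDSingleIso N cc n hn).hom = 0 ↔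
      ∃ k : E.X (cc + 1) ⟶ N, u = E.d cc (cc + 1) ≫ k := by
  constructor
  · intro h
    have hQ : Q.map (HomologicalComplex.mkHomToSingle u hu) = 0 := by
      rw [← cancel_mono (toDSingleIso N cc n hn).hom, h, zero_comp]
    obtain ⟨H⟩ := homotopy_zero_of_Q_map_eq_zero _ hQ
    exact exists_factor_of_homotopy E cc N u hu H
  · rintro ⟨k, rfl⟩
    rw [Q_map_mkHomToSingle_eq_zero E cc N k hu, zero_comp]

end ToSingle

section Main

variable {R : Type u} [CommRing R] {J : Type u} [SmallCategory J] [IsFiltered J]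
  (F : J ⥤ ModuleCat.{u} R) (c : Cocone F) (hc : IsColimit c)

include hc in
lemma exists_factor_toD (E : Cx R) (hE : bfCls E) (n : ℤ)
    (x : toD E ⟶ (Dual.inD R c.pt)⟦n⟧) :
    ∃ (j : J) (y : toD E ⟶ (Dual.inD R (F.obj j))⟦n⟧),
      y ≫ (CategoryTheory.shiftFunctor (Dual.D R) n).map
        ((DerivedCategory.singleFunctor (ModuleCat.{u} R) 0).map (c.ι.app j)) = x := by
  obtain ⟨a, b, hab, hff⟩ := hE
  haveI : E.IsKProjective := isKProjective_of_projective_bounded E b
    (fun i hi => hab i (Or.inr hi)) (fun i => by haveI := (hff i).2; infer_instance)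
  have hn : n + (-n) = 0 := by omega
  obtain ⟨u, hu, rfl⟩ := exists_rep_toSingle E (-n) n hn c.pt x
  haveI := (hff (-n)).1
  haveI := (hff (-n)).2
  obtain ⟨j, v, rfl⟩ := exists_factor_of_finite_free F c hc (E.X (-n)) u
  haveI := (hff (-n - 1)).1
  have h0 : (E.d (-n - 1) (-n) ≫ v) ≫ c.ι.app j = 0 := by
    rw [Category.assoc]
    exact hu _ (by simp)
  obtain ⟨j', f, hf⟩ := exists_map_comp_eq_zero F c hc (E.X (-n - 1)) j
    (E.d (-n - 1) (-n) ≫ v) h0
  have hv' : ∀ i, (ComplexShape.up ℤ).Rel i (-n) → E.d i (-n) ≫ (v ≫ F.map f) = 0 := by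
    intro i hi
    obtain rfl : i = -n - 1 := by
      have : i + 1 = -n := hi
      omega
    rw [← Category.assoc]
    exact hf
  refine ⟨j', Q.map (HomologicalComplex.mkHomToSingle (v ≫ F.map f) hv') ≫
    (toDSingleIso (F.obj j') (-n) n hn).hom, ?_⟩
  rw [rep_comp]
  have key : (v ≫ F.map f) ≫ c.ι.app j' = v ≫ c.ι.app j := by rw [Category.assoc, c.w]
  simp only [key]
  rfl

include hc in
lemma exists_comp_eq_zero_toD (E : Cx R) (hE : bfCls E) (n : ℤ) (j : J)
    (y : toD E ⟶ (Dual.inD R (F.obj j))⟦n⟧)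
    (h : y ≫ (CategoryTheory.shiftFunctor (Dual.D R) n).map
        ((DerivedCategory.singleFunctor (ModuleCat.{u} R) 0).map (c.ι.app j)) = 0) :
    ∃ (j' : J) (f : j ⟶ j'), y ≫ (CategoryTheory.shiftFunctor (Dual.D R) n).map
        ((DerivedCategory.singleFunctor (ModuleCat.{u} R) 0).map (F.map f)) = 0 := by
  obtain ⟨a, b, hab, hff⟩ := hE
  haveI : E.IsKProjective := isKProjective_of_projective_bounded E b
    (fun i hi => hab i (Or.inr hi)) (fun i => by haveI := (hff i).2; infer_instance)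
  have hn : n + (-n) = 0 := by omega
  obtain ⟨u, hu, rfl⟩ := exists_rep_toSingle E (-n) n hn (F.obj j) y
  rw [rep_comp] at h
  obtain ⟨k, hk⟩ := (rep_eq_zero_iff E (-n) n hn c.pt _ _).1 h
  haveI := (hff (-n + 1)).1
  haveI := (hff (-n + 1)).2
  obtain ⟨j1, k1, rfl⟩ := exists_factor_of_finite_free F c hc (E.X (-n + 1)) k
  let j2 := IsFiltered.max j j1
  let a' : j ⟶ j2 := IsFiltered.leftToMax j j1
  let b' : j1 ⟶ j2 := IsFiltered.rightToMax j j1
  haveI := (hff (-n)).1
  have hw : (u ≫ F.map a' - E.d (-n) (-n + 1) ≫ k1 ≫ F.map b') ≫ c.ι.app j2 = 0 := by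
    rw [Preadditive.sub_comp, Category.assoc, c.w, Category.assoc, Category.assoc, c.w, hk,
      sub_self]
  obtain ⟨j', f2, hf2⟩ := exists_map_comp_eq_zero F c hc (E.X (-n)) j2 _ hw
  refine ⟨j', a' ≫ f2, ?_⟩
  rw [rep_comp]
  apply (rep_eq_zero_iff E (-n) n hn (F.obj j') _ _).2
  refine ⟨k1 ≫ F.map (b' ≫ f2), ?_⟩
  rw [Preadditive.sub_comp, sub_eq_zero] at hf2
  rw [F.map_comp, F.map_comp, ← Category.assoc u, hf2]
  simp only [Category.assoc]

omit [IsFiltered J] in
lemma precomp_injective_of_isLE {X K Z : Dual.D R} (f : X ⟶ K) (g : K ⟶ Z)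
    (h : Z ⟶ X⟦(1 : ℤ)⟧) (hT : Pretriangulated.Triangle.mk f g h ∈ distTriang (Dual.D R))
    (m : ℤ) [DerivedCategory.IsLE Z (m - 1)] (T : Dual.D R) (k : ℤ) [DerivedCategory.IsGE T k]
    (hk : m - 1 < k) (x : K ⟶ T) (hx : f ≫ x = 0) : x = 0 := by
  obtain ⟨x', hx'⟩ : ∃ x' : Z ⟶ T, x = g ≫ x' :=
    Pretriangulated.Triangle.yoneda_exact₂ _ hT x hx
  have h0 : x' = 0 := TStructure.t.zero x' (m - 1) k hk
  rw [hx', h0, comp_zero]

omit [IsFiltered J] in
lemma precomp_surjective_of_isLE {X K Z : Dual.D R} (f : X ⟶ K) (g : K ⟶ Z)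
    (h : Z ⟶ X⟦(1 : ℤ)⟧) (hT : Pretriangulated.Triangle.mk f g h ∈ distTriang (Dual.D R))
    (m : ℤ) [DerivedCategory.IsLE Z (m - 1)] (T : Dual.D R) (k : ℤ) [DerivedCategory.IsGE T k]
    (hk : m < k) (y : X ⟶ T) : ∃ x : K ⟶ T, f ≫ x = y := by
  have hT' := Pretriangulated.inv_rot_of_distTriang _ hT
  haveI : DerivedCategory.IsLE ((Pretriangulated.Triangle.mk f g h).invRotate.obj₁) m :=
    TStructure.t.isLE_shift Z (m - 1) (-1) m (by omega)
  obtain ⟨x, hx⟩ := Pretriangulated.Triangle.yoneda_exact₂ _ hT' y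
    (TStructure.t.zero _ m k hk)
  exact ⟨x, hx.symm⟩

include hc in
/-- S6999. -/
theorem ext_filteredColimit_of_pseudoCoherent (m : ℤ) (K : Dual.D R)
    (hK : IsPseudoCoherent R m K) :
    (∀ n : ℤ, n < -m → ∀ x : K ⟶ (CategoryTheory.shiftFunctor (Dual.D R) n).obj (Dual.inD R c.pt),
      ∃ (j : J) (y : K ⟶ (CategoryTheory.shiftFunctor (Dual.D R) n).obj (Dual.inD R (F.obj j))),
        y ≫ (CategoryTheory.shiftFunctor (Dual.D R) n).map
          ((DerivedCategory.singleFunctor (ModuleCat.{u} R) 0).map (c.ι.app j)) = x) ∧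
    (∀ n : ℤ, n ≤ -m → ∀ (j : J)
      (y : K ⟶ (CategoryTheory.shiftFunctor (Dual.D R) n).obj (Dual.inD R (F.obj j))),
      y ≫ (CategoryTheory.shiftFunctor (Dual.D R) n).map
          ((DerivedCategory.singleFunctor (ModuleCat.{u} R) 0).map (c.ι.app j)) = 0 →
      ∃ (j' : J) (f : j ⟶ j'), y ≫ (CategoryTheory.shiftFunctor (Dual.D R) n).map
          ((DerivedCategory.singleFunctor (ModuleCat.{u} R) 0).map (F.map f)) = 0) := by
  rw [isPseudoCoherent_iff_pcmP] at hK
  obtain ⟨X, Z, f, g, h, hT, ⟨E, hE, ⟨e⟩⟩, hZ⟩ := hK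
  haveI : DerivedCategory.IsLE Z (m - 1) := hZ
  have hGE : ∀ (N : ModuleCat.{u} R) (n : ℤ),
      DerivedCategory.IsGE ((Dual.inD R N)⟦n⟧) (-n) := fun N n =>
    TStructure.t.isGE_shift (Dual.inD R N) 0 n (-n) (by omega)
  refine ⟨fun n hn x => ?_, fun n hn j y hy => ?_⟩
  · obtain ⟨j, yE, hyE⟩ := exists_factor_toD F c hc E hE n (e.hom ≫ f ≫ x)
    haveI := hGE (F.obj j) n
    obtain ⟨y, hy⟩ := precomp_surjective_of_isLE f g h hT m ((Dual.inD R (F.obj j))⟦n⟧) (-n)
      (by omega) (e.inv ≫ yE)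
    refine ⟨j, y, ?_⟩
    haveI := hGE c.pt n
    have h0 := precomp_injective_of_isLE f g h hT m ((Dual.inD R c.pt)⟦n⟧) (-n) (by omega)
      ((y ≫ (CategoryTheory.shiftFunctor (Dual.D R) n).map
        ((DerivedCategory.singleFunctor (ModuleCat.{u} R) 0).map (c.ι.app j)) :
          K ⟶ (CategoryTheory.shiftFunctor (Dual.D R) n).obj (Dual.inD R c.pt)) - x) (by
      rw [Preadditive.comp_sub, ← Category.assoc, hy, Category.assoc, hyE, Iso.inv_hom_id_assoc,
        sub_self])
    exact sub_eq_zero.1 h0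
  · obtain ⟨j', f', hf'⟩ := exists_comp_eq_zero_toD F c hc E hE n j (e.hom ≫ f ≫ y) (by
      rw [Category.assoc, Category.assoc, hy, comp_zero, comp_zero])
    refine ⟨j', f', ?_⟩
    haveI := hGE (F.obj j') n
    apply precomp_injective_of_isLE f g h hT m _ (-n) (by omega)
    have h1 : e.hom ≫ (f ≫ y ≫ (CategoryTheory.shiftFunctor (Dual.D R) n).map
        ((DerivedCategory.singleFunctor (ModuleCat.{u} R) 0).map (F.map f'))) = 0 := by
      rw [← hf']
      simp only [Category.assoc]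
    exact (cancel_epi e.hom).1 (by rw [h1, comp_zero])

end Main

end Groth.Agent.Lib.DMod_helper6
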