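import Mathlib
import Groth.Prelude.Def_DRing2
import Groth.Prelude.Def_DDual2
import Groth.Agent.Lib.DMod25_helper6
import Groth.Agent.Lib.DMod21_helper6
import Groth.Agent.Lib.DMod5_helper6

/-!
# Derived category toolkit (helper6), part 85: a nonzero map to a torsion module detecting
`H^i(K)/mH^i(K)` (S6989).
-/

set_option autoImplicit false
universe u
open CategoryTheory CategoryTheory.Limits DerivedCategory
attribute [local instance] HasDerivedCategory.standard

namespace Groth.Agent.Lib.DMod_helper6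

open DRing

variable {A : Type u} [CommRing A]

/-- Artin–Rees consequence: a submodule `N` of a finite module `C` over a noetherian ring with
`mN ≠ N` is not contained in `m^n C` for some `n`. -/
lemma exists_not_le_pow_smul_top [IsNoetherianRing A] (m : Ideal A) (C : Type u) [AddCommGroup C]
    [Module A C] [Module.Finite A C] (N : Submodule A C) (hN : ¬ N ≤ m • N) :
    ∃ n : ℕ, ¬ N ≤ m ^ n • (⊤ : Submodule A C) := by
  obtain ⟨k, hk⟩ := Ideal.exists_pow_inf_eq_pow_smul m N
  refine ⟨k + 1, fun hle => hN ?_⟩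
  have h1 := hk (k + 1) (by omega)
  rw [inf_eq_right.2 hle, show k + 1 - k = 1 by omega, pow_one] at h1
  exact h1.le.trans (Submodule.smul_mono le_rfl inf_le_right)

/-- S6989. -/
theorem exists_hom_to_torsion_nonzero [IsNoetherianRing A] (K : Dual.D A)
    (hb : ∃ b : ℤ, ∀ j : ℤ, b < j → Subsingleton (Dual.HD A K j))
    (hfin : ∀ j : ℤ, Module.Finite A (Dual.HD A K j)) (m : Ideal A) (i : ℤ)
    (hi : m • (⊤ : Submodule A (Dual.HD A K i)) ≠ ⊤) :
    ∃ (E : Type u) (_ : AddCommGroup E) (_ : Module A E) (_ : Module.Finite A E) (n : ℕ)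
      (_ : m ^ n • (⊤ : Submodule A E) = ⊥)
      (f : K ⟶ (CategoryTheory.shiftFunctor (Dual.D A) (-i)).obj (Dual.inD A E)),
      (DerivedCategory.homologyFunctor (ModuleCat.{u} A) i).map f ≠ 0 := by
  have hpc : IsPseudoCoherent' A K := isPseudoCoherent'_of_homology K hb (fun j => by
    haveI := hfin j
    exact isPseudoCoherentModule'_of_finite _)
  obtain ⟨P, b, hPb, hPff, ⟨e⟩⟩ := hpc
  let e' : P.homology i ≅ (DerivedCategory.homologyFunctor (ModuleCat.{u} A) i).obj K :=
    ((homologyFunctorFactors (ModuleCat.{u} A) i).app P).symm ≪≫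
      (DerivedCategory.homologyFunctor _ i).mapIso e
  -- `m H ≠ H` for `H = H^i(P)`
  have hH : m • (⊤ : Submodule A (P.homology i)) ≠ ⊤ := by
    intro h
    apply hi
    have h2 := congrArg (Submodule.map e'.toLinearEquiv.toLinearMap) h
    rw [Submodule.map_smul'', Submodule.map_top, LinearEquiv.range] at h2
    exact h2
  -- the finite module `C = P^i / B^i` and its submodule `N = H`
  haveI : Module.Finite A (P.X i) := (hPff i).1
  haveI : Module.Finite A (P.opcycles i) :=
    Module.Finite.of_surjective (P.pOpcycles i).hom (surjective_of_epi _)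
  let ι : P.homology i →ₗ[A] P.opcycles i := (P.homologyι i).hom
  have hι : Function.Injective ι := (ModuleCat.mono_iff_injective _).1 inferInstance
  let N : Submodule A (P.opcycles i) := LinearMap.range ι
  have hN : ¬ N ≤ m • N := by
    intro hle
    apply hH
    rw [eq_top_iff]
    intro x _
    have hx : ι x ∈ m • N := hle ⟨x, rfl⟩
    rw [show N = Submodule.map ι ⊤ from (Submodule.map_top ι).symm, ← Submodule.map_smul''] at hx
    obtain ⟨y, hy, hyx⟩ := hx
    rw [← hι hyx]
    exact hy
  obtain ⟨n, hn⟩ := exists_not_le_pow_smul_top m (P.opcycles i) N hN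
  -- the quotient `E = C / m^n C`
  let W : Submodule A (P.opcycles i) := m ^ n • ⊤
  let E' : ModuleCat.{u} A := ModuleCat.of A ((P.opcycles i) ⧸ W)
  let ψ : P.opcycles i ⟶ E' := ModuleCat.ofHom W.mkQ
  have hE : m ^ n • (⊤ : Submodule A ((P.opcycles i) ⧸ W)) = ⊥ := by
    rw [eq_bot_iff]
    refine Submodule.smul_le.2 (fun a ha y _ => ?_)
    obtain ⟨c, rfl⟩ := W.mkQ_surjective y
    rw [Submodule.mem_bot, ← map_smul, Submodule.mkQ_apply, Submodule.Quotient.mk_eq_zero]
    exact Submodule.smul_mem_smul ha Submodule.mem_top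
  let φ₀ : P.X i ⟶ E' := P.pOpcycles i ≫ ψ
  have hφ₀ : ∀ j, (ComplexShape.up ℤ).Rel j i → P.d j i ≫ φ₀ = 0 := fun j _ => by
    rw [← Category.assoc, P.d_pOpcycles, zero_comp]
  let S := (HomologicalComplex.single (ModuleCat.{u} A) (ComplexShape.up ℤ) i).obj E'
  let φ : P ⟶ S := HomologicalComplex.mkHomToSingle φ₀ hφ₀
  let τ := toDSingleIso E' i (-i) (by omega)
  refine ⟨(P.opcycles i) ⧸ W, inferInstance, inferInstance, inferInstance, n, hE,
    e.inv ≫ Q.map φ ≫ τ.hom, ?_⟩
  intro h0
  apply hn
  -- `H^i(φ) = 0`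
  have hQ : (DerivedCategory.homologyFunctor (ModuleCat.{u} A) i).map (Q.map φ) = 0 := by
    rw [Functor.map_comp, Functor.map_comp] at h0
    have h1 := (cancel_epi ((DerivedCategory.homologyFunctor (ModuleCat.{u} A) i).map e.inv)).1
      (h0.trans comp_zero.symm)
    exact (cancel_mono ((DerivedCategory.homologyFunctor (ModuleCat.{u} A) i).map τ.hom)).1
      (h1.trans zero_comp.symm)
  have hHm : HomologicalComplex.homologyMap φ i = 0 := by
    have nat := (homologyFunctorFactors (ModuleCat.{u} A) i).hom.naturality φ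
    simp only [Functor.comp_map] at nat
    rw [hQ, zero_comp] at nat
    exact (cancel_epi ((homologyFunctorFactors (ModuleCat.{u} A) i).hom.app P)).1
      (nat.symm.trans comp_zero.symm)
  haveI : IsIso (S.pOpcycles i) :=
    S.isIso_pOpcycles (i - 1) i (by simp) (HomologicalComplex.single_obj_d _ _ _ _ _)
  have h1 : HomologicalComplex.opcyclesMap φ i =
      ψ ≫ (HomologicalComplex.singleObjXSelf (ComplexShape.up ℤ) i E').inv ≫ S.pOpcycles i := by
    rw [← cancel_epi (P.pOpcycles i), HomologicalComplex.p_opcyclesMap,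
      HomologicalComplex.mkHomToSingle_f]
    simp only [φ₀, Category.assoc]
  have h2 : (P.homologyι i ≫ ψ) ≫
      ((HomologicalComplex.singleObjXSelf (ComplexShape.up ℤ) i E').inv ≫ S.pOpcycles i) = 0 := by
    rw [Category.assoc, ← h1, ← HomologicalComplex.homologyι_naturality, hHm, zero_comp]
  have h3 : P.homologyι i ≫ ψ = 0 := by
    haveI : IsIso ((HomologicalComplex.singleObjXSelf (ComplexShape.up ℤ) i E').inv ≫
      S.pOpcycles i) := inferInstance
    exact (cancel_mono ((HomologicalComplex.singleObjXSelf (ComplexShape.up ℤ) i E').inv ≫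
      S.pOpcycles i)).1 (by rw [h2, zero_comp])
  rintro x ⟨y, rfl⟩
  have h4 := LinearMap.congr_fun (congrArg ModuleCat.Hom.hom h3) y
  have h5 : W.mkQ (ι y) = 0 := h4
  rw [Submodule.mkQ_apply, Submodule.Quotient.mk_eq_zero] at h5
  exact h5

end Groth.Agent.Lib.DMod_helper6
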