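import Groth.Agent.Lib.DPGen_helper1
import Mathlib.RingTheory.PowerSeries.Basic
import Mathlib.RingTheory.DividedPowers.DPMorphism

/-!
# Divided powers on a sum of two ideals (S2191)

If `γ` on `I` and `δ` on `J` agree on `I ⊓ J`, there is a unique divided power structure on
`I ⊔ J` restricting to `γ` and `δ`.  The bookkeeping is done with the exponential power series
`ps γ x = ∑ γ_n(x) T^n`; the product and composition rules come from `DPGen_helper1`.
-/

set_option autoImplicit false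
set_option maxHeartbeats 1000000

universe u

namespace Groth.Agent.Lib.DPSupH1

open Groth.Agent.Lib.DPGenH1

section

variable {A : Type u} [CommRing A]

/-- the exponential series of an element -/
noncomputable def ps {I : Ideal A} (γ : DividedPowers I) (x : A) : PowerSeries A :=
  PowerSeries.mk fun n => γ.dpow n x

theorem coeff_ps {I : Ideal A} (γ : DividedPowers I) (x : A) (n : ℕ) :
    PowerSeries.coeff n (ps γ x) = γ.dpow n x := PowerSeries.coeff_mk n _

theorem ps_add {I : Ideal A} (γ : DividedPowers I) {x x' : A} (hx : x ∈ I) (hx' : x' ∈ I) :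
    ps γ (x + x') = ps γ x * ps γ x' := by
  ext n
  rw [PowerSeries.coeff_mul, coeff_ps, γ.dpow_add hx hx']
  apply Finset.sum_congr rfl
  intro k _
  rw [coeff_ps, coeff_ps]

theorem ps_zero {I : Ideal A} (γ : DividedPowers I) : ps γ 0 = 1 := by
  ext n
  rw [coeff_ps, PowerSeries.coeff_one]
  by_cases hn : n = 0
  · subst hn; rw [γ.dpow_zero I.zero_mem, if_pos rfl]
  · rw [γ.dpow_eval_zero hn, if_neg hn]

theorem ps_mul {I : Ideal A} (γ : DividedPowers I) (a : A) {x : A} (hx : x ∈ I) :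
    ps γ (a * x) = PowerSeries.rescale a (ps γ x) := by
  ext n
  rw [PowerSeries.coeff_rescale, coeff_ps, coeff_ps, γ.dpow_mul hx]

variable {I J : Ideal A} (γ : DividedPowers I) (δ : DividedPowers J)

theorem E_wd (h : ∀ (n : ℕ) (x : A), x ∈ I ⊓ J → γ.dpow n x = δ.dpow n x)
    {x x' y y' : A} (hx : x ∈ I) (hx' : x' ∈ I) (hy : y ∈ J) (hy' : y' ∈ J)
    (e : x + y = x' + y') : ps γ x * ps δ y = ps γ x' * ps δ y' := by
  obtain ⟨t, ht⟩ : ∃ t, t = x - x' := ⟨_, rfl⟩
  have ht1 : t ∈ I := by rw [ht]; exact I.sub_mem hx hx'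
  have ht2 : t ∈ J := by
    have e' : t = y' - y := by rw [ht]; linear_combination e
    rw [e']; exact J.sub_mem hy' hy
  have hps : ps γ t = ps δ t := by
    ext n
    rw [coeff_ps, coeff_ps]
    exact h n t (Ideal.mem_inf.mpr ⟨ht1, ht2⟩)
  have e1 : x = x' + t := by rw [ht]; ring
  have e2 : y' = t + y := by rw [ht]; linear_combination -e
  rw [e1, ps_add γ hx' ht1, e2, ps_add δ ht2 hy, hps]
  ring

/-- the `I`-part of an element of `I ⊔ J` -/
noncomputable def cx (z : A) (hz : z ∈ I ⊔ J) : A := (Submodule.mem_sup.mp hz).choose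

/-- the `J`-part of an element of `I ⊔ J` -/
noncomputable def cy (z : A) (hz : z ∈ I ⊔ J) : A :=
  (Submodule.mem_sup.mp hz).choose_spec.2.choose

theorem cx_mem (z : A) (hz : z ∈ I ⊔ J) : cx z hz ∈ I :=
  (Submodule.mem_sup.mp hz).choose_spec.1

theorem cy_mem (z : A) (hz : z ∈ I ⊔ J) : cy z hz ∈ J :=
  (Submodule.mem_sup.mp hz).choose_spec.2.choose_spec.1

theorem cx_add_cy (z : A) (hz : z ∈ I ⊔ J) : cx z hz + cy z hz = z :=
  (Submodule.mem_sup.mp hz).choose_spec.2.choose_spec.2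

open Classical in
/-- the divided powers on `I ⊔ J` -/
noncomputable def eps (n : ℕ) (z : A) : A :=
  if hz : z ∈ I ⊔ J then PowerSeries.coeff n (ps γ (cx z hz) * ps δ (cy z hz)) else 0

theorem eps_eq (h : ∀ (n : ℕ) (x : A), x ∈ I ⊓ J → γ.dpow n x = δ.dpow n x)
    {x y : A} (hx : x ∈ I) (hy : y ∈ J) (n : ℕ) :
    eps γ δ n (x + y) = PowerSeries.coeff n (ps γ x * ps δ y) := by
  have hz : x + y ∈ I ⊔ J := Submodule.add_mem_sup hx hy
  unfold eps
  rw [dif_pos hz, E_wd γ δ h (cx_mem _ hz) hx (cy_mem _ hz) hy (cx_add_cy _ hz)]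

theorem eps_left (h : ∀ (n : ℕ) (x : A), x ∈ I ⊓ J → γ.dpow n x = δ.dpow n x)
    {x : A} (hx : x ∈ I) (n : ℕ) : eps γ δ n x = γ.dpow n x := by
  have h1 := eps_eq γ δ h hx J.zero_mem n
  rw [add_zero, ps_zero, mul_one, coeff_ps] at h1
  exact h1

theorem eps_right (h : ∀ (n : ℕ) (x : A), x ∈ I ⊓ J → γ.dpow n x = δ.dpow n x)
    {y : A} (hy : y ∈ J) (n : ℕ) : eps γ δ n y = δ.dpow n y := by
  have h1 := eps_eq γ δ h I.zero_mem hy n
  rw [zero_add, ps_zero, one_mul, coeff_ps] at h1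
  exact h1

theorem eps_preDP (h : ∀ (n : ℕ) (x : A), x ∈ I ⊓ J → γ.dpow n x = δ.dpow n x) :
    PreDP (I ⊔ J) (eps γ δ) where
  null := fun n z hz => by unfold eps; rw [dif_neg hz]
  zero := fun z hz => by
    obtain ⟨x, hx, y, hy, rfl⟩ := Submodule.mem_sup.mp hz
    rw [eps_eq γ δ h hx hy, PowerSeries.coeff_mul, Finset.Nat.antidiagonal_zero,
      Finset.sum_singleton, coeff_ps, coeff_ps, γ.dpow_zero hx, δ.dpow_zero hy, one_mul]
  one := fun z hz => by
    obtain ⟨x, hx, y, hy, rfl⟩ := Submodule.mem_sup.mp hz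
    rw [eps_eq γ δ h hx hy, PowerSeries.coeff_mul,
      Finset.Nat.sum_antidiagonal_eq_sum_range_succ_mk, Finset.sum_range_succ,
      Finset.sum_range_one]
    simp only [coeff_ps, Nat.sub_zero, Nat.sub_self, γ.dpow_zero hx, γ.dpow_one hx,
      δ.dpow_zero hy, δ.dpow_one hy]
    ring
  mem := fun n z hn hz => by
    obtain ⟨x, hx, y, hy, rfl⟩ := Submodule.mem_sup.mp hz
    rw [eps_eq γ δ h hx hy, PowerSeries.coeff_mul]
    apply Ideal.sum_mem
    intro k hk
    rw [Finset.mem_antidiagonal] at hk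
    rw [coeff_ps, coeff_ps]
    by_cases hk1 : k.1 = 0
    · have hk2 : k.2 ≠ 0 := by omega
      exact (I ⊔ J).mul_mem_left _ (Ideal.mem_sup_right (δ.dpow_mem hk2 hy))
    · exact (I ⊔ J).mul_mem_right _ (Ideal.mem_sup_left (γ.dpow_mem hk1 hx))
  add := fun n z z' hz hz' => by
    obtain ⟨x, hx, y, hy, rfl⟩ := Submodule.mem_sup.mp hz
    obtain ⟨x', hx', y', hy', rfl⟩ := Submodule.mem_sup.mp hz'
    have e : x + y + (x' + y') = (x + x') + (y + y') := by ring
    rw [e, eps_eq γ δ h (I.add_mem hx hx') (J.add_mem hy hy'), ps_add γ hx hx',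
      ps_add δ hy hy']
    have e2 : ps γ x * ps γ x' * (ps δ y * ps δ y')
        = (ps γ x * ps δ y) * (ps γ x' * ps δ y') := by ring
    rw [e2, PowerSeries.coeff_mul]
    apply Finset.sum_congr rfl
    intro k _
    rw [eps_eq γ δ h hx hy, eps_eq γ δ h hx' hy']
  mul := fun n a z hz => by
    obtain ⟨x, hx, y, hy, rfl⟩ := Submodule.mem_sup.mp hz
    rw [mul_add, eps_eq γ δ h (I.mul_mem_left a hx) (J.mul_mem_left a hy), ps_mul γ a hx,
      ps_mul δ a hy, ← map_mul, PowerSeries.coeff_rescale, eps_eq γ δ h hx hy]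

theorem eps_good (h : ∀ (n : ℕ) (x : A), x ∈ I ⊓ J → γ.dpow n x = δ.dpow n x) :
    ∀ x ∈ ((I : Set A) ∪ (J : Set A)), GoodEl (eps γ δ) x := by
  rintro x (hx | hx)
  · have hx : x ∈ I := hx
    constructor
    · intro m n
      rw [eps_left γ δ h hx, eps_left γ δ h hx, eps_left γ δ h hx]
      exact γ.mul_dpow hx
    · intro m n hn
      rw [eps_left γ δ h hx n, eps_left γ δ h (γ.dpow_mem hn hx), eps_left γ δ h hx]
      exact γ.dpow_comp hn hx
  · have hx : x ∈ J := hx
    constructor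
    · intro m n
      rw [eps_right γ δ h hx, eps_right γ δ h hx, eps_right γ δ h hx]
      exact δ.mul_dpow hx
    · intro m n hn
      rw [eps_right γ δ h hx n, eps_right γ δ h (δ.dpow_mem hn hx), eps_right γ δ h hx]
      exact δ.dpow_comp hn hx

theorem main (γ : DividedPowers I)
    (δ : DividedPowers J) (h : ∀ (n : ℕ) (x : A), x ∈ I ⊓ J → γ.dpow n x = δ.dpow n x) :
    ∃! ε : DividedPowers (I ⊔ J),
      (∀ (n : ℕ) (x : A), x ∈ I → ε.dpow n x = γ.dpow n x) ∧
        (∀ (n : ℕ) (x : A), x ∈ J → ε.dpow n x = δ.dpow n x) := by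
  have hpre := eps_preDP γ δ h
  have hspan : Ideal.span ((I : Set A) ∪ (J : Set A)) = I ⊔ J := by
    rw [Ideal.span_union, Ideal.span_eq, Ideal.span_eq]
  have hgood := good_all hpre _ hspan (eps_good γ δ h)
  refine ⟨ofGood hpre hgood,
    ⟨fun n x hx => eps_left γ δ h hx n, fun n x hx => eps_right γ δ h hx n⟩, ?_⟩
  rintro ε' ⟨h1, h2⟩
  apply DividedPowers.dpow_eq_from_gens (ofGood hpre hgood) ε' hspan.symm
  rintro n a (ha | ha)
  · rw [h1 n a ha]; exact eps_left γ δ h ha n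
  · rw [h2 n a ha]; exact eps_right γ δ h ha n

end

end Groth.Agent.Lib.DPSupH1
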