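import Groth.Agent.Lib.DPFlat_helper1
import Groth.Agent.Lib.DPSup_helper1

/-!
# The divided power structure on `I P + P_+` of a divided power polynomial algebra (S18421)
-/

set_option autoImplicit false
set_option maxHeartbeats 1000000

universe u v w

namespace Groth.Agent.Lib.DPCompatH1

section Agree

variable {P : Type v} [CommRing P]

/-- two divided power structures agree on the product of their ideals -/
theorem agree_of_mul {K L : Ideal P} (δ₁ : DividedPowers K) (δ₂ : DividedPowers L) :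
    ∀ y ∈ K * L, y ∈ K ∧ y ∈ L ∧ ∀ n, δ₁.dpow n y = δ₂.dpow n y := by
  intro y hy
  refine Submodule.mul_induction_on hy ?_ ?_
  · intro a ha z hz
    refine ⟨K.mul_mem_right _ ha, L.mul_mem_left _ hz, fun n => ?_⟩
    rw [δ₂.dpow_mul hz, mul_comm a z, δ₁.dpow_mul ha, ← δ₂.factorial_mul_dpow_eq_pow hz,
      ← δ₁.factorial_mul_dpow_eq_pow ha]
    ring
  · rintro y y' ⟨h1, h2, h3⟩ ⟨h1', h2', h3'⟩
    refine ⟨K.add_mem h1 h1', L.add_mem h2 h2', fun n => ?_⟩
    rw [δ₁.dpow_add h1 h1', δ₂.dpow_add h2 h2']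
    apply Finset.sum_congr rfl
    intro k _
    rw [h3, h3']

end Agree

section

variable (R : Type u) [CommRing R] {Λ : Type w} {P : Type v} [CommRing P] [Algebra R P]
  (x : Λ → ℕ → P)

/-- the augmentation ideal -/
abbrev Pp : Ideal P := Ideal.span {y : P | ∃ (l : Λ) (n : ℕ), 1 ≤ n ∧ y = x l n}

variable (hx0 : ∀ l, x l 0 = 1)
  (hxmul : ∀ l n m, x l n * x l m = ((n + m).choose n : P) * x l (n + m))
  (b : Module.Basis (Λ →₀ ℕ) R P) (hb : ∀ e : Λ →₀ ℕ, b e = e.prod (fun l k => x l k))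

include hx0 hb in
theorem b_single (l : Λ) (n : ℕ) : b (Finsupp.single l n) = x l n := by
  rw [hb, Finsupp.prod_single_index (hx0 l)]

include hx0 hxmul hb in
open Classical in
theorem b_mul (e e' : Λ →₀ ℕ) : ∃ N : ℕ, b e * b e' = (N : P) * b (e + e') := by
  obtain ⟨s, hs⟩ : ∃ s : Finset Λ, s = e.support ∪ e'.support := ⟨_, rfl⟩
  have h1 : b e = ∏ l ∈ s, x l (e l) := by
    rw [hb]
    exact Finsupp.prod_of_support_subset e (hs ▸ Finset.subset_union_left) _ (fun l _ => hx0 l)
  have h2 : b e' = ∏ l ∈ s, x l (e' l) := by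
    rw [hb]
    exact Finsupp.prod_of_support_subset e' (hs ▸ Finset.subset_union_right) _ (fun l _ => hx0 l)
  have h3 : b (e + e') = ∏ l ∈ s, x l (e l + e' l) := by
    rw [hb, Finsupp.prod_of_support_subset (e + e') (hs ▸ Finsupp.support_add) _
      (fun l _ => hx0 l)]
    apply Finset.prod_congr rfl
    intro l _
    rw [Finsupp.add_apply]
  refine ⟨∏ l ∈ s, (e l + e' l).choose (e l), ?_⟩
  rw [h1, h2, h3, Nat.cast_prod, ← Finset.prod_mul_distrib, ← Finset.prod_mul_distrib]
  apply Finset.prod_congr rfl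
  intro l _
  exact hxmul l (e l) (e' l)

include hx0 hxmul hb in
theorem c0_mul_gen (p : P) (l : Λ) {n : ℕ} (hn : 1 ≤ n) : b.coord 0 (p * x l n) = 0 := by
  classical
  have h0 : p = ∑ e ∈ (b.repr p).support, (b.repr p e) • b e := by
    have h := b.linearCombination_repr p
    rw [Finsupp.linearCombination_apply, Finsupp.sum] at h
    exact h.symm
  have h1 : p * x l n = ∑ e ∈ (b.repr p).support, (b.repr p e) • (b e * x l n) := by
    calc p * x l n = (∑ e ∈ (b.repr p).support, (b.repr p e) • b e) * x l n := by rw [← h0]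
      _ = _ := by
        rw [Finset.sum_mul]
        apply Finset.sum_congr rfl
        intro e _
        rw [smul_mul_assoc]
  rw [h1, map_sum]
  apply Finset.sum_eq_zero
  intro e _
  obtain ⟨N, hN⟩ := b_mul R x hx0 hxmul b hb e (Finsupp.single l n)
  have hne : ¬ (e + Finsupp.single l n = 0) := by
    intro h0
    have h2 := congrArg (fun g => g l) h0
    simp at h2
    omega
  rw [map_smul, ← b_single R x hx0 b hb l n, hN, ← nsmul_eq_mul, map_nsmul,
    Module.Basis.coord_apply, Module.Basis.repr_self, Finsupp.single_apply, if_neg hne, smul_zero,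
    smul_zero]

include hx0 hxmul hb in
theorem c0_Pp {y : P} (hy : y ∈ Pp x) : b.coord 0 y = 0 := by
  have key : ∀ p : P, b.coord 0 (p * y) = 0 := by
    have hy' : y ∈ Submodule.span P {y : P | ∃ (l : Λ) (n : ℕ), 1 ≤ n ∧ y = x l n} := hy
    refine Submodule.span_induction (p := fun y _ => ∀ p : P, b.coord 0 (p * y) = 0)
      ?_ ?_ ?_ ?_ hy'
    · rintro _ ⟨l, n, hn, rfl⟩ p
      exact c0_mul_gen R x hx0 hxmul b hb p l hn
    · intro p; rw [mul_zero, map_zero]
    · intro y y' _ _ ih ih' p; rw [mul_add, map_add, ih, ih', add_zero]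
    · intro q y _ ih p
      rw [smul_eq_mul, ← mul_assoc]; exact ih (p * q)
  have h1 := key 1
  rwa [one_mul] at h1

include hb in
theorem b_mem_Pp {e : Λ →₀ ℕ} (he : e ≠ 0) : b e ∈ Pp x := by
  obtain ⟨l, hl⟩ : ∃ l, e l ≠ 0 := by
    by_contra h
    push Not at h
    exact he (Finsupp.ext h)
  have hl' : l ∈ e.support := Finsupp.mem_support_iff.mpr hl
  rw [hb, Finsupp.prod]
  obtain ⟨c, hc⟩ := Finset.dvd_prod_of_mem (fun l => x l (e l)) hl'
  rw [hc]
  exact Ideal.mul_mem_right _ _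
    (Ideal.subset_span ⟨l, e l, Nat.one_le_iff_ne_zero.mpr hl, rfl⟩)

theorem repr_mem_of_mem_map {I : Ideal R} {y : P} (hy : y ∈ I.map (algebraMap R P))
    (e : Λ →₀ ℕ) : b.repr y e ∈ I := by
  have hy' : y ∈ Submodule.span P (algebraMap R P '' (I : Set R)) := hy
  refine Submodule.span_induction (p := fun y _ => ∀ e, b.repr y e ∈ I) ?_ ?_ ?_ ?_ hy' e
  · rintro _ ⟨a, ha, rfl⟩ e
    rw [Algebra.algebraMap_eq_smul_one, map_smul, Finsupp.smul_apply, smul_eq_mul]
    exact I.mul_mem_right _ ha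
  · intro e; rw [map_zero, Finsupp.zero_apply]; exact I.zero_mem
  · intro y y' _ _ ih ih' e
    rw [map_add, Finsupp.add_apply]; exact I.add_mem (ih e) (ih' e)
  · intro q y _ ih e
    have h0 : y = ∑ e' ∈ (b.repr y).support, (b.repr y e') • b e' := by
      have h := b.linearCombination_repr y
      rw [Finsupp.linearCombination_apply, Finsupp.sum] at h
      exact h.symm
    have hq : q * y = ∑ e' ∈ (b.repr y).support, (b.repr y e') • (q * b e') := by
      calc q * y = q * ∑ e' ∈ (b.repr y).support, (b.repr y e') • b e' := by rw [← h0]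
        _ = _ := by
          rw [Finset.mul_sum]
          apply Finset.sum_congr rfl
          intro e' _
          rw [mul_smul_comm]
    rw [smul_eq_mul, hq, map_sum, Finsupp.coe_finsetSum, Finset.sum_apply]
    apply Ideal.sum_mem
    intro e' _
    rw [map_smul, Finsupp.smul_apply, smul_eq_mul]
    exact I.mul_mem_right _ (ih e')

include hx0 hxmul hb in
theorem inf_le_mul {I : Ideal R} {y : P} (hy1 : y ∈ I.map (algebraMap R P)) (hy2 : y ∈ Pp x) :
    y ∈ I.map (algebraMap R P) * Pp x := by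
  have h0 : y = ∑ e ∈ (b.repr y).support, (b.repr y e) • b e := by
    have h := b.linearCombination_repr y
    rw [Finsupp.linearCombination_apply, Finsupp.sum] at h
    exact h.symm
  rw [h0]
  apply Ideal.sum_mem
  intro e _
  by_cases he : e = 0
  · have h1 : b.repr y e = 0 := by
      rw [he]; exact c0_Pp R x hx0 hxmul b hb hy2
    rw [h1, zero_smul]; exact Ideal.zero_mem _
  · rw [Algebra.smul_def]
    exact Ideal.mul_mem_mul (Ideal.mem_map_of_mem _ (repr_mem_of_mem_map R b hy1 e))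
      (b_mem_Pp R x b hb he)

end

theorem main (R : Type u) [CommRing R] {I : Ideal R}
    (γ : DividedPowers I) (Λ : Type w)
    (P : Type v) [CommRing P] [Algebra R P] (x : Λ → ℕ → P)
    (hx0 : ∀ l, x l 0 = 1)
    (hxmul : ∀ l n m, x l n * x l m = ((n + m).choose n : P) * x l (n + m))
    (b : Module.Basis (Λ →₀ ℕ) R P) (hb : ∀ e : Λ →₀ ℕ, b e = e.prod (fun l k => x l k))
    (δplus : DividedPowers (Ideal.span {y : P | ∃ (l : Λ) (n : ℕ), 1 ≤ n ∧ y = x l n}))
    (_hδplus : ∀ (l : Λ) (n : ℕ), δplus.dpow n (x l 1) = x l n) :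
    ∃! δ : DividedPowers (I.map (algebraMap R P) ⊔
        Ideal.span {y : P | ∃ (l : Λ) (n : ℕ), 1 ≤ n ∧ y = x l n}),
      γ.IsDPMorphism δ (algebraMap R P) ∧
        ∀ (n : ℕ) (y : P), y ∈ Ideal.span {y : P | ∃ (l : Λ) (n : ℕ), 1 ≤ n ∧ y = x l n} →
          δ.dpow n y = δplus.dpow n y := by
  have hfree : Module.Free R P := Module.Free.of_basis b
  have hflat : Module.Flat R P := inferInstance
  obtain ⟨δI, hδI, _⟩ := Groth.Agent.Lib.DPFlatH1.exists_flat (B := P) γ
  have hagree : ∀ (n : ℕ) (y : P), y ∈ I.map (algebraMap R P) ⊓ Pp x →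
      δI.dpow n y = δplus.dpow n y := by
    intro n y hy
    obtain ⟨hy1, hy2⟩ := Ideal.mem_inf.mp hy
    exact (agree_of_mul δI δplus y (inf_le_mul R x hx0 hxmul b hb hy1 hy2)).2.2 n
  obtain ⟨ε, ⟨hε1, hε2⟩, -⟩ := Groth.Agent.Lib.DPSupH1.main δI δplus hagree
  refine ⟨ε, ⟨⟨le_sup_left, fun a ha => ?_⟩, hε2⟩, ?_⟩
  · rw [hε1 _ _ (Ideal.mem_map_of_mem _ ha)]; exact hδI.dpow_comp a ha
  · rintro δ' ⟨h1, h2⟩
    have hspan : I.map (algebraMap R P) ⊔ Pp x
        = Ideal.span ((algebraMap R P '' (I : Set R)) ∪ (Pp x : Set P)) := by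
      rw [Ideal.span_union, Ideal.span_eq]; rfl
    apply DividedPowers.dpow_eq_from_gens ε δ' hspan
    rintro n y (⟨a, ha, rfl⟩ | hy)
    · rw [hε1 _ _ (Ideal.mem_map_of_mem _ ha), hδI.dpow_comp a ha, h1.dpow_comp a ha]
    · rw [hε2 n y hy, h2 n y hy]

end Groth.Agent.Lib.DPCompatH1
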