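import Mathlib
import Groth.Prelude.Def_W4c3severiratdpLat

namespace Groth.Agent.Lib.DPConic_lead
open W4c3severiratdp

lemma form_canon {δ : ℕ} (v : DP δ) :
    form (canon δ) v = -3 * v 0 + ∑ i : Fin δ, v i.succ := by
  unfold form canon
  simp only [Fin.cases_zero, Fin.cases_succ, neg_mul, one_mul, Finset.sum_neg_distrib]
  ring

lemma isConic_iff {δ : ℕ} (v : DP δ) :
    IsConic v ↔ (∑ i : Fin δ, v i.succ * v i.succ = v 0 * v 0 ∧
      ∑ i : Fin δ, v i.succ = 3 * v 0 - 2) := by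
  unfold IsConic
  rw [form_canon]
  unfold form
  constructor
  · rintro ⟨h1, h2⟩; constructor <;> linarith
  · rintro ⟨h1, h2⟩; constructor <;> linarith

lemma bounds {δ : ℕ} (hδ : δ ≤ 8) (v : DP δ)
    (h1 : ∑ i : Fin δ, v i.succ * v i.succ = v 0 * v 0)
    (h2 : ∑ i : Fin δ, v i.succ = 3 * v 0 - 2) :
    1 ≤ v 0 ∧ v 0 ≤ 11 ∧ ∀ j : Fin δ, 0 ≤ v j.succ := by
  have hδ' : (δ : ℤ) ≤ 8 := by exact_mod_cast hδ
  have cs : (∑ i : Fin δ, v i.succ) ^ 2 ≤
      ((Finset.univ : Finset (Fin δ)).card : ℤ) * ∑ i : Fin δ, v i.succ ^ 2 :=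
    sq_sum_le_card_mul_sum_sq
  rw [Finset.card_univ, Fintype.card_fin] at cs
  have h1' : ∑ i : Fin δ, v i.succ ^ 2 = v 0 * v 0 := by
    rw [← h1]; exact Finset.sum_congr rfl (fun i _ => sq _)
  rw [h1', h2] at cs
  have hsq : 0 ≤ v 0 * v 0 := mul_self_nonneg _
  have h8 : (3 * v 0 - 2) ^ 2 ≤ 8 * (v 0 * v 0) :=
    le_trans cs (mul_le_mul_of_nonneg_right hδ' hsq)
  refine ⟨by nlinarith, by nlinarith, ?_⟩
  intro j
  by_contra hneg
  push_neg at hneg
  have cs' : (∑ i ∈ Finset.univ.erase j, v i.succ) ^ 2 ≤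
      ((Finset.univ.erase j).card : ℤ) * ∑ i ∈ Finset.univ.erase j, v i.succ ^ 2 :=
    sq_sum_le_card_mul_sum_sq
  have e1 : ∑ i ∈ Finset.univ.erase j, v i.succ = 3 * v 0 - 2 - v j.succ := by
    rw [← h2, ← Finset.add_sum_erase _ _ (Finset.mem_univ j)]; ring
  have e2 : ∑ i ∈ Finset.univ.erase j, v i.succ ^ 2 = v 0 * v 0 - v j.succ ^ 2 := by
    rw [← h1', ← Finset.add_sum_erase _ (fun i => v i.succ ^ 2) (Finset.mem_univ j)]; ring
  have hc : ((Finset.univ.erase j).card : ℤ) ≤ 7 := by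
    have : (Finset.univ.erase j).card ≤ 7 := by
      rw [Finset.card_erase_of_mem (Finset.mem_univ j), Finset.card_univ, Fintype.card_fin]; omega
    exact_mod_cast this
  have hnn : 0 ≤ v 0 * v 0 - v j.succ ^ 2 := by
    rw [← e2]; exact Finset.sum_nonneg (fun i _ => sq_nonneg _)
  rw [e1, e2] at cs'
  have h7 : (3 * v 0 - 2 - v j.succ) ^ 2 ≤ 7 * (v 0 * v 0 - v j.succ ^ 2) :=
    le_trans cs' (mul_le_mul_of_nonneg_right hc hnn)
  nlinarith [sq_nonneg (4 * v 0 - 12 - 6 * v j.succ),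
    mul_nonneg_of_nonpos_of_nonpos (show v j.succ + 1 ≤ 0 by omega)
      (show v j.succ - 5 ≤ 0 by omega)]

/-! ### counting -/

def Sol (k s q : ℕ) : Finset (Fin k → ℕ) :=
  (Fintype.piFinset (fun _ : Fin k => Finset.range (s + 1))).filter
    (fun b => ∑ i, b i = s ∧ ∑ i, b i * b i = q)

lemma mem_Sol {k s q : ℕ} (b : Fin k → ℕ) :
    b ∈ Sol k s q ↔ ∑ i, b i = s ∧ ∑ i, b i * b i = q := by
  unfold Sol
  rw [Finset.mem_filter, Fintype.mem_piFinset]
  constructor
  · exact fun h => h.2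
  · intro h
    refine ⟨fun i => ?_, h⟩
    rw [Finset.mem_range, Nat.lt_succ_iff, ← h.1]
    exact Finset.single_le_sum (fun j _ => Nat.zero_le (b j)) (Finset.mem_univ i)

lemma card_Sol_succ (k s q : ℕ) :
    (Sol (k + 1) s q).card =
      ∑ x ∈ Finset.range (s + 1),
        if x * x ≤ q then (Sol k (s - x) (q - x * x)).card else 0 := by
  have H : Set.MapsTo (fun b : Fin (k + 1) → ℕ => b 0) (Sol (k + 1) s q : Set _)
      (Finset.range (s + 1) : Set ℕ) := by
    intro b hb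
    rw [Finset.mem_coe, mem_Sol] at hb
    rw [Finset.mem_coe, Finset.mem_range, Nat.lt_succ_iff, ← hb.1]
    exact Finset.single_le_sum (fun j _ => Nat.zero_le (b j)) (Finset.mem_univ 0)
  rw [Finset.card_eq_sum_card_fiberwise H]
  refine Finset.sum_congr rfl (fun x hx => ?_)
  rw [Finset.mem_range, Nat.lt_succ_iff] at hx
  split_ifs with hxq
  · refine Finset.card_nbij' (fun b => Fin.tail b)
      (fun b' => (Fin.cons x b' : Fin (k + 1) → ℕ)) ?_ ?_ ?_ ?_
    · intro b hb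
      rw [Finset.mem_coe, Finset.mem_filter, mem_Sol] at hb
      obtain ⟨⟨hs, hq⟩, hb0⟩ := hb
      have hb0' : b 0 = x := hb0
      rw [Fin.sum_univ_succ] at hs hq
      rw [hb0'] at hs hq
      rw [Finset.mem_coe, mem_Sol]
      simp only [Fin.tail]
      constructor
      · omega
      · omega
    · intro b' hb'
      rw [Finset.mem_coe, mem_Sol] at hb'
      obtain ⟨hs, hq⟩ := hb'
      rw [Finset.mem_coe, Finset.mem_filter, mem_Sol]
      refine ⟨⟨?_, ?_⟩, ?_⟩
      · rw [Fin.sum_univ_succ]; simp only [Fin.cons_zero, Fin.cons_succ]; omega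
      · rw [Fin.sum_univ_succ]; simp only [Fin.cons_zero, Fin.cons_succ]; omega
      · simp
    · intro b hb
      rw [Finset.mem_coe, Finset.mem_filter] at hb
      have hb0 : b 0 = x := hb.2
      show (Fin.cons x (Fin.tail b) : Fin (k + 1) → ℕ) = b
      rw [← hb0]
      exact Fin.cons_self_tail b
    · intro b' _
      show Fin.tail (Fin.cons x b' : Fin (k + 1) → ℕ) = b'
      exact Fin.tail_cons _ _
  · rw [Finset.card_eq_zero, Finset.filter_eq_empty_iff]
    intro b hb hb0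
    rw [mem_Sol] at hb
    have hb0' : b 0 = x := hb0
    have this : b 0 * b 0 ≤ ∑ i, b i * b i :=
      Finset.single_le_sum (f := fun i => b i * b i) (fun j _ => Nat.zero_le _)
        (Finset.mem_univ (0 : Fin (k + 1)))
    rw [hb.2, hb0'] at this
    exact hxq this

def cnt : ℕ → ℕ → ℕ → ℕ
  | 0, s, q => if s = 0 ∧ q = 0 then 1 else 0
  | k + 1, s, q =>
    if s * s ≤ (k + 1) * q ∧ s ≤ q then
      ∑ x ∈ Finset.range (s + 1), if x * x ≤ q then cnt k (s - x) (q - x * x) else 0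
    else 0

lemma card_Sol (k : ℕ) : ∀ s q, (Sol k s q).card = cnt k s q := by
  induction k with
  | zero =>
    intro s q
    rw [cnt]
    split_ifs with h
    · obtain ⟨rfl, rfl⟩ := h
      rw [Finset.card_eq_one]
      refine ⟨fun i => i.elim0, ?_⟩
      ext b
      rw [mem_Sol, Finset.mem_singleton]
      constructor
      · intro _; exact Subsingleton.elim _ _
      · intro _; simp
    · rw [Finset.card_eq_zero]
      refine Finset.eq_empty_of_forall_notMem (fun b hb => ?_)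
      rw [mem_Sol] at hb
      simp at hb
      exact h ⟨hb.1.symm, hb.2.symm⟩
  | succ k ih =>
    intro s q
    rw [cnt]
    split_ifs with h
    · rw [card_Sol_succ]
      refine Finset.sum_congr rfl (fun x _ => ?_)
      rw [ih]
    · rw [Finset.card_eq_zero]
      refine Finset.eq_empty_of_forall_notMem (fun b hb => ?_)
      rw [mem_Sol] at hb
      apply h
      constructor
      · have := sq_sum_le_card_mul_sum_sq (s := (Finset.univ : Finset (Fin (k + 1)))) (f := b)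
        rw [Finset.card_univ, Fintype.card_fin] at this
        have e : ∑ i, b i ^ 2 = q := by
          rw [← hb.2]; exact Finset.sum_congr rfl (fun i _ => sq _)
        rw [hb.1, e, sq] at this
        exact_mod_cast this
      · rw [← hb.1, ← hb.2]
        exact Finset.sum_le_sum (fun i _ => Nat.le_mul_self (b i))

def toVec {δ : ℕ} (p : Σ _ : ℕ, (Fin δ → ℕ)) : DP δ :=
  Fin.cons (p.1 : ℤ) (fun i => (p.2 i : ℤ))

lemma toVec_zero {δ : ℕ} (p : Σ _ : ℕ, (Fin δ → ℕ)) : toVec p 0 = (p.1 : ℤ) := rfl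

lemma toVec_succ {δ : ℕ} (p : Σ _ : ℕ, (Fin δ → ℕ)) (i : Fin δ) :
    toVec p i.succ = (p.2 i : ℤ) := by
  simp [toVec]

lemma toVec_injective {δ : ℕ} : Function.Injective (toVec (δ := δ)) := by
  rintro ⟨a, b⟩ ⟨a', b'⟩ h
  have h0 : (a : ℤ) = a' := by
    have := congrFun h 0
    rwa [toVec_zero, toVec_zero] at this
  have h1 : ∀ i, (b i : ℤ) = b' i := fun i => by
    have := congrFun h i.succ
    rwa [toVec_succ, toVec_succ] at this
  have ha : a = a' := by exact_mod_cast h0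
  have hb : b = b' := funext (fun i => by exact_mod_cast h1 i)
  subst ha; subst hb; rfl

def T (δ : ℕ) : Finset (Σ _ : ℕ, (Fin δ → ℕ)) :=
  (Finset.Icc 1 11).sigma (fun a => Sol δ (3 * a - 2) (a * a))

lemma conic_eq_image (δ : ℕ) (hδ : δ ≤ 8) :
    {v : DP δ | IsConic v} = ↑((T δ).image toVec) := by
  ext v
  rw [Set.mem_ofPred_eq, Finset.mem_coe, Finset.mem_image]
  constructor
  · intro hv
    rw [isConic_iff] at hv
    obtain ⟨h1, h2⟩ := hv
    obtain ⟨ha1, ha11, hb⟩ := bounds hδ v h1 h2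
    have hA : ((v 0).toNat : ℤ) = v 0 := Int.toNat_of_nonneg (by omega)
    have hB : ∀ i : Fin δ, ((v i.succ).toNat : ℤ) = v i.succ :=
      fun i => Int.toNat_of_nonneg (hb i)
    refine ⟨⟨(v 0).toNat, fun i => (v i.succ).toNat⟩, ?_, ?_⟩
    · rw [T, Finset.mem_sigma, Finset.mem_Icc, mem_Sol]
      refine ⟨⟨show 1 ≤ (v 0).toNat by omega, show (v 0).toNat ≤ 11 by omega⟩, ?_, ?_⟩
      · have e : ((∑ i : Fin δ, (v i.succ).toNat : ℕ) : ℤ) = ∑ i : Fin δ, v i.succ := by
          rw [Nat.cast_sum]; exact Finset.sum_congr rfl (fun i _ => hB i)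
        show ∑ i : Fin δ, (v i.succ).toNat = 3 * (v 0).toNat - 2
        omega
      · show ∑ i : Fin δ, (v i.succ).toNat * (v i.succ).toNat = (v 0).toNat * (v 0).toNat
        apply Nat.cast_injective (R := ℤ)
        rw [Nat.cast_sum, Nat.cast_mul, hA, ← h1]
        exact Finset.sum_congr rfl (fun i _ => by rw [Nat.cast_mul, hB i])
    · funext j
      refine Fin.cases ?_ (fun i => ?_) j
      · exact hA
      · rw [toVec_succ]; exact hB i
  · rintro ⟨⟨a, b⟩, hp, rfl⟩
    rw [T, Finset.mem_sigma, Finset.mem_Icc, mem_Sol] at hp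
    dsimp only at hp
    obtain ⟨⟨ha1, ha11⟩, hs, hq⟩ := hp
    rw [isConic_iff]
    simp only [toVec_succ, toVec_zero]
    constructor
    · show ∑ i : Fin δ, (b i : ℤ) * (b i : ℤ) = (a : ℤ) * (a : ℤ)
      have : ((∑ i : Fin δ, b i * b i : ℕ) : ℤ) = ((a * a : ℕ) : ℤ) := by rw [hq]
      rw [Nat.cast_sum, Nat.cast_mul] at this
      rw [← this]
      exact Finset.sum_congr rfl (fun i _ => by rw [Nat.cast_mul])
    · show ∑ i : Fin δ, (b i : ℤ) = 3 * (a : ℤ) - 2
      have e : ((∑ i : Fin δ, b i : ℕ) : ℤ) = ∑ i : Fin δ, (b i : ℤ) := Nat.cast_sum _ _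
      rw [← e]
      omega

theorem count (δ : ℕ) (hδ : δ ≤ 8) :
    {v : DP δ | IsConic v}.ncard = ∑ a ∈ Finset.Icc 1 11, cnt δ (3 * a - 2) (a * a) := by
  rw [conic_eq_image δ hδ, Set.ncard_coe_finset,
    Finset.card_image_of_injective _ toVec_injective, T, Finset.card_sigma]
  exact Finset.sum_congr rfl (fun a _ => card_Sol δ _ _)

theorem main05 :
    {v : DP 8 | IsConic v}.ncard = 2160 ∧ {v : DP 7 | IsConic v}.ncard = 126 ∧
      {v : DP 6 | IsConic v}.ncard = 27 ∧ {v : DP 5 | IsConic v}.ncard = 10 ∧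
      {v : DP 4 | IsConic v}.ncard = 5 ∧ {v : DP 3 | IsConic v}.ncard = 3 ∧
      {v : DP 2 | IsConic v}.ncard = 2 := by
  refine ⟨?_, ?_, ?_, ?_, ?_, ?_, ?_⟩
  · rw [count 8 (by norm_num)]; decide +kernel
  · rw [count 7 (by norm_num)]; decide +kernel
  · rw [count 6 (by norm_num)]; decide +kernel
  · rw [count 5 (by norm_num)]; decide +kernel
  · rw [count 4 (by norm_num)]; decide +kernel
  · rw [count 3 (by norm_num)]; decide +kernel
  · rw [count 2 (by norm_num)]; decide +kernel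

end Groth.Agent.Lib.DPConic_lead
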