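import Mathlib
import Groth.Prelude.Def_W4c3severiratdpLat
import Groth.Agent.Lib.DPConic_lead

namespace Groth.Agent.Lib.DPConic2_lead
open W4c3severiratdp Groth.Agent.Lib.DPConic_lead

def Sfin : Finset (DP 8) :=
  {![1, 1, 0, 0, 0, 0, 0, 0, 0],
   ![2, 1, 1, 1, 1, 0, 0, 0, 0],
   ![3, 2, 1, 1, 1, 1, 1, 0, 0],
   ![4, 2, 2, 2, 1, 1, 1, 1, 0],
   ![4, 3, 1, 1, 1, 1, 1, 1, 1],
   ![5, 2, 2, 2, 2, 2, 2, 1, 0],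
   ![5, 3, 2, 2, 2, 1, 1, 1, 1],
   ![6, 3, 3, 2, 2, 2, 2, 1, 1],
   ![7, 3, 3, 3, 3, 2, 2, 2, 1],
   ![7, 4, 3, 2, 2, 2, 2, 2, 2],
   ![8, 4, 3, 3, 3, 3, 2, 2, 2],
   ![8, 3, 3, 3, 3, 3, 3, 3, 1],
   ![9, 4, 4, 3, 3, 3, 3, 3, 2],
   ![10, 4, 4, 4, 4, 3, 3, 3, 3],
   ![11, 4, 4, 4, 4, 4, 4, 4, 3]}

lemma hS : (↑Sfin : Set (DP 8)) =
    ({![1, 1, 0, 0, 0, 0, 0, 0, 0],
        ![2, 1, 1, 1, 1, 0, 0, 0, 0],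
        ![3, 2, 1, 1, 1, 1, 1, 0, 0],
        ![4, 2, 2, 2, 1, 1, 1, 1, 0],
        ![4, 3, 1, 1, 1, 1, 1, 1, 1],
        ![5, 2, 2, 2, 2, 2, 2, 1, 0],
        ![5, 3, 2, 2, 2, 1, 1, 1, 1],
        ![6, 3, 3, 2, 2, 2, 2, 1, 1],
        ![7, 3, 3, 3, 3, 2, 2, 2, 1],
        ![7, 4, 3, 2, 2, 2, 2, 2, 2],
        ![8, 4, 3, 3, 3, 3, 2, 2, 2],
        ![8, 3, 3, 3, 3, 3, 3, 3, 1],
        ![9, 4, 4, 3, 3, 3, 3, 3, 2],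
        ![10, 4, 4, 4, 4, 3, 3, 3, 3],
        ![11, 4, 4, 4, 4, 4, 4, 4, 3]} : Set (DP 8)) := by
  unfold Sfin
  simp only [Finset.coe_insert, Finset.coe_singleton]

lemma all_conic : ∀ t ∈ Sfin, IsConic t := by
  have : ∀ t ∈ Sfin, form t t = 0 ∧ form (canon 8) t = -2 := by decide +kernel
  exact this

def P8 (a c0 c1 c2 c3 c4 c5 c6 c7 : ℕ) : Prop :=
  (c0 + c1 + c2 + c3 + c4 + c5 + c6 + c7 + 2 = 3 * a ∧ c0 * c0 + c1 * c1 + c2 * c2 + c3 * c3 + c4 * c4 + c5 * c5 + c6 * c6 + c7 * c7 = a * a) →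
    ((![(a : ℤ), (c0 : ℤ), (c1 : ℤ), (c2 : ℤ), (c3 : ℤ), (c4 : ℤ), (c5 : ℤ), (c6 : ℤ), (c7 : ℤ)] : DP 8) ∈ Sfin)

instance (a c0 c1 c2 c3 c4 c5 c6 c7 : ℕ) : Decidable (P8 a c0 c1 c2 c3 c4 c5 c6 c7) := by
  unfold P8; infer_instance

def P7 (a c0 c1 c2 c3 c4 c5 c6 : ℕ) : Prop :=
  (c0 + c1 + c2 + c3 + c4 + c5 + c6 + 2 ≤ 3 * a ∧ c0 * c0 + c1 * c1 + c2 * c2 + c3 * c3 + c4 * c4 + c5 * c5 + c6 * c6 ≤ a * a ∧ 3 * a ≤ c0 + c1 + c2 + c3 + c4 + c5 + 2 * c6 + 2) →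
    ∀ c7 : ℕ, c7 < c6 + 1 → P8 a c0 c1 c2 c3 c4 c5 c6 c7

instance (a c0 c1 c2 c3 c4 c5 c6 : ℕ) : Decidable (P7 a c0 c1 c2 c3 c4 c5 c6) := by
  unfold P7; infer_instance

def P6 (a c0 c1 c2 c3 c4 c5 : ℕ) : Prop :=
  (c0 + c1 + c2 + c3 + c4 + c5 + 2 ≤ 3 * a ∧ c0 * c0 + c1 * c1 + c2 * c2 + c3 * c3 + c4 * c4 + c5 * c5 ≤ a * a ∧ 3 * a ≤ c0 + c1 + c2 + c3 + c4 + 3 * c5 + 2) →
    ∀ c6 : ℕ, c6 < c5 + 1 → P7 a c0 c1 c2 c3 c4 c5 c6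

instance (a c0 c1 c2 c3 c4 c5 : ℕ) : Decidable (P6 a c0 c1 c2 c3 c4 c5) := by
  unfold P6; infer_instance

def P5 (a c0 c1 c2 c3 c4 : ℕ) : Prop :=
  (c0 + c1 + c2 + c3 + c4 + 2 ≤ 3 * a ∧ c0 * c0 + c1 * c1 + c2 * c2 + c3 * c3 + c4 * c4 ≤ a * a ∧ 3 * a ≤ c0 + c1 + c2 + c3 + 4 * c4 + 2) →
    ∀ c5 : ℕ, c5 < c4 + 1 → P6 a c0 c1 c2 c3 c4 c5

instance (a c0 c1 c2 c3 c4 : ℕ) : Decidable (P5 a c0 c1 c2 c3 c4) := by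
  unfold P5; infer_instance

def P4 (a c0 c1 c2 c3 : ℕ) : Prop :=
  (c0 + c1 + c2 + c3 + 2 ≤ 3 * a ∧ c0 * c0 + c1 * c1 + c2 * c2 + c3 * c3 ≤ a * a ∧ 3 * a ≤ c0 + c1 + c2 + 5 * c3 + 2) →
    ∀ c4 : ℕ, c4 < c3 + 1 → P5 a c0 c1 c2 c3 c4

instance (a c0 c1 c2 c3 : ℕ) : Decidable (P4 a c0 c1 c2 c3) := by
  unfold P4; infer_instance

def P3 (a c0 c1 c2 : ℕ) : Prop :=
  (c0 + c1 + c2 + 2 ≤ 3 * a ∧ c0 * c0 + c1 * c1 + c2 * c2 ≤ a * a ∧ 3 * a ≤ c0 + c1 + 6 * c2 + 2) →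
    ∀ c3 : ℕ, c3 < c2 + 1 → P4 a c0 c1 c2 c3

instance (a c0 c1 c2 : ℕ) : Decidable (P3 a c0 c1 c2) := by
  unfold P3; infer_instance

def P2 (a c0 c1 : ℕ) : Prop :=
  (c0 + c1 + 2 ≤ 3 * a ∧ c0 * c0 + c1 * c1 ≤ a * a ∧ 3 * a ≤ c0 + 7 * c1 + 2) →
    ∀ c2 : ℕ, c2 < c1 + 1 → P3 a c0 c1 c2

instance (a c0 c1 : ℕ) : Decidable (P2 a c0 c1) := by
  unfold P2; infer_instance

def P1 (a c0 : ℕ) : Prop :=
  (c0 + 2 ≤ 3 * a ∧ c0 * c0 ≤ a * a ∧ 3 * a ≤ 8 * c0 + 2) →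
    ∀ c1 : ℕ, c1 < c0 + 1 → P2 a c0 c1

instance (a c0 : ℕ) : Decidable (P1 a c0) := by
  unfold P1; infer_instance

def P0 : Prop := ∀ a : ℕ, a < 12 → ∀ c0 : ℕ, c0 < 12 → P1 a c0

instance : Decidable P0 := by
  unfold P0; infer_instance

theorem key : P0 := by
  decide +kernel

lemma use_key (a c0 c1 c2 c3 c4 c5 c6 c7 : ℕ)
    (h10 : c1 ≤ c0) (h21 : c2 ≤ c1) (h32 : c3 ≤ c2) (h43 : c4 ≤ c3) (h54 : c5 ≤ c4)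
    (h65 : c6 ≤ c5) (h76 : c7 ≤ c6)
    (hs : c0 + c1 + c2 + c3 + c4 + c5 + c6 + c7 + 2 = 3 * a)
    (hq : c0 * c0 + c1 * c1 + c2 * c2 + c3 * c3 + c4 * c4 + c5 * c5 + c6 * c6 + c7 * c7 = a * a)
    (ha : a < 12) :
    (![(a : ℤ), (c0 : ℤ), (c1 : ℤ), (c2 : ℤ), (c3 : ℤ), (c4 : ℤ), (c5 : ℤ), (c6 : ℤ),
      (c7 : ℤ)] : DP 8) ∈ Sfin := by
  have n0 := Nat.zero_le (c0 * c0)
  have n1 := Nat.zero_le (c1 * c1)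
  have n2 := Nat.zero_le (c2 * c2)
  have n3 := Nat.zero_le (c3 * c3)
  have n4 := Nat.zero_le (c4 * c4)
  have n5 := Nat.zero_le (c5 * c5)
  have n6 := Nat.zero_le (c6 * c6)
  have n7 := Nat.zero_le (c7 * c7)
  have hc0a : c0 * c0 ≤ a * a := by omega
  have hc0 : c0 < 12 := by
    have := Nat.mul_self_le_mul_self_iff.mp hc0a
    omega
  exact key a ha c0 hc0 ⟨by omega, by omega, by omega⟩ c1 (by omega)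
    ⟨by omega, by omega, by omega⟩ c2 (by omega) ⟨by omega, by omega, by omega⟩
    c3 (by omega) ⟨by omega, by omega, by omega⟩ c4 (by omega) ⟨by omega, by omega, by omega⟩
    c5 (by omega) ⟨by omega, by omega, by omega⟩ c6 (by omega) ⟨by omega, by omega, by omega⟩
    c7 (by omega) ⟨hs, hq⟩

lemma conic_perm (v t : DP 8) (σ : Equiv.Perm (Fin 8)) (h0 : v 0 = t 0)
    (h : ∀ i, v (σ i).succ = t i.succ) (ht : IsConic t) : IsConic v := by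
  rw [isConic_iff] at ht ⊢
  have e1 : ∑ i : Fin 8, v i.succ * v i.succ = ∑ i : Fin 8, t i.succ * t i.succ := by
    rw [← Equiv.sum_comp σ (fun i => v i.succ * v i.succ)]
    exact Finset.sum_congr rfl (fun i _ => by rw [h i])
  have e2 : ∑ i : Fin 8, v i.succ = ∑ i : Fin 8, t i.succ := by
    rw [← Equiv.sum_comp σ (fun i => v i.succ)]
    exact Finset.sum_congr rfl (fun i _ => by rw [h i])
  rw [e1, e2, h0]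
  exact ht

theorem conic_types_mp (v : DP 8) (hv : IsConic v) :
    ∃ t ∈ (↑Sfin : Set (DP 8)), ∃ σ : Equiv.Perm (Fin 8),
      v 0 = t 0 ∧ ∀ i : Fin 8, v (σ i).succ = t i.succ := by
  rw [isConic_iff] at hv
  obtain ⟨h1, h2⟩ := hv
  obtain ⟨ha1, ha11, hb⟩ := bounds (le_refl 8) v h1 h2
  obtain ⟨σ, hσ⟩ : ∃ σ : Equiv.Perm (Fin 8),
      σ = Tuple.sort (fun i : Fin 8 => - v i.succ) := ⟨_, rfl⟩
  have hmono : ∀ i j : Fin 8, i ≤ j → v (σ j).succ ≤ v (σ i).succ := by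
    intro i j hij
    have := Tuple.monotone_sort (fun i : Fin 8 => - v i.succ) hij
    rw [← hσ] at this
    simp only [Function.comp_apply] at this
    linarith
  have e1 : ∑ i : Fin 8, v (σ i).succ * v (σ i).succ = v 0 * v 0 := by
    rw [Equiv.sum_comp σ (fun i => v i.succ * v i.succ)]; exact h1
  have e2 : ∑ i : Fin 8, v (σ i).succ = 3 * v 0 - 2 := by
    rw [Equiv.sum_comp σ (fun i => v i.succ)]; exact h2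
  rw [Fin.sum_univ_eight] at e1 e2
  obtain ⟨a, hA⟩ : ∃ a : ℕ, (a : ℤ) = v 0 := ⟨(v 0).toNat, Int.toNat_of_nonneg (by omega)⟩
  have hc : ∀ i : Fin 8, ∃ c : ℕ, (c : ℤ) = v (σ i).succ :=
    fun i => ⟨_, Int.toNat_of_nonneg (hb _)⟩
  obtain ⟨c0, hc0⟩ := hc 0
  obtain ⟨c1, hc1⟩ := hc 1
  obtain ⟨c2, hc2⟩ := hc 2
  obtain ⟨c3, hc3⟩ := hc 3
  obtain ⟨c4, hc4⟩ := hc 4
  obtain ⟨c5, hc5⟩ := hc 5
  obtain ⟨c6, hc6⟩ := hc 6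
  obtain ⟨c7, hc7⟩ := hc 7
  have m10 := hmono 0 1 (by decide)
  have m21 := hmono 1 2 (by decide)
  have m32 := hmono 2 3 (by decide)
  have m43 := hmono 3 4 (by decide)
  have m54 := hmono 4 5 (by decide)
  have m65 := hmono 5 6 (by decide)
  have m76 := hmono 6 7 (by decide)
  rw [← hc0, ← hc1, ← hc2, ← hc3, ← hc4, ← hc5, ← hc6, ← hc7, ← hA] at e1 e2
  rw [← hc0, ← hc1] at m10
  rw [← hc1, ← hc2] at m21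
  rw [← hc2, ← hc3] at m32
  rw [← hc3, ← hc4] at m43
  rw [← hc4, ← hc5] at m54
  rw [← hc5, ← hc6] at m65
  rw [← hc6, ← hc7] at m76
  have hs : c0 + c1 + c2 + c3 + c4 + c5 + c6 + c7 + 2 = 3 * a := by omega
  have hq : c0 * c0 + c1 * c1 + c2 * c2 + c3 * c3 + c4 * c4 + c5 * c5 + c6 * c6 + c7 * c7
      = a * a := by exact_mod_cast e1
  have hmem := use_key a c0 c1 c2 c3 c4 c5 c6 c7 (by omega) (by omega) (by omega) (by omega)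
    (by omega) (by omega) (by omega) hs hq (by omega)
  refine ⟨![(a : ℤ), (c0 : ℤ), (c1 : ℤ), (c2 : ℤ), (c3 : ℤ), (c4 : ℤ), (c5 : ℤ), (c6 : ℤ),
      (c7 : ℤ)], Finset.mem_coe.mpr hmem, σ, ?_, ?_⟩
  · rw [← hA]; rfl
  · intro i
    fin_cases i
    · exact hc0.symm
    · exact hc1.symm
    · exact hc2.symm
    · exact hc3.symm
    · exact hc4.symm
    · exact hc5.symm
    · exact hc6.symm
    · exact hc7.symm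

theorem main06 (v : DP 8) :
    IsConic v ↔
      ∃ t ∈ ({![1, 1, 0, 0, 0, 0, 0, 0, 0],
        ![2, 1, 1, 1, 1, 0, 0, 0, 0],
        ![3, 2, 1, 1, 1, 1, 1, 0, 0],
        ![4, 2, 2, 2, 1, 1, 1, 1, 0],
        ![4, 3, 1, 1, 1, 1, 1, 1, 1],
        ![5, 2, 2, 2, 2, 2, 2, 1, 0],
        ![5, 3, 2, 2, 2, 1, 1, 1, 1],
        ![6, 3, 3, 2, 2, 2, 2, 1, 1],
        ![7, 3, 3, 3, 3, 2, 2, 2, 1],
        ![7, 4, 3, 2, 2, 2, 2, 2, 2],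
        ![8, 4, 3, 3, 3, 3, 2, 2, 2],
        ![8, 3, 3, 3, 3, 3, 3, 3, 1],
        ![9, 4, 4, 3, 3, 3, 3, 3, 2],
        ![10, 4, 4, 4, 4, 3, 3, 3, 3],
        ![11, 4, 4, 4, 4, 4, 4, 4, 3]} : Set (DP 8)),
        ∃ σ : Equiv.Perm (Fin 8), v 0 = t 0 ∧ ∀ i : Fin 8, v (σ i).succ = t i.succ := by
  rw [← hS]
  constructor
  · exact conic_types_mp v
  · rintro ⟨t, ht, σ, h0, h⟩
    exact conic_perm v t σ h0 h (all_conic t (Finset.mem_coe.mp ht))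

end Groth.Agent.Lib.DPConic2_lead
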