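import Mathlib

/-!
# Divided power envelope (existence), helper1

Construction: let `Dat` be the (large) type of all test data `(C, K, δ, ψ)`.  The product
`P = ∏_X X.C` carries the product divided power structure on `∏ K`.  The image of the term algebra
(generated by `B`, ring operations and formal divided powers) in `P` is a small subring stable
under the divided powers; shrinking it to `Type u` gives the envelope.
-/

namespace Groth.Agent.Lib.DPEnvH1

universe u

open Finset

/-! ### Product of divided power structures -/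
section Pi
variable {ι : Type*} {C : ι → Type*} [∀ i, CommRing (C i)] {K : ∀ i, Ideal (C i)}

open Classical in
/-- Product divided power structure on `∏ K i ⊆ ∏ C i`. -/
noncomputable def piDP (δ : ∀ i, DividedPowers (K i)) : DividedPowers (Ideal.pi K) where
  dpow n f := if f ∈ Ideal.pi K then fun i => (δ i).dpow n (f i) else 0
  dpow_null hx := if_neg hx
  dpow_zero := @fun x hx => by
    rw [if_pos hx]; funext i; exact (δ i).dpow_zero (hx i)
  dpow_one := @fun x hx => by
    rw [if_pos hx]; funext i; exact (δ i).dpow_one (hx i)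
  dpow_mem := @fun n x hn hx => by
    rw [if_pos hx]; intro i; exact (δ i).dpow_mem hn (hx i)
  dpow_add := @fun n x y hx hy => by
    rw [if_pos (add_mem hx hy)]
    funext i
    rw [Finset.sum_apply]
    simp only [if_pos hx, if_pos hy, Pi.mul_apply, Pi.add_apply]
    exact (δ i).dpow_add (hx i) (hy i)
  dpow_mul := @fun n a x hx => by
    rw [if_pos (Ideal.mul_mem_left _ a hx), if_pos hx]
    funext i
    simp only [Pi.mul_apply, Pi.pow_apply]
    exact (δ i).dpow_mul (hx i)
  mul_dpow := @fun m n x hx => by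
    simp only [if_pos hx]
    funext i
    simp only [Pi.mul_apply, Pi.natCast_apply]
    exact (δ i).mul_dpow (hx i)
  dpow_comp := @fun m n x hn hx => by
    have h2 : (fun i => (δ i).dpow n (x i)) ∈ Ideal.pi K := fun i => (δ i).dpow_mem hn (hx i)
    simp only [if_pos hx, if_pos h2]
    funext i
    simp only [Pi.mul_apply, Pi.natCast_apply]
    exact (δ i).dpow_comp hn (hx i)

theorem piDP_dpow_of_mem (δ : ∀ i, DividedPowers (K i)) {f : ∀ i, C i} (hf : f ∈ Ideal.pi K)
    (n : ℕ) : (piDP δ).dpow n f = fun i => (δ i).dpow n (f i) := if_pos hf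

end Pi

/-! ### Pulling back divided powers along an injective ring map with stable range -/
section Pullback
variable {D P : Type*} [CommRing D] [CommRing P] {KP : Ideal P}

/-- auxiliary: the pulled back divided power function -/
noncomputable def pbFun (δ : DividedPowers KP) (ι : D →+* P)
    (hcl : ∀ n x, δ.dpow n (ι x) ∈ Set.range ι) (n : ℕ) (x : D) : D :=
  Classical.choose (hcl n x)

theorem pbFun_spec (δ : DividedPowers KP) (ι : D →+* P)
    (hcl : ∀ n x, δ.dpow n (ι x) ∈ Set.range ι) (n : ℕ) (x : D) :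
    ι (pbFun δ ι hcl n x) = δ.dpow n (ι x) :=
  Classical.choose_spec (hcl n x)

/-- Divided powers on `KP.comap ι` for an injective `ι` whose range is stable under `dpow`. -/
noncomputable def pullbackDP (δ : DividedPowers KP) (ι : D →+* P) (hι : Function.Injective ι)
    (hcl : ∀ n x, δ.dpow n (ι x) ∈ Set.range ι) : DividedPowers (KP.comap ι) where
  dpow := pbFun δ ι hcl
  dpow_null := @fun n x hx => hι (by
    rw [pbFun_spec, map_zero]
    exact δ.dpow_null (fun h => hx (Ideal.mem_comap.mpr h)))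
  dpow_zero := @fun x hx => hι (by
    rw [pbFun_spec, map_one]; exact δ.dpow_zero (Ideal.mem_comap.mp hx))
  dpow_one := @fun x hx => hι (by
    rw [pbFun_spec]; exact δ.dpow_one (Ideal.mem_comap.mp hx))
  dpow_mem := @fun n x hn hx => Ideal.mem_comap.mpr (by
    rw [pbFun_spec]; exact δ.dpow_mem hn (Ideal.mem_comap.mp hx))
  dpow_add := @fun n x y hx hy => hι (by
    rw [pbFun_spec, map_add, map_sum]
    simp only [map_mul, pbFun_spec]
    exact δ.dpow_add (Ideal.mem_comap.mp hx) (Ideal.mem_comap.mp hy))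
  dpow_mul := @fun n a x hx => hι (by
    rw [pbFun_spec, map_mul, map_mul, map_pow, pbFun_spec]
    exact δ.dpow_mul (Ideal.mem_comap.mp hx))
  mul_dpow := @fun m n x hx => hι (by
    rw [map_mul, pbFun_spec, pbFun_spec, map_mul, map_natCast, pbFun_spec]
    exact δ.mul_dpow (Ideal.mem_comap.mp hx))
  dpow_comp := @fun m n x hn hx => hι (by
    rw [pbFun_spec, pbFun_spec, map_mul, map_natCast, pbFun_spec]
    exact δ.dpow_comp hn (Ideal.mem_comap.mp hx))

theorem pullbackDP_spec (δ : DividedPowers KP) (ι : D →+* P) (hι : Function.Injective ι)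
    (hcl : ∀ n x, δ.dpow n (ι x) ∈ Set.range ι) (n : ℕ) (x : D) :
    ι ((pullbackDP δ ι hι hcl).dpow n x) = δ.dpow n (ι x) :=
  pbFun_spec δ ι hcl n x

end Pullback

/-! ### The envelope -/
section Env
variable {A B : Type u} [CommRing A] [CommRing B] [Algebra A B] {I : Ideal A}
  (γ : DividedPowers I) (J : Ideal B)

/-- Test data for the universal property. -/
structure Dat : Type (u + 1) where
  C : Type u
  [ring : CommRing C]
  [alg : Algebra A C]
  K : Ideal C
  δ : DividedPowers K
  hA : γ.IsDPMorphism δ (algebraMap A C)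
  ψ : B →ₐ[A] C
  hJ : J.map ψ ≤ K

attribute [instance] Dat.ring Dat.alg

/-- Formal terms. -/
inductive Tm (B : Type u) : Type u
  | of : B → Tm B
  | add : Tm B → Tm B → Tm B
  | mul : Tm B → Tm B → Tm B
  | neg : Tm B → Tm B
  | dp : ℕ → Tm B → Tm B

/-- The big product ring. -/
abbrev PP := ∀ X : Dat γ J, X.C

/-- The product ideal. -/
abbrev KP : Ideal (PP γ J) := Ideal.pi (fun X : Dat γ J => X.K)

/-- The product divided powers. -/
noncomputable def δP : DividedPowers (KP γ J) := piDP (fun X : Dat γ J => X.δ)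

theorem δP_apply {f : PP γ J} (hf : f ∈ KP γ J) (n : ℕ) (X : Dat γ J) :
    (δP γ J).dpow n f X = X.δ.dpow n (f X) := by
  have := piDP_dpow_of_mem (fun X : Dat γ J => X.δ) hf n
  exact congrFun this X

/-- Evaluation of terms. -/
noncomputable def ev : Tm B → PP γ J
  | .of b => fun X => X.ψ b
  | .add s t => ev s + ev t
  | .mul s t => ev s * ev t
  | .neg t => - ev t
  | .dp n t => (δP γ J).dpow n (ev t)

/-- The generated subring. -/
noncomputable def S : Subring (PP γ J) where
  carrier := Set.range (ev γ J)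
  mul_mem' := by rintro _ _ ⟨s, rfl⟩ ⟨t, rfl⟩; exact ⟨.mul s t, rfl⟩
  one_mem' := ⟨.of 1, by funext X; simp [ev]⟩
  add_mem' := by rintro _ _ ⟨s, rfl⟩ ⟨t, rfl⟩; exact ⟨.add s t, rfl⟩
  zero_mem' := ⟨.of 0, by funext X; simp [ev]⟩
  neg_mem' := by rintro _ ⟨t, rfl⟩; exact ⟨.neg t, rfl⟩

instance : Small.{u} (S γ J) :=
  small_of_surjective (f := fun t : Tm B => (⟨ev γ J t, ⟨t, rfl⟩⟩ : S γ J))
    (by rintro ⟨_, t, rfl⟩; exact ⟨t, rfl⟩)

/-- The envelope ring. -/
abbrev D := Shrink.{u} (S γ J)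

/-- The embedding of the envelope into the big product. -/
noncomputable def ι : D γ J →+* PP γ J :=
  (S γ J).subtype.comp (Shrink.ringEquiv (S γ J)).toRingHom

theorem ι_injective : Function.Injective (ι γ J) := by
  intro x y h
  exact (Shrink.ringEquiv (S γ J)).injective (Subtype.ext h)

theorem exists_ev (x : D γ J) : ∃ t, ev γ J t = ι γ J x :=
  (Shrink.ringEquiv (S γ J) x).2

theorem exists_of_ev (t : Tm B) : ∃ x : D γ J, ι γ J x = ev γ J t :=
  ⟨(Shrink.ringEquiv (S γ J)).symm ⟨ev γ J t, ⟨t, rfl⟩⟩, by simp [ι]⟩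

theorem hcl (n : ℕ) (x : D γ J) : (δP γ J).dpow n (ι γ J x) ∈ Set.range (ι γ J) := by
  obtain ⟨t, ht⟩ := exists_ev γ J x
  obtain ⟨y, hy⟩ := exists_of_ev γ J (.dp n t)
  exact ⟨y, by rw [hy, ← ht]; rfl⟩

/-- The divided power ideal of the envelope. -/
noncomputable def JD : Ideal (D γ J) := (KP γ J).comap (ι γ J)

/-- The divided powers of the envelope. -/
noncomputable def γD : DividedPowers (JD γ J) :=
  pullbackDP (δP γ J) (ι γ J) (ι_injective γ J) (hcl γ J)

theorem ι_dpow (n : ℕ) (x : D γ J) :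
    ι γ J ((γD γ J).dpow n x) = (δP γ J).dpow n (ι γ J x) :=
  pullbackDP_spec _ _ _ _ n x

/-- The map from `B` to the big product. -/
noncomputable def φP : B →+* PP γ J := RingHom.pi (fun X : Dat γ J => (X.ψ : B →+* X.C))

theorem φP_mem (b : B) : φP γ J b ∈ S γ J := ⟨.of b, rfl⟩

/-- The structure map of the envelope. -/
noncomputable def β : B →+* D γ J :=
  (Shrink.ringEquiv (S γ J)).symm.toRingHom.comp ((φP γ J).codRestrict (S γ J) (φP_mem γ J))

theorem ι_β (b : B) (X : Dat γ J) : ι γ J (β γ J b) X = X.ψ b := by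
  simp [ι, β, φP]

theorem map_le_JD : J.map (β γ J) ≤ JD γ J := by
  rw [Ideal.map_le_iff_le_comap]
  intro b hb
  show ι γ J (β γ J b) ∈ KP γ J
  refine (Ideal.mem_pi _ _).mpr fun X => ?_
  rw [ι_β]
  exact X.hJ (Ideal.mem_map_of_mem _ hb)

theorem dpA : γ.IsDPMorphism (γD γ J) ((β γ J).comp (algebraMap A B)) := by
  have hmem : ∀ a ∈ I, ι γ J (β γ J (algebraMap A B a)) ∈ KP γ J := by
    intro a ha
    refine (Ideal.mem_pi _ _).mpr fun X => ?_
    rw [ι_β, AlgHom.commutes]
    exact X.hA.ideal_comp (Ideal.mem_map_of_mem _ ha)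
  refine ⟨?_, ?_⟩
  · rw [Ideal.map_le_iff_le_comap]
    intro a ha
    exact hmem a ha
  · intro n a ha
    apply ι_injective γ J
    rw [ι_dpow]
    funext X
    rw [RingHom.comp_apply, RingHom.comp_apply, δP_apply γ J (hmem a ha), ι_β, ι_β,
      AlgHom.commutes, AlgHom.commutes]
    exact X.hA.dpow_comp a ha

/-- The induced map to a test datum. -/
noncomputable def χ (X : Dat γ J) : D γ J →+* X.C :=
  (Pi.evalRingHom (fun X : Dat γ J => X.C) X).comp (ι γ J)

theorem χ_apply (X : Dat γ J) (x : D γ J) : χ γ J X x = ι γ J x X := rfl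

theorem χ_comp (X : Dat γ J) : (χ γ J X).comp (β γ J) = (X.ψ : B →+* X.C) := by
  ext b; exact ι_β γ J b X

theorem χ_dp (X : Dat γ J) : (γD γ J).IsDPMorphism X.δ (χ γ J X) := by
  refine ⟨?_, ?_⟩
  · rw [Ideal.map_le_iff_le_comap]
    intro x hx
    have h2 : ι γ J x ∈ KP γ J := hx
    exact (Ideal.mem_pi _ _).mp h2 X
  · intro n x hx
    have h2 : ι γ J x ∈ KP γ J := hx
    rw [χ_apply, χ_apply, ι_dpow, δP_apply γ J h2]

theorem χ_unique (X : Dat γ J) (χ' : D γ J →+* X.C)
    (h1 : χ'.comp (β γ J) = (X.ψ : B →+* X.C))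
    (h2 : (γD γ J).IsDPMorphism X.δ χ') : χ' = χ γ J X := by
  have key : ∀ (t : Tm B) (x : D γ J), ι γ J x = ev γ J t → χ' x = ev γ J t X := by
    intro t
    induction t with
    | of b =>
      intro x hx
      have hxb : x = β γ J b :=
        ι_injective γ J (hx.trans (by funext Y; exact (ι_β γ J b Y).symm))
      rw [hxb]
      exact RingHom.congr_fun h1 b
    | add s t ihs iht =>
      intro x hx
      obtain ⟨xs, hxs⟩ := exists_of_ev γ J s
      obtain ⟨xt, hxt⟩ := exists_of_ev γ J t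
      have hxe : x = xs + xt := ι_injective γ J (by rw [hx, map_add, hxs, hxt]; rfl)
      rw [hxe, map_add, ihs xs hxs, iht xt hxt]; rfl
    | mul s t ihs iht =>
      intro x hx
      obtain ⟨xs, hxs⟩ := exists_of_ev γ J s
      obtain ⟨xt, hxt⟩ := exists_of_ev γ J t
      have hxe : x = xs * xt := ι_injective γ J (by rw [hx, map_mul, hxs, hxt]; rfl)
      rw [hxe, map_mul, ihs xs hxs, iht xt hxt]; rfl
    | neg t iht =>
      intro x hx
      obtain ⟨xt, hxt⟩ := exists_of_ev γ J t
      have hxe : x = -xt := ι_injective γ J (by rw [hx, map_neg, hxt]; rfl)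
      rw [hxe, map_neg, iht xt hxt]; rfl
    | dp n t iht =>
      intro x hx
      obtain ⟨xt, hxt⟩ := exists_of_ev γ J t
      have hxe : x = (γD γ J).dpow n xt :=
        ι_injective γ J (by rw [hx, ι_dpow, hxt]; rfl)
      by_cases hmem : xt ∈ JD γ J
      · have hK : ev γ J t ∈ KP γ J := by rw [← hxt]; exact hmem
        rw [hxe, ← h2.dpow_comp xt hmem, iht xt hxt]
        show _ = (δP γ J).dpow n (ev γ J t) X
        rw [δP_apply γ J hK]
      · have hK : ev γ J t ∉ KP γ J := fun h => hmem (by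
          show ι γ J xt ∈ KP γ J
          rw [hxt]; exact h)
        rw [hxe, (γD γ J).dpow_null hmem, map_zero]
        show 0 = (δP γ J).dpow n (ev γ J t) X
        rw [(δP γ J).dpow_null hK]; rfl
  ext x
  obtain ⟨t, ht⟩ := exists_ev γ J x
  rw [key t x ht.symm, χ_apply, ← ht]

theorem univ (X : Dat γ J) :
    ∃! χ' : D γ J →+* X.C, χ'.comp (β γ J) = (X.ψ : B →+* X.C) ∧
      (γD γ J).IsDPMorphism X.δ χ' :=
  ⟨χ γ J X, ⟨χ_comp γ J X, χ_dp γ J X⟩, fun χ' h => χ_unique γ J X χ' h.1 h.2⟩

theorem main2194 :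
    ∃ (D : Type u) (_ : CommRing D) (_ : Algebra B D) (JD : Ideal D) (γD : DividedPowers JD),
      J.map (algebraMap B D) ≤ JD ∧
      γ.IsDPMorphism γD ((algebraMap B D).comp (algebraMap A B)) ∧
      ∀ (C : Type u) [CommRing C] [Algebra A C] (K : Ideal C) (δ : DividedPowers K),
        γ.IsDPMorphism δ (algebraMap A C) →
        ∀ ψ : B →ₐ[A] C, J.map ψ ≤ K →
          ∃! χ : D →+* C, χ.comp (algebraMap B D) = ψ ∧ γD.IsDPMorphism δ χ := by
  refine ⟨D γ J, inferInstance, (β γ J).toAlgebra, JD γ J, γD γ J, map_le_JD γ J, dpA γ J, ?_⟩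
  intro C _ _ K δ hA ψ hJ
  exact univ γ J ⟨C, K, δ, hA, ψ, hJ⟩

end Env

end Groth.Agent.Lib.DPEnvH1
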