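import Groth.Agent.Lib.DPGen_helper1
import Mathlib.RingTheory.PowerSeries.Basic
import Mathlib.RingTheory.DividedPowers.DPMorphism
import Mathlib.RingTheory.Flat.Basic

/-!
# Extension of divided powers to a flat algebra (S2193)

For `(A, I, γ)` and a flat `A`-algebra `B`, the exponential series
`b ⊗ x ↦ ∑ b^n γ_n(x) T^n` defines an additive-to-multiplicative map `B ⊗[A] I → B⟦T⟧`;
as `B ⊗[A] I ≃ I B` by flatness, its coefficients give maps `δ_n` on `I B`, which form a
divided power structure by `DPGen_helper1`.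
-/

set_option autoImplicit false
set_option maxHeartbeats 1000000

universe u v

namespace Groth.Agent.Lib.DPFlatH1

open Groth.Agent.Lib.DPGenH1
open scoped TensorProduct

section

variable {A : Type u} {B : Type v} [CommRing A] [CommRing B] [Algebra A B] {I : Ideal A}
  (γ : DividedPowers I)

/-- the exponential of a pure tensor -/
noncomputable def ex (b : B) (x : A) : PowerSeries B :=
  PowerSeries.mk fun n => b ^ n * algebraMap A B (γ.dpow n x)

theorem coeff_ex (b : B) (x : A) (n : ℕ) :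
    PowerSeries.coeff n (ex γ b x) = b ^ n * algebraMap A B (γ.dpow n x) :=
  PowerSeries.coeff_mk n _

theorem ex_add_right (b : B) {x x' : A} (hx : x ∈ I) (hx' : x' ∈ I) :
    ex γ b (x + x') = ex γ b x * ex γ b x' := by
  ext n
  rw [PowerSeries.coeff_mul, coeff_ex, γ.dpow_add hx hx', map_sum, Finset.mul_sum]
  apply Finset.sum_congr rfl
  intro k hk
  rw [Finset.mem_antidiagonal] at hk
  rw [coeff_ex, coeff_ex, map_mul, ← hk, pow_add]
  ring

theorem ex_add_left (b b' : B) {x : A} (hx : x ∈ I) :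
    ex γ (b + b') x = ex γ b x * ex γ b' x := by
  ext n
  rw [PowerSeries.coeff_mul, coeff_ex, (Commute.all b b').add_pow', Finset.sum_mul]
  apply Finset.sum_congr rfl
  intro k hk
  rw [Finset.mem_antidiagonal] at hk
  rw [coeff_ex, coeff_ex]
  have h1 : algebraMap A B (γ.dpow k.1 x) * algebraMap A B (γ.dpow k.2 x)
      = (n.choose k.1 : B) * algebraMap A B (γ.dpow n x) := by
    rw [← map_mul, γ.mul_dpow hx, map_mul, map_natCast, hk]
  rw [nsmul_eq_mul]
  calc (n.choose k.1 : B) * (b ^ k.1 * b' ^ k.2) * algebraMap A B (γ.dpow n x)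
      = b ^ k.1 * b' ^ k.2 * ((n.choose k.1 : B) * algebraMap A B (γ.dpow n x)) := by ring
    _ = _ := by rw [← h1]; ring

theorem ex_smul (a : A) (b : B) {x : A} (hx : x ∈ I) : ex γ (a • b) x = ex γ b (a * x) := by
  ext n
  rw [coeff_ex, coeff_ex, γ.dpow_mul hx, map_mul, map_pow, Algebra.smul_def, mul_pow]
  ring

theorem ex_zero_right (b : B) : ex γ b 0 = 1 := by
  ext n
  rw [coeff_ex, PowerSeries.coeff_one]
  by_cases hn : n = 0
  · subst hn; rw [γ.dpow_zero I.zero_mem, if_pos rfl, pow_zero, map_one, one_mul]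
  · rw [γ.dpow_eval_zero hn, if_neg hn, map_zero, mul_zero]

theorem ex_zero_left {x : A} (hx : x ∈ I) : ex γ (0 : B) x = 1 := by
  ext n
  rw [coeff_ex, PowerSeries.coeff_one]
  by_cases hn : n = 0
  · subst hn; rw [γ.dpow_zero hx, if_pos rfl, pow_zero, map_one, one_mul]
  · rw [zero_pow hn, if_neg hn, zero_mul]

/-- the exponential, as a biadditive map into the multiplicative monoid of power series -/
noncomputable def exHom : B →+ ↥I →+ Additive (PowerSeries B) where
  toFun b :=
    { toFun := fun x => Additive.ofMul (ex γ b (x : A))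
      map_zero' := by
        show Additive.ofMul (ex γ b ((0 : ↥I) : A)) = 0
        rw [Submodule.coe_zero, ex_zero_right]; rfl
      map_add' := fun x x' => by
        show Additive.ofMul (ex γ b ((x + x' : ↥I) : A)) = Additive.ofMul _ + Additive.ofMul _
        rw [Submodule.coe_add, ex_add_right γ b x.2 x'.2]; rfl }
  map_zero' := by
    apply AddMonoidHom.ext
    intro x
    show Additive.ofMul (ex γ (0 : B) (x : A)) = 0
    rw [ex_zero_left γ x.2]; rfl
  map_add' := fun b b' => by
    apply AddMonoidHom.ext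
    intro x
    show Additive.ofMul (ex γ (b + b') (x : A)) = Additive.ofMul _ + Additive.ofMul _
    rw [ex_add_left γ b b' x.2]; rfl

/-- the exponential on the tensor product -/
noncomputable def EE : B ⊗[A] ↥I →+ Additive (PowerSeries B) :=
  TensorProduct.liftAddHom (exHom γ) (fun r m n => by
    show Additive.ofMul (ex γ (r • m) (n : A)) = Additive.ofMul (ex γ m ((r • n : ↥I) : A))
    rw [Submodule.coe_smul, smul_eq_mul, ex_smul γ r m n.2])

/-- the exponential series of an element of the tensor product -/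
noncomputable def Ez (z : B ⊗[A] ↥I) : PowerSeries B := Additive.toMul (EE γ z)

theorem Ez_tmul (b : B) (x : ↥I) : Ez γ (b ⊗ₜ[A] x) = ex γ b (x : A) := rfl

theorem Ez_zero : Ez γ (0 : B ⊗[A] ↥I) = 1 := by
  unfold Ez; rw [map_zero]; rfl

theorem Ez_add (z z' : B ⊗[A] ↥I) : Ez γ (z + z') = Ez γ z * Ez γ z' := by
  unfold Ez; rw [map_add]; rfl

/-- the multiplication map `B ⊗ I → B` -/
noncomputable def phi : B ⊗[A] ↥I →ₗ[A] B :=
  (TensorProduct.rid A B).toLinearMap ∘ₗ (LinearMap.lTensor B I.subtype)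

theorem phi_tmul (b : B) (x : ↥I) :
    phi (b ⊗ₜ[A] x) = algebraMap A B (x : A) * b := by
  unfold phi
  rw [LinearMap.comp_apply, LinearMap.lTensor_tmul, LinearEquiv.coe_coe, TensorProduct.rid_tmul,
    Submodule.subtype_apply, Algebra.smul_def]

theorem phi_injective [Module.Flat A B] :
    Function.Injective (phi : B ⊗[A] ↥I →ₗ[A] B) := by
  unfold phi
  rw [LinearMap.coe_comp]
  exact (TensorProduct.rid A B).injective.comp
    (Module.Flat.lTensor_preserves_injective_linearMap I.subtype (Submodule.injective_subtype I))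

/-- multiplication by `b'` on the first factor -/
noncomputable def sm (b' : B) : B ⊗[A] ↥I →ₗ[A] B ⊗[A] ↥I :=
  (LinearMap.mulLeft A b').rTensor ↥I

theorem sm_tmul (b' b : B) (x : ↥I) : sm b' (b ⊗ₜ[A] x) = (b' * b) ⊗ₜ[A] x := by
  unfold sm; rw [LinearMap.rTensor_tmul, LinearMap.mulLeft_apply]

theorem phi_sm (b' : B) (z : B ⊗[A] ↥I) : phi (sm b' z) = b' * phi z := by
  induction z using TensorProduct.induction_on with
  | zero => rw [map_zero, map_zero, mul_zero]
  | tmul b x => rw [sm_tmul, phi_tmul, phi_tmul]; ring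
  | add z z' ih ih' => rw [map_add, map_add, map_add, ih, ih', mul_add]

theorem Ez_sm (b' : B) (z : B ⊗[A] ↥I) :
    Ez γ (sm b' z) = PowerSeries.rescale b' (Ez γ z) := by
  induction z using TensorProduct.induction_on with
  | zero => rw [map_zero, Ez_zero, map_one]
  | tmul b x =>
    rw [sm_tmul, Ez_tmul, Ez_tmul]
    ext n
    rw [PowerSeries.coeff_rescale, coeff_ex, coeff_ex, mul_pow]; ring
  | add z z' ih ih' => rw [map_add, Ez_add, Ez_add, ih, ih', map_mul]

theorem Ez_coeff_zero (z : B ⊗[A] ↥I) : PowerSeries.coeff 0 (Ez γ z) = 1 := by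
  induction z using TensorProduct.induction_on with
  | zero => rw [Ez_zero, PowerSeries.coeff_zero_one]
  | tmul b x => rw [Ez_tmul, coeff_ex, pow_zero, one_mul, γ.dpow_zero x.2, map_one]
  | add z z' ih ih' =>
    rw [Ez_add, PowerSeries.coeff_mul, Finset.Nat.antidiagonal_zero, Finset.sum_singleton, ih,
      ih', one_mul]

theorem Ez_coeff_one (z : B ⊗[A] ↥I) : PowerSeries.coeff 1 (Ez γ z) = phi z := by
  induction z using TensorProduct.induction_on with
  | zero => rw [Ez_zero, PowerSeries.coeff_one, if_neg one_ne_zero, map_zero]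
  | tmul b x => rw [Ez_tmul, coeff_ex, pow_one, γ.dpow_one x.2, phi_tmul, mul_comm]
  | add z z' ih ih' =>
    rw [Ez_add, PowerSeries.coeff_mul, Finset.Nat.sum_antidiagonal_eq_sum_range_succ_mk,
      Finset.sum_range_succ, Finset.sum_range_one]
    simp only [Nat.sub_zero, Nat.sub_self]
    rw [Ez_coeff_zero, Ez_coeff_zero, ih, ih', map_add]; ring

theorem Ez_coeff_mem (z : B ⊗[A] ↥I) :
    ∀ n : ℕ, n ≠ 0 → PowerSeries.coeff n (Ez γ z) ∈ I.map (algebraMap A B) := by
  induction z using TensorProduct.induction_on with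
  | zero =>
    intro n hn
    rw [Ez_zero, PowerSeries.coeff_one, if_neg hn]; exact Ideal.zero_mem _
  | tmul b x =>
    intro n hn
    rw [Ez_tmul, coeff_ex]
    exact Ideal.mul_mem_left _ _ (Ideal.mem_map_of_mem _ (γ.dpow_mem hn x.2))
  | add z z' ih ih' =>
    intro n hn
    rw [Ez_add, PowerSeries.coeff_mul]
    apply Ideal.sum_mem
    intro k hk
    rw [Finset.mem_antidiagonal] at hk
    by_cases hk1 : k.1 = 0
    · have hk2 : k.2 ≠ 0 := by omega
      exact Ideal.mul_mem_left _ _ (ih' k.2 hk2)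
    · exact Ideal.mul_mem_right _ _ (ih k.1 hk1)

theorem phi_mem (z : B ⊗[A] ↥I) : phi z ∈ I.map (algebraMap A B) := by
  induction z using TensorProduct.induction_on with
  | zero => rw [map_zero]; exact Ideal.zero_mem _
  | tmul b x => rw [phi_tmul]; exact Ideal.mul_mem_right _ _ (Ideal.mem_map_of_mem _ x.2)
  | add z z' ih ih' => rw [map_add]; exact Ideal.add_mem _ ih ih'

theorem exists_phi {w : B} (hw : w ∈ I.map (algebraMap A B)) :
    ∃ z : B ⊗[A] ↥I, phi z = w := by
  have hw' : w ∈ Submodule.span B (algebraMap A B '' (I : Set A)) := hw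
  refine Submodule.span_induction (p := fun w _ => ∃ z : B ⊗[A] ↥I, phi z = w) ?_ ?_ ?_ ?_ hw'
  · rintro _ ⟨x, hx, rfl⟩
    exact ⟨(1 : B) ⊗ₜ[A] (⟨x, hx⟩ : ↥I), by rw [phi_tmul, mul_one]⟩
  · exact ⟨0, map_zero _⟩
  · rintro w w' _ _ ⟨z, rfl⟩ ⟨z', rfl⟩
    exact ⟨z + z', map_add _ _ _⟩
  · rintro b w _ ⟨z, rfl⟩
    exact ⟨sm b z, by rw [phi_sm]; rfl⟩

open Classical in
/-- the divided powers on `I B` -/
noncomputable def del (n : ℕ) (w : B) : B :=
  if hw : ∃ z : B ⊗[A] ↥I, phi z = w then PowerSeries.coeff n (Ez γ hw.choose) else 0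

theorem del_phi [Module.Flat A B] (n : ℕ) (z : B ⊗[A] ↥I) :
    del γ n (phi z) = PowerSeries.coeff n (Ez γ z) := by
  have hw : ∃ z' : B ⊗[A] ↥I, phi z' = phi z := ⟨z, rfl⟩
  unfold del
  rw [dif_pos hw, phi_injective hw.choose_spec]

theorem del_preDP [Module.Flat A B] : PreDP (I.map (algebraMap A B)) (del (B := B) γ) where
  null := fun n w hw => by
    unfold del
    rw [dif_neg]
    rintro ⟨z, rfl⟩
    exact hw (phi_mem z)
  zero := fun w hw => by
    obtain ⟨z, rfl⟩ := exists_phi hw
    rw [del_phi, Ez_coeff_zero]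
  one := fun w hw => by
    obtain ⟨z, rfl⟩ := exists_phi hw
    rw [del_phi, Ez_coeff_one]
  mem := fun n w hn hw => by
    obtain ⟨z, rfl⟩ := exists_phi hw
    rw [del_phi]; exact Ez_coeff_mem γ z n hn
  add := fun n w w' hw hw' => by
    obtain ⟨z, rfl⟩ := exists_phi hw
    obtain ⟨z', rfl⟩ := exists_phi hw'
    rw [← map_add, del_phi, Ez_add, PowerSeries.coeff_mul]
    apply Finset.sum_congr rfl
    intro k _
    rw [del_phi, del_phi]
  mul := fun n a w hw => by
    obtain ⟨z, rfl⟩ := exists_phi hw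
    rw [← phi_sm, del_phi, Ez_sm, PowerSeries.coeff_rescale, del_phi]

theorem del_map [Module.Flat A B] {x : A} (hx : x ∈ I) (n : ℕ) :
    del (B := B) γ n (algebraMap A B x) = algebraMap A B (γ.dpow n x) := by
  have h1 : phi ((1 : B) ⊗ₜ[A] (⟨x, hx⟩ : ↥I)) = algebraMap A B x := by rw [phi_tmul, mul_one]
  rw [← h1, del_phi, Ez_tmul, coeff_ex, one_pow, one_mul]

theorem del_good [Module.Flat A B] :
    ∀ w ∈ (algebraMap A B '' (I : Set A)), GoodEl (del (B := B) γ) w := by
  rintro _ ⟨x, hx, rfl⟩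
  constructor
  · intro m n
    rw [del_map γ hx, del_map γ hx, del_map γ hx, ← map_mul, γ.mul_dpow hx, map_mul, map_natCast]
  · intro m n hn
    rw [del_map γ hx n, del_map γ (γ.dpow_mem hn hx), del_map γ hx, γ.dpow_comp hn hx, map_mul,
      map_natCast]

theorem exists_flat [Module.Flat A B] :
    ∃ δ : DividedPowers (I.map (algebraMap A B)),
      γ.IsDPMorphism δ (algebraMap A B) ∧ ∀ n w, δ.dpow n w = del (B := B) γ n w := by
  have hpre := del_preDP (B := B) γ
  have hgood := good_all hpre (algebraMap A B '' (I : Set A)) rfl (del_good γ)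
  exact ⟨ofGood hpre hgood, ⟨le_refl _, fun a ha => del_map γ ha _⟩, fun _ _ => rfl⟩

theorem unique_ext (δ δ' : DividedPowers (I.map (algebraMap A B)))
    (h : γ.IsDPMorphism δ (algebraMap A B)) (h' : γ.IsDPMorphism δ' (algebraMap A B)) :
    δ = δ' := by
  apply DividedPowers.dpow_eq_from_gens δ' δ (S := algebraMap A B '' (I : Set A)) rfl
  rintro n _ ⟨a, ha, rfl⟩
  rw [h.dpow_comp a ha, h'.dpow_comp a ha]

theorem main :
    (∀ δ δ' : DividedPowers (I.map (algebraMap A B)),
        γ.IsDPMorphism δ (algebraMap A B) → γ.IsDPMorphism δ' (algebraMap A B) → δ = δ') ∧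
      (Module.Flat A B →
        ∃ δ : DividedPowers (I.map (algebraMap A B)), γ.IsDPMorphism δ (algebraMap A B)) :=
  ⟨fun δ δ' h h' => unique_ext γ δ δ' h h', fun hflat => by
    have := hflat
    obtain ⟨δ, hδ, _⟩ := exists_flat (B := B) γ
    exact ⟨δ, hδ⟩⟩

end

end Groth.Agent.Lib.DPFlatH1
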