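import Groth.Agent.Lib.DPModel_helper1

/-!
# Divided powers from generators (S2192)

If maps `d n` satisfy all axioms of a divided power structure on `I` except the product and the
composition rules, and these two hold on a generating set, then they hold on all of `I`.
The closure under addition is proved by transport from the torsion-free model of
`DPModel_helper1` (with two divided power families).
-/

set_option autoImplicit false
set_option maxHeartbeats 1000000

universe u

namespace Groth.Agent.Lib.DPGenH1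

open scoped Nat
open Groth.Agent.Lib.DPModelH1 Groth.Agent.Lib.DPowExistsH1

section

variable {A : Type u} [CommRing A]

/-- the axioms of divided powers that are assumed on all of `I` -/
structure PreDP (I : Ideal A) (d : ℕ → A → A) : Prop where
  null : ∀ (n : ℕ) (x : A), x ∉ I → d n x = 0
  zero : ∀ x ∈ I, d 0 x = 1
  one : ∀ x ∈ I, d 1 x = x
  mem : ∀ (n : ℕ) (x : A), n ≠ 0 → x ∈ I → d n x ∈ I
  add : ∀ (n : ℕ) (x y : A), x ∈ I → y ∈ I →
      d n (x + y) = (Finset.antidiagonal n).sum fun k => d k.1 x * d k.2 y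
  mul : ∀ (n : ℕ) (a x : A), x ∈ I → d n (a * x) = a ^ n * d n x

/-- the product rule and the composition rule at `x` -/
def GoodEl (d : ℕ → A → A) (x : A) : Prop :=
  (∀ m n : ℕ, d m x * d n x = ((m + n).choose m : A) * d (m + n) x) ∧
    (∀ m n : ℕ, n ≠ 0 → d m (d n x) = (Nat.uniformBell m n : A) * d (m * n) x)

variable {I : Ideal A} {d : ℕ → A → A}

theorem d_zero_elt (h : PreDP I d) {n : ℕ} (hn : n ≠ 0) : d n 0 = 0 := by
  have h1 := h.mul n 0 0 I.zero_mem
  rw [zero_mul, zero_pow hn, zero_mul] at h1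
  exact h1

theorem good_zero (h : PreDP I d) : GoodEl d 0 := by
  constructor
  · intro m n
    by_cases hm : m = 0
    · subst hm
      rw [h.zero 0 I.zero_mem, one_mul, zero_add, Nat.choose_zero_right, Nat.cast_one, one_mul]
    · rw [d_zero_elt h hm, zero_mul, d_zero_elt h (show m + n ≠ 0 by omega), mul_zero]
  · intro m n hn
    rw [d_zero_elt h hn]
    by_cases hm : m = 0
    · subst hm
      rw [h.zero 0 I.zero_mem, zero_mul, h.zero 0 I.zero_mem, Nat.uniformBell_zero_left,
        Nat.cast_one, one_mul]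
    · rw [d_zero_elt h hm, d_zero_elt h (Nat.mul_ne_zero hm hn), mul_zero]

theorem good_smul (h : PreDP I d) (a : A) {x : A} (hx : x ∈ I) (hg : GoodEl d x) :
    GoodEl d (a * x) := by
  constructor
  · intro m n
    rw [h.mul m a x hx, h.mul n a x hx, h.mul (m + n) a x hx]
    have h1 := hg.1 m n
    calc a ^ m * d m x * (a ^ n * d n x) = a ^ (m + n) * (d m x * d n x) := by ring
      _ = _ := by rw [h1]; ring
  · intro m n hn
    rw [h.mul n a x hx, h.mul m (a ^ n) (d n x) (h.mem n x hn hx), hg.2 m n hn,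
      h.mul (m * n) a x hx]
    ring

/-- the two elements, as a family indexed by `Bool` -/
def xy (x y : A) : Bool → A := fun s => cond s x y

/-- the two families of divided powers -/
def gfam (d : ℕ → A → A) (x y : A) : Bool → ℕ → A := fun s k => d k (xy x y s)

/-- no polynomial variables -/
def v0 : PEmpty.{1} → A := fun e => PEmpty.elim e

theorem xy_mem {x y : A} (hx : x ∈ I) (hy : y ∈ I) (s : Bool) : xy x y s ∈ I := by
  cases s
  · exact hy
  · exact hx

theorem xy_good {x y : A} (gx : GoodEl d x) (gy : GoodEl d y) (s : Bool) :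
    GoodEl d (xy x y s) := by
  cases s
  · exact gy
  · exact gx

theorem gfam_hyp (h : PreDP I d) {x y : A} (hx : x ∈ I) (hy : y ∈ I)
    (gx : GoodEl d x) (gy : GoodEl d y) : Hyp (gfam d x y) where
  zero := fun s => h.zero _ (xy_mem hx hy s)
  mul := fun s m n => (xy_good gx gy s).1 m n

section Model

variable (d) (x y : A) (hg : Hyp (gfam d x y))

abbrev Bm := BB (v0 (A := A)) (gfam d x y) hg
noncomputable abbrev Phi : Bm d x y hg →+* A := phiB v0 (gfam d x y) hg
noncomputable abbrev J0 : Ideal (Bm d x y hg) := JJ v0 (gfam d x y) hg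
noncomputable abbrev G0 : DividedPowers (J0 d x y hg) := gammaB v0 (gfam d x y) hg
noncomputable abbrev Us (s : Bool) (k : ℕ) : Bm d x y hg := UU v0 (gfam d x y) hg s k

/-- compatibility of the divided powers of the model with `d` -/
def Q (I : Ideal A) (w : Bm d x y hg) : Prop :=
  w ∈ J0 d x y hg ∧ Phi d x y hg w ∈ I ∧
    ∀ n, Phi d x y hg ((G0 d x y hg).dpow n w) = d n (Phi d x y hg w)

theorem Q_gen (h : PreDP I d) (hx : x ∈ I) (hy : y ∈ I)
    (gx : GoodEl d x) (gy : GoodEl d y) (s : Bool) {k : ℕ} (hk : 1 ≤ k) :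
    Q d x y hg I (Us d x y hg s k) := by
  have hk0 : k ≠ 0 := by omega
  have hphi : Phi d x y hg (Us d x y hg s k) = d k (xy x y s) :=
    phi_UU v0 (gfam d x y) hg s k
  refine ⟨UU_mem v0 (gfam d x y) hg s hk, ?_, ?_⟩
  · rw [hphi]; exact h.mem k _ hk0 (xy_mem hx hy s)
  · intro n
    have h2 : Phi d x y hg (Us d x y hg s (n * k)) = d (n * k) (xy x y s) :=
      phi_UU v0 (gfam d x y) hg s (n * k)
    rw [gammaB_UU v0 (gfam d x y) hg s hk n, map_mul, map_natCast, hphi, h2]
    exact ((xy_good gx gy s).2 n k hk0).symm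

theorem Q_zero (h : PreDP I d) : Q d x y hg I 0 := by
  refine ⟨(J0 d x y hg).zero_mem, ?_, ?_⟩
  · rw [map_zero]; exact I.zero_mem
  · intro n
    rw [map_zero]
    by_cases hn : n = 0
    · subst hn
      rw [(G0 d x y hg).dpow_zero (J0 d x y hg).zero_mem, map_one, h.zero 0 I.zero_mem]
    · rw [(G0 d x y hg).dpow_eval_zero hn, map_zero, d_zero_elt h hn]

theorem Q_add (h : PreDP I d) {w w' : Bm d x y hg} (hw : Q d x y hg I w)
    (hw' : Q d x y hg I w') : Q d x y hg I (w + w') := by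
  refine ⟨(J0 d x y hg).add_mem hw.1 hw'.1, ?_, ?_⟩
  · rw [map_add]; exact I.add_mem hw.2.1 hw'.2.1
  · intro n
    rw [(G0 d x y hg).dpow_add hw.1 hw'.1, map_sum, map_add, h.add n _ _ hw.2.1 hw'.2.1]
    apply Finset.sum_congr rfl
    intro k _
    rw [map_mul, hw.2.2, hw'.2.2]

theorem Q_smul (h : PreDP I d) (a : Bm d x y hg) {w : Bm d x y hg} (hw : Q d x y hg I w) :
    Q d x y hg I (a * w) := by
  refine ⟨(J0 d x y hg).mul_mem_left a hw.1, ?_, ?_⟩
  · rw [map_mul]; exact I.mul_mem_left _ hw.2.1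
  · intro n
    rw [(G0 d x y hg).dpow_mul hw.1, map_mul, map_pow, hw.2.2, map_mul, h.mul n _ _ hw.2.1]

theorem Q_all (h : PreDP I d) (hx : x ∈ I) (hy : y ∈ I)
    (gx : GoodEl d x) (gy : GoodEl d y) {w : Bm d x y hg} (hw : w ∈ J0 d x y hg) :
    Q d x y hg I w := by
  have hw' : w ∈ Submodule.span (Bm d x y hg) (gens v0 (gfam d x y) hg) := hw
  refine Submodule.span_induction (p := fun w _ => Q d x y hg I w) ?_ ?_ ?_ ?_ hw'
  · rintro _ ⟨s, k, hk, rfl⟩
    exact Q_gen d x y hg h hx hy gx gy s hk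
  · exact Q_zero d x y hg h
  · intro w w' _ _ ih ih'
    exact Q_add d x y hg h ih ih'
  · intro a w _ ih
    exact Q_smul d x y hg h a ih

end Model

theorem good_add (h : PreDP I d) {x y : A} (hx : x ∈ I) (hy : y ∈ I)
    (gx : GoodEl d x) (gy : GoodEl d y) : GoodEl d (x + y) := by
  have hg : Hyp (gfam d x y) := gfam_hyp h hx hy gx gy
  obtain ⟨w0, hw0⟩ : ∃ w0 : Bm d x y hg, w0 = Us d x y hg true 1 + Us d x y hg false 1 :=
    ⟨_, rfl⟩
  have hw0mem : w0 ∈ J0 d x y hg := by
    rw [hw0]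
    exact (J0 d x y hg).add_mem (UU_mem v0 (gfam d x y) hg true le_rfl)
      (UU_mem v0 (gfam d x y) hg false le_rfl)
  have hphi : Phi d x y hg w0 = x + y := by
    have h1 : Phi d x y hg (Us d x y hg true 1) = d 1 x := phi_UU v0 (gfam d x y) hg true 1
    have h2 : Phi d x y hg (Us d x y hg false 1) = d 1 y := phi_UU v0 (gfam d x y) hg false 1
    rw [hw0, map_add, h1, h2, h.one x hx, h.one y hy]
  have hq := Q_all d x y hg h hx hy gx gy hw0mem
  constructor
  · intro m n
    rw [← hphi, ← hq.2.2 m, ← hq.2.2 n, ← hq.2.2 (m + n), ← map_mul,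
      (G0 d x y hg).mul_dpow hw0mem, map_mul, map_natCast]
  · intro m n hn
    have hq' := Q_all d x y hg h hx hy gx gy ((G0 d x y hg).dpow_mem hn hw0mem)
    rw [← hphi, ← hq.2.2 n, ← hq'.2.2 m, (G0 d x y hg).dpow_comp hn hw0mem, map_mul,
      map_natCast, hq.2.2 (m * n)]

theorem good_all (h : PreDP I d) (S : Set A) (hS : Ideal.span S = I)
    (hS_good : ∀ x ∈ S, GoodEl d x) : ∀ x ∈ I, GoodEl d x := by
  intro x hx
  have hx' : x ∈ Submodule.span A S := by rw [← hS] at hx; exact hx
  have key : x ∈ I ∧ GoodEl d x := by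
    refine Submodule.span_induction (p := fun x _ => x ∈ I ∧ GoodEl d x) ?_ ?_ ?_ ?_ hx'
    · intro s hs
      exact ⟨hS ▸ Ideal.subset_span hs, hS_good s hs⟩
    · exact ⟨I.zero_mem, good_zero h⟩
    · intro a b _ _ iha ihb
      exact ⟨I.add_mem iha.1 ihb.1, good_add h iha.1 ihb.1 iha.2 ihb.2⟩
    · intro a b _ ihb
      exact ⟨I.mul_mem_left a ihb.1, good_smul h a ihb.1 ihb.2⟩
  exact key.2

/-- divided powers from a `PreDP` all of whose elements are good -/
def ofGood (h : PreDP I d) (hgood : ∀ x ∈ I, GoodEl d x) : DividedPowers I where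
  dpow := d
  dpow_null := fun {n x} hx => h.null n x hx
  dpow_zero := fun {x} hx => h.zero x hx
  dpow_one := fun {x} hx => h.one x hx
  dpow_mem := fun {n x} hn hx => h.mem n x hn hx
  dpow_add := fun {n x y} hx hy => h.add n x y hx hy
  dpow_mul := fun {n a x} hx => h.mul n a x hx
  mul_dpow := fun {m n x} hx => (hgood x hx).1 m n
  dpow_comp := fun {m n x} hn hx => (hgood x hx).2 m n hn

theorem main (I : Ideal A) (S : Set A)
    (hS : Ideal.span S = I) (d : ℕ → A → A) (h_null : ∀ (n : ℕ) (x : A), x ∉ I → d n x = 0)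
    (h_zero : ∀ x ∈ I, d 0 x = 1) (h_one : ∀ x ∈ I, d 1 x = x)
    (h_mem : ∀ (n : ℕ) (x : A), n ≠ 0 → x ∈ I → d n x ∈ I)
    (h_add : ∀ (n : ℕ) (x y : A), x ∈ I → y ∈ I →
      d n (x + y) = (Finset.antidiagonal n).sum fun k => d k.1 x * d k.2 y)
    (h_mul : ∀ (n : ℕ) (a x : A), x ∈ I → d n (a * x) = a ^ n * d n x)
    (h_mul_dpow : ∀ (m n : ℕ) (x : A), x ∈ S → d m x * d n x = (m + n).choose m * d (m + n) x)
    (h_comp : ∀ (m n : ℕ) (x : A), n ≠ 0 → x ∈ S →
      d m (d n x) = Nat.uniformBell m n * d (m * n) x) :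
    ∃ γ : DividedPowers I, γ.dpow = d := by
  have h : PreDP I d := ⟨h_null, h_zero, h_one, h_mem, h_add, h_mul⟩
  have hgood := good_all h S hS
    (fun x hx => ⟨fun m n => h_mul_dpow m n x hx, fun m n hn => h_comp m n x hn hx⟩)
  exact ⟨ofGood h hgood, rfl⟩

end

end Groth.Agent.Lib.DPGenH1
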