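import Groth.Agent.Lib.DPowTFCopy_helper1

/-!
# A torsion-free model for families of divided powers

Given values `v : τ → A` and families `g : σ → ℕ → A` with `g s 0 = 1` and
`g s m * g s n = C(m+n,m) g s (m+n)`, we build a torsion-free ring `BB` (a subring of
`ℚ[T_τ][X_σ] × A`, the `ℤ`-span of the pairs `(T^α X^e / e!, v^α ∏ g s (e s))`), with a divided
power structure on the ideal generated by the `X_s^[k]`, `k ≥ 1`, and a ring hom `phiB : BB → A`.
-/

set_option autoImplicit false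
set_option maxHeartbeats 1000000

universe u₁ u₂ u₃

namespace Groth.Agent.Lib.DPModelH1

open scoped Nat
open Groth.Agent.Lib.DPowExistsH1

section Model

variable {τ : Type u₁} {σ : Type u₂} [Fintype σ] [DecidableEq σ] {A : Type u₃} [CommRing A]
variable (v : τ → A) (g : σ → ℕ → A)

abbrev Idx (τ : Type u₁) (σ : Type u₂) := (τ →₀ ℕ) × (σ →₀ ℕ)

abbrev QQ (τ : Type u₁) (σ : Type u₂) := MvPolynomial σ (MvPolynomial τ ℚ)

noncomputable def cc (e : σ →₀ ℕ) : ℚ := ∏ s, (((e s)! : ℕ) : ℚ)⁻¹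

def NN (e e' : σ →₀ ℕ) : ℕ := ∏ s, (e s + e' s).choose (e s)

theorem cc_ne_zero (e : σ →₀ ℕ) : cc e ≠ 0 := by
  unfold cc
  exact Finset.prod_ne_zero_iff.mpr (fun s _ => inv_ne_zero (by positivity))

theorem cc_mul (e e' : σ →₀ ℕ) : cc e * cc e' = (NN e e' : ℚ) * cc (e + e') := by
  unfold cc NN
  rw [Nat.cast_prod, ← Finset.prod_mul_distrib, ← Finset.prod_mul_distrib]
  apply Finset.prod_congr rfl
  intro s _
  rw [Finsupp.add_apply, Nat.cast_add_choose]
  have h1 : ((e s)! : ℚ) ≠ 0 := by positivity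
  have h2 : ((e' s)! : ℚ) ≠ 0 := by positivity
  have h3 : ((e s + e' s)! : ℚ) ≠ 0 := by positivity
  first | (field_simp; ring) | field_simp

theorem cc_single (s : σ) (k : ℕ) : cc (Finsupp.single s k) = ((k ! : ℕ) : ℚ)⁻¹ := by
  unfold cc
  rw [Finset.prod_eq_single s]
  · rw [Finsupp.single_eq_same]
  · intro t _ hts
    rw [Finsupp.single_apply, if_neg (Ne.symm hts)]
    simp
  · intro h; exact absurd (Finset.mem_univ s) h

noncomputable def mm (i : Idx τ σ) : QQ τ σ :=
  MvPolynomial.monomial i.2 (MvPolynomial.monomial i.1 (cc i.2))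

noncomputable def vv (α : τ →₀ ℕ) : A := α.prod fun r n => v r ^ n

noncomputable def gσ (e : σ →₀ ℕ) : A := ∏ s, g s (e s)

noncomputable def gg (i : Idx τ σ) : A := vv v i.1 * gσ g i.2

theorem vv_add (α α' : τ →₀ ℕ) : vv v (α + α') = vv v α * vv v α' := by
  unfold vv
  exact Finsupp.prod_add_index' (fun r => pow_zero _) (fun r n m => pow_add _ _ _)

theorem vv_zero : vv v (0 : τ →₀ ℕ) = 1 := by
  unfold vv; exact Finsupp.prod_zero_index

theorem vv_single (r : τ) (n : ℕ) : vv v (Finsupp.single r n) = v r ^ n := by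
  unfold vv; exact Finsupp.prod_single_index (pow_zero _)

theorem mm_mul (i i' : Idx τ σ) : (mm i * mm i' : QQ τ σ) = NN i.2 i'.2 • mm (i + i') := by
  unfold mm
  rw [MvPolynomial.monomial_mul, MvPolynomial.monomial_mul, cc_mul, MvPolynomial.smul_monomial,
    MvPolynomial.smul_monomial, nsmul_eq_mul]
  rfl

theorem gσ_mul (hgmul : ∀ s m n, g s m * g s n = ((m + n).choose m : A) * g s (m + n))
    (e e' : σ →₀ ℕ) : gσ g e * gσ g e' = NN e e' • gσ g (e + e') := by
  unfold gσ NN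
  rw [nsmul_eq_mul, Nat.cast_prod, ← Finset.prod_mul_distrib, ← Finset.prod_mul_distrib]
  apply Finset.prod_congr rfl
  intro s _
  rw [Finsupp.add_apply]
  exact hgmul s (e s) (e' s)

theorem gσ_zero (hg0 : ∀ s, g s 0 = 1) : gσ g (0 : σ →₀ ℕ) = 1 := by
  unfold gσ
  exact Finset.prod_eq_one (fun s _ => by rw [Finsupp.zero_apply, hg0])

theorem gσ_single (hg0 : ∀ s, g s 0 = 1) (s : σ) (k : ℕ) :
    gσ g (Finsupp.single s k) = g s k := by
  unfold gσ
  rw [Finset.prod_eq_single s]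
  · rw [Finsupp.single_eq_same]
  · intro t _ hts
    rw [Finsupp.single_apply, if_neg (Ne.symm hts), hg0]
  · intro h; exact absurd (Finset.mem_univ s) h

theorem gg_mul (hgmul : ∀ s m n, g s m * g s n = ((m + n).choose m : A) * g s (m + n))
    (i i' : Idx τ σ) : gg v g i * gg v g i' = NN i.2 i'.2 • gg v g (i + i') := by
  unfold gg
  rw [Prod.fst_add, Prod.snd_add, vv_add, nsmul_eq_mul]
  have h := gσ_mul g hgmul i.2 i'.2
  rw [nsmul_eq_mul] at h
  calc vv v i.1 * gσ g i.2 * (vv v i'.1 * gσ g i'.2)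
      = vv v i.1 * vv v i'.1 * (gσ g i.2 * gσ g i'.2) := by ring
    _ = _ := by rw [h]; ring

noncomputable def pairs (i : Idx τ σ) : QQ τ σ × A := (mm i, gg v g i)

theorem pairs_mul (hgmul : ∀ s m n, g s m * g s n = ((m + n).choose m : A) * g s (m + n))
    (i i' : Idx τ σ) : pairs v g i * pairs v g i' = NN i.2 i'.2 • pairs v g (i + i') := by
  unfold pairs
  rw [Prod.mk_mul_mk, mm_mul, gg_mul v g hgmul, Prod.smul_mk]

theorem pairs_zero (hg0 : ∀ s, g s 0 = 1) : pairs v g (0 : Idx τ σ) = 1 := by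
  unfold pairs mm gg
  apply Prod.ext
  · simp [cc]
  · simp [vv_zero, gσ_zero g hg0]

noncomputable def RR : Submodule ℤ (QQ τ σ × A) := Submodule.span ℤ (Set.range (pairs v g))

theorem RR_one (hg0 : ∀ s, g s 0 = 1) : (1 : QQ τ σ × A) ∈ RR v g := by
  rw [← pairs_zero v g hg0]; exact Submodule.subset_span ⟨0, rfl⟩

theorem RR_mul (hgmul : ∀ s m n, g s m * g s n = ((m + n).choose m : A) * g s (m + n)) :
    ∀ x y, x ∈ RR v g → y ∈ RR v g → x * y ∈ RR v g := by
  have h : RR v g * RR v g ≤ RR v g := by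
    unfold RR
    rw [Submodule.span_mul_span]
    apply Submodule.span_le.mpr
    rintro _ ⟨_, ⟨e, rfl⟩, _, ⟨e', rfl⟩, rfl⟩
    show pairs v g e * pairs v g e' ∈ _
    rw [pairs_mul v g hgmul]
    exact nsmul_mem (Submodule.subset_span (Set.mem_range_self (e + e'))) _
  intro x y hx hy
  exact h (Submodule.mul_mem_mul hx hy)

/-- the hypotheses on `g`, bundled -/
structure Hyp (g : σ → ℕ → A) : Prop where
  zero : ∀ s, g s 0 = 1
  mul : ∀ s m n, g s m * g s n = ((m + n).choose m : A) * g s (m + n)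

noncomputable abbrev Bsub (hg : Hyp g) : Subalgebra ℤ (QQ τ σ × A) :=
  (RR v g).toSubalgebra (RR_one v g hg.zero) (RR_mul v g hg.mul)

abbrev BB (hg : Hyp g) := ↥(Bsub v g hg)

noncomputable def piB (hg : Hyp g) : BB v g hg →+* QQ τ σ :=
  (RingHom.fst _ _).comp (Bsub v g hg).val.toRingHom

noncomputable def phiB (hg : Hyp g) : BB v g hg →+* A :=
  (RingHom.snd _ _).comp (Bsub v g hg).val.toRingHom

theorem piB_apply (hg : Hyp g) (b : BB v g hg) : piB v g hg b = (b : QQ τ σ × A).1 := rfl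

theorem phiB_apply (hg : Hyp g) (b : BB v g hg) : phiB v g hg b = (b : QQ τ σ × A).2 := rfl

open Classical in
theorem coeff_mm (i j : Idx τ σ) :
    MvPolynomial.coeff i.1 (MvPolynomial.coeff i.2 (mm j : QQ τ σ))
      = if j = i then cc i.2 else 0 := by
  classical
  unfold mm
  rw [MvPolynomial.coeff_monomial]
  by_cases h2 : j.2 = i.2
  · rw [if_pos h2, MvPolynomial.coeff_monomial]
    by_cases h1 : j.1 = i.1
    · rw [if_pos h1, if_pos (Prod.ext h1 h2), h2]
    · rw [if_neg h1, if_neg (fun h => h1 (congrArg Prod.fst h))]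
  · rw [if_neg h2, MvPolynomial.coeff_zero, if_neg (fun h => h2 (congrArg Prod.snd h))]

theorem sum_mm_eq_zero (l : Idx τ σ →₀ ℤ) (h0 : (l.sum fun i a => a • (mm i : QQ τ σ)) = 0) :
    l = 0 := by
  classical
  ext i
  have h1 := congrArg (fun q => MvPolynomial.coeff i.1 (MvPolynomial.coeff i.2 q)) h0
  simp only [Finsupp.sum, MvPolynomial.coeff_sum, MvPolynomial.coeff_smul, coeff_mm,
    MvPolynomial.coeff_zero] at h1
  rw [Finset.sum_eq_single i] at h1
  · rw [if_pos rfl] at h1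
    have := (smul_eq_zero.mp h1).resolve_right (cc_ne_zero i.2)
    simpa using this
  · intro j _ hne; rw [if_neg hne, smul_zero]
  · intro hnot; rw [Finsupp.notMem_support_iff.mp hnot, zero_smul]

theorem fst_eq_zero_imp (y : QQ τ σ × A) (hy : y ∈ RR v g) (h0 : y.1 = 0) : y = 0 := by
  obtain ⟨l, rfl⟩ := (Finsupp.mem_span_range_iff_exists_finsupp).mp hy
  have hl : l = 0 := by
    apply sum_mm_eq_zero l
    rw [Finsupp.sum, Prod.fst_sum] at h0
    simpa [Finsupp.sum, pairs] using h0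
  rw [hl]; simp

theorem piB_injective (hg : Hyp g) : Function.Injective (piB v g hg) := by
  rw [injective_iff_map_eq_zero]
  intro b hb
  apply Subtype.ext
  exact fst_eq_zero_imp v g _ (Submodule.mem_toSubalgebra.mp b.2) hb

theorem BB_torsionFree (hg : Hyp g) : IsAddTorsionFree (BB v g hg) := by
  refine ⟨fun n hn b b' h => ?_⟩
  have h3 := congrArg (piB v g hg) h
  simp only [map_nsmul, nsmul_eq_mul] at h3
  have hn' : ((n : ℕ) : QQ τ σ) ≠ 0 := Nat.cast_ne_zero.mpr hn
  exact piB_injective v g hg (mul_left_cancel₀ hn' h3)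

noncomputable instance instTF (hg : Hyp g) : IsAddTorsionFree (BB v g hg) :=
  BB_torsionFree v g hg

noncomputable def beta (hg : Hyp g) (i : Idx τ σ) : BB v g hg :=
  ⟨pairs v g i, Submodule.mem_toSubalgebra.mpr (Submodule.subset_span ⟨i, rfl⟩)⟩

theorem beta_mul (hg : Hyp g) (i i' : Idx τ σ) :
    beta v g hg i * beta v g hg i' = NN i.2 i'.2 • beta v g hg (i + i') := by
  apply Subtype.ext
  show pairs v g i * pairs v g i' = _
  rw [pairs_mul v g hg.mul]
  rfl

theorem beta_zero (hg : Hyp g) : beta v g hg 0 = 1 := by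
  apply Subtype.ext
  show pairs v g 0 = _
  rw [pairs_zero v g hg.zero]
  rfl

theorem phi_beta (hg : Hyp g) (i : Idx τ σ) : phiB v g hg (beta v g hg i) = gg v g i := rfl

theorem pi_beta (hg : Hyp g) (i : Idx τ σ) : piB v g hg (beta v g hg i) = mm i := rfl

/-- every element of the model is an integer combination of the `beta i` -/
theorem exists_repr (hg : Hyp g) (b : BB v g hg) :
    ∃ l : Idx τ σ →₀ ℤ, b = l.sum fun i a => a • beta v g hg i := by
  obtain ⟨l, hl⟩ := (Finsupp.mem_span_range_iff_exists_finsupp).mp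
    (Submodule.mem_toSubalgebra.mp b.2)
  refine ⟨l, ?_⟩
  apply Subtype.ext
  rw [← hl, Finsupp.sum, Finsupp.sum]
  rw [show ((∑ i ∈ l.support, l i • beta v g hg i : BB v g hg) : QQ τ σ × A)
      = (Bsub v g hg).val (∑ i ∈ l.support, l i • beta v g hg i) from rfl, map_sum]
  apply Finset.sum_congr rfl
  intro i _
  exact (map_smul (Bsub v g hg).val (l i) (beta v g hg i)).symm

noncomputable def UU (hg : Hyp g) (s : σ) (k : ℕ) : BB v g hg :=
  beta v g hg (0, Finsupp.single s k)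

noncomputable def TT (hg : Hyp g) (r : τ) : BB v g hg :=
  beta v g hg (Finsupp.single r 1, 0)

theorem phi_UU (hg : Hyp g) (s : σ) (k : ℕ) : phiB v g hg (UU v g hg s k) = g s k := by
  unfold UU
  rw [phi_beta]
  unfold gg
  rw [vv_zero, one_mul, gσ_single g hg.zero]

theorem phi_TT (hg : Hyp g) (r : τ) : phiB v g hg (TT v g hg r) = v r := by
  unfold TT
  rw [phi_beta]
  unfold gg
  rw [vv_single, pow_one, gσ_zero g hg.zero, mul_one]

theorem pi_UU (hg : Hyp g) (s : σ) (k : ℕ) :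
    piB v g hg (UU v g hg s k)
      = MvPolynomial.monomial (Finsupp.single s k)
          (MvPolynomial.monomial 0 (((k ! : ℕ) : ℚ)⁻¹)) := by
  unfold UU
  rw [pi_beta]
  unfold mm
  rw [cc_single]

theorem ub_cast' (m : ℕ) {n : ℕ} (hn : n ≠ 0) :
    (Nat.uniformBell m n : ℚ) = ((m * n)! : ℚ) / (((n ! : ℚ)) ^ m * (m ! : ℚ)) := by
  have h := Nat.uniformBell_mul_eq m hn
  have h' : (Nat.uniformBell m n : ℚ) * (n ! : ℚ) ^ m * (m ! : ℚ) = ((m * n)! : ℚ) := by
    exact_mod_cast congrArg (Nat.cast (R := ℚ)) h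
  have h1 : (n ! : ℚ) ≠ 0 := by positivity
  have h2 : (m ! : ℚ) ≠ 0 := by positivity
  rw [eq_div_iff (mul_ne_zero (pow_ne_zero _ h1) h2), ← h']; ring

theorem UU_pow (hg : Hyp g) (s : σ) {k : ℕ} (hk : k ≠ 0) (n : ℕ) :
    (UU v g hg s k) ^ n
      = ((n ! * Nat.uniformBell n k : ℕ) : BB v g hg) * UU v g hg s (n * k) := by
  apply piB_injective v g hg
  rw [map_pow, map_mul, map_natCast, pi_UU, pi_UU, MvPolynomial.monomial_pow,
    MvPolynomial.monomial_pow, smul_zero,
    Finsupp.smul_single, smul_eq_mul, ← nsmul_eq_mul, MvPolynomial.smul_monomial,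
    MvPolynomial.smul_monomial, nsmul_eq_mul]
  congr 2
  have h := ub_cast' n hk
  push_cast
  rw [h]
  have h1 : (k ! : ℚ) ≠ 0 := by positivity
  have h2 : (n ! : ℚ) ≠ 0 := by positivity
  have h3 : ((n * k)! : ℚ) ≠ 0 := by positivity
  generalize (k ! : ℚ) = K at h1 ⊢
  generalize (n ! : ℚ) = N at h2 ⊢
  generalize ((n * k)! : ℚ) = M at h3 ⊢
  rw [inv_pow]
  first | (field_simp; ring) | field_simp

def gens (hg : Hyp g) : Set (BB v g hg) :=
  {b | ∃ (s : σ) (k : ℕ), 1 ≤ k ∧ b = UU v g hg s k}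

noncomputable def JJ (hg : Hyp g) : Ideal (BB v g hg) := Ideal.span (gens v g hg)

theorem UU_mem (hg : Hyp g) (s : σ) {k : ℕ} (hk : 1 ≤ k) :
    UU v g hg s k ∈ JJ v g hg := Ideal.subset_span ⟨s, k, hk, rfl⟩

theorem hall (hg : Hyp g) : ∀ x ∈ JJ v g hg, TF.HasDP (JJ v g hg) x := by
  apply TF.hasDP_of_span (S := gens v g hg) rfl
  rintro _ ⟨s, k, hk, rfl⟩ n hn
  rw [UU_pow v g hg s (by omega) n]
  have e : ((n ! * Nat.uniformBell n k : ℕ) : BB v g hg) * UU v g hg s (n * k)
      = (n ! : BB v g hg) * ((Nat.uniformBell n k : BB v g hg) * UU v g hg s (n * k)) := by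
    push_cast; ring
  rw [e]
  exact Ideal.mul_mem_mul (Ideal.mem_span_singleton_self _)
    ((JJ v g hg).mul_mem_left _ (UU_mem v g hg s (Nat.mul_pos hn hk)))

noncomputable def gammaB (hg : Hyp g) : DividedPowers (JJ v g hg) :=
  TF.dp (A := BB v g hg) (JJ v g hg) (hall v g hg)

theorem gammaB_unique (hg : Hyp g) {x y : BB v g hg} (hx : x ∈ JJ v g hg) {n : ℕ}
    (h : (n ! : BB v g hg) * y = x ^ n) : (gammaB v g hg).dpow n x = y :=
  TF.cancel (Nat.factorial_ne_zero n)
    (((gammaB v g hg).factorial_mul_dpow_eq_pow hx).trans h.symm)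

theorem gammaB_UU (hg : Hyp g) (s : σ) {k : ℕ} (hk : 1 ≤ k) (n : ℕ) :
    (gammaB v g hg).dpow n (UU v g hg s k)
      = (Nat.uniformBell n k : BB v g hg) * UU v g hg s (n * k) := by
  apply gammaB_unique v g hg (UU_mem v g hg s hk)
  rw [UU_pow v g hg s (by omega) n]; push_cast; ring

end Model

end Groth.Agent.Lib.DPModelH1
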