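import Groth.Agent.Lib.DPPoly_helper3

/-!
# Divided power polynomial algebras: the map from the generic model, and the DP structure (helper3)
-/

set_option autoImplicit false
open scoped BigOperators
open MvPolynomial

namespace Groth.Agent.Lib.DPPoly2H3

open Groth.Agent.Lib.DPPolyH3

universe u v

section Basis
variable (R : Type u) [CommRing R] (N : ℕ)

lemma YS_mul_YS (e f : Fin N →₀ ℕ) :
    YS R N e * YS R N f = (∏ i, (e i + f i).choose (e i)) • YS R N (e + f) :=
  Subtype.ext (Y_mul_Y R N e f)

lemma YS_zero : YS R N 0 = 1 := Subtype.ext (Y_zero (y R N) (y_zero R N))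

lemma linIndepS : LinearIndependent (S R) (YS R N) :=
  LinearIndependent.of_comp (PS R N).val.toLinearMap (linIndep R N)

lemma span_YS : Submodule.span (S R) (Set.range (YS R N)) = ⊤ := by
  rw [eq_top_iff]
  rintro ⟨a, ha⟩ -
  have h1 : Submodule.map (PS R N).val.toLinearMap (Submodule.span (S R) (Set.range (YS R N)))
      = W R N := by
    rw [Submodule.map_span, ← Set.range_comp]
    rfl
  have h2 : a ∈ Submodule.map (PS R N).val.toLinearMap
      (Submodule.span (S R) (Set.range (YS R N))) := by
    rw [h1]; exact ha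
  obtain ⟨a', ha', h⟩ := h2
  have : a' = ⟨a, ha⟩ := Subtype.ext h
  rwa [← this]

/-- the basis of the generic model -/
noncomputable def bS : Module.Basis (Fin N →₀ ℕ) (S R) (PS R N) :=
  Module.Basis.mk (linIndepS R N) (span_YS R N).ge

lemma bS_apply (e : Fin N →₀ ℕ) : bS R N e = YS R N e := by
  unfold bS; rw [Module.Basis.mk_apply]

end Basis

section Map
variable {R : Type u} [CommRing R] {N : ℕ} {P : Type v} [CommRing P] [Algebra R P]
  (x : Fin N → ℕ → P)

/-- `P` as an algebra over `ℤ[R]` -/
noncomputable local instance algSP : Algebra (S R) P := ((algebraMap R P).comp (ev R)).toAlgebra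

omit x in
lemma smul_P (s : S R) (p : P) : s • p = ev R s • p := by
  rw [Algebra.smul_def, Algebra.smul_def]; rfl

/-- the linear map from the generic model -/
noncomputable def fl : PS R N →ₗ[S R] P := (bS R N).constr ℕ (Y x)

lemma fl_YS (e : Fin N →₀ ℕ) : fl x (YS R N e) = Y x e := by
  unfold fl
  rw [← bS_apply, Module.Basis.constr_basis]

lemma fl_mul (hxmul : ∀ i n m, x i n * x i m = ((n + m).choose n : P) * x i (n + m))
    (a b : PS R N) : fl x (a * b) = fl x a * fl x b := by
  have ha : a ∈ Submodule.span (S R) (Set.range (YS R N)) := by rw [span_YS]; trivial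
  have hb : b ∈ Submodule.span (S R) (Set.range (YS R N)) := by rw [span_YS]; trivial
  induction ha using Submodule.span_induction with
  | mem a h =>
    obtain ⟨e, rfl⟩ := h
    induction hb using Submodule.span_induction with
    | mem b h =>
      obtain ⟨f, rfl⟩ := h
      rw [YS_mul_YS, map_nsmul, fl_YS, fl_YS, fl_YS, Y_mul x hxmul, nsmul_eq_mul]
    | zero => simp
    | add b b' _ _ h1 h2 => rw [mul_add, map_add, map_add, mul_add, h1, h2]
    | smul s b _ h => rw [mul_smul_comm, map_smul, map_smul, mul_smul_comm, h]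
  | zero => simp
  | add a a' _ _ h1 h2 => rw [add_mul, map_add, map_add, add_mul, h1, h2]
  | smul s a _ h => rw [smul_mul_assoc, map_smul, map_smul, smul_mul_assoc, h]

/-- the ring map from the generic model -/
noncomputable def f (hx0 : ∀ i, x i 0 = 1)
    (hxmul : ∀ i n m, x i n * x i m = ((n + m).choose n : P) * x i (n + m)) : PS R N →+* P where
  toFun := fl x
  map_one' := by rw [← YS_zero, fl_YS, Y_zero x hx0]
  map_mul' := fl_mul x hxmul
  map_zero' := map_zero _
  map_add' := map_add _

variable (hx0 : ∀ i, x i 0 = 1)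
  (hxmul : ∀ i n m, x i n * x i m = ((n + m).choose n : P) * x i (n + m))

lemma f_apply (a : PS R N) : f x hx0 hxmul a = fl x a := rfl

lemma f_YS (e : Fin N →₀ ℕ) : f x hx0 hxmul (YS R N e) = Y x e := fl_YS x e

lemma f_yS (i : Fin N) (n : ℕ) : f x hx0 hxmul (yS R N i n) = x i n := by
  unfold yS; rw [f_YS, Y_single x hx0]

lemma f_smul (s : S R) (a : PS R N) : f x hx0 hxmul (s • a) = ev R s • f x hx0 hxmul a := by
  rw [f_apply, map_smul, smul_P (R := R)]; rfl

lemma f_surjective (b : Module.Basis (Fin N →₀ ℕ) R P) (hb : ∀ e, b e = Y x e) :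
    Function.Surjective (f (R := R) x hx0 hxmul) := by
  intro p
  have hp : p ∈ Submodule.span R (Set.range b) := by rw [b.span_eq]; trivial
  induction hp using Submodule.span_induction with
  | mem p h =>
    obtain ⟨e, rfl⟩ := h
    exact ⟨YS R N e, by rw [f_YS, hb]⟩
  | zero => exact ⟨0, map_zero _⟩
  | add p p' _ _ h1 h2 =>
    obtain ⟨a, rfl⟩ := h1
    obtain ⟨a', rfl⟩ := h2
    exact ⟨a + a', map_add _ _ _⟩
  | smul r p _ h =>
    obtain ⟨a, rfl⟩ := h
    exact ⟨(X r : S R) • a, by rw [f_smul, ev_X]⟩

end Map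

end Groth.Agent.Lib.DPPoly2H3
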