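import Groth.Agent.Lib.DPPoly2_helper3

/-!
# Divided power polynomial algebras: the divided power structure (helper3)

The generic model `PS ⊆ ℚ[R][X]` inherits the divided powers `x^n/n!` on its augmentation ideal
(`DividedPowers.ofInjective`), and these descend along the surjection `PS → P`
(`DividedPowers.Quotient.OfSurjective`).
-/

set_option autoImplicit false
open scoped BigOperators
open MvPolynomial

namespace Groth.Agent.Lib.DPPoly3H3

open Groth.Agent.Lib.DPPolyH3 Groth.Agent.Lib.DPPoly2H3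

universe u v

section Generic
variable (R : Type u) [CommRing R] (N : ℕ)

/-- generators of the augmentation ideal of `PS` -/
def GS : Set (PS R N) := {a | ∃ (i : Fin N) (n : ℕ), 1 ≤ n ∧ a = yS R N i n}

/-- the augmentation ideal of `PS` -/
noncomputable def IS : Ideal (PS R N) := Ideal.span (GS R N)

/-- inclusion -/
noncomputable def vS : PS R N →+* T R N := (PS R N).val

lemma vS_apply (a : PS R N) : vS R N a = (a : T R N) := rfl

lemma vS_injective : Function.Injective (vS R N) := Subtype.coe_injective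

lemma vS_yS (i : Fin N) (n : ℕ) : vS R N (yS R N i n) = y R N i n := coe_yS R N i n

/-- the ideal generated by the augmentation ideal in `T` -/
noncomputable def J : Ideal (T R N) := (IS R N).map (vS R N)

/-- the divided power structure `x^n/n!` -/
noncomputable def hJ : DividedPowers (J R N) := by
  classical exact DividedPowers.RatAlgebra.dividedPowers (J R N)

lemma qsmul (r : ℚ) (t : T R N) : r • t = C (C r) * t := by
  rw [Algebra.smul_def, MvPolynomial.algebraMap_apply, MvPolynomial.algebraMap_eq]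

lemma yS_mem_IS (i : Fin N) {n : ℕ} (hn : 1 ≤ n) : yS R N i n ∈ IS R N :=
  Ideal.subset_span ⟨i, n, hn, rfl⟩

lemma mem_J {a : PS R N} (ha : a ∈ IS R N) : vS R N a ∈ J R N := Ideal.mem_map_of_mem _ ha

lemma dpowJ_y (i : Fin N) (n : ℕ) {m : ℕ} (hm : 1 ≤ m) :
    (hJ R N).dpow n (y R N i m) = (Nat.uniformBell n m : T R N) * y R N i (n * m) := by
  have hy : y R N i m ∈ J R N := by rw [← vS_yS]; exact mem_J R N (yS_mem_IS R N i hm)
  rw [DividedPowers.RatAlgebra.dpow_eq_inv_fact_smul (J R N) (hJ R N) hy, Ring.inverse_eq_inv', qsmul, natCast_T]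
  unfold y
  have hq : (n.factorial : ℚ)⁻¹ * ((m.factorial : ℚ)⁻¹) ^ n =
      (Nat.uniformBell n m : ℚ) * ((n * m).factorial : ℚ)⁻¹ := by
    have h := Nat.uniformBell_mul_eq n (n := m) (by omega)
    have h' : (Nat.uniformBell n m : ℚ) * (m.factorial : ℚ) ^ n * n.factorial
        = ((n * m).factorial : ℚ) := by exact_mod_cast h
    have h1 : (n.factorial : ℚ) ≠ 0 := by exact_mod_cast n.factorial_ne_zero
    have h2 : (m.factorial : ℚ) ≠ 0 := by exact_mod_cast m.factorial_ne_zero
    have h3 : ((n * m).factorial : ℚ) ≠ 0 := by exact_mod_cast (n * m).factorial_ne_zero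
    have h4 : (Nat.uniformBell n m : ℚ) ≠ 0 := by
      intro h0
      rw [h0, zero_mul, zero_mul] at h'
      exact h3 h'.symm
    rw [← h', inv_pow]
    field_simp
  calc C (C ((n.factorial : ℚ)⁻¹)) * (C (C ((m.factorial : ℚ)⁻¹)) * X i ^ m) ^ n
      = C (C ((n.factorial : ℚ)⁻¹ * ((m.factorial : ℚ)⁻¹) ^ n)) * X i ^ (n * m) := by
        simp only [map_mul, map_pow]; ring
    _ = _ := by rw [hq]; simp only [map_mul]; ring

lemma aux {a : PS R N} (ha : a ∈ IS R N) : ∀ n : ℕ, ∃ b : PS R N,
    (n ≠ 0 → b ∈ IS R N) ∧ vS R N b = (hJ R N).dpow n (vS R N a) := by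
  unfold IS at ha
  induction ha using Submodule.span_induction with
  | mem a h =>
    obtain ⟨i, m, hm, rfl⟩ := h
    intro n
    refine ⟨Nat.uniformBell n m • yS R N i (n * m), fun hn => ?_, ?_⟩
    · refine nsmul_mem (yS_mem_IS R N i ?_) _
      exact Nat.succ_le_of_lt (Nat.mul_pos (Nat.pos_of_ne_zero hn) hm)
    · rw [map_nsmul, vS_yS, vS_yS, dpowJ_y R N i n hm, nsmul_eq_mul]
  | zero =>
    intro n
    by_cases hn : n = 0
    · subst hn
      exact ⟨1, fun h => absurd rfl h, by
        rw [map_one, map_zero, (hJ R N).dpow_zero (zero_mem _)]⟩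
    · exact ⟨0, fun _ => zero_mem _, by rw [map_zero, (hJ R N).dpow_eval_zero hn]⟩
  | add a a' ha ha' h1 h2 =>
    intro n
    choose ba hba1 hba2 using h1
    choose ba' hba'1 hba'2 using h2
    have haJ : vS R N a ∈ J R N := mem_J R N ha
    have ha'J : vS R N a' ∈ J R N := mem_J R N ha'
    refine ⟨∑ k ∈ Finset.HasAntidiagonal.antidiagonal n, ba k.1 * ba' k.2, fun hn => ?_, ?_⟩
    · refine sum_mem (fun k hk => ?_)
      rw [Finset.HasAntidiagonal.mem_antidiagonal] at hk
      by_cases h1 : k.1 = 0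
      · have : k.2 ≠ 0 := by omega
        exact Ideal.mul_mem_left _ _ (hba'1 _ this)
      · exact Ideal.mul_mem_right _ _ (hba1 _ h1)
    · rw [map_add, (hJ R N).dpow_add haJ ha'J, map_sum]
      refine Finset.sum_congr rfl (fun k _ => ?_)
      rw [map_mul, hba2, hba'2]
  | smul c a ha h =>
    intro n
    obtain ⟨b, hb1, hb2⟩ := h n
    have haJ : vS R N a ∈ J R N := mem_J R N ha
    refine ⟨c ^ n * b, fun hn => Ideal.mul_mem_left _ _ (hb1 hn), ?_⟩
    rw [smul_eq_mul, map_mul, map_mul, map_pow, (hJ R N).dpow_mul haJ, hb2]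

lemma hmem (n : ℕ) {a : PS R N} (ha : a ∈ IS R N) :
    ∃ (b : PS R N) (_ : n ≠ 0 → b ∈ IS R N), vS R N b = (hJ R N).dpow n (vS R N a) := by
  obtain ⟨b, h1, h2⟩ := aux R N ha n
  exact ⟨b, h1, h2⟩

/-- the divided power structure on the augmentation ideal of the generic model -/
noncomputable def hI : DividedPowers (IS R N) :=
  DividedPowers.ofInjective (IS R N) (J R N) (vS R N) (vS_injective R N) (hJ R N) rfl
    (fun n _ ha => hmem R N n ha)

lemma hI_spec (n : ℕ) {a : PS R N} (ha : a ∈ IS R N) :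
    vS R N ((hI R N).dpow n a) = (hJ R N).dpow n (vS R N a) := by
  have h : (hI R N).dpow n a = Exists.choose (hmem R N n ha) := by
    unfold hI DividedPowers.ofInjective
    simp only [dif_pos ha]
  rw [h]
  obtain ⟨_, h'⟩ := Exists.choose_spec (hmem R N n ha)
  exact h'

lemma hI_yS (i : Fin N) (n : ℕ) : (hI R N).dpow n (yS R N i 1) = yS R N i n := by
  apply vS_injective
  rw [hI_spec R N n (yS_mem_IS R N i le_rfl), vS_yS, vS_yS, dpowJ_y R N i n le_rfl,
    Nat.uniformBell_one_right, Nat.cast_one, one_mul, mul_one]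

lemma YS_mem_IS {e : Fin N →₀ ℕ} (he : e ≠ 0) : YS R N e ∈ IS R N := by
  obtain ⟨i, hi⟩ : ∃ i, e i ≠ 0 := by
    by_contra h
    push_neg at h
    exact he (Finsupp.ext h)
  rw [YS_eq_prod]
  exact Ideal.prod_mem _ (Finset.mem_univ i) (yS_mem_IS R N i (Nat.pos_of_ne_zero hi))

/-- the `S`-span of the nonconstant monomials -/
noncomputable def Wp : Submodule (S R) (PS R N) :=
  Submodule.span (S R) (YS R N '' {e | e ≠ 0})

lemma mul_mem_Wp (c : PS R N) {z : PS R N} (hz : z ∈ Wp R N) : c * z ∈ Wp R N := by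
  have hc : c ∈ Submodule.span (S R) (Set.range (YS R N)) := by rw [span_YS]; trivial
  unfold Wp at hz
  induction hc, hz using Submodule.span_induction₂ with
  | mem_mem x y hx hy =>
    obtain ⟨e, rfl⟩ := hx
    obtain ⟨f, hf, rfl⟩ := hy
    rw [YS_mul_YS]
    have hmem : YS R N (e + f) ∈ Submodule.span (S R) (YS R N '' {e | e ≠ 0}) := by
      refine Submodule.subset_span ⟨e + f, ?_, rfl⟩
      intro h
      apply hf
      refine Finsupp.ext (fun i => ?_)
      have := DFunLike.congr_fun h i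
      simp only [Finsupp.coe_add, Pi.add_apply, Finsupp.coe_zero, Pi.zero_apply] at this
      simp only [Finsupp.coe_zero, Pi.zero_apply]
      omega
    exact nsmul_mem hmem _
  | zero_left y hy => simp
  | zero_right x hx => simp
  | add_left x y z hx hy hz h1 h2 => rw [add_mul]; exact add_mem h1 h2
  | add_right x y z hx hy hz h1 h2 => rw [mul_add]; exact add_mem h1 h2
  | smul_left r x y hx hy h => rw [smul_mul_assoc]; exact Submodule.smul_mem _ _ h
  | smul_right r x y hx hy h => rw [mul_smul_comm]; exact Submodule.smul_mem _ _ h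

lemma IS_le_Wp {z : PS R N} (hz : z ∈ IS R N) : z ∈ Wp R N := by
  unfold IS at hz
  induction hz using Submodule.span_induction with
  | mem a h =>
    obtain ⟨i, n, hn, rfl⟩ := h
    refine Submodule.subset_span ⟨Finsupp.single i n, ?_, rfl⟩
    intro h
    have := DFunLike.congr_fun h i
    simp at this
    omega
  | zero => exact zero_mem _
  | add a a' _ _ h1 h2 => exact add_mem h1 h2
  | smul c a _ h => exact mul_mem_Wp R N c h

/-- generators of the kernel part -/
def G' : Set (PS R N) := {a | ∃ s : S R, ev R s = 0 ∧ ∃ e : Fin N →₀ ℕ, e ≠ 0 ∧ a = s • YS R N e}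

lemma G'_sub : G' R N ⊆ (IS R N : Set (PS R N)) := by
  rintro _ ⟨s, _, e, he, rfl⟩
  exact Submodule.smul_of_tower_mem _ s (YS_mem_IS R N he)

lemma smul_mem_spanG' {z : PS R N} (hz : z ∈ IS R N) {s : S R} (hs : ev R s = 0) :
    s • z ∈ Ideal.span (G' R N) := by
  have hz' := IS_le_Wp R N hz
  unfold Wp at hz'
  clear hz
  induction hz' using Submodule.span_induction with
  | mem a h =>
    obtain ⟨e, he, rfl⟩ := h
    exact Ideal.subset_span ⟨s, hs, e, he, rfl⟩
  | zero => rw [smul_zero]; exact zero_mem _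
  | add a a' _ _ h1 h2 => rw [smul_add]; exact add_mem h1 h2
  | smul t a _ h => rw [smul_comm]; exact Submodule.smul_of_tower_mem _ t h

lemma dpow_G'_mem {n : ℕ} (hn : n ≠ 0) {g : PS R N} (hg : g ∈ G' R N) :
    (hI R N).dpow n g ∈ Ideal.span (G' R N) := by
  obtain ⟨s, hs, e, he, rfl⟩ := hg
  rw [Algebra.smul_def, (hI R N).dpow_mul (YS_mem_IS R N he), ← map_pow, ← Algebra.smul_def]
  refine smul_mem_spanG' R N ((hI R N).dpow_mem hn (YS_mem_IS R N he)) ?_
  rw [map_pow, hs, zero_pow hn]

lemma isSubDPIdeal_spanG' : (hI R N).IsSubDPIdeal (Ideal.span (G' R N)) :=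
  ((hI R N).span_isSubDPIdeal_iff (G'_sub R N)).mpr (fun hn _ hg => dpow_G'_mem R N hn hg)

end Generic

end Groth.Agent.Lib.DPPoly3H3
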