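import Groth.Agent.Lib.DPPoly3_helper3

/-!
# Divided power polynomial algebras: existence and uniqueness of the DP structure (helper3)
-/

set_option autoImplicit false
open scoped BigOperators
open MvPolynomial

namespace Groth.Agent.Lib.DPPoly4H3

open Groth.Agent.Lib.DPPolyH3 Groth.Agent.Lib.DPPoly2H3 Groth.Agent.Lib.DPPoly3H3

universe u v

/-- Descent of divided powers along a surjection, stated so that the commutative-semiring
structure of the source is a free parameter (avoids expensive instance unification). -/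
lemma transfer {A : Type*} [cs : CommSemiring A] (cr : CommRing A) (h : cr.toCommSemiring = cs)
    {B : Type*} [CommRing B] {I : Ideal A} (hI : DividedPowers I) (f : A →+* B)
    (hf : Function.Surjective f) {J : Ideal B} (hIJ : J = I.map f)
    (hIf : hI.IsSubDPIdeal (RingHom.ker f ⊓ I)) :
    ∃ γ : DividedPowers J, ∀ (n : ℕ) (a : A), a ∈ I → γ.dpow n (f a) = f (hI.dpow n a) := by
  subst h
  exact ⟨DividedPowers.Quotient.OfSurjective.dividedPowers hI hf hIJ hIf,
    fun n a ha => DividedPowers.Quotient.OfSurjective.dpow_apply hI hf hIJ hIf ha⟩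

section
variable {R : Type u} [CommRing R] {N : ℕ} {P : Type v} [CommRing P] [Algebra R P]
  (x : Fin N → ℕ → P) (hx0 : ∀ i, x i 0 = 1)
  (hxmul : ∀ i n m, x i n * x i m = ((n + m).choose n : P) * x i (n + m))
  (b : Module.Basis (Fin N →₀ ℕ) R P) (hb : ∀ e, b e = Y x e)

include hx0 hxmul in
lemma map_IS : Ideal.span {y : P | ∃ (i : Fin N) (n : ℕ), 1 ≤ n ∧ y = x i n} =
    (IS R N).map (f (R := R) x hx0 hxmul) := by
  unfold IS
  rw [Ideal.map_span]
  congr 1
  ext p
  constructor
  · rintro ⟨i, n, hn, rfl⟩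
    exact ⟨yS R N i n, ⟨i, n, hn, rfl⟩, f_yS x hx0 hxmul i n⟩
  · rintro ⟨_, ⟨i, n, hn, rfl⟩, rfl⟩
    exact ⟨i, n, hn, (f_yS x hx0 hxmul i n)⟩

include hb in
lemma ker_inf_eq :
    RingHom.ker (f (R := R) x hx0 hxmul) ⊓ IS R N = Ideal.span (G' R N) := by
  apply le_antisymm
  · rintro a ⟨hak, haI⟩
    have h := IS_le_Wp R N haI
    unfold Wp at h
    rw [Finsupp.mem_span_image_iff_linearCombination] at h
    obtain ⟨l, hl, rfl⟩ := h
    rw [Finsupp.linearCombination_apply, Finsupp.sum] at hak ⊢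
    rw [SetLike.mem_coe, RingHom.mem_ker, map_sum] at hak
    simp only [f_smul, f_YS] at hak
    have hzero : ∀ e, ev R (l e) = 0 := by
      have h0 : Finsupp.linearCombination R b (l.mapRange (ev R) (map_zero _)) = 0 := by
        rw [Finsupp.linearCombination_apply,
          Finsupp.sum_mapRange_index (h := fun i a => a • b i) (fun _ => zero_smul _ _),
          Finsupp.sum]
        simp only [hb]
        exact hak
      have h1 := linearIndependent_iff.mp b.linearIndependent _ h0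
      intro e
      have h2 := DFunLike.congr_fun h1 e
      simpa using h2
    refine sum_mem (fun e he => ?_)
    refine Ideal.subset_span ⟨l e, hzero e, e, ?_, rfl⟩
    exact (Finsupp.mem_supported _ _).mp hl he
  · rw [Ideal.span_le]
    rintro _ ⟨s, hs, e, he, rfl⟩
    refine ⟨?_, G'_sub R N ⟨s, hs, e, he, rfl⟩⟩
    rw [SetLike.mem_coe, RingHom.mem_ker, f_smul, hs, zero_smul]

include hx0 hxmul in
/-- Existence of the divided power structure on the augmentation ideal. -/
theorem exists_dp (hb' : ∀ e : Fin N →₀ ℕ, b e = e.prod (fun i k => x i k)) :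
    ∃ γ : DividedPowers (Ideal.span {y : P | ∃ (i : Fin N) (n : ℕ), 1 ≤ n ∧ y = x i n}),
      ∀ (i : Fin N) (n : ℕ), γ.dpow n (x i 1) = x i n := by
  have hb : ∀ e, b e = Y x e := fun e => (hb' e).trans (prod_eq_Y x hx0 e)
  have hsurj := f_surjective (R := R) x hx0 hxmul b hb
  have hIf : (hI R N).IsSubDPIdeal (RingHom.ker (f (R := R) x hx0 hxmul) ⊓ IS R N) := by
    rw [ker_inf_eq x hx0 hxmul b hb]
    exact isSubDPIdeal_spanG' R N
  have hIJ := map_IS (R := R) x hx0 hxmul
  obtain ⟨γ, hγ⟩ := transfer (PS R N).toCommRing rfl (hI R N) _ hsurj hIJ hIf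
  refine ⟨γ, fun i n => ?_⟩
  have key := hγ n _ (yS_mem_IS R N i le_rfl)
  rw [hI_yS, f_yS, f_yS] at key
  exact key

omit [Algebra R P] in
/-- Uniqueness. -/
theorem unique_dp
    (γ γ' : DividedPowers (Ideal.span {y : P | ∃ (i : Fin N) (n : ℕ), 1 ≤ n ∧ y = x i n}))
    (h : ∀ (i : Fin N) (n : ℕ), γ.dpow n (x i 1) = x i n)
    (h' : ∀ (i : Fin N) (n : ℕ), γ'.dpow n (x i 1) = x i n) : γ = γ' := by
  symm
  refine DividedPowers.dpow_eq_from_gens γ γ' rfl ?_
  rintro n a ⟨i, m, hm, rfl⟩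
  have hx1 : x i 1 ∈ Ideal.span {y : P | ∃ (i : Fin N) (n : ℕ), 1 ≤ n ∧ y = x i n} :=
    Ideal.subset_span ⟨i, 1, le_rfl, rfl⟩
  have hm' : m ≠ 0 := by omega
  have e1 : γ.dpow n (x i m) = (Nat.uniformBell n m : P) * x i (n * m) := by
    conv_lhs => rw [← h i m]
    rw [γ.dpow_comp hm' hx1, h]
  have e2 : γ'.dpow n (x i m) = (Nat.uniformBell n m : P) * x i (n * m) := by
    conv_lhs => rw [← h' i m]
    rw [γ'.dpow_comp hm' hx1, h']
  rw [e1, e2]

end

end Groth.Agent.Lib.DPPoly4H3
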