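import Groth.Agent.Lib.DPModel_helper1
import Mathlib.RingTheory.TensorProduct.Free
import Mathlib.RingTheory.TensorProduct.Basic
import Mathlib.Algebra.Ring.PUnit

/-!
# Existence of a concrete divided power polynomial algebra over any ring

`DZ t` is the divided power polynomial ring `ℤ⟨X_1, …, X_t⟩` (as a subring of
`ℚ[X_1, …, X_t]`, obtained from the model of `DPModel_helper1` with trivial second component),
with its `ℤ`-basis of divided monomials; `DA A t := A ⊗[ℤ] DZ t` is its base change to `A`.
-/

set_option autoImplicit false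
set_option maxHeartbeats 1000000

universe u

namespace Groth.Agent.Lib.DPPolyExistH1

open scoped Nat TensorProduct
open Groth.Agent.Lib.DPModelH1 Groth.Agent.Lib.DPowExistsH1

section Int

variable (t : ℕ)

/-- the trivial families in the zero ring -/
def gU : Fin t → ℕ → PUnit.{1} := fun _ _ => PUnit.unit

/-- no polynomial variables -/
def vU : PEmpty.{1} → PUnit.{1} := fun e => PEmpty.elim e

theorem hgU : Hyp (gU t) := ⟨fun _ => Subsingleton.elim _ _, fun _ _ _ => Subsingleton.elim _ _⟩

/-- the divided power polynomial ring over `ℤ` -/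
abbrev DZ := BB vU (gU t) (hgU t)

/-- the divided monomials -/
noncomputable abbrev bz (e : Fin t →₀ ℕ) : DZ t := beta vU (gU t) (hgU t) (0, e)

/-- the divided powers of the variables -/
noncomputable abbrev uz (i : Fin t) (k : ℕ) : DZ t := UU vU (gU t) (hgU t) i k

theorem uz_zero (i : Fin t) : uz t i 0 = 1 := by
  show beta vU (gU t) (hgU t) (0, Finsupp.single i 0) = 1
  rw [Finsupp.single_zero]
  exact beta_zero vU (gU t) (hgU t)

theorem uz_mul (i : Fin t) (n m : ℕ) :
    uz t i n * uz t i m = ((n + m).choose n : DZ t) * uz t i (n + m) := by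
  show beta vU (gU t) (hgU t) (0, Finsupp.single i n) * beta vU (gU t) (hgU t)
    (0, Finsupp.single i m) = _
  rw [beta_mul]
  have hN : NN (Finsupp.single i n) (Finsupp.single i m) = (n + m).choose n := by
    unfold NN
    rw [Finset.prod_eq_single i]
    · rw [Finsupp.single_eq_same, Finsupp.single_eq_same]
    · intro s _ hs
      rw [Finsupp.single_apply, if_neg (Ne.symm hs), Finsupp.single_apply, if_neg (Ne.symm hs)]
      simp
    · intro h; exact absurd (Finset.mem_univ i) h
  have h2 : ((0, Finsupp.single i n) + (0, Finsupp.single i m) : Idx PEmpty.{1} (Fin t))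
      = (0, Finsupp.single i (n + m)) := by
    ext1
    · simp
    · exact (Finsupp.single_add i n m).symm
  rw [hN, h2]
  exact nsmul_eq_mul _ _

theorem bz_eq_prod (e : Fin t →₀ ℕ) : bz t e = e.prod (fun i k => uz t i k) := by
  refine Finsupp.induction e ?_ ?_
  · rw [Finsupp.prod_zero_index]; exact beta_zero vU (gU t) (hgU t)
  · intro a n f ha hn ih
    have hd : Disjoint (Finsupp.single a n).support f.support := by
      rw [Finsupp.support_single_ne_zero a hn, Finset.disjoint_singleton_left]; exact ha
    rw [Finsupp.prod_add_index_of_disjoint hd, Finsupp.prod_single_index (uz_zero t a), ← ih]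
    show beta vU (gU t) (hgU t) (0, Finsupp.single a n + f)
      = beta vU (gU t) (hgU t) (0, Finsupp.single a n) * beta vU (gU t) (hgU t) (0, f)
    rw [beta_mul]
    have hfa : f a = 0 := Finsupp.notMem_support_iff.mp ha
    have hN : NN (Finsupp.single a n) f = 1 := by
      unfold NN
      apply Finset.prod_eq_one
      intro s _
      by_cases hs : s = a
      · subst hs; simp [hfa]
      · rw [Finsupp.single_apply, if_neg (Ne.symm hs)]; simp
    have h2 : ((0, Finsupp.single a n) + (0, f) : Idx PEmpty.{1} (Fin t))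
        = (0, Finsupp.single a n + f) := by
      ext1
      · simp
      · rfl
    rw [hN, h2]
    exact (one_nsmul _).symm


theorem li_mm : LinearIndependent ℤ (mm : Idx PEmpty.{1} (Fin t) → QQ PEmpty.{1} (Fin t)) := by
  rw [linearIndependent_iff]
  intro l hl
  rw [Finsupp.linearCombination_apply] at hl
  exact sum_mm_eq_zero l hl

/-- `piB` as a `ℤ`-linear map -/
noncomputable def piLin : DZ t →ₗ[ℤ] QQ PEmpty.{1} (Fin t) :=
  (LinearMap.fst ℤ (QQ PEmpty.{1} (Fin t)) PUnit.{1}).comp
    (Bsub vU (gU t) (hgU t)).val.toLinearMap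

theorem piLin_beta : (⇑(piLin t) ∘ beta vU (gU t) (hgU t)) = mm := funext (fun _ => rfl)

theorem li_beta : LinearIndependent ℤ (beta vU (gU t) (hgU t)) := by
  apply LinearIndependent.of_comp (piLin t)
  rw [piLin_beta]
  exact li_mm t

theorem li_bz : LinearIndependent ℤ (bz t) := by
  have h := (li_beta t).comp (fun e : Fin t →₀ ℕ => ((0, e) : Idx PEmpty.{1} (Fin t)))
    (fun e e' h => congrArg Prod.snd h)
  exact h

theorem span_bz : ⊤ ≤ Submodule.span ℤ (Set.range (bz t)) := by
  intro w _
  obtain ⟨l, rfl⟩ := exists_repr vU (gU t) (hgU t) w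
  rw [Finsupp.sum]
  apply Submodule.sum_mem
  intro i _
  apply Submodule.smul_mem
  apply Submodule.subset_span
  refine ⟨i.2, ?_⟩
  have hi : i = (0, i.2) := Prod.ext (Subsingleton.elim _ _) rfl
  rw [hi]

/-- the `ℤ`-basis of divided monomials -/
noncomputable def bzBasis : Module.Basis (Fin t →₀ ℕ) ℤ (DZ t) :=
  Module.Basis.mk (li_bz t) (span_bz t)

theorem bzBasis_apply (e : Fin t →₀ ℕ) : bzBasis t e = bz t e := by
  unfold bzBasis
  rw [Module.Basis.mk_apply]

end Int

section Base

variable (A : Type u) [CommRing A] (t : ℕ)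

/-- the divided power polynomial algebra over `A` -/
abbrev DA := A ⊗[ℤ] DZ t

/-- the divided powers of the variables -/
noncomputable def xA (i : Fin t) (k : ℕ) : DA A t :=
  (Algebra.TensorProduct.includeRight : DZ t →ₐ[ℤ] A ⊗[ℤ] DZ t) (uz t i k)

/-- the basis of divided monomials -/
noncomputable def bA : Module.Basis (Fin t →₀ ℕ) A (DA A t) :=
  Algebra.TensorProduct.basis A (bzBasis t)

theorem xA_zero (i : Fin t) : xA A t i 0 = 1 := by
  unfold xA
  rw [uz_zero, map_one]

theorem xA_mul (i : Fin t) (n m : ℕ) :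
    xA A t i n * xA A t i m = ((n + m).choose n : DA A t) * xA A t i (n + m) := by
  unfold xA
  rw [← map_mul, uz_mul, map_mul, map_natCast]

theorem bA_eq (e : Fin t →₀ ℕ) : bA A t e = e.prod (fun i k => xA A t i k) := by
  unfold bA xA
  rw [Algebra.TensorProduct.basis_apply, bzBasis_apply, bz_eq_prod,
    ← map_finsuppProd (Algebra.TensorProduct.includeRight : DZ t →ₐ[ℤ] A ⊗[ℤ] DZ t)]
  rfl

end Base

end Groth.Agent.Lib.DPPolyExistH1
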