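import Mathlib

namespace Groth.Agent.Lib.DPPolyUniv

universe u v w

theorem prod_single_apply {N : ℕ} {M : Type*} [CommMonoid M] (g : Fin N → ℕ → M)
    (hg : ∀ j, g j 0 = 1) (i : Fin N) (n : ℕ) :
    ∏ j, g j ((Finsupp.single i n : Fin N →₀ ℕ) j) = g i n := by
  rw [Finset.prod_eq_single i]
  · rw [Finsupp.single_eq_same]
  · intro j _ hj
    rw [Finsupp.single_apply, if_neg (Ne.symm hj), hg]
  · intro h; exact absurd (Finset.mem_univ _) h

theorem main (R : Type u) [CommRing R] (N : ℕ)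
    (P : Type v) [CommRing P] [Algebra R P] (x : Fin N → ℕ → P)
    (hx0 : ∀ i, x i 0 = 1)
    (hxmul : ∀ i n m, x i n * x i m = ((n + m).choose n : P) * x i (n + m))
    (b : Module.Basis (Fin N →₀ ℕ) R P) (hb : ∀ e : Fin N →₀ ℕ, b e = e.prod (fun i k => x i k))
    (γ : DividedPowers (Ideal.span {y : P | ∃ (i : Fin N) (n : ℕ), 1 ≤ n ∧ y = x i n}))
    (hγ : ∀ (i : Fin N) (n : ℕ), γ.dpow n (x i 1) = x i n)
    (S : Type w) [CommRing S] [Algebra R S] (J : Ideal S) (δ : DividedPowers J)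
    (s : Fin N → S) (hs : ∀ i, s i ∈ J) :
    ∃! φ : P →ₐ[R] S, γ.IsDPMorphism δ φ.toRingHom ∧ ∀ i, φ (x i 1) = s i := by
  classical
  have hb' : ∀ e : Fin N →₀ ℕ, b e = ∏ i, x i (e i) := fun e => by
    rw [hb, Finsupp.prod_fintype _ _ (fun i => hx0 i)]
  have hxmem : ∀ i n, 1 ≤ n →
      x i n ∈ Ideal.span {y : P | ∃ (i : Fin N) (n : ℕ), 1 ≤ n ∧ y = x i n} :=
    fun i n hn => Ideal.subset_span ⟨i, n, hn, rfl⟩
  obtain ⟨t, ht⟩ : ∃ t : (Fin N →₀ ℕ) → S, t = fun e => ∏ i, δ.dpow (e i) (s i) := ⟨_, rfl⟩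
  obtain ⟨L, hL⟩ : ∃ L : P →ₗ[R] S, L = b.constr R t := ⟨_, rfl⟩
  have hLb : ∀ e, L (b e) = ∏ i, δ.dpow (e i) (s i) := fun e => by
    rw [hL, Module.Basis.constr_basis, ht]
  have h1 : ∀ e e', L (b e * b e') = L (b e) * L (b e') := by
    intro e e'
    have hP : b e * b e' = ((∏ i, (e i + e' i).choose (e i) : ℕ)) • b (e + e') := by
      rw [hb', hb', hb', ← Finset.prod_mul_distrib, nsmul_eq_mul, Nat.cast_prod,
        ← Finset.prod_mul_distrib]
      apply Finset.prod_congr rfl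
      intro i _
      rw [hxmul, Finsupp.add_apply]
    rw [hP, map_nsmul, hLb, hLb, hLb, ← Finset.prod_mul_distrib, nsmul_eq_mul, Nat.cast_prod,
      ← Finset.prod_mul_distrib]
    apply Finset.prod_congr rfl
    intro i _
    rw [δ.mul_dpow (hs i), Finsupp.add_apply]
  have h2 : ∀ e q, L (b e * q) = L (b e) * L q := by
    intro e q
    have h := b.ext (f₁ := L ∘ₗ LinearMap.mulLeft R (b e))
      (f₂ := LinearMap.mulLeft R (L (b e)) ∘ₗ L) (fun e' => by simpa using h1 e e')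
    simpa using LinearMap.congr_fun h q
  have h3 : ∀ p q, L (p * q) = L p * L q := by
    intro p q
    have h := b.ext (f₁ := L ∘ₗ LinearMap.mulRight R q)
      (f₂ := LinearMap.mulRight R (L q) ∘ₗ L) (fun e => by simpa using h2 e q)
    simpa using LinearMap.congr_fun h p
  have hL1 : L 1 = 1 := by
    have h0 : (1 : P) = b 0 := by rw [hb']; simp [hx0]
    rw [h0, hLb]
    apply Finset.prod_eq_one
    intro i _
    rw [Finsupp.zero_apply]
    exact δ.dpow_zero (hs i)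
  obtain ⟨φ, hφ⟩ : ∃ φ : P →ₐ[R] S, φ = AlgHom.ofLinearMap L hL1 h3 := ⟨_, rfl⟩
  have hφL : ∀ p, φ p = L p := fun p => by rw [hφ]; rfl
  have hxb : ∀ i n, x i n = b (Finsupp.single i n) := fun i n => by
    rw [hb', prod_single_apply x hx0 i n]
  have hφx : ∀ i n, φ (x i n) = δ.dpow n (s i) := fun i n => by
    rw [hφL, hxb, hLb]
    exact prod_single_apply (fun j k => δ.dpow k (s j)) (fun j => δ.dpow_zero (hs j)) i n
  have hDP : γ.IsDPMorphism δ φ.toRingHom := by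
    apply DividedPowers.IsDPMorphism.on_span γ δ rfl
    · rintro _ ⟨i, n, hn, rfl⟩
      show φ (x i n) ∈ J
      rw [hφx]
      exact δ.dpow_mem (by omega) (hs i)
    · intro m a ha
      obtain ⟨i, n, hn, rfl⟩ := ha
      show φ (γ.dpow m (x i n)) = δ.dpow m (φ (x i n))
      have hn0 : n ≠ 0 := by omega
      rw [← hγ i n, γ.dpow_comp hn0 (hxmem i 1 le_rfl), hγ, hγ, map_mul, map_natCast, hφx, hφx,
        δ.dpow_comp hn0 (hs i)]
  refine ⟨φ, ⟨hDP, fun i => by rw [hφx, δ.dpow_one (hs i)]⟩, ?_⟩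
  rintro ψ ⟨hψDP, hψx⟩
  have hψxn : ∀ i n, ψ (x i n) = δ.dpow n (s i) := fun i n => by
    have h := hψDP.map_dpow (n := n) (hxmem i 1 le_rfl)
    rw [hγ] at h
    have h' : ψ (x i n) = δ.dpow n (ψ (x i 1)) := h
    rw [h', hψx]
  apply AlgHom.toLinearMap_injective
  apply b.ext
  intro e
  show ψ (b e) = φ (b e)
  rw [hφL, hLb, hb', map_prod]
  apply Finset.prod_congr rfl
  intro i _
  exact hψxn i (e i)

end Groth.Agent.Lib.DPPolyUniv
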