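import Mathlib.RingTheory.DividedPowers.Basic
import Mathlib.RingTheory.Ideal.Maps

/-!
# Transfer of divided powers along a surjection (commutative semiring version)

A version of `DividedPowers.Quotient.OfSurjective.dividedPowers` where the sub-dp-ideal
hypothesis is replaced by the congruence condition
`f a = f b → f (dpow n a) = f (dpow n b)` (for `a b ∈ I`), and which only needs commutative
semirings (so that no instance path through `CommRing` is forced).
-/

set_option autoImplicit false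

namespace Groth.Agent.Lib.DPQuotH1

open Ideal

section Gen

variable {A : Type*} [CommSemiring A] {I : Ideal A} (hI : DividedPowers I)
  {B : Type*} [CommSemiring B] (f : A →+* B)

/-- the transported divided power maps -/
noncomputable def qdpow : ℕ → B → B := fun n ↦
  Function.extend (fun a ↦ f a : I → B) (fun a ↦ f (hI.dpow n a) : I → B) 0

variable {f}

theorem qdpow_apply
    (hc : ∀ (n : ℕ) (a b : A), a ∈ I → b ∈ I → f a = f b → f (hI.dpow n a) = f (hI.dpow n b))
    {n : ℕ} {a : A} (ha : a ∈ I) : qdpow hI f n (f a) = f (hI.dpow n a) := by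
  classical
  simp only [qdpow, Function.extend_def]
  have h : ∃ (a_1 : I), f ↑a_1 = f a := ⟨⟨a, ha⟩, rfl⟩
  rw [dif_pos h]
  exact hc n _ _ (Submodule.coe_mem _) ha h.choose_spec

variable (hf : Function.Surjective f) {J : Ideal B} (hIJ : J = I.map f)
  (hc : ∀ (n : ℕ) (a b : A), a ∈ I → b ∈ I → f a = f b → f (hI.dpow n a) = f (hI.dpow n b))

/-- the transported divided power structure -/
noncomputable def qdp : DividedPowers J where
  dpow := qdpow hI f
  dpow_null n {x} hx' := by
    classical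
    rw [qdpow, Function.extend_def, dif_neg, Pi.zero_apply]
    rintro ⟨⟨a, ha⟩, rfl⟩
    exact (hIJ ▸ hx') (apply_coe_mem_map f I ⟨a, ha⟩)
  dpow_zero {x} hx := by
    obtain ⟨a, ha, rfl⟩ := (mem_map_iff_of_surjective f hf).mp (hIJ ▸ hx)
    rw [qdpow_apply hI hc ha, hI.dpow_zero ha, map_one]
  dpow_one {x} hx := by
    obtain ⟨a, ha, hax⟩ := (mem_map_iff_of_surjective f hf).mp (hIJ ▸ hx)
    rw [← hax, qdpow_apply hI hc ha, hI.dpow_one ha]
  dpow_mem {n x} hn hx := by
    rw [hIJ] at hx ⊢
    obtain ⟨a, ha, rfl⟩ := (mem_map_iff_of_surjective f hf).mp hx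
    rw [qdpow_apply hI hc ha]
    exact mem_map_of_mem _ (hI.dpow_mem hn ha)
  dpow_add hx hy := by
    obtain ⟨a, ha, rfl⟩ := (mem_map_iff_of_surjective f hf).mp (hIJ ▸ hx)
    obtain ⟨b, hb, rfl⟩ := (mem_map_iff_of_surjective f hf).mp (hIJ ▸ hy)
    rw [← map_add, qdpow_apply hI hc (I.add_mem ha hb), hI.dpow_add ha hb, map_sum,
      Finset.sum_congr rfl]
    exact fun k _ ↦ by rw [qdpow_apply hI hc ha, qdpow_apply hI hc hb, ← _root_.map_mul]
  dpow_mul {n x y} hy := by
    obtain ⟨a, rfl⟩ := hf x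
    obtain ⟨b, hb, rfl⟩ := (mem_map_iff_of_surjective f hf).mp (hIJ ▸ hy)
    rw [qdpow_apply hI hc hb, ← _root_.map_mul, ← map_pow,
      qdpow_apply hI hc (mul_mem_left I a hb), hI.dpow_mul hb, _root_.map_mul]
  mul_dpow hx := by
    obtain ⟨a, ha, rfl⟩ := (mem_map_iff_of_surjective f hf).mp (hIJ ▸ hx)
    simp only [qdpow_apply hI hc ha]
    rw [← _root_.map_mul, hI.mul_dpow ha, _root_.map_mul, map_natCast]
  dpow_comp hn hx := by
    obtain ⟨a, ha, rfl⟩ := (mem_map_iff_of_surjective f hf).mp (hIJ ▸ hx)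
    simp only [qdpow_apply hI hc, ha, hI.dpow_mem hn ha]
    rw [hI.dpow_comp hn ha, _root_.map_mul, map_natCast]

theorem qdp_apply {n : ℕ} {a : A} (ha : a ∈ I) :
    (qdp hI hf hIJ hc).dpow n (f a) = f (hI.dpow n a) :=
  qdpow_apply hI hc ha

end Gen

end Groth.Agent.Lib.DPQuotH1
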