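import Groth.Agent.Lib.DPModel_helper1
import Mathlib.RingTheory.DividedPowers.SubDPIdeal
import Groth.Agent.Lib.DPQuot_helper1

/-!
# The divided power structure on the augmentation ideal of a divided power polynomial algebra
(S18420)
-/

set_option autoImplicit false
set_option maxHeartbeats 1000000

universe u v

namespace Groth.Agent.Lib.DPPolyH1

open scoped Nat
open Groth.Agent.Lib.DPModelH1 Groth.Agent.Lib.DPowExistsH1

/-- the values of the polynomial variables -/
noncomputable def vR (R : Type u) [CommRing R] (P : Type v) [CommRing P] [Algebra R P] : R → P :=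
  fun r => algebraMap R P r

noncomputable def rr {R : Type u} [CommRing R] (α : R →₀ ℕ) : R := α.prod fun r n => r ^ n

theorem rr_zero {R : Type u} [CommRing R] : rr (0 : R →₀ ℕ) = 1 := by
  unfold rr; exact Finsupp.prod_zero_index

theorem rr_single {R : Type u} [CommRing R] (r : R) : rr (Finsupp.single r 1) = r := by
  unfold rr
  rw [Finsupp.prod_single_index (pow_zero _), pow_one]

section

variable (R : Type u) [CommRing R] {N : ℕ} {P : Type v} [CommRing P] [Algebra R P]
  (x : Fin N → ℕ → P) (hyp : Hyp x)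

theorem vv_eq (α : R →₀ ℕ) : vv (vR R P) α = algebraMap R P (rr α) := by
  unfold vv rr vR
  rw [map_finsuppProd]
  apply Finsupp.prod_congr
  intro r _
  rw [map_pow]

theorem gσ_eq (hyp : Hyp x) (b : Module.Basis (Fin N →₀ ℕ) R P)
    (hb : ∀ e : Fin N →₀ ℕ, b e = e.prod (fun i k => x i k)) (e : Fin N →₀ ℕ) :
    gσ x e = b e := by
  rw [hb e]
  unfold gσ
  exact (Finsupp.prod_fintype e _ (fun i => hyp.zero i)).symm

abbrev Bm := BB (vR R P) x hyp
noncomputable abbrev Phi : Bm R x hyp →+* P := phiB (vR R P) x hyp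
noncomputable abbrev Pi : Bm R x hyp →+* QQ R (Fin N) := piB (vR R P) x hyp
noncomputable abbrev I0 : Ideal (Bm R x hyp) := JJ (vR R P) x hyp
noncomputable abbrev G0 : DividedPowers (I0 R x hyp) := gammaB (vR R P) x hyp
noncomputable abbrev bet (i : Idx R (Fin N)) : Bm R x hyp := beta (vR R P) x hyp i
noncomputable abbrev Us (s : Fin N) (k : ℕ) : Bm R x hyp := UU (vR R P) x hyp s k

theorem exists_repr' (z : Bm R x hyp) :
    ∃ l : Idx R (Fin N) →₀ ℤ,
      z = ∑ i ∈ l.support, ((l i : ℤ) : Bm R x hyp) * bet R x hyp i := by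
  obtain ⟨l, hl⟩ := exists_repr (vR R P) x hyp z
  refine ⟨l, ?_⟩
  rw [hl, Finsupp.sum]
  apply Finset.sum_congr rfl
  intro i _
  exact zsmul_eq_mul (bet R x hyp i) (l i)

theorem Phi_bet (b : Module.Basis (Fin N →₀ ℕ) R P)
    (hb : ∀ e : Fin N →₀ ℕ, b e = e.prod (fun i k => x i k))
    (α : R →₀ ℕ) (e : Fin N →₀ ℕ) :
    Phi R x hyp (bet R x hyp (α, e)) = rr α • b e := by
  show vv (vR R P) α * gσ x e = _
  rw [vv_eq R, gσ_eq R x hyp b hb, Algebra.smul_def]

theorem Phi_surjective (b : Module.Basis (Fin N →₀ ℕ) R P)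
    (hb : ∀ e : Fin N →₀ ℕ, b e = e.prod (fun i k => x i k)) :
    Function.Surjective (Phi R x hyp) := by
  intro y
  refine ⟨∑ e ∈ (b.repr y).support, bet R x hyp (Finsupp.single (b.repr y e) 1, e), ?_⟩
  rw [map_sum]
  conv_rhs => rw [← b.linearCombination_repr y, Finsupp.linearCombination_apply, Finsupp.sum]
  apply Finset.sum_congr rfl
  intro e _
  rw [Phi_bet R x hyp b hb, rr_single]

theorem I0_map :
    Ideal.span {y : P | ∃ (i : Fin N) (n : ℕ), 1 ≤ n ∧ y = x i n}
      = (I0 R x hyp).map (Phi R x hyp) := by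
  unfold I0 JJ
  rw [Ideal.map_span]
  congr 1
  ext y
  constructor
  · rintro ⟨i, n, hn, rfl⟩
    exact ⟨Us R x hyp i n, ⟨i, n, hn, rfl⟩, phi_UU (vR R P) x hyp i n⟩
  · rintro ⟨_, ⟨i, n, hn, rfl⟩, rfl⟩
    exact ⟨i, n, hn, phi_UU (vR R P) x hyp i n⟩

/-- the augmentation -/
noncomputable def aug : Bm R x hyp →+* MvPolynomial R ℚ :=
  (MvPolynomial.constantCoeff).comp (Pi R x hyp)

theorem aug_bet (α : R →₀ ℕ) (e : Fin N →₀ ℕ) :
    aug R x hyp (bet R x hyp (α, e))
      = if e = 0 then MvPolynomial.monomial α (cc e) else 0 := by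
  unfold aug
  rw [RingHom.comp_apply]
  show MvPolynomial.constantCoeff (mm ((α, e) : Idx R (Fin N))) = _
  unfold mm
  rw [MvPolynomial.constantCoeff_monomial]

theorem aug_I0 {z : Bm R x hyp} (hz : z ∈ I0 R x hyp) : aug R x hyp z = 0 := by
  have hle : I0 R x hyp ≤ RingHom.ker (aug R x hyp) := by
    unfold I0 JJ
    rw [Ideal.span_le]
    rintro _ ⟨s, k, hk, rfl⟩
    rw [SetLike.mem_coe, RingHom.mem_ker]
    show aug R x hyp (bet R x hyp (0, Finsupp.single s k)) = 0
    rw [aug_bet, if_neg]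
    intro h
    have := congrArg (fun f => f s) h
    simp at this
    omega
  exact RingHom.mem_ker.mp (hle hz)

theorem bet_mul_bet (α : R →₀ ℕ) (e : Fin N →₀ ℕ) :
    bet R x hyp (α, 0) * bet R x hyp (0, e) = bet R x hyp (α, e) := by
  rw [beta_mul]
  have h1 : NN (0 : Fin N →₀ ℕ) e = 1 := by
    unfold NN
    apply Finset.prod_eq_one
    intro s _
    simp
  have h2 : ((α, 0) + (0, e) : Idx R (Fin N)) = (α, e) := by
    ext <;> simp
  rw [h1, one_smul, h2]

theorem bet_zero : bet R x hyp (0, 0) = 1 := beta_zero (vR R P) x hyp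

theorem bet_mem_I0 {e : Fin N →₀ ℕ} (he : e ≠ 0) : bet R x hyp (0, e) ∈ I0 R x hyp := by
  obtain ⟨s, hs⟩ : ∃ s, e s ≠ 0 := by
    by_contra h
    push Not at h
    exact he (Finsupp.ext h)
  have h1 : bet R x hyp (0, Finsupp.single s (e s)) * bet R x hyp (0, e.erase s)
      = bet R x hyp (0, e) := by
    rw [beta_mul]
    have hN : NN (Finsupp.single s (e s)) (e.erase s) = 1 := by
      unfold NN
      apply Finset.prod_eq_one
      intro t _
      by_cases hts : t = s
      · subst hts; simp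
      · rw [Finsupp.single_apply, if_neg (Ne.symm hts)]; simp
    have h2 : ((0, Finsupp.single s (e s)) + (0, e.erase s) : Idx R (Fin N)) = (0, e) := by
      ext1
      · simp
      · exact Finsupp.single_add_erase s e
    rw [hN, one_smul, h2]
  rw [← h1]
  exact (I0 R x hyp).mul_mem_right _ (UU_mem (vR R P) x hyp s (Nat.one_le_iff_ne_zero.mpr hs))

/-- the good set: elements of `I0` all of whose positive divided powers die in `P` -/
def Good (w : Bm R x hyp) : Prop :=
  w ∈ I0 R x hyp ∧ ∀ n : ℕ, n ≠ 0 → Phi R x hyp ((G0 R x hyp).dpow n w) = 0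

theorem good_zero : Good R x hyp 0 :=
  ⟨(I0 R x hyp).zero_mem, fun n hn => by rw [(G0 R x hyp).dpow_eval_zero hn, map_zero]⟩

theorem good_add {w w' : Bm R x hyp} (hw : Good R x hyp w) (hw' : Good R x hyp w') :
    Good R x hyp (w + w') := by
  refine ⟨(I0 R x hyp).add_mem hw.1 hw'.1, fun n hn => ?_⟩
  rw [(G0 R x hyp).dpow_add hw.1 hw'.1, map_sum]
  apply Finset.sum_eq_zero
  intro k hk
  rw [Finset.mem_antidiagonal] at hk
  rw [map_mul]
  by_cases h1 : k.1 = 0
  · have h2 : k.2 ≠ 0 := by omega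
    rw [hw'.2 k.2 h2, mul_zero]
  · rw [hw.2 k.1 h1, zero_mul]

theorem good_sum {ι : Type*} (s : Finset ι) (f : ι → Bm R x hyp)
    (h : ∀ i ∈ s, Good R x hyp (f i)) : Good R x hyp (∑ i ∈ s, f i) := by
  classical
  induction s using Finset.induction_on with
  | empty => rw [Finset.sum_empty]; exact good_zero R x hyp
  | insert a s ha ih =>
    rw [Finset.sum_insert ha]
    exact good_add R x hyp (h a (Finset.mem_insert_self a s))
      (ih (fun i hi => h i (Finset.mem_insert_of_mem hi)))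

theorem good_mul {t y : Bm R x hyp} (ht : Phi R x hyp t = 0) (hy : y ∈ I0 R x hyp) :
    Good R x hyp (t * y) := by
  refine ⟨(I0 R x hyp).mul_mem_left _ hy, fun n hn => ?_⟩
  rw [(G0 R x hyp).dpow_mul hy, map_mul, map_pow, ht, zero_pow hn, zero_mul]


open Classical in
/-- the key point: the kernel of `Phi` meets `I0` in a sub-dp-ideal -/
theorem good_of_ker (b : Module.Basis (Fin N →₀ ℕ) R P)
    (hb : ∀ e : Fin N →₀ ℕ, b e = e.prod (fun i k => x i k))
    {z : Bm R x hyp} (hz : z ∈ I0 R x hyp) (hz0 : Phi R x hyp z = 0) :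
    Good R x hyp z := by
  obtain ⟨l, hl⟩ := exists_repr' R x hyp z
  set E : Finset (Fin N →₀ ℕ) := l.support.image Prod.snd with hE
  -- the `T`-coefficient of the `e`-part
  let t : (Fin N →₀ ℕ) → Bm R x hyp := fun e =>
    ∑ j ∈ l.support.filter (fun j => j.2 = e), ((l j : ℤ) : Bm R x hyp) * bet R x hyp (j.1, 0)
  let ρ : (Fin N →₀ ℕ) → R := fun e =>
    ∑ j ∈ l.support.filter (fun j => j.2 = e), ((l j : ℤ) : R) * rr j.1
  have hz_sum : z = ∑ e ∈ E, t e * bet R x hyp (0, e) := by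
    rw [hl, ← Finset.sum_fiberwise_of_maps_to (s := l.support) (t := E) (g := Prod.snd)
      (fun j hj => Finset.mem_image_of_mem _ hj)]
    apply Finset.sum_congr rfl
    intro e _
    show _ = (∑ j ∈ l.support.filter (fun j => j.2 = e),
      ((l j : ℤ) : Bm R x hyp) * bet R x hyp (j.1, 0)) * bet R x hyp (0, e)
    rw [Finset.sum_mul]
    apply Finset.sum_congr rfl
    intro j hj
    rw [Finset.mem_filter] at hj
    rw [mul_assoc, bet_mul_bet, ← hj.2]
  have hb0 : b (0 : Fin N →₀ ℕ) = 1 := by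
    rw [← gσ_eq R x hyp b hb, gσ_zero x hyp.zero]
  have hPhi_t : ∀ e, Phi R x hyp (t e) = algebraMap R P (ρ e) := by
    intro e
    show Phi R x hyp (∑ j ∈ l.support.filter (fun j => j.2 = e),
        ((l j : ℤ) : Bm R x hyp) * bet R x hyp (j.1, 0))
      = algebraMap R P (∑ j ∈ l.support.filter (fun j => j.2 = e), ((l j : ℤ) : R) * rr j.1)
    rw [map_sum, map_sum]
    apply Finset.sum_congr rfl
    intro j _
    rw [map_mul, map_intCast, map_mul, map_intCast, Phi_bet R x hyp b hb, hb0, Algebra.smul_def,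
      mul_one]
  -- the images of the `ρ e` vanish
  have hρ : ∀ e ∈ E, ρ e = 0 := by
    have h0 : ∑ e ∈ E, ρ e • b e = 0 := by
      have h1 : Phi R x hyp z = ∑ e ∈ E, ρ e • b e := by
        rw [hz_sum, map_sum]
        apply Finset.sum_congr rfl
        intro e _
        rw [map_mul, hPhi_t, Phi_bet R x hyp b hb, rr_zero, one_smul, Algebra.smul_def]
      rw [← h1, hz0]
    exact (linearIndependent_iff'.mp b.linearIndependent) E ρ h0
  -- the part of degree `0` vanishes
  have ht0 : t 0 = 0 := by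
    apply piB_injective (vR R P) x hyp
    rw [map_zero]
    have haug : aug R x hyp z = aug R x hyp (t 0) := by
      rw [hz_sum, map_sum]
      by_cases h0E : (0 : Fin N →₀ ℕ) ∈ E
      · rw [Finset.sum_eq_single_of_mem 0 h0E]
        · rw [bet_zero, mul_one]
        · intro e _ he
          rw [map_mul, aug_bet, if_neg he, mul_zero]
      · have ht : t 0 = 0 := by
          apply Finset.sum_eq_zero
          intro j hj
          rw [Finset.mem_filter] at hj
          exact absurd (hE ▸ Finset.mem_image.mpr ⟨j, hj.1, hj.2⟩) h0E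
        rw [ht, map_zero]
        apply Finset.sum_eq_zero
        intro e heE
        have he : e ≠ 0 := fun h => h0E (h ▸ heE)
        rw [map_mul, aug_bet, if_neg he, mul_zero]
    have hC : Pi R x hyp (t 0) = MvPolynomial.C (aug R x hyp (t 0)) := by
      show Pi R x hyp (∑ j ∈ l.support.filter (fun j => j.2 = 0),
          ((l j : ℤ) : Bm R x hyp) * bet R x hyp (j.1, 0))
        = MvPolynomial.C (aug R x hyp
          (∑ j ∈ l.support.filter (fun j => j.2 = 0),
            ((l j : ℤ) : Bm R x hyp) * bet R x hyp (j.1, 0)))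
      rw [map_sum, map_sum, map_sum]
      apply Finset.sum_congr rfl
      intro j _
      rw [map_mul, map_intCast, map_mul, map_intCast, aug_bet R x hyp j.1 0, if_pos rfl,
        map_mul, map_intCast]
      congr 1
    rw [hC, ← haug, aug_I0 R x hyp hz, map_zero]
  rw [hz_sum]
  apply good_sum
  intro e heE
  by_cases he : e = 0
  · rw [he, ht0, zero_mul]; exact good_zero R x hyp
  · refine good_mul R x hyp ?_ (bet_mem_I0 R x hyp he)
    rw [hPhi_t, hρ e heE, map_zero]

theorem isSubDP (b : Module.Basis (Fin N →₀ ℕ) R P)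
    (hb : ∀ e : Fin N →₀ ℕ, b e = e.prod (fun i k => x i k)) :
    (G0 R x hyp).IsSubDPIdeal (RingHom.ker (Phi R x hyp) ⊓ I0 R x hyp) where
  isSubideal := inf_le_right
  dpow_mem := by
    intro n hn j hj
    obtain ⟨hj1, hj2⟩ := Ideal.mem_inf.mp hj
    have hgood := good_of_ker R x hyp b hb hj2 (RingHom.mem_ker.mp hj1)
    exact Ideal.mem_inf.mpr ⟨RingHom.mem_ker.mpr (hgood.2 n hn), (G0 R x hyp).dpow_mem hn hj2⟩


theorem cong_of_good (b : Module.Basis (Fin N →₀ ℕ) R P)
    (hb : ∀ e : Fin N →₀ ℕ, b e = e.prod (fun i k => x i k))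
    {a a' : Bm R x hyp} (ha : a ∈ I0 R x hyp) (ha' : a' ∈ I0 R x hyp)
    (h : Phi R x hyp a = Phi R x hyp a') (n : ℕ) :
    Phi R x hyp ((G0 R x hyp).dpow n a) = Phi R x hyp ((G0 R x hyp).dpow n a') := by
  have hd : a' + (-1) * a ∈ I0 R x hyp :=
    (I0 R x hyp).add_mem ha' ((I0 R x hyp).mul_mem_left _ ha)
  have hneg : Phi R x hyp (-1) = -1 := by
    have h1 := map_neg (Phi R x hyp) 1
    rw [map_one] at h1
    exact h1
  have hg := good_of_ker R x hyp b hb hd (by rw [map_add, map_mul, hneg, h]; ring)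
  have e : a' = a + (a' + (-1) * a) := by ring
  rw [e, (G0 R x hyp).dpow_add ha hd, map_sum, Finset.sum_eq_single (n, 0)]
  · rw [map_mul, (G0 R x hyp).dpow_zero hd, map_one, mul_one]
  · intro k hk hne
    rw [Finset.mem_antidiagonal] at hk
    have h2 : k.2 ≠ 0 := by
      intro h0
      apply hne
      ext
      · show k.1 = n
        omega
      · exact h0
    rw [map_mul, hg.2 k.2 h2, mul_zero]
  · intro hn
    exfalso
    apply hn
    rw [Finset.mem_antidiagonal]
    exact Nat.add_zero n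

theorem exists_dp (hyp : Hyp x) (b : Module.Basis (Fin N →₀ ℕ) R P)
    (hb : ∀ e : Fin N →₀ ℕ, b e = e.prod (fun i k => x i k)) :
    ∃ γ : DividedPowers (Ideal.span {y : P | ∃ (i : Fin N) (n : ℕ), 1 ≤ n ∧ y = x i n}),
      ∀ (i : Fin N) (n : ℕ), γ.dpow n (x i 1) = x i n := by
  have hc : ∀ (n : ℕ) (a a' : Bm R x hyp), a ∈ I0 R x hyp → a' ∈ I0 R x hyp →
      Phi R x hyp a = Phi R x hyp a' →
      Phi R x hyp ((G0 R x hyp).dpow n a) = Phi R x hyp ((G0 R x hyp).dpow n a') :=
    fun n a a' ha ha' h => cong_of_good R x hyp b hb ha ha' h n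
  refine ⟨Groth.Agent.Lib.DPQuotH1.qdp (G0 R x hyp)
    (Phi_surjective R x hyp b hb) (I0_map R x hyp) hc, ?_⟩
  intro i n
  have h1 := Groth.Agent.Lib.DPQuotH1.qdp_apply (G0 R x hyp)
    (Phi_surjective R x hyp b hb) (I0_map R x hyp) hc
    (UU_mem (vR R P) x hyp i (le_refl 1)) (n := n)
  rw [phi_UU, gammaB_UU (vR R P) x hyp i (le_refl 1) n, Nat.uniformBell_one_right, Nat.cast_one,
    one_mul, mul_one, phi_UU] at h1
  exact h1

end

theorem main (R : Type u) [CommRing R] (N : ℕ)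
    (P : Type v) [CommRing P] [Algebra R P] (x : Fin N → ℕ → P)
    (hx0 : ∀ i, x i 0 = 1)
    (hxmul : ∀ i n m, x i n * x i m = ((n + m).choose n : P) * x i (n + m))
    (b : Module.Basis (Fin N →₀ ℕ) R P) (hb : ∀ e : Fin N →₀ ℕ, b e = e.prod (fun i k => x i k)) :
    ∃! γ : DividedPowers (Ideal.span {y : P | ∃ (i : Fin N) (n : ℕ), 1 ≤ n ∧ y = x i n}),
      ∀ (i : Fin N) (n : ℕ), γ.dpow n (x i 1) = x i n := by
  have hyp : Hyp x := ⟨hx0, hxmul⟩
  obtain ⟨γ, hγ⟩ := exists_dp R x hyp b hb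
  refine ⟨γ, hγ, ?_⟩
  intro γ' hγ'
  apply DividedPowers.dpow_eq_from_gens γ γ' rfl
  rintro n _ ⟨i, k, hk, rfl⟩
  have hk0 : k ≠ 0 := by omega
  have hmem : x i 1 ∈ Ideal.span {y : P | ∃ (i : Fin N) (n : ℕ), 1 ≤ n ∧ y = x i n} :=
    Ideal.subset_span ⟨i, 1, le_rfl, rfl⟩
  rw [← hγ i k, γ.dpow_comp hk0 hmem, hγ i (n * k), hγ i k, ← hγ' i k, γ'.dpow_comp hk0 hmem,
    hγ' i (n * k)]

end Groth.Agent.Lib.DPPolyH1
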