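import Groth.Agent.Lib.DPPolyExist_helper1
import Groth.Agent.Lib.DPPoly_helper1
import Groth.Agent.Lib.DPCompat_helper1
import Groth.Agent.Lib.DPPolyUniv_lead

/-!
# The universal divided power polynomial algebra over a divided power ring (S2213)
-/

set_option autoImplicit false
set_option maxHeartbeats 1000000

universe u

namespace Groth.Agent.Lib.DPPolyUnivAH1

open Groth.Agent.Lib.DPPolyExistH1

theorem main {A : Type u} [CommRing A] {I : Ideal A} (γ : DividedPowers I) (t : ℕ) :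
    ∃ (D : Type u) (_ : CommRing D) (_ : Algebra A D) (J : Ideal D) (δ : DividedPowers J)
      (x : Fin t → D), (∀ i, x i ∈ J) ∧ γ.IsDPMorphism δ (algebraMap A D) ∧
      ∀ (C : Type u) [CommRing C] [Algebra A C] (K : Ideal C) (ε : DividedPowers K),
        γ.IsDPMorphism ε (algebraMap A C) → ∀ k : Fin t → C, (∀ i, k i ∈ K) →
          ∃! φ : D →ₐ[A] C, (∀ i, φ (x i) = k i) ∧ δ.IsDPMorphism ε φ.toRingHom := by
  obtain ⟨δplus, hδplus, -⟩ := Groth.Agent.Lib.DPPolyH1.main A t (DA A t) (xA A t)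
    (xA_zero A t) (xA_mul A t) (bA A t) (bA_eq A t)
  obtain ⟨δ, ⟨hδ1, hδ2⟩, -⟩ := Groth.Agent.Lib.DPCompatH1.main A γ (Fin t) (DA A t) (xA A t)
    (xA_zero A t) (xA_mul A t) (bA A t) (bA_eq A t) δplus hδplus
  refine ⟨DA A t, inferInstance, inferInstance, _, δ, fun i => xA A t i 1, ?_, hδ1, ?_⟩
  · intro i
    exact Ideal.mem_sup_right (Ideal.subset_span ⟨i, 1, le_rfl, rfl⟩)
  · intro C _ _ K ε hε k hk
    obtain ⟨φ, ⟨hφ1, hφ2⟩, hφu⟩ := Groth.Agent.Lib.DPPolyUniv.main A t (DA A t) (xA A t)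
      (xA_zero A t) (xA_mul A t) (bA A t) (bA_eq A t) δplus hδplus C K ε k hk
    have hspan : Ideal.map (algebraMap A (DA A t)) I ⊔
          Ideal.span {y : DA A t | ∃ (l : Fin t) (n : ℕ), 1 ≤ n ∧ y = xA A t l n}
        = Ideal.span ((algebraMap A (DA A t) '' (I : Set A)) ∪
            ((Ideal.span {y : DA A t | ∃ (l : Fin t) (n : ℕ), 1 ≤ n ∧ y = xA A t l n} :
              Ideal (DA A t)) : Set (DA A t))) := by
      rw [Ideal.span_union, Ideal.span_eq]; rfl
    refine ⟨φ, ⟨hφ2, ?_⟩, ?_⟩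
    · apply DividedPowers.IsDPMorphism.on_span δ ε hspan
      · rintro s (⟨a, ha, rfl⟩ | hs)
        · have h1 : φ.toRingHom (algebraMap A (DA A t) a) = algebraMap A C a := φ.commutes a
          rw [h1]
          exact hε.ideal_comp (Ideal.mem_map_of_mem _ ha)
        · exact hφ1.ideal_comp (Ideal.mem_map_of_mem _ hs)
      · rintro n s (⟨a, ha, rfl⟩ | hs)
        · rw [hδ1.dpow_comp a ha]
          have h1 : φ.toRingHom (algebraMap A (DA A t) a) = algebraMap A C a := φ.commutes a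
          have h2 : φ.toRingHom (algebraMap A (DA A t) (γ.dpow n a))
              = algebraMap A C (γ.dpow n a) := φ.commutes _
          rw [h1, h2, hε.dpow_comp a ha]
        · rw [hδ2 n s hs]
          exact (hφ1.dpow_comp s hs).symm
    · rintro φ' ⟨h1, h2⟩
      apply hφu
      refine ⟨⟨?_, ?_⟩, h1⟩
      · exact (Ideal.map_mono le_sup_right).trans h2.ideal_comp
      · intro n s hs
        rw [← hδ2 n s hs]
        exact h2.dpow_comp s (Ideal.mem_sup_right hs)

end Groth.Agent.Lib.DPPolyUnivAH1
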