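import Mathlib

/-!
# Divided power polynomial algebras: the generic model (helper3)

Abstract monomials `Y x e = ∏ i, x i (e i)` for a family `x i n` of "divided power variables"
(`x i 0 = 1`, `x i n * x i m = C(n+m,n) x i (n+m)`), and the generic model: inside
`T = K[X_1..X_N]`, `K = ℚ[R]`, the `ℤ[R]`-span `PS` of the monomials `X^e / e!` is a subring,
free over `S = ℤ[R]` on these monomials; it maps onto any divided power polynomial algebra over `R`.
-/

set_option autoImplicit false
open scoped BigOperators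
open MvPolynomial

namespace Groth.Agent.Lib.DPPolyH3

universe u v

section Abstract
variable {N : ℕ} {P : Type v} [CommRing P] (x : Fin N → ℕ → P)

/-- the monomial `∏ i, x i (e i)` -/
noncomputable def Y (e : Fin N →₀ ℕ) : P := ∏ i, x i (e i)

lemma prod_eq_Y (hx0 : ∀ i, x i 0 = 1) (e : Fin N →₀ ℕ) :
    e.prod (fun i k => x i k) = Y x e :=
  Finsupp.prod_fintype _ _ (fun i => hx0 i)

lemma Y_zero (hx0 : ∀ i, x i 0 = 1) : Y x 0 = 1 := by simp [Y, hx0]

lemma Y_single (hx0 : ∀ i, x i 0 = 1) (i : Fin N) (n : ℕ) :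
    Y x (Finsupp.single i n) = x i n := by
  classical
  unfold Y
  rw [Finset.prod_eq_single i]
  · simp
  · intro j _ hj
    rw [Finsupp.single_eq_of_ne hj, hx0]
  · simp

lemma Y_mul (hxmul : ∀ i n m, x i n * x i m = ((n + m).choose n : P) * x i (n + m))
    (e f : Fin N →₀ ℕ) :
    Y x e * Y x f = ((∏ i, (e i + f i).choose (e i) : ℕ) : P) * Y x (e + f) := by
  unfold Y
  rw [← Finset.prod_mul_distrib, Nat.cast_prod, ← Finset.prod_mul_distrib]
  refine Finset.prod_congr rfl (fun i _ => ?_)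
  rw [hxmul]
  rfl

end Abstract

section Model
variable (R : Type u) [CommRing R] (N : ℕ)

/-- `ℤ[R]` -/
abbrev S := MvPolynomial R ℤ
/-- `ℚ[R]` -/
abbrev K := MvPolynomial R ℚ
/-- `ℚ[R][X_1..X_N]` -/
abbrev T := MvPolynomial (Fin N) (K R)

/-- evaluation `ℤ[R] → R` -/
noncomputable def ev : S R →+* R := MvPolynomial.eval₂Hom (Int.castRingHom R) id

lemma ev_X (r : R) : ev R (X r) = r := by simp [ev]

lemma ev_surjective : Function.Surjective (ev R) := fun r => ⟨X r, ev_X R r⟩

/-- `ℤ[R] → ℚ[R]` -/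
noncomputable def ι : S R →+* K R := MvPolynomial.map (Int.castRingHom ℚ)

lemma ι_injective : Function.Injective (ι R) :=
  MvPolynomial.map_injective _ (Int.castRingHom ℚ).injective_int

/-- `ℤ[R] → T` -/
noncomputable def j : S R →+* T R N := (C : K R →+* T R N).comp (ι R)

lemma j_injective : Function.Injective (j R N) :=
  (C_injective _ _).comp (ι_injective R)

noncomputable instance algST : Algebra (S R) (T R N) := (j R N).toAlgebra

lemma smul_T (s : S R) (t : T R N) : s • t = C (ι R s) * t := by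
  rw [Algebra.smul_def]; rfl

/-- `X_i^n / n!` -/
noncomputable def y (i : Fin N) (n : ℕ) : T R N := C (C ((n.factorial : ℚ)⁻¹)) * X i ^ n

lemma y_zero (i : Fin N) : y R N i 0 = 1 := by simp [y]

lemma natCast_T (c : ℕ) : (c : T R N) = C (C (c : ℚ)) := by simp

lemma y_mul (i : Fin N) (n m : ℕ) :
    y R N i n * y R N i m = ((n + m).choose n : T R N) * y R N i (n + m) := by
  unfold y
  have hq : ((n + m).choose n : ℚ) * ((n + m).factorial : ℚ)⁻¹ =
      (n.factorial : ℚ)⁻¹ * (m.factorial : ℚ)⁻¹ := by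
    have h := Nat.add_choose_mul_factorial_mul_factorial n m
    rw [← Nat.choose_symm_add] at h
    have h' : ((n + m).choose n : ℚ) * n.factorial * m.factorial = (n + m).factorial := by
      exact_mod_cast h
    have h1 : (n.factorial : ℚ) ≠ 0 := by exact_mod_cast n.factorial_ne_zero
    have h2 : (m.factorial : ℚ) ≠ 0 := by exact_mod_cast m.factorial_ne_zero
    have h3 : ((n + m).factorial : ℚ) ≠ 0 := by exact_mod_cast (n + m).factorial_ne_zero
    field_simp
    linarith
  rw [natCast_T, pow_add]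
  calc C (C ((n.factorial : ℚ)⁻¹)) * X i ^ n * (C (C ((m.factorial : ℚ)⁻¹)) * X i ^ m)
      = C (C ((n.factorial : ℚ)⁻¹ * (m.factorial : ℚ)⁻¹)) * (X i ^ n * X i ^ m) := by
        simp only [map_mul]; ring
    _ = _ := by rw [← hq]; simp only [map_mul]; ring

/-- `∏ 1/(e i)!` -/
noncomputable def q (e : Fin N →₀ ℕ) : ℚ := ∏ i, ((e i).factorial : ℚ)⁻¹

lemma q_ne_zero (e : Fin N →₀ ℕ) : q N e ≠ 0 := by
  unfold q
  refine Finset.prod_ne_zero_iff.mpr (fun i _ => ?_)
  exact inv_ne_zero (by exact_mod_cast (e i).factorial_ne_zero)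

lemma Y_y_eq (e : Fin N →₀ ℕ) : Y (y R N) e = monomial e (C (q N e)) := by
  unfold Y y q
  rw [Finset.prod_mul_distrib, ← map_prod, ← map_prod, monomial_eq,
    Finsupp.prod_fintype _ _ (fun i => by simp)]

lemma coeff_smul_Y (s : S R) (e e' : Fin N →₀ ℕ) :
    coeff e' (s • Y (y R N) e) = if e = e' then ι R s * C (q N e) else 0 := by
  rw [smul_T, Y_y_eq, C_mul_monomial, coeff_monomial]

lemma linIndep : LinearIndependent (S R) (Y (y R N)) := by
  classical
  rw [linearIndependent_iff]
  intro l hl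
  refine Finsupp.ext (fun e' => ?_)
  have h := congrArg (coeff e') hl
  rw [Finsupp.linearCombination_apply, Finsupp.sum, coeff_sum] at h
  simp only [coeff_smul_Y, coeff_zero] at h
  rw [Finset.sum_ite_eq'] at h
  by_cases he : e' ∈ l.support
  · rw [if_pos he] at h
    have h2 : ι R (l e') * C (q N e') * C (q N e')⁻¹ = 0 := by rw [h, zero_mul]
    rw [mul_assoc, ← C_mul, mul_inv_cancel₀ (q_ne_zero N e'), C_1, mul_one] at h2
    have := ι_injective R (h2.trans (map_zero _).symm)
    simpa using this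
  · simpa using he

/-- the span of the monomials -/
noncomputable def W : Submodule (S R) (T R N) := Submodule.span (S R) (Set.range (Y (y R N)))

lemma Y_mem_W (e : Fin N →₀ ℕ) : Y (y R N) e ∈ W R N := Submodule.subset_span ⟨e, rfl⟩

lemma one_mem_W : (1 : T R N) ∈ W R N := by
  rw [← Y_zero (y R N) (y_zero R N)]; exact Y_mem_W R N 0

lemma Y_mul_Y (e f : Fin N →₀ ℕ) :
    Y (y R N) e * Y (y R N) f = (∏ i, (e i + f i).choose (e i)) • Y (y R N) (e + f) := by
  rw [Y_mul _ (y_mul R N), nsmul_eq_mul]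

lemma mul_mem_W {a b : T R N} (ha : a ∈ W R N) (hb : b ∈ W R N) : a * b ∈ W R N := by
  unfold W at ha hb
  induction ha, hb using Submodule.span_induction₂ with
  | mem_mem x y hx hy =>
    obtain ⟨e, rfl⟩ := hx
    obtain ⟨f, rfl⟩ := hy
    rw [Y_mul_Y]
    exact nsmul_mem (Y_mem_W R N _) _
  | zero_left y hy => simp
  | zero_right x hx => simp
  | add_left x y z hx hy hz h1 h2 => rw [add_mul]; exact add_mem h1 h2
  | add_right x y z hx hy hz h1 h2 => rw [mul_add]; exact add_mem h1 h2
  | smul_left r x y hx hy h => rw [smul_mul_assoc]; exact Submodule.smul_mem _ _ h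
  | smul_right r x y hx hy h => rw [mul_smul_comm]; exact Submodule.smul_mem _ _ h

/-- the generic divided power polynomial algebra over `ℤ[R]` -/
noncomputable def PS : Subalgebra (S R) (T R N) :=
  (W R N).toSubalgebra (one_mem_W R N) (fun _ _ ha hb => mul_mem_W R N ha hb)

lemma mem_PS {a : T R N} : a ∈ PS R N ↔ a ∈ W R N := Iff.rfl

/-- monomials in `PS` -/
noncomputable def YS (e : Fin N →₀ ℕ) : PS R N := ⟨Y (y R N) e, Y_mem_W R N e⟩

/-- variables in `PS` -/
noncomputable def yS (i : Fin N) (n : ℕ) : PS R N := YS R N (Finsupp.single i n)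

lemma coe_yS (i : Fin N) (n : ℕ) : ((yS R N i n : PS R N) : T R N) = y R N i n :=
  Y_single (y R N) (y_zero R N) i n

lemma coe_YS (e : Fin N →₀ ℕ) : ((YS R N e : PS R N) : T R N) = Y (y R N) e := rfl

lemma YS_eq_prod (e : Fin N →₀ ℕ) : YS R N e = ∏ i, yS R N i (e i) := by
  apply Subtype.ext
  rw [coe_YS]
  have : ((∏ i, yS R N i (e i) : PS R N) : T R N) = ∏ i, ((yS R N i (e i) : PS R N) : T R N) :=
    map_prod (PS R N).val _ _
  rw [this]
  simp only [coe_yS]
  rfl

end Model

end Groth.Agent.Lib.DPPolyH3
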