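import Mathlib

/-!
# A concrete divided power ring in two variables (helper1)

Inside `End_k(k[X] ⊗ k[X])` the Hasse derivatives in the two variables generate a commutative
subalgebra `RR k` containing two "divided power sequences" `xs i`, `ys j`, with coefficient
functionals `mu i j`.  This gives linear functionals on `DividedPowerAlgebra Λ M` separating
products of divided powers.
-/

set_option autoImplicit false
universe u
open Polynomial TensorProduct Finset

namespace Groth.Agent.Lib.PDRingH1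

section pd

variable {R' : Type*} [CommRing R']

/-- divided power sequences -/
def IsPD (x : ℕ → R') : Prop := x 0 = 1 ∧ ∀ i j, x i * x j = ((i + j).choose i) • x (i + j)

theorem IsPD.scale {k : Type*} [CommRing k] [Algebra k R'] {x : ℕ → R'} (hx : IsPD x) (a : k) :
    IsPD (fun i => a ^ i • x i) := by
  refine ⟨by simp [hx.1], fun i j => ?_⟩
  simp only
  rw [smul_mul_smul_comm, hx.2, pow_add, smul_comm]

theorem IsPD.prod {x y : ℕ → R'} (hx : IsPD x) (hy : IsPD y) :
    IsPD (fun n => ∑ ij ∈ antidiagonal n, x ij.1 * y ij.2) := by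
  refine ⟨by simp [hx.1, hy.1], fun n p => ?_⟩
  simp only
  obtain ⟨h, hh⟩ : ∃ h : ℕ × ℕ → ℕ × ℕ → R', h = fun a c =>
      (c.1.choose a.1 * c.2.choose a.2) • (x c.1 * y c.2) := ⟨_, rfl⟩
  have hL : (∑ a ∈ antidiagonal n, x a.1 * y a.2) * (∑ b ∈ antidiagonal p, x b.1 * y b.2) =
      ∑ a ∈ antidiagonal n, ∑ b ∈ antidiagonal p, h a (a + b) := by
    rw [Finset.sum_mul_sum]
    refine Finset.sum_congr rfl fun a _ => Finset.sum_congr rfl fun b _ => ?_
    rw [hh]
    simp only [Prod.fst_add, Prod.snd_add]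
    rw [mul_mul_mul_comm, hx.2, hy.2, smul_mul_smul_comm]
  have hR : ((n + p).choose n) • ∑ c ∈ antidiagonal (n + p), x c.1 * y c.2 =
      ∑ a ∈ antidiagonal n, ∑ c ∈ antidiagonal (n + p), h a c := by
    rw [Finset.sum_comm, Finset.smul_sum]
    refine Finset.sum_congr rfl fun c hc => ?_
    rw [hh]
    simp only
    rw [← Finset.sum_smul, ← Nat.add_choose_eq, Finset.HasAntidiagonal.mem_antidiagonal.1 hc]
  rw [hL, hR]
  refine Finset.sum_congr rfl fun a ha => ?_
  have hsub : (antidiagonal p).image (fun b => a + b) ⊆ antidiagonal (n + p) := by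
    intro c hc
    obtain ⟨b, hb, rfl⟩ := Finset.mem_image.1 hc
    rw [Finset.HasAntidiagonal.mem_antidiagonal] at ha hb ⊢
    simp only [Prod.fst_add, Prod.snd_add]
    omega
  rw [← Finset.sum_subset hsub, Finset.sum_image]
  · intro b _ b' _ hbb'
    exact add_left_cancel hbb'
  · intro c hc hnc
    rw [hh]
    simp only
    by_cases hle : a.1 ≤ c.1 ∧ a.2 ≤ c.2
    · exfalso
      apply hnc
      rw [Finset.mem_image]
      refine ⟨(c.1 - a.1, c.2 - a.2), ?_, ?_⟩
      · rw [Finset.HasAntidiagonal.mem_antidiagonal] at ha hc ⊢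
        simp only
        omega
      · ext
        · simp only [Prod.fst_add]; omega
        · simp only [Prod.snd_add]; omega
    · rw [not_and_or, not_le, not_le] at hle
      rcases hle with h1 | h1
      · rw [Nat.choose_eq_zero_of_lt h1, zero_mul, zero_smul]
      · rw [Nat.choose_eq_zero_of_lt h1, mul_zero, zero_smul]

theorem IsPD.mk_add {k : Type*} [CommRing k] [Algebra k R'] {x : ℕ → R'} (hx : IsPD x) (a a' : k) :
    PowerSeries.mk (fun i => (a + a') ^ i • x i) =
      PowerSeries.mk (fun i => a ^ i • x i) * PowerSeries.mk (fun i => a' ^ i • x i) := by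
  ext n
  rw [PowerSeries.coeff_mul, PowerSeries.coeff_mk]
  simp only [PowerSeries.coeff_mk]
  rw [(Commute.all a a').add_pow', Finset.sum_smul]
  refine Finset.sum_congr rfl fun ij hij => ?_
  rw [smul_mul_smul_comm, hx.2, Finset.HasAntidiagonal.mem_antidiagonal.1 hij, smul_assoc, smul_comm]

end pd

section ring

variable (k : Type u) [CommRing k]

/-- the underlying module `k[X] ⊗ k[X]` -/
def W : Type u := k[X] ⊗[k] k[X]

noncomputable instance : AddCommGroup (W k) := inferInstanceAs (AddCommGroup (k[X] ⊗[k] k[X]))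
noncomputable instance : Module k (W k) := inferInstanceAs (Module k (k[X] ⊗[k] k[X]))

/-- Hasse derivative in the first variable -/
noncomputable def Dx (i : ℕ) : Module.End k (W k) :=
  (LinearMap.rTensor k[X] (hasseDeriv i : k[X] →ₗ[k] k[X]) : k[X] ⊗[k] k[X] →ₗ[k] k[X] ⊗[k] k[X])

/-- Hasse derivative in the second variable -/
noncomputable def Dy (j : ℕ) : Module.End k (W k) :=
  (LinearMap.lTensor k[X] (hasseDeriv j : k[X] →ₗ[k] k[X]) : k[X] ⊗[k] k[X] →ₗ[k] k[X] ⊗[k] k[X])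

theorem hasse_comp' (i j : ℕ) : (hasseDeriv i : k[X] →ₗ[k] k[X]) ∘ₗ hasseDeriv j =
    (((i + j).choose i : ℕ) : k) • hasseDeriv (i + j) := by
  rw [hasseDeriv_comp, Nat.cast_smul_eq_nsmul]

theorem Dx_mul (i j : ℕ) : Dx k i * Dx k j = ((i + j).choose i) • Dx k (i + j) := by
  show (LinearMap.rTensor k[X] (hasseDeriv i : k[X] →ₗ[k] k[X])) ∘ₗ
    (LinearMap.rTensor k[X] (hasseDeriv j : k[X] →ₗ[k] k[X])) =
      ((i + j).choose i) • (LinearMap.rTensor k[X] (hasseDeriv (i + j) : k[X] →ₗ[k] k[X]))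
  rw [← LinearMap.rTensor_comp, hasse_comp', LinearMap.rTensor_smul, Nat.cast_smul_eq_nsmul]

theorem Dy_mul (i j : ℕ) : Dy k i * Dy k j = ((i + j).choose i) • Dy k (i + j) := by
  show (LinearMap.lTensor k[X] (hasseDeriv i : k[X] →ₗ[k] k[X])) ∘ₗ
    (LinearMap.lTensor k[X] (hasseDeriv j : k[X] →ₗ[k] k[X])) =
      ((i + j).choose i) • (LinearMap.lTensor k[X] (hasseDeriv (i + j) : k[X] →ₗ[k] k[X]))
  rw [← LinearMap.lTensor_comp, hasse_comp', LinearMap.lTensor_smul, Nat.cast_smul_eq_nsmul]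

theorem Dx_zero : Dx k 0 = 1 := by
  show (LinearMap.rTensor k[X] (hasseDeriv 0 : k[X] →ₗ[k] k[X])) = LinearMap.id
  rw [hasseDeriv_zero, LinearMap.rTensor_id]

theorem Dy_zero : Dy k 0 = 1 := by
  show (LinearMap.lTensor k[X] (hasseDeriv 0 : k[X] →ₗ[k] k[X])) = LinearMap.id
  rw [hasseDeriv_zero, LinearMap.lTensor_id]

theorem Dx_Dy (i j : ℕ) : Dx k i * Dy k j = Dy k j * Dx k i := by
  show (LinearMap.rTensor k[X] (hasseDeriv i : k[X] →ₗ[k] k[X])) ∘ₗ
    (LinearMap.lTensor k[X] (hasseDeriv j : k[X] →ₗ[k] k[X])) =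
    (LinearMap.lTensor k[X] (hasseDeriv j : k[X] →ₗ[k] k[X])) ∘ₗ
      (LinearMap.rTensor k[X] (hasseDeriv i : k[X] →ₗ[k] k[X]))
  rw [LinearMap.rTensor_comp_lTensor, LinearMap.lTensor_comp_rTensor]

theorem Dx_comm (i j : ℕ) : Dx k i * Dx k j = Dx k j * Dx k i := by
  rw [Dx_mul, Dx_mul, add_comm j i, Nat.choose_symm_add]

theorem Dy_comm (i j : ℕ) : Dy k i * Dy k j = Dy k j * Dy k i := by
  rw [Dy_mul, Dy_mul, add_comm j i, Nat.choose_symm_add]

theorem hcomm : ∀ a ∈ (Set.range (Dx k) ∪ Set.range (Dy k)),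
    ∀ b ∈ (Set.range (Dx k) ∪ Set.range (Dy k)), a * b = b * a := by
  rintro a (⟨i, rfl⟩ | ⟨i, rfl⟩) b (⟨j, rfl⟩ | ⟨j, rfl⟩)
  · exact Dx_comm k i j
  · exact Dx_Dy k i j
  · exact (Dx_Dy k j i).symm
  · exact Dy_comm k i j

/-- the commutative ring generated by the Hasse derivatives -/
noncomputable def RR : Subalgebra k (Module.End k (W k)) :=
  Algebra.adjoin k (Set.range (Dx k) ∪ Set.range (Dy k))

instance : IsMulCommutative (RR k) := Algebra.isMulCommutative_adjoin k (hcomm k)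

open scoped IsMulCommutative

noncomputable instance : CommRing (RR k) := inferInstance

/-- the first divided power sequence -/
noncomputable def xs (i : ℕ) : RR k := ⟨Dx k i, Algebra.subset_adjoin (Or.inl ⟨i, rfl⟩)⟩

/-- the second divided power sequence -/
noncomputable def ys (j : ℕ) : RR k := ⟨Dy k j, Algebra.subset_adjoin (Or.inr ⟨j, rfl⟩)⟩

theorem isPD_xs : IsPD (xs k) :=
  ⟨Subtype.ext (Dx_zero k), fun i j => Subtype.ext (Dx_mul k i j)⟩

theorem isPD_ys : IsPD (ys k) :=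
  ⟨Subtype.ext (Dy_zero k), fun i j => Subtype.ext (Dy_mul k i j)⟩

/-- the counit -/
noncomputable def eps : W k →ₗ[k] k :=
  ((LinearMap.mul' k k) ∘ₗ TensorProduct.map (lcoeff k 0) (lcoeff k 0) : k[X] ⊗[k] k[X] →ₗ[k] k)

/-- coefficient functionals -/
noncomputable def mu (i j : ℕ) : RR k →ₗ[k] k :=
  ((eps k) ∘ₗ (LinearMap.applyₗ ((((X : k[X]) ^ i) ⊗ₜ[k] ((X : k[X]) ^ j) : k[X] ⊗[k] k[X]) : W k))) ∘ₗ
    (RR k).val.toLinearMap

theorem mu_xs_ys (i j i' j' : ℕ) :
    mu k i j (xs k i' * ys k j') = if i' = i ∧ j' = j then 1 else 0 := by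
  show (LinearMap.mul' k k) (TensorProduct.map (lcoeff k 0) (lcoeff k 0)
    (((LinearMap.rTensor k[X] (hasseDeriv i' : k[X] →ₗ[k] k[X])) ∘ₗ
      (LinearMap.lTensor k[X] (hasseDeriv j' : k[X] →ₗ[k] k[X])))
        (((X : k[X]) ^ i) ⊗ₜ[k] ((X : k[X]) ^ j)))) = _
  rw [LinearMap.comp_apply, LinearMap.lTensor_tmul, LinearMap.rTensor_tmul, TensorProduct.map_tmul,
    LinearMap.mul'_apply, lcoeff_apply, lcoeff_apply, hasseDeriv_coeff, hasseDeriv_coeff,
    coeff_X_pow, coeff_X_pow]
  simp only [zero_add, Nat.choose_self, Nat.cast_one, one_mul]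
  by_cases h1 : i' = i <;> by_cases h2 : j' = j <;> simp [h1, h2]

end ring

section family

variable (k : Type u) [CommRing k]

open scoped IsMulCommutative

/-- the two variable divided power family -/
noncomputable def FF (n : ℕ) (a b : k) : RR k :=
  ∑ ij ∈ antidiagonal n, (a ^ ij.1 • xs k ij.1) * (b ^ ij.2 • ys k ij.2)

theorem FF_zero (a b : k) : FF k 0 a b = 1 := by
  simp [FF, (isPD_xs k).1, (isPD_ys k).1]

theorem FF_smul (n : ℕ) (c a b : k) : FF k n (c * a) (c * b) = c ^ n • FF k n a b := by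
  rw [FF, FF, Finset.smul_sum]
  refine Finset.sum_congr rfl fun ij hij => ?_
  rw [mul_pow, mul_pow, mul_smul, mul_smul, smul_mul_smul_comm, ← pow_add,
    Finset.HasAntidiagonal.mem_antidiagonal.1 hij]

theorem FF_mul (n p : ℕ) (a b : k) :
    FF k n a b * FF k p a b = ((n + p).choose n) • FF k (n + p) a b :=
  (((isPD_xs k).scale a).prod ((isPD_ys k).scale b)).2 n p

theorem FF_eq_coeff (n : ℕ) (a b : k) : FF k n a b =
    PowerSeries.coeff n (PowerSeries.mk (fun i => a ^ i • xs k i) *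
      PowerSeries.mk (fun j => b ^ j • ys k j)) := by
  rw [PowerSeries.coeff_mul]
  simp only [PowerSeries.coeff_mk]
  rfl

theorem FF_add (n : ℕ) (a b a' b' : k) : FF k n (a + a') (b + b') =
    ∑ kl ∈ antidiagonal n, FF k kl.1 a b * FF k kl.2 a' b' := by
  rw [FF_eq_coeff, (isPD_xs k).mk_add, (isPD_ys k).mk_add, mul_mul_mul_comm, PowerSeries.coeff_mul]
  simp only [FF_eq_coeff]

theorem mu_FF (i j n : ℕ) (a b : k) :
    mu k i j (FF k n a b) = if i + j = n then a ^ i * b ^ j else 0 := by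
  rw [FF, map_sum]
  have hterm : ∀ ij : ℕ × ℕ, mu k i j ((a ^ ij.1 • xs k ij.1) * (b ^ ij.2 • ys k ij.2)) =
      if ij = (i, j) then a ^ i * b ^ j else 0 := by
    intro ij
    rw [smul_mul_smul_comm, map_smul, mu_xs_ys, smul_eq_mul]
    by_cases h : ij = (i, j)
    · subst h; simp
    · rw [if_neg h, if_neg, mul_zero]
      rintro ⟨h1, h2⟩
      exact h (Prod.ext h1 h2)
  simp only [hterm]
  rw [Finset.sum_ite_eq']
  simp only [Finset.HasAntidiagonal.mem_antidiagonal]

theorem FF_left (n : ℕ) (c : k) : FF k n c 0 = c ^ n • xs k n := by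
  rw [FF, Finset.sum_eq_single (n, 0)]
  · simp [(isPD_ys k).1]
  · intro ij hij hne
    have h0 : ij.2 ≠ 0 := by
      intro h
      apply hne
      rw [Finset.HasAntidiagonal.mem_antidiagonal] at hij
      ext
      · simp only; omega
      · simp only; omega
    rw [zero_pow h0, zero_smul, mul_zero]
  · intro h
    exact absurd (by simp [Finset.HasAntidiagonal.mem_antidiagonal]) h

theorem FF_right (n : ℕ) (c : k) : FF k n 0 c = c ^ n • ys k n := by
  rw [FF, Finset.sum_eq_single (0, n)]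
  · simp [(isPD_xs k).1]
  · intro ij hij hne
    have h0 : ij.1 ≠ 0 := by
      intro h
      apply hne
      rw [Finset.HasAntidiagonal.mem_antidiagonal] at hij
      ext
      · simp only; omega
      · simp only; omega
    rw [zero_pow h0, zero_smul, zero_mul]
  · intro h
    exact absurd (by simp [Finset.HasAntidiagonal.mem_antidiagonal]) h

theorem exists_functionals {Λ : Type u} [CommRing Λ] {M : Type u} [AddCommGroup M] [Module Λ M]
    (χ : Λ →+* k) (π₁ π₂ : M → k)
    (h1a : ∀ m m', π₁ (m + m') = π₁ m + π₁ m') (h2a : ∀ m m', π₂ (m + m') = π₂ m + π₂ m')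
    (h1s : ∀ (r : Λ) m, π₁ (r • m) = χ r * π₁ m) (h2s : ∀ (r : Λ) m, π₂ (r • m) = χ r * π₂ m) :
    ∃ L : ℕ → ℕ → DividedPowerAlgebra Λ M → k,
      (∀ i j z z', L i j (z + z') = L i j z + L i j z') ∧
      (∀ i j (r : Λ) z, L i j (r • z) = χ r * L i j z) ∧
      (∀ i j n m, L i j (DividedPowerAlgebra.dp Λ n m) =
        if i + j = n then π₁ m ^ i * π₂ m ^ j else 0) ∧
      (∀ i j n n' m m', π₂ m = 0 → π₁ m' = 0 →
        L i j (DividedPowerAlgebra.dp Λ n m * DividedPowerAlgebra.dp Λ n' m') =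
          if n = i ∧ n' = j then π₁ m ^ n * π₂ m' ^ n' else 0) := by
  letI : Algebra Λ (RR k) := ((algebraMap k (RR k)).comp χ).toAlgebra
  have hsm : ∀ (r : Λ) (z : RR k), r • z = χ r • z := fun r z => by
    rw [Algebra.smul_def, Algebra.smul_def]
    rfl
  obtain ⟨Φ, hΦ⟩ : ∃ Φ : DividedPowerAlgebra Λ M →ₐ[Λ] RR k,
      ∀ n m, Φ (DividedPowerAlgebra.dp Λ n m) = FF k n (π₁ m) (π₂ m) :=
    ⟨DividedPowerAlgebra.lift' (f := fun nm : ℕ × M => FF k nm.1 (π₁ nm.2) (π₂ nm.2))
      (fun m => FF_zero k _ _)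
      (fun n r m => by
        simp only
        rw [h1s, h2s, FF_smul, hsm, map_pow])
      (fun n p m => FF_mul k n p _ _)
      (fun n u v => by
        simp only
        rw [h1a, h2a, FF_add]),
     fun n m => DividedPowerAlgebra.lift'_apply_dp _ _ _ _ n m⟩
  refine ⟨fun i j z => mu k i j (Φ z), ?_, ?_, ?_, ?_⟩
  · intro i j z z'
    simp only [map_add]
  · intro i j r z
    simp only
    rw [map_smul, hsm, map_smul, smul_eq_mul]
  · intro i j n m
    simp only
    rw [hΦ, mu_FF]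
  · intro i j n n' m m' h2 h1
    simp only
    rw [map_mul, hΦ, hΦ, h2, h1, FF_left, FF_right, smul_mul_smul_comm, map_smul, mu_xs_ys,
      smul_eq_mul]
    split_ifs <;> simp

end family

end Groth.Agent.Lib.PDRingH1
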