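import Mathlib
import Groth.Prelude.Def_PolLaw
import Groth.Agent.Lib.PDRing_helper1

/-!
# Converse of the span criterion for `Γ^d(M)` (helper1)

If the divided powers `γ_d(m)` span `Γ^d_A(M)` (for `M` finite), then at every prime `p` either
`|k(p)| ≥ d` or `M_p` is cyclic.
-/

set_option autoImplicit false
universe u
open Classical TensorProduct

namespace Groth.Agent.Lib.DPSpanConvH1

section vs

variable {k : Type*} [Field k] {V : Type*} [AddCommGroup V] [Module k V]

theorem exists_two_dual (hnc : ∀ v : V, Submodule.span k {v} ≠ ⊤) :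
    ∃ (f₁ f₂ : Module.Dual k V) (v₁ v₂ : V),
      f₁ v₁ ≠ 0 ∧ f₂ v₁ = 0 ∧ f₁ v₂ = 0 ∧ f₂ v₂ ≠ 0 := by
  have h1 : ∃ v₁ : V, v₁ ≠ 0 := by
    by_contra hcon
    push_neg at hcon
    apply hnc 0
    rw [eq_top_iff]
    intro x _
    rw [hcon x]
    exact Submodule.zero_mem _
  obtain ⟨v₁, hv₁⟩ := h1
  have h2 : ∃ v₂ : V, v₂ ∉ Submodule.span k {v₁} := by
    by_contra hcon
    push_neg at hcon
    apply hnc v₁
    rw [eq_top_iff]
    intro x _
    exact hcon x
  obtain ⟨v₂, hv₂⟩ := h2
  have h3 : v₁ ∉ Submodule.span k {v₂} := by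
    intro hmem
    obtain ⟨c, hc⟩ := Submodule.mem_span_singleton.1 hmem
    have hc0 : c ≠ 0 := by
      rintro rfl
      rw [zero_smul] at hc
      exact hv₁ hc.symm
    apply hv₂
    rw [Submodule.mem_span_singleton]
    refine ⟨c⁻¹, ?_⟩
    rw [← hc, smul_smul, inv_mul_cancel₀ hc0, one_smul]
  obtain ⟨f₁, hf₁, hf₁'⟩ := Submodule.exists_dual_map_eq_bot_of_notMem h3 inferInstance
  obtain ⟨f₂, hf₂, hf₂'⟩ := Submodule.exists_dual_map_eq_bot_of_notMem hv₂ inferInstance
  refine ⟨f₁, f₂, v₁, v₂, hf₁, ?_, ?_, hf₂⟩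
  · have : f₂ v₁ ∈ (Submodule.span k {v₁}).map f₂ :=
      Submodule.mem_map_of_mem (Submodule.mem_span_singleton_self v₁)
    rw [hf₂'] at this
    exact (Submodule.mem_bot k).1 this
  · have : f₁ v₂ ∈ (Submodule.span k {v₂}).map f₁ :=
      Submodule.mem_map_of_mem (Submodule.mem_span_singleton_self v₂)
    rw [hf₁'] at this
    exact (Submodule.mem_bot k).1 this

end vs

section loc

variable {R : Type u} [CommRing R] [IsLocalRing R] {N : Type u} [AddCommGroup N] [Module R N]
  [Module.Finite R N]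

theorem exists_two_functionals (hnc : ∀ x : N, Submodule.span R {x} ≠ ⊤) :
    ∃ (g₁ g₂ : N → IsLocalRing.ResidueField R) (n₁ n₂ : N),
      (∀ a b, g₁ (a + b) = g₁ a + g₁ b) ∧ (∀ a b, g₂ (a + b) = g₂ a + g₂ b) ∧
      (∀ (r : R) a, g₁ (r • a) = IsLocalRing.residue R r * g₁ a) ∧
      (∀ (r : R) a, g₂ (r • a) = IsLocalRing.residue R r * g₂ a) ∧
      g₁ n₁ ≠ 0 ∧ g₂ n₁ = 0 ∧ g₁ n₂ = 0 ∧ g₂ n₂ ≠ 0 := by
  obtain ⟨q, hq⟩ : ∃ q : N →ₗ[R] (IsLocalRing.ResidueField R) ⊗[R] N,
      q = TensorProduct.mk R (IsLocalRing.ResidueField R) N 1 := ⟨_, rfl⟩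
  have hqs : Function.Surjective q := by
    rw [hq]
    exact TensorProduct.mk_surjective R N (IsLocalRing.ResidueField R)
      Ideal.Quotient.mk_surjective
  have hqsm : ∀ (r : R) (a : N), q (r • a) = IsLocalRing.residue R r • q a := by
    intro r a
    rw [map_smul, hq, TensorProduct.mk_apply, TensorProduct.smul_tmul', TensorProduct.smul_tmul']
    congr 1
  have hV : ∀ v : (IsLocalRing.ResidueField R) ⊗[R] N,
      Submodule.span (IsLocalRing.ResidueField R) {v} ≠ ⊤ := by
    intro v hv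
    obtain ⟨x, rfl⟩ := hqs v
    apply hnc x
    rw [← IsLocalRing.map_tensorProduct_mk_eq_top, ← hq, Submodule.map_span, Set.image_singleton,
      ← Submodule.restrictScalars_span R (IsLocalRing.ResidueField R)
        Ideal.Quotient.mk_surjective, hv]
    rfl
  obtain ⟨f₁, f₂, v₁, v₂, h11, h21, h12, h22⟩ := exists_two_dual hV
  obtain ⟨n₁, rfl⟩ := hqs v₁
  obtain ⟨n₂, rfl⟩ := hqs v₂
  refine ⟨fun a => f₁ (q a), fun a => f₂ (q a), n₁, n₂, ?_, ?_, ?_, ?_, h11, h21, h12, h22⟩
  · intro a b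
    simp only [map_add]
  · intro a b
    simp only [map_add]
  · intro r a
    simp only
    rw [hqsm, map_smul, smul_eq_mul]
  · intro r a
    simp only
    rw [hqsm, map_smul, smul_eq_mul]

end loc

section core

variable {A M : Type u} [CommRing A] [AddCommGroup M] [Module A M]

theorem core (k : Type u) [Field k] [Fintype k]
    (χ : A →+* k) (π₁ π₂ : M → k)
    (h1a : ∀ m m', π₁ (m + m') = π₁ m + π₁ m') (h2a : ∀ m m', π₂ (m + m') = π₂ m + π₂ m')
    (h1s : ∀ (r : A) m, π₁ (r • m) = χ r * π₁ m) (h2s : ∀ (r : A) m, π₂ (r • m) = χ r * π₂ m)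
    (m₁ m₂ : M) (h11 : π₁ m₁ ≠ 0) (h21 : π₂ m₁ = 0) (h12 : π₁ m₂ = 0) (h22 : π₂ m₂ ≠ 0)
    (d : ℕ) (hd : Fintype.card k < d) :
    Submodule.span A (Set.range (DividedPowerAlgebra.dp A d : M → DividedPowerAlgebra A M)) ≠
      PolLaw.gammaPiece A M d := by
  intro heq
  obtain ⟨L, hLa, hLs, hLd, hLp⟩ := PDRingH1.exists_functionals k χ π₁ π₂ h1a h2a h1s h2s
  obtain ⟨q, hq⟩ : ∃ q : ℕ, q = Fintype.card k := ⟨_, rfl⟩
  have hq2 : 2 ≤ q := by
    rw [hq]
    exact Fintype.one_lt_card
  have hqd : q < d := hq ▸ hd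
  have hpow : ∀ a : k, a ^ q = a := fun a => by
    rw [hq]
    exact FiniteField.pow_card a
  have hL0 : ∀ i j, L i j 0 = 0 := by
    intro i j
    have := hLa i j 0 0
    rw [add_zero] at this
    exact left_eq_add.mp this
  obtain ⟨lam, hlam⟩ : ∃ lam : DividedPowerAlgebra A M → k,
      lam = fun z => L q (d - q) z - L 1 (d - 1) z := ⟨_, rfl⟩
  -- the kernel of lam as a submodule
  obtain ⟨K, hK⟩ : ∃ K : Submodule A (DividedPowerAlgebra A M), ∀ z, z ∈ K ↔ lam z = 0 :=
    ⟨{ carrier := {z | lam z = 0}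
       add_mem' := fun {a b} ha hb => by
         show lam (a + b) = 0
         have ha' : lam a = 0 := ha
         have hb' : lam b = 0 := hb
         rw [hlam] at ha' hb' ⊢
         simp only at ha' hb' ⊢
         rw [hLa, hLa]
         linear_combination ha' + hb'
       zero_mem' := by
         show lam 0 = 0
         rw [hlam]
         simp only
         rw [hL0, hL0, sub_zero]
       smul_mem' := fun c a ha => by
         show lam (c • a) = 0
         have ha' : lam a = 0 := ha
         rw [hlam] at ha' ⊢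
         simp only at ha' ⊢
         rw [hLs, hLs]
         linear_combination χ c * ha' }, fun z => Iff.rfl⟩
  have hle : Submodule.span A (Set.range (DividedPowerAlgebra.dp A d :
      M → DividedPowerAlgebra A M)) ≤ K := by
    apply Submodule.span_le.2
    rintro _ ⟨m, rfl⟩
    show DividedPowerAlgebra.dp A d m ∈ K
    rw [hK, hlam]
    simp only
    rw [hLd, hLd, if_pos (by omega), if_pos (by omega), hpow, pow_one]
    have : π₂ m ^ (d - 1) = π₂ m ^ (d - q) := by
      have e1 : d - 1 = (d - q - 1) + q := by omega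
      have e2 : d - q = (d - q - 1) + 1 := by omega
      rw [e1, pow_add, hpow, e2, pow_add, pow_one]
      congr 2
    rw [this, sub_self]
  have hmem : DividedPowerAlgebra.dp A q m₁ * DividedPowerAlgebra.dp A (d - q) m₂ ∈
      PolLaw.gammaPiece A M d := by
    apply Submodule.subset_span
    refine ⟨2, ![q, d - q], ![m₁, m₂], ?_, ?_⟩
    · rw [Fin.sum_univ_two]
      simp only [Matrix.cons_val_zero, Matrix.cons_val_one]
      omega
    · rw [Fin.prod_univ_two]
      simp only [Matrix.cons_val_zero, Matrix.cons_val_one]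
  rw [← heq] at hmem
  have h0 := (hK _).1 (hle hmem)
  rw [hlam] at h0
  simp only at h0
  rw [hLp _ _ _ _ _ _ h21 h12, hLp _ _ _ _ _ _ h21 h12, if_pos ⟨rfl, rfl⟩,
    if_neg (by rintro ⟨h, -⟩; omega), sub_zero] at h0
  exact mul_ne_zero (pow_ne_zero _ h11) (pow_ne_zero _ h22) h0

end core

theorem main13388 {A M : Type u} [CommRing A] [AddCommGroup M]
    [Module A M] [Module.Finite A M] (d : ℕ)
    (h : Submodule.span A (Set.range (DividedPowerAlgebra.dp A d : M → DividedPowerAlgebra A M)) =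
      PolLaw.gammaPiece A M d)
    (p : PrimeSpectrum A) :
    (d : Cardinal) ≤ Cardinal.mk p.asIdeal.ResidueField ∨
      ∃ x : LocalizedModule p.asIdeal.primeCompl M,
        Submodule.span (Localization.AtPrime p.asIdeal) {x} = ⊤ := by
  by_contra hcon
  push_neg at hcon
  obtain ⟨hlt, hnc⟩ := hcon
  have hfin : Finite p.asIdeal.ResidueField := by
    rw [← Cardinal.lt_aleph0_iff_finite]
    exact lt_trans hlt (Cardinal.nat_lt_aleph0 d)
  haveI : Fintype p.asIdeal.ResidueField := Fintype.ofFinite _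
  have hcard : Fintype.card p.asIdeal.ResidueField < d := by
    rw [Cardinal.mk_fintype] at hlt
    exact_mod_cast hlt
  obtain ⟨g₁, g₂, n₁, n₂, hg1a, hg2a, hg1s, hg2s, h11, h21, h12, h22⟩ :=
    exists_two_functionals (R := Localization.AtPrime p.asIdeal)
      (N := LocalizedModule p.asIdeal.primeCompl M) hnc
  obtain ⟨χ, hχ⟩ : ∃ χ : A →+* p.asIdeal.ResidueField,
      χ = (IsLocalRing.residue (Localization.AtPrime p.asIdeal)).comp
        (algebraMap A (Localization.AtPrime p.asIdeal)) := ⟨_, rfl⟩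
  have hχs : ∀ s : p.asIdeal.primeCompl, χ (s : A) ≠ 0 := by
    intro s
    rw [hχ, RingHom.comp_apply]
    have hu : IsUnit (algebraMap A (Localization.AtPrime p.asIdeal) (s : A)) :=
      IsLocalization.map_units (Localization.AtPrime p.asIdeal) s
    exact (hu.map (IsLocalRing.residue (Localization.AtPrime p.asIdeal))).ne_zero
  -- functionals on M
  have hsm : ∀ (g : LocalizedModule p.asIdeal.primeCompl M → p.asIdeal.ResidueField),
      (∀ (r : Localization.AtPrime p.asIdeal) a,
        g (r • a) = IsLocalRing.residue (Localization.AtPrime p.asIdeal) r * g a) →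
      ∀ (r : A) (x : LocalizedModule p.asIdeal.primeCompl M), g (r • x) = χ r * g x := by
    intro g hg r x
    rw [← algebraMap_smul (Localization.AtPrime p.asIdeal) r x, hg, hχ]
    rfl
  have hπs : ∀ (g : LocalizedModule p.asIdeal.primeCompl M → p.asIdeal.ResidueField),
      (∀ (r : Localization.AtPrime p.asIdeal) a,
        g (r • a) = IsLocalRing.residue (Localization.AtPrime p.asIdeal) r * g a) →
      ∀ (r : A) (m : M), g (LocalizedModule.mkLinearMap p.asIdeal.primeCompl M (r • m)) =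
        χ r * g (LocalizedModule.mkLinearMap p.asIdeal.primeCompl M m) := by
    intro g hg r m
    rw [map_smul, hsm g hg]
  have hmk : ∀ (g : LocalizedModule p.asIdeal.primeCompl M → p.asIdeal.ResidueField),
      (∀ (r : Localization.AtPrime p.asIdeal) a,
        g (r • a) = IsLocalRing.residue (Localization.AtPrime p.asIdeal) r * g a) →
      ∀ (m : M) (s : p.asIdeal.primeCompl),
        g (LocalizedModule.mkLinearMap p.asIdeal.primeCompl M m) =
          χ (s : A) * g (LocalizedModule.mk m s) := by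
    intro g hg m s
    rw [← hsm g hg, LocalizedModule.mkLinearMap_apply, LocalizedModule.smul'_mk,
      ← LocalizedModule.mk_cancel s m]
    rfl
  induction n₁ using LocalizedModule.induction_on with
  | h m₁ s₁ =>
  induction n₂ using LocalizedModule.induction_on with
  | h m₂ s₂ =>
  refine core p.asIdeal.ResidueField χ
    (fun m => g₁ (LocalizedModule.mkLinearMap p.asIdeal.primeCompl M m))
    (fun m => g₂ (LocalizedModule.mkLinearMap p.asIdeal.primeCompl M m))
    (fun m m' => by simp only [map_add, hg1a]) (fun m m' => by simp only [map_add, hg2a])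
    (hπs g₁ hg1s) (hπs g₂ hg2s) m₁ m₂ ?_ ?_ ?_ ?_ d hcard h
  · rw [hmk g₁ hg1s m₁ s₁]
    exact mul_ne_zero (hχs s₁) h11
  · rw [hmk g₂ hg2s m₁ s₁, h21, mul_zero]
  · rw [hmk g₁ hg1s m₂ s₂, h12, mul_zero]
  · rw [hmk g₂ hg2s m₂ s₂]
    exact mul_ne_zero (hχs s₂) h22

end Groth.Agent.Lib.DPSpanConvH1
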