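import Mathlib
import Groth.Prelude.Def_PolLaw

/-!
# Divided powers `γ_d(m)` span `Γ^d(M)` when residue fields are large or `M` is locally cyclic (helper1)
-/

set_option autoImplicit false
universe u
open DividedPowerAlgebra Polynomial

namespace Groth.Agent.Lib.DPSpanH1

open Classical

variable {A M : Type u} [CommRing A] [AddCommGroup M] [Module A M]

/-- the span of the `e`-th divided powers -/
noncomputable abbrev NN (A M : Type u) [CommRing A] [AddCommGroup M] [Module A M] (e : ℕ) :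
    Submodule A (DividedPowerAlgebra A M) :=
  Submodule.span A (Set.range (dp A e : M → DividedPowerAlgebra A M))

theorem tf (e : ℕ) (v : Fin e → A) (x y : M) (j : ℕ) (hj : j ≤ e) :
    (Matrix.vandermonde v).det • (dp A (e - j) x * dp A j y) ∈ NN A M e := by
  rcases Nat.lt_or_ge j e with hlt | hge
  swap
  · have hje : j = e := le_antisymm hj hge
    subst hje
    rw [Nat.sub_self, dp_zero, one_mul]
    exact Submodule.smul_mem _ _ (Submodule.subset_span ⟨y, rfl⟩)
  obtain ⟨V, hV⟩ : ∃ V : Matrix (Fin e) (Fin e) A, V = Matrix.vandermonde v := ⟨_, rfl⟩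
  obtain ⟨c, hc⟩ : ∃ c : Fin e → DividedPowerAlgebra A M,
      c = fun l : Fin e => dp A (e - (l : ℕ)) x * dp A (l : ℕ) y := ⟨_, rfl⟩
  obtain ⟨u, hu⟩ : ∃ u : Fin e → DividedPowerAlgebra A M,
      u = fun i => dp A e (v i • y + x) - v i ^ e • dp A e y := ⟨_, rfl⟩
  have hu' : ∀ i, u i = ∑ l, V i l • c l := by
    intro i
    rw [hu, hc]
    simp only
    have hT : dp A e (v i • y) * dp A (e - e) x = v i ^ e • dp A e y := by
      rw [Nat.sub_self, dp_zero, mul_one, dp_smul]
    rw [dp_add, Finset.Nat.sum_antidiagonal_eq_sum_range_succ_mk, Finset.sum_range_succ, hT,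
      add_sub_cancel_right, Finset.sum_range]
    refine Finset.sum_congr rfl fun l _ => ?_
    rw [dp_smul, hV, Matrix.vandermonde_apply, smul_mul_assoc, mul_comm]
  have hmem : ∀ i, u i ∈ NN A M e := by
    intro i
    rw [hu]
    exact Submodule.sub_mem _ (Submodule.subset_span ⟨_, rfl⟩)
      (Submodule.smul_mem _ _ (Submodule.subset_span ⟨_, rfl⟩))
  have hadj : V.adjugate * V = V.det • (1 : Matrix (Fin e) (Fin e) A) := Matrix.adjugate_mul V
  have hcj : ∑ i, V.adjugate ⟨j, hlt⟩ i • u i = V.det • c ⟨j, hlt⟩ := by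
    calc ∑ i, V.adjugate ⟨j, hlt⟩ i • u i
        = ∑ l, (∑ i, V.adjugate ⟨j, hlt⟩ i * V i l) • c l := by
          simp only [hu', Finset.smul_sum, smul_smul, Finset.sum_smul]
          exact Finset.sum_comm
      _ = ∑ l, ((V.adjugate * V) ⟨j, hlt⟩ l) • c l := by simp only [Matrix.mul_apply]
      _ = V.det • c ⟨j, hlt⟩ := by
          rw [hadj]
          simp only [Matrix.smul_apply, Matrix.one_apply, smul_eq_mul, mul_ite, mul_one, mul_zero,
            ite_smul, zero_smul]
          rw [Finset.sum_ite_eq]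
          simp
  have hgoal : dp A (e - j) x * dp A j y = c ⟨j, hlt⟩ := by rw [hc]
  rw [hgoal, ← hV, ← hcj]
  exact Submodule.sum_mem _ fun i _ => Submodule.smul_mem _ _ (hmem i)

theorem prod_mem' (S : Submonoid A) (d : ℕ)
    (H : ∀ e ≤ d, ∃ s ∈ S, ∀ (x y : M) (j : ℕ), j ≤ e →
      s • (dp A (e - j) x * dp A j y) ∈ NN A M e) :
    ∀ (n : ℕ) (k : Fin n → ℕ) (m : Fin n → M), (∑ i, k i) ≤ d →
      ∃ s ∈ S, s • ∏ i, dp A (k i) (m i) ∈ NN A M (∑ i, k i) := by
  intro n
  induction n with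
  | zero =>
    intro k m _
    refine ⟨1, S.one_mem, ?_⟩
    rw [one_smul]
    apply Submodule.subset_span
    exact ⟨0, by simp [dp_zero]⟩
  | succ n ih =>
    intro k m hk
    rw [Fin.sum_univ_castSucc] at hk
    obtain ⟨s₁, hs₁, h1⟩ := ih (fun i => k i.castSucc) (fun i => m i.castSucc)
      (le_trans (Nat.le_add_right _ _) hk)
    obtain ⟨s₂, hs₂, h2⟩ := H _ hk
    refine ⟨s₂ * s₁, S.mul_mem hs₂ hs₁, ?_⟩
    rw [Fin.prod_univ_castSucc, Fin.sum_univ_castSucc, mul_smul, ← smul_mul_assoc]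
    refine Submodule.span_induction (p := fun z _ =>
      s₂ • (z * dp A (k (Fin.last n)) (m (Fin.last n))) ∈
        NN A M ((∑ i : Fin n, k i.castSucc) + k (Fin.last n))) ?_ ?_ ?_ ?_ h1
    · rintro _ ⟨x, rfl⟩
      have := h2 x (m (Fin.last n)) (k (Fin.last n)) (Nat.le_add_left _ _)
      rwa [Nat.add_sub_cancel] at this
    · rw [zero_mul, smul_zero]
      exact Submodule.zero_mem _
    · intro a b _ _ ha hb
      rw [add_mul, smul_add]
      exact Submodule.add_mem _ ha hb
    · intro r a _ ha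
      rw [smul_mul_assoc, smul_comm]
      exact Submodule.smul_mem _ r ha

/-- enough points: the residue field has at least `d` elements -/
theorem exists_points (p : Ideal A) [p.IsPrime] (d : ℕ)
    (h : (d : Cardinal) ≤ Cardinal.mk p.ResidueField) :
    ∃ v : Fin d → A, ∀ i j, i ≠ j → v i - v j ∉ p := by
  have hcard : (d : Cardinal) ≤ Cardinal.mk (A ⧸ p) := by
    by_cases hfin : Finite (A ⧸ p)
    · have hfield : IsField (A ⧸ p) := Finite.isField_of_domain (A ⧸ p)
      have hsurj : Function.Surjective (algebraMap (A ⧸ p) p.ResidueField) :=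
        IsFractionRing.surjective_iff_isField.2 hfield
      exact h.trans (Cardinal.mk_le_of_surjective hsurj)
    · rw [not_finite_iff_infinite] at hfin
      exact (Cardinal.nat_lt_aleph0 d).le.trans (Cardinal.aleph0_le_mk _)
  obtain ⟨s, hs⟩ := Cardinal.exists_finset_le_card (A ⧸ p) d hcard
  obtain ⟨t, -, ht⟩ := Finset.exists_subset_card_eq hs
  obtain ⟨w, hw⟩ : ∃ w : Fin d → A ⧸ p, Function.Injective w :=
    ⟨fun i => ((Finset.equivFinOfCardEq ht).symm i : A ⧸ p),
      fun i j hij => (Finset.equivFinOfCardEq ht).symm.injective (Subtype.ext hij)⟩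
  choose v hv using fun i => Ideal.Quotient.mk_surjective (w i)
  refine ⟨v, fun i j hij hmem => hij (hw ?_)⟩
  rw [← hv i, ← hv j]
  exact Ideal.Quotient.eq.2 hmem

theorem case_points (p : Ideal A) [p.IsPrime] (d : ℕ)
    (h : (d : Cardinal) ≤ Cardinal.mk p.ResidueField)
    (n : ℕ) (k : Fin n → ℕ) (m : Fin n → M) (hk : (∑ i, k i) ≤ d) :
    ∃ s ∈ p.primeCompl, s • ∏ i, dp A (k i) (m i) ∈ NN A M (∑ i, k i) := by
  obtain ⟨v, hv⟩ := exists_points p d h
  refine prod_mem' p.primeCompl d (fun e he => ?_) n k m hk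
  refine ⟨(Matrix.vandermonde (fun i : Fin e => v (Fin.castLE he i))).det, ?_,
    fun x y j hj => tf e _ x y j hj⟩
  rw [Matrix.det_vandermonde]
  refine Submonoid.prod_mem _ fun i _ => Submonoid.prod_mem _ fun j hj => ?_
  rw [Finset.mem_Ioi] at hj
  refine hv _ _ ?_
  intro h
  exact (ne_of_gt hj) (Fin.castLE_injective he h)

theorem prod_dp_same (m₀ : M) (n : ℕ) (k : Fin n → ℕ) :
    ∃ c : ℕ, ∏ i, dp A (k i) m₀ = c • dp A (∑ i, k i) m₀ := by
  induction n with
  | zero => exact ⟨1, by simp [dp_zero]⟩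
  | succ n ih =>
    obtain ⟨c, hc⟩ := ih (fun i => k i.castSucc)
    refine ⟨c * ((∑ i : Fin n, k i.castSucc) + k (Fin.last n)).choose (∑ i : Fin n, k i.castSucc), ?_⟩
    rw [Fin.prod_univ_castSucc, Fin.sum_univ_castSucc, hc, smul_mul_assoc, dp_mul, mul_smul]

theorem case_cyclic (p : Ideal A) [p.IsPrime]
    (hx : ∃ x : LocalizedModule p.primeCompl M,
      Submodule.span (Localization.AtPrime p) {x} = ⊤)
    (n : ℕ) (k : Fin n → ℕ) (m : Fin n → M) :
    ∃ s ∈ p.primeCompl, s • ∏ i, dp A (k i) (m i) ∈ NN A M (∑ i, k i) := by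
  obtain ⟨x, hx⟩ := hx
  have hstep : ∃ m₀ : M, ∀ m : M, ∃ s ∈ p.primeCompl, ∃ b : A, s • m = b • m₀ := by
    induction x using LocalizedModule.induction_on with
    | h m₀ s₀ =>
      refine ⟨m₀, fun m => ?_⟩
      have hm : LocalizedModule.mk m (1 : p.primeCompl) ∈
          Submodule.span (Localization.AtPrime p) {LocalizedModule.mk m₀ s₀} := by
        rw [hx]; exact Submodule.mem_top
      obtain ⟨c, hc⟩ := Submodule.mem_span_singleton.1 hm
      induction c using Localization.induction_on with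
      | H at' =>
        obtain ⟨a, t⟩ := at'
        rw [LocalizedModule.mk_smul_mk, LocalizedModule.mk_eq] at hc
        obtain ⟨u, hu⟩ := hc
        refine ⟨(u : A) * ((t : A) * (s₀ : A)), p.primeCompl.mul_mem u.2
          (p.primeCompl.mul_mem t.2 s₀.2), (u : A) * a, ?_⟩
        simp only [Submonoid.smul_def, Submonoid.coe_mul, one_smul] at hu
        rw [mul_smul, ← hu, mul_smul]
  obtain ⟨m₀, hm₀⟩ := hstep
  choose s hs b hb using fun i => hm₀ (m i)
  obtain ⟨c, hc⟩ := prod_dp_same (A := A) m₀ n k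
  refine ⟨(∏ i, s i) ^ (∑ i, k i), p.primeCompl.pow_mem (Submonoid.prod_mem _ fun i _ => hs i) _, ?_⟩
  have h1 : ∀ i, (∏ l, s l) • m i = ((∏ l ∈ Finset.univ.erase i, s l) * b i) • m₀ := by
    intro i
    rw [← Finset.mul_prod_erase Finset.univ s (Finset.mem_univ i), mul_comm, mul_smul, hb i,
      mul_smul]
  have h2 : (∏ i, s i) ^ (∑ i, k i) • ∏ i, dp A (k i) (m i) =
      ∏ i, dp A (k i) ((∏ l, s l) • m i) := by
    rw [← Finset.prod_pow_eq_pow_sum, ← Finset.prod_smul]
    exact Finset.prod_congr rfl fun i _ => dp_smul.symm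
  rw [h2]
  simp only [h1, dp_smul]
  rw [Finset.prod_smul, hc]
  exact Submodule.smul_mem _ _ (Submodule.smul_of_tower_mem _ c (Submodule.subset_span ⟨m₀, rfl⟩))

theorem colon_top {X : Type*} [AddCommGroup X] [Module A X] (N : Submodule A X) (g : X)
    (h : ∀ p : PrimeSpectrum A, ∃ s ∈ p.asIdeal.primeCompl, s • g ∈ N) : g ∈ N := by
  obtain ⟨I, hI⟩ : ∃ I : Ideal A, ∀ a, a ∈ I ↔ a • g ∈ N :=
    ⟨{ carrier := {a | a • g ∈ N}
       add_mem' := fun {a b} ha hb => by
         show (a + b) • g ∈ N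
         rw [add_smul]; exact N.add_mem ha hb
       zero_mem' := by
         show (0 : A) • g ∈ N
         rw [zero_smul]; exact N.zero_mem
       smul_mem' := fun c a ha => by
         show (c • a) • g ∈ N
         rw [smul_eq_mul, mul_smul]; exact N.smul_mem c ha }, fun a => Iff.rfl⟩
  have htop : I = ⊤ := by
    by_contra hne
    obtain ⟨𝔪, h𝔪, hle⟩ := Ideal.exists_le_maximal I hne
    obtain ⟨s, hs, hsg⟩ := h ⟨𝔪, h𝔪.isPrime⟩
    exact hs (hle ((hI s).2 hsg))
  have h1 : (1 : A) ∈ I := htop ▸ Submodule.mem_top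
  have := (hI 1).1 h1
  rwa [one_smul] at this

theorem main13387 (d : ℕ)
    (h : ∀ p : PrimeSpectrum A, (d : Cardinal) ≤ Cardinal.mk p.asIdeal.ResidueField ∨
      ∃ x : LocalizedModule p.asIdeal.primeCompl M,
        Submodule.span (Localization.AtPrime p.asIdeal) {x} = ⊤) :
    Submodule.span A (Set.range (DividedPowerAlgebra.dp A d : M → DividedPowerAlgebra A M)) =
      PolLaw.gammaPiece A M d := by
  apply le_antisymm
  · apply Submodule.span_le.2
    rintro _ ⟨m, rfl⟩
    apply Submodule.subset_span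
    exact ⟨1, fun _ => d, fun _ => m, by simp, by simp⟩
  · unfold PolLaw.gammaPiece
    apply Submodule.span_le.2
    rintro _ ⟨n, k, m, hk, rfl⟩
    refine colon_top _ _ (fun p => ?_)
    rcases h p with h1 | h2
    · have := case_points p.asIdeal d h1 n k m (le_of_eq hk)
      rwa [hk] at this
    · have := case_cyclic p.asIdeal h2 n k m
      rwa [hk] at this

end Groth.Agent.Lib.DPSpanH1
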