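import Mathlib
import Groth.Prelude.Def_W4c3severiratdpLat
import Groth.Agent.Lib.DPConic_lead

namespace Groth.Agent.Lib.DPWeyl_lead
open W4c3severiratdp Groth.Agent.Lib.DPConic_lead

/-! ## bilinearity of the form -/

lemma form_add_left {δ : ℕ} (x y z : DP δ) : form (x + y) z = form x z + form y z := by
  simp only [form, Pi.add_apply, add_mul, Finset.sum_add_distrib]; ring

lemma form_smul_left {δ : ℕ} (c : ℤ) (x z : DP δ) : form (c • x) z = c * form x z := by
  simp only [form, Pi.smul_apply, smul_eq_mul, mul_assoc, ← Finset.mul_sum]; ring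

lemma form_comm {δ : ℕ} (x y : DP δ) : form x y = form y x := by
  unfold form
  rw [mul_comm (x 0) (y 0)]
  congr 1
  exact Finset.sum_congr rfl (fun i _ => mul_comm _ _)

lemma form_add_right {δ : ℕ} (x y z : DP δ) : form x (y + z) = form x y + form x z := by
  rw [form_comm, form_add_left, form_comm y, form_comm z]

lemma form_smul_right {δ : ℕ} (c : ℤ) (x z : DP δ) : form x (c • z) = c * form x z := by
  rw [form_comm, form_smul_left, form_comm]

/-! ## reflections -/

def reflMap {δ : ℕ} (α : DP δ) : DP δ →ₗ[ℤ] DP δ where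
  toFun x := x + form x α • α
  map_add' x y := by
    rw [form_add_left]; module
  map_smul' c x := by
    rw [form_smul_left, RingHom.id_apply]; module

lemma reflMap_apply {δ : ℕ} (α x : DP δ) : reflMap α x = x + form x α • α := rfl

lemma reflMap_invol {δ : ℕ} (α : DP δ) (hα : form α α = -2) (x : DP δ) :
    reflMap α (reflMap α x) = x := by
  simp only [reflMap_apply, form_add_left, form_smul_left, hα]
  module

def reflEquiv {δ : ℕ} (α : DP δ) (hα : form α α = -2) : DP δ ≃ₗ[ℤ] DP δ :=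
  LinearEquiv.ofLinear (reflMap α) (reflMap α)
    (LinearMap.ext (reflMap_invol α hα)) (LinearMap.ext (reflMap_invol α hα))

lemma reflEquiv_apply {δ : ℕ} (α : DP δ) (hα : form α α = -2) (x : DP δ) :
    reflEquiv α hα x = x + form x α • α := rfl

lemma isWeyl_refl {δ : ℕ} (α : DP δ) (hα : form α α = -2) (hK : form (canon δ) α = 0) :
    IsWeyl (reflEquiv α hα) := by
  constructor
  · intro v w
    simp only [reflEquiv_apply, form_add_left, form_add_right, form_smul_left, form_smul_right,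
      hα, form_comm α w]
    ring
  · rw [reflEquiv_apply, hK, zero_smul, add_zero]

lemma isWeyl_one {δ : ℕ} : IsWeyl (LinearEquiv.refl ℤ (DP δ)) := ⟨fun _ _ => rfl, rfl⟩

lemma isWeyl_trans {δ : ℕ} {g h : DP δ ≃ₗ[ℤ] DP δ} (hg : IsWeyl g) (hh : IsWeyl h) :
    IsWeyl (g.trans h) := by
  refine ⟨fun v w => ?_, ?_⟩
  · simp only [LinearEquiv.trans_apply]; rw [hh.1, hg.1]
  · simp only [LinearEquiv.trans_apply]; rw [hg.2, hh.2]

lemma isWeyl_symm {δ : ℕ} {g : DP δ ≃ₗ[ℤ] DP δ} (hg : IsWeyl g) : IsWeyl g.symm := by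
  refine ⟨fun v w => ?_, ?_⟩
  · have := hg.1 (g.symm v) (g.symm w)
    simp only [LinearEquiv.apply_symm_apply] at this
    exact this.symm
  · rw [LinearEquiv.symm_apply_eq]; exact hg.2.symm

lemma weyl_isExc {δ : ℕ} {g : DP δ ≃ₗ[ℤ] DP δ} (hg : IsWeyl g) {v : DP δ} (hv : IsExc v) :
    IsExc (g v) := by
  unfold IsExc at *
  constructor
  · rw [hg.1]; exact hv.1
  · have := hg.1 (canon δ) v
    rw [hg.2] at this; rw [this]; exact hv.2

lemma weyl_isConic {δ : ℕ} {g : DP δ ≃ₗ[ℤ] DP δ} (hg : IsWeyl g) {v : DP δ} (hv : IsConic v) :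
    IsConic (g v) := by
  unfold IsConic at *
  constructor
  · rw [hg.1]; exact hv.1
  · have := hg.1 (canon δ) v
    rw [hg.2] at this; rw [this]; exact hv.2

/-! ## list computations -/

def formL : List ℤ → List ℤ → ℤ
  | a :: bs, a' :: bs' => a * a' - (List.zipWith (· * ·) bs bs').sum
  | _, _ => 0

def reflL (α x : List ℤ) : List ℤ :=
  List.zipWith (fun xi ai => xi + formL x α * ai) x α

lemma zipWith_ofFn {n : ℕ} (h : ℤ → ℤ → ℤ) (f g : Fin n → ℤ) :
    List.zipWith h (List.ofFn f) (List.ofFn g) = List.ofFn (fun i => h (f i) (g i)) := by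
  apply List.ext_getElem
  · simp
  · intro i h1 h2; simp

lemma formL_ofFn {δ : ℕ} (v w : DP δ) : formL (List.ofFn v) (List.ofFn w) = form v w := by
  rw [List.ofFn_succ, List.ofFn_succ (f := w)]
  simp only [formL]
  rw [zipWith_ofFn, List.sum_ofFn]
  rfl

lemma reflL_ofFn {δ : ℕ} (α x : DP δ) :
    reflL (List.ofFn α) (List.ofFn x) = List.ofFn (x + form x α • α) := by
  unfold reflL
  rw [formL_ofFn, zipWith_ofFn]
  exact congrArg List.ofFn (funext fun i => by simp [smul_eq_mul])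

def toFn (δ : ℕ) (l : List ℤ) : DP δ := fun i => l.getD i 0

lemma ofFn_toFn {δ : ℕ} (l : List ℤ) (h : l.length = δ + 1) : List.ofFn (toFn δ l) = l := by
  apply List.ext_getElem
  · simp [h]
  · intro i h1 h2
    rw [List.getElem_ofFn]
    exact List.getD_eq_getElem _ _ h2

def canonL (δ : ℕ) : List ℤ := -3 :: List.replicate δ (-1)

lemma ofFn_canon (δ : ℕ) : List.ofFn (canon δ) = canonL δ := by
  rw [List.ofFn_succ]
  unfold canonL canon
  simp [List.ofFn_const]

def validRoots (δ : ℕ) (fix roots : List (List ℤ)) : Bool :=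
  roots.all (fun α => α.length == δ + 1 && formL α α == -2 && formL (canonL δ) α == 0 &&
    fix.all (fun f => formL f α == 0))

def stepL (roots : List (List ℤ)) (ch : List ℤ → ℕ) (x : List ℤ) : Option (List ℤ) :=
  match roots[ch x]? with
  | some α => some (reflL α x)
  | none => none

def reduceL (roots : List (List ℤ)) (ch : List ℤ → ℕ) : ℕ → List ℤ → List ℤ
  | 0, x => x
  | n + 1, x =>
    match stepL roots ch x with
    | some y => reduceL roots ch n y
    | none => x

theorem reduce_weyl {δ : ℕ} (fix roots : List (List ℤ)) (ch : List ℤ → ℕ)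
    (hV : validRoots δ fix roots = true) :
    ∀ (n : ℕ) (x : DP δ), ∃ g : DP δ ≃ₗ[ℤ] DP δ, IsWeyl g ∧
      (∀ L : DP δ, List.ofFn L ∈ fix → g L = L) ∧
      List.ofFn (g x) = reduceL roots ch n (List.ofFn x) := by
  intro n
  induction n with
  | zero => intro x; exact ⟨LinearEquiv.refl ℤ _, isWeyl_one, fun _ _ => rfl, rfl⟩
  | succ n ih =>
    intro x
    rw [reduceL]
    cases hstep : stepL roots ch (List.ofFn x) with
    | none => exact ⟨LinearEquiv.refl ℤ _, isWeyl_one, fun _ _ => rfl, rfl⟩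
    | some y =>
      unfold stepL at hstep
      cases hα : roots[ch (List.ofFn x)]? with
      | none => rw [hα] at hstep; exact absurd hstep (by simp)
      | some α =>
        rw [hα] at hstep
        have hy : y = reflL α (List.ofFn x) := by
          simp only [Option.some.injEq] at hstep; exact hstep.symm
        have hmem : α ∈ roots := List.mem_of_getElem? hα
        unfold validRoots at hV
        have hv := List.all_eq_true.mp hV α hmem
        simp only [Bool.and_eq_true, beq_iff_eq, List.all_eq_true] at hv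
        obtain ⟨⟨⟨hlen, hsq⟩, hK⟩, hfix⟩ := hv
        have hof : List.ofFn (toFn δ α) = α := ofFn_toFn α hlen
        have hsq' : form (toFn δ α) (toFn δ α) = -2 := by
          rw [← formL_ofFn, hof]; exact hsq
        have hK' : form (canon δ) (toFn δ α) = 0 := by
          rw [← formL_ofFn, hof, ofFn_canon]; exact hK
        obtain ⟨g', hg', hfix', hred⟩ := ih (reflEquiv (toFn δ α) hsq' x)
        refine ⟨(reflEquiv (toFn δ α) hsq').trans g',
          isWeyl_trans (isWeyl_refl _ hsq' hK') hg', ?_, ?_⟩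
        · intro L hL
          have h0 : form L (toFn δ α) = 0 := by
            rw [← formL_ofFn, hof]; exact hfix _ hL
          rw [LinearEquiv.trans_apply, reflEquiv_apply, h0, zero_smul, add_zero]
          exact hfix' L hL
        · rw [LinearEquiv.trans_apply, hred, reflEquiv_apply, ← reflL_ofFn, hof, hy]

/-! ## enumeration -/

def enumL (cands : List ℤ) : ℕ → ℤ → ℤ → List (List ℤ)
  | 0, s, q => if s = 0 ∧ q = 0 then [[]] else []
  | k + 1, s, q =>
    if s * s ≤ ((k : ℤ) + 1) * q then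
      cands.flatMap (fun x =>
        if x * x ≤ q then (enumL cands k (s - x) (q - x * x)).map (fun l => x :: l) else [])
    else []

theorem enumL_complete (cands : List ℤ) :
    ∀ (k : ℕ) (b : Fin k → ℤ) (s q : ℤ), (∀ i, b i ∈ cands) → ∑ i, b i = s →
      ∑ i, b i * b i = q → List.ofFn b ∈ enumL cands k s q := by
  intro k
  induction k with
  | zero =>
    intro b s q _ hs hq
    simp only [Finset.univ_eq_empty, Finset.sum_empty] at hs hq
    subst hs; subst hq
    simp [enumL]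
  | succ k ih =>
    intro b s q hc hs hq
    rw [enumL]
    have hcs : s * s ≤ ((k : ℤ) + 1) * q := by
      have := sq_sum_le_card_mul_sum_sq (s := (Finset.univ : Finset (Fin (k + 1)))) (f := b)
      rw [Finset.card_univ, Fintype.card_fin] at this
      have e : ∑ i, b i ^ 2 = q := by
        rw [← hq]; exact Finset.sum_congr rfl (fun i _ => sq _)
      rw [hs, e, sq] at this
      push_cast at this
      exact this
    rw [if_pos hcs, List.mem_flatMap]
    refine ⟨b 0, hc 0, ?_⟩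
    have hx : b 0 * b 0 ≤ q := by
      rw [← hq]
      exact Finset.single_le_sum (f := fun i => b i * b i) (fun j _ => mul_self_nonneg _)
        (Finset.mem_univ 0)
    rw [if_pos hx, List.ofFn_succ, List.mem_map]
    refine ⟨List.ofFn (fun i => b i.succ), ih _ _ _ (fun i => hc _) ?_ ?_, rfl⟩
    · rw [← hs, Fin.sum_univ_succ]; ring
    · rw [← hq, Fin.sum_univ_succ]; ring

def candsC : List ℤ := [0, 1, 2, 3, 4, 5, 6, 7, 8, 9, 10, 11]

def conicsL (δ : ℕ) : List (List ℤ) :=
  (List.range 11).flatMap (fun i : ℕ =>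
    (enumL candsC δ (3 * ((i : ℤ) + 1) - 2) (((i : ℤ) + 1) * ((i : ℤ) + 1))).map
      (fun l => ((i : ℤ) + 1) :: l))

theorem conic_mem {δ : ℕ} (hδ : δ ≤ 8) (v : DP δ) (hv : IsConic v) :
    List.ofFn v ∈ conicsL δ := by
  rw [isConic_iff] at hv
  obtain ⟨h1, h2⟩ := hv
  obtain ⟨ha1, ha11, hb⟩ := bounds hδ v h1 h2
  unfold conicsL
  rw [List.mem_flatMap]
  have hmemr : (v 0 - 1).toNat ∈ List.range 11 := List.mem_range.mpr (by omega)
  refine ⟨(v 0 - 1).toNat, hmemr, ?_⟩
  have ha : (((v 0 - 1).toNat : ℕ) : ℤ) + 1 = v 0 := by omega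
  rw [ha, List.ofFn_succ, List.mem_map]
  refine ⟨_, enumL_complete candsC δ (fun i => v i.succ) _ _ (fun i => ?_) h2 h1, rfl⟩
  have hi : v i.succ * v i.succ ≤ v 0 * v 0 := by
    rw [← h1]
    exact Finset.single_le_sum (f := fun j => v j.succ * v j.succ)
      (fun j _ => mul_self_nonneg _) (Finset.mem_univ i)
  have h0 := hb i
  have h11 : v i.succ ≤ 11 := by nlinarith
  unfold candsC
  generalize v i.succ = z at h0 h11
  interval_cases z <;> simp

lemma isExc_iff {δ : ℕ} (v : DP δ) :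
    IsExc v ↔ (∑ i : Fin δ, v i.succ * v i.succ = v 0 * v 0 + 1 ∧
      ∑ i : Fin δ, v i.succ = 3 * v 0 - 1) := by
  unfold IsExc
  rw [form_canon]
  unfold form
  constructor
  · rintro ⟨h1, h2⟩; constructor <;> linarith
  · rintro ⟨h1, h2⟩; constructor <;> linarith

def candsE : List ℤ := [-7, -6, -5, -4, -3, -2, -1, 0, 1, 2, 3, 4, 5, 6, 7]

def excL : List (List ℤ) :=
  (List.range 9).flatMap (fun i : ℕ =>
    (enumL candsE 8 (3 * ((i : ℤ) - 1) - 1) (((i : ℤ) - 1) * ((i : ℤ) - 1) + 1)).map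
      (fun l => ((i : ℤ) - 1) :: l))

theorem exc_mem (v : DP 8) (hv : IsExc v) : List.ofFn v ∈ excL := by
  rw [isExc_iff] at hv
  obtain ⟨h1, h2⟩ := hv
  have cs : (∑ i : Fin 8, v i.succ) ^ 2 ≤
      ((Finset.univ : Finset (Fin 8)).card : ℤ) * ∑ i : Fin 8, v i.succ ^ 2 :=
    sq_sum_le_card_mul_sum_sq
  rw [Finset.card_univ, Fintype.card_fin] at cs
  have h1' : ∑ i : Fin 8, v i.succ ^ 2 = v 0 * v 0 + 1 := by
    rw [← h1]; exact Finset.sum_congr rfl (fun i _ => sq _)
  rw [h1', h2] at cs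
  push_cast at cs
  have ha1 : -1 ≤ v 0 := by nlinarith
  have ha7 : v 0 ≤ 7 := by nlinarith
  unfold excL
  rw [List.mem_flatMap]
  have hmemr : (v 0 + 1).toNat ∈ List.range 9 := List.mem_range.mpr (by omega)
  refine ⟨(v 0 + 1).toNat, hmemr, ?_⟩
  have ha : (((v 0 + 1).toNat : ℕ) : ℤ) - 1 = v 0 := by omega
  rw [ha, List.ofFn_succ, List.mem_map]
  refine ⟨_, enumL_complete candsE 8 (fun i => v i.succ) _ _ (fun i => ?_) h2 h1, rfl⟩
  have hi : v i.succ * v i.succ ≤ v 0 * v 0 + 1 := by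
    rw [← h1]
    exact Finset.single_le_sum (f := fun j => v j.succ * v j.succ)
      (fun j _ => mul_self_nonneg _) (Finset.mem_univ i)
  have hlo : -7 ≤ v i.succ := by nlinarith
  have hhi : v i.succ ≤ 7 := by nlinarith
  unfold candsE
  generalize v i.succ = z at hlo hhi
  interval_cases z <;> simp

/-! ## roots and choosers -/

def alpha0 (δ : ℕ) : List ℤ := [1, 1, 1, 1] ++ List.replicate (δ - 3) 0

def alphai (δ i : ℕ) : List ℤ :=
  List.replicate i 0 ++ [-1, 1] ++ List.replicate (δ - 1 - i) 0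

def rootsR (δ lo hi : ℕ) : List (List ℤ) :=
  (if 3 ≤ δ then [alpha0 δ] else []) ++
    (List.range (hi + 1 - lo)).map (fun j => alphai δ (lo + j))

def firstDesc (lo hi : ℕ) : ℕ → List ℤ → ℕ
  | _, [] => 1000
  | i, x :: t =>
    match t with
    | [] => 1000
    | y :: _ => if lo ≤ i ∧ i ≤ hi ∧ x < y then i else firstDesc lo hi (i + 1) t

def chIdx (δ lo hi : ℕ) (x : List ℤ) : ℕ :=
  match x with
  | a :: b1 :: b2 :: b3 :: rest =>
    if a < b1 + b2 + b3 then 0
    else (if 3 ≤ δ then 1 else 0) + (firstDesc lo hi 1 (b1 :: b2 :: b3 :: rest) - lo)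
  | _ :: bs => (if 3 ≤ δ then 1 else 0) + (firstDesc lo hi 1 bs - lo)
  | [] => 1000

/-! ## exceptional classes -/

def e8L : List ℤ := [0, 0, 0, 0, 0, 0, 0, 0, -1]

def repE (m : ℤ) : List ℤ :=
  if m = -1 then [0, 0, 0, 0, 0, 0, 0, 0, -1]
  else if m = 0 then [0, 0, 0, 0, 0, 0, 0, -1, 0]
  else if m = 1 then [1, 1, 0, 0, 0, 0, 0, 0, 1]
  else if m = 2 then [3, 1, 1, 1, 1, 1, 1, 0, 2]
  else [6, 2, 2, 2, 2, 2, 2, 2, 3]

def factE : Bool :=
  excL.all (fun v =>
    (reduceL (rootsR 8 1 7) (chIdx 8 1 7) 300 v == e8L) &&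
    (reduceL (rootsR 8 1 6) (chIdx 8 1 6) 300 v == repE (formL v e8L)))

theorem factE_true : factE = true := by decide +kernel

theorem validE1 : validRoots 8 [] (rootsR 8 1 7) = true := by decide +kernel

theorem validE2 : validRoots 8 [e8L] (rootsR 8 1 6) = true := by decide +kernel

def e8 : DP 8 := toFn 8 e8L

lemma ofFn_e8 : List.ofFn e8 = e8L := ofFn_toFn _ rfl

theorem exc_to_e8 (L : DP 8) (hL : IsExc L) :
    ∃ g : DP 8 ≃ₗ[ℤ] DP 8, IsWeyl g ∧ g L = e8 := by
  obtain ⟨g, hg, _, hred⟩ := reduce_weyl [] (rootsR 8 1 7) (chIdx 8 1 7) validE1 300 L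
  have hm := exc_mem L hL
  have hF := factE_true
  unfold factE at hF
  have hf := List.all_eq_true.mp hF _ hm
  simp only [Bool.and_eq_true, beq_iff_eq] at hf
  refine ⟨g, hg, List.ofFn_injective ?_⟩
  rw [hred, hf.1, ofFn_e8]

theorem exc_stab (v : DP 8) (hv : IsExc v) :
    ∃ h : DP 8 ≃ₗ[ℤ] DP 8, IsWeyl h ∧ h e8 = e8 ∧ List.ofFn (h v) = repE (form v e8) := by
  obtain ⟨g, hg, hfix, hred⟩ := reduce_weyl [e8L] (rootsR 8 1 6) (chIdx 8 1 6) validE2 300 v
  have hm := exc_mem v hv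
  have hF := factE_true
  unfold factE at hF
  have hf := List.all_eq_true.mp hF _ hm
  simp only [Bool.and_eq_true, beq_iff_eq] at hf
  refine ⟨g, hg, hfix e8 (by rw [ofFn_e8]; simp), ?_⟩
  rw [hred, hf.2, ← ofFn_e8, formL_ofFn]

theorem main09 (L L₁ L₂ : DP 8) (hL : IsExc L) (hL₁ : IsExc L₁)
    (hL₂ : IsExc L₂) (h : form L₁ L = form L₂ L) :
    ∃ g : DP 8 ≃ₗ[ℤ] DP 8, IsWeyl g ∧ g L = L ∧ g L₁ = L₂ := by
  obtain ⟨g₀, hg₀, hg₀L⟩ := exc_to_e8 L hL
  obtain ⟨h₁, hh₁, hh₁e, hr₁⟩ := exc_stab (g₀ L₁) (weyl_isExc hg₀ hL₁)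
  obtain ⟨h₂, hh₂, hh₂e, hr₂⟩ := exc_stab (g₀ L₂) (weyl_isExc hg₀ hL₂)
  have e1 : form (g₀ L₁) e8 = form L₁ L := by rw [← hg₀L, hg₀.1]
  have e2 : form (g₀ L₂) e8 = form L₂ L := by rw [← hg₀L, hg₀.1]
  have heq : h₁ (g₀ L₁) = h₂ (g₀ L₂) :=
    List.ofFn_injective (by rw [hr₁, hr₂, e1, e2, h])
  refine ⟨g₀.trans (h₁.trans (h₂.symm.trans g₀.symm)),
    isWeyl_trans hg₀ (isWeyl_trans hh₁ (isWeyl_trans (isWeyl_symm hh₂) (isWeyl_symm hg₀))),
    ?_, ?_⟩
  · simp only [LinearEquiv.trans_apply]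
    rw [hg₀L, hh₁e, ← hh₂e, LinearEquiv.symm_apply_apply, ← hg₀L,
      LinearEquiv.symm_apply_apply]
  · simp only [LinearEquiv.trans_apply]
    rw [heq, LinearEquiv.symm_apply_apply, LinearEquiv.symm_apply_apply]

end Groth.Agent.Lib.DPWeyl_lead
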