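import Mathlib
import Groth.Prelude.Def_W4c3severiratdpLat
import Groth.Agent.Lib.DPConic_lead
import Groth.Agent.Lib.DPWeyl_lead

namespace Groth.Agent.Lib.DPWeyl2_lead
open W4c3severiratdp Groth.Agent.Lib.DPConic_lead Groth.Agent.Lib.DPWeyl_lead

/-! ## forcing evaluation (kernel friendliness only; all are identities) -/

def forceI {β : Type} (z : ℤ) (k : ℤ → β) : β :=
  match z with
  | Int.ofNat n => Nat.casesOn n (k 0) (fun m => k (Int.ofNat (Nat.succ m)))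
  | Int.negSucc n => Nat.casesOn n (k (-1)) (fun m => k (Int.negSucc (Nat.succ m)))

lemma forceI_eq {β : Type} (z : ℤ) (k : ℤ → β) : forceI z k = k z := by
  cases z with
  | ofNat n => cases n <;> rfl
  | negSucc n => cases n <;> rfl

def forceL {β : Type} : List ℤ → (List ℤ → β) → β
  | [], k => k []
  | z :: t, k => forceI z (fun z' => forceL t (fun t' => k (z' :: t')))

lemma forceL_eq {β : Type} (l : List ℤ) : ∀ (k : List ℤ → β), forceL l k = k l := by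
  induction l with
  | nil => intro k; rfl
  | cons z t ih => intro k; rw [forceL, forceI_eq, ih]

def forceLL {β : Type} : List (List ℤ) → (List (List ℤ) → β) → β
  | [], k => k []
  | z :: t, k => forceL z (fun z' => forceLL t (fun t' => k (z' :: t')))

lemma forceLL_eq {β : Type} (l : List (List ℤ)) :
    ∀ (k : List (List ℤ) → β), forceLL l k = k l := by
  induction l with
  | nil => intro k; rfl
  | cons z t ih => intro k; rw [forceLL, forceL_eq, ih]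

def reduceF (roots : List (List ℤ)) (ch : List ℤ → ℕ) : ℕ → List ℤ → List ℤ
  | 0, x => x
  | n + 1, x =>
    match roots[ch x]? with
    | some α => forceI (formL x α) (fun c =>
        forceL (List.zipWith (fun xi ai => xi + c * ai) x α) (fun y => reduceF roots ch n y))
    | none => x

lemma reduceF_eq (roots : List (List ℤ)) (ch : List ℤ → ℕ) :
    ∀ (n : ℕ) (x : List ℤ), reduceF roots ch n x = reduceL roots ch n x := by
  intro n
  induction n with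
  | zero => intro x; rfl
  | succ n ih =>
    intro x
    rw [reduceF, reduceL, stepL]
    cases h : roots[ch x]? with
    | none => rfl
    | some α =>
      simp only [forceI_eq, forceL_eq]
      rw [ih]
      rfl

/-! ## conic data -/

def Q0L (δ : ℕ) : List ℤ := [1, 1] ++ List.replicate (δ - 1) 0

def rep8 (m : ℤ) : List ℤ :=
  if m = 0 then [1, 1, 0, 0, 0, 0, 0, 0, 0]
  else if m = 1 then [1, 0, 1, 0, 0, 0, 0, 0, 0]
  else if m = 2 then [2, 0, 1, 1, 1, 1, 0, 0, 0]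
  else if m = 3 then [3, 0, 2, 1, 1, 1, 1, 1, 0]
  else if m = 4 then [5, 1, 2, 2, 2, 2, 2, 2, 0]
  else if m = 5 then [5, 0, 2, 2, 2, 2, 2, 2, 1]
  else if m = 6 then [7, 1, 3, 3, 3, 3, 2, 2, 2]
  else if m = 7 then [8, 1, 3, 3, 3, 3, 3, 3, 3]
  else [11, 3, 4, 4, 4, 4, 4, 4, 4]

def rep (δ : ℕ) (m : ℤ) : List ℤ := (rep8 m).take (δ + 1)

def repA : List ℤ := [4, 0, 2, 2, 2, 1, 1, 1, 1]

def conicsLa (δ i : ℕ) : List (List ℤ) :=
  (enumL candsC δ (3 * ((i : ℤ) + 1) - 2) (((i : ℤ) + 1) * ((i : ℤ) + 1))).map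
    (fun l => ((i : ℤ) + 1) :: l)

def factCa (δ i : ℕ) : Bool :=
  forceLL (rootsR δ 1 (δ - 1)) (fun R1 => forceLL (rootsR δ 2 (δ - 1)) (fun R2 =>
    (conicsLa δ i).all (fun v0 => forceL v0 (fun v =>
      (reduceF R1 (chIdx δ 1 (δ - 1)) 300 v == Q0L δ) &&
      (forceL (reduceF R2 (chIdx δ 2 (δ - 1)) 300 v) (fun w =>
        forceI (formL v (Q0L δ)) (fun m =>
          (w == rep δ m) || (δ == 8 && m == 4 && w == repA))))))))

lemma factCa_spec {δ i : ℕ} (h : factCa δ i = true) :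
    ∀ v ∈ conicsLa δ i,
      reduceL (rootsR δ 1 (δ - 1)) (chIdx δ 1 (δ - 1)) 300 v = Q0L δ ∧
      (reduceL (rootsR δ 2 (δ - 1)) (chIdx δ 2 (δ - 1)) 300 v = rep δ (formL v (Q0L δ)) ∨
        (δ = 8 ∧ formL v (Q0L δ) = 4 ∧
          reduceL (rootsR δ 2 (δ - 1)) (chIdx δ 2 (δ - 1)) 300 v = repA)) := by
  unfold factCa at h
  simp only [forceLL_eq, forceL_eq, forceI_eq, reduceF_eq, List.all_eq_true, Bool.and_eq_true,
    Bool.or_eq_true, beq_iff_eq] at h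
  intro v hv
  obtain ⟨h1, h2⟩ := h v hv
  refine ⟨h1, ?_⟩
  rcases h2 with h2 | ⟨⟨h3, h4⟩, h5⟩
  · exact Or.inl h2
  · exact Or.inr ⟨h3, h4, h5⟩

theorem facts : ∀ δ ∈ [2, 3, 4, 5, 6, 7, 8],
    ((List.range 11).all (fun i => factCa δ i) && validRoots δ [] (rootsR δ 1 (δ - 1)) &&
      validRoots δ [Q0L δ] (rootsR δ 2 (δ - 1))) = true := by
  decide +kernel

lemma facts' {δ : ℕ} (h2 : 2 ≤ δ) (h8 : δ ≤ 8) :
    (∀ i < 11, factCa δ i = true) ∧ validRoots δ [] (rootsR δ 1 (δ - 1)) = true ∧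
      validRoots δ [Q0L δ] (rootsR δ 2 (δ - 1)) = true := by
  have hmem : δ ∈ [2, 3, 4, 5, 6, 7, 8] := by
    simp only [List.mem_cons, List.not_mem_nil, or_false]
    omega
  have := facts δ hmem
  simp only [Bool.and_eq_true, List.all_eq_true, List.mem_range] at this
  exact ⟨this.1.1, this.1.2, this.2⟩

theorem conic_core {δ : ℕ} (h2 : 2 ≤ δ) (h8 : δ ≤ 8) (v : DP δ) (hv : IsConic v) :
    reduceL (rootsR δ 1 (δ - 1)) (chIdx δ 1 (δ - 1)) 300 (List.ofFn v) = Q0L δ ∧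
    (reduceL (rootsR δ 2 (δ - 1)) (chIdx δ 2 (δ - 1)) 300 (List.ofFn v) =
        rep δ (formL (List.ofFn v) (Q0L δ)) ∨
      (δ = 8 ∧ formL (List.ofFn v) (Q0L δ) = 4 ∧
        reduceL (rootsR δ 2 (δ - 1)) (chIdx δ 2 (δ - 1)) 300 (List.ofFn v) = repA)) := by
  obtain ⟨hF, _, _⟩ := facts' h2 h8
  have hm := conic_mem h8 v hv
  unfold conicsL at hm
  rw [List.mem_flatMap] at hm
  obtain ⟨i, hi, hmi⟩ := hm
  have hmi' : List.ofFn v ∈ conicsLa δ i := hmi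
  exact factCa_spec (hF i (List.mem_range.mp hi)) _ hmi'

def Q0 (δ : ℕ) : DP δ := toFn δ (Q0L δ)

lemma Q0L_length (δ : ℕ) (h : 1 ≤ δ) : (Q0L δ).length = δ + 1 := by
  simp only [Q0L, List.length_append, List.length_cons, List.length_nil, List.length_replicate]
  omega

lemma ofFn_Q0 (δ : ℕ) (h : 1 ≤ δ) : List.ofFn (Q0 δ) = Q0L δ :=
  ofFn_toFn _ (Q0L_length δ h)

theorem conic_to_Q0 {δ : ℕ} (h2 : 2 ≤ δ) (h8 : δ ≤ 8) (v : DP δ) (hv : IsConic v) :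
    ∃ g : DP δ ≃ₗ[ℤ] DP δ, IsWeyl g ∧ g v = Q0 δ := by
  obtain ⟨_, hV, _⟩ := facts' h2 h8
  obtain ⟨g, hg, _, hred⟩ :=
    reduce_weyl [] (rootsR δ 1 (δ - 1)) (chIdx δ 1 (δ - 1)) hV 300 v
  refine ⟨g, hg, List.ofFn_injective ?_⟩
  rw [hred, (conic_core h2 h8 v hv).1, ofFn_Q0 δ (by omega)]

theorem conic_stab {δ : ℕ} (h2 : 2 ≤ δ) (h8 : δ ≤ 8) (v : DP δ) (hv : IsConic v) :
    ∃ h : DP δ ≃ₗ[ℤ] DP δ, IsWeyl h ∧ h (Q0 δ) = Q0 δ ∧
      (List.ofFn (h v) = rep δ (form v (Q0 δ)) ∨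
        (δ = 8 ∧ form v (Q0 δ) = 4 ∧ List.ofFn (h v) = repA)) := by
  obtain ⟨_, _, hV⟩ := facts' h2 h8
  obtain ⟨g, hg, hfix, hred⟩ :=
    reduce_weyl [Q0L δ] (rootsR δ 2 (δ - 1)) (chIdx δ 2 (δ - 1)) hV 300 v
  have hQ := ofFn_Q0 δ (by omega)
  have hform : formL (List.ofFn v) (Q0L δ) = form v (Q0 δ) := by
    rw [← hQ, formL_ofFn]
  refine ⟨g, hg, hfix (Q0 δ) (by rw [hQ]; simp), ?_⟩
  rw [hred, ← hform]
  exact (conic_core h2 h8 v hv).2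

theorem main07 (δ : ℕ) (h2 : 2 ≤ δ) (h8 : δ ≤ 8)
    (v₁ v₂ w₁ w₂ : DP δ) (hv₁ : IsConic v₁) (hv₂ : IsConic v₂) (hw₁ : IsConic w₁)
    (hw₂ : IsConic w₂)
    (heq : form v₁ v₂ = form w₁ w₂) (hexc : ¬ (δ = 8 ∧ form v₁ v₂ = 4)) :
    ∃ g : DP δ ≃ₗ[ℤ] DP δ, IsWeyl g ∧ g v₁ = w₁ ∧ g v₂ = w₂ := by
  obtain ⟨g₁, hg₁, hg₁v⟩ := conic_to_Q0 h2 h8 v₁ hv₁
  obtain ⟨g₂, hg₂, hg₂w⟩ := conic_to_Q0 h2 h8 w₁ hw₁
  obtain ⟨k₁, hk₁, hk₁Q, hr₁⟩ := conic_stab h2 h8 (g₁ v₂) (weyl_isConic hg₁ hv₂)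
  obtain ⟨k₂, hk₂, hk₂Q, hr₂⟩ := conic_stab h2 h8 (g₂ w₂) (weyl_isConic hg₂ hw₂)
  have e1 : form (g₁ v₂) (Q0 δ) = form v₁ v₂ := by rw [← hg₁v, hg₁.1, form_comm]
  have e2 : form (g₂ w₂) (Q0 δ) = form w₁ w₂ := by rw [← hg₂w, hg₂.1, form_comm]
  have hr₁' : List.ofFn (k₁ (g₁ v₂)) = rep δ (form v₁ v₂) := by
    rcases hr₁ with h | ⟨hd, hm, _⟩
    · rw [h, e1]
    · exact absurd ⟨hd, by rw [← e1]; exact hm⟩ hexc
  have hr₂' : List.ofFn (k₂ (g₂ w₂)) = rep δ (form v₁ v₂) := by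
    rcases hr₂ with h | ⟨hd, hm, _⟩
    · rw [h, e2, heq]
    · exact absurd ⟨hd, by rw [heq, ← e2]; exact hm⟩ hexc
  have hk : k₁ (g₁ v₂) = k₂ (g₂ w₂) := List.ofFn_injective (by rw [hr₁', hr₂'])
  refine ⟨g₁.trans (k₁.trans (k₂.symm.trans g₂.symm)),
    isWeyl_trans hg₁ (isWeyl_trans hk₁ (isWeyl_trans (isWeyl_symm hk₂) (isWeyl_symm hg₂))),
    ?_, ?_⟩
  · simp only [LinearEquiv.trans_apply]
    rw [hg₁v, hk₁Q, ← hk₂Q, LinearEquiv.symm_apply_apply, ← hg₂w,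
      LinearEquiv.symm_apply_apply]
  · simp only [LinearEquiv.trans_apply]
    rw [hk, LinearEquiv.symm_apply_apply, LinearEquiv.symm_apply_apply]

/-! ## the exceptional case `δ = 8`, pairing `4` -/

lemma isConic_toFn {δ : ℕ} (l : List ℤ) (hlen : l.length = δ + 1) (h1 : formL l l = 0)
    (h2 : formL (canonL δ) l = -2) : IsConic (toFn δ l) := by
  unfold IsConic
  constructor
  · rw [← formL_ofFn, ofFn_toFn l hlen]; exact h1
  · rw [← formL_ofFn, ofFn_toFn l hlen, ofFn_canon]; exact h2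

lemma form_toFn {δ : ℕ} (l l' : List ℤ) (hlen : l.length = δ + 1) (hlen' : l'.length = δ + 1) :
    form (toFn δ l) (toFn δ l') = formL l l' := by
  rw [← formL_ofFn, ofFn_toFn l hlen, ofFn_toFn l' hlen']

def wL : List ℤ := [3, 1, 1, 1, 1, 1, 1, 1, 0]

theorem main08 :
    ∃ p₁ p₂ q₁ q₂ : DP 8, IsConic p₁ ∧ IsConic p₂ ∧ IsConic q₁ ∧ IsConic q₂ ∧ form p₁ p₂ = 4 ∧
      form q₁ q₂ = 4 ∧
      (¬ ∃ g : DP 8 ≃ₗ[ℤ] DP 8, IsWeyl g ∧ g p₁ = q₁ ∧ g p₂ = q₂) ∧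
      ∀ v₁ v₂ : DP 8, IsConic v₁ → IsConic v₂ → form v₁ v₂ = 4 →
        ∃ g : DP 8 ≃ₗ[ℤ] DP 8, IsWeyl g ∧
          ((g v₁ = p₁ ∧ g v₂ = p₂) ∨ (g v₁ = q₁ ∧ g v₂ = q₂)) := by
  refine ⟨Q0 8, toFn 8 repA, Q0 8, toFn 8 (rep 8 4), ?_, ?_, ?_, ?_, ?_, ?_, ?_, ?_⟩
  · exact isConic_toFn _ (by decide) (by decide) (by decide)
  · exact isConic_toFn _ (by decide) (by decide) (by decide)
  · exact isConic_toFn _ (by decide) (by decide) (by decide)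
  · exact isConic_toFn _ (by decide) (by decide) (by decide)
  · unfold Q0; rw [form_toFn _ _ (by decide) (by decide)]; decide
  · unfold Q0; rw [form_toFn _ _ (by decide) (by decide)]; decide
  · rintro ⟨g, hg, h1, h2⟩
    have hsum : g (Q0 8 + toFn 8 repA) = (2 : ℤ) • toFn 8 wL := by
      rw [map_add, h1, h2]
      funext i
      fin_cases i <;> rfl
    have h3 : Q0 8 + toFn 8 repA = (2 : ℤ) • g.symm (toFn 8 wL) := by
      rw [← map_smul, ← hsum, LinearEquiv.symm_apply_apply]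
    have h4 := congrFun h3 0
    have h5 : (Q0 8 + toFn 8 repA) 0 = 5 := rfl
    rw [h5] at h4
    simp only [Pi.smul_apply, smul_eq_mul] at h4
    omega
  · intro v₁ v₂ hv₁ hv₂ hf
    obtain ⟨g₁, hg₁, hg₁v⟩ := conic_to_Q0 (by norm_num) (le_refl 8) v₁ hv₁
    obtain ⟨k, hk, hkQ, hr⟩ := conic_stab (by norm_num) (le_refl 8) (g₁ v₂)
      (weyl_isConic hg₁ hv₂)
    have e1 : form (g₁ v₂) (Q0 8) = 4 := by rw [← hg₁v, hg₁.1, form_comm]; exact hf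
    refine ⟨g₁.trans k, isWeyl_trans hg₁ hk, ?_⟩
    simp only [LinearEquiv.trans_apply]
    rcases hr with h | ⟨_, _, h⟩
    · right
      refine ⟨by rw [hg₁v, hkQ], List.ofFn_injective ?_⟩
      rw [h, e1, ofFn_toFn _ (by decide)]
    · left
      refine ⟨by rw [hg₁v, hkQ], List.ofFn_injective ?_⟩
      rw [h, ofFn_toFn _ (by decide)]

end Groth.Agent.Lib.DPWeyl2_lead
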