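import Mathlib
import Groth.Prelude.Def_W4c3severiratdpLat
import Groth.Agent.Lib.DPConic_lead
import Groth.Agent.Lib.DPWeyl_lead
import Groth.Agent.Lib.DPWeyl2_lead

namespace Groth.Agent.Lib.DPWeyl3_lead
open W4c3severiratdp Groth.Agent.Lib.DPConic_lead Groth.Agent.Lib.DPWeyl_lead
  Groth.Agent.Lib.DPWeyl2_lead

def subL (a b : List ℤ) : List ℤ := List.zipWith (fun x y => x - y) a b

def addL (a b : List ℤ) : List ℤ := List.zipWith (fun x y => x + y) a b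

lemma ofFn_sub {δ : ℕ} (a b : DP δ) :
    List.ofFn (a - b) = subL (List.ofFn a) (List.ofFn b) := by
  unfold subL; rw [zipWith_ofFn]; rfl

lemma ofFn_add {δ : ℕ} (a b : DP δ) :
    List.ofFn (a + b) = addL (List.ofFn a) (List.ofFn b) := by
  unfold addL; rw [zipWith_ofFn]; rfl

def isExcL (y : List ℤ) : Bool := formL y y == -1 && formL (canonL 8) y == -1

lemma isExc_iff_L (v : DP 8) : IsExc v ↔ isExcL (List.ofFn v) = true := by
  unfold IsExc isExcL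
  rw [Bool.and_eq_true, beq_iff_eq, beq_iff_eq, formL_ofFn, ← ofFn_canon, formL_ofFn]

def tgtL : List ℤ := [6, 2, 2, 2, 2, 2, 2, 2, 1]

def T : DP 8 := e8 - 2 • canon 8

lemma ofFn_T : List.ofFn T = tgtL := by
  have : T = toFn 8 tgtL := by
    funext i
    fin_cases i <;> rfl
  rw [this]; exact ofFn_toFn _ rfl

lemma weyl_T {h : DP 8 ≃ₗ[ℤ] DP 8} (hh : IsWeyl h) (he : h e8 = e8) : h T = T := by
  unfold T; rw [map_sub, map_nsmul, hh.2, he]

def rootsT (m0 : ℤ) : List (List ℤ) := if m0 = -1 then rootsR 8 1 6 else rootsR 8 1 5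

def chT (m0 : ℤ) : List ℤ → ℕ := if m0 = -1 then chIdx 8 1 6 else chIdx 8 1 5

def RL : ℕ → ℕ → List ℤ
  | 0, 0 => [0, 0, 0, 0, 0, 0, 0, 0, -1]
  | 0, 1 => [0, 0, 0, 0, 0, 0, 0, 0, -1]
  | 0, _ => [6, 2, 2, 2, 2, 2, 2, 2, 3]
  | 1, 0 => [0, 0, 0, 0, 0, 0, 0, 0, -1]
  | 1, 1 => [0, 0, 0, 0, 0, 0, 0, -1, 0]
  | 1, _ => [6, 2, 2, 2, 2, 2, 2, 3, 2]
  | 2, 0 => [0, 0, 0, 0, 0, 0, 0, 0, -1]
  | 2, 1 => [1, 1, 0, 0, 0, 0, 0, 0, 1]
  | 2, _ => [5, 1, 2, 2, 2, 2, 2, 2, 1]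
  | _, 0 => [0, 0, 0, 0, 0, 0, 0, -1, 0]
  | _, 1 => [1, 1, 0, 0, 0, 0, 0, 1, 0]
  | _, _ => [5, 1, 2, 2, 2, 2, 2, 2, 1]

def jOf (m0 m1 : ℤ) : ℕ :=
  if m0 = -1 then (if m1 = -1 then 0 else if m1 = 0 then 1 else 2) else 3

lemma jOf_lt (m0 m1 : ℤ) : jOf m0 m1 < 4 := by
  unfold jOf; split_ifs <;> omega

def factT : Bool :=
  excL.all (fun x0 => forceL x0 (fun x => forceI (formL x e8L) (fun m1 =>
    decide (-1 ≤ m1) && decide (m1 ≤ 3) &&
    [(-1 : ℤ), 0].all (fun m0 => forceL (subL (subL tgtL (repE m0)) x) (fun y =>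
      !(isExcL y && decide (m0 ≤ m1) && decide (m1 ≤ formL y e8L)) ||
        forceLL (rootsT m0) (fun R => reduceF R (chT m0) 300 x == RL (jOf m0 m1) 1))))))

theorem factT_true : factT = true := by decide +kernel

lemma factT_spec (x : List ℤ) (hx : x ∈ excL) :
    (-1 ≤ formL x e8L ∧ formL x e8L ≤ 3) ∧
    ∀ m0 : ℤ, (m0 = -1 ∨ m0 = 0) → isExcL (subL (subL tgtL (repE m0)) x) = true →
      m0 ≤ formL x e8L → formL x e8L ≤ formL (subL (subL tgtL (repE m0)) x) e8L →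
      reduceL (rootsT m0) (chT m0) 300 x = RL (jOf m0 (formL x e8L)) 1 := by
  have h := factT_true
  unfold factT at h
  have hx' := List.all_eq_true.mp h x hx
  simp only [forceL_eq, forceI_eq, forceLL_eq, reduceF_eq, Bool.and_eq_true,
    decide_eq_true_eq, List.all_eq_true, Bool.or_eq_true, Bool.not_eq_true', beq_iff_eq,
    List.mem_cons, List.not_mem_nil, or_false] at hx'
  refine ⟨hx'.1, ?_⟩
  intro m0 hm0 hy h1 h2
  rcases hx'.2 m0 hm0 with h3 | h3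
  · exfalso
    have : (isExcL (subL (subL tgtL (repE m0)) x) && decide (m0 ≤ formL x e8L) &&
        decide (formL x e8L ≤ formL (subL (subL tgtL (repE m0)) x) e8L)) = true := by
      simp only [Bool.and_eq_true, decide_eq_true_eq]
      exact ⟨⟨hy, h1⟩, h2⟩
    rw [this] at h3
    exact Bool.noConfusion h3
  · exact h3

theorem validT1 : validRoots 8 [e8L, repE (-1)] (rootsT (-1)) = true := by decide +kernel

theorem validT2 : validRoots 8 [e8L, repE 0] (rootsT 0) = true := by decide +kernel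

theorem RL_facts : ∀ j < 4, ∀ i < 3, (RL j i).length = 9 ∧ isExcL (RL j i) = true := by
  decide +kernel

theorem RL_sub : ∀ j < 4, subL (subL tgtL (RL j 0)) (RL j 1) = RL j 2 := by decide +kernel

theorem RL_add : ∀ j < 4, addL (addL (RL j 0) (RL j 1)) (RL j 2) = tgtL := by decide +kernel

def sqv : Fin 4 → ℤ := ![11, 5, 3, 1]

theorem RL_sq : ∀ j : Fin 4,
    (formL (RL j 0) e8L) ^ 2 + (formL (RL j 1) e8L) ^ 2 + (formL (RL j 2) e8L) ^ 2 = sqv j := by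
  decide +kernel

theorem sqv_inj : ∀ j j' : Fin 4, sqv j = sqv j' → j = j' := by decide +kernel

def R (j : Fin 4) (i : Fin 3) : DP 8 := toFn 8 (RL j i)

lemma ofFn_R (j : Fin 4) (i : Fin 3) : List.ofFn (R j i) = RL j i :=
  ofFn_toFn _ (RL_facts j j.2 i i.2).1

lemma R_exc (j : Fin 4) (i : Fin 3) : IsExc (R j i) := by
  rw [isExc_iff_L, ofFn_R]; exact (RL_facts j j.2 i i.2).2

lemma R_sum (j : Fin 4) : R j 0 + R j 1 + R j 2 = T := by
  apply List.ofFn_injective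
  rw [ofFn_add, ofFn_add, ofFn_R, ofFn_R, ofFn_R, ofFn_T]
  exact RL_add j j.2

lemma R_pair (j : Fin 4) (i : Fin 3) : form (R j i) e8 = formL (RL j i) e8L := by
  rw [← formL_ofFn, ofFn_R, ofFn_e8]

lemma RL_zero (m0 m1 : ℤ) (hm0 : m0 = -1 ∨ m0 = 0) : RL (jOf m0 m1) 0 = repE m0 := by
  rcases hm0 with rfl | rfl
  · unfold jOf; rw [if_pos rfl]; split_ifs <;> rfl
  · rfl

theorem triple_core (a b c : DP 8) (ha : IsExc a) (hb : IsExc b) (hc : IsExc c)
    (hsum : a + b + c = T)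
    (h01 : form a e8 ≤ form b e8) (h12 : form b e8 ≤ form c e8) :
    ∃ (j : Fin 4) (h : DP 8 ≃ₗ[ℤ] DP 8), IsWeyl h ∧ h e8 = e8 ∧ h a = R j 0 ∧ h b = R j 1 ∧
      h c = R j 2 := by
  -- pairings add up to 1
  have hp : form a e8 + form b e8 + form c e8 = 1 := by
    have : form (a + b + c) e8 = 1 := by
      rw [hsum, ← formL_ofFn, ofFn_T, ofFn_e8]; decide
    rw [form_add_left, form_add_left] at this
    exact this
  -- bounds
  have hlo : -1 ≤ form a e8 := by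
    have := (factT_spec _ (exc_mem a ha)).1.1
    rwa [← ofFn_e8, formL_ofFn] at this
  have hm0 : form a e8 = -1 ∨ form a e8 = 0 := by omega
  -- step A
  obtain ⟨h₁, hh₁, hh₁e, hr₁⟩ := exc_stab a ha
  have ha' : IsExc (h₁ a) := weyl_isExc hh₁ ha
  have hb' : IsExc (h₁ b) := weyl_isExc hh₁ hb
  have hc' : IsExc (h₁ c) := weyl_isExc hh₁ hc
  have hsum' : h₁ a + h₁ b + h₁ c = T := by
    rw [← map_add, ← map_add, hsum, weyl_T hh₁ hh₁e]
  have pb : form (h₁ b) e8 = form b e8 := by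
    conv_lhs => rw [← hh₁e]
    exact hh₁.1 _ _
  have pc : form (h₁ c) e8 = form c e8 := by
    conv_lhs => rw [← hh₁e]
    exact hh₁.1 _ _
  -- step B
  have hV : validRoots 8 [e8L, repE (form a e8)] (rootsT (form a e8)) = true := by
    rcases hm0 with h | h <;> rw [h]
    · exact validT1
    · exact validT2
  obtain ⟨h₂, hh₂, hfix₂, hred₂⟩ :=
    reduce_weyl [e8L, repE (form a e8)] (rootsT (form a e8)) (chT (form a e8)) hV 300 (h₁ b)
  have hh₂e : h₂ e8 = e8 := hfix₂ e8 (by rw [ofFn_e8]; simp)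
  have hh₂a : h₂ (h₁ a) = h₁ a := hfix₂ (h₁ a) (by rw [hr₁]; simp)
  have hcx : h₁ c = T - h₁ a - h₁ b := by rw [← hsum']; abel
  have hy : List.ofFn (h₁ c) =
      subL (subL tgtL (repE (form a e8))) (List.ofFn (h₁ b)) := by
    rw [hcx, ofFn_sub, ofFn_sub, ofFn_T, hr₁]
  have hxb : formL (List.ofFn (h₁ b)) e8L = form b e8 := by
    rw [← ofFn_e8, formL_ofFn, pb]
  have hspec := (factT_spec _ (exc_mem (h₁ b) hb')).2 (form a e8) hm0
    (by rw [← hy]; exact (isExc_iff_L _).mp hc')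
    (by rw [hxb]; exact h01)
    (by rw [← hy, hxb, ← ofFn_e8, formL_ofFn, pc]; exact h12)
  rw [hxb] at hspec
  -- the index
  refine ⟨⟨jOf (form a e8) (form b e8), jOf_lt _ _⟩, h₁.trans h₂,
    isWeyl_trans hh₁ hh₂, ?_, ?_, ?_, ?_⟩
  · rw [LinearEquiv.trans_apply, hh₁e, hh₂e]
  · rw [LinearEquiv.trans_apply, hh₂a]
    apply List.ofFn_injective
    rw [hr₁, ofFn_R]
    exact (RL_zero _ _ hm0).symm
  · rw [LinearEquiv.trans_apply]
    apply List.ofFn_injective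
    rw [hred₂, hspec, ofFn_R]
    rfl
  · rw [LinearEquiv.trans_apply]
    have h2c : h₂ (h₁ c) = T - h₂ (h₁ a) - h₂ (h₁ b) := by
      rw [hcx, map_sub, map_sub, weyl_T hh₂ hh₂e]
    apply List.ofFn_injective
    rw [h2c, ofFn_sub, ofFn_sub, ofFn_T, hh₂a, hr₁, hred₂, hspec, ofFn_R,
      ← RL_zero _ (form b e8) hm0]
    exact RL_sub _ (jOf_lt _ _)

theorem main10 (L : DP 8) (hL : IsExc L) :
    ∃ r : Fin 4 → (Fin 3 → DP 8),
      (∀ j, (∀ i, IsExc (r j i)) ∧ r j 0 + r j 1 + r j 2 = L - 2 • canon 8) ∧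
      (∀ j j', (∃ g : DP 8 ≃ₗ[ℤ] DP 8, IsWeyl g ∧ g L = L ∧
        ∃ σ : Equiv.Perm (Fin 3), ∀ i, g (r j (σ i)) = r j' i) → j = j') ∧
      ∀ t : Fin 3 → DP 8, (∀ i, IsExc (t i)) → t 0 + t 1 + t 2 = L - 2 • canon 8 →
        ∃ j, ∃ g : DP 8 ≃ₗ[ℤ] DP 8, IsWeyl g ∧ g L = L ∧
          ∃ σ : Equiv.Perm (Fin 3), ∀ i, g (t (σ i)) = r j i := by
  obtain ⟨g₀, hg₀, hg₀L⟩ := exc_to_e8 L hL
  have hs := isWeyl_symm hg₀
  have hLe : g₀.symm e8 = L := by rw [← hg₀L, LinearEquiv.symm_apply_apply]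
  have hT : g₀.symm T = L - 2 • canon 8 := by
    unfold T; rw [map_sub, map_nsmul, hs.2, hLe]
  have hT' : g₀ (L - 2 • canon 8) = T := by
    rw [← hT, LinearEquiv.apply_symm_apply]
  refine ⟨fun j i => g₀.symm (R j i), ?_, ?_, ?_⟩
  · intro j
    refine ⟨fun i => weyl_isExc hs (R_exc j i), ?_⟩
    show g₀.symm (R j 0) + g₀.symm (R j 1) + g₀.symm (R j 2) = L - 2 • canon 8
    rw [← map_add, ← map_add, R_sum j, hT]
  · rintro j j' ⟨g, hg, hgL, σ, hσ⟩
    have hσ' : ∀ i, g (g₀.symm (R j (σ i))) = g₀.symm (R j' i) := hσ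
    have key : ∀ (j : Fin 4) (i : Fin 3), form (g₀.symm (R j i)) L = formL (RL j i) e8L := by
      intro j i
      rw [← R_pair]
      conv_lhs => rw [← hLe]
      exact hs.1 _ _
    have h1 : ∀ i : Fin 3, formL (RL j' i) e8L = formL (RL j (σ i)) e8L := by
      intro i
      rw [← key, ← key, ← hσ' i]
      conv_lhs => rw [← hgL]
      exact hg.1 _ _
    have h2 : ∑ i : Fin 3, (formL (RL j' i) e8L) ^ 2 = ∑ i : Fin 3, (formL (RL j i) e8L) ^ 2 := by
      rw [← Equiv.sum_comp σ (fun i : Fin 3 => (formL (RL j i) e8L) ^ 2)]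
      exact Finset.sum_congr rfl (fun i _ => by rw [h1 i])
    rw [Fin.sum_univ_three, Fin.sum_univ_three] at h2
    have e1 := RL_sq j
    have e2 := RL_sq j'
    exact sqv_inj j j' (by rw [← e1, ← e2]; exact h2.symm)
  · intro t ht hsum
    obtain ⟨σ, hσ⟩ : ∃ σ : Equiv.Perm (Fin 3),
        σ = Tuple.sort (fun i : Fin 3 => form (g₀ (t i)) e8) := ⟨_, rfl⟩
    have hmono : ∀ i j : Fin 3, i ≤ j →
        form (g₀ (t (σ i))) e8 ≤ form (g₀ (t (σ j))) e8 := by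
      intro i j hij
      have := Tuple.monotone_sort (fun i : Fin 3 => form (g₀ (t i)) e8) hij
      rw [← hσ] at this
      exact this
    have hsum3 : g₀ (t (σ 0)) + g₀ (t (σ 1)) + g₀ (t (σ 2)) = T := by
      have h1 : ∑ i : Fin 3, t (σ i) = ∑ i : Fin 3, t i := Equiv.sum_comp σ t
      rw [Fin.sum_univ_three, Fin.sum_univ_three] at h1
      rw [← map_add, ← map_add, h1, hsum, hT']
    obtain ⟨j, h, hh, hhe, h0, h1, h2⟩ := triple_core (g₀ (t (σ 0))) (g₀ (t (σ 1)))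
      (g₀ (t (σ 2))) (weyl_isExc hg₀ (ht _)) (weyl_isExc hg₀ (ht _)) (weyl_isExc hg₀ (ht _))
      hsum3 (hmono 0 1 (by decide)) (hmono 1 2 (by decide))
    refine ⟨j, g₀.trans (h.trans g₀.symm), isWeyl_trans hg₀ (isWeyl_trans hh hs), ?_, σ, ?_⟩
    · simp only [LinearEquiv.trans_apply]
      rw [hg₀L, hhe, hLe]
    · intro i
      simp only [LinearEquiv.trans_apply]
      fin_cases i
      · exact congrArg g₀.symm h0
      · exact congrArg g₀.symm h1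
      · exact congrArg g₀.symm h2

end Groth.Agent.Lib.DPWeyl3_lead
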