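import Mathlib

/-!
# Divided powers on the kernel of `A^ → A/I` (helper3)

`(A, I, γ)` a divided power ring, `q : A` with `(q)^t ≤ I`.  The `q`-adic completion `A^` carries a
divided power structure on the kernel of `A^ → A/q^t → A/I` making `A → A^` a dp-morphism.
-/

set_option autoImplicit false
universe u

namespace Groth.Agent.Lib.DPowAdic


variable {A : Type u} [CommRing A] {I : Ideal A} (γ : DividedPowers I) (q : A) (t : ℕ)
  (ht : Ideal.span {q} ^ t ≤ I)

include ht in
/-- Continuity of divided powers for the `q`-adic topology. -/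
theorem dpow_sub_mem_of_mem {a b : A} (hb : b ∈ I) (e n : ℕ)
    (hab : a - b ∈ Ideal.span {q} ^ (e + t)) :
    γ.dpow n a - γ.dpow n b ∈ Ideal.span {q} ^ e := by
  rw [Ideal.span_singleton_pow, Ideal.mem_span_singleton'] at hab
  obtain ⟨c, hc⟩ := hab
  have hd : c * q ^ t ∈ I := by
    apply ht
    rw [Ideal.span_singleton_pow]
    exact Ideal.mem_span_singleton'.2 ⟨c, rfl⟩
  have ha : a = b + q ^ e * (c * q ^ t) := by
    have : a = b + (a - b) := by ring
    rw [this, ← hc, pow_add]; ring
  have hqd : q ^ e * (c * q ^ t) ∈ I := I.mul_mem_left _ hd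
  rw [ha, γ.dpow_add hb hqd]
  have hmem : (n, 0) ∈ Finset.HasAntidiagonal.antidiagonal n := by simp
  rw [← Finset.add_sum_erase _ _ hmem]
  simp only [γ.dpow_zero hqd, mul_one, add_sub_cancel_left]
  apply Ideal.sum_mem
  intro kl hkl
  rw [Finset.mem_erase, Finset.HasAntidiagonal.mem_antidiagonal] at hkl
  have hl : kl.2 ≠ 0 := by
    intro h0
    apply hkl.1
    ext
    · simp only; have := hkl.2; omega
    · simpa using h0
  rw [γ.dpow_mul hd]
  apply Ideal.mul_mem_left
  apply Ideal.mul_mem_right
  rw [← pow_mul, Ideal.span_singleton_pow]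
  apply Ideal.mem_span_singleton'.2
  obtain ⟨l, hl'⟩ := Nat.exists_eq_succ_of_ne_zero hl
  refine ⟨q ^ (e * l), ?_⟩
  rw [hl', ← pow_add, Nat.mul_succ]

include ht in
theorem pow_le (e : ℕ) : Ideal.span {q} ^ (e + t) ≤ I :=
  le_trans (Ideal.pow_le_pow_right (Nat.le_add_left t e)) ht

include ht in
/-- Total version: no membership hypothesis. -/
theorem dpow_sub_mem {a b : A} (e n : ℕ)
    (hab : a - b ∈ Ideal.span {q} ^ (e + t)) :
    γ.dpow n a - γ.dpow n b ∈ Ideal.span {q} ^ e := by
  by_cases hb : b ∈ I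
  · exact dpow_sub_mem_of_mem γ q t ht hb e n hab
  · have ha : a ∉ I := by
      intro ha
      apply hb
      have : b = a - (a - b) := by ring
      rw [this]
      exact I.sub_mem ha (pow_le q t ht e hab)
    rw [γ.dpow_null ha, γ.dpow_null hb, sub_zero]
    exact Ideal.zero_mem _

/-- Membership in `I ^ m` of a difference of terms of a Cauchy sequence. -/
theorem cauchy_sub_mem (J : Ideal A) (a : AdicCompletion.AdicCauchySequence J A) {m n : ℕ} (hmn : m ≤ n) :
    a n - a m ∈ J ^ m := by
  have := AdicCompletion.Ideal.mk_eq_mk J hmn a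
  rw [Ideal.Quotient.eq] at this
  exact this

/-- The sequence of divided powers of a Cauchy sequence (shifted by `t`). -/
noncomputable def dseq (n : ℕ) (a : AdicCompletion.AdicCauchySequence (Ideal.span {q}) A) :
    AdicCompletion.AdicCauchySequence (Ideal.span {q}) A :=
  ⟨fun e => γ.dpow n (a (e + t)), by
    intro e e' hee'
    rw [SModEq.sub_mem]
    have h1 : a (e' + t) - a (e + t) ∈ Ideal.span {q} ^ (e + t) :=
      cauchy_sub_mem _ a (by omega)
    have h2 := dpow_sub_mem γ q t ht e n h1
    have h3 : γ.dpow n (a (e + t)) - γ.dpow n (a (e' + t)) ∈ Ideal.span {q} ^ e := by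
      have : γ.dpow n (a (e + t)) - γ.dpow n (a (e' + t)) =
          -(γ.dpow n (a (e' + t)) - γ.dpow n (a (e + t))) := by ring
      rw [this]
      exact Ideal.neg_mem_iff _ |>.2 h2
    simpa using h3⟩

@[simp]
theorem dseq_apply (n : ℕ) (a : AdicCompletion.AdicCauchySequence (Ideal.span {q}) A) (e : ℕ) :
    (dseq γ q t ht n a) e = γ.dpow n (a (e + t)) := rfl

/-- The projection `A^ → A/q^t → A/I`. -/
noncomputable abbrev proj : AdicCompletion (Ideal.span {q}) A →+* A ⧸ I :=
  (Ideal.Quotient.factor ht).comp (AdicCompletion.evalₐ (Ideal.span {q}) t).toRingHom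

theorem proj_mk (a : AdicCompletion.AdicCauchySequence (Ideal.span {q}) A) :
    proj q t ht (AdicCompletion.mk _ A a) = Ideal.Quotient.mk I (a t) := by
  simp [proj]

theorem mk_mem_ker_iff (a : AdicCompletion.AdicCauchySequence (Ideal.span {q}) A) :
    AdicCompletion.mk _ A a ∈ RingHom.ker (proj q t ht) ↔ a t ∈ I := by
  rw [RingHom.mem_ker, proj_mk, Ideal.Quotient.eq_zero_iff_mem]

include ht in
theorem mem_iff_shift (a : AdicCompletion.AdicCauchySequence (Ideal.span {q}) A) (e : ℕ) :
    a (e + t) ∈ I ↔ a t ∈ I := by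
  have h1 : a (e + t) - a t ∈ I := ht (cauchy_sub_mem _ a (by omega))
  constructor
  · intro h
    have : a t = a (e + t) - (a (e + t) - a t) := by ring
    rw [this]; exact I.sub_mem h h1
  · intro h
    have : a (e + t) = a t + (a (e + t) - a t) := by ring
    rw [this]; exact I.add_mem h h1

/-- A chosen Cauchy representative. -/
noncomputable def rep (x : AdicCompletion (Ideal.span {q}) A) :
    AdicCompletion.AdicCauchySequence (Ideal.span {q}) A :=
  (AdicCompletion.mk_surjective _ A x).choose

theorem mk_rep (x : AdicCompletion (Ideal.span {q}) A) :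
    AdicCompletion.mk _ A (rep q x) = x :=
  (AdicCompletion.mk_surjective _ A x).choose_spec

/-- The divided power operation on the completion. -/
noncomputable def delta (n : ℕ) (x : AdicCompletion (Ideal.span {q}) A) :
    AdicCompletion (Ideal.span {q}) A :=
  AdicCompletion.mk _ A (dseq γ q t ht n (rep q x))

theorem evalₐ_delta_mk (n : ℕ) (a : AdicCompletion.AdicCauchySequence (Ideal.span {q}) A) (e : ℕ) :
    AdicCompletion.evalₐ _ e (delta γ q t ht n (AdicCompletion.mk _ A a)) =
      Ideal.Quotient.mk _ (γ.dpow n (a (e + t))) := by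
  unfold delta
  rw [AdicCompletion.evalₐ_mk]
  change Ideal.Quotient.mk _ (γ.dpow n ((rep q (AdicCompletion.mk _ A a)) (e + t))) = _
  rw [Ideal.Quotient.eq]
  apply dpow_sub_mem γ q t ht
  have h := congrArg (AdicCompletion.evalₐ _ (e + t)) (mk_rep q (AdicCompletion.mk _ A a))
  rw [AdicCompletion.evalₐ_mk, AdicCompletion.evalₐ_mk, Ideal.Quotient.eq] at h
  exact h

theorem evalₐ_mk' (a : AdicCompletion.AdicCauchySequence (Ideal.span {q}) A) (e : ℕ) :
    AdicCompletion.evalₐ _ e (AdicCompletion.mk _ A a) = Ideal.Quotient.mk _ (a (e + t)) := by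
  rw [AdicCompletion.evalₐ_mk]
  exact (AdicCompletion.Ideal.mk_eq_mk _ (Nat.le_add_right e t) a).symm

theorem mk_mul (a b : AdicCompletion.AdicCauchySequence (Ideal.span {q}) A) :
    AdicCompletion.mk _ A a * AdicCompletion.mk _ A b = AdicCompletion.mk _ A (a * b) := rfl

/-- The divided power structure on the kernel. -/
noncomputable def dividedPowers : DividedPowers (RingHom.ker (proj q t ht)) where
  dpow := delta γ q t ht
  dpow_null := by
    intro n x hx
    obtain ⟨a, rfl⟩ := AdicCompletion.mk_surjective _ A x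
    rw [mk_mem_ker_iff] at hx
    apply AdicCompletion.ext_evalₐ
    intro e
    rw [evalₐ_delta_mk, map_zero, γ.dpow_null, map_zero]
    rwa [mem_iff_shift q t ht]
  dpow_zero := by
    intro x hx
    obtain ⟨a, rfl⟩ := AdicCompletion.mk_surjective _ A x
    rw [mk_mem_ker_iff] at hx
    apply AdicCompletion.ext_evalₐ
    intro e
    rw [evalₐ_delta_mk, map_one, γ.dpow_zero, map_one]
    rwa [mem_iff_shift q t ht]
  dpow_one := by
    intro x hx
    obtain ⟨a, rfl⟩ := AdicCompletion.mk_surjective _ A x
    rw [mk_mem_ker_iff] at hx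
    apply AdicCompletion.ext_evalₐ
    intro e
    rw [evalₐ_delta_mk, evalₐ_mk' q t, γ.dpow_one]
    rwa [mem_iff_shift q t ht]
  dpow_mem := by
    intro n x hn hx
    obtain ⟨a, rfl⟩ := AdicCompletion.mk_surjective _ A x
    rw [mk_mem_ker_iff] at hx
    rw [RingHom.mem_ker]
    change (Ideal.Quotient.factor ht) (AdicCompletion.evalₐ _ t (delta γ q t ht n _)) = 0
    rw [evalₐ_delta_mk, Ideal.Quotient.factor_mk, Ideal.Quotient.eq_zero_iff_mem]
    apply γ.dpow_mem hn
    rwa [mem_iff_shift q t ht]
  dpow_add := by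
    intro n x y hx hy
    obtain ⟨a, rfl⟩ := AdicCompletion.mk_surjective _ A x
    obtain ⟨b, rfl⟩ := AdicCompletion.mk_surjective _ A y
    rw [mk_mem_ker_iff] at hx hy
    apply AdicCompletion.ext_evalₐ
    intro e
    rw [← map_add, evalₐ_delta_mk, map_sum]
    simp only [map_mul, evalₐ_delta_mk]
    rw [AdicCompletion.AdicCauchySequence.add_apply, γ.dpow_add, map_sum]
    · simp only [map_mul]
    · rwa [mem_iff_shift q t ht]
    · rwa [mem_iff_shift q t ht]
  dpow_mul := by
    intro n c x hx
    obtain ⟨a, rfl⟩ := AdicCompletion.mk_surjective _ A x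
    obtain ⟨c, rfl⟩ := AdicCompletion.mk_surjective _ A c
    rw [mk_mem_ker_iff] at hx
    apply AdicCompletion.ext_evalₐ
    intro e
    rw [mk_mul, evalₐ_delta_mk, map_mul, map_pow, evalₐ_delta_mk, evalₐ_mk' q t,
      AdicCompletion.mul_apply, γ.dpow_mul, map_mul, map_pow]
    rwa [mem_iff_shift q t ht]
  mul_dpow := by
    intro m n x hx
    obtain ⟨a, rfl⟩ := AdicCompletion.mk_surjective _ A x
    rw [mk_mem_ker_iff] at hx
    apply AdicCompletion.ext_evalₐ
    intro e
    rw [map_mul, map_mul, evalₐ_delta_mk, evalₐ_delta_mk, evalₐ_delta_mk, map_natCast,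
      ← map_mul, γ.mul_dpow, map_mul, map_natCast]
    rwa [mem_iff_shift q t ht]
  dpow_comp := by
    intro m n x hn hx
    obtain ⟨a, rfl⟩ := AdicCompletion.mk_surjective _ A x
    rw [mk_mem_ker_iff] at hx
    apply AdicCompletion.ext_evalₐ
    intro e
    have h0 : delta γ q t ht n (AdicCompletion.mk _ A a) =
        AdicCompletion.mk _ A (dseq γ q t ht n a) := by
      apply AdicCompletion.ext_evalₐ
      intro e
      rw [evalₐ_delta_mk, AdicCompletion.evalₐ_mk]
      rfl
    rw [h0, evalₐ_delta_mk, map_mul, map_natCast, evalₐ_delta_mk, dseq_apply, γ.dpow_comp hn,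
      map_mul, map_natCast]
    · congr 1
      rw [Ideal.Quotient.eq]
      apply dpow_sub_mem γ q t ht
      exact cauchy_sub_mem _ a (by omega)
    · rwa [mem_iff_shift q t ht]

theorem algebraMap_eq_mk (a : A) :
    algebraMap A (AdicCompletion (Ideal.span {q}) A) a =
      AdicCompletion.mk _ A (algebraMap A (AdicCompletion.AdicCauchySequence (Ideal.span {q}) A) a) := by
  apply AdicCompletion.ext_evalₐ
  intro e
  rw [AdicCompletion.evalₐ_mk, AdicCompletion.algebraMap_apply, AdicCompletion.evalₐ_of]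
  rfl

theorem isDPMorphism :
    γ.IsDPMorphism (dividedPowers γ q t ht) (algebraMap A (AdicCompletion (Ideal.span {q}) A)) := by
  constructor
  · rw [Ideal.map_le_iff_le_comap]
    intro a ha
    rw [Ideal.mem_comap, algebraMap_eq_mk, mk_mem_ker_iff]
    exact ha
  · intro n a ha
    change delta γ q t ht n _ = _
    apply AdicCompletion.ext_evalₐ
    intro e
    rw [algebraMap_eq_mk, evalₐ_delta_mk, algebraMap_eq_mk, AdicCompletion.evalₐ_mk]
    rfl

theorem proj_surjective : Function.Surjective (proj q t ht) :=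
  (Ideal.Quotient.factor_surjective ht).comp (AdicCompletion.surjective_evalₐ _ t)

end Groth.Agent.Lib.DPowAdic
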