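import Groth.Agent.Lib.DPowExists_helper1

/-!
# Existence of a divided power structure from its `p`-th divided power (S2212), part 2:
transfer from a torsion-free model.
-/

set_option autoImplicit false
set_option maxHeartbeats 1000000

universe u

namespace Groth.Agent.Lib.DPowExistsH1

open scoped Nat

section Transfer

variable {p : ℕ} [hp : Fact p.Prime] {A : Type u} [CommRing A] (D : Data p A)
variable {σ : Type} [Fintype σ] [DecidableEq σ] (xs : σ → A)

noncomputable def cc (e : σ →₀ ℕ) : ℚ := ∏ s, (((e s)! : ℕ) : ℚ)⁻¹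

noncomputable def mm (e : σ →₀ ℕ) : MvPolynomial σ ℚ := MvPolynomial.monomial e (cc e)

noncomputable def gg (e : σ →₀ ℕ) : A := ∏ s, D.G (e s) (xs s)

def NN (e e' : σ →₀ ℕ) : ℕ := ∏ s, (e s + e' s).choose (e s)

theorem cc_ne_zero (e : σ →₀ ℕ) : cc e ≠ 0 := by
  unfold cc
  exact Finset.prod_ne_zero_iff.mpr (fun s _ => inv_ne_zero (by positivity))

theorem cc_mul (e e' : σ →₀ ℕ) : cc e * cc e' = (NN e e' : ℚ) * cc (e + e') := by
  unfold cc NN
  rw [Nat.cast_prod, ← Finset.prod_mul_distrib, ← Finset.prod_mul_distrib]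
  apply Finset.prod_congr rfl
  intro s _
  rw [Finsupp.add_apply, Nat.cast_add_choose]
  have h1 : ((e s)! : ℚ) ≠ 0 := by positivity
  have h2 : ((e' s)! : ℚ) ≠ 0 := by positivity
  have h3 : ((e s + e' s)! : ℚ) ≠ 0 := by positivity
  first | (field_simp; ring) | field_simp

theorem mm_mul (e e' : σ →₀ ℕ) : (mm e * mm e' : MvPolynomial σ ℚ) = NN e e' • mm (e + e') := by
  unfold mm
  rw [MvPolynomial.monomial_mul, cc_mul, MvPolynomial.smul_monomial, nsmul_eq_mul]

theorem gg_mul (hxs : ∀ s, xs s ∈ D.I) (e e' : σ →₀ ℕ) :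
    gg D xs e * gg D xs e' = NN e e' • gg D xs (e + e') := by
  unfold gg NN
  rw [nsmul_eq_mul, Nat.cast_prod, ← Finset.prod_mul_distrib, ← Finset.prod_mul_distrib]
  apply Finset.prod_congr rfl
  intro s _
  rw [Finsupp.add_apply]
  exact D.G_mul _ (e s) (e' s) rfl (xs s) (hxs s)

noncomputable def pairs (e : σ →₀ ℕ) : MvPolynomial σ ℚ × A := (mm e, gg D xs e)

theorem pairs_mul (hxs : ∀ s, xs s ∈ D.I) (e e' : σ →₀ ℕ) :
    pairs D xs e * pairs D xs e' = NN e e' • pairs D xs (e + e') := by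
  unfold pairs
  rw [Prod.mk_mul_mk, mm_mul, gg_mul D xs hxs, Prod.smul_mk]

theorem pairs_zero : pairs D xs (0 : σ →₀ ℕ) = 1 := by
  unfold pairs mm gg cc
  apply Prod.ext
  · simp
  · simp [Data.G_zero]

noncomputable def RR : Submodule ℤ (MvPolynomial σ ℚ × A) :=
  Submodule.span ℤ (Set.range (pairs D xs))

theorem RR_one : (1 : MvPolynomial σ ℚ × A) ∈ RR D xs := by
  rw [← pairs_zero D xs]; exact Submodule.subset_span ⟨0, rfl⟩

theorem RR_mul (hxs : ∀ s, xs s ∈ D.I) :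
    ∀ x y, x ∈ RR D xs → y ∈ RR D xs → x * y ∈ RR D xs := by
  have h : RR D xs * RR D xs ≤ RR D xs := by
    unfold RR
    rw [Submodule.span_mul_span]
    apply Submodule.span_le.mpr
    rintro _ ⟨_, ⟨e, rfl⟩, _, ⟨e', rfl⟩, rfl⟩
    show pairs D xs e * pairs D xs e' ∈ _
    rw [pairs_mul D xs hxs]
    exact nsmul_mem (Submodule.subset_span (Set.mem_range_self (e + e'))) _
  intro x y hx hy
  exact h (Submodule.mul_mem_mul hx hy)

noncomputable abbrev Bsub (hxs : ∀ s, xs s ∈ D.I) : Subalgebra ℤ (MvPolynomial σ ℚ × A) :=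
  (RR D xs).toSubalgebra (RR_one D xs) (RR_mul D xs hxs)

abbrev BB (hxs : ∀ s, xs s ∈ D.I) : Type u := ↥(Bsub D xs hxs)

noncomputable def piB (hxs : ∀ s, xs s ∈ D.I) : BB D xs hxs →+* MvPolynomial σ ℚ :=
  (RingHom.fst _ _).comp (Bsub D xs hxs).val.toRingHom

noncomputable def phiB (hxs : ∀ s, xs s ∈ D.I) : BB D xs hxs →+* A :=
  (RingHom.snd _ _).comp (Bsub D xs hxs).val.toRingHom

theorem piB_apply (hxs : ∀ s, xs s ∈ D.I) (b : BB D xs hxs) :
    piB D xs hxs b = (b : MvPolynomial σ ℚ × A).1 := rfl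

theorem phiB_apply (hxs : ∀ s, xs s ∈ D.I) (b : BB D xs hxs) :
    phiB D xs hxs b = (b : MvPolynomial σ ℚ × A).2 := rfl

theorem fst_eq_zero_imp (y : MvPolynomial σ ℚ × A) (hy : y ∈ RR D xs) (h0 : y.1 = 0) :
    y = 0 := by
  obtain ⟨l, rfl⟩ := (Finsupp.mem_span_range_iff_exists_finsupp).mp hy
  have hl : l = 0 := by
    ext e
    have h1 := congrArg (MvPolynomial.coeff e) h0
    rw [Finsupp.sum, Prod.fst_sum, MvPolynomial.coeff_sum] at h1
    simp only [pairs, mm, Prod.smul_fst, MvPolynomial.coeff_smul, MvPolynomial.coeff_monomial,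
      MvPolynomial.coeff_zero] at h1
    rw [Finset.sum_eq_single e] at h1
    · rw [if_pos rfl] at h1
      have := (smul_eq_zero.mp h1).resolve_right (cc_ne_zero e)
      simpa using this
    · intro e' _ hne; rw [if_neg hne, smul_zero]
    · intro hnot; rw [Finsupp.notMem_support_iff.mp hnot, zero_smul]
  rw [hl]; simp

theorem piB_injective (hxs : ∀ s, xs s ∈ D.I) : Function.Injective (piB D xs hxs) := by
  rw [injective_iff_map_eq_zero]
  intro b hb
  apply Subtype.ext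
  exact fst_eq_zero_imp D xs _ (Submodule.mem_toSubalgebra.mp b.2) hb

theorem BB_torsionFree (hxs : ∀ s, xs s ∈ D.I) : IsAddTorsionFree (BB D xs hxs) := by
  refine ⟨fun n hn b b' h => ?_⟩
  have h' : n • (b - b') = 0 := by rw [smul_sub, sub_eq_zero]; exact h
  have h3 := congrArg (piB D xs hxs) h'
  rw [map_nsmul, map_zero, nsmul_eq_mul] at h3
  have h4 : piB D xs hxs (b - b') = 0 := by
    rcases mul_eq_zero.mp h3 with h | h
    · exact absurd (Nat.cast_eq_zero.mp h) hn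
    · exact h
  have h5 : b - b' = 0 := piB_injective D xs hxs (by rw [h4, map_zero])
  exact sub_eq_zero.mp h5

noncomputable instance instTF (hxs : ∀ s, xs s ∈ D.I) : IsAddTorsionFree (BB D xs hxs) :=
  BB_torsionFree D xs hxs

noncomputable def beta (hxs : ∀ s, xs s ∈ D.I) (e : σ →₀ ℕ) : BB D xs hxs :=
  ⟨pairs D xs e, Submodule.mem_toSubalgebra.mpr (Submodule.subset_span ⟨e, rfl⟩)⟩

noncomputable def UU (hxs : ∀ s, xs s ∈ D.I) (s : σ) (k : ℕ) : BB D xs hxs :=
  beta D xs hxs (Finsupp.single s k)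

theorem cc_single (s : σ) (k : ℕ) : cc (Finsupp.single s k) = ((k ! : ℕ) : ℚ)⁻¹ := by
  unfold cc
  rw [Finset.prod_eq_single s]
  · rw [Finsupp.single_eq_same]
  · intro t _ hts
    rw [Finsupp.single_apply, if_neg (Ne.symm hts)]
    simp
  · intro h; exact absurd (Finset.mem_univ s) h

theorem gg_single (s : σ) (k : ℕ) : gg D xs (Finsupp.single s k) = D.G k (xs s) := by
  unfold gg
  rw [Finset.prod_eq_single s]
  · rw [Finsupp.single_eq_same]
  · intro t _ hts
    rw [Finsupp.single_apply, if_neg (Ne.symm hts), Data.G_zero]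
  · intro h; exact absurd (Finset.mem_univ s) h

theorem pi_UU (hxs : ∀ s, xs s ∈ D.I) (s : σ) (k : ℕ) :
    piB D xs hxs (UU D xs hxs s k)
      = MvPolynomial.monomial (Finsupp.single s k) (((k ! : ℕ) : ℚ)⁻¹) := by
  rw [piB_apply]
  show mm (Finsupp.single s k) = _
  unfold mm; rw [cc_single]

theorem phi_UU (hxs : ∀ s, xs s ∈ D.I) (s : σ) (k : ℕ) :
    phiB D xs hxs (UU D xs hxs s k) = D.G k (xs s) := by
  rw [phiB_apply]
  show gg D xs (Finsupp.single s k) = _
  exact gg_single D xs s k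

theorem UU_pow (hxs : ∀ s, xs s ∈ D.I) (s : σ) {k : ℕ} (hk : k ≠ 0) (n : ℕ) :
    (UU D xs hxs s k) ^ n
      = ((n ! * Nat.uniformBell n k : ℕ) : BB D xs hxs) * UU D xs hxs s (n * k) := by
  apply piB_injective D xs hxs
  rw [map_pow, map_mul, map_natCast, pi_UU, pi_UU, MvPolynomial.monomial_pow,
    Finsupp.smul_single, smul_eq_mul, ← nsmul_eq_mul, MvPolynomial.smul_monomial, nsmul_eq_mul]
  congr 1
  have h := ub_cast n hk
  push_cast
  rw [h]
  have h1 : (k ! : ℚ) ≠ 0 := by positivity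
  have h2 : (n ! : ℚ) ≠ 0 := by positivity
  have h3 : ((n * k)! : ℚ) ≠ 0 := by positivity
  generalize (k ! : ℚ) = K at h1 ⊢
  generalize (n ! : ℚ) = N at h2 ⊢
  generalize ((n * k)! : ℚ) = M at h3 ⊢
  rw [inv_pow]
  first | (field_simp; ring) | field_simp

def gens (hxs : ∀ s, xs s ∈ D.I) : Set (BB D xs hxs) :=
  {b | ∃ (s : σ) (k : ℕ), 1 ≤ k ∧ b = UU D xs hxs s k}

noncomputable def JJ (hxs : ∀ s, xs s ∈ D.I) : Ideal (BB D xs hxs) :=
  Ideal.span (gens D xs hxs)

theorem UU_mem (hxs : ∀ s, xs s ∈ D.I) (s : σ) {k : ℕ} (hk : 1 ≤ k) :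
    UU D xs hxs s k ∈ JJ D xs hxs := Ideal.subset_span ⟨s, k, hk, rfl⟩

theorem hall (hxs : ∀ s, xs s ∈ D.I) :
    ∀ x ∈ JJ D xs hxs, TF.HasDP (JJ D xs hxs) x := by
  apply TF.hasDP_of_span (S := gens D xs hxs) rfl
  rintro _ ⟨s, k, hk, rfl⟩ n hn
  rw [UU_pow D xs hxs s (by omega) n]
  have e : ((n ! * Nat.uniformBell n k : ℕ) : BB D xs hxs) * UU D xs hxs s (n * k)
      = (n ! : BB D xs hxs) * ((Nat.uniformBell n k : BB D xs hxs) * UU D xs hxs s (n * k)) := by
    push_cast; ring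
  rw [e]
  exact Ideal.mul_mem_mul (Ideal.mem_span_singleton_self _)
    ((JJ D xs hxs).mul_mem_left _ (UU_mem D xs hxs s (Nat.mul_pos hn hk)))

noncomputable def gammaB (hxs : ∀ s, xs s ∈ D.I) : DividedPowers (JJ D xs hxs) :=
  TF.dp (JJ D xs hxs) (hall D xs hxs)

theorem gammaB_unique (hxs : ∀ s, xs s ∈ D.I) {x y : BB D xs hxs} (hx : x ∈ JJ D xs hxs) {n : ℕ}
    (h : (n ! : BB D xs hxs) * y = x ^ n) : (gammaB D xs hxs).dpow n x = y :=
  TF.cancel (Nat.factorial_ne_zero n)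
    (((gammaB D xs hxs).factorial_mul_dpow_eq_pow hx).trans h.symm)

end Transfer

end Groth.Agent.Lib.DPowExistsH1
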