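import Groth.Agent.Lib.DPowExists2_helper1
import Mathlib.Data.Nat.Prime.Factorial

/-!
# Existence of a divided power structure from its `p`-th divided power (S2212), part 3
-/

set_option autoImplicit false
set_option maxHeartbeats 1000000

universe u

namespace Groth.Agent.Lib.DPowExistsH1

open scoped Nat

section Transfer

variable {p : ℕ} [hp : Fact p.Prime] {A : Type u} [CommRing A] (D : Data p A)
variable {σ : Type} [Fintype σ] [DecidableEq σ] (xs : σ → A)

theorem Data.d_zero (D : Data p A) : D.d 0 = 0 := by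
  have h := D.h2 0 0 D.I.zero_mem
  rw [zero_mul, zero_pow hp.out.ne_zero, zero_mul] at h
  exact h

theorem antidiag_not (p : ℕ) (hp0 : 0 < p) :
    (Finset.antidiagonal p).filter (fun k => ¬ (0 < k.1 ∧ 0 < k.2)) = {(0, p), (p, 0)} := by
  ext ⟨i, j⟩
  simp only [Finset.mem_filter, Finset.mem_antidiagonal, Finset.mem_insert,
    Finset.mem_singleton, Prod.mk.injEq]
  omega

theorem phi_mem_and_L (hxs : ∀ s, xs s ∈ D.I) : ∀ f ∈ JJ D xs hxs,
    phiB D xs hxs f ∈ D.I ∧
      phiB D xs hxs ((gammaB D xs hxs).dpow p f) = D.d (phiB D xs hxs f) := by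
  intro f hf
  have hf' : f ∈ Submodule.span (BB D xs hxs) (gens D xs hxs) := hf
  induction hf' using Submodule.span_induction with
  | mem x hx =>
    obtain ⟨s, k, hk, rfl⟩ := hx
    have hk0 : k ≠ 0 := by omega
    refine ⟨?_, ?_⟩
    · rw [phi_UU]; exact D.G_mem k hk0 _ (hxs s)
    · have hγ : (gammaB D xs hxs).dpow p (UU D xs hxs s k)
          = (Nat.uniformBell p k : BB D xs hxs) * UU D xs hxs s (p * k) := by
        apply gammaB_unique D xs hxs (UU_mem D xs hxs s hk)
        rw [UU_pow D xs hxs s hk0 p]; push_cast; ring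
      rw [hγ, map_mul, map_natCast, phi_UU, phi_UU]
      exact (D.G_d k hk0 _ (hxs s)).symm
  | zero =>
    refine ⟨by rw [map_zero]; exact D.I.zero_mem, ?_⟩
    rw [(gammaB D xs hxs).dpow_eval_zero hp.out.ne_zero, map_zero, D.d_zero]
  | add x y hx hy ihx ihy =>
    have hxJ : x ∈ JJ D xs hxs := hx
    have hyJ : y ∈ JJ D xs hxs := hy
    obtain ⟨ix1, ix2⟩ := ihx hxJ
    obtain ⟨iy1, iy2⟩ := ihy hyJ
    refine ⟨by rw [map_add]; exact D.I.add_mem ix1 iy1, ?_⟩
    rw [(gammaB D xs hxs).dpow_add hxJ hyJ, map_sum, map_add, D.h3 _ ix1 _ iy1,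
      ← Finset.sum_filter_add_sum_filter_not (Finset.antidiagonal p)
        (fun k => 0 < k.1 ∧ 0 < k.2),
      antidiag_not p hp.out.pos,
      Finset.sum_pair (by simp [hp.out.ne_zero] : ((0 : ℕ), p) ≠ (p, 0))]
    simp only [map_mul]
    rw [(gammaB D xs hxs).dpow_zero hxJ, (gammaB D xs hxs).dpow_zero hyJ, map_one, one_mul,
      mul_one, iy2, ix2]
    have hsum : ∑ k ∈ (Finset.antidiagonal p).filter (fun k => 0 < k.1 ∧ 0 < k.2),
          phiB D xs hxs ((gammaB D xs hxs).dpow k.1 x) * phiB D xs hxs ((gammaB D xs hxs).dpow k.2 y)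
        = ∑ k ∈ (Finset.antidiagonal p).filter (fun k => 0 < k.1 ∧ 0 < k.2),
          Ring.inverse ((k.1.factorial * k.2.factorial : ℕ) : A) * phiB D xs hxs x ^ k.1
            * phiB D xs hxs y ^ k.2 := by
      apply Finset.sum_congr rfl
      intro k hk
      rw [Finset.mem_filter, Finset.mem_antidiagonal] at hk
      obtain ⟨hk0, hk1, hk2⟩ := hk
      have hX := congrArg (phiB D xs hxs)
        ((gammaB D xs hxs).factorial_mul_dpow_eq_pow hxJ (n := k.1))
      have hY := congrArg (phiB D xs hxs)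
        ((gammaB D xs hxs).factorial_mul_dpow_eq_pow hyJ (n := k.2))
      rw [map_mul, map_natCast, map_pow] at hX hY
      have hnd : ¬ p ∣ k.1.factorial * k.2.factorial := by
        intro h
        rcases (Nat.Prime.dvd_mul hp.out).mp h with h | h
        · have := (Nat.Prime.dvd_factorial hp.out).mp h; omega
        · have := (Nat.Prime.dvd_factorial hp.out).mp h; omega
      have hu := D.hA _ hnd
      have hu' := Ring.inverse_mul_cancel _ hu
      have hcast : ((k.1.factorial * k.2.factorial : ℕ) : A)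
          = (k.1.factorial : A) * (k.2.factorial : A) := Nat.cast_mul _ _
      rw [← hX, ← hY]
      calc phiB D xs hxs ((gammaB D xs hxs).dpow k.1 x)
            * phiB D xs hxs ((gammaB D xs hxs).dpow k.2 y)
          = (Ring.inverse ((k.1.factorial * k.2.factorial : ℕ) : A)
              * ((k.1.factorial * k.2.factorial : ℕ) : A))
            * (phiB D xs hxs ((gammaB D xs hxs).dpow k.1 x)
              * phiB D xs hxs ((gammaB D xs hxs).dpow k.2 y)) := by rw [hu', one_mul]
        _ = _ := by rw [hcast]; ring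
    rw [hsum]; ring
  | smul a x hx ih =>
    have hxJ : x ∈ JJ D xs hxs := hx
    obtain ⟨ih1, ih2⟩ := ih hxJ
    rw [smul_eq_mul]
    refine ⟨by rw [map_mul]; exact D.I.mul_mem_left _ ih1, ?_⟩
    rw [(gammaB D xs hxs).dpow_mul hxJ, map_mul, map_pow, ih2, map_mul, D.h2 _ _ ih1]

theorem phi_gamma (hxs : ∀ s, xs s ∈ D.I) : ∀ (n : ℕ), ∀ f ∈ JJ D xs hxs,
    phiB D xs hxs ((gammaB D xs hxs).dpow n f) = D.G n (phiB D xs hxs f) := by
  intro n
  induction n using Nat.strong_induction_on with
  | _ n ih =>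
    intro f hf
    rcases Nat.eq_zero_or_pos n with rfl | hn
    · rw [(gammaB D xs hxs).dpow_zero hf, map_one, Data.G_zero]
    have hlt : n / p < n := Nat.div_lt_self hn hp.out.one_lt
    have hgp : (gammaB D xs hxs).dpow p f ∈ JJ D xs hxs :=
      (gammaB D xs hxs).dpow_mem hp.out.ne_zero hf
    have key : (tau p n : BB D xs hxs) * (gammaB D xs hxs).dpow n f
        = f ^ (n % p) * (gammaB D xs hxs).dpow (n / p) ((gammaB D xs hxs).dpow p f) := by
      apply TF.cancel (Nat.factorial_ne_zero n)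
      have e1 := (gammaB D xs hxs).factorial_mul_dpow_eq_pow hf (n := n)
      have e2 := (gammaB D xs hxs).factorial_mul_dpow_eq_pow hgp (n := n / p)
      have e3 := (gammaB D xs hxs).factorial_mul_dpow_eq_pow hf (n := p)
      have e4 : (n ! : BB D xs hxs) = (tau p n : BB D xs hxs)
          * ((p ! : BB D xs hxs) ^ (n / p) * ((n / p)! : BB D xs hxs)) := by
        rw [← tau_spec p n]; push_cast; ring
      have e5 : f ^ n = f ^ (n % p) * (f ^ p) ^ (n / p) := by
        rw [← pow_mul, ← pow_add, Nat.mod_add_div]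
      calc (n ! : BB D xs hxs) * ((tau p n : BB D xs hxs) * (gammaB D xs hxs).dpow n f)
          = (tau p n : BB D xs hxs) * ((n ! : BB D xs hxs) * (gammaB D xs hxs).dpow n f) := by
            ring
        _ = (tau p n : BB D xs hxs) * (f ^ (n % p) * (f ^ p) ^ (n / p)) := by rw [e1, e5]
        _ = (tau p n : BB D xs hxs) * (f ^ (n % p)
              * ((p ! : BB D xs hxs) * (gammaB D xs hxs).dpow p f) ^ (n / p)) := by rw [e3]
        _ = (tau p n : BB D xs hxs) * ((p ! : BB D xs hxs) ^ (n / p)) * f ^ (n % p)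
              * ((gammaB D xs hxs).dpow p f) ^ (n / p) := by rw [mul_pow]; ring
        _ = (tau p n : BB D xs hxs) * ((p ! : BB D xs hxs) ^ (n / p)) * f ^ (n % p)
              * (((n / p)! : BB D xs hxs)
                * (gammaB D xs hxs).dpow (n / p) ((gammaB D xs hxs).dpow p f)) := by rw [e2]
        _ = (n ! : BB D xs hxs) * (f ^ (n % p)
              * (gammaB D xs hxs).dpow (n / p) ((gammaB D xs hxs).dpow p f)) := by
            rw [e4]; ring
    have key' := congrArg (phiB D xs hxs) key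
    rw [map_mul, map_natCast, map_mul, map_pow, ih (n / p) hlt _ hgp,
      (phi_mem_and_L D xs hxs f hf).2] at key'
    have hι : D.iota (rho p n) * (tau p n : A) = 1 := by
      have := congrArg D.iota (rho_mul_tau p n)
      rwa [map_mul, map_natCast, map_one] at this
    rw [D.G_eq n, mul_assoc, ← key', ← mul_assoc, hι, one_mul]

end Transfer

section Final

variable {p : ℕ} [hp : Fact p.Prime] {A : Type u} [CommRing A]

theorem Data.G_add (D : Data p A) (n : ℕ) {x y : A} (hx : x ∈ D.I) (hy : y ∈ D.I) :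
    D.G n (x + y) = ∑ k ∈ Finset.antidiagonal n, D.G k.1 x * D.G k.2 y := by
  let xs : Bool → A := fun b => if b then y else x
  have hxs : ∀ s, xs s ∈ D.I := by
    intro s; cases s
    · exact hx
    · exact hy
  have hu : UU D xs hxs false 1 ∈ JJ D xs hxs := UU_mem D xs hxs false le_rfl
  have hv : UU D xs hxs true 1 ∈ JJ D xs hxs := UU_mem D xs hxs true le_rfl
  have eu : phiB D xs hxs (UU D xs hxs false 1) = x := by rw [phi_UU, Data.G_one]; rfl
  have ev : phiB D xs hxs (UU D xs hxs true 1) = y := by rw [phi_UU, Data.G_one]; rfl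
  have h1 := phi_gamma D xs hxs n _ ((JJ D xs hxs).add_mem hu hv)
  rw [map_add, eu, ev] at h1
  rw [← h1, (gammaB D xs hxs).dpow_add hu hv, map_sum]
  apply Finset.sum_congr rfl
  intro k _
  rw [map_mul, phi_gamma D xs hxs k.1 _ hu, phi_gamma D xs hxs k.2 _ hv, eu, ev]

theorem Data.G_comp (D : Data p A) (m : ℕ) {n : ℕ} (hn : n ≠ 0) {x : A} (hx : x ∈ D.I) :
    D.G m (D.G n x) = (Nat.uniformBell m n : A) * D.G (m * n) x := by
  let xs : Unit → A := fun _ => x
  have hxs : ∀ s, xs s ∈ D.I := fun _ => hx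
  have hu : UU D xs hxs () 1 ∈ JJ D xs hxs := UU_mem D xs hxs () le_rfl
  have eu : phiB D xs hxs (UU D xs hxs () 1) = x := by rw [phi_UU, Data.G_one]
  have hgn := (gammaB D xs hxs).dpow_mem hn hu
  have h1 := phi_gamma D xs hxs m _ hgn
  rw [phi_gamma D xs hxs n _ hu, eu] at h1
  rw [← h1, (gammaB D xs hxs).dpow_comp hn hu, map_mul, map_natCast,
    phi_gamma D xs hxs (m * n) _ hu, eu]

open Classical in
noncomputable def Data.dp (D : Data p A) : DividedPowers D.I where
  dpow n x := if x ∈ D.I then D.G n x else 0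
  dpow_null := fun {n x} hx => if_neg hx
  dpow_zero := fun {x} hx => by simp only [if_pos hx, Data.G_zero]
  dpow_one := fun {x} hx => by simp only [if_pos hx, Data.G_one]
  dpow_mem := fun {n x} hn hx => by simp only [if_pos hx]; exact D.G_mem n hn x hx
  dpow_add := fun {n x y} hx hy => by
    simp only [if_pos hx, if_pos hy, if_pos (D.I.add_mem hx hy)]
    exact D.G_add n hx hy
  dpow_mul := fun {n a x} hx => by
    simp only [if_pos hx, if_pos (D.I.mul_mem_left a hx)]; exact D.G_smul n a x hx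
  mul_dpow := fun {m n x} hx => by
    simp only [if_pos hx]; exact D.G_mul (m + n) m n rfl x hx
  dpow_comp := fun {m n x} hn hx => by
    simp only [if_pos hx, if_pos (D.G_mem n hn x hx)]; exact D.G_comp m hn hx

open Classical in
theorem Data.dp_dpow (D : Data p A) (n : ℕ) {x : A} (hx : x ∈ D.I) :
    D.dp.dpow n x = D.G n x := by
  show (if x ∈ D.I then D.G n x else 0) = _
  exact if_pos hx

end Final

theorem main {A : Type u} [CommRing A] (p : ℕ) (hp : p.Prime)
    (hA : ∀ n : ℕ, ¬ p ∣ n → IsUnit (n : A)) {I : Ideal A} (d : A → A)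
    (hdI : ∀ x ∈ I, d x ∈ I) (h1 : ∀ x ∈ I, (p.factorial : A) * d x = x ^ p)
    (h2 : ∀ (a x : A), x ∈ I → d (a * x) = a ^ p * d x)
    (h3 : ∀ x ∈ I, ∀ y ∈ I, d (x + y) = d x + d y +
      ((Finset.antidiagonal p).filter fun k => 0 < k.1 ∧ 0 < k.2).sum
        fun k => Ring.inverse ((k.1.factorial * k.2.factorial : ℕ) : A) * x ^ k.1 * y ^ k.2) :
    ∃! γ : DividedPowers I, ∀ x ∈ I, γ.dpow p x = d x := by
  have : Fact p.Prime := ⟨hp⟩
  let D : Data p A := ⟨hA, I, d, hdI, h1, h2, h3⟩
  have hD : ∀ x ∈ I, D.dp.dpow p x = d x := by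
    intro x hx
    rw [D.dp_dpow p hx]; exact D.G_p x
  refine ⟨D.dp, hD, ?_⟩
  intro γ' hγ'
  apply (Prime.main p hp hA γ' D.dp).mpr
  intro x hx
  rw [hγ' x hx, hD x hx]

end Groth.Agent.Lib.DPowExistsH1
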