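import Groth.Agent.Lib.DPowTFCopy_helper1

/-!
# Existence of a divided power structure from its `p`-th divided power (S2212)
-/

set_option autoImplicit false
set_option maxHeartbeats 1000000

universe u

namespace Groth.Agent.Lib.DPowExistsH1

open scoped Nat

section Zp

variable (p : ℕ) [hp : Fact p.Prime]

instance spanPrime : (Ideal.span {(p : ℤ)}).IsPrime :=
  (Ideal.span_singleton_prime (by exact_mod_cast hp.out.ne_zero)).mpr
    (Nat.prime_iff_prime_int.mp hp.out)

/-- the localization `ℤ_(p)` -/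
abbrev Zp : Type := Localization.AtPrime (Ideal.span {(p : ℤ)})

theorem not_dvd_of_mem (y : (Ideal.span {(p : ℤ)}).primeCompl) : ¬ (p : ℤ) ∣ (y : ℤ) := by
  have h := y.2
  rw [Ideal.mem_primeCompl_iff, Ideal.mem_span_singleton] at h
  exact h

theorem isUnit_cast_rat (y : (Ideal.span {(p : ℤ)}).primeCompl) :
    IsUnit (Int.castRingHom ℚ (y : ℤ)) := by
  rw [isUnit_iff_ne_zero, eq_intCast]
  intro h
  apply not_dvd_of_mem p y
  have h0 : (y : ℤ) = 0 := by exact_mod_cast h
  rw [h0]; exact dvd_zero _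

noncomputable def j : Zp p →+* ℚ :=
  IsLocalization.lift (M := (Ideal.span {(p : ℤ)}).primeCompl) (g := Int.castRingHom ℚ)
    (isUnit_cast_rat p)

theorem j_injective : Function.Injective (j p) := by
  unfold j
  rw [IsLocalization.lift_injective_iff]
  intro a b
  have hinj : Function.Injective (algebraMap ℤ (Zp p)) :=
    IsLocalization.injective (Zp p) (Ideal.primeCompl_le_nonZeroDivisors (Ideal.span {(p : ℤ)}))
  rw [hinj.eq_iff, eq_intCast, eq_intCast, Int.cast_inj]

theorem isUnit_natCast_Zp {n : ℕ} (hn : ¬ p ∣ n) : IsUnit (n : Zp p) := by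
  have hmem : ((n : ℤ)) ∈ (Ideal.span {(p : ℤ)}).primeCompl := by
    rw [Ideal.mem_primeCompl_iff, Ideal.mem_span_singleton]
    exact fun h => hn (Int.natCast_dvd_natCast.mp h)
  have h := IsLocalization.map_units (Zp p) (⟨(n : ℤ), hmem⟩ : (Ideal.span {(p : ℤ)}).primeCompl)
  simpa using h

/-- `τ n = n! / ((p!)^(n/p) (n/p)!)`, an integer prime to `p`. -/
def tau (n : ℕ) : ℕ := Nat.uniformBell (n / p) p * (p * (n / p) + 1).ascFactorial (n % p)

theorem tau_spec (n : ℕ) : tau p n * (p ! ^ (n / p) * (n / p)!) = n ! := by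
  have h1 := Nat.uniformBell_mul_eq (n / p) hp.out.ne_zero
  have h2 := Nat.factorial_mul_ascFactorial (p * (n / p)) (n % p)
  have h3 : p * (n / p) + n % p = n := Nat.div_add_mod n p
  rw [h3] at h2
  rw [mul_comm (n / p) p] at h1
  rw [← h2, ← h1, tau]; ring

theorem tau_not_dvd (n : ℕ) : ¬ p ∣ tau p n := by
  intro h
  rcases (Nat.Prime.dvd_mul hp.out).mp h with h | h
  · exact Prime.not_dvd_uniformBell p hp.out _ h
  · rw [Nat.ascFactorial_eq_prod_range] at h
    obtain ⟨i, hi, hdvd⟩ := (Prime.dvd_finsetProd_iff (Nat.prime_iff.mp hp.out) _).mp h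
    rw [Finset.mem_range] at hi
    have hlt : n % p < p := Nat.mod_lt _ hp.out.pos
    have h1 : p ∣ 1 + i := by
      have e : p * (n / p) + 1 + i = p * (n / p) + (1 + i) := by ring
      rw [e] at hdvd
      exact (Nat.dvd_add_right (dvd_mul_right p _)).mp hdvd
    have := Nat.le_of_dvd (by omega) h1
    omega

noncomputable def rho (n : ℕ) : Zp p := ↑((isUnit_natCast_Zp p (tau_not_dvd p n)).unit⁻¹)

theorem rho_mul_tau (n : ℕ) : rho p n * (tau p n : Zp p) = 1 := by
  unfold rho; exact IsUnit.val_inv_mul _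

theorem j_rho (n : ℕ) :
    j p (rho p n) = ((p ! : ℚ) ^ (n / p) * ((n / p)! : ℚ)) / (n ! : ℚ) := by
  have h1 : j p (rho p n) * (tau p n : ℚ) = 1 := by
    have := congrArg (j p) (rho_mul_tau p n)
    simpa using this
  have h2 : ((tau p n : ℕ) : ℚ) * ((p ! : ℚ) ^ (n / p) * ((n / p)! : ℚ)) = (n ! : ℚ) := by
    exact_mod_cast congrArg (Nat.cast (R := ℚ)) (tau_spec p n)
  have hn : (n ! : ℚ) ≠ 0 := by positivity
  rw [eq_div_iff hn, ← h2]
  calc j p (rho p n) * (↑(tau p n) * ((p ! : ℚ) ^ (n / p) * ((n / p)! : ℚ)))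
      = (j p (rho p n) * ↑(tau p n)) * ((p ! : ℚ) ^ (n / p) * ((n / p)! : ℚ)) := by ring
    _ = _ := by rw [h1, one_mul]

theorem j_rho' {a : ℕ} (ha : a < p) (n' : ℕ) :
    j p (rho p (a + p * n')) = ((p ! : ℚ) ^ n' * (n' ! : ℚ)) / ((a + p * n')! : ℚ) := by
  rw [j_rho]
  have h1 : (a + p * n') / p = n' := by
    rw [Nat.add_mul_div_left _ _ hp.out.pos, Nat.div_eq_of_lt ha, zero_add]
  rw [h1]

theorem j_rho_small {k : ℕ} (hk : k < p) : j p (rho p k) = 1 / (k ! : ℚ) := by
  rw [j_rho, Nat.div_eq_of_lt hk]; simp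

theorem j_rho_mul (k : ℕ) :
    j p (rho p (p * k)) = ((p ! : ℚ) ^ k * (k ! : ℚ)) / ((p * k)! : ℚ) := by
  have := j_rho' p hp.out.pos k
  rwa [zero_add] at this

theorem rho_zero : rho p 0 = 1 := by
  apply j_injective p
  rw [j_rho_small p hp.out.pos, map_one]; simp

theorem rho_one : rho p 1 = 1 := by
  apply j_injective p
  rw [j_rho_small p hp.out.one_lt, map_one]; simp

theorem rho_p : rho p p = 1 := by
  apply j_injective p
  have := j_rho_mul p 1
  rw [mul_one] at this
  rw [this, map_one]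
  have h : (p ! : ℚ) ≠ 0 := by positivity
  simp [h]

theorem ub_cast (m : ℕ) {n : ℕ} (hn : n ≠ 0) :
    (Nat.uniformBell m n : ℚ) = ((m * n)! : ℚ) / (((n ! : ℚ)) ^ m * (m ! : ℚ)) := by
  have h := Nat.uniformBell_mul_eq m hn
  have h' : (Nat.uniformBell m n : ℚ) * (n ! : ℚ) ^ m * (m ! : ℚ) = ((m * n)! : ℚ) := by
    exact_mod_cast congrArg (Nat.cast (R := ℚ)) h
  have h1 : (n ! : ℚ) ≠ 0 := by positivity
  have h2 : (m ! : ℚ) ≠ 0 := by positivity
  rw [eq_div_iff (mul_ne_zero (pow_ne_zero _ h1) h2), ← h']; ring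

theorem const1 {a b : ℕ} (ha : a < p) (hb : b < p) (hab : a + b < p) (m' n' : ℕ) :
    rho p (a + p * m') * rho p (b + p * n') * ((m' + n').choose m' : Zp p)
      = ((a + p * m' + (b + p * n')).choose (a + p * m') : Zp p)
        * rho p (a + p * m' + (b + p * n')) := by
  apply j_injective p
  have e : a + p * m' + (b + p * n') = (a + b) + p * (m' + n') := by ring
  simp only [map_mul, map_natCast]
  rw [j_rho' p ha, j_rho' p hb, congrArg (rho p) e, j_rho' p hab, ← e, Nat.cast_add_choose,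
    Nat.cast_add_choose]
  have h1 : ((a + p * m')! : ℚ) ≠ 0 := by positivity
  have h2 : ((b + p * n')! : ℚ) ≠ 0 := by positivity
  have h3 : ((a + p * m' + (b + p * n'))! : ℚ) ≠ 0 := by positivity
  have h4 : (m' ! : ℚ) ≠ 0 := by positivity
  have h5 : (n' ! : ℚ) ≠ 0 := by positivity
  first | (field_simp; ring) | field_simp | ring

theorem const2 {a b c : ℕ} (ha : a < p) (hb : b < p) (hc : c < p) (hcab : a + b = c + p)
    (m' n' : ℕ) :
    rho p (a + p * m') * rho p (b + p * n') * ((m' + n').choose m' : Zp p) * (p ! : Zp p)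
        * ((m' + n' + 1 : ℕ) : Zp p)
      = ((a + p * m' + (b + p * n')).choose (a + p * m') : Zp p)
        * rho p (a + p * m' + (b + p * n')) := by
  apply j_injective p
  have e : a + p * m' + (b + p * n') = c + p * (m' + n' + 1) := by
    have : a + p * m' + (b + p * n') = (a + b) + p * (m' + n') := by ring
    rw [this, hcab]; ring
  simp only [map_mul, map_natCast]
  rw [j_rho' p ha, j_rho' p hb, congrArg (rho p) e, j_rho' p hc, ← e, Nat.cast_add_choose,
    Nat.cast_add_choose, Nat.factorial_succ (m' + n')]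
  have h1 : ((a + p * m')! : ℚ) ≠ 0 := by positivity
  have h2 : ((b + p * n')! : ℚ) ≠ 0 := by positivity
  have h3 : ((a + p * m' + (b + p * n'))! : ℚ) ≠ 0 := by positivity
  have h4 : (m' ! : ℚ) ≠ 0 := by positivity
  have h5 : (n' ! : ℚ) ≠ 0 := by positivity
  push_cast
  first | (field_simp; ring) | field_simp | ring

theorem const3 {k0 : ℕ} (hk : k0 + 1 < p) :
    rho p (k0 + 1) ^ p * (p ! : Zp p) ^ k0
      = (Nat.uniformBell p (k0 + 1) : Zp p) * rho p (p * (k0 + 1)) * rho p (k0 + 1) := by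
  apply j_injective p
  simp only [map_mul, map_pow, map_natCast]
  rw [j_rho_small p hk, j_rho_mul p (k0 + 1), ub_cast p (Nat.succ_ne_zero k0)]
  have h1 : ((k0 + 1)! : ℚ) ≠ 0 := by positivity
  have h2 : ((p * (k0 + 1))! : ℚ) ≠ 0 := by positivity
  have h3 : (p ! : ℚ) ≠ 0 := by positivity
  generalize ((k0 + 1)! : ℚ) = F at h1 ⊢
  generalize ((p * (k0 + 1))! : ℚ) = F2 at h2 ⊢
  generalize (p ! : ℚ) = P at h3 ⊢
  rw [one_div, inv_pow]
  first | (field_simp; ring) | field_simp | ring

theorem const4 {a : ℕ} (ha : a < p) {k' : ℕ} (hk' : k' ≠ 0) :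
    rho p (a + p * k') ^ p * (p ! : Zp p) ^ a * (Nat.uniformBell p k' : Zp p) * rho p (p * k')
      = (Nat.uniformBell p (a + p * k') : Zp p) * rho p (p * (a + p * k'))
        * rho p (a + p * k') := by
  apply j_injective p
  simp only [map_mul, map_pow, map_natCast]
  have hk : a + p * k' ≠ 0 := by
    have := Nat.mul_pos hp.out.pos (Nat.pos_of_ne_zero hk')
    omega
  rw [j_rho' p ha, j_rho_mul p k', j_rho_mul p (a + p * k'), ub_cast p hk', ub_cast p hk]
  have h1 : ((a + p * k')! : ℚ) ≠ 0 := by positivity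
  have h2 : ((p * (a + p * k'))! : ℚ) ≠ 0 := by positivity
  have h3 : (p ! : ℚ) ≠ 0 := by positivity
  have h4 : (k' ! : ℚ) ≠ 0 := by positivity
  have h5 : ((p * k')! : ℚ) ≠ 0 := by positivity
  generalize ((a + p * k')! : ℚ) = K at h1 ⊢
  generalize ((p * (a + p * k'))! : ℚ) = K2 at h2 ⊢
  generalize (p ! : ℚ) = P at h3 ⊢
  generalize (k' ! : ℚ) = K' at h4 ⊢
  generalize ((p * k')! : ℚ) = K2' at h5 ⊢
  rw [div_pow, mul_pow]
  first | (field_simp; ring) | field_simp | ring

end Zp


/-- the data of the statement -/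
structure Data (p : ℕ) (A : Type u) [CommRing A] where
  hA : ∀ n : ℕ, ¬ p ∣ n → IsUnit (n : A)
  I : Ideal A
  d : A → A
  hdI : ∀ x ∈ I, d x ∈ I
  h1 : ∀ x ∈ I, (p.factorial : A) * d x = x ^ p
  h2 : ∀ (a x : A), x ∈ I → d (a * x) = a ^ p * d x
  h3 : ∀ x ∈ I, ∀ y ∈ I, d (x + y) = d x + d y +
      ((Finset.antidiagonal p).filter fun k => 0 < k.1 ∧ 0 < k.2).sum
        fun k => Ring.inverse ((k.1.factorial * k.2.factorial : ℕ) : A) * x ^ k.1 * y ^ k.2

section Main

variable {p : ℕ} [hp : Fact p.Prime] {A : Type u} [CommRing A]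

theorem Data.isUnit_intCast (D : Data p A) (z : ℤ) (hz : ¬ (p : ℤ) ∣ z) : IsUnit (z : A) := by
  have h' : ¬ p ∣ z.natAbs := fun hd => hz (Int.natCast_dvd.mpr hd)
  have hu := D.hA _ h'
  rcases Int.natAbs_eq z with e | e
  · rw [e, Int.cast_natCast]; exact hu
  · rw [e, Int.cast_neg, Int.cast_natCast]; exact hu.neg

noncomputable def Data.iota (D : Data p A) : Zp p →+* A :=
  IsLocalization.lift (M := (Ideal.span {(p : ℤ)}).primeCompl) (g := Int.castRingHom A)
    (fun y => by rw [eq_intCast]; exact D.isUnit_intCast (y : ℤ) (not_dvd_of_mem p y))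

noncomputable def Data.G (D : Data p A) (n : ℕ) (z : A) : A :=
  if h : n = 0 then 1
  else D.iota (rho p n) * z ^ (n % p) * Data.G D (n / p) (D.d z)
termination_by n
decreasing_by exact Nat.div_lt_self (Nat.pos_of_ne_zero h) (Fact.out : p.Prime).one_lt

theorem Data.G_zero (D : Data p A) (z : A) : D.G 0 z = 1 := by
  rw [Data.G, dif_pos rfl]

theorem Data.G_eq (D : Data p A) (n : ℕ) (z : A) :
    D.G n z = D.iota (rho p n) * z ^ (n % p) * D.G (n / p) (D.d z) := by
  rcases Nat.eq_zero_or_pos n with rfl | hn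
  · rw [Nat.zero_mod, Nat.zero_div, Data.G_zero, Data.G_zero, rho_zero, map_one]; simp
  · conv_lhs => rw [Data.G, dif_neg (by omega)]

theorem Data.G_eq' (D : Data p A) {a : ℕ} (ha : a < p) (n' : ℕ) (z : A) :
    D.G (a + p * n') z = D.iota (rho p (a + p * n')) * z ^ a * D.G n' (D.d z) := by
  rw [D.G_eq]
  have h1 : (a + p * n') / p = n' := by
    rw [Nat.add_mul_div_left _ _ hp.out.pos, Nat.div_eq_of_lt ha, zero_add]
  have h2 : (a + p * n') % p = a := by rw [Nat.add_mul_mod_self_left, Nat.mod_eq_of_lt ha]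
  rw [h1, h2]

theorem Data.G_small (D : Data p A) {k : ℕ} (hk : k < p) (z : A) : D.G k z = D.iota (rho p k) * z ^ k := by
  rw [D.G_eq, Nat.mod_eq_of_lt hk, Nat.div_eq_of_lt hk, Data.G_zero, mul_one]

theorem Data.G_pmul (D : Data p A) (k : ℕ) (z : A) :
    D.G (p * k) z = D.iota (rho p (p * k)) * D.G k (D.d z) := by
  have := D.G_eq' hp.out.pos k z
  rwa [zero_add, pow_zero, mul_one] at this

theorem Data.G_one (D : Data p A) (z : A) : D.G 1 z = z := by
  rw [D.G_small hp.out.one_lt, rho_one, map_one, one_mul, pow_one]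

theorem Data.G_p (D : Data p A) (z : A) : D.G p z = D.d z := by
  have := D.G_pmul 1 z
  rw [mul_one] at this
  rw [this, rho_p, map_one, one_mul, Data.G_one]

theorem Data.G_mem (D : Data p A) : ∀ (n : ℕ), n ≠ 0 → ∀ x ∈ D.I, D.G n x ∈ D.I := by
  intro n
  induction n using Nat.strong_induction_on with
  | _ n ih =>
    intro hn x hx
    rw [D.G_eq]
    by_cases hr : n % p = 0
    · have hq : n / p ≠ 0 := by
        intro h0
        have := Nat.div_add_mod n p
        rw [h0, hr] at this; omega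
      exact D.I.mul_mem_left _ (ih (n / p)
        (Nat.div_lt_self (Nat.pos_of_ne_zero hn) hp.out.one_lt) hq (D.d x) (D.hdI x hx))
    · exact D.I.mul_mem_right _ (D.I.mul_mem_left _
        (D.I.pow_mem_of_mem hx _ (Nat.pos_of_ne_zero hr)))

theorem Data.G_smul (D : Data p A) : ∀ (n : ℕ) (a : A), ∀ x ∈ D.I, D.G n (a * x) = a ^ n * D.G n x := by
  intro n
  induction n using Nat.strong_induction_on with
  | _ n ih =>
    intro a x hx
    rcases Nat.eq_zero_or_pos n with rfl | hn
    · simp [Data.G_zero]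
    rw [D.G_eq n (a * x), D.G_eq n x, D.h2 a x hx,
      ih (n / p) (Nat.div_lt_self hn hp.out.one_lt) (a ^ p) (D.d x) (D.hdI x hx)]
    have : a ^ n = a ^ (n % p) * (a ^ p) ^ (n / p) := by
      rw [← pow_mul, ← pow_add, Nat.mod_add_div]
    rw [this, mul_pow]; ring

theorem Data.G_mul (D : Data p A) : ∀ (s m n : ℕ), m + n = s → ∀ x ∈ D.I,
    D.G m x * D.G n x = ((m + n).choose m : A) * D.G (m + n) x := by
  intro s
  induction s using Nat.strong_induction_on with
  | _ s ih =>
    intro m n hs x hx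
    rcases Nat.eq_zero_or_pos s with rfl | hpos
    · obtain ⟨rfl, rfl⟩ : m = 0 ∧ n = 0 := by omega
      simp [Data.G_zero]
    obtain ⟨a, m', ha, rfl⟩ : ∃ a m', a < p ∧ m = a + p * m' :=
      ⟨m % p, m / p, Nat.mod_lt _ hp.out.pos, (Nat.mod_add_div m p).symm⟩
    obtain ⟨b, n', hb, rfl⟩ : ∃ b n', b < p ∧ n = b + p * n' :=
      ⟨n % p, n / p, Nat.mod_lt _ hp.out.pos, (Nat.mod_add_div n p).symm⟩
    have hdx := D.hdI x hx
    have h2le := hp.out.two_le
    have hm2 : 2 * m' ≤ p * m' := Nat.mul_le_mul_right _ h2le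
    have hn2 : 2 * n' ≤ p * n' := Nat.mul_le_mul_right _ h2le
    have hlt : m' + n' < s := by omega
    have ihmn := ih (m' + n') hlt m' n' rfl (D.d x) hdx
    rw [D.G_eq' ha m' x, D.G_eq' hb n' x]
    by_cases hab : a + b < p
    · have e : a + p * m' + (b + p * n') = (a + b) + p * (m' + n') := by ring
      have hG := D.G_eq' hab (m' + n') x
      rw [← e] at hG
      rw [hG]
      have hc' := congrArg D.iota (const1 p ha hb hab m' n')
      simp only [map_mul, map_natCast] at hc'
      linear_combination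
        (D.iota (rho p (a + p * m')) * D.iota (rho p (b + p * n')) * x ^ a * x ^ b) * ihmn
        + (x ^ (a + b) * D.G (m' + n') (D.d x)) * hc'
    · obtain ⟨c, hc, hcab⟩ : ∃ c, c < p ∧ a + b = c + p := ⟨a + b - p, by omega, by omega⟩
      have e : a + p * m' + (b + p * n') = c + p * (m' + n' + 1) := by
        have : a + p * m' + (b + p * n') = (a + b) + p * (m' + n') := by ring
        rw [this, hcab]; ring
      have hG := D.G_eq' hc (m' + n' + 1) x
      rw [← e] at hG
      rw [hG]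
      have hlt1 : 1 + (m' + n') < s := by omega
      have ih1 := ih (1 + (m' + n')) hlt1 1 (m' + n') rfl (D.d x) hdx
      rw [Data.G_one, Nat.choose_one_right, add_comm 1 (m' + n')] at ih1
      have hxpow : x ^ a * x ^ b = x ^ c * x ^ p := by rw [← pow_add, ← pow_add, hcab]
      have hc' := congrArg D.iota (const2 p ha hb hc hcab m' n')
      simp only [map_mul, map_natCast] at hc'
      have hh1 := D.h1 x hx
      linear_combination
        (D.iota (rho p (a + p * m')) * D.iota (rho p (b + p * n')) * x ^ a * x ^ b) * ihmn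
        + (D.iota (rho p (a + p * m')) * D.iota (rho p (b + p * n'))
            * ((m' + n').choose m' : A) * D.G (m' + n') (D.d x)) * hxpow
        - (D.iota (rho p (a + p * m')) * D.iota (rho p (b + p * n'))
            * ((m' + n').choose m' : A) * D.G (m' + n') (D.d x) * x ^ c) * hh1
        + (D.iota (rho p (a + p * m')) * D.iota (rho p (b + p * n'))
            * ((m' + n').choose m' : A) * (p ! : A) * x ^ c) * ih1
        + (x ^ c * D.G (m' + n' + 1) (D.d x)) * hc'

theorem Data.G_d (D : Data p A) : ∀ (k : ℕ), k ≠ 0 → ∀ x ∈ D.I,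
    D.d (D.G k x) = (Nat.uniformBell p k : A) * D.G (p * k) x := by
  intro k
  induction k using Nat.strong_induction_on with
  | _ k ih =>
    intro hk0 x hx
    have hdx := D.hdI x hx
    by_cases hk : k < p
    · obtain ⟨k0, rfl⟩ : ∃ k0, k = k0 + 1 := ⟨k - 1, by omega⟩
      have e1 : D.G (k0 + 1) x = (D.iota (rho p (k0 + 1)) * x ^ k0) * x := by
        rw [D.G_small hk]; ring
      have e2 : D.G (k0 + 1) (D.d x) = D.iota (rho p (k0 + 1)) * (D.d x) ^ (k0 + 1) :=
        D.G_small hk _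
      rw [e1, D.h2 _ x hx, D.G_pmul, e2]
      have hxp : (x ^ k0) ^ p = ((p ! : A) * D.d x) ^ k0 := by
        rw [D.h1 x hx, ← pow_mul, ← pow_mul, mul_comm]
      rw [mul_pow, hxp, mul_pow]
      have hc' := congrArg D.iota (const3 p hk)
      simp only [map_mul, map_pow, map_natCast] at hc'
      linear_combination ((D.d x) ^ (k0 + 1)) * hc'
    · obtain ⟨a, k', ha, rfl⟩ : ∃ a k', a < p ∧ k = a + p * k' :=
        ⟨k % p, k / p, Nat.mod_lt _ hp.out.pos, (Nat.mod_add_div k p).symm⟩
      have hk' : k' ≠ 0 := by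
        rintro rfl
        apply hk; simpa using ha
      have hlt : k' < a + p * k' := by
        have : 2 * k' ≤ p * k' := Nat.mul_le_mul_right _ hp.out.two_le
        omega
      have hy : D.G k' (D.d x) ∈ D.I := D.G_mem k' hk' (D.d x) hdx
      have ihk := ih k' hlt hk' (D.d x) hdx
      rw [D.G_eq' ha k' x, D.h2 _ _ hy, ihk, D.G_pmul k' (D.d x), D.G_pmul (a + p * k') x,
        D.G_eq' ha k' (D.d x)]
      have hxp : (x ^ a) ^ p = ((p ! : A) * D.d x) ^ a := by
        rw [D.h1 x hx, ← pow_mul, ← pow_mul, mul_comm]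
      rw [mul_pow, hxp, mul_pow]
      have hc' := congrArg D.iota (const4 p ha hk')
      simp only [map_mul, map_pow, map_natCast] at hc'
      linear_combination ((D.d x) ^ a * D.G k' (D.d (D.d x))) * hc'

end Main

end Groth.Agent.Lib.DPowExistsH1
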