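import Mathlib

/-!
# Divided powers are determined by `dpow p` when integers prime to `p` are invertible (S2211)
-/

universe u

namespace Groth.Agent.Lib.DPowPrime

open Nat

lemma not_dvd_uniformBell (p : ℕ) (hp : p.Prime) (q : ℕ) : ¬ p ∣ Nat.uniformBell q p := by
  haveI : Fact p.Prime := ⟨hp⟩
  have h1 := Nat.uniformBell_mul_eq q hp.ne_zero
  have h2 : padicValNat p (q * p)! = padicValNat p q ! + q := by
    rw [mul_comm]; exact padicValNat_factorial_mul q
  have h3 : padicValNat p (p !) = 1 := by
    have := padicValNat_factorial_mul (p := p) 1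
    simpa using this
  have hne : Nat.uniformBell q p ≠ 0 := by
    intro h0
    rw [h0, zero_mul, zero_mul] at h1
    exact (Nat.factorial_ne_zero _) h1.symm
  have h4 : padicValNat p (Nat.uniformBell q p * p ! ^ q * q !)
      = padicValNat p (Nat.uniformBell q p) + q * padicValNat p (p !) + padicValNat p (q !) := by
    rw [padicValNat.mul (mul_ne_zero hne (pow_ne_zero _ (Nat.factorial_ne_zero _)))
      (Nat.factorial_ne_zero _), padicValNat.mul hne (pow_ne_zero _ (Nat.factorial_ne_zero _)),
      padicValNat.pow]
  rw [h1, h2, h3] at h4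
  have h5 : padicValNat p (Nat.uniformBell q p) = 0 := by omega
  intro hdvd
  exact (dvd_iff_padicValNat_ne_zero hne).mp hdvd h5

theorem main {A : Type u} [CommRing A] (p : ℕ) (hp : p.Prime)
    (hA : ∀ n : ℕ, ¬ p ∣ n → IsUnit (n : A)) {I : Ideal A} (γ γ' : DividedPowers I) :
    γ = γ' ↔ ∀ x ∈ I, γ.dpow p x = γ'.dpow p x := by
  constructor
  · rintro rfl x _
    rfl
  · intro h
    apply DividedPowers.ext
    intro n
    induction n using Nat.strong_induction_on with
    | _ n ih =>
      intro x hx
      rcases Nat.eq_zero_or_pos n with rfl | hn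
      · rw [γ.dpow_zero hx, γ'.dpow_zero hx]
      by_cases hpn : p ∣ n
      · obtain ⟨q, rfl⟩ := hpn
        have hq0 : 0 < q := Nat.pos_of_mul_pos_left hn
        have hq : q < p * q := by
          have := hp.two_le
          nlinarith
        have hu := hA _ (not_dvd_uniformBell p hp q)
        have e1 := γ.dpow_comp (m := q) (n := p) hp.ne_zero hx
        have e2 := γ'.dpow_comp (m := q) (n := p) hp.ne_zero hx
        have e3 : γ.dpow q (γ.dpow p x) = γ'.dpow q (γ'.dpow p x) := by
          rw [h x hx]
          exact ih q hq (γ'.dpow_mem hp.ne_zero hx)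
        rw [e1, e2] at e3
        rw [mul_comm p q]
        exact hu.mul_left_cancel e3
      · have hu := hA n hpn
        obtain ⟨m, rfl⟩ : ∃ m, n = m + 1 := ⟨n - 1, by omega⟩
        have e1 := γ.mul_dpow (m := 1) (n := m) hx
        have e2 := γ'.mul_dpow (m := 1) (n := m) hx
        rw [γ.dpow_one hx] at e1
        rw [γ'.dpow_one hx] at e2
        rw [ih m (by omega) hx, e2] at e1
        rw [Nat.choose_one_right, add_comm 1 m] at e1
        exact (hu.mul_left_cancel e1).symm

end Groth.Agent.Lib.DPowPrime
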