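import Mathlib

set_option maxHeartbeats 400000

open Finset

namespace Groth.Agent.Lib.DPowPrincipal

universe u v
variable {A : Type u} {B : Type v} [CommRing A] [CommRing B] [Algebra A B]

theorem pow_mul_X {b b' X : B} (h : b * X = b' * X) : ∀ k : ℕ, b ^ k * X = b' ^ k * X := by
  intro k
  induction k with
  | zero => simp
  | succ k ih =>
    calc b ^ (k+1) * X = b * (b ^ k * X) := by ring
      _ = b * (b' ^ k * X) := by rw [ih]
      _ = b' ^ k * (b * X) := by ring
      _ = b' ^ k * (b' * X) := by rw [h]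
      _ = b' ^ (k+1) * X := by ring

variable (x : A) (γ : DividedPowers (Ideal.span {x}))

theorem mem_J_iff {y : B} : y ∈ (Ideal.span {x}).map (algebraMap A B) ↔
    ∃ b : B, b * algebraMap A B x = y := by
  rw [Ideal.map_span, Set.image_singleton, Ideal.mem_span_singleton']

include γ in
theorem exists_c (n : ℕ) (hn : n ≠ 0) : ∃ c : A, γ.dpow n x = c * x := by
  have := γ.dpow_mem hn (Ideal.mem_span_singleton_self x)
  obtain ⟨c, hc⟩ := Ideal.mem_span_singleton'.mp this
  exact ⟨c, hc.symm⟩

theorem wd {b b' : B} (h : b * algebraMap A B x = b' * algebraMap A B x) (n : ℕ) :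
    b ^ n * algebraMap A B (γ.dpow n x) = b' ^ n * algebraMap A B (γ.dpow n x) := by
  by_cases hn : n = 0
  · subst hn; simp
  · obtain ⟨c, hc⟩ := exists_c x γ n hn
    rw [hc, map_mul]
    calc b ^ n * (algebraMap A B c * algebraMap A B x)
        = algebraMap A B c * (b ^ n * algebraMap A B x) := by ring
      _ = algebraMap A B c * (b' ^ n * algebraMap A B x) := by rw [pow_mul_X h n]
      _ = _ := by ring

noncomputable def δfun (n : ℕ) (y : B) : B :=
  open Classical in
  if hy : ∃ b : B, b * algebraMap A B x = y then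
    (Classical.choose hy) ^ n * algebraMap A B (γ.dpow n x) else 0

theorem δfun_eq {b y : B} (hb : b * algebraMap A B x = y) (n : ℕ) :
    δfun x γ n y = b ^ n * algebraMap A B (γ.dpow n x) := by
  have hy : ∃ b : B, b * algebraMap A B x = y := ⟨b, hb⟩
  unfold δfun
  rw [dif_pos hy]
  exact wd x γ ((Classical.choose_spec hy).trans hb.symm) n

noncomputable def δ : DividedPowers ((Ideal.span {x}).map (algebraMap A B)) where
  dpow := δfun x γ
  dpow_null := by
    intro n y hy
    unfold δfun
    rw [dif_neg]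
    intro h; exact hy ((mem_J_iff x).mpr h)
  dpow_zero := by
    intro y hy
    obtain ⟨b, hb⟩ := (mem_J_iff x).mp hy
    rw [δfun_eq x γ hb, pow_zero, one_mul, γ.dpow_zero (Ideal.mem_span_singleton_self x), map_one]
  dpow_one := by
    intro y hy
    obtain ⟨b, hb⟩ := (mem_J_iff x).mp hy
    rw [δfun_eq x γ hb, pow_one, γ.dpow_one (Ideal.mem_span_singleton_self x), hb]
  dpow_mem := by
    intro n y hn hy
    obtain ⟨b, hb⟩ := (mem_J_iff x).mp hy
    rw [δfun_eq x γ hb]
    exact Ideal.mul_mem_left _ _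
      (Ideal.mem_map_of_mem _ (γ.dpow_mem hn (Ideal.mem_span_singleton_self x)))
  dpow_add := by
    intro n y y' hy hy'
    obtain ⟨b, hb⟩ := (mem_J_iff x).mp hy
    obtain ⟨b', hb'⟩ := (mem_J_iff x).mp hy'
    have hbb' : (b + b') * algebraMap A B x = y + y' := by rw [add_mul, hb, hb']
    rw [δfun_eq x γ hbb', (Commute.all b b').add_pow' n, Finset.sum_mul]
    apply Finset.sum_congr rfl
    intro k hk
    have hkn : k.1 + k.2 = n := mem_antidiagonal.mp hk
    rw [δfun_eq x γ hb, δfun_eq x γ hb', nsmul_eq_mul]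
    have hmd := γ.mul_dpow (m := k.1) (n := k.2) (Ideal.mem_span_singleton_self x)
    rw [hkn] at hmd
    calc (n.choose k.1 : B) * (b ^ k.1 * b' ^ k.2) * algebraMap A B (γ.dpow n x)
        = b ^ k.1 * b' ^ k.2 * algebraMap A B ((n.choose k.1 : A) * γ.dpow n x) := by
          rw [map_mul, map_natCast]; ring
      _ = b ^ k.1 * b' ^ k.2 * algebraMap A B (γ.dpow k.1 x * γ.dpow k.2 x) := by rw [hmd]
      _ = _ := by rw [map_mul]; ring
  dpow_mul := by
    intro n a y hy
    obtain ⟨b, hb⟩ := (mem_J_iff x).mp hy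
    have hab : (a * b) * algebraMap A B x = a * y := by rw [mul_assoc, hb]
    rw [δfun_eq x γ hab, δfun_eq x γ hb, mul_pow, mul_assoc]
  mul_dpow := by
    intro m n y hy
    obtain ⟨b, hb⟩ := (mem_J_iff x).mp hy
    rw [δfun_eq x γ hb, δfun_eq x γ hb, δfun_eq x γ hb]
    have hmd := γ.mul_dpow (m := m) (n := n) (Ideal.mem_span_singleton_self x)
    calc b ^ m * algebraMap A B (γ.dpow m x) * (b ^ n * algebraMap A B (γ.dpow n x))
        = b ^ (m + n) * algebraMap A B (γ.dpow m x * γ.dpow n x) := by
          rw [map_mul, pow_add]; ring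
      _ = b ^ (m + n) * algebraMap A B (((m + n).choose m : A) * γ.dpow (m + n) x) := by rw [hmd]
      _ = _ := by rw [map_mul, map_natCast]; ring
  dpow_comp := by
    intro m n y hn hy
    obtain ⟨b, hb⟩ := (mem_J_iff x).mp hy
    obtain ⟨c, hc⟩ := exists_c x γ n hn
    have hxI := Ideal.mem_span_singleton_self x
    rw [δfun_eq x γ hb n, δfun_eq x γ hb (m * n)]
    have hb2 : (b ^ n * algebraMap A B c) * algebraMap A B x =
        b ^ n * algebraMap A B (γ.dpow n x) := by
      rw [hc, map_mul, mul_assoc]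
    rw [δfun_eq x γ hb2 m]
    have h1 : γ.dpow m (γ.dpow n x) = (c ^ m) * γ.dpow m x := by
      rw [hc, γ.dpow_mul hxI]
    have h2 := γ.dpow_comp (m := m) hn hxI
    calc (b ^ n * algebraMap A B c) ^ m * algebraMap A B (γ.dpow m x)
        = b ^ (m * n) * algebraMap A B (c ^ m * γ.dpow m x) := by
          rw [map_mul, map_pow, mul_pow, ← pow_mul, Nat.mul_comm n m]; ring
      _ = b ^ (m * n) * algebraMap A B ((Nat.uniformBell m n : A) * γ.dpow (m * n) x) := by
          rw [← h1, h2]
      _ = _ := by rw [map_mul, map_natCast]; ring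

theorem isDP : γ.IsDPMorphism (δ (B := B) x γ) (algebraMap A B) where
  ideal_comp := le_refl _
  dpow_comp := by
    intro n a ha
    obtain ⟨a', rfl⟩ := Ideal.mem_span_singleton'.mp ha
    have hb : algebraMap A B a' * algebraMap A B x = algebraMap A B (a' * x) :=
      (map_mul _ _ _).symm
    show δfun x γ n (algebraMap A B (a' * x)) = _
    rw [δfun_eq x γ hb, γ.dpow_mul (Ideal.mem_span_singleton_self x), map_mul, map_pow]

theorem main (x : A) (γ : DividedPowers (Ideal.span {x})) :
    ∃ δ : DividedPowers ((Ideal.span {x}).map (algebraMap A B)),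
      γ.IsDPMorphism δ (algebraMap A B) :=
  ⟨δ x γ, isDP x γ⟩

end Groth.Agent.Lib.DPowPrincipal
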