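import Mathlib.RingTheory.DividedPowers.Basic
import Mathlib.RingTheory.Localization.AtPrime.Basic
import Mathlib.Algebra.MvPolynomial.CommRing
import Mathlib.NumberTheory.Padics.PadicVal.Basic
import Mathlib.Data.Nat.Choose.Cast
import Mathlib.Data.Nat.Factorial.BigOperators
import Mathlib.Algebra.Algebra.Subalgebra.Basic
import Mathlib.Algebra.Algebra.Operations
import Mathlib.LinearAlgebra.Finsupp.LinearCombination
import Mathlib.Tactic

/-!
# Copies (restricted imports) of `DPowTF_lead` and `DPowPrime_helper1`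

The statement S2212 uses `Finset.antidiagonal`, which under `import Mathlib` resolves to a different
constant (the partially-well-ordered antidiagonal); so everything S2212 imports must avoid
`Mathlib.Data.Finset.MulAntidiagonal`.  These are verbatim copies of the team's two libraries with
a restricted import list.
-/

set_option maxHeartbeats 400000

open Finset Nat

namespace Groth.Agent.Lib.DPowExistsH1.TF

universe u
variable {A : Type u} [CommRing A] [IsAddTorsionFree A]

theorem cancel {c : ℕ} (hc : c ≠ 0) {y z : A} (h : (c : A) * y = (c : A) * z) : y = z := by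
  apply IsAddTorsionFree.nsmul_right_injective hc
  show c • y = c • z
  rw [nsmul_eq_mul, nsmul_eq_mul, h]

def HasDP (I : Ideal A) (x : A) : Prop :=
  ∃ a : ℕ → A, (∀ m, m ≠ 0 → a m ∈ I) ∧ ∀ m, x ^ m = (m ! : A) * a m

theorem HasDP.add {I : Ideal A} {x y : A} (hx : HasDP I x) (hy : HasDP I y) :
    HasDP I (x + y) := by
  obtain ⟨a, haI, ha⟩ := hx
  obtain ⟨b, hbI, hb⟩ := hy
  refine ⟨fun n => ∑ k ∈ antidiagonal n, a k.1 * b k.2, ?_, ?_⟩
  · intro n hn
    apply Ideal.sum_mem
    intro k hk
    by_cases hk1 : k.1 = 0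
    · have hk2 : k.2 ≠ 0 := by
        have := mem_antidiagonal.mp hk; omega
      exact I.mul_mem_left _ (hbI _ hk2)
    · exact I.mul_mem_right _ (haI _ hk1)
  · intro n
    rw [(Commute.all x y).add_pow' n, Finset.mul_sum]
    apply Finset.sum_congr rfl
    intro k hk
    have hkn : k.1 + k.2 = n := mem_antidiagonal.mp hk
    rw [ha k.1, hb k.2, nsmul_eq_mul, ← hkn, ← Nat.add_choose_mul_factorial_mul_factorial k.1 k.2, Nat.choose_symm_add]
    push_cast
    ring

theorem HasDP.smul {I : Ideal A} {x : A} (c : A) (hx : HasDP I x) : HasDP I (c * x) := by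
  obtain ⟨a, haI, ha⟩ := hx
  refine ⟨fun n => c ^ n * a n, fun n hn => I.mul_mem_left _ (haI n hn), fun n => ?_⟩
  rw [mul_pow, ha n]; ring

theorem hasDP_zero (I : Ideal A) : HasDP I 0 := by
  refine ⟨fun n => if n = 0 then 1 else 0, fun n hn => by simp [hn], fun n => ?_⟩
  by_cases hn : n = 0
  · simp [hn]
  · simp [hn]

theorem hasDP_of_gen {I : Ideal A} {x : A}
    (h : ∀ n : ℕ, 1 ≤ n → x ^ n ∈ Ideal.span {(n ! : A)} * I) : HasDP I x := by
  have h' : ∀ n : ℕ, ∃ z : A, (n ≠ 0 → z ∈ I) ∧ x ^ n = (n ! : A) * z := by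
    intro n
    by_cases hn : n = 0
    · exact ⟨1, fun h0 => absurd hn h0, by simp [hn]⟩
    · obtain ⟨z, hzI, hz⟩ :=
        Ideal.mem_span_singleton_mul.mp (h n (Nat.one_le_iff_ne_zero.mpr hn))
      exact ⟨z, fun _ => hzI, hz.symm⟩
  choose a ha1 ha2 using h'
  exact ⟨a, ha1, ha2⟩

theorem hasDP_of_span {I : Ideal A} {S : Set A} (hS : Ideal.span S = I)
    (h : ∀ x ∈ S, ∀ n : ℕ, 1 ≤ n → x ^ n ∈ Ideal.span {(n ! : A)} * I) :
    ∀ x ∈ I, HasDP I x := by
  intro x hx
  rw [← hS] at hx
  induction hx using Submodule.span_induction with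
  | mem x hx => exact hasDP_of_gen (h x hx)
  | zero => exact hasDP_zero I
  | add x y _ _ hx hy => exact hx.add hy
  | smul c x _ hx => exact hx.smul c

noncomputable def γ (I : Ideal A) (hall : ∀ x ∈ I, HasDP I x) (n : ℕ) (x : A) : A :=
  open Classical in if hx : x ∈ I then (Classical.choose (hall x hx)) n else 0

variable (I : Ideal A) (hall : ∀ x ∈ I, HasDP I x)

theorem γ_spec {x : A} (hx : x ∈ I) (n : ℕ) : (n ! : A) * γ I hall n x = x ^ n := by
  unfold γ; rw [dif_pos hx]; exact ((Classical.choose_spec (hall x hx)).2 n).symm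

theorem γ_mem {x : A} (hx : x ∈ I) {n : ℕ} (hn : n ≠ 0) : γ I hall n x ∈ I := by
  unfold γ; rw [dif_pos hx]; exact (Classical.choose_spec (hall x hx)).1 n hn

theorem γ_null {x : A} (hx : x ∉ I) (n : ℕ) : γ I hall n x = 0 := by
  unfold γ; rw [dif_neg hx]

theorem γ_unique {x y : A} (hx : x ∈ I) {n : ℕ} (h : (n ! : A) * y = x ^ n) :
    γ I hall n x = y :=
  cancel (Nat.factorial_ne_zero n) ((γ_spec I hall hx n).trans h.symm)

noncomputable def dp : DividedPowers I where
  dpow := γ I hall
  dpow_null := fun {n x} hx => γ_null I hall hx n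
  dpow_zero := fun {x} hx => γ_unique I hall hx (by simp)
  dpow_one := fun {x} hx => γ_unique I hall hx (by simp)
  dpow_mem := fun {n x} hn hx => γ_mem I hall hx hn
  dpow_add := by
    intro n x y hx hy
    apply γ_unique I hall (I.add_mem hx hy)
    rw [(Commute.all x y).add_pow' n, Finset.mul_sum]
    apply Finset.sum_congr rfl
    intro k hk
    have hkn : k.1 + k.2 = n := mem_antidiagonal.mp hk
    rw [← γ_spec I hall hx k.1, ← γ_spec I hall hy k.2, nsmul_eq_mul, ← hkn,
      ← Nat.add_choose_mul_factorial_mul_factorial k.1 k.2, Nat.choose_symm_add]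
    push_cast
    ring
  dpow_mul := by
    intro n a x hx
    apply γ_unique I hall (I.mul_mem_left a hx)
    rw [mul_pow, ← γ_spec I hall hx n]; ring
  mul_dpow := by
    intro m n x hx
    have e1 := γ_spec I hall hx m
    have e2 := γ_spec I hall hx n
    have e3 := γ_spec I hall hx (m + n)
    have e4 : ((m + n)! : A) = (choose (m + n) m : A) * (m ! : A) * (n ! : A) := by
      rw [← Nat.add_choose_mul_factorial_mul_factorial m n, Nat.choose_symm_add]; push_cast; ring
    apply cancel (c := m ! * n !) (Nat.mul_ne_zero (Nat.factorial_ne_zero m) (Nat.factorial_ne_zero n))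
    push_cast
    calc (m ! : A) * (n ! : A) * (γ I hall m x * γ I hall n x)
        = ((m ! : A) * γ I hall m x) * ((n ! : A) * γ I hall n x) := by ring
      _ = x ^ (m + n) := by rw [e1, e2, pow_add]
      _ = ((m + n)! : A) * γ I hall (m + n) x := e3.symm
      _ = (m ! : A) * (n ! : A) * ((choose (m + n) m : A) * γ I hall (m + n) x) := by
          rw [e4]; ring
  dpow_comp := by
    intro m n x hn hx
    have hy : γ I hall n x ∈ I := γ_mem I hall hx hn
    have e1 := γ_spec I hall hy m
    have e2 := γ_spec I hall hx n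
    have e3 := γ_spec I hall hx (m * n)
    have e4 : ((m * n)! : A) = (uniformBell m n : A) * (n ! : A) ^ m * (m ! : A) := by
      rw [← Nat.uniformBell_mul_eq m hn]; push_cast; ring
    apply cancel (c := n ! ^ m * m !)
      (Nat.mul_ne_zero (pow_ne_zero _ (Nat.factorial_ne_zero n)) (Nat.factorial_ne_zero m))
    push_cast
    calc (n ! : A) ^ m * (m ! : A) * γ I hall m (γ I hall n x)
        = (n ! : A) ^ m * ((m ! : A) * γ I hall m (γ I hall n x)) := by ring
      _ = ((n ! : A) * γ I hall n x) ^ m := by rw [e1, mul_pow]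
      _ = x ^ (m * n) := by rw [e2, ← pow_mul, Nat.mul_comm]
      _ = ((m * n)! : A) * γ I hall (m * n) x := e3.symm
      _ = (n ! : A) ^ m * (m ! : A) * ((uniformBell m n : A) * γ I hall (m * n) x) := by
          rw [e4]; ring


end Groth.Agent.Lib.DPowExistsH1.TF


namespace Groth.Agent.Lib.DPowExistsH1.Prime

universe u

open Nat

lemma not_dvd_uniformBell (p : ℕ) (hp : p.Prime) (q : ℕ) : ¬ p ∣ Nat.uniformBell q p := by
  haveI : Fact p.Prime := ⟨hp⟩
  have h1 := Nat.uniformBell_mul_eq q hp.ne_zero
  have h2 : padicValNat p (q * p)! = padicValNat p q ! + q := by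
    rw [mul_comm]; exact padicValNat_factorial_mul q
  have h3 : padicValNat p (p !) = 1 := by
    have := padicValNat_factorial_mul (p := p) 1
    simpa using this
  have hne : Nat.uniformBell q p ≠ 0 := by
    intro h0
    rw [h0, zero_mul, zero_mul] at h1
    exact (Nat.factorial_ne_zero _) h1.symm
  have h4 : padicValNat p (Nat.uniformBell q p * p ! ^ q * q !)
      = padicValNat p (Nat.uniformBell q p) + q * padicValNat p (p !) + padicValNat p (q !) := by
    rw [padicValNat.mul (mul_ne_zero hne (pow_ne_zero _ (Nat.factorial_ne_zero _)))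
      (Nat.factorial_ne_zero _), padicValNat.mul hne (pow_ne_zero _ (Nat.factorial_ne_zero _)),
      padicValNat.pow]
  rw [h1, h2, h3] at h4
  have h5 : padicValNat p (Nat.uniformBell q p) = 0 := by omega
  intro hdvd
  exact (dvd_iff_padicValNat_ne_zero hne).mp hdvd h5

theorem main {A : Type u} [CommRing A] (p : ℕ) (hp : p.Prime)
    (hA : ∀ n : ℕ, ¬ p ∣ n → IsUnit (n : A)) {I : Ideal A} (γ γ' : DividedPowers I) :
    γ = γ' ↔ ∀ x ∈ I, γ.dpow p x = γ'.dpow p x := by
  constructor
  · rintro rfl x _
    rfl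
  · intro h
    apply DividedPowers.ext
    intro n
    induction n using Nat.strong_induction_on with
    | _ n ih =>
      intro x hx
      rcases Nat.eq_zero_or_pos n with rfl | hn
      · rw [γ.dpow_zero hx, γ'.dpow_zero hx]
      by_cases hpn : p ∣ n
      · obtain ⟨q, rfl⟩ := hpn
        have hq0 : 0 < q := Nat.pos_of_mul_pos_left hn
        have hq : q < p * q := by
          have := hp.two_le
          nlinarith
        have hu := hA _ (not_dvd_uniformBell p hp q)
        have e1 := γ.dpow_comp (m := q) (n := p) hp.ne_zero hx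
        have e2 := γ'.dpow_comp (m := q) (n := p) hp.ne_zero hx
        have e3 : γ.dpow q (γ.dpow p x) = γ'.dpow q (γ'.dpow p x) := by
          rw [h x hx]
          exact ih q hq (γ'.dpow_mem hp.ne_zero hx)
        rw [e1, e2] at e3
        rw [mul_comm p q]
        exact hu.mul_left_cancel e3
      · have hu := hA n hpn
        obtain ⟨m, rfl⟩ : ∃ m, n = m + 1 := ⟨n - 1, by omega⟩
        have e1 := γ.mul_dpow (m := 1) (n := m) hx
        have e2 := γ'.mul_dpow (m := 1) (n := m) hx
        rw [γ.dpow_one hx] at e1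
        rw [γ'.dpow_one hx] at e2
        rw [ih m (by omega) hx, e2] at e1
        rw [Nat.choose_one_right, add_comm 1 m] at e1
        exact (hu.mul_left_cancel e1).symm

end Groth.Agent.Lib.DPowExistsH1.Prime
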