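import Mathlib

set_option autoImplicit false

namespace Groth.Agent.Lib.DPowWittH4

theorem iter_surj {A : Type*} [CommRing A] (p : ℕ)
    (hF : Function.Surjective (fun y : A => y ^ p)) :
    ∀ m : ℕ, ∀ y : A, ∃ z : A, z ^ (p ^ m) = y := by
  intro m
  induction m with
  | zero => intro y; exact ⟨y, by simp⟩
  | succ m ih =>
    intro y
    obtain ⟨w, hw⟩ := hF y
    obtain ⟨z, hz⟩ := ih w
    refine ⟨z, ?_⟩
    rw [pow_succ, pow_mul, hz]
    exact hw

theorem approx_one {B : Type*} [CommRing B] (p : ℕ)
    (hF : Function.Surjective (fun y : B ⧸ (Ideal.span {(p : B)}) => y ^ p)) (m : ℕ) (b : B) :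
    ∃ z b' : B, b = z ^ (p ^ m) + (p : B) * b' := by
  obtain ⟨y, hy⟩ := iter_surj p hF m (Ideal.Quotient.mk _ b)
  obtain ⟨z, rfl⟩ := Ideal.Quotient.mk_surjective y
  have h1 : b - z ^ (p ^ m) ∈ Ideal.span {(p : B)} := by
    rw [← Ideal.Quotient.eq_zero_iff_mem, map_sub, map_pow, hy, sub_self]
  obtain ⟨b', hb'⟩ := Ideal.mem_span_singleton'.1 h1
  exact ⟨z, b', by linear_combination (-1 : B) * hb'⟩

/-- Successive approximation: correct the components one at a time. -/
theorem SA {B : Type*} [CommRing B] (p n : ℕ)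
    (hF : Function.Surjective (fun y : B ⧸ (Ideal.span {(p : B)}) => y ^ p)) (t : B) :
    ∀ k m : ℕ, m + k = n → ∀ (y : ℕ → B) (r : B),
      (∑ i ∈ Finset.range m, (p : B) ^ i * (y i) ^ (p ^ (n - i))) - t = (p : B) ^ m * r →
      ∃ y' : ℕ → B, (∀ i, i < m → y' i = y i) ∧
        ∃ r' : B, (∑ i ∈ Finset.range n, (p : B) ^ i * (y' i) ^ (p ^ (n - i))) - t =
          (p : B) ^ n * r' := by
  intro k
  induction k with
  | zero =>
    intro m hm y r h
    have hmn : m = n := by omega
    subst hmn
    exact ⟨y, fun _ _ => rfl, r, h⟩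
  | succ k ih =>
    intro m hm y r h
    obtain ⟨z, b', hzb⟩ := approx_one p hF (n - m) (-r)
    have hy₁ : ∀ i, i < m → Function.update y m z i = y i :=
      fun i hi => Function.update_of_ne (ne_of_lt hi) _ _
    have hsum : (∑ i ∈ Finset.range (m + 1),
        (p : B) ^ i * (Function.update y m z i) ^ (p ^ (n - i))) - t =
        (p : B) ^ (m + 1) * (-b') := by
      rw [Finset.sum_range_succ]
      have h1 : ∑ i ∈ Finset.range m, (p : B) ^ i * (Function.update y m z i) ^ (p ^ (n - i)) =
          ∑ i ∈ Finset.range m, (p : B) ^ i * (y i) ^ (p ^ (n - i)) :=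
        Finset.sum_congr rfl (fun i hi => by rw [hy₁ i (Finset.mem_range.1 hi)])
      have h2 : Function.update y m z m = z := Function.update_self m z y
      rw [h1, h2]
      have h3 : z ^ (p ^ (n - m)) = -r - (p : B) * b' := by
        linear_combination (-1 : B) * hzb
      rw [h3, pow_succ]
      linear_combination h
    obtain ⟨y', hy', r', hr'⟩ := ih (m + 1) (by omega) (Function.update y m z) (-b') hsum
    exact ⟨y', fun i hi => by rw [hy' i (by omega), hy₁ i hi], r', hr'⟩

section redTrunc
variable (p : ℕ) [Fact p.Prime] (n : ℕ) {B : Type*} [CommRing B] (I : Ideal B)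

/-- Reduction modulo `I` followed by truncation. -/
noncomputable def redTrunc : WittVector p B →+* TruncatedWittVector p n (B ⧸ I) :=
  (WittVector.truncate n).comp (WittVector.map (Ideal.Quotient.mk I))

theorem redTrunc_apply (x : WittVector p B) :
    redTrunc p n I x = WittVector.truncate n (WittVector.map (Ideal.Quotient.mk I) x) := rfl

theorem redTrunc_surjective : Function.Surjective (redTrunc p n I) := by
  intro a
  obtain ⟨x, rfl⟩ := WittVector.truncate_surjective p n (B ⧸ I) a
  obtain ⟨y, rfl⟩ := WittVector.map_surjective (Ideal.Quotient.mk I)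
    Ideal.Quotient.mk_surjective x
  exact ⟨y, rfl⟩

theorem coeff_redTrunc (x : WittVector p B) (i : Fin n) :
    TruncatedWittVector.coeff i (redTrunc p n I x) = Ideal.Quotient.mk I (x.coeff i) := by
  rw [redTrunc_apply, WittVector.coeff_truncate, WittVector.map_coeff]

end redTrunc

section coeff0
variable {p : ℕ} [Fact p.Prime] {n : ℕ} (hn : 0 < n) {A : Type*} [CommRing A]

theorem coeff0_add (a b : TruncatedWittVector p n A) :
    TruncatedWittVector.coeff ⟨0, hn⟩ (a + b) =
      TruncatedWittVector.coeff ⟨0, hn⟩ a + TruncatedWittVector.coeff ⟨0, hn⟩ b := by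
  obtain ⟨x, rfl⟩ := WittVector.truncate_surjective p n A a
  obtain ⟨y, rfl⟩ := WittVector.truncate_surjective p n A b
  rw [← map_add, WittVector.coeff_truncate, WittVector.coeff_truncate, WittVector.coeff_truncate]
  exact WittVector.add_coeff_zero x y

theorem coeff0_mul (a b : TruncatedWittVector p n A) :
    TruncatedWittVector.coeff ⟨0, hn⟩ (a * b) =
      TruncatedWittVector.coeff ⟨0, hn⟩ a * TruncatedWittVector.coeff ⟨0, hn⟩ b := by
  obtain ⟨x, rfl⟩ := WittVector.truncate_surjective p n A a
  obtain ⟨y, rfl⟩ := WittVector.truncate_surjective p n A b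
  rw [← map_mul, WittVector.coeff_truncate, WittVector.coeff_truncate, WittVector.coeff_truncate]
  exact WittVector.mul_coeff_zero x y

theorem coeff0_natCast_p :
    TruncatedWittVector.coeff ⟨0, hn⟩ ((p : ℕ) : TruncatedWittVector p n A) = ((p : ℕ) : A) := by
  have h1 : ((p : ℕ) : TruncatedWittVector p n A) =
      WittVector.truncate n ((p : ℕ) : WittVector p A) := by rw [map_natCast]
  rw [h1, WittVector.coeff_truncate]
  show ((p : ℕ) : WittVector p A).coeff 0 = _
  have h0 : WittVector.ghostComponent 0 ((p : ℕ) : WittVector p A) =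
      ((p : ℕ) : WittVector p A).coeff 0 := by
    rw [WittVector.ghostComponent_apply, wittPolynomial_zero, MvPolynomial.aeval_X]
  rw [← h0, map_natCast]

end coeff0

end Groth.Agent.Lib.DPowWittH4
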