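import Mathlib
import Groth.Prelude
import Groth.Agent.Lib.LpullQC_lead

/-!
# `Rf_* ∘ DQ_X ≅ DQ_Y ∘ Rf_*` (lead; S7251)

A formal statement about adjunctions and coreflective full subcategories.

APPEND-ONLY once landed.
-/

set_option autoImplicit false
set_option linter.all false
set_option maxHeartbeats 1600000

universe u
open CategoryTheory CategoryTheory.Limits

namespace Groth.Agent.Lib.DQCommL

section Abstract

variable {C D : Type*} [Category C] [Category D]
  (P : ObjectProperty C) (Q : ObjectProperty D) (L : D ⥤ C) (R : C ⥤ D) (adj : L ⊣ R)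
  (hL : ∀ M, Q M → P (L.obj M)) (hR : ∀ K, P K → Q (R.obj K))
  (DQP : C ⥤ P.FullSubcategory) (adjP : P.ι ⊣ DQP)
  (DQQ : D ⥤ Q.FullSubcategory) (adjQ : Q.ι ⊣ DQQ)

include adj hL in
theorem isIso_comparison (K : C) :
    IsIso (adjQ.homEquiv
      (⟨R.obj (DQP.obj K).obj, hR _ (DQP.obj K).property⟩ : Q.FullSubcategory) (R.obj K)
      (R.map (adjP.counit.app K))) := by
  obtain ⟨QK, hQK⟩ : ∃ QK : P.FullSubcategory, QK = DQP.obj K := ⟨_, rfl⟩
  obtain ⟨ε, hε⟩ : ∃ ε : QK.obj ⟶ K, ε = eqToHom (by rw [hQK]; rfl) ≫ adjP.counit.app K :=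
    ⟨_, rfl⟩
  subst hQK
  have hε' : ε = adjP.counit.app K := by rw [hε]; simp
  rw [← hε']
  clear hε
  obtain ⟨A, hA⟩ : ∃ A : Q.FullSubcategory,
      A = ⟨R.obj (DQP.obj K).obj, hR _ (DQP.obj K).property⟩ := ⟨_, rfl⟩
  -- post-composition with `ε` is bijective on maps from objects of `P`
  have key1 : ∀ (Z : C), P Z → Function.Bijective (fun v : Z ⟶ (DQP.obj K).obj => v ≫ ε) := by
    intro Z hZ
    have h1 : Function.Bijective (fun w : (⟨Z, hZ⟩ : P.FullSubcategory) ⟶ DQP.obj K =>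
        (adjP.homEquiv (⟨Z, hZ⟩ : P.FullSubcategory) K).symm w) :=
      (adjP.homEquiv (⟨Z, hZ⟩ : P.FullSubcategory) K).symm.bijective
    have h2 : ∀ w : (⟨Z, hZ⟩ : P.FullSubcategory) ⟶ DQP.obj K,
        (adjP.homEquiv (⟨Z, hZ⟩ : P.FullSubcategory) K).symm w = P.ι.map w ≫ ε := fun w => by
      rw [hε']
      exact adjP.homEquiv_counit ..
    constructor
    · intro v v' hv
      obtain ⟨w, rfl⟩ := P.ι.map_surjective (X := (⟨Z, hZ⟩ : P.FullSubcategory))
        (Y := DQP.obj K) v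
      obtain ⟨w', rfl⟩ := P.ι.map_surjective (X := (⟨Z, hZ⟩ : P.FullSubcategory))
        (Y := DQP.obj K) v'
      have hww : w = w' := h1.1 ((h2 w).trans (hv.trans (h2 w').symm))
      rw [hww]
    · intro u
      obtain ⟨w, hw⟩ := h1.2 u
      exact ⟨P.ι.map w, (h2 w).symm.trans hw⟩
  -- post-composition with `R.map ε` is bijective on maps from objects of `Q`
  have key2 : ∀ (M : D), Q M →
      Function.Bijective (fun u : M ⟶ R.obj (DQP.obj K).obj => u ≫ R.map ε) := by
    intro M hM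
    have h1 := key1 (L.obj M) (hL M hM)
    have h2 : ∀ u : M ⟶ R.obj (DQP.obj K).obj, u ≫ R.map ε =
        adj.homEquiv M K ((adj.homEquiv M (DQP.obj K).obj).symm u ≫ ε) := by
      intro u
      rw [adj.homEquiv_naturality_right, Equiv.apply_symm_apply]
    constructor
    · intro u u' huu
      have h3 : (adj.homEquiv M (DQP.obj K).obj).symm u ≫ ε =
          (adj.homEquiv M (DQP.obj K).obj).symm u' ≫ ε :=
        (adj.homEquiv M K).injective ((h2 u).symm.trans (huu.trans (h2 u')))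
      exact (adj.homEquiv M (DQP.obj K).obj).symm.injective (h1.1 h3)
    · intro t
      obtain ⟨v, hv⟩ := h1.2 ((adj.homEquiv M K).symm t)
      refine ⟨adj.homEquiv M (DQP.obj K).obj v, ?_⟩
      have hv' : v ≫ ε = (adj.homEquiv M K).symm t := hv
      show adj.homEquiv M (DQP.obj K).obj v ≫ R.map ε = t
      rw [h2, Equiv.symm_apply_apply, hv', Equiv.apply_symm_apply]
  subst hA
  rw [isIso_iff_yoneda_map_bijective]
  intro T
  have h3 : ∀ g : T ⟶ (⟨R.obj (DQP.obj K).obj, hR _ (DQP.obj K).property⟩ : Q.FullSubcategory),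
      g ≫ adjQ.homEquiv _ (R.obj K) (R.map ε) =
        adjQ.homEquiv T (R.obj K) (Q.ι.map g ≫ R.map ε) := by
    intro g
    rw [adjQ.homEquiv_naturality_left]
  have h4 := key2 T.obj T.property
  constructor
  · intro g g' hgg
    have h5 : Q.ι.map g ≫ R.map ε = Q.ι.map g' ≫ R.map ε :=
      (adjQ.homEquiv T (R.obj K)).injective ((h3 g).symm.trans (hgg.trans (h3 g')))
    exact Q.ι.map_injective (h4.1 h5)
  · intro t
    obtain ⟨u, hu⟩ := h4.2 ((adjQ.homEquiv T (R.obj K)).symm t)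
    obtain ⟨g, rfl⟩ := Q.ι.map_surjective (X := T)
      (Y := (⟨R.obj (DQP.obj K).obj, hR _ (DQP.obj K).property⟩ : Q.FullSubcategory)) u
    refine ⟨g, ?_⟩
    have hu' : Q.ι.map g ≫ R.map ε = (adjQ.homEquiv T (R.obj K)).symm t := hu
    show g ≫ _ = t
    rw [h3, hu', Equiv.apply_symm_apply]

end Abstract

end Groth.Agent.Lib.DQCommL
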