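import Mathlib
import Groth.Agent.Lib.FT22_helper6

/-!
# Vanishing of local cohomology of stalks goes down along covers (helper6)

For primes `p ⋖ p₁` of a Noetherian ring `A` such that `A_{p₁}` has a dualizing complex and a finite
module `M`: `H^{j+1}_{p₁}(M_{p₁}) = 0` implies `H^j_p(M_p) = 0`.
-/

set_option autoImplicit false
set_option linter.style.haveILetI false
set_option linter.unusedSectionVars false
set_option linter.unusedVariables false
universe u
open CategoryTheory CategoryTheory.Limits DerivedCategory Pretriangulated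
open scoped TensorProduct

attribute [local instance] HasDerivedCategory.standard

namespace Groth.Agent.Lib.StalkVan

open Groth.Agent.Lib.DMod_helper6 DRing Groth.Agent.ExtendScalarsLib Groth.Agent.Lib.FlatHom
  Groth.Agent.Lib.FaltT

variable {A : Type u} [CommRing A] [IsNoetherianRing A]

/-- the criterion: `H^j_{pA_p}(M_p) = 0` iff every element of `H^j_p(M)` is killed by some `t ∉ p` -/
theorem subsingleton_H_atPrime_iff (p : PrimeSpectrum A) (M : Type u) [AddCommGroup M]
    [Module A M] (j : ℕ) :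
    Subsingleton (LocCoh.H (IsLocalRing.maximalIdeal (Localization.AtPrime p.asIdeal)) j
      (LocalizedModule p.asIdeal.primeCompl M)) ↔
    ∀ y : Dual2.HDI A p.asIdeal (Dual.inD A M) (j : ℤ), ∃ t : A, t ∉ p.asIdeal ∧ t • y = 0 := by
  haveI := hasLBaseChange_atPrime p
  rw [← subsingleton_HDI_LBC_inD_iff p M j, subsingleton_HDI_LBC_iff p (Dual.inD A M) (j : ℤ)]

/-- transfer of the criterion from `B = A_{p₁}` to `A` -/
theorem killsAt_of_killsAt_localization (p p₁ : PrimeSpectrum A) (hpp₁ : p ≤ p₁)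
    (M : Type u) [AddCommGroup M] [Module A M] (j : ℤ)
    (P : PrimeSpectrum (Localization.AtPrime p₁.asIdeal))
    (hP : P.asIdeal = p.asIdeal.map (algebraMap A (Localization.AtPrime p₁.asIdeal)))
    (hY : ∀ y : Dual2.HDI (Localization.AtPrime p₁.asIdeal) P.asIdeal
      (Dual.inD (Localization.AtPrime p₁.asIdeal) (LocalizedModule p₁.asIdeal.primeCompl M)) j,
      ∃ t : Localization.AtPrime p₁.asIdeal, t ∉ P.asIdeal ∧ t • y = 0) :
    ∀ y : Dual2.HDI A p.asIdeal (Dual.inD A M) j, ∃ t : A, t ∉ p.asIdeal ∧ t • y = 0 := by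
  haveI := isNoetherianRing_atPrime p₁.asIdeal
  haveI : Module.Flat A (Localization.AtPrime p₁.asIdeal) :=
    IsLocalization.flat _ p₁.asIdeal.primeCompl
  have eqv : ((Localization.AtPrime p₁.asIdeal) ⊗[A] M) ≃ₗ[Localization.AtPrime p₁.asIdeal]
      LocalizedModule p₁.asIdeal.primeCompl M :=
    (IsLocalizedModule.isBaseChange p₁.asIdeal.primeCompl (Localization.AtPrime p₁.asIdeal)
      (LocalizedModule.mkLinearMap p₁.asIdeal.primeCompl M)).equiv
  let iso : (bcD A (Localization.AtPrime p₁.asIdeal)).obj (Dual.inD A M) ≅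
      Dual.inD (Localization.AtPrime p₁.asIdeal) (LocalizedModule p₁.asIdeal.primeCompl M) :=
    bcSingleIso M ≪≫ inDIsoOfLinearEquiv eqv
  obtain ⟨e1⟩ := nonempty_HDI_equiv_of_iso P.asIdeal iso j
  obtain ⟨e2⟩ := hdi_bcD_equiv (B := Localization.AtPrime p₁.asIdeal) p.asIdeal (Dual.inD A M) j
  rw [← hP] at e2
  intro h
  obtain ⟨t, htP, hty⟩ := hY (e1 (e2.symm ((1 : Localization.AtPrime p₁.asIdeal) ⊗ₜ[A] h)))
  have h1 : t • ((1 : Localization.AtPrime p₁.asIdeal) ⊗ₜ[A] h) = 0 := by
    apply e2.symm.injective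
    apply e1.injective
    rw [map_smul, map_smul, hty, map_zero, map_zero]
  obtain ⟨a, s, hts⟩ := IsLocalization.exists_mk'_eq p₁.asIdeal.primeCompl t
  have hts' : t * algebraMap A (Localization.AtPrime p₁.asIdeal) s =
      algebraMap A (Localization.AtPrime p₁.asIdeal) a := by
    rw [← hts, IsLocalization.mk'_spec]
  have hap : a ∉ p.asIdeal := by
    intro ha
    have h2 : algebraMap A (Localization.AtPrime p₁.asIdeal) a ∈ P.asIdeal := by
      rw [hP]; exact Ideal.mem_map_of_mem _ ha
    rw [← hts'] at h2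
    rcases P.2.mem_or_mem h2 with h3 | h3
    · exact htP h3
    · exact P.2.ne_top (Ideal.eq_top_of_isUnit_mem _ h3
        (IsLocalization.map_units (Localization.AtPrime p₁.asIdeal) s))
  have h3 : (1 : Localization.AtPrime p₁.asIdeal) ⊗ₜ[A] (a • h) = 0 := by
    rw [TensorProduct.tmul_smul, ← algebraMap_smul (Localization.AtPrime p₁.asIdeal) a
      ((1 : Localization.AtPrime p₁.asIdeal) ⊗ₜ[A] h), ← hts', mul_comm, mul_smul, h1, smul_zero]
  let f : Dual2.HDI A p.asIdeal (Dual.inD A M) j →ₗ[A]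
      (Localization.AtPrime p₁.asIdeal) ⊗[A] Dual2.HDI A p.asIdeal (Dual.inD A M) j :=
    TensorProduct.mk A (Localization.AtPrime p₁.asIdeal) _ 1
  haveI : IsLocalizedModule p₁.asIdeal.primeCompl f :=
    (isLocalizedModule_iff_isBaseChange p₁.asIdeal.primeCompl (Localization.AtPrime p₁.asIdeal)
      f).2 (TensorProduct.isBaseChange A _ (Localization.AtPrime p₁.asIdeal))
  have h4 : f (a • h) = 0 := h3
  obtain ⟨u, hu⟩ := (IsLocalizedModule.eq_zero_iff p₁.asIdeal.primeCompl f).1 h4
  refine ⟨(u : A) * a, fun hmem => ?_, ?_⟩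
  · rcases p.2.mem_or_mem hmem with h5 | h5
    · exact u.2 (hpp₁ h5)
    · exact hap h5
  · rw [mul_smul]
    exact hu

end Groth.Agent.Lib.StalkVan
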