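import Mathlib
import Groth.Agent.Lib.FT1_helper6
import Groth.Agent.Lib.FT21_helper6
import Groth.Agent.Lib.SV1_helper6
import Groth.Agent.Lib.LocCohBridge_helper7

/-!
# Modules without `T`-torsion and depth `≥ 2` along `T` (helper6)
-/

set_option autoImplicit false
set_option linter.style.haveILetI false
set_option linter.unusedSectionVars false
set_option linter.unusedVariables false
universe u
open CategoryTheory CategoryTheory.Limits

namespace Groth.Agent.Lib.DepthTwo

open Groth.Agent.Lib.FaltT Groth.Agent.Lib.StalkVan Groth.Agent.Lib.LocCohBridgeH7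

variable {A : Type u} [CommRing A] [IsNoetherianRing A] (T : Set (PrimeSpectrum A))

/-- `E / Γ_T E` has no `T`-torsion -/
lemma torsT_quotient_eq_bot (E : Type u) [AddCommGroup E] [Module A E] :
    torsT T (E ⧸ torsT T E) = ⊥ := by
  rw [eq_bot_iff]
  rintro x ⟨J, hJ, hk⟩
  obtain ⟨e, rfl⟩ := Submodule.Quotient.mk_surjective _ x
  rw [Submodule.mem_bot, Submodule.Quotient.mk_eq_zero]
  -- `J e ⊆ Γ_T E`, a finitely generated submodule of `Γ_T E`
  have hle : Submodule.map (LinearMap.toSpanSingleton A E e) J ≤ torsT T E := by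
    rintro _ ⟨a, ha, rfl⟩
    have := hk a ha
    rw [← Submodule.Quotient.mk_smul, Submodule.Quotient.mk_eq_zero] at this
    simpa [LinearMap.toSpanSingleton_apply] using this
  have hfg : (Submodule.map (LinearMap.toSpanSingleton A E e) J).FG :=
    Submodule.FG.map _ (IsNoetherian.noetherian J)
  obtain ⟨J', hJ', hk'⟩ := exists_inT_kills_of_fg _ hfg hle
  refine ⟨J' * J, inT_mul hJ' hJ, fun a ha => ?_⟩
  refine Submodule.mul_induction_on ha ?_ ?_
  · intro b hb c hc
    rw [mul_smul]
    exact hk' b hb _ ⟨c, hc, by rw [LinearMap.toSpanSingleton_apply]⟩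
  · intro x y hx hy
    rw [add_smul, hx, hy, add_zero]

/-- a submodule of a `T`-torsion free module is `T`-torsion free -/
lemma eq_zero_of_kills {Q : Type u} [AddCommGroup Q] [Module A Q] (hQ : torsT T Q = ⊥)
    (x : Q) (J : Ideal A) (hJ : InT T J) (hk : ∀ a ∈ J, a • x = 0) : x = 0 := by
  have : x ∈ torsT T Q := ⟨J, hJ, hk⟩
  rw [hQ] at this
  exact this

/-- `E / Γ_T E` is injective if `E` is -/
lemma injective_quotient_torsT (E : Type u) [AddCommGroup E] [Module A E]
    (hE : Module.Injective A E) : Module.Injective A (E ⧸ torsT T E) := by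
  have hΓ := injective_torsT (T := T) E hE
  -- a retraction `r : E → Γ_T E`
  obtain ⟨r, hr⟩ := Module.Injective.out (R := A) (Q := torsT T E) (torsT T E).subtype
    (Submodule.injective_subtype _) LinearMap.id
  -- the section `s : E / Γ → E`
  let s : (E ⧸ torsT T E) →ₗ[A] E :=
    (torsT T E).liftQ (LinearMap.id - (torsT T E).subtype ∘ₗ r) (by
      intro x hx
      rw [LinearMap.mem_ker, LinearMap.sub_apply, LinearMap.id_apply, LinearMap.comp_apply]
      have := hr ⟨x, hx⟩
      rw [Submodule.subtype_apply] at this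
      rw [this]
      simp)
  have hs : ∀ x, (torsT T E).mkQ (s x) = x := by
    intro x
    obtain ⟨e, rfl⟩ := Submodule.Quotient.mk_surjective _ x
    show (torsT T E).mkQ (e - ((r e : torsT T E) : E)) = _
    rw [map_sub, Submodule.mkQ_apply, Submodule.mkQ_apply,
      (Submodule.Quotient.mk_eq_zero _).2 (r e).2, sub_zero]
  constructor
  intro X Y _ _ _ _ f hf g
  obtain ⟨h, hh⟩ := Module.Injective.out (R := A) (Q := E) f hf (s ∘ₗ g)
  refine ⟨(torsT T E).mkQ ∘ₗ h, fun x => ?_⟩
  rw [LinearMap.comp_apply, hh, LinearMap.comp_apply, hs]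

/-- `Ext^0(A/J, X) = 0` for `X` without `T`-torsion and `V(J) ⊆ T` -/
lemma ext_zero_eq_zero {X : Type u} [AddCommGroup X] [Module A X] (hX : torsT T X = ⊥)
    (J : Ideal A) (hJ : InT T J)
    (x : Abelian.Ext (ModuleCat.of A (A ⧸ J)) (ModuleCat.of A X) 0) : x = 0 := by
  obtain ⟨φ, rfl⟩ := (Abelian.Ext.mk₀_bijective _ _).2 x
  have hφ : φ = 0 := by
    apply ModuleCat.hom_ext
    apply LinearMap.ext
    intro y
    obtain ⟨a, rfl⟩ := Ideal.Quotient.mk_surjective y
    have h1 : φ.hom (Ideal.Quotient.mk J 1) = 0 := by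
      apply eq_zero_of_kills T hX _ J hJ
      intro b hb
      rw [← map_smul]
      have : b • (Ideal.Quotient.mk J 1 : A ⧸ J) = 0 := by
        rw [Algebra.smul_def, map_one, mul_one]
        exact Ideal.Quotient.eq_zero_iff_mem.2 hb
      rw [this, map_zero]
    have h2 : (Ideal.Quotient.mk J a : A ⧸ J) = a • (Ideal.Quotient.mk J 1 : A ⧸ J) := by
      rw [Algebra.smul_def, map_one, mul_one]; rfl
    show φ.hom _ = 0
    rw [h2, map_smul, h1, smul_zero]
  rw [hφ, Abelian.Ext.mk₀_zero]

end Groth.Agent.Lib.DepthTwo
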