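import Mathlib
import Groth.Agent.Lib.DT1_helper6
import Groth.Agent.Lib.FT12_helper6
import Groth.Agent.Lib.DMod86_helper6

/-!
# Depth `≥ 2` along `T` for kernels of maps between `T`-torsion free modules (helper6)
-/

set_option autoImplicit false
set_option linter.style.haveILetI false
set_option linter.unusedSectionVars false
set_option linter.unusedVariables false
universe u
open CategoryTheory CategoryTheory.Limits

namespace Groth.Agent.Lib.DepthTwo

open Groth.Agent.Lib.FaltT Groth.Agent.Lib.StalkVan Groth.Agent.Lib.LocCohBridgeH7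
  Groth.Agent.Lib.DMod_helper6 Groth.Agent.Lib.FlatHom

variable {A : Type u} [CommRing A] [IsNoetherianRing A] (T : Set (PrimeSpectrum A))

/-- a submodule of a `T`-torsion free module is `T`-torsion free -/
lemma torsT_submodule_eq_bot {Q : Type u} [AddCommGroup Q] [Module A Q] (hQ : torsT T Q = ⊥)
    (X : Submodule A Q) : torsT T X = ⊥ := by
  rw [eq_bot_iff]
  rintro x ⟨J, hJ, hk⟩
  rw [Submodule.mem_bot]
  apply Subtype.ext
  apply eq_zero_of_kills T hQ _ J hJ
  intro a ha
  have := congrArg Subtype.val (hk a ha)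
  simpa using this

/-- `Ext^1(A/J, ker(Q₀ → Q₁)) = 0` -/
lemma ext_one_eq_zero {Q0 Q1 : Type u} [AddCommGroup Q0] [Module A Q0] [AddCommGroup Q1]
    [Module A Q1] (hQ0i : Module.Injective A Q0) (hQ1 : torsT T Q1 = ⊥) (dbar : Q0 →ₗ[A] Q1)
    (J : Ideal A) (hJ : InT T J)
    (x : Abelian.Ext (ModuleCat.of A (A ⧸ J)) (ModuleCat.of A (LinearMap.ker dbar)) 1) :
    x = 0 := by
  have hfg : Function.Exact (LinearMap.ker dbar).subtype dbar.rangeRestrict := by
    intro y
    constructor
    · intro hy
      have hy' : dbar y = 0 := congrArg Subtype.val hy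
      exact ⟨⟨y, hy'⟩, rfl⟩
    · rintro ⟨z, rfl⟩
      apply Subtype.ext
      exact z.2
  have hS := linSC_shortExact (LinearMap.ker dbar).subtype dbar.rangeRestrict hfg
    (Submodule.injective_subtype _) dbar.surjective_rangeRestrict
  haveI : Injective (ModuleCat.of A Q0) := Module.injective_object_of_injective_module A Q0
  obtain ⟨x₃, hx₃⟩ := Abelian.Ext.covariant_sequence_exact₁ (ModuleCat.of A (A ⧸ J)) hS x
    (Abelian.Ext.eq_zero_of_injective (I := ModuleCat.of A Q0) _) (n₀ := 0) rfl
  have h0 : x₃ = 0 :=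
    ext_zero_eq_zero T (torsT_submodule_eq_bot T hQ1 (LinearMap.range dbar)) J hJ x₃
  rw [← hx₃, h0, Abelian.Ext.zero_comp]

/-- depth `≥ 2` at the points of `T` -/
theorem two_le_depth_ker (hT : StableUnderSpecialization T) {Q0 Q1 : Type u} [AddCommGroup Q0]
    [Module A Q0] [AddCommGroup Q1] [Module A Q1] (hQ0i : Module.Injective A Q0)
    (hQ0 : torsT T Q0 = ⊥) (hQ1 : torsT T Q1 = ⊥) (dbar : Q0 →ₗ[A] Q1)
    [Module.Finite A (LinearMap.ker dbar)] (p : PrimeSpectrum A) (hp : p ∈ T) :
    2 ≤ LocCoh.depth (Localization.AtPrime p.asIdeal)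
      (LocalizedModule p.asIdeal.primeCompl (LinearMap.ker dbar)) := by
  haveI := isNoetherianRing_atPrime p.asIdeal
  have hvan : ∀ i : ℕ, i ≤ 1 → Subsingleton (LocCoh.H p.asIdeal i (LinearMap.ker dbar)) := by
    intro i hi
    have key : ∀ x : LocCoh.H p.asIdeal i (LinearMap.ker dbar), x = 0 := fun x => by
      have := smul_H_eq_zero p.asIdeal i (LinearMap.ker dbar) (1 : A) (fun k y => by
        have hJ : InT T (p.asIdeal ^ k) := inT_pow (inT_asIdeal_of_mem hT p hp) k
        have hy : y = 0 := by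
          interval_cases i
          · exact ext_zero_eq_zero T (torsT_submodule_eq_bot T hQ0 _) _ hJ y
          · exact ext_one_eq_zero T hQ0i hQ1 dbar _ hJ y
        rw [hy, smul_zero]) x
      rwa [one_smul] at this
    exact ⟨fun x y => by rw [key x, key y]⟩
  have h1 : ((1 : ℕ) : ℕ∞) < LocCoh.depth (Localization.AtPrime p.asIdeal)
      (LocalizedModule p.asIdeal.primeCompl (LinearMap.ker dbar)) := by
    rw [← forall_subsingleton_H_iff_lt_depth]
    intro i hi
    rw [subsingleton_H_atPrime_iff]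
    intro y
    obtain ⟨e⟩ := hdi_inD_equiv_locCoh p.asIdeal (LinearMap.ker dbar) i
    haveI := hvan i hi
    refine ⟨1, fun h1 => p.2.ne_top ((Ideal.eq_top_iff_one _).2 h1), ?_⟩
    rw [one_smul]
    apply e.injective
    exact Subsingleton.elim _ _
  have := Order.add_one_le_of_lt h1
  exact_mod_cast this

end Groth.Agent.Lib.DepthTwo
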