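import Mathlib
import Groth.Agent.Lib.DT2_helper6
import Groth.Agent.Lib.FT23_helper6

/-!
# The `T`-closure of a module via an injective model (helper6)
-/

set_option autoImplicit false
set_option linter.style.haveILetI false
set_option linter.unusedSectionVars false
set_option linter.unusedVariables false
universe u
open CategoryTheory CategoryTheory.Limits DerivedCategory

attribute [local instance] HasDerivedCategory.standard

namespace Groth.Agent.Lib.DepthTwo

open Groth.Agent.Lib.FaltT Groth.Agent.Lib.StalkVan Groth.Agent.Lib.DMod_helper6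

variable {A : Type u} [CommRing A] [IsNoetherianRing A] (T : Set (PrimeSpectrum A))

lemma mk_eq_zero_iff' (S : Submonoid A) {M : Type u} [AddCommGroup M] [Module A M] (m : M)
    (s : S) : LocalizedModule.mk m s = 0 ↔ ∃ u : S, u • m = 0 := by
  rw [← LocalizedModule.zero_mk (1 : S), LocalizedModule.mk_eq]
  constructor
  · rintro ⟨u, hu⟩
    refine ⟨u, ?_⟩
    rw [one_smul, smul_zero, smul_zero] at hu
    exact hu
  · rintro ⟨u, hu⟩
    exact ⟨u, by rw [one_smul, smul_zero, smul_zero]; exact hu⟩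

/-- a map with torsion kernel and cokernel becomes bijective after localization -/
lemma bijective_localizedModule_map (S : Submonoid A) {M X : Type u} [AddCommGroup M]
    [Module A M] [AddCommGroup X] [Module A X] (f : M →ₗ[A] X)
    (hker : ∀ m : M, f m = 0 → ∃ t : A, t ∈ S ∧ t • m = 0)
    (hcoker : ∀ x : X, ∃ t : A, t ∈ S ∧ ∃ m : M, f m = t • x) :
    Function.Bijective (LocalizedModule.map S f) := by
  constructor
  · rw [injective_iff_map_eq_zero]
    intro y hy
    induction y using LocalizedModule.induction_on with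
    | h m s =>
      rw [LocalizedModule.map_mk] at hy
      obtain ⟨u, hu⟩ := (mk_eq_zero_iff' S _ _).1 hy
      have h1 : f ((u : A) • m) = 0 := by rw [map_smul]; exact hu
      obtain ⟨t, ht, htm⟩ := hker _ h1
      rw [mk_eq_zero_iff']
      refine ⟨⟨t, ht⟩ * u, ?_⟩
      show (t * (u : A)) • m = 0
      rw [mul_smul]
      exact htm
  · intro y
    induction y using LocalizedModule.induction_on with
    | h x s =>
      obtain ⟨t, ht, m, hm⟩ := hcoker x
      refine ⟨LocalizedModule.mk m (⟨t, ht⟩ * s), ?_⟩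
      rw [LocalizedModule.map_mk, hm, LocalizedModule.mk_eq]
      refine ⟨1, ?_⟩
      simp only [one_smul]
      rw [mul_smul, Submonoid.smul_def, Submonoid.smul_def, Submonoid.smul_def, smul_comm]

section Construction

variable (E : DRing.Cx A)

/-- `E⁰ / Γ_T E⁰ ⟶ E¹ / Γ_T E¹` -/
noncomputable def dbar : (E.X 0 ⧸ torsT T (E.X 0)) →ₗ[A] (E.X 1 ⧸ torsT T (E.X 1)) :=
  Submodule.mapQ _ _ (E.d 0 1).hom (fun x hx => map_mem_torsT (E.d 0 1).hom hx)

/-- the module `M''` -/
noncomputable abbrev XX : Submodule A (E.X 0 ⧸ torsT T (E.X 0)) := LinearMap.ker (dbar T E)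

/-- the cycles in degree zero -/
abbrev Z0 : Submodule A (E.X 0) := LinearMap.ker (E.d 0 1).hom

/-- `Z⁰ ⟶ M''` -/
noncomputable def f₀ : Z0 E →ₗ[A] XX T E :=
  LinearMap.codRestrict _ ((torsT T (E.X 0)).mkQ ∘ₗ (Z0 E).subtype) (fun z => by
    rw [LinearMap.mem_ker, LinearMap.comp_apply, Submodule.subtype_apply]
    show Submodule.mapQ _ _ _ _ (Submodule.Quotient.mk z.1) = 0
    rw [Submodule.mapQ_apply, z.2, Submodule.Quotient.mk_zero])

lemma f₀_val (z : Z0 E) : ((f₀ T E z : XX T E) : E.X 0 ⧸ torsT T (E.X 0)) =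
    Submodule.Quotient.mk z.1 := rfl

/-- elements of `E⁰` whose differential is `T`-torsion -/
abbrev Xt : Submodule A (E.X 0) := Submodule.comap (E.d 0 1).hom (torsT T (E.X 1))

/-- `X̃ ⟶ M''` -/
noncomputable def πX : Xt T E →ₗ[A] XX T E :=
  LinearMap.codRestrict _ ((torsT T (E.X 0)).mkQ ∘ₗ (Xt T E).subtype) (fun e => by
    rw [LinearMap.mem_ker, LinearMap.comp_apply, Submodule.subtype_apply]
    show Submodule.mapQ _ _ _ _ (Submodule.Quotient.mk e.1) = 0
    rw [Submodule.mapQ_apply, Submodule.Quotient.mk_eq_zero]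
    exact e.2)

lemma πX_surjective : Function.Surjective (πX T E) := by
  rintro ⟨x, hx⟩
  obtain ⟨e, rfl⟩ := Submodule.Quotient.mk_surjective _ x
  have he : (E.d 0 1).hom e ∈ torsT T (E.X 1) := by
    have h1 : Submodule.mapQ (torsT T (E.X 0)) (torsT T (E.X 1)) (E.d 0 1).hom
        (fun x hx => map_mem_torsT (E.d 0 1).hom hx) (Submodule.Quotient.mk e) =
        (0 : E.X 1 ⧸ torsT T (E.X 1)) := hx
    rw [Submodule.mapQ_apply, Submodule.Quotient.mk_eq_zero] at h1
    exact h1
  exact ⟨⟨e, he⟩, rfl⟩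

/-- `X̃ ⟶ H¹(Γ_T E)` -/
noncomputable def δt : Xt T E →ₗ[A] ((ΓTC T).obj E).homology 1 :=
  (mkH ((ΓTC T).obj E) 1) ∘ₗ
    LinearMap.codRestrict (Zc ((ΓTC T).obj E) 1)
      (LinearMap.codRestrict (torsT T (E.X 1)) ((E.d 0 1).hom ∘ₗ (Xt T E).subtype)
        (fun e => e.2)) (fun e => by
        rw [mem_Zc]
        apply Subtype.ext
        rw [ΓT_d_val]
        show (E.d 1 (1 + 1)).hom ((E.d 0 1).hom e.1) = 0
        have := E.d_comp_d 0 1 (1 + 1)
        exact congrArg (fun f => f.hom e.1) this)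

lemma δt_eq_zero (e : Xt T E) (h : δt T E e = 0) :
    ∃ w : E.X 0, w ∈ torsT T (E.X 0) ∧ (E.d 0 1).hom w = (E.d 0 1).hom e.1 := by
  unfold δt at h
  rw [LinearMap.comp_apply, mkH_eq_zero_iff _ 1 0 (by norm_num)] at h
  obtain ⟨w, hw⟩ := h
  refine ⟨(w : torsT T (E.X 0)).1, (w : torsT T (E.X 0)).2, ?_⟩
  have := congrArg Subtype.val hw
  rw [ΓT_d_val] at this
  exact this

end Construction

end Groth.Agent.Lib.DepthTwo
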