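import Mathlib
import Groth.Agent.Lib.DT3_helper6

/-!
# S1738: improving depth along a specialization-stable subset (helper6)
-/

set_option autoImplicit false
set_option linter.style.haveILetI false
set_option linter.unusedSectionVars false
set_option linter.unusedVariables false
universe u
open CategoryTheory CategoryTheory.Limits DerivedCategory

attribute [local instance] HasDerivedCategory.standard

namespace Groth.Agent.Lib.DepthTwo

open Groth.Agent.Lib.FaltT Groth.Agent.Lib.StalkVan Groth.Agent.Lib.DMod_helper6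

variable {A : Type u} [CommRing A] [IsNoetherianRing A] (T : Set (PrimeSpectrum A))

section Construction

variable (E : DRing.Cx A)

/-- finiteness of `M''` from finiteness of `Z⁰` and `H¹(Γ_T E)` -/
theorem finite_XX [Module.Finite A (Z0 E)] [Module.Finite A (((ΓTC T).obj E).homology 1)] :
    Module.Finite A (XX T E) := by
  haveI : Module.Finite A (LinearMap.range (f₀ T E)) := Module.Finite.range _
  -- the quotient `M'' / im f₀` is a quotient of a submodule of `H¹`
  let σ : Xt T E →ₗ[A] (XX T E ⧸ LinearMap.range (f₀ T E)) :=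
    (LinearMap.range (f₀ T E)).mkQ ∘ₗ πX T E
  have hσ : Function.Surjective σ :=
    (Submodule.mkQ_surjective _).comp (πX_surjective T E)
  have hle : LinearMap.ker (δt T E) ≤ LinearMap.ker σ := by
    intro e he
    obtain ⟨w, hw, hdw⟩ := δt_eq_zero T E e (LinearMap.mem_ker.1 he)
    rw [LinearMap.mem_ker]
    show (LinearMap.range (f₀ T E)).mkQ (πX T E e) = 0
    rw [Submodule.mkQ_apply, Submodule.Quotient.mk_eq_zero]
    have hz : e.1 - w ∈ Z0 E := by
      rw [LinearMap.mem_ker, map_sub, hdw, sub_self]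
    refine ⟨⟨e.1 - w, hz⟩, ?_⟩
    apply Subtype.ext
    rw [f₀_val]
    show Submodule.Quotient.mk (e.1 - w) = Submodule.Quotient.mk e.1
    rw [Submodule.Quotient.mk_sub, (Submodule.Quotient.mk_eq_zero _).2 hw, sub_zero]
  haveI : IsNoetherian A (((ΓTC T).obj E).homology 1) :=
    isNoetherian_of_isNoetherianRing_of_finite A _
  haveI : Module.Finite A (LinearMap.range (δt T E)) :=
    Module.Finite.iff_fg.2 (IsNoetherian.noetherian _)
  haveI : Module.Finite A (Xt T E ⧸ LinearMap.ker (δt T E)) :=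
    Module.Finite.equiv (LinearMap.quotKerEquivRange (δt T E)).symm
  haveI : Module.Finite A (Xt T E ⧸ LinearMap.ker σ) :=
    Module.Finite.of_surjective (Submodule.factor hle) (Submodule.factor_surjective hle)
  haveI : Module.Finite A (XX T E ⧸ LinearMap.range (f₀ T E)) :=
    Module.Finite.equiv (LinearMap.quotKerEquivOfSurjective σ hσ)
  exact Module.Finite.of_submodule_quotient (LinearMap.range (f₀ T E))

/-- the kernel of `f₀` is `T`-torsion -/
lemma kills_of_f₀_eq_zero (z : Z0 E) (hz : f₀ T E z = 0) :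
    ∃ J : Ideal A, InT T J ∧ ∀ a ∈ J, a • z = 0 := by
  have h1 : (Submodule.Quotient.mk z.1 : E.X 0 ⧸ torsT T (E.X 0)) = 0 := by
    rw [← f₀_val, hz]; rfl
  rw [Submodule.Quotient.mk_eq_zero] at h1
  obtain ⟨J, hJ, hk⟩ := h1
  exact ⟨J, hJ, fun a ha => Subtype.ext (hk a ha)⟩

/-- the cokernel of `f₀` is `T`-torsion -/
lemma exists_smul_mem_range (x : XX T E) :
    ∃ J : Ideal A, InT T J ∧ ∀ a ∈ J, ∃ z : Z0 E, f₀ T E z = a • x := by
  obtain ⟨e, rfl⟩ := πX_surjective T E x
  obtain ⟨J, hJ, hk⟩ := (e.2 : (E.d 0 1).hom e.1 ∈ torsT T (E.X 1))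
  refine ⟨J, hJ, fun a ha => ?_⟩
  have hz : a • e.1 ∈ Z0 E := by
    rw [LinearMap.mem_ker, map_smul]
    exact hk a ha
  refine ⟨⟨a • e.1, hz⟩, ?_⟩
  apply Subtype.ext
  rw [f₀_val]
  rfl

end Construction

/-- an ideal with zero locus in `T` contains an element outside a prime `p ∉ T` -/
lemma exists_mem_not_mem_of_inT {J : Ideal A} (hJ : InT T J) (p : PrimeSpectrum A) (hp : p ∉ T) :
    ∃ t : A, t ∈ J ∧ t ∉ p.asIdeal := by
  have : ¬ J ≤ p.asIdeal := fun hle => hp (hJ ((PrimeSpectrum.mem_zeroLocus _ _).2 hle))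
  obtain ⟨t, htJ, htp⟩ := Set.not_subset.1 this
  exact ⟨t, htJ, htp⟩

theorem S1738_main (hA : ∃ ω : Dual.D A, Dual.IsDualizing A ω)
    (hT : StableUnderSpecialization T) (M : Type u) [AddCommGroup M] [Module A M]
    [Module.Finite A M]
    (hM : ∀ p q : PrimeSpectrum A, p ⋖ q → q ∈ T → p ∉ T →
      1 ≤ LocCoh.depth (Localization.AtPrime p.asIdeal)
        (LocalizedModule p.asIdeal.primeCompl M)) :
    ∃ (M'' : Type u) (_ : AddCommGroup M'') (_ : Module A M'') (_ : Module.Finite A M'')
      (f : M →ₗ[A] M''),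
      (∀ p : PrimeSpectrum A, p ∉ T →
        Function.Bijective (LocalizedModule.map p.asIdeal.primeCompl f)) ∧
      ∀ p : PrimeSpectrum A, p ∈ T → 2 ≤ LocCoh.depth (Localization.AtPrime p.asIdeal)
        (LocalizedModule p.asIdeal.primeCompl M'') := by
  -- finiteness of `H^1_T(M)`
  have hfin1 : Module.Finite A (Dual2.HT T 1 M) := by
    refine (S1727_main hA T hT 1 M).2 (fun p q hp hq hpq => ?_) 1 le_rfl
    rw [krullDim_Icc_eq_height p q hpq]
    have hcast : ((1 : ℕ) : WithBot ℕ∞) = (((1 : ℕ) : ℕ∞) : WithBot ℕ∞) := rfl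
    rw [hcast, ← WithBot.coe_add, WithBot.coe_lt_coe]
    have hne : p ≠ q := fun h => hp (h ▸ hq)
    have hlt : p < q := lt_of_le_of_ne hpq hne
    have hpos : Order.height (⟨q, hpq⟩ : Set.Ici p) ≠ 0 := by
      intro h0
      have hmin : IsMin (⟨q, hpq⟩ : Set.Ici p) := Order.height_eq_zero.1 h0
      have := hmin (b := ⟨p, Set.mem_Ici.2 le_rfl⟩) hpq
      exact hne (le_antisymm hpq this)
    by_cases h1 : Order.height (⟨q, hpq⟩ : Set.Ici p) = 1
    · have hcov : p ⋖ q := by
        refine ⟨hlt, fun r hpr hrq => ?_⟩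
        let r' : Set.Ici p := ⟨r, hpr.le⟩
        have hr0 : Order.height r' ≠ 0 := by
          intro h0
          have hmin : IsMin r' := Order.height_eq_zero.1 h0
          have := hmin (b := ⟨p, Set.mem_Ici.2 le_rfl⟩) hpr.le
          exact hpr.ne (le_antisymm hpr.le this)
        have h2 : Order.height r' < Order.height (⟨q, hpq⟩ : Set.Ici p) :=
          Order.height_strictMono (show r' < ⟨q, hpq⟩ from hrq)
            (lt_of_le_of_lt (Order.height_mono (show r' ≤ ⟨q, hpq⟩ from hrq.le))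
              (by rw [h1]; exact ENat.one_lt_top))
        rw [h1] at h2
        exact hr0 (ENat.lt_one_iff_eq_zero.1 h2)
      have hd := hM p q hcov hq hp
      rw [h1]
      calc ((1 : ℕ) : ℕ∞) < 1 + 1 := by norm_num
        _ ≤ _ := add_le_add hd le_rfl
    · have h2 : (2 : ℕ∞) ≤ Order.height (⟨q, hpq⟩ : Set.Ici p) := by
        have h1' : (1 : ℕ∞) ≤ Order.height (⟨q, hpq⟩ : Set.Ici p) :=
          ENat.one_le_iff_ne_zero.2 hpos
        have h3 : (1 : ℕ∞) < Order.height (⟨q, hpq⟩ : Set.Ici p) :=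
          lt_of_le_of_ne h1' (fun h => h1 h.symm)
        have := Order.add_one_le_of_lt h3
        rw [one_add_one_eq_two] at this
        exact this
      calc ((1 : ℕ) : ℕ∞) < 2 := by norm_num
        _ ≤ Order.height (⟨q, hpq⟩ : Set.Ici p) := h2
        _ ≤ _ := le_add_self
  -- the injective model
  obtain ⟨E, hE, hinj, hK, ⟨e⟩⟩ := exists_injective_model (Dual.inD A M) 0
  have hinj' : ∀ n, Module.Injective A (E.X n) := fun n =>
    Module.injective_module_of_injective_object A (E.X n)
  -- `Z⁰ ≃ M`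
  have hz : ∀ y : E.X (-1), y = 0 := by
    intro y
    haveI : Subsingleton (E.X (-1)) :=
      ModuleCat.subsingleton_of_isZero (E.isZero_of_isStrictlyGE 0 (-1) (by norm_num))
    exact Subsingleton.elim _ _
  have hmkH : Function.Bijective (mkH E 0) := by
    refine ⟨?_, mkH_surjective E 0⟩
    rw [injective_iff_map_eq_zero]
    intro z hz0
    obtain ⟨w, hw⟩ := (mkH_eq_zero_iff E 0 (-1) (by norm_num) z).1 hz0
    apply Subtype.ext
    rw [← hw, hz w, map_zero]
    rfl
  let ε : Z0 E ≃ₗ[A] M :=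
    ((LinearEquiv.ofBijective (mkH E 0) hmkH).trans
      ((HDIsoEquiv e 0).trans (HDQEquiv E 0)).symm).trans
      (HDinDIso (ModuleCat.of A M)).toLinearEquiv
  haveI : Module.Finite A (Z0 E) := Module.Finite.equiv ε.symm
  haveI : Module.Finite A (((ΓTC T).obj E).homology 1) := by
    obtain ⟨E1⟩ := homology_equiv_HDT T E (Dual.inD A M) e 1
    obtain ⟨E2⟩ := nonempty_HT_equiv_HDT T 1 M
    haveI := hfin1
    exact Module.Finite.equiv (E2.trans E1.symm)
  haveI := finite_XX T E
  refine ⟨XX T E, inferInstance, inferInstance, inferInstance,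
    (f₀ T E) ∘ₗ ε.symm.toLinearMap, ?_, ?_⟩
  · intro p hp
    apply bijective_localizedModule_map
    · intro m hm
      obtain ⟨J, hJ, hk⟩ := kills_of_f₀_eq_zero T E (ε.symm m) hm
      obtain ⟨t, htJ, htp⟩ := exists_mem_not_mem_of_inT T hJ p hp
      refine ⟨t, htp, ?_⟩
      apply ε.symm.injective
      rw [map_smul, map_zero]
      exact hk t htJ
    · intro x
      obtain ⟨J, hJ, hk⟩ := exists_smul_mem_range T E x
      obtain ⟨t, htJ, htp⟩ := exists_mem_not_mem_of_inT T hJ p hp
      obtain ⟨z, hz⟩ := hk t htJ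
      refine ⟨t, htp, ε z, ?_⟩
      rw [LinearMap.comp_apply, LinearEquiv.coe_coe, LinearEquiv.symm_apply_apply, hz]
  · intro p hp
    exact two_le_depth_ker T hT (injective_quotient_torsT T _ (hinj' 0))
      (torsT_quotient_eq_bot T _) (torsT_quotient_eq_bot T _) (dbar T E) p hp

end Groth.Agent.Lib.DepthTwo
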