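import Groth.Agent.Lib.TorCoker_helper2
import Groth.Agent.Lib.KFlatSite8_helper2
import Groth.Agent.Lib.StalkFlatA_helper2

/-!
# K-flat complexes on ringed sites, X: flatness of `coker d^{a-1}` from vanishing of Tor
-/

set_option autoImplicit false
universe u
open CategoryTheory Limits ModSite

namespace Groth.Agent.Lib.KFlatSite

variable {C : Type u} [SmallCategory C] {J : GrothendieckTopology C} (O : Sheaf J CommRingCat.{u})

open Groth.Agent.Lib.ModSiteH8

/-- a flat module tensors short exact sequences (in the other variable) to short exact sequences -/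
theorem shortExact_tensor_obj_of_isFlat (M : Mod O) (hM : ModSite.IsFlat M)
    (S : ShortComplex (Mod O)) (hS : S.ShortExact) :
    (S.map ((tensorBi O).obj M)).ShortExact := by
  haveI := hM.1
  haveI := hM.2
  exact ShortComplex.shortExact_of_iso (ShortComplex.mapNatIso S (sigmaIso O M).symm)
    (hS.map_of_exact ((tensorBi O).flip.obj M))

/-- if `E` has flat terms and `H^{a-1}(E ⊗ G) = 0` for all `G`, then `coker(E^{a-1} → E^a)` is
flat -/
theorem isFlat_cokernel_of_vanishing (E : CochainComplex (Mod O) ℤ)
    (hfl : ∀ i : ℤ, ModSite.IsFlat (E.X i)) (a : ℤ)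
    (hH : ∀ G : Mod O, IsZero
      (((((tensorBi O).flip.obj G).mapHomologicalComplex (ComplexShape.up ℤ)).obj E).homology
        (a - 1))) :
    ModSite.IsFlat (cokernel (E.d (a - 1) a)) := by
  rw [isFlat_iff]
  haveI : PreservesFiniteLimits ((tensorBi O).obj (cokernel (E.d (a - 1) a))) := by
    apply Groth.Agent.Lib.StalkFlatA.preservesFiniteLimits_of_preservesMono
    intro G' G g hg
    haveI := hg
    exact Groth.Agent.Lib.TorCoker.mono_map_cokernel (tensorBi O) E a
      (fun i S hS => shortExact_tensor_obj_of_isFlat O (E.X i) (hfl i) S hS) hH g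
  exact preservesFiniteLimits_of_natIso (sigmaIso O (cokernel (E.d (a - 1) a)))

end Groth.Agent.Lib.KFlatSite
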