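import Groth.Agent.Lib.DTorCmp_helper2
import Groth.Agent.Lib.KFlatSite10_helper2
import Groth.Agent.Lib.StalkFlatB4_helper2

/-!
# Derived tensor product on a scheme, II: flatness of `coker d^{a-1}` (helper2)
-/

set_option autoImplicit false
universe u
open CategoryTheory Limits AlgebraicGeometry
attribute [local instance] HasDerivedCategory.standard

namespace Groth.Agent.Lib.DTorCmp

variable {X : Scheme.{u}}

/-- `- ⊗ G` in the site phrasing, typed on `X.Modules` -/
noncomputable def flipG (G : X.Modules) : X.Modules ⥤ X.Modules :=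
  (ModSite.tensorBi X.sheaf).flip.obj G

instance additive_flipG (G : X.Modules) : (flipG G).Additive :=
  Groth.Agent.Lib.ModSiteH8.flip_additive X.sheaf G

noncomputable def eT' (G : X.Modules) : DCoh.tensorRightMod G ≅ flipG G := eT G

/-- vanishing of `H^i(E ⊗ G)` in the site phrasing, from the derived-tensor phrasing -/
theorem isZero_site_homology (G : X.Modules) [DCoh.HasLTensorMod G]
    (E : CochainComplex X.Modules ℤ) (hK : ModSite.IsKFlat (O := X.sheaf) E) (i : ℤ)
    (hz : IsZero (DCoh.HD ((DCoh.LTensorMod G).obj (DCoh.toD X E)) i)) :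
    IsZero ((((flipG G).mapHomologicalComplex (ComplexShape.up ℤ)).obj E).homology i) := by
  have hz' : IsZero (((tw G).obj E).homology i) := IsZero.of_iso hz (hdIso G E hK i).symm
  exact IsZero.of_iso hz'
    ((HomologicalComplex.homologyFunctor X.Modules (ComplexShape.up ℤ) i).mapIso
      ((NatIso.mapHomologicalComplex (eT' G) (ComplexShape.up ℤ)).app E)).symm

/-- S0968 in library form -/
theorem flat_cokernel_of_torAmp (E : CochainComplex X.Modules ℤ) (n : ℤ) (hn : E.IsStrictlyLE n)
    (hflat : ∀ i : ℤ, FlatMod.IsFlat (E.X i)) (hL : ∀ G : X.Modules, DCoh.HasLTensorMod G)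
    (a : ℤ) (hE : ∀ (G : X.Modules) [DCoh.HasLTensorMod G],
      IsZero (DCoh.HD ((DCoh.LTensorMod G).obj (DCoh.toD X E)) (a - 1))) :
    FlatMod.IsFlat (cokernel (E.d (a - 1) a)) := by
  haveI := hn
  have hK : ModSite.IsKFlat (O := X.sheaf) E :=
    @Groth.Agent.Lib.KFlatSite.isKFlat_of_isStrictlyLE _ _ _ X.sheaf E n hn
      (fun i => Groth.Agent.Lib.StalkFlatSch.isFlat_of_flatMod (E.X i) (hflat i))
  apply Groth.Agent.Lib.StalkFlatSch.flatMod_of_isFlat
  apply Groth.Agent.Lib.KFlatSite.isFlat_cokernel_of_vanishing X.sheaf E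
    (fun i => Groth.Agent.Lib.StalkFlatSch.isFlat_of_flatMod (E.X i) (hflat i)) a
  intro G
  haveI := hL G
  exact isZero_site_homology G E hK (a - 1) (hE G)

end Groth.Agent.Lib.DTorCmp
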