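import Groth.Agent.Lib.KFlatGen5_helper2
import Groth.Agent.Lib.KFlatSite8_helper2

/-!
# K-flat complexes on ringed sites, IX: triangles are represented by cones of K-flat complexes
-/

set_option autoImplicit false
universe w u
open CategoryTheory Limits ModSite Pretriangulated

namespace Groth.Agent.Lib.KFlatSite

variable {C : Type u} [SmallCategory C] {J : GrothendieckTopology C} (O : Sheaf J CommRingCat.{u})

open Groth.Agent.Lib.ModSiteH8 Groth.Agent.Lib.ResSite Groth.Agent.Lib.KFlatGen

theorem exists_kflat_triangle [HasDerivedCategory.{w} (Mod O)]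
    (T : Triangle (DerivedCategory (Mod O))) (hT : T ∈ distTriang (DerivedCategory (Mod O))) :
    ∃ (P₁ P₂ : CochainComplex (Mod O) ℤ) (f : P₁ ⟶ P₂), ModSite.IsKFlat P₁ ∧
      ModSite.IsKFlat P₂ ∧ ModSite.IsKFlat (CochainComplex.mappingCone f) ∧
      Nonempty (T ≅ DerivedCategory.Q.mapTriangle.obj
        (CochainComplex.mappingCone.triangle f)) := by
  haveI := hasExactColimitsOfShape_filtered O ℕ
  obtain ⟨P₁, P₂, f, h1, h2, h3, h4⟩ :=
    KFlatGen.exists_kflat_triangle (flatClass O) (resClass O) T hT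
  exact ⟨P₁, P₂, f, (isKFlat_iff_gen O _).2 h1, (isKFlat_iff_gen O _).2 h2,
    (isKFlat_iff_gen O _).2 h3, h4⟩

end Groth.Agent.Lib.KFlatSite
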