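import Groth.Agent.Lib.DTorCmp_helper2
import Groth.Agent.Lib.KFlatSite9_helper2

/-!
# The derived tensor product `- ⊗^L M` on a scheme and distinguished triangles (helper2)
-/

set_option autoImplicit false
universe u
open CategoryTheory Limits AlgebraicGeometry Pretriangulated
attribute [local instance] HasDerivedCategory.standard

namespace Groth.Agent.Lib.DTorCmp

variable {X : Scheme.{u}}

/-- scheme phrasing of `KFlatSite.exists_kflat_triangle` -/
theorem exists_kflat_triangle (T : Triangle (DCoh.D X)) (hT : T ∈ distTriang (DCoh.D X)) :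
    ∃ (P₁ P₂ : CochainComplex X.Modules ℤ) (f : P₁ ⟶ P₂),
      ModSite.IsKFlat (O := X.sheaf) P₁ ∧ ModSite.IsKFlat (O := X.sheaf) P₂ ∧
      ModSite.IsKFlat (O := X.sheaf) (CochainComplex.mappingCone f) ∧
      Nonempty (T ≅ DerivedCategory.Q.mapTriangle.obj
        (CochainComplex.mappingCone.triangle f)) :=
  Groth.Agent.Lib.KFlatSite.exists_kflat_triangle X.sheaf T hT

/-- `- ⊗^L M` takes a distinguished triangle to (the vertices of) a distinguished triangle -/
theorem exists_LT_triangle (T : Triangle (DCoh.D X)) (hT : T ∈ distTriang (DCoh.D X))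
    (M : X.Modules) [DCoh.HasLTensorMod M] :
    ∃ T' : Triangle (DCoh.D X), T' ∈ distTriang (DCoh.D X) ∧
      Nonempty ((DCoh.LTensorMod M).obj T.obj₁ ≅ T'.obj₁) ∧
      Nonempty ((DCoh.LTensorMod M).obj T.obj₂ ≅ T'.obj₂) ∧
      Nonempty ((DCoh.LTensorMod M).obj T.obj₃ ≅ T'.obj₃) := by
  obtain ⟨P₁, P₂, f, h1, h2, h3, ⟨e⟩⟩ := exists_kflat_triangle T hT
  refine ⟨DerivedCategory.Q.mapTriangle.obj
    (CochainComplex.mappingCone.triangle ((tw M).map f)),
    DerivedCategory.mappingCone_triangle_distinguished _, ⟨?_⟩, ⟨?_⟩, ⟨?_⟩⟩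
  · exact (DCoh.LTensorMod M).mapIso (Triangle.π₁.mapIso e) ≪≫ ltensorIso M P₁ h1
  · exact (DCoh.LTensorMod M).mapIso (Triangle.π₂.mapIso e) ≪≫ ltensorIso M P₂ h2
  · exact (DCoh.LTensorMod M).mapIso (Triangle.π₃.mapIso e) ≪≫
      ltensorIso M (CochainComplex.mappingCone f) h3 ≪≫
      DerivedCategory.Q.mapIso
        (CochainComplex.mappingCone.mapHomologicalComplexIso f (DCoh.tensorRightMod M))

/-- vanishing in the long exact sequence: third vertex -/
theorem isZero_HD_obj₃ (T : Triangle (DCoh.D X)) (hT : T ∈ distTriang (DCoh.D X))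
    (M : X.Modules) [DCoh.HasLTensorMod M] (i : ℤ)
    (h2 : IsZero (DCoh.HD ((DCoh.LTensorMod M).obj T.obj₂) i))
    (h1 : IsZero (DCoh.HD ((DCoh.LTensorMod M).obj T.obj₁) (i + 1))) :
    IsZero (DCoh.HD ((DCoh.LTensorMod M).obj T.obj₃) i) := by
  obtain ⟨T', hT', ⟨e1⟩, ⟨e2⟩, ⟨e3⟩⟩ := exists_LT_triangle T hT M
  refine IsZero.of_iso ?_ ((DerivedCategory.homologyFunctor X.Modules i).mapIso e3)
  exact (DerivedCategory.HomologySequence.exact₃ T' hT' i (i + 1) rfl).isZero_of_both_isZero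
    (IsZero.of_iso h2 ((DerivedCategory.homologyFunctor X.Modules i).mapIso e2.symm))
    (IsZero.of_iso h1 ((DerivedCategory.homologyFunctor X.Modules (i + 1)).mapIso e1.symm))

/-- vanishing in the long exact sequence: second vertex -/
theorem isZero_HD_obj₂ (T : Triangle (DCoh.D X)) (hT : T ∈ distTriang (DCoh.D X))
    (M : X.Modules) [DCoh.HasLTensorMod M] (i : ℤ)
    (h1 : IsZero (DCoh.HD ((DCoh.LTensorMod M).obj T.obj₁) i))
    (h3 : IsZero (DCoh.HD ((DCoh.LTensorMod M).obj T.obj₃) i)) :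
    IsZero (DCoh.HD ((DCoh.LTensorMod M).obj T.obj₂) i) := by
  obtain ⟨T', hT', ⟨e1⟩, ⟨e2⟩, ⟨e3⟩⟩ := exists_LT_triangle T hT M
  refine IsZero.of_iso ?_ ((DerivedCategory.homologyFunctor X.Modules i).mapIso e2)
  exact (DerivedCategory.HomologySequence.exact₂ T' hT' i).isZero_of_both_isZero
    (IsZero.of_iso h1 ((DerivedCategory.homologyFunctor X.Modules i).mapIso e1.symm))
    (IsZero.of_iso h3 ((DerivedCategory.homologyFunctor X.Modules i).mapIso e3.symm))

/-- vanishing in the long exact sequence: first vertex -/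
theorem isZero_HD_obj₁ (T : Triangle (DCoh.D X)) (hT : T ∈ distTriang (DCoh.D X))
    (M : X.Modules) [DCoh.HasLTensorMod M] (i : ℤ)
    (h3 : IsZero (DCoh.HD ((DCoh.LTensorMod M).obj T.obj₃) (i - 1)))
    (h2 : IsZero (DCoh.HD ((DCoh.LTensorMod M).obj T.obj₂) i)) :
    IsZero (DCoh.HD ((DCoh.LTensorMod M).obj T.obj₁) i) := by
  obtain ⟨T', hT', ⟨e1⟩, ⟨e2⟩, ⟨e3⟩⟩ := exists_LT_triangle T hT M
  refine IsZero.of_iso ?_ ((DerivedCategory.homologyFunctor X.Modules i).mapIso e1)
  exact (DerivedCategory.HomologySequence.exact₁ T' hT' (i - 1) i (by omega)).isZero_of_both_isZero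
    (IsZero.of_iso h3 ((DerivedCategory.homologyFunctor X.Modules (i - 1)).mapIso e3.symm))
    (IsZero.of_iso h2 ((DerivedCategory.homologyFunctor X.Modules i).mapIso e2.symm))

end Groth.Agent.Lib.DTorCmp
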