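import Mathlib
import Groth.Agent.Lib.DomDimOne4_helper6

/-!
# DVRs refining a valuation ring of a finitely generated field extension (helper6)

`exists_dvr_of_valuationSubring`: for a Noetherian domain `A` with fraction field `K`, a finitely
generated extension `L/K`, a valuation subring `V ⊇ A` of `L` and a nonzero `y` in the maximal ideal
of `V`, there is a discrete valuation subring `R ⊇ A` of `L` with `y` in its maximal ideal and
centre on `A` containing the centre of `V`.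
-/

set_option autoImplicit false
universe u

namespace Groth.Agent.Lib.DomDimOne

open IsLocalRing

theorem exists_dvr_of_valuationSubring (A : Type u) [CommRing A] [IsDomain A] [IsNoetherianRing A]
    (K : Type u) [Field K] [Algebra A K] [IsFractionRing A K]
    (L : Type u) [Field L] [Algebra K L] [Algebra A L] [IsScalarTower A K L]
    (hfg : (⊤ : IntermediateField K L).FG) (V : ValuationSubring L)
    (hV : ∀ a : A, algebraMap A L a ∈ V) (y : L) (hy0 : y ≠ 0) (hy : V.valuation y < 1) :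
    ∃ R : ValuationSubring L, IsDiscreteValuationRing R ∧ (∀ a : A, algebraMap A L a ∈ R) ∧
      R.valuation y < 1 ∧
      ∀ a : A, V.valuation (algebraMap A L a) < 1 → R.valuation (algebraMap A L a) < 1 := by
  classical
  have hyV : y ∈ V := (V.valuation_le_one_iff y).1 hy.le
  obtain ⟨t, ht⟩ := hfg
  obtain ⟨t', ht'def⟩ : ∃ t' : Finset L,
      t' = insert y (t.image (fun z => if z ∈ V then z else z⁻¹)) := ⟨_, rfl⟩
  obtain ⟨B₀, hB₀def⟩ : ∃ B₀ : Subalgebra A L, B₀ = Algebra.adjoin A (t' : Set L) := ⟨_, rfl⟩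
  have hB₀fg : B₀.FG := by rw [hB₀def]; exact Subalgebra.fg_adjoin_finset _
  let VA : Subalgebra A L := { V.toSubring.toSubsemiring with algebraMap_mem' := hV }
  have hB₀V : B₀ ≤ VA := by
    rw [hB₀def]
    apply Algebra.adjoin_le
    intro z hz
    rw [ht'def, Finset.coe_insert, Finset.coe_image] at hz
    rcases hz with rfl | ⟨z₀, hz₀, rfl⟩
    · exact hyV
    · show (if z₀ ∈ V then z₀ else z₀⁻¹) ∈ V
      split_ifs with h
      · exact h
      · exact (V.mem_or_inv_mem z₀).resolve_left h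
  have hyB₀ : y ∈ B₀ := by
    rw [hB₀def]
    apply Algebra.subset_adjoin
    rw [ht'def, Finset.coe_insert]
    exact Set.mem_insert _ _
  have htB₀ : ∀ z ∈ (t : Set L), z ∈ B₀ ∨ z⁻¹ ∈ B₀ := by
    intro z hz
    by_cases h : z ∈ V
    · left
      rw [hB₀def]
      apply Algebra.subset_adjoin
      rw [ht'def, Finset.coe_insert, Finset.coe_image]
      exact Set.mem_insert_of_mem _ ⟨z, hz, if_pos h⟩
    · right
      rw [hB₀def]
      apply Algebra.subset_adjoin
      rw [ht'def, Finset.coe_insert, Finset.coe_image]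
      exact Set.mem_insert_of_mem _ ⟨z, hz, if_neg h⟩
  have hdiv : ∀ z : L, ∃ x y : L, x ∈ B₀ ∧ y ∈ B₀ ∧ y ≠ 0 ∧ z = x / y := fun z =>
    exists_div_of_mem_adjoin K B₀ (t : Set L) htB₀ z (by rw [ht]; trivial)
  haveI hB₀frac : IsFractionRing B₀ L := IsFractionRing.of_field B₀ L (fun z => by
    obtain ⟨x, y, hx, hy, hy0, rfl⟩ := hdiv z
    exact ⟨⟨x, hx⟩, ⟨y, hy⟩, rfl⟩)
  haveI hFT : Algebra.FiniteType A B₀ := (Subalgebra.fg_iff_finiteType B₀).1 hB₀fg
  haveI hB₀N : IsNoetherianRing B₀ := Algebra.FiniteType.isNoetherianRing A B₀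
  let φ : B₀ →+* V := (B₀.val.toRingHom).codRestrict V.toSubring (fun b => hB₀V b.2)
  obtain ⟨𝔫, h𝔫def⟩ : ∃ 𝔫 : Ideal B₀, 𝔫 = Ideal.comap φ (maximalIdeal V) := ⟨_, rfl⟩
  haveI h𝔫prime : 𝔫.IsPrime := by rw [h𝔫def]; exact Ideal.comap_isPrime _ _
  have h𝔫mem : ∀ b : B₀, V.valuation (b : L) < 1 → b ∈ 𝔫 := by
    intro b hb
    rw [h𝔫def, Ideal.mem_comap]
    exact (V.valuation_lt_one_iff _).2 hb
  haveI := isNoetherianRing_locAtPrime L B₀ 𝔫
  have hA₂nf : ¬ IsField (locAtPrime L B₀ 𝔫) := by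
    intro hf
    have h1 := mem_maximalIdeal_locAtPrime_of_mem L B₀ 𝔫 _ (h𝔫mem ⟨y, hyB₀⟩ hy)
    rw [IsLocalRing.isField_iff_maximalIdeal_eq.1 hf, Ideal.mem_bot] at h1
    have h2 : y = 0 := congrArg Subtype.val h1
    exact hy0 h2
  obtain ⟨R, hR, hmem, hlt⟩ := exists_dvr_dominating (locAtPrime L B₀ 𝔫) hA₂nf L
  refine ⟨R, hR, fun a => hmem (algebraMap B₀ _ (algebraMap A B₀ a)), ?_, fun a ha => ?_⟩
  · exact hlt _ (mem_maximalIdeal_locAtPrime_of_mem L B₀ 𝔫 _ (h𝔫mem ⟨y, hyB₀⟩ hy))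
  · exact hlt _ (mem_maximalIdeal_locAtPrime_of_mem L B₀ 𝔫 _ (h𝔫mem (algebraMap A B₀ a) ha))

end Groth.Agent.Lib.DomDimOne
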