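import Mathlib
import Groth.Agent.Lib.DomDimOne5_helper6

set_option autoImplicit false
set_option linter.unusedVariables false
set_option linter.unusedTactic false
set_option linter.unreachableTactic false
set_option linter.unusedSectionVars false
set_option maxHeartbeats 800000

universe u

open Polynomial IsLocalRing

namespace Groth.Agent.Lib.DVRCoprimeH4

section Key

variable {R : Type u} [CommRing R] [IsDomain R] [IsLocalRing R] [UniqueFactorizationMonoid R]

/-- If `g(Δ₁/Δ₂) = 0` for coprime non-units `Δ₁, Δ₂` of a local UFD then `g(1)` is a non-unit. -/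
theorem eval_one_mem (Δ₁ Δ₂ : R) (h₁ : ¬ IsUnit Δ₁) (h₂ : ¬ IsUnit Δ₂)
    (hcop : IsRelPrime Δ₁ Δ₂) (K : Type u) [Field K] [Algebra R K] [IsFractionRing R K]
    (g : R[X])
    (hg : aeval (algebraMap R K Δ₁ / algebraMap R K Δ₂) g = 0) :
    g.eval 1 ∈ maximalIdeal R := by
  by_contra hu
  have hunit : IsUnit (g.eval 1) := by
    by_contra h
    exact hu ((IsLocalRing.mem_maximalIdeal _).mpr h)
  have hΔ₂0 : Δ₂ ≠ 0 := by
    intro h0
    rw [h0] at hcop
    exact h₁ (hcop (dvd_refl Δ₁) (dvd_zero Δ₁))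
  have hK0 : algebraMap R K Δ₂ ≠ 0 := by
    intro h
    exact hΔ₂0 ((IsFractionRing.injective R K) (by rw [h, map_zero]))
  obtain ⟨n, hn⟩ : ∃ n : ℕ, n = g.natDegree := ⟨_, rfl⟩
  -- the homogenised relation
  have hA : ∑ j ∈ Finset.range (n + 1), g.coeff j * (Δ₁ ^ j * Δ₂ ^ (n - j)) = 0 := by
    apply IsFractionRing.injective R K
    rw [map_zero, map_sum]
    have hsum : ∑ j ∈ Finset.range (n + 1),
        algebraMap R K (g.coeff j * (Δ₁ ^ j * Δ₂ ^ (n - j))) =
        algebraMap R K Δ₂ ^ n *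
          aeval (algebraMap R K Δ₁ / algebraMap R K Δ₂) g := by
      rw [Polynomial.aeval_eq_sum_range, ← hn, Finset.mul_sum]
      refine Finset.sum_congr rfl (fun j hj => ?_)
      have hjn : j ≤ n := Nat.lt_succ_iff.mp (Finset.mem_range.mp hj)
      rw [Algebra.smul_def, map_mul, map_mul, map_pow, map_pow, div_pow]
      have hpow : algebraMap R K Δ₂ ^ n =
          algebraMap R K Δ₂ ^ (n - j) * algebraMap R K Δ₂ ^ j := by
        rw [← pow_add, Nat.sub_add_cancel hjn]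
      rw [hpow]
      have hj0 : algebraMap R K Δ₂ ^ j ≠ 0 := pow_ne_zero _ hK0
      field_simp
    rw [hsum, hg, mul_zero]
  have hB : g.eval 1 = ∑ j ∈ Finset.range (n + 1), g.coeff j := by
    rw [Polynomial.eval_eq_sum_range, ← hn]
    refine Finset.sum_congr rfl (fun j _ => ?_)
    rw [one_pow, mul_one]
  have hneg : ∀ m : ℕ, Δ₁ - Δ₂ ∣ Δ₂ ^ m - Δ₁ ^ m := by
    intro m
    have h := sub_dvd_pow_sub_pow Δ₁ Δ₂ m
    rw [← neg_sub (Δ₁ ^ m) (Δ₂ ^ m)]
    exact (dvd_neg).mpr h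
  -- divisibility of Δ₂ ^ n
  have hC : Δ₁ - Δ₂ ∣ g.eval 1 * Δ₂ ^ n := by
    have hdiff : g.eval 1 * Δ₂ ^ n =
        - ∑ j ∈ Finset.range (n + 1), g.coeff j * (Δ₂ ^ (n - j) * (Δ₁ ^ j - Δ₂ ^ j)) := by
      rw [← sub_eq_zero, sub_neg_eq_add, hB, Finset.sum_mul, ← Finset.sum_add_distrib,
        ← hA]
      refine Finset.sum_congr rfl (fun j hj => ?_)
      have hjn : j ≤ n := Nat.lt_succ_iff.mp (Finset.mem_range.mp hj)
      have hpow : Δ₂ ^ n = Δ₂ ^ (n - j) * Δ₂ ^ j := by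
        rw [← pow_add, Nat.sub_add_cancel hjn]
      rw [hpow]; ring
    rw [hdiff]
    apply (dvd_neg).mpr
    apply Finset.dvd_sum
    intro j _
    exact Dvd.dvd.mul_left (Dvd.dvd.mul_left (sub_dvd_pow_sub_pow Δ₁ Δ₂ j) _) _
  have hD : Δ₁ - Δ₂ ∣ g.eval 1 * Δ₁ ^ n := by
    have hdiff : g.eval 1 * Δ₁ ^ n =
        - ∑ j ∈ Finset.range (n + 1), g.coeff j * (Δ₁ ^ j * (Δ₂ ^ (n - j) - Δ₁ ^ (n - j))) := by
      rw [← sub_eq_zero, sub_neg_eq_add, hB, Finset.sum_mul, ← Finset.sum_add_distrib,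
        ← hA]
      refine Finset.sum_congr rfl (fun j hj => ?_)
      have hjn : j ≤ n := Nat.lt_succ_iff.mp (Finset.mem_range.mp hj)
      have hpow : Δ₁ ^ n = Δ₁ ^ j * Δ₁ ^ (n - j) := by
        rw [← pow_add, Nat.add_sub_cancel' hjn]
      rw [hpow]; ring
    rw [hdiff]
    apply (dvd_neg).mpr
    apply Finset.dvd_sum
    intro j _
    exact Dvd.dvd.mul_left (Dvd.dvd.mul_left (hneg (n - j)) _) _
  have hC' : Δ₁ - Δ₂ ∣ Δ₂ ^ n := (hunit.dvd_mul_left).mp hC
  have hD' : Δ₁ - Δ₂ ∣ Δ₁ ^ n := (hunit.dvd_mul_left).mp hD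
  have hpow : IsRelPrime (Δ₁ ^ n) (Δ₂ ^ n) := hcop.pow
  have hε : IsUnit (Δ₁ - Δ₂) := hpow hD' hC'
  have hmem : Δ₁ - Δ₂ ∈ maximalIdeal R :=
    Ideal.sub_mem _ ((IsLocalRing.mem_maximalIdeal _).mpr h₁)
      ((IsLocalRing.mem_maximalIdeal _).mpr h₂)
  exact ((IsLocalRing.mem_maximalIdeal _).mp hmem) hε

end Key

section Main

theorem top_fg (K : Type u) [Field K] : (⊤ : IntermediateField K K).FG := by
  refine ⟨∅, ?_⟩
  rw [Finset.coe_empty, IntermediateField.adjoin_empty]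
  exact (eq_top_iff.mpr (fun z _ => IntermediateField.mem_bot.mpr ⟨z, rfl⟩))

theorem main (R : Type u) [CommRing R] [IsDomain R] [IsNoetherianRing R]
    [UniqueFactorizationMonoid R] [IsLocalRing R]
    (Δ₁ Δ₂ : R) (h₁ : ¬ IsUnit Δ₁) (h₂ : ¬ IsUnit Δ₂) (hcop : IsRelPrime Δ₁ Δ₂) :
    ∃ (A : Type u) (_ : CommRing A) (_ : IsDomain A) (_ : IsDiscreteValuationRing A)
      (f : R →+* A),
      IsLocalHom f ∧ Function.Injective f ∧ ¬ IsUnit (f Δ₁) ∧
        ∃ u : Aˣ, (u : A) - 1 ∈ IsLocalRing.maximalIdeal A ∧ f Δ₁ = (u : A) * f Δ₂ := by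
  classical
  obtain ⟨K, hKdef⟩ : ∃ K : Type u, K = FractionRing R := ⟨_, rfl⟩
  subst hKdef
  have hinjK : Function.Injective (algebraMap R (FractionRing R)) :=
    IsFractionRing.injective R (FractionRing R)
  have hΔ₂0 : Δ₂ ≠ 0 := by
    intro h0
    rw [h0] at hcop
    exact h₁ (hcop (dvd_refl Δ₁) (dvd_zero Δ₁))
  have hK0 : algebraMap R (FractionRing R) Δ₂ ≠ 0 := by
    intro h
    exact hΔ₂0 (hinjK (by rw [h, map_zero]))
  obtain ⟨x, hxdef⟩ : ∃ x : FractionRing R,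
      x = algebraMap R (FractionRing R) Δ₁ / algebraMap R (FractionRing R) Δ₂ := ⟨_, rfl⟩
  have hxmul : algebraMap R (FractionRing R) Δ₁ = x * algebraMap R (FractionRing R) Δ₂ := by
    rw [hxdef, div_mul_cancel₀ _ hK0]
  have hx1 : x - 1 ≠ 0 := by
    intro h
    have hx : x = 1 := sub_eq_zero.mp h
    rw [hx, one_mul] at hxmul
    have hΔ : Δ₁ = Δ₂ := hinjK hxmul
    rw [hΔ] at hcop
    exact h₂ (hcop (dvd_refl _) (dvd_refl _))
  -- the prime ideal of R[X]
  obtain ⟨χ, hχdef⟩ : ∃ χ : R[X] →+* ResidueField R,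
      χ = (IsLocalRing.residue R).comp (Polynomial.evalRingHom (1 : R)) := ⟨_, rfl⟩
  have hχmem : ∀ g : R[X], g ∈ RingHom.ker χ ↔ g.eval 1 ∈ maximalIdeal R := by
    intro g
    rw [RingHom.mem_ker, hχdef, RingHom.comp_apply, Polynomial.coe_evalRingHom,
      IsLocalRing.residue_eq_zero_iff]
  haveI hprime : (RingHom.ker χ).IsPrime := RingHom.ker_isPrime χ
  obtain ⟨ev, hevdef⟩ : ∃ ev : R[X] →+* FractionRing R,
      ev = (Polynomial.aeval x : R[X] →ₐ[R] FractionRing R).toRingHom := ⟨_, rfl⟩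
  have hev : ∀ g : R[X], ev g = Polynomial.aeval x g := by
    intro g; rw [hevdef]; rfl
  have hunits : ∀ y : (RingHom.ker χ).primeCompl, IsUnit (ev (y : R[X])) := by
    intro y
    rw [isUnit_iff_ne_zero]
    intro h0
    apply y.2
    rw [SetLike.mem_coe, hχmem]
    rw [hev, hxdef] at h0
    exact eval_one_mem Δ₁ Δ₂ h₁ h₂ hcop (FractionRing R) _ h0
  obtain ⟨f, hfdef⟩ : ∃ f : Localization.AtPrime (RingHom.ker χ) →+* FractionRing R,
      f = IsLocalization.lift (M := (RingHom.ker χ).primeCompl) hunits := ⟨_, rfl⟩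
  have hf : ∀ g : R[X], f (algebraMap R[X] (Localization.AtPrime (RingHom.ker χ)) g) = ev g := by
    intro g; rw [hfdef]; exact IsLocalization.lift_eq hunits g
  obtain ⟨V, hV, hloc⟩ := IsLocalRing.exists_factor_valuationRing f
  -- nonunits of the local ring map to elements of valuation < 1
  have hlt : ∀ g : R[X], g ∈ RingHom.ker χ → V.valuation (ev g) < 1 := by
    intro g hgq
    have hmemV : ev g ∈ V := by rw [← hf g]; exact hV _
    have hle : V.valuation (ev g) ≤ 1 := (V.valuation_le_one_iff _).mpr hmemV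
    refine lt_of_le_of_ne hle ?_
    intro h1
    have hunitV : IsUnit (⟨ev g, hmemV⟩ : V) := (V.valuation_eq_one_iff ⟨ev g, hmemV⟩).mpr h1
    have hnon : ¬ IsUnit (algebraMap R[X] (Localization.AtPrime (RingHom.ker χ)) g) := by
      have := (IsLocalization.AtPrime.to_map_mem_maximal_iff
        (Localization.AtPrime (RingHom.ker χ)) (RingHom.ker χ) g).mpr hgq
      exact (IsLocalRing.mem_maximalIdeal _).mp this
    apply hnon
    apply hloc.map_nonunit
    obtain ⟨⟨c, hc⟩, hmul⟩ := isUnit_iff_exists_inv.mp hunitV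
    refine isUnit_iff_exists_inv.mpr ⟨⟨c, hc⟩, ?_⟩
    apply Subtype.ext
    have h2 := congrArg Subtype.val hmul
    show f (algebraMap R[X] (Localization.AtPrime (RingHom.ker χ)) g) * c = 1
    rw [hf g]
    exact h2
  have hevC : ∀ r : R, ev (Polynomial.C r) = algebraMap R (FractionRing R) r := by
    intro r; rw [hev, Polynomial.aeval_C]
  have hVR : ∀ r : R, algebraMap R (FractionRing R) r ∈ V := by
    intro r
    rw [← hevC r, ← hf]
    exact hV _
  have hVm : ∀ r ∈ maximalIdeal R, V.valuation (algebraMap R (FractionRing R) r) < 1 := by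
    intro r hr
    rw [← hevC r]
    apply hlt
    rw [hχmem, Polynomial.eval_C]
    exact hr
  have hVx : V.valuation (x - 1) < 1 := by
    have : ev (Polynomial.X - Polynomial.C 1) = x - 1 := by
      rw [hev, map_sub, Polynomial.aeval_X, Polynomial.aeval_C, map_one]
    rw [← this]
    apply hlt
    rw [hχmem, Polynomial.eval_sub, Polynomial.eval_X, Polynomial.eval_C, sub_self]
    exact Ideal.zero_mem _
  obtain ⟨W, hWdvr, hWR, hWx, hWm⟩ :=
    Groth.Agent.Lib.DomDimOne.exists_dvr_of_valuationSubring R (FractionRing R) (FractionRing R)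
      (top_fg _) V hVR (x - 1) hx1 hVx
  haveI := hWdvr
  have hx1W : x - 1 ∈ W := (W.valuation_le_one_iff _).mp hWx.le
  have hxW : x ∈ W := by
    have : x = (x - 1) + 1 := by ring
    rw [this]
    exact W.add_mem _ _ hx1W W.one_mem
  have hxval : W.valuation x = 1 := by
    have : x = 1 + (x - 1) := by ring
    rw [this]
    exact Valuation.map_one_add_of_lt _ hWx
  have hxunit : IsUnit (⟨x, hxW⟩ : W) := (W.valuation_eq_one_iff ⟨x, hxW⟩).mpr hxval
  obtain ⟨φ, hφdef⟩ : ∃ φ : R →+* W,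
      φ = (algebraMap R (FractionRing R)).codRestrict W.toSubring hWR := ⟨_, rfl⟩
  have hφval : ∀ r : R, ((φ r : W) : FractionRing R) = algebraMap R (FractionRing R) r := by
    intro r; rw [hφdef]; rfl
  have hnonunit : ∀ r ∈ maximalIdeal R, ¬ IsUnit (φ r) := by
    intro r hr hu
    have h1 := (W.valuation_eq_one_iff (φ r)).mp hu
    rw [hφval] at h1
    have h2 := hWm r (hVm r hr)
    rw [h1] at h2
    exact lt_irrefl _ h2
  refine ⟨W, inferInstance, inferInstance, hWdvr, φ, ⟨?_⟩, ?_, ?_, ?_⟩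
  · intro r hr
    by_contra hnu
    exact hnonunit r ((IsLocalRing.mem_maximalIdeal _).mpr hnu) hr
  · intro a b hab
    apply hinjK
    rw [← hφval a, ← hφval b, hab]
  · exact hnonunit Δ₁ ((IsLocalRing.mem_maximalIdeal _).mpr h₁)
  · refine ⟨hxunit.unit, ?_, ?_⟩
    · rw [ValuationSubring.valuation_lt_one_iff]
      have : (((hxunit.unit : W) - 1 : W) : FractionRing R) = x - 1 := rfl
      rw [this]
      exact hWx
    · apply Subtype.ext
      show ((φ Δ₁ : W) : FractionRing R) = x * ((φ Δ₂ : W) : FractionRing R)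
      rw [hφval, hφval]
      exact hxmul

end Main

end Groth.Agent.Lib.DVRCoprimeH4
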