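import Mathlib
import Groth.Agent.Lib.PSComplete_helper1

/-!
# Embedding `k[[t₁,t₂]]_(t₁)` in a complete DVR with algebraically closed residue field (helper4)
APPEND-ONLY once landed.
-/

set_option autoImplicit false
set_option linter.unusedVariables false
set_option linter.unusedTactic false
set_option linter.unreachableTactic false
set_option linter.unusedSectionVars false
set_option maxHeartbeats 800000
universe u

namespace Groth.Agent.Lib.DVRDomH4

open IsLocalRing

section

variable (k : Type u) [Field k]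

/-- The algebraic closure of the fraction field of `k[[t₂]]`. -/
abbrev L : Type u := AlgebraicClosure (FractionRing (MvPowerSeries (Fin 1) k))

theorem iota_injective :
    Function.Injective (algebraMap (MvPowerSeries (Fin 1) k) (L k)) := by
  rw [IsScalarTower.algebraMap_eq (MvPowerSeries (Fin 1) k)
    (FractionRing (MvPowerSeries (Fin 1) k)) (L k), RingHom.coe_comp]
  exact (algebraMap (FractionRing (MvPowerSeries (Fin 1) k)) (L k)).injective.comp
    (IsFractionRing.injective (MvPowerSeries (Fin 1) k) (FractionRing (MvPowerSeries (Fin 1) k)))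

/-- The map `k[[t₁,t₂]] → L[[t₁]]`. -/
noncomputable def psi : MvPowerSeries (Fin 2) k →ₐ[k] PowerSeries (L k) :=
  (PowerSeries.mapAlgHom (IsScalarTower.toAlgHom k (MvPowerSeries (Fin 1) k) (L k))).comp
    (MvPowerSeries.finSuccEquiv k 1).toAlgHom

theorem psi_apply (f : MvPowerSeries (Fin 2) k) :
    psi k f = PowerSeries.map (algebraMap (MvPowerSeries (Fin 1) k) (L k))
      (MvPowerSeries.finSuccEquiv k 1 f) := rfl

theorem psi_injective : Function.Injective (psi k) := by
  intro f g h
  rw [psi_apply, psi_apply] at h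
  exact (MvPowerSeries.finSuccEquiv k 1).injective
    (PowerSeries.map_injective _ (iota_injective k) h)

theorem psi_X : psi k (MvPowerSeries.X 0) = PowerSeries.X := by
  rw [psi_apply, MvPowerSeries.finSuccEquiv_X_zero, PowerSeries.map_X]

theorem mem_span_X_iff (f : MvPowerSeries (Fin 2) k) :
    f ∈ Ideal.span {(MvPowerSeries.X 0 : MvPowerSeries (Fin 2) k)} ↔
      PowerSeries.constantCoeff (MvPowerSeries.finSuccEquiv k 1 f) = 0 := by
  rw [Ideal.mem_span_singleton, ← PowerSeries.X_dvd_iff]
  constructor
  · rintro ⟨g, rfl⟩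
    rw [map_mul, MvPowerSeries.finSuccEquiv_X_zero]
    exact Dvd.intro _ rfl
  · rintro ⟨h, hh⟩
    refine ⟨(MvPowerSeries.finSuccEquiv k 1).symm h, ?_⟩
    apply (MvPowerSeries.finSuccEquiv k 1).injective
    rw [map_mul, MvPowerSeries.finSuccEquiv_X_zero, AlgEquiv.apply_symm_apply, hh]

theorem isUnit_psi_iff (f : MvPowerSeries (Fin 2) k) :
    IsUnit (psi k f) ↔ f ∉ Ideal.span {(MvPowerSeries.X 0 : MvPowerSeries (Fin 2) k)} := by
  rw [mem_span_X_iff, PowerSeries.isUnit_iff_constantCoeff, psi_apply, isUnit_iff_ne_zero]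
  have h1 : PowerSeries.constantCoeff (PowerSeries.map (algebraMap (MvPowerSeries (Fin 1) k) (L k))
      (MvPowerSeries.finSuccEquiv k 1 f)) =
      algebraMap (MvPowerSeries (Fin 1) k) (L k)
        (PowerSeries.constantCoeff (MvPowerSeries.finSuccEquiv k 1 f)) := by
    rw [← PowerSeries.coeff_zero_eq_constantCoeff_apply, PowerSeries.coeff_map,
      PowerSeries.coeff_zero_eq_constantCoeff_apply]
  rw [h1]
  constructor
  · intro h h0
    exact h (by rw [h0, map_zero])
  · intro h h0
    exact h (iota_injective k (by rw [h0, map_zero]))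

end

theorem main (p : ℕ) [Fact p.Prime] (k : Type u) [Field k] [IsAlgClosed k] [CharP k p]
    (P : Ideal (MvPowerSeries (Fin 2) k))
    (hP : P = Ideal.span {(MvPowerSeries.X 0 : MvPowerSeries (Fin 2) k)}) [P.IsPrime] :
    ∃ (A : Type u) (_ : CommRing A) (_ : IsDomain A) (_ : IsDiscreteValuationRing A) (_ : Algebra k A)
      (φ : Localization.AtPrime P →ₐ[k] A),
      IsAdicComplete (IsLocalRing.maximalIdeal A) A ∧ IsAlgClosed (IsLocalRing.ResidueField A) ∧
        Function.Injective φ ∧ IsLocalHom φ.toRingHom ∧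
          Irreducible (φ (algebraMap (MvPowerSeries (Fin 2) k) (Localization.AtPrime P)
            (MvPowerSeries.X 0))) := by
  classical
  have hunit : ∀ y : P.primeCompl, IsUnit (psi k (y : MvPowerSeries (Fin 2) k)) := by
    intro y
    rw [isUnit_psi_iff, ← hP]
    exact Ideal.mem_primeCompl_iff.mp y.2
  obtain ⟨φ, hφ⟩ : ∃ φ : Localization.AtPrime P →ₐ[k] PowerSeries (L k),
      ∀ x, φ (algebraMap (MvPowerSeries (Fin 2) k) (Localization.AtPrime P) x) = psi k x := by
    refine ⟨IsLocalization.liftAlgHom (M := P.primeCompl) (f := psi k) hunit, fun x => ?_⟩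
    rw [IsLocalization.liftAlgHom_apply]
    exact IsLocalization.lift_eq _ x
  have hφmk : ∀ (f : MvPowerSeries (Fin 2) k) (s : P.primeCompl),
      φ (IsLocalization.mk' (Localization.AtPrime P) f s) * psi k (s : MvPowerSeries (Fin 2) k) =
        psi k f := by
    intro f s
    rw [← hφ, ← hφ, ← map_mul, IsLocalization.mk'_spec]
  refine ⟨PowerSeries (L k), inferInstance, inferInstance, inferInstance, inferInstance, φ,
    ?_, ?_, ?_, ?_, ?_⟩
  · haveI : IsAdicComplete (maximalIdeal (L k)) (L k) := by
      rw [IsLocalRing.maximalIdeal_eq_bot]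
      infer_instance
    exact Groth.Agent.Lib.PSCompleteH1.isAdicComplete_maximalIdeal (σ := Unit) (R := L k)
  · exact IsAlgClosed.of_ringEquiv (k := L k) _ (PowerSeries.residueFieldOfPowerSeries).symm
  · intro a b hab
    obtain ⟨f, s, rfl⟩ := IsLocalization.exists_mk'_eq P.primeCompl a
    obtain ⟨g, t, rfl⟩ := IsLocalization.exists_mk'_eq P.primeCompl b
    rw [IsLocalization.mk'_eq_iff_eq]
    congr 1
    apply psi_injective k
    rw [map_mul, map_mul, ← hφmk f s, ← hφmk g t, hab]
    ring
  · refine ⟨fun a ha => ?_⟩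
    obtain ⟨f, s, rfl⟩ := IsLocalization.exists_mk'_eq P.primeCompl a
    have ha' : IsUnit (φ (IsLocalization.mk' (Localization.AtPrime P) f s)) := ha
    have h1 : IsUnit (psi k f) := by
      rw [← hφmk f s]
      exact ha'.mul (hunit s)
    rw [isUnit_psi_iff, ← hP] at h1
    exact (IsLocalization.AtPrime.isUnit_mk'_iff (Localization.AtPrime P) P f s).mpr
      (Ideal.mem_primeCompl_iff.mpr h1)
  · rw [hφ, psi_X]
    exact PowerSeries.X_irreducible

end Groth.Agent.Lib.DVRDomH4
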