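import Mathlib
import Groth.Agent.Lib.BCFlag_helper9

/-!
# Specialisation of flags of subcomodules over a discrete valuation ring (helper9)

`R` a principal ideal domain with fraction field `K`, `A` a flat `R`-coalgebra.  A flag (steps of
dimension `≤ 1`) of `K`-subcomodules of `K ⊗ A`, intersected with a finitely generated `R`-subcomodule
`W` of `A`, gives after base change to any field `κ` over `R` a flag of subcomodules of `κ ⊗ A`.
-/

set_option autoImplicit false
universe u
open TensorProduct

namespace DVRFlag9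

open Groth.Agent.Lib.Comod_helper9 Groth.Agent.Lib.ComodFlag_helper9 Groth.Agent.Lib.CoeffSpace_helper9
  Groth.Agent.Lib.CoeffIso_helper9 TrigFlag9

section General

variable (R : Type u) [CommRing R] (S : Type u) [CommRing S] [Algebra R S]
variable (A : Type u) [AddCommGroup A] [Module R A] [Coalgebra R A]

theorem comul_tmul (c : S) (a : A) :
    CoalgebraStruct.comul (R := S) (A := S ⊗[R] A) (c ⊗ₜ[R] a) =
      TensorProduct.AlgebraTensorModule.tensorTensorTensorComm R S R S S S A A
        (((1 : S) ⊗ₜ[S] c) ⊗ₜ[R] CoalgebraStruct.comul (R := R) a) := rfl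

variable {R A}

theorem baseChange_sup_span (P : Submodule R A) (q : A) :
    (P ⊔ Submodule.span R {q}).baseChange S =
      P.baseChange S ⊔ Submodule.span S {(1 : S) ⊗ₜ[R] q} := by
  apply le_antisymm
  · rw [Submodule.baseChange_eq_span, Submodule.span_le]
    rintro _ ⟨m, hm, rfl⟩
    obtain ⟨p, hp, z, hz, rfl⟩ := Submodule.mem_sup.mp hm
    obtain ⟨a, rfl⟩ := Submodule.mem_span_singleton.mp hz
    show (1 : S) ⊗ₜ[R] (p + a • q) ∈ _
    rw [TensorProduct.tmul_add]
    apply Submodule.add_mem
    · exact Submodule.mem_sup_left (Submodule.tmul_mem_baseChange_of_mem 1 hp)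
    · apply Submodule.mem_sup_right
      rw [TensorProduct.tmul_smul, ← algebraMap_smul S a ((1 : S) ⊗ₜ[R] q)]
      exact Submodule.smul_mem _ _ (Submodule.mem_span_singleton_self _)
  · apply sup_le (Submodule.baseChange_mono S le_sup_left)
    rw [Submodule.span_le, Set.singleton_subset_iff]
    exact Submodule.tmul_mem_baseChange_of_mem 1
      (Submodule.mem_sup_right (Submodule.mem_span_singleton_self q))

/-- base change of a subcomodule of the regular comodule (over rings) -/
theorem isSubcomod_baseChange (P : Submodule R A) (hP : HopfRep.IsSubcomod (k := R) (A := A) P) :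
    HopfRep.IsSubcomod (k := S) (A := S ⊗[R] A) (P.baseChange S) := by
  set T : Submodule S ((S ⊗[R] A) ⊗[S] (S ⊗[R] A)) :=
    LinearMap.range ((P.baseChange S).subtype.rTensor (S ⊗[R] A)) with hT
  have key : ∀ y : P ⊗[R] A,
      TensorProduct.AlgebraTensorModule.tensorTensorTensorComm R S R S S S A A
        (((1 : S) ⊗ₜ[S] (1 : S)) ⊗ₜ[R] (P.subtype.rTensor A y)) ∈ T := by
    intro y
    induction y using TensorProduct.induction_on with
    | zero => simp
    | add x y hx hy =>
      rw [map_add, TensorProduct.tmul_add, map_add]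
      exact T.add_mem hx hy
    | tmul p a =>
      rw [LinearMap.rTensor_tmul, TensorProduct.AlgebraTensorModule.tensorTensorTensorComm_tmul]
      refine ⟨(⟨(1 : S) ⊗ₜ[R] (p : A), Submodule.tmul_mem_baseChange_of_mem 1 p.2⟩ : P.baseChange S)
        ⊗ₜ[S] ((1 : S) ⊗ₜ[R] a), ?_⟩
      rw [LinearMap.rTensor_tmul]
      rfl
  have hle : P.baseChange S ≤ T.comap (CoalgebraStruct.comul (R := S) (A := S ⊗[R] A)) := by
    rw [Submodule.baseChange_eq_span, Submodule.span_le]
    rintro _ ⟨p, hp, rfl⟩
    obtain ⟨y, hy⟩ := hP p hp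
    show CoalgebraStruct.comul (R := S) (A := S ⊗[R] A) ((1 : S) ⊗ₜ[R] p) ∈ T
    rw [comul_tmul]
    have hy' : CoalgebraStruct.comul (R := R) p = P.subtype.rTensor A y := hy.symm
    rw [hy']
    exact key y
  intro x hx
  exact hle hx

variable (R A)

/-- `(S ⊗ A) ⊗_S (S ⊗ A) ≃ (S ⊗ A) ⊗ A` -/
noncomputable def Xi : (S ⊗[R] A) ⊗[S] (S ⊗[R] A) ≃ₗ[S] (S ⊗[R] A) ⊗[R] A :=
  TensorProduct.AlgebraTensorModule.cancelBaseChange R S S (S ⊗[R] A) A

theorem Xi_comul (x : S ⊗[R] A) :
    Xi R S A (CoalgebraStruct.comul (R := S) (A := S ⊗[R] A) x) = Hoch.Ind.coactAux R A S x := by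
  induction x using TensorProduct.induction_on with
  | zero => simp
  | add x y hx hy => rw [map_add, map_add, map_add, hx, hy]
  | tmul c a =>
    rw [comul_tmul, Hoch.Ind.coactAux_tmul]
    generalize CoalgebraStruct.comul (R := R) a = t
    induction t using TensorProduct.induction_on with
    | zero => simp
    | add x y hx hy => simp only [TensorProduct.tmul_add, map_add, hx, hy]
    | tmul a₁ a₂ =>
      rw [TensorProduct.AlgebraTensorModule.tensorTensorTensorComm_tmul, TensorProduct.assoc_symm_tmul]
      show TensorProduct.AlgebraTensorModule.cancelBaseChange R S S (S ⊗[R] A) A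
        (((1 : S) ⊗ₜ[R] a₁) ⊗ₜ[S] (c ⊗ₜ[R] a₂)) = _
      rw [TensorProduct.AlgebraTensorModule.cancelBaseChange_tmul, TensorProduct.smul_tmul', smul_eq_mul,
        mul_one]

/-- an `S`-subcomodule of the regular comodule `S ⊗ A` is an `R`-subcomodule of the induced comodule -/
theorem isSubcomod_ind (S' : Submodule S (S ⊗[R] A))
    (hS' : HopfRep.IsSubcomod (k := S) (A := S ⊗[R] A) S') :
    @HopfRep.IsSubcomod R A _ _ _ _ (Hoch.Ind R A S) _ _ (Hoch.Ind.comod R A S) (S'.restrictScalars R) := by
  intro x hx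
  have hx' : x ∈ S' := hx
  obtain ⟨y, hy⟩ := hS' x hx'
  have h1 : HopfRep.Comod.coact (k := R) (A := A) (V := Hoch.Ind R A S) x =
      Xi R S A ((S'.subtype.rTensor (S ⊗[R] A)) y) := by
    rw [hy]
    exact (Xi_comul R S A x).symm
  rw [h1]
  clear h1 hy
  induction y using TensorProduct.induction_on with
  | zero =>
    rw [map_zero, map_zero]
    exact Submodule.zero_mem _
  | add y z hy hz =>
    rw [map_add, map_add]
    exact Submodule.add_mem _ hy hz
  | tmul s b =>
    rw [LinearMap.rTensor_tmul]
    induction b using TensorProduct.induction_on with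
    | zero =>
      rw [TensorProduct.tmul_zero, map_zero]
      exact Submodule.zero_mem _
    | add b b' hb hb' =>
      rw [TensorProduct.tmul_add, map_add]
      exact Submodule.add_mem _ hb hb'
    | tmul c a =>
      refine ⟨(⟨c • (s : S ⊗[R] A), S'.smul_mem c s.2⟩ : S'.restrictScalars R) ⊗ₜ[R] a, ?_⟩
      rw [LinearMap.rTensor_tmul]
      show _ = TensorProduct.AlgebraTensorModule.cancelBaseChange R S S (S ⊗[R] A) A
        ((s : S ⊗[R] A) ⊗ₜ[S] (c ⊗ₜ[R] a))
      rw [TensorProduct.AlgebraTensorModule.cancelBaseChange_tmul]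
      rfl

/-- `a ↦ 1 ⊗ a` -/
noncomputable def iota0 : A →ₗ[R] S ⊗[R] A := TensorProduct.mk R S A 1

theorem iota0_apply (a : A) : iota0 R S A a = (1 : S) ⊗ₜ[R] a := rfl

/-- `a ↦ 1 ⊗ a` into the induced comodule -/
noncomputable def iota : A →ₗ[R] Hoch.Ind R A S :=
  (Hoch.Ind.equiv R A S).toLinearMap ∘ₗ iota0 R S A

omit [Coalgebra R A] in
theorem assoc_symm_one_tmul (t : A ⊗[R] A) :
    (TensorProduct.assoc R S A A).symm ((1 : S) ⊗ₜ[R] t) = (iota0 R S A).rTensor A t := by
  induction t using TensorProduct.induction_on with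
  | zero => rw [TensorProduct.tmul_zero, map_zero, map_zero]
  | add x y hx hy => rw [TensorProduct.tmul_add, map_add, map_add, hx, hy]
  | tmul a₁ a₂ =>
    rw [TensorProduct.assoc_symm_tmul, LinearMap.rTensor_tmul]
    rfl

theorem isComodHom_iota :
    @Hoch.IsComodHom R _ A _ _ _ A _ _ (HopfRep.Comod.regular R A) (Hoch.Ind R A S) _ _
      (Hoch.Ind.comod R A S) (iota R S A) := by
  apply LinearMap.ext
  intro a
  show Hoch.Ind.coactAux R A S ((1 : S) ⊗ₜ[R] a) = (iota0 R S A).rTensor A (CoalgebraStruct.comul (R := R) a)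
  rw [Hoch.Ind.coactAux_tmul]
  exact assoc_symm_one_tmul R S A _

theorem iota0_injective [Module.Flat R A] (hRS : Function.Injective (algebraMap R S)) :
    Function.Injective (iota0 R S A) := by
  have h1 : Function.Injective ((Algebra.linearMap R S).rTensor A) :=
    Module.Flat.rTensor_preserves_injective_linearMap _ hRS
  have h2 : iota0 R S A = (Algebra.linearMap R S).rTensor A ∘ₗ (TensorProduct.lid R A).symm.toLinearMap := by
    ext a
    simp [iota0]
  rw [h2]
  exact h1.comp (TensorProduct.lid R A).symm.injective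

/-- Claim A: the part of an `R`-subcomodule `W` of `A` lying in an `S`-subcomodule `E` of `S ⊗ A` is a
subcomodule (flat coalgebra). -/
theorem isSubcomod_inf_comap [Module.Flat R A] (W : Submodule R A)
    (hW : HopfRep.IsSubcomod (k := R) (A := A) W)
    (E : Submodule S (S ⊗[R] A)) (hE : HopfRep.IsSubcomod (k := S) (A := S ⊗[R] A) E) :
    HopfRep.IsSubcomod (k := R) (A := A) (W ⊓ (E.restrictScalars R).comap (iota0 R S A)) := by
  have hER := isSubcomod_ind R S A E hE
  letI cI : HopfRep.Comod R A (Hoch.Ind R A S) := Hoch.Ind.comod R A S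
  letI cW : HopfRep.Comod R A W := ComodSub.Comod.restr (HopfRep.Comod.regular R A) W hW
  letI cQ : HopfRep.Comod R A (Hoch.Ind R A S ⧸ E.restrictScalars R) :=
    ComodSub.Comod.quot (Hoch.Ind.comod R A S) (E.restrictScalars R) hER
  let g : W →ₗ[R] (Hoch.Ind R A S ⧸ E.restrictScalars R) :=
    (E.restrictScalars R).mkQ ∘ₗ iota R S A ∘ₗ W.subtype
  have hg1 : Hoch.IsComodHom A (iota R S A ∘ₗ W.subtype) :=
    isComodHom_comp (V := A) (W := Hoch.Ind R A S) (iota R S A) W.subtype (isComodHom_iota R S A)
      (ComodSub.isComodHom_subtype (HopfRep.Comod.regular R A) W hW)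
  have hg : Hoch.IsComodHom A g :=
    @isComodHom_comp R _ A _ _ _ W (Hoch.Ind R A S) (Hoch.Ind R A S ⧸ E.restrictScalars R) _ _ cW
      (Hoch.Ind.instAddCommGroup R A S) (Hoch.Ind.instModule R A S) cI _ _ cQ
      (Submodule.mkQ (M := Hoch.Ind R A S) (E.restrictScalars R)) (iota R S A ∘ₗ W.subtype)
      (ComodSub.isComodHom_mkQ (Hoch.Ind.comod R A S) (E.restrictScalars R) hER) hg1
  have hU : HopfRep.IsSubcomod (k := R) (A := A) (LinearMap.ker g) := isSubcomod_ker g hg
  letI cU : HopfRep.Comod R A (LinearMap.ker g) := ComodSub.Comod.restr cW (LinearMap.ker g) hU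
  let f : LinearMap.ker g →ₗ[R] A := W.subtype ∘ₗ (LinearMap.ker g).subtype
  have hf : Hoch.IsComodHom A f :=
    isComodHom_comp _ _ (ComodSub.isComodHom_subtype (HopfRep.Comod.regular R A) W hW)
      (ComodSub.isComodHom_subtype cW (LinearMap.ker g) hU)
  have hr : HopfRep.IsSubcomod (k := R) (A := A) (LinearMap.range f) := isSubcomod_range f hf
  have e : LinearMap.range f = W ⊓ (E.restrictScalars R).comap (iota0 R S A) := by
    ext x
    constructor
    · rintro ⟨u, rfl⟩
      refine ⟨u.1.2, ?_⟩
      have hu : g u.1 = 0 := u.2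
      have hu' : (Submodule.Quotient.mk (iota R S A (u.1 : A)) : Hoch.Ind R A S ⧸ E.restrictScalars R) = 0 := hu
      exact (Submodule.Quotient.mk_eq_zero (E.restrictScalars R)).mp hu' 
    · rintro ⟨hxW, hxE⟩
      have hx0 : g ⟨x, hxW⟩ = 0 := (Submodule.Quotient.mk_eq_zero (E.restrictScalars R)).mpr hxE
      exact ⟨⟨⟨x, hxW⟩, hx0⟩, rfl⟩
  rw [← e]
  exact hr

end General

section PID

/-- B1: a finitely generated `R`-submodule of the fraction field of a PID is cyclic. -/
theorem exists_eq_span_singleton (R : Type u) [CommRing R] [IsDomain R] [IsPrincipalIdealRing R]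
    (K : Type u) [Field K] [Algebra R K] [IsFractionRing R K] (M : Submodule R K) (hM : M.FG) :
    ∃ m₀ ∈ M, M = Submodule.span R {m₀} := by
  classical
  obtain ⟨s, hs⟩ := hM
  obtain ⟨b, hb⟩ := IsLocalization.exist_integer_multiples_of_finset (nonZeroDivisors R) s
  set d : R := (b : R) with hd
  have hd0 : algebraMap R K d ≠ 0 := by
    intro h
    have h2 : d = 0 := IsFractionRing.injective R K (by rw [h, map_zero])
    exact nonZeroDivisors.coe_ne_zero b h2
  have hint : ∀ m ∈ M, ∃ r, algebraMap R K r = d • m := by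
    intro m hm
    rw [← hs] at hm
    induction hm using Submodule.span_induction with
    | mem a ha => exact hb a ha
    | zero => exact ⟨0, by rw [map_zero, smul_zero]⟩
    | add x y _ _ hx hy =>
      obtain ⟨r, hr⟩ := hx
      obtain ⟨r', hr'⟩ := hy
      exact ⟨r + r', by rw [map_add, hr, hr', smul_add]⟩
    | smul c x _ hx =>
      obtain ⟨r, hr⟩ := hx
      exact ⟨c * r, by rw [map_mul, hr, smul_comm, Algebra.smul_def c]⟩
  let I : Ideal R := (M.map (LinearMap.lsmul R K d)).comap (Algebra.linearMap R K)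
  obtain ⟨r₀, hr₀⟩ := (IsPrincipalIdealRing.principal I).principal
  have hr₀I : r₀ ∈ I := by
    rw [hr₀]
    exact Submodule.mem_span_singleton_self r₀
  obtain ⟨m₀, hm₀, hm₀r⟩ := hr₀I
  have hm₀r' : d • m₀ = algebraMap R K r₀ := hm₀r
  refine ⟨m₀, hm₀, le_antisymm ?_ ?_⟩
  · intro m hm
    obtain ⟨r, hr⟩ := hint m hm
    have hrI : r ∈ I := ⟨m, hm, hr.symm⟩
    rw [hr₀] at hrI
    obtain ⟨c, rfl⟩ := Submodule.mem_span_singleton.mp hrI
    rw [Submodule.mem_span_singleton]
    refine ⟨c, ?_⟩
    have h3 : d • (c • m₀) = d • m := by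
      rw [smul_comm, hm₀r', ← hr, smul_eq_mul, map_mul, Algebra.smul_def]
    rw [Algebra.smul_def, Algebra.smul_def d m] at h3
    exact mul_left_cancel₀ hd0 h3
  · rw [Submodule.span_le, Set.singleton_subset_iff]
    exact hm₀

/-- B2: adding one vector to a `K`-subspace adds at most one generator to its trace on a finitely
generated `R`-module. -/
theorem exists_sup_span {R : Type u} [CommRing R] [IsDomain R] [IsPrincipalIdealRing R]
    {K : Type u} [Field K] [Algebra R K] [IsFractionRing R K]
    {N : Type u} [AddCommGroup N] [Module K N] [Module R N] [IsScalarTower R K N]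
    {H : Type u} [AddCommGroup H] [Module R H] (ι : H →ₗ[R] N)
    (W : Submodule R H) (hW : W.FG) (P : Submodule K N) (e : N) :
    ∃ q : H, q ∈ W ⊓ ((P ⊔ Submodule.span K {e}).restrictScalars R).comap ι ∧
      W ⊓ ((P ⊔ Submodule.span K {e}).restrictScalars R).comap ι =
        (W ⊓ (P.restrictScalars R).comap ι) ⊔ Submodule.span R {q} := by
  classical
  by_cases he : e ∈ P
  · refine ⟨0, Submodule.zero_mem _, ?_⟩
    have h1 : P ⊔ Submodule.span K {e} = P :=
      sup_eq_left.mpr (by rw [Submodule.span_le, Set.singleton_subset_iff]; exact he)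
    rw [h1]
    simp
  · obtain ⟨f, hfe, hfP⟩ := Submodule.exists_dual_map_eq_bot_of_notMem he inferInstance
    set lam : H →ₗ[R] K := (f.restrictScalars R) ∘ₗ ι with hlam
    set WE : Submodule R H := W ⊓ ((P ⊔ Submodule.span K {e}).restrictScalars R).comap ι with hWE
    have hWEfg : (WE.map lam).FG := (Submodule.FG.of_le hW inf_le_left).map lam
    obtain ⟨m₀, hm₀, hM⟩ := exists_eq_span_singleton R K _ hWEfg
    obtain ⟨q, hq, rfl⟩ := hm₀
    refine ⟨q, hq, le_antisymm ?_ ?_⟩
    · intro w hw
      have h1 : lam w ∈ WE.map lam := Submodule.mem_map_of_mem hw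
      rw [hM] at h1
      obtain ⟨c, hc⟩ := Submodule.mem_span_singleton.mp h1
      rw [Submodule.mem_sup]
      refine ⟨w - c • q, ⟨?_, ?_⟩, c • q,
        Submodule.smul_mem _ _ (Submodule.mem_span_singleton_self q), by abel⟩
      · exact W.sub_mem hw.1 (W.smul_mem c hq.1)
      · have h2 : ι (w - c • q) ∈ P ⊔ Submodule.span K {e} := (WE.sub_mem hw (WE.smul_mem c hq)).2
        obtain ⟨p, hp, z, hz, hpz⟩ := Submodule.mem_sup.mp h2
        obtain ⟨a, rfl⟩ := Submodule.mem_span_singleton.mp hz
        have h3 : f (ι (w - c • q)) = 0 := by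
          have h4 : lam (w - c • q) = 0 := by rw [map_sub, map_smul, hc, sub_self]
          exact h4
        have hfp : f p = 0 := by
          have h5 : f p ∈ P.map f := Submodule.mem_map_of_mem hp
          rw [hfP] at h5
          exact (Submodule.mem_bot K).mp h5
        rw [← hpz, map_add, hfp, zero_add, map_smul, smul_eq_mul] at h3
        have ha : a = 0 := by
          rcases mul_eq_zero.mp h3 with h | h
          · exact h
          · exact absurd h hfe
        show ι (w - c • q) ∈ P
        rw [← hpz, ha, zero_smul, add_zero]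
        exact hp
    · apply sup_le
      · apply inf_le_inf_left
        apply Submodule.comap_mono
        intro x hx
        exact Submodule.mem_sup_left (show x ∈ P from hx)
      · rw [Submodule.span_le, Set.singleton_subset_iff]
        exact hq

end PID

section Main

variable (R : Type u) [CommRing R] [IsDomain R] [IsPrincipalIdealRing R]
variable (K : Type u) [Field K] [Algebra R K] [IsFractionRing R K]
variable (κ : Type u) [Field κ] [Algebra R κ]
variable (A : Type u) [AddCommGroup A] [Module R A] [Coalgebra R A] [Module.Flat R A]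

/-- Theorem T: specialisation of a flag. -/
theorem flag_special (W : Submodule R A) (hW : HopfRep.IsSubcomod (k := R) (A := A) W) (hWfg : W.FG)
    {E : Submodule K (K ⊗[R] A)} (hE : Flag (HopfRep.Comod.regular K (K ⊗[R] A)) E) :
    Flag (HopfRep.Comod.regular κ (κ ⊗[R] A))
      ((W ⊓ (E.restrictScalars R).comap (iota0 R K A)).baseChange κ) := by
  induction hE with
  | bot =>
    have hinj : Function.Injective (iota0 R K A) := iota0_injective R K A (IsFractionRing.injective R K)
    have h0 : W ⊓ ((⊥ : Submodule K (K ⊗[R] A)).restrictScalars R).comap (iota0 R K A) = ⊥ := by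
      rw [eq_bot_iff]
      rintro w ⟨_, hw⟩
      have hw0 : iota0 R K A w = 0 := hw
      exact (Submodule.mem_bot R).mpr (hinj (by rw [hw0, map_zero]))
    rw [h0, Submodule.baseChange_bot]
    exact Flag.bot
  | step P e hP hs ih =>
    obtain ⟨q, _, hq⟩ := exists_sup_span (iota0 R K A) W hWfg P e
    rw [hq, baseChange_sup_span]
    refine Flag.step _ _ ih ?_
    rw [← baseChange_sup_span, ← hq]
    exact isSubcomod_baseChange κ _ (isSubcomod_inf_comap R K A W hW _ hs)

end Main

section Special

variable (R : Type u) [CommRing R] [IsDomain R] [IsDiscreteValuationRing R]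
variable (K : Type u) [Field K] [Algebra R K] [IsFractionRing R K]
variable (A : Type u) [AddCommGroup A] [Module R A] [Coalgebra R A] [Module.Flat R A]

omit [IsDomain R] [IsDiscreteValuationRing R] [Coalgebra R A] [Module.Flat R A] in
/-- every element of `κ ⊗ A` is `1 ⊗ a` when `R → κ` is surjective -/
theorem exists_one_tmul [IsLocalRing R] (x : IsLocalRing.ResidueField R ⊗[R] A) :
    ∃ a : A, (1 : IsLocalRing.ResidueField R) ⊗ₜ[R] a = x := by
  induction x using TensorProduct.induction_on with
  | zero => exact ⟨0, TensorProduct.tmul_zero _ _⟩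
  | tmul c a =>
    obtain ⟨r, rfl⟩ := IsLocalRing.residue_surjective c
    refine ⟨r • a, ?_⟩
    rw [TensorProduct.tmul_smul, TensorProduct.smul_tmul', Algebra.smul_def, mul_one]
    rfl
  | add x y hx hy =>
    obtain ⟨a, rfl⟩ := hx
    obtain ⟨b, rfl⟩ := hy
    exact ⟨a + b, TensorProduct.tmul_add _ _ _⟩

/-- the flag on the special fibre of a finitely generated subcomodule, from trigonalizability of the
generic fibre -/
theorem flag_baseChange_of_trig (κ : Type u) [Field κ] [Algebra R κ] (hK : Trig K (K ⊗[R] A))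
    (W : Submodule R A) (hW : HopfRep.IsSubcomod (k := R) (A := A) W) (hWfg : W.FG) :
    Flag (HopfRep.Comod.regular κ (κ ⊗[R] A)) (W.baseChange κ) := by
  have hWK : HopfRep.IsSubcomod (k := K) (A := K ⊗[R] A) (W.baseChange K) :=
    isSubcomod_baseChange K W hW
  haveI : Module.Finite K (W.baseChange K) := by
    rw [Module.Finite.iff_fg]
    obtain ⟨s, hs⟩ := hWfg
    rw [← hs, Submodule.baseChange_span]
    exact Submodule.fg_span (Set.Finite.image _ s.finite_toSet)
  let cWK : HopfRep.Comod K (K ⊗[R] A) (W.baseChange K) :=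
    ComodSub.Comod.restr (HopfRep.Comod.regular K (K ⊗[R] A)) (W.baseChange K) hWK
  have h1 : Flag cWK ⊤ := flag_top hK _ (W.baseChange K) cWK inferInstance rfl
  have h2 := h1.map (W.baseChange K).subtype
    (ComodSub.isComodHom_subtype (HopfRep.Comod.regular K (K ⊗[R] A)) (W.baseChange K) hWK)
  rw [Submodule.map_top, Submodule.range_subtype] at h2
  have h3 := flag_special R K κ A W hW hWfg h2
  have hWeq : W ⊓ ((W.baseChange K).restrictScalars R).comap (iota0 R K A) = W := by
    apply inf_eq_left.mpr
    intro w hw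
    exact Submodule.tmul_mem_baseChange_of_mem 1 hw
  rw [hWeq] at h3
  exact h3

/-- trigonalizability of the generic fibre implies trigonalizability of the special fibre -/
theorem trig_special (hK : Trig K (K ⊗[R] A)) :
    Trig (IsLocalRing.ResidueField R) (IsLocalRing.ResidueField R ⊗[R] A) := by
  classical
  intro V _ _ cV hfin hsimple
  haveI := hsimple.1
  obtain ⟨ψ, hinj⟩ := exists_injective_coeffMap (k := IsLocalRing.ResidueField R)
    (C := IsLocalRing.ResidueField R ⊗[R] A) hsimple
  set j : V →ₗ[IsLocalRing.ResidueField R] IsLocalRing.ResidueField R ⊗[R] A :=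
    coeffMap (C := IsLocalRing.ResidueField R ⊗[R] A) ψ with hj
  have hjhom : Hoch.IsComodHom (IsLocalRing.ResidueField R ⊗[R] A) j := isComodHom_coeffMap ψ
  obtain ⟨s, hs⟩ := (Module.finite_def.mp hfin)
  choose lift hlift using exists_one_tmul R A
  obtain ⟨W, hW, hMW, hWfg⟩ := Groth.Agent.Lib.IndHom_helper9.exists_fg_subcomod (k := R) (C := A) A
    (Submodule.span R ((fun v => lift (j v)) '' (s : Set V)))
    (Submodule.fg_span (Set.Finite.image _ s.finite_toSet))
  have hflag := flag_baseChange_of_trig R K A (IsLocalRing.ResidueField R) hK W hW hWfg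
  have hle : LinearMap.range j ≤ W.baseChange (IsLocalRing.ResidueField R) := by
    rw [LinearMap.range_eq_map, ← hs, Submodule.map_span, Submodule.span_le]
    rintro _ ⟨v, hv, rfl⟩
    rw [SetLike.mem_coe, ← hlift (j v)]
    exact Submodule.tmul_mem_baseChange_of_mem 1 (hMW (Submodule.subset_span ⟨v, hv, rfl⟩))
  have hone := hflag.finrank_simple (LinearMap.range j) hle (isSubcomod_range j hjhom)
    (by
      rw [Ne, LinearMap.range_eq_bot]
      intro h0
      obtain ⟨x, y, hxy⟩ := ‹Nontrivial V›
      apply hxy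
      apply hinj
      rw [h0]; rfl)
    (by
      intro U hU hUle
      rcases hsimple.2 (U.comap j) (isSubcomod_comap j hjhom U hU) with h | h
      · left
        rw [← Submodule.map_comap_eq_of_le hUle, h, Submodule.map_bot]
      · right
        rw [← Submodule.map_comap_eq_of_le hUle, h, Submodule.map_top])
  rw [← hone]
  exact (LinearEquiv.ofInjective j hinj).finrank_eq

end Special

end DVRFlag9
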