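import Mathlib
import Groth.Prelude

set_option autoImplicit false
universe u

open CategoryTheory CategoryTheory.Limits AlgebraicGeometry TopologicalSpace Opposite

namespace SecOpenImmH8

variable {E S : Scheme.{u}}

/-- Fact A: if `f` is an isomorphism over `U` and `σ` is a section then `f ≫ σ` is the identity
on `f⁻¹ U`. -/
theorem ι_comp_comp (f : E ⟶ S) (U : S.Opens) (hiso : IsIso (f ∣_ U)) (σ : S ⟶ E)
    (hσ : σ ≫ f = 𝟙 S) : (f ⁻¹ᵁ U).ι ≫ f ≫ σ = (f ⁻¹ᵁ U).ι := by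
  have hle : U ≤ σ ⁻¹ᵁ (f ⁻¹ᵁ U) := by
    rw [← Scheme.Hom.comp_preimage, hσ]
    exact le_of_eq rfl
  let t : U.toScheme ⟶ (f ⁻¹ᵁ U).toScheme := σ.resLE (f ⁻¹ᵁ U) U hle
  have ht : t ≫ (f ⁻¹ᵁ U).ι = U.ι ≫ σ := Scheme.Hom.resLE_comp_ι σ hle
  have htr : t ≫ f ∣_ U = 𝟙 _ := by
    rw [← cancel_mono U.ι, Category.assoc, morphismRestrict_ι, ← Category.assoc, ht,
      Category.assoc, hσ, Category.comp_id, Category.id_comp]
  have hrt : f ∣_ U ≫ t = 𝟙 _ := by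
    have : t = inv (f ∣_ U) := by
      rw [← cancel_mono (f ∣_ U), htr, IsIso.inv_hom_id]
    rw [this, IsIso.hom_inv_id]
  calc (f ⁻¹ᵁ U).ι ≫ f ≫ σ = (f ∣_ U ≫ U.ι) ≫ σ := by
        rw [morphismRestrict_ι, Category.assoc]
    _ = f ∣_ U ≫ t ≫ (f ⁻¹ᵁ U).ι := by rw [Category.assoc, ht]
    _ = (f ⁻¹ᵁ U).ι := by rw [← Category.assoc, hrt, Category.id_comp]

theorem injective_map_of_eq (X : Scheme.{u}) {A B A' B' : X.Opens} (hA : A = A') (hB : B = B')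
    (i : B ⟶ A) (i' : B' ⟶ A') (h : Function.Injective (X.presheaf.map i.op)) :
    Function.Injective (X.presheaf.map i'.op) := by
  subst hA hB
  have : i = i' := Subsingleton.elim _ _
  rw [← this]
  exact h

/-- Fact B: morphisms to an affine scheme agreeing on a schematically dense open agree. -/
theorem eq_of_isSchematicallyDense {T : Scheme.{u}} [IsAffine T] (D : E.Opens)
    (hD : CInt.IsSchematicallyDense D) (W : E.Opens) (a b : W.toScheme ⟶ T)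
    (h : E.homOfLE (inf_le_left : W ⊓ D ≤ W) ≫ a = E.homOfLE (inf_le_left : W ⊓ D ≤ W) ≫ b) :
    a = b := by
  apply ext_of_isAffine
  have h1 := congrArg Scheme.Hom.appTop h
  rw [Scheme.Hom.comp_appTop, Scheme.Hom.comp_appTop] at h1
  have hinj : Function.Injective (E.homOfLE (inf_le_left : W ⊓ D ≤ W)).appTop := by
    rw [Scheme.homOfLE_appTop]
    refine injective_map_of_eq E ?_ ?_ (homOfLE (inf_le_left : W ⊓ D ≤ W)) _ (hD W)
    · simp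
    · simp
  ext x
  apply hinj
  exact ConcreteCategory.congr_hom h1 x

theorem isOpenImmersion_aux (f : E ⟶ S) (U : S.Opens)
    (hiso : IsIso (f ∣_ U)) (hdense : CInt.IsSchematicallyDense (f ⁻¹ᵁ U))
    (σ : S ⟶ E) (hσ : σ ≫ f = 𝟙 S) (W' : E.Opens) (hW' : IsAffineOpen W') (V : S.Opens)
    (hVW' : V ≤ σ ⁻¹ᵁ W') : IsOpenImmersion ((W' ⊓ f ⁻¹ᵁ V).ι ≫ f) := by
  set W : E.Opens := W' ⊓ f ⁻¹ᵁ V with hW
  have hWV : W ≤ f ⁻¹ᵁ V := inf_le_right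
  have hVW : V ≤ σ ⁻¹ᵁ W := by
    intro x hx
    refine ⟨hVW' hx, ?_⟩
    show f.base (σ.base x) ∈ V
    have := congrArg (fun g : S ⟶ S => g.base x) hσ
    have h2 : f.base (σ.base x) = x := by simpa using this
    rw [h2]; exact hx
  let g : W.toScheme ⟶ V.toScheme := f.resLE V W hWV
  let h : V.toScheme ⟶ W.toScheme := σ.resLE W V hVW
  have hg : g ≫ V.ι = W.ι ≫ f := Scheme.Hom.resLE_comp_ι f hWV
  have hh : h ≫ W.ι = V.ι ≫ σ := Scheme.Hom.resLE_comp_ι σ hVW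
  have hhg : h ≫ g = 𝟙 _ := by
    rw [← cancel_mono V.ι, Category.assoc, hg, ← Category.assoc, hh, Category.assoc, hσ,
      Category.comp_id, Category.id_comp]
  haveI : IsAffine W'.toScheme := hW'
  have hgh : g ≫ h = 𝟙 _ := by
    rw [← cancel_mono (E.homOfLE (inf_le_left : W ≤ W'))]
    apply eq_of_isSchematicallyDense (f ⁻¹ᵁ U) hdense W
    rw [← cancel_mono W'.ι]
    simp only [Category.assoc, Scheme.homOfLE_ι, Category.id_comp]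
    rw [hh, ← Category.assoc g, hg]
    have e1 : E.homOfLE (inf_le_left : W ⊓ f ⁻¹ᵁ U ≤ W) ≫ W.ι =
        E.homOfLE (inf_le_right : W ⊓ f ⁻¹ᵁ U ≤ f ⁻¹ᵁ U) ≫ (f ⁻¹ᵁ U).ι := by
      rw [Scheme.homOfLE_ι, Scheme.homOfLE_ι]
    calc E.homOfLE (inf_le_left : W ⊓ f ⁻¹ᵁ U ≤ W) ≫ (W.ι ≫ f) ≫ σ
        = (E.homOfLE (inf_le_left : W ⊓ f ⁻¹ᵁ U ≤ W) ≫ W.ι) ≫ f ≫ σ := by
          simp only [Category.assoc]
      _ = E.homOfLE (inf_le_right : W ⊓ f ⁻¹ᵁ U ≤ f ⁻¹ᵁ U) ≫ (f ⁻¹ᵁ U).ι ≫ f ≫ σ := by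
          rw [e1, Category.assoc]
      _ = E.homOfLE (inf_le_left : W ⊓ f ⁻¹ᵁ U ≤ W) ≫ W.ι := by
          rw [ι_comp_comp f U hiso σ hσ, ← e1]
  haveI : IsIso g := ⟨h, hgh, hhg⟩
  rw [← hg]
  infer_instance

/-- S17727. -/
theorem exists_isOpenImmersion (f : E ⟶ S) (U : S.Opens)
    (hiso : IsIso (f ∣_ U)) (hdense : CInt.IsSchematicallyDense (f ⁻¹ᵁ U))
    (σ : S ⟶ E) (hσ : σ ≫ f = 𝟙 S) (s : S) :
    ∃ W : E.Opens, σ.base s ∈ W ∧ IsOpenImmersion (W.ι ≫ f) := by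
  obtain ⟨_, ⟨W', hW' : IsAffineOpen W', rfl⟩, hsW', -⟩ :=
    (E.isBasis_affineOpens).exists_subset_of_mem_open (Set.mem_univ (σ.base s)) isOpen_univ
  obtain ⟨_, ⟨V, hV : IsAffineOpen V, rfl⟩, hsV, hVW'⟩ :=
    (S.isBasis_affineOpens).exists_subset_of_mem_open (show s ∈ σ ⁻¹ᵁ W' from hsW')
      (σ ⁻¹ᵁ W').isOpen
  have hfs : f.base (σ.base s) = s := by
    have := congrArg (fun g : S ⟶ S => g.base s) hσ
    simpa using this
  refine ⟨W' ⊓ f ⁻¹ᵁ V, ⟨hsW', ?_⟩, isOpenImmersion_aux f U hiso hdense σ hσ W' hW' V hVW'⟩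
  show f.base (σ.base s) ∈ V
  rw [hfs]; exact hsV

end SecOpenImmH8
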