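import Mathlib
import Groth.Prelude
import Groth.Agent.Lib.SchDenseKer_helper7
import Groth.Agent.Lib.SchDenseFlat_helper5
import Groth.Agent.Lib.SecOpenImm1_helper8

/-!
# Étale locus, flatness and local sections of a morphism which is an isomorphism over a dense open
(lead; S17728)
-/

set_option autoImplicit false
set_option backward.isDefEq.respectTransparency false
set_option maxHeartbeats 1600000
universe u
open CategoryTheory CategoryTheory.Limits AlgebraicGeometry TensorProduct

namespace Groth.Agent.Lib.SecEtale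

theorem flat_fromSpecStalk (X : Scheme.{u}) (x : X) : Flat (X.fromSpecStalk x) := by
  obtain ⟨_, ⟨U, hU, rfl⟩, hxU, -⟩ := X.isBasis_affineOpens.exists_subset_of_mem_open
    (Set.mem_univ x) isOpen_univ
  rw [← IsAffineOpen.fromSpecStalk_eq_fromSpecStalk hU hxU, IsAffineOpen.fromSpecStalk]
  haveI : Flat (Spec.map (X.presheaf.germ U x hxU)) := by
    rw [Flat.SpecMap_iff]
    letI := TopCat.Presheaf.algebra_section_stalk X.presheaf (⟨x, hxU⟩ : U)
    haveI := hU.isLocalization_stalk ⟨x, hxU⟩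
    have hfl : Module.Flat Γ(X, U) (X.presheaf.stalk x) :=
      IsLocalization.flat _ (hU.primeIdealOf ⟨x, hxU⟩).asIdeal.primeCompl
    exact RingHom.flat_algebraMap_iff.mpr hfl
  infer_instance

/-- A faithfully flat epimorphism of rings is bijective. -/
theorem bijective_of_faithfullyFlat_of_isEpi (A B : Type u) [CommRing A] [CommRing B]
    [Algebra A B] [Module.FaithfullyFlat A B] [Algebra.IsEpi A B] :
    Function.Bijective (algebraMap A B) := by
  have key : Function.Bijective ((Algebra.linearMap A B).lTensor B) := by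
    constructor
    · have hcomp : (LinearMap.mul' A B) ∘ₗ ((Algebra.linearMap A B).lTensor B) =
          (TensorProduct.rid A B).toLinearMap := by
        apply TensorProduct.ext'
        intro b a
        simp only [LinearMap.coe_comp, Function.comp_apply, LinearMap.lTensor_tmul,
          Algebra.linearMap_apply, LinearMap.mul'_apply, LinearEquiv.coe_coe,
          TensorProduct.rid_tmul, Algebra.smul_def]
        ring
      have hinj : Function.Injective ((LinearMap.mul' A B) ∘ₗ
          ((Algebra.linearMap A B).lTensor B)) := by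
        rw [hcomp]; exact (TensorProduct.rid A B).injective
      exact Function.Injective.of_comp (f := LinearMap.mul' A B)
        (by rw [← LinearMap.coe_comp]; exact hinj)
    · intro z
      induction z using TensorProduct.induction_on with
      | zero => exact ⟨0, map_zero _⟩
      | tmul b b' =>
        refine ⟨(b * b') ⊗ₜ 1, ?_⟩
        rw [LinearMap.lTensor_tmul, Algebra.linearMap_apply, map_one]
        have h := (Algebra.isEpi_iff_forall_one_tmul_eq (R := A) (A := B)).mp inferInstance b'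
        calc (b * b') ⊗ₜ[A] (1 : B) = (b ⊗ₜ[A] (1 : B)) * (b' ⊗ₜ[A] (1 : B)) := by
              rw [Algebra.TensorProduct.tmul_mul_tmul, mul_one]
          _ = (b ⊗ₜ[A] (1 : B)) * ((1 : B) ⊗ₜ[A] b') := by rw [h]
          _ = b ⊗ₜ[A] b' := by rw [Algebra.TensorProduct.tmul_mul_tmul, mul_one, one_mul]
      | add x y hx hy =>
        obtain ⟨x', rfl⟩ := hx
        obtain ⟨y', rfl⟩ := hy
        exact ⟨x' + y', map_add _ _ _⟩
  exact (Module.FaithfullyFlat.lTensor_bijective_iff_bijective A B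
    (Algebra.linearMap A B)).mp key

variable {X S : Scheme.{u}}

/-- `f` is a monomorphism over `U` when `f ∣_ U` is an isomorphism. -/
theorem eq_of_comp_eq {D : Scheme.{u}} (f : X ⟶ S) (U : S.Opens) [IsIso (f ∣_ U)]
    (a b : D ⟶ X) (ha : ∀ d, f.base (a.base d) ∈ U) (hab : a ≫ f = b ≫ f) : a = b := by
  have hb : ∀ d, f.base (b.base d) ∈ U := by
    intro d
    have h1 : (a ≫ f).base d = (b ≫ f).base d := by rw [hab]
    rw [Scheme.Hom.comp_apply, Scheme.Hom.comp_apply] at h1
    rw [← h1]; exact ha d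
  have hra : Set.range a.base ⊆ Set.range (f ⁻¹ᵁ U).ι.base := by
    rintro _ ⟨d, rfl⟩
    rw [Scheme.Opens.range_ι]
    exact ha d
  have hrb : Set.range b.base ⊆ Set.range (f ⁻¹ᵁ U).ι.base := by
    rintro _ ⟨d, rfl⟩
    rw [Scheme.Opens.range_ι]
    exact hb d
  have ha' : IsOpenImmersion.lift (f ⁻¹ᵁ U).ι a hra ≫ (f ⁻¹ᵁ U).ι = a :=
    IsOpenImmersion.lift_fac _ _ _
  have hb' : IsOpenImmersion.lift (f ⁻¹ᵁ U).ι b hrb ≫ (f ⁻¹ᵁ U).ι = b :=
    IsOpenImmersion.lift_fac _ _ _
  have h2 : IsOpenImmersion.lift (f ⁻¹ᵁ U).ι a hra ≫ (f ∣_ U) =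
      IsOpenImmersion.lift (f ⁻¹ᵁ U).ι b hrb ≫ (f ∣_ U) := by
    rw [← cancel_mono U.ι, Category.assoc, Category.assoc, morphismRestrict_ι,
      ← Category.assoc, ← Category.assoc, ha', hb', hab]
  have h3 := (cancel_mono (f ∣_ U)).mp h2
  rw [← ha', ← hb', h3]

/-- A local section through an affine open gives an open immersion. -/
theorem isOpenImmersion_of_section (f : X ⟶ S) (U : S.Opens) [IsIso (f ∣_ U)]
    (hdense : CInt.IsSchematicallyDense (f ⁻¹ᵁ U)) (V : S.Opens) (σ : V.toScheme ⟶ X)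
    (hσ : σ ≫ f = V.ι) (W' : X.Opens) (hW' : IsAffineOpen W')
    (hσW : ∀ v, σ.base v ∈ W') :
    IsOpenImmersion ((W' ⊓ f ⁻¹ᵁ V).ι ≫ f) := by
  set W : X.Opens := W' ⊓ f ⁻¹ᵁ V with hW
  have hWV : W ≤ f ⁻¹ᵁ V := inf_le_right
  have hfσ : ∀ v : V.toScheme, f.base (σ.base v) = v.1 := by
    intro v
    have h1 : (σ ≫ f).base v = V.ι.base v := by rw [hσ]
    rw [Scheme.Hom.comp_apply] at h1
    exact h1
  have hrσ : Set.range σ.base ⊆ Set.range W.ι.base := by
    rintro _ ⟨v, rfl⟩
    rw [Scheme.Opens.range_ι]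
    refine ⟨hσW v, ?_⟩
    show f.base (σ.base v) ∈ V
    rw [hfσ]; exact v.2
  let g : W.toScheme ⟶ V.toScheme := f.resLE V W hWV
  let h : V.toScheme ⟶ W.toScheme := IsOpenImmersion.lift W.ι σ hrσ
  have hg : g ≫ V.ι = W.ι ≫ f := Scheme.Hom.resLE_comp_ι f hWV
  have hh : h ≫ W.ι = σ := IsOpenImmersion.lift_fac _ _ _
  have hhg : h ≫ g = 𝟙 _ := by
    rw [← cancel_mono V.ι, Category.assoc, hg, ← Category.assoc, hh, hσ, Category.id_comp]
  haveI : IsAffine W'.toScheme := hW'
  have hgh : g ≫ h = 𝟙 _ := by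
    rw [← cancel_mono (X.homOfLE (inf_le_left : W ≤ W'))]
    apply SecOpenImmH8.eq_of_isSchematicallyDense (f ⁻¹ᵁ U) hdense W
    rw [← cancel_mono W'.ι]
    simp only [Category.assoc, Scheme.homOfLE_ι, Category.id_comp]
    rw [hh]
    symm
    apply eq_of_comp_eq f U
    · intro d
      have h1 : X.homOfLE (inf_le_left : W ⊓ f ⁻¹ᵁ U ≤ W) ≫ W.ι = (W ⊓ f ⁻¹ᵁ U).ι :=
        Scheme.homOfLE_ι _ _
      rw [h1]
      exact d.2.2
    · simp only [Category.assoc]
      rw [hσ, hg]
  haveI : IsIso g := ⟨h, hgh, hhg⟩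
  rw [← hg]
  infer_instance

/-- Flatness of the stalk map forces it to be an isomorphism. -/
theorem isIso_stalkMap_of_flat [IsLocallyNoetherian X] (f : X ⟶ S) (U : S.Opens)
    [IsIso (f ∣_ U)] (hdense : CInt.IsSchematicallyDense (f ⁻¹ᵁ U)) (x : X)
    (hfl : (f.stalkMap x).hom.Flat) : IsIso (f.stalkMap x) := by
  have hsq : Spec.map (f.stalkMap x) ≫ S.fromSpecStalk (f.base x) = X.fromSpecStalk x ≫ f :=
    Scheme.SpecMap_stalkMap_fromSpecStalk f
  haveI hflg : Flat (Spec.map (f.stalkMap x)) := Flat.SpecMap_iff.mpr hfl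
  haveI := flat_fromSpecStalk X x
  haveI : Flat (pullback.fst (Spec.map (f.stalkMap x)) (Spec.map (f.stalkMap x)) ≫
      X.fromSpecStalk x) := inferInstance
  set g := Spec.map (f.stalkMap x) with hgdef
  set pr₁ := pullback.fst g g with hpr₁
  set pr₂ := pullback.snd g g with hpr₂
  let W : (pullback g g).Opens := (pr₁ ≫ X.fromSpecStalk x) ⁻¹ᵁ (f ⁻¹ᵁ U)
  have hWd : CInt.IsSchematicallyDense W :=
    Groth.Agent.SchDenseFlat.main (pr₁ ≫ X.fromSpecStalk x) (f ⁻¹ᵁ U) hdense
  haveI := SchDenseKerH7.dominant_of_dense W hWd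
  have e0 : W.ι ≫ pr₁ ≫ X.fromSpecStalk x = W.ι ≫ pr₂ ≫ X.fromSpecStalk x := by
    apply eq_of_comp_eq f U
    · intro w
      have hw : (pr₁ ≫ X.fromSpecStalk x).base w.1 ∈ f ⁻¹ᵁ U := w.2
      rw [← Category.assoc, Scheme.Hom.comp_apply]
      exact hw
    · simp only [Category.assoc]
      rw [← hsq]
      rw [← Category.assoc pr₁, ← Category.assoc pr₂, pullback.condition]
  have e1 : W.ι ≫ pr₁ = W.ι ≫ pr₂ := by
    rw [← cancel_mono (X.fromSpecStalk x)]
    simpa only [Category.assoc] using e0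
  have hfac : W.ι = (W.ι ≫ pr₁) ≫ pullback.diagonal g := by
    apply pullback.hom_ext
    · simp only [Category.assoc, pullback.diagonal_fst, Category.comp_id, hpr₁]
    · simp only [Category.assoc, pullback.diagonal_snd, Category.comp_id]
      exact e1.symm
  have hker : (pullback.diagonal g).ker = ⊥ := by
    have h1 := Scheme.Hom.le_ker_comp (W.ι ≫ pr₁) (pullback.diagonal g)
    rw [← hfac, Scheme.Hom.ker_eq_bot W.ι] at h1
    exact le_bot_iff.mp h1
  haveI : IsIso (pullback.diagonal g) := IsClosedImmersion.isIso_iff_ker_eq_bot.mpr hker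
  haveI hmono : Mono g := (pullback.isIso_diagonal_iff g).mp inferInstance
  haveI hepi : Epi (f.stalkMap x) := by
    refine ⟨fun {C} α β hαβ => ?_⟩
    apply Spec.map_injective
    rw [← cancel_mono g, hgdef, ← Spec.map_comp, ← Spec.map_comp, hαβ]
  algebraize [(f.stalkMap x).hom]
  haveI : Module.FaithfullyFlat (S.presheaf.stalk (f.base x)) (X.presheaf.stalk x) :=
    @Module.FaithfullyFlat.of_flat_of_isLocalHom _ _ _ _ _ _ _ hfl (f.toLRSHom.prop x)
  haveI : Algebra.IsEpi (S.presheaf.stalk (f.base x)) (X.presheaf.stalk x) :=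
    CommRingCat.epi_iff_epi.mp hepi
  have hbij := bijective_of_faithfullyFlat_of_isEpi (S.presheaf.stalk (f.base x))
    (X.presheaf.stalk x)
  exact (ConcreteCategory.isIso_iff_bijective (f.stalkMap x)).mpr hbij

end Groth.Agent.Lib.SecEtale
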