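import Mathlib
import Groth.Prelude
import Groth.Agent.Lib.BiratMor3_helper7
import Groth.Agent.Lib.SecEtale_lead

/-! # Flat closed subschemes of proper schemes over a DVR: isomorphism near normal codim-1 points (lead) -/

set_option autoImplicit false
set_option backward.isDefEq.respectTransparency false
set_option linter.unusedSimpArgs false
set_option linter.unusedVariables false
set_option linter.unusedSectionVars false
set_option linter.style.longLine false
set_option linter.style.haveILetI false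
set_option linter.unnecessarySimpa false
set_option maxHeartbeats 1600000

universe u

open CategoryTheory CategoryTheory.Limits AlgebraicGeometry TopologicalSpace

namespace Groth.Agent.Lib.DVRIso

section Copied
/-! The lemmas of this section are copied from `DecentBirat5_helper7` / `ProperBirat2_helper7`
(to avoid their heavy imports). -/

variable {C : Type*} [Category C] [HasPullbacks C]

theorem isIso_pullback_snd_of_isPullback {U W V₁ Y₀ Z₀ Z₁ : C} {i : U ⟶ W} {q : U ⟶ V₁}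
    {r : W ⟶ Y₀} {e : V₁ ⟶ Y₀} (sqA : IsPullback i q r e) (j₀ : Z₀ ⟶ Y₀) (j₁ : Z₁ ⟶ V₁)
    (m : Z₁ ⟶ Z₀) (hm : j₁ ≫ e = m ≫ j₀) [IsIso (pullback.snd r j₀)] :
    IsIso (pullback.snd q j₁) := by
  have sq1 := IsPullback.of_hasPullback q j₁
  have sqR := IsPullback.of_hasPullback r j₀
  have big : IsPullback (pullback.snd q j₁) (pullback.fst q j₁ ≫ i) (m ≫ j₀) r := by
    rw [← hm]
    exact sq1.flip.paste_vert sqA.flip
  have left := IsPullback.of_bot' big sqR.flip
  exact left.isIso_fst_of_isIso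

theorem isIso_stalkMap_of_isIso_pullback_snd {U V : Scheme.{u}} (g : U ⟶ V) (u : U)
    [IsIso (pullback.snd g (V.fromSpecStalk (g u)))] : IsIso (g.stalkMap u) := by
  obtain ⟨ρ, hρdef⟩ : ∃ ρ : Spec (V.presheaf.stalk (g u)) ⟶ U,
      ρ = inv (pullback.snd g (V.fromSpecStalk (g u))) ≫ pullback.fst g (V.fromSpecStalk (g u)) :=
    ⟨_, rfl⟩
  have hρg : ρ ≫ g = V.fromSpecStalk (g u) := by
    rw [hρdef, Category.assoc, pullback.condition, IsIso.inv_hom_id_assoc]
  have hcond : U.fromSpecStalk u ≫ g = Spec.map (g.stalkMap u) ≫ V.fromSpecStalk (g u) :=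
    (Scheme.SpecMap_stalkMap_fromSpecStalk g).symm
  have hfac : U.fromSpecStalk u = Spec.map (g.stalkMap u) ≫ ρ := by
    have h1 := pullback.lift_fst (U.fromSpecStalk u) (Spec.map (g.stalkMap u)) hcond
    have h2 := pullback.lift_snd (U.fromSpecStalk u) (Spec.map (g.stalkMap u)) hcond
    rw [hρdef, ← h2, Category.assoc, IsIso.hom_inv_id_assoc, h1]
  obtain ⟨cu, hcu⟩ : ∃ cu : ↥(Spec (U.presheaf.stalk u)),
      cu = IsLocalRing.closedPoint (U.presheaf.stalk u) := ⟨_, rfl⟩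
  obtain ⟨cv, hcv⟩ : ∃ cv : ↥(Spec (V.presheaf.stalk (g u))),
      cv = IsLocalRing.closedPoint (V.presheaf.stalk (g u)) := ⟨_, rfl⟩
  have hcl : Spec.map (g.stalkMap u) cu = cv := by
    rw [hcu, hcv]
    exact IsLocalRing.comap_closedPoint (g.stalkMap u).hom
  have hρcl : ρ cv = u := by
    have h := congr($(hfac) cu)
    rw [Scheme.Hom.comp_apply, hcl] at h
    rw [← h, hcu]
    exact Scheme.fromSpecStalk_closedPoint
  have hsp : ∀ σ : ↥(Spec (V.presheaf.stalk (g u))), ρ σ ⤳ u := by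
    intro σ
    have h : σ ⤳ cv := by
      rw [hcv]; exact IsLocalRing.specializes_closedPoint σ
    have h2 := h.map ρ.continuous
    rw [hρcl] at h2
    exact h2
  obtain ⟨ρ', hρ'⟩ := Groth.Agent.Lib.BiratMorH7.exists_lift_fromSpecStalk ρ u hsp
  have h1 : Spec.map (g.stalkMap u) ≫ ρ' = 𝟙 _ := by
    rw [← cancel_mono (U.fromSpecStalk u), Category.assoc, hρ', ← hfac, Category.id_comp]
  have h2 : ρ' ≫ Spec.map (g.stalkMap u) = 𝟙 _ := by
    rw [← cancel_mono (V.fromSpecStalk (g u)), Category.assoc,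
      Scheme.SpecMap_stalkMap_fromSpecStalk, ← Category.assoc, hρ', hρg, Category.id_comp]
  refine ⟨⟨Spec.preimage ρ', ?_, ?_⟩⟩
  · apply Spec.map_injective
    rw [Spec.map_comp, Spec.map_preimage, Spec.map_id, h2]
  · apply Spec.map_injective
    rw [Spec.map_comp, Spec.map_preimage, Spec.map_id, h1]

theorem eq_of_isIso_pullback_snd {U V₁ : Scheme.{u}} (q : U ⟶ V₁) (v₁ : V₁)
    [IsIso (pullback.snd q (V₁.fromSpecStalk v₁))] (u u' : U) (hu : q u = v₁)
    (hu' : q u' = v₁) : u = u' := by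
  obtain ⟨cv, hcv⟩ : ∃ cv : ↥(Spec (V₁.presheaf.stalk v₁)),
      cv = IsLocalRing.closedPoint (V₁.presheaf.stalk v₁) := ⟨_, rfl⟩
  have hc : V₁.fromSpecStalk v₁ cv = v₁ := by
    rw [hcv]; exact Scheme.fromSpecStalk_closedPoint
  obtain ⟨z, hz1, hz2⟩ := Scheme.Pullback.exists_preimage_pullback (f := q)
    (g := V₁.fromSpecStalk v₁) u cv (by rw [hu, hc])
  obtain ⟨z', hz'1, hz'2⟩ := Scheme.Pullback.exists_preimage_pullback (f := q)
    (g := V₁.fromSpecStalk v₁) u' cv (by rw [hu', hc])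
  have hinj : Function.Injective (pullback.snd q (V₁.fromSpecStalk v₁)) :=
    (ConcreteCategory.bijective_of_isIso
      (pullback.snd q (V₁.fromSpecStalk v₁)).base).1
  have : z = z' := hinj (by rw [hz2, hz'2])
  rw [← hz1, ← hz'1, this]

theorem valuationRing_of_ringKrullDim_le_one (R : Type*) [CommRing R] [IsNoetherianRing R]
    [IsLocalRing R] [IsDomain R] [IsIntegrallyClosed R] (h : ringKrullDim R ≤ 1) :
    ValuationRing R := by
  have h31 := (tfae_of_isNoetherianRing_of_isLocalRing_of_isDomain R).out 3 1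
  apply h31.mp
  refine ⟨inferInstance, ?_⟩
  intro P hP hP'
  haveI : Ring.KrullDimLE 1 R := Ring.krullDimLE_iff.mpr h
  exact IsLocalRing.eq_maximalIdeal (Ring.krullDimLE_one_iff_of_noZeroDivisors.mp this P hP hP')

end Copied

/-- A closed, locally finite type morphism which is a local isomorphism at the unique point of a
fibre is an isomorphism over a neighbourhood of the image point. -/
theorem exists_isIso_restrict {Z C : Scheme.{u}} (h : Z ⟶ C) [LocallyOfFiniteType h]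
    (hcl : IsClosedMap h) (z : Z) [IsIso (h.stalkMap z)] [C.IsGermInjectiveAt (h z)]
    (hfib : ∀ z', h z' = h z → z' = z) : ∃ V : C.Opens, h z ∈ V ∧ IsIso (h ∣_ V) := by
  obtain ⟨U, hyU, hU⟩ := Groth.Agent.Lib.BiratMor2H7.exists_local_iso h z
    (Groth.Agent.Lib.BiratMor2H7.hasLocalSection_of_germInj h z)
  haveI := hU
  have hcl' : IsClosed (h '' ((U : Set Z)ᶜ)) := hcl _ U.2.isClosed_compl
  obtain ⟨W, hW⟩ : ∃ W : C.Opens, (W : Set C) = (h '' ((U : Set Z)ᶜ))ᶜ :=
    ⟨⟨(h '' ((U : Set Z)ᶜ))ᶜ, hcl'.isOpen_compl⟩, rfl⟩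
  refine ⟨W ⊓ (U.ι ≫ h).opensRange, ⟨?_, ?_⟩, ?_⟩
  · change h z ∈ (W : Set C)
    rw [hW]
    rintro ⟨z', hz'U, hz'⟩
    exact hz'U (by rw [hfib z' hz']; exact hyU)
  · exact ⟨⟨z, hyU⟩, rfl⟩
  · apply Groth.Agent.Lib.BiratMor3H7.isIso_morphismRestrict_of_le h U
    · intro y' hy'
      by_contra hcon
      have h1 : h y' ∈ (W : Set C) := hy'.1
      rw [hW] at h1
      exact h1 ⟨y', hcon, rfl⟩
    · exact inf_le_right

/-- The preimage of a nonempty basic open of `Spec R` (`R` a noetherian domain) under a flat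
morphism is scheme-theoretically dense. -/
theorem dominant_preimage_basicOpen {R : Type u} [CommRing R] [IsDomain R] [IsNoetherianRing R]
    {Y : Scheme.{u}} (q : Y ⟶ Spec (CommRingCat.of R)) [Flat q] (ϖ : R) (hϖ : ϖ ≠ 0) :
    IsSchemeTheoreticallyDominant
      (q ⁻¹ᵁ (PrimeSpectrum.basicOpen ϖ : (Spec (CommRingCat.of R)).Opens)).ι := by
  set U : (Spec (CommRingCat.of R)).Opens := PrimeSpectrum.basicOpen ϖ with hU
  haveI : IsDominant U.ι := by
    constructor
    rw [DenseRange, Scheme.Opens.range_ι]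
    refine U.2.dense ⟨(⟨⊥, Ideal.bot_prime⟩ : PrimeSpectrum R), ?_⟩
    show ϖ ∉ (⊥ : Ideal R)
    simpa using hϖ
  haveI : IsSchemeTheoreticallyDominant U.ι := IsSchemeTheoreticallyDominant.of_isDominant U.ι
  haveI : QuasiCompact U.ι := inferInstance
  haveI : IsSchemeTheoreticallyDominant (pullback.fst q U.ι) := inferInstance
  rw [← pullbackRestrictIsoRestrict_inv_fst q U]
  infer_instance

/-- Base change of "iso over an open". -/
theorem isIso_snd_restrict {Z C T : Scheme.{u}} (h : Z ⟶ C) (j : T ⟶ C) (V₀ : C.Opens)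
    (hgen : IsIso (h ∣_ V₀)) : IsIso ((pullback.snd h j) ∣_ (j ⁻¹ᵁ V₀)) := by
  haveI h1 : IsIso (pullback.snd h V₀.ι) := by
    have e : h ∣_ V₀ = (pullbackRestrictIsoRestrict h V₀).inv ≫ pullback.snd _ _ := rfl
    rw [e] at hgen
    exact IsIso.of_isIso_comp_left (pullbackRestrictIsoRestrict h V₀).inv _
  haveI h2 : IsIso (pullback.snd (pullback.snd h j) (j ⁻¹ᵁ V₀).ι) :=
    isIso_pullback_snd_of_isPullback (IsPullback.of_hasPullback h j) V₀.ι (j ⁻¹ᵁ V₀).ι
      (j ∣_ V₀) (morphismRestrict_ι j V₀).symm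
  have e : (pullback.snd h j) ∣_ (j ⁻¹ᵁ V₀) =
      (pullbackRestrictIsoRestrict (pullback.snd h j) (j ⁻¹ᵁ V₀)).inv ≫ pullback.snd _ _ := rfl
  rw [e]
  infer_instance

theorem isIso_snd_fromSpecStalk (R : Type u) [CommRing R] [IsDomain R] [IsDiscreteValuationRing R]
    {C Z : Scheme.{u}} (πC : C ⟶ Spec (CommRingCat.of R)) [Flat πC] [LocallyOfFiniteType πC]
    (h : Z ⟶ C) [IsProper h] [Flat (h ≫ πC)] (ϖ : R) (hϖ : ϖ ≠ 0)
    (hgen : IsIso (h ∣_ (πC ⁻¹ᵁ (PrimeSpectrum.basicOpen ϖ))))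
    (c : C) [IsDomain (C.presheaf.stalk c)] [IsIntegrallyClosed (C.presheaf.stalk c)]
    (hdim : ringKrullDim (C.presheaf.stalk c) ≤ 1) :
    IsIso (pullback.snd h (C.fromSpecStalk c)) := by
  haveI : IsLocallyNoetherian C := LocallyOfFiniteType.isLocallyNoetherian πC
  haveI : ValuationRing (C.presheaf.stalk c) :=
    valuationRing_of_ringKrullDim_le_one (C.presheaf.stalk c) hdim
  haveI : Flat (C.fromSpecStalk c) := Groth.Agent.Lib.SecEtale.flat_fromSpecStalk C c
  set j := C.fromSpecStalk c with hj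
  set D : (Spec (CommRingCat.of R)).Opens := PrimeSpectrum.basicOpen ϖ with hD
  set V₀ : C.Opens := πC ⁻¹ᵁ D with hV₀
  set T₀ : (Spec (C.presheaf.stalk c)).Opens := j ⁻¹ᵁ V₀ with hT₀
  set p₁ := pullback.fst h j with hp₁
  set p₂ := pullback.snd h j with hp₂
  haveI : IsProper p₂ := by rw [hp₂]; infer_instance
  -- the ring map
  obtain ⟨ψ, hψ⟩ : ∃ ψ : CommRingCat.of R ⟶ C.presheaf.stalk c, Spec.map ψ = j ≫ πC :=
    ⟨Spec.preimage (j ≫ πC), Spec.map_preimage _⟩
  have hflatψ : ψ.hom.Flat := by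
    rw [← Flat.SpecMap_iff, hψ]; infer_instance
  have hψϖ : ψ.hom ϖ ≠ 0 := by
    letI := ψ.hom.toAlgebra
    haveI : Module.Flat R (C.presheaf.stalk c) := hflatψ
    have hreg : IsSMulRegular (C.presheaf.stalk c) ϖ :=
      Module.Flat.isSMulRegular_of_nonZeroDivisors (mem_nonZeroDivisors_of_ne_zero hϖ)
    intro h0
    have h1 : ϖ • (1 : C.presheaf.stalk c) = ϖ • (0 : C.presheaf.stalk c) := by
      rw [smul_zero, Algebra.smul_def, mul_one]; exact h0
    exact one_ne_zero (hreg h1)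
  -- the generic point lies in T₀
  set a : Spec (CommRingCat.of (FractionRing (C.presheaf.stalk c))) ⟶ Spec (C.presheaf.stalk c) :=
    Spec.map (CommRingCat.ofHom (algebraMap (C.presheaf.stalk c)
      (FractionRing (C.presheaf.stalk c)))) with ha
  have hξ : ∀ x, a x ∈ T₀ := by
    intro x
    show πC (j (a x)) ∈ D
    rw [← Scheme.Hom.comp_apply, ← hψ, ← Scheme.Hom.comp_apply, ha, ← Spec.map_comp]
    haveI := x.isPrime
    show ϖ ∉ Ideal.comap (ψ ≫ CommRingCat.ofHom (algebraMap (C.presheaf.stalk c)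
      (FractionRing (C.presheaf.stalk c)))).hom x.asIdeal
    rw [Ideal.eq_bot_of_prime x.asIdeal]
    intro hmem
    have h0 : algebraMap (C.presheaf.stalk c) (FractionRing (C.presheaf.stalk c)) (ψ.hom ϖ) = 0 :=
      Ideal.mem_bot.mp (Ideal.mem_comap.mp hmem)
    exact hψϖ (IsFractionRing.injective (C.presheaf.stalk c)
      (FractionRing (C.presheaf.stalk c)) (h0.trans (map_zero _).symm))
  -- iso over T₀
  set W' : (pullback h j).Opens := p₂ ⁻¹ᵁ T₀ with hW'
  haveI hρ : IsIso (p₂ ∣_ T₀) := isIso_snd_restrict h j V₀ hgen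
  -- the lift of the generic point
  have hrange_a : Set.range a ⊆ Set.range T₀.ι := by
    rw [Scheme.Opens.range_ι]
    rintro _ ⟨x, rfl⟩
    exact hξ x
  set a₀ := IsOpenImmersion.lift T₀.ι a hrange_a with ha₀
  have ha₀fac : a₀ ≫ T₀.ι = a := IsOpenImmersion.lift_fac _ _ _
  set i₁ : Spec (CommRingCat.of (FractionRing (C.presheaf.stalk c))) ⟶ pullback h j :=
    a₀ ≫ inv (p₂ ∣_ T₀) ≫ W'.ι with hi₁
  have hi₁p : i₁ ≫ p₂ = a := by
    rw [hi₁, Category.assoc, Category.assoc, ← morphismRestrict_ι, IsIso.inv_hom_id_assoc, ha₀fac]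
  have hex : ValuativeCriterion.Existence p₂ := by
    have h1 : (ValuativeCriterion.Existence ⊓ @QuasiCompact) p₂ :=
      UniversallyClosed.eq_valuativeCriterion ▸ (inferInstance : UniversallyClosed p₂)
    exact h1.1
  let S : ValuativeCommSq p₂ :=
    { R := C.presheaf.stalk c
      K := FractionRing (C.presheaf.stalk c)
      i₁ := i₁
      i₂ := 𝟙 _
      commSq := ⟨by rw [Category.comp_id]; exact hi₁p⟩ }
  haveI := hex S
  obtain ⟨l, hl⟩ : ∃ l : Spec (C.presheaf.stalk c) ⟶ pullback h j, l ≫ p₂ = 𝟙 _ :=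
    ⟨S.commSq.lift, S.commSq.fac_right⟩
  haveI : IsClosedImmersion (l ≫ p₂) := by rw [hl]; infer_instance
  haveI : IsClosedImmersion l := IsClosedImmersion.of_comp l p₂
  -- restriction of the section over T₀
  have hrange_l : Set.range (T₀.ι ≫ l) ⊆ Set.range W'.ι := by
    rw [Scheme.Opens.range_ι]
    rintro _ ⟨t, rfl⟩
    show p₂ ((T₀.ι ≫ l) t) ∈ T₀
    rw [← Scheme.Hom.comp_apply, Category.assoc, hl, Category.comp_id]
    exact t.2
  set l₀ := IsOpenImmersion.lift W'.ι (T₀.ι ≫ l) hrange_l with hl₀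
  have hl₀fac : l₀ ≫ W'.ι = T₀.ι ≫ l := IsOpenImmersion.lift_fac _ _ _
  have hl₀ρ : l₀ ≫ (p₂ ∣_ T₀) = 𝟙 _ := by
    rw [← cancel_mono T₀.ι, Category.assoc, morphismRestrict_ι, ← Category.assoc, hl₀fac,
      Category.assoc, hl, Category.comp_id, Category.id_comp]
  haveI : IsIso l₀ := by
    have : l₀ = inv (p₂ ∣_ T₀) := IsIso.eq_inv_of_inv_hom_id hl₀ρ
    rw [this]; infer_instance
  -- schematic density of W'
  haveI hflatq : Flat (p₂ ≫ j ≫ πC) := by
    have e : p₂ ≫ j ≫ πC = p₁ ≫ (h ≫ πC) := by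
      rw [← Category.assoc, ← pullback.condition, Category.assoc]
    rw [e]; infer_instance
  haveI hdomW : IsSchemeTheoreticallyDominant W'.ι :=
    dominant_preimage_basicOpen (p₂ ≫ j ≫ πC) ϖ hϖ
  have hker : (T₀.ι ≫ l).ker = ⊥ := by
    rw [← hl₀fac, Scheme.Hom.ker_comp_of_isIso]; exact Scheme.Hom.ker_eq_bot _
  have hk : l.ker = ⊥ := le_bot_iff.mp (hker ▸ Scheme.Hom.le_ker_comp T₀.ι l)
  haveI : IsIso l := IsClosedImmersion.isIso_iff_ker_eq_bot.mpr hk
  haveI : IsIso (l ≫ p₂) := by rw [hl]; infer_instance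
  exact IsIso.of_isIso_comp_left l p₂

theorem main19198 (R : Type u) [CommRing R] [IsDomain R]
    [IsDiscreteValuationRing R] {C X Z : Scheme.{u}} (πC : C ⟶ Spec (CommRingCat.of R)) [Flat πC]
    [LocallyOfFiniteType πC] (f : X ⟶ C) [IsProper f] (i : Z ⟶ X) [IsClosedImmersion i]
    [Flat ((i ≫ f) ≫ πC)] (ϖ : R) (hϖ : Irreducible ϖ)
    (hgen : IsIso ((i ≫ f) ∣_ (πC ⁻¹ᵁ (PrimeSpectrum.basicOpen ϖ))))
    (c : C) (hdom : IsDomain (C.presheaf.stalk c)) (hnorm : IsIntegrallyClosed (C.presheaf.stalk c))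
    (hdim : ringKrullDim (C.presheaf.stalk c) = 1) :
    ∃ V : C.Opens, c ∈ V ∧ IsIso ((i ≫ f) ∣_ V) := by
  haveI : IsLocallyNoetherian C := LocallyOfFiniteType.isLocallyNoetherian πC
  haveI := hdom
  haveI := hnorm
  haveI : IsProper (i ≫ f) := inferInstance
  haveI hiso : IsIso (pullback.snd (i ≫ f) (C.fromSpecStalk c)) :=
    isIso_snd_fromSpecStalk R πC (i ≫ f) ϖ hϖ.ne_zero hgen c hdim.le
  -- a point over c
  obtain ⟨z, hz⟩ : ∃ z : Z, (i ≫ f) z = c := by
    let w := inv (pullback.snd (i ≫ f) (C.fromSpecStalk c))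
      (IsLocalRing.closedPoint (C.presheaf.stalk c))
    refine ⟨pullback.fst (i ≫ f) (C.fromSpecStalk c) w, ?_⟩
    rw [← Scheme.Hom.comp_apply, pullback.condition, Scheme.Hom.comp_apply]
    have : pullback.snd (i ≫ f) (C.fromSpecStalk c) w =
        IsLocalRing.closedPoint (C.presheaf.stalk c) := by
      show (inv (pullback.snd (i ≫ f) (C.fromSpecStalk c)) ≫
        pullback.snd (i ≫ f) (C.fromSpecStalk c)) _ = _
      rw [IsIso.inv_hom_id]; rfl
    rw [this]
    exact Scheme.fromSpecStalk_closedPoint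
  subst hz
  haveI : IsIso ((i ≫ f).stalkMap z) := isIso_stalkMap_of_isIso_pullback_snd (i ≫ f) z
  have hfib : ∀ z', (i ≫ f) z' = (i ≫ f) z → z' = z := fun z' hz' =>
    eq_of_isIso_pullback_snd (i ≫ f) ((i ≫ f) z) z' z hz' rfl
  exact exists_isIso_restrict (i ≫ f) (i ≫ f).isClosedMap z hfib

end Groth.Agent.Lib.DVRIso
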