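import Mathlib
import Groth.Agent.Lib.PSEval_helper1

/-!
# Maps out of power series rings into adically complete rings, and the structure of a ring complete
along a non-zero-divisor with a section of the quotient (helper3)
-/

set_option autoImplicit false
set_option maxSynthPendingDepth 3

namespace Groth.Agent.Lib.PSAdicH3

open MvPowerSeries

/-- existence of the `Λ`-algebra map `Λ[[T]] → R`, `T_i ↦ x_i ∈ I`, when `R` is `I`-adically
complete -/
theorem exists_algHom_X_of_mem {Λ R : Type*} [CommRing Λ] [CommRing R] [Algebra Λ R]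
    (I : Ideal R) [IsAdicComplete I R] {σ : Type*} [Finite σ] (x : σ → R) (hxm : ∀ i, x i ∈ I) :
    ∃ f : MvPowerSeries σ Λ →ₐ[Λ] R, ∀ i, f (X i) = x i := by
  classical
  let a : ∀ k : ℕ, σ → R ⧸ I ^ k := fun k i => Ideal.Quotient.mk _ (x i)
  have ha : ∀ k i, IsNilpotent (a k i) := fun k i =>
    ⟨k, by
      show (Ideal.Quotient.mk (I ^ k) (x i)) ^ k = 0
      rw [← map_pow, Ideal.Quotient.eq_zero_iff_mem]
      exact Ideal.pow_mem_pow (hxm i) k⟩
  let ε : ∀ k : ℕ, MvPowerSeries σ Λ →ₐ[Λ] R ⧸ I ^ k := fun k =>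
    Groth.Agent.Lib.PSEvalH1.evalNil (R := Λ) (a k) (ha k)
  have hεX : ∀ k i, ε k (X i) = a k i := fun k i =>
    Groth.Agent.Lib.PSEvalH1.evalNil_X (a k) (ha k) i
  have hcompat : ∀ {k l : ℕ} (hle : k ≤ l),
      (Ideal.Quotient.factorₐ Λ (Ideal.pow_le_pow_right hle)).comp (ε l) = ε k := by
    intro k l hle
    apply Groth.Agent.Lib.PSEvalH1.algHom_ext_of_nilpotent
    · intro i
      rw [AlgHom.comp_apply, hεX, hεX]
      rfl
    · intro i
      rw [AlgHom.comp_apply, hεX]
      exact ha k i
  refine ⟨IsAdicComplete.liftAlgHom I ε hcompat, fun i => ?_⟩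
  rw [← sub_eq_zero]
  apply IsHausdorff.haus (inferInstance : IsHausdorff I R)
  intro k
  rw [SModEq.zero, smul_eq_mul, Ideal.mul_top, ← Ideal.Quotient.eq,
    IsAdicComplete.mk_liftAlgHom, hεX]

/-- A ring `A`, complete along a non-zero-divisor `x`, with a section of `A → A/x`, is the power
series ring over `A/x` in the variable `x`. -/
theorem exists_powerSeries_algEquiv {k A : Type*} [CommRing k] [CommRing A] [Algebra k A] (x : A)
    (hx : x ∈ nonZeroDivisors A) [IsAdicComplete (Ideal.span {x}) A]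
    (s : A ⧸ Ideal.span {x} →ₐ[k] A)
    (hs : ∀ b, Ideal.Quotient.mk (Ideal.span {x}) (s b) = b) :
    ∃ e : PowerSeries (A ⧸ Ideal.span {x}) ≃ₐ[k] A,
      e PowerSeries.X = x ∧
      ∀ f : PowerSeries (A ⧸ Ideal.span {x}),
        Ideal.Quotient.mk (Ideal.span {x}) (e f) = PowerSeries.constantCoeff f := by
  classical
  letI algBA : Algebra (A ⧸ Ideal.span {x}) A := s.toRingHom.toAlgebra
  have halg : ∀ b : A ⧸ Ideal.span {x}, algebraMap (A ⧸ Ideal.span {x}) A b = s b := fun b => rfl
  haveI : IsScalarTower k (A ⧸ Ideal.span {x}) A := IsScalarTower.of_algebraMap_eq (fun r => by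
    rw [halg, ← s.commutes r])
  obtain ⟨e₀, he₀⟩ := exists_algHom_X_of_mem (Λ := A ⧸ Ideal.span {x}) (Ideal.span {x}) (σ := Unit) (fun _ => x)
    (fun _ => Ideal.mem_span_singleton_self x)
  have heX : e₀ (PowerSeries.X : PowerSeries (A ⧸ Ideal.span {x})) = x := he₀ ()
  have heC : ∀ b : A ⧸ Ideal.span {x}, e₀ (PowerSeries.C b) = s b := by
    intro b
    have h1 : (PowerSeries.C b : PowerSeries (A ⧸ Ideal.span {x})) =
        algebraMap (A ⧸ Ideal.span {x}) (PowerSeries (A ⧸ Ideal.span {x})) b := rfl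
    rw [h1]
    exact (e₀.commutes b).trans (halg b)
  -- reduction modulo x
  have hmk : ∀ f : PowerSeries (A ⧸ Ideal.span {x}),
      Ideal.Quotient.mk (Ideal.span {x}) (e₀ f) = PowerSeries.constantCoeff f := by
    intro f
    conv_lhs => rw [PowerSeries.eq_X_mul_shift_add_const f]
    rw [map_add, map_mul, heX, heC, map_add, map_mul, hs]
    have : Ideal.Quotient.mk (Ideal.span {x}) x = 0 :=
      Ideal.Quotient.eq_zero_iff_mem.2 (Ideal.mem_span_singleton_self x)
    rw [this, zero_mul, zero_add]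
  -- injectivity
  have hcoeff : ∀ (n : ℕ) (f : PowerSeries (A ⧸ Ideal.span {x})), e₀ f = 0 → PowerSeries.coeff n f = 0 := by
    intro n
    induction n with
    | zero =>
      intro f hf
      rw [PowerSeries.coeff_zero_eq_constantCoeff_apply, ← hmk f, hf, map_zero]
    | succ n ih =>
      intro f hf
      have h0 : PowerSeries.constantCoeff f = 0 := by rw [← hmk f, hf, map_zero]
      have h1 := PowerSeries.eq_X_mul_shift_add_const f
      rw [h0, map_zero, add_zero] at h1
      set g : PowerSeries (A ⧸ Ideal.span {x}) := PowerSeries.mk fun p => PowerSeries.coeff (p + 1) f with hg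
      have h2 : x * e₀ g = 0 := by
        have h5 : e₀ (PowerSeries.X * g) = x * e₀ g := by rw [map_mul, heX]
        rw [← h5, ← h1, hf]
      have h3 : e₀ g = 0 := by
        exact hx.1 _ h2
      have h4 := ih g h3
      rw [hg, PowerSeries.coeff_mk] at h4
      exact h4
  have hinj : Function.Injective e₀ := by
    rw [injective_iff_map_eq_zero]
    intro f hf
    ext n
    rw [hcoeff n f hf, map_zero]
  -- surjectivity
  have hmap : (Ideal.span {(PowerSeries.X : PowerSeries (A ⧸ Ideal.span {x}))}).map e₀.toRingHom = Ideal.span {x} := by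
    rw [Ideal.map_span, Set.image_singleton]
    show Ideal.span {e₀ PowerSeries.X} = Ideal.span {x}
    rw [heX]
  haveI : IsHausdorff ((Ideal.span {(PowerSeries.X : PowerSeries (A ⧸ Ideal.span {x}))}).map e₀.toRingHom) A := by
    rw [hmap]
    infer_instance
  have hsurj : Function.Surjective e₀ := by
    refine surjective_of_mk_map_comp_surjective
      (I := Ideal.span {(PowerSeries.X : PowerSeries (A ⧸ Ideal.span {x}))}) e₀.toRingHom ?_
    intro y
    obtain ⟨a, rfl⟩ := Ideal.Quotient.mk_surjective y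
    refine ⟨PowerSeries.C (Ideal.Quotient.mk (Ideal.span {x}) a), ?_⟩
    rw [RingHom.comp_apply, Ideal.Quotient.eq]
    show e₀ (PowerSeries.C (Ideal.Quotient.mk (Ideal.span {x}) a)) - a ∈ _
    rw [hmap, heC, ← Ideal.Quotient.eq, hs]
  refine ⟨AlgEquiv.ofBijective (e₀.restrictScalars k) ⟨hinj, hsurj⟩, heX, hmk⟩

end Groth.Agent.Lib.PSAdicH3
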