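import Mathlib
import Groth.Agent.Lib.PSAdic_helper3

set_option autoImplicit false
universe u v

/-!
# A complete DVR with a coefficient field is a power series ring (helper3)
-/

namespace Groth.Agent.Lib.DVRPowerSeriesH3

open IsLocalRing

/-- Change of coefficients along an algebra isomorphism. -/
noncomputable def mapAlgEquiv {K B C : Type*} [CommRing K] [CommRing B] [CommRing C]
    [Algebra K B] [Algebra K C] (ι : B ≃ₐ[K] C) : PowerSeries B ≃ₐ[K] PowerSeries C :=
  AlgEquiv.ofAlgHom (PowerSeries.mapAlgHom ι.toAlgHom) (PowerSeries.mapAlgHom ι.symm.toAlgHom)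
    (by
      apply AlgHom.ext
      intro f
      apply PowerSeries.ext
      intro n
      simp [PowerSeries.mapAlgHom_apply, PowerSeries.coeff_map])
    (by
      apply AlgHom.ext
      intro f
      apply PowerSeries.ext
      intro n
      simp [PowerSeries.mapAlgHom_apply, PowerSeries.coeff_map])

theorem mapAlgEquiv_X {K B C : Type*} [CommRing K] [CommRing B] [CommRing C]
    [Algebra K B] [Algebra K C] (ι : B ≃ₐ[K] C) :
    mapAlgEquiv ι (PowerSeries.X : PowerSeries B) = PowerSeries.X := by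
  show PowerSeries.mapAlgHom ι.toAlgHom PowerSeries.X = _
  rw [PowerSeries.mapAlgHom_apply]
  exact PowerSeries.map_X _

theorem exists_algEquiv (K : Type u) (A : Type v) [Field K]
    [CommRing A] [IsDomain A] [IsDiscreteValuationRing A]
    [hc : IsAdicComplete (maximalIdeal A) A] [Algebra K A]
    (hsurj : ∀ a : A, ∃ c : K, algebraMap K A c - a ∈ maximalIdeal A)
    (x : A) (hx : maximalIdeal A = Ideal.span {x}) :
    ∃ e : PowerSeries K ≃ₐ[K] A, e PowerSeries.X = x := by
  haveI : IsAdicComplete (Ideal.span {x}) A := hx ▸ hc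
  have hx0 : x ≠ 0 := by
    rintro rfl
    apply IsDiscreteValuationRing.not_a_field A
    rw [hx]
    simp
  have hxnzd : x ∈ nonZeroDivisors A := mem_nonZeroDivisors_of_ne_zero hx0
  have hne : (Ideal.span {x} : Ideal A) ≠ ⊤ := hx ▸ (maximalIdeal.isMaximal A).ne_top
  haveI : Nontrivial (A ⧸ Ideal.span {x}) := Ideal.Quotient.nontrivial_iff.2 hne
  let ι₀ : K →ₐ[K] A ⧸ Ideal.span {x} :=
    (Ideal.Quotient.mkₐ K (Ideal.span {x})).comp (Algebra.ofId K A)
  have hι₀ : ∀ c, ι₀ c = Ideal.Quotient.mk (Ideal.span {x}) (algebraMap K A c) := fun c => rfl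
  have hbij : Function.Bijective ι₀ := by
    refine ⟨ι₀.toRingHom.injective, ?_⟩
    intro b
    obtain ⟨a, rfl⟩ := Ideal.Quotient.mk_surjective b
    obtain ⟨c, hc⟩ := hsurj a
    refine ⟨c, ?_⟩
    rw [hι₀, Ideal.Quotient.eq, ← hx]
    exact hc
  let ι : K ≃ₐ[K] A ⧸ Ideal.span {x} := AlgEquiv.ofBijective ι₀ hbij
  have hι : ∀ c, ι c = Ideal.Quotient.mk (Ideal.span {x}) (algebraMap K A c) := fun c => rfl
  let s : A ⧸ Ideal.span {x} →ₐ[K] A := (Algebra.ofId K A).comp ι.symm.toAlgHom
  have hs : ∀ b, Ideal.Quotient.mk (Ideal.span {x}) (s b) = b := by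
    intro b
    obtain ⟨c, rfl⟩ := ι.surjective b
    have h1 : s (ι c) = algebraMap K A c := by
      show algebraMap K A (ι.symm (ι c)) = _
      rw [AlgEquiv.symm_apply_apply]
    rw [h1, hι]
  obtain ⟨e, heX, _⟩ := Groth.Agent.Lib.PSAdicH3.exists_powerSeries_algEquiv (k := K) x hxnzd s hs
  refine ⟨(mapAlgEquiv ι).trans e, ?_⟩
  rw [AlgEquiv.trans_apply, mapAlgEquiv_X, heX]

theorem sub_sum_mem {K : Type u} {A : Type v} [Field K] [CommRing A] [Algebra K A]
    (φ : PowerSeries K →ₐ[K] A) (f : PowerSeries K) (n : ℕ) :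
    φ f - (Finset.range n).sum (fun i => algebraMap K A (PowerSeries.coeff i f) *
      (φ PowerSeries.X) ^ i) ∈ Ideal.span {(φ PowerSeries.X) ^ n} := by
  have h1 : (PowerSeries.X : PowerSeries K) ^ n ∣
      f - (Finset.range n).sum (fun i => PowerSeries.C (PowerSeries.coeff i f) *
        PowerSeries.X ^ i) := by
    rw [PowerSeries.X_pow_dvd_iff]
    intro m hm
    rw [map_sub, map_sum, sub_eq_zero]
    rw [Finset.sum_eq_single m]
    · rw [PowerSeries.coeff_C_mul, PowerSeries.coeff_X_pow, if_pos rfl, mul_one]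
    · intro i _ him
      rw [PowerSeries.coeff_C_mul, PowerSeries.coeff_X_pow, if_neg (Ne.symm him), mul_zero]
    · intro hm'
      exact absurd (Finset.mem_range.2 hm) hm'
  obtain ⟨g, hg⟩ := h1
  have h2 := congrArg φ hg
  rw [map_sub, map_sum, map_mul, map_pow] at h2
  have h3 : ∀ i, φ (PowerSeries.C (PowerSeries.coeff i f) * PowerSeries.X ^ i) =
      algebraMap K A (PowerSeries.coeff i f) * (φ PowerSeries.X) ^ i := by
    intro i
    rw [map_mul, map_pow]
    congr 1
    have h4 : (PowerSeries.C (PowerSeries.coeff i f) : PowerSeries K) =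
        algebraMap K (PowerSeries K) (PowerSeries.coeff i f) := rfl
    rw [h4, φ.commutes]
  rw [Finset.sum_congr rfl (fun i _ => h3 i)] at h2
  rw [h2]
  exact Ideal.mul_mem_right _ _ (Ideal.mem_span_singleton_self _)

end Groth.Agent.Lib.DVRPowerSeriesH3
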