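import Mathlib

/-! Power series over a DVR: a Gauss-lemma style argument (lead). -/

namespace Groth.Agent.Lib.DVRSeries

open IsDiscreteValuationRing

variable {R : Type*} [CommRing R] [IsDomain R] [IsDiscreteValuationRing R]

/-- a sequence in a DVR has a first term dividing all the others. -/
theorem exists_min_index (s : ℕ → R) :
    ∃ i₀, (∀ k, s i₀ ∣ s k) ∧ (∀ i < i₀, ¬ s i ∣ s i₀) := by
  classical
  have hex : ∃ i, ∀ k, addVal R (s i) ≤ addVal R (s k) := by
    have hne : (Set.range fun i => addVal R (s i)).Nonempty := ⟨_, ⟨0, rfl⟩⟩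
    obtain ⟨i, hi⟩ := wellFounded_lt.min_mem (Set.range fun i => addVal R (s i)) hne
    refine ⟨i, fun k => ?_⟩
    have h : ¬ addVal R (s k) < wellFounded_lt.min (Set.range fun i => addVal R (s i)) hne :=
      wellFounded_lt.not_lt_min (Set.range fun i => addVal R (s i))
        (⟨k, rfl⟩ : addVal R (s k) ∈ Set.range fun i => addVal R (s i))
    rw [← hi] at h
    exact not_lt.mp h
  refine ⟨Nat.find hex, fun k => addVal_le_iff_dvd.mp (Nat.find_spec hex k), fun i hi hdvd => ?_⟩
  apply Nat.find_min hex hi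
  intro k
  exact le_trans (addVal_le_iff_dvd.mpr hdvd) (Nat.find_spec hex k)

theorem unbounded_coeff
    (K : Type*) [Field K] [Algebra R K] [IsFractionRing R K]
    (f : Polynomial R) (h0 : f.coeff 0 ≠ 0)
    (hslope : ∃ i : ℕ, 0 < i ∧ ¬ (f.coeff 0 ∣ f.coeff i))
    (b : PowerSeries K)
    (hb : b * ((f.map (algebraMap R K) : Polynomial K) : PowerSeries K) =
      PowerSeries.C (algebraMap R K (f.coeff 0))) :
    ∀ c : R, c ≠ 0 → ∃ j : ℕ,
      algebraMap R K c * PowerSeries.coeff j b ∉ (algebraMap R K).range := by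
  intro c hc
  by_contra hcon
  push Not at hcon
  have hcon' : ∀ j, ∃ x, algebraMap R K x = algebraMap R K c * PowerSeries.coeff j b :=
    fun j => RingHom.mem_range.mp (hcon j)
  choose β hβ using hcon'
  have hinj : Function.Injective (algebraMap R K) := IsFractionRing.injective R K
  have hcoef : ∀ n : ℕ, n ≠ 0 → ∑ p ∈ Finset.HasAntidiagonal.antidiagonal n, β p.1 * f.coeff p.2 = 0 := by
    intro n hn
    apply hinj
    rw [map_zero, map_sum]
    have h1 := congrArg (PowerSeries.coeff n) hb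
    rw [PowerSeries.coeff_mul, PowerSeries.coeff_C, if_neg hn] at h1
    have h2 : ∑ p ∈ Finset.HasAntidiagonal.antidiagonal n, algebraMap R K (β p.1 * f.coeff p.2) =
        algebraMap R K c * ∑ p ∈ Finset.HasAntidiagonal.antidiagonal n, PowerSeries.coeff p.1 b *
          PowerSeries.coeff p.2 ((f.map (algebraMap R K) : Polynomial K) : PowerSeries K) := by
      rw [Finset.mul_sum]
      refine Finset.sum_congr rfl fun p _ => ?_
      rw [map_mul, hβ, Polynomial.coeff_coe, Polynomial.coeff_map, mul_assoc]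
    rw [h2, h1, mul_zero]
  have hβ0 : β 0 ≠ 0 := by
    have h1 := congrArg (PowerSeries.coeff 0) hb
    rw [PowerSeries.coeff_mul, PowerSeries.coeff_C, if_pos rfl, Finset.Nat.antidiagonal_zero,
      Finset.sum_singleton, Polynomial.coeff_coe, Polynomial.coeff_map] at h1
    dsimp only at h1
    intro h
    have h2 := hβ 0
    rw [h, map_zero] at h2
    have h3 : PowerSeries.coeff 0 b = 0 := by
      rcases mul_eq_zero.mp h2.symm with h4 | h4
      · exact absurd (hinj (h4.trans (map_zero _).symm)) hc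
      · exact h4
    rw [h3, zero_mul] at h1
    exact h0 (hinj (h1.symm.trans (map_zero _).symm))
  obtain ⟨i₀, hi₀dvd, hi₀min⟩ := exists_min_index (fun i => f.coeff i)
  obtain ⟨j₀, hj₀dvd, hj₀min⟩ := exists_min_index β
  have hi₀dvd' : ∀ k, f.coeff i₀ ∣ f.coeff k := hi₀dvd
  have hi₀min' : ∀ i < i₀, ¬ f.coeff i ∣ f.coeff i₀ := hi₀min
  have hi₀pos : 0 < i₀ := by
    rcases Nat.eq_zero_or_pos i₀ with h | h
    · exfalso
      obtain ⟨i, _, hi⟩ := hslope
      apply hi
      have h5 := hi₀dvd' i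
      rw [h] at h5
      exact h5
    · exact h
  have hai₀ : f.coeff i₀ ≠ 0 := by
    intro h
    have h5 := hi₀dvd' 0
    rw [h, zero_dvd_iff] at h5
    exact h0 h5
  have hβj₀ : β j₀ ≠ 0 := by
    intro h
    have h5 := hj₀dvd 0
    rw [h, zero_dvd_iff] at h5
    exact hβ0 h5
  choose s hs using hi₀dvd'
  choose t ht using hj₀dvd
  have hsi₀ : s i₀ = 1 := by
    have h2 : f.coeff i₀ * s i₀ = f.coeff i₀ * 1 := by
      rw [mul_one]
      exact (hs i₀).symm
    exact mul_left_cancel₀ hai₀ h2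
  have htj₀ : t j₀ = 1 := by
    have h2 : β j₀ * t j₀ = β j₀ * 1 := by
      rw [mul_one]
      exact (ht j₀).symm
    exact mul_left_cancel₀ hβj₀ h2
  have hs_mem : ∀ i < i₀, s i ∈ IsLocalRing.maximalIdeal R := by
    intro i hi
    rw [IsLocalRing.mem_maximalIdeal, mem_nonunits_iff]
    intro hu
    apply hi₀min' i hi
    rw [hs i]
    exact (associated_mul_unit_left _ _ hu).dvd
  have ht_mem : ∀ j < j₀, t j ∈ IsLocalRing.maximalIdeal R := by
    intro j hj
    rw [IsLocalRing.mem_maximalIdeal, mem_nonunits_iff]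
    intro hu
    apply hj₀min j hj
    rw [ht j]
    exact (associated_mul_unit_left _ _ hu).dvd
  have hn : j₀ + i₀ ≠ 0 := by omega
  have hsum := hcoef (j₀ + i₀) hn
  have hfac : ∑ p ∈ Finset.HasAntidiagonal.antidiagonal (j₀ + i₀), β p.1 * f.coeff p.2 =
      (β j₀ * f.coeff i₀) * ∑ p ∈ Finset.HasAntidiagonal.antidiagonal (j₀ + i₀), t p.1 * s p.2 := by
    rw [Finset.mul_sum]
    refine Finset.sum_congr rfl fun p _ => ?_
    conv_lhs => rw [ht p.1, hs p.2]
    ring
  rw [hfac] at hsum
  have hsum0 : ∑ p ∈ Finset.HasAntidiagonal.antidiagonal (j₀ + i₀), t p.1 * s p.2 = 0 := by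
    rcases mul_eq_zero.mp hsum with h | h
    · exact absurd h (mul_ne_zero hβj₀ hai₀)
    · exact h
  have hmem : (j₀, i₀) ∈ Finset.HasAntidiagonal.antidiagonal (j₀ + i₀) := Finset.HasAntidiagonal.mem_antidiagonal.mpr rfl
  rw [← Finset.add_sum_erase _ _ hmem] at hsum0
  have hrest : ∑ p ∈ (Finset.HasAntidiagonal.antidiagonal (j₀ + i₀)).erase (j₀, i₀), t p.1 * s p.2 ∈
      IsLocalRing.maximalIdeal R := by
    refine Ideal.sum_mem _ fun p hp => ?_
    rw [Finset.mem_erase, Finset.HasAntidiagonal.mem_antidiagonal] at hp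
    obtain ⟨hne, hp⟩ := hp
    rcases lt_trichotomy p.1 j₀ with h | h | h
    · exact Ideal.mul_mem_right _ _ (ht_mem _ h)
    · exfalso
      exact hne (Prod.ext h (by show p.2 = i₀; omega))
    · have h6 : p.2 < i₀ := by omega
      exact Ideal.mul_mem_left _ _ (hs_mem _ h6)
  dsimp only at hsum0
  rw [htj₀, hsi₀, mul_one] at hsum0
  have h1 : (1 : R) ∈ IsLocalRing.maximalIdeal R := by
    rw [eq_neg_of_add_eq_zero_left hsum0]
    exact neg_mem hrest
  exact (Ideal.ne_top_iff_one _).mp (IsLocalRing.maximalIdeal.isMaximal R).ne_top h1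

end Groth.Agent.Lib.DVRSeries
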