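import Mathlib
import Groth.Agent.Lib.DVRFlag_helper9
import Groth.Agent.Lib.UnipFullFlag_helper9

/-!
# Specialisation of unipotence over a discrete valuation ring (helper9)

Flags with trivial one-dimensional steps (`FlagT`) and their specialisation.
-/

set_option autoImplicit false
universe u v w w'
open TensorProduct

namespace DVRUnip9

open Groth.Agent.Lib.Comod_helper9 Groth.Agent.Lib.ComodFlag_helper9 Groth.Agent.Lib.CoeffSpace_helper9
  Groth.Agent.Lib.CoeffIso_helper9 TrigFlag9 DVRFlag9

section StepTriv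

variable {k : Type u} [CommRing k] {C : Type v} [Ring C] [Bialgebra k C]
variable {V : Type w} [AddCommGroup V] [Module k V]

theorem step_triv (c : HopfRep.Comod k C V) (P : Submodule k V) (q : V)
    (hP : @HopfRep.IsSubcomod k C _ _ _ _ V _ _ c P)
    (ht : c.coact q - q ⊗ₜ[k] (1 : C) ∈ LinearMap.range (P.subtype.rTensor C)) :
    ∀ z ∈ P ⊔ Submodule.span k {q},
      c.coact z - z ⊗ₜ[k] (1 : C) ∈ LinearMap.range (P.subtype.rTensor C) := by
  intro z hz
  obtain ⟨p, hp, y, hy, rfl⟩ := Submodule.mem_sup.mp hz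
  obtain ⟨a, rfl⟩ := Submodule.mem_span_singleton.mp hy
  have e : c.coact (p + a • q) - (p + a • q) ⊗ₜ[k] (1 : C) =
      (c.coact p - p ⊗ₜ[k] (1 : C)) + a • (c.coact q - q ⊗ₜ[k] (1 : C)) := by
    rw [map_add, map_smul, TensorProduct.add_tmul, ← TensorProduct.smul_tmul', smul_sub]
    abel
  rw [e]
  apply Submodule.add_mem
  · apply Submodule.sub_mem
    · exact hP p hp
    · exact ⟨(⟨p, hp⟩ : P) ⊗ₜ[k] (1 : C), by rw [LinearMap.rTensor_tmul]; rfl⟩
  · exact Submodule.smul_mem _ _ ht

end StepTriv

section FlagT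

variable {k : Type u} [Field k] {C : Type v} [CommRing C] [Bialgebra k C]

/-- a submodule reachable from `⊥` by subcomodules, adding one vector at a time, each new vector
being fixed modulo the previous step -/
inductive FlagT {V : Type w} [AddCommGroup V] [Module k V] (c : HopfRep.Comod k C V) :
    Submodule k V → Prop
  | bot : FlagT c ⊥
  | step (P : Submodule k V) (q : V) : FlagT c P →
      @HopfRep.IsSubcomod k C _ _ _ _ V _ _ c (P ⊔ Submodule.span k {q}) →
      c.coact q - q ⊗ₜ[k] (1 : C) ∈ LinearMap.range (P.subtype.rTensor C) →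
      FlagT c (P ⊔ Submodule.span k {q})

variable {V : Type w} [AddCommGroup V] [Module k V]

theorem FlagT.isSubcomod {c : HopfRep.Comod k C V} {Q : Submodule k V} (h : FlagT c Q) :
    @HopfRep.IsSubcomod k C _ _ _ _ V _ _ c Q := by
  cases h with
  | bot => exact isSubcomod_bot
  | step P q hP hs ht => exact hs

theorem FlagT.map {W : Type w'} [AddCommGroup W] [Module k W] {c : HopfRep.Comod k C V}
    {d : HopfRep.Comod k C W} (g : V →ₗ[k] W)
    (hg : @Hoch.IsComodHom k _ C _ _ _ V _ _ c W _ _ d g) {Q : Submodule k V} (h : FlagT c Q) :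
    FlagT d (Q.map g) := by
  induction h with
  | bot => rw [Submodule.map_bot]; exact FlagT.bot
  | step P q hP hs ht ih =>
    have e : (P ⊔ Submodule.span k {q}).map g = P.map g ⊔ Submodule.span k {g q} := by
      rw [Submodule.map_sup, Submodule.map_span, Set.image_singleton]
    rw [e]
    refine FlagT.step _ _ ih ?_ ?_
    · rw [← e]
      exact @isSubcomod_map k _ C _ _ _ _ V _ _ W _ _ c d g hg _ hs
    · obtain ⟨y, hy⟩ := ht
      have h1 : d.coact (g q) = g.rTensor C (c.coact q) := LinearMap.congr_fun hg q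
      have h2 : d.coact (g q) - g q ⊗ₜ[k] (1 : C) = g.rTensor C (c.coact q - q ⊗ₜ[k] (1 : C)) := by
        rw [map_sub, LinearMap.rTensor_tmul, h1]
      rw [h2, ← hy]
      let g' : P →ₗ[k] P.map g := g.submoduleMap P
      have hcomp : (P.map g).subtype ∘ₗ g' = g ∘ₗ P.subtype := by
        ext u; rfl
      refine ⟨g'.rTensor C y, ?_⟩
      rw [← LinearMap.comp_apply, ← LinearMap.rTensor_comp, hcomp, LinearMap.rTensor_comp,
        LinearMap.comp_apply]

/-- a simple subcomodule inside a `FlagT`-flagged subcomodule consists of fixed vectors -/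
theorem FlagT.fixed_of_simple {c : HopfRep.Comod k C V} {Q : Submodule k V} (h : FlagT c Q) :
    ∀ S : Submodule k V, S ≤ Q → @HopfRep.IsSubcomod k C _ _ _ _ V _ _ c S → S ≠ ⊥ →
      (∀ U : Submodule k V, @HopfRep.IsSubcomod k C _ _ _ _ V _ _ c U → U ≤ S → U = ⊥ ∨ U = S) →
      ∀ s ∈ S, c.coact s = s ⊗ₜ[k] (1 : C) := by
  induction h with
  | bot =>
    intro S hS _ hne _
    exact absurd (le_bot_iff.mp hS) hne
  | step P q hP hs ht ih =>
    intro S hS hsub hne hmin
    letI := c
    rcases hmin (S ⊓ P) (isSubcomod_inf S P hsub hP.isSubcomod) inf_le_left with h0 | h1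
    · intro s hsS
      have h1 := step_triv c P q hP.isSubcomod ht s (hS hsS)
      have h2 : c.coact s - s ⊗ₜ[k] (1 : C) ∈ LinearMap.range (S.subtype.rTensor C) := by
        apply Submodule.sub_mem
        · exact hsub s hsS
        · exact ⟨(⟨s, hsS⟩ : S) ⊗ₜ[k] (1 : C), by rw [LinearMap.rTensor_tmul]; rfl⟩
      obtain ⟨y, hy⟩ := h2
      rw [mem_range_subtype_rTensor_iff, ← hy, ← LinearMap.comp_apply, ← LinearMap.rTensor_comp] at h1
      have hinj : Function.Injective (P.mkQ ∘ₗ S.subtype) := by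
        rw [← LinearMap.ker_eq_bot, eq_bot_iff]
        intro u hu
        have hu' : ((u : V)) ∈ P := by
          have : P.mkQ (u : V) = 0 := hu
          rwa [Submodule.mkQ_apply, Submodule.Quotient.mk_eq_zero] at this
        have hu'' : (u : V) ∈ S ⊓ P := ⟨u.2, hu'⟩
        rw [h0, Submodule.mem_bot] at hu''
        exact (Submodule.mem_bot k).mpr (Subtype.ext hu'')
      have hinj' : Function.Injective ((P.mkQ ∘ₗ S.subtype).rTensor C) :=
        Module.Flat.rTensor_preserves_injective_linearMap _ hinj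
      have hy0 : y = 0 := hinj' (by rw [h1, map_zero])
      rw [hy0, map_zero] at hy
      exact (sub_eq_zero.mp hy.symm)
    · exact ih S (inf_eq_left.mp h1) hsub hne hmin

end FlagT

section Top

variable {k : Type u} [Field k] {A : Type v} [CommRing A] [HopfAlgebra k A]

theorem flagT_of_fullTriv {V : Type w} [AddCommGroup V] [Module k V] [c : HopfRep.Comod k A V]
    [Module.Finite k V] (n : ℕ) (F : ℕ → Submodule k V) (hF : UnipFullFlag9.FullTriv k A V n F) :
    FlagT c ⊤ := by
  obtain ⟨h0, hn, hsub, hstep⟩ := hF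
  have key : ∀ i, i ≤ n → FlagT c (F i) := by
    intro i
    induction i with
    | zero => intro _; rw [h0]; exact FlagT.bot
    | succ i ih =>
      intro hi
      have hi' : i < n := hi
      obtain ⟨hle, hrk, hgr⟩ := hstep i hi'
      have hne : F i ≠ F (i + 1) := by
        intro h
        rw [← h] at hrk
        omega
      have hlt : F i < F (i + 1) := lt_of_le_of_ne hle hne
      obtain ⟨q, hq, hqn⟩ := SetLike.exists_of_lt hlt
      have hle2 : F i ⊔ Submodule.span k {q} ≤ F (i + 1) :=
        sup_le hle (by rw [Submodule.span_le, Set.singleton_subset_iff]; exact hq)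
      have heq : F i ⊔ Submodule.span k {q} = F (i + 1) := by
        apply Submodule.eq_of_le_of_finrank_le hle2
        have hlt2 : F i < F i ⊔ Submodule.span k {q} := by
          apply lt_of_le_of_ne le_sup_left
          intro h
          apply hqn
          rw [h]
          exact Submodule.mem_sup_right (Submodule.mem_span_singleton_self q)
        have := Submodule.finrank_lt_finrank_of_lt hlt2
        omega
      rw [← heq]
      refine FlagT.step (F i) q (ih (le_of_lt hi')) ?_ (hgr q hq)
      rw [heq]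
      exact hsub (i + 1)
  rw [← hn]
  exact key n le_rfl

theorem flagT_top (hU : HopfRep.IsUnipotent k A) (V : Type v) [AddCommGroup V] [Module k V]
    (c : HopfRep.Comod k A V) [Module.Finite k V] : FlagT c ⊤ := by
  letI := c
  obtain ⟨F, hF⟩ := UnipFullFlag9.exists_fullTriv k A hU (Module.finrank k V) V inferInstance rfl
  exact flagT_of_fullTriv _ F hF

end Top

section General

variable (R : Type u) [CommRing R] (S : Type u) [CommRing S] [Algebra R S]
variable (A : Type u) [AddCommGroup A] [Module R A] [Coalgebra R A]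

theorem Xi_rTensor_mem (S' : Submodule S (S ⊗[R] A)) (y : S' ⊗[S] (S ⊗[R] A)) :
    Xi R S A ((S'.subtype.rTensor (S ⊗[R] A)) y) ∈
      LinearMap.range (((S'.restrictScalars R).subtype).rTensor A) := by
  induction y using TensorProduct.induction_on with
  | zero =>
    rw [map_zero, map_zero]
    exact Submodule.zero_mem _
  | add y z hy hz =>
    rw [map_add, map_add]
    exact Submodule.add_mem _ hy hz
  | tmul s b =>
    rw [LinearMap.rTensor_tmul]
    induction b using TensorProduct.induction_on with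
    | zero =>
      rw [TensorProduct.tmul_zero, map_zero]
      exact Submodule.zero_mem _
    | add b b' hb hb' =>
      rw [TensorProduct.tmul_add, map_add]
      exact Submodule.add_mem _ hb hb'
    | tmul c a =>
      refine ⟨(⟨c • (s : S ⊗[R] A), S'.smul_mem c s.2⟩ : S'.restrictScalars R) ⊗ₜ[R] a, ?_⟩
      rw [LinearMap.rTensor_tmul]
      show _ = TensorProduct.AlgebraTensorModule.cancelBaseChange R S S (S ⊗[R] A) A
        ((s : S ⊗[R] A) ⊗ₜ[S] (c ⊗ₜ[R] a))
      rw [TensorProduct.AlgebraTensorModule.cancelBaseChange_tmul]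
      rfl

theorem baseChange_key (P : Submodule R A) (y : P ⊗[R] A) :
    TensorProduct.AlgebraTensorModule.tensorTensorTensorComm R S R S S S A A
        (((1 : S) ⊗ₜ[S] (1 : S)) ⊗ₜ[R] (P.subtype.rTensor A y)) ∈
      LinearMap.range ((P.baseChange S).subtype.rTensor (S ⊗[R] A)) := by
  induction y using TensorProduct.induction_on with
  | zero => simp
  | add x y hx hy =>
    rw [map_add, TensorProduct.tmul_add, map_add]
    exact Submodule.add_mem _ hx hy
  | tmul p a =>
    rw [LinearMap.rTensor_tmul, TensorProduct.AlgebraTensorModule.tensorTensorTensorComm_tmul]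
    refine ⟨(⟨(1 : S) ⊗ₜ[R] (p : A), Submodule.tmul_mem_baseChange_of_mem 1 p.2⟩ : P.baseChange S)
      ⊗ₜ[S] ((1 : S) ⊗ₜ[R] a), ?_⟩
    rw [LinearMap.rTensor_tmul]
    rfl

end General

section ClaimC

variable (R : Type u) [CommRing R] (S : Type u) [CommRing S] [Algebra R S]
variable (A : Type u) [CommRing A] [Bialgebra R A]

/-- Claim C: if the coaction is trivial on `E` modulo `P`, it is trivial on the trace of `E` on `W`
modulo the trace of `P`. -/
theorem coact_sub_mem [Module.Flat R A] (W : Submodule R A)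
    (hW : HopfRep.IsSubcomod (k := R) (A := A) W)
    (P E : Submodule S (S ⊗[R] A)) (hE : HopfRep.IsSubcomod (k := S) (A := S ⊗[R] A) E)
    (htriv : ∀ z ∈ E, CoalgebraStruct.comul (R := S) z - z ⊗ₜ[S] (1 : S ⊗[R] A) ∈
      LinearMap.range (P.subtype.rTensor (S ⊗[R] A)))
    (x : A) (hx : x ∈ W ⊓ (E.restrictScalars R).comap (iota0 R S A)) :
    CoalgebraStruct.comul (R := R) x - x ⊗ₜ[R] (1 : A) ∈
      LinearMap.range ((W ⊓ (P.restrictScalars R).comap (iota0 R S A)).subtype.rTensor A) := by
  set WE : Submodule R A := W ⊓ (E.restrictScalars R).comap (iota0 R S A) with hWE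
  set WP : Submodule R A := W ⊓ (P.restrictScalars R).comap (iota0 R S A) with hWP
  have hWEsub : HopfRep.IsSubcomod (k := R) (A := A) WE := isSubcomod_inf_comap R S A W hW E hE
  obtain ⟨y₁, hy₁⟩ := hWEsub x hx
  have hy₁' : WE.subtype.rTensor A y₁ = CoalgebraStruct.comul (R := R) x := hy₁
  set y : WE ⊗[R] A := y₁ - (⟨x, hx⟩ : WE) ⊗ₜ[R] (1 : A) with hy
  have hy' : WE.subtype.rTensor A y = CoalgebraStruct.comul (R := R) x - x ⊗ₜ[R] (1 : A) := by
    rw [hy, map_sub, hy₁', LinearMap.rTensor_tmul]
    rfl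
  let PR : Submodule R (S ⊗[R] A) := P.restrictScalars R
  let g : WE →ₗ[R] (S ⊗[R] A) ⧸ PR := PR.mkQ ∘ₗ iota0 R S A ∘ₗ WE.subtype
  have hgy : g.rTensor A y = 0 := by
    have e1 : g.rTensor A y =
        PR.mkQ.rTensor A ((iota0 R S A).rTensor A (WE.subtype.rTensor A y)) := by
      show (PR.mkQ ∘ₗ iota0 R S A ∘ₗ WE.subtype).rTensor A y = _
      rw [LinearMap.rTensor_comp, LinearMap.rTensor_comp]
      rfl
    rw [e1, hy', ← mem_range_subtype_rTensor_iff]
    have e2 : (iota0 R S A).rTensor A (CoalgebraStruct.comul (R := R) x - x ⊗ₜ[R] (1 : A)) =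
        Xi R S A (CoalgebraStruct.comul (R := S) ((1 : S) ⊗ₜ[R] x) -
          ((1 : S) ⊗ₜ[R] x) ⊗ₜ[S] (1 : S ⊗[R] A)) := by
      rw [map_sub, map_sub, Xi_comul, Hoch.Ind.coactAux_tmul, assoc_symm_one_tmul,
        LinearMap.rTensor_tmul]
      congr 1
      show _ = TensorProduct.AlgebraTensorModule.cancelBaseChange R S S (S ⊗[R] A) A
        (((1 : S) ⊗ₜ[R] x) ⊗ₜ[S] ((1 : S) ⊗ₜ[R] (1 : A)))
      rw [TensorProduct.AlgebraTensorModule.cancelBaseChange_tmul, one_smul]
      rfl
    rw [e2]
    obtain ⟨z, hz⟩ := htriv ((1 : S) ⊗ₜ[R] x) hx.2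
    rw [← hz]
    exact Xi_rTensor_mem R S A P z
  have hyker : y ∈ LinearMap.ker (g.rTensor A) := hgy
  rw [ker_rTensor_eq_range] at hyker
  obtain ⟨y', hy''⟩ := hyker
  let h : LinearMap.ker g →ₗ[R] WP :=
    LinearMap.codRestrict WP (WE.subtype ∘ₗ (LinearMap.ker g).subtype)
      (fun u => ⟨u.1.2.1, (Submodule.Quotient.mk_eq_zero PR).mp u.2⟩)
  have hcomp : WP.subtype ∘ₗ h = WE.subtype ∘ₗ (LinearMap.ker g).subtype := by
    ext u; rfl
  refine ⟨h.rTensor A y', ?_⟩
  rw [← LinearMap.comp_apply, ← LinearMap.rTensor_comp, hcomp, LinearMap.rTensor_comp,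
    LinearMap.comp_apply, hy'', hy']

end ClaimC

section Main

variable (R : Type u) [CommRing R] [IsDomain R] [IsPrincipalIdealRing R]
variable (K : Type u) [Field K] [Algebra R K] [IsFractionRing R K]
variable (κ : Type u) [Field κ] [Algebra R κ]
variable (A : Type u) [CommRing A] [Bialgebra R A] [Module.Flat R A]

/-- specialisation of a flag with trivial steps -/
theorem flagT_special (W : Submodule R A) (hW : HopfRep.IsSubcomod (k := R) (A := A) W) (hWfg : W.FG)
    {E : Submodule K (K ⊗[R] A)} (hE : FlagT (HopfRep.Comod.regular K (K ⊗[R] A)) E) :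
    FlagT (HopfRep.Comod.regular κ (κ ⊗[R] A))
      ((W ⊓ (E.restrictScalars R).comap (iota0 R K A)).baseChange κ) := by
  induction hE with
  | bot =>
    have hinj : Function.Injective (iota0 R K A) := iota0_injective R K A (IsFractionRing.injective R K)
    have h0 : W ⊓ ((⊥ : Submodule K (K ⊗[R] A)).restrictScalars R).comap (iota0 R K A) = ⊥ := by
      rw [eq_bot_iff]
      rintro w ⟨_, hw⟩
      have hw0 : iota0 R K A w = 0 := hw
      exact (Submodule.mem_bot R).mpr (hinj (by rw [hw0, map_zero]))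
    rw [h0, Submodule.baseChange_bot]
    exact FlagT.bot
  | step P e hP hs ht ih =>
    obtain ⟨q, hqmem, hq⟩ := exists_sup_span (iota0 R K A) W hWfg P e
    rw [hq, DVRFlag9.baseChange_sup_span]
    refine FlagT.step _ _ ih ?_ ?_
    · rw [← DVRFlag9.baseChange_sup_span, ← hq]
      exact DVRFlag9.isSubcomod_baseChange κ _ (isSubcomod_inf_comap R K A W hW _ hs)
    · have hC := coact_sub_mem R K A W hW P (P ⊔ Submodule.span K {e}) hs
        (step_triv (HopfRep.Comod.regular K (K ⊗[R] A)) P e hP.isSubcomod ht) q hqmem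
      obtain ⟨y, hy⟩ := hC
      show CoalgebraStruct.comul (R := κ) (A := κ ⊗[R] A) ((1 : κ) ⊗ₜ[R] q) -
        ((1 : κ) ⊗ₜ[R] q) ⊗ₜ[κ] (1 : κ ⊗[R] A) ∈ _
      have e1 : CoalgebraStruct.comul (R := κ) (A := κ ⊗[R] A) ((1 : κ) ⊗ₜ[R] q) -
          ((1 : κ) ⊗ₜ[R] q) ⊗ₜ[κ] (1 : κ ⊗[R] A) =
          TensorProduct.AlgebraTensorModule.tensorTensorTensorComm R κ R κ κ κ A A
            (((1 : κ) ⊗ₜ[κ] (1 : κ)) ⊗ₜ[R]
              (CoalgebraStruct.comul (R := R) q - q ⊗ₜ[R] (1 : A))) := by
        rw [TensorProduct.tmul_sub, map_sub, DVRFlag9.comul_tmul,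
          TensorProduct.AlgebraTensorModule.tensorTensorTensorComm_tmul]
        rfl
      rw [e1, ← hy]
      exact baseChange_key R κ A _ y

end Main

section Special

variable (R : Type u) [CommRing R] [IsDomain R] [IsDiscreteValuationRing R]
variable (K : Type u) [Field K] [Algebra R K] [IsFractionRing R K]
variable (A : Type u) [CommRing A] [HopfAlgebra R A] [Module.Flat R A]

theorem flagT_baseChange_of_unip (κ : Type u) [Field κ] [Algebra R κ]
    (hK : HopfRep.IsUnipotent K (K ⊗[R] A))
    (W : Submodule R A) (hW : HopfRep.IsSubcomod (k := R) (A := A) W) (hWfg : W.FG) :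
    FlagT (HopfRep.Comod.regular κ (κ ⊗[R] A)) (W.baseChange κ) := by
  have hWK : HopfRep.IsSubcomod (k := K) (A := K ⊗[R] A) (W.baseChange K) :=
    DVRFlag9.isSubcomod_baseChange K W hW
  haveI : Module.Finite K (W.baseChange K) := by
    rw [Module.Finite.iff_fg]
    obtain ⟨s, hs⟩ := hWfg
    rw [← hs, Submodule.baseChange_span]
    exact Submodule.fg_span (Set.Finite.image _ s.finite_toSet)
  let cWK : HopfRep.Comod K (K ⊗[R] A) (W.baseChange K) :=
    ComodSub.Comod.restr (HopfRep.Comod.regular K (K ⊗[R] A)) (W.baseChange K) hWK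
  have h1 : FlagT cWK ⊤ := flagT_top hK (W.baseChange K) cWK
  have h2 := h1.map (W.baseChange K).subtype
    (ComodSub.isComodHom_subtype (HopfRep.Comod.regular K (K ⊗[R] A)) (W.baseChange K) hWK)
  rw [Submodule.map_top, Submodule.range_subtype] at h2
  have h3 := flagT_special R K κ A W hW hWfg h2
  have hWeq : W ⊓ ((W.baseChange K).restrictScalars R).comap (iota0 R K A) = W := by
    apply inf_eq_left.mpr
    intro w hw
    exact Submodule.tmul_mem_baseChange_of_mem 1 hw
  rw [hWeq] at h3
  exact h3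

/-- unipotence of the generic fibre implies unipotence of the special fibre -/
theorem unip_special (hK : HopfRep.IsUnipotent K (K ⊗[R] A)) :
    HopfRep.IsUnipotent (IsLocalRing.ResidueField R) (IsLocalRing.ResidueField R ⊗[R] A) := by
  classical
  intro V _ _ cV hfin hnt
  obtain ⟨L, hL, hLne, hLmin⟩ := exists_minimal_subcomod (k := IsLocalRing.ResidueField R)
    (C := IsLocalRing.ResidueField R ⊗[R] A) (V := V)
  have hsimple := isSimpleComod_restr_of_minimal cV L hL hLne hLmin
  letI cL : HopfRep.Comod (IsLocalRing.ResidueField R) (IsLocalRing.ResidueField R ⊗[R] A) L :=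
    ComodSub.Comod.restr cV L hL
  obtain ⟨ψ, hinj⟩ := exists_injective_coeffMap (k := IsLocalRing.ResidueField R)
    (C := IsLocalRing.ResidueField R ⊗[R] A) hsimple
  set j : L →ₗ[IsLocalRing.ResidueField R] IsLocalRing.ResidueField R ⊗[R] A :=
    coeffMap (C := IsLocalRing.ResidueField R ⊗[R] A) ψ with hj
  have hjhom : Hoch.IsComodHom (IsLocalRing.ResidueField R ⊗[R] A) j := isComodHom_coeffMap ψ
  haveI : Module.Finite (IsLocalRing.ResidueField R) L := inferInstance
  obtain ⟨s, hs⟩ := (Module.finite_def.mp (inferInstance : Module.Finite (IsLocalRing.ResidueField R) L))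
  choose lift hlift using exists_one_tmul R A
  obtain ⟨W, hW, hMW, hWfg⟩ := Groth.Agent.Lib.IndHom_helper9.exists_fg_subcomod (k := R) (C := A) A
    (Submodule.span R ((fun v => lift (j v)) '' (s : Set L)))
    (Submodule.fg_span (Set.Finite.image _ s.finite_toSet))
  have hflag := flagT_baseChange_of_unip R K A (IsLocalRing.ResidueField R) hK W hW hWfg
  have hle : LinearMap.range j ≤ W.baseChange (IsLocalRing.ResidueField R) := by
    rw [LinearMap.range_eq_map, ← hs, Submodule.map_span, Submodule.span_le]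
    rintro _ ⟨v, hv, rfl⟩
    rw [SetLike.mem_coe, ← hlift (j v)]
    exact Submodule.tmul_mem_baseChange_of_mem 1 (hMW (Submodule.subset_span ⟨v, hv, rfl⟩))
  haveI := hsimple.1
  have hfix := hflag.fixed_of_simple (LinearMap.range j) hle (isSubcomod_range j hjhom)
    (by
      rw [Ne, LinearMap.range_eq_bot]
      intro h0
      obtain ⟨x, y, hxy⟩ := ‹Nontrivial L›
      apply hxy
      apply hinj
      rw [h0]; rfl)
    (by
      intro U hU hUle
      rcases hsimple.2 (U.comap j) (isSubcomod_comap j hjhom U hU) with h | h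
      · left
        rw [← Submodule.map_comap_eq_of_le hUle, h, Submodule.map_bot]
      · right
        rw [← Submodule.map_comap_eq_of_le hUle, h, Submodule.map_top])
  obtain ⟨s₀, hs₀⟩ := exists_ne (0 : L)
  have h1 : CoalgebraStruct.comul (R := IsLocalRing.ResidueField R)
      (A := IsLocalRing.ResidueField R ⊗[R] A) (j s₀) =
      j s₀ ⊗ₜ[IsLocalRing.ResidueField R] (1 : IsLocalRing.ResidueField R ⊗[R] A) :=
    hfix (j s₀) ⟨s₀, rfl⟩
  have h3 : cL.coact s₀ = s₀ ⊗ₜ[IsLocalRing.ResidueField R] (1 : IsLocalRing.ResidueField R ⊗[R] A) := by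
    have hinj' : Function.Injective (j.rTensor (IsLocalRing.ResidueField R ⊗[R] A)) :=
      Module.Flat.rTensor_preserves_injective_linearMap _ hinj
    apply hinj'
    have h4 := LinearMap.congr_fun hjhom s₀
    simp only [LinearMap.comp_apply] at h4
    rw [← h4, LinearMap.rTensor_tmul]
    exact h1
  have h5 := LinearMap.congr_fun (ComodSub.isComodHom_subtype cV L hL) s₀
  simp only [LinearMap.comp_apply] at h5
  have h6 : cV.coact (s₀ : V) =
      (s₀ : V) ⊗ₜ[IsLocalRing.ResidueField R] (1 : IsLocalRing.ResidueField R ⊗[R] A) := by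
    have : cV.coact (s₀ : V) =
        L.subtype.rTensor (IsLocalRing.ResidueField R ⊗[R] A) (cL.coact s₀) := h5
    rw [this, h3, LinearMap.rTensor_tmul]
    rfl
  intro hbot
  have : (s₀ : V) ∈ HopfRep.fixedPts (IsLocalRing.ResidueField R)
      (IsLocalRing.ResidueField R ⊗[R] A) V := h6
  rw [hbot, Submodule.mem_bot] at this
  exact hs₀ (Subtype.ext this)

end Special

end DVRUnip9
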