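import Mathlib

set_option autoImplicit false
universe u
open scoped TensorProduct DirectSum

namespace Groth.Agent.DVRdim9

open IsLocalRing

variable (R : Type u) [CommRing R] [IsDomain R] [IsDiscreteValuationRing R] (ϖ : R)

/-- The dimension formula. -/
def Good (M : Type*) [AddCommGroup M] [Module R M] : Prop :=
  Module.finrank (ResidueField R) (ResidueField R ⊗[R] M) =
    Module.finrank (ResidueField R) (ResidueField R ⊗[R] ↥(Submodule.torsionBy R M ϖ)) +
      Module.finrank (FractionRing R) (FractionRing R ⊗[R] M)

variable {R}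

/-- torsionBy transported along an equivalence -/
noncomputable def torsEquiv {M N : Type*} [AddCommGroup M] [Module R M] [AddCommGroup N] [Module R N]
    (e : M ≃ₗ[R] N) (a : R) : ↥(Submodule.torsionBy R M a) ≃ₗ[R] ↥(Submodule.torsionBy R N a) :=
  LinearEquiv.ofSubmodules e _ _ (by
    ext y
    constructor
    · rintro ⟨x, hx, rfl⟩
      simp only [SetLike.mem_coe, Submodule.mem_torsionBy_iff] at hx ⊢
      change a • e x = 0
      rw [← map_smul, hx, map_zero]
    · intro hy
      rw [Submodule.mem_torsionBy_iff] at hy
      refine ⟨e.symm y, ?_, by simp⟩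
      simp only [SetLike.mem_coe, Submodule.mem_torsionBy_iff]
      rw [← map_smul, hy, map_zero])

theorem good_of_equiv {M N : Type*} [AddCommGroup M] [Module R M] [AddCommGroup N] [Module R N]
    (e : M ≃ₗ[R] N) (h : Good R ϖ N) : Good R ϖ M := by
  unfold Good at h ⊢
  have h1 : Module.finrank (ResidueField R) (ResidueField R ⊗[R] M) =
      Module.finrank (ResidueField R) (ResidueField R ⊗[R] N) :=
    LinearEquiv.finrank_eq
      (TensorProduct.AlgebraTensorModule.congr (LinearEquiv.refl (ResidueField R) (ResidueField R)) e)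
  have h2 : Module.finrank (ResidueField R) (ResidueField R ⊗[R] ↥(Submodule.torsionBy R M ϖ)) =
      Module.finrank (ResidueField R) (ResidueField R ⊗[R] ↥(Submodule.torsionBy R N ϖ)) :=
    LinearEquiv.finrank_eq
      (TensorProduct.AlgebraTensorModule.congr (LinearEquiv.refl (ResidueField R) (ResidueField R))
        (torsEquiv e ϖ))
  have h3 : Module.finrank (FractionRing R) (FractionRing R ⊗[R] M) =
      Module.finrank (FractionRing R) (FractionRing R ⊗[R] N) :=
    LinearEquiv.finrank_eq
      (TensorProduct.AlgebraTensorModule.congr (LinearEquiv.refl (FractionRing R) (FractionRing R)) e)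
  rw [h1, h2, h3, h]

/-- torsionBy of a product -/
noncomputable def torsProd (A B : Type*) [AddCommGroup A] [Module R A] [AddCommGroup B] [Module R B]
    (a : R) : ↥(Submodule.torsionBy R (A × B) a) ≃ₗ[R]
      ↥(Submodule.torsionBy R A a) × ↥(Submodule.torsionBy R B a) where
  toFun x := (⟨x.1.1, by
      have := x.2
      rw [Submodule.mem_torsionBy_iff] at this ⊢
      exact congrArg Prod.fst this⟩, ⟨x.1.2, by
      have := x.2
      rw [Submodule.mem_torsionBy_iff] at this ⊢
      exact congrArg Prod.snd this⟩)
  map_add' x y := rfl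
  map_smul' c x := rfl
  invFun y := ⟨(y.1.1, y.2.1), by
    have h1 := y.1.2
    have h2 := y.2.2
    rw [Submodule.mem_torsionBy_iff] at h1 h2 ⊢
    exact Prod.ext h1 h2⟩
  left_inv x := rfl
  right_inv y := rfl

/-- torsionBy of a Pi -/
noncomputable def torsPi {ι : Type*} (N : ι → Type*) [∀ i, AddCommGroup (N i)] [∀ i, Module R (N i)]
    (a : R) : ↥(Submodule.torsionBy R (∀ i, N i) a) ≃ₗ[R] ∀ i, ↥(Submodule.torsionBy R (N i) a) where
  toFun x i := ⟨x.1 i, by
      have := x.2
      rw [Submodule.mem_torsionBy_iff] at this ⊢
      exact congrFun this i⟩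
  map_add' x y := rfl
  map_smul' c x := rfl
  invFun y := ⟨fun i => (y i).1, by
    rw [Submodule.mem_torsionBy_iff]
    funext i
    have := (y i).2
    rw [Submodule.mem_torsionBy_iff] at this
    exact this⟩
  left_inv x := rfl
  right_inv y := rfl

theorem good_prod (A B : Type*) [AddCommGroup A] [Module R A] [AddCommGroup B] [Module R B]
    [Module.Finite R A] [Module.Finite R B]
    (hA : Good R ϖ A) (hB : Good R ϖ B) : Good R ϖ (A × B) := by
  unfold Good at hA hB ⊢
  have h1 : Module.finrank (ResidueField R) (ResidueField R ⊗[R] (A × B)) =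
      Module.finrank (ResidueField R) (ResidueField R ⊗[R] A) +
      Module.finrank (ResidueField R) (ResidueField R ⊗[R] B) := by
    rw [LinearEquiv.finrank_eq (TensorProduct.prodRight R (ResidueField R) (ResidueField R) A B),
      Module.finrank_prod]
  have h2 : Module.finrank (ResidueField R)
      (ResidueField R ⊗[R] ↥(Submodule.torsionBy R (A × B) ϖ)) =
      Module.finrank (ResidueField R) (ResidueField R ⊗[R] ↥(Submodule.torsionBy R A ϖ)) +
      Module.finrank (ResidueField R) (ResidueField R ⊗[R] ↥(Submodule.torsionBy R B ϖ)) := by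
    rw [LinearEquiv.finrank_eq
      (TensorProduct.AlgebraTensorModule.congr (LinearEquiv.refl (ResidueField R) (ResidueField R))
        (torsProd A B ϖ)),
      LinearEquiv.finrank_eq (TensorProduct.prodRight R (ResidueField R) (ResidueField R) _ _),
      Module.finrank_prod]
  have h3 : Module.finrank (FractionRing R) (FractionRing R ⊗[R] (A × B)) =
      Module.finrank (FractionRing R) (FractionRing R ⊗[R] A) +
      Module.finrank (FractionRing R) (FractionRing R ⊗[R] B) := by
    rw [LinearEquiv.finrank_eq (TensorProduct.prodRight R (FractionRing R) (FractionRing R) A B),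
      Module.finrank_prod]
  rw [h1, h2, h3, hA, hB]
  ring

theorem good_pi {ι : Type*} [Fintype ι] (N : ι → Type*) [∀ i, AddCommGroup (N i)]
    [∀ i, Module R (N i)] [∀ i, Module.Finite R (N i)]
    (hN : ∀ i, Good R ϖ (N i)) : Good R ϖ (∀ i, N i) := by
  classical
  unfold Good at hN ⊢
  have h1 : Module.finrank (ResidueField R) (ResidueField R ⊗[R] (∀ i, N i)) =
      ∑ i, Module.finrank (ResidueField R) (ResidueField R ⊗[R] N i) := by
    rw [LinearEquiv.finrank_eq (TensorProduct.piRight R (ResidueField R) (ResidueField R) N),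
      Module.finrank_pi_fintype]
  have h2 : Module.finrank (ResidueField R)
      (ResidueField R ⊗[R] ↥(Submodule.torsionBy R (∀ i, N i) ϖ)) =
      ∑ i, Module.finrank (ResidueField R) (ResidueField R ⊗[R] ↥(Submodule.torsionBy R (N i) ϖ)) := by
    rw [LinearEquiv.finrank_eq
      (TensorProduct.AlgebraTensorModule.congr (LinearEquiv.refl (ResidueField R) (ResidueField R))
        (torsPi N ϖ)),
      LinearEquiv.finrank_eq (TensorProduct.piRight R (ResidueField R) (ResidueField R)
        (fun i => ↥(Submodule.torsionBy R (N i) ϖ))),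
      Module.finrank_pi_fintype]
  have h3 : Module.finrank (FractionRing R) (FractionRing R ⊗[R] (∀ i, N i)) =
      ∑ i, Module.finrank (FractionRing R) (FractionRing R ⊗[R] N i) := by
    rw [LinearEquiv.finrank_eq (TensorProduct.piRight R (FractionRing R) (FractionRing R) N),
      Module.finrank_pi_fintype]
  rw [h1, h2, h3, ← Finset.sum_add_distrib]
  exact Finset.sum_congr rfl fun i _ => hN i

end Groth.Agent.DVRdim9
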