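import Mathlib
import Groth.Agent.Lib.DVRdim1_helper9

set_option autoImplicit false
universe u
open scoped TensorProduct DirectSum

namespace Groth.Agent.DVRdim9

open IsLocalRing

variable {R : Type u} [CommRing R] [IsDomain R] [IsDiscreteValuationRing R] (ϖ : R)

/-- A nonzero cyclic module has one-dimensional fibre. -/
theorem finrank_cyclic (C : Type u) [AddCommGroup C] [Module R C] [Nontrivial C] (c : C)
    (hc : Submodule.span R {c} = ⊤) :
    Module.finrank (ResidueField R) (ResidueField R ⊗[R] C) = 1 := by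
  haveI : Module.Finite R C := ⟨⟨{c}, by simpa using hc⟩⟩
  have hnt : Nontrivial (ResidueField R ⊗[R] C) := by
    rw [← not_subsingleton_iff_nontrivial, IsLocalRing.subsingleton_tensorProduct (R := R) (M := C)]
    exact not_subsingleton C
  have hspan : (⊤ : Submodule (ResidueField R) (ResidueField R ⊗[R] C)) =
      Submodule.span (ResidueField R) {(1 : ResidueField R) ⊗ₜ[R] c} := by
    symm
    rw [eq_top_iff]
    rintro z -
    induction z using TensorProduct.induction_on with
    | zero => exact Submodule.zero_mem _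
    | add a b ha hb => exact Submodule.add_mem _ ha hb
    | tmul x m =>
      have hm : m ∈ Submodule.span R {c} := by rw [hc]; trivial
      obtain ⟨r, rfl⟩ := Submodule.mem_span_singleton.1 hm
      have : x ⊗ₜ[R] (r • c) = (r • x) • ((1 : ResidueField R) ⊗ₜ[R] c) := by
        rw [TensorProduct.smul_tmul', smul_eq_mul, mul_one, TensorProduct.smul_tmul]
      rw [this]
      exact Submodule.smul_mem _ _ (Submodule.mem_span_singleton_self _)
  have hne : (1 : ResidueField R) ⊗ₜ[R] c ≠ 0 := by
    intro h0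
    rw [h0, Submodule.span_singleton_eq_bot.2 rfl] at hspan
    exact top_ne_bot hspan
  rw [← finrank_top (ResidueField R) (ResidueField R ⊗[R] C), hspan, finrank_span_singleton hne]

theorem torsionBy_self_subsingleton (hϖ : ϖ ≠ 0) : Subsingleton ↥(Submodule.torsionBy R R ϖ) := by
  refine ⟨fun x y => ?_⟩
  have hx := x.2
  have hy := y.2
  rw [Submodule.mem_torsionBy_iff, smul_eq_mul] at hx hy
  apply Subtype.ext
  rw [(mul_eq_zero.1 hx).resolve_left hϖ, (mul_eq_zero.1 hy).resolve_left hϖ]

theorem good_self (hϖ : ϖ ≠ 0) : Good R ϖ R := by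
  unfold Good
  haveI := torsionBy_self_subsingleton ϖ hϖ
  rw [LinearEquiv.finrank_eq (TensorProduct.AlgebraTensorModule.rid R (ResidueField R) (ResidueField R)),
    LinearEquiv.finrank_eq (TensorProduct.AlgebraTensorModule.rid R (FractionRing R) (FractionRing R)),
    Module.finrank_self, Module.finrank_self, Module.finrank_zero_of_subsingleton]

theorem good_of_subsingleton (M : Type u) [AddCommGroup M] [Module R M] [Subsingleton M] :
    Good R ϖ M := by
  unfold Good
  rw [Module.finrank_zero_of_subsingleton, Module.finrank_zero_of_subsingleton,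
    Module.finrank_zero_of_subsingleton]

theorem fraction_tensor_quot_subsingleton (e : ℕ) (hϖ : ϖ ≠ 0) :
    Subsingleton (FractionRing R ⊗[R] (R ⧸ Submodule.span R {ϖ ^ e})) := by
  have key : ∀ z : FractionRing R ⊗[R] (R ⧸ Submodule.span R {ϖ ^ e}), z = 0 := by
    intro z
    induction z using TensorProduct.induction_on with
    | zero => rfl
    | add a b ha hb => rw [ha, hb, add_zero]
    | tmul x m =>
      have hne : algebraMap R (FractionRing R) (ϖ ^ e) ≠ 0 := by
        rw [Ne, FaithfulSMul.algebraMap_eq_zero_iff]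
        exact pow_ne_zero _ hϖ
      have hx : x = (ϖ ^ e) • (x / algebraMap R (FractionRing R) (ϖ ^ e)) := by
        rw [Algebra.smul_def, mul_div_cancel₀ _ hne]
      rw [hx, TensorProduct.smul_tmul]
      have : (ϖ ^ e) • m = 0 := by
        obtain ⟨a, rfl⟩ := Submodule.Quotient.mk_surjective _ m
        rw [← Submodule.Quotient.mk_smul, Submodule.Quotient.mk_eq_zero, smul_eq_mul, mul_comm]
        exact Submodule.smul_mem _ _ (Submodule.mem_span_singleton_self _)
      rw [this, TensorProduct.tmul_zero]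
  exact ⟨fun a b => by rw [key a, key b]⟩

theorem good_quot_pow (hϖ : Irreducible ϖ) (e : ℕ) (he : 1 ≤ e) :
    Good R ϖ (R ⧸ Submodule.span R {ϖ ^ e}) := by
  have h0 : ϖ ≠ 0 := hϖ.ne_zero
  have hu : ¬ IsUnit ϖ := hϖ.not_isUnit
  have hmem : ∀ a : R, a ∈ Submodule.span R {ϖ ^ e} ↔ ϖ ^ e ∣ a := fun a =>
    Ideal.mem_span_singleton
  have hnt : Nontrivial (R ⧸ Submodule.span R {ϖ ^ e}) := by
    refine ⟨⟨Submodule.Quotient.mk 1, 0, ?_⟩⟩
    rw [Ne, Submodule.Quotient.mk_eq_zero, hmem]
    intro hd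
    exact hu (isUnit_of_dvd_one ((dvd_pow_self ϖ (by omega)).trans hd))
  -- the torsion element
  have htor : Submodule.Quotient.mk (p := Submodule.span R {ϖ ^ e}) (ϖ ^ (e - 1)) ∈
      Submodule.torsionBy R (R ⧸ Submodule.span R {ϖ ^ e}) ϖ := by
    rw [Submodule.mem_torsionBy_iff, ← Submodule.Quotient.mk_smul, Submodule.Quotient.mk_eq_zero,
      hmem, smul_eq_mul, ← pow_succ']
    rw [Nat.sub_add_cancel he]
  set t : ↥(Submodule.torsionBy R (R ⧸ Submodule.span R {ϖ ^ e}) ϖ) := ⟨_, htor⟩ with ht
  have htne : t ≠ 0 := by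
    intro h
    have h' := congrArg Subtype.val h
    simp only [ht, ZeroMemClass.coe_zero] at h'
    rw [Submodule.Quotient.mk_eq_zero, hmem, pow_dvd_pow_iff h0 hu] at h'
    omega
  haveI : Nontrivial ↥(Submodule.torsionBy R (R ⧸ Submodule.span R {ϖ ^ e}) ϖ) := ⟨⟨t, 0, htne⟩⟩
  have htspan : Submodule.span R {t} = ⊤ := by
    rw [eq_top_iff]
    rintro ⟨x, hx⟩ -
    obtain ⟨a, rfl⟩ := Submodule.Quotient.mk_surjective _ x
    have hx' := hx
    rw [Submodule.mem_torsionBy_iff, ← Submodule.Quotient.mk_smul, Submodule.Quotient.mk_eq_zero,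
      hmem, smul_eq_mul] at hx'
    have hd : ϖ ^ (e - 1) ∣ a := by
      have : ϖ * ϖ ^ (e - 1) ∣ ϖ * a := by
        rw [← pow_succ', Nat.sub_add_cancel he]; exact hx'
      exact (mul_dvd_mul_iff_left h0).1 this
    obtain ⟨b, rfl⟩ := hd
    rw [Submodule.mem_span_singleton]
    refine ⟨b, ?_⟩
    apply Subtype.ext
    simp only [ht, SetLike.mk_smul_mk]
    rw [← Submodule.Quotient.mk_smul, smul_eq_mul, mul_comm]
  have hqspan : Submodule.span R {Submodule.Quotient.mk (p := Submodule.span R {ϖ ^ e}) (1 : R)} = ⊤ := by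
    rw [eq_top_iff]
    rintro x -
    obtain ⟨a, rfl⟩ := Submodule.Quotient.mk_surjective _ x
    rw [Submodule.mem_span_singleton]
    exact ⟨a, by rw [← Submodule.Quotient.mk_smul, smul_eq_mul, mul_one]⟩
  unfold Good
  haveI := fraction_tensor_quot_subsingleton ϖ e h0
  rw [finrank_cyclic _ _ hqspan, finrank_cyclic _ t htspan, Module.finrank_zero_of_subsingleton]

theorem good_quot (hϖ : Irreducible ϖ) (p : R) (hp : Irreducible p) (e : ℕ) :
    Good R ϖ (R ⧸ Submodule.span R {p ^ e}) := by
  rcases Nat.eq_zero_or_pos e with rfl | he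
  · haveI : Subsingleton (R ⧸ Submodule.span R {p ^ 0}) := by
      rw [pow_zero]
      have : Submodule.span R {(1 : R)} = ⊤ := Ideal.span_singleton_one
      rw [this]
      exact Submodule.Quotient.subsingleton_iff.2 rfl
    exact good_of_subsingleton ϖ _
  · have hass : Associated (p ^ e) (ϖ ^ e) :=
      (IsDiscreteValuationRing.associated_of_irreducible R hp hϖ).pow_pow
    have heq : Submodule.span R {p ^ e} = Submodule.span R {ϖ ^ e} :=
      Ideal.span_singleton_eq_span_singleton.2 hass
    exact good_of_equiv ϖ (Submodule.quotEquivOfEq _ _ heq) (good_quot_pow ϖ hϖ e he)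

theorem good_all (hϖ : Irreducible ϖ) (M : Type u) [AddCommGroup M] [Module R M] [Module.Finite R M] :
    Good R ϖ M := by
  classical
  obtain ⟨n, ι, _, p, hp, e, ⟨f⟩⟩ := Module.equiv_free_prod_directSum (R := R) (M := M)
  refine good_of_equiv ϖ f ?_
  have h1 : Good R ϖ (Fin n →₀ R) :=
    good_of_equiv ϖ (Finsupp.linearEquivFunOnFinite R R (Fin n))
      (good_pi ϖ (fun _ : Fin n => R) (fun _ => good_self ϖ hϖ.ne_zero))
  have h2 : Good R ϖ (⨁ i : ι, R ⧸ Submodule.span R {p i ^ e i}) :=
    good_of_equiv ϖ (DirectSum.linearEquivFunOnFintype R ι _)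
      (good_pi ϖ (fun i : ι => R ⧸ Submodule.span R {p i ^ e i}) (fun i => good_quot ϖ hϖ (p i) (hp i) (e i)))
  exact good_prod ϖ _ _ h1 h2

end Groth.Agent.DVRdim9
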