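import Groth.Agent.Lib.PDescent_helper3

/-!
# DVRs of characteristic `p` with `[k : k^p] = p` (helper3)

`R` is free over `R^p` with basis `1, π, …, π^{p-1}`; `dπ ≠ 0` in `Ω_{K/𝔽_p}`.
-/

set_option autoImplicit false
set_option maxSynthPendingDepth 3

namespace Groth.Agent.Lib.DVRpH3

universe u

open IsDiscreteValuationRing

section Field

variable (p : ℕ) [hp : Fact p.Prime] {K : Type u} [Field K] [CharP K p]

include hp in
/-- an element which is not a `p`-th power has nonzero differential over the prime subfield -/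
theorem D_ne_zero_of_not_pow (x : K) (hx : ∀ y : K, y ^ p ≠ x) :
    KaehlerDifferential.D (⊥ : Subfield K) K x ≠ 0 := by
  classical
  let k₀ : Subfield K := ⊥
  have hbot : ∀ z : K, z ∈ k₀ → z ∈ (frobenius K p).fieldRange := fun z hz =>
    (bot_le : (⊥ : Subfield K) ≤ (frobenius K p).fieldRange) hz
  let E : IntermediateField k₀ K :=
    Subfield.toIntermediateField (frobenius K p).fieldRange (fun z => hbot _ z.2)
  have hle : Groth.Agent.Lib.PBasisH3.PK p k₀ K ≤ E := by
    rw [IntermediateField.adjoin_le_iff]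
    rintro _ ⟨z, rfl⟩
    exact ⟨z, rfl⟩
  apply Groth.Agent.Lib.PBasisH3.D_ne_zero_of_notMem p
  intro hmem
  obtain ⟨b, hb⟩ := hle hmem
  exact hx b (by simpa [frobenius_def] using hb)

end Field

section DVR

variable {R : Type u} [CommRing R] [IsDomain R] [IsDiscreteValuationRing R]

theorem addVal_term (p : ℕ) {π : R} (hπ : Irreducible π) (i : ℕ) (c : R) :
    addVal R (π ^ i * c ^ p) = (i : ℕ∞) + p • addVal R c := by
  rw [addVal_mul, hπ.addVal_pow, addVal_pow]

theorem addVal_eq_natCast {π : R} (hπ : Irreducible π) {c : R} (hc : c ≠ 0) :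
    ∃ m : ℕ, addVal R c = (m : ℕ∞) := by
  obtain ⟨n, u, hu⟩ := eq_unit_mul_pow_irreducible hc hπ
  exact ⟨n, addVal_def c u hπ n hu⟩

/-- the valuation of `∑ π^i c_i^p` is at most the valuation of each term -/
theorem key (p : ℕ) (hp : 0 < p) {π : R} (hπ : Irreducible π) (c : Fin p → R) (j : Fin p) :
    addVal R (∑ i : Fin p, π ^ (i : ℕ) * c i ^ p) ≤ addVal R (π ^ (j : ℕ) * c j ^ p) := by
  classical
  set T : Fin p → R := fun i => π ^ (i : ℕ) * c i ^ p with hT
  show addVal R (∑ i, T i) ≤ addVal R (T j)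
  obtain ⟨i₀, -, hmin⟩ := Finset.exists_min_image Finset.univ (fun i => addVal R (T i))
    ⟨j, Finset.mem_univ _⟩
  by_cases htop : addVal R (T i₀) = ⊤
  · have hall : ∀ i, T i = 0 := fun i => by
      have := hmin i (Finset.mem_univ _)
      rw [htop, top_le_iff] at this
      exact addVal_eq_top_iff.1 this
    have hs : ∑ i, T i = 0 := Finset.sum_eq_zero fun i _ => hall i
    rw [hs, hall j]
  · have hne0 : ∀ i, addVal R (T i) ≠ ⊤ → c i ≠ 0 := by
      intro i hi h0
      apply hi
      rw [addVal_eq_top_iff]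
      simp only [hT, h0, zero_pow hp.ne', mul_zero]
    have hlt : ∀ i ∈ Finset.univ.erase i₀, addVal R (T i₀) < addVal R (T i) := by
      intro i hi
      have hne : i ≠ i₀ := Finset.ne_of_mem_erase hi
      refine lt_of_le_of_ne (hmin i (Finset.mem_univ _)) ?_
      intro heq
      apply hne
      have htop' : addVal R (T i) ≠ ⊤ := heq ▸ htop
      obtain ⟨m₀, hm₀⟩ := addVal_eq_natCast hπ (hne0 i₀ htop)
      obtain ⟨m, hm⟩ := addVal_eq_natCast hπ (hne0 i htop')
      simp only [hT] at heq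
      rw [addVal_term p hπ, addVal_term p hπ, hm₀, hm] at heq
      simp only [nsmul_eq_mul] at heq
      have heq' : (i₀ : ℕ) + p * m₀ = (i : ℕ) + p * m := by exact_mod_cast heq
      have hmod : (i₀ : ℕ) % p = (i : ℕ) % p := by
        have := congrArg (· % p) heq'
        simpa [Nat.add_mul_mod_self_left] using this
      rw [Nat.mod_eq_of_lt i₀.2, Nat.mod_eq_of_lt i.2] at hmod
      exact (Fin.ext hmod).symm
    have h1 : addVal R (T i₀) < addVal R (∑ i ∈ Finset.univ.erase i₀, T i) :=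
      (addVal R).map_lt_sum htop hlt
    have h2 : addVal R (∑ i, T i) = addVal R (T i₀) := by
      rw [← Finset.add_sum_erase _ _ (Finset.mem_univ i₀)]
      exact (addVal R).map_add_eq_of_lt_left h1
    rw [h2]
    exact hmin j (Finset.mem_univ _)

/-- `∑ π^i c_i^p = 0` forces all `c_i = 0` -/
theorem eq_zero_of_sum_eq_zero (p : ℕ) (hp : 0 < p) {π : R} (hπ : Irreducible π)
    (c : Fin p → R) (h : ∑ i : Fin p, π ^ (i : ℕ) * c i ^ p = 0) (j : Fin p) : c j = 0 := by
  have := key p hp hπ c j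
  rw [h, addVal_zero, top_le_iff, addVal_eq_top_iff] at this
  rcases mul_eq_zero.1 this with h1 | h1
  · exact absurd h1 (pow_ne_zero _ hπ.ne_zero)
  · exact pow_eq_zero_iff hp.ne' |>.1 h1

/-- `d^p r = ∑ π^i c_i^p` forces `d ∣ c_i` -/
theorem dvd_of_sum_eq (p : ℕ) (hp : 0 < p) {π : R} (hπ : Irreducible π)
    (c : Fin p → R) (d r : R) (hd : d ≠ 0) (h : ∑ i : Fin p, π ^ (i : ℕ) * c i ^ p = d ^ p * r)
    (j : Fin p) : d ∣ c j := by
  by_cases hc : c j = 0
  · rw [hc]; exact dvd_zero d
  have hk := key p hp hπ c j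
  rw [h, addVal_term p hπ, addVal_mul, addVal_pow] at hk
  obtain ⟨m, hm⟩ := addVal_eq_natCast hπ hc
  obtain ⟨n, hn⟩ := addVal_eq_natCast hπ hd
  rw [← addVal_le_iff_dvd, hm, hn]
  have h1 : p • (n : ℕ∞) ≤ (j : ℕ∞) + p • (m : ℕ∞) := by
    rw [hm, hn] at hk
    exact le_trans le_self_add hk
  simp only [nsmul_eq_mul] at h1
  have h2 : p * n ≤ (j : ℕ) + p * m := by exact_mod_cast h1
  have h3 : n ≤ m := by
    by_contra hcon
    push Not at hcon
    have : p * (m + 1) ≤ p * n := Nat.mul_le_mul_left p hcon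
    have hj := j.2
    nlinarith
  exact_mod_cast h3

end DVR

end Groth.Agent.Lib.DVRpH3
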