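import Mathlib
import Groth.Agent.Lib.DVec2_helper1

/-! The Künneth formula for subspaces spanned by pure tensors in a tensor product of graded
differential vector spaces, in terms of representatives (helper1).  APPEND-ONLY once landed. -/

set_option autoImplicit false

namespace Groth.Agent.Lib.DVecH1

open scoped TensorProduct

universe u

variable {k : Type u} [Field k] {V : Type u} [AddCommGroup V] [Module k V]
  {W : Type u} [AddCommGroup W] [Module k W]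

section kunneth

variable (G : GD k V) (G' : GD k W) {A : Submodule k V} {B : Submodule k W}

theorem hr_hom (cB : G'.Contr B) : ∀ z ∈ T2 (⊤ : Submodule k V) B,
    tD G G' (TensorProduct.map G.σ cB.h z) + TensorProduct.map G.σ cB.h (tD G G' z) =
      z - TensorProduct.map LinearMap.id cB.p z := by
  refine T2_eqOn
    (tD G G' ∘ₗ TensorProduct.map G.σ cB.h + TensorProduct.map G.σ cB.h ∘ₗ tD G G')
    (LinearMap.id - TensorProduct.map LinearMap.id cB.p) (fun a _ b hb => ?_)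
  show tD G G' (TensorProduct.map G.σ cB.h (a ⊗ₜ[k] b)) +
      TensorProduct.map G.σ cB.h (tD G G' (a ⊗ₜ[k] b)) =
    a ⊗ₜ[k] b - TensorProduct.map LinearMap.id cB.p (a ⊗ₜ[k] b)
  simp only [TensorProduct.map_tmul, tD_tmul, map_add, LinearMap.id_apply]
  rw [G.σ_σ, G.d_σ, TensorProduct.neg_tmul]
  have e := cB.hom b hb
  have e' : a ⊗ₜ[k] G'.d (cB.h b) + a ⊗ₜ[k] cB.h (G'.d b) = a ⊗ₜ[k] b - a ⊗ₜ[k] cB.p b := by
    rw [← TensorProduct.tmul_add, e, TensorProduct.tmul_sub]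
  rw [← e']
  abel

theorem hl_hom (cA : G.Contr A) (hA : G.Stable A) : ∀ z ∈ T2 A (⊤ : Submodule k W),
    tD G G' (TensorProduct.map cA.h LinearMap.id z) +
      TensorProduct.map cA.h LinearMap.id (tD G G' z) =
      z - TensorProduct.map cA.p LinearMap.id z := by
  refine T2_eqOn
    (tD G G' ∘ₗ TensorProduct.map cA.h LinearMap.id +
      TensorProduct.map cA.h LinearMap.id ∘ₗ tD G G')
    (LinearMap.id - TensorProduct.map cA.p LinearMap.id) (fun a ha b _ => ?_)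
  show tD G G' (TensorProduct.map cA.h LinearMap.id (a ⊗ₜ[k] b)) +
      TensorProduct.map cA.h LinearMap.id (tD G G' (a ⊗ₜ[k] b)) =
    a ⊗ₜ[k] b - TensorProduct.map cA.p LinearMap.id (a ⊗ₜ[k] b)
  simp only [TensorProduct.map_tmul, tD_tmul, map_add, LinearMap.id_apply]
  rw [cA.σ_h hA a ha, TensorProduct.neg_tmul]
  have e := cA.hom a ha
  have e' : G.d (cA.h a) ⊗ₜ[k] b + cA.h (G.d a) ⊗ₜ[k] b = a ⊗ₜ[k] b - cA.p a ⊗ₜ[k] b := by
    rw [← TensorProduct.add_tmul, e, TensorProduct.sub_tmul]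
  rw [← e']
  abel

theorem tD_pB (cB : G'.Contr B) : ∀ z ∈ T2 (⊤ : Submodule k V) B,
    tD G G' (TensorProduct.map LinearMap.id cB.p z) =
      TensorProduct.map LinearMap.id cB.p (tD G G' z) := by
  refine T2_eqOn (tD G G' ∘ₗ TensorProduct.map LinearMap.id cB.p)
    (TensorProduct.map LinearMap.id cB.p ∘ₗ tD G G') (fun a _ b hb => ?_)
  show tD G G' (TensorProduct.map LinearMap.id cB.p (a ⊗ₜ[k] b)) =
    TensorProduct.map LinearMap.id cB.p (tD G G' (a ⊗ₜ[k] b))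
  simp only [TensorProduct.map_tmul, tD_tmul, map_add, LinearMap.id_apply]
  rw [cB.d_p b hb, cB.p_d b hb]

theorem PP_tD (cA : G.Contr A) (cB : G'.Contr B) :
    ∀ z ∈ T2 A B, TensorProduct.map cA.p cB.p (tD G G' z) = 0 := by
  refine T2_eqOn (TensorProduct.map cA.p cB.p ∘ₗ tD G G') 0 (fun a ha b hb => ?_)
  show TensorProduct.map cA.p cB.p (tD G G' (a ⊗ₜ[k] b)) = 0
  rw [tD_tmul, map_add, TensorProduct.map_tmul, TensorProduct.map_tmul, cA.p_d a ha,
    cB.p_d b hb, TensorProduct.zero_tmul, TensorProduct.tmul_zero, add_zero]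

variable {G G'}

/-- the Künneth representatives -/
def KH (cA : G.Contr A) (cB : G'.Contr B) (n : ℕ) : Submodule k (V ⊗[k] W) :=
  ⨆ p ∈ Finset.HasAntidiagonal.antidiagonal n, T2 (cA.ℋ p.1) (cB.ℋ p.2)

theorem T2_le_KH (cA : G.Contr A) (cB : G'.Contr B) {n : ℕ} {p : ℕ × ℕ}
    (hp : p ∈ Finset.HasAntidiagonal.antidiagonal n) :
    T2 (cA.ℋ p.1) (cB.ℋ p.2) ≤ KH cA cB n :=
  le_iSup₂_of_le p hp le_rfl

theorem PP_mem_KH (cA : G.Contr A) (cB : G'.Contr B) (hA : G.Stable A) (hB : G'.Stable B)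
    (n : ℕ) : ∀ z ∈ T2 A B, TensorProduct.map cA.p cB.p (tπ G G' n z) ∈ KH cA cB n := by
  refine T2_map_mem (TensorProduct.map cA.p cB.p ∘ₗ tπ G G' n) (KH cA cB n)
    (fun a ha b hb => ?_)
  show TensorProduct.map cA.p cB.p (tπ G G' n (a ⊗ₜ[k] b)) ∈ _
  rw [tπ_tmul, map_sum]
  refine Submodule.sum_mem _ (fun p hp => ?_)
  rw [TensorProduct.map_tmul]
  exact T2_le_KH cA cB hp (tmul_mem_T2 (cA.p_π_mem_ℋ hA ha p.1) (cB.p_π_mem_ℋ hB hb p.2))

theorem PP_of_mem_KH (cA : G.Contr A) (cB : G'.Contr B) (n : ℕ) :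
    ∀ x ∈ KH cA cB n, TensorProduct.map cA.p cB.p x = x := by
  have h1 : KH cA cB n ≤ LinearMap.eqLocus (TensorProduct.map cA.p cB.p) LinearMap.id := by
    refine iSup₂_le (fun p _ => T2_le (fun a ha b hb => ?_))
    rw [LinearMap.mem_eqLocus, TensorProduct.map_tmul, cA.p_of_mem_ℋ ha, cB.p_of_mem_ℋ hb]
    rfl
  exact fun x hx => LinearMap.mem_eqLocus.1 (h1 hx)

theorem KH_le_Zn (cA : G.Contr A) (cB : G'.Contr B) (n : ℕ) :
    KH cA cB n ≤ (tens G G').Zn (T2 A B) n := by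
  refine iSup₂_le (fun p hp => T2_le (fun a ha b hb => ?_))
  obtain ⟨ha1, ha2, ha3⟩ := G.mem_Zn.1 (cA.ℋ_le p.1 ha)
  obtain ⟨hb1, hb2, hb3⟩ := G'.mem_Zn.1 (cB.ℋ_le p.2 hb)
  rw [tens_mem_Zn]
  refine ⟨tmul_mem_T2 ha1 hb1, ?_, ?_⟩
  · rw [tπ_tmul_of_mem G G' ha2 hb2 n, if_pos (Finset.HasAntidiagonal.mem_antidiagonal.1 hp)]
  · rw [tD_tmul, ha3, hb3, TensorProduct.zero_tmul, TensorProduct.tmul_zero, add_zero]

/-- the Künneth formula, in terms of representatives -/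
theorem kunneth (cA : G.Contr A) (cB : G'.Contr B) (hA : G.Stable A) (hB : G'.Stable B) (n : ℕ) :
    (tens G G').Rep (T2 A B) n (KH cA cB n) := by
  refine ⟨KH_le_Zn cA cB n, ?_, ?_⟩
  · intro x hx hb
    obtain ⟨⟨κ, hκ, rfl⟩, -⟩ := (tens_mem_Bn G G').1 hb
    rw [← PP_of_mem_KH cA cB n _ hx]
    exact PP_tD G G' cA cB κ hκ
  · intro z hz
    obtain ⟨hzT, hzn, hdz⟩ := (tens_mem_Zn G G').1 hz
    obtain ⟨z₁, hz₁⟩ : ∃ z₁, z₁ = TensorProduct.map LinearMap.id cB.p z := ⟨_, rfl⟩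
    have hzT1 : z ∈ T2 (⊤ : Submodule k V) B := T2_mono le_top le_rfl hzT
    have hz₁T : z₁ ∈ T2 A B := by
      rw [hz₁]
      exact map_mem_T2 LinearMap.id cB.p (fun a ha => ha) cB.p_mem z hzT
    have hdz₁ : tD G G' z₁ = 0 := by rw [hz₁, tD_pB G G' cB z hzT1, hdz, map_zero]
    have e1 := hr_hom G G' cB z hzT1
    rw [hdz, map_zero, add_zero] at e1
    have e2 := hl_hom G G' cA hA z₁ (T2_mono le_rfl le_top hz₁T)
    rw [hdz₁, map_zero, add_zero] at e2
    have e3 : TensorProduct.map cA.p LinearMap.id z₁ = TensorProduct.map cA.p cB.p z := by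
      rw [hz₁, ← LinearMap.comp_apply, ← TensorProduct.map_comp, LinearMap.comp_id,
        LinearMap.id_comp]
    have hPz : TensorProduct.map cA.p cB.p z ∈ KH cA cB n := by
      have := PP_mem_KH cA cB hA hB n z hzT
      rw [hzn] at this
      exact this
    refine ⟨_, hPz, ?_⟩
    rw [tens_mem_Bn]
    refine ⟨⟨TensorProduct.map G.σ cB.h z + TensorProduct.map cA.h LinearMap.id z₁, ?_, ?_⟩, ?_⟩
    · exact add_mem (map_mem_T2 G.σ cB.h (fun a ha => hA.σ_mem ha) cB.h_mem z hzT)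
        (map_mem_T2 cA.h LinearMap.id cA.h_mem (fun b hb => hb) z₁ hz₁T)
    · rw [map_add, e1, e2, e3, hz₁]
      abel
    · rw [map_sub, hzn, ((tens_mem_Zn G G').1 (KH_le_Zn cA cB n hPz)).2.1]

theorem KH_exact_right {A' : Submodule k V} (cA' : G.Contr A') (cB : G'.Contr B)
    (exB : ∀ i, G'.Zn B (i + 1) ≤ G'.Bn B (i + 1)) (n : ℕ) :
    KH cA' cB n = T2 (cA'.ℋ n) (G'.Zn B 0) := by
  apply le_antisymm
  · refine iSup₂_le (fun p hp => ?_)
    obtain ⟨i, j⟩ := p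
    have hij : i + j = n := Finset.HasAntidiagonal.mem_antidiagonal.1 hp
    cases j with
    | zero =>
      have : i = n := by simpa using hij
      subst this
      show T2 (cA'.ℋ i) (cB.ℋ 0) ≤ _
      exact T2_mono le_rfl cB.ℋ_zero.le
    | succ j =>
      show T2 (cA'.ℋ i) (cB.ℋ (j + 1)) ≤ _
      rw [cB.ℋ_succ_eq_bot (exB j), T2_bot_right]
      exact bot_le
  · have h0 : (n, 0) ∈ Finset.HasAntidiagonal.antidiagonal n :=
      Finset.HasAntidiagonal.mem_antidiagonal.2 (by simp)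
    have := T2_le_KH cA' cB h0
    exact le_trans (T2_mono le_rfl cB.ℋ_zero.ge) this

theorem KH_exact_left {B' : Submodule k W} (cA : G.Contr A) (cB' : G'.Contr B')
    (exA : ∀ i, G.Zn A (i + 1) ≤ G.Bn A (i + 1)) (n : ℕ) :
    KH cA cB' n = T2 (G.Zn A 0) (cB'.ℋ n) := by
  apply le_antisymm
  · refine iSup₂_le (fun p hp => ?_)
    obtain ⟨i, j⟩ := p
    have hij : i + j = n := Finset.HasAntidiagonal.mem_antidiagonal.1 hp
    cases i with
    | zero =>
      have : j = n := by simpa using hij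
      subst this
      show T2 (cA.ℋ 0) (cB'.ℋ j) ≤ _
      exact T2_mono cA.ℋ_zero.le le_rfl
    | succ i =>
      show T2 (cA.ℋ (i + 1)) (cB'.ℋ j) ≤ _
      rw [cA.ℋ_succ_eq_bot (exA i), T2_bot_left]
      exact bot_le
  · have h0 : (0, n) ∈ Finset.HasAntidiagonal.antidiagonal n :=
      Finset.HasAntidiagonal.mem_antidiagonal.2 (by simp)
    have := T2_le_KH cA cB' h0
    exact le_trans (T2_mono cA.ℋ_zero.ge le_rfl) this

variable (G G')

/-- the total complex of two resolutions is exact in positive degrees -/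
theorem tot_exact (hA : G.Stable A) (hB : G'.Stable B)
    (exA : ∀ i, G.Zn A (i + 1) ≤ G.Bn A (i + 1)) (exB : ∀ i, G'.Zn B (i + 1) ≤ G'.Bn B (i + 1))
    (n : ℕ) : (tens G G').Zn (T2 A B) (n + 1) ≤ (tens G G').Bn (T2 A B) (n + 1) := by
  obtain ⟨cA⟩ := G.exists_contr hA
  obtain ⟨cB⟩ := G'.exists_contr hB
  intro z hz
  obtain ⟨h, hh, hb⟩ := (kunneth cA cB hA hB (n + 1)).span z hz
  have h0 : KH cA cB (n + 1) = ⊥ := by
    rw [KH_exact_right cA cB exB, cA.ℋ_succ_eq_bot (exA n), T2_bot_left]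
  rw [h0, Submodule.mem_bot] at hh
  rw [hh, sub_zero] at hb
  exact hb

/-- the `0`-cocycles of the total complex -/
theorem tot_Z0 (hA : G.Stable A) (hB : G'.Stable B) :
    (tens G G').Zn (T2 A B) 0 = T2 (G.Zn A 0) (G'.Zn B 0) := by
  obtain ⟨cA⟩ := G.exists_contr hA
  obtain ⟨cB⟩ := G'.exists_contr hB
  have hK : KH cA cB 0 = T2 (G.Zn A 0) (G'.Zn B 0) := by
    apply le_antisymm
    · refine iSup₂_le (fun p hp => ?_)
      obtain ⟨i, j⟩ := p
      have hij : i + j = 0 := Finset.HasAntidiagonal.mem_antidiagonal.1 hp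
      have hi : i = 0 := by omega
      have hj : j = 0 := by omega
      subst hi hj
      show T2 (cA.ℋ 0) (cB.ℋ 0) ≤ _
      exact T2_mono cA.ℋ_zero.le cB.ℋ_zero.le
    · have h0 : (0, 0) ∈ Finset.HasAntidiagonal.antidiagonal 0 :=
        Finset.HasAntidiagonal.mem_antidiagonal.2 (by simp)
      have h1 := T2_le_KH cA cB (p := ((0 : ℕ), (0 : ℕ))) h0
      exact le_trans (T2_mono cA.ℋ_zero.ge cB.ℋ_zero.ge) h1
  apply le_antisymm
  · intro z hz
    obtain ⟨h, hh, hb⟩ := (kunneth cA cB hA hB 0).span z hz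
    rw [GD.Bn_zero, Submodule.mem_bot, sub_eq_zero] at hb
    rw [hb, ← hK]
    exact hh
  · rw [← hK]
    exact KH_le_Zn cA cB 0

end kunneth

end Groth.Agent.Lib.DVecH1
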