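import Mathlib
import Groth.Agent.Lib.DVec3_helper1

/-! The Mayer–Vietoris count for the sum of two subspaces spanned by pure tensors in a tensor
product of two resolutions (helper1).  APPEND-ONLY once landed. -/

set_option autoImplicit false

namespace Groth.Agent.Lib.DVecH1

open scoped TensorProduct

universe u

variable {k : Type u} [Field k] {V : Type u} [AddCommGroup V] [Module k V]
  {W : Type u} [AddCommGroup W] [Module k W]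

/-- data for the Mayer–Vietoris count -/
structure MVData (G : GD k V) (G' : GD k W) (A' A : Submodule k V) (B' B : Submodule k W) where
  hA' : G.Stable A'
  hA : G.Stable A
  hAA : A' ≤ A
  hB' : G'.Stable B'
  hB : G'.Stable B
  hBB : B' ≤ B
  cA : G.Contr A
  cB : G'.Contr B
  cA' : G.Contr A'
  cB' : G'.Contr B'
  exA : ∀ i, G.Zn A (i + 1) ≤ G.Bn A (i + 1)
  exB : ∀ i, G'.Zn B (i + 1) ≤ G'.Bn B (i + 1)
  zA' : G.Zn A' 0 = ⊥
  zB' : G'.Zn B' 0 = ⊥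

namespace MVData

variable {G : GD k V} {G' : GD k W} {A' A : Submodule k V} {B' B : Submodule k W}
  (D : MVData G G' A' A B' B)

theorem pB_zero (j : ℕ) : ∀ b ∈ D.cB'.ℋ j, D.cB.p b = 0 := by
  intro b hb
  obtain ⟨hb1, hb2, -⟩ := G'.mem_Zn.1 (D.cB'.ℋ_le j hb)
  cases j with
  | zero =>
    have h0 : b ∈ G'.Zn B' 0 := D.cB'.ℋ_le 0 hb
    rw [D.zB', Submodule.mem_bot] at h0
    rw [h0, map_zero]
  | succ j => exact D.cB.p_eq_zero_of_exact (D.exB j) (D.hBB hb1) hb2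

theorem pA_zero (i : ℕ) : ∀ a ∈ D.cA'.ℋ i, D.cA.p a = 0 := by
  intro a ha
  obtain ⟨ha1, ha2, -⟩ := G.mem_Zn.1 (D.cA'.ℋ_le i ha)
  cases i with
  | zero =>
    have h0 : a ∈ G.Zn A' 0 := D.cA'.ℋ_le 0 ha
    rw [D.zA', Submodule.mem_bot] at h0
    rw [h0, map_zero]
  | succ i => exact D.cA.p_eq_zero_of_exact (D.exA i) (D.hAA ha1) ha2

theorem kill_r (n : ℕ) : ∀ y ∈ KH D.cA' D.cB' n,
    TensorProduct.map G.σ D.cB.h y ∈ T2 A' B ∧
      tD G G' (TensorProduct.map G.σ D.cB.h y) = y := by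
  intro y hy
  obtain ⟨hy1, -, hy3⟩ := (tens_mem_Zn G G').1 (KH_le_Zn D.cA' D.cB' n hy)
  have h0 : TensorProduct.map (LinearMap.id : V →ₗ[k] V) D.cB.p y = 0 := by
    have h1 : KH D.cA' D.cB' n ≤
        LinearMap.ker (TensorProduct.map (LinearMap.id : V →ₗ[k] V) D.cB.p) := by
      refine iSup₂_le (fun p _ => T2_le (fun a _ b hb => ?_))
      rw [LinearMap.mem_ker, TensorProduct.map_tmul, D.pB_zero p.2 b hb, TensorProduct.tmul_zero]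
    exact LinearMap.mem_ker.1 (h1 hy)
  refine ⟨map_mem_T2 G.σ D.cB.h (fun a ha => D.hA'.σ_mem ha)
    (fun b hb => D.cB.h_mem b (D.hBB hb)) y hy1, ?_⟩
  have e := hr_hom G G' D.cB y (T2_mono le_top D.hBB hy1)
  rw [hy3, map_zero, add_zero, h0, sub_zero] at e
  exact e

theorem kill_l (n : ℕ) : ∀ y ∈ KH D.cA' D.cB' n,
    TensorProduct.map D.cA.h (LinearMap.id : W →ₗ[k] W) y ∈ T2 A B' ∧
      tD G G' (TensorProduct.map D.cA.h (LinearMap.id : W →ₗ[k] W) y) = y := by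
  intro y hy
  obtain ⟨hy1, -, hy3⟩ := (tens_mem_Zn G G').1 (KH_le_Zn D.cA' D.cB' n hy)
  have h0 : TensorProduct.map D.cA.p (LinearMap.id : W →ₗ[k] W) y = 0 := by
    have h1 : KH D.cA' D.cB' n ≤
        LinearMap.ker (TensorProduct.map D.cA.p (LinearMap.id : W →ₗ[k] W)) := by
      refine iSup₂_le (fun p _ => T2_le (fun a ha b _ => ?_))
      rw [LinearMap.mem_ker, TensorProduct.map_tmul, D.pA_zero p.1 a ha, TensorProduct.zero_tmul]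
    exact LinearMap.mem_ker.1 (h1 hy)
  refine ⟨map_mem_T2 D.cA.h LinearMap.id (fun a ha => D.cA.h_mem a (D.hAA ha))
    (fun b hb => hb) y hy1, ?_⟩
  have e := hl_hom G G' D.cA D.hA y (T2_mono D.hAA le_top hy1)
  rw [hy3, map_zero, add_zero, h0, sub_zero] at e
  exact e

/-- the lifting through the right homotopy, cut to degree `q` -/
noncomputable def er (q : ℕ) : V ⊗[k] W →ₗ[k] V ⊗[k] W :=
  tπ G G' q ∘ₗ TensorProduct.map G.σ D.cB.h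

/-- the lifting through the left homotopy, cut to degree `q` -/
noncomputable def el (q : ℕ) : V ⊗[k] W →ₗ[k] V ⊗[k] W :=
  tπ G G' q ∘ₗ TensorProduct.map D.cA.h LinearMap.id

theorem er_spec (q : ℕ) : ∀ y ∈ KH D.cA' D.cB' (q + 1),
    D.er q y ∈ T2 A' B ∧ tπ G G' q (D.er q y) = D.er q y ∧ tD G G' (D.er q y) = y := by
  intro y hy
  obtain ⟨h1, h2⟩ := D.kill_r (q + 1) y hy
  obtain ⟨-, hy2, -⟩ := (tens_mem_Zn G G').1 (KH_le_Zn D.cA' D.cB' (q + 1) hy)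
  refine ⟨tπ_mem_T2 G G' D.hA' D.hB q h1, tπ_same_apply G G' q _, ?_⟩
  show tD G G' (tπ G G' q (TensorProduct.map G.σ D.cB.h y)) = y
  rw [tD_tπ_apply, h2, hy2]

theorem el_spec (q : ℕ) : ∀ y ∈ KH D.cA' D.cB' (q + 1),
    D.el q y ∈ T2 A B' ∧ tπ G G' q (D.el q y) = D.el q y ∧ tD G G' (D.el q y) = y := by
  intro y hy
  obtain ⟨h1, h2⟩ := D.kill_l (q + 1) y hy
  obtain ⟨-, hy2, -⟩ := (tens_mem_Zn G G').1 (KH_le_Zn D.cA' D.cB' (q + 1) hy)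
  refine ⟨tπ_mem_T2 G G' D.hA D.hB' q h1, tπ_same_apply G G' q _, ?_⟩
  show tD G G' (tπ G G' q (TensorProduct.map D.cA.h LinearMap.id y)) = y
  rw [tD_tπ_apply, h2, hy2]

/-- first summand of the representatives -/
def U₁ (q : ℕ) : Submodule k (V ⊗[k] W) := T2 (D.cA'.ℋ q) (G'.Zn B 0)

/-- second summand of the representatives -/
def U₂ (q : ℕ) : Submodule k (V ⊗[k] W) := T2 (G.Zn A 0) (D.cB'.ℋ q)

theorem rep₁ (q : ℕ) : (tens G G').Rep (T2 A' B) q (D.U₁ q) := by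
  have h := kunneth D.cA' D.cB D.hA' D.hB q
  rw [KH_exact_right D.cA' D.cB D.exB q] at h
  exact h

theorem rep₂ (q : ℕ) : (tens G G').Rep (T2 A B') q (D.U₂ q) := by
  have h := kunneth D.cA D.cB' D.hA D.hB' q
  rw [KH_exact_left D.cA D.cB' D.exA q] at h
  exact h

theorem rep'' (n : ℕ) : (tens G G').Rep (T2 A' B') n (KH D.cA' D.cB' n) :=
  kunneth D.cA' D.cB' D.hA' D.hB' n

/-- the lifting of the connecting map -/
noncomputable def EE (q : ℕ) : V ⊗[k] W →ₗ[k] V ⊗[k] W := D.er q - D.el q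

theorem EE_apply (q : ℕ) (y : V ⊗[k] W) : D.EE q y = D.er q y - D.el q y := rfl

theorem star (q : ℕ) {u₁ u₂ y κ₁ κ₂ : V ⊗[k] W} (hu₁ : u₁ ∈ D.U₁ q) (hu₂ : u₂ ∈ D.U₂ q)
    (hy : y ∈ KH D.cA' D.cB' (q + 1)) (hκ₁ : κ₁ ∈ T2 A' B) (hκ₂ : κ₂ ∈ T2 A B')
    (e : u₁ + u₂ + D.EE q y = tD G G' (κ₁ + κ₂)) : u₁ = 0 ∧ u₂ = 0 ∧ y = 0 := by
  obtain ⟨hr1, -, hr3⟩ := D.er_spec q y hy
  obtain ⟨hl1, -, hl3⟩ := D.el_spec q y hy
  obtain ⟨hu₁T, hu₁π, hu₁d⟩ := (tens_mem_Zn G G').1 ((D.rep₁ q).le hu₁)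
  obtain ⟨hu₂T, hu₂π, hu₂d⟩ := (tens_mem_Zn G G').1 ((D.rep₂ q).le hu₂)
  obtain ⟨-, hyπ, -⟩ := (tens_mem_Zn G G').1 ((D.rep'' (q + 1)).le hy)
  obtain ⟨α, hα⟩ : ∃ α, α = u₁ + D.er q y - tD G G' κ₁ := ⟨_, rfl⟩
  have hα2 : α = - u₂ + D.el q y + tD G G' κ₂ := by
    have e' : u₁ + u₂ + (D.er q y - D.el q y) = tD G G' κ₁ + tD G G' κ₂ := by
      rw [← map_add]
      exact e
    rw [hα, ← sub_eq_zero]
    have h1 : u₁ + D.er q y - tD G G' κ₁ - (-u₂ + D.el q y + tD G G' κ₂) =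
        (u₁ + u₂ + (D.er q y - D.el q y)) - (tD G G' κ₁ + tD G G' κ₂) := by abel
    rw [h1, e', sub_self]
  have hαT : α ∈ T2 A' B' := by
    rw [← T2_inf D.hAA D.hBB]
    refine ⟨?_, ?_⟩
    · rw [hα]
      exact sub_mem (add_mem hu₁T hr1) (tD_mem_T2 G G' D.hA' D.hB hκ₁)
    · rw [hα2]
      exact add_mem (add_mem (neg_mem hu₂T) hl1) (tD_mem_T2 G G' D.hA D.hB' hκ₂)
  have hDα : tD G G' α = y := by
    rw [hα, map_sub, map_add, hu₁d, hr3, zero_add, tD_tD_apply, sub_zero]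
  have hy0 : y = 0 := by
    apply (D.rep'' (q + 1)).disj y hy
    rw [tens_mem_Bn]
    exact ⟨⟨α, hαT, hDα⟩, hyπ⟩
  subst hy0
  rw [map_zero, add_zero] at hα hα2
  have hαq : tπ G G' q α ∈ (tens G G').Zn (T2 A' B') q := by
    rw [tens_mem_Zn]
    refine ⟨tπ_mem_T2 G G' D.hA' D.hB' q hαT, tπ_same_apply G G' q α, ?_⟩
    rw [tD_tπ_apply, hDα, map_zero]
  obtain ⟨y', hy', hb'⟩ := (D.rep'' q).span _ hαq
  rw [tens_mem_Bn] at hb'
  obtain ⟨⟨t, ht, hDt⟩, -⟩ := hb'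
  have hαq' : tπ G G' q α = y' + tD G G' t := by rw [hDt]; abel
  obtain ⟨k1, k2⟩ := D.kill_r q y' hy'
  obtain ⟨l1, l2⟩ := D.kill_l q y' hy'
  refine ⟨?_, ?_, rfl⟩
  · apply (D.rep₁ q).disj u₁ hu₁
    rw [tens_mem_Bn]
    refine ⟨?_, hu₁π⟩
    obtain ⟨κ', hκ', hDκ'⟩ := (stable_T2 G G' D.hA' D.hB).π_mem_map_d ⟨κ₁, hκ₁, rfl⟩ q
    have hDκ'' : tD G G' κ' = tπ G G' q (tD G G' κ₁) := hDκ'
    have e1 : u₁ = tπ G G' q α + tπ G G' q (tD G G' κ₁) := by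
      rw [← map_add, hα, sub_add_cancel, hu₁π]
    refine ⟨TensorProduct.map G.σ D.cB.h y' + t + κ',
      add_mem (add_mem k1 (T2_mono le_rfl D.hBB ht)) hκ', ?_⟩
    rw [map_add, map_add, k2, hDκ'', e1, hαq']
  · apply (D.rep₂ q).disj u₂ hu₂
    rw [tens_mem_Bn]
    refine ⟨?_, hu₂π⟩
    obtain ⟨κ', hκ', hDκ'⟩ := (stable_T2 G G' D.hA D.hB').π_mem_map_d ⟨κ₂, hκ₂, rfl⟩ q
    have hDκ'' : tD G G' κ' = tπ G G' q (tD G G' κ₂) := hDκ'
    have e1 : u₂ = tπ G G' q (tD G G' κ₂) - tπ G G' q α := by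
      rw [← map_sub, hα2]
      have h1 : tD G G' κ₂ - (-u₂ + tD G G' κ₂) = u₂ := by abel
      rw [h1, hu₂π]
    refine ⟨κ' - TensorProduct.map D.cA.h LinearMap.id y' - t,
      sub_mem (sub_mem hκ' l1) (T2_mono D.hAA le_rfl ht), ?_⟩
    rw [map_sub, map_sub, l2, hDκ'', e1, hαq']
    abel

/-- the representatives of the cohomology of the sum -/
noncomputable def HK (q : ℕ) : Submodule k (V ⊗[k] W) :=
  D.U₁ q ⊔ D.U₂ q ⊔ (KH D.cA' D.cB' (q + 1)).map (D.EE q)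

theorem mem_HK {q : ℕ} {x : V ⊗[k] W} : x ∈ D.HK q ↔
    ∃ u₁ ∈ D.U₁ q, ∃ u₂ ∈ D.U₂ q, ∃ y ∈ KH D.cA' D.cB' (q + 1), x = u₁ + u₂ + D.EE q y := by
  unfold HK
  constructor
  · intro hx
    obtain ⟨w, hw, v, hv, rfl⟩ := Submodule.mem_sup.1 hx
    obtain ⟨u₁, hu₁, u₂, hu₂, rfl⟩ := Submodule.mem_sup.1 hw
    obtain ⟨y, hy, rfl⟩ := Submodule.mem_map.1 hv
    exact ⟨u₁, hu₁, u₂, hu₂, y, hy, rfl⟩
  · rintro ⟨u₁, hu₁, u₂, hu₂, y, hy, rfl⟩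
    exact Submodule.add_mem_sup (Submodule.add_mem_sup hu₁ hu₂) (Submodule.mem_map_of_mem hy)

theorem EE_spec (q : ℕ) : ∀ y ∈ KH D.cA' D.cB' (q + 1),
    D.EE q y ∈ (tens G G').Zn (T2 A' B ⊔ T2 A B') q := by
  intro y hy
  obtain ⟨hr1, hr2, hr3⟩ := D.er_spec q y hy
  obtain ⟨hl1, hl2, hl3⟩ := D.el_spec q y hy
  rw [tens_mem_Zn, EE_apply]
  refine ⟨?_, ?_, ?_⟩
  · exact sub_mem (Submodule.mem_sup_left hr1) (Submodule.mem_sup_right hl1)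
  · rw [map_sub, hr2, hl2]
  · rw [map_sub, hr3, hl3, sub_self]

theorem rep_HK (q : ℕ) : (tens G G').Rep (T2 A' B ⊔ T2 A B') q (D.HK q) := by
  refine ⟨?_, ?_, ?_⟩
  · intro x hx
    obtain ⟨u₁, hu₁, u₂, hu₂, y, hy, rfl⟩ := D.mem_HK.1 hx
    exact add_mem (add_mem ((tens G G').Zn_mono le_sup_left q ((D.rep₁ q).le hu₁))
      ((tens G G').Zn_mono le_sup_right q ((D.rep₂ q).le hu₂))) (D.EE_spec q y hy)
  · intro x hx hb
    obtain ⟨u₁, hu₁, u₂, hu₂, y, hy, rfl⟩ := D.mem_HK.1 hx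
    obtain ⟨⟨κ, hκ, hDκ⟩, -⟩ := (tens_mem_Bn G G').1 hb
    obtain ⟨κ₁, hκ₁, κ₂, hκ₂, rfl⟩ := Submodule.mem_sup.1 hκ
    obtain ⟨h1, h2, h3⟩ := D.star q hu₁ hu₂ hy hκ₁ hκ₂ hDκ.symm
    rw [h1, h2, h3, map_zero, add_zero, add_zero]
  · intro z hz
    obtain ⟨hzK, hzπ, hzd⟩ := (tens_mem_Zn G G').1 hz
    obtain ⟨z₁', hz₁', z₂', hz₂', hzz⟩ := Submodule.mem_sup.1 hzK
    obtain ⟨z₁, hz₁def⟩ : ∃ z₁, z₁ = tπ G G' q z₁' := ⟨_, rfl⟩
    obtain ⟨z₂, hz₂def⟩ : ∃ z₂, z₂ = tπ G G' q z₂' := ⟨_, rfl⟩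
    have hz₁ : z₁ ∈ T2 A' B := by rw [hz₁def]; exact tπ_mem_T2 G G' D.hA' D.hB q hz₁'
    have hz₂ : z₂ ∈ T2 A B' := by rw [hz₂def]; exact tπ_mem_T2 G G' D.hA D.hB' q hz₂'
    have hz₁π : tπ G G' q z₁ = z₁ := by rw [hz₁def]; exact tπ_same_apply G G' q _
    have hz₂π : tπ G G' q z₂ = z₂ := by rw [hz₂def]; exact tπ_same_apply G G' q _
    have hsum : z = z₁ + z₂ := by rw [hz₁def, hz₂def, ← map_add, hzz, hzπ]
    obtain ⟨w, hw⟩ : ∃ w, w = tD G G' z₁ := ⟨_, rfl⟩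
    have hw2 : w = - tD G G' z₂ := by
      have h1 : tD G G' z₁ + tD G G' z₂ = 0 := by rw [← map_add, ← hsum, hzd]
      rw [hw]
      exact eq_neg_of_add_eq_zero_left h1
    have hwT : w ∈ T2 A' B' := by
      rw [← T2_inf D.hAA D.hBB]
      refine ⟨?_, ?_⟩
      · rw [hw]; exact tD_mem_T2 G G' D.hA' D.hB hz₁
      · rw [hw2]; exact neg_mem (tD_mem_T2 G G' D.hA D.hB' hz₂)
    have hwπ : tπ G G' (q + 1) w = w := by
      rw [hw, ← hz₁π, tD_tπ_apply, tπ_same_apply]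
    have hwZ : w ∈ (tens G G').Zn (T2 A' B') (q + 1) := by
      rw [tens_mem_Zn]
      refine ⟨hwT, hwπ, ?_⟩
      rw [hw, tD_tD_apply]
    obtain ⟨y, hy, hb⟩ := (D.rep'' (q + 1)).span w hwZ
    obtain ⟨⟨t', ht', hDt'⟩, -⟩ := (tens_mem_Bn G G').1 hb
    obtain ⟨-, hyπ, -⟩ := (tens_mem_Zn G G').1 ((D.rep'' (q + 1)).le hy)
    obtain ⟨t, htdef⟩ : ∃ t, t = tπ G G' q t' := ⟨_, rfl⟩
    have ht : t ∈ T2 A' B' := by rw [htdef]; exact tπ_mem_T2 G G' D.hA' D.hB' q ht'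
    have htπ : tπ G G' q t = t := by rw [htdef]; exact tπ_same_apply G G' q _
    have hDt : tD G G' t = w - y := by rw [htdef, tD_tπ_apply, hDt', map_sub, hwπ, hyπ]
    obtain ⟨hr1, hr2, hr3⟩ := D.er_spec q y hy
    obtain ⟨hl1, hl2, hl3⟩ := D.el_spec q y hy
    have hc₁ : z₁ - t - D.er q y ∈ (tens G G').Zn (T2 A' B) q := by
      rw [tens_mem_Zn]
      refine ⟨sub_mem (sub_mem hz₁ (T2_mono le_rfl D.hBB ht)) hr1, ?_, ?_⟩
      · rw [map_sub, map_sub, hz₁π, htπ, hr2]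
      · rw [map_sub, map_sub, ← hw, hDt, hr3]
        abel
    have hc₂ : z₂ + t + D.el q y ∈ (tens G G').Zn (T2 A B') q := by
      rw [tens_mem_Zn]
      refine ⟨add_mem (add_mem hz₂ (T2_mono D.hAA le_rfl ht)) hl1, ?_, ?_⟩
      · rw [map_add, map_add, hz₂π, htπ, hl2]
      · have h1 : tD G G' z₂ = - w := by rw [hw2, neg_neg]
        rw [map_add, map_add, h1, hDt, hl3]
        abel
    obtain ⟨u₁, hu₁, hb₁⟩ := (D.rep₁ q).span _ hc₁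
    obtain ⟨u₂, hu₂, hb₂⟩ := (D.rep₂ q).span _ hc₂
    refine ⟨u₁ + u₂ + D.EE q y, D.mem_HK.2 ⟨u₁, hu₁, u₂, hu₂, y, hy, rfl⟩, ?_⟩
    have e : z - (u₁ + u₂ + D.EE q y) =
        (z₁ - t - D.er q y - u₁) + (z₂ + t + D.el q y - u₂) := by
      rw [hsum, EE_apply]
      abel
    rw [e]
    exact add_mem ((tens G G').Bn_mono le_sup_left q hb₁)
      ((tens G G').Bn_mono le_sup_right q hb₂)

/-! ### the count -/

/-- external model of the Künneth representatives -/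
abbrev KE (q : ℕ) : Type u :=
  (p : ↥(Finset.HasAntidiagonal.antidiagonal q)) →
    (↥(D.cA'.ℋ p.1.1) ⊗[k] ↥(D.cB'.ℋ p.1.2))

/-- the realization of the external model -/
noncomputable def kinc (q : ℕ) : D.KE q →ₗ[k] V ⊗[k] W :=
  ∑ p : ↥(Finset.HasAntidiagonal.antidiagonal q),
    (TensorProduct.map (D.cA'.ℋ p.1.1).subtype (D.cB'.ℋ p.1.2).subtype) ∘ₗ LinearMap.proj p

theorem kinc_apply (q : ℕ) (c : D.KE q) :
    D.kinc q c = ∑ p : ↥(Finset.HasAntidiagonal.antidiagonal q),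
      TensorProduct.map (D.cA'.ℋ p.1.1).subtype (D.cB'.ℋ p.1.2).subtype (c p) := by
  unfold kinc
  rw [LinearMap.sum_apply]
  rfl

theorem incl_mem (X : Submodule k V) (Y : Submodule k W) (w : ↥X ⊗[k] ↥Y) :
    TensorProduct.map X.subtype Y.subtype w ∈ T2 X Y := by
  rw [T2_eq_range]
  exact ⟨w, rfl⟩

theorem kinc_mem (q : ℕ) (c : D.KE q) : D.kinc q c ∈ KH D.cA' D.cB' q := by
  rw [kinc_apply]
  exact Submodule.sum_mem _ (fun p _ => T2_le_KH D.cA' D.cB' p.2 (incl_mem _ _ _))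

theorem KH_le_range_kinc (q : ℕ) : KH D.cA' D.cB' q ≤ LinearMap.range (D.kinc q) := by
  classical
  refine iSup₂_le (fun p hp => ?_)
  rw [T2_eq_range]
  rintro _ ⟨w, rfl⟩
  refine ⟨Pi.single (⟨p, hp⟩ : ↥(Finset.HasAntidiagonal.antidiagonal q)) w, ?_⟩
  rw [kinc_apply, Finset.sum_eq_single (⟨p, hp⟩ : ↥(Finset.HasAntidiagonal.antidiagonal q))]
  · rw [Pi.single_eq_same]
  · intro p' _ hne
    rw [Pi.single_eq_of_ne hne, map_zero]
  · intro h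
    exact absurd (Finset.mem_univ _) h

theorem range_kinc (q : ℕ) : LinearMap.range (D.kinc q) = KH D.cA' D.cB' q :=
  le_antisymm (by rintro _ ⟨c, rfl⟩; exact D.kinc_mem q c) (D.KH_le_range_kinc q)

theorem kinc_injective (q : ℕ) : Function.Injective (D.kinc q) := by
  classical
  rw [injective_iff_map_eq_zero]
  intro c hc
  funext i
  have h1 : TensorProduct.map (G.π i.1.1) (G'.π i.1.2) (D.kinc q c) =
      TensorProduct.map (D.cA'.ℋ i.1.1).subtype (D.cB'.ℋ i.1.2).subtype (c i) := by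
    rw [kinc_apply, map_sum, Finset.sum_eq_single i]
    · rw [pp_of_mem G G' (D.cA'.ℋ_le_Vn i.1.1) (D.cB'.ℋ_le_Vn i.1.2) i.1.1 i.1.2 _
        (incl_mem _ _ _), if_pos ⟨rfl, rfl⟩]
    · intro p' _ hne
      rw [pp_of_mem G G' (D.cA'.ℋ_le_Vn p'.1.1) (D.cB'.ℋ_le_Vn p'.1.2) i.1.1 i.1.2 _
        (incl_mem _ _ _), if_neg]
      rintro ⟨h1, h2⟩
      exact hne (Subtype.ext (Prod.ext h1.symm h2.symm))
    · intro h
      exact absurd (Finset.mem_univ _) h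
  rw [hc, map_zero] at h1
  have h2 : TensorProduct.map (D.cA'.ℋ i.1.1).subtype (D.cB'.ℋ i.1.2).subtype (c i) =
      TensorProduct.map (D.cA'.ℋ i.1.1).subtype (D.cB'.ℋ i.1.2).subtype 0 := by
    rw [← h1, map_zero]
  exact mapIncl_injective _ _ h2

/-- the parametrization of the representatives -/
noncomputable def Φ (q : ℕ) :
    ((↥(D.cA'.ℋ q) ⊗[k] ↥(G'.Zn B 0)) × (↥(G.Zn A 0) ⊗[k] ↥(D.cB'.ℋ q))) × D.KE (q + 1) →ₗ[k]
      V ⊗[k] W :=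
  ((TensorProduct.map (D.cA'.ℋ q).subtype (G'.Zn B 0).subtype).coprod
    (TensorProduct.map (G.Zn A 0).subtype (D.cB'.ℋ q).subtype)).coprod
      (D.EE q ∘ₗ D.kinc (q + 1))

theorem range_Φ (q : ℕ) : LinearMap.range (D.Φ q) = D.HK q := by
  unfold Φ HK U₁ U₂
  rw [LinearMap.range_coprod, LinearMap.range_coprod, LinearMap.range_comp, D.range_kinc,
    ← T2_eq_range, ← T2_eq_range]

theorem Φ_injective (q : ℕ) : Function.Injective (D.Φ q) := by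
  rw [injective_iff_map_eq_zero]
  rintro ⟨⟨a, b⟩, c⟩ h
  have h' : TensorProduct.map (D.cA'.ℋ q).subtype (G'.Zn B 0).subtype a +
      TensorProduct.map (G.Zn A 0).subtype (D.cB'.ℋ q).subtype b +
      D.EE q (D.kinc (q + 1) c) = 0 := h
  obtain ⟨h1, h2, h3⟩ := D.star q (incl_mem _ _ a) (incl_mem _ _ b) (D.kinc_mem (q + 1) c)
    (zero_mem _) (zero_mem _) (by rw [h', add_zero, map_zero])
  have ha : a = 0 := mapIncl_injective _ _ (by rw [h1, map_zero])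
  have hb : b = 0 := mapIncl_injective _ _ (by rw [h2, map_zero])
  have hc : c = 0 := D.kinc_injective (q + 1) (by rw [h3, map_zero])
  rw [ha, hb, hc]
  rfl

theorem finrank_HK [∀ i, Module.Finite k ↥(D.cA'.ℋ i)] [∀ j, Module.Finite k ↥(D.cB'.ℋ j)]
    [Module.Finite k ↥(G.Zn A 0)] [Module.Finite k ↥(G'.Zn B 0)] (q : ℕ) :
    Module.finrank k ↥(D.HK q) =
      Module.finrank k ↥(D.cA'.ℋ q) * Module.finrank k ↥(G'.Zn B 0) +
      Module.finrank k ↥(G.Zn A 0) * Module.finrank k ↥(D.cB'.ℋ q) +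
      ∑ p ∈ Finset.HasAntidiagonal.antidiagonal (q + 1),
        Module.finrank k ↥(D.cA'.ℋ p.1) * Module.finrank k ↥(D.cB'.ℋ p.2) := by
  rw [← D.range_Φ q, LinearMap.finrank_range_of_inj (D.Φ_injective q), Module.finrank_prod,
    Module.finrank_prod, Module.finrank_tensorProduct, Module.finrank_tensorProduct,
    Module.finrank_pi_fintype k]
  congr 1
  rw [← Finset.sum_coe_sort (Finset.HasAntidiagonal.antidiagonal (q + 1))
    (fun p => Module.finrank k ↥(D.cA'.ℋ p.1) * Module.finrank k ↥(D.cB'.ℋ p.2))]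
  exact Finset.sum_congr rfl (fun p _ => Module.finrank_tensorProduct)

end MVData

/-- The Mayer–Vietoris count. -/
theorem mv_count (G : GD k V) (G' : GD k W) {A' A : Submodule k V} {B' B : Submodule k W}
    (hA' : G.Stable A') (hA : G.Stable A) (hAA : A' ≤ A) (hB' : G'.Stable B')
    (hB : G'.Stable B) (hBB : B' ≤ B)
    (exA : ∀ i, G.Zn A (i + 1) ≤ G.Bn A (i + 1)) (exB : ∀ i, G'.Zn B (i + 1) ≤ G'.Bn B (i + 1))
    (zA' : G.Zn A' 0 = ⊥) (zB' : G'.Zn B' 0 = ⊥)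
    (finA' : ∀ (i : ℕ) (ℋ : Submodule k V), G.Rep A' i ℋ → Module.Finite k ↥ℋ)
    (finB' : ∀ (j : ℕ) (ℋ : Submodule k W), G'.Rep B' j ℋ → Module.Finite k ↥ℋ)
    (finM : Module.Finite k ↥(G.Zn A 0)) (finN : Module.Finite k ↥(G'.Zn B 0)) (q : ℕ) :
    ∃ (ℋA : ℕ → Submodule k V) (ℋB : ℕ → Submodule k W) (ℋK : Submodule k (V ⊗[k] W)),
      (∀ i, G.Rep A' i (ℋA i)) ∧ (∀ j, G'.Rep B' j (ℋB j)) ∧
      (tens G G').Rep (T2 A' B ⊔ T2 A B') q ℋK ∧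
      Module.finrank k ↥ℋK =
        Module.finrank k ↥(ℋA q) * Module.finrank k ↥(G'.Zn B 0) +
        Module.finrank k ↥(G.Zn A 0) * Module.finrank k ↥(ℋB q) +
        ∑ p ∈ Finset.HasAntidiagonal.antidiagonal (q + 1),
          Module.finrank k ↥(ℋA p.1) * Module.finrank k ↥(ℋB p.2) := by
  obtain ⟨cA⟩ := G.exists_contr hA
  obtain ⟨cB⟩ := G'.exists_contr hB
  obtain ⟨cA'⟩ := G.exists_contr hA'
  obtain ⟨cB'⟩ := G'.exists_contr hB'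
  have D : MVData G G' A' A B' B :=
    ⟨hA', hA, hAA, hB', hB, hBB, cA, cB, cA', cB', exA, exB, zA', zB'⟩
  haveI : ∀ i, Module.Finite k ↥(D.cA'.ℋ i) := fun i => finA' i _ (D.cA'.rep i)
  haveI : ∀ j, Module.Finite k ↥(D.cB'.ℋ j) := fun j => finB' j _ (D.cB'.rep j)
  exact ⟨fun i => D.cA'.ℋ i, fun j => D.cB'.ℋ j, D.HK q, fun i => D.cA'.rep i,
    fun j => D.cB'.rep j, D.rep_HK q, D.finrank_HK q⟩

end Groth.Agent.Lib.DVecH1
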