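import Mathlib
import Groth.Agent.Lib.DVec4_helper1

/-! The Künneth formula in the top degree for the sum of two subspaces spanned by pure tensors in
a tensor product of two resolutions, as a statement about the map `x ⊗ y ↦ σx ⊗ ỹ - x̃ ⊗ y`
(`x̃`, `ỹ` liftings through the differentials), its compatibility with operators acting on both
factors, and the detection of a nonzero class by such operators (helper1).
APPEND-ONLY once landed. -/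

set_option autoImplicit false

namespace Groth.Agent.Lib.DVecH1

open scoped TensorProduct

universe u

variable {k : Type u} [Field k] {V : Type u} [AddCommGroup V] [Module k V]
  {W : Type u} [AddCommGroup W] [Module k W]

/-! ### detection of tensors by pairs of functionals -/
section detect

variable {X Y : Type u} [AddCommGroup X] [Module k X] [AddCommGroup Y] [Module k Y]

theorem lTensor_detect (Ψ : Set (Y →ₗ[k] k)) (hΨ : ∀ y : Y, (∀ g ∈ Ψ, g y = 0) → y = 0)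
    (w : X ⊗[k] Y) (hw : ∀ g ∈ Ψ, LinearMap.lTensor X g w = 0) : w = 0 := by
  classical
  let b := Module.Basis.ofVectorSpace k X
  apply (TensorProduct.equivFinsuppOfBasisLeft b).injective
  rw [map_zero]
  ext i
  rw [Finsupp.zero_apply, TensorProduct.equivFinsuppOfBasisLeft_apply]
  apply hΨ
  intro g hg
  have key : ∀ w : X ⊗[k] Y, g (TensorProduct.lid k Y ((b.coord i).rTensor Y w)) =
      TensorProduct.lid k k ((b.coord i).rTensor k (LinearMap.lTensor X g w)) := by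
    intro w
    induction w using TensorProduct.induction_on with
    | zero => simp
    | tmul x y => simp
    | add w w' h h' => simp only [map_add, h, h']
  rw [key, hw g hg, map_zero, map_zero]

theorem rTensor_detect (Φ : Set (X →ₗ[k] k)) (hΦ : ∀ x : X, (∀ f ∈ Φ, f x = 0) → x = 0)
    (w : X ⊗[k] Y) (hw : ∀ f ∈ Φ, LinearMap.rTensor Y f w = 0) : w = 0 := by
  classical
  let b := Module.Basis.ofVectorSpace k Y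
  apply (TensorProduct.equivFinsuppOfBasisRight b).injective
  rw [map_zero]
  ext i
  rw [Finsupp.zero_apply, TensorProduct.equivFinsuppOfBasisRight_apply]
  apply hΦ
  intro f hf
  have key : ∀ w : X ⊗[k] Y, f (TensorProduct.rid k X ((b.coord i).lTensor X w)) =
      TensorProduct.rid k k ((b.coord i).lTensor k (LinearMap.rTensor Y f w)) := by
    intro w
    induction w using TensorProduct.induction_on with
    | zero => simp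
    | tmul x y => simp [mul_comm]
    | add w w' h h' => simp only [map_add, h, h']
  rw [key, hw f hf, map_zero, map_zero]

/-- a tensor killed by all pairs of functionals from two separating families vanishes -/
theorem tensor_detect (Φ : Set (X →ₗ[k] k)) (Ψ : Set (Y →ₗ[k] k))
    (hΦ : ∀ x : X, (∀ f ∈ Φ, f x = 0) → x = 0) (hΨ : ∀ y : Y, (∀ g ∈ Ψ, g y = 0) → y = 0)
    (w : X ⊗[k] Y) (hw : ∀ f ∈ Φ, ∀ g ∈ Ψ, TensorProduct.map f g w = 0) : w = 0 := by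
  apply lTensor_detect Ψ hΨ w
  intro g hg
  apply rTensor_detect Φ hΦ (LinearMap.lTensor X g w)
  intro f hf
  have e : LinearMap.rTensor k f (LinearMap.lTensor X g w) = TensorProduct.map f g w := by
    rw [← LinearMap.comp_apply, LinearMap.rTensor_comp_lTensor]
  rw [e]
  exact hw f hf g hg

end detect

theorem T2_split {ZA BA HA : Submodule k V} {ZB BB HB : Submodule k W}
    (hHA : HA ≤ ZA) (hsA : ∀ z ∈ ZA, ∃ h ∈ HA, z - h ∈ BA)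
    (hsB : ∀ z ∈ ZB, ∃ h ∈ HB, z - h ∈ BB) :
    T2 ZA ZB ≤ T2 HA HB ⊔ (T2 BA ZB ⊔ T2 ZA BB) := by
  refine T2_le (fun x hx y hy => ?_)
  obtain ⟨hx', hhx, hbx⟩ := hsA x hx
  obtain ⟨hy', hhy, hby⟩ := hsB y hy
  have e : x ⊗ₜ[k] y = hx' ⊗ₜ[k] hy' + ((x - hx') ⊗ₜ[k] y + hx' ⊗ₜ[k] (y - hy')) := by
    rw [TensorProduct.sub_tmul, TensorProduct.tmul_sub]
    abel
  rw [e]
  exact Submodule.add_mem_sup (tmul_mem_T2 hhx hhy)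
    (Submodule.add_mem_sup (tmul_mem_T2 hbx hy) (tmul_mem_T2 (hHA hhx) hby))

/-- detection of a class in a tensor product of two quotients by pairs of operators -/
theorem pair_detect (ZA BA HA : Submodule k V) (ZB BB HB : Submodule k W)
    (hHA : HA ≤ ZA) (hdA : ∀ x ∈ HA, x ∈ BA → x = 0) (hsA : ∀ z ∈ ZA, ∃ h ∈ HA, z - h ∈ BA)
    (hHB : HB ≤ ZB) (hdB : ∀ y ∈ HB, y ∈ BB → y = 0) (hsB : ∀ z ∈ ZB, ∃ h ∈ HB, z - h ∈ BB)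
    (ZA' BA' : Submodule k V) (ZB' BB' : Submodule k W)
    (𝓡 : Set (V →ₗ[k] V)) (𝓢 : Set (W →ₗ[k] W))
    (hR1 : ∀ ρ ∈ 𝓡, ∀ x ∈ ZA, ρ x ∈ ZA') (hR2 : ∀ ρ ∈ 𝓡, ∀ x ∈ BA, ρ x ∈ BA')
    (hS1 : ∀ τ ∈ 𝓢, ∀ y ∈ ZB, τ y ∈ ZB') (hS2 : ∀ τ ∈ 𝓢, ∀ y ∈ BB, τ y ∈ BB')
    (essA : ∀ x ∈ ZA, x ∉ BA → ∃ ρ ∈ 𝓡, ρ x ∉ BA')
    (essB : ∀ y ∈ ZB, y ∉ BB → ∃ τ ∈ 𝓢, τ y ∉ BB')
    (w : V ⊗[k] W) (hw : w ∈ T2 ZA ZB)
    (hall : ∀ ρ ∈ 𝓡, ∀ τ ∈ 𝓢, TensorProduct.map ρ τ w ∈ T2 BA' ZB' ⊔ T2 ZA' BB') :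
    w ∈ T2 BA ZB ⊔ T2 ZA BB := by
  obtain ⟨wh, hwh, wb, hwb, rfl⟩ := Submodule.mem_sup.1 (T2_split hHA hsA hsB hw)
  have hwh0 : wh = 0 := by
    rw [T2_eq_range] at hwh
    obtain ⟨w', rfl⟩ := hwh
    have hw'0 : w' = 0 := by
      apply tensor_detect
        {F : ↥HA →ₗ[k] k | ∃ ρ ∈ 𝓡, ∃ l : V →ₗ[k] k, BA' ≤ LinearMap.ker l ∧
          F = l ∘ₗ ρ ∘ₗ HA.subtype}
        {F : ↥HB →ₗ[k] k | ∃ τ ∈ 𝓢, ∃ l : W →ₗ[k] k, BB' ≤ LinearMap.ker l ∧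
          F = l ∘ₗ τ ∘ₗ HB.subtype}
      · intro x hx
        by_contra hx0
        have hxB : (x : V) ∉ BA := fun h => hx0 (Subtype.ext (hdA x.1 x.2 h))
        obtain ⟨ρ, hρ, hρx⟩ := essA x.1 (hHA x.2) hxB
        obtain ⟨l, hl, hlB⟩ := Submodule.exists_le_ker_of_notMem hρx
        exact hl (hx _ ⟨ρ, hρ, l, hlB, rfl⟩)
      · intro y hy
        by_contra hy0
        have hyB : (y : W) ∉ BB := fun h => hy0 (Subtype.ext (hdB y.1 y.2 h))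
        obtain ⟨τ, hτ, hτy⟩ := essB y.1 (hHB y.2) hyB
        obtain ⟨l, hl, hlB⟩ := Submodule.exists_le_ker_of_notMem hτy
        exact hl (hy _ ⟨τ, hτ, l, hlB, rfl⟩)
      · rintro F ⟨ρ, hρ, l, hl, rfl⟩ G ⟨τ, hτ, l', hl', rfl⟩
        rw [← TensorProduct.map_map, ← TensorProduct.map_map]
        have h1 : TensorProduct.map ρ τ (TensorProduct.map HA.subtype HB.subtype w') ∈
            T2 BA' ZB' ⊔ T2 ZA' BB' := by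
          have h2 := hall ρ hρ τ hτ
          have h3 : TensorProduct.map ρ τ wb ∈ T2 BA' ZB' ⊔ T2 ZA' BB' := by
            obtain ⟨b1, hb1, b2, hb2, e⟩ := Submodule.mem_sup.1 hwb
            rw [← e, map_add]
            exact Submodule.add_mem_sup (map_mem_T2 ρ τ (hR2 ρ hρ) (hS1 τ hτ) b1 hb1)
              (map_mem_T2 ρ τ (hR1 ρ hρ) (hS2 τ hτ) b2 hb2)
          have e : TensorProduct.map ρ τ (TensorProduct.map HA.subtype HB.subtype w') =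
              TensorProduct.map ρ τ (TensorProduct.map HA.subtype HB.subtype w' + wb) -
                TensorProduct.map ρ τ wb := by
            rw [map_add]
            abel
          rw [e]
          exact sub_mem h2 h3
        have h4 : T2 BA' ZB' ⊔ T2 ZA' BB' ≤ LinearMap.ker (TensorProduct.map l l') :=
          sup_le
            (T2_le (fun a ha b _ => by
              rw [LinearMap.mem_ker, TensorProduct.map_tmul, LinearMap.mem_ker.1 (hl ha),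
                TensorProduct.zero_tmul]))
            (T2_le (fun a _ b hb => by
              rw [LinearMap.mem_ker, TensorProduct.map_tmul, LinearMap.mem_ker.1 (hl' hb),
                TensorProduct.tmul_zero]))
        exact LinearMap.mem_ker.1 (h4 h1)
    rw [hw'0, map_zero]
  rw [hwh0, zero_add]
  exact hwb

/-! ### operators commuting with the structure -/
section ops

variable (G : GD k V) (G' : GD k W)

theorem σ_mem_Vn {n : ℕ} {v : V} (hv : v ∈ G.Vn n) : G.σ v ∈ G.Vn n := by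
  rw [G.σ_of_mem_Vn hv]
  exact (G.Vn n).smul_mem _ hv

theorem Bn_le_Zn {A : Submodule k V} (hA : G.Stable A) (n : ℕ) : G.Bn A n ≤ G.Zn A n := by
  intro z hz
  obtain ⟨⟨a, ha, rfl⟩, hn⟩ := G.mem_Bn.1 hz
  exact G.mem_Zn.2 ⟨hA.d_mem a ha, hn, G.d_d a⟩

theorem exists_homog_preimage {A : Submodule k V} (hA : G.Stable A) {n : ℕ} {x : V}
    (hx : x ∈ G.Bn A (n + 1)) : ∃ x' ∈ A, x' ∈ G.Vn n ∧ G.d x' = x := by
  obtain ⟨⟨a, ha, e⟩, hn⟩ := G.mem_Bn.1 hx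
  refine ⟨G.π n a, hA.π_mem n a ha, G.π_mem_Vn n a, ?_⟩
  rw [G.d_π, e]
  exact G.mem_Vn.1 hn

theorem map_Vn (ρ : V →ₗ[k] V) (hρπ : ∀ i v, G.π i (ρ v) = ρ (G.π i v)) {n : ℕ} {v : V}
    (hv : v ∈ G.Vn n) : ρ v ∈ G.Vn n := by
  rw [G.mem_Vn] at hv ⊢
  rw [hρπ, hv]

theorem map_Zn (ρ : V →ₗ[k] V) (hρd : ∀ v, G.d (ρ v) = ρ (G.d v))
    (hρπ : ∀ i v, G.π i (ρ v) = ρ (G.π i v)) {A₁ A₂ : Submodule k V}
    (hρA : ∀ a ∈ A₁, ρ a ∈ A₂) {n : ℕ} {v : V} (hv : v ∈ G.Zn A₁ n) : ρ v ∈ G.Zn A₂ n := by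
  obtain ⟨h1, h2, h3⟩ := G.mem_Zn.1 hv
  exact G.mem_Zn.2 ⟨hρA v h1, map_Vn G ρ hρπ h2, by rw [hρd, h3, map_zero]⟩

theorem map_Bn (ρ : V →ₗ[k] V) (hρd : ∀ v, G.d (ρ v) = ρ (G.d v))
    (hρπ : ∀ i v, G.π i (ρ v) = ρ (G.π i v)) {A₁ A₂ : Submodule k V}
    (hρA : ∀ a ∈ A₁, ρ a ∈ A₂) {n : ℕ} {v : V} (hv : v ∈ G.Bn A₁ n) : ρ v ∈ G.Bn A₂ n := by
  obtain ⟨⟨a, ha, rfl⟩, hn⟩ := G.mem_Bn.1 hv
  exact G.mem_Bn.2 ⟨⟨ρ a, hρA a ha, hρd a⟩, map_Vn G ρ hρπ hn⟩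

theorem tD_map (ρ : V →ₗ[k] V) (τ : W →ₗ[k] W) (hρd : ∀ v, G.d (ρ v) = ρ (G.d v))
    (hρσ : ∀ v, G.σ (ρ v) = ρ (G.σ v)) (hτd : ∀ v, G'.d (τ v) = τ (G'.d v))
    (z : V ⊗[k] W) :
    tD G G' (TensorProduct.map ρ τ z) = TensorProduct.map ρ τ (tD G G' z) := by
  induction z using TensorProduct.induction_on with
  | zero => simp only [map_zero]
  | tmul x y =>
    rw [TensorProduct.map_tmul, tD_tmul, tD_tmul, map_add, TensorProduct.map_tmul,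
      TensorProduct.map_tmul, hρd, hρσ, hτd]
  | add a b ha hb => simp only [map_add, ha, hb]

theorem tπ_map (ρ : V →ₗ[k] V) (τ : W →ₗ[k] W) (hρπ : ∀ i v, G.π i (ρ v) = ρ (G.π i v))
    (hτπ : ∀ i v, G'.π i (τ v) = τ (G'.π i v)) (n : ℕ) (z : V ⊗[k] W) :
    tπ G G' n (TensorProduct.map ρ τ z) = TensorProduct.map ρ τ (tπ G G' n z) := by
  induction z using TensorProduct.induction_on with
  | zero => simp only [map_zero]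
  | tmul x y =>
    rw [TensorProduct.map_tmul, tπ_tmul, tπ_tmul, map_sum]
    refine Finset.sum_congr rfl (fun p _ => ?_)
    rw [TensorProduct.map_tmul, hρπ, hτπ]
  | add a b ha hb => simp only [map_add, ha, hb]

theorem map_sum_mem (ρ : V →ₗ[k] V) (τ : W →ₗ[k] W) {A₁' A₁ A₂' A₂ : Submodule k V}
    {B₁' B₁ B₂' B₂ : Submodule k W} (hρA : ∀ a ∈ A₁, ρ a ∈ A₂) (hρA' : ∀ a ∈ A₁', ρ a ∈ A₂')
    (hτB : ∀ b ∈ B₁, τ b ∈ B₂) (hτB' : ∀ b ∈ B₁', τ b ∈ B₂') :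
    ∀ a ∈ T2 A₁' B₁ ⊔ T2 A₁ B₁', TensorProduct.map ρ τ a ∈ T2 A₂' B₂ ⊔ T2 A₂ B₂' := by
  intro a ha
  obtain ⟨a1, h1, a2, h2, rfl⟩ := Submodule.mem_sup.1 ha
  rw [map_add]
  exact Submodule.add_mem_sup (map_mem_T2 ρ τ hρA' hτB a1 h1) (map_mem_T2 ρ τ hρA hτB' a2 h2)

end ops

/-! ### the top-degree Künneth map -/

/-- the data of two resolutions with stable subspaces -/
structure KD (G : GD k V) (G' : GD k W) (A' A : Submodule k V) (B' B : Submodule k W) :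
    Prop where
  hA' : G.Stable A'
  hA : G.Stable A
  hAA : A' ≤ A
  hB' : G'.Stable B'
  hB : G'.Stable B
  hBB : B' ≤ B
  exA : ∀ i, G.Zn A (i + 1) ≤ G.Bn A (i + 1)
  exB : ∀ i, G'.Zn B (i + 1) ≤ G'.Bn B (i + 1)

/-- a lifting of the cocycles of degree `r + 1` of the subspace through the differential -/
structure IsLift (G : GD k V) (A' A : Submodule k V) (r : ℕ) (g : V →ₗ[k] V) : Prop where
  mem : ∀ x ∈ G.Zn A' (r + 1), g x ∈ A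
  deg : ∀ x ∈ G.Zn A' (r + 1), g x ∈ G.Vn r
  d_eq : ∀ x ∈ G.Zn A' (r + 1), G.d (g x) = x

theorem isLift_h {G : GD k V} {A' A : Submodule k V} (hAA : A' ≤ A) (c : G.Contr A) (r : ℕ)
    (hex : G.Zn A (r + 1) ≤ G.Bn A (r + 1)) : IsLift G A' A r c.h := by
  refine ⟨fun x hx => ?_, fun x hx => ?_, fun x hx => ?_⟩
  · exact c.h_mem x (hAA (G.mem_Zn.1 hx).1)
  · obtain ⟨h1, h2, -⟩ := G.mem_Zn.1 hx
    rw [G.mem_Vn, ← c.h_π_succ r x (hAA h1), G.mem_Vn.1 h2]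
  · obtain ⟨h1, h2, h3⟩ := G.mem_Zn.1 hx
    have e := c.hom x (hAA h1)
    rw [h3, map_zero, add_zero, c.p_eq_zero_of_exact hex (hAA h1) h2, sub_zero] at e
    exact e

theorem ℋ_eq_bot_of_van {G : GD k V} {A : Submodule k V} (c : G.Contr A) {i : ℕ}
    (h : G.Zn A i ≤ G.Bn A i) : c.ℋ i = ⊥ :=
  eq_bot_iff.2 (fun x hx => (Submodule.mem_bot k).2 ((c.rep i).disj x hx (h (c.ℋ_le i hx))))

/-- the top-degree Künneth map -/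
noncomputable def Xi (G : GD k V) (g₁ : V →ₗ[k] V) (g₂ : W →ₗ[k] W) :
    V ⊗[k] W →ₗ[k] V ⊗[k] W :=
  TensorProduct.map G.σ g₂ - TensorProduct.map g₁ LinearMap.id

theorem Xi_tmul (G : GD k V) (g₁ : V →ₗ[k] V) (g₂ : W →ₗ[k] W) (x : V) (y : W) :
    Xi G g₁ g₂ (x ⊗ₜ[k] y) = G.σ x ⊗ₜ[k] g₂ y - g₁ x ⊗ₜ[k] y := by
  unfold Xi
  rw [LinearMap.sub_apply, TensorProduct.map_tmul, TensorProduct.map_tmul, LinearMap.id_apply]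

theorem Xi_apply (G : GD k V) (g₁ : V →ₗ[k] V) (g₂ : W →ₗ[k] W) (w : V ⊗[k] W) :
    Xi G g₁ g₂ w = TensorProduct.map G.σ g₂ w - TensorProduct.map g₁ LinearMap.id w := rfl

theorem KH_top {G : GD k V} {G' : GD k W} {A' : Submodule k V} {B' : Submodule k W}
    (cA' : G.Contr A') (cB' : G'.Contr B') {r s : ℕ}
    (vA : ∀ i, r + 1 < i → G.Zn A' i ≤ G.Bn A' i)
    (vB : ∀ j, s + 1 < j → G'.Zn B' j ≤ G'.Bn B' j) {n : ℕ} (hn : n = r + s + 2) :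
    KH cA' cB' n ≤ T2 (cA'.ℋ (r + 1)) (cB'.ℋ (s + 1)) := by
  refine iSup₂_le (fun p hp => ?_)
  obtain ⟨i, j⟩ := p
  have hij : i + j = n := Finset.HasAntidiagonal.mem_antidiagonal.1 hp
  show T2 (cA'.ℋ i) (cB'.ℋ j) ≤ _
  rcases lt_trichotomy i (r + 1) with h | h | h
  · have hj : s + 1 < j := by omega
    rw [ℋ_eq_bot_of_van cB' (vB j hj), T2_bot_right]
    exact bot_le
  · have hj : j = s + 1 := by omega
    subst h hj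
    exact le_rfl
  · rw [ℋ_eq_bot_of_van cA' (vA i h), T2_bot_left]
    exact bot_le

namespace KD

variable {G : GD k V} {G' : GD k W} {A' A : Submodule k V} {B' B : Submodule k W}
  (D : KD G G' A' A B' B)

include D in
/-- independence of the choice of liftings, for one pure tensor -/
theorem elem_indep {r s : ℕ} (hr : 1 ≤ r) (hs : 1 ≤ s) {X x₁ x₂ : V} {Y y₁ y₂ : W}
    (hX : X ∈ G.Zn A' (r + 1)) (hY : Y ∈ G'.Zn B' (s + 1))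
    (hx₁ : x₁ ∈ A) (hx₁n : x₁ ∈ G.Vn r) (hx₁d : G.d x₁ = X)
    (hx₂ : x₂ ∈ A) (hx₂n : x₂ ∈ G.Vn r) (hx₂d : G.d x₂ = X)
    (hy₁ : y₁ ∈ B) (hy₁n : y₁ ∈ G'.Vn s) (hy₁d : G'.d y₁ = Y)
    (hy₂ : y₂ ∈ B) (hy₂n : y₂ ∈ G'.Vn s) (hy₂d : G'.d y₂ = Y) :
    (G.σ X ⊗ₜ[k] y₁ - x₁ ⊗ₜ[k] Y) - (G.σ X ⊗ₜ[k] y₂ - x₂ ⊗ₜ[k] Y) ∈
      (tens G G').Bn (T2 A' B ⊔ T2 A B') (r + s + 1) := by
  obtain ⟨hX1, hX2, hX3⟩ := G.mem_Zn.1 hX
  obtain ⟨hY1, hY2, hY3⟩ := G'.mem_Zn.1 hY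
  obtain ⟨r', rfl⟩ : ∃ r', r = r' + 1 := ⟨r - 1, by omega⟩
  obtain ⟨s', rfl⟩ : ∃ s', s = s' + 1 := ⟨s - 1, by omega⟩
  have hu : x₁ - x₂ ∈ G.Zn A (r' + 1) :=
    G.mem_Zn.2 ⟨A.sub_mem hx₁ hx₂, (G.Vn _).sub_mem hx₁n hx₂n, by
      rw [map_sub, hx₁d, hx₂d, sub_self]⟩
  have hv : y₁ - y₂ ∈ G'.Zn B (s' + 1) :=
    G'.mem_Zn.2 ⟨B.sub_mem hy₁ hy₂, (G'.Vn _).sub_mem hy₁n hy₂n, by
      rw [map_sub, hy₁d, hy₂d, sub_self]⟩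
  obtain ⟨⟨u', hu', hdu'⟩, -⟩ := G.mem_Bn.1 (D.exA r' hu)
  obtain ⟨⟨v', hv', hdv'⟩, -⟩ := G'.mem_Bn.1 (D.exB s' hv)
  have e : (G.σ X ⊗ₜ[k] y₁ - x₁ ⊗ₜ[k] Y) - (G.σ X ⊗ₜ[k] y₂ - x₂ ⊗ₜ[k] Y) =
      G.σ X ⊗ₜ[k] (y₁ - y₂) - (x₁ - x₂) ⊗ₜ[k] Y := by
    rw [TensorProduct.tmul_sub, TensorProduct.sub_tmul]
    abel
  rw [e, tens_mem_Bn]
  refine ⟨⟨X ⊗ₜ[k] v' - u' ⊗ₜ[k] Y, sub_mem (Submodule.mem_sup_left (tmul_mem_T2 hX1 hv'))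
    (Submodule.mem_sup_right (tmul_mem_T2 hu' hY1)), ?_⟩, ?_⟩
  · rw [map_sub, tD_tmul, tD_tmul, hX3, hY3, hdu', hdv', TensorProduct.zero_tmul,
      TensorProduct.tmul_zero, zero_add, add_zero]
  · rw [map_sub, tπ_tmul_of_mem G G' (σ_mem_Vn G hX2) ((G'.Vn _).sub_mem hy₁n hy₂n),
      if_pos (by omega), tπ_tmul_of_mem G G' ((G.Vn _).sub_mem hx₁n hx₂n) hY2,
      if_pos (by omega)]

include D in
theorem er_spec {r s : ℕ} {g₂ : W →ₗ[k] W} (h₂ : IsLift G' B' B s g₂) :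
    ∀ y ∈ T2 (G.Zn A' (r + 1)) (G'.Zn B' (s + 1)),
      TensorProduct.map G.σ g₂ y ∈ T2 A' B ∧
      tπ G G' (r + s + 1) (TensorProduct.map G.σ g₂ y) = TensorProduct.map G.σ g₂ y ∧
      tD G G' (TensorProduct.map G.σ g₂ y) = y := by
  intro y hy
  refine ⟨?_, ?_, ?_⟩
  · exact map_mem_T2 G.σ g₂ (fun a ha => D.hA'.σ_mem (G.mem_Zn.1 ha).1)
      (fun b hb => h₂.mem b hb) y hy
  · exact T2_eqOn (tπ G G' (r + s + 1) ∘ₗ TensorProduct.map G.σ g₂) (TensorProduct.map G.σ g₂)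
      (fun a ha b hb => by
        show tπ G G' (r + s + 1) (TensorProduct.map G.σ g₂ (a ⊗ₜ[k] b)) =
          TensorProduct.map G.σ g₂ (a ⊗ₜ[k] b)
        rw [TensorProduct.map_tmul,
          tπ_tmul_of_mem G G' (σ_mem_Vn G (G.mem_Zn.1 ha).2.1) (h₂.deg b hb),
          if_pos (by omega)]) y hy
  · exact T2_eqOn (tD G G' ∘ₗ TensorProduct.map G.σ g₂) LinearMap.id
      (fun a ha b hb => by
        show tD G G' (TensorProduct.map G.σ g₂ (a ⊗ₜ[k] b)) = a ⊗ₜ[k] b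
        rw [TensorProduct.map_tmul, tD_tmul, G.d_σ, (G.mem_Zn.1 ha).2.2, map_zero, neg_zero,
          TensorProduct.zero_tmul, zero_add, G.σ_σ, h₂.d_eq b hb]) y hy

include D in
theorem el_spec {r s : ℕ} {g₁ : V →ₗ[k] V} (h₁ : IsLift G A' A r g₁) :
    ∀ y ∈ T2 (G.Zn A' (r + 1)) (G'.Zn B' (s + 1)),
      TensorProduct.map g₁ (LinearMap.id : W →ₗ[k] W) y ∈ T2 A B' ∧
      tπ G G' (r + s + 1) (TensorProduct.map g₁ (LinearMap.id : W →ₗ[k] W) y) =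
        TensorProduct.map g₁ (LinearMap.id : W →ₗ[k] W) y ∧
      tD G G' (TensorProduct.map g₁ (LinearMap.id : W →ₗ[k] W) y) = y := by
  intro y hy
  refine ⟨?_, ?_, ?_⟩
  · exact map_mem_T2 g₁ LinearMap.id (fun a ha => h₁.mem a ha)
      (fun b hb => (G'.mem_Zn.1 hb).1) y hy
  · exact T2_eqOn (tπ G G' (r + s + 1) ∘ₗ TensorProduct.map g₁ (LinearMap.id : W →ₗ[k] W))
      (TensorProduct.map g₁ (LinearMap.id : W →ₗ[k] W))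
      (fun a ha b hb => by
        show tπ G G' (r + s + 1) (TensorProduct.map g₁ (LinearMap.id : W →ₗ[k] W) (a ⊗ₜ[k] b)) =
          TensorProduct.map g₁ (LinearMap.id : W →ₗ[k] W) (a ⊗ₜ[k] b)
        rw [TensorProduct.map_tmul, LinearMap.id_apply,
          tπ_tmul_of_mem G G' (h₁.deg a ha) (G'.mem_Zn.1 hb).2.1, if_pos (by omega)]) y hy
  · exact T2_eqOn (tD G G' ∘ₗ TensorProduct.map g₁ (LinearMap.id : W →ₗ[k] W)) LinearMap.id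
      (fun a ha b hb => by
        show tD G G' (TensorProduct.map g₁ (LinearMap.id : W →ₗ[k] W) (a ⊗ₜ[k] b)) = a ⊗ₜ[k] b
        rw [TensorProduct.map_tmul, LinearMap.id_apply, tD_tmul, h₁.d_eq a ha,
          (G'.mem_Zn.1 hb).2.2, TensorProduct.tmul_zero, add_zero]) y hy

include D in
theorem Xi_mem {r s : ℕ} {g₁ : V →ₗ[k] V} {g₂ : W →ₗ[k] W} (h₁ : IsLift G A' A r g₁)
    (h₂ : IsLift G' B' B s g₂) :
    ∀ w ∈ T2 (G.Zn A' (r + 1)) (G'.Zn B' (s + 1)),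
      Xi G g₁ g₂ w ∈ (tens G G').Zn (T2 A' B ⊔ T2 A B') (r + s + 1) := by
  intro w hw
  obtain ⟨a1, a2, a3⟩ := D.er_spec (r := r) h₂ w hw
  obtain ⟨b1, b2, b3⟩ := D.el_spec (s := s) h₁ w hw
  rw [tens_mem_Zn, Xi_apply]
  refine ⟨sub_mem (Submodule.mem_sup_left a1) (Submodule.mem_sup_right b1), ?_, ?_⟩
  · rw [map_sub, a2, b2]
  · rw [map_sub, a3, b3, sub_self]

include D in
theorem Xi_indep {r s : ℕ} (hr : 1 ≤ r) (hs : 1 ≤ s) {g₁ g₁' : V →ₗ[k] V}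
    {g₂ g₂' : W →ₗ[k] W} (h₁ : IsLift G A' A r g₁) (h₂ : IsLift G' B' B s g₂)
    (h₁' : IsLift G A' A r g₁') (h₂' : IsLift G' B' B s g₂') :
    ∀ w ∈ T2 (G.Zn A' (r + 1)) (G'.Zn B' (s + 1)),
      Xi G g₁ g₂ w - Xi G g₁' g₂' w ∈ (tens G G').Bn (T2 A' B ⊔ T2 A B') (r + s + 1) :=
  T2_map_mem (Xi G g₁ g₂ - Xi G g₁' g₂') _ (fun x hx y hy => by
    show Xi G g₁ g₂ (x ⊗ₜ[k] y) - Xi G g₁' g₂' (x ⊗ₜ[k] y) ∈ _
    rw [Xi_tmul, Xi_tmul]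
    exact D.elem_indep hr hs hx hy (h₁.mem x hx) (h₁.deg x hx) (h₁.d_eq x hx) (h₁'.mem x hx)
      (h₁'.deg x hx) (h₁'.d_eq x hx) (h₂.mem y hy) (h₂.deg y hy) (h₂.d_eq y hy)
      (h₂'.mem y hy) (h₂'.deg y hy) (h₂'.d_eq y hy))

include D in
theorem Xi_bdry {r s : ℕ} (hr : 1 ≤ r) (hs : 1 ≤ s) {g₁ : V →ₗ[k] V} {g₂ : W →ₗ[k] W}
    (h₁ : IsLift G A' A r g₁) (h₂ : IsLift G' B' B s g₂) :
    ∀ w ∈ T2 (G.Bn A' (r + 1)) (G'.Zn B' (s + 1)) ⊔ T2 (G.Zn A' (r + 1)) (G'.Bn B' (s + 1)),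
      Xi G g₁ g₂ w ∈ (tens G G').Bn (T2 A' B ⊔ T2 A B') (r + s + 1) := by
  have c1 : T2 (G.Bn A' (r + 1)) (G'.Zn B' (s + 1)) ≤
      ((tens G G').Bn (T2 A' B ⊔ T2 A B') (r + s + 1)).comap (Xi G g₁ g₂) := by
    refine T2_le (fun x hx y hy => ?_)
    rw [Submodule.mem_comap, Xi_tmul]
    have hxZ := Bn_le_Zn G D.hA' (r + 1) hx
    obtain ⟨x', hx'A, hx'n, hx'd⟩ := exists_homog_preimage G D.hA' hx
    obtain ⟨-, hy2, -⟩ := G'.mem_Zn.1 hy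
    have i1 := D.elem_indep hr hs hxZ hy (h₁.mem x hxZ) (h₁.deg x hxZ) (h₁.d_eq x hxZ)
      (D.hAA hx'A) hx'n hx'd (h₂.mem y hy) (h₂.deg y hy) (h₂.d_eq y hy) (h₂.mem y hy)
      (h₂.deg y hy) (h₂.d_eq y hy)
    have i2 : G.σ x ⊗ₜ[k] g₂ y - x' ⊗ₜ[k] y ∈
        (tens G G').Bn (T2 A' B ⊔ T2 A B') (r + s + 1) := by
      rw [tens_mem_Bn]
      refine ⟨⟨-(G.σ x' ⊗ₜ[k] g₂ y), neg_mem (Submodule.mem_sup_left
        (tmul_mem_T2 (D.hA'.σ_mem hx'A) (h₂.mem y hy))), ?_⟩, ?_⟩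
      · rw [map_neg, tD_tmul, G.d_σ, hx'd, G.σ_σ, h₂.d_eq y hy, TensorProduct.neg_tmul]
        abel
      · rw [map_sub, tπ_tmul_of_mem G G' (σ_mem_Vn G (G.mem_Zn.1 hxZ).2.1) (h₂.deg y hy),
          if_pos (by omega), tπ_tmul_of_mem G G' hx'n hy2, if_pos (by omega)]
    have h3 := add_mem i1 i2
    rwa [sub_add_cancel] at h3
  have c2 : T2 (G.Zn A' (r + 1)) (G'.Bn B' (s + 1)) ≤
      ((tens G G').Bn (T2 A' B ⊔ T2 A B') (r + s + 1)).comap (Xi G g₁ g₂) := by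
    refine T2_le (fun x hx y hy => ?_)
    rw [Submodule.mem_comap, Xi_tmul]
    have hyZ := Bn_le_Zn G' D.hB' (s + 1) hy
    obtain ⟨y', hy'B, hy'n, hy'd⟩ := exists_homog_preimage G' D.hB' hy
    obtain ⟨-, hx2, -⟩ := G.mem_Zn.1 hx
    have i1 := D.elem_indep hr hs hx hyZ (h₁.mem x hx) (h₁.deg x hx) (h₁.d_eq x hx)
      (h₁.mem x hx) (h₁.deg x hx) (h₁.d_eq x hx) (h₂.mem y hyZ) (h₂.deg y hyZ)
      (h₂.d_eq y hyZ) (D.hBB hy'B) hy'n hy'd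
    have i2 : G.σ x ⊗ₜ[k] y' - g₁ x ⊗ₜ[k] y ∈
        (tens G G').Bn (T2 A' B ⊔ T2 A B') (r + s + 1) := by
      rw [tens_mem_Bn]
      refine ⟨⟨-(G.σ (g₁ x) ⊗ₜ[k] y'), neg_mem (Submodule.mem_sup_right
        (tmul_mem_T2 (D.hA.σ_mem (h₁.mem x hx)) hy'B)), ?_⟩, ?_⟩
      · rw [map_neg, tD_tmul, G.d_σ, h₁.d_eq x hx, G.σ_σ, hy'd, TensorProduct.neg_tmul]
        abel
      · rw [map_sub, tπ_tmul_of_mem G G' (σ_mem_Vn G hx2) hy'n, if_pos (by omega),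
          tπ_tmul_of_mem G G' (h₁.deg x hx) (G'.mem_Zn.1 hyZ).2.1, if_pos (by omega)]
    have h3 := add_mem i1 i2
    rwa [sub_add_cancel] at h3
  intro w hw
  exact sup_le c1 c2 hw

include D in
/-- every class of the sum in the top degree comes from the Künneth map -/
theorem Xi_span {r s : ℕ} (hr : 1 ≤ r) (hs : 1 ≤ s)
    (vA : ∀ i, r + 1 < i → G.Zn A' i ≤ G.Bn A' i)
    (vB : ∀ j, s + 1 < j → G'.Zn B' j ≤ G'.Bn B' j) {g₁ : V →ₗ[k] V} {g₂ : W →ₗ[k] W}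
    (h₁ : IsLift G A' A r g₁) (h₂ : IsLift G' B' B s g₂) :
    ∀ ζ ∈ (tens G G').Zn (T2 A' B ⊔ T2 A B') (r + s + 1),
      ∃ w ∈ T2 (G.Zn A' (r + 1)) (G'.Zn B' (s + 1)),
        ζ - Xi G g₁ g₂ w ∈ (tens G G').Bn (T2 A' B ⊔ T2 A B') (r + s + 1) := by
  intro ζ hζ
  obtain ⟨cA⟩ := G.exists_contr D.hA
  obtain ⟨cB⟩ := G'.exists_contr D.hB
  obtain ⟨cA'⟩ := G.exists_contr D.hA'
  obtain ⟨cB'⟩ := G'.exists_contr D.hB'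
  have lA : IsLift G A' A r cA.h := isLift_h D.hAA cA r (D.exA r)
  have lB : IsLift G' B' B s cB.h := isLift_h D.hBB cB s (D.exB s)
  obtain ⟨hzK, hzπ, hzd⟩ := (tens_mem_Zn G G').1 hζ
  obtain ⟨z₁', hz₁', z₂', hz₂', hzz⟩ := Submodule.mem_sup.1 hzK
  obtain ⟨z₁, hz₁def⟩ : ∃ z₁, z₁ = tπ G G' (r + s + 1) z₁' := ⟨_, rfl⟩
  obtain ⟨z₂, hz₂def⟩ : ∃ z₂, z₂ = tπ G G' (r + s + 1) z₂' := ⟨_, rfl⟩
  have hz₁ : z₁ ∈ T2 A' B := by rw [hz₁def]; exact tπ_mem_T2 G G' D.hA' D.hB _ hz₁'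
  have hz₂ : z₂ ∈ T2 A B' := by rw [hz₂def]; exact tπ_mem_T2 G G' D.hA D.hB' _ hz₂'
  have hz₁π : tπ G G' (r + s + 1) z₁ = z₁ := by rw [hz₁def]; exact tπ_same_apply G G' _ _
  have hz₂π : tπ G G' (r + s + 1) z₂ = z₂ := by rw [hz₂def]; exact tπ_same_apply G G' _ _
  have hsum : ζ = z₁ + z₂ := by rw [hz₁def, hz₂def, ← map_add, hzz, hzπ]
  obtain ⟨w₀, hw⟩ : ∃ w₀, w₀ = tD G G' z₁ := ⟨_, rfl⟩
  have hw2 : w₀ = - tD G G' z₂ := by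
    have h1 : tD G G' z₁ + tD G G' z₂ = 0 := by rw [← map_add, ← hsum, hzd]
    rw [hw]
    exact eq_neg_of_add_eq_zero_left h1
  have hwT : w₀ ∈ T2 A' B' := by
    rw [← T2_inf D.hAA D.hBB]
    refine ⟨?_, ?_⟩
    · rw [hw]; exact tD_mem_T2 G G' D.hA' D.hB hz₁
    · rw [hw2]; exact neg_mem (tD_mem_T2 G G' D.hA D.hB' hz₂)
  have hwπ : tπ G G' (r + s + 1 + 1) w₀ = w₀ := by
    rw [hw, ← hz₁π, tD_tπ_apply, tπ_same_apply]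
  have hwZ : w₀ ∈ (tens G G').Zn (T2 A' B') (r + s + 1 + 1) := by
    rw [tens_mem_Zn]
    refine ⟨hwT, hwπ, ?_⟩
    rw [hw, tD_tD_apply]
  obtain ⟨y, hy, hb⟩ := (kunneth cA' cB' D.hA' D.hB' (r + s + 1 + 1)).span w₀ hwZ
  obtain ⟨⟨t', ht', hDt'⟩, -⟩ := (tens_mem_Bn G G').1 hb
  have hyℋ : y ∈ T2 (cA'.ℋ (r + 1)) (cB'.ℋ (s + 1)) :=
    KH_top cA' cB' vA vB (by omega) hy
  have hyZ : y ∈ T2 (G.Zn A' (r + 1)) (G'.Zn B' (s + 1)) :=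
    T2_mono (cA'.ℋ_le _) (cB'.ℋ_le _) hyℋ
  obtain ⟨-, hyπ, -⟩ := (tens_mem_Zn G G').1 (KH_le_Zn cA' cB' (r + s + 1 + 1) hy)
  obtain ⟨t, htdef⟩ : ∃ t, t = tπ G G' (r + s + 1) t' := ⟨_, rfl⟩
  have ht : t ∈ T2 A' B' := by rw [htdef]; exact tπ_mem_T2 G G' D.hA' D.hB' _ ht'
  have htπ : tπ G G' (r + s + 1) t = t := by rw [htdef]; exact tπ_same_apply G G' _ _
  have hDt : tD G G' t = w₀ - y := by rw [htdef, tD_tπ_apply, hDt', map_sub, hwπ, hyπ]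
  obtain ⟨hr1, hr2, hr3⟩ := D.er_spec (r := r) lB y hyZ
  obtain ⟨hl1, hl2, hl3⟩ := D.el_spec (s := s) lA y hyZ
  have hc₁ : z₁ - t - TensorProduct.map G.σ cB.h y ∈
      (tens G G').Zn (T2 A' B) (r + s + 1) := by
    rw [tens_mem_Zn]
    refine ⟨sub_mem (sub_mem hz₁ (T2_mono le_rfl D.hBB ht)) hr1, ?_, ?_⟩
    · rw [map_sub, map_sub, hz₁π, htπ, hr2]
    · rw [map_sub, map_sub, ← hw, hDt, hr3]
      abel
  have hc₂ : z₂ + t + TensorProduct.map cA.h (LinearMap.id : W →ₗ[k] W) y ∈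
      (tens G G').Zn (T2 A B') (r + s + 1) := by
    rw [tens_mem_Zn]
    refine ⟨add_mem (add_mem hz₂ (T2_mono D.hAA le_rfl ht)) hl1, ?_, ?_⟩
    · rw [map_add, map_add, hz₂π, htπ, hl2]
    · have h1 : tD G G' z₂ = - w₀ := by rw [hw2, neg_neg]
      rw [map_add, map_add, h1, hDt, hl3]
      abel
  have e₁ : (tens G G').Zn (T2 A' B) (r + s + 1) ≤ (tens G G').Bn (T2 A' B) (r + s + 1) := by
    intro c hc
    obtain ⟨h, hh, hb⟩ := (kunneth cA' cB D.hA' D.hB (r + s + 1)).span c hc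
    rw [KH_exact_right cA' cB D.exB, ℋ_eq_bot_of_van cA' (vA (r + s + 1) (by omega)),
      T2_bot_left, Submodule.mem_bot] at hh
    rw [hh, sub_zero] at hb
    exact hb
  have e₂ : (tens G G').Zn (T2 A B') (r + s + 1) ≤ (tens G G').Bn (T2 A B') (r + s + 1) := by
    intro c hc
    obtain ⟨h, hh, hb⟩ := (kunneth cA cB' D.hA D.hB' (r + s + 1)).span c hc
    rw [KH_exact_left cA cB' D.exA, ℋ_eq_bot_of_van cB' (vB (r + s + 1) (by omega)),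
      T2_bot_right, Submodule.mem_bot] at hh
    rw [hh, sub_zero] at hb
    exact hb
  refine ⟨y, hyZ, ?_⟩
  have hmain : ζ - Xi G cA.h cB.h y ∈ (tens G G').Bn (T2 A' B ⊔ T2 A B') (r + s + 1) := by
    have e : ζ - Xi G cA.h cB.h y = (z₁ - t - TensorProduct.map G.σ cB.h y) +
        (z₂ + t + TensorProduct.map cA.h (LinearMap.id : W →ₗ[k] W) y) := by
      rw [hsum, Xi_apply]
      abel
    rw [e]
    exact add_mem ((tens G G').Bn_mono le_sup_left _ (e₁ hc₁))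
      ((tens G G').Bn_mono le_sup_right _ (e₂ hc₂))
  have hind := D.Xi_indep hr hs lA lB h₁ h₂ y hyZ
  have e : ζ - Xi G g₁ g₂ y = (ζ - Xi G cA.h cB.h y) + (Xi G cA.h cB.h y - Xi G g₁ g₂ y) := by
    abel
  rw [e]
  exact add_mem hmain hind

include D in
/-- the kernel of the Künneth map on classes -/
theorem Xi_inj {r s : ℕ} (hr : 1 ≤ r) (hs : 1 ≤ s) {g₁ : V →ₗ[k] V} {g₂ : W →ₗ[k] W}
    (h₁ : IsLift G A' A r g₁) (h₂ : IsLift G' B' B s g₂) :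
    ∀ w ∈ T2 (G.Zn A' (r + 1)) (G'.Zn B' (s + 1)),
      Xi G g₁ g₂ w ∈ (tens G G').Bn (T2 A' B ⊔ T2 A B') (r + s + 1) →
      w ∈ T2 (G.Bn A' (r + 1)) (G'.Zn B' (s + 1)) ⊔ T2 (G.Zn A' (r + 1)) (G'.Bn B' (s + 1)) := by
  intro w hw hb
  obtain ⟨cA⟩ := G.exists_contr D.hA
  obtain ⟨cB⟩ := G'.exists_contr D.hB
  obtain ⟨cA'⟩ := G.exists_contr D.hA'
  obtain ⟨cB'⟩ := G'.exists_contr D.hB'
  have lA : IsLift G A' A r cA.h := isLift_h D.hAA cA r (D.exA r)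
  have lB : IsLift G' B' B s cB.h := isLift_h D.hBB cB s (D.exB s)
  obtain ⟨wh, hwh, wb, hwb, rfl⟩ := Submodule.mem_sup.1
    (T2_split (cA'.ℋ_le (r + 1)) (cA'.rep (r + 1)).span (cB'.rep (s + 1)).span hw)
  have hwhZ : wh ∈ T2 (G.Zn A' (r + 1)) (G'.Zn B' (s + 1)) :=
    T2_mono (cA'.ℋ_le _) (cB'.ℋ_le _) hwh
  have h3 := D.Xi_bdry hr hs h₁ h₂ wb hwb
  have h4 : Xi G g₁ g₂ wh ∈ (tens G G').Bn (T2 A' B ⊔ T2 A B') (r + s + 1) := by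
    have e : Xi G g₁ g₂ wh = Xi G g₁ g₂ (wh + wb) - Xi G g₁ g₂ wb := by
      rw [map_add]
      abel
    rw [e]
    exact sub_mem hb h3
  have h5 : Xi G cA.h cB.h wh ∈ (tens G G').Bn (T2 A' B ⊔ T2 A B') (r + s + 1) := by
    have h6 := D.Xi_indep hr hs lA lB h₁ h₂ wh hwhZ
    have e : Xi G cA.h cB.h wh = (Xi G cA.h cB.h wh - Xi G g₁ g₂ wh) + Xi G g₁ g₂ wh := by
      abel
    rw [e]
    exact add_mem h6 h4
  obtain ⟨⟨κ, hκ, hDκ⟩, -⟩ := (tens_mem_Bn G G').1 h5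
  obtain ⟨κ₁, hκ₁, κ₂, hκ₂, rfl⟩ := Submodule.mem_sup.1 hκ
  obtain ⟨hr1, -, hr3⟩ := D.er_spec (r := r) lB wh hwhZ
  obtain ⟨hl1, -, -⟩ := D.el_spec (s := s) lA wh hwhZ
  have h6 : TensorProduct.map G.σ cB.h wh =
      tD G G' κ₁ + tD G G' κ₂ + TensorProduct.map cA.h (LinearMap.id : W →ₗ[k] W) wh := by
    rw [← map_add, hDκ, Xi_apply]
    abel
  obtain ⟨α, hα⟩ : ∃ α, α = TensorProduct.map G.σ cB.h wh - tD G G' κ₁ := ⟨_, rfl⟩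
  have hα2 : α = TensorProduct.map cA.h (LinearMap.id : W →ₗ[k] W) wh + tD G G' κ₂ := by
    rw [hα, h6]
    abel
  have hαT : α ∈ T2 A' B' := by
    rw [← T2_inf D.hAA D.hBB]
    refine ⟨?_, ?_⟩
    · rw [hα]; exact sub_mem hr1 (tD_mem_T2 G G' D.hA' D.hB hκ₁)
    · rw [hα2]; exact add_mem hl1 (tD_mem_T2 G G' D.hA D.hB' hκ₂)
  have hDα : tD G G' α = wh := by rw [hα, map_sub, hr3, tD_tD_apply, sub_zero]
  have hwhK : wh ∈ KH cA' cB' (r + s + 1 + 1) :=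
    T2_le_KH cA' cB' (p := (r + 1, s + 1))
      (Finset.HasAntidiagonal.mem_antidiagonal.2 (by
        show r + 1 + (s + 1) = r + s + 1 + 1
        omega)) hwh
  obtain ⟨-, hwhπ, -⟩ := (tens_mem_Zn G G').1 (KH_le_Zn cA' cB' _ hwhK)
  have hwh0 : wh = 0 := (kunneth cA' cB' D.hA' D.hB' (r + s + 1 + 1)).disj wh hwhK
    ((tens_mem_Bn G G').2 ⟨⟨α, hαT, hDα⟩, hwhπ⟩)
  rw [hwh0, zero_add]
  exact hwb

end KD

/-- compatibility of the Künneth map with operators acting on the two factors -/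
theorem Xi_equiv {G : GD k V} {G' : GD k W} {A₁' A₁ A₂' A₂ : Submodule k V}
    {B₁' B₁ B₂' B₂ : Submodule k W} (D₂ : KD G G' A₂' A₂ B₂' B₂) {r s : ℕ} (hr : 1 ≤ r)
    (hs : 1 ≤ s) (ρ : V →ₗ[k] V) (τ : W →ₗ[k] W)
    (hρd : ∀ v, G.d (ρ v) = ρ (G.d v)) (hρσ : ∀ v, G.σ (ρ v) = ρ (G.σ v))
    (hρπ : ∀ i v, G.π i (ρ v) = ρ (G.π i v))
    (hρA : ∀ a ∈ A₁, ρ a ∈ A₂) (hρA' : ∀ a ∈ A₁', ρ a ∈ A₂')
    (hτd : ∀ v, G'.d (τ v) = τ (G'.d v)) (hτπ : ∀ i v, G'.π i (τ v) = τ (G'.π i v))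
    (hτB : ∀ b ∈ B₁, τ b ∈ B₂) (hτB' : ∀ b ∈ B₁', τ b ∈ B₂')
    {g₁ g₁' : V →ₗ[k] V} {g₂ g₂' : W →ₗ[k] W} (h₁ : IsLift G A₁' A₁ r g₁)
    (h₂ : IsLift G' B₁' B₁ s g₂) (h₁' : IsLift G A₂' A₂ r g₁') (h₂' : IsLift G' B₂' B₂ s g₂') :
    ∀ w ∈ T2 (G.Zn A₁' (r + 1)) (G'.Zn B₁' (s + 1)),
      TensorProduct.map ρ τ (Xi G g₁ g₂ w) - Xi G g₁' g₂' (TensorProduct.map ρ τ w) ∈
        (tens G G').Bn (T2 A₂' B₂ ⊔ T2 A₂ B₂') (r + s + 1) :=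
  T2_map_mem (TensorProduct.map ρ τ ∘ₗ Xi G g₁ g₂ - Xi G g₁' g₂' ∘ₗ TensorProduct.map ρ τ) _
    (fun x hx y hy => by
      show TensorProduct.map ρ τ (Xi G g₁ g₂ (x ⊗ₜ[k] y)) -
        Xi G g₁' g₂' (TensorProduct.map ρ τ (x ⊗ₜ[k] y)) ∈ _
      rw [Xi_tmul, map_sub, TensorProduct.map_tmul, TensorProduct.map_tmul,
        TensorProduct.map_tmul, Xi_tmul, ← hρσ]
      have hX : ρ x ∈ G.Zn A₂' (r + 1) := map_Zn G ρ hρd hρπ hρA' hx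
      have hY : τ y ∈ G'.Zn B₂' (s + 1) := map_Zn G' τ hτd hτπ hτB' hy
      exact D₂.elem_indep hr hs hX hY (hρA _ (h₁.mem x hx)) (map_Vn G ρ hρπ (h₁.deg x hx))
        (by rw [hρd, h₁.d_eq x hx]) (h₁'.mem _ hX) (h₁'.deg _ hX) (h₁'.d_eq _ hX)
        (hτB _ (h₂.mem y hy)) (map_Vn G' τ hτπ (h₂.deg y hy)) (by rw [hτd, h₂.d_eq y hy])
        (h₂'.mem _ hY) (h₂'.deg _ hY) (h₂'.d_eq _ hY))

/-- a nonzero class of the sum in the top degree is detected by a pair of operators, when the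
classes of the two factors are -/
theorem top_ess {G : GD k V} {G' : GD k W} {A₁' A₁ A₂' A₂ : Submodule k V}
    {B₁' B₁ B₂' B₂ : Submodule k W} (D₁ : KD G G' A₁' A₁ B₁' B₁) (D₂ : KD G G' A₂' A₂ B₂' B₂)
    {r s : ℕ} (hr : 1 ≤ r) (hs : 1 ≤ s)
    (vA : ∀ i, r + 1 < i → G.Zn A₁' i ≤ G.Bn A₁' i)
    (vB : ∀ j, s + 1 < j → G'.Zn B₁' j ≤ G'.Bn B₁' j)
    (𝓡 : Set (V →ₗ[k] V)) (𝓢 : Set (W →ₗ[k] W))
    (hρd : ∀ ρ ∈ 𝓡, ∀ v, G.d (ρ v) = ρ (G.d v)) (hρσ : ∀ ρ ∈ 𝓡, ∀ v, G.σ (ρ v) = ρ (G.σ v))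
    (hρπ : ∀ ρ ∈ 𝓡, ∀ i v, G.π i (ρ v) = ρ (G.π i v))
    (hρA : ∀ ρ ∈ 𝓡, ∀ a ∈ A₁, ρ a ∈ A₂) (hρA' : ∀ ρ ∈ 𝓡, ∀ a ∈ A₁', ρ a ∈ A₂')
    (hτd : ∀ τ ∈ 𝓢, ∀ v, G'.d (τ v) = τ (G'.d v))
    (hτπ : ∀ τ ∈ 𝓢, ∀ i v, G'.π i (τ v) = τ (G'.π i v))
    (hτB : ∀ τ ∈ 𝓢, ∀ b ∈ B₁, τ b ∈ B₂) (hτB' : ∀ τ ∈ 𝓢, ∀ b ∈ B₁', τ b ∈ B₂')
    (essA : ∀ x ∈ G.Zn A₁' (r + 1), x ∉ G.Bn A₁' (r + 1) → ∃ ρ ∈ 𝓡, ρ x ∉ G.Bn A₂' (r + 1))
    (essB : ∀ y ∈ G'.Zn B₁' (s + 1), y ∉ G'.Bn B₁' (s + 1) →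
      ∃ τ ∈ 𝓢, τ y ∉ G'.Bn B₂' (s + 1))
    (ζ : V ⊗[k] W) (hζ : ζ ∈ (tens G G').Zn (T2 A₁' B₁ ⊔ T2 A₁ B₁') (r + s + 1))
    (hζb : ζ ∉ (tens G G').Bn (T2 A₁' B₁ ⊔ T2 A₁ B₁') (r + s + 1)) :
    ∃ ρ ∈ 𝓡, ∃ τ ∈ 𝓢,
      TensorProduct.map ρ τ ζ ∉ (tens G G').Bn (T2 A₂' B₂ ⊔ T2 A₂ B₂') (r + s + 1) := by
  obtain ⟨cA₁⟩ := G.exists_contr D₁.hA
  obtain ⟨cB₁⟩ := G'.exists_contr D₁.hB
  obtain ⟨cA₁'⟩ := G.exists_contr D₁.hA'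
  obtain ⟨cB₁'⟩ := G'.exists_contr D₁.hB'
  obtain ⟨cA₂⟩ := G.exists_contr D₂.hA
  obtain ⟨cB₂⟩ := G'.exists_contr D₂.hB
  have l₁A : IsLift G A₁' A₁ r cA₁.h := isLift_h D₁.hAA cA₁ r (D₁.exA r)
  have l₁B : IsLift G' B₁' B₁ s cB₁.h := isLift_h D₁.hBB cB₁ s (D₁.exB s)
  have l₂A : IsLift G A₂' A₂ r cA₂.h := isLift_h D₂.hAA cA₂ r (D₂.exA r)
  have l₂B : IsLift G' B₂' B₂ s cB₂.h := isLift_h D₂.hBB cB₂ s (D₂.exB s)
  obtain ⟨w, hw, hwb⟩ := D₁.Xi_span hr hs vA vB l₁A l₁B ζ hζ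
  have hwN : w ∉ T2 (G.Bn A₁' (r + 1)) (G'.Zn B₁' (s + 1)) ⊔
      T2 (G.Zn A₁' (r + 1)) (G'.Bn B₁' (s + 1)) := by
    intro h
    apply hζb
    have h1 := D₁.Xi_bdry hr hs l₁A l₁B w h
    have e : ζ = (ζ - Xi G cA₁.h cB₁.h w) + Xi G cA₁.h cB₁.h w := by abel
    rw [e]
    exact add_mem hwb h1
  by_contra hcon
  push_neg at hcon
  apply hwN
  refine pair_detect (G.Zn A₁' (r + 1)) (G.Bn A₁' (r + 1)) (cA₁'.ℋ (r + 1))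
    (G'.Zn B₁' (s + 1)) (G'.Bn B₁' (s + 1)) (cB₁'.ℋ (s + 1))
    (cA₁'.ℋ_le _) (cA₁'.rep _).disj (cA₁'.rep _).span
    (cB₁'.ℋ_le _) (cB₁'.rep _).disj (cB₁'.rep _).span
    (G.Zn A₂' (r + 1)) (G.Bn A₂' (r + 1)) (G'.Zn B₂' (s + 1)) (G'.Bn B₂' (s + 1)) 𝓡 𝓢
    (fun ρ hρ x hx => map_Zn G ρ (hρd ρ hρ) (hρπ ρ hρ) (hρA' ρ hρ) hx)
    (fun ρ hρ x hx => map_Bn G ρ (hρd ρ hρ) (hρπ ρ hρ) (hρA' ρ hρ) hx)
    (fun τ hτ y hy => map_Zn G' τ (hτd τ hτ) (hτπ τ hτ) (hτB' τ hτ) hy)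
    (fun τ hτ y hy => map_Bn G' τ (hτd τ hτ) (hτπ τ hτ) (hτB' τ hτ) hy)
    essA essB w hw (fun ρ hρ τ hτ => ?_)
  apply D₂.Xi_inj hr hs l₂A l₂B (TensorProduct.map ρ τ w)
    (map_mem_T2 ρ τ (fun x hx => map_Zn G ρ (hρd ρ hρ) (hρπ ρ hρ) (hρA' ρ hρ) hx)
      (fun y hy => map_Zn G' τ (hτd τ hτ) (hτπ τ hτ) (hτB' τ hτ) hy) w hw)
  have e1 := Xi_equiv D₂ hr hs ρ τ (hρd ρ hρ) (hρσ ρ hρ) (hρπ ρ hρ) (hρA ρ hρ) (hρA' ρ hρ)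
    (hτd τ hτ) (hτπ τ hτ) (hτB τ hτ) (hτB' τ hτ) l₁A l₁B l₂A l₂B w hw
  have e2 : TensorProduct.map ρ τ (Xi G cA₁.h cB₁.h w) ∈
      (tens G G').Bn (T2 A₂' B₂ ⊔ T2 A₂ B₂') (r + s + 1) := by
    have e3 : TensorProduct.map ρ τ (ζ - Xi G cA₁.h cB₁.h w) ∈
        (tens G G').Bn (T2 A₂' B₂ ⊔ T2 A₂ B₂') (r + s + 1) :=
      map_Bn (tens G G') (TensorProduct.map ρ τ)
        (tD_map G G' ρ τ (hρd ρ hρ) (hρσ ρ hρ) (hτd τ hτ))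
        (fun i v => tπ_map G G' ρ τ (hρπ ρ hρ) (hτπ τ hτ) i v)
        (map_sum_mem ρ τ (hρA ρ hρ) (hρA' ρ hρ) (hτB τ hτ) (hτB' τ hτ)) hwb
    have e4 : TensorProduct.map ρ τ (Xi G cA₁.h cB₁.h w) =
        TensorProduct.map ρ τ ζ - TensorProduct.map ρ τ (ζ - Xi G cA₁.h cB₁.h w) := by
      rw [map_sub]
      abel
    rw [e4]
    exact sub_mem (hcon ρ hρ τ hτ) e3
  have e5 : Xi G cA₂.h cB₂.h (TensorProduct.map ρ τ w) =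
      TensorProduct.map ρ τ (Xi G cA₁.h cB₁.h w) -
        (TensorProduct.map ρ τ (Xi G cA₁.h cB₁.h w) -
          Xi G cA₂.h cB₂.h (TensorProduct.map ρ τ w)) := by
    abel
  rw [e5]
  exact sub_mem e2 e1

end Groth.Agent.Lib.DVecH1
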