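import Mathlib
import Groth.Agent.Lib.DVec5_helper1

/-! Complements on the top-degree Künneth map: pure tensors of classes (helper1).
APPEND-ONLY once landed. -/

set_option autoImplicit false

namespace Groth.Agent.Lib.DVecH1

open scoped TensorProduct

universe u

variable {k : Type u} [Field k] {V : Type u} [AddCommGroup V] [Module k V]
  {W : Type u} [AddCommGroup W] [Module k W]

/-- a pure tensor in `BA ⊗ ZB + ZA ⊗ BB` has a factor in `BA` or in `BB` -/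
theorem pure_mem {ZA BA : Submodule k V} {ZB BB : Submodule k W} {x : V} {y : W}
    (h : x ⊗ₜ[k] y ∈ T2 BA ZB ⊔ T2 ZA BB) : x ∈ BA ∨ y ∈ BB := by
  by_contra hcon
  rw [not_or] at hcon
  obtain ⟨f, hf, hfB⟩ := Submodule.exists_le_ker_of_notMem hcon.1
  obtain ⟨g, hg, hgB⟩ := Submodule.exists_le_ker_of_notMem hcon.2
  have h4 : T2 BA ZB ⊔ T2 ZA BB ≤ LinearMap.ker (TensorProduct.map f g) :=
    sup_le
      (T2_le (fun a ha b _ => by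
        rw [LinearMap.mem_ker, TensorProduct.map_tmul, LinearMap.mem_ker.1 (hfB ha),
          TensorProduct.zero_tmul]))
      (T2_le (fun a _ b hb => by
        rw [LinearMap.mem_ker, TensorProduct.map_tmul, LinearMap.mem_ker.1 (hgB hb),
          TensorProduct.tmul_zero]))
  have h5 := LinearMap.mem_ker.1 (h4 h)
  rw [TensorProduct.map_tmul] at h5
  have h6 : TensorProduct.lid k k (f x ⊗ₜ[k] g y) = 0 := by rw [h5, map_zero]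
  rw [TensorProduct.lid_tmul, smul_eq_mul] at h6
  exact mul_ne_zero hf hg h6

namespace KD

variable {G : GD k V} {G' : GD k W} {A' A : Submodule k V} {B' B : Submodule k W}
  (D : KD G G' A' A B' B)

include D in
/-- the Künneth map carries the tensor of two cocycles which are not coboundaries to a cocycle
which is not a coboundary -/
theorem Xi_pure_notMem {r s : ℕ} (hr : 1 ≤ r) (hs : 1 ≤ s) {g₁ : V →ₗ[k] V} {g₂ : W →ₗ[k] W}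
    (h₁ : IsLift G A' A r g₁) (h₂ : IsLift G' B' B s g₂) {x : V} {y : W}
    (hx : x ∈ G.Zn A' (r + 1)) (hxb : x ∉ G.Bn A' (r + 1))
    (hy : y ∈ G'.Zn B' (s + 1)) (hyb : y ∉ G'.Bn B' (s + 1)) :
    Xi G g₁ g₂ (x ⊗ₜ[k] y) ∉ (tens G G').Bn (T2 A' B ⊔ T2 A B') (r + s + 1) := by
  intro hb
  rcases pure_mem (D.Xi_inj hr hs h₁ h₂ _ (tmul_mem_T2 hx hy) hb) with h | h
  · exact hxb h
  · exact hyb h

end KD

/-- a pair of operators one of which kills the class of its factor kills the class of the image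
of a pure tensor under the Künneth map -/
theorem Xi_map_bdry {G : GD k V} {G' : GD k W} {A₁' A₁ A₂' A₂ : Submodule k V}
    {B₁' B₁ B₂' B₂ : Submodule k W} (D₂ : KD G G' A₂' A₂ B₂' B₂) {r s : ℕ} (hr : 1 ≤ r)
    (hs : 1 ≤ s) (ρ : V →ₗ[k] V) (τ : W →ₗ[k] W)
    (hρd : ∀ v, G.d (ρ v) = ρ (G.d v)) (hρσ : ∀ v, G.σ (ρ v) = ρ (G.σ v))
    (hρπ : ∀ i v, G.π i (ρ v) = ρ (G.π i v))
    (hρA : ∀ a ∈ A₁, ρ a ∈ A₂) (hρA' : ∀ a ∈ A₁', ρ a ∈ A₂')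
    (hτd : ∀ v, G'.d (τ v) = τ (G'.d v)) (hτπ : ∀ i v, G'.π i (τ v) = τ (G'.π i v))
    (hτB : ∀ b ∈ B₁, τ b ∈ B₂) (hτB' : ∀ b ∈ B₁', τ b ∈ B₂')
    {g₁ : V →ₗ[k] V} {g₂ : W →ₗ[k] W} (h₁ : IsLift G A₁' A₁ r g₁)
    (h₂ : IsLift G' B₁' B₁ s g₂) {x : V} {y : W}
    (hx : x ∈ G.Zn A₁' (r + 1)) (hy : y ∈ G'.Zn B₁' (s + 1))
    (hor : ρ x ∈ G.Bn A₂' (r + 1) ∨ τ y ∈ G'.Bn B₂' (s + 1)) :
    TensorProduct.map ρ τ (Xi G g₁ g₂ (x ⊗ₜ[k] y)) ∈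
      (tens G G').Bn (T2 A₂' B₂ ⊔ T2 A₂ B₂') (r + s + 1) := by
  obtain ⟨cA₂⟩ := G.exists_contr D₂.hA
  obtain ⟨cB₂⟩ := G'.exists_contr D₂.hB
  have l₂A : IsLift G A₂' A₂ r cA₂.h := isLift_h D₂.hAA cA₂ r (D₂.exA r)
  have l₂B : IsLift G' B₂' B₂ s cB₂.h := isLift_h D₂.hBB cB₂ s (D₂.exB s)
  have e1 := Xi_equiv D₂ hr hs ρ τ hρd hρσ hρπ hρA hρA' hτd hτπ hτB hτB' h₁ h₂ l₂A l₂B
    (x ⊗ₜ[k] y) (tmul_mem_T2 hx hy)
  have hX : ρ x ∈ G.Zn A₂' (r + 1) := map_Zn G ρ hρd hρπ hρA' hx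
  have hY : τ y ∈ G'.Zn B₂' (s + 1) := map_Zn G' τ hτd hτπ hτB' hy
  have e2 : Xi G cA₂.h cB₂.h (TensorProduct.map ρ τ (x ⊗ₜ[k] y)) ∈
      (tens G G').Bn (T2 A₂' B₂ ⊔ T2 A₂ B₂') (r + s + 1) := by
    apply D₂.Xi_bdry hr hs l₂A l₂B
    rw [TensorProduct.map_tmul]
    rcases hor with h | h
    · exact Submodule.mem_sup_left (tmul_mem_T2 h hY)
    · exact Submodule.mem_sup_right (tmul_mem_T2 hX h)
  have e3 : TensorProduct.map ρ τ (Xi G g₁ g₂ (x ⊗ₜ[k] y)) =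
      (TensorProduct.map ρ τ (Xi G g₁ g₂ (x ⊗ₜ[k] y)) -
        Xi G cA₂.h cB₂.h (TensorProduct.map ρ τ (x ⊗ₜ[k] y))) +
      Xi G cA₂.h cB₂.h (TensorProduct.map ρ τ (x ⊗ₜ[k] y)) := by abel
  rw [e3]
  exact add_mem e1 e2

end Groth.Agent.Lib.DVecH1
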