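import Mathlib
import Groth.Agent.Lib.DVec6_helper1

/-! The top-degree Künneth map on spaces of representatives: the image of the tensor product of two
spaces of representatives is a space of representatives of the top cohomology of the sum
(helper1). APPEND-ONLY once landed. -/

set_option autoImplicit false

namespace Groth.Agent.Lib.DVecH1

open scoped TensorProduct

universe u

variable {k : Type u} [Field k] {V : Type u} [AddCommGroup V] [Module k V]
  {W : Type u} [AddCommGroup W] [Module k W]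

/-- the tensors of representatives meet the boundary part trivially -/
theorem T2_rep_disj {ZA BA HA : Submodule k V} {ZB BB HB : Submodule k W}
    (hdA : ∀ x ∈ HA, x ∈ BA → x = 0) (hdB : ∀ y ∈ HB, y ∈ BB → y = 0)
    (w : V ⊗[k] W) (hw : w ∈ T2 HA HB) (hwb : w ∈ T2 BA ZB ⊔ T2 ZA BB) : w = 0 := by
  rw [T2_eq_range] at hw
  obtain ⟨w', rfl⟩ := hw
  have hw'0 : w' = 0 := by
    apply tensor_detect
      {F : ↥HA →ₗ[k] k | ∃ l : V →ₗ[k] k, BA ≤ LinearMap.ker l ∧ F = l ∘ₗ HA.subtype}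
      {F : ↥HB →ₗ[k] k | ∃ l : W →ₗ[k] k, BB ≤ LinearMap.ker l ∧ F = l ∘ₗ HB.subtype}
    · intro x hx
      by_contra hx0
      have hxB : (x : V) ∉ BA := fun h => hx0 (Subtype.ext (hdA x.1 x.2 h))
      obtain ⟨l, hl, hlB⟩ := Submodule.exists_le_ker_of_notMem hxB
      exact hl (hx _ ⟨l, hlB, rfl⟩)
    · intro y hy
      by_contra hy0
      have hyB : (y : W) ∉ BB := fun h => hy0 (Subtype.ext (hdB y.1 y.2 h))
      obtain ⟨l, hl, hlB⟩ := Submodule.exists_le_ker_of_notMem hyB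
      exact hl (hy _ ⟨l, hlB, rfl⟩)
    · rintro F ⟨l, hl, rfl⟩ G ⟨l', hl', rfl⟩
      rw [← TensorProduct.map_map]
      have h4 : T2 BA ZB ⊔ T2 ZA BB ≤ LinearMap.ker (TensorProduct.map l l') :=
        sup_le
          (T2_le (fun a ha b _ => by
            rw [LinearMap.mem_ker, TensorProduct.map_tmul, LinearMap.mem_ker.1 (hl ha),
              TensorProduct.zero_tmul]))
          (T2_le (fun a _ b hb => by
            rw [LinearMap.mem_ker, TensorProduct.map_tmul, LinearMap.mem_ker.1 (hl' hb),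
              TensorProduct.tmul_zero]))
      exact LinearMap.mem_ker.1 (h4 hwb)
  rw [hw'0, map_zero]

namespace KD

variable {G : GD k V} {G' : GD k W} {A' A : Submodule k V} {B' B : Submodule k W}
  (D : KD G G' A' A B' B)

include D in
/-- the image of the tensor product of two spaces of representatives under the Künneth map is a
space of representatives of the top cohomology of the sum, of the product dimension -/
theorem top_rep {r s : ℕ} (hr : 1 ≤ r) (hs : 1 ≤ s)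
    (vA : ∀ i, r + 1 < i → G.Zn A' i ≤ G.Bn A' i)
    (vB : ∀ j, s + 1 < j → G'.Zn B' j ≤ G'.Bn B' j) {g₁ : V →ₗ[k] V} {g₂ : W →ₗ[k] W}
    (h₁ : IsLift G A' A r g₁) (h₂ : IsLift G' B' B s g₂)
    {ℋA : Submodule k V} {ℋB : Submodule k W} (hA : G.Rep A' (r + 1) ℋA)
    (hB : G'.Rep B' (s + 1) ℋB) :
    (tens G G').Rep (T2 A' B ⊔ T2 A B') (r + s + 1) ((T2 ℋA ℋB).map (Xi G g₁ g₂)) ∧
      Module.finrank k ↥((T2 ℋA ℋB).map (Xi G g₁ g₂)) =
        Module.finrank k ↥ℋA * Module.finrank k ↥ℋB := by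
  have hHZ : T2 ℋA ℋB ≤ T2 (G.Zn A' (r + 1)) (G'.Zn B' (s + 1)) := T2_mono hA.le hB.le
  have hinj0 : ∀ w ∈ T2 ℋA ℋB,
      Xi G g₁ g₂ w ∈ (tens G G').Bn (T2 A' B ⊔ T2 A B') (r + s + 1) → w = 0 := by
    intro w hw hb
    exact T2_rep_disj hA.disj hB.disj w hw (D.Xi_inj hr hs h₁ h₂ w (hHZ hw) hb)
  refine ⟨⟨?_, ?_, ?_⟩, ?_⟩
  · rintro _ ⟨w, hw, rfl⟩
    exact D.Xi_mem h₁ h₂ w (hHZ hw)
  · rintro _ ⟨w, hw, rfl⟩ hb
    rw [hinj0 w hw hb, map_zero]
  · intro ζ hζ
    obtain ⟨w, hw, hwb⟩ := D.Xi_span hr hs vA vB h₁ h₂ ζ hζ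
    obtain ⟨wh, hwh, wb, hwb', rfl⟩ := Submodule.mem_sup.1 (T2_split hA.le hA.span hB.span hw)
    refine ⟨Xi G g₁ g₂ wh, ⟨wh, hwh, rfl⟩, ?_⟩
    have h3 := D.Xi_bdry hr hs h₁ h₂ wb hwb'
    have e : ζ - Xi G g₁ g₂ wh = (ζ - Xi G g₁ g₂ (wh + wb)) + Xi G g₁ g₂ wb := by
      rw [map_add]
      abel
    rw [e]
    exact add_mem hwb h3
  · have hinj : Function.Injective ((Xi G g₁ g₂).domRestrict (T2 ℋA ℋB)) := by
      rw [injective_iff_map_eq_zero]
      intro w hw0
      apply Subtype.ext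
      apply hinj0 w.1 w.2
      have h1 : Xi G g₁ g₂ w.1 = 0 := hw0
      rw [h1]
      exact zero_mem _
    rw [← LinearMap.range_domRestrict, LinearMap.finrank_range_of_inj hinj, T2_eq_range,
      LinearMap.finrank_range_of_inj (mapIncl_injective _ _), Module.finrank_tensorProduct]

end KD

end Groth.Agent.Lib.DVecH1
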