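import Mathlib

set_option autoImplicit false

universe u

namespace Groth.Agent.Lib.DZeroH1

open TensorProduct MvPolynomial

section field

variable (K L : Type*) [Field K] [Field L] [Algebra K L]

open scoped IntermediateField.algebraAdjoinAdjoin in
/-- In characteristic zero, an element of a field extension with vanishing differential is
algebraic. -/
theorem isAlgebraic_of_D_eq_zero [CharZero K] (x : L) (hx : KaehlerDifferential.D K L x = 0) :
    IsAlgebraic K x := by
  by_contra htr
  have htr' : Transcendental K x := htr
  have hs : AlgebraicIndepOn K id ({x} : Set L) := by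
    refine algebraicIndependent_unique_type_iff.mpr ?_
    exact htr'
  obtain ⟨t, hst, ht⟩ := exists_isTranscendenceBasis_superset hs
  obtain ⟨v, hv⟩ : ∃ v : t → L, v = ((↑) : t → L) := ⟨_, rfl⟩
  rw [← hv] at ht
  have hb : AlgebraicIndependent K v := ht.1
  let i₀ : t := ⟨x, hst rfl⟩
  have hvi : v i₀ = x := by rw [hv]
  have halg : Algebra.IsAlgebraic (IntermediateField.adjoin K (Set.range v)) L :=
    ht.isAlgebraic_field
  haveI : CharZero (IntermediateField.adjoin K (Set.range v)) :=
    charZero_of_injective_algebraMap (algebraMap K _).injective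
  haveI : Algebra.IsSeparable (IntermediateField.adjoin K (Set.range v)) L := inferInstance
  haveI e1 : Algebra.FormallyEtale (IntermediateField.adjoin K (Set.range v)) L :=
    Algebra.FormallyEtale.of_isSeparable _ L
  haveI e2 : Algebra.FormallyEtale (Algebra.adjoin K (Set.range v))
      (IntermediateField.adjoin K (Set.range v)) := .of_isLocalization (nonZeroDivisors _)
  haveI e3 : Algebra.FormallyEtale (Algebra.adjoin K (Set.range v)) L :=
    .comp _ (IntermediateField.adjoin K (Set.range v)) _
  -- the derivation `∂/∂x`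
  have hcoe : ∀ a : Algebra.adjoin K (Set.range v),
      aeval v (hb.aevalEquiv.symm a) = (a : L) := by
    intro a
    have := hb.algebraMap_aevalEquiv (hb.aevalEquiv.symm a)
    rw [AlgEquiv.apply_symm_apply] at this
    exact this.symm
  let δl : Algebra.adjoin K (Set.range v) →ₗ[K] L :=
    (aeval v).toLinearMap ∘ₗ (pderiv i₀ : Derivation K (MvPolynomial t K) (MvPolynomial t K)).toLinearMap
      ∘ₗ hb.aevalEquiv.symm.toLinearMap
  have hδl : ∀ a, δl a = aeval v (pderiv i₀ (hb.aevalEquiv.symm a)) := fun a => rfl
  let δ : Derivation K (Algebra.adjoin K (Set.range v)) L := Derivation.mk' δl (by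
    intro a b
    rw [hδl, hδl, hδl, map_mul, Derivation.leibniz, map_add, smul_eq_mul, smul_eq_mul, map_mul,
      map_mul, hcoe, hcoe, Algebra.smul_def, Algebra.smul_def]
    rfl)
  have hδ : ∀ a, δ a = aeval v (pderiv i₀ (hb.aevalEquiv.symm a)) := fun a => rfl
  let s₀ : Algebra.adjoin K (Set.range v) := ⟨x, Algebra.subset_adjoin ⟨i₀, hvi⟩⟩
  have hs₀ : hb.aevalEquiv.symm s₀ = X i₀ := by
    rw [AlgEquiv.symm_apply_eq]
    apply Subtype.ext
    rw [hb.aevalEquiv_apply_coe, aeval_X, hvi]
  have h1 := KaehlerDifferential.tensorKaehlerEquivOfFormallyEtale_symm_D_algebraMap K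
    (Algebra.adjoin K (Set.range v)) L s₀
  have h2 : algebraMap (Algebra.adjoin K (Set.range v)) L s₀ = x := rfl
  rw [h2, hx, map_zero] at h1
  have h3 := congrArg (LinearMap.liftBaseChange L δ.liftKaehlerDifferential) h1
  rw [map_zero, LinearMap.liftBaseChange_tmul, one_smul,
    Derivation.liftKaehlerDifferential_comp_D, hδ, hs₀, pderiv_X_self, map_one] at h3
  exact zero_ne_one h3

end field

theorem main13153 (R : Type u) [CommRing R] [IsDomain R]
    [IsDiscreteValuationRing R] [CharZero R] (K : Type u) [Field K] [Algebra R K] [IsFractionRing R K]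
    (A : Type u) [CommRing A] [IsDomain A] [Algebra R A] [Module.FaithfullyFlat R A]
    (L : Type u) [Field L] [Algebra A L] [IsFractionRing A L] [Algebra R L] [Algebra K L]
    [IsScalarTower R A L] [IsScalarTower R K L]
    (hac : ∀ x : L, IsAlgebraic K x → x ∈ (algebraMap K L).range)
    (f : A) (hf : KaehlerDifferential.D R A f = 0) : f ∈ (algebraMap R A).range := by
  haveI : CharZero K := charZero_of_injective_algebraMap (IsFractionRing.injective R K)
  have h1 : KaehlerDifferential.D K L (algebraMap A L f) = 0 := by
    rw [← KaehlerDifferential.map_D R K A L f, hf, map_zero]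
  have h2 := isAlgebraic_of_D_eq_zero K L _ h1
  obtain ⟨κ, hκ⟩ := hac _ h2
  obtain ⟨a, b, hb, hab⟩ := IsFractionRing.div_surjective (A := R) κ
  have hb0 : algebraMap R K b ≠ 0 := by
    intro h0
    have := IsFractionRing.injective R K (h0.trans (map_zero _).symm)
    exact nonZeroDivisors.ne_zero hb this
  have hinjL : Function.Injective (algebraMap A L) := IsFractionRing.injective A L
  have hcm : ∀ I : Ideal R, (I.map (algebraMap R A)).comap (algebraMap R A) = I :=
    fun I => Ideal.comap_map_eq_self_of_faithfullyFlat I
  have hinjA : Function.Injective (algebraMap R A) := by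
    rw [injective_iff_map_eq_zero]
    intro r hr
    have : r ∈ ((⊥ : Ideal R).map (algebraMap R A)).comap (algebraMap R A) := by
      rw [Ideal.mem_comap, hr]
      exact Ideal.zero_mem _
    rw [hcm] at this
    exact this
  have h3 : algebraMap R A b * f = algebraMap R A a := by
    apply hinjL
    have h4 : algebraMap K L (algebraMap R K b) * algebraMap K L κ =
        algebraMap K L (algebraMap R K a) := by
      rw [← map_mul, ← hab, mul_div_cancel₀ _ hb0]
    rw [map_mul, ← IsScalarTower.algebraMap_apply, ← IsScalarTower.algebraMap_apply,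
      IsScalarTower.algebraMap_apply R K L, IsScalarTower.algebraMap_apply R K L a, ← h4]
    congr 1
    exact hκ.symm
  have h5 : a ∈ ((Ideal.span {b}).map (algebraMap R A)).comap (algebraMap R A) := by
    rw [Ideal.mem_comap, ← h3]
    exact Ideal.mul_mem_right _ _ (Ideal.mem_map_of_mem _ (Ideal.mem_span_singleton_self b))
  rw [hcm, Ideal.mem_span_singleton'] at h5
  obtain ⟨r, hr⟩ := h5
  refine ⟨r, ?_⟩
  have hbA : algebraMap R A b ≠ 0 := by
    intro h0
    exact nonZeroDivisors.ne_zero hb (hinjA (h0.trans (map_zero _).symm))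
  apply mul_left_cancel₀ hbA
  rw [h3, ← hr, map_mul, mul_comm]

end Groth.Agent.Lib.DZeroH1
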