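import Mathlib

/-!
# The rank-two algebra `R ⊕ M` attached to a symmetric associative pairing (helper5)
APPEND-ONLY once landed.
-/

set_option autoImplicit false
universe u

namespace Groth.Agent.DblAlg

/-- A symmetric bilinear pairing `β : M × M → R` with `β(x,y) z = β(y,z) x`. -/
structure Pairing (R M : Type u) [CommRing R] [AddCommGroup M] [Module R M] where
  β : M → M → R
  add_left : ∀ x x' y, β (x + x') y = β x y + β x' y
  smul_left : ∀ (r : R) x y, β (r • x) y = r * β x y
  symm : ∀ x y, β x y = β y x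
  assoc : ∀ x y z, β x y • z = β y z • x

variable {R M : Type u} [CommRing R] [AddCommGroup M] [Module R M]

namespace Pairing

variable (D : Pairing R M)

theorem add_right (x y y' : M) : D.β x (y + y') = D.β x y + D.β x y' := by
  rw [D.symm, D.add_left, D.symm y, D.symm y']

theorem smul_right (r : R) (x y : M) : D.β x (r • y) = r * D.β x y := by
  rw [D.symm, D.smul_left, D.symm]

theorem zero_left (y : M) : D.β 0 y = 0 := by
  have := D.smul_left 0 0 y
  rwa [zero_smul, zero_mul] at this

theorem zero_right (x : M) : D.β x 0 = 0 := by rw [D.symm, D.zero_left]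

end Pairing

/-- The double algebra `R ⊕ M` with product `(s,x)(s',x') = (ss' + β(x,x'), s x' + s' x)`. -/
def Dbl (_D : Pairing R M) : Type u := R × M

namespace Dbl

variable {D : Pairing R M}

instance : AddCommGroup (Dbl D) := inferInstanceAs (AddCommGroup (R × M))

instance : Mul (Dbl D) :=
  ⟨fun a b => ((a.1 * b.1 + D.β a.2 b.2, a.1 • b.2 + b.1 • a.2) : R × M)⟩

instance : One (Dbl D) := ⟨(((1 : R), (0 : M)) : R × M)⟩

@[simp] theorem mul_fst (a b : Dbl D) : (a * b).1 = a.1 * b.1 + D.β a.2 b.2 := rfl
@[simp] theorem mul_snd (a b : Dbl D) : (a * b).2 = a.1 • b.2 + b.1 • a.2 := rfl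
@[simp] theorem one_fst : (1 : Dbl D).1 = 1 := rfl
@[simp] theorem one_snd : (1 : Dbl D).2 = 0 := rfl
@[simp] theorem add_fst (a b : Dbl D) : (a + b).1 = a.1 + b.1 := rfl
@[simp] theorem add_snd (a b : Dbl D) : (a + b).2 = a.2 + b.2 := rfl
@[simp] theorem zero_fst : (0 : Dbl D).1 = 0 := rfl
@[simp] theorem zero_snd : (0 : Dbl D).2 = 0 := rfl

@[ext] theorem ext {a b : Dbl D} (h1 : a.1 = b.1) (h2 : a.2 = b.2) : a = b := Prod.ext h1 h2

instance : CommRing (Dbl D) :=
  { (inferInstance : AddCommGroup (Dbl D)), (inferInstance : Mul (Dbl D)),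
    (inferInstance : One (Dbl D)) with
    left_distrib := fun a b c => by
      ext
      · simp only [mul_fst, add_fst, add_snd, D.add_right]; ring
      · simp only [mul_snd, add_fst, add_snd, smul_add, add_smul]; abel
    right_distrib := fun a b c => by
      ext
      · simp only [mul_fst, add_fst, add_snd, D.add_left]; ring
      · simp only [mul_snd, add_fst, add_snd, smul_add, add_smul]; abel
    zero_mul := fun a => by
      ext
      · simp only [mul_fst, zero_fst, zero_snd, D.zero_left, zero_mul, add_zero]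
      · simp only [mul_snd, zero_fst, zero_snd, zero_smul, smul_zero, add_zero]
    mul_zero := fun a => by
      ext
      · simp only [mul_fst, zero_fst, zero_snd, D.zero_right, mul_zero, add_zero]
      · simp only [mul_snd, zero_fst, zero_snd, zero_smul, smul_zero, add_zero]
    mul_assoc := fun a b c => by
      ext
      · simp only [mul_fst, mul_snd, D.add_left, D.add_right, D.smul_left, D.smul_right]; ring
      · simp only [mul_fst, mul_snd, add_smul, smul_add, D.assoc a.2 b.2 c.2]; module
    one_mul := fun a => by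
      ext
      · simp only [mul_fst, one_fst, one_snd, D.zero_left, one_mul, add_zero]
      · simp only [mul_snd, one_fst, one_snd, one_smul, smul_zero, add_zero]
    mul_one := fun a => by
      ext
      · simp only [mul_fst, one_fst, one_snd, D.zero_right, mul_one, add_zero]
      · simp only [mul_snd, one_fst, one_snd, one_smul, smul_zero, zero_add]
    mul_comm := fun a b => by
      ext
      · simp only [mul_fst, D.symm a.2 b.2]; ring
      · simp only [mul_snd]; abel }

/-- The structure map `R → R ⊕ M`. -/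
def inl (D : Pairing R M) : R →+* Dbl D where
  toFun s := ((s, 0) : R × M)
  map_one' := rfl
  map_mul' a b := by
    ext
    · change a * b = a * b + D.β 0 0
      rw [D.zero_left, add_zero]
    · change (0 : M) = a • (0 : M) + b • (0 : M)
      rw [smul_zero, smul_zero, add_zero]
  map_zero' := rfl
  map_add' a b := by
    ext
    · rfl
    · change (0 : M) = 0 + 0
      rw [add_zero]

/-- The inclusion `M → R ⊕ M`. -/
def inr (D : Pairing R M) : M →+ Dbl D where
  toFun x := ((0, x) : R × M)
  map_zero' := rfl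
  map_add' a b := by
    ext
    · change (0 : R) = 0 + 0
      rw [add_zero]
    · rfl

@[simp] theorem inl_fst (s : R) : (inl D s).1 = s := rfl
@[simp] theorem inl_snd (s : R) : (inl D s).2 = 0 := rfl
@[simp] theorem inr_fst (x : M) : (inr D x).1 = 0 := rfl
@[simp] theorem inr_snd (x : M) : (inr D x).2 = x := rfl

theorem inl_add_inr (a : Dbl D) : inl D a.1 + inr D a.2 = a := by
  ext
  · simp only [add_fst, inl_fst, inr_fst, add_zero]
  · simp only [add_snd, inl_snd, inr_snd, zero_add]

theorem inl_mul (s : R) (a : Dbl D) : inl D s * a = ((s * a.1, s • a.2) : R × M) := by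
  ext
  · change s * a.1 + D.β 0 a.2 = s * a.1
    rw [D.zero_left, add_zero]
  · change s • a.2 + a.1 • (0 : M) = s • a.2
    rw [smul_zero, add_zero]

theorem inr_mul_inr (x y : M) : inr D x * inr D y = inl D (D.β x y) := by
  ext
  · change (0 : R) * 0 + D.β x y = D.β x y
    rw [zero_mul, zero_add]
  · change (0 : R) • y + (0 : R) • x = 0
    rw [zero_smul, zero_smul, add_zero]

variable {R' M' : Type u} [CommRing R'] [AddCommGroup M'] [Module R' M'] {D' : Pairing R' M'}

/-- Functoriality of the double algebra. -/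
def map (ρ : R →+* R') (μ : M →+ M') (hμ : ∀ (r : R) (x : M), μ (r • x) = ρ r • μ x)
    (hβ : ∀ x y : M, D'.β (μ x) (μ y) = ρ (D.β x y)) : Dbl D →+* Dbl D' where
  toFun a := ((ρ a.1, μ a.2) : R' × M')
  map_one' := by
    ext
    · exact map_one ρ
    · exact map_zero μ
  map_mul' a b := by
    ext
    · change ρ (a.1 * b.1 + D.β a.2 b.2) = ρ a.1 * ρ b.1 + D'.β (μ a.2) (μ b.2)
      rw [map_add, map_mul, hβ]
    · change μ (a.1 • b.2 + b.1 • a.2) = ρ a.1 • μ b.2 + ρ b.1 • μ a.2
      rw [map_add, hμ, hμ]
  map_zero' := by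
    ext
    · exact map_zero ρ
    · exact map_zero μ
  map_add' a b := by
    ext
    · exact map_add ρ a.1 b.1
    · exact map_add μ a.2 b.2

@[simp] theorem map_fst (ρ : R →+* R') (μ : M →+ M') (hμ : ∀ (r : R) (x : M), μ (r • x) = ρ r • μ x)
    (hβ : ∀ x y : M, D'.β (μ x) (μ y) = ρ (D.β x y)) (a : Dbl D) :
    (map ρ μ hμ hβ a).1 = ρ a.1 := rfl

@[simp] theorem map_snd (ρ : R →+* R') (μ : M →+ M') (hμ : ∀ (r : R) (x : M), μ (r • x) = ρ r • μ x)
    (hβ : ∀ x y : M, D'.β (μ x) (μ y) = ρ (D.β x y)) (a : Dbl D) :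
    (map ρ μ hμ hβ a).2 = μ a.2 := rfl

end Dbl

end Groth.Agent.DblAlg
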