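import Mathlib
import Groth.Prelude
import Groth.Agent.Lib.DblAlg1_helper5
import Groth.Agent.Lib.Tens12_helper8
import Groth.Agent.Lib.QCAlgOfSheaf_helper6

/-!
# The double-cover algebra `O_X ⊕ L` of an invertible module with a pairing (helper5)
APPEND-ONLY once landed.
-/

set_option autoImplicit false
universe u
open CategoryTheory CategoryTheory.Limits AlgebraicGeometry TopologicalSpace Opposite
open QcqsLoc QCohExtn GenLocH8 TensH8 FLFH8

namespace Groth.Agent.DblAlg

variable {X : Scheme.{u}} {L : X.Modules}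

/-- Two sections of a module agreeing locally are equal. -/
theorem section_ext_cover (F : X.Modules) {U : X.Opens} (s t : Γ(F, U))
    (h : ∀ x ∈ U, ∃ (W : X.Opens) (hW : W ≤ U), x ∈ W ∧ rF F hW s = rF F hW t) : s = t := by
  choose W hWU hxW hst using h
  refine TopCat.Sheaf.eq_of_locally_eq' ⟨F.presheaf, F.isSheaf⟩ (fun x : U => W x.1 x.2) U
    (fun x => homOfLE (hWU x.1 x.2)) ?_ _ _ ?_
  · intro x hx
    exact Opens.mem_iSup.mpr ⟨⟨x, hx⟩, hxW x hx⟩
  · intro x
    exact hst x.1 x.2

/-- Two functions agreeing locally are equal. -/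
theorem fun_ext_cover {U : X.Opens} (s t : Γ(X, U))
    (h : ∀ x ∈ U, ∃ (W : X.Opens) (hW : W ≤ U), x ∈ W ∧ rX hW s = rX hW t) : s = t := by
  choose W hWU hxW hst using h
  refine TopCat.Sheaf.eq_of_locally_eq' X.sheaf (fun x : U => W x.1 x.2) U
    (fun x => homOfLE (hWU x.1 x.2)) ?_ _ _ ?_
  · intro x hx
    exact Opens.mem_iSup.mpr ⟨⟨x, hx⟩, hxW x hx⟩
  · intro x
    exact hst x.1 x.2

theorem rX_self {W : X.Opens} (h : W ≤ W) (c : Γ(X, W)) : rX h c = c := by
  have e : (homOfLE h).op = 𝟙 (op W) := rfl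
  show (X.presheaf.map (homOfLE h).op).hom c = c
  rw [e, X.presheaf.map_id]
  rfl

variable (m : CohB1.tensorMod L L ⟶ Coh.structureModule X)

/-- The pairing on sections. -/
noncomputable def pair (U : X.Opens) (l l' : Γ(L, U)) : Γ(X, U) :=
  ofM (ap m U (SecTwist.tmul L L U l l'))

theorem pair_add_left (U : X.Opens) (l₁ l₂ l' : Γ(L, U)) :
    pair m U (l₁ + l₂) l' = pair m U l₁ l' + pair m U l₂ l' := by
  have h := tmul_add_left (M := L) (N := L) U l₁ l₂ l'
  unfold pair
  exact (congrArg (fun t => ofM (ap m U t)) h).trans (congrArg ofM (map_add (ap m U) _ _))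

theorem pair_smul_left (U : X.Opens) (r : Γ(X, U)) (l l' : Γ(L, U)) :
    pair m U (r • l) l' = r * pair m U l l' := by
  have h := tmul_smul_left (M := L) (N := L) U r l l'
  unfold pair
  exact (congrArg (fun t => ofM (ap m U t)) h).trans (congrArg ofM (ap_smul m r _))

theorem pair_smul_right (U : X.Opens) (r : Γ(X, U)) (l l' : Γ(L, U)) :
    pair m U l (r • l') = r * pair m U l l' := by
  have h := tmul_smul_right (M := L) (N := L) U r l l'
  unfold pair
  exact (congrArg (fun t => ofM (ap m U t)) h).trans (congrArg ofM (ap_smul m r _))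

theorem rX_pair {U V : X.Opens} (h : V ≤ U) (l l' : Γ(L, U)) :
    rX h (pair m U l l') = pair m V (rF L h l) (rF L h l') := by
  have h1 := rF_tmul L L h l l'
  have h2 := ap_rF m h (SecTwist.tmul L L U l l')
  unfold pair
  exact (congrArg ofM h2.symm).trans (congrArg (fun t => ofM (ap m V t)) h1)

theorem pair_comm (hL : PicF.IsInvertible L) (U : X.Opens) (l l' : Γ(L, U)) :
    pair m U l l' = pair m U l' l := by
  refine fun_ext_cover _ _ (fun x hx => ?_)
  obtain ⟨W, -, hxW, hWU, e, he⟩ := exists_isGen_le hL x U hx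
  refine ⟨W, hWU, hxW, ?_⟩
  obtain ⟨a, ha⟩ := (he W le_rfl).1 (rF L hWU l)
  obtain ⟨b, hb⟩ := (he W le_rfl).1 (rF L hWU l')
  rw [SubExt.rF_self] at ha hb
  rw [rX_pair, rX_pair, ha, hb, pair_smul_left, pair_smul_right, pair_smul_left, pair_smul_right]
  ring

theorem pair_assoc (hL : PicF.IsInvertible L) (U : X.Opens) (x y z : Γ(L, U)) :
    pair m U x y • z = pair m U y z • x := by
  refine section_ext_cover L _ _ (fun p hp => ?_)
  obtain ⟨W, -, hpW, hWU, e, he⟩ := exists_isGen_le hL p U hp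
  refine ⟨W, hWU, hpW, ?_⟩
  obtain ⟨a, ha⟩ := (he W le_rfl).1 (rF L hWU x)
  obtain ⟨b, hb⟩ := (he W le_rfl).1 (rF L hWU y)
  obtain ⟨c, hc⟩ := (he W le_rfl).1 (rF L hWU z)
  rw [SubExt.rF_self] at ha hb hc
  rw [rF_smul, rF_smul, rX_pair, rX_pair, ha, hb, hc, pair_smul_left, pair_smul_right,
    pair_smul_left, pair_smul_right, smul_smul, smul_smul]
  congr 1
  ring

/-- The pairing data over an open. -/
noncomputable def pairing (hL : PicF.IsInvertible L) (U : X.Opens) : Pairing Γ(X, U) Γ(L, U) where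
  β := pair m U
  add_left := pair_add_left m U
  smul_left := pair_smul_left m U
  symm := pair_comm m hL U
  assoc := pair_assoc m hL U

/-- Restriction of the double algebra. -/
noncomputable def resHom (hL : PicF.IsInvertible L) {U V : X.Opens} (h : V ≤ U) :
    Dbl (pairing m hL U) →+* Dbl (pairing m hL V) :=
  Dbl.map (rX h) (rF L h) (fun r x => rF_smul L h r x) (fun x y => (rX_pair m h x y).symm)

/-- The presheaf of rings `O_X ⊕ L`. -/
noncomputable def presheaf (hL : PicF.IsInvertible L) : TopCat.Presheaf CommRingCat.{u} X.carrier where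
  obj U := CommRingCat.of (Dbl (pairing m hL U.unop))
  map {U V} i := CommRingCat.ofHom (resHom m hL i.unop.le)
  map_id U := by
    refine CommRingCat.hom_ext (RingHom.ext fun a => ?_)
    refine Dbl.ext (D := pairing m hL U.unop) ?_ ?_
    · change rX (le_refl U.unop) a.1 = a.1
      exact rX_self _ _
    · change rF L (le_refl U.unop) a.2 = a.2
      exact SubExt.rF_self _ _ _
  map_comp {U V W} i j := by
    refine CommRingCat.hom_ext (RingHom.ext fun a => ?_)
    refine Dbl.ext (D := pairing m hL W.unop) ?_ ?_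
    · change rX _ a.1 = rX _ (rX _ a.1)
      rw [rX_rX]
    · change rF L _ a.2 = rF L _ (rF L _ a.2)
      rw [rF_rF]

theorem isSheaf_presheaf (hL : PicF.IsInvertible L) : (presheaf m hL).IsSheaf := by
  refine (TopCat.Presheaf.isSheaf_iff_isSheafUniqueGluing _).mpr (fun ι U sf hsf => ?_)
  let sf' : ∀ i, Dbl (pairing m hL (U i)) := sf
  let s1 : ∀ i, ToType (X.presheaf.obj (op (U i))) := fun i => (sf' i).1
  have hs1 : TopCat.Presheaf.IsCompatible X.presheaf U s1 :=
    fun i j => congrArg (fun a : Dbl (pairing m hL (U i ⊓ U j)) => a.1) (hsf i j)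
  obtain ⟨s, hs, hsu⟩ := TopCat.Sheaf.existsUnique_gluing X.sheaf U s1 hs1
  let s2 : ∀ i, ToType (L.presheaf.obj (op (U i))) := fun i => (sf' i).2
  have hs2 : TopCat.Presheaf.IsCompatible L.presheaf U s2 :=
    fun i j => congrArg (fun a : Dbl (pairing m hL (U i ⊓ U j)) => a.2) (hsf i j)
  obtain ⟨l, hl, hlu⟩ := TopCat.Sheaf.existsUnique_gluing ⟨L.presheaf, L.isSheaf⟩ U s2 hs2
  let g : Dbl (pairing m hL (iSup U)) := ((s, l) : Γ(X, iSup U) × Γ(L, iSup U))
  refine ⟨g, fun i => ?_, fun t ht => ?_⟩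
  · exact Dbl.ext (D := pairing m hL (U i)) (hs i) (hl i)
  · let t' : Dbl (pairing m hL (iSup U)) := t
    refine Dbl.ext (D := pairing m hL (iSup U)) ?_ ?_
    · exact hsu t'.1
        (fun i => congrArg (fun a : Dbl (pairing m hL (U i)) => a.1) (ht i))
    · exact hlu t'.2
        (fun i => congrArg (fun a : Dbl (pairing m hL (U i)) => a.2) (ht i))

/-- The structure map of `O_X ⊕ L`. -/
noncomputable def str (hL : PicF.IsInvertible L) : X.presheaf ⟶ presheaf m hL where
  app U := CommRingCat.ofHom (Dbl.inl (pairing m hL U.unop))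
  naturality {U V} i := by
    refine CommRingCat.hom_ext (RingHom.ext fun a => ?_)
    refine Dbl.ext (D := pairing m hL V.unop) rfl ?_
    change (0 : Γ(L, V.unop)) = rF L i.unop.le 0
    rw [map_zero]

theorem isQC (hL : PicF.IsInvertible L) : RelSpec.IsQC (presheaf m hL) (str m hL) := by
  intro U hU r
  haveI := TensH8.isQuasicoherent_of_isInvertible hL
  have hunit : IsUnit (rX (X.basicOpen_le r) r) :=
    RingedSpace.isUnit_res_basicOpen X.toRingedSpace r
  refine Groth.Agent.Lib.QCAlgOfSheafH6.isLocalization_away_of (rX (X.basicOpen_le r))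
    ((str m hL).app (op U)).hom ((str m hL).app (op (X.basicOpen r))).hom
    ((presheaf m hL).map (homOfLE (X.basicOpen_le r)).op).hom r ?_ hunit ?_ ?_
  · intro x
    refine Dbl.ext (D := pairing m hL (X.basicOpen r)) rfl ?_
    change rF L (X.basicOpen_le r) (0 : Γ(L, U)) = 0
    rw [map_zero]
  · intro z
    let z' : Dbl (pairing m hL (X.basicOpen r)) := z
    obtain ⟨a, s0, hs0⟩ := exists_eq_pow_mul_of_isAffineOpen X U hU r z'.1
    have hs0' : rX (X.basicOpen_le r) s0 = rX (X.basicOpen_le r) r ^ a * z'.1 := hs0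
    obtain ⟨b, l0, hl0⟩ := exists_pow_smul_extends (F := L) (a := r) hU.isCompact
      hU.isQuasiSeparated z'.2
    let m0 : Dbl (pairing m hL U) := ((r ^ b * s0, r ^ a • l0) : Γ(X, U) × Γ(L, U))
    refine ⟨a + b, m0, ?_⟩
    change Dbl.inl (pairing m hL (X.basicOpen r)) (rX (X.basicOpen_le r) r ^ (a + b)) * z' =
      resHom m hL (X.basicOpen_le r) m0
    rw [Dbl.inl_mul]
    refine Dbl.ext (D := pairing m hL (X.basicOpen r)) ?_ ?_
    · change rX (X.basicOpen_le r) r ^ (a + b) * z'.1 = rX (X.basicOpen_le r) (r ^ b * s0)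
      rw [map_mul, map_pow, hs0', ← mul_assoc, ← pow_add, add_comm]
    · change rX (X.basicOpen_le r) r ^ (a + b) • z'.2 = rF L (X.basicOpen_le r) (r ^ a • l0)
      rw [rF_smul, map_pow, hl0, ← mul_smul, ← pow_add]
  · intro m0 hm0
    let m' : Dbl (pairing m hL U) := m0
    have h1 : rX (X.basicOpen_le r) m'.1 = 0 :=
      congrArg (fun a : Dbl (pairing m hL (X.basicOpen r)) => a.1) hm0
    have h2 : rF L (X.basicOpen_le r) m'.2 = 0 :=
      congrArg (fun a : Dbl (pairing m hL (X.basicOpen r)) => a.2) hm0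
    obtain ⟨n1, hn1⟩ := exists_pow_mul_eq_zero_of_res_basicOpen_eq_zero_of_isAffineOpen X hU
      m'.1 r h1
    obtain ⟨n2, hn2⟩ := ker_of_isCompact L r hU.isCompact (homOfLE (X.basicOpen_le r)) rfl
      m'.2 h2
    refine ⟨n1 + n2, ?_⟩
    change Dbl.inl (pairing m hL U) (r ^ (n1 + n2)) * m' = 0
    rw [Dbl.inl_mul]
    refine Dbl.ext (D := pairing m hL U) ?_ ?_
    · change r ^ (n1 + n2) * m'.1 = 0
      rw [pow_add, mul_comm (r ^ n1), mul_assoc, hn1, mul_zero]
    · change r ^ (n1 + n2) • m'.2 = 0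
      rw [pow_add, mul_smul, hn2, smul_zero]

/-- The quasi-coherent algebra `O_X ⊕ L`. -/
noncomputable def alg (hL : PicF.IsInvertible L) : RelSpec.QCAlg X where
  presheaf := presheaf m hL
  isSheaf := isSheaf_presheaf m hL
  str := str m hL
  isQC := isQC m hL

/-- The inclusion `L → O_X ⊕ L`. -/
noncomputable def jHom (hL : PicF.IsInvertible L) : L ⟶ (alg m hL).toModule :=
  ⟨letI := (alg m hL).moduleSect
   PresheafOfModules.homMk
    { app := fun U => AddCommGrpCat.ofHom (Dbl.inr (pairing m hL U.unop))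
      naturality := fun {U V} i => by
        ext l
        refine Dbl.ext (D := pairing m hL V.unop) ?_ rfl
        change (0 : Γ(X, V.unop)) = rX i.unop.le 0
        rw [map_zero] }
    (fun U r l => by
      let r' : Γ(X, U.unop) := r
      let l' : Γ(L, U.unop) := l
      change Dbl.inr (pairing m hL U.unop) (r' • l') =
        Dbl.inl (pairing m hL U.unop) r' * Dbl.inr (pairing m hL U.unop) l'
      rw [Dbl.inl_mul]
      refine Dbl.ext (D := pairing m hL U.unop) ?_ rfl
      change (0 : Γ(X, U.unop)) = r' * 0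
      rw [mul_zero])⟩

theorem exists_dblAlg (hL : PicF.IsInvertible L) :
    ∃ (A : RelSpec.QCAlg X) (j : L ⟶ A.toModule), FinCov.IsDblAlg L m A j := by
  refine ⟨alg m hL, jHom m hL, fun U => ?_, fun U l l' => ?_⟩
  · have h : (fun p : Γ(X, U) × L.val.obj (op U) =>
        ((alg m hL).str.app (op U)).hom p.1 +
          FinCov.toSec (alg m hL) (((jHom m hL).val.app (op U)).hom p.2)) = fun p => p :=
      funext fun p => Dbl.inl_add_inr (D := pairing m hL U) p
    rw [h]
    exact Function.bijective_id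
  · exact Dbl.inr_mul_inr (D := pairing m hL U) l l'

end Groth.Agent.DblAlg
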