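import Mathlib

/-!
# Double covers, part 1 (helper7): the canonical involution of a free algebra of rank two

For an `A`-algebra `B` with a basis indexed by `Fin 2`, `x ↦ Tr(x) - x` is an `A`-algebra
involution of `B` (it corresponds to the adjugate of the matrix of left multiplication).  If `2` is a unit of `A`, its fixed
points are exactly the image of `A`.  The construction commutes with localization.
The ring-hom versions (`IsDbl`, `sig`) avoid `Algebra` instances.
APPEND-ONLY once landed.
-/

set_option backward.isDefEq.respectTransparency false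
set_option backward.isDefEq.respectTransparency.types false
set_option linter.style.haveILetI false
set_option linter.unusedSectionVars false
set_option linter.unusedVariables false
set_option autoImplicit false
set_option maxHeartbeats 1600000
set_option maxSynthPendingDepth 3

open Module

namespace Groth.Agent.Lib.DblCovH7

section Core

variable {A B : Type*} [CommRing A] [CommRing B] [Algebra A B]

/-- the involution `x ↦ Tr(x) - x`, as a function -/
noncomputable def sigFun (A : Type*) {B : Type*} [CommRing A] [CommRing B] [Algebra A B]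
    (x : B) : B :=
  algebraMap A B (Algebra.trace A B x) - x

theorem leftMul_sigFun (b : Basis (Fin 2) A B) (x : B) :
    Algebra.leftMulMatrix b (sigFun A x) = (Algebra.leftMulMatrix b x).adjugate := by
  unfold sigFun
  rw [map_sub, AlgHom.commutes, Algebra.trace_eq_matrix_trace b, Matrix.adjugate_fin_two]
  ext i j
  fin_cases i <;> fin_cases j <;>
    simp [Matrix.trace_fin_two, Matrix.algebraMap_matrix_apply]

theorem sigFun_mul (b : Basis (Fin 2) A B) (x y : B) :
    sigFun A (x * y) = sigFun A x * sigFun A y := by
  apply Algebra.leftMulMatrix_injective b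
  rw [mul_comm x y, leftMul_sigFun, map_mul, Matrix.adjugate_mul_distrib, map_mul,
    leftMul_sigFun, leftMul_sigFun]

theorem sigFun_one (b : Basis (Fin 2) A B) : sigFun A (1 : B) = 1 := by
  apply Algebra.leftMulMatrix_injective b
  rw [leftMul_sigFun, map_one, Matrix.adjugate_one]

theorem sigFun_add (x y : B) : sigFun A (x + y) = sigFun A x + sigFun A y := by
  unfold sigFun
  rw [map_add, map_add]
  ring

theorem sigFun_zero : sigFun A (0 : B) = 0 := by
  unfold sigFun
  rw [map_zero, map_zero, sub_zero]

theorem sigFun_algebraMap (b : Basis (Fin 2) A B) (a : A) :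
    sigFun A (algebraMap A B a) = algebraMap A B a := by
  unfold sigFun
  rw [Algebra.trace_algebraMap_of_basis b, Fintype.card_fin, two_nsmul, map_add,
    add_sub_cancel_right]

theorem sigFun_sigFun (b : Basis (Fin 2) A B) (x : B) : sigFun A (sigFun A x) = x := by
  have h1 : sigFun A (sigFun A x) =
      algebraMap A B (Algebra.trace A B (algebraMap A B (Algebra.trace A B x) - x)) -
        (algebraMap A B (Algebra.trace A B x) - x) := rfl
  rw [h1, map_sub, Algebra.trace_algebraMap_of_basis b, Fintype.card_fin, two_nsmul, map_sub,
    map_add]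
  ring

/-- the involution as an algebra homomorphism -/
noncomputable def sigAlg (b : Basis (Fin 2) A B) : B →ₐ[A] B where
  toFun := sigFun A
  map_one' := sigFun_one b
  map_mul' := sigFun_mul b
  map_zero' := sigFun_zero
  map_add' := sigFun_add
  commutes' := sigFun_algebraMap b

theorem sigAlg_apply (b : Basis (Fin 2) A B) (x : B) : sigAlg b x = sigFun A x := rfl

theorem mem_range_of_sigFun_eq (h2 : IsUnit (2 : A)) {x : B} (hx : sigFun A x = x) :
    x ∈ Set.range (algebraMap A B) := by
  obtain ⟨u, hu⟩ := h2
  have h1 : algebraMap A B (Algebra.trace A B x) = x + x := by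
    have h := hx
    unfold sigFun at h
    rw [sub_eq_iff_eq_add] at h
    exact h
  refine ⟨(↑u⁻¹ : A) * Algebra.trace A B x, ?_⟩
  rw [map_mul, h1]
  have h3 : x + x = algebraMap A B (u : A) * x := by
    rw [hu, map_ofNat]
    ring
  rw [h3, ← mul_assoc, ← map_mul, Units.inv_mul, map_one, one_mul]

theorem algebraMap_injective_of_basis (b : Basis (Fin 2) A B) :
    Function.Injective (algebraMap A B) := by
  intro a a' h
  have h1 : ∀ c : A, b.repr (algebraMap A B c * b 0) 0 = c := by
    intro c
    rw [← Algebra.smul_def, map_smul, Basis.repr_self, Finsupp.smul_apply,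
      Finsupp.single_eq_same, smul_eq_mul, mul_one]
  rw [← h1 a, ← h1 a', h]

end Core

section Loc

variable {A B A' B' : Type*} [CommRing A] [CommRing B] [Algebra A B]
  [CommRing A'] [Algebra A A'] [CommRing B'] [Algebra B B'] [Algebra A' B'] [Algebra A B']
  [IsScalarTower A A' B'] [IsScalarTower A B B'] (M : Submonoid A)
  [IsLocalization M A'] [IsLocalization (Algebra.algebraMapSubmonoid B M) B']

include M in
theorem sigFun_localization (b : Basis (Fin 2) A B) (x : B) :
    sigFun A' (algebraMap B B' x) = algebraMap B B' (sigFun A x) := by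
  haveI : Module.Free A B := Module.Free.of_basis b
  haveI : Module.Finite A B := Module.Finite.of_basis b
  unfold sigFun
  rw [Algebra.trace_localization A M x, map_sub, ← IsScalarTower.algebraMap_apply,
    ← IsScalarTower.algebraMap_apply]

end Loc

section RingHom

variable {A B : Type*} [CommRing A] [CommRing B]

/-- `φ : A →+* B` makes `B` a free `A`-module of rank two. -/
def IsDbl (φ : A →+* B) : Prop :=
  letI := φ.toAlgebra
  Nonempty (Basis (Fin 2) A B)

/-- the canonical involution of a free algebra of rank two -/
noncomputable def sig (φ : A →+* B) (h : IsDbl φ) : B →+* B :=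
  letI := φ.toAlgebra
  (sigAlg (Classical.choice h)).toRingHom

theorem sig_apply (φ : A →+* B) (h : IsDbl φ) (x : B) :
    sig φ h x = φ (@Algebra.trace A B _ _ φ.toAlgebra x) - x := rfl

theorem sig_comp (φ : A →+* B) (h : IsDbl φ) (a : A) : sig φ h (φ a) = φ a := by
  letI := φ.toAlgebra
  exact sigFun_algebraMap (Classical.choice h) a

theorem sig_sig (φ : A →+* B) (h : IsDbl φ) (x : B) : sig φ h (sig φ h x) = x := by
  letI := φ.toAlgebra
  exact sigFun_sigFun (Classical.choice h) x

theorem sig_comp_sig (φ : A →+* B) (h : IsDbl φ) : (sig φ h).comp (sig φ h) = RingHom.id B :=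
  RingHom.ext (sig_sig φ h)

theorem mem_range_of_sig_eq (φ : A →+* B) (h : IsDbl φ) (h2 : IsUnit (2 : A)) {x : B}
    (hx : sig φ h x = x) : x ∈ Set.range φ := by
  letI := φ.toAlgebra
  exact mem_range_of_sigFun_eq h2 hx

theorem injective_of_isDbl (φ : A →+* B) (h : IsDbl φ) : Function.Injective φ := by
  letI := φ.toAlgebra
  exact algebraMap_injective_of_basis (Classical.choice h)

variable {A' B' : Type*} [CommRing A'] [CommRing B']

/-- a free algebra of rank two stays so after localization -/
theorem isDbl_of_away (φ : A →+* B) (φ' : A' →+* B') (α : A →+* A') (β : B →+* B')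
    (hc : β.comp φ = φ'.comp α) (g : A)
    (hα : @IsLocalization.Away A _ g A' _ α.toAlgebra)
    (hβ : @IsLocalization.Away B _ (φ g) B' _ β.toAlgebra) (h : IsDbl φ) : IsDbl φ' := by
  letI := φ.toAlgebra
  letI := φ'.toAlgebra
  letI := α.toAlgebra
  letI := β.toAlgebra
  letI : Algebra A B' := (β.comp φ).toAlgebra
  haveI : IsScalarTower A A' B' := IsScalarTower.of_algebraMap_eq (fun a => by
    show β (φ a) = φ' (α a)
    exact congrArg (fun k : A →+* B' => k a) hc)
  haveI : IsScalarTower A B B' := IsScalarTower.of_algebraMap_eq (fun a => rfl)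
  haveI : IsLocalization (Submonoid.powers g) A' := hα
  haveI : IsLocalization (Algebra.algebraMapSubmonoid B (Submonoid.powers g)) B' := by
    rw [Algebra.algebraMapSubmonoid_powers]
    exact hβ
  exact ⟨(Classical.choice h).localizationLocalization A' (Submonoid.powers g) B'⟩

theorem sig_away (φ : A →+* B) (φ' : A' →+* B') (α : A →+* A') (β : B →+* B')
    (hc : β.comp φ = φ'.comp α) (g : A)
    (hα : @IsLocalization.Away A _ g A' _ α.toAlgebra)
    (hβ : @IsLocalization.Away B _ (φ g) B' _ β.toAlgebra) (h : IsDbl φ) (h' : IsDbl φ')
    (x : B) : sig φ' h' (β x) = β (sig φ h x) := by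
  letI := φ.toAlgebra
  letI := φ'.toAlgebra
  letI := α.toAlgebra
  letI := β.toAlgebra
  letI : Algebra A B' := (β.comp φ).toAlgebra
  haveI : IsScalarTower A A' B' := IsScalarTower.of_algebraMap_eq (fun a => by
    show β (φ a) = φ' (α a)
    exact congrArg (fun k : A →+* B' => k a) hc)
  haveI : IsScalarTower A B B' := IsScalarTower.of_algebraMap_eq (fun a => rfl)
  haveI : IsLocalization (Submonoid.powers g) A' := hα
  haveI : IsLocalization (Algebra.algebraMapSubmonoid B (Submonoid.powers g)) B' := by
    rw [Algebra.algebraMapSubmonoid_powers]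
    exact hβ
  exact sigFun_localization (Submonoid.powers g) (Classical.choice h) x

end RingHom

end Groth.Agent.Lib.DblCovH7
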