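import Mathlib
import Groth.Agent.Lib.DblCov1_helper7

/-!
# Double covers, part 2 (helper7): finite flat algebras of constant rank two are locally free
of rank two, in a form independent of the model of the localization.
APPEND-ONLY once landed.
-/

set_option backward.isDefEq.respectTransparency false
set_option backward.isDefEq.respectTransparency.types false
set_option linter.style.haveILetI false
set_option linter.unusedSectionVars false
set_option linter.unusedVariables false
set_option autoImplicit false
set_option maxHeartbeats 1600000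
set_option maxSynthPendingDepth 3

open Module

namespace Groth.Agent.Lib.DblCovH7

section A1

open LocalizedModule

attribute [local instance] Module.free_of_flat_of_isLocalRing

/-- A finite flat module of constant rank `n` is, near any prime, the target of a map from
`R^n` which becomes bijective after inverting one element (adapted from Mathlib's
`Module.Free.away_of_finite_of_flat_of_rankAtStalk_constant`). -/
theorem exists_away_map_bijective {R M : Type*} [CommRing R] [AddCommGroup M] [Module R M]
    [Module.Finite R M] [Module.Flat R M] (p : Ideal R) [p.IsPrime] (n : ℕ)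
    (h : ∀ q : PrimeSpectrum R, Module.rankAtStalk M q = n) :
    ∃ a ∉ p, ∃ φ : (Fin n →₀ R) →ₗ[R] M,
      Function.Bijective (LocalizedModule.map (Submonoid.powers a) φ) := by
  obtain rfl : n = rankAtStalk M ⟨p, inferInstance⟩ := (h _).symm
  haveI : Nontrivial R := ⟨⟨0, 1, fun h01 => (Ideal.IsPrime.ne_top ‹p.IsPrime›)
    ((Ideal.eq_top_iff_one p).2 (h01 ▸ p.zero_mem))⟩⟩
  let Rₚ := Localization.AtPrime p
  let n := rankAtStalk M ⟨p, inferInstance⟩
  let f : (Fin n →₀ R) →ₗ[R] Fin n →₀ Rₚ := Finsupp.mapRange.linearMap (Algebra.linearMap R Rₚ)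
  let g : M →ₗ[R] LocalizedModule.AtPrime p M := LocalizedModule.mkLinearMap p.primeCompl M
  obtain ⟨φ, -, -, hφps⟩ := exists_localizedMap_surjective_of_surjective p.primeCompl f g
    ((finBasis Rₚ (LocalizedModule.AtPrime p M)).repr.restrictScalars R).symm.surjective
  obtain ⟨a, hap, hφas⟩ := by
    refine exists_localizedMap_away_surjective_of_localizedMap_atPrime_surjective p φ ?_
    simpa [LocalizedModule.coe_map_eq f g]
  refine ⟨a, hap, φ, bijective_of_surjective_of_rankAtStalk_eq hφas <| fun m _ ↦ ?_⟩
  simp [rankAtStalk_isBaseChange (LocalizedModule.isBaseChange (Submonoid.powers a) _), h]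

end A1

section A2

universe u

variable {A B A' B' : Type u} [CommRing A] [CommRing B] [CommRing A'] [CommRing B']

/-- transport of local freeness of rank two to an arbitrary model of the localization -/
theorem isDbl_of_map_bijective (φ : A →+* B) (φ' : A' →+* B') (α : A →+* A') (β : B →+* B')
    (hc : β.comp φ = φ'.comp α) (r : A)
    (hα : @IsLocalization.Away A _ r A' _ α.toAlgebra)
    (hβ : @IsLocalization.Away B _ (φ r) B' _ β.toAlgebra)
    (h : letI := φ.toAlgebra
      ∃ ψ : (Fin 2 →₀ A) →ₗ[A] B,
        Function.Bijective (LocalizedModule.map (Submonoid.powers r) ψ)) :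
    IsDbl φ' := by
  letI := φ.toAlgebra
  letI := φ'.toAlgebra
  letI := α.toAlgebra
  letI := β.toAlgebra
  letI : Algebra A B' := (β.comp φ).toAlgebra
  haveI : IsScalarTower A A' B' := IsScalarTower.of_algebraMap_eq (fun a => by
    show β (φ a) = φ' (α a)
    exact congrArg (fun k : A →+* B' => k a) hc)
  haveI : IsScalarTower A B B' := IsScalarTower.of_algebraMap_eq (fun a => rfl)
  haveI : IsLocalization (Submonoid.powers r) A' := hα
  haveI : IsLocalization (Algebra.algebraMapSubmonoid B (Submonoid.powers r)) B' := by
    rw [Algebra.algebraMapSubmonoid_powers]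
    exact hβ
  obtain ⟨ψ, hψ⟩ := h
  let g₁ : (Fin 2 →₀ A) →ₗ[A] (Fin 2 →₀ A') :=
    Finsupp.mapRange.linearMap (Algebra.linearMap A A')
  let g₂ : B →ₗ[A] B' := (IsScalarTower.toAlgHom A B B').toLinearMap
  have hbij : Function.Bijective (IsLocalizedModule.map (Submonoid.powers r) g₁ g₂ ψ) :=
    (IsLocalizedModule.map_bijective_iff_localizedModuleMap_bijective g₁ g₂).2 hψ
  let Φ : (Fin 2 →₀ A') →ₗ[A'] B' :=
    (IsLocalizedModule.map (Submonoid.powers r) g₁ g₂ ψ).extendScalarsOfIsLocalization
      (Submonoid.powers r) A'
  have hΦ : Function.Bijective Φ := hbij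
  exact ⟨Basis.ofRepr (LinearEquiv.ofBijective Φ hΦ).symm⟩

/-- A finite flat ring map of constant rank two is a double cover (free of rank two) after
inverting a suitable element outside any given prime, for every model of the localizations. -/
theorem exists_isDbl_away (φ : A →+* B) (hfin : φ.Finite) (hflat : φ.Flat)
    (hrk : ∀ q : PrimeSpectrum A, φ.finrank q = 2) (p : Ideal A) [p.IsPrime] :
    ∃ r : A, r ∉ p ∧ ∀ (A' B' : Type u) [CommRing A'] [CommRing B'] (φ' : A' →+* B')
      (α : A →+* A') (β : B →+* B'), β.comp φ = φ'.comp α →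
      @IsLocalization.Away A _ r A' _ α.toAlgebra →
      @IsLocalization.Away B _ (φ r) B' _ β.toAlgebra → IsDbl φ' := by
  letI := φ.toAlgebra
  haveI : Module.Finite A B := hfin
  haveI : Module.Flat A B := hflat
  obtain ⟨a, hap, ψ, hψ⟩ := exists_away_map_bijective (R := A) (M := B) p 2 hrk
  refine ⟨a, hap, fun A' B' _ _ φ' α β hc hα hβ => ?_⟩
  exact isDbl_of_map_bijective φ φ' α β hc a hα hβ ⟨ψ, hψ⟩

end A2

end Groth.Agent.Lib.DblCovH7
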