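import Mathlib
import Groth.Prelude
import Groth.Agent.Lib.OmField_helper9
import Groth.Agent.Lib.OmLin_helper9
import Groth.Agent.Lib.VBCurve5_helper9
import Groth.Agent.Lib.CurveAmple5_helper9
import Groth.Agent.Lib.AlgEqB_helper9

/-!
# Secant divisors of curves embedded by `K ⊗ N` (helper9)
APPEND-ONLY once landed.
-/

set_option autoImplicit false
universe u
open AlgebraicGeometry CategoryTheory CategoryTheory.Limits TopologicalSpace Opposite

namespace OmSec

open Groth.Agent.TensInv CohB1

section Main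

variable (k : Type u) [Field k] [IsAlgClosed k] (X : Scheme.{u})
  [X.Over (Spec (CommRingCat.of k))] [IsIntegral X]
  [IsProper (X ↘ Spec (CommRingCat.of k))] [Smooth (X ↘ Spec (CommRingCat.of k))]

omit [Smooth (X ↘ Spec (CommRingCat.of k))] in
theorem finrank_HH0_structureModule :
    Module.finrank k (Coh.HH X (Coh.structureModule X) 0) = 1 := by
  haveI : IsLocallyNoetherian X :=
    LocallyOfFiniteType.isLocallyNoetherian (X ↘ Spec (CommRingCat.of k))
  haveI : Module.Finite k (Coh.HH X (Coh.structureModule X) 0) :=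
    ProperFinH9.finite_HH_of_proper k X _ (CohDevH8.isCoh_structureModule X) 0
  exact Groth.Agent.ProjConn.finrank_h0_of_isIntegral k (X := X)

omit [Smooth (X ↘ Spec (CommRingCat.of k))] in
theorem geomConn : GeometricallyConnected (X ↘ Spec (CommRingCat.of k)) := by
  haveI : IsLocallyNoetherian X :=
    LocallyOfFiniteType.isLocallyNoetherian (X ↘ Spec (CommRingCat.of k))
  haveI : CompactSpace X :=
    QuasiCompact.compactSpace_of_compactSpace (X ↘ Spec (CommRingCat.of k))
  haveI : QuasiSeparatedSpace X := inferInstance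
  exact OmField.geometricallyConnected_of_finrank_HH0 k X (finrank_HH0_structureModule k X)

/-- characterisation of `Ω` by degree and `h⁰` -/
theorem iso_Omega_of_deg (hdim : topologicalKrullDim X = 1) {A : X.Modules}
    (hA : PicF.IsInvertible A)
    (hdeg : Curv2.deg k X A 1 = 2 * (Curv2.genus k X : ℤ) - 2)
    (hh : Curv2.genus k X ≤ Module.finrank k (Coh.HH X A 0)) :
    Nonempty (A ≅ Omega.sheaf (X ↘ Spec (CommRingCat.of k))) := by
  haveI := geomConn k X
  exact OmField.main13457 k X hdim A hA hdeg hh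

omit [IsAlgClosed k] [Smooth (X ↘ Spec (CommRingCat.of k))]
  [IsProper (X ↘ Spec (CommRingCat.of k))] [IsIntegral X] in
/-- a module without global sections has no nonzero morphisms from `O` -/
theorem hom_eq_zero_of_finrank_zero {M : X.Modules} [Module.Finite k (Coh.HH X M 0)]
    (h : Module.finrank k (Coh.HH X M 0) = 0) (s : Coh.structureModule X ⟶ M) : s = 0 := by
  haveI : Subsingleton (Coh.HH X M 0) := (Module.finrank_eq_zero_iff_of_free k _).mp h
  apply (CurveIdeal.thetaEquiv k M).injective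
  exact Subsingleton.elim _ _

variable {K N I : X.Modules} (eK : K ≅ Omega.sheaf (X ↘ Spec (CommRingCat.of k)))

include eK in
theorem isInvertible_K (hdim : topologicalKrullDim X = 1) : PicF.IsInvertible K :=
  TensH8.isInvertible_of_iso' eK.symm (OmDual.isInvertible_Omega k X hdim)

include eK in
/-- `h⁰(K ⊗ N) = g - 1 + deg N` for `deg N ≥ 1` -/
theorem finrank_HH0_KN (hdim : topologicalKrullDim X = 1) (hN : PicF.IsInvertible N)
    (hdN : 1 ≤ Curv2.deg k X N 1) :
    (Module.finrank k (Coh.HH X (tensorMod K N) 0) : ℤ) =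
      (Curv2.genus k X : ℤ) - 1 + Curv2.deg k X N 1 := by
  haveI : IsLocallyNoetherian X :=
    LocallyOfFiniteType.isLocallyNoetherian (X ↘ Spec (CommRingCat.of k))
  have hK := isInvertible_K k X eK hdim
  have hKN := TensH8.isInvertible_tensorMod hK hN
  have dK : Curv2.deg k X K 1 = 2 * (Curv2.genus k X : ℤ) - 2 := by
    rw [CurveTens.deg_of_iso k X eK 1, OmDual.deg_Omega k X hdim]
  have dKN := CurveTens.deg_tensorMod k X hdim.le hK hN
  rw [dK] at dKN
  haveI h1 : Subsingleton (Coh.HH X (tensorMod K N) 1) :=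
    CurveAmple.HH1_subsingleton_of_deg_ge k X hdim.le hKN (by rw [dKN]; linarith)
  haveI := (ProperFinH9.isCoh_of_isInvertible hKN).1
  haveI : (Coh.structureModule X).IsQuasicoherent := TensH8.isQuasicoherent_structureModule
  have hO := finrank_HH0_structureModule k X
  have hgg : (Module.finrank k (Coh.HH X (Coh.structureModule X) 1) : ℤ) =
      (Curv2.genus k X : ℤ) := rfl
  have hRR : Curv2.deg k X (tensorMod K N) 1 =
      (Module.finrank k (Coh.HH X (tensorMod K N) 0) : ℤ) - (1 - (Curv2.genus k X : ℤ)) := by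
    unfold Curv2.deg
    rw [CurveRR.euler_eq_sub k X hdim.le (tensorMod K N),
      CurveRR.euler_eq_sub k X hdim.le (Coh.structureModule X), hO, hgg,
      Module.finrank_zero_of_subsingleton (M := Coh.HH X (tensorMod K N) 1)]
    push_cast
    ring
  linarith

include eK in
/-- **secant criterion**: the divisor with ideal `I` of degree `-deg N` spans a space of one
dimension less than expected in the embedding by `K ⊗ N` iff `I ⊗ N ≅ O` -/
theorem secant_iff (hdim : topologicalKrullDim X = 1) (hN : PicF.IsInvertible N)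
    (hI : PicF.IsInvertible I) (hdI : Curv2.deg k X I 1 = - Curv2.deg k X N 1)
    (hdN : 1 ≤ Curv2.deg k X N 1) :
    ((Module.finrank k (Coh.HH X (tensorMod I (tensorMod K N)) 0) : ℤ) +
        (Curv2.deg k X N 1 - 1) =
      (Module.finrank k (Coh.HH X (tensorMod K N) 0) : ℤ)) ↔
    Nonempty (tensorMod I N ≅ Coh.structureModule X) := by
  haveI : IsLocallyNoetherian X :=
    LocallyOfFiniteType.isLocallyNoetherian (X ↘ Spec (CommRingCat.of k))
  have hK := isInvertible_K k X eK hdim
  have hKN := TensH8.isInvertible_tensorMod hK hN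
  have hA := TensH8.isInvertible_tensorMod hI hKN
  have dK : Curv2.deg k X K 1 = 2 * (Curv2.genus k X : ℤ) - 2 := by
    rw [CurveTens.deg_of_iso k X eK 1, OmDual.deg_Omega k X hdim]
  have dKN := CurveTens.deg_tensorMod k X hdim.le hK hN
  have dA := CurveTens.deg_tensorMod k X hdim.le hI hKN
  rw [dKN, dK, hdI] at dA
  have h0KN := finrank_HH0_KN k X eK hdim hN hdN
  constructor
  · intro hsec
    have hh : Curv2.genus k X ≤ Module.finrank k (Coh.HH X (tensorMod I (tensorMod K N)) 0) := by
      have : (Curv2.genus k X : ℤ) ≤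
          (Module.finrank k (Coh.HH X (tensorMod I (tensorMod K N)) 0) : ℤ) := by linarith
      exact_mod_cast this
    obtain ⟨ε'⟩ := iso_Omega_of_deg k X hdim hA (by rw [dA]; ring) hh
    have ε : tensorMod I (tensorMod K N) ≅ K := ε' ≪≫ eK.symm
    obtain ⟨T, -, ⟨eT⟩⟩ := Groth.Agent.InvTensP.exists_inverse K hK
    exact ⟨(rightUnit (tensorMod I N)).symm ≪≫ mapL (tensorMod I N) eT.symm ≪≫
      (assoc (tensorMod I N) K T).symm ≪≫
      mapR (assoc I N K ≪≫ mapL I (comm N K) ≪≫ ε) T ≪≫ eT⟩
  · rintro ⟨e'⟩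
    have ε : tensorMod I (tensorMod K N) ≅ Omega.sheaf (X ↘ Spec (CommRingCat.of k)) :=
      mapL I (comm K N) ≪≫ (assoc I N K).symm ≪≫ mapR e' K ≪≫
        Groth.Agent.CMMul.unitorL K ≪≫ eK
    rw [(Groth.Agent.HypConn.hhEquivOfIso (A := k) ε 0).finrank_eq,
      OmDual.finrank_HH0_Omega k X hdim, h0KN]
    ring

include eK in
/-- **statement of S15227**: no `(g-1)`-secant -/
theorem main15227 (hdim : topologicalKrullDim X = 1)
    (g : ℕ) (hg3 : 3 ≤ g) (hgen : Curv2.genus k X = g)
    (hN : PicF.IsInvertible N) (hdN : Curv2.deg k X N 1 = (g : ℤ) - 1)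
    (h0 : Module.finrank k (Coh.HH X N 0) = 0) :
    ¬ ∃ (I : X.Modules) (ι : I ⟶ Coh.structureModule X),
        PicF.IsInvertible I ∧ Mono ι ∧ Curv2.deg k X I 1 = -((g : ℤ) - 1) ∧
        Module.finrank k (Coh.HH X (CohB1.tensorMod I (CohB1.tensorMod K N)) 0) + (g - 2) =
          Module.finrank k (Coh.HH X (CohB1.tensorMod K N) 0) := by
  haveI : IsLocallyNoetherian X :=
    LocallyOfFiniteType.isLocallyNoetherian (X ↘ Spec (CommRingCat.of k))
  rintro ⟨I, ι, hI, hmono, hdI, hsec⟩
  have hg3' : (3 : ℤ) ≤ (g : ℤ) := by exact_mod_cast hg3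
  have hsec' : (Module.finrank k (Coh.HH X (tensorMod I (tensorMod K N)) 0) : ℤ) +
      (Curv2.deg k X N 1 - 1) = (Module.finrank k (Coh.HH X (tensorMod K N) 0) : ℤ) := by
    rw [hdN, ← hsec]
    push_cast [Nat.cast_sub (show 2 ≤ g by omega)]
    ring
  obtain ⟨e'⟩ := (secant_iff k X eK hdim hN hI (by rw [hdI, hdN]) (by rw [hdN]; linarith)).1 hsec'
  have hι : ι ≠ 0 := by
    intro h
    haveI := hmono
    exact VBCurve.not_isZero_of_isInvertible hI (IsZero.of_mono_eq_zero ι h)
  have hON : PicF.IsInvertible (tensorMod (Coh.structureModule X) N) :=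
    TensH8.isInvertible_tensorMod TensH8.isInvertible_structureModule hN
  haveI := ProperFinH9.finite_HH_of_proper k X _ (ProperFinH9.isCoh_of_isInvertible hON) 0
  have h0' : Module.finrank k (Coh.HH X (tensorMod (Coh.structureModule X) N) 0) = 0 := by
    rw [(Groth.Agent.HypConn.hhEquivOfIso (A := k) (Groth.Agent.CMMul.unitorL N) 0).finrank_eq, h0]
  have hz := hom_eq_zero_of_finrank_zero k X h0'
    (OmDual.homTwistEquiv (k := k) e' (Coh.structureModule X) ι)
  apply hι
  apply (OmDual.homTwistEquiv (k := k) e' (Coh.structureModule X)).injective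
  rw [hz, map_zero]

include eK in
/-- **statement of S15228**: exactly one `g`-secant -/
theorem main15228 (hdim : topologicalKrullDim X = 1)
    (g : ℕ) (hg3 : 3 ≤ g) (hgen : Curv2.genus k X = g)
    (hN : PicF.IsInvertible N) (hdN : Curv2.deg k X N 1 = (g : ℤ))
    (h0 : Module.finrank k (Coh.HH X N 0) ≤ 1) :
    (∃ (I : X.Modules) (ι : I ⟶ Coh.structureModule X),
        PicF.IsInvertible I ∧ Mono ι ∧ Curv2.deg k X I 1 = -((g : ℤ)) ∧
        Module.finrank k (Coh.HH X (CohB1.tensorMod I (CohB1.tensorMod K N)) 0) + (g - 1) =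
          Module.finrank k (Coh.HH X (CohB1.tensorMod K N) 0)) ∧
      ∀ (I I' : X.Modules) (ι : I ⟶ Coh.structureModule X) (ι' : I' ⟶ Coh.structureModule X),
        (PicF.IsInvertible I ∧ Mono ι ∧ Curv2.deg k X I 1 = -((g : ℤ)) ∧
        Module.finrank k (Coh.HH X (CohB1.tensorMod I (CohB1.tensorMod K N)) 0) + (g - 1) =
          Module.finrank k (Coh.HH X (CohB1.tensorMod K N) 0)) →
        (PicF.IsInvertible I' ∧ Mono ι' ∧ Curv2.deg k X I' 1 = -((g : ℤ)) ∧
        Module.finrank k (Coh.HH X (CohB1.tensorMod I' (CohB1.tensorMod K N)) 0) + (g - 1) =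
          Module.finrank k (Coh.HH X (CohB1.tensorMod K N) 0)) →
        ∃ φ : I' ≅ I, φ.hom ≫ ι = ι' := by
  haveI : IsLocallyNoetherian X :=
    LocallyOfFiniteType.isLocallyNoetherian (X ↘ Spec (CommRingCat.of k))
  have hg3' : (3 : ℤ) ≤ (g : ℤ) := by exact_mod_cast hg3
  have hdN1 : 1 ≤ Curv2.deg k X N 1 := by rw [hdN]; linarith
  -- translation of the secant condition
  have htr : ∀ I : X.Modules,
      (Module.finrank k (Coh.HH X (tensorMod I (tensorMod K N)) 0) + (g - 1) =
        Module.finrank k (Coh.HH X (tensorMod K N) 0)) ↔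
      ((Module.finrank k (Coh.HH X (tensorMod I (tensorMod K N)) 0) : ℤ) +
        (Curv2.deg k X N 1 - 1) = (Module.finrank k (Coh.HH X (tensorMod K N) 0) : ℤ)) := by
    intro I
    rw [hdN]
    constructor
    · intro h
      rw [← h]
      push_cast [Nat.cast_sub (show 1 ≤ g by omega)]
      ring
    · intro h
      have : ((Module.finrank k (Coh.HH X (tensorMod I (tensorMod K N)) 0) + (g - 1) : ℕ) : ℤ) =
          (Module.finrank k (Coh.HH X (tensorMod K N) 0) : ℤ) := by
        push_cast [Nat.cast_sub (show 1 ≤ g by omega)]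
        linarith
      exact_mod_cast this
  -- `h⁰(N) = 1`
  have hO := finrank_HH0_structureModule k X
  haveI := (ProperFinH9.isCoh_of_isInvertible hN).1
  haveI : (Coh.structureModule X).IsQuasicoherent := TensH8.isQuasicoherent_structureModule
  have hgg : (Module.finrank k (Coh.HH X (Coh.structureModule X) 1) : ℤ) =
      (Curv2.genus k X : ℤ) := rfl
  have hRR : Curv2.deg k X N 1 = (Module.finrank k (Coh.HH X N 0) : ℤ) -
      (Module.finrank k (Coh.HH X N 1) : ℤ) - (1 - (Curv2.genus k X : ℤ)) := by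
    unfold Curv2.deg
    rw [CurveRR.euler_eq_sub k X hdim.le N,
      CurveRR.euler_eq_sub k X hdim.le (Coh.structureModule X), hO, hgg]
    push_cast
    ring
  rw [hdN, hgen] at hRR
  have h0N : Module.finrank k (Coh.HH X N 0) = 1 := by
    have h1 : (0 : ℤ) ≤ (Module.finrank k (Coh.HH X N 1) : ℤ) := by positivity
    have h2 : (1 : ℤ) ≤ (Module.finrank k (Coh.HH X N 0) : ℤ) := by linarith
    have h3 : 1 ≤ Module.finrank k (Coh.HH X N 0) := by exact_mod_cast h2
    omega
  have hON : PicF.IsInvertible (tensorMod (Coh.structureModule X) N) :=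
    TensH8.isInvertible_tensorMod TensH8.isInvertible_structureModule hN
  haveI := ProperFinH9.finite_HH_of_proper k X _ (ProperFinH9.isCoh_of_isInvertible hON) 0
  have h0ON : Module.finrank k (Coh.structureModule X ⟶ tensorMod (Coh.structureModule X) N) =
      1 := by
    rw [(CurveIdeal.thetaEquiv k _).finrank_eq,
      (Groth.Agent.HypConn.hhEquivOfIso (A := k) (Groth.Agent.CMMul.unitorL N) 0).finrank_eq, h0N]
  constructor
  · -- existence
    obtain ⟨N', hN', ⟨e⟩⟩ := Groth.Agent.InvTensP.exists_inverse N hN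
    have e'' : tensorMod N' N ≅ Coh.structureModule X := comm N' N ≪≫ e
    obtain ⟨s, hs⟩ := CurveRR.exists_section_of_finrank_pos k X N (by omega)
    set Φ := OmDual.homTwistEquiv (k := k) e'' (Coh.structureModule X) with hΦ
    have hs' : s ≫ (Groth.Agent.CMMul.unitorL N).inv ≠ 0 := by
      intro h
      apply hs
      rw [← cancel_mono (Groth.Agent.CMMul.unitorL N).inv, h, zero_comp]
    have hι : Φ.symm (s ≫ (Groth.Agent.CMMul.unitorL N).inv) ≠ 0 := by
      intro h
      apply hs'
      have := congrArg Φ h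
      rwa [LinearEquiv.apply_symm_apply, map_zero] at this
    have dNN := CurveTens.deg_tensorMod k X hdim.le hN hN'
    rw [CurveTens.deg_of_iso k X e 1, CurveDeg.deg_structureModule, hdN] at dNN
    have hdN' : Curv2.deg k X N' 1 = -(g : ℤ) := by linarith
    refine ⟨N', Φ.symm (s ≫ (Groth.Agent.CMMul.unitorL N).inv), hN',
      CurveDeg.mono_of_ne_zero hN' TensH8.isInvertible_structureModule _ hι, hdN', ?_⟩
    rw [htr]
    exact (secant_iff k X eK hdim hN hN' (by rw [hdN', hdN]) hdN1).2 ⟨e''⟩
  · -- uniqueness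
    rintro I I' ι ι' ⟨hI, hm, hdI, hsec⟩ ⟨hI', hm', hdI', hsec'⟩
    rw [htr] at hsec hsec'
    obtain ⟨eI⟩ := (secant_iff k X eK hdim hN hI (by rw [hdI, hdN]) hdN1).1 hsec
    obtain ⟨eI'⟩ := (secant_iff k X eK hdim hN hI' (by rw [hdI', hdN]) hdN1).1 hsec'
    obtain ⟨ψ⟩ := AlgEq.inverse_unique (comm N I' ≪≫ eI') (comm N I ≪≫ eI)
    have hι : ι ≠ 0 := by
      intro h
      haveI := hm
      exact VBCurve.not_isZero_of_isInvertible hI (IsZero.of_mono_eq_zero ι h)
    have hι' : ι' ≠ 0 := by
      intro h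
      haveI := hm'
      exact VBCurve.not_isZero_of_isInvertible hI' (IsZero.of_mono_eq_zero ι' h)
    have hψι : ψ.hom ≫ ι ≠ 0 := by
      intro h
      apply hι
      rw [← cancel_epi ψ.hom, h, comp_zero]
    have hfr : Module.finrank k (I' ⟶ Coh.structureModule X) = 1 := by
      rw [(OmDual.homTwistEquiv (k := k) eI' (Coh.structureModule X)).finrank_eq, h0ON]
    obtain ⟨c, hc⟩ := (finrank_eq_one_iff_of_nonzero' (ψ.hom ≫ ι) hψι).1 hfr ι'
    have hc0 : c ≠ 0 := by
      rintro rfl
      rw [zero_smul] at hc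
      exact hι' hc.symm
    refine ⟨{ hom := c • ψ.hom
              inv := c⁻¹ • ψ.inv
              hom_inv_id := by
                rw [Linear.smul_comp, Linear.comp_smul, smul_smul, ψ.hom_inv_id,
                  mul_inv_cancel₀ hc0, one_smul]
              inv_hom_id := by
                rw [Linear.smul_comp, Linear.comp_smul, smul_smul, ψ.inv_hom_id,
                  inv_mul_cancel₀ hc0, one_smul] }, ?_⟩
    show (c • ψ.hom) ≫ ι = ι'
    rw [Linear.smul_comp, hc]

end Main

end OmSec
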