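import Mathlib
import Groth.Prelude
import Groth.Agent.Lib.HypEll1_helper9
import Groth.Agent.Lib.OmSec_helper9
import Groth.Agent.Lib.VBCurve8_helper9
import Groth.Agent.Lib.VBCurve3_helper9
import Groth.Agent.Lib.CurveG12b_helper9
import Groth.Agent.Lib.InvTensP2_helper5
import Groth.Agent.Lib.BirCurve3_helper9
import Groth.Agent.Lib.Horrocks7_helper9

/-!
# Double covers of curves with split direct image: the canonical module descends (helper9)

Statement of S15161.  APPEND-ONLY once landed.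
-/

set_option autoImplicit false
set_option linter.style.haveILetI false
universe u
open CategoryTheory CategoryTheory.Limits AlgebraicGeometry Opposite TopologicalSpace

namespace DblCov

open QcqsLoc QCohExtn SerreCrit Groth.Agent.TensInv CurveAmple CohB1

section H0

variable (k : Type u) [Field k] (X : Scheme.{u}) [X.Over (Spec (CommRingCat.of k))]
  [IsProper (X ↘ Spec (CommRingCat.of k))]

/-- `h⁰(A ⊕ B) = h⁰(A) + h⁰(B)` -/
theorem finrank_HH0_biprod (A B : X.Modules) (hA : Coh.IsCoh A) (hB : Coh.IsCoh B) :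
    Module.finrank k (Coh.HH X (A ⊞ B) 0) =
      Module.finrank k (Coh.HH X A 0) + Module.finrank k (Coh.HH X B 0) := by
  haveI := ProperFinH9.finite_HH_of_proper k X _ hA 0
  haveI := ProperFinH9.finite_HH_of_proper k X _ hB 0
  haveI : Module.Finite k (Coh.structureModule X ⟶ A) :=
    Module.Finite.equiv (CurveIdeal.thetaEquiv k A).symm
  haveI : Module.Finite k (Coh.structureModule X ⟶ B) :=
    Module.Finite.equiv (CurveIdeal.thetaEquiv k B).symm
  let e : (Coh.structureModule X ⟶ A ⊞ B) ≃ₗ[k]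
      (Coh.structureModule X ⟶ A) × (Coh.structureModule X ⟶ B) :=
    { toFun := fun u => (u ≫ biprod.fst, u ≫ biprod.snd)
      map_add' := fun u v => by rw [Preadditive.add_comp, Preadditive.add_comp]; rfl
      map_smul' := fun c u => by rw [Linear.smul_comp, Linear.smul_comp]; rfl
      invFun := fun p => biprod.lift p.1 p.2
      left_inv := fun u => by apply biprod.hom_ext <;> simp
      right_inv := fun p => by simp }
  rw [← (CurveIdeal.thetaEquiv k (A ⊞ B)).finrank_eq, e.finrank_eq, Module.finrank_prod,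
    (CurveIdeal.thetaEquiv k A).finrank_eq, (CurveIdeal.thetaEquiv k B).finrank_eq]

end H0

section Summand

variable {Y : Scheme.{u}} [IsIntegral Y] [IsLocallyNoetherian Y]

/-- the split short exact sequence `0 → A → A ⊕ D → D → 0` -/
noncomputable def splitSC (A D : Y.Modules) : ShortComplex Y.Modules :=
  ShortComplex.mk (biprod.inl : A ⟶ A ⊞ D) (biprod.snd : A ⊞ D ⟶ D) (by simp)

theorem splitSC_shortExact (A D : Y.Modules) : (splitSC A D).ShortExact :=
  (ShortComplex.Splitting.ofHasBinaryBiproduct A D).shortExact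

/-- a complement of an invertible module in a finite locally free module of rank two on a
regular integral curve is invertible -/
theorem isInvertible_summand (hreg : ∀ y : Y, IsRegularLocalRing (Y.presheaf.stalk y))
    (hdim : topologicalKrullDim Y ≤ 1) {A D : Y.Modules} (hA : PicF.IsInvertible A)
    (h2 : FlatMod.IsFinLocFreeOfRank 2 (A ⊞ D)) : PicF.IsInvertible D := by
  have hAc := ProperFinH9.isCoh_of_isInvertible hA
  have hABf := FLFH8.IsFinLocFreeOfRank.isFinLocFree _ h2
  have hABc := KerFreeH8.isCoh_of_finLocFree hABf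
  have hS := splitSC_shortExact A D
  haveI := hS.epi_g
  have hDc : Coh.IsCoh D := by
    have h1 := CohKerH8.isCoh_cokernel hAc hABc (biprod.inl : A ⟶ A ⊞ D)
    have i : cokernel (biprod.inl : A ⟶ A ⊞ D) ≅ D :=
      IsColimit.coconePointUniqueUpToIso (colimit.isColimit _) hS.exact.gIsCokernel
    exact CohDevH8.isCoh_of_iso i.symm h1
  have hDf : FlatMod.IsFinLocFree D :=
    VBCurve.isFinLocFree_of_mono hreg hdim (biprod.inr : D ⟶ A ⊞ D) hDc hABf
  obtain ⟨r, hr⟩ := VBCurve.exists_rank hDf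
  have hA1 := FLFH8.finLocFreeOfRank_one_of_isInvertible hA
  have h := CurveDegAdd.rank_add (splitSC A D) hS hA1 h2 hr
  have hr1 : r = 1 := by omega
  subst hr1
  exact CurveG12.isInvertible_of_rank_one hr

end Summand

section Main

variable (k : Type u) [Field k] [IsAlgClosed k] (X Y : Scheme.{u})
  [X.Over (Spec (CommRingCat.of k))] [Y.Over (Spec (CommRingCat.of k))]
  [IsIntegral X] [IsProper (X ↘ Spec (CommRingCat.of k))] [Smooth (X ↘ Spec (CommRingCat.of k))]
  [IsIntegral Y] [IsProper (Y ↘ Spec (CommRingCat.of k))] [Smooth (Y ↘ Spec (CommRingCat.of k))]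

omit [Smooth (X ↘ Spec (CommRingCat.of k))] [Smooth (Y ↘ Spec (CommRingCat.of k))] in
theorem euler_OO (hdimX : topologicalKrullDim X = 1) :
    Curv2.euler k X (Coh.structureModule X) = 1 - (Curv2.genus k X : ℤ) := by
  haveI : (Coh.structureModule X).IsQuasicoherent := TensH8.isQuasicoherent_structureModule
  rw [CurveRR.euler_eq_sub k X hdimX.le, OmSec.finrank_HH0_structureModule k X]
  rfl

omit [Smooth (X ↘ Spec (CommRingCat.of k))] [Smooth (Y ↘ Spec (CommRingCat.of k))] in
/-- the degree of the complement `D` of `O_Y` in `π_* O_X` -/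
theorem deg_complement (hdimX : topologicalKrullDim X = 1) (hdimY : topologicalKrullDim Y = 1)
    (π : X ⟶ Y) [IsAffineHom π]
    (hπ : π ≫ (Y ↘ Spec (CommRingCat.of k)) = X ↘ Spec (CommRingCat.of k))
    (D : Y.Modules) (hDc : Coh.IsCoh D)
    (e : (Scheme.Modules.pushforward π).obj (Coh.structureModule X) ≅
      Coh.structureModule Y ⊞ D) :
    Curv2.deg k Y D 1 = 2 * (Curv2.genus k Y : ℤ) - (Curv2.genus k X : ℤ) - 1 := by
  haveI : IsLocallyNoetherian Y :=
    LocallyOfFiniteType.isLocallyNoetherian (Y ↘ Spec (CommRingCat.of k))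
  have hOYc := CohDevH8.isCoh_structureModule Y
  haveI : (Coh.structureModule X).IsQuasicoherent := TensH8.isQuasicoherent_structureModule
  have h1 := BirCurve.euler_push k π hπ (Coh.structureModule X)
  have h2 := CurveTens.euler_of_iso k Y e
  have h3 := VBCurve.euler_biprod k Y hOYc hDc
  have h4 := euler_OO k X hdimX
  have h5 := euler_OO k Y hdimY
  unfold Curv2.deg
  rw [h1] at h2
  push_cast
  linarith

/-- if `π_* O_X ≅ O_Y ⊕ D` and `D ⊗ E ≅ Ω_Y` with `deg E = g_X - 1` then `π^* E ≅ Ω_X` -/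
theorem pullback_iso_Omega (hdimX : topologicalKrullDim X = 1)
    (hdimY : topologicalKrullDim Y = 1)
    (π : X ⟶ Y) [IsFinite π] [Flat π]
    (hπ : π ≫ (Y ↘ Spec (CommRingCat.of k)) = X ↘ Spec (CommRingCat.of k))
    (hrk : ∀ y : Y, Scheme.Hom.finrank π y = 2) (D : Y.Modules)
    (e : (Scheme.Modules.pushforward π).obj (Coh.structureModule X) ≅
      Coh.structureModule Y ⊞ D)
    (E : Y.Modules) (hE : PicF.IsInvertible E)
    (hdegE : Curv2.deg k Y E 1 = (Curv2.genus k X : ℤ) - 1)
    (eDE : CohB1.tensorMod D E ≅ Omega.sheaf (Y ↘ Spec (CommRingCat.of k))) :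
    Nonempty ((Scheme.Modules.pullback π).obj E ≅ Omega.sheaf (X ↘ Spec (CommRingCat.of k))) := by
  haveI : IsLocallyNoetherian Y :=
    LocallyOfFiniteType.isLocallyNoetherian (Y ↘ Spec (CommRingCat.of k))
  haveI : IsLocallyNoetherian X :=
    LocallyOfFiniteType.isLocallyNoetherian (X ↘ Spec (CommRingCat.of k))
  haveI := OmSec.geomConn k Y
  have hΩY := OmField.isInvertible_Omega k Y hdimY
  have hEc := ProperFinH9.isCoh_of_isInvertible hE
  haveI := hEc.1
  have hE1 := FLFH8.finLocFreeOfRank_one_of_isInvertible hE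
  have hE' := TensBasis.isFinLocFree_of_rank hE1
  -- the degree of the pullback
  have hdegP : Curv2.deg k X ((Scheme.Modules.pullback π).obj E) 1 =
      2 * (Curv2.genus k X : ℤ) - 2 := by
    rw [HypEll.deg_pullback_cover k π hπ hdimY.le hrk E hE1, hdegE]
    push_cast
    ring
  -- sections of the pullback
  have hpE := PBH8.isFinLocFree_pullback π hE'
  haveI : ((Scheme.Modules.pullback π).obj E).IsQuasicoherent :=
    FLFH8.isQuasicoherent_of_finLocFree _ hpE
  have e1 : Module.finrank k (Coh.HH Y ((Scheme.Modules.pushforward π).obj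
      ((Scheme.Modules.pullback π).obj E)) 0) =
      Module.finrank k (Coh.HH X ((Scheme.Modules.pullback π).obj E) 0) :=
    (Groth.Agent.PushEdgeNat.pushEdgeEquiv π hπ ((Scheme.Modules.pullback π).obj E) 0).finrank_eq
  haveI : PreservesBinaryBiproducts (tR E) :=
    preservesBinaryBiproducts_of_preservesBiproducts (tR E)
  have φ1 : (Scheme.Modules.pushforward π).obj ((Scheme.Modules.pullback π).obj E) ≅
      CohB1.tensorMod ((Scheme.Modules.pushforward π).obj (Coh.structureModule X)) E :=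
    (Scheme.Modules.pushforward π).mapIso (rightUnit ((Scheme.Modules.pullback π).obj E)).symm
      ≪≫ ((PFormH9.projIso π E hE').app (Coh.structureModule X)).symm ≪≫
      comm E ((Scheme.Modules.pushforward π).obj (Coh.structureModule X))
  have φ2 : CohB1.tensorMod ((Scheme.Modules.pushforward π).obj (Coh.structureModule X)) E ≅
      CohB1.tensorMod (Coh.structureModule Y ⊞ D) E := mapR e E
  have φ3 : CohB1.tensorMod (Coh.structureModule Y ⊞ D) E ≅
      CohB1.tensorMod (Coh.structureModule Y) E ⊞ CohB1.tensorMod D E :=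
    (tR E).mapBiprod (Coh.structureModule Y) D
  have φ4 : CohB1.tensorMod (Coh.structureModule Y) E ⊞ CohB1.tensorMod D E ≅
      E ⊞ Omega.sheaf (Y ↘ Spec (CommRingCat.of k)) :=
    biprod.mapIso (Groth.Agent.CMMul.unitorL E) eDE
  have φ : (Scheme.Modules.pushforward π).obj ((Scheme.Modules.pullback π).obj E) ≅
      E ⊞ Omega.sheaf (Y ↘ Spec (CommRingCat.of k)) := φ1 ≪≫ φ2 ≪≫ φ3 ≪≫ φ4
  have e2 := finrank_HH_of_iso k Y φ 0
  have e3 := finrank_HH0_biprod k Y E _ hEc (ProperFinH9.isCoh_of_isInvertible hΩY)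
  have e4 := OmField.finrank_HH0_Omega k Y hdimY
  -- Riemann–Roch on `Y`
  have hRR : (Curv2.genus k X : ℤ) - (Curv2.genus k Y : ℤ) ≤
      (Module.finrank k (Coh.HH Y E 0) : ℤ) := by
    have h1 := CurveRR.euler_eq_sub k Y hdimY.le E
    have h2 : Curv2.euler k Y E = (Curv2.genus k X : ℤ) - 1 + (1 - (Curv2.genus k Y : ℤ)) := by
      have h5 := euler_OO k Y hdimY
      unfold Curv2.deg at hdegE
      rw [h5] at hdegE
      push_cast at hdegE
      linarith
    have h3 : (0 : ℤ) ≤ (Module.finrank k (Coh.HH Y E 1) : ℤ) := Int.natCast_nonneg _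
    linarith
  have hh : Curv2.genus k X ≤
      Module.finrank k (Coh.HH X ((Scheme.Modules.pullback π).obj E) 0) := by
    rw [← e1, e2, e3, e4]
    omega
  exact OmSec.iso_Omega_of_deg k X hdimX (TensH8.isInvertible_pullback π hE) hdegP hh

/-- **statement of S15161** (over any algebraically closed field; the involution is not needed) -/
theorem main15161 (hdimX : topologicalKrullDim X = 1) (hdimY : topologicalKrullDim Y = 1)
    (π : X ⟶ Y) [IsFinite π] [Flat π]
    (hπ : π ≫ (Y ↘ Spec (CommRingCat.of k)) = X ↘ Spec (CommRingCat.of k))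
    (hrk : ∀ y : Y, Scheme.Hom.finrank π y = 2) (D : Y.Modules)
    (hD : Nonempty ((Scheme.Modules.pushforward π).obj (Coh.structureModule X) ≅
      Coh.structureModule Y ⊞ D)) :
    ∃ Δ : Y.Modules, PicF.IsInvertible Δ ∧
      Nonempty (CohB1.tensorMod Δ D ≅ Coh.structureModule Y) ∧
      Nonempty ((Scheme.Modules.pullback π).obj
        (CohB1.tensorMod (Omega.sheaf (Y ↘ Spec (CommRingCat.of k))) Δ) ≅
        Omega.sheaf (X ↘ Spec (CommRingCat.of k))) := by
  obtain ⟨e⟩ := hD
  haveI : IsLocallyNoetherian Y :=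
    LocallyOfFiniteType.isLocallyNoetherian (Y ↘ Spec (CommRingCat.of k))
  haveI := OmSec.geomConn k Y
  have hreg : ∀ y : Y, IsRegularLocalRing (Y.presheaf.stalk y) :=
    fun y => VBCurve.hreg_of_smooth k Y y
  have hOY : PicF.IsInvertible (Coh.structureModule Y) := TensH8.isInvertible_structureModule
  have hA2 := HypEll.isFinLocFreeOfRank_pushO k π hrk
  have hAB2 : FlatMod.IsFinLocFreeOfRank 2 (Coh.structureModule Y ⊞ D) :=
    Groth.Agent.Horrocks.isFinLocFreeOfRank_of_iso e hA2
  have hDinv : PicF.IsInvertible D := isInvertible_summand hreg hdimY.le hOY hAB2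
  have hDc := ProperFinH9.isCoh_of_isInvertible hDinv
  obtain ⟨Δ, hΔ, ⟨eΔ⟩⟩ := Groth.Agent.InvTensP.exists_inverse D hDinv
  have eΔ' : CohB1.tensorMod Δ D ≅ Coh.structureModule Y := comm Δ D ≪≫ eΔ
  refine ⟨Δ, hΔ, ⟨eΔ'⟩, ?_⟩
  have hΩY := OmField.isInvertible_Omega k Y hdimY
  have hE : PicF.IsInvertible (CohB1.tensorMod (Omega.sheaf (Y ↘ Spec (CommRingCat.of k))) Δ) :=
    TensH8.isInvertible_tensorMod hΩY hΔ
  have hdegD := deg_complement k X Y hdimX hdimY π hπ D hDc e
  have hdegΔ : Curv2.deg k Y Δ 1 = (Curv2.genus k X : ℤ) + 1 - 2 * (Curv2.genus k Y : ℤ) := by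
    have h1 := CurveTens.deg_of_iso k Y eΔ 1
    rw [CurveTens.deg_tensorMod k Y hdimY.le hDinv hΔ, CurveDeg.deg_structureModule, hdegD] at h1
    linarith
  have hdegE : Curv2.deg k Y
      (CohB1.tensorMod (Omega.sheaf (Y ↘ Spec (CommRingCat.of k))) Δ) 1 =
      (Curv2.genus k X : ℤ) - 1 := by
    rw [CurveTens.deg_tensorMod k Y hdimY.le hΩY hΔ, OmField.deg_Omega k Y hdimY, hdegΔ]
    ring
  have eDE : CohB1.tensorMod D (CohB1.tensorMod (Omega.sheaf (Y ↘ Spec (CommRingCat.of k))) Δ) ≅
      Omega.sheaf (Y ↘ Spec (CommRingCat.of k)) :=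
    comm D _ ≪≫ assoc _ Δ D ≪≫ mapL _ eΔ' ≪≫ rightUnit _
  exact pullback_iso_Omega k X Y hdimX hdimY π hπ hrk D e _ hE hdegE eDE

end Main

end DblCov
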