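import Mathlib
import Groth.Prelude
import Groth.Agent.Lib.DblCov_helper9
import Groth.Agent.Lib.VBSat2_helper9
import Groth.Agent.Lib.OmLin_helper9

/-!
# Double covers of curves: the canonical module descends (helper9)

Statement of S15157.  APPEND-ONLY once landed.
-/

set_option autoImplicit false
set_option linter.style.haveILetI false
universe u
open CategoryTheory CategoryTheory.Limits AlgebraicGeometry Opposite TopologicalSpace

namespace DblCov

open QcqsLoc QCohExtn SerreCrit Groth.Agent.TensInv CurveAmple CohB1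

section Sub

variable (k : Type u) [Field k] {X Y : Scheme.{u}}
  [X.Over (Spec (CommRingCat.of k))] [Y.Over (Spec (CommRingCat.of k))]
  [IsIntegral X] [IsProper (X ↘ Spec (CommRingCat.of k))]
  [IsProper (Y ↘ Spec (CommRingCat.of k))]
  (π : X ⟶ Y) (hπ : π ≫ (Y ↘ Spec (CommRingCat.of k)) = X ↘ Spec (CommRingCat.of k))
  [IsFinite π] [Flat π]

include hπ in
/-- an invertible module with a nonzero morphism to `π_* O_X` has degree at most zero -/
theorem deg_le_zero_of_hom_pushO (hdimX : topologicalKrullDim X = 1)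
    (hdimY : topologicalKrullDim Y ≤ 1) {d : ℕ} (hd : 0 < d)
    (hrk : ∀ y : Y, Scheme.Hom.finrank π y = d) {P : Y.Modules} (hP : PicF.IsInvertible P)
    (p : P ⟶ (Scheme.Modules.pushforward π).obj (Coh.structureModule X)) (hp : p ≠ 0) :
    Curv2.deg k Y P 1 ≤ 0 := by
  let adj := Scheme.Modules.pullbackPushforwardAdjunction π
  have hq : (adj.homEquiv P (Coh.structureModule X)).symm p ≠ 0 := by
    intro h
    apply hp
    have h1 : p = adj.homEquiv P _ ((adj.homEquiv P (Coh.structureModule X)).symm p) :=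
      ((adj.homEquiv P _).apply_symm_apply p).symm
    rw [h1, h, Adjunction.homEquiv_unit, Functor.map_zero, comp_zero]
  have h1 := (CurveDeg.deg_le_of_ne_zero k X hdimX (TensH8.isInvertible_pullback π hP)
    TensH8.isInvertible_structureModule _ hq).1
  rw [CurveDeg.deg_structureModule, HypEll.deg_pullback_cover k π hπ hdimY hrk P
    (FLFH8.finLocFreeOfRank_one_of_isInvertible hP)] at h1
  have hd' : (0 : ℤ) < (d : ℤ) := by exact_mod_cast hd
  by_contra hlt
  push_neg at hlt
  have := mul_pos hd' hlt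
  linarith

end Sub

section Main

variable (k : Type u) [Field k] [IsAlgClosed k] (X Y : Scheme.{u})
  [X.Over (Spec (CommRingCat.of k))] [Y.Over (Spec (CommRingCat.of k))]
  [IsIntegral X] [IsProper (X ↘ Spec (CommRingCat.of k))] [Smooth (X ↘ Spec (CommRingCat.of k))]
  [IsIntegral Y] [IsProper (Y ↘ Spec (CommRingCat.of k))] [Smooth (Y ↘ Spec (CommRingCat.of k))]

omit [Smooth (X ↘ Spec (CommRingCat.of k))] [IsAlgClosed k] in
/-- the cokernel of `O_Y → π_* O_X` is invertible, for a double cover of regular curves -/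
theorem isInvertible_cokernel_unit (hdimX : topologicalKrullDim X = 1)
    (hdimY : topologicalKrullDim Y = 1) (π : X ⟶ Y) [IsFinite π] [Flat π]
    (hπ : π ≫ (Y ↘ Spec (CommRingCat.of k)) = X ↘ Spec (CommRingCat.of k))
    (hrk : ∀ y : Y, Scheme.Hom.finrank π y = 2) [Surjective π] [Mono (ClSub.unitToPush π)] :
    PicF.IsInvertible (cokernel (ClSub.unitToPush π)) := by
  haveI : IsLocallyNoetherian Y :=
    LocallyOfFiniteType.isLocallyNoetherian (Y ↘ Spec (CommRingCat.of k))
  haveI : Nonempty Y := inferInstance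
  have hreg : ∀ y : Y, IsRegularLocalRing (Y.presheaf.stalk y) :=
    fun y => VBCurve.hreg_of_smooth k Y y
  have hOY : PicF.IsInvertible (Coh.structureModule Y) := TensH8.isInvertible_structureModule
  have hO1 := FLFH8.finLocFreeOfRank_one_of_isInvertible hOY
  have hA2 := HypEll.isFinLocFreeOfRank_pushO k π hrk
  have hQf : FlatMod.IsFinLocFree (cokernel (ClSub.unitToPush π)) := by
    refine VBSat.coker_locFree_of_max k Y hreg hdimY (ClSub.unitToPush π) (by norm_num)
      (by norm_num) hO1 hA2 (fun P p hp hP => ?_)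
    rw [CurveDeg.deg_structureModule]
    have hPinv : PicF.IsInvertible P := CurveG12.isInvertible_of_rank_one hP
    haveI := hp
    have hp0 : p ≠ 0 := fun h =>
      VBCurve.not_isZero_of_isInvertible hPinv (VBCurve.isZero_of_mono_eq_zero _ h)
    exact deg_le_zero_of_hom_pushO k π hπ hdimX hdimY.le (by norm_num) hrk hPinv p hp0
  obtain ⟨s₀, hQ⟩ := VBCurve.exists_rank hQf
  have hS := VBCurve.cokernel_shortExact Y (ClSub.unitToPush π)
  have hrk' : 2 = 1 + s₀ := CurveDegAdd.rank_add _ hS hO1 hA2 hQ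
  have hs₀ : s₀ = 1 := by omega
  rw [hs₀] at hQ
  exact CurveG12.isInvertible_of_rank_one hQ

/-- if `(π_* O_X / O_Y) ⊗ E ≅ Ω_Y` with `deg E = g_X - 1` then `π^* E ≅ Ω_X` -/
theorem pullback_iso_Omega' (hdimX : topologicalKrullDim X = 1)
    (hdimY : topologicalKrullDim Y = 1)
    (π : X ⟶ Y) [IsFinite π] [Flat π]
    (hπ : π ≫ (Y ↘ Spec (CommRingCat.of k)) = X ↘ Spec (CommRingCat.of k))
    (hrk : ∀ y : Y, Scheme.Hom.finrank π y = 2)
    (E : Y.Modules) (hE : PicF.IsInvertible E)
    (hdegE : Curv2.deg k Y E 1 = (Curv2.genus k X : ℤ) - 1)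
    (eDE : CohB1.tensorMod (cokernel (ClSub.unitToPush π)) E ≅
      Omega.sheaf (Y ↘ Spec (CommRingCat.of k))) :
    Nonempty ((Scheme.Modules.pullback π).obj E ≅ Omega.sheaf (X ↘ Spec (CommRingCat.of k))) := by
  haveI : IsLocallyNoetherian Y :=
    LocallyOfFiniteType.isLocallyNoetherian (Y ↘ Spec (CommRingCat.of k))
  haveI : IsLocallyNoetherian X :=
    LocallyOfFiniteType.isLocallyNoetherian (X ↘ Spec (CommRingCat.of k))
  haveI : Nonempty Y := inferInstance
  haveI := OmSec.geomConn k Y
  have hΩY := OmField.isInvertible_Omega k Y hdimY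
  have hEc := ProperFinH9.isCoh_of_isInvertible hE
  haveI := hEc.1
  have hE1 := FLFH8.finLocFreeOfRank_one_of_isInvertible hE
  have hE' := TensBasis.isFinLocFree_of_rank hE1
  have hA2 := HypEll.isFinLocFreeOfRank_pushO k π hrk
  have hAc : Coh.IsCoh ((Scheme.Modules.pushforward π).obj (Coh.structureModule X)) :=
    KerFreeH8.isCoh_of_finLocFree (TensBasis.isFinLocFree_of_rank hA2)
  -- the degree of the pullback
  have hdegP : Curv2.deg k X ((Scheme.Modules.pullback π).obj E) 1 =
      2 * (Curv2.genus k X : ℤ) - 2 := by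
    rw [HypEll.deg_pullback_cover k π hπ hdimY.le hrk E hE1, hdegE]
    push_cast
    ring
  have hpE := PBH8.isFinLocFree_pullback π hE'
  haveI : ((Scheme.Modules.pullback π).obj E).IsQuasicoherent :=
    FLFH8.isQuasicoherent_of_finLocFree _ hpE
  -- a nonzero morphism `π_* O_X ⊗ E ⟶ Ω_Y`
  have hψ : (tR E).map (cokernel.π (ClSub.unitToPush π)) ≫ eDE.hom ≠ 0 := by
    intro h
    have h1 : (tR E).map (cokernel.π (ClSub.unitToPush π)) = 0 := by
      have h2 : (tR E).map (cokernel.π (ClSub.unitToPush π)) ≫ eDE.hom = 0 ≫ eDE.hom := by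
        rw [zero_comp]; exact h
      exact (cancel_mono eDE.hom).mp h2
    obtain ⟨E', hE'', ⟨eE⟩⟩ := Groth.Agent.InvTensP.exists_inverse E hE
    haveI : (tR E).IsEquivalence := isEquivalence_tR ⟨eE⟩
    have h3 : cokernel.π (ClSub.unitToPush π) = 0 :=
      (tR E).map_injective (h1.trans (Functor.map_zero _ _ _).symm)
    have h4 : IsZero (cokernel (ClSub.unitToPush π)) := by
      rw [IsZero.iff_id_eq_zero, ← cancel_epi (cokernel.π (ClSub.unitToPush π)), h3]
      simp
    haveI : IsIso eDE.hom := inferInstance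
    exact VBCurve.not_isZero_of_isInvertible hΩY
      ((Functor.map_isZero (tR E) h4).of_iso eDE.symm)
  have hH1 : Nontrivial (Coh.HH Y (CohB1.tensorMod
      ((Scheme.Modules.pushforward π).obj (Coh.structureModule X)) E) 1) :=
    OmLin.nontrivial_HH1_of_hom k Y hdimY _ (isCoh_tensorMod Y hAc hE) _ hψ
  have φ1 : (Scheme.Modules.pushforward π).obj ((Scheme.Modules.pullback π).obj E) ≅
      CohB1.tensorMod ((Scheme.Modules.pushforward π).obj (Coh.structureModule X)) E :=
    (Scheme.Modules.pushforward π).mapIso (rightUnit ((Scheme.Modules.pullback π).obj E)).symm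
      ≪≫ ((PFormH9.projIso π E hE').app (Coh.structureModule X)).symm ≪≫
      comm E ((Scheme.Modules.pushforward π).obj (Coh.structureModule X))
  have hH1X : Nontrivial (Coh.HH X ((Scheme.Modules.pullback π).obj E) 1) :=
    ((Groth.Agent.HypConn.hhEquivOfIso (A := k) φ1 1).symm.trans
      (Groth.Agent.PushEdgeNat.pushEdgeEquiv π hπ ((Scheme.Modules.pullback π).obj E) 1)
      ).symm.toEquiv.nontrivial
  have hpEc : Coh.IsCoh ((Scheme.Modules.pullback π).obj E) :=
    ProperFinH9.isCoh_of_isInvertible (TensH8.isInvertible_pullback π hE)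
  haveI := ProperFinH9.finite_HH_of_proper k X _ hpEc 1
  have hpos : 0 < Module.finrank k (Coh.HH X ((Scheme.Modules.pullback π).obj E) 1) :=
    Module.finrank_pos
  have hh : Curv2.genus k X ≤
      Module.finrank k (Coh.HH X ((Scheme.Modules.pullback π).obj E) 0) := by
    have h1 := CurveRR.euler_eq_sub k X hdimX.le ((Scheme.Modules.pullback π).obj E)
    have h5 := euler_OO k X hdimX
    unfold Curv2.deg at hdegP
    rw [h5, h1] at hdegP
    push_cast at hdegP
    omega
  exact OmSec.iso_Omega_of_deg k X hdimX (TensH8.isInvertible_pullback π hE) hdegP hh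

/-- **statement of S15157** (over any algebraically closed field; the involution is not needed) -/
theorem main15157 (hdimX : topologicalKrullDim X = 1)
    (hdimY : topologicalKrullDim Y = 1) (π : X ⟶ Y) [IsFinite π] [Flat π]
    (hπ : π ≫ (Y ↘ Spec (CommRingCat.of k)) = X ↘ Spec (CommRingCat.of k))
    (hrk : ∀ y : Y, Scheme.Hom.finrank π y = 2) :
    ∃ M : Y.Modules, PicF.IsInvertible M ∧
      Nonempty ((Scheme.Modules.pullback π).obj M ≅ Omega.sheaf (X ↘ Spec (CommRingCat.of k))) := by
  haveI : IsLocallyNoetherian Y :=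
    LocallyOfFiniteType.isLocallyNoetherian (Y ↘ Spec (CommRingCat.of k))
  haveI : IsLocallyNoetherian X :=
    LocallyOfFiniteType.isLocallyNoetherian (X ↘ Spec (CommRingCat.of k))
  haveI : Nonempty Y := inferInstance
  haveI := OmSec.geomConn k Y
  haveI : Surjective π := by
    rw [← Scheme.Hom.one_le_finrank_iff_surjective]
    intro y
    rw [hrk y]
    norm_num
  haveI := HypEll.mono_unitToPush π
  have hDinv := isInvertible_cokernel_unit k X Y hdimX hdimY π hπ hrk
  have hDc := ProperFinH9.isCoh_of_isInvertible hDinv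
  have hOYc := CohDevH8.isCoh_structureModule Y
  have hA2 := HypEll.isFinLocFreeOfRank_pushO k π hrk
  have hAc : Coh.IsCoh ((Scheme.Modules.pushforward π).obj (Coh.structureModule X)) :=
    KerFreeH8.isCoh_of_finLocFree (TensBasis.isFinLocFree_of_rank hA2)
  obtain ⟨Δ, hΔ, ⟨eΔ⟩⟩ := Groth.Agent.InvTensP.exists_inverse _ hDinv
  have hΩY := OmField.isInvertible_Omega k Y hdimY
  have hM : PicF.IsInvertible (CohB1.tensorMod (Omega.sheaf (Y ↘ Spec (CommRingCat.of k))) Δ) :=
    TensH8.isInvertible_tensorMod hΩY hΔ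
  refine ⟨CohB1.tensorMod (Omega.sheaf (Y ↘ Spec (CommRingCat.of k))) Δ, hM, ?_⟩
  -- degrees
  have hdegD : Curv2.deg k Y (cokernel (ClSub.unitToPush π)) 1 =
      2 * (Curv2.genus k Y : ℤ) - (Curv2.genus k X : ℤ) - 1 := by
    haveI : (Coh.structureModule X).IsQuasicoherent := TensH8.isQuasicoherent_structureModule
    have hS := VBCurve.cokernel_shortExact Y (ClSub.unitToPush π)
    have h0 := EulerField.euler_additive k Y _ hS hOYc hAc hDc
    have h0' : Curv2.euler k Y ((Scheme.Modules.pushforward π).obj (Coh.structureModule X)) =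
        Curv2.euler k Y (Coh.structureModule Y) +
          Curv2.euler k Y (cokernel (ClSub.unitToPush π)) := h0
    have h1 := BirCurve.euler_push k π hπ (Coh.structureModule X)
    have h4 := euler_OO k X hdimX
    have h5 := euler_OO k Y hdimY
    unfold Curv2.deg
    rw [h1] at h0'
    push_cast
    linarith
  have hdegΔ : Curv2.deg k Y Δ 1 = (Curv2.genus k X : ℤ) + 1 - 2 * (Curv2.genus k Y : ℤ) := by
    have h1 := CurveTens.deg_of_iso k Y eΔ 1
    rw [CurveTens.deg_tensorMod k Y hdimY.le hDinv hΔ, CurveDeg.deg_structureModule, hdegD] at h1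
    linarith
  have hdegM : Curv2.deg k Y
      (CohB1.tensorMod (Omega.sheaf (Y ↘ Spec (CommRingCat.of k))) Δ) 1 =
      (Curv2.genus k X : ℤ) - 1 := by
    rw [CurveTens.deg_tensorMod k Y hdimY.le hΩY hΔ, OmField.deg_Omega k Y hdimY, hdegΔ]
    ring
  have eDM : CohB1.tensorMod (cokernel (ClSub.unitToPush π))
      (CohB1.tensorMod (Omega.sheaf (Y ↘ Spec (CommRingCat.of k))) Δ) ≅
      Omega.sheaf (Y ↘ Spec (CommRingCat.of k)) :=
    comm _ _ ≪≫ assoc _ Δ _ ≪≫ mapL _ (comm Δ _ ≪≫ eΔ) ≪≫ rightUnit _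
  exact pullback_iso_Omega' k X Y hdimX hdimY π hπ hrk _ hM hdegM eDM

end Main

end DblCov
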