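import Mathlib
import Groth.Agent.Lib.DblCov2_helper7
import Groth.Agent.Lib.IsQuot1_helper8

set_option backward.isDefEq.respectTransparency false
set_option backward.isDefEq.respectTransparency.types false
set_option linter.style.haveILetI false
set_option linter.unusedSectionVars false
set_option linter.unusedVariables false
set_option autoImplicit false
set_option maxHeartbeats 1600000
set_option maxSynthPendingDepth 3

open CategoryTheory CategoryTheory.Limits AlgebraicGeometry TopologicalSpace Opposite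

universe u

namespace Groth.Agent.Lib.DblCovH7

variable {X Y : Scheme.{u}} (f : X ⟶ Y)

/-!
# Double covers, part 3 (helper7): the involution of a double cover, glued from good opens
APPEND-ONLY once landed.
-/

/-- the localization data attached to a basic open -/
theorem away_data [IsAffineHom f] {V W : Y.Opens} (hV : IsAffineOpen V) (g : Γ(Y, V))
    (e : W = Y.basicOpen g) (i : W ⟶ V) (j : f ⁻¹ᵁ W ⟶ f ⁻¹ᵁ V) :
    (X.presheaf.map j.op).hom.comp (f.app V).hom =
        (f.app W).hom.comp (Y.presheaf.map i.op).hom ∧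
      @IsLocalization.Away _ _ g Γ(Y, W) _ (Y.presheaf.map i.op).hom.toAlgebra ∧
      @IsLocalization.Away _ _ ((f.app V).hom g) Γ(X, f ⁻¹ᵁ W) _
        (X.presheaf.map j.op).hom.toAlgebra := by
  refine ⟨?_, hV.isLocalization_of_eq_basicOpen g i e,
    (hV.preimage f).isLocalization_of_eq_basicOpen _ j ?_⟩
  · ext t
    exact (IsQuotH8.app_res' f i j t).symm
  · rw [e, Scheme.preimage_basicOpen]

/-- a good open: affine, over which the cover is free of rank two -/
structure GoodOpen where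
  V : Y.Opens
  aff : IsAffineOpen V
  dbl : IsDbl (f.app V).hom

variable {f}

theorem GoodOpen.ext' {W W' : GoodOpen f} (h : W.V = W'.V) : W = W' := by
  cases W
  cases W'
  simp only [GoodOpen.mk.injEq]
  exact h

variable (f)

theorem finrank_app [IsFinite f] [Flat f] (hrk : ∀ y : Y, f.finrank y = 2) {V : Y.Opens}
    (hV : IsAffineOpen V) (q : PrimeSpectrum Γ(Y, V)) : (f.app V).hom.finrank q = 2 := by
  have hU : IsAffineOpen (f ⁻¹ᵁ V) := hV.preimage f
  have hfin : (f.app V).hom.Finite := f.finite_app V hV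
  have hflat : (f.app V).hom.Flat := by
    rw [Scheme.Hom.app_eq_appLE]
    exact f.flat_appLE hV hU le_rfl
  have hsq : hU.fromSpec ≫ f = Spec.map (f.app V) ≫ hV.fromSpec := by
    rw [Scheme.Hom.app_eq_appLE]
    exact (IsAffineOpen.SpecMap_appLE_fromSpec f hV hU le_rfl).symm
  have hpb : IsPullback (Spec.map (f.app V)) hU.fromSpec hV.fromSpec f :=
    IsOpenImmersion.isPullback _ _ _ _ hsq (by
      rw [hV.opensRange_fromSpec, hU.opensRange_fromSpec])
  have h1 := Scheme.Hom.finrank_of_isPullback hU.fromSpec (Spec.map (f.app V)) f hV.fromSpec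
    hpb.flip q
  rw [Scheme.Hom.finrank_SpecMap_eq_finrank hfin hflat, hrk] at h1
  exact h1

theorem exists_goodOpen [IsFinite f] [Flat f] (hrk : ∀ y : Y, f.finrank y = 2) {O : Y.Opens}
    {y : Y} (hy : y ∈ O) : ∃ W : GoodOpen f, y ∈ W.V ∧ W.V ≤ O := by
  obtain ⟨V₀, hV₀, hyV₀, hV₀O⟩ := exists_isAffineOpen_mem_and_subset hy
  have hfin : (f.app V₀).hom.Finite := f.finite_app V₀ hV₀
  have hflat : (f.app V₀).hom.Flat := by
    rw [Scheme.Hom.app_eq_appLE]
    exact f.flat_appLE hV₀ (hV₀.preimage f) le_rfl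
  obtain ⟨p, hp⟩ : ∃ p : PrimeSpectrum Γ(Y, V₀), p = hV₀.primeIdealOf ⟨y, hyV₀⟩ := ⟨_, rfl⟩
  haveI := p.2
  obtain ⟨r, hr, H⟩ := exists_isDbl_away (f.app V₀).hom hfin hflat
    (finrank_app f hrk hV₀) p.asIdeal
  obtain ⟨W, hW⟩ : ∃ W : Y.Opens, W = Y.basicOpen r := ⟨_, rfl⟩
  have hWV : W ≤ V₀ := by
    rw [hW]
    exact Y.basicOpen_le r
  have hd := away_data f hV₀ r hW (homOfLE hWV) (homOfLE (fun _ hx => hWV hx))
  have hyW : y ∈ W := by
    have h1 : hV₀.fromSpec p = y := by
      rw [hp]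
      exact hV₀.fromSpec_primeIdealOf ⟨y, hyV₀⟩
    have h2 : p ∈ hV₀.fromSpec ⁻¹ᵁ Y.basicOpen r := by
      rw [hV₀.fromSpec_preimage_basicOpen]
      exact hr
    rw [hW, ← h1]
    exact h2
  refine ⟨⟨W, ?_, H _ _ _ _ _ hd.1 hd.2.1 hd.2.2⟩, hyW, hWV.trans hV₀O⟩
  rw [hW]
  exact hV₀.basicOpen r


variable {f}

/-- the involution over a good open, as a morphism of rings -/
noncomputable def GoodOpen.sg (V : GoodOpen f) : Γ(X, f ⁻¹ᵁ V.V) ⟶ Γ(X, f ⁻¹ᵁ V.V) :=
  CommRingCat.ofHom (sig (f.app V.V).hom V.dbl)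

theorem GoodOpen.sg_apply (V : GoodOpen f) (x : Γ(X, f ⁻¹ᵁ V.V)) :
    V.sg.hom x = sig (f.app V.V).hom V.dbl x := rfl

variable (f) in
/-- restriction of sections of `X` between preimages -/
noncomputable def resX {W V : Y.Opens} (h : W ≤ V) : Γ(X, f ⁻¹ᵁ V) ⟶ Γ(X, f ⁻¹ᵁ W) :=
  X.presheaf.map (homOfLE (show f ⁻¹ᵁ W ≤ f ⁻¹ᵁ V from fun _ hx => h hx)).op

theorem resX_refl (V : Y.Opens) : resX f (le_refl V) = 𝟙 _ := by
  unfold resX
  rw [Subsingleton.elim (homOfLE _) (𝟙 (f ⁻¹ᵁ V)), op_id, X.presheaf.map_id]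

theorem resX_trans {W V U : Y.Opens} (h1 : W ≤ V) (h2 : V ≤ U) :
    resX f (h1.trans h2) = resX f h2 ≫ resX f h1 := by
  unfold resX
  rw [← X.presheaf.map_comp]
  rfl

/-- `W` is contained in `V` and the involutions are compatible -/
def Compat (W V : GoodOpen f) : Prop :=
  ∃ h : W.V ≤ V.V, V.sg ≫ resX f h = resX f h ≫ W.sg

instance : Preorder (GoodOpen f) where
  le W V := Compat W V
  le_refl V := ⟨le_rfl, by rw [resX_refl, Category.comp_id, Category.id_comp]⟩
  le_trans W V U hWV hVU := by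
    obtain ⟨h1, c1⟩ := hWV
    obtain ⟨h2, c2⟩ := hVU
    refine ⟨h1.trans h2, ?_⟩
    rw [resX_trans h1 h2, ← Category.assoc, c2, Category.assoc, c1, Category.assoc]

theorem GoodOpen.le_V {W V : GoodOpen f} (h : W ≤ V) : W.V ≤ V.V := Exists.fst h

theorem GoodOpen.le_compat {W V : GoodOpen f} (h : W ≤ V) :
    V.sg ≫ resX f (GoodOpen.le_V h) = resX f (GoodOpen.le_V h) ≫ W.sg := Exists.snd h

theorem compat_of_basicOpen [IsAffineHom f] (V W : GoodOpen f) (g : Γ(Y, V.V))
    (e : W.V = Y.basicOpen g) : W ≤ V := by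
  have hWV : W.V ≤ V.V := by
    rw [e]
    exact Y.basicOpen_le g
  refine ⟨hWV, ?_⟩
  have hd := away_data f V.aff g e (homOfLE hWV) (homOfLE (fun _ hx => hWV hx))
  ext x
  exact (sig_away _ _ _ _ hd.1 g hd.2.1 hd.2.2 V.dbl W.dbl x).symm

theorem goodOpen_basicOpen [IsAffineHom f] (V : GoodOpen f) (g : Γ(Y, V.V)) :
    ∃ W : GoodOpen f, W.V = Y.basicOpen g := by
  have hd := away_data f V.aff g rfl (homOfLE (Y.basicOpen_le g))
    (homOfLE (fun _ hx => Y.basicOpen_le g hx))
  exact ⟨⟨Y.basicOpen g, V.aff.basicOpen g,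
    isDbl_of_away _ _ _ _ hd.1 g hd.2.1 hd.2.2 V.dbl⟩, rfl⟩

section Cover

variable [IsFinite f] [Flat f] (hrk : ∀ y : Y, f.finrank y = 2)

variable (f) in
/-- the cover of `X` by the preimages of the good opens -/
noncomputable def cov : X.OpenCover :=
  Scheme.Cover.mkOfCovers (GoodOpen f) (fun V => Spec Γ(X, f ⁻¹ᵁ V.V))
    (fun V => (V.aff.preimage f).fromSpec)
    (fun x => by
      obtain ⟨W, hW, -⟩ := exists_goodOpen f hrk (O := ⊤) (y := f x) trivial
      have hx : x ∈ Set.range (W.aff.preimage f).fromSpec := by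
        rw [(W.aff.preimage f).range_fromSpec]
        exact hW
      obtain ⟨z, hz⟩ := hx
      exact ⟨W, z, hz⟩)
    (fun V => inferInstance)

noncomputable instance : Preorder (cov f hrk).I₀ := inferInstanceAs (Preorder (GoodOpen f))

theorem cov_f (V : GoodOpen f) : (cov f hrk).f V = (V.aff.preimage f).fromSpec := rfl

theorem map_resX_fromSpec {W V : GoodOpen f} (h : W.V ≤ V.V) :
    Spec.map (resX f h) ≫ (V.aff.preimage f).fromSpec = (W.aff.preimage f).fromSpec :=
  (V.aff.preimage f).map_fromSpec (W.aff.preimage f) _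

noncomputable instance : (cov f hrk).LocallyDirected where
  trans {W V} hWV := Spec.map (resX f (GoodOpen.le_V (leOfHom hWV)))
  trans_id V := by
    show Spec.map (resX f _) = 𝟙 _
    rw [resX_refl, Spec.map_id]
  trans_comp {W V U} hWV hVU := by
    show Spec.map (resX f _) = Spec.map (resX f _) ≫ Spec.map (resX f _)
    rw [← Spec.map_comp, ← resX_trans]
  w {W V} hWV := map_resX_fromSpec _
  directed {V V'} x := by
    obtain ⟨px, hpx⟩ : ∃ px : X, px = (pullback.fst ((cov f hrk).f V) ((cov f hrk).f V') ≫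
      (cov f hrk).f V) x := ⟨_, rfl⟩
    have h1 : px ∈ f ⁻¹ᵁ V.V := by
      have : px ∈ Set.range (V.aff.preimage f).fromSpec := by
        rw [hpx, Scheme.Hom.comp_apply]
        exact ⟨_, rfl⟩
      rw [(V.aff.preimage f).range_fromSpec] at this
      exact this
    have h2 : px ∈ f ⁻¹ᵁ V'.V := by
      have : px ∈ Set.range (V'.aff.preimage f).fromSpec := by
        rw [hpx, pullback.condition, Scheme.Hom.comp_apply]
        exact ⟨_, rfl⟩
      rw [(V'.aff.preimage f).range_fromSpec] at this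
      exact this
    obtain ⟨g₁, g₂, hg, hfx⟩ := exists_basicOpen_le_affine_inter V.aff V'.aff (f px) ⟨h1, h2⟩
    obtain ⟨W, hW⟩ := goodOpen_basicOpen V g₁
    have hWV : W ≤ V := compat_of_basicOpen V W g₁ hW
    have hWV' : W ≤ V' := compat_of_basicOpen V' W g₂ (hW.trans hg)
    have hpxW : px ∈ Set.range (W.aff.preimage f).fromSpec := by
      rw [(W.aff.preimage f).range_fromSpec]
      show f px ∈ W.V
      rw [hW]
      exact hfx
    obtain ⟨y, hy⟩ := hpxW
    refine ⟨W, homOfLE hWV, homOfLE hWV', y, ?_⟩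
    apply (pullback.fst ((cov f hrk).f V) ((cov f hrk).f V') ≫
      (cov f hrk).f V).isOpenEmbedding.injective
    rw [← hpx, ← Scheme.Hom.comp_apply, pullback.lift_fst_assoc]
    rw [← hy]
    exact congrArg (fun k => k y) (map_resX_fromSpec (GoodOpen.le_V hWV))
  property_trans {W V} hWV := by
    haveI : IsOpenImmersion (Spec.map (resX f (GoodOpen.le_V (leOfHom hWV))) ≫
        (V.aff.preimage f).fromSpec) := by
      rw [map_resX_fromSpec]
      infer_instance
    exact IsOpenImmersion.of_comp _ (V.aff.preimage f).fromSpec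

/-- the local pieces of the involution -/
noncomputable def gl (V : GoodOpen f) : Spec Γ(X, f ⁻¹ᵁ V.V) ⟶ X :=
  Spec.map V.sg ≫ (V.aff.preimage f).fromSpec

theorem trans_gl {W V : GoodOpen f} (h : W ≤ V) :
    Spec.map (resX f (GoodOpen.le_V h)) ≫ gl V = gl W := by
  unfold gl
  rw [← Category.assoc, ← Spec.map_comp, GoodOpen.le_compat h, Spec.map_comp, Category.assoc,
    map_resX_fromSpec]

variable (f) in
/-- the involution of the double cover -/
noncomputable def invol : X ⟶ X :=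
  (cov f hrk).glueMorphismsOfLocallyDirected (fun V => gl V)
    (fun {W V} hWV => trans_gl (leOfHom hWV))

theorem fromSpec_invol (V : GoodOpen f) :
    (V.aff.preimage f).fromSpec ≫ invol f hrk = gl V :=
  (cov f hrk).map_glueMorphismsOfLocallyDirected (fun V => gl V)
    (fun {W V} hWV => trans_gl (leOfHom hWV)) V

theorem gl_comp (V : GoodOpen f) : gl V ≫ f = (V.aff.preimage f).fromSpec ≫ f := by
  have hsq : (V.aff.preimage f).fromSpec ≫ f = Spec.map (f.app V.V) ≫ V.aff.fromSpec := by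
    rw [Scheme.Hom.app_eq_appLE]
    exact (IsAffineOpen.SpecMap_appLE_fromSpec f V.aff (V.aff.preimage f) le_rfl).symm
  have h1 : f.app V.V ≫ V.sg = f.app V.V := by
    ext t
    exact sig_comp _ V.dbl t
  unfold gl
  rw [Category.assoc, hsq, ← Category.assoc, ← Spec.map_comp, h1]

theorem invol_comp : invol f hrk ≫ f = f := by
  apply (cov f hrk).hom_ext
  intro V
  show (V.aff.preimage f).fromSpec ≫ invol f hrk ≫ f = (V.aff.preimage f).fromSpec ≫ f
  rw [← Category.assoc, fromSpec_invol, gl_comp]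

theorem invol_invol : invol f hrk ≫ invol f hrk = 𝟙 X := by
  apply (cov f hrk).hom_ext
  intro V
  show (V.aff.preimage f).fromSpec ≫ invol f hrk ≫ invol f hrk =
    (V.aff.preimage f).fromSpec ≫ 𝟙 X
  have h1 : V.sg ≫ V.sg = 𝟙 _ := by
    ext t
    exact sig_sig _ V.dbl t
  rw [← Category.assoc, fromSpec_invol]
  unfold gl
  rw [Category.assoc, fromSpec_invol]
  unfold gl
  rw [← Category.assoc, ← Spec.map_comp, h1, Spec.map_id, Category.id_comp, Category.comp_id]

/-- the action of a morphism on sections over an affine open, from its action on the spectrum -/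
theorem appLE_eq_of_fromSpec {U : X.Opens} (hU : IsAffineOpen U) (h : X ⟶ X)
    (ψ : Γ(X, U) ⟶ Γ(X, U)) (hh : hU.fromSpec ≫ h = Spec.map ψ ≫ hU.fromSpec)
    (e : U ≤ h ⁻¹ᵁ U) : h.appLE U U e = ψ := by
  apply Spec.map_injective
  rw [← cancel_mono hU.fromSpec, IsAffineOpen.SpecMap_appLE_fromSpec h hU hU e, hh]

theorem invol_appLE (V : GoodOpen f) (e : f ⁻¹ᵁ V.V ≤ invol f hrk ⁻¹ᵁ (f ⁻¹ᵁ V.V)) :
    (invol f hrk).appLE (f ⁻¹ᵁ V.V) (f ⁻¹ᵁ V.V) e = V.sg :=
  appLE_eq_of_fromSpec (V.aff.preimage f) _ _ (fromSpec_invol hrk V) e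

end Cover

end Groth.Agent.Lib.DblCovH7
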