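import Mathlib
import Groth.Agent.Lib.DblCov3_helper7
import Groth.Agent.Lib.IsQuot1_helper8
import Groth.Prelude.Def_SGA1

/-!
# Double covers, part 4 (helper7): a double cover (2 invertible) is the quotient by its involution
APPEND-ONLY once landed.
-/

set_option backward.isDefEq.respectTransparency false
set_option backward.isDefEq.respectTransparency.types false
set_option linter.style.haveILetI false
set_option linter.unusedSectionVars false
set_option linter.unusedVariables false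
set_option autoImplicit false
set_option maxHeartbeats 1600000
set_option maxSynthPendingDepth 3

open CategoryTheory CategoryTheory.Limits AlgebraicGeometry TopologicalSpace Opposite

universe u

namespace Groth.Agent.Lib.DblCovH7

variable {X Y : Scheme.{u}}

/-- the subgroup of automorphisms over the base -/
def autOver (f : X ⟶ Y) : Subgroup (Aut X) where
  carrier := {g | g.hom ≫ f = f}
  mul_mem' {a b} ha hb := by
    show (b.hom ≫ a.hom) ≫ f = f
    rw [Category.assoc, ha, hb]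
  one_mem' := by
    show 𝟙 X ≫ f = f
    rw [Category.id_comp]
  inv_mem' {a} ha := by
    show a.inv ≫ f = f
    have h : a.inv ≫ a.hom ≫ f = f := by rw [Iso.inv_hom_id_assoc]
    rw [ha] at h
    exact h

/-- S18900 -/
theorem main18900 (f : X ⟶ Y) [IsFinite f] [Flat f] [LocallyOfFinitePresentation f]
    (hrk : ∀ y : Y, f.finrank y = 2) (h2 : IsUnit (2 : Γ(Y, ⊤))) :
    ∃ σ : Aut X, σ.hom ≫ f = f ∧ σ * σ = 1 ∧
      SGA1.IsQuot (Subgroup.zpowers σ).subtype f := by
  obtain ⟨σ, hσ⟩ : ∃ σ : Aut X, σ.hom = invol f hrk :=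
    ⟨⟨invol f hrk, invol f hrk, invol_invol hrk, invol_invol hrk⟩, rfl⟩
  have hσf : σ.hom ≫ f = f := by
    rw [hσ]
    exact invol_comp hrk
  refine ⟨σ, hσf, ?_, ?_⟩
  · apply Iso.ext
    show σ.hom ≫ σ.hom = 𝟙 X
    rw [hσ]
    exact invol_invol hrk
  · have hle : Subgroup.zpowers σ ≤ autOver f := (Subgroup.zpowers_le).2 hσf
    have hinv : ∀ g : ↥(Subgroup.zpowers σ),
        ((Subgroup.zpowers σ).subtype g).hom ≫ f = f := fun g => hle g.2
    refine IsQuotH8.isQuot_of_basis _ f inferInstance hinv {U | ∃ V : GoodOpen f, V.V = U}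
      ?_ ?_ ?_
    · rw [Opens.isBasis_iff_nbhd]
      intro O y hy
      obtain ⟨W, hyW, hWO⟩ := exists_goodOpen f hrk hy
      exact ⟨W.V, ⟨W, rfl⟩, hyW, hWO⟩
    · rintro U ⟨V, rfl⟩
      exact injective_of_isDbl _ V.dbl
    · rintro U ⟨V, rfl⟩ s hs
      have h2V : IsUnit (2 : Γ(Y, V.V)) := by
        have := h2.map (Y.presheaf.map (homOfLE (le_top : V.V ≤ ⊤)).op).hom
        rwa [map_ofNat] at this
      apply mem_range_of_sig_eq _ V.dbl h2V
      have h1 := hs ⟨σ, Subgroup.mem_zpowers σ⟩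
      have e : f ⁻¹ᵁ V.V ≤ σ.hom ⁻¹ᵁ (f ⁻¹ᵁ V.V) :=
        SGA1.preimage_le_of_inv (Subgroup.zpowers σ).subtype f hinv ⟨σ, Subgroup.mem_zpowers σ⟩ V.V
      have h3 : σ.hom.appLE (f ⁻¹ᵁ V.V) (f ⁻¹ᵁ V.V) e = V.sg := by
        have e' : f ⁻¹ᵁ V.V ≤ invol f hrk ⁻¹ᵁ (f ⁻¹ᵁ V.V) := by
          rw [← hσ]
          exact e
        have := invol_appLE hrk V e'
        rw [← this]
        exact IsQuotH8.appLE_congr hσ _ _ _ _
      have h4 : (σ.hom.appLE (f ⁻¹ᵁ V.V) (f ⁻¹ᵁ V.V) e).hom s = s := h1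
      rw [h3] at h4
      exact h4

end Groth.Agent.Lib.DblCovH7
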