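import Mathlib.Tactic
import Groth.Prelude.Def_DeRham

/-!
Helper lemmas (helper1) for the ring-level de Rham predicates `DeRham.IsRule`, `DeRham.IsDiff`,
`DeRham.IsCxMap`.  APPEND-ONLY once landed.
-/

set_option autoImplicit false
universe v u

open exteriorPower

namespace Groth.Agent.Lib.DeRhamH1

section
variable {R : Type v} {A M : Type u} [CommRing R] [CommRing A] [Algebra R A]
  [AddCommGroup M] [Module A M] [Module R M]

theorem comp_cons (δ : Derivation R A M) {p : ℕ} (b₀ : A) (b : Fin p → A) :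
    (fun i => δ ((Fin.cons b₀ b : Fin (p + 1) → A) i)) =
      (Fin.cons (δ b₀) (fun i => δ (b i)) : Fin (p + 1) → M) := by
  funext i
  refine Fin.cases ?_ (fun j => ?_) i
  · simp
  · simp

/-- `δb₀ ∧ δb₁ ∧ … ∧ δb_p` is the generator `1 · δb₀ ∧ … ∧ δb_p`. -/
theorem ιMulti_cons_eq_gen (δ : Derivation R A M) {p : ℕ} (b₀ : A) (b : Fin p → A) :
    ιMulti A (p + 1) (Fin.cons (δ b₀) (fun i => δ (b i))) =
      DeRham.gen δ (p + 1) 1 (Fin.cons b₀ b) := by
  unfold DeRham.gen
  rw [one_smul, comp_cons]

theorem smul_gen (δ : Derivation R A M) (p : ℕ) (a b₀ : A) (b : Fin p → A) :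
    a • DeRham.gen δ p b₀ b = DeRham.gen δ p (a * b₀) b := by
  unfold DeRham.gen
  rw [mul_smul]

/-- If `δ(A)` spans `M`, the generators `b₀ · δb₁ ∧ … ∧ δb_p` generate `⋀^p M` additively. -/
theorem gen_induction (δ : Derivation R A M)
    (hδ : Submodule.span A (Set.range δ) = ⊤) (p : ℕ)
    (P : ↥(⋀[A]^p M) → Prop) (h0 : P 0) (hadd : ∀ x y, P x → P y → P (x + y))
    (hgen : ∀ (b₀ : A) (b : Fin p → A), P (DeRham.gen δ p b₀ b)) : ∀ x, P x := by
  -- the additive closure of the generators
  let S : AddSubmonoid ↥(⋀[A]^p M) :=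
    AddSubmonoid.closure {x | ∃ (b₀ : A) (b : Fin p → A), x = DeRham.gen δ p b₀ b}
  have hS : ∀ x ∈ S, P x := by
    intro x hx
    induction hx using AddSubmonoid.closure_induction with
    | mem x hx => obtain ⟨b₀, b, rfl⟩ := hx; exact hgen b₀ b
    | zero => exact h0
    | add x y _ _ hx hy => exact hadd x y hx hy
  have hsmul : ∀ (a : A) x, x ∈ S → a • x ∈ S := by
    intro a x hx
    induction hx using AddSubmonoid.closure_induction with
    | mem x hx =>
      obtain ⟨b₀, b, rfl⟩ := hx
      rw [smul_gen]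
      exact AddSubmonoid.subset_closure ⟨_, _, rfl⟩
    | zero => rw [smul_zero]; exact S.zero_mem
    | add x y _ _ hx hy => rw [smul_add]; exact S.add_mem hx hy
  have htop : ∀ x : ↥(⋀[A]^p M), x ∈ S := by
    intro x
    have hx : x ∈ Submodule.span A (ιMulti A p '' {a : Fin p → M | Set.range a ⊆ Set.range δ}) := by
      rw [ιMulti_span_of_span A p M hδ]; trivial
    induction hx using Submodule.span_induction with
    | mem x hx =>
      obtain ⟨a, ha, rfl⟩ := hx
      have : ∀ i, ∃ b, δ b = a i := fun i => ha ⟨i, rfl⟩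
      choose b hb using this
      refine AddSubmonoid.subset_closure ⟨1, b, ?_⟩
      unfold DeRham.gen
      rw [one_smul]
      congr 1
      funext i
      exact (hb i).symm
    | zero => exact S.zero_mem
    | add x y _ _ hx hy => exact S.add_mem hx hy
    | smul a x _ hx => exact hsmul a x hx
  exact fun x => hS x (htop x)

end

section Kaehler
variable (R : Type u) (A : Type u) [CommRing R] [CommRing A] [Algebra R A]

/-- Induction on generators for forms of Kähler differentials. -/
theorem kaehler_gen_induction (p : ℕ)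
    (P : ↥(⋀[A]^p (Ω[A⁄R])) → Prop) (h0 : P 0) (hadd : ∀ x y, P x → P y → P (x + y))
    (hgen : ∀ (b₀ : A) (b : Fin p → A), P (DeRham.gen (KaehlerDifferential.D R A) p b₀ b)) :
    ∀ x, P x :=
  gen_induction (KaehlerDifferential.D R A) (KaehlerDifferential.span_range_derivation R A) p P h0
    hadd hgen

end Kaehler

end Groth.Agent.Lib.DeRhamH1
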