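import Mathlib
import Groth.Prelude.Def_W4c5adicflatcomplDec
import Groth.Agent.Lib.Decaying4_helper3

/-!
Helper library (helper3): adically free = flat + complete over a complete Noetherian local ring.
-/

set_option autoImplicit false

namespace Groth.Agent.Lib.Decaying5_helper3

open W4c5adicflatcompl Groth.Agent.Lib.Decaying_helper3 Groth.Agent.Lib.Decaying2_helper3
  Groth.Agent.Lib.Decaying3_helper3

section flatker

variable {A : Type*} [CommRing A] {D M : Type*} [AddCommGroup D] [Module A D] [AddCommGroup M]
  [Module A M]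

/-- If `M` is flat and `φ : D → M` is surjective with kernel `K`, then `K ∩ J D = J K`. -/
theorem ker_inf_smul_top_le [Module.Flat A M] (φ : D →ₗ[A] M) (hφ : Function.Surjective φ)
    (J : Ideal A) : LinearMap.ker φ ⊓ J • ⊤ ≤ J • LinearMap.ker φ := by
  classical
  rintro g ⟨hgK, hgJ⟩
  have hspan : (⊤ : Submodule A D) = Submodule.span A (Set.range (id : D → D)) := by simp
  rw [hspan] at hgJ
  obtain ⟨c, hc, hcg⟩ := (Submodule.mem_ideal_smul_span_iff_exists_sum J (id : D → D) g).mp hgJ
  have hcg' : ∑ d ∈ c.support, c d • d = g := hcg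
  have hrel : ∑ i : c.support, c i.1 • φ i.1 = 0 := by
    rw [Finset.sum_coe_sort c.support (fun d => c d • φ d)]
    have h0 : φ g = 0 := hgK
    rw [← hcg', map_sum] at h0
    simpa using h0
  obtain ⟨k, a, y, hxy, hfa⟩ := Module.Flat.isTrivialRelation_of_sum_smul_eq_zero hrel
  choose yt hyt using fun j => hφ (y j)
  have hk : ∀ i : c.support, i.1 - ∑ j, a i j • yt j ∈ LinearMap.ker φ := by
    intro i
    rw [LinearMap.mem_ker, map_sub, map_sum]
    simp only [map_smul, hyt]
    rw [← hxy i, sub_self]
  have hg : g = ∑ i : c.support, c i.1 • (i.1 - ∑ j, a i j • yt j) := by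
    have h1 : ∑ i : c.support, c i.1 • ∑ j, a i j • yt j = 0 := by
      simp_rw [Finset.smul_sum, smul_smul]
      rw [Finset.sum_comm]
      refine Finset.sum_eq_zero fun j _ => ?_
      rw [← Finset.sum_smul, hfa j, zero_smul]
    simp_rw [smul_sub]
    rw [Finset.sum_sub_distrib, h1, sub_zero, Finset.sum_coe_sort c.support (fun d => c d • d)]
    exact hcg'.symm
  rw [hg]
  exact Submodule.sum_mem _ fun i _ => Submodule.smul_mem_smul (hc i.1) (hk i)

end flatker

section main

universe u v w

variable {A : Type u} [CommRing A] (I : Ideal A)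

theorem bijective_of_basis_mod (hI : I.FG) {Z : Type v} [DecidableEq Z] {M : Type w}
    [AddCommGroup M] [Module A M] [Module.Flat A M] [IsAdicComplete I M] (e : Z → M)
    (hspan : Submodule.span A (Set.range e) ⊔ I • ⊤ = ⊤)
    (hind : ∀ b : Z →₀ A, (b.sum fun z a => a • e z) ∈ (I • ⊤ : Submodule A M) → ∀ z, b z ∈ I)
    (φ : decaying I Z (AdicCompletion I A) →ₗ[A] M)
    (hφ : ∀ z, φ (single I z (1 : AdicCompletion I A)) = e z) : Function.Bijective φ := by
  haveI : IsAdicComplete I (AdicCompletion I A) := AdicCompletion.isAdicComplete hI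
  haveI : IsAdicComplete I (decaying I Z (AdicCompletion I A)) := isAdicComplete_decaying hI
  have hsurj : Function.Surjective φ := by
    apply surjective_of_mkQ_comp_surjective (I := I)
    intro y
    obtain ⟨x, rfl⟩ := Submodule.Quotient.mk_surjective _ y
    have hx : x ∈ Submodule.span A (Set.range e) ⊔ I • ⊤ := by
      rw [hspan]; exact Submodule.mem_top
    obtain ⟨s, hs, t, ht, rfl⟩ := Submodule.mem_sup.mp hx
    have hs' : s ∈ LinearMap.range φ := by
      refine (Submodule.span_le.mpr ?_) hs
      rintro _ ⟨z, rfl⟩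
      exact ⟨_, hφ z⟩
    obtain ⟨d, rfl⟩ := hs'
    refine ⟨d, ?_⟩
    simp only [LinearMap.comp_apply, Submodule.mkQ_apply]
    rw [Submodule.Quotient.eq]
    have : φ d - (φ d + t) = -t := by abel
    rw [this]
    exact Submodule.neg_mem _ ht
  refine ⟨?_, hsurj⟩
  rw [← LinearMap.ker_eq_bot]
  have hA : LinearMap.ker φ ≤ (I • ⊤ : Submodule A (decaying I Z (AdicCompletion I A))) := by
    intro g hg
    obtain ⟨S, hS⟩ := sub_sum_single_mem hI g 1
    choose b hb using fun z => exists_sub_of_mem I hI A ((g : Z → AdicCompletion I A) z) 1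
    have hof : ∀ a : A, AdicCompletion.of I A a = a • (1 : AdicCompletion I A) := by
      intro a
      have : AdicCompletion.of I A a = algebraMap A (AdicCompletion I A) a := rfl
      rw [this, Algebra.algebraMap_eq_smul_one]
    have h1 : ∀ z, single I z ((g : Z → AdicCompletion I A) z) -
        b z • single I z (1 : AdicCompletion I A) ∈
          (I ^ 1 • ⊤ : Submodule A (decaying I Z (AdicCompletion I A))) := by
      intro z
      have := map_mem_smul_top (singleL I z) _ (hb z)
      rw [map_sub, hof, map_smul] at this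
      exact this
    have h2 : g - ∑ z ∈ S, b z • single I z (1 : AdicCompletion I A) ∈
        (I ^ 1 • ⊤ : Submodule A (decaying I Z (AdicCompletion I A))) := by
      have : g - ∑ z ∈ S, b z • single I z (1 : AdicCompletion I A) =
          (g - ∑ z ∈ S, single I z ((g : Z → AdicCompletion I A) z)) +
            ∑ z ∈ S, (single I z ((g : Z → AdicCompletion I A) z) -
              b z • single I z (1 : AdicCompletion I A)) := by
        rw [Finset.sum_sub_distrib]
        abel
      rw [this]
      exact Submodule.add_mem _ hS (Submodule.sum_mem _ fun z _ => h1 z)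
    have h3 := map_mem_smul_top φ _ h2
    have hg0 : φ g = 0 := hg
    rw [map_sub, hg0, zero_sub, map_sum] at h3
    simp only [map_smul, hφ] at h3
    have h4 : ∑ z ∈ S, b z • e z ∈ (I • ⊤ : Submodule A M) := by
      have := Submodule.neg_mem _ h3
      rwa [neg_neg, pow_one] at this
    let bb : Z →₀ A := Finsupp.onFinset S (fun z => if z ∈ S then b z else 0) (by
      intro z hz
      by_contra h
      exact hz (if_neg h))
    have hbb : (bb.sum fun z a => a • e z) = ∑ z ∈ S, b z • e z := by
      refine (Finsupp.onFinset_sum (g := fun z a => a • e z) _ (fun z => zero_smul A (e z))).trans ?_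
      refine Finset.sum_congr rfl fun z hz => ?_
      rw [if_pos hz]
    have h5 := hind bb (by rw [hbb]; exact h4)
    have h6 : ∑ z ∈ S, b z • single I z (1 : AdicCompletion I A) ∈
        (I • ⊤ : Submodule A (decaying I Z (AdicCompletion I A))) := by
      refine Submodule.sum_mem _ fun z hz => Submodule.smul_mem_smul ?_ Submodule.mem_top
      have := h5 z
      simp only [bb, Finsupp.onFinset_apply, if_pos hz] at this
      exact this
    rw [pow_one] at h2
    have : g = (g - ∑ z ∈ S, b z • single I z (1 : AdicCompletion I A)) +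
        ∑ z ∈ S, b z • single I z (1 : AdicCompletion I A) := by abel
    rw [this]
    exact Submodule.add_mem _ h2 h6
  have hB := ker_inf_smul_top_le φ hsurj I
  have hC : LinearMap.ker φ ≤ I • LinearMap.ker φ := fun g hg => hB ⟨hg, hA hg⟩
  have hn : ∀ n : ℕ, LinearMap.ker φ ≤ I ^ n • LinearMap.ker φ := by
    intro n
    induction n with
    | zero => rw [pow_zero, Ideal.one_eq_top, Submodule.top_smul]
    | succ n ih =>
      calc LinearMap.ker φ ≤ I • LinearMap.ker φ := hC
        _ ≤ I • (I ^ n • LinearMap.ker φ) := Submodule.smul_mono le_rfl ih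
        _ = I ^ (n + 1) • LinearMap.ker φ := by rw [← Submodule.mul_smul, ← pow_succ']
  rw [eq_bot_iff]
  intro g hg
  have : g = 0 := by
    apply IsHausdorff.haus' (I := I) g
    intro n
    rw [SModEq.zero]
    exact Submodule.smul_mono le_rfl le_top (hn n hg)
  rw [this]
  exact Submodule.zero_mem _

theorem exists_basis_mod [IsLocalRing A] (M : Type u) [AddCommGroup M] [Module A M] :
    ∃ (Z : Type u) (e : Z → M),
      Submodule.span A (Set.range e) ⊔ (IsLocalRing.maximalIdeal A) • ⊤ = ⊤ ∧
      ∀ b : Z →₀ A, (b.sum fun z a => a • e z) ∈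
        ((IsLocalRing.maximalIdeal A) • ⊤ : Submodule A M) →
          ∀ z, b z ∈ IsLocalRing.maximalIdeal A := by
  classical
  letI : Field (A ⧸ IsLocalRing.maximalIdeal A) := Ideal.Quotient.field _
  let V := M ⧸ ((IsLocalRing.maximalIdeal A) • ⊤ : Submodule A M)
  let B := Module.Basis.ofVectorSpace (A ⧸ IsLocalRing.maximalIdeal A) V
  choose e he using fun z => Submodule.Quotient.mk_surjective
    ((IsLocalRing.maximalIdeal A) • ⊤ : Submodule A M) (B z)
  have hmk : ∀ (a : A) (z), (Submodule.Quotient.mk (a • e z) : V) =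
      Ideal.Quotient.mk (IsLocalRing.maximalIdeal A) a • B z := by
    intro a z
    rw [← he z]
    rfl
  refine ⟨_, e, ?_, ?_⟩
  · rw [eq_top_iff]
    intro x _
    let r := B.repr (Submodule.Quotient.mk x)
    let s : M := ∑ z ∈ r.support, Quotient.out (r z) • e z
    have hs : s ∈ Submodule.span A (Set.range e) :=
      Submodule.sum_mem _ fun z _ => Submodule.smul_mem _ _ (Submodule.subset_span ⟨z, rfl⟩)
    have hxs : x - s ∈ ((IsLocalRing.maximalIdeal A) • ⊤ : Submodule A M) := by
      rw [← Submodule.Quotient.eq]
      have h1 : (Submodule.Quotient.mk s : V) = ∑ z ∈ r.support, r z • B z := by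
        have : (Submodule.Quotient.mk s : V) =
            ((IsLocalRing.maximalIdeal A) • ⊤ : Submodule A M).mkQ s := rfl
        rw [this, map_sum]
        refine Finset.sum_congr rfl fun z _ => ?_
        rw [Submodule.mkQ_apply, hmk, Ideal.Quotient.mk_out]
      rw [h1]
      have h2 := B.linearCombination_repr (Submodule.Quotient.mk x)
      rw [Finsupp.linearCombination_apply] at h2
      exact h2.symm
    have : x = s + (x - s) := by abel
    rw [this]
    exact Submodule.add_mem_sup hs hxs
  · intro b hb z
    let bbar : _ →₀ (A ⧸ IsLocalRing.maximalIdeal A) :=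
      b.mapRange (Ideal.Quotient.mk (IsLocalRing.maximalIdeal A)) (map_zero _)
    have h1 : Finsupp.linearCombination (A ⧸ IsLocalRing.maximalIdeal A) B bbar = 0 := by
      rw [Finsupp.linearCombination_apply]
      refine (Finsupp.sum_mapRange_index (h := fun z (a : A ⧸ IsLocalRing.maximalIdeal A) => a • B z)
        (fun z => zero_smul _ (B z))).trans ?_
      have h2 : (Submodule.Quotient.mk (b.sum fun z a => a • e z) : V) = 0 :=
        (Submodule.Quotient.mk_eq_zero _).mpr hb
      have h3 : (Submodule.Quotient.mk (b.sum fun z a => a • e z) : V) =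
          ((IsLocalRing.maximalIdeal A) • ⊤ : Submodule A M).mkQ (b.sum fun z a => a • e z) := rfl
      rw [h3, Finsupp.sum, map_sum] at h2
      rw [Finsupp.sum, ← h2]
      refine Finset.sum_congr rfl fun z _ => ?_
      rw [Submodule.mkQ_apply, hmk]
    have h4 := linearIndependent_iff.mp B.linearIndependent bbar h1
    have h5 : bbar z = 0 := by rw [h4]; rfl
    simp only [bbar, Finsupp.mapRange_apply] at h5
    exact Ideal.Quotient.eq_zero_iff_mem.mp h5

end main

end Groth.Agent.Lib.Decaying5_helper3
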