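import Mathlib
import Groth.Agent.S9678
import Groth.Agent.Lib.DecentIrred_helper7
import Groth.Agent.Lib.DecentSober_helper7
import Groth.Agent.Lib.AlgSpReduced_helper7
import Groth.Prelude.Def_W4stk3decentspacesp2Birat

/-!
# Birational morphisms of decent spaces are isomorphisms over dense opens (helper7)
-/

set_option autoImplicit false
set_option linter.style.haveILetI false
universe u
open CategoryTheory CategoryTheory.Limits AlgebraicGeometry Opposite TopologicalSpace

namespace Groth.Agent.Lib.DecentBirat2H7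

open AlgSp Groth.Agent.Lib.AlgSpPoints_helper7 Groth.Agent.Lib.AlgSpOpenSub_helper7
  Groth.Agent.Lib.AlgSpEtale_helper7 Groth.Agent.Lib.AlgSpPullback_helper7
  Groth.Agent.Lib.DecentIrredH7

section Topology

variable {T P : Type*} [TopologicalSpace T] [TopologicalSpace P]

theorem generic_iff_of_isOpenEmbedding (e : T → P) (he : Topology.IsOpenEmbedding e) (t : T) :
    closure {t} ∈ irreducibleComponents T ↔ closure {e t} ∈ irreducibleComponents P := by
  have hcl : closure {t} = e ⁻¹' closure {e t} := by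
    rw [he.isInducing.closure_eq_preimage_closure_image, Set.image_singleton]
  constructor
  · intro hT
    obtain ⟨C, hC, hsub⟩ := exists_mem_irreducibleComponents_subset_of_isIrreducible
      (closure {e t}) isIrreducible_singleton.closure
    have hne : (C ∩ Set.range e).Nonempty :=
      ⟨e t, hsub (subset_closure (Set.mem_singleton _)), t, rfl⟩
    have hpre := preimage_mem_irreducibleComponents hC he hne
    have h1 : closure {t} ⊆ e ⁻¹' C := by
      rw [hcl]; exact Set.preimage_mono hsub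
    have h2 : e ⁻¹' C ⊆ closure {t} := hT.2 hpre.1 h1
    have h3 : C ⊆ closure {e t} := by
      refine (subset_closure_inter_of_isPreirreducible_of_isOpen hC.1.2 he.isOpen_range
        hne).trans ?_
      refine closure_minimal ?_ isClosed_closure
      rintro _ ⟨hc, y, rfl⟩
      have : y ∈ closure {t} := h2 hc
      rw [hcl] at this
      exact this
    rw [hsub.antisymm h3]
    exact hC
  · intro hP
    rw [hcl]
    exact preimage_mem_irreducibleComponents hP he
      ⟨e t, subset_closure (Set.mem_singleton _), t, rfl⟩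

theorem mem_of_dense_open_of_generic (hfin : (irreducibleComponents P).Finite) {W : Set P}
    (hWo : IsOpen W) (hWd : Dense W) {p : P} (hp : closure {p} ∈ irreducibleComponents P) :
    p ∈ W := by
  have hcl := closure_sUnion_irreducibleComponents_sdiff_singleton hfin _ hp
  have hOo : IsOpen (⋃₀ (irreducibleComponents P \ {closure {p}}))ᶜ := by
    rw [Set.sUnion_eq_biUnion, isOpen_compl_iff]
    exact hfin.sdiff.isClosed_biUnion fun W hW ↦ isClosed_of_mem_irreducibleComponents W hW.1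
  have hOne : ((⋃₀ (irreducibleComponents P \ {closure {p}}))ᶜ).Nonempty := by
    by_contra hne
    rw [Set.not_nonempty_iff_eq_empty] at hne
    rw [hne, closure_empty] at hcl
    have : p ∈ closure {p} := subset_closure (Set.mem_singleton _)
    rw [← hcl] at this
    exact absurd this (Set.notMem_empty _)
  obtain ⟨q, hqO, hqW⟩ := hWd.inter_open_nonempty _ hOo hOne
  have hq : q ∈ closure {p} := by
    rw [← hcl]; exact subset_closure hqO
  exact (specializes_iff_mem_closure.2 hq).mem_open hWo hqW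

theorem dense_of_generic_subset [QuasiSober P] {W : Set P} (h : genericPoints P ⊆ W) :
    Dense W := by
  rw [dense_iff_closure_eq, ← Set.univ_subset_iff, ← genericPoints.closure]
  exact closure_mono h

end Topology

section SchemeLemma

theorem isIso_stalkMap_of_comm {W W' X Y : Scheme.{u}} (k : W ⟶ W') (q : W' ⟶ Y) (p : W ⟶ X)
    (g : X ⟶ Y) [IsOpenImmersion q] [IsOpenImmersion p] (h : k ≫ q = p ≫ g) (w : W) :
    IsIso (k.stalkMap w) ↔ IsIso (g.stalkMap (p w)) := by
  have e : IsIso ((k ≫ q).stalkMap w) ↔ IsIso ((p ≫ g).stalkMap w) := by rw [h]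
  rw [Scheme.Hom.stalkMap_comp, Scheme.Hom.stalkMap_comp] at e
  constructor
  · intro hk
    haveI := hk
    haveI : IsIso (q.stalkMap (k w) ≫ k.stalkMap w) := inferInstance
    exact @IsIso.of_isIso_comp_right _ _ _ _ _ (g.stalkMap (p w)) (p.stalkMap w) inferInstance
      (e.1 this)
  · intro hg
    haveI := hg
    haveI : IsIso (g.stalkMap (p w) ≫ p.stalkMap w) := inferInstance
    exact @IsIso.of_isIso_comp_left _ _ _ _ _ (q.stalkMap (k w)) (k.stalkMap w) inferInstance
      (e.2 this)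

end SchemeLemma

variable {S : Scheme.{u}}

theorem isOpenEmbedding_ofPt {X : Sp S} {U : Over S} (j : (yon S).obj U ⟶ X)
    (hj : RepWith @IsOpenImmersion j) : Topology.IsOpenEmbedding (Points.ofPt j) := by
  have hje : RepWith @Etale j :=
    repWith_mono (fun _ _ g (hg : IsOpenImmersion g) => (inferInstance : Etale g)) hj
  haveI : Mono j := mono_of_openImmersion j hj
  refine Topology.IsOpenEmbedding.of_continuous_injective_isOpenMap
      (Points.continuous_ofPt j) ?_ (isOpenMap_ofPt_of_etale j hje)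
  intro y y' h
  rw [Points.ofPt_eq_map_ofScheme, Points.ofPt_eq_map_ofScheme j] at h
  exact ofScheme_injective U (map_injective_of_mono j h)

theorem main10435 {X Y : AlgSp.Space S} (f : X ⟶ Y)
    (hX : IsDecent X.obj) (hY : IsDecent Y.obj)
    (hXf : (irreducibleComponents (Points X.obj)).Finite)
    (hYf : (irreducibleComponents (Points Y.obj)).Finite)
    (hf : W4stk3decentspacesp2.IsBirational f.hom)
    (h : (LocP @LocallyOfFiniteType f.hom ∧ EtaleLocally (fun T => IsReduced T) Y.obj) ∨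
      LocP @LocallyOfFinitePresentation f.hom) :
    ∃ (U V : Over S) (a : (yon S).obj U ⟶ X.obj) (b : (yon S).obj V ⟶ Y.obj) (g : U ⟶ V),
      RepWith @IsOpenImmersion a ∧ RepWith @IsOpenImmersion b ∧
        Dense (Set.range (Points.ofPt a)) ∧ Dense (Set.range (Points.ofPt b)) ∧
          a ≫ f.hom = (yon S).map g ≫ b ∧ IsIso g.left := by
  haveI : QuasiSober (Points X.obj) := Groth.Agent.Lib.DecentSoberH7.main10339 X hX
  obtain ⟨X₀, a₀, ha₀, hda₀, -, -⟩ := forward X hX hXf
  obtain ⟨Y₀, b₀, hb₀, hdb₀, hY₀fin, -⟩ := forward Y hY hYf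
  obtain ⟨X₁, i, g, sq1, hi⟩ : ∃ (X₁ : Over S) (i : X₁ ⟶ X₀) (g : X₁ ⟶ Y₀),
      IsPullback ((yon S).map i) ((yon S).map g) (a₀ ≫ f.hom) b₀ ∧ IsOpenImmersion i.left :=
    ⟨_, hb₀.rep.snd (a₀ ≫ f.hom), hb₀.rep.fst' (a₀ ≫ f.hom),
      (hb₀.rep.isPullback' (a₀ ≫ f.hom)).flip, hb₀.property_snd (a₀ ≫ f.hom)⟩
  have hie : RepWith @IsOpenImmersion ((yon S).map i) := (repWith_yon_map_iff _ _).2 hi
  obtain ⟨a₁, ha₁def⟩ : ∃ a₁, a₁ = (yon S).map i ≫ a₀ := ⟨_, rfl⟩
  have ha₁ : RepWith @IsOpenImmersion a₁ := by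
    rw [ha₁def]; exact repWith_comp _ hie ha₀
  have hcomm1 : a₁ ≫ f.hom = (yon S).map g ≫ b₀ := by
    rw [ha₁def, Category.assoc]; exact sq1.w
  have he₁ := isOpenEmbedding_ofPt a₁ ha₁
  have he₀ := isOpenEmbedding_ofPt b₀ hb₀
  have hea₀ := isOpenEmbedding_ofPt a₀ ha₀
  have hφ : ∀ x : ↥X₁.left,
      Points.map f.hom (Points.ofPt a₁ x) = Points.ofPt b₀ (g.left x) := by
    intro x
    rw [Points.map_ofPt, hcomm1, ofPt_comp]
  have hrange : ∀ p : Points X.obj, p ∈ Set.range (Points.ofPt a₀) →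
      Points.map f.hom p ∈ Set.range (Points.ofPt b₀) → p ∈ Set.range (Points.ofPt a₁) := by
    rintro _ ⟨x₀, rfl⟩ ⟨y₀, hy₀⟩
    obtain ⟨x₁, hx₁, -⟩ := exists_ofPt_eq_of_isPullback sq1 x₀ y₀ (by
      rw [← Points.map_ofPt, hy₀])
    exact ⟨x₁, by rw [ha₁def, ofPt_comp, hx₁]⟩
  have hgenX : genericPoints (Points X.obj) ⊆ Set.range (Points.ofPt a₁) := by
    intro p hp
    refine hrange p ?_ ?_
    · exact mem_of_dense_open_of_generic hXf hea₀.isOpen_range hda₀ hp
    · exact mem_of_dense_open_of_generic hYf he₀.isOpen_range hdb₀ (hf.bijOn.mapsTo hp)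
  have hd₁ : Dense (Set.range (Points.ofPt a₁)) := dense_of_generic_subset hgenX
  have hX₁fin : (irreducibleComponents ↥X₁.left).Finite :=
    finite_irreducibleComponents_of_isOpenEmbedding _ he₁ hXf
  have hbij : Set.BijOn (fun x : X₁.left => g.left.base x)
      {x | closure {x} ∈ irreducibleComponents ↥X₁.left}
      {y | closure {y} ∈ irreducibleComponents ↥Y₀.left} := by
    refine ⟨?_, ?_, ?_⟩
    · intro x hx
      have h1 : Points.ofPt a₁ x ∈ genericPoints (Points X.obj) :=
        (generic_iff_of_isOpenEmbedding _ he₁ x).1 hx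
      have h2 := hf.bijOn.mapsTo h1
      rw [hφ] at h2
      exact (generic_iff_of_isOpenEmbedding _ he₀ _).2 h2
    · intro x hx x' hx' hxx'
      have h1 : Points.ofPt a₁ x ∈ genericPoints (Points X.obj) :=
        (generic_iff_of_isOpenEmbedding _ he₁ x).1 hx
      have h1' : Points.ofPt a₁ x' ∈ genericPoints (Points X.obj) :=
        (generic_iff_of_isOpenEmbedding _ he₁ x').1 hx'
      have : Points.map f.hom (Points.ofPt a₁ x) = Points.map f.hom (Points.ofPt a₁ x') := by
        rw [hφ, hφ]; exact congrArg (Points.ofPt b₀) hxx'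
      exact he₁.injective (hf.bijOn.injOn h1 h1' this)
    · intro y hy
      have h1 : Points.ofPt b₀ y ∈ genericPoints (Points Y.obj) :=
        (generic_iff_of_isOpenEmbedding _ he₀ y).1 hy
      obtain ⟨p, hp, hpy⟩ := hf.bijOn.surjOn h1
      obtain ⟨x, rfl⟩ := hgenX hp
      refine ⟨x, (generic_iff_of_isOpenEmbedding _ he₁ x).2 hp, ?_⟩
      rw [hφ] at hpy
      exact he₀.injective hpy
  have hiso : ∀ x : ↥X₁.left, closure {x} ∈ irreducibleComponents ↥X₁.left →
      IsIso (g.left.stalkMap x) := by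
    intro x hx
    have h1 : Points.ofPt a₁ x ∈ genericPoints (Points X.obj) :=
      (generic_iff_of_isOpenEmbedding _ he₁ x).1 hx
    obtain ⟨U, V, a, b, gU, u, ha, hb, hcomm, hu, hisoU⟩ := hf.stalkIso _ h1
    obtain ⟨W, p₂, p₁, sqW, hp₁⟩ : ∃ (W : Over S) (p₂ : W ⟶ U) (p₁ : W ⟶ X₁),
        IsPullback ((yon S).map p₂) ((yon S).map p₁) a a₁ ∧ IsOpenImmersion p₁.left :=
      ⟨_, _, _, ha.rep.isPullback' a₁, ha.property_snd a₁⟩
    have hp₂ : IsOpenImmersion p₂.left := ((repWith_iff _ _).1 ha₁).2 a _ p₂ sqW.flip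
    obtain ⟨W', q₂, q₁, sqW', hq₁⟩ : ∃ (W' : Over S) (q₂ : W' ⟶ V) (q₁ : W' ⟶ Y₀),
        IsPullback ((yon S).map q₂) ((yon S).map q₁) b b₀ ∧ IsOpenImmersion q₁.left :=
      ⟨_, _, _, hb.rep.isPullback' b₀, hb.property_snd b₀⟩
    have hq₂ : IsOpenImmersion q₂.left := ((repWith_iff _ _).1 hb₀).2 b _ q₂ sqW'.flip
    obtain ⟨w, hw₂, hw₁⟩ := exists_ofPt_eq_of_isPullback sqW u x hu
    obtain ⟨k, hk⟩ := (yon S).map_surjective (sqW'.lift ((yon S).map (p₂ ≫ gU))
      ((yon S).map (p₁ ≫ g)) (by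
        rw [(yon S).map_comp, (yon S).map_comp, Category.assoc, Category.assoc, ← hcomm,
          ← hcomm1, ← Category.assoc, sqW.w, Category.assoc]))
    have hk₂ : k ≫ q₂ = p₂ ≫ gU := by
      apply (yon S).map_injective
      rw [(yon S).map_comp, hk, sqW'.lift_fst]
    have hk₁ : k ≫ q₁ = p₁ ≫ g := by
      apply (yon S).map_injective
      rw [(yon S).map_comp, hk, sqW'.lift_snd]
    have hk₂' : k.left ≫ q₂.left = p₂.left ≫ gU.left := by
      rw [← Over.comp_left, hk₂, Over.comp_left]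
    have hk₁' : k.left ≫ q₁.left = p₁.left ≫ g.left := by
      rw [← Over.comp_left, hk₁, Over.comp_left]
    subst hw₁
    subst hw₂
    haveI := hp₁
    haveI := hp₂
    haveI := hq₁
    haveI := hq₂
    have hkiso : IsIso (k.left.stalkMap w) :=
      (isIso_stalkMap_of_comm k.left q₂.left p₂.left gU.left hk₂' w).2 hisoU
    exact (isIso_stalkMap_of_comm k.left q₁.left p₁.left g.left hk₁' w).1 hkiso
  have hae₁ : RepWith @Etale a₁ :=
    repWith_mono (fun _ _ g (hg : IsOpenImmersion g) => (inferInstance : Etale g)) ha₁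
  have hbe₀ : RepWith @Etale b₀ :=
    repWith_mono (fun _ _ g (hg : IsOpenImmersion g) => (inferInstance : Etale g)) hb₀
  have hP : (LocallyOfFiniteType g.left ∧ IsReduced Y₀.left) ∨
      LocallyOfFinitePresentation g.left := by
    rcases h with ⟨h1, h2⟩ | h1
    · exact Or.inl ⟨h1 a₁ b₀ g hae₁ hbe₀ hcomm1,
        Groth.Agent.Lib.AlgSpReduced_helper7.isReduced_chart_of_isReducedSp Y.property h2 b₀ hbe₀⟩
    · exact Or.inr (h1 a₁ b₀ g hae₁ hbe₀ hcomm1)
  obtain ⟨U, V, hUV, hUd, hVd, hUViso⟩ :=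
    Groth.Agent.S9678.result g.left hX₁fin hY₀fin hbij hiso hP
  let U' : Over S := Over.mk (U.ι ≫ X₁.hom)
  let V' : Over S := Over.mk (V.ι ≫ Y₀.hom)
  let ιU : U' ⟶ X₁ := Over.homMk U.ι rfl
  let ιV : V' ⟶ Y₀ := Over.homMk V.ι rfl
  let g' : U' ⟶ V' := Over.homMk (g.left.resLE V U hUV) (by
    show g.left.resLE V U hUV ≫ V.ι ≫ Y₀.hom = U.ι ≫ X₁.hom
    rw [← Category.assoc, Scheme.Hom.resLE_comp_ι, Category.assoc, Over.w])
  have hgg : ιU ≫ g = g' ≫ ιV := by
    ext
    simp only [Over.comp_left]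
    exact (Scheme.Hom.resLE_comp_ι _ _).symm
  refine ⟨U', V', (yon S).map ιU ≫ a₁, (yon S).map ιV ≫ b₀, g', ?_, ?_, ?_, ?_, ?_, ?_⟩
  · exact repWith_comp _
      ((repWith_yon_map_iff _ _).2 (inferInstanceAs (IsOpenImmersion U.ι))) ha₁
  · exact repWith_comp _
      ((repWith_yon_map_iff _ _).2 (inferInstanceAs (IsOpenImmersion V.ι))) hb₀
  · have hfun : Points.ofPt ((yon S).map ιU ≫ a₁) =
        Points.ofPt a₁ ∘ (fun z : ↥U'.left => ιU.left z) := by
      funext z; exact ofPt_comp ιU a₁ z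
    rw [hfun]
    refine DenseRange.comp hd₁ ?_ (Points.continuous_ofPt a₁)
    show Dense (Set.range ⇑U.ι)
    rw [Scheme.Opens.range_ι]
    exact hUd
  · have hfun : Points.ofPt ((yon S).map ιV ≫ b₀) =
        Points.ofPt b₀ ∘ (fun z : ↥V'.left => ιV.left z) := by
      funext z; exact ofPt_comp ιV b₀ z
    rw [hfun]
    refine DenseRange.comp hdb₀ ?_ (Points.continuous_ofPt b₀)
    show Dense (Set.range ⇑V.ι)
    rw [Scheme.Opens.range_ι]
    exact hVd
  · rw [Category.assoc, hcomm1, ← Category.assoc, ← (yon S).map_comp, hgg, (yon S).map_comp,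
      Category.assoc]
  · show IsIso (g.left.resLE V U hUV)
    exact hUViso

end Groth.Agent.Lib.DecentBirat2H7
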