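import Mathlib
import Groth.Agent.Lib.DecentBirat2_helper7
import Groth.Agent.Lib.BiratMor3_helper7
import Groth.Agent.Lib.AlgSpOpen_helper7
import Groth.Agent.Lib.AlgSpQC_helper7

/-!
# Birational morphisms of decent spaces: isomorphism over a dense open of the target (helper7)
-/

set_option autoImplicit false
set_option linter.style.haveILetI false
universe u
open CategoryTheory CategoryTheory.Limits AlgebraicGeometry Opposite TopologicalSpace

namespace Groth.Agent.Lib.DecentBirat3H7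

open AlgSp Groth.Agent.Lib.AlgSpPoints_helper7 Groth.Agent.Lib.AlgSpOpenSub_helper7
  Groth.Agent.Lib.AlgSpEtale_helper7 Groth.Agent.Lib.AlgSpPullback_helper7
  Groth.Agent.Lib.DecentIrredH7 Groth.Agent.Lib.DecentBirat2H7 Groth.Agent.Lib.AlgSpOpen_helper7
  Groth.Agent.Lib.AlgSpQC_helper7

section SchemeLemma

/-- No specializations in a fibre starting from a point where the morphism is quasi-finite
(on an open neighbourhood), for morphisms locally of finite type. -/
theorem eq_of_specializes_of_lqf_open {T V W : Scheme.{u}} (h : T ⟶ V) [LocallyOfFiniteType h]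
    (j : W ⟶ T) [IsOpenImmersion j] [LocallyQuasiFinite (j ≫ h)] (w : W) (t : T)
    (hs : j w ⤳ t) (he : h (j w) = h t) : j w = t := by
  obtain ⟨O', hO', hO'w⟩ := isDiscrete_iff_forall_mem_exists_isOpen.1
    ((j ≫ h).isDiscrete_preimage_singleton (h t)) w (by
      show (j ≫ h) w = h t
      rw [Scheme.Hom.comp_apply]; exact he)
  have hOo : IsOpen (j '' O') := j.isOpenEmbedding.isOpenMap O' hO'
  let τ'' : ↥(h ⁻¹' {h t}) := ⟨j w, he⟩
  let τ : ↥(h ⁻¹' {h t}) := ⟨t, rfl⟩
  haveI : JacobsonSpace ↥(h ⁻¹' {h t}) :=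
    JacobsonSpace.of_isOpenEmbedding (h.fiberHomeo (h t)).symm.isOpenEmbedding
  have hopen : IsOpen ({τ''} : Set ↥(h ⁻¹' {h t})) := by
    have : ({τ''} : Set ↥(h ⁻¹' {h t})) = Subtype.val ⁻¹' (j '' O') := by
      ext ⟨x, hx⟩
      simp only [Set.mem_singleton_iff, Set.mem_preimage, Set.mem_image]
      constructor
      · intro hxe
        have : x = j w := congrArg Subtype.val hxe
        subst this
        refine ⟨w, ?_, rfl⟩
        have : w ∈ O' ∩ (j ≫ h) ⁻¹' {h t} := by rw [hO'w]; rfl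
        exact this.1
      · rintro ⟨o, ho, rfl⟩
        have hmem : o ∈ O' ∩ (j ≫ h) ⁻¹' {h t} := ⟨ho, by
          show (j ≫ h) o = h t
          rw [Scheme.Hom.comp_apply]; exact hx⟩
        rw [hO'w] at hmem
        have : o = w := hmem
        subst this
        rfl
    rw [this]
    exact hOo.preimage continuous_subtype_val
  have hclosed : IsClosed ({τ''} : Set ↥(h ⁻¹' {h t})) :=
    isClosed_singleton_of_isLocallyClosed_singleton hopen.isLocallyClosed
  have hsp : τ'' ⤳ τ := (subtype_specializes_iff τ'' τ).2 hs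
  have hmem : τ ∈ ({τ''} : Set ↥(h ⁻¹' {h t})) := hsp.mem_closed hclosed rfl
  exact (congrArg Subtype.val hmem).symm

end SchemeLemma

variable {S : Scheme.{u}}

/-- A chart around a point of `X` lying over the open subscheme `b` of `Y`. -/
theorem exists_chart_over {X Y : AlgSp.Space S} (f : X ⟶ Y) {V : Over S}
    (b : (yon S).obj V ⟶ Y.obj) (hb : RepWith @IsOpenImmersion b) (z : Points X.obj)
    (hz : Points.map f.hom z ∈ Set.range (Points.ofPt b)) :
    ∃ (T : Over S) (c : (yon S).obj T ⟶ X.obj) (h : T ⟶ V) (t : ↥T.left),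
      RepWith @Etale c ∧ c ≫ f.hom = (yon S).map h ≫ b ∧ Points.ofPt c t = z := by
  obtain ⟨T₀, c₀, hc₀e, hc₀s⟩ := X.property.atlas
  obtain ⟨t₀, ht₀⟩ := ofPt_surjective c₀ hc₀s z
  have hbo : IsOpen (Set.range (Points.ofPt b)) := (isOpenEmbedding_ofPt b hb).isOpen_range
  let O : T₀.left.Opens := ⟨Points.ofPt (c₀ ≫ f.hom) ⁻¹' Set.range (Points.ofPt b),
    hbo.preimage (Points.continuous_ofPt _)⟩
  let T : Over S := Over.mk (O.ι ≫ T₀.hom)
  let ι : T ⟶ T₀ := Over.homMk O.ι rfl
  have hce : RepWith @Etale ((yon S).map ι ≫ c₀) := repWith_etale_restrict c₀ hc₀e O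
  have hsub : Set.range (Points.map (((yon S).map ι ≫ c₀) ≫ f.hom)) ⊆
      Set.range (Points.map b) := by
    rw [range_map_yon, range_map_yon]
    rintro _ ⟨t, rfl⟩
    rw [Category.assoc, ofPt_comp]
    exact (t : ↥O).2
  obtain ⟨g, hg⟩ := (factors_iff_of_openImmersion b hb _).2 hsub
  obtain ⟨h, rfl⟩ := (yon S).map_surjective g
  have ht₀O : t₀ ∈ O := by
    show Points.ofPt (c₀ ≫ f.hom) t₀ ∈ Set.range (Points.ofPt b)
    rw [← Points.map_ofPt, ht₀]
    exact hz
  refine ⟨T, (yon S).map ι ≫ c₀, h, (⟨t₀, ht₀O⟩ : ↥O), hce, hg.symm, ?_⟩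
  exact (ofPt_comp ι c₀ (⟨t₀, ht₀O⟩ : ↥O)).trans ht₀

/-- The final step: if the fibre of `f` over the open subscheme `V'` of `V` lies in the open
subscheme `a`, then `f` is an isomorphism over `V'`. -/
theorem isIso_snd_of_fibre_subset {X Y : Sp S} (f : X ⟶ Y) {V V' : Over S}
    (a : (yon S).obj V ⟶ X) (b : (yon S).obj V ⟶ Y)
    (ha : RepWith @IsOpenImmersion a) (hb : RepWith @IsOpenImmersion b) (hab : a ≫ f = b)
    (i' : V' ⟶ V)
    (H : ∀ z : Points X, Points.map f z ∈ Set.range (Points.ofPt ((yon S).map i' ≫ b)) →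
      z ∈ Set.range (Points.ofPt a))
    {P : Sp S} (fst : P ⟶ X) (snd : P ⟶ (yon S).obj V')
    (sq : IsPullback fst snd f ((yon S).map i' ≫ b)) : IsIso snd := by
  haveI : Mono b := mono_of_openImmersion b hb
  have hrange : Set.range (Points.map fst) ⊆ Set.range (Points.map a) := by
    rintro _ ⟨p, rfl⟩
    rw [range_map_yon]
    apply H
    rw [← range_map_yon]
    refine ⟨Points.map snd p, ?_⟩
    rw [← Points.map_comp, ← Points.map_comp, sq.w]
  obtain ⟨s, hs⟩ := (factors_iff_of_openImmersion a ha fst).2 hrange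
  have hs' : s = snd ≫ (yon S).map i' := by
    rw [← cancel_mono b, Category.assoc, ← sq.w, ← hs, Category.assoc, hab]
  refine ⟨⟨sq.lift ((yon S).map i' ≫ a) (𝟙 _) (by rw [Category.assoc, hab, Category.id_comp]),
    ?_, sq.lift_snd _ _ _⟩⟩
  apply sq.hom_ext
  · rw [Category.assoc, sq.lift_fst, Category.id_comp, ← Category.assoc, ← hs', hs]
  · rw [Category.assoc, sq.lift_snd, Category.id_comp, Category.comp_id]

section Main

variable {X Y : AlgSp.Space S} (f : X ⟶ Y) {V : Over S}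
  (a : (yon S).obj V ⟶ X.obj) (b : (yon S).obj V ⟶ Y.obj)

/-- Separated case: the whole fibre over `V` lies in `a`. -/
theorem mem_range_of_separated (hsep : IsSeparatedMor f.hom)
    (ha : RepWith @IsOpenImmersion a) (hb : RepWith @IsOpenImmersion b) (hab : a ≫ f.hom = b)
    (hda : Dense (Set.range (Points.ofPt a))) (z : Points X.obj)
    (hz : Points.map f.hom z ∈ Set.range (Points.ofPt b)) : z ∈ Set.range (Points.ofPt a) := by
  haveI : Mono b := mono_of_openImmersion b hb
  obtain ⟨T, c, h, t, hce, hcomm, rfl⟩ := exists_chart_over f b hb z hz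
  obtain ⟨W, p₂, p₁, sqW, hp₁⟩ : ∃ (W : Over S) (p₂ : W ⟶ V) (p₁ : W ⟶ T),
      IsPullback ((yon S).map p₂) ((yon S).map p₁) a c ∧ IsOpenImmersion p₁.left :=
    ⟨_, _, _, ha.rep.isPullback' c, ha.property_snd c⟩
  have hp : p₁ ≫ h = p₂ := by
    apply (yon S).map_injective
    rw [← cancel_mono b, (yon S).map_comp, Category.assoc, ← hcomm, ← Category.assoc, ← sqW.w,
      Category.assoc, hab]
  have hℓ : c ≫ f.hom = ((yon S).map h ≫ a) ≫ f.hom := by
    rw [Category.assoc, hab]; exact hcomm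
  obtain ⟨E, e, fE, sqE, he⟩ : ∃ (E : Over S) (e : E ⟶ T) (fE : (yon S).obj E ⟶ X.obj),
      IsPullback fE ((yon S).map e) (pullback.diagonal f.hom)
        (pullback.lift c ((yon S).map h ≫ a) hℓ) ∧ IsClosedImmersion e.left :=
    ⟨_, _, _, hsep.rep.isPullback _, hsep.property_snd _⟩
  have hE : (yon S).map e ≫ c = (yon S).map e ≫ (yon S).map h ≫ a := by
    have h1 := congrArg (· ≫ pullback.fst f.hom f.hom) sqE.w
    have h2 := congrArg (· ≫ pullback.snd f.hom f.hom) sqE.w
    simp only [Category.assoc, pullback.diagonal_fst, pullback.diagonal_snd, pullback.lift_fst,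
      pullback.lift_snd, Category.comp_id] at h1 h2
    rw [← h1, h2]
  have hlift : ((yon S).map p₁ ≫ c) ≫ pullback.diagonal f.hom =
      (yon S).map p₁ ≫ pullback.lift c ((yon S).map h ≫ a) hℓ := by
    apply pullback.hom_ext
    · simp only [Category.assoc, pullback.diagonal_fst, pullback.lift_fst, Category.comp_id]
    · simp only [Category.assoc, pullback.diagonal_snd, pullback.lift_snd, Category.comp_id]
      rw [← Category.assoc, ← (yon S).map_comp, hp, sqW.w]
  obtain ⟨m, hm⟩ := (yon S).map_surjective (sqE.lift _ _ hlift)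
  have hme : m ≫ e = p₁ := by
    apply (yon S).map_injective
    rw [(yon S).map_comp, hm, sqE.lift_snd]
  have hsub : Points.ofPt c ⁻¹' Set.range (Points.ofPt a) ⊆ Set.range e.left := by
    rintro t' ⟨v, hv⟩
    obtain ⟨w, -, hw⟩ := exists_ofPt_eq_of_isPullback sqW v t' hv
    refine ⟨m.left w, ?_⟩
    rw [← hw, ← hme]
    rfl
  have hdense : Dense (Points.ofPt c ⁻¹' Set.range (Points.ofPt a)) :=
    hda.preimage (isOpenMap_ofPt_of_etale c hce)
  haveI := he
  have hcl : IsClosed (Set.range e.left) := e.left.isClosedEmbedding.isClosed_range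
  have huniv : Set.range e.left = Set.univ := by
    rw [← hcl.closure_eq]
    exact (hdense.mono hsub).closure_eq
  obtain ⟨t', rfl⟩ : t ∈ Set.range e.left := by rw [huniv]; trivial
  refine ⟨h.left (e.left t'), ?_⟩
  rw [← ofPt_comp, ← ofPt_comp, ← hE, ofPt_comp]

/-- The fibre of `f` over a generic point of `Y` lies in the open subscheme `a`. -/
theorem mem_range_of_map_generic (hX : IsDecent X.obj)
    (hXf : (irreducibleComponents (Points X.obj)).Finite)
    (hYf : (irreducibleComponents (Points Y.obj)).Finite)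
    [QuasiSober (Points X.obj)]
    (ha : RepWith @IsOpenImmersion a) (hb : RepWith @IsOpenImmersion b) (hab : a ≫ f.hom = b)
    (hda : Dense (Set.range (Points.ofPt a))) (hdb : Dense (Set.range (Points.ofPt b)))
    (hlft : LocP @LocallyOfFiniteType f.hom)
    (z : Points X.obj) (hz : Points.map f.hom z ∈ genericPoints (Points Y.obj)) :
    z ∈ Set.range (Points.ofPt a) := by
  haveI : Mono b := mono_of_openImmersion b hb
  have hea := isOpenEmbedding_ofPt a ha
  have heb := isOpenEmbedding_ofPt b hb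
  obtain ⟨ξ, hξ⟩ := QuasiSober.sober (isIrreducible_irreducibleComponent (x := z))
    isClosed_irreducibleComponent
  have hξg : ξ ∈ genericPoints (Points X.obj) := by
    show closure {ξ} ∈ irreducibleComponents _
    rw [hξ.def]; exact irreducibleComponent_mem_irreducibleComponents z
  have hξz : ξ ⤳ z := by
    rw [specializes_iff_mem_closure, hξ.def]; exact mem_irreducibleComponent
  obtain ⟨v, hv⟩ := mem_of_dense_open_of_generic hXf hea.isOpen_range hda hξg
  obtain ⟨v₁, hv₁⟩ := mem_of_dense_open_of_generic hYf heb.isOpen_range hdb hz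
  have hfξ : Points.map f.hom ξ = Points.ofPt b v := by
    rw [← hv, Points.map_ofPt, hab]
  have hvv₁ : v ⤳ v₁ := by
    rw [← heb.isInducing.specializes_iff, ← hfξ, hv₁]
    exact hξz.map (Points.continuous_map f.hom)
  have hv₁g : closure {v₁} ∈ irreducibleComponents ↥V.left :=
    (generic_iff_of_isOpenEmbedding _ heb v₁).2 (by rw [hv₁]; exact hz)
  have hv₁v : v₁ ⤳ v :=
    (Groth.Agent.Lib.SchIrredComp2H7.closure_singleton_mem_irreducibleComponents_iff v₁).mp
      hv₁g _ hvv₁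
  have hveq : v = v₁ := (hvv₁.antisymm hv₁v).eq
  subst hveq
  obtain ⟨T, c, h, t, hce, hcomm, hct⟩ := exists_chart_over f b hb z ⟨v, hv₁⟩
  obtain ⟨p, hp, -, hpq⟩ := hX ξ
  obtain ⟨t'', ht''t, hct''⟩ := Groth.Agent.Lib.AlgSpGeneriz_helper6.exists_specializes_lift z ξ
    hξz p hp hpq c hce t hct
  obtain ⟨W, p₂, p₁, sqW, hp₁⟩ : ∃ (W : Over S) (p₂ : W ⟶ V) (p₁ : W ⟶ T),
      IsPullback ((yon S).map p₂) ((yon S).map p₁) a c ∧ IsOpenImmersion p₁.left :=
    ⟨_, _, _, ha.rep.isPullback' c, ha.property_snd c⟩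
  have hp₂ : Etale p₂.left := ((repWith_iff _ _).1 hce).2 a _ p₂ sqW.flip
  have hp : p₁ ≫ h = p₂ := by
    apply (yon S).map_injective
    rw [← cancel_mono b, (yon S).map_comp, Category.assoc, ← hcomm, ← Category.assoc, ← sqW.w,
      Category.assoc, hab]
  obtain ⟨w, hw₂, hw₁⟩ := exists_ofPt_eq_of_isPullback sqW v t'' (by rw [hv, hct''])
  have hbe : RepWith @Etale b :=
    repWith_mono (fun _ _ g (hg : IsOpenImmersion g) => (inferInstance : Etale g)) hb
  haveI : LocallyOfFiniteType h.left := hlft c b h hce hbe hcomm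
  haveI := hp₁
  haveI : LocallyQuasiFinite (p₁.left ≫ h.left) := by
    rw [← Over.comp_left, hp]
    haveI := hp₂
    exact locallyQuasiFinite_of_unramified p₂.left
  have key : ∀ s : ↥T.left, Points.ofPt b (h.left s) = Points.map f.hom (Points.ofPt c s) := by
    intro s
    rw [← ofPt_comp, ← hcomm, Points.map_ofPt]
  have hht : h.left (p₁.left w) = h.left t := by
    apply heb.injective
    rw [key, key, hw₁, hct'', hct, hfξ, hv₁]
  have hQ : p₁.left w = t :=
    eq_of_specializes_of_lqf_open h.left p₁.left w t (by rw [hw₁]; exact ht''t) hht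
  exact ⟨v, by rw [hv, ← hct'', ← hw₁, hQ, hct]⟩

/-- Quasi-compact case: a generic point of `Y` is not in the closure of the image of the
complement of `a`. -/
theorem not_mem_closure_of_quasiCompact (hX : IsDecent X.obj)
    (hXf : (irreducibleComponents (Points X.obj)).Finite)
    (hYf : (irreducibleComponents (Points Y.obj)).Finite)
    [QuasiSober (Points X.obj)] (hqc : IsQuasiCompactMor f.hom)
    (ha : RepWith @IsOpenImmersion a) (hb : RepWith @IsOpenImmersion b) (hab : a ≫ f.hom = b)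
    (hda : Dense (Set.range (Points.ofPt a))) (hdb : Dense (Set.range (Points.ofPt b)))
    (hlft : LocP @LocallyOfFiniteType f.hom)
    (η : Points Y.obj) (hη : η ∈ genericPoints (Points Y.obj)) :
    η ∉ closure (Points.map f.hom '' (Set.range (Points.ofPt a))ᶜ) := by
  intro hcl
  have hea := isOpenEmbedding_ofPt a ha
  have heb := isOpenEmbedding_ofPt b hb
  obtain ⟨v, hv⟩ := mem_of_dense_open_of_generic hYf heb.isOpen_range hdb hη
  obtain ⟨W₀, hW₀, hvW⟩ : ∃ W₀ : V.left.Opens, IsAffineOpen W₀ ∧ v ∈ W₀ := by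
    obtain ⟨_, ⟨W₀, hW₀, rfl⟩, hvW, -⟩ :=
      V.left.isBasis_affineOpens.exists_subset_of_mem_open (Set.mem_univ v) isOpen_univ
    exact ⟨W₀, hW₀, hvW⟩
  let V₀ : Over S := Over.mk (W₀.ι ≫ V.hom)
  let ι₀ : V₀ ⟶ V := Over.homMk W₀.ι rfl
  haveI : IsAffine V₀.left := hW₀
  obtain ⟨b₀, hb₀def⟩ : ∃ b₀, b₀ = (yon S).map ι₀ ≫ b := ⟨_, rfl⟩
  have hb₀ : RepWith @IsOpenImmersion b₀ := by
    rw [hb₀def]
    exact repWith_comp _
      ((repWith_yon_map_iff _ _).2 (inferInstanceAs (IsOpenImmersion W₀.ι))) hb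
  have heb₀ := isOpenEmbedding_ofPt b₀ hb₀
  have hb₀e : RepWith @Etale b₀ :=
    repWith_mono (fun _ _ g (hg : IsOpenImmersion g) => (inferInstance : Etale g)) hb₀
  have sq₀ := IsPullback.of_hasPullback f.hom b₀
  obtain ⟨T, c, hce, hcs, hTc⟩ := hqc (IsAlgSpace.yon_obj V₀) (isQuasiCompactSp_yon V₀) b₀ _ _ sq₀
  haveI : CompactSpace ↥T.left := hTc
  obtain ⟨h, hh⟩ := (yon S).map_surjective (c ≫ pullback.snd f.hom b₀)
  obtain ⟨c', hc'def⟩ : ∃ c', c' = c ≫ pullback.fst f.hom b₀ := ⟨_, rfl⟩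
  have hcomm : c' ≫ f.hom = (yon S).map h ≫ b₀ := by
    rw [hc'def, hh, Category.assoc, Category.assoc, pullback.condition]
  obtain ⟨v₀, hv₀def⟩ : ∃ v₀ : ↥V₀.left, ι₀.left v₀ = v := ⟨(⟨v, hvW⟩ : ↥W₀), rfl⟩
  have hv₀ : Points.ofPt b₀ v₀ = η := by
    rw [hb₀def, ofPt_comp, hv₀def]; exact hv
  have hZcl : IsClosed (Points.ofPt c' ⁻¹' (Set.range (Points.ofPt a))ᶜ) :=
    (hea.isOpen_range.isClosed_compl).preimage (Points.continuous_ofPt c')
  have hmemcl : v₀ ∈ closure (h.left '' (Points.ofPt c' ⁻¹' (Set.range (Points.ofPt a))ᶜ)) := by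
    rw [mem_closure_iff]
    intro O hO hvO
    have hOo : IsOpen (Points.ofPt b₀ '' O) := isOpenMap_ofPt_of_etale b₀ hb₀e O hO
    obtain ⟨y, ⟨o, hoO, hoy⟩, ⟨z', hz'Z, hz'y⟩⟩ :=
      mem_closure_iff.1 hcl _ hOo ⟨v₀, hvO, hv₀⟩
    obtain ⟨q, hq1, hq2⟩ := exists_of_isPullback sq₀ z' (Points.ofScheme V₀ o) (by
      rw [hz'y, ← hoy, Points.ofPt_eq_map_ofScheme])
    obtain ⟨t', rfl⟩ := ofPt_surjective c hcs q
    refine ⟨o, hoO, t', ?_, ?_⟩
    · show Points.ofPt c' t' ∈ (Set.range (Points.ofPt a))ᶜ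
      rw [hc'def, ← Points.map_ofPt, hq1]; exact hz'Z
    · apply ofScheme_injective V₀
      rw [← hq2, Points.map_ofPt, ← hh, ofPt_yon_map]
  have hv₀g : closure {v₀} ∈ irreducibleComponents ↥V₀.left :=
    (generic_iff_of_isOpenEmbedding _ heb₀ v₀).2 (by rw [hv₀]; exact hη)
  haveI : QuasiCompact h.left := inferInstance
  obtain ⟨t, htZ, htv⟩ := Groth.Agent.Lib.BiratMor3H7.exists_mem_of_mem_closure_image h.left _
    hZcl v₀ hv₀g hmemcl
  have hfz : Points.map f.hom (Points.ofPt c' t) = η := by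
    rw [Points.map_ofPt, hcomm, ofPt_comp, htv, hv₀]
  exact htZ (mem_range_of_map_generic f a b hX hXf hYf ha hb hab hda hdb hlft _
    (by rw [hfz]; exact hη))

end Main

theorem exists_open_subscheme_inter {Y : Sp S} {V : Over S} (b : (yon S).obj V ⟶ Y)
    (Ω : Set (Points Y)) (hΩ : IsOpen Ω) :
    ∃ (V' : Over S) (i' : V' ⟶ V), IsOpenImmersion i'.left ∧
      Set.range (Points.ofPt ((yon S).map i' ≫ b)) = Set.range (Points.ofPt b) ∩ Ω := by
  let O' : V.left.Opens := ⟨Points.ofPt b ⁻¹' Ω, hΩ.preimage (Points.continuous_ofPt b)⟩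
  refine ⟨Over.mk (O'.ι ≫ V.hom), Over.homMk O'.ι rfl, inferInstanceAs (IsOpenImmersion O'.ι), ?_⟩
  ext y
  constructor
  · rintro ⟨o, rfl⟩
    have e : Points.ofPt ((yon S).map (Over.homMk O'.ι rfl : Over.mk (O'.ι ≫ V.hom) ⟶ V) ≫ b) o =
        Points.ofPt b (O'.ι o) := ofPt_comp _ b o
    have hmem : Points.ofPt b (O'.ι o) ∈ Ω := (o : ↥O').2
    exact ⟨⟨_, e.symm⟩, e.symm ▸ hmem⟩
  · rintro ⟨⟨v, rfl⟩, hvΩ⟩
    exact ⟨(⟨v, hvΩ⟩ : ↥O'),
      ofPt_comp (Over.homMk O'.ι rfl : Over.mk (O'.ι ≫ V.hom) ⟶ V) b _⟩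

theorem main10436 {X Y : AlgSp.Space S} (f : X ⟶ Y)
    (hX : IsDecent X.obj) (hY : IsDecent Y.obj)
    (hXf : (irreducibleComponents (Points X.obj)).Finite)
    (hYf : (irreducibleComponents (Points Y.obj)).Finite)
    (hf : W4stk3decentspacesp2.IsBirational f.hom)
    (h₁ : IsQuasiCompactMor f.hom ∨ IsSeparatedMor f.hom)
    (h₂ : (LocP @LocallyOfFiniteType f.hom ∧ EtaleLocally (fun T => IsReduced T) Y.obj) ∨
      LocP @LocallyOfFinitePresentation f.hom) :
    ∃ (V : Over S) (b : (yon S).obj V ⟶ Y.obj), RepWith @IsOpenImmersion b ∧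
      Dense (Set.range (Points.ofPt b)) ∧
        ∀ ⦃P : Sp S⦄ (fst : P ⟶ X.obj) (snd : P ⟶ (yon S).obj V),
          IsPullback fst snd f.hom b → IsIso snd := by
  haveI : QuasiSober (Points X.obj) := Groth.Agent.Lib.DecentSoberH7.main10339 X hX
  haveI : QuasiSober (Points Y.obj) := Groth.Agent.Lib.DecentSoberH7.main10339 Y hY
  obtain ⟨U, V, a₀, b, g, ha₀, hb, hda₀, hdb, hcomm, hgiso⟩ :=
    main10435 f hX hY hXf hYf hf h₂
  haveI : IsIso ((Over.forget S).map g) := hgiso
  haveI : IsIso g := isIso_of_reflects_iso g (Over.forget S)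
  haveI : IsIso (inv g).left := inferInstanceAs (IsIso ((Over.forget S).map (inv g)))
  obtain ⟨a, hadef⟩ : ∃ a, a = (yon S).map (inv g) ≫ a₀ := ⟨_, rfl⟩
  have ha : RepWith @IsOpenImmersion a := by
    rw [hadef]
    exact repWith_comp _
      ((repWith_yon_map_iff _ _).2 (inferInstance : IsOpenImmersion (inv g).left)) ha₀
  have hab : a ≫ f.hom = b := by
    rw [hadef, Category.assoc, hcomm, ← Category.assoc, ← (yon S).map_comp, IsIso.inv_hom_id]
    exact (congrArg (· ≫ b) ((yon S).map_id V)).trans (Category.id_comp b)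
  have hda : Dense (Set.range (Points.ofPt a)) := by
    have hfun : Points.ofPt a = Points.ofPt a₀ ∘ (fun z : ↥V.left => (inv g).left z) := by
      funext z; rw [hadef]; exact ofPt_comp (inv g) a₀ z
    rw [hfun]
    exact DenseRange.comp hda₀ (Scheme.Hom.surjective (inv g).left).denseRange
      (Points.continuous_ofPt a₀)
  have hlft : LocP @LocallyOfFiniteType f.hom := by
    rcases h₂ with ⟨h, -⟩ | h
    · exact h
    · intro U V a b k hae hbe hk
      haveI : LocallyOfFinitePresentation k.left := h a b k hae hbe hk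
      infer_instance
  have hea := isOpenEmbedding_ofPt a ha
  have heb := isOpenEmbedding_ofPt b hb
  rcases h₁ with hqc | hsep
  · obtain ⟨V', i', hi', hrange⟩ := exists_open_subscheme_inter b
      (closure (Points.map f.hom '' (Set.range (Points.ofPt a))ᶜ))ᶜ isClosed_closure.isOpen_compl
    refine ⟨V', (yon S).map i' ≫ b, repWith_comp _ ((repWith_yon_map_iff _ _).2 hi') hb, ?_, ?_⟩
    · apply dense_of_generic_subset
      intro η hη
      rw [hrange]
      exact ⟨mem_of_dense_open_of_generic hYf heb.isOpen_range hdb hη,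
        not_mem_closure_of_quasiCompact f a b hX hXf hYf hqc ha hb hab hda hdb hlft η hη⟩
    · intro P fst snd sq
      refine isIso_snd_of_fibre_subset f.hom a b ha hb hab i' ?_ fst snd sq
      intro z hz
      rw [hrange] at hz
      by_contra hza
      exact hz.2 (subset_closure ⟨z, hza, rfl⟩)
  · have e : (yon S).map (𝟙 V) ≫ b = b :=
      (congrArg (· ≫ b) ((yon S).map_id V)).trans (Category.id_comp b)
    refine ⟨V, b, hb, hdb, ?_⟩
    intro P fst snd sq
    have sq' : IsPullback fst snd f.hom ((yon S).map (𝟙 V) ≫ b) := by rw [e]; exact sq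
    refine isIso_snd_of_fibre_subset f.hom a b ha hb hab (𝟙 V) ?_ fst snd sq'
    intro z hz
    rw [e] at hz
    exact mem_range_of_separated f a b hsep ha hb hab hda z hz

end Groth.Agent.Lib.DecentBirat3H7
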