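import Mathlib
import Groth.Agent.Lib.DecentBirat3_helper7
import Groth.Agent.Lib.BiratMor_helper7
import Groth.Agent.Lib.AlgSpQuotSp_helper7

/-!
# Birational morphisms of decent spaces: the fibre over a generic point (helper7)
-/

set_option autoImplicit false
set_option linter.style.haveILetI false
universe u
open CategoryTheory CategoryTheory.Limits AlgebraicGeometry Opposite TopologicalSpace

namespace Groth.Agent.Lib.DecentBirat4H7

open AlgSp Groth.Agent.Lib.AlgSpPoints_helper7 Groth.Agent.Lib.AlgSpOpenSub_helper7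
  Groth.Agent.Lib.AlgSpEtale_helper7 Groth.Agent.Lib.AlgSpPullback_helper7
  Groth.Agent.Lib.DecentIrredH7 Groth.Agent.Lib.DecentBirat2H7 Groth.Agent.Lib.AlgSpOpen_helper7
  Groth.Agent.Lib.DecentBirat3H7

section Ring

/-- If `A → R → R''` are maps of local rings whose composite is local with integral residue
field extension, then `R → R''` is local. -/
theorem isLocalHom_of_isIntegral_residue {A R R'' : Type*} [CommRing A] [CommRing R]
    [CommRing R''] [IsLocalRing A] [IsLocalRing R] [IsLocalRing R''] (α : A →+* R)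
    (σ : R →+* R'') (β : A →+* R'') (hβ : σ.comp α = β) [IsLocalHom β]
    (hint : (IsLocalRing.ResidueField.map β).IsIntegral) : IsLocalHom σ := by
  subst hβ
  obtain ⟨𝔭, h𝔭def⟩ : ∃ 𝔭 : Ideal R, 𝔭 = (IsLocalRing.maximalIdeal R'').comap σ := ⟨_, rfl⟩
  haveI : 𝔭.IsPrime := by rw [h𝔭def]; infer_instance
  have hα : ∀ a ∈ IsLocalRing.maximalIdeal A, ((Ideal.Quotient.mk 𝔭).comp α) a = 0 := by
    intro a ha
    rw [RingHom.comp_apply, Ideal.Quotient.eq_zero_iff_mem, h𝔭def, Ideal.mem_comap]
    exact ((IsLocalRing.local_hom_TFAE (σ.comp α)).out 0 3 rfl rfl).mp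
      (inferInstance : IsLocalHom (σ.comp α)) ha
  let φ : IsLocalRing.ResidueField A →+* R ⧸ 𝔭 :=
    Ideal.Quotient.lift (IsLocalRing.maximalIdeal A) ((Ideal.Quotient.mk 𝔭).comp α) hα
  have hσ : ∀ r ∈ 𝔭, ((IsLocalRing.residue R'').comp σ) r = 0 := by
    intro r hr
    rw [RingHom.comp_apply, IsLocalRing.residue_eq_zero_iff]
    rw [h𝔭def] at hr
    exact hr
  let ψ : R ⧸ 𝔭 →+* IsLocalRing.ResidueField R'' :=
    Ideal.Quotient.lift 𝔭 ((IsLocalRing.residue R'').comp σ) hσ
  have hψ : Function.Injective ψ := by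
    rw [injective_iff_map_eq_zero]
    intro x hx
    obtain ⟨r, rfl⟩ := Ideal.Quotient.mk_surjective x
    rw [Ideal.Quotient.lift_mk, RingHom.comp_apply, IsLocalRing.residue_eq_zero_iff] at hx
    rw [Ideal.Quotient.eq_zero_iff_mem, h𝔭def]
    exact hx
  have hcomp : ψ.comp φ = IsLocalRing.ResidueField.map (σ.comp α) := by
    apply Ideal.Quotient.ringHom_ext
    ext a
    rfl
  have hφ : φ.IsIntegral := RingHom.IsIntegral.tower_bot (f := φ) (g := ψ) hψ (by
    rw [hcomp]; exact hint)
  have hfield : IsField (R ⧸ 𝔭) := by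
    letI := φ.toAlgebra
    haveI : Algebra.IsIntegral (IsLocalRing.ResidueField A) (R ⧸ 𝔭) := ⟨hφ⟩
    exact isField_of_isIntegral_of_isField' (Field.toIsField (IsLocalRing.ResidueField A))
  have hmax : 𝔭.IsMaximal := Ideal.Quotient.maximal_of_isField 𝔭 hfield
  have h𝔭 : (IsLocalRing.maximalIdeal R'').comap σ = IsLocalRing.maximalIdeal R := by
    rw [← h𝔭def]; exact IsLocalRing.eq_maximalIdeal hmax
  exact ((IsLocalRing.local_hom_TFAE σ).out 0 4 rfl rfl).mpr h𝔭

end Ring

section SchemeLemma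

/-- No specialization inside a fibre out of a point with integral residue field extension. -/
theorem eq_of_specializes_of_isIntegral_residue {T V : Scheme.{u}} (h : T ⟶ V) {t'' t : T}
    (hs : t'' ⤳ t) (he : h t'' = h t)
    (hint : (IsLocalRing.ResidueField.map (h.stalkMap t'').hom).IsIntegral) : t'' = t := by
  have E := h.stalkSpecializes_stalkMap t'' t hs
  have hs' : h t ⤳ h t'' := specializes_of_eq he.symm
  haveI : IsIso (V.presheaf.stalkSpecializes (h.base.hom.map_specializes hs)) :=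
    ⟨⟨V.presheaf.stalkSpecializes hs', by
      rw [TopCat.Presheaf.stalkSpecializes_comp, TopCat.Presheaf.stalkSpecializes_refl], by
      rw [TopCat.Presheaf.stalkSpecializes_comp, TopCat.Presheaf.stalkSpecializes_refl]⟩⟩
  haveI hloc : IsLocalHom (T.presheaf.stalkSpecializes hs).hom :=
    isLocalHom_of_isIntegral_residue
      (inv (V.presheaf.stalkSpecializes (h.base.hom.map_specializes hs)) ≫ h.stalkMap t).hom
      (T.presheaf.stalkSpecializes hs).hom (h.stalkMap t'').hom
      (by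
        rw [← CommRingCat.hom_comp, Category.assoc, ← E, IsIso.inv_hom_id_assoc])
      hint
  obtain ⟨q, hq⟩ : ∃ q : ↥(Spec (T.presheaf.stalk t'')),
      q = IsLocalRing.closedPoint (T.presheaf.stalk t'') := ⟨_, rfl⟩
  obtain ⟨q', hq'⟩ : ∃ q' : ↥(Spec (T.presheaf.stalk t)),
      q' = IsLocalRing.closedPoint (T.presheaf.stalk t) := ⟨_, rfl⟩
  have h5 := congr($(Scheme.SpecMap_stalkSpecializes_fromSpecStalk hs) q)
  rw [Scheme.Hom.comp_apply] at h5
  have h6 : Spec.map (T.presheaf.stalkSpecializes hs) q = q' := by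
    rw [hq, hq']
    exact IsLocalRing.comap_closedPoint (T.presheaf.stalkSpecializes hs).hom
  have h7 : T.fromSpecStalk t'' q = t'' := by
    rw [hq]; exact Scheme.fromSpecStalk_closedPoint
  have h8 : T.fromSpecStalk t q' = t := by
    rw [hq']; exact Scheme.fromSpecStalk_closedPoint
  rw [h6, h7, h8] at h5
  exact h5.symm

theorem isIntegral_residue_of_quasiFiniteAt {T V : Scheme.{u}} (h : T ⟶ V) (t : T)
    (hq : h.QuasiFiniteAt t) :
    (IsLocalRing.ResidueField.map (h.stalkMap t).hom).IsIntegral := by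
  have hq' : (h.stalkMap t).hom.QuasiFinite := hq
  algebraize [(h.stalkMap t).hom]
  haveI : IsLocalHom (algebraMap (V.presheaf.stalk (h t)) (T.presheaf.stalk t)) :=
    inferInstanceAs (IsLocalHom (h.stalkMap t).hom)
  haveI : Algebra.QuasiFinite (V.presheaf.stalk (h t))
      (IsLocalRing.ResidueField (T.presheaf.stalk t)) :=
    inferInstanceAs (Algebra.QuasiFinite _
      (T.presheaf.stalk t ⧸ IsLocalRing.maximalIdeal (T.presheaf.stalk t)))
  haveI : Algebra.QuasiFinite (IsLocalRing.ResidueField (V.presheaf.stalk (h t)))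
      (IsLocalRing.ResidueField (T.presheaf.stalk t)) :=
    Algebra.QuasiFinite.of_restrictScalars (V.presheaf.stalk (h t)) _ _
  haveI : Module.Finite (IsLocalRing.ResidueField (V.presheaf.stalk (h t)))
      (IsLocalRing.ResidueField (T.presheaf.stalk t)) := Module.Finite.of_quasiFinite
  have e : algebraMap (IsLocalRing.ResidueField (V.presheaf.stalk (h t)))
      (IsLocalRing.ResidueField (T.presheaf.stalk t)) =
      IsLocalRing.ResidueField.map (h.stalkMap t).hom := by
    apply Ideal.Quotient.ringHom_ext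
    ext a
    rfl
  rw [← e]
  exact algebraMap_isIntegral_iff.2 inferInstance

end SchemeLemma

variable {S : Scheme.{u}}

open Groth.Agent.Lib.AlgSpQuotSpH7 in
/-- In a chart diagram of open subschemes for a birational morphism, the stalk map at a point
over a generic point is an isomorphism. -/
theorem isIso_stalkMap_of_isBirational {X Y : AlgSp.Space S} (f : X ⟶ Y)
    (hf : W4stk3decentspacesp2.IsBirational f.hom) {X₁ Y₀ : Over S}
    (a₁ : (yon S).obj X₁ ⟶ X.obj) (b₀ : (yon S).obj Y₀ ⟶ Y.obj) (g : X₁ ⟶ Y₀)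
    (ha₁ : RepWith @IsOpenImmersion a₁) (hb₀ : RepWith @IsOpenImmersion b₀)
    (hcomm1 : a₁ ≫ f.hom = (yon S).map g ≫ b₀) (x : ↥X₁.left)
    (h1 : Points.ofPt a₁ x ∈ genericPoints (Points X.obj)) : IsIso (g.left.stalkMap x) := by
  obtain ⟨U, V, a, b, gU, u, ha, hb, hcomm, hu, hisoU⟩ := hf.stalkIso _ h1
  obtain ⟨W, p₂, p₁, sqW, hp₁⟩ : ∃ (W : Over S) (p₂ : W ⟶ U) (p₁ : W ⟶ X₁),
      IsPullback ((yon S).map p₂) ((yon S).map p₁) a a₁ ∧ IsOpenImmersion p₁.left :=
    ⟨_, _, _, ha.rep.isPullback' a₁, ha.property_snd a₁⟩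
  have hp₂ : IsOpenImmersion p₂.left := ((repWith_iff _ _).1 ha₁).2 a _ p₂ sqW.flip
  obtain ⟨W', q₂, q₁, sqW', hq₁⟩ : ∃ (W' : Over S) (q₂ : W' ⟶ V) (q₁ : W' ⟶ Y₀),
      IsPullback ((yon S).map q₂) ((yon S).map q₁) b b₀ ∧ IsOpenImmersion q₁.left :=
    ⟨_, _, _, hb.rep.isPullback' b₀, hb.property_snd b₀⟩
  have hq₂ : IsOpenImmersion q₂.left := ((repWith_iff _ _).1 hb₀).2 b _ q₂ sqW'.flip
  obtain ⟨w, hw₂, hw₁⟩ := exists_ofPt_eq_of_isPullback sqW u x hu
  obtain ⟨k, hk⟩ := (yon S).map_surjective (sqW'.lift ((yon S).map (p₂ ≫ gU))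
    ((yon S).map (p₁ ≫ g)) (by
      rw [(yon S).map_comp, (yon S).map_comp, Category.assoc, Category.assoc, ← hcomm,
        ← hcomm1, ← Category.assoc, sqW.w, Category.assoc]))
  have hk₂ : k ≫ q₂ = p₂ ≫ gU := by
    apply (yon S).map_injective
    rw [(yon S).map_comp, hk, sqW'.lift_fst]
  have hk₁ : k ≫ q₁ = p₁ ≫ g := by
    apply (yon S).map_injective
    rw [(yon S).map_comp, hk, sqW'.lift_snd]
  have hk₂' : k.left ≫ q₂.left = p₂.left ≫ gU.left := by
    rw [← Over.comp_left, hk₂, Over.comp_left]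
  have hk₁' : k.left ≫ q₁.left = p₁.left ≫ g.left := by
    rw [← Over.comp_left, hk₁, Over.comp_left]
  subst hw₁
  subst hw₂
  haveI := hp₁
  haveI := hp₂
  haveI := hq₁
  haveI := hq₂
  have hkiso : IsIso (k.left.stalkMap w) :=
    (isIso_stalkMap_of_comm k.left q₂.left p₂.left gU.left hk₂' w).2 hisoU
  exact (isIso_stalkMap_of_comm k.left q₁.left p₁.left g.left hk₁' w).1 hkiso

/-- Core data at a generic point of `Y` in an open subscheme. -/
theorem exists_core {X Y : AlgSp.Space S} (f : X ⟶ Y)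
    (hf : W4stk3decentspacesp2.IsBirational f.hom) {V : Over S}
    (b : (yon S).obj V ⟶ Y.obj) (hb : RepWith @IsOpenImmersion b) (v : ↥V.left)
    (hv : Points.ofPt b v ∈ genericPoints (Points Y.obj)) :
    ∃ (W : Over S) (a : (yon S).obj W ⟶ X.obj) (r : W ⟶ V) (w : ↥W.left),
      RepWith @IsOpenImmersion a ∧ a ≫ f.hom = (yon S).map r ≫ b ∧ r.left w = v ∧
        Points.ofPt a w ∈ genericPoints (Points X.obj) ∧ IsIso (r.left.stalkMap w) := by
  obtain ⟨ξ, hξ, hξv⟩ := hf.bijOn.surjOn hv
  obtain ⟨U, V', a₀, b', gU, u, ha₀, hb', hcomm, hu, -⟩ := hf.stalkIso ξ hξ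
  obtain ⟨W, i, r, sq, hi⟩ : ∃ (W : Over S) (i : W ⟶ U) (r : W ⟶ V),
      IsPullback ((yon S).map i) ((yon S).map r) (a₀ ≫ f.hom) b ∧ IsOpenImmersion i.left :=
    ⟨_, hb.rep.snd (a₀ ≫ f.hom), hb.rep.fst' (a₀ ≫ f.hom),
      (hb.rep.isPullback' (a₀ ≫ f.hom)).flip, hb.property_snd (a₀ ≫ f.hom)⟩
  obtain ⟨w, hw₁, hw₂⟩ := exists_ofPt_eq_of_isPullback sq u v (by
    rw [← Points.map_ofPt, hu, hξv])
  have ha : RepWith @IsOpenImmersion ((yon S).map i ≫ a₀) :=
    repWith_comp _ ((repWith_yon_map_iff _ _).2 hi) ha₀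
  have hcomm1 : ((yon S).map i ≫ a₀) ≫ f.hom = (yon S).map r ≫ b := by
    rw [Category.assoc]; exact sq.w
  have hgen : Points.ofPt ((yon S).map i ≫ a₀) w ∈ genericPoints (Points X.obj) := by
    rw [ofPt_comp, hw₁, hu]; exact hξ
  exact ⟨W, _, r, w, ha, hcomm1, hw₂, hgen,
    isIso_stalkMap_of_isBirational f hf _ b r ha hb hcomm1 w hgen⟩

/-- A point of `X` lying over a generic point of `Y` (in an open subscheme) is generic. -/
theorem mem_generic_of_map_eq {X Y : AlgSp.Space S} (f : X ⟶ Y) (hX : IsDecent X.obj)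
    (hf : W4stk3decentspacesp2.IsBirational f.hom) {V : Over S}
    (b : (yon S).obj V ⟶ Y.obj) (hb : RepWith @IsOpenImmersion b) (v : ↥V.left)
    (hv : Points.ofPt b v ∈ genericPoints (Points Y.obj)) (z : Points X.obj)
    (hz : Points.map f.hom z = Points.ofPt b v) : z ∈ genericPoints (Points X.obj) := by
  haveI : QuasiSober (Points X.obj) := Groth.Agent.Lib.DecentSoberH7.main10339 X hX
  haveI : Mono b := mono_of_openImmersion b hb
  have heb := isOpenEmbedding_ofPt b hb
  have hvg : closure {v} ∈ irreducibleComponents ↥V.left :=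
    (generic_iff_of_isOpenEmbedding _ heb v).2 hv
  obtain ⟨ξ, hξ⟩ := QuasiSober.sober (isIrreducible_irreducibleComponent (x := z))
    isClosed_irreducibleComponent
  have hξg : ξ ∈ genericPoints (Points X.obj) := by
    show closure {ξ} ∈ irreducibleComponents _
    rw [hξ.def]; exact irreducibleComponent_mem_irreducibleComponents z
  have hξz : ξ ⤳ z := by
    rw [specializes_iff_mem_closure, hξ.def]; exact mem_irreducibleComponent
  have hsp : Points.map f.hom ξ ⤳ Points.ofPt b v := by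
    rw [← hz]; exact hξz.map (Points.continuous_map f.hom)
  obtain ⟨v', hv'⟩ : Points.map f.hom ξ ∈ Set.range (Points.ofPt b) :=
    hsp.mem_open heb.isOpen_range ⟨v, rfl⟩
  have hv'v : v' ⤳ v := by
    rw [← heb.isInducing.specializes_iff, hv']; exact hsp
  have hvv' : v ⤳ v' :=
    (Groth.Agent.Lib.SchIrredComp2H7.closure_singleton_mem_irreducibleComponents_iff v).mp
      hvg _ hv'v
  have hveq : v' = v := (hv'v.antisymm hvv').eq
  subst hveq
  obtain ⟨W, a, r, w, ha, hcomm1, hrw, hgen, hiso⟩ := exists_core f hf b hb v' hv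
  have hξw : Points.ofPt a w = ξ := hf.bijOn.injOn hgen hξg (by
    rw [Points.map_ofPt, hcomm1, ofPt_comp, hrw, hv'])
  obtain ⟨T, c, h, t, hce, hcomm, hct⟩ := exists_chart_over f b hb z ⟨v', hz.symm⟩
  obtain ⟨p, hp, -, hpq⟩ := hX ξ
  obtain ⟨t'', ht''t, hct''⟩ := Groth.Agent.Lib.AlgSpGeneriz_helper6.exists_specializes_lift z ξ
    hξz p hp hpq c hce t hct
  obtain ⟨W', p₂, p₁, sqW, hp₁⟩ : ∃ (W' : Over S) (p₂ : W' ⟶ W) (p₁ : W' ⟶ T),
      IsPullback ((yon S).map p₂) ((yon S).map p₁) a c ∧ IsOpenImmersion p₁.left :=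
    ⟨_, _, _, ha.rep.isPullback' c, ha.property_snd c⟩
  have hp₂ : Etale p₂.left := ((repWith_iff _ _).1 hce).2 a _ p₂ sqW.flip
  have hp : p₁ ≫ h = p₂ ≫ r := by
    apply (yon S).map_injective
    rw [← cancel_mono b, (yon S).map_comp, (yon S).map_comp, Category.assoc, Category.assoc,
      ← hcomm, ← hcomm1, ← Category.assoc, ← Category.assoc, sqW.w]
  obtain ⟨s, hs₂, hs₁⟩ := exists_ofPt_eq_of_isPullback sqW w t'' (by rw [hξw, hct''])
  subst hs₂
  haveI := hp₁
  haveI := hp₂
  haveI := hiso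
  haveI : LocallyQuasiFinite p₂.left := locallyQuasiFinite_of_unramified p₂.left
  have hq1 : (p₂.left ≫ r.left).QuasiFiniteAt s := by
    simp only [Scheme.Hom.QuasiFiniteAt, Scheme.Hom.stalkMap_comp]
    refine RingHom.QuasiFinite.comp (p₂.left.quasiFiniteAt s) ?_
    exact RingHom.QuasiFinite.of_finite (RingHom.Finite.of_surjective _
      (ConcreteCategory.bijective_of_isIso (r.left.stalkMap (p₂.left s))).2)
  have hq2 : (p₁.left ≫ h.left).QuasiFiniteAt s := by
    rw [← Over.comp_left, hp, Over.comp_left]; exact hq1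
  have hq3 : h.left.QuasiFiniteAt (p₁.left s) :=
    Scheme.Hom.quasiFiniteAt_comp_iff_of_isOpenImmersion.1 hq2
  have hint := isIntegral_residue_of_quasiFiniteAt h.left (p₁.left s) hq3
  have key : ∀ s' : ↥T.left,
      Points.ofPt b (h.left s') = Points.map f.hom (Points.ofPt c s') := by
    intro s'
    rw [← ofPt_comp, ← hcomm, Points.map_ofPt]
  have hht : h.left (p₁.left s) = h.left t := by
    apply heb.injective
    rw [key, key, hs₁, hct'', hct, hz]
    exact hv'.symm
  have hQ : p₁.left s = t :=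
    eq_of_specializes_of_isIntegral_residue h.left (by rw [hs₁]; exact ht''t) hht hint
  have hzξ : z = ξ := by rw [← hct, ← hQ, hs₁, hct'']
  rw [hzξ]; exact hξg

open Groth.Agent.Lib.AlgSpQuotSpH7 in
theorem main10434 {X Y : AlgSp.Space S} (f : X ⟶ Y) (hX : IsDecent X.obj)
    (hf : W4stk3decentspacesp2.IsBirational f.hom) {V : Over S}
    (b : (yon S).obj V ⟶ Y.obj) (hb : RepWith @IsOpenImmersion b) (v : ↥V.left)
    (hv : Points.ofPt b v ∈ genericPoints (Points Y.obj)) {P : Sp S} (fst : P ⟶ X.obj)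
    (snd : P ⟶ (yon S).obj (Over.mk (V.left.fromSpecStalk v ≫ V.hom)))
    (hP : IsPullback fst snd f.hom
      ((yon S).map (Over.homMk (V.left.fromSpecStalk v) rfl) ≫ b)) : IsIso snd := by
  haveI : Mono b := mono_of_openImmersion b hb
  have heb := isOpenEmbedding_ofPt b hb
  obtain ⟨W, a, r, w, ha, hcomm1, hrw, hgen, hiso⟩ := exists_core f hf b hb v hv
  subst hrw
  haveI := hiso
  have hea := isOpenEmbedding_ofPt a ha
  have hwmax : closure {w} ∈ irreducibleComponents ↥W.left :=
    (generic_iff_of_isOpenEmbedding _ hea w).2 hgen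
  have hvmax : closure {r.left w} ∈ irreducibleComponents ↥V.left :=
    (generic_iff_of_isOpenEmbedding _ heb (r.left w)).2 hv
  have hφ : ∀ x : ↥W.left,
      Points.map f.hom (Points.ofPt a x) = Points.ofPt b (r.left x) := by
    intro x; rw [Points.map_ofPt, hcomm1, ofPt_comp]
  have hmaps : ∀ x : ↥W.left, closure {x} ∈ irreducibleComponents ↥W.left →
      closure {r.left x} ∈ irreducibleComponents ↥V.left := by
    intro x hx
    have h1 : Points.ofPt a x ∈ genericPoints (Points X.obj) :=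
      (generic_iff_of_isOpenEmbedding _ hea x).1 hx
    have h2 := hf.bijOn.mapsTo h1
    rw [hφ] at h2
    exact (generic_iff_of_isOpenEmbedding _ heb _).2 h2
  have hinj : Set.InjOn (fun x : ↥W.left => r.left x)
      {x | closure {x} ∈ irreducibleComponents ↥W.left} := by
    intro x hx x' hx' hxx'
    have h1 : Points.ofPt a x ∈ genericPoints (Points X.obj) :=
      (generic_iff_of_isOpenEmbedding _ hea x).1 hx
    have h1' : Points.ofPt a x' ∈ genericPoints (Points X.obj) :=
      (generic_iff_of_isOpenEmbedding _ hea x').1 hx'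
    have : Points.map f.hom (Points.ofPt a x) = Points.map f.hom (Points.ofPt a x') := by
      rw [hφ, hφ]; exact congrArg (Points.ofPt b) hxx'
    exact hea.injective (hf.bijOn.injOn h1 h1' this)
  haveI hπ : IsIso (pullback.snd r.left (V.left.fromSpecStalk (r.left w))) :=
    Groth.Agent.Lib.BiratMorH7.isIso_pullback_snd_fromSpecStalk r.left hinj hmaps w hwmax
  obtain ⟨θ, hθ⟩ : ∃ θ : Spec (V.left.presheaf.stalk (r.left w)) ⟶ W.left,
      θ ≫ r.left = V.left.fromSpecStalk (r.left w) := by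
    refine ⟨Spec.map (inv (r.left.stalkMap w)) ≫ W.left.fromSpecStalk w, ?_⟩
    rw [Category.assoc, ← Scheme.SpecMap_stalkMap_fromSpecStalk, ← Category.assoc,
      ← Spec.map_comp, IsIso.hom_inv_id, Spec.map_id, Category.id_comp]
  obtain ⟨θ', hθ'l⟩ : ∃ θ' : Over.mk (V.left.fromSpecStalk (r.left w) ≫ V.hom) ⟶ W,
      θ'.left = θ :=
    ⟨Over.homMk θ (by
      show θ ≫ W.hom = V.left.fromSpecStalk (r.left w) ≫ V.hom
      rw [← Over.w r, ← Category.assoc, hθ]), rfl⟩
  have hθ' : θ' ≫ r = Over.homMk (V.left.fromSpecStalk (r.left w)) rfl := by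
    ext
    rw [Over.comp_left, hθ'l]
    exact hθ
  have hτc : ((yon S).map θ' ≫ a) ≫ f.hom =
      𝟙 _ ≫ ((yon S).map (Over.homMk (V.left.fromSpecStalk (r.left w)) rfl) ≫ b) := by
    rw [Category.assoc, hcomm1, ← Category.assoc, ← (yon S).map_comp, hθ', Category.id_comp]
  have hrange : Set.range (Points.map fst) ⊆ Set.range (Points.map a) := by
    rintro _ ⟨p, rfl⟩
    rw [range_map_yon]
    obtain ⟨σ', hσ'⟩ := ofScheme_surjective _ (Points.map snd p)
    have h1 : Points.map f.hom (Points.map fst p) = Points.ofPt b (r.left w) := by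
      rw [← Points.map_comp, hP.w, Points.map_comp, ← hσ', ← Points.ofPt_eq_map_ofScheme,
        ofPt_comp]
      congr 1
      have hsp : V.left.fromSpecStalk (r.left w) σ' ⤳ r.left w :=
        Groth.Agent.Lib.SchIrredComp2H7.fromSpecStalk_specializes _ _ σ'
      exact (hsp.antisymm
        ((Groth.Agent.Lib.SchIrredComp2H7.closure_singleton_mem_irreducibleComponents_iff
          _).mp hvmax _ hsp)).eq
    have hzgen := mem_generic_of_map_eq f hX hf b hb (r.left w) hv _ h1
    have : Points.map fst p = Points.ofPt a w :=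
      hf.bijOn.injOn hzgen hgen (by rw [h1, hφ])
    exact ⟨w, this.symm⟩
  obtain ⟨s, hs⟩ := (factors_iff_of_openImmersion a ha fst).2 hrange
  have hsr : s ≫ (yon S).map r =
      snd ≫ (yon S).map (Over.homMk (V.left.fromSpecStalk (r.left w)) rfl) := by
    rw [← cancel_mono b, Category.assoc, Category.assoc, ← hcomm1, ← Category.assoc, hs, hP.w]
  have hsθ : s = snd ≫ (yon S).map θ' := by
    apply hom_ext_yon
    intro T x
    obtain ⟨σT, hσT⟩ := (yon S).map_surjective (x ≫ s)
    obtain ⟨νT, hνT⟩ := (yon S).map_surjective (x ≫ snd)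
    have h2 : σT ≫ r = νT ≫ Over.homMk (V.left.fromSpecStalk (r.left w)) rfl := by
      apply (yon S).map_injective
      rw [(yon S).map_comp, (yon S).map_comp, hσT, hνT, Category.assoc, Category.assoc, hsr]
    have h2' : σT.left ≫ r.left = νT.left ≫ V.left.fromSpecStalk (r.left w) := by
      have := congrArg (fun m => m.left) h2
      simpa using this
    have hlc : θ ≫ r.left = 𝟙 _ ≫ V.left.fromSpecStalk (r.left w) := by
      rw [hθ, Category.id_comp]
    have e1 : pullback.lift θ (𝟙 _) hlc ≫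
        pullback.snd r.left (V.left.fromSpecStalk (r.left w)) = 𝟙 _ := pullback.lift_snd _ _ _
    have e2 : pullback.snd r.left (V.left.fromSpecStalk (r.left w)) ≫
        pullback.lift θ (𝟙 _) hlc = 𝟙 _ := by
      rw [← cancel_mono (pullback.snd r.left (V.left.fromSpecStalk (r.left w))),
        Category.assoc, e1, Category.comp_id, Category.id_comp]
    have h3 : σT.left = νT.left ≫ θ := by
      calc σT.left = pullback.lift σT.left νT.left h2' ≫ pullback.fst _ _ :=
            (pullback.lift_fst _ _ _).symm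
        _ = (pullback.lift σT.left νT.left h2' ≫
            (pullback.snd r.left (V.left.fromSpecStalk (r.left w)) ≫
              pullback.lift θ (𝟙 _) hlc)) ≫ pullback.fst _ _ := by
            rw [e2, Category.comp_id]
        _ = νT.left ≫ θ := by
            rw [← Category.assoc, pullback.lift_snd, Category.assoc, pullback.lift_fst]
    have h4 : σT = νT ≫ θ' := by
      ext
      rw [Over.comp_left, hθ'l]
      exact h3
    rw [← hσT, h4, (yon S).map_comp, hνT, Category.assoc]
  refine ⟨⟨hP.lift ((yon S).map θ' ≫ a) (𝟙 _) hτc, ?_, hP.lift_snd _ _ _⟩⟩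
  apply hP.hom_ext
  · rw [Category.assoc, hP.lift_fst, Category.id_comp, ← Category.assoc, ← hsθ, hs]
  · rw [Category.assoc, hP.lift_snd, Category.id_comp, Category.comp_id]

end Groth.Agent.Lib.DecentBirat4H7
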