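import Mathlib
import Groth.Agent.Lib.DecentBirat4_helper7
import Groth.Agent.Lib.DecentGeneric_helper7
import Groth.Agent.S10351
import Groth.Agent.Lib.AlgSpUnram_helper7
import Groth.Agent.Lib.AlgSpEmbed_helper6
import Groth.Agent.Lib.AlgSpFibre_helper6
import Groth.Agent.Lib.AlgSpT0_helper6
import Groth.Agent.Lib.SchIrredComp2_helper7

/-!
# Birational morphisms of decent spaces: étale base change (helper7)
-/

set_option autoImplicit false
set_option linter.style.haveILetI false
universe u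
open CategoryTheory CategoryTheory.Limits AlgebraicGeometry Opposite TopologicalSpace

namespace Groth.Agent.Lib.DecentBirat5H7

open AlgSp Groth.Agent.Lib.AlgSpPoints_helper7 Groth.Agent.Lib.AlgSpOpenSub_helper7
  Groth.Agent.Lib.AlgSpEtale_helper7 Groth.Agent.Lib.AlgSpPullback_helper7
  Groth.Agent.Lib.DecentIrredH7 Groth.Agent.Lib.DecentBirat2H7 Groth.Agent.Lib.AlgSpOpen_helper7
  Groth.Agent.Lib.DecentBirat3H7 Groth.Agent.Lib.DecentBirat4H7 Groth.Agent.Lib.AlgSpQC_helper7
  Groth.Agent.Lib.DecentGenericH7 Groth.Agent.Lib.DecentSoberH7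

section Category

variable {C : Type*} [Category C] [HasPullbacks C]

/-- Base change of "the fibre over `Z₀` is `Z₀`" along a cartesian square. -/
theorem isIso_pullback_snd_of_isPullback {U W V₁ Y₀ Z₀ Z₁ : C} {i : U ⟶ W} {q : U ⟶ V₁}
    {r : W ⟶ Y₀} {e : V₁ ⟶ Y₀} (sqA : IsPullback i q r e) (j₀ : Z₀ ⟶ Y₀) (j₁ : Z₁ ⟶ V₁)
    (m : Z₁ ⟶ Z₀) (hm : j₁ ≫ e = m ≫ j₀) [IsIso (pullback.snd r j₀)] :
    IsIso (pullback.snd q j₁) := by
  have sq1 := IsPullback.of_hasPullback q j₁
  have sqR := IsPullback.of_hasPullback r j₀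
  have big : IsPullback (pullback.snd q j₁) (pullback.fst q j₁ ≫ i) (m ≫ j₀) r := by
    rw [← hm]
    exact sq1.flip.paste_vert sqA.flip
  have left := IsPullback.of_bot' big sqR.flip
  exact left.isIso_fst_of_isIso

end Category

section SchemeLemma

/-- If the fibre of `g` over `Spec O_{V, g u}` maps isomorphically to it then the local
homomorphism at `u` is an isomorphism. -/
theorem isIso_stalkMap_of_isIso_pullback_snd {U V : Scheme.{u}} (g : U ⟶ V) (u : U)
    [IsIso (pullback.snd g (V.fromSpecStalk (g u)))] : IsIso (g.stalkMap u) := by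
  obtain ⟨ρ, hρdef⟩ : ∃ ρ : Spec (V.presheaf.stalk (g u)) ⟶ U,
      ρ = inv (pullback.snd g (V.fromSpecStalk (g u))) ≫ pullback.fst g (V.fromSpecStalk (g u)) :=
    ⟨_, rfl⟩
  have hρg : ρ ≫ g = V.fromSpecStalk (g u) := by
    rw [hρdef, Category.assoc, pullback.condition, IsIso.inv_hom_id_assoc]
  have hcond : U.fromSpecStalk u ≫ g = Spec.map (g.stalkMap u) ≫ V.fromSpecStalk (g u) :=
    (Scheme.SpecMap_stalkMap_fromSpecStalk g).symm
  have hfac : U.fromSpecStalk u = Spec.map (g.stalkMap u) ≫ ρ := by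
    have h1 := pullback.lift_fst (U.fromSpecStalk u) (Spec.map (g.stalkMap u)) hcond
    have h2 := pullback.lift_snd (U.fromSpecStalk u) (Spec.map (g.stalkMap u)) hcond
    rw [hρdef, ← h2, Category.assoc, IsIso.hom_inv_id_assoc, h1]
  obtain ⟨cu, hcu⟩ : ∃ cu : ↥(Spec (U.presheaf.stalk u)),
      cu = IsLocalRing.closedPoint (U.presheaf.stalk u) := ⟨_, rfl⟩
  obtain ⟨cv, hcv⟩ : ∃ cv : ↥(Spec (V.presheaf.stalk (g u))),
      cv = IsLocalRing.closedPoint (V.presheaf.stalk (g u)) := ⟨_, rfl⟩
  have hcl : Spec.map (g.stalkMap u) cu = cv := by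
    rw [hcu, hcv]
    exact IsLocalRing.comap_closedPoint (g.stalkMap u).hom
  have hρcl : ρ cv = u := by
    have h := congr($(hfac) cu)
    rw [Scheme.Hom.comp_apply, hcl] at h
    rw [← h, hcu]
    exact Scheme.fromSpecStalk_closedPoint
  have hsp : ∀ σ : ↥(Spec (V.presheaf.stalk (g u))), ρ σ ⤳ u := by
    intro σ
    have h : σ ⤳ cv := by
      rw [hcv]; exact IsLocalRing.specializes_closedPoint σ
    have h2 := h.map ρ.continuous
    rw [hρcl] at h2
    exact h2
  obtain ⟨ρ', hρ'⟩ := Groth.Agent.Lib.BiratMorH7.exists_lift_fromSpecStalk ρ u hsp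
  have h1 : Spec.map (g.stalkMap u) ≫ ρ' = 𝟙 _ := by
    rw [← cancel_mono (U.fromSpecStalk u), Category.assoc, hρ', ← hfac, Category.id_comp]
  have h2 : ρ' ≫ Spec.map (g.stalkMap u) = 𝟙 _ := by
    rw [← cancel_mono (V.fromSpecStalk (g u)), Category.assoc,
      Scheme.SpecMap_stalkMap_fromSpecStalk, ← Category.assoc, hρ', hρg, Category.id_comp]
  refine ⟨⟨Spec.preimage ρ', ?_, ?_⟩⟩
  · apply Spec.map_injective
    rw [Spec.map_comp, Spec.map_preimage, Spec.map_id, h2]
  · apply Spec.map_injective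
    rw [Spec.map_comp, Spec.map_preimage, Spec.map_id, h1]

/-- Uniqueness of the point of the fibre. -/
theorem eq_of_isIso_pullback_snd {U V₁ : Scheme.{u}} (q : U ⟶ V₁) (v₁ : V₁)
    [IsIso (pullback.snd q (V₁.fromSpecStalk v₁))] (u u' : U) (hu : q u = v₁)
    (hu' : q u' = v₁) : u = u' := by
  obtain ⟨cv, hcv⟩ : ∃ cv : ↥(Spec (V₁.presheaf.stalk v₁)),
      cv = IsLocalRing.closedPoint (V₁.presheaf.stalk v₁) := ⟨_, rfl⟩
  have hc : V₁.fromSpecStalk v₁ cv = v₁ := by
    rw [hcv]; exact Scheme.fromSpecStalk_closedPoint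
  obtain ⟨z, hz1, hz2⟩ := Scheme.Pullback.exists_preimage_pullback (f := q)
    (g := V₁.fromSpecStalk v₁) u cv (by rw [hu, hc])
  obtain ⟨z', hz'1, hz'2⟩ := Scheme.Pullback.exists_preimage_pullback (f := q)
    (g := V₁.fromSpecStalk v₁) u' cv (by rw [hu', hc])
  have hinj : Function.Injective (pullback.snd q (V₁.fromSpecStalk v₁)) :=
    (ConcreteCategory.bijective_of_isIso
      (pullback.snd q (V₁.fromSpecStalk v₁)).base).1
  have : z = z' := hinj (by rw [hz2, hz'2])
  rw [← hz1, ← hz'1, this]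

set_option backward.isDefEq.respectTransparency false in
/-- Local isomorphism passes through composition with an open immersion. -/
theorem isIso_stalkMap_comp_openImmersion {A B C : Scheme.{u}} (k : A ⟶ B) (j : B ⟶ C)
    [IsOpenImmersion j] (g : A ⟶ C) (h : k ≫ j = g) (x : A) [IsIso (k.stalkMap x)] :
    IsIso (g.stalkMap x) := by
  subst h
  rw [Scheme.Hom.stalkMap_comp]
  infer_instance

end SchemeLemma

variable {S : Scheme.{u}}

open Groth.Agent.Lib.SchIrredComp2H7 Groth.Agent.Lib.AlgSpUnram_helper7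
  Groth.Agent.Lib.AlgSpEmbed_helper6

/-- The chart of `X ×_Y V` at the point over a generic point of `Y`. -/
theorem exists_chart_at_generic {X Y : AlgSp.Space S} (f : X ⟶ Y)
    (hX : IsDecent X.obj) (hY : IsDecent Y.obj)
    (hYf : (irreducibleComponents (Points Y.obj)).Finite)
    (hf : W4stk3decentspacesp2.IsBirational f.hom) {V : Over S}
    (b : (yon S).obj V ⟶ Y.obj) (hb : RepWith @Etale b) {P : Sp S} (fst : P ⟶ X.obj)
    (snd : P ⟶ (yon S).obj V) (hP : IsPullback fst snd f.hom b) (v : ↥V.left)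
    (hv : Points.ofPt b v ∈ genericPoints (Points Y.obj)) :
    ∃ (U : Over S) (a : (yon S).obj U ⟶ P) (g : U ⟶ V) (u : ↥U.left),
      RepWith @IsOpenImmersion a ∧ a ≫ snd = (yon S).map g ∧ g.left u = v ∧
        IsIso (g.left.stalkMap u) ∧
        ∀ π : Points P, Points.map snd π = Points.ofScheme V v → π = Points.ofPt a u := by
  obtain ⟨Y₀, b₀, hb₀, hdb₀, -, -⟩ := forward Y hY hYf
  haveI : Mono b₀ := mono_of_openImmersion b₀ hb₀
  have he₀ := isOpenEmbedding_ofPt b₀ hb₀
  obtain ⟨y₀, hy₀⟩ : Points.ofPt b v ∈ Set.range (Points.ofPt b₀) :=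
    mem_of_dense_open_of_generic hYf he₀.isOpen_range hdb₀ hv
  have hy₀g : Points.ofPt b₀ y₀ ∈ genericPoints (Points Y.obj) := by rw [hy₀]; exact hv
  obtain ⟨W, aW, r, w, haW, hcommW, hrw, hgenW, hisoW⟩ := exists_core f hf b₀ hb₀ y₀ hy₀g
  obtain ⟨U, i, g, sqU, -⟩ : ∃ (U : Over S) (i : U ⟶ W) (g : U ⟶ V),
      IsPullback ((yon S).map i) ((yon S).map g) (aW ≫ f.hom) b ∧ Etale i.left :=
    ⟨_, hb.rep.snd (aW ≫ f.hom), hb.rep.fst' (aW ≫ f.hom),
      (hb.rep.isPullback' (aW ≫ f.hom)).flip, hb.property_snd (aW ≫ f.hom)⟩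
  obtain ⟨a, ha1, ha2⟩ : ∃ a : (yon S).obj U ⟶ P,
      a ≫ fst = (yon S).map i ≫ aW ∧ a ≫ snd = (yon S).map g :=
    ⟨hP.lift ((yon S).map i ≫ aW) ((yon S).map g) (by rw [Category.assoc]; exact sqU.w),
      hP.lift_fst _ _ _, hP.lift_snd _ _ _⟩
  have sqL : IsPullback a ((yon S).map i) fst aW :=
    IsPullback.of_right (by rw [ha2]; exact sqU.flip) ha1 hP.flip
  have ha : RepWith @IsOpenImmersion a := repWith_fst_of_isPullback _ sqL haW
  obtain ⟨u, hu1, hu2⟩ := exists_ofPt_eq_of_isPullback sqU w v (by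
    rw [hcommW, ofPt_comp, hrw, hy₀])
  obtain ⟨V₁, e, q₁, sqV₁, hq₁⟩ : ∃ (V₁ : Over S) (e : V₁ ⟶ Y₀) (q₁ : V₁ ⟶ V),
      IsPullback ((yon S).map e) ((yon S).map q₁) b₀ b ∧ IsOpenImmersion q₁.left :=
    ⟨_, _, _, hb₀.rep.isPullback' b, hb₀.property_snd b⟩
  obtain ⟨q, hq⟩ := (yon S).map_surjective (sqV₁.lift ((yon S).map (i ≫ r)) ((yon S).map g) (by
    rw [(yon S).map_comp, Category.assoc, ← hcommW]; exact sqU.w))
  have hqe : q ≫ e = i ≫ r := by
    apply (yon S).map_injective
    rw [(yon S).map_comp, hq, sqV₁.lift_fst]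
  have hqq₁ : q ≫ q₁ = g := by
    apply (yon S).map_injective
    rw [(yon S).map_comp, hq, sqV₁.lift_snd]
  have sqA0 : IsPullback ((yon S).map q) ((yon S).map i) ((yon S).map e) ((yon S).map r) :=
    IsPullback.of_right (by rw [← (yon S).map_comp, hqq₁, ← hcommW]; exact sqU.flip)
      (by rw [← (yon S).map_comp, ← (yon S).map_comp, hqe]) sqV₁.flip
  have sqA : IsPullback q.left i.left e.left r.left := isPullback_left_of_isPullback_yon sqA0
  have hqe' : q.left ≫ e.left = i.left ≫ r.left := by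
    rw [← Over.comp_left, hqe, Over.comp_left]
  have hqq₁' : q.left ≫ q₁.left = g.left := by
    rw [← Over.comp_left, hqq₁]
  have hea := isOpenEmbedding_ofPt aW haW
  have hwmax : closure {w} ∈ irreducibleComponents ↥W.left :=
    (generic_iff_of_isOpenEmbedding _ hea w).2 hgenW
  have hφ : ∀ x : ↥W.left,
      Points.map f.hom (Points.ofPt aW x) = Points.ofPt b₀ (r.left x) := by
    intro x; rw [Points.map_ofPt, hcommW, ofPt_comp]
  have hmaps : ∀ x : ↥W.left, closure {x} ∈ irreducibleComponents ↥W.left →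
      closure {r.left x} ∈ irreducibleComponents ↥Y₀.left := by
    intro x hx
    have h1 : Points.ofPt aW x ∈ genericPoints (Points X.obj) :=
      (generic_iff_of_isOpenEmbedding _ hea x).1 hx
    have h2 := hf.bijOn.mapsTo h1
    rw [hφ] at h2
    exact (generic_iff_of_isOpenEmbedding _ he₀ _).2 h2
  have hinj : Set.InjOn (fun x : ↥W.left => r.left x)
      {x | closure {x} ∈ irreducibleComponents ↥W.left} := by
    intro x hx x' hx' hxx'
    have h1 : Points.ofPt aW x ∈ genericPoints (Points X.obj) :=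
      (generic_iff_of_isOpenEmbedding _ hea x).1 hx
    have h1' : Points.ofPt aW x' ∈ genericPoints (Points X.obj) :=
      (generic_iff_of_isOpenEmbedding _ hea x').1 hx'
    have : Points.map f.hom (Points.ofPt aW x) = Points.map f.hom (Points.ofPt aW x') := by
      rw [hφ, hφ]; exact congrArg (Points.ofPt b₀) hxx'
    exact hea.injective (hf.bijOn.injOn h1 h1' this)
  haveI := hisoW
  haveI hπ : IsIso (pullback.snd r.left (Y₀.left.fromSpecStalk (r.left w))) :=
    Groth.Agent.Lib.BiratMorH7.isIso_pullback_snd_fromSpecStalk r.left hinj hmaps w hwmax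
  have heq : e.left (q.left u) = r.left w := by
    have h3 := congr($(hqe') u)
    rw [Scheme.Hom.comp_apply, Scheme.Hom.comp_apply, hu1] at h3
    exact h3
  obtain ⟨m, hm⟩ := Groth.Agent.Lib.BiratMorH7.exists_lift_fromSpecStalk
    (V₁.left.fromSpecStalk (q.left u) ≫ e.left) (r.left w) (fun t => by
      rw [Scheme.Hom.comp_apply, ← heq]
      exact (fromSpecStalk_specializes _ _ t).map e.left.continuous)
  haveI hπq : IsIso (pullback.snd q.left (V₁.left.fromSpecStalk (q.left u))) :=
    isIso_pullback_snd_of_isPullback sqA.flip (Y₀.left.fromSpecStalk (r.left w))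
      (V₁.left.fromSpecStalk (q.left u)) m hm.symm
  haveI hqiso : IsIso (q.left.stalkMap u) := isIso_stalkMap_of_isIso_pullback_snd q.left u
  haveI := hq₁
  have hgiso : IsIso (g.left.stalkMap u) :=
    isIso_stalkMap_comp_openImmersion q.left q₁.left g.left hqq₁' u
  refine ⟨U, a, g, u, ha, ha2, hu2, hgiso, ?_⟩
  intro π hπv
  have h1 : Points.map f.hom (Points.map fst π) = Points.ofPt b₀ y₀ := by
    rw [← Points.map_comp, hP.w, Points.map_comp, hπv, ← Points.ofPt_eq_map_ofScheme, hy₀]
  have hzgen := mem_generic_of_map_eq f hX hf b₀ hb₀ y₀ hy₀g _ h1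
  have hfstπ : Points.map fst π = Points.ofPt aW w :=
    hf.bijOn.injOn hzgen hgenW (by rw [h1, hφ, hrw])
  obtain ⟨u', hu'1, hu'2⟩ := exists_of_isPullback_chart sqL π w hfstπ
  have hgu' : g.left u' = v := by
    apply ofScheme_injective V
    rw [← ofPt_yon_map, ← ha2, ← Points.map_ofPt, hu'1, hπv]
  have hqu : q.left u' = q.left u := by
    apply q₁.left.isOpenEmbedding.injective
    have e1 := congr($(hqq₁') u')
    have e2 := congr($(hqq₁') u)
    rw [Scheme.Hom.comp_apply] at e1 e2
    rw [e1, e2, hgu', hu2]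
  have huu' : u = u' := eq_of_isIso_pullback_snd q.left (q.left u) u u' rfl hqu
  rw [← hu'1, huu']

theorem main10437 {X Y : AlgSp.Space S} (f : X ⟶ Y)
    (hX : IsDecent X.obj) (hY : IsDecent Y.obj)
    (hYf : (irreducibleComponents (Points Y.obj)).Finite)
    (hf : W4stk3decentspacesp2.IsBirational f.hom) {V : Over S} [IsAffine V.left]
    (b : (yon S).obj V ⟶ Y.obj) (hb : RepWith @Etale b) {P : Sp S} (fst : P ⟶ X.obj)
    (snd : P ⟶ (yon S).obj V) (hP : IsPullback fst snd f.hom b) :
    IsDecent P ∧ (irreducibleComponents (Points P)).Finite ∧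
      (irreducibleComponents (Points ((yon S).obj V))).Finite ∧
      W4stk3decentspacesp2.IsBirational snd := by
  have hPalg : IsAlgSpace P :=
    isAlgSpace_of_isPullback Y.property.diag X.property (IsAlgSpace.yon_obj V) hP
  obtain ⟨PS, hPS⟩ : ∃ PS : AlgSp.Space S, PS.obj = P := ⟨⟨P, hPalg⟩, rfl⟩
  subst hPS
  have hfe : RepWith @Etale fst := repWith_fst_of_isPullback _ hP hb
  have hPd : IsDecent PS.obj :=
    Groth.Agent.S10351.result (X := PS) (Y := X) (ObjectProperty.homMk fst) hfe.rep hX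
  haveI qsP : QuasiSober (Points PS.obj) := main10339 PS hPd
  haveI t0P : T0Space (Points PS.obj) :=
    Groth.Agent.Lib.AlgSpT0_helper6.t0Space_points_of_isDecent hPalg hPd
  haveI qsY : QuasiSober (Points Y.obj) := main10339 Y hY
  haveI t0Y : T0Space (Points Y.obj) :=
    Groth.Agent.Lib.AlgSpT0_helper6.t0Space_points_of_isDecent Y.property hY
  have hGY : (genericPoints (Points Y.obj)).Finite := genericPoints.finite hYf
  have hM' : (Points.ofPt b ⁻¹' genericPoints (Points Y.obj)).Finite :=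
    hGY.preimage' fun y _ => by
      obtain ⟨p, hp, -, hq⟩ := hY y
      rw [← hp]
      exact Groth.Agent.Lib.AlgSpFibre_helper6.finite_fibre_of_qc_point p hq b hb
  have hVmax : ∀ v : ↥V.left, closure {v} ∈ irreducibleComponents ↥V.left →
      Points.ofPt b v ∈ genericPoints (Points Y.obj) := by
    intro v hv
    exact generic_of_isMax Y hY b hb v (fun v' (h : v' ⤳ v) =>
      (closure_singleton_mem_irreducibleComponents_iff v).mp hv v' h)
  have hM'max : ∀ v : ↥V.left, Points.ofPt b v ∈ genericPoints (Points Y.obj) →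
      closure {v} ∈ irreducibleComponents ↥V.left := by
    intro v hv
    have hmax : IsMax v := isMax_of_generic Y hY b hb v _ hv isGenericPoint_closure
    exact (closure_singleton_mem_irreducibleComponents_iff v).mpr
      (fun v' (h : v' ⤳ v) => hmax h)
  have hVfin : (irreducibleComponents ↥V.left).Finite := by
    refine (hM'.image fun v => closure {v}).subset ?_
    intro C hC
    obtain ⟨v, hv⟩ := QuasiSober.sober hC.1 (isClosed_of_mem_irreducibleComponents C hC)
    have hvC : closure {v} = C := hv.def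
    exact ⟨v, hVmax v (by rw [hvC]; exact hC), hvC⟩
  have hsurj : Function.Surjective (Points.ofScheme V) := ofScheme_surjective V
  have hyVfin : (irreducibleComponents (Points ((yon S).obj V))).Finite :=
    finite_irreducibleComponents_of_dense (Points.ofScheme V) (Points.continuous_ofPt _)
      hsurj.denseRange hVfin
  have hidO : RepWith @IsOpenImmersion (𝟙 ((yon S).obj V)) := by
    rw [← (yon S).map_id V]
    exact (repWith_yon_map_iff _ _).2 (by rw [Over.id_left]; infer_instance)
  have heid : Topology.IsOpenEmbedding (Points.ofScheme V) := isOpenEmbedding_ofPt _ hidO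
  have hgenV : ∀ v : ↥V.left, Points.ofPt b v ∈ genericPoints (Points Y.obj) →
      Points.ofScheme V v ∈ genericPoints (Points ((yon S).obj V)) := by
    intro v hv
    exact (generic_iff_of_isOpenEmbedding _ heid v).1 (hM'max v hv)
  have hgenP : ∀ π ∈ genericPoints (Points PS.obj), ∃ v : ↥V.left,
      Points.ofPt b v ∈ genericPoints (Points Y.obj) ∧
        Points.map snd π = Points.ofScheme V v := by
    intro π hπ
    obtain ⟨T, c, hce, hcs⟩ := hPalg.atlas
    obtain ⟨t, ht⟩ := ofPt_surjective c hcs π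
    have hmax : IsMax t := isMax_of_generic PS hPd c hce t (closure {π}) hπ (by
      show closure {Points.ofPt c t} = closure {π}
      rw [ht])
    have hcfe : RepWith @Etale (c ≫ fst) := repWith_comp _ hce hfe
    have h1 : closure {Points.ofPt (c ≫ fst) t} ∈ irreducibleComponents (Points X.obj) :=
      generic_of_isMax X hX (c ≫ fst) hcfe t hmax
    rw [← Points.map_ofPt, ht] at h1
    have h2 := hf.bijOn.mapsTo (show Points.map fst π ∈ genericPoints (Points X.obj) from h1)
    obtain ⟨v, hv⟩ := ofScheme_surjective V (Points.map snd π)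
    refine ⟨v, ?_, hv.symm⟩
    rw [Points.ofPt_eq_map_ofScheme, hv, ← Points.map_comp, ← hP.w, Points.map_comp]
    exact h2
  have hinjP : Set.InjOn (Points.map snd) (genericPoints (Points PS.obj)) := by
    intro π hπ π' hπ' hππ'
    obtain ⟨v, hv, hπv⟩ := hgenP π hπ
    obtain ⟨U, a, g, u, ha, hag, hgu, hiso, huniq⟩ :=
      exists_chart_at_generic f hX hY hYf hf b hb fst snd hP v hv
    rw [huniq π hπv, huniq π' (by rw [← hππ']; exact hπv)]
  have hGPfin : (genericPoints (Points PS.obj)).Finite := by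
    refine Set.Finite.of_finite_image (f := Points.map snd) ?_ hinjP
    refine (hM'.image (Points.ofScheme V)).subset ?_
    rintro _ ⟨π, hπ, rfl⟩
    obtain ⟨v, hv, hπv⟩ := hgenP π hπ
    exact ⟨v, hv, hπv.symm⟩
  have hPfin : (irreducibleComponents (Points PS.obj)).Finite := by
    refine (hGPfin.image fun π => closure {π}).subset ?_
    intro C hC
    obtain ⟨π, hπ⟩ := QuasiSober.sober hC.1 (isClosed_of_mem_irreducibleComponents C hC)
    have hπC : closure {π} = C := hπ.def
    exact ⟨π, (show closure {π} ∈ irreducibleComponents _ by rw [hπC]; exact hC), hπC⟩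
  refine ⟨hPd, hPfin, hyVfin, ⟨⟨?_, hinjP, ?_⟩, ?_⟩⟩
  · intro π hπ
    obtain ⟨v, hv, hπv⟩ := hgenP π hπ
    rw [hπv]
    exact hgenV v hv
  · intro y hy
    obtain ⟨v, rfl⟩ := ofScheme_surjective V y
    have hvmax : closure {v} ∈ irreducibleComponents ↥V.left :=
      (generic_iff_of_isOpenEmbedding _ heid v).2 hy
    have hv := hVmax v hvmax
    obtain ⟨U, a, g, u, ha, hag, hgu, hiso, huniq⟩ :=
      exists_chart_at_generic f hX hY hYf hf b hb fst snd hP v hv
    have hsndπ : Points.map snd (Points.ofPt a u) = Points.ofScheme V v := by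
      rw [Points.map_ofPt, hag, ofPt_yon_map, hgu]
    obtain ⟨ξ, hξ⟩ := QuasiSober.sober
      (isIrreducible_irreducibleComponent (x := Points.ofPt a u)) isClosed_irreducibleComponent
    have hξg : ξ ∈ genericPoints (Points PS.obj) := by
      show closure {ξ} ∈ irreducibleComponents _
      rw [hξ.def]; exact irreducibleComponent_mem_irreducibleComponents _
    have hξπ : ξ ⤳ Points.ofPt a u := by
      rw [specializes_iff_mem_closure, hξ.def]; exact mem_irreducibleComponent
    obtain ⟨v', hv', hξv'⟩ := hgenP ξ hξg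
    have hsp : Points.ofScheme V v' ⤳ Points.ofScheme V v := by
      rw [← hξv', ← hsndπ]; exact hξπ.map (Points.continuous_map snd)
    have hv'v : v' ⤳ v := by
      rw [← heid.isInducing.specializes_iff]; exact hsp
    have hvv' : v ⤳ v' :=
      (closure_singleton_mem_irreducibleComponents_iff v).mp hvmax _ hv'v
    have hveq : v' = v := (hv'v.antisymm hvv').eq
    rw [hveq] at hξv'
    have hξeq : ξ = Points.ofPt a u := huniq ξ hξv'
    exact ⟨Points.ofPt a u, hξeq ▸ hξg, hsndπ⟩
  · intro π hπ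
    obtain ⟨v, hv, hπv⟩ := hgenP π hπ
    obtain ⟨U, a, g, u, ha, hag, hgu, hiso, huniq⟩ :=
      exists_chart_at_generic f hX hY hYf hf b hb fst snd hP v hv
    exact ⟨U, V, a, 𝟙 _, g, u, ha, hidO, by rw [hag, Category.comp_id],
      (huniq π hπv).symm, hiso⟩

end Groth.Agent.Lib.DecentBirat5H7
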