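import Mathlib
import Groth.Agent.Lib.DecentGeneric_helper7

/-!
# Dimension theory of decent spaces via charts (helper7)
-/

set_option autoImplicit false
set_option linter.style.haveILetI false
universe u
open CategoryTheory CategoryTheory.Limits AlgebraicGeometry Opposite MorphismProperty TopologicalSpace
open AlgSp Order
open Groth.Agent.Lib.AlgSpPoints_helper7 Groth.Agent.Lib.DecentSoberH7
  Groth.Agent.Lib.AlgSpGeneriz_helper6 Groth.Agent.Lib.AlgSpFibre_helper6
  Groth.Agent.Lib.AlgSpT0_helper6 Groth.Agent.Lib.DecentGenericH7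

namespace Groth.Agent.Lib.DecentDimH7

section Top

variable {Y Z : Type*} [TopologicalSpace Y] [TopologicalSpace Z]

/-- The irreducible closed set `closure {y}`. -/
def clIrr (y : Y) : IrreducibleCloseds Y :=
  ⟨closure {y}, isIrreducible_singleton.closure, isClosed_closure⟩

@[simp] theorem coe_clIrr (y : Y) : (clIrr y : Set Y) = closure {y} := rfl

theorem map_clIrr (p : Y → Z) (hpc : Continuous p) (y : Y) (T : IrreducibleCloseds Z)
    (hgen : IsGenericPoint (p y) (T : Set Z)) : IrreducibleCloseds.map p hpc (clIrr y) = T := by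
  apply IrreducibleCloseds.ext
  rw [IrreducibleCloseds.coe_map, coe_clIrr]
  exact ((isGenericPoint_closure (x := y)).image hpc).def.symm.trans hgen.def

/-- L1: for a continuous map out of a quasi-sober space into a T0 space whose fibres have no
nontrivial specializations, the induced map on irreducible closed sets is strictly monotone. -/
theorem strictMono_map [QuasiSober Y] [T0Space Z] (p : Y → Z) (hpc : Continuous p)
    (hfd : ∀ y y' : Y, p y = p y' → y' ⤳ y → y = y') :
    StrictMono (IrreducibleCloseds.map p hpc) := by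
  intro A B hAB
  refine lt_of_le_of_ne (IrreducibleCloseds.map_mono hpc hAB.le) fun heq => hAB.ne ?_
  obtain ⟨z₁, hz₁⟩ := QuasiSober.sober A.isIrreducible A.isClosed
  obtain ⟨z₂, hz₂⟩ := QuasiSober.sober B.isIrreducible B.isClosed
  have h1 : closure {p z₁} = closure {p z₂} := by
    rw [(hz₁.image hpc).def, (hz₂.image hpc).def]
    exact congrArg (fun C : IrreducibleCloseds Z => (C : Set Z)) heq
  have h2 : p z₁ = p z₂ := (inseparable_iff_closure_eq.2 h1).eq
  have h3 : z₂ ⤳ z₁ := by
    rw [specializes_iff_mem_closure, hz₂.def]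
    exact hAB.le hz₁.mem
  have h4 : z₁ = z₂ := hfd z₁ z₂ h2 h3
  apply IrreducibleCloseds.ext
  rw [← hz₁.def, ← hz₂.def, h4]

theorem topologicalKrullDim_le_of_fd [QuasiSober Y] [T0Space Z] (p : Y → Z) (hpc : Continuous p)
    (hfd : ∀ y y' : Y, p y = p y' → y' ⤳ y → y = y') :
    topologicalKrullDim Y ≤ topologicalKrullDim Z :=
  Order.krullDim_le_of_strictMono _ (strictMono_map p hpc hfd)

theorem exists_lift_gt [QuasiSober Z] (p : Y → Z) (hpc : Continuous p)
    (hlift : ∀ (y : Y) (x' : Z), x' ⤳ p y → ∃ y', y' ⤳ y ∧ p y' = x')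
    (T T' : IrreducibleCloseds Z) (y : Y) (hgen : IsGenericPoint (p y) (T : Set Z))
    (hTT' : T < T') :
    ∃ y' : Y, IsGenericPoint (p y') (T' : Set Z) ∧ clIrr y < clIrr y' := by
  obtain ⟨ξ', hξ'⟩ := QuasiSober.sober T'.isIrreducible T'.isClosed
  have h1 : ξ' ⤳ p y := by
    rw [specializes_iff_mem_closure, hξ'.def]
    exact hTT'.le hgen.mem
  obtain ⟨y', hy'y, hy'⟩ := hlift y ξ' h1
  refine ⟨y', by rw [hy']; exact hξ', lt_of_le_of_ne ?_ ?_⟩
  · exact specializes_iff_closure_subset.1 hy'y
  · intro heq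
    have h2 : closure {y'} ⊆ closure {y} :=
      (congrArg (fun C : IrreducibleCloseds Y => (C : Set Y)) heq).ge
    have h3 : y ⤳ y' := specializes_iff_closure_subset.2 h2
    have h4 : p y ⤳ p y' := h3.map hpc
    have h5 : (T' : Set Z) ⊆ T := by
      rw [← hξ'.def, ← hgen.def, ← hy']
      exact specializes_iff_closure_subset.1 h4
    exact absurd hTT' (not_lt_of_ge (show T' ≤ T from h5))

/-- L2: if generizations lift along `p`, codimensions can only drop under `p`. -/
theorem coheight_le_of_lift [QuasiSober Z] (p : Y → Z) (hpc : Continuous p)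
    (hlift : ∀ (y : Y) (x' : Z), x' ⤳ p y → ∃ y', y' ⤳ y ∧ p y' = x') (n : ℕ) :
    ∀ (T : IrreducibleCloseds Z) (y : Y), IsGenericPoint (p y) (T : Set Z) →
      Order.coheight (clIrr y) ≤ (n : ℕ∞) → Order.coheight T ≤ (n : ℕ∞) := by
  induction n with
  | zero =>
    intro T y hgen hle
    rw [Order.coheight_le_coe_iff] at hle ⊢
    intro T' hT'
    obtain ⟨y', hy', hlt⟩ := exists_lift_gt p hpc hlift T T' y hgen hT'
    exact absurd (hle _ hlt) (by simp)
  | succ n ih =>
    intro T y hgen hle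
    rw [Order.coheight_le_coe_iff] at hle ⊢
    intro T' hT'
    obtain ⟨y', hy', hlt⟩ := exists_lift_gt p hpc hlift T T' y hgen hT'
    have h1 := hle _ hlt
    have h2 : Order.coheight (clIrr y') ≤ (n : ℕ∞) := by
      rw [Nat.cast_succ] at h1
      exact ENat.lt_natCast_add_one_iff.1 h1
    exact lt_of_le_of_lt (ih T' y' hy' h2) (by exact_mod_cast Nat.lt_succ_self n)

theorem coheight_le_coheight_of_lift [QuasiSober Z] (p : Y → Z) (hpc : Continuous p)
    (hlift : ∀ (y : Y) (x' : Z), x' ⤳ p y → ∃ y', y' ⤳ y ∧ p y' = x')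
    (T : IrreducibleCloseds Z) (y : Y) (hgen : IsGenericPoint (p y) (T : Set Z)) :
    Order.coheight T ≤ Order.coheight (clIrr y) := by
  by_cases h : Order.coheight (clIrr y) = ⊤
  · rw [h]; exact le_top
  · obtain ⟨n, hn⟩ := ENat.ne_top_iff_exists.1 h
    rw [← hn]
    exact coheight_le_of_lift p hpc hlift n T y hgen hn.ge

theorem topologicalKrullDim_le_of_lift [QuasiSober Z] (p : Y → Z) (hpc : Continuous p)
    (hlift : ∀ (y : Y) (x' : Z), x' ⤳ p y → ∃ y', y' ⤳ y ∧ p y' = x')
    (hsurj : Function.Surjective p) :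
    topologicalKrullDim Z ≤ topologicalKrullDim Y := by
  unfold topologicalKrullDim
  rw [Order.krullDim_eq_iSup_coheight]
  refine iSup_le fun T => ?_
  obtain ⟨ξ, hξ⟩ := QuasiSober.sober T.isIrreducible T.isClosed
  obtain ⟨y, rfl⟩ := hsurj ξ
  calc ((Order.coheight T : ℕ∞) : WithBot ℕ∞) ≤ ((Order.coheight (clIrr y) : ℕ∞) : WithBot ℕ∞) := by
        exact_mod_cast coheight_le_coheight_of_lift p hpc hlift T y hξ
    _ ≤ Order.krullDim (IrreducibleCloseds Y) := Order.coheight_le_krullDim _

theorem coheight_eq_of_generic [QuasiSober Y] [QuasiSober Z] [T0Space Z] (p : Y → Z)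
    (hpc : Continuous p) (hfd : ∀ y y' : Y, p y = p y' → y' ⤳ y → y = y')
    (hlift : ∀ (y : Y) (x' : Z), x' ⤳ p y → ∃ y', y' ⤳ y ∧ p y' = x')
    (T : IrreducibleCloseds Z) (y : Y) (hgen : IsGenericPoint (p y) (T : Set Z)) :
    Order.coheight T = Order.coheight (clIrr y) := by
  refine le_antisymm (coheight_le_coheight_of_lift p hpc hlift T y hgen) ?_
  have := Order.coheight_le_coheight_apply_of_strictMono _ (strictMono_map p hpc hfd) (clIrr y)
  rwa [map_clIrr p hpc y T hgen] at this

theorem coheight_clIrr_eq [QuasiSober Y] [T0Space Y] (x : Y) :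
    Order.coheight (clIrr x) = @Order.coheight Y (specializationPreorder Y) x := by
  letI := specializationOrder Y
  exact Order.coheight_orderIso (irreducibleSetEquivPoints (α := Y)).symm x

end Top

variable {S : Scheme.{u}}

theorem hfd_ofPt (X : AlgSp.Space S) (hX : IsDecent X.obj) {U : Over S}
    (a : (yon S).obj U ⟶ X.obj) (ha : RepWith @Etale a) :
    ∀ y y' : U.left, Points.ofPt a y = Points.ofPt a y' → y' ⤳ y → y = y' :=
  fun y y' he hs => eq_of_specializes_of_isDecent hX a ha y y' he hs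

theorem hlift_ofPt (X : AlgSp.Space S) (hX : IsDecent X.obj) {U : Over S}
    (a : (yon S).obj U ⟶ X.obj) (ha : RepWith @Etale a) :
    ∀ (y : U.left) (x' : Points X.obj), x' ⤳ Points.ofPt a y →
      ∃ y' : U.left, y' ⤳ y ∧ Points.ofPt a y' = x' := by
  intro y x' h
  obtain ⟨r, hr, -, hqc⟩ := hX x'
  exact exists_specializes_lift (Points.ofPt a y) x' h r hr hqc a ha y rfl

theorem main10396 (X : AlgSp.Space S)
    (hX : AlgSp.IsDecent X.obj) (T : TopologicalSpace.IrreducibleCloseds (AlgSp.Points X.obj))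
    (ξ : AlgSp.Points X.obj)
    (hξ : IsGenericPoint ξ (T : Set (AlgSp.Points X.obj))) {U : Over S}
    (a : (AlgSp.yon S).obj U ⟶ X.obj)
    (ha : AlgSp.RepWith @Etale a) (u : ↥U.left) (hu : AlgSp.Points.ofPt a u = ξ) :
    (Order.coheight T : WithBot ℕ∞) = ringKrullDim ↥(U.left.presheaf.stalk u) := by
  haveI := t0Space_points_of_isDecent X.property hX
  haveI := main10339 X hX
  subst hu
  have h1 : Order.coheight T = Order.coheight (clIrr u) :=
    coheight_eq_of_generic (Points.ofPt a) (Points.continuous_ofPt a) (hfd_ofPt X hX a ha)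
      (hlift_ofPt X hX a ha) T u hξ
  have h2 : Order.coheight (clIrr u) = Order.coheight u := coheight_clIrr_eq u
  rw [ringKrullDim_stalk_eq_coheight u, h1, h2]

theorem main10345 (X : AlgSp.Space S) (hX : AlgSp.IsDecent X.obj) :
    topologicalKrullDim (AlgSp.Points X.obj) = AlgSp.dim X.obj := by
  haveI := t0Space_points_of_isDecent X.property hX
  haveI := main10339 X hX
  apply le_antisymm
  · unfold topologicalKrullDim
    rw [Order.krullDim_eq_iSup_coheight]
    refine iSup_le fun T => ?_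
    obtain ⟨ξ, hξ⟩ := QuasiSober.sober T.isIrreducible T.isClosed
    obtain ⟨V, b, v, -, hbe, hbv⟩ :=
      Groth.Agent.Lib.AlgSpQfFinH7.exists_affine_chart X.property ξ
    subst hbv
    calc ((Order.coheight T : ℕ∞) : WithBot ℕ∞)
        ≤ ((Order.coheight (clIrr v) : ℕ∞) : WithBot ℕ∞) := by
          exact_mod_cast coheight_le_coheight_of_lift (Points.ofPt b) (Points.continuous_ofPt b)
            (hlift_ofPt X hX b hbe) T v hξ
      _ ≤ topologicalKrullDim ↥V.left := Order.coheight_le_krullDim _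
      _ ≤ AlgSp.dim X.obj := by
          unfold AlgSp.dim
          exact le_iSup_of_le V (le_iSup_of_le b (le_iSup_of_le hbe le_rfl))
  · unfold AlgSp.dim
    refine iSup_le fun U => iSup_le fun a => iSup_le fun ha => ?_
    exact topologicalKrullDim_le_of_fd (Points.ofPt a) (Points.continuous_ofPt a)
      (hfd_ofPt X hX a ha)

theorem main10346 (X : AlgSp.Space S)
    (hX : AlgSp.IsDecent X.obj) {U : Over S} (a : (AlgSp.yon S).obj U ⟶ X.obj)
    (ha : AlgSp.RepWith @Etale a) (u : ↥U.left) :
    FlatMor.localDim ↥U.left u =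
      FlatMor.localDim (AlgSp.Points X.obj) (AlgSp.Points.ofPt a u) := by
  haveI := t0Space_points_of_isDecent X.property hX
  haveI := main10339 X hX
  have hpc := Points.continuous_ofPt a
  unfold FlatMor.localDim
  apply le_antisymm
  · refine le_iInf fun M => ?_
    obtain ⟨M, hM⟩ := M
    let N : Opens U.left := ⟨Points.ofPt a ⁻¹' (M : Set (Points X.obj)), M.isOpen.preimage hpc⟩
    have hN : u ∈ N := hM
    refine iInf_le_of_le ⟨N, hN⟩ ?_
    haveI : QuasiSober ↥(N : Set ↥U.left) := N.isOpen.isOpenEmbedding_subtypeVal.quasiSober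
    let p' : ↥(N : Set ↥U.left) → ↥(M : Set (Points X.obj)) := fun y => ⟨Points.ofPt a y.1, y.2⟩
    have hp'c : Continuous p' := (hpc.comp continuous_subtype_val).subtype_mk _
    refine topologicalKrullDim_le_of_fd p' hp'c ?_
    intro y y' he hs
    apply Subtype.ext
    exact hfd_ofPt X hX a ha y.1 y'.1 (congrArg Subtype.val he) (hs.map continuous_subtype_val)
  · refine le_iInf fun N => ?_
    obtain ⟨N, hN⟩ := N
    let M : Opens (Points X.obj) :=
      ⟨Points.ofPt a '' (N : Set U.left), isOpenMap_ofPt_of_etale a ha _ N.isOpen⟩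
    have hM : Points.ofPt a u ∈ M := ⟨u, hN, rfl⟩
    refine iInf_le_of_le ⟨M, hM⟩ ?_
    haveI : QuasiSober ↥(M : Set (Points X.obj)) := M.isOpen.isOpenEmbedding_subtypeVal.quasiSober
    let p' : ↥(N : Set ↥U.left) → ↥(M : Set (Points X.obj)) :=
      fun y => ⟨Points.ofPt a y.1, ⟨y.1, y.2, rfl⟩⟩
    have hp'c : Continuous p' := (hpc.comp continuous_subtype_val).subtype_mk _
    refine topologicalKrullDim_le_of_lift p' hp'c ?_ ?_
    · intro y x' h
      have h' : x'.1 ⤳ Points.ofPt a y.1 := h.map continuous_subtype_val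
      obtain ⟨y'', hy'', hy''p⟩ := hlift_ofPt X hX a ha y.1 x'.1 h'
      have hmem : y'' ∈ (N : Set U.left) := hy''.mem_open N.isOpen y.2
      exact ⟨⟨y'', hmem⟩, (subtype_specializes_iff _ _).2 hy'', Subtype.ext hy''p⟩
    · rintro ⟨x, y, hy, rfl⟩
      exact ⟨⟨y, hy⟩, rfl⟩

end Groth.Agent.Lib.DecentDimH7
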