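import Mathlib
import Groth.Agent.Lib.DecentDim_helper7
import Groth.Prelude.Def_W4stk3decentspacesp2Birat

/-!
# Birational morphisms of decent spaces (helper7)
-/

set_option autoImplicit false
set_option linter.style.haveILetI false
universe u
open CategoryTheory CategoryTheory.Limits AlgebraicGeometry Opposite MorphismProperty TopologicalSpace
open AlgSp Order
open Groth.Agent.Lib.AlgSpPoints_helper7 Groth.Agent.Lib.DecentSoberH7

namespace Groth.Agent.Lib.DecentBiratH7

variable {S : Scheme.{u}}

theorem main10439 {X Y : AlgSp.Space S} (f : X ⟶ Y) (hY : AlgSp.IsDecent Y.obj)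
    (hf : W4stk3decentspacesp2.IsBirational f.hom) : AlgSp.IsDominantMor f.hom := by
  haveI := main10339 Y hY
  intro y
  have hT : irreducibleComponent y ∈ irreducibleComponents (Points Y.obj) :=
    irreducibleComponent_mem_irreducibleComponents y
  obtain ⟨η, hη⟩ := QuasiSober.sober (isIrreducible_irreducibleComponent (x := y))
    isClosed_irreducibleComponent
  have hηg : η ∈ genericPoints (Points Y.obj) := by
    show closure {η} ∈ irreducibleComponents _
    rw [hη.def]; exact hT
  obtain ⟨x, -, hx⟩ := hf.bijOn.surjOn hηg
  have hy : y ∈ closure {η} := by rw [hη.def]; exact mem_irreducibleComponent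
  have hsub : ({η} : Set (Points Y.obj)) ⊆ Set.range (Points.map f.hom) :=
    Set.singleton_subset_iff.2 ⟨x, hx⟩
  exact closure_mono hsub hy

end Groth.Agent.Lib.DecentBiratH7
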