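import Mathlib
import Groth.Agent.Lib.DecentSchLocus_helper7
import Groth.Agent.Lib.AlgSpDecentZar_helper6
import Groth.Agent.S10350
import Groth.Agent.Lib.AlgSpT0_helper6
import Groth.Agent.Lib.DecentDim_helper7

/-!
# Zariski locally quasi-separated spaces are decent; consequences (helper7)
-/

set_option autoImplicit false
set_option linter.style.haveILetI false
universe u
open CategoryTheory CategoryTheory.Limits AlgebraicGeometry Opposite MorphismProperty TopologicalSpace
open AlgSp

namespace Groth.Agent.Lib.DecentZarQSH7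

variable {S : Scheme.{u}}

theorem isDecent_of_zarLocQS (X : AlgSp.Space S)
    (hX : ∃ (ι : Type u) (Xi : ι → AlgSp.Space S) (j : ∀ i, Xi i ⟶ X),
        AlgSp.IsZarCover (fun i => (Xi i).obj) (fun i => (j i).hom) ∧
          ∀ i, AlgSp.IsQuasiSeparatedSp (Xi i).obj) : IsDecent X.obj := by
  obtain ⟨ι, Xi, j, ⟨hj, hcov⟩, hqs⟩ := hX
  exact Groth.Agent.Lib.AlgSpDecentZar_helper6.isDecent_of_zarCover (fun i => (Xi i).obj)
    (fun i => (j i).hom) hj hcov (fun i => Groth.Agent.S10350.result (Xi i) (hqs i))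

theorem main10199 (X : AlgSp.Space S)
    (hX : ∃ (ι : Type u) (Xi : ι → AlgSp.Space S) (j : ∀ i, Xi i ⟶ X),
        AlgSp.IsZarCover (fun i => (Xi i).obj) (fun i => (j i).hom) ∧
          ∀ i, AlgSp.IsQuasiSeparatedSp (Xi i).obj) :
    QuasiSober (AlgSp.Points X.obj) ∧ T0Space (AlgSp.Points X.obj) := by
  have hd := isDecent_of_zarLocQS X hX
  exact ⟨Groth.Agent.Lib.DecentSoberH7.main10339 X hd,
    Groth.Agent.Lib.AlgSpT0_helper6.t0Space_points_of_isDecent X.property hd⟩

end Groth.Agent.Lib.DecentZarQSH7
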