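import Mathlib
import Groth.Agent.Lib.DecentSchLocus_helper7
import Groth.Agent.Lib.DecentZarQS_helper7
import Groth.Agent.Lib.ZarQSep_helper7
import Groth.Agent.Lib.DecentGeneric_helper7

/-!
# Codimension zero points lie in the schematic locus (helper7)

The generalised local construction `exists_affine_open_subspace'` is a copy of helper6's
`AlgSpFEtDenseH6.exists_affine_open_subspace` with the "maximal degree" hypothesis replaced by an
explicit saturated open on which the degree is constant.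
-/

set_option autoImplicit false
set_option linter.style.haveILetI false
universe u
open CategoryTheory CategoryTheory.Limits AlgebraicGeometry Opposite TopologicalSpace
open AlgSp
open Groth.Agent.Lib.AlgSpPoints_helper7 Groth.Agent.Lib.DecentNoethQSH7
  Groth.Agent.Lib.SoberTopH7 Groth.Agent.Lib.DegStratH4 Groth.Agent.Lib.AlgSpDegStratH4
  Groth.Agent.Lib.AlgSpEtale_helper7 Groth.Agent.Lib.DecentSoberH7
  Groth.Agent.Lib.AlgSpOpenSub_helper7 Groth.Agent.Lib.AlgSpPullback_helper7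
  Groth.Agent.Lib.AlgSpIso_helper7 Groth.Agent.Lib.AlgSpBasic_helper7
  Groth.Agent.Lib.UBFSchH6 Groth.Agent.Lib.UBFCompH6 Groth.Agent.Lib.UBFCoverH6
  Groth.Agent.Lib.AlgSpFEtDenseH6 Groth.Agent.Lib.AlgSpFEtQuotH6 Groth.Agent.Lib.AlgSpSatNormH6
  Groth.Agent.Lib.DecentSchLocusH7 Groth.Agent.Lib.DecentZarQSH7 Groth.Agent.Lib.ZarQSep_helper7
  Groth.Agent.Lib.DecentGenericH7

namespace Groth.Agent.Lib.DecentSchLocus2H7

section Top

variable {X : Type*} [TopologicalSpace X]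

/-- In a spectral space, a point in the closure of a quasi-compact open set is a specialization
of a point of that set. -/
theorem exists_specializes_of_mem_closure [CompactSpace X] [QuasiSober X] [PrespectralSpace X]
    [QuasiSeparatedSpace X] {E : Set X} (hEo : IsOpen E) (hEc : IsCompact E) {y : X}
    (hy : y ∈ closure E) : ∃ e ∈ E, e ⤳ y := by
  let π : WithConstructibleTopology X → X := WithTopology.ofTopology
  have hπs : Function.Surjective π := WithTopology.ofTopology_surjective _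
  let Sub := {B : Set X // IsOpen B ∧ IsCompact B ∧ y ∈ B}
  haveI : Nonempty Sub := ⟨⟨Set.univ, isOpen_univ, isCompact_univ, trivial⟩⟩
  let t : Sub → Set (WithConstructibleTopology X) := fun B => π ⁻¹' (B.1 ∩ E)
  have htcl : ∀ B, IsClosed (t B) := by
    intro B
    show IsClosed (π ⁻¹' (B.1 ∩ E))
    rw [Set.preimage_inter]
    exact (isClosed_preimage_of_isOpen_isCompact B.2.1 B.2.2.1).inter
      (isClosed_preimage_of_isOpen_isCompact hEo hEc)
  have htd : Directed (· ⊇ ·) t := by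
    intro B₁ B₂
    refine ⟨⟨B₁.1 ∩ B₂.1, B₁.2.1.inter B₂.2.1, ?_, B₁.2.2.2, B₂.2.2.2⟩, ?_, ?_⟩
    · exact QuasiSeparatedSpace.inter_isCompact _ _ B₁.2.1 B₁.2.2.1 B₂.2.1 B₂.2.2.1
    · intro z hz
      exact ⟨hz.1.1, hz.2⟩
    · intro z hz
      exact ⟨hz.1.2, hz.2⟩
  have htn : ∀ B, (t B).Nonempty := by
    intro B
    obtain ⟨z, hzB, hzE⟩ := mem_closure_iff.1 hy B.1 B.2.1 B.2.2.2
    obtain ⟨z', rfl⟩ := hπs z
    exact ⟨z', hzB, hzE⟩
  obtain ⟨e', he'⟩ := IsCompact.nonempty_iInter_of_directed_nonempty_isCompact_isClosed t htd htn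
    (fun B => (htcl B).isCompact) htcl
  rw [Set.mem_iInter] at he'
  refine ⟨π e', (he' ⟨Set.univ, isOpen_univ, isCompact_univ, trivial⟩).2, ?_⟩
  rw [specializes_iff_forall_open]
  intro s hs hys
  obtain ⟨B, hB, hyB, hBs⟩ :=
    PrespectralSpace.isTopologicalBasis.exists_subset_of_mem_open hys hs
  exact hBs (he' ⟨B, hB.1, hB.2, hyB⟩).1

end Top

variable {S : Scheme.{u}}

section Local

variable {X : Sp S} {V : Over S} {w : (yon S).obj V ⟶ X} {n : ℕ}

/-- Generalisation of helper6's local construction: around a point whose orbit lies in an open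
`U₁` of the chart on which the degree is constant, there is an open subspace which is an affine
scheme. -/
theorem exists_affine_open_subspace' (hX : IsAlgSpace X) [IsAffine V.left]
    (hwet : RepWith @Etale w) (H : Hyp w n)
    {Λ : CommRingCat.{u}} (i : Spec Λ ⟶ S) [Mono i] (h₀ : V.left ⟶ Spec Λ) (hh : h₀ ≫ i = V.hom)
    (v₀ : ↥V.left) (m₀ : ℕ) (U₁ : V.left.Opens)
    (hU₁ : ∀ v : ↥V.left, v ∈ U₁ → deg H (Points.ofPt w v) = m₀)
    (hOU₁' : ∀ v : ↥V.left, Points.ofPt w v = Points.ofPt w v₀ → v ∈ U₁) :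
    ∃ W'' : Set (Points X), IsOpen W'' ∧ Points.ofPt w v₀ ∈ W'' ∧
      W'' ⊆ Set.range (Points.ofPt w) ∧
      ∃ M : Over S, IsAffine M.left ∧ Nonempty ((yon S).obj M ≅ openSub X W'') := by
  -- the orbit of `v₀`
  obtain ⟨Pw, τw, πw, sqw⟩ := exists_isPullback_yon H.rep w
  let O : Set ↥V.left := {v | Points.ofPt w v = Points.ofPt w v₀}
  have hOfin : O.Finite := by
    refine ((H.finite_fibre sqw v₀).image τw.left).subset ?_
    intro v hv
    obtain ⟨r, hr1, hr2⟩ := exists_ofPt_eq_of_isPullback sqw v v₀ hv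
    exact ⟨r, hr2, hr1⟩
  have hOU₁ : O ⊆ U₁ := fun v hv => hOU₁' v hv
  obtain ⟨f, hOf, hfU₁⟩ := Groth.Agent.PrimeAvoidCoset.exists_basicOpen_finite
    (isAffineOpen_top V.left) O hOfin (fun _ _ => trivial) U₁ hOU₁
  obtain ⟨Y, hYdef⟩ : ∃ Y : V.left.Opens, Y = V.left.basicOpen f := ⟨_, rfl⟩
  rw [← hYdef] at hOf hfU₁
  have hYaff : IsAffineOpen Y := by rw [hYdef]; exact (isAffineOpen_top V.left).basicOpen f
  let YO : Over S := opOver V Y
  let ιY : YO ⟶ V := opι V Y
  haveI : IsAffine YO.left := hYaff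
  haveI : IsOpenImmersion ιY.left := inferInstanceAs (IsOpenImmersion Y.ι)
  have hιYmem : ∀ y : ↥YO.left, ιY.left y ∈ Y := fun y => y.2
  have hιYsurj : ∀ v : ↥V.left, v ∈ Y → ∃ y : ↥YO.left, ιY.left y = v := fun v hv => ⟨⟨v, hv⟩, rfl⟩
  obtain ⟨wY, hwY⟩ : ∃ wY, wY = (yon S).map ιY ≫ w := ⟨_, rfl⟩
  have hwYpt : ∀ y : ↥YO.left, Points.ofPt wY y = Points.ofPt w (ιY.left y) := by
    intro y
    rw [hwY, ofPt_comp]
  obtain ⟨P, τ, π, sqY⟩ := exists_isPullback_yon H.rep wY
  have hdegY : ∀ y : ↥YO.left, deg H (Points.ofPt wY y) = m₀ := by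
    intro y
    rw [hwYpt]
    exact hU₁ _ (hfU₁ (hιYmem y))
  obtain ⟨⟨hπfin, hπflat, hπfp⟩, -⟩ := isFinLocFree_of_deg_eq H wY τ π sqY m₀ hdegY
  haveI := hπfin
  haveI := hπflat
  haveI := hπfp
  obtain ⟨N, hN⟩ := exists_norm_basicOpen π.left (τ.left.appTop.hom f)
  have hb : ∀ r : ↥P.left, r ∈ P.left.basicOpen (τ.left.appTop.hom f) ↔ τ.left r ∈ Y := by
    intro r
    have h1 : τ.left ⁻¹ᵁ V.left.basicOpen f = P.left.basicOpen (τ.left.appTop.hom f) :=
      Scheme.preimage_basicOpen_top τ.left f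
    rw [← h1, hYdef]
    rfl
  have hGood : ∀ y : ↥YO.left, y ∈ YO.left.basicOpen N ↔
      ∀ r : ↥P.left, π.left r = y → τ.left r ∈ Y := by
    intro y
    rw [hN]
    exact forall_congr' fun r => imp_congr Iff.rfl (hb r)
  have hsqpt : ∀ r : ↥P.left, Points.ofPt w (τ.left r) = Points.ofPt wY (π.left r) :=
    fun r => ofPt_eq_of_isPullback sqY r
  obtain ⟨U', hU'def⟩ : ∃ U' : YO.left.Opens, U' = YO.left.basicOpen N := ⟨_, rfl⟩
  rw [← hU'def] at hGood
  have hU'aff : IsAffineOpen U' := by rw [hU'def]; exact (isAffineOpen_top YO.left).basicOpen N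
  let U'O : Over S := opOver YO U'
  let ιU' : U'O ⟶ V := opι YO U' ≫ ιY
  haveI : IsAffine U'O.left := hU'aff
  haveI : IsOpenImmersion ιU'.left := by
    change IsOpenImmersion (U'.ι ≫ Y.ι)
    infer_instance
  have hrange : ∀ v : ↥V.left, v ∈ Set.range ιU'.left ↔
      ∃ y : ↥YO.left, y ∈ U' ∧ ιY.left y = v := by
    intro v
    constructor
    · rintro ⟨u, rfl⟩
      exact ⟨U'.ι u, u.2, rfl⟩
    · rintro ⟨y, hy, rfl⟩
      exact ⟨⟨y, hy⟩, rfl⟩
  -- saturation
  have hsat : ∀ (v : ↥V.left) (y : ↥YO.left), y ∈ U' → Points.ofPt w v = Points.ofPt wY y →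
      v ∈ Set.range ιU'.left := by
    intro v y hy hvy
    obtain ⟨r, hr1, hr2⟩ := exists_ofPt_eq_of_isPullback sqY v y hvy
    have hvY : v ∈ Y := hr1 ▸ (hGood y).1 hy r hr2
    obtain ⟨v', hv'⟩ := hιYsurj v hvY
    refine (hrange v).2 ⟨v', (hGood v').2 ?_, hv'⟩
    intro r' hr'
    have e1 : Points.ofPt w (τ.left r') = Points.ofPt wY y := by
      rw [hsqpt r', hr', hwYpt, hv', hvy]
    obtain ⟨r'', h1, h2⟩ := exists_ofPt_eq_of_isPullback sqY (τ.left r') y e1
    have h3 := (hGood y).1 hy r'' h2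
    rwa [h1] at h3
  -- `v₀` lies in `U'`
  have hv₀Y : v₀ ∈ Y := hOf (show Points.ofPt w v₀ = Points.ofPt w v₀ from rfl)
  obtain ⟨v₀', hv₀'⟩ := hιYsurj v₀ hv₀Y
  have hv₀U' : v₀' ∈ U' := (hGood v₀').2 (fun r hr => hOf (show Points.ofPt w (τ.left r) =
    Points.ofPt w v₀ by rw [hsqpt r, hr, hwYpt, hv₀']))
  obtain ⟨a', ha'⟩ : ∃ a', a' = (yon S).map ιU' ≫ w := ⟨_, rfl⟩
  have ha'pt : ∀ u : ↥U'O.left, Points.ofPt a' u = Points.ofPt w (ιU'.left u) := by
    intro u
    rw [ha', ofPt_comp]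
  have ha'et : RepWith @Etale a' := by
    rw [ha']
    exact repWith_comp _ ((repWith_yon_map_iff @Etale ιU').2 inferInstance) hwet
  obtain ⟨W'', hW''def⟩ : ∃ W'' : Set (Points X), W'' = Set.range (Points.ofPt a') := ⟨_, rfl⟩
  have hW''open : IsOpen W'' := by
    rw [hW''def, ← Set.image_univ]
    exact isOpenMap_ofPt_of_etale a' ha'et _ isOpen_univ
  have hW''sub : W'' ⊆ Set.range (Points.ofPt w) := by
    rw [hW''def]
    rintro _ ⟨u, rfl⟩
    exact ⟨ιU'.left u, (ha'pt u).symm⟩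
  have hv₀W'' : Points.ofPt w v₀ ∈ W'' := by
    obtain ⟨u₀, hu₀⟩ := (hrange v₀).2 ⟨v₀', hv₀U', hv₀'⟩
    rw [hW''def]
    exact ⟨u₀, by rw [ha'pt, hu₀]⟩
  have hW''deg : ∀ x ∈ W'', deg H x = m₀ := by
    rw [hW''def]
    rintro _ ⟨u, rfl⟩
    rw [ha'pt]
    exact hU₁ _ (hfU₁ (hιYmem (U'.ι u)))
  have hj := repWith_isOpenImmersion_openSubι (X := X) hW''open
  have hjrange := range_map_openSubι hX hW''open
  obtain ⟨a'', ha''j, ha''et, ha''surj⟩ := exists_factor_chart a' ha'et (openSubι X W'') hj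
    (by rw [hjrange, hW''def])
  have ha''s : RepWith @Surjective a'' := ha''surj (by rw [hjrange, hW''def])
  haveI : Epi a'' := epi_of_atlas a'' ha''et ha''s
  haveI : Mono ((yon S).map ιU') := mono_of_openImmersion _
    ((repWith_yon_map_iff @IsOpenImmersion ιU').2 inferInstance)
  have ha''fin : RepWith @IsFinite a'' := by
    haveI hri : (MorphismProperty.inverseImage (@IsFinite.{u}) (Over.forget S)).RespectsIso :=
      AlgSp.inverseImage_forget_respectsIso _
    apply MorphismProperty.relative.of_exists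
    intro T g
    obtain ⟨g', hg'⟩ : ∃ g', g' = g ≫ openSubι X W'' := ⟨_, rfl⟩
    have hg'mem : ∀ t : ↥T.left, Points.ofPt g' t ∈ W'' := by
      intro t
      rw [hg']
      exact ofPt_comp_openSubι_mem g t
    obtain ⟨PT, τT, πT, sqT⟩ := exists_isPullback_yon H.rep g'
    have hdegT : ∀ t : ↥T.left, deg H (Points.ofPt g' t) = m₀ := fun t => hW''deg _ (hg'mem t)
    obtain ⟨⟨hfinT, -, -⟩, -⟩ := isFinLocFree_of_deg_eq H g' τT πT sqT m₀ hdegT
    have hτT : ∀ r : ↥PT.left, τT.left r ∈ Set.range ιU'.left := by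
      intro r
      have h1 : Points.ofPt w (τT.left r) = Points.ofPt g' (πT.left r) :=
        ofPt_eq_of_isPullback sqT r
      have h2 := hg'mem (πT.left r)
      rw [hW''def] at h2
      obtain ⟨u, hu⟩ := h2
      obtain ⟨y, hyU', hy⟩ := (hrange (ιU'.left u)).1 ⟨u, rfl⟩
      refine hsat _ y hyU' ?_
      rw [h1, ← hu, ha'pt, ← hy, hwYpt]
    let τ''₀ : PT.left ⟶ U'O.left := IsOpenImmersion.lift ιU'.left τT.left (by
      rintro _ ⟨r, rfl⟩
      exact hτT r)
    have hτ''₀ : τ''₀ ≫ ιU'.left = τT.left := IsOpenImmersion.lift_fac _ _ _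
    let τ'' : PT ⟶ U'O := Over.homMk τ''₀ (by
      rw [← Over.w ιU', ← Category.assoc, hτ''₀, Over.w τT])
    have hτ'' : τ'' ≫ ιU' = τT := Over.OverMorphism.ext hτ''₀
    have sq' : IsPullback ((yon S).map τ'') ((yon S).map πT) a' g' := by
      rw [ha']
      apply isPullback_of_comp_mono
      rw [← Functor.map_comp, hτ'']
      exact sqT
    refine ⟨PT, (yon S).map τ'', πT, ?_, hfinT⟩
    rw [← ha''j, hg'] at sq'
    exact (isPullback_comp_mono_iff (openSubι X W'')).1 sq'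
  obtain ⟨M, q, e, hM, -, -, -⟩ := exists_affine_quotient a'' ha''fin ha''et i (ιU'.left ≫ h₀)
    (by rw [Category.assoc, hh, Over.w ιU'])
  exact ⟨W'', hW''open, hv₀W'', hW''sub, M, hM, ⟨e⟩⟩


end Local

/-- A locally quasi-finite, finitely presented morphism from a quasi-compact scheme to an affine
scheme has universally bounded fibres. -/
theorem hasUnivBddFibres_yon_of_compact {Y Z : Over S} (g : Z ⟶ Y) [IsAffine Y.left]
    [CompactSpace ↥Z.left] [LocallyQuasiFinite g.left] [LocallyOfFinitePresentation g.left] :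
    W4dec.HasUnivBddFibres ((yon S).map g) := by
  obtain ⟨σ, hσfin, hσ⟩ := isCompact_and_isOpen_iff_finite_and_eq_biUnion_affineOpens.mp
    ⟨isCompact_univ (X := ↥Z.left), isOpen_univ⟩
  haveI : Fintype σ := hσfin.fintype
  refine hasUnivBddFibres_of_openCover ((yon S).map g) (fun k : σ => (k.1 : Z.left.Opens))
    (fun x => ?_) (fun k => ?_)
  · have hx : x ∈ (Set.univ : Set ↥Z.left) := trivial
    rw [hσ] at hx
    obtain ⟨i, hi, hxi⟩ := Set.mem_iUnion₂.1 hx
    exact ⟨⟨i, hi⟩, hxi⟩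
  · haveI : IsAffine (opOver Z (k.1 : Z.left.Opens)).left := k.1.2
    rw [← Functor.map_comp]
    haveI : LocallyQuasiFinite (opι Z (k.1 : Z.left.Opens) ≫ g).left := by
      change LocallyQuasiFinite ((k.1 : Z.left.Opens).ι ≫ g.left)
      infer_instance
    haveI : LocallyOfFinitePresentation (opι Z (k.1 : Z.left.Opens) ≫ g).left := by
      change LocallyOfFinitePresentation ((k.1 : Z.left.Opens).ι ≫ g.left)
      infer_instance
    exact hasUnivBddFibres_of_affine_lqf (opι Z (k.1 : Z.left.Opens) ≫ g)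

/-- **Theorem C**: for an affine étale chart with quasi-compact kernel pair, every maximal point
of the chart maps into an open subspace which is an affine scheme. -/
theorem exists_affine_open_of_isMax {X : Sp S} (hX : IsAlgSpace X) {V R : Over S}
    [IsAffine V.left] (w : (yon S).obj V ⟶ X) (hwe : RepWith @Etale w) {s t : R ⟶ V}
    (sq : IsPullback ((yon S).map s) ((yon S).map t) w w) (hqc : QuasiCompact t.left)
    {Λ : CommRingCat.{u}} (i : Spec Λ ⟶ S) [Mono i] (h₀ : V.left ⟶ Spec Λ)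
    (hh : h₀ ≫ i = V.hom) (v₀ : ↥V.left) (hv₀ : IsMax v₀) :
    ∃ W'' : Set (Points X), IsOpen W'' ∧ Points.ofPt w v₀ ∈ W'' ∧
      W'' ⊆ Set.range (Points.ofPt w) ∧
      ∃ M : Over S, IsAffine M.left ∧ Nonempty ((yon S).obj M ≅ openSub X W'') := by
  classical
  haveI := hqc
  haveI hte : Etale t.left := hwe.property w ((yon S).map s) t sq
  haveI : LocallyQuasiFinite t.left := locallyQuasiFinite_of_unramified t.left
  haveI : IsSeparated t.left := isSeparated_snd sq
  haveI : CompactSpace ↥R.left := QuasiCompact.compactSpace_of_compactSpace t.left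
  have hub : W4dec.HasUnivBddFibres ((yon S).map t) := hasUnivBddFibres_yon_of_compact t
  obtain ⟨n, hn⟩ : W4dec.HasUnivBddFibres w :=
    Groth.Agent.S10426.result (X := ⟨X, hX⟩) (Y := ⟨(yon S).obj V, IsAlgSpace.yon_obj V⟩)
      (ObjectProperty.homMk w) (hX.representable_from_yon w) w
      ((yon S).map s) ((yon S).map t) sq (range_map_yon V w).ge hub
  have H : Hyp w n := ⟨hX.representable_from_yon w,
    repWith_mono (fun _ _ g (hg : Etale g) => (inferInstance : Flat g)) hwe,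
    repWith_mono (fun _ _ g (hg : Etale g) =>
      (inferInstance : LocallyOfFinitePresentation g)) hwe,
    repWith_isSeparated_of_affine hX w,
    repWith_mono (fun _ _ g (hg : Etale g) => locallyQuasiFinite_of_unramified g) hwe, hn⟩
  have hDdeg : ∀ v : ↥V.left, deg H (Points.ofPt w v) = degFun t.left v :=
    fun v => H.dq_ofPt sq v
  have hfin : ∀ u : V.left, (t.left ⁻¹' {u}).Finite := fun u => H.finite_fibre sq u
  have hO : ∀ r : ℕ, IsOpen {u : V.left | r ≤ degFun t.left u} :=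
    fun r => isOpen_le_degFun hfin r
  obtain ⟨m₀, hm₀⟩ : ∃ m₀, m₀ = degFun t.left v₀ := ⟨_, rfl⟩
  have hDle : ∀ v : ↥V.left, degFun t.left v ≤ n := fun v => by
    rw [← hDdeg v]; exact deg_le H _
  have hlevel : ∀ r : ℕ, IsCompact {v : ↥V.left | degFun t.left v = r} := by
    intro r
    have h := isCompact_level_inter_affine t.left ⊤ (isAffineOpen_top V.left) (r : ℤ)
    convert h using 1
    ext v
    constructor
    · intro hv
      refine ⟨?_, trivial⟩
      show MoreMor.fibreIntegral t.left _ v = (r : ℤ)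
      rw [← degFun_cast t.left v]
      exact congrArg _ hv
    · rintro ⟨hv, -⟩
      have hv' : MoreMor.fibreIntegral t.left _ v = (r : ℤ) := hv
      rw [← degFun_cast t.left v] at hv'
      exact Nat.cast_injective hv'
  let E : Set ↥V.left := {v | m₀ + 1 ≤ degFun t.left v}
  have hEo : IsOpen E := hO (m₀ + 1)
  have hEc : IsCompact E := by
    have hEeq : E = ⋃ r ∈ Finset.Icc (m₀ + 1) n, {v : ↥V.left | degFun t.left v = r} := by
      ext v
      constructor
      · intro hv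
        exact Set.mem_iUnion₂.2 ⟨degFun t.left v, Finset.mem_Icc.2 ⟨hv, hDle v⟩, rfl⟩
      · intro hv
        obtain ⟨r, hr, hvr⟩ := Set.mem_iUnion₂.1 hv
        have hvr' : degFun t.left v = r := hvr
        show m₀ + 1 ≤ degFun t.left v
        rw [hvr']
        exact (Finset.mem_Icc.1 hr).1
    rw [hEeq]
    exact (Finset.Icc (m₀ + 1) n).isCompact_biUnion (fun r _ => hlevel r)
  have hv₀E : v₀ ∉ closure E := by
    intro hcl
    obtain ⟨e, heE, hev₀⟩ := exists_specializes_of_mem_closure hEo hEc hcl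
    have h1 : v₀ ⤳ e := hv₀ (show v₀ ≤ e from hev₀)
    have h2 : v₀ ∈ E := h1.mem_open hEo heE
    have h3 : m₀ + 1 ≤ degFun t.left v₀ := h2
    omega
  let G : Set (Points X) := {x | m₀ + 1 ≤ deg H x}
  have hEG : E = Points.ofPt w ⁻¹' G := by
    ext v
    show m₀ + 1 ≤ degFun t.left v ↔ m₀ + 1 ≤ deg H (Points.ofPt w v)
    rw [hDdeg v]
  have hclE : closure E = Points.ofPt w ⁻¹' closure G := by
    rw [hEG]
    exact ((isOpenMap_ofPt_of_etale w hwe).preimage_closure_eq_closure_preimage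
      (Points.continuous_ofPt w) G).symm
  let U₁ : V.left.Opens := ⟨{v | m₀ ≤ degFun t.left v} ∩ (closure E)ᶜ,
    (hO m₀).inter isClosed_closure.isOpen_compl⟩
  have hU₁ : ∀ v : ↥V.left, v ∈ U₁ → deg H (Points.ofPt w v) = m₀ := by
    intro v hv
    have hv' : v ∈ {v | m₀ ≤ degFun t.left v} ∩ (closure E)ᶜ := hv
    have h1 : m₀ ≤ degFun t.left v := hv'.1
    have h2 : ¬ (m₀ + 1 ≤ degFun t.left v) := fun h => hv'.2 (subset_closure h)
    rw [hDdeg v]
    omega
  have hOU₁' : ∀ v : ↥V.left, Points.ofPt w v = Points.ofPt w v₀ → v ∈ U₁ := by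
    intro v hv
    have h1 : degFun t.left v = m₀ := by rw [← hDdeg v, hv, hDdeg v₀, hm₀]
    refine show v ∈ {v | m₀ ≤ degFun t.left v} ∩ (closure E)ᶜ from ⟨h1.ge, ?_⟩
    intro hcl
    apply hv₀E
    rw [hclE] at hcl ⊢
    show Points.ofPt w v₀ ∈ closure G
    rw [← hv]
    exact hcl
  exact exists_affine_open_subspace' hX hwe H i h₀ hh v₀ m₀ U₁ hU₁ hOU₁'

theorem isMax_of_isMax_opι {T' : Over S} (V : T'.left.Opens) (t' : ↥T'.left) (ht'V : t' ∈ V)
    (ht' : IsMax t') (v₀ : ↥(opOver T' V).left) (hv₀ : (opι T' V).left v₀ = t') : IsMax v₀ := by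
  intro y hy
  have hy' : y ⤳ v₀ := hy
  have h1 : (opι T' V).left y ⤳ (opι T' V).left v₀ := hy'.map (opι T' V).left.continuous
  rw [hv₀] at h1
  have h2 : t' ⤳ (opι T' V).left y := ht' (show t' ≤ (opι T' V).left y from h1)
  rw [← hv₀] at h2
  haveI : IsOpenImmersion (opι T' V).left := inferInstanceAs (IsOpenImmersion V.ι)
  exact ((opι T' V).left.isOpenEmbedding.isInducing.specializes_iff).1 h2

/-- Codimension zero points of a quasi-separated space lie in an open subscheme. -/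
theorem exists_openImmersion_of_isMax_qs {X : Sp S} (hX : IsAlgSpace X)
    (hqs : IsQuasiSeparatedSp X) {T' : Over S} (c' : (yon S).obj T' ⟶ X)
    (hc'e : RepWith @Etale c') (t' : ↥T'.left) (ht' : IsMax t') :
    ∃ (M : Over S) (b : (yon S).obj M ⟶ X), RepWith @IsOpenImmersion b ∧
      Points.ofPt c' t' ∈ Set.range (Points.ofPt b) := by
  obtain ⟨Ws, hWs, hsWs, -⟩ := exists_isAffineOpen_mem_and_subset
    (x := T'.hom t') (U := (⊤ : S.Opens)) trivial
  have ht'N : t' ∈ T'.hom ⁻¹ᵁ Ws := hsWs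
  obtain ⟨V, hV, ht'V, hVsub⟩ := exists_isAffineOpen_mem_and_subset ht'N
  have hVle : V ≤ T'.hom ⁻¹ᵁ Ws := fun x hx => hVsub hx
  let VO : Over S := opOver T' V
  let ι : VO ⟶ T' := opι T' V
  haveI : IsAffine VO.left := hV
  haveI : IsOpenImmersion ι.left := inferInstanceAs (IsOpenImmersion V.ι)
  obtain ⟨w, hw⟩ : ∃ w, w = (yon S).map ι ≫ c' := ⟨_, rfl⟩
  have hwe : RepWith @Etale w := by
    rw [hw]
    exact repWith_comp _ ((repWith_yon_map_iff @Etale ι).2 inferInstance) hc'e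
  have hrange : Set.range (V.ι ≫ T'.hom) ⊆ Set.range hWs.fromSpec := by
    rw [hWs.range_fromSpec]
    rintro _ ⟨v, rfl⟩
    exact hVsub v.2
  let h₀ : (V : Scheme.{u}) ⟶ Spec Γ(S, Ws) :=
    IsOpenImmersion.lift hWs.fromSpec (V.ι ≫ T'.hom) hrange
  have hh : h₀ ≫ hWs.fromSpec = V.ι ≫ T'.hom := IsOpenImmersion.lift_fac _ _ _
  let v₀ : ↥VO.left := ⟨t', ht'V⟩
  have hv₀ : IsMax v₀ := isMax_of_isMax_opι V t' ht'V ht' v₀ rfl
  obtain ⟨R, s, t, sq⟩ := exists_isPullback_yon (hX.representable_from_yon w) w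
  obtain ⟨Y', j', a', hj', -, ha'j, ha'e, ha's⟩ := exists_sub_chart ⟨X, hX⟩ w hwe
  haveI : Mono j'.hom := mono_of_openImmersion j'.hom hj'
  have hUV : Set.range VO.hom ⊆ (Ws : Set S) := range_subset_of_le V Ws hVle
  have hqcw := repWith_quasiCompact_of_quasiSeparated hqs j'.hom Ws hWs hUV a' ha'e ha's
  have sq' : IsPullback ((yon S).map s) ((yon S).map t) a' a' := by
    apply (isPullback_comp_mono_iff j'.hom).1
    rw [ha'j]
    exact sq
  have hqc : QuasiCompact t.left := hqcw.property a' ((yon S).map s) t sq'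
  obtain ⟨W'', hW''o, hxW'', -, M, -, ⟨e⟩⟩ :=
    exists_affine_open_of_isMax hX w hwe sq hqc hWs.fromSpec h₀ hh v₀ hv₀
  refine ⟨M, e.hom ≫ openSubι X W'', ?_, ?_⟩
  · exact (MorphismProperty.cancel_left_of_respectsIso (RepWith @IsOpenImmersion) e.hom
      (openSubι X W'')).2 (repWith_isOpenImmersion_openSubι hW''o)
  · rw [← range_map_yon]
    have hx : Points.ofPt c' t' = Points.ofPt w v₀ := by
      rw [hw, ofPt_comp]
      rfl
    rw [hx]
    obtain ⟨z, hz⟩ := (range_map_openSubι hX hW''o).ge hxW''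
    exact ⟨Points.map e.inv z, by
      rw [← Points.map_comp, ← Category.assoc, e.inv_hom_id, Category.id_comp, hz]⟩

/-- Codimension zero points of a Zariski locally quasi-separated space lie in an open
subscheme. -/
theorem exists_openImmersion_of_isMax_zarLocQS (X : AlgSp.Space S)
    (hX : ∃ (ι : Type u) (Xi : ι → AlgSp.Space S) (j : ∀ i, Xi i ⟶ X),
        AlgSp.IsZarCover (fun i => (Xi i).obj) (fun i => (j i).hom) ∧
          ∀ i, AlgSp.IsQuasiSeparatedSp (Xi i).obj)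
    {T' : Over S} (c' : (yon S).obj T' ⟶ X.obj) (hc'e : RepWith @Etale c') (t' : ↥T'.left)
    (ht' : IsMax t') :
    ∃ (M : Over S) (b : (yon S).obj M ⟶ X.obj), RepWith @IsOpenImmersion b ∧
      Points.ofPt c' t' ∈ Set.range (Points.ofPt b) := by
  obtain ⟨ι, Xi, j, ⟨hj, hcov⟩, hqs⟩ := hX
  obtain ⟨i, hi⟩ := hcov (Points.ofPt c' t')
  have hWi : IsOpen (Set.range (Points.map (j i).hom)) :=
    Groth.Agent.Lib.AlgSpGlue4H7.isOpen_range_map_of_openImmersion _ (hj i)
  let N' : T'.left.Opens := ⟨Points.ofPt c' ⁻¹' Set.range (Points.map (j i).hom),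
    Points.isOpen_iff.1 hWi T' c'⟩
  let TO : Over S := opOver T' N'
  let κ : TO ⟶ T' := opι T' N'
  haveI : IsOpenImmersion κ.left := inferInstanceAs (IsOpenImmersion N'.ι)
  obtain ⟨c₀, hc₀⟩ : ∃ c₀, c₀ = (yon S).map κ ≫ c' := ⟨_, rfl⟩
  have hc₀e : RepWith @Etale c₀ := by
    rw [hc₀]
    exact repWith_comp _ ((repWith_yon_map_iff @Etale κ).2 inferInstance) hc'e
  have himage : Set.range (Points.ofPt c₀) ⊆ Set.range (Points.map (j i).hom) := by
    rintro _ ⟨z, rfl⟩
    rw [hc₀, ofPt_comp]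
    exact z.2
  obtain ⟨c₁, hc₁j, hc₁e, -⟩ := exists_factor_chart c₀ hc₀e (j i).hom (hj i) himage
  let z₀ : ↥TO.left := ⟨t', hi⟩
  have hz₀ : IsMax z₀ := isMax_of_isMax_opι N' t' hi ht' z₀ rfl
  obtain ⟨M, b, hb, m, hm⟩ :=
    exists_openImmersion_of_isMax_qs (Xi i).property (hqs i) c₁ hc₁e z₀ hz₀
  refine ⟨M, b ≫ (j i).hom, repWith_comp _ hb (hj i), m, ?_⟩
  show Points.map (j i).hom (Points.ofPt b m) = _
  rw [hm]
  show Points.ofPt (c₁ ≫ (j i).hom) z₀ = _
  rw [hc₁j, hc₀, ofPt_comp]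
  rfl

theorem main10453 (X : AlgSp.Space S) (hqs : AlgSp.IsQuasiSeparatedSp X.obj)
    (x : AlgSp.Points X.obj)
    (hx : AlgSp.HasAt (fun U u => ringKrullDim ↥(U.presheaf.stalk u) = 0) X.obj x) :
    ∃ (X' : AlgSp.Space S) (j : X' ⟶ X), AlgSp.RepWith @IsOpenImmersion j.hom ∧
      X'.obj.obj.IsRepresentable ∧ x ∈ Set.range (AlgSp.Points.map j.hom) := by
  obtain ⟨T', c', t', hc'e, hc't', hdim⟩ := hx
  have ht' : IsMax t' := (isMax_iff_stalk_dim_zero t').2 hdim
  obtain ⟨M, b, hb, hmem⟩ := exists_openImmersion_of_isMax_qs X.property hqs c' hc'e t' ht'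
  refine ⟨⟨(yon S).obj M, IsAlgSpace.yon_obj M⟩, ObjectProperty.homMk b, hb, ?_, ?_⟩
  · exact ⟨⟨M, ⟨AlgSp.representableByOfIso (Iso.refl _)⟩⟩⟩
  · rw [← hc't']
    show _ ∈ Set.range (Points.map b)
    rw [range_map_yon]
    exact hmem

theorem main10200 (X : AlgSp.Space S)
    (hX : ∃ (ι : Type u) (Xi : ι → AlgSp.Space S) (j : ∀ i, Xi i ⟶ X),
        AlgSp.IsZarCover (fun i => (Xi i).obj) (fun i => (j i).hom) ∧
          ∀ i, AlgSp.IsQuasiSeparatedSp (Xi i).obj) :
    ∃ (X' : AlgSp.Space S) (j : X' ⟶ X), AlgSp.RepWith @IsOpenImmersion j.hom ∧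
      X'.obj.obj.IsRepresentable ∧ Dense (Set.range (AlgSp.Points.map j.hom)) ∧
      ∀ x : AlgSp.Points X.obj,
        AlgSp.HasAt (fun U u => ringKrullDim ↥(U.presheaf.stalk u) = 0) X.obj x →
          x ∈ Set.range (AlgSp.Points.map j.hom) := by
  have hXa := X.property
  have hd := isDecent_of_zarLocQS X hX
  obtain ⟨U, a, he, hs⟩ := hXa.atlas
  let I : Type u := {u : U.left // ∃ (M : Over S) (b : (yon S).obj M ⟶ X.obj),
    RepWith @IsOpenImmersion b ∧ Points.ofPt a u ∈ Set.range (Points.ofPt b)}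
  have hI : ∀ k : I, ∃ (M : Over S) (b : (yon S).obj M ⟶ X.obj),
    RepWith @IsOpenImmersion b ∧ Points.ofPt a k.1 ∈ Set.range (Points.ofPt b) := fun k => k.2
  choose M b hb hmem using hI
  let 𝒲 : Set (Points X.obj) := ⋃ k, Set.range (Points.ofPt (b k))
  have hbo : ∀ k, IsOpen (Set.range (Points.ofPt (b k))) := fun k => by
    rw [← range_map_yon]
    exact Groth.Agent.Lib.AlgSpGlue4H7.isOpen_range_map_of_openImmersion _ (hb k)
  have h𝒲open : IsOpen 𝒲 := isOpen_iUnion hbo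
  haveI : Mono (openSubι X.obj 𝒲) := mono_openSubι X.obj 𝒲
  have h𝒲range := range_map_openSubι hXa h𝒲open
  have hkey : ∀ (M' : Over S) (b' : (yon S).obj M' ⟶ X.obj), RepWith @IsOpenImmersion b' →
      Set.range (Points.ofPt b') ⊆ 𝒲 := by
    intro M' b' hb' y hy
    obtain ⟨u, rfl⟩ := ofPt_surjective a hs y
    exact Set.mem_iUnion.2 ⟨⟨u, M', b', hb', hy⟩, hmem ⟨u, M', b', hb', hy⟩⟩
  refine ⟨⟨openSub X.obj 𝒲, isAlgSpace_openSub hXa h𝒲open⟩,
    ObjectProperty.homMk (openSubι X.obj 𝒲), repWith_isOpenImmersion_openSubι h𝒲open,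
    ?_, ?_, ?_⟩
  · have hlift : ∀ k, ∃ f : (yon S).obj (M k) ⟶ openSub X.obj 𝒲,
        f ≫ openSubι X.obj 𝒲 = b k := by
      intro k
      exact exists_lift_openSub _ (fun t => Set.mem_iUnion.2 ⟨k, t, rfl⟩)
    choose f hf' using hlift
    have hfo : ∀ k, RepWith @IsOpenImmersion (f k) := by
      intro k
      apply repWith_of_comp_mono @IsOpenImmersion (f k) (openSubι X.obj 𝒲)
      rw [hf' k]
      exact hb k
    obtain ⟨Y', e', -, -, -, -⟩ := Groth.Agent.Lib.AlgSpGlue4H7.exists_iso_of_openCover_points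
      f hfo (fun x => by
        have hx : Points.map (openSubι X.obj 𝒲) x ∈ 𝒲 := h𝒲range.subset ⟨x, rfl⟩
        obtain ⟨k, hk⟩ := Set.mem_iUnion.1 hx
        rw [← range_map_yon] at hk
        obtain ⟨y, hy⟩ := hk
        refine ⟨k, y, ?_⟩
        apply map_injective_of_mono (openSubι X.obj 𝒲)
        rw [← Points.map_comp, hf' k, hy])
    exact ⟨⟨Y', ⟨AlgSp.representableByOfIso e'⟩⟩⟩
  · obtain ⟨X₁, j₁, hj₁, hrep₁, hdense₁⟩ := main10337 X hd
    change Dense (Set.range (Points.map (openSubι X.obj 𝒲)))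
    rw [h𝒲range]
    obtain ⟨Y₁, ⟨r₁⟩⟩ := hrep₁.has_representation
    let e₁ : (yon S).obj Y₁ ≅ X₁.obj := isoOfRepresentableBy r₁
    have hsub : Set.range (Points.map j₁.hom) ⊆ 𝒲 := by
      have h1 := hkey Y₁ (e₁.hom ≫ j₁.hom)
        ((MorphismProperty.cancel_left_of_respectsIso (RepWith @IsOpenImmersion) e₁.hom
          j₁.hom).2 hj₁)
      rw [← range_map_yon] at h1
      rintro _ ⟨z, rfl⟩
      apply h1
      exact ⟨Points.map e₁.inv z, by
        rw [← Points.map_comp, ← Category.assoc, e₁.inv_hom_id, Category.id_comp]⟩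
    exact hdense₁.mono hsub
  · intro x hx
    obtain ⟨T', c', t', hc'e, hc't', hdim⟩ := hx
    have ht' : IsMax t' := (isMax_iff_stalk_dim_zero t').2 hdim
    obtain ⟨M', b', hb', hmem'⟩ := exists_openImmersion_of_isMax_zarLocQS X hX c' hc'e t' ht'
    change x ∈ Set.range (Points.map (openSubι X.obj 𝒲))
    rw [h𝒲range, ← hc't']
    exact hkey M' b' hb' hmem'

end Groth.Agent.Lib.DecentSchLocus2H7
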