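import Mathlib
import Groth.Agent.Lib.DecentSchLocus2_helper7
import Groth.Agent.Lib.ResTrdeg2_helper8

/-!
# The schematic locus of a space with a finite étale chart (helper7)
-/

set_option autoImplicit false
set_option linter.style.haveILetI false
universe u
open CategoryTheory CategoryTheory.Limits AlgebraicGeometry Opposite TopologicalSpace
open AlgSp
open Groth.Agent.Lib.AlgSpPoints_helper7
  Groth.Agent.Lib.AlgSpEtale_helper7 Groth.Agent.Lib.DecentSoberH7
  Groth.Agent.Lib.AlgSpOpenSub_helper7 Groth.Agent.Lib.AlgSpPullback_helper7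
  Groth.Agent.Lib.AlgSpIso_helper7 Groth.Agent.Lib.AlgSpBasic_helper7
  Groth.Agent.Lib.UBFSchH6 Groth.Agent.Lib.UBFCompH6 Groth.Agent.Lib.UBFCoverH6
  Groth.Agent.Lib.AlgSpFEtDenseH6
  Groth.Agent.Lib.DecentSchLocusH7 Groth.Agent.Lib.DecentSchLocus2H7
  Groth.Agent.Lib.DecentGenericH7

namespace Groth.Agent.Lib.DecentSchLocus3H7

variable {S : Scheme.{u}}

theorem exists_openImmersion_of_openSub {X : Sp S} (hX : IsAlgSpace X) {W'' : Set (Points X)}
    (hW''o : IsOpen W'') {x : Points X} (hx : x ∈ W'') {M : Over S}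
    (e : (yon S).obj M ≅ openSub X W'') :
    ∃ b : (yon S).obj M ⟶ X, RepWith @IsOpenImmersion b ∧ x ∈ Set.range (Points.ofPt b) := by
  refine ⟨e.hom ≫ openSubι X W'', ?_, ?_⟩
  · exact (MorphismProperty.cancel_left_of_respectsIso (RepWith @IsOpenImmersion) e.hom
      (openSubι X W'')).2 (repWith_isOpenImmersion_openSubι hW''o)
  · rw [← range_map_yon]
    obtain ⟨z, hz⟩ := (range_map_openSubι hX hW''o).ge hx
    exact ⟨Points.map e.inv z, by
      rw [← Points.map_comp, ← Category.assoc, e.inv_hom_id, Category.id_comp, hz]⟩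

/-- Assembling the schematic locus from a dense open subscheme and open subschemes around the
codimension zero points. -/
theorem exists_schematic_locus (X : AlgSp.Space S)
    (hdense : ∃ (X₁ : AlgSp.Space S) (j₁ : X₁ ⟶ X), RepWith @IsOpenImmersion j₁.hom ∧
      X₁.obj.obj.IsRepresentable ∧ Dense (Set.range (Points.map j₁.hom)))
    (hcodim : ∀ {T' : Over S} (c' : (yon S).obj T' ⟶ X.obj), RepWith @Etale c' →
      ∀ t' : ↥T'.left, IsMax t' → ∃ (M : Over S) (b : (yon S).obj M ⟶ X.obj),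
        RepWith @IsOpenImmersion b ∧ Points.ofPt c' t' ∈ Set.range (Points.ofPt b)) :
    ∃ (X' : AlgSp.Space S) (j : X' ⟶ X), AlgSp.RepWith @IsOpenImmersion j.hom ∧
      X'.obj.obj.IsRepresentable ∧ Dense (Set.range (AlgSp.Points.map j.hom)) ∧
      ∀ x : AlgSp.Points X.obj,
        AlgSp.HasAt (fun U u => ringKrullDim ↥(U.presheaf.stalk u) = 0) X.obj x →
          x ∈ Set.range (AlgSp.Points.map j.hom) := by
  have hXa := X.property
  obtain ⟨U, a, he, hs⟩ := hXa.atlas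
  let I : Type u := {u : U.left // ∃ (M : Over S) (b : (yon S).obj M ⟶ X.obj),
    RepWith @IsOpenImmersion b ∧ Points.ofPt a u ∈ Set.range (Points.ofPt b)}
  have hI : ∀ k : I, ∃ (M : Over S) (b : (yon S).obj M ⟶ X.obj),
    RepWith @IsOpenImmersion b ∧ Points.ofPt a k.1 ∈ Set.range (Points.ofPt b) := fun k => k.2
  choose M b hb hmem using hI
  let 𝒲 : Set (Points X.obj) := ⋃ k, Set.range (Points.ofPt (b k))
  have hbo : ∀ k, IsOpen (Set.range (Points.ofPt (b k))) := fun k => by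
    rw [← range_map_yon]
    exact Groth.Agent.Lib.AlgSpGlue4H7.isOpen_range_map_of_openImmersion _ (hb k)
  have h𝒲open : IsOpen 𝒲 := isOpen_iUnion hbo
  haveI : Mono (openSubι X.obj 𝒲) := mono_openSubι X.obj 𝒲
  have h𝒲range := range_map_openSubι hXa h𝒲open
  have hkey : ∀ (M' : Over S) (b' : (yon S).obj M' ⟶ X.obj), RepWith @IsOpenImmersion b' →
      Set.range (Points.ofPt b') ⊆ 𝒲 := by
    intro M' b' hb' y hy
    obtain ⟨u, rfl⟩ := ofPt_surjective a hs y
    exact Set.mem_iUnion.2 ⟨⟨u, M', b', hb', hy⟩, hmem ⟨u, M', b', hb', hy⟩⟩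
  refine ⟨⟨openSub X.obj 𝒲, isAlgSpace_openSub hXa h𝒲open⟩,
    ObjectProperty.homMk (openSubι X.obj 𝒲), repWith_isOpenImmersion_openSubι h𝒲open,
    ?_, ?_, ?_⟩
  · have hlift : ∀ k, ∃ f : (yon S).obj (M k) ⟶ openSub X.obj 𝒲,
        f ≫ openSubι X.obj 𝒲 = b k := by
      intro k
      exact exists_lift_openSub _ (fun t => Set.mem_iUnion.2 ⟨k, t, rfl⟩)
    choose f hf' using hlift
    have hfo : ∀ k, RepWith @IsOpenImmersion (f k) := by
      intro k
      apply repWith_of_comp_mono @IsOpenImmersion (f k) (openSubι X.obj 𝒲)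
      rw [hf' k]
      exact hb k
    obtain ⟨Y', e', -, -, -, -⟩ := Groth.Agent.Lib.AlgSpGlue4H7.exists_iso_of_openCover_points
      f hfo (fun x => by
        have hx : Points.map (openSubι X.obj 𝒲) x ∈ 𝒲 := h𝒲range.subset ⟨x, rfl⟩
        obtain ⟨k, hk⟩ := Set.mem_iUnion.1 hx
        rw [← range_map_yon] at hk
        obtain ⟨y, hy⟩ := hk
        refine ⟨k, y, ?_⟩
        apply map_injective_of_mono (openSubι X.obj 𝒲)
        rw [← Points.map_comp, hf' k, hy])
    exact ⟨⟨Y', ⟨AlgSp.representableByOfIso e'⟩⟩⟩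
  · obtain ⟨X₁, j₁, hj₁, hrep₁, hdense₁⟩ := hdense
    change Dense (Set.range (Points.map (openSubι X.obj 𝒲)))
    rw [h𝒲range]
    obtain ⟨Y₁, ⟨r₁⟩⟩ := hrep₁.has_representation
    let e₁ : (yon S).obj Y₁ ≅ X₁.obj := isoOfRepresentableBy r₁
    have hsub : Set.range (Points.map j₁.hom) ⊆ 𝒲 := by
      have h1 := hkey Y₁ (e₁.hom ≫ j₁.hom)
        ((MorphismProperty.cancel_left_of_respectsIso (RepWith @IsOpenImmersion) e₁.hom
          j₁.hom).2 hj₁)
      rw [← range_map_yon] at h1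
      rintro _ ⟨z, rfl⟩
      apply h1
      exact ⟨Points.map e₁.inv z, by
        rw [← Points.map_comp, ← Category.assoc, e₁.inv_hom_id, Category.id_comp]⟩
    exact hdense₁.mono hsub
  · intro x hx
    obtain ⟨T', c', t', hc'e, hc't', hdim⟩ := hx
    have ht' : IsMax t' := (isMax_iff_stalk_dim_zero t').2 hdim
    obtain ⟨M', b', hb', hmem'⟩ := hcodim c' hc'e t' ht'
    change x ∈ Set.range (Points.map (openSubι X.obj 𝒲))
    rw [h𝒲range, ← hc't']
    exact hkey M' b' hb' hmem'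

theorem main10204 (X : AlgSp.Space S) {U : Over S}
    (a : (AlgSp.yon S).obj U ⟶ X.obj) (hf : AlgSp.RepWith @IsFinite a)
    (he : AlgSp.RepWith @Etale a) (hs : AlgSp.RepWith @Surjective a)
    [QuasiSeparatedSpace ↥U.left] :
    ∃ (X' : AlgSp.Space S) (j : X' ⟶ X), AlgSp.RepWith @IsOpenImmersion j.hom ∧
      X'.obj.obj.IsRepresentable ∧ Dense (Set.range (AlgSp.Points.map j.hom)) ∧
      ∀ x : AlgSp.Points X.obj,
        AlgSp.HasAt (fun U u => ringKrullDim ↥(U.presheaf.stalk u) = 0) X.obj x →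
          x ∈ Set.range (AlgSp.Points.map j.hom) := by
  have hX := X.property
  refine exists_schematic_locus X (exists_dense_open_subscheme X a hf he hs) ?_
  intro T' c' hc'e t' ht'
  obtain ⟨u, hu⟩ := ofPt_surjective a hs (Points.ofPt c' t')
  have hdim : ringKrullDim ↥(U.left.presheaf.stalk u) = 0 := by
    rw [ResTrdegH8.stalkDim_chart_indep a c' he hc'e u t' hu]
    exact (isMax_iff_stalk_dim_zero t').1 ht'
  have hu' : IsMax u := (isMax_iff_stalk_dim_zero u).2 hdim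
  obtain ⟨Ws, hWs, hsWs, -⟩ := exists_isAffineOpen_mem_and_subset
    (x := U.hom u) (U := (⊤ : S.Opens)) trivial
  have huN : u ∈ U.hom ⁻¹ᵁ Ws := hsWs
  obtain ⟨V, hV, huV, hVsub⟩ := exists_isAffineOpen_mem_and_subset huN
  let VO : Over S := opOver U V
  let ι : VO ⟶ U := opι U V
  haveI : IsAffine VO.left := hV
  haveI : IsOpenImmersion ι.left := inferInstanceAs (IsOpenImmersion V.ι)
  obtain ⟨w, hw⟩ : ∃ w, w = (yon S).map ι ≫ a := ⟨_, rfl⟩
  have hwe : RepWith @Etale w := by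
    rw [hw]
    exact repWith_comp _ ((repWith_yon_map_iff @Etale ι).2 inferInstance) he
  have hrange : Set.range (V.ι ≫ U.hom) ⊆ Set.range hWs.fromSpec := by
    rw [hWs.range_fromSpec]
    rintro _ ⟨v, rfl⟩
    exact hVsub v.2
  let h₀ : (V : Scheme.{u}) ⟶ Spec Γ(S, Ws) :=
    IsOpenImmersion.lift hWs.fromSpec (V.ι ≫ U.hom) hrange
  have hh : h₀ ≫ hWs.fromSpec = V.ι ≫ U.hom := IsOpenImmersion.lift_fac _ _ _
  let v₀ : ↥VO.left := ⟨u, huV⟩
  have hv₀ : IsMax v₀ := isMax_of_isMax_opι V u huV hu' v₀ rfl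
  -- the kernel pair of `w`
  obtain ⟨P, p₁, p₂, sqP⟩ := exists_isPullback_yon hf.rep w
  haveI : IsFinite p₂.left := hf.property w ((yon S).map p₁) p₂ sqP
  obtain ⟨B, b₁, b₂, sqB⟩ : ∃ (B : Over S) (b₁ : B ⟶ P) (b₂ : B ⟶ VO),
      IsPullback b₁ b₂ p₁ ι := ⟨_, _, _, IsPullback.of_hasPullback p₁ ι⟩
  have sqBL : IsPullback b₁.left b₂.left p₁.left ι.left := sqB.map (Over.forget S)
  haveI : QuasiCompact ι.left := inferInstance
  haveI : QuasiCompact b₁.left :=
    MorphismProperty.of_isPullback (P := @QuasiCompact) sqBL.flip inferInstance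
  obtain ⟨tV, htV⟩ : ∃ tV : B ⟶ VO, tV = b₁ ≫ p₂ := ⟨_, rfl⟩
  have big : IsPullback ((yon S).map b₂) ((yon S).map tV) w w := by
    have h := (sqB.map (yon S)).flip.paste_vert sqP
    rw [← Functor.map_comp, ← htV, ← hw] at h
    exact h
  have hqc : QuasiCompact tV.left := by
    rw [htV]
    change QuasiCompact (b₁.left ≫ p₂.left)
    infer_instance
  obtain ⟨W'', hW''o, hxW'', -, M, -, ⟨e⟩⟩ :=
    exists_affine_open_of_isMax hX w hwe big hqc hWs.fromSpec h₀ hh v₀ hv₀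
  have hx : Points.ofPt c' t' = Points.ofPt w v₀ := by
    rw [← hu, hw, ofPt_comp]
    rfl
  rw [hx]
  obtain ⟨b, hb, hmem⟩ := exists_openImmersion_of_openSub hX hW''o hxW'' e
  exact ⟨M, b, hb, hmem⟩

end Groth.Agent.Lib.DecentSchLocus3H7
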