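import Mathlib

namespace Groth.Agent.Lib.DecompBound

universe u v w

open Cardinal

theorem main (R : Type u) [CommRing R] [IsNoetherianRing R]
    (M : Type v) [AddCommGroup M] [Module R M] [Module.Finite R M] :
    ∃ n : ℕ, ∀ (ι : Type w) [DecidableEq ι] (N : ι → Submodule R M), DirectSum.IsInternal N →
      ∃ s : Finset ι, s.card ≤ n ∧ ∀ i, N i ≠ ⊥ → i ∈ s := by
  classical
  have hfin : (associatedPrimes R M).Finite := associatedPrimes.finite R M
  have hgen : ∀ I : Ideal R, ∃ G : Finset (Submodule.torsionBySet R M I),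
      Submodule.span (R ⧸ I) (G : Set (Submodule.torsionBySet R M I)) = ⊤ := by
    intro I
    haveI : Module.Finite R (Submodule.torsionBySet R M I) := inferInstance
    haveI : IsScalarTower R (R ⧸ I) (Submodule.torsionBySet R M I) := by
      refine ⟨fun a b x => ?_⟩
      obtain ⟨b', rfl⟩ := Ideal.Quotient.mk_surjective b
      show (a • Ideal.Quotient.mk I b') • x = a • (Ideal.Quotient.mk I b' • x)
      rw [Submodule.torsionBySet.mk_smul, Algebra.smul_def, Ideal.Quotient.algebraMap_eq,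
        ← map_mul, Submodule.torsionBySet.mk_smul]
      simp [mul_smul]
    haveI : Module.Finite (R ⧸ I) (Submodule.torsionBySet R M I) :=
      Module.Finite.of_restrictScalars_finite R (R ⧸ I) _
    exact (Module.Finite.fg_top :
      (⊤ : Submodule (R ⧸ I) (Submodule.torsionBySet R M I)).FG)
  choose G hG using hgen
  refine ⟨∑ 𝔭 ∈ hfin.toFinset, (G 𝔭).card, ?_⟩
  intro ι _ N hN
  have hdata : ∀ i, N i ≠ ⊥ → ∃ 𝔭 : Ideal R, 𝔭 ∈ associatedPrimes R M ∧ 𝔭.IsPrime ∧
      ∃ x : M, x ∈ N i ∧ ∀ r : R, r ∈ 𝔭 ↔ r • x = 0 := by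
    intro i hi
    haveI : Nontrivial (N i) := Submodule.nontrivial_iff_ne_bot.mpr hi
    obtain ⟨𝔭, h𝔭⟩ := associatedPrimes.nonempty R (N i)
    have h𝔭M : 𝔭 ∈ associatedPrimes R M :=
      associatedPrimes.subset_of_injective (f := (N i).subtype) (Submodule.injective_subtype _) h𝔭
    obtain ⟨hprime, x, hx⟩ := (isAssociatedPrime_iff).mp h𝔭
    refine ⟨𝔭, h𝔭M, hprime, x.1, x.2, fun r => ?_⟩
    rw [hx, Submodule.mem_colon_singleton, Submodule.mem_bot]
    constructor
    · intro h
      have := congrArg Subtype.val h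
      simpa using this
    · intro h
      apply Subtype.ext
      simpa using h
  choose! P hPass hPprime X hXmem hXann using hdata
  have hfib : ∀ 𝔭 : Ideal R, ∃ t : Finset ι, t.card ≤ (G 𝔭).card ∧
      ∀ i, N i ≠ ⊥ → P i = 𝔭 → i ∈ t := by
    intro 𝔭
    by_cases h𝔭 : 𝔭.IsPrime
    swap
    · refine ⟨∅, Nat.zero_le _, fun i hi hPi => ?_⟩
      exact absurd (hPi ▸ hPprime i hi) h𝔭
    haveI := h𝔭
    let v : {i // N i ≠ ⊥ ∧ P i = 𝔭} → Submodule.torsionBySet R M 𝔭 := fun i => ⟨X i.1, by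
      rw [Submodule.mem_torsionBySet_iff]
      rintro ⟨a, ha⟩
      have ha' : a ∈ P i.1 := by rw [i.2.2]; exact ha
      exact (hXann i.1 i.2.1 a).mp ha'⟩
    have hli : LinearIndependent (R ⧸ 𝔭) v := by
      rw [linearIndependent_iff']
      intro t c hsum j hj
      choose r hr using fun i => Ideal.Quotient.mk_surjective (c i)
      have hsumM : ∑ i ∈ t, r i • X i.1 = 0 := by
        have h1 := congrArg (Subtype.val : Submodule.torsionBySet R M 𝔭 → M) hsum
        rw [Submodule.coe_sum, Submodule.coe_zero] at h1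
        rw [← h1]
        refine Finset.sum_congr rfl fun i _ => ?_
        rw [← hr i]
        rfl
      let w : ι → M := fun i => if h : N i ≠ ⊥ ∧ P i = 𝔭 then r ⟨i, h⟩ • X i else 0
      have hw : ∀ i : {i // N i ≠ ⊥ ∧ P i = 𝔭}, w i.1 = r i • X i.1 := by
        intro i
        simp only [w]
        rw [dif_pos i.2]
      have hwmem : ∀ i ∈ t.map ⟨Subtype.val, Subtype.val_injective⟩, w i ∈ N i := by
        intro i _
        simp only [w]
        split_ifs with h
        · exact (N i).smul_mem _ (hXmem i h.1)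
        · exact (N i).zero_mem
      have hsumw : ∑ i ∈ t.map ⟨Subtype.val, Subtype.val_injective⟩, w i = 0 := by
        rw [Finset.sum_map]
        simp only [Function.Embedding.coeFn_mk]
        rw [← hsumM]
        exact Finset.sum_congr rfl fun i _ => hw i
      have hz := (iSupIndep_iff_finsetSum_eq_zero_imp_eq_zero N).mp hN.submodule_iSupIndep _ w
        hwmem hsumw j.1 (Finset.mem_map.mpr ⟨j, hj, rfl⟩)
      rw [hw j] at hz
      rw [← hr j, Ideal.Quotient.eq_zero_iff_mem]
      have := (hXann j.1 j.2.1 (r j)).mpr hz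
      rw [j.2.2] at this
      exact this
    have hcard := linearIndependent_le_span_finset v hli (G 𝔭) (hG 𝔭)
    haveI : Finite {i // N i ≠ ⊥ ∧ P i = 𝔭} :=
      Cardinal.lt_aleph0_iff_finite.mp (lt_of_le_of_lt hcard (Cardinal.nat_lt_aleph0 _))
    letI := Fintype.ofFinite {i // N i ≠ ⊥ ∧ P i = 𝔭}
    refine ⟨(Finset.univ : Finset {i // N i ≠ ⊥ ∧ P i = 𝔭}).map
      ⟨Subtype.val, Subtype.val_injective⟩, ?_, ?_⟩
    · rw [Finset.card_map, Finset.card_univ]
      rw [Cardinal.mk_fintype] at hcard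
      exact_mod_cast hcard
    · intro i hi hPi
      exact Finset.mem_map.mpr ⟨⟨i, hi, hPi⟩, Finset.mem_univ _, rfl⟩
  choose T hTcard hTmem using hfib
  refine ⟨hfin.toFinset.biUnion T, ?_, ?_⟩
  · exact (Finset.card_biUnion_le).trans (Finset.sum_le_sum fun 𝔭 _ => hTcard 𝔭)
  · intro i hi
    exact Finset.mem_biUnion.mpr ⟨P i, hfin.mem_toFinset.mpr (hPass i hi), hTmem (P i) i hi rfl⟩

end Groth.Agent.Lib.DecompBound
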