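import Mathlib

/-!
# The decomposition ring: trace split for `R^G ⊆ R^H`, `H ⊇` stabilizer of `q` (helper3)
-/

set_option autoImplicit false

open scoped Pointwise

namespace Groth.Agent.Lib.DecompSplit2H3

variable {G R : Type*} [Group G] [CommRing R] [MulSemiringAction G R] (H : Subgroup G)

section stab

variable [Finite G]

/-- an automorphism of finite order mapping `q` into itself stabilises `q`. -/
lemma smul_eq_of_smul_le (q : Ideal R) (σ : G) (h : σ • q ≤ q) : σ • q = q := by
  refine le_antisymm h ?_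
  have hk : ∀ k : ℕ, σ ^ k • q ≤ q := by
    intro k
    induction k with
    | zero => simp
    | succ k ih =>
      rw [pow_succ', mul_smul]
      exact (Ideal.pointwise_smul_le_pointwise_smul_iff.mpr ih).trans h
  have hN := orderOf_pos σ
  obtain ⟨N, hN'⟩ : ∃ N, orderOf σ = N + 1 := ⟨orderOf σ - 1, by omega⟩
  have h1 : σ ^ (N + 1) = 1 := by rw [← hN']; exact pow_orderOf_eq_one σ
  calc q = σ ^ (N + 1) • q := by rw [h1, one_smul]
    _ = σ • (σ ^ N • q) := by rw [pow_succ', mul_smul]
    _ ≤ σ • q := Ideal.pointwise_smul_le_pointwise_smul_iff.mpr (hk N)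

end stab

section norm

variable [Fintype G] [DecidablePred (· ∈ H)]

/-- the `H`-norm -/
noncomputable def normH (x : R) : R := ∏ h ∈ Finset.univ.filter (· ∈ H), h • x

lemma smul_normH (h' : G) (hh' : h' ∈ H) (x : R) : h' • normH H x = normH H x := by
  unfold normH
  rw [Finset.smul_prod']
  refine Finset.prod_bij (fun h _ => h' * h) ?_ ?_ ?_ ?_
  · intro h hh
    simp only [Finset.mem_filter, Finset.mem_univ, true_and] at hh ⊢
    exact H.mul_mem hh' hh
  · intro h₁ _ h₂ _ heq
    exact mul_left_cancel heq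
  · intro h hh
    simp only [Finset.mem_filter, Finset.mem_univ, true_and] at hh
    refine ⟨h'⁻¹ * h, ?_, by simp⟩
    simp only [Finset.mem_filter, Finset.mem_univ, true_and]
    exact H.mul_mem (H.inv_mem hh') hh
  · intro h _
    rw [mul_smul]

variable [Finite G]

theorem exists_a (q : Ideal R) [q.IsPrime] (hD : MulAction.stabilizer G q ≤ H) :
    ∃ a : FixedPoints.subring R H, (a : R) ∉ q ∧ ∀ g : G, g ∉ H → g • (a : R) ∈ q := by
  classical
  have hx : ∀ g : G, g ∉ H → ∃ x : R, g • x ∈ q ∧ ∀ h ∈ H, h • x ∉ q := by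
    intro g hg
    have hnot : ¬ (((g⁻¹ • q : Ideal R) : Set R) ⊆
        ⋃ h ∈ ((Finset.univ.filter (· ∈ H) : Finset G) : Set G), ((h⁻¹ • q : Ideal R) : Set R)) := by
      rw [Ideal.subset_union_prime (1 : G) (1 : G)
        (fun h _ _ _ => (Ideal.IsPrime.smul_iff h⁻¹).mpr inferInstance)]
      rintro ⟨h, hh, hle⟩
      simp only [Finset.mem_filter, Finset.mem_univ, true_and] at hh
      rw [Ideal.pointwise_smul_subset_iff, inv_inv, ← mul_smul] at hle
      have h2 : (g * h⁻¹)⁻¹ • q ≤ q := Ideal.pointwise_smul_subset_iff.mpr (by rwa [inv_inv])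
      have h3 := smul_eq_of_smul_le q _ h2
      have hmem : (g * h⁻¹)⁻¹ ∈ H := hD (MulAction.mem_stabilizer_iff.mpr h3)
      have hmem' : g * h⁻¹ ∈ H := by simpa using H.inv_mem hmem
      have : g ∈ H := by
        have := H.mul_mem hmem' hh
        rwa [inv_mul_cancel_right] at this
      exact hg this
    obtain ⟨x, hx1, hx2⟩ := Set.not_subset.1 hnot
    refine ⟨x, Ideal.mem_inv_pointwise_smul_iff.mp hx1, fun h hh hmem => hx2 ?_⟩
    simp only [Set.mem_iUnion]
    exact ⟨h, Finset.mem_coe.2 (Finset.mem_filter.2 ⟨Finset.mem_univ _, hh⟩),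
      Ideal.mem_inv_pointwise_smul_iff.mpr hmem⟩
  choose! x hx1 hx2 using hx
  let ag : G → FixedPoints.subring R H := fun g =>
    ⟨normH H (x g), fun h => smul_normH H h.1 h.2 (x g)⟩
  refine ⟨∏ g ∈ Finset.univ.filter (· ∉ H), ag g, ?_, ?_⟩
  · rw [SubmonoidClass.coe_finsetProd]
    intro hmem
    obtain ⟨g, hg, hgq⟩ := (Ideal.IsPrime.prod_mem_iff).1 hmem
    simp only [Finset.mem_filter, Finset.mem_univ, true_and] at hg
    obtain ⟨h, hh, hhq⟩ := (Ideal.IsPrime.prod_mem_iff).1 (show normH H (x g) ∈ q from hgq)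
    simp only [Finset.mem_filter, Finset.mem_univ, true_and] at hh
    exact hx2 g hg h hh hhq
  · intro g hg
    rw [SubmonoidClass.coe_finsetProd, Finset.smul_prod']
    refine Ideal.IsPrime.prod_mem_iff.mpr
      ⟨g, Finset.mem_filter.2 ⟨Finset.mem_univ _, hg⟩, ?_⟩
    show g • normH H (x g) ∈ q
    unfold normH
    rw [Finset.smul_prod']
    refine Ideal.IsPrime.prod_mem_iff.mpr
      ⟨1, Finset.mem_filter.2 ⟨Finset.mem_univ _, H.one_mem⟩, ?_⟩
    rw [one_smul]
    exact hx1 g hg

end norm

section tau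

/-- `c = gH ↦ g • s` for `s ∈ R^H`. -/
noncomputable def tau (s : FixedPoints.subring R H) : G ⧸ H → R :=
  Quotient.lift (fun g : G => g • (s : R)) (fun x y hxy => by
    have hxy' : x⁻¹ * y ∈ H := QuotientGroup.leftRel_apply.mp hxy
    have h1 : y • (s : R) = x • ((x⁻¹ * y) • (s : R)) := by
      rw [← mul_smul, mul_inv_cancel_left]
    have h2 : (x⁻¹ * y) • (s : R) = s := s.2 ⟨_, hxy'⟩
    show x • (s : R) = y • (s : R)
    rw [h1, h2])

lemma tau_mk (s : FixedPoints.subring R H) (g : G) : tau H s (g : G ⧸ H) = g • (s : R) := rfl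

lemma tau_mul (s s' : FixedPoints.subring R H) (c : G ⧸ H) :
    tau H (s * s') c = tau H s c * tau H s' c := by
  induction c using QuotientGroup.induction_on with
  | H g => simp only [tau_mk, Subring.coe_mul, smul_mul']

lemma tau_add (s s' : FixedPoints.subring R H) (c : G ⧸ H) :
    tau H (s + s') c = tau H s c + tau H s' c := by
  induction c using QuotientGroup.induction_on with
  | H g => simp only [tau_mk, Subring.coe_add, smul_add]

lemma tau_pow (s : FixedPoints.subring R H) (k : ℕ) (c : G ⧸ H) :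
    tau H (s ^ k) c = tau H s c ^ k := by
  induction c using QuotientGroup.induction_on with
  | H g => simp only [tau_mk, Subring.coe_pow, smul_pow']

lemma smul_tau (g : G) (s : FixedPoints.subring R H) (c : G ⧸ H) :
    g • tau H s c = tau H s (g • c) := by
  induction c using QuotientGroup.induction_on with
  | H g' =>
    rw [MulAction.Quotient.smul_mk, tau_mk, tau_mk, smul_eq_mul, mul_smul]

lemma tau_one_coset (s : FixedPoints.subring R H) : tau H s ((1 : G) : G ⧸ H) = s := by
  rw [tau_mk, one_smul]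

lemma tau_of_fixed (b : FixedPoints.subring R H) (hb : ∀ g : G, g • (b : R) = b) (c : G ⧸ H) :
    tau H b c = b := by
  induction c using QuotientGroup.induction_on with
  | H g => rw [tau_mk, hb]

variable [Fintype (G ⧸ H)]

/-- the trace `R^H → R`, landing in `R^G`. -/
noncomputable def trR (s : FixedPoints.subring R H) : R := ∑ c : G ⧸ H, tau H s c

lemma smul_trR (g : G) (s : FixedPoints.subring R H) : g • trR H s = trR H s := by
  unfold trR
  rw [Finset.smul_sum]
  simp_rw [smul_tau]
  exact Equiv.sum_comp (MulAction.toPerm g) (tau H s)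

/-- the trace `R^H → R^G`. -/
noncomputable def tr (s : FixedPoints.subring R H) : FixedPoints.subring R G :=
  ⟨trR H s, fun g => smul_trR H g s⟩

lemma coe_tr (s : FixedPoints.subring R H) : ((tr H s : FixedPoints.subring R G) : R) =
    ∑ c : G ⧸ H, tau H s c := rfl

lemma tr_add (s s' : FixedPoints.subring R H) : tr H (s + s') = tr H s + tr H s' := by
  apply Subtype.ext
  rw [Subring.coe_add, coe_tr, coe_tr, coe_tr, ← Finset.sum_add_distrib]
  exact Finset.sum_congr rfl fun c _ => tau_add H s s' c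

lemma tr_mul_of_fixed (b s : FixedPoints.subring R H) (hb : ∀ g : G, g • (b : R) = b) :
    ((tr H (b * s) : FixedPoints.subring R G) : R) = b * (tr H s : FixedPoints.subring R G) := by
  rw [coe_tr, coe_tr, Finset.mul_sum]
  exact Finset.sum_congr rfl fun c _ => by rw [tau_mul, tau_of_fixed H b hb]

end tau

end Groth.Agent.Lib.DecompSplit2H3
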