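import Mathlib
import Groth.Agent.Lib.DecompSplit2_helper3

/-!
# The decomposition ring: the explicit split (helper3)
-/

set_option autoImplicit false

open scoped Pointwise
open Polynomial

namespace Groth.Agent.Lib.DecompSplit3H3

open Groth.Agent.Lib.DecompSplit2H3

variable {G R : Type*} [Group G] [Fintype G] [CommRing R] [MulSemiringAction G R]
  (H : Subgroup G) [DecidablePred (· ∈ H)]

variable (a : FixedPoints.subring R H)

/-- `P = ∏_{g ∉ H} (X - g • a)` -/
noncomputable def P : R[X] := ∏ g ∈ Finset.univ.filter (· ∉ H), (X - C (g • (a : R)))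

lemma map_P (h : G) (hh : h ∈ H) : (P H a).map (MulSemiringAction.toRingHom G R h) = P H a := by
  unfold P
  rw [Polynomial.map_prod]
  refine Finset.prod_bij (fun g _ => h * g) ?_ ?_ ?_ ?_
  · intro g hg
    simp only [Finset.mem_filter, Finset.mem_univ, true_and] at hg ⊢
    intro hmem
    apply hg
    have := H.mul_mem (H.inv_mem hh) hmem
    rwa [inv_mul_cancel_left] at this
  · intro g₁ _ g₂ _ heq
    exact mul_left_cancel heq
  · intro g hg
    simp only [Finset.mem_filter, Finset.mem_univ, true_and] at hg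
    refine ⟨h⁻¹ * g, ?_, by simp⟩
    simp only [Finset.mem_filter, Finset.mem_univ, true_and]
    intro hmem
    apply hg
    have := H.mul_mem hh hmem
    rwa [mul_inv_cancel_left] at this
  · intro g _
    rw [Polynomial.map_sub, Polynomial.map_X, Polynomial.map_C, mul_smul]
    rfl

lemma smul_coeff (h : G) (hh : h ∈ H) (k : ℕ) : h • (P H a).coeff k = (P H a).coeff k := by
  have h1 := congrArg (fun p : R[X] => p.coeff k) (map_P H a h hh)
  simp only [Polynomial.coeff_map] at h1
  exact h1

lemma smul_eval (h : G) (hh : h ∈ H) : h • (P H a).eval (a : R) = (P H a).eval (a : R) := by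
  have h1 : MulSemiringAction.toRingHom G R h ((P H a).eval (a : R)) =
      ((P H a).map (MulSemiringAction.toRingHom G R h)).eval
        (MulSemiringAction.toRingHom G R h (a : R)) := by
    rw [Polynomial.eval_map, Polynomial.eval₂_hom]
  rw [map_P H a h hh] at h1
  have h2 : MulSemiringAction.toRingHom G R h (a : R) = a := a.2 ⟨h, hh⟩
  rw [h2] at h1
  exact h1

lemma eval_P_of_not_mem (g : G) (hg : g ∉ H) : (P H a).eval (g • (a : R)) = 0 := by
  unfold P
  rw [Polynomial.eval_prod]
  exact Finset.prod_eq_zero (Finset.mem_filter.2 ⟨Finset.mem_univ _, hg⟩) (by simp)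

lemma eval_P_not_mem (q : Ideal R) [q.IsPrime] (ha : (a : R) ∉ q)
    (hga : ∀ g : G, g ∉ H → g • (a : R) ∈ q) : (P H a).eval (a : R) ∉ q := by
  unfold P
  rw [Polynomial.eval_prod]
  intro hmem
  obtain ⟨g, hg, hgq⟩ := (Ideal.IsPrime.prod_mem_iff).1 hmem
  simp only [Finset.mem_filter, Finset.mem_univ, true_and] at hg
  simp only [eval_sub, eval_X, eval_C] at hgq
  apply ha
  have := q.add_mem hgq (hga g hg)
  rwa [sub_add_cancel] at this

/-- the coefficients, in `R^H` -/
noncomputable def xk (k : ℕ) : FixedPoints.subring R H :=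
  ⟨(P H a).coeff k, fun h => smul_coeff H a h.1 h.2 k⟩

/-- `a * P(a)`, in `R^H` -/
noncomputable def c0 : FixedPoints.subring R H :=
  a * ⟨(P H a).eval (a : R), fun h => smul_eval H a h.1 h.2⟩

lemma coe_c0 : ((c0 H a : FixedPoints.subring R H) : R) = a * (P H a).eval (a : R) := rfl

variable [Fintype (G ⧸ H)]

lemma tau_eval_eq_zero (c : G ⧸ H) (hc : c ≠ ((1 : G) : G ⧸ H)) :
    (P H a).eval (tau H a c) = 0 := by
  induction c using QuotientGroup.induction_on with
  | H g =>
    rw [tau_mk]
    apply eval_P_of_not_mem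
    intro hg
    apply hc
    rw [QuotientGroup.eq]
    simpa using H.inv_mem hg

theorem split (s : FixedPoints.subring R H) :
    ∑ k : Fin ((P H a).natDegree + 1),
        ((tr H (a ^ ((k : ℕ) + 1) * s) : FixedPoints.subring R G) : R) * (P H a).coeff k =
      a * (P H a).eval (a : R) * s := by
  have h1 : ∀ k : ℕ, ((tr H (a ^ (k + 1) * s) : FixedPoints.subring R G) : R) * (P H a).coeff k =
      ∑ c : G ⧸ H, tau H s c * tau H a c * ((P H a).coeff k * tau H a c ^ k) := by
    intro k
    rw [coe_tr, Finset.sum_mul]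
    refine Finset.sum_congr rfl fun c _ => ?_
    rw [tau_mul, tau_pow]
    ring
  rw [Fin.sum_univ_eq_sum_range (fun k => ((tr H (a ^ (k + 1) * s) :
    FixedPoints.subring R G) : R) * (P H a).coeff k) ((P H a).natDegree + 1),
    Finset.sum_congr rfl fun k _ => h1 k, Finset.sum_comm]
  have h2 : ∀ c : G ⧸ H, ∑ k ∈ Finset.range ((P H a).natDegree + 1),
      tau H s c * tau H a c * ((P H a).coeff k * tau H a c ^ k) =
      tau H s c * tau H a c * (P H a).eval (tau H a c) := by
    intro c
    rw [← Finset.mul_sum, ← Polynomial.eval_eq_sum_range]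
  rw [Finset.sum_congr rfl fun c _ => h2 c,
    Finset.sum_eq_single ((1 : G) : G ⧸ H)
      (fun c _ hc => by rw [tau_eval_eq_zero H a c hc, mul_zero])
      (fun h => absurd (Finset.mem_univ _) h), tau_one_coset, tau_one_coset]
  ring

/-- the traces of `a^(k+1) s` lie in `q` when `s ∈ q`. -/
lemma tr_mem_of_mem (q : Ideal R) (hga : ∀ g : G, g ∉ H → g • (a : R) ∈ q)
    (s : FixedPoints.subring R H) (hs : (s : R) ∈ q) (k : ℕ) :
    ((tr H (a ^ (k + 1) * s) : FixedPoints.subring R G) : R) ∈ q := by
  rw [coe_tr]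
  refine Ideal.sum_mem _ fun c _ => ?_
  rw [tau_mul, tau_pow]
  induction c using QuotientGroup.induction_on with
  | H g =>
    by_cases hg : g ∈ H
    · have h1 : tau H s (g : G ⧸ H) = s := by
        rw [tau_mk]; exact s.2 ⟨g, hg⟩
      rw [h1]
      exact Ideal.mul_mem_left _ _ hs
    · rw [tau_mk, pow_succ]
      exact Ideal.mul_mem_right _ _ (Ideal.mul_mem_left _ _ (hga g hg))

/-- `tr(a s) ≡ a s` modulo `q`. -/
lemma tr_sub_mem (q : Ideal R) (hga : ∀ g : G, g ∉ H → g • (a : R) ∈ q)
    (s : FixedPoints.subring R H) :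
    ((tr H (a * s) : FixedPoints.subring R G) : R) - a * s ∈ q := by
  rw [coe_tr, ← Finset.add_sum_erase _ _ (Finset.mem_univ ((1 : G) : G ⧸ H)), tau_one_coset,
    Subring.coe_mul, add_sub_cancel_left]
  refine Ideal.sum_mem _ fun c hc => ?_
  rw [tau_mul]
  have hc' := (Finset.mem_erase.1 hc).1
  induction c using QuotientGroup.induction_on with
  | H g =>
    rw [tau_mk]
    refine Ideal.mul_mem_right _ _ (hga g ?_)
    intro hg
    apply hc'
    rw [QuotientGroup.eq]
    simpa using H.inv_mem hg

end Groth.Agent.Lib.DecompSplit3H3
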