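import Mathlib

/-!
# Flatness from a split up to an element outside a prime; iso mod powers (helper3)

* `flat_of_split` : if `R → S`, `q` a prime of `S`, `c ∉ q`, and multiplication by `c` on `S`
  factors `R`-linearly through a finite free `R`-module, then `S_q` is flat over `R`.
* `bijective_mod_pow` : for a flat local homomorphism `φ : A → M` of local rings with
  `m_A M = m_M` and trivial residue field extension, `A → M / m_M^n` is surjective with kernel
  `m_A^n`.
-/

set_option autoImplicit false

namespace Groth.Agent.Lib.DecompSplitH3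

open TensorProduct

section Flat

variable {R S : Type*} [CommRing R] [CommRing S] [Algebra R S]
  (q : Ideal S) [q.IsPrime] (Sq : Type*) [CommRing Sq] [Algebra S Sq] [IsLocalization.AtPrime Sq q]
  [Algebra R Sq] [IsScalarTower R S Sq]

/-- `s ↦ s * v`, as an `R`-linear map `S → S_q`. -/
noncomputable def lam (v : Sq) : S →ₗ[R] Sq :=
  (LinearMap.mulRight R v).comp (IsScalarTower.toAlgHom R S Sq).toLinearMap

omit [q.IsPrime] in
lemma lam_apply (v : Sq) (s : S) : lam (R := R) Sq v s = algebraMap S Sq s * v := rfl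

omit [q.IsPrime] in
lemma lam_comp_mulLeft (v v' : Sq) (w : S) (h : v' * algebraMap S Sq w = v) :
    (lam (R := R) Sq v').comp (LinearMap.mulLeft R w) = lam (R := R) Sq v := by
  ext s
  simp only [LinearMap.comp_apply, LinearMap.mulLeft_apply, lam_apply, map_mul]
  rw [← h]
  ring

include q in
lemma exists_rep {N : Type*} [AddCommGroup N] [Module R N] (t : N ⊗[R] Sq) :
    ∃ (u : S) (_ : u ∉ q) (v : Sq) (_ : v * algebraMap S Sq u = 1) (t₀ : N ⊗[R] S),
      t = (lam (R := R) Sq v).lTensor N t₀ := by
  induction t using TensorProduct.induction_on with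
  | zero => exact ⟨1, fun h => ‹q.IsPrime›.ne_top ((Ideal.eq_top_iff_one q).mpr h), 1, by simp, 0,
      by simp⟩
  | tmul n z =>
    obtain ⟨⟨s, u⟩, rfl⟩ := IsLocalization.mk'_surjective q.primeCompl z
    refine ⟨u, u.2, IsLocalization.mk' Sq 1 u, ?_, n ⊗ₜ s, ?_⟩
    · rw [mul_comm]
      exact IsLocalization.mk'_spec' Sq 1 u |>.trans (map_one _)
    · rw [LinearMap.lTensor_tmul, lam_apply]
      congr 1
      rw [IsLocalization.mul_mk'_eq_mk'_of_mul, mul_one]
  | add t t' ih ih' =>
    obtain ⟨u, hu, v, hv, t₀, rfl⟩ := ih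
    obtain ⟨u', hu', v', hv', t₀', rfl⟩ := ih'
    refine ⟨u * u', fun h => (‹q.IsPrime›.mem_or_mem h).elim hu hu', v * v', ?_,
      (LinearMap.mulLeft R u').lTensor N t₀ + (LinearMap.mulLeft R u).lTensor N t₀', ?_⟩
    · rw [map_mul]
      calc v * v' * (algebraMap S Sq u * algebraMap S Sq u')
          = (v * algebraMap S Sq u) * (v' * algebraMap S Sq u') := by ring
        _ = 1 := by rw [hv, hv', one_mul]
    · rw [map_add, ← LinearMap.lTensor_comp_apply, ← LinearMap.lTensor_comp_apply,
        lam_comp_mulLeft Sq v (v * v') u', lam_comp_mulLeft Sq v' (v * v') u]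
      · calc v * v' * algebraMap S Sq u = v' * (v * algebraMap S Sq u) := by ring
          _ = v' := by rw [hv, mul_one]
      · calc v * v' * algebraMap S Sq u' = v * (v' * algebraMap S Sq u') := by ring
          _ = v := by rw [hv', mul_one]

lemma lid_lTensor {M M' : Type*} [AddCommGroup M] [Module R M] [AddCommGroup M'] [Module R M']
    (ψ : M →ₗ[R] M') (z : R ⊗[R] M) :
    TensorProduct.lid R M' (ψ.lTensor R z) = ψ (TensorProduct.lid R M z) := by
  induction z using TensorProduct.induction_on with
  | zero => simp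
  | tmul r m => simp
  | add a b ha hb => simp only [map_add, ha, hb]

include q in
theorem flat_of_split (n : ℕ) (f : S →ₗ[R] (Fin n → R)) (x : Fin n → S) (c : S) (hc : c ∉ q)
    (hfx : ∀ s, ∑ i, f s i • x i = c * s) : Module.Flat R Sq := by
  rw [Module.Flat.iff_rTensor_injective']
  intro I
  rw [injective_iff_map_eq_zero]
  intro t ht
  obtain ⟨u, hu, v, hv, t₀, rfl⟩ := exists_rep q Sq t
  -- step 2
  have h2 : (lam (R := R) Sq v).lTensor R (I.subtype.rTensor S t₀) = 0 := by
    rw [← LinearMap.comp_apply, LinearMap.lTensor_comp_rTensor, ← LinearMap.rTensor_comp_lTensor,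
      LinearMap.comp_apply]
    exact ht
  have h2' := congrArg (TensorProduct.lid R Sq) h2
  rw [lid_lTensor, map_zero, lam_apply] at h2'
  have h2'' : algebraMap S Sq (TensorProduct.lid R S (I.subtype.rTensor S t₀)) = 0 := by
    have := congrArg (· * algebraMap S Sq u) h2'
    simp only [zero_mul, mul_assoc, hv, mul_one] at this
    exact this
  obtain ⟨w, hw⟩ := (IsLocalization.map_eq_zero_iff q.primeCompl Sq _).mp h2''
  set t₁ := (LinearMap.mulLeft R (w : S)).lTensor I t₀ with ht₁
  have h3 : I.subtype.rTensor S t₁ = 0 := by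
    apply (TensorProduct.lid R S).injective
    rw [map_zero, ht₁, ← LinearMap.comp_apply, LinearMap.rTensor_comp_lTensor,
      ← LinearMap.lTensor_comp_rTensor, LinearMap.comp_apply, lid_lTensor]
    exact hw
  -- step 3
  have h4 : f.lTensor I t₁ = 0 := by
    have hinj := Module.Flat.rTensor_preserves_injective_linearMap (M := Fin n → R) I.subtype
      Subtype.val_injective
    apply hinj
    rw [map_zero, ← LinearMap.comp_apply, LinearMap.rTensor_comp_lTensor,
      ← LinearMap.lTensor_comp_rTensor, LinearMap.comp_apply, h3, map_zero]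
  -- step 4
  have hcomp : (Fintype.linearCombination R x).comp f = LinearMap.mulLeft R c := by
    ext s
    rw [LinearMap.comp_apply, Fintype.linearCombination_apply, hfx, LinearMap.mulLeft_apply]
  have h5 : (LinearMap.mulLeft R c).lTensor I t₁ = 0 := by
    rw [← hcomp, LinearMap.lTensor_comp_apply, h4, map_zero]
  -- step 5
  obtain ⟨vc, hvc⟩ := (IsLocalization.map_units Sq (⟨c, hc⟩ : q.primeCompl)).exists_left_inv
  obtain ⟨vw, hvw⟩ := (IsLocalization.map_units Sq w).exists_left_inv
  have hfac : lam (R := R) Sq v =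
      ((lam (R := R) Sq (v * vw * vc)).comp (LinearMap.mulLeft R c)).comp
        (LinearMap.mulLeft R (w : S)) := by
    rw [lam_comp_mulLeft Sq (v * vw) (v * vw * vc) c, lam_comp_mulLeft Sq v (v * vw) (w : S)]
    · rw [mul_assoc, hvw, mul_one]
    · rw [mul_assoc, hvc, mul_one]
  rw [hfac, LinearMap.lTensor_comp_apply, LinearMap.lTensor_comp_apply, ← ht₁, h5, map_zero]

end Flat

section ModPow

variable {A M : Type*} [CommRing A] [CommRing M] [IsLocalRing A] [IsLocalRing M]

open IsLocalRing

theorem bijective_mod_pow (φ : A →+* M) [IsLocalHom φ] (hflat : φ.Flat)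
    (hm : (maximalIdeal A).map φ = maximalIdeal M)
    (hres : ∀ z : M, ∃ a : A, z - φ a ∈ maximalIdeal M) (n : ℕ) :
    Function.Surjective ((Ideal.Quotient.mk (maximalIdeal M ^ n)).comp φ) ∧
      Ideal.comap φ (maximalIdeal M ^ n) = maximalIdeal A ^ n := by
  have hpow : ∀ k, maximalIdeal M ^ k = (maximalIdeal A ^ k).map φ := fun k => by
    rw [Ideal.map_pow, hm]
  constructor
  · -- surjectivity
    have key : ∀ k, ∀ z : M, ∃ a : A, z - φ a ∈ maximalIdeal M ^ k := by
      intro k
      induction k with
      | zero => intro z; exact ⟨0, by simp⟩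
      | succ k ih =>
        have aux : ∀ w ∈ (maximalIdeal A ^ k).map φ,
            ∃ a' ∈ maximalIdeal A ^ k, w - φ a' ∈ maximalIdeal M ^ (k + 1) := by
          intro w hw
          refine Submodule.span_induction (p := fun w _ => ∃ a' ∈ maximalIdeal A ^ k,
            w - φ a' ∈ maximalIdeal M ^ (k + 1)) ?_ ?_ ?_ ?_ hw
          · rintro _ ⟨y, hy, rfl⟩
            exact ⟨y, hy, by simp⟩
          · exact ⟨0, zero_mem _, by simp⟩
          · rintro w₁ w₂ _ _ ⟨a₁, ha₁, h₁⟩ ⟨a₂, ha₂, h₂⟩
            refine ⟨a₁ + a₂, add_mem ha₁ ha₂, ?_⟩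
            have : w₁ + w₂ - φ (a₁ + a₂) = (w₁ - φ a₁) + (w₂ - φ a₂) := by
              rw [map_add]; ring
            rw [this]
            exact add_mem h₁ h₂
          · rintro z' w₀ _ ⟨a₀, ha₀, h₀⟩
            obtain ⟨a', ha'⟩ := hres z'
            refine ⟨a' * a₀, Ideal.mul_mem_left _ _ ha₀, ?_⟩
            have : z' • w₀ - φ (a' * a₀) = z' * (w₀ - φ a₀) + (z' - φ a') * φ a₀ := by
              rw [map_mul, smul_eq_mul]; ring
            rw [this]
            refine add_mem (Ideal.mul_mem_left _ _ h₀) ?_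
            rw [pow_succ']
            refine Ideal.mul_mem_mul ha' ?_
            rw [hpow k]
            exact Ideal.mem_map_of_mem φ ha₀
        intro z
        obtain ⟨a, ha⟩ := ih z
        rw [hpow k] at ha
        obtain ⟨a', -, ha'⟩ := aux _ ha
        refine ⟨a + a', ?_⟩
        have : z - φ (a + a') = z - φ a - φ a' := by rw [map_add]; ring
        rw [this]
        exact ha'
    intro z
    obtain ⟨z, rfl⟩ := Ideal.Quotient.mk_surjective z
    obtain ⟨a, ha⟩ := key n z
    refine ⟨a, ?_⟩
    rw [RingHom.comp_apply]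
    exact (Ideal.Quotient.eq.mpr ha).symm
  · -- kernel
    algebraize [φ]
    haveI : IsLocalHom (algebraMap A M) := ‹IsLocalHom φ›
    haveI : Module.Flat A M := hflat
    haveI : Module.FaithfullyFlat A M := Module.FaithfullyFlat.of_flat_of_isLocalHom
    rw [hpow n]
    exact Ideal.comap_map_eq_self_of_faithfullyFlat (B := M) (maximalIdeal A ^ n)

end ModPow

end Groth.Agent.Lib.DecompSplitH3
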