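import Mathlib
import Groth.Agent.Lib.DecompSplit_helper3
import Groth.Agent.Lib.DecompSplit3_helper3

/-!
# The decomposition ring: `(R^G)_p → (R^H)_{q'}` is an isomorphism modulo all powers (helper3)
-/

set_option autoImplicit false

open scoped Pointwise
open IsLocalRing

namespace Groth.Agent.Lib.DecompSplit4H3

open Groth.Agent.Lib.DecompSplitH3 Groth.Agent.Lib.DecompSplit2H3 Groth.Agent.Lib.DecompSplit3H3

theorem assemble {B R' : Type*} [CommRing B] [CommRing R'] (ι : B →+* R') (q' : Ideal R')
    [q'.IsPrime] (n : ℕ) (f : R' → Fin n → B) (hfadd : ∀ s s', f (s + s') = f s + f s')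
    (hfsmul : ∀ (b : B) s, f (ι b * s) = b • f s)
    (x : Fin n → R') (c₀ : R') (hc₀ : c₀ ∉ q')
    (hS : ∀ s, ∑ k, ι (f s k) * x k = c₀ * s)
    (hU : ∀ s ∈ q', ∀ k, ι (f s k) ∈ q')
    (a : R') (ha : a ∉ q') (T : R' → B) (hT : ∀ s, ι (T s) - a * s ∈ q') (m : ℕ) :
    Function.Surjective ((Ideal.Quotient.mk (maximalIdeal (Localization.AtPrime q') ^ m)).comp
        (Localization.localRingHom (q'.comap ι) q' ι rfl)) ∧
      Ideal.comap (Localization.localRingHom (q'.comap ι) q' ι rfl)
        (maximalIdeal (Localization.AtPrime q') ^ m) =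
        maximalIdeal (Localization.AtPrime (q'.comap ι)) ^ m := by
  set p := q'.comap ι with hp
  set φ := Localization.localRingHom p q' ι rfl with hφ
  have hφmap : ∀ b : B, φ (algebraMap B (Localization.AtPrime p) b) =
      algebraMap R' (Localization.AtPrime q') (ι b) := fun b =>
    Localization.localRingHom_to_map _ _ _ _ b
  -- flatness
  have hflat : φ.Flat := by
    letI algBR' : Algebra B R' := ι.toAlgebra
    let f' : R' →ₗ[B] (Fin n → B) :=
      { toFun := f
        map_add' := hfadd
        map_smul' := fun b s => by
          rw [RingHom.id_apply, Algebra.smul_def]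
          exact hfsmul b s }
    have hflatB : Module.Flat B (Localization.AtPrime q') :=
      flat_of_split q' (Localization.AtPrime q') n f' x c₀ hc₀ (fun s => by
        rw [← hS s]
        refine Finset.sum_congr rfl fun k _ => ?_
        rw [Algebra.smul_def]
        rfl)
    letI algAMq : Algebra (Localization.AtPrime p) (Localization.AtPrime q') := φ.toAlgebra
    haveI : IsScalarTower B (Localization.AtPrime p) (Localization.AtPrime q') :=
      IsScalarTower.of_algebraMap_eq (fun b => by
        rw [IsScalarTower.algebraMap_apply B R' (Localization.AtPrime q')]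
        exact (hφmap b).symm)
    exact (Module.flat_iff_of_isLocalization (Localization.AtPrime p) p.primeCompl
      (Localization.AtPrime q')).mpr hflatB
  -- the maximal ideal
  have hm : (maximalIdeal (Localization.AtPrime p)).map φ =
      maximalIdeal (Localization.AtPrime q') := by
    rw [← Localization.AtPrime.map_eq_maximalIdeal (I := p),
      ← Localization.AtPrime.map_eq_maximalIdeal (I := q'), Ideal.map_map]
    have hcomp : φ.comp (algebraMap B (Localization.AtPrime p)) =
        (algebraMap R' (Localization.AtPrime q')).comp ι := RingHom.ext hφmap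
    rw [hcomp, ← Ideal.map_map]
    apply le_antisymm
    · exact Ideal.map_mono Ideal.map_comap_le
    · rw [Ideal.map_le_iff_le_comap]
      intro s hs
      obtain ⟨v, hv⟩ := (IsLocalization.map_units (Localization.AtPrime q')
        (⟨c₀, hc₀⟩ : q'.primeCompl)).exists_left_inv
      have h1 : algebraMap R' (Localization.AtPrime q') s =
          v * algebraMap R' (Localization.AtPrime q') (c₀ * s) := by
        rw [map_mul, ← mul_assoc, hv, one_mul]
      rw [Ideal.mem_comap, h1]
      apply Ideal.mul_mem_left
      apply Ideal.mem_map_of_mem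
      rw [← hS s]
      refine Ideal.sum_mem _ fun k _ => Ideal.mul_mem_right _ _ (Ideal.mem_map_of_mem _ ?_)
      exact hU s hs k
  -- residue fields
  have hres : ∀ z : Localization.AtPrime q', ∃ a' : Localization.AtPrime p,
      z - φ a' ∈ maximalIdeal (Localization.AtPrime q') := by
    intro z
    obtain ⟨⟨s, t⟩, rfl⟩ := IsLocalization.mk'_surjective q'.primeCompl z
    have hb₂ : T t ∉ p := by
      intro hmem
      have h1 : ι (T t) ∈ q' := hmem
      have h2 := q'.sub_mem h1 (hT t)
      rw [sub_sub_cancel] at h2
      exact (‹q'.IsPrime›.mem_or_mem h2).elim ha t.2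
    refine ⟨IsLocalization.mk' (Localization.AtPrime p) (T s) (⟨T t, hb₂⟩ : p.primeCompl), ?_⟩
    have hu : IsUnit (algebraMap R' (Localization.AtPrime q') ((t : R') * ι (T t))) := by
      rw [map_mul]
      exact (IsLocalization.map_units _ t).mul
        (IsLocalization.map_units (Localization.AtPrime q')
          (⟨ι (T t), hb₂⟩ : q'.primeCompl))
    rw [← Ideal.mul_unit_mem_iff_mem _ hu, hφ, Localization.localRingHom_mk']
    have h3 : (IsLocalization.mk' (Localization.AtPrime q') s t -
        IsLocalization.mk' (Localization.AtPrime q') (ι (T s))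
          (⟨ι (T t), hb₂⟩ : q'.primeCompl)) *
        algebraMap R' (Localization.AtPrime q') ((t : R') * ι (T t)) =
        algebraMap R' (Localization.AtPrime q') (s * ι (T t) - ι (T s) * t) := by
      rw [map_sub, map_mul, map_mul, map_mul, sub_mul]
      congr 1
      · rw [← mul_assoc, IsLocalization.mk'_spec]
      · rw [mul_comm (algebraMap R' (Localization.AtPrime q') (t : R')), ← mul_assoc]
        have := IsLocalization.mk'_spec (Localization.AtPrime q') (ι (T s))
          (⟨ι (T t), hb₂⟩ : q'.primeCompl)
        rw [this]
    rw [h3, IsLocalization.AtPrime.to_map_mem_maximal_iff (Localization.AtPrime q') q']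
    have h4 : s * ι (T t) - ι (T s) * t = s * (ι (T t) - a * t) - (ι (T s) - a * s) * t := by ring
    rw [h4]
    exact q'.sub_mem (Ideal.mul_mem_left _ _ (hT t)) (Ideal.mul_mem_right _ _ (hT s))
  exact bijective_mod_pow φ hflat hm hres m

section main

variable (G R : Type*) [Group G] [Finite G] [CommRing R] [MulSemiringAction G R]

theorem main (H : Subgroup G) (q : Ideal R) [q.IsPrime] (hD : MulAction.stabilizer G q ≤ H)
    (hle : FixedPoints.subring R G ≤ FixedPoints.subring R H) (n : ℕ) :
    Function.Surjective ((Ideal.Quotient.mk (maximalIdeal (Localization.AtPrime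
        (Ideal.comap (FixedPoints.subring R H).subtype q)) ^ n)).comp
        (Localization.localRingHom ((Ideal.comap (FixedPoints.subring R H).subtype q).comap
          (Subring.inclusion hle)) (Ideal.comap (FixedPoints.subring R H).subtype q)
          (Subring.inclusion hle) rfl)) ∧
      Ideal.comap (Localization.localRingHom
          ((Ideal.comap (FixedPoints.subring R H).subtype q).comap
          (Subring.inclusion hle)) (Ideal.comap (FixedPoints.subring R H).subtype q)
          (Subring.inclusion hle) rfl)
        (maximalIdeal (Localization.AtPrime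
          (Ideal.comap (FixedPoints.subring R H).subtype q)) ^ n) =
        maximalIdeal (Localization.AtPrime ((Ideal.comap (FixedPoints.subring R H).subtype q).comap
          (Subring.inclusion hle))) ^ n := by
  classical
  cases nonempty_fintype G
  haveI : Fintype (G ⧸ H) := Fintype.ofFinite _
  obtain ⟨a, ha, hga⟩ := exists_a H q hD
  refine assemble (Subring.inclusion hle) (Ideal.comap (FixedPoints.subring R H).subtype q)
    ((P H a).natDegree + 1) (fun s k => tr H (a ^ ((k : ℕ) + 1) * s)) ?_ ?_
    (fun k => xk H a k) (c0 H a) ?_ ?_ ?_ a ha (fun s => tr H (a * s)) ?_ n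
  · intro s s'
    funext k
    show tr H (a ^ ((k : ℕ) + 1) * (s + s')) = tr H (a ^ ((k : ℕ) + 1) * s) +
      tr H (a ^ ((k : ℕ) + 1) * s')
    rw [mul_add, tr_add]
  · intro b s
    funext k
    show tr H (a ^ ((k : ℕ) + 1) * (Subring.inclusion hle b * s)) =
      b * tr H (a ^ ((k : ℕ) + 1) * s)
    apply Subtype.ext
    rw [mul_left_comm, tr_mul_of_fixed H (Subring.inclusion hle b) _ (fun g => b.2 g)]
    rfl
  · show ((c0 H a : FixedPoints.subring R H) : R) ∉ q
    rw [coe_c0]
    intro hmem
    exact (‹q.IsPrime›.mem_or_mem hmem).elim ha (eval_P_not_mem H a q ha hga)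
  · intro s
    apply Subtype.ext
    rw [AddSubmonoidClass.coe_finsetSum]
    exact split H a s
  · intro s hs k
    exact tr_mem_of_mem H a q hga s hs k
  · intro s
    exact tr_sub_mem H a q hga s

end main

end Groth.Agent.Lib.DecompSplit4H3
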