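import Mathlib

set_option autoImplicit false
universe u

open CategoryTheory AlgebraicGeometry Opposite

namespace DedH8

section Alg

variable {A : Type u} [CommRing A] [IsDomain A]

/-- A nonzero finitely generated projective ideal of a domain is locally principal, in the
following explicit sense. -/
theorem exists_local_generators (I : Ideal A) [Module.Finite A I] [Module.Projective A I]
    (hI : I ≠ ⊥) :
    ∃ (n : ℕ) (a : Fin n → A) (c : Fin n → A), (∀ i, a i ∈ I) ∧ ∑ i, c i = 1 ∧
      ∀ i, ∀ x ∈ I, ∃ y : A, x * c i = y * a i := by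
  obtain ⟨n, f, g, -, -, hfg⟩ := Module.Finite.exists_comp_eq_id_of_projective A I
  have hmul : ∀ (φ : I →ₗ[A] A) (x y : I), (x : A) * φ y = (y : A) * φ x := by
    intro φ x y
    have h1 : φ ((x : A) • y) = (x : A) * φ y := by rw [map_smul, smul_eq_mul]
    have h2 : φ ((y : A) • x) = (y : A) * φ x := by rw [map_smul, smul_eq_mul]
    have h3 : (x : A) • y = (y : A) • x := by
      apply Subtype.ext
      simp [mul_comm]
    rw [← h1, ← h2, h3]
  let a : Fin n → I := fun i => f (Pi.single i 1)
  let φ : Fin n → (I →ₗ[A] A) := fun i => (LinearMap.proj i).comp g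
  have hsum : ∀ x : I, x = ∑ i, φ i x • a i := by
    intro x
    have h1 : f (g x) = x := by
      have := congrArg (fun l => l x) hfg
      simpa using this
    conv_lhs => rw [← h1]
    rw [LinearMap.pi_apply_eq_sum_univ f (g x)]
    apply Finset.sum_congr rfl
    intro i _
    have e : (fun j => if i = j then (1 : A) else 0) = Pi.single i 1 := by
      ext j
      simp [Pi.single_apply, eq_comm]
    rw [e]
    rfl
  refine ⟨n, fun i => (a i : A), fun i => φ i (a i), fun i => (a i).2, ?_, ?_⟩
  · obtain ⟨x, hxI, hx0⟩ := Submodule.exists_mem_ne_zero_of_ne_bot hI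
    have h1 := congrArg (fun z : I => (z : A)) (hsum ⟨x, hxI⟩)
    simp only [Submodule.coe_sum, Submodule.coe_smul, smul_eq_mul] at h1
    have h2 : x = x * ∑ i, φ i (a i) := by
      rw [Finset.mul_sum]
      conv_lhs => rw [h1]
      apply Finset.sum_congr rfl
      intro i _
      have := hmul (φ i) ⟨x, hxI⟩ (a i)
      simp only at this
      rw [this, mul_comm]
    have h3 : x * 1 = x * ∑ i, φ i (a i) := by rw [mul_one]; exact h2
    exact (mul_left_cancel₀ hx0 h3).symm
  · intro i x hx
    refine ⟨φ i ⟨x, hx⟩, ?_⟩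
    have := hmul (φ i) ⟨x, hx⟩ (a i)
    simp only at this
    rw [this, mul_comm]

end Alg

section Sch

variable {A : Type u} [CommRing A]

/-- If the ideal `I` is "locally principal" in the explicit sense of `exists_local_generators`,
the complement of its zero locus is an affine open. -/
theorem isAffineOpen_of_local_generators (I : Ideal A) (U : (Spec (CommRingCat.of A)).Opens)
    (hU : ∀ q : PrimeSpectrum A, q ∈ U ↔ ¬ (I ≤ q.asIdeal))
    (n : ℕ) (a : Fin n → A) (c : Fin n → A) (ha : ∀ i, a i ∈ I) (hc : ∑ i, c i = 1)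
    (hac : ∀ i, ∀ x ∈ I, ∃ y : A, x * c i = y * a i) : IsAffineOpen U := by
  let r : A →+* Γ(Spec (CommRingCat.of A), U) :=
    ((Scheme.ΓSpecIso (CommRingCat.of A)).inv ≫
      (Spec (CommRingCat.of A)).presheaf.map (homOfLE (le_top : U ≤ ⊤)).op).hom
  apply isAffineOpen_of_isAffineOpen_basicOpen U (Set.range fun i => r (c i))
  · rw [Ideal.eq_top_iff_one]
    have : (1 : Γ(Spec (CommRingCat.of A), U)) = ∑ i, r (c i) := by
      rw [← map_sum, hc, map_one]
    rw [this]
    exact Ideal.sum_mem _ fun i _ => Ideal.subset_span ⟨i, rfl⟩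
  · rintro _ ⟨i, rfl⟩
    have e1 : (Spec (CommRingCat.of A)).basicOpen (r (c i)) =
        U ⊓ (Spec (CommRingCat.of A)).basicOpen ((Scheme.ΓSpecIso (CommRingCat.of A)).inv (c i)) :=
      Scheme.basicOpen_res _ _ _
    have e2 : U ⊓ (Spec (CommRingCat.of A)).basicOpen
        ((Scheme.ΓSpecIso (CommRingCat.of A)).inv (c i)) = PrimeSpectrum.basicOpen (a i * c i) := by
      rw [basicOpen_eq_of_affine]
      ext q
      change q ∈ U ∧ c i ∉ PrimeSpectrum.asIdeal q ↔ a i * c i ∉ PrimeSpectrum.asIdeal q
      constructor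
      · rintro ⟨h1, h2⟩
        obtain ⟨x, hxI, hxq⟩ := SetLike.not_le_iff_exists.mp ((hU q).mp h1)
        obtain ⟨y, hy⟩ := hac i x hxI
        have h3 : x * c i ∉ q.asIdeal := fun h => (q.2.mem_or_mem h).elim hxq h2
        intro h4
        rcases q.2.mem_or_mem h4 with h5 | h5
        · exact h3 (hy ▸ Ideal.mul_mem_left _ _ h5)
        · exact h2 h5
      · intro h
        refine ⟨(hU q).mpr fun hle => h (Ideal.mul_mem_right _ _ (hle (ha i))),
          fun h2 => h (Ideal.mul_mem_left _ _ h2)⟩
    rw [e1, e2]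
    exact IsAffineOpen.Spec_basicOpen (R := CommRingCat.of A) (a i * c i)

theorem isAffineOpen_of_isDedekindDomain [IsDedekindDomain A]
    (U : (Spec (CommRingCat.of A)).Opens) : IsAffineOpen U := by
  obtain ⟨s, hs⟩ := (PrimeSpectrum.isOpen_iff _).mp U.isOpen
  have hU : ∀ q : PrimeSpectrum A, q ∈ U ↔ ¬ (Ideal.span s ≤ q.asIdeal) := by
    intro q
    have h1 : q ∈ U ↔ q ∉ ((U : Set (Spec (CommRingCat.of A)))ᶜ : Set (PrimeSpectrum A)) := by
      rw [Set.mem_compl_iff, not_not]; rfl
    rw [h1, hs, PrimeSpectrum.mem_zeroLocus, Ideal.span_le]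
  by_cases hI : Ideal.span s = ⊥
  · have : U = ⊥ := by
      ext q
      change q ∈ U ↔ q ∈ (⊥ : (Spec (CommRingCat.of A)).Opens)
      have := hU q
      rw [hI] at this
      simp only [bot_le, not_true_eq_false] at this
      constructor
      · intro h; exact (this.mp h).elim
      · intro h; exact h.elim
    rw [this]
    exact isAffineOpen_bot _
  · haveI : Module.FinitePresentation A (Ideal.span s : Ideal A) :=
      Module.finitePresentation_of_finite A _
    haveI : Module.Projective A (Ideal.span s : Ideal A) :=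
      Module.Flat.projective_of_finitePresentation
    obtain ⟨n, a, c, ha, hc, hac⟩ := exists_local_generators (Ideal.span s) hI
    exact isAffineOpen_of_local_generators (Ideal.span s) U hU n a c ha hc hac

end Sch

end DedH8
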