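import Mathlib
import Groth.Prelude
import Groth.Agent.Lib.TraceEtale_lead

set_option autoImplicit false
set_option linter.style.haveILetI false

universe u

open QFDual

namespace Groth.Agent.Lib.DedCompH4

variable {A K B L : Type u} [CommRing A] [CommRing K] [CommRing B] [CommRing L]
  [Algebra A K] [Algebra A B] [Algebra B L] [Algebra K L] [Algebra A L]
  [IsScalarTower A K L] [IsScalarTower A B L]

lemma trace_smulA (a : A) (y : L) :
    Algebra.trace K L (a • y) = algebraMap A K a * Algebra.trace K L y := by
  rw [← algebraMap_smul K a y, map_smul, smul_eq_mul]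

theorem main (h : IsDedekindDefined A K B L) :
    ∃ e : complementary A K B L ≃ₗ[B] Disc.Omega A B,
      ∀ (x : complementary A K B L) (b : B),
        algebraMap A K ((e x).toLinearMap b) = Algebra.trace K L ((x : L) * algebraMap B L b) := by
  haveI := h.isFractionRing
  haveI := h.isLocalization
  haveI := h.etale
  haveI := h.free
  haveI := h.finiteKL
  have inj : Function.Injective (algebraMap A K) := IsFractionRing.injective A K
  have hT : Function.Bijective (Algebra.traceForm K L) :=
    (Groth.Agent.Lib.TraceEtale.S2733_main K L).1 inferInstance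
  -- the values
  have hex : ∀ (x : complementary A K B L) (b : B),
      ∃ a : A, algebraMap A K a = Algebra.trace K L ((x : L) * algebraMap B L b) :=
    fun x b => x.2 b
  choose g hg using hex
  have g_add : ∀ x b b', g x (b + b') = g x b + g x b' := by
    intro x b b'
    apply inj
    rw [map_add, hg, hg, hg, map_add, mul_add, map_add]
  have g_smul : ∀ x (a : A) b, g x (a • b) = a • g x b := by
    intro x a b
    apply inj
    have key : (x : L) * algebraMap B L (a • b) = a • ((x : L) * algebraMap B L b) := by
      rw [Algebra.smul_def a b, map_mul (algebraMap B L), ← IsScalarTower.algebraMap_apply A B L,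
        Algebra.smul_def a ((x : L) * algebraMap B L b)]
      ring
    calc algebraMap A K (g x (a • b))
        = Algebra.trace K L ((x : L) * algebraMap B L (a • b)) := hg x (a • b)
      _ = Algebra.trace K L (a • ((x : L) * algebraMap B L b)) := by rw [key]
      _ = algebraMap A K a * Algebra.trace K L ((x : L) * algebraMap B L b) := trace_smulA a _
      _ = algebraMap A K a * algebraMap A K (g x b) := by rw [hg]
      _ = algebraMap A K (a • g x b) := by rw [smul_eq_mul, map_mul]
  have g_addx : ∀ x y b, g (x + y) b = g x b + g y b := by
    intro x y b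
    apply inj
    rw [map_add, hg, hg, hg, Submodule.coe_add, add_mul, map_add]
  have g_smulx : ∀ (c : B) x b, g (c • x) b = g x (c * b) := by
    intro c x b
    apply inj
    have key : ((c • x : complementary A K B L) : L) * algebraMap B L b =
        (x : L) * algebraMap B L (c * b) := by
      rw [Submodule.coe_smul, Algebra.smul_def, map_mul (algebraMap B L)]
      ring
    rw [hg, hg, key]
  obtain ⟨e₀, he₀⟩ : ∃ e₀ : complementary A K B L →ₗ[B] Disc.Omega A B,
      ∀ x b, (e₀ x).toLinearMap b = g x b :=
    ⟨{ toFun := fun x => ⟨{ toFun := g x, map_add' := g_add x, map_smul' := fun a b => g_smul x a b }⟩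
       map_add' := fun x y => Disc.Omega.ext (LinearMap.ext fun b => g_addx x y b)
       map_smul' := fun c x => Disc.Omega.ext (LinearMap.ext fun b => g_smulx c x b) },
     fun _ _ => rfl⟩
  have hinj : Function.Injective e₀ := by
    rw [injective_iff_map_eq_zero]
    intro x hx
    have h0 : ∀ b : B, Algebra.trace K L ((x : L) * algebraMap B L b) = 0 := by
      intro b
      rw [← hg, ← he₀, hx]
      exact map_zero _
    have hTx : Algebra.traceForm K L (x : L) = 0 := by
      apply LinearMap.ext
      intro l
      rw [Algebra.traceForm_apply, LinearMap.zero_apply]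
      obtain ⟨⟨b, s⟩, hbs⟩ := IsLocalization.surj (Algebra.algebraMapSubmonoid B (nonZeroDivisors A)) l
      obtain ⟨a, ha, has⟩ := s.2
      have hs : algebraMap B L (s : B) = algebraMap A L a := by
        rw [← has, ← IsScalarTower.algebraMap_apply]
      have h1 : a • l = algebraMap B L b := by
        rw [Algebra.smul_def, ← hs, mul_comm]
        exact hbs
      have h2 : algebraMap A K a * Algebra.trace K L ((x : L) * l) = 0 := by
        rw [← trace_smulA, ← mul_smul_comm, h1, h0]
      have hu : IsUnit (algebraMap A K a) := IsLocalization.map_units K (⟨a, ha⟩ : nonZeroDivisors A)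
      exact (hu.mul_right_eq_zero).1 h2
    have hx0 : (x : L) = 0 := by
      apply hT.1
      rw [hTx, map_zero]
    exact Subtype.ext hx0
  have hsurj : Function.Surjective e₀ := by
    intro φ
    let Φ : L →ₗ[K] K := IsLocalizedModule.mapExtendScalars (nonZeroDivisors A)
      (IsScalarTower.toAlgHom A B L).toLinearMap (Algebra.linearMap A K) K φ.toLinearMap
    have hΦ : ∀ b : B, Φ (algebraMap B L b) = algebraMap A K (φ.toLinearMap b) := by
      intro b
      exact IsLocalizedModule.map_apply (nonZeroDivisors A)
        (IsScalarTower.toAlgHom A B L).toLinearMap (Algebra.linearMap A K) φ.toLinearMap b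
    obtain ⟨x, hx⟩ := hT.2 Φ
    have hxb : ∀ b : B, Algebra.trace K L (x * algebraMap B L b) = algebraMap A K (φ.toLinearMap b) := by
      intro b
      rw [← hΦ, ← hx, Algebra.traceForm_apply]
    have hxmem : x ∈ complementary A K B L := fun b => ⟨φ.toLinearMap b, (hxb b).symm⟩
    refine ⟨⟨x, hxmem⟩, ?_⟩
    apply Disc.Omega.ext
    apply LinearMap.ext
    intro b
    apply inj
    rw [he₀, hg, hxb]
  refine ⟨LinearEquiv.ofBijective e₀ ⟨hinj, hsurj⟩, fun x b => ?_⟩
  show algebraMap A K ((e₀ x).toLinearMap b) = _
  rw [he₀, hg]

end Groth.Agent.Lib.DedCompH4
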