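import Mathlib
import Groth.Prelude
import Groth.Agent.Lib.DedComp_helper4

set_option autoImplicit false
set_option linter.style.haveILetI false

universe u

open QFDual

namespace Groth.Agent.Lib.DedDiffH4

variable {A K B L : Type u} [CommRing A] [CommRing K] [CommRing B] [CommRing L]
  [Algebra A K] [Algebra A B] [Algebra B L] [Algebra K L] [Algebra A L]
  [IsScalarTower A K L] [IsScalarTower A B L]

theorem main (h : IsDedekindDefined A K B L) [Module.Finite A B] [Module.Free A B] :
    dedekindDifferent A K B L =
      Submodule.map (Algebra.linearMap B L) (different B (Disc.Omega.trace A B)) := by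
  haveI := h.isFractionRing
  haveI := h.isLocalization
  have inj : Function.Injective (algebraMap A K) := IsFractionRing.injective A K
  obtain ⟨e, he⟩ := Groth.Agent.Lib.DedCompH4.main h
  have htr : ∀ b : B, Algebra.trace K L (algebraMap B L b) = algebraMap A K (Algebra.trace A B b) :=
    fun b => Algebra.trace_localization A (nonZeroDivisors A) b
  have h1 : (1 : L) ∈ complementary A K B L := fun b => ⟨Algebra.trace A B b, by rw [one_mul, htr]⟩
  have he1 : e ⟨1, h1⟩ = Disc.Omega.trace A B := by
    apply Disc.Omega.ext
    apply LinearMap.ext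
    intro b
    apply inj
    rw [he]
    show Algebra.trace K L ((1 : L) * algebraMap B L b) = algebraMap A K (Algebra.trace A B b)
    rw [one_mul, htr]
  have hc1 : ∀ c : B, ((c • (⟨1, h1⟩ : complementary A K B L) : complementary A K B L) : L) =
      algebraMap B L c := by
    intro c
    rw [Submodule.coe_smul, Algebra.smul_def]
    exact mul_one _
  apply le_antisymm
  · intro x hx
    have hx' : ∀ y ∈ complementary A K B L, x * y ∈ (algebraMap B L).range := hx
    obtain ⟨b, hb⟩ := RingHom.mem_range.1 (hx' 1 h1)
    rw [mul_one] at hb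
    refine Submodule.mem_map.2 ⟨b, ?_, hb⟩
    rw [mem_different_iff]
    intro m
    obtain ⟨y, rfl⟩ := e.surjective m
    obtain ⟨c, hc⟩ := RingHom.mem_range.1 (hx' (y : L) y.2)
    refine ⟨c, ?_⟩
    rw [← he1, ← map_smul, ← map_smul]
    congr 1
    apply Subtype.ext
    rw [hc1, Submodule.coe_smul, Algebra.smul_def, hb]
    exact hc
  · intro x hx
    obtain ⟨b, hb, rfl⟩ := Submodule.mem_map.1 hx
    rw [mem_different_iff] at hb
    show ∀ y ∈ complementary A K B L, Algebra.linearMap B L b * y ∈ (algebraMap B L).range
    intro y hy
    obtain ⟨c, hc⟩ := hb (e ⟨y, hy⟩)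
    refine RingHom.mem_range.2 ⟨c, ?_⟩
    have h2 : c • (⟨1, h1⟩ : complementary A K B L) = b • (⟨y, hy⟩ : complementary A K B L) := by
      apply e.injective
      rw [map_smul, map_smul, he1]
      exact hc
    have h3 := congrArg (fun z : complementary A K B L => (z : L)) h2
    have h4 : algebraMap B L c = ((b • (⟨y, hy⟩ : complementary A K B L) :
        complementary A K B L) : L) := (hc1 c).symm.trans h3
    rw [h4, Submodule.coe_smul, Algebra.smul_def]
    rfl

end Groth.Agent.Lib.DedDiffH4
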