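import Mathlib

universe u

namespace Groth.Agent.Lib.PruferAlgH8

/-- quotients of a Prüfer domain by primes are Prüfer. -/
theorem valuationRing_localization_quotient {R : Type u} [CommRing R] [IsDomain R]
    (hR : ∀ (𝔭 : Ideal R) [𝔭.IsPrime], ValuationRing (Localization.AtPrime 𝔭))
    (p : Ideal R) [p.IsPrime] (m' : Ideal (R ⧸ p)) [m'.IsPrime] :
    ValuationRing (Localization.AtPrime m') := by
  set m := m'.comap (Ideal.Quotient.mk p) with hm
  haveI : m.IsPrime := Ideal.comap_isPrime _ _
  haveI := hR m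
  let g := Localization.localRingHom m m' (Ideal.Quotient.mk p) rfl
  have hsurj : Function.Surjective g := by
    intro z
    obtain ⟨a', s', rfl⟩ := IsLocalization.exists_mk'_eq m'.primeCompl z
    obtain ⟨a, rfl⟩ := Ideal.Quotient.mk_surjective a'
    obtain ⟨s, hs⟩ := Ideal.Quotient.mk_surjective s'.1
    have hsm : s ∈ m.primeCompl := by
      intro h
      apply s'.2
      rw [← hs]
      exact h
    refine ⟨IsLocalization.mk' _ a ⟨s, hsm⟩, ?_⟩
    rw [Localization.localRingHom_mk']
    congr 1
    exact Subtype.ext hs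
  exact Function.Surjective.valuationRing g hsurj

/-- going-between over a Prüfer domain. -/
theorem exists_between_liesOver {R S : Type u} [CommRing R] [IsDomain R] [CommRing S] [Algebra R S]
    (hR : ∀ (𝔭 : Ideal R) [𝔭.IsPrime], ValuationRing (Localization.AtPrime 𝔭))
    (P Q : Ideal S) [hP : P.IsPrime] [hQ : Q.IsPrime] (hPQ : P ≤ Q) (r : Ideal R) [hr : r.IsPrime]
    (h1 : P.under R ≤ r) (h2 : r ≤ Q.under R) :
    ∃ Z : Ideal S, Z.IsPrime ∧ P ≤ Z ∧ Z ≤ Q ∧ Z.under R = r := by
  set p := P.under R with hp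
  haveI : p.IsPrime := Ideal.comap_isPrime _ _
  have hinj : Function.Injective (algebraMap (R ⧸ p) (S ⧸ P)) := Ideal.algebraMap_quotient_injective
  haveI : FaithfulSMul (R ⧸ p) (S ⧸ P) := (faithfulSMul_iff_algebraMap_injective _ _).mpr hinj
  haveI : Module.Flat (R ⧸ p) (S ⧸ P) := by
    rw [Module.Flat.flat_iff_torsion_eq_bot_of_valuationRing_localization_isMaximal
      (fun m' hm' => valuationRing_localization_quotient hR p m'),
      ← Submodule.isTorsionFree_iff_torsion_eq_bot]
    infer_instance
  -- primes in the quotients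
  set Q' : Ideal (S ⧸ P) := Q.map (Ideal.Quotient.mk P) with hQ'
  have hkerS : RingHom.ker (Ideal.Quotient.mk P) ≤ Q := by rw [Ideal.mk_ker]; exact hPQ
  haveI hQ'p : Q'.IsPrime := Ideal.map_isPrime_of_surjective Ideal.Quotient.mk_surjective hkerS
  have hQ'c : Q'.comap (Ideal.Quotient.mk P) = Q := by
    rw [hQ', Ideal.comap_map_of_surjective _ Ideal.Quotient.mk_surjective,
      ← RingHom.ker_eq_comap_bot]
    exact sup_eq_left.mpr hkerS
  set r' : Ideal (R ⧸ p) := r.map (Ideal.Quotient.mk p) with hr'
  have hkerR : RingHom.ker (Ideal.Quotient.mk p) ≤ r := by rw [Ideal.mk_ker]; exact h1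
  haveI hr'p : r'.IsPrime := Ideal.map_isPrime_of_surjective Ideal.Quotient.mk_surjective hkerR
  have hr'c : r'.comap (Ideal.Quotient.mk p) = r := by
    rw [hr', Ideal.comap_map_of_surjective _ Ideal.Quotient.mk_surjective,
      ← RingHom.ker_eq_comap_bot]
    exact sup_eq_left.mpr hkerR
  -- compatibility of the two composite maps R → S/P
  have hcomp : (algebraMap (R ⧸ p) (S ⧸ P)).comp (Ideal.Quotient.mk p) =
      (Ideal.Quotient.mk P).comp (algebraMap R S) := by
    ext a
    exact Ideal.Quotient.algebraMap_mk_of_liesOver P p a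
  have hle' : r' ≤ Q'.under (R ⧸ p) := by
    rw [hr', Ideal.map_le_iff_le_comap]
    intro a ha
    rw [Ideal.mem_comap, Ideal.under_def, Ideal.mem_comap]
    have h3 : (algebraMap (R ⧸ p) (S ⧸ P)) ((Ideal.Quotient.mk p) a) =
        (Ideal.Quotient.mk P) (algebraMap R S a) := congrArg (fun ψ => ψ a) hcomp
    rw [h3, hQ']
    apply Ideal.mem_map_of_mem
    exact h2 ha
  obtain ⟨Z', hZ'Q, hZ'p, hZ'over⟩ :=
    Ideal.exists_ideal_le_liesOver_of_le (p := r') (q := Q'.under (R ⧸ p)) Q' hle'
  refine ⟨Z'.comap (Ideal.Quotient.mk P), Ideal.comap_isPrime _ _, ?_, ?_, ?_⟩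
  · intro s hs
    rw [Ideal.mem_comap, Ideal.Quotient.eq_zero_iff_mem.mpr hs]
    exact zero_mem _
  · rw [← hQ'c]
    exact Ideal.comap_mono hZ'Q
  · rw [Ideal.under_def, Ideal.comap_comap, ← hcomp, ← Ideal.comap_comap, ← hr'c]
    congr 1
    exact (hZ'over.over).symm

/-- primes below a given prime of a Prüfer domain are totally ordered. -/
theorem primes_le_total {R : Type u} [CommRing R] [IsDomain R]
    (hR : ∀ (𝔭 : Ideal R) [𝔭.IsPrime], ValuationRing (Localization.AtPrime 𝔭))
    (q : Ideal R) [q.IsPrime] (a b : Ideal R) [ha : a.IsPrime] [hb : b.IsPrime] (haq : a ≤ q)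
    (hbq : b ≤ q) : a ≤ b ∨ b ≤ a := by
  haveI := hR q
  have htot := (ValuationRing.iff_ideal_total (R := Localization.AtPrime q)).mp inferInstance
  have hda : Disjoint (q.primeCompl : Set R) (a : Set R) := by
    rw [Set.disjoint_left]; intro c hc hc'; exact hc (haq hc')
  have hdb : Disjoint (q.primeCompl : Set R) (b : Set R) := by
    rw [Set.disjoint_left]; intro c hc hc'; exact hc (hbq hc')
  have ea := IsLocalization.under_map_of_isPrime_disjoint q.primeCompl (Localization.AtPrime q) ha hda
  have eb := IsLocalization.under_map_of_isPrime_disjoint q.primeCompl (Localization.AtPrime q) hb hdb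
  rcases htot.total (a.map (algebraMap R (Localization.AtPrime q)))
    (b.map (algebraMap R (Localization.AtPrime q))) with h | h
  · left
    rw [← ea, ← eb]
    exact Ideal.comap_mono h
  · right
    rw [← ea, ← eb]
    exact Ideal.comap_mono h

theorem height_ne_top {R : Type u} [CommRing R] (hdim : ringKrullDim R < ⊤) (p : Ideal R)
    [p.IsPrime] : p.height ≠ ⊤ := by
  intro h
  have h1 := Ideal.height_le_ringKrullDim_of_ne_top (I := p) Ideal.IsPrime.ne_top'
  rw [h] at h1
  exact absurd (lt_of_le_of_lt h1 hdim) (lt_irrefl _)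

theorem height_toNat_lt {R : Type u} [CommRing R] (hdim : ringKrullDim R < ⊤) (p q : Ideal R)
    [p.IsPrime] [q.IsPrime] (hpq : p < q) : p.height.toNat < q.height.toNat := by
  haveI : p.FiniteHeight := ⟨Or.inr (height_ne_top hdim p)⟩
  have h := Ideal.height_strict_mono_of_isPrime hpq
  rw [← ENat.natCast_toNat (height_ne_top hdim p), ← ENat.natCast_toNat (height_ne_top hdim q)] at h
  exact_mod_cast h

theorem height_toNat_succ {R : Type u} [CommRing R] [IsDomain R]
    (hR : ∀ (𝔭 : Ideal R) [𝔭.IsPrime], ValuationRing (Localization.AtPrime 𝔭))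
    (hdim : ringKrullDim R < ⊤) (p q : Ideal R) [p.IsPrime] [q.IsPrime] (hpq : p < q)
    (hno : ∀ r : Ideal R, r.IsPrime → p < r → r < q → False) :
    q.height.toNat = p.height.toNat + 1 := by
  apply le_antisymm
  · have h1 : q.height ≤ ((p.height.toNat + 1 : ℕ) : ℕ∞) := by
      rw [Ideal.height_le_iff]
      intro r hr hrq
      haveI := hr
      have hrp : r ≤ p := by
        rcases primes_le_total hR q r p hrq.le hpq.le with h | h
        · exact h
        · by_contra hne
          exact hno r hr (lt_of_le_of_ne h (fun e => hne (e ▸ le_rfl))) hrq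
      have h2 : r.height ≤ p.height := Ideal.height_mono hrp
      have h3 : p.height = (p.height.toNat : ℕ∞) := (ENat.natCast_toNat (height_ne_top hdim p)).symm
      rw [h3] at h2
      refine lt_of_le_of_lt h2 ?_
      exact_mod_cast Nat.lt_succ_self _
    have h4 : q.height = (q.height.toNat : ℕ∞) := (ENat.natCast_toNat (height_ne_top hdim q)).symm
    rw [h4] at h1
    exact_mod_cast h1
  · exact height_toNat_lt hdim p q hpq

end Groth.Agent.Lib.PruferAlgH8
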