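import Mathlib

/-! Valuation rings through a specialization. -/

universe u

namespace Groth.Agent.Lib.GenDimH8

open AlgebraicGeometry CategoryTheory Limits IsLocalRing

/-- For a specialization `s' ⤳ s` in a scheme there is a valuation ring `R` and a morphism
`Spec R ⟶ S` mapping the generic point to `s'` and the closed point to `s`. -/
theorem exists_valuationRing_of_specializes {S : Scheme.{u}} (s s' : S) (h : s' ⤳ s) :
    ∃ (R : Type u) (_ : CommRing R) (_ : IsDomain R) (_ : ValuationRing R)
      (g : Spec (CommRingCat.of R) ⟶ S),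
      g (⟨⊥, Ideal.isPrime_bot⟩ : PrimeSpectrum R) = s' ∧ g (IsLocalRing.closedPoint R) = s := by
  let φ : S.presheaf.stalk s ⟶ S.residueField s' := S.presheaf.stalkSpecializes h ≫ S.residue s'
  obtain ⟨A, hA, hA_local⟩ := exists_factor_valuationRing φ.hom
  let ψ : S.presheaf.stalk s ⟶ .of A := CommRingCat.ofHom (φ.hom.codRestrict _ hA)
  refine ⟨A, inferInstance, inferInstance, inferInstance, Spec.map ψ ≫ S.fromSpecStalk s, ?_, ?_⟩
  · have w : S.fromSpecResidueField s' =
        Spec.map (CommRingCat.ofHom (algebraMap A (S.residueField s'))) ≫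
          Spec.map ψ ≫ S.fromSpecStalk s := by
      rw [Scheme.fromSpecResidueField, ← Scheme.SpecMap_stalkSpecializes_fromSpecStalk h]
      simp_rw [← Spec.map_comp_assoc]
      rfl
    have hpt : Spec.map (CommRingCat.ofHom (algebraMap A (S.residueField s')))
        (closedPoint (S.residueField s')) = (⟨⊥, Ideal.isPrime_bot⟩ : PrimeSpectrum A) := by
      apply PrimeSpectrum.ext
      show Ideal.comap (algebraMap A (S.residueField s')) (maximalIdeal (S.residueField s')) = ⊥
      rw [IsLocalRing.maximalIdeal_eq_bot, ← RingHom.ker_eq_comap_bot,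
        (RingHom.injective_iff_ker_eq_bot _).mp]
      exact Subtype.val_injective
    rw [← hpt, ← Scheme.Hom.comp_apply, ← w]
    exact Scheme.fromSpecResidueField_apply s' _
  · rw [Scheme.Hom.comp_apply]
    have : Spec.map ψ (closedPoint A) = closedPoint (S.presheaf.stalk s) :=
      comap_closedPoint (S := A) (φ.hom.codRestrict A.toSubring hA)
    rw [this, S.fromSpecStalk_closedPoint]

end Groth.Agent.Lib.GenDimH8
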