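import Mathlib
import Groth.Prelude
import Groth.Agent.Lib.PDTransport_helper8
import Groth.Agent.Lib.QCohLoc_helper4

set_option autoImplicit false
universe u

open CategoryTheory AlgebraicGeometry TopologicalSpace Opposite
open Groth.Agent.Lib.QCohLoc_helper4

namespace PDStalkH8

variable {X : Scheme.{u}} (F : X.Modules) [F.IsQuasicoherent]

/-- The stalk of a quasi-coherent module at a point of an affine open has the same projective
dimension as the localization of the module of sections. -/
theorem pd_stalk_eq {U : X.Opens} (hU : IsAffineOpen U) {x : X} (hx : x ∈ U) :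
    projectiveDimension (ModuleCat.of (X.presheaf.stalk x) (F.presheaf.stalk x)) =
      projectiveDimension (ModuleCat.of (Localization.AtPrime (hU.primeIdealOf ⟨x, hx⟩).asIdeal)
        (LocalizedModule (hU.primeIdealOf ⟨x, hx⟩).asIdeal.primeCompl Γ(F, U))) := by
  have hloc : LocOn F U := locOn_of_isQuasicoherent F hU
  set p := (hU.primeIdealOf ⟨x, hx⟩).asIdeal with hp
  letI := TopCat.Presheaf.algebra_section_stalk X.presheaf (⟨x, hx⟩ : U)
  haveI : IsLocalization.AtPrime (X.presheaf.stalk x) p := hU.isLocalization_stalk ⟨x, hx⟩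
  have halg : ∀ a : Γ(X, U), algebraMap Γ(X, U) (X.presheaf.stalk x) a =
      (X.presheaf.germ U x hx).hom a := fun _ => rfl
  letI modA : Module Γ(X, U) (F.presheaf.stalk x) :=
    Module.compHom _ (algebraMap Γ(X, U) (X.presheaf.stalk x))
  haveI : IsScalarTower Γ(X, U) (X.presheaf.stalk x) (F.presheaf.stalk x) :=
    IsScalarTower.of_algebraMap_smul (fun _ _ => rfl)
  let γ : Γ(F, U) →ₗ[Γ(X, U)] (F.presheaf.stalk x) :=
    { toFun := fun m => F.presheaf.germ U x hx m
      map_add' := fun a b => map_add _ a b
      map_smul' := fun a m => germ_smul F U x hx a m }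
  have hunit : ∀ s : p.primeCompl, IsUnit (algebraMap Γ(X, U) (X.presheaf.stalk x) s) :=
    fun s => IsLocalization.map_units (X.presheaf.stalk x) s
  haveI : IsLocalizedModule p.primeCompl γ := by
    refine ⟨?_, ?_, ?_⟩
    · intro s
      rw [Module.End.isUnit_iff]
      obtain ⟨u, hu⟩ := hunit s
      constructor
      · intro a b hab
        have hab' : algebraMap Γ(X, U) (X.presheaf.stalk x) s • a =
            algebraMap Γ(X, U) (X.presheaf.stalk x) s • b := hab
        rw [← hu] at hab'
        have := congrArg (fun z => (↑u⁻¹ : X.presheaf.stalk x) • z) hab'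
        simpa [smul_smul] using this
      · intro b
        refine ⟨(↑u⁻¹ : X.presheaf.stalk x) • b, ?_⟩
        change algebraMap Γ(X, U) (X.presheaf.stalk x) s • ((↑u⁻¹ : X.presheaf.stalk x) • b) = b
        rw [← hu, smul_smul, Units.mul_inv, one_smul]
    · intro y
      obtain ⟨g, t, hgx, hgt⟩ := hloc.exists_germ_eq_smul hU hx y
      have hg : g ∈ p.primeCompl := by
        change g ∉ p
        intro hgp
        have h1 : (X.presheaf.germ U x hx).hom g ∈
            IsLocalRing.maximalIdeal (X.presheaf.stalk x) := by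
          rw [hp, hU.primeIdealOf_eq_map_closedPoint] at hgp
          exact hgp
        exact ((IsLocalRing.mem_maximalIdeal _).mp h1)
          ((Scheme.mem_basicOpen _ _ _ hx).mp hgx)
      exact ⟨⟨t, ⟨g, hg⟩⟩, hgt.symm⟩
    · intro m₁ m₂ h
      have h0 : F.presheaf.germ U x hx (m₁ - m₂) = 0 := by
        rw [map_sub]; exact sub_eq_zero.mpr h
      obtain ⟨g, hgx, hg0⟩ := hloc.exists_smul_eq_zero_of_germ_eq_zero hU hx (m₁ - m₂) h0
      have hg : g ∈ p.primeCompl := by
        change g ∉ p
        intro hgp
        have h1 : (X.presheaf.germ U x hx).hom g ∈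
            IsLocalRing.maximalIdeal (X.presheaf.stalk x) := by
          rw [hp, hU.primeIdealOf_eq_map_closedPoint] at hgp
          exact hgp
        exact ((IsLocalRing.mem_maximalIdeal _).mp h1)
          ((Scheme.mem_basicOpen _ _ _ hx).mp hgx)
      refine ⟨⟨g, hg⟩, ?_⟩
      rw [smul_sub] at hg0
      exact sub_eq_zero.mp hg0
  let f := IsLocalizedModule.iso p.primeCompl γ
  let e : Localization.AtPrime p ≃+* X.presheaf.stalk x :=
    (IsLocalization.algEquiv p.primeCompl (Localization.AtPrime p)
      (X.presheaf.stalk x)).toRingEquiv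
  letI modAp : Module (Localization.AtPrime p) (F.presheaf.stalk x) :=
    Module.compHom _ e.toRingHom
  haveI : IsScalarTower Γ(X, U) (Localization.AtPrime p) (F.presheaf.stalk x) := by
    refine ⟨fun a r n => ?_⟩
    change e (a • r) • n = algebraMap Γ(X, U) (X.presheaf.stalk x) a • (e r • n)
    rw [Algebra.smul_def, map_mul, mul_smul]
    congr 1
    exact (IsLocalization.algEquiv p.primeCompl (Localization.AtPrime p)
      (X.presheaf.stalk x)).commutes a ▸ rfl
  let f' := f.extendScalarsOfIsLocalization p.primeCompl (Localization.AtPrime p)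
  symm
  refine PDTransportH8.pd_eq_of_semilinear e _ _ f'.toAddEquiv ?_
  intro r m
  exact f'.map_smul r m

end PDStalkH8
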