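import Mathlib
import Groth.Prelude
import Groth.Agent.Lib.PDStalk_helper8
import Groth.Agent.Lib.PDOpen_helper7
import Groth.Agent.Lib.QCohFT_helper9

set_option autoImplicit false
universe u

open CategoryTheory AlgebraicGeometry TopologicalSpace Opposite

namespace PDStalkH8

variable {X : Scheme.{u}} (F : X.Modules) [F.IsQuasicoherent]

/-- Upper semicontinuity of the projective dimension of the stalks of a coherent module. -/
theorem isOpen_pd_le [IsLocallyNoetherian X]
    [SheafOfModules.IsFiniteType (R := X.ringCatSheaf) F] (k : ℕ) :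
    IsOpen {x : X | projectiveDimension
      (ModuleCat.of (X.presheaf.stalk x) (F.presheaf.stalk x)) ≤ (k : WithBot ℕ∞)} := by
  rw [isOpen_iff_forall_mem_open]
  intro x hx
  obtain ⟨_, ⟨U, hU, rfl⟩, hxU, -⟩ :=
    X.isBasis_affineOpens.exists_subset_of_mem_open (Set.mem_univ x) isOpen_univ
  have hxU : x ∈ U := hxU
  have hU : IsAffineOpen U := hU
  haveI : IsNoetherianRing Γ(X, U) := IsLocallyNoetherian.component_noetherian ⟨U, hU⟩
  haveI : Module.Finite Γ(X, U) Γ(F, U) := QCohFT.finite_of_isFiniteType F hU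
  have hV := Groth.Agent.Lib.PDOpenH7.main Γ(X, U) Γ(F, U) k
  let V : (Spec Γ(X, U)).Opens := ⟨_, hV⟩
  refine ⟨hU.fromSpec ''ᵁ V, ?_, (hU.fromSpec ''ᵁ V).2, ?_⟩
  · rintro y ⟨q, hq, hqy⟩
    have hqy' : hU.fromSpec q = y := hqy
    have hyU : y ∈ U := by
      have : y ∈ Set.range hU.fromSpec := ⟨q, hqy'⟩
      rw [hU.range_fromSpec] at this
      exact this
    have hq' : hU.primeIdealOf ⟨y, hyU⟩ = q := by
      apply hU.fromSpec.isOpenEmbedding.injective
      rw [hU.fromSpec_primeIdealOf ⟨y, hyU⟩]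
      exact hqy'.symm
    change projectiveDimension _ ≤ _
    rw [pd_stalk_eq F hU hyU, hq']
    exact hq
  · refine ⟨hU.primeIdealOf ⟨x, hxU⟩, ?_, hU.fromSpec_primeIdealOf ⟨x, hxU⟩⟩
    change projectiveDimension _ ≤ _
    rw [← pd_stalk_eq F hU hxU]
    exact hx

end PDStalkH8
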