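import Mathlib
import Groth.Prelude
import Groth.Agent.Lib.SuppStalk2_helper8
import Groth.Agent.Lib.AdjDepth_helper5
import Groth.Agent.Lib.Regular_helper5

set_option autoImplicit false
universe u

open CategoryTheory AlgebraicGeometry TopologicalSpace Opposite IsLocalRing

namespace RectDepthH8

/-- Over a regular local ring, a nonzero finite module has finite projective dimension `e` and
finite depth `d'` with `e + d' = dim R`. -/
theorem exists_pd_depth (R : Type u) [CommRing R] [IsRegularLocalRing R] (N : Type u)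
    [AddCommGroup N] [Module R N] [Module.Finite R N] [Nontrivial N] :
    ∃ e d' : ℕ, projectiveDimension (ModuleCat.of R N) = (e : WithBot ℕ∞) ∧
      LocCoh.depth R N = (d' : ℕ∞) ∧ ringKrullDim R = ((e + d' : ℕ) : WithBot ℕ∞) := by
  set d := (maximalIdeal R).spanFinrank with hd
  have hdim : ringKrullDim R = (d : WithBot ℕ∞) :=
    (IsRegularLocalRing.spanFinrank_maximalIdeal (R := R)).symm
  have hpdfin := Groth.Agent.GlDim.hasProjectiveDimensionLT_of_regular R d hdim N
  obtain ⟨e, he1, he2⟩ := Groth.Agent.ExtTop.exists_pd N ⟨d + 1, hpdfin⟩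
  have hpd : projectiveDimension (ModuleCat.of R N) = (e : WithBot ℕ∞) :=
    le_antisymm ((projectiveDimension_le_iff _ e).mpr he1)
      ((projectiveDimension_ge_iff _ e).mpr he2)
  have hAB := Groth.Agent.AB.auslander_buchsbaum R N e hpd
  have hdepR : LocCoh.depth R R = d := Groth.Agent.ExtTop.regular_depth R d hdim
  rw [hdepR] at hAB
  have hne : LocCoh.depth R N ≠ ⊤ := by
    intro h
    rw [h] at hAB
    simp at hAB
  obtain ⟨d', hd'⟩ := ENat.ne_top_iff_exists.mp hne
  refine ⟨e, d', hpd, hd'.symm, ?_⟩
  rw [hdim]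
  rw [← hd'] at hAB
  have : d = e + d' := by exact_mod_cast hAB
  rw [this]

variable {X : Scheme.{u}}

/-- In a Noetherian scheme all of whose irreducible components have dimension `dim X`, with the
chain condition, the dimension of `X` is `dim cl{x} + dim O_x` at a point with integral local
ring. -/
theorem dim_eq [IsNoetherian X]
    (hcomp : ∀ C ∈ irreducibleComponents (X : Type u),
      topologicalKrullDim ↥C = topologicalKrullDim X)
    (hchain : ∀ (y : X) (T : Set X), IsClosed T → IsIrreducible T → y ∈ T →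
      topologicalKrullDim ↥T = topologicalKrullDim ↥(closure ({y} : Set X)) +
        topologicalKrullDim ↥{t : X | t ∈ T ∧ t ⤳ y})
    (x : X) [IsDomain (X.presheaf.stalk x)] :
    topologicalKrullDim X =
      topologicalKrullDim ↥(closure ({x} : Set X)) + ringKrullDim (X.presheaf.stalk x) := by
  let η : Spec (X.presheaf.stalk x) := (⟨⊥, Ideal.bot_prime⟩ : PrimeSpectrum (X.presheaf.stalk x))
  set ξ := (X.fromSpecStalk x) η with hξ
  have hrange : ∀ t : X, t ⤳ x ↔ t ∈ Set.range (X.fromSpecStalk x) := by
    intro t; rw [Scheme.range_fromSpecStalk]; rfl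
  have h1 : ∀ t : X, t ⤳ x → ξ ⤳ t := by
    intro t ht
    obtain ⟨P, rfl⟩ := (hrange t).mp ht
    apply Specializes.map _ (X.fromSpecStalk x).continuous
    have : (show PrimeSpectrum (X.presheaf.stalk x) from η) ⤳
        (show PrimeSpectrum (X.presheaf.stalk x) from P) := by
      rw [← PrimeSpectrum.le_iff_specializes]
      change (⊥ : Ideal _) ≤ _
      exact bot_le
    exact this
  have hξx : ξ ⤳ x := (hrange ξ).mpr ⟨η, rfl⟩
  set T : Set X := closure {ξ} with hT
  have hTcl : IsClosed T := isClosed_closure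
  have hTirr : IsIrreducible T := isIrreducible_singleton.closure
  have hxT : x ∈ T := specializes_iff_mem_closure.mp hξx
  have hTcomp : T ∈ irreducibleComponents (X : Type u) := by
    refine ⟨hTirr, ?_⟩
    intro T' hT' hTT'
    have hcl : IsIrreducible (closure T') := hT'.closure
    obtain ⟨ξ', hξ'⟩ := QuasiSober.sober hcl isClosed_closure
    have h2 : ξ' ⤳ ξ := by
      rw [specializes_iff_mem_closure, hξ'.def]
      exact subset_closure (hTT' (subset_closure rfl))
    have h3 : ξ ⤳ ξ' := h1 ξ' (h2.trans hξx)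
    have h4 : closure T' ⊆ T := by
      rw [← hξ'.def]
      exact closure_minimal (Set.singleton_subset_iff.mpr (specializes_iff_mem_closure.mp h3))
        hTcl
    exact subset_closure.trans h4
  have e1 := hcomp T hTcomp
  have e2 := hchain x T hTcl hTirr hxT
  have hset : {t : X | t ∈ T ∧ t ⤳ x} = Set.range (X.fromSpecStalk x) := by
    ext t
    constructor
    · rintro ⟨-, ht⟩; exact (hrange t).mp ht
    · intro ht
      have := (hrange t).mpr ht
      exact ⟨specializes_iff_mem_closure.mp (h1 t this), this⟩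
  have e3 : topologicalKrullDim ↥{t : X | t ∈ T ∧ t ⤳ x} =
      ringKrullDim (X.presheaf.stalk x) := by
    rw [hset, ← PrimeSpectrum.topologicalKrullDim_eq_ringKrullDim]
    exact (IsHomeomorph.topologicalKrullDim_eq _
      (X.fromSpecStalk x).isEmbedding.toHomeomorph.isHomeomorph).symm
  rw [← e1, e2, e3]

theorem main4906 (X : Scheme.{u}) [IsNoetherian X]
    (hreg : ∀ x : X, IsRegularLocalRing ↑(X.presheaf.stalk x))
    (hcomp : ∀ C ∈ irreducibleComponents (X : Type u),
      topologicalKrullDim ↥C = topologicalKrullDim X)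
    (hchain : ∀ (y : X) (T : Set X), IsClosed T → IsIrreducible T → y ∈ T →
      topologicalKrullDim ↥T = topologicalKrullDim ↥(closure ({y} : Set X)) +
        topologicalKrullDim ↥{t : X | t ∈ T ∧ t ⤳ y})
    (F : X.Modules) (hF : Coh.IsCoh F) (x : X) (hx : x ∈ CohB1.support F) :
    ((LocCoh.depth ↑(X.presheaf.stalk x) ↑(F.presheaf.stalk x) : ℕ∞) : WithBot ℕ∞) +
        topologicalKrullDim ↥(closure ({x} : Set X)) +
        projectiveDimension (ModuleCat.of ↑(X.presheaf.stalk x) ↑(F.presheaf.stalk x)) =
      topologicalKrullDim X := by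
  haveI : F.IsQuasicoherent := hF.1
  haveI : SheafOfModules.IsFiniteType (R := X.ringCatSheaf) F := hF.2
  haveI := hreg x
  haveI : IsDomain (X.presheaf.stalk x) := Groth.Agent.RegularLib.isDomain _
  haveI := SuppStalkH8.finite_stalk F x
  haveI : Nontrivial (F.presheaf.stalk x) := not_subsingleton_iff_nontrivial.mp hx
  obtain ⟨e, d', hpd, hdep, hdim⟩ :=
    exists_pd_depth (X.presheaf.stalk x) (F.presheaf.stalk x)
  rw [dim_eq hcomp hchain x, hpd, hdep, hdim]
  push_cast
  abel

end RectDepthH8
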