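import Mathlib
import Groth.Prelude
import Groth.Agent.Lib.RectDepth_helper8
import Groth.Agent.Lib.PDOpenSch_helper8
import Groth.Agent.Lib.SupportCoh_helper9
import Groth.Agent.Lib.Equi133b_helper8
import Groth.Agent.Lib.DepthHom_helper5

set_option autoImplicit false
universe u

open CategoryTheory AlgebraicGeometry TopologicalSpace Opposite IsLocalRing

namespace RectDepthH8

theorem topDim_ne_bot' (T : Type*) [TopologicalSpace T] [Nonempty T] :
    topologicalKrullDim T ≠ ⊥ := by
  rw [Ne, topologicalKrullDim, Order.krullDim_eq_bot_iff, not_isEmpty_iff]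
  obtain ⟨t⟩ := ‹Nonempty T›
  exact ⟨⟨closure {t}, isIrreducible_singleton.closure, isClosed_closure⟩⟩

theorem main4907 (X : Scheme.{u}) [IsNoetherian X]
    (hreg : ∀ x : X, IsRegularLocalRing ↑(X.presheaf.stalk x))
    (hfin : topologicalKrullDim X < ⊤)
    (hcomp : ∀ C ∈ irreducibleComponents (X : Type u),
      topologicalKrullDim ↥C = topologicalKrullDim X)
    (hchain : ∀ (y : X) (T : Set X), IsClosed T → IsIrreducible T → y ∈ T →
      topologicalKrullDim ↥T = topologicalKrullDim ↥(closure ({y} : Set X)) +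
        topologicalKrullDim ↥{t : X | t ∈ T ∧ t ⤳ y})
    (F : X.Modules) (hF : Coh.IsCoh F) (n : ℕ) :
    IsOpen {x : X | (n : WithBot ℕ∞) ≤
      ((LocCoh.depth ↑(X.presheaf.stalk x) ↑(F.presheaf.stalk x) : ℕ∞) : WithBot ℕ∞) +
        topologicalKrullDim ↥(closure ({x} : Set X))} := by
  classical
  haveI : F.IsQuasicoherent := hF.1
  haveI : SheafOfModules.IsFiniteType (R := X.ringCatSheaf) F := hF.2
  by_cases hX : IsEmpty X
  · have : {x : X | (n : WithBot ℕ∞) ≤
      ((LocCoh.depth ↑(X.presheaf.stalk x) ↑(F.presheaf.stalk x) : ℕ∞) : WithBot ℕ∞) +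
        topologicalKrullDim ↥(closure ({x} : Set X))} = ∅ := Set.eq_empty_of_isEmpty _
    rw [this]; exact isOpen_empty
  rw [not_isEmpty_iff] at hX
  have hne : topologicalKrullDim X ≠ ⊥ := topDim_ne_bot' X
  obtain ⟨D, hD⟩ : ∃ D : ℕ, topologicalKrullDim X = (D : WithBot ℕ∞) := by
    generalize topologicalKrullDim X = d at hfin hne
    induction d with
    | bot => exact absurd rfl hne
    | coe d =>
      induction d with
      | top => exact absurd hfin (lt_irrefl _)
      | coe d => exact ⟨d, rfl⟩
  have hcl : IsClosed (CohB1.support F) := SupportCoh.isClosed_support F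
  -- pointwise description
  have key : ∀ x : X, ((n : WithBot ℕ∞) ≤
      ((LocCoh.depth ↑(X.presheaf.stalk x) ↑(F.presheaf.stalk x) : ℕ∞) : WithBot ℕ∞) +
        topologicalKrullDim ↥(closure ({x} : Set X))) ↔
      (x ∉ CohB1.support F ∨ (n ≤ D ∧ projectiveDimension
        (ModuleCat.of (X.presheaf.stalk x) (F.presheaf.stalk x)) ≤ ((D - n : ℕ) : WithBot ℕ∞))) := by
    intro x
    haveI := hreg x
    haveI : Nonempty ↥(closure ({x} : Set X)) := ⟨⟨x, subset_closure rfl⟩⟩
    have hclne : topologicalKrullDim ↥(closure ({x} : Set X)) ≠ ⊥ := topDim_ne_bot' _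
    by_cases hx : x ∈ CohB1.support F
    · haveI : IsDomain (X.presheaf.stalk x) := Groth.Agent.RegularLib.isDomain _
      haveI := SuppStalkH8.finite_stalk F x
      haveI : Nontrivial (F.presheaf.stalk x) := not_subsingleton_iff_nontrivial.mp hx
      obtain ⟨e, d', hpd, hdep, hdim⟩ :=
        exists_pd_depth (X.presheaf.stalk x) (F.presheaf.stalk x)
      have hdimX := dim_eq hcomp hchain x
      rw [hD, hdim] at hdimX
      have hle : topologicalKrullDim ↥(closure ({x} : Set X)) ≤ (D : WithBot ℕ∞) := by
        rw [hdimX]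
        exact le_add_of_nonneg_right (by exact_mod_cast Nat.zero_le _)
      obtain ⟨c', hc', -⟩ := Equi133H8.exists_nat_of_le_of_ne_bot _ D hle hclne
      rw [hc'] at hdimX ⊢
      rw [hpd, hdep]
      have hnat : D = c' + (e + d') := by exact_mod_cast hdimX
      constructor
      · intro h
        right
        have h' : n ≤ d' + c' := by exact_mod_cast h
        refine ⟨by omega, ?_⟩
        have : e ≤ D - n := by omega
        exact_mod_cast this
      · rintro (h | ⟨h1, h2⟩)
        · exact absurd hx h
        · have h2' : e ≤ D - n := by exact_mod_cast h2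
          have : n ≤ d' + c' := by omega
          exact_mod_cast this
    · have hsub : Subsingleton (F.presheaf.stalk x) := not_not.mp hx
      have hdep : LocCoh.depth (X.presheaf.stalk x) (F.presheaf.stalk x) = ⊤ :=
        Groth.Agent.DepthLib.idealDepth_of_subsingleton _ _
      rw [hdep]
      constructor
      · intro _; exact Or.inl hx
      · intro _
        generalize topologicalKrullDim ↥(closure ({x} : Set X)) = c at hclne
        induction c with
        | bot => exact absurd rfl hclne
        | coe c =>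
          have : ((⊤ : ℕ∞) : WithBot ℕ∞) + (c : WithBot ℕ∞) = ((⊤ : ℕ∞) : WithBot ℕ∞) := by
            rw [← WithBot.coe_add, top_add]
          rw [this]
          exact_mod_cast le_top
  have hset : {x : X | (n : WithBot ℕ∞) ≤
      ((LocCoh.depth ↑(X.presheaf.stalk x) ↑(F.presheaf.stalk x) : ℕ∞) : WithBot ℕ∞) +
        topologicalKrullDim ↥(closure ({x} : Set X))} =
      (CohB1.support F)ᶜ ∪ {x : X | n ≤ D ∧ projectiveDimension
        (ModuleCat.of (X.presheaf.stalk x) (F.presheaf.stalk x)) ≤ ((D - n : ℕ) : WithBot ℕ∞)} := by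
    ext x
    exact key x
  rw [hset]
  refine hcl.isOpen_compl.union ?_
  by_cases hn : n ≤ D
  · have : {x : X | n ≤ D ∧ projectiveDimension
        (ModuleCat.of (X.presheaf.stalk x) (F.presheaf.stalk x)) ≤ ((D - n : ℕ) : WithBot ℕ∞)} =
        {x : X | projectiveDimension
        (ModuleCat.of (X.presheaf.stalk x) (F.presheaf.stalk x)) ≤ ((D - n : ℕ) : WithBot ℕ∞)} := by
      ext x; simp [hn]
    rw [this]
    exact PDStalkH8.isOpen_pd_le F (D - n)
  · have : {x : X | n ≤ D ∧ projectiveDimension
        (ModuleCat.of (X.presheaf.stalk x) (F.presheaf.stalk x)) ≤ ((D - n : ℕ) : WithBot ℕ∞)} = ∅ := by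
      ext x; simp [hn]
    rw [this]
    exact isOpen_empty

end RectDepthH8
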