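import Mathlib
import Groth.Agent.Lib.EquidimSub_helper8
import Groth.Agent.Lib.CMMor4_helper8

/-! Local quasi-finite maps to affine space, ring form (helper8). -/

namespace Groth.Agent.Lib.QFLocH8

open AlgebraicGeometry CategoryTheory Limits TensorProduct

universe u

theorem fibreDimAt_spec (R S : Type u) [CommRing R] [CommRing S]
    [Algebra R S] (p : Ideal R) [p.IsPrime] (q : Ideal S) [q.IsPrime] [q.LiesOver p]
    (Q : PrimeSpectrum (p.Fiber S))
    (hQ : Q.asIdeal.comap (Algebra.TensorProduct.includeRight.toRingHom) = q) :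
    FlatMor.fibreDimAt (Spec.map (CommRingCat.ofHom (algebraMap R S)))
      (⟨q, inferInstance⟩ : Spec (CommRingCat.of S)) =
      FlatMor.localDim (PrimeSpectrum (p.Fiber S)) Q := by
  rw [EquidimSubH8.fibreDimAt_eq_localDim_preimage]
  let p' : PrimeSpectrum R := ⟨p, inferInstance⟩
  let q' : PrimeSpectrum S := ⟨q, inferInstance⟩
  have hqp : PrimeSpectrum.comap (algebraMap R S) q' = p' := by
    apply PrimeSpectrum.ext
    exact (Ideal.over_def q p).symm
  let e := PrimeSpectrum.preimageHomeomorphFiber R S p'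
  have he : e.symm Q = ⟨q', hqp⟩ := by
    apply Subtype.ext
    apply PrimeSpectrum.ext
    exact hQ
  have h1 := Groth.Agent.FibLocH8.localDim_homeomorph e ⟨q', hqp⟩
  have h2 : e ⟨q', hqp⟩ = Q := by rw [← he, Homeomorph.apply_symm_apply]
  rw [h2] at h1
  rw [h1]
  have hset : (Spec.map (CommRingCat.ofHom (algebraMap R S))).base ⁻¹'
      {(Spec.map (CommRingCat.ofHom (algebraMap R S))).base q'} =
      PrimeSpectrum.comap (algebraMap R S) ⁻¹' {p'} := by
    rw [← hqp]; rfl
  exact EquidimSubH8.localDim_congr hset q' rfl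


set_option maxHeartbeats 1600000 in
theorem main9175 (R S : Type u) [CommRing R] [CommRing S]
    [Algebra R S] [Algebra.FiniteType R S] (p : Ideal R) [p.IsPrime] (q : Ideal S) [q.IsPrime]
    [q.LiesOver p] (Q : PrimeSpectrum (p.Fiber S))
    (hQ : Q.asIdeal.comap (Algebra.TensorProduct.includeRight.toRingHom) = q) (n : ℕ)
    (hdim : FlatMor.localDim (PrimeSpectrum (p.Fiber S)) Q = (n : WithBot ℕ∞)) :
    ∃ g : S, g ∉ q ∧ ∃ φ : MvPolynomial (Fin n) R →ₐ[R] Localization.Away g,
      φ.toRingHom.FiniteType ∧ φ.toRingHom.QuasiFinite := by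
  let f : Spec (CommRingCat.of S) ⟶ Spec (CommRingCat.of R) :=
    Spec.map (CommRingCat.ofHom (algebraMap R S))
  haveI : LocallyOfFiniteType f := by
    rw [HasRingHomProperty.Spec_iff (P := @LocallyOfFiniteType)]
    exact (RingHom.finiteType_algebraMap).mpr inferInstance
  let x : Spec (CommRingCat.of S) := ⟨q, inferInstance⟩
  have hfd : FlatMor.fibreDimAt f x = n := (fibreDimAt_spec R S p q Q hQ).trans hdim
  obtain ⟨U, hU, hUV, g, hxU, -, hg, hlqf⟩ := Groth.Agent.Lib.CMMorH8.exists_lqf_affine f x n hfd ⊤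
    trivial ⊤ (isAffineOpen_top _) trivial
  haveI := hlqf
  -- a basic open inside U
  obtain ⟨_, ⟨g', rfl⟩, hxg', hg'U⟩ :=
    PrimeSpectrum.isTopologicalBasis_basic_opens.exists_subset_of_mem_open (show x ∈ (U : Set _) from hxU) U.2
  refine ⟨g', hxg', ?_⟩
  let k : Spec (CommRingCat.of (Localization.Away g')) ⟶ Spec (CommRingCat.of S) :=
    Spec.map (CommRingCat.ofHom (algebraMap S (Localization.Away g')))
  haveI : IsOpenImmersion k := inferInstance
  have hkr : Set.range k ⊆ Set.range U.ι := by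
    rw [Scheme.Opens.range_ι]
    refine subset_trans ?_ hg'U
    rintro _ ⟨z, rfl⟩
    exact (PrimeSpectrum.localization_away_comap_range (Localization.Away g') g').le ⟨z, rfl⟩
  let k' : Spec (CommRingCat.of (Localization.Away g')) ⟶ (U : Scheme.{u}) :=
    IsOpenImmersion.lift U.ι k hkr
  have hk' : k' ≫ U.ι = k := IsOpenImmersion.lift_fac _ _ _
  haveI : IsOpenImmersion k' := by
    haveI : IsOpenImmersion (k' ≫ U.ι) := by rw [hk']; infer_instance
    exact IsOpenImmersion.of_comp k' U.ι
  -- the base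
  let T₀ : Scheme.{u} := ((⊤ : (Spec (CommRingCat.of R)).Opens) : Scheme.{u})
  haveI : IsAffine T₀ := isAffineOpen_top _
  let A' : CommRingCat.{u} := Γ(T₀, ⊤)
  let e𝔸 := AffineSpace.isoOfIsAffine (ULift.{u} (Fin n)) T₀
  let G : Spec (CommRingCat.of (Localization.Away g')) ⟶
      Spec (CommRingCat.of (MvPolynomial (ULift.{u} (Fin n)) A')) := k' ≫ g ≫ e𝔸.hom
  obtain ⟨φ₀, hφ₀⟩ := Spec.map_surjective G
  have hφ₀qf : φ₀.hom.QuasiFinite := by
    rw [← HasRingHomProperty.Spec_iff (P := @LocallyQuasiFinite), hφ₀]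
    infer_instance
  let CA : A' ⟶ CommRingCat.of (MvPolynomial (ULift.{u} (Fin n)) A') :=
    CommRingCat.ofHom MvPolynomial.C
  let ρ : CommRingCat.of R ⟶ A' :=
    (Scheme.ΓSpecIso (CommRingCat.of R)).inv ≫ (Scheme.topIso (Spec (CommRingCat.of R))).hom.appTop
  have hρ : T₀.isoSpec.hom ≫ Spec.map ρ = (⊤ : (Spec (CommRingCat.of R)).Opens).ι := by
    have h1 := Scheme.toSpecΓ_naturality (Scheme.topIso (Spec (CommRingCat.of R))).hom
    show T₀.toSpecΓ ≫ Spec.map ρ = _
    rw [Spec.map_comp, ← Category.assoc, ← h1, Category.assoc, toSpecΓ_SpecMap_ΓSpecIso_inv,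
      Category.comp_id]
    rfl
  have hπ : e𝔸.hom ≫ Spec.map CA = (𝔸(ULift.{u} (Fin n); T₀) ↘ T₀) ≫ T₀.isoSpec.hom := by
    have h1 := AffineSpace.isoOfIsAffine_inv_over (n := ULift.{u} (Fin n)) T₀
    rw [← cancel_epi e𝔸.inv, Iso.inv_hom_id_assoc, ← Category.assoc, h1, Category.assoc,
      Iso.inv_hom_id, Category.comp_id]
    rfl
  have hstar : ρ ≫ CA ≫ φ₀ = CommRingCat.ofHom (algebraMap R (Localization.Away g')) := by
    apply Spec.map_injective
    rw [Spec.map_comp, Spec.map_comp, hφ₀]
    show (k' ≫ g ≫ e𝔸.hom) ≫ Spec.map CA ≫ Spec.map ρ = _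
    rw [Category.assoc, Category.assoc, ← Category.assoc e𝔸.hom, hπ, Category.assoc, hρ,
      ← Category.assoc g, hg, Scheme.Hom.resLE_comp_ι, ← Category.assoc, hk', ← Spec.map_comp]
    congr 1
  -- the algebra map
  let φ : MvPolynomial (Fin n) R →ₐ[R] Localization.Away g' :=
    MvPolynomial.aeval (fun i => φ₀.hom (MvPolynomial.X (ULift.up i)))
  let ψ : MvPolynomial (Fin n) R →+* MvPolynomial (ULift.{u} (Fin n)) A' :=
    (MvPolynomial.map ρ.hom).comp (MvPolynomial.rename ULift.up).toRingHom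
  have hφψ : φ.toRingHom = φ₀.hom.comp ψ := by
    apply MvPolynomial.ringHom_ext
    · intro r
      have h1 := congrArg (fun χ => χ.hom r) hstar
      simp only [φ, ψ, AlgHom.toRingHom_eq_coe, RingHom.coe_coe, MvPolynomial.aeval_C,
        RingHom.coe_comp, Function.comp_apply, MvPolynomial.rename_C, MvPolynomial.map_C]
      exact h1.symm
    · intro i
      simp [φ, ψ]
  refine ⟨φ, ?_, ?_⟩
  · have h1 : (φ.toRingHom.comp (algebraMap R (MvPolynomial (Fin n) R))).FiniteType := by
      have h2 : φ.toRingHom.comp (algebraMap R (MvPolynomial (Fin n) R)) =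
          algebraMap R (Localization.Away g') := by
        ext r; simp
      rw [h2]
      haveI : Algebra.FiniteType S (Localization.Away g') :=
        IsLocalization.finiteType_of_monoid_fg (Submonoid.powers g') _
      exact (RingHom.finiteType_algebraMap).mpr (Algebra.FiniteType.trans (R := R) (S := S)
        (A := Localization.Away g') inferInstance inferInstance)
    exact RingHom.FiniteType.of_comp_finiteType h1
  · rw [hφψ]
    have hψbij : Function.Bijective ψ := by
      have hρbij : Function.Bijective ρ.hom := by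
        haveI : IsIso (Scheme.topIso (Spec (CommRingCat.of R))).hom.appTop :=
          inferInstanceAs (IsIso ((Scheme.topIso (Spec (CommRingCat.of R))).hom.app ⊤))
        have : IsIso ρ := inferInstance
        exact ConcreteCategory.bijective_of_isIso ρ
      show Function.Bijective ((MvPolynomial.map ρ.hom) ∘
        (MvPolynomial.rename (R := R) (ULift.up : Fin n → ULift.{u} (Fin n))))
      refine Function.Bijective.comp ?_ ?_
      · exact ⟨MvPolynomial.map_injective _ hρbij.1, MvPolynomial.map_surjective _ hρbij.2⟩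
      · exact (MvPolynomial.renameEquiv R (Equiv.ulift.{u}.symm : Fin n ≃ ULift.{u} (Fin n))).bijective
    exact RingHom.QuasiFinite.respectsIso.2 _ (RingEquiv.ofBijective ψ hψbij) hφ₀qf

end Groth.Agent.Lib.QFLocH8
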