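import Mathlib

/-! Fibre dimension over valuation rings: algebraic independence lifts from the special fibre. -/

universe u

namespace Groth.Agent.Lib.ValFibH8

open MvPolynomial TensorProduct

/-- In a valuation ring, a nonempty finite set has an element dividing all the others. -/
theorem exists_dvd_all {R : Type*} [CommRing R] [IsDomain R] [ValuationRing R] (F : Finset R)
    (hF : F.Nonempty) : ∃ a ∈ F, ∀ b ∈ F, a ∣ b := by
  induction hF using Finset.Nonempty.cons_induction with
  | singleton a => exact ⟨a, Finset.mem_singleton_self a, fun b hb => by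
      rw [Finset.mem_singleton.mp hb]⟩
  | cons a s ha hs ih =>
    obtain ⟨c, hc, hcs⟩ := ih
    rcases ValuationRing.dvd_total a c with h | h
    · refine ⟨a, Finset.mem_cons_self a s, fun b hb => ?_⟩
      rcases Finset.mem_cons.mp hb with rfl | hb
      · exact dvd_rfl
      · exact h.trans (hcs b hb)
    · refine ⟨c, Finset.mem_cons.mpr (Or.inr hc), fun b hb => ?_⟩
      rcases Finset.mem_cons.mp hb with rfl | hb
      · exact h
      · exact hcs b hb

/-- Factoring out the content of a nonzero polynomial over a valuation ring. -/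
theorem exists_primitive {R : Type*} [CommRing R] [IsDomain R] [ValuationRing R] {σ : Type*}
    (P : MvPolynomial σ R) (hP : P ≠ 0) :
    ∃ (c : R) (P' : MvPolynomial σ R) (s : σ →₀ ℕ), c ≠ 0 ∧ P = C c * P' ∧ coeff s P' = 1 := by
  classical
  have hsupp : (P.support.image (fun s => coeff s P)).Nonempty := by
    rw [Finset.image_nonempty]
    exact MvPolynomial.support_nonempty.mpr hP
  obtain ⟨c, hc, hcall⟩ := exists_dvd_all _ hsupp
  obtain ⟨s₀, hs₀, rfl⟩ := Finset.mem_image.mp hc
  have hc0 : coeff s₀ P ≠ 0 := MvPolynomial.mem_support_iff.mp hs₀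
  have hdvd : ∀ s : σ →₀ ℕ, coeff s₀ P ∣ coeff s P := by
    intro s
    by_cases hs : s ∈ P.support
    · exact hcall _ (Finset.mem_image_of_mem _ hs)
    · rw [MvPolynomial.notMem_support_iff.mp hs]
      exact dvd_zero _
  choose q hq using hdvd
  let P' : MvPolynomial σ R := ∑ s ∈ P.support, monomial s (q s)
  have hP' : P = C (coeff s₀ P) * P' := by
    conv_lhs => rw [P.as_sum]
    rw [Finset.mul_sum]
    apply Finset.sum_congr rfl
    intro s _
    rw [C_mul_monomial, ← hq s]
  refine ⟨coeff s₀ P, P', s₀, hc0, hP', ?_⟩
  have h1 : coeff s₀ P = coeff s₀ P * coeff s₀ P' := by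
    conv_lhs => rw [hP']
    rw [coeff_C_mul]
  have h2 : coeff s₀ P * 1 = coeff s₀ P * coeff s₀ P' := by rw [mul_one]; exact h1
  exact (mul_left_cancel₀ hc0 h2).symm

/-- Algebraic independence lifts from a quotient of a domain over a valuation ring. -/
theorem algebraicIndependent_of_map {R S k B : Type*} [CommRing R] [IsDomain R] [ValuationRing R]
    [CommRing S] [IsDomain S] [Algebra R S] (hinj : Function.Injective (algebraMap R S))
    [CommRing k] [Nontrivial k] [CommRing B] [Algebra R k] [Algebra k B] (π : S →+* B)
    (hπ : ∀ r : R, π (algebraMap R S r) = algebraMap k B (algebraMap R k r))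
    {ι : Type*} (x : ι → S) (hx : AlgebraicIndependent k (fun i => π (x i))) :
    AlgebraicIndependent R x := by
  rw [algebraicIndependent_iff]
  intro P hP
  by_contra hP0
  obtain ⟨c, P', s, hc, hPP', hs⟩ := exists_primitive P hP0
  have h1 : aeval x P' = 0 := by
    rw [hPP', map_mul, aeval_C] at hP
    rcases mul_eq_zero.mp hP with h | h
    · exact absurd ((injective_iff_map_eq_zero _).mp hinj c h) hc
    · exact h
  have h2 : aeval (fun i => π (x i)) (MvPolynomial.map (algebraMap R k) P') = π (aeval x P') := by
    rw [aeval_def, eval₂_map, aeval_def]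
    have : (algebraMap k B).comp (algebraMap R k) = π.comp (algebraMap R S) := by
      ext r; exact (hπ r).symm
    rw [this]
    exact (MvPolynomial.eval₂_comp_left π (algebraMap R S) x P').symm
  rw [h1, map_zero] at h2
  have h3 := (algebraicIndependent_iff.mp hx) _ h2
  have h4 : coeff s (MvPolynomial.map (algebraMap R k) P') = 1 := by
    rw [coeff_map, hs, map_one]
  rw [h3, coeff_zero] at h4
  exact zero_ne_one h4

/-- Algebraic independence passes to the base change to a flat algebra. -/
theorem algebraicIndependent_tmul {R S K : Type*} [CommRing R] [CommRing S] [Algebra R S]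
    [CommRing K] [Algebra R K] [Module.Flat R K] {ι : Type*} (x : ι → S)
    (hx : AlgebraicIndependent R x) :
    AlgebraicIndependent K (fun i => (1 : K) ⊗ₜ[R] x i) := by
  have h1 : Function.Injective (Algebra.TensorProduct.map (AlgHom.id K K) (aeval x : MvPolynomial ι R →ₐ[R] S)) := by
    have := Module.Flat.lTensor_preserves_injective_linearMap (M := K)
      (aeval x : MvPolynomial ι R →ₐ[R] S).toLinearMap hx
    exact this
  have h2 : (aeval (fun i => (1 : K) ⊗ₜ[R] x i) : MvPolynomial ι K →ₐ[K] K ⊗[R] S) =
      (Algebra.TensorProduct.map (AlgHom.id K K) (aeval x : MvPolynomial ι R →ₐ[R] S)).comp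
        (MvPolynomial.algebraTensorAlgEquiv R K).symm.toAlgHom := by
    apply MvPolynomial.algHom_ext
    intro i
    simp
  show Function.Injective (aeval (fun i => (1 : K) ⊗ₜ[R] x i))
  rw [h2]
  exact h1.comp (MvPolynomial.algebraTensorAlgEquiv R K).symm.injective

end Groth.Agent.Lib.ValFibH8
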