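import Mathlib
import Groth.Agent.Lib.ValFib1_helper8
import Groth.Agent.Lib.DimFT3_helper8

/-! Fibre dimension over valuation rings: the special fibre has dimension at most that of the
generic fibre. -/

universe u

namespace Groth.Agent.Lib.ValFibH8

open TensorProduct

theorem ringKrullDim_eq_iSup_quotient (A : Type*) [CommRing A] [Nontrivial A] :
    ringKrullDim A = ⨆ p : PrimeSpectrum A, ringKrullDim (A ⧸ p.asIdeal) := by
  rw [ringKrullDim, Order.krullDim_eq_iSup_coheight]
  congr 1
  ext p
  exact (Groth.Agent.DimFT3H8.ringKrullDim_quotient_eq_coheight p.asIdeal).symm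

section

variable (R S : Type u) [CommRing R] [IsDomain R] [CommRing S] [IsDomain S] [Algebra R S]

attribute [local instance] Algebra.TensorProduct.rightAlgebra in
theorem isDomain_genericFiber (hinj : Function.Injective (algebraMap R S)) :
    IsDomain ((⊥ : Ideal R).Fiber S) := by
  haveI : IsLocalization (Algebra.algebraMapSubmonoid S (nonZeroDivisors R))
      ((⊥ : Ideal R).ResidueField ⊗[R] S) := inferInstance
  refine IsLocalization.isDomain_of_le_nonZeroDivisors ((⊥ : Ideal R).ResidueField ⊗[R] S)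
    (M := Algebra.algebraMapSubmonoid S (nonZeroDivisors R)) ?_
  rintro _ ⟨r, hr, rfl⟩
  apply mem_nonZeroDivisors_of_ne_zero
  intro h
  exact (nonZeroDivisors.ne_zero hr) ((injective_iff_map_eq_zero _).mp hinj r h)

omit [IsDomain R] [IsDomain S] in
theorem includeRight_surjective_of_isMaximal (p : Ideal R) [p.IsMaximal] :
    Function.Surjective (Algebra.TensorProduct.includeRight : S →ₐ[R] p.Fiber S) := by
  intro t
  induction t using TensorProduct.induction_on with
  | zero => exact ⟨0, map_zero _⟩
  | tmul k s =>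
    obtain ⟨r, rfl⟩ := Ideal.algebraMap_residueField_surjective p k
    refine ⟨r • s, ?_⟩
    rw [Algebra.TensorProduct.includeRight_apply, Algebra.algebraMap_eq_smul_one,
      TensorProduct.smul_tmul]
  | add a b ha hb =>
    obtain ⟨a', rfl⟩ := ha
    obtain ⟨b', rfl⟩ := hb
    exact ⟨a' + b', map_add _ _ _⟩

theorem dim_special_le [ValuationRing R] (hinj : Function.Injective (algebraMap R S))
    [Algebra.FiniteType R S] :
    ringKrullDim ((IsLocalRing.maximalIdeal R).Fiber S) ≤ ringKrullDim ((⊥ : Ideal R).Fiber S) := by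
  by_cases hT : Nontrivial ((IsLocalRing.maximalIdeal R).Fiber S)
  swap
  · rw [not_nontrivial_iff_subsingleton] at hT
    rw [ringKrullDim_eq_bot_of_subsingleton]
    exact bot_le
  rw [ringKrullDim_eq_iSup_quotient]
  apply iSup_le
  intro Q
  set m := IsLocalRing.maximalIdeal R with hm
  set T₀ := m.Fiber S with hT₀
  set K' := (⊥ : Ideal R).ResidueField with hK'
  haveI : IsDomain ((⊥ : Ideal R).Fiber S) := isDomain_genericFiber R S hinj
  haveI : Algebra.FiniteType m.ResidueField (T₀ ⧸ Q.asIdeal) :=
    Algebra.FiniteType.of_surjective (Ideal.Quotient.mkₐ m.ResidueField Q.asIdeal)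
      (Ideal.Quotient.mkₐ_surjective _ _)
  obtain ⟨n, -, htr, hdim, -⟩ := Groth.Agent.DimFTH8.exists_dim_eq m.ResidueField (T₀ ⧸ Q.asIdeal)
  rw [hdim]
  haveI : FaithfulSMul m.ResidueField (T₀ ⧸ Q.asIdeal) :=
    (faithfulSMul_iff_algebraMap_injective _ _).mpr (RingHom.injective _)
  obtain ⟨ι, xbar, hxbar⟩ := exists_isTranscendenceBasis' m.ResidueField (T₀ ⧸ Q.asIdeal)
  have hcard : Cardinal.mk ι = n := by rw [hxbar.cardinalMk_eq_trdeg, htr]
  let π : S →+* T₀ ⧸ Q.asIdeal :=
    (Ideal.Quotient.mk Q.asIdeal).comp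
      (Algebra.TensorProduct.includeRight : S →ₐ[R] m.Fiber S).toRingHom
  have hπs : Function.Surjective π :=
    Ideal.Quotient.mk_surjective.comp (includeRight_surjective_of_isMaximal R S m)
  choose x hx using fun i => hπs (xbar i)
  have hπ : ∀ r : R, π (algebraMap R S r) =
      algebraMap m.ResidueField (T₀ ⧸ Q.asIdeal) (algebraMap R m.ResidueField r) := by
    intro r
    show Ideal.Quotient.mk Q.asIdeal
      ((Algebra.TensorProduct.includeRight : S →ₐ[R] m.Fiber S) (algebraMap R S r)) = _
    rw [AlgHom.commutes, ← IsScalarTower.algebraMap_apply R m.ResidueField (T₀ ⧸ Q.asIdeal)]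
    rfl
  have hxi : AlgebraicIndependent R x := by
    refine algebraicIndependent_of_map hinj π hπ x ?_
    have : (fun i => π (x i)) = xbar := funext hx
    rw [this]
    exact hxbar.1
  haveI : Module.Flat R K' := IsLocalization.flat K' (nonZeroDivisors R)
  have hxK : AlgebraicIndependent K' (fun i => (1 : K') ⊗ₜ[R] x i) :=
    algebraicIndependent_tmul x hxi
  obtain ⟨N, -, htrN, hdimN, -⟩ := Groth.Agent.DimFTH8.exists_dim_eq K' ((⊥ : Ideal R).Fiber S)
  rw [hdimN]
  have h1 := hxK.cardinalMk_le_trdeg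
  rw [hcard] at h1
  have h2 : (n : Cardinal) ≤ (N : Cardinal) := h1.trans (le_of_eq htrN)
  have h3 : n ≤ N := by exact_mod_cast h2
  exact_mod_cast h3

end

end Groth.Agent.Lib.ValFibH8
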