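import Mathlib
import Groth.Agent.Lib.ValFib2_helper8
import Groth.Agent.Lib.QFLoc1_helper8
import Groth.Agent.Lib.Chev4_helper8
import Groth.Agent.Lib.AffDim5_helper8

/-! Fibre dimension over valuation rings: semicontinuity gives the lower bound. -/

universe u

namespace Groth.Agent.Lib.ValFibH8

open TensorProduct AlgebraicGeometry CategoryTheory

theorem eq_top_or_exists_nat (a : WithBot ℕ∞) (h : 0 ≤ a) : a = ⊤ ∨ ∃ n : ℕ, a = n := by
  induction a using WithBot.recBotCoe with
  | bot => simp at h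
  | coe a =>
    induction a using ENat.recTopCoe with
    | top => left; rfl
    | coe n => right; exact ⟨n, rfl⟩

section

variable (R S : Type u) [CommRing R] [IsDomain R] [CommRing S] [IsDomain S] [Algebra R S]

attribute [local instance] Algebra.TensorProduct.rightAlgebra in
theorem includeRight_injective_generic (hinj : Function.Injective (algebraMap R S)) :
    Function.Injective (Algebra.TensorProduct.includeRight : S →ₐ[R] (⊥ : Ideal R).Fiber S) := by
  haveI : IsLocalization (Algebra.algebraMapSubmonoid S (nonZeroDivisors R))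
      ((⊥ : Ideal R).ResidueField ⊗[R] S) := inferInstance
  have hM : Algebra.algebraMapSubmonoid S (nonZeroDivisors R) ≤ nonZeroDivisors S := by
    rintro _ ⟨r, hr, rfl⟩
    apply mem_nonZeroDivisors_of_ne_zero
    intro h
    exact (nonZeroDivisors.ne_zero hr) ((injective_iff_map_eq_zero _).mp hinj r h)
  exact IsLocalization.injective ((⊥ : Ideal R).ResidueField ⊗[R] S) hM

/-- Semicontinuity: the closed fibre has dimension at least that of the generic fibre. -/
theorem dim_generic_le [IsLocalRing R] (hinj : Function.Injective (algebraMap R S))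
    [Algebra.FiniteType R S] [Nontrivial ((IsLocalRing.maximalIdeal R).Fiber S)] :
    ringKrullDim ((⊥ : Ideal R).Fiber S) ≤ ringKrullDim ((IsLocalRing.maximalIdeal R).Fiber S) := by
  set m := IsLocalRing.maximalIdeal R with hm
  rcases eq_top_or_exists_nat (ringKrullDim (m.Fiber S)) ringKrullDim_nonneg_of_nontrivial
    with h | ⟨n, hn⟩
  · rw [h]; exact le_top
  let f : Spec (CommRingCat.of S) ⟶ Spec (CommRingCat.of R) :=
    Spec.map (CommRingCat.ofHom (algebraMap R S))
  haveI : LocallyOfFiniteType f := by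
    rw [HasRingHomProperty.Spec_iff (P := @LocallyOfFiniteType)]
    exact RingHom.finiteType_algebraMap.mpr inferInstance
  -- a point of the closed fibre
  obtain ⟨Q₀⟩ : Nonempty (PrimeSpectrum (m.Fiber S)) := inferInstance
  let q₀ : Ideal S := Q₀.asIdeal.comap (Algebra.TensorProduct.includeRight.toRingHom)
  haveI hq₀p : q₀.IsPrime := Ideal.comap_isPrime _ _
  haveI hq₀l : q₀.LiesOver m := by
    constructor
    have h1 := Ideal.over_def Q₀.asIdeal m
    rw [h1, Ideal.under_def, Ideal.under_def]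
    show _ = Ideal.comap (algebraMap R S) (Ideal.comap _ Q₀.asIdeal)
    rw [Ideal.comap_comap]
    congr 1
    ext r
    simp
  have h1 := Groth.Agent.Lib.QFLocH8.fibreDimAt_spec R S m q₀ Q₀ rfl
  have h2 : FlatMor.localDim (PrimeSpectrum (m.Fiber S)) Q₀ ≤ (n : WithBot ℕ∞) := by
    rw [← hn, ← PrimeSpectrum.topologicalKrullDim_eq_ringKrullDim]
    unfold FlatMor.localDim
    refine (iInf_le _ ⟨⊤, trivial⟩).trans ?_
    exact topologicalKrullDim_subspace_le _ _
  have hopen := ChevH8.isOpen_fibreDimAt_le f n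
  let ξ : Spec (CommRingCat.of S) := (⟨⊥, Ideal.isPrime_bot⟩ : PrimeSpectrum S)
  let x₀ : Spec (CommRingCat.of S) := (⟨q₀, hq₀p⟩ : PrimeSpectrum S)
  have hsp : ξ ⤳ x₀ :=
    (PrimeSpectrum.le_iff_specializes (⟨⊥, Ideal.isPrime_bot⟩ : PrimeSpectrum S) ⟨q₀, hq₀p⟩).mp
      bot_le
  have hx₀ : x₀ ∈ {x | FlatMor.fibreDimAt f x ≤ (n : WithBot ℕ∞)} := by
    show FlatMor.fibreDimAt f x₀ ≤ _
    rw [h1]; exact h2
  have hξ : FlatMor.fibreDimAt f ξ ≤ (n : WithBot ℕ∞) := hsp.mem_open hopen hx₀
  -- the generic fibre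
  haveI hdom : IsDomain ((⊥ : Ideal R).Fiber S) := isDomain_genericFiber R S hinj
  haveI : (⊥ : Ideal S).LiesOver (⊥ : Ideal R) := by
    constructor
    rw [Ideal.under_def, Ideal.comap_bot_of_injective _ hinj]
  let Qξ : PrimeSpectrum ((⊥ : Ideal R).Fiber S) := ⟨⊥, Ideal.isPrime_bot⟩
  have hQξ : Qξ.asIdeal.comap (Algebra.TensorProduct.includeRight.toRingHom) = (⊥ : Ideal S) := by
    show Ideal.comap _ ⊥ = ⊥
    exact Ideal.comap_bot_of_injective _ (includeRight_injective_generic R S hinj)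
  have h3 := Groth.Agent.Lib.QFLocH8.fibreDimAt_spec R S (⊥ : Ideal R) (⊥ : Ideal S) Qξ hQξ
  let π : Spec (CommRingCat.of ((⊥ : Ideal R).Fiber S)) ⟶
      Spec (CommRingCat.of (⊥ : Ideal R).ResidueField) :=
    Spec.map (CommRingCat.ofHom (algebraMap (⊥ : Ideal R).ResidueField ((⊥ : Ideal R).Fiber S)))
  haveI : LocallyOfFiniteType π := by
    rw [HasRingHomProperty.Spec_iff (P := @LocallyOfFiniteType)]
    exact RingHom.finiteType_algebraMap.mpr inferInstance
  haveI : IrreducibleSpace ↥(Spec (CommRingCat.of ((⊥ : Ideal R).Fiber S))) :=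
    inferInstanceAs (IrreducibleSpace (PrimeSpectrum ((⊥ : Ideal R).Fiber S)))
  obtain ⟨d, hd, hloc⟩ := Groth.Agent.Lib.AffDimH8.exists_dim_nat_of_irreducible
    (⊥ : Ideal R).ResidueField _ π
  have h4 : ringKrullDim ((⊥ : Ideal R).Fiber S) = d := by
    rw [← PrimeSpectrum.topologicalKrullDim_eq_ringKrullDim]
    exact hd
  have h5 : FlatMor.localDim (PrimeSpectrum ((⊥ : Ideal R).Fiber S)) Qξ = d := hloc Qξ
  rw [h4, hn, ← h5, ← h3]
  exact hξ

end

end Groth.Agent.Lib.ValFibH8
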