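import Mathlib
import Groth.Agent.Lib.ValFib3_helper8

universe u

namespace Groth.Agent.Lib.ValFibH8

open TensorProduct

/-- Fibre form of the main statement. -/
theorem dim_fiber_eq (R S : Type u) [CommRing R] [IsDomain R] [ValuationRing R] [CommRing S]
    [IsDomain S] [Algebra R S] (hinj : Function.Injective (algebraMap R S))
    [Algebra.FiniteType R S] [Nontrivial ((IsLocalRing.maximalIdeal R).Fiber S)] :
    ringKrullDim ((IsLocalRing.maximalIdeal R).Fiber S) = ringKrullDim ((⊥ : Ideal R).Fiber S) :=
  le_antisymm (dim_special_le R S hinj) (dim_generic_le R S hinj)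

/-- the residue field of a local ring as `Ideal.ResidueField`. -/
noncomputable def residueEquiv (R : Type u) [CommRing R] [IsLocalRing R] :
    IsLocalRing.ResidueField R ≃ₐ[R] (IsLocalRing.maximalIdeal R).ResidueField :=
  AlgEquiv.ofBijective
    (IsScalarTower.toAlgHom R (R ⧸ IsLocalRing.maximalIdeal R)
      (IsLocalRing.maximalIdeal R).ResidueField)
    (Ideal.bijective_algebraMap_quotient_residueField (IsLocalRing.maximalIdeal R))

theorem main0444 {R S : Type u} [CommRing R] [IsDomain R] [ValuationRing R] [CommRing S]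
    [IsDomain S] [Algebra R S]
    (hinj : Function.Injective (algebraMap R S)) [Algebra.FiniteType R S]
    [Nontrivial (IsLocalRing.ResidueField R ⊗[R] S)] :
    ringKrullDim (IsLocalRing.ResidueField R ⊗[R] S) = ringKrullDim (FractionRing R ⊗[R] S) := by
  let e₁ : IsLocalRing.ResidueField R ⊗[R] S ≃ₐ[R] (IsLocalRing.maximalIdeal R).Fiber S :=
    Algebra.TensorProduct.congr (residueEquiv R) AlgEquiv.refl
  let e₂ : FractionRing R ⊗[R] S ≃ₐ[R] (⊥ : Ideal R).Fiber S :=
    Algebra.TensorProduct.congr (FractionRing.algEquiv R (⊥ : Ideal R).ResidueField) AlgEquiv.refl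
  haveI : Nontrivial ((IsLocalRing.maximalIdeal R).Fiber S) := e₁.symm.toEquiv.nontrivial
  rw [ringKrullDim_eq_of_ringEquiv e₁.toRingEquiv, ringKrullDim_eq_of_ringEquiv e₂.toRingEquiv]
  exact dim_fiber_eq R S hinj

end Groth.Agent.Lib.ValFibH8
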