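import Mathlib
import Groth.Agent.Lib.ValFib4_helper8
import Groth.Agent.Lib.RectDepth2_helper8

/-! Fibre dimension over valuation rings: local (pointwise) form. -/

universe u

namespace Groth.Agent.Lib.ValFibH8

open TensorProduct AlgebraicGeometry CategoryTheory

theorem localDim_nonneg {T : Type*} [TopologicalSpace T] (t : T) : 0 ≤ FlatMor.localDim T t := by
  unfold FlatMor.localDim
  apply le_iInf
  rintro ⟨U, hU⟩
  haveI : Nonempty ↥(U : Set T) := ⟨⟨t, hU⟩⟩
  have h := RectDepthH8.topDim_ne_bot' ↥(U : Set T)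
  obtain ⟨b, hb⟩ := WithBot.ne_bot_iff_exists.mp h
  show (0 : WithBot ℕ∞) ≤ topologicalKrullDim ↥(U : Set T)
  rw [← hb]
  exact WithBot.coe_le_coe.mpr zero_le

section

variable (R S : Type u) [CommRing R] [IsDomain R] [CommRing S] [IsDomain S] [Algebra R S]

/-- the relative dimension at the generic point is the dimension of the generic fibre. -/
theorem fibreDimAt_generic (hinj : Function.Injective (algebraMap R S)) [Algebra.FiniteType R S] :
    FlatMor.fibreDimAt (Spec.map (CommRingCat.ofHom (algebraMap R S)))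
      (⟨⊥, Ideal.isPrime_bot⟩ : PrimeSpectrum S) = ringKrullDim ((⊥ : Ideal R).Fiber S) := by
  haveI hdom : IsDomain ((⊥ : Ideal R).Fiber S) := isDomain_genericFiber R S hinj
  haveI : (⊥ : Ideal S).LiesOver (⊥ : Ideal R) := by
    constructor
    rw [Ideal.under_def, Ideal.comap_bot_of_injective _ hinj]
  let Qξ : PrimeSpectrum ((⊥ : Ideal R).Fiber S) := ⟨⊥, Ideal.isPrime_bot⟩
  have hQξ : Qξ.asIdeal.comap (Algebra.TensorProduct.includeRight.toRingHom) = (⊥ : Ideal S) := by
    show Ideal.comap _ ⊥ = ⊥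
    exact Ideal.comap_bot_of_injective _ (includeRight_injective_generic R S hinj)
  have h3 := Groth.Agent.Lib.QFLocH8.fibreDimAt_spec R S (⊥ : Ideal R) (⊥ : Ideal S) Qξ hQξ
  let π : Spec (CommRingCat.of ((⊥ : Ideal R).Fiber S)) ⟶
      Spec (CommRingCat.of (⊥ : Ideal R).ResidueField) :=
    Spec.map (CommRingCat.ofHom (algebraMap (⊥ : Ideal R).ResidueField ((⊥ : Ideal R).Fiber S)))
  haveI : LocallyOfFiniteType π := by
    rw [HasRingHomProperty.Spec_iff (P := @LocallyOfFiniteType)]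
    exact RingHom.finiteType_algebraMap.mpr inferInstance
  haveI : IrreducibleSpace ↥(Spec (CommRingCat.of ((⊥ : Ideal R).Fiber S))) :=
    inferInstanceAs (IrreducibleSpace (PrimeSpectrum ((⊥ : Ideal R).Fiber S)))
  obtain ⟨d, hd, hloc⟩ := Groth.Agent.Lib.AffDimH8.exists_dim_nat_of_irreducible
    (⊥ : Ideal R).ResidueField _ π
  have h4 : ringKrullDim ((⊥ : Ideal R).Fiber S) = d := by
    rw [← PrimeSpectrum.topologicalKrullDim_eq_ringKrullDim]
    exact hd
  have h5 : FlatMor.localDim (PrimeSpectrum ((⊥ : Ideal R).Fiber S)) Qξ = d := hloc Qξ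
  rw [h4, ← h5, ← h3]

/-- over a valuation ring, the relative dimension at every point of the closed fibre is the
dimension of the generic fibre. -/
theorem fibreDimAt_closed [ValuationRing R] (hinj : Function.Injective (algebraMap R S))
    [Algebra.FiniteType R S] (x : PrimeSpectrum S)
    (hx : x.asIdeal.LiesOver (IsLocalRing.maximalIdeal R)) :
    FlatMor.fibreDimAt (Spec.map (CommRingCat.ofHom (algebraMap R S))) x =
      ringKrullDim ((⊥ : Ideal R).Fiber S) := by
  set m := IsLocalRing.maximalIdeal R with hm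
  let f : Spec (CommRingCat.of S) ⟶ Spec (CommRingCat.of R) :=
    Spec.map (CommRingCat.ofHom (algebraMap R S))
  haveI : LocallyOfFiniteType f := by
    rw [HasRingHomProperty.Spec_iff (P := @LocallyOfFiniteType)]
    exact RingHom.finiteType_algebraMap.mpr inferInstance
  let pm : PrimeSpectrum R := ⟨m, inferInstance⟩
  have hxm : PrimeSpectrum.comap (algebraMap R S) x = pm :=
    PrimeSpectrum.ext (Ideal.over_def x.asIdeal m).symm
  let e := PrimeSpectrum.preimageHomeomorphFiber R S pm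
  let Q : PrimeSpectrum (m.Fiber S) := e ⟨x, hxm⟩
  have hQ : Q.asIdeal.comap (Algebra.TensorProduct.includeRight.toRingHom) = x.asIdeal :=
    congr($(e.symm_apply_apply ⟨x, hxm⟩).1.asIdeal)
  haveI : Nontrivial (m.Fiber S) := PrimeSpectrum.nonempty_iff_nontrivial.mp ⟨Q⟩
  have h1 := Groth.Agent.Lib.QFLocH8.fibreDimAt_spec R S m x.asIdeal Q hQ
  have h1' : FlatMor.fibreDimAt f x = FlatMor.localDim (PrimeSpectrum (m.Fiber S)) Q := h1
  haveI hdom : IsDomain ((⊥ : Ideal R).Fiber S) := isDomain_genericFiber R S hinj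
  obtain ⟨N, -, -, hdimN, -⟩ :=
    Groth.Agent.DimFTH8.exists_dim_eq (⊥ : Ideal R).ResidueField ((⊥ : Ideal R).Fiber S)
  have hupper : FlatMor.fibreDimAt f x ≤ (N : WithBot ℕ∞) := by
    rw [h1', ← hdimN, ← dim_fiber_eq R S hinj, ← PrimeSpectrum.topologicalKrullDim_eq_ringKrullDim]
    unfold FlatMor.localDim
    refine (iInf_le _ ⟨⊤, trivial⟩).trans ?_
    exact topologicalKrullDim_subspace_le _ _
  have hnonneg : 0 ≤ FlatMor.fibreDimAt f x := by rw [h1']; exact localDim_nonneg _
  show FlatMor.fibreDimAt f x = _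
  rw [hdimN]
  rcases eq_top_or_exists_nat _ hnonneg with h | ⟨n, hn⟩
  · rw [h] at hupper
    exfalso
    have h' : ((N : ℕ∞) : WithBot ℕ∞) = ((⊤ : ℕ∞) : WithBot ℕ∞) := top_le_iff.mp hupper
    exact ENat.natCast_ne_top N (WithBot.coe_injective h')
  apply le_antisymm hupper
  rw [hn]
  have hopen := ChevH8.isOpen_fibreDimAt_le f n
  let ξ : Spec (CommRingCat.of S) := (⟨⊥, Ideal.isPrime_bot⟩ : PrimeSpectrum S)
  have hsp : ξ ⤳ (x : Spec (CommRingCat.of S)) :=
    (PrimeSpectrum.le_iff_specializes (⟨⊥, Ideal.isPrime_bot⟩ : PrimeSpectrum S) x).mp bot_le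
  have hx₀ : (x : Spec (CommRingCat.of S)) ∈ {x | FlatMor.fibreDimAt f x ≤ (n : WithBot ℕ∞)} :=
    le_of_eq hn
  have hξ : FlatMor.fibreDimAt f ξ ≤ (n : WithBot ℕ∞) := hsp.mem_open hopen hx₀
  have hg := fibreDimAt_generic R S hinj
  rw [hdimN] at hg
  rw [← hg]
  exact hξ

end

end Groth.Agent.Lib.ValFibH8
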