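import Mathlib
import Groth.Agent.Lib.ValFib5_helper8

/-! Fibre dimension over valuation rings: irreducible affine case. -/

universe u

namespace Groth.Agent.Lib.ValFibH8

open TensorProduct AlgebraicGeometry CategoryTheory

/-- relative dimension is invariant under a surjective embedding of the source. -/
theorem fibreDimAt_comp_of_surjective {X'' X Y : Scheme.{u}} (f : X ⟶ Y) (i : X'' ⟶ X)
    (hi : Topology.IsEmbedding i.base) (hs : Function.Surjective i.base) (w : X'') :
    FlatMor.fibreDimAt (i ≫ f) w = FlatMor.fibreDimAt f (i.base w) := by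
  rw [EquidimSubH8.fibreDimAt_comp_eq_localDim f i hi w,
    EquidimSubH8.fibreDimAt_eq_localDim_preimage f (i.base w)]
  exact EquidimSubH8.localDim_congr (by rw [Set.range_eq_univ.mpr hs, Set.univ_inter]) _ _

theorem fibreDimAt_closed_irred (R B : Type u) [CommRing R] [IsDomain R] [ValuationRing R]
    [CommRing B] [Algebra R B] [Algebra.FiniteType R B] (hN : (nilradical B).IsPrime)
    (hgen : (nilradical B).comap (algebraMap R B) = ⊥) (x : PrimeSpectrum B)
    (hx : x.asIdeal.LiesOver (IsLocalRing.maximalIdeal R)) :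
    FlatMor.fibreDimAt (Spec.map (CommRingCat.ofHom (algebraMap R B))) x =
      FlatMor.fibreDimAt (Spec.map (CommRingCat.ofHom (algebraMap R B)))
        (⟨nilradical B, hN⟩ : PrimeSpectrum B) := by
  set N := nilradical B with hNdef
  haveI : IsDomain (B ⧸ N) := Ideal.Quotient.isDomain N
  haveI : Algebra.FiniteType R (B ⧸ N) :=
    Algebra.FiniteType.of_surjective (Ideal.Quotient.mkₐ R N) (Ideal.Quotient.mkₐ_surjective R N)
  have hinj : Function.Injective (algebraMap R (B ⧸ N)) := by
    rw [injective_iff_map_eq_zero]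
    intro r hr
    have h1 : algebraMap R B r ∈ N := by
      rw [← Ideal.Quotient.eq_zero_iff_mem]
      exact hr
    have h2 : r ∈ N.comap (algebraMap R B) := h1
    rw [hgen] at h2
    exact h2
  let fB : Spec (CommRingCat.of B) ⟶ Spec (CommRingCat.of R) :=
    Spec.map (CommRingCat.ofHom (algebraMap R B))
  let h : Spec (CommRingCat.of (B ⧸ N)) ⟶ Spec (CommRingCat.of B) :=
    Spec.map (CommRingCat.ofHom (Ideal.Quotient.mk N))
  have hcomp : Spec.map (CommRingCat.ofHom (algebraMap R (B ⧸ N))) = h ≫ fB := by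
    rw [← Spec.map_comp]
    rfl
  haveI : IsClosedImmersion h := IsClosedImmersion.spec_of_surjective _ Ideal.Quotient.mk_surjective
  have hemb : Topology.IsEmbedding h.base := h.isClosedEmbedding.isEmbedding
  have hsurj : Function.Surjective h.base := by
    intro y
    have : (y : PrimeSpectrum B) ∈ Set.range (PrimeSpectrum.comap (Ideal.Quotient.mk N)) := by
      rw [_root_.range_comap_of_surjective _ _ Ideal.Quotient.mk_surjective, Ideal.mk_ker]
      show (N : Set B) ⊆ y.asIdeal
      exact nilradical_le_prime y.asIdeal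
    exact this
  obtain ⟨x', hx'⟩ := hsurj x
  have hx'id : (x' : PrimeSpectrum (B ⧸ N)).asIdeal.comap (Ideal.Quotient.mk N) = x.asIdeal :=
    congrArg PrimeSpectrum.asIdeal hx'
  have hx'l : (x' : PrimeSpectrum (B ⧸ N)).asIdeal.LiesOver (IsLocalRing.maximalIdeal R) := by
    constructor
    rw [Ideal.over_def x.asIdeal (IsLocalRing.maximalIdeal R), Ideal.under_def, Ideal.under_def,
      ← hx'id, Ideal.comap_comap]
    rfl
  have e1 := fibreDimAt_closed R (B ⧸ N) hinj x' hx'l
  have e2 := fibreDimAt_generic R (B ⧸ N) hinj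
  have e3 := fibreDimAt_comp_of_surjective fB h hemb hsurj x'
  have e4 := fibreDimAt_comp_of_surjective fB h hemb hsurj
    ((⟨⊥, Ideal.isPrime_bot⟩ : PrimeSpectrum (B ⧸ N)) : Spec (CommRingCat.of (B ⧸ N)))
  rw [← hcomp] at e3 e4
  have hξ : h.base ((⟨⊥, Ideal.isPrime_bot⟩ : PrimeSpectrum (B ⧸ N)) :
      Spec (CommRingCat.of (B ⧸ N))) = (⟨N, hN⟩ : PrimeSpectrum B) := by
    apply PrimeSpectrum.ext
    show Ideal.comap (Ideal.Quotient.mk N) ⊥ = N
    rw [← RingHom.ker_eq_comap_bot, Ideal.mk_ker]
  rw [hx'] at e3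
  rw [hξ] at e4
  show FlatMor.fibreDimAt fB x = FlatMor.fibreDimAt fB _
  rw [← e3, ← e4, e1, e2]

end Groth.Agent.Lib.ValFibH8
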