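import Mathlib
import Groth.Agent.Lib.ValFib6_helper8
import Groth.Agent.Lib.TopDimLoc_helper8
import Groth.Agent.Lib.FieldExt3_helper8

/-! Fibre dimension over valuation rings: scheme form. -/

universe u

namespace Groth.Agent.Lib.ValFibH8

open TensorProduct AlgebraicGeometry CategoryTheory

/-- the key pointwise statement. -/
theorem fibreDimAt_eq_generic {A : Type u} [CommRing A] [IsDomain A] [ValuationRing A]
    {X : Scheme.{u}} [IrreducibleSpace X] (f : X ⟶ Spec (CommRingCat.of A))
    [LocallyOfFiniteType f] (hfξ : f (genericPoint X) = genericPoint (Spec (CommRingCat.of A)))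
    (x : X) (hx : f x = IsLocalRing.closedPoint A) :
    FlatMor.fibreDimAt f x = FlatMor.fibreDimAt f (genericPoint X) := by
  set ξ := genericPoint X with hξdef
  obtain ⟨_, ⟨(U : X.Opens), hU : IsAffineOpen U, rfl⟩, hxU, -⟩ :=
    (X.isBasis_affineOpens).exists_subset_of_mem_open (Set.mem_univ x) isOpen_univ
  have hξU : ξ ∈ U := (genericPoint_specializes x).mem_open U.isOpen hxU
  let j : Spec Γ(X, U) ⟶ X := hU.fromSpec
  obtain ⟨ψ, hψ⟩ := Spec.map_surjective (j ≫ f)
  letI : Algebra A Γ(X, U) := ψ.hom.toAlgebra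
  have hψ' : Spec.map (CommRingCat.ofHom (algebraMap A Γ(X, U))) = j ≫ f := by
    rw [← hψ]; rfl
  haveI : Algebra.FiniteType A Γ(X, U) := by
    have h1 : LocallyOfFiniteType (Spec.map (CommRingCat.ofHom (algebraMap A Γ(X, U)))) := by
      rw [hψ']; infer_instance
    rw [HasRingHomProperty.Spec_iff (P := @LocallyOfFiniteType)] at h1
    exact RingHom.finiteType_algebraMap.mp h1
  have hrange : ∀ y : X, y ∈ U → ∃ P : PrimeSpectrum Γ(X, U), j P = y := by
    intro y hy
    have : y ∈ Set.range hU.fromSpec := by rw [hU.range_fromSpec]; exact hy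
    exact this
  obtain ⟨y, hy⟩ := hrange x hxU
  obtain ⟨yξ, hyξ⟩ := hrange ξ hξU
  -- `yξ` is the generic point of `Spec B`
  have hgenB : ∀ P : PrimeSpectrum Γ(X, U), yξ.asIdeal ≤ P.asIdeal := by
    intro P
    have h1 : j yξ ⤳ j P := by rw [hyξ]; exact genericPoint_specializes _
    rw [j.isOpenEmbedding.isInducing.specializes_iff] at h1
    exact (PrimeSpectrum.le_iff_specializes yξ P).mpr h1
  have hNeq : nilradical Γ(X, U) = yξ.asIdeal := by
    apply le_antisymm (nilradical_le_prime yξ.asIdeal)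
    rw [nilradical_eq_sInf]
    apply le_sInf
    intro P hP
    exact hgenB ⟨P, hP⟩
  have hN : (nilradical Γ(X, U)).IsPrime := by rw [hNeq]; exact yξ.isPrime
  -- images in `Spec A`
  have hfj : ∀ P : PrimeSpectrum Γ(X, U), (f (j P) : PrimeSpectrum A).asIdeal =
      P.asIdeal.comap (algebraMap A Γ(X, U)) := by
    intro P
    have : f (j P) = (Spec.map (CommRingCat.ofHom (algebraMap A Γ(X, U)))) P := by
      rw [hψ']; rfl
    rw [this]
    rfl
  have hgen : (nilradical Γ(X, U)).comap (algebraMap A Γ(X, U)) = ⊥ := by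
    rw [hNeq, ← hfj, hyξ, hfξ, genericPoint_eq_bot_of_affine]
    rfl
  have hyl : y.asIdeal.LiesOver (IsLocalRing.maximalIdeal A) := by
    constructor
    rw [Ideal.under_def, ← hfj, hy, hx]
    rfl
  have key := fibreDimAt_closed_irred A Γ(X, U) hN hgen y hyl
  rw [hψ'] at key
  have e1 := FibCohH8.fibreDimAt_etale_local f (j ≫ f) j (𝟙 _) (by simp) y
  have e2 := FibCohH8.fibreDimAt_etale_local f (j ≫ f) j (𝟙 _) (by simp) yξ
  have hpt : (⟨nilradical Γ(X, U), hN⟩ : PrimeSpectrum Γ(X, U)) = yξ := PrimeSpectrum.ext hNeq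
  rw [hpt] at key
  rw [hy] at e1
  rw [hyξ] at e2
  rw [e1, e2]
  exact key

theorem main4932 {A : Type u} [CommRing A] [IsDomain A] [ValuationRing A] {X : Scheme.{u}}
    [IrreducibleSpace X] (f : X ⟶ Spec (CommRingCat.of A)) [LocallyOfFiniteType f]
    [IsDominant f] (h0 : Nonempty ↥(f.fiber (IsLocalRing.closedPoint A))) :
    topologicalKrullDim ↥(f.fiber (IsLocalRing.closedPoint A)) =
      topologicalKrullDim ↥(f.fiber (genericPoint (Spec (CommRingCat.of A)))) := by
  set ξ := genericPoint X with hξdef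
  set η := genericPoint (Spec (CommRingCat.of A)) with hηdef
  have hfξ : f ξ = η := by
    have h1 := (genericPoint_spec X).image f.continuous
    rw [Set.image_univ, f.denseRange.closure_range] at h1
    exact h1.eq (genericPoint_spec _)
  -- closed fibre
  have hcl : topologicalKrullDim ↥(f.fiber (IsLocalRing.closedPoint A)) =
      FlatMor.fibreDimAt f ξ := by
    have hz : ∀ z : ↥(f.fiber (IsLocalRing.closedPoint A)),
        FlatMor.localDim ↥(f.fiber (IsLocalRing.closedPoint A)) z = FlatMor.fibreDimAt f ξ := by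
      intro z
      rw [FieldExtH8.localDim_fiber_eq_fibreDimAt f _ z _ rfl]
      exact fibreDimAt_eq_generic f hfξ _ (Groth.Agent.FibRes2H8.fiberι_mem f _ z)
    apply le_antisymm
    · rw [TopDimLocH8.topDim_le_iff_forall_localDim]
      intro z
      exact le_of_eq (hz z)
    · obtain ⟨z₀⟩ := h0
      rw [← hz z₀]
      exact TopDimLocH8.localDim_le_topDim _ z₀
  -- generic fibre
  have hξmem : ξ ∈ Set.range (f.fiberι η) := by
    rw [Scheme.Hom.range_fiberι]; exact hfξ
  obtain ⟨zξ, hzξ⟩ := hξmem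
  have hall : ∀ z : ↥(f.fiber η), zξ ⤳ z := by
    intro z
    rw [← (f.fiberι η).isEmbedding.isInducing.specializes_iff, hzξ]
    exact genericPoint_specializes _
  haveI : IrreducibleSpace ↥(f.fiber η) := by
    have h1 : IsIrreducible (closure {zξ} : Set ↥(f.fiber η)) := isIrreducible_singleton.closure
    have h2 : closure ({zξ} : Set ↥(f.fiber η)) = Set.univ := by
      ext z
      simp only [Set.mem_univ, iff_true]
      exact (hall z).mem_closure
    rw [h2] at h1
    exact (irreducibleSpace_def _).mpr h1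
  haveI := Groth.Agent.FibRes2H8.lft_fiber f η
  obtain ⟨d, hd, hloc⟩ := Groth.Agent.Lib.AffDimH8.exists_dim_nat_of_irreducible
    ((Spec (CommRingCat.of A)).residueField η) (f.fiber η) (f.fiberToSpecResidueField η)
  rw [hcl, hd, ← hloc zξ, FieldExtH8.localDim_fiber_eq_fibreDimAt f η zξ ξ hzξ]

end Groth.Agent.Lib.ValFibH8
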