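import Mathlib
import Groth.Agent.Lib.ValFib7_helper8

/-! Fibre dimension over valuation rings: arbitrary points of the base. -/

universe u

namespace Groth.Agent.Lib.ValFibH8

open TensorProduct AlgebraicGeometry CategoryTheory MvPolynomial

/-- scaling the members of an algebraically independent family by units keeps it independent. -/
theorem algebraicIndependent_units_smul {k B : Type*} [CommRing k] [CommRing B] [Algebra k B]
    {ι : Type*} (x : ι → B) (hx : AlgebraicIndependent k x) (u : ι → kˣ) :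
    AlgebraicIndependent k (fun i => (u i : k) • x i) := by
  let σ : MvPolynomial ι k →ₐ[k] MvPolynomial ι k := aeval (fun i => C (u i : k) * X i)
  let σ' : MvPolynomial ι k →ₐ[k] MvPolynomial ι k := aeval (fun i => C ((u i)⁻¹ : kˣ).1 * X i)
  have h1 : σ'.comp σ = AlgHom.id k _ := by
    apply MvPolynomial.algHom_ext
    intro i
    simp only [σ, σ', AlgHom.comp_apply, aeval_X, map_mul, algHom_C, AlgHom.id_apply]
    rw [MvPolynomial.algebraMap_eq, ← mul_assoc, ← C_mul]
    simp
  have hσ : Function.Injective σ := by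
    intro a b hab
    have := congrArg σ' hab
    rw [← AlgHom.comp_apply, ← AlgHom.comp_apply, h1] at this
    exact this
  have h2 : (aeval (fun i => (u i : k) • x i) : MvPolynomial ι k →ₐ[k] B) = (aeval x).comp σ := by
    apply MvPolynomial.algHom_ext
    intro i
    simp only [σ, AlgHom.comp_apply, aeval_X, map_mul, algHom_C]
    rw [Algebra.smul_def]
  show Function.Injective (aeval (fun i => (u i : k) • x i))
  rw [h2]
  have hx' : Function.Injective (aeval x : MvPolynomial ι k →ₐ[k] B) := hx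
  exact hx'.comp hσ

section

variable (R S : Type u) [CommRing R] [IsDomain R] [CommRing S] [IsDomain S] [Algebra R S]

theorem dim_fiber_le [ValuationRing R] (hinj : Function.Injective (algebraMap R S))
    [Algebra.FiniteType R S] (p : Ideal R) [p.IsPrime] :
    ringKrullDim (p.Fiber S) ≤ ringKrullDim ((⊥ : Ideal R).Fiber S) := by
  by_cases hT : Nontrivial (p.Fiber S)
  swap
  · rw [not_nontrivial_iff_subsingleton] at hT
    rw [ringKrullDim_eq_bot_of_subsingleton]
    exact bot_le
  rw [ringKrullDim_eq_iSup_quotient]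
  apply iSup_le
  intro Q
  set T₀ := p.Fiber S with hT₀
  set K' := (⊥ : Ideal R).ResidueField with hK'
  haveI : IsDomain ((⊥ : Ideal R).Fiber S) := isDomain_genericFiber R S hinj
  haveI : Algebra.FiniteType p.ResidueField (T₀ ⧸ Q.asIdeal) :=
    Algebra.FiniteType.of_surjective (Ideal.Quotient.mkₐ p.ResidueField Q.asIdeal)
      (Ideal.Quotient.mkₐ_surjective _ _)
  obtain ⟨n, -, htr, hdim, -⟩ := Groth.Agent.DimFTH8.exists_dim_eq p.ResidueField (T₀ ⧸ Q.asIdeal)
  rw [hdim]
  haveI : FaithfulSMul p.ResidueField (T₀ ⧸ Q.asIdeal) :=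
    (faithfulSMul_iff_algebraMap_injective _ _).mpr (RingHom.injective _)
  obtain ⟨ι, xbar, hxbar⟩ := exists_isTranscendenceBasis' p.ResidueField (T₀ ⧸ Q.asIdeal)
  have hcard : Cardinal.mk ι = n := by rw [hxbar.cardinalMk_eq_trdeg, htr]
  let π : S →+* T₀ ⧸ Q.asIdeal :=
    (Ideal.Quotient.mk Q.asIdeal).comp
      (Algebra.TensorProduct.includeRight : S →ₐ[R] p.Fiber S).toRingHom
  -- lifts up to units
  have hlift : ∀ i, ∃ (r : R) (s : S), r ∉ p ∧
      π s = (algebraMap R p.ResidueField r) • xbar i := by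
    intro i
    obtain ⟨t, ht⟩ := Ideal.Quotient.mk_surjective (xbar i)
    obtain ⟨r, hr, s, hs⟩ := Ideal.Fiber.exists_smul_eq_one_tmul p t
    refine ⟨r, s, hr, ?_⟩
    show Ideal.Quotient.mk Q.asIdeal ((1 : p.ResidueField) ⊗ₜ[R] s) = _
    rw [← hs, ← ht, algebraMap_smul]
    rfl
  choose r s hr hs using hlift
  have hunit : ∀ i, IsUnit (algebraMap R p.ResidueField (r i)) := by
    intro i
    rw [isUnit_iff_ne_zero]
    intro h0
    apply hr i
    rw [← Ideal.ker_algebraMap_residueField p]
    exact h0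
  have hπ : ∀ a : R, π (algebraMap R S a) =
      algebraMap p.ResidueField (T₀ ⧸ Q.asIdeal) (algebraMap R p.ResidueField a) := by
    intro a
    show Ideal.Quotient.mk Q.asIdeal
      ((Algebra.TensorProduct.includeRight : S →ₐ[R] p.Fiber S) (algebraMap R S a)) = _
    rw [AlgHom.commutes, ← IsScalarTower.algebraMap_apply R p.ResidueField (T₀ ⧸ Q.asIdeal)]
    rfl
  have hxi : AlgebraicIndependent R s := by
    refine algebraicIndependent_of_map hinj π hπ s ?_
    have h1 := algebraicIndependent_units_smul xbar hxbar.1 (fun i => (hunit i).unit)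
    have : (fun i => π (s i)) = fun i => ((hunit i).unit : p.ResidueField) • xbar i := by
      funext i
      rw [hs i]
      rfl
    rw [this]
    exact h1
  haveI : Module.Flat R K' := IsLocalization.flat K' (nonZeroDivisors R)
  have hxK : AlgebraicIndependent K' (fun i => (1 : K') ⊗ₜ[R] s i) :=
    algebraicIndependent_tmul s hxi
  obtain ⟨N, -, htrN, hdimN, -⟩ := Groth.Agent.DimFTH8.exists_dim_eq K' ((⊥ : Ideal R).Fiber S)
  rw [hdimN]
  have h1 := hxK.cardinalMk_le_trdeg
  rw [hcard] at h1
  have h2 : (n : Cardinal) ≤ (N : Cardinal) := h1.trans (le_of_eq htrN)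
  have h3 : n ≤ N := by exact_mod_cast h2
  exact_mod_cast h3

/-- over a valuation ring, the relative dimension at every point is the dimension of the generic
fibre (injective case). -/
theorem fibreDimAt_point [ValuationRing R] (hinj : Function.Injective (algebraMap R S))
    [Algebra.FiniteType R S] (x : PrimeSpectrum S) :
    FlatMor.fibreDimAt (Spec.map (CommRingCat.ofHom (algebraMap R S))) x =
      ringKrullDim ((⊥ : Ideal R).Fiber S) := by
  let f : Spec (CommRingCat.of S) ⟶ Spec (CommRingCat.of R) :=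
    Spec.map (CommRingCat.ofHom (algebraMap R S))
  haveI : LocallyOfFiniteType f := by
    rw [HasRingHomProperty.Spec_iff (P := @LocallyOfFiniteType)]
    exact RingHom.finiteType_algebraMap.mpr inferInstance
  let pm : PrimeSpectrum R := PrimeSpectrum.comap (algebraMap R S) x
  let e := PrimeSpectrum.preimageHomeomorphFiber R S pm
  let Q : PrimeSpectrum (pm.asIdeal.Fiber S) := e ⟨x, rfl⟩
  have hQ : Q.asIdeal.comap (Algebra.TensorProduct.includeRight.toRingHom) = x.asIdeal :=
    congr($(e.symm_apply_apply ⟨x, rfl⟩).1.asIdeal)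
  haveI : x.asIdeal.LiesOver pm.asIdeal := ⟨rfl⟩
  have h1 := Groth.Agent.Lib.QFLocH8.fibreDimAt_spec R S pm.asIdeal x.asIdeal Q hQ
  have h1' : FlatMor.fibreDimAt f x = FlatMor.localDim (PrimeSpectrum (pm.asIdeal.Fiber S)) Q := h1
  haveI hdom : IsDomain ((⊥ : Ideal R).Fiber S) := isDomain_genericFiber R S hinj
  obtain ⟨N, -, -, hdimN, -⟩ :=
    Groth.Agent.DimFTH8.exists_dim_eq (⊥ : Ideal R).ResidueField ((⊥ : Ideal R).Fiber S)
  have hupper : FlatMor.fibreDimAt f x ≤ (N : WithBot ℕ∞) := by
    rw [h1', ← hdimN]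
    refine le_trans ?_ (dim_fiber_le R S hinj pm.asIdeal)
    rw [← PrimeSpectrum.topologicalKrullDim_eq_ringKrullDim]
    unfold FlatMor.localDim
    refine (iInf_le _ ⟨⊤, trivial⟩).trans ?_
    exact topologicalKrullDim_subspace_le _ _
  have hnonneg : 0 ≤ FlatMor.fibreDimAt f x := by rw [h1']; exact localDim_nonneg _
  show FlatMor.fibreDimAt f x = _
  rw [hdimN]
  rcases eq_top_or_exists_nat _ hnonneg with h | ⟨n, hn⟩
  · rw [h] at hupper
    exfalso
    have h' : ((N : ℕ∞) : WithBot ℕ∞) = ((⊤ : ℕ∞) : WithBot ℕ∞) := top_le_iff.mp hupper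
    exact ENat.natCast_ne_top N (WithBot.coe_injective h')
  apply le_antisymm hupper
  rw [hn]
  have hopen := ChevH8.isOpen_fibreDimAt_le f n
  let ξ : Spec (CommRingCat.of S) := (⟨⊥, Ideal.isPrime_bot⟩ : PrimeSpectrum S)
  have hsp : ξ ⤳ (x : Spec (CommRingCat.of S)) :=
    (PrimeSpectrum.le_iff_specializes (⟨⊥, Ideal.isPrime_bot⟩ : PrimeSpectrum S) x).mp bot_le
  have hx₀ : (x : Spec (CommRingCat.of S)) ∈ {x | FlatMor.fibreDimAt f x ≤ (n : WithBot ℕ∞)} :=
    le_of_eq hn
  have hξ : FlatMor.fibreDimAt f ξ ≤ (n : WithBot ℕ∞) := hsp.mem_open hopen hx₀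
  have hg := fibreDimAt_generic R S hinj
  rw [hdimN] at hg
  rw [← hg]
  exact hξ

end

end Groth.Agent.Lib.ValFibH8
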