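import Mathlib
import Groth.Agent.Lib.ValFib8_helper8

/-! Fibre dimension over valuation rings: constancy on irreducible schemes. -/

universe u

namespace Groth.Agent.Lib.ValFibH8

open TensorProduct AlgebraicGeometry CategoryTheory

/-- relative dimension does not change under composition with a map injective on points. -/
theorem fibreDimAt_comp_injective {X Y Y' : Scheme.{u}} (f : X ⟶ Y) (g : Y ⟶ Y')
    (hg : Function.Injective g.base) (x : X) :
    FlatMor.fibreDimAt (f ≫ g) x = FlatMor.fibreDimAt f x := by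
  rw [EquidimSubH8.fibreDimAt_eq_localDim_preimage (f ≫ g) x,
    EquidimSubH8.fibreDimAt_eq_localDim_preimage f x]
  have hset : (f ≫ g).base ⁻¹' {(f ≫ g).base x} = f.base ⁻¹' {f.base x} := by
    ext a
    simp only [Set.mem_preimage, Set.mem_singleton_iff, Scheme.Hom.comp_base, TopCat.comp_app]
    exact ⟨fun h => hg h, fun h => by rw [h]⟩
  exact EquidimSubH8.localDim_congr hset x rfl

/-- domain case, structure map not necessarily injective. -/
theorem fibreDimAt_point_domain (R S : Type u) [CommRing R] [IsDomain R] [ValuationRing R]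
    [CommRing S] [IsDomain S] [Algebra R S] [Algebra.FiniteType R S] (x : PrimeSpectrum S) :
    FlatMor.fibreDimAt (Spec.map (CommRingCat.ofHom (algebraMap R S))) x =
      FlatMor.fibreDimAt (Spec.map (CommRingCat.ofHom (algebraMap R S)))
        (⟨⊥, Ideal.isPrime_bot⟩ : PrimeSpectrum S) := by
  set 𝔨 := RingHom.ker (algebraMap R S) with h𝔨
  haveI : 𝔨.IsPrime := RingHom.ker_isPrime _
  haveI : IsDomain (R ⧸ 𝔨) := Ideal.Quotient.isDomain 𝔨
  haveI : ValuationRing (R ⧸ 𝔨) :=
    Function.Surjective.valuationRing (Ideal.Quotient.mk 𝔨) Ideal.Quotient.mk_surjective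
  letI : Algebra (R ⧸ 𝔨) S :=
    (Ideal.Quotient.lift 𝔨 (algebraMap R S) (fun a ha => ha)).toAlgebra
  haveI : IsScalarTower R (R ⧸ 𝔨) S := IsScalarTower.of_algebraMap_eq (fun r => rfl)
  have hinj : Function.Injective (algebraMap (R ⧸ 𝔨) S) :=
    RingHom.lift_injective_of_ker_le_ideal 𝔨 (fun a ha => ha) le_rfl
  haveI : Algebra.FiniteType (R ⧸ 𝔨) S := Algebra.FiniteType.of_restrictScalars_finiteType R _ S
  let f' : Spec (CommRingCat.of S) ⟶ Spec (CommRingCat.of (R ⧸ 𝔨)) :=
    Spec.map (CommRingCat.ofHom (algebraMap (R ⧸ 𝔨) S))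
  let g : Spec (CommRingCat.of (R ⧸ 𝔨)) ⟶ Spec (CommRingCat.of R) :=
    Spec.map (CommRingCat.ofHom (algebraMap R (R ⧸ 𝔨)))
  have hcomp : Spec.map (CommRingCat.ofHom (algebraMap R S)) = f' ≫ g := by
    rw [← Spec.map_comp, ← CommRingCat.ofHom_comp, ← IsScalarTower.algebraMap_eq]
  have hg : Function.Injective g.base := by
    intro a b hab
    exact PrimeSpectrum.comap_injective_of_surjective _ Ideal.Quotient.mk_surjective hab
  rw [hcomp, fibreDimAt_comp_injective f' g hg, fibreDimAt_comp_injective f' g hg]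
  rw [fibreDimAt_point (R ⧸ 𝔨) S hinj x, fibreDimAt_point (R ⧸ 𝔨) S hinj]

theorem fibreDimAt_point_irred (R B : Type u) [CommRing R] [IsDomain R] [ValuationRing R]
    [CommRing B] [Algebra R B] [Algebra.FiniteType R B] (hN : (nilradical B).IsPrime)
    (x : PrimeSpectrum B) :
    FlatMor.fibreDimAt (Spec.map (CommRingCat.ofHom (algebraMap R B))) x =
      FlatMor.fibreDimAt (Spec.map (CommRingCat.ofHom (algebraMap R B)))
        (⟨nilradical B, hN⟩ : PrimeSpectrum B) := by
  set N := nilradical B with hNdef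
  haveI : IsDomain (B ⧸ N) := Ideal.Quotient.isDomain N
  haveI : Algebra.FiniteType R (B ⧸ N) :=
    Algebra.FiniteType.of_surjective (Ideal.Quotient.mkₐ R N) (Ideal.Quotient.mkₐ_surjective R N)
  let fB : Spec (CommRingCat.of B) ⟶ Spec (CommRingCat.of R) :=
    Spec.map (CommRingCat.ofHom (algebraMap R B))
  let h : Spec (CommRingCat.of (B ⧸ N)) ⟶ Spec (CommRingCat.of B) :=
    Spec.map (CommRingCat.ofHom (Ideal.Quotient.mk N))
  have hcomp : Spec.map (CommRingCat.ofHom (algebraMap R (B ⧸ N))) = h ≫ fB := by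
    rw [← Spec.map_comp]
    rfl
  haveI : IsClosedImmersion h := IsClosedImmersion.spec_of_surjective _ Ideal.Quotient.mk_surjective
  have hemb : Topology.IsEmbedding h.base := h.isClosedEmbedding.isEmbedding
  have hsurj : Function.Surjective h.base := by
    intro y
    have : (y : PrimeSpectrum B) ∈ Set.range (PrimeSpectrum.comap (Ideal.Quotient.mk N)) := by
      rw [_root_.range_comap_of_surjective _ _ Ideal.Quotient.mk_surjective, Ideal.mk_ker]
      show (N : Set B) ⊆ y.asIdeal
      exact nilradical_le_prime y.asIdeal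
    exact this
  obtain ⟨x', hx'⟩ := hsurj x
  have e1 := fibreDimAt_point_domain R (B ⧸ N) x'
  have e3 := fibreDimAt_comp_of_surjective fB h hemb hsurj x'
  have e4 := fibreDimAt_comp_of_surjective fB h hemb hsurj
    ((⟨⊥, Ideal.isPrime_bot⟩ : PrimeSpectrum (B ⧸ N)) : Spec (CommRingCat.of (B ⧸ N)))
  rw [← hcomp] at e3 e4
  have hξ : h.base ((⟨⊥, Ideal.isPrime_bot⟩ : PrimeSpectrum (B ⧸ N)) :
      Spec (CommRingCat.of (B ⧸ N))) = (⟨N, hN⟩ : PrimeSpectrum B) := by
    apply PrimeSpectrum.ext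
    show Ideal.comap (Ideal.Quotient.mk N) ⊥ = N
    rw [← RingHom.ker_eq_comap_bot, Ideal.mk_ker]
  rw [hx'] at e3
  rw [hξ] at e4
  show FlatMor.fibreDimAt fB x = FlatMor.fibreDimAt fB _
  rw [← e3, ← e4, e1]

/-- over a valuation ring, the relative dimension is constant on an irreducible scheme locally of
finite type. -/
theorem fibreDimAt_const {A : Type u} [CommRing A] [IsDomain A] [ValuationRing A]
    {X : Scheme.{u}} [IrreducibleSpace X] (f : X ⟶ Spec (CommRingCat.of A))
    [LocallyOfFiniteType f] (x : X) :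
    FlatMor.fibreDimAt f x = FlatMor.fibreDimAt f (genericPoint X) := by
  set ξ := genericPoint X with hξdef
  obtain ⟨_, ⟨(U : X.Opens), hU : IsAffineOpen U, rfl⟩, hxU, -⟩ :=
    (X.isBasis_affineOpens).exists_subset_of_mem_open (Set.mem_univ x) isOpen_univ
  have hξU : ξ ∈ U := (genericPoint_specializes x).mem_open U.isOpen hxU
  let j : Spec Γ(X, U) ⟶ X := hU.fromSpec
  obtain ⟨ψ, hψ⟩ := Spec.map_surjective (j ≫ f)
  letI : Algebra A Γ(X, U) := ψ.hom.toAlgebra
  have hψ' : Spec.map (CommRingCat.ofHom (algebraMap A Γ(X, U))) = j ≫ f := by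
    rw [← hψ]; rfl
  haveI : Algebra.FiniteType A Γ(X, U) := by
    have h1 : LocallyOfFiniteType (Spec.map (CommRingCat.ofHom (algebraMap A Γ(X, U)))) := by
      rw [hψ']; infer_instance
    rw [HasRingHomProperty.Spec_iff (P := @LocallyOfFiniteType)] at h1
    exact RingHom.finiteType_algebraMap.mp h1
  have hrange : ∀ y : X, y ∈ U → ∃ P : PrimeSpectrum Γ(X, U), j P = y := by
    intro y hy
    have : y ∈ Set.range hU.fromSpec := by rw [hU.range_fromSpec]; exact hy
    exact this
  obtain ⟨y, hy⟩ := hrange x hxU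
  obtain ⟨yξ, hyξ⟩ := hrange ξ hξU
  have hgenB : ∀ P : PrimeSpectrum Γ(X, U), yξ.asIdeal ≤ P.asIdeal := by
    intro P
    have h1 : j yξ ⤳ j P := by rw [hyξ]; exact genericPoint_specializes _
    rw [j.isOpenEmbedding.isInducing.specializes_iff] at h1
    exact (PrimeSpectrum.le_iff_specializes yξ P).mpr h1
  have hNeq : nilradical Γ(X, U) = yξ.asIdeal := by
    apply le_antisymm (nilradical_le_prime yξ.asIdeal)
    rw [nilradical_eq_sInf]
    apply le_sInf
    intro P hP
    exact hgenB ⟨P, hP⟩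
  have hN : (nilradical Γ(X, U)).IsPrime := by rw [hNeq]; exact yξ.isPrime
  have key := fibreDimAt_point_irred A Γ(X, U) hN y
  rw [hψ'] at key
  have e1 := FibCohH8.fibreDimAt_etale_local f (j ≫ f) j (𝟙 _) (by simp) y
  have e2 := FibCohH8.fibreDimAt_etale_local f (j ≫ f) j (𝟙 _) (by simp) yξ
  have hpt : (⟨nilradical Γ(X, U), hN⟩ : PrimeSpectrum Γ(X, U)) = yξ := PrimeSpectrum.ext hNeq
  rw [hpt] at key
  rw [hy] at e1
  rw [hyξ] at e2
  rw [e1, e2]
  exact key

end Groth.Agent.Lib.ValFibH8
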