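import Mathlib
import Groth.Agent.Lib.ValFib9_helper8
import Groth.Agent.Lib.OpenAtComp_helper8
import Groth.Agent.Lib.AffDim12_helper8

/-! Generizations of fibre-generic points over a valuation ring. -/

universe u

namespace Groth.Agent.Lib.ValFibH8

open AlgebraicGeometry CategoryTheory

theorem irreducibleSpace_of_forall_specializes {T : Type*} [TopologicalSpace T] (t : T)
    (h : ∀ z : T, t ⤳ z) : IrreducibleSpace T := by
  have h1 : IsIrreducible (closure {t} : Set T) := isIrreducible_singleton.closure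
  have h2 : closure ({t} : Set T) = Set.univ := by
    ext z
    simp only [Set.mem_univ, iff_true]
    exact (h z).mem_closure
  rw [h2] at h1
  exact (irreducibleSpace_def _).mpr h1

/-- the reduced closed subscheme on the closure of a point. -/
theorem exists_closure_subscheme {X : Scheme.{u}} (a : X) :
    ∃ (Z : Scheme.{u}) (i : Z ⟶ X) (_ : IsClosedImmersion i) (_ : IrreducibleSpace Z) (a' : Z),
      i a' = a ∧ genericPoint Z = a' ∧ Set.range i = closure {a} := by
  let C : TopologicalSpace.Closeds X := ⟨closure {a}, isClosed_closure⟩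
  let I : X.IdealSheafData := Scheme.IdealSheafData.vanishingIdeal C
  have hsupp : (I.support : Set X) = closure {a} := rfl
  have hrange : Set.range I.subschemeι = closure {a} := by
    rw [Scheme.IdealSheafData.range_subschemeι, hsupp]
  have ha : a ∈ Set.range I.subschemeι := by rw [hrange]; exact subset_closure rfl
  obtain ⟨a', ha'⟩ := ha
  have hall : ∀ z : I.subscheme, a' ⤳ z := by
    intro z
    rw [← I.subschemeι.isEmbedding.isInducing.specializes_iff, ha', specializes_iff_mem_closure,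
      ← hrange]
    exact ⟨z, rfl⟩
  haveI hirr : IrreducibleSpace I.subscheme := irreducibleSpace_of_forall_specializes a' hall
  refine ⟨I.subscheme, I.subschemeι, inferInstance, hirr, a', ha', ?_, hrange⟩
  have hg : IsGenericPoint a' (Set.univ : Set I.subscheme) := by
    rw [isGenericPoint_def]
    ext z
    simp only [Set.mem_univ, iff_true]
    exact (hall z).mem_closure
  exact (genericPoint_spec _).eq hg

section

variable (R : Type u) [CommRing R] [IsDomain R] [ValuationRing R] {X : Scheme.{u}}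
  (φ : X ⟶ Spec (CommRingCat.of R)) [LocallyOfFiniteType φ]

/-- relative dimension formula on the closure of `a`, at a point `b` of the closure. -/
theorem toENat_resTrdeg_eq_add (a b : X) (hab : a ⤳ b) :
    ∃ c : ℕ∞, ((Cardinal.toENat (Dual3.resTrdeg φ a) : ℕ∞) : WithBot ℕ∞) =
      ((c : ℕ∞) : WithBot ℕ∞) + ((Cardinal.toENat (Dual3.resTrdeg φ b) : ℕ∞) : WithBot ℕ∞) ∧
      (c = 0 → φ a = φ b → a = b) ∧
      ((∀ y : X, y ⤳ b → φ y = φ b → y = b) → c = 0) := by
  obtain ⟨Z, i, _, _, a', ha', hgenZ, hrange⟩ := exists_closure_subscheme a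
  have hb : b ∈ Set.range i := by rw [hrange]; exact hab.mem_closure
  obtain ⟨b', hb'⟩ := hb
  let g := i ≫ φ
  have h1 := fibreDimAt_const g b'
  rw [hgenZ, FibCohH8.fibreDimAt_eq g b', FibCohH8.fibreDimAt_eq g a'] at h1
  have hmaxa : ∀ z : Z, z ⤳ a' → z = a' := by
    intro z hz
    have h2 : a' ⤳ z := by rw [← hgenZ]; exact genericPoint_specializes z
    exact (hz.antisymm h2).eq
  rw [Groth.Agent.Lib.AffDimH8.fibCoh_eq_zero_of_isMax g a' hmaxa,
    OpenAtCompH8.resTrdeg_closedImmersion_comp i φ a',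
    OpenAtCompH8.resTrdeg_closedImmersion_comp i φ b'] at h1
  have ha'' : i.base a' = a := ha'
  have hb'' : i.base b' = b := hb'
  rw [ha'', hb''] at h1
  refine ⟨FibCohH8.fibCoh g b', ?_, ?_, ?_⟩
  · rw [h1]; simp
  · intro hc hφ
    unfold FibCohH8.fibCoh at hc
    rw [Order.coheight_eq_zero] at hc
    have hga : g a' = g b' := by
      show φ (i a') = φ (i b')
      rw [ha', hb', hφ]
    have hle : (⟨b', rfl⟩ : {u' : Z // g u' = g b'}) ≤ ⟨a', hga⟩ := by
      show a' ⤳ b'
      rw [← hgenZ]; exact genericPoint_specializes _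
    have hle' := hc hle
    have hsp : b' ⤳ a' := hle'
    have h2 : a' ⤳ b' := by rw [← hgenZ]; exact genericPoint_specializes _
    have := (hsp.antisymm h2).eq
    rw [← ha', ← hb', this]
  · intro hmax
    apply OpenAtEqH8.fibCoh_eq_zero_of_isMax g b'
    intro z hz hzb
    apply i.isEmbedding.injective
    have h3 : (i z : X) ⤳ i b' := hzb.map i.continuous
    rw [hb'] at h3 ⊢
    apply hmax _ h3
    have : φ (i z) = φ (i b') := hz
    rw [this, hb']

theorem main14887 (x x' : X) (hgen : x' ⤳ x)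
    (hx : ∀ y : X, y ⤳ x → φ y = φ x → y = x) :
    ∀ y : X, y ⤳ x' → φ y = φ x' → y = x' := by
  intro y hy hφ
  obtain ⟨n, hn⟩ := Groth.Agent.ResQuot2H8.exists_trdeg_nat φ x
  have hn' : Dual3.resTrdeg φ x = (n : Cardinal.{u}) := hn
  -- generizations of `x` have the same residue transcendence degree
  obtain ⟨c₁, h1, -, h1z⟩ := toENat_resTrdeg_eq_add R φ x' x hgen
  obtain ⟨c₂, h2, -, h2z⟩ := toENat_resTrdeg_eq_add R φ y x (hy.trans hgen)
  obtain ⟨c₃, h3, h3z, -⟩ := toENat_resTrdeg_eq_add R φ y x' hy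
  rw [h1z hx] at h1
  rw [h2z hx] at h2
  rw [hn', Cardinal.toENat_nat] at h1 h2
  rw [h2, h1] at h3
  apply h3z _ hφ
  have h4 : ((0 : ℕ∞) : WithBot ℕ∞) + ((n : ℕ∞) : WithBot ℕ∞) =
      ((c₃ : ℕ∞) : WithBot ℕ∞) + (((0 : ℕ∞) : WithBot ℕ∞) + ((n : ℕ∞) : WithBot ℕ∞)) := h3
  have h5 : (0 : ℕ∞) + (n : ℕ∞) = c₃ + (0 + (n : ℕ∞)) := by exact_mod_cast h4
  rw [zero_add] at h5
  have h6 : (0 : ℕ∞) + (n : ℕ∞) = c₃ + (n : ℕ∞) := by rw [zero_add]; exact h5
  exact (ENat.add_left_injective_of_ne_top (ENat.natCast_ne_top n) h6).symm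

end

end Groth.Agent.Lib.ValFibH8
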