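import Mathlib
import Groth.Prelude.Def_Flat
import Groth.Prelude.Def_MoreMor
import Groth.Agent.Lib.FibDimCons_helper8
import Groth.Agent.Lib.EquidimIrr_helper8
import Groth.Agent.Lib.FibGen2_helper8
import Groth.Agent.Lib.CMMor12_helper8
import Groth.Agent.Lib.CMMor6_helper8
import Groth.Agent.Lib.FibCoh3_helper8
import Groth.Agent.Lib.EquidimAt2_helper8

/-! Proper flat finitely presented morphisms: the locus of zero-dimensional fibres is clopen and the
morphism is finite over it. -/

universe u
open AlgebraicGeometry CategoryTheory CategoryTheory.Limits Topology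

namespace Groth.Agent.Lib.ZeroDimFinH8

variable {X Y : Scheme.{u}} (f : X ⟶ Y)

theorem dim_preimage_eq (y : Y) :
    topologicalKrullDim (f.base ⁻¹' {y}) = topologicalKrullDim (f.fiber y) :=
  (IsHomeomorph.topologicalKrullDim_eq _ (f.fiberHomeo y).isHomeomorph).symm

theorem fibreDimAt_nonneg (x : X) : 0 ≤ FlatMor.fibreDimAt f x := by
  refine le_trans ?_ (TopDimLocH8.coheight_le_localDim (f.fiber (f x)) (f.asFiber x))
  exact_mod_cast bot_le

/-- a point maximal in its fibre of a flat morphism locally of finite type is a CM point, and its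
relative dimension is the residue transcendence degree. -/
theorem isCMAt_of_fibre_max [Flat f] [LocallyOfFiniteType f] (x' : X)
    (hmax : ∀ x'' : X, f.base x'' = f.base x' → x'' ⤳ x' → x'' = x') :
    MoreMor.IsCMAt f x' ∧
      FlatMor.fibreDimAt f x' = ((Cardinal.toENat (Dual3.resTrdeg f x') : ℕ∞) : WithBot ℕ∞) := by
  have h0 : FibCohH8.fibCoh f x' = 0 := by
    unfold FibCohH8.fibCoh
    rw [Order.coheight_eq_zero]
    rintro ⟨b, hb⟩ hle
    have hsp : b ⤳ x' := hle
    have := hmax b hb hsp
    subst this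
    exact le_refl _
  refine ⟨⟨Flat.stalkMap f _, ?_⟩, ?_⟩
  · haveI := Groth.Agent.FibChainH8.isLocallyNoetherian_fiber f (f x')
    apply Groth.Agent.FlatCM.isCMLocalRing_of_dim_zero
    rw [FibCohH8.stalk_fiber_eq_fibCoh, h0]
    rfl
  · rw [FibCohH8.fibreDimAt_eq f x', h0]
    simp

end Groth.Agent.Lib.ZeroDimFinH8
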