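import Mathlib
import Groth.Prelude.Def_Flat
import Groth.Prelude.Def_MoreMor
import Groth.Agent.Lib.ZeroDimFin_helper8
import Groth.Agent.Lib.ValFib10_helper8
import Groth.Agent.Lib.GenDim1_helper8
import Groth.Agent.Lib.FieldExt3_helper8

/-! Flat morphisms locally of finite type: a bound on the fibre dimension over a dense open
propagates (finite presentation, or retrocompact open). -/

universe u
open AlgebraicGeometry CategoryTheory CategoryTheory.Limits Topology

namespace Groth.Agent.Lib.DenseFibH8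

/-- a dense quasi-compact open of a spectrum contains a generization of every point. -/
theorem exists_le_notMem_of_dense {A : Type*} [CommRing A] (t : Finset A)
    (hd : Dense ((PrimeSpectrum.zeroLocus (t : Set A))ᶜ)) (p : PrimeSpectrum A) :
    ∃ q : PrimeSpectrum A, q ≤ p ∧ q ∈ (PrimeSpectrum.zeroLocus (t : Set A))ᶜ := by
  by_contra hcon
  push Not at hcon
  have key : ∀ a : A, a ∈ t → ∃ g : A, g ∉ p.asIdeal ∧ ∃ n : ℕ, g * a ^ n = 0 := by
    intro a ha
    by_contra hno
    push Not at hno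
    have hdisj : Disjoint ((⊥ : Ideal A) : Set A)
        ((p.asIdeal.primeCompl ⊔ Submonoid.powers a : Submonoid A) : Set A) := by
      rw [Set.disjoint_left]
      intro z hz hz'
      have hz0 : z = 0 := hz
      subst hz0
      obtain ⟨y, hy, w, ⟨n, rfl⟩, hyw⟩ := Submonoid.mem_sup.mp hz'
      exact hno y hy n hyw
    obtain ⟨q, hq, -, hqd⟩ := Ideal.exists_le_prime_disjoint (⊥ : Ideal A) _ hdisj
    have hqp : (⟨q, hq⟩ : PrimeSpectrum A) ≤ p := by
      intro z hz
      by_contra hzp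
      exact Set.disjoint_left.mp hqd hz (Submonoid.mem_sup_left (show z ∈ p.asIdeal.primeCompl from hzp))
    have haq : a ∉ q := fun h =>
      Set.disjoint_left.mp hqd h (Submonoid.mem_sup_right (Submonoid.mem_powers a))
    have := hcon ⟨q, hq⟩ hqp
    rw [Set.mem_compl_iff, not_not, PrimeSpectrum.mem_zeroLocus] at this
    exact haq (this ha)
  choose! g hg n hn using key
  set G : A := ∏ a ∈ t, g a with hG
  have hGp : G ∉ p.asIdeal := by
    rw [hG, Ideal.IsPrime.prod_mem_iff]
    rintro ⟨a, ha, hga⟩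
    exact hg a ha hga
  have hopen : IsOpen (PrimeSpectrum.basicOpen G : Set (PrimeSpectrum A)) :=
    (PrimeSpectrum.basicOpen G).2
  obtain ⟨q, hq1, hq2⟩ := hd.inter_open_nonempty _ hopen ⟨p, hGp⟩
  rw [Set.mem_compl_iff, PrimeSpectrum.mem_zeroLocus, Set.not_subset] at hq2
  obtain ⟨a, ha, haq⟩ := hq2
  have hGq : G ∉ q.asIdeal := hq1
  obtain ⟨c, hc⟩ := Finset.dvd_prod_of_mem g ha
  have h0 : G * a ^ n a = 0 := by
    rw [hG, hc, mul_comm (g a) c, mul_assoc, hn a ha, mul_zero]
  have hmem : G * a ^ n a ∈ q.asIdeal := by rw [h0]; exact q.asIdeal.zero_mem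
  rcases q.2.mem_or_mem hmem with h | h
  · exact hGq h
  · exact haq (q.2.mem_of_pow_mem _ h)

theorem exists_generization_mem {S : Scheme.{u}} (U : S.Opens) (hU : Dense (U : Set S))
    (hr : IsRetrocompact (U : Set S)) (s : S) : ∃ s' ∈ U, s' ⤳ s := by
  obtain ⟨_, ⟨V, hV, rfl⟩, hsV, -⟩ :=
    S.isBasis_affineOpens.exists_subset_of_mem_open (Set.mem_univ s) isOpen_univ
  have hV' : IsAffineOpen V := hV
  have hemb : IsOpenEmbedding hV'.fromSpec := hV'.fromSpec.isOpenEmbedding
  have hrange : Set.range hV'.fromSpec = (V : Set S) := hV'.range_fromSpec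
  have hcomp : IsCompact (hV'.fromSpec ⁻¹' ((U : Set S) ∩ V)) := by
    rw [hemb.isEmbedding.isCompact_preimage_iff (by rw [hrange]; exact Set.inter_subset_right)]
    exact hr hV'.isCompact V.2
  have hopen : IsOpen (hV'.fromSpec ⁻¹' ((U : Set S) ∩ V)) :=
    (U.2.inter V.2).preimage hV'.fromSpec.continuous
  have hdense : Dense (hV'.fromSpec ⁻¹' ((U : Set S) ∩ V)) := by
    have : hV'.fromSpec ⁻¹' ((U : Set S) ∩ V) = hV'.fromSpec ⁻¹' (U : Set S) := by
      rw [Set.preimage_inter, ← hrange, Set.preimage_range, Set.inter_univ]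
    rw [this]
    exact hU.preimage hemb.isOpenMap
  obtain ⟨t, ht⟩ := PrimeSpectrum.isCompact_isOpen_iff.mp ⟨hcomp, hopen⟩
  have hs : s ∈ Set.range hV'.fromSpec := by rw [hrange]; exact hsV
  obtain ⟨p, rfl⟩ := hs
  rw [← ht] at hdense
  obtain ⟨q, hqp, hq⟩ := exists_le_notMem_of_dense t hdense p
  rw [ht] at hq
  refine ⟨hV'.fromSpec q, hq.1, ?_⟩
  exact ((PrimeSpectrum.le_iff_specializes q p).mp hqp).map hV'.fromSpec.continuous

end Groth.Agent.Lib.DenseFibH8
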