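import Mathlib
import Groth.Prelude.Def_Flat
import Groth.Prelude.Def_MoreMor
import Groth.Agent.Lib.DenseFib_helper8
import Groth.Agent.Lib.CMMor12_helper8
import Groth.Agent.Lib.EquidimIrr_helper8

universe u
open AlgebraicGeometry CategoryTheory CategoryTheory.Limits Topology

namespace Groth.Agent.Lib.DenseFibH8

variable {X S : Scheme.{u}} (f : X ⟶ S)

theorem case_lfp [Flat f] [LocallyOfFinitePresentation f] (U : S.Opens)
    (hU : Dense (U : Set S)) (e : ℕ)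
    (hle : ∀ x : X, f.base x ∈ U → FlatMor.fibreDimAt f x ≤ e) (x : X) :
    FlatMor.fibreDimAt f x ≤ e := by
  obtain ⟨x', h1, h2, h3, h4⟩ := EquidimIrrH8.exists_fibre_max_dim f x
  obtain ⟨hcm, hd⟩ := ZeroDimFinH8.isCMAt_of_fibre_max f x'
    (fun x'' h h' => h3 x'' (h.trans h1) h')
  have hopen := CMMorH8.isOpen_isCMAt_fibreDimAt_eq f (FlatMor.fibreDimAt f x')
  have himg : IsOpen (f '' {x : X | MoreMor.IsCMAt f x ∧
      FlatMor.fibreDimAt f x = FlatMor.fibreDimAt f x'}) := f.isOpenMap _ hopen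
  obtain ⟨y, ⟨w, ⟨-, hw2⟩, rfl⟩, hyU⟩ :=
    hU.inter_open_nonempty _ himg ⟨f x', x', ⟨hcm, rfl⟩, rfl⟩
  have h5 := hle w hyU
  rw [hw2, hd] at h5
  exact h4.trans h5

theorem valuation_core (R : Type u) [CommRing R] [IsDomain R] [ValuationRing R]
    (φ : X ⟶ Spec (CommRingCat.of R)) [Flat φ] [LocallyOfFiniteType φ] (e : ℕ)
    (hgen : ∀ w : X, φ w = (⟨⊥, Ideal.isPrime_bot⟩ : PrimeSpectrum R) →
      FlatMor.fibreDimAt φ w ≤ e) (x : X) : FlatMor.fibreDimAt φ x ≤ e := by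
  obtain ⟨x', h1, h2, h3, h4⟩ := EquidimIrrH8.exists_fibre_max_dim φ x
  have hsp : (⟨⊥, Ideal.isPrime_bot⟩ : PrimeSpectrum R) ⤳ φ x' :=
    (PrimeSpectrum.le_iff_specializes (⟨⊥, Ideal.isPrime_bot⟩ : PrimeSpectrum R) _).mp bot_le
  obtain ⟨ξ, hξ1, hξ2⟩ := Flat.generalizingMap φ hsp
  obtain ⟨c, hc, -, -⟩ := ValFibH8.toENat_resTrdeg_eq_add R φ ξ x' hξ1
  have h5 := hgen ξ hξ2
  rw [FibCohH8.fibreDimAt_eq φ ξ] at h5
  have e1 : ((Cardinal.toENat (Dual3.resTrdeg φ x') : ℕ∞) : WithBot ℕ∞) ≤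
      ((Cardinal.toENat (Dual3.resTrdeg φ ξ) : ℕ∞) : WithBot ℕ∞) := by
    rw [hc, ← WithBot.coe_add]
    exact WithBot.coe_le_coe.mpr le_add_self
  have e2 : ((Cardinal.toENat (Dual3.resTrdeg φ ξ) : ℕ∞) : WithBot ℕ∞) ≤
      ((FibCohH8.fibCoh φ ξ : ℕ∞) : WithBot ℕ∞) +
        ((Cardinal.toENat (Dual3.resTrdeg φ ξ) : ℕ∞) : WithBot ℕ∞) := by
    rw [← WithBot.coe_add]
    exact WithBot.coe_le_coe.mpr le_add_self
  exact h4.trans (e1.trans (e2.trans h5))

theorem case_retro [Flat f] [LocallyOfFiniteType f] (U : S.Opens)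
    (hU : Dense (U : Set S)) (hr : IsRetrocompact (U : Set S)) (e : ℕ)
    (hle : ∀ x : X, f.base x ∈ U → FlatMor.fibreDimAt f x ≤ e) (x : X) :
    FlatMor.fibreDimAt f x ≤ e := by
  obtain ⟨s', hs'U, hs's⟩ := exists_generization_mem U hU hr (f x)
  obtain ⟨R, _, _, _, h, hη, hcl⟩ := GenDimH8.exists_valuationRing_of_specializes (f x) s' hs's
  have hsq : IsPullback (pullback.fst f h) (pullback.snd f h) f h := IsPullback.of_hasPullback f h
  obtain ⟨xR, hx1, hx2⟩ := Scheme.Pullback.exists_preimage_pullback (f := f) (g := h) x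
    (IsLocalRing.closedPoint R) hcl.symm
  rw [← hx1, ← FieldExtH8.fibreDimAt_baseChange f h _ _ hsq xR]
  apply valuation_core R (pullback.snd f h) e ?_ xR
  intro w hw
  rw [FieldExtH8.fibreDimAt_baseChange f h _ _ hsq w]
  apply hle
  have : f.base (pullback.fst f h w) = h (pullback.snd f h w) := by
    rw [← Scheme.Hom.comp_apply, ← Scheme.Hom.comp_apply, pullback.condition]
  rw [this, hw, hη]
  exact hs'U

theorem main1240 [Flat f] [LocallyOfFiniteType f]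
    (U : S.Opens) (hU : Dense (U : Set S)) (e : ℕ)
    (hle : ∀ x : X, f.base x ∈ U → FlatMor.fibreDimAt f x ≤ e)
    (h : LocallyOfFinitePresentation f ∨ IsRetrocompact (U : Set S)) (x : X) :
    FlatMor.fibreDimAt f x ≤ e := by
  rcases h with h | h
  · exact case_lfp f U hU e hle x
  · exact case_retro f U hU h e hle x

end Groth.Agent.Lib.DenseFibH8
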