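import Groth.Agent.S0392
import Groth.Agent.Lib.AlgSpBasic_helper7

/-!
# Fibrewise criterion of flatness for locally Noetherian schemes (helper7)

Global form deduced from the local ring statement S0392.
-/

set_option autoImplicit false
universe u
open CategoryTheory CategoryTheory.Limits AlgebraicGeometry TensorProduct

namespace Groth.Agent.Lib.FibreFlatH7

theorem isPullback_id_of_mono {C : Type*} [Category C] {A B D : C} (f : A ⟶ B) (m : B ⟶ D)
    [Mono m] : IsPullback (𝟙 A) f (f ≫ m) m := by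
  have h := (Groth.Agent.Lib.AlgSpBasic_helper7.isPullback_comp_mono_iff (fst := 𝟙 A) (snd := f)
    (g := f) (c := 𝟙 B) m).2 (IsPullback.id_horiz f)
  rwa [Category.id_comp] at h

theorem flat_of_comp_mono {A B D : Scheme.{u}} (f : A ⟶ B) (m : B ⟶ D) [Mono m]
    (h : Flat (f ≫ m)) : Flat f :=
  MorphismProperty.of_isPullback (P := @Flat) (isPullback_id_of_mono f m) h

theorem flat_fromSpecStalk (X : Scheme.{u}) (x : X) : Flat (X.fromSpecStalk x) := by
  obtain ⟨_, ⟨U, hU, rfl⟩, hxU, -⟩ := X.isBasis_affineOpens.exists_subset_of_mem_open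
    (Set.mem_univ x) isOpen_univ
  rw [← IsAffineOpen.fromSpecStalk_eq_fromSpecStalk hU hxU, IsAffineOpen.fromSpecStalk]
  haveI : Flat (Spec.map (X.presheaf.germ U x hxU)) := by
    rw [Flat.SpecMap_iff]
    letI := TopCat.Presheaf.algebra_section_stalk X.presheaf (⟨x, hxU⟩ : U)
    haveI := hU.isLocalization_stalk ⟨x, hxU⟩
    have hfl : Module.Flat Γ(X, U) (X.presheaf.stalk x) :=
      IsLocalization.flat _ (hU.primeIdealOf ⟨x, hxU⟩).asIdeal.primeCompl
    exact RingHom.flat_algebraMap_iff.mpr hfl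
  infer_instance

/-- The key geometric input: flatness of the fibre morphism gives flatness of the base change of
`Spec 𝒪_{U,u} ⟶ Spec 𝒪_{V,v}` to any `Spec A ⟶ Spec 𝒪_{V,v}` lying over the residue field point. -/
theorem flat_pullback_fst_stalk {U V W : Scheme.{u}} (g : U ⟶ V) (k : V ⟶ W) (u : U)
    {Uw Vw : Scheme.{u}} (p1 : Uw ⟶ U) (p2 : Uw ⟶ Spec (W.residueField (k (g u))))
    (q1 : Vw ⟶ V) (q2 : Vw ⟶ Spec (W.residueField (k (g u)))) (gw : Uw ⟶ Vw)
    (hU : IsPullback p1 p2 (g ≫ k) (W.fromSpecResidueField (k (g u))))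
    (hV : IsPullback q1 q2 k (W.fromSpecResidueField (k (g u))))
    (c1 : gw ≫ q1 = p1 ≫ g) (c2 : gw ≫ q2 = p2) (hgw : Flat gw)
    {A : CommRingCat.{u}} (i : V.presheaf.stalk (g u) ⟶ A) (r : W.residueField (k (g u)) ⟶ A)
    (hir : k.stalkMap (g u) ≫ i = W.residue (k (g u)) ≫ r) :
    Flat (pullback.fst (Spec.map i) (Spec.map (g.stalkMap u))) := by
  have S1 : IsPullback p1 gw g q1 := IsPullback.of_bot (by rw [c2]; exact hU) c1.symm hV
  have hα : (Spec.map i ≫ V.fromSpecStalk (g u)) ≫ k =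
      Spec.map r ≫ W.fromSpecResidueField (k (g u)) := by
    rw [Category.assoc, ← Scheme.SpecMap_stalkMap_fromSpecStalk, ← Spec.map_comp_assoc, hir,
      Spec.map_comp_assoc]
    rfl
  obtain ⟨α, hα1, -⟩ : ∃ α : Spec A ⟶ Vw, α ≫ q1 = Spec.map i ≫ V.fromSpecStalk (g u) ∧
      α ≫ q2 = Spec.map r := ⟨hV.lift _ _ hα, hV.lift_fst _ _ _, hV.lift_snd _ _ _⟩
  have hjc : Spec.map (g.stalkMap u) ≫ V.fromSpecStalk (g u) = U.fromSpecStalk u ≫ g :=
    Scheme.SpecMap_stalkMap_fromSpecStalk g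
  obtain ⟨j, hj1, hj2⟩ : ∃ j : Spec (U.presheaf.stalk u) ⟶ pullback (V.fromSpecStalk (g u)) g,
      j ≫ pullback.fst _ _ = Spec.map (g.stalkMap u) ∧ j ≫ pullback.snd _ _ = U.fromSpecStalk u :=
    ⟨pullback.lift _ _ hjc, pullback.lift_fst _ _ _, pullback.lift_snd _ _ _⟩
  have hjflat : Flat j :=
    flat_of_comp_mono j (pullback.snd (V.fromSpecStalk (g u)) g) (by
      rw [hj2]; exact flat_fromSpecStalk U u)
  obtain ⟨β, hβ1, hβ2⟩ : ∃ β : pullback (Spec.map i) (Spec.map (g.stalkMap u)) ⟶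
      pullback (Spec.map i) (pullback.fst (V.fromSpecStalk (g u)) g),
      β ≫ pullback.fst _ _ = pullback.fst _ _ ∧
      β ≫ pullback.snd _ _ = pullback.snd _ _ ≫ j :=
    ⟨pullback.lift (pullback.fst _ _) (pullback.snd _ _ ≫ j) (by
      rw [Category.assoc, hj1, pullback.condition]), pullback.lift_fst _ _ _,
      pullback.lift_snd _ _ _⟩
  have sqβ : IsPullback β (pullback.snd (Spec.map i) (Spec.map (g.stalkMap u)))
      (pullback.snd (Spec.map i) (pullback.fst (V.fromSpecStalk (g u)) g)) j := by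
    refine IsPullback.of_right ?_ hβ2 (IsPullback.of_hasPullback (Spec.map i)
      (pullback.fst (V.fromSpecStalk (g u)) g))
    rw [hβ1, hj1]
    exact IsPullback.of_hasPullback _ _
  have hβflat : Flat β := MorphismProperty.of_isPullback (P := @Flat) sqβ.flip hjflat
  have sqE := IsPullback.of_hasPullback (V.fromSpecStalk (g u)) g
  have sqQ2 := IsPullback.of_hasPullback (Spec.map i) (pullback.fst (V.fromSpecStalk (g u)) g)
  have big := sqQ2.paste_vert sqE
  obtain ⟨δ, hδ1, hδ2⟩ : ∃ δ : pullback (Spec.map i) (pullback.fst (V.fromSpecStalk (g u)) g) ⟶ Uw,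
      δ ≫ p1 = pullback.snd _ _ ≫ pullback.snd _ _ ∧ δ ≫ gw = pullback.fst _ _ ≫ α :=
    ⟨S1.lift _ _ (big.w.symm.trans (by rw [Category.assoc, hα1])), S1.lift_fst _ _ _,
      S1.lift_snd _ _ _⟩
  have sq5 : IsPullback (pullback.fst (Spec.map i) (pullback.fst (V.fromSpecStalk (g u)) g)) δ α
      gw := IsPullback.of_bot (by rw [hδ1, hα1]; exact big) hδ2.symm S1.flip
  have hfst2 : Flat (pullback.fst (Spec.map i) (pullback.fst (V.fromSpecStalk (g u)) g)) :=
    MorphismProperty.of_isPullback (P := @Flat) sq5.flip hgw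
  rw [← hβ1]
  infer_instance

theorem flat_tensor_of_flat_pullback_fst (S A S' : Type u) [CommRing S] [CommRing A]
    [CommRing S'] [Algebra S A] [Algebra S S']
    (h : Flat (pullback.fst (Spec.map (CommRingCat.ofHom (algebraMap S A)))
      (Spec.map (CommRingCat.ofHom (algebraMap S S'))))) :
    Module.Flat A (A ⊗[S] S') := by
  have h1 : Flat (Spec.map (CommRingCat.ofHom (algebraMap A (A ⊗[S] S')))) := by
    rw [← pullbackSpecIso_inv_fst' S A S']
    infer_instance
  rw [Flat.SpecMap_iff] at h1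
  exact RingHom.flat_algebraMap_iff.mp h1

/-- The ideal of `S` generated by the maximal ideal of `R`. -/
abbrev mIdeal (R S : Type u) [CommRing R] [CommRing S] [IsLocalRing R] [Algebra R S] : Ideal S :=
  (IsLocalRing.maximalIdeal R).map (algebraMap R S)

/-- Fibrewise criterion of flatness for locally Noetherian schemes. -/
theorem flat_of_fibrewise_flat {U V W : Scheme.{u}} [IsLocallyNoetherian U]
    [IsLocallyNoetherian V] [IsLocallyNoetherian W] (g : U ⟶ V) (k : V ⟶ W) [Flat (g ≫ k)]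
    (hfib : ∀ w : W, ∃ (Uw Vw : Scheme.{u}) (p1 : Uw ⟶ U) (p2 : Uw ⟶ Spec (W.residueField w))
      (q1 : Vw ⟶ V) (q2 : Vw ⟶ Spec (W.residueField w)) (gw : Uw ⟶ Vw),
      IsPullback p1 p2 (g ≫ k) (W.fromSpecResidueField w) ∧
      IsPullback q1 q2 k (W.fromSpecResidueField w) ∧ gw ≫ q1 = p1 ≫ g ∧ gw ≫ q2 = p2 ∧
      Flat gw) :
    Flat g ∧ (Surjective g → Flat k) := by
  have key : ∀ u : U, (g.stalkMap u).hom.Flat ∧ (k.stalkMap (g u)).hom.Flat := by
    intro u
    obtain ⟨Uw, Vw, p1, p2, q1, q2, gw, hU, hV, c1, c2, hgw⟩ := hfib (k (g u))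
    letI algRS : Algebra (W.presheaf.stalk (k (g u))) (V.presheaf.stalk (g u)) :=
      (k.stalkMap (g u)).hom.toAlgebra
    letI algSS' : Algebra (V.presheaf.stalk (g u)) (U.presheaf.stalk u) :=
      (g.stalkMap u).hom.toAlgebra
    letI algRS' : Algebra (W.presheaf.stalk (k (g u))) (U.presheaf.stalk u) :=
      (k.stalkMap (g u) ≫ g.stalkMap u).hom.toAlgebra
    haveI : IsScalarTower (W.presheaf.stalk (k (g u))) (V.presheaf.stalk (g u))
        (U.presheaf.stalk u) := IsScalarTower.of_algebraMap_eq (fun _ => rfl)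
    haveI : IsLocalHom (algebraMap (W.presheaf.stalk (k (g u))) (V.presheaf.stalk (g u))) :=
      inferInstanceAs (IsLocalHom (k.stalkMap (g u)).hom)
    haveI : IsLocalHom (algebraMap (V.presheaf.stalk (g u)) (U.presheaf.stalk u)) :=
      inferInstanceAs (IsLocalHom (g.stalkMap u).hom)
    haveI : Module.Flat (W.presheaf.stalk (k (g u))) (U.presheaf.stalk u) := by
      have h1 := Flat.stalkMap (g ≫ k) u
      rw [Scheme.Hom.stalkMap_comp] at h1
      exact h1
    have hsch := flat_pullback_fst_stalk g k u p1 p2 q1 q2 gw hU hV c1 c2 hgw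
      (A := CommRingCat.of (V.presheaf.stalk (g u) ⧸
        mIdeal (W.presheaf.stalk (k (g u))) (V.presheaf.stalk (g u))))
      (CommRingCat.ofHom (Ideal.Quotient.mk _))
      (CommRingCat.ofHom (Ideal.Quotient.lift _
        ((Ideal.Quotient.mk (mIdeal (W.presheaf.stalk (k (g u))) (V.presheaf.stalk (g u)))).comp
          (algebraMap _ _))
        (fun a ha => Ideal.Quotient.eq_zero_iff_mem.mpr (Ideal.mem_map_of_mem _ ha))))
      (by ext x; rfl)
    have H := flat_tensor_of_flat_pullback_fst (V.presheaf.stalk (g u))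
      (V.presheaf.stalk (g u) ⧸ mIdeal (W.presheaf.stalk (k (g u))) (V.presheaf.stalk (g u)))
      (U.presheaf.stalk u) hsch
    have res := Groth.Agent.S0392.result (R := W.presheaf.stalk (k (g u)))
      (S := V.presheaf.stalk (g u)) (S' := U.presheaf.stalk u) (M := U.presheaf.stalk u) H
    exact ⟨res.2, res.1⟩
  refine ⟨Flat.of_stalkMap g (fun u => (key u).1), fun hs => Flat.of_stalkMap k (fun v => ?_)⟩
  obtain ⟨u, rfl⟩ := hs.surj v
  exact (key u).2

end Groth.Agent.Lib.FibreFlatH7
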