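import Mathlib
import Groth.Prelude.Def_Flat
import Groth.Prelude.Def_MoreMor
import Groth.Agent.Lib.DenseFib2_helper8
import Groth.Agent.Lib.FibreFlat_helper7

universe u
open AlgebraicGeometry CategoryTheory CategoryTheory.Limits Topology

namespace Groth.Agent.Lib.FlatPtH8

/-- pointwise version of `valuation_core'`: the going-down hypothesis is only needed at
generizations of `z`. -/
theorem valuation_core_pt (R : Type u) [CommRing R] [IsDomain R] [ValuationRing R] {Z : Scheme.{u}}
    (ψ : Z ⟶ Spec (CommRingCat.of R)) [LocallyOfFiniteType ψ] (z : Z)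
    (hgd : ∀ z' : Z, z' ⤳ z → ∃ ξ : Z, ξ ⤳ z' ∧ ψ ξ = (⟨⊥, Ideal.isPrime_bot⟩ : PrimeSpectrum R))
    (r : WithBot ℕ∞)
    (hgen : ∀ w : Z, ψ w = (⟨⊥, Ideal.isPrime_bot⟩ : PrimeSpectrum R) →
      FlatMor.fibreDimAt ψ w ≤ r) : FlatMor.fibreDimAt ψ z ≤ r := by
  obtain ⟨x', h1, h2, h3, h4⟩ := EquidimIrrH8.exists_fibre_max_dim ψ z
  obtain ⟨ξ, hξ1, hξ2⟩ := hgd x' h2
  obtain ⟨c, hc, -, -⟩ := ValFibH8.toENat_resTrdeg_eq_add R ψ ξ x' hξ1
  have h5 := hgen ξ hξ2
  rw [FibCohH8.fibreDimAt_eq ψ ξ] at h5
  have e1 : ((Cardinal.toENat (Dual3.resTrdeg ψ x') : ℕ∞) : WithBot ℕ∞) ≤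
      ((Cardinal.toENat (Dual3.resTrdeg ψ ξ) : ℕ∞) : WithBot ℕ∞) := by
    rw [hc, ← WithBot.coe_add]
    exact WithBot.coe_le_coe.mpr le_add_self
  have e2 : ((Cardinal.toENat (Dual3.resTrdeg ψ ξ) : ℕ∞) : WithBot ℕ∞) ≤
      ((FibCohH8.fibCoh ψ ξ : ℕ∞) : WithBot ℕ∞) +
        ((Cardinal.toENat (Dual3.resTrdeg ψ ξ) : ℕ∞) : WithBot ℕ∞) := by
    rw [← WithBot.coe_add]
    exact WithBot.coe_le_coe.mpr le_add_self
  exact h4.trans (e1.trans (e2.trans h5))

/-- If `f` is flat at the point `x` (flat stalk map), then a bound on the relative dimension over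
a generization `s'` of `f x` propagates to `x`. -/
theorem fibreDimAt_le_of_flat_stalkMap {X S : Scheme.{u}} (f : X ⟶ S) [LocallyOfFiniteType f]
    (x : X) (hfl : (f.stalkMap x).hom.Flat) (s' : S) (hs : s' ⤳ f x) (r : WithBot ℕ∞)
    (hle : ∀ w : X, f w = s' → FlatMor.fibreDimAt f w ≤ r) : FlatMor.fibreDimAt f x ≤ r := by
  obtain ⟨R, _, _, _, h, hη, hcl⟩ := GenDimH8.exists_valuationRing_of_specializes (f x) s' hs
  have hsq : IsPullback (pullback.fst f h) (pullback.snd f h) f h := IsPullback.of_hasPullback f h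
  obtain ⟨xR, hx1, hx2⟩ := Scheme.Pullback.exists_preimage_pullback (f := f) (g := h) x
    (IsLocalRing.closedPoint R) hcl.symm
  rw [← hx1, ← FieldExtH8.fibreDimAt_baseChange f h _ _ hsq xR]
  refine valuation_core_pt R (pullback.snd f h) xR ?_ r ?_
  · -- going down at generizations of xR
    intro z' hz'
    set j := X.fromSpecStalk x with hj
    haveI : Flat j := FibreFlatH7.flat_fromSpecStalk X x
    haveI : Flat (j ≫ f) := by
      rw [hj, ← Scheme.SpecMap_stalkMap_fromSpecStalk]
      haveI : Flat (Spec.map (f.stalkMap x)) := Flat.SpecMap_iff.mpr hfl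
      haveI : Flat (S.fromSpecStalk (f x)) := FibreFlatH7.flat_fromSpecStalk S (f x)
      infer_instance
    have hsq2 : IsPullback (pullback.fst j (pullback.fst f h)) (pullback.snd j (pullback.fst f h))
        j (pullback.fst f h) := IsPullback.of_hasPullback _ _
    have hbig := hsq2.paste_vert hsq
    haveI : Flat (pullback.snd j (pullback.fst f h) ≫ pullback.snd f h) :=
      MorphismProperty.of_isPullback (P := @Flat) hbig inferInstance
    have hy : pullback.fst f h z' ∈ Set.range j := by
      rw [hj, Scheme.range_fromSpecStalk]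
      have := hz'.map (pullback.fst f h).continuous
      rw [hx1] at this
      exact this
    obtain ⟨b, hb⟩ := hy
    obtain ⟨w, -, hw2⟩ := Scheme.Pullback.exists_preimage_pullback (f := j)
      (g := pullback.fst f h) b z' hb
    have hsp : (⟨⊥, Ideal.isPrime_bot⟩ : PrimeSpectrum R) ⤳
        (pullback.snd j (pullback.fst f h) ≫ pullback.snd f h) w :=
      (PrimeSpectrum.le_iff_specializes (⟨⊥, Ideal.isPrime_bot⟩ : PrimeSpectrum R) _).mp bot_le
    obtain ⟨ξ', hξ1, hξ2⟩ := Flat.generalizingMap
      (pullback.snd j (pullback.fst f h) ≫ pullback.snd f h) hsp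
    refine ⟨pullback.snd j (pullback.fst f h) ξ', ?_, ?_⟩
    · rw [← hw2]
      exact hξ1.map (pullback.snd j (pullback.fst f h)).continuous
    · rw [← Scheme.Hom.comp_apply]; exact hξ2
  · intro w hw
    rw [FieldExtH8.fibreDimAt_baseChange f h _ _ hsq w]
    apply hle
    have : f.base (pullback.fst f h w) = h (pullback.snd f h w) := by
      rw [← Scheme.Hom.comp_apply, ← Scheme.Hom.comp_apply, pullback.condition]
    rw [this, hw, hη]

/-- On an irreducible scheme, the relative dimension is constant on the fibre through the generic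
point. -/
theorem fibreDimAt_eq_generic_of_fibre {X S : Scheme.{u}} [IrreducibleSpace X] (f : X ⟶ S)
    [LocallyOfFiniteType f] (w : X) (hw : f w = f (genericPoint X)) :
    FlatMor.fibreDimAt f w = FlatMor.fibreDimAt f (genericPoint X) := by
  set η := genericPoint X with hη
  set s' := f η with hs'
  have hsq : IsPullback (f.fiberι s') (f.fiberToSpecResidueField s') f
      (S.fromSpecResidueField s') := IsPullback.of_hasPullback _ _
  haveI hlft : LocallyOfFiniteType (f.fiberToSpecResidueField s') :=
    Groth.Agent.FibRes2H8.lft_fiber f _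
  have hmem : ∀ v : X, f v = s' → ∃ z : f.fiber s', f.fiberι s' z = v := by
    intro v hv
    have : v ∈ Set.range (f.fiberι s') := by
      rw [Scheme.Hom.range_fiberι]; exact hv
    exact this
  obtain ⟨zη, hzη⟩ := hmem η rfl
  obtain ⟨zw, hzw⟩ := hmem w hw
  haveI : IrreducibleSpace (f.fiber s') := by
    apply ValFibH8.irreducibleSpace_of_forall_specializes zη
    intro z
    rw [← (f.fiberι s').isEmbedding.isInducing.specializes_iff, hzη]
    exact genericPoint_specializes _
  have e1 := FieldExtH8.fibreDimAt_baseChange f (S.fromSpecResidueField s') _ _ hsq zw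
  have e2 := FieldExtH8.fibreDimAt_baseChange f (S.fromSpecResidueField s') _ _ hsq zη
  rw [hzw] at e1
  rw [hzη] at e2
  rw [← e1, ← e2]
  have c1 := @ValFibH8.fibreDimAt_const (S.residueField s') _
    (by exact (inferInstance : IsDomain (IsLocalRing.ResidueField (S.presheaf.stalk s'))))
    (by exact (inferInstance : ValuationRing (IsLocalRing.ResidueField (S.presheaf.stalk s'))))
    _ _ (f.fiberToSpecResidueField s') hlft zw
  have c2 := @ValFibH8.fibreDimAt_const (S.residueField s') _
    (by exact (inferInstance : IsDomain (IsLocalRing.ResidueField (S.presheaf.stalk s'))))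
    (by exact (inferInstance : ValuationRing (IsLocalRing.ResidueField (S.presheaf.stalk s'))))
    _ _ (f.fiberToSpecResidueField s') hlft zη
  exact c1.trans c2.symm

/-- On an irreducible scheme `X`, if `f` is flat at `x` then the relative dimension at `x` is the
relative dimension at the generic point. -/
theorem fibreDimAt_eq_generic_of_flat_stalkMap {X S : Scheme.{u}} [IrreducibleSpace X] (f : X ⟶ S)
    [LocallyOfFiniteType f] (x : X) (hfl : (f.stalkMap x).hom.Flat) :
    FlatMor.fibreDimAt f x = FlatMor.fibreDimAt f (genericPoint X) := by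
  apply le_antisymm
  · apply fibreDimAt_le_of_flat_stalkMap f x hfl (f (genericPoint X))
      ((genericPoint_specializes x).map f.continuous)
    intro w hw
    exact (fibreDimAt_eq_generic_of_fibre f w hw).le
  · obtain ⟨D, hD⟩ := EquidimIrrH8.exists_nat_fibreDimAt f (genericPoint X)
    rw [hD]
    exact AffDimH8.fibreDimAt_le_of_specializes f D _ x (genericPoint_specializes x) hD.ge

end Groth.Agent.Lib.FlatPtH8
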