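import Mathlib
import Groth.Prelude.Def_Flat
import Groth.Agent.Lib.FlatPt_helper8
import Groth.Agent.Lib.ResTrdegSpec_helper8
import Groth.Agent.Lib.FibCohSpec_helper8

universe u
open AlgebraicGeometry CategoryTheory CategoryTheory.Limits

namespace Groth.Agent.Lib.PruferDimH8

/-- the relative dimension is constant along an irreducible scheme over a base whose local ring at
the image point is a valuation ring. -/
theorem fibreDimAt_const_of_stalk {X T : Scheme.{u}} [IrreducibleSpace X] (f : X ⟶ T)
    [LocallyOfFiniteType f] (x : X) (hd : IsDomain (T.presheaf.stalk (f x)))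
    (hv : ValuationRing (T.presheaf.stalk (f x))) :
    FlatMor.fibreDimAt f x = FlatMor.fibreDimAt f (genericPoint X) := by
  set j := T.fromSpecStalk (f x) with hj
  have hsq : IsPullback (pullback.fst f j) (pullback.snd f j) f j := IsPullback.of_hasPullback f j
  set η := genericPoint X with hη
  have hxr : f x ∈ Set.range j := by
    rw [hj, Scheme.range_fromSpecStalk]
    exact specializes_rfl
  have hηr : f η ∈ Set.range j := by
    rw [hj, Scheme.range_fromSpecStalk]
    exact (genericPoint_specializes x).map f.continuous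
  obtain ⟨sx, hsx⟩ := hxr
  obtain ⟨sη, hsη⟩ := hηr
  obtain ⟨x', hx1, -⟩ := Scheme.Pullback.exists_preimage_pullback (f := f) (g := j) x sx hsx.symm
  obtain ⟨η', hη1, -⟩ := Scheme.Pullback.exists_preimage_pullback (f := f) (g := j) η sη hsη.symm
  haveI : IrreducibleSpace ↥(pullback f j) := by
    apply ValFibH8.irreducibleSpace_of_forall_specializes η'
    intro z
    rw [← (pullback.fst f j).isEmbedding.isInducing.specializes_iff, hη1]
    exact genericPoint_specializes _
  haveI hlft : LocallyOfFiniteType (pullback.snd f j) := inferInstance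
  have e1 := FieldExtH8.fibreDimAt_baseChange f j _ _ hsq x'
  have e2 := FieldExtH8.fibreDimAt_baseChange f j _ _ hsq η'
  rw [hx1] at e1
  rw [hη1] at e2
  rw [← e1, ← e2]
  have c1 := @ValFibH8.fibreDimAt_const (T.presheaf.stalk (f x)) _ hd hv _ _ (pullback.snd f j) hlft x'
  have c2 := @ValFibH8.fibreDimAt_const (T.presheaf.stalk (f x)) _ hd hv _ _ (pullback.snd f j) hlft η'
  exact c1.trans c2.symm

/-- relative dimension formula on the closure of `a`, at a point `b` of the closure, over a base
whose local ring at the image of `b` is a valuation ring; refined description of the defect `c`. -/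
theorem toENat_resTrdeg_eq_add' {X T : Scheme.{u}} (φ : X ⟶ T) [LocallyOfFiniteType φ]
    (a b : X) (hab : a ⤳ b) (hd : IsDomain (T.presheaf.stalk (φ b)))
    (hv : ValuationRing (T.presheaf.stalk (φ b))) :
    ∃ c : ℕ∞, Cardinal.toENat (Dual3.resTrdeg φ a) = c + Cardinal.toENat (Dual3.resTrdeg φ b) ∧
      (c = 0 → φ a = φ b → a = b) ∧
      ((∀ y : X, a ⤳ y → y ⤳ b → φ y = φ b → y = b) → c = 0) ∧
      ((∀ y : X, a ⤳ y → y ⤳ b → φ y = φ b → y = a ∨ y = b) → c ≤ 1) := by
  obtain ⟨Z, i, _, _, a', ha', hgenZ, hrange⟩ := ValFibH8.exists_closure_subscheme a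
  have hb : b ∈ Set.range i := by rw [hrange]; exact hab.mem_closure
  obtain ⟨b', hb'⟩ := hb
  let g := i ≫ φ
  have hgb : g b' = φ b := by
    show φ (i b') = φ b
    rw [hb']
  have hd' : IsDomain (T.presheaf.stalk (g b')) := by rw [hgb]; exact hd
  have hv' : ValuationRing (T.presheaf.stalk (g b')) := by
    revert hd'
    rw [hgb]
    intro _
    exact hv
  have h1 := fibreDimAt_const_of_stalk g b' hd' hv'
  rw [hgenZ, FibCohH8.fibreDimAt_eq g b', FibCohH8.fibreDimAt_eq g a'] at h1
  have hmaxa : ∀ z : Z, z ⤳ a' → z = a' := by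
    intro z hz
    have h2 : a' ⤳ z := by rw [← hgenZ]; exact genericPoint_specializes z
    exact (hz.antisymm h2).eq
  rw [Groth.Agent.Lib.AffDimH8.fibCoh_eq_zero_of_isMax g a' hmaxa,
    OpenAtCompH8.resTrdeg_closedImmersion_comp i φ a',
    OpenAtCompH8.resTrdeg_closedImmersion_comp i φ b'] at h1
  have ha'' : i.base a' = a := ha'
  have hb'' : i.base b' = b := hb'
  rw [ha'', hb''] at h1
  have hgen : ∀ z : Z, a ⤳ i z := by
    intro z
    rw [← ha']
    apply Specializes.map _ i.continuous
    rw [← hgenZ]; exact genericPoint_specializes z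
  refine ⟨FibCohH8.fibCoh g b', ?_, ?_, ?_, ?_⟩
  · have h0 : ((0 : ℕ∞) : WithBot ℕ∞) = 0 := rfl
    rw [h0, zero_add, ← WithBot.coe_add] at h1
    exact (WithBot.coe_injective h1).symm
  · intro hc hφ
    unfold FibCohH8.fibCoh at hc
    rw [Order.coheight_eq_zero] at hc
    have hga : g a' = g b' := by
      show φ (i a') = φ (i b')
      rw [ha', hb', hφ]
    have hle : (⟨b', rfl⟩ : {u' : Z // g u' = g b'}) ≤ ⟨a', hga⟩ := by
      show a' ⤳ b'
      rw [← hgenZ]; exact genericPoint_specializes _
    have hle' := hc hle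
    have hsp : b' ⤳ a' := hle'
    have h2 : a' ⤳ b' := by rw [← hgenZ]; exact genericPoint_specializes _
    have := (hsp.antisymm h2).eq
    rw [← ha', ← hb', this]
  · intro hmax
    apply OpenAtEqH8.fibCoh_eq_zero_of_isMax g b'
    intro z hz hzb
    apply i.isEmbedding.injective
    have h3 : (i z : X) ⤳ i b' := hzb.map i.continuous
    rw [hb'] at h3 ⊢
    apply hmax _ (hgen z) h3
    have : φ (i z) = φ (i b') := hz
    rw [this, hb']
  · intro hcov
    unfold FibCohH8.fibCoh
    have : ((1 : ℕ) : ℕ∞) = 1 := rfl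
    rw [← this, Order.coheight_le_coe_iff]
    rintro ⟨z, hz⟩ hlt
    have hzb : z ⤳ b' := hlt.le
    have h3 : (i z : X) ⤳ i b' := hzb.map i.continuous
    rw [hb'] at h3
    have h4 : φ (i z) = φ b := by
      have : φ (i z) = φ (i b') := hz
      rw [this, hb']
    have hza : z = a' := by
      rcases hcov _ (hgen z) h3 h4 with h5 | h5
      · apply i.isEmbedding.injective
        rw [h5, ha']
      · exfalso
        have : z = b' := by
          apply i.isEmbedding.injective
          rw [h5, hb']
        subst this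
        exact lt_irrefl _ hlt
    subst hza
    rw [Nat.cast_one, Order.lt_one_iff, Order.coheight_eq_zero]
    rintro ⟨w, hw⟩ hle
    have hsp : w ⤳ z := hle
    have hw' := hmaxa w hsp
    subst hw'
    exact le_rfl

end Groth.Agent.Lib.PruferDimH8
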