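import Mathlib
import Groth.Agent.Lib.PruferDim_helper8
import Groth.Agent.Lib.ResQuot2_helper8

universe u
open AlgebraicGeometry CategoryTheory CategoryTheory.Limits

namespace Groth.Agent.Lib.PruferDimH8

theorem stalk_spec_valuationRing {R : Type u} [CommRing R] [IsDomain R] (q : PrimeSpectrum R)
    (hv : ValuationRing (Localization.AtPrime q.asIdeal)) :
    ∃ (_ : IsDomain ((Spec (CommRingCat.of R)).presheaf.stalk q)),
      ValuationRing ((Spec (CommRingCat.of R)).presheaf.stalk q) := by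
  let e := (AlgebraicGeometry.Spec.stalkIso (CommRingCat.of R) q).commRingCatIsoToRingEquiv
  haveI hd : IsDomain ((Spec (CommRingCat.of R)).presheaf.stalk q) :=
    Function.Injective.isDomain e.toRingHom e.injective
  refine ⟨hd, ?_⟩
  exact Function.Surjective.valuationRing e.symm.toRingHom e.symm.surjective

variable {R : Type u} [CommRing R] [IsDomain R]
  (hR : ∀ (p : Ideal R) [p.IsPrime], ValuationRing (Localization.AtPrime p))
  {S : Type u} [CommRing S] [Algebra R S] [Algebra.FiniteType R S]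

include hR in
theorem key (P Q : Ideal S) [hP : P.IsPrime] [hQ : Q.IsPrime] (hPQ : P ≤ Q) :
    ∃ nP nQ k : ℕ, Algebra.trdeg (R ⧸ P.under R) (S ⧸ P) = nP ∧
      Algebra.trdeg (R ⧸ Q.under R) (S ⧸ Q) = nQ ∧ nP = k + nQ ∧
      (k = 0 → P.under R = Q.under R → P = Q) ∧
      ((∀ Y : Ideal S, Y.IsPrime → P ≤ Y → Y ≤ Q → Y.under R = Q.under R → Y = Q) → k = 0) ∧
      ((∀ Y : Ideal S, Y.IsPrime → P ≤ Y → Y ≤ Q → Y.under R = Q.under R → Y = P ∨ Y = Q) →
        k ≤ 1) := by
  set φ := Spec.map (CommRingCat.ofHom (algebraMap R S)) with hφ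
  haveI : LocallyOfFiniteType φ := by
    rw [HasRingHomProperty.Spec_iff (P := @LocallyOfFiniteType)]
    exact RingHom.finiteType_algebraMap.mpr inferInstance
  let a : Spec (CommRingCat.of S) := (⟨P, hP⟩ : PrimeSpectrum S)
  let b : Spec (CommRingCat.of S) := (⟨Q, hQ⟩ : PrimeSpectrum S)
  have hab : a ⤳ b := (FibCohSpecH8.spec_specializes_iff a b).mpr hPQ
  obtain ⟨hd, hv⟩ := stalk_spec_valuationRing (φ b)
    (hR (φ b : PrimeSpectrum R).asIdeal)
  obtain ⟨c, hc, hc1, hc2, hc3⟩ := toENat_resTrdeg_eq_add' φ a b hab hd hv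
  obtain ⟨nP, hnP⟩ := Groth.Agent.ResQuot2H8.exists_trdeg_nat φ a
  obtain ⟨nQ, hnQ⟩ := Groth.Agent.ResQuot2H8.exists_trdeg_nat φ b
  have hnP' : Dual3.resTrdeg φ a = nP := hnP
  have hnQ' : Dual3.resTrdeg φ b = nQ := hnQ
  have eP := ResTrdegSpecH8.resTrdeg_spec (A := R) (C := S) P
  have eQ := ResTrdegSpecH8.resTrdeg_spec (A := R) (C := S) Q
  rw [hnP', hnQ', Cardinal.toENat_nat, Cardinal.toENat_nat] at hc
  obtain ⟨k, nQ', hk, hnQ'', hkn⟩ := WithTop.add_eq_coe.mp hc.symm
  have hnQeq : nQ' = nQ := by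
    have : ((nQ' : ℕ) : ℕ∞) = nQ := hnQ''
    exact_mod_cast this
  subst hnQeq
  have hφ_iff : ∀ y : Spec (CommRingCat.of S), φ y = φ b ↔
      (y : PrimeSpectrum S).asIdeal.under R = Q.under R := by
    intro y
    constructor
    · intro h
      exact congrArg (fun z : PrimeSpectrum R => z.asIdeal) h
    · intro h
      exact PrimeSpectrum.ext h
  refine ⟨nP, nQ', k, ?_, ?_, hkn.symm, ?_, ?_, ?_⟩
  · rw [← eP]; exact hnP'
  · rw [← eQ]; exact hnQ'
  · intro hk0 hunder
    have h1 := hc1 (by rw [← hk, hk0]; rfl) ((hφ_iff a).mpr hunder)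
    exact congrArg (fun z : PrimeSpectrum S => z.asIdeal) h1
  · intro hY
    have h0 : c = 0 := by
      apply hc2
      intro y hay hyb hφy
      apply PrimeSpectrum.ext
      exact hY (y : PrimeSpectrum S).asIdeal (y : PrimeSpectrum S).isPrime
        ((FibCohSpecH8.spec_specializes_iff a y).mp hay)
        ((FibCohSpecH8.spec_specializes_iff y b).mp hyb) ((hφ_iff y).mp hφy)
    rw [← hk] at h0
    exact WithTop.coe_eq_zero.mp h0
  · intro hY
    have h0 : c ≤ 1 := by
      apply hc3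
      intro y hay hyb hφy
      rcases hY (y : PrimeSpectrum S).asIdeal (y : PrimeSpectrum S).isPrime
        ((FibCohSpecH8.spec_specializes_iff a y).mp hay)
        ((FibCohSpecH8.spec_specializes_iff y b).mp hyb) ((hφ_iff y).mp hφy) with h | h
      · left; exact PrimeSpectrum.ext h
      · right; exact PrimeSpectrum.ext h
    rw [← hk] at h0
    have h1 : ((k : ℕ) : WithTop ℕ) ≤ ((1 : ℕ) : WithTop ℕ) := h0
    exact WithTop.coe_le_coe.mp h1

end Groth.Agent.Lib.PruferDimH8
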