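import Mathlib
import Groth.Agent.Lib.PruferDim2_helper8
import Groth.Agent.Lib.PruferAlg_helper8

universe u

namespace Groth.Agent.Lib.PruferDimH8

/-- the dimension function `δ(P) = trdeg(S/P over R/p) − height(p)`. -/
noncomputable def delta (R : Type u) [CommRing R] {S : Type u} [CommRing S] [Algebra R S]
    (P : Ideal S) : ℤ :=
  (Cardinal.toNat (Algebra.trdeg (R ⧸ P.under R) (S ⧸ P)) : ℤ) - ((P.under R).height.toNat : ℤ)

variable {R : Type u} [CommRing R] [IsDomain R]
  (hR : ∀ (p : Ideal R) [p.IsPrime], ValuationRing (Localization.AtPrime p))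
  (hdim : ringKrullDim R < ⊤)
  {S : Type u} [CommRing S] [Algebra R S] [Algebra.FiniteType R S]

include hR hdim in
theorem delta_lt (P Q : Ideal S) [hP : P.IsPrime] [hQ : Q.IsPrime] (hPQ : P < Q) :
    delta R Q < delta R P := by
  obtain ⟨nP, nQ, k, hnP, hnQ, hk, hc1, -, -⟩ := key hR P Q hPQ.le
  unfold delta
  rw [hnP, hnQ, Cardinal.toNat_natCast, Cardinal.toNat_natCast]
  have hpq : P.under R ≤ Q.under R := Ideal.comap_mono hPQ.le
  rcases eq_or_lt_of_le hpq with h | h
  · have hk0 : k ≠ 0 := fun h0 => hPQ.ne (hc1 h0 h)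
    rw [h]
    omega
  · have := PruferAlgH8.height_toNat_lt hdim _ _ h
    omega

include hR hdim in
theorem covBy_iff (P Q : Ideal S) [hP : P.IsPrime] [hQ : Q.IsPrime] (hPQ : P < Q) :
    (⟨P, hP⟩ : PrimeSpectrum S) ⋖ ⟨Q, hQ⟩ ↔ delta R P = delta R Q + 1 := by
  constructor
  · intro hcov
    have hcov' : ∀ Y : Ideal S, Y.IsPrime → P ≤ Y → Y ≤ Q → Y = P ∨ Y = Q := by
      intro Y hY h1 h2
      have h1' : (⟨P, hP⟩ : PrimeSpectrum S) ≤ ⟨Y, hY⟩ := h1
      have h2' : (⟨Y, hY⟩ : PrimeSpectrum S) ≤ ⟨Q, hQ⟩ := h2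
      rcases hcov.eq_or_eq h1' h2' with h | h
      · left; exact congrArg PrimeSpectrum.asIdeal h
      · right; exact congrArg PrimeSpectrum.asIdeal h
    obtain ⟨nP, nQ, k, hnP, hnQ, hk, hc1, hc2, hc3⟩ := key hR P Q hPQ.le
    unfold delta
    rw [hnP, hnQ, Cardinal.toNat_natCast, Cardinal.toNat_natCast]
    have hpq : P.under R ≤ Q.under R := Ideal.comap_mono hPQ.le
    rcases eq_or_lt_of_le hpq with h | h
    · have hk0 : k ≠ 0 := fun h0 => hPQ.ne (hc1 h0 h)
      have hk1 : k ≤ 1 := hc3 (fun Y hY h1 h2 _ => hcov' Y hY h1 h2)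
      rw [h]
      omega
    · have hk0 : k = 0 := by
        apply hc2
        intro Y hY h1 h2 h3
        rcases hcov' Y hY h1 h2 with h4 | h4
        · exfalso
          rw [h4] at h3
          exact h.ne h3
        · exact h4
      have hsucc := PruferAlgH8.height_toNat_succ hR hdim _ _ h (by
        intro r hr hpr hrq
        haveI := hr
        obtain ⟨Z, hZ, hPZ, hZQ, hZr⟩ :=
          PruferAlgH8.exists_between_liesOver hR P Q hPQ.le r hpr.le hrq.le
        rcases hcov' Z hZ hPZ hZQ with h4 | h4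
        · rw [h4] at hZr
          exact hpr.ne hZr
        · rw [h4] at hZr
          exact hrq.ne hZr.symm)
      omega
  · intro hδ
    refine ⟨hPQ, ?_⟩
    rintro ⟨Z, hZ⟩ h1 h2
    have h1' : P < Z := h1
    have h2' : Z < Q := h2
    have d1 := delta_lt hR hdim P Z h1'
    have d2 := delta_lt hR hdim Z Q h2'
    omega

end Groth.Agent.Lib.PruferDimH8
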