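import Mathlib
import Groth.Agent.Lib.PruferDim3_helper8

/-!
# Closed points of the generic fibre over a Dedekind base (S7890)
-/

set_option backward.isDefEq.respectTransparency false
set_option autoImplicit false
set_option linter.style.haveILetI false

open CategoryTheory AlgebraicGeometry

universe u

namespace Groth.Agent.Lib.DedGenH7

section alg

/-- In a Noetherian domain, if `⊥ < Q1 < M` are primes and `a ∈ M` is nonzero, there is a nonzero
prime `Q2 ≤ M` not containing `a`. -/
theorem exists_prime_not_mem {D : Type u} [CommRing D] [IsDomain D] [IsNoetherianRing D]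
    (M Q1 : Ideal D) [hM : M.IsPrime] [hQ1 : Q1.IsPrime] (h0 : Q1 ≠ ⊥)
    (h1 : Q1 < M) (a : D) (ha0 : a ≠ 0) (haM : a ∈ M) :
    ∃ Q2 : Ideal D, Q2.IsPrime ∧ Q2 ≠ ⊥ ∧ Q2 ≤ M ∧ a ∉ Q2 := by
  classical
  have hfin : (Ideal.span {a}).minimalPrimes.Finite :=
    Ideal.finite_minimalPrimes_of_isNoetherianRing D _
  have haM' : Ideal.span {a} ≤ M := (Ideal.span_singleton_le_iff_mem _).mpr haM
  have hbot : (⊥ : Ideal D) < Q1 := bot_lt_iff_ne_bot.mpr h0
  haveI : (⊥ : Ideal D).IsPrime := Ideal.isPrime_bot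
  have hM2 : (2 : ℕ∞) ≤ M.height := by
    have e1 : (⊥ : Ideal D).height < Q1.height := Ideal.height_strict_mono_of_isPrime hbot
    have e2 : Q1.height < M.height := Ideal.height_strict_mono_of_isPrime h1
    have e3 : (1 : ℕ∞) ≤ Q1.height :=
      Order.one_le_iff_pos.mpr (pos_of_gt e1)
    calc (2 : ℕ∞) = 1 + 1 := one_add_one_eq_two.symm
      _ ≤ Q1.height + 1 := by gcongr
      _ ≤ M.height := Order.add_one_le_of_lt e2
  have hP1 : ∀ P ∈ (Ideal.span {a}).minimalPrimes, P.height ≤ 1 := fun P hP =>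
    Ideal.height_le_one_of_isPrincipal_of_mem_minimalPrimes _ P hP
  have hnot : ¬ ∃ P ∈ (Ideal.span {a}).minimalPrimes, M ≤ P := by
    rintro ⟨P, hP, hMP⟩
    have := (Ideal.height_mono hMP).trans (hP1 P hP)
    exact absurd (hM2.trans this) (by norm_num)
  have hnot' := (Ideal.subset_union_prime_finite hfin (f := fun P : Ideal D => P) ⊥ ⊥
      (fun P hP _ _ => hP.1.1) (I := M)).not.mpr hnot
  obtain ⟨b, hbM, hb⟩ := Set.not_subset.mp hnot'
  have hb' : ∀ P ∈ (Ideal.span {a}).minimalPrimes, b ∉ P := by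
    intro P hP hbP
    exact hb (Set.mem_biUnion hP hbP)
  obtain ⟨P0, hP0, hP0M⟩ := Ideal.exists_minimalPrimes_le haM'
  have hb0 : b ≠ 0 := by
    rintro rfl
    exact hb' P0 hP0 (zero_mem _)
  have hbM' : Ideal.span {b} ≤ M := (Ideal.span_singleton_le_iff_mem _).mpr hbM
  obtain ⟨Q2, hQ2, hQ2M⟩ := Ideal.exists_minimalPrimes_le hbM'
  haveI : Q2.IsPrime := hQ2.1.1
  have hbQ2 : b ∈ Q2 := hQ2.1.2 (Ideal.mem_span_singleton_self b)
  refine ⟨Q2, inferInstance, ?_, hQ2M, ?_⟩
  · rintro rfl
    exact hb0 (by simpa using hbQ2)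
  · intro haQ2
    have hle : Ideal.span {a} ≤ Q2 := (Ideal.span_singleton_le_iff_mem _).mpr haQ2
    obtain ⟨P', hP', hP'Q2⟩ := Ideal.exists_minimalPrimes_le hle
    haveI : P'.IsPrime := hP'.1.1
    have haP' : a ∈ P' := hP'.1.2 (Ideal.mem_span_singleton_self a)
    have hP'0 : (⊥ : Ideal D) < P' :=
      bot_lt_iff_ne_bot.mpr (by rintro rfl; exact ha0 (by simpa using haP'))
    have hQ2h : Q2.height ≤ 1 :=
      Ideal.height_le_one_of_isPrincipal_of_mem_minimalPrimes _ Q2 hQ2
    rcases eq_or_lt_of_le hP'Q2 with h | h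
    · subst h
      exact hb' P' hP' hbQ2
    · have e1 : (⊥ : Ideal D).height < P'.height := Ideal.height_strict_mono_of_isPrime hP'0
      have e2 : P'.height < Q2.height := Ideal.height_strict_mono_of_isPrime h
      have e3 : (1 : ℕ∞) ≤ P'.height :=
        Order.one_le_iff_pos.mpr (pos_of_gt e1)
      exact absurd (lt_of_le_of_lt e3 e2) (not_lt.mpr hQ2h)

/-- In a Noetherian ring, given primes `q0 ≤ m` and `a ∈ m ∖ q0`, there is a prime `q` covered by
`m` with `a ∉ q`. -/
theorem exists_covBy_not_mem {A : Type u} [CommRing A] [IsNoetherianRing A] (m q0 : Ideal A)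
    [hm : m.IsPrime] [hq0 : q0.IsPrime] (h0 : q0 ≤ m) (a : A) (ham : a ∈ m) (ha0 : a ∉ q0) :
    ∃ (q : Ideal A) (hq : q.IsPrime), q < m ∧ a ∉ q ∧
      (⟨q, hq⟩ : PrimeSpectrum A) ⋖ ⟨m, hm⟩ := by
  let 𝒮 : Set (Ideal A) := {q | q.IsPrime ∧ q ≤ m ∧ a ∉ q}
  have hne : 𝒮.Nonempty := ⟨q0, hq0, h0, ha0⟩
  obtain ⟨q, ⟨hq, hqm, haq⟩, hmax⟩ :=
    (set_has_maximal_iff_noetherian (R := A) (M := A)).mpr inferInstance 𝒮 hne
  have hqm' : q < m := lt_of_le_of_ne hqm (by rintro rfl; exact haq ham)
  refine ⟨q, hq, hqm', haq, ⟨hqm', ?_⟩⟩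
  intro c hqc hcm
  have hqc' : q < c.asIdeal := hqc
  have hcm' : c.asIdeal < m := hcm
  haveI := c.isPrime
  let π := Ideal.Quotient.mk q
  have hπ : Function.Surjective π := Ideal.Quotient.mk_surjective
  haveI : IsDomain (A ⧸ q) := Ideal.Quotient.isDomain q
  have hker : RingHom.ker π = q := Ideal.mk_ker
  have hkm : RingHom.ker π ≤ m := hker.le.trans hqm
  have hkc : RingHom.ker π ≤ c.asIdeal := hker.le.trans hqc'.le
  haveI hM : (m.map π).IsPrime := Ideal.map_isPrime_of_surjective hπ hkm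
  haveI hQ1 : (c.asIdeal.map π).IsPrime := Ideal.map_isPrime_of_surjective hπ hkc
  have cm_m : (m.map π).comap π = m := by
    rw [Ideal.comap_map_of_surjective π hπ, ← RingHom.ker_eq_comap_bot]
    exact sup_eq_left.mpr hkm
  have cm_c : (c.asIdeal.map π).comap π = c.asIdeal := by
    rw [Ideal.comap_map_of_surjective π hπ, ← RingHom.ker_eq_comap_bot]
    exact sup_eq_left.mpr hkc
  have hQ1ne : c.asIdeal.map π ≠ ⊥ := by
    intro h
    have : c.asIdeal ≤ q := by
      rw [← cm_c, h, ← RingHom.ker_eq_comap_bot, hker]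
    exact absurd hqc' (not_lt_of_ge this)
  have hQ1M : c.asIdeal.map π < m.map π := by
    refine lt_of_le_of_ne (Ideal.map_mono hcm'.le) ?_
    intro h
    have : c.asIdeal = m := by rw [← cm_c, h, cm_m]
    exact hcm'.ne this
  have ha0' : π a ≠ 0 := by
    intro h
    exact haq (Ideal.Quotient.eq_zero_iff_mem.mp h)
  have haM : π a ∈ m.map π := Ideal.mem_map_of_mem π ham
  obtain ⟨Q2, hQ2, hQ2ne, hQ2M, haQ2⟩ :=
    exists_prime_not_mem (m.map π) (c.asIdeal.map π) hQ1ne hQ1M (π a) ha0' haM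
  haveI := hQ2
  have h1 : Q2.comap π ∈ 𝒮 :=
    ⟨Ideal.comap_isPrime π Q2, by rw [← cm_m]; exact Ideal.comap_mono hQ2M, haQ2⟩
  have h2 : q < Q2.comap π := by
    refine lt_of_le_of_ne ?_ ?_
    · have hk2 : RingHom.ker π ≤ Q2.comap π := by
        rw [RingHom.ker_eq_comap_bot]
        exact Ideal.comap_mono bot_le
      exact hker.ge.trans hk2
    · intro h
      apply hQ2ne
      rw [← Ideal.map_comap_of_surjective π hπ Q2, ← h]
      exact Ideal.map_quotient_self q
  exact hmax _ h1 h2

theorem prufer_of_dedekind (R : Type u) [CommRing R] [IsDedekindDomain R] (p : Ideal R)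
    [p.IsPrime] : ValuationRing (Localization.AtPrime p) := by
  haveI : IsDedekindDomain (Localization.AtPrime p) :=
    IsLocalization.isDedekindDomain R (Ideal.primeCompl_le_nonZeroDivisors p) _
  haveI : IsPrincipalIdealRing (Localization.AtPrime p) := by
    apply IsPrincipalIdealRing.of_finite_primes
    refine Set.Finite.subset
      ((Set.finite_singleton (IsLocalRing.maximalIdeal (Localization.AtPrime p))).insert ⊥) ?_
    intro I hI
    by_cases h : I = ⊥
    · left; exact h
    · right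
      have : I.IsMaximal := Ring.DimensionLEOne.maximalOfPrime h hI
      exact IsLocalRing.eq_maximalIdeal this
  exact ValuationRing.iff_local_bezout_domain.mpr ⟨inferInstance, inferInstance⟩

theorem dim_lt_top_of_dedekind (R : Type u) [CommRing R] [IsDedekindDomain R] :
    ringKrullDim R < ⊤ := by
  have h : ringKrullDim R ≤ ((1 : ℕ) : WithBot ℕ∞) := Ring.krullDimLE_iff.mp inferInstance
  refine lt_of_le_of_lt h ?_
  exact WithBot.coe_lt_coe.mpr (ENat.natCast_lt_top 1)

end alg

section main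

variable {R : Type u} [CommRing R] [IsDedekindDomain R]

theorem main7890 {X : Scheme.{u}} [IrreducibleSpace X] (f : X ⟶ Spec (CommRingCat.of R))
    [LocallyOfFiniteType f]
    (hdom : DenseRange f.base) (x' : X) (hx' : IsClosed ({x'} : Set X))
    (hs : (f.base x').asIdeal.IsMaximal) :
    ∃ x : X, (f.base x).asIdeal = ⊥ ∧ (∀ z : X, (f.base z).asIdeal = ⊥ → x ⤳ z → z = x) ∧
      x ⤳ x' := by
  by_cases hp0 : (f.base x').asIdeal = ⊥
  · refine ⟨x', hp0, fun z _ hz => ?_, specializes_rfl⟩
    have hz' : z ∈ closure ({x'} : Set X) := specializes_iff_mem_closure.mp hz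
    rw [hx'.closure_eq] at hz'
    exact hz'
  obtain ⟨t, htp, ht0⟩ := Submodule.exists_mem_ne_zero_of_ne_bot hp0
  have hR : ∀ (p : Ideal R) [p.IsPrime], ValuationRing (Localization.AtPrime p) :=
    fun p _ => prufer_of_dedekind R p
  have hdim := dim_lt_top_of_dedekind R
  -- affine chart
  obtain ⟨_, ⟨U, hU, rfl⟩, hxU, -⟩ := X.isBasis_affineOpens.exists_subset_of_mem_open
    (Set.mem_univ x') isOpen_univ
  have hU' : IsAffineOpen U := hU
  obtain ⟨j, hjdef⟩ : ∃ j : Spec Γ(X, U) ⟶ X, j = hU'.fromSpec := ⟨_, rfl⟩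
  haveI : IsOpenImmersion j := hjdef ▸ inferInstance
  have hrange : Set.range j.base = (U : Set X) := hjdef ▸ hU'.range_fromSpec
  obtain ⟨y', hy'⟩ : x' ∈ Set.range j.base := hrange ▸ hxU
  obtain ⟨A, hA⟩ : ∃ A : CommRingCat.{u}, A = Γ(X, U) := ⟨_, rfl⟩
  subst hA
  let φ : CommRingCat.of R ⟶ Γ(X, U) := Spec.preimage (j ≫ f)
  have hφ : Spec.map φ = j ≫ f := Spec.map_preimage (j ≫ f)
  have hft : φ.hom.FiniteType := by
    have : LocallyOfFiniteType (Spec.map φ) := by rw [hφ]; infer_instance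
    exact (HasRingHomProperty.Spec_iff (P := @LocallyOfFiniteType)).mp this
  letI algRA : Algebra R Γ(X, U) := φ.hom.toAlgebra
  haveI : Algebra.FiniteType R Γ(X, U) := hft
  haveI : IsNoetherianRing Γ(X, U) := Algebra.FiniteType.isNoetherianRing R _
  have hfw : ∀ w : Spec Γ(X, U),
      (f.base (j.base w)).asIdeal = ((w : PrimeSpectrum Γ(X, U)).asIdeal).under R := by
    intro w
    have h1 : f.base (j.base w) = (Spec.map φ).base w := by rw [hφ]; rfl
    rw [h1]; rfl
  set m' : Ideal Γ(X, U) := (y' : PrimeSpectrum Γ(X, U)).asIdeal with hm'def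
  haveI hm'p : m'.IsPrime := (y' : PrimeSpectrum Γ(X, U)).isPrime
  have hm'R : m'.under R = (f.base x').asIdeal := by rw [← hy', hfw]
  haveI hp'max : (m'.under R).IsMaximal := hm'R ▸ hs
  haveI hm'max : m'.IsMaximal := by
    have hcl : IsClosed ({y'} : Set (Spec Γ(X, U))) := by
      have : ({y'} : Set (Spec Γ(X, U))) = j.base ⁻¹' {x'} := by
        ext w
        simp only [Set.mem_singleton_iff, Set.mem_preimage]
        constructor
        · rintro rfl; exact hy'
        · intro h; exact j.isOpenEmbedding.injective (h.trans hy'.symm)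
      rw [this]
      exact hx'.preimage j.continuous
    exact (PrimeSpectrum.isClosed_singleton_iff_isMaximal (y' : PrimeSpectrum Γ(X, U))).mp hcl
  -- generic point
  have hξU : genericPoint X ∈ (U : Set X) :=
    ((genericPoint_spec X).mem_open_set_iff U.isOpen).mpr ⟨x', trivial, hxU⟩
  obtain ⟨y0, hy0⟩ : genericPoint X ∈ Set.range j.base := hrange ▸ hξU
  have hfξ : (f.base (genericPoint X)).asIdeal = ⊥ := by
    have hcl : closure ({f.base (genericPoint X)} : Set (Spec (CommRingCat.of R))) = Set.univ := by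
      have h1 : closure ({genericPoint X} : Set X) = Set.univ :=
        (genericPoint_spec X).def.trans Set.top_eq_univ
      rw [← Set.image_singleton, ← closure_image_closure f.continuous, h1, Set.image_univ]
      exact hdom.closure_range
    let η0 : Spec (CommRingCat.of R) := (⟨⊥, Ideal.isPrime_bot⟩ : PrimeSpectrum R)
    have hsp : f.base (genericPoint X) ⤳ η0 := by
      rw [specializes_iff_mem_closure, hcl]; trivial
    have hle : (f.base (genericPoint X)).asIdeal ≤ (⊥ : Ideal R) :=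
      (PrimeSpectrum.le_iff_specializes (f.base (genericPoint X) : PrimeSpectrum R) η0).mpr hsp
    exact le_bot_iff.mp hle
  set q0 : Ideal Γ(X, U) := (y0 : PrimeSpectrum Γ(X, U)).asIdeal with hq0def
  haveI hq0p : q0.IsPrime := (y0 : PrimeSpectrum Γ(X, U)).isPrime
  have hq0R : q0.under R = ⊥ := by rw [← hfw, hy0]; exact hfξ
  have hq0m : q0 ≤ m' := by
    have h1 : genericPoint X ⤳ x' := genericPoint_specializes x'
    rw [← hy0, ← hy'] at h1
    have h2 : y0 ⤳ y' := j.isOpenEmbedding.isInducing.specializes_iff.mp h1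
    exact (PrimeSpectrum.le_iff_specializes (y0 : PrimeSpectrum Γ(X, U)) y').mpr h2
  set a : Γ(X, U) := algebraMap R Γ(X, U) t with hadef
  have ham : a ∈ m' := by
    have : t ∈ m'.under R := hm'R ▸ htp
    exact this
  have ha0 : a ∉ q0 := by
    intro h
    have : t ∈ q0.under R := h
    rw [hq0R] at this
    exact ht0 ((Ideal.mem_bot).mp this)
  obtain ⟨q, hq, hqm, haq, hcov⟩ := exists_covBy_not_mem m' q0 hq0m a ham ha0
  haveI := hq
  have hqR : q.under R = ⊥ := by
    by_contra h
    have hmax : (q.under R).IsMaximal := Ring.DimensionLEOne.maximalOfPrime h inferInstance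
    have hle : q.under R ≤ m'.under R := Ideal.comap_mono hqm.le
    have heq : q.under R = m'.under R := hmax.eq_of_le hp'max.ne_top hle
    have : t ∈ q.under R := by rw [heq, hm'R]; exact htp
    exact haq this
  have hδm : PruferDimH8.delta R m' = -1 := by
    unfold PruferDimH8.delta
    have htr : Algebra.trdeg (R ⧸ m'.under R) (Γ(X, U) ⧸ m') = 0 := by
      letI := Ideal.Quotient.field (m'.under R)
      letI := Ideal.Quotient.field m'
      haveI : Module.Finite (R ⧸ m'.under R) (Γ(X, U) ⧸ m') :=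
        finite_of_finite_type_of_isJacobsonRing _ _
      haveI : Algebra.IsAlgebraic (R ⧸ m'.under R) (Γ(X, U) ⧸ m') :=
        Algebra.IsAlgebraic.of_finite _ _
      exact _root_.trdeg_eq_zero
    have hht : (m'.under R).height.toNat = 1 := by
      have hbot : (⊥ : Ideal R) < m'.under R := bot_lt_iff_ne_bot.mpr (by rw [hm'R]; exact hp0)
      haveI : (⊥ : Ideal R).IsPrime := Ideal.isPrime_bot
      have := PruferAlgH8.height_toNat_succ hR hdim ⊥ (m'.under R) hbot (by
        intro r hr h1 h2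
        have : r.IsMaximal := Ring.DimensionLEOne.maximalOfPrime h1.ne' hr
        exact h2.ne (this.eq_of_le hp'max.ne_top h2.le))
      rw [this, Ideal.height_bot]; rfl
    rw [htr, hht]; simp
  have hδq : PruferDimH8.delta R q = 0 := by
    have := (PruferDimH8.covBy_iff hR hdim q m' hqm).mp hcov
    rw [this, hδm]; norm_num
  have hδr : ∀ (r : Ideal Γ(X, U)) [r.IsPrime], r.under R = ⊥ → 0 ≤ PruferDimH8.delta R r := by
    intro r _ hr
    unfold PruferDimH8.delta
    have : (r.under R).height = 0 := by rw [hr]; exact Ideal.height_bot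
    rw [this]; simp
  let yq : Spec Γ(X, U) := (⟨q, hq⟩ : PrimeSpectrum Γ(X, U))
  have hx0 : (f.base (j.base yq)).asIdeal = ⊥ := by rw [hfw]; exact hqR
  refine ⟨j.base yq, hx0, ?_, ?_⟩
  · intro z hz hxz
    obtain ⟨η0, hη0⟩ : ∃ η0 : Spec (CommRingCat.of R), η0 = f.base (j.base yq) := ⟨_, rfl⟩
    have hzη : f.base z = η0 := by
      rw [hη0]; exact PrimeSpectrum.ext (hz.trans hx0.symm)
    haveI : JacobsonSpace (f ⁻¹' {η0}) :=
      JacobsonSpace.of_isClosedEmbedding (f.fiberHomeo η0).symm.isClosedEmbedding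
    let xg : (f ⁻¹' {η0}) := ⟨j.base yq, hη0.symm⟩
    let zg : (f ⁻¹' {η0}) := ⟨z, hzη⟩
    have hlc : IsLocallyClosed ({xg} : Set (f ⁻¹' {η0})) := by
      refine ⟨Subtype.val ⁻¹' (U : Set X), closure {xg},
        U.isOpen.preimage continuous_subtype_val, isClosed_closure, ?_⟩
      ext w
      simp only [Set.mem_singleton_iff, Set.mem_inter_iff, Set.mem_preimage]
      constructor
      · rintro rfl
        refine ⟨?_, subset_closure rfl⟩
        rw [← hrange]; exact ⟨yq, rfl⟩
      · rintro ⟨hwU, hwc⟩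
        have hsp : xg ⤳ w := specializes_iff_mem_closure.mpr hwc
        have hsp' : j.base yq ⤳ w.1 := hsp.map continuous_subtype_val
        obtain ⟨yw, hyw⟩ : w.1 ∈ Set.range j.base := hrange ▸ hwU
        rw [← hyw] at hsp'
        have h2 : yq ⤳ yw := j.isOpenEmbedding.isInducing.specializes_iff.mp hsp'
        have hle : q ≤ (yw : PrimeSpectrum Γ(X, U)).asIdeal :=
          (PrimeSpectrum.le_iff_specializes (yq : PrimeSpectrum Γ(X, U)) yw).mpr h2
        haveI := (yw : PrimeSpectrum Γ(X, U)).isPrime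
        have hrR : ((yw : PrimeSpectrum Γ(X, U)).asIdeal).under R = ⊥ := by
          rw [← hfw, hyw]
          have h3 : f.base w.1 = η0 := w.2
          rw [h3, hη0]; exact hx0
        have heq : q = (yw : PrimeSpectrum Γ(X, U)).asIdeal := by
          by_contra hne
          have hlt := PruferDimH8.delta_lt hR hdim q _ (lt_of_le_of_ne hle hne)
          have h4 := hδr _ hrR
          rw [hδq] at hlt
          exact absurd hlt (not_lt.mpr h4)
        have hyy : yw = yq := PrimeSpectrum.ext heq.symm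
        apply Subtype.ext
        rw [← hyw, hyy]
    have hcl : IsClosed ({xg} : Set (f ⁻¹' {η0})) :=
      isClosed_singleton_of_isLocallyClosed_singleton hlc
    have hsp : xg ⤳ zg := (subtype_specializes_iff xg zg).mpr hxz
    have hz' : zg ∈ closure ({xg} : Set (f ⁻¹' {η0})) := specializes_iff_mem_closure.mp hsp
    rw [hcl.closure_eq] at hz'
    exact congrArg Subtype.val hz'
  · have h2 : yq ⤳ y' :=
      (PrimeSpectrum.le_iff_specializes (yq : PrimeSpectrum Γ(X, U)) y').mp hqm.le
    have h3 := h2.map j.continuous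
    rw [hy'] at h3
    exact h3

end main

end Groth.Agent.Lib.DedGenH7
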