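import Mathlib

/-! Irreducible components of a locally Noetherian space are locally finite. -/

universe u

namespace Groth.Agent.Lib.DedOpenH8

open TopologicalSpace Topology

theorem locallyFinite_irreducibleComponents {X : Type*} [TopologicalSpace X]
    (h : ∀ x : X, ∃ U : Set X, IsOpen U ∧ x ∈ U ∧ NoetherianSpace U) :
    LocallyFinite (fun Z : irreducibleComponents X => (Z : Set X)) := by
  intro x
  obtain ⟨U, hUo, hxU, hN⟩ := h x
  refine ⟨U, hUo.mem_nhds hxU, ?_⟩
  have hj : IsOpenEmbedding (Subtype.val : U → X) := hUo.isOpenEmbedding_subtypeVal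
  haveI : Finite (irreducibleComponents U) :=
    (NoetherianSpace.finite_irreducibleComponents (α := U)).to_subtype
  have hne : ∀ Z : {Z : irreducibleComponents X // ((Z : Set X) ∩ U).Nonempty},
      ((Z.1 : Set X) ∩ Set.range (Subtype.val : U → X)).Nonempty := by
    rintro ⟨Z, y, hyZ, hyU⟩
    exact ⟨y, hyZ, ⟨⟨y, hyU⟩, rfl⟩⟩
  let g : {Z : irreducibleComponents X // ((Z : Set X) ∩ U).Nonempty} →
      irreducibleComponents U := fun Z =>
    ⟨(Subtype.val : U → X) ⁻¹' (Z.1 : Set X), preimage_mem_irreducibleComponents Z.1.2 hj (hne Z)⟩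
  have hg : Function.Injective g := by
    intro Z₁ Z₂ h12
    have h1 : (Subtype.val : U → X) ⁻¹' (Z₁.1 : Set X) = (Subtype.val : U → X) ⁻¹' (Z₂.1 : Set X) :=
      congrArg Subtype.val h12
    have h2 : (Z₁.1 : Set X) ∩ Set.range (Subtype.val : U → X) =
        (Z₂.1 : Set X) ∩ Set.range (Subtype.val : U → X) := by
      rw [← Set.image_preimage_eq_inter_range, ← Set.image_preimage_eq_inter_range, h1]
    have hcl : ∀ Z : {Z : irreducibleComponents X // ((Z : Set X) ∩ U).Nonempty},
        (Z.1 : Set X) = closure ((Z.1 : Set X) ∩ Set.range (Subtype.val : U → X)) := by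
      intro Z
      apply Set.Subset.antisymm
      · exact subset_closure_inter_of_isPreirreducible_of_isOpen Z.1.2.1.2 hj.isOpen_range (hne Z)
      · exact (isClosed_of_mem_irreducibleComponents _ Z.1.2).closure_subset_iff.mpr
          Set.inter_subset_left
    apply Subtype.ext
    apply Subtype.ext
    rw [hcl Z₁, hcl Z₂, h2]
  have hfin := Finite.of_injective g hg
  exact Set.finite_coe_iff.mp hfin

/-- any union of irreducible components is closed. -/
theorem isClosed_sUnion_irreducibleComponents {X : Type*} [TopologicalSpace X]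
    (h : ∀ x : X, ∃ U : Set X, IsOpen U ∧ x ∈ U ∧ NoetherianSpace U)
    (𝒵 : Set (Set X)) (h𝒵 : 𝒵 ⊆ irreducibleComponents X) : IsClosed (⋃₀ 𝒵) := by
  have hlf := locallyFinite_irreducibleComponents h
  have h2 : LocallyFinite (fun Z : {Z : irreducibleComponents X // (Z : Set X) ∈ 𝒵} =>
      ((Z.1 : irreducibleComponents X) : Set X)) :=
    hlf.comp_injective Subtype.val_injective
  have h3 := h2.isClosed_iUnion (fun Z => isClosed_of_mem_irreducibleComponents _ Z.1.2)
  convert h3 using 1
  ext x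
  simp only [Set.mem_sUnion, Set.mem_iUnion]
  constructor
  · rintro ⟨Z, hZ, hx⟩
    exact ⟨⟨⟨Z, h𝒵 hZ⟩, hZ⟩, hx⟩
  · rintro ⟨Z, hx⟩
    exact ⟨Z.1.1, Z.2, hx⟩

end Groth.Agent.Lib.DedOpenH8
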