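import Mathlib
import Groth.Agent.Lib.DedOpen1_helper8
import Groth.Agent.Lib.DedOpen2_helper8
import Groth.Agent.Lib.CohDev6_helper8

/-! EGA IV 14.5.? : components dominating a Dedekind-like base give universal openness near
a fibre. -/

universe u

namespace Groth.Agent.Lib.DedOpenH8

open AlgebraicGeometry CategoryTheory Limits TopologicalSpace Topology

theorem universallyOpen_of_surjective_comp {A B C : Scheme.{u}} (i : A ⟶ B) (g : B ⟶ C)
    [Surjective i] [hig : UniversallyOpen (i ≫ g)] : UniversallyOpen g := by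
  refine ⟨MorphismProperty.universally_mk' _ _ fun {T} t _ => ?_⟩
  have top : IsPullback (pullback.snd (pullback.snd t g) i) (pullback.fst (pullback.snd t g) i)
      i (pullback.snd t g) := (IsPullback.of_hasPullback (pullback.snd t g) i).flip
  have bot : IsPullback (pullback.snd t g) (pullback.fst t g) g t :=
    (IsPullback.of_hasPullback t g).flip
  have big := (top.paste_vert bot).flip
  have hopen : IsOpenMap (pullback.fst (pullback.snd t g) i ≫ pullback.fst t g) :=
    hig.universally_isOpenMap _ _ _ big
  intro W hW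
  have hpre : IsOpen ((pullback.fst (pullback.snd t g) i) ⁻¹' W) :=
    hW.preimage (pullback.fst (pullback.snd t g) i).continuous
  have himg : (pullback.fst t g) '' W =
      (pullback.fst (pullback.snd t g) i ≫ pullback.fst t g) ''
        ((pullback.fst (pullback.snd t g) i) ⁻¹' W) := by
    ext s
    constructor
    · rintro ⟨z, hz, rfl⟩
      obtain ⟨a, ha⟩ := i.surjective (pullback.snd t g z)
      obtain ⟨w, hw1, hw2⟩ := Scheme.Pullback.exists_preimage_pullback
        (f := pullback.snd t g) (g := i) z a ha.symm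
      refine ⟨w, ?_, ?_⟩
      · show pullback.fst (pullback.snd t g) i w ∈ W
        rw [hw1]; exact hz
      · rw [Scheme.Hom.comp_apply, hw1]
    · rintro ⟨w, hw, rfl⟩
      exact ⟨pullback.fst (pullback.snd t g) i w, hw, by rw [Scheme.Hom.comp_apply]⟩
  show IsOpen ((pullback.fst t g) '' W)
  rw [himg]
  exact hopen _ hpre

theorem main2572 {X Y : Scheme.{u}} [IsLocallyNoetherian Y] [IrreducibleSpace Y]
    (hY : ∀ y : Y, IsRegularLocalRing (Y.presheaf.stalk y) ∧ ringKrullDim (Y.presheaf.stalk y) ≤ 1)
    (f : X ⟶ Y) [LocallyOfFiniteType f] (y : Y)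
    (h : ∀ Z ∈ irreducibleComponents X, (Z ∩ f ⁻¹' {y}).Nonempty → Dense (f '' Z)) :
    ∃ U : X.Opens, f ⁻¹' {y} ⊆ (U : Set X) ∧ UniversallyOpen (U.ι ≫ f) := by
  haveI : IsLocallyNoetherian X := LocallyOfFiniteType.isLocallyNoetherian f
  -- integrality of Y
  haveI : ∀ y : Y, _root_.IsReduced (Y.presheaf.stalk y) := fun y => by
    haveI := (hY y).1
    haveI := Groth.Agent.RegularLib.isDomain (Y.presheaf.stalk y)
    infer_instance
  haveI : IsReduced Y := isReduced_of_isReduced_stalk Y
  haveI : IsIntegral Y := isIntegral_of_irreducibleSpace_of_isReduced Y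
  -- local Noetherianity
  have hN : ∀ x : X, ∃ V : Set X, IsOpen V ∧ x ∈ V ∧ NoetherianSpace V := by
    intro x
    obtain ⟨_, ⟨V, hV, rfl⟩, hxV, -⟩ :=
      X.isBasis_affineOpens.exists_subset_of_mem_open (Set.mem_univ x) isOpen_univ
    have hV' : IsAffineOpen V := hV
    haveI : IsNoetherianRing Γ(X, V) := IsLocallyNoetherian.component_noetherian ⟨V, hV⟩
    exact ⟨V, V.2, hxV, noetherianSpace_of_isAffineOpen V hV'⟩
  set 𝒵 : Set (Set X) := {Z | Z ∈ irreducibleComponents X ∧ ¬ (Z ∩ f ⁻¹' {y}).Nonempty} with h𝒵
  have hBcl : IsClosed (⋃₀ 𝒵) :=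
    isClosed_sUnion_irreducibleComponents hN 𝒵 (fun Z hZ => hZ.1)
  let U : X.Opens := ⟨(⋃₀ 𝒵)ᶜ, hBcl.isOpen_compl⟩
  have hfib : f ⁻¹' {y} ⊆ (U : Set X) := by
    intro x hx hxB
    obtain ⟨Z, ⟨-, hZ2⟩, hxZ⟩ := hxB
    exact hZ2 ⟨x, hxZ, hx⟩
  refine ⟨U, hfib, ?_⟩
  -- the reduced structure on U
  let I : (U : Scheme.{u}).IdealSheafData := Scheme.IdealSheafData.vanishingIdeal ⊤
  haveI hred : IsReduced I.subscheme := CohDevH8.isReduced_subscheme_vanishingIdeal ⊤
  have hrange : Set.range I.subschemeι = Set.univ := by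
    rw [Scheme.IdealSheafData.range_subschemeι]
    rfl
  haveI : Surjective I.subschemeι := ⟨fun x => by
    have : x ∈ Set.range I.subschemeι := by rw [hrange]; trivial
    exact this⟩
  haveI : IsLocallyNoetherian (U : Scheme.{u}) := isLocallyNoetherian_of_isOpenImmersion U.ι
  haveI : IsLocallyNoetherian I.subscheme := LocallyOfFiniteType.isLocallyNoetherian I.subschemeι
  -- maximal points map to the generic point
  have hmaxpt : ∀ u : I.subscheme, IsMax u →
      (I.subschemeι ≫ U.ι ≫ f) u = genericPoint Y := by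
    intro u hu
    set j := I.subschemeι ≫ U.ι with hj
    have hjemb : Topology.IsEmbedding j := by
      rw [hj]
      exact U.ι.isEmbedding.comp I.subschemeι.isEmbedding
    have hjrange : Set.range j = (U : Set X) := by
      rw [hj, Scheme.Hom.comp_base, TopCat.coe_comp, Set.range_comp, hrange, Set.image_univ,
        Scheme.Opens.range_ι]
    set x := j u with hx
    have hxU : x ∈ (U : Set X) := by rw [← hjrange]; exact ⟨u, rfl⟩
    have hxmax : ∀ x' : X, x' ⤳ x → x ⤳ x' := by
      intro x' hx'
      have hx'U : x' ∈ (U : Set X) := hx'.mem_open U.2 hxU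
      rw [← hjrange] at hx'U
      obtain ⟨u', rfl⟩ := hx'U
      have h1 : u' ⤳ u := hjemb.isInducing.specializes_iff.mp hx'
      have h2 : u ⤳ u' := hu h1
      exact h2.map j.continuous
    -- closure of x is an irreducible component
    have hZ : closure ({x} : Set X) ∈ irreducibleComponents X := by
      refine ⟨isIrreducible_singleton.closure, ?_⟩
      intro W hW hsub
      obtain ⟨w, hw⟩ := QuasiSober.sober hW.closure isClosed_closure
      have h1 : w ⤳ x := hw.specializes (subset_closure (hsub (subset_closure rfl)))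
      have h2 : x ⤳ w := hxmax w h1
      have h3 : closure W ⊆ closure ({x} : Set X) := by
        rw [← hw.def]
        exact closure_minimal (by
          intro z hz
          rw [Set.mem_singleton_iff] at hz
          rw [hz]; exact h2.mem_closure) isClosed_closure
      exact subset_closure.trans h3
    have hne : (closure ({x} : Set X) ∩ f ⁻¹' {y}).Nonempty := by
      by_contra hcon
      exact hxU ⟨closure {x}, ⟨hZ, hcon⟩, subset_closure rfl⟩
    have hdense := h _ hZ hne
    have hgen : IsGenericPoint (f x) (Set.univ : Set Y) := by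
      rw [isGenericPoint_def]
      have h1 : f '' closure ({x} : Set X) ⊆ closure ({f x} : Set Y) := by
        refine (image_closure_subset_closure_image f.continuous).trans ?_
        rw [Set.image_singleton]
      have h2 : closure (f '' closure ({x} : Set X)) ⊆ closure ({f x} : Set Y) :=
        closure_minimal h1 isClosed_closure
      rw [hdense.closure_eq] at h2
      exact Set.eq_univ_of_univ_subset h2
    show f (j u) = genericPoint Y
    exact ((genericPoint_spec Y).eq hgen).symm
  haveI : Flat (I.subschemeι ≫ U.ι ≫ f) :=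
    flat_of_reduced_of_isMax (fun y => (hY y).1) (fun y => (hY y).2) _ hmaxpt
  haveI : UniversallyOpen (I.subschemeι ≫ U.ι ≫ f) := inferInstance
  exact universallyOpen_of_surjective_comp I.subschemeι (U.ι ≫ f)

end Groth.Agent.Lib.DedOpenH8
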