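import Mathlib
import Groth.Prelude.Def_Neron
import Groth.Agent.Lib.TorsorProp_helper7

set_option autoImplicit false
set_option linter.style.haveILetI false
universe u
open CategoryTheory CategoryTheory.Limits AlgebraicGeometry

namespace Groth.Agent.Lib.DedSecH4

variable {X Y : Scheme.{u}}

/-- `fromSpecStalkOfMem` of a partial map is compatible with specialisation. -/
lemma fromSpecStalkOfMem_specializes (f : X.PartialMap Y) {x y : X} (h : x ⤳ y)
    (hy : y ∈ f.domain) :
    f.fromSpecStalkOfMem (h.mem_open f.domain.2 hy) =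
      Spec.map (X.presheaf.stalkSpecializes h) ≫ f.fromSpecStalkOfMem hy := by
  unfold Scheme.PartialMap.fromSpecStalkOfMem
  rw [← Category.assoc]
  congr 1
  rw [← cancel_mono f.domain.ι, Category.assoc, Scheme.Opens.fromSpecStalkOfMem_ι,
    Scheme.Opens.fromSpecStalkOfMem_ι, Scheme.SpecMap_stalkSpecializes_fromSpecStalk]

noncomputable def mkSq [IsIntegral X] (s : X) (hV : ValuationRing (X.presheaf.stalk s))
    (sY : Y ⟶ X) (f₀ : Spec X.functionField ⟶ Y)
    (h₀ : f₀ ≫ sY = X.fromSpecStalk (genericPoint X)) : ValuativeCommSq sY :=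
  @ValuativeCommSq.mk _ _ sY (X.presheaf.stalk s) inferInstance inferInstance hV
    X.functionField inferInstance inferInstance inferInstance f₀ (X.fromSpecStalk s)
    ⟨by
      rw [h₀]
      exact (Scheme.SpecMap_stalkSpecializes_fromSpecStalk (genericPoint_specializes s)).symm⟩

theorem exists_lift_stalk [IsIntegral X] (s : X) (hV : ValuationRing (X.presheaf.stalk s))
    (sY : Y ⟶ X) [UniversallyClosed sY] (f₀ : Spec X.functionField ⟶ Y)
    (h₀ : f₀ ≫ sY = X.fromSpecStalk (genericPoint X)) :
    ∃ ψ : Spec (X.presheaf.stalk s) ⟶ Y,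
      Spec.map (X.presheaf.stalkSpecializes (genericPoint_specializes s)) ≫ ψ = f₀ ∧
        ψ ≫ sY = X.fromSpecStalk s := by
  have hex : ValuativeCriterion.Existence sY := by
    have : UniversallyClosed sY := inferInstance
    rw [UniversallyClosed.eq_valuativeCriterion] at this
    exact this.1
  obtain ⟨⟨ψ, hψ1, hψ2⟩⟩ := (hex (mkSq s hV sY f₀ h₀)).exists_lift
  exact ⟨ψ, hψ1, hψ2⟩

theorem domain_eq_top [IsIntegral X]
    (hV : ∀ x : X, ValuationRing (X.presheaf.stalk x))
    (sY : Y ⟶ X) [UniversallyClosed sY] [LocallyOfFiniteType sY]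
    (f₀ : Spec X.functionField ⟶ Y) (h₀' : f₀ ≫ sY = X.fromSpecStalk (genericPoint X) ≫ 𝟙 X) :
    (Scheme.RationalMap.ofFunctionField (𝟙 X) sY f₀ h₀').domain = ⊤ := by
  have h₀ : f₀ ≫ sY = X.fromSpecStalk (genericPoint X) := by rw [h₀', Category.comp_id]
  rw [eq_top_iff]
  intro s _
  rw [Scheme.RationalMap.mem_domain]
  have hsp : genericPoint X ⤳ s := genericPoint_specializes s
  obtain ⟨ψ, hψ1, hψ2⟩ := exists_lift_stalk s (hV s) sY f₀ h₀
  have hψ2' : ψ ≫ sY = X.fromSpecStalk s ≫ 𝟙 X := by rw [Category.comp_id]; exact hψ2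
  refine ⟨Scheme.PartialMap.ofFromSpecStalk (𝟙 X) sY ψ hψ2',
    Scheme.PartialMap.mem_domain_ofFromSpecStalk (𝟙 X) sY ψ hψ2', ?_⟩
  apply Scheme.RationalMap.eq_of_fromFunctionField_eq
  rw [Scheme.RationalMap.fromFunctionField_toRationalMap,
    Scheme.RationalMap.fromFunctionField_ofFunctionField]
  unfold Scheme.PartialMap.fromFunctionField
  rw [fromSpecStalkOfMem_specializes _ hsp
    (Scheme.PartialMap.mem_domain_ofFromSpecStalk (𝟙 X) sY ψ hψ2'),
    Scheme.PartialMap.fromSpecStalkOfMem_ofFromSpecStalk]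
  exact hψ1


theorem exists_section_of_valuationRing [IsIntegral X] [X.IsSeparated]
    (hV : ∀ x : X, ValuationRing (X.presheaf.stalk x))
    (sY : Y ⟶ X) [IsProper sY]
    (f₀ : Spec X.functionField ⟶ Y) (h₀ : f₀ ≫ sY = X.fromSpecStalk (genericPoint X)) :
    ∃ σ : X ⟶ Y, σ ≫ sY = 𝟙 X := by
  have h₀' : f₀ ≫ sY = X.fromSpecStalk _ ≫ 𝟙 X := by rw [Category.comp_id, h₀]
  have hdom := domain_eq_top hV sY f₀ h₀'
  let _ : X.Over X := ⟨𝟙 X⟩
  let _ : Y.Over X := ⟨sY⟩
  have : Y.IsSeparated := by
    refine ⟨?_⟩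
    rw [show terminal.from Y = sY ≫ terminal.from X from (terminal.hom_ext _ _)]
    have : IsSeparated (terminal.from X) := Scheme.IsSeparated.isSeparated_terminal_from
    infer_instance
  have hover : (Scheme.RationalMap.ofFunctionField (𝟙 X) sY f₀ h₀').IsOver X :=
    Scheme.RationalMap.isOver_iff.mpr
      ((Scheme.RationalMap.equivFunctionField (𝟙 X) sY ⟨f₀, h₀'⟩).2)
  have hp : (Scheme.RationalMap.ofFunctionField (𝟙 X) sY f₀ h₀').toPartialMap.IsOver X :=
    inferInstance
  have hp' : (Scheme.RationalMap.ofFunctionField (𝟙 X) sY f₀ h₀').toPartialMap.hom ≫ sY =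
      (Scheme.RationalMap.ofFunctionField (𝟙 X) sY f₀ h₀').toPartialMap.domain.ι ≫ 𝟙 X :=
    (Scheme.PartialMap.isOver_iff (S := X)).mp hp
  have hpd : (Scheme.RationalMap.ofFunctionField (𝟙 X) sY f₀ h₀').toPartialMap.domain = ⊤ := hdom
  refine ⟨X.topIso.inv ≫ (X.isoOfEq hpd).inv ≫
    (Scheme.RationalMap.ofFunctionField (𝟙 X) sY f₀ h₀').toPartialMap.hom, ?_⟩
  rw [Category.assoc, Category.assoc, hp', Category.comp_id, Scheme.isoOfEq_inv_ι,
    Scheme.toIso_inv_ι]


theorem valuationRing_stalk (R : Type u) [CommRing R] [IsDedekindDomain R]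
    (s : Spec (CommRingCat.of R)) :
    ValuationRing ((Spec (CommRingCat.of R)).presheaf.stalk s) := by
  by_cases hs : s = genericPoint (Spec (CommRingCat.of R))
  · subst hs
    exact (inferInstance : ValuationRing (Spec (CommRingCat.of R)).functionField)
  · have hne : s.asIdeal ≠ ⊥ := by
      intro h
      apply hs
      rw [genericPoint_eq_bot_of_affine]
      exact PrimeSpectrum.ext h
    letI : Algebra R ((Spec (CommRingCat.of R)).presheaf.stalk s) :=
      StructureSheaf.stalkAlgebra (R := R) s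
    haveI : IsLocalization.AtPrime ((Spec (CommRingCat.of R)).presheaf.stalk s) s.asIdeal :=
      StructureSheaf.IsLocalization.to_stalk R s
    haveI := IsLocalization.AtPrime.isDiscreteValuationRing_of_dedekind_domain R hne
      ((Spec (CommRingCat.of R)).presheaf.stalk s)
    infer_instance


theorem exists_section_dedekind (R : Type u) [CommRing R] [IsDedekindDomain R]
    {Y : Scheme.{u}} (sY : Y ⟶ Spec (CommRingCat.of R)) [IsProper sY]
    (x : Spec (CommRingCat.of (FractionRing R)) ⟶ Y) (hx : x ≫ sY = Neron.genPt R) :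
    ∃ σ : Spec (CommRingCat.of R) ⟶ Y, σ ≫ sY = 𝟙 _ := by
  haveI : IsDomain (CommRingCat.of R) := inferInstanceAs (IsDomain R)
  letI : Algebra R (Spec (CommRingCat.of R)).functionField :=
    instAlgebraCarrierFunctionFieldSpec (CommRingCat.of R)
  haveI : IsFractionRing R (Spec (CommRingCat.of R)).functionField :=
    functionField_isFractionRing_of_affine (CommRingCat.of R)
  let e : FractionRing R ≃ₐ[R] (Spec (CommRingCat.of R)).functionField :=
    FractionRing.algEquiv R _
  refine exists_section_of_valuationRing (valuationRing_stalk R) sY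
    (Spec.map (CommRingCat.ofHom (e : FractionRing R →+* (Spec (CommRingCat.of R)).functionField)) ≫ x) ?_
  rw [Category.assoc, hx, Spec.fromSpecStalk_eq']
  change Spec.map _ ≫ Spec.map _ = _
  rw [← Spec.map_comp]
  congr 1
  ext r
  exact e.commutes r


/-- properness descends along fpqc covers (copy of the statement in the lead's `ProperKer`, kept here to keep imports light) -/
theorem isProper_descends :
    MorphismProperty.DescendsAlong (@IsProper)
      (@Surjective ⊓ @Flat ⊓ @QuasiCompact : MorphismProperty Scheme.{u}) where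
  of_isPullback {A X Y Z fst snd f g} h hf hfst := by
    haveI : IsProper fst := hfst
    haveI := Groth.Agent.Lib.TorsorProp_helper7.isSeparated_descends.{u}
    have hsep : IsSeparated g :=
      MorphismProperty.of_isPullback_of_descendsAlong (P := @IsSeparated) h hf inferInstance
    have huc : UniversallyClosed g :=
      MorphismProperty.of_isPullback_of_descendsAlong (P := @UniversallyClosed) h hf inferInstance
    have hlft : LocallyOfFiniteType g :=
      MorphismProperty.of_isPullback_of_descendsAlong (P := @LocallyOfFiniteType) h hf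
        inferInstance
    exact {}

/-- A torsor (fppf) under a proper group over a Dedekind base with a generic section has a section. -/
theorem main18487 (R : Type u) [CommRing R] [IsDedekindDomain R]
    (G : Over (Spec (CommRingCat.of R))) [GrpObj G] [IsProper G.hom]
    (P : NonAbH1.TorsorSch G Scheme.fppfPrecoverage)
    (h : NonAbH1.HasSectionOver P.X (Neron.genPt R)) :
    NonAbH1.HasSectionOver P.X (𝟙 (Spec (CommRingCat.of R))) := by
  obtain ⟨x, hx⟩ := h
  have ha : NonAbH1.IsTorsorFor Scheme.fpqcPrecoverage P.act := by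
    obtain ⟨h1, Rr, hR, hsec⟩ := P.isTorsor
    exact ⟨h1, Rr, Scheme.fppfPrecoverage_le_fpqcPrecoverage _ hR, hsec⟩
  haveI := isProper_descends.{u}
  haveI : IsProper P.X.hom :=
    Groth.Agent.Lib.TorsorProp_helper7.prop_of_torsor @IsProper P.act ha inferInstance
  obtain ⟨σ, hσ⟩ := exists_section_dedekind R P.X.hom x hx
  exact ⟨σ, hσ⟩

end Groth.Agent.Lib.DedSecH4
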