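import Mathlib

/-!
# Domains in which every nonzero ideal is a product of primes are Dedekind

Classical argument (Zariski–Samuel): an invertible prime is maximal (pass to `R ⧸ P` and compare
the factorizations of `P + (a)` and `P + (a²)`), every nonzero prime contains an invertible prime,
hence every nonzero ideal is invertible.
-/

namespace Groth.Agent.Lib.DedekindFactor

open Ideal
open scoped nonZeroDivisors

section Inv

variable {D : Type*} [CommRing D] [IsDomain D]

/-- invertibility of an integral ideal, stated without fractional ideals -/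
def Inv (I : Ideal D) : Prop := ∃ (J : Ideal D) (d : D), d ≠ 0 ∧ I * J = Ideal.span {d}

theorem Inv.of_mul {I I' : Ideal D} (h : Inv (I * I')) : Inv I := by
  obtain ⟨J, d, hd, hJ⟩ := h
  exact ⟨I' * J, d, hd, by rw [← mul_assoc, hJ]⟩

theorem Inv.mul {I I' : Ideal D} (h : Inv I) (h' : Inv I') : Inv (I * I') := by
  obtain ⟨J, d, hd, hJ⟩ := h
  obtain ⟨J', d', hd', hJ'⟩ := h'
  refine ⟨J * J', d * d', mul_ne_zero hd hd', ?_⟩
  rw [mul_mul_mul_comm, hJ, hJ', Ideal.span_singleton_mul_span_singleton]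

theorem Inv.top : Inv (⊤ : Ideal D) :=
  ⟨⊤, 1, one_ne_zero, by rw [Ideal.mul_top, Ideal.span_singleton_one]⟩

theorem Inv.of_span {d : D} (hd : d ≠ 0) : Inv (Ideal.span {d} : Ideal D) :=
  ⟨⊤, d, hd, Ideal.mul_top _⟩

theorem Inv.cancel {I A B : Ideal D} (h : Inv I) (hAB : I * A = I * B) : A = B := by
  obtain ⟨J, d, hd, hJ⟩ := h
  have : Ideal.span {d} * A = Ideal.span {d} * B := by
    rw [← hJ, mul_comm I J, mul_assoc, mul_assoc, hAB]
  exact (Ideal.span_singleton_mul_right_inj hd).1 this

theorem Inv.multiset_prod {s : Multiset (Ideal D)} (h : ∀ p ∈ s, Inv p) : Inv s.prod := by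
  induction s using Multiset.induction_on with
  | empty =>
    rw [Multiset.prod_zero, Ideal.one_eq_top]
    exact Inv.top
  | cons a s ih =>
    rw [Multiset.prod_cons]
    exact Inv.mul (h a (Multiset.mem_cons_self a s))
      (ih fun p hp => h p (Multiset.mem_cons_of_mem hp))

theorem Inv.of_mem_of_prod {s : Multiset (Ideal D)} (h : Inv s.prod) {p : Ideal D} (hp : p ∈ s) :
    Inv p := by
  obtain ⟨t, rfl⟩ := Multiset.exists_cons_of_mem hp
  rw [Multiset.prod_cons] at h
  exact h.of_mul

theorem le_of_mem_prod {s : Multiset (Ideal D)} {p : Ideal D} (hp : p ∈ s) : s.prod ≤ p :=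
  Ideal.multiset_prod_le_inf.trans (Multiset.inf_le hp)

/-- uniqueness of factorisation into invertible primes -/
theorem unique_factor : ∀ (n : ℕ) (s t : Multiset (Ideal D)), Multiset.card s = n →
    (∀ p ∈ s, p.IsPrime ∧ Inv p) → (∀ p ∈ t, p.IsPrime ∧ Inv p) → s.prod = t.prod → s = t := by
  intro n
  induction n with
  | zero =>
    intro s t hs _ ht hprod
    rw [Multiset.card_eq_zero] at hs
    subst hs
    rw [Multiset.prod_zero] at hprod
    by_contra hne
    obtain ⟨q, hq⟩ := Multiset.exists_mem_of_ne_zero (Ne.symm hne)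
    have h1 : t.prod ≤ q := le_of_mem_prod hq
    rw [← hprod, Ideal.one_eq_top, top_le_iff] at h1
    exact (ht q hq).1.ne_top h1
  | succ n ih =>
    intro s t hs hsP htP hprod
    classical
    have hsne : s ≠ 0 := by
      intro h0
      rw [h0] at hs
      simp at hs
    have hne : s.toFinset.Nonempty := by
      obtain ⟨q, hq⟩ := Multiset.exists_mem_of_ne_zero hsne
      exact ⟨q, Multiset.mem_toFinset.2 hq⟩
    obtain ⟨P, hPmem, hPmin⟩ := s.toFinset.exists_minimal hne
    have hPs : P ∈ s := Multiset.mem_toFinset.1 hPmem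
    have hPprime := (hsP P hPs).1
    have h1 : t.prod ≤ P := by
      rw [← hprod]
      exact le_of_mem_prod hPs
    obtain ⟨Q, hQt, hQP⟩ := (hPprime.multiset_prod_le).1 h1
    have hQprime := (htP Q hQt).1
    have h2 : s.prod ≤ Q := by
      rw [hprod]
      exact le_of_mem_prod hQt
    obtain ⟨P', hP's, hP'Q⟩ := (hQprime.multiset_prod_le).1 h2
    have hPP' : P ≤ P' := hPmin (Multiset.mem_toFinset.2 hP's) (hP'Q.trans hQP)
    have hQeq : Q = P := le_antisymm hQP (hPP'.trans hP'Q)
    have hPt : P ∈ t := hQeq ▸ hQt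
    have hPinv : Inv P := (hsP P hPs).2
    obtain ⟨s', hs'⟩ := Multiset.exists_cons_of_mem hPs
    obtain ⟨t', ht'⟩ := Multiset.exists_cons_of_mem hPt
    rw [hs', ht', Multiset.prod_cons, Multiset.prod_cons] at hprod
    have hcancel := hPinv.cancel hprod
    have hcard : Multiset.card s' = n := by
      rw [hs', Multiset.card_cons] at hs
      omega
    rw [hs', ht', ih s' t' hcard
      (fun p hp => hsP p (hs' ▸ Multiset.mem_cons_of_mem hp))
      (fun p hp => htP p (ht' ▸ Multiset.mem_cons_of_mem hp)) hcancel]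

end Inv

section Main

variable {R : Type*} [CommRing R] [IsDomain R]

theorem isMaximal_of_inv
    (h : ∀ I : Ideal R, I ≠ ⊥ →
      ∃ s : Multiset (Ideal R), (∀ p ∈ s, p.IsPrime ∧ p ≠ ⊥) ∧ s.prod = I)
    {P : Ideal R} (hP : P.IsPrime) (hinv : Inv P) : P.IsMaximal := by
  have key : ∀ a, a ∉ P → P ⊔ Ideal.span {a} = ⊤ := by
    intro a ha
    have ha0 : a ≠ 0 := fun h0 => ha (h0 ▸ P.zero_mem)
    obtain ⟨I, hI⟩ : ∃ I, I = P ⊔ Ideal.span {a} := ⟨_, rfl⟩
    obtain ⟨J, hJ⟩ : ∃ J, J = P ⊔ Ideal.span {a ^ 2} := ⟨_, rfl⟩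
    have hPI : P ≤ I := hI ▸ le_sup_left
    have hPJ : P ≤ J := hJ ▸ le_sup_left
    have haI : a ∈ I := hI ▸ Ideal.mem_sup_right (Ideal.mem_span_singleton_self a)
    have haJ : a ^ 2 ∈ J := hJ ▸ Ideal.mem_sup_right (Ideal.mem_span_singleton_self _)
    have hI0 : I ≠ ⊥ := by
      intro h0
      rw [h0, Ideal.mem_bot] at haI
      exact ha0 haI
    have hJ0 : J ≠ ⊥ := by
      intro h0
      rw [h0, Ideal.mem_bot] at haJ
      exact pow_ne_zero 2 ha0 haJ
    obtain ⟨sI, hsI, hsIprod⟩ := h I hI0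
    obtain ⟨sJ, hsJ, hsJprod⟩ := h J hJ0
    have hsIP : ∀ p ∈ sI, P ≤ p := fun p hp =>
      hPI.trans (hsIprod ▸ le_of_mem_prod hp)
    have hsJP : ∀ p ∈ sJ, P ≤ p := fun p hp =>
      hPJ.trans (hsJprod ▸ le_of_mem_prod hp)
    have hπ : Function.Surjective (Ideal.Quotient.mk P) := Ideal.Quotient.mk_surjective
    haveI : IsDomain (R ⧸ P) := Ideal.Quotient.isDomain P
    have hkerπ : RingHom.ker (Ideal.Quotient.mk P) = P := Ideal.mk_ker
    have hab : (Ideal.Quotient.mk P) a ≠ 0 := by
      rw [Ne, Ideal.Quotient.eq_zero_iff_mem]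
      exact ha
    have hmapI : Ideal.map (Ideal.Quotient.mk P) I = Ideal.span {(Ideal.Quotient.mk P) a} := by
      rw [hI, Ideal.map_sup, Ideal.map_quotient_self, bot_sup_eq, Ideal.map_span,
        Set.image_singleton]
    have hmapJ : Ideal.map (Ideal.Quotient.mk P) J =
        Ideal.span {(Ideal.Quotient.mk P) a ^ 2} := by
      rw [hJ, Ideal.map_sup, Ideal.map_quotient_self, bot_sup_eq, Ideal.map_span,
        Set.image_singleton, map_pow]
    have hprodI : (sI.map (Ideal.map (Ideal.Quotient.mk P))).prod =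
        Ideal.span {(Ideal.Quotient.mk P) a} := by
      rw [← hmapI, ← hsIprod]
      exact (map_multiset_prod (Ideal.mapHom (Ideal.Quotient.mk P)) sI).symm
    have hprodJ : (sJ.map (Ideal.map (Ideal.Quotient.mk P))).prod =
        Ideal.span {(Ideal.Quotient.mk P) a ^ 2} := by
      rw [← hmapJ, ← hsJprod]
      exact (map_multiset_prod (Ideal.mapHom (Ideal.Quotient.mk P)) sJ).symm
    have hmemI : ∀ q ∈ sI.map (Ideal.map (Ideal.Quotient.mk P)), q.IsPrime ∧ Inv q := by
      intro q hq
      obtain ⟨p, hp, rfl⟩ := Multiset.mem_map.1 hq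
      haveI := (hsI p hp).1
      refine ⟨Ideal.map_isPrime_of_surjective hπ (by rw [hkerπ]; exact hsIP p hp), ?_⟩
      refine Inv.of_mem_of_prod (s := sI.map (Ideal.map (Ideal.Quotient.mk P))) ?_ hq
      rw [hprodI]
      exact Inv.of_span hab
    have hmemJ : ∀ q ∈ sJ.map (Ideal.map (Ideal.Quotient.mk P)), q.IsPrime ∧ Inv q := by
      intro q hq
      obtain ⟨p, hp, rfl⟩ := Multiset.mem_map.1 hq
      haveI := (hsJ p hp).1
      refine ⟨Ideal.map_isPrime_of_surjective hπ (by rw [hkerπ]; exact hsJP p hp), ?_⟩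
      refine Inv.of_mem_of_prod (s := sJ.map (Ideal.map (Ideal.Quotient.mk P))) ?_ hq
      rw [hprodJ]
      exact Inv.of_span (pow_ne_zero 2 hab)
    have heq : (sI + sI).map (Ideal.map (Ideal.Quotient.mk P)) =
        sJ.map (Ideal.map (Ideal.Quotient.mk P)) := by
      apply unique_factor _ _ _ rfl
      · intro q hq
        rw [Multiset.map_add, Multiset.mem_add] at hq
        exact hq.elim (hmemI q) (hmemI q)
      · exact hmemJ
      · rw [Multiset.map_add, Multiset.prod_add, hprodI, hprodJ,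
          Ideal.span_singleton_mul_span_singleton, pow_two]
    have hcomap : ∀ p : Ideal R, P ≤ p →
        Ideal.comap (Ideal.Quotient.mk P) (Ideal.map (Ideal.Quotient.mk P) p) = p := by
      intro p hp
      rw [Ideal.comap_map_of_surjective _ hπ, ← RingHom.ker_eq_comap_bot, hkerπ,
        sup_eq_left.2 hp]
    have heq2 : sI + sI = sJ := by
      have h3 := congrArg (Multiset.map (Ideal.comap (Ideal.Quotient.mk P))) heq
      rw [Multiset.map_map, Multiset.map_map] at h3
      have e1 : (sI + sI).map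
          (Ideal.comap (Ideal.Quotient.mk P) ∘ Ideal.map (Ideal.Quotient.mk P)) = sI + sI := by
        conv_rhs => rw [← Multiset.map_id (sI + sI)]
        apply Multiset.map_congr rfl
        intro p hp
        rw [Multiset.mem_add] at hp
        exact hcomap p (hp.elim (hsIP p) (hsIP p))
      have e2 : sJ.map
          (Ideal.comap (Ideal.Quotient.mk P) ∘ Ideal.map (Ideal.Quotient.mk P)) = sJ := by
        conv_rhs => rw [← Multiset.map_id sJ]
        exact Multiset.map_congr rfl (fun p hp => hcomap p (hsJP p hp))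
      rw [e1, e2] at h3
      exact h3
    have hJI : J = I ^ 2 := by
      rw [← hsJprod, ← heq2, Multiset.prod_add, hsIprod, pow_two]
    have hI2 : I ^ 2 ≤ P ^ 2 ⊔ Ideal.span {a} := by
      rw [pow_two, pow_two, hI, Ideal.sup_mul, Ideal.mul_sup, Ideal.mul_sup]
      refine sup_le (sup_le le_sup_left (le_sup_of_le_right Ideal.mul_le_right))
        (sup_le (le_sup_of_le_right Ideal.mul_le_left) (le_sup_of_le_right Ideal.mul_le_left))
    have hPle : P ≤ P * I := by
      intro x hx
      have hx2 : x ∈ P ^ 2 ⊔ Ideal.span {a} := by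
        apply hI2
        rw [← hJI]
        exact hPJ hx
      obtain ⟨y, hy, w, hw, rfl⟩ := Submodule.mem_sup.1 hx2
      obtain ⟨z, rfl⟩ := Ideal.mem_span_singleton'.1 hw
      have hyP : y ∈ P := Ideal.pow_le_self two_ne_zero hy
      have hza : z * a ∈ P := by
        have h4 := P.sub_mem hx hyP
        simpa using h4
      have hz : z ∈ P := (hP.mem_or_mem hza).resolve_right ha
      refine Ideal.add_mem _ ?_ ?_
      · rw [pow_two] at hy
        exact Ideal.mul_mono_right hPI hy
      · exact Ideal.mul_mem_mul hz haI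
    have hPI' : P * I = P * ⊤ := by
      rw [Ideal.mul_top]
      exact le_antisymm Ideal.mul_le_left hPle
    rw [← hI]
    exact hinv.cancel hPI'
  rw [Ideal.isMaximal_def]
  refine ⟨hP.ne_top, fun b hb => ?_⟩
  obtain ⟨a, hab, haP⟩ := SetLike.exists_of_lt hb
  rw [eq_top_iff, ← key a haP]
  exact sup_le hb.le ((Ideal.span_singleton_le_iff_mem _).2 hab)

theorem inv_of_ne_bot
    (h : ∀ I : Ideal R, I ≠ ⊥ →
      ∃ s : Multiset (Ideal R), (∀ p ∈ s, p.IsPrime ∧ p ≠ ⊥) ∧ s.prod = I)
    (I : Ideal R) (hI : I ≠ ⊥) : Inv I := by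
  have hprime : ∀ P : Ideal R, P.IsPrime → P ≠ ⊥ → Inv P := by
    intro P hP hP0
    obtain ⟨b, hbP, hb0⟩ := Submodule.exists_mem_ne_zero_of_ne_bot hP0
    have hb : Ideal.span {b} ≠ ⊥ := by rwa [Ne, Ideal.span_singleton_eq_bot]
    obtain ⟨s, hs, hsprod⟩ := h _ hb
    have hsinv : ∀ p ∈ s, Inv p := fun p hp =>
      Inv.of_mem_of_prod (by rw [hsprod]; exact Inv.of_span hb0) hp
    have hle : s.prod ≤ P := by
      rw [hsprod]
      exact (Ideal.span_singleton_le_iff_mem _).2 hbP
    obtain ⟨p, hp, hpP⟩ := hP.multiset_prod_le.1 hle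
    have hpmax := isMaximal_of_inv h (hs p hp).1 (hsinv p hp)
    have hpP' : p = P := hpmax.eq_of_le hP.ne_top hpP
    exact hpP' ▸ hsinv p hp
  obtain ⟨s, hs, hsprod⟩ := h I hI
  rw [← hsprod]
  exact Inv.multiset_prod fun p hp => hprime p (hs p hp).1 (hs p hp).2

theorem isDedekindDomain_of_factor
    (h : ∀ I : Ideal R, I ≠ ⊥ →
      ∃ s : Multiset (Ideal R), (∀ p ∈ s, p.IsPrime ∧ p ≠ ⊥) ∧ s.prod = I) :
    IsDedekindDomain R := by
  rw [isDedekindDomain_iff_mul_inv_cancel (K := FractionRing R)]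
  intro I hI
  obtain ⟨a, J, ha, hJ⟩ := FractionalIdeal.exists_eq_spanSingleton_mul I
  have hJ0 : J ≠ ⊥ := by
    rintro rfl
    apply hI
    rw [hJ]
    simp
  obtain ⟨J', d, hd, hJJ'⟩ := inv_of_ne_bot h J hJ0
  rw [FractionalIdeal.mul_inv_cancel_iff]
  refine ⟨FractionalIdeal.spanSingleton R⁰
    (algebraMap R (FractionRing R) a * (algebraMap R (FractionRing R) d)⁻¹) *
      (J' : FractionalIdeal R⁰ (FractionRing R)), ?_⟩
  have hJJ : ((J : FractionalIdeal R⁰ (FractionRing R)) *
      (J' : FractionalIdeal R⁰ (FractionRing R))) =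
      FractionalIdeal.spanSingleton R⁰ (algebraMap R (FractionRing R) d) := by
    rw [← FractionalIdeal.coeIdeal_mul, hJJ', FractionalIdeal.coeIdeal_span_singleton]
  have ha' : algebraMap R (FractionRing R) a ≠ 0 := by
    rwa [Ne, IsFractionRing.to_map_eq_zero_iff]
  have hd' : algebraMap R (FractionRing R) d ≠ 0 := by
    rwa [Ne, IsFractionRing.to_map_eq_zero_iff]
  rw [hJ]
  calc FractionalIdeal.spanSingleton R⁰ (algebraMap R (FractionRing R) a)⁻¹ *
        (J : FractionalIdeal R⁰ (FractionRing R)) *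
        (FractionalIdeal.spanSingleton R⁰
          (algebraMap R (FractionRing R) a * (algebraMap R (FractionRing R) d)⁻¹) *
        (J' : FractionalIdeal R⁰ (FractionRing R)))
      = (FractionalIdeal.spanSingleton R⁰ (algebraMap R (FractionRing R) a)⁻¹ *
          FractionalIdeal.spanSingleton R⁰
            (algebraMap R (FractionRing R) a * (algebraMap R (FractionRing R) d)⁻¹)) *
        ((J : FractionalIdeal R⁰ (FractionRing R)) *
          (J' : FractionalIdeal R⁰ (FractionRing R))) := by ring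
    _ = 1 := by
      rw [hJJ, FractionalIdeal.spanSingleton_mul_spanSingleton,
        FractionalIdeal.spanSingleton_mul_spanSingleton]
      have : (algebraMap R (FractionRing R) a)⁻¹ *
          (algebraMap R (FractionRing R) a * (algebraMap R (FractionRing R) d)⁻¹) *
          algebraMap R (FractionRing R) d = 1 := by
        field_simp
      rw [this, FractionalIdeal.spanSingleton_one]

end Main

end Groth.Agent.Lib.DedekindFactor
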