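import Mathlib

open CategoryTheory AlgebraicGeometry Limits TopologicalSpace
universe u

namespace Groth.Agent.Lib.DedekindFlat

/-- Over a Dedekind domain: if `f ≫ g` is flat and `f` is injective on sections over affine opens, then
`g` is flat (flat = torsion-free). -/
theorem flat_of_app_injective {R : Type u} [CommRing R] [IsDedekindDomain R] {X Y : Scheme.{u}}
    (f : X ⟶ Y) (g : Y ⟶ Spec (CommRingCat.of R)) [Flat (f ≫ g)]
    (hinj : ∀ V : Y.affineOpens, Function.Injective (f.app V.1)) : Flat g := by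
  rw [HasRingHomProperty.iff_of_iSup_eq_top (P := @Flat) (fun V : Y.affineOpens => V)
    (iSup_affineOpens_eq_top Y)]
  intro V
  have Hiso := RingHom.Flat.respectsIso
  rw [← Hiso.cancel_left_isIso (Scheme.ΓSpecIso (CommRingCat.of R)).inv]
  let φ : CommRingCat.of R ⟶ Γ(Y, V.1) :=
    (Scheme.ΓSpecIso (CommRingCat.of R)).inv ≫ g.appLE ⊤ V.1 le_top
  show φ.hom.Flat
  algebraize [φ.hom]
  show Module.Flat R Γ(Y, V.1)
  have : Module.IsTorsionFree R Γ(Y, V.1) := by
    refine ⟨fun r hr a a' h => ?_⟩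
    have h' : φ.hom r * a = φ.hom r * a' := h
    apply hinj V
    refine TopCat.Presheaf.section_ext X.sheaf _ _ _ ?_
    intro x hx
    obtain ⟨_, ⟨W, hW, rfl⟩, hxW, hWle⟩ :=
      X.isBasis_affineOpens.exists_subset_of_mem_open hx (f ⁻¹ᵁ V.1).isOpen
    have hψ : ((f ≫ g).appLE ⊤ W le_top).hom.Flat :=
      HasRingHomProperty.appLE @Flat (f ≫ g) inferInstance ⟨⊤, isAffineOpen_top _⟩ ⟨W, hW⟩ le_top
    let ψ : CommRingCat.of R ⟶ Γ(X, W) :=
      (Scheme.ΓSpecIso (CommRingCat.of R)).inv ≫ (f ≫ g).appLE ⊤ W le_top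
    have hψ' : ψ.hom.Flat := (Hiso.cancel_left_isIso _ _).mpr hψ
    have hcomp : ψ = φ ≫ f.appLE V.1 W hWle := by
      simp only [ψ, φ, Category.assoc, Scheme.Hom.appLE_comp_appLE]
    have key : f.appLE V.1 W hWle a = f.appLE V.1 W hWle a' := by
      algebraize [ψ.hom]
      have tf : Module.IsTorsionFree R Γ(X, W) := inferInstance
      apply tf.isSMulRegular hr
      show ψ.hom r * _ = ψ.hom r * _
      rw [hcomp]
      simp only [CommRingCat.hom_comp, RingHom.coe_comp, Function.comp_apply]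
      rw [← map_mul, ← map_mul, h']
    have e1 : ∀ b : Γ(Y, V.1), X.presheaf.germ (f ⁻¹ᵁ V.1) x hx (f.app V.1 b) =
        X.presheaf.germ W x hxW (f.appLE V.1 W hWle b) := by
      intro b
      simp only [Scheme.Hom.appLE, CommRingCat.comp_apply]
      exact (X.presheaf.germ_res_apply (homOfLE hWle) x hxW _).symm
    show X.presheaf.germ (f ⁻¹ᵁ V.1) x hx (f.app V.1 a) =
      X.presheaf.germ (f ⁻¹ᵁ V.1) x hx (f.app V.1 a')
    rw [e1, e1, key]
  infer_instance

end Groth.Agent.Lib.DedekindFlat
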