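import Mathlib
import Groth.Agent.Lib.DedekindFlat_helper9
import Groth.Agent.Lib.SchImage_helper9
import Groth.Agent.Lib.RedFibre2_helper9

open CategoryTheory AlgebraicGeometry Limits TopologicalSpace
universe u

namespace Groth.Agent.Lib.DedekindFlat2

open Groth.Agent.Lib.RedFibre Groth.Agent.Lib.RedFibre2 Groth.Agent.Lib.SchImage

/-- The inclusion of the generic point of an integral affine scheme. -/
theorem generic_props (A : Type u) [CommRing A] [IsDomain A]
    (η : ↥(Spec (CommRingCat.of A))) (hη : η.asIdeal = ⊥) :
    Flat ((Spec (CommRingCat.of A)).fromSpecResidueField η) ∧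
    QuasiCompact ((Spec (CommRingCat.of A)).fromSpecResidueField η) ∧
    IsSchemeTheoreticallyDominant ((Spec (CommRingCat.of A)).fromSpecResidueField η) := by
  have hcl : closure ({η} : Set (Spec (CommRingCat.of A))) = Set.univ := by
    have := PrimeSpectrum.closure_singleton η
    rw [hη] at this
    have h2 : PrimeSpectrum.zeroLocus ((⊥ : Ideal A) : Set A) = Set.univ := by simp
    exact this.trans h2
  have hfield : IsField ((Spec (CommRingCat.of A)).presheaf.stalk η) := by
    apply isField_stalk_of_closure_mem_irreducibleComponents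
    rw [hcl, irreducibleComponents_eq_singleton]
    rfl
  have hiso := isIso_residue_of_isField (Spec (CommRingCat.of A)) η hfield
  have hflat : Flat ((Spec (CommRingCat.of A)).fromSpecResidueField η) := by
    show Flat (Spec.map ((Spec (CommRingCat.of A)).residue η) ≫
      (Spec (CommRingCat.of A)).fromSpecStalk η)
    infer_instance
  have hqc : QuasiCompact ((Spec (CommRingCat.of A)).fromSpecResidueField η) := inferInstance
  refine ⟨hflat, hqc, ?_⟩
  rw [isSchemeTheoreticallyDominant_iff_isDominant, isDominant_iff, denseRange_iff_closure_range,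
    Scheme.range_fromSpecResidueField, hcl]

/-- Scheme-theoretic closure of the generic fibre over a DVR (or any Dedekind domain): flat, and
contains every flat closed subscheme. -/
theorem flat_completion (A : Type u) [CommRing A] [IsDedekindDomain A]
    {X : Scheme.{u}} (f : X ⟶ Spec (CommRingCat.of A))
    (η : ↥(Spec (CommRingCat.of A))) (hη : η.asIdeal = ⊥) :
    Flat ((f.fiberι η).imageι ≫ f) ∧
      ∀ (Z : Scheme.{u}) (i : Z ⟶ X), IsClosedImmersion i → Flat (i ≫ f) →
        (f.fiberι η).ker ≤ i.ker := by
  obtain ⟨hrf, hrq, hrd⟩ := generic_props A η hη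
  set r := (Spec (CommRingCat.of A)).fromSpecResidueField η with hr
  have hqc : QuasiCompact (f.fiberι η) :=
    MorphismProperty.pullback_fst (P := @QuasiCompact) _ _ hrq
  constructor
  · have h1 : Flat (f.fiberToSpecResidueField η) := inferInstance
    have h2 : Flat (f.fiberι η ≫ f) := by
      have : f.fiberι η ≫ f = f.fiberToSpecResidueField η ≫ r := pullback.condition
      rw [this]; infer_instance
    have h3 : Flat ((f.fiberι η).toImage ≫ (f.fiberι η).imageι ≫ f) := by
      rw [Scheme.Hom.toImage_imageι_assoc]; exact h2
    exact Groth.Agent.Lib.DedekindFlat.flat_of_app_injective (f.fiberι η).toImage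
      ((f.fiberι η).imageι ≫ f) (fun V => (f.fiberι η).toImage.app_injective V.1)
  · intro Z i hi hflat
    have hd : IsSchemeTheoreticallyDominant (pullback.fst (i ≫ f) r) := inferInstance
    let m : pullback (i ≫ f) r ⟶ f.fiber η :=
      pullback.lift (pullback.fst (i ≫ f) r ≫ i) (pullback.snd (i ≫ f) r) (by
        rw [Category.assoc, pullback.condition])
    have hm : m ≫ f.fiberι η = pullback.fst (i ≫ f) r ≫ i := pullback.lift_fst _ _ _
    calc (f.fiberι η).ker ≤ (m ≫ f.fiberι η).ker := Scheme.Hom.le_ker_comp m (f.fiberι η)
      _ = (pullback.fst (i ≫ f) r ≫ i).ker := by rw [hm]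
      _ = i.ker := by
        rw [Scheme.Hom.ker_comp, (pullback.fst (i ≫ f) r).ker_eq_bot,
          Scheme.IdealSheafData.map_bot]

end Groth.Agent.Lib.DedekindFlat2
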