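import Mathlib
import Groth.Agent.Lib.DVRFlag_helper9

/-!
# Hopf ideals with flat quotient over a Dedekind domain and Hopf ideals of the generic fibre (helper9)
-/

set_option autoImplicit false
universe u
open TensorProduct

namespace DedekindHopf9

open DVRFlag9

section Loc

variable (R : Type u) [CommRing R] [IsDomain R] (K : Type u) [Field K] [Algebra R K] [IsFractionRing R K]
variable (A : Type u) [CommRing A] [Algebra R A]

omit [IsDomain R] [IsFractionRing R K] in
theorem smul_eq_zero_imp {V : Type*} [AddCommGroup V] [Module K V] [Module R V] [IsScalarTower R K V]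
    (hinj : Function.Injective (algebraMap R K))
    (s : R) (hs : s ≠ 0) (z : V) (h : s • z = 0) : z = 0 := by
  rw [← algebraMap_smul K s z] at h
  rcases smul_eq_zero.mp h with h1 | h1
  · exact absurd (hinj (by rw [h1, map_zero])) hs
  · exact h1

omit [IsDomain R] [IsFractionRing R K] in
theorem one_tmul_injective (hinj : Function.Injective (algebraMap R K))
    (M : Type u) [AddCommGroup M] [Module R M] [Module.Flat R M] :
    Function.Injective (fun m : M => (1 : K) ⊗ₜ[R] m) := by
  have h1 : Function.Injective ((Algebra.linearMap R K).rTensor M) :=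
    Module.Flat.rTensor_preserves_injective_linearMap _ hinj
  have h2 : (fun m : M => (1 : K) ⊗ₜ[R] m) =
      (Algebra.linearMap R K).rTensor M ∘ (TensorProduct.lid R M).symm := by
    funext m
    simp
  rw [h2]
  exact h1.comp (TensorProduct.lid R M).symm.injective

/-- clearing denominators -/
theorem exists_smul_eq (x : K ⊗[R] A) : ∃ (s : R), s ≠ 0 ∧ ∃ a : A, s • x = (1 : K) ⊗ₜ[R] a := by
  induction x using TensorProduct.induction_on with
  | zero => exact ⟨1, one_ne_zero, 0, by simp⟩
  | tmul c a =>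
    obtain ⟨⟨r, s⟩, h⟩ := IsLocalization.surj (nonZeroDivisors R) c
    refine ⟨(s : R), nonZeroDivisors.coe_ne_zero s, r • a, ?_⟩
    have h' : c * algebraMap R K (s : R) = algebraMap R K r := h
    rw [TensorProduct.smul_tmul', Algebra.smul_def, mul_comm, h', TensorProduct.tmul_smul,
      TensorProduct.smul_tmul', Algebra.smul_def, mul_one]
  | add x y hx hy =>
    obtain ⟨s₁, hs₁, a₁, h₁⟩ := hx
    obtain ⟨s₂, hs₂, a₂, h₂⟩ := hy
    refine ⟨s₁ * s₂, mul_ne_zero hs₁ hs₂, s₂ • a₁ + s₁ • a₂, ?_⟩
    rw [smul_add, mul_comm s₁ s₂, mul_smul, h₁, mul_comm s₂ s₁, mul_smul, h₂, TensorProduct.tmul_add,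
      TensorProduct.tmul_smul, TensorProduct.tmul_smul]

/-- the inclusion `a ↦ 1 ⊗ a` -/
noncomputable abbrev inc : A →ₐ[R] K ⊗[R] A := Algebra.TensorProduct.includeRight

theorem inc_apply (a : A) : inc R K A a = (1 : K) ⊗ₜ[R] a := rfl

variable {R K A}

theorem mem_of_smul_mem (J : Ideal (K ⊗[R] A)) (s : R) (hs : s ≠ 0) (x : K ⊗[R] A) (h : s • x ∈ J) :
    x ∈ J := by
  have hs' : algebraMap R K s ≠ 0 := fun h0 =>
    hs (IsFractionRing.injective R K (by rw [h0, map_zero]))
  have e : x = (algebraMap R K s)⁻¹ • (s • x) := by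
    rw [← algebraMap_smul K s x, smul_smul, inv_mul_cancel₀ hs', one_smul]
  rw [e]
  exact Submodule.smul_of_tower_mem J _ h

theorem smul_mem' (J : Ideal (K ⊗[R] A)) (s : R) (x : K ⊗[R] A) (h : x ∈ J) : s • x ∈ J :=
  Submodule.smul_of_tower_mem J s h

/-- elements of the extended ideal, after clearing denominators -/
theorem exists_smul_eq_of_mem_map (J' : Ideal A) (x : K ⊗[R] A) (hx : x ∈ Ideal.map (inc R K A) J') :
    ∃ (s : R), s ≠ 0 ∧ ∃ j ∈ J', s • x = (1 : K) ⊗ₜ[R] j := by
  unfold Ideal.map at hx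
  induction hx using Submodule.span_induction with
  | mem x hx =>
    obtain ⟨j, hj, rfl⟩ := hx
    exact ⟨1, one_ne_zero, j, hj, by rw [one_smul]; rfl⟩
  | zero => exact ⟨1, one_ne_zero, 0, J'.zero_mem, by simp⟩
  | add x y _ _ hx hy =>
    obtain ⟨s₁, hs₁, a₁, ha₁, h₁⟩ := hx
    obtain ⟨s₂, hs₂, a₂, ha₂, h₂⟩ := hy
    refine ⟨s₁ * s₂, mul_ne_zero hs₁ hs₂, s₂ • a₁ + s₁ • a₂,
      J'.add_mem (Submodule.smul_of_tower_mem J' s₂ ha₁) (Submodule.smul_of_tower_mem J' s₁ ha₂), ?_⟩
    rw [smul_add, mul_comm s₁ s₂, mul_smul, h₁, mul_comm s₂ s₁, mul_smul, h₂, TensorProduct.tmul_add,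
      TensorProduct.tmul_smul, TensorProduct.tmul_smul]
  | smul y x _ hx =>
    obtain ⟨s₁, hs₁, a, h₁⟩ := exists_smul_eq R K A y
    obtain ⟨s₂, hs₂, j, hj, h₂⟩ := hx
    refine ⟨s₁ * s₂, mul_ne_zero hs₁ hs₂, a * j, J'.mul_mem_left a hj, ?_⟩
    rw [smul_eq_mul, ← smul_mul_smul_comm, h₁, h₂, Algebra.TensorProduct.tmul_mul_tmul, mul_one]

theorem mem_map_of_smul_eq (J' : Ideal A) (x : K ⊗[R] A) (s : R) (hs : s ≠ 0) (j : A) (hj : j ∈ J')
    (h : s • x = (1 : K) ⊗ₜ[R] j) : x ∈ Ideal.map (inc R K A) J' := by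
  apply mem_of_smul_mem _ s hs
  rw [h]
  exact Ideal.mem_map_of_mem (inc R K A) hj

theorem map_comap (J : Ideal (K ⊗[R] A)) : Ideal.map (inc R K A) (Ideal.comap (inc R K A) J) = J := by
  apply le_antisymm Ideal.map_comap_le
  intro x hx
  obtain ⟨s, hs, a, h⟩ := exists_smul_eq R K A x
  have ha : a ∈ Ideal.comap (inc R K A) J := by
    rw [Ideal.mem_comap, inc_apply, ← h]
    exact smul_mem' J s x hx
  exact mem_map_of_smul_eq _ x s hs a ha h

theorem comap_map [Module.Flat R A] (J' : Ideal A) (htf : ∀ (s : R), s ≠ 0 → ∀ a : A, s • a ∈ J' → a ∈ J') :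
    Ideal.comap (inc R K A) (Ideal.map (inc R K A) J') = J' := by
  apply le_antisymm _ Ideal.le_comap_map
  intro a ha
  rw [Ideal.mem_comap] at ha
  obtain ⟨s, hs, j, hj, h⟩ := exists_smul_eq_of_mem_map J' _ ha
  have hinj := one_tmul_injective R K (IsFractionRing.injective R K) A
  have h2 : (1 : K) ⊗ₜ[R] (s • a) = (1 : K) ⊗ₜ[R] j := by
    rw [TensorProduct.tmul_smul]
    exact h
  have h3 : s • a = j := hinj h2
  exact htf s hs a (h3 ▸ hj)

end Loc

section Hopf

variable {R : Type u} [CommRing R] [IsDomain R] {K : Type u} [Field K] [Algebra R K] [IsFractionRing R K]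
variable {A : Type u} [CommRing A] [HopfAlgebra R A]

theorem counit_inc (a : A) :
    CoalgebraStruct.counit (R := K) (A := K ⊗[R] A) ((1 : K) ⊗ₜ[R] a) =
      algebraMap R K (CoalgebraStruct.counit (R := R) a) := by
  have h : CoalgebraStruct.counit (R := K) (A := K ⊗[R] A) ((1 : K) ⊗ₜ[R] a) =
      CoalgebraStruct.counit (R := R) a • CoalgebraStruct.counit (R := K) (A := K) (1 : K) := rfl
  rw [h, Algebra.smul_def]
  have h1 : CoalgebraStruct.counit (R := K) (A := K) (1 : K) = 1 := rfl
  rw [h1, mul_one]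

theorem antipode_inc (a : A) :
    HopfAlgebraStruct.antipode (R := K) (A := K ⊗[R] A) ((1 : K) ⊗ₜ[R] a) =
      (1 : K) ⊗ₜ[R] HopfAlgebraStruct.antipode (R := R) a := rfl

variable (R K) in
/-- `y ↦ ι ⊗ ι (y)` -/
noncomputable def incc (M N : Type u) [AddCommGroup M] [Module R M] [AddCommGroup N] [Module R N] :
    M ⊗[R] N →ₗ[R] (K ⊗[R] M) ⊗[K] (K ⊗[R] N) :=
  ((TensorProduct.AlgebraTensorModule.tensorTensorTensorComm R K R K K K M N).toLinearMap.restrictScalars R) ∘ₗ
    (TensorProduct.mk R (K ⊗[K] K) (M ⊗[R] N) ((1 : K) ⊗ₜ[K] (1 : K)))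

theorem incc_apply (M N : Type u) [AddCommGroup M] [Module R M] [AddCommGroup N] [Module R N]
    (y : M ⊗[R] N) :
    incc R K M N y = TensorProduct.AlgebraTensorModule.tensorTensorTensorComm R K R K K K M N
      (((1 : K) ⊗ₜ[K] (1 : K)) ⊗ₜ[R] y) := rfl

theorem incc_tmul (M N : Type u) [AddCommGroup M] [Module R M] [AddCommGroup N] [Module R N]
    (m : M) (n : N) :
    incc R K M N (m ⊗ₜ[R] n) = ((1 : K) ⊗ₜ[R] m) ⊗ₜ[K] ((1 : K) ⊗ₜ[R] n) := by
  rw [incc_apply, TensorProduct.AlgebraTensorModule.tensorTensorTensorComm_tmul]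

theorem incc_injective (M N : Type u) [AddCommGroup M] [Module R M] [AddCommGroup N] [Module R N]
    [Module.Flat R M] [Module.Flat R N] : Function.Injective (incc R K M N) := by
  intro t₁ t₂ h
  rw [incc_apply, incc_apply] at h
  have h1 := (TensorProduct.AlgebraTensorModule.tensorTensorTensorComm R K R K K K M N).injective h
  have h2 := congrArg (LinearMap.rTensor (M ⊗[R] N)
    ((TensorProduct.lid K K).toLinearMap.restrictScalars R)) h1
  rw [LinearMap.rTensor_tmul, LinearMap.rTensor_tmul] at h2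
  have h3 : ((TensorProduct.lid K K).toLinearMap.restrictScalars R) ((1 : K) ⊗ₜ[K] (1 : K)) = 1 := by
    simp
  rw [h3] at h2
  exact one_tmul_injective R K (IsFractionRing.injective R K) (M ⊗[R] N) h2

theorem comul_inc (a : A) :
    CoalgebraStruct.comul (R := K) (A := K ⊗[R] A) ((1 : K) ⊗ₜ[R] a) =
      incc R K A A (CoalgebraStruct.comul (R := R) a) := rfl

/-- naturality of `incc` -/
theorem map_baseChange_incc {M N : Type u} [AddCommGroup M] [Module R M] [AddCommGroup N] [Module R N]
    (f : A →ₗ[R] M) (g : A →ₗ[R] N) (y : A ⊗[R] A) :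
    TensorProduct.map (f.baseChange K) (g.baseChange K) (incc R K A A y) =
      incc R K M N (TensorProduct.map f g y) := by
  induction y using TensorProduct.induction_on with
  | zero => simp
  | add a b ha hb => simp only [map_add, ha, hb]
  | tmul a b =>
    rw [incc_tmul, TensorProduct.map_tmul, TensorProduct.map_tmul, incc_tmul,
      LinearMap.baseChange_tmul, LinearMap.baseChange_tmul]

/-- (1) the extension of a Hopf ideal is a Hopf ideal -/
theorem isHopfIdeal_map (J' : Ideal A) (hJ' : J'.IsHopfIdeal R) :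
    (Ideal.map (inc R K A) J').IsHopfIdeal K := by
  have hinj := IsFractionRing.injective R K
  set J := Ideal.map (inc R K A) J' with hJ
  have hco : (J'.restrictScalars R).IsCoideal := hJ'.toIsCoideal
  obtain ⟨hε, hΔ⟩ := (Submodule.isCoideal_iff_comul_mem _).mp hco
  refine { toIsCoideal := ⟨?_, ?_⟩, antipode_mem := ?_ }
  · intro x hx
    obtain ⟨s, hs, j, hj, h⟩ := exists_smul_eq_of_mem_map J' x hx
    have h1 : s • CoalgebraStruct.counit (R := K) (A := K ⊗[R] A) x = 0 := by
      have h2 : s • CoalgebraStruct.counit (R := K) (A := K ⊗[R] A) x =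
          CoalgebraStruct.counit (R := K) (A := K ⊗[R] A) (s • x) := by
        rw [← algebraMap_smul K s x, map_smul, algebraMap_smul]
      rw [h2, h, counit_inc, hε j hj, map_zero]
    exact smul_eq_zero_imp R K hinj s hs _ h1
  · intro x hx
    obtain ⟨s, hs, j, hj, h⟩ := exists_smul_eq_of_mem_map J' x hx
    set mk := (J.restrictScalars K).mkQ with hmk
    have e1 : ∀ z₁ : A ⊗[R] ↥(J'.restrictScalars R), TensorProduct.map mk mk (incc R K A A
        (LinearMap.lTensor A (J'.restrictScalars R).subtype z₁)) = 0 := by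
      intro z₁
      induction z₁ using TensorProduct.induction_on with
      | zero => simp
      | add a b ha hb => rw [map_add, map_add, map_add, ha, hb, add_zero]
      | tmul a b =>
        rw [LinearMap.lTensor_tmul, incc_tmul, TensorProduct.map_tmul]
        have : mk ((1 : K) ⊗ₜ[R] ((J'.restrictScalars R).subtype b)) = 0 := by
          rw [hmk, Submodule.mkQ_apply, Submodule.Quotient.mk_eq_zero]
          exact Ideal.mem_map_of_mem (inc R K A) b.2
        rw [this, TensorProduct.tmul_zero]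
    have e2 : ∀ z₂ : ↥(J'.restrictScalars R) ⊗[R] A, TensorProduct.map mk mk (incc R K A A
        (LinearMap.rTensor A (J'.restrictScalars R).subtype z₂)) = 0 := by
      intro z₂
      induction z₂ using TensorProduct.induction_on with
      | zero => simp
      | add a b ha hb => rw [map_add, map_add, map_add, ha, hb, add_zero]
      | tmul a b =>
        rw [LinearMap.rTensor_tmul, incc_tmul, TensorProduct.map_tmul]
        have : mk ((1 : K) ⊗ₜ[R] ((J'.restrictScalars R).subtype a)) = 0 := by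
          rw [hmk, Submodule.mkQ_apply, Submodule.Quotient.mk_eq_zero]
          exact Ideal.mem_map_of_mem (inc R K A) a.2
        rw [this, TensorProduct.zero_tmul]
    have hL : ∀ y ∈ LinearMap.range (LinearMap.lTensor A (J'.restrictScalars R).subtype) ⊔
        LinearMap.range (LinearMap.rTensor A (J'.restrictScalars R).subtype),
        TensorProduct.map mk mk (incc R K A A y) = 0 := by
      intro y hy
      obtain ⟨y₁, hy₁, y₂, hy₂, rfl⟩ := Submodule.mem_sup.mp hy
      obtain ⟨z₁, rfl⟩ := hy₁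
      obtain ⟨z₂, rfl⟩ := hy₂
      rw [map_add, map_add, e1, e2, add_zero]
    have h1 : s • TensorProduct.map mk mk (CoalgebraStruct.comul (R := K) (A := K ⊗[R] A) x) = 0 := by
      have h2 : s • TensorProduct.map mk mk (CoalgebraStruct.comul (R := K) (A := K ⊗[R] A) x) =
          TensorProduct.map mk mk (CoalgebraStruct.comul (R := K) (A := K ⊗[R] A) (s • x)) := by
        rw [← algebraMap_smul K s x, map_smul, map_smul, algebraMap_smul]
      rw [h2, h, comul_inc]
      exact hL _ (hΔ j hj)
    exact smul_eq_zero_imp R K hinj s hs _ h1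
  · intro x hx
    obtain ⟨s, hs, j, hj, h⟩ := exists_smul_eq_of_mem_map J' x hx
    have h2 : s • HopfAlgebraStruct.antipode (R := K) (A := K ⊗[R] A) x =
        HopfAlgebraStruct.antipode (R := K) (A := K ⊗[R] A) (s • x) := by
      rw [← algebraMap_smul K s x, map_smul, algebraMap_smul]
    rw [h, antipode_inc] at h2
    exact mem_map_of_smul_eq J' _ s hs _ (hJ'.antipode_mem hj) h2

/-- (3) the contraction of a Hopf ideal is a Hopf ideal -/
theorem isHopfIdeal_comap [Module.Flat R A] (J : Ideal (K ⊗[R] A)) (hJ : J.IsHopfIdeal K)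
    (hflat : Module.Flat R (A ⧸ Ideal.comap (inc R K A) J)) :
    (Ideal.comap (inc R K A) J).IsHopfIdeal R := by
  have hinj := IsFractionRing.injective R K
  set J' := Ideal.comap (inc R K A) J with hJ'
  have hco : (J.restrictScalars K).IsCoideal := hJ.toIsCoideal
  refine { toIsCoideal := ⟨?_, ?_⟩, antipode_mem := ?_ }
  · intro a ha
    have h1 : CoalgebraStruct.counit (R := K) (A := K ⊗[R] A) ((1 : K) ⊗ₜ[R] a) = 0 :=
      hco.counit_eq_zero ha
    rw [counit_inc] at h1
    exact hinj (by rw [h1, map_zero])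
  · intro a ha
    set π' := (J'.restrictScalars R).mkQ with hπ'
    haveI : Module.Flat R (A ⧸ J'.restrictScalars R) := hflat
    have hker : (J.restrictScalars K) ≤ LinearMap.ker (π'.baseChange K) := by
      intro x hx
      obtain ⟨s, hs, b, h⟩ := exists_smul_eq R K A x
      have hb : b ∈ J' := by
        rw [hJ', Ideal.mem_comap, inc_apply, ← h]
        exact smul_mem' J s x hx
      rw [LinearMap.mem_ker]
      have h1 : s • (π'.baseChange K) x = 0 := by
        have h2 : s • (π'.baseChange K) x = (π'.baseChange K) (s • x) := by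
          rw [← algebraMap_smul K s x, map_smul, algebraMap_smul]
        rw [h2, h, LinearMap.baseChange_tmul]
        have : π' b = 0 := by
          rw [hπ', Submodule.mkQ_apply, Submodule.Quotient.mk_eq_zero]
          exact hb
        rw [this, TensorProduct.tmul_zero]
      exact smul_eq_zero_imp R K hinj s hs _ h1
    set ψb := (J.restrictScalars K).liftQ (π'.baseChange K) hker with hψb
    have hfac : π'.baseChange K = ψb ∘ₗ (J.restrictScalars K).mkQ := by
      rw [hψb, Submodule.liftQ_mkQ]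
    have h0 : TensorProduct.map (J.restrictScalars K).mkQ (J.restrictScalars K).mkQ
        (CoalgebraStruct.comul (R := K) (A := K ⊗[R] A) ((1 : K) ⊗ₜ[R] a)) = 0 :=
      hco.map_mkQ_comul_eq_zero ha
    have h1 : TensorProduct.map (π'.baseChange K) (π'.baseChange K)
        (CoalgebraStruct.comul (R := K) (A := K ⊗[R] A) ((1 : K) ⊗ₜ[R] a)) = 0 := by
      rw [hfac, TensorProduct.map_comp, LinearMap.comp_apply, h0, map_zero]
    rw [comul_inc, map_baseChange_incc] at h1
    exact incc_injective (K := K) _ _ (h1.trans (map_zero _).symm)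
  · intro a ha
    show (1 : K) ⊗ₜ[R] HopfAlgebraStruct.antipode (R := R) a ∈ J
    rw [← antipode_inc]
    exact hJ.antipode_mem ha

end Hopf

section Main

variable (R : Type u) [CommRing R] [IsDedekindDomain R]
variable (K : Type u) [Field K] [Algebra R K] [IsFractionRing R K]
variable (A : Type u) [CommRing A] [HopfAlgebra R A] [Module.Flat R A]

theorem bijOn :
    Set.BijOn (fun J' : Ideal A => Ideal.map (Algebra.TensorProduct.includeRight : A →ₐ[R] K ⊗[R] A) J')
      {J' : Ideal A | J'.IsHopfIdeal R ∧ Module.Flat R (A ⧸ J')}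
      {J : Ideal (K ⊗[R] A) | J.IsHopfIdeal K} := by
  have htf_of_flat : ∀ J' : Ideal A, Module.Flat R (A ⧸ J') →
      ∀ (s : R), s ≠ 0 → ∀ a : A, s • a ∈ J' → a ∈ J' := by
    intro J' hfl s hs a ha
    haveI := hfl
    have h1 : s • (Ideal.Quotient.mk J' a) = 0 := by
      rw [← Ideal.Quotient.mk_eq_mk, ← Submodule.Quotient.mk_smul, Submodule.Quotient.mk_eq_zero]
      exact ha
    have h2 := (smul_eq_zero.mp h1).resolve_left hs
    exact Ideal.Quotient.eq_zero_iff_mem.mp h2
  refine ⟨?_, ?_, ?_⟩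
  · rintro J' ⟨hJ', _⟩
    exact isHopfIdeal_map J' hJ'
  · rintro J₁ ⟨_, hf₁⟩ J₂ ⟨_, hf₂⟩ h
    have h' : Ideal.map (inc R K A) J₁ = Ideal.map (inc R K A) J₂ := h
    rw [← comap_map (K := K) J₁ (htf_of_flat J₁ hf₁), ← comap_map (K := K) J₂ (htf_of_flat J₂ hf₂), h']
  · intro J hJ
    have hJ' : J.IsHopfIdeal K := hJ
    have htf : ∀ (s : R) (a : A ⧸ Ideal.comap (inc R K A) J), s • a = 0 → s = 0 ∨ a = 0 := by
      intro s a h
      by_cases hs : s = 0
      · left; exact hs
      · right
        obtain ⟨a, rfl⟩ := Ideal.Quotient.mk_surjective a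
        rw [← Ideal.Quotient.mk_eq_mk, ← Submodule.Quotient.mk_smul, Submodule.Quotient.mk_eq_zero] at h
        rw [Ideal.Quotient.eq_zero_iff_mem, Ideal.mem_comap, inc_apply]
        apply mem_of_smul_mem J s hs
        rw [← TensorProduct.tmul_smul]
        exact h
    haveI : Module.IsTorsionFree R (A ⧸ Ideal.comap (inc R K A) J) :=
      Module.isTorsionFree_iff_smul_eq_zero.mpr htf
    have hflat : Module.Flat R (A ⧸ Ideal.comap (inc R K A) J) := inferInstance
    exact ⟨Ideal.comap (inc R K A) J, ⟨isHopfIdeal_comap J hJ' hflat, hflat⟩, map_comap J⟩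

end Main

end DedekindHopf9
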