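import Mathlib

set_option autoImplicit false

namespace Groth.Agent.Lib.DedekindSum

open Finset

section Field
variable {K : Type*} [Field K]

theorem sum_range_eq_add_Ioo (N : ℕ) (hN : 0 < N) (g : ℕ → K) :
    ∑ i ∈ range N, g i = g 0 + ∑ i ∈ Ioo 0 N, g i := by
  have h : range N = insert 0 (Ioo 0 N) := by
    ext i; simp only [mem_range, mem_insert, mem_Ioo]; omega
  rw [h, sum_insert (by simp)]

theorem geom_zero (N : ℕ) (x : K) (hx1 : x ≠ 1) (hxN : x ^ N = 1) :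
    ∑ i ∈ range N, x ^ i = 0 := by
  have h := mul_geom_sum x N
  rw [hxN, sub_self] at h
  exact (mul_eq_zero.mp h).resolve_left (sub_ne_zero.mpr hx1)

theorem den_ne_zero (x : K) (hx0 : x ≠ 0) (hx1 : x ≠ 1) : 2 - x - x⁻¹ ≠ 0 := by
  intro h
  have hxx : x * x⁻¹ = 1 := mul_inv_cancel₀ hx0
  have h2 : (x - 1) ^ 2 = 0 := by linear_combination (-x) * h + (-1 : K) * hxx
  exact hx1 (sub_eq_zero.mp ((pow_eq_zero_iff (two_ne_zero)).mp h2))

theorem term_second_diff (x : K) (hx0 : x ≠ 0) (hd : 2 - x - x⁻¹ ≠ 0) (j : ℕ) :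
    x ^ (j + 2) / (2 - x - x⁻¹) - 2 * (x ^ (j + 1) / (2 - x - x⁻¹)) + x ^ j / (2 - x - x⁻¹)
      = - x ^ (j + 1) := by
  have hxx : x * x⁻¹ = 1 := mul_inv_cancel₀ hx0
  rw [← mul_div_assoc, div_sub_div_same, ← add_div, div_eq_iff hd]
  linear_combination (-(x ^ j)) * hxx

theorem affine_zero (N : ℕ) (hN : (N : K) ≠ 0) (H : ℕ → K)
    (h2 : ∀ j, j + 1 < N → H (j + 2) - 2 * H (j + 1) + H j = 0)
    (hper : H N = H 0) (hsum : ∑ j ∈ range N, H j = 0) : ∀ j, j < N → H j = 0 := by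
  have hN0 : N ≠ 0 := by rintro rfl; simp at hN
  obtain ⟨c, hc⟩ : ∃ c, c = H 1 - H 0 := ⟨_, rfl⟩
  have key : ∀ j, j + 1 ≤ N → H j = H 0 + j * c ∧ H (j + 1) = H 0 + ((j : K) + 1) * c := by
    intro j
    induction j with
    | zero => intro _; exact ⟨by simp, by simp [hc]⟩
    | succ j ih =>
      intro hj
      obtain ⟨h0, h1⟩ := ih (by omega)
      refine ⟨by rw [h1]; push_cast; ring, ?_⟩
      have h := h2 j (by omega)
      rw [show j + 2 = j + 1 + 1 from rfl] at h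
      push_cast
      linear_combination h + 2 * h1 - h0
  obtain ⟨M, rfl⟩ : ∃ M, N = M + 1 := Nat.exists_eq_succ_of_ne_zero hN0
  have hc0 : c = 0 := by
    have h := (key M le_rfl).2
    rw [hper] at h
    have h' : ((M + 1 : ℕ) : K) * c = 0 := by push_cast; linear_combination -h
    exact (mul_eq_zero.mp h').resolve_left hN
  have hconst : ∀ j, j < M + 1 → H j = H 0 := by
    intro j hj
    have h := (key j (by omega)).1
    rw [hc0, mul_zero, add_zero] at h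
    exact h
  have h0 : H 0 = 0 := by
    rw [sum_congr rfl (fun j hj => hconst j (mem_range.mp hj)), sum_const, card_range,
      nsmul_eq_mul] at hsum
    exact (mul_eq_zero.mp hsum).resolve_left hN
  intro j hj
  rw [hconst j hj, h0]

variable (K) in
/-- twelve times the quadratic `t(t-N)/2 + (N^2-1)/12`. -/
noncomputable def G12 (N t : ℕ) : K := 6 * (t : K) * ((t : K) - N) + ((N : K) ^ 2 - 1)

theorem sum_G12 (N n : ℕ) :
    ∑ t ∈ range n, G12 K N t =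
      ((n : K) - 1) * n * (2 * n - 1) - 3 * N * n * ((n : K) - 1) + n * ((N : K) ^ 2 - 1) := by
  induction n with
  | zero => simp
  | succ n ih => rw [sum_range_succ, ih]; unfold G12; push_cast; ring

/-- the sum `∑_{0<i<N} ζ^{ij}/(2 - ζ^i - ζ^{-i})`. -/
noncomputable def F (N : ℕ) (ζ : K) (j : ℕ) : K :=
  ∑ i ∈ Ioo 0 N, (ζ ^ i) ^ j / (2 - ζ ^ i - (ζ ^ i)⁻¹)

theorem pow_pow_eq_one (N : ℕ) (ζ : K) (hζ : IsPrimitiveRoot ζ N) (i : ℕ) : (ζ ^ i) ^ N = 1 := by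
  rw [← pow_mul, mul_comm, pow_mul, hζ.pow_eq_one, one_pow]

theorem F_second_diff (N : ℕ) (ζ : K) (hζ : IsPrimitiveRoot ζ N) (j : ℕ) (hj : j + 1 < N) :
    F N ζ (j + 2) - 2 * F N ζ (j + 1) + F N ζ j = 1 := by
  have hN0 : N ≠ 0 := by omega
  unfold F
  rw [mul_sum, ← sum_sub_distrib, ← sum_add_distrib]
  have hterm : ∀ i ∈ Ioo 0 N, (ζ ^ i) ^ (j + 2) / (2 - ζ ^ i - (ζ ^ i)⁻¹)
      - 2 * ((ζ ^ i) ^ (j + 1) / (2 - ζ ^ i - (ζ ^ i)⁻¹))
      + (ζ ^ i) ^ j / (2 - ζ ^ i - (ζ ^ i)⁻¹) = - (ζ ^ (j + 1)) ^ i := by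
    intro i hi
    rw [mem_Ioo] at hi
    have hx0 : ζ ^ i ≠ 0 := pow_ne_zero _ (hζ.ne_zero hN0)
    have hx1 : ζ ^ i ≠ 1 := hζ.pow_ne_one_of_pos_of_lt (by omega) hi.2
    rw [term_second_diff _ hx0 (den_ne_zero _ hx0 hx1), ← pow_mul, ← pow_mul, mul_comm]
  rw [sum_congr rfl hterm, sum_neg_distrib]
  have hg := geom_zero N (ζ ^ (j + 1)) (hζ.pow_ne_one_of_pos_of_lt (by omega) hj)
    (pow_pow_eq_one N ζ hζ _)
  rw [sum_range_eq_add_Ioo N (by omega)] at hg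
  simp only [pow_zero] at hg
  linear_combination -hg

theorem F_per (N : ℕ) (ζ : K) (hζ : IsPrimitiveRoot ζ N) : F N ζ N = F N ζ 0 := by
  unfold F
  refine sum_congr rfl fun i _ => ?_
  rw [pow_pow_eq_one N ζ hζ, pow_zero]

theorem F_sum (N : ℕ) (ζ : K) (hζ : IsPrimitiveRoot ζ N) : ∑ j ∈ range N, F N ζ j = 0 := by
  unfold F
  rw [sum_comm]
  refine sum_eq_zero fun i hi => ?_
  rw [mem_Ioo] at hi
  rw [← sum_div, geom_zero N (ζ ^ i) (hζ.pow_ne_one_of_pos_of_lt (by omega) hi.2)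
    (pow_pow_eq_one N ζ hζ _), zero_div]

theorem main (h6 : (6 : K) ≠ 0) (N j : ℕ) (hj : j < N) (ζ : K) (hζ : IsPrimitiveRoot ζ N) :
    ∑ i ∈ Ioo 0 N, ζ ^ (i * j) / (2 - ζ ^ i - (ζ ^ i)⁻¹) =
      (j : K) * ((j : K) - (N : K)) / 2 + ((N : K) ^ 2 - 1) / 12 := by
  have h2 : (2 : K) ≠ 0 := fun h => h6 (by rw [show (6 : K) = 2 * 3 by norm_num, h, zero_mul])
  have h12 : (12 : K) ≠ 0 := by
    rw [show (12 : K) = 2 * 6 by norm_num]; exact mul_ne_zero h2 h6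
  have hN0 : N ≠ 0 := by omega
  haveI : NeZero N := ⟨hN0⟩
  have hNK : (N : K) ≠ 0 := (hζ.neZero').ne
  have hH := affine_zero N hNK (fun t => 12 * F N ζ t - G12 K N t) ?_ ?_ ?_ j hj
  · have hF : ∑ i ∈ Ioo 0 N, ζ ^ (i * j) / (2 - ζ ^ i - (ζ ^ i)⁻¹) = F N ζ j := by
      unfold F; exact sum_congr rfl fun i _ => by rw [pow_mul]
    rw [hF]
    beta_reduce at hH
    have hFG : F N ζ j = G12 K N j / 12 := by
      rw [eq_div_iff h12]; linear_combination hH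
    rw [hFG]; unfold G12
    rw [add_div]; congr 1
    rw [div_eq_div_iff h12 h2]; ring
  · intro t ht
    have h := F_second_diff N ζ hζ t ht
    simp only [G12]
    push_cast
    linear_combination 12 * h
  · simp only [G12]
    rw [F_per N ζ hζ]
    push_cast
    ring
  · rw [sum_sub_distrib, ← mul_sum, F_sum N ζ hζ, sum_G12]
    ring

end Field

section Complex

theorem den_complex (z : ℂ) (hz : ‖z‖ = 1) : 2 - z - z⁻¹ = ((2 - 2 * z.re : ℝ) : ℂ) := by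
  rw [Complex.inv_eq_conj hz]
  have h := Complex.add_conj z
  push_cast at h ⊢
  linear_combination -h

theorem eps_real_nonneg (N : ℕ) (hN : 0 < N) (ζ : ℂ) (hζ : IsPrimitiveRoot ζ N) (m : ℕ) :
    ∃ r : ℝ, 0 ≤ r ∧ ∑ i ∈ range N,
      ((i : ℂ) * ((i : ℂ) - (N : ℂ)) / 2 + ((N : ℂ) ^ 2 - 1) / 12) / (N : ℂ) * ζ ^ (m * i)
        = (r : ℂ) := by
  have hN0 : N ≠ 0 := by omega
  have hNC : (N : ℂ) ≠ 0 := by exact_mod_cast hN0
  have h6 : (6 : ℂ) ≠ 0 := by norm_num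
  have hnorm : ∀ k : ℕ, ‖ζ ^ k‖ = 1 := fun k =>
    Complex.norm_eq_one_of_pow_eq_one (n := N) (pow_pow_eq_one N ζ hζ k) hN0
  have h1 : ∑ i ∈ range N,
      ((i : ℂ) * ((i : ℂ) - (N : ℂ)) / 2 + ((N : ℂ) ^ 2 - 1) / 12) / (N : ℂ) * ζ ^ (m * i)
      = ∑ k ∈ Ioo 0 N, ∑ i ∈ range N,
          ζ ^ (k * i) / (2 - ζ ^ k - (ζ ^ k)⁻¹) / (N : ℂ) * ζ ^ (m * i) := by
    rw [sum_comm]
    refine sum_congr rfl fun i hi => ?_
    rw [← main h6 N i (mem_range.mp hi) ζ hζ, sum_div, sum_mul]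
  rw [h1]
  refine ⟨∑ k ∈ Ioo 0 N, (2 - 2 * (ζ ^ k).re)⁻¹ * (if N ∣ k + m then (1 : ℝ) else 0), ?_, ?_⟩
  · refine sum_nonneg fun k _ => mul_nonneg (inv_nonneg.mpr ?_) (by split_ifs <;> norm_num)
    have h := Complex.re_le_norm (ζ ^ k)
    rw [hnorm k] at h
    linarith
  · rw [Complex.ofReal_sum]
    refine sum_congr rfl fun k _ => ?_
    have hterm : ∀ i ∈ range N,
        ζ ^ (k * i) / (2 - ζ ^ k - (ζ ^ k)⁻¹) / (N : ℂ) * ζ ^ (m * i)
          = (ζ ^ (k + m)) ^ i * ((2 - ζ ^ k - (ζ ^ k)⁻¹)⁻¹ * (N : ℂ)⁻¹) := by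
      intro i _
      rw [← pow_mul, add_mul, pow_add]; ring
    rw [sum_congr rfl hterm, ← sum_mul, den_complex _ (hnorm k)]
    by_cases hdvd : N ∣ k + m
    · rw [if_pos hdvd, (hζ.pow_eq_one_iff_dvd _).mpr hdvd]
      have hs : ∑ i ∈ range N, ((1 : ℂ)) ^ i = N := by simp
      rw [hs, mul_one, mul_left_comm, mul_inv_cancel₀ hNC, mul_one, Complex.ofReal_inv]
    · rw [if_neg hdvd, geom_zero N (ζ ^ (k + m))
        (fun h => hdvd ((hζ.pow_eq_one_iff_dvd _).mp h)) (pow_pow_eq_one N ζ hζ _)]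
      simp

theorem eps_main (N : ℕ) (hN : 0 < N) (ζ : ℂ) (hζ : IsPrimitiveRoot ζ N) (m : ℕ) :
    (∑ i ∈ Finset.range N,
        ((i : ℂ) * ((i : ℂ) - (N : ℂ)) / 2 + ((N : ℂ) ^ 2 - 1) / 12) / (N : ℂ) * ζ ^ (m * i)).im = 0 ∧
    0 ≤ (∑ i ∈ Finset.range N,
        ((i : ℂ) * ((i : ℂ) - (N : ℂ)) / 2 + ((N : ℂ) ^ 2 - 1) / 12) / (N : ℂ) * ζ ^ (m * i)).re := by
  obtain ⟨r, hr, h⟩ := eps_real_nonneg N hN ζ hζ m
  rw [h]
  exact ⟨Complex.ofReal_im r, by rw [Complex.ofReal_re]; exact hr⟩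

end Complex

end Groth.Agent.Lib.DedekindSum
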