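import Mathlib

open TensorProduct

namespace Groth.Agent.Lib.DefAut

universe u

section basic
variable {A : Type u} [CommRing A] [IsLocalRing A]
  (t : A) (ht : t ∈ IsLocalRing.maximalIdeal A) (ht0 : t ≠ 0)
  (htm : ∀ a ∈ IsLocalRing.maximalIdeal A, a * t = 0)
  {B : Type u} [CommRing B] [Algebra A B]

include htm in
lemma t_mul_mem (x : B) (hx : x ∈ (IsLocalRing.maximalIdeal A).map (algebraMap A B)) :
    algebraMap A B t * x = 0 := by
  refine Submodule.span_induction (p := fun x _ => algebraMap A B t * x = 0) ?_ ?_ ?_ ?_ hx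
  · rintro _ ⟨a, ha, rfl⟩
    rw [← map_mul, mul_comm, htm a ha, map_zero]
  · rw [mul_zero]
  · intro x y _ _ hx hy; rw [mul_add, hx, hy, add_zero]
  · intro c x _ hx; rw [smul_eq_mul, mul_left_comm, hx, mul_zero]

include ht0 in
lemma ann_t (a : A) (h : t * a = 0) : a ∈ IsLocalRing.maximalIdeal A := by
  by_contra hna
  have hu : IsUnit a := by
    by_contra hnu
    exact hna ((IsLocalRing.mem_maximalIdeal a).mpr hnu)
  apply ht0
  obtain ⟨u, rfl⟩ := hu
  exact (Units.mul_left_eq_zero u).mp h

include ht0 htm in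
lemma mem_of_t_mul [Module.Flat A B] (x : B) (hx : algebraMap A B t * x = 0) :
    x ∈ (IsLocalRing.maximalIdeal A).map (algebraMap A B) := by
  have hex : Function.Exact ((IsLocalRing.maximalIdeal A).subtype : _ →ₗ[A] A)
      (LinearMap.mul A A t) := by
    intro a
    constructor
    · intro h
      exact ⟨⟨a, ann_t t ht0 a h⟩, rfl⟩
    · rintro ⟨m, rfl⟩
      show t * (m : A) = 0
      rw [mul_comm]; exact htm _ m.2
  have hexT := Module.Flat.lTensor_exact B hex
  have h1 : (LinearMap.lTensor B (LinearMap.mul A A t)) (x ⊗ₜ[A] (1 : A)) = 0 := by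
    rw [LinearMap.lTensor_tmul, LinearMap.mul_apply', mul_one]
    have h0 : x ⊗ₜ[A] t = (t • x) ⊗ₜ[A] (1 : A) := by
      rw [TensorProduct.smul_tmul, smul_eq_mul, mul_one]
    rw [h0, Algebra.smul_def, hx, TensorProduct.zero_tmul]
  obtain ⟨w, hw⟩ := (hexT _).mp h1
  have h2 : ∀ w : B ⊗[A] (IsLocalRing.maximalIdeal A),
      TensorProduct.rid A B ((LinearMap.lTensor B (Submodule.subtype _)) w) ∈
        (IsLocalRing.maximalIdeal A).map (algebraMap A B) := by
    intro w
    induction w using TensorProduct.induction_on with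
    | zero => simp
    | add x y hx hy => rw [map_add, map_add]; exact Ideal.add_mem _ hx hy
    | tmul b a =>
      rw [LinearMap.lTensor_tmul, TensorProduct.rid_tmul, Submodule.subtype_apply,
        Algebra.smul_def]
      exact Ideal.mul_mem_right _ _ (Ideal.mem_map_of_mem _ a.2)
  have h3 := h2 w
  rw [hw, TensorProduct.rid_tmul, one_smul] at h3
  exact h3

/-- multiplication by `t`, from `B₀` to `B` -/
noncomputable def T : (B ⧸ (IsLocalRing.maximalIdeal A).map (algebraMap A B)) →ₗ[B] B :=
  Submodule.liftQ _ (LinearMap.mul B B (algebraMap A B t)) (fun x hx => by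
    rw [LinearMap.mem_ker, LinearMap.mul_apply']
    exact t_mul_mem t htm x hx)

lemma T_mk (x : B) :
    T t htm (Ideal.Quotient.mk ((IsLocalRing.maximalIdeal A).map (algebraMap A B)) x) =
      algebraMap A B t * x := rfl

include ht0 in
lemma T_injective [Module.Flat A B] : Function.Injective (T (B := B) t htm) := by
  rw [injective_iff_map_eq_zero]
  intro x h
  obtain ⟨x, rfl⟩ := Ideal.Quotient.mk_surjective x
  rw [T_mk] at h
  exact Ideal.Quotient.eq_zero_iff_mem.mpr (mem_of_t_mul t ht0 htm x h)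

include ht in
lemma T_mul_T (u v : B ⧸ (IsLocalRing.maximalIdeal A).map (algebraMap A B)) :
    T t htm u * T t htm v = 0 := by
  obtain ⟨u, rfl⟩ := Ideal.Quotient.mk_surjective u
  obtain ⟨v, rfl⟩ := Ideal.Quotient.mk_surjective v
  rw [T_mk, T_mk]
  have : algebraMap A B t * u * (algebraMap A B t * v) = algebraMap A B (t * t) * (u * v) := by
    rw [map_mul]; ring
  rw [this, htm t ht, map_zero, zero_mul]

lemma mul_T (y x : B) (h : y - x ∈ (IsLocalRing.maximalIdeal A).map (algebraMap A B))
    (v : B ⧸ (IsLocalRing.maximalIdeal A).map (algebraMap A B)) :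
    y * T t htm v = T t htm (Ideal.Quotient.mk _ x * v) := by
  obtain ⟨v, rfl⟩ := Ideal.Quotient.mk_surjective v
  rw [← map_mul, T_mk, T_mk]
  have h1 := t_mul_mem t htm _ h
  have : y * (algebraMap A B t * v) = algebraMap A B t * (y - x) * v + algebraMap A B t * (x * v) := by
    ring
  rw [this, h1, zero_mul, zero_add]

end basic

section part1
variable {A : Type u} [CommRing A] [IsLocalRing A]
  (t : A) (ht : t ∈ IsLocalRing.maximalIdeal A) (ht0 : t ≠ 0)
  (htm : ∀ a ∈ IsLocalRing.maximalIdeal A, a * t = 0)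
  {B : Type u} [CommRing B] [Algebra A B] [Module.Flat A B]
  {k : Type u} [Field k] [Algebra k A] [Algebra k B] [IsScalarTower k A B]
  (τ η : B ≃ₐ[A] B)
  (hητ : ∀ b, η b - τ b ∈ Ideal.span {algebraMap A B t})
  (hτ0 : ∀ b : B, τ b - b ∈ (IsLocalRing.maximalIdeal A).map (algebraMap A B))

omit [IsLocalRing A] [Module.Flat A B] in
lemma algHom_mem (I : Ideal A) (f : B ≃ₐ[A] B) (x : B) (hx : x ∈ I.map (algebraMap A B)) :
    f x ∈ I.map (algebraMap A B) := by
  have h1 : f x ∈ Ideal.map (f : B →ₐ[A] B).toRingHom (I.map (algebraMap A B)) :=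
    Ideal.mem_map_of_mem _ hx
  rw [Ideal.map_map] at h1
  have h2 : (f : B →ₐ[A] B).toRingHom.comp (algebraMap A B) = algebraMap A B :=
    (f : B →ₐ[A] B).comp_algebraMap
  rw [h2] at h1
  exact h1

include htm hητ in
lemma E_mem (x : B) (hx : x ∈ (IsLocalRing.maximalIdeal A).map (algebraMap A B)) :
    η x - τ x = 0 := by
  refine Submodule.span_induction (p := fun x _ => η x - τ x = 0) ?_ ?_ ?_ ?_ hx
  · rintro _ ⟨a, ha, rfl⟩
    rw [AlgEquiv.commutes, AlgEquiv.commutes, sub_self]
  · rw [map_zero, map_zero, sub_self]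
  · intro x y _ _ hx hy
    rw [map_add, map_add, add_sub_add_comm, hx, hy, add_zero]
  · intro c x hxm hx
    rw [smul_eq_mul, map_mul, map_mul]
    obtain ⟨c', hc'⟩ := Ideal.mem_span_singleton'.mp (hητ c)
    have h1 : η x = τ x := sub_eq_zero.mp hx
    have h2 : τ x ∈ (IsLocalRing.maximalIdeal A).map (algebraMap A B) := algHom_mem _ τ x hxm
    have h3 : η c * η x - τ c * τ x = (η c - τ c) * τ x := by rw [h1]; ring
    rw [h3, ← hc', mul_assoc, t_mul_mem t htm _ h2, mul_zero]

/-- the function `d₀` -/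
noncomputable def d₀ (x : B ⧸ (IsLocalRing.maximalIdeal A).map (algebraMap A B)) :
    B ⧸ (IsLocalRing.maximalIdeal A).map (algebraMap A B) :=
  Ideal.Quotient.mk _ (Ideal.mem_span_singleton'.mp
    (hητ (Function.surjInv Ideal.Quotient.mk_surjective x))).choose

include htm in
lemma T_d₀ (b : B) : T t htm (d₀ t τ η hητ (Ideal.Quotient.mk _ b)) = η b - τ b := by
  have h1 := (Ideal.mem_span_singleton'.mp (hητ (Function.surjInv Ideal.Quotient.mk_surjective
    (Ideal.Quotient.mk ((IsLocalRing.maximalIdeal A).map (algebraMap A B)) b)))).choose_spec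
  have h2 : Function.surjInv Ideal.Quotient.mk_surjective
      (Ideal.Quotient.mk ((IsLocalRing.maximalIdeal A).map (algebraMap A B)) b) - b ∈
      (IsLocalRing.maximalIdeal A).map (algebraMap A B) := by
    rw [← Ideal.Quotient.eq]
    exact Function.surjInv_eq _ _
  have h3 := E_mem t htm τ η hητ _ h2
  rw [map_sub, map_sub, sub_sub_sub_comm, sub_eq_zero] at h3
  unfold d₀
  rw [T_mk, mul_comm, h1, h3]

include ht ht0 htm hτ0 hητ in
/-- Part 1: existence and uniqueness of the derivation. -/
theorem part1 :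
    ∃! d : Derivation k (B ⧸ (IsLocalRing.maximalIdeal A).map (algebraMap A B))
        (B ⧸ (IsLocalRing.maximalIdeal A).map (algebraMap A B)),
      ∀ b b' : B, Ideal.Quotient.mk ((IsLocalRing.maximalIdeal A).map (algebraMap A B)) b' =
          d (Ideal.Quotient.mk ((IsLocalRing.maximalIdeal A).map (algebraMap A B)) b) →
        η b = τ b + algebraMap A B t * b' := by
  have hinj := T_injective (B := B) t ht0 htm
  have hadd : ∀ x y, d₀ t τ η hητ (x + y) = d₀ t τ η hητ x + d₀ t τ η hητ y := by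
    intro x y
    obtain ⟨x, rfl⟩ := Ideal.Quotient.mk_surjective x
    obtain ⟨y, rfl⟩ := Ideal.Quotient.mk_surjective y
    apply hinj
    have h1 := T_d₀ t htm τ η hητ (x + y)
    have h2 := T_d₀ t htm τ η hητ x
    have h3 := T_d₀ t htm τ η hητ y
    rw [map_add (T t htm), h2, h3, ← map_add (Ideal.Quotient.mk _), h1, map_add, map_add]
    ring
  have hleib : ∀ x y, d₀ t τ η hητ (x * y) = x • d₀ t τ η hητ y + y • d₀ t τ η hητ x := by
    intro x y
    obtain ⟨x, rfl⟩ := Ideal.Quotient.mk_surjective x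
    obtain ⟨y, rfl⟩ := Ideal.Quotient.mk_surjective y
    apply hinj
    rw [← map_mul, T_d₀, map_add, smul_eq_mul, smul_eq_mul,
      ← mul_T t htm (τ x) x (hτ0 x), ← mul_T t htm (τ y) y (hτ0 y), T_d₀, T_d₀, map_mul, map_mul]
    have h1 : η x = τ x + T t htm (d₀ t τ η hητ (Ideal.Quotient.mk _ x)) := by
      rw [T_d₀]; ring
    have h2 : η y = τ y + T t htm (d₀ t τ η hητ (Ideal.Quotient.mk _ y)) := by
      rw [T_d₀]; ring
    have h3 := T_mul_T t ht htm (d₀ t τ η hητ (Ideal.Quotient.mk _ x))
      (d₀ t τ η hητ (Ideal.Quotient.mk _ y))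
    rw [T_d₀, T_d₀] at h3
    have h4 : η x * η y - τ x * τ y =
        τ x * (η y - τ y) + τ y * (η x - τ x) + (η x - τ x) * (η y - τ y) := by ring
    rw [h4, h3, add_zero]
  have hconst : ∀ c : k, d₀ t τ η hητ (algebraMap k _ c) = 0 := by
    intro c
    apply hinj
    rw [map_zero, ← Ideal.Quotient.mk_algebraMap, T_d₀, IsScalarTower.algebraMap_apply k A B,
      AlgEquiv.commutes, AlgEquiv.commutes, sub_self]
  let dlin : (B ⧸ (IsLocalRing.maximalIdeal A).map (algebraMap A B)) →ₗ[k]
      (B ⧸ (IsLocalRing.maximalIdeal A).map (algebraMap A B)) :=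
    { toFun := d₀ t τ η hητ
      map_add' := hadd
      map_smul' := by
        intro c x
        rw [Algebra.smul_def, hleib, hconst, smul_zero, add_zero, smul_eq_mul, RingHom.id_apply,
          Algebra.smul_def] }
  refine ⟨Derivation.mk' dlin hleib, ?_, ?_⟩
  · intro b b' hb
    have h1 : T t htm (Ideal.Quotient.mk _ b') = η b - τ b := by
      rw [hb]
      exact T_d₀ t htm τ η hητ b
    rw [T_mk] at h1
    rw [h1]; ring
  · intro d' hd'
    ext x
    obtain ⟨b, rfl⟩ := Ideal.Quotient.mk_surjective x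
    obtain ⟨b', hb'⟩ := Ideal.Quotient.mk_surjective (d' (Ideal.Quotient.mk _ b))
    have h1 := hd' b b' hb'
    apply hinj
    show T t htm (d' _) = T t htm (d₀ t τ η hητ _)
    rw [T_d₀, ← hb', T_mk, h1]; ring

end part1

section part2
variable {A : Type u} [CommRing A] [IsLocalRing A]
  (t : A) (ht : t ∈ IsLocalRing.maximalIdeal A) (ht0 : t ≠ 0)
  (htm : ∀ a ∈ IsLocalRing.maximalIdeal A, a * t = 0)
  {B : Type u} [CommRing B] [Algebra A B] [Module.Flat A B]
  {k : Type u} [Field k] [Algebra k A] [Algebra k B] [IsScalarTower k A B]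
  (hres : ∀ a : A, ∃ c : k, a - algebraMap k A c ∈ IsLocalRing.maximalIdeal A)
  (τ : B ≃ₐ[A] B)
  (hτ0 : ∀ b : B, τ b - b ∈ (IsLocalRing.maximalIdeal A).map (algebraMap A B))
  (d : Derivation k (B ⧸ (IsLocalRing.maximalIdeal A).map (algebraMap A B))
    (B ⧸ (IsLocalRing.maximalIdeal A).map (algebraMap A B)))

/-- the correction term -/
noncomputable def δ (b : B) : B := T t htm (d (Ideal.Quotient.mk _ b))

omit [Module.Flat A B] in
lemma δ_sub (x y : B) : δ t htm d (x - y) = δ t htm d x - δ t htm d y := by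
  unfold δ
  rw [map_sub, map_sub, map_sub]

omit [Module.Flat A B] in
lemma δ_exists (x : B) : ∃ c : B, δ t htm d x = algebraMap A B t * c := by
  obtain ⟨c, hc⟩ := Ideal.Quotient.mk_surjective (d (Ideal.Quotient.mk _ x))
  refine ⟨c, ?_⟩
  unfold δ
  rw [← hc, T_mk]

omit [Module.Flat A B] in
include ht in
lemma δ_t_mul (c : B) : δ t htm d (algebraMap A B t * c) = 0 := by
  unfold δ
  have h1 : Ideal.Quotient.mk ((IsLocalRing.maximalIdeal A).map (algebraMap A B))
      (algebraMap A B t * c) = 0 := by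
    rw [Ideal.Quotient.eq_zero_iff_mem]
    exact Ideal.mul_mem_right _ _ (Ideal.mem_map_of_mem _ ht)
  rw [h1, map_zero, map_zero]

omit [Module.Flat A B] in
include hres in
lemma d_algebraMap (a : A) : d (Ideal.Quotient.mk _ (algebraMap A B a)) = 0 := by
  obtain ⟨c, hc⟩ := hres a
  have h1 : Ideal.Quotient.mk ((IsLocalRing.maximalIdeal A).map (algebraMap A B))
      (algebraMap A B a) = algebraMap k _ c := by
    rw [← Ideal.Quotient.mk_algebraMap, IsScalarTower.algebraMap_apply k A B, Ideal.Quotient.eq,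
      ← map_sub]
    exact Ideal.mem_map_of_mem _ hc
  rw [h1, Derivation.map_algebraMap]

/-- the new automorphism, as an algebra hom -/
noncomputable def ηhom : B →ₐ[A] B :=
  { toFun := fun b => τ b + δ t htm d b
    map_one' := by
      show τ 1 + T t htm (d (Ideal.Quotient.mk _ 1)) = 1
      rw [map_one, map_one, Derivation.map_one_eq_zero, map_zero, add_zero]
    map_mul' := by
      intro x y
      show τ (x * y) + T t htm (d (Ideal.Quotient.mk _ (x * y))) =
        (τ x + T t htm (d (Ideal.Quotient.mk _ x))) * (τ y + T t htm (d (Ideal.Quotient.mk _ y)))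
      rw [map_mul, map_mul, Derivation.leibniz, map_add, smul_eq_mul, smul_eq_mul,
        ← mul_T t htm (τ x) x (hτ0 x), ← mul_T t htm (τ y) y (hτ0 y)]
      have h3 := T_mul_T t ht htm (d (Ideal.Quotient.mk _ x)) (d (Ideal.Quotient.mk _ y))
      linear_combination (-1 : B) * h3
    map_zero' := by
      show τ 0 + T t htm (d (Ideal.Quotient.mk _ 0)) = 0
      rw [map_zero, map_zero, map_zero, map_zero, add_zero]
    map_add' := by
      intro x y
      show τ (x + y) + T t htm (d (Ideal.Quotient.mk _ (x + y))) =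
        (τ x + T t htm (d (Ideal.Quotient.mk _ x))) + (τ y + T t htm (d (Ideal.Quotient.mk _ y)))
      rw [map_add, map_add, map_add, map_add]
      ring
    commutes' := by
      intro a
      show τ (algebraMap A B a) + T t htm (d (Ideal.Quotient.mk _ (algebraMap A B a))) =
        algebraMap A B a
      rw [d_algebraMap hres d a, map_zero, add_zero, AlgEquiv.commutes] }

omit [Module.Flat A B] in
lemma ηhom_apply (b : B) : ηhom t ht htm hres τ hτ0 d b = τ b + δ t htm d b := rfl

omit [Module.Flat A B] in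
lemma ηhom_bijective : Function.Bijective (ηhom t ht htm hres τ hτ0 d) := by
  constructor
  · rw [injective_iff_map_eq_zero]
    intro x hx
    rw [ηhom_apply] at hx
    obtain ⟨c, hc⟩ := δ_exists t htm d x
    have h1 : τ x = - (algebraMap A B t * c) := by
      rw [← hc]; exact eq_neg_of_add_eq_zero_left hx
    have h2 : x = algebraMap A B t * (- τ.symm c) := by
      have := congrArg τ.symm h1
      rw [AlgEquiv.symm_apply_apply, map_neg, map_mul, AlgEquiv.commutes] at this
      rw [this]; ring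
    have h3 : δ t htm d x = 0 := by rw [h2]; exact δ_t_mul t ht htm d _
    rw [h3, add_zero] at hx
    exact (map_eq_zero_iff τ τ.injective).mp hx
  · intro y
    obtain ⟨c, hc⟩ := δ_exists t htm d (τ.symm y)
    refine ⟨τ.symm y - τ.symm (δ t htm d (τ.symm y)), ?_⟩
    rw [ηhom_apply, map_sub, AlgEquiv.apply_symm_apply, AlgEquiv.apply_symm_apply, δ_sub]
    have h1 : δ t htm d (τ.symm (δ t htm d (τ.symm y))) = 0 := by
      rw [hc, map_mul, AlgEquiv.commutes]
      exact δ_t_mul t ht htm d _
    rw [h1]; ring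

omit [Module.Flat A B] in
include ht htm hres hτ0 in
/-- Part 2 -/
theorem part2 :
    ∃ η : B ≃ₐ[A] B, (∀ b : B, η b - τ b ∈ Ideal.span {algebraMap A B t}) ∧
      ∀ b b' : B, Ideal.Quotient.mk ((IsLocalRing.maximalIdeal A).map (algebraMap A B)) b' =
          d (Ideal.Quotient.mk ((IsLocalRing.maximalIdeal A).map (algebraMap A B)) b) →
        η b = τ b + algebraMap A B t * b' := by
  refine ⟨AlgEquiv.ofBijective (ηhom t ht htm hres τ hτ0 d) (ηhom_bijective t ht htm hres τ hτ0 d),
    ?_, ?_⟩
  · intro b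
    obtain ⟨c, hc⟩ := δ_exists t htm d b
    show ηhom t ht htm hres τ hτ0 d b - τ b ∈ _
    rw [ηhom_apply, add_sub_cancel_left, hc]
    exact Ideal.mul_mem_right _ _ (Ideal.subset_span rfl)
  · intro b b' hb
    show ηhom t ht htm hres τ hτ0 d b = _
    rw [ηhom_apply]
    unfold δ
    rw [← hb, T_mk]

end part2

end Groth.Agent.Lib.DefAut
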