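import Mathlib

/-!
# Absolutely irreducible modules have scalar endomorphisms (helper9)
-/

open TensorProduct Polynomial

namespace DefMod9

section AbsIrr
variable {K : Type*} [Field K] {D : Type*} [Ring D] [Algebra K D] {E : Type*} [AddCommGroup E]
  [Module K E] [Module D E] [IsScalarTower K D E]

/-- restriction of scalars as an algebra hom. -/
def rho : Module.End D E →ₐ[K] Module.End K E where
  toFun ψ := ψ.restrictScalars K
  map_one' := rfl
  map_mul' _ _ := rfl
  map_zero' := rfl
  map_add' _ _ := rfl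
  commutes' c := by
    ext x
    simp [Algebra.algebraMap_eq_smul_one]

variable (Ω : Type*) [Field Ω] [Algebra K Ω] [IsAlgClosed Ω]

theorem scalar_of_absIrr
    (habs : Nontrivial (Ω ⊗[K] E) ∧ ∀ N : Submodule Ω (Ω ⊗[K] E),
      (∀ (d : D) (x : Ω ⊗[K] E), x ∈ N → (DistribSMul.toLinearMap K E d).baseChange Ω x ∈ N) →
        N = ⊥ ∨ N = ⊤)
    (φ : E →ₗ[D] E) (q : K[X]) (hq : q.Monic)
    (hq0 : aeval (φ.restrictScalars K : Module.End K E) q = 0) :
    ∃ c : K, ∀ x, φ x = c • x := by
  obtain ⟨hnt, hirr⟩ := habs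
  set φ' : Module.End K E := φ.restrictScalars K with hφ'
  set φb : Module.End Ω (Ω ⊗[K] E) := φ'.baseChange Ω with hφb
  -- polynomial identity for φb
  have h1 : aeval φb (q.map (algebraMap K Ω)) = 0 := by
    rw [Polynomial.aeval_map_algebraMap]
    have : φb = Module.End.baseChangeHom K Ω E φ' := rfl
    rw [this, Polynomial.aeval_algHom_apply, hq0, map_zero]
  have hmon : (q.map (algebraMap K Ω)).Monic := hq.map _
  have nu : ¬ IsUnit (aeval φb (q.map (algebraMap K Ω))) := by
    rw [h1]; exact not_isUnit_zero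
  rw [(IsAlgClosed.splits (q.map (algebraMap K Ω))).eq_prod_roots_of_monic hmon] at nu
  obtain ⟨k, hk, _⟩ := spectrum.exists_mem_of_not_isUnit_aeval_prod (R := Ω)
    (A := Module.End Ω (Ω ⊗[K] E)) (p := q.map (algebraMap K Ω)) (a := φb) nu
  rw [spectrum.mem_iff] at hk
  -- commutation with D
  have hcomm : ∀ (d : D) (x : Ω ⊗[K] E),
      φb ((DistribSMul.toLinearMap K E d).baseChange Ω x) =
        (DistribSMul.toLinearMap K E d).baseChange Ω (φb x) := by
    intro d x
    have : φ' ∘ₗ DistribSMul.toLinearMap K E d = DistribSMul.toLinearMap K E d ∘ₗ φ' := by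
      ext e
      simp [φ']
    have h2 := congrArg (fun f => (LinearMap.baseChange Ω f) x) this
    simpa [LinearMap.baseChange_comp] using h2
  set χ : Module.End Ω (Ω ⊗[K] E) := algebraMap Ω _ k - φb with hχ
  have hχcomm : ∀ (d : D) (x : Ω ⊗[K] E),
      χ ((DistribSMul.toLinearMap K E d).baseChange Ω x) =
        (DistribSMul.toLinearMap K E d).baseChange Ω (χ x) := by
    intro d x
    simp only [hχ, LinearMap.sub_apply, hcomm, Module.algebraMap_end_apply, map_sub, map_smul]
  have hχ0 : χ = 0 := by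
    by_contra hne
    have hker : LinearMap.ker χ = ⊥ := by
      rcases hirr (LinearMap.ker χ) (fun d x hx => by
        rw [LinearMap.mem_ker] at hx ⊢
        rw [hχcomm, hx, map_zero]) with h | h
      · exact h
      · exact absurd (LinearMap.ker_eq_top.mp h) hne
    have hrange : LinearMap.range χ = ⊤ := by
      rcases hirr (LinearMap.range χ) (fun d x hx => by
        obtain ⟨y, rfl⟩ := hx
        exact ⟨_, hχcomm d y⟩) with h | h
      · exact absurd (LinearMap.range_eq_bot.mp h) hne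
      · exact h
    have hbij : Function.Bijective χ :=
      ⟨LinearMap.ker_eq_bot.mp hker, LinearMap.range_eq_top.mp hrange⟩
    have hu : IsUnit χ := (Module.End.isUnit_iff χ).mpr hbij
    exact hk hu
  have hφk : ∀ z, φb z = k • z := by
    intro z
    have := congrArg (fun f : Module.End Ω (Ω ⊗[K] E) => f z) hχ0
    simp only [hχ, LinearMap.sub_apply, Module.algebraMap_end_apply, LinearMap.zero_apply,
      sub_eq_zero] at this
    exact this.symm
  -- descend
  let T : (E →ₗ[K] K) → (Ω ⊗[K] E →ₗ[K] Ω) := fun ℓ =>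
    (TensorProduct.rid K Ω).toLinearMap ∘ₗ LinearMap.lTensor Ω ℓ
  have hT : ∀ ℓ (ω : Ω) (e : E), T ℓ (ω ⊗ₜ e) = ℓ e • ω := by
    intro ℓ ω e; simp [T]
  have hinj : ∀ e : E, (1 : Ω) ⊗ₜ[K] e = 0 → e = 0 := by
    intro e he
    rw [← Module.forall_dual_apply_eq_zero_iff K e]
    intro ℓ
    have := congrArg (T ℓ) he
    rw [hT, map_zero, Algebra.smul_def, mul_one] at this
    exact (map_eq_zero_iff _ (algebraMap K Ω).injective).mp this
  have hE : Nontrivial E := by
    by_contra h
    rw [not_nontrivial_iff_subsingleton] at h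
    exact not_subsingleton (Ω ⊗[K] E) inferInstance
  obtain ⟨e0, he0⟩ := exists_ne (0 : E)
  obtain ⟨ℓ, hℓ⟩ : ∃ ℓ : Module.Dual K E, ℓ e0 ≠ 0 := by
    by_contra h
    push Not at h
    exact he0 ((Module.forall_dual_apply_eq_zero_iff K e0).mp h)
  have hφ1 : ∀ e : E, (1 : Ω) ⊗ₜ[K] φ e = k • ((1 : Ω) ⊗ₜ[K] e) := by
    intro e
    rw [← hφk]
    simp [φb, φ']
  have hk' : k = algebraMap K Ω (ℓ (φ e0) / ℓ e0) := by
    have := congrArg (T ℓ) (hφ1 e0)
    rw [TensorProduct.smul_tmul', hT, hT, smul_eq_mul, mul_one, Algebra.smul_def, mul_one,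
      Algebra.smul_def] at this
    have ha : algebraMap K Ω (ℓ e0) ≠ 0 := (map_ne_zero_iff _ (algebraMap K Ω).injective).mpr hℓ
    rw [map_div₀, this]
    field_simp
  refine ⟨ℓ (φ e0) / ℓ e0, fun x => ?_⟩
  rw [← sub_eq_zero]
  apply hinj
  rw [tmul_sub, hφ1, hk', TensorProduct.smul_tmul', sub_eq_zero, smul_eq_mul, mul_one,
    Algebra.algebraMap_eq_smul_one, TensorProduct.smul_tmul]

end AbsIrr

end DefMod9
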