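import Mathlib

/-!
# Absolute irreducibility can be tested on finite extensions (helper9)
-/

open TensorProduct

namespace DefMod9

section Tower
variable {K : Type*} [Field K] (D : Type*) [Ring D] [Algebra K D] (E : Type*) [AddCommGroup E]
  [Module K E] [Module D E] [IsScalarTower K D E]

variable (K) in
/-- irreducibility of the base change to `L`. -/
def Irr (L : Type*) [Field L] [Algebra K L] : Prop :=
  Nontrivial (L ⊗[K] E) ∧ ∀ N : Submodule L (L ⊗[K] E),
    (∀ (d : D) (x : L ⊗[K] E), x ∈ N → (DistribSMul.toLinearMap K E d).baseChange L x ∈ N) →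
      N = ⊥ ∨ N = ⊤

variable {E}

omit [Module D E] in
lemma one_tmul_eq_zero (Ω : Type*) [Field Ω] [Algebra K Ω] (e : E)
    (he : (1 : Ω) ⊗ₜ[K] e = 0) : e = 0 := by
  rw [← Module.forall_dual_apply_eq_zero_iff K e]
  intro ℓ
  have := congrArg ((TensorProduct.rid K Ω).toLinearMap ∘ₗ LinearMap.lTensor Ω ℓ) he
  simp only [LinearMap.coe_comp, LinearEquiv.coe_coe, Function.comp_apply, LinearMap.lTensor_tmul,
    TensorProduct.rid_tmul, map_zero] at this
  rw [Algebra.smul_def, mul_one] at this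
  exact (map_eq_zero_iff _ (algebraMap K Ω).injective).mp this

omit [Module D E] in
lemma nontrivial_tensor (Ω : Type*) [Field Ω] [Algebra K Ω] [Nontrivial E] :
    Nontrivial (Ω ⊗[K] E) := by
  obtain ⟨e, he⟩ := exists_ne (0 : E)
  exact ⟨⟨(1 : Ω) ⊗ₜ[K] e, 0, fun h => he (one_tmul_eq_zero Ω e h)⟩⟩

omit [Module D E] in
lemma nontrivial_of_tensor (Ω : Type*) [Field Ω] [Algebra K Ω] (h : Nontrivial (Ω ⊗[K] E)) :
    Nontrivial E := by
  by_contra hE
  rw [not_nontrivial_iff_subsingleton] at hE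
  exact not_subsingleton (Ω ⊗[K] E) inferInstance

variable (L Ω : Type*) [Field L] [Field Ω] [Algebra K L] [Algebra K Ω] [Algebra L Ω]
  [IsScalarTower K L Ω]

/-- the map `L ⊗ E → Ω ⊗ E`. -/
noncomputable def jK : L ⊗[K] E →ₗ[K] Ω ⊗[K] E :=
  (IsScalarTower.toAlgHom K L Ω).toLinearMap.rTensor E

omit [Module D E] in
@[simp] lemma jK_tmul (l : L) (e : E) : jK L Ω (l ⊗ₜ[K] e) = algebraMap L Ω l ⊗ₜ[K] e := rfl

omit [Module D E] in
lemma jK_smul (l : L) (z : L ⊗[K] E) : jK L Ω (l • z) = algebraMap L Ω l • jK L Ω z := by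
  induction z using TensorProduct.induction_on with
  | zero => simp
  | tmul l' e => simp [TensorProduct.smul_tmul', Algebra.smul_def]
  | add a b ha hb => simp [smul_add, ha, hb]

omit [Module D E] in
lemma jK_injective : Function.Injective (jK (K := K) (E := E) L Ω) :=
  Module.Flat.rTensor_preserves_injective_linearMap _ (algebraMap L Ω).injective

lemma jK_dbar (d : D) (z : L ⊗[K] E) :
    jK L Ω ((DistribSMul.toLinearMap K E d).baseChange L z) =
      (DistribSMul.toLinearMap K E d).baseChange Ω (jK L Ω z) := by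
  induction z using TensorProduct.induction_on with
  | zero => simp
  | tmul l' e => simp
  | add a b ha hb => simp [ha, hb]

/-- pull back a submodule. -/
def pull (N : Submodule Ω (Ω ⊗[K] E)) : Submodule L (L ⊗[K] E) where
  carrier := {z | jK L Ω z ∈ N}
  add_mem' := by
    intro a b ha hb
    simp only [Set.mem_ofPred_eq] at *
    rw [map_add]; exact add_mem ha hb
  zero_mem' := by simp
  smul_mem' := by
    intro l z hz
    simp only [Set.mem_ofPred_eq] at *
    rw [jK_smul]; exact N.smul_mem _ hz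

omit [Module D E] in
lemma mem_pull (N : Submodule Ω (Ω ⊗[K] E)) (z : L ⊗[K] E) :
    z ∈ pull L Ω N ↔ jK L Ω z ∈ N := Iff.rfl

theorem irr_down (h : Irr K D E Ω) : Irr K D E L := by
  obtain ⟨hnt, hirr⟩ := h
  haveI := nontrivial_of_tensor Ω hnt
  refine ⟨nontrivial_tensor L, fun N hN => ?_⟩
  by_contra hcon
  push Not at hcon
  obtain ⟨hbot, htop⟩ := hcon
  let Nb : Submodule Ω (Ω ⊗[K] E) := Submodule.span Ω (jK L Ω '' N)
  have hstab : ∀ (d : D) (x : Ω ⊗[K] E), x ∈ Nb →
      (DistribSMul.toLinearMap K E d).baseChange Ω x ∈ Nb := by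
    intro d x hx
    refine Submodule.span_induction ?_ ?_ ?_ ?_ hx
    · rintro _ ⟨z, hz, rfl⟩
      rw [← jK_dbar]
      exact Submodule.subset_span ⟨_, hN d z hz, rfl⟩
    · simp
    · intro a b _ _ ha hb; rw [map_add]; exact add_mem ha hb
    · intro c a _ ha; rw [map_smul]; exact Nb.smul_mem _ ha
  rcases hirr Nb hstab with h | h
  · apply hbot
    rw [Submodule.eq_bot_iff]
    intro z hz
    have : jK L Ω z ∈ Nb := Submodule.subset_span ⟨z, hz, rfl⟩
    rw [h, Submodule.mem_bot] at this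
    exact jK_injective L Ω (by rw [this, map_zero])
  · obtain ⟨ℓ, hℓ0, hℓ⟩ := Submodule.exists_le_ker_of_lt_top N (lt_top_iff_ne_top.mpr htop)
    let g : E →ₗ[K] Ω := (Algebra.linearMap L Ω).restrictScalars K ∘ₗ (ℓ.restrictScalars K) ∘ₗ
      (TensorProduct.mk K L E 1)
    let ℓb : Ω ⊗[K] E →ₗ[Ω] Ω := g.liftBaseChange Ω
    have key : ∀ z : L ⊗[K] E, ℓb (jK L Ω z) = algebraMap L Ω (ℓ z) := by
      intro z
      induction z using TensorProduct.induction_on with
      | zero => simp
      | tmul l e =>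
        have : l ⊗ₜ[K] e = l • ((1 : L) ⊗ₜ[K] e) := by
          rw [TensorProduct.smul_tmul', smul_eq_mul, mul_one]
        rw [jK_tmul, LinearMap.liftBaseChange_tmul, this, map_smul, smul_eq_mul, smul_eq_mul,
          map_mul]
        rfl
      | add a b ha hb => simp only [map_add, ha, hb]
    have hle : Nb ≤ LinearMap.ker ℓb := by
      rw [Submodule.span_le]
      rintro _ ⟨z, hz, rfl⟩
      have := hℓ hz
      rw [LinearMap.mem_ker] at this
      rw [SetLike.mem_coe, LinearMap.mem_ker, key, this, map_zero]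
    apply hℓ0
    refine LinearMap.ext fun z => ?_
    have h1 : jK L Ω z ∈ LinearMap.ker ℓb := hle (h ▸ Submodule.mem_top)
    rw [LinearMap.mem_ker, key] at h1
    exact (map_eq_zero_iff _ (algebraMap L Ω).injective).mp h1

end Tower

section Up
variable {K : Type*} [Field K] (D : Type*) [Ring D] [Algebra K D] (E : Type*) [AddCommGroup E]
  [Module K E] [Module D E] [IsScalarTower K D E]
  (Ω : Type*) [Field Ω] [Algebra K Ω] [Algebra.IsAlgebraic K Ω]

theorem irr_up (hE : Nontrivial E)
    (h : ∀ L : IntermediateField K Ω, FiniteDimensional K L → Irr K D E L) : Irr K D E Ω := by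
  classical
  refine ⟨nontrivial_tensor Ω, fun Nb hNb => ?_⟩
  by_contra hcon
  push Not at hcon
  obtain ⟨hbot, htop⟩ := hcon
  obtain ⟨x, hx, hx0⟩ := (Submodule.ne_bot_iff Nb).mp hbot
  obtain ⟨S, hS⟩ := TensorProduct.exists_finset x
  let L : IntermediateField K Ω := IntermediateField.adjoin K ((S.image Prod.fst : Finset Ω) : Set Ω)
  have hfin : FiniteDimensional K L :=
    IntermediateField.finiteDimensional_adjoin (fun y _ => Algebra.IsIntegral.isIntegral y)
  have hmem : ∀ i ∈ S, i.1 ∈ L := fun i hi =>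
    IntermediateField.subset_adjoin K _ (Finset.mem_coe.mpr (Finset.mem_image_of_mem _ hi))
  let xL : L ⊗[K] E := ∑ i ∈ S.attach, (⟨i.1.1, hmem i.1 i.2⟩ : L) ⊗ₜ[K] i.1.2
  have hxL : jK L Ω xL = x := by
    rw [hS, map_sum, ← Finset.sum_attach S]
    rfl
  obtain ⟨-, hirr⟩ := h L hfin
  rcases hirr (pull L Ω Nb) (fun d z hz => by
    rw [mem_pull] at hz ⊢
    rw [jK_dbar]; exact hNb d _ hz) with h1 | h1
  · have : xL ∈ pull L Ω Nb := by rw [mem_pull, hxL]; exact hx
    rw [h1, Submodule.mem_bot] at this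
    rw [this, map_zero] at hxL
    exact hx0 hxL.symm
  · apply htop
    rw [Submodule.eq_top_iff']
    intro z
    induction z using TensorProduct.induction_on with
    | zero => exact zero_mem _
    | tmul ω e =>
      have h2 : (1 : L) ⊗ₜ[K] e ∈ pull L Ω Nb := h1 ▸ Submodule.mem_top
      rw [mem_pull, jK_tmul, map_one] at h2
      have : ω ⊗ₜ[K] e = ω • ((1 : Ω) ⊗ₜ[K] e) := by
        rw [TensorProduct.smul_tmul', smul_eq_mul, mul_one]
      rw [this]; exact Nb.smul_mem _ h2
    | add a b ha hb => exact add_mem ha hb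

end Up

end DefMod9
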