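import Mathlib

/-!
# Base change of `Hom_D(E, F)` along a commutative algebra over a field (helper9)
-/

open TensorProduct

namespace DefMod9

section BC
variable {K : Type*} [Field K] {D : Type*} [Ring D] [Algebra K D]
  {E : Type*} [AddCommGroup E] [Module K E] [Module D E] [IsScalarTower K D E]
  {F : Type*} [AddCommGroup F] [Module K F] [Module D F] [IsScalarTower K D F]
  (P : Type*) [CommRing P] [Algebra K P]

/-- evaluation. -/
def ev (e : E) : (E →ₗ[D] F) →ₗ[K] F where
  toFun f := f e
  map_add' _ _ := rfl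
  map_smul' _ _ := rfl

omit [Module D E] [IsScalarTower K D E] [Module D F] [IsScalarTower K D F] [Algebra K D] in
lemma ext_one_tmul {g h : P ⊗[K] E →ₗ[P] P ⊗[K] F}
    (H : ∀ e, g ((1 : P) ⊗ₜ[K] e) = h ((1 : P) ⊗ₜ[K] e)) : g = h := by
  apply TensorProduct.AlgebraTensorModule.ext
  intro p e
  have : p ⊗ₜ[K] e = p • ((1 : P) ⊗ₜ[K] e) := by
    rw [TensorProduct.smul_tmul', smul_eq_mul, mul_one]
  rw [this, map_smul, map_smul, H]

lemma coord_nat {ι : Type*} [DecidableEq ι] (b : Module.Basis ι K P)
    {N N' : Type*} [AddCommGroup N] [Module K N] [AddCommGroup N'] [Module K N']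
    (h : N →ₗ[K] N') (z : P ⊗[K] N) (i : ι) :
    TensorProduct.equivFinsuppOfBasisLeft b (LinearMap.lTensor P h z) i =
      h (TensorProduct.equivFinsuppOfBasisLeft b z i) := by
  rw [TensorProduct.equivFinsuppOfBasisLeft_apply, TensorProduct.equivFinsuppOfBasisLeft_apply]
  induction z using TensorProduct.induction_on with
  | zero => simp
  | tmul p n => simp
  | add a c ha hc => simp only [map_add, ha, hc]

variable (Φ : P ⊗[K] (E →ₗ[D] F) →ₗ[P] (P ⊗[K] E →ₗ[P] P ⊗[K] F))
  (hΦ : ∀ (p : P) (f : E →ₗ[D] F), Φ (p ⊗ₜ[K] f) = p • (f.restrictScalars K).baseChange P)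

include hΦ in
lemma Phi_one_tmul (T : P ⊗[K] (E →ₗ[D] F)) (e : E) :
    Φ T ((1 : P) ⊗ₜ[K] e) = LinearMap.lTensor P (ev (D := D) (F := F) e) T := by
  induction T using TensorProduct.induction_on with
  | zero => simp
  | tmul p f =>
    rw [hΦ]
    simp [ev, TensorProduct.smul_tmul']
  | add a b ha hb => simp only [map_add, LinearMap.add_apply, ha, hb]

include hΦ in
theorem baseChange_hom [Module.Finite D E] :
    Function.Injective Φ ∧
      ∀ g : P ⊗[K] E →ₗ[P] P ⊗[K] F,
        g ∈ LinearMap.range Φ ↔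
          ∀ d : D, g ∘ₗ (DistribSMul.toLinearMap K E d).baseChange P =
            (DistribSMul.toLinearMap K F d).baseChange P ∘ₗ g := by
  classical
  let b := Module.Free.chooseBasis K P
  have hev : ∀ (d : D) (e : E), ev (K := K) (D := D) (F := F) (d • e) =
      DistribSMul.toLinearMap K F d ∘ₗ ev (K := K) (D := D) (F := F) e := by
    intro d e
    ext f
    simp [ev]
  refine ⟨?_, fun g => ⟨?_, ?_⟩⟩
  · rw [injective_iff_map_eq_zero]
    intro T hT
    apply (TensorProduct.equivFinsuppOfBasisLeft b).injective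
    rw [map_zero]
    ext i e
    have h1 := Phi_one_tmul P Φ hΦ T e
    rw [hT, LinearMap.zero_apply] at h1
    have h2 := coord_nat P b (ev (K := K) (D := D) (F := F) e) T i
    rw [← h1, map_zero] at h2
    simpa [ev] using h2.symm
  · rintro ⟨T, rfl⟩ d
    apply ext_one_tmul
    intro e
    simp only [LinearMap.comp_apply, LinearMap.baseChange_tmul, DistribSMul.toLinearMap_apply]
    rw [Phi_one_tmul P Φ hΦ, Phi_one_tmul P Φ hΦ, hev, LinearMap.lTensor_comp,
      LinearMap.comp_apply, LinearMap.baseChange_eq_ltensor]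
  · intro hg
    let c := TensorProduct.equivFinsuppOfBasisLeft (N := F) b
    let G : E →ₗ[K] (_ →₀ F) := c.toLinearMap ∘ₗ (g.restrictScalars K) ∘ₗ (TensorProduct.mk K P E 1)
    have hG : ∀ e, G e = c (g ((1 : P) ⊗ₜ[K] e)) := fun e => rfl
    have hGd : ∀ (d : D) (e : E) i, G (d • e) i = d • G e i := by
      intro d e i
      rw [hG, hG]
      have h1 := congrArg (fun f => f ((1 : P) ⊗ₜ[K] e)) (hg d)
      simp only [LinearMap.comp_apply, LinearMap.baseChange_tmul,
        DistribSMul.toLinearMap_apply] at h1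
      rw [h1, LinearMap.baseChange_eq_ltensor]
      exact coord_nat P b (DistribSMul.toLinearMap K F d) _ i
    let gi : _ → (E →ₗ[D] F) := fun i =>
      { toFun := fun e => G e i
        map_add' := fun x y => by rw [map_add]; rfl
        map_smul' := fun d e => hGd d e i }
    obtain ⟨s, hs⟩ := (Module.Finite.fg_top : (⊤ : Submodule D E).FG)
    let Sup : Finset _ := s.biUnion (fun e => (G e).support)
    have hgi : ∀ i, i ∉ Sup → gi i = 0 := by
      intro i hi
      apply LinearMap.ext_on hs
      intro e he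
      show G e i = 0
      by_contra hne
      exact hi (Finset.mem_biUnion.mpr ⟨e, he, Finsupp.mem_support_iff.mpr hne⟩)
    refine ⟨∑ i ∈ Sup, b i ⊗ₜ[K] gi i, ?_⟩
    apply ext_one_tmul
    intro e
    rw [Phi_one_tmul P Φ hΦ, map_sum]
    have h2 : g ((1 : P) ⊗ₜ[K] e) = c.symm (G e) := by
      rw [hG, LinearEquiv.symm_apply_apply]
    rw [h2, TensorProduct.equivFinsuppOfBasisLeft_symm_apply, Finsupp.sum]
    symm
    have hsub : (G e).support ⊆ Sup := by
      intro i hi
      by_contra hne
      have := congrArg (fun f : E →ₗ[D] F => f e) (hgi i hne)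
      exact (Finsupp.mem_support_iff.mp hi) this
    rw [Finset.sum_subset hsub (fun i _ hi => by
      rw [Finsupp.notMem_support_iff.mp hi, tmul_zero])]
    rfl

end BC

end DefMod9
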