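import Mathlib

/-!
# Endomorphisms of deformations of a module with scalar endomorphisms (helper9)
-/

open Submodule

namespace DefMod9

section Flat
variable {R : Type*} [CommRing R] {F : Type*} [AddCommGroup F] [Module R F] [Module.Flat R F]

/-- `(J F : a) ⊆ (J : a) F` for flat `F`. -/
lemma mem_smul_top_of_flat {a : R} {J Q : Ideal R} (hQ : ∀ c, a * c ∈ J → c ∈ Q) {y : F}
    (h : a • y ∈ J • (⊤ : Submodule R F)) : y ∈ Q • (⊤ : Submodule R F) := by
  classical
  have h' : a • y ∈ J • Submodule.span R (Set.range (id : F → F)) := by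
    rw [Set.range_id, Submodule.span_univ]; exact h
  rw [Submodule.mem_ideal_smul_span_iff_exists_sum] at h'
  obtain ⟨b, hb, hsum⟩ := h'
  let f : Option b.support → R := fun i => i.elim a (fun z => - b z.1)
  let x : Option b.support → F := fun i => i.elim y (fun z => z.1)
  have hrel : ∑ i, f i • x i = 0 := by
    rw [Fintype.sum_option]
    simp only [f, x, Option.elim, neg_smul, Finset.sum_neg_distrib]
    rw [← hsum, Finsupp.sum, Finset.sum_coe_sort b.support (fun z => b z • z)]
    simp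
  obtain ⟨k, A, w, h1, h2⟩ := Module.Flat.isTrivialRelation_of_sum_smul_eq_zero hrel
  have hy := h1 none
  simp only [x, Option.elim] at hy
  rw [hy]
  refine Submodule.sum_mem _ fun l _ => Submodule.smul_mem_smul (hQ _ ?_) mem_top
  have h3 := h2 l
  rw [Fintype.sum_option] at h3
  simp only [f, Option.elim, neg_mul, Finset.sum_neg_distrib] at h3
  have h4 : a * A none l = ∑ z : b.support, b z.1 * A (some z) l := by
    rw [← sub_eq_zero, sub_eq_add_neg]; exact h3
  rw [h4]
  exact Ideal.sum_mem _ fun z _ => Ideal.mul_mem_right _ _ (hb z.1)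

end Flat

section Key
variable {K : Type*} [Field K] {R : Type*} [CommRing R] [Algebra K R] [IsLocalRing R]
  [IsArtinianRing R]
  (res : R →ₐ[K] K)
  {D : Type*} [Ring D] [Algebra K D]
  {E : Type*} [AddCommGroup E] [Module K E] [Module D E] [IsScalarTower K D E] [Nontrivial E]
  (hE : ∀ ψ : E →ₗ[D] E, ∃ c : K, ∀ y : E, ψ y = c • y)
  {F : Type*} [AddCommGroup F] [Module R F] [Module D F]
  [SMulCommClass R D F] [Module.Flat R F]
  (θ : F →ₗ[D] E) (hθ : ∀ (r : R) (x : F), θ (r • x) = res r • θ x)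
  (hsurj : Function.Surjective θ)
  (hker : ∀ x : F, θ x = 0 ↔ x ∈ IsLocalRing.maximalIdeal R • (⊤ : Submodule R F))

omit [IsLocalRing R] [IsArtinianRing R] [Module.Flat R F] in
lemma stable (I : Ideal R) (d : D) (z : F) (hz : z ∈ I • (⊤ : Submodule R F)) :
    d • z ∈ I • (⊤ : Submodule R F) := by
  refine Submodule.smul_induction_on hz (fun r hr n _ => ?_) (fun x y hx hy => ?_)
  · rw [← smul_comm r d n]; exact smul_mem_smul hr mem_top
  · rw [smul_add]; exact add_mem hx hy

include hsurj hker in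
omit [IsArtinianRing R] [SMulCommClass R D F] in
lemma faithful {r : R} (h : ∀ x : F, r • x = 0) : r = 0 := by
  by_contra hr
  have hQ : ∀ c, r * c ∈ (⊥ : Ideal R) → c ∈ IsLocalRing.maximalIdeal R := by
    intro c hc
    by_contra hcm
    have hu : IsUnit c := by
      by_contra h'; exact hcm ((IsLocalRing.mem_maximalIdeal c).mpr h')
    obtain ⟨u, rfl⟩ := hu
    apply hr
    have h1 : r * (u : R) = 0 := hc
    have := congrArg (· * ((u⁻¹ : Rˣ) : R)) h1
    simpa [mul_assoc] using this
  obtain ⟨e, he⟩ := exists_ne (0 : E)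
  obtain ⟨y, rfl⟩ := hsurj e
  apply he
  rw [hker]
  apply mem_smul_top_of_flat hQ
  rw [h y]; exact zero_mem _

include hE hθ hsurj hker in
omit [Algebra K D] [IsScalarTower K D E] [Nontrivial E] in
lemma step (φ : F →ₗ[R] F) (hφ : ∀ (d : D) (x : F), φ (d • x) = d • φ x)
    {I : Ideal R} (hI : I ≠ ⊥) {r : R} (hr : ∀ x, φ x - r • x ∈ I • (⊤ : Submodule R F)) :
    ∃ I' : Ideal R, I' < I ∧ ∃ r' : R, ∀ x, φ x - r' • x ∈ I' • (⊤ : Submodule R F) := by
  classical
  set m := IsLocalRing.maximalIdeal R with hm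
  have hlt : m * I < I := by
    refine lt_of_le_of_ne Ideal.mul_le_right ?_
    intro heq
    apply hI
    refine Submodule.eq_bot_of_le_smul_of_le_jacobson_bot m I (IsNoetherian.noetherian I) ?_ ?_
    · rw [smul_eq_mul, heq]
    · rw [IsLocalRing.jacobson_eq_maximalIdeal ⊥ bot_ne_top]
  obtain ⟨I', ⟨hI'1, hI'2⟩, hmax⟩ :=
    (wellFounded_gt : WellFounded ((· > ·) : Ideal R → Ideal R → Prop)).has_min
      {J | m * I ≤ J ∧ J < I} ⟨m * I, le_rfl, hlt⟩
  obtain ⟨a, haI, haI'⟩ := SetLike.exists_of_lt hI'2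
  have hsup : Ideal.span {a} ⊔ I' = I := by
    by_contra hne
    have h1 : Ideal.span {a} ⊔ I' ≤ I :=
      sup_le ((Ideal.span_singleton_le_iff_mem _).mpr haI) hI'2.le
    have h2 : I' < Ideal.span {a} ⊔ I' :=
      lt_of_le_of_ne le_sup_right (fun h => haI' (h ▸
        (le_sup_left : Ideal.span {a} ≤ Ideal.span {a} ⊔ I') (Ideal.mem_span_singleton_self a)))
    exact hmax _ ⟨hI'1.trans h2.le, lt_of_le_of_ne h1 hne⟩ h2
  have hQ : ∀ c, a * c ∈ I' → c ∈ m := by
    intro c hc
    by_contra hcm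
    have hu : IsUnit c := by
      by_contra h; exact hcm ((IsLocalRing.mem_maximalIdeal c).mpr h)
    obtain ⟨u, rfl⟩ := hu
    apply haI'
    have := I'.mul_mem_right ((u⁻¹ : Rˣ) : R) hc
    rwa [mul_assoc, Units.mul_inv, mul_one] at this
  set ψ : F →ₗ[R] F := φ - r • LinearMap.id with hψ
  have hψx : ∀ x, ψ x = φ x - r • x := fun x => by simp [ψ]
  have hψD : ∀ (d : D) (x : F), ψ (d • x) = d • ψ x := by
    intro d x
    rw [hψx, hψx, hφ, smul_sub, smul_comm r d x]
  have hdec : ∀ x, ∃ y z, z ∈ I' • (⊤ : Submodule R F) ∧ ψ x = a • y + z := by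
    intro x
    have := hr x
    rw [← hψx, ← hsup, Submodule.sup_smul, Submodule.mem_sup] at this
    obtain ⟨u, hu, z, hz, huz⟩ := this
    rw [Submodule.ideal_span_singleton_smul, Submodule.mem_smul_pointwise_iff_exists] at hu
    obtain ⟨y, _, rfl⟩ := hu
    exact ⟨y, z, hz, huz.symm⟩
  choose Y Z hZ hYZ using hdec
  have WD : ∀ y y' z z', z ∈ I' • (⊤ : Submodule R F) → z' ∈ I' • (⊤ : Submodule R F) →
      a • y + z = a • y' + z' → θ y = θ y' := by
    intro y y' z z' hz hz' h
    have h1 : a • (y - y') ∈ I' • (⊤ : Submodule R F) := by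
      have : a • (y - y') = z' - z := by
        rw [smul_sub, sub_eq_sub_iff_add_eq_add, add_comm z']; exact h
      rw [this]; exact sub_mem hz' hz
    have h2 := mem_smul_top_of_flat hQ h1
    have h3 := (hker _).mpr h2
    rwa [map_sub, sub_eq_zero] at h3
  let g : F →ₗ[D] E :=
    { toFun := fun x => θ (Y x)
      map_add' := by
        intro x x'
        rw [← map_add]
        apply WD _ _ (Z (x + x')) (Z x + Z x') (hZ _) (add_mem (hZ _) (hZ _))
        rw [← hYZ, map_add, hYZ x, hYZ x', smul_add]; abel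
      map_smul' := by
        intro d x
        simp only [RingHom.id_apply]
        rw [← map_smul]
        apply WD _ _ (Z (d • x)) (d • Z x) (hZ _) (stable _ d _ (hZ _))
        rw [← hYZ, hψD, hYZ x, smul_add, smul_comm a d (Y x)] }
  have hgker : LinearMap.ker θ ≤ LinearMap.ker g := by
    intro x hx
    rw [LinearMap.mem_ker] at hx ⊢
    have hx' := (hker x).mp hx
    have h1 : ψ x ∈ I' • (⊤ : Submodule R F) := by
      have : ψ x ∈ (m * I) • (⊤ : Submodule R F) := by
        rw [Submodule.mul_smul]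
        refine Submodule.smul_induction_on hx' ?_ ?_
        · intro s hs w _
          rw [map_smul]
          exact Submodule.smul_mem_smul hs (by rw [hψx]; exact hr w)
        · intro u v hu hv; rw [map_add]; exact add_mem hu hv
      exact Submodule.smul_mono_left hI'1 this
    show θ (Y x) = 0
    rw [← map_zero θ]
    apply WD _ _ (Z x) (ψ x) (hZ _) h1
    rw [← hYZ, smul_zero, zero_add]
  let ebar : (F ⧸ LinearMap.ker θ) ≃ₗ[D] E := θ.quotKerEquivOfSurjective hsurj
  let gbar : E →ₗ[D] E := ((LinearMap.ker θ).liftQ g hgker) ∘ₗ ebar.symm.toLinearMap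
  have hgbar : ∀ x, gbar (θ x) = g x := by
    intro x
    have : ebar.symm (θ x) = Submodule.Quotient.mk x := by
      rw [LinearEquiv.symm_apply_eq]; rfl
    simp [gbar, this]
  obtain ⟨c, hc⟩ := hE gbar
  refine ⟨I', hI'2, r + a * algebraMap K R c, fun x => ?_⟩
  have h1 : θ (Y x - algebraMap K R c • x) = 0 := by
    rw [map_sub, hθ, AlgHom.commutes, Algebra.algebraMap_self_apply, ← hc, hgbar]
    simp [g]
  have h2 := (hker _).mp h1
  have h3 : φ x - (r + a * algebraMap K R c) • x =
      a • (Y x - algebraMap K R c • x) + Z x := by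
    have := hYZ x
    rw [hψx] at this
    rw [add_smul, mul_smul, smul_sub, ← sub_sub, this]; abel
  rw [h3]
  refine add_mem ?_ (hZ x)
  have : a • (Y x - algebraMap K R c • x) ∈ (m * I) • (⊤ : Submodule R F) := by
    rw [mul_comm, Submodule.mul_smul]
    exact Submodule.smul_mem_smul haI h2
  exact Submodule.smul_mono_left hI'1 this

include hE hθ hsurj hker in
omit [Algebra K D] [IsScalarTower K D E] in
theorem key (φ : F →ₗ[R] F) (hφ : ∀ (d : D) (x : F), φ (d • x) = d • φ x) :
    ∃! r : R, ∀ x : F, φ x = r • x := by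
  have hex : ∃ r : R, ∀ x, φ x = r • x := by
    let S : Set (Ideal R) := {I | ∃ r : R, ∀ x, φ x - r • x ∈ I • (⊤ : Submodule R F)}
    have hS : S.Nonempty := ⟨⊤, 0, fun x => by simp⟩
    obtain ⟨I, ⟨r, hr⟩, hmin⟩ :=
      (wellFounded_lt : WellFounded ((· < ·) : Ideal R → Ideal R → Prop)).has_min S hS
    by_cases hI : I = ⊥
    · refine ⟨r, fun x => ?_⟩
      have := hr x
      rw [hI, Submodule.bot_smul, Submodule.mem_bot, sub_eq_zero] at this
      exact this
    · obtain ⟨I', hlt, r', hr'⟩ := step res hE θ hθ hsurj hker φ hφ hI hr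
      exact absurd hlt (hmin I' ⟨r', hr'⟩)
  obtain ⟨r, hr⟩ := hex
  refine ⟨r, hr, fun r' hr' => ?_⟩
  have : ∀ x : F, (r' - r) • x = 0 := fun x => by rw [sub_smul, ← hr, ← hr', sub_self]
  exact sub_eq_zero.mp (faithful θ hsurj hker this)

end Key

end DefMod9
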