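import Mathlib
import Groth.Prelude
import Groth.Agent.Lib.AffStalk2_helper3
import Groth.Agent.Lib.CohDev6_helper8

/-!
# Closed subsets defined over the base field, separable extensions (helper8)
APPEND-ONLY once landed.
-/

set_option autoImplicit false
set_option linter.all false
set_option maxHeartbeats 1600000
set_option backward.isDefEq.respectTransparency false
set_option backward.isDefEq.respectTransparency.types false
set_option backward.defeqAttrib.useBackward true

universe u

open CategoryTheory AlgebraicGeometry TopologicalSpace Opposite TensorProduct IsLocalRing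
open CategoryTheory.Limits

namespace Groth.Agent.Lib.DefOverH8

section alg

variable (K' K : Type u) [Field K'] [Field K] [Algebra K' K]

theorem equivFinsupp_lTensor {ι : Type*} [DecidableEq ι] (b : Module.Basis ι K' K)
    {A L : Type u} [AddCommGroup A] [Module K' A] [AddCommGroup L] [Module K' L]
    (φ : A →ₗ[K'] L) (ξ : K ⊗[K'] A) (i : ι) :
    TensorProduct.equivFinsuppOfBasisLeft b (LinearMap.lTensor K φ ξ) i =
      φ (TensorProduct.equivFinsuppOfBasisLeft b ξ i) := by
  induction ξ using TensorProduct.induction_on with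
  | zero => simp
  | tmul m n =>
    rw [LinearMap.lTensor_tmul, TensorProduct.equivFinsuppOfBasisLeft_apply_tmul_apply,
      TensorProduct.equivFinsuppOfBasisLeft_apply_tmul_apply, map_smul]
  | add x y hx hy =>
    rw [map_add, map_add, Finsupp.add_apply, hx, hy, map_add, Finsupp.add_apply, map_add]

theorem isReduced_tensor_of_reduced (A : Type u) [CommRing A] [Algebra K' A] [IsReduced A]
    (H : ∀ (L : Type u) [Field L] [Algebra K' L], IsReduced (K ⊗[K'] L)) :
    IsReduced (K ⊗[K'] A) := by
  classical
  let b := Module.Basis.ofVectorSpace K' K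
  let e := TensorProduct.equivFinsuppOfBasisLeft (N := A) b
  refine ⟨fun ξ hξ => ?_⟩
  have key : ∀ (p : Ideal A), p.IsPrime → ∀ i, e ξ i ∈ p := by
    intro p hp i
    let φ : A →ₐ[K'] p.ResidueField := IsScalarTower.toAlgHom K' A p.ResidueField
    haveI := H p.ResidueField
    let Φ : K ⊗[K'] A →ₐ[K'] K ⊗[K'] p.ResidueField :=
      Algebra.TensorProduct.map (AlgHom.id K' K) φ
    have h0 : Φ ξ = 0 := (hξ.map Φ).eq_zero
    have h1 : ∀ ζ : K ⊗[K'] A, Φ ζ = LinearMap.lTensor K φ.toLinearMap ζ := by
      intro ζ
      induction ζ using TensorProduct.induction_on with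
      | zero => simp
      | tmul m n => rfl
      | add x y hx hy => rw [map_add, map_add, hx, hy]
    have h2 := equivFinsupp_lTensor K' K b φ.toLinearMap ξ i
    rw [← h1 ξ, h0, map_zero, Finsupp.zero_apply] at h2
    have h3 : algebraMap A p.ResidueField (e ξ i) = 0 := h2.symm
    exact Ideal.algebraMap_residueField_eq_zero.1 h3
  have h6 : e ξ = 0 := by
    ext i
    have : e ξ i ∈ nilradical A := by
      rw [nilradical_eq_sInf, Ideal.mem_sInf]
      intro p hp
      exact key p hp i
    rw [nilradical_eq_zero A] at this
    simpa using this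
  exact e.injective (by rw [h6, map_zero])

end alg

section sch

variable {K' K : Type u} [Field K'] [Field K] [Algebra K' K]

theorem isReduced_tensor_of_geomReduced
    [GeometricallyReduced (Spec.map (CommRingCat.ofHom (algebraMap K' K)))]
    (L : Type u) [Field L] [Algebra K' L] : _root_.IsReduced (K ⊗[K'] L) := by
  have h := GeometricallyReduced.geometrically_isReduced
    (f := Spec.map (CommRingCat.ofHom (algebraMap K' K)))
    (Spec.map (CommRingCat.ofHom (algebraMap K' L))) _ _ (IsPullback.of_hasPullback _ _)
  have h2 : IsReduced (Spec (CommRingCat.of (K ⊗[K'] L))) :=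
    isReduced_of_isOpenImmersion (pullbackSpecIso K' K L).inv
  exact (affine_isReduced_iff _).1 h2

theorem isReduced_pullback_of_geomReduced
    [GeometricallyReduced (Spec.map (CommRingCat.ofHom (algebraMap K' K)))]
    {W : Scheme.{u}} [IsReduced W] (h : W ⟶ Spec (CommRingCat.of K')) :
    IsReduced (pullback h (Spec.map (CommRingCat.ofHom (algebraMap K' K)))) := by
  wlog hW : ∃ R : CommRingCat.{u}, W = Spec R generalizing W with Hw
  · haveI : ∀ i, IsReduced (W.affineCover.X i) := fun i =>
      isReduced_of_isOpenImmersion (W.affineCover.f i)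
    haveI : ∀ i, IsReduced ((Scheme.Pullback.openCoverOfLeft W.affineCover h
        (Spec.map (CommRingCat.ofHom (algebraMap K' K)))).X i) := fun i =>
      Hw (W.affineCover.f i ≫ h) ⟨_, rfl⟩
    exact IsReduced.of_openCover _ (Scheme.Pullback.openCoverOfLeft W.affineCover h
      (Spec.map (CommRingCat.ofHom (algebraMap K' K))))
  obtain ⟨R, rfl⟩ := hW
  obtain ⟨φ, rfl⟩ := Spec.map_surjective h
  letI := φ.hom.toAlgebra
  haveI : _root_.IsReduced R := (affine_isReduced_iff R).1 inferInstance
  haveI : _root_.IsReduced (K ⊗[K'] R) :=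
    isReduced_tensor_of_reduced K' K R (fun L _ _ => isReduced_tensor_of_geomReduced L)
  haveI : _root_.IsReduced (R ⊗[K'] K) :=
    isReduced_of_injective (Algebra.TensorProduct.comm K' R K).toAlgHom
      (Algebra.TensorProduct.comm K' R K).injective
  haveI h2 : IsReduced (Spec (CommRingCat.of (R ⊗[K'] K))) :=
    (affine_isReduced_iff _).2 inferInstance
  exact isReduced_of_isOpenImmersion (pullbackSpecIso K' R K).hom

end sch

section main

open Scheme.IdealSheafData

theorem support_vanishingIdeal' {X : Scheme.{u}} (Z : TopologicalSpace.Closeds X) :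
    (Scheme.IdealSheafData.vanishingIdeal Z).support = Z := rfl

theorem eq_vanishingIdeal_of_isReduced {X : Scheme.{u}} (I : X.IdealSheafData)
    [IsReduced I.subscheme] : I = Scheme.IdealSheafData.vanishingIdeal I.support := by
  rw [Scheme.IdealSheafData.vanishingIdeal_support]
  ext U : 2
  exact (Groth.Agent.Lib.AffStalk_helper3.isRadical_ideal_of_isReduced I U).radical.symm

theorem main4682 {K' K : Type u} [Field K'] [Field K] [Algebra K' K]
    {Y : Scheme.{u}} (fY : Y ⟶ Spec (CommRingCat.of K'))
    [GeometricallyReduced (Spec.map (CommRingCat.ofHom (algebraMap K' K)))]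
    (T : TopologicalSpace.Closeds ↥(FBase.bc fY K)) :
    (∃ T' : TopologicalSpace.Closeds ↥Y,
        (T : Set ↥(FBase.bc fY K)) = ⇑(FBase.bcπ fY K) ⁻¹' (T' : Set ↥Y)) ↔
      ∃ J : Y.IdealSheafData,
        J.comap (FBase.bcπ fY K) = Scheme.IdealSheafData.vanishingIdeal T := by
  constructor
  · rintro ⟨T', hT'⟩
    refine ⟨Scheme.IdealSheafData.vanishingIdeal T', ?_⟩
    haveI : IsReduced (Scheme.IdealSheafData.vanishingIdeal T').subscheme :=
      CohDevH8.isReduced_subscheme_vanishingIdeal T'
    haveI : IsReduced ((Scheme.IdealSheafData.vanishingIdeal T').comap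
        (FBase.bcπ fY K)).subscheme := by
      have e1 := (Scheme.IdealSheafData.vanishingIdeal T').comapIso (FBase.bcπ fY K)
      have e2 : pullback (FBase.bcπ fY K) (Scheme.IdealSheafData.vanishingIdeal T').subschemeι ≅
          pullback (Scheme.IdealSheafData.vanishingIdeal T').subschemeι
            (pullback.fst fY (Spec.map (CommRingCat.ofHom (algebraMap K' K)))) :=
        pullbackSymmetry _ _
      have e3 := pullbackRightPullbackFstIso fY (Spec.map (CommRingCat.ofHom (algebraMap K' K)))
        (Scheme.IdealSheafData.vanishingIdeal T').subschemeι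
      haveI := isReduced_pullback_of_geomReduced (K := K)
        ((Scheme.IdealSheafData.vanishingIdeal T').subschemeι ≫ fY)
      exact isReduced_of_isOpenImmersion (e1 ≪≫ e2 ≪≫ e3).hom
    rw [eq_vanishingIdeal_of_isReduced ((Scheme.IdealSheafData.vanishingIdeal T').comap
        (FBase.bcπ fY K))]
    congr 1
    ext1
    rw [Scheme.IdealSheafData.support_comap, TopologicalSpace.Closeds.coe_preimage,
      support_vanishingIdeal', hT']
  · rintro ⟨J, hJ⟩
    refine ⟨J.support, ?_⟩
    have h1 := congrArg Scheme.IdealSheafData.support hJ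
    rw [Scheme.IdealSheafData.support_comap, support_vanishingIdeal'] at h1
    rw [← h1]
    rfl

end main

end Groth.Agent.Lib.DefOverH8
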