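import Mathlib
import Groth.Agent.Lib.ArtinLocalReg_helper9
import Groth.Agent.Lib.LocalCrit2_helper9
import Groth.Agent.Lib.NakayamaBC_helper9

/-!
# Regular sequences and flat quotients over Artinian local rings (for the DefT cluster)
-/

namespace Groth.Agent.Lib.DefTRegH4

open IsLocalRing RingTheory.Sequence Submodule TensorProduct
open scoped Pointwise

universe u

theorem isNilpotent_maximalIdeal (C : Type u) [CommRing C] [IsLocalRing C] [IsArtinianRing C] :
    IsNilpotent (maximalIdeal C) := by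
  have h := IsArtinianRing.isNilpotent_jacobson_bot (R := C)
  rwa [IsLocalRing.jacobson_eq_maximalIdeal ⊥ bot_ne_top] at h

section flatquot

variable {A : Type u} [CommRing A] [IsLocalRing A] {S : Type u} [CommRing S] [Algebra A S]

theorem flat_quot_ofList (hnil : IsNilpotent (maximalIdeal A)) (rs : List S) :
    ∀ (M : Type u) [AddCommGroup M] [Module S M] [Module A M] [IsScalarTower A S M]
      [Module.Flat A M], IsWeaklyRegular M rs →
      Module.Flat A (M ⧸ (Ideal.ofList rs • ⊤ : Submodule S M)) := by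
  induction rs with
  | nil =>
    intro M _ _ _ _ _ _
    have h0 : (Ideal.ofList ([] : List S) • ⊤ : Submodule S M) = ⊥ := by
      rw [Ideal.ofList_nil, Submodule.bot_smul]
    exact Module.Flat.of_linearEquiv ((Submodule.quotEquivOfEqBot _ h0).restrictScalars A)
  | cons r rs ih =>
    intro M _ _ _ _ _ h
    rw [isWeaklyRegular_cons_iff] at h
    haveI := Groth.Agent.Lib.ArtinLocalReg.flat_quotSMulTop (A := A) hnil r h.1
    haveI := ih (QuotSMulTop r M) h.2
    exact Module.Flat.of_linearEquiv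
      ((Submodule.quotOfListConsSMulTopEquivQuotSMulTopInner M r rs).restrictScalars A)

end flatquot

section nak

variable {C : Type u} [CommRing C] {A : Type u} [CommRing A] [Algebra C A]

/-- If `A/I` is `C`-flat then `I ∩ 𝔞A ⊆ 𝔞I`. -/
theorem mem_map_mul_of_flat (I : Ideal A) [Module.Flat C (A ⧸ I)] (𝔞 : Ideal C) (z : A)
    (hz : z ∈ I) (hz' : z ∈ 𝔞.map (algebraMap C A)) : z ∈ 𝔞.map (algebraMap C A) * I := by
  obtain ⟨f, hf⟩ : ∃ f : I →ₗ[C] A, ∀ x : I, f x = (x : A) :=
    ⟨(Submodule.subtype I).restrictScalars C, fun _ => rfl⟩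
  obtain ⟨g, hg⟩ : ∃ g : A →ₗ[C] A ⧸ I, ∀ x : A, g x = Ideal.Quotient.mk I x :=
    ⟨(Ideal.Quotient.mkₐ C I).toLinearMap, fun _ => rfl⟩
  have hfinj : Function.Injective f := by
    intro x y hxy
    rw [hf, hf] at hxy
    exact Subtype.ext hxy
  have hgsurj : Function.Surjective g := by
    intro y
    obtain ⟨x, rfl⟩ := Ideal.Quotient.mk_surjective y
    exact ⟨x, hg x⟩
  have hfg : Function.Exact f g := by
    intro y
    rw [hg, Ideal.Quotient.eq_zero_iff_mem]
    constructor
    · intro hy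
      exact ⟨⟨y, hy⟩, hf _⟩
    · rintro ⟨x, rfl⟩
      rw [hf]
      exact x.2
  haveI : Module.Flat C (C ⊗[C] (A ⧸ I)) :=
    Module.Flat.of_linearEquiv (TensorProduct.lid C (A ⧸ I))
  have hA : Function.Injective (f.lTensor C) :=
    Module.Flat.lTensor_preserves_injective_linearMap f hfinj
  have hinj : Function.Injective (f.lTensor (C ⧸ 𝔞)) :=
    Groth.Agent.Lib.LocalCrit2.T1_of_module f g hfg hgsurj C hA (C ⧸ 𝔞)
  have h1 : f.lTensor (C ⧸ 𝔞) ((1 : C ⧸ 𝔞) ⊗ₜ[C] (⟨z, hz⟩ : I)) = 0 := by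
    rw [LinearMap.lTensor_tmul, hf, Groth.Agent.Lib.NakayamaBC_helper9.one_tmul_eq_zero_iff,
      Ideal.smul_top_eq_map]
    exact hz'
  have h2 : (1 : C ⧸ 𝔞) ⊗ₜ[C] (⟨z, hz⟩ : I) = 0 := hinj (h1.trans (map_zero _).symm)
  rw [Groth.Agent.Lib.NakayamaBC_helper9.one_tmul_eq_zero_iff] at h2
  have key : ∀ w : I, w ∈ 𝔞 • (⊤ : Submodule C I) →
      (w : A) ∈ 𝔞.map (algebraMap C A) * I := by
    intro w hw
    refine Submodule.smul_induction_on hw ?_ ?_
    · intro c hc y _
      have h3 : ((c • y : I) : A) = algebraMap C A c * (y : A) := by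
        rw [← hf, map_smul, hf, Algebra.smul_def]
      rw [h3]
      exact Ideal.mul_mem_mul (Ideal.mem_map_of_mem _ hc) y.2
    · intro y y' hy hy'
      rw [Submodule.coe_add]
      exact add_mem hy hy'
  exact key ⟨z, hz⟩ h2

/-- nilpotent Nakayama for ideals with flat quotient. -/
theorem eq_of_le_of_le_sup (𝔞 : Ideal C) (hnil : IsNilpotent 𝔞) (I₀ I : Ideal A)
    [Module.Flat C (A ⧸ I)] (h0 : I₀ ≤ I) (h1 : I ≤ I₀ ⊔ 𝔞.map (algebraMap C A)) : I = I₀ := by
  obtain ⟨n, hn⟩ := hnil
  have key : ∀ k : ℕ, I ≤ I₀ ⊔ (𝔞 ^ k).map (algebraMap C A) := by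
    intro k
    induction k with
    | zero =>
      rw [pow_zero, Ideal.one_eq_top, Ideal.map_top, sup_top_eq]
      exact le_top
    | succ k ih =>
      intro x hx
      obtain ⟨y, hy, z, hz, rfl⟩ := Submodule.mem_sup.mp (ih hx)
      have hzI : z ∈ I := by
        have h2 := I.sub_mem hx (h0 hy)
        rwa [add_sub_cancel_left] at h2
      have hz2 := mem_map_mul_of_flat I (𝔞 ^ k) z hzI hz
      have hle : (𝔞 ^ k).map (algebraMap C A) * I ≤
          I₀ ⊔ (𝔞 ^ (k + 1)).map (algebraMap C A) := by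
        calc (𝔞 ^ k).map (algebraMap C A) * I
            ≤ (𝔞 ^ k).map (algebraMap C A) * (I₀ ⊔ 𝔞.map (algebraMap C A)) :=
              Ideal.mul_mono_right h1
          _ = (𝔞 ^ k).map (algebraMap C A) * I₀ ⊔
                (𝔞 ^ k).map (algebraMap C A) * 𝔞.map (algebraMap C A) := Ideal.mul_sup _ _ _
          _ ≤ I₀ ⊔ (𝔞 ^ (k + 1)).map (algebraMap C A) := by
            refine sup_le_sup Ideal.mul_le_right ?_
            rw [pow_succ, Ideal.map_mul]
      exact add_mem (Ideal.mem_sup_left hy) (hle hz2)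
  refine le_antisymm ?_ h0
  have h3 := key n
  rwa [hn, Ideal.zero_eq_bot, Ideal.map_bot, sup_bot_eq] at h3

/-- lifting generators of the reduction of an ideal with flat quotient. -/
theorem exists_lift_generators (𝔞 : Ideal C) (hnil : IsNilpotent 𝔞) (I : Ideal A)
    [Module.Flat C (A ⧸ I)] (r : ℕ) (b : Fin r → A ⧸ 𝔞.map (algebraMap C A))
    (hI : I.map (Ideal.Quotient.mk (𝔞.map (algebraMap C A))) = Ideal.span (Set.range b)) :
    ∃ a : Fin r → A, (∀ i, Ideal.Quotient.mk (𝔞.map (algebraMap C A)) (a i) = b i) ∧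
      I = Ideal.span (Set.range a) := by
  have hlift : ∀ i, ∃ x ∈ I, Ideal.Quotient.mk (𝔞.map (algebraMap C A)) x = b i := by
    intro i
    have hbi : b i ∈ I.map (Ideal.Quotient.mk (𝔞.map (algebraMap C A))) := by
      rw [hI]
      exact Ideal.subset_span ⟨i, rfl⟩
    exact (Ideal.mem_map_iff_of_surjective _ Ideal.Quotient.mk_surjective).mp hbi
  choose a haI hab using hlift
  refine ⟨a, hab, ?_⟩
  apply eq_of_le_of_le_sup 𝔞 hnil (Ideal.span (Set.range a)) I
  · rw [Ideal.span_le]
    rintro _ ⟨i, rfl⟩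
    exact haI i
  · have h1 : (Ideal.span (Set.range a)).map (Ideal.Quotient.mk (𝔞.map (algebraMap C A))) =
        Ideal.span (Set.range b) := by
      rw [Ideal.map_span, ← Set.range_comp]
      have : (Ideal.Quotient.mk (𝔞.map (algebraMap C A))) ∘ a = b := funext hab
      rw [this]
    intro x hx
    have hx' : Ideal.Quotient.mk (𝔞.map (algebraMap C A)) x ∈
        (Ideal.span (Set.range a)).map (Ideal.Quotient.mk (𝔞.map (algebraMap C A))) := by
      rw [h1, ← hI]
      exact Ideal.mem_map_of_mem _ hx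
    obtain ⟨y, hy, hyx⟩ :=
      (Ideal.mem_map_iff_of_surjective _ Ideal.Quotient.mk_surjective).mp hx'
    have hd : x - y ∈ 𝔞.map (algebraMap C A) := by
      rw [← Ideal.Quotient.eq_zero_iff_mem, map_sub, hyx, sub_self]
    have hxy : x = y + (x - y) := by ring
    rw [hxy]
    exact add_mem (Ideal.mem_sup_left hy) (Ideal.mem_sup_right hd)

end nak

section mains

theorem ofList_ofFn {R : Type u} [CommRing R] {r : ℕ} (a : Fin r → R) :
    Ideal.ofList (List.ofFn a) = Ideal.span (Set.range a) := by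
  have : {x | x ∈ List.ofFn a} = Set.range a := by
    ext x
    simp [List.mem_ofFn]
  unfold Ideal.ofList
  rw [this]

theorem S11454_main (C' : Type u) [CommRing C'] [IsLocalRing C'] [IsArtinianRing C']
    (J : Ideal C') (hJne : J ≠ ⊤) (A' : Type u) [CommRing A'] [Algebra C' A']
    [Module.Flat C' A'] (r : ℕ) (a' : Fin r → A')
    (hreg : IsRegular (A' ⧸ J.map (algebraMap C' A'))
      (List.ofFn (fun i => Ideal.Quotient.mk (J.map (algebraMap C' A')) (a' i)))) :
    IsRegular A' (List.ofFn a') ∧ Module.Flat C' (A' ⧸ Ideal.span (Set.range a')) := by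
  have hnil := isNilpotent_maximalIdeal C'
  have h1 : IsRegular A' (List.ofFn a') := by
    rw [Groth.Agent.Lib.ArtinLocalReg.isRegular_iff_ring hnil J hJne, List.map_ofFn]
    exact hreg
  refine ⟨h1, ?_⟩
  have h2 := flat_quot_ofList (A := C') hnil (List.ofFn a') A' h1.toIsWeaklyRegular
  have h3 : (Ideal.ofList (List.ofFn a') • ⊤ : Submodule A' A') = Ideal.span (Set.range a') := by
    rw [smul_eq_mul, Ideal.mul_top, ofList_ofFn]
  exact Module.Flat.of_linearEquiv ((Submodule.quotEquivOfEq _ _ h3).symm.restrictScalars C')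

theorem S11456_main (C : Type u) [CommRing C] [IsLocalRing C] [IsArtinianRing C] (A : Type u)
    [CommRing A] [Algebra C A] [Module.Flat C A] (I : Ideal A) [Module.Flat C (A ⧸ I)] (r : ℕ)
    (b : Fin r → A ⧸ (maximalIdeal C).map (algebraMap C A))
    (hb : IsRegular (A ⧸ (maximalIdeal C).map (algebraMap C A)) (List.ofFn b))
    (hI : I.map (Ideal.Quotient.mk ((maximalIdeal C).map (algebraMap C A))) =
      Ideal.span (Set.range b)) :
    ∃ a : Fin r → A, IsRegular A (List.ofFn a) ∧ I = Ideal.span (Set.range a) := by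
  have hnil := isNilpotent_maximalIdeal C
  obtain ⟨a, hab, hIa⟩ := exists_lift_generators (maximalIdeal C) hnil I r b hI
  refine ⟨a, ?_, hIa⟩
  rw [Groth.Agent.Lib.ArtinLocalReg.isRegular_iff_ring hnil (maximalIdeal C)
    (IsLocalRing.maximalIdeal.isMaximal C).ne_top, List.map_ofFn]
  have : (Ideal.Quotient.mk ((maximalIdeal C).map (algebraMap C A))) ∘ a = b := funext hab
  rw [this]
  exact hb

theorem S11455_main (C' : Type u) [CommRing C'] [IsLocalRing C'] [IsArtinianRing C']
    (J : Ideal C') (hJne : J ≠ ⊤) (A' : Type u) [CommRing A'] [Algebra C' A']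
    (r : ℕ) (a : Fin r → A' ⧸ J.map (algebraMap C' A'))
    (I' : Ideal A') [Module.Flat C' (A' ⧸ I')]
    (hI' : I'.map (Ideal.Quotient.mk (J.map (algebraMap C' A'))) = Ideal.span (Set.range a)) :
    ∃ a' : Fin r → A', (∀ i, Ideal.Quotient.mk (J.map (algebraMap C' A')) (a' i) = a i) ∧
      I' = Ideal.span (Set.range a') := by
  obtain ⟨n, hn⟩ := isNilpotent_maximalIdeal C'
  have hJnil : IsNilpotent J := by
    refine ⟨n, ?_⟩
    rw [Ideal.zero_eq_bot, eq_bot_iff, ← Ideal.zero_eq_bot, ← hn]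
    exact Ideal.pow_right_mono (IsLocalRing.le_maximalIdeal hJne) n
  exact exists_lift_generators J hJnil I' r a hI'

end mains

end Groth.Agent.Lib.DefTRegH4
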