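import Mathlib
import Groth.Agent.Lib.DefTReg_helper4

/-!
# Flat lifts of ideals over square-zero extensions: the difference map
-/

namespace Groth.Agent.Lib.DefTTorsH4

open IsLocalRing Submodule TensorProduct
open scoped Pointwise

universe u

section general

variable {C : Type u} [CommRing C] (J : Ideal C) (A : Type u) [CommRing A] [Algebra C A]
variable (N : Type u) [AddCommGroup N] [Module A N] [Module C N] [IsScalarTower C A N]

/-- multiplication `N ⊗ J → N`, as an `A`-linear map. -/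
noncomputable def iota : N ⊗[C] J →ₗ[A] N :=
  (AlgebraTensorModule.rid C A N).toLinearMap ∘ₗ
    AlgebraTensorModule.map (LinearMap.id : N →ₗ[A] N) J.subtype

lemma iota_tmul (x : N) (j : J) : iota J A N (x ⊗ₜ j) = (j : C) • x := by
  simp [iota]

lemma iota_eq (z : N ⊗[C] J) :
    iota J A N z = TensorProduct.rid C N (LinearMap.lTensor N J.subtype z) := by
  induction z using TensorProduct.induction_on with
  | zero => simp
  | tmul x j =>
    rw [iota_tmul, LinearMap.lTensor_tmul, TensorProduct.rid_tmul]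
    rfl
  | add a b ha hb => simp only [map_add, ha, hb]

lemma iota_injective [Module.Flat C N] : Function.Injective (iota J A N) := by
  intro z w h
  rw [iota_eq, iota_eq] at h
  exact Module.Flat.lTensor_preserves_injective_linearMap (M := N) J.subtype
    (Submodule.subtype_injective J) ((TensorProduct.rid C N).injective h)

lemma iota_mem (z : N ⊗[C] J) : iota J A N z ∈ J • (⊤ : Submodule C N) := by
  induction z using TensorProduct.induction_on with
  | zero => simp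
  | tmul x j =>
    rw [iota_tmul]
    exact Submodule.smul_mem_smul j.2 trivial
  | add a b ha hb =>
    rw [map_add]
    exact add_mem ha hb

lemma exists_iota_eq (u : N) (hu : u ∈ J • (⊤ : Submodule C N)) : ∃ z, iota J A N z = u := by
  refine Submodule.smul_induction_on hu ?_ ?_
  · intro j hj x _
    exact ⟨x ⊗ₜ ⟨j, hj⟩, iota_tmul J A N x ⟨j, hj⟩⟩
  · rintro x y ⟨z, rfl⟩ ⟨w, rfl⟩
    exact ⟨z + w, map_add _ _ _⟩

end general

section flatideal

variable {C : Type u} [CommRing C] {A : Type u} [CommRing A] [Algebra C A]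

/-- If `A/I` is `C`-flat then `I ∩ 𝔞A ⊆ 𝔞I` (as `C`-submodule of `I`). -/
theorem mem_smul_top_of_flat (I : Ideal A) [Module.Flat C (A ⧸ I)] (𝔞 : Ideal C) (z : A)
    (hz : z ∈ I) (hz' : z ∈ 𝔞.map (algebraMap C A)) :
    (⟨z, hz⟩ : I) ∈ 𝔞 • (⊤ : Submodule C I) := by
  obtain ⟨f, hf⟩ : ∃ f : I →ₗ[C] A, ∀ x : I, f x = (x : A) :=
    ⟨(Submodule.subtype I).restrictScalars C, fun _ => rfl⟩
  obtain ⟨g, hg⟩ : ∃ g : A →ₗ[C] A ⧸ I, ∀ x : A, g x = Ideal.Quotient.mk I x :=
    ⟨(Ideal.Quotient.mkₐ C I).toLinearMap, fun _ => rfl⟩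
  have hfinj : Function.Injective f := by
    intro x y hxy
    rw [hf, hf] at hxy
    exact Subtype.ext hxy
  have hgsurj : Function.Surjective g := by
    intro y
    obtain ⟨x, rfl⟩ := Ideal.Quotient.mk_surjective y
    exact ⟨x, hg x⟩
  have hfg : Function.Exact f g := by
    intro y
    rw [hg, Ideal.Quotient.eq_zero_iff_mem]
    constructor
    · intro hy
      exact ⟨⟨y, hy⟩, hf _⟩
    · rintro ⟨x, rfl⟩
      rw [hf]
      exact x.2
  haveI : Module.Flat C (C ⊗[C] (A ⧸ I)) :=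
    Module.Flat.of_linearEquiv (TensorProduct.lid C (A ⧸ I))
  have hA : Function.Injective (f.lTensor C) :=
    Module.Flat.lTensor_preserves_injective_linearMap f hfinj
  have hinj : Function.Injective (f.lTensor (C ⧸ 𝔞)) :=
    Groth.Agent.Lib.LocalCrit2.T1_of_module f g hfg hgsurj C hA (C ⧸ 𝔞)
  have h1 : f.lTensor (C ⧸ 𝔞) ((1 : C ⧸ 𝔞) ⊗ₜ[C] (⟨z, hz⟩ : I)) = 0 := by
    rw [LinearMap.lTensor_tmul, hf, Groth.Agent.Lib.NakayamaBC_helper9.one_tmul_eq_zero_iff,
      Ideal.smul_top_eq_map]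
    exact hz'
  have h2 : (1 : C ⧸ 𝔞) ⊗ₜ[C] (⟨z, hz⟩ : I) = 0 := hinj (h1.trans (map_zero _).symm)
  rwa [Groth.Agent.Lib.NakayamaBC_helper9.one_tmul_eq_zero_iff] at h2

end flatideal

section rho

variable {C : Type u} [CommRing C] (J : Ideal C) {A : Type u} [CommRing A] [Algebra C A]
variable (B : Type u) [CommRing B] [Algebra A B] [Algebra C B] [IsScalarTower C A B]

/-- `A ⊗ J → B ⊗ J`, as an `A`-linear map. -/
noncomputable def rho : A ⊗[C] J →ₗ[A] B ⊗[C] J :=
  AlgebraTensorModule.map (Algebra.linearMap A B) (LinearMap.id : J →ₗ[C] J)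

lemma rho_tmul (a : A) (j : J) : rho J B (a ⊗ₜ j) = algebraMap A B a ⊗ₜ j := by
  simp [rho]

lemma rho_eq (z : A ⊗[C] J) :
    rho J B z = LinearMap.rTensor J (IsScalarTower.toAlgHom C A B).toLinearMap z := by
  induction z using TensorProduct.induction_on with
  | zero => simp
  | tmul a j =>
    rw [rho_tmul, LinearMap.rTensor_tmul]
    rfl
  | add a b ha hb => simp only [map_add, ha, hb]

/-- elements of `I' ∩ JA` come from `I' ⊗ J`, hence die in `B ⊗ J`. -/
lemma exists_of_mem_inter (I' : Ideal A) [Module.Flat C (A ⧸ I')]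
    (hI'B : ∀ y ∈ I', algebraMap A B y = 0) (u : A) (hu : u ∈ I')
    (hu' : u ∈ J.map (algebraMap C A)) :
    ∃ z : A ⊗[C] J, iota J A A z = u ∧ rho J B z = 0 := by
  have h := mem_smul_top_of_flat I' J u hu hu'
  have key : ∀ w : I', w ∈ J • (⊤ : Submodule C I') →
      ∃ z : A ⊗[C] J, iota J A A z = (w : A) ∧ rho J B z = 0 := by
    intro w hw
    refine Submodule.smul_induction_on hw ?_ ?_
    · intro j hj y _
      refine ⟨(y : A) ⊗ₜ ⟨j, hj⟩, ?_, ?_⟩
      · rw [iota_tmul]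
        rfl
      · rw [rho_tmul, hI'B _ y.2, TensorProduct.zero_tmul]
    · rintro y y' ⟨z, hz, hz'⟩ ⟨w, hw, hw'⟩
      refine ⟨z + w, ?_, ?_⟩
      · rw [map_add, hz, hw]
        rfl
      · rw [map_add, hz', hw', add_zero]
  exact key ⟨u, hu⟩ h

end rho

section main64

variable (C' : Type u) [CommRing C'] (J : Ideal C') (A' : Type u) [CommRing A'] [Algebra C' A']
  [Module.Flat C' A']
  (I : Ideal (A' ⧸ J.map (algebraMap C' A')))
  (I' I'' : Ideal A') [Module.Flat C' (A' ⧸ I')] [Module.Flat C' (A' ⧸ I'')]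
  (hI' : I'.map (Ideal.Quotient.mk (J.map (algebraMap C' A'))) = I)
  (hI'' : I''.map (Ideal.Quotient.mk (J.map (algebraMap C' A'))) = I)

/-- the relation defining the difference map. -/
def Rel (x : I) (w : ((A' ⧸ J.map (algebraMap C' A')) ⧸ I) ⊗[C'] J) : Prop :=
  ∃ x' ∈ I', ∃ x'' ∈ I'', Ideal.Quotient.mk (J.map (algebraMap C' A')) x' = (x : A' ⧸ _) ∧
    Ideal.Quotient.mk (J.map (algebraMap C' A')) x'' = (x : A' ⧸ _) ∧
    ∃ z : A' ⊗[C'] J, iota J A' A' z = x'' - x' ∧ rho J ((A' ⧸ J.map (algebraMap C' A')) ⧸ I) z = w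

include hI' in
lemma algebraMap_eq_zero' (y : A') (hy : y ∈ I') :
    algebraMap A' ((A' ⧸ J.map (algebraMap C' A')) ⧸ I) y = 0 := by
  have h1 : algebraMap A' ((A' ⧸ J.map (algebraMap C' A')) ⧸ I) y =
      Ideal.Quotient.mk I (Ideal.Quotient.mk (J.map (algebraMap C' A')) y) := rfl
  rw [h1, Ideal.Quotient.eq_zero_iff_mem, ← hI']
  exact Ideal.mem_map_of_mem _ hy

lemma exists_iota_of_mk_eq_zero (u : A')
    (hu : Ideal.Quotient.mk (J.map (algebraMap C' A')) u = 0) :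
    ∃ z : A' ⊗[C'] J, iota J A' A' z = u := by
  apply exists_iota_eq
  rw [Ideal.smul_top_eq_map]
  exact Ideal.Quotient.eq_zero_iff_mem.mp hu

include hI' hI'' in
lemma rel_total (x : I) : ∃ w, Rel C' J A' I I' I'' x w := by
  have hx1 : (x : A' ⧸ J.map (algebraMap C' A')) ∈
      I'.map (Ideal.Quotient.mk (J.map (algebraMap C' A'))) := by
    rw [hI']
    exact x.2
  have hx2 : (x : A' ⧸ J.map (algebraMap C' A')) ∈
      I''.map (Ideal.Quotient.mk (J.map (algebraMap C' A'))) := by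
    rw [hI'']
    exact x.2
  obtain ⟨x', hx', hx'x⟩ :=
    (Ideal.mem_map_iff_of_surjective _ Ideal.Quotient.mk_surjective).mp hx1
  obtain ⟨x'', hx'', hx''x⟩ :=
    (Ideal.mem_map_iff_of_surjective _ Ideal.Quotient.mk_surjective).mp hx2
  obtain ⟨z, hz⟩ := exists_iota_of_mk_eq_zero C' J A' (x'' - x') (by
    rw [map_sub, hx'x, hx''x, sub_self])
  exact ⟨_, x', hx', x'', hx'', hx'x, hx''x, z, hz, rfl⟩

include hI' hI'' in
lemma rel_func (x : I) (w₁ w₂) (h₁ : Rel C' J A' I I' I'' x w₁) (h₂ : Rel C' J A' I I' I'' x w₂) :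
    w₁ = w₂ := by
  obtain ⟨x₁', hx₁', x₁'', hx₁'', e₁', e₁'', z₁, hz₁, rfl⟩ := h₁
  obtain ⟨x₂', hx₂', x₂'', hx₂'', e₂', e₂'', z₂, hz₂, rfl⟩ := h₂
  obtain ⟨y', hy', hy'0⟩ := exists_of_mem_inter J ((A' ⧸ J.map (algebraMap C' A')) ⧸ I) I'
    (algebraMap_eq_zero' C' J A' I I' hI') (x₁' - x₂') (I'.sub_mem hx₁' hx₂') (by
      rw [← Ideal.Quotient.eq_zero_iff_mem, map_sub, e₁', e₂', sub_self])
  obtain ⟨y'', hy'', hy''0⟩ := exists_of_mem_inter J ((A' ⧸ J.map (algebraMap C' A')) ⧸ I) I''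
    (algebraMap_eq_zero' C' J A' I I'' hI'') (x₁'' - x₂'') (I''.sub_mem hx₁'' hx₂'') (by
      rw [← Ideal.Quotient.eq_zero_iff_mem, map_sub, e₁'', e₂'', sub_self])
  have h3 : z₁ - z₂ = y'' - y' := by
    apply iota_injective J A' A'
    rw [map_sub, map_sub, hz₁, hz₂, hy', hy'']
    ring
  have h4 : rho J ((A' ⧸ J.map (algebraMap C' A')) ⧸ I) (z₁ - z₂) = 0 := by
    rw [h3, map_sub, hy'0, hy''0, sub_zero]
  rw [map_sub, sub_eq_zero] at h4
  exact h4

lemma rel_add (x y : I) (w w') (h₁ : Rel C' J A' I I' I'' x w) (h₂ : Rel C' J A' I I' I'' y w') :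
    Rel C' J A' I I' I'' (x + y) (w + w') := by
  obtain ⟨x₁', hx₁', x₁'', hx₁'', e₁', e₁'', z₁, hz₁, rfl⟩ := h₁
  obtain ⟨x₂', hx₂', x₂'', hx₂'', e₂', e₂'', z₂, hz₂, rfl⟩ := h₂
  refine ⟨x₁' + x₂', I'.add_mem hx₁' hx₂', x₁'' + x₂'', I''.add_mem hx₁'' hx₂'', ?_, ?_,
    z₁ + z₂, ?_, map_add _ _ _⟩
  · rw [map_add, e₁', e₂', Submodule.coe_add]
  · rw [map_add, e₁'', e₂'', Submodule.coe_add]
  · rw [map_add, hz₁, hz₂]
    ring

lemma rel_smul (a : A') (x : I) (w) (h₁ : Rel C' J A' I I' I'' x w) :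
    Rel C' J A' I I' I'' (a • x) (a • w) := by
  obtain ⟨x₁', hx₁', x₁'', hx₁'', e₁', e₁'', z₁, hz₁, rfl⟩ := h₁
  have hc : ((a • x : I) : A' ⧸ J.map (algebraMap C' A')) =
      Ideal.Quotient.mk (J.map (algebraMap C' A')) a * (x : A' ⧸ J.map (algebraMap C' A')) := by
    rw [Submodule.coe_smul_of_tower, Algebra.smul_def]
    rfl
  refine ⟨a * x₁', I'.mul_mem_left a hx₁', a * x₁'', I''.mul_mem_left a hx₁'', ?_, ?_,
    a • z₁, ?_, map_smul _ _ _⟩
  · rw [map_mul, e₁', hc]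
  · rw [map_mul, e₁'', hc]
  · rw [map_smul, hz₁, smul_eq_mul]
    ring

include hI' hI'' in
theorem S11464_main :
    ∃! φ : ↥I →ₗ[A'] (((A' ⧸ J.map (algebraMap C' A')) ⧸ I) ⊗[C'] ↥J),
      (∀ (x : (A' ⧸ J.map (algebraMap C' A'))) (hx : x ∈ I) (x' x'' : A'), x' ∈ I' → x'' ∈ I'' →
          Ideal.Quotient.mk (J.map (algebraMap C' A')) x' = x →
          Ideal.Quotient.mk (J.map (algebraMap C' A')) x'' = x →
          ∀ z : A' ⊗[C'] ↥J,
            TensorProduct.rid C' A' (LinearMap.lTensor A' (Submodule.subtype J) z) = x'' - x' →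
            LinearMap.rTensor ↥J (IsScalarTower.toAlgHom C' A'
              ((A' ⧸ J.map (algebraMap C' A')) ⧸ I)).toLinearMap z = φ ⟨x, hx⟩) := by
  choose φ0 hφ0 using rel_total C' J A' I I' I'' hI' hI''
  have func := rel_func C' J A' I I' I'' hI' hI''
  refine ⟨{ toFun := φ0
            map_add' := fun x y => func _ _ _ (hφ0 (x + y))
              (rel_add C' J A' I I' I'' x y _ _ (hφ0 x) (hφ0 y))
            map_smul' := fun a x => func _ _ _ (hφ0 (a • x))
              (rel_smul C' J A' I I' I'' a x _ (hφ0 x)) }, ?_, ?_⟩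
  · intro x hx x' x'' hx' hx'' e' e'' z hz
    rw [← iota_eq J A' A'] at hz
    rw [← rho_eq]
    exact func ⟨x, hx⟩ _ _ ⟨x', hx', x'', hx'', e', e'', z, hz, rfl⟩ (hφ0 ⟨x, hx⟩)
  · intro φ' hφ'
    apply LinearMap.ext
    intro x
    obtain ⟨x', hx', x'', hx'', e', e'', z, hz, hw⟩ := hφ0 x
    have h1 := hφ' (x : A' ⧸ J.map (algebraMap C' A')) x.2 x' x'' hx' hx'' e' e'' z (by
      rw [← iota_eq J A' A']
      exact hz)
    rw [← rho_eq, hw] at h1
    exact h1.symm

end main64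

section lift

variable {C : Type u} [CommRing C] (J : Ideal C) (A : Type u) [CommRing A] [Algebra C A]
variable (B : Type u) [CommRing B] [Algebra A B] [Algebra C B] [IsScalarTower C A B]

lemma rho_surjective (hsurj : Function.Surjective (algebraMap A B)) :
    Function.Surjective (rho (A := A) J B) := by
  intro t
  induction t using TensorProduct.induction_on with
  | zero => exact ⟨0, map_zero _⟩
  | tmul b j =>
    obtain ⟨a, rfl⟩ := hsurj b
    exact ⟨a ⊗ₜ j, rho_tmul J B a j⟩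
  | add a b ha hb =>
    obtain ⟨a', rfl⟩ := ha
    obtain ⟨b', rfl⟩ := hb
    exact ⟨a' + b', map_add _ _ _⟩

/-- `K` reduces to the kernel of `A → B` modulo `J`. -/
def IsLift (K : Ideal A) : Prop :=
  (∀ y ∈ K, algebraMap A B y = 0) ∧
    ∀ a, algebraMap A B a = 0 → ∃ y ∈ K, a - y ∈ J.map (algebraMap C A)

lemma rTensor_injective_of_ker_le {N Q : Type u} [AddCommGroup N] [Module C N] [AddCommGroup Q]
    [Module C Q] (hJJ : J * J = ⊥) (p : N →ₗ[C] Q) (hp : Function.Surjective p)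
    (hker : ∀ y, p y = 0 → y ∈ J • (⊤ : Submodule C N)) : Function.Injective (p.rTensor J) := by
  have hex := rTensor_exact J (LinearMap.exact_subtype_ker_map p) hp
  have hz : ∀ (v : N), v ∈ J • (⊤ : Submodule C N) → ∀ j : J, v ⊗ₜ[C] j = 0 := by
    intro v hv
    refine Submodule.smul_induction_on hv ?_ ?_
    · intro c hc v' _ j
      have hcj : c • j = 0 := by
        apply Subtype.ext
        rw [Submodule.coe_smul, smul_eq_mul, Submodule.coe_zero]
        have h1 : c * (j : C) ∈ J * J := Ideal.mul_mem_mul hc j.2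
        rw [hJJ] at h1
        exact h1
      rw [TensorProduct.smul_tmul, hcj, TensorProduct.tmul_zero]
    · intro v w hv hw j
      rw [TensorProduct.add_tmul, hv j, hw j, add_zero]
  rw [injective_iff_map_eq_zero]
  intro t ht
  obtain ⟨w, rfl⟩ := (hex t).mp ht
  clear ht
  induction w using TensorProduct.induction_on with
  | zero => simp
  | tmul y j =>
    rw [LinearMap.rTensor_tmul, Submodule.subtype_apply]
    exact hz y (hker y (LinearMap.mem_ker.mp y.2)) j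
  | add a b ha hb => rw [map_add, ha, hb, add_zero]

variable {J A B}
variable (K : Ideal A) (hK : IsLift J A B K)

/-- the induced map `A/K → B`. -/
noncomputable def psi : (A ⧸ K) →ₗ[A] B :=
  Submodule.liftQ K (Algebra.linearMap A B) (fun y hy => LinearMap.mem_ker.mpr (hK.1 y hy))

lemma psi_mk (a : A) : psi K hK (Ideal.Quotient.mk K a) = algebraMap A B a := rfl

lemma psi_surjective (hsurj : Function.Surjective (algebraMap A B)) :
    Function.Surjective (psi K hK) := by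
  intro b
  obtain ⟨a, rfl⟩ := hsurj b
  exact ⟨Ideal.Quotient.mk K a, psi_mk K hK a⟩

omit [IsScalarTower C A B] in
lemma mk_mem_smul_top (v : A) (hv : v ∈ J • (⊤ : Submodule C A)) :
    Ideal.Quotient.mk K v ∈ J • (⊤ : Submodule C (A ⧸ K)) := by
  refine Submodule.smul_induction_on hv ?_ ?_
  · intro j hj v _
    have h1 : Ideal.Quotient.mk K (j • v) = j • Ideal.Quotient.mk K v :=
      map_smul (Ideal.Quotient.mkₐ C K) j v
    rw [h1]
    exact Submodule.smul_mem_smul hj trivial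
  · intro v w hv hw
    rw [map_add]
    exact add_mem hv hw

lemma mem_of_psi_eq_zero (t : A ⧸ K) (ht : psi K hK t = 0) :
    t ∈ J • (⊤ : Submodule C (A ⧸ K)) := by
  obtain ⟨a, rfl⟩ := Ideal.Quotient.mk_surjective t
  rw [psi_mk] at ht
  obtain ⟨y, hy, hay⟩ := hK.2 a ht
  have h1 : Ideal.Quotient.mk K a = Ideal.Quotient.mk K (a - y) := by
    rw [map_sub, Ideal.Quotient.eq_zero_iff_mem.mpr hy, sub_zero]
  rw [h1]
  apply mk_mem_smul_top
  rw [Ideal.smul_top_eq_map]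
  exact hay

/-- `A ⊗ J → (A/K) ⊗ J`. -/
noncomputable def qT : A ⊗[C] J →ₗ[A] (A ⧸ K) ⊗[C] J :=
  AlgebraTensorModule.map (Submodule.mkQ K) (LinearMap.id : J →ₗ[C] J)

/-- `(A/K) ⊗ J → B ⊗ J`. -/
noncomputable def psiT : (A ⧸ K) ⊗[C] J →ₗ[A] B ⊗[C] J :=
  AlgebraTensorModule.map (psi K hK) (LinearMap.id : J →ₗ[C] J)

omit [IsScalarTower C A B] in
lemma qT_tmul (a : A) (j : J) :
    qT (J := J) K (a ⊗ₜ j) = (Ideal.Quotient.mk K a) ⊗ₜ j := by
  simp [qT]

lemma psiT_tmul (t : A ⧸ K) (j : J) : psiT K hK (t ⊗ₜ j) = psi K hK t ⊗ₜ j := by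
  simp [psiT]

lemma psiT_qT (w : A ⊗[C] J) : psiT K hK (qT K w) = rho J B w := by
  induction w using TensorProduct.induction_on with
  | zero => simp
  | tmul a j => rw [qT_tmul, psiT_tmul, psi_mk, rho_tmul]
  | add a b ha hb => simp only [map_add, ha, hb]

omit [IsScalarTower C A B] in
lemma qT_surjective : Function.Surjective (qT (J := J) K) := by
  intro t
  induction t using TensorProduct.induction_on with
  | zero => exact ⟨0, map_zero _⟩
  | tmul x j =>
    obtain ⟨a, rfl⟩ := Ideal.Quotient.mk_surjective x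
    exact ⟨a ⊗ₜ j, qT_tmul K a j⟩
  | add a b ha hb =>
    obtain ⟨a', rfl⟩ := ha
    obtain ⟨b', rfl⟩ := hb
    exact ⟨a' + b', map_add _ _ _⟩

omit [IsScalarTower C A B] in
lemma iota_qT (w : A ⊗[C] J) :
    iota J A (A ⧸ K) (qT K w) = Ideal.Quotient.mk K (iota J A A w) := by
  induction w using TensorProduct.induction_on with
  | zero => simp
  | tmul a j =>
    rw [qT_tmul, iota_tmul, iota_tmul]
    exact (map_smul (Ideal.Quotient.mkₐ C K) (j : C) a).symm
  | add a b ha hb => simp only [map_add, ha, hb]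

lemma psiT_eq (t : (A ⧸ K) ⊗[C] J) :
    psiT K hK t = ((psi K hK).restrictScalars C).rTensor J t := by
  induction t using TensorProduct.induction_on with
  | zero => simp
  | tmul x j =>
    rw [psiT_tmul, LinearMap.rTensor_tmul]
    rfl
  | add a b ha hb => simp only [map_add, ha, hb]

lemma psiT_injective (hJJ : J * J = ⊥) (hsurj : Function.Surjective (algebraMap A B)) :
    Function.Injective (psiT K hK) := by
  have h := rTensor_injective_of_ker_le J hJJ ((psi K hK).restrictScalars C)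
    (psi_surjective K hK hsurj) (fun y hy => mem_of_psi_eq_zero K hK y hy)
  intro s t hst
  rw [psiT_eq, psiT_eq] at hst
  exact h hst

include hK in
lemma iota_mem_of_rho_eq_zero (hJJ : J * J = ⊥) (hsurj : Function.Surjective (algebraMap A B))
    (w : A ⊗[C] J) (hw : rho J B w = 0) : iota J A A w ∈ K := by
  rw [← psiT_qT K hK] at hw
  have h1 : qT K w = 0 := psiT_injective K hK hJJ hsurj (hw.trans (map_zero _).symm)
  have h2 := iota_qT K w
  rw [h1, map_zero] at h2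
  exact Ideal.Quotient.eq_zero_iff_mem.mp h2.symm

include hK in
theorem flat_of_isLift [Module.Flat C A] [Module (C ⧸ J) B] [IsScalarTower C (C ⧸ J) B]
    [Module.Flat (C ⧸ J) B]
    (hJJ : J * J = ⊥) (hsurj : Function.Surjective (algebraMap A B))
    (hV : ∀ u ∈ K, u ∈ J.map (algebraMap C A) →
      ∃ z : A ⊗[C] J, iota J A A z = u ∧ rho J B z = 0) :
    Module.Flat C (A ⧸ K) := by
  have hnil : IsNilpotent J := ⟨2, by rw [pow_two, hJJ]; rfl⟩
  obtain ⟨ψ, hψ⟩ : ∃ ψ : (A ⧸ K) →ₗ[C] B, ∀ t, ψ t = psi K hK t :=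
    ⟨(psi K hK).restrictScalars C, fun _ => rfl⟩
  have hbij : Function.Bijective (LinearMap.liftBaseChange (C ⧸ J) ψ) := by
    constructor
    · rw [injective_iff_map_eq_zero]
      intro t ht
      obtain ⟨m, rfl⟩ := Groth.Agent.Lib.NakayamaBC_helper9.mk_one_surjective J (A ⧸ K) t
      rw [TensorProduct.mk_apply] at ht ⊢
      rw [LinearMap.liftBaseChange_tmul, one_smul, hψ] at ht
      rw [Groth.Agent.Lib.NakayamaBC_helper9.one_tmul_eq_zero_iff]
      exact mem_of_psi_eq_zero K hK m ht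
    · intro b
      obtain ⟨a, rfl⟩ := hsurj b
      refine ⟨(1 : C ⧸ J) ⊗ₜ Ideal.Quotient.mk K a, ?_⟩
      rw [LinearMap.liftBaseChange_tmul, one_smul, hψ, psi_mk]
  haveI : Module.Flat (C ⧸ J) ((C ⧸ J) ⊗[C] (A ⧸ K)) :=
    Module.Flat.of_linearEquiv (LinearEquiv.ofBijective _ hbij)
  refine Groth.Agent.Lib.LocalCrit2.flat_of_nilpotent J hnil (A ⧸ K) ?_
  rw [← LinearMap.lTensor_inj_iff_rTensor_inj, injective_iff_map_eq_zero]
  intro t ht
  have h0 : iota J A (A ⧸ K) t = 0 := by rw [iota_eq, ht, map_zero]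
  obtain ⟨z, rfl⟩ := qT_surjective K t
  rw [iota_qT] at h0
  have hu : iota J A A z ∈ K := Ideal.Quotient.eq_zero_iff_mem.mp h0
  have hu' : iota J A A z ∈ J.map (algebraMap C A) := by
    have h5 := iota_mem J A A z
    rw [Ideal.smul_top_eq_map] at h5
    exact h5
  obtain ⟨z', hz', hz'0⟩ := hV _ hu hu'
  have hzz : z = z' := iota_injective J A A hz'.symm
  have h1 : psiT K hK (qT K z) = 0 := by rw [psiT_qT, hzz, hz'0]
  exact psiT_injective K hK hJJ hsurj (h1.trans (map_zero _).symm)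

end lift

section main65

variable (C' : Type u) [CommRing C'] (J : Ideal C') (A' : Type u) [CommRing A'] [Algebra C' A']
  [Module.Flat C' A']
  (I : Ideal (A' ⧸ J.map (algebraMap C' A')))
  (I' : Ideal A') [Module.Flat C' (A' ⧸ I')]
  (hI' : I'.map (Ideal.Quotient.mk (J.map (algebraMap C' A'))) = I)
  (φ : ↥I →ₗ[A'] (((A' ⧸ J.map (algebraMap C' A')) ⧸ I) ⊗[C'] ↥J))

local notation "mkJ" => Ideal.Quotient.mk (Ideal.map (algebraMap C' A') J)
local notation "BB" => ((A' ⧸ Ideal.map (algebraMap C' A') J) ⧸ I)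

omit [Module.Flat C' A'] in
lemma algebraMap_B_eq (a : A') : algebraMap A' BB a = Ideal.Quotient.mk I (mkJ a) := rfl

omit [Module.Flat C' A'] in
lemma algebraMap_B_surjective : Function.Surjective (algebraMap A' BB) := by
  intro b
  obtain ⟨x, rfl⟩ := Ideal.Quotient.mk_surjective b
  obtain ⟨a, rfl⟩ := Ideal.Quotient.mk_surjective x
  exact ⟨a, rfl⟩

omit [Module.Flat C' A'] in
lemma algebraMap_B_eq_zero_iff (a : A') : algebraMap A' BB a = 0 ↔ mkJ a ∈ I := by
  rw [algebraMap_B_eq, Ideal.Quotient.eq_zero_iff_mem]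

omit [Module.Flat C' A'] in
lemma isLift_of_map_eq (K : Ideal A') (hK : K.map mkJ = I) : IsLift J A' BB K := by
  constructor
  · intro y hy
    rw [algebraMap_B_eq_zero_iff, ← hK]
    exact Ideal.mem_map_of_mem _ hy
  · intro a ha
    rw [algebraMap_B_eq_zero_iff, ← hK] at ha
    obtain ⟨y, hy, hya⟩ :=
      (Ideal.mem_map_iff_of_surjective _ Ideal.Quotient.mk_surjective).mp ha
    refine ⟨y, hy, ?_⟩
    rw [← Ideal.Quotient.eq_zero_iff_mem, map_sub, hya, sub_self]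

omit [Module.Flat C' A'] in
lemma mk_iota (z : A' ⊗[C'] J) : mkJ (iota J A' A' z) = 0 := by
  rw [Ideal.Quotient.eq_zero_iff_mem]
  have h := iota_mem J A' A' z
  rw [Ideal.smul_top_eq_map] at h
  exact h

/-- the translate of `I'` by `φ`. -/
def I2 : Ideal A' where
  carrier := {x'' | ∃ x : I, ∃ x' ∈ I', mkJ x' = (x : A' ⧸ Ideal.map (algebraMap C' A') J) ∧
    ∃ z : A' ⊗[C'] J, iota J A' A' z = x'' - x' ∧ rho J BB z = φ x}
  zero_mem' := ⟨0, 0, I'.zero_mem, by simp, 0, by simp, by simp⟩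
  add_mem' := by
    rintro a b ⟨x, x', hx', e, z, hz, hw⟩ ⟨y, y', hy', e', z', hz', hw'⟩
    refine ⟨x + y, x' + y', I'.add_mem hx' hy', ?_, z + z', ?_, ?_⟩
    · rw [map_add, e, e', Submodule.coe_add]
    · rw [map_add, hz, hz']
      ring
    · rw [map_add, map_add, hw, hw']
  smul_mem' := by
    rintro a b ⟨x, x', hx', e, z, hz, hw⟩
    have hc : ((a • x : I) : A' ⧸ J.map (algebraMap C' A')) =
        mkJ a * (x : A' ⧸ J.map (algebraMap C' A')) := by
      rw [Submodule.coe_smul_of_tower, Algebra.smul_def]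
      rfl
    refine ⟨a • x, a * x', I'.mul_mem_left a hx', ?_, a • z, ?_, ?_⟩
    · rw [map_mul, e, hc]
    · rw [map_smul, hz, smul_eq_mul, smul_eq_mul]
      ring
    · rw [map_smul, map_smul, hw]

include hI' in
omit [Module.Flat C' A'] [Module.Flat C' (A' ⧸ I')] in
lemma I2_map : (I2 C' J A' I I' φ).map mkJ = I := by
  apply le_antisymm
  · rw [Ideal.map_le_iff_le_comap]
    rintro x'' ⟨x, x', hx', e, z, hz, hw⟩
    rw [Ideal.mem_comap]
    have h1 : x'' = x' + iota J A' A' z := by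
      rw [hz]
      ring
    rw [h1, map_add, e, mk_iota, add_zero]
    exact x.2
  · intro x hx
    have hx1 : x ∈ I'.map mkJ := by
      rw [hI']
      exact hx
    obtain ⟨x', hx', e⟩ :=
      (Ideal.mem_map_iff_of_surjective _ Ideal.Quotient.mk_surjective).mp hx1
    obtain ⟨z, hz⟩ := rho_surjective J A' BB (algebraMap_B_surjective C' J A' I) (φ ⟨x, hx⟩)
    have hmem : x' + iota J A' A' z ∈ I2 C' J A' I I' φ :=
      ⟨⟨x, hx⟩, x', hx', e, z, by ring, hz⟩
    have h2 := Ideal.mem_map_of_mem mkJ hmem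
    rw [map_add, e, mk_iota, add_zero] at h2
    exact h2

include hI' in
lemma I2_rel (x : A' ⧸ J.map (algebraMap C' A')) (hx : x ∈ I) (x' x'' : A') (hx' : x' ∈ I')
    (hx'' : x'' ∈ I2 C' J A' I I' φ) (e' : mkJ x' = x) (e'' : mkJ x'' = x) (z : A' ⊗[C'] J)
    (hz : iota J A' A' z = x'' - x') : rho J BB z = φ ⟨x, hx⟩ := by
  obtain ⟨x₁, x₁', hx₁', e₁, z₁, hz₁, hw₁⟩ := hx''
  have hx₁x : x₁ = ⟨x, hx⟩ := by
    apply Subtype.ext
    have h1 : x'' = x₁' + iota J A' A' z₁ := by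
      rw [hz₁]
      ring
    rw [h1, map_add, e₁, mk_iota, add_zero] at e''
    exact e''
  have e₁' : mkJ x₁' = x := by rw [e₁, hx₁x]
  obtain ⟨z₂, hz₂, hz₂0⟩ := exists_of_mem_inter J BB I'
    (isLift_of_map_eq C' J A' I I' hI').1 (x₁' - x') (I'.sub_mem hx₁' hx') (by
      rw [← Ideal.Quotient.eq_zero_iff_mem, map_sub, e₁', e', sub_self])
  have h3 : z = z₁ + z₂ := by
    apply iota_injective J A' A'
    rw [map_add, hz, hz₁, hz₂]
    ring
  rw [h3, map_add, hw₁, hz₂0, add_zero, hx₁x]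

include hI' in
lemma I2_V (u : A') (hu : u ∈ I2 C' J A' I I' φ) (hu' : u ∈ J.map (algebraMap C' A')) :
    ∃ z : A' ⊗[C'] J, iota J A' A' z = u ∧ rho J BB z = 0 := by
  obtain ⟨x, x', hx', e, z₁, hz₁, hw₁⟩ := hu
  have hmu : mkJ u = 0 := Ideal.Quotient.eq_zero_iff_mem.mpr hu'
  have h1 : u = x' + iota J A' A' z₁ := by
    rw [hz₁]
    ring
  have hx0 : (x : A' ⧸ J.map (algebraMap C' A')) = 0 := by
    rw [h1, map_add, e, mk_iota, add_zero] at hmu
    exact hmu
  have hx0' : x = 0 := Subtype.ext hx0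
  obtain ⟨z₂, hz₂, hz₂0⟩ := exists_of_mem_inter J BB I'
    (isLift_of_map_eq C' J A' I I' hI').1 x' hx' (by
      rw [← Ideal.Quotient.eq_zero_iff_mem, e, hx0])
  refine ⟨z₁ + z₂, ?_, ?_⟩
  · rw [map_add, hz₁, hz₂]
    ring
  · rw [map_add, hw₁, hz₂0, hx0', map_zero, add_zero]

include hI' in
omit [Module.Flat C' (A' ⧸ I')] in
lemma le_of_sol (hJJ : J * J = ⊥) (I₁ I₂ : Ideal A') (h₁ : I₁.map mkJ = I) (h₂ : I₂.map mkJ = I)
    (r₁ : ∀ (x : A' ⧸ J.map (algebraMap C' A')) (hx : x ∈ I) (x' x'' : A'), x' ∈ I' → x'' ∈ I₁ →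
      mkJ x' = x → mkJ x'' = x → ∀ z : A' ⊗[C'] J, iota J A' A' z = x'' - x' →
        rho J BB z = φ ⟨x, hx⟩)
    (r₂ : ∀ (x : A' ⧸ J.map (algebraMap C' A')) (hx : x ∈ I) (x' x'' : A'), x' ∈ I' → x'' ∈ I₂ →
      mkJ x' = x → mkJ x'' = x → ∀ z : A' ⊗[C'] J, iota J A' A' z = x'' - x' →
        rho J BB z = φ ⟨x, hx⟩) : I₁ ≤ I₂ := by
  intro x₁ hx₁
  have hxI : mkJ x₁ ∈ I := by
    rw [← h₁]
    exact Ideal.mem_map_of_mem _ hx₁
  have hxa : mkJ x₁ ∈ I'.map mkJ := by
    rw [hI']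
    exact hxI
  have hxb : mkJ x₁ ∈ I₂.map mkJ := by
    rw [h₂]
    exact hxI
  obtain ⟨x', hx', e'⟩ :=
    (Ideal.mem_map_iff_of_surjective _ Ideal.Quotient.mk_surjective).mp hxa
  obtain ⟨x₂, hx₂, e₂⟩ :=
    (Ideal.mem_map_iff_of_surjective _ Ideal.Quotient.mk_surjective).mp hxb
  obtain ⟨z₁, hz₁⟩ := exists_iota_of_mk_eq_zero C' J A' (x₁ - x') (by
    rw [map_sub, e', sub_self])
  obtain ⟨z₂, hz₂⟩ := exists_iota_of_mk_eq_zero C' J A' (x₂ - x') (by
    rw [map_sub, e', e₂, sub_self])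
  have e1 := r₁ _ hxI x' x₁ hx' hx₁ e' rfl z₁ hz₁
  have e2 := r₂ _ hxI x' x₂ hx' hx₂ e' e₂ z₂ hz₂
  have h0 : rho J BB (z₁ - z₂) = 0 := by rw [map_sub, e1, e2, sub_self]
  have h3 := iota_mem_of_rho_eq_zero I₂ (isLift_of_map_eq C' J A' I I₂ h₂) hJJ
    (algebraMap_B_surjective C' J A' I) _ h0
  rw [map_sub, hz₁, hz₂] at h3
  have h4 : x₁ = x₂ + ((x₁ - x') - (x₂ - x')) := by ring
  rw [h4]
  exact I₂.add_mem hx₂ h3

include hI' in
theorem S11465_main (hJJ : J * J = ⊥) [Module.Flat (C' ⧸ J) BB] :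
    ∃! I'' : Ideal A', Module.Flat C' (A' ⧸ I'') ∧
      I''.map (Ideal.Quotient.mk (J.map (algebraMap C' A'))) = I ∧
      (∀ (x : (A' ⧸ J.map (algebraMap C' A'))) (hx : x ∈ I) (x' x'' : A'), x' ∈ I' → x'' ∈ I'' →
          Ideal.Quotient.mk (J.map (algebraMap C' A')) x' = x →
          Ideal.Quotient.mk (J.map (algebraMap C' A')) x'' = x →
          ∀ z : A' ⊗[C'] ↥J,
            TensorProduct.rid C' A' (LinearMap.lTensor A' (Submodule.subtype J) z) = x'' - x' →
            LinearMap.rTensor ↥J (IsScalarTower.toAlgHom C' A'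
              ((A' ⧸ J.map (algebraMap C' A')) ⧸ I)).toLinearMap z = φ ⟨x, hx⟩) := by
  have hmap := I2_map C' J A' I I' hI' φ
  have hrel := I2_rel C' J A' I I' hI' φ
  refine ⟨I2 C' J A' I I' φ, ⟨?_, hmap, ?_⟩, ?_⟩
  · exact flat_of_isLift (I2 C' J A' I I' φ) (isLift_of_map_eq C' J A' I _ hmap) hJJ
      (algebraMap_B_surjective C' J A' I) (I2_V C' J A' I I' hI' φ)
  · intro x hx x' x'' hx' hx'' e' e'' z hz
    rw [← iota_eq J A' A'] at hz
    rw [← rho_eq]
    exact hrel x hx x' x'' hx' hx'' e' e'' z hz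
  · rintro K ⟨_, hKmap, hKrel⟩
    have rK : ∀ (x : A' ⧸ J.map (algebraMap C' A')) (hx : x ∈ I) (x' x'' : A'), x' ∈ I' →
        x'' ∈ K → mkJ x' = x → mkJ x'' = x → ∀ z : A' ⊗[C'] J, iota J A' A' z = x'' - x' →
        rho J BB z = φ ⟨x, hx⟩ := by
      intro x hx x' x'' hx' hx'' e' e'' z hz
      rw [rho_eq]
      exact hKrel x hx x' x'' hx' hx'' e' e'' z (by
        rw [← iota_eq J A' A']
        exact hz)
    apply le_antisymm
    · exact le_of_sol C' J A' I I' hI' φ hJJ K _ hKmap hmap rK hrel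
    · exact le_of_sol C' J A' I I' hI' φ hJJ _ K hmap hKmap hrel rK

theorem S11465_main' [IsLocalRing C'] (hJ : IsLocalRing.maximalIdeal C' * J = ⊥) (hJne : J ≠ ⊤)
    [Module.Flat (C' ⧸ J) BB] (hI' : I'.map (Ideal.Quotient.mk (J.map (algebraMap C' A'))) = I) :
    ∃! I'' : Ideal A', Module.Flat C' (A' ⧸ I'') ∧
      I''.map (Ideal.Quotient.mk (J.map (algebraMap C' A'))) = I ∧
      (∀ (x : (A' ⧸ J.map (algebraMap C' A'))) (hx : x ∈ I) (x' x'' : A'), x' ∈ I' → x'' ∈ I'' →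
          Ideal.Quotient.mk (J.map (algebraMap C' A')) x' = x →
          Ideal.Quotient.mk (J.map (algebraMap C' A')) x'' = x →
          ∀ z : A' ⊗[C'] ↥J,
            TensorProduct.rid C' A' (LinearMap.lTensor A' (Submodule.subtype J) z) = x'' - x' →
            LinearMap.rTensor ↥J (IsScalarTower.toAlgHom C' A'
              ((A' ⧸ J.map (algebraMap C' A')) ⧸ I)).toLinearMap z = φ ⟨x, hx⟩) := by
  have hJJ : J * J = ⊥ := by
    rw [eq_bot_iff, ← hJ]
    exact Ideal.mul_mono_left (IsLocalRing.le_maximalIdeal hJne)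
  exact S11465_main C' J A' I I' hI' φ hJJ

end main65

end Groth.Agent.Lib.DefTTorsH4
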