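import Mathlib
import Groth.Agent.Lib.DefTTors_helper4

/-!
# Infinitesimal automorphisms of a flat extension (affine case)
-/

namespace Groth.Agent.Lib.DefTAutH4

open IsLocalRing Submodule TensorProduct Groth.Agent.Lib.DefTTorsH4
open scoped Pointwise

universe u

section gen

variable {C : Type u} [CommRing C] (𝔞 J : Ideal C) (h𝔞J : 𝔞 * J = ⊥)

include h𝔞J in
lemma smul_coe_eq_zero (c : C) (hc : c ∈ 𝔞) (j : J) : c • j = 0 := by
  apply Subtype.ext
  rw [Submodule.coe_smul, smul_eq_mul, Submodule.coe_zero]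
  have h1 : c * (j : C) ∈ 𝔞 * J := Ideal.mul_mem_mul hc j.2
  rw [h𝔞J] at h1
  exact h1

include h𝔞J in
lemma tmul_eq_zero_of_mem {N : Type u} [AddCommGroup N] [Module C N] (v : N)
    (hv : v ∈ 𝔞 • (⊤ : Submodule C N)) (j : J) : v ⊗ₜ[C] j = 0 := by
  revert j
  refine Submodule.smul_induction_on hv ?_ ?_
  · intro c hc v' _ j
    rw [TensorProduct.smul_tmul, smul_coe_eq_zero 𝔞 J h𝔞J c hc j, TensorProduct.tmul_zero]
  · intro v w hv hw j
    rw [TensorProduct.add_tmul, hv j, hw j, add_zero]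

include h𝔞J in
lemma rTensor_injective_of_ker_le' {N Q : Type u} [AddCommGroup N] [Module C N] [AddCommGroup Q]
    [Module C Q] (p : N →ₗ[C] Q) (hp : Function.Surjective p)
    (hker : ∀ y, p y = 0 → y ∈ 𝔞 • (⊤ : Submodule C N)) : Function.Injective (p.rTensor J) := by
  have hex := rTensor_exact J (LinearMap.exact_subtype_ker_map p) hp
  rw [injective_iff_map_eq_zero]
  intro t ht
  obtain ⟨w, rfl⟩ := (hex t).mp ht
  clear ht
  induction w using TensorProduct.induction_on with
  | zero => simp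
  | tmul y j =>
    rw [LinearMap.rTensor_tmul, Submodule.subtype_apply]
    exact tmul_eq_zero_of_mem 𝔞 J h𝔞J (y : N) (hker y (LinearMap.mem_ker.mp y.2)) j
  | add a b ha hb => rw [map_add, ha, hb, add_zero]

include h𝔞J in
lemma smul_eq_zero_of_mem {N : Type u} [AddCommGroup N] [Module C N] (c : C) (hc : c ∈ 𝔞) (v : N)
    (hv : v ∈ J • (⊤ : Submodule C N)) : c • v = 0 := by
  refine Submodule.smul_induction_on hv ?_ ?_
  · intro j hj v' _
    rw [smul_smul]
    have h1 : c * j ∈ 𝔞 * J := Ideal.mul_mem_mul hc hj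
    rw [h𝔞J] at h1
    rw [Ideal.mem_bot.mp h1, zero_smul]
  · intro v w hv hw
    rw [smul_add, hv, hw, add_zero]

lemma exists_factor {R : Type u} [CommRing R] {X Y Z : Type u} [AddCommGroup X] [AddCommGroup Y]
    [AddCommGroup Z] [Module R X] [Module R Y] [Module R Z]
    (ι : Y →ₗ[R] X) (hι : Function.Injective ι) (δ : Z →ₗ[R] X)
    (hδ : ∀ x, δ x ∈ LinearMap.range ι) :
    ∃ κ : Z →ₗ[R] Y, ∀ x, ι (κ x) = δ x := by
  refine ⟨(LinearEquiv.ofInjective ι hι).symm.toLinearMap ∘ₗ
    δ.codRestrict (LinearMap.range ι) hδ, fun x => ?_⟩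
  have h1 := (LinearEquiv.ofInjective ι hι).apply_symm_apply
    (δ.codRestrict (LinearMap.range ι) hδ x)
  have h2 : ((LinearEquiv.ofInjective ι hι) ((LinearEquiv.ofInjective ι hι).symm
      (δ.codRestrict (LinearMap.range ι) hδ x)) : X) = δ x := by
    rw [h1]
    rfl
  rw [LinearEquiv.ofInjective_apply] at h2
  exact h2

end gen

section main69

variable (C' : Type u) [CommRing C'] [IsLocalRing C'] (J : Ideal C')
  (A' : Type u) [CommRing A'] [Algebra C' A'] (M' : Type u) [AddCommGroup M'] [Module A' M']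
  [Module C' M'] [IsScalarTower C' A' M']

local notation "𝔪M" =>
  ((Ideal.map (algebraMap C' A') (IsLocalRing.maximalIdeal C')) • (⊤ : Submodule A' M'))
local notation "M₀" =>
  (M' ⧸ ((Ideal.map (algebraMap C' A') (IsLocalRing.maximalIdeal C')) • (⊤ : Submodule A' M')))

omit [IsLocalRing C'] in
lemma restrict_smul_top (𝔞 : Ideal C') :
    ((𝔞.map (algebraMap C' A')) • (⊤ : Submodule A' M')).restrictScalars C' =
      𝔞 • (⊤ : Submodule C' M') := by
  have h := Ideal.smul_restrictScalars 𝔞 (⊤ : Submodule A' M')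
  rwa [Submodule.restrictScalars_top] at h

omit [IsLocalRing C'] in
lemma mem_iff (𝔞 : Ideal C') (x : M') :
    x ∈ (𝔞.map (algebraMap C' A')) • (⊤ : Submodule A' M') ↔
      x ∈ 𝔞 • (⊤ : Submodule C' M') := by
  rw [← restrict_smul_top C' A' M' 𝔞]
  exact Iff.rfl

/-- `M' ⊗ J → M₀ ⊗ J`. -/
noncomputable def rhoM : M' ⊗[C'] J →ₗ[A'] M₀ ⊗[C'] J :=
  AlgebraTensorModule.map (Submodule.mkQ 𝔪M) (LinearMap.id : J →ₗ[C'] J)

lemma rhoM_tmul (x : M') (j : J) :
    rhoM C' J A' M' (x ⊗ₜ j) = (Submodule.mkQ 𝔪M x) ⊗ₜ j := by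
  simp [rhoM]

lemma rhoM_eq (z : M' ⊗[C'] J) :
    rhoM C' J A' M' z = LinearMap.rTensor J ((Submodule.mkQ 𝔪M).restrictScalars C') z := by
  induction z using TensorProduct.induction_on with
  | zero => simp
  | tmul x j =>
    rw [rhoM_tmul, LinearMap.rTensor_tmul]
    rfl
  | add a b ha hb => simp only [map_add, ha, hb]

lemma rhoM_bijective (hJ : IsLocalRing.maximalIdeal C' * J = ⊥) :
    Function.Bijective (rhoM C' J A' M') := by
  constructor
  · have hker : ∀ y, ((Submodule.mkQ 𝔪M).restrictScalars C') y = 0 →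
        y ∈ (IsLocalRing.maximalIdeal C') • (⊤ : Submodule C' M') := by
      intro y hy
      rw [← mem_iff C' A' M']
      exact (Submodule.Quotient.mk_eq_zero _).mp hy
    have h := rTensor_injective_of_ker_le' (IsLocalRing.maximalIdeal C') J hJ
      ((Submodule.mkQ 𝔪M).restrictScalars C') (Submodule.mkQ_surjective _) hker
    intro s t hst
    rw [rhoM_eq, rhoM_eq] at hst
    exact h hst
  · intro t
    induction t using TensorProduct.induction_on with
    | zero => exact ⟨0, map_zero _⟩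
    | tmul x j =>
      obtain ⟨y, rfl⟩ := Submodule.mkQ_surjective _ x
      exact ⟨y ⊗ₜ j, rhoM_tmul C' J A' M' y j⟩
    | add a b ha hb =>
      obtain ⟨a', rfl⟩ := ha
      obtain ⟨b', rfl⟩ := hb
      exact ⟨a' + b', map_add _ _ _⟩

theorem S11469_main [Module.Flat C' M'] (hJ : IsLocalRing.maximalIdeal C' * J = ⊥)
    (hJne : J ≠ ⊤) :
    (∀ σ : M' →ₗ[A'] M',
      (∀ x : M', σ x - x ∈ (J.map (algebraMap C' A')) • (⊤ : Submodule A' M')) →
      Function.Bijective σ ∧
        ∃! τ : M₀ →ₗ[A'] (M₀ ⊗[C'] ↥J),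
          (∀ (x : M') (z : M' ⊗[C'] ↥J),
            TensorProduct.rid C' M' (LinearMap.lTensor M' (Submodule.subtype J) z) = σ x - x →
            LinearMap.rTensor ↥J ((Submodule.mkQ 𝔪M).restrictScalars C') z =
              τ (Submodule.mkQ _ x))) ∧
    (∀ τ : M₀ →ₗ[A'] (M₀ ⊗[C'] ↥J),
      ∃ σ : M' →ₗ[A'] M',
        (∀ x : M', σ x - x ∈ (J.map (algebraMap C' A')) • (⊤ : Submodule A' M')) ∧
          (∀ (x : M') (z : M' ⊗[C'] ↥J),
            TensorProduct.rid C' M' (LinearMap.lTensor M' (Submodule.subtype J) z) = σ x - x →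
            LinearMap.rTensor ↥J ((Submodule.mkQ 𝔪M).restrictScalars C') z =
              τ (Submodule.mkQ _ x))) := by
  have hJJ : J * J = ⊥ := by
    rw [eq_bot_iff, ← hJ]
    exact Ideal.mul_mono_left (IsLocalRing.le_maximalIdeal hJne)
  have hinj := iota_injective J A' M'
  have hbij := rhoM_bijective C' J A' M' hJ
  constructor
  · intro σ hσ
    have hσ' : ∀ x, σ x - x ∈ J • (⊤ : Submodule C' M') :=
      fun x => (mem_iff C' A' M' J _).mp (hσ x)
    have hδ : ∀ (𝔞 : Ideal C'), 𝔞 * J = ⊥ → ∀ u ∈ 𝔞 • (⊤ : Submodule C' M'), σ u - u = 0 := by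
      intro 𝔞 h𝔞 u hu
      refine Submodule.smul_induction_on hu ?_ ?_
      · intro c hc y _
        have h1 : σ (c • y) - c • y = c • (σ y - y) := by
          rw [LinearMap.map_smul_of_tower, smul_sub]
        rw [h1]
        exact smul_eq_zero_of_mem 𝔞 J h𝔞 c hc _ (hσ' y)
      · intro v w hv hw
        have h1 : σ (v + w) - (v + w) = (σ v - v) + (σ w - w) := by
          rw [map_add]
          abel
        rw [h1, hv, hw, add_zero]
    have hδδ : ∀ x, σ (σ x - x) = σ x - x := fun x => sub_eq_zero.mp (hδ J hJJ _ (hσ' x))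
    have hrange : ∀ x, ∃ z, iota J A' M' z = σ x - x :=
      fun x => exists_iota_eq J A' M' _ (hσ' x)
    refine ⟨⟨?_, ?_⟩, ?_⟩
    · rw [injective_iff_map_eq_zero]
      intro x hx
      have h1 := hδδ x
      rw [hx, zero_sub, map_neg, hx, neg_zero] at h1
      exact neg_eq_zero.mp h1.symm
    · intro y
      refine ⟨y - (σ y - y), ?_⟩
      rw [map_sub, hδδ y]
      abel
    · obtain ⟨κ₀, hκ₀⟩ := exists_factor (iota J A' M') hinj (σ - LinearMap.id) (fun x => by
        rw [LinearMap.sub_apply, LinearMap.id_apply]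
        exact hrange x)
      have hκ₀' : ∀ x, iota J A' M' (κ₀ x) = σ x - x := fun x => by
        rw [hκ₀, LinearMap.sub_apply, LinearMap.id_apply]
      have hle : 𝔪M ≤ LinearMap.ker ((rhoM C' J A' M') ∘ₗ κ₀) := by
        intro y hy
        rw [LinearMap.mem_ker, LinearMap.comp_apply]
        have h1 : κ₀ y = 0 := by
          apply hinj
          rw [hκ₀', map_zero]
          exact hδ _ hJ y ((mem_iff C' A' M' _ y).mp hy)
        rw [h1, map_zero]
      refine ⟨Submodule.liftQ 𝔪M ((rhoM C' J A' M') ∘ₗ κ₀) hle, ?_, ?_⟩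
      · intro x z hz
        rw [← iota_eq J A' M'] at hz
        rw [← rhoM_eq, Submodule.mkQ_apply, Submodule.liftQ_apply, LinearMap.comp_apply]
        have h2 : κ₀ x = z := hinj (by rw [hκ₀', hz])
        rw [h2]
      · intro τ' hτ'
        apply LinearMap.ext
        intro t
        obtain ⟨x, rfl⟩ := Submodule.mkQ_surjective _ t
        obtain ⟨z, hz⟩ := hrange x
        have h1 := hτ' x z (by
          rw [← iota_eq J A' M']
          exact hz)
        rw [← h1, ← rhoM_eq, Submodule.mkQ_apply, Submodule.liftQ_apply, LinearMap.comp_apply]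
        have h2 : κ₀ x = z := hinj (by rw [hκ₀', hz])
        rw [h2]
  · intro τ
    obtain ⟨e, he⟩ : ∃ e : (M₀ ⊗[C'] J) →ₗ[A'] (M' ⊗[C'] J),
        ∀ t, rhoM C' J A' M' (e t) = t :=
      ⟨(LinearEquiv.ofBijective _ hbij).symm.toLinearMap,
        fun t => (LinearEquiv.ofBijective _ hbij).apply_symm_apply t⟩
    refine ⟨LinearMap.id + (iota J A' M') ∘ₗ e ∘ₗ τ ∘ₗ (Submodule.mkQ 𝔪M), ?_, ?_⟩
    · intro x
      rw [LinearMap.add_apply, LinearMap.id_apply, add_sub_cancel_left, mem_iff]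
      exact iota_mem J A' M' _
    · intro x z hz
      rw [← iota_eq J A' M', LinearMap.add_apply, LinearMap.id_apply, add_sub_cancel_left] at hz
      simp only [LinearMap.comp_apply] at hz
      have h2 : z = e (τ (Submodule.mkQ _ x)) := hinj hz
      rw [← rhoM_eq, h2, he]

end main69

end Groth.Agent.Lib.DefTAutH4
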