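import Mathlib

/-!
# The tensor identification `J ⊗_{C'} E' ≃ B₀ ⊗_k J` for a "pre-lift" (helper3)

`C'` a `k`-algebra with augmentation `res' : C' → k`, `J` an ideal killed by `ker res'`.
`E'` a `C'`-algebra with a surjective ring map `ᾱ : E' → B₀` over `res'` whose kernel is `(ker res') E'`.
Then `J ⊗_{C'} E' ≃ B₀ ⊗_k J`, `j ⊗ x ↦ ᾱ x ⊗ j`, and the multiplication map `J ⊗ E' → E'` corresponds to an
additive map `ι : B₀ ⊗_k J → E'` with `ι (ᾱ x ⊗ j) = j • x`.
-/

set_option autoImplicit false
set_option linter.unusedSectionVars false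

universe u

open TensorProduct

namespace Groth.Agent.Lib.DefTorsH3

variable {k : Type u} [Field k] {B₀ : Type u} [CommRing B₀] [Algebra k B₀]
  {C' : Type u} [CommRing C'] [Algebra k C'] (res' : C' →ₐ[k] k) (J : Ideal C')
  (hJ : ∀ a, res' a = 0 → ∀ j ∈ J, a * j = 0)
  {E' : Type u} [CommRing E'] [Algebra C' E'] (al : E' →+* B₀)
  (hals : Function.Surjective al)
  (halγ : ∀ c, al (algebraMap C' E' c) = algebraMap k B₀ (res' c))
  (hker : RingHom.ker al = (RingHom.ker (res' : C' →+* k)).map (algebraMap C' E'))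

include hJ in
theorem smul_eq_res_smul (c : C') (j : J) : c • j = res' c • j := by
  apply Subtype.ext
  show c * (j : C') = res' c • (j : C')
  rw [Algebra.smul_def]
  have h : res' (c - algebraMap k C' (res' c)) = 0 := by
    rw [map_sub, AlgHom.commutes]
    exact sub_self _
  have := hJ _ h j j.2
  rw [sub_mul, sub_eq_zero] at this
  exact this

include hJ hker in
theorem tmul_eq_zero_of_ker (j : J) {x : E'} (hx : al x = 0) :
    (j ⊗ₜ[C'] x : J ⊗[C'] E') = 0 := by
  have hx' : x ∈ (RingHom.ker (res' : C' →+* k)).map (algebraMap C' E') := by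
    rw [← hker]; exact hx
  have key : ∀ y ∈ (RingHom.ker (res' : C' →+* k)).map (algebraMap C' E'),
      ∀ r : E', (j ⊗ₜ[C'] (r * y) : J ⊗[C'] E') = 0 := by
    intro y hy
    refine Submodule.span_induction
      (p := fun y _ => ∀ r : E', (j ⊗ₜ[C'] (r * y) : J ⊗[C'] E') = 0) ?_ ?_ ?_ ?_ hy
    · rintro _ ⟨a, ha, rfl⟩ r
      have h1 : r * algebraMap C' E' a = a • r := by rw [Algebra.smul_def, mul_comm]
      rw [h1, ← TensorProduct.smul_tmul]
      have h2 : a • j = 0 := by
        apply Subtype.ext
        show a * (j : C') = 0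
        exact hJ a ha j j.2
      rw [h2, zero_tmul]
    · intro r
      rw [mul_zero, tmul_zero]
    · intro y z _ _ hy hz r
      rw [mul_add, tmul_add, hy, hz, add_zero]
    · intro r' y _ hy r
      rw [smul_eq_mul, ← mul_assoc]
      exact hy _
  have := key x hx' 1
  rwa [one_mul] at this

/-- `j ⊗ x ↦ ᾱ x ⊗ j`. -/
noncomputable def tau : J ⊗[C'] E' →+ B₀ ⊗[k] J :=
  TensorProduct.liftAddHom
    (AddMonoidHom.mk' (fun j : J => AddMonoidHom.mk' (fun x : E' => (al x ⊗ₜ[k] j : B₀ ⊗[k] J))
      (fun x y => by rw [map_add, add_tmul]))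
      (fun j j' => by
        apply AddMonoidHom.ext
        intro x
        show (al x ⊗ₜ[k] (j + j') : B₀ ⊗[k] J) = al x ⊗ₜ[k] j + al x ⊗ₜ[k] j'
        rw [tmul_add]))
    (by
      intro c j x
      show (al x ⊗ₜ[k] (c • j) : B₀ ⊗[k] J) = al (c • x) ⊗ₜ[k] j
      rw [smul_eq_res_smul res' J hJ, Algebra.smul_def c x, map_mul, halγ, ← Algebra.smul_def,
        TensorProduct.smul_tmul])

theorem tau_tmul (j : J) (x : E') :
    tau res' J hJ al halγ (j ⊗ₜ[C'] x) = al x ⊗ₜ[k] j := rfl

/-- `b ⊗ j ↦ j ⊗ (lift of b)`. -/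
noncomputable def omega : B₀ ⊗[k] J →+ J ⊗[C'] E' :=
  TensorProduct.liftAddHom
    (AddMonoidHom.mk' (fun b : B₀ => AddMonoidHom.mk'
      (fun j : J => (j ⊗ₜ[C'] (Function.surjInv hals b) : J ⊗[C'] E'))
      (fun j j' => by rw [add_tmul]))
      (fun b b' => by
        apply AddMonoidHom.ext
        intro j
        show (j ⊗ₜ[C'] (Function.surjInv hals (b + b')) : J ⊗[C'] E') =
          j ⊗ₜ[C'] (Function.surjInv hals b) + j ⊗ₜ[C'] (Function.surjInv hals b')
        rw [← tmul_add, ← sub_eq_zero, ← tmul_sub]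
        apply tmul_eq_zero_of_ker res' J hJ al hker
        rw [map_sub, map_add, Function.surjInv_eq hals, Function.surjInv_eq hals,
          Function.surjInv_eq hals, sub_self]))
    (by
      intro c b j
      show (j ⊗ₜ[C'] (Function.surjInv hals (c • b)) : J ⊗[C'] E') =
        (c • j) ⊗ₜ[C'] (Function.surjInv hals b)
      have h1 : (c • j : J) = algebraMap k C' c • j := by
        apply Subtype.ext
        show c • (j : C') = algebraMap k C' c * (j : C')
        rw [Algebra.smul_def]
      rw [h1, TensorProduct.smul_tmul, ← sub_eq_zero, ← tmul_sub]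
      apply tmul_eq_zero_of_ker res' J hJ al hker
      rw [map_sub, Function.surjInv_eq hals, Algebra.smul_def (algebraMap k C' c), map_mul, halγ,
        Function.surjInv_eq hals, AlgHom.commutes, Algebra.smul_def]
      exact sub_self _)

theorem omega_tmul (b : B₀) (j : J) :
    omega res' J hJ al hals halγ hker (b ⊗ₜ[k] j) = j ⊗ₜ[C'] (Function.surjInv hals b) := rfl

theorem tau_omega (m : B₀ ⊗[k] J) :
    tau res' J hJ al halγ (omega res' J hJ al hals halγ hker m) = m := by
  induction m using TensorProduct.induction_on with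
  | zero => rw [map_zero, map_zero]
  | tmul b j => rw [omega_tmul, tau_tmul, Function.surjInv_eq hals]
  | add x y hx hy => rw [map_add, map_add, hx, hy]

theorem omega_tau (z : J ⊗[C'] E') :
    omega res' J hJ al hals halγ hker (tau res' J hJ al halγ z) = z := by
  induction z using TensorProduct.induction_on with
  | zero => rw [map_zero, map_zero]
  | tmul j x =>
    rw [tau_tmul, omega_tmul, ← sub_eq_zero, ← tmul_sub]
    apply tmul_eq_zero_of_ker res' J hJ al hker
    rw [map_sub, Function.surjInv_eq hals, sub_self]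
  | add x y hx hy => rw [map_add, map_add, hx, hy]

/-- The multiplication map `J ⊗ E' → E'`. -/
noncomputable def mulMap : J ⊗[C'] E' →ₗ[C'] E' :=
  (TensorProduct.lid C' E').toLinearMap ∘ₗ (J.subtype.rTensor E')

theorem mulMap_tmul (j : J) (x : E') : mulMap J (j ⊗ₜ[C'] x) = algebraMap C' E' (j : C') * x := by
  show (TensorProduct.lid C' E') ((J.subtype.rTensor E') (j ⊗ₜ[C'] x)) = _
  rw [LinearMap.rTensor_tmul, TensorProduct.lid_tmul, Submodule.subtype_apply, Algebra.smul_def]

/-- `ι : B₀ ⊗_k J → E'`. -/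
noncomputable def iotaGen : B₀ ⊗[k] J →+ E' :=
  (mulMap (E' := E') J).toAddMonoidHom.comp (omega res' J hJ al hals halγ hker)

theorem iotaGen_tau (z : J ⊗[C'] E') :
    iotaGen res' J hJ al hals halγ hker (tau res' J hJ al halγ z) = mulMap J z := by
  show mulMap J (omega res' J hJ al hals halγ hker (tau res' J hJ al halγ z)) = _
  rw [omega_tau]

theorem iotaGen_tmul (x : E') (j : J) :
    iotaGen res' J hJ al hals halγ hker (al x ⊗ₜ[k] j) = algebraMap C' E' (j : C') * x := by
  rw [← tau_tmul res' J hJ al halγ, iotaGen_tau, mulMap_tmul]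

theorem iotaGen_injective_iff :
    Function.Injective (iotaGen res' J hJ al hals halγ hker) ↔
      Function.Injective (J.subtype.rTensor E') := by
  have hω : Function.Bijective (omega res' J hJ al hals halγ hker) := by
    constructor
    · intro m m' h
      have := congrArg (tau res' J hJ al halγ) h
      rwa [tau_omega, tau_omega] at this
    · intro z
      exact ⟨tau res' J hJ al halγ z, omega_tau res' J hJ al hals halγ hker z⟩
  constructor
  · intro h z z' hzz'
    obtain ⟨m, rfl⟩ := hω.2 z
    obtain ⟨m', rfl⟩ := hω.2 z'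
    congr 1
    apply h
    show mulMap J _ = mulMap J _
    show (TensorProduct.lid C' E') _ = (TensorProduct.lid C' E') _
    rw [hzz']
  · intro h m m' hmm'
    apply hω.1
    apply h
    exact (TensorProduct.lid C' E').injective hmm'

end Groth.Agent.Lib.DefTorsH3
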