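import Mathlib
import Groth.Agent.Lib.DefTors1_helper3

/-!
# Liftings of a flat deformation along a surjection with kernel killed by the maximal ideal (helper3)

The ring-level setting, the structure `Lift`, the kernel identification `ι : B₀ ⊗_k J → E'` of a lift
and equivalences of lifts.
-/

set_option autoImplicit false
set_option linter.unusedSectionVars false

universe u

open TensorProduct

namespace Groth.Agent.Lib.DefTorsH3

variable {k : Type u} [Field k] {B₀ : Type u} [CommRing B₀] [Algebra k B₀]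
  {C' C : Type u} [CommRing C'] [CommRing C] [Algebra k C'] [Algebra k C]
  (res' : C' →ₐ[k] k) (res : C →ₐ[k] k) (p : C' →ₐ[k] C)
  {E : Type u} [CommRing E] (γ : C →+* E) (α : E →+* B₀)

/-- The fixed data. -/
structure IsSetting : Prop where
  hres : ∀ c, res (p c) = res' c
  hp : Function.Surjective p
  hJ : ∀ a, res' a = 0 → ∀ j ∈ RingHom.ker p, a * j = 0
  hflat : γ.Flat
  hα : Function.Surjective α
  hkerα : RingHom.ker α = (RingHom.ker (res : C →+* k)).map γ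
  hcomp : ∀ c, α (γ c) = algebraMap k B₀ (res c)

/-- A lifting of `(E, γ)` along `p : C' → C`. -/
structure Lift where
  E' : Type u
  [ring : CommRing E']
  γ' : C' →+* E'
  π : E' →+* E
  flat : γ'.Flat
  π_surj : Function.Surjective π
  π_γ' : ∀ c, π (γ' c) = γ (p c)
  ker_π : RingHom.ker π = (RingHom.ker p).map γ'

namespace Lift

variable {p γ}

instance (Λ : Lift p γ) : CommRing Λ.E' := Λ.ring

noncomputable instance (Λ : Lift p γ) : Algebra C' Λ.E' := Λ.γ'.toAlgebra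

theorem algebraMap_eq (Λ : Lift p γ) : algebraMap C' Λ.E' = Λ.γ' := rfl

instance (Λ : Lift p γ) : Module.Flat C' Λ.E' := Λ.flat

/-- equivalences of lifts -/
structure Equiv (Λ₁ Λ₂ : Lift p γ) where
  toRingEquiv : Λ₁.E' ≃+* Λ₂.E'
  map_γ' : ∀ c, toRingEquiv (Λ₁.γ' c) = Λ₂.γ' c
  map_π : ∀ x, Λ₂.π (toRingEquiv x) = Λ₁.π x

def Equiv.refl (Λ : Lift p γ) : Equiv Λ Λ := ⟨RingEquiv.refl _, fun _ => rfl, fun _ => rfl⟩

def Equiv.symm {Λ₁ Λ₂ : Lift p γ} (e : Equiv Λ₁ Λ₂) : Equiv Λ₂ Λ₁ :=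
  ⟨e.toRingEquiv.symm,
    fun c => by rw [RingEquiv.symm_apply_eq]; exact (e.map_γ' c).symm,
    fun x => by
      conv_rhs => rw [← e.toRingEquiv.apply_symm_apply x]
      exact (e.map_π _).symm⟩

def Equiv.trans {Λ₁ Λ₂ Λ₃ : Lift p γ} (e : Equiv Λ₁ Λ₂) (f : Equiv Λ₂ Λ₃) : Equiv Λ₁ Λ₃ :=
  ⟨e.toRingEquiv.trans f.toRingEquiv,
    fun c => by rw [RingEquiv.trans_apply, e.map_γ', f.map_γ'],
    fun x => by rw [RingEquiv.trans_apply, f.map_π, e.map_π]⟩

/-- the augmentation of a lift to `B₀` -/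
def al (Λ : Lift p γ) : Λ.E' →+* B₀ := α.comp Λ.π

variable {α}

variable {res' res}

section Facts

variable (hS : IsSetting res' res p γ α) (Λ : Lift p γ)
include hS

theorem al_surj : Function.Surjective (al α Λ) := hS.hα.comp Λ.π_surj

theorem al_γ' (c : C') : al α Λ (Λ.γ' c) = algebraMap k B₀ (res' c) := by
  show α (Λ.π (Λ.γ' c)) = _
  rw [Λ.π_γ', hS.hcomp, hS.hres]

theorem al_algebraMap (c : C') : al α Λ (algebraMap C' Λ.E' c) = algebraMap k B₀ (res' c) :=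
  al_γ' hS Λ c

theorem ker_le_ker_res' : RingHom.ker p ≤ RingHom.ker (res' : C' →+* k) := by
  intro j hj
  rw [RingHom.mem_ker] at hj ⊢
  show res' j = 0
  rw [← hS.hres, hj, map_zero]

theorem ker_al : RingHom.ker (al α Λ) = (RingHom.ker (res' : C' →+* k)).map (algebraMap C' Λ.E') := by
  apply le_antisymm
  · intro x hx
    have h1 : Λ.π x ∈ RingHom.ker α := hx
    have h2 : (RingHom.ker (res : C →+* k)).map γ =
        ((RingHom.ker (res' : C' →+* k)).map Λ.γ').map Λ.π := by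
      rw [Ideal.map_map]
      have h3 : Λ.π.comp Λ.γ' = γ.comp (p : C' →+* C) := RingHom.ext Λ.π_γ'
      rw [h3, ← Ideal.map_map]
      congr 1
      apply le_antisymm
      · intro c hc
        obtain ⟨c', rfl⟩ := hS.hp c
        refine Ideal.mem_map_of_mem _ ?_
        rw [RingHom.mem_ker] at hc ⊢
        show res' c' = 0
        rw [← hS.hres]
        exact hc
      · rw [Ideal.map_le_iff_le_comap]
        intro c' hc'
        rw [Ideal.mem_comap, RingHom.mem_ker]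
        show res (p c') = 0
        rw [hS.hres]
        exact hc'
    rw [hS.hkerα, h2] at h1
    obtain ⟨y, hy, hyx⟩ := (Ideal.mem_map_iff_of_surjective Λ.π Λ.π_surj).1 h1
    have h4 : x - y ∈ RingHom.ker Λ.π := by
      rw [RingHom.mem_ker, map_sub, hyx, sub_self]
    rw [Λ.ker_π] at h4
    have h5 : x - y ∈ (RingHom.ker (res' : C' →+* k)).map Λ.γ' :=
      Ideal.map_mono (ker_le_ker_res' hS) h4
    have : x = (x - y) + y := by ring
    rw [this]
    exact Ideal.add_mem _ h5 hy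
  · rw [Ideal.map_le_iff_le_comap]
    intro c hc
    rw [Ideal.mem_comap, RingHom.mem_ker, al_algebraMap hS]
    have hc' : res' c = 0 := hc
    rw [hc', map_zero]

/-- the kernel identification `ι : B₀ ⊗_k J → E'`. -/
noncomputable def ι : B₀ ⊗[k] (RingHom.ker p) →+ Λ.E' :=
  iotaGen res' (RingHom.ker p) hS.hJ (al α Λ) (al_surj hS Λ) (al_algebraMap hS Λ) (ker_al hS Λ)

theorem ι_tmul (x : Λ.E') (j : RingHom.ker p) :
    ι hS Λ (al α Λ x ⊗ₜ[k] j) = Λ.γ' (j : C') * x :=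
  iotaGen_tmul res' (RingHom.ker p) hS.hJ (al α Λ) (al_surj hS Λ) (al_algebraMap hS Λ)
    (ker_al hS Λ) x j

theorem ι_injective : Function.Injective (ι hS Λ) := by
  refine (iotaGen_injective_iff res' (RingHom.ker p) hS.hJ (al α Λ) (al_surj hS Λ)
    (al_algebraMap hS Λ) (ker_al hS Λ)).2 ?_
  exact Module.Flat.rTensor_preserves_injective_linearMap _ Subtype.val_injective

theorem π_ι (m : B₀ ⊗[k] (RingHom.ker p)) : Λ.π (ι hS Λ m) = 0 := by
  induction m using TensorProduct.induction_on with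
  | zero => rw [map_zero, map_zero]
  | tmul b j =>
    obtain ⟨x, rfl⟩ := al_surj hS Λ b
    rw [ι_tmul, map_mul, Λ.π_γ']
    have : p (j : C') = 0 := j.2
    rw [this, map_zero, zero_mul]
  | add x y hx hy => rw [map_add, map_add, hx, hy, add_zero]

theorem mul_ι (x : Λ.E') (m : B₀ ⊗[k] (RingHom.ker p)) :
    x * ι hS Λ m = ι hS Λ (al α Λ x • m) := by
  induction m using TensorProduct.induction_on with
  | zero => rw [map_zero, mul_zero, smul_zero, map_zero]
  | tmul b j =>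
    obtain ⟨y, rfl⟩ := al_surj hS Λ b
    rw [TensorProduct.smul_tmul', smul_eq_mul, ← map_mul, ι_tmul, ι_tmul]
    ring
  | add y z hy hz => rw [map_add, mul_add, hy, hz, smul_add, map_add]

theorem exists_ι_eq {x : Λ.E'} (hx : Λ.π x = 0) : ∃ m, ι hS Λ m = x := by
  have hx' : x ∈ (RingHom.ker p).map Λ.γ' := by rw [← Λ.ker_π]; exact hx
  refine Submodule.span_induction (p := fun x _ => ∃ m, ι hS Λ m = x) ?_ ?_ ?_ ?_ hx'
  · rintro _ ⟨j, hj, rfl⟩
    refine ⟨al α Λ 1 ⊗ₜ[k] ⟨j, hj⟩, ?_⟩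
    rw [ι_tmul, mul_one]
  · exact ⟨0, map_zero _⟩
  · rintro x y _ _ ⟨m, rfl⟩ ⟨n, rfl⟩
    exact ⟨m + n, map_add _ _ _⟩
  · rintro r x _ ⟨m, rfl⟩
    exact ⟨al α Λ r • m, by rw [smul_eq_mul, mul_ι]⟩

theorem γ'_mul_ι (c : C') (m : B₀ ⊗[k] (RingHom.ker p)) :
    Λ.γ' c * ι hS Λ m = ι hS Λ (res' c • m) := by
  rw [mul_ι, al_γ' hS, algebraMap_smul]

end Facts

section Hom

variable (hS : IsSetting res' res p γ α) {Λ₁ Λ₂ : Lift p γ}
include hS

theorem hom_ι (f : Λ₁.E' →+* Λ₂.E') (hγ : ∀ c, f (Λ₁.γ' c) = Λ₂.γ' c)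
    (hπ : ∀ x, Λ₂.π (f x) = Λ₁.π x) (m : B₀ ⊗[k] (RingHom.ker p)) :
    f (ι hS Λ₁ m) = ι hS Λ₂ m := by
  induction m using TensorProduct.induction_on with
  | zero => rw [map_zero, map_zero, map_zero]
  | tmul b j =>
    obtain ⟨x, rfl⟩ := al_surj hS Λ₁ b
    have h1 : al α Λ₁ x = al α Λ₂ (f x) := by
      show α (Λ₁.π x) = α (Λ₂.π (f x))
      rw [hπ]
    rw [ι_tmul, h1, ι_tmul, map_mul, hγ]
  | add x y hx hy => rw [map_add, map_add, map_add, hx, hy]

theorem equiv_of_hom (f : Λ₁.E' →+* Λ₂.E') (hγ : ∀ c, f (Λ₁.γ' c) = Λ₂.γ' c)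
    (hπ : ∀ x, Λ₂.π (f x) = Λ₁.π x) : Nonempty (Equiv Λ₁ Λ₂) := by
  have hbij : Function.Bijective f := by
    constructor
    · rw [injective_iff_map_eq_zero]
      intro x hx
      have h1 : Λ₁.π x = 0 := by rw [← hπ, hx, map_zero]
      obtain ⟨m, rfl⟩ := exists_ι_eq hS Λ₁ h1
      rw [hom_ι hS f hγ hπ] at hx
      have : m = 0 := ι_injective hS Λ₂ (by rw [hx, map_zero])
      rw [this, map_zero]
    · intro y
      obtain ⟨x, hx⟩ := Λ₁.π_surj (Λ₂.π y)
      have h1 : Λ₂.π (y - f x) = 0 := by rw [map_sub, hπ, hx, sub_self]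
      obtain ⟨m, hm⟩ := exists_ι_eq hS Λ₂ h1
      refine ⟨x + ι hS Λ₁ m, ?_⟩
      rw [map_add, hom_ι hS f hγ hπ, hm]
      ring
  exact ⟨⟨RingEquiv.ofBijective f hbij, hγ, hπ⟩⟩

end Hom

end Lift

end Groth.Agent.Lib.DefTorsH3
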