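import Mathlib
import Groth.Agent.Lib.DefTors2_helper3

/-!
# The key flatness lemma for liftings (helper3)

For a relation `Σ γ(p cᵢ) eᵢ = 0` in `E` with `cᵢ` in the augmentation ideal, the element
`Σ γ'(cᵢ) xᵢ` of the kernel of `π` of any lift (for any lifts `xᵢ` of the `eᵢ`) corresponds under `ι` to an
element `μ` of `B₀ ⊗ J` which does not depend on the lift.
-/

set_option autoImplicit false
set_option linter.unusedSectionVars false

universe u

open TensorProduct

namespace Groth.Agent.Lib.DefTorsH3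

variable {k : Type u} [Field k] {B₀ : Type u} [CommRing B₀] [Algebra k B₀]
  {C' C : Type u} [CommRing C'] [CommRing C] [Algebra k C'] [Algebra k C]
  {res' : C' →ₐ[k] k} {res : C →ₐ[k] k} {p : C' →ₐ[k] C}
  {E : Type u} [CommRing E] {γ : C →+* E} {α : E →+* B₀}

open Lift

theorem exists_mu (hS : IsSetting res' res p γ α) {I : Type*} [Fintype I] (c : I → C')
    (hc : ∀ i, res' (c i) = 0) (e : I → E) (h : ∑ i, γ (p (c i)) * e i = 0) :
    ∃ μ : B₀ ⊗[k] (RingHom.ker p), ∀ (Λ : Lift p γ) (x : I → Λ.E'), (∀ i, Λ.π (x i) = e i) →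
      ∑ i, Λ.γ' (c i) * x i = ι hS Λ μ := by
  letI : Algebra C E := γ.toAlgebra
  haveI : Module.Flat C E := hS.hflat
  obtain ⟨n, a, y, h1, h2⟩ := Module.Flat.isTrivialRelation_of_sum_smul_eq_zero
    (R := C) (M := E) (f := fun i => p (c i)) (x := e) h
  have h1' : ∀ i, e i = ∑ j, γ (a i j) * y j := h1
  choose a' ha' using fun i j => hS.hp (a i j)
  have hd : ∀ j, (∑ i, c i * a' i j) ∈ RingHom.ker p := by
    intro j
    rw [RingHom.mem_ker]
    show p (∑ i, c i * a' i j) = 0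
    rw [map_sum, ← h2 j]
    refine Finset.sum_congr rfl fun i _ => ?_
    rw [map_mul, ha']
  refine ⟨∑ j, α (y j) ⊗ₜ[k] (⟨∑ i, c i * a' i j, hd j⟩ : RingHom.ker p), ?_⟩
  intro Λ x hx
  choose v hv using fun j => Λ.π_surj (y j)
  have hκ : ∀ i, Λ.π (x i - ∑ j, Λ.γ' (a' i j) * v j) = 0 := by
    intro i
    rw [map_sub, map_sum, hx, h1', sub_eq_zero]
    refine Finset.sum_congr rfl fun j _ => ?_
    rw [map_mul, Λ.π_γ', hv, ha']
  choose m hm using fun i => exists_ι_eq hS Λ (hκ i)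
  have hxi : ∀ i, x i = ∑ j, Λ.γ' (a' i j) * v j + ι hS Λ (m i) := by
    intro i
    rw [hm]
    ring
  have e1 : ∑ i, Λ.γ' (c i) * x i =
      ∑ j, Λ.γ' (∑ i, c i * a' i j) * v j + ∑ i, Λ.γ' (c i) * ι hS Λ (m i) := by
    calc ∑ i, Λ.γ' (c i) * x i
        = ∑ i, (∑ j, Λ.γ' (c i * a' i j) * v j + Λ.γ' (c i) * ι hS Λ (m i)) := by
          refine Finset.sum_congr rfl fun i _ => ?_
          conv_lhs => rw [hxi i]
          rw [mul_add, Finset.mul_sum]
          congr 1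
          refine Finset.sum_congr rfl fun j _ => ?_
          rw [map_mul, mul_assoc]
      _ = ∑ i, ∑ j, Λ.γ' (c i * a' i j) * v j + ∑ i, Λ.γ' (c i) * ι hS Λ (m i) :=
          Finset.sum_add_distrib
      _ = ∑ j, ∑ i, Λ.γ' (c i * a' i j) * v j + ∑ i, Λ.γ' (c i) * ι hS Λ (m i) := by
          rw [Finset.sum_comm]
      _ = ∑ j, Λ.γ' (∑ i, c i * a' i j) * v j + ∑ i, Λ.γ' (c i) * ι hS Λ (m i) := by
          congr 1
          refine Finset.sum_congr rfl fun j _ => ?_
          rw [map_sum, Finset.sum_mul]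
  have e2 : ∑ i, Λ.γ' (c i) * ι hS Λ (m i) = 0 := by
    refine Finset.sum_eq_zero fun i _ => ?_
    rw [γ'_mul_ι, hc, zero_smul, map_zero]
  rw [e1, e2, add_zero, map_sum]
  refine Finset.sum_congr rfl fun j _ => ?_
  have h3 : α (y j) = al α Λ (v j) := by
    show α (y j) = α (Λ.π (v j))
    rw [hv]
  rw [h3, ι_tmul]

end Groth.Agent.Lib.DefTorsH3
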