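import Mathlib
import Groth.Prelude.Def_Exal
import Groth.Agent.Lib.DefTors3_helper3

/-!
# The difference of two liftings (helper3)

For two lifts `Λ₁, Λ₂` of `(E, γ)` along `p : C' → C`, the extension `D(Λ₁, Λ₂)` of `B₀` by
`B₀ ⊗_k J` : the fibre product `W = E'₁ ×_E E'₂` modulo the diagonal copy of `B₀ ⊗ J` and `𝔪' W`.
-/

set_option autoImplicit false
set_option linter.unusedSectionVars false

universe u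

open TensorProduct

namespace Groth.Agent.Lib.DefTorsH3

variable {k : Type u} [Field k] {B₀ : Type u} [CommRing B₀] [Algebra k B₀]
  {C' C : Type u} [CommRing C'] [CommRing C] [Algebra k C'] [Algebra k C]
  {res' : C' →ₐ[k] k} {res : C →ₐ[k] k} {p : C' →ₐ[k] C}
  {E : Type u} [CommRing E] {γ : C →+* E} {α : E →+* B₀}

theorem exists_rep {R : Type*} [CommRing R] (κ : C' →+* R) (I : Ideal C') (v : R)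
    (hv : v ∈ Ideal.map κ I) :
    ∃ (T : Type) (_ : Fintype T) (c : T → C') (w : T → R),
      (∀ i, c i ∈ I) ∧ v = ∑ i, κ (c i) * w i := by
  refine Submodule.span_induction (p := fun v _ => ∃ (T : Type) (_ : Fintype T) (c : T → C')
    (w : T → R), (∀ i, c i ∈ I) ∧ v = ∑ i, κ (c i) * w i) ?_ ?_ ?_ ?_ hv
  · rintro _ ⟨c, hc, rfl⟩
    exact ⟨Unit, inferInstance, fun _ => c, fun _ => 1, fun _ => hc, by simp⟩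
  · exact ⟨Empty, inferInstance, Empty.elim, Empty.elim, fun i => i.elim, by simp⟩
  · rintro x y _ _ ⟨T₁, _, c₁, w₁, h₁, rfl⟩ ⟨T₂, _, c₂, w₂, h₂, rfl⟩
    refine ⟨T₁ ⊕ T₂, inferInstance, Sum.elim c₁ c₂, Sum.elim w₁ w₂, ?_, ?_⟩
    · rintro (i | i)
      · exact h₁ i
      · exact h₂ i
    · rw [Fintype.sum_sum_type]
      simp
  · rintro r x _ ⟨T, _, c, w, h, rfl⟩
    refine ⟨T, inferInstance, c, fun i => r * w i, h, ?_⟩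
    rw [smul_eq_mul, Finset.mul_sum]
    refine Finset.sum_congr rfl fun i _ => ?_
    ring

namespace Lift

section Diff

variable (Λ₁ Λ₂ : Lift p γ)

/-- the fibre product ring `E'₁ ×_E E'₂`. -/
def W : Subring (Λ₁.E' × Λ₂.E') :=
  RingHom.eqLocus (Λ₁.π.comp (RingHom.fst Λ₁.E' Λ₂.E')) (Λ₂.π.comp (RingHom.snd Λ₁.E' Λ₂.E'))

def fstW : W Λ₁ Λ₂ →+* Λ₁.E' := (RingHom.fst _ _).comp (W Λ₁ Λ₂).subtype

def sndW : W Λ₁ Λ₂ →+* Λ₂.E' := (RingHom.snd _ _).comp (W Λ₁ Λ₂).subtype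

theorem W_cond (w : W Λ₁ Λ₂) : Λ₁.π (fstW Λ₁ Λ₂ w) = Λ₂.π (sndW Λ₁ Λ₂ w) := w.2

variable {Λ₁ Λ₂} in
def mkW (x₁ : Λ₁.E') (x₂ : Λ₂.E') (h : Λ₁.π x₁ = Λ₂.π x₂) : W Λ₁ Λ₂ := ⟨(x₁, x₂), h⟩

variable {Λ₁ Λ₂} in
@[simp] theorem fstW_mkW (x₁ : Λ₁.E') (x₂ : Λ₂.E') (h : Λ₁.π x₁ = Λ₂.π x₂) :
    fstW Λ₁ Λ₂ (mkW x₁ x₂ h) = x₁ := rfl

variable {Λ₁ Λ₂} in
@[simp] theorem sndW_mkW (x₁ : Λ₁.E') (x₂ : Λ₂.E') (h : Λ₁.π x₁ = Λ₂.π x₂) :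
    sndW Λ₁ Λ₂ (mkW x₁ x₂ h) = x₂ := rfl

variable {Λ₁ Λ₂} in
theorem W_ext {w w' : W Λ₁ Λ₂} (h1 : fstW Λ₁ Λ₂ w = fstW Λ₁ Λ₂ w')
    (h2 : sndW Λ₁ Λ₂ w = sndW Λ₁ Λ₂ w') : w = w' := Subtype.ext (Prod.ext h1 h2)

def κW : C' →+* W Λ₁ Λ₂ :=
  RingHom.codRestrict (Λ₁.γ'.prod Λ₂.γ') (W Λ₁ Λ₂) (fun c => by
    show Λ₁.π (Λ₁.γ' c) = Λ₂.π (Λ₂.γ' c)
    rw [Λ₁.π_γ', Λ₂.π_γ'])

@[simp] theorem fstW_κW (c : C') : fstW Λ₁ Λ₂ (κW Λ₁ Λ₂ c) = Λ₁.γ' c := rfl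

@[simp] theorem sndW_κW (c : C') : sndW Λ₁ Λ₂ (κW Λ₁ Λ₂ c) = Λ₂.γ' c := rfl

variable (hS : IsSetting res' res p γ α)

theorem al_fstW (w : W Λ₁ Λ₂) : al α Λ₁ (fstW Λ₁ Λ₂ w) = al α Λ₂ (sndW Λ₁ Λ₂ w) := by
  show α (Λ₁.π _) = α (Λ₂.π _)
  rw [W_cond]

/-- the diagonal embedding of `B₀ ⊗ J`. -/
noncomputable def δ : B₀ ⊗[k] (RingHom.ker p) →+ W Λ₁ Λ₂ where
  toFun m := mkW (ι hS Λ₁ m) (ι hS Λ₂ m) (by rw [π_ι, π_ι])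
  map_zero' := W_ext (by rw [fstW_mkW, map_zero, map_zero]) (by rw [sndW_mkW, map_zero, map_zero])
  map_add' m n := W_ext (by rw [fstW_mkW, map_add, map_add, fstW_mkW, fstW_mkW])
    (by rw [sndW_mkW, map_add, map_add, sndW_mkW, sndW_mkW])

@[simp] theorem fstW_δ (m : B₀ ⊗[k] (RingHom.ker p)) :
    fstW Λ₁ Λ₂ (δ Λ₁ Λ₂ hS m) = ι hS Λ₁ m := rfl

@[simp] theorem sndW_δ (m : B₀ ⊗[k] (RingHom.ker p)) :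
    sndW Λ₁ Λ₂ (δ Λ₁ Λ₂ hS m) = ι hS Λ₂ m := rfl

/-- the diagonal ideal. -/
noncomputable def Δ : Ideal (W Λ₁ Λ₂) where
  carrier := Set.range (δ Λ₁ Λ₂ hS)
  add_mem' := by
    rintro _ _ ⟨m, rfl⟩ ⟨n, rfl⟩
    exact ⟨m + n, map_add _ _ _⟩
  zero_mem' := ⟨0, map_zero _⟩
  smul_mem' := by
    rintro w _ ⟨m, rfl⟩
    refine ⟨al α Λ₁ (fstW Λ₁ Λ₂ w) • m, ?_⟩
    apply W_ext
    · rw [fstW_δ, smul_eq_mul, map_mul, fstW_δ, mul_ι]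
    · rw [sndW_δ, smul_eq_mul, map_mul, sndW_δ, mul_ι, al_fstW]

theorem mem_Δ (w : W Λ₁ Λ₂) : w ∈ Δ Λ₁ Λ₂ hS ↔ ∃ m, δ Λ₁ Λ₂ hS m = w := Iff.rfl

/-- the ideal defining the difference. -/
noncomputable def K : Ideal (W Λ₁ Λ₂) :=
  Δ Λ₁ Λ₂ hS ⊔ Ideal.map (κW Λ₁ Λ₂) (RingHom.ker (res' : C' →+* k))

theorem mem_K (w : W Λ₁ Λ₂) : w ∈ K Λ₁ Λ₂ hS ↔
    ∃ m, ∃ v ∈ Ideal.map (κW Λ₁ Λ₂) (RingHom.ker (res' : C' →+* k)), δ Λ₁ Λ₂ hS m + v = w := by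
  rw [K, Submodule.mem_sup]
  constructor
  · rintro ⟨y, ⟨m, rfl⟩, v, hv, h⟩
    exact ⟨m, v, hv, h⟩
  · rintro ⟨m, v, hv, h⟩
    exact ⟨_, ⟨m, rfl⟩, v, hv, h⟩

theorem δ_mem_K (m : B₀ ⊗[k] (RingHom.ker p)) : δ Λ₁ Λ₂ hS m ∈ K Λ₁ Λ₂ hS :=
  (le_sup_left : Δ Λ₁ Λ₂ hS ≤ K Λ₁ Λ₂ hS) ⟨m, rfl⟩

theorem map_le_K : Ideal.map (κW Λ₁ Λ₂) (RingHom.ker (res' : C' →+* k)) ≤ K Λ₁ Λ₂ hS :=
  le_sup_right

theorem κW_mem_K {c : C'} (hc : res' c = 0) : κW Λ₁ Λ₂ c ∈ K Λ₁ Λ₂ hS :=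
  map_le_K Λ₁ Λ₂ hS (Ideal.mem_map_of_mem _ hc)

/-- the projection `W → B₀`. -/
def projW : W Λ₁ Λ₂ →+* B₀ := (al α Λ₁).comp (fstW Λ₁ Λ₂)

theorem K_le_ker : K Λ₁ Λ₂ hS ≤ RingHom.ker (projW (α := α) Λ₁ Λ₂) := by
  refine sup_le ?_ ?_
  · rintro _ ⟨m, rfl⟩
    rw [RingHom.mem_ker]
    show α (Λ₁.π (ι hS Λ₁ m)) = 0
    rw [π_ι, map_zero]
  · rw [Ideal.map_le_iff_le_comap]
    intro c hc
    rw [Ideal.mem_comap, RingHom.mem_ker]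
    show al α Λ₁ (Λ₁.γ' c) = 0
    rw [al_γ' hS]
    have : res' c = 0 := hc
    rw [this, map_zero]

/-- carrier of the difference extension -/
def DCarrier : Type u := W Λ₁ Λ₂ ⧸ K Λ₁ Λ₂ hS

noncomputable instance : CommRing (DCarrier Λ₁ Λ₂ hS) :=
  inferInstanceAs (CommRing (W Λ₁ Λ₂ ⧸ K Λ₁ Λ₂ hS))

noncomputable def Dmk : W Λ₁ Λ₂ →+* DCarrier Λ₁ Λ₂ hS := Ideal.Quotient.mk (K Λ₁ Λ₂ hS)

noncomputable instance : Algebra k (DCarrier Λ₁ Λ₂ hS) :=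
  ((Dmk Λ₁ Λ₂ hS).comp ((κW Λ₁ Λ₂).comp (algebraMap k C'))).toAlgebra

theorem algebraMap_D (r : k) :
    algebraMap k (DCarrier Λ₁ Λ₂ hS) r = Dmk Λ₁ Λ₂ hS (κW Λ₁ Λ₂ (algebraMap k C' r)) := rfl

theorem Dmk_surjective : Function.Surjective (Dmk Λ₁ Λ₂ hS) := Ideal.Quotient.mk_surjective

theorem Dmk_eq_zero_iff (w : W Λ₁ Λ₂) : Dmk Λ₁ Λ₂ hS w = 0 ↔ w ∈ K Λ₁ Λ₂ hS :=
  Ideal.Quotient.eq_zero_iff_mem

noncomputable def Dlift {R : Type*} [CommRing R] (f : W Λ₁ Λ₂ →+* R)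
    (hf : ∀ w ∈ K Λ₁ Λ₂ hS, f w = 0) : DCarrier Λ₁ Λ₂ hS →+* R :=
  Ideal.Quotient.lift (K Λ₁ Λ₂ hS) f hf

theorem Dlift_mk {R : Type*} [CommRing R] (f : W Λ₁ Λ₂ →+* R)
    (hf : ∀ w ∈ K Λ₁ Λ₂ hS, f w = 0) (w : W Λ₁ Λ₂) :
    Dlift Λ₁ Λ₂ hS f hf (Dmk Λ₁ Λ₂ hS w) = f w := rfl

theorem Dmk_κW (c : C') :
    Dmk Λ₁ Λ₂ hS (κW Λ₁ Λ₂ c) = algebraMap k (DCarrier Λ₁ Λ₂ hS) (res' c) := by
  rw [algebraMap_D, ← sub_eq_zero, ← map_sub, ← map_sub, Dmk_eq_zero_iff]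
  apply κW_mem_K
  rw [map_sub, AlgHom.commutes, Algebra.algebraMap_self_apply, sub_self]

noncomputable def projD : DCarrier Λ₁ Λ₂ hS →ₐ[k] B₀ where
  toRingHom := Dlift Λ₁ Λ₂ hS (projW Λ₁ Λ₂) (fun w hw => K_le_ker Λ₁ Λ₂ hS hw)
  commutes' r := by
    show Dlift Λ₁ Λ₂ hS (projW Λ₁ Λ₂) _ (algebraMap k (DCarrier Λ₁ Λ₂ hS) r) = _
    rw [algebraMap_D, Dlift_mk]
    show al α Λ₁ (Λ₁.γ' (algebraMap k C' r)) = _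
    rw [al_γ' hS, AlgHom.commutes, Algebra.algebraMap_self_apply]

theorem projD_mk (w : W Λ₁ Λ₂) :
    projD Λ₁ Λ₂ hS (Dmk Λ₁ Λ₂ hS w) = al α Λ₁ (fstW Λ₁ Λ₂ w) := rfl

/-- `m ↦ (0, ι₂ m)` -/
noncomputable def inclW : B₀ ⊗[k] (RingHom.ker p) →+ W Λ₁ Λ₂ where
  toFun m := mkW 0 (ι hS Λ₂ m) (by rw [π_ι, map_zero])
  map_zero' := W_ext (by rw [fstW_mkW, map_zero]) (by rw [sndW_mkW, map_zero, map_zero])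
  map_add' m n := W_ext (by rw [fstW_mkW, map_add, fstW_mkW, fstW_mkW, add_zero])
    (by rw [sndW_mkW, map_add, map_add, sndW_mkW, sndW_mkW])

@[simp] theorem fstW_inclW (m : B₀ ⊗[k] (RingHom.ker p)) :
    fstW Λ₁ Λ₂ (inclW Λ₁ Λ₂ hS m) = 0 := rfl

@[simp] theorem sndW_inclW (m : B₀ ⊗[k] (RingHom.ker p)) :
    sndW Λ₁ Λ₂ (inclW Λ₁ Λ₂ hS m) = ι hS Λ₂ m := rfl

noncomputable def inclD : B₀ ⊗[k] (RingHom.ker p) →+ DCarrier Λ₁ Λ₂ hS :=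
  (Dmk Λ₁ Λ₂ hS : W Λ₁ Λ₂ →+ DCarrier Λ₁ Λ₂ hS).comp (inclW Λ₁ Λ₂ hS)

theorem inclD_apply (m : B₀ ⊗[k] (RingHom.ker p)) :
    inclD Λ₁ Λ₂ hS m = Dmk Λ₁ Λ₂ hS (inclW Λ₁ Λ₂ hS m) := rfl

/-- elements of `𝔪' E'₁` lift to `𝔪' W`. -/
theorem exists_K_fst (x₁ : Λ₁.E')
    (hx : x₁ ∈ Ideal.map Λ₁.γ' (RingHom.ker (res' : C' →+* k))) :
    ∃ v ∈ Ideal.map (κW Λ₁ Λ₂) (RingHom.ker (res' : C' →+* k)), fstW Λ₁ Λ₂ v = x₁ := by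
  refine Submodule.span_induction (p := fun x₁ _ => ∃ v ∈ Ideal.map (κW Λ₁ Λ₂)
    (RingHom.ker (res' : C' →+* k)), fstW Λ₁ Λ₂ v = x₁) ?_ ?_ ?_ ?_ hx
  · rintro _ ⟨c, hc, rfl⟩
    exact ⟨κW Λ₁ Λ₂ c, Ideal.mem_map_of_mem _ hc, rfl⟩
  · exact ⟨0, Ideal.zero_mem _, map_zero _⟩
  · rintro x y _ _ ⟨v, hv, rfl⟩ ⟨v', hv', rfl⟩
    exact ⟨v + v', Ideal.add_mem _ hv hv', map_add _ _ _⟩
  · rintro r x _ ⟨v, hv, rfl⟩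
    obtain ⟨z, hz⟩ := Λ₂.π_surj (Λ₁.π r)
    refine ⟨mkW r z hz.symm * v, Ideal.mul_mem_left _ _ hv, ?_⟩
    rw [map_mul, fstW_mkW, smul_eq_mul]

theorem D_isExtension : Exal.IsExtension (projD Λ₁ Λ₂ hS) (inclD Λ₁ Λ₂ hS) where
  proj_surjective := by
    intro b
    obtain ⟨x₁, rfl⟩ := al_surj hS Λ₁ b
    obtain ⟨x₂, hx₂⟩ := Λ₂.π_surj (Λ₁.π x₁)
    exact ⟨Dmk Λ₁ Λ₂ hS (mkW x₁ x₂ hx₂.symm), rfl⟩
  incl_injective := by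
    rw [injective_iff_map_eq_zero]
    intro m hm
    rw [inclD_apply, Dmk_eq_zero_iff, mem_K] at hm
    obtain ⟨n, v, hv, hnv⟩ := hm
    obtain ⟨T, _, c, w, hc, rfl⟩ := exists_rep _ _ v hv
    have h1 := congrArg (fstW Λ₁ Λ₂) hnv
    have h2 := congrArg (sndW Λ₁ Λ₂) hnv
    rw [map_add, fstW_δ, fstW_inclW, map_sum] at h1
    rw [map_add, sndW_δ, sndW_inclW, map_sum] at h2
    simp only [map_mul, fstW_κW] at h1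
    simp only [map_mul, sndW_κW] at h2
    have hrel : ∑ i, γ (p (c i)) * Λ₁.π (fstW Λ₁ Λ₂ (w i)) = 0 := by
      have h3 := congrArg Λ₁.π h1
      rw [map_add, π_ι, zero_add, map_zero, map_sum] at h3
      rw [← h3]
      refine Finset.sum_congr rfl fun i _ => ?_
      rw [map_mul, Λ₁.π_γ']
    obtain ⟨μ, hμ⟩ := exists_mu hS c (fun i => hc i) (fun i => Λ₁.π (fstW Λ₁ Λ₂ (w i))) hrel
    have e1 := hμ Λ₁ (fun i => fstW Λ₁ Λ₂ (w i)) (fun i => rfl)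
    have e2 := hμ Λ₂ (fun i => sndW Λ₁ Λ₂ (w i)) (fun i => (W_cond Λ₁ Λ₂ (w i)).symm)
    rw [e1, ← map_add] at h1
    rw [e2, ← map_add] at h2
    have h1' : n + μ = 0 := ι_injective hS Λ₁ (by rw [h1, map_zero])
    have h2' : n + μ = m := ι_injective hS Λ₂ h2
    rw [← h2', h1']
  exact := by
    intro x
    constructor
    · intro hx
      obtain ⟨w, rfl⟩ := Dmk_surjective Λ₁ Λ₂ hS x
      rw [projD_mk] at hx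
      have hx' : fstW Λ₁ Λ₂ w ∈ Ideal.map Λ₁.γ' (RingHom.ker (res' : C' →+* k)) := by
        have := ker_al hS Λ₁
        rw [← algebraMap_eq, ← this]
        exact hx
      obtain ⟨v, hv, hvw⟩ := exists_K_fst Λ₁ Λ₂ _ hx'
      have h3 : Λ₂.π (sndW Λ₁ Λ₂ (w - v)) = 0 := by
        rw [← W_cond, map_sub, hvw, sub_self, map_zero]
      obtain ⟨m, hm⟩ := exists_ι_eq hS Λ₂ h3
      refine ⟨m, ?_⟩
      have h4 : w = v + inclW Λ₁ Λ₂ hS m := by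
        apply W_ext
        · rw [map_add, fstW_inclW, add_zero, hvw]
        · rw [map_add, sndW_inclW, hm, map_sub]
          ring
      rw [inclD_apply, h4, map_add, (Dmk_eq_zero_iff Λ₁ Λ₂ hS v).2 (map_le_K Λ₁ Λ₂ hS hv), zero_add]
    · rintro ⟨m, rfl⟩
      rw [inclD_apply, projD_mk, fstW_inclW, map_zero]
  mul_incl := by
    intro x z
    obtain ⟨w, rfl⟩ := Dmk_surjective Λ₁ Λ₂ hS x
    rw [inclD_apply, inclD_apply, ← map_mul, projD_mk]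
    congr 1
    apply W_ext
    · rw [map_mul, fstW_inclW, fstW_inclW, mul_zero]
    · rw [map_mul, sndW_inclW, sndW_inclW, mul_ι, al_fstW]

/-- the difference extension. -/
noncomputable def D : Exal.Ext k B₀ (B₀ ⊗[k] (RingHom.ker p)) where
  E := DCarrier Λ₁ Λ₂ hS
  proj := projD Λ₁ Λ₂ hS
  incl := inclD Λ₁ Λ₂ hS
  isExtension := D_isExtension Λ₁ Λ₂ hS

end Diff

end Lift

end Groth.Agent.Lib.DefTorsH3
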