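import Mathlib

/-!
# The obstruction to lifting relations: abstract single-ring lemma (helper3)

`S` a ring, `t ∈ S` with annihilator `𝔨 ∋ t`, `F : σ → S`, `β : S → Q` a surjective `S`-linear map with
kernel `𝔨 + (F)`.  Write `ev F r = Σ r_s F_s`.
Assume relations of `F` modulo `𝔨` lift to relations modulo `t` (`H1`), relations modulo `t` with
coefficients in `𝔨` are `𝔨`-combinations of relations modulo `t` up to `t` (`H2`), and the "`T²`-vanishing"
hypothesis `T2`.  Then `F` can be corrected by multiples of `t` to `F''` such that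
`t z ∈ (F'') ⇒ z ∈ 𝔨 + (F)`.
-/

set_option autoImplicit false
set_option linter.unusedSectionVars false

namespace Groth.Agent.Lib.ObsT2H3

open Finsupp

theorem exists_linearMap_of_rel {S M N : Type*} [CommRing S] [AddCommGroup M] [Module S M]
    [AddCommGroup N] [Module S N] (D : Submodule S M) (Rl : M → N → Prop)
    (tot : ∀ r ∈ D, ∃ v, Rl r v) (uniq : ∀ r v v', Rl r v → Rl r v' → v = v')
    (add : ∀ r r' v v', Rl r v → Rl r' v' → Rl (r + r') (v + v'))
    (smul : ∀ (a : S) r v, Rl r v → Rl (a • r) (a • v)) :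
    ∃ h : D →ₗ[S] N, ∀ r : D, Rl (r : M) (h r) := by
  choose f hf using fun r : D => tot r.1 r.2
  refine ⟨{ toFun := f, map_add' := ?_, map_smul' := ?_ }, hf⟩
  · intro r r'
    exact uniq _ _ _ (hf (r + r')) (add _ _ _ _ (hf r) (hf r'))
  · intro a r
    exact uniq _ _ _ (hf (a • r)) (smul a _ _ (hf r))

variable {S : Type*} [CommRing S] {σ : Type*} (t : S) (𝔨 : Ideal S) (F : σ → S)
  {Q : Type*} [AddCommGroup Q] [Module S Q] (β : S →ₗ[S] Q)

/-- The value relation: `ev F ρ = z t` and `v = β z`. -/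
def IsVal (ρ : σ →₀ S) (v : Q) : Prop :=
  ∃ z : S, linearCombination S F ρ = z * t ∧ v = β z

variable {t 𝔨 F β}

theorem IsVal.uniq (hann : ∀ z : S, z * t = 0 → z ∈ 𝔨) (hβk : ∀ z ∈ 𝔨, β z = 0) {ρ : σ →₀ S}
    {v v' : Q} (h : IsVal t F β ρ v) (h' : IsVal t F β ρ v') :
    v = v' := by
  obtain ⟨z, hz, rfl⟩ := h
  obtain ⟨z', hz', rfl⟩ := h'
  rw [← sub_eq_zero, ← map_sub]
  refine hβk _ (hann _ ?_)
  rw [sub_mul, ← hz, ← hz', sub_self]

theorem IsVal.add {ρ ρ' : σ →₀ S} {v v' : Q}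
    (h : IsVal t F β ρ v) (h' : IsVal t F β ρ' v') : IsVal t F β (ρ + ρ') (v + v') := by
  obtain ⟨z, hz, rfl⟩ := h
  obtain ⟨z', hz', rfl⟩ := h'
  exact ⟨z + z', by rw [map_add, hz, hz', add_mul], (map_add _ _ _).symm⟩

theorem IsVal.smul (a : S) {ρ : σ →₀ S} {v : Q}
    (h : IsVal t F β ρ v) : IsVal t F β (a • ρ) (a • v) := by
  obtain ⟨z, hz, rfl⟩ := h
  refine ⟨a * z, by rw [map_smul, hz, smul_eq_mul, mul_assoc], ?_⟩
  rw [← smul_eq_mul, map_smul]

theorem IsVal.neg {ρ : σ →₀ S} {v : Q}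
    (h : IsVal t F β ρ v) : IsVal t F β (-ρ) (-v) := by
  obtain ⟨z, hz, rfl⟩ := h
  exact ⟨-z, by rw [map_neg, hz, neg_mul], (map_neg _ _).symm⟩

theorem IsVal.sub {ρ ρ' : σ →₀ S} {v v' : Q}
    (h : IsVal t F β ρ v) (h' : IsVal t F β ρ' v') : IsVal t F β (ρ - ρ') (v - v') := by
  rw [sub_eq_add_neg, sub_eq_add_neg]
  exact h.add h'.neg

theorem isVal_zero_of_eq_zero {ρ : σ →₀ S} (h : linearCombination S F ρ = 0) :
    IsVal t F β ρ 0 :=
  ⟨0, by rw [h, zero_mul], (map_zero _).symm⟩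

theorem isVal_smul_t (hβF : ∀ s, β (F s) = 0) (u : σ →₀ S) : IsVal t F β (t • u) 0 := by
  refine ⟨linearCombination S F u, by rw [map_smul, smul_eq_mul, mul_comm], ?_⟩
  symm
  rw [Finsupp.linearCombination_apply, Finsupp.sum, map_sum]
  refine Finset.sum_eq_zero fun s _ => ?_
  rw [map_smul, hβF, smul_zero]

theorem isVal_smul_mem (hβk : ∀ z ∈ 𝔨, β z = 0) {a : S} (ha : a ∈ 𝔨) {ρ : σ →₀ S}
    (h : linearCombination S F ρ ∈ Ideal.span {t}) : IsVal t F β (a • ρ) 0 := by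
  obtain ⟨z, hz⟩ := Ideal.mem_span_singleton'.1 h
  refine ⟨a * z, by rw [map_smul, ← hz, smul_eq_mul, mul_assoc], ?_⟩
  symm
  exact hβk _ (Ideal.mul_mem_right _ _ ha)

variable (t F β)

/-- The submodule of `ρ` with value zero. -/
def N0 : Submodule S (σ →₀ S) where
  carrier := {ρ | IsVal t F β ρ 0}
  add_mem' := by
    intro a b ha hb
    have := IsVal.add ha hb
    rwa [add_zero] at this
  zero_mem' := isVal_zero_of_eq_zero (map_zero _)
  smul_mem' := by
    intro c x hx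
    have := IsVal.smul c hx
    rwa [smul_zero] at this

/-- relations modulo `t`. -/
noncomputable def RelB : Submodule S (σ →₀ S) :=
  Submodule.comap (linearCombination S F) (Ideal.span {t})

variable (𝔨)

/-- relations modulo `𝔨`. -/
noncomputable def Rel0 : Submodule S (σ →₀ S) := Submodule.comap (linearCombination S F) 𝔨

/-- vectors with coefficients in `𝔨`. -/
def KS : Submodule S (σ →₀ S) := Finsupp.submodule (fun _ : σ => 𝔨)

variable {t 𝔨 F β}

theorem smul_relB_le_N0 (hβk : ∀ z ∈ 𝔨, β z = 0) : 𝔨 • RelB t F ≤ N0 t F β := by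
  rw [Submodule.smul_le]
  intro a ha ρ hρ
  exact isVal_smul_mem hβk ha hρ

theorem span_smul_top_le_N0 (hβF : ∀ s, β (F s) = 0) :
    Ideal.span {t} • (⊤ : Submodule S (σ →₀ S)) ≤ N0 t F β := by
  rw [Submodule.smul_le]
  intro a ha ρ _
  obtain ⟨c, rfl⟩ := Ideal.mem_span_singleton'.1 ha
  rw [mul_comm, mul_smul]
  exact isVal_smul_t hβF (c • ρ)

/-- The main abstract lemma. -/
theorem exists_correction (hann : ∀ z : S, z * t = 0 → z ∈ 𝔨) (htk : t ∈ 𝔨)
    (hβs : Function.Surjective β) (hβ : LinearMap.ker β = 𝔨 ⊔ Ideal.span (Set.range F))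
    (H1 : Rel0 𝔨 F ≤ RelB t F ⊔ KS (σ := σ) 𝔨)
    (H2 : RelB t F ⊓ KS (σ := σ) 𝔨 ≤ 𝔨 • RelB t F ⊔ Ideal.span {t} • (⊤ : Submodule S (σ →₀ S)))
    (T2 : ∀ h : Rel0 𝔨 F →ₗ[S] Q,
      (∀ r : Rel0 𝔨 F, (r : σ →₀ S) ∈ KS (σ := σ) 𝔨 → h r = 0) →
      (∀ r : Rel0 𝔨 F, linearCombination S F (r : σ →₀ S) = 0 → h r = 0) →
      ∃ c : σ → Q, ∀ r : Rel0 𝔨 F, h r = linearCombination S c (r : σ →₀ S)) :
    ∃ g : σ → S, ∀ z : S, t * z ∈ Ideal.span (Set.range fun s => F s - t * g s) →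
      z ∈ 𝔨 ⊔ Ideal.span (Set.range F) := by
  have hβk : ∀ z ∈ 𝔨, β z = 0 := by
    intro z hz
    have : z ∈ LinearMap.ker β := by rw [hβ]; exact Ideal.mem_sup_left hz
    exact this
  have hβF : ∀ s, β (F s) = 0 := by
    intro s
    have : F s ∈ LinearMap.ker β := by
      rw [hβ]; exact Ideal.mem_sup_right (Ideal.subset_span ⟨s, rfl⟩)
    exact this
  have hN0 : RelB t F ⊓ KS (σ := σ) 𝔨 ≤ N0 t F β :=
    H2.trans (sup_le (smul_relB_le_N0 hβk) (span_smul_top_le_N0 hβF))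
  have hBle : RelB t F ≤ Rel0 𝔨 F := by
    intro ρ hρ
    have h1 : Ideal.span {t} ≤ 𝔨 := (Ideal.span_singleton_le_iff_mem 𝔨).2 htk
    exact h1 hρ
  -- the relation defining `h`
  let IsH : (σ →₀ S) → Q → Prop := fun r v =>
    ∃ ρ : σ →₀ S, r - ρ ∈ KS (σ := σ) 𝔨 ∧ IsVal t F β ρ v
  have hval_of_relB : ∀ ρ ∈ RelB t F, ∃ v, IsVal t F β ρ v := by
    intro ρ hρ
    obtain ⟨z, hz⟩ := Ideal.mem_span_singleton'.1 hρ
    exact ⟨_, z, hz.symm, rfl⟩
  have relB_of_val : ∀ ρ v, IsVal t F β ρ v → ρ ∈ RelB t F := by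
    rintro ρ v ⟨z, hz, -⟩
    show linearCombination S F ρ ∈ Ideal.span {t}
    rw [hz]
    exact Ideal.mul_mem_left _ _ (Ideal.subset_span rfl)
  obtain ⟨h, hh⟩ := exists_linearMap_of_rel (Rel0 𝔨 F) IsH
    (by
      intro r hr
      obtain ⟨ρ, hρ, κ, hκ, rfl⟩ := Submodule.mem_sup.1 (H1 hr)
      obtain ⟨v, hv⟩ := hval_of_relB ρ hρ
      exact ⟨v, ρ, by rwa [add_sub_cancel_left], hv⟩)
    (by
      rintro r v v' ⟨ρ, hρ, hv⟩ ⟨ρ', hρ', hv'⟩
      have h1 : ρ - ρ' ∈ KS (σ := σ) 𝔨 := by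
        have : ρ - ρ' = (r - ρ') - (r - ρ) := by abel
        rw [this]
        exact Submodule.sub_mem _ hρ' hρ
      have h2 : ρ - ρ' ∈ RelB t F :=
        Submodule.sub_mem _ (relB_of_val _ _ hv) (relB_of_val _ _ hv')
      have h3 : IsVal t F β (ρ - ρ') 0 := hN0 ⟨h2, h1⟩
      have h4 := IsVal.uniq hann hβk (hv.sub hv') h3
      exact sub_eq_zero.1 h4)
    (by
      rintro r r' v v' ⟨ρ, hρ, hv⟩ ⟨ρ', hρ', hv'⟩
      refine ⟨ρ + ρ', ?_, hv.add hv'⟩
      have : r + r' - (ρ + ρ') = (r - ρ) + (r' - ρ') := by abel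
      rw [this]
      exact Submodule.add_mem _ hρ hρ')
    (by
      rintro a r v ⟨ρ, hρ, hv⟩
      refine ⟨a • ρ, ?_, hv.smul a⟩
      rw [← smul_sub]
      exact Submodule.smul_mem _ a hρ)
  have hspec : ∀ (r : Rel0 𝔨 F) (v : Q),
      IsVal t F β (r : σ →₀ S) v → h r = v := by
    intro r v hv
    obtain ⟨ρ, hρ, hv'⟩ := hh r
    have h1 : (r : σ →₀ S) - ρ ∈ RelB t F :=
      Submodule.sub_mem _ (relB_of_val _ _ hv) (relB_of_val _ _ hv')
    have h3 : IsVal t F β ((r : σ →₀ S) - ρ) 0 := hN0 ⟨h1, hρ⟩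
    have h4 := IsVal.uniq hann hβk (hv.sub hv') h3
    exact (sub_eq_zero.1 h4).symm
  obtain ⟨c, hc⟩ := T2 h
    (by
      intro r hr
      obtain ⟨ρ, hρ, hv'⟩ := hh r
      have h1 : ρ ∈ KS (σ := σ) 𝔨 := by
        have : ρ = (r : σ →₀ S) - ((r : σ →₀ S) - ρ) := by abel
        rw [this]
        exact Submodule.sub_mem _ hr hρ
      have h3 : IsVal t F β ρ 0 := hN0 ⟨relB_of_val _ _ hv', h1⟩
      exact IsVal.uniq hann hβk hv' h3)
    (by
      intro r hr
      exact hspec r 0 (isVal_zero_of_eq_zero hr))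
  choose g hg using fun s => hβs (c s)
  refine ⟨g, fun z hz => ?_⟩
  rw [Ideal.span, ← Finsupp.range_linearCombination] at hz
  obtain ⟨r, hr⟩ := hz
  have hsplit : linearCombination S (fun s => F s - t * g s) r =
      linearCombination S F r - t * linearCombination S g r := by
    rw [Finsupp.linearCombination_apply, Finsupp.linearCombination_apply,
      Finsupp.linearCombination_apply, Finsupp.sum, Finsupp.sum, Finsupp.sum, Finset.mul_sum,
      ← Finset.sum_sub_distrib]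
    refine Finset.sum_congr rfl fun s _ => ?_
    simp only [smul_eq_mul]
    ring
  have hev : linearCombination S F r = (z + linearCombination S g r) * t := by
    have : linearCombination S F r = t * z + t * linearCombination S g r := by
      rw [← hr, hsplit]; ring
    rw [this]; ring
  have hrB : r ∈ RelB t F := by
    show linearCombination S F r ∈ Ideal.span {t}
    rw [hev]
    exact Ideal.mul_mem_left _ _ (Ideal.subset_span rfl)
  have h1 := hspec ⟨r, hBle hrB⟩ _ ⟨_, hev, rfl⟩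
  rw [hc] at h1
  have h2 : β (linearCombination S g r) = linearCombination S c r := by
    rw [Finsupp.linearCombination_apply, Finsupp.linearCombination_apply, Finsupp.sum,
      Finsupp.sum, map_sum]
    refine Finset.sum_congr rfl fun s _ => ?_
    rw [map_smul, hg]
  rw [map_add, h2] at h1
  have h3 : β z = 0 := by
    have := h1
    rw [eq_comm, add_eq_right] at this
    exact this
  have h4 : z ∈ LinearMap.ker β := h3
  rw [hβ] at h4
  exact h4

end Groth.Agent.Lib.ObsT2H3
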