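import Mathlib
import Groth.Agent.Lib.ObsT2a_helper3
import Groth.Agent.Lib.DefoIso_helper7
import Groth.Agent.Lib.LocalCrit11_helper9

/-!
# Lifting of relations from flatness, and transfer along a surjection with principal kernel (helper3)
-/

set_option autoImplicit false
set_option linter.unusedSectionVars false

universe u

namespace Groth.Agent.Lib.ObsT2H3

open Finsupp

section Coords

variable {R : Type*} [CommRing R] {σ : Type*} (I : Ideal R)

theorem coords_le_smul_top : Finsupp.submodule (fun _ : σ => I) ≤ I • (⊤ : Submodule R (σ →₀ R)) := by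
  intro r hr
  rw [← Finsupp.sum_single r]
  refine Submodule.sum_mem _ fun s _ => ?_
  have : Finsupp.single s (r s) = r s • Finsupp.single s (1 : R) := by
    rw [Finsupp.smul_single, smul_eq_mul, mul_one]
  rw [this]
  exact Submodule.smul_mem_smul (hr s) Submodule.mem_top

theorem smul_top_le_coords : I • (⊤ : Submodule R (σ →₀ R)) ≤ Finsupp.submodule (fun _ : σ => I) := by
  rw [Submodule.smul_le]
  intro a ha m _ s
  rw [Finsupp.smul_apply, smul_eq_mul]
  exact Ideal.mul_mem_right _ _ ha

theorem exists_coords_of_mem_mul (F : σ → R) {x : R} (hx : x ∈ I * Ideal.span (Set.range F)) :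
    ∃ n : σ →₀ R, (∀ s, n s ∈ I) ∧ linearCombination R F n = x := by
  have h1 : I * Ideal.span (Set.range F) =
      (I • (⊤ : Submodule R (σ →₀ R))).map (linearCombination R F) := by
    rw [Submodule.map_smul'', Submodule.map_top, Finsupp.range_linearCombination]
    rfl
  rw [h1] at hx
  obtain ⟨n, hn, rfl⟩ := hx
  exact ⟨n, smul_top_le_coords I hn, rfl⟩

end Coords

section Transfer

variable {S R : Type*} [CommRing S] [CommRing R] (q : S →+* R) {σ : Type*} (F : σ → S)

/-- coordinatewise `q`. -/
noncomputable def qσ : (σ →₀ S) →+ (σ →₀ R) := Finsupp.mapRange.addMonoidHom q.toAddMonoidHom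

theorem qσ_apply (r : σ →₀ S) (s : σ) : qσ q r s = q (r s) := rfl

theorem qσ_smul (a : S) (r : σ →₀ S) : qσ q (a • r) = q a • qσ q r := by
  ext s
  rw [qσ_apply, Finsupp.smul_apply, Finsupp.smul_apply, qσ_apply, smul_eq_mul, smul_eq_mul, map_mul]

theorem qσ_surjective (hq : Function.Surjective q) : Function.Surjective (qσ (σ := σ) q) :=
  Finsupp.mapRange_surjective _ (map_zero q) hq

theorem ev_qσ (r : σ →₀ S) :
    linearCombination R (fun s => q (F s)) (qσ q r) = q (linearCombination S F r) := by
  induction r using Finsupp.induction_linear with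
  | zero => simp
  | add f g hf hg => rw [map_add, map_add, map_add, hf, hg, map_add]
  | single s a =>
    have : qσ q (Finsupp.single s a) = Finsupp.single s (q a) := by
      ext s'
      rw [qσ_apply]
      by_cases h : s = s'
      · subst h; simp
      · simp [h]
    rw [this, Finsupp.linearCombination_single, Finsupp.linearCombination_single, smul_eq_mul,
      smul_eq_mul, map_mul]

variable (hq : Function.Surjective q) (t : S) (hker : RingHom.ker q = Ideal.span {t}) (𝔨' : Ideal R)
include hq hker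

theorem transfer_H1
    (R1 : ∀ r' : σ →₀ R, linearCombination R (fun s => q (F s)) r' ∈ 𝔨' →
      ∃ ρ' : σ →₀ R, linearCombination R (fun s => q (F s)) ρ' = 0 ∧ ∀ s, r' s - ρ' s ∈ 𝔨') :
    Rel0 (𝔨'.comap q) F ≤ RelB t F ⊔ KS (σ := σ) (𝔨'.comap q) := by
  intro r hr
  have hr' : linearCombination R (fun s => q (F s)) (qσ q r) ∈ 𝔨' := by
    rw [ev_qσ]; exact hr
  obtain ⟨ρ', hρ', hd⟩ := R1 _ hr'
  obtain ⟨ρ, rfl⟩ := qσ_surjective q hq ρ'
  have h1 : ρ ∈ RelB t F := by
    show linearCombination S F ρ ∈ Ideal.span {t}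
    rw [← hker, RingHom.mem_ker, ← ev_qσ, hρ']
  have h2 : r - ρ ∈ KS (σ := σ) (𝔨'.comap q) := by
    intro s
    show q ((r - ρ) s) ∈ 𝔨'
    rw [Finsupp.sub_apply, map_sub]
    exact hd s
  have : r = ρ + (r - ρ) := by abel
  rw [this]
  exact Submodule.add_mem_sup h1 h2

theorem transfer_H2
    (R2 : ∀ r' : σ →₀ R, linearCombination R (fun s => q (F s)) r' = 0 → (∀ s, r' s ∈ 𝔨') →
      r' ∈ 𝔨' • LinearMap.ker (linearCombination R (fun s => q (F s)))) :
    RelB t F ⊓ KS (σ := σ) (𝔨'.comap q) ≤
      (𝔨'.comap q) • RelB t F ⊔ Ideal.span {t} • (⊤ : Submodule S (σ →₀ S)) := by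
  rintro r ⟨hrB, hrK⟩
  have h0 : linearCombination R (fun s => q (F s)) (qσ q r) = 0 := by
    rw [ev_qσ, ← RingHom.mem_ker, hker]; exact hrB
  have h1 := R2 (qσ q r) h0 (fun s => hrK s)
  have key : ∀ x ∈ 𝔨' • LinearMap.ker (linearCombination R (fun s => q (F s))),
      ∀ r : σ →₀ S, qσ q r = x →
        r ∈ (𝔨'.comap q) • RelB t F ⊔ Ideal.span {t} • (⊤ : Submodule S (σ →₀ S)) := by
    intro x hx
    refine Submodule.smul_induction_on hx ?_ ?_
    · intro a' ha' ρ' hρ' r hr
      obtain ⟨a, rfl⟩ := hq a'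
      obtain ⟨ρ, rfl⟩ := qσ_surjective q hq ρ'
      have hρB : ρ ∈ RelB t F := by
        show linearCombination S F ρ ∈ Ideal.span {t}
        rw [← hker, RingHom.mem_ker, ← ev_qσ]
        exact hρ'
      have hd : r - a • ρ ∈ Ideal.span {t} • (⊤ : Submodule S (σ →₀ S)) := by
        refine coords_le_smul_top _ fun s => ?_
        show (r - a • ρ) s ∈ Ideal.span {t}
        rw [← hker, RingHom.mem_ker, ← qσ_apply, map_sub, hr, qσ_smul, sub_self]
        rfl
      have : r = a • ρ + (r - a • ρ) := by abel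
      rw [this]
      exact Submodule.add_mem_sup (Submodule.smul_mem_smul ha' hρB) hd
    · intro x y hx hy r hr
      obtain ⟨r₁, rfl⟩ := qσ_surjective q hq x
      have h2 : qσ q (r - r₁) = y := by rw [map_sub, hr, add_sub_cancel_left]
      have : r = r₁ + (r - r₁) := by abel
      rw [this]
      exact Submodule.add_mem _ (hx r₁ rfl) (hy _ h2)
  exact key _ h1 r rfl

end Transfer

section FlatRel

variable {A R B : Type u} [CommRing A] [CommRing R] [CommRing B] [Algebra A R] [Algebra A B]
  [Module.Flat A R] [Module.Flat A B] (φ : R →ₐ[A] B) (hφ : Function.Surjective φ)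
  (𝔪 : Ideal A) {σ : Type u} (F' : σ → R)
  (hF' : Ideal.span (Set.range F') = RingHom.ker (φ : R →+* B))
include hφ hF'

theorem flat_R1 (r' : σ →₀ R)
    (hr' : linearCombination R F' r' ∈ 𝔪.map (algebraMap A R)) :
    ∃ ρ' : σ →₀ R, linearCombination R F' ρ' = 0 ∧
      ∀ s, r' s - ρ' s ∈ 𝔪.map (algebraMap A R) := by
  have hy0 : φ.toLinearMap (linearCombination R F' r') = 0 := by
    have : linearCombination R F' r' ∈ Ideal.span (Set.range F') := by
      rw [Ideal.span, ← Finsupp.range_linearCombination]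
      exact LinearMap.mem_range_self _ _
    rw [hF'] at this
    exact this
  have hy1 : linearCombination R F' r' ∈ 𝔪 • (⊤ : Submodule A R) := by
    rw [Ideal.smul_top_eq_map]
    exact hr'
  have h1 := Groth.Agent.Lib.DefoIsoH7.ker_le_smul_ker 𝔪 φ.toLinearMap hφ _ hy1 hy0
  have h2 : 𝔪 • LinearMap.ker φ.toLinearMap =
      (𝔪.map (algebraMap A R) • (RingHom.ker (φ : R →+* B) : Submodule R R)).restrictScalars A := by
    rw [Ideal.smul_restrictScalars]
    rfl
  rw [h2] at h1
  have h3 : linearCombination R F' r' ∈ 𝔪.map (algebraMap A R) * Ideal.span (Set.range F') := by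
    rw [hF']
    exact h1
  obtain ⟨n, hn, hn'⟩ := exists_coords_of_mem_mul _ F' h3
  refine ⟨r' - n, by rw [map_sub, hn', sub_self], fun s => ?_⟩
  rw [Finsupp.sub_apply, sub_sub_cancel]
  exact hn s

theorem flat_R2 (r' : σ →₀ R) (h0 : linearCombination R F' r' = 0)
    (hc : ∀ s, r' s ∈ 𝔪.map (algebraMap A R)) :
    r' ∈ 𝔪.map (algebraMap A R) • LinearMap.ker (linearCombination R F') := by
  -- `I = ker φ` is `A`-flat
  have : Module.Flat A (LinearMap.ker φ.toLinearMap) :=
    Groth.Agent.Lib.LocalCrit11.flat_of_exact_of_flat (LinearMap.ker φ.toLinearMap).subtype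
      φ.toLinearMap (Submodule.injective_subtype _) (LinearMap.exact_subtype_ker_map _) hφ
  have hmem : ∀ x : σ →₀ R, linearCombination R F' x ∈ LinearMap.ker φ.toLinearMap := by
    intro x
    have : linearCombination R F' x ∈ Ideal.span (Set.range F') := by
      rw [Ideal.span, ← Finsupp.range_linearCombination]
      exact LinearMap.mem_range_self _ _
    rw [hF'] at this
    exact this
  let g : (σ →₀ R) →ₗ[A] LinearMap.ker φ.toLinearMap :=
    LinearMap.codRestrict _ ((linearCombination R F').restrictScalars A) hmem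
  have hg : Function.Surjective g := by
    rintro ⟨y, hy⟩
    have hy' : y ∈ Ideal.span (Set.range F') := by rw [hF']; exact hy
    rw [Ideal.span, ← Finsupp.range_linearCombination] at hy'
    obtain ⟨x, rfl⟩ := hy'
    exact ⟨x, Subtype.ext rfl⟩
  have h1 : r' ∈ 𝔪 • (⊤ : Submodule A (σ →₀ R)) := by
    have h := coords_le_smul_top (𝔪.map (algebraMap A R)) (σ := σ) hc
    have h' : (𝔪.map (algebraMap A R) • (⊤ : Submodule R (σ →₀ R))).restrictScalars A =
        𝔪 • (⊤ : Submodule A (σ →₀ R)) := by
      rw [Ideal.smul_restrictScalars, Submodule.restrictScalars_top]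
    rw [← h']
    exact h
  have hg0 : g r' = 0 := Subtype.ext h0
  have h2 := Groth.Agent.Lib.DefoIsoH7.ker_le_smul_ker 𝔪 g hg r' h1 hg0
  have h3 : LinearMap.ker g = (LinearMap.ker (linearCombination R F')).restrictScalars A := by
    ext x
    rw [LinearMap.mem_ker, Submodule.restrictScalars_mem, LinearMap.mem_ker]
    constructor
    · intro h; exact congrArg Subtype.val h
    · intro h; exact Subtype.ext h
  rw [h3, ← Ideal.smul_restrictScalars] at h2
  exact h2

end FlatRel

end Groth.Agent.Lib.ObsT2H3
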