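import Mathlib
import Groth.Agent.Lib.ObsT2b_helper3
import Groth.Agent.Lib.LocalCrit14_helper9

/-!
# General lemmas for the lifting theorem (helper3)
-/

set_option autoImplicit false
set_option linter.unusedSectionVars false

universe u

namespace Groth.Agent.Lib.ObsT2H3

open TensorProduct

section FlatInter

variable {A R B : Type u} [CommRing A] [CommRing R] [CommRing B] [Algebra A R] [Algebra A B]
  [Module.Flat A B] (φ : R →ₐ[A] B) (hφ : Function.Surjective φ) (𝔪 : Ideal A)
include hφ

theorem flat_inter_ideal {y : R} (hy : y ∈ 𝔪.map (algebraMap A R)) (hy0 : φ y = 0) :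
    y ∈ 𝔪.map (algebraMap A R) * RingHom.ker (φ : R →+* B) := by
  have hy1 : y ∈ 𝔪 • (⊤ : Submodule A R) := by
    rw [Ideal.smul_top_eq_map]
    exact hy
  have h1 := Groth.Agent.Lib.DefoIsoH7.ker_le_smul_ker 𝔪 φ.toLinearMap hφ _ hy1 hy0
  have h2 : 𝔪 • LinearMap.ker φ.toLinearMap =
      (𝔪.map (algebraMap A R) • (RingHom.ker (φ : R →+* B) : Submodule R R)).restrictScalars A := by
    rw [Ideal.smul_restrictScalars]
    rfl
  rw [h2] at h1
  exact h1

end FlatInter

theorem le_of_le_sup_mul {R : Type*} [CommRing R] {N I K : Ideal R} (h : I ≤ N ⊔ K * I)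
    (hK : IsNilpotent K) : I ≤ N := by
  have key : ∀ n : ℕ, I ≤ N ⊔ K ^ n * I := by
    intro n
    induction n with
    | zero => rw [pow_zero, Ideal.one_eq_top, Ideal.top_mul]; exact le_sup_right
    | succ n ih =>
      refine ih.trans (sup_le le_sup_left ?_)
      calc K ^ n * I ≤ K ^ n * (N ⊔ K * I) := Ideal.mul_mono_right h
        _ = K ^ n * N ⊔ K ^ n * (K * I) := Ideal.mul_sup _ _ _
        _ ≤ N ⊔ K ^ (n + 1) * I := by
            refine sup_le_sup Ideal.mul_le_right ?_
            rw [← mul_assoc, ← pow_succ]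
  obtain ⟨n, hn⟩ := hK
  have := key n
  rw [hn, Ideal.zero_eq_bot, Ideal.bot_mul, sup_bot_eq] at this
  exact this

theorem flat_of_ringEquiv_base {R R' : Type*} [CommRing R] [CommRing R'] (e : R ≃+* R')
    {M M' : Type*} [AddCommGroup M] [Module R M] [AddCommGroup M'] [Module R' M']
    [Module.Flat R' M'] (G : M ≃+ M') (hG : ∀ (r : R) (m : M), G (r • m) = e r • G m) :
    Module.Flat R M := by
  let _ : Algebra R R' := e.toRingHom.toAlgebra
  letI : Module R M' := Module.compHom M' e.toRingHom
  haveI : IsScalarTower R R' M' := ⟨fun r r' m => by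
    show (e r * r') • m = e r • (r' • m)
    rw [mul_smul]⟩
  have hl : Module.Flat R R' := by
    refine Module.Flat.of_linearEquiv (M := R) (N := R')
      { e.symm.toAddEquiv with map_smul' := fun r x => ?_ }
    show e.symm (e r * x) = r * e.symm x
    rw [map_mul, RingEquiv.symm_apply_apply]
  have h2 : Module.Flat R M' := Module.Flat.trans R R' M'
  exact Module.Flat.of_linearEquiv { G with map_smul' := fun r m => hG r m }

theorem flat_baseChange_quot_of_surjective {A' A : Type u} [CommRing A'] [CommRing A]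
    (p : A' →+* A) (hp : Function.Surjective p)
    (M : Type u) [AddCommGroup M] [Module A' M] (N : Type u) [AddCommGroup N] [Module A N]
    [Module.Flat A N] (g : M →+ N) (hg : Function.Surjective g)
    (hsl : ∀ (a : A') (m : M), g (a • m) = p a • g m)
    (hkerg : ∀ m, g m = 0 → m ∈ (RingHom.ker p) • (⊤ : Submodule A' M)) :
    Module.Flat (A' ⧸ RingHom.ker p) ((A' ⧸ RingHom.ker p) ⊗[A'] M) := by
  letI : Module A' N := Module.compHom N p
  let g' : M →ₗ[A'] N := { g with map_smul' := fun a m => hsl a m }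
  have hle : (RingHom.ker p) • (⊤ : Submodule A' M) ≤ LinearMap.ker g' := by
    rw [Submodule.smul_le]
    intro a ha m _
    rw [LinearMap.mem_ker]
    show g (a • m) = 0
    rw [hsl, (RingHom.mem_ker).1 ha, zero_smul]
  let G₀ : (M ⧸ (RingHom.ker p) • (⊤ : Submodule A' M)) →ₗ[A'] N := Submodule.liftQ _ g' hle
  have hG₀ : Function.Bijective G₀ := by
    constructor
    · rw [← LinearMap.ker_eq_bot, Submodule.ker_liftQ, eq_bot_iff]
      rintro _ ⟨m, hm, rfl⟩
      rw [Submodule.mem_bot, Submodule.mkQ_apply, Submodule.Quotient.mk_eq_zero]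
      exact hkerg m hm
    · intro n
      obtain ⟨m, rfl⟩ := hg n
      exact ⟨Submodule.Quotient.mk m, rfl⟩
  let G : ((A' ⧸ RingHom.ker p) ⊗[A'] M) ≃ₗ[A'] N :=
    (TensorProduct.quotTensorEquivQuotSMul M (RingHom.ker p)).trans (LinearEquiv.ofBijective G₀ hG₀)
  refine flat_of_ringEquiv_base (RingHom.quotientKerEquivOfSurjective hp)
    (M := (A' ⧸ RingHom.ker p) ⊗[A'] M) (M' := N) G.toAddEquiv ?_
  intro r x
  obtain ⟨a, rfl⟩ := Ideal.Quotient.mk_surjective r
  have h1 : (Ideal.Quotient.mk (RingHom.ker p) a) • x = a • x := by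
    rw [← Ideal.Quotient.algebraMap_eq, algebraMap_smul]
  rw [h1, RingHom.quotientKerEquivOfSurjective_apply_mk]
  exact G.map_smul a x

end Groth.Agent.Lib.ObsT2H3
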