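import Mathlib
import Groth.Prelude.Def_Exal
import Groth.Agent.Lib.DefTors4_helper3
import Groth.Agent.Lib.Exal_helper9
import Groth.Agent.Lib.LocalCrit4_helper9
import Groth.Agent.Lib.ObsT2d_helper3

/-!
# The sum of a lifting and an extension (helper3)

For a lift `Λ₁` of `(E, γ)` along `p : C' → C` and an extension `X` of `B₀` by `B₀ ⊗_k J`, the lift
`Λ₁ + X` : the fibre product `V = E'₁ ×_{B₀} X` modulo the antidiagonal copy of `B₀ ⊗ J`.
-/

set_option autoImplicit false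
set_option linter.unusedSectionVars false

universe u

open TensorProduct

namespace Groth.Agent.Lib.DefTorsH3

variable {k : Type u} [Field k] {B₀ : Type u} [CommRing B₀] [Algebra k B₀]
  {C' C : Type u} [CommRing C'] [CommRing C] [Algebra k C'] [Algebra k C]
  {res' : C' →ₐ[k] k} {res : C →ₐ[k] k} {p : C' →ₐ[k] C}
  {E : Type u} [CommRing E] {γ : C →+* E} {α : E →+* B₀}

open Groth.Agent.Lib.Exal_helper9

theorem ker_al_gen (hS : IsSetting res' res p γ α) {E' : Type u} [CommRing E'] (γ' : C' →+* E')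
    (π : E' →+* E) (hsurj : Function.Surjective π) (hγ : ∀ c, π (γ' c) = γ (p c))
    (hker : RingHom.ker π = (RingHom.ker p).map γ') :
    RingHom.ker (α.comp π) = (RingHom.ker (res' : C' →+* k)).map γ' := by
  have hle : RingHom.ker p ≤ RingHom.ker (res' : C' →+* k) := by
    intro j hj
    rw [RingHom.mem_ker] at hj ⊢
    show res' j = 0
    rw [← hS.hres, hj, map_zero]
  apply le_antisymm
  · intro x hx
    have h1 : π x ∈ RingHom.ker α := hx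
    have h2 : (RingHom.ker (res : C →+* k)).map γ =
        ((RingHom.ker (res' : C' →+* k)).map γ').map π := by
      rw [Ideal.map_map]
      have h3 : π.comp γ' = γ.comp (p : C' →+* C) := RingHom.ext hγ
      rw [h3, ← Ideal.map_map]
      congr 1
      apply le_antisymm
      · intro c hc
        obtain ⟨c', rfl⟩ := hS.hp c
        refine Ideal.mem_map_of_mem _ ?_
        rw [RingHom.mem_ker] at hc ⊢
        show res' c' = 0
        rw [← hS.hres]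
        exact hc
      · rw [Ideal.map_le_iff_le_comap]
        intro c' hc'
        rw [Ideal.mem_comap, RingHom.mem_ker]
        show res (p c') = 0
        rw [hS.hres]
        exact hc'
    rw [hS.hkerα, h2] at h1
    obtain ⟨y, hy, hyx⟩ := (Ideal.mem_map_iff_of_surjective π hsurj).1 h1
    have h4 : x - y ∈ RingHom.ker π := by
      rw [RingHom.mem_ker, map_sub, hyx, sub_self]
    rw [hker] at h4
    have h5 : x - y ∈ (RingHom.ker (res' : C' →+* k)).map γ' := Ideal.map_mono hle h4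
    have : x = (x - y) + y := by ring
    rw [this]
    exact Ideal.add_mem _ h5 hy
  · rw [Ideal.map_le_iff_le_comap]
    intro c hc
    rw [Ideal.mem_comap, RingHom.mem_ker]
    show α (π (γ' c)) = 0
    rw [hγ, hS.hcomp, hS.hres]
    have hc' : res' c = 0 := hc
    rw [hc', map_zero]

namespace Lift

section Sum

variable (Λ₁ : Lift p γ) (X : Exal.Ext k B₀ (B₀ ⊗[k] (RingHom.ker p)))
  (hS : IsSetting res' res p γ α)

/-- the fibre product ring `E'₁ ×_{B₀} X`. -/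
def V (_hS : IsSetting res' res p γ α) : Subring (Λ₁.E' × X.E) :=
  RingHom.eqLocus ((al α Λ₁).comp (RingHom.fst Λ₁.E' X.E))
    ((X.proj : X.E →+* B₀).comp (RingHom.snd Λ₁.E' X.E))

def fstV : V Λ₁ X hS →+* Λ₁.E' := (RingHom.fst _ _).comp (V Λ₁ X hS).subtype

def sndV : V Λ₁ X hS →+* X.E := (RingHom.snd _ _).comp (V Λ₁ X hS).subtype

theorem V_cond (v : V Λ₁ X hS) : al α Λ₁ (fstV Λ₁ X hS v) = X.proj (sndV Λ₁ X hS v) := v.2

def mkV (x : Λ₁.E') (y : X.E) (h : al α Λ₁ x = X.proj y) : V Λ₁ X hS := ⟨(x, y), h⟩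

@[simp] theorem fstV_mkV (x : Λ₁.E') (y : X.E) (h : al α Λ₁ x = X.proj y) :
    fstV Λ₁ X hS (mkV Λ₁ X hS x y h) = x := rfl

@[simp] theorem sndV_mkV (x : Λ₁.E') (y : X.E) (h : al α Λ₁ x = X.proj y) :
    sndV Λ₁ X hS (mkV Λ₁ X hS x y h) = y := rfl

variable {Λ₁ X hS} in
theorem V_ext {v v' : V Λ₁ X hS} (h1 : fstV Λ₁ X hS v = fstV Λ₁ X hS v')
    (h2 : sndV Λ₁ X hS v = sndV Λ₁ X hS v') : v = v' := Subtype.ext (Prod.ext h1 h2)

def κV : C' →+* V Λ₁ X hS :=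
  RingHom.codRestrict (Λ₁.γ'.prod ((algebraMap k X.E).comp (res' : C' →+* k))) (V Λ₁ X hS)
    (fun c => by
      show al α Λ₁ (Λ₁.γ' c) = X.proj (algebraMap k X.E (res' c))
      rw [al_γ' hS, AlgHom.commutes])

@[simp] theorem fstV_κV (c : C') : fstV Λ₁ X hS (κV Λ₁ X hS c) = Λ₁.γ' c := rfl

@[simp] theorem sndV_κV (c : C') :
    sndV Λ₁ X hS (κV Λ₁ X hS c) = algebraMap k X.E (res' c) := rfl

theorem al_ι (m : B₀ ⊗[k] (RingHom.ker p)) : al α Λ₁ (ι hS Λ₁ m) = 0 := by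
  show α (Λ₁.π (ι hS Λ₁ m)) = 0
  rw [π_ι, map_zero]

/-- the antidiagonal embedding of `B₀ ⊗ J`. -/
noncomputable def δs : B₀ ⊗[k] (RingHom.ker p) →+ V Λ₁ X hS where
  toFun m := mkV Λ₁ X hS (ι hS Λ₁ m) (-(X.incl m)) (by rw [al_ι, map_neg, proj_incl, neg_zero])
  map_zero' := V_ext (by rw [fstV_mkV, map_zero, map_zero])
    (by rw [sndV_mkV, map_zero, map_zero, neg_zero])
  map_add' m n := V_ext (by rw [fstV_mkV, map_add, map_add, fstV_mkV, fstV_mkV])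
    (by rw [sndV_mkV, map_add, map_add, sndV_mkV, sndV_mkV, neg_add])

@[simp] theorem fstV_δs (m : B₀ ⊗[k] (RingHom.ker p)) :
    fstV Λ₁ X hS (δs Λ₁ X hS m) = ι hS Λ₁ m := rfl

@[simp] theorem sndV_δs (m : B₀ ⊗[k] (RingHom.ker p)) :
    sndV Λ₁ X hS (δs Λ₁ X hS m) = -(X.incl m) := rfl

/-- the antidiagonal ideal. -/
noncomputable def Δs : Ideal (V Λ₁ X hS) where
  carrier := Set.range (δs Λ₁ X hS)
  add_mem' := by
    rintro _ _ ⟨m, rfl⟩ ⟨n, rfl⟩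
    exact ⟨m + n, map_add _ _ _⟩
  zero_mem' := ⟨0, map_zero _⟩
  smul_mem' := by
    rintro v _ ⟨m, rfl⟩
    refine ⟨al α Λ₁ (fstV Λ₁ X hS v) • m, ?_⟩
    apply V_ext
    · rw [fstV_δs, smul_eq_mul, map_mul, fstV_δs, mul_ι]
    · rw [sndV_δs, smul_eq_mul, map_mul, sndV_δs, mul_neg, X.isExtension.mul_incl, V_cond]

/-- carrier of the sum -/
def SCarrier : Type u := V Λ₁ X hS ⧸ Δs Λ₁ X hS

noncomputable instance : CommRing (SCarrier Λ₁ X hS) :=
  inferInstanceAs (CommRing (V Λ₁ X hS ⧸ Δs Λ₁ X hS))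

noncomputable def Smk : V Λ₁ X hS →+* SCarrier Λ₁ X hS := Ideal.Quotient.mk (Δs Λ₁ X hS)

theorem Smk_surjective : Function.Surjective (Smk Λ₁ X hS) := Ideal.Quotient.mk_surjective

theorem Smk_eq_zero_iff (v : V Λ₁ X hS) : Smk Λ₁ X hS v = 0 ↔ ∃ m, δs Λ₁ X hS m = v :=
  Ideal.Quotient.eq_zero_iff_mem

theorem Smk_δs (m : B₀ ⊗[k] (RingHom.ker p)) : Smk Λ₁ X hS (δs Λ₁ X hS m) = 0 :=
  (Smk_eq_zero_iff Λ₁ X hS _).2 ⟨m, rfl⟩

noncomputable def Slift {R : Type*} [CommRing R] (f : V Λ₁ X hS →+* R)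
    (hf : ∀ m, f (δs Λ₁ X hS m) = 0) : SCarrier Λ₁ X hS →+* R :=
  Ideal.Quotient.lift (Δs Λ₁ X hS) f (by rintro _ ⟨m, rfl⟩; exact hf m)

theorem Slift_mk {R : Type*} [CommRing R] (f : V Λ₁ X hS →+* R)
    (hf : ∀ m, f (δs Λ₁ X hS m) = 0) (v : V Λ₁ X hS) :
    Slift Λ₁ X hS f hf (Smk Λ₁ X hS v) = f v := rfl

noncomputable def γS : C' →+* SCarrier Λ₁ X hS := (Smk Λ₁ X hS).comp (κV Λ₁ X hS)

noncomputable def πS : SCarrier Λ₁ X hS →+* E :=
  Slift Λ₁ X hS (Λ₁.π.comp (fstV Λ₁ X hS)) (fun m => by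
    show Λ₁.π (ι hS Λ₁ m) = 0
    rw [π_ι])

theorem πS_mk (v : V Λ₁ X hS) : πS Λ₁ X hS (Smk Λ₁ X hS v) = Λ₁.π (fstV Λ₁ X hS v) := rfl

theorem πS_surj : Function.Surjective (πS Λ₁ X hS) := by
  intro e
  obtain ⟨x, rfl⟩ := Λ₁.π_surj e
  obtain ⟨y, hy⟩ := X.isExtension.proj_surjective (al α Λ₁ x)
  exact ⟨Smk Λ₁ X hS (mkV Λ₁ X hS x y hy.symm), rfl⟩

theorem πS_γS (c : C') : πS Λ₁ X hS (γS Λ₁ X hS c) = γ (p c) := by
  show Λ₁.π (Λ₁.γ' c) = _
  rw [Λ₁.π_γ']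

/-- `m ↦ (ι₁ m, 0)` -/
noncomputable def inclV : B₀ ⊗[k] (RingHom.ker p) →+ V Λ₁ X hS where
  toFun m := mkV Λ₁ X hS (ι hS Λ₁ m) 0 (by rw [al_ι, map_zero])
  map_zero' := V_ext (by rw [fstV_mkV, map_zero, map_zero]) (by rw [sndV_mkV, map_zero])
  map_add' m n := V_ext (by rw [fstV_mkV, map_add, map_add, fstV_mkV, fstV_mkV])
    (by rw [sndV_mkV, map_add, sndV_mkV, sndV_mkV, add_zero])

@[simp] theorem fstV_inclV (m : B₀ ⊗[k] (RingHom.ker p)) :
    fstV Λ₁ X hS (inclV Λ₁ X hS m) = ι hS Λ₁ m := rfl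

@[simp] theorem sndV_inclV (m : B₀ ⊗[k] (RingHom.ker p)) :
    sndV Λ₁ X hS (inclV Λ₁ X hS m) = 0 := rfl

/-- `m ↦ (0, incl m)` -/
noncomputable def inclV' : B₀ ⊗[k] (RingHom.ker p) →+ V Λ₁ X hS where
  toFun m := mkV Λ₁ X hS 0 (X.incl m) (by rw [map_zero, proj_incl])
  map_zero' := V_ext (by rw [fstV_mkV, map_zero]) (by rw [sndV_mkV, map_zero, map_zero])
  map_add' m n := V_ext (by rw [fstV_mkV, map_add, fstV_mkV, fstV_mkV, add_zero])
    (by rw [sndV_mkV, map_add, map_add, sndV_mkV, sndV_mkV])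

@[simp] theorem fstV_inclV' (m : B₀ ⊗[k] (RingHom.ker p)) :
    fstV Λ₁ X hS (inclV' Λ₁ X hS m) = 0 := rfl

@[simp] theorem sndV_inclV' (m : B₀ ⊗[k] (RingHom.ker p)) :
    sndV Λ₁ X hS (inclV' Λ₁ X hS m) = X.incl m := rfl

noncomputable def ιS : B₀ ⊗[k] (RingHom.ker p) →+ SCarrier Λ₁ X hS :=
  (Smk Λ₁ X hS : V Λ₁ X hS →+ SCarrier Λ₁ X hS).comp (inclV Λ₁ X hS)

theorem ιS_apply (m : B₀ ⊗[k] (RingHom.ker p)) :
    ιS Λ₁ X hS m = Smk Λ₁ X hS (inclV Λ₁ X hS m) := rfl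

theorem ιS_apply' (m : B₀ ⊗[k] (RingHom.ker p)) :
    ιS Λ₁ X hS m = Smk Λ₁ X hS (inclV' Λ₁ X hS m) := by
  rw [ιS_apply, ← sub_eq_zero, ← map_sub, Smk_eq_zero_iff]
  refine ⟨m, ?_⟩
  apply V_ext
  · rw [fstV_δs, map_sub, fstV_inclV, fstV_inclV', sub_zero]
  · rw [sndV_δs, map_sub, sndV_inclV, sndV_inclV', zero_sub]

theorem ιS_injective : Function.Injective (ιS Λ₁ X hS) := by
  rw [injective_iff_map_eq_zero]
  intro m hm
  rw [ιS_apply, Smk_eq_zero_iff] at hm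
  obtain ⟨n, hn⟩ := hm
  have h1 := congrArg (fstV Λ₁ X hS) hn
  have h2 := congrArg (sndV Λ₁ X hS) hn
  rw [fstV_δs, fstV_inclV] at h1
  rw [sndV_δs, sndV_inclV, neg_eq_zero] at h2
  have h3 : n = 0 := X.isExtension.incl_injective (by rw [h2, map_zero])
  rw [h3, map_zero] at h1
  exact ι_injective hS Λ₁ (by rw [← h1, map_zero])

include hS in
theorem res'_eq_zero_of_mem_ker {j : C'} (hj : j ∈ RingHom.ker p) : res' j = 0 := by
  have : p j = 0 := hj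
  rw [← hS.hres, this, map_zero]

theorem γS_mul (j : RingHom.ker p) (v : V Λ₁ X hS) :
    γS Λ₁ X hS (j : C') * Smk Λ₁ X hS v = ιS Λ₁ X hS (al α Λ₁ (fstV Λ₁ X hS v) ⊗ₜ[k] j) := by
  rw [ιS_apply]
  show Smk Λ₁ X hS (κV Λ₁ X hS (j : C')) * Smk Λ₁ X hS v = _
  rw [← map_mul]
  congr 1
  apply V_ext
  · rw [map_mul, fstV_κV, fstV_inclV, ι_tmul]
  · rw [map_mul, sndV_κV, sndV_inclV, res'_eq_zero_of_mem_ker hS j.2, map_zero, zero_mul]

theorem ιS_mem (m : B₀ ⊗[k] (RingHom.ker p)) :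
    ιS Λ₁ X hS m ∈ (RingHom.ker p).map (γS Λ₁ X hS) := by
  induction m using TensorProduct.induction_on with
  | zero => rw [map_zero]; exact Ideal.zero_mem _
  | tmul b j =>
    obtain ⟨x, rfl⟩ := al_surj hS Λ₁ b
    obtain ⟨y, hy⟩ := X.isExtension.proj_surjective (al α Λ₁ x)
    have := γS_mul Λ₁ X hS j (mkV Λ₁ X hS x y hy.symm)
    rw [fstV_mkV] at this
    rw [← this]
    exact Ideal.mul_mem_right _ _ (Ideal.mem_map_of_mem _ j.2)
  | add x y hx hy => rw [map_add]; exact Ideal.add_mem _ hx hy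

theorem ker_πS : RingHom.ker (πS Λ₁ X hS) = (RingHom.ker p).map (γS Λ₁ X hS) := by
  apply le_antisymm
  · intro x hx
    obtain ⟨v, rfl⟩ := Smk_surjective Λ₁ X hS x
    rw [RingHom.mem_ker, πS_mk] at hx
    obtain ⟨m, hm⟩ := exists_ι_eq hS Λ₁ hx
    have h1 : X.proj (sndV Λ₁ X hS v) = 0 := by
      rw [← V_cond]
      show α (Λ₁.π _) = 0
      rw [hx, map_zero]
    obtain ⟨n, hn⟩ := (X.isExtension.exact _).1 h1
    have h2 : v = inclV Λ₁ X hS m + inclV' Λ₁ X hS n := by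
      apply V_ext
      · rw [map_add, fstV_inclV, fstV_inclV', add_zero, hm]
      · rw [map_add, sndV_inclV, sndV_inclV', zero_add, hn]
    rw [h2, map_add, ← ιS_apply, ← ιS_apply']
    exact Ideal.add_mem _ (ιS_mem Λ₁ X hS m) (ιS_mem Λ₁ X hS n)
  · rw [Ideal.map_le_iff_le_comap]
    intro j hj
    rw [Ideal.mem_comap, RingHom.mem_ker, πS_γS]
    have : p j = 0 := hj
    rw [this, map_zero]

theorem ker_alS : RingHom.ker (α.comp (πS Λ₁ X hS)) =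
    (RingHom.ker (res' : C' →+* k)).map (γS Λ₁ X hS) :=
  ker_al_gen hS (γS Λ₁ X hS) (πS Λ₁ X hS) (πS_surj Λ₁ X hS) (πS_γS Λ₁ X hS) (ker_πS Λ₁ X hS)

include hS in
theorem isNilpotent_ker : IsNilpotent (RingHom.ker p) := by
  refine ⟨2, ?_⟩
  rw [pow_two, Ideal.zero_eq_bot, eq_bot_iff, Ideal.mul_le]
  intro a ha b hb
  rw [Ideal.mem_bot]
  exact hS.hJ a (res'_eq_zero_of_mem_ker hS ha) b hb

theorem flat_S : (γS Λ₁ X hS).Flat := by
  letI : Algebra C' (SCarrier Λ₁ X hS) := (γS Λ₁ X hS).toAlgebra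
  letI : Algebra C E := γ.toAlgebra
  haveI : Module.Flat C E := hS.hflat
  have hals : Function.Surjective (α.comp (πS Λ₁ X hS)) := hS.hα.comp (πS_surj Λ₁ X hS)
  have halγ : ∀ c, (α.comp (πS Λ₁ X hS)) (algebraMap C' (SCarrier Λ₁ X hS) c) =
      algebraMap k B₀ (res' c) := by
    intro c
    show α (πS Λ₁ X hS (γS Λ₁ X hS c)) = _
    rw [πS_γS, hS.hcomp, hS.hres]
  have hker : RingHom.ker (α.comp (πS Λ₁ X hS)) =
      (RingHom.ker (res' : C' →+* k)).map (algebraMap C' (SCarrier Λ₁ X hS)) := ker_alS Λ₁ X hS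
  have hio : ∀ m, iotaGen res' (RingHom.ker p) hS.hJ (α.comp (πS Λ₁ X hS)) hals halγ hker m =
      ιS Λ₁ X hS m := by
    intro m
    induction m using TensorProduct.induction_on with
    | zero => rw [map_zero, map_zero]
    | tmul b j =>
      obtain ⟨x, rfl⟩ := hals b
      obtain ⟨v, rfl⟩ := Smk_surjective Λ₁ X hS x
      rw [iotaGen_tmul]
      exact γS_mul Λ₁ X hS j v
    | add x y hx hy => rw [map_add, map_add, hx, hy]
  have hinj : Function.Injective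
      (iotaGen res' (RingHom.ker p) hS.hJ (α.comp (πS Λ₁ X hS)) hals halγ hker) := by
    intro m m' h
    rw [hio, hio] at h
    exact ιS_injective Λ₁ X hS h
  have htor : Function.Injective ((RingHom.ker p).subtype.rTensor (SCarrier Λ₁ X hS)) :=
    (iotaGen_injective_iff res' (RingHom.ker p) hS.hJ (α.comp (πS Λ₁ X hS)) hals halγ hker).1 hinj
  have h1 := Groth.Agent.Lib.ObsT2H3.flat_baseChange_quot_of_surjective (p : C' →+* C) hS.hp
    (SCarrier Λ₁ X hS) E (πS Λ₁ X hS : SCarrier Λ₁ X hS →+ E) (πS_surj Λ₁ X hS)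
    (fun a m => by
      show πS Λ₁ X hS (γS Λ₁ X hS a * m) = γ (p a) * πS Λ₁ X hS m
      rw [map_mul, πS_γS])
    (fun m hm => by
      have h2 : m ∈ RingHom.ker (πS Λ₁ X hS) := hm
      rw [ker_πS] at h2
      rw [Ideal.smul_top_eq_map]
      exact h2)
  haveI : Module.Flat (C' ⧸ RingHom.ker p) ((C' ⧸ RingHom.ker p) ⊗[C'] SCarrier Λ₁ X hS) := h1
  exact Groth.Agent.Lib.LocalCrit4.flat_of_nilpotent (RingHom.ker p) (isNilpotent_ker hS)
    (SCarrier Λ₁ X hS) htor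

/-- the sum `Λ₁ + X`. -/
noncomputable def Sum : Lift p γ where
  E' := SCarrier Λ₁ X hS
  γ' := γS Λ₁ X hS
  π := πS Λ₁ X hS
  flat := flat_S Λ₁ X hS
  π_surj := πS_surj Λ₁ X hS
  π_γ' := πS_γS Λ₁ X hS
  ker_π := ker_πS Λ₁ X hS

theorem ι_Sum (m : B₀ ⊗[k] (RingHom.ker p)) : ι hS (Sum Λ₁ X hS) m = ιS Λ₁ X hS m := by
  induction m using TensorProduct.induction_on with
  | zero =>
    rw [map_zero, map_zero]
    rfl
  | tmul b j =>
    obtain ⟨x, rfl⟩ := al_surj hS (Sum Λ₁ X hS) b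
    obtain ⟨v, rfl⟩ := Smk_surjective Λ₁ X hS x
    rw [ι_tmul]
    exact γS_mul Λ₁ X hS j v
  | add x y hx hy =>
    rw [map_add, map_add, hx, hy]
    rfl

end Sum

end Lift

end Groth.Agent.Lib.DefTorsH3
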