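import Mathlib
import Groth.Prelude.Def_Exal
import Groth.Agent.Lib.DefTors5_helper3

/-!
# Liftings form a torsor under `Exalcom` (helper3)

Compatibilities between the difference `D` and the sum, and the resulting bijection between equivalence
classes of lifts and `Exalcom k B₀ (B₀ ⊗ J)` (given one lift).
-/

set_option autoImplicit false
set_option linter.unusedSectionVars false

universe u

open TensorProduct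

namespace Groth.Agent.Lib.DefTorsH3

variable {k : Type u} [Field k] {B₀ : Type u} [CommRing B₀] [Algebra k B₀]
  {C' C : Type u} [CommRing C'] [CommRing C] [Algebra k C'] [Algebra k C]
  {res' : C' →ₐ[k] k} {res : C →ₐ[k] k} {p : C' →ₐ[k] C}
  {E : Type u} [CommRing E] {γ : C →+* E} {α : E →+* B₀}

open Groth.Agent.Lib.Exal_helper9

theorem exists_ringHom_of_surjective {A B R : Type*} [CommRing A] [CommRing B] [CommRing R]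
    (f : A →+* B) (hf : Function.Surjective f) (g : A →+* R) (hg : ∀ a, f a = 0 → g a = 0) :
    ∃ φ : B →+* R, ∀ a, φ (f a) = g a := by
  refine ⟨RingHom.liftOfRightInverse f (Function.surjInv hf) (Function.rightInverse_surjInv hf)
    ⟨g, fun a ha => hg a ha⟩, fun a => ?_⟩
  exact RingHom.liftOfRightInverse_comp_apply f (Function.surjInv hf)
    (Function.rightInverse_surjInv hf) ⟨g, fun a ha => hg a ha⟩ a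

namespace Lift

variable (hS : IsSetting res' res p γ α)

/-- (a) the difference respects equivalences in the second variable. -/
theorem D_congr (Λ₁ : Lift p γ) {Λ₂ Λ₃ : Lift p γ} (e : Equiv Λ₂ Λ₃) :
    Nonempty ((D Λ₁ Λ₂ hS).Equiv (D Λ₁ Λ₃ hS)) := by
  let g : W Λ₁ Λ₂ →+* W Λ₁ Λ₃ :=
    RingHom.codRestrict ((fstW Λ₁ Λ₂).prod ((e.toRingEquiv : Λ₂.E' →+* Λ₃.E').comp (sndW Λ₁ Λ₂)))
      (W Λ₁ Λ₃) (fun w => by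
        show Λ₁.π (fstW Λ₁ Λ₂ w) = Λ₃.π (e.toRingEquiv (sndW Λ₁ Λ₂ w))
        rw [e.map_π, W_cond])
  have hg1 : ∀ w, fstW Λ₁ Λ₃ (g w) = fstW Λ₁ Λ₂ w := fun w => rfl
  have hg2 : ∀ w, sndW Λ₁ Λ₃ (g w) = e.toRingEquiv (sndW Λ₁ Λ₂ w) := fun w => rfl
  have heι : ∀ m, e.toRingEquiv (ι hS Λ₂ m) = ι hS Λ₃ m := fun m =>
    hom_ι hS (e.toRingEquiv : Λ₂.E' →+* Λ₃.E') e.map_γ' e.map_π m
  have hgκ : ∀ c, g (κW Λ₁ Λ₂ c) = κW Λ₁ Λ₃ c := by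
    intro c
    apply W_ext
    · rw [hg1, fstW_κW, fstW_κW]
    · rw [hg2, sndW_κW, sndW_κW, e.map_γ']
  have hgδ : ∀ m, g (δ Λ₁ Λ₂ hS m) = δ Λ₁ Λ₃ hS m := by
    intro m
    apply W_ext
    · rw [hg1, fstW_δ, fstW_δ]
    · rw [hg2, sndW_δ, sndW_δ, heι]
  have hgi : ∀ m, g (inclW Λ₁ Λ₂ hS m) = inclW Λ₁ Λ₃ hS m := by
    intro m
    apply W_ext
    · rw [hg1, fstW_inclW, fstW_inclW]
    · rw [hg2, sndW_inclW, sndW_inclW, heι]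
  have hle : K Λ₁ Λ₂ hS ≤ Ideal.comap g (K Λ₁ Λ₃ hS) := by
    refine sup_le ?_ ?_
    · rintro _ ⟨m, rfl⟩
      rw [Ideal.mem_comap, hgδ]
      exact δ_mem_K Λ₁ Λ₃ hS m
    · rw [Ideal.map_le_iff_le_comap]
      intro c hc
      rw [Ideal.mem_comap, Ideal.mem_comap, hgκ]
      exact κW_mem_K Λ₁ Λ₃ hS hc
  let φ₀ : DCarrier Λ₁ Λ₂ hS →+* DCarrier Λ₁ Λ₃ hS :=
    Dlift Λ₁ Λ₂ hS ((Dmk Λ₁ Λ₃ hS).comp g) (fun w hw => (Dmk_eq_zero_iff Λ₁ Λ₃ hS _).2 (hle hw))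
  have hφ₀ : ∀ w, φ₀ (Dmk Λ₁ Λ₂ hS w) = Dmk Λ₁ Λ₃ hS (g w) := fun w => rfl
  let φ : (D Λ₁ Λ₂ hS).E →ₐ[k] (D Λ₁ Λ₃ hS).E :=
    { toRingHom := φ₀
      commutes' := fun r => by
        show φ₀ (algebraMap k (DCarrier Λ₁ Λ₂ hS) r) = algebraMap k (DCarrier Λ₁ Λ₃ hS) r
        rw [algebraMap_D, algebraMap_D, hφ₀, hgκ] }
  refine ⟨equivOfHom (D Λ₁ Λ₂ hS) (D Λ₁ Λ₃ hS) φ ?_ ?_⟩
  · intro x
    obtain ⟨w, rfl⟩ := Dmk_surjective Λ₁ Λ₂ hS x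
    show projD Λ₁ Λ₃ hS (φ₀ (Dmk Λ₁ Λ₂ hS w)) = projD Λ₁ Λ₂ hS (Dmk Λ₁ Λ₂ hS w)
    rw [hφ₀, projD_mk, projD_mk, hg1]
  · intro m
    show φ₀ (inclD Λ₁ Λ₂ hS m) = inclD Λ₁ Λ₃ hS m
    rw [inclD_apply, inclD_apply, hφ₀, hgi]

/-- (b) the sum respects equivalences of extensions. -/
theorem Sum_congr (Λ₁ : Lift p γ) {X X' : Exal.Ext k B₀ (B₀ ⊗[k] (RingHom.ker p))}
    (e : X.Equiv X') : Nonempty (Equiv (Sum Λ₁ X hS) (Sum Λ₁ X' hS)) := by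
  let g : V Λ₁ X hS →+* V Λ₁ X' hS :=
    RingHom.codRestrict ((fstV Λ₁ X hS).prod ((e.toAlgEquiv : X.E →+* X'.E).comp (sndV Λ₁ X hS)))
      (V Λ₁ X' hS) (fun v => by
        show al α Λ₁ (fstV Λ₁ X hS v) = X'.proj (e.toAlgEquiv (sndV Λ₁ X hS v))
        rw [e.proj_apply, V_cond])
  have hg1 : ∀ v, fstV Λ₁ X' hS (g v) = fstV Λ₁ X hS v := fun v => rfl
  have hg2 : ∀ v, sndV Λ₁ X' hS (g v) = e.toAlgEquiv (sndV Λ₁ X hS v) := fun v => rfl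
  have hgδ : ∀ m, g (δs Λ₁ X hS m) = δs Λ₁ X' hS m := by
    intro m
    apply V_ext
    · rw [hg1, fstV_δs, fstV_δs]
    · rw [hg2, sndV_δs, sndV_δs, map_neg, e.apply_incl]
  have hgκ : ∀ c, g (κV Λ₁ X hS c) = κV Λ₁ X' hS c := by
    intro c
    apply V_ext
    · rw [hg1, fstV_κV, fstV_κV]
    · rw [hg2, sndV_κV, sndV_κV, AlgEquiv.commutes]
  let f : SCarrier Λ₁ X hS →+* SCarrier Λ₁ X' hS :=
    Slift Λ₁ X hS ((Smk Λ₁ X' hS).comp g) (fun m => by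
      show Smk Λ₁ X' hS (g (δs Λ₁ X hS m)) = 0
      rw [hgδ, Smk_δs])
  have hf : ∀ v, f (Smk Λ₁ X hS v) = Smk Λ₁ X' hS (g v) := fun v => rfl
  refine equiv_of_hom hS (Λ₁ := Sum Λ₁ X hS) (Λ₂ := Sum Λ₁ X' hS) f ?_ ?_
  · intro c
    show f (Smk Λ₁ X hS (κV Λ₁ X hS c)) = Smk Λ₁ X' hS (κV Λ₁ X' hS c)
    rw [hf, hgκ]
  · intro x
    obtain ⟨v, rfl⟩ := Smk_surjective Λ₁ X hS x
    show πS Λ₁ X' hS (f (Smk Λ₁ X hS v)) = πS Λ₁ X hS (Smk Λ₁ X hS v)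
    rw [hf, πS_mk, πS_mk, hg1]

/-- elements of `V` with vanishing second coordinate lie in `𝔪' V`. -/
theorem mem_map_κV (Λ₁ : Lift p γ) (X : Exal.Ext k B₀ (B₀ ⊗[k] (RingHom.ker p)))
    (v : V Λ₁ X hS) (hv : sndV Λ₁ X hS v = 0) :
    v ∈ Ideal.map (κV Λ₁ X hS) (RingHom.ker (res' : C' →+* k)) := by
  have key : ∀ x₁ ∈ Ideal.map Λ₁.γ' (RingHom.ker (res' : C' →+* k)),
      ∃ v' ∈ Ideal.map (κV Λ₁ X hS) (RingHom.ker (res' : C' →+* k)),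
        fstV Λ₁ X hS v' = x₁ ∧ sndV Λ₁ X hS v' = 0 := by
    intro x₁ hx
    refine Submodule.span_induction (p := fun x₁ _ => ∃ v' ∈ Ideal.map (κV Λ₁ X hS)
      (RingHom.ker (res' : C' →+* k)), fstV Λ₁ X hS v' = x₁ ∧ sndV Λ₁ X hS v' = 0) ?_ ?_ ?_ ?_ hx
    · rintro _ ⟨c, hc, rfl⟩
      refine ⟨κV Λ₁ X hS c, Ideal.mem_map_of_mem _ hc, rfl, ?_⟩
      have hc' : res' c = 0 := hc
      rw [sndV_κV, hc', map_zero]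
    · exact ⟨0, Ideal.zero_mem _, map_zero _, map_zero _⟩
    · rintro x y _ _ ⟨v, hv, rfl, hv2⟩ ⟨v', hv', rfl, hv2'⟩
      exact ⟨v + v', Ideal.add_mem _ hv hv', map_add _ _ _, by rw [map_add, hv2, hv2', add_zero]⟩
    · rintro r x _ ⟨v, hv, rfl, hv2⟩
      obtain ⟨t, ht⟩ := X.isExtension.proj_surjective (al α Λ₁ r)
      refine ⟨mkV Λ₁ X hS r t ht.symm * v, Ideal.mul_mem_left _ _ hv, ?_, ?_⟩
      · rw [map_mul, fstV_mkV, smul_eq_mul]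
      · rw [map_mul, hv2, mul_zero]
  have h1 : fstV Λ₁ X hS v ∈ Ideal.map Λ₁.γ' (RingHom.ker (res' : C' →+* k)) := by
    have := ker_al hS Λ₁
    rw [← algebraMap_eq, ← this, RingHom.mem_ker, V_cond, hv, map_zero]
  obtain ⟨v', hv', h2, h3⟩ := key _ h1
  have : v = v' := V_ext (by rw [h2]) (by rw [hv, h3])
  rw [this]
  exact hv'

/-- (c) `D(Λ₁, Λ₁ + X) ≅ X`. -/
theorem D_Sum (Λ₁ : Lift p γ) (X : Exal.Ext k B₀ (B₀ ⊗[k] (RingHom.ker p))) :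
    Nonempty (X.Equiv (D Λ₁ (Sum Λ₁ X hS) hS)) := by
  let h₀ : V Λ₁ X hS →+* W Λ₁ (Sum Λ₁ X hS) :=
    RingHom.codRestrict ((fstV Λ₁ X hS).prod (Smk Λ₁ X hS)) (W Λ₁ (Sum Λ₁ X hS)) (fun v => rfl)
  have h1 : ∀ v, fstW Λ₁ (Sum Λ₁ X hS) (h₀ v) = fstV Λ₁ X hS v := fun v => rfl
  have h2 : ∀ v, sndW Λ₁ (Sum Λ₁ X hS) (h₀ v) = Smk Λ₁ X hS v := fun v => rfl
  have hκ : ∀ c, h₀ (κV Λ₁ X hS c) = κW Λ₁ (Sum Λ₁ X hS) c := fun c => rfl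
  have hkill : ∀ v, sndV Λ₁ X hS v = 0 → Dmk Λ₁ (Sum Λ₁ X hS) hS (h₀ v) = 0 := by
    intro v hv
    rw [Dmk_eq_zero_iff]
    have hle : Ideal.map (κV Λ₁ X hS) (RingHom.ker (res' : C' →+* k)) ≤
        Ideal.comap h₀ (K Λ₁ (Sum Λ₁ X hS) hS) := by
      rw [Ideal.map_le_iff_le_comap]
      intro c hc
      rw [Ideal.mem_comap, Ideal.mem_comap, hκ]
      exact κW_mem_K Λ₁ (Sum Λ₁ X hS) hS hc
    exact hle (mem_map_κV hS Λ₁ X v hv)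
  have hsurj : Function.Surjective (sndV Λ₁ X hS) := by
    intro y
    obtain ⟨x, hx⟩ := al_surj hS Λ₁ (X.proj y)
    exact ⟨mkV Λ₁ X hS x y hx, rfl⟩
  obtain ⟨φ₀, hφ₀⟩ := exists_ringHom_of_surjective (sndV Λ₁ X hS) hsurj
    ((Dmk Λ₁ (Sum Λ₁ X hS) hS).comp h₀) hkill
  have hφ₀' : ∀ v, φ₀ (sndV Λ₁ X hS v) = Dmk Λ₁ (Sum Λ₁ X hS) hS (h₀ v) := hφ₀
  let φ : X.E →ₐ[k] (D Λ₁ (Sum Λ₁ X hS) hS).E :=
    { toRingHom := φ₀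
      commutes' := fun r => by
        show φ₀ (algebraMap k X.E r) = algebraMap k (DCarrier Λ₁ (Sum Λ₁ X hS) hS) r
        have h3 : sndV Λ₁ X hS (κV Λ₁ X hS (algebraMap k C' r)) = algebraMap k X.E r := by
          rw [sndV_κV, AlgHom.commutes, Algebra.algebraMap_self_apply]
        rw [← h3, hφ₀', hκ, algebraMap_D] }
  refine ⟨equivOfHom X (D Λ₁ (Sum Λ₁ X hS) hS) φ ?_ ?_⟩
  · intro y
    obtain ⟨v, rfl⟩ := hsurj y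
    show projD Λ₁ (Sum Λ₁ X hS) hS (φ₀ (sndV Λ₁ X hS v)) = _
    rw [hφ₀', projD_mk, h1, V_cond]
  · intro m
    show φ₀ (X.incl m) = inclD Λ₁ (Sum Λ₁ X hS) hS m
    have h3 : sndV Λ₁ X hS (inclV' Λ₁ X hS m) = X.incl m := rfl
    rw [← h3, hφ₀', inclD_apply]
    congr 1
    apply W_ext
    · rw [h1, fstV_inclV', fstW_inclW]
    · rw [h2, sndW_inclW, ι_Sum, ιS_apply']

/-- (d) `Λ₁ + D(Λ₁, Λ₂) ≅ Λ₂`. -/
theorem Sum_D (Λ₁ Λ₂ : Lift p γ) :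
    Nonempty (Equiv Λ₂ (Sum Λ₁ (D Λ₁ Λ₂ hS) hS)) := by
  let g₀ : W Λ₁ Λ₂ →+* V Λ₁ (D Λ₁ Λ₂ hS) hS :=
    RingHom.codRestrict ((fstW Λ₁ Λ₂).prod (Dmk Λ₁ Λ₂ hS)) (V Λ₁ (D Λ₁ Λ₂ hS) hS) (fun w => rfl)
  have h1 : ∀ w, fstV Λ₁ (D Λ₁ Λ₂ hS) hS (g₀ w) = fstW Λ₁ Λ₂ w := fun w => rfl
  have h2 : ∀ w, sndV Λ₁ (D Λ₁ Λ₂ hS) hS (g₀ w) = Dmk Λ₁ Λ₂ hS w := fun w => rfl
  have hkill : ∀ w, sndW Λ₁ Λ₂ w = 0 → Smk Λ₁ (D Λ₁ Λ₂ hS) hS (g₀ w) = 0 := by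
    intro w hw
    have h3 : Λ₁.π (fstW Λ₁ Λ₂ w) = 0 := by rw [W_cond, hw, map_zero]
    obtain ⟨m, hm⟩ := exists_ι_eq hS Λ₁ h3
    rw [Smk_eq_zero_iff]
    refine ⟨m, ?_⟩
    have h4 : w = δ Λ₁ Λ₂ hS m - inclW Λ₁ Λ₂ hS m := by
      apply W_ext
      · rw [map_sub, fstW_δ, fstW_inclW, sub_zero, hm]
      · rw [map_sub, sndW_δ, sndW_inclW, sub_self, hw]
    apply V_ext
    · rw [fstV_δs, h1, hm]
    · rw [sndV_δs, h2, h4, map_sub, (Dmk_eq_zero_iff Λ₁ Λ₂ hS _).2 (δ_mem_K Λ₁ Λ₂ hS m), zero_sub]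
      rfl
  have hsurj : Function.Surjective (sndW Λ₁ Λ₂) := by
    intro x₂
    obtain ⟨x₁, hx₁⟩ := Λ₁.π_surj (Λ₂.π x₂)
    exact ⟨mkW x₁ x₂ hx₁, rfl⟩
  obtain ⟨ψ, hψ⟩ := exists_ringHom_of_surjective (sndW Λ₁ Λ₂) hsurj
    ((Smk Λ₁ (D Λ₁ Λ₂ hS) hS).comp g₀) hkill
  have hψ' : ∀ w, ψ (sndW Λ₁ Λ₂ w) = Smk Λ₁ (D Λ₁ Λ₂ hS) hS (g₀ w) := hψ
  refine equiv_of_hom hS (Λ₁ := Λ₂) (Λ₂ := Sum Λ₁ (D Λ₁ Λ₂ hS) hS) ψ ?_ ?_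
  · intro c
    show ψ (Λ₂.γ' c) = Smk Λ₁ (D Λ₁ Λ₂ hS) hS (κV Λ₁ (D Λ₁ Λ₂ hS) hS c)
    rw [← sndW_κW Λ₁ Λ₂ c, hψ']
    congr 1
    apply V_ext
    · rw [h1, fstW_κW, fstV_κV]
    · rw [h2, sndV_κV, Dmk_κW]
      rfl
  · intro x₂
    obtain ⟨w, rfl⟩ := hsurj x₂
    show πS Λ₁ (D Λ₁ Λ₂ hS) hS (ψ (sndW Λ₁ Λ₂ w)) = Λ₂.π (sndW Λ₁ Λ₂ w)
    rw [hψ', πS_mk, h1, W_cond]

include hS in
/-- Equivalence classes of lifts correspond to `Exalcom`, given one lift. -/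
theorem nonempty_equiv_exalcom (Λ₀ : Lift p γ) :
    Nonempty (Quot (fun Λ₁ Λ₂ : Lift p γ => Nonempty (Equiv Λ₁ Λ₂)) ≃
      Exal.Exalcom k B₀ (B₀ ⊗[k] (RingHom.ker p))) := by
  refine ⟨{ toFun := Quot.lift (fun Λ => (D Λ₀ Λ hS).cl) ?_
            invFun := Quotient.lift (fun X => Quot.mk _ (Sum Λ₀ X hS)) ?_
            left_inv := ?_
            right_inv := ?_ }⟩
  · rintro Λ Λ' ⟨e⟩
    exact Quotient.sound (D_congr hS Λ₀ e)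
  · rintro X X' ⟨e⟩
    exact Quot.sound (Sum_congr hS Λ₀ e)
  · intro q
    induction q using Quot.ind with
    | mk Λ =>
      obtain ⟨e⟩ := Sum_D hS Λ₀ Λ
      exact Quot.sound ⟨e.symm⟩
  · intro q
    induction q using Quotient.ind with
    | _ X =>
      obtain ⟨e⟩ := D_Sum hS Λ₀ X
      exact Quotient.sound ⟨e.symm⟩

end Lift

end Groth.Agent.Lib.DefTorsH3
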