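import Mathlib
import Groth.Agent.Lib.DefRing1_helper3
import Groth.Agent.Lib.DefTors6_helper3

/-!
# Pullback squares of affine schemes over a surjection of rings (helper3)

For a pullback square `X → X'` over `Spec R → Spec R'` with `R' → R` surjective and `X'` affine : the map
on global sections is surjective with kernel generated by `ker (R' → R)`.
-/

set_option autoImplicit false
set_option linter.unusedSectionVars false

universe u

open CategoryTheory CategoryTheory.Limits AlgebraicGeometry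

namespace Groth.Agent.Lib.DefTorsH3

open Groth.Agent.Lib.DefTrivArtH3 Groth.Agent.Lib.DefDualH3 Groth.Agent.Lib.DefRingH3

section PB

variable {R' R : Type u} [CommRing R'] [CommRing R] (φ : R' →+* R)
  {X X' : Scheme.{u}} (f : X ⟶ Spec (CommRingCat.of R)) (g : X' ⟶ Spec (CommRingCat.of R'))
  (j : X ⟶ X')

theorem gammaC_comp (hw : j ≫ g = f ≫ Spec.map (CommRingCat.ofHom φ)) :
    gammaC g ≫ j.appTop = CommRingCat.ofHom φ ≫ gammaC f := by
  calc gammaC g ≫ j.appTop = (Scheme.ΓSpecIso _).inv ≫ (j ≫ g).appTop := by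
        rw [Scheme.Hom.comp_appTop, gammaC, Category.assoc]
    _ = (Scheme.ΓSpecIso _).inv ≫ (Spec.map (CommRingCat.ofHom φ)).appTop ≫ f.appTop := by
        rw [hw, Scheme.Hom.comp_appTop]
    _ = CommRingCat.ofHom φ ≫ gammaC f := by
        rw [← Category.assoc, ← Scheme.ΓSpecIso_inv_naturality, Category.assoc, gammaC]

theorem gammaC_comp_apply (hw : j ≫ g = f ≫ Spec.map (CommRingCat.ofHom φ)) (a : R') :
    j.appTop.hom ((gammaC g).hom a) = (gammaC f).hom (φ a) :=
  congrArg (fun ψ => ψ.hom a) (gammaC_comp φ f g j hw)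

theorem ker_le_of_isPullback [IsAffine X'] (hφ : Function.Surjective φ)
    (hsq : IsPullback j f g (Spec.map (CommRingCat.ofHom φ))) (x : Γ(X', ⊤))
    (hx : j.appTop.hom x = 0) :
    x ∈ (RingHom.ker φ).map (gammaC g).hom := by
  let I : Ideal Γ(X', ⊤) := (RingHom.ker φ).map (gammaC g).hom
  let Q : CommRingCat.{u} := CommRingCat.of (Γ(X', ⊤) ⧸ I)
  let mk : Γ(X', ⊤) ⟶ Q := CommRingCat.ofHom (Ideal.Quotient.mk I)
  obtain ⟨κ₀, hκ₀⟩ := exists_ringHom_of_surjective φ hφ
    ((Ideal.Quotient.mk I).comp (gammaC g).hom) (fun a ha => by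
      show Ideal.Quotient.mk I ((gammaC g).hom a) = 0
      rw [Ideal.Quotient.eq_zero_iff_mem]
      exact Ideal.mem_map_of_mem _ ha)
  let κ : CommRingCat.of R ⟶ Q := CommRingCat.ofHom κ₀
  have hκ : CommRingCat.ofHom φ ≫ κ = gammaC g ≫ mk := by
    apply CommRingCat.hom_ext
    apply RingHom.ext
    intro a
    exact hκ₀ a
  have hg : g = X'.isoSpec.hom ≫ Spec.map (gammaC g) := hom_to_Spec g
  have hzw : (Spec.map mk ≫ X'.isoSpec.inv) ≫ g =
      Spec.map κ ≫ Spec.map (CommRingCat.ofHom φ) := by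
    conv_lhs => rw [hg]
    simp only [Category.assoc, Iso.inv_hom_id_assoc, ← Spec.map_comp, hκ]
  have hl : hsq.lift (Spec.map mk ≫ X'.isoSpec.inv) (Spec.map κ) hzw ≫ j =
      Spec.map mk ≫ X'.isoSpec.inv := hsq.lift_fst _ _ _
  have hz : (Spec.map mk ≫ X'.isoSpec.inv).appTop = mk ≫ (Scheme.ΓSpecIso Q).inv := by
    rw [Scheme.Hom.comp_appTop, isoSpec_inv_appTop', ← Scheme.ΓSpecIso_inv_naturality]
  have h0 : (Spec.map mk ≫ X'.isoSpec.inv).appTop.hom x = 0 := by
    rw [← hl, Scheme.Hom.comp_appTop]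
    show (hsq.lift (Spec.map mk ≫ X'.isoSpec.inv) (Spec.map κ) hzw).appTop.hom
      (j.appTop.hom x) = 0
    rw [hx, map_zero]
  rw [hz] at h0
  have hmk : Ideal.Quotient.mk I x = 0 := by
    have hinj : Function.Injective (Scheme.ΓSpecIso Q).inv.hom :=
      (ConcreteCategory.bijective_of_isIso (Scheme.ΓSpecIso Q).inv).1
    apply hinj
    rw [map_zero]
    exact h0
  exact Ideal.Quotient.eq_zero_iff_mem.1 hmk

theorem ker_of_isPullback [IsAffine X'] (hφ : Function.Surjective φ)
    (hsq : IsPullback j f g (Spec.map (CommRingCat.ofHom φ))) :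
    RingHom.ker j.appTop.hom = (RingHom.ker φ).map (gammaC g).hom := by
  apply le_antisymm
  · intro x hx
    exact ker_le_of_isPullback φ f g j hφ hsq x hx
  · rw [Ideal.map_le_iff_le_comap]
    intro a ha
    rw [Ideal.mem_comap, RingHom.mem_ker, gammaC_comp_apply φ f g j hsq.w,
      (RingHom.mem_ker).1 ha, map_zero]

theorem surjective_of_isPullback [IsAffine X'] (hφ : Function.Surjective φ)
    (hsq : IsPullback j f g (Spec.map (CommRingCat.ofHom φ))) :
    Function.Surjective j.appTop.hom := by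
  have hc : IsClosedImmersion (Spec.map (CommRingCat.ofHom φ)) :=
    IsClosedImmersion.spec_of_surjective (CommRingCat.ofHom φ) hφ
  haveI hjc : IsClosedImmersion j :=
    MorphismProperty.of_isPullback (P := @IsClosedImmersion) hsq.flip hc
  exact (IsClosedImmersion.isAffine_surjective_of_isAffine j).2

end PB

end Groth.Agent.Lib.DefTorsH3
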