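import Mathlib
import Groth.Prelude.Def_ArtFun4
import Groth.Agent.Lib.DefTors7_helper3

/-!
# Extensions of an affine deformation and liftings of rings (helper3), part 1

For a deformation `𝒳` of `Spec B₀` over `C` and `p : C' ⟶ C` : the structure morphism `jOf` of an
extension `(𝒳', u)`, the relation in terms of `jOf`, the ring-level setting and the lift attached to an
extension.
-/

set_option autoImplicit false
set_option linter.unusedSectionVars false

universe u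

open CategoryTheory CategoryTheory.Limits AlgebraicGeometry

namespace Groth.Agent.Lib.DefTorsH3

open Groth.Agent.Lib.DefTrivArtH3 Groth.Agent.Lib.DefDualH3 Groth.Agent.Lib.DefRingH3

variable {k : Type u} [Field k] {B₀ : Type u} [CommRing B₀] [Algebra k B₀]
  {C' C : ArtFun.Art k k} (p : C' ⟶ C)
  (𝒳 : ArtFun.DefSch (Spec (CommRingCat.of B₀)) (Spec.map (CommRingCat.ofHom (algebraMap k B₀))) C)

/-- the type of extensions of `𝒳` over `C'`. -/
abbrev ExtOf : Type (u + 1) :=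
  Σ 𝒳' : ArtFun.DefSch (Spec (CommRingCat.of B₀)) (Spec.map (CommRingCat.ofHom (algebraMap k B₀))) C',
    (𝒳'.baseChange p).Iso 𝒳

variable {p 𝒳}

/-- the morphism `𝒳 ⟶ 𝒳'` of an extension. -/
noncomputable def jOf (a : ExtOf p 𝒳) : 𝒳.total ⟶ a.1.total :=
  a.2.iso.inv ≫ pullback.fst a.1.f (ArtFun.Art.specMap p)

theorem inv_snd (a : ExtOf p 𝒳) :
    a.2.iso.inv ≫ pullback.snd a.1.f (ArtFun.Art.specMap p) = 𝒳.f := by
  rw [Iso.inv_comp_eq]
  exact a.2.hom_f.symm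

theorem jOf_f (a : ExtOf p 𝒳) : jOf a ≫ a.1.f = 𝒳.f ≫ ArtFun.Art.specMap p := by
  rw [jOf, Category.assoc, pullback.condition, ← Category.assoc, inv_snd]

theorem i_jOf (a : ExtOf p 𝒳) : 𝒳.i ≫ jOf a = a.1.i := by
  have h : 𝒳.i ≫ a.2.iso.inv = (a.1.baseChange p).i := by
    rw [Iso.comp_inv_eq]
    exact a.2.i_hom.symm
  rw [jOf, ← Category.assoc, h]
  exact ArtFun.DefSch.baseChange_i_fst a.1 p

theorem isPullback_jOf (a : ExtOf p 𝒳) :
    IsPullback (jOf a) 𝒳.f a.1.f (ArtFun.Art.specMap p) := by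
  refine IsPullback.of_iso (IsPullback.of_hasPullback a.1.f (ArtFun.Art.specMap p)) a.2.iso
    (Iso.refl _) (Iso.refl _) (Iso.refl _) ?_ ?_ ?_ ?_
  · rw [Iso.refl_hom, Category.comp_id, jOf, Iso.hom_inv_id_assoc]
  · rw [Iso.refl_hom, Category.comp_id]
    exact a.2.hom_f.symm
  · rw [Iso.refl_hom, Iso.refl_hom, Category.comp_id, Category.id_comp]
  · rw [Iso.refl_hom, Iso.refl_hom, Category.comp_id, Category.id_comp]

theorem rel_iff (a b : ExtOf p 𝒳) :
    (∃ ψ : a.1.Iso b.1, ((ψ.baseChange p).trans b.2).iso = a.2.iso) ↔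
      ∃ ψ : a.1.Iso b.1, jOf a ≫ ψ.iso.hom = jOf b := by
  constructor
  · rintro ⟨ψ, h⟩
    refine ⟨ψ, ?_⟩
    have h1 : ArtFun.DefSch.pullMap ψ.iso.hom ψ.hom_f p ≫ b.2.iso.hom = a.2.iso.hom :=
      congrArg Iso.hom h
    have h2 : a.2.iso.inv ≫ ArtFun.DefSch.pullMap ψ.iso.hom ψ.hom_f p = b.2.iso.inv := by
      rw [Iso.inv_comp_eq, ← h1, Category.assoc, Iso.hom_inv_id, Category.comp_id]
    rw [jOf, jOf, Category.assoc, ← ArtFun.DefSch.pullMap_fst ψ.iso.hom ψ.hom_f p,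
      ← Category.assoc, h2]
  · rintro ⟨ψ, h⟩
    refine ⟨ψ, ?_⟩
    apply Iso.ext
    show ArtFun.DefSch.pullMap ψ.iso.hom ψ.hom_f p ≫ b.2.iso.hom = a.2.iso.hom
    have h2 : a.2.iso.inv ≫ ArtFun.DefSch.pullMap ψ.iso.hom ψ.hom_f p = b.2.iso.inv := by
      apply pullback.hom_ext
      · rw [Category.assoc, ArtFun.DefSch.pullMap_fst, ← Category.assoc]
        exact h
      · rw [Category.assoc, ArtFun.DefSch.pullMap_snd, inv_snd, inv_snd]
    have h3 : ArtFun.DefSch.pullMap ψ.iso.hom ψ.hom_f p = a.2.iso.hom ≫ b.2.iso.inv := by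
      rw [← h2, Iso.hom_inv_id_assoc]
    rw [h3, Category.assoc, Iso.inv_hom_id, Category.comp_id]

variable (𝒳) in
/-- the augmentation `Γ(𝒳) → B₀`. -/
noncomputable def αOf : Γ(𝒳.total, ⊤) →+* B₀ :=
  ((theta B₀).symm : Γ(Spec (CommRingCat.of B₀), ⊤) →+* B₀).comp 𝒳.i.appTop.hom

theorem theta_αOf (y : Γ(𝒳.total, ⊤)) : theta B₀ (αOf 𝒳 y) = 𝒳.i.appTop.hom y :=
  (theta B₀).apply_symm_apply _

variable (p 𝒳) in
theorem isSetting (hp : ArtFun.Art.IsSemismallExt p) :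
    IsSetting C'.res C.res p.toAlgHom (gammaC 𝒳.f).hom (αOf 𝒳) := by
  haveI : Flat 𝒳.f := 𝒳.flat
  obtain ⟨-, h1, h2, hflat, hker⟩ := ring_data (A := C) C.res
    (Spec.map (CommRingCat.ofHom (algebraMap k B₀))) 𝒳.f 𝒳.i 𝒳.isPullback
  refine ⟨fun c => ArtFun.Art.res_app p c, hp.1, ?_, hflat, ?_, ?_, ?_⟩
  · intro a ha j hj
    have ha' : a ∈ IsLocalRing.maximalIdeal C' := (ArtFun.Art.mem_maximalIdeal_iff C' a).2 ha
    have : a * j ∈ IsLocalRing.maximalIdeal C' * RingHom.ker p.toAlgHom :=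
      Ideal.mul_mem_mul ha' hj
    rw [hp.2] at this
    exact this
  · exact (theta B₀).symm.surjective.comp h2
  · rw [ker_e C.res, ← hker]
    ext y
    rw [RingHom.mem_ker, RingHom.mem_ker]
    constructor
    · intro h
      rw [← theta_αOf, h, map_zero]
    · intro h
      apply (theta B₀).injective
      rw [theta_αOf, h, map_zero]
  · intro a
    apply (theta B₀).injective
    rw [theta_αOf, h1, etaC_eq]

/-- the lift attached to an extension. -/
@[reducible] noncomputable def liftOf (hp : ArtFun.Art.IsSemismallExt p) (a : ExtOf p 𝒳) :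
    Lift p.toAlgHom (gammaC 𝒳.f).hom where
  E' := Γ(a.1.total, ⊤)
  γ' := (gammaC a.1.f).hom
  π := (jOf a).appTop.hom
  flat := by
    haveI : Flat a.1.f := a.1.flat
    exact (ring_data (A := C') C'.res (Spec.map (CommRingCat.ofHom (algebraMap k B₀))) a.1.f a.1.i
      a.1.isPullback).2.2.2.1
  π_surj := by
    haveI := isAffine_total a.1
    exact surjective_of_isPullback p.toAlgHom.toRingHom 𝒳.f a.1.f (jOf a) hp.1 (isPullback_jOf a)
  π_γ' := fun c => gammaC_comp_apply p.toAlgHom.toRingHom 𝒳.f a.1.f (jOf a) (jOf_f a) c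
  ker_π := by
    haveI := isAffine_total a.1
    exact ker_of_isPullback p.toAlgHom.toRingHom 𝒳.f a.1.f (jOf a) hp.1 (isPullback_jOf a)

theorem al_liftOf (hp : ArtFun.Art.IsSemismallExt p) (a : ExtOf p 𝒳) (y : Γ(a.1.total, ⊤)) :
    theta B₀ (Lift.al (αOf 𝒳) (liftOf hp a) y) = a.1.i.appTop.hom y := by
  show theta B₀ (αOf 𝒳 ((jOf a).appTop.hom y)) = _
  rw [theta_αOf, ← i_jOf a, Scheme.Hom.comp_appTop]
  rfl

/-- related extensions have equivalent lifts. -/
theorem equiv_of_rel (hp : ArtFun.Art.IsSemismallExt p) (a b : ExtOf p 𝒳)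
    (h : ∃ ψ : a.1.Iso b.1, ((ψ.baseChange p).trans b.2).iso = a.2.iso) :
    Nonempty (Lift.Equiv (liftOf hp a) (liftOf hp b)) := by
  obtain ⟨ψ, hψ⟩ := (rel_iff a b).1 h
  have hS := isSetting p 𝒳 hp
  obtain ⟨e⟩ := Lift.equiv_of_hom hS (Λ₁ := liftOf hp b) (Λ₂ := liftOf hp a) ψ.iso.hom.appTop.hom
    (fun c => by
      have h1 : gammaC b.1.f ≫ ψ.iso.hom.appTop = gammaC a.1.f := by
        rw [gammaC, gammaC, Category.assoc, ← Scheme.Hom.comp_appTop, ψ.hom_f]
      exact congrArg (fun φ => φ.hom c) h1)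
    (fun x => by
      have h1 : ψ.iso.hom.appTop ≫ (jOf a).appTop = (jOf b).appTop := by
        rw [← Scheme.Hom.comp_appTop, hψ]
      exact congrArg (fun φ => φ.hom x) h1)
  exact ⟨e.symm⟩

end Groth.Agent.Lib.DefTorsH3
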