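import Mathlib
import Groth.Prelude.Def_ArtFun4
import Groth.Agent.Lib.DefTors8_helper3

/-!
# Extensions of an affine deformation and liftings of rings (helper3), part 2

The extension attached to a lift, and the bijection between classes of extensions and classes of lifts.
-/

set_option autoImplicit false
set_option linter.unusedSectionVars false

universe u

open CategoryTheory CategoryTheory.Limits AlgebraicGeometry

namespace Groth.Agent.Lib.DefTorsH3

open Groth.Agent.Lib.DefTrivArtH3 Groth.Agent.Lib.DefDualH3 Groth.Agent.Lib.DefRingH3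

variable {k : Type u} [Field k] {B₀ : Type u} [CommRing B₀] [Algebra k B₀]
  {C' C : ArtFun.Art k k} {p : C' ⟶ C}
  {𝒳 : ArtFun.DefSch (Spec (CommRingCat.of B₀)) (Spec.map (CommRingCat.ofHom (algebraMap k B₀))) C}
  (hp : ArtFun.Art.IsSemismallExt p)

include hp in
theorem ker_al_max (Λ : Lift p.toAlgHom (gammaC 𝒳.f).hom) :
    RingHom.ker (Lift.al (αOf 𝒳) Λ) = (IsLocalRing.maximalIdeal C').map Λ.γ' := by
  rw [Lift.ker_al (isSetting p 𝒳 hp) Λ, ker_e C'.res]
  rfl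

/-- the deformation over `C'` attached to a lift. -/
@[reducible] noncomputable def defOf (Λ : Lift p.toAlgHom (gammaC 𝒳.f).hom) :
    ArtFun.DefSch (Spec (CommRingCat.of B₀)) (Spec.map (CommRingCat.ofHom (algebraMap k B₀))) C' :=
  ofRing C' Λ.E' Λ.γ' (Lift.al (αOf 𝒳) Λ) Λ.flat (Lift.al_surj (isSetting p 𝒳 hp) Λ)
    (ker_al_max hp Λ) (Lift.al_γ' (isSetting p 𝒳 hp) Λ)

/-- the morphism `𝒳 ⟶ Spec E'` attached to a lift. -/
noncomputable def jLift (Λ : Lift p.toAlgHom (gammaC 𝒳.f).hom) :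
    𝒳.total ⟶ Spec (CommRingCat.of Λ.E') :=
  𝒳.total.toSpecΓ ≫ Spec.map (CommRingCat.ofHom Λ.π)

include hp in
theorem isPullback_jLift (Λ : Lift p.toAlgHom (gammaC 𝒳.f).hom) :
    IsPullback (jLift Λ) 𝒳.f (Spec.map (CommRingCat.ofHom Λ.γ')) (ArtFun.Art.specMap p) := by
  haveI := isAffine_total 𝒳
  have hpo := isPushout_of_surjective Λ.γ' p.toAlgHom.toRingHom Λ.π (gammaC 𝒳.f).hom Λ.π_γ' hp.1
    Λ.π_surj Λ.ker_π
  have hpb : IsPullback (Spec.map (CommRingCat.ofHom Λ.π))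
      (Spec.map (CommRingCat.ofHom (gammaC 𝒳.f).hom))
      (Spec.map (CommRingCat.ofHom Λ.γ')) (ArtFun.Art.specMap p) :=
    isPullback_SpecMap_of_isPushout _ _ _ _ hpo
  refine IsPullback.of_iso hpb 𝒳.total.isoSpec.symm (Iso.refl _) (Iso.refl _) (Iso.refl _)
    ?_ ?_ ?_ ?_
  · rw [Iso.refl_hom, Category.comp_id, Iso.symm_hom, jLift, ← Scheme.isoSpec_hom,
      Iso.inv_hom_id_assoc]
  · rw [Iso.refl_hom, Category.comp_id, Iso.symm_hom, Iso.eq_inv_comp]
    exact (hom_to_Spec 𝒳.f).symm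
  · rw [Iso.refl_hom, Iso.refl_hom, Category.comp_id, Category.id_comp]
  · rw [Iso.refl_hom, Iso.refl_hom, Category.comp_id, Category.id_comp]

theorem i_jLift (Λ : Lift p.toAlgHom (gammaC 𝒳.f).hom) :
    𝒳.i ≫ jLift Λ = Spec.map (CommRingCat.ofHom (Lift.al (αOf 𝒳) Λ)) := by
  haveI := isAffine_total 𝒳
  have h1 : CommRingCat.ofHom (Lift.al (αOf 𝒳) Λ) =
      CommRingCat.ofHom Λ.π ≫ 𝒳.i.appTop ≫ (Scheme.ΓSpecIso (CommRingCat.of B₀)).hom := by
    apply CommRingCat.hom_ext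
    apply RingHom.ext
    intro y
    rfl
  rw [h1, Spec.map_comp, Spec.map_comp, jLift, ← Scheme.isoSpec_hom, ← Category.assoc,
    ← Scheme.isoSpec_hom_naturality, Scheme.isoSpec_Spec_hom, Category.assoc]

/-- the identification of the base change of `defOf Λ` with `𝒳`. -/
noncomputable def uOf (Λ : Lift p.toAlgHom (gammaC 𝒳.f).hom) :
    ((defOf hp Λ).baseChange p).Iso 𝒳 where
  iso := (IsPullback.of_hasPullback (defOf hp Λ).f (ArtFun.Art.specMap p)).isoIsPullback _ _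
    (isPullback_jLift hp Λ)
  hom_f := IsPullback.isoIsPullback_hom_snd _ _ _ _
  i_hom := by
    apply (isPullback_jLift hp Λ).hom_ext
    · rw [Category.assoc, IsPullback.isoIsPullback_hom_fst, i_jLift]
      exact ArtFun.DefSch.baseChange_i_fst (defOf hp Λ) p
    · rw [Category.assoc, IsPullback.isoIsPullback_hom_snd]
      exact (ArtFun.DefSch.baseChange_i_f (defOf hp Λ) p).trans 𝒳.i_f.symm

/-- the extension attached to a lift. -/
@[reducible] noncomputable def extOf (Λ : Lift p.toAlgHom (gammaC 𝒳.f).hom) : ExtOf p 𝒳 :=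
  ⟨defOf hp Λ, uOf hp Λ⟩

theorem jOf_extOf (Λ : Lift p.toAlgHom (gammaC 𝒳.f).hom) : jOf (extOf hp Λ) = jLift Λ :=
  IsPullback.isoIsPullback_inv_fst _ _ _ _

/-- equivalent lifts give related extensions. -/
theorem rel_of_equiv {Λ₁ Λ₂ : Lift p.toAlgHom (gammaC 𝒳.f).hom} (e : Lift.Equiv Λ₁ Λ₂) :
    ∃ ψ : (extOf hp Λ₂).1.Iso (extOf hp Λ₁).1,
      ((ψ.baseChange p).trans (extOf hp Λ₁).2).iso = (extOf hp Λ₂).2.iso := by
  rw [rel_iff]
  let ec : CommRingCat.of Λ₁.E' ≅ CommRingCat.of Λ₂.E' := e.toRingEquiv.toCommRingCatIso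
  have hec : ec.hom = CommRingCat.ofHom (e.toRingEquiv : Λ₁.E' →+* Λ₂.E') := rfl
  have hf : Spec.map ec.hom ≫ Spec.map (CommRingCat.ofHom Λ₁.γ') =
      Spec.map (CommRingCat.ofHom Λ₂.γ') := by
    rw [← Spec.map_comp, hec, ← CommRingCat.ofHom_comp]
    congr 2
    exact RingHom.ext e.map_γ'
  have hi : Spec.map (CommRingCat.ofHom (Lift.al (αOf 𝒳) Λ₂)) ≫ Spec.map ec.hom =
      Spec.map (CommRingCat.ofHom (Lift.al (αOf 𝒳) Λ₁)) := by
    rw [← Spec.map_comp, hec, ← CommRingCat.ofHom_comp]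
    congr 2
    apply RingHom.ext
    intro x
    show αOf 𝒳 (Λ₂.π (e.toRingEquiv x)) = αOf 𝒳 (Λ₁.π x)
    rw [e.map_π]
  refine ⟨{ iso := Scheme.Spec.mapIso ec.op, hom_f := hf, i_hom := hi }, ?_⟩
  rw [jOf_extOf, jOf_extOf]
  show jLift Λ₂ ≫ Spec.map ec.hom = jLift Λ₁
  rw [jLift, jLift, Category.assoc, ← Spec.map_comp, hec, ← CommRingCat.ofHom_comp]
  congr 3
  exact RingHom.ext e.map_π

/-- every extension is related to the extension attached to its lift. -/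
theorem rel_extOf_liftOf (a : ExtOf p 𝒳) :
    ∃ ψ : a.1.Iso (extOf hp (liftOf hp a)).1,
      ((ψ.baseChange p).trans (extOf hp (liftOf hp a)).2).iso = a.2.iso := by
  rw [rel_iff]
  haveI := isAffine_total 𝒳
  haveI := isAffine_total a.1
  have hnat : jOf a ≫ a.1.total.isoSpec.hom = jLift (liftOf hp a) :=
    (Scheme.isoSpec_hom_naturality (jOf a)).symm
  refine ⟨{ iso := a.1.total.isoSpec, hom_f := (hom_to_Spec a.1.f).symm, i_hom := ?_ }, ?_⟩
  · show a.1.i ≫ a.1.total.isoSpec.hom = Spec.map (CommRingCat.ofHom (Lift.al (αOf 𝒳) (liftOf hp a)))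
    rw [← i_jLift, ← hnat, ← Category.assoc, i_jOf]
  · rw [jOf_extOf]
    exact hnat

/-- a lift is equivalent to the lift of its extension. -/
theorem equiv_liftOf_extOf (Λ : Lift p.toAlgHom (gammaC 𝒳.f).hom) :
    Nonempty (Lift.Equiv Λ (liftOf hp (extOf hp Λ))) := by
  haveI := isAffine_total 𝒳
  refine Lift.equiv_of_hom (isSetting p 𝒳 hp) (Λ₁ := Λ) (Λ₂ := liftOf hp (extOf hp Λ))
    (theta Λ.E' : Λ.E' →+* Γ(Spec (CommRingCat.of Λ.E'), ⊤)) ?_ ?_
  · intro c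
    exact (gammaC_ofRing Λ.E' Λ.γ' (Lift.al (αOf 𝒳) Λ) Λ.flat
      (Lift.al_surj (isSetting p 𝒳 hp) Λ) (ker_al_max hp Λ)
      (Lift.al_γ' (isSetting p 𝒳 hp) Λ) c).symm
  · intro y
    show (jOf (extOf hp Λ)).appTop.hom (theta Λ.E' y) = Λ.π y
    rw [jOf_extOf, jLift, Scheme.Hom.comp_appTop]
    show 𝒳.total.toSpecΓ.appTop.hom
      ((Spec.map (CommRingCat.ofHom Λ.π)).appTop.hom (theta Λ.E' y)) = Λ.π y
    rw [appTop_SpecMap_theta, Scheme.toSpecΓ_appTop, theta_apply]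
    exact congrArg (fun φ => φ.hom (Λ.π y)) (Scheme.ΓSpecIso Γ(𝒳.total, ⊤)).inv_hom_id

include hp in
/-- classes of extensions correspond to classes of lifts. -/
theorem nonempty_quot_equiv :
    Nonempty (Quot (fun a b : ExtOf p 𝒳 =>
        ∃ ψ : a.1.Iso b.1, ((ψ.baseChange p).trans b.2).iso = a.2.iso) ≃
      Quot (fun Λ₁ Λ₂ : Lift p.toAlgHom (gammaC 𝒳.f).hom => Nonempty (Lift.Equiv Λ₁ Λ₂))) := by
  refine ⟨{ toFun := Quot.map (liftOf hp) (fun a b h => equiv_of_rel hp a b h)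
            invFun := Quot.map (extOf hp) (fun Λ₁ Λ₂ h => ?_)
            left_inv := ?_
            right_inv := ?_ }⟩
  · obtain ⟨e⟩ := h
    exact rel_of_equiv hp e.symm
  · intro q
    induction q using Quot.ind with
    | mk a => exact (Quot.sound (rel_extOf_liftOf hp a)).symm
  · intro q
    induction q using Quot.ind with
    | mk Λ => exact (Quot.sound (equiv_liftOf_extOf hp Λ)).symm

end Groth.Agent.Lib.DefTorsH3
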