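import Mathlib
import Groth.Prelude.Def_ArtFun4
import Groth.Prelude.Def_CotT
import Groth.Agent.Lib.DefTors9_helper3
import Groth.Agent.Lib.ExalT1_helper1

/-!
# Extensions of an affine deformation along a semismall surjection are a torsor under `T¹` (helper3)
-/

set_option autoImplicit false
set_option linter.unusedSectionVars false

universe u

open CategoryTheory CategoryTheory.Limits AlgebraicGeometry
open scoped TensorProduct

namespace Groth.Agent.Lib.DefTorsH3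

open Groth.Agent.Lib.DefTrivArtH3 Groth.Agent.Lib.DefDualH3 Groth.Agent.Lib.DefRingH3

theorem main12294 (k : Type u) [Field k] (B₀ : Type u) [CommRing B₀] [Algebra k B₀]
    {C' C : ArtFun.Art k k} (p : C' ⟶ C) (hp : ArtFun.Art.IsSemismallExt p)
    (𝒳 : ArtFun.DefSch (Spec (CommRingCat.of B₀)) (Spec.map (CommRingCat.ofHom (algebraMap k B₀))) C)
    (hne : ∃ 𝒳' : ArtFun.DefSch (Spec (CommRingCat.of B₀))
      (Spec.map (CommRingCat.ofHom (algebraMap k B₀))) C', Nonempty ((𝒳'.baseChange p).Iso 𝒳)) :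
    Nonempty (Quot (fun a b : (Σ 𝒳' : ArtFun.DefSch (Spec (CommRingCat.of B₀))
        (Spec.map (CommRingCat.ofHom (algebraMap k B₀))) C', (𝒳'.baseChange p).Iso 𝒳) =>
        ∃ ψ : a.1.Iso b.1, ((ψ.baseChange p).trans b.2).iso = a.2.iso) ≃
      CotT.T1 (CotT.canon k B₀) (B₀ ⊗[k] ↥(RingHom.ker p.toAlgHom))) := by
  obtain ⟨𝒳', ⟨u⟩⟩ := hne
  obtain ⟨e1⟩ := nonempty_quot_equiv (p := p) (𝒳 := 𝒳) hp
  obtain ⟨e2⟩ := Lift.nonempty_equiv_exalcom (isSetting p 𝒳 hp) (liftOf hp ⟨𝒳', u⟩)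
  obtain ⟨e3, -⟩ := Groth.Agent.Lib.ExalT1H1.main12292 k B₀ (B₀ ⊗[k] ↥(RingHom.ker p.toAlgHom))
  exact ⟨(e1.trans e2).trans e3⟩

end Groth.Agent.Lib.DefTorsH3
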