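import Mathlib
import Groth.Agent.Lib.AffLift_helper7

/-! # First-order deformations of smooth algebras are trivial: ring level (helper7) -/

set_option autoImplicit false
set_option linter.unusedSimpArgs false
set_option linter.unusedVariables false
set_option linter.unusedSectionVars false
set_option linter.style.longLine false
set_option linter.unnecessarySimpa false
set_option maxHeartbeats 800000

universe u

open CategoryTheory CategoryTheory.Limits DualNumber TensorProduct

namespace Groth.Agent.Lib.DefTrivH7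

section W

variable {K : Type u} [CommRing K] {A : Type u} [CommRing A]

/-- `a + bε` -/
def mkD (a b : A) : A[ε] := TrivSqZeroExt.inl a + TrivSqZeroExt.inr b

@[simp] theorem fst_mkD (a b : A) : (mkD a b).fst = a := by simp [mkD]
@[simp] theorem snd_mkD (a b : A) : (mkD a b).snd = b := by simp [mkD]

/-- `a + bε ↦ u a + v ε * u b` -/
def wHom {Q : Type*} [CommRing Q] (u : A →+* Q) (v : K[ε] →+* Q) : A[ε] →+* Q where
  toFun z := u z.fst + v ε * u z.snd
  map_one' := by simp
  map_mul' z w := by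
    have h2 : v ε * v ε = 0 := by rw [← map_mul, eps_mul_eps, map_zero]
    simp only [TrivSqZeroExt.fst_mul, DualNumber.snd_mul, map_add, map_mul]
    linear_combination (-(u z.snd * u w.snd)) * h2
  map_zero' := by simp
  map_add' z w := by
    simp only [TrivSqZeroExt.fst_add, TrivSqZeroExt.snd_add, map_add]
    ring

theorem wHom_apply {Q : Type*} [CommRing Q] (u : A →+* Q) (v : K[ε] →+* Q) (z : A[ε]) :
    wHom u v z = u z.fst + v ε * u z.snd := rfl

theorem wHom_mkD {Q : Type*} [CommRing Q] (u : A →+* Q) (v : K[ε] →+* Q) (a b : A) :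
    wHom u v (mkD a b) = u a + v ε * u b := by
  rw [wHom_apply, fst_mkD, snd_mkD]

theorem decomp (d : K[ε]) : algebraMap K K[ε] d.fst + ε * algebraMap K K[ε] d.snd = d := by
  apply TrivSqZeroExt.ext <;>
    simp [TrivSqZeroExt.fst_mul, DualNumber.snd_mul, TrivSqZeroExt.algebraMap_eq_inl]

theorem wHom_map {Q : Type*} [CommRing Q] (η : K →+* A) (u : A →+* Q) (v : K[ε] →+* Q)
    (huv : ∀ c, u (η c) = v (algebraMap K K[ε] c)) (d : K[ε]) :
    wHom u v (mkD (η d.fst) (η d.snd)) = v d := by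
  rw [wHom_mkD, huv, huv, ← map_mul, ← map_add, decomp]

end W

variable {K : Type u} [Field K] {A A' : Type u} [CommRing A] [CommRing A']

theorem exact_eps :
    Function.Exact ((ε : K[ε]) • (LinearMap.id : K[ε] →ₗ[K[ε]] K[ε]))
      ((ε : K[ε]) • (LinearMap.id : K[ε] →ₗ[K[ε]] K[ε])) := by
  intro d
  simp only [LinearMap.smul_apply, LinearMap.id_apply, smul_eq_mul, Set.mem_range]
  constructor
  · intro h
    have h1 : d.fst = 0 := by
      have := congrArg TrivSqZeroExt.snd h
      simpa [DualNumber.snd_mul] using this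
    refine ⟨TrivSqZeroExt.inl d.snd, ?_⟩
    apply TrivSqZeroExt.ext <;> simp [DualNumber.snd_mul, TrivSqZeroExt.fst_mul, h1]
  · rintro ⟨d', rfl⟩
    rw [← mul_assoc, eps_mul_eps, zero_mul]

/-- flatness over the dual numbers: the annihilator of `ε` is `ε A'`. -/
theorem exists_of_eps_mul_eq_zero (γ : K[ε] →+* A') (hflat : γ.Flat) (y : A')
    (hy : γ ε * y = 0) : ∃ y', y = γ ε * y' := by
  algebraize [γ]
  have hex2 := Module.Flat.lTensor_exact A' (exact_eps (K := K))
  rw [LinearMap.lTensor_smul, LinearMap.lTensor_id] at hex2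
  have h0 : ((ε : K[ε]) • (LinearMap.id : A' ⊗[K[ε]] K[ε] →ₗ[K[ε]] A' ⊗[K[ε]] K[ε]))
      (y ⊗ₜ[K[ε]] (1 : K[ε])) = 0 := by
    rw [LinearMap.smul_apply, LinearMap.id_apply, TensorProduct.smul_tmul', Algebra.smul_def]
    rw [show algebraMap K[ε] A' = γ from rfl, hy, TensorProduct.zero_tmul]
  obtain ⟨t', ht'⟩ := (hex2 _).mp h0
  refine ⟨TensorProduct.rid K[ε] A' t', ?_⟩
  have h3 := congrArg (TensorProduct.rid K[ε] A') ht'
  rw [LinearMap.smul_apply, LinearMap.id_apply, map_smul, TensorProduct.rid_tmul, one_smul,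
    Algebra.smul_def] at h3
  exact h3.symm

theorem exists_eval_eq {m : ℕ} (η : K →+* A) (e : Fin m → A →+* K) (he : ∀ j c, e j (η c) = c)
    (hinj : Function.Injective e) (t : Fin m → K) : ∃ y : A, ∀ j, e j y = t j := by
  have hsurj : ∀ j, Function.Surjective (e j) := fun j c => ⟨η c, he j c⟩
  have hmax : ∀ j, (RingHom.ker (e j)).IsMaximal :=
    fun j => RingHom.ker_isMaximal_of_surjective (e j) (hsurj j)
  have hne : ∀ j j', j ≠ j' → RingHom.ker (e j) ≠ RingHom.ker (e j') := by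
    intro j j' hjj' hk
    apply hjj'
    apply hinj
    ext a
    have h1 : a - η (e j a) ∈ RingHom.ker (e j) := by
      rw [RingHom.mem_ker, map_sub, he, sub_self]
    rw [hk, RingHom.mem_ker, map_sub, he, sub_eq_zero] at h1
    exact h1.symm
  have hcop : Pairwise (Function.onFun IsCoprime fun j => RingHom.ker (e j)) := by
    intro j j' hjj'
    exact Ideal.isCoprime_iff_sup_eq.mpr
      (Ideal.IsMaximal.coprime_of_ne (hmax j) (hmax j') (hne j j' hjj'))
  obtain ⟨y, hy⟩ := Ideal.exists_forall_sub_mem_ideal hcop (fun j => η (t j))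
  refine ⟨y, fun j => ?_⟩
  have h4 : y - η (t j) ∈ RingHom.ker (e j) := hy j
  rw [RingHom.mem_ker, map_sub, he, sub_eq_zero] at h4
  exact h4

section Main

variable (η : K →+* A) (γ : K[ε] →+* A') (α : A' →+* A)
  (h1 : ∀ d, α (γ d) = η d.fst) (h2 : Function.Surjective α)
  (h3 : ∀ x, α x = 0 → ∃ y, x = γ ε * y)

include h1 in
theorem alpha_eps : α (γ ε) = 0 := by rw [h1, fst_eps, map_zero]

include h1 h2 h3 in
theorem exists_retraction {m : ℕ} (h5 : η.FormallySmooth)
    (e : Fin m → A →+* K) (h6 : ∀ j c, e j (η c) = c) (h7 : Function.Injective e)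
    (σ : Fin m → A' →+* K[ε]) (h8 : ∀ j d, σ j (γ d) = d)
    (h9 : ∀ j x, (σ j x).fst = e j (α x)) :
    ∃ ρ : A →+* A', (∀ a, α (ρ a) = a) ∧ (∀ c, ρ (η c) = γ (algebraMap K K[ε] c)) ∧
      ∀ j a, σ j (ρ a) = algebraMap K K[ε] (e j a) := by
  have hαε : α (γ ε) = 0 := alpha_eps η γ α h1
  have hε2 : γ ε * γ ε = 0 := by rw [← map_mul, eps_mul_eps, map_zero]
  have hsq : ∀ x y, α x = 0 → α y = 0 → x * y = 0 := by
    intro x y hx hy
    obtain ⟨x1, rfl⟩ := h3 x hx
    obtain ⟨y1, rfl⟩ := h3 y hy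
    calc γ ε * x1 * (γ ε * y1) = (γ ε * γ ε) * (x1 * y1) := by ring
      _ = 0 := by rw [hε2, zero_mul]
  have H : ∀ a : A, ∃ x : A', α x = (RingHom.id A) a ∧
      (RingHom.pi σ) x = (RingHom.pi fun j => (algebraMap K K[ε]).comp (e j)) a := by
    intro a
    obtain ⟨x0, hx0⟩ := h2 a
    obtain ⟨y0, hy0⟩ := exists_eval_eq η e h6 h7 (fun j => (σ j x0).snd)
    obtain ⟨y, hy⟩ := h2 y0
    refine ⟨x0 - γ ε * y, ?_, ?_⟩
    · rw [map_sub, map_mul, hαε, zero_mul, sub_zero, hx0]; rfl
    · funext j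
      show σ j (x0 - γ ε * y) = algebraMap K K[ε] (e j a)
      rw [map_sub, map_mul, h8]
      apply TrivSqZeroExt.ext
      · simp [TrivSqZeroExt.fst_mul, h9, hx0, TrivSqZeroExt.algebraMap_eq_inl]
      · simp [DualNumber.snd_mul, h9, hy, hy0, TrivSqZeroExt.algebraMap_eq_inl]
  obtain ⟨ρ, hρ1, hρ2, hρ3⟩ := Groth.Agent.Lib.AffLiftH7.ring_lift η h5
    (γ.comp (algebraMap K K[ε])) α (RingHom.pi σ) hsq
    (RingHom.id A) (RingHom.pi fun j => (algebraMap K K[ε]).comp (e j))
    (fun r => by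
      show η r = α (γ (algebraMap K K[ε] r))
      rw [h1]; rfl)
    (fun r => by
      funext j
      show algebraMap K K[ε] (e j (η r)) = σ j (γ (algebraMap K K[ε] r))
      rw [h6, h8])
    H
  exact ⟨ρ, hρ1, hρ3, fun j a => congrFun (hρ2 a) j⟩

variable (hflat : γ.Flat) (ρ : A →+* A') (hρ1 : ∀ a, α (ρ a) = a)

include h1 h2 h3 hflat hρ1 in
theorem wHom_bijective : Function.Bijective (wHom ρ γ) := by
  have hαε : α (γ ε) = 0 := alpha_eps η γ α h1
  have hε2 : γ ε * γ ε = 0 := by rw [← map_mul, eps_mul_eps, map_zero]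
  constructor
  · rw [injective_iff_map_eq_zero]
    intro z hz
    rw [wHom_apply] at hz
    have hz1 : z.fst = 0 := by
      have := congrArg α hz
      rw [map_add, map_mul, hαε, zero_mul, add_zero, hρ1, map_zero] at this
      exact this
    rw [hz1, map_zero, zero_add] at hz
    obtain ⟨y', hy'⟩ := exists_of_eps_mul_eq_zero γ hflat _ hz
    have hz2 : z.snd = 0 := by
      have := congrArg α hy'
      rw [hρ1, map_mul, hαε, zero_mul] at this
      exact this
    exact TrivSqZeroExt.ext hz1 hz2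
  · intro x
    obtain ⟨y, hy⟩ := h3 (x - ρ (α x)) (by rw [map_sub, hρ1, sub_self])
    obtain ⟨y', hy'⟩ := h3 (y - ρ (α y)) (by rw [map_sub, hρ1, sub_self])
    refine ⟨mkD (α x) (α y), ?_⟩
    rw [wHom_mkD]
    have e1 : x = ρ (α x) + γ ε * y := by rw [← hy]; ring
    have e2 : y = ρ (α y) + γ ε * y' := by rw [← hy']; ring
    calc ρ (α x) + γ ε * ρ (α y) = ρ (α x) + γ ε * (ρ (α y) + γ ε * y') := by
          linear_combination (-y') * hε2
      _ = ρ (α x) + γ ε * y := by rw [← e2]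
      _ = x := e1.symm

include h1 h2 h3 hflat hρ1 in
theorem isPushout_of_retraction (hρη : ∀ c, ρ (η c) = γ (algebraMap K K[ε] c)) :
    IsPushout (CommRingCat.ofHom η) (CommRingCat.ofHom (algebraMap K K[ε]))
      (CommRingCat.ofHom ρ) (CommRingCat.ofHom γ) := by
  have hbij := wHom_bijective η γ α h1 h2 h3 hflat ρ hρ1
  let Θ : A[ε] ≃+* A' := RingEquiv.ofBijective (wHom ρ γ) hbij
  have hΘ : ∀ z, Θ z = wHom ρ γ z := fun z => rfl
  refine ⟨⟨?_⟩, ⟨PushoutCocone.IsColimit.mk _
    (fun s => CommRingCat.ofHom ((wHom s.inl.hom s.inr.hom).comp Θ.symm.toRingHom)) ?_ ?_ ?_⟩⟩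
  · ext1
    exact RingHom.ext hρη
  · intro s
    ext1
    apply RingHom.ext
    intro a
    show wHom s.inl.hom s.inr.hom (Θ.symm (ρ a)) = s.inl.hom a
    have h : Θ.symm (ρ a) = mkD a 0 := by
      rw [RingEquiv.symm_apply_eq, hΘ, wHom_mkD, map_zero, mul_zero, add_zero]
    rw [h, wHom_mkD, map_zero, mul_zero, add_zero]
  · intro s
    ext1
    apply RingHom.ext
    intro d
    show wHom s.inl.hom s.inr.hom (Θ.symm (γ d)) = s.inr.hom d
    have hs : ∀ c, s.inl.hom (η c) = s.inr.hom (algebraMap K K[ε] c) :=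
      fun c => RingHom.congr_fun (congrArg CommRingCat.Hom.hom s.condition) c
    have h : Θ.symm (γ d) = mkD (η d.fst) (η d.snd) := by
      rw [RingEquiv.symm_apply_eq, hΘ]
      exact (wHom_map η ρ γ hρη d).symm
    rw [h]
    exact wHom_map η _ _ hs d
  · intro s m hm1 hm2
    ext1
    apply RingHom.ext
    intro x
    obtain ⟨z, rfl⟩ := Θ.surjective x
    have e1 : ∀ a, m.hom (ρ a) = s.inl.hom a :=
      fun a => RingHom.congr_fun (congrArg CommRingCat.Hom.hom hm1) a
    have e2 : ∀ d, m.hom (γ d) = s.inr.hom d :=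
      fun d => RingHom.congr_fun (congrArg CommRingCat.Hom.hom hm2) d
    show m.hom (Θ z) = wHom s.inl.hom s.inr.hom (Θ.symm (Θ z))
    rw [RingEquiv.symm_apply_apply, hΘ, wHom_apply, wHom_apply, map_add, map_mul, e1, e1, e2]

end Main

end Groth.Agent.Lib.DefTrivH7
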