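import Mathlib
import Groth.Prelude.Def_Exal
import Groth.Agent.Lib.ExtDer_helper1

/-!
# Rigid singularities are not smoothable, part 4: sections modulo powers of `t` (helper3)

If every `k`-extension of `B₀` by `B₀` is trivial and `B / tB ≃ B₀` with `t` regular on `B`, then
the projections `B / t^(m+1) B → B₀` have `k`-algebra sections.
-/

set_option autoImplicit false

namespace Groth.Agent.Lib.RigidSmH3

universe u

open Groth.Agent.Lib

section Abstract

variable {k B₀ C C' L : Type u} [CommRing k] [CommRing B₀] [CommRing C] [CommRing C']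
  [Algebra k B₀] [Algebra k C] [Algebra k C'] [AddCommGroup L] [Module B₀ L]

theorem isTrivial_of_subsingleton (h : Subsingleton (Exal.Exalcom k B₀ L))
    (X : Exal.Ext k B₀ L) : X.IsTrivial := by
  have h1 : X.cl = (Exal.Ext.trivial k B₀ L).cl := Subsingleton.elim _ _
  obtain ⟨e⟩ := Quotient.exact h1
  exact ExtDerH1.isTrivial_of_equiv e ExtDerH1.trivial_isTrivial

theorem lift_section (H : ∀ X : Exal.Ext k B₀ B₀, X.IsTrivial)
    (π : C' →ₐ[k] C) (hπ : Function.Surjective π) (p : C →ₐ[k] B₀) (s : B₀ →ₐ[k] C)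
    (hps : ∀ c, p (s c) = c)
    (μ : B₀ →+ C') (hμi : Function.Injective μ) (hμr : ∀ y, π y = 0 ↔ y ∈ Set.range μ)
    (hμm : ∀ y c, y * μ c = μ (p (π y) * c)) :
    ∃ s' : B₀ →ₐ[k] C', ∀ c, π (s' c) = s c := by
  let E : Subalgebra k (B₀ × C') :=
    AlgHom.equalizer (s.comp (AlgHom.fst k B₀ C')) (π.comp (AlgHom.snd k B₀ C'))
  have hE : ∀ x : B₀ × C', x ∈ E ↔ s x.1 = π x.2 := fun x => Iff.rfl
  have hπμ : ∀ c, π (μ c) = 0 := fun c => (hμr _).2 ⟨c, rfl⟩
  let incl : B₀ →+ E :=
    { toFun := fun c => ⟨(0, μ c), by rw [hE]; simp only [map_zero]; exact (hπμ c).symm⟩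
      map_zero' := by
        apply Subtype.ext
        simp only [map_zero]
        rfl
      map_add' := fun c c' => by
        apply Subtype.ext
        simp only [map_add]
        apply Prod.ext <;> simp }
  let X : Exal.Ext k B₀ B₀ :=
    { E := E
      proj := (AlgHom.fst k B₀ C').comp E.val
      incl := incl
      isExtension :=
        { proj_surjective := fun c => by
            obtain ⟨y, hy⟩ := hπ (s c)
            exact ⟨⟨(c, y), by rw [hE]; exact hy.symm⟩, rfl⟩
          incl_injective := fun c c' h => by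
            apply hμi
            have := congrArg (fun x : E => (x : B₀ × C').2) h
            exact this
          exact := fun x => by
            constructor
            · intro hx
              have hx1 : (x : B₀ × C').1 = 0 := hx
              have hx2 : s (x : B₀ × C').1 = π (x : B₀ × C').2 := (hE _).1 x.2
              rw [hx1, map_zero] at hx2
              obtain ⟨c, hc⟩ := (hμr _).1 hx2.symm
              refine ⟨c, ?_⟩
              apply Subtype.ext
              apply Prod.ext
              · exact hx1.symm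
              · exact hc
            · rintro ⟨c, rfl⟩
              rfl
          mul_incl := fun x c => by
            apply Subtype.ext
            apply Prod.ext
            · show (x : B₀ × C').1 * 0 = 0
              exact mul_zero _
            · show (x : B₀ × C').2 * μ c = μ ((x : B₀ × C').1 • c)
              rw [hμm, ← (hE _).1 x.2, hps, smul_eq_mul] } }
  obtain ⟨σ, hσ⟩ := H X
  refine ⟨(AlgHom.snd k B₀ C').comp (E.val.comp σ), fun c => ?_⟩
  have h1 : s ((σ c : E) : B₀ × C').1 = π ((σ c : E) : B₀ × C').2 := (hE _).1 (σ c).2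
  have h2 : ((σ c : E) : B₀ × C').1 = c := hσ c
  rw [h2] at h1
  exact h1.symm

end Abstract

section Sections

variable {k B B₀ : Type u} [CommRing k] [CommRing B] [CommRing B₀] [Algebra k B] [Algebra k B₀]

theorem span_pow_succ_le (tB : B) (m : ℕ) :
    Ideal.span {tB ^ (m + 1)} ≤ Ideal.span {tB} := by
  rw [Ideal.span_singleton_le_iff_mem, pow_succ]
  exact Ideal.mul_mem_left _ _ (Ideal.mem_span_singleton_self tB)

theorem span_pow_succ_le_succ (tB : B) (m : ℕ) :
    Ideal.span {tB ^ (m + 1 + 1)} ≤ Ideal.span {tB ^ (m + 1)} := by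
  rw [Ideal.span_singleton_le_iff_mem, pow_succ tB (m + 1)]
  exact Ideal.mul_mem_right _ _ (Ideal.mem_span_singleton_self _)

/-- multiplication by `t^(m+1)` from `B/t` to `B/t^(m+2)`. -/
noncomputable def mulPow (tB : B) (m : ℕ) :
    (B ⧸ Ideal.span {tB}) →ₗ[B] (B ⧸ Ideal.span {tB ^ (m + 1 + 1)}) :=
  Submodule.mapQ (Ideal.span {tB}) (Ideal.span {tB ^ (m + 1 + 1)})
    (LinearMap.mulLeft B (tB ^ (m + 1))) (by
      intro x hx
      obtain ⟨a, rfl⟩ := Ideal.mem_span_singleton'.1 hx
      rw [Submodule.mem_comap, LinearMap.mulLeft_apply]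
      refine Ideal.mem_span_singleton'.2 ⟨a, ?_⟩
      ring)

theorem mulPow_mk (tB : B) (m : ℕ) (b : B) :
    mulPow tB m (Ideal.Quotient.mk _ b) = Ideal.Quotient.mk _ (tB ^ (m + 1) * b) := rfl

theorem exists_sections (tB : B) (htB : IsSMulRegular B tB)
    (e : (B ⧸ Ideal.span {tB}) ≃ₐ[k] B₀) (H : ∀ X : Exal.Ext k B₀ B₀, X.IsTrivial) (m : ℕ) :
    ∃ s : B₀ →ₐ[k] B ⧸ Ideal.span {tB ^ (m + 1)},
      ∀ c, e (Ideal.Quotient.factor (span_pow_succ_le tB m) (s c)) = c := by
  induction m with
  | zero =>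
    have h0 : Ideal.span {tB} = Ideal.span {tB ^ (0 + 1)} := by rw [zero_add, pow_one]
    refine ⟨(Ideal.quotientEquivAlgOfEq k h0).toAlgHom.comp e.symm.toAlgHom, fun c => ?_⟩
    obtain ⟨b, hb⟩ := Ideal.Quotient.mk_surjective (e.symm c)
    have h1 : ((Ideal.quotientEquivAlgOfEq k h0).toAlgHom.comp e.symm.toAlgHom) c =
        Ideal.Quotient.mk _ b := by
      show Ideal.quotientEquivAlgOfEq k h0 (e.symm c) = _
      rw [← hb]
      rfl
    rw [h1, Ideal.Quotient.factor_mk, hb, AlgEquiv.apply_symm_apply]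
  | succ m ih =>
    obtain ⟨s, hs⟩ := ih
    let π : (B ⧸ Ideal.span {tB ^ (m + 1 + 1)}) →ₐ[k] (B ⧸ Ideal.span {tB ^ (m + 1)}) :=
      Ideal.Quotient.factorₐ k (span_pow_succ_le_succ tB m)
    let p : (B ⧸ Ideal.span {tB ^ (m + 1)}) →ₐ[k] B₀ :=
      e.toAlgHom.comp (Ideal.Quotient.factorₐ k (span_pow_succ_le tB m))
    let μ : B₀ →+ (B ⧸ Ideal.span {tB ^ (m + 1 + 1)}) :=
      (mulPow tB m).toAddMonoidHom.comp e.symm.toAddMonoidHom
    have hμ : ∀ b : B, μ (e (Ideal.Quotient.mk _ b)) = Ideal.Quotient.mk _ (tB ^ (m + 1) * b) := by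
      intro b
      show mulPow tB m (e.symm (e (Ideal.Quotient.mk _ b))) = _
      rw [AlgEquiv.symm_apply_apply, mulPow_mk]
    have hrep : ∀ c : B₀, ∃ b : B, c = e (Ideal.Quotient.mk _ b) := by
      intro c
      obtain ⟨b, hb⟩ := Ideal.Quotient.mk_surjective (e.symm c)
      exact ⟨b, by rw [hb, AlgEquiv.apply_symm_apply]⟩
    have hreg : IsSMulRegular B (tB ^ (m + 1)) := htB.pow _
    obtain ⟨s', hs'⟩ := lift_section H π (Ideal.Quotient.factor_surjective (span_pow_succ_le_succ tB m)) p s hs μ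
      (by
        rw [injective_iff_map_eq_zero]
        intro c hc
        obtain ⟨b, rfl⟩ := hrep c
        rw [hμ, Ideal.Quotient.eq_zero_iff_mem] at hc
        obtain ⟨a, ha⟩ := Ideal.mem_span_singleton'.1 hc
        have h2 : tB ^ (m + 1) • b = tB ^ (m + 1) • (a * tB) := by
          rw [smul_eq_mul, smul_eq_mul, ← ha]; ring
        have h3 := hreg h2
        have h4 : Ideal.Quotient.mk (Ideal.span {tB}) b = 0 := by
          rw [Ideal.Quotient.eq_zero_iff_mem, h3]
          exact Ideal.mul_mem_left _ _ (Ideal.mem_span_singleton_self tB)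
        rw [h4, map_zero])
      (by
        intro y
        obtain ⟨b, rfl⟩ := Ideal.Quotient.mk_surjective y
        constructor
        · intro hy
          have hy' : Ideal.Quotient.mk (Ideal.span {tB ^ (m + 1)}) b = 0 := hy
          rw [Ideal.Quotient.eq_zero_iff_mem] at hy'
          obtain ⟨a, rfl⟩ := Ideal.mem_span_singleton'.1 hy'
          refine ⟨e (Ideal.Quotient.mk _ a), ?_⟩
          rw [hμ, mul_comm]
        · rintro ⟨c, hc⟩
          obtain ⟨b', rfl⟩ := hrep c
          rw [hμ] at hc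
          rw [← hc]
          show Ideal.Quotient.mk (Ideal.span {tB ^ (m + 1)}) (tB ^ (m + 1) * b') = 0
          rw [Ideal.Quotient.eq_zero_iff_mem]
          exact Ideal.mul_mem_right _ _ (Ideal.mem_span_singleton_self _))
      (by
        intro y c
        obtain ⟨b, rfl⟩ := Ideal.Quotient.mk_surjective y
        obtain ⟨b', rfl⟩ := hrep c
        have h5 : p (π (Ideal.Quotient.mk _ b)) = e (Ideal.Quotient.mk _ b) := rfl
        rw [h5, ← map_mul, ← map_mul, hμ, hμ, ← map_mul]
        congr 1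
        ring)
    refine ⟨s', fun c => ?_⟩
    have h6 := hs c
    rw [← hs' c] at h6
    obtain ⟨b, hb⟩ := Ideal.Quotient.mk_surjective (s' c)
    rw [← hb] at h6 ⊢
    exact h6

end Sections

end Groth.Agent.Lib.RigidSmH3
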