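import Mathlib
import Groth.Prelude.Def_Exal
import Groth.Agent.Lib.DefTrivArt1_helper3
import Groth.Agent.Lib.RigidSm4_helper3

/-!
# Deformations over a local Artinian `k`-algebra: algebra, part 2 (helper3)

`exists_section_of_rigid` : if every `k`-extension of `B₀` by `B₀` is trivial, a flat deformation
`B'` of `B₀` over a local Artinian `k`-algebra `A` admits a `k`-algebra section `B₀ → B'`.
-/

set_option autoImplicit false

namespace Groth.Agent.Lib.DefTrivArtH3

universe u

open Groth.Agent.Lib.RigidSmH3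

section Ideals

variable {A : Type*} [CommRing A]

theorem exists_covBy [IsNoetherianRing A] (m I : Ideal A) (h1m : (1 : A) ∉ m)
    (hunit : ∀ a, a ∉ m → IsUnit a) (hI : I ≠ ⊥) :
    ∃ (I' : Ideal A) (ε : A), I' ≤ I ∧ I' ≠ I ∧ I = I' ⊔ Ideal.span {ε} ∧
      (∀ a ∈ m, a * ε ∈ I') ∧ (∀ a, a * ε ∈ I' → a ∈ m) := by
  obtain ⟨I', hI'lt, hI'max⟩ := set_has_maximal_iff_noetherian.2 (inferInstance : IsNoetherian A A)
    {J : Ideal A | J < I} ⟨⊥, bot_lt_iff_ne_bot.2 hI⟩
  have hI'lt' : I' < I := hI'lt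
  obtain ⟨ε, hεI, hεI'⟩ := SetLike.exists_of_lt hI'lt'
  have hstep : ∀ x ∈ I, x ∉ I' → I' ⊔ Ideal.span {x} = I := by
    intro x hxI hxI'
    by_contra hne
    have hle : I' ⊔ Ideal.span {x} ≤ I :=
      sup_le hI'lt'.le ((Ideal.span_singleton_le_iff_mem _).2 hxI)
    have h2 : I' < I' ⊔ Ideal.span {x} := by
      refine lt_of_le_of_ne le_sup_left ?_
      intro heq
      apply hxI'
      rw [heq]
      exact Ideal.mem_sup_right (Ideal.mem_span_singleton_self x)
    exact hI'max _ (lt_of_le_of_ne hle hne) h2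
  have hunitmem : ∀ (u x : A), IsUnit u → u * x ∈ I' → x ∈ I' := by
    intro u x hu hux
    obtain ⟨v, hv⟩ := hu.exists_left_inv
    have : x = v * (u * x) := by rw [← mul_assoc, hv, one_mul]
    rw [this]
    exact Ideal.mul_mem_left I' v hux
  refine ⟨I', ε, hI'lt'.le, hI'lt'.ne, (hstep ε hεI hεI').symm, ?_, ?_⟩
  · intro a ha
    by_contra hna
    have hJ := hstep (a * ε) (I.mul_mem_left a hεI) hna
    have hε : ε ∈ I' ⊔ Ideal.span {a * ε} := by rw [hJ]; exact hεI
    obtain ⟨i', hi', z, hz, hsum⟩ := Submodule.mem_sup.1 hε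
    obtain ⟨c, rfl⟩ := Ideal.mem_span_singleton'.1 hz
    have h1 : (1 - c * a) * ε = i' := by linear_combination (-1 : A) * hsum
    have hu : IsUnit (1 - c * a) := by
      apply hunit
      intro hmem
      apply h1m
      have : (1 : A) = (1 - c * a) + c * a := by ring
      rw [this]
      exact m.add_mem hmem (m.mul_mem_left c ha)
    exact hεI' (hunitmem _ _ hu (by rw [h1]; exact hi'))
  · intro a ha
    by_contra hna
    exact hεI' (hunitmem _ _ (hunit a hna) ha)

end Ideals

section Step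

variable {k A B' B₀ : Type u} [Field k] [CommRing A] [CommRing B'] [CommRing B₀] [Algebra k A]
  [Algebra A B'] [Algebra k B'] [IsScalarTower k A B'] [Algebra k B₀] [Module.Flat A B']

omit [Algebra k A] [IsScalarTower k A B'] in
theorem lift_step (H : ∀ X : Exal.Ext k B₀ B₀, X.IsTrivial) (m : Ideal A)
    (α : B' →ₐ[k] B₀) (hα : Function.Surjective α)
    (hker : RingHom.ker (α : B' →+* B₀) = m.map (algebraMap A B'))
    (I I' : Ideal A) (ε : A) (hI'I : I' ≤ I) (hIm : I ≤ m)
    (hsup : I = I' ⊔ Ideal.span {ε}) (hmε : ∀ a ∈ m, a * ε ∈ I')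
    (hcolon : ∀ a, a * ε ∈ I' → a ∈ m)
    (s : B₀ →ₐ[k] B' ⧸ I.map (algebraMap A B'))
    (hs : ∀ c b, s c = Ideal.Quotient.mk _ b → α b = c) :
    ∃ s' : B₀ →ₐ[k] B' ⧸ I'.map (algebraMap A B'),
      ∀ c b, s' c = Ideal.Quotient.mk _ b → α b = c := by
  have hIker : ∀ x ∈ I.map (algebraMap A B'), α x = 0 := by
    intro x hx
    have : x ∈ RingHom.ker (α : B' →+* B₀) := by
      rw [hker]; exact Ideal.map_mono hIm hx
    exact this
  let π : (B' ⧸ I'.map (algebraMap A B')) →ₐ[k] (B' ⧸ I.map (algebraMap A B')) :=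
    Ideal.Quotient.factorₐ k (Ideal.map_mono hI'I)
  let p : (B' ⧸ I.map (algebraMap A B')) →ₐ[k] B₀ :=
    Ideal.Quotient.liftₐ (I.map (algebraMap A B')) α hIker
  have hp : ∀ b : B', p (Ideal.Quotient.mk _ b) = α b := fun b => rfl
  have hps : ∀ c, p (s c) = c := by
    intro c
    obtain ⟨b, hb⟩ := Ideal.Quotient.mk_surjective (s c)
    rw [← hb, hp]
    exact hs c b hb.symm
  -- the inclusion of the kernel
  let g : B' →+ (B' ⧸ I'.map (algebraMap A B')) :=
    (Ideal.Quotient.mk (I'.map (algebraMap A B'))).toAddMonoidHom.comp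
      (AddMonoidHom.mulLeft (algebraMap A B' ε))
  have hg : ∀ b, g b = Ideal.Quotient.mk _ (algebraMap A B' ε * b) := fun b => rfl
  have hεm : ∀ b ∈ m.map (algebraMap A B'),
      algebraMap A B' ε * b ∈ I'.map (algebraMap A B') := by
    intro b hb
    have h1 : Ideal.span {ε} * m ≤ I' := by
      rw [Ideal.mul_le]
      intro x hx a ha
      obtain ⟨c, rfl⟩ := Ideal.mem_span_singleton'.1 hx
      have : c * ε * a = c * (a * ε) := by ring
      rw [this]
      exact I'.mul_mem_left c (hmε a ha)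
    have h2 : (Ideal.span {ε} * m).map (algebraMap A B') ≤ I'.map (algebraMap A B') :=
      Ideal.map_mono h1
    rw [Ideal.map_mul] at h2
    apply h2
    exact Ideal.mul_mem_mul (Ideal.mem_map_of_mem _ (Ideal.mem_span_singleton_self ε)) hb
  have hgker : (α : B' →+ B₀).ker ≤ g.ker := by
    intro b hb
    rw [AddMonoidHom.mem_ker] at hb ⊢
    rw [hg, Ideal.Quotient.eq_zero_iff_mem]
    apply hεm
    rw [← hker]
    exact hb
  let μ : B₀ →+ (B' ⧸ I'.map (algebraMap A B')) :=
    AddMonoidHom.liftOfRightInverse (α : B' →+ B₀) (Function.surjInv hα)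
      (Function.rightInverse_surjInv hα) ⟨g, hgker⟩
  have hμ : ∀ b : B', μ (α b) = Ideal.Quotient.mk _ (algebraMap A B' ε * b) := by
    intro b
    exact AddMonoidHom.liftOfRightInverse_comp_apply (α : B' →+ B₀) (Function.surjInv hα)
      (Function.rightInverse_surjInv hα) ⟨g, hgker⟩ b
  obtain ⟨s', hs'⟩ := lift_section H π (Ideal.Quotient.factor_surjective (Ideal.map_mono hI'I))
    p s hps μ
    (by
      rw [injective_iff_map_eq_zero]
      intro c hc
      obtain ⟨b, rfl⟩ := hα c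
      rw [hμ, Ideal.Quotient.eq_zero_iff_mem] at hc
      have := mem_map_of_mul_mem I' m ε hmε hcolon b hc
      rw [← hker] at this
      exact this)
    (by
      intro y
      obtain ⟨b, rfl⟩ := Ideal.Quotient.mk_surjective y
      constructor
      · intro hy
        have hy' : Ideal.Quotient.mk (I.map (algebraMap A B')) b = 0 := hy
        rw [Ideal.Quotient.eq_zero_iff_mem, hsup, Ideal.map_sup, Ideal.map_span,
          Set.image_singleton] at hy'
        obtain ⟨b1, hb1, z, hz, hsum⟩ := Submodule.mem_sup.1 hy'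
        obtain ⟨b2, rfl⟩ := Ideal.mem_span_singleton'.1 hz
        refine ⟨α b2, ?_⟩
        rw [hμ, ← hsum, map_add, Ideal.Quotient.eq_zero_iff_mem.2 hb1, zero_add, mul_comm]
      · rintro ⟨c, hc⟩
        obtain ⟨b2, rfl⟩ := hα c
        rw [hμ] at hc
        rw [← hc]
        show Ideal.Quotient.mk (I.map (algebraMap A B')) (algebraMap A B' ε * b2) = 0
        rw [Ideal.Quotient.eq_zero_iff_mem]
        apply Ideal.mul_mem_right
        apply Ideal.mem_map_of_mem
        rw [hsup]
        exact Ideal.mem_sup_right (Ideal.mem_span_singleton_self ε))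
    (by
      intro y c
      obtain ⟨b, rfl⟩ := Ideal.Quotient.mk_surjective y
      obtain ⟨b2, rfl⟩ := hα c
      have h5 : p (π (Ideal.Quotient.mk _ b)) = α b := rfl
      rw [h5, ← map_mul, hμ, hμ, ← map_mul]
      congr 1
      ring)
  refine ⟨s', fun c b hb => ?_⟩
  apply hs c b
  rw [← hs' c, hb]
  rfl

end Step

section Main

variable {k A B' B₀ : Type u} [Field k] [CommRing A] [CommRing B'] [CommRing B₀] [Algebra k A]
  [Algebra A B'] [Algebra k B'] [IsScalarTower k A B'] [Algebra k B₀] [Module.Flat A B']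

theorem exists_section_of_rigid [IsArtinianRing A] (H : ∀ X : Exal.Ext k B₀ B₀, X.IsTrivial)
    (m : Ideal A) (h1m : (1 : A) ∉ m) (hunit : ∀ a, a ∉ m → IsUnit a)
    (α : B' →ₐ[k] B₀) (hα : Function.Surjective α)
    (hker : RingHom.ker (α : B' →+* B₀) = m.map (algebraMap A B')) :
    ∃ ρ : B₀ →ₐ[k] B', ∀ c, α (ρ c) = c := by
  let S : Set (Ideal A) := {I | I ≤ m ∧ ∃ s : B₀ →ₐ[k] B' ⧸ I.map (algebraMap A B'),
    ∀ c b, s c = Ideal.Quotient.mk _ b → α b = c}
  have hmS : m ∈ S := by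
    refine ⟨le_rfl, ((Ideal.quotientEquivAlgOfEq k hker).toAlgHom.comp
      (Ideal.quotientKerAlgEquivOfSurjective hα).symm.toAlgHom), fun c b hb => ?_⟩
    obtain ⟨b0, rfl⟩ := hα c
    have h1 : ((Ideal.quotientEquivAlgOfEq k hker).toAlgHom.comp
        (Ideal.quotientKerAlgEquivOfSurjective hα).symm.toAlgHom) (α b0) =
        Ideal.Quotient.mk _ b0 := by
      show Ideal.quotientEquivAlgOfEq k hker
        ((Ideal.quotientKerAlgEquivOfSurjective hα).symm (α b0)) = _
      rw [Ideal.quotientKerAlgEquivOfSurjective_symm_apply]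
      rfl
    rw [h1, Ideal.Quotient.eq, ← hker, RingHom.mem_ker, map_sub, sub_eq_zero] at hb
    exact hb.symm
  obtain ⟨I, ⟨hIm, s, hs⟩, hmin⟩ := IsArtinian.set_has_minimal S ⟨m, hmS⟩
  by_cases hI : I = ⊥
  · subst hI
    have hbot : (⊥ : Ideal A).map (algebraMap A B') = ⊥ := Ideal.map_bot
    have hbij : Function.Bijective
        (Ideal.Quotient.mkₐ k ((⊥ : Ideal A).map (algebraMap A B'))) := by
      refine ⟨?_, Ideal.Quotient.mk_surjective⟩
      rw [injective_iff_map_eq_zero]
      intro x hx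
      have hx' : Ideal.Quotient.mk ((⊥ : Ideal A).map (algebraMap A B')) x = 0 := hx
      rw [Ideal.Quotient.eq_zero_iff_mem, hbot] at hx'
      exact hx'
    let eq := AlgEquiv.ofBijective _ hbij
    refine ⟨eq.symm.toAlgHom.comp s, fun c => ?_⟩
    apply hs c
    show s c = eq (eq.symm (s c))
    rw [AlgEquiv.apply_symm_apply]
  · exfalso
    obtain ⟨I', ε, hI'le, hI'ne, hsup, hmε, hcolon⟩ := exists_covBy m I h1m hunit hI
    obtain ⟨s', hs'⟩ := lift_step H m α hα hker I I' ε hI'le hIm hsup hmε hcolon s hs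
    exact hmin I' ⟨hI'le.trans hIm, s', hs'⟩ (lt_of_le_of_ne hI'le hI'ne)

end Main

end Groth.Agent.Lib.DefTrivArtH3
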