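import Mathlib
import Groth.Prelude.Def_ArtFun4
import Groth.Agent.Lib.DefTrivArt2_helper3
import Groth.Agent.Lib.DefTrivArt3_helper3
import Groth.Agent.Lib.GenSmoothReg_helper6

/-!
# Deformations of rigid / regular affine schemes over local Artinian bases are trivial (helper3)
-/

set_option autoImplicit false
set_option linter.unusedSectionVars false

universe u

open CategoryTheory CategoryTheory.Limits AlgebraicGeometry TensorProduct

namespace Groth.Agent.Lib.DefTrivArtH3

section Providers

variable {k A : Type u} [Field k] [CommRing A] [Algebra k A]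

theorem hasSections_of_formallySmooth (m : Ideal A) (hm : IsNilpotent m) {B₀ : Type u}
    [CommRing B₀] (η : k →+* B₀) (hη : η.FormallySmooth) : HasSections k A m B₀ η := by
  intro B' _ γ α hflat hα hker hαγ
  letI : Algebra k B₀ := η.toAlgebra
  letI : Algebra A B' := γ.toAlgebra
  letI : Algebra k B' := (γ.comp (algebraMap k A)).toAlgebra
  haveI : IsScalarTower k A B' := IsScalarTower.of_algebraMap_eq (fun _ => rfl)
  haveI : Algebra.FormallySmooth k B₀ := hη
  let α' : B' →ₐ[k] B₀ := { α with commutes' := fun r => hαγ r }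
  obtain ⟨ρ, hρ⟩ := exists_section_of_formallySmooth (k := k) (A := A) (B' := B') (B₀ := B₀)
    m hm α' hα hker
  exact ⟨ρ.toRingHom, hρ, fun r => ρ.commutes r⟩

theorem hasSections_of_rigid [IsLocalRing A] [IsArtinianRing A] {B₀ : Type u} [CommRing B₀]
    [Algebra k B₀] (H : ∀ X : Exal.Ext k B₀ B₀, X.IsTrivial) :
    HasSections k A (IsLocalRing.maximalIdeal A) B₀ (algebraMap k B₀) := by
  intro B' _ γ α hflat hα hker hαγ
  letI : Algebra A B' := γ.toAlgebra
  letI : Algebra k B' := (γ.comp (algebraMap k A)).toAlgebra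
  haveI : IsScalarTower k A B' := IsScalarTower.of_algebraMap_eq (fun _ => rfl)
  haveI : Module.Flat A B' := hflat
  let α' : B' →ₐ[k] B₀ := { α with commutes' := fun r => hαγ r }
  have h1m : (1 : A) ∉ IsLocalRing.maximalIdeal A :=
    (Ideal.ne_top_iff_one _).1 (IsLocalRing.maximalIdeal.isMaximal A).ne_top
  have hunit : ∀ a : A, a ∉ IsLocalRing.maximalIdeal A → IsUnit a := by
    intro a ha
    by_contra hu
    exact ha ((IsLocalRing.mem_maximalIdeal a).2 hu)
  obtain ⟨ρ, hρ⟩ := exists_section_of_rigid (k := k) (A := A) (B' := B') (B₀ := B₀) H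
    (IsLocalRing.maximalIdeal A) h1m hunit α' hα hker
  exact ⟨ρ.toRingHom, hρ, fun r => ρ.commutes r⟩

end Providers

section S12263

theorem etaC_Spec (k B₀ : Type u) [Field k] [CommRing B₀] [Algebra k B₀] :
    (etaC (Spec.map (CommRingCat.ofHom (algebraMap k B₀)))).hom =
      ((Scheme.ΓSpecIso (CommRingCat.of B₀)).symm.commRingCatIsoToRingEquiv : B₀ →+*
        Γ(Spec (CommRingCat.of B₀), ⊤)).comp (algebraMap k B₀) := by
  have h : etaC (Spec.map (CommRingCat.ofHom (algebraMap k B₀))) =
      CommRingCat.ofHom (algebraMap k B₀) ≫ (Scheme.ΓSpecIso (CommRingCat.of B₀)).inv := by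
    rw [etaC, Scheme.ΓSpecIso_inv_naturality]
  rw [h]
  rfl

theorem main12263
    {k : Type u} [Field k] (B₀ : Type u) [CommRing B₀] [Algebra k B₀]
    (hT : ∀ E : Exal.Ext k B₀ B₀, E.IsTrivial) (A : ArtFun.Art k k)
    (ξ : ArtFun.DefSch (Spec (CommRingCat.of B₀))
      (Spec.map (CommRingCat.ofHom (algebraMap k B₀))) A) :
    Nonempty (ξ.Iso (ArtFun.DefSch.trivial (Spec (CommRingCat.of B₀))
      (Spec.map (CommRingCat.ofHom (algebraMap k B₀))) inferInstance A)) := by
  have hsec : HasSections k A (IsLocalRing.maximalIdeal A) Γ(Spec (CommRingCat.of B₀), ⊤)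
      (etaC (Spec.map (CommRingCat.ofHom (algebraMap k B₀)))).hom := by
    rw [etaC_Spec]
    exact hasSections_of_ringEquiv _ _ _ (hasSections_of_rigid hT)
  haveI : Flat ξ.f := ξ.flat
  obtain ⟨φ, hφ1, hφ2⟩ := exists_iso_trivial (A := A) A.res
    (Spec.map (CommRingCat.ofHom (algebraMap k B₀))) ξ.f ξ.i ξ.isPullback hsec
  have hw : 𝟙 _ ≫ Spec.map (CommRingCat.ofHom (algebraMap k B₀)) =
      (Spec.map (CommRingCat.ofHom (algebraMap k B₀)) ≫
        Spec.map (CommRingCat.ofHom A.res.toRingHom)) ≫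
        Spec.map (CommRingCat.ofHom (algebraMap k A)) := by
    rw [Category.id_comp, Category.assoc, ← Spec.map_comp, ← CommRingCat.ofHom_comp]
    have : (A.res.toRingHom).comp (algebraMap k A) = RingHom.id k :=
      RingHom.ext fun r => A.res.commutes r
    rw [this, CommRingCat.ofHom_id, Spec.map_id, Category.comp_id]
  have h3 : ξ.i ≫ φ.hom = pullback.lift (𝟙 _)
      (Spec.map (CommRingCat.ofHom (algebraMap k B₀)) ≫
        Spec.map (CommRingCat.ofHom A.res.toRingHom)) hw := by
    apply pullback.hom_ext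
    · rw [Category.assoc, hφ2, pullback.lift_fst]
    · rw [Category.assoc, hφ1, pullback.lift_snd]
      exact ξ.isPullback.w
  exact ⟨{ iso := φ, hom_f := hφ1, i_hom := h3 }⟩

end S12263

end Groth.Agent.Lib.DefTrivArtH3
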