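import Mathlib
import Groth.Agent.Lib.DefTrivArt4_helper3

/-!
# Deformations of a regular affine scheme over a local Artinian base are trivial (helper3)
-/

set_option autoImplicit false

universe u

open CategoryTheory CategoryTheory.Limits AlgebraicGeometry TensorProduct

namespace Groth.Agent.Lib.DefTrivArtH3

theorem smooth_of_regular (k : Type u) [Field k] [IsAlgClosed k] (X : Scheme.{u})
    (hX : X ⟶ Spec (CommRingCat.of k)) [LocallyOfFiniteType hX]
    (hreg : ∀ x : X, IsRegularLocalRing (X.presheaf.stalk x)) : Smooth hX := by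
  haveI : IsLocallyNoetherian X := LocallyOfFiniteType.isLocallyNoetherian hX
  haveI : LocallyOfFinitePresentation hX := by
    rw [HasRingHomProperty.iff_appLE (P := @LocallyOfFinitePresentation)]
    intro U V e
    have h1 := HasRingHomProperty.appLE (P := @LocallyOfFiniteType) hX inferInstance U V e
    haveI : IsNoetherianRing Γ(Spec (CommRingCat.of k), U.1) :=
      IsLocallyNoetherian.component_noetherian U
    exact RingHom.FinitePresentation.of_finiteType.1 h1
  obtain ⟨φ, hφ⟩ := Groth.Agent.Lib.SmoothRegFieldH3.exists_bijective_stalk_spec_field k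
    (genericPoint (Spec (CommRingCat.of k)))
  haveI : IsAlgClosed (Spec (CommRingCat.of k)).functionField :=
    IsAlgClosed.of_ringEquiv (k := k) _ (RingEquiv.ofBijective φ hφ)
  haveI : PerfectField (Spec (CommRingCat.of k)).functionField := inferInstance
  rw [← Scheme.Hom.smoothLocus_eq_top_iff, eq_top_iff]
  rintro x -
  exact Groth.Agent.Lib.GenSmoothRegH6.mem_smoothLocus_of_regular_of_perfect hX x
    (Subsingleton.elim _ _) (hreg x)

theorem main11452 (k : Type u) [Field k]
    [IsAlgClosed k] (X : Scheme.{u}) (hX : X ⟶ Spec (CommRingCat.of k)) [IsAffine X]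
    [LocallyOfFiniteType hX] (hreg : ∀ x : X, IsRegularLocalRing (X.presheaf.stalk x))
    (A : Type u) [CommRing A] [IsLocalRing A] [IsArtinianRing A] [Algebra k A] (e : A →ₐ[k] k)
    (X' : Scheme.{u}) (g : X' ⟶ Spec (CommRingCat.of A)) [Flat g] (i : X ⟶ X')
    (hsq : IsPullback i hX g (Spec.map (CommRingCat.ofHom e.toRingHom))) :
    ∃ φ : X' ≅ Limits.pullback hX (Spec.map (CommRingCat.ofHom (algebraMap k A))),
      φ.hom ≫ Limits.pullback.snd hX (Spec.map (CommRingCat.ofHom (algebraMap k A))) = g := by
  haveI : Smooth hX := smooth_of_regular k X hX hreg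
  have h5 : (etaC hX).hom.FormallySmooth := by
    have h : RingHom.Smooth hX.appTop.hom :=
      (HasRingHomProperty.iff_of_isAffine (P := @Smooth)).mp inferInstance
    show (hX.appTop.hom.comp (Scheme.ΓSpecIso _).inv.hom).FormallySmooth
    exact RingHom.FormallySmooth.comp
      (RingHom.FormallySmooth.of_bijective
        (ConcreteCategory.bijective_of_isIso (Scheme.ΓSpecIso _).inv)) h.formallySmooth
  have hsec : HasSections k A (IsLocalRing.maximalIdeal A) Γ(X, ⊤) (etaC hX).hom :=
    hasSections_of_formallySmooth _ isNilpotent_maximalIdeal _ h5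
  obtain ⟨φ, hφ1, -⟩ := exists_iso_trivial e hX g i hsq hsec
  exact ⟨φ, hφ1⟩

end Groth.Agent.Lib.DefTrivArtH3
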