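import Groth.Statements.S15991
import Groth.Agent.Lib.DefTrivAlg_helper7
import Groth.Agent.Lib.ThickAff5_helper6

/-! # First-order deformations of a smooth affine scheme with marked points are trivial (helper7) -/

set_option autoImplicit false
set_option linter.unusedSimpArgs false
set_option linter.unusedVariables false
set_option linter.unusedSectionVars false
set_option linter.style.longLine false
set_option linter.unnecessarySimpa false
set_option maxHeartbeats 800000

universe u v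

open CategoryTheory CategoryTheory.Limits AlgebraicGeometry DualNumber

namespace Groth.Agent.Lib.DefTrivGeomH7

open Groth.Agent.Lib.DefTrivH7

section General

theorem hom_eq_of_affine {Y Z : Scheme.{u}} [IsAffine Y] [IsAffine Z] (f : Y ⟶ Z) :
    f = Y.isoSpec.hom ≫ Spec.map f.appTop ≫ Z.isoSpec.inv := by
  rw [← Category.assoc, Scheme.isoSpec_hom_naturality, Category.assoc, Iso.hom_inv_id,
    Category.comp_id]

theorem hom_to_Spec {Y : Scheme.{u}} [IsAffine Y] {R : CommRingCat.{u}} (f : Y ⟶ Spec R) :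
    f = Y.isoSpec.hom ≫ Spec.map ((Scheme.ΓSpecIso R).inv ≫ f.appTop) := by
  conv_lhs => rw [hom_eq_of_affine f]
  rw [Scheme.isoSpec_Spec_inv, Spec.map_comp]

theorem hom_from_Spec {Z : Scheme.{u}} [IsAffine Z] {R : CommRingCat.{u}} (f : Spec R ⟶ Z) :
    f = Spec.map (f.appTop ≫ (Scheme.ΓSpecIso R).hom) ≫ Z.isoSpec.inv := by
  conv_lhs => rw [hom_eq_of_affine f]
  rw [Scheme.isoSpec_Spec_hom, Spec.map_comp, Category.assoc]

theorem isoSpec_inv_appTop' (T : Scheme.{u}) [IsAffine T] :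
    T.isoSpec.inv.appTop = (Scheme.ΓSpecIso Γ(T, ⊤)).inv := by
  have h : T.isoSpec.hom.appTop = (Scheme.ΓSpecIso Γ(T, ⊤)).hom := Scheme.toSpecΓ_appTop T
  have h2 : T.isoSpec.hom.appTop ≫ T.isoSpec.inv.appTop = 𝟙 _ := by
    rw [← Scheme.Hom.comp_appTop, Iso.inv_hom_id]
    rfl
  rw [h] at h2
  exact ((Iso.eq_inv_comp _).2 h2).trans (Category.comp_id _)

end General

variable (k : Type u) [Field k]

/-- `k[ε] → k` -/
noncomputable abbrev fstC : CommRingCat.of (DualNumber k) ⟶ CommRingCat.of k :=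
  CommRingCat.ofHom (TrivSqZeroExt.fstHom k k k).toRingHom

/-- `k → k[ε]` -/
noncomputable abbrev inlC : CommRingCat.of k ⟶ CommRingCat.of (DualNumber k) :=
  CommRingCat.ofHom (algebraMap k (DualNumber k))

theorem surjective_Spec_fst : Surjective (Spec.map (fstC k)) := by
  constructor
  intro q
  let f : DualNumber k →+* k := (TrivSqZeroExt.fstHom k k k).toRingHom
  have hsurj : Function.Surjective f := fun c => ⟨TrivSqZeroExt.inl c, rfl⟩
  have hmax : (RingHom.ker f).IsMaximal := RingHom.ker_isMaximal_of_surjective f hsurj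
  have hle : RingHom.ker f ≤ q.asIdeal := by
    intro x hx
    have hx0 : x.fst = 0 := hx
    have hxx : x * x = 0 := by
      apply TrivSqZeroExt.ext <;> simp [TrivSqZeroExt.fst_mul, DualNumber.snd_mul, hx0]
    have h1 : x * x ∈ q.asIdeal := by rw [hxx]; exact q.asIdeal.zero_mem
    exact (q.isPrime.mem_or_mem h1).elim id id
  have heq : RingHom.ker f = q.asIdeal := hmax.eq_of_le q.isPrime.ne_top hle
  refine ⟨(⟨⊥, Ideal.isPrime_bot⟩ : PrimeSpectrum k), ?_⟩
  apply PrimeSpectrum.ext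
  show Ideal.comap f ⊥ = q.asIdeal
  rw [← heq]
  rfl

variable {k} {X X' : Scheme.{u}} (hX : X ⟶ Spec (CommRingCat.of k))
  (g : X' ⟶ Spec (CommRingCat.of (DualNumber k))) (i : X ⟶ X')

noncomputable def etaC : CommRingCat.of k ⟶ Γ(X, ⊤) := (Scheme.ΓSpecIso _).inv ≫ hX.appTop

noncomputable def gammaC : CommRingCat.of (DualNumber k) ⟶ Γ(X', ⊤) :=
  (Scheme.ΓSpecIso _).inv ≫ g.appTop

noncomputable def evC (q : Spec (CommRingCat.of k) ⟶ X) : Γ(X, ⊤) ⟶ CommRingCat.of k :=
  q.appTop ≫ (Scheme.ΓSpecIso _).hom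

noncomputable def sigC (q' : Spec (CommRingCat.of (DualNumber k)) ⟶ X') :
    Γ(X', ⊤) ⟶ CommRingCat.of (DualNumber k) :=
  q'.appTop ≫ (Scheme.ΓSpecIso _).hom

theorem eq_etaC [IsAffine X] : hX = X.isoSpec.hom ≫ Spec.map (etaC hX) := hom_to_Spec hX

theorem eq_gammaC [IsAffine X'] : g = X'.isoSpec.hom ≫ Spec.map (gammaC g) := hom_to_Spec g

theorem eq_evC [IsAffine X] (q : Spec (CommRingCat.of k) ⟶ X) :
    q = Spec.map (evC q) ≫ X.isoSpec.inv := hom_from_Spec q

theorem eq_sigC [IsAffine X'] (q' : Spec (CommRingCat.of (DualNumber k)) ⟶ X') :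
    q' = Spec.map (sigC q') ≫ X'.isoSpec.inv := hom_from_Spec q'

theorem F1 (hw : i ≫ g = hX ≫ Spec.map (fstC k)) :
    gammaC g ≫ i.appTop = fstC k ≫ etaC hX := by
  calc gammaC g ≫ i.appTop = (Scheme.ΓSpecIso _).inv ≫ (i ≫ g).appTop := by
        rw [Scheme.Hom.comp_appTop, gammaC, Category.assoc]
    _ = (Scheme.ΓSpecIso _).inv ≫ (Spec.map (fstC k)).appTop ≫ hX.appTop := by
        rw [hw, Scheme.Hom.comp_appTop]
    _ = fstC k ≫ etaC hX := by
        rw [← Category.assoc, ← Scheme.ΓSpecIso_inv_naturality, Category.assoc, etaC]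

theorem F2 (q : Spec (CommRingCat.of k) ⟶ X) (h : q ≫ hX = 𝟙 _) : etaC hX ≫ evC q = 𝟙 _ := by
  calc etaC hX ≫ evC q = (Scheme.ΓSpecIso _).inv ≫ (q ≫ hX).appTop ≫ (Scheme.ΓSpecIso _).hom := by
        rw [Scheme.Hom.comp_appTop, etaC, evC]; simp only [Category.assoc]
    _ = 𝟙 _ := by
        rw [h]
        simp

theorem F3 (q' : Spec (CommRingCat.of (DualNumber k)) ⟶ X') (h : q' ≫ g = 𝟙 _) :
    gammaC g ≫ sigC q' = 𝟙 _ := by
  calc gammaC g ≫ sigC q'
      = (Scheme.ΓSpecIso _).inv ≫ (q' ≫ g).appTop ≫ (Scheme.ΓSpecIso _).hom := by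
        rw [Scheme.Hom.comp_appTop, gammaC, sigC]; simp only [Category.assoc]
    _ = 𝟙 _ := by
        rw [h]
        simp

theorem F4 (q : Spec (CommRingCat.of k) ⟶ X) (q' : Spec (CommRingCat.of (DualNumber k)) ⟶ X')
    (h : q ≫ i = Spec.map (fstC k) ≫ q') : i.appTop ≫ evC q = sigC q' ≫ fstC k := by
  calc i.appTop ≫ evC q = (q ≫ i).appTop ≫ (Scheme.ΓSpecIso _).hom := by
        rw [Scheme.Hom.comp_appTop, evC, Category.assoc]
    _ = q'.appTop ≫ (Spec.map (fstC k)).appTop ≫ (Scheme.ΓSpecIso _).hom := by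
        rw [h, Scheme.Hom.comp_appTop, Category.assoc]
    _ = sigC q' ≫ fstC k := by
        rw [Scheme.ΓSpecIso_naturality, sigC, Category.assoc]

/-- the kernel of `Γ(X') → Γ(X)` is generated by `ε`. -/
theorem ker_le [IsAffine X']
    (hsq : IsPullback i hX g (Spec.map (fstC k))) (x : Γ(X', ⊤)) (hx : i.appTop.hom x = 0) :
    ∃ y, x = (gammaC g).hom ε * y := by
  let I : Ideal Γ(X', ⊤) := Ideal.span {(gammaC g).hom ε}
  let Q : CommRingCat.{u} := CommRingCat.of (Γ(X', ⊤) ⧸ I)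
  let mk : Γ(X', ⊤) ⟶ Q := CommRingCat.ofHom (Ideal.Quotient.mk I)
  let κ : CommRingCat.of k ⟶ Q := inlC k ≫ gammaC g ≫ mk
  have hκ : fstC k ≫ κ = gammaC g ≫ mk := by
    apply CommRingCat.hom_ext
    apply RingHom.ext
    intro d
    show Ideal.Quotient.mk I ((gammaC g).hom (algebraMap k (DualNumber k) d.fst)) =
      Ideal.Quotient.mk I ((gammaC g).hom d)
    rw [Ideal.Quotient.eq, Ideal.mem_span_singleton']
    refine ⟨- (gammaC g).hom (algebraMap k (DualNumber k) d.snd), ?_⟩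
    have hd := decomp d
    have h4 : (gammaC g).hom d = (gammaC g).hom (algebraMap k (DualNumber k) d.fst) +
        (gammaC g).hom ε * (gammaC g).hom (algebraMap k (DualNumber k) d.snd) := by
      conv_lhs => rw [← hd]
      rw [map_add, map_mul]
    rw [h4]
    ring
  have hzw : (Spec.map mk ≫ X'.isoSpec.inv) ≫ g = Spec.map κ ≫ Spec.map (fstC k) := by
    conv_lhs => rw [eq_gammaC g]
    simp only [Category.assoc, Iso.inv_hom_id_assoc, ← Spec.map_comp, hκ]
  have hl : hsq.lift (Spec.map mk ≫ X'.isoSpec.inv) (Spec.map κ) hzw ≫ i =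
      Spec.map mk ≫ X'.isoSpec.inv := hsq.lift_fst _ _ _
  have hz : (Spec.map mk ≫ X'.isoSpec.inv).appTop = mk ≫ (Scheme.ΓSpecIso Q).inv := by
    rw [Scheme.Hom.comp_appTop, isoSpec_inv_appTop', ← Scheme.ΓSpecIso_inv_naturality]
  have h0 : (Spec.map mk ≫ X'.isoSpec.inv).appTop.hom x = 0 := by
    rw [← hl, Scheme.Hom.comp_appTop]
    show (hsq.lift (Spec.map mk ≫ X'.isoSpec.inv) (Spec.map κ) hzw).appTop.hom (i.appTop.hom x) = 0
    rw [hx, map_zero]
  rw [hz] at h0
  have hmk : Ideal.Quotient.mk I x = 0 := by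
    have hinj : Function.Injective (Scheme.ΓSpecIso Q).inv.hom :=
      (ConcreteCategory.bijective_of_isIso (Scheme.ΓSpecIso Q).inv).1
    apply hinj
    rw [map_zero]
    exact h0
  rw [Ideal.Quotient.eq_zero_iff_mem, Ideal.mem_span_singleton'] at hmk
  obtain ⟨y, hy⟩ := hmk
  exact ⟨y, by rw [← hy]; ring⟩

theorem main15991
    (k : Type u) [Field k] (X : Scheme.{u}) (hX : X ⟶ Spec (CommRingCat.of k)) [IsAffine X] [Smooth hX]
    {ι : Type v} [Finite ι] (p : ι → (Spec (CommRingCat.of k) ⟶ X)) (hp : ∀ j, p j ≫ hX = 𝟙 _)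
    (hinj : Function.Injective p)
    (X' : Scheme.{u}) (g : X' ⟶ Spec (CommRingCat.of (DualNumber k))) [Flat g] (i : X ⟶ X')
    (hsq : IsPullback i hX g
      (Spec.map (CommRingCat.ofHom (TrivSqZeroExt.fstHom k k k).toRingHom)))
    (p' : ι → (Spec (CommRingCat.of (DualNumber k)) ⟶ X')) (hp' : ∀ j, p' j ≫ g = 𝟙 _)
    (hpp' : ∀ j, p j ≫ i = Spec.map (CommRingCat.ofHom (TrivSqZeroExt.fstHom k k k).toRingHom) ≫ p' j) :
    ∃ φ : X' ≅ Limits.pullback hX (Spec.map (CommRingCat.ofHom (algebraMap k (DualNumber k)))),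
      φ.hom ≫ Limits.pullback.snd hX (Spec.map (CommRingCat.ofHom (algebraMap k (DualNumber k)))) = g ∧
        i ≫ φ.hom ≫ Limits.pullback.fst hX (Spec.map (CommRingCat.ofHom (algebraMap k (DualNumber k)))) = 𝟙 X ∧
          ∀ j, p' j ≫ φ.hom ≫
              Limits.pullback.fst hX (Spec.map (CommRingCat.ofHom (algebraMap k (DualNumber k)))) =
            Spec.map (CommRingCat.ofHom (algebraMap k (DualNumber k))) ≫ p j := by
  classical
  -- `X'` is affine
  have hι₀c : IsClosedImmersion (Spec.map (fstC k)) :=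
    IsClosedImmersion.spec_of_surjective (fstC k) (fun c => ⟨TrivSqZeroExt.inl c, rfl⟩)
  have hι₀s : Surjective (Spec.map (fstC k)) := surjective_Spec_fst k
  have hic : IsClosedImmersion i :=
    MorphismProperty.of_isPullback (P := @IsClosedImmersion) hsq.flip hι₀c
  have his : Surjective i := MorphismProperty.of_isPullback (P := @Surjective) hsq.flip hι₀s
  have hX'aff : IsAffine X' := Groth.Agent.Lib.ThickAffH6.isAffine_of_thickening i
  obtain ⟨m, ⟨eqv⟩⟩ := Finite.exists_equiv_fin ι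
  -- ring data
  have f1 := F1 hX g i hsq.w
  have h1 : ∀ d, i.appTop.hom ((gammaC g).hom d) = (etaC hX).hom d.fst :=
    fun d => congrArg (fun φ => φ.hom d) f1
  have h2 : Function.Surjective i.appTop.hom :=
    (IsClosedImmersion.isAffine_surjective_of_isAffine i).2
  have h3 := ker_le hX g i hsq
  have hflat : (gammaC g).hom.Flat := by
    have h := (HasRingHomProperty.iff_of_isAffine (P := @Flat)).mp (inferInstance : Flat g)
    show (g.appTop.hom.comp (Scheme.ΓSpecIso _).inv.hom).Flat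
    exact RingHom.Flat.comp
      (RingHom.Flat.of_bijective (ConcreteCategory.bijective_of_isIso (Scheme.ΓSpecIso _).inv)) h
  have h5 : (etaC hX).hom.FormallySmooth := by
    have h : RingHom.Smooth hX.appTop.hom :=
      (HasRingHomProperty.iff_of_isAffine (P := @Smooth)).mp inferInstance
    show (hX.appTop.hom.comp (Scheme.ΓSpecIso _).inv.hom).FormallySmooth
    exact RingHom.FormallySmooth.comp
      (RingHom.FormallySmooth.of_bijective
        (ConcreteCategory.bijective_of_isIso (Scheme.ΓSpecIso _).inv)) h.formallySmooth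
  have h6 : ∀ (j : Fin m) c, (evC (p (eqv.symm j))).hom ((etaC hX).hom c) = c :=
    fun j c => congrArg (fun φ => φ.hom c) (F2 hX (p (eqv.symm j)) (hp _))
  have h7 : Function.Injective (fun j : Fin m => (evC (p (eqv.symm j))).hom) := by
    intro j j' hjj'
    have e1 : evC (p (eqv.symm j)) = evC (p (eqv.symm j')) := CommRingCat.hom_ext hjj'
    have e2 : p (eqv.symm j) = p (eqv.symm j') := by
      rw [eq_evC (p (eqv.symm j)), eq_evC (p (eqv.symm j')), e1]
    exact eqv.symm.injective (hinj e2)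
  have h8 : ∀ (j : Fin m) d, (sigC (p' (eqv.symm j))).hom ((gammaC g).hom d) = d :=
    fun j d => congrArg (fun φ => φ.hom d) (F3 g (p' (eqv.symm j)) (hp' _))
  have h9 : ∀ (j : Fin m) x, ((sigC (p' (eqv.symm j))).hom x).fst =
      (evC (p (eqv.symm j))).hom (i.appTop.hom x) :=
    fun j x => (congrArg (fun φ => φ.hom x) (F4 i (p (eqv.symm j)) (p' (eqv.symm j)) (hpp' _))).symm
  obtain ⟨ρ, o1, o2, o3⟩ := exists_retraction (etaC hX).hom (gammaC g).hom i.appTop.hom h1 h2 h3 h5
    (fun j : Fin m => (evC (p (eqv.symm j))).hom) h6 h7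
    (fun j : Fin m => (sigC (p' (eqv.symm j))).hom) h8 h9
  have hpo := isPushout_of_retraction (etaC hX).hom (gammaC g).hom i.appTop.hom h1 h2 h3 hflat ρ o1 o2
  have hpb := isPullback_SpecMap_of_isPushout _ _ _ _ hpo
  have hmain : IsPullback (X'.isoSpec.hom ≫ Spec.map (CommRingCat.ofHom ρ) ≫ X.isoSpec.inv) g hX
      (Spec.map (inlC k)) := by
    refine IsPullback.of_iso hpb X'.isoSpec.symm X.isoSpec.symm (Iso.refl _) (Iso.refl _)
      ?_ ?_ ?_ ?_
    · simp only [Iso.symm_hom, Iso.inv_hom_id_assoc]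
    · simp only [Iso.refl_hom, Category.comp_id, Iso.symm_hom]
      conv_rhs => rw [eq_gammaC g]
      rw [Iso.inv_hom_id_assoc]
      rfl
    · simp only [Iso.refl_hom, Category.comp_id, Iso.symm_hom]
      conv_rhs => rw [eq_etaC hX]
      rw [Iso.inv_hom_id_assoc]
      rfl
    · simp only [Iso.refl_hom, Category.comp_id, Category.id_comp]
  have hρα : CommRingCat.ofHom ρ ≫ i.appTop = 𝟙 _ := CommRingCat.hom_ext (RingHom.ext o1)
  refine ⟨hmain.isoPullback, hmain.isoPullback_hom_snd, ?_, ?_⟩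
  · rw [hmain.isoPullback_hom_fst]
    have hi := hom_eq_of_affine i
    calc i ≫ X'.isoSpec.hom ≫ Spec.map (CommRingCat.ofHom ρ) ≫ X.isoSpec.inv
        = (X.isoSpec.hom ≫ Spec.map i.appTop ≫ X'.isoSpec.inv) ≫
            X'.isoSpec.hom ≫ Spec.map (CommRingCat.ofHom ρ) ≫ X.isoSpec.inv := by rw [← hi]
      _ = X.isoSpec.hom ≫ Spec.map (CommRingCat.ofHom ρ ≫ i.appTop) ≫ X.isoSpec.inv := by
          simp only [Category.assoc, Iso.inv_hom_id_assoc, Spec.map_comp]
      _ = 𝟙 X := by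
          rw [hρα, Spec.map_id]
          erw [Category.id_comp]
          exact Iso.hom_inv_id _
  · intro j
    rw [hmain.isoPullback_hom_fst]
    have hσ : CommRingCat.ofHom ρ ≫ sigC (p' j) = evC (p j) ≫ inlC k := by
      apply CommRingCat.hom_ext
      apply RingHom.ext
      intro a
      have := o3 (eqv j) a
      simp only [Equiv.symm_apply_apply] at this
      exact this
    have hq' := eq_sigC (p' j)
    have hq := eq_evC (p j)
    calc p' j ≫ X'.isoSpec.hom ≫ Spec.map (CommRingCat.ofHom ρ) ≫ X.isoSpec.inv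
        = (Spec.map (sigC (p' j)) ≫ X'.isoSpec.inv) ≫
            X'.isoSpec.hom ≫ Spec.map (CommRingCat.ofHom ρ) ≫ X.isoSpec.inv := by rw [← hq']
      _ = Spec.map (CommRingCat.ofHom ρ ≫ sigC (p' j)) ≫ X.isoSpec.inv := by
          simp only [Category.assoc, Iso.inv_hom_id_assoc, Spec.map_comp]
      _ = Spec.map (inlC k) ≫ Spec.map (evC (p j)) ≫ X.isoSpec.inv := by
          rw [hσ, Spec.map_comp, Category.assoc]
      _ = Spec.map (inlC k) ≫ p j := by rw [← hq]

end Groth.Agent.Lib.DefTrivGeomH7
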