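import Mathlib
import Groth.Prelude
import Groth.Agent.Lib.Tens2_helper8

/-!
# A connection deforms over the trivial first-order deformation (helper7)

On `E ⊞ E` with the action of the dual numbers `a + bε ↦ a • 1 + b • (fst ≫ inr)` the map
`(x₁, x₂) ↦ (inl ⊗ 1)(∇ x₁) + (inr ⊗ 1)(∇ x₂)` is a connection, commuting with `k[ε]` and reducing to `∇`.
-/

set_option autoImplicit false

universe u

open CategoryTheory CategoryTheory.Limits AlgebraicGeometry TopologicalSpace Opposite TensorProduct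
  MonoidalCategory

namespace Groth.Agent.Lib.DefoConnTrivH7

section General

variable {X : Scheme.{u}}

/-- Morphisms out of `M ⊗ N` are determined by their values on pure tensors (copy of helper9's
`PFormH9.hom_ext_tmul`). -/
theorem hom_ext_tmul {M N P : X.Modules} (a b : CohB1.tensorMod M N ⟶ P)
    (h : ∀ (U : X.Opens) (m : M.val.obj (op U)) (n : N.val.obj (op U)),
      (a.val.app (op U)).hom (SecTwist.tmul M N U m n) =
        (b.val.app (op U)).hom (SecTwist.tmul M N U m n)) : a = b := by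
  let adj := PresheafOfModules.sheafificationAdjunction (𝟙 X.ringCatSheaf.obj)
  apply (adj.homEquiv (show X.PresheafOfModules from CohB1.tensorPre M N) P).injective
  rw [Adjunction.homEquiv_unit, Adjunction.homEquiv_unit]
  apply PresheafOfModules.hom_ext
  intro U
  apply ModuleCat.MonoidalCategory.tensor_ext
  intro m n
  exact h U.unop m n

variable {M M' M'' N : X.Modules}

theorem hom_ext_tmul' {P : X.Modules} (a b : CohB1.tensorMod M N ⟶ P)
    (h : ∀ (U : X.Opens) (m : Γ(M, U)) (n : Γ(N, U)),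
      a.app U (SecTwist.tmul M N U m n) = b.app U (SecTwist.tmul M N U m n)) : a = b :=
  hom_ext_tmul a b (fun U m n => h U m n)

theorem app_add_apply (f g : M ⟶ M') (U : X.Opens) (x : Γ(M, U)) :
    (f + g).app U x = f.app U x + g.app U x := rfl

theorem app_comp_apply (f : M ⟶ M') (g : M' ⟶ M'') (U : X.Opens) (x : Γ(M, U)) :
    (f ≫ g).app U x = g.app U (f.app U x) := rfl

theorem app_id_apply (U : X.Opens) (x : Γ(M, U)) : (𝟙 M : M ⟶ M).app U x = x := rfl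

theorem app_zero_apply (U : X.Opens) (x : Γ(M, U)) : (0 : M ⟶ M').app U x = 0 := rfl

theorem tm_comp (f : M ⟶ M') (g : M' ⟶ M'') :
    KoszTw.tensorMap f (𝟙 N) ≫ KoszTw.tensorMap g (𝟙 N) = KoszTw.tensorMap (f ≫ g) (𝟙 N) := by
  rw [← KoszTw.tensorMap_comp, Category.comp_id]

theorem tm_add (f g : M ⟶ M') :
    KoszTw.tensorMap (f + g) (𝟙 N) = KoszTw.tensorMap f (𝟙 N) + KoszTw.tensorMap g (𝟙 N) := by
  apply hom_ext_tmul'
  intro U m n
  rw [app_add_apply, KoszTw.tensorMap_tmul, KoszTw.tensorMap_tmul, KoszTw.tensorMap_tmul,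
    app_add_apply]
  exact TensH8.tmul_add_left M' N U _ _ _

theorem tm_zero : KoszTw.tensorMap (0 : M ⟶ M') (𝟙 N) = 0 := by
  apply hom_ext_tmul'
  intro U m n
  have h1 : (0 : M ⟶ M').app U m = 0 := rfl
  rw [KoszTw.tensorMap_tmul, h1]
  exact TensH8.tmul_zero_left M' N U _

end General

section Scalars

variable {k : Type u} [Field k] {X : Scheme.{u}} [X.Over (Spec (CommRingCat.of k))]
variable {M M' N : X.Modules}

/-- The scalar `c : k` as a function on the open `U`. -/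
noncomputable abbrev sc (c : k) (U : X.Opens) : Γ(X, U) :=
  X.presheaf.map (homOfLE (le_top : U ≤ ⊤)).op (Coh.toGlobal (X ↘ Spec (CommRingCat.of k)) c)

theorem smul_app (c : k) (f : M ⟶ M') (U : X.Opens) (m : Γ(M, U)) :
    (c • f).app U m = sc c U • f.app U m := KLin.smul_app_apply c f U m

theorem tm_smul (c : k) (f : M ⟶ M') :
    KoszTw.tensorMap (c • f) (𝟙 N) = c • KoszTw.tensorMap f (𝟙 N) := by
  apply hom_ext_tmul'
  intro U m n
  rw [smul_app c (KoszTw.tensorMap f (𝟙 N)), KoszTw.tensorMap_tmul, KoszTw.tensorMap_tmul,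
    smul_app c f]
  exact TensH8.tmul_smul_left M' N U _ _ _

/-- A `k`-derivation kills the scalars. -/
theorem der_scalar {Ω' : X.Modules} (δ : OmegaSh.Der (X ↘ Spec (CommRingCat.of k)) Ω') (c : k)
    (U : X.Opens) : δ.app U (sc c U) = 0 := by
  have h0 : δ.d (X := op (⊤ : X.Opens)) (Coh.toGlobal (X ↘ Spec (CommRingCat.of k)) c) = 0 :=
    δ.d_app (X := op (⊤ : (Spec (CommRingCat.of k)).Opens))
      ((Scheme.ΓSpecIso (CommRingCat.of k)).inv.hom c)
  have h1 := δ.d_map (X := op (⊤ : X.Opens)) (Y := op U) (homOfLE (le_top : U ≤ ⊤)).op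
    (Coh.toGlobal (X ↘ Spec (CommRingCat.of k)) c)
  rw [OmegaSh.Der.app_apply]
  refine h1.trans ?_
  rw [h0]
  exact map_zero _

end Scalars

section Main

variable {k : Type u} [Field k] {X : Scheme.{u}} [X.Over (Spec (CommRingCat.of k))]
  {Ω' : X.Modules} (δ : OmegaSh.Der (X ↘ Spec (CommRingCat.of k)) Ω') {E : X.Modules}
  (nabla : Coh.toAb E ⟶ Coh.toAb (CohB1.tensorMod E Ω'))

/-- `SecTwist.tmul` with the section types of the scheme library. -/
noncomputable def tmG (M N : X.Modules) (U : X.Opens) (m : Γ(M, U)) (n : Γ(N, U)) :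
    Γ(CohB1.tensorMod M N, U) := SecTwist.tmul M N U m n

theorem tmG_add_left (M N : X.Modules) (U : X.Opens) (m m' : Γ(M, U)) (n : Γ(N, U)) :
    tmG M N U (m + m') n = tmG M N U m n + tmG M N U m' n := TensH8.tmul_add_left M N U m m' n

theorem tmG_zero_right (M N : X.Modules) (U : X.Opens) (m : Γ(M, U)) :
    tmG M N U m 0 = 0 := TensH8.tmul_zero_right M N U m

theorem tensorMap_tmG {M M' N N' : X.Modules} (f : M ⟶ M') (g : N ⟶ N') (U : X.Opens)
    (m : Γ(M, U)) (n : Γ(N, U)) :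
    (KoszTw.tensorMap f g).app U (tmG M N U m n) = tmG M' N' U (f.app U m) (g.app U n) :=
  KoszTw.tensorMap_tmul f g U m n

/-- `∇` on sections, with the section types of the scheme library. -/
noncomputable def nab (U : X.Opens) : Γ(E, U) →+ Γ(CohB1.tensorMod E Ω', U) :=
  ConnSh.secApp nabla U

theorem nab_leib (hn : ConnSh.IsConn δ E nabla) (U : X.Opens) (t : Γ(X, U)) (e : Γ(E, U)) :
    nab nabla U (t • e) = t • nab nabla U e + tmG E Ω' U e (δ.app U t) := hn U t e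

theorem nab_sc (hn : ConnSh.IsConn δ E nabla) (c : k) (U : X.Opens) (e : Γ(E, U)) :
    nab nabla U (sc c U • e) = sc c U • nab nabla U e := by
  rw [nab_leib δ nabla hn, der_scalar δ c U, tmG_zero_right, add_zero]

theorem total_apply (U : X.Opens) (x : Γ(E ⊞ E, U)) :
    (biprod.inl : E ⟶ E ⊞ E).app U ((biprod.fst : E ⊞ E ⟶ E).app U x) +
      (biprod.inr : E ⟶ E ⊞ E).app U ((biprod.snd : E ⊞ E ⟶ E).app U x) = x := by
  have h := congrArg (fun φ : E ⊞ E ⟶ E ⊞ E => φ.app U x) (biprod.total (X := E) (Y := E))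
  exact h

/-- The deformed connection on `E ⊞ E`. -/
noncomputable def conn : Coh.toAb (E ⊞ E) ⟶ Coh.toAb (CohB1.tensorMod (E ⊞ E) Ω') :=
  (SheafOfModules.toSheaf X.ringCatSheaf).map (biprod.fst : E ⊞ E ⟶ E) ≫ nabla ≫
      (SheafOfModules.toSheaf X.ringCatSheaf).map
        (KoszTw.tensorMap (biprod.inl : E ⟶ E ⊞ E) (𝟙 Ω')) +
    (SheafOfModules.toSheaf X.ringCatSheaf).map (biprod.snd : E ⊞ E ⟶ E) ≫ nabla ≫
      (SheafOfModules.toSheaf X.ringCatSheaf).map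
        (KoszTw.tensorMap (biprod.inr : E ⟶ E ⊞ E) (𝟙 Ω'))

/-- The deformed connection on sections. -/
noncomputable def connG (U : X.Opens) (x : Γ(E ⊞ E, U)) : Γ(CohB1.tensorMod (E ⊞ E) Ω', U) :=
  (KoszTw.tensorMap (biprod.inl : E ⟶ E ⊞ E) (𝟙 Ω')).app U
      (nab nabla U ((biprod.fst : E ⊞ E ⟶ E).app U x)) +
    (KoszTw.tensorMap (biprod.inr : E ⟶ E ⊞ E) (𝟙 Ω')).app U
      (nab nabla U ((biprod.snd : E ⊞ E ⟶ E).app U x))

theorem connG_def (U : X.Opens) (x : Γ(E ⊞ E, U)) :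
    connG nabla U x =
      (KoszTw.tensorMap (biprod.inl : E ⟶ E ⊞ E) (𝟙 Ω')).app U
          (nab nabla U ((biprod.fst : E ⊞ E ⟶ E).app U x)) +
        (KoszTw.tensorMap (biprod.inr : E ⟶ E ⊞ E) (𝟙 Ω')).app U
          (nab nabla U ((biprod.snd : E ⊞ E ⟶ E).app U x)) := rfl

theorem conn_apply (U : X.Opens) (x : Γ(E ⊞ E, U)) :
    ConnSh.secApp (conn nabla) U x = connG nabla U x := rfl

theorem leibniz_G (hn : ConnSh.IsConn δ E nabla) (U : X.Opens) (t : Γ(X, U)) (x : Γ(E ⊞ E, U)) :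
    connG nabla U (t • x) = t • connG nabla U x + tmG (E ⊞ E) Ω' U x (δ.app U t) := by
  have tot : tmG (E ⊞ E) Ω' U x (δ.app U t) =
      tmG (E ⊞ E) Ω' U
          ((biprod.inl : E ⟶ E ⊞ E).app U ((biprod.fst : E ⊞ E ⟶ E).app U x)) (δ.app U t) +
        tmG (E ⊞ E) Ω' U
          ((biprod.inr : E ⟶ E ⊞ E).app U ((biprod.snd : E ⊞ E ⟶ E).app U x)) (δ.app U t) := by
    rw [← tmG_add_left, total_apply]
  have hid : ∀ w : Γ(Ω', U), (𝟙 Ω' : Ω' ⟶ Ω').app U w = w := fun w => rfl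
  rw [connG_def, connG_def, Scheme.Modules.Hom.app_smul, Scheme.Modules.Hom.app_smul,
    nab_leib δ nabla hn, nab_leib δ nabla hn, map_add, map_add, Scheme.Modules.Hom.app_smul,
    Scheme.Modules.Hom.app_smul, tensorMap_tmG, tensorMap_tmG, hid, tot, smul_add]
  abel

theorem isConn_conn (hn : ConnSh.IsConn δ E nabla) : ConnSh.IsConn δ (E ⊞ E) (conn nabla) :=
  fun U t x => leibniz_G δ nabla hn U t x

theorem pi_G (U : X.Opens) (x : Γ(E ⊞ E, U)) :
    (KoszTw.tensorMap (biprod.fst : E ⊞ E ⟶ E) (𝟙 Ω')).app U (connG nabla U x) =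
      nab nabla U ((biprod.fst : E ⊞ E ⟶ E).app U x) := by
  have c1 : ∀ y : Γ(CohB1.tensorMod E Ω', U),
      (KoszTw.tensorMap (biprod.fst : E ⊞ E ⟶ E) (𝟙 Ω')).app U
        ((KoszTw.tensorMap (biprod.inl : E ⟶ E ⊞ E) (𝟙 Ω')).app U y) = y := by
    intro y
    have h : KoszTw.tensorMap (biprod.inl : E ⟶ E ⊞ E) (𝟙 Ω') ≫
        KoszTw.tensorMap (biprod.fst : E ⊞ E ⟶ E) (𝟙 Ω') = 𝟙 _ := by
      rw [tm_comp, biprod.inl_fst, KoszTw.tensorMap_id]
    exact congrArg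
      (fun φ : CohB1.tensorMod E Ω' ⟶ CohB1.tensorMod E Ω' => φ.app U y) h
  have c2 : ∀ y : Γ(CohB1.tensorMod E Ω', U),
      (KoszTw.tensorMap (biprod.fst : E ⊞ E ⟶ E) (𝟙 Ω')).app U
        ((KoszTw.tensorMap (biprod.inr : E ⟶ E ⊞ E) (𝟙 Ω')).app U y) = 0 := by
    intro y
    have h : KoszTw.tensorMap (biprod.inr : E ⟶ E ⊞ E) (𝟙 Ω') ≫
        KoszTw.tensorMap (biprod.fst : E ⊞ E ⟶ E) (𝟙 Ω') = 0 := by
      rw [tm_comp, biprod.inr_fst, tm_zero]
    exact congrArg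
      (fun φ : CohB1.tensorMod E Ω' ⟶ CohB1.tensorMod E Ω' => φ.app U y) h
  rw [connG_def, map_add, c1, c2, add_zero]

theorem pi_horizontal : ConnSh.IsHorizontal (conn nabla) nabla (biprod.fst : E ⊞ E ⟶ E) :=
  fun U x => (pi_G nabla U x).symm

theorem act_fst (a : DualNumber k) :
    (DefoSh.dualAct k E a : E ⊞ E ⟶ E ⊞ E) ≫ biprod.fst = a.fst • (biprod.fst : E ⊞ E ⟶ E) := by
  rw [DefoSh.dualAct_hom]
  change (a.fst • 𝟙 (E ⊞ E) + a.snd • ((biprod.fst : E ⊞ E ⟶ E) ≫ biprod.inr)) ≫ biprod.fst = _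
  simp [Preadditive.add_comp, Linear.smul_comp]

theorem act_snd (a : DualNumber k) :
    (DefoSh.dualAct k E a : E ⊞ E ⟶ E ⊞ E) ≫ biprod.snd =
      a.fst • (biprod.snd : E ⊞ E ⟶ E) + a.snd • (biprod.fst : E ⊞ E ⟶ E) := by
  rw [DefoSh.dualAct_hom]
  change (a.fst • 𝟙 (E ⊞ E) + a.snd • ((biprod.fst : E ⊞ E ⟶ E) ≫ biprod.inr)) ≫ biprod.snd = _
  simp [Preadditive.add_comp, Linear.smul_comp]

theorem inl_act (a : DualNumber k) :
    (biprod.inl : E ⟶ E ⊞ E) ≫ (DefoSh.dualAct k E a : E ⊞ E ⟶ E ⊞ E) =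
      a.fst • (biprod.inl : E ⟶ E ⊞ E) + a.snd • (biprod.inr : E ⟶ E ⊞ E) := by
  rw [DefoSh.dualAct_hom]
  change (biprod.inl : E ⟶ E ⊞ E) ≫
    (a.fst • 𝟙 (E ⊞ E) + a.snd • ((biprod.fst : E ⊞ E ⟶ E) ≫ biprod.inr)) = _
  simp [Preadditive.comp_add, Linear.comp_smul]

theorem inr_act (a : DualNumber k) :
    (biprod.inr : E ⟶ E ⊞ E) ≫ (DefoSh.dualAct k E a : E ⊞ E ⟶ E ⊞ E) =
      a.fst • (biprod.inr : E ⟶ E ⊞ E) := by
  rw [DefoSh.dualAct_hom]
  change (biprod.inr : E ⟶ E ⊞ E) ≫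
    (a.fst • 𝟙 (E ⊞ E) + a.snd • ((biprod.fst : E ⊞ E ⟶ E) ≫ biprod.inr)) = _
  simp [Preadditive.comp_add, Linear.comp_smul]

theorem act_G (hn : ConnSh.IsConn δ E nabla) (a : DualNumber k) (U : X.Opens)
    (x : Γ(E ⊞ E, U)) :
    connG nabla U ((DefoSh.dualAct k E a : E ⊞ E ⟶ E ⊞ E).app U x) =
      (KoszTw.tensorMap (DefoSh.dualAct k E a : E ⊞ E ⟶ E ⊞ E) (𝟙 Ω')).app U
        (connG nabla U x) := by
  obtain ⟨A, hA⟩ : ∃ A : E ⊞ E ⟶ E ⊞ E, A = (DefoSh.dualAct k E a : E ⊞ E ⟶ E ⊞ E) := ⟨_, rfl⟩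
  rw [← hA]
  have f1 : (biprod.fst : E ⊞ E ⟶ E).app U (A.app U x) =
      sc a.fst U • (biprod.fst : E ⊞ E ⟶ E).app U x := by
    have h := congrArg (fun φ : E ⊞ E ⟶ E => φ.app U x) (act_fst (E := E) a)
    rw [← hA] at h
    exact h.trans (smul_app a.fst biprod.fst U x)
  have f2 : (biprod.snd : E ⊞ E ⟶ E).app U (A.app U x) =
      sc a.fst U • (biprod.snd : E ⊞ E ⟶ E).app U x +
        sc a.snd U • (biprod.fst : E ⊞ E ⟶ E).app U x := by
    have h := congrArg (fun φ : E ⊞ E ⟶ E => φ.app U x) (act_snd (E := E) a)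
    rw [← hA] at h
    refine h.trans ?_
    rw [app_add_apply, smul_app, smul_app]
  have g1 : ∀ y : Γ(CohB1.tensorMod E Ω', U),
      (KoszTw.tensorMap A (𝟙 Ω')).app U
        ((KoszTw.tensorMap (biprod.inl : E ⟶ E ⊞ E) (𝟙 Ω')).app U y) =
      sc a.fst U • (KoszTw.tensorMap (biprod.inl : E ⟶ E ⊞ E) (𝟙 Ω')).app U y +
        sc a.snd U • (KoszTw.tensorMap (biprod.inr : E ⟶ E ⊞ E) (𝟙 Ω')).app U y := by
    intro y
    have h : KoszTw.tensorMap (biprod.inl : E ⟶ E ⊞ E) (𝟙 Ω') ≫ KoszTw.tensorMap A (𝟙 Ω') =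
        a.fst • KoszTw.tensorMap (biprod.inl : E ⟶ E ⊞ E) (𝟙 Ω') +
          a.snd • KoszTw.tensorMap (biprod.inr : E ⟶ E ⊞ E) (𝟙 Ω') := by
      rw [tm_comp, hA, inl_act, tm_add, tm_smul, tm_smul]
    have h' := congrArg
      (fun φ : CohB1.tensorMod E Ω' ⟶ CohB1.tensorMod (E ⊞ E) Ω' => φ.app U y) h
    refine h'.trans ?_
    rw [app_add_apply, smul_app, smul_app]
  have g2 : ∀ y : Γ(CohB1.tensorMod E Ω', U),
      (KoszTw.tensorMap A (𝟙 Ω')).app U
        ((KoszTw.tensorMap (biprod.inr : E ⟶ E ⊞ E) (𝟙 Ω')).app U y) =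
      sc a.fst U • (KoszTw.tensorMap (biprod.inr : E ⟶ E ⊞ E) (𝟙 Ω')).app U y := by
    intro y
    have h : KoszTw.tensorMap (biprod.inr : E ⟶ E ⊞ E) (𝟙 Ω') ≫ KoszTw.tensorMap A (𝟙 Ω') =
        a.fst • KoszTw.tensorMap (biprod.inr : E ⟶ E ⊞ E) (𝟙 Ω') := by
      rw [tm_comp, hA, inr_act, tm_smul]
    have h' := congrArg
      (fun φ : CohB1.tensorMod E Ω' ⟶ CohB1.tensorMod (E ⊞ E) Ω' => φ.app U y) h
    exact h'.trans (smul_app _ _ U y)
  rw [connG_def, connG_def, f1, f2, map_add (nab nabla U), nab_sc δ nabla hn,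
    nab_sc δ nabla hn, nab_sc δ nabla hn, map_add, map_add, g1, g2,
    Scheme.Modules.Hom.app_smul, Scheme.Modules.Hom.app_smul, Scheme.Modules.Hom.app_smul]
  abel

theorem act_horizontal (hn : ConnSh.IsConn δ E nabla) (a : DualNumber k) :
    ConnSh.IsHorizontal (conn nabla) (conn nabla) (DefoSh.dualAct k E a : E ⊞ E ⟶ E ⊞ E) :=
  fun U x => act_G δ nabla hn a U x

theorem main (hn : ConnSh.IsConn δ E nabla) :
    Nonempty (DefoSh.DefoConn δ nabla (DefoSh.Defo.trivDual k E)) :=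
  ⟨{ conn := conn nabla
     isConn := isConn_conn δ nabla hn
     act_horizontal := fun a => act_horizontal δ nabla hn a
     π_horizontal := pi_horizontal nabla }⟩

end Main

end Groth.Agent.Lib.DefoConnTrivH7
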