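import Mathlib
import Groth.Prelude
import Groth.Agent.Lib.Desc1_helper8
import Groth.Agent.Lib.PForm2_helper9

/-!
# The short exact sequence `0 → E → D → E → 0` of a first-order deformation (helper7)

For a deformation `D` of `E` over the dual numbers and `ι : E ⟶ D.sheaf` with `π ≫ ι = ε`,
the sequence `E --ι--> D.sheaf --π--> E` is short exact in `X.Modules`.
-/

set_option autoImplicit false
set_option linter.style.haveILetI false

universe u

open CategoryTheory CategoryTheory.Limits AlgebraicGeometry TopologicalSpace Opposite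

namespace Groth.Agent.Lib.DefoSESH7

section Algebra

variable {k : Type*} [Field k]

theorem exists_eq_eps_mul (a : DualNumber k) (h : a.fst = 0) :
    ∃ c : DualNumber k, a = DualNumber.eps * c := by
  refine ⟨TrivSqZeroExt.inl a.snd, ?_⟩
  ext
  · simp [h]
  · simp

theorem fst_eq_zero_of_eps_mul (a : DualNumber k) (h : DualNumber.eps * a = 0) : a.fst = 0 := by
  have := congrArg TrivSqZeroExt.snd h
  simpa using this

theorem eq_algebraMap_add (a : DualNumber k) :
    a = algebraMap k (DualNumber k) a.fst + a.snd • (DualNumber.eps : DualNumber k) := by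
  ext
  · simp [TrivSqZeroExt.algebraMap_eq_inl']
  · simp [TrivSqZeroExt.algebraMap_eq_inl']

theorem exists_eq_eps_smul_of_flat {M : Type*} [AddCommGroup M] [Module (DualNumber k) M]
    [Module.Flat (DualNumber k) M] (v : M) (h : (DualNumber.eps : DualNumber k) • v = 0) :
    ∃ w : M, v = (DualNumber.eps : DualNumber k) • w := by
  have hrel : ∑ i : Unit, (fun _ : Unit => (DualNumber.eps : DualNumber k)) i •
      (fun _ : Unit => v) i = 0 := by
    simpa using h
  obtain ⟨n, a, y, hy, ha⟩ := Module.Flat.isTrivialRelation_of_sum_smul_eq_zero hrel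
  have hv : v = ∑ j, a () j • y j := hy ()
  have ha' : ∀ j, ∃ c : DualNumber k, a () j = DualNumber.eps * c := fun j =>
    exists_eq_eps_mul _ (fst_eq_zero_of_eps_mul _ (by simpa using ha j))
  choose c hc using ha'
  refine ⟨∑ j, c j • y j, ?_⟩
  rw [hv, Finset.smul_sum]
  refine Finset.sum_congr rfl fun j _ => ?_
  rw [hc j, mul_smul]

end Algebra

section Sheaf

variable {k : Type u} [Field k] {X : Scheme.{u}} [X.Over (Spec (CommRingCat.of k))]
  {E : X.Modules} (D : DefoSh.Defo E (ArtFun.Art.dual k k))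

/-- The action of `ε` on the deformed module. -/
noncomputable abbrev eps : D.sheaf ⟶ D.sheaf := D.act (DualNumber.eps : DualNumber k)

theorem eps_π : eps D ≫ D.π = 0 := D.act_π _ rfl

theorem act_eps_mul (c : DualNumber k) :
    (D.act ((DualNumber.eps : DualNumber k) * c : DualNumber k) : D.sheaf ⟶ D.sheaf) =
      (D.act c : D.sheaf ⟶ D.sheaf) ≫ eps D :=
  map_mul D.act (DualNumber.eps : DualNumber k) c

theorem act_eq (a : DualNumber k) :
    (D.act a : D.sheaf ⟶ D.sheaf) = a.fst • 𝟙 D.sheaf + a.snd • eps D := by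
  have h1 : D.act a = D.act (algebraMap k (DualNumber k) a.fst) +
      D.act (a.snd • (DualNumber.eps : DualNumber k)) :=
    (congrArg D.act (eq_algebraMap_add a)).trans (map_add D.act _ _)
  have h2 : D.act (algebraMap k (DualNumber k) a.fst) = a.fst • (1 : End D.sheaf) :=
    (AlgHom.commutes D.act a.fst).trans (Algebra.algebraMap_eq_smul_one _)
  have h3 : D.act (a.snd • (DualNumber.eps : DualNumber k)) =
      a.snd • D.act (DualNumber.eps : DualNumber k) := map_smul D.act a.snd _
  rw [h2, h3] at h1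
  exact h1

theorem epi_π : Epi D.π := DescH8.epi_of_stk_surjective D.π (fun p => D.surj p)

variable (p : X)

theorem stalk_eq_eps_of_π_eq_zero (v : ↑(D.sheaf.presheaf.stalk p))
    (hv : RefHull.stalkMapₗ D.π p v = 0) : ∃ w, v = RefHull.stalkMapₗ (eps D) p w := by
  letI := DefoSh.stalkModule D.sheaf D.act.toRingHom p
  have h := D.ker_le p v hv
  refine Submodule.smul_induction_on h ?_ ?_
  · intro a ha w _
    have ha0 : (a : DualNumber k).fst = 0 := (ArtFun.Art.mem_maximalIdeal_iff _ a).1 ha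
    obtain ⟨c, hc⟩ := exists_eq_eps_mul (a : DualNumber k) ha0
    refine ⟨RefHull.stalkMapₗ (D.act c : D.sheaf ⟶ D.sheaf) p w, ?_⟩
    change RefHull.stalkMapₗ (D.act a : D.sheaf ⟶ D.sheaf) p w = _
    rw [← DefoSh.stalkMapₗ_comp_apply, ← act_eps_mul, ← hc]
  · rintro x y ⟨wx, rfl⟩ ⟨wy, rfl⟩
    exact ⟨wx + wy, (map_add _ _ _).symm⟩

theorem stalk_eq_eps_of_eps_eq_zero (v : ↑(D.sheaf.presheaf.stalk p))
    (hv : RefHull.stalkMapₗ (eps D) p v = 0) : ∃ w, v = RefHull.stalkMapₗ (eps D) p w := by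
  letI : Module (DualNumber k) ↑(D.sheaf.presheaf.stalk p) :=
    DefoSh.stalkModule D.sheaf D.act.toRingHom p
  haveI : Module.Flat (DualNumber k) ↑(D.sheaf.presheaf.stalk p) := D.flat p
  have hsm : ∀ (z : DualNumber k) (l : ↑(D.sheaf.presheaf.stalk p)),
      z • l = RefHull.stalkMapₗ (D.act z : D.sheaf ⟶ D.sheaf) p l := fun z l => rfl
  have hv' : (DualNumber.eps : DualNumber k) • v = 0 := (hsm _ v).trans hv
  obtain ⟨w, hw⟩ := exists_eq_eps_smul_of_flat v hv'
  exact ⟨w, hw.trans (hsm _ w)⟩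

variable {D} (ι : E ⟶ D.sheaf) (hι : D.π ≫ ι = eps D)

include hι

theorem ι_π : ι ≫ D.π = 0 := by
  haveI := epi_π D
  rw [← cancel_epi D.π, ← Category.assoc, hι, eps_π, comp_zero]

theorem mono_ι : Mono ι := by
  refine DescH8.mono_of_stk_injective ι (fun p => ?_)
  have key : Function.Injective (RefHull.stalkMapₗ ι p) := by
    rw [injective_iff_map_eq_zero]
    intro e he
    obtain ⟨v, rfl⟩ := D.surj p e
    have h1 : RefHull.stalkMapₗ (eps D) p v = 0 := by
      rw [← hι, DefoSh.stalkMapₗ_comp_apply]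
      exact he
    obtain ⟨w, rfl⟩ := stalk_eq_eps_of_eps_eq_zero D p v h1
    rw [← DefoSh.stalkMapₗ_comp_apply, eps_π, DefoSh.stalkMapₗ_zero_apply]
  exact key

theorem exact : (ShortComplex.mk ι D.π (ι_π ι hι)).Exact := by
  apply PFormH9.exact_of_local_lift
  intro U m hm x hx
  have hm' : D.π.app U m = 0 := hm
  have h0 : RefHull.stalkMapₗ D.π x (D.sheaf.presheaf.germ U x hx m) = 0 := by
    have := DescH8.stk_germ D.π hx m
    rw [hm', map_zero] at this
    exact this
  obtain ⟨w, hw⟩ := stalk_eq_eps_of_π_eq_zero D x _ h0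
  obtain ⟨V, hxV, w', rfl⟩ := TopCat.Presheaf.exists_germ_eq D.sheaf.presheaf w
  have h1 : RefHull.stalkMapₗ (eps D) x (D.sheaf.presheaf.germ V x hxV w') =
      D.sheaf.presheaf.germ V x hxV ((eps D).app V w') := DescH8.stk_germ (eps D) hxV w'
  rw [h1] at hw
  obtain ⟨W, hxW, iU, iV, hres⟩ := TopCat.Presheaf.germ_eq D.sheaf.presheaf x hx hxV _ _ hw
  refine ⟨W, iU.le, hxW, D.π.app W (D.sheaf.presheaf.map iV.op w'), ?_⟩
  have h2 : ι.app W (D.π.app W (D.sheaf.presheaf.map iV.op w')) =
      (eps D).app W (D.sheaf.presheaf.map iV.op w') :=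
    congrArg (fun φ : D.sheaf ⟶ D.sheaf => φ.app W (D.sheaf.presheaf.map iV.op w')) hι
  have h3 : (eps D).app W (D.sheaf.presheaf.map iV.op w') =
      D.sheaf.presheaf.map iV.op ((eps D).app V w') := QCohExtn.ap_rF (eps D) iV.le w'
  exact h2.trans (h3.trans hres.symm)

theorem exists_lift {Z : X.Modules} (h : Z ⟶ D.sheaf) (hh : h ≫ D.π = 0) :
    ∃ h' : Z ⟶ E, h' ≫ ι = h := by
  haveI : Mono (ShortComplex.mk ι D.π (ι_π ι hι)).f := mono_ι ι hι
  exact (exact ι hι).lift' h hh

theorem exists_desc {Z : X.Modules} (h : D.sheaf ⟶ Z) (hh : ι ≫ h = 0) :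
    ∃ h' : E ⟶ Z, D.π ≫ h' = h := by
  haveI : Epi (ShortComplex.mk ι D.π (ι_π ι hι)).g := epi_π D
  exact (exact ι hι).desc' h hh

theorem eps_comp_eps : eps D ≫ eps D = 0 := by
  rw [← hι, Category.assoc, ← Category.assoc ι, ι_π ι hι, zero_comp, comp_zero]

theorem ι_eps : ι ≫ eps D = 0 := by
  rw [← hι, ← Category.assoc, ι_π ι hι, zero_comp]

end Sheaf

end Groth.Agent.Lib.DefoSESH7
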