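import Mathlib
import Groth.Prelude
import Groth.Agent.Lib.DefoSES_helper7
import Groth.Agent.Lib.DefoConnTriv_helper7

/-!
# Adapted local frames of a first-order deformation of a vector bundle; exactness after tensoring (helper7)
-/

set_option autoImplicit false
set_option linter.style.haveILetI false

universe u

open CategoryTheory CategoryTheory.Limits AlgebraicGeometry TopologicalSpace Opposite

namespace Groth.Agent.Lib.DefoFrameH7

open QcqsLoc QCohExtn FLFH8 Groth.Agent.Lib.DefoSESH7 Groth.Agent.Lib.DefoConnTrivH7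

section Algebra

theorem basis_append {R A B : Type*} [CommRing R] [AddCommGroup A] [AddCommGroup B] [Module R A]
    [Module R B] (p : B →ₗ[R] A) (j : A →ₗ[R] B) (hpj : ∀ a, p (j a) = 0)
    (hj : Function.Injective j) (hker : ∀ b, p b = 0 → ∃ a, j a = b) {n : ℕ} (e : Fin n → A)
    (d : Fin n → B) (hspan : Submodule.span R (Set.range e) = ⊤) (hli : LinearIndependent R e)
    (hd : ∀ i, p (d i) = e i) :
    Submodule.span R (Set.range (Fin.append d (fun i => j (e i)))) = ⊤ ∧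
      LinearIndependent R (Fin.append d (fun i => j (e i))) := by
  constructor
  · rw [eq_top_iff]
    intro b _
    have hpb : p b ∈ Submodule.span R (Set.range e) := by rw [hspan]; trivial
    obtain ⟨a, ha⟩ := (Submodule.mem_span_range_iff_exists_fun R).1 hpb
    have h1 : p (b - ∑ i, a i • d i) = 0 := by
      rw [map_sub, map_sum, ← ha, sub_eq_zero]
      refine Finset.sum_congr rfl fun i _ => ?_
      rw [map_smul, hd]
    obtain ⟨w, hw⟩ := hker _ h1
    have hw' : w ∈ Submodule.span R (Set.range e) := by rw [hspan]; trivial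
    obtain ⟨c, hc⟩ := (Submodule.mem_span_range_iff_exists_fun R).1 hw'
    rw [Submodule.mem_span_range_iff_exists_fun]
    refine ⟨Fin.append a c, ?_⟩
    rw [Fin.sum_univ_add]
    simp only [Fin.append_left, Fin.append_right]
    have h2 : ∑ i, c i • j (e i) = b - ∑ i, a i • d i := by
      rw [← hw, ← hc, map_sum]
      refine Finset.sum_congr rfl fun i _ => ?_
      rw [map_smul]
    rw [h2]
    abel
  · rw [Fintype.linearIndependent_iff]
    intro g hg
    rw [Fin.sum_univ_add] at hg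
    simp only [Fin.append_left, Fin.append_right] at hg
    have hp := congrArg p hg
    rw [map_add, map_sum, map_sum, map_zero] at hp
    have hz : ∑ i, p (g (Fin.natAdd n i) • j (e i)) = 0 :=
      Finset.sum_eq_zero fun i _ => by rw [map_smul, hpj, smul_zero]
    rw [hz, add_zero] at hp
    have hp' : ∑ i, g (Fin.castAdd n i) • e i = 0 := by
      rw [← hp]
      refine Finset.sum_congr rfl fun i _ => ?_
      rw [map_smul, hd]
    have hg1 := Fintype.linearIndependent_iff.1 hli _ hp'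
    have h0 : ∑ i, g (Fin.castAdd n i) • d i = 0 :=
      Finset.sum_eq_zero fun i _ => by rw [hg1 i, zero_smul]
    rw [h0, zero_add] at hg
    have hj0 : j (∑ i, g (Fin.natAdd n i) • e i) = 0 := by
      rw [map_sum, ← hg]
      refine Finset.sum_congr rfl fun i _ => ?_
      rw [map_smul]
    have hg2 := Fintype.linearIndependent_iff.1 hli _ (hj (hj0.trans (map_zero j).symm))
    intro i
    refine Fin.addCases (fun i => ?_) (fun i => ?_) i
    · exact hg1 i
    · exact hg2 i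

end Algebra

section Sheaf

variable {k : Type u} [Field k] {X : Scheme.{u}} [X.Over (Spec (CommRingCat.of k))]
  {E : X.Modules} {D : DefoSh.Defo E (ArtFun.Art.dual k k)}

/-- A morphism of modules on sections over `O`, as a linear map. -/
noncomputable def apL {M M' : X.Modules} (φ : M ⟶ M') (O : X.Opens) :
    Γ(M, O) →ₗ[Γ(X, O)] Γ(M', O) where
  toFun := ap φ O
  map_add' := map_add _
  map_smul' r x := ap_smul φ r x

/-- A frame of `E` over `W` with lifts to `D`. -/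
structure Frame (D : DefoSh.Defo E (ArtFun.Art.dual k k)) (W : X.Opens) where
  n : ℕ
  e : Fin n → Γ(E, W)
  d : Fin n → Γ(D.sheaf, W)
  he : ∀ (O : X.Opens) (hO : O ≤ W), BasisOn E e O hO
  hd : ∀ i, ap D.π W (d i) = e i

theorem exists_frame (hE : FlatMod.IsFinLocFree E) (x : X) {U : X.Opens} (hx : x ∈ U) :
    ∃ W : X.Opens, x ∈ W ∧ W ≤ U ∧ Nonempty (Frame D W) := by
  obtain ⟨W₀, ⟨n, e, he⟩, hxW₀, hW₀U⟩ := PFormH9.exists_triv hE hx
  haveI := epi_π D
  have hl : ∀ i, ∃ (V : X.Opens) (hV : V ≤ W₀) (_ : x ∈ V) (t : Γ(D.sheaf, V)),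
      D.π.app V t = E.presheaf.map (homOfLE hV).op (e i) :=
    fun i => EpiLoc.exists_local_lift D.π (e i) hxW₀
  choose V hV hxV t ht using hl
  let W : X.Opens := W₀ ⊓ ⨅ i, V i
  have hWi : ∀ i, W ≤ V i := fun i => inf_le_right.trans (iInf_le V i)
  have hWW₀ : W ≤ W₀ := inf_le_left
  have hxW : x ∈ W := by
    refine ⟨hxW₀, ?_⟩
    rw [Opens.coe_iInf]
    exact Set.mem_iInter.mpr hxV
  refine ⟨W, hxW, hWW₀.trans hW₀U, ⟨Frame.mk n (fun i => rF E hWW₀ (e i))
    (fun i => rF D.sheaf (hWi i) (t i))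
    (fun O hO => BasisOn.of_rF E e hWW₀ hO (he O (hO.trans hWW₀))) (fun i => ?_)⟩⟩
  have h1 := ap_rF D.π (hWi i) (t i)
  have h2 : ap D.π (V i) (t i) = rF E (hV i) (e i) := ht i
  rw [h2, rF_rF] at h1
  exact h1

variable {W : X.Opens} (F : Frame D W) (ι : E ⟶ D.sheaf)

/-- The adapted frame of `D`. -/
noncomputable def Frame.f : Fin (F.n + F.n) → Γ(D.sheaf, W) :=
  Fin.append F.d (fun i => ap ι W (F.e i))

theorem Frame.rF_f_left {O : X.Opens} (hO : O ≤ W) (i : Fin F.n) :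
    rF D.sheaf hO (F.f ι (Fin.castAdd F.n i)) = rF D.sheaf hO (F.d i) := by
  rw [Frame.f, Fin.append_left]

theorem Frame.rF_f_right {O : X.Opens} (hO : O ≤ W) (i : Fin F.n) :
    rF D.sheaf hO (F.f ι (Fin.natAdd F.n i)) = ap ι O (rF E hO (F.e i)) := by
  rw [Frame.f, Fin.append_right]
  exact (ap_rF ι hO (F.e i)).symm

theorem Frame.π_d {O : X.Opens} (hO : O ≤ W) (i : Fin F.n) :
    ap D.π O (rF D.sheaf hO (F.d i)) = rF E hO (F.e i) := by
  rw [ap_rF, F.hd]

variable (hι : D.π ≫ ι = eps D)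

include hι

theorem Frame.basisOn (O : X.Opens) (hO : O ≤ W) : BasisOn D.sheaf (F.f ι) O hO := by
  haveI : Mono (ShortComplex.mk ι D.π (ι_π ι hι)).f := mono_ι ι hι
  haveI hmono : Mono ι := mono_ι ι hι
  have key := basis_append (apL D.π O) (apL ι O)
    (fun a => congrArg (fun φ : E ⟶ E => ap φ O a) (ι_π ι hι))
    (QCohExact.app_injective_of_mono ι O)
    (fun b hb => QCohExact.app_exact (ShortComplex.mk ι D.π (ι_π ι hι)) (exact ι hι) O b hb)
    (fun i => rF E hO (F.e i)) (fun i => rF D.sheaf hO (F.d i)) (F.he O hO).1 (F.he O hO).2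
    (fun i => F.π_d hO i)
  have hfun : (fun j => rF D.sheaf hO (F.f ι j)) =
      Fin.append (fun i => rF D.sheaf hO (F.d i)) (fun i => apL ι O (rF E hO (F.e i))) := by
    funext j
    refine Fin.addCases (fun i => ?_) (fun i => ?_) j
    · rw [Fin.append_left]
      exact F.rF_f_left ι hO i
    · rw [Fin.append_right]
      exact F.rF_f_right ι hO i
  unfold BasisOn
  rw [hfun]
  exact key

variable (N : X.Modules)

omit hι in
theorem Frame.ιΩ_sumT {O : X.Opens} (hO : O ≤ W) (t : Fin F.n → Γ(N, O)) :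
    ap (KoszTw.tensorMap ι (𝟙 N)) O (PFormH9.sumT E N F.e hO t) =
      PFormH9.sumT D.sheaf N (F.f ι) hO (Fin.append (0 : Fin F.n → Γ(N, O)) t) := by
  unfold PFormH9.sumT
  rw [map_sum, Fin.sum_univ_add]
  have h1 : ∀ i : Fin F.n,
      (SecTwist.tmul D.sheaf N O (rF D.sheaf hO (F.f ι (Fin.castAdd F.n i)))
        (Fin.append (0 : Fin F.n → Γ(N, O)) t (Fin.castAdd F.n i)) :
          Γ(CohB1.tensorMod D.sheaf N, O)) = 0 := fun i => by
    rw [Fin.append_left]
    exact TensH8.tmul_zero_right D.sheaf N O _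
  have h2 : ∀ i : Fin F.n,
      (SecTwist.tmul D.sheaf N O (rF D.sheaf hO (F.f ι (Fin.natAdd F.n i)))
        (Fin.append (0 : Fin F.n → Γ(N, O)) t (Fin.natAdd F.n i)) :
          Γ(CohB1.tensorMod D.sheaf N, O)) =
      ap (KoszTw.tensorMap ι (𝟙 N)) O (SecTwist.tmul E N O (rF E hO (F.e i)) (t i)) := fun i => by
    rw [Fin.append_right, F.rF_f_right]
    exact (KoszTw.tensorMap_tmul ι (𝟙 N) O _ _).symm
  have hs1 : (∑ i : Fin F.n, SecTwist.tmul D.sheaf N O
      (rF D.sheaf hO (F.f ι (Fin.castAdd F.n i)))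
      (Fin.append (0 : Fin F.n → Γ(N, O)) t (Fin.castAdd F.n i)) :
        Γ(CohB1.tensorMod D.sheaf N, O)) = 0 := Finset.sum_eq_zero (fun i _ => h1 i)
  have hs2 : (∑ i : Fin F.n, SecTwist.tmul D.sheaf N O
      (rF D.sheaf hO (F.f ι (Fin.natAdd F.n i)))
      (Fin.append (0 : Fin F.n → Γ(N, O)) t (Fin.natAdd F.n i)) :
        Γ(CohB1.tensorMod D.sheaf N, O)) =
      ∑ i : Fin F.n, ap (KoszTw.tensorMap ι (𝟙 N)) O
        (SecTwist.tmul E N O (rF E hO (F.e i)) (t i)) :=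
    Finset.sum_congr rfl (fun i _ => h2 i)
  refine Eq.trans ?_ (congrArg₂ (· + ·) hs1.symm hs2.symm)
  exact (zero_add _).symm

theorem Frame.πΩ_sumT {O : X.Opens} (hO : O ≤ W) (u : Fin (F.n + F.n) → Γ(N, O)) :
    ap (KoszTw.tensorMap D.π (𝟙 N)) O (PFormH9.sumT D.sheaf N (F.f ι) hO u) =
      PFormH9.sumT E N F.e hO (fun i => u (Fin.castAdd F.n i)) := by
  unfold PFormH9.sumT
  rw [map_sum, Fin.sum_univ_add]
  have h1 : ∀ i : Fin F.n,
      ap (KoszTw.tensorMap D.π (𝟙 N)) O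
        (SecTwist.tmul D.sheaf N O (rF D.sheaf hO (F.f ι (Fin.castAdd F.n i)))
          (u (Fin.castAdd F.n i))) =
      (SecTwist.tmul E N O (rF E hO (F.e i)) (u (Fin.castAdd F.n i)) :
        Γ(CohB1.tensorMod E N, O)) := fun i => by
    rw [F.rF_f_left]
    refine (KoszTw.tensorMap_tmul D.π (𝟙 N) O _ _).trans ?_
    have := F.π_d hO i
    change ap D.π O _ = _ at this
    exact congrArg (fun z => SecTwist.tmul E N O z (u (Fin.castAdd F.n i))) this
  have h2 : ∀ i : Fin F.n,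
      ap (KoszTw.tensorMap D.π (𝟙 N)) O
        (SecTwist.tmul D.sheaf N O (rF D.sheaf hO (F.f ι (Fin.natAdd F.n i)))
          (u (Fin.natAdd F.n i))) = 0 := fun i => by
    rw [F.rF_f_right]
    refine (KoszTw.tensorMap_tmul D.π (𝟙 N) O _ _).trans ?_
    have h0 : ap D.π O (ap ι O (rF E hO (F.e i))) = 0 :=
      congrArg (fun φ : E ⟶ E => ap φ O (rF E hO (F.e i))) (ι_π ι hι)
    refine (congrArg (fun z => SecTwist.tmul E N O z ((𝟙 N : N ⟶ N).app O (u (Fin.natAdd F.n i))))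
      h0).trans ?_
    exact TensH8.tmul_zero_left E N O _
  have hs2 : ∑ i : Fin F.n, ap (KoszTw.tensorMap D.π (𝟙 N)) O
      (SecTwist.tmul D.sheaf N O (rF D.sheaf hO (F.f ι (Fin.natAdd F.n i)))
        (u (Fin.natAdd F.n i))) = 0 := Finset.sum_eq_zero (fun i _ => h2 i)
  have hs1 : ∑ i : Fin F.n, ap (KoszTw.tensorMap D.π (𝟙 N)) O
      (SecTwist.tmul D.sheaf N O (rF D.sheaf hO (F.f ι (Fin.castAdd F.n i)))
        (u (Fin.castAdd F.n i))) =
      (∑ i : Fin F.n, SecTwist.tmul E N O (rF E hO (F.e i)) (u (Fin.castAdd F.n i)) :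
        Γ(CohB1.tensorMod E N, O)) := Finset.sum_congr rfl (fun i _ => h1 i)
  refine (congrArg₂ (· + ·) hs1 hs2).trans ?_
  exact add_zero _

theorem mono_ιΩ (hE : FlatMod.IsFinLocFree E) : Mono (KoszTw.tensorMap ι (𝟙 N)) := by
  apply DescH8.mono_of_app_injective
  intro U
  rw [injective_iff_map_eq_zero]
  intro z hz
  apply QcqsLoc.eq_zero_of_cover (CohB1.tensorMod E N) z
  intro x hx
  obtain ⟨W, hxW, hWU, ⟨F⟩⟩ := exists_frame (D := D) hE x hx
  refine ⟨W, hWU, hxW, ?_⟩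
  obtain ⟨t, ht⟩ := PFormH9.sumT_surjective E N F.e F.he le_rfl (rF (CohB1.tensorMod E N) hWU z)
  have h1 : ap (KoszTw.tensorMap ι (𝟙 N)) W (rF (CohB1.tensorMod E N) hWU z) = 0 := by
    rw [ap_rF]
    have h0 : ap (KoszTw.tensorMap ι (𝟙 N)) U z = 0 := hz
    rw [h0, map_zero]
  rw [← ht, F.ιΩ_sumT ι N] at h1
  have h2 := PFormH9.sumT_injective D.sheaf N (F.f ι) (F.basisOn ι hι) le_rfl _ 0
    (h1.trans (PFormH9.sumT_zero D.sheaf N (F.f ι) le_rfl).symm)
  have h3 : t = 0 := by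
    funext i
    have := congrFun h2 (Fin.natAdd F.n i)
    rw [Fin.append_right] at this
    exact this
  rw [← ht, h3]
  exact PFormH9.sumT_zero E N F.e le_rfl

theorem ιΩ_πΩ : KoszTw.tensorMap ι (𝟙 N) ≫ KoszTw.tensorMap D.π (𝟙 N) = 0 := by
  rw [tm_comp, ι_π ι hι, tm_zero]

theorem exact_Ω (hE : FlatMod.IsFinLocFree E) :
    (ShortComplex.mk (KoszTw.tensorMap ι (𝟙 N)) (KoszTw.tensorMap D.π (𝟙 N))
      (ιΩ_πΩ ι hι N)).Exact := by
  apply PFormH9.exact_of_local_lift
  intro U m hm x hx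
  obtain ⟨W, hxW, hWU, ⟨F⟩⟩ := exists_frame (D := D) hE x hx
  obtain ⟨u, hu⟩ := PFormH9.sumT_surjective D.sheaf N (F.f ι) (F.basisOn ι hι) le_rfl
    (rF (CohB1.tensorMod D.sheaf N) hWU m)
  have h1 : ap (KoszTw.tensorMap D.π (𝟙 N)) W (rF (CohB1.tensorMod D.sheaf N) hWU m) = 0 := by
    rw [ap_rF]
    have h0 : ap (KoszTw.tensorMap D.π (𝟙 N)) U m = 0 := hm
    rw [h0, map_zero]
  rw [← hu, F.πΩ_sumT ι hι N] at h1
  have h2 : (fun i => u (Fin.castAdd F.n i)) = 0 :=
    PFormH9.sumT_injective E N F.e F.he le_rfl _ 0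
      (h1.trans (PFormH9.sumT_zero E N F.e le_rfl).symm)
  refine ⟨W, hWU, hxW, PFormH9.sumT E N F.e le_rfl (fun i => u (Fin.natAdd F.n i)), ?_⟩
  have h3 : Fin.append (0 : Fin F.n → Γ(N, W)) (fun i => u (Fin.natAdd F.n i)) = u := by
    funext j
    refine Fin.addCases (fun i => ?_) (fun i => ?_) j
    · rw [Fin.append_left]
      exact (congrFun h2 i).symm
    · rw [Fin.append_right]
  change ap (KoszTw.tensorMap ι (𝟙 N)) W _ = _
  rw [F.ιΩ_sumT ι N, h3, hu]

theorem exists_liftΩ (hE : FlatMod.IsFinLocFree E) {Z : X.Modules}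
    (h : Z ⟶ CohB1.tensorMod D.sheaf N) (hh : h ≫ KoszTw.tensorMap D.π (𝟙 N) = 0) :
    ∃ h' : Z ⟶ CohB1.tensorMod E N, h' ≫ KoszTw.tensorMap ι (𝟙 N) = h := by
  haveI : Mono (ShortComplex.mk (KoszTw.tensorMap ι (𝟙 N)) (KoszTw.tensorMap D.π (𝟙 N))
      (ιΩ_πΩ ι hι N)).f := mono_ιΩ ι hι N hE
  exact (exact_Ω ι hι N hE).lift' h hh

end Sheaf

end Groth.Agent.Lib.DefoFrameH7
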