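import Mathlib
import Groth.Prelude
import Groth.Agent.Lib.DefoSES_helper7
import Groth.Agent.Lib.DefoConnTriv_helper7

/-!
# Horizontality at the level of morphisms of abelian sheaves; transport of deformed connections (helper7)
-/

set_option autoImplicit false
set_option linter.style.haveILetI false

universe u

open CategoryTheory CategoryTheory.Limits AlgebraicGeometry TopologicalSpace Opposite

namespace Groth.Agent.Lib.DefoHorizH7

open Groth.Agent.Lib.DefoSESH7 Groth.Agent.Lib.DefoConnTrivH7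

section General

variable {X : Scheme.{u}} {Ω' : X.Modules} {M M' : X.Modules}

theorem isHorizontal_iff (c : Coh.toAb M ⟶ Coh.toAb (CohB1.tensorMod M Ω'))
    (c' : Coh.toAb M' ⟶ Coh.toAb (CohB1.tensorMod M' Ω')) (φ : M ⟶ M') :
    ConnSh.IsHorizontal c c' φ ↔
      (SheafOfModules.toSheaf X.ringCatSheaf).map φ ≫ c' =
        c ≫ (SheafOfModules.toSheaf X.ringCatSheaf).map (KoszTw.tensorMap φ (𝟙 Ω')) := by
  constructor
  · intro h
    apply Sheaf.hom_ext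
    apply NatTrans.ext
    funext U
    apply ConcreteCategory.hom_ext
    intro x
    exact h U.unop x
  · intro h U e
    have := congrArg
      (fun ψ : Coh.toAb M ⟶ Coh.toAb (CohB1.tensorMod M' Ω') => ConnSh.secApp ψ U e) h
    exact this

/-- The underlying abelian sheaf, as a functor on `X.Modules` (with its own category instance). -/
noncomputable def TM (X : Scheme.{u}) :
    X.Modules ⥤ Sheaf (Opens.grothendieckTopology X) AddCommGrpCat.{u} where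
  obj M := Coh.toAb M
  map φ := (SheafOfModules.toSheaf X.ringCatSheaf).map φ
  map_id M := (SheafOfModules.toSheaf X.ringCatSheaf).map_id M
  map_comp f g := (SheafOfModules.toSheaf X.ringCatSheaf).map_comp f g

theorem TM_map {M M' : X.Modules} (φ : M ⟶ M') :
    (TM X).map φ = (SheafOfModules.toSheaf X.ringCatSheaf).map φ := rfl

instance (X : Scheme.{u}) : (TM X).Additive where
  map_add {_ _ f g} := (SheafOfModules.toSheaf X.ringCatSheaf).map_add (f := f) (g := g)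

instance (X : Scheme.{u}) : (TM X).Faithful where
  map_injective h := (SheafOfModules.toSheaf X.ringCatSheaf).map_injective h

theorem isHorizontal_iff' (c : Coh.toAb M ⟶ Coh.toAb (CohB1.tensorMod M Ω'))
    (c' : Coh.toAb M' ⟶ Coh.toAb (CohB1.tensorMod M' Ω')) (φ : M ⟶ M') :
    ConnSh.IsHorizontal c c' φ ↔
      (TM X).map φ ≫ c' = c ≫ (TM X).map (KoszTw.tensorMap φ (𝟙 Ω')) :=
  isHorizontal_iff c c' φ

end General

section Abstract

variable {𝒜 ℬ : Type*} [Category 𝒜] [Category ℬ] [Preadditive 𝒜] [Preadditive ℬ] (T : 𝒜 ⥤ ℬ)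
  [T.Additive] {Dd E DΩ EΩ : 𝒜} (π : Dd ⟶ E) (ι : E ⟶ Dd) (πΩ : DΩ ⟶ EΩ) (ιΩ : EΩ ⟶ DΩ)
  (c c' : T.obj Dd ⟶ T.obj DΩ) (nab : T.obj E ⟶ T.obj EΩ)

omit [Preadditive 𝒜] [Preadditive ℬ] [T.Additive] in
theorem abs_hιc [Epi (T.map π)] (εΩ : DΩ ⟶ DΩ) (hεΩ : εΩ = πΩ ≫ ιΩ)
    (h1 : T.map (π ≫ ι) ≫ c = c ≫ T.map εΩ) (h2 : T.map π ≫ nab = c ≫ T.map πΩ) :
    T.map ι ≫ c = nab ≫ T.map ιΩ := by
  rw [← cancel_epi (T.map π)]
  calc T.map π ≫ T.map ι ≫ c = T.map (π ≫ ι) ≫ c := by rw [T.map_comp, Category.assoc]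
    _ = c ≫ T.map εΩ := h1
    _ = (c ≫ T.map πΩ) ≫ T.map ιΩ := by rw [hεΩ, T.map_comp, Category.assoc]
    _ = (T.map π ≫ nab) ≫ T.map ιΩ := by rw [h2]
    _ = T.map π ≫ nab ≫ T.map ιΩ := Category.assoc _ _ _

theorem abs_horiz (S : E ⟶ E) (SΩ : EΩ ⟶ EΩ) (NΩ : DΩ ⟶ DΩ) (hNΩ : NΩ = πΩ ≫ SΩ ≫ ιΩ)
    (hι' : T.map ι ≫ c' = nab ≫ T.map ιΩ) (hπ : T.map π ≫ nab = c ≫ T.map πΩ) :
    (T.map (𝟙 Dd + π ≫ S ≫ ι) ≫ c' = c ≫ T.map (𝟙 DΩ + NΩ)) ↔
      c' - c = T.map π ≫ (nab ≫ T.map SΩ - T.map S ≫ nab) ≫ T.map ιΩ := by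
  have hA : T.map (π ≫ S ≫ ι) ≫ c' = T.map π ≫ T.map S ≫ nab ≫ T.map ιΩ := by
    rw [T.map_comp, T.map_comp, Category.assoc, Category.assoc, hι']
  have hB : c ≫ T.map NΩ = T.map π ≫ nab ≫ T.map SΩ ≫ T.map ιΩ := by
    calc c ≫ T.map NΩ = (c ≫ T.map πΩ) ≫ T.map SΩ ≫ T.map ιΩ := by
          rw [hNΩ, T.map_comp, T.map_comp, Category.assoc]
      _ = (T.map π ≫ nab) ≫ T.map SΩ ≫ T.map ιΩ := by rw [hπ]
      _ = _ := Category.assoc _ _ _
  have rhs : T.map π ≫ (nab ≫ T.map SΩ - T.map S ≫ nab) ≫ T.map ιΩ =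
      T.map π ≫ nab ≫ T.map SΩ ≫ T.map ιΩ - T.map π ≫ T.map S ≫ nab ≫ T.map ιΩ := by
    simp only [Preadditive.sub_comp, Preadditive.comp_sub, Category.assoc]
  rw [T.map_add, T.map_add, T.map_id, T.map_id, Preadditive.add_comp, Preadditive.comp_add,
    Category.id_comp, Category.comp_id, hA, hB, rhs, sub_eq_sub_iff_add_eq_add]
  constructor
  · intro h
    rw [h, add_comm]
  · intro h
    rw [h, add_comm]

end Abstract

section Defo

variable {k : Type u} [Field k] {X : Scheme.{u}} [X.Over (Spec (CommRingCat.of k))]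
  {Ω' : X.Modules} {δ : OmegaSh.Der (X ↘ Spec (CommRingCat.of k)) Ω'} {E : X.Modules}
  {nabla : Coh.toAb E ⟶ Coh.toAb (CohB1.tensorMod E Ω')}
  {D : DefoSh.Defo E (ArtFun.Art.dual k k)}

theorem epi_T_π : Epi ((TM X).map D.π) := by
  have h1 : TopCat.Presheaf.IsLocallySurjective D.π.mapPresheaf :=
    (TopCat.Presheaf.locally_surjective_iff_surjective_on_stalks _).2 (fun p => D.surj p)
  exact (TopCat.Sheaf.isLocallySurjective_iff_epi
    ((SheafOfModules.toSheaf.{u} X.ringCatSheaf).map D.π)).1 h1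

theorem hεc (c : DefoSh.DefoConn δ nabla D) :
    (TM X).map (eps D) ≫ c.conn = c.conn ≫ (TM X).map (KoszTw.tensorMap (eps D) (𝟙 Ω')) :=
  (isHorizontal_iff' c.conn c.conn (eps D)).1 (c.act_horizontal (DualNumber.eps : DualNumber k))

theorem hπc (c : DefoSh.DefoConn δ nabla D) :
    (TM X).map D.π ≫ nabla = c.conn ≫ (TM X).map (KoszTw.tensorMap D.π (𝟙 Ω')) :=
  (isHorizontal_iff' c.conn nabla D.π).1 c.π_horizontal

variable (ι : E ⟶ D.sheaf) (hι : D.π ≫ ι = eps D)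

include hι

theorem ι_π_assoc {Z : X.Modules} (h : E ⟶ Z) : ι ≫ D.π ≫ h = 0 := by
  rw [← Category.assoc, ι_π ι hι, zero_comp]

theorem hιc (c : DefoSh.DefoConn δ nabla D) :
    (TM X).map ι ≫ c.conn = nabla ≫ (TM X).map (KoszTw.tensorMap ι (𝟙 Ω')) := by
  haveI := epi_T_π (D := D)
  exact abs_hιc (TM X) D.π ι (KoszTw.tensorMap D.π (𝟙 Ω')) (KoszTw.tensorMap ι (𝟙 Ω')) c.conn nabla
    (KoszTw.tensorMap (eps D) (𝟙 Ω')) (by rw [← hι, tm_comp]) (by rw [hι]; exact hεc c) (hπc c)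

/-- the nilpotent endomorphism `π ≫ S ≫ ι` -/
theorem N_comp_N (S S' : E ⟶ E) : (D.π ≫ S ≫ ι) ≫ (D.π ≫ S' ≫ ι) = 0 := by
  rw [Category.assoc, Category.assoc, ι_π_assoc ι hι, comp_zero, comp_zero]

omit hι in
theorem eps_comp_N (S : E ⟶ E) : eps D ≫ D.π ≫ S ≫ ι = 0 := by
  rw [← Category.assoc, eps_π, zero_comp]

theorem N_comp_eps (S : E ⟶ E) : (D.π ≫ S ≫ ι) ≫ eps D = 0 := by
  rw [Category.assoc, Category.assoc, ι_eps ι hι, comp_zero, comp_zero]

theorem act_comm_N (S : E ⟶ E) (a : DualNumber k) :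
    (D.act a : D.sheaf ⟶ D.sheaf) ≫ (D.π ≫ S ≫ ι) = (D.π ≫ S ≫ ι) ≫ (D.act a : D.sheaf ⟶ D.sheaf) := by
  rw [act_eq D a, Preadditive.add_comp, Preadditive.comp_add, Linear.smul_comp, Linear.smul_comp,
    Linear.comp_smul, Linear.comp_smul, Category.id_comp, Category.comp_id, eps_comp_N ι,
    N_comp_eps ι hι]

/-- The automorphism `1 + π ≫ S ≫ ι` of the deformation. -/
noncomputable def autoOf (S : E ⟶ E) : DefoSh.Defo.Iso D D where
  iso :=
    { hom := 𝟙 D.sheaf + D.π ≫ S ≫ ι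
      inv := 𝟙 D.sheaf - D.π ≫ S ≫ ι
      hom_inv_id := by
        rw [Preadditive.add_comp, Preadditive.comp_sub, Preadditive.comp_sub, Category.id_comp,
          Category.comp_id, Category.id_comp, N_comp_N ι hι, sub_zero, sub_add_cancel]
      inv_hom_id := by
        rw [Preadditive.sub_comp, Preadditive.comp_add, Preadditive.comp_add, Category.id_comp,
          Category.comp_id, Category.id_comp, N_comp_N ι hι, add_zero, add_sub_cancel_right] }
  act_hom a := by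
    change (D.act a : D.sheaf ⟶ D.sheaf) ≫ (𝟙 D.sheaf + D.π ≫ S ≫ ι) =
      (𝟙 D.sheaf + D.π ≫ S ≫ ι) ≫ (D.act a : D.sheaf ⟶ D.sheaf)
    rw [Preadditive.comp_add, Preadditive.add_comp, Category.comp_id, Category.id_comp,
      act_comm_N ι hι S a]
  hom_π := by
    change (𝟙 D.sheaf + D.π ≫ S ≫ ι) ≫ D.π = D.π
    rw [Preadditive.add_comp, Category.id_comp, Category.assoc, Category.assoc, ι_π ι hι,
      comp_zero, comp_zero, add_zero]

theorem horiz_one_add_iff (c c' : DefoSh.DefoConn δ nabla D) (S : E ⟶ E) :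
    ConnSh.IsHorizontal c.conn c'.conn (𝟙 D.sheaf + D.π ≫ S ≫ ι) ↔
      c'.conn - c.conn = (SheafOfModules.toSheaf X.ringCatSheaf).map D.π ≫
        (nabla ≫ (SheafOfModules.toSheaf X.ringCatSheaf).map (KoszTw.tensorMap S (𝟙 Ω')) -
          (SheafOfModules.toSheaf X.ringCatSheaf).map S ≫ nabla) ≫
          (SheafOfModules.toSheaf X.ringCatSheaf).map (KoszTw.tensorMap ι (𝟙 Ω')) := by
  have hN : KoszTw.tensorMap (𝟙 D.sheaf + D.π ≫ S ≫ ι) (𝟙 Ω') =
      𝟙 (CohB1.tensorMod D.sheaf Ω') + KoszTw.tensorMap (D.π ≫ S ≫ ι) (𝟙 Ω') := by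
    rw [tm_add, KoszTw.tensorMap_id]
  rw [isHorizontal_iff', hN]
  exact abs_horiz (TM X) D.π ι (KoszTw.tensorMap D.π (𝟙 Ω')) (KoszTw.tensorMap ι (𝟙 Ω'))
    c.conn c'.conn nabla S (KoszTw.tensorMap S (𝟙 Ω')) (KoszTw.tensorMap (D.π ≫ S ≫ ι) (𝟙 Ω'))
    (by rw [tm_comp, tm_comp]) (hιc ι hι c') (hπc c)

theorem main17437 (c c' : DefoSh.DefoConn δ nabla D) :
    DefoSh.DefoConn.Transport c c' ↔ ∃ S : E ⟶ E,
      c'.conn - c.conn = (SheafOfModules.toSheaf X.ringCatSheaf).map D.π ≫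
        (nabla ≫ (SheafOfModules.toSheaf X.ringCatSheaf).map (KoszTw.tensorMap S (𝟙 Ω')) -
          (SheafOfModules.toSheaf X.ringCatSheaf).map S ≫ nabla) ≫
          (SheafOfModules.toSheaf X.ringCatSheaf).map (KoszTw.tensorMap ι (𝟙 Ω')) := by
  constructor
  · rintro ⟨e, he⟩
    have h1 : (e.iso.hom - 𝟙 D.sheaf) ≫ D.π = 0 := by
      rw [Preadditive.sub_comp, e.hom_π, Category.id_comp, sub_self]
    obtain ⟨h', hh'⟩ := exists_lift ι hι _ h1
    have h2 : eps D ≫ (e.iso.hom - 𝟙 D.sheaf) = (e.iso.hom - 𝟙 D.sheaf) ≫ eps D := by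
      rw [Preadditive.comp_sub, Preadditive.sub_comp, Category.comp_id, Category.id_comp]
      congr 1
      exact e.act_hom (DualNumber.eps : DualNumber k)
    have h3 : (e.iso.hom - 𝟙 D.sheaf) ≫ eps D = 0 := by
      rw [← hι, ← Category.assoc, h1, zero_comp]
    have h5 : D.π ≫ ((ι ≫ h') ≫ ι) = 0 := by
      rw [Category.assoc, hh', ← Category.assoc, hι, h2, h3]
    have h6 : (ι ≫ h') ≫ ι = 0 := by
      haveI := epi_π D
      rw [← cancel_epi D.π, h5, comp_zero]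
    have h4 : ι ≫ h' = 0 := by
      haveI := mono_ι ι hι
      rw [← cancel_mono ι, h6, zero_comp]
    obtain ⟨S, hS⟩ := exists_desc ι hι h' h4
    refine ⟨S, ?_⟩
    have he' : e.iso.hom = 𝟙 D.sheaf + D.π ≫ S ≫ ι := by
      rw [← Category.assoc, hS, hh', add_sub_cancel]
    rw [he'] at he
    exact (horiz_one_add_iff ι hι c c' S).1 he
  · rintro ⟨S, hS⟩
    exact ⟨autoOf ι hι S, (horiz_one_add_iff ι hι c c' S).2 hS⟩

end Defo

end Groth.Agent.Lib.DefoHorizH7
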