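import Mathlib
import Groth.Prelude
import Groth.Agent.Lib.DefoFrame_helper7

/-!
# Local triviality of first-order deformations of vector bundles (helper7)
-/

set_option autoImplicit false
set_option linter.style.haveILetI false

universe u

open CategoryTheory CategoryTheory.Limits AlgebraicGeometry TopologicalSpace Opposite

namespace Groth.Agent.Lib.DefoLocTrivH7

open QcqsLoc QCohExtn FLFH8 SDivGenH8 Groth.Agent.Lib.DefoSESH7 Groth.Agent.Lib.DefoConnTrivH7
  Groth.Agent.Lib.DefoFrameH7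

section Free

variable {Y : Scheme.{u}}

theorem freeHom_stdSec (G : Y.Modules) {r : ℕ} (t : Fin r → Γ(G, ⊤)) (j : Fin r) :
    ap (freeHom G t) ⊤ (stdSec r ⊤ j) = t j := by
  have h := freeHom_app_smul_stdSec G t ⊤ j 1
  rw [one_smul, one_smul, SubExt.rF_self] at h
  exact h

theorem hom_ext_frame {G G' : Y.Modules} {r : ℕ} (t : Fin r → Γ(G, ⊤)) [IsIso (freeHom G t)]
    (φ ψ : G ⟶ G') (h : ∀ j, ap φ ⊤ (t j) = ap ψ ⊤ (t j)) : φ = ψ := by
  rw [← cancel_epi (freeHom G t), freeHom_comp, freeHom_comp]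
  congr 1
  funext j
  exact h j

theorem exists_iso_of_frames {G G' : Y.Modules} {r : ℕ} (t : Fin r → Γ(G, ⊤))
    (t' : Fin r → Γ(G', ⊤)) [IsIso (freeHom G t)] [IsIso (freeHom G' t')] :
    ∃ e : G ≅ G', ∀ j, ap e.hom ⊤ (t j) = t' j := by
  refine ⟨(asIso (freeHom G t)).symm ≪≫ asIso (freeHom G' t'), fun j => ?_⟩
  have h1 : freeHom G t ≫ ((asIso (freeHom G t)).symm ≪≫ asIso (freeHom G' t')).hom =
      freeHom G' t' := by
    simp
  have h2 := congrArg (fun φ : FlatMod.freeMod Y r ⟶ G' => ap φ ⊤ (stdSec r ⊤ j)) h1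
  have h3 : ap ((asIso (freeHom G t)).symm ≪≫ asIso (freeHom G' t')).hom ⊤
      (ap (freeHom G t) ⊤ (stdSec r ⊤ j)) = ap (freeHom G' t') ⊤ (stdSec r ⊤ j) := h2
  rw [freeHom_stdSec, freeHom_stdSec] at h3
  exact h3

end Free

section Res

variable {X : Scheme.{u}} {M M' : X.Modules} (W : X.Opens)

/-- A morphism between restrictions to `W`, on sections over the whole of `W`, read on `X`. -/
noncomputable def apR (φ : M.restrict W.ι ⟶ M'.restrict W.ι) :
    Γ(M, W.ι ''ᵁ ⊤) →+ Γ(M', W.ι ''ᵁ ⊤) :=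
  ap φ ⊤

theorem apR_lin (φ : M.restrict W.ι ⟶ M'.restrict W.ι)
    (r s : Γ(X, W.ι ''ᵁ ⊤)) (y z : Γ(M, W.ι ''ᵁ ⊤)) :
    apR W φ (r • y + s • z) = r • apR W φ y + s • apR W φ z := by
  obtain ⟨r₀, rfl⟩ := appIso_inv_surjective W ⊤ r
  obtain ⟨s₀, rfl⟩ := appIso_inv_surjective W ⊤ s
  have h1 : ∀ y' z' : Γ(M.restrict W.ι, ⊤), ap φ ⊤ (r₀ • y' + s₀ • z') =
      r₀ • ap φ ⊤ y' + s₀ • ap φ ⊤ z' := fun y' z' => by
    rw [map_add, ap_smul, ap_smul]
  exact h1 y z

end Res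

section Defo

variable {k : Type u} [Field k] {X : Scheme.{u}} [X.Over (Spec (CommRingCat.of k))]
  {E : X.Modules} (D : DefoSh.Defo E (ArtFun.Art.dual k k))

theorem eps_sq : eps D ≫ eps D = 0 := by
  have h : D.act ((DualNumber.eps : DualNumber k) * (DualNumber.eps : DualNumber k)) =
      D.act (DualNumber.eps : DualNumber k) * D.act (DualNumber.eps : DualNumber k) :=
    map_mul D.act _ _
  have h0 : D.act ((DualNumber.eps : DualNumber k) * (DualNumber.eps : DualNumber k)) = 0 := by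
    have e : ((DualNumber.eps : DualNumber k) * (DualNumber.eps : DualNumber k)) = 0 :=
      DualNumber.eps_mul_eps
    exact (congrArg D.act e).trans (map_zero D.act)
  exact h.symm.trans h0

theorem ker_eps : kernel.ι D.π ≫ eps D = 0 := by
  apply DescH8.eq_zero_of_stk_eq_zero
  intro p v
  have key : RefHull.stalkMapₗ (kernel.ι D.π ≫ eps D) p v = 0 := by
    rw [DefoSh.stalkMapₗ_comp_apply]
    have h0 : RefHull.stalkMapₗ D.π p (RefHull.stalkMapₗ (kernel.ι D.π) p v) = 0 := by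
      rw [← DefoSh.stalkMapₗ_comp_apply, kernel.condition, DefoSh.stalkMapₗ_zero_apply]
    obtain ⟨w, hw⟩ := stalk_eq_eps_of_π_eq_zero D p _ h0
    rw [hw, ← DefoSh.stalkMapₗ_comp_apply, eps_sq, DefoSh.stalkMapₗ_zero_apply]
  exact key

theorem exists_ι : ∃ ι : E ⟶ D.sheaf, D.π ≫ ι = eps D := by
  haveI := epi_π D
  exact ⟨Abelian.epiDesc D.π (eps D) (ker_eps D), Abelian.comp_epiDesc _ _ _⟩

theorem act_ap (a : DualNumber k) (U : X.Opens) (y : Γ(D.sheaf, U)) :
    ap (D.act a : D.sheaf ⟶ D.sheaf) U y = sc a.fst U • y + sc a.snd U • ap (eps D) U y := by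
  have h := congrArg (fun φ : D.sheaf ⟶ D.sheaf => ap φ U y) (act_eq D a)
  refine h.trans ?_
  exact congrArg₂ (· + ·) (smul_app a.fst (𝟙 D.sheaf) U y) (smul_app a.snd (eps D) U y)

variable {D} {W : X.Opens} (F : Frame D W) (ι : E ⟶ D.sheaf)

theorem f_left (i : Fin F.n) : F.f ι (Fin.castAdd F.n i) = F.d i := by
  rw [Frame.f, Fin.append_left]

theorem f_right (i : Fin F.n) : F.f ι (Fin.natAdd F.n i) = ap ι W (F.e i) := by
  rw [Frame.f, Fin.append_right]

theorem π_f_left (i : Fin F.n) : ap D.π W (F.f ι (Fin.castAdd F.n i)) = F.e i := by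
  rw [f_left, F.hd]

variable (hι : D.π ≫ ι = eps D)

include hι

theorem π_f_right (i : Fin F.n) : ap D.π W (F.f ι (Fin.natAdd F.n i)) = 0 := by
  rw [f_right]
  exact congrArg (fun φ : E ⟶ E => ap φ W (F.e i)) (ι_π ι hι)

theorem eps_f_left (i : Fin F.n) :
    ap (eps D) W (F.f ι (Fin.castAdd F.n i)) = F.f ι (Fin.natAdd F.n i) := by
  rw [f_left, f_right, ← F.hd i]
  exact (congrArg (fun φ : D.sheaf ⟶ D.sheaf => ap φ W (F.d i)) hι).symm

theorem eps_f_right (i : Fin F.n) : ap (eps D) W (F.f ι (Fin.natAdd F.n i)) = 0 := by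
  rw [f_right]
  exact congrArg (fun φ : E ⟶ D.sheaf => ap φ W (F.e i)) (ι_eps ι hι)

omit hι

/-- The frame of the trivial deformation induced by a frame of `E`. -/
noncomputable def trivFrame (F : Frame D W) : Frame (DefoSh.Defo.trivDual k E) W :=
  Frame.mk F.n F.e (fun i => ap (biprod.inl : E ⟶ E ⊞ E) W (F.e i)) F.he
    (fun i => congrArg (fun φ : E ⟶ E => ap φ W (F.e i))
      (biprod.inl_fst : (biprod.inl : E ⟶ E ⊞ E) ≫ biprod.fst = 𝟙 E))

theorem triv_hι : (DefoSh.Defo.trivDual k E).π ≫ (biprod.inr : E ⟶ E ⊞ E) =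
    eps (DefoSh.Defo.trivDual k E) :=
  (DefoSh.dualAct_eps E).symm

end Defo

section Main

variable {k : Type u} [Field k] {X : Scheme.{u}} [X.Over (Spec (CommRingCat.of k))]
  {E : X.Modules}

theorem main (hE : FlatMod.IsFinLocFree E) (D : DefoSh.Defo E (ArtFun.Art.dual k k)) (x : X) :
    ∃ (U : X.Opens) (e : D.sheaf.restrict U.ι ≅ (DefoSh.Defo.trivDual k E).sheaf.restrict U.ι),
      x ∈ U ∧
      e.hom ≫ (Scheme.Modules.restrictFunctor U.ι).map (DefoSh.Defo.trivDual k E).π =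
        (Scheme.Modules.restrictFunctor U.ι).map D.π ∧
      ∀ a : ArtFun.Art.dual k k, (Scheme.Modules.restrictFunctor U.ι).map (D.act a) ≫ e.hom =
        e.hom ≫ (Scheme.Modules.restrictFunctor U.ι).map ((DefoSh.Defo.trivDual k E).act a) := by
  obtain ⟨ι, hι⟩ := exists_ι D
  obtain ⟨W, hxW, -, ⟨F⟩⟩ := exists_frame (D := D) hE x (U := ⊤) (Opens.mem_top x)
  have hW : W.ι ''ᵁ ⊤ = W := by
    rw [Scheme.Hom.image_top_eq_opensRange, Scheme.Opens.opensRange_ι]
  have hle : W.ι ''ᵁ ⊤ ≤ W := hW.le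
  obtain ⟨t, ht⟩ : ∃ t : Fin (F.n + F.n) → Γ(D.sheaf, W.ι ''ᵁ ⊤),
      ∀ j, t j = rF D.sheaf hle (F.f ι j) := ⟨_, fun _ => rfl⟩
  obtain ⟨t', ht'⟩ : ∃ t' : Fin (F.n + F.n) → Γ((DefoSh.Defo.trivDual k E).sheaf, W.ι ''ᵁ ⊤),
      ∀ j, t' j = rF (DefoSh.Defo.trivDual k E).sheaf hle ((trivFrame F).f biprod.inr j) :=
    ⟨_, fun _ => rfl⟩
  have hb : ∀ (O : X.Opens) (hO : O ≤ W.ι ''ᵁ ⊤), BasisOn D.sheaf t O hO := by
    intro O hO
    have h := BasisOn.of_rF D.sheaf (F.f ι) hle hO (F.basisOn ι hι O (hO.trans hle))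
    have e1 : t = fun j => rF D.sheaf hle (F.f ι j) := funext ht
    rw [e1]
    exact h
  have hb' : ∀ (O : X.Opens) (hO : O ≤ W.ι ''ᵁ ⊤),
      BasisOn (DefoSh.Defo.trivDual k E).sheaf t' O hO := by
    intro O hO
    have h := BasisOn.of_rF (DefoSh.Defo.trivDual k E).sheaf ((trivFrame F).f biprod.inr) hle hO
      ((trivFrame F).basisOn biprod.inr triv_hι O (hO.trans hle))
    have e1 : t' = fun j => rF (DefoSh.Defo.trivDual k E).sheaf hle
        ((trivFrame F).f biprod.inr j) := funext ht'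
    rw [e1]
    exact h
  haveI := isIso_freeHom_restrict D.sheaf t hb
  haveI := isIso_freeHom_restrict (DefoSh.Defo.trivDual k E).sheaf t' hb'
  obtain ⟨e, he⟩ := exists_iso_of_frames (G := D.sheaf.restrict W.ι)
    (G' := (DefoSh.Defo.trivDual k E).sheaf.restrict W.ι) t t'
  have he' : ∀ j, apR W e.hom (t j) = t' j := he
  -- compatibility with the reductions on frame sections
  have hπ : ∀ j, ap (DefoSh.Defo.trivDual k E).π (W.ι ''ᵁ ⊤) (t' j) =
      ap D.π (W.ι ''ᵁ ⊤) (t j) := by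
    intro j
    rw [ht j, ht' j, ap_rF, ap_rF]
    refine congrArg (rF E hle) ?_
    refine Fin.addCases (fun i => ?_) (fun i => ?_) j
    · exact (π_f_left (trivFrame F) biprod.inr i).trans (π_f_left F ι i).symm
    · exact (π_f_right (trivFrame F) biprod.inr triv_hι i).trans (π_f_right F ι hι i).symm
  have heps : ∀ j, apR W e.hom (ap (eps D) (W.ι ''ᵁ ⊤) (t j)) =
      ap (eps (DefoSh.Defo.trivDual k E)) (W.ι ''ᵁ ⊤) (t' j) := by
    intro j
    rw [ht j, ht' j, ap_rF, ap_rF]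
    refine Fin.addCases (fun i => ?_) (fun i => ?_) j
    · rw [eps_f_left F ι hι i, ← ht]
      refine (he' _).trans ((ht' _).trans ?_)
      exact congrArg (rF (DefoSh.Defo.trivDual k E).sheaf hle)
        (eps_f_left (trivFrame F) biprod.inr triv_hι i).symm
    · rw [eps_f_right F ι hι i, map_zero, map_zero]
      exact ((congrArg (rF (DefoSh.Defo.trivDual k E).sheaf hle)
        (eps_f_right (trivFrame F) biprod.inr triv_hι i)).trans (map_zero _)).symm
  refine ⟨W, e, hxW, ?_, ?_⟩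
  · refine hom_ext_frame (G := D.sheaf.restrict W.ι) t _ _ (fun j => ?_)
    have h1 : ap (DefoSh.Defo.trivDual k E).π (W.ι ''ᵁ ⊤) (apR W e.hom (t j)) =
        ap D.π (W.ι ''ᵁ ⊤) (t j) := by
      rw [he' j]
      exact hπ j
    exact h1
  · intro a
    refine hom_ext_frame (G := D.sheaf.restrict W.ι) t _ _ (fun j => ?_)
    have key : apR W e.hom (ap (D.act a : D.sheaf ⟶ D.sheaf) (W.ι ''ᵁ ⊤) (t j)) =
        ap ((DefoSh.Defo.trivDual k E).act a :
          (DefoSh.Defo.trivDual k E).sheaf ⟶ (DefoSh.Defo.trivDual k E).sheaf) (W.ι ''ᵁ ⊤)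
          (t' j) := by
      rw [act_ap D a, act_ap (DefoSh.Defo.trivDual k E) a, apR_lin, he' j, heps j]
    have h2 : ap ((DefoSh.Defo.trivDual k E).act a :
          (DefoSh.Defo.trivDual k E).sheaf ⟶ (DefoSh.Defo.trivDual k E).sheaf) (W.ι ''ᵁ ⊤)
          (apR W e.hom (t j)) =
        ap ((DefoSh.Defo.trivDual k E).act a :
          (DefoSh.Defo.trivDual k E).sheaf ⟶ (DefoSh.Defo.trivDual k E).sheaf) (W.ι ''ᵁ ⊤)
          (t' j) := congrArg _ (he' j)
    exact key.trans h2.symm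

end Main

end Groth.Agent.Lib.DefoLocTrivH7
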