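import Mathlib
import Groth.Prelude
import Groth.Agent.Lib.DefoHoriz_helper7
import Groth.Agent.Lib.DefoFrame_helper7

/-!
# Deformations of a connection over a first-order deformation form a torsor under `Hom(E, E ⊗ Ω')` (helper7)
-/

set_option autoImplicit false
set_option linter.style.haveILetI false

universe u

open CategoryTheory CategoryTheory.Limits AlgebraicGeometry TopologicalSpace Opposite

namespace Groth.Agent.Lib.DefoTorsH7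

open Groth.Agent.Lib.DefoSESH7 Groth.Agent.Lib.DefoConnTrivH7 Groth.Agent.Lib.DefoHorizH7
  Groth.Agent.Lib.DefoFrameH7

section Abstract

variable {𝒜 ℬ : Type*} [Category 𝒜] [Category ℬ] [Preadditive 𝒜] [Preadditive ℬ] (T : 𝒜 ⥤ ℬ)
  [T.Additive] {Dd E DΩ EΩ : 𝒜}

theorem abs_add_horiz (c₀ : T.obj Dd ⟶ T.obj DΩ) (m : Dd ⟶ DΩ) (g : Dd ⟶ Dd) (gΩ : DΩ ⟶ DΩ)
    (h0 : T.map g ≫ c₀ = c₀ ≫ T.map gΩ) (hm : g ≫ m = m ≫ gΩ) :
    T.map g ≫ (c₀ + T.map m) = (c₀ + T.map m) ≫ T.map gΩ := by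
  rw [Preadditive.comp_add, Preadditive.add_comp, h0, ← T.map_comp, ← T.map_comp, hm]

theorem abs_add_horiz_π (c₀ : T.obj Dd ⟶ T.obj DΩ) (nab : T.obj E ⟶ T.obj EΩ) (m : Dd ⟶ DΩ)
    (π : Dd ⟶ E) (πΩ : DΩ ⟶ EΩ) (h0 : T.map π ≫ nab = c₀ ≫ T.map πΩ) (hm : m ≫ πΩ = 0) :
    T.map π ≫ nab = (c₀ + T.map m) ≫ T.map πΩ := by
  rw [Preadditive.add_comp, ← T.map_comp, hm, T.map_zero, add_zero, h0]

theorem abs_sub_horiz [T.Faithful] (c c₀ : T.obj Dd ⟶ T.obj DΩ) (Θ : Dd ⟶ DΩ)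
    (hΘ : T.map Θ = c - c₀) (g : Dd ⟶ Dd) (gΩ : DΩ ⟶ DΩ)
    (h : T.map g ≫ c = c ≫ T.map gΩ) (h₀ : T.map g ≫ c₀ = c₀ ≫ T.map gΩ) :
    g ≫ Θ = Θ ≫ gΩ := by
  apply T.map_injective
  rw [T.map_comp, T.map_comp, hΘ, Preadditive.comp_sub, Preadditive.sub_comp, h, h₀]

theorem abs_sub_π [T.Faithful] (c c₀ : T.obj Dd ⟶ T.obj DΩ) (Θ : Dd ⟶ DΩ)
    (hΘ : T.map Θ = c - c₀) (π : Dd ⟶ E) (πΩ : DΩ ⟶ EΩ) (nab : T.obj E ⟶ T.obj EΩ)
    (h : T.map π ≫ nab = c ≫ T.map πΩ) (h₀ : T.map π ≫ nab = c₀ ≫ T.map πΩ) :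
    Θ ≫ πΩ = 0 := by
  apply T.map_injective
  rw [T.map_comp, T.map_zero, hΘ, Preadditive.sub_comp, ← h, ← h₀, sub_self]

end Abstract

section General

variable {X S : Scheme.{u}} {f : X ⟶ S} {Ω' : X.Modules} {M N : X.Modules}

theorem secApp_add (a b : Coh.toAb M ⟶ Coh.toAb N) (U : X.Opens) (x : M.val.obj (op U)) :
    ConnSh.secApp (a + b) U x = ConnSh.secApp a U x + ConnSh.secApp b U x := rfl

theorem secApp_sub (a b : Coh.toAb M ⟶ Coh.toAb N) (U : X.Opens) (x : M.val.obj (op U)) :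
    ConnSh.secApp (a - b) U x = ConnSh.secApp a U x - ConnSh.secApp b U x := rfl

theorem secApp_map (φ : M ⟶ N) (U : X.Opens) (x : M.val.obj (op U)) :
    ConnSh.secApp ((SheafOfModules.toSheaf X.ringCatSheaf).map φ) U x = φ.app U x := rfl

/-- An additive map of the underlying abelian sheaves which is linear on sections is a morphism of
modules. -/
theorem exists_hom_of_linear (ψ : Coh.toAb M ⟶ Coh.toAb N)
    (hψ : ∀ (U : X.Opens) (t : Γ(X, U)) (m : M.val.obj (op U)),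
      ConnSh.secApp ψ U (t • m) = t • ConnSh.secApp ψ U m) :
    ∃ Θ : M ⟶ N, (SheafOfModules.toSheaf X.ringCatSheaf).map Θ = ψ := by
  refine ⟨⟨PresheafOfModules.homMk ψ.hom (fun U s m => hψ U.unop s m)⟩, ?_⟩
  apply Sheaf.hom_ext
  rfl

variable {δ : OmegaSh.Der f Ω'}

theorem linear_sub {c c₀ : Coh.toAb M ⟶ Coh.toAb (CohB1.tensorMod M Ω')}
    (h : ConnSh.IsConn δ M c) (h₀ : ConnSh.IsConn δ M c₀) (U : X.Opens) (t : Γ(X, U))
    (m : M.val.obj (op U)) :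
    ConnSh.secApp (c - c₀) U (t • m) = t • ConnSh.secApp (c - c₀) U m := by
  rw [secApp_sub, secApp_sub, h U t m, h₀ U t m, smul_sub, add_sub_add_right_eq_sub]

theorem isConn_add {c₀ : Coh.toAb M ⟶ Coh.toAb (CohB1.tensorMod M Ω')}
    (h₀ : ConnSh.IsConn δ M c₀) (m : M ⟶ CohB1.tensorMod M Ω') :
    ConnSh.IsConn δ M (c₀ + (SheafOfModules.toSheaf X.ringCatSheaf).map m) := by
  intro U t x
  have h1 : m.app U (t • x) = t • m.app U x := Scheme.Modules.Hom.app_smul m t x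
  rw [secApp_add, secApp_add, secApp_map, secApp_map, h₀ U t x, smul_add]
  refine (add_right_comm _ _ _).trans ?_
  congr 1
  congr 1

end General

section Main

variable {k : Type u} [Field k] {X : Scheme.{u}} [X.Over (Spec (CommRingCat.of k))]
  {Ω' : X.Modules} {δ : OmegaSh.Der (X ↘ Spec (CommRingCat.of k)) Ω'} {E : X.Modules}
  {nabla : Coh.toAb E ⟶ Coh.toAb (CohB1.tensorMod E Ω')}
  {D : DefoSh.Defo E (ArtFun.Art.dual k k)}

theorem defoConn_ext {c c' : DefoSh.DefoConn δ nabla D} (h : c.conn = c'.conn) : c = c' := by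
  obtain ⟨a, b1, b2, b3⟩ := c
  obtain ⟨a', b1', b2', b3'⟩ := c'
  have h' : a = a' := h
  subst h'
  rfl

theorem act_comp_π (a : DualNumber k) :
    (D.act a : D.sheaf ⟶ D.sheaf) ≫ D.π = a.fst • D.π := by
  rw [act_eq D a, Preadditive.add_comp, Linear.smul_comp, Linear.smul_comp, Category.id_comp,
    eps_π, smul_zero, add_zero]

variable (ι : E ⟶ D.sheaf) (hι : D.π ≫ ι = eps D) (c₀ : DefoSh.DefoConn δ nabla D)

include hι

theorem ι_comp_act (a : DualNumber k) :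
    ι ≫ (D.act a : D.sheaf ⟶ D.sheaf) = a.fst • ι := by
  rw [act_eq D a, Preadditive.comp_add, Linear.comp_smul, Linear.comp_smul, Category.comp_id,
    ι_eps ι hι, smul_zero, add_zero]

theorem act_comm_m (φ : E ⟶ CohB1.tensorMod E Ω') (a : DualNumber k) :
    (D.act a : D.sheaf ⟶ D.sheaf) ≫ (D.π ≫ φ ≫ KoszTw.tensorMap ι (𝟙 Ω')) =
      (D.π ≫ φ ≫ KoszTw.tensorMap ι (𝟙 Ω')) ≫
        KoszTw.tensorMap (D.act a : D.sheaf ⟶ D.sheaf) (𝟙 Ω') := by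
  calc (D.act a : D.sheaf ⟶ D.sheaf) ≫ (D.π ≫ φ ≫ KoszTw.tensorMap ι (𝟙 Ω'))
      = ((D.act a : D.sheaf ⟶ D.sheaf) ≫ D.π) ≫ φ ≫ KoszTw.tensorMap ι (𝟙 Ω') :=
        (Category.assoc _ _ _).symm
    _ = a.fst • (D.π ≫ φ ≫ KoszTw.tensorMap ι (𝟙 Ω')) := by
        rw [act_comp_π, Linear.smul_comp]
    _ = D.π ≫ φ ≫ KoszTw.tensorMap (ι ≫ (D.act a : D.sheaf ⟶ D.sheaf)) (𝟙 Ω') := by
        rw [ι_comp_act ι hι, tm_smul, Linear.comp_smul, Linear.comp_smul]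
    _ = (D.π ≫ φ ≫ KoszTw.tensorMap ι (𝟙 Ω')) ≫
          KoszTw.tensorMap (D.act a : D.sheaf ⟶ D.sheaf) (𝟙 Ω') := by
        rw [← tm_comp, Category.assoc, Category.assoc]

theorem m_comp_πΩ (φ : E ⟶ CohB1.tensorMod E Ω') :
    (D.π ≫ φ ≫ KoszTw.tensorMap ι (𝟙 Ω')) ≫ KoszTw.tensorMap D.π (𝟙 Ω') = 0 := by
  rw [Category.assoc, Category.assoc, ιΩ_πΩ ι hι Ω', comp_zero, comp_zero]

/-- The deformation of `∇` over `D` attached to `φ : E ⟶ E ⊗ Ω'`. -/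
noncomputable def mkConn (φ : E ⟶ CohB1.tensorMod E Ω') : DefoSh.DefoConn δ nabla D where
  conn := c₀.conn + (SheafOfModules.toSheaf X.ringCatSheaf).map
    (D.π ≫ φ ≫ KoszTw.tensorMap ι (𝟙 Ω'))
  isConn := isConn_add c₀.isConn _
  act_horizontal a := (isHorizontal_iff' _ _ _).2
    (abs_add_horiz (TM X) c₀.conn (D.π ≫ φ ≫ KoszTw.tensorMap ι (𝟙 Ω'))
      (D.act a : D.sheaf ⟶ D.sheaf) (KoszTw.tensorMap (D.act a : D.sheaf ⟶ D.sheaf) (𝟙 Ω'))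
      ((isHorizontal_iff' _ _ _).1 (c₀.act_horizontal a)) (act_comm_m ι hι φ a))
  π_horizontal := (isHorizontal_iff' _ _ _).2
    (abs_add_horiz_π (TM X) c₀.conn nabla (D.π ≫ φ ≫ KoszTw.tensorMap ι (𝟙 Ω')) D.π
      (KoszTw.tensorMap D.π (𝟙 Ω')) (hπc c₀) (m_comp_πΩ ι hι φ))

theorem mkConn_conn (φ : E ⟶ CohB1.tensorMod E Ω') :
    (mkConn ι hι c₀ φ).conn = c₀.conn + (SheafOfModules.toSheaf X.ringCatSheaf).map
      (D.π ≫ φ ≫ KoszTw.tensorMap ι (𝟙 Ω')) := rfl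

theorem mkConn_injective (hE : FlatMod.IsFinLocFree E) :
    Function.Injective (mkConn ι hι c₀) := by
  intro φ φ' h
  have h1 : c₀.conn + (SheafOfModules.toSheaf X.ringCatSheaf).map
        (D.π ≫ φ ≫ KoszTw.tensorMap ι (𝟙 Ω')) =
      c₀.conn + (SheafOfModules.toSheaf X.ringCatSheaf).map
        (D.π ≫ φ' ≫ KoszTw.tensorMap ι (𝟙 Ω')) :=
    congrArg DefoSh.DefoConn.conn h
  have h2 := add_left_cancel h1
  have h3 : D.π ≫ φ ≫ KoszTw.tensorMap ι (𝟙 Ω') = D.π ≫ φ' ≫ KoszTw.tensorMap ι (𝟙 Ω') :=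
    (TM X).map_injective h2
  haveI := epi_π D
  haveI := mono_ιΩ ι hι Ω' hE
  rw [cancel_epi] at h3
  exact (cancel_mono _).1 h3

theorem mkConn_surjective (hE : FlatMod.IsFinLocFree E) :
    Function.Surjective (mkConn ι hι c₀) := by
  intro c
  obtain ⟨Θ, hΘ⟩ := exists_hom_of_linear (c.conn - c₀.conn) (linear_sub c.isConn c₀.isConn)
  have hi : eps D ≫ Θ = Θ ≫ KoszTw.tensorMap (eps D) (𝟙 Ω') :=
    abs_sub_horiz (TM X) c.conn c₀.conn Θ hΘ (eps D) (KoszTw.tensorMap (eps D) (𝟙 Ω'))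
      (hεc c) (hεc c₀)
  have hii : Θ ≫ KoszTw.tensorMap D.π (𝟙 Ω') = 0 :=
    abs_sub_π (TM X) c.conn c₀.conn Θ hΘ D.π (KoszTw.tensorMap D.π (𝟙 Ω')) nabla (hπc c) (hπc c₀)
  have hεΩ : KoszTw.tensorMap (eps D) (𝟙 Ω') =
      KoszTw.tensorMap D.π (𝟙 Ω') ≫ KoszTw.tensorMap ι (𝟙 Ω') := by
    rw [tm_comp, hι]
  have h1 : eps D ≫ Θ = 0 := by
    rw [hi, hεΩ, ← Category.assoc, hii, zero_comp]
  have h2 : ι ≫ Θ = 0 := by
    haveI := epi_π D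
    rw [← cancel_epi D.π, ← Category.assoc, hι, h1, comp_zero]
  obtain ⟨Θ', hΘ'⟩ := exists_desc ι hι Θ h2
  have h3 : Θ' ≫ KoszTw.tensorMap D.π (𝟙 Ω') = 0 := by
    haveI := epi_π D
    rw [← cancel_epi D.π, ← Category.assoc, hΘ', hii, comp_zero]
  obtain ⟨φ, hφ⟩ := exists_liftΩ ι hι Ω' hE Θ' h3
  refine ⟨φ, defoConn_ext ?_⟩
  have hm : D.π ≫ φ ≫ KoszTw.tensorMap ι (𝟙 Ω') = Θ := by rw [hφ, hΘ']
  have h4 : (mkConn ι hι c₀ φ).conn =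
      c₀.conn + (SheafOfModules.toSheaf X.ringCatSheaf).map Θ :=
    congrArg (fun m : D.sheaf ⟶ CohB1.tensorMod D.sheaf Ω' =>
      c₀.conn + (SheafOfModules.toSheaf X.ringCatSheaf).map m) hm
  rw [h4, hΘ, add_sub_cancel]

theorem main17436 (hE : FlatMod.IsFinLocFree E) :
    ∃ Φ : DefoSh.DefoConn δ nabla D ≃ (E ⟶ CohB1.tensorMod E Ω'),
      ∀ c : DefoSh.DefoConn δ nabla D,
        c.conn - c₀.conn = (SheafOfModules.toSheaf X.ringCatSheaf).map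
          (D.π ≫ Φ c ≫ KoszTw.tensorMap ι (𝟙 Ω')) := by
  let Ψ := Equiv.ofBijective (mkConn ι hι c₀)
    ⟨mkConn_injective ι hι c₀ hE, mkConn_surjective ι hι c₀ hE⟩
  refine ⟨Ψ.symm, fun c => ?_⟩
  have h : mkConn ι hι c₀ (Ψ.symm c) = c := Ψ.apply_symm_apply c
  have h' : c₀.conn + (SheafOfModules.toSheaf X.ringCatSheaf).map
      (D.π ≫ Ψ.symm c ≫ KoszTw.tensorMap ι (𝟙 Ω')) = c.conn :=
    congrArg DefoSh.DefoConn.conn h
  rw [← h', add_sub_cancel_left]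

end Main

end Groth.Agent.Lib.DefoTorsH7
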