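import Mathlib
import Groth.Prelude
import Groth.Agent.Lib.EulerFibBC_helper2
import Groth.Agent.Lib.WellInt4_helper8
import Groth.Agent.Lib.BirCurve4_helper9
import Groth.Agent.Lib.H0Lift4_helper2
import Groth.Agent.Lib.FieldDesc2_helper9
import Groth.Agent.S1026

/-!
# The degree of an invertible module on the fibres of a relative curve (helper2)

`chi1 f F s = h^0(X_s, F_s) - h^1(X_s, F_s)`; invariance under base change and isomorphisms, local
constancy for families with fibres of dimension `≤ 1`; the degree function on a scheme representing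
the fppf Picard sheaf.
APPEND-ONLY once landed.
-/

set_option autoImplicit false
set_option backward.isDefEq.respectTransparency false
set_option backward.isDefEq.respectTransparency.types false
set_option linter.style.haveILetI false
set_option linter.unusedSectionVars false
universe u

open CategoryTheory CategoryTheory.Limits AlgebraicGeometry TopologicalSpace Opposite

namespace Groth.Agent.Lib.CBCH2

section BettiPB

variable {X Y X' Y' : Scheme.{u}} {f : X ⟶ Y} {g : Y' ⟶ Y} {g' : X' ⟶ X} {f' : X' ⟶ Y'}

set_option maxHeartbeats 1600000 in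
/-- the dimensions of the cohomology groups of the fibres are invariant under base change, for an
arbitrary cartesian square -/
theorem betti_of_isPullback (h : IsPullback g' f' f g) [QuasiCompact f] [QuasiSeparated f]
    (F : X.Modules) [F.IsQuasicoherent] (y' : Y') (i : ℕ) :
    PerfAux.betti f' ((Scheme.Modules.pullback g').obj F) y' i =
      PerfAux.betti f F (g y') i := by
  have hpb := isPullback_fiberToSpecResidueField_of_isPullback h y'
  letI : Algebra (Y.residueField (g y')) (Y'.residueField y') :=
    (g.residueFieldMap y').hom.toAlgebra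
  letI o1 : (f.fiber (g y')).Over (Spec (CommRingCat.of (Y.residueField (g y')))) :=
    ⟨f.fiberToSpecResidueField (g y')⟩
  letI o2 : (f'.fiber y').Over (Spec (CommRingCat.of (Y'.residueField y'))) :=
    ⟨f'.fiberToSpecResidueField y'⟩
  have hX : IsPullback (f.fiberι (g y')) (f.fiberToSpecResidueField (g y')) f
      (Y.fromSpecResidueField (g y')) := IsPullback.of_hasPullback f (Y.fromSpecResidueField (g y'))
  haveI : QuasiSeparated (f.fiberToSpecResidueField (g y')) :=
    MorphismProperty.of_isPullback (P := @QuasiSeparated) hX inferInstance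
  haveI : QuasiCompact (f.fiberToSpecResidueField (g y')) :=
    MorphismProperty.of_isPullback (P := @QuasiCompact) hX inferInstance
  haveI : CompactSpace (f.fiber (g y')) :=
    QuasiCompact.compactSpace_of_compactSpace (f.fiberToSpecResidueField (g y'))
  haveI : QuasiSeparatedSpace (f.fiber (g y')) :=
    quasiSeparatedSpace_of_quasiSeparated (f.fiberToSpecResidueField (g y'))
  obtain ⟨g₀, hg₀⟩ : ∃ g₀ : f'.fiber y' ⟶ f.fiber (g y'),
      g₀ = pullback.map _ _ _ _ g' (Spec.map (g.residueFieldMap y')) g
        h.w.symm (by simp) := ⟨_, rfl⟩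
  rw [← hg₀] at hpb
  have hcomm : g₀ ≫ f.fiberι (g y') = f'.fiberι y' ≫ g' := by
    rw [hg₀]
    exact pullback.lift_fst _ _ _
  haveI : Coh.IsQCoh ((Scheme.Modules.pullback (f.fiberι (g y'))).obj F) :=
    PBH8.isQuasicoherent_pullback _ F
  have h1 := Groth.Agent.EulerBC.finrank_HH_pullback (k := Y.residueField (g y'))
    (k' := Y'.residueField y') g₀ hpb ((Scheme.Modules.pullback (f.fiberι (g y'))).obj F) i
  let θ : (Scheme.Modules.pullback g₀).obj ((Scheme.Modules.pullback (f.fiberι (g y'))).obj F) ≅
      (Scheme.Modules.pullback (f'.fiberι y')).obj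
        ((Scheme.Modules.pullback g').obj F) :=
    (Scheme.Modules.pullbackComp g₀ (f.fiberι (g y'))).app F ≪≫
      (Scheme.Modules.pullbackCongr hcomm).app F ≪≫
      ((Scheme.Modules.pullbackComp (f'.fiberι y') g').app F).symm
  have h2 := (Groth.Agent.Lib.StalkFFH2.HHlinEquiv (Y'.residueField y') θ i).finrank_eq
  exact h2.symm.trans h1

end BettiPB

section Chi1

variable {X S : Scheme.{u}} (f : X ⟶ S)

/-- `h^0 - h^1` of the restriction of `F` to the fibre at `s` -/
noncomputable def chi1 (F : X.Modules) (s : S) : ℤ :=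
  (PerfAux.betti f F s 0 : ℤ) - (PerfAux.betti f F s 1 : ℤ)

theorem chi1_of_isPullback {X' S' : Scheme.{u}} {g : S' ⟶ S} {g' : X' ⟶ X} {f' : X' ⟶ S'}
    (h : IsPullback g' f' f g) [QuasiCompact f] [QuasiSeparated f]
    (F : X.Modules) [F.IsQuasicoherent] (s' : S') :
    chi1 f' ((Scheme.Modules.pullback g').obj F) s' = chi1 f F (g s') := by
  unfold chi1
  rw [betti_of_isPullback h F s' 0, betti_of_isPullback h F s' 1]

theorem betti_of_iso {F F' : X.Modules} (e : F ≅ F') (s : S) (i : ℕ) :
    PerfAux.betti f F s i = PerfAux.betti f F' s i := by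
  letI : (f.fiber s).Over (Spec (CommRingCat.of (S.residueField s))) :=
    ⟨f.fiberToSpecResidueField s⟩
  exact (Groth.Agent.Lib.StalkFFH2.HHlinEquiv (S.residueField s)
    ((Scheme.Modules.pullback (f.fiberι s)).mapIso e) i).finrank_eq

theorem chi1_of_iso {F F' : X.Modules} (e : F ≅ F') (s : S) : chi1 f F s = chi1 f F' s := by
  unfold chi1
  rw [betti_of_iso f e s 0, betti_of_iso f e s 1]

/-- on fibres of dimension `≤ 1` the Euler characteristic is `h^0 - h^1` -/
theorem eulerChar_eq_chi1 [IsProper f] (F : X.Modules) [F.IsQuasicoherent] (s : S)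
    (hdim : topologicalKrullDim ↥(f.fiber s) ≤ 1) :
    PerfAux.eulerChar f F s = chi1 f F s := by
  letI : (f.fiber s).Over (Spec (CommRingCat.of (S.residueField s))) :=
    ⟨f.fiberToSpecResidueField s⟩
  haveI hpr : IsProper ((f.fiber s) ↘ Spec (CommRingCat.of (S.residueField s))) := by
    show IsProper (pullback.snd f (S.fromSpecResidueField s))
    infer_instance
  haveI : ((Scheme.Modules.pullback (f.fiberι s)).obj F).IsQuasicoherent :=
    PBH8.isQuasicoherent_pullback _ F
  have hvan : ∀ n : ℕ, PerfAux.betti f F s (n + 2) = 0 := by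
    intro n
    haveI := BirCurve.HH_subsingleton_of_dim_le_one (S.residueField s) (f.fiber s) hdim
      ((Scheme.Modules.pullback (f.fiberι s)).obj F) n
    exact Module.finrank_zero_of_subsingleton
  unfold PerfAux.eulerChar chi1
  have hsupp : Function.support (fun i : ℕ => (-1 : ℤ) ^ i * (PerfAux.betti f F s i : ℤ)) ⊆
      ((Finset.range 2 : Finset ℕ) : Set ℕ) := by
    intro i hi
    by_contra hlt
    have h2 : 2 ≤ i := by
      simp only [Finset.coe_range, Set.mem_Iio, not_lt] at hlt
      exact hlt
    obtain ⟨n, rfl⟩ : ∃ n, i = n + 2 := ⟨i - 2, by omega⟩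
    apply hi
    show (-1 : ℤ) ^ (n + 2) * (PerfAux.betti f F s (n + 2) : ℤ) = 0
    rw [hvan n]
    simp
  rw [finsum_eq_sum_of_support_subset _ hsupp, Finset.sum_range_succ, Finset.sum_range_one]
  simp
  ring

/-- `h^0 - h^1` is locally constant in flat families with fibres of dimension `≤ 1` -/
theorem isLocallyConstant_chi1 [IsProper f] [LocallyOfFinitePresentation f]
    (hdim : ∀ s : S, topologicalKrullDim ↥(f.fiber s) ≤ 1)
    (F : X.Modules) [F.IsQuasicoherent] (hF : CohB1.IsFP F) (hfl : FlatMod.IsFlatOver f F) :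
    IsLocallyConstant (fun s : S => chi1 f F s) := by
  have h := Groth.Agent.S1026.result f F hF hfl
  have he : (fun s : S => chi1 f F s) = fun s : S => PerfAux.eulerChar f F s :=
    funext fun s => (eulerChar_eq_chi1 f F s (hdim s)).symm
  rw [he]
  exact h

end Chi1

section RelDeg

variable {C S : Scheme.{u}} (f : C ⟶ S)

theorem XTmap_fst {A B : Over S} (k : A ⟶ B) :
    PicF.XTmap f k ≫ pullback.fst f B.hom = pullback.fst f A.hom := by
  unfold PicF.XTmap
  exact (pullback.lift_fst _ _ _).trans (Category.comp_id _)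

theorem XTmap_snd {A B : Over S} (k : A ⟶ B) :
    PicF.XTmap f k ≫ pullback.snd f B.hom = pullback.snd f A.hom ≫ k.left := by
  unfold PicF.XTmap
  exact pullback.lift_snd _ _ _

/-- the base change square of `X_T ⟶ T` -/
theorem isPullback_XTmap {A B : Over S} (k : A ⟶ B) :
    IsPullback (PicF.XTmap f k) (PicF.XTproj f A) (PicF.XTproj f B) k.left := by
  have hbot : IsPullback (pullback.snd f B.hom) (pullback.fst f B.hom) B.hom f :=
    (IsPullback.of_hasPullback f B.hom).flip
  have hbig : IsPullback (pullback.snd f A.hom) (PicF.XTmap f k ≫ pullback.fst f B.hom)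
      (k.left ≫ B.hom) f := by
    rw [XTmap_fst, Over.w k]
    exact (IsPullback.of_hasPullback f A.hom).flip
  exact (IsPullback.of_bot hbig (XTmap_snd f k).symm hbot).flip

/-- the degree of `L` on the fibre of `X_T ⟶ T` at `t` -/
noncomputable def relDeg (T : Over S) (L : (PicF.XT f T).Modules) (t : T.left) : ℤ :=
  chi1 (PicF.XTproj f T) L t - chi1 (PicF.XTproj f T) (Coh.structureModule (PicF.XT f T)) t

theorem relDeg_of_iso (T : Over S) {L L' : (PicF.XT f T).Modules} (e : L ≅ L') (t : T.left) :
    relDeg f T L t = relDeg f T L' t := by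
  unfold relDeg
  rw [chi1_of_iso _ e t]

theorem relDeg_XTmap [QuasiCompact f] [QuasiSeparated f] {A B : Over S} (k : A ⟶ B)
    (L : (PicF.XT f B).Modules) [L.IsQuasicoherent] (a : A.left) :
    relDeg f A ((Scheme.Modules.pullback (PicF.XTmap f k)).obj L) a =
      relDeg f B L (k.left a) := by
  haveI : QuasiCompact (PicF.XTproj f B) := by
    show QuasiCompact (pullback.snd f B.hom)
    infer_instance
  haveI : QuasiSeparated (PicF.XTproj f B) := by
    show QuasiSeparated (pullback.snd f B.hom)
    infer_instance
  haveI : (Coh.structureModule (PicF.XT f B)).IsQuasicoherent := SerreCrit.isQuasicoherent_OO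
  unfold relDeg
  rw [chi1_of_isPullback _ (isPullback_XTmap f k) L a,
    ← chi1_of_isPullback _ (isPullback_XTmap f k) (Coh.structureModule (PicF.XT f B)) a,
    chi1_of_iso _ (PBH8.pullbackUnitIso (PicF.XTmap f k)) a]

theorem isLocallyConstant_relDeg [IsProper f] [Flat f] [LocallyOfFinitePresentation f]
    (hdim : ∀ s : S, topologicalKrullDim ↥(f.fiber s) = 1)
    (T : Over S) (L : (PicF.XT f T).Modules) (hL : PicF.IsInvertible L) :
    IsLocallyConstant (fun t : T.left => relDeg f T L t) := by
  haveI : IsProper (PicF.XTproj f T) := by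
    show IsProper (pullback.snd f T.hom)
    infer_instance
  haveI : Flat (PicF.XTproj f T) := by
    show Flat (pullback.snd f T.hom)
    infer_instance
  haveI : LocallyOfFinitePresentation (PicF.XTproj f T) := by
    show LocallyOfFinitePresentation (pullback.snd f T.hom)
    infer_instance
  have hdimT : ∀ t : T.left, topologicalKrullDim ↥((PicF.XTproj f T).fiber t) ≤ 1 := fun t => by
    have h1 := Groth.Agent.Lib.WellIntH8.topDim_fiber_of_isPullback
      (IsPullback.of_hasPullback f T.hom) t
    have h2 : topologicalKrullDim ↥((PicF.XTproj f T).fiber t) =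
        topologicalKrullDim ↥(f.fiber (T.hom t)) := h1
    rw [h2, hdim]
  have key : ∀ (N : (PicF.XT f T).Modules), PicF.IsInvertible N →
      IsLocallyConstant (fun t : T.left => chi1 (PicF.XTproj f T) N t) := by
    intro N hN
    have hNc := Groth.Agent.Lib.H0LiftH2.isCoh_of_isInvertible hN
    haveI : N.IsQuasicoherent := hNc.1
    have hF : FlatMod.IsFinLocFree N :=
      FLFH8.IsFinLocFreeOfRank.isFinLocFree N (FLFH8.finLocFreeOfRank_one_of_isInvertible hN)
    have hfp : CohB1.IsFP N := FLFH8.isFinitePresentation_of_finLocFree N hF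
    have hfl : FlatMod.IsFlatOver (PicF.XTproj f T) N :=
      Groth.Agent.Lib.H0LiftH2.isFlatOver_of_isInvertible (PicF.XTproj f T) hN
    exact isLocallyConstant_chi1 (PicF.XTproj f T) hdimT N hfp hfl
  have h1 := key L hL
  have h2 := key (Coh.structureModule (PicF.XT f T)) TensH8.isInvertible_structureModule
  unfold relDeg
  exact h1.sub h2

/-- the degree in the form used in the statements -/
theorem eulerCharLE_sub_eq_relDeg (T : Over S) (L : (PicF.XT f T).Modules) (t : T.left) :
    FGA.eulerCharLE (T.left.residueField t) (FGA.fibreAt f T t).left (FGA.restrFibre f T t L) 1 -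
        FGA.eulerCharLE (T.left.residueField t) (FGA.fibreAt f T t).left
          (Coh.structureModule (FGA.fibreAt f T t).left) 1 =
      relDeg f T L t := by
  have key : ∀ N : (PicF.XT f T).Modules,
      FGA.eulerCharLE (T.left.residueField t) (FGA.fibreAt f T t).left
        (FGA.restrFibre f T t N) 1 = chi1 (PicF.XTproj f T) N t := by
    intro N
    unfold FGA.eulerCharLE chi1 PerfAux.betti
    rw [Finset.sum_range_succ, Finset.sum_range_one]
    simp only [pow_zero, one_mul, pow_one, neg_mul]
    rfl
  unfold relDeg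
  rw [key L, ← key (Coh.structureModule (PicF.XT f T))]
  congr 1
  letI : ((PicF.XTproj f T).fiber t).Over (Spec (CommRingCat.of (T.left.residueField t))) :=
    ⟨(PicF.XTproj f T).fiberToSpecResidueField t⟩
  unfold FGA.eulerCharLE
  refine Finset.sum_congr rfl (fun i _ => ?_)
  congr 2
  exact ((Groth.Agent.Lib.StalkFFH2.HHlinEquiv (T.left.residueField t)
    (PBH8.pullbackUnitIso ((PicF.XTproj f T).fiberι t)) i).finrank_eq).symm

end RelDeg

end Groth.Agent.Lib.CBCH2
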