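import Mathlib
import Groth.Prelude
import Groth.Agent.Lib.DegFib_helper2

/-!
# The degree function on a scheme representing the fppf Picard sheaf of a relative curve (helper2)
APPEND-ONLY once landed.
-/

set_option autoImplicit false
set_option backward.isDefEq.respectTransparency false
set_option backward.isDefEq.respectTransparency.types false
set_option linter.style.haveILetI false
set_option linter.unusedSectionVars false
universe u

open CategoryTheory CategoryTheory.Limits AlgebraicGeometry TopologicalSpace Opposite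

namespace Groth.Agent.Lib.CBCH2

section DegPic

variable {C S : Scheme.{u}} (f : C ⟶ S) (P : Over S)
  (φ : ∀ T : Over S, PicF.Cl (PicF.XT f T) → (T ⟶ P))

theorem jointlySurjective_fppf : Scheme.JointlySurjective Scheme.fppfPrecoverage := by
  unfold Scheme.fppfPrecoverage
  infer_instance

set_option maxHeartbeats 1600000 in
/-- two invertible modules with the same image in `P` at two points have the same degree there -/
theorem relDeg_eq_of_phi_eq [QuasiCompact f] [QuasiSeparated f]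
    (hP : AbDual.IsRelPicK Scheme.fppfPrecoverage f P φ)
    (T₁ T₂ : Over S) (L₁ : (PicF.XT f T₁).Modules) (hL₁ : PicF.IsInvertible L₁)
    (L₂ : (PicF.XT f T₂).Modules) (hL₂ : PicF.IsInvertible L₂) (t₁ : T₁.left) (t₂ : T₂.left)
    (h : (φ T₁ (PicF.cl L₁)).left t₁ = (φ T₂ (PicF.cl L₂)).left t₂) :
    relDeg f T₁ L₁ t₁ = relDeg f T₂ L₂ t₂ := by
  obtain ⟨w, hw1, hw2⟩ := Scheme.Pullback.exists_preimage_pullback
    (f := (φ T₁ (PicF.cl L₁)).left) (g := (φ T₂ (PicF.cl L₂)).left) t₁ t₂ h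
  have hcond := pullback.condition (f := (φ T₁ (PicF.cl L₁)).left)
    (g := (φ T₂ (PicF.cl L₂)).left)
  have hw₁ : (φ T₁ (PicF.cl L₁)).left ≫ P.hom = T₁.hom := Over.w _
  have hw₂ : (φ T₂ (PicF.cl L₂)).left ≫ P.hom = T₂.hom := Over.w _
  let W : Over S := Over.mk (pullback.fst (φ T₁ (PicF.cl L₁)).left (φ T₂ (PicF.cl L₂)).left ≫
    T₁.hom)
  let p₁ : W ⟶ T₁ := Over.homMk (pullback.fst _ _) rfl
  let p₂ : W ⟶ T₂ := Over.homMk (pullback.snd _ _) (by
    show pullback.snd _ _ ≫ T₂.hom = pullback.fst _ _ ≫ T₁.hom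
    rw [← hw₂, ← hw₁, ← Category.assoc, ← Category.assoc, hcond])
  have hinv₁ : PicF.IsInvertibleCl (PicF.cl L₁) := ⟨L₁, rfl, hL₁⟩
  have hinv₂ : PicF.IsInvertibleCl (PicF.cl L₂) := ⟨L₂, rfl, hL₂⟩
  have n1 := hP.natural T₁ W p₁ (PicF.cl L₁) hinv₁
  have n2 := hP.natural T₂ W p₂ (PicF.cl L₂) hinv₂
  have hM₁ : PicF.IsInvertible ((Scheme.Modules.pullback (PicF.XTmap f p₁)).obj L₁) :=
    TensH8.isInvertible_pullback _ hL₁
  have hM₂ : PicF.IsInvertible ((Scheme.Modules.pullback (PicF.XTmap f p₂)).obj L₂) :=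
    TensH8.isInvertible_pullback _ hL₂
  have heq : φ W (PicF.pullCl (PicF.XTmap f p₁) (PicF.cl L₁)) =
      φ W (PicF.pullCl (PicF.XTmap f p₂) (PicF.cl L₂)) := by
    rw [n1, n2]
    apply Over.OverMorphism.ext
    show pullback.fst _ _ ≫ (φ T₁ (PicF.cl L₁)).left =
      pullback.snd _ _ ≫ (φ T₂ (PicF.cl L₂)).left
    exact hcond
  obtain ⟨R, hR, hloc⟩ := hP.locallyInjective W _ _ ⟨_, rfl, hM₁⟩ ⟨_, rfl, hM₂⟩ heq
  obtain ⟨V, v, hv, z, hz⟩ := (jointlySurjective_fppf).exists_eq R hR w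
  have hcl := hloc v hv
  have hcl' : PicF.cl ((Scheme.Modules.pullback (PicF.XTmap f (AbDual.ovrHom W v))).obj
        ((Scheme.Modules.pullback (PicF.XTmap f p₁)).obj L₁)) =
      PicF.cl ((Scheme.Modules.pullback (PicF.XTmap f (AbDual.ovrHom W v))).obj
        ((Scheme.Modules.pullback (PicF.XTmap f p₂)).obj L₂)) := hcl
  obtain ⟨e0⟩ := Groth.Agent.FieldDesc.iso_of_cl_eq hcl'
  haveI : L₁.IsQuasicoherent := (Groth.Agent.Lib.H0LiftH2.isCoh_of_isInvertible hL₁).1
  haveI : L₂.IsQuasicoherent := (Groth.Agent.Lib.H0LiftH2.isCoh_of_isInvertible hL₂).1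
  haveI : ((Scheme.Modules.pullback (PicF.XTmap f p₁)).obj L₁).IsQuasicoherent :=
    (Groth.Agent.Lib.H0LiftH2.isCoh_of_isInvertible hM₁).1
  haveI : ((Scheme.Modules.pullback (PicF.XTmap f p₂)).obj L₂).IsQuasicoherent :=
    (Groth.Agent.Lib.H0LiftH2.isCoh_of_isInvertible hM₂).1
  have hz' : (AbDual.ovrHom W v).left z = w := hz
  have hp1 : p₁.left w = t₁ := hw1
  have hp2 : p₂.left w = t₂ := hw2
  calc relDeg f T₁ L₁ t₁
      = relDeg f T₁ L₁ (p₁.left w) := by rw [hp1]
    _ = relDeg f W ((Scheme.Modules.pullback (PicF.XTmap f p₁)).obj L₁) w :=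
        (relDeg_XTmap f p₁ L₁ w).symm
    _ = relDeg f W ((Scheme.Modules.pullback (PicF.XTmap f p₁)).obj L₁)
          ((AbDual.ovrHom W v).left z) := by rw [hz']
    _ = relDeg f (AbDual.ovr W v) ((Scheme.Modules.pullback
          (PicF.XTmap f (AbDual.ovrHom W v))).obj
          ((Scheme.Modules.pullback (PicF.XTmap f p₁)).obj L₁)) z :=
        (relDeg_XTmap f (AbDual.ovrHom W v) _ z).symm
    _ = relDeg f (AbDual.ovr W v) ((Scheme.Modules.pullback
          (PicF.XTmap f (AbDual.ovrHom W v))).obj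
          ((Scheme.Modules.pullback (PicF.XTmap f p₂)).obj L₂)) z :=
        relDeg_of_iso f _ e0 z
    _ = relDeg f W ((Scheme.Modules.pullback (PicF.XTmap f p₂)).obj L₂)
          ((AbDual.ovrHom W v).left z) :=
        relDeg_XTmap f (AbDual.ovrHom W v) _ z
    _ = relDeg f W ((Scheme.Modules.pullback (PicF.XTmap f p₂)).obj L₂) w := by rw [hz']
    _ = relDeg f T₂ L₂ (p₂.left w) := relDeg_XTmap f p₂ L₂ w
    _ = relDeg f T₂ L₂ t₂ := by rw [hp2]

set_option maxHeartbeats 1600000 in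
/-- **the degree function on `P`** -/
theorem exists_degree [IsProper f] [Flat f] [LocallyOfFinitePresentation f]
    (hdim : ∀ s : S, topologicalKrullDim ↥(f.fiber s) = 1)
    (hP : AbDual.IsRelPicK Scheme.fppfPrecoverage f P φ) :
    ∃ d : ↥P.left → ℤ, IsLocallyConstant d ∧
      ∀ (T : Over S) (L : (PicF.XT f T).Modules), PicF.IsInvertible L → ∀ t : T.left,
        d ((φ T (PicF.cl L)).left.base t) = relDeg f T L t := by
  classical
  let Q : ↥P.left → ℤ → Prop := fun p n =>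
    ∃ (T : Over S) (L : (PicF.XT f T).Modules) (t : T.left), PicF.IsInvertible L ∧
      (φ T (PicF.cl L)).left t = p ∧ relDeg f T L t = n
  let d : ↥P.left → ℤ := fun p => if h : ∃ n, Q p n then h.choose else 0
  have hd : ∀ (T : Over S) (L : (PicF.XT f T).Modules), PicF.IsInvertible L → ∀ t : T.left,
      d ((φ T (PicF.cl L)).left t) = relDeg f T L t := by
    intro T L hL t
    have hex : ∃ n, Q ((φ T (PicF.cl L)).left t) n := ⟨_, T, L, t, hL, rfl, rfl⟩
    have h1 : d ((φ T (PicF.cl L)).left t) = hex.choose := dif_pos hex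
    obtain ⟨T', L', t', hL', hpt, hn⟩ := hex.choose_spec
    rw [h1, ← hn]
    exact relDeg_eq_of_phi_eq f P φ hP T' T L' hL' L hL t' t hpt
  refine ⟨d, ?_, hd⟩
  rw [IsLocallyConstant.iff_exists_open]
  intro p
  obtain ⟨R, hR, hsurj⟩ := hP.locallySurjective P (𝟙 P)
  obtain ⟨U, u, hu, t, ht⟩ := (jointlySurjective_fppf).exists_eq R hR p
  obtain ⟨c, ⟨L, hcL, hL⟩, hφ⟩ := hsurj u hu
  have hfu : (@Flat ⊓ @LocallyOfFinitePresentation : MorphismProperty Scheme.{u}) u := by
    have hR' : R ∈ Scheme.precoverage (@Flat ⊓ @LocallyOfFinitePresentation) P.left := hR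
    exact hR'.2 hu
  haveI : Flat u := hfu.1
  haveI : LocallyOfFinitePresentation u := hfu.2
  have hlc := isLocallyConstant_relDeg f hdim (AbDual.ovr P u) L hL
  obtain ⟨O, hO, htO, hconst⟩ := (IsLocallyConstant.iff_exists_open _).mp hlc t
  have hleft : (φ (AbDual.ovr P u) (PicF.cl L)).left = u := by
    rw [hcL, hφ]
    show u ≫ 𝟙 P.left = u
    exact Category.comp_id u
  refine ⟨u '' O, u.isOpenMap O hO, ⟨t, htO, ht⟩, ?_⟩
  rintro _ ⟨t', ht'O, rfl⟩
  have e1 := hd (AbDual.ovr P u) L hL t'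
  have e2 := hd (AbDual.ovr P u) L hL t
  rw [hleft] at e1 e2
  have e3 : d p = d (u t) := by rw [ht]
  rw [e3]
  exact e1.trans ((hconst t' ht'O).trans e2.symm)

end DegPic

end Groth.Agent.Lib.CBCH2
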