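import Mathlib

set_option autoImplicit false
universe u v
open CategoryTheory CategoryTheory.Limits CochainComplex HomComplex

namespace Groth.Agent.Lib.DegSplitHtpyH7

lemma aux {D : Type*} [Category D] [Preadditive D] {A B E A1 B1 E1 : D}
    (f : A ⟶ B) (g : B ⟶ E) (f1 : A1 ⟶ B1) (g1 : B1 ⟶ E1)
    (dA : A ⟶ A1) (dB : B ⟶ B1) (dE : E ⟶ E1)
    (hf : f ≫ dB = dA ≫ f1) (hg : g ≫ dE = dB ≫ g1)
    (r : B ⟶ A) (s s' : E ⟶ B) (r1 r1' : B1 ⟶ A1) (s1 s1' : E1 ⟶ B1)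
    (hid : r ≫ f + g ≫ s = 𝟙 B) (hsg : s ≫ g = 𝟙 E) (hs'g : s' ≫ g = 𝟙 E)
    (hid1 : r1 ≫ f1 + g1 ≫ s1 = 𝟙 B1) (hf1r1' : f1 ≫ r1' = 𝟙 A1)
    (hs1'r1' : s1' ≫ r1' = 0) (hs1'g1 : s1' ≫ g1 = 𝟙 E1) :
    s' ≫ dB ≫ r1' = s ≫ dB ≫ r1 + (s' ≫ r ≫ dA - dE ≫ s1' ≫ r1) := by
  have h1 : s' = s' ≫ r ≫ f + s := by
    calc s' = s' ≫ 𝟙 B := (Category.comp_id _).symm
      _ = s' ≫ (r ≫ f + g ≫ s) := by rw [hid]
      _ = s' ≫ r ≫ f + (s' ≫ g) ≫ s := by rw [Preadditive.comp_add, Category.assoc]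
      _ = s' ≫ r ≫ f + s := by rw [hs'g, Category.id_comp]
  have h2 : s1' = s1' ≫ r1 ≫ f1 + s1 := by
    calc s1' = s1' ≫ 𝟙 B1 := (Category.comp_id _).symm
      _ = s1' ≫ (r1 ≫ f1 + g1 ≫ s1) := by rw [hid1]
      _ = s1' ≫ r1 ≫ f1 + (s1' ≫ g1) ≫ s1 := by rw [Preadditive.comp_add, Category.assoc]
      _ = s1' ≫ r1 ≫ f1 + s1 := by rw [hs1'g1, Category.id_comp]
  have h3 : s1 ≫ r1' = -(s1' ≫ r1) := by
    have h : (s1' ≫ r1 ≫ f1 + s1) ≫ r1' = 0 := by rw [← h2, hs1'r1']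
    rw [Preadditive.add_comp, Category.assoc, Category.assoc, hf1r1', Category.comp_id] at h
    exact eq_neg_of_add_eq_zero_right h
  have h4 : dB ≫ r1' = dB ≫ r1 + dB ≫ g1 ≫ s1 ≫ r1' := by
    calc dB ≫ r1' = dB ≫ 𝟙 B1 ≫ r1' := by rw [Category.id_comp]
      _ = dB ≫ (r1 ≫ f1 + g1 ≫ s1) ≫ r1' := by rw [hid1]
      _ = dB ≫ r1 ≫ f1 ≫ r1' + dB ≫ g1 ≫ s1 ≫ r1' := by
          rw [Preadditive.add_comp, Preadditive.comp_add, Category.assoc, Category.assoc]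
      _ = dB ≫ r1 + dB ≫ g1 ≫ s1 ≫ r1' := by rw [hf1r1', Category.comp_id]
  have h5 : f ≫ dB ≫ r1' = dA := by
    rw [← Category.assoc, hf, Category.assoc, hf1r1', Category.comp_id]
  have h6 : s ≫ dB ≫ g1 ≫ s1 ≫ r1' = -(dE ≫ s1' ≫ r1) := by
    rw [← Category.assoc dB g1, ← hg, Category.assoc, ← Category.assoc s g, hsg,
      Category.id_comp, h3, Preadditive.comp_neg]
  calc s' ≫ dB ≫ r1' = (s' ≫ r ≫ f + s) ≫ dB ≫ r1' := congrArg (· ≫ dB ≫ r1') h1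
    _ = s' ≫ r ≫ (f ≫ dB ≫ r1') + s ≫ dB ≫ r1' := by
        rw [Preadditive.add_comp, Category.assoc, Category.assoc]
    _ = s' ≫ r ≫ dA + s ≫ (dB ≫ r1 + dB ≫ g1 ≫ s1 ≫ r1') := by rw [h5, ← h4]
    _ = s' ≫ r ≫ dA + (s ≫ dB ≫ r1 + -(dE ≫ s1' ≫ r1)) := by rw [Preadditive.comp_add, h6]
    _ = s ≫ dB ≫ r1 + (s' ≫ r ≫ dA - dE ≫ s1' ≫ r1) := by abel

variable {C : Type u} [Category.{v} C] [Preadditive C]

set_option backward.isDefEq.respectTransparency false in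
lemma cocycle_v (S : ShortComplex (CochainComplex C ℤ))
    (τ : ∀ n : ℤ, (S.map (HomologicalComplex.eval C (ComplexShape.up ℤ) n)).Splitting)
    (p q : ℤ) (hpq : p + 1 = q) :
    (cocycleOfDegreewiseSplit S τ).1.v p q hpq = (τ p).s ≫ S.X₂.d p q ≫ (τ q).r := rfl

set_option backward.isDefEq.respectTransparency false in
lemma ofHom_hom (S : ShortComplex (CochainComplex C ℤ))
    (τ : ∀ n : ℤ, (S.map (HomologicalComplex.eval C (ComplexShape.up ℤ) n)).Splitting) :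
    Cochain.ofHom (homOfDegreewiseSplit S τ) =
      (cocycleOfDegreewiseSplit S τ).1.rightShift 1 0 (zero_add 1) := by
  show Cochain.ofHom (Cocycle.homOf ((cocycleOfDegreewiseSplit S τ).rightShift 1 0
    (zero_add 1))) = _
  rw [Cocycle.cochain_ofHom_homOf_eq_coe]
  rfl

set_option backward.isDefEq.respectTransparency false in
theorem main (S : ShortComplex (CochainComplex C ℤ))
    (σ σ' : ∀ n : ℤ, (S.map (HomologicalComplex.eval C (ComplexShape.up ℤ) n)).Splitting) :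
    Nonempty (Homotopy (homOfDegreewiseSplit S σ) (homOfDegreewiseSplit S σ')) := by
  let h : Cochain S.X₃ S.X₁ 0 := Cochain.ofHoms (fun p => (σ' p).s ≫ (σ p).r)
  have key : (cocycleOfDegreewiseSplit S σ').1 =
      (cocycleOfDegreewiseSplit S σ).1 + δ 0 1 h := by
    ext p q hpq
    obtain rfl : q = p + 1 := by lia
    rw [Cochain.add_v, δ_v 0 1 (zero_add 1) h p (p + 1) rfl p (p + 1) (by lia) rfl,
      cocycle_v, cocycle_v, Cochain.ofHoms_v, Cochain.ofHoms_v]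
    have := aux (S.f.f p) (S.g.f p) (S.f.f (p + 1)) (S.g.f (p + 1)) (S.X₁.d p (p + 1))
      (S.X₂.d p (p + 1)) (S.X₃.d p (p + 1)) (S.f.comm p (p + 1)) (S.g.comm p (p + 1))
      (σ p).r (σ p).s (σ' p).s (σ (p + 1)).r (σ' (p + 1)).r (σ (p + 1)).s (σ' (p + 1)).s
      (σ p).id (σ p).s_g (σ' p).s_g (σ (p + 1)).id (σ' (p + 1)).f_r (σ' (p + 1)).s_r
      (σ' (p + 1)).s_g
    rw [this]
    simp only [Int.negOnePow_one, Units.neg_smul, one_smul, Category.assoc, sub_eq_add_neg]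
  refine ⟨(Cochain.equivHomotopy _ _).symm ⟨h.rightShift 1 (-1) (by norm_num), ?_⟩⟩
  rw [ofHom_hom S σ, ofHom_hom S σ', key, Cochain.rightShift_add,
    Cochain.δ_rightShift h 1 (-1) 0 (by norm_num) 1 (zero_add 1)]
  simp only [Int.negOnePow_one, Units.neg_smul, one_smul]
  abel

end Groth.Agent.Lib.DegSplitHtpyH7
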