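import Mathlib
import Groth.Prelude

set_option autoImplicit false
set_option linter.style.haveILetI false
set_option linter.unusedVariables false

universe u

open CategoryTheory AlgebraicGeometry TopologicalSpace

namespace Groth.Agent.Lib.ZeroDimTFAEH4

/-- In a finite Jacobson space every point is closed. -/
theorem t1_of_finite_jacobson (X : Type u) [TopologicalSpace X] [Finite X] [JacobsonSpace X] :
    T1Space X := by
  refine ⟨fun x => ?_⟩
  have hC : IsClosed (closure {x} ∩ closedPoints X) := by
    have hfin : (closure {x} ∩ closedPoints X).Finite := Set.toFinite _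
    have h := hfin.isClosed_biUnion (f := fun y => ({y} : Set X))
      (fun y hy => mem_closedPoints_iff.mp hy.2)
    rwa [Set.biUnion_of_singleton] at h
  have h1 : closure (closure {x} ∩ closedPoints X) = closure {x} :=
    closure_inter_closedPoints isClosed_closure
  rw [hC.closure_eq] at h1
  have hx : x ∈ closure {x} ∩ closedPoints X := by
    rw [h1]; exact subset_closure (Set.mem_singleton x)
  exact mem_closedPoints_iff.mp hx.2

theorem subsingleton_of_eq_bot (X : Scheme.{u}) (W : X.Opens) (hW : W = ⊥) :
    Subsingleton Γ(X, W) := by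
  subst hW; infer_instance

/-- On a scheme with discrete underlying space, global sections are the product of the stalks. -/
theorem germ_bijective (X : Scheme.{u}) [DiscreteTopology X] :
    Function.Bijective (fun s : Γ(X, ⊤) => fun x : X => X.presheaf.germ ⊤ x trivial s) := by
  constructor
  · intro s t hst
    exact TopCat.Presheaf.section_ext X.sheaf ⊤ s t (fun x hx => congrFun hst x)
  · intro t
    let U : X → X.Opens := fun x => ⟨{x}, isOpen_discrete _⟩
    have hxU : ∀ x, x ∈ U x := fun x => Set.mem_singleton x
    have hloc : ∀ x : X, ∃ s : Γ(X, U x), X.presheaf.germ (U x) x (hxU x) s = t x := by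
      intro x
      obtain ⟨V, m, s, hs⟩ := TopCat.Presheaf.exists_germ_eq X.presheaf (t x)
      have hUV : U x ≤ V := by
        intro y hy
        have hyx : y = x := hy
        rw [hyx]; exact m
      refine ⟨X.presheaf.map (homOfLE hUV).op s, ?_⟩
      rw [TopCat.Presheaf.germ_res_apply X.presheaf (homOfLE hUV) x (hxU x) s]
      exact hs
    choose sf hsf using hloc
    have hcompat : TopCat.Presheaf.IsCompatible X.presheaf U sf := by
      intro x y
      by_cases hxy : x = y
      · subst hxy
        rw [Subsingleton.elim (Opens.infLELeft (U x) (U x)) (Opens.infLERight (U x) (U x))]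
      · have hbot : U x ⊓ U y = ⊥ := by
          apply le_bot_iff.mp
          intro z hz
          obtain ⟨h1, h2⟩ := hz
          exact (hxy ((show z = x from h1).symm.trans (show z = y from h2))).elim
        haveI : Subsingleton Γ(X, U x ⊓ U y) := subsingleton_of_eq_bot X _ hbot
        exact Subsingleton.elim _ _
    have hcover : (⊤ : X.Opens) ≤ iSup U := by
      intro x _
      exact Opens.mem_iSup.mpr ⟨x, hxU x⟩
    obtain ⟨s, hs, -⟩ :=
      X.sheaf.existsUnique_gluing' U ⊤ (fun x => homOfLE le_top) hcover sf hcompat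
    refine ⟨s, funext fun x => ?_⟩
    show X.presheaf.germ ⊤ x trivial s = t x
    rw [← hsf x, ← hs x]
    exact (TopCat.Presheaf.germ_res_apply X.presheaf (homOfLE le_top) x (hxU x) s).symm

theorem finite_of_discrete (k : Type u) [Field k] {X : Scheme.{u}}
    (f : X ⟶ Spec (CommRingCat.of k)) [LocallyOfFiniteType f] [QuasiCompact f]
    [DiscreteTopology X] :
    IsAffine X ∧ f.appTop.hom.Finite := by
  haveI : IsLocallyNoetherian X := LocallyOfFiniteType.isLocallyNoetherian f
  haveI : CompactSpace X := QuasiCompact.compactSpace_of_compactSpace f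
  haveI : Finite X := finite_of_compact_of_discrete
  haveI : IsAffine X := inferInstance
  refine ⟨inferInstance, ?_⟩
  haveI : IsLocallyArtinian X := IsLocallyArtinian.of_isLocallyNoetherian_of_discreteTopology
  haveI : IsArtinianRing Γ(X, ⊤) := inferInstance
  have hft : RingHom.FiniteType f.appTop.hom :=
    (HasRingHomProperty.iff_of_isAffine (P := @LocallyOfFiniteType)).mp inferInstance
  haveI : IsJacobsonRing Γ(Spec (CommRingCat.of k), ⊤) :=
    isJacobsonRing_of_surjective (R := k)
      ⟨(Scheme.ΓSpecIso (CommRingCat.of k)).inv.hom,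
        (Scheme.ΓSpecIso (CommRingCat.of k)).commRingCatIsoToRingEquiv.symm.surjective⟩
  letI : Algebra Γ(Spec (CommRingCat.of k), ⊤) Γ(X, ⊤) := f.appTop.hom.toAlgebra
  haveI : Algebra.FiniteType Γ(Spec (CommRingCat.of k), ⊤) Γ(X, ⊤) := hft
  exact Module.finite_of_isArtinianRing Γ(Spec (CommRingCat.of k), ⊤) Γ(X, ⊤)

theorem finite_of_affine_finite (k : Type u) [Field k] {X : Scheme.{u}}
    (f : X ⟶ Spec (CommRingCat.of k)) [IsAffine X] (hfin : f.appTop.hom.Finite) : Finite X := by
  haveI : IsArtinianRing Γ(Spec (CommRingCat.of k), ⊤) :=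
    Function.Surjective.isArtinianRing (R := k)
      (f := (Scheme.ΓSpecIso (CommRingCat.of k)).inv.hom)
      (Scheme.ΓSpecIso (CommRingCat.of k)).commRingCatIsoToRingEquiv.symm.surjective
  letI : Algebra Γ(Spec (CommRingCat.of k), ⊤) Γ(X, ⊤) := f.appTop.hom.toAlgebra
  haveI : Module.Finite Γ(Spec (CommRingCat.of k), ⊤) Γ(X, ⊤) := hfin
  haveI : IsArtinianRing Γ(X, ⊤) :=
    IsArtinianRing.of_finite Γ(Spec (CommRingCat.of k), ⊤) Γ(X, ⊤)
  haveI : Finite ↥(Spec Γ(X, ⊤)) := inferInstanceAs (Finite (PrimeSpectrum Γ(X, ⊤)))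
  exact Finite.of_equiv _ (Scheme.homeoOfIso X.isoSpec).symm.toEquiv

theorem main (k : Type u) [Field k] {X : Scheme.{u}} [Nonempty X]
    (f : X ⟶ Spec (CommRingCat.of k)) [LocallyOfFiniteType f] [QuasiCompact f] :
    [topologicalKrullDim ↥X = 0,
      IsAffine X ∧ f.appTop.hom.Finite ∧
        Function.Bijective (fun s : Γ(X, ⊤) => fun x : X => X.presheaf.germ ⊤ x trivial s),
      DiscreteTopology ↥X,
      Finite ↥X].TFAE := by
  haveI : IsJacobsonRing (CommRingCat.of k) := inferInstanceAs (IsJacobsonRing k)
  haveI : IsLocallyNoetherian X := LocallyOfFiniteType.isLocallyNoetherian f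
  haveI : CompactSpace X := QuasiCompact.compactSpace_of_compactSpace f
  haveI : JacobsonSpace X := LocallyOfFiniteType.jacobsonSpace f
  tfae_have 1 → 3 := fun h => by
    haveI : IsLocallyArtinian X := IsLocallyArtinian.of_topologicalKrullDim_le_zero h.le
    infer_instance
  tfae_have 3 → 1 := fun h => by
    haveI := h
    obtain ⟨x⟩ := ‹Nonempty X›
    haveI : Nonempty (IrreducibleCloseds X) :=
      ⟨⟨closure {x}, isIrreducible_singleton.closure, isClosed_closure⟩⟩
    exact le_antisymm (topologicalKrullDim_zero_of_discreteTopology X) Order.krullDim_nonneg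
  tfae_have 3 → 4 := fun h => by
    haveI := h
    exact finite_of_compact_of_discrete
  tfae_have 4 → 3 := fun h => by
    haveI := h
    haveI : T1Space X := t1_of_finite_jacobson X
    infer_instance
  tfae_have 3 → 2 := fun h => by
    haveI := h
    obtain ⟨h1, h2⟩ := finite_of_discrete k f
    exact ⟨h1, h2, germ_bijective X⟩
  tfae_have 2 → 4 := fun h => by
    haveI := h.1
    exact finite_of_affine_finite k f h.2.1
  tfae_finish

end Groth.Agent.Lib.ZeroDimTFAEH4
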