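import Mathlib
import Groth.Prelude
import Groth.Agent.Lib.DegStrat_helper4
import Groth.Agent.Lib.ZeroDimTFAE_helper4
import Groth.Agent.Lib.GeomCountSch_helper4

/-!
# Degree stratification when the fibre ranks are bounded (helper4)
-/

set_option autoImplicit false
set_option linter.style.haveILetI false
set_option linter.unusedVariables false
universe u
open CategoryTheory CategoryTheory.Limits AlgebraicGeometry TopologicalSpace Opposite Topology

namespace Groth.Agent.Lib.DegStratH4

open IsLocalRing Groth.Agent.Lib.WeightH4 PurInsepH4 EtNbhdFinH4 EtLocH4 Groth.Agent.Lib.LocDegH4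
open Groth.Agent.Lib.ZeroDimTFAEH4 Groth.Agent.Lib.GeomCountH4

/-- On a scheme with discrete underlying space, the number of points is bounded by the rank of
the ring of global functions over any field mapping to it. -/
theorem natCast_le_rank_of_discrete (Y : Scheme.{u}) [DiscreteTopology Y] (K : Type u) [Field K]
    (φ : K →+* Γ(Y, ⊤)) (m : ℕ) (y : Fin m → Y) (hy : Function.Injective y) :
    letI := φ.toAlgebra
    (m : Cardinal.{u}) ≤ Module.rank K (Γ(Y, ⊤) : Type u) := by
  classical
  letI := φ.toAlgebra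
  have hsurj := (germ_bijective Y).2
  choose e he using fun i : Fin m => hsurj (fun z : Y => if z = y i then 1 else 0)
  have hgerm : ∀ i j, Y.presheaf.germ ⊤ (y j) trivial (e i) = if y j = y i then 1 else 0 :=
    fun i j => congrFun (he i) (y j)
  have hli : LinearIndependent K e := by
    rw [linearIndependent_iff']
    intro s c hc j hj
    obtain ⟨ψ, hψ⟩ : ∃ ψ : Γ(Y, ⊤) →+* Y.presheaf.stalk (y j),
        ∀ t, ψ t = Y.presheaf.germ ⊤ (y j) trivial t :=
      ⟨(Y.presheaf.germ ⊤ (y j) trivial).hom, fun t => rfl⟩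
    have h1 : ψ (∑ i ∈ s, c i • e i) = 0 := by rw [hc, map_zero]
    rw [map_sum] at h1
    have h2 : ∀ i ∈ s, ψ (c i • e i) = if i = j then ψ (φ (c j)) else 0 := by
      intro i _
      rw [Algebra.smul_def, map_mul, hψ (e i), hgerm i j]
      by_cases hij : i = j
      · subst hij
        rw [if_pos rfl, if_pos rfl, mul_one]; rfl
      · rw [if_neg (fun h => hij (hy h).symm), if_neg hij, mul_zero]
    rw [Finset.sum_congr rfl h2, Finset.sum_ite_eq' s j, if_pos hj] at h1
    have hinj : Function.Injective (ψ.comp φ) := (ψ.comp φ).injective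
    exact hinj (by rw [RingHom.comp_apply, h1, map_zero])
  have h3 := hli.cardinal_lift_le_rank
  simpa using h3

/-- For a finite flat morphism to the spectrum of a field, the rank of the ring of global
functions is the rank of the morphism. -/
theorem rank_eq_finrank_of_isFinite {Y : Scheme.{u}} (K : Type u) [Field K]
    (π : Y ⟶ Spec (CommRingCat.of K)) [IsFinite π] [Flat π] (pt : ↥(Spec (CommRingCat.of K)))
    (φ : CommRingCat.of K ⟶ Γ(Y, ⊤))
    (hφ : φ = (Scheme.ΓSpecIso (CommRingCat.of K)).inv ≫ π.appTop) :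
    letI := φ.hom.toAlgebra
    Module.rank K (Γ(Y, ⊤) : Type u) = ((π.finrank pt : ℕ) : Cardinal.{u}) := by
  haveI : IsAffine Y := isAffine_of_isAffineHom π
  have hπ : π = Y.toSpecΓ ≫ Spec.map φ := by
    rw [hφ, Spec.map_comp, ← Scheme.toSpecΓ_naturality_assoc,
      toSpecΓ_SpecMap_ΓSpecIso_inv, Category.comp_id]
  have hφ2 : Spec.map φ = inv Y.toSpecΓ ≫ π := by rw [hπ, IsIso.inv_hom_id_assoc]
  haveI : IsFinite (Spec.map φ) := by rw [hφ2]; infer_instance
  haveI : Flat (Spec.map φ) := by rw [hφ2]; infer_instance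
  have hfinφ : φ.hom.Finite := (IsFinite.SpecMap_iff φ).mp inferInstance
  have hflatφ : φ.hom.Flat := Flat.SpecMap_iff.mp inferInstance
  have h1 : π.finrank pt = (Spec.map φ).finrank pt := by
    have h0 := Scheme.Hom.finrank_comp_left_of_isIso Y.toSpecΓ (Spec.map φ)
    rw [← hπ] at h0
    exact congrFun h0 pt
  rw [h1, Scheme.Hom.finrank_SpecMap_eq_finrank hfinφ hflatφ]
  letI := φ.hom.toAlgebra
  haveI : Module.Finite K Γ(Y, ⊤) := hfinφ
  have h2 : φ.hom.finrank pt = Module.finrank K Γ(Y, ⊤) := by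
    show Module.rankAtStalk (R := K) Γ(Y, ⊤) pt = Module.finrank K Γ(Y, ⊤)
    rw [Module.rankAtStalk_eq_finrank_of_free]; rfl
  rw [h2]
  exact (Module.finrank_eq_rank K Γ(Y, ⊤)).symm

theorem main1447 {X S : Scheme.{u}} (f : X ⟶ S) [Flat f] [LocallyOfFinitePresentation f]
    [IsSeparated f] [LocallyQuasiFinite f] (n : ℕ)
    (hn : ∀ (K : Type u) [Field K] (g : Spec (CommRingCat.of K) ⟶ S), (letI := ((Scheme.ΓSpecIso (CommRingCat.of K)).inv ≫ (pullback.snd f g).appTop).hom.toAlgebra
        Module.rank K (Γ(pullback f g, ⊤) : Type u)) ≤ (n : Cardinal.{u})) :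
    ∃ deg : ↑S → ℕ, (∀ s, deg s ≤ n) ∧ (∀ r : ℕ, IsClosed {s : ↑S | deg s ≤ r}) ∧
      ∀ (T : Scheme.{u}) (g : T ⟶ S) (r : ℕ),
        Mor2.IsFinLocFreeOfDeg r (pullback.snd f g) ↔ ∀ t : T, deg (g t) = r := by
  -- field points over `s`
  have hpts : ∀ s : S, ∃ (K : Type u) (_ : Field K) (g : Spec (CommRingCat.of K) ⟶ S),
      (∀ pt, g pt = s) ∧
      (letI := ((Scheme.ΓSpecIso (CommRingCat.of K)).inv ≫ (pullback.snd f g).appTop).hom.toAlgebra;
        Module.rank K (Γ(pullback f g, ⊤) : Type u)) ≤ (n : Cardinal.{u}) := fun s =>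
    ⟨S.residueField s, inferInstance, S.fromSpecResidueField s,
      fun pt => Scheme.fromSpecResidueField_apply s pt, hn _ _⟩
  have hYfin : ∀ (K : Type u) [Field K] (g : Spec (CommRingCat.of K) ⟶ S),
      (letI := ((Scheme.ΓSpecIso (CommRingCat.of K)).inv ≫ (pullback.snd f g).appTop).hom.toAlgebra;
        Module.rank K (Γ(pullback f g, ⊤) : Type u)) ≤ (n : Cardinal.{u}) →
      Finite ↥(pullback f g) := by
    intro K _ g hrank
    haveI : LocallyQuasiFinite (pullback.snd f g) :=
      MorphismProperty.of_isPullback (P := @LocallyQuasiFinite) (IsPullback.of_hasPullback f g)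
        inferInstance
    haveI : Subsingleton ↥(Spec (CommRingCat.of K)) :=
      (inferInstance : Subsingleton (PrimeSpectrum K))
    haveI : DiscreteTopology ↥(pullback f g) := discreteTopology_of_lqf (pullback.snd f g)
    by_contra hinf
    haveI : Infinite ↥(pullback f g) := not_finite_iff_infinite.mp hinf
    have h1 := natCast_le_rank_of_discrete (pullback f g) K
      ((Scheme.ΓSpecIso (CommRingCat.of K)).inv ≫ (pullback.snd f g).appTop).hom (n + 1)
      (fun i : Fin (n + 1) => Infinite.natEmbedding ↥(pullback f g) i)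
      (fun i j hij => Fin.ext ((Infinite.natEmbedding ↥(pullback f g)).injective hij))
    have h2 : ((n + 1 : ℕ) : Cardinal.{u}) ≤ (n : Cardinal.{u}) := h1.trans hrank
    have h3 : n + 1 ≤ n := by exact_mod_cast h2
    omega
  have hfin : ∀ s : S, (f ⁻¹' {s}).Finite := by
    intro s
    obtain ⟨K, hK, g, hgs, hrank⟩ := hpts s
    haveI := hYfin K g hrank
    have hex : ∀ x : ↥(f ⁻¹' {s}), ∃ z : ↥(pullback f g), pullback.fst f g z = x.1 := by
      intro x
      obtain ⟨z, hz, -⟩ := Scheme.Pullback.exists_preimage_pullback (f := f) (g := g) x.1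
        (IsLocalRing.closedPoint K) (x.2.trans (hgs _).symm)
      exact ⟨z, hz⟩
    choose ζ hζ using hex
    have hinj : Function.Injective ζ := by
      intro x x' h
      apply Subtype.ext
      rw [← hζ x, ← hζ x', h]
    haveI : Finite ↥(f ⁻¹' {s}) := Finite.of_injective ζ hinj
    exact Set.toFinite _
  refine ⟨degFun f, ?_, isClosed_degFun_le f hfin, isFinLocFreeOfDeg_iff f hfin⟩
  intro s
  obtain ⟨K, hK, g, hgs, hrank⟩ := hpts s
  haveI := hYfin K g hrank
  haveI : LocallyQuasiFinite (pullback.snd f g) :=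
    MorphismProperty.of_isPullback (P := @LocallyQuasiFinite) (IsPullback.of_hasPullback f g)
      inferInstance
  haveI : QuasiCompact (pullback.snd f g) := ⟨fun U _ _ => (Set.toFinite _).isCompact⟩
  haveI : IsLocallyArtinian (Spec (CommRingCat.of K)) :=
    Scheme.isLocallyArtinianScheme_Spec.mpr inferInstance
  haveI : IsFinite (pullback.snd f g) := IsFinite.of_locallyQuasiFinite (pullback.snd f g)
  obtain ⟨pt, hpt⟩ : ∃ pt : ↥(Spec (CommRingCat.of K)), g pt = s :=
    ⟨IsLocalRing.closedPoint K, hgs _⟩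
  have h1 := finrank_eq_fibreIntegral f hfin (pullback.fst f g) (pullback.snd f g) g
    (IsPullback.of_hasPullback f g) pt
  rw [hpt, ← degFun_cast f s] at h1
  have h2 := rank_eq_finrank_of_isFinite K (pullback.snd f g) pt _ rfl
  rw [h2] at hrank
  have h3 : (pullback.snd f g).finrank pt ≤ n := by exact_mod_cast hrank
  have h4 : degFun f s = (pullback.snd f g).finrank pt := by exact_mod_cast h1.symm
  omega

end Groth.Agent.Lib.DegStratH4
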