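import Mathlib
import Groth.Prelude
import Groth.Agent.Lib.DegStrat2_helper4

/-!
# The open loci `{rank of the fibre ≥ d}` of a separated flat locally quasi-finite morphism
(helper4)
-/

set_option autoImplicit false
set_option linter.style.haveILetI false
set_option linter.unusedVariables false
universe u
open CategoryTheory CategoryTheory.Limits AlgebraicGeometry TopologicalSpace Opposite Topology

namespace Groth.Agent.Lib.DegStratH4

open IsLocalRing Groth.Agent.Lib.WeightH4 PurInsepH4 EtNbhdFinH4 EtLocH4 Groth.Agent.Lib.LocDegH4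
open Groth.Agent.Lib.ZeroDimTFAEH4 Groth.Agent.Lib.GeomCountH4

theorem exists_opens_finite_fibres {X S : Scheme.{u}} (f : X ⟶ S) [LocallyQuasiFinite f] (s : S)
    (A : Set X) (hA : A.Finite) (hAs : ∀ x ∈ A, f x = s) :
    ∃ X' : X.Opens, A ⊆ (X' : Set X) ∧ ∀ s' : S, ((X'.ι ≫ f) ⁻¹' {s'}).Finite := by
  obtain ⟨_, ⟨S₀, hS₀m, rfl⟩, hsS₀, -⟩ :=
    S.isBasis_affineOpens.exists_subset_of_mem_open (Set.mem_univ s) isOpen_univ
  have hS₀ : IsAffineOpen S₀ := hS₀m
  have h : ∀ x : ↥A, ∃ W : X.Opens, IsAffineOpen W ∧ x.1 ∈ W ∧ W ≤ f ⁻¹ᵁ S₀ := by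
    intro x
    have hx : x.1 ∈ f ⁻¹ᵁ S₀ := by
      show f x.1 ∈ S₀
      rw [hAs x.1 x.2]; exact hsS₀
    obtain ⟨_, ⟨W, hW, rfl⟩, hxW, hWle⟩ :=
      X.isBasis_affineOpens.exists_subset_of_mem_open hx (f ⁻¹ᵁ S₀).isOpen
    exact ⟨W, hW, hxW, hWle⟩
  choose W hWaff hxW hWle using h
  haveI : Finite ↥A := hA.to_subtype
  refine ⟨⨆ x : ↥A, W x, fun x hx => Opens.mem_iSup.mpr ⟨⟨x, hx⟩, hxW ⟨x, hx⟩⟩, fun s' => ?_⟩
  have hpiece : ∀ x : ↥A, {p : X | p ∈ W x ∧ f p = s'}.Finite := by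
    intro x
    by_cases hs' : s' ∈ S₀
    · haveI : IsAffine (W x : Scheme.{u}) := hWaff x
      haveI : IsAffine (S₀ : Scheme.{u}) := hS₀
      have hfin := Scheme.Hom.finite_preimage_singleton (f.resLE S₀ (W x) (hWle x)) ⟨s', hs'⟩
      refine (hfin.image (fun p' => (W x).ι p')).subset ?_
      rintro p ⟨hpW, hfp⟩
      refine ⟨⟨p, hpW⟩, ?_, rfl⟩
      apply Subtype.ext
      have h1 := congrArg (fun m : (W x : Scheme.{u}) ⟶ S => m ⟨p, hpW⟩)
        (Scheme.Hom.resLE_comp_ι f (hWle x))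
      exact h1.trans hfp
    · have hemp : {p : X | p ∈ W x ∧ f p = s'} = ∅ := by
        ext p
        simp only [Set.mem_setOf_eq, Set.mem_empty_iff_false, iff_false, not_and]
        intro hpW hfp
        exact hs' (hfp ▸ (hWle x hpW))
      rw [hemp]; exact Set.finite_empty
  have hunion : {p : X | p ∈ (⨆ x : ↥A, W x) ∧ f p = s'}.Finite := by
    refine (Set.finite_iUnion hpiece).subset ?_
    rintro p ⟨hp, hfp⟩
    obtain ⟨x, hx⟩ := Opens.mem_iSup.mp hp
    exact Set.mem_iUnion.mpr ⟨x, hx, hfp⟩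
  refine Set.Finite.of_injOn (f := fun p' : ↥(⨆ x : ↥A, W x) => (p' : X)) ?_
    (Subtype.val_injective.injOn) hunion
  intro p' hp'
  exact ⟨p'.2, hp'⟩

theorem finrank_opens_le {P V : Scheme.{u}} (π : P ⟶ V) [IsFinite π] [Flat π]
    [LocallyQuasiFinite π] (T : P.Opens) [IsFinite (T.ι ≫ π)] [Flat (T.ι ≫ π)] (v : V) :
    (T.ι ≫ π).finrank v ≤ π.finrank v := by
  have h1 := fibreIntegral_wCan π v
  have h2 := fibreIntegral_wCan_square T.ι π (T.ι ≫ π) (𝟙 V) (Category.comp_id _).symm v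
  have h3 : MoreMor.fibreIntegral (T.ι ≫ π) (fun t => wCan π (T.ι t)) v ≤
      MoreMor.fibreIntegral π (wCan π) v := by
    rw [fibreIntegral_opens, fibreIntegral_eq_mem]
    exact finsum_mem_le_of_subset _
      (fun p => mul_nonneg (wCan_pos π p).le (Int.natCast_nonneg _)) Set.inter_subset_right
      (Scheme.Hom.finite_preimage_singleton π v)
  rw [h1, h2] at h3
  exact_mod_cast h3

/-- The part of the fibre over a field-valued point lying in an open with finite fibres. -/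
theorem point_T {X S : Scheme.{u}} (f : X ⟶ S) [Flat f] [LocallyOfFinitePresentation f]
    [IsSeparated f] [LocallyQuasiFinite f] (X' : X.Opens)
    (hfin' : ∀ s' : S, ((X'.ι ≫ f) ⁻¹' {s'}).Finite) (K : Type u) [Field K]
    (g : Spec (CommRingCat.of K) ⟶ S) (pt : ↥(Spec (CommRingCat.of K))) :
    Finite ↥(((pullback.fst f g) ⁻¹ᵁ X').toScheme) ∧
    ∃ (_ : IsFinite (((pullback.fst f g) ⁻¹ᵁ X').ι ≫ pullback.snd f g))
      (_ : Flat (((pullback.fst f g) ⁻¹ᵁ X').ι ≫ pullback.snd f g)),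
      ((((((pullback.fst f g) ⁻¹ᵁ X').ι ≫ pullback.snd f g).finrank pt : ℕ) : ℤ) =
        MoreMor.fibreIntegral (X'.ι ≫ f) (wCan (X'.ι ≫ f)) (g pt)) ∧
      ((letI := ((Scheme.ΓSpecIso (CommRingCat.of K)).inv ≫
          (((pullback.fst f g) ⁻¹ᵁ X').ι ≫ pullback.snd f g).appTop).hom.toAlgebra;
        Module.rank K (Γ(((pullback.fst f g) ⁻¹ᵁ X').toScheme, ⊤) : Type u)) =
        (((((pullback.fst f g) ⁻¹ᵁ X').ι ≫ pullback.snd f g).finrank pt : ℕ) : Cardinal.{u})) := by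
  have hpbT : IsPullback ((pullback.fst f g) ∣_ X')
      (((pullback.fst f g) ⁻¹ᵁ X').ι ≫ pullback.snd f g) (X'.ι ≫ f) g :=
    (isPullback_morphismRestrict (pullback.fst f g) X').paste_vert (IsPullback.of_hasPullback f g)
  haveI : Subsingleton ↥(Spec (CommRingCat.of K)) :=
    (inferInstance : Subsingleton (PrimeSpectrum K))
  have hTfin : Finite ↥(((pullback.fst f g) ⁻¹ᵁ X').toScheme) := by
    have h1 := finite_fibre_of_isPullback (X'.ι ≫ f) hfin'
      (((pullback.fst f g) ⁻¹ᵁ X').ι ≫ pullback.snd f g) ((pullback.fst f g) ∣_ X') g hpbT pt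
    have h2 : (⇑(((pullback.fst f g) ⁻¹ᵁ X').ι ≫ pullback.snd f g)) ⁻¹' {pt} = Set.univ :=
      Set.eq_univ_of_forall (fun z => Subsingleton.elim _ _)
    rw [h2] at h1
    exact Set.finite_univ_iff.mp h1
  haveI := hTfin
  haveI : LocallyQuasiFinite (((pullback.fst f g) ⁻¹ᵁ X').ι ≫ pullback.snd f g) :=
    MorphismProperty.of_isPullback (P := @LocallyQuasiFinite) hpbT inferInstance
  haveI : Flat (((pullback.fst f g) ⁻¹ᵁ X').ι ≫ pullback.snd f g) :=
    MorphismProperty.of_isPullback (P := @Flat) hpbT inferInstance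
  haveI : QuasiCompact (((pullback.fst f g) ⁻¹ᵁ X').ι ≫ pullback.snd f g) :=
    ⟨fun U _ _ => (Set.toFinite _).isCompact⟩
  haveI : IsLocallyArtinian (Spec (CommRingCat.of K)) :=
    Scheme.isLocallyArtinianScheme_Spec.mpr inferInstance
  haveI hF : IsFinite (((pullback.fst f g) ⁻¹ᵁ X').ι ≫ pullback.snd f g) :=
    IsFinite.of_locallyQuasiFinite _
  refine ⟨hTfin, hF, inferInstance, ?_, ?_⟩
  · exact finrank_eq_fibreIntegral (X'.ι ≫ f) hfin' ((pullback.fst f g) ∣_ X')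
      (((pullback.fst f g) ⁻¹ᵁ X').ι ≫ pullback.snd f g) g hpbT pt
  · exact rank_eq_finrank_of_isFinite K (((pullback.fst f g) ⁻¹ᵁ X').ι ≫ pullback.snd f g) pt _ rfl

theorem main1449 {X S : Scheme.{u}} (f : X ⟶ S) [Flat f] [LocallyOfFinitePresentation f]
    [IsSeparated f] [LocallyQuasiFinite f] :
    ∃ U : ℕ → S.Opens, Antitone U ∧ U 0 = ⊤ ∧ ∀ (K : Type u) [Field K] (g : Spec (CommRingCat.of K) ⟶ S) (d : ℕ),
      Set.range ⇑g ⊆ (U d : Set ↑S) ↔ (d : Cardinal.{u}) ≤ (letI := ((Scheme.ΓSpecIso (CommRingCat.of K)).inv ≫ (pullback.snd f g).appTop).hom.toAlgebra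
        Module.rank K (Γ(pullback f g, ⊤) : Type u)) := by
  have hopen : ∀ d : ℕ, IsOpen {s : ↑S | ∃ X' : X.Opens,
      (∀ s' : S, ((X'.ι ≫ f) ⁻¹' {s'}).Finite) ∧
      (d : ℤ) ≤ MoreMor.fibreIntegral (X'.ι ≫ f) (wCan (X'.ι ≫ f)) s} := by
    intro d
    rw [isOpen_iff_forall_mem_open]
    rintro s ⟨X', h1, h2⟩
    refine ⟨(MoreMor.fibreIntegral (X'.ι ≫ f) (wCan (X'.ι ≫ f))) ⁻¹' Set.Ioi ((d : ℤ) - 1), ?_,
      (main1426 (X'.ι ≫ f) h1 (wCan (X'.ι ≫ f)) (isWeighting_wCan _)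
        (wCan_pos _)).isOpen_preimage _, ?_⟩
    · intro s' hs'
      have h3 : (d : ℤ) - 1 < MoreMor.fibreIntegral (X'.ι ≫ f) (wCan (X'.ι ≫ f)) s' := hs'
      exact ⟨X', h1, by omega⟩
    · show (d : ℤ) - 1 < MoreMor.fibreIntegral (X'.ι ≫ f) (wCan (X'.ι ≫ f)) s
      omega
  refine ⟨fun d => ⟨_, hopen d⟩, ?_, ?_, ?_⟩
  · intro d d' hdd' s hs
    obtain ⟨X', h1, h2⟩ := hs
    exact ⟨X', h1, le_trans (by exact_mod_cast hdd') h2⟩
  · apply top_le_iff.mp
    intro s _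
    haveI : IsEmpty ↥((⊥ : X.Opens) : Scheme.{u}) := ⟨fun p => p.2⟩
    refine ⟨⊥, fun s' => Set.toFinite _, ?_⟩
    rw [Nat.cast_zero]
    exact fibreIntegral_nonneg _ _ (wCan_pos _) s
  intro K _ g d
  obtain ⟨pt, hpt⟩ : ∃ pt : ↥(Spec (CommRingCat.of K)), pt = IsLocalRing.closedPoint K :=
    ⟨_, rfl⟩
  haveI : Subsingleton ↥(Spec (CommRingCat.of K)) :=
    (inferInstance : Subsingleton (PrimeSpectrum K))
  have hrange : Set.range ⇑g ⊆ {s : ↑S | ∃ X' : X.Opens,
      (∀ s' : S, ((X'.ι ≫ f) ⁻¹' {s'}).Finite) ∧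
      (d : ℤ) ≤ MoreMor.fibreIntegral (X'.ι ≫ f) (wCan (X'.ι ≫ f)) s} ↔
      ∃ X' : X.Opens, (∀ s' : S, ((X'.ι ≫ f) ⁻¹' {s'}).Finite) ∧
      (d : ℤ) ≤ MoreMor.fibreIntegral (X'.ι ≫ f) (wCan (X'.ι ≫ f)) (g pt) := by
    constructor
    · intro h; exact h ⟨pt, rfl⟩
    · rintro h _ ⟨pt', rfl⟩
      rw [Subsingleton.elim pt' pt]; exact h
  refine hrange.trans ?_
  haveI : LocallyQuasiFinite (pullback.snd f g) :=
    MorphismProperty.of_isPullback (P := @LocallyQuasiFinite) (IsPullback.of_hasPullback f g)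
      inferInstance
  haveI : DiscreteTopology ↥(pullback f g) := discreteTopology_of_lqf (pullback.snd f g)
  have hfg : ∀ z : ↥(pullback f g), f (pullback.fst f g z) = g pt := by
    intro z
    have h2 := congrArg (fun m : pullback f g ⟶ S => m z) (pullback.condition (f := f) (g := g))
    exact h2.trans (congrArg (fun y => g y) (Subsingleton.elim _ _))
  by_cases hXK : Finite ↥(pullback f g)
  · -- finite fibre
    haveI := hXK
    haveI : QuasiCompact (pullback.snd f g) := ⟨fun U _ _ => (Set.toFinite _).isCompact⟩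
    haveI : IsLocallyArtinian (Spec (CommRingCat.of K)) :=
      Scheme.isLocallyArtinianScheme_Spec.mpr inferInstance
    haveI : IsFinite (pullback.snd f g) := IsFinite.of_locallyQuasiFinite (pullback.snd f g)
    have hrk := rank_eq_finrank_of_isFinite K (pullback.snd f g) pt _ rfl
    rw [hrk, Nat.cast_le]
    constructor
    · rintro ⟨X', h1, h2⟩
      obtain ⟨-, hF, hFl, h3, -⟩ := point_T f X' h1 K g pt
      haveI := hF
      haveI := hFl
      have h4 := finrank_opens_le (pullback.snd f g) ((pullback.fst f g) ⁻¹ᵁ X') pt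
      rw [← h3] at h2
      have h5 : d ≤ (((pullback.fst f g) ⁻¹ᵁ X').ι ≫ pullback.snd f g).finrank pt := by
        exact_mod_cast h2
      exact h5.trans h4
    · intro hd
      obtain ⟨X', hAX', h1⟩ := exists_opens_finite_fibres f (g pt)
        (Set.range (pullback.fst f g)) (Set.finite_range _) (by rintro _ ⟨z, rfl⟩; exact hfg z)
      obtain ⟨-, hF, hFl, h3, -⟩ := point_T f X' h1 K g pt
      haveI := hF
      haveI := hFl
      refine ⟨X', h1, ?_⟩
      rw [← h3]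
      haveI : Surjective ((pullback.fst f g) ⁻¹ᵁ X').ι :=
        ⟨fun z => ⟨⟨z, hAX' ⟨z, rfl⟩⟩, rfl⟩⟩
      haveI : IsIso ((pullback.fst f g) ⁻¹ᵁ X').ι :=
        (isIso_iff_isOpenImmersion_and_surjective _).mpr ⟨inferInstance, inferInstance⟩
      have h4 := Scheme.Hom.finrank_comp_left_of_isIso ((pullback.fst f g) ⁻¹ᵁ X').ι
        (pullback.snd f g)
      rw [h4]
      exact_mod_cast hd
  · -- infinite fibre: the rank is at least any `d`
    haveI : Infinite ↥(pullback f g) := not_finite_iff_infinite.mp hXK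
    have hLI := natCast_le_rank_of_discrete (pullback f g) K
      ((Scheme.ΓSpecIso (CommRingCat.of K)).inv ≫ (pullback.snd f g).appTop).hom d
      (fun i : Fin d => Infinite.natEmbedding ↥(pullback f g) i)
      (fun i j hij => Fin.ext ((Infinite.natEmbedding ↥(pullback f g)).injective hij))
    refine ⟨fun _ => hLI, fun _ => ?_⟩
    obtain ⟨X', hAX', h1⟩ := exists_opens_finite_fibres f (g pt)
      (Set.range (fun i : Fin d => pullback.fst f g (Infinite.natEmbedding ↥(pullback f g) i)))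
      (Set.finite_range _) (by rintro _ ⟨i, rfl⟩; exact hfg _)
    obtain ⟨hTfin, hF, hFl, h3, h4⟩ := point_T f X' h1 K g pt
    haveI := hF
    haveI := hFl
    haveI := hTfin
    refine ⟨X', h1, ?_⟩
    rw [← h3]
    haveI : DiscreteTopology ↥(((pullback.fst f g) ⁻¹ᵁ X').toScheme) :=
      discreteTopology_of_lqf (((pullback.fst f g) ⁻¹ᵁ X').ι ≫ pullback.snd f g)
    have hLI2 := natCast_le_rank_of_discrete (((pullback.fst f g) ⁻¹ᵁ X').toScheme) K
      ((Scheme.ΓSpecIso (CommRingCat.of K)).inv ≫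
        (((pullback.fst f g) ⁻¹ᵁ X').ι ≫ pullback.snd f g).appTop).hom d
      (fun i : Fin d => ⟨Infinite.natEmbedding ↥(pullback f g) i, hAX' ⟨i, rfl⟩⟩)
      (fun i j hij => Fin.ext ((Infinite.natEmbedding ↥(pullback f g)).injective
        (congrArg Subtype.val hij)))
    rw [h4] at hLI2
    exact_mod_cast hLI2

end Groth.Agent.Lib.DegStratH4
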