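import Mathlib
import Groth.Prelude.Def_RDerDelta
import Groth.Agent.Lib.DegenComp_helper4

/-!
# The degenerate Grothendieck spectral sequence, naturally (helper4)

Same setting as `DegenComp_helper4`; here the isomorphisms `Rⁱ(T ⋙ G)(N) ≅ G(RⁱT(N))` are produced
as a family, natural with respect to all morphisms between objects satisfying the acyclicity
hypothesis (`exists_natural_iso`).  Also: right derived functors commute with "central"
endomorphisms (`rightDerived_map_central`).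
APPEND-ONLY once landed.
-/

set_option autoImplicit false
set_option linter.style.haveILetI false

namespace Groth.Agent.Lib.DegenNatH4

open CategoryTheory CategoryTheory.Limits Groth.Agent.Lib.Horseshoe0 Groth.Agent.Lib.DegenCompH4

universe v₁ v₂ v₃ u₁ u₂ u₃

section Lift

variable {𝒜 : Type u₁} [Category.{v₁} 𝒜] [Abelian 𝒜] [EnoughInjectives 𝒜]

/-- a morphism `N ⟶ M` lifts to a morphism of the sequences `0 → N → I(N) → N' → 0`. -/
theorem exists_sesInj_map {N M : 𝒜} (f : N ⟶ M) : ∃ φ : sesInj N ⟶ sesInj M, φ.τ₁ = f := by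
  let t₂ : Injective.under N ⟶ Injective.under M :=
    Injective.factorThru (f ≫ Injective.ι M) (Injective.ι N)
  have h₂ : Injective.ι N ≫ t₂ = f ≫ Injective.ι M := Injective.comp_factorThru _ _
  refine ⟨{ τ₁ := f
            τ₂ := t₂
            τ₃ := cokernel.map _ _ f t₂ h₂
            comm₁₂ := h₂.symm
            comm₂₃ := ?_ }, rfl⟩
  exact (cokernel.π_desc _ _ _).symm

/-- a natural endomorphism of the identity gives an endomorphism of `sesInj N`. -/
noncomputable def centralMap (ρ : 𝟭 𝒜 ⟶ 𝟭 𝒜) (N : 𝒜) : sesInj N ⟶ sesInj N where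
  τ₁ := ρ.app _
  τ₂ := ρ.app _
  τ₃ := ρ.app _
  comm₁₂ := (ρ.naturality (sesInj N).f).symm
  comm₂₃ := (ρ.naturality (sesInj N).g).symm

end Lift

section Central

variable {𝒜 : Type u₁} {ℬ : Type u₂} [Category.{v₁} 𝒜] [Category.{v₂} ℬ] [Abelian 𝒜] [Abelian ℬ]
  [EnoughInjectives 𝒜] (T : 𝒜 ⥤ ℬ) [T.Additive] [PreservesFiniteLimits T]

/-- right derived functors commute with central endomorphisms. -/
theorem rightDerived_map_central (ρA : 𝟭 𝒜 ⟶ 𝟭 𝒜) (ρB : 𝟭 ℬ ⟶ 𝟭 ℬ)
    (h : ∀ N : 𝒜, T.map (ρA.app N) = ρB.app (T.obj N)) :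
    ∀ (q : ℕ) (N : 𝒜), (T.rightDerived q).map (ρA.app N) = ρB.app ((T.rightDerived q).obj N)
  | 0, N => by
    have h1 := T.toRightDerivedZero.naturality (ρA.app N)
    have h2 := ρB.naturality (T.toRightDerivedZero.app N)
    simp only [Functor.id_obj, Functor.id_map] at h1 h2
    rw [← cancel_epi (T.toRightDerivedZero.app N), ← h1, h, h2]
  | (q + 1), N => by
    have hS := sesInj_shortExact N
    haveI := epi_δ T N q
    have h1 := (derivedLES T).δ_natural hS hS (centralMap ρA N) q (q + 1) rfl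
    have h2 := ρB.naturality ((derivedLES T).δ (sesInj N) hS q (q + 1) rfl)
    simp only [Functor.id_obj, Functor.id_map] at h2
    have h3 : (T.rightDerived q).map (centralMap ρA N).τ₃ =
        ρB.app ((T.rightDerived q).obj (sesInj N).X₃) :=
      rightDerived_map_central ρA ρB h q (sesInj N).X₃
    refine (cancel_epi ((derivedLES T).δ (sesInj N) hS q (q + 1) rfl)).1 ?_
    exact h1.symm.trans ((congrArg (· ≫ _) h3).trans h2.symm)

end Central

section Main

variable {𝒜 : Type u₁} {ℬ : Type u₂} {𝒞 : Type u₃} [Category.{v₁} 𝒜] [Category.{v₂} ℬ]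
  [Category.{v₃} 𝒞] [Abelian 𝒜] [Abelian ℬ] [Abelian 𝒞] [EnoughInjectives 𝒜] [EnoughInjectives ℬ]
  (T : 𝒜 ⥤ ℬ) (G : ℬ ⥤ 𝒞) [T.Additive] [G.Additive] [PreservesFiniteLimits T]
  [PreservesFiniteLimits G]

/-- the acyclicity hypothesis in degrees `≤ i` -/
def Hyp (i : ℕ) (N : 𝒜) : Prop := ∀ q : ℕ, q ≤ i → Acyclic G ((T.rightDerived q).obj N)

/-- a natural family of comparison isomorphisms in degree `i` -/
structure Fam (i : ℕ) where
  /-- the isomorphisms -/
  e : ∀ N : 𝒜, Hyp T G i N → (((T ⋙ G).rightDerived i).obj N ≅ G.obj ((T.rightDerived i).obj N))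
  /-- naturality -/
  nat : ∀ (N M : 𝒜) (hN : Hyp T G i N) (hM : Hyp T G i M) (f : N ⟶ M),
    ((T ⋙ G).rightDerived i).map f ≫ (e M hM).hom =
      (e N hN).hom ≫ G.map ((T.rightDerived i).map f)

omit [EnoughInjectives ℬ] in
/-- degree zero -/
noncomputable def famZero : Fam T G 0 where
  e N _ := (asIso ((T ⋙ G).toRightDerivedZero.app N)).symm ≪≫
    G.mapIso (asIso (T.toRightDerivedZero.app N))
  nat N M _ _ f := by
    have h1 := (T ⋙ G).toRightDerivedZero.naturality f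
    have h2 := T.toRightDerivedZero.naturality f
    simp only [Iso.trans_hom, Iso.symm_hom, asIso_inv, Functor.mapIso_hom, asIso_hom,
      Category.assoc]
    rw [← cancel_epi ((T ⋙ G).toRightDerivedZero.app N), ← Category.assoc, ← h1]
    simp only [Category.assoc, IsIso.hom_inv_id_assoc, Functor.comp_map]
    rw [← G.map_comp, ← G.map_comp, h2]

variable (hT : ∀ I : 𝒜, Injective I → Acyclic G (T.obj I))

include hT in
/-- refined key step: `G(δ)` is an epimorphism and `G(R⁰T(I)) → G(R⁰T(N')) → G(R¹T(N))` is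
exact. -/
theorem key' (N : 𝒜) (h0 : Acyclic G ((T.rightDerived 0).obj N)) :
    Epi (G.map ((derivedLES T).δ (sesInj N) (sesInj_shortExact N) 0 1 rfl)) ∧
      (ShortComplex.mk (G.map ((T.rightDerived 0).map (sesInj N).g))
        (G.map ((derivedLES T).δ (sesInj N) (sesInj_shortExact N) 0 1 rfl))
        (by rw [← G.map_comp, (derivedLES T).comp_δ, G.map_zero])).Exact := by
  have hS := sesInj_shortExact N
  haveI : Mono ((T.rightDerived 0).map (sesInj N).f) :=
    mono_rightDerivedZero_map T (sesRes (sesInj N) hS)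
  haveI := epi_δ T N 0
  obtain ⟨K, p, j, hpj, w3, w4, hS1, hS2⟩ := four_term_split
    ((T.rightDerived 0).map (sesInj N).f) ((T.rightDerived 0).map (sesInj N).g)
    ((derivedLES T).δ (sesInj N) hS 0 1 rfl)
    (by rw [← Functor.map_comp, (sesInj N).zero, Functor.map_zero])
    ((derivedLES T).comp_δ (sesInj N) hS 0 1 rfl)
    ((derivedLES T).exact₂ (sesInj N) hS 0) ((derivedLES T).exact₃ (sesInj N) hS 0 1 rfl)
  have hI : Acyclic G ((T.rightDerived 0).obj (sesInj N).X₂) :=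
    acyclic_rightDerivedZero T G (hT _ (inferInstanceAs (Injective (Injective.under N))))
  have hK : Acyclic G K := acyclic_X₃ _ hS1 h0 hI
  have hG1 := map_shortExact _ hS1 (h0 0)
  have hG2 := map_shortExact _ hS2 (hK 0)
  haveI : Epi (G.map p) := hG1.epi_g
  refine ⟨hG2.epi_g, ?_⟩
  have hex := exact_epi_comp (G.map p) (G.map j)
    (G.map ((derivedLES T).δ (sesInj N) hS 0 1 rfl))
    (by rw [← G.map_comp, w4, G.map_zero]) hG2.exact
  refine exact_congr ?_ rfl _ _ hex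
  rw [← G.map_comp, hpj]

end Main

section Coker

variable {𝒞 : Type u₃} [Category.{v₃} 𝒞] [Abelian 𝒞]

/-- an isomorphism of right exact sequences induces an isomorphism of the cokernel terms. -/
theorem exists_iso_of_cokernels {A₁ B₁ C₁ A₂ B₂ C₂ : 𝒞} (a₁ : A₁ ⟶ B₁) (b₁ : B₁ ⟶ C₁)
    (w₁ : a₁ ≫ b₁ = 0) (h₁ : (ShortComplex.mk a₁ b₁ w₁).Exact) [Epi b₁]
    (a₂ : A₂ ⟶ B₂) (b₂ : B₂ ⟶ C₂) (w₂ : a₂ ≫ b₂ = 0) (h₂ : (ShortComplex.mk a₂ b₂ w₂).Exact)
    [Epi b₂] (α : A₁ ≅ A₂) (β : B₁ ≅ B₂) (comm : a₁ ≫ β.hom = α.hom ≫ a₂) :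
    ∃ γ : C₁ ≅ C₂, b₁ ≫ γ.hom = β.hom ≫ b₂ := by
  haveI : Epi (ShortComplex.mk a₁ b₁ w₁).g := ‹Epi b₁›
  haveI : Epi (ShortComplex.mk a₂ b₂ w₂).g := ‹Epi b₂›
  have c₁ : a₁ ≫ β.hom ≫ b₂ = 0 := by
    rw [← Category.assoc, comm, Category.assoc, w₂, comp_zero]
  have comm' : a₂ ≫ β.inv = α.inv ≫ a₁ := by
    rw [← cancel_mono β.hom, Category.assoc, Category.assoc, comm, Iso.inv_hom_id,
      Category.comp_id, Iso.inv_hom_id_assoc]
  have c₂ : a₂ ≫ β.inv ≫ b₁ = 0 := by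
    rw [← Category.assoc, comm', Category.assoc, w₁, comp_zero]
  have e1 : b₁ ≫ h₁.desc (β.hom ≫ b₂) c₁ = β.hom ≫ b₂ := h₁.g_desc _ c₁
  have e2 : b₂ ≫ h₂.desc (β.inv ≫ b₁) c₂ = β.inv ≫ b₁ := h₂.g_desc _ c₂
  refine ⟨⟨h₁.desc (β.hom ≫ b₂) c₁, h₂.desc (β.inv ≫ b₁) c₂, ?_, ?_⟩, e1⟩
  · rw [← cancel_epi b₁, ← Category.assoc, e1, Category.assoc, e2, Iso.hom_inv_id_assoc,
      Category.comp_id]
  · rw [← cancel_epi b₂, ← Category.assoc, e2, Category.assoc, e1, Iso.inv_hom_id_assoc,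
      Category.comp_id]

omit [Abelian 𝒞] in
/-- the diagram chase for naturality of the inductive step -/
theorem nat_aux {A A' B B' GA GA' GB GB' : 𝒞} (δN : A' ⟶ A) [Epi δN] (δM : B' ⟶ B) (rf : A ⟶ B)
    (rτ : A' ⟶ B') (d1 : rτ ≫ δM = δN ≫ rf) (εN' : A' ⟶ GA') (εM' : B' ⟶ GB') (eN : A ⟶ GA)
    (eM : B ⟶ GB) (gδN : GA' ⟶ GA) (gδM : GB' ⟶ GB) (gf : GA ⟶ GB) (gτ : GA' ⟶ GB')
    (pN : δN ≫ eN = εN' ≫ gδN) (pM : δM ≫ eM = εM' ≫ gδM) (n3 : rτ ≫ εM' = εN' ≫ gτ)
    (d2 : gτ ≫ gδM = gδN ≫ gf) : rf ≫ eM = eN ≫ gf := by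
  rw [← cancel_epi δN, ← Category.assoc, ← d1, Category.assoc, pM, ← Category.assoc, n3,
    Category.assoc, d2, ← Category.assoc, ← pN, Category.assoc]

end Coker

section Main2

variable {𝒜 : Type u₁} {ℬ : Type u₂} {𝒞 : Type u₃} [Category.{v₁} 𝒜] [Category.{v₂} ℬ]
  [Category.{v₃} 𝒞] [Abelian 𝒜] [Abelian ℬ] [Abelian 𝒞] [EnoughInjectives 𝒜] [EnoughInjectives ℬ]
  (T : 𝒜 ⥤ ℬ) (G : ℬ ⥤ 𝒞) [T.Additive] [G.Additive] [PreservesFiniteLimits T]
  [PreservesFiniteLimits G]
  (hT : ∀ I : 𝒜, Injective I → Acyclic G (T.obj I))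

include hT in
theorem hyp_succ (i : ℕ) (N : 𝒜) (h : Hyp T G (i + 1) N) : Hyp T G i (sesInj N).X₃ := by
  intro q hq
  rcases q with _ | q
  · exact (key T G hT N (h 0 (by omega)) (h 1 (by omega))).1
  · haveI := isIso_δ T N q
    exact (h (q + 2) (by omega)).of_iso
      (asIso ((derivedLES T).δ (sesInj N) (sesInj_shortExact N) (q + 1) (q + 2) rfl)).symm

omit [PreservesFiniteLimits G] in
include hT in
theorem hyp_zero_injective (I : 𝒜) (hI : Injective I) : Hyp T G 0 I := by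
  intro q hq
  obtain rfl : q = 0 := by omega
  exact acyclic_rightDerivedZero T G (hT I hI)

include hT in
/-- existence of the comparison isomorphism in degree `i + 1`, compatible with the connecting
morphisms. -/
theorem exists_step (i : ℕ) (F : Fam T G i) (N : 𝒜) (h : Hyp T G (i + 1) N) :
    ∃ e : ((T ⋙ G).rightDerived (i + 1)).obj N ≅ G.obj ((T.rightDerived (i + 1)).obj N),
      (derivedLES (T ⋙ G)).δ (sesInj N) (sesInj_shortExact N) i (i + 1) rfl ≫ e.hom =
        (F.e (sesInj N).X₃ (hyp_succ T G hT i N h)).hom ≫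
          G.map ((derivedLES T).δ (sesInj N) (sesInj_shortExact N) i (i + 1) rfl) := by
  have hS := sesInj_shortExact N
  rcases i with _ | i
  · -- degree one: cokernel comparison
    obtain ⟨hepi, hex⟩ := key' T G hT N (h 0 (by omega))
    haveI := hepi
    haveI := epi_δ (T ⋙ G) N 0
    have hex' := (derivedLES (T ⋙ G)).exact₃ (sesInj N) hS 0 1 rfl
    have hI : Hyp T G 0 (sesInj N).X₂ :=
      hyp_zero_injective T G hT _ (inferInstanceAs (Injective (Injective.under N)))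
    exact exists_iso_of_cokernels _ _ _ hex' _ _ _ hex (F.e _ hI)
      (F.e _ (hyp_succ T G hT 0 N h)) (F.nat _ _ hI (hyp_succ T G hT 0 N h) (sesInj N).g)
  · have i1 : IsIso ((derivedLES (T ⋙ G)).δ (sesInj N) hS (i + 1) (i + 2) rfl) :=
      isIso_δ (T ⋙ G) N i
    have i2 : IsIso ((derivedLES T).δ (sesInj N) hS (i + 1) (i + 2) rfl) := isIso_δ T N i
    refine ⟨(@asIso _ _ _ _ _ i1).symm ≪≫ F.e _ (hyp_succ T G hT (i + 1) N h) ≪≫
      G.mapIso (@asIso _ _ _ _ _ i2), ?_⟩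
    simp only [Iso.trans_hom, Iso.symm_hom, asIso_inv, Functor.mapIso_hom, asIso_hom]
    exact IsIso.hom_inv_id_assoc ((derivedLES (T ⋙ G)).δ (sesInj N) hS (i + 1) (i + 2) rfl) _

include hT in
/-- the inductive step -/
noncomputable def famSucc (i : ℕ) (F : Fam T G i) : Fam T G (i + 1) where
  e N h := (exists_step T G hT i F N h).choose
  nat N M hN hM f := by
    obtain ⟨φ, hφ⟩ := exists_sesInj_map f
    have hSN := sesInj_shortExact N
    have hSM := sesInj_shortExact M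
    have pN := (exists_step T G hT i F N hN).choose_spec
    have pM := (exists_step T G hT i F M hM).choose_spec
    have d1 := (derivedLES (T ⋙ G)).δ_natural hSN hSM φ i (i + 1) rfl
    have d2 := (derivedLES T).δ_natural hSN hSM φ i (i + 1) rfl
    have n3 := F.nat _ _ (hyp_succ T G hT i N hN) (hyp_succ T G hT i M hM) φ.τ₃
    rw [hφ] at d1 d2
    haveI := epi_δ (T ⋙ G) N i
    exact nat_aux ((derivedLES (T ⋙ G)).δ (sesInj N) hSN i (i + 1) rfl)
      ((derivedLES (T ⋙ G)).δ (sesInj M) hSM i (i + 1) rfl) _ _ d1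
      (F.e _ (hyp_succ T G hT i N hN)).hom (F.e _ (hyp_succ T G hT i M hM)).hom _ _
      (G.map ((derivedLES T).δ (sesInj N) hSN i (i + 1) rfl))
      (G.map ((derivedLES T).δ (sesInj M) hSM i (i + 1) rfl))
      (G.map ((T.rightDerived (i + 1)).map f)) (G.map ((T.rightDerived i).map φ.τ₃)) pN pM n3
      (by rw [← G.map_comp, d2, G.map_comp])

include hT in
theorem nonempty_fam : ∀ i : ℕ, Nonempty (Fam T G i)
  | 0 => ⟨famZero T G⟩
  | (i + 1) => by
    obtain ⟨F⟩ := nonempty_fam i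
    exact ⟨famSucc T G hT i F⟩

include hT in
/-- **Degenerate Grothendieck spectral sequence, natural form.** -/
theorem exists_natural_iso (i : ℕ) :
    ∃ e : ∀ N : 𝒜, Hyp T G i N →
        (((T ⋙ G).rightDerived i).obj N ≅ G.obj ((T.rightDerived i).obj N)),
      ∀ (N M : 𝒜) (hN : Hyp T G i N) (hM : Hyp T G i M) (f : N ⟶ M),
        ((T ⋙ G).rightDerived i).map f ≫ (e M hM).hom =
          (e N hN).hom ≫ G.map ((T.rightDerived i).map f) := by
  obtain ⟨F⟩ := nonempty_fam T G hT i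
  exact ⟨F.e, F.nat⟩

end Main2

end Groth.Agent.Lib.DegenNatH4
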