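import Mathlib
import Groth.Prelude
import Groth.Agent.Lib.ARSheaf3_helper4
import Groth.Agent.Lib.Exist4_helper2
import Groth.Agent.Lib.CohDev14_helper8

/-!
# Deligne's Artin–Rees statement for the homology of `I^n F^•` (helper2)

* `exists_incl`, `incl`, `incl_ι`: `J ≤ J'` gives `J M ⟶ J' M` over `M`;
* `epi_idealMul_map`: `Dual3.idealMul J` preserves epimorphisms of quasi-coherent modules;
* `exists_AR_lift`: sheaf Artin–Rees (helper4 `ARSheafH4.main`) in the lifting form
  `I^n F ∩ G ⊆ I^(n-k) G`;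
* `sc_main`: Deligne's statement for a short complex of coherent modules;
* `main3668`.
APPEND-ONLY once landed.
-/

set_option autoImplicit false

namespace Groth.Agent.Lib.DeligneARH2

open AlgebraicGeometry CategoryTheory CategoryTheory.Limits TopologicalSpace Opposite
open QcqsLoc QCohExtn CohDevH8

universe u

variable {X : Scheme.{u}}

section Incl

/-- `J ≤ J'` gives `J M ⊆ J' M`. -/
theorem exists_incl (J J' : X.IdealSheafData) (hJ : J ≤ J') (M : X.Modules) [M.IsQuasicoherent] :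
    ∃ ψ : (Dual3.idealMul J).obj M ⟶ (Dual3.idealMul J').obj M,
      ψ ≫ Dual3.idealMulι J' M = Dual3.idealMulι J M := by
  refine exists_lift_of_affine (Dual3.idealMulι J' M) (Dual3.idealMulι J M) (fun V hV s => ?_)
  have h1 := idealMulι_app_mem J M hV s
  have h2 : J.ideal ⟨V, hV⟩ ≤ J'.ideal ⟨V, hV⟩ := hJ ⟨V, hV⟩
  exact exists_idealMulι_app_eq J' M hV _ (Submodule.smul_mono_left h2 h1)

theorem pow_le_pow (I : X.IdealSheafData) {a b : ℕ} (h : b ≤ a) : I ^ a ≤ I ^ b := by
  intro U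
  show I.ideal U ^ a ≤ I.ideal U ^ b
  exact Ideal.pow_le_pow_right h

/-- The inclusion `I^a M ⟶ I^b M` for `b ≤ a` (zero otherwise). -/
noncomputable def incl (I : X.IdealSheafData) (a b : ℕ) (M : X.Modules) [M.IsQuasicoherent] :
    (Dual3.idealMul (I ^ a)).obj M ⟶ (Dual3.idealMul (I ^ b)).obj M :=
  if h : b ≤ a then (exists_incl (I ^ a) (I ^ b) (pow_le_pow I h) M).choose else 0

@[reassoc]
theorem incl_ι (I : X.IdealSheafData) (a b : ℕ) (M : X.Modules) [M.IsQuasicoherent] (h : b ≤ a) :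
    incl I a b M ≫ Dual3.idealMulι (I ^ b) M = Dual3.idealMulι (I ^ a) M := by
  rw [incl, dif_pos h]
  exact (exists_incl (I ^ a) (I ^ b) (pow_le_pow I h) M).choose_spec

end Incl

section Epi

/-- `J·(-)` preserves epimorphisms of quasi-coherent modules. -/
theorem epi_idealMul_map (J : X.IdealSheafData) {A B : X.Modules} [A.IsQuasicoherent]
    [B.IsQuasicoherent] (φ : A ⟶ B) [Epi φ] : Epi ((Dual3.idealMul J).map φ) := by
  refine Groth.Agent.Lib.FormalQuotH2.epi_of_app_surjective_affine _ (fun U hU b => ?_)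
  have hb := idealMulι_app_mem J B hU b
  have key : ∀ m ∈ (J.ideal ⟨U, hU⟩ • (⊤ : Submodule Γ(X, U) Γ(B, U))),
      ∃ a ∈ (J.ideal ⟨U, hU⟩ • (⊤ : Submodule Γ(X, U) Γ(A, U))), ap φ U a = m := by
    intro m hm
    refine Submodule.smul_induction_on hm ?_ ?_
    · intro r hr x _
      obtain ⟨y, hy⟩ := QCohExact.app_surjective_of_epi φ hU x
      have hy' : ap φ U y = x := hy
      exact ⟨r • y, Submodule.smul_mem_smul hr Submodule.mem_top, by rw [ap_smul, hy']⟩
    · rintro x y ⟨a, ha, rfl⟩ ⟨a', ha', rfl⟩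
      exact ⟨a + a', Submodule.add_mem _ ha ha', map_add _ _ _⟩
  obtain ⟨a, ha, hab⟩ := key _ hb
  obtain ⟨s, hs⟩ := exists_idealMulι_app_eq J A hU a ha
  refine ⟨s, ?_⟩
  apply QCohExact.app_injective_of_mono (Dual3.idealMulι J B) U
  show ap (Dual3.idealMulι J B) U (ap ((Dual3.idealMul J).map φ) U s) =
    ap (Dual3.idealMulι J B) U b
  rw [← ARSheafH4.ap_comp, Dual3.idealMul_map_ι, ARSheafH4.ap_comp, hs, hab]

end Epi

section AR

variable [IsNoetherian X]

/-- Sheaf Artin–Rees in lifting form: a map to `G` whose composite to `F` lands in `I^n F`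
lands in `I^(n-k) G`. -/
theorem exists_AR_lift {F G : X.Modules} (hF : Coh.IsCoh F) (hG : Coh.IsQCoh G) (ι : G ⟶ F)
    [Mono ι] (I : X.IdealSheafData) :
    ∃ k : ℕ, ∀ n : ℕ, k ≤ n → ∀ (T : X.Modules) (a : T ⟶ G)
      (b : T ⟶ (Dual3.idealMul (I ^ n)).obj F), a ≫ ι = b ≫ Dual3.idealMulι (I ^ n) F →
      ∃ l : T ⟶ (Dual3.idealMul (I ^ (n - k))).obj G,
        l ≫ Dual3.idealMulι (I ^ (n - k)) G = a := by
  obtain ⟨c, hc⟩ := ARSheafH4.main F G hF hG ι I
  refine ⟨c, fun n hn T a b hab => ?_⟩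
  have h1 := hc n hn
  have hfac : (Subobject.mk (Dual3.idealMulι (I ^ n) F) ⊓ Subobject.mk ι).Factors (a ≫ ι) := by
    rw [Subobject.inf_factors]
    refine ⟨?_, ?_⟩
    · rw [hab]
      exact Subobject.factors_of_factors_right b (Subobject.mk_factors_self _)
    · exact Subobject.factors_of_factors_right a (Subobject.mk_factors_self _)
  rw [← h1] at hfac
  set P := Subobject.mk (Dual3.idealMulι (I ^ c) F) ⊓ Subobject.mk ι with hP
  have hmono : Mono (Dual3.idealMulι (I ^ (n - c)) (Subobject.underlying.obj P) ≫ P.arrow) :=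
    mono_comp _ _
  let l0 : T ⟶ (Dual3.idealMul (I ^ (n - c))).obj (Subobject.underlying.obj P) :=
    Subobject.factorThru _ _ hfac ≫ (Subobject.underlyingIso _).hom
  have hl0 : l0 ≫ Dual3.idealMulι (I ^ (n - c)) (Subobject.underlying.obj P) ≫ P.arrow =
      a ≫ ι := by
    rw [Category.assoc, Subobject.underlyingIso_hom_comp_eq_mk, Subobject.factorThru_arrow]
  let q : Subobject.underlying.obj P ⟶ G := Subobject.ofLEMk P ι inf_le_right
  have hq : q ≫ ι = P.arrow := Subobject.ofLEMk_comp _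
  refine ⟨l0 ≫ (Dual3.idealMul (I ^ (n - c))).map q, ?_⟩
  rw [← cancel_mono ι, Category.assoc, Category.assoc, Dual3.idealMul_map_ι_assoc, hq]
  exact hl0

end AR

section Main

variable [IsNoetherian X] (I : X.IdealSheafData) (S : ShortComplex X.Modules)

/-- The inclusion of short complexes `I^n S ⟶ S`. -/
noncomputable def scι (n : ℕ) : S.map (Dual3.idealMul (I ^ n)) ⟶ S where
  τ₁ := Dual3.idealMulι (I ^ n) S.X₁
  τ₂ := Dual3.idealMulι (I ^ n) S.X₂
  τ₃ := Dual3.idealMulι (I ^ n) S.X₃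
  comm₁₂ := (Dual3.idealMul_map_ι (I ^ n) S.f).symm
  comm₂₃ := (Dual3.idealMul_map_ι (I ^ n) S.g).symm

/-- `θ_n : I^n Z(S) ⟶ Z(I^n S)`. -/
noncomputable def theta (n : ℕ) :
    (Dual3.idealMul (I ^ n)).obj S.cycles ⟶ (S.map (Dual3.idealMul (I ^ n))).cycles :=
  (S.map (Dual3.idealMul (I ^ n))).liftCycles ((Dual3.idealMul (I ^ n)).map S.iCycles) (by
    show (Dual3.idealMul (I ^ n)).map S.iCycles ≫ (Dual3.idealMul (I ^ n)).map S.g = 0
    rw [← Functor.map_comp, S.iCycles_g, Functor.map_zero])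

@[reassoc]
theorem theta_i (n : ℕ) :
    theta I S n ≫ (S.map (Dual3.idealMul (I ^ n))).iCycles =
      (Dual3.idealMul (I ^ n)).map S.iCycles :=
  ShortComplex.liftCycles_i _ _ _

@[reassoc]
theorem theta_cyclesMap (n : ℕ) :
    theta I S n ≫ ShortComplex.cyclesMap (scι I S n) = Dual3.idealMulι (I ^ n) S.cycles := by
  rw [← cancel_mono S.iCycles, Category.assoc, ShortComplex.cyclesMap_i, theta_i_assoc]
  exact Dual3.idealMul_map_ι _ _

@[reassoc]
theorem map_toCycles_theta (n : ℕ) :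
    (Dual3.idealMul (I ^ n)).map S.toCycles ≫ theta I S n =
      (S.map (Dual3.idealMul (I ^ n))).toCycles := by
  have h1 : (S.map (Dual3.idealMul (I ^ n))).toCycles ≫
      (S.map (Dual3.idealMul (I ^ n))).iCycles = (Dual3.idealMul (I ^ n)).map S.f :=
    ShortComplex.toCycles_i _
  have h2 : (Dual3.idealMul (I ^ n)).map S.toCycles ≫ (Dual3.idealMul (I ^ n)).map S.iCycles =
      (Dual3.idealMul (I ^ n)).map S.f := by
    rw [← Functor.map_comp, S.toCycles_i]
  rw [← cancel_mono (S.map (Dual3.idealMul (I ^ n))).iCycles, Category.assoc, theta_i]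
  exact h2.trans h1.symm

theorem sc_main (h₁ : Coh.IsCoh S.X₁) (h₂ : Coh.IsCoh S.X₂) (h₃ : Coh.IsCoh S.X₃) :
    ∃ (c : ℕ) (φ : ∀ n : ℕ, (S.map (Dual3.idealMul (I ^ n))).homology ⟶
        (Dual3.idealMul (I ^ (n - c))).obj S.homology)
      (ψ : ∀ n : ℕ, (Dual3.idealMul (I ^ n)).obj S.homology ⟶
        (S.map (Dual3.idealMul (I ^ (n - c)))).homology),
      0 < c ∧
      (∀ n : ℕ, c ≤ n → φ n ≫ Dual3.idealMulι (I ^ (n - c)) S.homology =
        ShortComplex.homologyMap (scι I S n)) ∧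
      (∀ n : ℕ, c ≤ n → ψ n ≫ ShortComplex.homologyMap (scι I S (n - c)) =
        Dual3.idealMulι (I ^ n) S.homology) ∧
      (∀ n : ℕ, 2 * c ≤ n → (ψ n ≫ φ (n - c)) ≫ Dual3.idealMulι (I ^ (n - c - c)) S.homology =
        Dual3.idealMulι (I ^ n) S.homology) ∧
      ∀ n : ℕ, 2 * c ≤ n → ∀ t : S.map (Dual3.idealMul (I ^ n)) ⟶
          S.map (Dual3.idealMul (I ^ (n - c - c))),
        t ≫ scι I S (n - c - c) = scι I S n → φ n ≫ ψ (n - c) = ShortComplex.homologyMap t := by
  classical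
  have hZ : Coh.IsCoh S.cycles :=
    CohDevH8.isCoh_of_iso S.cyclesIsoKernel (CohKerH8.isCoh_kernel h₂ h₃ S.g)
  have hH : Coh.IsCoh S.homology :=
    CohDevH8.isCoh_of_iso
      (IsColimit.coconePointUniqueUpToIso S.homologyIsCokernel (cokernelIsCokernel S.toCycles))
      (CohKerH8.isCoh_cokernel h₁ hZ S.toCycles)
  have hB : Coh.IsCoh (kernel S.homologyπ) := CohKerH8.isCoh_kernel hZ hH S.homologyπ
  haveI : S.X₁.IsQuasicoherent := h₁.1
  haveI : S.X₂.IsQuasicoherent := h₂.1
  haveI : S.cycles.IsQuasicoherent := hZ.1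
  haveI : S.homology.IsQuasicoherent := hH.1
  haveI : (kernel S.homologyπ).IsQuasicoherent := hB.1
  obtain ⟨k₁, hk₁⟩ := exists_AR_lift h₂ hZ.1 S.iCycles I
  obtain ⟨k₂, hk₂⟩ := exists_AR_lift hZ hB.1 (kernel.ι S.homologyπ) I
  set c := max (max k₁ k₂) 1 with hc
  have hck₁ : k₁ ≤ c := le_trans (le_max_left _ _) (le_max_left _ _)
  have hck₂ : k₂ ≤ c := le_trans (le_max_right _ _) (le_max_left _ _)
  have hc1 : 1 ≤ c := le_max_right _ _
  -- the maps `λ_n : Z(I^n S) ⟶ I^(n-c) Z(S)`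
  have hlamEx : ∀ n : ℕ, ∃ l : (S.map (Dual3.idealMul (I ^ n))).cycles ⟶
      (Dual3.idealMul (I ^ (n - c))).obj S.cycles, c ≤ n →
      l ≫ Dual3.idealMulι (I ^ (n - c)) S.cycles = ShortComplex.cyclesMap (scι I S n) := by
    intro n
    by_cases hn : c ≤ n
    · obtain ⟨l, hl⟩ := hk₁ n (by omega) _ (ShortComplex.cyclesMap (scι I S n))
        (S.map (Dual3.idealMul (I ^ n))).iCycles (ShortComplex.cyclesMap_i _)
      refine ⟨l ≫ incl I (n - k₁) (n - c) S.cycles, fun _ => ?_⟩
      rw [Category.assoc, incl_ι I _ _ _ (by omega), hl]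
    · exact ⟨0, fun h => absurd h hn⟩
  choose lam hlam using hlamEx
  -- the maps `φ_n`
  have hφ : ∀ n : ℕ, ∃ f : (S.map (Dual3.idealMul (I ^ n))).homology ⟶
      (Dual3.idealMul (I ^ (n - c))).obj S.homology, c ≤ n →
      (S.map (Dual3.idealMul (I ^ n))).homologyπ ≫ f =
        lam n ≫ (Dual3.idealMul (I ^ (n - c))).map S.homologyπ := by
    intro n
    by_cases hn : c ≤ n
    · have hz : (S.map (Dual3.idealMul (I ^ n))).toCycles ≫
          lam n ≫ (Dual3.idealMul (I ^ (n - c))).map S.homologyπ = 0 := by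
        rw [← cancel_mono (Dual3.idealMulι (I ^ (n - c)) S.homology), zero_comp, Category.assoc,
          Category.assoc, Dual3.idealMul_map_ι, reassoc_of% (hlam n hn),
          ← ShortComplex.homologyπ_naturality, ShortComplex.toCycles_comp_homologyπ_assoc,
          zero_comp]
      exact ⟨(S.map (Dual3.idealMul (I ^ n))).descHomology _ hz,
        fun _ => ShortComplex.π_descHomology _ _ hz⟩
    · exact ⟨0, fun h => absurd h hn⟩
  choose φ hφ' using hφ
  -- the epimorphism `X₁ ⟶ ker π`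
  let e : S.X₁ ⟶ kernel S.homologyπ := kernel.lift _ S.toCycles S.toCycles_comp_homologyπ
  have he : e ≫ kernel.ι S.homologyπ = S.toCycles := kernel.lift_ι _ _ _
  haveI : Epi e :=
    (ShortComplex.exact_of_g_is_cokernel
      (ShortComplex.mk S.toCycles S.homologyπ S.toCycles_comp_homologyπ)
      S.homologyIsCokernel).epi_kernelLift
  -- the maps `ψ_n`
  have hψ : ∀ n : ℕ, ∃ g : (Dual3.idealMul (I ^ n)).obj S.homology ⟶
      (S.map (Dual3.idealMul (I ^ (n - c)))).homology, c ≤ n →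
      (Dual3.idealMul (I ^ n)).map S.homologyπ ≫ g =
        incl I n (n - c) S.cycles ≫ theta I S (n - c) ≫
          (S.map (Dual3.idealMul (I ^ (n - c)))).homologyπ := by
    intro n
    by_cases hn : c ≤ n
    · haveI : Epi ((Dual3.idealMul (I ^ n)).map S.homologyπ) := epi_idealMul_map _ _
      have hker : kernel.ι ((Dual3.idealMul (I ^ n)).map S.homologyπ) ≫
          incl I n (n - c) S.cycles ≫ theta I S (n - c) ≫
            (S.map (Dual3.idealMul (I ^ (n - c)))).homologyπ = 0 := by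
        have h0 : (kernel.ι ((Dual3.idealMul (I ^ n)).map S.homologyπ) ≫
            Dual3.idealMulι (I ^ n) S.cycles) ≫ S.homologyπ = 0 := by
          rw [Category.assoc, ← Dual3.idealMul_map_ι, ← Category.assoc, kernel.condition,
            zero_comp]
        have ha : kernel.lift S.homologyπ _ h0 ≫ kernel.ι S.homologyπ =
            kernel.ι ((Dual3.idealMul (I ^ n)).map S.homologyπ) ≫
              Dual3.idealMulι (I ^ n) S.cycles := kernel.lift_ι _ _ _
        obtain ⟨l, hl⟩ := hk₂ n (by omega) _ (kernel.lift S.homologyπ _ h0)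
          (kernel.ι ((Dual3.idealMul (I ^ n)).map S.homologyπ)) ha
        have hl' : l ≫ incl I (n - k₂) (n - c) (kernel S.homologyπ) ≫
            Dual3.idealMulι (I ^ (n - c)) (kernel S.homologyπ) = kernel.lift S.homologyπ _ h0 := by
          rw [incl_ι I _ _ _ (by omega), hl]
        have h1 : kernel.ι ((Dual3.idealMul (I ^ n)).map S.homologyπ) ≫
            incl I n (n - c) S.cycles =
            l ≫ incl I (n - k₂) (n - c) (kernel S.homologyπ) ≫
              (Dual3.idealMul (I ^ (n - c))).map (kernel.ι S.homologyπ) := by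
          rw [← cancel_mono (Dual3.idealMulι (I ^ (n - c)) S.cycles), Category.assoc,
            incl_ι I _ _ _ (Nat.sub_le n c), Category.assoc, Category.assoc,
            Dual3.idealMul_map_ι, reassoc_of% hl', ha]
        have h2 : (Dual3.idealMul (I ^ (n - c))).map (kernel.ι S.homologyπ) ≫
            theta I S (n - c) ≫ (S.map (Dual3.idealMul (I ^ (n - c)))).homologyπ = 0 := by
          haveI : Epi ((Dual3.idealMul (I ^ (n - c))).map e) := epi_idealMul_map _ _
          rw [← cancel_epi ((Dual3.idealMul (I ^ (n - c))).map e), comp_zero, ← Category.assoc,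
            ← Functor.map_comp, he, map_toCycles_theta_assoc]
          exact ShortComplex.toCycles_comp_homologyπ _
        rw [reassoc_of% h1, h2, comp_zero, comp_zero]
      exact ⟨Abelian.epiDesc _ _ hker, fun _ => Abelian.comp_epiDesc _ _ hker⟩
    · exact ⟨0, fun h => absurd h hn⟩
  choose ψ hψ' using hψ
  have H1 : ∀ n : ℕ, c ≤ n → φ n ≫ Dual3.idealMulι (I ^ (n - c)) S.homology =
      ShortComplex.homologyMap (scι I S n) := by
    intro n hn
    rw [← cancel_epi (S.map (Dual3.idealMul (I ^ n))).homologyπ, reassoc_of% (hφ' n hn),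
      Dual3.idealMul_map_ι, reassoc_of% (hlam n hn), ShortComplex.homologyπ_naturality]
  have H2 : ∀ n : ℕ, c ≤ n → ψ n ≫ ShortComplex.homologyMap (scι I S (n - c)) =
      Dual3.idealMulι (I ^ n) S.homology := by
    intro n hn
    haveI : Epi ((Dual3.idealMul (I ^ n)).map S.homologyπ) := epi_idealMul_map _ _
    rw [← cancel_epi ((Dual3.idealMul (I ^ n)).map S.homologyπ), reassoc_of% (hψ' n hn),
      ShortComplex.homologyπ_naturality, theta_cyclesMap_assoc,
      incl_ι_assoc I _ _ _ (Nat.sub_le n c), Dual3.idealMul_map_ι]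
  refine ⟨c, φ, ψ, by omega, H1, H2, ?_, ?_⟩
  · intro n hn
    rw [Category.assoc, H1 (n - c) (by omega), H2 n (by omega)]
  · intro n hn t ht
    have key : lam n ≫ incl I (n - c) (n - c - c) S.cycles ≫ theta I S (n - c - c) =
        ShortComplex.cyclesMap t := by
      have hm : Mono (ShortComplex.cyclesMap (scι I S (n - c - c))) := by
        have hm2 : Mono (ShortComplex.cyclesMap (scι I S (n - c - c)) ≫ S.iCycles) := by
          rw [ShortComplex.cyclesMap_i]
          haveI : Mono (scι I S (n - c - c)).τ₂ :=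
            inferInstanceAs (Mono (Dual3.idealMulι (I ^ (n - c - c)) S.X₂))
          exact mono_comp _ _
        exact mono_of_mono _ S.iCycles
      rw [← cancel_mono (ShortComplex.cyclesMap (scι I S (n - c - c)))]
      simp only [Category.assoc]
      rw [theta_cyclesMap, incl_ι I _ _ _ (Nat.sub_le _ c), hlam n (by omega),
        ← ShortComplex.cyclesMap_comp, ht]
    rw [← cancel_epi (S.map (Dual3.idealMul (I ^ n))).homologyπ,
      reassoc_of% (hφ' n (by omega)), hψ' (n - c) (by omega),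
      ShortComplex.homologyπ_naturality, ← key]
    simp only [Category.assoc]

theorem main3668 (F : CochainComplex X.Modules ℤ) (hFc : ∀ q : ℤ, Coh.IsCoh (F.X q)) (p : ℤ) :
    ∃ (c : ℕ) (φ : ∀ n : ℕ, ((Dual3.deligne I n).obj F).homology p ⟶ (Dual3.idealMul (I ^ (n - c))).obj (F.homology p)) (ψ : ∀ n : ℕ, (Dual3.idealMul (I ^ n)).obj (F.homology p) ⟶ ((Dual3.deligne I (n - c)).obj F).homology p), 0 < c ∧ (∀ n : ℕ, c ≤ n → φ n ≫ Dual3.idealMulι (I ^ (n - c)) (F.homology p) = HomologicalComplex.homologyMap (Dual3.deligneι I n F) p) ∧ (∀ n : ℕ, c ≤ n → ψ n ≫ HomologicalComplex.homologyMap (Dual3.deligneι I (n - c) F) p = Dual3.idealMulι (I ^ n) (F.homology p)) ∧ (∀ n : ℕ, 2 * c ≤ n → (ψ n ≫ φ (n - c)) ≫ Dual3.idealMulι (I ^ (n - c - c)) (F.homology p) = Dual3.idealMulι (I ^ n) (F.homology p)) ∧ ∀ (n : ℕ), 2 * c ≤ n → ∀ t : (Dual3.deligne I n).obj F ⟶ (Dual3.deligne I (n - c - c)).obj F, t ≫ Dual3.deligneι I (n - c - c) F = Dual3.deligneι I n F → φ n ≫ ψ (n - c)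 = HomologicalComplex.homologyMap t p := by
  obtain ⟨c, φ, ψ, hc, h1, h2, h3, h4⟩ := sc_main I (F.sc p) (hFc _) (hFc _) (hFc _)
  refine ⟨c, φ, ψ, hc, h1, h2, h3, fun n hn t ht => ?_⟩
  refine h4 n hn ((HomologicalComplex.shortComplexFunctor _ _ p).map t) ?_
  have := congrArg (fun f => (HomologicalComplex.shortComplexFunctor _ _ p).map f) ht
  rw [Functor.map_comp] at this
  exact this

end Main

end Groth.Agent.Lib.DeligneARH2
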