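import Mathlib
import Groth.Agent.Lib.CartierRed_helper1

set_option autoImplicit false
set_option maxHeartbeats 1000000

universe u v

open TensorProduct Coalgebra

namespace InfOrderH1

section OneStep

variable {k : Type u} {A : Type v} [Field k] [CommRing A] [Algebra k A]

/-- `D` satisfies the Leibniz rule on the subalgebra `S`. -/
def LeibOn (S : Subalgebra k A) (D : A →ₗ[k] A) : Prop :=
  ∀ s ∈ S, ∀ t ∈ S, D (s * t) = s * D t + D s * t

theorem LeibOn.map_one {S : Subalgebra k A} {D : A →ₗ[k] A} (h : LeibOn S D) : D 1 = 0 := by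
  have h1 := h 1 S.one_mem 1 S.one_mem
  rw [mul_one, one_mul, mul_one] at h1
  have h2 : D 1 + 0 = D 1 + D 1 := by rw [add_zero]; exact h1
  exact (add_left_cancel h2).symm

theorem LeibOn.map_pow_succ {S : Subalgebra k A} {D : A →ₗ[k] A} (h : LeibOn S D) {s : A}
    (hs : s ∈ S) (n : ℕ) : D (s ^ (n + 1)) = (n + 1 : ℕ) • (s ^ n * D s) := by
  induction n with
  | zero => simp
  | succ n ih =>
    rw [pow_succ, h _ (S.pow_mem hs _) _ hs, ih]
    simp only [nsmul_eq_mul]
    push_cast
    ring

/-- the subalgebra of elements of `S` killed by `D` -/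
def kerSub (S : Subalgebra k A) (D : A →ₗ[k] A) (hD : LeibOn S D) : Subalgebra k A where
  carrier := {a | a ∈ S ∧ D a = 0}
  mul_mem' := by
    rintro a b ⟨ha, ha0⟩ ⟨hb, hb0⟩
    exact ⟨S.mul_mem ha hb, by rw [hD a ha b hb, ha0, hb0, mul_zero, zero_mul, add_zero]⟩
  add_mem' := by
    rintro a b ⟨ha, ha0⟩ ⟨hb, hb0⟩
    exact ⟨S.add_mem ha hb, by rw [map_add, ha0, hb0, add_zero]⟩
  algebraMap_mem' := fun r =>
    ⟨S.algebraMap_mem r, by rw [Algebra.algebraMap_eq_smul_one, map_smul, hD.map_one, smul_zero]⟩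

variable (p : ℕ) [hp : Fact p.Prime] [CharP k p]

theorem indep {S C : Subalgebra k A} (hCS : C ≤ S) {D : A →ₗ[k] A} (hD : LeibOn S D)
    (hDC : ∀ c ∈ C, D c = 0) {x : A} (hxS : x ∈ S) (hDx : D x = 1) :
    ∀ d, d ≤ p → ∀ c : ℕ → A, (∀ i, c i ∈ C) →
      ∑ i ∈ Finset.range d, c i * x ^ i = 0 → ∀ i < d, c i = 0 := by
  intro d
  induction d with
  | zero => intro _ c _ _ i hi; exact absurd hi (Nat.not_lt_zero _)
  | succ d ih =>
    intro hd c hc hsum i hi
    have hDsum : ∑ j ∈ Finset.range d, ((j + 1 : ℕ) • c (j + 1)) * x ^ j = 0 := by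
      have h1 := congrArg D hsum
      rw [map_zero, map_sum, Finset.sum_range_succ'] at h1
      have h2 : D (c 0 * x ^ 0) = 0 := by rw [pow_zero, mul_one]; exact hDC _ (hc 0)
      rw [h2, add_zero] at h1
      rw [← h1]
      apply Finset.sum_congr rfl
      intro j _
      rw [hD _ (hCS (hc _)) _ (S.pow_mem hxS _), hDC _ (hc _), zero_mul, add_zero,
        hD.map_pow_succ hxS, hDx, mul_one, smul_mul_assoc, mul_smul_comm]
    have hc' : ∀ j, ((j + 1 : ℕ) • c (j + 1)) ∈ C := fun j => C.nsmul_mem (hc _) _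
    have hz := ih (Nat.le_of_succ_le hd) (fun j => (j + 1 : ℕ) • c (j + 1)) hc' hDsum
    have hpos : ∀ j < d, c (j + 1) = 0 := by
      intro j hj
      have h3 := hz j hj
      have hne : ((j + 1 : ℕ) : k) ≠ 0 := by
        intro h0
        have := (CharP.cast_eq_zero_iff k p (j + 1)).mp h0
        exact Nat.not_dvd_of_pos_of_lt (Nat.succ_pos j) (by omega) this
      have h4 : ((j + 1 : ℕ) : k) • c (j + 1) = 0 := by
        rw [Nat.cast_smul_eq_nsmul]; exact h3
      exact (smul_eq_zero.mp h4).resolve_left hne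
    rcases Nat.eq_zero_or_pos i with rfl | hipos
    · rw [Finset.sum_range_succ'] at hsum
      have h5 : ∑ j ∈ Finset.range d, c (j + 1) * x ^ (j + 1) = 0 :=
        Finset.sum_eq_zero (fun j hj => by rw [hpos j (Finset.mem_range.mp hj), zero_mul])
      rw [h5, zero_add, pow_zero, mul_one] at hsum
      exact hsum
    · obtain ⟨j, rfl⟩ := Nat.exists_eq_succ_of_ne_zero (Nat.pos_iff_ne_zero.mp hipos)
      exact hpos j (by omega)

theorem one_step [Module.Finite k A] {S C : Subalgebra k A} (hCS : C ≤ S) {D : A →ₗ[k] A}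
    (hD : LeibOn S D) (hDC : ∀ c ∈ C, D c = 0) {x : A} (hxS : x ∈ S) (hxp : x ^ p ∈ C)
    (hDx : D x = 1) :
    Module.finrank k ↥(C ⊔ Algebra.adjoin k {x}) = p * Module.finrank k ↥C := by
  classical
  let f : (Fin p → C) →ₗ[k] A :=
    ∑ i : Fin p, (LinearMap.mulRight k (x ^ (i : ℕ))) ∘ₗ C.val.toLinearMap ∘ₗ (LinearMap.proj i)
  have hf : ∀ c, f c = ∑ i : Fin p, (c i : A) * x ^ (i : ℕ) := by
    intro c; simp [f, LinearMap.sum_apply]
  have hpp : 0 < p := hp.out.pos
  have hinj : Function.Injective f := by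
    rw [← LinearMap.ker_eq_bot, LinearMap.ker_eq_bot']
    intro c hc0
    rw [hf] at hc0
    let g : ℕ → A := fun i => if h : i < p then (c ⟨i, h⟩ : A) else 0
    have hg : ∀ i, g i ∈ C := by
      intro i
      simp only [g]
      split_ifs
      exacts [(c _).2, C.zero_mem]
    have hsum : ∑ i ∈ Finset.range p, g i * x ^ i = 0 := by
      rw [← Fin.sum_univ_eq_sum_range (fun i => g i * x ^ i) p, ← hc0]
      apply Finset.sum_congr rfl
      intro i _
      simp [g, i.2]
    have hz := indep p hCS hD hDC hxS hDx p le_rfl g hg hsum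
    funext i
    have h6 := hz i i.2
    simp only [g, i.2, dif_pos] at h6
    exact Subtype.ext (by simpa using h6)
  have hterm : ∀ c ∈ C, ∀ n, c * x ^ n ∈ LinearMap.range f := by
    intro c hc n
    have h7 : c * x ^ n = (c * (x ^ p) ^ (n / p)) * x ^ (n % p) := by
      rw [mul_assoc, ← pow_mul, ← pow_add, Nat.div_add_mod]
    rw [h7]
    refine ⟨Pi.single ⟨n % p, Nat.mod_lt _ hpp⟩
      ⟨c * (x ^ p) ^ (n / p), C.mul_mem hc (C.pow_mem hxp _)⟩, ?_⟩
    rw [hf, Finset.sum_eq_single ⟨n % p, Nat.mod_lt _ hpp⟩]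
    · simp
    · intro b _ hb
      rw [Pi.single_eq_of_ne hb]
      simp
    · intro h; exact absurd (Finset.mem_univ _) h
  have hrange : LinearMap.range f = Subalgebra.toSubmodule (C ⊔ Algebra.adjoin k {x}) := by
    apply le_antisymm
    · rintro _ ⟨c, rfl⟩
      rw [hf]
      refine Submodule.sum_mem _ (fun i _ => ?_)
      exact Subalgebra.mul_mem _ ((le_sup_left : C ≤ C ⊔ Algebra.adjoin k {x}) (c i).2)
        (Subalgebra.pow_mem _ ((le_sup_right : Algebra.adjoin k {x} ≤ C ⊔ Algebra.adjoin k {x})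
          (Algebra.self_mem_adjoin_singleton k x)) _)
    · have hmul : ∀ a ∈ LinearMap.range f, ∀ b ∈ LinearMap.range f,
          a * b ∈ LinearMap.range f := by
        rintro _ ⟨c, rfl⟩ _ ⟨c', rfl⟩
        rw [hf, hf, Finset.sum_mul_sum]
        refine Submodule.sum_mem _ (fun i _ => Submodule.sum_mem _ (fun j _ => ?_))
        have h8 : (c i : A) * x ^ (i : ℕ) * ((c' j : A) * x ^ (j : ℕ)) =
            ((c i : A) * (c' j : A)) * x ^ ((i : ℕ) + (j : ℕ)) := by rw [pow_add]; ring
        rw [h8]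
        exact hterm _ (C.mul_mem (c i).2 (c' j).2) _
      let T : Subalgebra k A :=
        { carrier := LinearMap.range f
          mul_mem' := fun ha hb => hmul _ ha _ hb
          add_mem' := fun ha hb => Submodule.add_mem _ ha hb
          algebraMap_mem' := fun r => by
            have h9 := hterm (algebraMap k A r) (C.algebraMap_mem r) 0
            simpa using h9 }
      have hle : C ⊔ Algebra.adjoin k {x} ≤ T := by
        apply sup_le
        · intro c hc
          have h9 := hterm c hc 0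
          rw [pow_zero, mul_one] at h9
          exact h9
        · apply Algebra.adjoin_le
          intro y hy
          rw [Set.mem_singleton_iff] at hy
          subst hy
          have h9 := hterm 1 C.one_mem 1
          rw [pow_one, one_mul] at h9
          exact h9
      intro a ha
      exact hle ha
  rw [← Subalgebra.finrank_toSubmodule, ← hrange, LinearMap.finrank_range_of_inj hinj,
    Module.finrank_pi_fintype]
  simp

theorem chain [Module.Finite k A] {S S' : Subalgebra k A} (hS'S : S' ≤ S) (g : ℕ) (x : Fin g → A)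
    (hx : ∀ j, x j ∈ S) (hxp : ∀ j, x j ^ p ∈ S')
    (D : Fin g → A →ₗ[k] A) (hD : ∀ j, LeibOn S (D j)) (hDS' : ∀ j, ∀ c ∈ S', D j c = 0)
    (hDx : ∀ i j, D i (x j) = if i = j then 1 else 0) :
    ∀ j, j ≤ g → Module.finrank k ↥(S' ⊔ Algebra.adjoin k (x '' {i : Fin g | (i : ℕ) < j})) =
      p ^ j * Module.finrank k ↥S' := by
  intro j
  induction j with
  | zero =>
    intro _
    have h0 : {i : Fin g | (i : ℕ) < 0} = ∅ := by ext i; simp
    rw [h0, Set.image_empty, Algebra.adjoin_empty, sup_bot_eq, pow_zero, one_mul]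
  | succ j ih =>
    intro hj
    have hjg : j < g := hj
    have hset : {i : Fin g | (i : ℕ) < j + 1} = insert ⟨j, hjg⟩ {i : Fin g | (i : ℕ) < j} := by
      ext i
      simp only [Set.mem_ofPred_eq, Set.mem_insert_iff, Fin.ext_iff]
      omega
    have hC : S' ⊔ Algebra.adjoin k (x '' {i : Fin g | (i : ℕ) < j + 1}) =
        (S' ⊔ Algebra.adjoin k (x '' {i : Fin g | (i : ℕ) < j})) ⊔
          Algebra.adjoin k {x ⟨j, hjg⟩} := by
      rw [hset, Set.image_insert_eq, Set.insert_eq, Algebra.adjoin_union,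
        sup_comm (Algebra.adjoin k {x ⟨j, hjg⟩}), ← sup_assoc]
    rw [hC]
    have hCS : S' ⊔ Algebra.adjoin k (x '' {i : Fin g | (i : ℕ) < j}) ≤ S :=
      sup_le hS'S (Algebra.adjoin_le (by rintro _ ⟨i, _, rfl⟩; exact hx i))
    have hCK : S' ⊔ Algebra.adjoin k (x '' {i : Fin g | (i : ℕ) < j}) ≤
        kerSub S (D ⟨j, hjg⟩) (hD _) := by
      apply sup_le
      · intro c hc
        exact ⟨hS'S hc, hDS' _ c hc⟩
      · apply Algebra.adjoin_le
        rintro _ ⟨i, hi, rfl⟩
        refine ⟨hx i, ?_⟩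
        rw [hDx, if_neg]
        intro h
        rw [← h] at hi
        simp at hi
    rw [one_step p hCS (hD ⟨j, hjg⟩) (fun c hc => (hCK hc).2) (hx _)
      ((le_sup_left : S' ≤ S' ⊔ Algebra.adjoin k (x '' {i : Fin g | (i : ℕ) < j})) (hxp _))
      (by rw [hDx, if_pos rfl]), ih (Nat.le_of_succ_le hj), pow_succ]
    ring

end OneStep


section Hopf

variable {k : Type u} {A : Type v} [Field k] [CommRing A] [Bialgebra k A]

/-- `S` is stable under the comultiplication. -/
def Stable (S : Subalgebra k A) : Prop :=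
  ∀ s ∈ S, comul (R := k) s ∈
    LinearMap.range (TensorProduct.map S.val.toLinearMap S.val.toLinearMap)

/-- `a ↦ Σ a₁ Λ(a₂)` -/
noncomputable def T (Λ : A →ₗ[k] k) : A →ₗ[k] A :=
  (TensorProduct.rid k A).toLinearMap ∘ₗ (LinearMap.lTensor A Λ) ∘ₗ comul

theorem T_apply (Λ : A →ₗ[k] k) (a : A) :
    T Λ a = (TensorProduct.rid k A) (LinearMap.lTensor A Λ (comul a)) := rfl

theorem T_leib {S : Subalgebra k A} (hS : Stable S) (Λ : A →ₗ[k] k)
    (hΛ : ∀ s ∈ S, ∀ t ∈ S, Λ (s * t) = counit (R := k) s * Λ t + Λ s * counit (R := k) t) :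
    LeibOn S (T Λ) := by
  intro s hs t ht
  obtain ⟨w, hw⟩ := hS s hs
  obtain ⟨w', hw'⟩ := hS t ht
  have key : ∀ w w' : S ⊗[k] S,
      (TensorProduct.rid k A) (LinearMap.lTensor A Λ
        (TensorProduct.map S.val.toLinearMap S.val.toLinearMap w *
          TensorProduct.map S.val.toLinearMap S.val.toLinearMap w')) =
      (TensorProduct.rid k A) (LinearMap.lTensor A (counit (R := k) (A := A))
          (TensorProduct.map S.val.toLinearMap S.val.toLinearMap w)) *
        (TensorProduct.rid k A) (LinearMap.lTensor A Λ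
          (TensorProduct.map S.val.toLinearMap S.val.toLinearMap w')) +
      (TensorProduct.rid k A) (LinearMap.lTensor A Λ
          (TensorProduct.map S.val.toLinearMap S.val.toLinearMap w)) *
        (TensorProduct.rid k A) (LinearMap.lTensor A (counit (R := k) (A := A))
          (TensorProduct.map S.val.toLinearMap S.val.toLinearMap w')) := by
    intro w
    induction w using TensorProduct.induction_on with
    | zero => intro w'; simp
    | tmul a b =>
      intro w'
      induction w' using TensorProduct.induction_on with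
      | zero => simp
      | tmul a' b' =>
        simp only [TensorProduct.map_tmul, AlgHom.toLinearMap_apply, Subalgebra.coe_val,
          Algebra.TensorProduct.tmul_mul_tmul, LinearMap.lTensor_tmul, TensorProduct.rid_tmul]
        rw [hΛ _ b.2 _ b'.2]
        simp only [Algebra.smul_def, map_add, map_mul]
        ring
      | add x y hx hy =>
        simp only [map_add, mul_add, hx, hy]
        ring
    | add x y hx hy =>
      intro w'
      simp only [map_add, add_mul, hx w', hy w']
      ring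
  rw [T_apply, T_apply, T_apply, Bialgebra.comul_mul, ← hw, ← hw', key w w', hw, hw',
    Coalgebra.lTensor_counit_comul, Coalgebra.lTensor_counit_comul, TensorProduct.rid_tmul,
    TensorProduct.rid_tmul, one_smul, one_smul]

theorem T_counit (Λ : A →ₗ[k] k) (a : A) : counit (R := k) (T Λ a) = Λ a := by
  have key : ∀ z : A ⊗[k] A,
      counit (R := k) ((TensorProduct.rid k A) (LinearMap.lTensor A Λ z)) =
        Λ ((TensorProduct.lid k A) (LinearMap.rTensor A (counit (R := k) (A := A)) z)) := by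
    intro z
    induction z using TensorProduct.induction_on with
    | zero => simp
    | tmul x y =>
      rw [LinearMap.lTensor_tmul, TensorProduct.rid_tmul, LinearMap.rTensor_tmul,
        TensorProduct.lid_tmul, map_smul, map_smul, smul_eq_mul, smul_eq_mul, mul_comm]
    | add x y hx hy => simp only [map_add, hx, hy]
  rw [T_apply, key, Coalgebra.rTensor_counit_comul, TensorProduct.lid_tmul, one_smul]

variable (p : ℕ) [hp : Fact p.Prime] [CharP k p]

/-- the subalgebra generated by the `p`-th powers of elements of `S` -/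
def frobSub (S : Subalgebra k A) : Subalgebra k A :=
  Algebra.adjoin k ((fun s => s ^ p) '' (S : Set A))

theorem frobSub_le (S : Subalgebra k A) : frobSub p S ≤ S :=
  Algebra.adjoin_le (by rintro _ ⟨s, hs, rfl⟩; exact S.pow_mem hs p)

theorem stable_frobSub [Nontrivial A] {S : Subalgebra k A} (hS : Stable S) :
    Stable (frobSub p S) := by
  let R' : Subalgebra k (A ⊗[k] A) :=
    (Algebra.TensorProduct.map (frobSub p S).val (frobSub p S).val).range
  have hR' : ∀ z, z ∈ R' → z ∈ LinearMap.range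
      (TensorProduct.map (frobSub p S).val.toLinearMap (frobSub p S).val.toLinearMap) :=
    fun z ⟨y, hy⟩ => ⟨y, hy⟩
  haveI : Nontrivial S := ⟨⟨0, 1, fun h => zero_ne_one (α := A) (congrArg Subtype.val h)⟩⟩
  haveI : Nontrivial (S ⊗[k] S) :=
    Algebra.TensorProduct.nontrivial_of_algebraMap_injective_of_flat_left (R := k) (A := S)
      (B := S) (algebraMap k S).injective
  haveI : CharP (S ⊗[k] S) p :=
    charP_of_injective_algebraMap (algebraMap k (S ⊗[k] S)).injective p
  have hpow : ∀ w : S ⊗[k] S, Algebra.TensorProduct.map S.val S.val (w ^ p) ∈ R' := by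
    intro w
    induction w using TensorProduct.induction_on with
    | zero => rw [zero_pow hp.out.ne_zero, map_zero]; exact R'.zero_mem
    | tmul a b =>
      rw [Algebra.TensorProduct.tmul_pow, Algebra.TensorProduct.map_tmul]
      exact ⟨(⟨(a : A) ^ p, Algebra.subset_adjoin ⟨a, a.2, rfl⟩⟩ : frobSub p S) ⊗ₜ
        (⟨(b : A) ^ p, Algebra.subset_adjoin ⟨b, b.2, rfl⟩⟩ : frobSub p S), by simp⟩
    | add x y hx hy =>
      rw [add_pow_char, map_add]
      exact R'.add_mem hx hy
  have hle : frobSub p S ≤ R'.comap (Bialgebra.comulAlgHom k A) := by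
    apply Algebra.adjoin_le
    rintro _ ⟨s, hs, rfl⟩
    rw [SetLike.mem_coe, Subalgebra.mem_comap, map_pow]
    obtain ⟨w, hw⟩ := hS s hs
    have hw2 : (Bialgebra.comulAlgHom k A) s = Algebra.TensorProduct.map S.val S.val w :=
      hw.symm
    rw [hw2, ← map_pow]
    exact hpow w
  intro a ha
  exact hR' _ (hle ha)

end Hopf


section Gen

variable {k : Type u} {A : Type v} [Field k] [CommRing A] [Bialgebra k A]

/-- the augmentation ideal -/
noncomputable def augI (k : Type u) (A : Type v) [Field k] [CommRing A] [Bialgebra k A] : Ideal A :=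
  RingHom.ker (Bialgebra.counitAlgHom k A)

theorem mem_augI (a : A) : a ∈ augI k A ↔ counit (R := k) a = 0 := by
  unfold augI
  rw [RingHom.mem_ker]
  rfl

/-- the augmentation part of a subalgebra, as a `k`-submodule -/
noncomputable def mS (S : Subalgebra k A) : Submodule k A :=
  Subalgebra.toSubmodule S ⊓ LinearMap.ker (counit (R := k) (A := A))

theorem mem_mS (S : Subalgebra k A) (a : A) : a ∈ mS S ↔ a ∈ S ∧ counit (R := k) a = 0 := by
  unfold mS
  rw [Submodule.mem_inf, LinearMap.mem_ker]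
  rfl

theorem sub_counit_mem_mS (S : Subalgebra k A) {s : A} (hs : s ∈ S) :
    s - algebraMap k A (counit (R := k) s) ∈ mS S := by
  rw [mem_mS]
  refine ⟨S.sub_mem hs (S.algebraMap_mem _), ?_⟩
  rw [map_sub, Bialgebra.counit_algebraMap, sub_self]

theorem gen_of_nilp (N : ℕ) (hN : (augI k A) ^ N = ⊥) (S S₀ : Subalgebra k A)
    (H : mS S ≤ mS S₀ ⊔ mS S * mS S) : S ≤ S₀ := by
  have hmI : ∀ a ∈ mS S, a ∈ augI k A := fun a ha => (mem_augI a).mpr ((mem_mS S a).mp ha).2
  have hm0I : ∀ a ∈ mS S₀, a ∈ augI k A := fun a ha => (mem_augI a).mpr ((mem_mS S₀ a).mp ha).2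
  have hQ : ∀ n, 1 ≤ n → mS S ≤ mS S₀ ⊔ ((augI k A) ^ n).restrictScalars k := by
    intro n hn
    induction n, hn using Nat.le_induction with
    | base =>
      intro a ha
      apply Submodule.mem_sup_right
      rw [Submodule.restrictScalars_mem, pow_one]
      exact hmI a ha
    | succ n hn ih =>
      have hstep : mS S * mS S ≤ mS S₀ ⊔ ((augI k A) ^ (n + 1)).restrictScalars k := by
        rw [Submodule.mul_le]
        intro a ha b hb
        obtain ⟨a₀, ha₀, an, han, rfl⟩ := Submodule.mem_sup.mp (ih ha)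
        obtain ⟨b₀, hb₀, bn, hbn, rfl⟩ := Submodule.mem_sup.mp (ih hb)
        rw [Submodule.restrictScalars_mem] at han hbn
        have e : (a₀ + an) * (b₀ + bn) = a₀ * b₀ + (a₀ * bn + an * (b₀ + bn)) := by ring
        rw [e]
        apply Submodule.add_mem
        · apply Submodule.mem_sup_left
          rw [mem_mS] at ha₀ hb₀ ⊢
          exact ⟨S₀.mul_mem ha₀.1 hb₀.1, by rw [Bialgebra.counit_mul, ha₀.2, zero_mul]⟩
        · apply Submodule.mem_sup_right
          rw [Submodule.restrictScalars_mem]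
          apply Ideal.add_mem
          · rw [pow_succ']
            exact Ideal.mul_mem_mul (hm0I _ ha₀) hbn
          · rw [pow_succ]
            exact Ideal.mul_mem_mul han (hmI _ hb)
      exact H.trans (sup_le le_sup_left hstep)
  have hle : mS S ≤ mS S₀ := by
    have h1 := hQ (max N 1) (le_max_right _ _)
    have h2 : (augI k A) ^ (max N 1) = ⊥ := by
      apply le_bot_iff.mp
      rw [← hN]
      exact Ideal.pow_le_pow_right (le_max_left _ _)
    rw [h2] at h1
    intro a ha
    obtain ⟨a₀, ha₀, z, hz, rfl⟩ := Submodule.mem_sup.mp (h1 ha)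
    rw [Submodule.restrictScalars_mem, Ideal.mem_bot] at hz
    rw [hz, add_zero]
    exact ha₀
  intro s hs
  have h3 := hle (sub_counit_mem_mS S hs)
  have h4 : s = (s - algebraMap k A (counit (R := k) s)) + algebraMap k A (counit (R := k) s) := by
    ring
  rw [h4]
  exact S₀.add_mem ((mem_mS S₀ _).mp h3).1 (S₀.algebraMap_mem _)

end Gen


section Step

variable {k : Type u} {A : Type v} [Field k] [CommRing A] [Bialgebra k A] [Module.Finite k A]
  [IsLocalRing A]

theorem counit_surjective : Function.Surjective (Bialgebra.counitAlgHom k A) :=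
  fun c => ⟨algebraMap k A c, by simp⟩

theorem augI_eq_maximalIdeal : augI k A = IsLocalRing.maximalIdeal A :=
  IsLocalRing.eq_maximalIdeal
    (RingHom.ker_isMaximal_of_surjective (Bialgebra.counitAlgHom k A) counit_surjective)

theorem isUnit_of_counit_ne_zero {a : A} (h : counit (R := k) a ≠ 0) : IsUnit a := by
  by_contra hu
  have hmem : a ∈ IsLocalRing.maximalIdeal A := (IsLocalRing.mem_maximalIdeal a).mpr hu
  rw [← augI_eq_maximalIdeal (k := k), mem_augI] at hmem
  exact h hmem

theorem aug_nilp : ∃ N, (augI k A) ^ N = ⊥ := by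
  haveI : IsArtinianRing A := IsArtinianRing.of_finite k A
  have hjac : Ideal.jacobson (⊥ : Ideal A) = IsLocalRing.maximalIdeal A :=
    IsLocalRing.jacobson_eq_maximalIdeal ⊥ bot_ne_top
  obtain ⟨N, hN⟩ := IsArtinianRing.isNilpotent_jacobson_bot (R := A)
  exact ⟨N, by rw [augI_eq_maximalIdeal, ← hjac, hN, Ideal.zero_eq_bot]⟩

variable (p : ℕ) [hp : Fact p.Prime] [CharP k p]

theorem step (N : ℕ) (hN : (augI k A) ^ N = ⊥) {S : Subalgebra k A} (hS : Stable S) :
    ∃ g, Module.finrank k ↥S = p ^ g * Module.finrank k ↥(frobSub p S) := by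
  classical
  haveI : CharP A p := charP_of_injective_algebraMap (algebraMap k A).injective p
  have hP𝔪 : mS S * mS S ≤ mS S := by
    rw [Submodule.mul_le]
    intro a ha b hb
    rw [mem_mS] at ha hb ⊢
    exact ⟨S.mul_mem ha.1 hb.1, by rw [Bialgebra.counit_mul, ha.2, zero_mul]⟩
  obtain ⟨W₀, hW₀⟩ := Submodule.exists_isCompl (mS S * mS S)
  obtain ⟨W, hW⟩ : ∃ W : Submodule k A, W = W₀ ⊓ mS S := ⟨_, rfl⟩
  have hWP : mS S * mS S ⊔ W = mS S := by
    rw [hW, ← sup_inf_assoc_of_le W₀ hP𝔪, hW₀.sup_eq_top, top_inf_eq]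
  have hW𝔪 : W ≤ mS S := hW ▸ inf_le_right
  have hWW₀ : W ≤ W₀ := hW ▸ inf_le_left
  obtain ⟨ρ, hρ⟩ := LinearMap.exists_extend (LinearMap.id : W →ₗ[k] W)
  let Φ : A →ₗ[k] A := LinearMap.id - (Algebra.linearMap k A) ∘ₗ (counit (R := k) (A := A))
  have hΦ : ∀ a, Φ a = a - algebraMap k A (counit (R := k) a) := fun a => rfl
  let Ψ : A →ₗ[k] W :=
    ρ ∘ₗ W₀.subtype ∘ₗ (Submodule.projectionOnto W₀ (mS S * mS S) hW₀.symm) ∘ₗ Φ
  have hΨ : ∀ a, Ψ a =
      ρ ((Submodule.projectionOnto W₀ (mS S * mS S) hW₀.symm (Φ a) : W₀) : A) :=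
    fun a => rfl
  have hΦ𝔪 : ∀ a ∈ mS S, Φ a = a := by
    intro a ha
    rw [hΦ, ((mem_mS S a).mp ha).2, map_zero, sub_zero]
  have hΨW : ∀ w (hw : w ∈ W), Ψ w = ⟨w, hw⟩ := by
    intro w hw
    rw [hΨ, hΦ𝔪 w (hW𝔪 hw)]
    have h1 : Submodule.projectionOnto W₀ (mS S * mS S) hW₀.symm w = ⟨w, hWW₀ hw⟩ :=
      Submodule.projectionOnto_apply_left hW₀.symm ⟨w, hWW₀ hw⟩
    rw [h1]
    have h2 := LinearMap.congr_fun hρ ⟨w, hw⟩
    simpa using h2
  have hΨP : ∀ a ∈ mS S * mS S, Ψ a = 0 := by
    intro a ha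
    rw [hΨ, hΦ𝔪 a (hP𝔪 ha), Submodule.projectionOnto_apply_of_mem_right hW₀.symm ha]
    simp
  have hΨ1 : Ψ 1 = 0 := by
    rw [hΨ, hΦ, Bialgebra.counit_one, map_one, sub_self, map_zero]
    simp
  have hΨalg : ∀ c : k, Ψ (algebraMap k A c) = 0 := fun c => by
    rw [Algebra.algebraMap_eq_smul_one, map_smul, hΨ1, smul_zero]
  have hΨsub : ∀ y, Ψ (y - algebraMap k A (counit (R := k) y)) = Ψ y := fun y => by
    rw [map_sub, hΨalg, sub_zero]
  have hΨder : ∀ s ∈ S, ∀ t ∈ S,
      Ψ (s * t) = counit (R := k) s • Ψ t + counit (R := k) t • Ψ s := by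
    intro s hs t ht
    have hs0 := sub_counit_mem_mS S hs
    have ht0 := sub_counit_mem_mS S ht
    have e : s * t = algebraMap k A (counit (R := k) s * counit (R := k) t) +
        counit (R := k) s • (t - algebraMap k A (counit (R := k) t)) +
        counit (R := k) t • (s - algebraMap k A (counit (R := k) s)) +
        (s - algebraMap k A (counit (R := k) s)) * (t - algebraMap k A (counit (R := k) t)) := by
      simp only [Algebra.smul_def, map_mul]; ring
    rw [e, map_add, map_add, map_add, hΨalg, map_smul, map_smul, hΨsub, hΨsub,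
      hΨP _ (Submodule.mul_mem_mul hs0 ht0), zero_add, add_zero]
  -- basis of W
  let b := Module.finBasis k W
  let x : Fin (Module.finrank k W) → A := fun j => (b j : A)
  let Λ : Fin (Module.finrank k W) → A →ₗ[k] k := fun l => (b.coord l) ∘ₗ Ψ
  have hΛder : ∀ l, ∀ s ∈ S, ∀ t ∈ S,
      Λ l (s * t) = counit (R := k) s * Λ l t + Λ l s * counit (R := k) t := by
    intro l s hs t ht
    show b.coord l (Ψ (s * t)) =
      counit (R := k) s * b.coord l (Ψ t) + b.coord l (Ψ s) * counit (R := k) t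
    rw [hΨder s hs t ht, map_add, map_smul, map_smul, smul_eq_mul, smul_eq_mul,
      mul_comm (counit (R := k) t)]
  have hΛx : ∀ l j, Λ l (x j) = if l = j then 1 else 0 := by
    intro l j
    show b.coord l (Ψ (b j : A)) = _
    rw [hΨW _ (b j).2]
    have h1 : (⟨(b j : A), (b j).2⟩ : W) = b j := rfl
    rw [h1, Module.Basis.coord_apply, Module.Basis.repr_self, Finsupp.single_apply]
    rcases eq_or_ne l j with h | h
    · subst h; simp
    · rw [if_neg h, if_neg (Ne.symm h)]
  have hx𝔪 : ∀ j, x j ∈ mS S := fun j => hW𝔪 (b j).2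
  have hxS : ∀ j, x j ∈ S := fun j => ((mem_mS S _).mp (hx𝔪 j)).1
  let U : Matrix (Fin (Module.finrank k W)) (Fin (Module.finrank k W)) A :=
    fun l j => T (Λ l) (x j)
  have hUdet : IsUnit U.det := by
    apply isUnit_of_counit_ne_zero (k := k)
    have h1 : (Bialgebra.counitAlgHom k A).toRingHom.mapMatrix U = 1 := by
      ext l j
      rw [RingHom.mapMatrix_apply, Matrix.map_apply, Matrix.one_apply]
      show counit (R := k) (T (Λ l) (x j)) = _
      rw [T_counit, hΛx]
    have h2 : counit (R := k) U.det = 1 := by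
      have h3 := RingHom.map_det (Bialgebra.counitAlgHom k A).toRingHom U
      rw [h1, Matrix.det_one] at h3
      exact h3
    rw [h2]
    exact one_ne_zero
  have hVU : U⁻¹ * U = 1 := Matrix.nonsing_inv_mul U hUdet
  let D : Fin (Module.finrank k W) → A →ₗ[k] A :=
    fun i => ∑ l, (LinearMap.mulLeft k (U⁻¹ i l)) ∘ₗ T (Λ l)
  have hDapp : ∀ i a, D i a = ∑ l, U⁻¹ i l * T (Λ l) a := by
    intro i a
    simp [D, LinearMap.sum_apply]
  have hTleib : ∀ l, LeibOn S (T (Λ l)) := fun l => T_leib hS (Λ l) (hΛder l)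
  have hDleib : ∀ i, LeibOn S (D i) := by
    intro i s hs t ht
    rw [hDapp, hDapp, hDapp, Finset.mul_sum, Finset.sum_mul, ← Finset.sum_add_distrib]
    apply Finset.sum_congr rfl
    intro l _
    rw [hTleib l s hs t ht]
    ring
  have hDx : ∀ i j, D i (x j) = if i = j then 1 else 0 := by
    intro i j
    rw [hDapp]
    have h1 : ∑ l, U⁻¹ i l * T (Λ l) (x j) = (U⁻¹ * U) i j := by rw [Matrix.mul_apply]
    rw [h1, hVU, Matrix.one_apply]
  have hDS' : ∀ i, ∀ c ∈ frobSub p S, D i c = 0 := by
    intro i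
    have hle : frobSub p S ≤ kerSub S (D i) (hDleib i) := by
      apply Algebra.adjoin_le
      rintro _ ⟨s, hs, rfl⟩
      refine ⟨S.pow_mem hs p, ?_⟩
      show D i (s ^ p) = 0
      have h1 := (hDleib i).map_pow_succ hs (p - 1)
      rw [Nat.sub_add_cancel hp.out.pos] at h1
      rw [h1, nsmul_eq_mul, CharP.cast_eq_zero A p, zero_mul]
    intro c hc
    exact (hle hc).2
  have hxp : ∀ j, x j ^ p ∈ frobSub p S := fun j => Algebra.subset_adjoin ⟨x j, hxS j, rfl⟩
  have hchain := chain p (frobSub_le p S) (Module.finrank k W) x hxS hxp D hDleib hDS' hDx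
    (Module.finrank k W) le_rfl
  have hS₀S : frobSub p S ⊔ Algebra.adjoin k
      (x '' {i : Fin (Module.finrank k W) | (i : ℕ) < Module.finrank k W}) ≤ S :=
    sup_le (frobSub_le p S) (Algebra.adjoin_le (by rintro _ ⟨i, _, rfl⟩; exact hxS i))
  have hxS₀ : ∀ j, x j ∈ frobSub p S ⊔ Algebra.adjoin k
      (x '' {i : Fin (Module.finrank k W) | (i : ℕ) < Module.finrank k W}) := fun j =>
    (le_sup_right : _ ≤ frobSub p S ⊔ Algebra.adjoin k
      (x '' {i : Fin (Module.finrank k W) | (i : ℕ) < Module.finrank k W}))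
      (Algebra.subset_adjoin ⟨j, j.2, rfl⟩)
  have hWS₀ : W ≤ mS (frobSub p S ⊔ Algebra.adjoin k
      (x '' {i : Fin (Module.finrank k W) | (i : ℕ) < Module.finrank k W})) := by
    intro w hw
    rw [mem_mS]
    refine ⟨?_, ((mem_mS S w).mp (hW𝔪 hw)).2⟩
    have h1 := b.sum_repr ⟨w, hw⟩
    have h2 : w = ∑ j, (b.repr ⟨w, hw⟩ j) • (b j : A) := by
      have h3 := congrArg (Subtype.val) h1
      simp only [Submodule.coe_sum, Submodule.coe_smul] at h3
      exact h3.symm
    rw [h2]
    exact Subalgebra.sum_mem _ (fun j _ => Subalgebra.smul_mem _ (hxS₀ j) _)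
  have hH : mS S ≤ mS (frobSub p S ⊔ Algebra.adjoin k
      (x '' {i : Fin (Module.finrank k W) | (i : ℕ) < Module.finrank k W})) ⊔ mS S * mS S :=
    calc mS S = mS S * mS S ⊔ W := hWP.symm
      _ ≤ _ := sup_le le_sup_right (hWS₀.trans le_sup_left)
  have hSS₀ := gen_of_nilp N hN S _ hH
  have hEq := le_antisymm hSS₀ hS₀S
  refine ⟨Module.finrank k W, ?_⟩
  rw [← hchain]
  exact congrArg (fun T : Subalgebra k A => Module.finrank k ↥T) hEq

end Step


section Tower

/-- `k + J` as a subalgebra -/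
def kPlus (k : Type u) {A : Type v} [Field k] [CommRing A] [Algebra k A] (J : Ideal A) :
    Subalgebra k A where
  carrier := {a | ∃ c : k, a - algebraMap k A c ∈ J}
  mul_mem' := by
    rintro a b ⟨c, hc⟩ ⟨c', hc'⟩
    refine ⟨c * c', ?_⟩
    have e : a * b - algebraMap k A (c * c') =
        (a - algebraMap k A c) * b + algebraMap k A c * (b - algebraMap k A c') := by
      rw [map_mul]; ring
    rw [e]
    exact J.add_mem (J.mul_mem_right _ hc) (J.mul_mem_left _ hc')
  add_mem' := by
    rintro a b ⟨c, hc⟩ ⟨c', hc'⟩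
    refine ⟨c + c', ?_⟩
    have e : a + b - algebraMap k A (c + c') =
        (a - algebraMap k A c) + (b - algebraMap k A c') := by
      rw [map_add]; ring
    rw [e]
    exact J.add_mem hc hc'
  algebraMap_mem' := fun r => ⟨r, by rw [sub_self]; exact J.zero_mem⟩

/-- the tower of Frobenius subalgebras -/
noncomputable def tower (k : Type u) (A : Type v) [Field k] [CommRing A] [Bialgebra k A] (p : ℕ) :
    ℕ → Subalgebra k A
  | 0 => ⊤
  | r + 1 => frobSub p (tower k A p r)

variable {k : Type u} {A : Type v} [Field k] [CommRing A] [Bialgebra k A]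

theorem stable_top : Stable (⊤ : Subalgebra k A) := by
  intro s _
  have hsurj : Function.Surjective ((⊤ : Subalgebra k A).val.toLinearMap) :=
    fun a => ⟨⟨a, Algebra.mem_top⟩, rfl⟩
  have h1 := TensorProduct.map_surjective hsurj hsurj
  exact LinearMap.mem_range.mpr (h1 _)

variable (p : ℕ) [hp : Fact p.Prime] [CharP k p]

theorem stable_tower [Nontrivial A] (r : ℕ) : Stable (tower k A p r) := by
  induction r with
  | zero => exact stable_top
  | succ r ih => exact stable_frobSub p ih

theorem tower_le [CharP A p] (r : ℕ) : tower k A p r ≤ kPlus k ((augI k A) ^ (p ^ r)) := by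
  induction r with
  | zero =>
    intro a _
    refine ⟨counit (R := k) a, ?_⟩
    rw [pow_zero, pow_one, mem_augI, map_sub, Bialgebra.counit_algebraMap, sub_self]
  | succ r ih =>
    apply Algebra.adjoin_le
    rintro _ ⟨s, hs, rfl⟩
    obtain ⟨c, hc⟩ := ih hs
    refine ⟨c ^ p, ?_⟩
    show s ^ p - algebraMap k A (c ^ p) ∈ _
    rw [map_pow, ← sub_pow_char, pow_succ, pow_mul]
    exact Ideal.pow_mem_pow hc p

variable [Module.Finite k A] [IsLocalRing A]

theorem tower_finrank (N : ℕ) (hN : (augI k A) ^ N = ⊥) (r : ℕ) :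
    ∃ n, Module.finrank k A = p ^ n * Module.finrank k ↥(tower k A p r) := by
  induction r with
  | zero =>
    refine ⟨0, ?_⟩
    rw [pow_zero, one_mul]
    show _ = Module.finrank k ↥(⊤ : Subalgebra k A)
    rw [subalgebra_top_finrank_eq_submodule_top_finrank, finrank_top]
  | succ r ih =>
    obtain ⟨n, hn⟩ := ih
    obtain ⟨g, hg⟩ := step p N hN (stable_tower p r)
    refine ⟨n + g, ?_⟩
    rw [hn, hg, pow_add, mul_assoc]
    rfl

theorem main_charP : ∃ n, Module.finrank k A = p ^ n := by
  haveI : CharP A p := charP_of_injective_algebraMap (algebraMap k A).injective p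
  obtain ⟨N, hN⟩ := aug_nilp (k := k) (A := A)
  obtain ⟨n, hn⟩ := tower_finrank p N hN N
  have hle : tower k A p N ≤ ⊥ := by
    refine (tower_le p N).trans ?_
    have h2 : (augI k A) ^ (p ^ N) = ⊥ := by
      apply le_bot_iff.mp
      rw [← hN]
      exact Ideal.pow_le_pow_right (Nat.lt_pow_self hp.out.one_lt).le
    rw [h2]
    rintro a ⟨c, hc⟩
    rw [Ideal.mem_bot, sub_eq_zero] at hc
    rw [hc]
    exact Subalgebra.algebraMap_mem _ c
  have hbot : tower k A p N = ⊥ := le_bot_iff.mp hle
  refine ⟨n, ?_⟩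
  rw [hn, hbot, Subalgebra.finrank_bot, mul_one]

end Tower

theorem main7950 (k : Type u) (A : Type v) [Field k] [CommRing A] [HopfAlgebra k A]
    [Module.Finite k A] [IsLocalRing A] :
    ∃ n : ℕ, Module.finrank k A = ringExpChar k ^ n := by
  obtain ⟨q, hq⟩ := CharP.exists k
  rcases CharP.char_is_prime_or_zero k q with hprime | hzero
  · haveI := Fact.mk hprime
    haveI : ExpChar k q := ExpChar.prime hprime
    rw [ringExpChar.eq k q]
    exact main_charP q
  · subst hzero
    haveI : CharZero k := CharP.charP_to_charZero k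
    rw [ringExpChar.eq_one k]
    refine ⟨0, ?_⟩
    rw [pow_zero]
    haveI : Algebra.FiniteType k A := inferInstance
    haveI : IsReduced A := CartierRedH1.isReduced_charZero (k := k) (A := A)
    obtain ⟨N, hN⟩ := aug_nilp (k := k) (A := A)
    have hinj : Function.Injective (counit (R := k) (A := A)) := by
      rw [← LinearMap.ker_eq_bot, LinearMap.ker_eq_bot']
      intro a ha
      have h1 : a ∈ augI k A := (mem_augI a).mpr ha
      have h2 : a ^ N ∈ (augI k A) ^ N := Ideal.pow_mem_pow h1 N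
      rw [hN, Ideal.mem_bot] at h2
      exact IsNilpotent.eq_zero ⟨N, h2⟩
    have hsurj : Function.Surjective (counit (R := k) (A := A)) :=
      fun c => ⟨algebraMap k A c, Bialgebra.counit_algebraMap c⟩
    have e : A ≃ₗ[k] k := LinearEquiv.ofBijective (counit (R := k) (A := A)) ⟨hinj, hsurj⟩
    rw [e.finrank_eq, Module.finrank_self]

end InfOrderH1
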