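import Mathlib
import Groth.Prelude.Def_SGA3b

set_option autoImplicit false
set_option maxHeartbeats 1000000

/-!
# Groups of multiplicative type: finite iff killed by an integer (helper1)

Tools: naturality of the power maps `powConv` for bialgebra maps, compatibility with base change,
faithfully flat descent and Zariski localisation of "the `n`-th power map is trivial".
-/

namespace MultFinH1

open TensorProduct WithConv SGA3b

universe u

section General

variable {R : Type*} [CommRing R]

theorem comp_pow {A B C : Type*} [CommRing A] [CommRing B] [CommRing C] [Algebra R A] [Algebra R B]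
    [Bialgebra R C] (h : A →ₐ[R] B) (f : WithConv (C →ₐ[R] A)) (n : ℕ) :
    h.comp (f ^ n).ofConv = ((toConv (h.comp f.ofConv)) ^ n).ofConv := by
  induction n with
  | zero =>
    rw [pow_zero, pow_zero]
    apply AlgHom.ext
    intro c
    show h (algebraMap R A (Coalgebra.counit (R := R) c)) =
      algebraMap R B (Coalgebra.counit (R := R) c)
    exact h.commutes _
  | succ n ih =>
    rw [pow_succ, pow_succ, AlgHom.comp_convMul_distrib, ih]

theorem pow_comp {A B C : Type*} [CommRing A] [CommRing B] [CommRing C] [Algebra R A]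
    [Bialgebra R B] [Bialgebra R C] (f : WithConv (C →ₐ[R] A)) (h : B →ₐc[R] C) (n : ℕ) :
    (f ^ n).ofConv.comp (h : B →ₐ[R] C) =
      ((toConv (f.ofConv.comp (h : B →ₐ[R] C))) ^ n).ofConv := by
  induction n with
  | zero =>
    rw [pow_zero, pow_zero]
    apply AlgHom.ext
    intro b
    show algebraMap R A (Coalgebra.counit (R := R) (h b)) =
      algebraMap R A (Coalgebra.counit (R := R) b)
    rw [CoalgHomClass.counit_comp_apply]
  | succ n ih =>
    rw [pow_succ, pow_succ, AlgHom.convMul_comp_bialgHom_distrib, ih]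

end General

section Main

theorem powConv_nat {R X Y : Type u} [CommRing R] [CommRing X] [CommRing Y] [HopfAlgebra R X]
    [HopfAlgebra R Y] (g : X →ₐc[R] Y) (n : ℕ) (x : X) :
    g (powConv R X n x) = powConv R Y n (g x) := by
  have h1 := comp_pow (g : X →ₐ[R] Y) (toConv (AlgHom.id R X)) n
  have h2 := pow_comp (toConv (AlgHom.id R Y)) g n
  simp only [AlgHom.comp_id, AlgHom.id_comp] at h1 h2
  have h3 : (g : X →ₐ[R] Y).comp (powConv R X n) = (powConv R Y n).comp (g : X →ₐ[R] Y) := by
    unfold powConv
    rw [h1, h2]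
  exact AlgHom.congr_fun h3 x

theorem powConv_groupLike {R X : Type u} [CommRing R] [CommRing X] [HopfAlgebra R X] (g : X)
    (hg : IsGroupLikeElem R g) (n : ℕ) : powConv R X n g = g ^ n := by
  unfold powConv
  induction n with
  | zero =>
    rw [pow_zero, pow_zero]
    show algebraMap R X (Coalgebra.counit (R := R) g) = 1
    rw [hg.counit_eq_one, map_one]
  | succ n ih =>
    rw [pow_succ, pow_succ]
    show (Algebra.TensorProduct.lmul' R (S := X)) (Algebra.TensorProduct.map
      ((toConv (AlgHom.id R X)) ^ n).ofConv (AlgHom.id R X)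
      (CoalgebraStruct.comul (R := R) g)) = _
    rw [hg.comul_eq_tmul_self, Algebra.TensorProduct.map_tmul,
      Algebra.TensorProduct.lmul'_apply_tmul, ih, AlgHom.id_apply]

/-- the `n`-th power map is trivial -/
def Triv (R A : Type u) [CommRing R] [CommRing A] [HopfAlgebra R A] (n : ℕ) : Prop :=
  ∀ a : A, powConv R A n a = algebraMap R A (Coalgebra.counit (R := R) a)

variable {R A : Type u} [CommRing R] [CommRing A] [HopfAlgebra R A]

theorem torsion_iff (n : ℕ) : torsionIdeal R A n = ⊥ ↔ Triv R A n := by
  unfold torsionIdeal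
  rw [Ideal.map_eq_bot_iff_le_ker]
  constructor
  · intro h a
    have h1 : a - algebraMap R A (Coalgebra.counit (R := R) a) ∈
        RingHom.ker (Bialgebra.counitAlgHom R A) := by
      rw [RingHom.mem_ker, map_sub, Bialgebra.counitAlgHom_apply, Bialgebra.counitAlgHom_apply,
        Bialgebra.counit_algebraMap, sub_self]
    have h2 := h h1
    rw [RingHom.mem_ker, map_sub, AlgHom.commutes, sub_eq_zero] at h2
    exact h2
  · intro h a ha
    rw [RingHom.mem_ker] at ha ⊢
    rw [h a]
    have h0 : Coalgebra.counit (R := R) a = 0 := ha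
    rw [h0, map_zero]

theorem triv_iff_pow (n : ℕ) : Triv R A n ↔ (toConv (AlgHom.id R A)) ^ n = 1 := by
  constructor
  · intro h
    apply WithConv.ofConv_injective
    apply AlgHom.ext
    intro a
    exact h a
  · intro h a
    show ((toConv (AlgHom.id R A)) ^ n).ofConv a = _
    rw [h]
    rfl

theorem triv_mul {n : ℕ} (h : Triv R A n) (k : ℕ) : Triv R A (n * k) := by
  rw [triv_iff_pow] at h ⊢
  rw [pow_mul, h, one_pow]

theorem triv_of_injective {X Y : Type u} [CommRing X] [CommRing Y] [HopfAlgebra R X]
    [HopfAlgebra R Y] (g : X →ₐc[R] Y) (hg : Function.Injective g) {n : ℕ} (h : Triv R Y n) :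
    Triv R X n := by
  intro x
  apply hg
  rw [powConv_nat, h, CoalgHomClass.counit_comp_apply]
  exact (AlgHomClass.commutes g _).symm

end Main

section BaseChange

variable {R S A : Type u} [CommRing R] [CommRing S] [Algebra R S] [CommRing A] [HopfAlgebra R A]

theorem one_tmul_algebraMap (a : A) :
    algebraMap S (S ⊗[R] A) (Coalgebra.counit (R := S) ((1 : S) ⊗ₜ[R] a)) =
      (1 : S) ⊗ₜ[R] algebraMap R A (Coalgebra.counit (R := R) a) := by
  rw [TensorProduct.counit_tmul, CommSemiring.counit_apply, Algebra.TensorProduct.algebraMap_apply,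
    Algebra.algebraMap_self, RingHom.id_apply, TensorProduct.smul_tmul,
    Algebra.algebraMap_eq_smul_one]

theorem powConv_baseChange (n : ℕ) :
    ∀ a : A, powConv S (S ⊗[R] A) n ((1 : S) ⊗ₜ[R] a) = (1 : S) ⊗ₜ[R] powConv R A n a := by
  induction n with
  | zero =>
    intro a
    show ((toConv (AlgHom.id S (S ⊗[R] A))) ^ 0).ofConv ((1 : S) ⊗ₜ[R] a) =
      (1 : S) ⊗ₜ[R] ((toConv (AlgHom.id R A)) ^ 0).ofConv a
    rw [pow_zero, pow_zero]
    exact one_tmul_algebraMap a
  | succ n ih =>
    intro a
    have key : ∀ y : A ⊗[R] A,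
        (Algebra.TensorProduct.lmul' S (S := S ⊗[R] A)) (Algebra.TensorProduct.map
          (powConv S (S ⊗[R] A) n) (AlgHom.id S (S ⊗[R] A))
          (TensorProduct.AlgebraTensorModule.tensorTensorTensorComm R S R S S S A A
            (((1 : S) ⊗ₜ[S] (1 : S)) ⊗ₜ[R] y))) =
        (1 : S) ⊗ₜ[R] (Algebra.TensorProduct.lmul' R (S := A)) (Algebra.TensorProduct.map
          (powConv R A n) (AlgHom.id R A) y) := by
      intro y
      induction y using TensorProduct.induction_on with
      | zero => simp
      | add x y hx hy =>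
        rw [TensorProduct.tmul_add, map_add, map_add, map_add, hx, hy, map_add, map_add,
          TensorProduct.tmul_add]
      | tmul a₁ a₂ =>
        rw [TensorProduct.AlgebraTensorModule.tensorTensorTensorComm_tmul,
          Algebra.TensorProduct.map_tmul, Algebra.TensorProduct.lmul'_apply_tmul, ih,
          AlgHom.id_apply, Algebra.TensorProduct.tmul_mul_tmul, one_mul,
          Algebra.TensorProduct.map_tmul, Algebra.TensorProduct.lmul'_apply_tmul, AlgHom.id_apply]
    show ((toConv (AlgHom.id S (S ⊗[R] A))) ^ (n + 1)).ofConv ((1 : S) ⊗ₜ[R] a) =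
      (1 : S) ⊗ₜ[R] ((toConv (AlgHom.id R A)) ^ (n + 1)).ofConv a
    rw [pow_succ, pow_succ]
    exact key (CoalgebraStruct.comul (R := R) a)

theorem triv_baseChange (n : ℕ) (h : Triv R A n) : Triv S (S ⊗[R] A) n := by
  intro z
  induction z using TensorProduct.induction_on with
  | zero => rw [map_zero, map_zero, map_zero]
  | add x y hx hy => rw [map_add, map_add, map_add, hx, hy]
  | tmul s a =>
    have h1 : s ⊗ₜ[R] a = s • ((1 : S) ⊗ₜ[R] a) := by
      rw [TensorProduct.smul_tmul', smul_eq_mul, mul_one]
    rw [h1, map_smul, powConv_baseChange, h a, map_smul, smul_eq_mul, map_mul, ← Algebra.smul_def,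
      one_tmul_algebraMap]

theorem triv_descend [Module.FaithfullyFlat R S] (n : ℕ) (h : Triv S (S ⊗[R] A) n) :
    Triv R A n := by
  intro a
  apply Module.FaithfullyFlat.tensorProduct_mk_injective (A := R) (B := S) A
  show (1 : S) ⊗ₜ[R] powConv R A n a = (1 : S) ⊗ₜ[R] algebraMap R A (Coalgebra.counit (R := R) a)
  rw [← powConv_baseChange, h, one_tmul_algebraMap]

end BaseChange

section Mon

variable {R M : Type u} [CommRing R] [CommGroup M]

theorem triv_monoidAlgebra_of (n : ℕ) (h : ∀ m : M, m ^ n = 1) :
    Triv R (MonoidAlgebra R M) n := by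
  intro x
  have h1 : (powConv R (MonoidAlgebra R M) n) =
      (Algebra.ofId R (MonoidAlgebra R M)).comp
        (Bialgebra.counitAlgHom R (MonoidAlgebra R M)) := by
    refine MonoidAlgebra.algHom_ext (fun m => ?_) (Subsingleton.elim _ _)
    rw [powConv_groupLike _ (MonoidAlgebra.isGroupLikeElem_single_one (R := R) (A := R) m),
      MonoidAlgebra.single_pow, one_pow, h m]
    show _ = algebraMap R (MonoidAlgebra R M)
      (Coalgebra.counit (R := R) (MonoidAlgebra.single m (1 : R)))
    rw [(MonoidAlgebra.isGroupLikeElem_single_one (R := R) (A := R) m).counit_eq_one, map_one]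
    rfl
  rw [h1]
  rfl

theorem pow_eq_one_of_triv [Nontrivial R] (n : ℕ) (h : Triv R (MonoidAlgebra R M) n) (m : M) :
    m ^ n = 1 := by
  have h1 := h (MonoidAlgebra.single m 1)
  rw [powConv_groupLike _ (MonoidAlgebra.isGroupLikeElem_single_one (R := R) (A := R) m),
    MonoidAlgebra.single_pow, one_pow,
    (MonoidAlgebra.isGroupLikeElem_single_one (R := R) (A := R) m).counit_eq_one, map_one,
    MonoidAlgebra.one_def] at h1
  exact MonoidAlgebra.single_left_injective (one_ne_zero (α := R)) h1

end Mon

section Loc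

variable {R A : Type u} [CommRing R] [CommRing A] [HopfAlgebra R A]

theorem triv_of_local (n : ℕ) (t : Set R) (ht : Ideal.span t = ⊤)
    (h : ∀ f ∈ t, Triv (Localization.Away f) (Localization.Away f ⊗[R] A) n) : Triv R A n := by
  intro a
  rw [← sub_eq_zero, ← Submodule.mem_bot R]
  apply Submodule.mem_of_span_eq_top_of_smul_pow_mem ⊥ t ht
  rintro ⟨f, hf⟩
  haveI : IsLocalizedModule (Submonoid.powers f) (TensorProduct.mk R (Localization.Away f) A 1) :=
    (isLocalizedModule_iff_isBaseChange (Submonoid.powers f) (Localization.Away f) _).mpr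
      (TensorProduct.isBaseChange R A (Localization.Away f))
  have h0 : (TensorProduct.mk R (Localization.Away f) A 1)
      (powConv R A n a - algebraMap R A (Coalgebra.counit (R := R) a)) = 0 := by
    rw [map_sub, sub_eq_zero]
    show (1 : Localization.Away f) ⊗ₜ[R] powConv R A n a =
      (1 : Localization.Away f) ⊗ₜ[R] algebraMap R A (Coalgebra.counit (R := R) a)
    rw [← powConv_baseChange, h f hf, one_tmul_algebraMap]
  obtain ⟨s', hs'⟩ := (IsLocalizedModule.eq_zero_iff (Submonoid.powers f)
    (TensorProduct.mk R (Localization.Away f) A 1)).mp h0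
  obtain ⟨k, hk⟩ := (Submonoid.mem_powers_iff _ _).mp s'.2
  refine ⟨k, ?_⟩
  rw [Submodule.mem_bot]
  show f ^ k • _ = 0
  rw [hk]
  exact hs'

end Loc

section Const

theorem const_analysis {S B : Type u} [CommRing S] [CommRing B] [HopfAlgebra S B]
    (hB : IsMultTypeConst S B) (hft : Algebra.FiniteType S B) :
    (Module.Finite S B → ∃ n, 0 < n ∧ Triv S B n) ∧
      (∀ n, 0 < n → Triv S B n → Module.Finite S B) := by
  obtain ⟨S', _, _, hff, M, _, ⟨e⟩⟩ := hB
  haveI := hff
  rcases subsingleton_or_nontrivial S' with hs | hn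
  · haveI : Subsingleton S := (FaithfulSMul.algebraMap_injective S S').subsingleton
    haveI : Subsingleton B := Module.subsingleton S B
    exact ⟨fun _ => ⟨1, one_pos, fun a => Subsingleton.elim _ _⟩, fun _ _ _ => Module.Finite.of_finite⟩
  · constructor
    · intro hfin
      haveI := hfin
      haveI : Module.Finite S' (S' ⊗[S] B) := inferInstance
      haveI : Module.Finite S' (MonoidAlgebra S' M) := Module.Finite.equiv e.toAlgEquiv.toLinearEquiv
      haveI : Finite M := Module.Finite.finite_basis (MonoidAlgebra.basis M S')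
      refine ⟨Nat.card M, Nat.card_pos, ?_⟩
      apply triv_descend (S := S')
      apply triv_of_injective e.toBialgHom (EquivLike.injective e)
      exact triv_monoidAlgebra_of _ (fun m => pow_card_eq_one')
    · intro n hn htr
      have h1 : Triv S' (MonoidAlgebra S' M) n :=
        triv_of_injective e.symm.toBialgHom (EquivLike.injective e.symm) (triv_baseChange n htr)
      have h2 : ∀ m : M, m ^ n = 1 := pow_eq_one_of_triv n h1
      haveI := hft
      haveI : Algebra.FiniteType S' (S' ⊗[S] B) := inferInstance
      have h3 : Algebra.FiniteType S' (MonoidAlgebra S' M) :=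
        Algebra.FiniteType.equiv inferInstance e.toAlgEquiv
      haveI : Group.FG M := MonoidAlgebra.finiteType_iff_group_fg.mp h3
      haveI : Finite M := CommGroup.finite_of_fg_isMulTorsion M
        (fun m => isOfFinOrder_iff_pow_eq_one.mpr ⟨n, hn, h2 m⟩)
      haveI : Module.Finite S' (MonoidAlgebra S' M) :=
        Module.Finite.of_basis (MonoidAlgebra.basis M S')
      haveI : Module.Finite S' (S' ⊗[S] B) := Module.Finite.equiv e.symm.toAlgEquiv.toLinearEquiv
      exact Module.Finite.of_finite_tensorProduct_of_faithfullyFlat S'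

end Const

theorem main (R : Type u) [CommRing R] (A : Type u) [CommRing A] [HopfAlgebra R A]
    (hft : Algebra.FiniteType R A) (h : IsMultType R A) :
    Module.Finite R A ↔ ∃ n : ℕ, 0 < n ∧ torsionIdeal R A n = ⊥ := by
  obtain ⟨s, hs, hconst⟩ := h
  obtain ⟨t, hts, ht⟩ := (Ideal.span_eq_top_iff_finite s).mp hs
  haveI := hft
  have han : ∀ f ∈ s,
      (Module.Finite (Localization.Away f) (Localization.Away f ⊗[R] A) →
        ∃ n, 0 < n ∧ Triv (Localization.Away f) (Localization.Away f ⊗[R] A) n) ∧
      (∀ n, 0 < n → Triv (Localization.Away f) (Localization.Away f ⊗[R] A) n →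
        Module.Finite (Localization.Away f) (Localization.Away f ⊗[R] A)) :=
    fun f hf => const_analysis (hconst f hf) inferInstance
  constructor
  · intro hfin
    haveI := hfin
    have key : ∀ f ∈ s, ∃ n, 0 < n ∧
        Triv (Localization.Away f) (Localization.Away f ⊗[R] A) n :=
      fun f hf => (han f hf).1 inferInstance
    choose! N hN using key
    refine ⟨∏ f ∈ t, N f, Finset.prod_pos (fun f hf => (hN f (hts (Finset.mem_coe.mpr hf))).1), ?_⟩
    rw [torsion_iff]
    apply triv_of_local _ (↑t) ht
    intro f hf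
    obtain ⟨k, hk⟩ := Finset.dvd_prod_of_mem N (Finset.mem_coe.mp hf)
    rw [hk]
    exact triv_mul (hN f (hts hf)).2 k
  · rintro ⟨n, hn, htor⟩
    rw [torsion_iff] at htor
    haveI : ∀ g : t, IsLocalizedModule.Away g.val
        (TensorProduct.mk R (Localization.Away g.val) A 1) := fun g =>
      (isLocalizedModule_iff_isBaseChange (Submonoid.powers g.val) (Localization.Away g.val) _).mpr
        (TensorProduct.isBaseChange R A (Localization.Away g.val))
    exact Module.Finite.of_localizationSpan_finite' t ht
      (fun g => TensorProduct.mk R (Localization.Away g.val) A 1)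
      (fun g => (han g.val (hts (Finset.mem_coe.mpr g.2))).2 n hn (triv_baseChange n htor))

end MultFinH1
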