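import Mathlib
import Groth.Agent.Lib.MultFin_helper1
import Groth.Agent.Lib.InfOrder_helper1

set_option autoImplicit false
set_option maxHeartbeats 1000000

/-!
# A finite group scheme over a field is killed by its order (helper1)

`A` a finite-dimensional commutative Hopf algebra over a field `k`: the `dim A`-th convolution power
of the identity is trivial.  Proof: reduce to `k` algebraically closed; the augmentation ideal `I`
has a stable power `J = I^N = (1-e)`, `A/J` is a local bialgebra (order `q^r`), the characters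
`Γ` of `A` form a finite group, the translates of `e` are orthogonal idempotents summing to `1`, so
`dim A = |Γ| · dim (A/J)`; then `id^(q^r) ≡ ε mod J` and `id^|Γ|` kills `J`.
-/

namespace FinOrderH1

open TensorProduct WithConv Coalgebra

universe u

section LinConv

variable {K : Type*} {C B : Type*} [CommRing K] [AddCommGroup C] [Module K C] [Coalgebra K C]
  [CommRing B] [Algebra K B]

theorem conv_mem (f g : WithConv (C →ₗ[K] B)) (I₁ I₂ : Ideal B) (hf : ∀ z, f z ∈ I₁)
    (hg : ∀ z, g z ∈ I₂) (z : C) : (f * g) z ∈ I₁ * I₂ := by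
  rw [LinearMap.convMul_apply]
  generalize comul (R := K) z = w
  induction w using TensorProduct.induction_on with
  | zero => simp
  | tmul x y =>
    rw [TensorProduct.map_tmul, LinearMap.mul'_apply]
    exact Ideal.mul_mem_mul (hf x) (hg y)
  | add x y hx hy =>
    rw [map_add, map_add]
    exact Ideal.add_mem _ hx hy

theorem conv_pow_mem (f : WithConv (C →ₗ[K] B)) (I : Ideal B) (hf : ∀ z, f z ∈ I) (j : ℕ)
    (z : C) : (f ^ j) z ∈ I ^ j := by
  induction j generalizing z with
  | zero =>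
    rw [pow_zero I, Ideal.one_eq_top]
    exact Submodule.mem_top
  | succ j ih =>
    rw [pow_succ, pow_succ]
    exact conv_mem _ _ _ _ ih hf z

end LinConv

section Delta

variable {K : Type*} {B : Type*} [Field K] [CommRing B] [Bialgebra K B]

theorem delta_mem (z : B) :
    (toConv (AlgHom.id K B).toLinearMap - (1 : WithConv (B →ₗ[K] B))) z ∈
      InfOrderH1.augI K B := by
  rw [InfOrderH1.mem_augI]
  show counit (R := K) (z - algebraMap K B (counit (R := K) z)) = 0
  rw [map_sub, Bialgebra.counit_algebraMap, sub_self]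

theorem pow_expChar_sub_mem (q : ℕ) [ExpChar K q] (r : ℕ) (z : B) :
    ((toConv (AlgHom.id K B)) ^ (q ^ r)).ofConv z - algebraMap K B (counit (R := K) z) ∈
      (InfOrderH1.augI K B) ^ (q ^ r) := by
  have hinj : Function.Injective (algebraMap K (WithConv (B →ₗ[K] B))) := by
    intro a b hab
    have h1 : (algebraMap K (WithConv (B →ₗ[K] B)) a) (1 : B) =
        (algebraMap K (WithConv (B →ₗ[K] B)) b) (1 : B) := by rw [hab]
    rw [LinearMap.convAlgebraMap_apply, LinearMap.convAlgebraMap_apply, Bialgebra.counit_one,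
      map_one] at h1
    have h2 := congrArg (counit (R := K)) h1
    rw [map_smul, map_smul, Bialgebra.counit_one, smul_eq_mul, smul_eq_mul, mul_one, mul_one] at h2
    exact h2
  haveI : ExpChar (WithConv (B →ₗ[K] B)) q := expChar_of_injective_algebraMap hinj q
  set idL : WithConv (B →ₗ[K] B) := toConv (AlgHom.id K B).toLinearMap with hidL
  have h1 : idL ^ (q ^ r) = 1 + (idL - 1) ^ (q ^ r) := by
    have h2 := add_pow_expChar_pow_of_commute q r (Commute.one_left (idL - 1))
    rw [one_pow, add_sub_cancel] at h2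
    exact h2
  have h3 : toConv ((toConv (AlgHom.id K B)) ^ (q ^ r)).ofConv.toLinearMap = idL ^ (q ^ r) :=
    AlgHom.toLinearMap_convPow _ _
  have h4 : ((toConv (AlgHom.id K B)) ^ (q ^ r)).ofConv z = (idL ^ (q ^ r)) z := by
    rw [← h3]; rfl
  rw [h4, h1]
  show (algebraMap K B (counit (R := K) z) + ((idL - 1) ^ (q ^ r)) z) -
    algebraMap K B (counit (R := K) z) ∈ _
  rw [add_sub_cancel_left]
  exact conv_pow_mem _ _ delta_mem _ z

end Delta

section Chars

variable {K : Type*} [Field K] [IsAlgClosed K] {C : Type*} [CommRing C] [Algebra K C]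
  [Module.Finite K C]

theorem exists_char_of_not_isUnit {x : C} (hx : ¬ IsUnit x) : ∃ χ : C →ₐ[K] K, χ x = 0 := by
  obtain ⟨𝔪, hmax, hmem⟩ := exists_max_ideal_of_mem_nonunits (show x ∈ nonunits C from hx)
  haveI := hmax
  haveI : IsDomain (C ⧸ 𝔪) := Ideal.Quotient.isDomain 𝔪
  haveI : Algebra.IsIntegral K (C ⧸ 𝔪) := Algebra.IsIntegral.of_finite K (C ⧸ 𝔪)
  have hbij : Function.Bijective (algebraMap K (C ⧸ 𝔪)) :=
    IsAlgClosed.algebraMap_bijective_of_isIntegral
  let e : K ≃ₐ[K] (C ⧸ 𝔪) := AlgEquiv.ofBijective (Algebra.ofId K (C ⧸ 𝔪)) hbij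
  refine ⟨(e.symm : (C ⧸ 𝔪) →ₐ[K] K).comp (Ideal.Quotient.mkₐ K 𝔪), ?_⟩
  show e.symm (Ideal.Quotient.mk 𝔪 x) = 0
  rw [Ideal.Quotient.eq_zero_iff_mem.mpr hmem, map_zero]

theorem idem_eq_zero {z : C} (hz : IsIdempotentElem z) (h : ∀ χ : C →ₐ[K] K, χ z = 0) :
    z = 0 := by
  by_contra hne
  have hnu : ¬ IsUnit (1 - z) := by
    intro hu
    apply hne
    have h1 : z * (1 - z) = 0 := by rw [mul_sub, mul_one, hz.eq, sub_self]
    exact (hu.mul_left_eq_zero).mp h1
  obtain ⟨χ, hχ⟩ := exists_char_of_not_isUnit (K := K) hnu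
  rw [map_sub, map_one, h χ, sub_zero] at hχ
  exact one_ne_zero hχ

end Chars

section Gen

variable {K : Type*} [Field K] {B : Type*} [CommRing B] [Algebra K B] [Module.Finite K B]

theorem mem_span_iff {B : Type*} [CommRing B] {e : B} (he : IsIdempotentElem e) (x : B) :
    x ∈ Ideal.span {1 - e} ↔ e * x = 0 := by
  rw [Ideal.mem_span_singleton']
  constructor
  · rintro ⟨a, rfl⟩
    rw [← mul_assoc, mul_comm e a, mul_assoc, he.mul_one_sub_self, mul_zero]
  · intro h
    refine ⟨x, ?_⟩
    rw [mul_sub, mul_one, mul_comm x e, h, sub_zero]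

theorem exists_stab {B : Type*} [CommRing B] [IsArtinianRing B] (I : Ideal B) :
    ∃ N, 1 ≤ N ∧ ∀ m, N ≤ m → I ^ N = I ^ m := by
  let f : ℕ →o (Ideal B)ᵒᵈ :=
    ⟨fun n => OrderDual.toDual (I ^ n), fun a b h => Ideal.pow_le_pow_right h⟩
  obtain ⟨n, hn⟩ := IsArtinian.monotone_stabilizes f
  refine ⟨n + 1, Nat.le_add_left 1 n, fun m hm => ?_⟩
  have h1 : I ^ n = I ^ (n + 1) := congrArg OrderDual.ofDual (hn (n + 1) (Nat.le_succ n))
  have h2 : I ^ n = I ^ m := congrArg OrderDual.ofDual (hn m (by omega))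
  rw [← h1, h2]

theorem nilp_pow_finrank {A : Type*} [CommRing A] [Algebra K A] [Module.Finite K A]
    (𝔞 : Ideal A) (M : ℕ) (hM : 𝔞 ^ M = ⊥) : 𝔞 ^ (Module.finrank K A) = ⊥ := by
  have claim : ∀ j, 𝔞 ^ j = ⊥ ∨
      Module.finrank K ((𝔞 ^ j).restrictScalars K) + j ≤ Module.finrank K A := by
    intro j
    induction j with
    | zero =>
      right
      rw [add_zero]
      exact Submodule.finrank_le _
    | succ j ih =>
      rcases ih with h | h
      · left
        rw [pow_succ, h, Ideal.bot_mul]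
      · by_cases heq : 𝔞 ^ (j + 1) = 𝔞 ^ j
        · left
          have hk : ∀ k, 𝔞 ^ (j + k) = 𝔞 ^ j := by
            intro k
            induction k with
            | zero => rfl
            | succ k ihk => rw [← add_assoc, pow_succ, ihk, ← pow_succ, heq]
          have h1 : 𝔞 ^ j = ⊥ := by
            rw [← hk M, pow_add, hM, Ideal.mul_bot]
          rw [heq, h1]
        · right
          have hlt : (𝔞 ^ (j + 1)).restrictScalars K < (𝔞 ^ j).restrictScalars K := by
            refine lt_of_le_of_ne (fun x hx => Ideal.pow_le_pow_right (Nat.le_succ j) hx) ?_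
            intro h2
            exact heq (Submodule.restrictScalars_injective K A A h2)
          have := Submodule.finrank_lt_finrank_of_lt hlt
          omega
  rcases claim (Module.finrank K A) with h | h
  · exact h
  · have h0 : Module.finrank K ((𝔞 ^ (Module.finrank K A)).restrictScalars K) = 0 := by omega
    rw [Submodule.finrank_eq_zero] at h0
    exact (Submodule.restrictScalars_eq_bot_iff K A A).mp h0

theorem pow_finrank_le (I : Ideal B) {J : Ideal B} {N : ℕ} (hJ : J = I ^ N) :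
    I ^ (Module.finrank K (B ⧸ J)) ≤ J := by
  have h1 : (I.map (Ideal.Quotient.mk J)) ^ N = ⊥ := by
    rw [← Ideal.map_pow, ← hJ, Ideal.map_quotient_self]
  have h2 := nilp_pow_finrank (K := K) (I.map (Ideal.Quotient.mk J)) N h1
  rw [← Ideal.map_pow, Ideal.map_eq_bot_iff_le_ker, Ideal.mk_ker] at h2
  exact h2

end Gen

section Trans

variable {K : Type*} {B : Type*} [Field K] [CommRing B] [HopfAlgebra K B]

/-- the character group -/
abbrev Chr (K B : Type*) [Field K] [CommRing B] [HopfAlgebra K B] := WithConv (B →ₐ[K] K)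

theorem chr_one_apply (x : B) : (1 : Chr K B).ofConv x = counit (R := K) x := rfl

/-- translation by a character -/
noncomputable def tau (γ : Chr K B) : B →ₐ[K] B :=
  ((toConv ((Algebra.ofId K B).comp γ.ofConv)) * (toConv (AlgHom.id K B))).ofConv

theorem char_tau (β γ : Chr K B) : β.ofConv.comp (tau γ) = (γ * β).ofConv := by
  have h1 : β.ofConv.comp ((Algebra.ofId K B).comp γ.ofConv) = γ.ofConv := by
    apply AlgHom.ext
    intro a
    show β.ofConv (algebraMap K B (γ.ofConv a)) = γ.ofConv a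
    rw [AlgHom.commutes]
    rfl
  unfold tau
  rw [AlgHom.comp_convMul_distrib]
  simp only [ofConv_toConv, h1, AlgHom.comp_id, toConv_ofConv]

theorem tau_comp (γ γ' : Chr K B) : (tau γ).comp (tau γ') = tau (γ' * γ) := by
  have h1 : (tau γ).comp ((Algebra.ofId K B).comp γ'.ofConv) =
      (Algebra.ofId K B).comp γ'.ofConv := by
    apply AlgHom.ext
    intro a
    show tau γ (algebraMap K B (γ'.ofConv a)) = algebraMap K B (γ'.ofConv a)
    rw [AlgHom.commutes]
  have h2 : (Algebra.ofId K B).comp (γ' * γ).ofConv =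
      (toConv ((Algebra.ofId K B).comp γ'.ofConv) *
        toConv ((Algebra.ofId K B).comp γ.ofConv)).ofConv :=
    AlgHom.comp_convMul_distrib _ _ _
  have h3 : (tau γ).comp (tau γ') =
      (toConv ((Algebra.ofId K B).comp γ'.ofConv) * toConv (tau γ)).ofConv := by
    conv_lhs => rw [show tau γ' = ((toConv ((Algebra.ofId K B).comp γ'.ofConv)) *
      (toConv (AlgHom.id K B))).ofConv from rfl]
    rw [AlgHom.comp_convMul_distrib]
    simp only [ofConv_toConv, h1, AlgHom.comp_id]
  rw [h3]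
  show (toConv ((Algebra.ofId K B).comp γ'.ofConv) *
    toConv ((toConv ((Algebra.ofId K B).comp γ.ofConv) * toConv (AlgHom.id K B)).ofConv)).ofConv =
    ((toConv ((Algebra.ofId K B).comp (γ' * γ).ofConv)) * (toConv (AlgHom.id K B))).ofConv
  rw [h2]
  simp only [toConv_ofConv]
  rw [mul_assoc]

theorem tau_one : tau (1 : Chr K B) = AlgHom.id K B := by
  have h1 : (Algebra.ofId K B).comp (1 : Chr K B).ofConv =
      (1 : WithConv (B →ₐ[K] B)).ofConv := by
    apply AlgHom.ext
    intro a
    rfl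
  unfold tau
  rw [h1, toConv_ofConv, one_mul]

theorem tau_inv_left (γ : Chr K B) (a : B) : tau γ⁻¹ (tau γ a) = a := by
  have h := tau_comp γ⁻¹ γ
  rw [mul_inv_cancel, tau_one] at h
  exact AlgHom.congr_fun h a

theorem tau_inv_right (γ : Chr K B) (a : B) : tau γ (tau γ⁻¹ a) = a := by
  have h := tau_comp γ γ⁻¹
  rw [inv_mul_cancel, tau_one] at h
  exact AlgHom.congr_fun h a

theorem chi_tau_e_one {e : B} (hc0 : counit (R := K) e = 1) (χ γ : Chr K B) (h : γ * χ = 1) :
    χ.ofConv (tau γ e) = 1 := by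
  have h' : χ.ofConv (tau γ e) = (γ * χ).ofConv e := AlgHom.congr_fun (char_tau χ γ) e
  rw [h', h, chr_one_apply]
  exact hc0

theorem chi_tau_e_zero {e : B} (hc1 : ∀ β : Chr K B, β ≠ 1 → β.ofConv e = 0) (χ γ : Chr K B)
    (h : γ * χ ≠ 1) : χ.ofConv (tau γ e) = 0 := by
  have h' : χ.ofConv (tau γ e) = (γ * χ).ofConv e := AlgHom.congr_fun (char_tau χ γ) e
  rw [h']
  exact hc1 _ h

variable [Module.Finite K B]

theorem exists_idem : ∃ (e : B) (N : ℕ), IsIdempotentElem e ∧ 1 ≤ N ∧
    Ideal.span {1 - e} = (InfOrderH1.augI K B) ^ N ∧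
    ∀ m, N ≤ m → (InfOrderH1.augI K B) ^ N = (InfOrderH1.augI K B) ^ m := by
  haveI : IsArtinianRing B := IsArtinianRing.of_finite K B
  obtain ⟨N, h1N, hstab⟩ := exists_stab (InfOrderH1.augI K B)
  set J := (InfOrderH1.augI K B) ^ N with hJ
  have hJJ : IsIdempotentElem J := by
    show J * J = J
    rw [hJ, ← pow_add]
    exact (hstab (N + N) (Nat.le_add_right N N)).symm
  have hfg : J.FG := IsNoetherian.noetherian J
  obtain ⟨e', he', hJe⟩ := (Ideal.isIdempotentElem_iff_of_fg J hfg).mp hJJ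
  refine ⟨1 - e', N, he'.one_sub, h1N, ?_, hstab⟩
  rw [sub_sub_cancel]
  exact hJe.symm

theorem counit_e {e : B} {N : ℕ} (h1N : 1 ≤ N)
    (hJ : Ideal.span {1 - e} = (InfOrderH1.augI K B) ^ N) : counit (R := K) e = 1 := by
  have h1 : (1 - e) ∈ (InfOrderH1.augI K B) ^ N := by
    rw [← hJ]
    exact Ideal.subset_span rfl
  have h2 := Ideal.pow_le_self (Nat.one_le_iff_ne_zero.mp h1N) h1
  rw [InfOrderH1.mem_augI, map_sub, Bialgebra.counit_one, sub_eq_zero] at h2
  exact h2.symm

theorem char_e {e : B} (he : IsIdempotentElem e) {N : ℕ}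
    (hJ : Ideal.span {1 - e} = (InfOrderH1.augI K B) ^ N) (β : Chr K B) (hβ : β ≠ 1) :
    β.ofConv e = 0 := by
  by_contra hne
  apply hβ
  have h1 : β.ofConv e = 1 := by
    have h2 : β.ofConv e * β.ofConv e = β.ofConv e := by rw [← map_mul, he.eq]
    exact mul_right_cancel₀ hne (h2.trans (one_mul _).symm)
  have h3 : ∀ x ∈ InfOrderH1.augI K B, β.ofConv x = 0 := by
    intro x hx
    have h4 : x ^ N ∈ Ideal.span {1 - e} := by
      rw [hJ]
      exact Ideal.pow_mem_pow hx N
    obtain ⟨a, ha⟩ := Ideal.mem_span_singleton'.mp h4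
    have h5 : β.ofConv (x ^ N) = 0 := by
      rw [← ha, map_mul, map_sub, map_one, h1, sub_self, mul_zero]
    rw [map_pow] at h5
    exact eq_zero_of_pow_eq_zero h5
  apply WithConv.ofConv_injective
  apply AlgHom.ext
  intro z
  have h6 : z - algebraMap K B (counit (R := K) z) ∈ InfOrderH1.augI K B := by
    rw [InfOrderH1.mem_augI, map_sub, Bialgebra.counit_algebraMap, sub_self]
  have h7 := h3 _ h6
  rw [map_sub, AlgHom.commutes, sub_eq_zero] at h7
  rw [h7]
  rfl

end Trans

section Closed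

variable {K : Type*} {B : Type*} [Field K] [IsAlgClosed K] [CommRing B] [HopfAlgebra K B]
  [Module.Finite K B]

theorem orth {e : B} (he : IsIdempotentElem e) (hc1 : ∀ β : Chr K B, β ≠ 1 → β.ofConv e = 0)
    {γ γ' : Chr K B} (hne : γ ≠ γ') : tau γ e * tau γ' e = 0 := by
  apply idem_eq_zero (K := K) ((he.map (tau γ)).mul (he.map (tau γ')))
  intro χ
  rw [map_mul]
  by_cases h : γ * toConv χ = 1
  · have h' : γ' * toConv χ ≠ 1 := fun h2 => hne (mul_right_cancel (h.trans h2.symm))
    have h3 := chi_tau_e_zero hc1 (toConv χ) γ' h'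
    rw [ofConv_toConv] at h3
    rw [h3, mul_zero]
  · have h3 := chi_tau_e_zero hc1 (toConv χ) γ h
    rw [ofConv_toConv] at h3
    rw [h3, zero_mul]

theorem sum_tau_e [Fintype (Chr K B)] {e : B} (he : IsIdempotentElem e)
    (hc1 : ∀ β : Chr K B, β ≠ 1 → β.ofConv e = 0) (hc0 : counit (R := K) e = 1) :
    ∑ γ : Chr K B, tau γ e = 1 := by
  classical
  have hs : IsIdempotentElem (∑ γ : Chr K B, tau γ e) := by
    unfold IsIdempotentElem
    rw [Finset.sum_mul_sum]
    apply Finset.sum_congr rfl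
    intro γ _
    rw [Finset.sum_eq_single γ]
    · exact (he.map (tau γ)).eq
    · intro γ' _ hne
      exact orth he hc1 (Ne.symm hne)
    · intro h
      exact absurd (Finset.mem_univ γ) h
  have h0 : 1 - ∑ γ : Chr K B, tau γ e = 0 := by
    apply idem_eq_zero (K := K) hs.one_sub
    intro χ
    rw [map_sub, map_one, map_sum, Finset.sum_eq_single ((toConv χ)⁻¹)]
    · have h1 := chi_tau_e_one hc0 (toConv χ) ((toConv χ)⁻¹) (inv_mul_cancel _)
      rw [ofConv_toConv] at h1
      rw [h1, sub_self]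
    · intro γ _ hne
      have h1 := chi_tau_e_zero hc1 (toConv χ) γ (fun h => hne (eq_inv_of_mul_eq_one_left h))
      rw [ofConv_toConv] at h1
      exact h1
    · intro h
      exact absurd (Finset.mem_univ _) h
  exact (sub_eq_zero.mp h0).symm

theorem finrank_eq [Fintype (Chr K B)] {e : B} (he : IsIdempotentElem e)
    (hc1 : ∀ β : Chr K B, β ≠ 1 → β.ofConv e = 0) (hc0 : counit (R := K) e = 1) :
    Module.finrank K B =
      Fintype.card (Chr K B) * Module.finrank K (B ⧸ (Ideal.span {1 - e} : Ideal B)) := by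
  classical
  set J : Ideal B := Ideal.span {1 - e} with hJ
  have hmemJ : ∀ x, x ∈ J ↔ e * x = 0 := mem_span_iff he
  let Φ : B →ₗ[K] (Chr K B → B ⧸ J) :=
    LinearMap.pi (fun γ => (Ideal.Quotient.mkₐ K J).toLinearMap ∘ₗ (tau γ).toLinearMap)
  have hΦ : ∀ a γ, Φ a γ = Ideal.Quotient.mk J (tau γ a) := fun a γ => rfl
  have hinj : Function.Injective Φ := by
    rw [← LinearMap.ker_eq_bot, LinearMap.ker_eq_bot']
    intro a ha
    have h1 : ∀ γ : Chr K B, tau γ e * a = 0 := by
      intro γ
      have h2 : Φ a γ⁻¹ = 0 := by rw [ha]; rfl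
      rw [hΦ, Ideal.Quotient.eq_zero_iff_mem, hmemJ] at h2
      have h3 := congrArg (tau γ) h2
      rw [map_mul, map_zero, tau_inv_right] at h3
      exact h3
    calc a = (∑ γ : Chr K B, tau γ e) * a := by rw [sum_tau_e he hc1 hc0, one_mul]
      _ = ∑ γ : Chr K B, tau γ e * a := Finset.sum_mul _ _ _
      _ = 0 := Finset.sum_eq_zero (fun γ _ => h1 γ)
  have hsurj : Function.Surjective Φ := by
    intro f
    choose b hb using fun γ => Ideal.Quotient.mk_surjective (f γ)
    have key : ∀ (γ₀ γ : Chr K B) (x : B), γ ≠ γ₀ →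
        Ideal.Quotient.mk J (tau γ₀ (tau γ⁻¹ e * tau γ⁻¹ x)) = 0 := by
      intro γ₀ γ x hne
      rw [Ideal.Quotient.eq_zero_iff_mem, hmemJ, map_mul, ← mul_assoc]
      have h1 : tau γ₀ (tau γ⁻¹ e) = tau (γ⁻¹ * γ₀) e := AlgHom.congr_fun (tau_comp γ₀ γ⁻¹) e
      have hne' : (1 : Chr K B) ≠ γ⁻¹ * γ₀ := by
        intro h
        exact hne (inv_mul_eq_one.mp h.symm)
      have h3 : e * tau (γ⁻¹ * γ₀) e = 0 := by
        have h4 := orth he hc1 hne'
        rw [tau_one] at h4
        exact h4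
      rw [h1, h3, zero_mul]
    have key2 : ∀ (γ₀ : Chr K B) (x : B),
        Ideal.Quotient.mk J (tau γ₀ (tau γ₀⁻¹ e * tau γ₀⁻¹ x)) = Ideal.Quotient.mk J x := by
      intro γ₀ x
      rw [map_mul, tau_inv_right, tau_inv_right, ← sub_eq_zero, ← map_sub,
        Ideal.Quotient.eq_zero_iff_mem, hmemJ, mul_sub, ← mul_assoc, he.eq, sub_self]
    refine ⟨∑ γ : Chr K B, tau γ⁻¹ e * tau γ⁻¹ (b γ), ?_⟩
    funext γ₀
    rw [hΦ, map_sum, map_sum, Finset.sum_eq_single γ₀]
    · rw [key2, hb]
    · intro γ _ hne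
      exact key γ₀ γ (b γ) hne
    · intro h
      exact absurd (Finset.mem_univ γ₀) h
  have hfr := (LinearEquiv.ofBijective Φ ⟨hinj, hsurj⟩).finrank_eq
  rw [hfr, Module.finrank_pi_fintype, Finset.sum_const, Finset.card_univ, smul_eq_mul]

theorem phi_kills {e : B} (he : IsIdempotentElem e) (hc0 : counit (R := K) e = 1) (m : ℕ)
    (hm : ∀ β : Chr K B, β ^ m = 1) (x : B) (hx : x ∈ (Ideal.span {1 - e} : Ideal B)) :
    ((toConv (AlgHom.id K B)) ^ m).ofConv x = 0 := by
  obtain ⟨a, rfl⟩ := Ideal.mem_span_singleton'.mp hx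
  rw [map_mul]
  have h0 : ((toConv (AlgHom.id K B)) ^ m).ofConv (1 - e) = 0 := by
    apply idem_eq_zero (K := K) (he.one_sub.map _)
    intro χ
    have h1 := MultFinH1.comp_pow χ (toConv (AlgHom.id K B)) m
    have h2 : χ (((toConv (AlgHom.id K B)) ^ m).ofConv (1 - e)) =
        ((toConv (χ.comp (toConv (AlgHom.id K B)).ofConv)) ^ m).ofConv (1 - e) :=
      AlgHom.congr_fun h1 (1 - e)
    rw [h2, hm, chr_one_apply, map_sub, Bialgebra.counit_one, hc0, sub_self]
  rw [h0, mul_zero]

end Closed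

section Quot

variable {K : Type*} {B : Type*} [Field K] [IsAlgClosed K] [CommRing B] [HopfAlgebra K B]
  [Module.Finite K B]

theorem omega_zero {e : B} (he : IsIdempotentElem e)
    (hc1 : ∀ β : Chr K B, β ≠ 1 → β.ofConv e = 0) (hc0 : counit (R := K) e = 1) :
    ∀ x ∈ (Ideal.span {1 - e} : Ideal B),
      ((Algebra.TensorProduct.map (Ideal.Quotient.mkₐ K (Ideal.span {1 - e} : Ideal B))
        (Ideal.Quotient.mkₐ K (Ideal.span {1 - e} : Ideal B))).comp
          (Bialgebra.comulAlgHom K B)) x = 0 := by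
  set J : Ideal B := Ideal.span {1 - e} with hJ
  set π := Ideal.Quotient.mkₐ K J with hπ
  set Ω := (Algebra.TensorProduct.map π π).comp (Bialgebra.comulAlgHom K B) with hΩ
  have hz : Bialgebra.comulAlgHom K B (1 - e) * (e ⊗ₜ[K] e) = 0 := by
    have hid : IsIdempotentElem (Bialgebra.comulAlgHom K B (1 - e) * (e ⊗ₜ[K] e)) := by
      apply (he.one_sub.map _).mul
      show (e ⊗ₜ[K] e) * (e ⊗ₜ[K] e) = e ⊗ₜ[K] e
      rw [Algebra.TensorProduct.tmul_mul_tmul, he.eq]
    apply idem_eq_zero (K := K) hid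
    intro χ
    set β : Chr K B := toConv (χ.comp Algebra.TensorProduct.includeLeft) with hβdef
    set γ : Chr K B := toConv (χ.comp Algebra.TensorProduct.includeRight) with hγdef
    have hχ : χ = (Algebra.TensorProduct.lmul' K).comp
        (Algebra.TensorProduct.map β.ofConv γ.ofConv) := by
      apply Algebra.TensorProduct.ext'
      intro a b
      show χ (a ⊗ₜ b) = χ (a ⊗ₜ 1) * χ (1 ⊗ₜ b)
      rw [← map_mul, Algebra.TensorProduct.tmul_mul_tmul, mul_one, one_mul]
    have h1 : χ (Bialgebra.comulAlgHom K B (1 - e)) = (β * γ).ofConv (1 - e) := by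
      conv_lhs => rw [hχ]
      rfl
    have h2 : χ (e ⊗ₜ[K] e) = β.ofConv e * γ.ofConv e := by
      conv_lhs => rw [hχ]
      rfl
    rw [map_mul, h1, h2]
    by_cases hβ : β = 1
    · by_cases hγ : γ = 1
      · rw [hβ, hγ, mul_one, chr_one_apply, map_sub, Bialgebra.counit_one, hc0, sub_self,
          zero_mul]
      · rw [hc1 γ hγ, mul_zero, mul_zero]
    · rw [hc1 β hβ, zero_mul, mul_zero]
  intro x hx
  obtain ⟨a, rfl⟩ := Ideal.mem_span_singleton'.mp hx
  rw [map_mul]
  have h3 : Ω (1 - e) = 0 := by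
    have h5 : π e = 1 := by
      have h6 : π (1 - e) = 0 := Ideal.Quotient.eq_zero_iff_mem.mpr (Ideal.subset_span rfl)
      rw [map_sub, map_one, sub_eq_zero] at h6
      exact h6.symm
    have h4 : Ω (1 - e) =
        Algebra.TensorProduct.map π π (Bialgebra.comulAlgHom K B (1 - e) * (e ⊗ₜ[K] e)) := by
      rw [map_mul, Algebra.TensorProduct.map_tmul, h5, ← Algebra.TensorProduct.one_def, mul_one]
      rfl
    rw [h4, hz, map_zero]
  rw [h3, mul_zero]

theorem isCoideal {e : B} (he : IsIdempotentElem e)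
    (hc1 : ∀ β : Chr K B, β ≠ 1 → β.ofConv e = 0) (hc0 : counit (R := K) e = 1)
    (hJI : (Ideal.span {1 - e} : Ideal B) ≤ InfOrderH1.augI K B) :
    ((Ideal.span {1 - e} : Ideal B).restrictScalars K).IsCoideal where
  counit_eq_zero := fun x hx => (InfOrderH1.mem_augI x).mp (hJI hx)
  map_mkQ_comul_eq_zero := fun x hx => omega_zero he hc1 hc0 x hx

omit [IsAlgClosed K] in
theorem isLocal_quot {e : B} {N : ℕ} (h1N : 1 ≤ N)
    (hJ : Ideal.span {1 - e} = (InfOrderH1.augI K B) ^ N) :
    IsLocalRing (B ⧸ (Ideal.span {1 - e} : Ideal B)) := by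
  set J : Ideal B := Ideal.span {1 - e} with hJdef
  have hJI : J ≤ InfOrderH1.augI K B := by
    rw [hJ]
    exact Ideal.pow_le_self (by omega)
  haveI : Nontrivial (B ⧸ J) := by
    rw [Ideal.Quotient.nontrivial_iff]
    intro htop
    have h1 : (1 : B) ∈ InfOrderH1.augI K B := hJI (htop ▸ Submodule.mem_top)
    rw [InfOrderH1.mem_augI, Bialgebra.counit_one] at h1
    exact one_ne_zero h1
  have hunit : ∀ a : B, counit (R := K) a ≠ 0 → IsUnit (Ideal.Quotient.mk J a) := by
    intro a ha
    have h1 : a - algebraMap K B (counit (R := K) a) ∈ InfOrderH1.augI K B := by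
      rw [InfOrderH1.mem_augI, map_sub, Bialgebra.counit_algebraMap, sub_self]
    have h2 : IsNilpotent (Ideal.Quotient.mk J (a - algebraMap K B (counit (R := K) a))) := by
      refine ⟨N, ?_⟩
      rw [← map_pow, Ideal.Quotient.eq_zero_iff_mem, hJ]
      exact Ideal.pow_mem_pow h1 N
    have h3 : IsUnit (Ideal.Quotient.mk J (algebraMap K B (counit (R := K) a))) := by
      have h0 : IsUnit (counit (R := K) a) := isUnit_iff_ne_zero.mpr ha
      exact (h0.map (algebraMap K B)).map (Ideal.Quotient.mk J)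
    have h4 := h2.isUnit_add_left_of_commute h3 (Commute.all _ _)
    rw [← map_add, add_sub_cancel] at h4
    exact h4
  apply IsLocalRing.of_isUnit_or_isUnit_one_sub_self
  intro x
  obtain ⟨a, rfl⟩ := Ideal.Quotient.mk_surjective x
  by_cases ha : counit (R := K) a = 0
  · right
    rw [← map_one (Ideal.Quotient.mk J), ← map_sub]
    apply hunit
    rw [map_sub, Bialgebra.counit_one, ha, sub_zero]
    exact one_ne_zero
  · left
    exact hunit a ha

theorem finrank_quot (q : ℕ) [hq : ExpChar K q] {e : B} (he : IsIdempotentElem e)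
    (hc1 : ∀ β : Chr K B, β ≠ 1 → β.ofConv e = 0) (hc0 : counit (R := K) e = 1) {N : ℕ}
    (h1N : 1 ≤ N) (hJ : Ideal.span {1 - e} = (InfOrderH1.augI K B) ^ N) :
    ∃ r, Module.finrank K (B ⧸ (Ideal.span {1 - e} : Ideal B)) = q ^ r := by
  set J : Ideal B := Ideal.span {1 - e} with hJdef
  have hJI : J ≤ InfOrderH1.augI K B := by
    rw [hJ]
    exact Ideal.pow_le_self (by omega)
  haveI := isCoideal he hc1 hc0 hJI
  haveI := isLocal_quot h1N hJ
  obtain _ | hprime := hq
  · refine ⟨0, ?_⟩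
    rw [pow_zero]
    haveI : Algebra.FiniteType K B := inferInstance
    haveI : IsReduced B := CartierRedH1.isReduced_charZero (k := K) (A := B)
    have hsurj : Function.Surjective (Algebra.linearMap K (B ⧸ J)) := by
      intro x
      obtain ⟨a, rfl⟩ := Ideal.Quotient.mk_surjective x
      refine ⟨counit (R := K) a, ?_⟩
      have h1 : a - algebraMap K B (counit (R := K) a) ∈ InfOrderH1.augI K B := by
        rw [InfOrderH1.mem_augI, map_sub, Bialgebra.counit_algebraMap, sub_self]
      have h2 : (a - algebraMap K B (counit (R := K) a)) ^ N ∈ J := by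
        rw [hJ]
        exact Ideal.pow_mem_pow h1 N
      rw [mem_span_iff he] at h2
      have h3 : (e * (a - algebraMap K B (counit (R := K) a))) ^ N = 0 := by
        rw [mul_pow, he.pow_eq (by omega), h2]
      have h4 : e * (a - algebraMap K B (counit (R := K) a)) = 0 :=
        IsNilpotent.eq_zero ⟨N, h3⟩
      have h5 : a - algebraMap K B (counit (R := K) a) ∈ J := (mem_span_iff he _).mpr h4
      have h6 := Ideal.Quotient.eq_zero_iff_mem.mpr h5
      rw [map_sub, sub_eq_zero] at h6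
      rw [h6]
      rfl
    have hinj : Function.Injective (Algebra.linearMap K (B ⧸ J)) :=
      (algebraMap K (B ⧸ J)).injective
    have e' := LinearEquiv.ofBijective (Algebra.linearMap K (B ⧸ J)) ⟨hinj, hsurj⟩
    rw [← e'.finrank_eq, Module.finrank_self]
  · haveI := Fact.mk hprime
    exact InfOrderH1.main_charP (k := K) (A := B ⧸ J) q

theorem closed_case (K : Type*) (B : Type*) [Field K] [IsAlgClosed K] [CommRing B]
    [HopfAlgebra K B] [Module.Finite K B] :
    (toConv (AlgHom.id K B)) ^ (Module.finrank K B) = 1 := by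
  classical
  obtain ⟨e, N, he, h1N, hJ, hstab⟩ := exists_idem (K := K) (B := B)
  have hc0 := counit_e h1N hJ
  have hc1 := char_e he hJ
  haveI : Finite (Chr K B) := Finite.of_equiv _ (WithConv.equiv (B →ₐ[K] K)).symm
  haveI : Fintype (Chr K B) := Fintype.ofFinite _
  have hpow : ∀ β : Chr K B, β ^ (Fintype.card (Chr K B)) = 1 := fun β => pow_card_eq_one
  have hn := finrank_eq he hc1 hc0
  obtain ⟨q, hq⟩ := ExpChar.exists K
  haveI := hq
  obtain ⟨r, hr⟩ := finrank_quot q he hc1 hc0 h1N hJ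
  have hle := pow_finrank_le (K := K) (InfOrderH1.augI K B) hJ
  rw [hn, pow_mul]
  apply WithConv.ofConv_injective
  apply AlgHom.ext
  intro x
  have h1 := MultFinH1.comp_pow ((toConv (AlgHom.id K B)) ^ (Fintype.card (Chr K B))).ofConv
    (toConv (AlgHom.id K B)) (Module.finrank K (B ⧸ (Ideal.span {1 - e} : Ideal B)))
  have h2 := AlgHom.congr_fun h1 x
  rw [show (toConv (AlgHom.id K B)).ofConv = AlgHom.id K B from rfl, AlgHom.comp_id,
    toConv_ofConv] at h2
  rw [← h2]
  have h3 := pow_expChar_sub_mem (K := K) (B := B) q r x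
  rw [← hr] at h3
  have h4 := phi_kills he hc0 _ hpow _ (hle h3)
  rw [map_sub, sub_eq_zero, AlgHom.commutes] at h4
  show ((toConv (AlgHom.id K B)) ^ (Fintype.card (Chr K B))).ofConv
    (((toConv (AlgHom.id K B)) ^
      (Module.finrank K (B ⧸ (Ideal.span {1 - e} : Ideal B)))).ofConv x) = _
  rw [h4]
  rfl

end Quot

theorem main (k : Type u) [Field k] (A : Type u) [CommRing A] [HopfAlgebra k A]
    [Module.Finite k A] :
    (toConv (AlgHom.id k A)) ^ (Module.finrank k A) = 1 := by
  rw [← MultFinH1.triv_iff_pow]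
  apply MultFinH1.triv_descend (S := AlgebraicClosure k)
  rw [MultFinH1.triv_iff_pow]
  have h := closed_case (AlgebraicClosure k) (AlgebraicClosure k ⊗[k] A)
  rw [Module.finrank_baseChange] at h
  exact h

end FinOrderH1
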