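import Mathlib
import Groth.Agent.Lib.FinOrder2_helper1

set_option autoImplicit false
set_option maxHeartbeats 1000000

/-!
# Deligne's theorem: a commutative finite locally free group scheme is killed by its order (helper1)

`A` commutative cocommutative Hopf algebra over `R`, free of rank `n`: with `E = End_R(A)` and
`EB = Hom_R(A, A ⊗ A)` (convolution rings), `EB` is a free `E`-algebra of rank `n`, translation by
the universal point is an `E`-algebra automorphism `σ` of `EB` with `σ ι = id • ι` for the unit
`ι = includeRight`; taking norms gives `id ^ n = 1`.  The general case follows by localisation.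
-/

namespace DeligneH1

open TensorProduct WithConv Coalgebra HopfAlgebra

universe u v

section Free

/-- the convolution ring of endomorphisms -/
abbrev E (R A : Type*) [CommRing R] [CommRing A] [HopfAlgebra R A] := WithConv (A →ₗ[R] A)

/-- the convolution ring of maps to `A ⊗ A` -/
abbrev EB (R A : Type*) [CommRing R] [CommRing A] [HopfAlgebra R A] :=
  WithConv (A →ₗ[R] (A ⊗[R] A))

variable {R : Type*} {A : Type*} [CommRing R] [CommRing A] [HopfAlgebra R A] [IsCocomm R A]

/-- post-composition with `includeLeft` -/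
noncomputable def jHom : E R A →+* EB R A where
  toFun f := toConv ((Algebra.TensorProduct.includeLeft : A →ₐ[R] A ⊗[R] A).toLinearMap ∘ₗ f.ofConv)
  map_one' := by
    apply WithConv.ext
    apply LinearMap.ext
    intro x
    show (Algebra.TensorProduct.includeLeft : A →ₐ[R] A ⊗[R] A)
      (algebraMap R A (counit (R := R) x)) = algebraMap R (A ⊗[R] A) (counit (R := R) x)
    exact AlgHom.commutes _ _
  map_mul' f g := by
    apply WithConv.ofConv_injective
    exact LinearMap.algHom_comp_convMul_distrib _ f g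
  map_zero' := by
    rw [ofConv_zero, LinearMap.comp_zero, toConv_zero]
  map_add' f g := by
    rw [ofConv_add, LinearMap.comp_add, toConv_add]

/-- `EB` as an `E`-algebra -/
noncomputable def algInst : Algebra (E R A) (EB R A) := jHom.toAlgebra

attribute [local instance] algInst

theorem algebraMap_eq (g : E R A) : algebraMap (E R A) (EB R A) g = jHom g := rfl

theorem smul_eq (g : E R A) (F : EB R A) : g • F = jHom g * F := rfl

variable {ι : Type*} [Fintype ι] (b : Module.Basis ι R A)

/-- coordinates with respect to the right factor -/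
noncomputable def crd (i : ι) : A ⊗[R] A →ₗ[R] A :=
  (TensorProduct.rid R A).toLinearMap ∘ₗ LinearMap.lTensor A (b.coord i)

theorem crd_tmul (i : ι) (y a : A) : crd b i (y ⊗ₜ[R] a) = (b.repr a i) • y := by
  simp [crd]

theorem crd_mul (i : ι) (y : A) (z : A ⊗[R] A) :
    crd b i ((y ⊗ₜ[R] (1 : A)) * z) = y * crd b i z := by
  induction z using TensorProduct.induction_on with
  | zero => simp
  | tmul y' a =>
    rw [Algebra.TensorProduct.tmul_mul_tmul, one_mul, crd_tmul, crd_tmul, mul_smul_comm]
  | add z w hz hw => rw [mul_add, map_add, map_add, hz, hw, mul_add]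

theorem sum_crd (z : A ⊗[R] A) : ∑ i, crd b i z ⊗ₜ[R] b i = z := by
  induction z using TensorProduct.induction_on with
  | zero => simp
  | tmul y a =>
    simp only [crd_tmul]
    conv_rhs => rw [← b.sum_repr a, TensorProduct.tmul_sum]
    apply Finset.sum_congr rfl
    intro i _
    rw [TensorProduct.smul_tmul]
  | add z w hz hw =>
    simp only [map_add, TensorProduct.add_tmul, Finset.sum_add_distrib, hz, hw]

theorem crd_sum (F : ι → A) (i : ι) : crd b i (∑ j, F j ⊗ₜ[R] b j) = F i := by
  classical
  rw [map_sum]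
  simp only [crd_tmul, b.repr_self]
  rw [Finset.sum_eq_single i]
  · simp
  · intro j _ hj
    simp [Finsupp.single_apply, hj]
  · intro h
    exact absurd (Finset.mem_univ i) h

/-- `EB` is free over `E` with coordinates `crd` -/
noncomputable def theta : EB R A ≃ₗ[E R A] (ι → E R A) where
  toFun F := fun i => toConv (crd b i ∘ₗ F.ofConv)
  invFun G := toConv (∑ i, (TensorProduct.mk R A A).flip (b i) ∘ₗ (G i).ofConv)
  map_add' F G := by
    funext i
    show toConv (crd b i ∘ₗ (F + G).ofConv) = toConv (crd b i ∘ₗ F.ofConv) + toConv (crd b i ∘ₗ G.ofConv)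
    rw [ofConv_add, LinearMap.comp_add, toConv_add]
  map_smul' g F := by
    funext i
    show toConv (crd b i ∘ₗ (jHom g * F).ofConv) = g * toConv (crd b i ∘ₗ F.ofConv)
    apply WithConv.ext
    apply LinearMap.ext
    intro x
    show crd b i ((jHom g * F) x) = (g * toConv (crd b i ∘ₗ F.ofConv)) x
    rw [LinearMap.convMul_apply, LinearMap.convMul_apply]
    generalize comul (R := R) x = w
    induction w using TensorProduct.induction_on with
    | zero => simp
    | tmul x₁ x₂ =>
      rw [TensorProduct.map_tmul, LinearMap.mul'_apply, TensorProduct.map_tmul,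
        LinearMap.mul'_apply]
      exact crd_mul b i (g x₁) (F x₂)
    | add w₁ w₂ h₁ h₂ => simp only [map_add, h₁, h₂]
  left_inv F := by
    apply WithConv.ext
    apply LinearMap.ext
    intro x
    show (∑ i, (TensorProduct.mk R A A).flip (b i) ∘ₗ (crd b i ∘ₗ F.ofConv)) x = F x
    rw [LinearMap.sum_apply]
    exact sum_crd b (F x)
  right_inv G := by
    funext i
    apply WithConv.ext
    apply LinearMap.ext
    intro x
    show crd b i ((∑ j, (TensorProduct.mk R A A).flip (b j) ∘ₗ (G j).ofConv) x) = G i x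
    rw [LinearMap.sum_apply]
    exact crd_sum b (fun j => G j x) i

/-- post-composition with an algebra endomorphism of `A ⊗ A` fixing the left factor -/
noncomputable def post (h : A ⊗[R] A →ₐ[R] A ⊗[R] A)
    (hh : ∀ y : A, h (y ⊗ₜ[R] (1 : A)) = y ⊗ₜ[R] (1 : A)) : EB R A →ₐ[E R A] EB R A where
  toFun F := toConv (h.toLinearMap ∘ₗ F.ofConv)
  map_one' := by
    apply WithConv.ext
    apply LinearMap.ext
    intro x
    show h (algebraMap R (A ⊗[R] A) (counit (R := R) x)) =
      algebraMap R (A ⊗[R] A) (counit (R := R) x)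
    exact AlgHom.commutes _ _
  map_mul' F G := by
    apply WithConv.ofConv_injective
    exact LinearMap.algHom_comp_convMul_distrib h F G
  map_zero' := by
    rw [ofConv_zero, LinearMap.comp_zero, toConv_zero]
  map_add' F G := by
    rw [ofConv_add, LinearMap.comp_add, toConv_add]
  commutes' g := by
    apply WithConv.ext
    apply LinearMap.ext
    intro x
    show h ((g x) ⊗ₜ[R] (1 : A)) = (g x) ⊗ₜ[R] (1 : A)
    exact hh (g x)

theorem post_apply (h : A ⊗[R] A →ₐ[R] A ⊗[R] A)
    (hh : ∀ y : A, h (y ⊗ₜ[R] (1 : A)) = y ⊗ₜ[R] (1 : A)) (F : EB R A) (x : A) :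
    (post h hh F) x = h (F x) := rfl

/-- `includeLeft` in the convolution group -/
noncomputable abbrev Lc : WithConv (A →ₐ[R] A ⊗[R] A) :=
  toConv Algebra.TensorProduct.includeLeft

/-- `includeRight` in the convolution group -/
noncomputable abbrev Rc : WithConv (A →ₐ[R] A ⊗[R] A) :=
  toConv Algebra.TensorProduct.includeRight

/-- translation by the universal point -/
noncomputable def tr : A ⊗[R] A →ₐ[R] A ⊗[R] A :=
  Algebra.TensorProduct.lift Algebra.TensorProduct.includeLeft
    ((Lc (R := R) (A := A)) * Rc).ofConv (fun _ _ => Commute.all _ _)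

/-- inverse translation -/
noncomputable def tr' : A ⊗[R] A →ₐ[R] A ⊗[R] A :=
  Algebra.TensorProduct.lift Algebra.TensorProduct.includeLeft
    ((Lc (R := R) (A := A))⁻¹ * Rc).ofConv (fun _ _ => Commute.all _ _)

theorem tr_left (y : A) : tr (R := R) (y ⊗ₜ[R] (1 : A)) = y ⊗ₜ[R] (1 : A) := by
  show (Algebra.TensorProduct.includeLeft : A →ₐ[R] A ⊗[R] A) y *
    ((Lc (R := R) (A := A)) * Rc).ofConv 1 = _
  rw [map_one, mul_one]
  rfl

theorem tr'_left (y : A) : tr' (R := R) (y ⊗ₜ[R] (1 : A)) = y ⊗ₜ[R] (1 : A) := by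
  show (Algebra.TensorProduct.includeLeft : A →ₐ[R] A ⊗[R] A) y *
    ((Lc (R := R) (A := A))⁻¹ * Rc).ofConv 1 = _
  rw [map_one, mul_one]
  rfl

theorem comp_Lc (h : A ⊗[R] A →ₐ[R] A ⊗[R] A)
    (hh : ∀ y : A, h (y ⊗ₜ[R] (1 : A)) = y ⊗ₜ[R] (1 : A)) :
    h.comp (Lc (R := R) (A := A)).ofConv = (Lc (R := R) (A := A)).ofConv := by
  apply AlgHom.ext
  intro y
  exact hh y

theorem comp_Lc_inv (h : A ⊗[R] A →ₐ[R] A ⊗[R] A)
    (hh : ∀ y : A, h (y ⊗ₜ[R] (1 : A)) = y ⊗ₜ[R] (1 : A)) :
    h.comp ((Lc (R := R) (A := A))⁻¹).ofConv = ((Lc (R := R) (A := A))⁻¹).ofConv := by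
  apply AlgHom.ext
  intro y
  exact hh (antipodeAlgHom R A y)

theorem tr_comp_Rc : (tr (R := R) (A := A)).comp (Rc (R := R) (A := A)).ofConv =
    ((Lc (R := R) (A := A)) * Rc).ofConv :=
  Algebra.TensorProduct.lift_comp_includeRight' _ _ _

theorem tr'_comp_Rc : (tr' (R := R) (A := A)).comp (Rc (R := R) (A := A)).ofConv =
    ((Lc (R := R) (A := A))⁻¹ * Rc).ofConv :=
  Algebra.TensorProduct.lift_comp_includeRight' _ _ _

theorem tr_tr' (w : A ⊗[R] A) : tr (R := R) (tr' w) = w := by
  have h3 : (tr (R := R) (A := A)).comp ((Lc (R := R) (A := A))⁻¹ * Rc).ofConv =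
      (Rc (R := R) (A := A)).ofConv := by
    rw [AlgHom.comp_convMul_distrib, comp_Lc_inv _ tr_left, tr_comp_Rc]
    simp only [toConv_ofConv]
    exact congrArg WithConv.ofConv (inv_mul_cancel_left (Lc (R := R) (A := A)) Rc)
  induction w using TensorProduct.induction_on with
  | zero => simp
  | tmul y a =>
    show tr (R := R) ((Algebra.TensorProduct.includeLeft : A →ₐ[R] A ⊗[R] A) y *
      ((Lc (R := R) (A := A))⁻¹ * Rc).ofConv a) = _
    rw [map_mul]
    have h4 : tr (R := R) (((Lc (R := R) (A := A))⁻¹ * Rc).ofConv a) =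
        (Rc (R := R) (A := A)).ofConv a := AlgHom.congr_fun h3 a
    rw [h4]
    show tr (R := R) (y ⊗ₜ[R] (1 : A)) * ((1 : A) ⊗ₜ[R] a) = _
    rw [tr_left, Algebra.TensorProduct.tmul_mul_tmul, mul_one, one_mul]
  | add x y hx hy => rw [map_add, map_add, hx, hy]

theorem tr'_tr (w : A ⊗[R] A) : tr' (R := R) (tr w) = w := by
  have h3 : (tr' (R := R) (A := A)).comp ((Lc (R := R) (A := A)) * Rc).ofConv =
      (Rc (R := R) (A := A)).ofConv := by
    rw [AlgHom.comp_convMul_distrib, comp_Lc _ tr'_left, tr'_comp_Rc]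
    simp only [toConv_ofConv]
    exact congrArg WithConv.ofConv (mul_inv_cancel_left (Lc (R := R) (A := A)) Rc)
  induction w using TensorProduct.induction_on with
  | zero => simp
  | tmul y a =>
    show tr' (R := R) ((Algebra.TensorProduct.includeLeft : A →ₐ[R] A ⊗[R] A) y *
      ((Lc (R := R) (A := A)) * Rc).ofConv a) = _
    rw [map_mul]
    have h4 : tr' (R := R) (((Lc (R := R) (A := A)) * Rc).ofConv a) =
        (Rc (R := R) (A := A)).ofConv a := AlgHom.congr_fun h3 a
    rw [h4]
    show tr' (R := R) (y ⊗ₜ[R] (1 : A)) * ((1 : A) ⊗ₜ[R] a) = _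
    rw [tr'_left, Algebra.TensorProduct.tmul_mul_tmul, mul_one, one_mul]
  | add x y hx hy => rw [map_add, map_add, hx, hy]

/-- the translation automorphism of `EB` over `E` -/
noncomputable def sigma : EB R A ≃ₐ[E R A] EB R A :=
  AlgEquiv.ofAlgHom (post tr tr_left) (post tr' tr'_left)
    (by
      apply AlgHom.ext
      intro F
      apply WithConv.ext
      apply LinearMap.ext
      intro x
      exact tr_tr' (F x))
    (by
      apply AlgHom.ext
      intro F
      apply WithConv.ext
      apply LinearMap.ext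
      intro x
      exact tr'_tr (F x))

theorem free_case (b : Module.Basis ι R A) :
    (toConv (AlgHom.id R A)) ^ (Fintype.card ι) = 1 := by
  set idE : E R A := toConv LinearMap.id with hidE
  set iota : EB R A :=
    toConv (Algebra.TensorProduct.includeRight : A →ₐ[R] A ⊗[R] A).toLinearMap with hiota
  let B' : Module.Basis ι (E R A) (EB R A) := Module.Basis.ofEquivFun (theta b)
  have hσ : sigma iota = algebraMap (E R A) (EB R A) idE * iota := by
    show toConv ((tr (R := R) (A := A)).toLinearMap ∘ₗ
      (Algebra.TensorProduct.includeRight : A →ₐ[R] A ⊗[R] A).toLinearMap) = jHom idE * iota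
    have h3 : (tr (R := R) (A := A)).toLinearMap ∘ₗ
        (Algebra.TensorProduct.includeRight : A →ₐ[R] A ⊗[R] A).toLinearMap =
        (((Lc (R := R) (A := A)) * Rc).ofConv).toLinearMap := by
      rw [← AlgHom.comp_toLinearMap]
      exact congrArg AlgHom.toLinearMap tr_comp_Rc
    rw [h3, AlgHom.toLinearMap_convMul]
    rfl
  have hunit : IsUnit iota := by
    have h4 := LinearMap.algHom_comp_convMul_distrib
      (Algebra.TensorProduct.includeRight : A →ₐ[R] A ⊗[R] A) (toConv LinearMap.id)
      (toConv (antipode R (A := A)))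
    rw [LinearMap.id_mul_antipode] at h4
    refine IsUnit.of_mul_eq_one
      (toConv ((Algebra.TensorProduct.includeRight : A →ₐ[R] A ⊗[R] A).toLinearMap ∘ₗ
        antipode R (A := A))) ?_
    apply WithConv.ofConv_injective
    have h5 : (Algebra.TensorProduct.includeRight : A →ₐ[R] A ⊗[R] A).toLinearMap ∘ₗ
        (1 : E R A).ofConv = (1 : EB R A).ofConv := by
      apply LinearMap.ext
      intro x
      show (Algebra.TensorProduct.includeRight : A →ₐ[R] A ⊗[R] A)
        (algebraMap R A (counit (R := R) x)) = algebraMap R (A ⊗[R] A) (counit (R := R) x)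
      exact AlgHom.commutes _ _
    exact h4.symm.trans h5
  have hN : Algebra.norm (E R A) iota =
      idE ^ (Fintype.card ι) * Algebra.norm (E R A) iota := by
    conv_lhs => rw [← Algebra.norm_eq_of_algEquiv sigma iota, hσ, map_mul,
      Algebra.norm_algebraMap_of_basis B']
  have hNu : IsUnit (Algebra.norm (E R A) iota) := hunit.map _
  have h1 : idE ^ (Fintype.card ι) = 1 :=
    hNu.mul_right_cancel (by rw [one_mul]; exact hN.symm)
  apply WithConv.ofConv_injective
  apply AlgHom.toLinearMap_injective
  apply WithConv.toConv_injective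
  rw [AlgHom.toLinearMap_convPow]
  exact h1

end Free

theorem main15048 (R : Type u) [CommRing R] (A : Type v) [CommRing A] [HopfAlgebra R A]
    [Coalgebra.IsCocomm R A] [Module.Finite R A] [Module.Projective R A] (n : ℕ)
    (hn : ∀ p : PrimeSpectrum R, Module.rankAtStalk A p = n) :
    (WithConv.toConv (AlgHom.id R A)) ^ n = 1 := by
  apply WithConv.ofConv_injective
  apply AlgHom.ext
  intro a
  rw [← sub_eq_zero]
  apply Module.eq_zero_of_localization_maximal
    (fun P _ => Localization.AtPrime P ⊗[R] A)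
    (fun P _ => TensorProduct.mk R (Localization.AtPrime P) A 1)
  intro P hP
  show (1 : Localization.AtPrime P) ⊗ₜ[R] (_ - _) = 0
  rw [TensorProduct.tmul_sub, sub_eq_zero]
  show (1 : Localization.AtPrime P) ⊗ₜ[R] ((toConv (AlgHom.id R A)) ^ n).ofConv a =
    (1 : Localization.AtPrime P) ⊗ₜ[R] algebraMap R A (counit (R := R) a)
  rw [← FinOrderH1.pow_baseChange, ← FinOrderH1.one_tmul_algebraMap']
  haveI : Module.Free (Localization.AtPrime P) (Localization.AtPrime P ⊗[R] A) :=
    Module.free_of_flat_of_isLocalRing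
  have hfr : Module.finrank (Localization.AtPrime P) (Localization.AtPrime P ⊗[R] A) = n := by
    rw [← Module.rankAtStalk_eq_finrank_tensorProduct (M := A) ⟨P, hP.isPrime⟩]
    exact hn _
  have h := free_case (Module.Free.chooseBasis (Localization.AtPrime P)
    (Localization.AtPrime P ⊗[R] A))
  rw [← Module.finrank_eq_card_chooseBasisIndex, hfr] at h
  rw [h]
  rfl

end DeligneH1
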