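import Mathlib
import Groth.Prelude.Def_DeltaF
import Groth.Agent.Lib.DeltaUniv_helper2

/-!
# Group valued δ-functors: element-wise criteria for a morphism to be an isomorphism
-/

set_option autoImplicit false
universe w v u
open CategoryTheory Limits

namespace Groth.Agent.Lib.DeltaAb

open DeltaF Groth.Agent.Lib.DeltaUniv

variable {C : Type u} [Category.{v} C] [Abelian C]

section Elem

variable (T : CohDeltaFunctor C AddCommGrpCat.{w} ℕ) (S : ShortComplex C) (hS : S.ShortExact)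

include hS in
lemma ex2 (n : ℕ) (x : (T.F n).obj S.X₂) (hx : ((T.F n).map S.g).hom x = 0) :
    ∃ y : (T.F n).obj S.X₁, ((T.F n).map S.f).hom y = x := by
  have h := T.exact₂ S hS n
  rw [ShortComplex.ab_exact_iff] at h
  exact h x hx

lemma ex3 (n : ℕ) (z : (T.F n).obj S.X₃) (hz : (T.δ S hS n (n + 1) rfl).hom z = 0) :
    ∃ y : (T.F n).obj S.X₂, ((T.F n).map S.g).hom y = z := by
  have h := T.exact₃ S hS n (n + 1) rfl
  rw [ShortComplex.ab_exact_iff] at h
  exact h z hz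

lemma ex1 (n : ℕ) (w : (T.F (n + 1)).obj S.X₁) (hw : ((T.F (n + 1)).map S.f).hom w = 0) :
    ∃ z : (T.F n).obj S.X₃, (T.δ S hS n (n + 1) rfl).hom z = w := by
  have h := T.exact₁ S hS n (n + 1) rfl
  rw [ShortComplex.ab_exact_iff] at h
  exact h w hw

lemma g_δ (n : ℕ) (y : (T.F n).obj S.X₂) :
    (T.δ S hS n (n + 1) rfl).hom (((T.F n).map S.g).hom y) = 0 :=
  congrArg (fun t => t.hom y) (T.comp_δ S hS n (n + 1) rfl)

lemma δ_f (n : ℕ) (z : (T.F n).obj S.X₃) :
    ((T.F (n + 1)).map S.f).hom ((T.δ S hS n (n + 1) rfl).hom z) = 0 :=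
  congrArg (fun t => t.hom z) (T.δ_comp S hS n (n + 1) rfl)

lemma f_g (n : ℕ) (y : (T.F n).obj S.X₁) :
    ((T.F n).map S.g).hom (((T.F n).map S.f).hom y) = 0 := by
  have h : (T.F n).map S.f ≫ (T.F n).map S.g = 0 := by
    rw [← CategoryTheory.Functor.map_comp, S.zero, CategoryTheory.Functor.map_zero]
  exact congrArg (fun t => t.hom y) h

end Elem

variable {T T' : CohDeltaFunctor C AddCommGrpCat.{w} ℕ} (φ : T ⟶ T')

lemma nat_apply (n : ℕ) {X Y : C} (f : X ⟶ Y) (x : (T.F n).obj X) :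
    ((φ.app n).app Y).hom (((T.F n).map f).hom x) =
      ((T'.F n).map f).hom (((φ.app n).app X).hom x) :=
  congrArg (fun t => t.hom x) ((φ.app n).naturality f)

lemma comm_apply (S : ShortComplex C) (hS : S.ShortExact) (n : ℕ) (z : (T.F n).obj S.X₃) :
    ((φ.app (n + 1)).app S.X₁).hom ((T.δ S hS n (n + 1) rfl).hom z) =
      (T'.δ S hS n (n + 1) rfl).hom (((φ.app n).app S.X₃).hom z) :=
  congrArg (fun t => t.hom z) (φ.comm S hS n (n + 1) rfl)

/-- element-wise effaceability -/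
def EffEl (T : CohDeltaFunctor C AddCommGrpCat.{w} ℕ) : Prop :=
  ∀ (q : ℕ) (A : C) (α : (T.F (q + 1)).obj A),
    ∃ (M : C) (u : A ⟶ M), Mono u ∧ ((T.F (q + 1)).map u).hom α = 0

lemma inj_succ (hT : EffEl T) (q : ℕ)
    (hq : ∀ A, Function.Bijective ((φ.app q).app A).hom) (A : C) :
    Function.Injective ((φ.app (q + 1)).app A).hom := by
  rw [injective_iff_map_eq_zero]
  intro α hα
  obtain ⟨M, u, hu, hα0⟩ := hT q A α
  haveI := hu
  obtain ⟨β, rfl⟩ := ex1 T (SE u) (SE_shortExact u) q α hα0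
  have hα2 : (T'.δ (SE u) (SE_shortExact u) q (q + 1) rfl).hom
      (((φ.app q).app (SE u).X₃).hom β) = 0 :=
    (comm_apply φ (SE u) (SE_shortExact u) q β).symm.trans hα
  obtain ⟨γ', hγ'⟩ := ex3 T' (SE u) (SE_shortExact u) q _ hα2
  obtain ⟨γ, rfl⟩ := (hq (SE u).X₂).2 γ'
  rw [← nat_apply] at hγ'
  have := (hq (SE u).X₃).1 hγ'
  rw [← this, g_δ]

lemma surj_succ (hT' : EffEl T') (q : ℕ)
    (hq : ∀ A, Function.Surjective ((φ.app q).app A).hom) (A : C) :
    Function.Surjective ((φ.app (q + 1)).app A).hom := by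
  intro α'
  obtain ⟨M, u, hu, hα0⟩ := hT' q A α'
  haveI := hu
  obtain ⟨β', rfl⟩ := ex1 T' (SE u) (SE_shortExact u) q α' hα0
  obtain ⟨β, rfl⟩ := hq (SE u).X₃ β'
  exact ⟨(T.δ (SE u) (SE_shortExact u) q (q + 1) rfl).hom β, comm_apply φ _ _ q β⟩

lemma effEl_of_bij (hT : EffEl T) (h : ∀ q A, Function.Bijective ((φ.app q).app A).hom) :
    EffEl T' := by
  intro q A α'
  obtain ⟨α, rfl⟩ := (h (q + 1) A).2 α'
  obtain ⟨M, u, hu, hα0⟩ := hT q A α
  refine ⟨M, u, hu, ?_⟩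
  rw [← nat_apply, hα0, map_zero]

variable (E : ObjectProperty C) (hE : ∀ A : C, ∃ (M : C) (i : A ⟶ M), Mono i ∧ E M)

include hE in
lemma zero_inj (hT0 : T.ZeroMono) (h : ∀ M, E M → Function.Injective ((φ.app 0).app M).hom)
    (A : C) : Function.Injective ((φ.app 0).app A).hom := by
  obtain ⟨M, u, hu, hM⟩ := hE A
  haveI := hu
  have hmono : Function.Injective ((T.F 0).map u).hom :=
    (AddCommGrpCat.mono_iff_injective _).mp (hT0 (SE u) (SE_shortExact u))
  intro x y hxy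
  apply hmono
  apply h M hM
  rw [nat_apply, nat_apply, hxy]

include hE in
lemma zero_surj (hT'0 : T'.ZeroMono) (h : ∀ M, E M → Function.Surjective ((φ.app 0).app M).hom)
    (hinj : ∀ A, Function.Injective ((φ.app 0).app A).hom) (A : C) :
    Function.Surjective ((φ.app 0).app A).hom := by
  obtain ⟨M, u, hu, hM⟩ := hE A
  haveI := hu
  have hmono : Function.Injective ((T'.F 0).map u).hom :=
    (AddCommGrpCat.mono_iff_injective _).mp (hT'0 (SE u) (SE_shortExact u))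
  intro α'
  obtain ⟨μ, hμ⟩ := h M hM (((T'.F 0).map u).hom α')
  have h1 : ((T.F 0).map (SE u).g).hom μ = 0 := by
    apply hinj
    rw [nat_apply, map_zero]
    show ((T'.F 0).map (SE u).g).hom (((φ.app 0).app M).hom μ) = 0
    rw [hμ]
    exact f_g T' (SE u) 0 α'
  obtain ⟨α, rfl⟩ := ex2 T (SE u) (SE_shortExact u) 0 μ h1
  refine ⟨α, hmono ?_⟩
  rw [← hμ]
  exact (nat_apply φ 0 u α).symm

include hE in
lemma succ_surj_E (q : ℕ) (hinj : ∀ A, Function.Injective ((φ.app (q + 1)).app A).hom)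
    (hq : ∀ A, Function.Surjective ((φ.app q).app A).hom)
    (h : ∀ M, E M → Function.Surjective ((φ.app (q + 1)).app M).hom) (A : C) :
    Function.Surjective ((φ.app (q + 1)).app A).hom := by
  obtain ⟨M, u, hu, hM⟩ := hE A
  haveI := hu
  intro α'
  obtain ⟨μ, hμ⟩ := h M hM (((T'.F (q + 1)).map u).hom α')
  have h1 : ((T.F (q + 1)).map (SE u).g).hom μ = 0 := by
    apply hinj
    rw [nat_apply, map_zero]
    show ((T'.F (q + 1)).map (SE u).g).hom (((φ.app (q + 1)).app M).hom μ) = 0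
    rw [hμ]
    exact f_g T' (SE u) (q + 1) α'
  obtain ⟨α, rfl⟩ := ex2 T (SE u) (SE_shortExact u) (q + 1) μ h1
  have h2 : ((T'.F (q + 1)).map (SE u).f).hom (((φ.app (q + 1)).app A).hom α - α') = 0 := by
    rw [map_sub, sub_eq_zero, ← hμ]
    exact (nat_apply φ (q + 1) u α).symm
  obtain ⟨β', hβ'⟩ := ex1 T' (SE u) (SE_shortExact u) q _ h2
  obtain ⟨β, rfl⟩ := hq (SE u).X₃ β'
  refine ⟨α - (T.δ (SE u) (SE_shortExact u) q (q + 1) rfl).hom β, ?_⟩
  rw [map_sub]
  have h3 := (comm_apply φ (SE u) (SE_shortExact u) q β).trans hβ'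
  refine (congrArg (fun t => ((φ.app (q + 1)).app A).hom α - t) h3).trans ?_
  abel

include hE in
theorem main (hT0 : T.ZeroMono) (hT'0 : T'.ZeroMono) (hT : EffEl T) :
    ((∀ (q : ℕ) (A : C), Function.Bijective ((φ.app q).app A).hom) ↔
      ((∀ M : C, E M → Function.Bijective ((φ.app 0).app M).hom) ∧
        ∀ (q : ℕ) (M : C), E M → Function.Surjective ((φ.app (q + 1)).app M).hom)) ∧
    ((∀ (q : ℕ) (A : C), Function.Bijective ((φ.app q).app A).hom) ↔
      ((∀ A : C, Function.Bijective ((φ.app 0).app A).hom) ∧ EffEl T')) := by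
  refine ⟨⟨fun h => ⟨fun M _ => h 0 M, fun q M _ => (h (q + 1) M).2⟩, ?_⟩,
    ⟨fun h => ⟨h 0, effEl_of_bij φ hT h⟩, ?_⟩⟩
  · rintro ⟨h1, h2⟩ q
    induction q with
    | zero =>
      have hinj := zero_inj φ E hE hT0 (fun M hM => (h1 M hM).1)
      exact fun A => ⟨hinj A, zero_surj φ E hE hT'0 (fun M hM => (h1 M hM).2) hinj A⟩
    | succ q ih =>
      have hinj := inj_succ φ hT q ih
      exact fun A => ⟨hinj A, succ_surj_E φ E hE q hinj (fun A => (ih A).2) (h2 q) A⟩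
  · rintro ⟨h1, h2⟩ q
    induction q with
    | zero => exact h1
    | succ q ih =>
      exact fun A => ⟨inj_succ φ hT q ih A, surj_succ φ h2 q (fun A => (ih A).2) A⟩

end Groth.Agent.Lib.DeltaAb
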