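import Mathlib
import Groth.Prelude.Def_EGA4b
import Groth.Prelude.Def_Curv2

/-!
# The δ-invariant under flat local base change with normal "normalization ⊗" (helper3)
-/

set_option autoImplicit false
set_option maxSynthPendingDepth 3
universe u

namespace Groth.Agent.Lib.DeltaInvH3

open IsLocalRing TensorProduct Polynomial

section IntClosed

variable {T K : Type u} [CommRing T] [CommRing K]

/-- A normal ring is integrally closed in any overring all of whose elements are fractions with
denominators that become units. -/
theorem mem_range_of_isIntegral_of_isNormalRing (hT : EGA4.IsNormalRing T) (φ : T →+* K)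
    (hφ : Function.Injective φ)
    (hfrac : ∀ x : K, ∃ t s : T, IsUnit (φ s) ∧ x * φ s = φ t)
    (x : K) (hx : φ.IsIntegralElem x) : x ∈ φ.range := by
  obtain ⟨p, hp, hpx⟩ := hx
  obtain ⟨t, s, hsu, hxs⟩ := hfrac x
  -- `s` is a nonzerodivisor
  have hsnzd : ∀ y : T, s * y = 0 → y = 0 := by
    intro y hy
    apply hφ
    have h1 : φ s * φ y = 0 := by rw [← map_mul, hy, map_zero]
    rw [map_zero]
    exact (hsu.mul_right_eq_zero).mp h1
  -- `t` is a root of the scaled polynomial
  have hroot : eval t (scaleRoots p s) = 0 := by
    apply hφ
    rw [map_zero, ← eval₂_at_apply, ← hxs, mul_comm, scaleRoots_eval₂_mul, hpx, mul_zero]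
  -- membership `t ∈ (s)` locally
  have hmem : t ∈ Ideal.span {s} := by
    apply Ideal.mem_of_localization_maximal
    intro P hP
    haveI := hP.isPrime
    obtain ⟨hdom, hic⟩ := hT P
    haveI := hdom
    haveI := hic
    set D := Localization.AtPrime P with hD
    set ι := algebraMap T D with hι
    have hs0 : ι s ≠ 0 := by
      intro h0
      obtain ⟨c, hc⟩ := (IsLocalization.map_eq_zero_iff P.primeCompl D s).mp h0
      have : (c : T) = 0 := hsnzd _ (by rw [mul_comm]; exact hc)
      exact c.2 (this ▸ P.zero_mem)
    set F := FractionRing D with hF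
    set y : F := algebraMap D F (ι t) / algebraMap D F (ι s) with hy
    have hs0' : algebraMap D F (ι s) ≠ 0 := by
      rw [Ne, map_eq_zero_iff _ (IsFractionRing.injective D F)]
      exact hs0
    have hyint : IsIntegral D y := by
      refine ⟨p.map ι, hp.map _, ?_⟩
      have h1 := scaleRoots_eval₂_mul (p := p) ((algebraMap D F).comp ι) y s
      have h2 : ((algebraMap D F).comp ι) s * y = ((algebraMap D F).comp ι) t := by
        rw [RingHom.comp_apply, RingHom.comp_apply, hy, mul_div_cancel₀ _ hs0']
      rw [h2, eval₂_at_apply, hroot, map_zero] at h1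
      have h3 : eval₂ ((algebraMap D F).comp ι) y p = 0 := by
        rcases mul_eq_zero.mp h1.symm with h | h
        · exact absurd h (pow_ne_zero _ hs0')
        · exact h
      rw [eval₂_map]
      exact h3
    obtain ⟨d, hd⟩ := IsIntegrallyClosed.algebraMap_eq_of_integral hyint
    have h4 : ι t = ι s * d := by
      apply IsFractionRing.injective D F
      rw [map_mul, hd, hy, mul_div_cancel₀ _ hs0']
    rw [Ideal.map_span, Set.image_singleton, Ideal.mem_span_singleton']
    exact ⟨d, by rw [h4, mul_comm]⟩
  obtain ⟨t', ht'⟩ := Ideal.mem_span_singleton'.mp hmem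
  refine ⟨t', ?_⟩
  have h5 : (φ t' - x) * φ s = 0 := by
    rw [sub_mul, hxs, ← map_mul, ht', sub_self]
  have := (hsu.mul_left_eq_zero).mp h5
  exact sub_eq_zero.mp this

end IntClosed

section Setup

variable (A B : Type u) [CommRing A] [CommRing B] [Algebra A B] [Module.Flat A B]

theorem algebraMap_mem_nonZeroDivisors {s : A} (hs : s ∈ nonZeroDivisors A) :
    algebraMap A B s ∈ nonZeroDivisors B := by
  have h1 : IsSMulRegular A s := by
    intro a b hab
    have h0 : s * a = s * b := hab
    have h2 : s * (a - b) = 0 := by rw [mul_sub, h0, sub_self]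
    have h3 := (mem_nonZeroDivisors_iff.mp hs).1 _ h2
    exact sub_eq_zero.mp h3
  have h2 : IsSMulRegular B (algebraMap A B s) := h1.of_flat
  rw [mem_nonZeroDivisors_iff_right]
  intro x hx
  apply h2
  show algebraMap A B s * x = algebraMap A B s * 0
  rw [mul_zero, mul_comm, hx]

theorem nonZeroDivisors_le_comap :
    nonZeroDivisors A ≤ (nonZeroDivisors B).comap (algebraMap A B) :=
  fun _ hs => Submonoid.mem_comap.mpr (algebraMap_mem_nonZeroDivisors A B hs)

/-- the map on total rings of fractions induced by a flat ring map -/
noncomputable def fracMap : FractionRing A →+* FractionRing B :=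
  IsLocalization.map (FractionRing B) (algebraMap A B) (nonZeroDivisors_le_comap A B)

theorem fracMap_algebraMap (a : A) :
    fracMap A B (algebraMap A (FractionRing A) a) =
      algebraMap B (FractionRing B) (algebraMap A B a) :=
  IsLocalization.map_eq (nonZeroDivisors_le_comap A B) a

/-- the normalization of `A` mapped into the total ring of fractions of `B` -/
noncomputable def gMap : integralClosure A (FractionRing A) →ₐ[A] FractionRing B :=
  { (fracMap A B).comp (algebraMap (integralClosure A (FractionRing A)) (FractionRing A)) with
    commutes' := fun a => by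
      show fracMap A B (algebraMap (integralClosure A (FractionRing A)) (FractionRing A)
        (algebraMap A _ a)) = _
      rw [← IsScalarTower.algebraMap_apply A (integralClosure A (FractionRing A))
        (FractionRing A), fracMap_algebraMap,
        ← IsScalarTower.algebraMap_apply A B (FractionRing B)] }

theorem gMap_apply (x : integralClosure A (FractionRing A)) :
    gMap A B x = fracMap A B (x : FractionRing A) := rfl

/-- the comparison map `B ⊗ A' → Q(B)` -/
noncomputable def Phi : B ⊗[A] integralClosure A (FractionRing A) →ₐ[B] FractionRing B :=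
  Algebra.TensorProduct.lift (Algebra.ofId B (FractionRing B)) (gMap A B)
    (fun _ _ => Commute.all _ _)

theorem Phi_tmul (b : B) (x : integralClosure A (FractionRing A)) :
    Phi A B (b ⊗ₜ x) = algebraMap B (FractionRing B) b * fracMap A B (x : FractionRing A) := by
  unfold Phi
  rw [Algebra.TensorProduct.lift_tmul]
  rfl

theorem isIntegral_fracMap (x : FractionRing A) (hx : IsIntegral A x) :
    IsIntegral B (fracMap A B x) := by
  obtain ⟨p, hp, hpx⟩ := hx
  refine ⟨p.map (algebraMap A B), hp.map _, ?_⟩
  rw [eval₂_map]
  have h1 : (algebraMap B (FractionRing B)).comp (algebraMap A B) =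
      (fracMap A B).comp (algebraMap A (FractionRing A)) := by
    ext a
    exact (fracMap_algebraMap A B a).symm
  rw [h1, ← hom_eval₂, hpx, map_zero]

theorem isIntegral_Phi (t : B ⊗[A] integralClosure A (FractionRing A)) :
    IsIntegral B (Phi A B t) := by
  induction t using TensorProduct.induction_on with
  | zero => rw [map_zero]; exact isIntegral_zero
  | tmul b x =>
    rw [Phi_tmul]
    exact (isIntegral_algebraMap).mul (isIntegral_fracMap A B _ x.2)
  | add t₁ t₂ h₁ h₂ => rw [map_add]; exact h₁.add h₂

variable [hfin : Module.Finite A (integralClosure A (FractionRing A))]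

/-- a common denominator for the normalization -/
theorem exists_common_denom : ∃ s ∈ nonZeroDivisors A,
    ∀ x : integralClosure A (FractionRing A), ∃ a : A,
      algebraMap A (FractionRing A) a = s • (x : FractionRing A) := by
  classical
  obtain ⟨G, hG⟩ := hfin.fg_top
  obtain ⟨b, hb⟩ := IsLocalization.exist_integer_multiples_of_finset (nonZeroDivisors A)
    (G.image (fun x : integralClosure A (FractionRing A) => (x : FractionRing A)))
  refine ⟨b, b.2, fun x => ?_⟩
  have hx : x ∈ Submodule.span A (G : Set (integralClosure A (FractionRing A))) := by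
    rw [hG]; trivial
  induction hx using Submodule.span_induction with
  | mem y hy =>
    obtain ⟨a, ha⟩ := hb (y : FractionRing A) (Finset.mem_image_of_mem _ hy)
    exact ⟨a, ha⟩
  | zero => exact ⟨0, by simp⟩
  | add y z _ _ hy hz =>
    obtain ⟨a₁, h₁⟩ := hy
    obtain ⟨a₂, h₂⟩ := hz
    refine ⟨a₁ + a₂, ?_⟩
    rw [map_add, h₁, h₂]
    simp [smul_add]
  | smul c y _ hy =>
    obtain ⟨a₁, h₁⟩ := hy
    refine ⟨c * a₁, ?_⟩
    have hcy : ((c • y : integralClosure A (FractionRing A)) : FractionRing A) =
        c • (y : FractionRing A) := rfl
    rw [map_mul, h₁, hcy, Algebra.smul_def, Algebra.smul_def, Algebra.smul_def]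
    ring

end Setup

section Inj

variable (A B : Type u) [CommRing A] [CommRing B] [Algebra A B] [Module.Flat A B]
  [hfin : Module.Finite A (integralClosure A (FractionRing A))]

theorem algebraMap_frac_injective (R : Type u) [CommRing R] :
    Function.Injective (algebraMap R (FractionRing R)) :=
  IsLocalization.injective (FractionRing R) le_rfl

theorem Phi_injective : Function.Injective (Phi A B) := by
  classical
  obtain ⟨s, hs, hden⟩ := exists_common_denom A
  choose σf hσf using hden
  have hinjA := algebraMap_frac_injective A
  have hsu : IsUnit (algebraMap A (FractionRing A) s) :=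
    IsLocalization.map_units (FractionRing A) (⟨s, hs⟩ : nonZeroDivisors A)
  let σ : integralClosure A (FractionRing A) →ₗ[A] A :=
    { toFun := σf
      map_add' := fun x y => by
        apply hinjA
        rw [map_add, hσf, hσf, hσf]
        simp [smul_add]
      map_smul' := fun c x => by
        apply hinjA
        have hcx : ((c • x : integralClosure A (FractionRing A)) : FractionRing A) =
            c • (x : FractionRing A) := rfl
        rw [RingHom.id_apply, smul_eq_mul, map_mul, hσf, hσf, hcx, Algebra.smul_def,
          Algebra.smul_def, Algebra.smul_def]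
        ring }
  have hσ : ∀ x, algebraMap A (FractionRing A) (σ x) = s • (x : FractionRing A) := hσf
  have hσinj : Function.Injective σ := by
    rw [injective_iff_map_eq_zero]
    intro x hx
    have h1 := hσ x
    rw [hx, map_zero, Algebra.smul_def] at h1
    have h2 : (x : FractionRing A) = 0 := (hsu.mul_right_eq_zero).mp h1.symm
    exact Subtype.ext h2
  have hlt : Function.Injective (σ.lTensor B) :=
    Module.Flat.lTensor_preserves_injective_linearMap σ hσinj
  -- the key identity
  have key : ∀ t : B ⊗[A] integralClosure A (FractionRing A),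
      algebraMap B (FractionRing B) (TensorProduct.rid A B (σ.lTensor B t)) =
        algebraMap B (FractionRing B) (algebraMap A B s) * Phi A B t := by
    intro t
    induction t using TensorProduct.induction_on with
    | zero => simp
    | tmul b x =>
      rw [LinearMap.lTensor_tmul, TensorProduct.rid_tmul, Phi_tmul, Algebra.smul_def, map_mul,
        ← fracMap_algebraMap, hσ, Algebra.smul_def, map_mul, fracMap_algebraMap]
      ring
    | add t₁ t₂ h₁ h₂ =>
      rw [map_add, map_add, map_add, map_add, h₁, h₂, mul_add]
  rw [injective_iff_map_eq_zero]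
  intro t ht
  have h1 := key t
  rw [ht, mul_zero] at h1
  have h2 : TensorProduct.rid A B (σ.lTensor B t) = 0 := by
    apply algebraMap_frac_injective B
    rw [h1, map_zero]
  have h3 : σ.lTensor B t = 0 := by
    have := (TensorProduct.rid A B).injective (a₁ := σ.lTensor B t) (a₂ := 0)
    apply this
    rw [h2, map_zero]
  apply hlt
  rw [h3, map_zero]

/-- the range of `Phi` is the integral closure of `B` in its total ring of fractions, provided
`B ⊗ A'` is a normal ring -/
theorem range_Phi (hnorm : EGA4.IsNormalRing (B ⊗[A] integralClosure A (FractionRing A))) :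
    (Phi A B).range = integralClosure B (FractionRing B) := by
  apply le_antisymm
  · rintro _ ⟨t, rfl⟩
    exact isIntegral_Phi A B t
  · intro x hx
    have hx' : (Phi A B).toRingHom.IsIntegralElem x := by
      obtain ⟨p, hp, hpx⟩ := hx
      refine ⟨p.map (algebraMap B (B ⊗[A] integralClosure A (FractionRing A))), hp.map _, ?_⟩
      rw [eval₂_map]
      have h1 : (Phi A B).toRingHom.comp
          (algebraMap B (B ⊗[A] integralClosure A (FractionRing A))) =
          algebraMap B (FractionRing B) := by
        ext b
        exact (Phi A B).commutes b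
      rw [h1]
      exact hpx
    obtain ⟨t, ht⟩ := mem_range_of_isIntegral_of_isNormalRing hnorm (Phi A B).toRingHom
      (Phi_injective A B) (fun y => by
        obtain ⟨⟨b, d⟩, hbd⟩ := IsLocalization.surj (nonZeroDivisors B) y
        refine ⟨algebraMap B _ b, algebraMap B _ (d : B), ?_, ?_⟩
        · have : (Phi A B).toRingHom (algebraMap B _ (d : B)) =
              algebraMap B (FractionRing B) d := (Phi A B).commutes _
          rw [this]
          exact IsLocalization.map_units (FractionRing B) d
        · have h1 : (Phi A B).toRingHom (algebraMap B _ (d : B)) =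
              algebraMap B (FractionRing B) d := (Phi A B).commutes _
          have h2 : (Phi A B).toRingHom (algebraMap B _ b) =
              algebraMap B (FractionRing B) b := (Phi A B).commutes _
          rw [h1, h2]
          exact hbd) x hx'
    exact ⟨t, ht⟩

/-- the `B`-algebra isomorphism `B ⊗ A' ≃ B'` -/
noncomputable def normEquiv
    (hnorm : EGA4.IsNormalRing (B ⊗[A] integralClosure A (FractionRing A))) :
    (B ⊗[A] integralClosure A (FractionRing A)) ≃ₐ[B] integralClosure B (FractionRing B) :=
  (AlgEquiv.ofInjective (Phi A B) (Phi_injective A B)).trans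
    (Subalgebra.equivOfEq _ _ (range_Phi A B hnorm))

end Inj

section Delta

variable (A B : Type u) [CommRing A] [CommRing B] [IsLocalRing A] [IsLocalRing B] [Algebra A B]
  [IsLocalHom (algebraMap A B)] [Module.Flat A B]
  [hfin : Module.Finite A (integralClosure A (FractionRing A))]

theorem length_quotient_maximalIdeal (R : Type u) [CommRing R] [IsLocalRing R] :
    Module.length R (R ⧸ maximalIdeal R) = 1 := by
  rw [Module.length_eq_one_iff]
  exact (isSimpleModule_iff_isCoatom).mpr (Ideal.isMaximal_def.mp inferInstance)

/-- the δ-invariant is unchanged under a flat local homomorphism `A → B` of local rings with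
`𝔪_A B = 𝔪_B` for which `B ⊗ A'` is a normal ring. -/
theorem deltaInv_eq_of_flat (hmax : (maximalIdeal A).map (algebraMap A B) = maximalIdeal B)
    (hnorm : EGA4.IsNormalRing (B ⊗[A] integralClosure A (FractionRing A))) :
    Curv2.deltaInv B = Curv2.deltaInv A := by
  unfold Curv2.deltaInv
  obtain ⟨e, -⟩ : ∃ e : (B ⊗[A] integralClosure A (FractionRing A)) ≃ₐ[B]
      integralClosure B (FractionRing B), e = normEquiv A B hnorm := ⟨_, rfl⟩
  obtain ⟨ι, hι⟩ : ∃ ι : A →ₗ[A] integralClosure A (FractionRing A),
      ι = Algebra.linearMap A _ := ⟨_, rfl⟩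
  rw [← hι]
  have hex : Function.Exact ι (LinearMap.range ι).mkQ := LinearMap.exact_map_mkQ_range ι
  have hsurj : Function.Surjective (LinearMap.range ι).mkQ := Submodule.mkQ_surjective _
  have hexB : Function.Exact (ι.lTensor B) ((LinearMap.range ι).mkQ.lTensor B) :=
    lTensor_exact B hex hsurj
  have hsurjB : Function.Surjective ((LinearMap.range ι).mkQ.baseChange B) := by
    rw [LinearMap.baseChange_eq_ltensor]
    exact LinearMap.lTensor_surjective B hsurj
  have hker : LinearMap.ker ((LinearMap.range ι).mkQ.baseChange B) =
      LinearMap.range (Algebra.linearMap B (B ⊗[A] integralClosure A (FractionRing A))) := by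
    ext t
    rw [LinearMap.mem_ker]
    have h1 : (LinearMap.range ι).mkQ.baseChange B t = (LinearMap.range ι).mkQ.lTensor B t := rfl
    rw [h1, hexB t]
    constructor
    · rintro ⟨s, rfl⟩
      refine ⟨TensorProduct.rid A B s, ?_⟩
      obtain ⟨b, rfl⟩ := (TensorProduct.rid A B).symm.surjective s
      rw [LinearEquiv.apply_symm_apply, TensorProduct.rid_symm_apply, LinearMap.lTensor_tmul,
        hι, Algebra.linearMap_apply, Algebra.linearMap_apply, map_one,
        Algebra.TensorProduct.algebraMap_apply, Algebra.algebraMap_self, RingHom.id_apply]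
    · rintro ⟨b, rfl⟩
      refine ⟨b ⊗ₜ 1, ?_⟩
      rw [LinearMap.lTensor_tmul, hι, Algebra.linearMap_apply, Algebra.linearMap_apply, map_one,
        Algebra.TensorProduct.algebraMap_apply, Algebra.algebraMap_self, RingHom.id_apply]
  have hmap : (LinearMap.range
      (Algebra.linearMap B (B ⊗[A] integralClosure A (FractionRing A)))).map
        (e.toLinearEquiv : _ →ₗ[B] _) =
      LinearMap.range (Algebra.linearMap B (integralClosure B (FractionRing B))) := by
    ext y
    constructor
    · rintro ⟨_, ⟨b, rfl⟩, rfl⟩
      refine ⟨b, ?_⟩
      rw [Algebra.linearMap_apply, Algebra.linearMap_apply]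
      exact (e.commutes b).symm
    · rintro ⟨b, rfl⟩
      refine ⟨algebraMap B _ b, ⟨b, rfl⟩, ?_⟩
      rw [Algebra.linearMap_apply]
      exact e.commutes b
  have e1 := Submodule.Quotient.equiv _ _ e.toLinearEquiv hmap
  have e2 := (Submodule.quotEquivOfEq _ _ hker.symm).trans
    (((LinearMap.range ι).mkQ.baseChange B).quotKerEquivOfSurjective hsurjB)
  rw [← e1.length_eq, e2.length_eq, IsLocalRing.length_baseChange A B, hmax,
    length_quotient_maximalIdeal, mul_one]

end Delta

end Groth.Agent.Lib.DeltaInvH3
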