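import Mathlib
import Groth.Agent.S6370

/-!
# Normalization of one-dimensional Noetherian domains: ring-level core (helper7)

`core`: for a Noetherian domain `A` of Krull dimension `≤ 1`, a ring `B'` which is (as an
`A`-algebra) the integral closure of `A` in a fraction field of `A` is a Dedekind domain, with
finite fibres over `Spec A` and with residue fields at maximal ideals finite over `A`.
Uses Krull–Akizuki (`S6370`, helper6).
-/

set_option autoImplicit false
universe u

namespace Groth.Agent.Lib.NormDimOneH7

theorem isDedekindDomain_of_ringEquiv {R S : Type*} [CommRing R] [CommRing S] (e : R ≃+* S)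
    [IsDedekindDomain S] : IsDedekindDomain R := by
  haveI h0 : IsDomain R := e.toMulEquiv.isDomain S
  haveI h1 : IsNoetherianRing R := isNoetherianRing_of_ringEquiv S e.symm
  haveI h2 : Ring.DimensionLEOne R := Ring.DimensionLEOne.of_ringEquiv e
  haveI h3 : IsIntegrallyClosed R := IsIntegrallyClosed.of_equiv e.symm
  exact { h0, h1, h2, h3 with }

theorem core (A : Type u) [CommRing A] [IsDomain A] [IsNoetherianRing A]
    (hdim : ringKrullDim A ≤ 1)
    (M : Type u) [CommRing M] [Algebra A M] [IsFractionRing A M]
    (B' : Type u) [CommRing B'] [Algebra A B'] (e : B' ≃ₐ[A] integralClosure A M) :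
    IsDedekindDomain B' ∧
      (∀ p : PrimeSpectrum A, (PrimeSpectrum.comap (algebraMap A B') ⁻¹' {p}).Finite) ∧
      ∀ Q : Ideal B', Q.IsMaximal → Module.Finite A (B' ⧸ Q) := by
  let ψ : M ≃ₐ[A] FractionRing A := IsLocalization.algEquiv (nonZeroDivisors A) M (FractionRing A)
  let e' : B' ≃ₐ[A] integralClosure A (FractionRing A) := e.trans (AlgEquiv.mapIntegralClosure ψ)
  have hval : ∀ a : A, ((e' (algebraMap A B' a) : integralClosure A (FractionRing A)) :
      FractionRing A) = algebraMap A (FractionRing A) a := by
    intro a
    rw [e'.commutes]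
    rfl
  have hinjAK : Function.Injective (algebraMap A (FractionRing A)) :=
    IsFractionRing.injective A (FractionRing A)
  have hinjAB : Function.Injective (algebraMap A B') := by
    intro a a' h
    apply hinjAK
    rw [← hval a, ← hval a', h]
  haveI hdomB : IsDomain B' := e'.toRingEquiv.toMulEquiv.isDomain _
  by_cases hA : IsField A
  · -- `A` is a field: `A → B'` is bijective
    have hsurjAK : Function.Surjective (algebraMap A (FractionRing A)) :=
      IsFractionRing.surjective_iff_isField.mpr hA
    have hsurjAB : Function.Surjective (algebraMap A B') := by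
      intro b
      obtain ⟨a, ha⟩ := hsurjAK ((e' b : integralClosure A (FractionRing A)) : FractionRing A)
      refine ⟨a, ?_⟩
      apply e'.injective
      apply Subtype.ext
      rw [hval a, ha]
    haveI hKD : Ring.KrullDimLE 1 A := Ring.krullDimLE_iff.2 hdim
    haveI hdimA : Ring.DimensionLEOne A :=
      ⟨fun {p} hp hprime => Ring.krullDimLE_one_iff_of_noZeroDivisors.1 hKD p hp hprime⟩
    haveI hicA : IsIntegrallyClosed A := by
      rw [isIntegrallyClosed_iff (FractionRing A)]
      intro x _
      exact hsurjAK x
    haveI hnA : IsNoetherianRing A := inferInstance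
    haveI hdA : IsDomain A := inferInstance
    haveI hDA : IsDedekindDomain A := { hdA, hnA, hdimA, hicA with }
    let eAB : B' ≃+* A := (RingEquiv.ofBijective (algebraMap A B') ⟨hinjAB, hsurjAB⟩).symm
    refine ⟨isDedekindDomain_of_ringEquiv eAB, ?_, ?_⟩
    · intro p
      apply Set.Subsingleton.finite
      intro Q hQ Q' hQ'
      apply PrimeSpectrum.comap_injective_of_surjective (algebraMap A B') hsurjAB
      rw [Set.mem_preimage, Set.mem_singleton_iff] at hQ hQ'
      rw [hQ, hQ']
    · intro Q _
      refine Module.Finite.of_surjective (Algebra.linearMap A (B' ⧸ Q)) ?_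
      intro z
      obtain ⟨b, rfl⟩ := Ideal.Quotient.mk_surjective z
      obtain ⟨a, rfl⟩ := hsurjAB b
      exact ⟨a, rfl⟩
  · have h0 : ¬ ringKrullDim A ≤ 0 := fun h => by
      haveI : Ring.KrullDimLE 0 A := Ring.krullDimLE_iff.mpr h
      exact hA Ring.KrullDimLE.isField_of_isDomain
    have hdim1 : ringKrullDim A = 1 :=
      le_antisymm hdim (Order.succ_le_of_lt (lt_of_not_ge h0))
    letI algB'K : Algebra B' (FractionRing A) :=
      (((integralClosure A (FractionRing A)).val : _ →+* FractionRing A).comp
        (e'.toRingEquiv : B' →+* integralClosure A (FractionRing A))).toAlgebra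
    have halg : ∀ b : B', algebraMap B' (FractionRing A) b =
        ((e' b : integralClosure A (FractionRing A)) : FractionRing A) := fun b => rfl
    haveI : IsScalarTower A B' (FractionRing A) := IsScalarTower.of_algebraMap_eq (fun a => by
      rw [halg, hval])
    haveI : IsIntegralClosure B' A (FractionRing A) := by
      refine ⟨?_, ?_⟩
      · intro b b' h
        rw [halg, halg] at h
        exact e'.injective (Subtype.ext h)
      · intro x
        constructor
        · intro hx
          refine ⟨e'.symm ⟨x, hx⟩, ?_⟩
          rw [halg, AlgEquiv.apply_symm_apply]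
        · rintro ⟨y, rfl⟩
          rw [halg]
          exact (e' y).2
    obtain ⟨h1, -, h3, h4⟩ :=
      Groth.Agent.S6370.result A (FractionRing A) (FractionRing A) B' hdim1
    refine ⟨h1, h3, fun Q hQ => ?_⟩
    haveI := h4 Q hQ
    exact Module.Finite.trans (A ⧸ Q.comap (algebraMap A B')) (B' ⧸ Q)

end Groth.Agent.Lib.NormDimOneH7
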