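import Mathlib
import Groth.Prelude.Def_EGA4b
import Groth.Prelude.Def_Curv2
import Groth.Agent.Lib.FSRegular_helper3
import Groth.Agent.Lib.GeomRegAdic_helper3
import Groth.Agent.Lib.GeomRegFS_helper3
import Groth.Agent.Lib.GeomNormal2_helper3
import Groth.Agent.Lib.FFTransfer_helper3
import Groth.Agent.Lib.NormalSmoothBC_helper3
import Groth.Agent.Lib.LocN2_helper3
import Groth.Agent.Lib.GeomNormalSep_helper3
import Groth.Agent.Lib.NormalComplDomain_helper3
import Groth.Agent.Lib.DeltaInvFlat_helper3
import Groth.Agent.Lib.PerfectRed_lead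
import Groth.Agent.Lib.NormDimOne_helper7

/-!
# The δ-invariant and separable residue fields of the normalization: ring level (helper3)

For a one-dimensional Noetherian local domain `A` over a field `k` with finite normalization `A'`
all of whose residue fields `A'/𝔪` are separable (geometrically reduced) over `k`:
* `K ⊗[k] A'` is a normal ring for every field `K/k`;
* `A` is geometrically reduced over `k`;
* for every prime `q` of `A ⊗[k] K` over the maximal ideal of `A` with `dim (A ⊗ K)_q ≤ 1`, the
  δ-invariant of `(A ⊗ K)_q` equals that of `A`.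
APPEND-ONLY once landed.
-/

set_option autoImplicit false
set_option maxSynthPendingDepth 3
universe u

namespace Groth.Agent.Lib.DeltaSepH3

open TensorProduct IsLocalRing

/-- the integral closure of `A` in its total ring of fractions -/
abbrev IC (A : Type u) [CommRing A] : Subalgebra A (FractionRing A) :=
  integralClosure A (FractionRing A)

section Regular

variable (k C : Type u) [Field k] [CommRing C] [IsLocalRing C] [IsNoetherianRing C] [Algebra k C]
  [Algebra.IsGeometricallyReduced k (ResidueField C)]

/-- a regular local `k`-algebra with separable residue field is geometrically regular -/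
theorem isGeometricallyRegular_of_regular (hreg : IsRegularLocalRing C) :
    CAlg.IsGeometricallyRegular k C := by
  obtain ⟨n, e, he⟩ := Groth.Agent.Lib.FSRegularH3.exists_equiv_of_regular (k := k) (A := C) hreg
  exact Groth.Agent.Lib.GeomRegAdicH3.isGeometricallyRegular_of_adic
    (Groth.Agent.Lib.FSRegularH3.formallySmooth_of_equiv n e he)

theorem isRegularRing_tensor_of_regular (hreg : IsRegularLocalRing C) (K : Type u) [Field K]
    [Algebra k K] [Algebra.EssFiniteType k K] : IsRegularRing (K ⊗[k] C) := by
  have h := isGeometricallyRegular_of_regular k C hreg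
  haveI := Groth.Agent.Lib.GeomRegFSH3.isNoetherianRing_tensor_of_essFiniteType (k := k) (S := C) K
  exact Groth.Agent.Lib.GeomRegFSH3.isRegularRing_tensor_of_forall_adic
    ((Groth.Agent.Lib.GeomRegFSH3.isGeometricallyRegular_iff_forall_adic).1 h) K

theorem isNormalRing_tensor_of_regular (hreg : IsRegularLocalRing C) (K : Type u) [Field K]
    [Algebra k K] : EGA4.IsNormalRing (K ⊗[k] C) := by
  have h := isGeometricallyRegular_of_regular k C hreg
  apply Groth.Agent.Lib.GeomNormal2H3.isNormalRing_tensor_of_isGeomNormal k K C
  intro k' _ _ hfin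
  haveI := h k' hfin
  exact Groth.Agent.Lib.FFTransferH3.isNormalRing_of_isRegularRing _

end Regular

section Max

/-- normality of `K ⊗[k] T` can be checked on the localizations of `T` at maximal ideals -/
theorem isNormalRing_tensor_of_forall_maximal (k T K : Type u) [Field k] [CommRing T] [Algebra k T]
    [Field K] [Algebra k K]
    (h : ∀ (𝔪 : Ideal T) [𝔪.IsMaximal], EGA4.IsNormalRing (K ⊗[k] Localization.AtPrime 𝔪)) :
    EGA4.IsNormalRing (K ⊗[k] T) := by
  apply Groth.Agent.Lib.NormalSmoothBCH3.isNormalRing_tensor_of_forall_localization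
  intro q hq
  obtain ⟨𝔪, h𝔪, hle⟩ := Ideal.exists_le_maximal q hq.ne_top
  haveI := h𝔪
  have hM : 𝔪.primeCompl ≤ q.primeCompl := fun x hx hxq => hx (hle hxq)
  letI : Algebra (Localization.AtPrime 𝔪) (Localization.AtPrime q) :=
    IsLocalization.localizationAlgebraOfSubmonoidLe _ _ 𝔪.primeCompl q.primeCompl hM
  haveI : IsScalarTower T (Localization.AtPrime 𝔪) (Localization.AtPrime q) :=
    IsLocalization.localization_isScalarTower_of_submonoid_le _ _ _ _ hM
  haveI : IsLocalization (q.primeCompl.map (algebraMap T (Localization.AtPrime 𝔪)))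
      (Localization.AtPrime q) :=
    IsLocalization.isLocalization_of_submonoid_le _ _ _ _ hM
  haveI : IsScalarTower k (Localization.AtPrime 𝔪) (Localization.AtPrime q) :=
    IsScalarTower.of_algebraMap_eq (fun c => by
      rw [IsScalarTower.algebraMap_apply k T (Localization.AtPrime q),
        IsScalarTower.algebraMap_apply k T (Localization.AtPrime 𝔪),
        ← IsScalarTower.algebraMap_apply T (Localization.AtPrime 𝔪) (Localization.AtPrime q)])
  exact Groth.Agent.Lib.LocNH3.isNormalRing_tensor_localization (A := k)
    (S := Localization.AtPrime 𝔪) K (q.primeCompl.map (algebraMap T (Localization.AtPrime 𝔪)))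
    (Localization.AtPrime q) (h 𝔪)

end Max

section Local

variable (k A : Type u) [Field k] [CommRing A] [IsDomain A] [IsLocalRing A] [IsNoetherianRing A]
  [Algebra k A]

theorem isDedekindDomain_IC (hdim : ringKrullDim A = 1) : IsDedekindDomain (IC A) :=
  (Groth.Agent.Lib.NormDimOneH7.core A hdim.le (FractionRing A) (IC A) AlgEquiv.refl).1

/-- the separability hypothesis: all residue fields of the normalization are geometrically reduced
over `k` -/
def SepRes : Prop :=
  ∀ 𝔪 : Ideal (IC A), 𝔪.IsMaximal → Algebra.IsGeometricallyReduced k (IC A ⧸ 𝔪)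

variable {k A}

theorem isGeometricallyReduced_residueField_localization (H : SepRes k A) (𝔪 : Ideal (IC A))
    [𝔪.IsMaximal] :
    Algebra.IsGeometricallyReduced k (ResidueField (Localization.AtPrime 𝔪)) := by
  haveI := H 𝔪 inferInstance
  let f : (IC A ⧸ 𝔪) ≃ₐ[k] 𝔪.ResidueField :=
    AlgEquiv.ofBijective (IsScalarTower.toAlgHom k (IC A ⧸ 𝔪) 𝔪.ResidueField)
      (Ideal.bijective_algebraMap_quotient_residueField 𝔪)
  exact Algebra.IsGeometricallyReduced.of_injective (f.symm : 𝔪.ResidueField →ₐ[k] (IC A ⧸ 𝔪))
    f.symm.injective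

theorem isNormalRing_tensor_IC (hdim : ringKrullDim A = 1) (H : SepRes k A) (K : Type u) [Field K]
    [Algebra k K] : EGA4.IsNormalRing (K ⊗[k] IC A) := by
  haveI := isDedekindDomain_IC A hdim
  apply isNormalRing_tensor_of_forall_maximal
  intro 𝔪 h𝔪
  haveI := isGeometricallyReduced_residueField_localization H 𝔪
  have hreg : IsRegularLocalRing (Localization.AtPrime 𝔪) := inferInstance
  haveI : IsNoetherianRing (Localization.AtPrime 𝔪) := inferInstance
  exact isNormalRing_tensor_of_regular k (Localization.AtPrime 𝔪) hreg K

theorem isGeometricallyReduced_of_sepRes (hdim : ringKrullDim A = 1) (H : SepRes k A) :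
    Algebra.IsGeometricallyReduced k A := by
  have h1 := isNormalRing_tensor_IC hdim H (AlgebraicClosure k)
  haveI : IsReduced (AlgebraicClosure k ⊗[k] IC A) :=
    Groth.Agent.Lib.NormalComplDomainH3.isReduced_of_isNormalRing _ h1
  haveI : Algebra.IsGeometricallyReduced k (IC A) :=
    (Algebra.isGeometricallyReduced_field_iff k (IC A)).mpr inferInstance
  refine Algebra.IsGeometricallyReduced.of_injective (IsScalarTower.toAlgHom k A (IC A)) ?_
  intro a b hab
  have h2 : algebraMap A (FractionRing A) a = algebraMap A (FractionRing A) b :=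
    congrArg Subtype.val hab
  exact IsFractionRing.injective A (FractionRing A) h2

theorem isGeometricallyReduced_residueField (H : SepRes k A) :
    Algebra.IsGeometricallyReduced k (ResidueField A) := by
  obtain ⟨𝔪, h𝔪⟩ := Ideal.exists_maximal (IC A)
  haveI := h𝔪
  haveI := H 𝔪 h𝔪
  have hcomap : 𝔪.comap (algebraMap A (IC A)) = maximalIdeal A :=
    eq_maximalIdeal (Ideal.isMaximal_comap_of_isIntegral_of_isMaximal 𝔪)
  let f : ResidueField A →ₐ[k] (IC A ⧸ 𝔪) :=
    Ideal.Quotient.liftₐ (maximalIdeal A)
      ((Ideal.Quotient.mkₐ k 𝔪).comp (IsScalarTower.toAlgHom k A (IC A))) (by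
        intro a ha
        rw [← hcomap] at ha
        exact Ideal.Quotient.eq_zero_iff_mem.mpr ha)
  exact Algebra.IsGeometricallyReduced.of_injective f (RingHom.injective f.toRingHom)

end Local

end Groth.Agent.Lib.DeltaSepH3
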