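import Mathlib
import Groth.Agent.Lib.DeltaSep1_helper3

/-!
# The δ-invariant and separable residue fields of the normalization: the localization of `A ⊗ K`
(helper3)

APPEND-ONLY once landed.
-/

set_option autoImplicit false
set_option maxSynthPendingDepth 3
universe u

namespace Groth.Agent.Lib.DeltaSepH3

open TensorProduct IsLocalRing

section Loc

variable {k A : Type u} [Field k] [CommRing A] [IsDomain A] [IsLocalRing A] [Algebra k A]
  (K : Type u) [Field K] [Algebra k K] (q : Ideal (A ⊗[k] K)) [q.IsPrime]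

theorem comap_maximalIdeal_loc (hq : q.comap (algebraMap A (A ⊗[k] K)) = maximalIdeal A) :
    (maximalIdeal (Localization.AtPrime q)).comap (algebraMap A (Localization.AtPrime q)) =
      maximalIdeal A := by
  have h1 : (maximalIdeal (Localization.AtPrime q)).comap
      (algebraMap (A ⊗[k] K) (Localization.AtPrime q)) = q :=
    IsLocalization.AtPrime.comap_maximalIdeal (Localization.AtPrime q) q
  rw [IsScalarTower.algebraMap_eq A (A ⊗[k] K) (Localization.AtPrime q), ← Ideal.comap_comap,
    h1, hq]

theorem isLocalHom_loc (hq : q.comap (algebraMap A (A ⊗[k] K)) = maximalIdeal A) :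
    IsLocalHom (algebraMap A (Localization.AtPrime q)) :=
  ((IsLocalRing.local_hom_TFAE (algebraMap A (Localization.AtPrime q))).out 0 4).mpr
    (comap_maximalIdeal_loc K q hq)

instance flat_loc : Module.Flat A (Localization.AtPrime q) := by
  haveI : Module.Flat (A ⊗[k] K) (Localization.AtPrime q) :=
    IsLocalization.flat (Localization.AtPrime q) q.primeCompl
  exact Module.Flat.trans A (A ⊗[k] K) (Localization.AtPrime q)

/-- `𝔪_A (A ⊗ K)` is a radical ideal when the residue field of `A` is separable over `k`. -/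
theorem isRadical_map_maximalIdeal [Algebra.IsGeometricallyReduced k (ResidueField A)] :
    ((maximalIdeal A).map (algebraMap A (A ⊗[k] K))).IsRadical := by
  rw [Ideal.isRadical_iff_quotient_reduced]
  haveI : Algebra.IsGeometricallyReduced k (A ⧸ maximalIdeal A) :=
    ‹Algebra.IsGeometricallyReduced k (ResidueField A)›
  haveI : IsReduced ((A ⧸ maximalIdeal A) ⊗[k] K) :=
    Groth.Agent.Lib.PerfectRed.isReduced_tensor_of_isGeometricallyReduced_of_isReduced k
      (A ⧸ maximalIdeal A) K
  let e := Algebra.TensorProduct.quotientTensorEquiv (R := k) k K A (maximalIdeal A)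
  exact isReduced_of_injective e.symm e.symm.injective

theorem map_maximalIdeal_loc [Algebra.IsGeometricallyReduced k (ResidueField A)]
    (hA : maximalIdeal A ≠ ⊥)
    (hq : q.comap (algebraMap A (A ⊗[k] K)) = maximalIdeal A)
    (hdim : ringKrullDim (Localization.AtPrime q) ≤ 1) :
    (maximalIdeal A).map (algebraMap A (Localization.AtPrime q)) =
      maximalIdeal (Localization.AtPrime q) := by
  have hloc := isLocalHom_loc K q hq
  haveI := hloc
  have hle : (maximalIdeal A).map (algebraMap A (Localization.AtPrime q)) ≤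
      maximalIdeal (Localization.AtPrime q) :=
    ((IsLocalRing.local_hom_TFAE (algebraMap A (Localization.AtPrime q))).out 0 2).mp hloc
  refine le_antisymm hle ?_
  -- the ideal is radical
  have hrad : ((maximalIdeal A).map (algebraMap A (Localization.AtPrime q))).radical =
      (maximalIdeal A).map (algebraMap A (Localization.AtPrime q)) := by
    have h1 := IsLocalization.map_radical q.primeCompl (Localization.AtPrime q)
      ((maximalIdeal A).map (algebraMap A (A ⊗[k] K)))
    rw [(isRadical_map_maximalIdeal K).radical, Ideal.map_map,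
      ← IsScalarTower.algebraMap_eq] at h1
    exact h1.symm
  rw [← hrad, Ideal.radical_eq_sInf]
  apply le_sInf
  rintro P ⟨hJP, hP⟩
  haveI := hP
  -- `P` lies over the maximal ideal
  have hcomap : P.comap (algebraMap A (Localization.AtPrime q)) = maximalIdeal A := by
    refine le_antisymm (le_maximalIdeal (Ideal.comap_ne_top _ hP.ne_top)) ?_
    rw [← Ideal.map_le_iff_le_comap]
    exact hJP
  haveI hKD : Ring.KrullDimLE 1 (Localization.AtPrime q) := Ring.krullDimLE_iff.mpr hdim
  rcases Ring.krullDimLE_one_iff.mp hKD P hP with hmin | hmax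
  · exfalso
    haveI : P.LiesOver (maximalIdeal A) := ⟨hcomap.symm⟩
    haveI : (⊥ : Ideal A).IsPrime := Ideal.isPrime_bot
    obtain ⟨P', hP'lt, hP'prime, -⟩ :=
      Ideal.exists_ideal_lt_liesOver_of_lt (p := (⊥ : Ideal A)) (q := maximalIdeal A) P
        (bot_lt_iff_ne_bot.mpr hA)
    exact hP'lt.not_ge (hmin.2 ⟨hP'prime, bot_le⟩ hP'lt.le)
  · exact (eq_maximalIdeal hmax).ge

/-- the base change of the normalization to the local ring of `A ⊗ K` is normal -/
theorem isNormalRing_tensor_loc (h : EGA4.IsNormalRing (K ⊗[k] IC A)) :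
    EGA4.IsNormalRing (Localization.AtPrime q ⊗[A] IC A) := by
  have h1 : EGA4.IsNormalRing (IC A ⊗[k] K) :=
    Groth.Agent.Lib.GeomNormalH3.isNormalRing_of_ringEquiv
      (Algebra.TensorProduct.comm k K (IC A)).toRingEquiv h
  have h2 : EGA4.IsNormalRing (IC A ⊗[A] (A ⊗[k] K)) :=
    Groth.Agent.Lib.GeomNormalH3.isNormalRing_of_ringEquiv
      (Algebra.TensorProduct.cancelBaseChange k A (IC A) (IC A) K).symm.toRingEquiv h1
  have h3 : EGA4.IsNormalRing ((A ⊗[k] K) ⊗[A] IC A) :=
    Groth.Agent.Lib.GeomNormalH3.isNormalRing_of_ringEquiv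
      (Algebra.TensorProduct.comm A (IC A) (A ⊗[k] K)).toRingEquiv h2
  haveI : IsLocalization (Algebra.algebraMapSubmonoid ((A ⊗[k] K) ⊗[A] IC A) q.primeCompl)
      (((A ⊗[k] K) ⊗[A] IC A) ⊗[A ⊗[k] K] Localization.AtPrime q) :=
    IsLocalization.tensor (Localization.AtPrime q) q.primeCompl
  have h4 : EGA4.IsNormalRing (((A ⊗[k] K) ⊗[A] IC A) ⊗[A ⊗[k] K] Localization.AtPrime q) :=
    Groth.Agent.Lib.GeomNormalSepH3.isNormalRing_of_isLocalization _
      (Algebra.algebraMapSubmonoid ((A ⊗[k] K) ⊗[A] IC A) q.primeCompl) _ h3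
  have h5 : EGA4.IsNormalRing (Localization.AtPrime q ⊗[A ⊗[k] K] ((A ⊗[k] K) ⊗[A] IC A)) :=
    Groth.Agent.Lib.GeomNormalH3.isNormalRing_of_ringEquiv
      (Algebra.TensorProduct.comm (A ⊗[k] K) ((A ⊗[k] K) ⊗[A] IC A)
        (Localization.AtPrime q)).toRingEquiv h4
  exact Groth.Agent.Lib.GeomNormalH3.isNormalRing_of_ringEquiv
    (Algebra.TensorProduct.cancelBaseChange A (A ⊗[k] K) (Localization.AtPrime q)
      (Localization.AtPrime q) (IC A)).toRingEquiv h5

end Loc

section Main

variable {k A : Type u} [Field k] [CommRing A] [IsDomain A] [IsLocalRing A] [IsNoetherianRing A]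
  [Algebra k A] [Module.Finite A (IC A)]
  (K : Type u) [Field K] [Algebra k K] (q : Ideal (A ⊗[k] K)) [q.IsPrime]

/-- the δ-invariant of the local ring of `A ⊗ K` at a prime over the maximal ideal, of dimension
at most one, equals that of `A`. -/
theorem deltaInv_loc_eq (hdimA : ringKrullDim A = 1) (H : SepRes k A)
    (hq : q.comap (algebraMap A (A ⊗[k] K)) = maximalIdeal A)
    (hdim : ringKrullDim (Localization.AtPrime q) ≤ 1) :
    Curv2.deltaInv (Localization.AtPrime q) = Curv2.deltaInv A := by
  haveI := isLocalHom_loc K q hq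
  haveI := isGeometricallyReduced_residueField H
  have hA : maximalIdeal A ≠ ⊥ := by
    intro h0
    have hf : IsField A := IsLocalRing.isField_iff_maximalIdeal_eq.mpr h0
    have h1 : ringKrullDim A = 0 := by
      letI := hf.toField
      exact ringKrullDim_eq_zero_of_field A
    rw [hdimA] at h1
    exact one_ne_zero h1
  exact Groth.Agent.Lib.DeltaInvH3.deltaInv_eq_of_flat A (Localization.AtPrime q)
    (map_maximalIdeal_loc K q hA hq hdim)
    (isNormalRing_tensor_loc K q (isNormalRing_tensor_IC hdimA H K))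

end Main

end Groth.Agent.Lib.DeltaSepH3
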