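import Mathlib
import Groth.Agent.Lib.DeltaSep2_helper3

/-!
# The δ-invariant is invariant under ring isomorphisms; the normalization in a chart (helper3)

* `deltaInv_congr` : `δ(A) = δ(B)` for isomorphic rings.
* `isRegularLocalRing_localization_core`, `sepRes_core` : for a domain `R` with fraction ring `L`, a
  prime `p` with `A = R_p` Noetherian of dimension one: the localizations of the integral closure
  `S₀` of `R` in `L` at the primes over `p` are regular, and the residue fields of the
  normalization of `A` embed into the residue fields of `S₀` at these primes.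
APPEND-ONLY once landed.
-/

set_option autoImplicit false
set_option maxSynthPendingDepth 3
universe u

namespace Groth.Agent.Lib.DeltaSepH3

open TensorProduct IsLocalRing

section Congr

theorem length_eq_of_semilinear_bijective {A B M N : Type*} [CommRing A] [CommRing B]
    [AddCommGroup M] [AddCommGroup N] [Module A M] [Module B N] {σ : A →+* B}
    [RingHomSurjective σ] (g : M →ₛₗ[σ] N) (hg : Function.Bijective g) :
    Module.length A M = Module.length B N := by
  rw [Module.length, Module.length, WithBot.unbot_inj,
    Order.krullDim_eq_of_orderIso (Submodule.orderIsoMapComapOfBijective g hg)]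

variable {A B : Type u} [CommRing A] [CommRing B] (e : A ≃+* B)

/-- the induced isomorphism of total rings of fractions -/
noncomputable def fracEquiv : FractionRing A ≃+* FractionRing B :=
  IsFractionRing.ringEquivOfRingEquiv e

theorem fracEquiv_algebraMap (a : A) :
    fracEquiv e (algebraMap A (FractionRing A) a) = algebraMap B (FractionRing B) (e a) :=
  IsFractionRing.ringEquivOfRingEquiv_algebraMap e a

theorem fracEquiv_symm_algebraMap (b : B) :
    (fracEquiv e).symm (algebraMap B (FractionRing B) b) =
      algebraMap A (FractionRing A) (e.symm b) := by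
  rw [RingEquiv.symm_apply_eq, fracEquiv_algebraMap, e.apply_symm_apply]

theorem isIntegral_fracEquiv {x : FractionRing A} (hx : IsIntegral A x) :
    IsIntegral B (fracEquiv e x) := by
  refine IsIntegral.map_of_comp_eq (e : A →+* B) (fracEquiv e : FractionRing A →+* FractionRing B)
    ?_ hx
  ext a
  exact (fracEquiv_algebraMap e a).symm

theorem isIntegral_fracEquiv_symm {y : FractionRing B} (hy : IsIntegral B y) :
    IsIntegral A ((fracEquiv e).symm y) := by
  refine IsIntegral.map_of_comp_eq (e.symm : B →+* A)
    ((fracEquiv e).symm : FractionRing B →+* FractionRing A) ?_ hy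
  ext b
  exact (fracEquiv_symm_algebraMap e b).symm

/-- the semilinear map between the integral closures -/
noncomputable def icMap : IC A →ₛₗ[(e : A →+* B)] IC B where
  toFun x := ⟨fracEquiv e x.1, isIntegral_fracEquiv e x.2⟩
  map_add' x y := Subtype.ext (map_add (fracEquiv e) x.1 y.1)
  map_smul' a x := Subtype.ext (by
    show fracEquiv e (a • x.1) = e a • fracEquiv e x.1
    rw [Algebra.smul_def, Algebra.smul_def, map_mul, fracEquiv_algebraMap])

theorem icMap_val (x : IC A) : (icMap e x : FractionRing B) = fracEquiv e x.1 := rfl

theorem fracEquiv_symm_fracEquiv (x : FractionRing A) :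
    fracEquiv e.symm (fracEquiv e x) = x := by
  have h : ((fracEquiv e.symm : FractionRing B →+* FractionRing A).comp
      (fracEquiv e : FractionRing A →+* FractionRing B)) = RingHom.id _ := by
    apply IsLocalization.ringHom_ext (nonZeroDivisors A)
    ext a
    simp only [RingHom.comp_apply, RingHom.id_apply, RingHom.coe_coe]
    rw [fracEquiv_algebraMap, fracEquiv_algebraMap, e.symm_apply_apply]
  exact congr($h x)

theorem icMap_symm_icMap (x : IC A) : icMap e.symm (icMap e x) = x := by
  apply Subtype.ext
  rw [icMap_val, icMap_val]
  exact fracEquiv_symm_fracEquiv e x.1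

theorem icMap_algebraMap (a : A) : icMap e (algebraMap A (IC A) a) = algebraMap B (IC B) (e a) := by
  apply Subtype.ext
  rw [icMap_val]
  exact fracEquiv_algebraMap e a

theorem range_le_comap_icMap :
    LinearMap.range (Algebra.linearMap A (IC A)) ≤
      (LinearMap.range (Algebra.linearMap B (IC B))).comap (icMap e) := by
  rintro _ ⟨a, rfl⟩
  rw [Submodule.mem_comap]
  exact ⟨e a, (icMap_algebraMap e a).symm⟩

include e in
/-- the δ-invariant only depends on the isomorphism class of the ring -/
theorem deltaInv_congr : Curv2.deltaInv A = Curv2.deltaInv B := by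
  unfold Curv2.deltaInv
  haveI : RingHomSurjective (e : A →+* B) := ⟨e.surjective⟩
  have hsymm := range_le_comap_icMap e.symm
  have h1 : ∀ x : IC A, icMap e.symm (icMap e x) = x := icMap_symm_icMap e
  have h2 : ∀ y : IC B, icMap e (icMap e.symm y) = y := by
    intro y
    apply Subtype.ext
    rw [icMap_val, icMap_val]
    have h3 := fracEquiv_symm_fracEquiv e.symm y.1
    rwa [RingEquiv.symm_symm] at h3
  refine length_eq_of_semilinear_bijective
    (Submodule.mapQ _ _ (icMap e) (range_le_comap_icMap e)) ⟨?_, ?_⟩
  · intro x y hxy
    obtain ⟨x, rfl⟩ := Submodule.mkQ_surjective _ x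
    obtain ⟨y, rfl⟩ := Submodule.mkQ_surjective _ y
    simp only [Submodule.mkQ_apply, Submodule.mapQ_apply] at hxy ⊢
    rw [Submodule.Quotient.eq] at hxy ⊢
    have h3 := hsymm hxy
    rw [Submodule.mem_comap, map_sub, h1, h1] at h3
    exact h3
  · intro y
    obtain ⟨y, rfl⟩ := Submodule.mkQ_surjective _ y
    refine ⟨Submodule.Quotient.mk (icMap e.symm y), ?_⟩
    simp only [Submodule.mkQ_apply, Submodule.mapQ_apply]
    rw [h2]

end Congr

end Groth.Agent.Lib.DeltaSepH3
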