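import Mathlib
import Groth.Agent.Lib.DeltaSep3_helper3

/-!
# The normalization of a local ring `R_p` in a chart (helper3)

For a domain `R` with fraction ring `L`, a prime `p` and `A = R_p` (an abstract localization):
the integral closure of `A` in `L` is the localization of the integral closure `S₀` of `R` in `L`;
if `A` is Noetherian of dimension one the localizations of `S₀` at the primes over `p` are regular
local rings, and the residue fields of the normalization of `A` embed into those of `S₀`.
APPEND-ONLY once landed.
-/

set_option autoImplicit false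
set_option maxSynthPendingDepth 3
universe u

namespace Groth.Agent.Lib.DeltaSepH3

open TensorProduct IsLocalRing

section Core

variable (R : Type u) [CommRing R] [IsDomain R]
  (L : Type u) [CommRing L] [Algebra R L] [IsFractionRing R L]
  (p : Ideal R) [p.IsPrime]
  (A : Type u) [CommRing A] [Algebra R A] [IsLocalization.AtPrime A p]
  [Algebra A L] [IsScalarTower R A L]

/-- the inclusion of the integral closure of `R` into that of `A = R_p` -/
noncomputable def incl : integralClosure R L →+* integralClosure A L :=
  ((integralClosure R L).val.toRingHom).codRestrict (integralClosure A L)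
    (fun x => x.2.tower_top)

theorem incl_algebraMap (a : R) :
    incl R L A (algebraMap R (integralClosure R L) a) =
      algebraMap A (integralClosure A L) (algebraMap R A a) := by
  apply Subtype.ext
  show algebraMap R L a = algebraMap A L (algebraMap R A a)
  exact IsScalarTower.algebraMap_apply R A L a

include p in
theorem isLocalization_incl :
    letI := (incl R L A).toAlgebra
    IsLocalization (Algebra.algebraMapSubmonoid (integralClosure R L) p.primeCompl)
      (integralClosure A L) := by
  letI := (incl R L A).toAlgebra
  haveI : IsScalarTower (integralClosure R L) (integralClosure A L) L :=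
    IsScalarTower.of_algebraMap_eq (fun x => rfl)
  haveI : IsScalarTower R (integralClosure R L) (integralClosure A L) :=
    IsScalarTower.of_algebraMap_eq (fun a => by
      rw [IsScalarTower.algebraMap_apply R A (integralClosure A L)]
      exact (incl_algebraMap R L A a).symm)
  haveI : IsLocalization (Algebra.algebraMapSubmonoid L p.primeCompl) L := by
    apply IsLocalization.at_units
    rintro _ ⟨s, hs, rfl⟩
    show IsUnit (algebraMap R L s)
    have hs0 : s ≠ 0 := fun h0 => hs (h0 ▸ p.zero_mem)
    exact IsLocalization.map_units L (⟨s, mem_nonZeroDivisors_of_ne_zero hs0⟩ : nonZeroDivisors R)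
  exact IsLocalization.integralClosure (R := R) (S := L) (Rf := A) (Sf := L) p.primeCompl

include p in
theorem isFractionRing_loc : IsFractionRing A L :=
  IsFractionRing.isFractionRing_of_isDomain_of_isLocalization p.primeCompl A L

include p in
theorem isDomain_loc : IsDomain A :=
  IsLocalization.isDomain_of_le_nonZeroDivisors A p.primeCompl_le_nonZeroDivisors

variable {R L A}

/-- the primes of `S₀` over `p` extend to primes of the integral closure of `A` -/
theorem exists_prime_of_comap (P₀ : Ideal (integralClosure R L)) [P₀.IsPrime]
    (hP₀ : P₀.comap (algebraMap R (integralClosure R L)) = p) :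
    ∃ 𝔪 : Ideal (integralClosure A L), 𝔪.IsPrime ∧ 𝔪.comap (incl R L A) = P₀ := by
  letI := (incl R L A).toAlgebra
  haveI := isLocalization_incl R L p A
  have hdisj : Disjoint
      ((Algebra.algebraMapSubmonoid (integralClosure R L) p.primeCompl : Submonoid _) :
        Set (integralClosure R L)) (P₀ : Set (integralClosure R L)) := by
    rw [Set.disjoint_left]
    rintro _ ⟨s, hs, rfl⟩ hsP
    apply hs
    rw [← hP₀]
    exact hsP
  exact ⟨P₀.map (algebraMap (integralClosure R L) (integralClosure A L)),
    IsLocalization.isPrime_of_isPrime_disjoint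
      (Algebra.algebraMapSubmonoid (integralClosure R L) p.primeCompl) _ P₀ inferInstance hdisj,
    IsLocalization.comap_map_of_isPrime_disjoint
      (Algebra.algebraMapSubmonoid (integralClosure R L) p.primeCompl) _ inferInstance hdisj⟩

/-- the localizations of `S₀` at the primes over `p` are regular when `R_p` is Noetherian of
dimension one -/
theorem isRegularLocalRing_localization_core [IsNoetherianRing A] (hdim : ringKrullDim A = 1)
    (P₀ : Ideal (integralClosure R L)) [P₀.IsPrime]
    (hP₀ : P₀.comap (algebraMap R (integralClosure R L)) = p) :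
    IsRegularLocalRing (Localization.AtPrime P₀) := by
  obtain ⟨𝔪, h𝔪, rfl⟩ := exists_prime_of_comap (A := A) p P₀ hP₀
  haveI := isDomain_loc R p A
  haveI := isFractionRing_loc R L p A
  letI := (incl R L A).toAlgebra
  haveI := isLocalization_incl R L p A
  haveI : IsDedekindDomain (integralClosure A L) :=
    (Groth.Agent.Lib.NormDimOneH7.core A hdim.le L (integralClosure A L) AlgEquiv.refl).1
  haveI : IsRegularLocalRing (Localization.AtPrime 𝔪) := inferInstance
  haveI : IsLocalization.AtPrime (Localization.AtPrime 𝔪)
      (𝔪.comap (algebraMap (integralClosure R L) (integralClosure A L))) :=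
    IsLocalization.isLocalization_isLocalization_atPrime_isLocalization
      (Algebra.algebraMapSubmonoid (integralClosure R L) p.primeCompl) _ 𝔪
  exact IsRegularLocalRing.of_ringEquiv
    (IsLocalization.algEquiv (𝔪.comap (incl R L A)).primeCompl (Localization.AtPrime 𝔪)
      (Localization.AtPrime (𝔪.comap (incl R L A)))).toRingEquiv

end Core

section Sep

variable {k : Type u} [Field k] {R : Type u} [CommRing R] [IsDomain R] [Algebra k R]
  {L : Type u} [CommRing L] [Algebra R L] [IsFractionRing R L]
  (p : Ideal R) [p.IsPrime]
  {A : Type u} [CommRing A] [Algebra R A] [IsLocalization.AtPrime A p]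
  [Algebra A L] [IsScalarTower R A L]
  [Algebra k A] [IsScalarTower k R A] [Algebra k L] [IsScalarTower k R L] [IsScalarTower k A L]

theorem comap_incl_comap (M : Ideal (integralClosure A L)) :
    (M.comap (incl R L A)).comap (algebraMap R (integralClosure R L)) =
      (M.comap (algebraMap A (integralClosure A L))).comap (algebraMap R A) := by
  rw [Ideal.comap_comap, Ideal.comap_comap]
  congr 1
  ext a
  rw [RingHom.comp_apply, RingHom.comp_apply, incl_algebraMap]

theorem incl_algebraMap_base (c : k) :
    incl R L A (algebraMap k (integralClosure R L) c) = algebraMap k (integralClosure A L) c :=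
  rfl

/-- the residue fields of the integral closure of `A = R_p` embed into the residue fields of the
integral closure of `R` at the primes over `p`. -/
theorem geomRed_quotient_core
    (hsep : ∀ (P₀ : Ideal (integralClosure R L)) [P₀.IsPrime],
      P₀.comap (algebraMap R (integralClosure R L)) = p →
      ∃ (F : Type u) (_ : Field F) (_ : Algebra k F) (ρ : integralClosure R L →+* F),
        Algebra.IsGeometricallyReduced k F ∧ RingHom.ker ρ = P₀ ∧
          ∀ c : k, ρ (algebraMap k (integralClosure R L) c) = algebraMap k F c)
    (𝔪 : Ideal (integralClosure A L)) [h𝔪 : 𝔪.IsMaximal] :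
    Algebra.IsGeometricallyReduced k (integralClosure A L ⧸ 𝔪) := by
  haveI : IsLocalRing A := IsLocalization.AtPrime.isLocalRing A p
  letI := (incl R L A).toAlgebra
  haveI := isLocalization_incl R L p A
  have halg : algebraMap (integralClosure R L) (integralClosure A L) = incl R L A := rfl
  haveI : (𝔪.comap (incl R L A)).IsPrime := Ideal.comap_isPrime _ _
  have hP₀ : (𝔪.comap (incl R L A)).comap (algebraMap R (integralClosure R L)) = p := by
    rw [comap_incl_comap,
      eq_maximalIdeal (Ideal.isMaximal_comap_of_isIntegral_of_isMaximal (R := A) 𝔪)]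
    exact IsLocalization.AtPrime.comap_maximalIdeal A p
  obtain ⟨F, _, _, ρ, hF, hker, hρk⟩ := hsep (𝔪.comap (incl R L A)) hP₀
  haveI := hF
  have hunits : ∀ y : Algebra.algebraMapSubmonoid (integralClosure R L) p.primeCompl,
      IsUnit (ρ y) := by
    rintro ⟨_, s, hs, rfl⟩
    rw [isUnit_iff_ne_zero]
    intro h0
    have h1 : algebraMap R (integralClosure R L) s ∈ RingHom.ker ρ := h0
    rw [hker] at h1
    have h2 : s ∈ (𝔪.comap (incl R L A)).comap (algebraMap R (integralClosure R L)) := h1
    rw [hP₀] at h2
    exact hs h2
  let θ : integralClosure A L →+* F := IsLocalization.lift hunits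
  have hθ : ∀ x : integralClosure R L, θ (incl R L A x) = ρ x := fun x => by
    rw [← halg]
    exact IsLocalization.lift_eq hunits x
  have hθ𝔪 : ∀ z ∈ 𝔪, θ z = 0 := by
    intro z hz
    obtain ⟨w, y, rfl⟩ := IsLocalization.exists_mk'_eq
      (Algebra.algebraMapSubmonoid (integralClosure R L) p.primeCompl) z
    have h1 : incl R L A w ∈ 𝔪 := by
      have h2 := IsLocalization.mk'_spec (integralClosure A L) w y
      rw [halg] at h2
      rw [← h2]
      exact 𝔪.mul_mem_right _ hz
    have h3 : ρ w = 0 := by
      have : w ∈ RingHom.ker ρ := by
        rw [hker]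
        exact h1
      exact this
    have h4 : θ (IsLocalization.mk' (integralClosure A L) w y) * ρ y = 0 := by
      rw [← hθ (y : integralClosure R L), ← map_mul, ← halg, IsLocalization.mk'_spec, halg, hθ, h3]
    exact (hunits y).mul_left_eq_zero.mp h4
  let θₐ : integralClosure A L →ₐ[k] F :=
    { θ with
      commutes' := fun c => by
        show θ (algebraMap k (integralClosure A L) c) = algebraMap k F c
        rw [← incl_algebraMap_base (R := R) c, hθ, hρk] }
  let f : (integralClosure A L ⧸ 𝔪) →ₐ[k] F := Ideal.Quotient.liftₐ 𝔪 θₐ hθ𝔪
  letI := Ideal.Quotient.field 𝔪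
  exact Algebra.IsGeometricallyReduced.of_injective f (RingHom.injective f.toRingHom)

/-- the separability hypothesis for `A = R_p` from the chart -/
theorem sepRes_core
    (hsep : ∀ (P₀ : Ideal (integralClosure R L)) [P₀.IsPrime],
      P₀.comap (algebraMap R (integralClosure R L)) = p →
      ∃ (F : Type u) (_ : Field F) (_ : Algebra k F) (ρ : integralClosure R L →+* F),
        Algebra.IsGeometricallyReduced k F ∧ RingHom.ker ρ = P₀ ∧
          ∀ c : k, ρ (algebraMap k (integralClosure R L) c) = algebraMap k F c) :
    haveI := isDomain_loc R p A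
    SepRes k A := by
  haveI := isDomain_loc R p A
  haveI := isFractionRing_loc R L p A
  intro 𝔪' h𝔪'
  haveI := h𝔪'
  let Ψ : IC A ≃ₐ[A] integralClosure A L := (FractionRing.algEquiv A L).mapIntegralClosure
  let Ψk : IC A ≃ₐ[k] integralClosure A L := Ψ.restrictScalars k
  haveI h𝔪 : (𝔪'.comap (Ψ.symm : integralClosure A L →+* IC A)).IsMaximal :=
    Ideal.comap_isMaximal_of_surjective _ Ψ.symm.surjective
  haveI := geomRed_quotient_core p hsep (𝔪'.comap (Ψ.symm : integralClosure A L →+* IC A))
  let f : (IC A ⧸ 𝔪') →ₐ[k] (integralClosure A L ⧸
      𝔪'.comap (Ψ.symm : integralClosure A L →+* IC A)) :=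
    Ideal.quotientMapₐ _ Ψk.toAlgHom (by
      intro x hx
      rw [Ideal.mem_comap, Ideal.mem_comap]
      show Ψ.symm (Ψ x) ∈ 𝔪'
      rw [Ψ.symm_apply_apply]
      exact hx)
  letI := Ideal.Quotient.field 𝔪'
  exact Algebra.IsGeometricallyReduced.of_injective f (RingHom.injective f.toRingHom)

end Sep

end Groth.Agent.Lib.DeltaSepH3
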