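import Mathlib
import Groth.Agent.Lib.DeltaSep4_helper3

/-!
# The normalization of a local ring `R_p` in a chart: abstract form (helper3)

The statements of `DeltaSep4_helper3` for a ring `S` isomorphic over `R` to the integral closure of
`R` in its fraction ring `L`, and without auxiliary algebra structures.
APPEND-ONLY once landed.
-/

set_option autoImplicit false
set_option maxSynthPendingDepth 3
universe u

namespace Groth.Agent.Lib.DeltaSepH3

open TensorProduct IsLocalRing

section Wrap

variable {R : Type u} [CommRing R] [IsDomain R]
  {L : Type u} [CommRing L] [Algebra R L] [IsFractionRing R L]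
  (p : Ideal R) [p.IsPrime]
  {A : Type u} [CommRing A] [Algebra R A] [IsLocalization.AtPrime A p]
  {S : Type u} [CommRing S] (φ : R →+* S) (e : S ≃+* integralClosure R L)
  (he : ∀ a, e (φ a) = algebraMap R (integralClosure R L) a)

include p in
theorem isUnit_algebraMap_of_primeCompl (y : p.primeCompl) : IsUnit (algebraMap R L y) := by
  have hs0 : (y : R) ≠ 0 := fun h0 => y.2 (h0 ▸ p.zero_mem)
  exact IsLocalization.map_units L (⟨(y : R), mem_nonZeroDivisors_of_ne_zero hs0⟩ : nonZeroDivisors R)

include he in
theorem comap_comap_equiv (P₀ : Ideal (integralClosure R L)) :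
    (P₀.comap (e : S →+* integralClosure R L)).comap φ =
      P₀.comap (algebraMap R (integralClosure R L)) := by
  rw [Ideal.comap_comap]
  congr 1
  ext a
  exact congrArg Subtype.val (he a)

include he in
/-- the separability hypothesis for `A = R_p` from a chart `S ≅ integralClosure R L` -/
theorem sepRes_of_chart {k : Type u} [Field k] [Algebra k R] [Algebra k A] [IsScalarTower k R A]
    (hsep : ∀ (P : Ideal S) [P.IsPrime], P.comap φ = p →
      ∃ (F : Type u) (_ : Field F) (_ : Algebra k F) (ρ : S →+* F),
        Algebra.IsGeometricallyReduced k F ∧ RingHom.ker ρ = P ∧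
          ∀ c : k, ρ (φ (algebraMap k R c)) = algebraMap k F c) : SepRes k A := by
  letI algAL : Algebra A L := (IsLocalization.lift (isUnit_algebraMap_of_primeCompl (L := L) p)).toAlgebra
  haveI : IsScalarTower R A L :=
    IsScalarTower.of_algebraMap_eq (fun a =>
      (IsLocalization.lift_eq (isUnit_algebraMap_of_primeCompl (L := L) p) a).symm)
  letI algkL : Algebra k L := Algebra.compHom L (algebraMap k R)
  haveI : IsScalarTower k R L := IsScalarTower.of_algebraMap_eq (fun _ => rfl)
  haveI : IsScalarTower k A L := IsScalarTower.of_algebraMap_eq (fun c => by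
    show algebraMap R L (algebraMap k R c) = algebraMap A L (algebraMap k A c)
    rw [IsScalarTower.algebraMap_apply k R A, ← IsScalarTower.algebraMap_apply R A L])
  apply sepRes_core (R := R) (L := L) p
  intro P₀ _ hP₀
  haveI : (P₀.comap (e : S →+* integralClosure R L)).IsPrime := Ideal.comap_isPrime _ _
  have h1 : (P₀.comap (e : S →+* integralClosure R L)).comap φ = p := by
    rw [comap_comap_equiv φ e he, hP₀]
  obtain ⟨F, i1, i2, ρ, hF, hker, hρ⟩ := hsep (P₀.comap (e : S →+* integralClosure R L)) h1
  refine ⟨F, i1, i2, ρ.comp (e.symm : integralClosure R L →+* S), hF, ?_, ?_⟩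
  · ext w
    rw [RingHom.mem_ker, RingHom.comp_apply, ← RingHom.mem_ker, hker, Ideal.mem_comap]
    show e (e.symm w) ∈ P₀ ↔ w ∈ P₀
    rw [e.apply_symm_apply]
  · intro c
    have h2 : algebraMap k (integralClosure R L) c =
        algebraMap R (integralClosure R L) (algebraMap k R c) :=
      IsScalarTower.algebraMap_apply k R _ c
    rw [h2, RingHom.comp_apply, ← he]
    show ρ (e.symm (e (φ (algebraMap k R c)))) = _
    rw [e.symm_apply_apply, hρ]

include he in
/-- the localizations of `S` at the primes over `p` are regular local rings -/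
theorem isRegularLocalRing_of_chart [IsNoetherianRing A] (hdim : ringKrullDim A = 1)
    (P : Ideal S) [P.IsPrime] (hP : P.comap φ = p) :
    IsRegularLocalRing (Localization.AtPrime P) := by
  letI algAL : Algebra A L := (IsLocalization.lift (isUnit_algebraMap_of_primeCompl (L := L) p)).toAlgebra
  haveI : IsScalarTower R A L :=
    IsScalarTower.of_algebraMap_eq (fun a =>
      (IsLocalization.lift_eq (isUnit_algebraMap_of_primeCompl (L := L) p) a).symm)
  haveI hP₀prime : (P.comap (e.symm : integralClosure R L →+* S)).IsPrime :=
    Ideal.comap_isPrime _ _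
  have hPP₀ : (P.comap (e.symm : integralClosure R L →+* S)).comap
      (e : S →+* integralClosure R L) = P := by
    ext s
    rw [Ideal.mem_comap, Ideal.mem_comap]
    show e.symm (e s) ∈ P ↔ s ∈ P
    rw [e.symm_apply_apply]
  have hP₀ : (P.comap (e.symm : integralClosure R L →+* S)).comap
      (algebraMap R (integralClosure R L)) = p := by
    rw [← comap_comap_equiv φ e he, hPP₀, hP]
  haveI := isRegularLocalRing_localization_core (A := A) p hdim
    (P.comap (e.symm : integralClosure R L →+* S)) hP₀
  have H : P.primeCompl.map e.toMonoidHom =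
      (P.comap (e.symm : integralClosure R L →+* S)).primeCompl := by
    ext y
    constructor
    · rintro ⟨s, hs, rfl⟩
      show ¬ (e.symm (e s) ∈ P)
      rw [e.symm_apply_apply]
      exact hs
    · intro hy
      exact ⟨e.symm y, hy, e.apply_symm_apply y⟩
  exact IsRegularLocalRing.of_ringEquiv
    (IsLocalization.ringEquivOfRingEquiv (Localization.AtPrime P)
      (Localization.AtPrime (P.comap (e.symm : integralClosure R L →+* S))) e H).symm

end Wrap

end Groth.Agent.Lib.DeltaSepH3
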