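import Mathlib
import Groth.Agent.Lib.DeltaSep5_helper3

/-!
# The δ-invariant as the length of a localized cokernel (helper3)

* `deltaInv_eq_length` : `δ(A)` computed in any fraction ring `L` of `A`.
* `deltaInv_of_isField` : `δ(K) = 0` for a field.
* `length_quot_eq_deltaInv` : for a domain `R` with fraction ring `L`, a prime `p`, `A = R_p`, a ring
  `S ≅ integralClosure R L` and an `A`-module `F` which is the localization of the `R`-module `S`
  at `p` through `g`, the quotient of `F` by `A • g 1` has length `δ(A)`.
APPEND-ONLY once landed.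
-/

set_option autoImplicit false
set_option maxSynthPendingDepth 3
universe u

namespace Groth.Agent.Lib.DeltaSepH3

open TensorProduct IsLocalRing

section Frac

variable (A : Type u) [CommRing A] (L : Type u) [CommRing L] [Algebra A L] [IsFractionRing A L]

theorem range_linearMap_eq_span_one (B : Type u) [CommRing B] [Algebra A B] :
    LinearMap.range (Algebra.linearMap A B) = Submodule.span A {(1 : B)} := by
  apply le_antisymm
  · rintro _ ⟨a, rfl⟩
    rw [Algebra.linearMap_apply, Algebra.algebraMap_eq_smul_one]
    exact Submodule.smul_mem _ _ (Submodule.subset_span rfl)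
  · rw [Submodule.span_le, Set.singleton_subset_iff]
    exact ⟨1, by rw [Algebra.linearMap_apply, map_one]⟩

/-- the δ-invariant computed in an arbitrary fraction ring -/
theorem deltaInv_eq_length :
    Curv2.deltaInv A = Module.length A (integralClosure A L ⧸
      LinearMap.range (Algebra.linearMap A (integralClosure A L))) := by
  unfold Curv2.deltaInv
  obtain ⟨θ, hθ⟩ : ∃ θ : integralClosure A (FractionRing A) ≃ₐ[A] integralClosure A L, True :=
    ⟨(FractionRing.algEquiv A L).mapIntegralClosure, trivial⟩
  refine LinearEquiv.length_eq (Submodule.Quotient.equiv _ _ θ.toLinearEquiv ?_)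
  rw [range_linearMap_eq_span_one, range_linearMap_eq_span_one, Submodule.map_span,
    Set.image_singleton]
  congr 2
  exact map_one θ

theorem deltaInv_of_isField (K : Type u) [CommRing K] (hK : IsField K) : Curv2.deltaInv K = 0 := by
  letI := hK.toField
  haveI : IsFractionRing K K := IsLocalization.of_le_isUnit (fun x hx =>
    isUnit_iff_ne_zero.mpr (nonZeroDivisors.ne_zero hx))
  rw [deltaInv_eq_length K K, Module.length_eq_zero_iff]
  refine ⟨fun a b => ?_⟩
  obtain ⟨a, rfl⟩ := Submodule.mkQ_surjective _ a
  obtain ⟨b, rfl⟩ := Submodule.mkQ_surjective _ b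
  simp only [Submodule.mkQ_apply]
  rw [Submodule.Quotient.eq]
  refine ⟨(a - b : integralClosure K K).1, ?_⟩
  apply Subtype.ext
  rfl

end Frac

section Main

variable {R : Type u} [CommRing R] [IsDomain R]
  {L : Type u} [CommRing L] [Algebra R L] [IsFractionRing R L]
  (p : Ideal R) [p.IsPrime]
  {A : Type u} [CommRing A] [Algebra R A] [IsLocalization.AtPrime A p]
  {S : Type u} [CommRing S] (φ : R →+* S) (e : S ≃+* integralClosure R L)
  (he : ∀ a, e (φ a) = algebraMap R (integralClosure R L) a)
  {F : Type u} [AddCommGroup F] [Module A F] [Module R F] [IsScalarTower R A F]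
  [Module R S] (hRS : ∀ (a : R) (s : S), a • s = φ a * s)
  (g : S →ₗ[R] F) [IsLocalizedModule p.primeCompl g]
  {M : Type u} [AddCommGroup M] [Module A M] (u : M →ₗ[A] F)
  (hu : LinearMap.range u = Submodule.span A {g 1})

include p he hRS hu in
theorem length_quot_eq_deltaInv :
    Module.length A (F ⧸ LinearMap.range u) = Curv2.deltaInv A := by
  letI algAL : Algebra A L :=
    (IsLocalization.lift (isUnit_algebraMap_of_primeCompl (L := L) p)).toAlgebra
  haveI : IsScalarTower R A L :=
    IsScalarTower.of_algebraMap_eq (fun a =>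
      (IsLocalization.lift_eq (isUnit_algebraMap_of_primeCompl (L := L) p) a).symm)
  haveI := isFractionRing_loc R L p A
  rw [deltaInv_eq_length A L]
  letI algII : Algebra (integralClosure R L) (integralClosure A L) := (incl R L A).toAlgebra
  haveI hloc := isLocalization_incl R L p A
  letI algR : Algebra R (integralClosure A L) :=
    ((algebraMap A (integralClosure A L)).comp (algebraMap R A)).toAlgebra
  haveI : IsScalarTower R A (integralClosure A L) :=
    IsScalarTower.of_algebraMap_eq (fun _ => rfl)
  -- the second localization map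
  obtain ⟨g', hg'⟩ : ∃ g' : S →ₗ[R] integralClosure A L, ∀ s, g' s = incl R L A (e s) :=
    ⟨{ toFun := fun s => incl R L A (e s)
       map_add' := fun a b => by rw [map_add, map_add]
       map_smul' := fun a s => by
        rw [hRS, map_mul, he, map_mul, incl_algebraMap, RingHom.id_apply, Algebra.smul_def]
        rfl }, fun s => rfl⟩
  have hunit : ∀ s : p.primeCompl, IsUnit (algebraMap R A s) :=
    fun s => IsLocalization.map_units A s
  haveI : IsLocalizedModule p.primeCompl g' := by
    refine ⟨?_, ?_, ?_⟩
    · intro s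
      rw [Module.End.isUnit_iff]
      obtain ⟨v, hv⟩ := hunit s
      constructor
      · intro a b hab
        have hab' : algebraMap R A s • a = algebraMap R A s • b := by
          rw [algebraMap_smul, algebraMap_smul]; exact hab
        rw [← hv] at hab'
        have := congrArg (fun z => (↑v⁻¹ : A) • z) hab'
        simpa [smul_smul] using this
      · intro b
        refine ⟨(↑v⁻¹ : A) • b, ?_⟩
        change (s : R) • ((↑v⁻¹ : A) • b) = b
        rw [← algebraMap_smul A (s : R), ← hv, smul_smul, Units.mul_inv, one_smul]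
    · intro y
      obtain ⟨⟨x, m⟩, hxm⟩ := IsLocalization.surj
        (Algebra.algebraMapSubmonoid (integralClosure R L) p.primeCompl) y
      obtain ⟨s, hs, hsm⟩ := m.2
      refine ⟨⟨e.symm x, ⟨s, hs⟩⟩, ?_⟩
      rw [hg', e.apply_symm_apply]
      have h1 : y * incl R L A (algebraMap R (integralClosure R L) s) = incl R L A x := by
        rw [hsm]; exact hxm
      rw [← h1, incl_algebraMap, mul_comm]
      show (s : R) • y = _
      rw [← algebraMap_smul A (s : R), Algebra.smul_def]
    · intro s₁ s₂ h
      rw [hg', hg'] at h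
      obtain ⟨⟨m, hm⟩, hm'⟩ := (IsLocalization.eq_iff_exists
        (Algebra.algebraMapSubmonoid (integralClosure R L) p.primeCompl)
        (integralClosure A L)).mp h
      obtain ⟨c, hc, rfl⟩ := hm
      refine ⟨⟨c, hc⟩, ?_⟩
      show c • s₁ = c • s₂
      rw [hRS, hRS]
      apply e.injective
      rw [map_mul, map_mul, he]
      exact hm'
  obtain ⟨θ₀, hθ₀⟩ : ∃ θ₀ : F ≃ₗ[R] integralClosure A L, ∀ s, θ₀ (g s) = g' s :=
    ⟨IsLocalizedModule.linearEquiv p.primeCompl g g',
      fun s => IsLocalizedModule.linearEquiv_apply p.primeCompl g g' s⟩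
  obtain ⟨θ, hθ⟩ : ∃ θ : F ≃ₗ[A] integralClosure A L, ∀ y, θ y = θ₀ y :=
    ⟨LinearEquiv.extendScalarsOfIsLocalization p.primeCompl A θ₀, fun y => rfl⟩
  have h1 : θ (g 1) = 1 := by
    rw [hθ, hθ₀, hg', map_one, map_one]
  refine LinearEquiv.length_eq (Submodule.Quotient.equiv _ _ θ ?_)
  rw [hu, range_linearMap_eq_span_one, Submodule.map_span, Set.image_singleton]
  congr 2

end Main

section Main'

variable {R : Type u} [CommRing R] [IsDomain R]
  {L : Type u} [CommRing L] [Algebra R L] [IsFractionRing R L]
  (p : Ideal R) [p.IsPrime]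
  {A : Type u} [CommRing A] [Algebra R A] [IsLocalization.AtPrime A p]
  {S : Type u} [CommRing S] (φ : R →+* S) (e : S ≃+* integralClosure R L)
  (he : ∀ a, e (φ a) = algebraMap R (integralClosure R L) a)
  {F : Type u} [AddCommGroup F] [Module A F] [Module R F] [IsScalarTower R A F]
  (g : S →+ F) (hg : ∀ (a : R) (s : S), g (φ a * s) = a • g s)
  (hsurj : ∀ y : F, ∃ (s : S) (c : R), c ∈ p.primeCompl ∧ c • y = g s)
  (hinj : ∀ s₁ s₂ : S, g s₁ = g s₂ → ∃ c : R, c ∈ p.primeCompl ∧ φ c * s₁ = φ c * s₂)
  {M : Type u} [AddCommGroup M] [Module A M] (u : M →ₗ[A] F)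
  (hu : LinearMap.range u = Submodule.span A {g 1})

include p he hg hsurj hinj hu in
/-- version of `length_quot_eq_deltaInv` with the localization property of `g` unbundled -/
theorem length_quot_eq_deltaInv' :
    Module.length A (F ⧸ LinearMap.range u) = Curv2.deltaInv A := by
  letI modRS : Module R S := Module.compHom S φ
  obtain ⟨g₁, hg₁⟩ : ∃ g₁ : S →ₗ[R] F, ∀ s, g₁ s = g s :=
    ⟨{ toFun := g
       map_add' := g.map_add
       map_smul' := fun a s => hg a s }, fun s => rfl⟩
  have hunit : ∀ s : p.primeCompl, IsUnit (algebraMap R A s) :=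
    fun s => IsLocalization.map_units A s
  haveI : IsLocalizedModule p.primeCompl g₁ := by
    refine ⟨?_, ?_, ?_⟩
    · intro s
      rw [Module.End.isUnit_iff]
      obtain ⟨v, hv⟩ := hunit s
      constructor
      · intro a b hab
        have hab' : algebraMap R A s • a = algebraMap R A s • b := by
          rw [algebraMap_smul, algebraMap_smul]; exact hab
        rw [← hv] at hab'
        have := congrArg (fun z => (↑v⁻¹ : A) • z) hab'
        simpa [smul_smul] using this
      · intro b
        refine ⟨(↑v⁻¹ : A) • b, ?_⟩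
        change (s : R) • ((↑v⁻¹ : A) • b) = b
        rw [← algebraMap_smul A (s : R), ← hv, smul_smul, Units.mul_inv, one_smul]
    · intro y
      obtain ⟨s, c, hc, hcs⟩ := hsurj y
      exact ⟨⟨s, ⟨c, hc⟩⟩, by rw [hg₁]; exact hcs⟩
    · intro s₁ s₂ h
      rw [hg₁, hg₁] at h
      obtain ⟨c, hc, hcs⟩ := hinj s₁ s₂ h
      exact ⟨⟨c, hc⟩, hcs⟩
  have hu' : LinearMap.range u = Submodule.span A {g₁ 1} := by rw [hg₁]; exact hu
  exact length_quot_eq_deltaInv p φ e he (fun _ _ => rfl) g₁ u hu'

end Main'

end Groth.Agent.Lib.DeltaSepH3
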