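import Mathlib
import Groth.Prelude.Def_Curv2
import Groth.Agent.Lib.DeltaInvFlat_helper3
import Groth.Agent.Lib.Japanese4_helper9
import Groth.Agent.Lib.FieldNagata_helper3
import Groth.Agent.Lib.RedNorm2_helper6

/-!
# The δ-invariant does not decrease under flat local homomorphisms (helper3)

APPEND-ONLY once landed.
-/

set_option autoImplicit false
set_option maxSynthPendingDepth 3
universe u

namespace Groth.Agent.Lib.DeltaInvH3

open IsLocalRing TensorProduct

section Le

variable (A B : Type u) [CommRing A] [CommRing B] [IsLocalRing A] [IsLocalRing B] [Algebra A B]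
  [IsLocalHom (algebraMap A B)] [Module.Flat A B]
  [hfin : Module.Finite A (integralClosure A (FractionRing A))]

/-- `δ(A) ≤ δ(B)` for a flat local homomorphism `A → B`, `A` with finite normalization -/
theorem deltaInv_le_of_flat : Curv2.deltaInv A ≤ Curv2.deltaInv B := by
  unfold Curv2.deltaInv
  obtain ⟨ι, hι⟩ : ∃ ι : A →ₗ[A] integralClosure A (FractionRing A),
      ι = Algebra.linearMap A _ := ⟨_, rfl⟩
  rw [← hι]
  have hex : Function.Exact ι (LinearMap.range ι).mkQ := LinearMap.exact_map_mkQ_range ι
  have hsurj : Function.Surjective (LinearMap.range ι).mkQ := Submodule.mkQ_surjective _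
  have hexB : Function.Exact (ι.lTensor B) ((LinearMap.range ι).mkQ.lTensor B) :=
    lTensor_exact B hex hsurj
  have hsurjB : Function.Surjective ((LinearMap.range ι).mkQ.baseChange B) := by
    rw [LinearMap.baseChange_eq_ltensor]
    exact LinearMap.lTensor_surjective B hsurj
  have hker : LinearMap.ker ((LinearMap.range ι).mkQ.baseChange B) =
      LinearMap.range (Algebra.linearMap B (B ⊗[A] integralClosure A (FractionRing A))) := by
    ext t
    rw [LinearMap.mem_ker]
    have h1 : (LinearMap.range ι).mkQ.baseChange B t = (LinearMap.range ι).mkQ.lTensor B t := rfl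
    rw [h1, hexB t]
    constructor
    · rintro ⟨s, rfl⟩
      refine ⟨TensorProduct.rid A B s, ?_⟩
      obtain ⟨b, rfl⟩ := (TensorProduct.rid A B).symm.surjective s
      rw [LinearEquiv.apply_symm_apply, TensorProduct.rid_symm_apply, LinearMap.lTensor_tmul,
        hι, Algebra.linearMap_apply, Algebra.linearMap_apply, map_one,
        Algebra.TensorProduct.algebraMap_apply, Algebra.algebraMap_self, RingHom.id_apply]
    · rintro ⟨b, rfl⟩
      refine ⟨b ⊗ₜ 1, ?_⟩
      rw [LinearMap.lTensor_tmul, hι, Algebra.linearMap_apply, Algebra.linearMap_apply, map_one,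
        Algebra.TensorProduct.algebraMap_apply, Algebra.algebraMap_self, RingHom.id_apply]
  have e2 := (Submodule.quotEquivOfEq _ _ hker.symm).trans
    (((LinearMap.range ι).mkQ.baseChange B).quotKerEquivOfSurjective hsurjB)
  -- the comparison map into the normalisation of `B`
  obtain ⟨Φ', hΦ'⟩ : ∃ Φ' : B ⊗[A] integralClosure A (FractionRing A) →ₗ[B]
      integralClosure B (FractionRing B), ∀ t, ((Φ' t : integralClosure B (FractionRing B)) :
        FractionRing B) = Phi A B t :=
    ⟨((Phi A B).codRestrict (integralClosure B (FractionRing B))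
      (isIntegral_Phi A B)).toLinearMap, fun t => rfl⟩
  have hle : LinearMap.range (Algebra.linearMap B
      (B ⊗[A] integralClosure A (FractionRing A))) ≤
      (LinearMap.range (Algebra.linearMap B (integralClosure B (FractionRing B)))).comap Φ' := by
    rintro _ ⟨b, rfl⟩
    refine ⟨b, Subtype.ext ?_⟩
    rw [hΦ', Algebra.linearMap_apply, Algebra.linearMap_apply]
    exact ((Phi A B).commutes b).symm
  have hinj : Function.Injective (Submodule.mapQ _ _ Φ' hle) := by
    rw [← LinearMap.ker_eq_bot, eq_bot_iff]
    intro z hz
    obtain ⟨t, rfl⟩ := Submodule.Quotient.mk_surjective _ z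
    rw [LinearMap.mem_ker, Submodule.mapQ_apply, Submodule.Quotient.mk_eq_zero] at hz
    obtain ⟨b, hb⟩ := hz
    rw [Submodule.mem_bot, Submodule.Quotient.mk_eq_zero]
    refine ⟨b, ?_⟩
    apply Phi_injective A B
    have h3 : ((Algebra.linearMap B (integralClosure B (FractionRing B)) b :
        integralClosure B (FractionRing B)) : FractionRing B) = Phi A B t := by
      rw [hb, hΦ']
    rw [← h3, Algebra.linearMap_apply, Algebra.linearMap_apply]
    exact (Phi A B).commutes b
  calc Module.length A (integralClosure A (FractionRing A) ⧸ LinearMap.range ι)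
      ≤ Module.length A (integralClosure A (FractionRing A) ⧸ LinearMap.range ι) *
        Module.length B (B ⧸ (maximalIdeal A).map (algebraMap A B)) := by
        have hne : (maximalIdeal A).map (algebraMap A B) ≠ ⊤ :=
          ((map_maximalIdeal_lt_top (algebraMap A B))).ne
        haveI : Nontrivial (B ⧸ (maximalIdeal A).map (algebraMap A B)) :=
          Ideal.Quotient.nontrivial_iff.mpr hne
        have h1 : 1 ≤ Module.length B (B ⧸ (maximalIdeal A).map (algebraMap A B)) :=
          Order.one_le_iff_pos.mpr (Module.length_pos_iff.mpr inferInstance)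
        exact le_mul_of_one_le_right' h1
    _ = Module.length B (B ⊗[A] (integralClosure A (FractionRing A) ⧸ LinearMap.range ι)) :=
        (IsLocalRing.length_baseChange A B _).symm
    _ = Module.length B ((B ⊗[A] integralClosure A (FractionRing A)) ⧸ LinearMap.range
          (Algebra.linearMap B (B ⊗[A] integralClosure A (FractionRing A)))) :=
        e2.length_eq.symm
    _ ≤ _ := Module.length_le_of_injective _ hinj

end Le

end Groth.Agent.Lib.DeltaInvH3
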