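import Mathlib
import Groth.Agent.Lib.RedNorm2_helper6

/-!
# Normalization of a reduced ring with finitely many minimal primes (helper6), part 3:
localizations of the normalization at primes are integrally closed domains
-/

set_option autoImplicit false
universe u

namespace Groth.Agent.Lib.RedNorm

open scoped nonZeroDivisors

/-- Abstract criterion: a ring map `ψ : R → L` to a field whose kernel is killed by an element
outside `P`, which generates `L` as a field and whose image is integrally closed in `L`,
exhibits `R_P` as an integrally closed domain. -/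
theorem isDomain_isIntegrallyClosed_of_map {R : Type u} [CommRing R] (P : Ideal R) [P.IsPrime]
    {L : Type u} [Field L] (ψ : R →+* L) (e : R) (he : e ∉ P)
    (hker : ∀ x, ψ x = 0 → x * e = 0)
    (hsurj : ∀ z : L, ∃ a b, z = ψ a / ψ b)
    (hic : ∀ w : L, ψ.IsIntegralElem w → ∃ u, ψ u = w) :
    IsDomain (Localization.AtPrime P) ∧ IsIntegrallyClosed (Localization.AtPrime P) := by
  have hunits : ∀ y : P.primeCompl, IsUnit (ψ y) := by
    intro y
    rw [isUnit_iff_ne_zero]
    intro h0
    have h1 := hker y h0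
    have h2 : (y : R) * e ∈ P := by
      rw [h1]; exact P.zero_mem
    rcases Ideal.IsPrime.mem_or_mem ‹P.IsPrime› h2 with h3 | h3
    · exact y.2 h3
    · exact he h3
  let ψP : Localization.AtPrime P →+* L := IsLocalization.lift (M := P.primeCompl) hunits
  have hψP : ∀ x, ψP (algebraMap _ (Localization.AtPrime P) x) = ψ x :=
    fun x => IsLocalization.lift_eq hunits x
  have hinj : Function.Injective ψP := by
    rw [injective_iff_map_eq_zero]
    intro x hx
    obtain ⟨a, t, rfl⟩ := IsLocalization.exists_mk'_eq P.primeCompl x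
    have h1 := IsLocalization.mk'_spec (Localization.AtPrime P) a t
    have h2 := congrArg ψP h1
    rw [map_mul, hx, zero_mul, hψP] at h2
    have h3 := hker a h2.symm
    rw [IsLocalization.mk'_eq_zero_iff]
    exact ⟨⟨e, he⟩, by rw [mul_comm]; exact h3⟩
  have hdom : IsDomain (Localization.AtPrime P) := Function.Injective.isDomain ψP hinj
  refine ⟨hdom, ?_⟩
  letI : Algebra (Localization.AtPrime P) L := ψP.toAlgebra
  letI : Algebra R L := ψ.toAlgebra
  haveI : IsScalarTower R (Localization.AtPrime P) L :=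
    IsScalarTower.of_algebraMap_eq (fun x => (hψP x).symm)
  haveI : FaithfulSMul (Localization.AtPrime P) L :=
    (faithfulSMul_iff_algebraMap_injective _ _).2 hinj
  haveI : IsFractionRing (Localization.AtPrime P) L := by
    apply IsFractionRing.of_field
    intro z
    obtain ⟨a, b, hab⟩ := hsurj z
    refine ⟨algebraMap _ _ a, algebraMap _ _ b, ?_⟩
    change z = ψP _ / ψP _
    rw [hψP, hψP, hab]
  rw [isIntegrallyClosed_iff L]
  intro z hz
  obtain ⟨m, hm⟩ := IsIntegral.exists_multiple_integral_of_isLocalization P.primeCompl z hz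
  have hm' : m • z = ψ m * z := by
    rw [Submonoid.smul_def, Algebra.smul_def]; rfl
  rw [hm'] at hm
  obtain ⟨u, hu⟩ := hic _ hm
  refine ⟨IsLocalization.mk' _ u m, ?_⟩
  have h1 := IsLocalization.mk'_spec (Localization.AtPrime P) u m
  have h2 := congrArg ψP h1
  rw [map_mul, hψP, hψP, hu] at h2
  have hm0 : ψ m ≠ 0 := (hunits m).ne_zero
  change ψP _ = z
  apply mul_right_cancel₀ hm0
  rw [h2, mul_comm]

variable {A : Type u} [CommRing A]

theorem localization_isDomain_isIntegrallyClosed [IsReduced A]
    (hfin : (minimalPrimes A).Finite)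
    (P : Ideal (integralClosure A (FractionRing A))) [P.IsPrime] :
    IsDomain (Localization.AtPrime P) ∧ IsIntegrallyClosed (Localization.AtPrime P) := by
  classical
  haveI : Finite ↥(minimalPrimes A) := hfin.to_subtype
  haveI : Fintype ↥(minimalPrimes A) := Fintype.ofFinite _
  haveI hprime : ∀ i : ↥(minimalPrimes A), i.1.IsPrime := fun i => i.2.1.1
  -- idempotents
  have hex : ∀ i : ↥(minimalPrimes A), ∃ e : FractionRing A, IsIntegral A e ∧
      piMin i.1 i.2 e = 1 ∧
      ∀ (q : Ideal A) [q.IsPrime] (hq : q ∈ minimalPrimes A), q ≠ i.1 → piMin q hq e = 0 :=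
    fun i => exists_integral_lift hfin i.1 i.2 1 isIntegral_one
  choose e he1 he2 he3 using hex
  have hsum : ∑ i, e i = 1 := by
    apply eq_of_forall_piMin
    intro q _ hq
    rw [map_sum, map_one]
    rw [Finset.sum_eq_single (⟨q, hq⟩ : ↥(minimalPrimes A))]
    · exact he2 ⟨q, hq⟩
    · intro j _ hj
      apply he3 j q hq
      intro h
      apply hj
      exact Subtype.ext h.symm
    · intro h; exact absurd (Finset.mem_univ _) h
  let e' : ↥(minimalPrimes A) → integralClosure A (FractionRing A) := fun i => ⟨e i, he1 i⟩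
  have hsum' : ∑ i, e' i = 1 := by
    apply Subtype.ext
    rw [AddSubmonoidClass.coe_finset_sum]
    exact hsum
  obtain ⟨i₀, hi₀⟩ : ∃ i, e' i ∉ P := by
    by_contra hcon
    push_neg at hcon
    have : (1 : integralClosure A (FractionRing A)) ∈ P := by
      rw [← hsum']
      exact Ideal.sum_mem _ (fun i _ => hcon i)
    exact (Ideal.IsPrime.ne_top ‹P.IsPrime›) ((Ideal.eq_top_iff_one _).2 this)
  -- the map to the fraction field of `A / p₀`
  let ψ : integralClosure A (FractionRing A) →+* FractionRing (A ⧸ i₀.1) :=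
    (piMin i₀.1 i₀.2).toRingHom.comp (integralClosure A (FractionRing A)).val.toRingHom
  have hψ : ∀ x, ψ x = piMin i₀.1 i₀.2 x.1 := fun x => rfl
  have hAψ : ∀ a : A, ψ (algebraMap A _ a) = algebraMap A (FractionRing (A ⧸ i₀.1)) a := by
    intro a
    rw [hψ]
    exact (piMin i₀.1 i₀.2).commutes a
  apply isDomain_isIntegrallyClosed_of_map P ψ (e' i₀) hi₀
  · intro x hx
    apply Subtype.ext
    change x.1 * e i₀ = 0
    apply eq_zero_of_forall_piMin
    intro q _ hq
    rw [map_mul]
    by_cases hqp : q = i₀.1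
    · subst hqp
      rw [hψ] at hx
      rw [hx, zero_mul]
    · rw [he3 i₀ q hq hqp, mul_zero]
  · intro z
    obtain ⟨x, y, hxy⟩ := IsLocalization.exists_mk'_eq (A ⧸ i₀.1)⁰ z
    obtain ⟨a, rfl⟩ := Ideal.Quotient.mk_surjective x
    obtain ⟨b, hb⟩ := Ideal.Quotient.mk_surjective (y : A ⧸ i₀.1)
    refine ⟨algebraMap A (integralClosure A (FractionRing A)) a,
      algebraMap A (integralClosure A (FractionRing A)) b, ?_⟩
    rw [hAψ, hAψ, ← hxy, IsFractionRing.mk'_eq_div, ← hb,
      IsScalarTower.algebraMap_apply A (A ⧸ i₀.1) (FractionRing (A ⧸ i₀.1)) a,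
      IsScalarTower.algebraMap_apply A (A ⧸ i₀.1) (FractionRing (A ⧸ i₀.1)) b,
      Ideal.Quotient.algebraMap_eq]
  · intro w hw
    letI : Algebra (integralClosure A (FractionRing A)) (FractionRing (A ⧸ i₀.1)) := ψ.toAlgebra
    haveI : IsScalarTower A (integralClosure A (FractionRing A)) (FractionRing (A ⧸ i₀.1)) :=
      IsScalarTower.of_algebraMap_eq (fun a => (hAψ a).symm)
    have hw1 : IsIntegral (integralClosure A (FractionRing A)) w := hw
    have hw2 : IsIntegral A w := isIntegral_trans _ hw1
    obtain ⟨u, hu1, hu2, -⟩ := exists_integral_lift hfin i₀.1 i₀.2 _ hw2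
    exact ⟨⟨u, hu1⟩, hu2⟩

end Groth.Agent.Lib.RedNorm
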