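import Mathlib
import Groth.Agent.Lib.KrullAkizuki1_helper6

/-!
# Normalization (helper6), part 4: `A'/A` has finite length when `A'` is finite and `dim A ≤ 1`
-/

set_option autoImplicit false
universe u

namespace Groth.Agent.Lib.RedNorm

open scoped nonZeroDivisors

variable {A : Type u} [CommRing A]

/-- A finitely generated module killed by `f` over a Noetherian ring of dimension `≤ 1`, `f` a
nonzerodivisor, has finite length. -/
theorem length_ne_top_of_smul_eq_zero [IsNoetherianRing A] (hdim : ringKrullDim A ≤ 1)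
    {N : Type u} [AddCommGroup N] [Module A N] [Module.Finite A N]
    (f : A) (hf : f ∈ A⁰) (hfN : ∀ y : N, f • y = 0) : Module.length A N ≠ ⊤ := by
  obtain ⟨n, g, hg⟩ := Module.Finite.exists_fin (R := A) (M := N)
  let ℓ : Fin n → (A ⧸ Ideal.span ({f} : Set A)) →ₗ[A] N := fun i =>
    Submodule.liftQ (Ideal.span ({f} : Set A)) (LinearMap.toSpanSingleton A N (g i)) (by
      intro r hr
      rw [Ideal.mem_span_singleton'] at hr
      obtain ⟨c, rfl⟩ := hr
      rw [LinearMap.mem_ker, LinearMap.toSpanSingleton_apply, mul_smul, hfN, smul_zero])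
  have hℓ : ∀ i (a : A), ℓ i (Ideal.Quotient.mk _ a) = a • g i := fun i a => rfl
  let G : (Fin n → A ⧸ Ideal.span ({f} : Set A)) →ₗ[A] N :=
    ∑ i, (ℓ i) ∘ₗ (LinearMap.proj i)
  have hG : Function.Surjective G := by
    intro y
    have hy : y ∈ Submodule.span A (Set.range g) := by rw [hg]; trivial
    rw [Submodule.mem_span_range_iff_exists_fun] at hy
    obtain ⟨c, hc⟩ := hy
    refine ⟨fun i => Ideal.Quotient.mk _ (c i), ?_⟩
    rw [← hc]
    simp only [G, LinearMap.sum_apply, LinearMap.comp_apply, LinearMap.proj_apply, hℓ]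
  have h1 := Module.length_le_of_surjective G hG
  have h2 : Module.length A (Fin n → A ⧸ Ideal.span ({f} : Set A)) ≠ ⊤ := by
    rw [Module.length_pi_of_fintype]
    have h3 := Groth.Agent.Lib.KA.length_quotient_span_ne_top hdim hf
    rw [Finset.sum_const, Finset.card_univ, Fintype.card_fin]
    rw [nsmul_eq_mul]
    exact WithTop.mul_ne_top (ENat.coe_ne_top n) h3
  exact ne_top_of_le_ne_top h2 h1

theorem length_quotient_ne_top_of_finite [IsNoetherianRing A] (hdim : ringKrullDim A ≤ 1)
    [Module.Finite A (integralClosure A (FractionRing A))] :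
    Module.length A ((integralClosure A (FractionRing A)) ⧸
      LinearMap.range (Algebra.linearMap A (integralClosure A (FractionRing A)))) ≠ ⊤ := by
  classical
  obtain ⟨s, hs⟩ := Module.Finite.fg_top (R := A) (M := integralClosure A (FractionRing A))
  obtain ⟨f, hf⟩ := IsLocalization.exist_integer_multiples_of_finset A⁰
    (s.image (Subtype.val : integralClosure A (FractionRing A) → FractionRing A))
  have key : ∀ x : integralClosure A (FractionRing A),
      ∃ a : A, (f : A) • x = algebraMap A (integralClosure A (FractionRing A)) a := by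
    intro x
    have hx : x ∈ Submodule.span A (s : Set (integralClosure A (FractionRing A))) := by
      rw [hs]; trivial
    induction hx using Submodule.span_induction with
    | mem x hx =>
      obtain ⟨a, ha⟩ := hf x.1 (Finset.mem_image_of_mem _ hx)
      refine ⟨a, ?_⟩
      apply Subtype.ext
      exact ha.symm
    | zero => exact ⟨0, by rw [smul_zero, map_zero]⟩
    | add x y _ _ hx hy =>
      obtain ⟨a, ha⟩ := hx
      obtain ⟨b, hb⟩ := hy
      exact ⟨a + b, by rw [smul_add, ha, hb, map_add]⟩
    | smul r x _ hx =>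
      obtain ⟨a, ha⟩ := hx
      exact ⟨r * a, by rw [smul_comm, ha, map_mul, Algebra.smul_def]⟩
  apply length_ne_top_of_smul_eq_zero hdim (f : A) f.2
  intro y
  obtain ⟨x, rfl⟩ := Submodule.mkQ_surjective _ y
  rw [← map_smul, Submodule.mkQ_apply, Submodule.Quotient.mk_eq_zero]
  obtain ⟨a, ha⟩ := key x
  rw [ha]
  exact ⟨a, rfl⟩

end Groth.Agent.Lib.RedNorm
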