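import Mathlib
import Groth.Prelude.Def_Curv2
import Groth.Agent.Lib.DeltaInvLe_helper3
import Groth.Agent.S7652

/-!
# The δ-invariant under base field extension: the inequality (helper3)

APPEND-ONLY once landed.
-/

set_option autoImplicit false
set_option maxSynthPendingDepth 3
universe u

namespace Groth.Agent.Lib.DeltaInvH3

open AlgebraicGeometry CategoryTheory CategoryTheory.Limits IsLocalRing

section Nagata

/-- the local rings of a scheme locally of finite type over a field are Nagata rings -/
theorem isNagata_stalk (k : Type u) [Field k] (X : Scheme.{u}) [X.Over (Spec (CommRingCat.of k))]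
    [LocallyOfFiniteType (X ↘ (Spec (CommRingCat.of k)))] (x : X) :
    CAlg.IsNagata (X.presheaf.stalk x) := by
  obtain ⟨_, ⟨U, hU, rfl⟩, hxU, -⟩ := X.isBasis_affineOpens.exists_subset_of_mem_open
    (Set.mem_univ x) isOpen_univ
  have hft : ((X ↘ (Spec (CommRingCat.of k))).appLE ⊤ U le_top).hom.FiniteType :=
    LocallyOfFiniteType.finiteType_appLE (X ↘ (Spec (CommRingCat.of k))) (isAffineOpen_top _) hU
      le_top
  have hft2 : (((X ↘ (Spec (CommRingCat.of k))).appLE ⊤ U le_top).hom.comp
      (Scheme.ΓSpecIso (CommRingCat.of k)).inv.hom).FiniteType :=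
    hft.comp (RingHom.FiniteType.of_surjective _
      (Scheme.ΓSpecIso (CommRingCat.of k)).commRingCatIsoToRingEquiv.symm.surjective)
  have hN : CAlg.IsNagata Γ(X, U) :=
    Groth.Agent.Lib.FieldNagataH3.isNagata_of_ringHom_finiteType k Γ(X, U) _ hft2
  letI := X.presheaf.algebra_section_stalk ⟨x, hxU⟩
  haveI := hU.isLocalization_stalk ⟨x, hxU⟩
  exact Groth.Agent.Lib.Japanese.isNagata_of_isLocalization Γ(X, U) hN
    (hU.primeIdealOf ⟨x, hxU⟩).asIdeal.primeCompl (X.presheaf.stalk x)

end Nagata

section Main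

variable (k : Type u) [Field k] (X : Scheme.{u}) [X.Over (Spec (CommRingCat.of k))]
  [LocallyOfFiniteType (X ↘ (Spec (CommRingCat.of k)))] (K : Type u) [Field K] [Algebra k K]

instance flat_bcFst : Flat (Curv2.bcFst k X K) := by
  haveI : Flat (Spec.map (CommRingCat.ofHom (algebraMap k K))) := by
    rw [Flat.SpecMap_iff]
    show (algebraMap k K).Flat
    rw [RingHom.flat_algebraMap_iff]
    infer_instance
  show Flat (pullback.fst _ _)
  infer_instance

theorem main1651 (y : Curv2.bc k X K)
    (hx : Curv2.IsGeomReducedAt k X (Curv2.bcFst k X K y))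
    (hdx : ringKrullDim (X.presheaf.stalk (Curv2.bcFst k X K y)) = 1) :
    Curv2.deltaInv (X.presheaf.stalk (Curv2.bcFst k X K y)) ≤
      Curv2.deltaInv ((Curv2.bc k X K).presheaf.stalk y) := by
  letI algAB : Algebra (X.presheaf.stalk (Curv2.bcFst k X K y))
      ((Curv2.bc k X K).presheaf.stalk y) := ((Curv2.bcFst k X K).stalkMap y).hom.toAlgebra
  haveI : IsLocalHom (algebraMap (X.presheaf.stalk (Curv2.bcFst k X K y))
      ((Curv2.bc k X K).presheaf.stalk y)) :=
    inferInstanceAs (IsLocalHom ((Curv2.bcFst k X K).stalkMap y).hom)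
  haveI hflat : Module.Flat (X.presheaf.stalk (Curv2.bcFst k X K y))
      ((Curv2.bc k X K).presheaf.stalk y) := Flat.stalkMap (Curv2.bcFst k X K) y
  haveI hredB : IsReduced ((Curv2.bc k X K).presheaf.stalk y) := hx K y rfl
  haveI : Module.FaithfullyFlat (X.presheaf.stalk (Curv2.bcFst k X K y))
      ((Curv2.bc k X K).presheaf.stalk y) := Module.FaithfullyFlat.of_flat_of_isLocalHom
  have hinj : Function.Injective (algebraMap (X.presheaf.stalk (Curv2.bcFst k X K y))
      ((Curv2.bc k X K).presheaf.stalk y)) := FaithfulSMul.algebraMap_injective _ _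
  haveI hredA : IsReduced (X.presheaf.stalk (Curv2.bcFst k X K y)) :=
    isReduced_of_injective _ hinj
  have hN := isNagata_stalk k X (Curv2.bcFst k X K y)
  haveI hfin : Module.Finite (X.presheaf.stalk (Curv2.bcFst k X K y))
      (integralClosure (X.presheaf.stalk (Curv2.bcFst k X K y))
        (FractionRing (X.presheaf.stalk (Curv2.bcFst k X K y)))) :=
    (Groth.Agent.S7652.result _ hN hdx).1
  exact deltaInv_le_of_flat _ _

end Main

end Groth.Agent.Lib.DeltaInvH3
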