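import Mathlib
import Groth.Agent.Lib.NormDimOne_helper7
import Groth.Agent.Lib.NormalizationNormal_helper7
import Groth.Agent.Lib.NormalizationBirat2_helper7
import Groth.Agent.Lib.OverField_helper7
import Groth.Agent.Lib.PushforwardNormal_helper7

/-!
# Normalization of an integral locally Noetherian scheme of dimension one (helper7)
-/

set_option autoImplicit false
universe u
open CategoryTheory CategoryTheory.Limits AlgebraicGeometry

namespace Groth.Agent.Lib.NormDimOne2H7

/-- In a nonempty affine open of an integral scheme, the prime of a point is zero iff the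
point is the generic point. -/
theorem primeIdealOf_eq_bot_iff {N : Scheme.{u}} [IsIntegral N] {W : N.Opens}
    (hW : IsAffineOpen W) [Nonempty W] (x : N) (hx : x ∈ W) :
    (hW.primeIdealOf ⟨x, hx⟩).asIdeal = ⊥ ↔ x = genericPoint N := by
  have hg : genericPoint N ∈ W :=
    ((genericPoint_spec N).mem_open_set_iff W.isOpen).mpr (by simpa using ‹Nonempty W›)
  have e1 : hW.primeIdealOf ⟨genericPoint N, hg⟩ = (⊥ : PrimeSpectrum Γ(N, W)) := by
    rw [hW.primeIdealOf_genericPoint, genericPoint_eq_bot_of_affine]
  constructor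
  · intro h0
    have h1 : hW.primeIdealOf ⟨x, hx⟩ = hW.primeIdealOf ⟨genericPoint N, hg⟩ := by
      rw [e1]
      exact PrimeSpectrum.ext h0
    have h2 := congrArg (fun p => hW.fromSpec p) h1
    simp only [hW.fromSpec_primeIdealOf] at h2
    exact h2
  · rintro rfl
    rw [e1]
    rfl

variable (X : Scheme.{u}) [IsIntegral X]

/-- The preimage of an open containing the generic point under the generic point map is `⊤`. -/
theorem preimage_eq_top (V : X.Opens) (hV : genericPoint X ∈ V) :
    (X.fromSpecStalk (genericPoint X)) ⁻¹ᵁ V = ⊤ := by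
  rw [eq_top_iff]
  intro p _
  have hp : p = IsLocalRing.closedPoint (X.presheaf.stalk (genericPoint X)) :=
    Groth.Agent.Lib.NormalizationNormalH7.eq_of_isField_Spec _
      (Field.toIsField X.functionField) _ _
  show (X.fromSpecStalk (genericPoint X)) p ∈ V
  rw [hp, Scheme.fromSpecStalk_closedPoint]
  exact hV

theorem isFractionRing_app (V : X.Opens) (hV : IsAffineOpen V) [Nonempty V] :
    letI := ((X.fromSpecStalk (genericPoint X)).app V).hom.toAlgebra
    IsFractionRing Γ(X, V)
      Γ(Spec X.functionField, (X.fromSpecStalk (genericPoint X)) ⁻¹ᵁ V) := by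
  letI := ((X.fromSpecStalk (genericPoint X)).app V).hom.toAlgebra
  have hgen : genericPoint X ∈ V :=
    ((genericPoint_spec X).mem_open_set_iff V.isOpen).mpr (by simpa using ‹Nonempty V›)
  have htop := preimage_eq_top X V hgen
  let θ : X.functionField ⟶
      Γ(Spec X.functionField, (X.fromSpecStalk (genericPoint X)) ⁻¹ᵁ V) :=
    (Scheme.ΓSpecIso X.functionField).inv ≫
      (Spec X.functionField).presheaf.map (homOfLE le_top).op
  have hθ : IsIso θ := by
    have hres : ∀ (W : (Spec X.functionField).Opens) (_ : W = ⊤),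
        IsIso ((Spec X.functionField).presheaf.map (homOfLE (le_top : W ≤ ⊤)).op) := by
      rintro W rfl
      have : homOfLE (le_top : (⊤ : (Spec X.functionField).Opens) ≤ ⊤) = 𝟙 _ :=
        Subsingleton.elim _ _
      rw [this, op_id, CategoryTheory.Functor.map_id]
      infer_instance
    haveI := hres _ htop
    infer_instance
  have hbij : Function.Bijective θ.hom := (ConcreteCategory.isIso_iff_bijective θ).mp hθ
  have hcomm : ∀ a : Γ(X, V), (RingEquiv.ofBijective θ.hom hbij)
      (algebraMap Γ(X, V) X.functionField a) =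
      algebraMap Γ(X, V) Γ(Spec X.functionField, (X.fromSpecStalk (genericPoint X)) ⁻¹ᵁ V) a := by
    intro a
    have h := Scheme.fromSpecStalk_app (X := X) (U := V) (x := genericPoint X) hgen
    exact (congr($(h) a)).symm
  haveI := functionField_isFractionRing_of_isAffineOpen X V hV
  exact IsLocalization.isLocalization_of_algEquiv (nonZeroDivisors Γ(X, V))
    (AlgEquiv.ofRingEquiv (f := RingEquiv.ofBijective θ.hom hbij) hcomm)

variable [QuasiCompact (X.fromSpecStalk (genericPoint X))]
  [QuasiSeparated (X.fromSpecStalk (genericPoint X))]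

theorem facts [IsLocallyNoetherian X] (hdim : topologicalKrullDim X ≤ 1) (V : X.Opens)
    (hV : IsAffineOpen V) [Nonempty V] :
    letI := ((X.fromSpecStalk (genericPoint X)).fromNormalization.app V).hom.toAlgebra
    IsDedekindDomain Γ((X.fromSpecStalk (genericPoint X)).normalization,
        (X.fromSpecStalk (genericPoint X)).fromNormalization ⁻¹ᵁ V) ∧
      (∀ p : PrimeSpectrum Γ(X, V), (PrimeSpectrum.comap
        ((X.fromSpecStalk (genericPoint X)).fromNormalization.app V).hom ⁻¹' {p}).Finite) ∧
      ∀ Q : Ideal Γ((X.fromSpecStalk (genericPoint X)).normalization,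
        (X.fromSpecStalk (genericPoint X)).fromNormalization ⁻¹ᵁ V), Q.IsMaximal →
        Module.Finite Γ(X, V) (Γ((X.fromSpecStalk (genericPoint X)).normalization,
          (X.fromSpecStalk (genericPoint X)).fromNormalization ⁻¹ᵁ V) ⧸ Q) := by
  letI algM : Algebra Γ(X, V)
      Γ(Spec X.functionField, (X.fromSpecStalk (genericPoint X)) ⁻¹ᵁ V) :=
    ((X.fromSpecStalk (genericPoint X)).app V).hom.toAlgebra
  letI algB : Algebra Γ(X, V) Γ((X.fromSpecStalk (genericPoint X)).normalization,
        (X.fromSpecStalk (genericPoint X)).fromNormalization ⁻¹ᵁ V) :=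
    ((X.fromSpecStalk (genericPoint X)).fromNormalization.app V).hom.toAlgebra
  haveI := isFractionRing_app X V hV
  haveI : IsNoetherianRing Γ(X, V) := IsLocallyNoetherian.component_noetherian ⟨V, hV⟩
  have hd : ringKrullDim Γ(X, V) ≤ 1 := by
    rw [← PrimeSpectrum.topologicalKrullDim_eq_ringKrullDim]
    exact (hV.fromSpec.isOpenEmbedding.isInducing.topologicalKrullDim_le).trans hdim
  let e₁ := ((X.fromSpecStalk (genericPoint X)).normalizationObjIso hV).commRingCatIsoToRingEquiv
  have hcomm : ∀ a : Γ(X, V), e₁ (algebraMap Γ(X, V) Γ((X.fromSpecStalk (genericPoint X)).normalization,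
        (X.fromSpecStalk (genericPoint X)).fromNormalization ⁻¹ᵁ V) a) =
      algebraMap Γ(X, V) (integralClosure Γ(X, V)
        Γ(Spec X.functionField, (X.fromSpecStalk (genericPoint X)) ⁻¹ᵁ V)) a := by
    intro a
    have h := (X.fromSpecStalk (genericPoint X)).fromNormalization_app hV
    have h2 : algebraMap Γ(X, V) Γ((X.fromSpecStalk (genericPoint X)).normalization,
        (X.fromSpecStalk (genericPoint X)).fromNormalization ⁻¹ᵁ V) a =
        ((X.fromSpecStalk (genericPoint X)).normalizationObjIso hV).inv
          (algebraMap Γ(X, V) (integralClosure Γ(X, V)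
            Γ(Spec X.functionField, (X.fromSpecStalk (genericPoint X)) ⁻¹ᵁ V)) a) :=
      congr($(h) a)
    rw [h2]
    exact congr($(((X.fromSpecStalk (genericPoint X)).normalizationObjIso hV).inv_hom_id) _)
  exact Groth.Agent.Lib.NormDimOneH7.core Γ(X, V) hd
    Γ(Spec X.functionField, (X.fromSpecStalk (genericPoint X)) ⁻¹ᵁ V)
    Γ((X.fromSpecStalk (genericPoint X)).normalization,
        (X.fromSpecStalk (genericPoint X)).fromNormalization ⁻¹ᵁ V)
    (AlgEquiv.ofRingEquiv (f := e₁) hcomm)

end Groth.Agent.Lib.NormDimOne2H7
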