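import Mathlib
import Groth.Prelude.Def_Curv2
import Groth.Agent.Lib.DeltaSep5_helper3
import Groth.Agent.Lib.SchFT_helper8
import Groth.Agent.Lib.NormalBC_helper4
import Groth.Agent.Lib.StalkDict6_helper4
import Groth.Agent.Lib.StalkDict2_helper4
import Groth.Agent.Lib.NormDimOne2_helper7
import Groth.Agent.Lib.DeltaInvBC_helper3

/-!
# The δ-invariant and separable residue fields of the normalization: schemes (helper3)

For an integral scheme `X` locally of finite type over a field `k` and a point `x` with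
`dim 𝒪_{X,x} = 1` such that the residue fields of the points of the normalization over `x` are
separable over `k`: `X` is geometrically reduced at `x`, the normalization is geometrically regular
at the points over `x`, and the δ-invariant at `x` is invariant under base field extension.
APPEND-ONLY once landed.
-/

set_option autoImplicit false
set_option maxSynthPendingDepth 3
universe u

attribute [local instance] Curv2.stalkAlgebra

namespace Groth.Agent.Lib.DeltaSepH3

open AlgebraicGeometry CategoryTheory CategoryTheory.Limits IsLocalRing TensorProduct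

section Chart

variable {N X : Scheme.{u}} (f : N ⟶ X) {V : X.Opens} (hV : IsAffineOpen V)
  (hW : IsAffineOpen (f ⁻¹ᵁ V))

theorem primeIdealOf_fromSpec {Y : Scheme.{u}} {U : Y.Opens} (hU : IsAffineOpen U)
    (P : PrimeSpectrum Γ(Y, U)) (h : hU.fromSpec P ∈ U) :
    hU.primeIdealOf ⟨hU.fromSpec P, h⟩ = P := by
  apply hU.fromSpec.isOpenEmbedding.injective
  exact hU.fromSpec_primeIdealOf ⟨hU.fromSpec P, h⟩

theorem fromSpec_mem {Y : Scheme.{u}} {U : Y.Opens} (hU : IsAffineOpen U)
    (P : PrimeSpectrum Γ(Y, U)) : hU.fromSpec P ∈ U := by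
  have h1 : hU.fromSpec P ∈ Set.range hU.fromSpec := Set.mem_range_self P
  rw [hU.range_fromSpec] at h1
  exact h1

theorem primeIdealOf_injective {Y : Scheme.{u}} {U : Y.Opens} (hU : IsAffineOpen U)
    (y₁ y₂ : U) (h : hU.primeIdealOf y₁ = hU.primeIdealOf y₂) : (y₁ : Y) = y₂ := by
  rw [← hU.fromSpec_primeIdealOf y₁, ← hU.fromSpec_primeIdealOf y₂, h]

include hV hW in
/-- the fibre of `f` over `x` in an affine chart -/
theorem exists_fibreEquiv (x : X) (hx : x ∈ V) :
    ∃ β : {x' : N // f.base x' = x} ≃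
      {P : PrimeSpectrum Γ(N, f ⁻¹ᵁ V) //
        P.asIdeal.comap (f.appLE V (f ⁻¹ᵁ V) le_rfl).hom = (hV.primeIdealOf ⟨x, hx⟩).asIdeal},
      ∀ x' : {x' : N // f.base x' = x}, ∀ h : x'.1 ∈ f ⁻¹ᵁ V,
        (β x').1 = hW.primeIdealOf ⟨x'.1, h⟩ := by
  have hmem : ∀ x' : {x' : N // f.base x' = x}, x'.1 ∈ f ⁻¹ᵁ V := by
    intro x'
    show f.base x'.1 ∈ V
    rw [x'.2]
    exact hx
  have hcomap : ∀ (x' : N) (h : x' ∈ f ⁻¹ᵁ V),
      (hW.primeIdealOf ⟨x', h⟩).comap (f.appLE V (f ⁻¹ᵁ V) le_rfl).hom =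
        hV.primeIdealOf ⟨f.base x', h⟩ :=
    fun x' h => IsAffineOpen.comap_primeIdealOf_appLE V hV (f ⁻¹ᵁ V) hW le_rfl h
  have hcond : ∀ x' : {x' : N // f.base x' = x},
      (hW.primeIdealOf ⟨x'.1, hmem x'⟩).asIdeal.comap (f.appLE V (f ⁻¹ᵁ V) le_rfl).hom =
        (hV.primeIdealOf ⟨x, hx⟩).asIdeal := by
    rintro ⟨x', rfl⟩
    exact congrArg PrimeSpectrum.asIdeal (hcomap x' _)
  refine ⟨Equiv.ofBijective (fun x' => ⟨hW.primeIdealOf ⟨x'.1, hmem x'⟩, hcond x'⟩) ⟨?_, ?_⟩,
    fun x' h => rfl⟩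
  · intro x₁ x₂ h
    have h1 : hW.primeIdealOf ⟨x₁.1, hmem x₁⟩ = hW.primeIdealOf ⟨x₂.1, hmem x₂⟩ :=
      congrArg Subtype.val h
    exact Subtype.ext (primeIdealOf_injective hW _ _ h1)
  · rintro ⟨P, hP⟩
    have hP' : hW.fromSpec P ∈ f ⁻¹ᵁ V := fromSpec_mem hW P
    have h2 : hV.primeIdealOf ⟨f.base (hW.fromSpec P), hP'⟩ = hV.primeIdealOf ⟨x, hx⟩ := by
      rw [← hcomap _ hP', primeIdealOf_fromSpec hW P hP']
      exact PrimeSpectrum.ext hP
    have h3 : f.base (hW.fromSpec P) = x := primeIdealOf_injective hV ⟨_, hP'⟩ ⟨x, hx⟩ h2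
    refine ⟨⟨hW.fromSpec P, h3⟩, ?_⟩
    apply Subtype.ext
    exact primeIdealOf_fromSpec hW P _

end Chart

section Gen

variable (k : Type u) [Field k] (X : Scheme.{u}) [X.Over (Spec (CommRingCat.of k))]

theorem map_appLE_eq_appTop_map {N : Scheme.{u}} (f : N ⟶ X) (V : X.Opens) :
    X.presheaf.map (homOfLE (le_top : V ≤ ⊤)).op ≫ f.appLE V (f ⁻¹ᵁ V) le_rfl =
      f.appTop ≫ N.presheaf.map (homOfLE (le_top : f ⁻¹ᵁ V ≤ ⊤)).op := by
  rw [← Scheme.Hom.app_eq_appLE]
  exact f.naturality (homOfLE (le_top : V ≤ ⊤)).op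

/-- the structure maps of the sections of `N` over `k`, for `N ⟶ X ⟶ Spec k` -/
theorem appLE_secMap_of_comp {N : Scheme.{u}} (f : N ⟶ X) (V : X.Opens) (c : k) :
    letI : N.Over (Spec (CommRingCat.of k)) := ⟨f ≫ (X ↘ Spec (CommRingCat.of k))⟩
    (f.appLE V (f ⁻¹ᵁ V) le_rfl).hom (Groth.Agent.SchFTH8.secMap k X V c) =
      Groth.Agent.SchFTH8.secMap k N (f ⁻¹ᵁ V) c := by
  letI : N.Over (Spec (CommRingCat.of k)) := ⟨f ≫ (X ↘ Spec (CommRingCat.of k))⟩
  have h1 : (N ↘ Spec (CommRingCat.of k)) = f ≫ (X ↘ Spec (CommRingCat.of k)) := rfl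
  have h2 := map_appLE_eq_appTop_map X f V
  simp only [Groth.Agent.SchFTH8.secMap, Coh.toGlobal, RingHom.comp_apply]
  rw [h1, Scheme.Hom.comp_appTop]
  exact congr($h2 _)

theorem isScalarTower_stalk (V : X.Opens) (x : X) (hx : x ∈ V) :
    letI := Groth.Agent.SchFTH8.secAlgebra k X V
    letI := X.presheaf.algebra_section_stalk ⟨x, hx⟩
    IsScalarTower k Γ(X, V) (X.presheaf.stalk x) := by
  letI := Groth.Agent.SchFTH8.secAlgebra k X V
  letI := X.presheaf.algebra_section_stalk ⟨x, hx⟩
  refine IsScalarTower.of_algebraMap_eq (fun c => ?_)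
  show Curv2.stalkMap k X x c = (X.presheaf.germ V x hx).hom (Groth.Agent.SchFTH8.secMap k X V c)
  simp only [Curv2.stalkMap, Groth.Agent.SchFTH8.secMap, RingHom.comp_apply]
  exact (TopCat.Presheaf.germ_res_apply X.presheaf (homOfLE (le_top : V ≤ ⊤)) x hx _).symm

/-- transfer of separability from the residue field of the scheme to that of the local ring -/
theorem isGeometricallyReduced_residueField_stalk (x : X)
    (h : GeometricallyReduced (Spec.map (CommRingCat.ofHom (Curv2.resMap k X x)))) :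
    Algebra.IsGeometricallyReduced k (ResidueField (X.presheaf.stalk x)) := by
  letI := Curv2.resAlgebra k X x
  haveI : GeometricallyReduced (Spec.map (CommRingCat.ofHom (algebraMap k (X.residueField x)))) := h
  haveI := Groth.Agent.Lib.NormalBCH4.algGeomRed_of_sch k (X.residueField x)
  let f : ResidueField (X.presheaf.stalk x) →ₐ[k] X.residueField x :=
    { (RingHom.id (ResidueField (X.presheaf.stalk x)) :
        ResidueField (X.presheaf.stalk x) →+* X.residueField x) with
      commutes' := fun c => rfl }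
  exact Algebra.IsGeometricallyReduced.of_injective f (fun a b h => h)

end Gen

section Sch

variable (k : Type u) [Field k] (X : Scheme.{u}) [X.Over (Spec (CommRingCat.of k))] [IsIntegral X]
  [QuasiCompact (X.fromSpecStalk (genericPoint X))]
  [QuasiSeparated (X.fromSpecStalk (genericPoint X))]

/-- the structure of a `k`-scheme on the normalization -/
@[reducible] noncomputable def normOver :
    (Curv2.normalization X).Over (Spec (CommRingCat.of k)) :=
  ⟨Curv2.normalizationι X ≫ (X ↘ (Spec (CommRingCat.of k)))⟩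

instance isIntegralHom_normalizationι : IsIntegralHom (Curv2.normalizationι X) :=
  inferInstanceAs (IsIntegralHom (X.fromSpecStalk (genericPoint X)).fromNormalization)

/-- the chart of the normalization over an affine open -/
theorem exists_chartEquiv (V : X.Opens) (hV : IsAffineOpen V) :
    letI algK : Algebra Γ(X, V)
        Γ(Spec X.functionField, (X.fromSpecStalk (genericPoint X)) ⁻¹ᵁ V) :=
      ((X.fromSpecStalk (genericPoint X)).app V).hom.toAlgebra
    ∃ e : Γ(Curv2.normalization X, Curv2.normalizationι X ⁻¹ᵁ V) ≃+*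
        integralClosure Γ(X, V)
          Γ(Spec X.functionField, (X.fromSpecStalk (genericPoint X)) ⁻¹ᵁ V),
      ∀ a, e (((Curv2.normalizationι X).appLE V (Curv2.normalizationι X ⁻¹ᵁ V) le_rfl).hom a) =
        algebraMap _ _ a := by
  letI algK : Algebra Γ(X, V)
      Γ(Spec X.functionField, (X.fromSpecStalk (genericPoint X)) ⁻¹ᵁ V) :=
    ((X.fromSpecStalk (genericPoint X)).app V).hom.toAlgebra
  show ∃ e : Γ((X.fromSpecStalk (genericPoint X)).normalization,
      (X.fromSpecStalk (genericPoint X)).fromNormalization ⁻¹ᵁ V) ≃+*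
        integralClosure Γ(X, V)
          Γ(Spec X.functionField, (X.fromSpecStalk (genericPoint X)) ⁻¹ᵁ V),
      ∀ a, e (((X.fromSpecStalk (genericPoint X)).fromNormalization.appLE V
        ((X.fromSpecStalk (genericPoint X)).fromNormalization ⁻¹ᵁ V) le_rfl).hom a) =
        algebraMap _ _ a
  refine ⟨((X.fromSpecStalk (genericPoint X)).normalizationObjIso
    hV).commRingCatIsoToRingEquiv, ?_⟩
  intro a
  have h := (X.fromSpecStalk (genericPoint X)).fromNormalization_app hV
  rw [← Scheme.Hom.app_eq_appLE]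
  have h2 : ((X.fromSpecStalk (genericPoint X)).fromNormalization.app V).hom a =
      ((X.fromSpecStalk (genericPoint X)).normalizationObjIso hV).inv
        (algebraMap Γ(X, V) (integralClosure Γ(X, V)
          Γ(Spec X.functionField, (X.fromSpecStalk (genericPoint X)) ⁻¹ᵁ V)) a) :=
    congr($(h) a)
  rw [h2]
  exact congr($(((X.fromSpecStalk (genericPoint X)).normalizationObjIso hV).inv_hom_id) _)

variable [LocallyOfFiniteType (X ↘ (Spec (CommRingCat.of k)))]

/-- the ring-level facts at a point of dimension one -/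
theorem chart_facts (x : X) (hdim : ringKrullDim (X.presheaf.stalk x) = 1) :
    letI := normOver k X
    ((∀ x' : Curv2.normalization X, Curv2.normalizationι X x' = x →
        GeometricallyReduced (Spec.map (CommRingCat.ofHom
          (Curv2.resMap k (Curv2.normalization X) x')))) →
      SepRes k (X.presheaf.stalk x)) ∧
    (∀ x' : Curv2.normalization X, Curv2.normalizationι X x' = x →
      IsRegularLocalRing ((Curv2.normalization X).presheaf.stalk x')) := by
  letI := normOver k X
  haveI : IsLocallyNoetherian X :=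
    LocallyOfFiniteType.isLocallyNoetherian (X ↘ Spec (CommRingCat.of k))
  obtain ⟨_, ⟨V, hV, rfl⟩, hxV, -⟩ := X.isBasis_affineOpens.exists_subset_of_mem_open
    (Set.mem_univ x) isOpen_univ
  haveI : Nonempty V := ⟨⟨x, hxV⟩⟩
  have hW : IsAffineOpen (Curv2.normalizationι X ⁻¹ᵁ V) := hV.preimage (Curv2.normalizationι X)
  letI algK : Algebra Γ(X, V)
      Γ(Spec X.functionField, (X.fromSpecStalk (genericPoint X)) ⁻¹ᵁ V) :=
    ((X.fromSpecStalk (genericPoint X)).app V).hom.toAlgebra
  haveI := Groth.Agent.Lib.NormDimOne2H7.isFractionRing_app X V hV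
  obtain ⟨e, he⟩ := exists_chartEquiv X V hV
  letI := Groth.Agent.SchFTH8.secAlgebra k X V
  letI := X.presheaf.algebra_section_stalk ⟨x, hxV⟩
  haveI := hV.isLocalization_stalk ⟨x, hxV⟩
  haveI := isScalarTower_stalk k X V x hxV
  constructor
  · intro hsep
    refine sepRes_of_chart (hV.primeIdealOf ⟨x, hxV⟩).asIdeal
      ((Curv2.normalizationι X).appLE V (Curv2.normalizationι X ⁻¹ᵁ V) le_rfl).hom e he ?_
    intro P hPprime hP
    obtain ⟨β, hβ⟩ := exists_fibreEquiv (Curv2.normalizationι X)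
      hV hW x hxV
    obtain ⟨x'', hx''⟩ : ∃ x'' : {x' : Curv2.normalization X //
        (Curv2.normalizationι X).base x' = x}, β x'' = ⟨⟨P, hPprime⟩, hP⟩ :=
      ⟨β.symm ⟨⟨P, hPprime⟩, hP⟩, β.apply_symm_apply _⟩
    have hmem : x''.1 ∈ Curv2.normalizationι X ⁻¹ᵁ V := by
      show (Curv2.normalizationι X).base x''.1 ∈ V
      rw [x''.2]
      exact hxV
    have hPeq : (hW.primeIdealOf ⟨x''.1, hmem⟩).asIdeal = P := by
      rw [← hβ x'' hmem, hx'']
    have hF := isGeometricallyReduced_residueField_stalk k (Curv2.normalization X) x''.1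
      (hsep x''.1 x''.2)
    refine ⟨ResidueField ((Curv2.normalization X).presheaf.stalk x''.1), inferInstance,
      inferInstance, Groth.Agent.SchFTH8.toRes (Curv2.normalizationι X ⁻¹ᵁ V) x''.1 hmem, hF, ?_, ?_⟩
    · rw [← hPeq]
      exact Groth.Agent.SchFTH8.ker_toRes hW x''.1 hmem
    · intro c
      have h1 := appLE_secMap_of_comp k X (Curv2.normalizationι X) V c
      have h2 := congr($(Groth.Agent.SchFTH8.toRes_comp_secMap k
        (Curv2.normalizationι X ⁻¹ᵁ V) x''.1 hmem) c)
      show Groth.Agent.SchFTH8.toRes (Curv2.normalizationι X ⁻¹ᵁ V) x''.1 hmem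
        (((Curv2.normalizationι X).appLE V (Curv2.normalizationι X ⁻¹ᵁ V) le_rfl).hom
          (Groth.Agent.SchFTH8.secMap k X V c)) = _
      rw [h1]
      exact h2
  · intro x' hx'
    subst hx'
    have hmem : x' ∈ Curv2.normalizationι X ⁻¹ᵁ V := hxV
    have hP : (hW.primeIdealOf ⟨x', hmem⟩).asIdeal.comap
        ((Curv2.normalizationι X).appLE V (Curv2.normalizationι X ⁻¹ᵁ V) le_rfl).hom =
        (hV.primeIdealOf ⟨Curv2.normalizationι X x', hxV⟩).asIdeal :=
      congrArg PrimeSpectrum.asIdeal (IsAffineOpen.comap_primeIdealOf_appLE V hV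
        (Curv2.normalizationι X ⁻¹ᵁ V) hW le_rfl hmem)
    haveI := isRegularLocalRing_of_chart
      (A := X.presheaf.stalk (Curv2.normalizationι X x'))
      (hV.primeIdealOf ⟨Curv2.normalizationι X x', hxV⟩).asIdeal
      ((Curv2.normalizationι X).appLE V (Curv2.normalizationι X ⁻¹ᵁ V) le_rfl).hom e he hdim
      (hW.primeIdealOf ⟨x', hmem⟩).asIdeal hP
    letI := (Curv2.normalization X).presheaf.algebra_section_stalk ⟨x', hmem⟩
    haveI := hW.isLocalization_stalk ⟨x', hmem⟩
    exact IsRegularLocalRing.of_ringEquiv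
      (IsLocalization.algEquiv (hW.primeIdealOf ⟨x', hmem⟩).asIdeal.primeCompl
        (Localization.AtPrime (hW.primeIdealOf ⟨x', hmem⟩).asIdeal)
        ((Curv2.normalization X).presheaf.stalk x')).toRingEquiv

end Sch

end Groth.Agent.Lib.DeltaSepH3
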