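import Mathlib
import Groth.Prelude
import Groth.Agent.Lib.DeltaCok1_helper3
import Groth.Agent.Lib.DeltaSep6_helper3
import Groth.Agent.Lib.StalkLoc_helper8
import Groth.Agent.Lib.QCohCrit_helper9
import Groth.Agent.Lib.Tens8_helper8
import Groth.Agent.Lib.FibInjF_helper6
import Groth.Agent.Lib.ChevD_helper8
import Groth.Agent.Lib.Desc1_helper8
import Groth.Agent.Lib.NormFieldFT_helper4
import Groth.Agent.Lib.AnUnramNagata_helper3

/-!
# The cokernel of `𝒪_X → ν_* 𝒪_{X^ν}` for an integral scheme (helper3)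

* `length_stalk_cokernel` : for an integral scheme `X` with normalization `ν`, the stalk at any
  point `x` of the cokernel of `𝒪_X → ν_*𝒪` has length `δ(𝒪_{X,x})`.
* `main7689`.
APPEND-ONLY once landed.
-/

set_option autoImplicit false
set_option maxSynthPendingDepth 3
universe u

namespace Groth.Agent.Lib.DeltaSepH3

open CategoryTheory CategoryTheory.Limits AlgebraicGeometry TopologicalSpace Opposite

section Cok

variable (X : Scheme.{u}) [IsIntegral X]
  [QuasiCompact (X.fromSpecStalk (genericPoint X))]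
  [QuasiSeparated (X.fromSpecStalk (genericPoint X))]

/-- `ν_* 𝒪_{X^ν}` -/
noncomputable abbrev pushO : X.Modules :=
  (Scheme.Modules.pushforward (Curv2.normalizationι X)).obj
    (Coh.structureModule (Curv2.normalization X))

instance isQuasicoherent_pushO : (pushO X).IsQuasicoherent := by
  haveI : (Coh.structureModule (Curv2.normalization X)).IsQuasicoherent :=
    TensH8.isQuasicoherent_structureModule
  exact QCohCrit.isQuasicoherent_pushforward _ _

theorem stalkMap_unit_germ (x : X) {V : X.Opens} (hxV : x ∈ V) (t : Γ(X, V)) :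
    Algz.stalkMapₗ (ClSub.unitToPush (Curv2.normalizationι X)) x
        ((Coh.structureModule X).presheaf.germ V x hxV t) =
      (X.presheaf.germ V x hxV).hom t • (pushO X).presheaf.germ V x hxV
        (1 : Γ(Curv2.normalization X, Curv2.normalizationι X ⁻¹ᵁ V)) := by
  rw [ChevDH8.stalkMapₗ_germ]
  have h1 : QCohExtn.ap (ClSub.unitToPush (Curv2.normalizationι X)) V t =
      (t • (show Γ(pushO X, V) from
        (1 : Γ(Curv2.normalization X, Curv2.normalizationι X ⁻¹ᵁ V))) : Γ(pushO X, V)) := by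
    show ((Curv2.normalizationι X).app V).hom t = ((Curv2.normalizationι X).app V).hom t * 1
    rw [mul_one]
  rw [h1]
  exact Groth.Agent.Lib.QCohLoc_helper4.germ_smul (pushO X) V x hxV t _

theorem range_stalkMap_unit (x : X) {V : X.Opens} (hV : IsAffineOpen V) (hxV : x ∈ V) :
    LinearMap.range (Algz.stalkMapₗ (ClSub.unitToPush (Curv2.normalizationι X)) x) =
      Submodule.span (X.presheaf.stalk x) {(pushO X).presheaf.germ V x hxV
        (1 : Γ(Curv2.normalization X, Curv2.normalizationι X ⁻¹ᵁ V))} := by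
  haveI : (Coh.structureModule X).IsQuasicoherent := TensH8.isQuasicoherent_structureModule
  letI := StalkLocH8.modSec (Coh.structureModule X) hxV
  haveI := StalkLocH8.isLocalizedModule_germLin (Coh.structureModule X) hV hxV
  letI := X.presheaf.algebra_section_stalk ⟨x, hxV⟩
  haveI := hV.isLocalization_stalk ⟨x, hxV⟩
  apply le_antisymm
  · rintro _ ⟨m, rfl⟩
    obtain ⟨⟨t, s⟩, hts⟩ := IsLocalizedModule.surj (hV.primeIdealOf ⟨x, hxV⟩).asIdeal.primeCompl
      (StalkLocH8.germLin (Coh.structureModule X) hxV) m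
    have hts' : (X.presheaf.germ V x hxV).hom s.1 • m =
        (Coh.structureModule X).presheaf.germ V x hxV t := hts
    obtain ⟨v, hv⟩ : IsUnit ((X.presheaf.germ V x hxV).hom s.1) :=
      IsLocalization.map_units (X.presheaf.stalk x) s
    have h2 : (X.presheaf.germ V x hxV).hom s.1 •
        Algz.stalkMapₗ (ClSub.unitToPush (Curv2.normalizationι X)) x m =
        (X.presheaf.germ V x hxV).hom t • (pushO X).presheaf.germ V x hxV
          (1 : Γ(Curv2.normalization X, Curv2.normalizationι X ⁻¹ᵁ V)) := by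
      rw [← map_smul, hts', stalkMap_unit_germ]
    have h3 : Algz.stalkMapₗ (ClSub.unitToPush (Curv2.normalizationι X)) x m =
        ((↑v⁻¹ : X.presheaf.stalk x) * (X.presheaf.germ V x hxV).hom t) •
          (pushO X).presheaf.germ V x hxV
            (1 : Γ(Curv2.normalization X, Curv2.normalizationι X ⁻¹ᵁ V)) := by
      rw [mul_smul, ← h2, ← hv, smul_smul, Units.inv_mul, one_smul]
    rw [h3]
    exact Submodule.smul_mem _ _ (Submodule.subset_span rfl)
  · rw [Submodule.span_le, Set.singleton_subset_iff]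
    refine ⟨(Coh.structureModule X).presheaf.germ V x hxV (1 : Γ(X, V)), ?_⟩
    rw [stalkMap_unit_germ, map_one, one_smul]

/-- the stalk of the cokernel of `𝒪_X → ν_*𝒪` has length `δ` -/
theorem length_stalk_cokernel (x : X) :
    Module.length (X.presheaf.stalk x)
      ((cokernel (ClSub.unitToPush (Curv2.normalizationι X))).presheaf.stalk x) =
      Curv2.deltaInv (X.presheaf.stalk x) := by
  obtain ⟨hex, hsurj⟩ := Groth.Agent.Lib.FibInjH6.exact_stalk_cokernel
    (ClSub.unitToPush (Curv2.normalizationι X)) x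
  rw [← (hex.linearEquivOfSurjective hsurj).length_eq]
  obtain ⟨_, ⟨V, hV, rfl⟩, hxV, -⟩ := X.isBasis_affineOpens.exists_subset_of_mem_open
    (Set.mem_univ x) isOpen_univ
  haveI : Nonempty V := ⟨⟨x, hxV⟩⟩
  letI algK : Algebra Γ(X, V)
      Γ(Spec X.functionField, (X.fromSpecStalk (genericPoint X)) ⁻¹ᵁ V) :=
    ((X.fromSpecStalk (genericPoint X)).app V).hom.toAlgebra
  haveI := Groth.Agent.Lib.NormDimOne2H7.isFractionRing_app X V hV
  obtain ⟨e, he⟩ := exists_chartEquiv X V hV
  letI := X.presheaf.algebra_section_stalk ⟨x, hxV⟩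
  haveI := hV.isLocalization_stalk ⟨x, hxV⟩
  letI := StalkLocH8.modSec (pushO X) hxV
  haveI hloc := StalkLocH8.isLocalizedModule_germLin (pushO X) hV hxV
  haveI : IsScalarTower Γ(X, V) (X.presheaf.stalk x) ((pushO X).presheaf.stalk x) :=
    IsScalarTower.of_algebraMap_smul (fun _ _ => rfl)
  obtain ⟨g, hg⟩ : ∃ g : Γ(Curv2.normalization X, Curv2.normalizationι X ⁻¹ᵁ V) →+
      (pushO X).presheaf.stalk x, ∀ s, g s = (pushO X).presheaf.germ V x hxV s :=
    ⟨(StalkLocH8.germLin (pushO X) hxV).toAddMonoidHom, fun s => rfl⟩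
  have happ : ∀ (a : Γ(X, V)) (s : Γ(Curv2.normalization X, Curv2.normalizationι X ⁻¹ᵁ V)),
      ((Curv2.normalizationι X).appLE V (Curv2.normalizationι X ⁻¹ᵁ V) le_rfl).hom a * s =
        (a • (show Γ(pushO X, V) from s) : Γ(pushO X, V)) := by
    intro a s
    rw [← Scheme.Hom.app_eq_appLE]
    rfl
  refine length_quot_eq_deltaInv'
    (L := Γ(Spec X.functionField, (X.fromSpecStalk (genericPoint X)) ⁻¹ᵁ V))
    (hV.primeIdealOf ⟨x, hxV⟩).asIdeal
    ((Curv2.normalizationι X).appLE V (Curv2.normalizationι X ⁻¹ᵁ V) le_rfl).hom e he g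
    ?_ ?_ ?_ (Algz.stalkMapₗ (ClSub.unitToPush (Curv2.normalizationι X)) x) ?_
  · intro a s
    rw [hg, hg, happ]
    exact Groth.Agent.Lib.QCohLoc_helper4.germ_smul (pushO X) V x hxV a _
  · intro y
    obtain ⟨⟨s, c⟩, hsc⟩ := IsLocalizedModule.surj (hV.primeIdealOf ⟨x, hxV⟩).asIdeal.primeCompl
      (StalkLocH8.germLin (pushO X) hxV) y
    exact ⟨s, c.1, c.2, by rw [hg]; exact hsc⟩
  · intro s₁ s₂ h
    rw [hg, hg] at h
    obtain ⟨c, hc⟩ := IsLocalizedModule.exists_of_eq
      (S := (hV.primeIdealOf ⟨x, hxV⟩).asIdeal.primeCompl)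
      (f := StalkLocH8.germLin (pushO X) hxV) h
    refine ⟨c.1, c.2, ?_⟩
    rw [happ, happ]
    exact hc
  · rw [hg]
    exact range_stalkMap_unit X x hV hxV

end Cok

end Groth.Agent.Lib.DeltaSepH3
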