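import Mathlib
import Groth.Prelude
import Groth.Agent.Lib.DeltaCok2_helper3

/-!
# Normalization of an integral Nagata curve: finiteness, birationality, the cokernel and δ (helper3)

`main7689`.
APPEND-ONLY once landed.
-/

set_option autoImplicit false
set_option maxSynthPendingDepth 3
universe u

namespace Groth.Agent.Lib.DeltaSepH3

open CategoryTheory CategoryTheory.Limits AlgebraicGeometry TopologicalSpace Opposite

section Main

variable (X : Scheme.{u}) [IsIntegral X]
  [QuasiCompact (X.fromSpecStalk (genericPoint X))]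
  [QuasiSeparated (X.fromSpecStalk (genericPoint X))]

theorem surjective_normalizationι : Surjective (Curv2.normalizationι X) := by
  haveI : IsDominant (X.fromSpecStalk (genericPoint X)) :=
    Groth.Agent.Lib.OverFieldH7.isDominant_fromSpecStalk_genericPoint X
  have hL : IsField (X.presheaf.stalk (genericPoint X)) := Field.toIsField X.functionField
  obtain ⟨-, -, hsurj, -⟩ := Groth.Agent.Lib.NormalizationBiratH7.normalization_of_field_mono
    (X.presheaf.stalk (genericPoint X)) hL (X.fromSpecStalk (genericPoint X))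
  exact hsurj

theorem mono_unitToPush : Mono (ClSub.unitToPush (Curv2.normalizationι X)) := by
  haveI := surjective_normalizationι X
  apply DescH8.mono_of_app_injective
  intro U
  have hinj : Function.Injective (((Curv2.normalizationι X).app U).hom :
      Γ(X, U) → Γ(Curv2.normalization X, Curv2.normalizationι X ⁻¹ᵁ U)) := by
    rw [injective_iff_map_eq_zero]
    intro s hs
    have h1 : X.basicOpen s = ⊥ := by
      rw [eq_bot_iff]
      intro y hy
      obtain ⟨z, rfl⟩ := (Curv2.normalizationι X).surjective y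
      have h2 : z ∈ (Curv2.normalizationι X) ⁻¹ᵁ X.basicOpen s := hy
      rw [Scheme.preimage_basicOpen] at h2
      have h3 : ((Curv2.normalizationι X).app U) s = 0 := hs
      rw [h3, Scheme.basicOpen_zero] at h2
      exact h2.elim
    exact (basicOpen_eq_bot_iff s).mp h1
  exact fun a b hab => hinj hab

theorem eq_genericPoint_of_not_isClosed (hdim : topologicalKrullDim X = 1) (x : X)
    (hx : ¬ IsClosed ({x} : Set X)) : x = genericPoint X := by
  by_contra hne
  have h1 : ∃ y ∈ closure ({x} : Set X), y ≠ x := by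
    by_contra hcon
    push_neg at hcon
    apply hx
    have h2 : closure ({x} : Set X) = {x} :=
      Set.eq_singleton_iff_unique_mem.mpr ⟨subset_closure rfl, hcon⟩
    rw [← h2]
    exact isClosed_closure
  obtain ⟨y, hy, hyx⟩ := h1
  obtain ⟨Z₀, hZ₀⟩ : ∃ Z : IrreducibleCloseds X, (Z : Set X) = closure {y} :=
    ⟨⟨closure {y}, isIrreducible_singleton.closure, isClosed_closure⟩, rfl⟩
  obtain ⟨Z₁, hZ₁⟩ : ∃ Z : IrreducibleCloseds X, (Z : Set X) = closure {x} :=
    ⟨⟨closure {x}, isIrreducible_singleton.closure, isClosed_closure⟩, rfl⟩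
  obtain ⟨Z₂, hZ₂⟩ : ∃ Z : IrreducibleCloseds X, (Z : Set X) = Set.univ :=
    ⟨⟨Set.univ, IrreducibleSpace.isIrreducible_univ X, isClosed_univ⟩, rfl⟩
  have h01 : Z₀ < Z₁ := by
    refine lt_of_le_of_ne ?_ ?_
    · rw [← SetLike.coe_subset_coe, hZ₀, hZ₁]
      exact closure_minimal (Set.singleton_subset_iff.mpr hy) isClosed_closure
    · intro h
      have h3 : closure ({y} : Set X) = closure {x} := by rw [← hZ₀, ← hZ₁, h]
      have hxy : x ⤳ y := specializes_iff_mem_closure.mpr hy
      have hyx' : y ⤳ x := specializes_iff_mem_closure.mpr (h3 ▸ subset_closure rfl)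
      exact hyx (hyx'.antisymm hxy).eq
  have h12 : Z₁ < Z₂ := by
    refine lt_of_le_of_ne ?_ ?_
    · rw [← SetLike.coe_subset_coe, hZ₂]
      exact Set.subset_univ _
    · intro h
      have h3 : closure ({x} : Set X) = Set.univ := by rw [← hZ₁, ← hZ₂, h]
      have hg : IsGenericPoint x (⊤ : Set X) := isGenericPoint_def.mpr h3
      exact hne (hg.eq (genericPoint_spec X))
  have h4 : Order.height Z₀ + 1 ≤ Order.height Z₁ := Order.height_add_one_le h01
  have h5 : Order.height Z₁ + 1 ≤ Order.height Z₂ := Order.height_add_one_le h12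
  have h6 : (Order.height Z₂ : WithBot ℕ∞) ≤ 1 := by
    have h7 := Order.height_le_krullDim Z₂
    have h8 : topologicalKrullDim X = Order.krullDim (IrreducibleCloseds X) := rfl
    rw [← h8, hdim] at h7
    exact h7
  have h7 : Order.height Z₂ ≤ 1 := by exact_mod_cast h6
  have h8 : (1 : ℕ∞) + 1 ≤ Order.height Z₂ :=
    le_trans (add_le_add_left (le_trans (by simp) h4) 1) h5
  have h9 : (1 : ℕ∞) + 1 ≤ 1 := le_trans h8 h7
  exact absurd h9 (by norm_num)

theorem main7689
    (hN : ∀ U : X.affineOpens, CAlg.IsNagata Γ(X, (U : X.Opens)))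
    (hdim : topologicalKrullDim X = 1) :
    IsFinite (Curv2.normalizationι X) ∧
      (∃ U : X.Opens, Dense ((U : Set X)) ∧ IsIso (Curv2.normalizationι X ∣_ U)) ∧
      Mono (ClSub.unitToPush (Curv2.normalizationι X)) ∧
      (∀ x : X, IsClosed ({x} : Set X) →
        Module.length (X.presheaf.stalk x)
          ((cokernel (ClSub.unitToPush (Curv2.normalizationι X))).presheaf.stalk x) =
          Curv2.deltaInv (X.presheaf.stalk x)) ∧
      (∀ x : X, ¬ IsClosed ({x} : Set X) →
        Subsingleton ((cokernel (ClSub.unitToPush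
          (Curv2.normalizationι X))).presheaf.stalk x)) := by
  have hN2 : ∀ (U : X.Opens), IsAffineOpen U → ∀ (hne : Nonempty ↥U),
      @CAlg.IsN2 ↑Γ(X, U) _ (@IsIntegral.component_integral X _ U hne) := by
    intro U hU hne
    letI : IsDomain Γ(X, U) := @IsIntegral.component_integral X _ U hne
    exact Groth.Agent.Lib.AnUnramNagataH3.isN2_of_isNagata_domain _ (hN ⟨U, hU⟩)
  have hfin : IsFinite (Curv2.normalizationι X) :=
    Groth.Agent.Lib.NormJapaneseH4.main9688 X hN2
  refine ⟨hfin, ?_, mono_unitToPush X, fun x _ => length_stalk_cokernel X x, fun x hx => ?_⟩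
  · haveI : IsDominant (X.fromSpecStalk (genericPoint X)) :=
      Groth.Agent.Lib.OverFieldH7.isDominant_fromSpecStalk_genericPoint X
    have hL : IsField (X.presheaf.stalk (genericPoint X)) := Field.toIsField X.functionField
    obtain ⟨hInt, hnorm, hgen, hiso, -⟩ :=
      Groth.Agent.Lib.NormalizationBirat2H7.normalization_birational
        (X.presheaf.stalk (genericPoint X)) hL (X.fromSpecStalk (genericPoint X))
    haveI := hInt
    obtain ⟨U, hU, hηU, -⟩ :=
      exists_isAffineOpen_mem_and_subset (X := X) (x := genericPoint X) (U := ⊤) trivial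
    have hne : Nonempty ((U : X.Opens) : Scheme.{u}) := ⟨⟨genericPoint X, hηU⟩⟩
    obtain ⟨V, hVne, hV⟩ := Groth.Agent.Lib.NormFieldFTH4.exists_open_normal X U hU hne
      (hN2 U hU hne)
    have hVI : IsIso ((X.fromSpecStalk (genericPoint X)).fromNormalization ∣_ V) :=
      Groth.Agent.Lib.NormalizationChar2H7.isIso_morphismRestrict_of_normal
        (X.fromSpecStalk (genericPoint X)).fromNormalization hgen hiso V hVne hV
    exact ⟨V, V.2.dense hVne, hVI⟩
  · have hxg := eq_genericPoint_of_not_isClosed X hdim x hx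
    have hF : IsField (X.presheaf.stalk x) := by
      rw [hxg]
      exact Field.toIsField X.functionField
    have h1 := length_stalk_cokernel X x
    rw [deltaInv_of_isField _ hF] at h1
    exact Module.length_eq_zero_iff.mp h1

end Main

end Groth.Agent.Lib.DeltaSepH3
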