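import Mathlib
import Groth.Prelude.Def_EGA4b
import Groth.Prelude.Def_PBC
import Groth.Agent.Lib.IAdicRegular_helper3
import Groth.Agent.Lib.NormalSmoothBC_helper3
import Groth.Agent.Lib.HensGRing_helper3
import Groth.Agent.Lib.FFTransfer_helper3
import Groth.Agent.Lib.GeomNormal2_helper3
import Groth.Agent.Lib.GeomNormal_helper3

/-!
# Normality of `A' ⊗ B` for the δ-invariant comparison (helper3)
-/

set_option autoImplicit false
set_option maxSynthPendingDepth 3
universe u

namespace Groth.Agent.Lib.DeltaInvH3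

open IsLocalRing TensorProduct

section LemmaD

variable (R : Type u) [CommRing R] [IsLocalRing R] [IsNoetherianRing R]

/-- a Noetherian local ring whose maximal ideal is generated by a nonzerodivisor is a domain -/
theorem isDomain_of_maximalIdeal_eq_span (π : R) (hπ : maximalIdeal R = Ideal.span {π})
    (hreg : π ∈ nonZeroDivisors R) : IsDomain R := by
  have hkrull : ⨅ i : ℕ, maximalIdeal R ^ i = ⊥ :=
    Ideal.iInf_pow_eq_bot_of_isLocalRing _ (Ideal.IsPrime.ne_top inferInstance)
  have hpow : ∀ k : ℕ, maximalIdeal R ^ k = Ideal.span {π ^ k} := fun k => by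
    rw [hπ, Ideal.span_singleton_pow]
  have hπk : ∀ k : ℕ, π ^ k ∈ nonZeroDivisors R := fun k => pow_mem hreg k
  have key : ∀ x : R, x ≠ 0 → ∃ (k : ℕ) (u : R), IsUnit u ∧ x = u * π ^ k := by
    intro x hx
    have h1 : ∃ k : ℕ, x ∉ maximalIdeal R ^ k := by
      by_contra hcon
      push_neg at hcon
      have h2 : x ∈ ⨅ i : ℕ, maximalIdeal R ^ i := by
        rw [Submodule.mem_iInf]; exact hcon
      rw [hkrull] at h2
      exact hx ((Submodule.mem_bot R).mp h2)
    classical
    obtain ⟨k, hk, hmin⟩ : ∃ k : ℕ, x ∉ maximalIdeal R ^ k ∧ ∀ j < k, x ∈ maximalIdeal R ^ j :=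
      ⟨Nat.find h1, Nat.find_spec h1, fun j hj => by
        by_contra hcon
        exact absurd (Nat.find_min' h1 hcon) (not_le.mpr hj)⟩
    have hk0 : k ≠ 0 := by
      intro h0
      rw [h0, pow_zero, Ideal.one_eq_top] at hk
      exact hk Submodule.mem_top
    obtain ⟨j, hj⟩ := Nat.exists_eq_succ_of_ne_zero hk0
    have hjmem : x ∈ maximalIdeal R ^ j := hmin j (by omega)
    rw [hpow, Ideal.mem_span_singleton'] at hjmem
    obtain ⟨u, hu⟩ := hjmem
    refine ⟨j, u, ?_, hu.symm⟩
    by_contra hnu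
    have humem : u ∈ maximalIdeal R := (IsLocalRing.mem_maximalIdeal u).mpr hnu
    rw [hπ, Ideal.mem_span_singleton'] at humem
    obtain ⟨v, hv⟩ := humem
    apply hk
    rw [hj, hpow, Ideal.mem_span_singleton']
    exact ⟨v, by rw [← hu, ← hv, pow_succ]; ring⟩
  haveI : NoZeroDivisors R := by
    refine ⟨fun {x y} hxy => ?_⟩
    by_contra hcon
    push_neg at hcon
    obtain ⟨a, u, hu, hxu⟩ := key x hcon.1
    obtain ⟨b, v, hv, hyv⟩ := key y hcon.2
    have h1 : (u * v) * π ^ (a + b) = 0 := by
      rw [← hxy, hxu, hyv, pow_add]; ring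
    have h2 : π ^ (a + b) = 0 := ((hu.mul hv).mul_right_eq_zero).mp h1
    exact nonZeroDivisors.ne_zero (hπk (a + b)) h2
  exact NoZeroDivisors.to_isDomain R

theorem isIntegrallyClosed_of_maximalIdeal_eq_span [IsDomain R] (π : R)
    (hπ : maximalIdeal R = Ideal.span {π}) : IsIntegrallyClosed R := by
  have hprinc : (maximalIdeal R).IsPrincipal := ⟨⟨π, hπ⟩⟩
  have h := (tfae_of_isNoetherianRing_of_isLocalRing_of_isDomain R).out 4 3
  exact (h.mp hprinc).1

end LemmaD

section ResidueSurj

variable (A : Type u) [CommRing A] [IsLocalRing A]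
  (B : Type u) [CommRing B] [IsLocalRing B] [Algebra A B]
  [IsLocalHom (algebraMap A B)]
  (A' : Type u) [CommRing A'] [Algebra A A'] [Module.Finite A A']

/-- maximal ideals of `A' ⊗ B` lie over the maximal ideal of `B` -/
theorem comap_includeRight_eq (N : Ideal (A' ⊗[A] B)) [N.IsMaximal] :
    N.comap (Algebra.TensorProduct.includeRight : B →ₐ[A] A' ⊗[A] B).toRingHom =
      maximalIdeal B := by
  obtain ⟨c, hc'⟩ : ∃ c : (B ⊗[A] A') ≃ₐ[A] (A' ⊗[A] B), c = Algebra.TensorProduct.comm A B A' :=
    ⟨_, rfl⟩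
  have hc : (Algebra.TensorProduct.includeRight : B →ₐ[A] A' ⊗[A] B).toRingHom =
      (c.toRingEquiv.toRingHom).comp (algebraMap B (B ⊗[A] A')) := by
    refine RingHom.ext fun b => ?_
    show (1 : A') ⊗ₜ[A] b = c (b ⊗ₜ[A] (1 : A'))
    rw [hc', Algebra.TensorProduct.comm_tmul]
  rw [hc, ← Ideal.comap_comap]
  haveI h1 : (N.comap c.toRingEquiv.toRingHom).IsMaximal :=
    Ideal.comap_isMaximal_of_surjective _ c.toRingEquiv.surjective
  haveI h2 : ((N.comap c.toRingEquiv.toRingHom).comap (algebraMap B (B ⊗[A] A'))).IsMaximal :=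
    Ideal.isMaximal_comap_of_isIntegral_of_isMaximal _
  exact IsLocalRing.eq_maximalIdeal h2

theorem algebraMap_mem_comap_of_mem_maximalIdeal (N : Ideal (A' ⊗[A] B)) [N.IsMaximal] (a : A)
    (ha : a ∈ maximalIdeal A) :
    algebraMap A A' a ∈ N.comap (algebraMap A' (A' ⊗[A] B)) := by
  rw [Ideal.mem_comap]
  have h1 : algebraMap A' (A' ⊗[A] B) (algebraMap A A' a) =
      (Algebra.TensorProduct.includeRight : B →ₐ[A] A' ⊗[A] B).toRingHom (algebraMap A B a) := by
    show (algebraMap A A' a) ⊗ₜ[A] (1 : B) = (1 : A') ⊗ₜ[A] (algebraMap A B a)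
    rw [Algebra.algebraMap_eq_smul_one, Algebra.algebraMap_eq_smul_one, TensorProduct.smul_tmul]
  rw [h1, ← Ideal.mem_comap, comap_includeRight_eq]
  have h2 := ((local_hom_TFAE (algebraMap A B)).out 0 2).mp
    (inferInstance : IsLocalHom (algebraMap A B))
  exact h2 (Ideal.mem_map_of_mem _ ha)

/-- the contraction of a maximal ideal of `A' ⊗ B` to `A'` is maximal -/
theorem isMaximal_comap_algebraMap (N : Ideal (A' ⊗[A] B)) [N.IsMaximal] :
    (N.comap (algebraMap A' (A' ⊗[A] B))).IsMaximal := by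
  haveI : N.IsPrime := Ideal.IsMaximal.isPrime inferInstance
  haveI : (N.comap (algebraMap A' (A' ⊗[A] B))).IsPrime := inferInstance
  apply Ideal.isMaximal_of_isIntegral_of_isMaximal_comap (R := A)
  have hle : maximalIdeal A ≤ (N.comap (algebraMap A' (A' ⊗[A] B))).comap (algebraMap A A') :=
    fun a ha => algebraMap_mem_comap_of_mem_maximalIdeal A B A' N a ha
  have hne : (N.comap (algebraMap A' (A' ⊗[A] B))).comap (algebraMap A A') ≠ ⊤ :=
    Ideal.comap_ne_top _ (Ideal.IsPrime.ne_top inferInstance)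
  have := (maximalIdeal.isMaximal A).eq_of_le hne hle
  rw [← this]
  exact maximalIdeal.isMaximal A

/-- when `A → B ⧸ 𝔪_A B` is surjective, every maximal ideal of `A' ⊗ B` is extended from `A'` -/
theorem eq_map_comap
    (hsurj : ∀ b : B, ∃ a : A, b - algebraMap A B a ∈ (maximalIdeal A).map (algebraMap A B))
    (N : Ideal (A' ⊗[A] B)) [N.IsMaximal] :
    N = (N.comap (algebraMap A' (A' ⊗[A] B))).map (algebraMap A' (A' ⊗[A] B)) := by
  obtain ⟨n, hn⟩ : ∃ n : Ideal A', n = N.comap (algebraMap A' (A' ⊗[A] B)) := ⟨_, rfl⟩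
  rw [← hn]
  obtain ⟨J, hJ⟩ : ∃ J : Ideal (A' ⊗[A] B), J = n.map (algebraMap A' (A' ⊗[A] B)) := ⟨_, rfl⟩
  rw [← hJ]
  have hJN : J ≤ N := by rw [hJ, hn]; exact Ideal.map_comap_le
  have hP : ∀ m ∈ (maximalIdeal A).map (algebraMap A B), ∀ x : A', x ⊗ₜ[A] m ∈ J := by
    intro m hm
    refine Submodule.span_induction (p := fun m _ => ∀ x : A', x ⊗ₜ[A] m ∈ J) ?_ ?_ ?_ ?_ hm
    · rintro _ ⟨a₀, ha₀, rfl⟩ x
      have h1 : x ⊗ₜ[A] (algebraMap A B a₀) =
          algebraMap A' (A' ⊗[A] B) (algebraMap A A' a₀ * x) := by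
        show _ = (algebraMap A A' a₀ * x) ⊗ₜ[A] (1 : B)
        rw [Algebra.algebraMap_eq_smul_one (A := B), Algebra.algebraMap_eq_smul_one (A := A'),
          TensorProduct.tmul_smul, smul_mul_assoc, one_mul, TensorProduct.smul_tmul']
      rw [h1, hJ]
      apply Ideal.mem_map_of_mem
      rw [hn]
      exact Ideal.mul_mem_right _ _ (algebraMap_mem_comap_of_mem_maximalIdeal A B A' N a₀ ha₀)
    · intro x
      rw [TensorProduct.tmul_zero]
      exact J.zero_mem
    · intro m₁ m₂ _ _ h₁ h₂ x
      rw [TensorProduct.tmul_add]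
      exact J.add_mem (h₁ x) (h₂ x)
    · intro b' m _ h x
      have h1 : x ⊗ₜ[A] (b' • m) = ((1 : A') ⊗ₜ[A] b') * (x ⊗ₜ[A] m) := by
        rw [Algebra.TensorProduct.tmul_mul_tmul, one_mul, smul_eq_mul]
      rw [h1]
      exact J.mul_mem_left _ (h x)
  have hrep : ∀ t : A' ⊗[A] B, ∃ a' : A', t - algebraMap A' (A' ⊗[A] B) a' ∈ J := by
    intro t
    induction t using TensorProduct.induction_on with
    | zero => exact ⟨0, by rw [map_zero, sub_zero]; exact J.zero_mem⟩
    | tmul x b =>
      obtain ⟨a, ha⟩ := hsurj b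
      refine ⟨algebraMap A A' a * x, ?_⟩
      have h1 : x ⊗ₜ[A] b - algebraMap A' (A' ⊗[A] B) (algebraMap A A' a * x) =
          x ⊗ₜ[A] (b - algebraMap A B a) := by
        show x ⊗ₜ[A] b - (algebraMap A A' a * x) ⊗ₜ[A] (1 : B) = _
        rw [TensorProduct.tmul_sub, Algebra.algebraMap_eq_smul_one (A := B),
          Algebra.algebraMap_eq_smul_one (A := A'), TensorProduct.tmul_smul, smul_mul_assoc,
          one_mul, TensorProduct.smul_tmul']
      rw [h1]
      exact hP _ ha x
    | add t₁ t₂ h₁ h₂ =>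
      obtain ⟨a₁, h₁⟩ := h₁
      obtain ⟨a₂, h₂⟩ := h₂
      refine ⟨a₁ + a₂, ?_⟩
      have : t₁ + t₂ - algebraMap A' (A' ⊗[A] B) (a₁ + a₂) =
          (t₁ - algebraMap A' (A' ⊗[A] B) a₁) + (t₂ - algebraMap A' (A' ⊗[A] B) a₂) := by
        rw [map_add]; ring
      rw [this]
      exact J.add_mem h₁ h₂
  apply le_antisymm _ hJN
  intro t ht
  obtain ⟨a', ha'⟩ := hrep t
  have h1 : algebraMap A' (A' ⊗[A] B) a' ∈ N := by
    have := N.sub_mem ht (hJN ha')
    rwa [sub_sub_cancel] at this
  have h2 : a' ∈ n := by rw [hn]; exact h1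
  have h3 : algebraMap A' (A' ⊗[A] B) a' ∈ J := by rw [hJ]; exact Ideal.mem_map_of_mem _ h2
  have := J.add_mem ha' h3
  rwa [sub_add_cancel] at this

end ResidueSurj

section Loc

variable (A : Type u) [CommRing A] [IsLocalRing A] [IsNoetherianRing A]
  (B : Type u) [CommRing B] [IsLocalRing B] [IsNoetherianRing B] [Algebra A B]
  [IsLocalHom (algebraMap A B)] [Module.Flat A B]
  (A' : Type u) [CommRing A'] [Algebra A A'] [Module.Finite A A']

theorem isNoetherianRing_tensor : IsNoetherianRing (A' ⊗[A] B) := by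
  haveI : IsNoetherianRing (B ⊗[A] A') := IsNoetherianRing.of_finite B _
  exact isNoetherianRing_of_ringEquiv _ (Algebra.TensorProduct.comm A B A').toRingEquiv

theorem localization_facts
    (hsurj : ∀ b : B, ∃ a : A, b - algebraMap A B a ∈ (maximalIdeal A).map (algebraMap A B))
    (hdvr : ∀ (n : Ideal A') [n.IsMaximal], ∃ _ : IsDomain (Localization.AtPrime n),
      IsDiscreteValuationRing (Localization.AtPrime n))
    (N : Ideal (A' ⊗[A] B)) [N.IsMaximal] :
    IsDomain (Localization.AtPrime N) ∧ IsIntegrallyClosed (Localization.AtPrime N) := by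
  haveI hNp : N.IsPrime := Ideal.IsMaximal.isPrime inferInstance
  obtain ⟨n, hn⟩ : ∃ n : Ideal A', n = N.comap (algebraMap A' (A' ⊗[A] B)) := ⟨_, rfl⟩
  haveI hnmax : n.IsMaximal := by rw [hn]; exact isMaximal_comap_algebraMap A B A' N
  haveI hnp : n.IsPrime := hnmax.isPrime
  have hN : N = n.map (algebraMap A' (A' ⊗[A] B)) := by
    rw [hn]; exact eq_map_comap A B A' hsurj N
  obtain ⟨hdom, hd⟩ := hdvr n
  haveI := hdom
  haveI := hd
  obtain ⟨ϖ, hϖ⟩ := IsDiscreteValuationRing.exists_irreducible (Localization.AtPrime n)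
  have hmaxL : maximalIdeal (Localization.AtPrime n) = Ideal.span {ϖ} := hϖ.maximalIdeal_eq
  haveI : IsNoetherianRing (A' ⊗[A] B) := isNoetherianRing_tensor A B A'
  haveI : IsNoetherianRing (Localization.AtPrime N) :=
    IsLocalization.isNoetherianRing N.primeCompl _ inferInstance
  obtain ⟨ψ, hψ⟩ : ∃ ψ : Localization.AtPrime n →+* Localization.AtPrime N,
      ψ = Localization.localRingHom n N (algebraMap A' (A' ⊗[A] B)) hn := ⟨_, rfl⟩
  letI : Algebra (Localization.AtPrime n) (Localization.AtPrime N) := ψ.toAlgebra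
  haveI : IsScalarTower A' (Localization.AtPrime n) (Localization.AtPrime N) :=
    IsScalarTower.of_algebraMap_eq (fun x => by
      show algebraMap A' (Localization.AtPrime N) x = ψ (algebraMap A' _ x)
      rw [hψ, Localization.localRingHom_to_map,
        IsScalarTower.algebraMap_apply A' (A' ⊗[A] B) (Localization.AtPrime N)])
  haveI : Module.Flat (A' ⊗[A] B) (Localization.AtPrime N) := IsLocalization.flat _ N.primeCompl
  haveI : Module.Flat A' (Localization.AtPrime N) := Module.Flat.trans A' (A' ⊗[A] B) _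
  haveI : Module.Flat (Localization.AtPrime n) (Localization.AtPrime N) :=
    (Module.flat_iff_of_isLocalization (Localization.AtPrime n) n.primeCompl _).mpr inferInstance
  have hreg : IsSMulRegular (Localization.AtPrime n) ϖ := by
    intro a b hab
    exact mul_left_cancel₀ hϖ.ne_zero hab
  have hreg' : IsSMulRegular (Localization.AtPrime N)
      (algebraMap (Localization.AtPrime n) (Localization.AtPrime N) ϖ) := hreg.of_flat
  have hnzd : algebraMap (Localization.AtPrime n) (Localization.AtPrime N) ϖ ∈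
      nonZeroDivisors (Localization.AtPrime N) := by
    rw [mem_nonZeroDivisors_iff_right]
    intro x hx
    apply hreg'
    show algebraMap (Localization.AtPrime n) (Localization.AtPrime N) ϖ * x =
      algebraMap (Localization.AtPrime n) (Localization.AtPrime N) ϖ * 0
    rw [mul_zero, mul_comm, hx]
  have hmaxR : maximalIdeal (Localization.AtPrime N) =
      Ideal.span {algebraMap (Localization.AtPrime n) (Localization.AtPrime N) ϖ} := by
    calc maximalIdeal (Localization.AtPrime N)
        = N.map (algebraMap (A' ⊗[A] B) (Localization.AtPrime N)) :=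
          (Localization.AtPrime.map_eq_maximalIdeal).symm
      _ = (n.map (algebraMap A' (A' ⊗[A] B))).map
            (algebraMap (A' ⊗[A] B) (Localization.AtPrime N)) :=
          congrArg (Ideal.map (algebraMap (A' ⊗[A] B) (Localization.AtPrime N))) hN
      _ = n.map (algebraMap A' (Localization.AtPrime N)) := by
          rw [Ideal.map_map, ← IsScalarTower.algebraMap_eq]
      _ = (n.map (algebraMap A' (Localization.AtPrime n))).map
            (algebraMap (Localization.AtPrime n) (Localization.AtPrime N)) := by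
          rw [Ideal.map_map, ← IsScalarTower.algebraMap_eq]
      _ = (maximalIdeal (Localization.AtPrime n)).map
            (algebraMap (Localization.AtPrime n) (Localization.AtPrime N)) := by
          rw [Localization.AtPrime.map_eq_maximalIdeal]
      _ = Ideal.span {algebraMap (Localization.AtPrime n) (Localization.AtPrime N) ϖ} := by
          rw [hmaxL, Ideal.map_span, Set.image_singleton]
  haveI := isDomain_of_maximalIdeal_eq_span _ _ hmaxR hnzd
  exact ⟨inferInstance, isIntegrallyClosed_of_maximalIdeal_eq_span _ _ hmaxR⟩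

/-- **Theorem N**: if `A → B ⧸ 𝔪_A B` is surjective (`B` flat local Noetherian over the Noetherian
local ring `A`), and the finite `A`-algebra `A'` has discrete valuation rings as localizations at
its maximal ideals, then `A' ⊗ B` is a normal ring. -/
theorem isNormalRing_tensor_of_residue_surj
    (hsurj : ∀ b : B, ∃ a : A, b - algebraMap A B a ∈ (maximalIdeal A).map (algebraMap A B))
    (hdvr : ∀ (n : Ideal A') [n.IsMaximal], ∃ _ : IsDomain (Localization.AtPrime n),
      IsDiscreteValuationRing (Localization.AtPrime n)) :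
    EGA4.IsNormalRing (A' ⊗[A] B) := by
  apply Groth.Agent.Lib.IAdicRegularH3.isNormalRing_of_forall_maximal_localization
    (A' ⊗[A] B) (A' ⊗[A] B)
  intro N hN
  have hM : Algebra.algebraMapSubmonoid (A' ⊗[A] B) N.primeCompl = N.primeCompl := by
    ext x
    constructor
    · rintro ⟨y, hy, rfl⟩
      exact hy
    · intro hx
      exact ⟨x, hx, rfl⟩
  rw [hM]
  haveI hNp : N.IsPrime := Ideal.IsMaximal.isPrime hN
  obtain ⟨hdom, hic⟩ := localization_facts A B A' hsurj hdvr N
  haveI := hdom
  haveI := hic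
  exact Groth.Agent.Lib.NormalSmoothBCH3.isNormalRing_of_isIntegrallyClosed
    (Localization.AtPrime N)

end Loc

section IndEt

variable (A B : Type u) [CommRing A] [CommRing B] [Algebra A B]
  [IsNoetherianRing A] [IsNoetherianRing B]
  (A' : Type u) [CommRing A'] [Algebra A A'] [Module.Finite A A']

/-- a finite normal `A`-algebra stays normal after a Noetherian ind-étale base change -/
theorem isNormalRing_tensor_of_isIndEtale (hie : EtPBC.IsIndEtale A B)
    (hA' : EGA4.IsNormalRing A') : EGA4.IsNormalRing (A' ⊗[A] B) := by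
  have hreg := Groth.Agent.Lib.HensGRingH3.isRegularHom_of_isIndEtale A B hie
  have hnh := Groth.Agent.Lib.FFTransferH3.isNormalHom_of_isRegularHom A B hreg
  haveI : IsNoetherianRing A' := IsNoetherianRing.of_finite A A'
  haveI : IsNoetherianRing (B ⊗[A] A') := IsNoetherianRing.of_finite B _
  haveI : IsNoetherianRing (A' ⊗[A] B) :=
    isNoetherianRing_of_ringEquiv _ (Algebra.TensorProduct.comm A B A').toRingEquiv
  exact Groth.Agent.Lib.GeomNormal2H3.isNormalRing_baseChange' A B hnh A' hA'

end IndEt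

end Groth.Agent.Lib.DeltaInvH3
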