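import Mathlib
import Groth.Prelude.Def_DeltaF

/-!
# Morphisms of delta-functors commuting with filtered colimits (helper7)
-/

set_option autoImplicit false
universe w v u
open CategoryTheory CategoryTheory.Limits

namespace Groth.Agent.Lib.DeltaIso_helper7

section Colim

variable {J : Type v} [SmallCategory J] [IsFiltered J] (B : J ⥤ AddCommGrpCat.{w})
  (c : Cocone B) (hc : IsColimit c)

include hc

lemma exists_rep (x : c.pt) : ∃ (j : J) (y : B.obj j), (c.ι.app j).hom y = x := by
  let U := AddCommGrpCat.uliftFunctor.{v, w}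
  let e : AsSmall.{w} J ≌ J := AsSmall.equiv.symm
  haveI : IsFiltered (AsSmall.{w} J) := IsFiltered.of_equivalence AsSmall.equiv
  have hc' : IsColimit ((U.mapCocone c).whisker e.functor) :=
    IsColimit.whiskerEquivalence (isColimitOfPreserves U hc) e
  obtain ⟨j', y', hy'⟩ :=
    Concrete.isColimit_exists_rep (e.functor ⋙ B ⋙ U) hc' (ULift.up x)
  exact ⟨ULift.down j', ULift.down y', congrArg ULift.down hy'⟩

lemma exists_map_eq_zero (j : J) (y : B.obj j) (h : (c.ι.app j).hom y = 0) :
    ∃ (k : J) (f : j ⟶ k), (B.map f).hom y = 0 := by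
  let U := AddCommGrpCat.uliftFunctor.{v, w}
  let e : AsSmall.{w} J ≌ J := AsSmall.equiv.symm
  haveI : IsFiltered (AsSmall.{w} J) := IsFiltered.of_equivalence AsSmall.equiv
  have hc' : IsColimit ((U.mapCocone c).whisker e.functor) :=
    IsColimit.whiskerEquivalence (isColimitOfPreserves U hc) e
  obtain ⟨k', f', g', hfg⟩ :=
    Concrete.isColimit_exists_of_rep_eq (e.functor ⋙ B ⋙ U) hc'
      (i := AsSmall.up.obj j) (j := AsSmall.up.obj j) (ULift.up y) (ULift.up 0) (by
        show ULift.up ((c.ι.app j).hom y) = ULift.up ((c.ι.app j).hom 0)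
        rw [h, map_zero])
  refine ⟨ULift.down k', ULift.down f', ?_⟩
  have h2 := congrArg ULift.down hfg
  exact h2.trans (map_zero _)

end Colim

section Main

variable {C : Type u} [Category.{v} C] [Abelian C]

lemma shortExact_cokernel {M E : C} (i : M ⟶ E) [Mono i] :
    (ShortComplex.mk i (cokernel.π i) (cokernel.condition i)).ShortExact :=
  ShortComplex.ShortExact.mk'
    (ShortComplex.exact_of_g_is_cokernel _ (cokernelIsCokernel i))
    (by dsimp; infer_instance) (by dsimp; infer_instance)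

section One

variable (T : DeltaF.CohDeltaFunctor C AddCommGrpCat.{w} ℕ)

lemma map_comp_apply (q : ℕ) {X Y Z : C} (f : X ⟶ Y) (g : Y ⟶ Z) (x : (T.F q).obj X) :
    ((T.F q).map (f ≫ g)).hom x = ((T.F q).map g).hom (((T.F q).map f).hom x) := by
  rw [Functor.map_comp]; rfl

lemma map_zero_apply (q : ℕ) {X Y : C} (x : (T.F q).obj X) :
    ((T.F q).map (0 : X ⟶ Y)).hom x = 0 := by
  rw [Functor.map_zero]; rfl

lemma map_id_apply (q : ℕ) {X : C} (x : (T.F q).obj X) :
    ((T.F q).map (𝟙 X)).hom x = x := by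
  rw [CategoryTheory.Functor.map_id]; rfl

lemma ex₁ (S : ShortComplex C) (hS : S.ShortExact) (q : ℕ) (x : (T.F (q + 1)).obj S.X₁)
    (hx : ((T.F (q + 1)).map S.f).hom x = 0) : ∃ y, (T.δ S hS q (q + 1) rfl).hom y = x :=
  (ShortComplex.ab_exact_iff _).1 (T.exact₁ S hS q (q + 1) rfl) x hx

lemma ex₂ (S : ShortComplex C) (hS : S.ShortExact) (q : ℕ) (x : (T.F q).obj S.X₂)
    (hx : ((T.F q).map S.g).hom x = 0) : ∃ y, ((T.F q).map S.f).hom y = x :=
  (ShortComplex.ab_exact_iff _).1 (T.exact₂ S hS q) x hx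

lemma ex₃ (S : ShortComplex C) (hS : S.ShortExact) (q : ℕ) (x : (T.F q).obj S.X₃)
    (hx : (T.δ S hS q (q + 1) rfl).hom x = 0) : ∃ y, ((T.F q).map S.g).hom y = x :=
  (ShortComplex.ab_exact_iff _).1 (T.exact₃ S hS q (q + 1) rfl) x hx

lemma comp_δ' (S : ShortComplex C) (hS : S.ShortExact) (q : ℕ) (x : (T.F q).obj S.X₂) :
    (T.δ S hS q (q + 1) rfl).hom (((T.F q).map S.g).hom x) = 0 := by
  have h := T.comp_δ S hS q (q + 1) rfl
  have h2 := congrArg (fun g => g.hom x) h
  simpa using h2

end One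

variable {T T' : DeltaF.CohDeltaFunctor C AddCommGrpCat.{w} ℕ} (φ : T ⟶ T')

/-- the components of `φ` as additive maps -/
abbrev a (q : ℕ) (A : C) : (T.F q).obj A →+ (T'.F q).obj A := ((φ.app q).app A).hom

lemma nat (q : ℕ) {X Y : C} (f : X ⟶ Y) (x : (T.F q).obj X) :
    a φ q Y (((T.F q).map f).hom x) = ((T'.F q).map f).hom (a φ q X x) :=
  congrArg (fun g => g.hom x) ((φ.app q).naturality f)

lemma δcomm (S : ShortComplex C) (hS : S.ShortExact) (q : ℕ) (y : (T.F q).obj S.X₃) :
    a φ (q + 1) S.X₁ ((T.δ S hS q (q + 1) rfl).hom y) =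
      (T'.δ S hS q (q + 1) rfl).hom (a φ q S.X₃ y) :=
  congrArg (fun g => g.hom y) (φ.comm S hS q (q + 1) rfl)

lemma inj_iso (q : ℕ) {A A' : C} (e : A ≅ A') (h : Function.Injective (a φ q A)) :
    Function.Injective (a φ q A') := by
  rw [injective_iff_map_eq_zero]
  intro x hx
  have h1 : ((T.F q).map e.inv).hom x = 0 := by
    apply h
    rw [nat, hx, map_zero, map_zero]
  have h2 : x = ((T.F q).map e.hom).hom (((T.F q).map e.inv).hom x) := by
    rw [← map_comp_apply, e.inv_hom_id, map_id_apply]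
  rw [h2, h1, map_zero]

lemma surj_iso (q : ℕ) {A A' : C} (e : A ≅ A') (h : Function.Surjective (a φ q A)) :
    Function.Surjective (a φ q A') := by
  intro y
  obtain ⟨x, hx⟩ := h (((T'.F q).map e.inv).hom y)
  refine ⟨((T.F q).map e.hom).hom x, ?_⟩
  rw [nat, hx, ← map_comp_apply, e.inv_hom_id, map_id_apply]

section

variable (q : ℕ) {J : Type v} [SmallCategory J] [IsFiltered J] (K : J ⥤ C) (c : Cocone K)
  (hc : IsColimit c)
  [PreservesFilteredColimitsOfSize.{v, v} (T.F q)] [PreservesFilteredColimitsOfSize.{v, v} (T'.F q)]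

include hc

lemma inj_colim (h : ∀ j, Function.Injective (a φ q (K.obj j))) :
    Function.Injective (a φ q c.pt) := by
  rw [injective_iff_map_eq_zero]
  intro x hx
  obtain ⟨j, y, rfl⟩ := exists_rep (K ⋙ T.F q) ((T.F q).mapCocone c)
    (isColimitOfPreserves (T.F q) hc) x
  have h1 : ((T'.F q).map (c.ι.app j)).hom (a φ q (K.obj j) y) = 0 :=
    (nat φ q (c.ι.app j) y).symm.trans hx
  obtain ⟨k, f, hf⟩ := exists_map_eq_zero (K ⋙ T'.F q) ((T'.F q).mapCocone c)
    (isColimitOfPreserves (T'.F q) hc) j _ h1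
  have h2 : ((T.F q).map (K.map f)).hom y = 0 := by
    apply h k
    rw [nat, map_zero]
    exact hf
  have h3 : c.ι.app j = K.map f ≫ c.ι.app k := (c.w f).symm
  show ((T.F q).map (c.ι.app j)).hom y = 0
  rw [h3, map_comp_apply, h2, map_zero]

lemma surj_colim (h : ∀ j, Function.Surjective (a φ q (K.obj j))) :
    Function.Surjective (a φ q c.pt) := by
  intro y
  obtain ⟨j, z, rfl⟩ := exists_rep (K ⋙ T'.F q) ((T'.F q).mapCocone c)
    (isColimitOfPreserves (T'.F q) hc) y
  obtain ⟨x, rfl⟩ := h j z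
  exact ⟨((T.F q).map (c.ι.app j)).hom x, nat φ q (c.ι.app j) x⟩

end

theorem bijective_all (hT0 : T.ZeroMono) (hT'0 : T'.ZeroMono)
    [∀ n, PreservesFilteredColimitsOfSize.{v, v} (T.F n)]
    [∀ n, PreservesFilteredColimitsOfSize.{v, v} (T'.F n)]
    (D E : ObjectProperty C)
    (hD : ∀ A : C, ∃ (J : Type v) (_ : SmallCategory J) (_ : IsFiltered J) (K : J ⥤ C)
      (c : Cocone K) (_ : IsColimit c), (∀ j, D (K.obj j)) ∧ Nonempty (c.pt ≅ A))
    (hE : ∀ A : C, D A → ∃ (M : C) (i : A ⟶ M), Mono i ∧ E M)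
    (hiso : ∀ (q : ℕ) (M : C), E M → Function.Bijective (a φ q M)) :
    ∀ (q : ℕ) (A : C), Function.Bijective (a φ q A) := by
  intro q
  induction q using Nat.strong_induction_on with
  | _ q ih =>
    have inj_D : ∀ A, D A → Function.Injective (a φ q A) := by
      intro A hA
      obtain ⟨M, i, hi, hM⟩ := hE A hA
      haveI := hi
      have hS := shortExact_cokernel i
      rw [injective_iff_map_eq_zero]
      intro x hx
      have h1 : ((T.F q).map i).hom x = 0 := by
        apply (hiso q M hM).1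
        rw [nat, hx, map_zero, map_zero]
      cases q with
      | zero =>
        have hm := (AddCommGrpCat.mono_iff_injective _).1 (hT0 _ hS)
        exact hm (h1.trans (map_zero _).symm)
      | succ q' =>
        obtain ⟨y, rfl⟩ := ex₁ T _ hS q' x h1
        have h2 : (T'.δ _ hS q' (q' + 1) rfl).hom (a φ q' _ y) = 0 :=
          (δcomm φ _ hS q' y).symm.trans hx
        obtain ⟨z', hz'⟩ := ex₃ T' _ hS q' _ h2
        obtain ⟨z, rfl⟩ := (ih q' (Nat.lt_succ_self q') M).2 z'
        have h3 : ((T.F q').map (cokernel.π i)).hom z = y :=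
          (ih q' (Nat.lt_succ_self q') _).1 ((nat φ q' _ z).trans hz')
        rw [← h3]
        exact comp_δ' T _ hS q' z
    have inj_all : ∀ A, Function.Injective (a φ q A) := by
      intro A
      obtain ⟨J, hJ1, hJ2, K, c, hc, hK, ⟨e⟩⟩ := hD A
      exact inj_iso φ q e (inj_colim φ q K c hc (fun j => inj_D _ (hK j)))
    have surj_D : ∀ A, D A → Function.Surjective (a φ q A) := by
      intro A hA
      obtain ⟨M, i, hi, hM⟩ := hE A hA
      haveI := hi
      have hS := shortExact_cokernel i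
      intro y'
      obtain ⟨m, hm⟩ := (hiso q M hM).2 (((T'.F q).map i).hom y')
      have h1 : ((T.F q).map (cokernel.π i)).hom m = 0 := by
        apply inj_all
        rw [nat, hm, ← map_comp_apply, cokernel.condition, map_zero_apply, map_zero]
      obtain ⟨x, hx⟩ := ex₂ T _ hS q m h1
      have h2 : ((T'.F q).map i).hom (a φ q A x - y') = 0 := by
        rw [map_sub, ← nat, sub_eq_zero]
        exact (congrArg (a φ q M) hx).trans hm
      cases q with
      | zero =>
        have hm' := (AddCommGrpCat.mono_iff_injective _).1 (hT'0 _ hS)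
        exact ⟨x, sub_eq_zero.1 (hm' (h2.trans (map_zero _).symm))⟩
      | succ q' =>
        obtain ⟨w', hw'⟩ := ex₁ T' _ hS q' _ h2
        obtain ⟨w, rfl⟩ := (ih q' (Nat.lt_succ_self q') _).2 w'
        refine ⟨x - (T.δ _ hS q' (q' + 1) rfl).hom w, ?_⟩
        have hd : a φ (q' + 1) A ((T.δ _ hS q' (q' + 1) rfl).hom w) =
            (T'.δ _ hS q' (q' + 1) rfl).hom (a φ q' _ w) := δcomm φ _ hS q' w
        rw [map_sub, hd, hw']
        abel
    have surj_all : ∀ A, Function.Surjective (a φ q A) := by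
      intro A
      obtain ⟨J, hJ1, hJ2, K, c, hc, hK, ⟨e⟩⟩ := hD A
      exact surj_iso φ q e (surj_colim φ q K c hc (fun j => surj_D _ (hK j)))
    exact fun A => ⟨inj_all A, surj_all A⟩

end Main

end Groth.Agent.Lib.DeltaIso_helper7
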