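import Mathlib
import Groth.Agent.Lib.DeltaSep6_helper3

/-!
# Geometric reducedness / regularity and the δ-invariant under separable residue fields of the
normalization: main statements (helper3)

APPEND-ONLY once landed.
-/

set_option autoImplicit false
set_option maxSynthPendingDepth 3
universe u

attribute [local instance] Curv2.stalkAlgebra

namespace Groth.Agent.Lib.DeltaSepH3

open AlgebraicGeometry CategoryTheory CategoryTheory.Limits IsLocalRing TensorProduct

section Main

variable (k : Type u) [Field k] (X : Scheme.{u}) [X.Over (Spec (CommRingCat.of k))] [IsIntegral X]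
  [LocallyOfFiniteType (X ↘ (Spec (CommRingCat.of k)))]
  [QuasiCompact (X.fromSpecStalk (genericPoint X))]
  [QuasiSeparated (X.fromSpecStalk (genericPoint X))]

theorem main7617 (x : X) (hdim : ringKrullDim (X.presheaf.stalk x) = 1)
    (hsep : letI := normOver k X
      ∀ x' : Curv2.normalization X, Curv2.normalizationι X x' = x →
        GeometricallyReduced (Spec.map (CommRingCat.ofHom
          (Curv2.resMap k (Curv2.normalization X) x')))) :
    Curv2.IsGeomReducedAt k X x ∧
      letI := normOver k X
      ∀ x' : Curv2.normalization X, Curv2.normalizationι X x' = x →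
        Curv2.IsGeomRegularAt k (Curv2.normalization X) x' := by
  letI := normOver k X
  haveI : IsLocallyNoetherian X :=
    LocallyOfFiniteType.isLocallyNoetherian (X ↘ Spec (CommRingCat.of k))
  obtain ⟨h1, h2⟩ := chart_facts k X x hdim
  have H := h1 hsep
  refine ⟨(Groth.Agent.Lib.StalkDict2H4.main1541 k X x).mpr
    (isGeometricallyReduced_of_sepRes hdim H), ?_⟩
  intro x' hx' k' _ _ hfg z hz
  have hreg := h2 x' hx'
  haveI : IsNoetherianRing ((Curv2.normalization X).presheaf.stalk x') := by
    haveI := hreg
    infer_instance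
  haveI := isGeometricallyReduced_residueField_stalk k (Curv2.normalization X) x' (hsep x' hx')
  haveI : Algebra.EssFiniteType k k' := IntermediateField.fg_top_iff.mp hfg
  haveI hR : IsRegularRing (k' ⊗[k] (Curv2.normalization X).presheaf.stalk x') :=
    isRegularRing_tensor_of_regular k _ hreg k'
  haveI hR' : IsRegularRing ((Curv2.normalization X).presheaf.stalk x' ⊗[k] k') :=
    IsRegularRing.of_ringEquiv (Algebra.TensorProduct.comm k k' _).toRingEquiv
  obtain ⟨q, -, ⟨eq⟩⟩ :=
    Groth.Agent.Lib.StalkDict6H4.exists_prime k (Curv2.normalization X) k' x' z hz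
  haveI : IsRegularLocalRing (Localization.AtPrime q.asIdeal) := inferInstance
  exact IsRegularLocalRing.of_ringEquiv eq

theorem main7683 (K : Type u) [Field K] [Algebra k K] (y : Curv2.bc k X K)
    (hdx : ringKrullDim (X.presheaf.stalk ((Curv2.bcFst k X K).base y)) = 1)
    (hsep : letI := normOver k X
      ∀ x' : Curv2.normalization X,
        (Curv2.normalizationι X).base x' = (Curv2.bcFst k X K).base y →
        GeometricallyReduced (Spec.map (CommRingCat.ofHom
          (Curv2.resMap k (Curv2.normalization X) x'))))
    (hdy : ringKrullDim ((Curv2.bc k X K).presheaf.stalk y) = 1) :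
    Curv2.deltaInv (X.presheaf.stalk ((Curv2.bcFst k X K).base y)) =
      Curv2.deltaInv ((Curv2.bc k X K).presheaf.stalk y) := by
  letI := normOver k X
  haveI : IsLocallyNoetherian X :=
    LocallyOfFiniteType.isLocallyNoetherian (X ↘ Spec (CommRingCat.of k))
  obtain ⟨h1, -⟩ := chart_facts k X ((Curv2.bcFst k X K).base y) hdx
  have H := h1 hsep
  have hN := Groth.Agent.Lib.DeltaInvH3.isNagata_stalk k X ((Curv2.bcFst k X K).base y)
  haveI hfin : Module.Finite (X.presheaf.stalk ((Curv2.bcFst k X K).base y))
      (IC (X.presheaf.stalk ((Curv2.bcFst k X K).base y))) :=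
    (Groth.Agent.S7652.result _ hN hdx).1
  obtain ⟨q, hq, ⟨eq⟩⟩ :=
    Groth.Agent.Lib.StalkDict6H4.exists_prime k X K ((Curv2.bcFst k X K).base y) y rfl
  have hdq : ringKrullDim (Localization.AtPrime q.asIdeal) ≤ 1 := by
    rw [ringKrullDim_eq_of_ringEquiv eq, hdy]
  rw [← deltaInv_congr eq, deltaInv_loc_eq K q.asIdeal hdx H hq hdq]

end Main

end Groth.Agent.Lib.DeltaSepH3
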