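import Mathlib
import Groth.Prelude.Def_Algz

/-! More on `Algz.codimPt`: trivial, immediate and nontrivial specializations. -/

universe u

namespace Groth.Agent.DeltaZ2H8

variable {Y : Type u} [TopologicalSpace Y]

theorem codimPt_self (a : Y) (h : a ⤳ a) : Algz.codimPt a a h = 0 := by
  unfold Algz.codimPt
  rw [Order.height_eq_zero]
  intro c _
  exact c.2

theorem codimPt_le_one (w v : Y) (h : w ⤳ v)
    (himm : ∀ z : Y, w ⤳ z → z ⤳ v → z = w ∨ z = v) : Algz.codimPt w v h ≤ 1 := by
  unfold Algz.codimPt
  have : Order.height (⟨Specialization.toEquiv w, Specialization.toEquiv_le_toEquiv.mpr h⟩ :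
      Set.Ici (Specialization.toEquiv v)) ≤ ((1 : ℕ) : ℕ∞) := by
    rw [Order.height_le_coe_iff]
    intro b hb
    have hb1 : w ⤳ Specialization.ofEquiv b.1 :=
      Specialization.ofEquiv_specializes_ofEquiv.mpr hb.le
    have hb2 : Specialization.ofEquiv b.1 ⤳ v :=
      Specialization.ofEquiv_specializes_ofEquiv.mpr b.2
    have hbv : Specialization.ofEquiv b.1 = v := by
      rcases himm _ hb1 hb2 with e | e
      · exfalso
        apply hb.not_ge
        change Specialization.toEquiv w ≤ b.1
        have : b.1 = Specialization.toEquiv w := congrArg Specialization.toEquiv e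
        rw [this]
      · exact e
    have hmin : IsMin b := by
      intro c _
      change b.1 ≤ c.1
      have : b.1 = Specialization.toEquiv v := congrArg Specialization.toEquiv hbv
      rw [this]
      exact c.2
    rw [Order.height_eq_zero.mpr hmin]
    exact_mod_cast zero_lt_one
  exact_mod_cast this

theorem one_le_codimPt (w v : Y) (h : w ⤳ v) (hne : ¬ v ⤳ w) : 1 ≤ Algz.codimPt w v h := by
  unfold Algz.codimPt
  rw [Order.one_le_iff_pos, Order.height_pos]
  intro hmin
  apply hne
  have hle : (⟨Specialization.toEquiv v, Set.mem_Ici.mpr le_rfl⟩ :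
      Set.Ici (Specialization.toEquiv v)) ≤
      ⟨Specialization.toEquiv w, Specialization.toEquiv_le_toEquiv.mpr h⟩ :=
    Specialization.toEquiv_le_toEquiv.mpr h
  have := hmin hle
  exact Specialization.toEquiv_le_toEquiv.mp this

end Groth.Agent.DeltaZ2H8
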