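import Mathlib
import Groth.Prelude.Def_Algz

/-! `Algz.codimPt` is invariant under open embeddings. -/

universe u

namespace Groth.Agent.DeltaZ3H8

variable {Y' Y : Type u} [TopologicalSpace Y'] [TopologicalSpace Y]

theorem codimPt_map (f : Y' → Y) (hf : Topology.IsOpenEmbedding f) (w v : Y') (h : w ⤳ v)
    (h' : f w ⤳ f v) : Algz.codimPt (f w) (f v) h' = Algz.codimPt w v h := by
  classical
  unfold Algz.codimPt
  apply le_antisymm
  · -- backward map
    have hex : ∀ b : Set.Ici (Specialization.toEquiv (f v)),
        ∃ a : Y', f a = Specialization.ofEquiv b.1 := by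
      intro b
      have hb : Specialization.ofEquiv b.1 ⤳ f v :=
        Specialization.ofEquiv_specializes_ofEquiv.mpr b.2
      have hmem : Specialization.ofEquiv b.1 ∈ Set.range f :=
        hb.mem_open hf.isOpen_range ⟨v, rfl⟩
      exact hmem
    choose g hg using hex
    have hgv : ∀ b : Set.Ici (Specialization.toEquiv (f v)), g b ⤳ v := by
      intro b
      rw [← hf.isInducing.specializes_iff, hg]
      exact Specialization.ofEquiv_specializes_ofEquiv.mpr b.2
    let ψ : Set.Ici (Specialization.toEquiv (f v)) → Set.Ici (Specialization.toEquiv v) :=
      fun b => ⟨Specialization.toEquiv (g b), Specialization.toEquiv_le_toEquiv.mpr (hgv b)⟩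
    have hψ : StrictMono ψ := by
      intro a b hab
      have hle : ψ a ≤ ψ b := by
        change g b ⤳ g a
        rw [← hf.isInducing.specializes_iff, hg, hg]
        exact Specialization.ofEquiv_specializes_ofEquiv.mpr hab.le
      refine lt_of_le_not_ge hle ?_
      intro hge
      apply hab.not_ge
      have : g a ⤳ g b := hge
      rw [← hf.isInducing.specializes_iff, hg, hg] at this
      exact Specialization.ofEquiv_specializes_ofEquiv.mp this
    have h3 := Order.height_le_height_apply_of_strictMono ψ hψ
      (⟨Specialization.toEquiv (f w), Specialization.toEquiv_le_toEquiv.mpr h'⟩ :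
        Set.Ici (Specialization.toEquiv (f v)))
    refine h3.trans (le_of_eq ?_)
    congr 1
    apply Subtype.ext
    change Specialization.toEquiv (g _) = Specialization.toEquiv w
    congr 1
    exact hf.injective (hg _)
  · -- forward map
    let ψ : Set.Ici (Specialization.toEquiv v) → Set.Ici (Specialization.toEquiv (f v)) :=
      fun a => ⟨Specialization.toEquiv (f (Specialization.ofEquiv a.1)),
        Specialization.toEquiv_le_toEquiv.mpr
          ((Specialization.ofEquiv_specializes_ofEquiv.mpr a.2).map hf.continuous)⟩
    have hψ : StrictMono ψ := by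
      intro a b hab
      have hle : ψ a ≤ ψ b := by
        change f (Specialization.ofEquiv b.1) ⤳ f (Specialization.ofEquiv a.1)
        exact (Specialization.ofEquiv_specializes_ofEquiv.mpr hab.le).map hf.continuous
      refine lt_of_le_not_ge hle ?_
      intro hge
      apply hab.not_ge
      have : f (Specialization.ofEquiv a.1) ⤳ f (Specialization.ofEquiv b.1) := hge
      rw [hf.isInducing.specializes_iff] at this
      exact Specialization.ofEquiv_specializes_ofEquiv.mp this
    exact Order.height_le_height_apply_of_strictMono ψ hψ
      (⟨Specialization.toEquiv w, Specialization.toEquiv_le_toEquiv.mpr h⟩ :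
        Set.Ici (Specialization.toEquiv v))

end Groth.Agent.DeltaZ3H8
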