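import Mathlib
import Groth.Prelude.Def_Algz
import Groth.Agent.Lib.DeltaZ2_helper8

/-! `Algz.deltaZ` is monotone under specialization: the two constructions on systems. -/

universe u

namespace Groth.Agent.DeltaZ4H8

open Algz

variable {Y : Type u} [TopologicalSpace Y]

theorem codimPt_congr {w w' v v' : Y} (hw : w = w') (hv : v = v') (h : w ⤳ v) (h' : w' ⤳ v') :
    codimPt w v h = codimPt w' v' h' := by
  subst hw; subst hv; rfl

theorem codimPt_mono_right (w v v' : Y) (h : w ⤳ v) (hv : v ⤳ v') :
    codimPt w v h ≤ codimPt w v' (h.trans hv) := by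
  unfold codimPt
  let f : Set.Ici (Specialization.toEquiv v) → Set.Ici (Specialization.toEquiv v') :=
    fun a => ⟨a.1, le_trans (Specialization.toEquiv_le_toEquiv.mpr hv) a.2⟩
  have hf : StrictMono f := fun a b hab => hab
  exact Order.height_le_height_apply_of_strictMono f hf _

/-- The `i`-th term in the maximum defining `delta`. -/
noncomputable def term {Z : Set Y} {y : Y} {k : ℕ} (S : DSystem Z y k) (i : Fin (k + 1)) : ℕ∞ :=
  (∑ j ∈ Finset.univ.filter (fun j : Fin (k + 1) => i ≤ j), S.c j) -
      ∑ j ∈ Finset.univ.filter (fun j : Fin k => i.val ≤ j.val), S.b j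

theorem delta_eq {Z : Set Y} {y : Y} {k : ℕ} (S : DSystem Z y k) :
    S.delta = (k : ℕ∞) + Finset.univ.sup (term S) := rfl

theorem term_le_sup {Z : Set Y} {y : Y} {k : ℕ} (S : DSystem Z y k) (i : Fin (k + 1)) :
    term S i ≤ Finset.univ.sup (term S) := Finset.le_sup (Finset.mem_univ i)

theorem term_last {Z : Set Y} {y : Y} {k : ℕ} (S : DSystem Z y k) :
    term S (Fin.last k) = S.c (Fin.last k) := by
  unfold term
  have h1 : Finset.univ.filter (fun j : Fin (k + 1) => Fin.last k ≤ j) = {Fin.last k} := by
    ext j
    simp [Fin.last_le_iff]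
  have h2 : Finset.univ.filter (fun j : Fin k => (Fin.last k).val ≤ j.val) = ∅ := by
    ext j
    simp
  rw [h1, h2]
  simp

section extend

variable {Z : Set Y} {y y' : Y} {k : ℕ} (S : DSystem Z y k) (h : y ⤳ y')

/-- Extend a system for `y` by `V_{k+1} = W_{k+1} = closure {y'}`. -/
def extend : DSystem Z y' (k + 1) where
  v := Fin.snoc (α := fun _ => Y) S.v y'
  w := Fin.snoc (α := fun _ => Y) S.w y'
  spec := by
    intro i
    refine Fin.lastCases ?_ (fun j => ?_) i
    · simp only [Fin.snoc_last]
      exact specializes_rfl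
    · simp only [Fin.snoc_castSucc]
      exact S.spec j
  spec_succ := by
    intro i
    simp only [Fin.snoc_castSucc]
    refine Fin.lastCases ?_ (fun j => ?_) i
    · rw [Fin.succ_last]
      simp only [Fin.snoc_last]
      rw [S.last_eq]
      exact h
    · rw [Fin.succ_castSucc]
      simp only [Fin.snoc_castSucc]
      exact S.spec_succ j
  start_mem := by
    have : (0 : Fin (k + 1 + 1)) = Fin.castSucc (0 : Fin (k + 1)) := rfl
    rw [this, Fin.snoc_castSucc]
    exact S.start_mem
  last_eq := by simp only [Fin.snoc_last]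

theorem extend_c_castSucc (j : Fin (k + 1)) : (extend S h).c j.castSucc = S.c j := by
  unfold DSystem.c
  exact codimPt_congr (Fin.snoc_castSucc (α := fun _ => Y) _ _ _)
    (Fin.snoc_castSucc (α := fun _ => Y) _ _ _) _ _

theorem extend_c_last : (extend S h).c (Fin.last (k + 1)) = 0 := by
  unfold DSystem.c
  refine (codimPt_congr (w' := y') (v' := y') (Fin.snoc_last (α := fun _ => Y) _ _)
    (Fin.snoc_last (α := fun _ => Y) _ _) _ specializes_rfl).trans ?_
  exact Groth.Agent.DeltaZ2H8.codimPt_self y' _

theorem extend_b_castSucc (j : Fin k) : (extend S h).b j.castSucc = S.b j := by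
  unfold DSystem.b
  refine codimPt_congr ?_ ?_ _ _
  · exact Fin.snoc_castSucc (α := fun _ => Y) _ _ _
  · change Fin.snoc (α := fun _ => Y) S.v y' (j.castSucc.succ) = _
    rw [Fin.succ_castSucc]
    exact Fin.snoc_castSucc (α := fun _ => Y) _ _ _

theorem extend_b_last :
    (extend S h).b (Fin.last k) = codimPt (S.w (Fin.last k)) y' (S.last_eq.symm ▸ h) := by
  unfold DSystem.b
  refine codimPt_congr ?_ ?_ _ _
  · exact Fin.snoc_castSucc (α := fun _ => Y) _ _ _
  · change Fin.snoc (α := fun _ => Y) S.v y' ((Fin.last k).succ) = _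
    rw [Fin.succ_last]
    exact Fin.snoc_last (α := fun _ => Y) _ _

theorem extend_term_last : term (extend S h) (Fin.last (k + 1)) = 0 := by
  rw [term_last, extend_c_last]

theorem extend_term_castSucc (i : Fin (k + 1)) :
    term (extend S h) i.castSucc = term S i - (extend S h).b (Fin.last k) := by
  unfold term
  have e1 : ∀ j : Fin (k + 1), (if i.castSucc ≤ j.castSucc then (extend S h).c j.castSucc else 0) =
      if i ≤ j then S.c j else 0 := by
    intro j
    rw [extend_c_castSucc]
    simp only [Fin.castSucc_le_castSucc_iff]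
  have e2 : (if i.castSucc ≤ Fin.last (k + 1) then (extend S h).c (Fin.last (k + 1)) else 0) = 0 := by
    rw [extend_c_last]; simp
  have e3 : ∀ j : Fin k, (if (i.castSucc : Fin (k + 1 + 1)).val ≤ (j.castSucc : Fin (k + 1)).val
      then (extend S h).b j.castSucc else 0) = if i.val ≤ j.val then S.b j else 0 := by
    intro j
    rw [extend_b_castSucc]
    simp only [Fin.val_castSucc]
  have e4 : (if (i.castSucc : Fin (k + 1 + 1)).val ≤ (Fin.last k).val
      then (extend S h).b (Fin.last k) else 0) = (extend S h).b (Fin.last k) := by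
    have : (i.castSucc : Fin (k + 1 + 1)).val ≤ (Fin.last k).val := by
      simp only [Fin.val_castSucc, Fin.val_last]
      exact Nat.lt_succ_iff.mp i.2
    rw [if_pos this]
  have hC : (∑ j ∈ Finset.univ.filter (fun j : Fin (k + 1 + 1) => i.castSucc ≤ j), (extend S h).c j) =
      ∑ j ∈ Finset.univ.filter (fun j : Fin (k + 1) => i ≤ j), S.c j := by
    rw [Finset.sum_filter, Finset.sum_filter, Fin.sum_univ_castSucc]
    simp only [e1, e2, add_zero]
  have hB : (∑ j ∈ Finset.univ.filter (fun j : Fin (k + 1) => (i.castSucc : Fin (k + 1 + 1)).val ≤ j.val),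
        (extend S h).b j) =
      (∑ j ∈ Finset.univ.filter (fun j : Fin k => i.val ≤ j.val), S.b j) +
        (extend S h).b (Fin.last k) := by
    rw [Finset.sum_filter, Finset.sum_filter, Fin.sum_univ_castSucc]
    rw [e4]
    congr 1
    exact Finset.sum_congr rfl (fun j _ => e3 j)
  rw [hC, hB, tsub_add_eq_tsub_tsub]

theorem extend_delta_le (hne : ¬ y' ⤳ y) (hc : 1 ≤ S.c (Fin.last k)) :
    (extend S h).delta ≤ S.delta := by
  rw [delta_eq, delta_eq]
  set M := Finset.univ.sup (term S) with hM
  have hM1 : 1 ≤ M := by
    refine hc.trans ?_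
    rw [← term_last]
    exact term_le_sup S _
  have hb : 1 ≤ (extend S h).b (Fin.last k) := by
    rw [extend_b_last]
    refine Groth.Agent.DeltaZ2H8.one_le_codimPt _ _ _ ?_
    rw [S.last_eq]
    exact hne
  have hsup : Finset.univ.sup (term (extend S h)) ≤ M - 1 := by
    refine Finset.sup_le ?_
    intro i _
    refine Fin.lastCases ?_ (fun j => ?_) i
    · rw [extend_term_last]; exact bot_le
    · rw [extend_term_castSucc]
      exact tsub_le_tsub (term_le_sup S j) hb
  calc ((k + 1 : ℕ) : ℕ∞) + Finset.univ.sup (term (extend S h))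
      ≤ ((k + 1 : ℕ) : ℕ∞) + (M - 1) := by gcongr
    _ = (k : ℕ∞) + (1 + (M - 1)) := by push_cast; rw [add_assoc]
    _ = (k : ℕ∞) + M := by rw [add_tsub_cancel_of_le hM1]

end extend

section replace

variable {Z : Set Y} {y y' : Y} {k : ℕ} (S : DSystem Z y k) (h : y ⤳ y')
  (hZ : IsClosed Z) (hv : S.v (Fin.last k) = y)

/-- Replace `V_k = W_k = closure {y}` by `closure {y'}`. -/
def replace : DSystem Z y' k where
  v := Function.update S.v (Fin.last k) y'
  w := Function.update S.w (Fin.last k) y'
  spec := by
    intro i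
    by_cases hi : i = Fin.last k
    · subst hi
      simp only [Function.update_self]
      exact specializes_rfl
    · simp only [Function.update_of_ne hi]
      exact S.spec i
  spec_succ := by
    intro i
    have hi : i.castSucc ≠ Fin.last k := (Fin.castSucc_lt_last i).ne
    rw [Function.update_of_ne hi]
    by_cases hi2 : i.succ = Fin.last k
    · rw [hi2, Function.update_self]
      have := S.spec_succ i
      rw [hi2, hv] at this
      exact this.trans h
    · rw [Function.update_of_ne hi2]
      exact S.spec_succ i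
  start_mem := by
    by_cases h0 : (0 : Fin (k + 1)) = Fin.last k
    · rw [h0, Function.update_self]
      have := S.start_mem
      rw [h0, hv] at this
      exact h.mem_closed hZ this
    · rw [Function.update_of_ne h0]
      exact S.start_mem
  last_eq := by simp only [Function.update_self]

theorem replace_c (hw0 : S.c (Fin.last k) = 0) (j : Fin (k + 1)) :
    (replace S h hZ hv).c j = S.c j := by
  by_cases hj : j = Fin.last k
  · subst hj
    rw [hw0]
    unfold DSystem.c
    refine (codimPt_congr (w' := y') (v' := y') ?_ ?_ _ specializes_rfl).trans ?_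
    · exact Function.update_self ..
    · exact Function.update_self ..
    · exact Groth.Agent.DeltaZ2H8.codimPt_self y' _
  · unfold DSystem.c
    refine codimPt_congr ?_ ?_ _ _
    · exact Function.update_of_ne hj ..
    · exact Function.update_of_ne hj ..

theorem replace_b (j : Fin k) : S.b j ≤ (replace S h hZ hv).b j := by
  have hi : j.castSucc ≠ Fin.last k := (Fin.castSucc_lt_last j).ne
  by_cases hj : j.succ = Fin.last k
  · unfold DSystem.b
    have h1 : S.w j.castSucc ⤳ y := by
      have := S.spec_succ j
      rw [hj, hv] at this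
      exact this
    have e1 : codimPt (S.w j.castSucc) (S.v j.succ) (S.spec_succ j) =
        codimPt (S.w j.castSucc) y h1 := codimPt_congr rfl (by rw [hj, hv]) _ _
    have e2 : codimPt ((replace S h hZ hv).w j.castSucc) ((replace S h hZ hv).v j.succ)
        ((replace S h hZ hv).spec_succ j) = codimPt (S.w j.castSucc) y' (h1.trans h) := by
      refine codimPt_congr ?_ ?_ _ _
      · exact Function.update_of_ne hi ..
      · change Function.update S.v (Fin.last k) y' j.succ = y'
        rw [hj, Function.update_self]
    rw [e1, e2]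
    exact codimPt_mono_right _ _ _ h1 h
  · refine le_of_eq ?_
    unfold DSystem.b
    refine codimPt_congr ?_ ?_ _ _
    · exact (Function.update_of_ne hi ..).symm
    · exact (Function.update_of_ne hj ..).symm

theorem replace_delta_le (hw0 : S.c (Fin.last k) = 0) :
    (replace S h hZ hv).delta ≤ S.delta := by
  rw [delta_eq, delta_eq]
  gcongr with i _
  unfold term
  refine tsub_le_tsub (le_of_eq ?_) ?_
  · exact Finset.sum_congr rfl (fun j _ => replace_c S h hZ hv hw0 j)
  · exact Finset.sum_le_sum (fun j _ => replace_b S h hZ hv j)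

end replace

theorem deltaZ_le_of_specializes [T0Space Y] (Z : Set Y) (hZ : IsClosed Z) (y y' : Y) (h : y ⤳ y') :
    deltaZ Z y' ≤ deltaZ Z y := by
  by_cases hne : y' ⤳ y
  · have : y = y' := (h.antisymm hne).eq
    subst this
    exact le_rfl
  unfold deltaZ
  refine le_iInf₂ (fun k S => ?_)
  by_cases hc : S.c (Fin.last k) = 0
  · have hv : S.v (Fin.last k) = y := by
      by_contra hvy
      have hsp : S.w (Fin.last k) ⤳ S.v (Fin.last k) := S.spec _
      have : ¬ S.v (Fin.last k) ⤳ S.w (Fin.last k) := by
        intro h2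
        apply hvy
        exact ((h2.antisymm hsp).eq).trans S.last_eq
      have h1 := Groth.Agent.DeltaZ2H8.one_le_codimPt _ _ hsp this
      change 1 ≤ S.c (Fin.last k) at h1
      rw [hc] at h1
      exact absurd h1 (by simp)
    exact (iInf₂_le k (replace S h hZ hv)).trans (replace_delta_le S h hZ hv hc)
  · have hc1 : 1 ≤ S.c (Fin.last k) := Order.one_le_iff_pos.mpr (pos_iff_ne_zero.mpr hc)
    exact (iInf₂_le (k + 1) (extend S h)).trans (extend_delta_le S h hne hc1)

end Groth.Agent.DeltaZ4H8
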