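import Mathlib
import Groth.Prelude.Def_Algz
import Groth.Agent.Lib.DimFun_helper8
import Groth.Agent.Lib.DimFT3_helper8

/-! Basic bounds on the distance function `Algz.deltaZ`. -/

universe u

open AlgebraicGeometry CategoryTheory

namespace Groth.Agent.DeltaZH8

section Top

variable {Y : Type u} [TopologicalSpace Y]

/-- The one-step system `z ∈ closure y`. -/
def sys0 (Z : Set Y) (y z : Y) (h : y ⤳ z) (hz : z ∈ Z) : Algz.DSystem Z y 0 where
  v := fun _ => z
  w := fun _ => y
  spec := fun _ => h
  spec_succ := fun i => i.elim0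
  start_mem := hz
  last_eq := rfl

theorem deltaZ_le_codimPt (Z : Set Y) (y z : Y) (h : y ⤳ z) (hz : z ∈ Z) :
    Algz.deltaZ Z y ≤ Algz.codimPt y z h := by
  unfold Algz.deltaZ
  refine iInf_le_of_le 0 (iInf_le_of_le (sys0 Z y z h hz) ?_)
  unfold Algz.DSystem.delta
  simp [Algz.DSystem.c, sys0]

end Top

section Scheme

variable (X : Scheme.{u}) (z : X)

theorem codimPt_le_coheight (P : PrimeSpectrum (X.presheaf.stalk z))
    (h : Groth.Agent.DimFunH8.φ X z P ⤳ z) :
    Algz.codimPt (Groth.Agent.DimFunH8.φ X z P) z h ≤ Order.coheight P := by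
  classical
  unfold Algz.codimPt
  have hex : ∀ a : Set.Ici (Specialization.toEquiv z),
      ∃ Q : PrimeSpectrum (X.presheaf.stalk z),
        Groth.Agent.DimFunH8.φ X z Q = Specialization.ofEquiv a.1 := fun a =>
    Groth.Agent.DimFunH8.exists_φ_eq X z _ (Specialization.ofEquiv_specializes_ofEquiv.mpr a.2)
  choose Q hQ using hex
  let ψ : Set.Ici (Specialization.toEquiv z) → (PrimeSpectrum (X.presheaf.stalk z))ᵒᵈ :=
    fun a => OrderDual.toDual (Q a)
  have hψ : StrictMono ψ := by
    intro a b hab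
    change Q b < Q a
    have h1 : Specialization.ofEquiv b.1 ⤳ Specialization.ofEquiv a.1 :=
      Specialization.ofEquiv_specializes_ofEquiv.mpr hab.le
    rw [← hQ a, ← hQ b, Groth.Agent.DimFunH8.φ_specializes_iff] at h1
    refine lt_of_le_of_ne h1 ?_
    intro e
    have h2 : Specialization.ofEquiv b.1 = Specialization.ofEquiv a.1 := by
      rw [← hQ a, ← hQ b, e]
    exact hab.ne (Subtype.ext (Specialization.ofEquiv_inj.mp h2)).symm
  have h3 := Order.height_le_height_apply_of_strictMono ψ hψ
    (⟨Specialization.toEquiv (Groth.Agent.DimFunH8.φ X z P),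
      Specialization.toEquiv_le_toEquiv.mpr h⟩ : Set.Ici (Specialization.toEquiv z))
  refine h3.trans ?_
  have h4 : Q ⟨Specialization.toEquiv (Groth.Agent.DimFunH8.φ X z P),
      Specialization.toEquiv_le_toEquiv.mpr h⟩ = P :=
    Groth.Agent.DimFunH8.φ_injective X z (hQ _)
  change Order.height (OrderDual.toDual (Q _)) ≤ _
  rw [h4, Order.height_toDual]

end Scheme

end Groth.Agent.DeltaZH8
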