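import Mathlib
import Groth.Prelude
import Groth.Agent.Lib.Mero_helper4

set_option autoImplicit false
universe u

open CategoryTheory CategoryTheory.Limits AlgebraicGeometry TopologicalSpace Opposite
open Groth.Agent.Lib.Mero_helper4

namespace MeroInvH8

variable {X : Scheme.{u}}

/-- local form: a meromorphic function with regular values is locally a section of `O_X`. -/
theorem exists_local {W : X.Opens} (u : Γ(Mero.kmod X, W))
    (h : ∀ y : W, u.1 y ∈ (algebraMap (X.presheaf.stalk y.1) (Mero.KStalk X y.1)).range)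
    (y : W) : ∃ (V : X.Opens) (_ : y.1 ∈ V) (hVW : V ≤ W) (c : Γ(X, V)),
      ∀ z : V, u.1 ⟨z.1, hVW z.2⟩ = algebraMap _ _ (X.presheaf.germ V z.1 z.2 c) := by
  obtain ⟨V, hyV, i, a, b, hab⟩ := u.2 y
  obtain ⟨cy, hcy⟩ := h y
  obtain ⟨V', hyV', c', rfl⟩ := TopCat.Presheaf.exists_germ_eq X.presheaf cy
  have h1 : u.1 y = LocalizedModule.mk (X.presheaf.germ V y.1 hyV a) (Mero.regGerm ⟨y.1, hyV⟩ b) :=
    hab ⟨y.1, hyV⟩
  rw [← hcy, ← mk_one_eq_algebraMap, eq_comm, mk_eq_mk_iff] at h1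
  have hy1 : y.1 ∈ V ⊓ V' := ⟨hyV, hyV'⟩
  set t : Γ(X, V ⊓ V') := X.presheaf.map (homOfLE (inf_le_right : V ⊓ V' ≤ V')).op c' *
    X.presheaf.map (homOfLE (inf_le_left : V ⊓ V' ≤ V)).op b.1 with ht
  have h2 : X.presheaf.germ V y.1 hyV a = X.presheaf.germ (V ⊓ V') y.1 hy1 t := by
    rw [ht, map_mul, TopCat.Presheaf.germ_res_apply, TopCat.Presheaf.germ_res_apply]
    rw [OneMemClass.coe_one, mul_one] at h1
    exact h1
  obtain ⟨W', hyW', iU, iV, h3⟩ := TopCat.Presheaf.germ_eq X.presheaf y.1 hyV hy1 a t h2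
  refine ⟨W', hyW', iU.le.trans i.le, X.presheaf.map (iV ≫ homOfLE inf_le_right).op c', fun z => ?_⟩
  have h4 := hab ⟨z.1, iU.le z.2⟩
  have h5 : u.1 ⟨z.1, (iU.le.trans i.le) z.2⟩ =
      LocalizedModule.mk (X.presheaf.germ V z.1 (iU.le z.2) a) (Mero.regGerm ⟨z.1, iU.le z.2⟩ b) := h4
  rw [h5, ← mk_one_eq_algebraMap, mk_eq_mk_iff, OneMemClass.coe_one, mul_one]
  have h6 : X.presheaf.germ V z.1 (iU.le z.2) a = X.presheaf.germ W' z.1 z.2 (X.presheaf.map iU.op a) :=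
    (TopCat.Presheaf.germ_res_apply X.presheaf iU z.1 z.2 a).symm
  rw [h6, h3, TopCat.Presheaf.germ_res_apply, ht, map_mul, TopCat.Presheaf.germ_res_apply,
    TopCat.Presheaf.germ_res_apply, TopCat.Presheaf.germ_res_apply]

/-- a meromorphic function all of whose values are regular is a section of `O_X`. -/
theorem exists_toK_eq {W : X.Opens} (u : Γ(Mero.kmod X, W))
    (h : ∀ y : W, u.1 y ∈ (algebraMap (X.presheaf.stalk y.1) (Mero.KStalk X y.1)).range) :
    ∃ a : Γ(X, W), Mero.toK X W a = u := by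
  classical
  choose V hyV hVW c hc using exists_local u h
  have hcompat : TopCat.Presheaf.IsCompatible X.presheaf V c := by
    intro y y'
    refine TopCat.Presheaf.section_ext X.sheaf (V y ⊓ V y') _ _ (fun z hz => ?_)
    show X.presheaf.germ _ z hz _ = X.presheaf.germ _ z hz _
    rw [TopCat.Presheaf.germ_res_apply, TopCat.Presheaf.germ_res_apply]
    apply Mero.algebraMap_KStalk_injective z
    have e1 := hc y ⟨z, hz.1⟩
    have e2 := hc y' ⟨z, hz.2⟩
    exact e1.symm.trans e2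
  have hcover : W ≤ iSup V := by
    intro y hy
    exact Opens.mem_iSup.2 ⟨⟨y, hy⟩, hyV ⟨y, hy⟩⟩
  obtain ⟨s, hs, -⟩ := TopCat.Sheaf.existsUnique_gluing' X.sheaf V W (fun y => homOfLE (hVW y)) hcover
    c hcompat
  refine ⟨s, kmod_ext (fun y => ?_)⟩
  rw [Mero.toK_apply, mk_one_eq_algebraMap]
  have e1 := hc y ⟨y.1, hyV y⟩
  have e2 : u.1 y = u.1 ⟨y.1, hVW y (hyV y)⟩ := rfl
  rw [e2, e1, ← hs y]
  congr 1
  exact (TopCat.Presheaf.germ_res_apply X.presheaf (homOfLE (hVW y)) y.1 (hyV y) s).symm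

end MeroInvH8
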