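import Mathlib
import Groth.Prelude
import Groth.Agent.Lib.MeroInv1_helper8

set_option autoImplicit false
universe u

open CategoryTheory CategoryTheory.Limits AlgebraicGeometry TopologicalSpace Opposite
open Groth.Agent.Lib.Mero_helper4

namespace MeroInvH8

variable {X : Scheme.{u}}

section Local

variable (D : Mero.Divisor X) {U : X.Opens} (f : (Γ(Mero.kmod X, U))ˣ)

theorem mul_inv_val (y : U) : f.1.1 y * (f⁻¹).1.1 y = 1 :=
  congrArg (fun t : Γ(Mero.kmod X, U) => t.1 y) f.mul_inv

theorem inv_mul_val (y : U) : (f⁻¹).1.1 y * f.1.1 y = 1 :=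
  congrArg (fun t : Γ(Mero.kmod X, U) => t.1 y) f.inv_mul

variable (hf : ∀ y : U, D.1 y.1 = Mero.germOf f y)
include hf

theorem divCond_iff (y : U) (t : Mero.KStalk X y.1) :
    Mero.DivCond D y.1 t ↔
      t * f.1.1 y ∈ (algebraMap (X.presheaf.stalk y.1) (Mero.KStalk X y.1)).range := by
  constructor
  · intro h
    exact h (Units.map (Mero.evalK X U y).toMonoidHom f) (hf y)
  · intro h g hg
    have h1 : (QuotientGroup.mk (Units.map (Mero.evalK X U y).toMonoidHom f) : Mero.Germ X y.1) =
        QuotientGroup.mk g := by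
      rw [← hg]
      exact (hf y).symm
    rw [QuotientGroup.eq] at h1
    obtain ⟨v, hv⟩ := h1
    have h2 := congrArg Units.val hv
    rw [Units.coe_map, Units.val_mul] at h2
    -- g = f_y * v
    have h3 : (g : Mero.KStalk X y.1) = f.1.1 y * algebraMap _ _ (v : X.presheaf.stalk y.1) := by
      have h4 : ((Units.map (Mero.evalK X U y).toMonoidHom f : (Mero.KStalk X y.1)ˣ) :
          Mero.KStalk X y.1) = f.1.1 y := rfl
      have h5 : (((Units.map (Mero.evalK X U y).toMonoidHom f)⁻¹ : (Mero.KStalk X y.1)ˣ) :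
          Mero.KStalk X y.1) * f.1.1 y = 1 := by
        rw [← h4, ← Units.val_mul, inv_mul_cancel, Units.val_one]
      calc (g : Mero.KStalk X y.1) = f.1.1 y *
            ((((Units.map (Mero.evalK X U y).toMonoidHom f)⁻¹ : (Mero.KStalk X y.1)ˣ) :
              Mero.KStalk X y.1) * g) := by
            rw [← mul_assoc, mul_comm (f.1.1 y), h5, one_mul]
        _ = _ := by rw [← h2]; rfl
    rw [h3, ← mul_assoc]
    exact mul_mem h ⟨_, rfl⟩

theorem divCond_inv (y : U) : Mero.DivCond D y.1 ((f⁻¹).1.1 y) := by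
  rw [divCond_iff D f hf, inv_mul_val]
  exact ⟨1, map_one _⟩

end Local

end MeroInvH8
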