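import Mathlib
import Groth.Prelude
import Groth.Agent.Lib.MeroInv2_helper8
import Groth.Agent.Lib.SDivGen_helper8
import Groth.Agent.Lib.ZClos3_helper8

set_option autoImplicit false
universe u

open CategoryTheory CategoryTheory.Limits AlgebraicGeometry TopologicalSpace Opposite
open Groth.Agent.Lib.Mero_helper4

namespace MeroInvH8

variable {X : Scheme.{u}}

section Main

variable (D : Mero.Divisor X) {U : X.Opens} (f : (Γ(Mero.kmod X, U))ˣ)
  (hf : ∀ y : U, D.1 y.1 = Mero.germOf f y)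

/-- the section `f⁻¹` of `O_X(D)` over an open `W ≤ U`. -/
noncomputable def invSec (W : X.Opens) (hW : W ≤ U) : Γ(Mero.divMod D, W) :=
  (⟨fun y => (f⁻¹).1.1 ⟨y.1, hW y.2⟩,
    ⟨(Mero.kLoc X).res (homOfLE hW) _ (f⁻¹).1.2,
      fun y => divCond_inv D f hf ⟨y.1, hW y.2⟩⟩⟩ : Γ(Mero.divMod D, W))

theorem invSec_val (W : X.Opens) (hW : W ≤ U) (y : W) :
    (invSec D f hf W hW).1 y = (f⁻¹).1.1 ⟨y.1, hW y.2⟩ := rfl

theorem smul_invSec_eq_zero (W : X.Opens) (hW : W ≤ U) (r : Γ(X, W))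
    (h : r • invSec D f hf W hW = 0) : r = 0 := by
  refine TopCat.Presheaf.section_ext X.sheaf W _ _ (fun y hy => ?_)
  show X.presheaf.germ W y hy r = X.presheaf.germ W y hy 0
  rw [map_zero]
  apply Mero.algebraMap_KStalk_injective y
  rw [map_zero]
  have h1 := congrArg (fun t : Γ(Mero.divMod D, W) => t.1 ⟨y, hy⟩) h
  have h2 : X.presheaf.germ W y hy r • (f⁻¹).1.1 ⟨y, hW hy⟩ = 0 := h1
  rw [Algebra.smul_def] at h2
  have h3 := congrArg (fun t => t * f.1.1 ⟨y, hW hy⟩) h2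
  simp only [mul_assoc, zero_mul] at h3
  rw [inv_mul_val, mul_one] at h3
  exact h3

theorem exists_smul_invSec_eq (W : X.Opens) (hW : W ≤ U) (t : Γ(Mero.divMod D, W)) :
    ∃ r : Γ(X, W), r • invSec D f hf W hW = t := by
  -- u := t * f|_W
  let fW : Γ(Mero.kmod X, W) := (Mero.kmod X).presheaf.map (homOfLE hW).op f.1
  let tK : Γ(Mero.kmod X, W) := (Mero.divModι D).app W t
  have hu : ∀ y : W, (tK * fW).1 y ∈
      (algebraMap (X.presheaf.stalk y.1) (Mero.KStalk X y.1)).range := by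
    intro y
    have h1 := (divCond_iff D f hf ⟨y.1, hW y.2⟩ (t.1 y)).1 (t.2.2 y)
    exact h1
  obtain ⟨r, hr⟩ := exists_toK_eq (tK * fW) hu
  refine ⟨r, ?_⟩
  apply Subtype.ext
  funext y
  show X.presheaf.germ W y.1 y.2 r • (f⁻¹).1.1 ⟨y.1, hW y.2⟩ = t.1 y
  have h1 := congrArg (fun s : Γ(Mero.kmod X, W) => s.1 y) hr
  have h2 : (LocalizedModule.mk (X.presheaf.germ W y.1 y.2 r) 1 : Mero.KStalk X y.1) =
      t.1 y * f.1.1 ⟨y.1, hW y.2⟩ := h1
  rw [Algebra.smul_def, ← mk_one_eq_algebraMap, h2, mul_assoc, mul_inv_val, mul_one]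

end Main

end MeroInvH8
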