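import Mathlib
import Groth.Prelude
import Groth.Agent.Lib.MeroInv3_helper8

set_option autoImplicit false
universe u

open CategoryTheory CategoryTheory.Limits AlgebraicGeometry TopologicalSpace Opposite
open Groth.Agent.Lib.Mero_helper4

namespace MeroInvH8

variable {X : Scheme.{u}}

theorem restrict_smul' (M : X.Modules) (U : X.Opens) (V : U.toScheme.Opens)
    (a : U.toScheme.ringCatSheaf.obj.obj (op V)) (s : (M.restrict U.ι).val.obj (op V)) :
    a • s = (((U.ι.appIso V).inv (show Γ(U.toScheme, V) from a)) •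
      (show Γ(M, U.ι ''ᵁ V) from s) : Γ(M, U.ι ''ᵁ V)) := by
  rfl

/-- S5096. -/
theorem isInvertible_divMod (D : Mero.Divisor X) : PicF.IsInvertible (Mero.divMod D) := by
  intro x
  obtain ⟨U, hxU, f, hf⟩ := D.2 x
  refine ⟨U, hxU, ⟨?_⟩⟩
  have hf' : ∀ y : U, D.1 y.1 = Mero.germOf f y := fun y => hf y
  let G : U.toScheme.Modules := (Mero.divMod D).restrict U.ι
  let t₀ : Γ(G, ⊤) := invSec D f hf' (U.ι ''ᵁ ⊤) (le_of_eq U.ι_image_top)
  let φ : Coh.structureModule U.toScheme ⟶ G := SDivGenH8.unitHom G t₀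
  have hφ : ∀ (V : U.toScheme.Opens) (a : U.toScheme.ringCatSheaf.obj.obj (op V)),
      φ.val.app (op V) a = (((U.ι.appIso V).inv (show Γ(U.toScheme, V) from a)) •
        invSec D f hf' (U.ι ''ᵁ V) (U.ι_image_le V) : Γ(Mero.divMod D, U.ι ''ᵁ V)) := by
    intro V a
    rw [SDivGenH8.unitHom_app]
    rfl
  have hinv : ∀ (V : U.toScheme.Opens) (a : Γ(U.toScheme, V)),
      (U.ι.appIso V).hom ((U.ι.appIso V).inv a) = a := by
    intro V a
    rw [← CommRingCat.comp_apply, Iso.inv_hom_id]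
    rfl
  have hinv' : ∀ (V : U.toScheme.Opens) (r : Γ(X, U.ι ''ᵁ V)),
      (U.ι.appIso V).inv ((U.ι.appIso V).hom r) = r := by
    intro V a
    rw [← CommRingCat.comp_apply, Iso.hom_inv_id]
    rfl
  haveI : IsIso φ := by
    refine ZClosH8.isIso_of_bijective φ (fun V _ => ⟨?_, ?_⟩)
    · rw [injective_iff_map_eq_zero]
      intro a ha
      have h1 : φ.val.app (op V) a = 0 := ha
      rw [hφ] at h1
      have h2 := smul_invSec_eq_zero D f hf' _ _ _ h1
      have h3 := congrArg (U.ι.appIso V).hom h2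
      rw [map_zero, hinv] at h3
      exact h3
    · intro t
      obtain ⟨r, hr⟩ := exists_smul_invSec_eq D f hf' (U.ι ''ᵁ V) (U.ι_image_le V) t
      refine ⟨(U.ι.appIso V).hom r, ?_⟩
      show φ.val.app (op V) _ = t
      rw [hφ, ← hr]
      congr 1
      exact hinv' V r
  exact (asIso φ).symm

end MeroInvH8
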