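import Mathlib
import Groth.Prelude
import Groth.Agent.Lib.MeroInv4_helper8
import Groth.Agent.Lib.RetrEq_helper8

set_option autoImplicit false
universe u

open CategoryTheory CategoryTheory.Limits AlgebraicGeometry TopologicalSpace Opposite
open Groth.Agent.Lib.Mero_helper4

namespace MeroInvH8

variable {X : Scheme.{u}}

/-- a trivialization of `M|_U` gives a generator `e₀ ∈ Γ(M, U)`: `r ↦ r • e₀|_W` is bijective
for every open `W ≤ U`. -/
theorem exists_generator (M : X.Modules) (U : X.Opens)
    (e : M.restrict U.ι ≅ Coh.structureModule U.toScheme) :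
    ∃ e₀ : Γ(M, U), ∀ (W : X.Opens) (hW : W ≤ U),
      Function.Bijective (fun r : Γ(X, W) => r • M.presheaf.map (homOfLE hW).op e₀) := by
  let G : U.toScheme.Modules := M.restrict U.ι
  let t₀ : Γ(G, ⊤) := QCohExtn.ap e.inv ⊤ (FLFH8.toM (1 : Γ(U.toScheme, ⊤)))
  have he : e.inv = SDivGenH8.unitHom G t₀ := FLFH8.hom_eq_unitHom e.inv
  let e₀ : Γ(M, U) := M.presheaf.map (homOfLE (le_of_eq U.ι_image_top.symm)).op t₀
  refine ⟨e₀, ?_⟩
  have key : ∀ (V' : U.toScheme.Opens) (W : X.Opens), W = U.ι ''ᵁ V' → ∀ (hW : W ≤ U),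
      Function.Bijective (fun r : Γ(X, W) => r • M.presheaf.map (homOfLE hW).op e₀) := by
    intro V' W hWV'
    subst hWV'
    intro hW
    have hbij : Function.Bijective (e.inv.val.app (op V')) := by
      haveI : IsIso (e.inv.val.app (op V')) := by
        have : IsIso ((SheafOfModules.forget _ ⋙ PresheafOfModules.evaluation _ (op V')).map e.inv) :=
          inferInstance
        exact this
      exact (ConcreteCategory.isIso_iff_bijective _).1 inferInstance
    have hinv' : ∀ (r : Γ(X, U.ι ''ᵁ V')),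
        (U.ι.appIso V').inv ((U.ι.appIso V').hom r) = r := by
      intro a
      rw [← CommRingCat.comp_apply, Iso.hom_inv_id]
      rfl
    have hinv : ∀ (a : Γ(U.toScheme, V')),
        (U.ι.appIso V').hom ((U.ι.appIso V').inv a) = a := by
      intro a
      rw [← CommRingCat.comp_apply, Iso.inv_hom_id]
      rfl
    have hmap : M.presheaf.map (homOfLE hW).op e₀ =
        (show Γ(M, U.ι ''ᵁ V') from G.val.map (homOfLE (le_top : V' ≤ ⊤)).op t₀) :=
      Groth.Agent.Lib.QCohLoc_helper4.map_map_eq M _ _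
        (U.ι.opensFunctor.map (homOfLE (le_top : V' ≤ ⊤))).op t₀
    have h1 : ∀ r : Γ(X, U.ι ''ᵁ V'), r • M.presheaf.map (homOfLE hW).op e₀ =
        e.inv.val.app (op V') ((U.ι.appIso V').hom r) := by
      intro r
      rw [he, SDivGenH8.unitHom_app, hmap]
      refine Eq.trans ?_ (restrict_smul' M U V' _ _).symm
      congr 1
      exact (hinv' r).symm
    constructor
    · intro r r' hrr'
      have h2 : r • M.presheaf.map (homOfLE hW).op e₀ = r' • M.presheaf.map (homOfLE hW).op e₀ :=
        hrr'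
      rw [h1, h1] at h2
      have h3 := hbij.1 h2
      have h4 := congrArg (U.ι.appIso V').inv h3
      rw [hinv', hinv'] at h4
      exact h4
    · intro t
      obtain ⟨a, ha⟩ := hbij.2 t
      refine ⟨(U.ι.appIso V').inv a, ?_⟩
      show (U.ι.appIso V').inv a • M.presheaf.map (homOfLE hW).op e₀ = t
      rw [h1, hinv]
      exact ha
  intro W hW
  refine key (U.ι ⁻¹ᵁ W) W ?_ hW
  rw [Scheme.Hom.image_preimage_eq_opensRange_inf, Scheme.Opens.opensRange_ι]
  exact (inf_eq_right.2 hW).symm

end MeroInvH8
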