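import Mathlib
import Groth.Prelude
import Groth.Agent.Lib.MeroInv5_helper8

set_option autoImplicit false
universe u

open CategoryTheory CategoryTheory.Limits AlgebraicGeometry TopologicalSpace Opposite
open Groth.Agent.Lib.Mero_helper4 ZClosH8

namespace MeroInvH8

variable {X : Scheme.{u}}

/-- in `K_X`, the scalar action is multiplication by the image under `toK`. -/
theorem kmod_smul_eq {V : X.Opens} (r : Γ(X, V)) (z : Γ(Mero.kmod X, V)) :
    r • z = Mero.toK X V r * z := by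
  apply kmod_ext
  intro y
  show X.presheaf.germ V y.1 y.2 r • z.1 y = (Mero.toK X V r).1 y * z.1 y
  rw [Mero.toK_apply, mk_one_eq_algebraMap, Algebra.smul_def]

theorem kmod_map_mul {U V : X.Opens} (h : V ≤ U) (a b : Γ(Mero.kmod X, U)) :
    (Mero.kmod X).presheaf.map (homOfLE h).op (a * b) =
      (Mero.kmod X).presheaf.map (homOfLE h).op a * (Mero.kmod X).presheaf.map (homOfLE h).op b :=
  rfl

theorem kmod_map_one {U V : X.Opens} (h : V ≤ U) :
    (Mero.kmod X).presheaf.map (homOfLE h).op (1 : Γ(Mero.kmod X, U)) = 1 :=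
  rfl

theorem kmod_map_toK {U V : X.Opens} (h : V ≤ U) (r : Γ(X, U)) :
    (Mero.kmod X).presheaf.map (homOfLE h).op (Mero.toK X U r) =
      Mero.toK X V (X.presheaf.map (homOfLE h).op r) := by
  apply kmod_ext
  intro y
  show (Mero.toK X U r).1 ⟨y.1, h y.2⟩ = (Mero.toK X V _).1 y
  rw [Mero.toK_apply, Mero.toK_apply, TopCat.Presheaf.germ_res_apply]

/-- restriction of a unit of `Γ(U, K_X)`. -/
theorem isUnit_map {U V : X.Opens} (h : V ≤ U) (f : (Γ(Mero.kmod X, U))ˣ) :
    IsUnit ((Mero.kmod X).presheaf.map (homOfLE h).op (f : Γ(Mero.kmod X, U))) := by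
  refine ⟨⟨(Mero.kmod X).presheaf.map (homOfLE h).op f.1,
    (Mero.kmod X).presheaf.map (homOfLE h).op f.2, ?_, ?_⟩, rfl⟩
  · rw [← kmod_map_mul, f.val_inv, kmod_map_one]
  · rw [← kmod_map_mul, f.inv_val, kmod_map_one]

end MeroInvH8

namespace MeroInvH8

variable {X : Scheme.{u}}

/-- converse of `exists_generator`. -/
theorem iso_of_generator (M : X.Modules) (U : X.Opens) (e₀ : Γ(M, U))
    (h : ∀ (W : X.Opens) (hW : W ≤ U),
      Function.Bijective (fun r : Γ(X, W) => r • M.presheaf.map (homOfLE hW).op e₀)) :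
    Nonempty (M.restrict U.ι ≅ Coh.structureModule U.toScheme) := by
  let G : U.toScheme.Modules := M.restrict U.ι
  let t₀ : Γ(G, ⊤) := M.presheaf.map (homOfLE (le_of_eq U.ι_image_top : U.ι ''ᵁ ⊤ ≤ U)).op e₀
  let φ : Coh.structureModule U.toScheme ⟶ G := SDivGenH8.unitHom G t₀
  have hinv' : ∀ (V' : U.toScheme.Opens) (r : Γ(X, U.ι ''ᵁ V')),
      (U.ι.appIso V').inv ((U.ι.appIso V').hom r) = r := by
    intro V' a
    rw [← CommRingCat.comp_apply, Iso.hom_inv_id]
    rfl
  have hinv : ∀ (V' : U.toScheme.Opens) (a : Γ(U.toScheme, V')),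
      (U.ι.appIso V').hom ((U.ι.appIso V').inv a) = a := by
    intro V' a
    rw [← CommRingCat.comp_apply, Iso.inv_hom_id]
    rfl
  have hφ : ∀ (V : U.toScheme.Opens) (a : U.toScheme.ringCatSheaf.obj.obj (op V)),
      φ.val.app (op V) a = (((U.ι.appIso V).inv (show Γ(U.toScheme, V) from a)) •
        M.presheaf.map (homOfLE (U.ι_image_le V)).op e₀ : Γ(M, U.ι ''ᵁ V)) := by
    intro V a
    have hmap : M.presheaf.map (homOfLE (U.ι_image_le V)).op e₀ =
        (show Γ(M, U.ι ''ᵁ V) from G.val.map (homOfLE (le_top : V ≤ ⊤)).op t₀) :=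
      (Groth.Agent.Lib.QCohLoc_helper4.map_map_eq M _
        (U.ι.opensFunctor.map (homOfLE (le_top : V ≤ ⊤))).op _ e₀).symm
    rw [SDivGenH8.unitHom_app, hmap]
    rfl
  haveI : IsIso φ := by
    refine ZClosH8.isIso_of_bijective φ (fun V _ => ⟨?_, ?_⟩)
    · intro a a' haa'
      have h1 : φ.val.app (op V) a = φ.val.app (op V) a' := haa'
      rw [hφ, hφ] at h1
      have h2 := (h _ (U.ι_image_le V)).1 h1
      have h3 := congrArg (U.ι.appIso V).hom h2
      rw [hinv, hinv] at h3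
      exact h3
    · intro t
      obtain ⟨r, hr⟩ := (h _ (U.ι_image_le V)).2 t
      refine ⟨(U.ι.appIso V).hom r, ?_⟩
      show φ.val.app (op V) _ = t
      rw [hφ, ← hr]
      congr 1
      exact hinv' V r
  exact ⟨(asIso φ).symm⟩

end MeroInvH8
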