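import Mathlib
import Groth.Prelude
import Groth.Agent.Lib.MeroInv6_helper8

set_option autoImplicit false
universe u

open CategoryTheory CategoryTheory.Limits AlgebraicGeometry TopologicalSpace Opposite
open Groth.Agent.Lib.Mero_helper4 ZClosH8

namespace MeroInvH8

variable {X : Scheme.{u}} (J : X.Modules) (ι : J ⟶ Mero.kmod X)

/-- `ι (r • e₀|_W) = toK r * (ι e₀)|_W`. -/
theorem ι_smul_res {U W : X.Opens} (hW : W ≤ U) (e₀ : Γ(J, U)) (r : Γ(X, W)) :
    ι.app W (r • J.presheaf.map (homOfLE hW).op e₀) =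
      Mero.toK X W r * (Mero.kmod X).presheaf.map (homOfLE hW).op (ι.app U e₀) := by
  rw [Scheme.Modules.Hom.app_smul, kmod_smul_eq]
  congr 1
  exact app_res ι hW e₀

variable [Mono ι]

/-- (⇐) of S5102. -/
theorem isInvertible_of_local
    (h : ∀ x : X, ∃ (U : X.Opens) (_ : x ∈ U) (f : (Γ(Mero.kmod X, U))ˣ),
      ∀ (V : X.Opens) (hV : V ≤ U),
        Set.range ⇑(ι.val.app (Opposite.op V)) =
          {t : Γ(Mero.kmod X, V) | ∃ r : Γ(X, V),
            t = Mero.toK X V r * (Mero.kmod X).presheaf.map (homOfLE hV).op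
              (f : Γ(Mero.kmod X, U))}) :
    PicF.IsInvertible J := by
  intro x
  obtain ⟨U, hxU, f, hrange⟩ := h x
  refine ⟨U, hxU, ?_⟩
  -- the generator
  have h1 : (f : Γ(Mero.kmod X, U)) ∈ Set.range ⇑(ι.val.app (Opposite.op U)) := by
    rw [hrange U le_rfl]
    refine ⟨1, ?_⟩
    rw [map_one, one_mul]
    exact (res_self (Mero.kmod X) le_rfl _).symm
  obtain ⟨e₀, he₀⟩ := h1
  have he₀' : ι.app U e₀ = (f : Γ(Mero.kmod X, U)) := he₀
  refine iso_of_generator J U e₀ (fun W hW => ⟨?_, ?_⟩)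
  · intro r r' hrr'
    have h2 : r • J.presheaf.map (homOfLE hW).op e₀ = r' • J.presheaf.map (homOfLE hW).op e₀ :=
      hrr'
    have h3 := congrArg (ι.app W) h2
    rw [ι_smul_res, ι_smul_res, he₀'] at h3
    have h4 := (isUnit_map hW f).mul_left_injective h3
    exact toK_injective W h4
  · intro t
    have h2 : ι.app W t ∈ Set.range ⇑(ι.val.app (Opposite.op W)) := ⟨t, rfl⟩
    rw [hrange W hW] at h2
    obtain ⟨r, hr⟩ := h2
    refine ⟨r, ?_⟩
    apply app_injective_of_mono ι W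
    show ι.app W (r • J.presheaf.map (homOfLE hW).op e₀) = ι.app W t
    rw [ι_smul_res, he₀', hr]

end MeroInvH8

namespace MeroInvH8

variable {X : Scheme.{u}} (J : X.Modules) (ι : J ⟶ Mero.kmod X) [Mono ι]

theorem mk_eq_toK_mul_invK {U : X.Opens} (a : Γ(X, U)) (b : Mero.regSub X U) (y : U) :
    (LocalizedModule.mk (X.presheaf.germ U y.1 y.2 a) (Mero.regGerm y b) : Mero.KStalk X y.1) =
      (Mero.toK X U a * invK b).1 y := by
  show _ = (LocalizedModule.mk (X.presheaf.germ U y.1 y.2 a) 1 : Mero.KStalk X y.1) *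
    LocalizedModule.mk 1 (Mero.regGerm y b)
  rw [mk_one_eq_algebraMap, mk_eq_mk', mk_eq_mk', IsLocalization.mul_mk'_eq_mk'_of_mul, mul_one]

/-- (⇒) of S5102. -/
theorem local_of_isInvertible (hJ : PicF.IsInvertible J) (x : X) :
    ∃ (U : X.Opens) (_ : x ∈ U) (f : (Γ(Mero.kmod X, U))ˣ),
      ∀ (V : X.Opens) (hV : V ≤ U),
        Set.range ⇑(ι.val.app (Opposite.op V)) =
          {t : Γ(Mero.kmod X, V) | ∃ r : Γ(X, V),
            t = Mero.toK X V r * (Mero.kmod X).presheaf.map (homOfLE hV).op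
              (f : Γ(Mero.kmod X, U))} := by
  obtain ⟨U₁, hxU₁, ⟨e⟩⟩ := hJ x
  obtain ⟨e₀, hbij⟩ := exists_generator J U₁ e
  set z : Γ(Mero.kmod X, U₁) := ι.app U₁ e₀ with hz
  obtain ⟨U, hxU, i, a, b, hab⟩ := z.2 ⟨x, hxU₁⟩
  have hUU₁ : U ≤ U₁ := i.le
  have hab' : ∀ y : U, z.1 ⟨y.1, hUU₁ y.2⟩ =
      LocalizedModule.mk (X.presheaf.germ U y.1 y.2 a) (Mero.regGerm y b) := hab
  -- `z|_U = toK a * invK b`
  have hzU : (Mero.kmod X).presheaf.map (homOfLE hUU₁).op z = Mero.toK X U a * invK b := by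
    apply kmod_ext
    intro y
    rw [← mk_eq_toK_mul_invK]
    exact hab' y
  -- `a` is regular
  have ha : a ∈ Mero.regSub X U := by
    intro y
    rw [mem_nonZeroDivisors_iff_right]
    intro cy hcy
    obtain ⟨V', hyV', c, rfl⟩ := TopCat.Presheaf.exists_germ_eq X.presheaf cy
    have hy0 : y.1 ∈ U ⊓ V' := ⟨y.2, hyV'⟩
    have h1 : X.presheaf.germ (U ⊓ V') y.1 hy0
        (X.presheaf.map (homOfLE (inf_le_left : U ⊓ V' ≤ U)).op a *
          X.presheaf.map (homOfLE (inf_le_right : U ⊓ V' ≤ V')).op c) =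
        X.presheaf.germ (U ⊓ V') y.1 hy0 0 := by
      rw [map_mul, TopCat.Presheaf.germ_res_apply, TopCat.Presheaf.germ_res_apply, map_zero,
        mul_comm]
      exact hcy
    obtain ⟨W, hyW, iU, iV, h2⟩ := TopCat.Presheaf.germ_eq X.presheaf y.1 hy0 hy0 _ _ h1
    have hWU : W ≤ U := iU.le.trans inf_le_left
    have hWV' : W ≤ V' := iU.le.trans inf_le_right
    have h3 : X.presheaf.map (homOfLE hWU).op a * X.presheaf.map (homOfLE hWV').op c = 0 := by
      rw [map_mul, map_zero] at h2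
      have e1 : X.presheaf.map iU.op (X.presheaf.map (homOfLE (inf_le_left : U ⊓ V' ≤ U)).op a) =
          X.presheaf.map (homOfLE hWU).op a := by
        rw [← CommRingCat.comp_apply, ← Functor.map_comp]
        rfl
      have e2 : X.presheaf.map iU.op (X.presheaf.map (homOfLE (inf_le_right : U ⊓ V' ≤ V')).op c) =
          X.presheaf.map (homOfLE hWV').op c := by
        rw [← CommRingCat.comp_apply, ← Functor.map_comp]
        rfl
      rw [e1, e2] at h2
      exact h2
    set c' := X.presheaf.map (homOfLE hWV').op c with hc'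
    have hWU₁ : W ≤ U₁ := hWU.trans hUU₁
    have h4 : ι.app W (c' • J.presheaf.map (homOfLE hWU₁).op e₀) = 0 := by
      rw [ι_smul_res]
      have e3 : (Mero.kmod X).presheaf.map (homOfLE hWU₁).op (ι.app U₁ e₀) =
          (Mero.kmod X).presheaf.map (homOfLE hWU).op
            ((Mero.kmod X).presheaf.map (homOfLE hUU₁).op z) :=
        (res_res (Mero.kmod X) hUU₁ hWU z).symm
      rw [e3, hzU, kmod_map_mul, kmod_map_toK, ← mul_assoc, ← map_mul, mul_comm c', h3, map_zero,
        zero_mul]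
    have h5 : c' • J.presheaf.map (homOfLE hWU₁).op e₀ = 0 := by
      apply app_injective_of_mono ι W
      rw [h4, map_zero]
    have h6 : c' = 0 := by
      apply (hbij W hWU₁).1
      show c' • J.presheaf.map (homOfLE hWU₁).op e₀ = (0 : Γ(X, W)) • _
      rw [h5, zero_smul]
    rw [← TopCat.Presheaf.germ_res_apply X.presheaf (homOfLE hWV') y.1 hyW c, ← hc', h6, map_zero]
  let a' : Mero.regSub X U := ⟨a, ha⟩
  have hinv1 : (Mero.toK X U a * invK b) * (Mero.toK X U b.1 * invK a') = 1 := by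
    calc (Mero.toK X U a * invK b) * (Mero.toK X U b.1 * invK a')
        = (Mero.toK X U a'.1 * invK a') * (Mero.toK X U b.1 * invK b) := by ring
      _ = 1 := by rw [toK_mul_invK a', toK_mul_invK b, one_mul]
  let f : (Γ(Mero.kmod X, U))ˣ := ⟨Mero.toK X U a * invK b, Mero.toK X U b.1 * invK a', hinv1,
    by rw [mul_comm]; exact hinv1⟩
  refine ⟨U, hxU, f, fun V hV => ?_⟩
  have hVU₁ : V ≤ U₁ := hV.trans hUU₁
  have hzV : (Mero.kmod X).presheaf.map (homOfLE hVU₁).op z =
      (Mero.kmod X).presheaf.map (homOfLE hV).op (f : Γ(Mero.kmod X, U)) := by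
    show _ = (Mero.kmod X).presheaf.map (homOfLE hV).op (Mero.toK X U a * invK b)
    rw [← hzU]
    exact (res_res (Mero.kmod X) hUU₁ hV z).symm
  ext t
  constructor
  · rintro ⟨s, rfl⟩
    obtain ⟨r, hr⟩ := (hbij V hVU₁).2 s
    refine ⟨r, ?_⟩
    have hr' : r • J.presheaf.map (homOfLE hVU₁).op e₀ = s := hr
    show ι.app V s = _
    rw [← hr', ι_smul_res, ← hz, hzV]
  · rintro ⟨r, rfl⟩
    refine ⟨r • J.presheaf.map (homOfLE hVU₁).op e₀, ?_⟩
    show ι.app V _ = _
    rw [ι_smul_res, ← hz, hzV]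

end MeroInvH8
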