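import Mathlib
import Groth.Prelude
import Groth.Agent.Lib.MeroInv7_helper8
import Groth.Agent.Lib.Bilin_helper8
import Groth.Agent.Lib.Tens41_helper8

set_option autoImplicit false
universe u

open CategoryTheory CategoryTheory.Limits AlgebraicGeometry TopologicalSpace Opposite
open Groth.Agent.Lib.Mero_helper4 ZClosH8 QcqsLoc QCohExtn GenLocH8 FLFH8

namespace MeroInvH8

variable {X : Scheme.{u}}

/-- the pointwise condition for the product divisor. -/
theorem divCond_mul (D E : Mero.Divisor X) (x : X) (t t' : Mero.KStalk X x)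
    (ht : Mero.DivCond D x t) (ht' : Mero.DivCond E x t') : Mero.DivCond (D * E) x (t * t') := by
  intro h hh
  obtain ⟨g, hg⟩ := QuotientGroup.mk_surjective (D.1 x)
  obtain ⟨g', hg'⟩ := QuotientGroup.mk_surjective (E.1 x)
  have h1 : (D * E).1 x = D.1 x * E.1 x := rfl
  rw [h1, ← hg, ← hg', ← QuotientGroup.mk_mul, QuotientGroup.eq] at hh
  obtain ⟨v, hv⟩ := hh
  have h2 := congrArg Units.val hv
  rw [Units.coe_map, Units.val_mul] at h2
  have h3 : (h : Mero.KStalk X x) = (g : Mero.KStalk X x) * (g' : Mero.KStalk X x) *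
      algebraMap _ _ (v : X.presheaf.stalk x) := by
    have h5 : (((g * g')⁻¹ : (Mero.KStalk X x)ˣ) : Mero.KStalk X x) * ((g : Mero.KStalk X x) * g') = 1 := by
      rw [← Units.val_mul, ← Units.val_mul, inv_mul_cancel, Units.val_one]
    calc (h : Mero.KStalk X x) = ((g : Mero.KStalk X x) * g') *
          ((((g * g')⁻¹ : (Mero.KStalk X x)ˣ) : Mero.KStalk X x) * h) := by
          rw [← mul_assoc, mul_comm ((g : Mero.KStalk X x) * g'), h5, one_mul]
      _ = _ := by rw [← h2]; rfl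
  rw [h3]
  have e1 := ht g hg.symm
  have e2 := ht' g' hg'.symm
  have : t * t' * ((g : Mero.KStalk X x) * (g' : Mero.KStalk X x) *
      algebraMap _ _ (v : X.presheaf.stalk x)) = (t * g) * (t' * g') * algebraMap _ _ (v : X.presheaf.stalk x) := by
    ring
  rw [this]
  exact mul_mem (mul_mem e1 e2) ⟨_, rfl⟩

/-- multiplication `O(D) × O(E) → O(DE)`. -/
noncomputable def mulData (D E : Mero.Divisor X) :
    BilinData (Mero.divMod D) (Mero.divMod E) (Mero.divMod (D * E)) where
  β U t t' := (⟨fun y => t.1 y * t'.1 y,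
    ⟨Mero.kLoc_mul X U t.1 t'.1 t.2.1 t'.2.1,
      fun y => divCond_mul D E y.1 _ _ (t.2.2 y) (t'.2.2 y)⟩⟩ : Γ(Mero.divMod (D * E), U))
  add_left U m m' n := Subtype.ext (funext fun y => add_mul _ _ _)
  smul_left U r m n := Subtype.ext (funext fun y => smul_mul_assoc _ _ _)
  add_right U m n n' := Subtype.ext (funext fun y => mul_add _ _ _)
  smul_right U r m n := Subtype.ext (funext fun y => mul_smul_comm _ _ _)
  natural h m n := rfl

end MeroInvH8

namespace MeroInvH8

variable {X : Scheme.{u}}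

theorem isGen_invSec (D : Mero.Divisor X) {U : X.Opens} (f : (Γ(Mero.kmod X, U))ˣ)
    (hf : ∀ y : U, D.1 y.1 = Mero.germOf f y) :
    IsGen (Mero.divMod D) U (invSec D f hf U le_rfl) := by
  intro O hO
  have h1 : rF (Mero.divMod D) hO (invSec D f hf U le_rfl) = invSec D f hf O hO := rfl
  rw [h1]
  constructor
  · intro l
    obtain ⟨r, hr⟩ := exists_smul_invSec_eq D f hf O hO l
    exact ⟨r, hr.symm⟩
  · intro c hc
    exact smul_invSec_eq_zero D f hf O hO c hc

theorem germOf_mul {U : X.Opens} (f g : (Γ(Mero.kmod X, U))ˣ) (y : U) :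
    Mero.germOf (f * g) y = Mero.germOf f y * Mero.germOf g y := by
  rw [Mero.germOf, Mero.germOf, Mero.germOf, map_mul, QuotientGroup.mk_mul]

/-- S19455. -/
theorem exists_mul_iso (D E : Mero.Divisor X) :
    ∃ μ : CohB1.tensorMod (Mero.divMod D) (Mero.divMod E) ⟶ Mero.divMod (D * E),
      (∀ (U : X.Opens) (t : Γ(Mero.divMod D, U)) (t' : Γ(Mero.divMod E, U)),
        (Mero.divModι (D * E)).app U (μ.app U (SecTwist.tmul (Mero.divMod D) (Mero.divMod E) U t t')) =
          (Mero.divModι D).app U t * (Mero.divModι E).app U t') ∧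
      IsIso μ := by
  refine ⟨(mulData D E).toHom, ?_, ?_⟩
  · intro U t t'
    have h1 := (mulData D E).toHom_tmul U t t'
    have h2 : (mulData D E).toHom.app U (SecTwist.tmul (Mero.divMod D) (Mero.divMod E) U t t') =
        (mulData D E).β U t t' := h1
    rw [h2]
    rfl
  · refine TensH8.isIso_of_isGen_cover _ (fun x => ?_)
    obtain ⟨U₁, hxU₁, f₁, hf₁⟩ := D.2 x
    obtain ⟨U₂, hxU₂, f₂, hf₂⟩ := E.2 x
    let U : X.Opens := U₁ ⊓ U₂
    have hU₁ : U ≤ U₁ := inf_le_left
    have hU₂ : U ≤ U₂ := inf_le_right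
    obtain ⟨g₁, hg₁⟩ := isUnit_map hU₁ f₁
    obtain ⟨g₂, hg₂⟩ := isUnit_map hU₂ f₂
    have hD : ∀ y : U, D.1 y.1 = Mero.germOf g₁ y := by
      intro y
      rw [hf₁ ⟨y.1, hU₁ y.2⟩]
      show QuotientGroup.mk _ = QuotientGroup.mk _
      congr 1
      apply Units.ext
      show _ = (g₁ : Γ(Mero.kmod X, U)).1 y
      rw [hg₁]
      rfl
    have hE : ∀ y : U, E.1 y.1 = Mero.germOf g₂ y := by
      intro y
      rw [hf₂ ⟨y.1, hU₂ y.2⟩]
      show QuotientGroup.mk _ = QuotientGroup.mk _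
      congr 1
      apply Units.ext
      show _ = (g₂ : Γ(Mero.kmod X, U)).1 y
      rw [hg₂]
      rfl
    have hDE : ∀ y : U, (D * E).1 y.1 = Mero.germOf (g₁ * g₂) y := by
      intro y
      rw [germOf_mul, ← hD y, ← hE y]
      rfl
    refine ⟨U, ⟨hxU₁, hxU₂⟩, SecTwist.tmul (Mero.divMod D) (Mero.divMod E) U
      (invSec D g₁ hD U le_rfl) (invSec E g₂ hE U le_rfl),
      TensH8.isGen_tmul (isGen_invSec D g₁ hD) (isGen_invSec E g₂ hE), ?_⟩
    have h1 := (mulData D E).toHom_tmul U (invSec D g₁ hD U le_rfl) (invSec E g₂ hE U le_rfl)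
    have h2 : ap (mulData D E).toHom U (SecTwist.tmul (Mero.divMod D) (Mero.divMod E) U
        (invSec D g₁ hD U le_rfl) (invSec E g₂ hE U le_rfl)) =
        invSec (D * E) (g₁ * g₂) hDE U le_rfl := by
      refine Eq.trans h1 ?_
      apply Subtype.ext
      funext y
      show (g₁⁻¹).1.1 y * (g₂⁻¹).1.1 y = ((g₁ * g₂)⁻¹).1.1 y
      rw [mul_inv_rev, mul_comm g₂⁻¹]
      rfl
    rw [h2]
    exact isGen_invSec (D * E) (g₁ * g₂) hDE

end MeroInvH8
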