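import Mathlib
import Groth.Prelude
import Groth.Agent.Lib.Mero_helper4
import Groth.Agent.Lib.SchDenseFlat_helper5

/-!
# Pseudo-functions are meromorphic functions (helper5)

If `V ⊆ U` is schematically dense in `U` and `X` is locally Noetherian (or reduced with locally
finitely many irreducible components), every function on `V` is the restriction of a meromorphic
function on `U`.
-/

universe u

open CategoryTheory IsLocalRing AlgebraicGeometry TopologicalSpace Opposite

namespace Groth.Agent.PseudoFn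

variable {X : Scheme.{u}}

/-- a section vanishing on the locus where a regular section is invertible is zero -/
theorem eq_zero_of_germ_basicOpen {W : X.Opens} (t : Γ(X, W)) (ht : t ∈ Mero.regSub X W)
    {W' : X.Opens} (hW' : W' ≤ W) (c : Γ(X, W'))
    (hc : ∀ (z : X) (hz : z ∈ W'), z ∈ X.basicOpen t → X.presheaf.germ W' z hz c = 0) :
    c = 0 := by
  apply TopCat.Presheaf.section_ext X.sheaf W'
  intro z hz
  obtain ⟨_, ⟨W₂, hW₂ : IsAffineOpen W₂, rfl⟩, hzW₂, hsub⟩ :=
    (X.isBasis_affineOpens).exists_subset_of_mem_open hz W'.isOpen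
  have hW₂' : W₂ ≤ W' := hsub
  have hzW₂' : z ∈ W₂ := hzW₂
  obtain ⟨n, hn⟩ := Groth.Agent.Lib.Mero_helper4.exists_pow_mul_eq_zero_of_germ hW₂
    (X.presheaf.map (homOfLE (hW₂'.trans hW')).op t) (X.presheaf.map (homOfLE hW₂').op c) (by
    intro y hy
    have hyW₂ : y ∈ W₂ := X.basicOpen_le _ hy
    have hyt : y ∈ X.basicOpen t := by
      rw [Scheme.basicOpen_res] at hy
      exact hy.2
    refine (TopCat.Presheaf.germ_res_apply X.presheaf (homOfLE hW₂') y hyW₂ c).trans ?_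
    exact hc y (hW₂' hyW₂) hyt)
  have h1 := congrArg (X.presheaf.germ W₂ z hzW₂') hn
  rw [map_mul, map_pow, map_zero, TopCat.Presheaf.germ_res_apply,
    TopCat.Presheaf.germ_res_apply] at h1
  have hnzd : (X.presheaf.germ W z (hW' hz) t) ^ n ∈ nonZeroDivisors (X.presheaf.stalk z) :=
    pow_mem (ht ⟨z, hW' hz⟩) n
  have h2 : X.presheaf.germ W' z hz c = 0 :=
    (mem_nonZeroDivisors_iff_right.mp hnzd) _ (by rw [mul_comm]; exact h1)
  exact h2.trans (map_zero (X.presheaf.germ W' z hz).hom).symm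

/-- the ideal of functions on an affine open `W` vanishing at the points of `W` outside `V` -/
noncomputable def idealIn (V : X.Opens) {W : X.Opens} (hW : IsAffineOpen W) : Ideal Γ(X, W) :=
  PrimeSpectrum.vanishingIdeal
    {p | ∃ (y : X) (hy : y ∈ W), y ∉ V ∧ hW.primeIdealOf ⟨y, hy⟩ = p}

theorem basicOpen_le_of_mem_idealIn (V : X.Opens) {W : X.Opens} (hW : IsAffineOpen W)
    {a : Γ(X, W)} (ha : a ∈ idealIn V hW) : X.basicOpen a ≤ V := by
  intro y hya
  by_contra hyV
  have hy : y ∈ W := X.basicOpen_le a hya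
  have h1 := (PrimeSpectrum.mem_vanishingIdeal _ _).mp ha _ ⟨y, hy, hyV, rfl⟩
  exact (StalkLocH8.notMem_prime_of_mem_basicOpen hW hy hya) h1

theorem mem_idealIn_of_basicOpen_le (V : X.Opens) {W : X.Opens} (hW : IsAffineOpen W)
    {b : Γ(X, W)} (hbV : X.basicOpen b ≤ V) : b ∈ idealIn V hW := by
  unfold idealIn
  rw [PrimeSpectrum.mem_vanishingIdeal]
  rintro p ⟨z, hz, hzV, rfl⟩
  by_contra hbp
  exact hzV (hbV (FLFH8.mem_basicOpen_of_notMem_prime hW hz hbp))

theorem not_idealIn_le (V : X.Opens) {W : X.Opens} (hW : IsAffineOpen W) {y : X} (hy : y ∈ W)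
    (hyV : y ∈ V) : ¬ idealIn V hW ≤ (hW.primeIdealOf ⟨y, hy⟩).asIdeal := by
  intro hle
  obtain ⟨b, hbV, hyb⟩ := hW.exists_basicOpen_le (V := V) ⟨y, hyV⟩ hy
  exact (StalkLocH8.notMem_prime_of_mem_basicOpen hW hy hyb)
    (hle (mem_idealIn_of_basicOpen_le V hW hbV))

/-- relative form: an open which is schematically dense in `U` contains the associated points
lying in `U` -/
theorem mem_of_isAss [IsLocallyNoetherian X] (U V : X.Opens)
    (hV : ∀ W : X.Opens, W ≤ U →
      Function.Injective ⇑(X.presheaf.map (homOfLE (inf_le_left : W ⊓ V ≤ W)).op))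
    (x : X) (hxU : x ∈ U)
    (hx : IsAssociatedPrime (maximalIdeal (X.presheaf.stalk x)) (X.presheaf.stalk x)) :
    x ∈ V := by
  by_contra hxV
  obtain ⟨_, ⟨W, hW : IsAffineOpen W, rfl⟩, hxW, hWsub⟩ :=
    (X.isBasis_affineOpens).exists_subset_of_mem_open hxU U.isOpen
  have hWU : W ≤ U := hWsub
  have hxW' : x ∈ W := hxW
  haveI : IsNoetherianRing Γ(X, W) := IsLocallyNoetherian.component_noetherian ⟨W, hW⟩
  have hp := (Groth.Agent.SchDense.isAss_stalk_iff hW hxW').mp hx
  obtain ⟨hprime, a, ha⟩ := isAssociatedPrime_iff.1 hp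
  have hane : a ≠ 0 := by
    rintro rfl
    apply hprime.ne_top
    rw [ha]
    ext r
    simp [Submodule.mem_colon_singleton]
  have hres : X.presheaf.map (homOfLE (inf_le_left : W ⊓ V ≤ W)).op a = 0 := by
    apply TopCat.Presheaf.section_ext X.sheaf (W ⊓ V)
    intro y hy
    have hyW : y ∈ W := hy.1
    have hyV : y ∈ V := hy.2
    have e0 : X.presheaf.germ (W ⊓ V) y hy
        (X.presheaf.map (homOfLE (inf_le_left : W ⊓ V ≤ W)).op a) =
        X.presheaf.germ W y hyW a :=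
      TopCat.Presheaf.germ_res_apply X.presheaf (homOfLE (inf_le_left : W ⊓ V ≤ W)) y hy a
    change X.presheaf.germ (W ⊓ V) y hy _ = X.presheaf.germ (W ⊓ V) y hy 0
    rw [e0, map_zero]
    have hnle : ¬ (hW.primeIdealOf ⟨x, hxW'⟩) ≤ (hW.primeIdealOf ⟨y, hyW⟩) := by
      intro hle
      have h1 := (PrimeSpectrum.le_iff_specializes _ _).mp hle
      have h2 := h1.map hW.fromSpec.continuous
      rw [hW.fromSpec_primeIdealOf, hW.fromSpec_primeIdealOf] at h2
      exact hxV (h2.mem_open V.isOpen hyV)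
    have hnle' : ¬ (hW.primeIdealOf ⟨x, hxW'⟩).asIdeal ≤ (hW.primeIdealOf ⟨y, hyW⟩).asIdeal :=
      hnle
    obtain ⟨t, htp, htq⟩ := SetLike.not_le_iff_exists.mp hnle'
    have hta : t * a = 0 := by
      have h3 : t ∈ (⊥ : Submodule Γ(X, W) Γ(X, W)).colon {a} := ha ▸ htp
      rw [Submodule.mem_colon_singleton, Submodule.mem_bot] at h3
      exact h3
    letI := TopCat.Presheaf.algebra_section_stalk X.presheaf (⟨y, hyW⟩ : W)
    haveI : IsLocalization.AtPrime (X.presheaf.stalk y)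
        (hW.primeIdealOf ⟨y, hyW⟩).asIdeal := hW.isLocalization_stalk ⟨y, hyW⟩
    have hu : IsUnit ((X.presheaf.germ W y hyW).hom t) :=
      IsLocalization.map_units (X.presheaf.stalk y)
        (⟨t, htq⟩ : (hW.primeIdealOf ⟨y, hyW⟩).asIdeal.primeCompl)
    have h4 : (X.presheaf.germ W y hyW).hom t * (X.presheaf.germ W y hyW).hom a = 0 := by
      rw [← map_mul, hta, map_zero]
    exact hu.mul_right_eq_zero.mp h4
  have h5 := hV W hWU (by rw [hres, map_zero] :
    X.presheaf.map (homOfLE (inf_le_left : W ⊓ V ≤ W)).op a =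
      X.presheaf.map (homOfLE (inf_le_left : W ⊓ V ≤ W)).op 0)
  exact hane h5

/-- Noetherian case: `V` contains the basic open of a nonzerodivisor of every affine open of `U` -/
theorem exists_basicOpen_le_noeth [IsLocallyNoetherian X] (U V : X.Opens)
    (hV : ∀ W : X.Opens, W ≤ U →
      Function.Injective ⇑(X.presheaf.map (homOfLE (inf_le_left : W ⊓ V ≤ W)).op))
    {W : X.Opens} (hW : IsAffineOpen W) (hWU : W ≤ U) :
    ∃ t : Γ(X, W), t ∈ nonZeroDivisors Γ(X, W) ∧ X.basicOpen t ≤ V := by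
  haveI : IsNoetherianRing Γ(X, W) := IsLocallyNoetherian.component_noetherian ⟨W, hW⟩
  obtain ⟨t, htI, ht⟩ := Groth.Agent.SchDenseFlat.exists_nzd (idealIn V hW) (by
    intro P hP hle
    haveI : P.IsPrime := hP.isPrime
    obtain ⟨y, hy, hPy⟩ := Groth.Agent.Hartogs.exists_point hW P
    have hyass : IsAssociatedPrime (maximalIdeal (X.presheaf.stalk y)) (X.presheaf.stalk y) :=
      (Groth.Agent.SchDense.isAss_stalk_iff hW hy).mpr (by rw [hPy]; exact hP)
    have hyV : y ∈ V := mem_of_isAss U V hV y (hWU hy) hyass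
    apply not_idealIn_le V hW hy hyV
    rw [hPy]
    exact hle)
  exact ⟨t, ht, basicOpen_le_of_mem_idealIn V hW htI⟩

/-- reduced case with finitely many minimal primes -/
theorem exists_basicOpen_le_red [AlgebraicGeometry.IsReduced X] (U V : X.Opens)
    (hV : ∀ W : X.Opens, W ≤ U →
      Function.Injective ⇑(X.presheaf.map (homOfLE (inf_le_left : W ⊓ V ≤ W)).op))
    {W : X.Opens} (hW : IsAffineOpen W) (hWU : W ≤ U)
    (hfin : (minimalPrimes Γ(X, W)).Finite) :
    ∃ t : Γ(X, W), t ∈ nonZeroDivisors Γ(X, W) ∧ X.basicOpen t ≤ V := by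
  classical
  have hrad : sInf (⊥ : Ideal Γ(X, W)).minimalPrimes = ⊥ := by
    rw [Ideal.sInf_minimalPrimes]
    exact nilradical_eq_zero Γ(X, W)
  have hnot : ∀ p ∈ minimalPrimes Γ(X, W), ¬ idealIn V hW ≤ p := by
    intro p hp hle
    haveI hpp : p.IsPrime := hp.1.1
    obtain ⟨η, hηW, rfl⟩ := Groth.Agent.Hartogs.exists_point hW p
    have hηV : η ∉ V := fun h => not_idealIn_le V hW hηW h hle
    have hex : ∀ q ∈ minimalPrimes Γ(X, W), q ≠ (hW.primeIdealOf ⟨η, hηW⟩).asIdeal →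
        ∃ s ∈ q, s ∉ (hW.primeIdealOf ⟨η, hηW⟩).asIdeal := by
      intro q hq hne
      by_contra hcon
      push Not at hcon
      have hqle : q ≤ (hW.primeIdealOf ⟨η, hηW⟩).asIdeal := hcon
      exact hne (le_antisymm hqle (hp.2 ⟨hq.1.1, bot_le⟩ hqle))
    choose! σ hσq hσp using hex
    have hsp : (∏ q ∈ hfin.toFinset.erase (hW.primeIdealOf ⟨η, hηW⟩).asIdeal, σ q) ∉
        (hW.primeIdealOf ⟨η, hηW⟩).asIdeal := by
      intro hs
      obtain ⟨q, hq, hσ⟩ := (Ideal.IsPrime.prod_mem_iff).mp hs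
      rw [Finset.mem_erase, Set.Finite.mem_toFinset] at hq
      exact hσp q hq.2 hq.1 hσ
    have hsq : ∀ q ∈ minimalPrimes Γ(X, W), q ≠ (hW.primeIdealOf ⟨η, hηW⟩).asIdeal →
        (∏ q ∈ hfin.toFinset.erase (hW.primeIdealOf ⟨η, hηW⟩).asIdeal, σ q) ∈ q := by
      intro q hq hne
      have hmem : q ∈ hfin.toFinset.erase (hW.primeIdealOf ⟨η, hηW⟩).asIdeal := by
        rw [Finset.mem_erase, Set.Finite.mem_toFinset]
        exact ⟨hne, hq⟩
      exact Ideal.mem_of_dvd (I := q) (Finset.dvd_prod_of_mem σ hmem) (hσq q hq hne)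
    set s := ∏ q ∈ hfin.toFinset.erase (hW.primeIdealOf ⟨η, hηW⟩).asIdeal, σ q with hs
    have hres : X.presheaf.map (homOfLE (inf_le_left : W ⊓ V ≤ W)).op s = 0 := by
      apply TopCat.Presheaf.section_ext X.sheaf (W ⊓ V)
      intro y hy
      have hyW : y ∈ W := hy.1
      have hyV : y ∈ V := hy.2
      have e0 : X.presheaf.germ (W ⊓ V) y hy
          (X.presheaf.map (homOfLE (inf_le_left : W ⊓ V ≤ W)).op s) =
          X.presheaf.germ W y hyW s :=
        TopCat.Presheaf.germ_res_apply X.presheaf (homOfLE (inf_le_left : W ⊓ V ≤ W)) y hy s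
      change X.presheaf.germ (W ⊓ V) y hy _ = X.presheaf.germ (W ⊓ V) y hy 0
      rw [e0, map_zero]
      have hnle : ¬ (hW.primeIdealOf ⟨η, hηW⟩) ≤ (hW.primeIdealOf ⟨y, hyW⟩) := by
        intro hle'
        have h1 := (PrimeSpectrum.le_iff_specializes _ _).mp hle'
        have h2 := h1.map hW.fromSpec.continuous
        rw [hW.fromSpec_primeIdealOf, hW.fromSpec_primeIdealOf] at h2
        exact hηV (h2.mem_open V.isOpen hyV)
      have hnle' : ¬ (hW.primeIdealOf ⟨η, hηW⟩).asIdeal ≤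
          (hW.primeIdealOf ⟨y, hyW⟩).asIdeal := hnle
      obtain ⟨r, hrp, hrq⟩ := SetLike.not_le_iff_exists.mp hnle'
      have hrs : r * s = 0 := by
        have hmem : r * s ∈ sInf (⊥ : Ideal Γ(X, W)).minimalPrimes := by
          rw [Submodule.mem_sInf]
          intro q hq
          by_cases hqp : q = (hW.primeIdealOf ⟨η, hηW⟩).asIdeal
          · rw [hqp]
            exact Ideal.mul_mem_right _ _ hrp
          · exact Ideal.mul_mem_left _ _ (hsq q hq hqp)
        rwa [hrad, Ideal.mem_bot] at hmem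
      letI := TopCat.Presheaf.algebra_section_stalk X.presheaf (⟨y, hyW⟩ : W)
      haveI : IsLocalization.AtPrime (X.presheaf.stalk y)
          (hW.primeIdealOf ⟨y, hyW⟩).asIdeal := hW.isLocalization_stalk ⟨y, hyW⟩
      have hu : IsUnit ((X.presheaf.germ W y hyW).hom r) :=
        IsLocalization.map_units (X.presheaf.stalk y)
          (⟨r, hrq⟩ : (hW.primeIdealOf ⟨y, hyW⟩).asIdeal.primeCompl)
      have h4 : (X.presheaf.germ W y hyW).hom r * (X.presheaf.germ W y hyW).hom s = 0 := by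
        rw [← map_mul, hrs, map_zero]
      exact hu.mul_right_eq_zero.mp h4
    have h5 := hV W hWU (by rw [hres, map_zero] :
      X.presheaf.map (homOfLE (inf_le_left : W ⊓ V ≤ W)).op s =
        X.presheaf.map (homOfLE (inf_le_left : W ⊓ V ≤ W)).op 0)
    apply hsp
    rw [h5]
    exact Ideal.zero_mem _
  have hnsub : ¬ ((idealIn V hW : Ideal Γ(X, W)) : Set Γ(X, W)) ⊆
      ⋃ p ∈ minimalPrimes Γ(X, W), (id p : Ideal Γ(X, W)) := by
    intro hsub
    obtain ⟨p, hp, hle⟩ := (Ideal.subset_union_prime_finite hfin (f := id) 0 0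
      (fun _ h _ _ => h.1.1)).1 hsub
    exact hnot p hp hle
  rw [Set.not_subset] at hnsub
  obtain ⟨t, htI, htnot⟩ := hnsub
  refine ⟨t, ?_, basicOpen_le_of_mem_idealIn V hW htI⟩
  rw [mem_nonZeroDivisors_iff_right]
  intro x hx
  have hmem : x ∈ sInf (⊥ : Ideal Γ(X, W)).minimalPrimes := by
    rw [Submodule.mem_sInf]
    intro q hq
    have hqp : Ideal.IsPrime q := hq.1.1
    have hxt : x * t ∈ q := by
      rw [hx]
      exact q.zero_mem
    refine (hqp.mem_or_mem hxt).resolve_right ?_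
    intro htq
    apply htnot
    simp only [Set.mem_iUnion]
    exact ⟨q, hq, htq⟩
  rwa [hrad, Ideal.mem_bot] at hmem

/-- an affine open meeting finitely many irreducible components has finitely many minimal
primes -/
theorem finite_minimalPrimes_of_locallyFinite {W W₀ : X.Opens} (hW : IsAffineOpen W)
    (hWW₀ : W ≤ W₀)
    (hfin : {Z : Set X | Z ∈ irreducibleComponents X ∧ (Z ∩ (W₀ : Set X)).Nonempty}.Finite) :
    (minimalPrimes Γ(X, W)).Finite := by
  have hmemW : ∀ P : PrimeSpectrum Γ(X, W), hW.fromSpec P ∈ W := by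
    intro P
    have h' : hW.fromSpec P ∈ hW.fromSpec.opensRange := ⟨P, rfl⟩
    rwa [hW.opensRange_fromSpec] at h'
  have hprime : ∀ P : PrimeSpectrum Γ(X, W), hW.primeIdealOf ⟨hW.fromSpec P, hmemW P⟩ = P :=
    fun P => hW.fromSpec.isOpenEmbedding.injective (hW.fromSpec_primeIdealOf ⟨_, hmemW P⟩)
  have h1 : {P : PrimeSpectrum Γ(X, W) | IsMin P}.Finite := by
    refine Set.Finite.of_injOn
      (f := fun P : PrimeSpectrum Γ(X, W) => closure ({hW.fromSpec P} : Set X)) ?_ ?_ hfin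
    · intro P hP
      have hPmin : IsMin P := hP
      refine ⟨⟨isIrreducible_singleton.closure, ?_⟩,
        ⟨hW.fromSpec P, subset_closure rfl, hWW₀ (hmemW P)⟩⟩
      intro Z hZ hle
      have hZc : IsIrreducible (closure Z) := hZ.closure
      obtain ⟨ζ, hζ⟩ := QuasiSober.sober hZc isClosed_closure
      have hηZ : hW.fromSpec P ∈ closure Z := subset_closure (hle (subset_closure rfl))
      have hspec : ζ ⤳ hW.fromSpec P := by
        rw [specializes_iff_mem_closure, hζ.def]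
        exact hηZ
      have hζW : ζ ∈ W := hspec.mem_open W.isOpen (hmemW P)
      have hle' : hW.primeIdealOf ⟨ζ, hζW⟩ ≤ P := by
        rw [← hprime P]
        show (hW.primeIdealOf ⟨ζ, hζW⟩).asIdeal ≤
          (hW.primeIdealOf ⟨hW.fromSpec P, hmemW P⟩).asIdeal
        intro r hr
        by_contra hrξ
        have h1 : hW.fromSpec P ∈ X.basicOpen r :=
          FLFH8.mem_basicOpen_of_notMem_prime hW (hmemW P) hrξ
        have h2 : ζ ∈ X.basicOpen r := hspec.mem_open (X.basicOpen r).2 h1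
        exact (StalkLocH8.notMem_prime_of_mem_basicOpen hW hζW h2) hr
      have heq : hW.primeIdealOf ⟨ζ, hζW⟩ = P := hPmin.eq_of_le hle'
      have hζη : ζ = hW.fromSpec P := by
        rw [← heq, hW.fromSpec_primeIdealOf]
      intro z hz
      have hzc : z ∈ closure Z := subset_closure hz
      rw [← hζ.def, hζη] at hzc
      exact hzc
    · intro P _ Q _ hPQ
      have hPQ' : closure ({hW.fromSpec P} : Set X) = closure ({hW.fromSpec Q} : Set X) := hPQ
      have h1 : hW.fromSpec P ⤳ hW.fromSpec Q := by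
        rw [specializes_iff_mem_closure, hPQ']
        exact subset_closure rfl
      have h2 : hW.fromSpec Q ⤳ hW.fromSpec P := by
        rw [specializes_iff_mem_closure, ← hPQ']
        exact subset_closure rfl
      exact hW.fromSpec.isOpenEmbedding.injective (h1.antisymm h2).eq
  refine (h1.image PrimeSpectrum.asIdeal).subset ?_
  intro p hp
  exact ⟨⟨p, hp.1.1⟩, PrimeSpectrum.isMin_iff.mpr hp, rfl⟩

/-- from a nonzerodivisor `t` with `D(t) ⊆ V`, a function on `V` is a fraction on `W` -/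
theorem exists_frac_of_basicOpen (V : X.Opens) (g : Γ(X, V)) {W : X.Opens}
    (hW : IsAffineOpen W) (t : Γ(X, W)) (ht : t ∈ nonZeroDivisors Γ(X, W))
    (htV : X.basicOpen t ≤ V) :
    ∃ (a b : Γ(X, W)), b ∈ Mero.regSub X W ∧
      ∀ (z : X) (hzW : z ∈ W) (hzV : z ∈ V),
        X.presheaf.germ W z hzW a = X.presheaf.germ W z hzW b * X.presheaf.germ V z hzV g := by
  have htreg : t ∈ Mero.regSub X W :=
    Groth.Agent.Lib.Mero_helper4.mem_regSub_of_mem_nonZeroDivisors hW ht
  haveI := hW.isLocalization_basicOpen t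
  obtain ⟨n, a, hna⟩ := IsLocalization.Away.surj t (X.presheaf.map (homOfLE htV).op g)
  refine ⟨a, t ^ n, pow_mem htreg n, ?_⟩
  intro z hzW hzV
  have hc : X.presheaf.map (homOfLE (inf_le_left : W ⊓ V ≤ W)).op a -
      X.presheaf.map (homOfLE (inf_le_left : W ⊓ V ≤ W)).op (t ^ n) *
        X.presheaf.map (homOfLE (inf_le_right : W ⊓ V ≤ V)).op g = 0 := by
    apply eq_zero_of_germ_basicOpen t htreg (inf_le_left : W ⊓ V ≤ W)
    intro y hy hyt
    have hyW : y ∈ W := hy.1
    have hyV : y ∈ V := hy.2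
    rw [map_sub, map_mul, TopCat.Presheaf.germ_res_apply, TopCat.Presheaf.germ_res_apply,
      TopCat.Presheaf.germ_res_apply, sub_eq_zero]
    have h1 := congrArg (X.presheaf.germ (X.basicOpen t) y hyt) hna
    rw [map_mul, map_pow] at h1
    have e1 : X.presheaf.germ (X.basicOpen t) y hyt (X.presheaf.map (homOfLE htV).op g) =
        X.presheaf.germ V y hyV g :=
      TopCat.Presheaf.germ_res_apply X.presheaf (homOfLE htV) y hyt g
    have e2 : X.presheaf.germ (X.basicOpen t) y hyt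
        (algebraMap Γ(X, W) Γ(X, X.basicOpen t) t) = X.presheaf.germ W y hyW t :=
      TopCat.Presheaf.germ_res_apply X.presheaf (homOfLE (X.basicOpen_le t)) y hyt t
    have e3 : X.presheaf.germ (X.basicOpen t) y hyt
        (algebraMap Γ(X, W) Γ(X, X.basicOpen t) a) = X.presheaf.germ W y hyW a :=
      TopCat.Presheaf.germ_res_apply X.presheaf (homOfLE (X.basicOpen_le t)) y hyt a
    rw [e1, e2, e3] at h1
    rw [map_pow, ← h1, mul_comm]
  have h2 := congrArg (X.presheaf.germ (W ⊓ V) z ⟨hzW, hzV⟩) hc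
  rw [map_sub, map_mul, map_zero, TopCat.Presheaf.germ_res_apply,
    TopCat.Presheaf.germ_res_apply, TopCat.Presheaf.germ_res_apply, sub_eq_zero] at h2
  exact h2

/-- local existence of a fraction representing `g` -/
theorem exists_local
    (hX : IsLocallyNoetherian X ∨ (AlgebraicGeometry.IsReduced X ∧ ∀ x : X, ∃ W : X.Opens,
      x ∈ W ∧ {Z : Set X | Z ∈ irreducibleComponents X ∧ (Z ∩ (W : Set X)).Nonempty}.Finite))
    (U V : X.Opens)
    (hV : ∀ W : X.Opens, W ≤ U →
      Function.Injective ⇑(X.presheaf.map (homOfLE (inf_le_left : W ⊓ V ≤ W)).op))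
    (g : Γ(X, V)) (x : X) (hxU : x ∈ U) :
    ∃ (W : X.Opens) (_ : x ∈ W) (_ : W ≤ U) (a b : Γ(X, W)), b ∈ Mero.regSub X W ∧
      ∀ (z : X) (hzW : z ∈ W) (hzV : z ∈ V),
        X.presheaf.germ W z hzW a = X.presheaf.germ W z hzW b * X.presheaf.germ V z hzV g := by
  rcases hX with hN | ⟨hR, hfin⟩
  · haveI := hN
    obtain ⟨_, ⟨W, hW : IsAffineOpen W, rfl⟩, hxW, hWsub⟩ :=
      (X.isBasis_affineOpens).exists_subset_of_mem_open hxU U.isOpen
    have hWU : W ≤ U := hWsub
    obtain ⟨t, ht, htV⟩ := exists_basicOpen_le_noeth U V hV hW hWU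
    obtain ⟨a, b, hb, hab⟩ := exists_frac_of_basicOpen V g hW t ht htV
    exact ⟨W, hxW, hWU, a, b, hb, hab⟩
  · haveI := hR
    obtain ⟨W₀, hxW₀, hfin₀⟩ := hfin x
    obtain ⟨_, ⟨W, hW : IsAffineOpen W, rfl⟩, hxW, hWsub⟩ :=
      (X.isBasis_affineOpens).exists_subset_of_mem_open
        (show x ∈ ((U ⊓ W₀ : X.Opens) : Set X) from ⟨hxU, hxW₀⟩) (U ⊓ W₀).isOpen
    have hWU : W ≤ U := fun y hy => (hWsub hy).1
    have hWW₀ : W ≤ W₀ := fun y hy => (hWsub hy).2
    have hfinR := finite_minimalPrimes_of_locallyFinite hW hWW₀ hfin₀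
    obtain ⟨t, ht, htV⟩ := exists_basicOpen_le_red U V hV hW hWU hfinR
    obtain ⟨a, b, hb, hab⟩ := exists_frac_of_basicOpen V g hW t ht htV
    exact ⟨W, hxW, hWU, a, b, hb, hab⟩

/-- pseudo-functions are meromorphic -/
theorem main (X : Scheme.{u})
    (hX : IsLocallyNoetherian X ∨ (AlgebraicGeometry.IsReduced X ∧ ∀ x : X, ∃ W : X.Opens,
      x ∈ W ∧ {Z : Set X | Z ∈ irreducibleComponents X ∧ (Z ∩ (W : Set X)).Nonempty}.Finite))
    (U V : X.Opens) (hVU : V ≤ U)
    (hV : ∀ W : X.Opens, W ≤ U →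
      Function.Injective ⇑(X.presheaf.map (homOfLE (inf_le_left : W ⊓ V ≤ W)).op))
    (g : Γ(X, V)) :
    ∃ s : Γ(Mero.kmod X, U), (Mero.kmod X).presheaf.map (homOfLE hVU).op s = Mero.toK X V g := by
  have hE : ∀ x : {x : X // x ∈ U}, ∃ (W : X.Opens) (_ : x.1 ∈ W) (_ : W ≤ U) (a b : Γ(X, W)),
      b ∈ Mero.regSub X W ∧ ∀ (z : X) (hzW : z ∈ W) (hzV : z ∈ V),
        X.presheaf.germ W z hzW a = X.presheaf.germ W z hzW b * X.presheaf.germ V z hzV g :=
    fun x => exists_local hX U V hV g x.1 x.2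
  choose W hxW hWU a b hb hab using hE
  let f : ∀ x : {x : X // x ∈ U}, Mero.KStalk X x.1 := fun x =>
    LocalizedModule.mk (X.presheaf.germ (W x) x.1 (hxW x) (a x))
      (Mero.regGerm (⟨x.1, hxW x⟩ : {z : X // z ∈ W x}) ⟨b x, hb x⟩)
  have hcomp : ∀ (x y : {x : X // x ∈ U}) (hy : y.1 ∈ W x),
      f y = LocalizedModule.mk (X.presheaf.germ (W x) y.1 hy (a x))
        (Mero.regGerm (⟨y.1, hy⟩ : {z : X // z ∈ W x}) ⟨b x, hb x⟩) := by
    intro x y hy
    show LocalizedModule.mk _ _ = LocalizedModule.mk _ _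
    rw [Groth.Agent.Lib.Mero_helper4.mk_eq_mk_iff]
    show X.presheaf.germ (W y) y.1 (hxW y) (a y) * X.presheaf.germ (W x) y.1 hy (b x) =
      X.presheaf.germ (W x) y.1 hy (a x) * X.presheaf.germ (W y) y.1 (hxW y) (b y)
    have hWW : W y ⊓ W x ≤ U := inf_le_left.trans (hWU y)
    have hc : X.presheaf.map (homOfLE (inf_le_left : W y ⊓ W x ≤ W y)).op (a y) *
          X.presheaf.map (homOfLE (inf_le_right : W y ⊓ W x ≤ W x)).op (b x) =
        X.presheaf.map (homOfLE (inf_le_right : W y ⊓ W x ≤ W x)).op (a x) *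
          X.presheaf.map (homOfLE (inf_le_left : W y ⊓ W x ≤ W y)).op (b y) := by
      apply hV (W y ⊓ W x) hWW
      apply TopCat.Presheaf.section_ext X.sheaf ((W y ⊓ W x) ⊓ V)
      intro z hz
      have hzy : z ∈ W y := hz.1.1
      have hzx : z ∈ W x := hz.1.2
      have hzV : z ∈ V := hz.2
      refine (TopCat.Presheaf.germ_res_apply X.presheaf (homOfLE inf_le_left) z hz _).trans ?_
      refine Eq.trans ?_
        (TopCat.Presheaf.germ_res_apply X.presheaf (homOfLE inf_le_left) z hz _).symm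
      rw [map_mul, map_mul, TopCat.Presheaf.germ_res_apply, TopCat.Presheaf.germ_res_apply,
        TopCat.Presheaf.germ_res_apply, TopCat.Presheaf.germ_res_apply]
      rw [hab y z hzy hzV, hab x z hzx hzV]
      ring
    have hfin := congrArg (X.presheaf.germ (W y ⊓ W x) y.1 ⟨hxW y, hy⟩) hc
    rw [map_mul, map_mul, TopCat.Presheaf.germ_res_apply, TopCat.Presheaf.germ_res_apply,
      TopCat.Presheaf.germ_res_apply, TopCat.Presheaf.germ_res_apply] at hfin
    exact hfin
  have hf : (Mero.kLoc X).pred f := fun x =>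
    ⟨W x, hxW x, homOfLE (hWU x), a x, ⟨b x, hb x⟩,
      fun y => hcomp x ⟨y.1, hWU x y.2⟩ y.2⟩
  refine ⟨⟨f, hf⟩, ?_⟩
  apply Groth.Agent.Lib.Mero_helper4.kmod_ext
  intro x
  show f ⟨x.1, hVU x.2⟩ = LocalizedModule.mk (X.presheaf.germ V x.1 x.2 g) 1
  show LocalizedModule.mk _ _ = LocalizedModule.mk _ _
  rw [Groth.Agent.Lib.Mero_helper4.mk_eq_mk_iff]
  show X.presheaf.germ (W ⟨x.1, hVU x.2⟩) x.1 (hxW ⟨x.1, hVU x.2⟩) (a ⟨x.1, hVU x.2⟩) * 1 =
    X.presheaf.germ V x.1 x.2 g *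
      X.presheaf.germ (W ⟨x.1, hVU x.2⟩) x.1 (hxW ⟨x.1, hVU x.2⟩) (b ⟨x.1, hVU x.2⟩)
  rw [hab ⟨x.1, hVU x.2⟩ x.1 (hxW ⟨x.1, hVU x.2⟩) x.2, mul_one, mul_comm]

end Groth.Agent.PseudoFn
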