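import Mathlib
import Groth.Prelude
import Groth.Agent.Lib.PseudoFn_helper5
import Groth.Agent.Lib.MeroInv8_helper8
import Groth.Agent.Lib.CocycIso_helper9
import Groth.Agent.Lib.RegSec_helper5
import Groth.Agent.Lib.Tens48_helper8

/-!
# Invertible modules trivial on a schematically dense open come from divisors (helper5)
APPEND-ONLY once landed.
-/

set_option autoImplicit false
universe u
open CategoryTheory CategoryTheory.Limits AlgebraicGeometry TopologicalSpace Opposite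
open QcqsLoc QCohExtn GenLocH8 Groth.Agent.Lib.Mero_helper4

namespace Groth.Agent.DivPic

variable {X : Scheme.{u}}

/-- `U` is schematically dense in `X`: functions on any open are determined by their restriction
to its trace on `U`. -/
def SchDense (U : X.Opens) : Prop :=
  ∀ W : X.Opens, Function.Injective (rX (inf_le_left : W ⊓ U ≤ W))

theorem SchDense.eq_of_germ {U : X.Opens} (hU : SchDense U) {W : X.Opens} (c c' : Γ(X, W))
    (h : ∀ (y : X) (hy : y ∈ W), y ∈ U → X.presheaf.germ W y hy c = X.presheaf.germ W y hy c') :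
    c = c' := by
  apply hU W
  refine TopCat.Presheaf.section_ext X.sheaf (W ⊓ U) _ _ (fun y hy => ?_)
  have h1 : ∀ d : Γ(X, W), X.presheaf.germ (W ⊓ U) y hy (rX (inf_le_left : W ⊓ U ≤ W) d) =
      X.presheaf.germ W y hy.1 d := fun d =>
    TopCat.Presheaf.germ_res_apply X.presheaf (homOfLE inf_le_left) y hy d
  show X.presheaf.germ (W ⊓ U) y hy (rX _ c) = X.presheaf.germ (W ⊓ U) y hy (rX _ c')
  rw [h1, h1]
  exact h y hy.1 hy.2

/-- Meromorphic functions are determined on a schematically dense open. -/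
theorem kdense_eq {U : X.Opens} (hU : SchDense U) {W : X.Opens} (t t' : Γ(Mero.kmod X, W))
    (h : ∀ y : W, y.1 ∈ U → t.1 y = t'.1 y) : t = t' := by
  apply kmod_ext
  intro x
  obtain ⟨V₁, hx₁, i₁, a₁, b₁, h₁⟩ := t.2 x
  obtain ⟨V₂, hx₂, i₂, a₂, b₂, h₂⟩ := t'.2 x
  have hl : V₁ ⊓ V₂ ≤ V₁ := inf_le_left
  have hr : V₁ ⊓ V₂ ≤ V₂ := inf_le_right
  have key : rX hl a₁ * rX hr b₂.1 = rX hr a₂ * rX hl b₁.1 := by
    apply hU.eq_of_germ
    intro y hy hyU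
    rw [map_mul, map_mul]
    have e1 : ∀ d : Γ(X, V₁), X.presheaf.germ (V₁ ⊓ V₂) y hy (rX hl d) =
        X.presheaf.germ V₁ y hy.1 d := fun d =>
      TopCat.Presheaf.germ_res_apply X.presheaf (homOfLE hl) y hy d
    have e2 : ∀ d : Γ(X, V₂), X.presheaf.germ (V₁ ⊓ V₂) y hy (rX hr d) =
        X.presheaf.germ V₂ y hy.2 d := fun d =>
      TopCat.Presheaf.germ_res_apply X.presheaf (homOfLE hr) y hy d
    rw [e1, e2, e1, e2]
    have h3 : t.1 (i₁ ⟨y, hy.1⟩) = LocalizedModule.mk (X.presheaf.germ V₁ y hy.1 a₁)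
        (Mero.regGerm (⟨y, hy.1⟩ : V₁) b₁) := h₁ ⟨y, hy.1⟩
    have h4 : t'.1 (i₂ ⟨y, hy.2⟩) = LocalizedModule.mk (X.presheaf.germ V₂ y hy.2 a₂)
        (Mero.regGerm (⟨y, hy.2⟩ : V₂) b₂) := h₂ ⟨y, hy.2⟩
    have h5 : t.1 (i₁ ⟨y, hy.1⟩) = t'.1 (i₂ ⟨y, hy.2⟩) := h ⟨y, i₁.le hy.1⟩ hyU
    rw [h3, h4] at h5
    exact (mk_eq_mk_iff y _ _ _ _).1 h5
  have h3 := h₁ ⟨x.1, hx₁⟩
  have h4 := h₂ ⟨x.1, hx₂⟩
  have h5 : t.1 x = LocalizedModule.mk (X.presheaf.germ V₁ x.1 hx₁ a₁)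
      (Mero.regGerm (⟨x.1, hx₁⟩ : V₁) b₁) := h3
  have h6 : t'.1 x = LocalizedModule.mk (X.presheaf.germ V₂ x.1 hx₂ a₂)
      (Mero.regGerm (⟨x.1, hx₂⟩ : V₂) b₂) := h4
  rw [h5, h6, mk_eq_mk_iff]
  have h7 := congrArg (X.presheaf.germ (V₁ ⊓ V₂) x.1 ⟨hx₁, hx₂⟩) key
  rw [map_mul, map_mul] at h7
  have e1 : ∀ d : Γ(X, V₁), X.presheaf.germ (V₁ ⊓ V₂) x.1 ⟨hx₁, hx₂⟩ (rX hl d) =
      X.presheaf.germ V₁ x.1 hx₁ d := fun d =>
    TopCat.Presheaf.germ_res_apply X.presheaf (homOfLE hl) x.1 ⟨hx₁, hx₂⟩ d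
  have e2 : ∀ d : Γ(X, V₂), X.presheaf.germ (V₁ ⊓ V₂) x.1 ⟨hx₁, hx₂⟩ (rX hr d) =
      X.presheaf.germ V₂ x.1 hx₂ d := fun d =>
    TopCat.Presheaf.germ_res_apply X.presheaf (homOfLE hr) x.1 ⟨hx₁, hx₂⟩ d
  rw [e1, e2, e1, e2] at h7
  exact h7


theorem val_of_map_eq {V V' : X.Opens} (h : V' ≤ V) (s : Γ(Mero.kmod X, V))
    (t : Γ(Mero.kmod X, V')) (hs : (Mero.kmod X).presheaf.map (homOfLE h).op s = t) (y : V') :
    s.1 ⟨y.1, h y.2⟩ = t.1 y :=
  congrArg (fun z : Γ(Mero.kmod X, V') => z.1 y) hs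

section Ext

variable (hX : IsLocallyNoetherian X ∨ (AlgebraicGeometry.IsReduced X ∧ ∀ x : X, ∃ W : X.Opens,
      x ∈ W ∧ {Z : Set X | Z ∈ irreducibleComponents X ∧ (Z ∩ (W : Set X)).Nonempty}.Finite))

include hX in
theorem exists_extension {U : X.Opens} (hU : SchDense U) (V : X.Opens) (a : Γ(X, V ⊓ U)) :
    ∃ s : Γ(Mero.kmod X, V), ∀ y : (V ⊓ U : X.Opens),
      s.1 ⟨y.1, y.2.1⟩ = (Mero.toK X (V ⊓ U) a).1 y := by
  have hV' : ∀ W : X.Opens, W ≤ V →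
      Function.Injective ⇑(X.presheaf.map (homOfLE (inf_le_left : W ⊓ (V ⊓ U) ≤ W)).op) := by
    intro W hWV r₁ r₂ h12
    apply hU W
    have hle : W ⊓ U ≤ W ⊓ (V ⊓ U) :=
      le_inf inf_le_left (le_inf (inf_le_left.trans hWV) inf_le_right)
    have h12' : rX (inf_le_left : W ⊓ (V ⊓ U) ≤ W) r₁ = rX (inf_le_left : W ⊓ (V ⊓ U) ≤ W) r₂ :=
      h12
    have h1 := congrArg (rX hle) h12'
    rw [rX_rX, rX_rX] at h1
    exact h1
  obtain ⟨s, hs⟩ := Groth.Agent.PseudoFn.main X hX V (V ⊓ U) inf_le_left hV' a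
  exact ⟨s, fun y => val_of_map_eq _ s _ hs y⟩

include hX in
theorem exists_unit_extension {U : X.Opens} (hU : SchDense U) (V : X.Opens) (a : Γ(X, V ⊓ U))
    (ha : IsUnit a) :
    ∃ f : (Γ(Mero.kmod X, V))ˣ, ∀ y : (V ⊓ U : X.Opens),
      f.1.1 ⟨y.1, y.2.1⟩ = (Mero.toK X (V ⊓ U) a).1 y := by
  obtain ⟨b, hb⟩ := ha.exists_right_inv
  obtain ⟨s, hs⟩ := exists_extension hX hU V a
  obtain ⟨s', hs'⟩ := exists_extension hX hU V b
  have h1 : s * s' = 1 := by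
    apply kdense_eq hU
    intro y hyU
    show s.1 y * s'.1 y = 1
    have e1 := hs ⟨y.1, y.2, hyU⟩
    have e2 := hs' ⟨y.1, y.2, hyU⟩
    have e3 : s.1 y = (Mero.toK X (V ⊓ U) a).1 ⟨y.1, y.2, hyU⟩ := e1
    have e4 : s'.1 y = (Mero.toK X (V ⊓ U) b).1 ⟨y.1, y.2, hyU⟩ := e2
    rw [e3, e4, ← Mero.kmod_mul_apply, ← map_mul, hb, map_one]
    rfl
  exact ⟨⟨s, s', h1, by rw [mul_comm]; exact h1⟩, hs⟩

end Ext


section Charts

variable (L : X.Modules) (U : X.Opens) (e : Γ(L, U))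

/-- A chart: an open `V` with a generator `g` of `L`, the coefficient `a` of `e` with respect to
`g` on `V ⊓ U`, and a meromorphic unit `f` on `V` extending `a`. -/
structure Chart where
  V : X.Opens
  g : Γ(L, V)
  hg : IsGen L V g
  a : Γ(X, V ⊓ U)
  ha : rF L (inf_le_right : V ⊓ U ≤ U) e = a • rF L (inf_le_left : V ⊓ U ≤ V) g
  f : (Γ(Mero.kmod X, V))ˣ
  hf : ∀ y : (V ⊓ U : X.Opens), f.1.1 ⟨y.1, y.2.1⟩ = (Mero.toK X (V ⊓ U) a).1 y

variable {L U e}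

theorem exists_chart
    (hX : IsLocallyNoetherian X ∨ (AlgebraicGeometry.IsReduced X ∧ ∀ x : X, ∃ W : X.Opens,
      x ∈ W ∧ {Z : Set X | Z ∈ irreducibleComponents X ∧ (Z ∩ (W : Set X)).Nonempty}.Finite))
    (hL : PicF.IsInvertible L) (hU : SchDense U) (he : IsGen L U e) (x : X) :
    ∃ C : Chart L U e, x ∈ C.V := by
  obtain ⟨V, -, hxV, g, hg⟩ := GenLocH8.exists_isGen hL x
  obtain ⟨a, ha⟩ := (hg.res (inf_le_left : V ⊓ U ≤ V)).exists_coef
    (rF L (inf_le_right : V ⊓ U ≤ U) e)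
  have hau : IsUnit a := by
    apply TensH8.isUnit_of_isGen_smul (hg.res (inf_le_left : V ⊓ U ≤ V))
    rw [← ha]
    exact he.res inf_le_right
  obtain ⟨f, hf⟩ := exists_unit_extension hX hU V a hau
  exact ⟨⟨V, g, hg, a, ha, f, hf⟩, hxV⟩

/-- Comparison of the meromorphic units of two charts. -/
theorem Chart.compat (hU : SchDense U) (C C' : Chart L U e) (c : Γ(X, C.V ⊓ C'.V))
    (hc : rF L (inf_le_left : C.V ⊓ C'.V ≤ C.V) C.g =
      c • rF L (inf_le_right : C.V ⊓ C'.V ≤ C'.V) C'.g) (y : (C.V ⊓ C'.V : X.Opens)) :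
    C'.f.1.1 ⟨y.1, y.2.2⟩ = C.f.1.1 ⟨y.1, y.2.1⟩ * (Mero.toK X (C.V ⊓ C'.V) c).1 y := by
  have hl : C.V ⊓ C'.V ≤ C.V := inf_le_left
  have hr : C.V ⊓ C'.V ≤ C'.V := inf_le_right
  have key : (Mero.kmod X).presheaf.map (homOfLE hr).op C'.f.1 =
      (Mero.kmod X).presheaf.map (homOfLE hl).op C.f.1 * Mero.toK X (C.V ⊓ C'.V) c := by
    apply kdense_eq hU
    intro z hzU
    show C'.f.1.1 ⟨z.1, hr z.2⟩ = C.f.1.1 ⟨z.1, hl z.2⟩ * (Mero.toK X (C.V ⊓ C'.V) c).1 z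
    have e1 := C'.hf ⟨z.1, hr z.2, hzU⟩
    have e2 := C.hf ⟨z.1, hl z.2, hzU⟩
    have e1' : C'.f.1.1 ⟨z.1, hr z.2⟩ = (Mero.toK X (C'.V ⊓ U) C'.a).1 ⟨z.1, hr z.2, hzU⟩ := e1
    have e2' : C.f.1.1 ⟨z.1, hl z.2⟩ = (Mero.toK X (C.V ⊓ U) C.a).1 ⟨z.1, hl z.2, hzU⟩ := e2
    rw [e1', e2', Mero.toK_apply, Mero.toK_apply, Mero.toK_apply, mk_one_eq_algebraMap,
      mk_one_eq_algebraMap, mk_one_eq_algebraMap, ← map_mul]
    -- the identity of sections on `O = V ⊓ V' ⊓ U`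
    have hO1 : (C.V ⊓ C'.V) ⊓ U ≤ C.V ⊓ U := le_inf (inf_le_left.trans hl) inf_le_right
    have hO2 : (C.V ⊓ C'.V) ⊓ U ≤ C'.V ⊓ U := le_inf (inf_le_left.trans hr) inf_le_right
    have hO3 : (C.V ⊓ C'.V) ⊓ U ≤ C.V ⊓ C'.V := inf_le_left
    have hOU : (C.V ⊓ C'.V) ⊓ U ≤ U := inf_le_right
    have hOV : (C.V ⊓ C'.V) ⊓ U ≤ C.V := inf_le_left.trans hl
    have hOV' : (C.V ⊓ C'.V) ⊓ U ≤ C'.V := inf_le_left.trans hr
    have s1 : rF L hOU e = rX hO1 C.a • rF L hOV C.g := by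
      have := congrArg (rF L hO1) C.ha
      rw [rF_rF, rF_smul, rF_rF] at this
      exact this
    have s2 : rF L hOU e = rX hO2 C'.a • rF L hOV' C'.g := by
      have := congrArg (rF L hO2) C'.ha
      rw [rF_rF, rF_smul, rF_rF] at this
      exact this
    have s3 : rF L hOV C.g = rX hO3 c • rF L hOV' C'.g := by
      have := congrArg (rF L hO3) hc
      rw [rF_rF, rF_smul, rF_rF] at this
      exact this
    have s4 : rX hO2 C'.a = rX hO1 C.a * rX hO3 c := by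
      apply TensH8.IsGen.coef_ext (C'.hg.res hOV')
      rw [← s2, s1, s3, mul_smul]
    have hz : z.1 ∈ (C.V ⊓ C'.V) ⊓ U := ⟨z.2, hzU⟩
    have s5 := congrArg (X.presheaf.germ ((C.V ⊓ C'.V) ⊓ U) z.1 hz) s4
    rw [map_mul] at s5
    have g1 : X.presheaf.germ ((C.V ⊓ C'.V) ⊓ U) z.1 hz (rX hO2 C'.a) =
        X.presheaf.germ (C'.V ⊓ U) z.1 ⟨hr z.2, hzU⟩ C'.a :=
      TopCat.Presheaf.germ_res_apply X.presheaf (homOfLE hO2) z.1 hz _
    have g2 : X.presheaf.germ ((C.V ⊓ C'.V) ⊓ U) z.1 hz (rX hO1 C.a) =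
        X.presheaf.germ (C.V ⊓ U) z.1 ⟨hl z.2, hzU⟩ C.a :=
      TopCat.Presheaf.germ_res_apply X.presheaf (homOfLE hO1) z.1 hz _
    have g3 : X.presheaf.germ ((C.V ⊓ C'.V) ⊓ U) z.1 hz (rX hO3 c) =
        X.presheaf.germ (C.V ⊓ C'.V) z.1 z.2 c :=
      TopCat.Presheaf.germ_res_apply X.presheaf (homOfLE hO3) z.1 hz _
    rw [g1, g2, g3] at s5
    exact congrArg _ s5
  exact congrArg (fun t : Γ(Mero.kmod X, C.V ⊓ C'.V) => t.1 y) key

end Charts


section Divisor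

variable {L : X.Modules} {U : X.Opens} {e : Γ(L, U)}

theorem exists_cocycle (C C' : Chart L U e) :
    ∃ c : Γ(X, C.V ⊓ C'.V), IsUnit c ∧ rF L (inf_le_left : C.V ⊓ C'.V ≤ C.V) C.g =
      c • rF L (inf_le_right : C.V ⊓ C'.V ≤ C'.V) C'.g := by
  obtain ⟨c, hc⟩ := (C'.hg.res (inf_le_right : C.V ⊓ C'.V ≤ C'.V)).exists_coef
    (rF L (inf_le_left : C.V ⊓ C'.V ≤ C.V) C.g)
  refine ⟨c, ?_, hc⟩
  apply TensH8.isUnit_of_isGen_smul (C'.hg.res (inf_le_right : C.V ⊓ C'.V ≤ C'.V))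
  rw [← hc]
  exact C.hg.res inf_le_left

theorem germOf_eq_of_compat (hU : SchDense U) (C C' : Chart L U e) (y : X) (hy : y ∈ C.V)
    (hy' : y ∈ C'.V) : Mero.germOf C.f ⟨y, hy⟩ = Mero.germOf C'.f ⟨y, hy'⟩ := by
  obtain ⟨c, hcu, hc⟩ := exists_cocycle C C'
  have h1 := C.compat hU C' c hc ⟨y, hy, hy'⟩
  have hgu : IsUnit (X.presheaf.germ (C.V ⊓ C'.V) y ⟨hy, hy'⟩ c) := hcu.map _
  show (QuotientGroup.mk _ : Mero.Germ X y) = QuotientGroup.mk _
  rw [QuotientGroup.eq]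
  refine ⟨hgu.unit, ?_⟩
  rw [eq_inv_mul_iff_mul_eq]
  apply Units.ext
  rw [Units.val_mul, Units.coe_map, Units.coe_map, Units.coe_map]
  show C.f.1.1 ⟨y, hy⟩ * algebraMap _ _ (X.presheaf.germ (C.V ⊓ C'.V) y ⟨hy, hy'⟩ c) =
    C'.f.1.1 ⟨y, hy'⟩
  rw [h1, Mero.toK_apply, mk_one_eq_algebraMap]

/-- The family of germs defined by a family of charts. -/
noncomputable def theDiv (hU : SchDense U) (ch : ↥X → Chart L U e)
    (hch : ∀ x, x ∈ (ch x).V) : Mero.Divisor X :=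
  ⟨fun x => Mero.germOf (ch x).f ⟨x, hch x⟩, fun x => ⟨(ch x).V, hch x, (ch x).f, fun y =>
    germOf_eq_of_compat hU (ch y.1) (ch x) y.1 (hch y.1) y.2⟩⟩

theorem theDiv_apply (hU : SchDense U) (ch : ↥X → Chart L U e)
    (hch : ∀ x, x ∈ (ch x).V) (x : X) (y : (ch x).V) :
    (theDiv hU ch hch).1 y.1 = Mero.germOf (ch x).f y :=
  germOf_eq_of_compat hU (ch y.1) (ch x) y.1 (hch y.1) y.2

theorem inv_eq_of_mul {K : Type*} [CommRing K] {A A' B B' T : K} (hA : A * A' = 1)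
    (hB : B * B' = 1) (h : B = A * T) : A' = T * B' := by
  calc A' = A' * (B * B') := by rw [hB, mul_one]
    _ = (A * A') * T * B' := by rw [h]; ring
    _ = T * B' := by rw [hA, one_mul]

theorem inv_val_eq (hU : SchDense U) (C C' : Chart L U e) (c : Γ(X, C.V ⊓ C'.V))
    (hc : rF L (inf_le_left : C.V ⊓ C'.V ≤ C.V) C.g =
      c • rF L (inf_le_right : C.V ⊓ C'.V ≤ C'.V) C'.g) (y : (C.V ⊓ C'.V : X.Opens)) :
    (C.f⁻¹).1.1 ⟨y.1, y.2.1⟩ =
      X.presheaf.germ (C.V ⊓ C'.V) y.1 y.2 c • (C'.f⁻¹).1.1 ⟨y.1, y.2.2⟩ := by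
  have h1 := C.compat hU C' c hc y
  have h2 := MeroInvH8.mul_inv_val C.f ⟨y.1, y.2.1⟩
  have h3 := MeroInvH8.mul_inv_val C'.f ⟨y.1, y.2.2⟩
  rw [Algebra.smul_def, ← mk_one_eq_algebraMap, ← Mero.toK_apply]
  exact inv_eq_of_mul h2 h3 h1

/-- **Core**: an invertible module which is trivial on a schematically dense open is `O_X(D)`. -/
theorem exists_divisor
    (hX : IsLocallyNoetherian X ∨ (AlgebraicGeometry.IsReduced X ∧ ∀ x : X, ∃ W : X.Opens,
      x ∈ W ∧ {Z : Set X | Z ∈ irreducibleComponents X ∧ (Z ∩ (W : Set X)).Nonempty}.Finite))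
    (hL : PicF.IsInvertible L) (hU : SchDense U) (he : IsGen L U e) :
    ∃ D : Mero.Divisor X, Nonempty (L ≅ Mero.divMod D) := by
  choose ch hch using exists_chart (L := L) (U := U) (e := e) hX hL hU he
  obtain ⟨D, hDdef⟩ : ∃ D : Mero.Divisor X, D = theDiv hU ch hch := ⟨_, rfl⟩
  have hD : ∀ (x : X) (y : (ch x).V), D.1 y.1 = Mero.germOf (ch x).f y := by
    intro x y
    rw [hDdef]
    exact theDiv_apply hU ch hch x y
  refine ⟨D, ?_⟩
  have hη : ∀ i j : X, ∃ c : Γ(X, (ch i).V ⊓ (ch j).V),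
      rF L (inf_le_left : (ch i).V ⊓ (ch j).V ≤ (ch i).V) (ch i).g =
        c • rF L (inf_le_right : (ch i).V ⊓ (ch j).V ≤ (ch j).V) (ch j).g := fun i j => by
    obtain ⟨c, -, hc⟩ := exists_cocycle (ch i) (ch j)
    exact ⟨c, hc⟩
  choose η hη using hη
  have hcov : (⨆ i : X, (ch i).V) = ⊤ := by
    rw [eq_top_iff]
    intro x _
    exact Opens.mem_iSup.2 ⟨x, hch x⟩
  refine CocycIsoH9.nonempty_iso (ι := X) (U := fun i => (ch i).V) (L := L)
    (L' := Mero.divMod D) (s := fun i => (ch i).g)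
    (s' := fun i => MeroInvH8.invSec D (ch i).f (hD i) (ch i).V le_rfl)
    (η := η) (η' := η) (u := fun _ => 1) hcov (fun i => (ch i).hg) hη ?_ ?_
    (fun i => MeroInvH8.isGen_invSec D (ch i).f (hD i)) (fun _ => isUnit_one)
  · intro i j
    apply Subtype.ext
    funext y
    exact inv_val_eq hU (ch i) (ch j) (η i j) (hη i j) y
  · intro i j
    rw [map_one, map_one, mul_one, one_mul]

end Divisor


section Apply

open FLFH8

/-- A trivialisation of `L` over an open gives a generator. -/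
theorem exists_isGen_of_iso {L : X.Modules} (U : X.Opens)
    (β : L.restrict U.ι ≅ Coh.structureModule (U : Scheme.{u})) : ∃ e : Γ(L, U), IsGen L U e := by
  have h0 : IsGen (L.restrict U.ι) ⊤ (ap β.inv ⊤ (toM 1)) :=
    TensH8.isGen_of_iso β.symm (TensH8.isGen_one ⊤)
  have h1 := TensH8.isGen_of_restrict U.ι L _ h0
  exact TensH8.exists_isGen_of_eq L (Scheme.Opens.ι_image_top U) _ h1

/-- An open containing the associated points of the structure sheaf is schematically dense. -/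
theorem schDense_of_assPoints [IsLocallyNoetherian X] (U : X.Opens)
    (h : ∀ x, Curv2.IsAssPoint (Coh.structureModule X) x → x ∈ U) : SchDense U := by
  intro W
  rw [injective_iff_map_eq_zero]
  intro a ha
  by_contra hne
  have h1 : ∃ y, ∃ hy : y ∈ W, (Coh.structureModule X).presheaf.germ W y hy (toM a) ≠ 0 := by
    by_contra hcon
    push Not at hcon
    apply hne
    have : toM a = 0 := by
      refine TopCat.Presheaf.section_ext ⟨_, (Coh.structureModule X).isSheaf⟩ W (toM a) 0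
        (fun y hy => ?_)
      exact (hcon y hy).trans (map_zero _).symm
    exact this
  obtain ⟨y, hy, hc⟩ := h1
  obtain ⟨y', hspec, hass, hne'⟩ :=
    IrrDecH8.exists_assPoint_specializes (Coh.structureModule X) y _ hc
  have hy'W : y' ∈ W := hspec.mem_open W.isOpen hy
  rw [SecOrdH8.stalkSpecializes_germ] at hne'
  apply hne'
  have h2 : rF (Coh.structureModule X) (inf_le_left : W ⊓ U ≤ W) (toM a) = 0 := ha
  have h5 : (Coh.structureModule X).presheaf.germ W y' hy'W (toM a) =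
      (Coh.structureModule X).presheaf.germ (W ⊓ U) y' ⟨hy'W, h y' hass⟩
        (rF (Coh.structureModule X) (inf_le_left : W ⊓ U ≤ W) (toM a)) :=
    (TopCat.Presheaf.germ_res_apply (Coh.structureModule X).presheaf (homOfLE inf_le_left) y'
      ⟨hy'W, h y' hass⟩ (toM a)).symm
  rw [h5, h2, map_zero]

/-- **S5088**: on a locally Noetherian scheme whose associated points lie in an affine open, every
invertible module is `O_X(D)` for a divisor `D`. -/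
theorem exists_divisor_of_ass_affine [IsLocallyNoetherian X]
    (hX : ∃ W : X.Opens, IsAffineOpen W ∧ ∀ x : X,
      IsAssociatedPrime (IsLocalRing.maximalIdeal (X.presheaf.stalk x)) (X.presheaf.stalk x) →
        x ∈ W)
    (L : X.Modules) (hL : PicF.IsInvertible L) :
    ∃ D : Mero.Divisor X, Nonempty (L ≅ Mero.divMod D) := by
  classical
  obtain ⟨W, hW, hassW⟩ := hX
  haveI : IsNoetherianRing Γ(X, W) := IsLocallyNoetherian.component_noetherian ⟨W, hW⟩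
  have hfin : {x : X | Curv2.IsAssPoint (Coh.structureModule X) x}.Finite := by
    refine (Groth.Agent.RegSec.finite_assPoints_affine hW).subset ?_
    intro x hx
    exact ⟨hassW x ((AssPtH8.isAssPoint_structureModule_iff x).1 hx), hx⟩
  obtain ⟨U, -, hTU, ⟨β⟩⟩ := TensH8.exists_affine_trivial_of_finite hL hfin.toFinset
    ⟨W, hW, fun x hx => hassW x ((AssPtH8.isAssPoint_structureModule_iff x).1
      (hfin.mem_toFinset.1 hx))⟩
  obtain ⟨e, he⟩ := exists_isGen_of_iso U β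
  have hU : SchDense U := schDense_of_assPoints U (fun x hx => hTU x (hfin.mem_toFinset.2 hx))
  exact exists_divisor (Or.inl inferInstance) hL hU he

end Apply

end Groth.Agent.DivPic
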