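import Mathlib
import Groth.Prelude
import Groth.Agent.Lib.DivPic1_helper5

/-!
# Invertible modules on reduced schemes with locally finitely many irreducible components come
from divisors (helper5).  APPEND-ONLY once landed.
-/

set_option autoImplicit false
universe u
open CategoryTheory CategoryTheory.Limits AlgebraicGeometry TopologicalSpace Opposite
open QcqsLoc QCohExtn GenLocH8

namespace Groth.Agent.DivPic

section Topology

variable {T : Type*} [TopologicalSpace T]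

/-- The union of the irreducible components other than `Z`. -/
def others (Z : Set T) : Set T := ⋃₀ {Z' | Z' ∈ irreducibleComponents T ∧ Z' ≠ Z}

variable (hT : ∀ x : T, ∃ W : Set T, IsOpen W ∧ x ∈ W ∧
  {Z : Set T | Z ∈ irreducibleComponents T ∧ (Z ∩ W).Nonempty}.Finite)

include hT in
theorem isClosed_others (Z : Set T) : IsClosed (others Z) := by
  rw [others, Set.sUnion_eq_iUnion]
  apply LocallyFinite.isClosed_iUnion
  · intro x
    obtain ⟨W, hWo, hxW, hfin⟩ := hT x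
    refine ⟨W, hWo.mem_nhds hxW, ?_⟩
    apply Set.Finite.of_finite_image (f := Subtype.val) ?_ Subtype.val_injective.injOn
    apply hfin.subset
    rintro _ ⟨i, hi, rfl⟩
    exact ⟨i.2.1, hi⟩
  · intro i
    exact isClosed_of_mem_irreducibleComponents _ i.2.1

theorem compl_others_subset (Z : Set T) : (others Z)ᶜ ⊆ Z := by
  intro x hx
  by_contra hxZ
  apply hx
  refine ⟨irreducibleComponent x, ⟨irreducibleComponent_mem_irreducibleComponents x, ?_⟩,
    mem_irreducibleComponent⟩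
  intro h
  exact hxZ (h ▸ mem_irreducibleComponent)

include hT in
theorem compl_others_nonempty {Z : Set T} (hZ : Z ∈ irreducibleComponents T) :
    ((others Z)ᶜ).Nonempty := by
  by_contra hcon
  rw [Set.not_nonempty_iff_eq_empty, Set.compl_empty_iff] at hcon
  obtain ⟨z, hz⟩ := hZ.1.1
  obtain ⟨W, hWo, hzW, hfin⟩ := hT z
  have hfin' : ({Z' : Set T | Z' ∈ irreducibleComponents T ∧ (Z' ∩ W).Nonempty} \ {Z}).Finite :=
    hfin.subset Set.sdiff_subset
  have hsub : ({Z' : Set T | Z' ∈ irreducibleComponents T ∧ (Z' ∩ W).Nonempty} \ {Z}) ⊆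
      irreducibleComponents T := fun Z' h => h.1.1
  have hcl : IsClosed (⋃₀ ({Z' : Set T | Z' ∈ irreducibleComponents T ∧
      (Z' ∩ W).Nonempty} \ {Z})) := by
    rw [Set.sUnion_eq_biUnion]
    exact hfin'.isClosed_biUnion (fun Z' h => isClosed_of_mem_irreducibleComponents Z' h.1.1)
  have h1 : Z ∩ W ⊆ ⋃₀ ({Z' : Set T | Z' ∈ irreducibleComponents T ∧
      (Z' ∩ W).Nonempty} \ {Z}) := by
    rintro x ⟨hxZ, hxW⟩
    have hx : x ∈ others Z := by rw [hcon]; trivial
    obtain ⟨Z', ⟨hZ', hne⟩, hxZ'⟩ := hx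
    exact ⟨Z', ⟨⟨hZ', ⟨x, hxZ', hxW⟩⟩, hne⟩, hxZ'⟩
  have h2 : Z ⊆ ⋃₀ ({Z' : Set T | Z' ∈ irreducibleComponents T ∧
      (Z' ∩ W).Nonempty} \ {Z}) :=
    (subset_closure_inter_of_isPreirreducible_of_isOpen hZ.1.2 hWo ⟨z, hz, hzW⟩).trans
      (hcl.closure_subset_iff.2 h1)
  have h3 := mem_of_subset_sUnion_irreducibleComponents Z hZ _ hfin' hsub h2
  exact h3.2 rfl

theorem compl_others_disjoint {Z Z' : Set T} (hZ : Z ∈ irreducibleComponents T) (hne : Z ≠ Z')
    (x : T) (hx : x ∈ (others Z)ᶜ) (hx' : x ∈ (others Z')ᶜ) : False := by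
  apply hx'
  exact ⟨Z, ⟨hZ, hne⟩, compl_others_subset Z hx⟩

end Topology


section Reduced

variable {X : Scheme.{u}}

/-- On a reduced scheme a topologically dense open is schematically dense. -/
theorem schDense_of_dense [IsReduced X] (U : X.Opens)
    (hd : ∀ W : X.Opens, W ≠ ⊥ → W ⊓ U ≠ ⊥) : SchDense U := by
  intro W
  rw [injective_iff_map_eq_zero]
  intro a ha
  apply AlgebraicGeometry.eq_zero_of_basicOpen_eq_bot
  by_contra hne
  apply hd (X.basicOpen a) hne
  have h1 : X.basicOpen (X.presheaf.map (homOfLE (inf_le_left : W ⊓ U ≤ W)).op a) =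
      (W ⊓ U) ⊓ X.basicOpen a := Scheme.basicOpen_res X a (homOfLE (inf_le_left : W ⊓ U ≤ W)).op
  have ha' : X.presheaf.map (homOfLE (inf_le_left : W ⊓ U ≤ W)).op a = 0 := ha
  rw [ha', Scheme.basicOpen_zero] at h1
  rw [eq_bot_iff]
  intro x hx
  have hxW : x ∈ W := X.basicOpen_le a hx.1
  have : x ∈ (W ⊓ U) ⊓ X.basicOpen a := ⟨⟨hxW, hx.2⟩, hx.1⟩
  rw [← h1] at this
  exact this

/-- **S5089**: on a reduced scheme with locally finitely many irreducible components, every
invertible module is `O_X(D)` for a divisor `D`. -/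
theorem exists_divisor_of_reduced [IsReduced X]
    (hX : ∀ x : X, ∃ W : X.Opens, x ∈ W ∧
      {Z : Set X | Z ∈ irreducibleComponents X ∧ (Z ∩ (W : Set X)).Nonempty}.Finite)
    (L : X.Modules) (hL : PicF.IsInvertible L) :
    ∃ D : Mero.Divisor X, Nonempty (L ≅ Mero.divMod D) := by
  have hT : ∀ x : X, ∃ W : Set X, IsOpen W ∧ x ∈ W ∧
      {Z : Set X | Z ∈ irreducibleComponents X ∧ (Z ∩ W).Nonempty}.Finite := by
    intro x
    obtain ⟨W, hxW, hfin⟩ := hX x
    exact ⟨W, W.isOpen, hxW, hfin⟩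
  have h1 : ∀ Z : irreducibleComponents X, ∃ (O : X.Opens) (g : Γ(L, O)), IsGen L O g ∧
      (O : Set X) ⊆ (others Z.1)ᶜ ∧ (O : Set X).Nonempty := by
    intro Z
    obtain ⟨p, hp⟩ := compl_others_nonempty hT Z.2
    obtain ⟨V, -, hpV, g, hg⟩ := GenLocH8.exists_isGen hL p
    obtain ⟨O', hO'⟩ : ∃ O' : X.Opens, (O' : Set X) = (others Z.1)ᶜ :=
      ⟨⟨(others Z.1)ᶜ, (isClosed_others hT Z.1).isOpen_compl⟩, rfl⟩
    refine ⟨O' ⊓ V, rF L inf_le_right g, hg.res inf_le_right, ?_, ⟨p, ?_, hpV⟩⟩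
    · intro x hx
      rw [← hO']
      exact hx.1
    · show p ∈ (O' : Set X)
      rw [hO']
      exact hp
  choose O g hg hO hOne using h1
  have hdisj : ∀ Z Z' : irreducibleComponents X, Z ≠ Z' → O Z ⊓ O Z' = ⊥ := by
    intro Z Z' hne
    rw [eq_bot_iff]
    intro x hx
    exact (compl_others_disjoint Z.2 (fun h => hne (Subtype.ext h)) x (hO Z hx.1)
      (hO Z' hx.2)).elim
  obtain ⟨U, hUdef⟩ : ∃ U : X.Opens, U = ⨆ Z, O Z := ⟨_, rfl⟩
  have hle : ∀ Z, O Z ≤ U := fun Z => by rw [hUdef]; exact le_iSup O Z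
  obtain ⟨e, he⟩ := TensH8.glue L O U hle (le_of_eq hUdef) g (by
    intro Z Z'
    by_cases h : Z = Z'
    · subst h
      rfl
    · apply eq_of_cover L
      intro x hx
      rw [hdisj Z Z' h] at hx
      exact hx.elim)
  have heU : IsGen L U e := by
    apply TensH8.isGen_of_cover e
    intro x hx
    rw [hUdef] at hx
    obtain ⟨Z, hZ⟩ := Opens.mem_iSup.1 hx
    refine ⟨O Z, hle Z, hZ, ?_⟩
    rw [he Z]
    exact hg Z
  have hdense : SchDense U := by
    apply schDense_of_dense U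
    intro W hW hWU
    obtain ⟨x, hxW⟩ : ∃ x, x ∈ W := by
      by_contra hcon
      push Not at hcon
      apply hW
      rw [eq_bot_iff]
      intro x hx
      exact (hcon x hx).elim
    obtain ⟨Z, hZdef⟩ : ∃ Z : irreducibleComponents X, Z.1 = irreducibleComponent x :=
      ⟨⟨_, irreducibleComponent_mem_irreducibleComponents x⟩, rfl⟩
    have hxZ : x ∈ Z.1 := by rw [hZdef]; exact mem_irreducibleComponent
    obtain ⟨p, hp⟩ := hOne Z
    have hpZ : p ∈ Z.1 := compl_others_subset Z.1 (hO Z hp)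
    obtain ⟨q, -, hqW, hqO⟩ := Z.2.1.2 W (O Z) W.isOpen (O Z).isOpen ⟨x, hxZ, hxW⟩ ⟨p, hpZ, hp⟩
    have hq : q ∈ W ⊓ U := ⟨hqW, hle Z hqO⟩
    rw [hWU] at hq
    exact hq
  exact exists_divisor (Or.inr ⟨inferInstance, hX⟩) hL hdense heU

end Reduced

end Groth.Agent.DivPic
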