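import Mathlib
import Groth.Prelude
import Groth.Agent.Lib.DivPic2_helper5

/-!
# Regular meromorphic sections of invertible modules (helper5)
APPEND-ONLY once landed.

* `hasRegularMero_of_gen`: an invertible module with a generator over a schematically dense open
  has a regular meromorphic section (on a locally Noetherian scheme, or a reduced scheme with locally
  finitely many irreducible components).
-/

set_option autoImplicit false
universe u
open CategoryTheory CategoryTheory.Limits AlgebraicGeometry TopologicalSpace Opposite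
open QcqsLoc QCohExtn GenLocH8 Groth.Agent.Lib.Mero_helper4

namespace Groth.Agent.RegMero

open Groth.Agent.DivPic

variable {X : Scheme.{u}}

section Stalk

variable {L : X.Modules}

theorem germ_rF {V V' : X.Opens} (h : V' ≤ V) (g : Γ(L, V)) (x : X) (hx : x ∈ V') :
    L.presheaf.germ V' x hx (rF L h g) = L.presheaf.germ V x (h hx) g :=
  TopCat.Presheaf.germ_res_apply L.presheaf (homOfLE h) x hx g

theorem germ_rX {V V' : X.Opens} (h : V' ≤ V) (c : Γ(X, V)) (x : X) (hx : x ∈ V') :
    X.presheaf.germ V' x hx (rX h c) = X.presheaf.germ V x (h hx) c :=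
  TopCat.Presheaf.germ_res_apply X.presheaf (homOfLE h) x hx c

/-- The germ of a generator is a free generator of the stalk. -/
theorem eq_zero_of_smul_germ {V : X.Opens} {g : Γ(L, V)} (hg : IsGen L V g) (x : X) (hx : x ∈ V)
    (c : X.presheaf.stalk x) (h : c • L.presheaf.germ V x hx g = 0) : c = 0 := by
  obtain ⟨O, hxO, c', rfl⟩ := TopCat.Presheaf.exists_germ_eq X.presheaf (x := x) c
  have hl : O ⊓ V ≤ O := inf_le_left
  have hr : O ⊓ V ≤ V := inf_le_right
  have hxOV : x ∈ O ⊓ V := ⟨hxO, hx⟩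
  have h1 : L.presheaf.germ (O ⊓ V) x hxOV (rX hl c' • rF L hr g) = 0 := by
    rw [Mero.germ_smul, germ_rF, germ_rX]
    exact h
  have h2 : L.presheaf.germ (O ⊓ V) x hxOV (rX hl c' • rF L hr g) =
      L.presheaf.germ (O ⊓ V) x hxOV 0 := by rw [h1, map_zero]
  obtain ⟨O', hxO', i₁, i₂, h3⟩ := TopCat.Presheaf.germ_eq L.presheaf x hxOV hxOV _ _ h2
  have hO' : O' ≤ O ⊓ V := i₁.le
  have h4 : rF L hO' (rX hl c' • rF L hr g) = 0 := by
    have : rF L hO' (rX hl c' • rF L hr g) = rF L hO' 0 := h3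
    rw [this, map_zero]
  rw [rF_smul, rF_rF, rX_rX] at h4
  have h5 := (hg O' (hO'.trans hr)).2 _ h4
  have h6 := congrArg (X.presheaf.germ O' x hxO') h5
  rw [germ_rX, map_zero] at h6
  exact h6

end Stalk

section Core

variable {L : X.Modules}

/-- The image of the germ of a generator in the localized stalk is torsion free over `K_{X,x}`. -/
theorem eq_zero_of_smul_mk {V : X.Opens} {g : Γ(L, V)} (hg : IsGen L V g) (x : X) (hx : x ∈ V)
    (q : Mero.KStalk X x)
    (h : q • (LocalizedModule.mk (L.presheaf.germ V x hx g) 1 : Mero.MStalk L x) = 0) : q = 0 := by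
  obtain ⟨a, s, rfl⟩ := IsLocalization.exists_mk'_eq (Mero.regStalk X x) q
  rw [← mk_eq_mk'] at h ⊢
  have h1 : (LocalizedModule.mk a s : Mero.KStalk X x) •
      (LocalizedModule.mk (L.presheaf.germ V x hx g) 1 : Mero.MStalk L x) =
      LocalizedModule.mk (a • L.presheaf.germ V x hx g) (s * 1) :=
    LocalizedModule.mk_smul_mk a _ s 1
  rw [h1, ← LocalizedModule.zero_mk (s * 1), LocalizedModule.mk_eq] at h
  obtain ⟨u, hu⟩ := h
  rw [smul_zero, smul_zero, Submonoid.smul_def, Submonoid.smul_def, ← mul_smul, ← mul_smul] at hu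
  have h2 := eq_zero_of_smul_germ hg x hx _ hu
  have h3 : ((u : X.presheaf.stalk x) * ((s * 1 : Mero.regStalk X x) : X.presheaf.stalk x)) ∈
      nonZeroDivisors (X.presheaf.stalk x) :=
    Submonoid.mul_mem _ (Mero.regStalk_le_nonZeroDivisors x u.2)
      (Mero.regStalk_le_nonZeroDivisors x (s * 1).2)
  have h4 : a = 0 := by
    exact h3.1 a h2
  rw [h4, LocalizedModule.zero_mk]

variable {U : X.Opens} {e : Γ(L, U)}

/-- The value at a point of the meromorphic section defined by a chart. -/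
noncomputable def tval (C : Chart L U e) (y : X) (hy : y ∈ C.V) : Mero.MStalk L y :=
  C.f.1.1 ⟨y, hy⟩ • (LocalizedModule.mk (L.presheaf.germ C.V y hy C.g) 1 : Mero.MStalk L y)

theorem tval_compat (hU : SchDense U) (C C' : Chart L U e) (y : X) (hy : y ∈ C.V)
    (hy' : y ∈ C'.V) : tval C y hy = tval C' y hy' := by
  obtain ⟨c, hcu, hc⟩ := exists_cocycle C C'
  have h1 : C'.f.1.1 ⟨y, hy'⟩ =
      C.f.1.1 ⟨y, hy⟩ * (Mero.toK X (C.V ⊓ C'.V) c).1 ⟨y, hy, hy'⟩ :=
    C.compat hU C' c hc ⟨y, hy, hy'⟩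
  have h2 : L.presheaf.germ C.V y hy C.g =
      X.presheaf.germ (C.V ⊓ C'.V) y ⟨hy, hy'⟩ c • L.presheaf.germ C'.V y hy' C'.g := by
    have := congrArg (L.presheaf.germ (C.V ⊓ C'.V) y ⟨hy, hy'⟩) hc
    rw [Mero.germ_smul, germ_rF, germ_rF] at this
    exact this
  unfold tval
  rw [h1, h2, Mero.toK_apply, mul_smul]
  congr 1
  have h3 := LocalizedModule.mk_smul_mk (X.presheaf.germ (C.V ⊓ C'.V) y ⟨hy, hy'⟩ c)
    (L.presheaf.germ C'.V y hy' C'.g) (1 : Mero.regStalk X y) 1
  rw [one_mul] at h3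
  exact h3.symm

/-- An invertible module with a generator over a schematically dense open has a regular
meromorphic section. -/
theorem hasRegularMero_of_gen
    (hX : IsLocallyNoetherian X ∨ (AlgebraicGeometry.IsReduced X ∧ ∀ x : X, ∃ W : X.Opens,
      x ∈ W ∧ {Z : Set X | Z ∈ irreducibleComponents X ∧ (Z ∩ (W : Set X)).Nonempty}.Finite))
    (hL : PicF.IsInvertible L) (hU : SchDense U) (he : IsGen L U e) : Mero.HasRegularMero L := by
  choose ch hch using exists_chart hX hL hU he
  refine ⟨⟨fun x => tval (ch x.1) x.1 (hch x.1), ?_⟩, ?_⟩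
  · intro x
    obtain ⟨V', hxV', i, a, b, hab⟩ := (ch x.1).f.1.2 ⟨x.1, hch x.1⟩
    refine ⟨V', hxV', homOfLE le_top, a • rF L i.le (ch x.1).g, b, fun y => ?_⟩
    show tval (ch y.1) y.1 (hch y.1) = _
    rw [tval_compat hU (ch y.1) (ch x.1) y.1 (hch y.1) (i.le y.2)]
    unfold tval
    have h1 : (ch x.1).f.1.1 ⟨y.1, i.le y.2⟩ =
        LocalizedModule.mk (X.presheaf.germ V' y.1 y.2 a) (Mero.regGerm y b) := hab y
    rw [h1, Mero.germ_smul, germ_rF]
    have h3 := LocalizedModule.mk_smul_mk (X.presheaf.germ V' y.1 y.2 a)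
      (L.presheaf.germ (ch x.1).V y.1 (i.le y.2) (ch x.1).g) (Mero.regGerm y b) 1
    rw [mul_one] at h3
    exact h3
  · intro x q hq
    have hq' : q • tval (ch x) x (hch x) = 0 := hq
    unfold tval at hq'
    rw [← mul_smul] at hq'
    have h1 := eq_zero_of_smul_mk (ch x).hg x (hch x) _ hq'
    have hu : IsUnit ((ch x).f.1.1 ⟨x, hch x⟩) :=
      (ch x).f.isUnit.map (Mero.evalK X (ch x).V ⟨x, hch x⟩)
    exact (hu.mul_left_eq_zero).1 h1

end Core

end Groth.Agent.RegMero
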