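import Mathlib
import Groth.Prelude
import Groth.Agent.Lib.RegMero1_helper5

/-!
# The ideal of denominators of a meromorphic section (helper5)
APPEND-ONLY once landed.

* `exists_idealSheafData`: for an invertible module `L` and a meromorphic section `s`, the ideals of
  denominators over the affine opens form a quasi-coherent ideal sheaf whose support has empty
  interior.
-/

set_option autoImplicit false
universe u
open CategoryTheory CategoryTheory.Limits AlgebraicGeometry TopologicalSpace Opposite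
open QcqsLoc QCohExtn GenLocH8 Groth.Agent.Lib.Mero_helper4

namespace Groth.Agent.DenomIdeal

open Groth.Agent.DivPic Groth.Agent.RegMero

variable {X : Scheme.{u}} {L : X.Modules}

/-- The value of a meromorphic section at a point. -/
noncomputable def sv (s : Γ(Mero.merMod L, ⊤)) (x : X) : Mero.MStalk L x :=
  s.1 ⟨x, Opens.mem_top x⟩

theorem exists_local (s : Γ(Mero.merMod L, ⊤)) (x : X) :
    ∃ (V : X.Opens) (_ : x ∈ V) (m : Γ(L, V)) (b : Mero.regSub X V),
      ∀ y : V, sv s y.1 = LocalizedModule.mk (L.presheaf.germ V y.1 y.2 m) (Mero.regGerm y b) := by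
  obtain ⟨V, hxV, i, m, b, h⟩ := s.2 ⟨x, Opens.mem_top x⟩
  exact ⟨V, hxV, m, b, fun y => h y⟩

theorem mem_denomIdeal {s : Γ(Mero.merMod L, ⊤)} {U : X.Opens} {f : Γ(X, U)} :
    f ∈ Mero.denomIdeal L s U ↔ ∃ m : Γ(L, U), ∀ x : U,
      X.presheaf.germ U x.1 x.2 f • sv s x.1 =
        LocalizedModule.mk (L.presheaf.germ U x.1 x.2 m) 1 := Iff.rfl

theorem smul_mk (x : X) (r : X.presheaf.stalk x) (m : L.presheaf.stalk x)
    (b : Mero.regStalk X x) :
    r • (LocalizedModule.mk m b : Mero.MStalk L x) = LocalizedModule.mk (r • m) b :=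
  LocalizedModule.smul'_mk r m b

/-- A section all of whose germs vanish is zero. -/
theorem eq_zero_of_germ_eq_zero {U : X.Opens} (t : Γ(L, U))
    (h : ∀ (x : X) (hx : x ∈ U), L.presheaf.germ U x hx t = 0) : t = 0 := by
  let F' : TopCat.Sheaf Ab X := ⟨L.presheaf, L.isSheaf⟩
  apply TopCat.Presheaf.section_ext F' U t 0
  intro x hx
  rw [map_zero]
  exact h x hx

/-- Stalks of an invertible module have no torsion with respect to germs of regular sections. -/
theorem germ_eq_zero_of_smul (hL : PicF.IsInvertible L) {V : X.Opens} (t : Γ(L, V)) (x : X)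
    (hx : x ∈ V) (c : Mero.regStalk X x)
    (h : (c : X.presheaf.stalk x) • L.presheaf.germ V x hx t = 0) :
    L.presheaf.germ V x hx t = 0 := by
  obtain ⟨W, -, hxW, hWV, e, he⟩ := TensH8.exists_isGen_le hL x V hx
  obtain ⟨c0, hc0⟩ := (he W le_rfl).1 (rF L hWV t)
  rw [SubExt.rF_self] at hc0
  have h1 : L.presheaf.germ V x hx t =
      X.presheaf.germ W x hxW c0 • L.presheaf.germ W x hxW e := by
    rw [← germ_rF hWV t x hxW, hc0, Mero.germ_smul]
  rw [h1, ← mul_smul] at h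
  have h2 := eq_zero_of_smul_germ he x hxW _ h
  have h3 : X.presheaf.germ W x hxW c0 = 0 :=
    (Mero.regStalk_le_nonZeroDivisors x c.2).1 _ h2
  rw [h1, h3, zero_smul]

/-- Denominators restrict to smaller opens. -/
theorem rX_mem_denomIdeal {s : Γ(Mero.merMod L, ⊤)} {U V : X.Opens} (h : V ≤ U) {f : Γ(X, U)}
    (hf : f ∈ Mero.denomIdeal L s U) : rX h f ∈ Mero.denomIdeal L s V := by
  obtain ⟨m, hm⟩ := hf
  refine ⟨rF L h m, fun x => ?_⟩
  have := hm ⟨x.1, h x.2⟩
  rw [germ_rX, germ_rF]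
  exact this

theorem local_eq (s : Γ(Mero.merMod L, ⊤)) {U V W : X.Opens} (hWU : W ≤ U) (hWV : W ≤ V)
    (f g0 : Γ(X, U)) (m0 : Γ(L, U)) (m : Γ(L, V)) (b : Mero.regSub X V) (N : ℕ)
    (hN : rX hWU f ^ N • (rX hWU g0 • rF L hWV m - rX hWV b.1 • rF L hWU m0) = 0)
    (y : X) (hy : y ∈ W)
    (hsv : sv s y = LocalizedModule.mk (L.presheaf.germ V y (hWV hy) m)
      (Mero.regGerm ⟨y, hWV hy⟩ b)) :
    X.presheaf.germ U y (hWU hy) (f ^ N * g0) • sv s y =
      LocalizedModule.mk (L.presheaf.germ U y (hWU hy) (f ^ N • m0)) 1 := by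
  have h1 := congrArg (L.presheaf.germ W y hy) hN
  rw [map_zero, Mero.germ_smul, map_sub, Mero.germ_smul, Mero.germ_smul, germ_rF, germ_rF,
    map_pow, germ_rX, germ_rX, germ_rX, smul_sub, sub_eq_zero] at h1
  rw [hsv, smul_mk, LocalizedModule.mk_eq]
  refine ⟨1, ?_⟩
  simp only [one_smul, Submonoid.smul_def]
  rw [Mero.germ_smul, map_mul, map_pow, mul_smul]
  refine h1.trans ?_
  exact smul_comm _ _ _

theorem germ_t_eq_zero (hL : PicF.IsInvertible L) (s : Γ(Mero.merMod L, ⊤)) {U V W : X.Opens}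
    (hWU : W ≤ U) (hWV : W ≤ V) (g0 : Γ(X, U)) (m0 : Γ(L, U)) (m : Γ(L, V))
    (b : Mero.regSub X V) (y : X) (hy : y ∈ W)
    (hsv : sv s y = LocalizedModule.mk (L.presheaf.germ V y (hWV hy) m)
      (Mero.regGerm ⟨y, hWV hy⟩ b))
    (h : X.presheaf.germ U y (hWU hy) g0 • sv s y =
      LocalizedModule.mk (L.presheaf.germ U y (hWU hy) m0) 1) :
    L.presheaf.germ W y hy (rX hWU g0 • rF L hWV m - rX hWV b.1 • rF L hWU m0) = 0 := by
  rw [hsv, smul_mk, LocalizedModule.mk_eq] at h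
  obtain ⟨u, hu⟩ := h
  apply germ_eq_zero_of_smul hL _ y hy u
  rw [map_sub, Mero.germ_smul, Mero.germ_smul, germ_rF, germ_rF, germ_rX, germ_rX, smul_sub,
    sub_eq_zero]
  rw [one_smul, Submonoid.smul_def, Submonoid.smul_def] at hu
  exact hu

theorem exists_local_pow (hL : PicF.IsInvertible L) (s : Γ(Mero.merMod L, ⊤)) {U : X.Opens}
    (f g0 : Γ(X, U)) (m0 : Γ(L, U))
    (h : ∀ (y : X) (hy : y ∈ X.basicOpen f),
      X.presheaf.germ U y (X.basicOpen_le f hy) g0 • sv s y =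
        LocalizedModule.mk (L.presheaf.germ U y (X.basicOpen_le f hy) m0) 1)
    (x : X) (hx : x ∈ U) :
    ∃ W : X.Opens, x ∈ W ∧ W ≤ U ∧ ∃ n : ℕ, ∀ N, n ≤ N → ∀ (y : X) (_ : y ∈ W) (hyU : y ∈ U),
      X.presheaf.germ U y hyU (f ^ N * g0) • sv s y =
        LocalizedModule.mk (L.presheaf.germ U y hyU (f ^ N • m0)) 1 := by
  obtain ⟨V, hxV, m, b, hV⟩ := exists_local s x
  obtain ⟨_, ⟨W, hW : IsAffineOpen W, rfl⟩, hxW, hWle⟩ :=
    (X.isBasis_affineOpens).exists_subset_of_mem_open (show x ∈ V ⊓ U from ⟨hxV, hx⟩)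
      (V ⊓ U).isOpen
  have hWV : W ≤ V := fun y hy => (hWle hy).1
  have hWU : W ≤ U := fun y hy => (hWle hy).2
  have ht : rF L (X.basicOpen_le (rX hWU f))
      (rX hWU g0 • rF L hWV m - rX hWV b.1 • rF L hWU m0) = 0 := by
    refine eq_zero_of_germ_eq_zero _ (fun y hy => ?_)
    rw [germ_rF]
    have hyW : y ∈ W := X.basicOpen_le _ hy
    have hyf : y ∈ X.basicOpen f := by
      have h0 := basicOpen_rX hWU f
      rw [h0] at hy
      exact hy.2
    exact germ_t_eq_zero hL s hWU hWV g0 m0 m b y hyW (hV ⟨y, hWV hyW⟩) (h y hyf)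
  haveI := TensH8.isQuasicoherent_of_isInvertible hL
  obtain ⟨n, hn⟩ := ker_of_isCompact L (rX hWU f) hW.isCompact
    (homOfLE (X.basicOpen_le _)) rfl _ ht
  refine ⟨W, hxW, hWU, n, fun N hN y hy hyU => ?_⟩
  have hN' : rX hWU f ^ N • (rX hWU g0 • rF L hWV m - rX hWV b.1 • rF L hWU m0) = 0 := by
    obtain ⟨k, rfl⟩ := Nat.exists_eq_add_of_le hN
    rw [pow_add, mul_comm, mul_smul, hn, smul_zero]
  exact local_eq s hWU hWV f g0 m0 m b N hN' y hy (hV ⟨y, hWV hy⟩)

/-- A candidate denominator over a quasi-compact open which works over `D(f)` becomes a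
denominator after multiplication by a power of `f`. -/
theorem exists_pow_mem (hL : PicF.IsInvertible L) (s : Γ(Mero.merMod L, ⊤)) {U : X.Opens}
    (hU : IsCompact (U : Set X)) (f g0 : Γ(X, U)) (m0 : Γ(L, U))
    (h : ∀ (y : X) (hy : y ∈ X.basicOpen f),
      X.presheaf.germ U y (X.basicOpen_le f hy) g0 • sv s y =
        LocalizedModule.mk (L.presheaf.germ U y (X.basicOpen_le f hy) m0) 1) :
    ∃ N : ℕ, f ^ N * g0 ∈ Mero.denomIdeal L s U := by
  choose W hxW hWU n hn using exists_local_pow hL s f g0 m0 h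
  obtain ⟨t, ht⟩ := hU.elim_finite_subcover (fun x : U => ((W x.1 x.2 : X.Opens) : Set X))
    (fun x => (W x.1 x.2).isOpen) (fun x hx => Set.mem_iUnion.2 ⟨⟨x, hx⟩, hxW x hx⟩)
  refine ⟨t.sup (fun x => n x.1 x.2), f ^ (t.sup (fun x => n x.1 x.2)) • m0, fun y => ?_⟩
  obtain ⟨x, hxt, hyx⟩ := Set.mem_iUnion₂.1 (ht y.2)
  exact hn x.1 x.2 _ (Finset.le_sup (f := fun x : U => n x.1 x.2) hxt) y.1 hyx y.2

/-- Compatibility of the ideals of denominators with passing to basic opens of affine opens. -/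
theorem map_denomIdeal_basicOpen (hL : PicF.IsInvertible L) (s : Γ(Mero.merMod L, ⊤))
    {U : X.Opens} (hU : IsAffineOpen U) (f : Γ(X, U)) :
    (Mero.denomIdeal L s U).map (X.presheaf.map (homOfLE (X.basicOpen_le f)).op).hom =
      Mero.denomIdeal L s (X.basicOpen f) := by
  apply le_antisymm
  · rw [Ideal.map_le_iff_le_comap]
    intro g hg
    exact rX_mem_denomIdeal (X.basicOpen_le f) hg
  · intro g' hg'
    obtain ⟨m', hm'⟩ := hg'
    obtain ⟨a, g0, hg0⟩ := exists_eq_pow_mul_of_isAffineOpen X U hU f g'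
    have hg0' : rX (X.basicOpen_le f) g0 = rX (X.basicOpen_le f) f ^ a * g' := hg0
    haveI := TensH8.isQuasicoherent_of_isInvertible hL
    obtain ⟨b, m0, hm0⟩ := exists_pow_smul_extends (F := L) (a := f) hU.isCompact
      hU.isQuasiSeparated m'
    have hg1 : rX (X.basicOpen_le f) (f ^ b * g0) = rX (X.basicOpen_le f) f ^ (a + b) * g' := by
      rw [map_mul, map_pow, hg0', ← mul_assoc, ← pow_add, add_comm]
    have hm1 : rF L (X.basicOpen_le f) (f ^ a • m0) = rX (X.basicOpen_le f) f ^ (a + b) • m' := by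
      rw [rF_smul, map_pow, hm0, ← mul_smul, ← pow_add]
    have key : ∀ (y : X) (hy : y ∈ X.basicOpen f),
        X.presheaf.germ U y (X.basicOpen_le f hy) (f ^ b * g0) • sv s y =
          LocalizedModule.mk (L.presheaf.germ U y (X.basicOpen_le f hy) (f ^ a • m0)) 1 := by
      intro y hy
      rw [← germ_rX (X.basicOpen_le f) _ y hy, ← germ_rF (X.basicOpen_le f) _ y hy, hg1, hm1,
        map_mul, mul_smul, Mero.germ_smul]
      have h1 : X.presheaf.germ (X.basicOpen f) y hy g' • sv s y =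
          LocalizedModule.mk (L.presheaf.germ (X.basicOpen f) y hy m') 1 := hm' ⟨y, hy⟩
      rw [h1, smul_mk]
    obtain ⟨N, hN⟩ := exists_pow_mem hL s hU.isCompact f (f ^ b * g0) (f ^ a • m0) key
    have h2 := Ideal.mem_map_of_mem (X.presheaf.map (homOfLE (X.basicOpen_le f)).op).hom hN
    have h3 : (X.presheaf.map (homOfLE (X.basicOpen_le f)).op).hom (f ^ N * (f ^ b * g0)) =
        rX (X.basicOpen_le f) f ^ (N + (a + b)) * g' := by
      change rX (X.basicOpen_le f) (f ^ N * (f ^ b * g0)) = _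
      rw [map_mul, hg1, map_pow, ← mul_assoc, ← pow_add]
    rw [h3] at h2
    have hu : IsUnit (rX (X.basicOpen_le f) f ^ (N + (a + b))) :=
      (RingedSpace.isUnit_res_basicOpen X.toRingedSpace f).pow _
    exact (Ideal.unit_mul_mem_iff_mem _ hu).1 h2

/-- The quasi-coherent ideal sheaf of denominators of a meromorphic section of an invertible
module. -/
noncomputable def denomSheaf (hL : PicF.IsInvertible L) (s : Γ(Mero.merMod L, ⊤)) :
    X.IdealSheafData where
  ideal U := Mero.denomIdeal L s U.1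
  map_ideal_basicOpen U f := map_denomIdeal_basicOpen hL s U.2 f

theorem interior_support_denomSheaf (hL : PicF.IsInvertible L) (s : Γ(Mero.merMod L, ⊤)) :
    interior ((denomSheaf hL s).support : Set ↥X) = ∅ := by
  rw [Set.eq_empty_iff_forall_notMem]
  intro x hx
  obtain ⟨V, hxV, m, b, hV⟩ := exists_local s x
  obtain ⟨_, ⟨W, hW : IsAffineOpen W, rfl⟩, hxW, hWle⟩ :=
    (X.isBasis_affineOpens).exists_subset_of_mem_open
      (show x ∈ (V : Set X) ∩ interior ((denomSheaf hL s).support : Set ↥X) from ⟨hxV, hx⟩)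
      (V.isOpen.inter isOpen_interior)
  have hWV : W ≤ V := fun y hy => (hWle hy).1
  have hb : rX hWV b.1 ∈ Mero.denomIdeal L s W := by
    refine ⟨rF L hWV m, fun y => ?_⟩
    have h1 : sv s y.1 = _ := hV ⟨y.1, hWV y.2⟩
    change X.presheaf.germ W y.1 y.2 (rX hWV b.1) • sv s y.1 =
      LocalizedModule.mk (L.presheaf.germ W y.1 y.2 (rF L hWV m)) 1
    rw [h1, smul_mk, germ_rX, germ_rF, LocalizedModule.mk_eq]
    refine ⟨1, ?_⟩
    rw [one_smul, one_smul, one_smul, Submonoid.smul_def]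
  have hbot : X.basicOpen (rX hWV b.1) = ⊥ := by
    rw [eq_bot_iff]
    intro y hy
    have hyW : y ∈ W := X.basicOpen_le _ hy
    have hys : y ∈ ((denomSheaf hL s).support : Set ↥X) := interior_subset (hWle hyW).2
    have h1 := (Scheme.IdealSheafData.mem_support_iff.1 hys) ⟨W, hW⟩
    rw [Scheme.mem_zeroLocus_iff] at h1
    exact (h1 _ hb hy).elim
  obtain ⟨n, hn⟩ := (Scheme.isNilpotent_iff_basicOpen_eq_bot_of_isCompact hW.isCompact _).2 hbot
  have h4 : (rX hWV b.1) ^ n ∈ Mero.regSub X W :=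
    Submonoid.pow_mem _ (Mero.regSub_res (homOfLE hWV) b.2) n
  rw [hn] at h4
  have h5 := h4 ⟨x, hxW⟩
  rw [map_zero] at h5
  exact zero_notMem_nonZeroDivisors h5

end Groth.Agent.DenomIdeal
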