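import Mathlib
import Groth.Prelude
import Groth.Agent.Lib.AffStrat2_helper4
import Groth.Agent.Lib.Tens14_helper8

/-!
# Dense affine opens on Noetherian schemes; affine opens are quasi-projective over the base (helper4)

* `exists_dense_affine_ge`: every affine open of a Noetherian scheme lies in a dense affine open;
* `isQuasiProjective_of_affine`: for `f : X ⟶ S` locally of finite type, `X` locally Noetherian, the
  restriction of `f` to an affine open is quasi-projective (`O` is relatively ample);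
* `main17886`.
APPEND-ONLY once landed.
-/

set_option autoImplicit false
set_option linter.style.haveILetI false
universe u
open CategoryTheory CategoryTheory.Limits AlgebraicGeometry TopologicalSpace Opposite

namespace Groth.Agent.Lib.DenseAffH4

/-- every affine open of a Noetherian scheme is contained in a dense affine open. -/
theorem exists_dense_affine_ge (X : Scheme.{u}) [IsNoetherian X] (U₀ : X.Opens)
    (h₀ : IsAffineOpen U₀) :
    ∃ U : X.Opens, U₀ ≤ U ∧ IsAffineOpen U ∧ Dense (U : Set X) := by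
  have hwf : WellFoundedGT X.Opens := (inferInstance : NoetherianSpace X)
  obtain ⟨U, ⟨hU0, hUaff⟩, hmax⟩ :=
    hwf.wf.has_min {U : X.Opens | U₀ ≤ U ∧ IsAffineOpen U} ⟨U₀, le_rfl, h₀⟩
  refine ⟨U, hU0, hUaff, ?_⟩
  by_contra hnd
  have hne : ((closure (U : Set X))ᶜ).Nonempty := by
    rw [Set.nonempty_compl]
    intro h
    exact hnd (dense_iff_closure_eq.mpr h)
  obtain ⟨y, hy⟩ := hne
  obtain ⟨O, hO⟩ : ∃ O : X.Opens, (O : Set X) = (closure (U : Set X))ᶜ :=
    ⟨⟨(closure (U : Set X))ᶜ, isClosed_closure.isOpen_compl⟩, rfl⟩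
  have hyO : y ∈ O := by
    show y ∈ (O : Set X)
    rw [hO]; exact hy
  obtain ⟨W, hW, hyW, hWO⟩ := Opens.isBasis_iff_nbhd.mp X.isBasis_affineOpens hyO
  have hdisj : Disjoint U W := by
    rw [disjoint_iff]
    ext z
    constructor
    · rintro ⟨hzU, hzW⟩
      have hzO : z ∈ (O : Set X) := hWO hzW
      rw [hO] at hzO
      exact (hzO (subset_closure hzU)).elim
    · intro hz
      exact hz.elim
  have haff : IsAffineOpen (U ⊔ W) := hUaff.sup_of_disjoint hW hdisj
  have hlt : U < U ⊔ W := by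
    refine lt_of_le_of_ne le_sup_left ?_
    intro heq
    have hyUW : y ∈ U ⊔ W := (le_sup_right : W ≤ U ⊔ W) hyW
    rw [← heq] at hyUW
    exact hy (subset_closure hyUW)
  exact hmax (U ⊔ W) ⟨hU0.trans le_sup_left, haff⟩ hlt

/-- the restriction of a locally finite type morphism to an affine open of a locally Noetherian
source is quasi-projective: the structure sheaf is relatively ample. -/
theorem isQuasiProjective_of_affine {S X : Scheme.{u}} (f : X ⟶ S) [IsLocallyNoetherian X]
    [LocallyOfFiniteType f] (U : X.Opens) (hU : IsAffineOpen U) :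
    RelProj.IsQuasiProjective (U.ι ≫ f) := by
  haveI : IsAffine (U : Scheme.{u}) := hU
  haveI : IsNoetherian (U : Scheme.{u}) := {}
  haveI hqc : QuasiCompact (U.ι ≫ f) := inferInstance
  refine ⟨inferInstance, hqc, Coh.structureModule (U : Scheme.{u}), hqc, fun V => ?_⟩
  have hc : CompactSpace ↥((U.ι ≫ f) ⁻¹ᵁ V.1) :=
    isCompact_iff_compactSpace.mp
      (QuasiCompact.isCompact_preimage (f := U.ι ≫ f) _ V.1.isOpen V.2.isCompact)
  haveI : CompactSpace (((U.ι ≫ f) ⁻¹ᵁ V.1 : (U : Scheme.{u}).Opens) : Scheme.{u}) := hc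
  rw [TensH8.isAmple_congr (Scheme.Modules.restrictUnitIso ((U.ι ≫ f) ⁻¹ᵁ V.1).ι),
    TensH8.isAmple_structureModule_iff]
  exact Scheme.IsQuasiAffine.of_isImmersion ((U.ι ≫ f) ⁻¹ᵁ V.1).ι

theorem main17886 {S X : Scheme.{u}} (f : X ⟶ S)
    [IsNoetherian S] [IsSeparated f] [QuasiCompact f] [LocallyOfFiniteType f] :
    ∃ (n : ℕ) (U : Fin n → X.Opens), (⨆ i, U i) = ⊤ ∧
      ∀ i, IsAffineOpen (U i) ∧ Dense ((U i : Set X)) ∧
        RelProj.IsQuasiProjective ((U i).ι ≫ f) := by
  haveI : IsLocallyNoetherian X := LocallyOfFiniteType.isLocallyNoetherian f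
  haveI : CompactSpace X := QuasiCompact.compactSpace_of_compactSpace f
  haveI : IsNoetherian X := {}
  obtain ⟨n, V, hV, hcov⟩ := Groth.Agent.Lib.AffStratH4.exists_fin_affine_cover X
  choose U hU using fun i => exists_dense_affine_ge X (V i) (hV i)
  refine ⟨n, U, ?_, fun i => ⟨(hU i).2.1, (hU i).2.2, ?_⟩⟩
  · rw [eq_top_iff]
    intro x _
    obtain ⟨k, hk⟩ := hcov x
    exact (le_iSup U k) ((hU k).1 hk)
  · exact isQuasiProjective_of_affine f (U i) (hU i).2.1

end Groth.Agent.Lib.DenseAffH4
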