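import Mathlib
import Groth.Agent.Lib.WeaklyEtale_helper5
import Groth.Agent.Lib.WEIndEt1_helper3

/-!
# Algebra for the closed-immersion dense-subsite argument (helper3)

* purity of flat quotients;
* lifting a homomorphism between the reductions of two weakly étale algebras to a
  Zariski localisation of the tensor product.
-/

set_option autoImplicit false
set_option linter.all false
set_option maxHeartbeats 1600000
universe u

open TensorProduct

namespace Groth.Agent.Lib.DenseCIH3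

/-- Flat surjections are pure: elements of the kernel are killed by elements mapping to `1`. -/
theorem exists_eq_one_mul_eq_zero {R T : Type*} [CommRing R] [CommRing T] (ρ : R →+* T)
    (hρ : Function.Surjective ρ) (hflat : ρ.Flat) (x : R) (hx : ρ x = 0) :
    ∃ s : R, ρ s = 1 ∧ s * x = 0 := by
  algebraize [ρ]
  have h0 : ∑ _i : Fin 1, x • (1 : T) = 0 := by
    simp only [Finset.univ_unique, Finset.sum_const, Finset.card_singleton, one_smul]
    rw [Algebra.smul_def, mul_one]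
    exact hx
  obtain ⟨k, a, y, hy1, hy2⟩ := Module.Flat.isTrivialRelation_of_sum_smul_eq_zero
    (f := fun _ : Fin 1 => x) (x := fun _ : Fin 1 => (1 : T)) h0
  choose r hr using fun j => hρ (y j)
  refine ⟨∑ j, a 0 j * r j, ?_, ?_⟩
  · have h1 : (1 : T) = ∑ j, a 0 j • y j := hy1 0
    rw [map_sum, h1]
    refine Finset.sum_congr rfl fun j _ => ?_
    rw [map_mul, hr j, Algebra.smul_def]
    rfl
  · rw [Finset.sum_mul]
    refine Finset.sum_eq_zero fun j _ => ?_
    have := hy2 j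
    simp only [Finset.univ_unique, Finset.sum_singleton] at this
    have h00 : (default : Fin 1) = 0 := rfl
    rw [h00] at this
    rw [mul_comm (a 0 j) (r j), mul_assoc, mul_comm (a 0 j) x, this, mul_zero]

section Lift

variable (A Ab B B' : Type u) [CommRing A] [CommRing Ab] [CommRing B] [CommRing B']
  [Algebra A Ab] [Algebra A B] [Algebra A B']
  (fb : B' ⊗[A] Ab →ₐ[A] B ⊗[A] Ab)

/-- The map `B' → B̄`. -/
noncomputable def fbL : B' →ₐ[A] B ⊗[A] Ab := fb.comp Algebra.TensorProduct.includeLeft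

/-- `ρ̄ : B̄ ⊗ B' → B̄`. -/
noncomputable def rhoBar : (B ⊗[A] Ab) ⊗[A] B' →ₐ[A] B ⊗[A] Ab :=
  Algebra.TensorProduct.productMap (AlgHom.id A _) (fbL A Ab B B' fb)

/-- `π : B ⊗ B' → B̄ ⊗ B'`. -/
noncomputable def piMap : B ⊗[A] B' →ₐ[A] (B ⊗[A] Ab) ⊗[A] B' :=
  Algebra.TensorProduct.map Algebra.TensorProduct.includeLeft (AlgHom.id A B')

/-- `ρ : B ⊗ B' → B̄`. -/
noncomputable def rho : B ⊗[A] B' →ₐ[A] B ⊗[A] Ab := (rhoBar A Ab B B' fb).comp (piMap A Ab B B')

/-- The multiplicative set `{s | ρ s = 1}`. -/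
noncomputable def SS : Submonoid (B ⊗[A] B') :=
  (⊥ : Submonoid (B ⊗[A] Ab)).comap (rho A Ab B B' fb).toRingHom

theorem mem_SS (s : B ⊗[A] B') : s ∈ SS A Ab B B' fb ↔ rho A Ab B B' fb s = 1 := by
  unfold SS
  rw [Submonoid.mem_comap, Submonoid.mem_bot]
  rfl

theorem rhoBar_tmul_one (x : B ⊗[A] Ab) : rhoBar A Ab B B' fb (x ⊗ₜ 1) = x := by
  unfold rhoBar
  rw [Algebra.TensorProduct.productMap_apply_tmul, map_one, mul_one]
  rfl

theorem piMap_surjective (hsurj : Function.Surjective (algebraMap A Ab)) :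
    Function.Surjective (piMap A Ab B B') := by
  intro z
  induction z using TensorProduct.induction_on with
  | zero => exact ⟨0, map_zero _⟩
  | add x y hx hy =>
    obtain ⟨x', rfl⟩ := hx
    obtain ⟨y', rfl⟩ := hy
    exact ⟨x' + y', map_add _ _ _⟩
  | tmul x b' =>
    induction x using TensorProduct.induction_on with
    | zero => exact ⟨0, by rw [map_zero, TensorProduct.zero_tmul]⟩
    | add x y hx hy =>
      obtain ⟨x', hx'⟩ := hx
      obtain ⟨y', hy'⟩ := hy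
      exact ⟨x' + y', by rw [map_add, hx', hy', TensorProduct.add_tmul]⟩
    | tmul b a =>
      obtain ⟨a0, rfl⟩ := hsurj a
      refine ⟨(a0 • b) ⊗ₜ b', ?_⟩
      unfold piMap
      rw [Algebra.TensorProduct.map_tmul]
      simp only [Algebra.TensorProduct.includeLeft_apply, AlgHom.coe_id, id_eq]
      congr 1
      rw [Algebra.algebraMap_eq_smul_one (R := A) (A := Ab) a0, ← TensorProduct.smul_tmul]

theorem rhoBar_flat [Algebra.WeaklyEtale A B'] :
    RingHom.Flat ((rhoBar A Ab B B' fb : (B ⊗[A] Ab) ⊗[A] B' →ₐ[A] B ⊗[A] Ab) :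
      (B ⊗[A] Ab) ⊗[A] B' →+* B ⊗[A] Ab) := by
  letI : Algebra ((B ⊗[A] Ab) ⊗[A] B') (B ⊗[A] Ab) :=
    ((rhoBar A Ab B B' fb : (B ⊗[A] Ab) ⊗[A] B' →ₐ[A] B ⊗[A] Ab) :
      (B ⊗[A] Ab) ⊗[A] B' →+* B ⊗[A] Ab).toAlgebra
  haveI : IsScalarTower (B ⊗[A] Ab) ((B ⊗[A] Ab) ⊗[A] B') (B ⊗[A] Ab) := by
    refine IsScalarTower.of_algebraMap_eq (R := B ⊗[A] Ab) (S := (B ⊗[A] Ab) ⊗[A] B')
      (A := B ⊗[A] Ab) fun x => ?_
    show x = rhoBar A Ab B B' fb (x ⊗ₜ 1)
    rw [rhoBar_tmul_one]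
  haveI : Algebra.WeaklyEtale (B ⊗[A] Ab) (B ⊗[A] Ab) := inferInstance
  haveI : Algebra.WeaklyEtale (B ⊗[A] Ab) ((B ⊗[A] Ab) ⊗[A] B') := inferInstance
  have h := Groth.Agent.Lib.WeaklyEtale_helper5.weaklyEtale_of_tower (B ⊗[A] Ab)
    ((B ⊗[A] Ab) ⊗[A] B') (B ⊗[A] Ab)
  exact h.flat

theorem rho_isUnit (s : SS A Ab B B' fb) : IsUnit (rho A Ab B B' fb (s : B ⊗[A] B')) := by
  rw [(mem_SS A Ab B B' fb _).mp s.2]
  exact isUnit_one

/-- The localisation `C = S⁻¹(B ⊗ B')`. -/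
abbrev CC : Type u := Localization (SS A Ab B B' fb)

/-- `C → B̄`. -/
noncomputable def locLift : CC A Ab B B' fb →ₐ[A] B ⊗[A] Ab :=
  IsLocalization.liftAlgHom (M := SS A Ab B B' fb) (f := rho A Ab B B' fb)
    (rho_isUnit A Ab B B' fb)

theorem locLift_algebraMap (x : B ⊗[A] B') :
    locLift A Ab B B' fb (algebraMap (B ⊗[A] B') (CC A Ab B B' fb) x) = rho A Ab B B' fb x := by
  unfold locLift
  exact IsLocalization.lift_eq _ _

theorem exists_lift_alg [Algebra.WeaklyEtale A B']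
    (hsurj : Function.Surjective (algebraMap A Ab)) :
    ∃ (C : Type u) (_ : CommRing C) (_ : Algebra A C) (_ : Algebra B C) (_ : IsScalarTower A B C)
      (g : B' →ₐ[A] C), Algebra.WeaklyEtale B C ∧
      (∃ r : C ⊗[A] Ab →ₐ[A] B ⊗[A] Ab,
        r.comp (Algebra.TensorProduct.map (IsScalarTower.toAlgHom A B C) (AlgHom.id A Ab)) =
          AlgHom.id A _) ∧
      ∀ b' : B', (g b') ⊗ₜ[A] (1 : Ab) =
        Algebra.TensorProduct.map (IsScalarTower.toAlgHom A B C) (AlgHom.id A Ab)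
          (fb (b' ⊗ₜ 1)) := by
  classical
  letI algBC : Algebra B (CC A Ab B B' fb) := inferInstance
  haveI st2 : IsScalarTower B (B ⊗[A] B') (CC A Ab B B' fb) := inferInstance
  have hBC : ∀ b : B, algebraMap B (CC A Ab B B' fb) b =
      algebraMap (B ⊗[A] B') (CC A Ab B B' fb) (b ⊗ₜ 1) := fun b => by
    rw [IsScalarTower.algebraMap_apply B (B ⊗[A] B') (CC A Ab B B' fb)]
    rfl
  haveI st1 : IsScalarTower A B (CC A Ab B B' fb) := by
    refine IsScalarTower.of_algebraMap_eq (R := A) (S := B) (A := CC A Ab B B' fb) fun a => ?_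
    rw [hBC, IsScalarTower.algebraMap_apply A (B ⊗[A] B') (CC A Ab B B' fb)]
    congr 1
  haveI we1 : Algebra.WeaklyEtale (B ⊗[A] B') (CC A Ab B B' fb) :=
    Groth.Agent.Lib.WEIndEtH3.weaklyEtale_of_isLocalization (SS A Ab B B' fb) _
  haveI we2 : Algebra.WeaklyEtale B (B ⊗[A] B') := inferInstance
  have we3 : Algebra.WeaklyEtale B (CC A Ab B B' fb) :=
    Algebra.WeaklyEtale.trans B (B ⊗[A] B') (CC A Ab B B' fb)
  let g : B' →ₐ[A] CC A Ab B B' fb :=
    (IsScalarTower.toAlgHom A (B ⊗[A] B') (CC A Ab B B' fb)).comp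
      Algebra.TensorProduct.includeRight
  let γ : B →ₐ[A] CC A Ab B B' fb := IsScalarTower.toAlgHom A B (CC A Ab B B' fb)
  have hγ : ∀ b : B, γ b = algebraMap (B ⊗[A] B') (CC A Ab B B' fb) (b ⊗ₜ 1) := fun b => hBC b
  have hg : ∀ b' : B', g b' = algebraMap (B ⊗[A] B') (CC A Ab B B' fb) (1 ⊗ₜ b') := fun b' => rfl
  refine ⟨CC A Ab B B' fb, inferInstance, inferInstance, algBC, st1, g, we3, ?_, ?_⟩
  · refine ⟨Algebra.TensorProduct.productMap (locLift A Ab B B' fb)
      (Algebra.TensorProduct.includeRight : Ab →ₐ[A] B ⊗[A] Ab), ?_⟩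
    apply Algebra.TensorProduct.ext'
    intro b a
    rw [AlgHom.comp_apply, Algebra.TensorProduct.map_tmul,
      Algebra.TensorProduct.productMap_apply_tmul]
    show locLift A Ab B B' fb (γ b) * _ = _
    rw [hγ, locLift_algebraMap]
    unfold rho piMap
    rw [AlgHom.comp_apply, Algebra.TensorProduct.map_tmul]
    simp only [Algebra.TensorProduct.includeLeft_apply, AlgHom.coe_id, id_eq,
      Algebra.TensorProduct.includeRight_apply, rhoBar_tmul_one,
      Algebra.TensorProduct.tmul_mul_tmul, mul_one, one_mul]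
  · intro b'
    let mγ : B ⊗[A] Ab →ₐ[A] CC A Ab B B' fb ⊗[A] Ab :=
      Algebra.TensorProduct.map γ (AlgHom.id A Ab)
    let θ : (B ⊗[A] Ab) ⊗[A] B' →ₐ[A] CC A Ab B B' fb ⊗[A] Ab :=
      Algebra.TensorProduct.lift mγ
        ((Algebra.TensorProduct.includeLeft :
          CC A Ab B B' fb →ₐ[A] CC A Ab B B' fb ⊗[A] Ab).comp g) (fun _ _ => by
            rw [commute_iff_eq]; exact mul_comm (G := CC A Ab B B' fb ⊗[A] Ab) _ _)
    have hθ : ∀ (x : B ⊗[A] Ab) (c : B'), θ (x ⊗ₜ c) = mγ x * (g c ⊗ₜ 1) := by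
      intro x c
      show Algebra.TensorProduct.lift mγ _ _ (x ⊗ₜ c) = _
      rw [Algebra.TensorProduct.lift_tmul]
      rfl
    have hθπ : ∀ x : B ⊗[A] B', θ (piMap A Ab B B' x) =
        (algebraMap (B ⊗[A] B') (CC A Ab B B' fb) x) ⊗ₜ[A] (1 : Ab) := by
      intro x
      induction x using TensorProduct.induction_on with
      | zero => simp
      | add x y hx hy => rw [map_add, map_add, map_add, hx, hy, TensorProduct.add_tmul]
      | tmul b c =>
        unfold piMap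
        rw [Algebra.TensorProduct.map_tmul, hθ]
        show (γ b ⊗ₜ[A] (1 : Ab)) * _ = _
        rw [Algebra.TensorProduct.tmul_mul_tmul, mul_one, hγ, hg, ← map_mul,
          Algebra.TensorProduct.tmul_mul_tmul, mul_one, one_mul]
        rfl
    set d : (B ⊗[A] Ab) ⊗[A] B' :=
      (1 : B ⊗[A] Ab) ⊗ₜ[A] b' - (fbL A Ab B B' fb b') ⊗ₜ[A] (1 : B') with hd_def
    have hd : rhoBar A Ab B B' fb d = 0 := by
      rw [hd_def, map_sub, rhoBar_tmul_one]
      unfold rhoBar
      rw [Algebra.TensorProduct.productMap_apply_tmul, map_one, one_mul, sub_self]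
    have hsurjρ : Function.Surjective
        ((rhoBar A Ab B B' fb : (B ⊗[A] Ab) ⊗[A] B' →ₐ[A] B ⊗[A] Ab) :
          (B ⊗[A] Ab) ⊗[A] B' →+* B ⊗[A] Ab) :=
      fun x => ⟨x ⊗ₜ 1, rhoBar_tmul_one A Ab B B' fb x⟩
    obtain ⟨sb, hsb1, hsb2⟩ := exists_eq_one_mul_eq_zero _ hsurjρ (rhoBar_flat A Ab B B' fb) d hd
    obtain ⟨s, rfl⟩ := piMap_surjective A Ab B B' hsurj sb
    have hsS : s ∈ SS A Ab B B' fb := (mem_SS A Ab B B' fb s).mpr hsb1
    have hunit : IsUnit (θ (piMap A Ab B B' s)) := by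
      rw [hθπ]
      exact (IsLocalization.map_units (CC A Ab B B' fb) (⟨s, hsS⟩ : SS A Ab B B' fb)).map
        (Algebra.TensorProduct.includeLeft :
          CC A Ab B B' fb →ₐ[A] CC A Ab B B' fb ⊗[A] Ab)
    have hθd : θ d = 0 := by
      have h1 := congrArg θ hsb2
      rw [map_mul, map_zero] at h1
      exact (hunit.mul_right_eq_zero).mp h1
    have hθd2 : θ d = g b' ⊗ₜ[A] (1 : Ab) - mγ (fb (b' ⊗ₜ 1)) := by
      rw [hd_def, map_sub, hθ, hθ, map_one, one_mul, map_one]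
      congr 1
      show mγ (fbL A Ab B B' fb b') * (1 ⊗ₜ 1) = _
      rw [← Algebra.TensorProduct.one_def, mul_one]
      rfl
    rw [hθd2, sub_eq_zero] at hθd
    exact hθd

end Lift

end Groth.Agent.Lib.DenseCIH3
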