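import Mathlib
import Groth.Prelude.Def_PBC
import Groth.Agent.Lib.IndEtale2_helper3

/-!
# The ind-étale closure of `A` relative to an `A`-algebra `B` (helper3)

`exists_colimit_data`: the colimit `C` of all presented étale `A`-algebras mapping to `B`,
packaged algebraically.
-/

set_option autoImplicit false
set_option linter.all false
set_option maxHeartbeats 1600000
universe u

open CategoryTheory Limits TensorProduct

namespace Groth.Agent.Lib.IndEtaleH3

section Construction

variable (A B : Type u) [CommRing A] [CommRing B] [Algebra A B]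

theorem exists_colimit_data :
    ∃ (Cc : Type u) (_ : CommRing Cc) (_ : Algebra A Cc)
      (ι : ∀ X : EtOver A B, X.C →ₐ[A] Cc) (ρ : Cc →ₐ[A] B),
      EtPBC.IsIndEtale A Cc ∧ (∀ X y, ρ (ι X y) = X.f y) ∧ (∀ c : Cc, ∃ X y, ι X y = c) ∧
      (∀ {X Y : EtOver A B} (g : X ⟶ Y) (y : X.C), ι Y (g.1 y) = ι X y) ∧
      (∀ X y, ι X y = 0 → ∃ (Y : EtOver A B) (g : X ⟶ Y), g.1 y = 0) := by
  let D := etDiag A B
  let c := colimit.cocone D
  have hc : IsColimit c := colimit.isColimit D
  letI algC : Algebra A c.pt.right := c.pt.hom.hom.toAlgebra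
  let e : c.pt ≅ Under.mk (CommRingCat.ofHom (algebraMap A c.pt.right)) := Iso.refl _
  have halg : ∀ X : EtOver A B, algObj D X = (inferInstance : Algebra A X.C) := fun X =>
    Algebra.algebra_ext _ _ (fun r => rfl)
  -- the coprojections
  let ι : ∀ X : EtOver A B, X.C →ₐ[A] c.pt.right := fun X =>
    @AlgHom.mk A X.C c.pt.right _ _ _ _ _
      (@AlgHom.toRingHom A _ _ _ _ _ (algObj D X) _ (ιB c e X))
      (fun r => @AlgHom.commutes A _ _ _ _ _ (algObj D X) _ (ιB c e X) r)
  have hι : ∀ X (y : X.C), ι X y = ιB c e X y := fun _ _ => rfl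
  -- the map to `B`
  let d : c.pt ⟶ (etCocone A B).pt := colimit.desc D (etCocone A B)
  let ρ : c.pt.right →ₐ[A] B :=
    { d.right.hom with
      commutes' := fun r => by
        have := congr($(Under.w d).hom r)
        exact this }
  have hρ : ∀ X (y : X.C), ρ (ι X y) = X.f y := by
    intro X y
    have h1 : c.ι.app X ≫ d = (etCocone A B).ι.app X := colimit.ι_desc _ _
    have h2 := congr($(h1).right.hom y)
    exact h2
  refine ⟨c.pt.right, inferInstance, algC, ι, ρ, ?_, hρ, ?_, ?_, ?_⟩
  · exact ⟨EtOver A B, inferInstance, inferInstance, D, c, hc, etale_etDiag A B, ⟨e⟩⟩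
  · intro x
    obtain ⟨X, y, hy⟩ := exists_ιB c e hc x
    exact ⟨X, y, hy⟩
  · intro X Y g y
    exact ιB_trB c e g y
  · intro X y hy
    obtain ⟨Y, g, hg⟩ := ιB_eq_zero c e hc (j := X) (y := y) hy
    exact ⟨Y, g, hg⟩

end Construction

end Groth.Agent.Lib.IndEtaleH3
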