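import Mathlib
import Groth.Prelude.Def_PBC
import Groth.Agent.Lib.IndEtLift1_helper3
import Groth.Agent.Lib.IndEtaleTrans_helper3
import Groth.Agent.Lib.IndEtale3_helper3
import Groth.Agent.Lib.EtLiftGlobal_lead

/-!
# Lifting ind-étale algebras along `A → A ⧸ I` (helper3)

`main0755`: every ind-étale `A ⧸ I`-algebra `Cb` is of the form `C ⧸ I C` for an ind-étale
`A`-algebra `C`.  `C` is the colimit of all étale `A`-algebras mapping to `Cb`.
-/

set_option autoImplicit false
set_option linter.all false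
set_option maxHeartbeats 1600000
universe u

open CategoryTheory Limits TensorProduct

namespace Groth.Agent.Lib.IndEtaleH3

/-- Flatness trick: if `E` is a flat `R`-algebra mapping to `T`, `R → T` is surjective, every
element of `R` mapping to `1` is a unit, and `x` dies in `E`, then `x = 0`. -/
theorem eq_zero_of_flat_of_isUnit {R E T : Type*} [CommRing R] [CommRing E] [CommRing T]
    [Algebra R E] [Module.Flat R E] [Algebra R T] (f' : E →ₐ[R] T)
    (hsurj : Function.Surjective (algebraMap R T))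
    (hunit : ∀ a : R, algebraMap R T a = 1 → IsUnit a) (x : R) (hx : algebraMap R E x = 0) :
    x = 0 := by
  have h0 : ∑ i : Unit, (fun _ => x) i • (fun _ => (1 : E)) i = 0 := by
    simp [Algebra.smul_def, hx]
  obtain ⟨k, a, y, hy1, hy2⟩ := Module.Flat.isTrivialRelation_of_sum_smul_eq_zero (R := R) (M := E)
    (f := fun _ : Unit => x) (x := fun _ => (1 : E)) h0
  have hy1' : (1 : E) = ∑ j, a () j • y j := hy1 ()
  have hy2' : ∀ j, x * a () j = 0 := by
    intro j
    have := hy2 j
    simpa using this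
  choose z hz using fun j => hsurj (f' (y j))
  have h1 : algebraMap R T (∑ j, a () j * z j) = 1 := by
    rw [map_sum]
    have : f' 1 = 1 := map_one f'
    rw [hy1', map_sum] at this
    rw [← this]
    refine Finset.sum_congr rfl fun j _ => ?_
    rw [map_mul, hz, map_smul, Algebra.smul_def]
  have h2 : x * (∑ j, a () j * z j) = 0 := by
    rw [Finset.mul_sum]
    refine Finset.sum_eq_zero fun j _ => ?_
    rw [← mul_assoc, hy2', zero_mul]
  exact (hunit _ h1).mul_left_eq_zero.mp h2

section Unit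

variable {A B : Type u} [CommRing A] [CommRing B] [Algebra A B]

/-- An element of a presented étale algebra over `B` mapping to a unit becomes a unit further
along. -/
theorem exists_hom_isUnit (X : EtOver A B) (y : X.C) (hy : IsUnit (X.f y)) :
    ∃ (Z : EtOver A B) (g : X ⟶ Z), IsUnit (g.1 y) := by
  have hf : ∀ m : Submonoid.powers y, IsUnit (X.f.toRingHom m) := by
    rintro ⟨_, n, rfl⟩
    simpa using hy.pow n
  let φ' : Localization.Away y →ₐ[A] B :=
    IsLocalization.liftAlgHom (M := Submonoid.powers y) (f := X.f) hf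
  obtain ⟨Z, e, he⟩ := exists_obj (Localization.Away y) φ'
  refine ⟨Z, ⟨e.toAlgHom.comp (IsScalarTower.toAlgHom A X.C (Localization.Away y)), ?_⟩, ?_⟩
  · ext x
    have h1 := congr($he (algebraMap X.C (Localization.Away y) x))
    simp only [AlgHom.coe_comp, Function.comp_apply] at h1 ⊢
    rw [IsScalarTower.coe_toAlgHom']
    refine h1.trans ?_
    exact IsLocalization.lift_eq _ _
  · show IsUnit (e (algebraMap X.C (Localization.Away y) y))
    exact (IsLocalization.Away.algebraMap_isUnit y).map e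

end Unit

section Surj

variable (A : Type u) [CommRing A] (I : Ideal A) (Cb : Type u) [CommRing Cb]
  [Algebra (A ⧸ I) Cb] [Algebra A Cb] [IsScalarTower A (A ⧸ I) Cb]

theorem exists_etOver_of_quotient (h : EtPBC.IsIndEtale (A ⧸ I) Cb) (b : Cb) :
    ∃ (X : EtOver A Cb) (y : X.C), X.f y = b := by
  obtain ⟨Bb, _, _, _, fb, bb, hbb⟩ := exists_of_isIndEtale h b
  obtain ⟨S, _, _, hS, ⟨e⟩⟩ := Groth.Agent.Lib.EtLiftGlobal.exists_etale_lift A I Bb
  let ψ : S →ₐ[A] Cb :=
    { toRingHom := (fb.toRingHom.comp e.toAlgHom.toRingHom).comp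
        (Algebra.TensorProduct.includeRight (R := A) (A := A ⧸ I) (B := S)).toRingHom
      commutes' := fun r => by
        show fb (e ((1 : A ⧸ I) ⊗ₜ[A] (algebraMap A S r))) = algebraMap A Cb r
        have h1 : ((1 : A ⧸ I) ⊗ₜ[A] (algebraMap A S r)) =
            algebraMap (A ⧸ I) ((A ⧸ I) ⊗[A] S) (Ideal.Quotient.mk I r) := by
          rw [Algebra.TensorProduct.algebraMap_apply, Algebra.algebraMap_eq_smul_one,
            ← TensorProduct.smul_tmul]
          congr 1
          rw [Algebra.smul_def, mul_one]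
          rfl
        rw [h1, AlgEquiv.commutes, AlgHom.commutes]
        exact (IsScalarTower.algebraMap_apply A (A ⧸ I) Cb r).symm }
  obtain ⟨s, hs⟩ := Algebra.TensorProduct.includeRight_surjective (R := A) (S := A ⧸ I) S
    Ideal.Quotient.mk_surjective (e.symm bb)
  obtain ⟨X, eX, hX⟩ := exists_obj S ψ
  refine ⟨X, eX s, ?_⟩
  have h1 := congr($hX s)
  simp only [AlgHom.coe_comp, Function.comp_apply] at h1
  refine h1.trans ?_
  show fb (e (Algebra.TensorProduct.includeRight (R := A) (A := A ⧸ I) (B := S) s)) = b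
  rw [hs, AlgEquiv.apply_symm_apply, hbb]

end Surj

section Main

variable (A : Type u) [CommRing A] (I : Ideal A) (Cb : Type u) [CommRing Cb]
  [Algebra (A ⧸ I) Cb]

theorem main0755 (h : EtPBC.IsIndEtale (A ⧸ I) Cb) :
    ∃ (C : Type u) (_ : CommRing C) (_ : Algebra A C), EtPBC.IsIndEtale A C ∧
      Nonempty ((C ⧸ I.map (algebraMap A C)) ≃ₐ[A ⧸ I] Cb) := by
  letI algACb : Algebra A Cb :=
    ((algebraMap (A ⧸ I) Cb).comp (algebraMap A (A ⧸ I))).toAlgebra
  haveI : IsScalarTower A (A ⧸ I) Cb := IsScalarTower.of_algebraMap_eq (fun r => rfl)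
  obtain ⟨Cc, instCc, algCc, ι, ρ, hInd, hρι, hsurjι, hcompat, hzero⟩ :=
    exists_colimit_data A Cb
  have hρsurj : Function.Surjective ρ := fun b => by
    obtain ⟨X, y, hy⟩ := exists_etOver_of_quotient A I Cb h b
    exact ⟨ι X y, by rw [hρι, hy]⟩
  have hunit : ∀ c : Cc, ρ c = 1 → IsUnit c := by
    intro c hc
    obtain ⟨X, y, rfl⟩ := hsurjι c
    rw [hρι] at hc
    obtain ⟨Z, g, hg⟩ := exists_hom_isUnit X y (hc ▸ isUnit_one)
    rw [← hcompat g y]
    exact hg.map (ι Z)
  refine ⟨Cc, instCc, algCc, hInd, ?_⟩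
  obtain ⟨J, hJ⟩ : ∃ J : Ideal Cc, J = I.map (algebraMap A Cc) := ⟨_, rfl⟩
  have hker : ∀ a ∈ I.map (algebraMap A Cc), ρ.toRingHom a = 0 := by
    intro a ha
    have hle : I.map (algebraMap A Cc) ≤ RingHom.ker ρ.toRingHom := by
      rw [Ideal.map_le_iff_le_comap]
      intro r hr
      rw [Ideal.mem_comap, RingHom.mem_ker]
      show ρ (algebraMap A Cc r) = 0
      rw [AlgHom.commutes]
      show algebraMap (A ⧸ I) Cb (Ideal.Quotient.mk I r) = 0
      rw [Ideal.Quotient.eq_zero_iff_mem.mpr hr, map_zero]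
    exact hle ha
  let ρb : (Cc ⧸ I.map (algebraMap A Cc)) →ₐ[A ⧸ I] Cb :=
    { Ideal.Quotient.lift (I.map (algebraMap A Cc)) ρ.toRingHom hker with
      commutes' := fun x => by
        obtain ⟨r, rfl⟩ := Ideal.Quotient.mk_surjective x
        show Ideal.Quotient.lift (I.map (algebraMap A Cc)) ρ.toRingHom hker
          (Ideal.Quotient.mk _ (algebraMap A Cc r)) = algebraMap A Cb r
        rw [Ideal.Quotient.lift_mk]
        exact ρ.commutes r }
  have hρb : ∀ c : Cc, ρb (Ideal.Quotient.mk _ c) = ρ c := fun c => rfl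
  have hρbsurj : Function.Surjective ρb := fun b => by
    obtain ⟨c, hc⟩ := hρsurj b
    exact ⟨Ideal.Quotient.mk _ c, by rw [hρb, hc]⟩
  have hCbar : EtPBC.IsIndEtale (A ⧸ I) (Cc ⧸ I.map (algebraMap A Cc)) := by
    have h1 := isIndEtale_baseChange A Cc (A ⧸ I) hInd
    exact isIndEtale_of_ringEquiv
      (Algebra.TensorProduct.quotIdealMapEquivQuotTensor Cc I).symm.toRingEquiv
      (fun r => (Algebra.TensorProduct.quotIdealMapEquivQuotTensor Cc I).symm.commutes r) h1
  have hinj : Function.Injective ρb := by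
    rw [injective_iff_map_eq_zero]
    intro x hx
    letI algCbar : Algebra (Cc ⧸ I.map (algebraMap A Cc)) Cb := ρb.toRingHom.toAlgebra
    haveI : IsScalarTower (A ⧸ I) (Cc ⧸ I.map (algebraMap A Cc)) Cb :=
      IsScalarTower.of_algebraMap_eq (fun r => (ρb.commutes r).symm)
    have hcancel := isIndEtale_cancel (A ⧸ I) (Cc ⧸ I.map (algebraMap A Cc)) Cb hCbar h
    obtain ⟨E, _, _, hE, g, f', hfg, hgx⟩ := exists_factor_of_isIndEtale hcancel
      (Cc ⧸ I.map (algebraMap A Cc)) (Algebra.ofId _ _) x hx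
    refine eq_zero_of_flat_of_isUnit (R := Cc ⧸ I.map (algebraMap A Cc)) (E := E) (T := Cb) f'
      hρbsurj ?_ x ?_
    · intro a ha
      obtain ⟨c, rfl⟩ := Ideal.Quotient.mk_surjective a
      exact (hunit c ha).map (Ideal.Quotient.mk _)
    · rw [← hgx, Algebra.algebraMap_eq_smul_one, ← map_one g, ← map_smul, smul_eq_mul, mul_one]
  exact ⟨AlgEquiv.ofBijective ρb ⟨hinj, hρbsurj⟩⟩

end Main

end Groth.Agent.Lib.IndEtaleH3
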