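import Mathlib
import Groth.Agent.Lib.DenseCI1_helper3
import Groth.Agent.S0176
import Groth.Agent.S0755
import Groth.Agent.S0736

/-!
# Algebra for the closed-immersion dense-subsite argument, part 2 (helper3)

A weakly étale algebra over a quotient `Ā` of `A` is dominated by the reduction of a weakly
étale `A`-algebra, faithfully flatly.
-/

set_option autoImplicit false
set_option linter.all false
set_option maxHeartbeats 1600000
universe u

open TensorProduct

namespace Groth.Agent.Lib.DenseCIH3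

theorem exists_cover_alg (A Ab Bb : Type u) [CommRing A] [CommRing Ab] [CommRing Bb]
    [Algebra A Ab] [Algebra Ab Bb]
    (hsurj : Function.Surjective (algebraMap A Ab)) [Algebra.WeaklyEtale Ab Bb] :
    ∃ (C : Type u) (_ : CommRing C) (_ : Algebra A C) (ψ : Bb →+* C ⊗[A] Ab),
      Algebra.WeaklyEtale A C ∧
      (∀ a : Ab, ψ (algebraMap Ab Bb a) = 1 ⊗ₜ a) ∧
      Function.Surjective (PrimeSpectrum.comap ψ) := by
  classical
  have hsurj' : Function.Surjective (Algebra.ofId A Ab) := hsurj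
  set I : Ideal A := RingHom.ker (Algebra.ofId A Ab) with hI
  let e : (A ⧸ I) ≃ₐ[A] Ab := Ideal.quotientKerAlgEquivOfSurjective hsurj'
  have he : ∀ a : A, e (Ideal.Quotient.mk I a) = algebraMap A Ab a := fun a => rfl
  letI alg1 : Algebra (A ⧸ I) Ab := (e : (A ⧸ I) →+* Ab).toAlgebra
  letI alg2 : Algebra (A ⧸ I) Bb := ((algebraMap Ab Bb).comp (e : (A ⧸ I) →+* Ab)).toAlgebra
  haveI st : IsScalarTower (A ⧸ I) Ab Bb :=
    IsScalarTower.of_algebraMap_eq (R := A ⧸ I) (S := Ab) (A := Bb) fun x => rfl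
  haveI loc : IsLocalization (⊥ : Submonoid (A ⧸ I)) Ab := by
    refine IsLocalization.of_le_isUnit_of_bijective ?_ e.bijective
    rintro _ ⟨x, hx, rfl⟩
    rw [Submonoid.mem_bot.mp hx, map_one]
    exact isUnit_one
  haveI we1 : Algebra.WeaklyEtale (A ⧸ I) Ab :=
    Groth.Agent.Lib.WEIndEtH3.weaklyEtale_of_isLocalization (⊥ : Submonoid (A ⧸ I)) Ab
  haveI we2 : Algebra.WeaklyEtale (A ⧸ I) Bb := Algebra.WeaklyEtale.trans (A ⧸ I) Ab Bb
  obtain ⟨B', _, _, _, _, hff, -, hind⟩ := Groth.Agent.S0176.result (A ⧸ I) Bb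
  obtain ⟨C, _, _, hCind, ⟨eqv⟩⟩ := Groth.Agent.S0755.result A I B' hind
  have hCwe : Algebra.WeaklyEtale A C := Groth.Agent.S0736.result A C hCind
  let t1 : (C ⧸ I.map (algebraMap A C)) ≃ₐ[C] C ⊗[A] (A ⧸ I) :=
    Algebra.TensorProduct.quotIdealMapEquivTensorQuot C I
  let t2 : C ⊗[A] (A ⧸ I) ≃ₐ[A] C ⊗[A] Ab := Algebra.TensorProduct.congr AlgEquiv.refl e
  let φ : B' ≃+* C ⊗[A] Ab :=
    (eqv.symm.toRingEquiv.trans t1.toRingEquiv).trans t2.toRingEquiv
  refine ⟨C, inferInstance, inferInstance, (φ : B' →+* C ⊗[A] Ab).comp (algebraMap Bb B'),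
    hCwe, ?_, ?_⟩
  · intro a
    obtain ⟨a0, rfl⟩ := hsurj a
    have h1 : algebraMap Ab Bb (algebraMap A Ab a0) = algebraMap (A ⧸ I) Bb (Ideal.Quotient.mk I a0) :=
      rfl
    rw [RingHom.comp_apply, h1, ← IsScalarTower.algebraMap_apply (A ⧸ I) Bb B']
    show t2 (t1 (eqv.symm (algebraMap (A ⧸ I) B' (Ideal.Quotient.mk I a0)))) = _
    rw [AlgEquiv.commutes, Ideal.Quotient.algebraMap_quotient_map_quotient,
      Algebra.TensorProduct.quotIdealMapEquivTensorQuot_mk]
    show Algebra.TensorProduct.congr AlgEquiv.refl e _ = _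
    rw [Algebra.TensorProduct.congr_apply, Algebra.TensorProduct.map_tmul]
    simp only [AlgEquiv.refl_toAlgHom, AlgHom.coe_id, id_eq, AlgEquiv.toAlgHom_eq_coe,
      AlgHom.coe_coe, map_one]
    rw [Algebra.algebraMap_eq_smul_one, Algebra.algebraMap_eq_smul_one (R := A) (A := Ab),
      TensorProduct.smul_tmul]
  · have h1 : Function.Surjective (PrimeSpectrum.comap (algebraMap Bb B')) :=
      PrimeSpectrum.comap_surjective_of_faithfullyFlat
    have h2 : Function.Surjective (PrimeSpectrum.comap (φ : B' →+* C ⊗[A] Ab)) := by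
      intro p
      refine ⟨PrimeSpectrum.comap (φ.symm : C ⊗[A] Ab →+* B') p, ?_⟩
      rw [← PrimeSpectrum.comap_comp_apply]
      have : (φ.symm : C ⊗[A] Ab →+* B').comp (φ : B' →+* C ⊗[A] Ab) = RingHom.id B' := by
        ext x; simp
      rw [this, PrimeSpectrum.comap_id]
    rw [PrimeSpectrum.comap_comp]
    exact h1.comp h2

end Groth.Agent.Lib.DenseCIH3
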