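import Mathlib
import Groth.Prelude.Def_ProEtS
import Groth.Agent.Lib.WCSite1_helper3
import Groth.Agent.Lib.DenseCI2_helper3

/-!
# Base change along a closed immersion is cover-dense on pro-étale sites (helper3)
-/

set_option autoImplicit false
set_option linter.all false
set_option maxHeartbeats 1600000
universe u

open AlgebraicGeometry CategoryTheory Limits Opposite TopologicalSpace TensorProduct

namespace Groth.Agent.Lib.DenseCIH3

open Groth.Agent.Lib.WCSiteH3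

/-- Jointly surjective families of open immersions are pro-étale coverings. -/
theorem zariski_mem {Z : Scheme.{u}} (W : Z.ProEt) {ι : Type*} (O : ι → Z.ProEt)
    (o : ∀ k, O k ⟶ W) (hopen : ∀ k, IsOpenImmersion (o k).left)
    (hcov : ∀ x : W.left, ∃ k, x ∈ Set.range (o k).left) :
    Sieve.generate (Presieve.ofArrows O o) ∈ Scheme.ProEt.topology Z W := by
  apply Precoverage.generate_mem_toGrothendieck
  show Presieve.ofArrows _ _ ∈ (Scheme.proetalePrecoverage.comap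
      (Scheme.ProEt.forget Z ⋙ Over.forget Z)) W
  rw [Precoverage.mem_comap_iff, Presieve.map_ofArrows]
  refine ⟨?_, ?_⟩
  · have h1 : Presieve.ofArrows (fun k => (O k).left) (fun k => (o k).left) ∈
        Scheme.precoverage @IsOpenImmersion W.left := by
      rw [Scheme.ofArrows_mem_precoverage_iff]
      exact ⟨hcov, hopen⟩
    exact Scheme.precoverage_le_qcPrecoverage_of_isOpenMap
      (fun {X Y} f hf => by haveI : IsOpenImmersion f := hf; exact f.isOpenEmbedding.isOpenMap) _ h1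
  · show Presieve.ofArrows _ _ ∈ Scheme.precoverage @WeaklyEtale W.left
    rw [Scheme.ofArrows_mem_precoverage_iff]
    exact ⟨hcov, fun k => weaklyEtale_left (o k)⟩

/-- A sieve is covering as soon as, locally around each point, it contains a quasi-compact
surjection onto an open neighbourhood. -/
theorem mem_of_local {Z : Scheme.{u}} (W : Z.ProEt) (S : Sieve W)
    (h : ∀ p : W.left, ∃ (T : Z.ProEt) (g : T ⟶ W) (O : Scheme.{u}) (o : O ⟶ W.left)
      (g' : T.left ⟶ O), IsOpenImmersion o ∧ p ∈ Set.range o ∧ g' ≫ o = g.left ∧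
        Surjective g' ∧ QuasiCompact g' ∧ S g) :
    S ∈ Scheme.ProEt.topology Z W := by
  choose T g O o g' hopen hp hfac hsurj hqc hS using h
  haveI : ∀ p, IsOpenImmersion (o p) := hopen
  haveI : ∀ p, WeaklyEtale (o p ≫ W.hom) := fun p => inferInstance
  let Ok : W.left → Z.ProEt := fun p => Scheme.ProEt.mk (o p ≫ W.hom)
  let ok : ∀ p, Ok p ⟶ W := fun p => MorphismProperty.Over.homMk (o p) rfl
  have hR : Sieve.generate (Presieve.ofArrows Ok ok) ∈ Scheme.ProEt.topology Z W :=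
    zariski_mem W Ok ok (fun p => hopen p) (fun x => ⟨x, hp x⟩)
  refine (Scheme.ProEt.topology Z).transitive hR S ?_
  rintro Y f ⟨Y', k, _, ⟨p⟩, rfl⟩
  rw [Sieve.pullback_comp]
  apply (Scheme.ProEt.topology Z).pullback_stable
  have hw : g' p ≫ (Ok p).hom = (T p).hom := by
    show g' p ≫ o p ≫ W.hom = _
    rw [← Category.assoc, hfac p]
    exact MorphismProperty.Over.w (g p)
  let gp : T p ⟶ Ok p := MorphismProperty.Over.homMk (g' p) hw
  haveI : Surjective gp.left := hsurj p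
  haveI : QuasiCompact gp.left := hqc p
  have hgp : gp ≫ ok p = g p := by
    apply MorphismProperty.Over.Hom.ext
    exact hfac p
  refine (Scheme.ProEt.topology Z).superset_covering ?_ (generate_singleton_mem gp)
  rintro Y'' f' ⟨Y3, k', _, ⟨⟩, rfl⟩
  show S ((k' ≫ gp) ≫ ok p)
  rw [Category.assoc, hgp]
  exact S.downward_closed (hS p) k'

/-- The cartesian square of an affine open and its preimage, in terms of spectra. -/
theorem isPullback_fromSpec {X Y : Scheme.{u}} (f : X ⟶ Y) {U : Y.Opens} (hU : IsAffineOpen U)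
    (hU' : IsAffineOpen (f ⁻¹ᵁ U)) :
    IsPullback (Spec.map (f.app U)) hU'.fromSpec hU.fromSpec f := by
  refine IsPullback.of_iso (isPullback_morphismRestrict f U) hU'.isoSpec hU.isoSpec (Iso.refl _)
    (Iso.refl _) ?_ ?_ ?_ ?_
  · rw [← cancel_mono hU.isoSpec.inv, Category.assoc, Iso.hom_inv_id, Category.comp_id,
      Category.assoc, ← cancel_mono U.ι, Category.assoc, Category.assoc,
      IsAffineOpen.isoSpec_inv_ι, morphismRestrict_ι]
    have := IsAffineOpen.SpecMap_appLE_fromSpec f hU hU' le_rfl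
    rw [← Scheme.Hom.app_eq_appLE] at this
    rw [this, IsAffineOpen.isoSpec_hom_fromSpec_assoc]
  · simp only [Iso.refl_hom, Category.comp_id]
    exact (IsAffineOpen.isoSpec_hom_fromSpec hU').symm
  · simp only [Iso.refl_hom, Category.comp_id]
    exact (IsAffineOpen.isoSpec_hom_fromSpec hU).symm
  · simp

/-- The spectrum of a surjective-comap ring map is surjective. -/
theorem surjective_SpecMap {R S : CommRingCat.{u}} (φ : R ⟶ S)
    (h : Function.Surjective (PrimeSpectrum.comap φ.hom)) : Surjective (Spec.map φ) :=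
  ⟨h⟩

theorem isCoverDense_bcP {Z X : Scheme.{u}} (i : Z ⟶ X) [IsClosedImmersion i] :
    (ProEtS.bcP i).IsCoverDense (Scheme.ProEt.topology Z) := by
  constructor
  intro W
  apply mem_of_local
  intro p
  -- affine charts
  obtain ⟨_, ⟨UX, hUX, rfl⟩, hxUX, -⟩ := X.isBasis_affineOpens.exists_subset_of_mem_open
    (Set.mem_univ (i (W.hom p))) isOpen_univ
  have hUZ : IsAffineOpen (i ⁻¹ᵁ UX) := hUX.preimage i
  obtain ⟨_, ⟨UW, hUW, rfl⟩, hpUW, hle : UW ≤ W.hom ⁻¹ᵁ (i ⁻¹ᵁ UX)⟩ :=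
    W.left.isBasis_affineOpens.exists_subset_of_mem_open
      (show p ∈ ((W.hom ⁻¹ᵁ (i ⁻¹ᵁ UX) : W.left.Opens) : Set W.left) from hxUX)
      (W.hom ⁻¹ᵁ (i ⁻¹ᵁ UX)).isOpen
  -- algebra
  letI algAAb : Algebra Γ(X, UX) Γ(Z, i ⁻¹ᵁ UX) := (i.app UX).hom.toAlgebra
  letI algAbBb : Algebra Γ(Z, i ⁻¹ᵁ UX) Γ(W.left, UW) :=
    (W.hom.appLE (i ⁻¹ᵁ UX) UW hle).hom.toAlgebra
  have hsurj : Function.Surjective (algebraMap Γ(X, UX) Γ(Z, i ⁻¹ᵁ UX)) :=
    Scheme.Hom.app_surjective i UX hUX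
  haveI : Algebra.WeaklyEtale Γ(Z, i ⁻¹ᵁ UX) Γ(W.left, UW) :=
    (Groth.Agent.Lib.WeaklyEtaleAff.main W.hom).mp inferInstance UW (i ⁻¹ᵁ UX) hUW hUZ hle
  obtain ⟨C, _, _, ψ, hCwe, hψ, hψsurj⟩ :=
    exists_cover_alg Γ(X, UX) Γ(Z, i ⁻¹ᵁ UX) Γ(W.left, UW) hsurj
  -- the object of the pro-étale site of `X`
  haveI : WeaklyEtale (Spec.map (CommRingCat.ofHom (algebraMap Γ(X, UX) C))) :=
    Groth.Agent.Lib.WeaklyEtaleSpecH3.weaklyEtale_SpecMap _ _
  haveI : WeaklyEtale (Spec.map (CommRingCat.ofHom (algebraMap Γ(X, UX) C)) ≫ hUX.fromSpec) :=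
    inferInstance
  let V : X.ProEt :=
    Scheme.ProEt.mk (Spec.map (CommRingCat.ofHom (algebraMap Γ(X, UX) C)) ≫ hUX.fromSpec)
  -- the cartesian square
  have hpo := CommRingCat.isPushout_tensorProduct Γ(X, UX) C Γ(Z, i ⁻¹ᵁ UX)
  have hpb1 := (isPullback_SpecMap_of_isPushout _ _ _ _ hpo).flip
  have hpb2 := (isPullback_fromSpec i hUX hUZ).flip
  have hpb : IsPullback
      (Spec.map (CommRingCat.ofHom (Algebra.TensorProduct.includeLeftRingHom :
        C →+* C ⊗[Γ(X, UX)] Γ(Z, i ⁻¹ᵁ UX))))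
      (Spec.map (CommRingCat.ofHom (Algebra.TensorProduct.includeRight :
        Γ(Z, i ⁻¹ᵁ UX) →ₐ[Γ(X, UX)] C ⊗[Γ(X, UX)] Γ(Z, i ⁻¹ᵁ UX)).toRingHom) ≫ hUZ.fromSpec)
      V.hom i := (hpb1.paste_horiz hpb2).flip
  let e : pullback V.hom i ≅ Spec (CommRingCat.of (C ⊗[Γ(X, UX)] Γ(Z, i ⁻¹ᵁ UX))) :=
    hpb.isoPullback.symm
  let g' : pullback V.hom i ⟶ Spec Γ(W.left, UW) := e.hom ≫ Spec.map (CommRingCat.ofHom ψ)
  have hw : (g' ≫ hUW.fromSpec) ≫ W.hom = pullback.snd V.hom i := by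
    rw [Category.assoc, Category.assoc, ← IsAffineOpen.SpecMap_appLE_fromSpec W.hom hUZ hUW hle,
      ← Spec.map_comp_assoc]
    have h1 : W.hom.appLE (i ⁻¹ᵁ UX) UW hle ≫ CommRingCat.ofHom ψ =
        CommRingCat.ofHom (Algebra.TensorProduct.includeRight :
          Γ(Z, i ⁻¹ᵁ UX) →ₐ[Γ(X, UX)] C ⊗[Γ(X, UX)] Γ(Z, i ⁻¹ᵁ UX)).toRingHom := by
      ext a
      exact hψ a
    rw [h1]
    exact hpb.isoPullback_inv_snd
  let g : (ProEtS.bcP i).obj V ⟶ W := MorphismProperty.Over.homMk (g' ≫ hUW.fromSpec) hw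
  refine ⟨(ProEtS.bcP i).obj V, g, Spec Γ(W.left, UW), hUW.fromSpec, g', inferInstance, ?_, rfl,
    ?_, inferInstanceAs (QuasiCompact (e.hom ≫ Spec.map (CommRingCat.ofHom ψ))),
    Presieve.in_coverByImage _ g⟩
  · rw [hUW.range_fromSpec]
    exact hpUW
  · haveI : Surjective (Spec.map (CommRingCat.ofHom ψ)) := surjective_SpecMap _ hψsurj
    exact inferInstanceAs (Surjective (e.hom ≫ Spec.map (CommRingCat.ofHom ψ)))

end Groth.Agent.Lib.DenseCIH3
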