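import Mathlib
import Groth.Prelude.Def_ProEtS
import Groth.Agent.Lib.DenseCI3_helper3

/-!
# Base change along a closed immersion is locally full on pro-étale sites (helper3)
-/

set_option autoImplicit false
set_option linter.all false
set_option maxHeartbeats 1600000
universe u

open AlgebraicGeometry CategoryTheory Limits Opposite TopologicalSpace TensorProduct

namespace Groth.Agent.Lib.DenseCIH3

open Groth.Agent.Lib.WCSiteH3

section Chart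

variable {Z X V : Scheme.{u}} (i : Z ⟶ X) (h : V ⟶ X)
  (A Ab B : Type u) [CommRing A] [CommRing Ab] [CommRing B] [Algebra A Ab] [Algebra A B]
  (jX : Spec (CommRingCat.of A) ⟶ X) (jZ : Spec (CommRingCat.of Ab) ⟶ Z)
  (jV : Spec (CommRingCat.of B) ⟶ V)

/-- `Spec (B ⊗ Ā) → Spec B`. -/
noncomputable abbrev sInl : Spec (CommRingCat.of (B ⊗[A] Ab)) ⟶ Spec (CommRingCat.of B) :=
  Spec.map (CommRingCat.ofHom (Algebra.TensorProduct.includeLeftRingHom : B →+* B ⊗[A] Ab))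

/-- `Spec (B ⊗ Ā) → Spec Ā`. -/
noncomputable abbrev sInr : Spec (CommRingCat.of (B ⊗[A] Ab)) ⟶ Spec (CommRingCat.of Ab) :=
  Spec.map (CommRingCat.ofHom
    (Algebra.TensorProduct.includeRight : Ab →ₐ[A] B ⊗[A] Ab).toRingHom)

theorem exists_chart
    (hZ : IsPullback (Spec.map (CommRingCat.ofHom (algebraMap A Ab))) jZ jX i)
    (hV : Spec.map (CommRingCat.ofHom (algebraMap A B)) ≫ jX = jV ≫ h) :
    ∃ ob : Spec (CommRingCat.of (B ⊗[A] Ab)) ⟶ pullback h i,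
      ob ≫ pullback.fst h i = sInl A Ab B ≫ jV ∧
      ob ≫ pullback.snd h i = sInr A Ab B ≫ jZ ∧
      IsPullback (sInl A Ab B) ob jV (pullback.fst h i) := by
  have hpo := CommRingCat.isPushout_tensorProduct A B Ab
  have hpb1 := (isPullback_SpecMap_of_isPushout _ _ _ _ hpo).flip
  have hbig : IsPullback (sInr A Ab B ≫ jZ) (sInl A Ab B) i
      (Spec.map (CommRingCat.ofHom (algebraMap A B)) ≫ jX) := hpb1.paste_horiz hZ.flip
  have hw : (sInl A Ab B ≫ jV) ≫ h = (sInr A Ab B ≫ jZ) ≫ i := by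
    rw [Category.assoc, ← hV]
    exact hbig.w.symm
  refine ⟨pullback.lift (sInl A Ab B ≫ jV) (sInr A Ab B ≫ jZ) hw, pullback.lift_fst _ _ _,
    pullback.lift_snd _ _ _, ?_⟩
  have hright : IsPullback (pullback.snd h i) (pullback.fst h i) i h :=
    (IsPullback.of_hasPullback h i).flip
  have hbig' : IsPullback (pullback.lift (sInl A Ab B ≫ jV) (sInr A Ab B ≫ jZ) hw ≫
      pullback.snd h i) (sInl A Ab B) i (jV ≫ h) := by
    rw [pullback.lift_snd, ← hV]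
    exact hbig
  exact (IsPullback.of_right hbig' (pullback.lift_fst _ _ _) hright).flip

end Chart

/-- Ring maps with a retraction induce surjections on spectra. -/
theorem surjective_SpecMap_of_retraction {R S : CommRingCat.{u}} (φ : R ⟶ S) (r : S ⟶ R)
    (hr : φ ≫ r = 𝟙 R) : Surjective (Spec.map φ) := by
  constructor
  intro x
  refine ⟨Spec.map r x, ?_⟩
  have h1 : Spec.map r ≫ Spec.map φ = 𝟙 _ := by rw [← Spec.map_comp, hr, Spec.map_id]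
  have h2 := congrArg (fun k => k.base x) h1
  exact h2

/-- Points in the range of a base-changed open immersion. -/
theorem mem_range_iff_of_isPullback {X Y U V : Scheme.{u}}
    {f : X ⟶ Y} {f' : U ⟶ V} {iU : U ⟶ X} {iV : V ⟶ Y} [IsOpenImmersion iV] [IsOpenImmersion iU]
    (H : IsPullback f' iU iV f) (y : X) : y ∈ Set.range iU ↔ f y ∈ Set.range iV := by
  have h := IsOpenImmersion.image_preimage_eq_preimage_image_of_isPullback H ⊤
  have h2 : y ∈ (iU ''ᵁ f' ⁻¹ᵁ ⊤ : X.Opens) ↔ y ∈ (f ⁻¹ᵁ iV ''ᵁ ⊤ : X.Opens) := by rw [h]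
  constructor
  · rintro ⟨u, rfl⟩
    obtain ⟨v, -, hv⟩ := h2.mp ⟨u, trivial, rfl⟩
    exact ⟨v, hv⟩
  · rintro ⟨v, hv⟩
    obtain ⟨u, -, hu⟩ := h2.mpr ⟨v, trivial, hv⟩
    exact ⟨u, hu⟩

theorem isLocallyFull_bcP {Z X : Scheme.{u}} (i : Z ⟶ X) [IsClosedImmersion i] :
    (ProEtS.bcP i).IsLocallyFull (Scheme.ProEt.topology Z) := by
  constructor
  intro V V' f
  apply mem_of_local
  intro p
  -- notation
  obtain ⟨fl, hfl⟩ : ∃ fl : pullback V.hom i ⟶ pullback V'.hom i, fl = f.left := ⟨_, rfl⟩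
  have hfw : fl ≫ pullback.snd V'.hom i = pullback.snd V.hom i := by
    rw [hfl]
    exact MorphismProperty.Over.w f
  obtain ⟨p0, hp0⟩ : ∃ p0 : ↥(pullback V.hom i), p0 = p := ⟨_, rfl⟩
  -- affine charts
  obtain ⟨_, ⟨UX, hUX, rfl⟩, hxUX, -⟩ := X.isBasis_affineOpens.exists_subset_of_mem_open
    (Set.mem_univ (V.hom (pullback.fst V.hom i p0))) isOpen_univ
  have hUZ : IsAffineOpen (i ⁻¹ᵁ UX) := hUX.preimage i
  have hx' : V'.hom (pullback.fst V'.hom i (fl p0)) ∈ UX := by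
    have e1 : fl ≫ pullback.fst V'.hom i ≫ V'.hom = pullback.fst V.hom i ≫ V.hom :=
      calc fl ≫ pullback.fst V'.hom i ≫ V'.hom = fl ≫ pullback.snd V'.hom i ≫ i := by
            rw [pullback.condition]
        _ = (fl ≫ pullback.snd V'.hom i) ≫ i := (Category.assoc _ _ _).symm
        _ = pullback.snd V.hom i ≫ i := by rw [hfw]
        _ = _ := pullback.condition.symm
    have e2 := congrArg (fun k => k.base p0) e1
    have e3 : V'.hom (pullback.fst V'.hom i (fl p0)) = V.hom (pullback.fst V.hom i p0) := e2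
    rw [e3]
    exact hxUX
  obtain ⟨_, ⟨UV', hUV', rfl⟩, hpUV', hle' : UV' ≤ V'.hom ⁻¹ᵁ UX⟩ :=
    V'.left.isBasis_affineOpens.exists_subset_of_mem_open
      (show pullback.fst V'.hom i (fl p0) ∈ ((V'.hom ⁻¹ᵁ UX : V'.left.Opens) : Set V'.left)
        from hx') (V'.hom ⁻¹ᵁ UX).isOpen
  -- the open subset of `V` on which `f` lands in the chart of `V'`
  obtain ⟨UV, hUV, hpUV, hle : UV ≤ V.hom ⁻¹ᵁ UX,
    hfUV : pullback.fst V.hom i ⁻¹ᵁ UV ≤ fl ⁻¹ᵁ (pullback.fst V'.hom i ⁻¹ᵁ UV')⟩ :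
      ∃ UV : V.left.Opens, IsAffineOpen UV ∧ pullback.fst V.hom i p0 ∈ UV ∧
        UV ≤ V.hom ⁻¹ᵁ UX ∧
        pullback.fst V.hom i ⁻¹ᵁ UV ≤ fl ⁻¹ᵁ (pullback.fst V'.hom i ⁻¹ᵁ UV') := by
    have hind : Topology.IsInducing (pullback.fst V.hom i).base :=
      (pullback.fst V.hom i).isClosedEmbedding.isInducing
    obtain ⟨Q₀, hQ₀open, hQ₀⟩ := hind.isOpen_iff.mp
      (fl ⁻¹ᵁ (pullback.fst V'.hom i ⁻¹ᵁ UV')).isOpen
    have hpQ₀ : pullback.fst V.hom i p0 ∈ Q₀ := by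
      have : p0 ∈ (pullback.fst V.hom i).base ⁻¹' Q₀ := by
        rw [hQ₀]
        exact hpUV'
      exact this
    obtain ⟨_, ⟨UV, hUV, rfl⟩, hpUV, hsub⟩ :=
      V.left.isBasis_affineOpens.exists_subset_of_mem_open
        (show pullback.fst V.hom i p0 ∈ Q₀ ∩ ((V.hom ⁻¹ᵁ UX : V.left.Opens) : Set V.left) from
          ⟨hpQ₀, hxUX⟩) (hQ₀open.inter (V.hom ⁻¹ᵁ UX).isOpen)
    refine ⟨UV, hUV, hpUV, fun y hy => (hsub hy).2, ?_⟩
    intro y hy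
    have : y ∈ (pullback.fst V.hom i).base ⁻¹' Q₀ := (hsub hy).1
    rw [hQ₀] at this
    exact this
  -- algebra set-up
  letI algAAb : Algebra Γ(X, UX) Γ(Z, i ⁻¹ᵁ UX) := (i.app UX).hom.toAlgebra
  letI algAB : Algebra Γ(X, UX) Γ(V.left, UV) := (V.hom.appLE UX UV hle).hom.toAlgebra
  letI algAB' : Algebra Γ(X, UX) Γ(V'.left, UV') := (V'.hom.appLE UX UV' hle').hom.toAlgebra
  have hsurj : Function.Surjective (algebraMap Γ(X, UX) Γ(Z, i ⁻¹ᵁ UX)) :=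
    Scheme.Hom.app_surjective i UX hUX
  haveI : Algebra.WeaklyEtale Γ(X, UX) Γ(V'.left, UV') :=
    (Groth.Agent.Lib.WeaklyEtaleAff.main V'.hom).mp inferInstance UV' UX hUV' hUX hle'
  have hZ : IsPullback (Spec.map (CommRingCat.ofHom (algebraMap Γ(X, UX) Γ(Z, i ⁻¹ᵁ UX))))
      hUZ.fromSpec hUX.fromSpec i := isPullback_fromSpec i hUX hUZ
  have hVeq : Spec.map (CommRingCat.ofHom (algebraMap Γ(X, UX) Γ(V.left, UV))) ≫ hUX.fromSpec =
      hUV.fromSpec ≫ V.hom := IsAffineOpen.SpecMap_appLE_fromSpec V.hom hUX hUV hle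
  have hV'eq : Spec.map (CommRingCat.ofHom (algebraMap Γ(X, UX) Γ(V'.left, UV'))) ≫
      hUX.fromSpec = hUV'.fromSpec ≫ V'.hom :=
    IsAffineOpen.SpecMap_appLE_fromSpec V'.hom hUX hUV' hle'
  obtain ⟨ob, hob1, hob2, hobsq⟩ := exists_chart i V.hom Γ(X, UX) Γ(Z, i ⁻¹ᵁ UX) Γ(V.left, UV)
    hUX.fromSpec hUZ.fromSpec hUV.fromSpec hZ hVeq
  obtain ⟨ob', hob'1, hob'2, hob'sq⟩ := exists_chart i V'.hom Γ(X, UX) Γ(Z, i ⁻¹ᵁ UX)
    Γ(V'.left, UV') hUX.fromSpec hUZ.fromSpec hUV'.fromSpec hZ hV'eq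
  haveI : IsOpenImmersion ob :=
    MorphismProperty.of_isPullback (P := @IsOpenImmersion) hobsq inferInstance
  haveI : IsOpenImmersion ob' :=
    MorphismProperty.of_isPullback (P := @IsOpenImmersion) hob'sq inferInstance
  have hrob : ∀ y, y ∈ Set.range ob ↔ pullback.fst V.hom i y ∈ UV := by
    intro y
    rw [mem_range_iff_of_isPullback hobsq y, hUV.range_fromSpec]
    rfl
  have hrob' : ∀ y, y ∈ Set.range ob' ↔ pullback.fst V'.hom i y ∈ UV' := by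
    intro y
    rw [mem_range_iff_of_isPullback hob'sq y, hUV'.range_fromSpec]
    rfl
  have hrange : Set.range (ob ≫ fl) ⊆ Set.range ob' := by
    rintro _ ⟨y, rfl⟩
    rw [hrob']
    exact hfUV ((hrob (ob y)).mp ⟨y, rfl⟩)
  -- the ring map induced by `f`
  have hφs : IsOpenImmersion.lift ob' (ob ≫ fl) hrange ≫ ob' = ob ≫ fl :=
    IsOpenImmersion.lift_fac _ _ _
  obtain ⟨fbc, hfbc⟩ : ∃ fbc : CommRingCat.of (Γ(V'.left, UV') ⊗[Γ(X, UX)] Γ(Z, i ⁻¹ᵁ UX)) ⟶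
      CommRingCat.of (Γ(V.left, UV) ⊗[Γ(X, UX)] Γ(Z, i ⁻¹ᵁ UX)),
      Spec.map fbc = IsOpenImmersion.lift ob' (ob ≫ fl) hrange :=
    ⟨Spec.preimage _, Spec.map_preimage _⟩
  have hfbc2 : Spec.map fbc ≫ ob' = ob ≫ fl := by rw [hfbc, hφs]
  have hinr : CommRingCat.ofHom
      (Algebra.TensorProduct.includeRight : Γ(Z, i ⁻¹ᵁ UX) →ₐ[Γ(X, UX)]
        Γ(V'.left, UV') ⊗[Γ(X, UX)] Γ(Z, i ⁻¹ᵁ UX)).toRingHom ≫ fbc =
      CommRingCat.ofHom
      (Algebra.TensorProduct.includeRight : Γ(Z, i ⁻¹ᵁ UX) →ₐ[Γ(X, UX)]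
        Γ(V.left, UV) ⊗[Γ(X, UX)] Γ(Z, i ⁻¹ᵁ UX)).toRingHom := by
    apply Spec.map_injective
    rw [← cancel_mono hUZ.fromSpec, Spec.map_comp, Category.assoc]
    calc Spec.map fbc ≫ sInr Γ(X, UX) Γ(Z, i ⁻¹ᵁ UX) Γ(V'.left, UV') ≫ hUZ.fromSpec
        = Spec.map fbc ≫ ob' ≫ pullback.snd V'.hom i := by rw [hob'2]
      _ = (Spec.map fbc ≫ ob') ≫ pullback.snd V'.hom i := (Category.assoc _ _ _).symm
      _ = (ob ≫ fl) ≫ pullback.snd V'.hom i := by rw [hfbc2]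
      _ = ob ≫ fl ≫ pullback.snd V'.hom i := Category.assoc _ _ _
      _ = ob ≫ pullback.snd V.hom i := by rw [hfw]
      _ = _ := hob2
  let fb : Γ(V'.left, UV') ⊗[Γ(X, UX)] Γ(Z, i ⁻¹ᵁ UX) →ₐ[Γ(X, UX)]
      Γ(V.left, UV) ⊗[Γ(X, UX)] Γ(Z, i ⁻¹ᵁ UX) :=
    { toRingHom := fbc.hom
      commutes' := fun a => by
        have h1 := (Algebra.TensorProduct.includeRight : Γ(Z, i ⁻¹ᵁ UX) →ₐ[Γ(X, UX)]
          Γ(V'.left, UV') ⊗[Γ(X, UX)] Γ(Z, i ⁻¹ᵁ UX)).commutes a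
        have h2 := (Algebra.TensorProduct.includeRight : Γ(Z, i ⁻¹ᵁ UX) →ₐ[Γ(X, UX)]
          Γ(V.left, UV) ⊗[Γ(X, UX)] Γ(Z, i ⁻¹ᵁ UX)).commutes a
        have h3 := congrArg (fun k => k.hom (algebraMap Γ(X, UX) Γ(Z, i ⁻¹ᵁ UX) a)) hinr
        show fbc.hom _ = _
        rw [← h1, ← h2]
        exact h3 }
  have hfb : ∀ x, fb x = fbc.hom x := fun x => rfl
  obtain ⟨C, _, _, _, _, g, hCwe, ⟨r, hr⟩, hid⟩ :=
    exists_lift_alg Γ(X, UX) Γ(Z, i ⁻¹ᵁ UX) Γ(V.left, UV) Γ(V'.left, UV') fb hsurj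
  -- the object `V''`
  haveI : WeaklyEtale (Spec.map (CommRingCat.ofHom (algebraMap Γ(V.left, UV) C))) :=
    Groth.Agent.Lib.WeaklyEtaleSpecH3.weaklyEtale_SpecMap _ _
  obtain ⟨h'', hh''⟩ : ∃ h'' : Spec (CommRingCat.of C) ⟶ X,
      h'' = Spec.map (CommRingCat.ofHom (algebraMap Γ(V.left, UV) C)) ≫ hUV.fromSpec ≫ V.hom :=
    ⟨_, rfl⟩
  haveI : WeaklyEtale h'' := by rw [hh'']; infer_instance
  have hjw : (Spec.map (CommRingCat.ofHom (algebraMap Γ(V.left, UV) C)) ≫ hUV.fromSpec) ≫ V.hom =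
      h'' := by rw [hh'', Category.assoc]
  have hC'' : Spec.map (CommRingCat.ofHom (algebraMap Γ(X, UX) C)) ≫ hUX.fromSpec = h'' := by
    rw [hh'', ← hVeq, ← Spec.map_comp_assoc]
    congr 2
    ext a
    exact IsScalarTower.algebraMap_apply Γ(X, UX) Γ(V.left, UV) C a
  have hlw : (Spec.map (CommRingCat.ofHom (g : Γ(V'.left, UV') →+* C)) ≫ hUV'.fromSpec) ≫ V'.hom =
      h'' := by
    rw [Category.assoc, ← hV'eq, ← Spec.map_comp_assoc, ← hC'']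
    congr 2
    ext a
    exact g.commutes a
  let V'' : X.ProEt := Scheme.ProEt.mk h''
  let j : V'' ⟶ V := MorphismProperty.Over.homMk
    (Spec.map (CommRingCat.ofHom (algebraMap Γ(V.left, UV) C)) ≫ hUV.fromSpec) hjw
  let l : V'' ⟶ V' := MorphismProperty.Over.homMk
    (Spec.map (CommRingCat.ofHom (g : Γ(V'.left, UV') →+* C)) ≫ hUV'.fromSpec) hlw
  obtain ⟨oc, hoc1, hoc2, hocsq⟩ := exists_chart i h'' Γ(X, UX) Γ(Z, i ⁻¹ᵁ UX) C
    hUX.fromSpec hUZ.fromSpec (𝟙 _) hZ (by rw [hC'', Category.id_comp])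
  haveI : IsIso oc := hocsq.isIso_snd_of_isIso
  rw [Category.comp_id] at hoc1
  obtain ⟨gJ, hgJ⟩ : ∃ gJ : pullback h'' i ⟶ pullback V.hom i,
      gJ = ((ProEtS.bcP i).map j).left := ⟨_, rfl⟩
  obtain ⟨gL, hgL⟩ : ∃ gL : pullback h'' i ⟶ pullback V'.hom i,
      gL = ((ProEtS.bcP i).map l).left := ⟨_, rfl⟩
  have hgJ1 : gJ ≫ pullback.fst V.hom i = pullback.fst h'' i ≫
      Spec.map (CommRingCat.ofHom (algebraMap Γ(V.left, UV) C)) ≫ hUV.fromSpec := by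
    rw [hgJ]; exact pullback.lift_fst _ _ _
  have hgJ2 : gJ ≫ pullback.snd V.hom i = pullback.snd h'' i := by
    rw [hgJ]; exact pullback.lift_snd _ _ _
  have hgL1 : gL ≫ pullback.fst V'.hom i = pullback.fst h'' i ≫
      Spec.map (CommRingCat.ofHom (g : Γ(V'.left, UV') →+* C)) ≫ hUV'.fromSpec := by
    rw [hgL]; exact pullback.lift_fst _ _ _
  have hgL2 : gL ≫ pullback.snd V'.hom i = pullback.snd h'' i := by
    rw [hgL]; exact pullback.lift_snd _ _ _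
  -- the reduction of `B → C`
  obtain ⟨mγ, hmγ⟩ : ∃ mγ : CommRingCat.of (Γ(V.left, UV) ⊗[Γ(X, UX)] Γ(Z, i ⁻¹ᵁ UX)) ⟶
      CommRingCat.of (C ⊗[Γ(X, UX)] Γ(Z, i ⁻¹ᵁ UX)),
      mγ = CommRingCat.ofHom (Algebra.TensorProduct.map
        (IsScalarTower.toAlgHom Γ(X, UX) Γ(V.left, UV) C)
        (AlgHom.id Γ(X, UX) Γ(Z, i ⁻¹ᵁ UX))).toRingHom := ⟨_, rfl⟩
  have hmγ1 : sInl Γ(X, UX) Γ(Z, i ⁻¹ᵁ UX) C ≫
      Spec.map (CommRingCat.ofHom (algebraMap Γ(V.left, UV) C)) =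
      Spec.map mγ ≫ sInl Γ(X, UX) Γ(Z, i ⁻¹ᵁ UX) Γ(V.left, UV) := by
    show Spec.map _ ≫ Spec.map _ = Spec.map _ ≫ Spec.map _
    rw [← Spec.map_comp, ← Spec.map_comp, hmγ]
    congr 1
  have hmγ2 : sInr Γ(X, UX) Γ(Z, i ⁻¹ᵁ UX) C =
      Spec.map mγ ≫ sInr Γ(X, UX) Γ(Z, i ⁻¹ᵁ UX) Γ(V.left, UV) := by
    show Spec.map _ = Spec.map _ ≫ Spec.map _
    rw [← Spec.map_comp, hmγ]
    congr 1
    ext a
    show (1 : C) ⊗ₜ[Γ(X, UX)] a =
      Algebra.TensorProduct.map (IsScalarTower.toAlgHom Γ(X, UX) Γ(V.left, UV) C)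
        (AlgHom.id Γ(X, UX) Γ(Z, i ⁻¹ᵁ UX)) (1 ⊗ₜ a)
    rw [Algebra.TensorProduct.map_tmul, map_one]
    rfl
  have hK1 : oc ≫ gJ = Spec.map mγ ≫ ob := by
    apply pullback.hom_ext
    · calc (oc ≫ gJ) ≫ pullback.fst V.hom i = oc ≫ gJ ≫ pullback.fst V.hom i :=
            Category.assoc _ _ _
        _ = (oc ≫ pullback.fst h'' i) ≫
            Spec.map (CommRingCat.ofHom (algebraMap Γ(V.left, UV) C)) ≫ hUV.fromSpec := by
            rw [hgJ1, Category.assoc]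
        _ = (sInl Γ(X, UX) Γ(Z, i ⁻¹ᵁ UX) C ≫
            Spec.map (CommRingCat.ofHom (algebraMap Γ(V.left, UV) C))) ≫ hUV.fromSpec := by
            rw [hoc1, Category.assoc]
        _ = Spec.map mγ ≫ sInl Γ(X, UX) Γ(Z, i ⁻¹ᵁ UX) Γ(V.left, UV) ≫ hUV.fromSpec := by
            rw [hmγ1, Category.assoc]
        _ = (Spec.map mγ ≫ ob) ≫ pullback.fst V.hom i := by
            rw [← hob1, Category.assoc]
    · calc (oc ≫ gJ) ≫ pullback.snd V.hom i = oc ≫ gJ ≫ pullback.snd V.hom i :=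
            Category.assoc _ _ _
        _ = sInr Γ(X, UX) Γ(Z, i ⁻¹ᵁ UX) C ≫ hUZ.fromSpec := by rw [hgJ2, hoc2]
        _ = Spec.map mγ ≫ sInr Γ(X, UX) Γ(Z, i ⁻¹ᵁ UX) Γ(V.left, UV) ≫ hUZ.fromSpec := by
            rw [hmγ2, Category.assoc]
        _ = (Spec.map mγ ≫ ob) ≫ pullback.snd V.hom i := by
            rw [← hob2, Category.assoc]
  have hring1 : sInl Γ(X, UX) Γ(Z, i ⁻¹ᵁ UX) C ≫
      Spec.map (CommRingCat.ofHom (g : Γ(V'.left, UV') →+* C)) =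
      Spec.map mγ ≫ Spec.map fbc ≫ sInl Γ(X, UX) Γ(Z, i ⁻¹ᵁ UX) Γ(V'.left, UV') := by
    show Spec.map _ ≫ Spec.map _ = Spec.map _ ≫ Spec.map _ ≫ Spec.map _
    rw [← Spec.map_comp, ← Spec.map_comp, ← Spec.map_comp, hmγ]
    congr 1
    ext b'
    exact hid b'
  have hring2 : sInr Γ(X, UX) Γ(Z, i ⁻¹ᵁ UX) C =
      Spec.map mγ ≫ Spec.map fbc ≫ sInr Γ(X, UX) Γ(Z, i ⁻¹ᵁ UX) Γ(V'.left, UV') := by
    have h1 : Spec.map fbc ≫ sInr Γ(X, UX) Γ(Z, i ⁻¹ᵁ UX) Γ(V'.left, UV') =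
        sInr Γ(X, UX) Γ(Z, i ⁻¹ᵁ UX) Γ(V.left, UV) := by
      show Spec.map _ ≫ Spec.map _ = Spec.map _
      rw [← Spec.map_comp, hinr]
    rw [h1]
    exact hmγ2
  have hK2 : oc ≫ gL = Spec.map mγ ≫ Spec.map fbc ≫ ob' := by
    apply pullback.hom_ext
    · calc (oc ≫ gL) ≫ pullback.fst V'.hom i = oc ≫ gL ≫ pullback.fst V'.hom i :=
            Category.assoc _ _ _
        _ = (oc ≫ pullback.fst h'' i) ≫
            Spec.map (CommRingCat.ofHom (g : Γ(V'.left, UV') →+* C)) ≫ hUV'.fromSpec := by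
            rw [hgL1, Category.assoc]
        _ = (sInl Γ(X, UX) Γ(Z, i ⁻¹ᵁ UX) C ≫
            Spec.map (CommRingCat.ofHom (g : Γ(V'.left, UV') →+* C))) ≫ hUV'.fromSpec := by
            rw [hoc1, Category.assoc]
        _ = Spec.map mγ ≫ Spec.map fbc ≫
            sInl Γ(X, UX) Γ(Z, i ⁻¹ᵁ UX) Γ(V'.left, UV') ≫ hUV'.fromSpec := by
            rw [hring1, Category.assoc, Category.assoc]
        _ = (Spec.map mγ ≫ Spec.map fbc ≫ ob') ≫ pullback.fst V'.hom i := by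
            rw [← hob'1, Category.assoc, Category.assoc]
    · calc (oc ≫ gL) ≫ pullback.snd V'.hom i = oc ≫ gL ≫ pullback.snd V'.hom i :=
            Category.assoc _ _ _
        _ = sInr Γ(X, UX) Γ(Z, i ⁻¹ᵁ UX) C ≫ hUZ.fromSpec := by rw [hgL2, hoc2]
        _ = Spec.map mγ ≫ Spec.map fbc ≫
            sInr Γ(X, UX) Γ(Z, i ⁻¹ᵁ UX) Γ(V'.left, UV') ≫ hUZ.fromSpec := by
            rw [hring2, Category.assoc, Category.assoc]
        _ = (Spec.map mγ ≫ Spec.map fbc ≫ ob') ≫ pullback.snd V'.hom i := by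
            rw [← hob'2, Category.assoc, Category.assoc]
  have key : gL = gJ ≫ fl := by
    apply (cancel_epi oc).mp
    calc oc ≫ gL = Spec.map mγ ≫ Spec.map fbc ≫ ob' := hK2
      _ = Spec.map mγ ≫ ob ≫ fl := by rw [hfbc2]
      _ = (Spec.map mγ ≫ ob) ≫ fl := (Category.assoc _ _ _).symm
      _ = (oc ≫ gJ) ≫ fl := by rw [hK1]
      _ = oc ≫ gJ ≫ fl := Category.assoc _ _ _
  have hl : (ProEtS.bcP i).map l = (ProEtS.bcP i).map j ≫ f := by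
    apply MorphismProperty.Over.Hom.ext
    show ((ProEtS.bcP i).map l).left = ((ProEtS.bcP i).map j).left ≫ f.left
    rw [← hgL, ← hgJ, ← hfl]
    exact key
  have hsurjγ : Surjective (Spec.map mγ) := by
    refine surjective_SpecMap_of_retraction mγ (CommRingCat.ofHom r.toRingHom) ?_
    rw [hmγ]
    apply CommRingCat.hom_ext
    apply RingHom.ext
    intro x
    exact congrArg (fun k => k x) hr
  have hopen : IsOpenImmersion ob := inferInstance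
  obtain ⟨g', hg'⟩ : ∃ g' : pullback h'' i ⟶
      Spec (CommRingCat.of (Γ(V.left, UV) ⊗[Γ(X, UX)] Γ(Z, i ⁻¹ᵁ UX))),
      g' = inv oc ≫ Spec.map mγ := ⟨_, rfl⟩
  have hg'ob : g' ≫ ob = ((ProEtS.bcP i).map j).left := by
    rw [hg', ← hgJ, Category.assoc, ← hK1, IsIso.inv_hom_id_assoc]
  have hsurjg' : Surjective g' := by rw [hg']; infer_instance
  have hqcg' : QuasiCompact g' := by rw [hg']; infer_instance
  have hmem : p ∈ Set.range ob := by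
    rw [← hp0]
    exact (hrob p0).mpr hpUV
  exact ⟨(ProEtS.bcP i).obj V'', (ProEtS.bcP i).map j,
    Spec (CommRingCat.of (Γ(V.left, UV) ⊗[Γ(X, UX)] Γ(Z, i ⁻¹ᵁ UX))), ob, g',
    hopen, hmem, hg'ob, hsurjg', hqcg', ⟨V'', j, 𝟙 _, ⟨l, hl⟩, (Category.id_comp _).symm⟩⟩

end Groth.Agent.Lib.DenseCIH3
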