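import Mathlib
import Groth.Prelude.Def_ProEtS
import Groth.Agent.Lib.DenseCI4_helper3

/-!
# Push-forward along a closed immersion is fully faithful on pro-étale sheaves (helper3)
-/

set_option autoImplicit false
set_option linter.all false
set_option maxHeartbeats 1600000
universe u

open AlgebraicGeometry CategoryTheory Limits Opposite TopologicalSpace

namespace Groth.Agent.Lib.DenseCIH3

theorem main0741 {Z X : Scheme.{u}} (i : Z ⟶ X) [IsClosedImmersion i] [ProEtS.PCont i]
    (F : ProEtS.AbP Z) : IsIso ((ProEtS.pullPushAdjP i).counit.app F) := by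
  haveI := isCoverDense_bcP i
  haveI := isLocallyFull_bcP i
  haveI : (ProEtS.pushP i).Full :=
    Functor.IsCoverDense.full_sheafPushforwardContinuous (G := ProEtS.bcP i)
      (J := Scheme.ProEt.topology X) (K := Scheme.ProEt.topology Z)
  haveI : (ProEtS.pushP i).Faithful :=
    Functor.IsCoverDense.faithful_sheafPushforwardContinuous (G := ProEtS.bcP i)
      (J := Scheme.ProEt.topology X) (K := Scheme.ProEt.topology Z)
  haveI : IsIso (ProEtS.pullPushAdjP i).counit :=
    Adjunction.counit_isIso_of_R_fully_faithful (ProEtS.pullPushAdjP i)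
  infer_instance

end Groth.Agent.Lib.DenseCIH3
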