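import Mathlib
import Groth.Prelude.Def_Flat
import Groth.Prelude.Def_Neron
import Groth.Agent.Lib.DenseFib2_helper8
import Groth.Agent.Lib.FibCoh3_helper8

universe u
open AlgebraicGeometry CategoryTheory CategoryTheory.Limits Topology

namespace Groth.Agent.Lib.DenseFibH8

variable {X S : Scheme.{u}} (f : X ⟶ S)

/-- flat, locally of finite type: a bound on the relative dimension over a generization `s'` of
`f x` propagates to `x`. -/
theorem fibreDimAt_le_of_generization [Flat f] [LocallyOfFiniteType f] (x : X) (s' : S)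
    (hs's : s' ⤳ f x) (e : ℕ)
    (hle : ∀ w : X, f.base w = s' → FlatMor.fibreDimAt f w ≤ e) :
    FlatMor.fibreDimAt f x ≤ e := by
  obtain ⟨R, _, _, _, h, hη, hcl⟩ := GenDimH8.exists_valuationRing_of_specializes (f x) s' hs's
  have hsq : IsPullback (pullback.fst f h) (pullback.snd f h) f h := IsPullback.of_hasPullback f h
  obtain ⟨xR, hx1, hx2⟩ := Scheme.Pullback.exists_preimage_pullback (f := f) (g := h) x
    (IsLocalRing.closedPoint R) hcl.symm
  rw [← hx1, ← FieldExtH8.fibreDimAt_baseChange f h _ _ hsq xR]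
  apply valuation_core R (pullback.snd f h) e ?_ xR
  intro w hw
  rw [FieldExtH8.fibreDimAt_baseChange f h _ _ hsq w]
  apply hle
  have : f.base (pullback.fst f h w) = h (pullback.snd f h w) := by
    rw [← Scheme.Hom.comp_apply, ← Scheme.Hom.comp_apply, pullback.condition]
  rw [this, hw, hη]

theorem main18485 (R : Type u) [CommRing R]
    [IsDedekindDomain R] (H : Over (Spec (CommRingCat.of R))) [Flat H.hom]
    [LocallyOfFiniteType H.hom]
    [LocallyQuasiFinite ((Neron.genericFibre R).obj H).hom] : LocallyQuasiFinite H.hom := by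
  apply FibCohH8.lqf_of_forall_fibreDimAt_eq_zero
  intro x
  refine le_antisymm ?_ (ZeroDimFinH8.fibreDimAt_nonneg H.hom x)
  have hsp : (⟨⊥, Ideal.isPrime_bot⟩ : PrimeSpectrum R) ⤳ H.hom x :=
    (PrimeSpectrum.le_iff_specializes (⟨⊥, Ideal.isPrime_bot⟩ : PrimeSpectrum R) _).mp bot_le
  have key := fibreDimAt_le_of_generization H.hom x _ hsp 0 ?_
  · exact_mod_cast key
  intro w hw
  have hsq : IsPullback (pullback.fst H.hom (Neron.genPt R)) (pullback.snd H.hom (Neron.genPt R))
      H.hom (Neron.genPt R) := IsPullback.of_hasPullback _ _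
  have hpt : (Neron.genPt R) (IsLocalRing.closedPoint (FractionRing R)) =
      (⟨⊥, Ideal.isPrime_bot⟩ : PrimeSpectrum R) := by
    apply PrimeSpectrum.ext
    show Ideal.comap (algebraMap R (FractionRing R)) (IsLocalRing.maximalIdeal (FractionRing R)) = ⊥
    rw [IsLocalRing.maximalIdeal_eq_bot, Ideal.comap_bot_of_injective _
      (IsFractionRing.injective R (FractionRing R))]
  obtain ⟨w', hw'1, hw'2⟩ := Scheme.Pullback.exists_preimage_pullback (f := H.hom)
    (g := Neron.genPt R) w (IsLocalRing.closedPoint (FractionRing R)) (hw.trans hpt.symm)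
  have hlqf : LocallyQuasiFinite (pullback.snd H.hom (Neron.genPt R)) :=
    (inferInstance : LocallyQuasiFinite ((Neron.genericFibre R).obj H).hom)
  have h0 := FibCohH8.fibreDimAt_eq_zero_of_lqf (pullback.snd H.hom (Neron.genPt R)) w'
  rw [FieldExtH8.fibreDimAt_baseChange H.hom _ _ _ hsq w', hw'1] at h0
  rw [h0]
  rfl

end Groth.Agent.Lib.DenseFibH8
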