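import Mathlib
import Groth.Prelude.Def_Flat
import Groth.Agent.Lib.DenseFib2_helper8
import Groth.Agent.Lib.FibCoh3_helper8
import Groth.Agent.Lib.EquidimAt2_helper8
import Groth.Agent.Lib.ValFib9_helper8

universe u
open AlgebraicGeometry CategoryTheory CategoryTheory.Limits Topology

namespace Groth.Agent.Lib.DenseFibH8

variable {X S : Scheme.{u}} (f : X ⟶ S)

/-- if the restriction of `f` over an open `U` is locally quasi-finite then `f` has relative
dimension zero at all points over `U`. -/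
theorem fibreDimAt_eq_zero_of_restrict_lqf [LocallyOfFiniteType f] (U : S.Opens)
    [LocallyQuasiFinite (f ∣_ U)] (x : X) (hx : f.base x ∈ U) :
    FlatMor.fibreDimAt f x = 0 := by
  let ζ : (f ⁻¹ᵁ U).toScheme := ⟨x, hx⟩
  have h1 := EquidimAtH8.fibreDimAt_ι_comp f (f ⁻¹ᵁ U) ζ
  have h2 : (f ⁻¹ᵁ U).ι ≫ f = f ∣_ U ≫ U.ι := (morphismRestrict_ι f U).symm
  have h3 : FlatMor.fibreDimAt ((f ∣_ U) ≫ U.ι) ζ = FlatMor.fibreDimAt (f ∣_ U) ζ :=
    ValFibH8.fibreDimAt_comp_injective (f ∣_ U) U.ι U.ι.isEmbedding.injective ζ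
  have h4 := FibCohH8.fibreDimAt_eq_zero_of_lqf (f ∣_ U) ζ
  have h5 : FlatMor.fibreDimAt ((f ⁻¹ᵁ U).ι ≫ f) ζ = FlatMor.fibreDimAt ((f ∣_ U) ≫ U.ι) ζ := by
    rw [h2]
  have h6 : (f ⁻¹ᵁ U).ι ζ = x := rfl
  rw [← h6, ← h1, h5, h3, h4]

theorem main0450 [Flat f] [IsProper f] [LocallyOfFinitePresentation f]
    (U : S.Opens) (hU : Dense (U : Set ↑S)) [IsFinite (f ∣_ U)] : IsFinite f := by
  haveI : LocallyQuasiFinite f := by
    apply FibCohH8.lqf_of_forall_fibreDimAt_eq_zero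
    intro x
    refine le_antisymm ?_ (ZeroDimFinH8.fibreDimAt_nonneg f x)
    have key := case_lfp f U hU 0 (fun w hw => by
      rw [fibreDimAt_eq_zero_of_restrict_lqf f U w hw]; rfl) x
    exact_mod_cast key
  exact IsFinite.of_isProper_of_locallyQuasiFinite f

end Groth.Agent.Lib.DenseFibH8
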