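import Mathlib

/-!
# Morphisms that are (open) immersions on a cover by dense opens (helper4)
-/

open AlgebraicGeometry CategoryTheory Limits MorphismProperty TopologicalSpace

universe u

set_option autoImplicit false
set_option linter.style.haveILetI false

namespace Groth.Agent.Lib.DenseImmH4

theorem stalkMap_surjective_of_comp {U X Y : Scheme.{u}} (j : U ⟶ X) [IsOpenImmersion j]
    (f : X ⟶ Y) (u : U) (x : X) (hx : j u = x)
    (h : Function.Surjective ((j ≫ f).stalkMap u)) : Function.Surjective (f.stalkMap x) := by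
  subst hx
  rw [Scheme.Hom.stalkMap_comp] at h
  have hiso : Function.Bijective (j.stalkMap u) :=
    (ConcreteCategory.isIso_iff_bijective _).mp inferInstance
  intro b
  obtain ⟨a, ha⟩ := h (j.stalkMap u b)
  have ha' : j.stalkMap u (f.stalkMap (j u) a) = j.stalkMap u b := ha
  exact ⟨a, hiso.1 ha'⟩

theorem stalkMap_isIso_of_comp {U X Y : Scheme.{u}} (j : U ⟶ X) [IsOpenImmersion j]
    (f : X ⟶ Y) (u : U) (x : X) (hx : j u = x)
    (h : IsIso ((j ≫ f).stalkMap u)) : IsIso (f.stalkMap x) := by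
  subst hx
  rw [Scheme.Hom.stalkMap_comp] at h
  exact @IsIso.of_isIso_comp_right _ _ _ _ _ (f.stalkMap (j u)) (j.stalkMap u) inferInstance h

set_option maxHeartbeats 1600000 in
/-- Key injectivity lemma. -/
theorem eq_of_map_eq {X Y : Scheme.{u}} (f : X ⟶ Y) [IsSeparated f] (U₁ U₂ : X.Opens)
    (hd₂ : Dense (U₂ : Set X)) [IsPreimmersion (U₂.ι ≫ f)]
    (x x' : X) (hx : x ∈ U₁) (hx' : x' ∈ U₂) (h : f x = f x') : x = x' := by
  let a : (U₁ : Scheme.{u}) ⟶ Y := U₁.ι ≫ f
  let b : (U₂ : Scheme.{u}) ⟶ Y := U₂.ι ≫ f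
  haveI : IsPreimmersion b := ‹_›
  haveI : IsPreimmersion (pullback.fst a b) := inferInstance
  let j : pullback a b ⟶ pullback f f :=
    pullback.map a b f f U₁.ι U₂.ι (𝟙 Y) (Category.comp_id _) (Category.comp_id _)
  have hj1 : j ≫ pullback.fst f f = pullback.fst a b ≫ U₁.ι := pullback.lift_fst _ _ _
  have hrj : Set.range j =
      pullback.fst f f ⁻¹' Set.range U₁.ι ∩ pullback.snd f f ⁻¹' Set.range U₂.ι :=
    Scheme.Pullback.range_map ..
  have hΔ1 : ∀ z, pullback.fst f f (pullback.diagonal f z) = z := fun z => by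
    change (pullback.diagonal f ≫ pullback.fst f f) z = z
    rw [pullback.diagonal_fst]; rfl
  have hΔ2 : ∀ z, pullback.snd f f (pullback.diagonal f z) = z := fun z => by
    change (pullback.diagonal f ≫ pullback.snd f f) z = z
    rw [pullback.diagonal_snd]; rfl
  obtain ⟨q, hq1, hq2⟩ := Scheme.Pullback.exists_preimage_pullback (f := f) (g := f) x x' h
  have hqj : q ∈ Set.range j := by
    rw [hrj, Scheme.Opens.range_ι, Scheme.Opens.range_ι]
    refine ⟨?_, ?_⟩
    · rw [Set.mem_preimage, hq1]; exact hx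
    · rw [Set.mem_preimage, hq2]; exact hx'
  obtain ⟨p, rfl⟩ := hqj
  have hsub : {u : U₁ | (u : X) ∈ U₂} ⊆
      pullback.fst a b '' (j ⁻¹' Set.range (pullback.diagonal f)) := by
    intro u hu
    have hΔu : pullback.diagonal f u.1 ∈ Set.range j := by
      rw [hrj, Scheme.Opens.range_ι, Scheme.Opens.range_ι]
      refine ⟨?_, ?_⟩
      · rw [Set.mem_preimage, hΔ1]; exact u.2
      · rw [Set.mem_preimage, hΔ2]; exact hu
    obtain ⟨p', hp'⟩ := hΔu
    refine ⟨p', ⟨u.1, hp'.symm⟩, ?_⟩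
    apply U₁.ι.isOpenEmbedding.injective
    change (pullback.fst a b ≫ U₁.ι) p' = u.1
    rw [← hj1]
    change pullback.fst f f (j p') = u.1
    rw [hp', hΔ1]
  have hdense : Dense {u : U₁ | (u : X) ∈ U₂} := by
    intro u
    rw [mem_closure_iff]
    intro G hG huG
    have hG' : IsOpen (U₁.ι '' G) := U₁.ι.isOpenEmbedding.isOpenMap _ hG
    obtain ⟨w, ⟨g, hgG, rfl⟩, hw⟩ := hd₂.inter_open_nonempty _ hG' ⟨_, u, huG, rfl⟩
    exact ⟨g, hgG, hw⟩
  have hp : p ∈ closure (j ⁻¹' Set.range (pullback.diagonal f)) := by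
    rw [(pullback.fst a b).isEmbedding.isInducing.closure_eq_preimage_closure_image]
    exact closure_mono hsub (hdense (pullback.fst a b p))
  have hq : j p ∈ closure (Set.range (pullback.diagonal f)) :=
    map_mem_closure j.continuous hp (fun _ h => h)
  rw [(pullback.diagonal f).isClosedEmbedding.isClosed_range.closure_eq] at hq
  obtain ⟨z, hz⟩ := hq
  rw [← hq1, ← hq2, ← hz, hΔ1, hΔ2]

theorem injective_of_cover {X Y : Scheme.{u}} (f : X ⟶ Y) [IsSeparated f] {ι : Type*}
    (U : ι → X.Opens) (hcov : ∀ x : X, ∃ i, x ∈ U i) (hd : ∀ i, Dense (U i : Set X))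
    (hpre : ∀ i, IsPreimmersion ((U i).ι ≫ f)) : Function.Injective f := by
  intro x x' h
  obtain ⟨i, hi⟩ := hcov x
  obtain ⟨j, hj⟩ := hcov x'
  haveI := hpre j
  exact eq_of_map_eq f (U i) (U j) (hd j) x x' hi hj h

theorem exists_mem_of_iSup_eq_top {X : Scheme.{u}} {ι : Type*} (U : ι → X.Opens)
    (hU : ⨆ i, U i = ⊤) (x : X) : ∃ i, x ∈ U i := by
  have : x ∈ (⊤ : X.Opens) := trivial
  rw [← hU] at this
  exact Opens.mem_iSup.mp this

set_option maxHeartbeats 800000 in
theorem main10877 {X Y : Scheme.{u}} (f : X ⟶ Y) [IsSeparated f]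
    {ι : Type u} (U : ι → X.Opens)
    (hU : ⨆ i, U i = ⊤) (hd : ∀ i, Dense (U i : Set X)) (h : ∀ i, IsOpenImmersion ((U i).ι ≫ f)) :
    IsOpenImmersion f := by
  have hcov := exists_mem_of_iSup_eq_top U hU
  have hinj : Function.Injective f :=
    injective_of_cover f U hcov hd (fun i => by haveI := h i; infer_instance)
  have hopen : IsOpenMap f := by
    intro G hG
    have : f '' G = ⋃ i, ((U i).ι ≫ f) '' ((U i).ι ⁻¹' G) := by
      ext y
      constructor
      · rintro ⟨x, hxG, rfl⟩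
        obtain ⟨i, hi⟩ := hcov x
        exact Set.mem_iUnion.mpr ⟨i, ⟨⟨x, hi⟩, hxG, rfl⟩⟩
      · intro hy
        obtain ⟨i, u, hu, rfl⟩ := Set.mem_iUnion.mp hy
        exact ⟨u.1, hu, rfl⟩
    rw [this]
    exact isOpen_iUnion fun i => by
      haveI := h i
      exact ((U i).ι ≫ f).isOpenEmbedding.isOpenMap _ (hG.preimage (U i).ι.continuous)
  haveI : ∀ x, IsIso (f.stalkMap x) := fun x => by
    obtain ⟨i, hi⟩ := hcov x
    haveI := h i
    exact stalkMap_isIso_of_comp (U i).ι f ⟨x, hi⟩ x rfl inferInstance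
  exact IsOpenImmersion.of_isIso_stalkMap f
    (.of_continuous_injective_isOpenMap f.continuous hinj hopen)

set_option maxHeartbeats 1600000 in
theorem main10878 {X Y : Scheme.{u}} (f : X ⟶ Y) [IsSeparated f]
    {ι : Type u} (U : ι → X.Opens)
    (hU : ⨆ i, U i = ⊤) (hd : ∀ i, Dense (U i : Set X)) (h : ∀ i, IsImmersion ((U i).ι ≫ f)) :
    IsImmersion f := by
  have hpre : ∀ i, IsPreimmersion ((U i).ι ≫ f) := fun i => by haveI := h i; infer_instance
  have hcov := exists_mem_of_iSup_eq_top U hU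
  have hinj : Function.Injective f := injective_of_cover f U hcov hd hpre
  have hval : ∀ i (u : U i), ((U i).ι ≫ f) u = f u.1 := fun i u => rfl
  have hOex : ∀ i, ∃ O : Set Y, IsOpen O ∧
      Set.range ((U i).ι ≫ f) = closure (Set.range f) ∩ O := by
    intro i
    haveI := h i
    have hlc : IsLocallyClosed (Set.range ((U i).ι ≫ f)) :=
      ((U i).ι ≫ f).isLocallyClosed_range
    have hcl : closure (Set.range ((U i).ι ≫ f)) = closure (Set.range f) := by
      apply subset_antisymm
      · apply closure_mono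
        rintro _ ⟨u, rfl⟩
        exact ⟨u.1, (hval i u).symm⟩
      · apply closure_minimal _ isClosed_closure
        rintro _ ⟨x, rfl⟩
        have hx : x ∈ closure (U i : Set X) := hd i x
        exact map_mem_closure f.continuous hx (t := Set.range ((U i).ι ≫ f))
          (fun w hw => ⟨⟨w, hw⟩, rfl⟩)
    refine ⟨coborder (Set.range ((U i).ι ≫ f)), hlc.isOpen_coborder, ?_⟩
    rw [← hcl, closure_inter_coborder]
  choose O hOopen hOeq using hOex
  have hemb : Topology.IsEmbedding f := by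
    refine ⟨⟨TopologicalSpace.ext_iff.mpr fun G => ?_⟩, hinj⟩
    rw [isOpen_induced_iff]
    constructor
    · intro hG
      have hG' : ∀ i, ∃ T : Set Y, IsOpen T ∧ ((U i).ι ≫ f) ⁻¹' T = (U i).ι ⁻¹' G := fun i => by
        haveI := hpre i
        exact ((U i).ι ≫ f).isEmbedding.isInducing.isOpen_iff.mp
          (hG.preimage (U i).ι.continuous)
      choose T hTopen hTeq using hG'
      refine ⟨⋃ i, T i ∩ O i, isOpen_iUnion fun i => (hTopen i).inter (hOopen i), ?_⟩
      ext x
      simp only [Set.mem_preimage, Set.mem_iUnion, Set.mem_inter_iff]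
      constructor
      · rintro ⟨i, hxT, hxO⟩
        have hr : f x ∈ Set.range ((U i).ι ≫ f) := by
          rw [hOeq i]; exact ⟨subset_closure ⟨x, rfl⟩, hxO⟩
        obtain ⟨u, hu⟩ := hr
        have hux : u.1 = x := hinj ((hval i u).symm.trans hu)
        have hmem : u ∈ ((U i).ι ≫ f) ⁻¹' T i := by
          change ((U i).ι ≫ f) u ∈ T i
          rw [hu]; exact hxT
        rw [hTeq i] at hmem
        rw [← hux]; exact hmem
      · intro hxG
        obtain ⟨i, hi⟩ := hcov x
        have hu : (⟨x, hi⟩ : U i) ∈ (U i).ι ⁻¹' G := hxG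
        rw [← hTeq i] at hu
        refine ⟨i, hu, ?_⟩
        have hr : f x ∈ Set.range ((U i).ι ≫ f) := ⟨⟨x, hi⟩, rfl⟩
        rw [hOeq i] at hr
        exact hr.2
    · rintro ⟨T, hT, rfl⟩
      exact hT.preimage f.continuous
  have hlc : IsLocallyClosed (Set.range f) := by
    have hr : Set.range f = closure (Set.range f) ∩ ⋃ i, O i := by
      ext y
      constructor
      · rintro ⟨x, rfl⟩
        obtain ⟨i, hi⟩ := hcov x
        have hr : f x ∈ Set.range ((U i).ι ≫ f) := ⟨⟨x, hi⟩, rfl⟩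
        rw [hOeq i] at hr
        exact ⟨hr.1, Set.mem_iUnion.mpr ⟨i, hr.2⟩⟩
      · rintro ⟨hy, hy'⟩
        obtain ⟨i, hi⟩ := Set.mem_iUnion.mp hy'
        have hr : y ∈ Set.range ((U i).ι ≫ f) := by rw [hOeq i]; exact ⟨hy, hi⟩
        obtain ⟨u, rfl⟩ := hr
        exact ⟨u.1, (hval i u).symm⟩
    rw [hr]
    exact isClosed_closure.isLocallyClosed.inter (isOpen_iUnion hOopen).isLocallyClosed
  have hsurj : ∀ x, Function.Surjective (f.stalkMap x) := fun x => by
    obtain ⟨i, hi⟩ := hcov x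
    haveI := hpre i
    exact stalkMap_surjective_of_comp (U i).ι f ⟨x, hi⟩ x rfl
      (((U i).ι ≫ f).stalkMap_surjective ⟨x, hi⟩)
  exact { toIsPreimmersion := { toSurjectiveOnStalks := ⟨hsurj⟩, isEmbedding := hemb },
          isLocallyClosed_range := hlc }

end Groth.Agent.Lib.DenseImmH4
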