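import Mathlib

/-!
# A quasi-compact scheme has a dense open separated subscheme (helper5): S7387.
APPEND-ONLY once landed.
-/

set_option autoImplicit false
universe u

namespace Groth.Agent.DenseSep

open AlgebraicGeometry CategoryTheory TopologicalSpace Limits

theorem exists_dense_separated (X : Scheme.{u}) [CompactSpace X] :
    ∃ V : X.Opens, Dense (V : Set X) ∧ (V : Scheme.{u}).IsSeparated := by
  classical
  obtain ⟨t, ht⟩ := isCompact_univ.elim_finite_subcover
    (fun U : X.affineOpens => (U.1 : Set X)) (fun U => U.1.isOpen) (by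
      intro x _
      obtain ⟨_, ⟨W, hW, rfl⟩, hxW, -⟩ :=
        X.isBasis_affineOpens.exists_subset_of_mem_open (Set.mem_univ x) isOpen_univ
      exact Set.mem_iUnion.mpr ⟨⟨W, hW⟩, hxW⟩)
  let e : t ≃ Fin t.card := t.equivFin
  let U : Fin t.card → X.Opens := fun i => (e.symm i).1.1
  have hUaff : ∀ i, IsAffineOpen (U i) := fun i => (e.symm i).1.2
  have hUcov : ∀ x : X, ∃ i, x ∈ U i := by
    intro x
    have h1 := ht (Set.mem_univ x)
    simp only [Set.mem_iUnion] at h1
    obtain ⟨W, hWt, hxW⟩ := h1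
    refine ⟨e ⟨W, hWt⟩, ?_⟩
    show x ∈ (e.symm (e ⟨W, hWt⟩)).1.1
    rw [Equiv.symm_apply_apply]
    exact hxW
  let V : Fin t.card → X.Opens := fun i =>
    ⟨(U i : Set X) \ closure (⋃ j, ⋃ (_ : j < i), (U j : Set X)),
      (U i).isOpen.sdiff isClosed_closure⟩
  have hVU : ∀ i, V i ≤ U i := fun i z hz => hz.1
  have hVdisj : Pairwise (Function.onFun Disjoint V) := by
    intro i j hij
    show Disjoint (V i) (V j)
    rw [← Opens.coe_disjoint, Set.disjoint_left]
    intro z hzi hzj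
    rcases lt_or_gt_of_ne hij with h | h
    · exact hzj.2 (subset_closure (Set.mem_iUnion₂.mpr ⟨i, h, hzi.1⟩))
    · exact hzi.2 (subset_closure (Set.mem_iUnion₂.mpr ⟨j, h, hzj.1⟩))
  refine ⟨⨆ i, V i, ?_, ?_⟩
  · rw [dense_iff_inter_open]
    intro O hO hOne
    obtain ⟨x, hx⟩ := hOne
    let S : Finset (Fin t.card) :=
      Finset.univ.filter (fun i => (O ∩ (U i : Set X)).Nonempty)
    have hS : S.Nonempty := by
      obtain ⟨i, hi⟩ := hUcov x
      exact ⟨i, Finset.mem_filter.mpr ⟨Finset.mem_univ _, ⟨x, hx, hi⟩⟩⟩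
    have hi₀ : (O ∩ (U (S.min' hS) : Set X)).Nonempty :=
      (Finset.mem_filter.mp (S.min'_mem hS)).2
    obtain ⟨y, hyO, hyU⟩ := hi₀
    refine ⟨y, hyO, ?_⟩
    have hyV : y ∈ V (S.min' hS) := by
      refine ⟨hyU, fun hcl => ?_⟩
      obtain ⟨z, hzO, hz⟩ := mem_closure_iff.mp hcl O hO hyO
      obtain ⟨j, hj, hzj⟩ := Set.mem_iUnion₂.mp hz
      have hjS : j ∈ S := Finset.mem_filter.mpr ⟨Finset.mem_univ _, ⟨z, hzO, hzj⟩⟩
      exact absurd (S.min'_le j hjS) (not_le.mpr hj)
    exact (le_iSup V (S.min' hS)) hyV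
  · haveI : ∀ i, IsAffine ((U i : X.Opens) : Scheme.{u}) := fun i => hUaff i
    let β : ∀ i, ((V i : X.Opens) : Scheme.{u}) ⟶ ∐ fun j => ((U j : X.Opens) : Scheme.{u}) :=
      fun i => X.homOfLE (hVU i) ≫ Sigma.ι (fun j => ((U j : X.Opens) : Scheme.{u})) i
    have hβ : IsOpenImmersion (Sigma.desc β) := by
      refine isOpenImmersion_sigmaDesc _ β (fun i j hij => ?_)
      have h1 := disjoint_opensRange_sigmaι (fun j => ((U j : X.Opens) : Scheme.{u})) i j hij
      rw [← Opens.coe_disjoint] at h1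
      refine Set.disjoint_of_subset ?_ ?_ h1
      · rintro _ ⟨z, rfl⟩
        exact ⟨X.homOfLE (hVU i) z, by simp [β]⟩
      · rintro _ ⟨z, rfl⟩
        exact ⟨X.homOfLE (hVU j) z, by simp [β]⟩
    haveI : (∐ fun i => ((V i : X.Opens) : Scheme.{u})).IsSeparated := by
      constructor
      rw [← terminal.comp_from (Sigma.desc β)]
      infer_instance
    have hVW : ∀ i, V i ≤ ⨆ i, V i := fun i => le_iSup V i
    let f : ∀ i, ((V i : X.Opens) : Scheme.{u}) ⟶ ((⨆ i, V i : X.Opens) : Scheme.{u}) :=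
      fun i => X.homOfLE (hVW i)
    have hrange : ∀ i, (f i).opensRange = (⨆ i, V i : X.Opens).ι ⁻¹ᵁ V i :=
      fun i => Scheme.opensRange_homOfLE _
    have hcov : ⨆ i, (f i).opensRange = ⊤ := by
      simp only [hrange]
      exact (TopologicalSpace.Opens.map_iSup _ _).symm.trans (⨆ i, V i : X.Opens).ι_preimage_self
    have hdisj : Pairwise (Function.onFun Disjoint fun i => (f i).opensRange) := by
      intro i j hij
      simp only [Function.onFun, hrange]
      rw [disjoint_iff, ← Scheme.Hom.preimage_inf, disjoint_iff.mp (hVdisj hij)]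
      rfl
    obtain ⟨hcolim⟩ := nonempty_isColimit_cofanMk_of f hcov hdisj
    let e' : ((⨆ i, V i : X.Opens) : Scheme.{u}) ≅ ∐ fun i => ((V i : X.Opens) : Scheme.{u}) :=
      hcolim.coconePointUniqueUpToIso (coproductIsCoproduct _)
    constructor
    rw [← terminal.comp_from e'.hom]
    infer_instance

end Groth.Agent.DenseSep
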