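import Mathlib

/-!
# Dense extensions of valuation rings and integral closures (helper8)

`A ⊆ A'` valuation rings, `A'` dominating `A`, `A` dense in `A'`; `L / K` finite.
Every element of `(K' ⊗_K L)_red` integral over `A'` is a sum `Σ a'ᵢ ⊗ lᵢ` with `lᵢ` integral
over `A`.
-/

set_option autoImplicit false
universe u

namespace Groth.Agent.Lib.DenseValH8

open Polynomial IsLocalRing TensorProduct

section approx

variable (A K A' K' : Type u) [CommRing A] [IsDomain A] [ValuationRing A] [Field K] [Algebra A K]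
  [IsFractionRing A K]
  [CommRing A'] [IsDomain A'] [ValuationRing A'] [Field K'] [Algebra A' K'] [IsFractionRing A' K']
  [Algebra A A'] [Algebra K K'] [Algebra A K'] [IsScalarTower A A' K'] [IsScalarTower A K K']

include A in
/-- Every element of `K'` is the sum of an element of `K` and an element of `A'`. -/
theorem exists_approx (hdense : ∀ a' b' : A', b' ≠ 0 → ∃ a : A, b' ∣ a' - algebraMap A A' a)
    (k' : K') : ∃ (k : K) (a' : A'), k' = algebraMap K K' k + algebraMap A' K' a' := by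
  have hcompat : ∀ a : A, algebraMap K K' (algebraMap A K a) =
      algebraMap A' K' (algebraMap A A' a) := fun a => by
    rw [← IsScalarTower.algebraMap_apply A K K', ← IsScalarTower.algebraMap_apply A A' K']
  rcases ValuationRing.isInteger_or_isInteger A' k' with ⟨a', ha'⟩ | ⟨c', hc'⟩
  · exact ⟨0, a', by rw [map_zero, zero_add, ha']⟩
  by_cases hk0 : k' = 0
  · exact ⟨0, 0, by rw [map_zero, map_zero, add_zero, hk0]⟩
  have hc0 : c' ≠ 0 := by
    rintro rfl
    rw [map_zero] at hc'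
    exact hk0 (inv_eq_zero.mp hc'.symm)
  have hcK : algebraMap A' K' c' ≠ 0 :=
    (map_ne_zero_iff _ (IsFractionRing.injective A' K')).mpr hc0
  have hk' : k' = (algebraMap A' K' c')⁻¹ := by rw [hc', inv_inv]
  by_cases hcu : IsUnit c'
  · obtain ⟨v, rfl⟩ := hcu
    refine ⟨0, (↑v⁻¹ : A'), ?_⟩
    rw [map_zero, zero_add, hk']
    exact inv_eq_of_mul_eq_one_right (by rw [← map_mul, Units.mul_inv, map_one])
  -- `c'` a nonzero nonunit
  obtain ⟨a, d', hd'⟩ := hdense c' (c' * c') (mul_ne_zero hc0 hc0)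
  -- `algebraMap a = c' (1 - c' d')`
  have hα : algebraMap A A' a = c' * (1 - c' * d') := by
    have : algebraMap A A' a = c' - (c' - algebraMap A A' a) := by ring
    rw [this, hd']; ring
  have hu : IsUnit (1 - c' * d') := by
    have hmem : c' * d' ∈ maximalIdeal A' :=
      Ideal.mul_mem_right _ _ ((mem_maximalIdeal c').mpr hcu)
    by_contra h
    have h2 : 1 - c' * d' ∈ maximalIdeal A' := (mem_maximalIdeal _).mpr h
    have := Ideal.add_mem _ h2 hmem
    rw [sub_add_cancel] at this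
    exact (Ideal.ne_top_iff_one _).mp (maximalIdeal.isMaximal A').ne_top this
  obtain ⟨u, hu⟩ := hu
  refine ⟨(algebraMap A K a)⁻¹, -(d' * (↑u⁻¹ : A')), ?_⟩
  have huK : algebraMap A' K' (u : A') ≠ 0 :=
    (map_ne_zero_iff _ (IsFractionRing.injective A' K')).mpr u.ne_zero
  have huinv : algebraMap A' K' (↑u⁻¹ : A') = (algebraMap A' K' (u : A'))⁻¹ :=
    eq_inv_of_mul_eq_one_left (by rw [← map_mul, Units.inv_mul, map_one])
  rw [map_inv₀, hcompat, hα, ← hu, map_mul, map_neg, map_mul, huinv, hk']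
  have hu' : algebraMap A' K' (u : A') = 1 - algebraMap A' K' c' * algebraMap A' K' d' := by
    rw [hu, map_sub, map_one, map_mul]
  field_simp
  rw [hu']
  ring

end approx


section good

variable (A K L A' K' : Type u) [CommRing A] [IsDomain A] [ValuationRing A] [Field K] [Algebra A K]
  [IsFractionRing A K] [Field L] [Algebra K L] [FiniteDimensional K L] [Algebra A L]
  [IsScalarTower A K L]
  [CommRing A'] [IsDomain A'] [ValuationRing A'] [Field K'] [Algebra A' K'] [IsFractionRing A' K']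
  [Algebra A A'] [Algebra K K'] [Algebra A K'] [IsScalarTower A A' K'] [IsScalarTower A K K']

/-- Sums `Σ a'ᵢ ⊗ lᵢ` with `lᵢ` integral over `A`. -/
def Good (t : K' ⊗[K] L) : Prop :=
  ∃ (n : ℕ) (a : Fin n → A') (l : Fin n → L), (∀ i, IsIntegral A (l i)) ∧
    t = ∑ i, algebraMap A' K' (a i) ⊗ₜ[K] l i

theorem good_zero : Good A K L A' K' 0 :=
  ⟨0, Fin.elim0, Fin.elim0, fun i => i.elim0, by simp⟩

theorem good_tmul (a' : A') (b : L) (hb : IsIntegral A b) :
    Good A K L A' K' (algebraMap A' K' a' ⊗ₜ[K] b) :=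
  ⟨1, fun _ => a', fun _ => b, fun _ => hb, by simp⟩

theorem good_add {s t : K' ⊗[K] L} (hs : Good A K L A' K' s) (ht : Good A K L A' K' t) :
    Good A K L A' K' (s + t) := by
  obtain ⟨n, a, l, hl, rfl⟩ := hs
  obtain ⟨m, a₂, l₂, hl₂, rfl⟩ := ht
  refine ⟨n + m, Fin.append a a₂, Fin.append l l₂, ?_, ?_⟩
  · intro i
    refine Fin.addCases (fun j => ?_) (fun j => ?_) i
    · rw [Fin.append_left]; exact hl j
    · rw [Fin.append_right]; exact hl₂ j
  · rw [Fin.sum_univ_add]
    simp only [Fin.append_left, Fin.append_right]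

/-- Every element of `K' ⊗ L` is a good element plus an element of `1 ⊗ L`. -/
theorem exists_good_add (hdense : ∀ a' b' : A', b' ≠ 0 → ∃ a : A, b' ∣ a' - algebraMap A A' a)
    (t : K' ⊗[K] L) : ∃ (s : K' ⊗[K] L) (y : L), Good A K L A' K' s ∧ t = s + 1 ⊗ₜ[K] y := by
  induction t using TensorProduct.induction_on with
  | zero => exact ⟨0, 0, good_zero A K L A' K', by simp⟩
  | tmul k' l =>
    have hl : IsAlgebraic A l := by
      have : IsAlgebraic K l := Algebra.IsAlgebraic.isAlgebraic l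
      exact (IsFractionRing.isAlgebraic_iff A K L).mpr this
    obtain ⟨s₀, hs₀, hb⟩ := hl.exists_integral_multiple
    have hcK : algebraMap A K s₀ ≠ 0 :=
      (map_ne_zero_iff _ (IsFractionRing.injective A K)).mpr hs₀
    obtain ⟨k, a', hka⟩ := exists_approx A K A' K' hdense
      (algebraMap K K' (algebraMap A K s₀)⁻¹ * k')
    refine ⟨algebraMap A' K' a' ⊗ₜ[K] (s₀ • l), k • (s₀ • l), good_tmul A K L A' K' a' _ hb, ?_⟩
    have h1 : l = (algebraMap A K s₀)⁻¹ • (s₀ • l) := by
      rw [← algebraMap_smul K s₀ l, smul_smul, inv_mul_cancel₀ hcK, one_smul]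
    have h2 : k' ⊗ₜ[K] l = (algebraMap K K' (algebraMap A K s₀)⁻¹ * k') ⊗ₜ[K] (s₀ • l) := by
      conv_lhs => rw [h1]
      rw [← TensorProduct.smul_tmul, Algebra.smul_def]
    rw [h2, hka, TensorProduct.add_tmul, add_comm]
    congr 1
    rw [Algebra.algebraMap_eq_smul_one, TensorProduct.smul_tmul]
  | add x y hx hy =>
    obtain ⟨s₁, y₁, hs₁, rfl⟩ := hx
    obtain ⟨s₂, y₂, hs₂, rfl⟩ := hy
    refine ⟨s₁ + s₂, y₁ + y₂, good_add A K L A' K' hs₁ hs₂, ?_⟩
    rw [TensorProduct.tmul_add]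
    abel

end good


section descent

variable (A K L A' K' : Type u) [CommRing A] [IsDomain A] [ValuationRing A] [Field K] [Algebra A K]
  [IsFractionRing A K] [Field L] [Algebra K L] [FiniteDimensional K L] [Algebra A L]
  [IsScalarTower A K L]
  [CommRing A'] [IsDomain A'] [ValuationRing A'] [Field K'] [Algebra A' K'] [IsFractionRing A' K']
  [Algebra A A'] [IsLocalHom (algebraMap A A')] [Algebra K K'] [Algebra A K']
  [IsScalarTower A A' K'] [IsScalarTower A K K']

include A' in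
/-- `A' ∩ K = A`. -/
theorem mem_of_mem (c : K) (a' : A') (h : algebraMap K K' c = algebraMap A' K' a') :
    ∃ a : A, algebraMap A K a = c := by
  rcases ValuationRing.isInteger_or_isInteger A c with ⟨a, ha⟩ | ⟨b, hb⟩
  · exact ⟨a, ha⟩
  by_cases hc0 : c = 0
  · exact ⟨0, by rw [map_zero, hc0]⟩
  have h1 : algebraMap A' K' (a' * algebraMap A A' b) = 1 := by
    rw [map_mul, ← h, ← IsScalarTower.algebraMap_apply A A' K',
      IsScalarTower.algebraMap_apply A K K', hb, ← map_mul, mul_inv_cancel₀ hc0, map_one]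
  have h2 : a' * algebraMap A A' b = 1 :=
    IsFractionRing.injective A' K' (by rw [h1, map_one])
  have h3 : IsUnit (algebraMap A A' b) := .of_mul_eq_one_right a' h2
  have h4 : IsUnit b := isUnit_of_map_unit (algebraMap A A') b h3
  obtain ⟨v, rfl⟩ := h4
  refine ⟨(↑v⁻¹ : A), ?_⟩
  have h5 : algebraMap A K (↑v⁻¹ : A) * algebraMap A K (v : A) = 1 := by
    rw [← map_mul, Units.inv_mul, map_one]
  rw [hb] at h5
  have := eq_inv_of_mul_eq_one_left h5
  rw [inv_inv] at this
  exact this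

include A' in
/-- Descent of integrality along `A → A'`: if `1 ⊗ y` is a root in `K' ⊗[K] L` of a monic
polynomial with coefficients in `A'`, then `y` is integral over `A`. -/
theorem isIntegral_of_tmul (y : L) (p : A'[X]) (hp : p.Monic)
    (hpy : aeval ((1 : K') ⊗ₜ[K] y) (p.map (algebraMap A' K')) = 0) : IsIntegral A y := by
  classical
  have hyK : IsIntegral K y := Algebra.IsIntegral.isIntegral y
  obtain ⟨μ, hμdef⟩ : ∃ μ : K[X], μ = minpoly K y := ⟨_, rfl⟩
  have hμ : μ.Monic := hμdef ▸ minpoly.monic hyK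
  have hμy : aeval y μ = 0 := hμdef ▸ minpoly.aeval K y
  obtain ⟨μ', hμ'def⟩ : ∃ μ' : K'[X], μ' = μ.map (algebraMap K K') := ⟨_, rfl⟩
  have hμ' : μ'.Monic := hμ'def ▸ hμ.map _
  have hμ'y : aeval ((1 : K') ⊗ₜ[K] y) μ' = 0 := by
    rw [hμ'def, aeval_map_algebraMap]
    have : ((1 : K') ⊗ₜ[K] y) = (Algebra.TensorProduct.includeRight : L →ₐ[K] K' ⊗[K] L) y := rfl
    rw [this, aeval_algHom_apply, hμy, map_zero]
  -- the remainder vanishes
  obtain ⟨r, hrdef⟩ : ∃ r : K'[X], r = (p.map (algebraMap A' K')) %ₘ μ' := ⟨_, rfl⟩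
  have hdecomp : r + μ' * ((p.map (algebraMap A' K')) /ₘ μ') = p.map (algebraMap A' K') :=
    hrdef ▸ modByMonic_add_div _ μ'
  have hry : aeval ((1 : K') ⊗ₜ[K] y) r = 0 := by
    have := hpy
    rw [← hdecomp, map_add, map_mul, hμ'y, zero_mul, add_zero] at this
    exact this
  have hdμ : μ'.natDegree = μ.natDegree := by
    rw [hμ'def]; exact hμ.natDegree_map _
  have hr0 : r = 0 := by
    by_contra hr0
    have hdeg : r.natDegree < μ.natDegree := by
      rw [← hdμ]
      have h1 : r.degree < μ'.degree := hrdef ▸ degree_modByMonic_lt _ hμ'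
      exact natDegree_lt_natDegree hr0 h1
    have hli := Module.Flat.linearIndependent_one_tmul (R := K) (S := K') (M := L)
      (hμdef ▸ linearIndependent_pow (K := K) y)
    rw [aeval_eq_sum_range' hdeg, Finset.sum_range] at hry
    have hsum : ∑ i : Fin μ.natDegree, r.coeff (i : ℕ) • ((1 : K') ⊗ₜ[K] (y ^ (i : ℕ))) = 0 := by
      rw [← hry]
      refine Finset.sum_congr rfl fun i _ => ?_
      rw [Algebra.TensorProduct.tmul_pow, one_pow]
    have hcoeff := Fintype.linearIndependent_iff.mp hli (fun i => r.coeff (i : ℕ)) hsum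
    apply hr0
    ext i
    by_cases hi : i < μ.natDegree
    · exact hcoeff ⟨i, hi⟩
    · rw [coeff_zero]
      exact coeff_eq_zero_of_natDegree_lt (lt_of_lt_of_le hdeg (not_lt.mp hi))
  have hdvd : μ' ∣ p.map (algebraMap A' K') := by
    rw [← hdecomp, hr0, zero_add]
    exact dvd_mul_right _ _
  haveI : IsIntegrallyClosed A' := inferInstance
  obtain ⟨g', hg'⟩ := IsIntegrallyClosed.eq_map_mul_C_of_dvd K' hp hdvd
  rw [hμ'.leadingCoeff, map_one, mul_one] at hg'
  -- the coefficients of `μ` lie in `A`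
  have hlifts : μ ∈ lifts (algebraMap A K) := by
    rw [lifts_iff_coeff_lifts]
    intro i
    have h1 : algebraMap K K' (μ.coeff i) = algebraMap A' K' (g'.coeff i) := by
      have := congrArg (fun q => q.coeff i) hg'
      simp only [coeff_map, hμ'def] at this
      exact this.symm
    obtain ⟨a, ha⟩ := mem_of_mem A K A' K' (μ.coeff i) (g'.coeff i) h1
    exact ⟨a, ha⟩
  obtain ⟨q, hqmap, -, hqmonic⟩ := lifts_and_degree_eq_and_monic hlifts hμ
  refine ⟨q, hqmonic, ?_⟩
  rw [← aeval_def, ← aeval_map_algebraMap K, hqmap, hμy]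

end descent


section main

variable (A K L A' K' : Type u) [CommRing A] [IsDomain A] [ValuationRing A] [Field K] [Algebra A K]
  [IsFractionRing A K] [Field L] [Algebra K L] [FiniteDimensional K L] [Algebra A L]
  [IsScalarTower A K L]
  [CommRing A'] [IsDomain A'] [ValuationRing A'] [Field K'] [Algebra A' K'] [IsFractionRing A' K']
  [Algebra A A'] [IsLocalHom (algebraMap A A')] [Algebra K K'] [Algebra A K']
  [IsScalarTower A A' K'] [IsScalarTower A K K']

set_option maxHeartbeats 800000 in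
theorem main (hdense : ∀ a' b' : A', b' ≠ 0 → ∃ a : A, b' ∣ a' - algebraMap A A' a)
    (x : (K' ⊗[K] L) ⧸ nilradical (K' ⊗[K] L))
    (hx : ((Ideal.Quotient.mk (nilradical (K' ⊗[K] L))).comp
      ((Algebra.TensorProduct.includeLeft : K' →ₐ[K] K' ⊗[K] L).toRingHom.comp
        (algebraMap A' K'))).IsIntegralElem x) :
    ∃ (n : ℕ) (a : Fin n → A') (l : Fin n → L), (∀ i, IsIntegral A (l i)) ∧
      x = Ideal.Quotient.mk (nilradical (K' ⊗[K] L)) (∑ i, algebraMap A' K' (a i) ⊗ₜ[K] l i) := by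
  classical
  obtain ⟨t, rfl⟩ := Ideal.Quotient.mk_surjective x
  obtain ⟨s, y, hs, rfl⟩ := exists_good_add A K L A' K' hdense t
  obtain ⟨φ₀, hφ₀⟩ : ∃ φ₀ : A' →+* K' ⊗[K] L, φ₀ =
    (Algebra.TensorProduct.includeLeft : K' →ₐ[K] K' ⊗[K] L).toRingHom.comp (algebraMap A' K') :=
    ⟨_, rfl⟩
  rw [← hφ₀] at hx
  letI : Algebra A' ((K' ⊗[K] L) ⧸ nilradical (K' ⊗[K] L)) :=
    ((Ideal.Quotient.mk (nilradical (K' ⊗[K] L))).comp φ₀).toAlgebra
  have hx' : IsIntegral A' (Ideal.Quotient.mk (nilradical (K' ⊗[K] L)) (s + 1 ⊗ₜ[K] y)) := hx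
  -- integrality of `mk (1 ⊗ l)`
  have hcompat : (algebraMap A' ((K' ⊗[K] L) ⧸ nilradical (K' ⊗[K] L))).comp (algebraMap A A') =
      ((Ideal.Quotient.mk (nilradical (K' ⊗[K] L))).comp
        (Algebra.TensorProduct.includeRight : L →ₐ[K] K' ⊗[K] L).toRingHom).comp
          (algebraMap A L) := by
    ext a
    show Ideal.Quotient.mk _ (φ₀ (algebraMap A A' a)) = Ideal.Quotient.mk _ ((1 : K') ⊗ₜ[K] algebraMap A L a)
    congr 1
    rw [hφ₀]
    show (algebraMap A' K' (algebraMap A A' a)) ⊗ₜ[K] (1 : L) = (1 : K') ⊗ₜ[K] algebraMap A L a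
    rw [← IsScalarTower.algebraMap_apply A A' K', IsScalarTower.algebraMap_apply A K K',
      IsScalarTower.algebraMap_apply A K L, Algebra.algebraMap_eq_smul_one (algebraMap A K a),
      Algebra.algebraMap_eq_smul_one (A := L) (algebraMap A K a), TensorProduct.smul_tmul]
  have hint1 : ∀ l : L, IsIntegral A l →
      IsIntegral A' (Ideal.Quotient.mk (nilradical (K' ⊗[K] L)) ((1 : K') ⊗ₜ[K] l)) := fun l hl =>
    hl.map_of_comp_eq (algebraMap A A')
      ((Ideal.Quotient.mk (nilradical (K' ⊗[K] L))).comp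
        (Algebra.TensorProduct.includeRight : L →ₐ[K] K' ⊗[K] L).toRingHom) hcompat
  have hs_int : IsIntegral A' (Ideal.Quotient.mk (nilradical (K' ⊗[K] L)) s) := by
    obtain ⟨n, a, l, hl, rfl⟩ := hs
    rw [map_sum]
    refine IsIntegral.sum _ fun i _ => ?_
    have : Ideal.Quotient.mk (nilradical (K' ⊗[K] L)) (algebraMap A' K' (a i) ⊗ₜ[K] l i) =
        algebraMap A' _ (a i) * Ideal.Quotient.mk (nilradical (K' ⊗[K] L)) ((1 : K') ⊗ₜ[K] l i) := by
      show _ = Ideal.Quotient.mk _ (φ₀ (a i)) * _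
      rw [← map_mul, hφ₀]
      congr 1
      show _ = ((algebraMap A' K' (a i)) ⊗ₜ[K] (1 : L)) * ((1 : K') ⊗ₜ[K] l i)
      rw [Algebra.TensorProduct.tmul_mul_tmul, mul_one, one_mul]
    rw [this]
    exact IsIntegral.mul isIntegral_algebraMap (hint1 _ (hl i))
  have hy_int : IsIntegral A' (Ideal.Quotient.mk (nilradical (K' ⊗[K] L)) ((1 : K') ⊗ₜ[K] y)) := by
    have := hx'.sub hs_int
    rwa [map_add, add_sub_cancel_left] at this
  -- lift the equation to `K' ⊗ L`
  obtain ⟨p, hp, hpe⟩ := hy_int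
  have h1 : Ideal.Quotient.mk (nilradical (K' ⊗[K] L)) (eval₂ φ₀ ((1 : K') ⊗ₜ[K] y) p) = 0 := by
    rw [hom_eval₂]; exact hpe
  rw [Ideal.Quotient.eq_zero_iff_mem, mem_nilradical] at h1
  obtain ⟨N, hN⟩ := h1
  rw [← eval₂_pow] at hN
  have h2 : aeval ((1 : K') ⊗ₜ[K] y) ((p ^ N).map (algebraMap A' K')) = 0 := by
    rw [aeval_def, eval₂_map]
    rw [hφ₀] at hN
    exact hN
  have hyint : IsIntegral A y := isIntegral_of_tmul A K L A' K' y (p ^ N) (hp.pow N) h2
  -- conclude
  have hgood : Good A K L A' K' (s + 1 ⊗ₜ[K] y) := by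
    refine good_add A K L A' K' hs ?_
    have := good_tmul A K L A' K' (1 : A') y hyint
    rwa [map_one] at this
  obtain ⟨n, a, l, hl, hsum⟩ := hgood
  exact ⟨n, a, l, hl, by rw [hsum]⟩

end main

end Groth.Agent.Lib.DenseValH8
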