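import Mathlib.RingTheory.Ideal.AssociatedPrime.Finiteness
import Mathlib.RingTheory.Regular.IsSMulRegular
import Mathlib.RingTheory.Nakayama
import Mathlib.RingTheory.Jacobson.Ideal
import Mathlib.RingTheory.LocalRing.ResidueField.Basic

/-!
# Depth zero: the maximal ideal is an associated prime iff it consists of zero divisors
-/

set_option autoImplicit false
universe u v

namespace Groth.Agent.Lib.DepthZero_helper9

variable (A : Type u) [CommRing A] [IsLocalRing A] [IsNoetherianRing A]
variable (N : Type v) [AddCommGroup N] [Module A N] [Module.Finite A N]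

theorem forall_not_isSMulRegular_iff_mem_associatedPrimes :
    (∀ x ∈ IsLocalRing.maximalIdeal A, ¬ IsSMulRegular N x) ↔
      IsLocalRing.maximalIdeal A ∈ associatedPrimes A N := by
  classical
  set 𝔪 := IsLocalRing.maximalIdeal A with h𝔪
  constructor
  · intro h
    have hfin : (associatedPrimes A N).Finite := associatedPrimes.finite A N
    have hsub : ((𝔪 : Ideal A) : Set A) ⊆
        ⋃ i ∈ (↑hfin.toFinset : Set (Ideal A)), ((id i : Ideal A) : Set A) := by
      intro x hx
      have hnr := h x hx
      have : x ∈ ⋃ p ∈ associatedPrimes A N, (p : Set A) := by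
        rw [biUnion_associatedPrimes_eq_compl_regular A N]
        exact hnr
      simp only [Set.mem_iUnion] at this ⊢
      obtain ⟨p, hp, hxp⟩ := this
      exact ⟨p, by simpa using hp, hxp⟩
    obtain ⟨p, hp, h1⟩ := (Ideal.subset_union_prime (f := id) (⊥ : Ideal A) (⊥ : Ideal A)
      (fun i hi _ _ => by
        rw [Set.Finite.mem_toFinset] at hi
        exact hi.isPrime)).mp hsub
    rw [Set.Finite.mem_toFinset] at hp
    have hple : p ≤ 𝔪 := IsLocalRing.le_maximalIdeal hp.isPrime.ne_top
    have : p = 𝔪 := le_antisymm hple h1
    rw [← this]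
    exact hp
  · intro h x hx hreg
    obtain ⟨_, n, hn⟩ := isAssociatedPrime_iff.mp h
    have hn0 : n ≠ 0 := by
      rintro rfl
      have : (1 : A) ∈ 𝔪 := by
        rw [hn, Submodule.mem_colon_singleton]
        simp
      exact (Ideal.ne_top_iff_one _).mp (IsLocalRing.maximalIdeal.isMaximal A).ne_top this
    have hxn : x • n = 0 := by
      have : x ∈ (⊥ : Submodule A N).colon {n} := hn ▸ hx
      rw [Submodule.mem_colon_singleton] at this
      exact this
    exact hn0 (hreg (by change x • n = x • 0; rw [hxn, smul_zero]))

end Groth.Agent.Lib.DepthZero_helper9
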