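import Mathlib
import Groth.Prelude
import Groth.Agent.Lib.QCohCrit2_helper9

/-!
# Gluing morphisms of modules from a basis; morphisms out of a quasi-coherent module on an affine
scheme are determined by global sections (helper7)
APPEND-ONLY once landed.
-/

set_option autoImplicit false
set_option linter.style.haveILetI false

universe u

noncomputable section

open CategoryTheory CategoryTheory.Limits AlgebraicGeometry Opposite TopologicalSpace

namespace Groth.Agent.Lib.GlueHomH7

section Basis

variable {X : Scheme.{u}}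

/-- Two sections agreeing on all members of a basis contained in the open are equal. -/
theorem eq_of_forall_basis (F : X.Modules) {ι : Type u} (Bs : ι → X.Opens)
    (hB : Opens.IsBasis (Set.range Bs)) {O : X.Opens} (s t : Γ(F, O))
    (h : ∀ (i : ι) (hi : Bs i ≤ O),
      F.presheaf.map (homOfLE hi).op s = F.presheaf.map (homOfLE hi).op t) : s = t := by
  refine TopCat.Sheaf.eq_of_locally_eq' ⟨F.presheaf, F.isSheaf⟩
    (fun i : {i : ι // Bs i ≤ O} => Bs i.1) O (fun i => homOfLE i.2) ?_ s t ?_
  · intro x hx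
    obtain ⟨_, ⟨i, rfl⟩, hxi, hiO⟩ := (Opens.isBasis_iff_nbhd.mp hB) hx
    exact Opens.mem_iSup.mpr ⟨⟨i, hiO⟩, hxi⟩
  · intro i
    exact h i.1 i.2

/-- Two morphisms of modules agreeing on the sections over a basis are equal. -/
theorem hom_ext_basis {M N : X.Modules} {ι : Type u} (Bs : ι → X.Opens)
    (hB : Opens.IsBasis (Set.range Bs)) (u v : M ⟶ N)
    (h : ∀ (i : ι) (m : Γ(M, Bs i)), u.app (Bs i) m = v.app (Bs i) m) : u = v := by
  refine Scheme.Modules.hom_ext _ _ fun O => ?_
  ext x
  refine eq_of_forall_basis N Bs hB _ _ fun i hi => ?_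
  have n1 := QCohCrit.app_naturality u (homOfLE hi) x
  have n2 := QCohCrit.app_naturality v (homOfLE hi) x
  exact n1.symm.trans ((h i _).trans n2)

/-- **Gluing**: a family of linear maps on the sections over a basis, compatible with
restrictions, is induced by a unique morphism of modules. -/
theorem glue_hom (M N : X.Modules) {ι : Type u} (Bs : ι → X.Opens)
    (hB : Opens.IsBasis (Set.range Bs))
    (α : ∀ i, Γ(M, Bs i) →+ Γ(N, Bs i))
    (hlin : ∀ (i : ι) (r : Γ(X, Bs i)) (m : Γ(M, Bs i)), α i (r • m) = r • α i m)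
    (hnat : ∀ (i j : ι) (e : Bs j ≤ Bs i) (m : Γ(M, Bs i)),
      α j (M.presheaf.map (homOfLE e).op m) = N.presheaf.map (homOfLE e).op (α i m)) :
    ∃ u : M ⟶ N, ∀ (i : ι) (m : Γ(M, Bs i)), u.app (Bs i) m = α i m := by
  let nt : (inducedFunctor Bs).op ⋙ M.presheaf ⟶ (inducedFunctor Bs).op ⋙ N.presheaf :=
    { app := fun i => AddCommGrpCat.ofHom (α i.unop)
      naturality := fun i j g => by
        ext x
        exact hnat i.unop j.unop g.unop.hom.le x }
  let φ : M.presheaf ⟶ N.presheaf :=
    TopCat.Sheaf.restrictHomEquivHom M.presheaf ⟨N.presheaf, N.isSheaf⟩ hB nt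
  have hφ : ∀ (i : ι) (x : Γ(M, Bs i)), φ.app (op (Bs i)) x = α i x := by
    intro i x
    have h1 := TopCat.Sheaf.extend_hom_app M.presheaf ⟨N.presheaf, N.isSheaf⟩ hB nt i
    exact congrArg (fun k => k.hom x) h1
  have hnatφ : ∀ {O O' : X.Opens} (e : O' ≤ O) (x : Γ(M, O)),
      N.presheaf.map (homOfLE e).op (φ.app (op O) x) =
        φ.app (op O') (M.presheaf.map (homOfLE e).op x) :=
    fun e x => (NatTrans.naturality_apply φ (homOfLE e).op x).symm
  have hlinφ : ∀ (O : X.Opens) (r : Γ(X, O)) (m : Γ(M, O)),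
      φ.app (op O) (r • m) = r • φ.app (op O) m := by
    intro O r m
    refine eq_of_forall_basis N Bs hB _ _ fun i hi => ?_
    have e1 := hnatφ hi (r • m)
    have e2 := Scheme.Modules.map_smul M (homOfLE hi) r m
    have e3 := hφ i (X.presheaf.map (homOfLE hi).op r • M.presheaf.map (homOfLE hi).op m)
    have e4 := hlin i (X.presheaf.map (homOfLE hi).op r) (M.presheaf.map (homOfLE hi).op m)
    have e5 := hφ i (M.presheaf.map (homOfLE hi).op m)
    have e6 := hnatφ hi m
    have e7 := Scheme.Modules.map_smul N (homOfLE hi) r (φ.app (op O) m)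
    exact e1.trans ((congrArg (fun z => φ.app (op (Bs i)) z) e2).trans (e3.trans (e4.trans
      ((congrArg (fun z => X.presheaf.map (homOfLE hi).op r • z) (e5.symm.trans e6.symm)).trans
        e7.symm))))
  let u : M ⟶ N :=
    ⟨PresheafOfModules.homMk (M₁ := M.val) (M₂ := N.val) φ (fun U r m => hlinφ U.unop r m)⟩
  exact ⟨u, fun i m => hφ i m⟩

end Basis

section Loc

open RelFPKit

variable {A A' : Type u} [CommRing A] [CommRing A'] {ρ : A →+* A'} {a : A}
  {M M' : Type u} [AddCommGroup M] [Module A M] [AddCommGroup M'] [Module A' M'] {l : M →+ M'}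

/-- Extension of a semilinear map to the localization. -/
theorem loc_lift (h : LocData ρ a l) {T : Type u} [AddCommGroup T] [Module A' T]
    (g : M →+ T) (hg : ∀ (x : A) (m : M), g (x • m) = ρ x • g m) :
    ∃ k : M' →+ T, (∀ (x' : A') (m' : M'), k (x' • m') = x' • k m') ∧ ∀ m, k (l m) = g m := by
  letI algA' : Algebra A A' := ρ.toAlgebra
  haveI : IsLocalization.Away a A' := h.isLoc
  letI modAM' : Module A M' := Module.compHom M' ρ
  haveI : IsScalarTower A A' M' := IsScalarTower.of_algebraMap_smul (fun _ _ => rfl)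
  letI modAT : Module A T := Module.compHom T ρ
  haveI : IsScalarTower A A' T := IsScalarTower.of_algebraMap_smul (fun _ _ => rfl)
  let lA : M →ₗ[A] M' := { toFun := l, map_add' := l.map_add, map_smul' := h.smul }
  haveI : IsLocalizedModule (Submonoid.powers a) lA := by
    refine ⟨?_, ?_, ?_⟩
    · rintro ⟨x, n, rfl⟩
      rw [Module.End.isUnit_iff]
      have hu : IsUnit (ρ (a ^ n)) := by
        rw [map_pow]
        exact (IsLocalization.Away.algebraMap_isUnit (S := A') a).pow n
      obtain ⟨u, hu⟩ := hu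
      have : (fun m' : M' => (algebraMap A (Module.End A M') (a ^ n)) m') = fun m' => u • m' := by
        funext m'
        show ρ (a ^ n) • m' = u • m'
        rw [← hu]; rfl
      show Function.Bijective (fun m' : M' => (algebraMap A (Module.End A M') (a ^ n)) m')
      rw [this]
      exact MulAction.bijective u
    · intro y
      obtain ⟨n, m, hnm⟩ := h.surj y
      refine ⟨(m, ⟨a ^ n, n, rfl⟩), ?_⟩
      show ρ (a ^ n) • y = l m
      rw [map_pow]; exact hnm
    · intro x₁ x₂ hx
      have h0 : l (x₁ - x₂) = 0 := by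
        rw [map_sub]; exact sub_eq_zero.mpr hx
      obtain ⟨n, hn⟩ := h.ker _ h0
      refine ⟨⟨a ^ n, n, rfl⟩, ?_⟩
      show a ^ n • x₁ = a ^ n • x₂
      rw [smul_sub] at hn
      exact sub_eq_zero.mp hn
  let gA : M →ₗ[A] T := { toFun := g, map_add' := g.map_add, map_smul' := hg }
  have hunit : ∀ x : Submonoid.powers a, IsUnit ((algebraMap A (Module.End A T)) x) := by
    rintro ⟨x, n, rfl⟩
    rw [Module.End.isUnit_iff]
    have hu : IsUnit (ρ (a ^ n)) := by
      rw [map_pow]
      exact (IsLocalization.Away.algebraMap_isUnit (S := A') a).pow n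
    obtain ⟨u, hu⟩ := hu
    have : (fun t : T => (algebraMap A (Module.End A T) (a ^ n)) t) = fun t => u • t := by
      funext t
      show ρ (a ^ n) • t = u • t
      rw [← hu]; rfl
    show Function.Bijective (fun t : T => (algebraMap A (Module.End A T) (a ^ n)) t)
    rw [this]
    exact MulAction.bijective u
  let k0 : M' →ₗ[A] T := IsLocalizedModule.lift (Submonoid.powers a) lA gA hunit
  have hk0 : ∀ m, k0 (lA m) = gA m := fun m =>
    IsLocalizedModule.lift_apply (Submonoid.powers a) lA gA hunit m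
  let k1 : M' →ₗ[A'] T := LinearMap.extendScalarsOfIsLocalization (Submonoid.powers a) A' k0
  exact ⟨k1.toAddMonoidHom, fun x' m' => k1.map_smul x' m', fun m => hk0 m⟩

/-- Uniqueness of semilinear maps out of a localization. -/
theorem loc_unique (h : LocData ρ a l) {C : Type u} [CommRing C] (σ : A' →+* C) {T : Type u}
    [AddCommGroup T] [Module C T] (k1 k2 : M' →+ T)
    (h1 : ∀ (x' : A') (m' : M'), k1 (x' • m') = σ x' • k1 m')
    (h2 : ∀ (x' : A') (m' : M'), k2 (x' • m') = σ x' • k2 m')
    (hk : ∀ m, k1 (l m) = k2 (l m)) (m' : M') : k1 m' = k2 m' := by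
  have hu : IsUnit (ρ a) := by
    letI := ρ.toAlgebra
    haveI : IsLocalization.Away a A' := h.isLoc
    exact IsLocalization.Away.algebraMap_isUnit a
  obtain ⟨n, m, hnm⟩ := h.surj m'
  have hu' : IsUnit (σ (ρ a ^ n)) := (hu.pow n).map σ
  have e1 : σ (ρ a ^ n) • k1 m' = σ (ρ a ^ n) • k2 m' := by
    rw [← h1, ← h2, hnm, hk]
  exact hu'.smul_left_cancel.mp e1

end Loc

section Affine

variable {X : Scheme.{u}} [IsAffine X] (P G : X.Modules) [P.IsQuasicoherent]

theorem exists_local (ub : Γ(P, ⊤) →+ Γ(G, ⊤))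
    (hub : ∀ (b : Γ(X, ⊤)) (z : Γ(P, ⊤)), ub (b • z) = b • ub z) (a : Γ(X, ⊤)) :
    ∃ k : Γ(P, X.basicOpen a) →+ Γ(G, X.basicOpen a),
      (∀ (r : Γ(X, X.basicOpen a)) (m : Γ(P, X.basicOpen a)), k (r • m) = r • k m) ∧
      ∀ z : Γ(P, ⊤), k (P.presheaf.map (homOfLE (X.basicOpen_le a)).op z) =
        G.presheaf.map (homOfLE (X.basicOpen_le a)).op (ub z) := by
  have hL := QCohCrit.locOnU_of_isQuasicoherent P (isAffineOpen_top X) a
  let g : Γ(P, ⊤) →+ Γ(G, X.basicOpen a) :=
    (G.presheaf.map (homOfLE (X.basicOpen_le a)).op).hom.comp ub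
  have hg : ∀ (x : Γ(X, ⊤)) (m : Γ(P, ⊤)),
      g (x • m) = (X.presheaf.map (homOfLE (X.basicOpen_le a)).op).hom x • g m := by
    intro x m
    show G.presheaf.map (homOfLE (X.basicOpen_le a)).op (ub (x • m)) = _
    rw [hub]
    exact Scheme.Modules.map_smul G (homOfLE (X.basicOpen_le a)) x (ub m)
  exact loc_lift hL g hg

/-- **Morphisms out of a quasi-coherent module on an affine scheme**: every linear map on global
sections is induced by a morphism of modules. -/
theorem homOfGlobal (ub : Γ(P, ⊤) →+ Γ(G, ⊤))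
    (hub : ∀ (b : Γ(X, ⊤)) (z : Γ(P, ⊤)), ub (b • z) = b • ub z) :
    ∃ u : P ⟶ G, ∀ z : Γ(P, ⊤), u.app ⊤ z = ub z := by
  choose k hk1 hk2 using exists_local P G ub hub
  have hB := isBasis_basicOpen X
  have hnat : ∀ (a b : Γ(X, ⊤)) (e : X.basicOpen b ≤ X.basicOpen a)
      (m : Γ(P, X.basicOpen a)),
      k b (P.presheaf.map (homOfLE e).op m) = G.presheaf.map (homOfLE e).op (k a m) := by
    intro a b e m
    have hL := QCohCrit.locOnU_of_isQuasicoherent P (isAffineOpen_top X) a
    let σ : Γ(X, X.basicOpen a) →+* Γ(X, X.basicOpen b) := (X.presheaf.map (homOfLE e).op).hom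
    let k1 : Γ(P, X.basicOpen a) →+ Γ(G, X.basicOpen b) :=
      (k b).comp (P.presheaf.map (homOfLE e).op).hom
    let k2 : Γ(P, X.basicOpen a) →+ Γ(G, X.basicOpen b) :=
      (G.presheaf.map (homOfLE e).op).hom.comp (k a)
    refine loc_unique hL σ k1 k2 ?_ ?_ ?_ m
    · intro x' m'
      show k b (P.presheaf.map (homOfLE e).op (x' • m')) = _
      have e1 := Scheme.Modules.map_smul P (homOfLE e) x' m'
      exact (congrArg (k b) e1).trans (hk1 b _ _)
    · intro x' m'
      show G.presheaf.map (homOfLE e).op (k a (x' • m')) = _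
      rw [hk1]
      exact Scheme.Modules.map_smul G (homOfLE e) x' (k a m')
    · intro z
      show k b (P.presheaf.map (homOfLE e).op
          (P.presheaf.map (homOfLE (X.basicOpen_le a)).op z)) =
        G.presheaf.map (homOfLE e).op (k a (P.presheaf.map (homOfLE (X.basicOpen_le a)).op z))
      have r1 : P.presheaf.map (homOfLE e).op
          (P.presheaf.map (homOfLE (X.basicOpen_le a)).op z) =
          P.presheaf.map (homOfLE (X.basicOpen_le b)).op z := OmegaSh.resM_resM _ _ z
      have r2 : G.presheaf.map (homOfLE e).op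
          (G.presheaf.map (homOfLE (X.basicOpen_le a)).op (ub z)) =
          G.presheaf.map (homOfLE (X.basicOpen_le b)).op (ub z) := OmegaSh.resM_resM _ _ (ub z)
      rw [hk2 a z, r1, r2, hk2 b z]
  obtain ⟨u, hu⟩ := glue_hom P G (fun a : Γ(X, ⊤) => X.basicOpen a) hB k hk1 hnat
  refine ⟨u, fun z => ?_⟩
  refine eq_of_forall_basis G (fun a : Γ(X, ⊤) => X.basicOpen a) hB _ _ fun a ha => ?_
  have n1 := QCohCrit.app_naturality u (homOfLE ha) z
  have n2 := hu a (P.presheaf.map (homOfLE ha).op z)
  exact n1.symm.trans (n2.trans (hk2 a z))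

/-- A morphism out of a quasi-coherent module on an affine scheme is determined by its effect on
global sections. -/
theorem hom_ext_global (u v : P ⟶ G) (h : ∀ z : Γ(P, ⊤), u.app ⊤ z = v.app ⊤ z) : u = v := by
  refine hom_ext_basis (fun a : Γ(X, ⊤) => X.basicOpen a) (isBasis_basicOpen X) u v
    fun a m => ?_
  have hL := QCohCrit.locOnU_of_isQuasicoherent P (isAffineOpen_top X) a
  refine loc_unique hL (RingHom.id _) (u.app (X.basicOpen a)).hom (v.app (X.basicOpen a)).hom
    ?_ ?_ ?_ m
  · intro x' m'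
    exact Scheme.Modules.Hom.app_smul u x' m'
  · intro x' m'
    exact Scheme.Modules.Hom.app_smul v x' m'
  · intro z
    have n1 := QCohCrit.app_naturality u (homOfLE (X.basicOpen_le a)) z
    have n2 := QCohCrit.app_naturality v (homOfLE (X.basicOpen_le a)) z
    exact n1.trans ((congrArg (fun y => G.presheaf.map (homOfLE (X.basicOpen_le a)).op y)
      (h z)).trans n2.symm)

end Affine

end Groth.Agent.Lib.GlueHomH7
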