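import Mathlib
import Groth.Prelude
import Groth.Agent.Lib.GlueHom_helper7
import Groth.Agent.Lib.OmegaUniv2_helper4

/-!
# Derivations on affine schemes are determined by global sections (helper7)
APPEND-ONLY once landed.
-/

set_option autoImplicit false
set_option linter.style.haveILetI false

universe u

noncomputable section

open CategoryTheory CategoryTheory.Limits AlgebraicGeometry Opposite TopologicalSpace

namespace Groth.Agent.Lib.DerAffH7

open Groth.Agent.Lib.GlueHomH7 Groth.Agent.Lib.OmegaUniv2H4 Groth.Agent.Lib.OmegaUnivH4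

section Aff

variable {X S : Scheme.{u}} [IsAffine X] [IsAffine S] (f : X ⟶ S) (F : X.Modules)

theorem small_top : Small f (⊤ : X.Opens) :=
  ⟨isAffineOpen_top X, ⊤, isAffineOpen_top S, le_of_eq rfl⟩

theorem inj9369 : Function.Injective (fun D : OmegaSh.Der f F => D.app ⊤) := by
  intro D1 D2 h
  have h' : ∀ b : Γ(X, ⊤), D1.app ⊤ b = D2.app ⊤ b := fun b => DFunLike.congr_fun h b
  obtain ⟨α1, hα1⟩ := exists_lift f F D1
  obtain ⟨α2, hα2⟩ := exists_lift f F D2
  haveI : (Omega.sheaf f).IsQuasicoherent := Groth.Agent.Lib.OmegaFittH4.isQuasicoherent_omega f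
  have hα : α1 = α2 := by
    refine hom_ext_global (Omega.sheaf f) F α1 α2 fun z => ?_
    let l1 : Γ(Omega.sheaf f, ⊤) →ₗ[Γ(X, ⊤)] Γ(F, ⊤) :=
      { toFun := fun y => α1.app ⊤ y
        map_add' := fun y z => map_add (α1.app ⊤).hom y z
        map_smul' := fun r y => Scheme.Modules.Hom.app_smul α1 r y }
    let l2 : Γ(Omega.sheaf f, ⊤) →ₗ[Γ(X, ⊤)] Γ(F, ⊤) :=
      { toFun := fun y => α2.app ⊤ y
        map_add' := fun y z => map_add (α2.app ⊤).hom y z
        map_smul' := fun r y => Scheme.Modules.Hom.app_smul α2 r y }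
    have hl : l1 = l2 := LinearMap.ext_on (span_dSect f (small_top f)) (by
      rintro _ ⟨b, rfl⟩
      exact (hα1 ⊤ b).trans ((h' b).trans (hα2 ⊤ b).symm))
    exact congrArg (fun l : Γ(Omega.sheaf f, ⊤) →ₗ[Γ(X, ⊤)] Γ(F, ⊤) => l z) hl
  refine PresheafOfModules.Derivation.ext ?_
  funext U
  refine AddMonoidHom.ext fun s => ?_
  exact (hα1 U.unop s).symm.trans ((congrArg (fun α : Omega.sheaf f ⟶ F =>
    α.app U.unop (OmegaSh.dSect f U.unop s)) hα).trans (hα2 U.unop s))

theorem exists9369 (δ : Γ(X, ⊤) →+ Γ(F, ⊤))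
    (hmul : ∀ a b : Γ(X, ⊤), δ (a * b) = a • δ b + b • δ a)
    (hbase : ∀ c : Γ(S, ⊤), δ (f.appTop c) = 0) :
    ∃ D : OmegaSh.Der f F, D.app ⊤ = δ := by
  haveI : (Omega.sheaf f).IsQuasicoherent := Groth.Agent.Lib.OmegaFittH4.isQuasicoherent_omega f
  have h : (⊤ : X.Opens) ≤ f ⁻¹ᵁ ⊤ := le_of_eq rfl
  have happ : f.appLE ⊤ ⊤ h = f.appTop := f.appLE_eq_app
  letI algRC : Algebra Γ(S, ⊤) Γ(X, ⊤) := (f.appLE ⊤ ⊤ h).hom.toAlgebra
  letI modF : Module Γ(S, ⊤) Γ(F, ⊤) := Module.compHom _ (f.appLE ⊤ ⊤ h).hom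
  haveI tow : IsScalarTower Γ(S, ⊤) Γ(X, ⊤) Γ(F, ⊤) :=
    IsScalarTower.of_algebraMap_smul fun _ _ => rfl
  obtain ⟨L, hL⟩ := omegaSections' f (isAffineOpen_top X) (isAffineOpen_top S) h
  have hone : δ 1 = 0 := by
    have h1 := hmul 1 1
    rw [one_mul, one_smul] at h1
    have h2 : δ 1 + δ 1 = δ 1 + 0 := by rw [add_zero]; exact h1.symm
    exact add_left_cancel h2
  let δ' : Derivation Γ(S, ⊤) Γ(X, ⊤) Γ(F, ⊤) :=
    { toFun := fun a => δ a
      map_add' := fun a b => map_add δ a b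
      map_smul' := fun c a => by
        show δ ((f.appLE ⊤ ⊤ h).hom c * a) = (f.appLE ⊤ ⊤ h).hom c • δ a
        have hc : δ ((f.appLE ⊤ ⊤ h).hom c) = 0 := by rw [happ]; exact hbase c
        rw [hmul, hc, smul_zero, add_zero]
      map_one_eq_zero' := hone
      leibniz' := fun a b => hmul a b }
  let lin : Γ(Omega.sheaf f, ⊤) →ₗ[Γ(X, ⊤)] Γ(F, ⊤) :=
    δ'.liftKaehlerDifferential.comp L.toLinearMap
  obtain ⟨u, hu⟩ := homOfGlobal (Omega.sheaf f) F lin.toAddMonoidHom
    (fun b z => lin.map_smul b z)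
  refine ⟨(OmegaSh.dOmega f).postcomp u.val, ?_⟩
  refine AddMonoidHom.ext fun b => ?_
  show u.app ⊤ (OmegaSh.dSect f ⊤ b) = δ b
  refine (hu _).trans ?_
  show δ'.liftKaehlerDifferential (L (OmegaSh.dSect f ⊤ b)) = δ b
  rw [hL b, Derivation.liftKaehlerDifferential_comp_D]
  rfl

theorem main9369 : Function.Injective (fun D : OmegaSh.Der f F => D.app ⊤) ∧
      ∀ δ : Γ(X, ⊤) →+ Γ(F, ⊤),
        ((∀ a b : Γ(X, ⊤), δ (a * b) = a • δ b + b • δ a) ∧
          ∀ c : Γ(S, ⊤), δ (f.appTop c) = 0) ↔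
          ∃ D : OmegaSh.Der f F, D.app ⊤ = δ := by
  refine ⟨inj9369 f F, fun δ => ⟨fun h => exists9369 f F δ h.1 h.2, ?_⟩⟩
  rintro ⟨D, rfl⟩
  refine ⟨fun a b => der_mul D ⊤ a b, fun c => ?_⟩
  exact D.d_app (X := op ⊤) c

end Aff

section Spec

variable (A B : Type u) [CommRing A] [CommRing B] [Algebra A B]
    (L : Type u) [AddCommGroup L] [Module B L]

local notation "MB" => ModuleCat.of (CommRingCat.of B) L
local notation "γB" => Scheme.ΓSpecIso (CommRingCat.of B)
local notation "γA" => Scheme.ΓSpecIso (CommRingCat.of A)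
local notation "fAB" => Spec.map (CommRingCat.ofHom (algebraMap A B))

theorem gB_inv_hom (t' : Γ(Spec (CommRingCat.of B), ⊤)) : (γB).inv ((γB).hom t') = t' :=
  congrArg (fun k => k.hom t') (γB).hom_inv_id

theorem gB_hom_inv (t : B) : (γB).hom ((γB).inv t) = t :=
  congrArg (fun k => k.hom t) (γB).inv_hom_id

/-- The identification of `L` with the global sections of `L^~`. -/
def E (l : L) : Γ(tilde MB, ⊤) := (tilde.isoTop MB).hom l

theorem eps_hom_inv (n : Γ(tilde MB, ⊤)) :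
    (tilde.isoTop MB).hom ((tilde.isoTop MB).inv n) = n :=
  congrArg (fun k => k.hom n) (tilde.isoTop MB).inv_hom_id

theorem eps_inv_hom (l : L) : (tilde.isoTop MB).inv ((tilde.isoTop MB).hom l) = l :=
  congrArg (fun k => k.hom l) (tilde.isoTop MB).hom_inv_id

theorem E_add (l l' : L) : E B L (l + l') = E B L l + E B L l' :=
  (tilde.isoTop MB).hom.hom.map_add l l'

theorem E_zero : E B L 0 = 0 := (tilde.isoTop MB).hom.hom.map_zero

theorem E_smul (b : B) (l : L) : E B L (b • l) = (γB).inv b • E B L l :=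
  (tilde.isoTop MB).hom.hom.map_smul b l

theorem E_inj {l l' : L} (h : E B L l = E B L l') : l = l' :=
  (eps_inv_hom B L l).symm.trans
    ((congrArg (fun n => (tilde.isoTop MB).inv n) h).trans (eps_inv_hom B L l'))

theorem E_surj (n : Γ(tilde MB, ⊤)) : ∃ l : L, E B L l = n :=
  ⟨(tilde.isoTop MB).inv n, eps_hom_inv B L n⟩

variable [Module A L] [IsScalarTower A B L]

theorem part1 (D : OmegaSh.Der fAB (tilde MB)) :
    ∃ δ : Derivation A B L, ∀ t : B, D.app ⊤ ((γB).inv t) = E B L (δ t) := by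
  choose g hg using fun t : B => E_surj B L (D.app ⊤ ((γB).inv t))
  have hmul : ∀ a b : B, g (a * b) = a • g b + b • g a := by
    intro a b
    apply E_inj B L
    rw [E_add, E_smul, E_smul, hg, hg, hg]
    have h1 : (γB).inv (a * b) = (γB).inv a * (γB).inv b := map_mul (γB).inv.hom a b
    rw [h1]
    exact der_mul D ⊤ _ _
  have hadd : ∀ a b : B, g (a + b) = g a + g b := by
    intro a b
    apply E_inj B L
    rw [E_add, hg, hg, hg]
    have h1 : (γB).inv (a + b) = (γB).inv a + (γB).inv b := map_add (γB).inv.hom a b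
    rw [h1]
    exact map_add (D.app ⊤) _ _
  have hbase : ∀ a : A, g (algebraMap A B a) = 0 := by
    intro a
    apply E_inj B L
    rw [hg, E_zero]
    have h1 : (γB).inv (algebraMap A B a) = (fAB).appTop ((γA).inv a) :=
      congrArg (fun k => k.hom a)
        (Scheme.ΓSpecIso_inv_naturality (CommRingCat.ofHom (algebraMap A B)))
    rw [h1]
    exact D.d_app (X := op ⊤) ((γA).inv a)
  have hone : g 1 = 0 := by
    have h1 := hbase 1
    rwa [map_one] at h1
  refine ⟨{ toFun := g, map_add' := hadd, map_smul' := fun a t => ?_,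
            map_one_eq_zero' := hone, leibniz' := hmul }, fun t => (hg t).symm⟩
  show g (a • t) = a • g t
  rw [Algebra.smul_def, hmul, hbase, smul_zero, add_zero, algebraMap_smul]

theorem part2 (δ : Derivation A B L) :
    ∃! D : OmegaSh.Der fAB (tilde MB), ∀ t : B, D.app ⊤ ((γB).inv t) = E B L (δ t) := by
  let δ'' : Γ(Spec (CommRingCat.of B), ⊤) →+ Γ(tilde MB, ⊤) :=
    AddMonoidHom.mk' (fun t' => E B L (δ ((γB).hom t'))) (fun a b => by
      have h1 : (γB).hom (a + b) = (γB).hom a + (γB).hom b := map_add (γB).hom.hom a b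
      rw [h1, map_add, E_add])
  have hδ'' : ∀ t', δ'' t' = E B L (δ ((γB).hom t')) := fun _ => rfl
  have hmul : ∀ a b, δ'' (a * b) = a • δ'' b + b • δ'' a := by
    intro a b
    rw [hδ'', hδ'', hδ'']
    have h1 : (γB).hom (a * b) = (γB).hom a * (γB).hom b := map_mul (γB).hom.hom a b
    rw [h1, δ.leibniz, E_add, E_smul, E_smul, gB_inv_hom, gB_inv_hom]
  have hbase : ∀ c : Γ(Spec (CommRingCat.of A), ⊤), δ'' ((fAB).appTop c) = 0 := by
    intro c
    rw [hδ'']
    have h1 : (γB).hom ((fAB).appTop c) = algebraMap A B ((γA).hom c) :=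
      congrArg (fun k => k.hom c)
        (Scheme.ΓSpecIso_naturality (CommRingCat.ofHom (algebraMap A B)))
    rw [h1, δ.map_algebraMap, E_zero]
  obtain ⟨D, hD⟩ := exists9369 fAB (tilde MB) δ'' hmul hbase
  refine ⟨D, fun t => ?_, fun D' hD' => ?_⟩
  · rw [hD, hδ'', gB_hom_inv]
  · refine inj9369 fAB (tilde MB) ?_
    show D'.app ⊤ = D.app ⊤
    refine AddMonoidHom.ext fun t' => ?_
    have e1 := hD' ((γB).hom t')
    rw [gB_inv_hom] at e1
    rw [e1, hD, hδ'']

theorem main5947 :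
    (∀ D : OmegaSh.Der (Spec.map (CommRingCat.ofHom (algebraMap A B)))
        (tilde (ModuleCat.of (CommRingCat.of B) L)),
      ∃ δ : Derivation A B L, ∀ t : B,
        D.app ⊤ ((Scheme.ΓSpecIso (CommRingCat.of B)).inv t) =
        (tilde.isoTop (ModuleCat.of (CommRingCat.of B) L)).hom (δ t)) ∧
    ∀ δ : Derivation A B L,
      ∃! D : OmegaSh.Der (Spec.map (CommRingCat.ofHom (algebraMap A B)))
          (tilde (ModuleCat.of (CommRingCat.of B) L)),
        ∀ t : B, D.app ⊤ ((Scheme.ΓSpecIso (CommRingCat.of B)).inv t) =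
          (tilde.isoTop (ModuleCat.of (CommRingCat.of B) L)).hom (δ t) :=
  ⟨fun D => part1 A B L D, fun δ => part2 A B L δ⟩

end Spec

end Groth.Agent.Lib.DerAffH7
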