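import Mathlib
import Groth.Agent.Lib.DerComp2_helper9

/-!
# Derived complete modules, concretely, part 3 (helper9)
S7042 (bounded torsion), S7044 (henselian).
-/

set_option autoImplicit false
universe u

namespace DerComp9

section Torsion
variable {A : Type u} [CommRing A] {M : Type u} [AddCommGroup M] [Module A M]

theorem bounded_of_torsion_principal {f : A} (h : Conc f M)
    (ht : ∀ m : M, ∃ n, f ^ n • m = 0) : ∃ n, ∀ m : M, f ^ n • m = 0 := by
  classical
  by_contra hcon
  push Not at hcon
  have hsub : ∀ P : ℕ, ∃ m : M, ∀ m' : M, f ^ P • m ≠ f ^ (P + 1) • m' := by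
    intro P
    by_contra hP
    push Not at hP
    have hD : Conc f (LinearMap.range (LinearMap.lsmul A M (f ^ P))) := Conc.range _ h h
    have hdiv : ∀ d : LinearMap.range (LinearMap.lsmul A M (f ^ P)), ∃ d', d = f • d' := by
      rintro ⟨d, m, rfl⟩
      obtain ⟨m', hm'⟩ := hP m
      refine ⟨⟨f ^ P • m', ⟨m', rfl⟩⟩, Subtype.ext ?_⟩
      simp only [LinearMap.lsmul_apply, Submodule.coe_smul]
      rw [hm', pow_succ, mul_smul, smul_comm]
    have hz := Conc.eq_zero_of_divisible hD hdiv
    obtain ⟨m, hm⟩ := hcon P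
    apply hm
    have := hz ⟨f ^ P • m, ⟨m, rfl⟩⟩
    exact congrArg Subtype.val this
  choose e he using hsub
  let pick : ℕ → M → M := fun j s =>
    if (∃ m', f ^ j • s = f ^ (2 * j + 1) • m') then e (2 * j) else 0
  let σ : ℕ → M := fun j => Nat.rec 0 (fun j s => s + f ^ j • pick j s) j
  have hσ : ∀ j, σ (j + 1) = σ j + f ^ j • pick j (σ j) := fun j => rfl
  have hC : ∀ j, ∀ m', f ^ j • σ (j + 1) ≠ f ^ (2 * j + 1) • m' := by
    intro j m' heq
    rw [hσ, smul_add, smul_smul, ← pow_add, ← two_mul] at heq
    by_cases hcase : ∃ m', f ^ j • σ j = f ^ (2 * j + 1) • m'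
    · obtain ⟨m'', hm''⟩ := hcase
      have hp : pick j (σ j) = e (2 * j) := if_pos ⟨m'', hm''⟩
      rw [hp, hm''] at heq
      apply he (2 * j) (m' - m'')
      rw [smul_sub, ← heq]; abel
    · have hp : pick j (σ j) = 0 := if_neg hcase
      rw [hp, smul_zero, add_zero] at heq
      exact hcase ⟨m', heq⟩
  have hσsum : ∀ K, σ K = ∑ k ∈ Finset.range K, f ^ k • pick k (σ k) := by
    intro K
    induction K with
    | zero => simp [σ]
    | succ K ih => rw [Finset.sum_range_succ, ← ih]
  obtain ⟨X, hX⟩ := h.2 (fun k => pick k (σ k))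
  obtain ⟨n, hn⟩ := ht (X 0)
  have h1 := sol_eq_sum X (fun k => pick k (σ k)) hX 0 (n + 1)
  simp only [zero_add] at h1
  rw [← hσsum] at h1
  apply hC n (-(X (n + 1)))
  have h2 : f ^ n • X 0 = f ^ n • σ (n + 1) + f ^ (2 * n + 1) • X (n + 1) := by
    rw [h1, smul_add, smul_smul, ← pow_add]
    congr 2; ring
  rw [hn] at h2
  rw [smul_neg]; exact eq_neg_of_add_eq_zero_left h2.symm

theorem bounded_of_powerTorsion (s : Finset A) (hc : ∀ f ∈ s, Conc f M)
    (ht : ∀ m : M, ∃ n : ℕ, ∀ a ∈ (Ideal.span (s : Set A)) ^ n, a • m = 0) :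
    ∃ n : ℕ, (Ideal.span (s : Set A)) ^ n • (⊤ : Submodule A M) = ⊥ := by
  classical
  have h1 : ∀ f ∈ s, ∃ n, ∀ m : M, f ^ n • m = 0 := fun f hf =>
    bounded_of_torsion_principal (hc f hf) (fun m => by
      obtain ⟨n, hn⟩ := ht m
      exact ⟨n, hn _ (Ideal.pow_mem_pow (Ideal.subset_span hf) n)⟩)
  choose! N hN using h1
  refine ⟨s.card * (s.sup N) + 1, ?_⟩
  rw [eq_bot_iff]
  refine (Submodule.smul_mono_left (pigeon s (s.sup N))).trans ?_
  rw [Submodule.smul_le]
  intro r hr m _
  rw [Submodule.mem_bot]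
  have hle : Ideal.span ((fun f => f ^ (s.sup N)) '' (s : Set A)) ≤ Module.annihilator A M := by
    rw [Ideal.span_le]
    rintro _ ⟨f, hf, rfl⟩
    rw [SetLike.mem_coe, Module.mem_annihilator]
    intro m
    have hle : N f ≤ s.sup N := Finset.le_sup hf
    obtain ⟨d, hd⟩ := Nat.exists_eq_add_of_le hle
    show f ^ (s.sup N) • m = 0
    rw [hd, add_comm, pow_add, mul_smul, hN f hf, smul_zero]
  exact Module.mem_annihilator.mp (hle hr) m

end Torsion

section Hensel
variable {A : Type u} [CommRing A]

theorem Conc.isUnit_one_sub {t : A} (h : Conc t A) : IsUnit (1 - t) := by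
  obtain ⟨x, hx⟩ := h.2 (fun _ => 1)
  have hshift : ∀ i, x (i + 1) - x i = t • (x (i + 1 + 1) - x (i + 1)) := by
    intro i
    have h1 := hx i
    have h2 := hx (i + 1)
    simp only [smul_eq_mul] at *
    linear_combination h2 - h1
  have h0 := h.1 (fun i => x (i + 1) - x i) hshift
  have h3 := hx 0
  simp only [smul_eq_mul, zero_add] at h3 h0
  have h10 : x 1 = x 0 := sub_eq_zero.mp h0
  rw [h10] at h3
  exact isUnit_iff_exists_inv.mpr ⟨x 0, by linear_combination h3⟩

theorem le_jacobson_of_conc (I : Ideal A) (h : ∀ t ∈ I, Conc t A) : I ≤ Ideal.jacobson ⊥ := by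
  intro t ht
  rw [Ideal.mem_jacobson_bot]
  intro y
  have hmem : -(t * y) ∈ I := I.neg_mem (I.mul_mem_right y ht)
  have := (h _ hmem).isUnit_one_sub
  simpa [sub_neg_eq_add, add_comm] using this

open PowerSeries in
theorem exists_ev {t : A} (h : Conc t A) :
    ∃ ev : A⟦X⟧ →+* A, (∀ a, ev (PowerSeries.C a) = a) ∧ ev PowerSeries.X = t := by
  have hinj : Function.Injective ((Ideal.Quotient.mk
      (Ideal.span {(PowerSeries.X - PowerSeries.C t : A⟦X⟧)})).comp PowerSeries.C) := by
    rw [injective_iff_map_eq_zero]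
    intro a ha
    have hmem : PowerSeries.C a ∈ Ideal.span {(PowerSeries.X - PowerSeries.C t : A⟦X⟧)} :=
      Ideal.Quotient.eq_zero_iff_mem.mp ha
    obtain ⟨y, hy⟩ := Ideal.mem_span_singleton'.mp hmem
    have hc0 : a = - (PowerSeries.coeff 0 y * t) := by
      have := congrArg (PowerSeries.coeff 0) hy
      rw [mul_sub, map_sub, PowerSeries.coeff_zero_mul_X, PowerSeries.coeff_mul_C,
        PowerSeries.coeff_C, if_pos rfl, zero_sub] at this
      exact this.symm
    have hcs : ∀ i, PowerSeries.coeff i y = t • PowerSeries.coeff (i + 1) y := by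
      intro i
      have := congrArg (PowerSeries.coeff (i + 1)) hy
      rw [mul_sub, map_sub, PowerSeries.coeff_succ_mul_X, PowerSeries.coeff_mul_C,
        PowerSeries.coeff_C, if_neg (Nat.succ_ne_zero i), sub_eq_zero] at this
      rw [this, smul_eq_mul, mul_comm]
    have := h.all_zero (fun i => PowerSeries.coeff i y) hcs 0
    rw [hc0, this, zero_mul, neg_zero]
  have hsurj : Function.Surjective ((Ideal.Quotient.mk
      (Ideal.span {(PowerSeries.X - PowerSeries.C t : A⟦X⟧)})).comp PowerSeries.C) := by
    intro q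
    obtain ⟨p, rfl⟩ := Ideal.Quotient.mk_surjective q
    obtain ⟨x, hx⟩ := h.2 (fun i => PowerSeries.coeff i p)
    refine ⟨x 0, ?_⟩
    show Ideal.Quotient.mk _ (PowerSeries.C (x 0)) = Ideal.Quotient.mk _ p
    rw [Ideal.Quotient.eq, Ideal.mem_span_singleton']
    refine ⟨-(PowerSeries.mk fun i => x (i + 1)), ?_⟩
    ext n
    cases n with
    | zero =>
      have := hx 0
      simp only [smul_eq_mul, zero_add] at this
      simp only [mul_sub, neg_mul, map_sub, map_neg, PowerSeries.coeff_zero_mul_X,
        PowerSeries.coeff_mul_C, PowerSeries.coeff_mk, PowerSeries.coeff_zero_C, ← this]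
      ring
    | succ n =>
      have := hx (n + 1)
      simp only [smul_eq_mul] at this
      simp only [mul_sub, neg_mul, map_sub, map_neg, PowerSeries.coeff_succ_mul_X,
        PowerSeries.coeff_mul_C, PowerSeries.coeff_mk, ← this]
      rw [PowerSeries.coeff_C, if_neg (Nat.succ_ne_zero n)]
      ring
  let e := RingEquiv.ofBijective _ ⟨hinj, hsurj⟩
  refine ⟨e.symm.toRingHom.comp (Ideal.Quotient.mk _), fun a => ?_, ?_⟩
  · show e.symm (Ideal.Quotient.mk _ (PowerSeries.C a)) = a
    have : Ideal.Quotient.mk _ (PowerSeries.C a) = e a := rfl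
    rw [this, RingEquiv.symm_apply_apply]
  · show e.symm (Ideal.Quotient.mk _ PowerSeries.X) = t
    have : Ideal.Quotient.mk (Ideal.span {(PowerSeries.X - PowerSeries.C t : A⟦X⟧)})
        PowerSeries.X = e t := by
      show _ = Ideal.Quotient.mk _ (PowerSeries.C t)
      rw [Ideal.Quotient.eq]
      exact Ideal.subset_span rfl
    rw [this, RingEquiv.symm_apply_apply]

open Polynomial in
theorem henselian_of_conc (I : Ideal A) (h : ∀ t ∈ I, Conc t A) : HenselianRing A I where
  jac := le_jacobson_of_conc I h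
  is_henselian := by
    intro f hf a₀ h₁ h₂
    by_cases hdeg : f.natDegree = 0
    · have hf1 : f = 1 := Polynomial.eq_one_of_monic_natDegree_zero hf hdeg
      subst hf1
      rw [Polynomial.eval_one] at h₁
      have hjac := le_jacobson_of_conc I h h₁
      rw [Ideal.mem_jacobson_bot] at hjac
      have h0 := hjac (-1)
      rw [one_mul, neg_add_cancel, isUnit_zero_iff] at h0
      haveI : Subsingleton A := subsingleton_of_zero_eq_one h0
      exact ⟨a₀, Subsingleton.elim _ _, by rw [sub_self]; exact I.zero_mem⟩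
    · obtain ⟨ev, hevC, hevX⟩ := exists_ev (h (f.eval a₀) h₁)
      have hu : IsUnit (f.derivative.eval a₀) := by
        obtain ⟨v, hv⟩ := h₂.exists_right_inv
        obtain ⟨v', rfl⟩ := Ideal.Quotient.mk_surjective v
        rw [← map_mul, ← map_one (Ideal.Quotient.mk I), Ideal.Quotient.eq] at hv
        have h1 : IsUnit (1 - -(f.derivative.eval a₀ * v' - 1)) :=
          (h _ (I.neg_mem hv)).isUnit_one_sub
        have h2 : 1 - -(f.derivative.eval a₀ * v' - 1) = f.derivative.eval a₀ * v' := by ring
        rw [h2] at h1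
        exact isUnit_of_mul_isUnit_left h1
      have hFdeg : (f.map (PowerSeries.C (R := A))).natDegree = f.natDegree :=
        Polynomial.natDegree_map_eq_of_injective PowerSeries.C_injective f
      have hG : (f.map (PowerSeries.C (R := A)) +
          Polynomial.C (PowerSeries.X - PowerSeries.C (f.eval a₀))).Monic := by
        apply Polynomial.Monic.add_of_left (hf.map _)
        refine lt_of_le_of_lt Polynomial.degree_C_le ?_
        rw [← Polynomial.natDegree_pos_iff_degree_pos, hFdeg]
        exact Nat.pos_of_ne_zero hdeg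
      have hFeval : (f.map (PowerSeries.C (R := A))).eval (PowerSeries.C a₀) =
          PowerSeries.C (f.eval a₀) := by
        rw [Polynomial.eval_map, Polynomial.eval₂_at_apply]
      have hGeval : (f.map (PowerSeries.C (R := A)) +
          Polynomial.C (PowerSeries.X - PowerSeries.C (f.eval a₀))).eval (PowerSeries.C a₀) =
          PowerSeries.X := by
        rw [Polynomial.eval_add, Polynomial.eval_C, hFeval]; ring
      have hGder : (Polynomial.derivative (f.map (PowerSeries.C (R := A)) +
          Polynomial.C (PowerSeries.X - PowerSeries.C (f.eval a₀)))).eval (PowerSeries.C a₀) =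
          PowerSeries.C (f.derivative.eval a₀) := by
        rw [Polynomial.derivative_add, Polynomial.derivative_C, add_zero,
          Polynomial.derivative_map, Polynomial.eval_map, Polynomial.eval₂_at_apply]
      obtain ⟨b, hb, hbb⟩ := HenselianRing.is_henselian (R := PowerSeries A)
        (I := Ideal.span {PowerSeries.X}) _ hG (PowerSeries.C a₀)
        (by rw [hGeval]; exact Ideal.subset_span rfl)
        (by rw [hGder]; exact (hu.map PowerSeries.C).map _)
      have hevcomp : ev.comp (PowerSeries.C (R := A)) = RingHom.id A := RingHom.ext hevC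
      have hroot : f.eval (ev b) = ev ((f.map (PowerSeries.C (R := A))).eval b) := by
        rw [Polynomial.eval_map, Polynomial.hom_eval₂, hevcomp, Polynomial.eval₂_id]
      have hFb : (f.map (PowerSeries.C (R := A))).eval b =
          -(PowerSeries.X - PowerSeries.C (f.eval a₀)) := by
        have := hb
        rw [Polynomial.IsRoot.def, Polynomial.eval_add, Polynomial.eval_C] at this
        exact eq_neg_of_add_eq_zero_left this
      refine ⟨ev b, ?_, ?_⟩
      · rw [Polynomial.IsRoot.def, hroot, hFb, map_neg, map_sub, hevX, hevC, sub_self, neg_zero]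
      · obtain ⟨c, hc⟩ := Ideal.mem_span_singleton'.mp hbb
        have : ev b - a₀ = ev c * f.eval a₀ := by
          rw [← hevX, ← map_mul, hc, map_sub, hevC]
        rw [this]
        exact I.mul_mem_left _ h₁

end Hensel

end DerComp9
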