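import Mathlib
import Groth.Prelude.Def_CohCx
import Groth.Prelude.Def_WeakSerre
import Groth.Agent.Lib.TruncTower_helper7
import Groth.Agent.Lib.WayOut_helper4
import Groth.Agent.Lib.BddEquiv_helper4
import Groth.Agent.Lib.KInjGen8_helper7
import Groth.Agent.Lib.DerProd_helper9

/-!
# Generic tools for derived equivalences on unbounded derived categories (helper7)

* `homologyNatIso`: an exact functor commutes with the cohomology functors, naturally;
* `hasProduct_derived`: countable products in the derived category of a Grothendieck abelian category;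
* `rlimVia_map`: a triangulated functor preserving the relevant product preserves derived limits;
* `isIso_homology_R_towerMap`: for an adjunction `F.mapDerivedCategory ⊣ R` with `F` exact which
  induces an equivalence between weak Serre subcategories, `R` applied to the tower of truncations of
  an object with cohomology in the subcategory is essentially constant on cohomology.
-/

set_option backward.isDefEq.respectTransparency false
set_option backward.isDefEq.respectTransparency.types false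
set_option linter.style.haveILetI false
set_option linter.unusedSectionVars false
set_option linter.unusedVariables false
set_option autoImplicit false
set_option maxHeartbeats 1600000
universe w₁ w₂ w v u
open CategoryTheory CategoryTheory.Limits DerivedCategory Pretriangulated

namespace Groth.Agent.Lib.DerEquivGenH7

open Groth.Agent.Lib Groth.Agent.Lib.TruncTower_helper7 Groth.Agent.Lib.WayOutH4
  Groth.Agent.Lib.BddEquivH4

/-! ### Exact functors and cohomology -/

section NatIso

variable {A₁ : Type*} [Category A₁] [Abelian A₁] [HasDerivedCategory.{w₁} A₁]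
  {A₂ : Type*} [Category A₂] [Abelian A₂] [HasDerivedCategory.{w₂} A₂]
variable (F : A₁ ⥤ A₂) [F.Additive] [PreservesFiniteLimits F] [PreservesFiniteColimits F]

/-- the base natural isomorphism on complexes -/
noncomputable def e₀ (q : ℤ) :
    F.mapHomologicalComplex (ComplexShape.up ℤ) ⋙
      HomologicalComplex.homologyFunctor A₂ (ComplexShape.up ℤ) q ≅
    HomologicalComplex.homologyFunctor A₁ (ComplexShape.up ℤ) q ⋙ F :=
  NatIso.ofComponents (fun K => (K.sc q).mapHomologyIso F) (by
    intro K K' g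
    exact ShortComplex.mapHomologyIso_hom_naturality
      ((HomologicalComplex.shortComplexFunctor A₁ (ComplexShape.up ℤ) q).map g) F)

/-- an exact functor commutes with the cohomology functors on derived categories -/
noncomputable def homologyNatIso (q : ℤ) :
    F.mapDerivedCategory ⋙ homologyFunctor A₂ q ≅ homologyFunctor A₁ q ⋙ F :=
  Localization.liftNatIso Q (HomologicalComplex.quasiIso A₁ (ComplexShape.up ℤ))
    ((F.mapHomologicalComplex (ComplexShape.up ℤ) ⋙ Q) ⋙ homologyFunctor A₂ q)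
    ((Q ⋙ homologyFunctor A₁ q) ⋙ F) _ _
    (Functor.associator _ _ _ ≪≫
      Functor.isoWhiskerLeft (F.mapHomologicalComplex (ComplexShape.up ℤ))
        (homologyFunctorFactors A₂ q) ≪≫ e₀ F q ≪≫
      Functor.isoWhiskerRight (homologyFunctorFactors A₁ q).symm F)

lemma isIso_homology_map (q : ℤ) {Y Y' : DerivedCategory A₁} (g : Y ⟶ Y')
    (h : IsIso ((homologyFunctor A₁ q).map g)) :
    IsIso ((homologyFunctor A₂ q).map (F.mapDerivedCategory.map g)) := by
  haveI := h
  have hnat := (homologyNatIso F q).hom.naturality g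
  have e : (homologyFunctor A₂ q).map (F.mapDerivedCategory.map g) =
      ((homologyNatIso F q).app Y).hom ≫ F.map ((homologyFunctor A₁ q).map g) ≫
        ((homologyNatIso F q).app Y').inv := by
    rw [← Category.assoc, Iso.eq_comp_inv]
    exact hnat
  rw [e]
  infer_instance

end NatIso

/-! ### Countable products in the derived category -/

section Prod

variable {A : Type u} [Category.{v} A] [Abelian A] [IsGrothendieckAbelian.{v} A]
  [HasDerivedCategory.{w} A] [HasProductsOfShape ℕ A]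

theorem hasProduct_derived (K : ℕ → DerivedCategory A) : HasProduct K := by
  choose I hI _ e using fun j : ℕ => KInjGen8.exists_kInjective_rep (K j)
  haveI : ∀ j, (I j).IsKInjective := hI
  haveI := DerProd.hasProduct_Q I
  exact hasLimit_of_iso (F := Discrete.functor (fun j => DerivedCategory.Q.obj (I j)))
    (Discrete.natIso (fun ⟨j⟩ => (e j).some))

end Prod

/-! ### Triangulated functors preserving products preserve derived limits -/

section Rlim

variable {T : Type*} [Category T] [Preadditive T] [HasZeroObject T] [HasShift T ℤ]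
  [∀ n : ℤ, (shiftFunctor T n).Additive] [Pretriangulated T]
  {T' : Type*} [Category T'] [Preadditive T'] [HasZeroObject T'] [HasShift T' ℤ]
  [∀ n : ℤ, (shiftFunctor T' n).Additive] [Pretriangulated T']
  (R : T ⥤ T') [R.CommShift ℤ] [R.IsTriangulated] [R.Additive]

theorem rlimVia_map (K : ℕ → T) (t : ∀ n, K (n + 1) ⟶ K n) [HasProduct K]
    [HasProduct fun n => R.obj (K n)] [PreservesLimit (Discrete.functor K) R]
    (L : T) (a : ∀ n, L ⟶ K n) (hL : CohCx.IsRlimVia K t L a) :
    CohCx.IsRlimVia (fun n => R.obj (K n)) (fun n => R.map (t n)) (R.obj L)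
      (fun n => R.map (a n)) := by
  obtain ⟨c, hc⟩ := hL
  have hT := R.map_distinguished _ hc
  let ρ : R.obj (∏ᶜ K) ≅ ∏ᶜ fun n => R.obj (K n) := PreservesProduct.iso R K
  have hρ : ∀ n, ρ.hom ≫ Pi.π (fun n => R.obj (K n)) n = R.map (Pi.π K n) := fun n => by
    show (PreservesProduct.iso R K).hom ≫ _ = _
    rw [PreservesProduct.iso_hom]
    exact piComparison_comp_π R K n
  refine ⟨ρ.inv ≫ R.map c ≫ (R.commShiftIso (1 : ℤ)).hom.app L, ?_⟩
  refine isomorphic_distinguished _ hT _ ?_
  refine Triangle.isoMk _ _ (Iso.refl _) ρ.symm ρ.symm ?_ ?_ ?_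
  · show Pi.lift (fun n => R.map (a n)) ≫ ρ.inv = 𝟙 _ ≫ R.map (Pi.lift a)
    rw [Category.id_comp, Iso.comp_inv_eq]
    apply Limits.Pi.hom_ext
    intro n
    rw [Pi.lift_π, Category.assoc, hρ, ← R.map_comp, Pi.lift_π]
  · show (Pi.lift fun n => Pi.π (fun n => R.obj (K n)) n -
        Pi.π (fun n => R.obj (K n)) (n + 1) ≫ R.map (t n)) ≫ ρ.inv =
      ρ.inv ≫ R.map (Pi.lift fun n => Pi.π K n - Pi.π K (n + 1) ≫ t n)
    rw [Iso.comp_inv_eq, Category.assoc, Iso.eq_inv_comp]
    apply Limits.Pi.hom_ext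
    intro n
    have hR : R.map (Pi.lift fun n => Pi.π K n - Pi.π K (n + 1) ≫ t n) ≫ R.map (Pi.π K n) =
        R.map (Pi.π K n) - R.map (Pi.π K (n + 1)) ≫ R.map (t n) := by
      rw [← R.map_comp, Pi.lift_π, R.map_sub, R.map_comp]
    have hL : ρ.hom ≫ (Pi.lift fun n => Pi.π (fun n => R.obj (K n)) n -
        Pi.π (fun n => R.obj (K n)) (n + 1) ≫ R.map (t n)) ≫
          Pi.π (fun n => R.obj (K n)) n =
        R.map (Pi.π K n) - R.map (Pi.π K (n + 1)) ≫ R.map (t n) := by
      rw [Pi.lift_π, Preadditive.comp_sub, hρ n, ← Category.assoc, hρ (n + 1)]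
    calc (ρ.hom ≫ (Pi.lift fun n => Pi.π (fun n => R.obj (K n)) n -
            Pi.π (fun n => R.obj (K n)) (n + 1) ≫ R.map (t n))) ≫
              Pi.π (fun n => R.obj (K n)) n
        = ρ.hom ≫ (Pi.lift fun n => Pi.π (fun n => R.obj (K n)) n -
            Pi.π (fun n => R.obj (K n)) (n + 1) ≫ R.map (t n)) ≫
              Pi.π (fun n => R.obj (K n)) n := Category.assoc _ _ _
      _ = R.map (Pi.π K n) - R.map (Pi.π K (n + 1)) ≫ R.map (t n) := hL
      _ = (R.map (Pi.lift fun n => Pi.π K n - Pi.π K (n + 1) ≫ t n) ≫ ρ.hom) ≫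
            Pi.π (fun n => R.obj (K n)) n := by
          rw [Category.assoc, hρ n, hR]
  · show (ρ.inv ≫ R.map c ≫ (R.commShiftIso (1 : ℤ)).hom.app L) ≫ (𝟙 (R.obj L))⟦(1 : ℤ)⟧' =
      ρ.inv ≫ R.map c ≫ (R.commShiftIso (1 : ℤ)).hom.app L
    erw [CategoryTheory.Functor.map_id, Category.comp_id]

end Rlim

/-! ### The tower of truncations under the right adjoint -/

section Tower

variable {A₁ : Type (u + 1)} [Category.{u} A₁] [Abelian A₁] [HasDerivedCategory.{w₁} A₁]
  {A₂ : Type (u + 1)} [Category.{u} A₂] [Abelian A₂] [HasDerivedCategory.{w₂} A₂]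
variable (F : A₁ ⥤ A₂) [F.Additive] [PreservesFiniteLimits F] [PreservesFiniteColimits F]
variable {R : DerivedCategory A₂ ⥤ DerivedCategory A₁} (adj : F.mapDerivedCategory ⊣ R)

include adj in
theorem isIso_homology_R_towerMap (P_A : ObjectProperty A₂) [P_A.IsClosedUnderIsomorphisms]
    (P_B : ObjectProperty A₁)
    (h2c : ∀ M : A₂, P_A M → ∃ M' : A₁, P_B M' ∧ Nonempty (F.obj M' ≅ M))
    (h3 : ∀ M' : A₁, P_B M' → IsIso (adj.unit.app ((singleFunctor A₁ 0).obj M')))
    (X : DerivedCategory A₂) (hX : WSerre.cohIn P_A X) (n : ℕ) (j : ℤ)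
    (hj1 : j ≠ -(n : ℤ) - 1) (hj2 : j ≠ -(n : ℤ) - 2) :
    IsIso ((homologyFunctor A₁ j).map (R.map (CohCx.truncTowerMap X n))) := by
  letI := adj.rightAdjointCommShift ℤ
  haveI := adj.commShift_of_leftAdjoint ℤ
  haveI : R.IsTriangulated := adj.isTriangulated_rightAdjoint
  obtain ⟨Fb, f, δ, Y₀, hT, ⟨eF⟩, ⟨eY⟩⟩ := exists_fiber X n
  have hY₀ : P_A Y₀ := P_A.prop_of_iso eY.symm (hX _)
  obtain ⟨M', hM', ⟨e⟩⟩ := h2c Y₀ hY₀
  haveI : IsIso (adj.unit.app ((singleFunctor A₁ 0).obj M')) := h3 M' hM'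
  have iso0 : F.mapDerivedCategory.obj ((singleFunctor A₁ 0).obj M') ≅
      (singleFunctor A₂ 0).obj Y₀ :=
    (F.mapDerivedCategorySingleFunctor 0).app M' ≪≫ (singleFunctor A₂ 0).mapIso e
  have eZ : R.obj ((singleFunctor A₂ 0).obj Y₀) ≅ (singleFunctor A₁ 0).obj M' :=
    R.mapIso iso0.symm ≪≫ (asIso (adj.unit.app ((singleFunctor A₁ 0).obj M'))).symm
  have e1 : Fb ≅ ((singleFunctor A₂ 0).obj Y₀)⟦(n : ℤ) + 1⟧ :=
    eF ≪≫ (((DerivedCategory.singleFunctors A₂).shiftIso ((n : ℤ) + 1) (-(n : ℤ) - 1) 0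
      (by omega)).app Y₀).symm
  have e2 : R.obj Fb ≅ ((singleFunctor A₁ 0).obj M')⟦(n : ℤ) + 1⟧ :=
    R.mapIso e1 ≪≫ (R.commShiftIso ((n : ℤ) + 1)).app _ ≪≫
      (shiftFunctor (DerivedCategory A₁) ((n : ℤ) + 1)).mapIso eZ
  haveI hGE : (R.obj Fb).IsGE (-(n : ℤ) - 1) := by
    haveI : tS.IsGE (((singleFunctor A₁ 0).obj M')⟦(n : ℤ) + 1⟧) (-(n : ℤ) - 1) :=
      tS.isGE_shift ((singleFunctor A₁ 0).obj M') 0 ((n : ℤ) + 1) (-(n : ℤ) - 1) (by omega)
    exact tS.isGE_of_iso e2.symm _
  haveI hLE : (R.obj Fb).IsLE (-(n : ℤ) - 1) := by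
    haveI : tS.IsLE (((singleFunctor A₁ 0).obj M')⟦(n : ℤ) + 1⟧) (-(n : ℤ) - 1) :=
      tS.isLE_shift ((singleFunctor A₁ 0).obj M') 0 ((n : ℤ) + 1) (-(n : ℤ) - 1) (by omega)
    exact tS.isLE_of_iso e2.symm _
  have hz : ∀ i : ℤ, i ≠ -(n : ℤ) - 1 → IsZero ((homologyFunctor A₁ i).obj (R.obj Fb)) := by
    intro i hi
    rcases lt_or_gt_of_ne hi with h | h
    · exact isZero_of_isGE (R.obj Fb) (-(n : ℤ) - 1) i h
    · exact isZero_of_isLE (R.obj Fb) (-(n : ℤ) - 1) i h
  have hT' := R.map_distinguished _ hT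
  haveI : Mono ((homologyFunctor A₁ j).map (R.map (CohCx.truncTowerMap X n))) :=
    (HomologySequence.mono_homologyMap_mor₂_iff _ hT' j).2 ((hz j hj1).eq_of_src _ _)
  haveI : Epi ((homologyFunctor A₁ j).map (R.map (CohCx.truncTowerMap X n))) :=
    (HomologySequence.epi_homologyMap_mor₂_iff _ hT' j (j + 1) rfl).2
      ((hz (j + 1) (by omega)).eq_of_tgt _ _)
  exact isIso_of_mono_of_epi _

/-- truncations of objects with cohomology in a weak Serre class are in `D^+` of the class -/
lemma cohInPlus_truncTower (P : ObjectProperty A₂) [P.IsClosedUnderIsomorphisms] [P.ContainsZero]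
    (X : DerivedCategory A₂) (hX : WSerre.cohIn P X) (n : ℕ) :
    WSerre.cohInPlus P (CohCx.truncTower X n) :=
  ⟨cohIn_truncGE P X (-(n : ℤ)) hX, -(n : ℤ), inferInstance⟩

/-- the comparison `τ_{≥ -n}(F Y) ≅ F(τ_{≥ -n} Y)` -/
theorem exists_trunc_comparison (Y : DerivedCategory A₁) (n : ℕ) :
    ∃ c : CohCx.truncTower (F.mapDerivedCategory.obj Y) n ≅
        F.mapDerivedCategory.obj (CohCx.truncTower Y n),
      CohCx.toTruncTower (F.mapDerivedCategory.obj Y) n ≫ c.hom =
        F.mapDerivedCategory.map (CohCx.toTruncTower Y n) := by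
  haveI hGE : tS.IsGE (F.mapDerivedCategory.obj (CohCx.truncTower Y n)) (-(n : ℤ)) :=
    isGE_mapDerivedCategory F _ _ inferInstance
  let c₀ := tS.descTruncGE (F.mapDerivedCategory.map (CohCx.toTruncTower Y n)) (-(n : ℤ))
  have hc₀ : CohCx.toTruncTower (F.mapDerivedCategory.obj Y) n ≫ c₀ =
      F.mapDerivedCategory.map (CohCx.toTruncTower Y n) :=
    tS.π_descTruncGE _ _
  haveI : IsIso c₀ := by
    rw [DerivedCategory.isIso_iff]
    intro q
    by_cases hq : -(n : ℤ) ≤ q
    · haveI h1 : IsIso ((homologyFunctor A₂ q).map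
          (CohCx.toTruncTower (F.mapDerivedCategory.obj Y) n)) :=
        isIso_homology_truncGEπ _ (-(n : ℤ)) q hq
      haveI h2 : IsIso ((homologyFunctor A₂ q).map
          (F.mapDerivedCategory.map (CohCx.toTruncTower Y n))) :=
        isIso_homology_map F q _ (isIso_homology_truncGEπ Y (-(n : ℤ)) q hq)
      have h3 : (homologyFunctor A₂ q).map (CohCx.toTruncTower (F.mapDerivedCategory.obj Y) n) ≫
          (homologyFunctor A₂ q).map c₀ =
          (homologyFunctor A₂ q).map (F.mapDerivedCategory.map (CohCx.toTruncTower Y n)) := by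
        rw [← CategoryTheory.Functor.map_comp, hc₀]
      exact IsIso.of_isIso_fac_left h3
    · have hz1 : IsZero ((homologyFunctor A₂ q).obj
          (CohCx.truncTower (F.mapDerivedCategory.obj Y) n)) :=
        isZero_of_isGE _ (-(n : ℤ)) q (by omega)
      have hz2 : IsZero ((homologyFunctor A₂ q).obj
          (F.mapDerivedCategory.obj (CohCx.truncTower Y n))) :=
        isZero_of_isGE _ (-(n : ℤ)) q (by omega)
      exact ⟨0, hz1.eq_of_src _ _, hz2.eq_of_src _ _⟩
  exact ⟨asIso c₀, hc₀⟩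

end Tower

end Groth.Agent.Lib.DerEquivGenH7
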