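import Mathlib
import Groth.Prelude

/-!
# Extending `g^N D` from `R` to a finite type overring with the same localization (helper4).
APPEND-ONLY once landed.
-/

set_option autoImplicit false
set_option linter.style.haveILetI false

universe u

open KaehlerDifferential

namespace Groth.Agent.Lib.DerExtH4

theorem add_map_int_smul {A M : Type*} [CommRing A] [AddCommGroup M] (f : A →+ M) (n : ℤ)
    (a : A) : f (n • a) = n • f a :=
  map_zsmul f n a

/-- a `ℤ`-derivation from an additive Leibniz map. -/
noncomputable def derOfAdd {A M : Type*} [CommRing A] [AddCommGroup M] [Module A M] (f : A →+ M)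
    (h : ∀ a b, f (a * b) = a • f b + b • f a) : Derivation ℤ A M :=
  Derivation.mk'
    { toFun := f
      map_add' := f.map_add
      map_smul' := fun n a => add_map_int_smul f n a } h

theorem derOfAdd_apply {A M : Type*} [CommRing A] [AddCommGroup M] [Module A M] (f : A →+ M)
    (h : ∀ a b, f (a * b) = a • f b + b • f a) (a : A) : derOfAdd f h a = f a := rfl

variable {R R' : Type u} [CommRing R] [CommRing R'] [Algebra R R']

theorem core {L : Type u} [CommRing L] [Algebra R' L] [Algebra R L] [IsScalarTower R R' L]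
    [Algebra.FiniteType R R']
    (hinj : Function.Injective (algebraMap R R')) (g : R)
    [IsLocalization.Away (algebraMap R R' g) L]
    (hφ : Function.Injective (algebraMap R' L))
    (hloc : ∀ x : R', ∃ n : ℕ, (algebraMap R R' g) ^ n * x ∈ Set.range (algebraMap R R'))
    (D : Derivation ℤ R R) :
    ∃ (N : ℕ) (D' : Derivation ℤ R' R'),
      ∀ r : R, D' (algebraMap R R' r) = algebraMap R R' (g ^ N * D r) := by
  set g' : R' := algebraMap R R' g with hg'
  have hRL : ∀ r : R, algebraMap R L r =
      algebraMap R' L (algebraMap R R' r) :=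
    fun r => IsScalarTower.algebraMap_apply R R' L r
  have hunit : IsUnit (algebraMap R L g) := by
    rw [hRL]
    exact IsLocalization.map_units L
      (⟨g', Submonoid.mem_powers g'⟩ : Submonoid.powers g')
  haveI hloc' : IsLocalization.Away g L := by
    refine IsLocalization.Away.mk g hunit (fun s => ?_) (fun a b hab => ?_)
    · obtain ⟨n, a', ha'⟩ := IsLocalization.Away.surj g' s
      obtain ⟨m, r, hr⟩ := hloc a'
      refine ⟨n + m, r, ?_⟩
      rw [hRL, hRL, hr, map_mul, map_pow, ← ha', ← hg', pow_add]
      ring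
    · refine ⟨0, ?_⟩
      rw [hRL, hRL] at hab
      rw [hinj (hφ hab)]
  haveI : Algebra.FormallyEtale R L :=
    Algebra.FormallyEtale.of_isLocalization (Submonoid.powers g)
  have hbc := KaehlerDifferential.isBaseChange_of_formallyEtale ℤ R L
  let ℓ : Ω[R⁄ℤ] →ₗ[R] L :=
    (Algebra.linearMap R L).comp D.liftKaehlerDifferential
  have hDadd : ∀ a b : L,
      (hbc.lift ℓ) (KaehlerDifferential.D ℤ L (a + b)) =
      (hbc.lift ℓ) (KaehlerDifferential.D ℤ L a) +
      (hbc.lift ℓ) (KaehlerDifferential.D ℤ L b) := by
    intro a b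
    rw [map_add, map_add]
  let DLadd : L →+ L :=
    AddMonoidHom.mk' (fun a => (hbc.lift ℓ) (KaehlerDifferential.D ℤ L a))
      hDadd
  have hDLleib : ∀ a b : L, DLadd (a * b) = a • DLadd b + b • DLadd a := by
    intro a b
    show (hbc.lift ℓ) (KaehlerDifferential.D ℤ L (a * b)) =
      a • (hbc.lift ℓ) (KaehlerDifferential.D ℤ L b) +
      b • (hbc.lift ℓ) (KaehlerDifferential.D ℤ L a)
    have hl := @Derivation.leibniz ℤ L (Ω[L⁄ℤ]) _ _ _ _ _ _
      (KaehlerDifferential.D ℤ L) a b
    rw [hl, map_add, LinearMap.map_smul, LinearMap.map_smul]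
  let DL : Derivation ℤ L L :=
    derOfAdd DLadd hDLleib
  have hDL : ∀ r : R, DL (algebraMap R L r) =
      algebraMap R L (D r) := by
    intro r
    show (hbc.lift ℓ) (KaehlerDifferential.D ℤ L
      (algebraMap R L r)) = _
    rw [← KaehlerDifferential.map_D ℤ ℤ R L r, hbc.lift_eq]
    show algebraMap R L
      (D.liftKaehlerDifferential (KaehlerDifferential.D ℤ R r)) = _
    rw [Derivation.liftKaehlerDifferential_comp_D]
  -- the integrality predicate
  choose nf yf hf using fun x : R' =>
    IsLocalization.Away.surj g' (DL (algebraMap R' L x))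
  obtain ⟨s, hs⟩ := (Algebra.FiniteType.out : (⊤ : Subalgebra R R').FG)
  set N : ℕ := s.sup nf with hN
  let T : Subalgebra R R' :=
    { carrier := {x | ∃ y : R', algebraMap R' L y =
        (algebraMap R' L g') ^ N *
          DL (algebraMap R' L x)}
      mul_mem' := by
        rintro x x' ⟨y, hy⟩ ⟨y', hy'⟩
        refine ⟨x * y' + x' * y, ?_⟩
        rw [map_add, map_mul, map_mul, hy, hy', map_mul (algebraMap R' L) x x',
          DL.leibniz, smul_eq_mul, smul_eq_mul]
        ring
      one_mem' := ⟨0, by rw [map_one, DL.map_one_eq_zero, mul_zero, map_zero]⟩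
      add_mem' := by
        rintro x x' ⟨y, hy⟩ ⟨y', hy'⟩
        refine ⟨y + y', ?_⟩
        rw [map_add, map_add, map_add, hy, hy', mul_add]
      zero_mem' := ⟨0, by rw [map_zero, map_zero, mul_zero]⟩
      algebraMap_mem' := by
        intro r
        refine ⟨algebraMap R R' (g ^ N * D r), ?_⟩
        rw [← hRL (g ^ N * D r), ← hRL r, hDL, map_mul, map_pow, hRL g] }
  have hsT : (s : Set R') ⊆ T := by
    intro x hx
    have hle : nf x ≤ N := Finset.le_sup hx
    refine ⟨g' ^ (N - nf x) * yf x, ?_⟩
    rw [map_mul, map_pow, ← hf x, ← mul_assoc, mul_comm _ (DL _), mul_assoc, ← pow_add,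
      Nat.sub_add_cancel hle, mul_comm]
  have hall : ∀ x : R', ∃ y : R', algebraMap R' L y =
        (algebraMap R' L g') ^ N *
          DL (algebraMap R' L x) := by
    intro x
    have h1 : Algebra.adjoin R (s : Set R') ≤ T := Algebra.adjoin_le hsT
    rw [hs] at h1
    exact h1 (Algebra.mem_top : x ∈ (⊤ : Subalgebra R R'))
  choose Df hDf using hall
  have hadd : ∀ x y : R', Df (x + y) = Df x + Df y := by
    intro x y
    apply hφ
    rw [hDf, map_add, map_add, map_add, hDf, hDf, mul_add]
  let lin : R' →+ R' := AddMonoidHom.mk' Df hadd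
  have hleib : ∀ a b : R', lin (a * b) = a • lin b + b • lin a := by
    intro a b
    apply hφ
    show algebraMap R' L (Df (a * b)) =
      algebraMap R' L (a • Df b + b • Df a)
    have e1 : algebraMap R' L (Df (a * b)) =
        (algebraMap R' L g') ^ N * DL (algebraMap R' L a * algebraMap R' L b) := by
      rw [hDf, map_mul]
    have e2 : DL (algebraMap R' L a * algebraMap R' L b) =
        algebraMap R' L a * DL (algebraMap R' L b) + algebraMap R' L b * DL (algebraMap R' L a) := by
      rw [DL.leibniz, smul_eq_mul, smul_eq_mul]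
    have e3 : algebraMap R' L (a • Df b + b • Df a) =
        algebraMap R' L a * ((algebraMap R' L g') ^ N * DL (algebraMap R' L b)) +
        algebraMap R' L b * ((algebraMap R' L g') ^ N * DL (algebraMap R' L a)) := by
      rw [smul_eq_mul, smul_eq_mul, map_add, map_mul, map_mul, hDf, hDf]
    rw [e1, e2, e3]
    ring
  refine ⟨N, derOfAdd lin hleib, fun r => ?_⟩
  apply hφ
  show algebraMap R' L (Df (algebraMap R R' r)) = _
  rw [hDf, ← hRL r, ← hRL (g ^ N * D r), hDL, map_mul, map_pow, hRL g]

theorem main2133 [Algebra.FiniteType R R']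
    (hinj : Function.Injective (algebraMap R R')) (g : R)
    (hg : IsSMulRegular R' (algebraMap R R' g))
    (hloc : ∀ x : R', ∃ n : ℕ, (algebraMap R R' g) ^ n * x ∈ Set.range (algebraMap R R'))
    (D : Derivation ℤ R R) :
    ∃ (N : ℕ) (D' : Derivation ℤ R' R'),
      ∀ r : R, D' (algebraMap R R' r) = algebraMap R R' (g ^ N * D r) := by
  have hg0 : ∀ y : R', algebraMap R R' g * y = 0 → y = 0 := fun y hy => hg (by
    show algebraMap R R' g • y = algebraMap R R' g • (0 : R')
    rw [smul_eq_mul, smul_eq_mul, hy, mul_zero])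
  have hnzd : Submonoid.powers (algebraMap R R' g) ≤ nonZeroDivisors R' :=
    (Submonoid.powers_le).mpr (mem_nonZeroDivisors_iff.mpr
      ⟨hg0, fun y hy => hg0 y (by rw [mul_comm]; exact hy)⟩)
  have hφ : Function.Injective (algebraMap R' (Localization.Away (algebraMap R R' g))) :=
    IsLocalization.injective (Localization.Away (algebraMap R R' g)) hnzd
  exact core (L := Localization.Away (algebraMap R R' g)) hinj g hφ hloc D

end Groth.Agent.Lib.DerExtH4
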