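import Mathlib
import Groth.Agent.Lib.DerAdjPlus_helper9

/-!
# Derived adjunction of exact functors with invertible counit (helper7)

For an adjunction `adj : L ⊣ R` of exact functors between abelian categories with invertible counit,
`R.mapDerivedCategory` is fully faithful and `K` is in its essential image iff the unit
is invertible on all cohomology objects of `K`.
APPEND-ONLY once landed.
-/

set_option autoImplicit false
set_option backward.isDefEq.respectTransparency false
set_option linter.style.haveILetI false
set_option linter.unusedSectionVars false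

universe w w' v v' u u'

open CategoryTheory CategoryTheory.Limits

namespace Groth.Agent.Lib.DerFFEssH7

variable {A : Type u} [Category.{v} A] [Abelian A] {B : Type u'} [Category.{v'} B] [Abelian B]
  [HasDerivedCategory.{w} A] [HasDerivedCategory.{w'} B]
  {L : A ⥤ B} {R : B ⥤ A} (adj : L ⊣ R) [L.Additive] [R.Additive]
  [PreservesFiniteLimits L] [PreservesFiniteColimits L]
  [PreservesFiniteLimits R] [PreservesFiniteColimits R]

/-- the commutative square for `L` -/
noncomputable def sqL (L : A ⥤ B) [L.Additive] [PreservesFiniteLimits L]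
    [PreservesFiniteColimits L] :
    CatCommSq (L.mapHomologicalComplex (ComplexShape.up ℤ)) DerivedCategory.Q
      DerivedCategory.Q L.mapDerivedCategory := ⟨L.mapDerivedCategoryFactors.symm⟩

attribute [local instance] sqL

/-- the adjunction on derived categories -/
noncomputable def dadj : L.mapDerivedCategory ⊣ R.mapDerivedCategory :=
  (DerAdjPlus.adjHC adj (ComplexShape.up ℤ)).localization DerivedCategory.Q
    (HomologicalComplex.quasiIso A (ComplexShape.up ℤ)) DerivedCategory.Q
    (HomologicalComplex.quasiIso B (ComplexShape.up ℤ)) L.mapDerivedCategory R.mapDerivedCategory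

theorem isIso_dadj_counit (h : ∀ M : B, IsIso (adj.counit.app M)) : IsIso (dadj adj).counit := by
  haveI : ∀ K : DerivedCategory B, IsIso ((dadj adj).counit.app K) := by
    intro K
    rw [← NatTrans.isIso_app_iff_of_iso _ (DerivedCategory.Q.objObjPreimageIso K)]
    have h1 := Adjunction.localization_counit_app (DerAdjPlus.adjHC adj (ComplexShape.up ℤ))
      DerivedCategory.Q (HomologicalComplex.quasiIso A (ComplexShape.up ℤ)) DerivedCategory.Q
      (HomologicalComplex.quasiIso B (ComplexShape.up ℤ)) L.mapDerivedCategory
      R.mapDerivedCategory (DerivedCategory.Q.objPreimage K)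
    haveI : IsIso ((DerAdjPlus.adjHC adj (ComplexShape.up ℤ)).counit.app
        (DerivedCategory.Q.objPreimage K)) := by
      haveI : ∀ n, IsIso (((DerAdjPlus.adjHC adj (ComplexShape.up ℤ)).counit.app
          (DerivedCategory.Q.objPreimage K)).f n) := fun n => h _
      exact HomologicalComplex.Hom.isIso_of_components _
    rw [show (dadj adj).counit.app (DerivedCategory.Q.obj (DerivedCategory.Q.objPreimage K)) = _
      from h1]
    infer_instance
  exact NatIso.isIso_of_isIso_app _

theorem full_faithful (h : ∀ M : B, IsIso (adj.counit.app M)) :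
    R.mapDerivedCategory.Full ∧ R.mapDerivedCategory.Faithful := by
  haveI := isIso_dadj_counit adj h
  have ff := (dadj adj).fullyFaithfulROfIsIsoCounit
  exact ⟨ff.full, ff.faithful⟩

theorem isIso_homologyMap_unit_iff (K : CochainComplex A ℤ) (n : ℤ) :
    IsIso (HomologicalComplex.homologyMap
      ((DerAdjPlus.adjHC adj (ComplexShape.up ℤ)).unit.app K) n) ↔
      IsIso (adj.unit.app (K.homology n)) := by
  have h := NatTrans.app_homology adj.unit (K.sc n)
  have e : HomologicalComplex.homologyMap
      ((DerAdjPlus.adjHC adj (ComplexShape.up ℤ)).unit.app K) n =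
      ShortComplex.homologyMap ((K.sc n).mapNatTrans adj.unit) := rfl
  rw [e]
  show _ ↔ IsIso (adj.unit.app (K.sc n).homology)
  rw [h, isIso_comp_left_iff, isIso_comp_right_iff]

theorem essImage_iff (h : ∀ M : B, IsIso (adj.counit.app M)) (K : DerivedCategory A) :
    R.mapDerivedCategory.essImage K ↔
      ∀ n : ℤ, IsIso (adj.unit.app ((DerivedCategory.homologyFunctor A n).obj K)) := by
  haveI := isIso_dadj_counit adj h
  have ff := (dadj adj).fullyFaithfulROfIsIsoCounit
  haveI := ff.full
  haveI := ff.faithful
  rw [← (dadj adj).isIso_unit_app_iff_mem_essImage, DerivedCategory.isIso_iff]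
  refine forall_congr' (fun n => ?_)
  obtain ⟨K', ⟨e⟩⟩ : ∃ K' : CochainComplex A ℤ, Nonempty (DerivedCategory.Q.obj K' ≅ K) :=
    ⟨_, ⟨DerivedCategory.Q.objObjPreimageIso K⟩⟩
  have t1 : IsIso ((DerivedCategory.homologyFunctor A n).map ((dadj adj).unit.app K)) ↔
      IsIso ((DerivedCategory.homologyFunctor A n).map
        ((dadj adj).unit.app (DerivedCategory.Q.obj K'))) :=
    (NatTrans.isIso_app_iff_of_iso
      (Functor.whiskerRight (dadj adj).unit (DerivedCategory.homologyFunctor A n)) e).symm
  have t2 : IsIso (adj.unit.app ((DerivedCategory.homologyFunctor A n).obj K)) ↔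
      IsIso (adj.unit.app ((DerivedCategory.homologyFunctor A n).obj
        (DerivedCategory.Q.obj K'))) :=
    (NatTrans.isIso_app_iff_of_iso adj.unit
      ((DerivedCategory.homologyFunctor A n).mapIso e)).symm
  rw [t1, t2]
  have h1 := Adjunction.localization_unit_app (DerAdjPlus.adjHC adj (ComplexShape.up ℤ))
    DerivedCategory.Q (HomologicalComplex.quasiIso A (ComplexShape.up ℤ)) DerivedCategory.Q
    (HomologicalComplex.quasiIso B (ComplexShape.up ℤ)) L.mapDerivedCategory
    R.mapDerivedCategory K'
  rw [show (dadj adj).unit.app (DerivedCategory.Q.obj K') = _ from h1, Functor.map_comp,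
    isIso_comp_right_iff]
  have t3 := NatIso.isIso_map_iff (DerivedCategory.homologyFunctorFactors A n)
    ((DerAdjPlus.adjHC adj (ComplexShape.up ℤ)).unit.app K')
  have t4 : IsIso (adj.unit.app ((DerivedCategory.homologyFunctor A n).obj
      (DerivedCategory.Q.obj K'))) ↔ IsIso (adj.unit.app (K'.homology n)) :=
    NatTrans.isIso_app_iff_of_iso adj.unit ((DerivedCategory.homologyFunctorFactors A n).app K')
  rw [t4]
  exact t3.trans (isIso_homologyMap_unit_iff adj K' n)

end Groth.Agent.Lib.DerFFEssH7
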