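import Mathlib
import Groth.Agent.Lib.HorseshoeCx_helper9

/-!
# Full faithfulness of `D⁺(A') ⥤ D⁺(A)` when `A'` has enough `A`-injectives (helper9)
-/

namespace Groth.Agent.Lib.DerFF

open CategoryTheory CategoryTheory.Limits

universe w w' v v' u u'

lemma bijective_map_of_iso {C D : Type*} [Category C] [Category D] (E : C ⥤ D)
    {X X₀ Y Y₀ : C} (α : X ≅ X₀) (β : Y ≅ Y₀)
    (h : Function.Bijective (fun f : X₀ ⟶ Y₀ => E.map f)) :
    Function.Bijective (fun f : X ⟶ Y => E.map f) := by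
  have h1 : Function.Bijective (fun f : X ⟶ Y => α.inv ≫ f ≫ β.hom) :=
    ⟨fun f g hfg => (cancel_mono β.hom).1 ((cancel_epi α.inv).1 hfg),
      fun g => ⟨α.hom ≫ g ≫ β.inv, by simp⟩⟩
  have h2 : Function.Bijective
      (fun g : E.obj X₀ ⟶ E.obj Y₀ => E.map α.hom ≫ g ≫ E.map β.inv) :=
    ⟨fun f g hfg => (cancel_mono (E.map β.inv)).1 ((cancel_epi (E.map α.hom)).1 hfg),
      fun g => ⟨E.map α.inv ≫ g ≫ E.map β.hom, by simp⟩⟩
  have h3 : (fun f : X ⟶ Y => E.map f) =
      (fun g : E.obj X₀ ⟶ E.obj Y₀ => E.map α.hom ≫ g ≫ E.map β.inv) ∘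
        (fun f : X₀ ⟶ Y₀ => E.map f) ∘ (fun f : X ⟶ Y => α.inv ≫ f ≫ β.hom) := by
    funext f
    simp
  rw [h3]
  exact h2.comp (h.comp h1)

variable {A' : Type u'} [Category.{v'} A'] [Abelian A'] [HasDerivedCategory.{w'} A']
  {A : Type u} [Category.{v} A] [Abelian A] [HasDerivedCategory.{w} A]
  (ι : A' ⥤ A) [ι.Additive] [PreservesFiniteLimits ι] [PreservesFiniteColimits ι]
  [ι.Full] [ι.Faithful]

omit [HasDerivedCategory A'] [HasDerivedCategory A] [ι.Additive] [PreservesFiniteColimits ι] in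
lemma injective_of_map_injective (Y' : A') (h : Injective (ι.obj Y')) : Injective Y' := by
  constructor
  intro P Q g m _
  haveI : Mono (ι.map m) := inferInstance
  refine ⟨ι.preimage (Injective.factorThru (ι.map g) (ι.map m)), ι.map_injective ?_⟩
  rw [ι.map_comp, ι.map_preimage, Injective.comp_factorThru]

variable (hinj : ∀ X' : A', ∃ (Y' : A') (i : X' ⟶ Y'), Mono i ∧ Injective (ι.obj Y'))

include hinj

omit [HasDerivedCategory A'] [HasDerivedCategory A] [ι.Additive] [PreservesFiniteColimits ι] in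
lemma enoughInjectives : EnoughInjectives A' :=
  ⟨fun X' => by
    obtain ⟨Y', i, hi, hY'⟩ := hinj X'
    exact ⟨{ J := Y', injective := injective_of_map_injective ι Y' hY', f := i, mono := hi }⟩⟩

omit [HasDerivedCategory A'] [HasDerivedCategory A] [ι.Additive] [PreservesFiniteColimits ι]
  [PreservesFiniteLimits ι] [ι.Full] [ι.Faithful] in
lemma map_injective_of_injective (J : A') [Injective J] : Injective (ι.obj J) := by
  obtain ⟨Y', i, hi, hY'⟩ := hinj J
  haveI := hi
  haveI := hY'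
  have hr : i ≫ Injective.factorThru (𝟙 J) i = 𝟙 J := Injective.comp_factorThru _ _
  exact HorseshoeCx.injective_of_retract (ι.map i) (ι.map (Injective.factorThru (𝟙 J) i))
    (by rw [← ι.map_comp, hr, ι.map_id])

theorem main (X Y : DerivedCategory A') (b : ℤ) [Y.IsGE b] :
    Function.Bijective (fun f : X ⟶ Y => ι.mapDerivedCategory.map f) := by
  haveI := enoughInjectives ι hinj
  obtain ⟨K, hK, ⟨eY⟩⟩ := Y.exists_iso_Q_obj_of_isGE b
  obtain ⟨I, j, _, hj, hI, hIb⟩ := HorseshoeCx.exists_mono_quasiIso_injective_ge K b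
  haveI := hj
  haveI : ∀ q, Injective (I.X q) := hI
  haveI := hIb
  let β : Y ≅ DerivedCategory.Qh.obj ((HomotopyCategory.quotient _ _).obj I) :=
    eY ≪≫ asIso (DerivedCategory.Q.map j) ≪≫ ((DerivedCategory.quotientCompQhIso A').app I).symm
  let Mh : HomotopyCategory A' (ComplexShape.up ℤ) := DerivedCategory.Qh.objPreimage X
  let α : X ≅ DerivedCategory.Qh.obj Mh := (DerivedCategory.Qh.objObjPreimageIso X).symm
  apply bijective_map_of_iso _ α β
  haveI : I.IsKInjective := CochainComplex.isKInjective_of_injective I b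
  have hB1 := CochainComplex.IsKInjective.Qh_map_bijective Mh I
  let I' : CochainComplex A ℤ := (ι.mapHomologicalComplex (ComplexShape.up ℤ)).obj I
  haveI : ∀ q, Injective (I'.X q) := fun q => map_injective_of_injective ι hinj (I.X q)
  haveI : I'.IsStrictlyGE b := inferInstance
  haveI : I'.IsKInjective := CochainComplex.isKInjective_of_injective I' b
  let H := ι.mapHomotopyCategory (ComplexShape.up ℤ)
  let Iq := (HomotopyCategory.quotient A' (ComplexShape.up ℤ)).obj I
  have hB2 : Function.Bijective (DerivedCategory.Qh.map :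
      (H.obj Mh ⟶ H.obj Iq) → _) :=
    CochainComplex.IsKInjective.Qh_map_bijective (H.obj Mh) I'
  have hH : Function.Bijective (fun φ : Mh ⟶ Iq => H.map φ) :=
    ⟨H.map_injective, H.map_surjective⟩
  let e := ι.mapDerivedCategoryFactorsh
  have hconj : Function.Bijective (fun g : DerivedCategory.Qh.obj (H.obj Mh) ⟶
      DerivedCategory.Qh.obj (H.obj Iq) => e.hom.app Mh ≫ g ≫ e.inv.app Iq) :=
    ⟨fun f g hfg => (cancel_mono (e.inv.app Iq)).1 ((cancel_epi (e.hom.app Mh)).1 hfg),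
      fun g => ⟨e.inv.app Mh ≫ g ≫ e.hom.app Iq, by simp⟩⟩
  have hc : (fun f : DerivedCategory.Qh.obj Mh ⟶ DerivedCategory.Qh.obj Iq =>
        ι.mapDerivedCategory.map f) ∘ (DerivedCategory.Qh.map : (Mh ⟶ Iq) → _) =
      (fun g : DerivedCategory.Qh.obj (H.obj Mh) ⟶ DerivedCategory.Qh.obj (H.obj Iq) =>
        e.hom.app Mh ≫ g ≫ e.inv.app Iq) ∘ (DerivedCategory.Qh.map : (H.obj Mh ⟶ H.obj Iq) → _) ∘
        (fun φ : Mh ⟶ Iq => H.map φ) := by
    funext φ
    have nat : ι.mapDerivedCategory.map (DerivedCategory.Qh.map φ) ≫ e.hom.app Iq =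
        e.hom.app Mh ≫ DerivedCategory.Qh.map (H.map φ) := e.hom.naturality φ
    show ι.mapDerivedCategory.map (DerivedCategory.Qh.map φ) =
      e.hom.app Mh ≫ DerivedCategory.Qh.map (H.map φ) ≫ e.inv.app Iq
    rw [← Category.assoc, ← nat, Category.assoc, Iso.hom_inv_id_app]
    exact (Category.comp_id _).symm
  refine (Function.Bijective.of_comp_iff _ hB1).1 ?_
  rw [hc]
  exact hconj.comp (hB2.comp hH)

end Groth.Agent.Lib.DerFF
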