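import Mathlib

/-!
# Derivations extend to the adic completion (S18156)
-/

universe u v

namespace Groth.Agent.Lib.DerivCompletion

noncomputable section

variable {k : Type u} [CommRing k] {A : Type v} [CommRing A] [Algebra k A]

lemma deriv_pow_le (I : Ideal A) (D : Derivation k A A) (n : ℕ) :
    ∀ x ∈ I ^ (n + 1), D x ∈ I ^ n := by
  induction n with
  | zero => intro x _; simp
  | succ n ih =>
    intro x hx
    rw [pow_succ] at hx
    refine Submodule.mul_induction_on hx ?_ ?_
    · intro a ha b hb
      rw [Derivation.leibniz]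
      refine add_mem ?_ ?_
      · rw [smul_eq_mul]; exact Ideal.mul_mem_right _ _ ha
      · rw [smul_eq_mul, mul_comm, pow_succ]; exact Ideal.mul_mem_mul (ih a ha) hb
    · intro a b ha hb; rw [map_add]; exact add_mem ha hb

lemma deriv_smul_top (I : Ideal A) (D : Derivation k A A) (n : ℕ) (x : A)
    (hx : x ∈ (I ^ (n + 1) • ⊤ : Submodule A A)) : D x ∈ (I ^ n • ⊤ : Submodule A A) := by
  have e : ∀ m, (I ^ m • ⊤ : Submodule A A) = I ^ m := fun m => by
    show (I ^ m • (⊤ : Ideal A)) = I ^ m
    rw [smul_eq_mul, Ideal.mul_top]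
  rw [e] at hx ⊢
  exact deriv_pow_le I D n x hx

/-- `D` on the quotients. -/
def Dq (I : Ideal A) (D : Derivation k A A) (n : ℕ) :
    A ⧸ (I ^ (n + 1) • ⊤ : Submodule A A) → A ⧸ (I ^ n • ⊤ : Submodule A A) :=
  fun x => Quotient.liftOn' x (fun a => Submodule.Quotient.mk (D a)) (fun a b hab => by
    rw [Submodule.Quotient.eq, ← map_sub]
    exact deriv_smul_top I D n _ ((Submodule.quotientRel_def _).mp hab))

lemma Dq_mk (I : Ideal A) (D : Derivation k A A) (n : ℕ) (a : A) :
    Dq I D n (Submodule.Quotient.mk a) = Submodule.Quotient.mk (D a) := rfl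

lemma val_of_succ (I : Ideal A) (x : AdicCompletion I A) (n : ℕ) (a : A)
    (ha : Submodule.Quotient.mk a = x.val (n + 1)) : x.val n = Submodule.Quotient.mk a := by
  have := x.property (Nat.le_succ n)
  rw [← this, ← ha]
  rfl

/-- the extension as a function -/
def DhatFun (I : Ideal A) (D : Derivation k A A) (x : AdicCompletion I A) : AdicCompletion I A :=
  ⟨fun n => Dq I D n (x.val (n + 1)), by
    intro m n hmn
    show AdicCompletion.transitionMap I A hmn (Dq I D n (x.val (n + 1)))
      = Dq I D m (x.val (m + 1))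
    obtain ⟨a, ha⟩ := Submodule.Quotient.mk_surjective _ (x.val (n + 1))
    have h1 : x.val (m + 1) = Submodule.Quotient.mk a := by
      have := x.property (Nat.succ_le_succ hmn)
      rw [← this, ← ha]
      rfl
    rw [← ha, h1, Dq_mk, Dq_mk]
    rfl⟩

lemma DhatFun_val (I : Ideal A) (D : Derivation k A A) (x : AdicCompletion I A) (n : ℕ) :
    (DhatFun I D x).val n = Dq I D n (x.val (n + 1)) := rfl

/-- the extension as a linear map -/
def DhatLin (I : Ideal A) (D : Derivation k A A) :
    AdicCompletion I A →ₗ[k] AdicCompletion I A where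
  toFun := DhatFun I D
  map_add' x y := by
    apply AdicCompletion.ext
    intro n
    obtain ⟨a, ha⟩ := Submodule.Quotient.mk_surjective _ (x.val (n + 1))
    obtain ⟨b, hb⟩ := Submodule.Quotient.mk_surjective _ (y.val (n + 1))
    rw [AdicCompletion.val_add_apply, DhatFun_val, DhatFun_val, DhatFun_val,
      AdicCompletion.val_add_apply, ← ha, ← hb, ← Submodule.Quotient.mk_add, Dq_mk, Dq_mk, Dq_mk,
      map_add, Submodule.Quotient.mk_add]
  map_smul' c x := by
    simp only [RingHom.id_apply]
    apply AdicCompletion.ext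
    intro n
    obtain ⟨a, ha⟩ := Submodule.Quotient.mk_surjective _ (x.val (n + 1))
    rw [AdicCompletion.val_smul_apply, DhatFun_val, DhatFun_val, AdicCompletion.val_smul_apply,
      ← ha, ← Submodule.Quotient.mk_smul, Dq_mk, Dq_mk, D.map_smul, Submodule.Quotient.mk_smul]

/-- the extension as a derivation -/
def Dhat (I : Ideal A) (D : Derivation k A A) :
    Derivation k (AdicCompletion I A) (AdicCompletion I A) :=
  Derivation.mk' (DhatLin I D) (by
    intro x y
    apply AdicCompletion.ext
    intro n
    obtain ⟨a, ha⟩ := Submodule.Quotient.mk_surjective _ (x.val (n + 1))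
    obtain ⟨b, hb⟩ := Submodule.Quotient.mk_surjective _ (y.val (n + 1))
    have hxa : x.val n = Submodule.Quotient.mk a := val_of_succ I x n a ha
    have hyb : y.val n = Submodule.Quotient.mk b := val_of_succ I y n b hb
    show (DhatFun I D (x * y)).val n = (x * DhatFun I D y + y * DhatFun I D x).val n
    rw [AdicCompletion.val_add_apply, AdicCompletion.val_mul,
      AdicCompletion.val_mul, DhatFun_val, DhatFun_val, DhatFun_val, AdicCompletion.val_mul,
      ← ha, ← hb, hxa, hyb]
    show Dq I D n (Submodule.Quotient.mk (a * b)) = _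
    rw [Dq_mk, Dq_mk, Dq_mk, Derivation.leibniz]
    rfl)

theorem main (k : Type u) [Field k] (A : Type v) [CommRing A] [Algebra k A] [IsRegularLocalRing A]
    (D : Derivation k A A) :
    ∃ Dhat : Derivation k (AdicCompletion (IsLocalRing.maximalIdeal A) A)
        (AdicCompletion (IsLocalRing.maximalIdeal A) A),
      ∀ a : A, Dhat (algebraMap A (AdicCompletion (IsLocalRing.maximalIdeal A) A) a) =
        algebraMap A (AdicCompletion (IsLocalRing.maximalIdeal A) A) (D a) :=
  ⟨Dhat (IsLocalRing.maximalIdeal A) D, fun a => by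
    apply AdicCompletion.ext
    intro n
    rfl⟩

end

end Groth.Agent.Lib.DerivCompletion
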