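import Groth.Agent.Lib.DerivedTrunc_helper2
import Mathlib.Algebra.Homology.DerivedCategory.ShortExact
import Mathlib.Algebra.Homology.Embedding.AreComplementary

/-!
# Truncation triangles of cochain complexes in the derived category (helper2)

* `exists_triangle_ιTruncLE`: a distinguished triangle `Q(τ≤m L) → Q(L) → C → ` with `C ≥ m+1`;
* `exists_triangle_πTruncGE`: a distinguished triangle `C → Q(L) → Q(τ≥m L) → ` with `C ≤ m-1`;
* `eq_zero_of_isLE_of_isGE`: a map `Y → Z` with `Y ≤ m`, `Z ≥ m` vanishes iff it does on `Hᵐ`.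
-/

set_option autoImplicit false
open CategoryTheory Limits
universe w v u

namespace Groth.Agent.Lib.DerivedTruncCx_helper2

open DerivedCategory Pretriangulated ZeroObject Groth.Agent.Lib.DerivedTrunc_helper2

variable {A : Type u} [Category.{v} A] [Abelian A] [HasDerivedCategory.{w} A]

lemma exists_triangle_ιTruncLE (L : CochainComplex A ℤ) (m : ℤ) :
    ∃ (C' : DerivedCategory A) (g : Q.obj L ⟶ C')
      (h : C' ⟶ (shiftFunctor (DerivedCategory A) (1 : ℤ)).obj (Q.obj (L.truncLE m))),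
      Triangle.mk (Q.map (L.ιTruncLE m)) g h ∈ distTriang (DerivedCategory A) ∧
        C'.IsGE (m + 1) := by
  have hS := L.shortComplexTruncLE_shortExact m
  refine ⟨_, _, _, triangleOfSES_distinguished hS, ?_⟩
  have : IsIso (Q.map (L.shortComplexTruncLEX₃ToTruncGE m (m + 1) rfl)) := by
    rw [isIso_Q_map_iff_quasiIso]
    infer_instance
  exact (tt A).isGE_of_iso (asIso (Q.map (L.shortComplexTruncLEX₃ToTruncGE m (m + 1) rfl))).symm
    (m + 1)

lemma exists_triangle_πTruncGE (L : CochainComplex A ℤ) (m₀ m : ℤ) (hm : m₀ + 1 = m) :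
    ∃ (C' : DerivedCategory A) (f : C' ⟶ Q.obj L)
      (h : Q.obj (L.truncGE m) ⟶ (shiftFunctor (DerivedCategory A) (1 : ℤ)).obj C'),
      Triangle.mk f (Q.map (L.πTruncGE m)) h ∈ distTriang (DerivedCategory A) ∧
        C'.IsLE m₀ := by
  have hS := L.shortComplexTruncLE_shortExact m₀
  have hT := triangleOfSES_distinguished hS
  have : IsIso (Q.map (L.shortComplexTruncLEX₃ToTruncGE m₀ m hm)) := by
    rw [isIso_Q_map_iff_quasiIso]
    infer_instance
  let e := asIso (Q.map (L.shortComplexTruncLEX₃ToTruncGE m₀ m hm))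
  refine ⟨Q.obj (L.truncLE m₀), Q.map (L.ιTruncLE m₀), e.inv ≫ triangleOfSESδ hS,
    isomorphic_distinguished _ hT _ ?_, inferInstance⟩
  refine Triangle.isoMk _ _ (Iso.refl _) (Iso.refl _) e.symm ?_ ?_ ?_
  · show Q.map (L.ιTruncLE m₀) ≫ 𝟙 _ = 𝟙 _ ≫ Q.map (L.ιTruncLE m₀)
    rw [Category.comp_id, Category.id_comp]
  · show Q.map (L.πTruncGE m) ≫ e.inv = 𝟙 _ ≫ Q.map (L.shortComplexTruncLE m₀).g
    rw [Category.id_comp, ← cancel_mono e.hom, Category.assoc, e.inv_hom_id, Category.comp_id]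
    show Q.map (L.πTruncGE m) = Q.map (L.shortComplexTruncLE m₀).g ≫
      Q.map (L.shortComplexTruncLEX₃ToTruncGE m₀ m hm)
    rw [← Q.map_comp, L.g_shortComplexTruncLEX₃ToTruncGE m₀ m hm]
    rfl
  · show (e.inv ≫ triangleOfSESδ hS) ≫ (shiftFunctor (DerivedCategory A) (1 : ℤ)).map (𝟙 _) =
      e.inv ≫ triangleOfSESδ hS
    rw [CategoryTheory.Functor.map_id, Category.comp_id]

/-- A morphism `Y ⟶ Z` with `Y ≤ m` and `Z ≥ m` vanishes as soon as it does on `Hᵐ`. -/
lemma eq_zero_of_isLE_of_isGE {Y Z : DerivedCategory A} (m : ℤ) [Y.IsLE m] [Z.IsGE m]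
    (g : Y ⟶ Z) (hg : (homologyFunctor A m).map g = 0) : g = 0 := by
  obtain ⟨g', hg'⟩ := (tt A).descTruncGT_aux g (m - 1) m (by omega)
  have hY' : (((tt A).truncGT (m - 1)).obj Y).IsLE m := (isLE_iff _ m).2 (fun i hi => by
    have := epi_homology_map_truncGTπ Y (m - 1) i (by lia)
    exact IsZero.of_epi ((homologyFunctor A i).map (((tt A).truncGTπ (m - 1)).app Y))
      (isZero_of_isLE Y m i hi))
  obtain ⟨g'', hg''⟩ := (tt A).liftTruncLE_aux g' m
  have hZ' : (((tt A).truncLE m).obj Z).IsGE m := (isGE_iff _ m).2 (fun i hi => by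
    have := mono_homology_map_truncLEι Z m i (by lia)
    exact IsZero.of_mono ((homologyFunctor A i).map (((tt A).truncLEι m).app Z))
      (isZero_of_isGE Z m i hi))
  have h0 : g'' = 0 := by
    refine eq_zero_of_homology_map_eq_zero m g'' ?_
    have h1 := epi_homology_map_truncGTπ Y (m - 1) m (by lia)
    have h2 := mono_homology_map_truncLEι Z m m (by lia)
    rw [← cancel_epi ((homologyFunctor A m).map (((tt A).truncGTπ (m - 1)).app Y)),
      ← cancel_mono ((homologyFunctor A m).map (((tt A).truncLEι m).app Z)), comp_zero,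
      zero_comp, Category.assoc, ← Functor.map_comp, ← Functor.map_comp, ← hg'', ← hg', hg]
  rw [hg', hg'', h0, zero_comp, comp_zero]

end Groth.Agent.Lib.DerivedTruncCx_helper2
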