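import Groth.Agent.Lib.Desc4_helper8
import Groth.Agent.Lib.FlatBC4_helper8

/-!
# The fpqc sheaf condition for the flatness functor (helper8)
-/

universe u

open CategoryTheory CategoryTheory.Limits AlgebraicGeometry Opposite TopologicalSpace

namespace DescH8

theorem isFlatOverAt_of_iso {X S : Scheme.{u}} (f : X ⟶ S) {M M' : X.Modules} (e : M ≅ M')
    (x : X) (h : FlatMod.IsFlatOverAt f M x) : FlatMod.IsFlatOverAt f M' x := by
  unfold FlatMod.IsFlatOverAt at h ⊢
  letI := FlatMod.moduleStalkOver f M x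
  letI := FlatMod.moduleStalkOver f M' x
  have hb := stk_bijective_of_isIso e.inv x
  obtain ⟨L, hL⟩ : ∃ L : M'.presheaf.stalk x →ₗ[S.presheaf.stalk (f.base x)] M.presheaf.stalk x,
      ∀ m, L m = stk e.inv x m :=
    ⟨{ toFun := stk e.inv x
       map_add' := fun a b => map_add _ a b
       map_smul' := fun r m => stk_smul e.inv x ((f.stalkMap x).hom r) m }, fun _ => rfl⟩
  have hLb : Function.Bijective L := by
    have : (L : _ → _) = stk e.inv x := funext hL
    rw [this]; exact hb
  exact Module.Flat.of_linearEquiv (LinearEquiv.ofBijective L hLb)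

variable {X S : Scheme.{u}} (f : X ⟶ S) (F : X.Modules) [F.IsQuasicoherent]

theorem isSheaf_flat :
    Presheaf.IsSheaf (QuotSh.J Scheme.fpqcPrecoverage S)
      (FlatFun.genPSp S (fun T => FlatMod.IsFlatOver (PicF.XTproj f T) (FGA.ET f F T))) := by
  apply SubShfH8.isSheaf_genPSp
  · intro T T₀ g hP x'
    have h1 := FlatBC2H8.isFlatOverAt_pullback (isPullback_XTmap f g) (FGA.ET f F T₀) x'
      (hP _)
    exact isFlatOverAt_of_iso _ (FGA.ETiso f F g) x' h1
  · intro T R₀ hR₀ hP z
    have hc0 := isFlatCover_of_mem_fpqc hR₀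
    obtain ⟨T', g, hg, t', ht'⟩ := hc0.surj (pullback.snd f T.hom z)
    obtain ⟨z', hz'⟩ := exists_XTmap_eq f (ovrHom T g) z t' ht'
    haveI : Flat g := hc0.flat hg
    have h1 := isFlatOverAt_of_iso _ (FGA.ETiso f F (ovrHom T g)).symm z' (hP g hg z')
    have h2 := FlatBC2H8.isFlatOverAt_of_pullback (isPullback_XTmap f (ovrHom T g))
      (FGA.ET f F T) z' (Flat.stalkMap g _) h1
    rw [hz'] at h2
    exact h2

end DescH8
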