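import Mathlib
import Groth.Prelude.Def_DescFam

/-!
# Pullback of descent data along a morphism of families is fully faithful when the source
family covers (fpqc, or any subcanonical topology)
-/

universe w' w u

open CategoryTheory CategoryTheory.Limits AlgebraicGeometry Opposite

namespace Groth.Agent.Lib.DescFF

variable {S : Scheme.{u}} {ι : Type w'} {κ : Type w} {U : ι → Scheme.{u}} {V : κ → Scheme.{u}}
  {fU : ∀ i, U i ⟶ S} {fV : ∀ j, V j ⟶ S} {α : ι → κ} {g : ∀ i, U i ⟶ V (α i)}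
  (w : ∀ i, g i ≫ fV (α i) = fU i ≫ 𝟙 S)

section Theta

variable {D D' : Desc.SchDDFam fV}
  (β : (Desc.pullDDFam w).obj D ⟶ (Desc.pullDDFam w).obj D')

/-- The transported lift. -/
noncomputable def Θ {T : Scheme.{u}} {j : κ} (x₀ : T ⟶ V j) (v₀ : Desc.Lifts (D.obj j) x₀)
    (i : ι) (c : T ⟶ U i) (hc : x₀ ≫ fV j = (c ≫ g i) ≫ fV (α i)) : Desc.Lifts (D'.obj j) x₀ :=
  D'.φ (c ≫ g i) x₀ hc.symm
    (Desc.liftsPullbackEquiv (D'.obj (α i)) (g i) c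
      (Desc.SchDDFam.Hom.push β
        ((Desc.liftsPullbackEquiv (D.obj (α i)) (g i) c).symm (D.φ x₀ (c ≫ g i) hc v₀))))

include w in
lemma hcc {T : Scheme.{u}} {j : κ} (x₀ : T ⟶ V j) {i₁ i₂ : ι} (c₁ : T ⟶ U i₁) (c₂ : T ⟶ U i₂)
    (hc₁ : x₀ ≫ fV j = (c₁ ≫ g i₁) ≫ fV (α i₁)) (hc₂ : x₀ ≫ fV j = (c₂ ≫ g i₂) ≫ fV (α i₂)) :
    c₁ ≫ fU i₁ = c₂ ≫ fU i₂ := by
  have h1 : ∀ (i : ι) (c : T ⟶ U i), (c ≫ g i) ≫ fV (α i) = c ≫ fU i := fun i c => by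
    rw [Category.assoc, w, Category.comp_id]
  rw [← h1, ← h1, ← hc₁, ← hc₂]

lemma Θ_indep {T : Scheme.{u}} {j : κ} (x₀ : T ⟶ V j) (v₀ : Desc.Lifts (D.obj j) x₀)
    {i₁ i₂ : ι} (c₁ : T ⟶ U i₁) (c₂ : T ⟶ U i₂)
    (hc₁ : x₀ ≫ fV j = (c₁ ≫ g i₁) ≫ fV (α i₁)) (hc₂ : x₀ ≫ fV j = (c₂ ≫ g i₂) ≫ fV (α i₂)) :
    Θ w β x₀ v₀ i₁ c₁ hc₁ = Θ w β x₀ v₀ i₂ c₂ hc₂ := by
  have h12 := hcc w x₀ c₁ c₂ hc₁ hc₂
  set l₁ := (Desc.liftsPullbackEquiv (D.obj (α i₁)) (g i₁) c₁).symm (D.φ x₀ (c₁ ≫ g i₁) hc₁ v₀)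
    with hl₁
  set l₂ := (Desc.liftsPullbackEquiv (D.obj (α i₂)) (g i₂) c₂).symm (D.φ x₀ (c₂ ≫ g i₂) hc₂ v₀)
    with hl₂
  have e1 : ((Desc.pullDDFam w).obj D).φ c₁ c₂ h12 l₁ = l₂ := by
    show (Desc.liftsPullbackEquiv (D.obj (α i₂)) (g i₂) c₂).symm
      (D.φ (c₁ ≫ g i₁) (c₂ ≫ g i₂) _ ((Desc.liftsPullbackEquiv (D.obj (α i₁)) (g i₁) c₁) l₁)) = l₂
    rw [hl₁, Equiv.apply_symm_apply, D.φ_comp]
  have key := β.comm c₁ c₂ h12 l₁ (Desc.SchDDFam.Hom.push β l₁) rfl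
  have e2 : ((Desc.pullDDFam w).obj D').φ c₁ c₂ h12 (Desc.SchDDFam.Hom.push β l₁) =
      Desc.SchDDFam.Hom.push β l₂ := by
    apply Subtype.ext
    rw [key, e1]
    rfl
  have e3 : (Desc.liftsPullbackEquiv (D'.obj (α i₂)) (g i₂) c₂) (Desc.SchDDFam.Hom.push β l₂) =
      D'.φ (c₁ ≫ g i₁) (c₂ ≫ g i₂) (hc₁.symm.trans hc₂)
        ((Desc.liftsPullbackEquiv (D'.obj (α i₁)) (g i₁) c₁) (Desc.SchDDFam.Hom.push β l₁)) := by
    rw [← e2]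
    show (Desc.liftsPullbackEquiv (D'.obj (α i₂)) (g i₂) c₂)
      ((Desc.liftsPullbackEquiv (D'.obj (α i₂)) (g i₂) c₂).symm _) = _
    rw [Equiv.apply_symm_apply]
  show D'.φ (c₁ ≫ g i₁) x₀ hc₁.symm _ = D'.φ (c₂ ≫ g i₂) x₀ hc₂.symm _
  rw [e3, D'.φ_comp]

lemma Θ_natural {T T' : Scheme.{u}} (σ : T' ⟶ T) {j : κ} (x₀ : T ⟶ V j)
    (v₀ : Desc.Lifts (D.obj j) x₀) (i : ι) (c : T ⟶ U i)
    (hc : x₀ ≫ fV j = (c ≫ g i) ≫ fV (α i))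
    (y₀ : T' ⟶ V j) (hy : σ ≫ x₀ = y₀) (v₀' : Desc.Lifts (D.obj j) y₀) (hv : v₀'.1 = σ ≫ v₀.1)
    (c' : T' ⟶ U i) (hc' : σ ≫ c = c')
    (hc'' : y₀ ≫ fV j = (c' ≫ g i) ≫ fV (α i)) :
    (Θ w β y₀ v₀' i c' hc'').1 = σ ≫ (Θ w β x₀ v₀ i c hc).1 := by
  subst hy hc'
  unfold Θ
  refine D'.φ_natural σ (c ≫ g i) x₀ hc.symm ((σ ≫ c) ≫ g i) (σ ≫ x₀) (Category.assoc _ _ _).symm rfl
    hc''.symm _ _ ?_
  have h1 : (D.φ (σ ≫ x₀) ((σ ≫ c) ≫ g i) hc'' v₀').1 = σ ≫ (D.φ x₀ (c ≫ g i) hc v₀).1 :=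
    D.φ_natural σ x₀ (c ≫ g i) hc (σ ≫ x₀) ((σ ≫ c) ≫ g i) rfl (Category.assoc _ _ _).symm hc''
      v₀ v₀' hv
  have h2 : ((Desc.liftsPullbackEquiv (D.obj (α i)) (g i) (σ ≫ c)).symm
      (D.φ (σ ≫ x₀) ((σ ≫ c) ≫ g i) hc'' v₀')).1 =
      σ ≫ ((Desc.liftsPullbackEquiv (D.obj (α i)) (g i) c).symm (D.φ x₀ (c ≫ g i) hc v₀)).1 := by
    apply pullback.hom_ext
    · exact (pullback.lift_fst _ _ _).trans
        (h1.trans ((congrArg (σ ≫ ·) (pullback.lift_fst _ _ _).symm).trans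
          (Category.assoc _ _ _).symm))
    · exact (pullback.lift_snd _ _ _).trans
        ((congrArg (σ ≫ ·) (pullback.lift_snd _ _ _).symm).trans (Category.assoc _ _ _).symm)
  show ((Desc.SchDDFam.Hom.push β _).1 ≫ pullback.fst _ _) =
    σ ≫ ((Desc.SchDDFam.Hom.push β _).1 ≫ pullback.fst _ _)
  show ((_ ≫ (β.hom i).left) ≫ pullback.fst _ _) = σ ≫ ((_ ≫ (β.hom i).left) ≫ pullback.fst _ _)
  rw [h2]
  exact (Category.assoc _ _ _).trans (congrArg (σ ≫ ·) (Category.assoc _ _ _).symm)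

lemma Θ_φ {T : Scheme.{u}} {j j' : κ} (x₀ : T ⟶ V j) (x₀' : T ⟶ V j')
    (h : x₀ ≫ fV j = x₀' ≫ fV j') (v₀ : Desc.Lifts (D.obj j) x₀)
    (i : ι) (c : T ⟶ U i) (hc : x₀ ≫ fV j = (c ≫ g i) ≫ fV (α i)) :
    D'.φ x₀ x₀' h (Θ w β x₀ v₀ i c hc) =
      Θ w β x₀' (D.φ x₀ x₀' h v₀) i c (h.symm.trans hc) := by
  unfold Θ
  rw [D'.φ_comp, D.φ_comp]

lemma Θ_self {T : Scheme.{u}} (i : ι) (c : T ⟶ U i) (v₀ : Desc.Lifts (D.obj (α i)) (c ≫ g i)) :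
    (Θ w β (c ≫ g i) v₀ i c rfl).1 =
      pullback.lift v₀.1 c v₀.2 ≫ (β.hom i).left ≫ pullback.fst _ _ := by
  unfold Θ
  rw [D'.φ_self, D.φ_self]
  show ((_ ≫ (β.hom i).left) ≫ pullback.fst _ _) = _
  rw [Category.assoc]
  rfl

end Theta

section Main

variable (J : GrothendieckTopology Scheme.{u}) [J.Subcanonical]
  (H : ∀ j, Sieve.pullback (fV j) (Sieve.ofArrows U fU) ∈ J (V j))

omit [J.Subcanonical] in
include H in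
lemma sieve_mem {T : Scheme.{u}} {j : κ} (x₀ : T ⟶ V j) :
    Sieve.pullback (x₀ ≫ fV j) (Sieve.ofArrows U fU) ∈ J T := by
  rw [Sieve.pullback_comp]
  exact J.pullback_stable x₀ (H j)

include w in
lemma mem_iff {T T' : Scheme.{u}} {j : κ} (x₀ : T ⟶ V j) (σ : T' ⟶ T) :
    (Sieve.pullback (x₀ ≫ fV j) (Sieve.ofArrows U fU)).arrows σ ↔
      ∃ (i : ι) (c : T' ⟶ U i), (σ ≫ x₀) ≫ fV j = (c ≫ g i) ≫ fV (α i) := by
  have h1 : ∀ (i : ι) (c : T' ⟶ U i), (c ≫ g i) ≫ fV (α i) = c ≫ fU i := fun i c => by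
    rw [Category.assoc, w, Category.comp_id]
  show (Sieve.ofArrows U fU).arrows (σ ≫ x₀ ≫ fV j) ↔ _
  rw [Sieve.mem_ofArrows_iff]
  constructor
  · rintro ⟨i, c, hc⟩
    exact ⟨i, c, by rw [h1, Category.assoc, hc]⟩
  · rintro ⟨i, c, hc⟩
    exact ⟨i, c, by rw [← h1, ← hc, Category.assoc]⟩

variable {D D' : Desc.SchDDFam fV}
  (β : (Desc.pullDDFam w).obj D ⟶ (Desc.pullDDFam w).obj D')

include H in
theorem exists_hom (j : κ) : ∃ b : (D.obj j).left ⟶ (D'.obj j).left,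
    ∀ {T : Scheme.{u}} (x₀ : T ⟶ V j) (v₀ : Desc.Lifts (D.obj j) x₀) (i : ι) (c : T ⟶ U i)
      (hc : x₀ ≫ fV j = (c ≫ g i) ≫ fV (α i)), v₀.1 ≫ b = (Θ w β x₀ v₀ i c hc).1 := by
  let R := Sieve.pullback ((D.obj j).hom ≫ fV j) (Sieve.ofArrows U fU)
  have hR : R ∈ J (D.obj j).left := sieve_mem J H _
  have hsh : Presieve.IsSheafFor (yoneda.obj (D'.obj j).left) R.arrows :=
    GrothendieckTopology.Subcanonical.isSheaf_of_isRepresentable (J := J) _ R hR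
  have hex : ∀ {T' : Scheme.{u}} (ρ : T' ⟶ (D.obj j).left), R.arrows ρ →
      ∃ (i : ι) (c : T' ⟶ U i), (ρ ≫ (D.obj j).hom) ≫ fV j = (c ≫ g i) ≫ fV (α i) :=
    fun ρ hρ => (mem_iff w _ ρ).mp hρ
  let x : Presieve.FamilyOfElements (yoneda.obj (D'.obj j).left) R.arrows := fun T' ρ hρ =>
    (Θ w β (ρ ≫ (D.obj j).hom) ⟨ρ, rfl⟩ (hex ρ hρ).choose (hex ρ hρ).choose_spec.choose
      (hex ρ hρ).choose_spec.choose_spec).1
  have hx : x.Compatible := by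
    intro Y₁ Y₂ Z g₁ g₂ f₁ f₂ h₁ h₂ hgf
    show g₁ ≫ x f₁ h₁ = g₂ ≫ x f₂ h₂
    have hc₁ := (hex f₁ h₁).choose_spec.choose_spec
    have hc₂ := (hex f₂ h₂).choose_spec.choose_spec
    have hq₁ : ((g₁ ≫ f₁) ≫ (D.obj j).hom) ≫ fV j =
        ((g₁ ≫ (hex f₁ h₁).choose_spec.choose) ≫ g _) ≫ fV (α _) := by
      have := congrArg (g₁ ≫ ·) hc₁
      simpa only [Category.assoc] using this
    have hq₂ : ((g₁ ≫ f₁) ≫ (D.obj j).hom) ≫ fV j =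
        ((g₂ ≫ (hex f₂ h₂).choose_spec.choose) ≫ g _) ≫ fV (α _) := by
      rw [hgf]
      have := congrArg (g₂ ≫ ·) hc₂
      simpa only [Category.assoc] using this
    have n1 := Θ_natural w β g₁ (f₁ ≫ (D.obj j).hom) ⟨f₁, rfl⟩ _ _ hc₁
      ((g₁ ≫ f₁) ≫ (D.obj j).hom) (Category.assoc _ _ _).symm ⟨g₁ ≫ f₁, rfl⟩ rfl _ rfl hq₁
    have n2 := Θ_natural w β g₂ (f₂ ≫ (D.obj j).hom) ⟨f₂, rfl⟩ _ _ hc₂
      ((g₁ ≫ f₁) ≫ (D.obj j).hom) (by rw [hgf, Category.assoc]) ⟨g₁ ≫ f₁, rfl⟩ hgf _ rfl hq₂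
    exact n1.symm.trans ((congrArg Subtype.val (Θ_indep w β _ _ _ _ hq₁ hq₂)).trans n2)
  refine ⟨hsh.amalgamate x hx, ?_⟩
  intro T x₀ v₀ i c hc
  obtain ⟨ρ, hρ⟩ := v₀
  subst hρ
  have hRρ : R.arrows ρ := (mem_iff w _ ρ).mpr ⟨i, c, hc⟩
  have hglue := hsh.valid_glue hx ρ hRρ
  have hglue' : ρ ≫ hsh.amalgamate x hx = x ρ hRρ := hglue
  rw [hglue']
  exact congrArg Subtype.val (Θ_indep w β _ _ _ _ _ hc)

end Main

section Thm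

variable (J : GrothendieckTopology Scheme.{u}) [J.Subcanonical]
  (H : ∀ j, Sieve.pullback (fV j) (Sieve.ofArrows U fU) ∈ J (V j))

include H in
theorem faithful : (Desc.pullDDFam w).Faithful := by
  refine ⟨fun {D D'} b c hbc => ?_⟩
  apply Desc.SchDDFam.hom_ext
  funext j
  apply Over.OverMorphism.ext
  have hsep := (GrothendieckTopology.Subcanonical.isSheaf_of_isRepresentable (J := J)
    (yoneda.obj (D'.obj j).left) _ (sieve_mem J H (D.obj j).hom)).isSeparatedFor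
  refine hsep.ext ?_
  intro T ρ hρ
  show ρ ≫ (b.hom j).left = ρ ≫ (c.hom j).left
  obtain ⟨i, c₀, hc⟩ := (mem_iff w _ ρ).mp hρ
  let v₀ : Desc.Lifts (D.obj j) (ρ ≫ (D.obj j).hom) := ⟨ρ, rfl⟩
  let u₀ := D.φ _ _ hc v₀
  have hu : u₀.1 ≫ (D.obj (α i)).hom = c₀ ≫ g i := u₀.2
  have hb := b.comm _ _ hc v₀ (b.push v₀) rfl
  have hc' := c.comm _ _ hc v₀ (c.push v₀) rfl
  have key : u₀.1 ≫ (b.hom (α i)).left = u₀.1 ≫ (c.hom (α i)).left := by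
    have hl : pullback.lift u₀.1 c₀ hu ≫ pullback.fst (D.obj (α i)).hom (g i) = u₀.1 :=
      pullback.lift_fst _ _ _
    have mb : ∀ γ : D ⟶ D', (Desc.SchDDFam.Hom.hom ((Desc.pullDDFam w).map γ) i).left ≫
        pullback.fst (D'.obj (α i)).hom (g i) =
        pullback.fst (D.obj (α i)).hom (g i) ≫ (γ.hom (α i)).left := fun γ => pullback.lift_fst _ _ _
    rw [← hl, Category.assoc, Category.assoc, ← mb b, ← mb c, hbc]
  have hφ : D'.φ _ _ hc (b.push v₀) = D'.φ _ _ hc (c.push v₀) := by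
    apply Subtype.ext
    rw [hb, hc']; exact key
  have hpush : b.push v₀ = c.push v₀ := (D'.φ _ _ hc).injective hφ
  exact congrArg Subtype.val hpush

include H in
theorem full : (Desc.pullDDFam w).Full := by
  refine ⟨fun {D D'} β => ?_⟩
  choose b hb using fun j => exists_hom w J H β j
  have hO : ∀ j, b j ≫ (D'.obj j).hom = (D.obj j).hom := by
    intro j
    have hsep := (GrothendieckTopology.Subcanonical.isSheaf_of_isRepresentable (J := J)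
      (yoneda.obj (V j)) _ (sieve_mem J H (D.obj j).hom)).isSeparatedFor
    refine hsep.ext ?_
    intro T ρ hρ
    show ρ ≫ b j ≫ (D'.obj j).hom = ρ ≫ (D.obj j).hom
    obtain ⟨i, c, hc⟩ := (mem_iff w _ ρ).mp hρ
    have h1 := hb j (ρ ≫ (D.obj j).hom) ⟨ρ, rfl⟩ i c hc
    have h2 : ρ ≫ b j = (Θ w β (ρ ≫ (D.obj j).hom) ⟨ρ, rfl⟩ i c hc).1 := h1
    rw [← Category.assoc, h2]
    exact (Θ w β (ρ ≫ (D.obj j).hom) ⟨ρ, rfl⟩ i c hc).2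
  have hcomm : ∀ ⦃T : Scheme.{u}⦄ ⦃j j' : κ⦄ (x₀ : T ⟶ V j) (x₁ : T ⟶ V j')
      (h : x₀ ≫ fV j = x₁ ≫ fV j') (v : Desc.Lifts (D.obj j) x₀) (w' : Desc.Lifts (D'.obj j) x₀),
      w'.1 = v.1 ≫ b j → (D'.φ x₀ x₁ h w').1 = (D.φ x₀ x₁ h v).1 ≫ b j' := by
    intro T j j' x₀ x₁ h v w' hw'
    have hsep := (GrothendieckTopology.Subcanonical.isSheaf_of_isRepresentable (J := J)
      (yoneda.obj (D'.obj j').left) _ (sieve_mem J H x₀)).isSeparatedFor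
    refine hsep.ext ?_
    intro T' σ hσ
    show σ ≫ (D'.φ x₀ x₁ h w').1 = σ ≫ (D.φ x₀ x₁ h v).1 ≫ b j'
    obtain ⟨i, c, hc⟩ := (mem_iff w _ σ).mp hσ
    have h' : (σ ≫ x₀) ≫ fV j = (σ ≫ x₁) ≫ fV j' := by
      rw [Category.assoc, Category.assoc, h]
    let v' : Desc.Lifts (D.obj j) (σ ≫ x₀) := ⟨σ ≫ v.1, by rw [Category.assoc, v.2]⟩
    let w'' : Desc.Lifts (D'.obj j) (σ ≫ x₀) := ⟨σ ≫ w'.1, by rw [Category.assoc, w'.2]⟩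
    have e1 : (D'.φ (σ ≫ x₀) (σ ≫ x₁) h' w'').1 = σ ≫ (D'.φ x₀ x₁ h w').1 :=
      D'.φ_natural σ x₀ x₁ h (σ ≫ x₀) (σ ≫ x₁) rfl rfl h' w' w'' rfl
    have e2 : (D.φ (σ ≫ x₀) (σ ≫ x₁) h' v').1 = σ ≫ (D.φ x₀ x₁ h v).1 :=
      D.φ_natural σ x₀ x₁ h (σ ≫ x₀) (σ ≫ x₁) rfl rfl h' v v' rfl
    have e3 : w'' = Θ w β (σ ≫ x₀) v' i c hc := by
      apply Subtype.ext
      rw [← hb j (σ ≫ x₀) v' i c hc]
      show σ ≫ w'.1 = (σ ≫ v.1) ≫ b j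
      rw [hw', Category.assoc]
    rw [← e1, e3, Θ_φ w β (σ ≫ x₀) (σ ≫ x₁) h' v' i c hc, ← hb j', e2, Category.assoc]
  let B : D ⟶ D' := ⟨fun j => Over.homMk (b j) (hO j), fun T j j' x₀ x₁ h v w' hw' =>
    hcomm x₀ x₁ h v w' hw'⟩
  refine ⟨B, ?_⟩
  apply Desc.SchDDFam.hom_ext
  funext i
  apply Over.OverMorphism.ext
  apply pullback.hom_ext
  · have m1 : (Desc.SchDDFam.Hom.hom ((Desc.pullDDFam w).map B) i).left ≫
        pullback.fst (D'.obj (α i)).hom (g i) =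
        pullback.fst (D.obj (α i)).hom (g i) ≫ b (α i) := pullback.lift_fst _ _ _
    refine m1.trans ?_
    have h1 := hb (α i) (pullback.snd (D.obj (α i)).hom (g i) ≫ g i)
      ⟨pullback.fst (D.obj (α i)).hom (g i), pullback.condition⟩ i
      (pullback.snd (D.obj (α i)).hom (g i)) rfl
    refine h1.trans ?_
    rw [Θ_self]
    have : pullback.lift (pullback.fst (D.obj (α i)).hom (g i))
        (pullback.snd (D.obj (α i)).hom (g i)) pullback.condition = 𝟙 _ := by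
      apply pullback.hom_ext
      · rw [pullback.lift_fst, Category.id_comp]
      · rw [pullback.lift_snd, Category.id_comp]
    rw [this, Category.id_comp]
    rfl
  · have m1 : (Desc.SchDDFam.Hom.hom ((Desc.pullDDFam w).map B) i).left ≫
        pullback.snd (D'.obj (α i)).hom (g i) =
        pullback.snd (D.obj (α i)).hom (g i) ≫ 𝟙 _ := pullback.lift_snd _ _ _
    refine m1.trans ?_
    rw [Category.comp_id]
    exact (Over.w (β.hom i)).symm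

end Thm

end Groth.Agent.Lib.DescFF
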