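import Mathlib
import Groth.Prelude.Def_DescFam
import Groth.Agent.Lib.DescIso_helper9
import Groth.Agent.Lib.DescFF_helper9
import Groth.Agent.Lib.ZarDesc1_helper6

/-!
# Pullback of descent data along a Zariski refinement of families is essentially surjective
-/

set_option backward.isDefEq.respectTransparency false
set_option backward.isDefEq.respectTransparency.types false

universe u

open CategoryTheory CategoryTheory.Limits AlgebraicGeometry Opposite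

namespace Groth.Agent.Lib.ZarDescH6

section refine

variable {ι κ : Type u} {S : Scheme.{u}} {U : ι → Scheme.{u}} {V : κ → Scheme.{u}}
  {u : ∀ i, U i ⟶ S} {v : ∀ j, V j ⟶ S} {α : ι → κ} (g : ∀ i, U i ⟶ V (α i))
  (w : ∀ i, g i ≫ v (α i) = u i)

/-- The members of the family over `V j`. -/
def gj (j : κ) (i : {i // α i = j}) : U i.1 ⟶ V j := g i.1 ≫ eqToHom (congrArg V i.2)

include w in
@[reassoc]
lemma gj_v (j : κ) (i : {i // α i = j}) : gj g j i ≫ v j = u i.1 := by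
  obtain ⟨i, rfl⟩ := i
  simp [gj, w]

lemma gj_rfl (i : ι) : gj g (α i) ⟨i, rfl⟩ = g i := by
  simp [gj]

include w in
lemma res_compat {T : Scheme.{u}} {j : κ} {i i' : {i // α i = j}} (x₀ : T ⟶ U i.1)
    (x₁ : T ⟶ U i'.1) (h : x₀ ≫ gj g j i = x₁ ≫ gj g j i') : x₀ ≫ u i.1 = x₁ ≫ u i'.1 := by
  rw [← gj_v g w j i, ← gj_v g w j i', ← Category.assoc, h, Category.assoc]

variable (D' : Desc.SchDDFam u)

/-- The restriction of a descent datum relative to `u` to the members over `V j`. -/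
def resDD (j : κ) : Desc.SchDDFam (gj g j) where
  obj i := D'.obj i.1
  φ _ _ _ x₀ x₁ h := D'.φ x₀ x₁ (res_compat g w x₀ x₁ h)
  φ_natural _ _ σ _ _ x₀ x₁ h y₀ y₁ hy₀ hy₁ h' y y' hy :=
    D'.φ_natural σ x₀ x₁ (res_compat g w x₀ x₁ h) y₀ y₁ hy₀ hy₁ (res_compat g w y₀ y₁ h') y y' hy
  φ_self _ _ x y := D'.φ_self x y
  φ_comp _ _ _ _ x₀ x₁ x₂ h₀₁ h₁₂ y := D'.φ_comp x₀ x₁ x₂ _ _ y

section loc

variable (E : ∀ j, Over (V j)) (ε : ∀ j (i : {i // α i = j}), (D'.obj i.1).left ⟶ (E j).left)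
  (hpb : ∀ j i, IsPullback (D'.obj i.1).hom (ε j i) (gj g j i) (E j).hom)
  (hK : ∀ j ⦃T : Scheme.{u}⦄ ⦃i i' : {i // α i = j}⦄ (x₀ : T ⟶ U i.1) (x₁ : T ⟶ U i'.1)
    (h : x₀ ≫ gj g j i = x₁ ≫ gj g j i') (y : Desc.Lifts (D'.obj i.1) x₀),
    (D'.φ x₀ x₁ (res_compat g w x₀ x₁ h) y).1 ≫ ε j i' = y.1 ≫ ε j i)

/-- The local lift of a point of `E j` to `D'.obj i`. -/
noncomputable def yl {T : Scheme.{u}} {j : κ} (z : T ⟶ (E j).left) (i : {i // α i = j})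
    (a : T ⟶ U i.1) (ha : a ≫ gj g j i = z ≫ (E j).hom) : Desc.Lifts (D'.obj i.1) a :=
  ⟨(hpb j i).lift a z ha, (hpb j i).lift_fst _ _ _⟩

lemma yl_ε {T : Scheme.{u}} {j : κ} (z : T ⟶ (E j).left) (i : {i // α i = j})
    (a : T ⟶ U i.1) (ha : a ≫ gj g j i = z ≫ (E j).hom) :
    (yl g D' E ε hpb z i a ha).1 ≫ ε j i = z := (hpb j i).lift_snd _ _ _

lemma yl_unique {T : Scheme.{u}} {j : κ} (z : T ⟶ (E j).left) (i : {i // α i = j})
    (a : T ⟶ U i.1) (ha : a ≫ gj g j i = z ≫ (E j).hom) (y : Desc.Lifts (D'.obj i.1) a)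
    (hy : y.1 ≫ ε j i = z) : y = yl g D' E ε hpb z i a ha :=
  Subtype.ext ((hpb j i).hom_ext (y.2.trans ((hpb j i).lift_fst _ _ _).symm)
    (hy.trans ((hpb j i).lift_snd _ _ _).symm))

lemma yl_nat {T T' : Scheme.{u}} (τ : T' ⟶ T) {j : κ} (z : T ⟶ (E j).left) (i : {i // α i = j})
    (a : T ⟶ U i.1) (ha : a ≫ gj g j i = z ≫ (E j).hom)
    (ha' : (τ ≫ a) ≫ gj g j i = (τ ≫ z) ≫ (E j).hom) :
    (yl g D' E ε hpb (τ ≫ z) i (τ ≫ a) ha').1 = τ ≫ (yl g D' E ε hpb z i a ha).1 := by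
  apply (hpb j i).hom_ext
  · rw [Category.assoc]
    exact ((hpb j i).lift_fst _ _ _).trans (congrArg (τ ≫ ·) ((hpb j i).lift_fst _ _ _).symm)
  · rw [Category.assoc]
    exact ((hpb j i).lift_snd _ _ _).trans (congrArg (τ ≫ ·) ((hpb j i).lift_snd _ _ _).symm)

/-- The local transport of a point of `E j` to a point of `E j'`. -/
noncomputable def L {T : Scheme.{u}} {j j' : κ} (z : T ⟶ (E j).left) (i : {i // α i = j})
    (a : T ⟶ U i.1) (ha : a ≫ gj g j i = z ≫ (E j).hom) (i' : {i // α i = j'})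
    (a' : T ⟶ U i'.1) (hh : a ≫ u i.1 = a' ≫ u i'.1) : T ⟶ (E j').left :=
  (D'.φ a a' hh (yl g D' E ε hpb z i a ha)).1 ≫ ε j' i'

lemma L_hom {T : Scheme.{u}} {j j' : κ} (z : T ⟶ (E j).left) (i : {i // α i = j})
    (a : T ⟶ U i.1) (ha : a ≫ gj g j i = z ≫ (E j).hom) (i' : {i // α i = j'})
    (a' : T ⟶ U i'.1) (hh : a ≫ u i.1 = a' ≫ u i'.1) :
    L g D' E ε hpb z i a ha i' a' hh ≫ (E j').hom = a' ≫ gj g j' i' := by
  unfold L
  rw [Category.assoc, ← (hpb j' i').w, ← Category.assoc]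
  exact congrArg (· ≫ gj g j' i') (D'.φ a a' hh (yl g D' E ε hpb z i a ha)).2

lemma L_nat {T T' : Scheme.{u}} (τ : T' ⟶ T) {j j' : κ} (z : T ⟶ (E j).left)
    (i : {i // α i = j}) (a : T ⟶ U i.1) (ha : a ≫ gj g j i = z ≫ (E j).hom)
    (i' : {i // α i = j'}) (a' : T ⟶ U i'.1) (hh : a ≫ u i.1 = a' ≫ u i'.1)
    (ha' : (τ ≫ a) ≫ gj g j i = (τ ≫ z) ≫ (E j).hom)
    (hh' : (τ ≫ a) ≫ u i.1 = (τ ≫ a') ≫ u i'.1) :
    L g D' E ε hpb (τ ≫ z) i (τ ≫ a) ha' i' (τ ≫ a') hh' =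
      τ ≫ L g D' E ε hpb z i a ha i' a' hh := by
  unfold L
  rw [← Category.assoc]
  congr 1
  exact φ_nat D' τ a a' hh (yl g D' E ε hpb z i a ha) (τ ≫ a) (τ ≫ a') rfl rfl hh'
    (yl g D' E ε hpb (τ ≫ z) i (τ ≫ a) ha') (yl_nat g D' E ε hpb τ z i a ha ha')

include hK in
lemma L_indep {T : Scheme.{u}} {j j' : κ} (z : T ⟶ (E j).left) (i : {i // α i = j})
    (a : T ⟶ U i.1) (ha : a ≫ gj g j i = z ≫ (E j).hom) (i' : {i // α i = j'})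
    (a' : T ⟶ U i'.1) (hh : a ≫ u i.1 = a' ≫ u i'.1)
    (k : {i // α i = j}) (b : T ⟶ U k.1) (hb : b ≫ gj g j k = z ≫ (E j).hom)
    (k' : {i // α i = j'}) (b' : T ⟶ U k'.1) (hh' : b ≫ u k.1 = b' ≫ u k'.1)
    (hab' : a' ≫ gj g j' i' = b' ≫ gj g j' k') :
    L g D' E ε hpb z i a ha i' a' hh = L g D' E ε hpb z k b hb k' b' hh' := by
  have hab : a ≫ gj g j i = b ≫ gj g j k := ha.trans hb.symm
  have e1 : yl g D' E ε hpb z k b hb =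
      D'.φ a b (res_compat g w a b hab) (yl g D' E ε hpb z i a ha) := by
    symm
    apply yl_unique
    rw [hK j a b hab, yl_ε]
  unfold L
  rw [e1, D'.φ_comp]
  have e2 : D'.φ a b' ((res_compat g w a b hab).trans hh') (yl g D' E ε hpb z i a ha) =
      D'.φ a' b' (res_compat g w a' b' hab') (D'.φ a a' hh (yl g D' E ε hpb z i a ha)) := by
    rw [D'.φ_comp]
  rw [e2, hK j' a' b' hab']

include hK in
lemma L_self {T : Scheme.{u}} {j : κ} (z : T ⟶ (E j).left) (i : {i // α i = j})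
    (a : T ⟶ U i.1) (ha : a ≫ gj g j i = z ≫ (E j).hom) (i' : {i // α i = j})
    (a' : T ⟶ U i'.1) (hh : a ≫ u i.1 = a' ≫ u i'.1)
    (haa' : a ≫ gj g j i = a' ≫ gj g j i') :
    L g D' E ε hpb z i a ha i' a' hh = z := by
  unfold L
  rw [hK j a a' haa', yl_ε]

lemma L_congr {T : Scheme.{u}} {j j' : κ} {z z₂ : T ⟶ (E j).left} (hz : z = z₂)
    (i : {i // α i = j}) (a : T ⟶ U i.1) (ha : a ≫ gj g j i = z ≫ (E j).hom)
    (ha₂ : a ≫ gj g j i = z₂ ≫ (E j).hom) (i' : {i // α i = j'})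
    (a' : T ⟶ U i'.1) (hh : a ≫ u i.1 = a' ≫ u i'.1) :
    L g D' E ε hpb z i a ha i' a' hh = L g D' E ε hpb z₂ i a ha₂ i' a' hh := by
  subst hz
  rfl

/-- The covering sieve of `T` attached to a point of `V j`. -/
def sv {T : Scheme.{u}} {j : κ} (x : T ⟶ V j) : Sieve T :=
  Sieve.pullback x (Sieve.ofArrows _ (gj g j))

lemma mem_sv_iff {T T' : Scheme.{u}} {j : κ} (x : T ⟶ V j) (σ : T' ⟶ T) :
    (sv g x).arrows σ ↔ ∃ (i : {i // α i = j}) (a : T' ⟶ U i.1), a ≫ gj g j i = σ ≫ x := by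
  show (Sieve.ofArrows _ (gj g j)).arrows (σ ≫ x) ↔ _
  rw [Sieve.mem_ofArrows_iff]
  constructor
  · rintro ⟨i, a, h⟩
    exact ⟨i, a, h.symm⟩
  · rintro ⟨i, a, h⟩
    exact ⟨i, a, h.symm⟩

variable (J : GrothendieckTopology Scheme.{u}) [J.Subcanonical]
  (hsv : ∀ (j : κ) ⦃T : Scheme.{u}⦄ (x : T ⟶ V j), sv g x ∈ J T)

/-- `z'` is the transport of `z` (characterised locally). -/
def IsΦ {T : Scheme.{u}} {j j' : κ} (x₁ : T ⟶ V j') (z : T ⟶ (E j).left)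
    (z' : T ⟶ (E j').left) : Prop :=
  ∀ ⦃T' : Scheme.{u}⦄ (σ : T' ⟶ T) (i : {i // α i = j}) (a : T' ⟶ U i.1)
    (ha : a ≫ gj g j i = (σ ≫ z) ≫ (E j).hom) (i' : {i // α i = j'}) (a' : T' ⟶ U i'.1)
    (_ : a' ≫ gj g j' i' = σ ≫ x₁) (hh : a ≫ u i.1 = a' ≫ u i'.1),
    σ ≫ z' = L g D' E ε hpb (σ ≫ z) i a ha i' a' hh

include w in
lemma hh_of {T T' : Scheme.{u}} {j j' : κ} (x₁ : T ⟶ V j') (z : T ⟶ (E j).left)
    (h : (z ≫ (E j).hom) ≫ v j = x₁ ≫ v j') (σ : T' ⟶ T) (i : {i // α i = j}) (a : T' ⟶ U i.1)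
    (ha : a ≫ gj g j i = (σ ≫ z) ≫ (E j).hom) (i' : {i // α i = j'}) (a' : T' ⟶ U i'.1)
    (ha' : a' ≫ gj g j' i' = σ ≫ x₁) : a ≫ u i.1 = a' ≫ u i'.1 := by
  rw [← gj_v g w j i, ← gj_v g w j' i', ← Category.assoc, ha, ← Category.assoc a', ha',
    Category.assoc, Category.assoc, Category.assoc, ← h, Category.assoc]

include w hK hsv in
theorem isΦ_unique {T : Scheme.{u}} {j j' : κ} (x₁ : T ⟶ V j') (z : T ⟶ (E j).left)
    (h : (z ≫ (E j).hom) ≫ v j = x₁ ≫ v j') (z' z'' : T ⟶ (E j').left)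
    (h' : IsΦ g D' E ε hpb x₁ z z') (h'' : IsΦ g D' E ε hpb x₁ z z'') : z' = z'' := by
  have hR : sv g (z ≫ (E j).hom) ⊓ sv g x₁ ∈ J T :=
    J.intersection_covering (hsv _ _) (hsv _ _)
  have hsep := (GrothendieckTopology.Subcanonical.isSheaf_of_isRepresentable
    (J := J) (yoneda.obj (E j').left) _ hR).isSeparatedFor
  refine hsep.ext ?_
  intro T' σ hσ
  obtain ⟨i, a, ha⟩ := (mem_sv_iff g _ σ).mp hσ.1
  obtain ⟨i', a', ha'⟩ := (mem_sv_iff g _ σ).mp hσ.2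
  have ha₂ : a ≫ gj g j i = (σ ≫ z) ≫ (E j).hom := by rw [ha, Category.assoc]
  have hh := hh_of g w E x₁ z h σ i a ha₂ i' a' ha'
  show σ ≫ z' = σ ≫ z''
  rw [h' σ i a ha₂ i' a' ha' hh, h'' σ i a ha₂ i' a' ha' hh]

include w hK hsv in
theorem exists_isΦ {T : Scheme.{u}} {j j' : κ} (x₁ : T ⟶ V j') (z : T ⟶ (E j).left)
    (h : (z ≫ (E j).hom) ≫ v j = x₁ ≫ v j') :
    ∃ z' : T ⟶ (E j').left, z' ≫ (E j').hom = x₁ ∧ IsΦ g D' E ε hpb x₁ z z' := by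
  have hR : sv g (z ≫ (E j).hom) ⊓ sv g x₁ ∈ J T :=
    J.intersection_covering (hsv _ _) (hsv _ _)
  set R := sv g (z ≫ (E j).hom) ⊓ sv g x₁ with hRdef
  have hsh : Presieve.IsSheafFor (yoneda.obj (E j').left) R.arrows :=
    GrothendieckTopology.Subcanonical.isSheaf_of_isRepresentable
      (J := J) _ R hR
  have hex : ∀ {T' : Scheme.{u}} (σ : T' ⟶ T), R.arrows σ →
      ∃ (i : {i // α i = j}) (a : T' ⟶ U i.1) (_ : a ≫ gj g j i = (σ ≫ z) ≫ (E j).hom)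
        (i' : {i // α i = j'}) (a' : T' ⟶ U i'.1) (_ : a' ≫ gj g j' i' = σ ≫ x₁),
        a ≫ u i.1 = a' ≫ u i'.1 := by
    intro T' σ hσ
    obtain ⟨i, a, ha⟩ := (mem_sv_iff g _ σ).mp hσ.1
    obtain ⟨i', a', ha'⟩ := (mem_sv_iff g _ σ).mp hσ.2
    have ha₂ : a ≫ gj g j i = (σ ≫ z) ≫ (E j).hom := by rw [ha, Category.assoc]
    exact ⟨i, a, ha₂, i', a', ha', hh_of g w E x₁ z h σ i a ha₂ i' a' ha'⟩
  choose ci ca cha ci' ca' cha' chh using @hex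
  let x : Presieve.FamilyOfElements (yoneda.obj (E j').left) R.arrows := fun T' σ hσ =>
    L g D' E ε hpb (σ ≫ z) (ci σ hσ) (ca σ hσ) (cha σ hσ) (ci' σ hσ) (ca' σ hσ) (chh σ hσ)
  have key : ∀ {T' : Scheme.{u}} (σ : T' ⟶ T) (hσ : R.arrows σ) (i : {i // α i = j})
      (a : T' ⟶ U i.1) (ha : a ≫ gj g j i = (σ ≫ z) ≫ (E j).hom) (i' : {i // α i = j'})
      (a' : T' ⟶ U i'.1) (_ : a' ≫ gj g j' i' = σ ≫ x₁) (hh : a ≫ u i.1 = a' ≫ u i'.1),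
      x σ hσ = L g D' E ε hpb (σ ≫ z) i a ha i' a' hh := by
    intro T' σ hσ i a ha i' a' ha' hh
    exact L_indep g w D' E ε hpb hK _ _ _ _ _ _ _ _ _ ha _ _ hh ((cha' σ hσ).trans ha'.symm)
  have hx : x.Compatible := by
    intro Y₁ Y₂ Z g₁ g₂ f₁ f₂ h₁ h₂ hgf
    show g₁ ≫ x f₁ h₁ = g₂ ≫ x f₂ h₂
    have hz : g₁ ≫ f₁ ≫ z = g₂ ≫ f₂ ≫ z := by
      rw [← Category.assoc, hgf, Category.assoc]
    have a1 : (g₁ ≫ ca f₁ h₁) ≫ gj g j (ci f₁ h₁) = (g₁ ≫ f₁ ≫ z) ≫ (E j).hom := by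
      rw [Category.assoc, cha f₁ h₁, Category.assoc, Category.assoc, Category.assoc]
    have a2 : (g₂ ≫ ca f₂ h₂) ≫ gj g j (ci f₂ h₂) = (g₂ ≫ f₂ ≫ z) ≫ (E j).hom := by
      rw [Category.assoc, cha f₂ h₂, Category.assoc, Category.assoc, Category.assoc]
    have a2' : (g₂ ≫ ca f₂ h₂) ≫ gj g j (ci f₂ h₂) = (g₁ ≫ f₁ ≫ z) ≫ (E j).hom := by
      rw [hz]; exact a2
    have b1 : (g₁ ≫ ca f₁ h₁) ≫ u (ci f₁ h₁).1 = (g₁ ≫ ca' f₁ h₁) ≫ u (ci' f₁ h₁).1 := by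
      rw [Category.assoc, chh f₁ h₁, Category.assoc]
    have b2 : (g₂ ≫ ca f₂ h₂) ≫ u (ci f₂ h₂).1 = (g₂ ≫ ca' f₂ h₂) ≫ u (ci' f₂ h₂).1 := by
      rw [Category.assoc, chh f₂ h₂, Category.assoc]
    have c12 : (g₁ ≫ ca' f₁ h₁) ≫ gj g j' (ci' f₁ h₁) =
        (g₂ ≫ ca' f₂ h₂) ≫ gj g j' (ci' f₂ h₂) := by
      rw [Category.assoc, cha' f₁ h₁, Category.assoc, cha' f₂ h₂, ← Category.assoc, hgf,
        Category.assoc]
    rw [← L_nat g D' E ε hpb g₁ (f₁ ≫ z) _ _ (cha f₁ h₁) _ _ (chh f₁ h₁) a1 b1,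
      ← L_nat g D' E ε hpb g₂ (f₂ ≫ z) _ _ (cha f₂ h₂) _ _ (chh f₂ h₂) a2 b2,
      ← L_congr g D' E ε hpb hz _ _ a2' a2 _ _ b2]
    exact L_indep g w D' E ε hpb hK _ _ _ a1 _ _ b1 _ _ a2' _ _ b2 c12
  refine ⟨hsh.amalgamate x hx, ?_, ?_⟩
  · have hsep := (GrothendieckTopology.Subcanonical.isSheaf_of_isRepresentable
      (J := J) (yoneda.obj (V j')) _ hR).isSeparatedFor
    refine hsep.ext ?_
    intro T' σ hσ
    show σ ≫ hsh.amalgamate x hx ≫ (E j').hom = σ ≫ x₁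
    have hglue : σ ≫ hsh.amalgamate x hx = x σ hσ := hsh.valid_glue hx σ hσ
    rw [← Category.assoc, hglue]
    exact (L_hom g D' E ε hpb _ _ _ _ _ _ _).trans (cha' σ hσ)
  · intro T' σ i a ha i' a' ha' hh
    have hσ : R.arrows σ := by
      refine ⟨(mem_sv_iff g _ σ).mpr ⟨i, a, ?_⟩, (mem_sv_iff g _ σ).mpr ⟨i', a', ha'⟩⟩
      rw [ha, Category.assoc]
    have hglue : σ ≫ hsh.amalgamate x hx = x σ hσ := hsh.valid_glue hx σ hσ
    rw [hglue]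
    exact key σ hσ i a ha i' a' ha' hh

lemma isΦ_precomp {T T' : Scheme.{u}} (τ : T' ⟶ T) {j j' : κ} (x₁ : T ⟶ V j')
    (z : T ⟶ (E j).left) (z' : T ⟶ (E j').left) (h' : IsΦ g D' E ε hpb x₁ z z') :
    IsΦ g D' E ε hpb (τ ≫ x₁) (τ ≫ z) (τ ≫ z') := by
  intro T'' σ i a ha i' a' ha' hh
  have hz : (σ ≫ τ) ≫ z = σ ≫ τ ≫ z := Category.assoc _ _ _
  have ha₂ : a ≫ gj g j i = ((σ ≫ τ) ≫ z) ≫ (E j).hom := by rw [hz]; exact ha
  rw [← Category.assoc, h' (σ ≫ τ) i a ha₂ i' a' (by rw [ha', Category.assoc]) hh]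
  exact L_congr g D' E ε hpb hz _ _ _ _ _ _ _

include hK in
lemma isΦ_self {T : Scheme.{u}} {j : κ} (z : T ⟶ (E j).left) :
    IsΦ g D' E ε hpb (z ≫ (E j).hom) z z := by
  intro T' σ i a ha i' a' ha' hh
  exact (L_self g w D' E ε hpb hK _ _ _ _ _ _ _
    (ha.trans ((Category.assoc _ _ _).trans ha'.symm))).symm

include w hK hsv in
lemma isΦ_comp {T : Scheme.{u}} {j j' j'' : κ} (x₁ : T ⟶ V j') (x₂ : T ⟶ V j'')
    (z : T ⟶ (E j).left) (z' : T ⟶ (E j').left) (z'' : T ⟶ (E j'').left)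
    (hz' : z' ≫ (E j').hom = x₁) (h : (z ≫ (E j).hom) ≫ v j = x₁ ≫ v j')
    (h' : IsΦ g D' E ε hpb x₁ z z') (h'' : IsΦ g D' E ε hpb x₂ z' z'') :
    IsΦ g D' E ε hpb x₂ z z'' := by
  intro T' σ i a ha i'' a'' ha'' hh
  have hR : sv g (σ ≫ x₁) ∈ J T' := hsv _ _
  have hsep := (GrothendieckTopology.Subcanonical.isSheaf_of_isRepresentable
    (J := J) (yoneda.obj (E j'').left) _ hR).isSeparatedFor
  refine hsep.ext ?_
  intro T'' τ hτ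
  show τ ≫ σ ≫ z'' = τ ≫ L g D' E ε hpb (σ ≫ z) i a ha i'' a'' hh
  obtain ⟨i', a', ha'⟩ := (mem_sv_iff g _ τ).mp hτ
  -- the point `τ ≫ σ`
  have hz : (τ ≫ σ) ≫ z = τ ≫ σ ≫ z := Category.assoc _ _ _
  have e0 : (τ ≫ a) ≫ gj g j i = ((τ ≫ σ) ≫ z) ≫ (E j).hom := by
    rw [Category.assoc, ha, hz, Category.assoc, Category.assoc, Category.assoc]
  have e0' : (τ ≫ a) ≫ gj g j i = (τ ≫ σ ≫ z) ≫ (E j).hom := by rw [← hz]; exact e0
  have e1 : a' ≫ gj g j' i' = (τ ≫ σ) ≫ x₁ := by rw [ha', Category.assoc]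
  have e1' : a' ≫ gj g j' i' = ((τ ≫ σ) ≫ z') ≫ (E j').hom := by
    rw [e1, ← hz']
    simp only [Category.assoc]
  have e2 : (τ ≫ a'') ≫ gj g j'' i'' = (τ ≫ σ) ≫ x₂ := by
    rw [Category.assoc, ha'', Category.assoc]
  have hh01 : (τ ≫ a) ≫ u i.1 = a' ≫ u i'.1 :=
    hh_of g w E x₁ z h (τ ≫ σ) i (τ ≫ a) e0 i' a' e1
  have hh02 : (τ ≫ a) ≫ u i.1 = (τ ≫ a'') ≫ u i''.1 := by
    rw [Category.assoc, hh, Category.assoc]
  have hh12 : a' ≫ u i'.1 = (τ ≫ a'') ≫ u i''.1 := hh01.symm.trans hh02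
  have s1 := h' (τ ≫ σ) i (τ ≫ a) e0 i' a' e1 hh01
  have s2 := h'' (τ ≫ σ) i' a' e1' i'' (τ ≫ a'') e2 hh12
  rw [← L_nat g D' E ε hpb τ (σ ≫ z) i a ha i'' a'' hh e0' hh02, ← Category.assoc, s2]
  -- identify the local lift of the middle point
  have e3 : yl g D' E ε hpb ((τ ≫ σ) ≫ z') i' a' e1' =
      D'.φ (τ ≫ a) a' hh01 (yl g D' E ε hpb ((τ ≫ σ) ≫ z) i (τ ≫ a) e0) := by
    symm
    apply yl_unique
    exact s1.symm
  unfold L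
  rw [e3, D'.φ_comp]
  congr 2

/-- The transport of lifts. -/
noncomputable def Φfun {T : Scheme.{u}} {j j' : κ} (x₀ : T ⟶ V j) (x₁ : T ⟶ V j')
    (h : x₀ ≫ v j = x₁ ≫ v j') (z : Desc.Lifts (E j) x₀) : Desc.Lifts (E j') x₁ :=
  ⟨(exists_isΦ g w D' E ε hpb hK J hsv x₁ z.1 (by rw [z.2]; exact h)).choose,
    (exists_isΦ g w D' E ε hpb hK J hsv x₁ z.1 (by rw [z.2]; exact h)).choose_spec.1⟩

lemma Φfun_spec {T : Scheme.{u}} {j j' : κ} (x₀ : T ⟶ V j) (x₁ : T ⟶ V j')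
    (h : x₀ ≫ v j = x₁ ≫ v j') (z : Desc.Lifts (E j) x₀) :
    IsΦ g D' E ε hpb x₁ z.1 (Φfun g w D' E ε hpb hK J hsv x₀ x₁ h z).1 :=
  (exists_isΦ g w D' E ε hpb hK J hsv x₁ z.1 (by rw [z.2]; exact h)).choose_spec.2

lemma Φfun_eq_of_isΦ {T : Scheme.{u}} {j j' : κ} (x₀ : T ⟶ V j) (x₁ : T ⟶ V j')
    (h : x₀ ≫ v j = x₁ ≫ v j') (z : Desc.Lifts (E j) x₀) (z' : Desc.Lifts (E j') x₁)
    (hz' : IsΦ g D' E ε hpb x₁ z.1 z'.1) : Φfun g w D' E ε hpb hK J hsv x₀ x₁ h z = z' :=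
  Subtype.ext (isΦ_unique g w D' E ε hpb hK J hsv x₁ z.1 (by rw [z.2]; exact h) _ _
    (Φfun_spec g w D' E ε hpb hK J hsv x₀ x₁ h z) hz')

lemma Φfun_self {T : Scheme.{u}} {j : κ} (x : T ⟶ V j) (z : Desc.Lifts (E j) x) :
    Φfun g w D' E ε hpb hK J hsv x x rfl z = z := by
  apply Φfun_eq_of_isΦ
  have := isΦ_self g w D' E ε hpb hK z.1
  rwa [z.2] at this

lemma Φfun_comp {T : Scheme.{u}} {j j' j'' : κ} (x₀ : T ⟶ V j) (x₁ : T ⟶ V j') (x₂ : T ⟶ V j'')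
    (h₀₁ : x₀ ≫ v j = x₁ ≫ v j') (h₁₂ : x₁ ≫ v j' = x₂ ≫ v j'') (z : Desc.Lifts (E j) x₀) :
    Φfun g w D' E ε hpb hK J hsv x₁ x₂ h₁₂ (Φfun g w D' E ε hpb hK J hsv x₀ x₁ h₀₁ z) =
      Φfun g w D' E ε hpb hK J hsv x₀ x₂ (h₀₁.trans h₁₂) z := by
  symm
  apply Φfun_eq_of_isΦ
  exact isΦ_comp g w D' E ε hpb hK J hsv x₁ x₂ z.1 _ _
    (Φfun g w D' E ε hpb hK J hsv x₀ x₁ h₀₁ z).2 (by rw [z.2]; exact h₀₁)
    (Φfun_spec g w D' E ε hpb hK J hsv x₀ x₁ h₀₁ z)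
    (Φfun_spec g w D' E ε hpb hK J hsv x₁ x₂ h₁₂ _)

lemma Φfun_natural {T T' : Scheme.{u}} (τ : T' ⟶ T) {j j' : κ} (x₀ : T ⟶ V j) (x₁ : T ⟶ V j')
    (h : x₀ ≫ v j = x₁ ≫ v j') (y₀ : T' ⟶ V j) (y₁ : T' ⟶ V j') (hy₀ : τ ≫ x₀ = y₀)
    (hy₁ : τ ≫ x₁ = y₁) (h' : y₀ ≫ v j = y₁ ≫ v j') (z : Desc.Lifts (E j) x₀)
    (zz : Desc.Lifts (E j) y₀) (hzz : zz.1 = τ ≫ z.1) :
    (Φfun g w D' E ε hpb hK J hsv y₀ y₁ h' zz).1 =
      τ ≫ (Φfun g w D' E ε hpb hK J hsv x₀ x₁ h z).1 := by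
  subst hy₀ hy₁
  have h1 := isΦ_precomp g D' E ε hpb τ x₁ z.1 _ (Φfun_spec g w D' E ε hpb hK J hsv x₀ x₁ h z)
  rw [← hzz] at h1
  have e := Φfun_eq_of_isΦ g w D' E ε hpb hK J hsv (τ ≫ x₀) (τ ≫ x₁) h' zz
    ⟨τ ≫ (Φfun g w D' E ε hpb hK J hsv x₀ x₁ h z).1, by
      rw [Category.assoc, (Φfun g w D' E ε hpb hK J hsv x₀ x₁ h z).2]⟩ h1
  exact congrArg Subtype.val e

/-- The glued descent datum relative to `v`. -/
noncomputable def glueDD : Desc.SchDDFam v where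
  obj := E
  φ _ _ _ x₀ x₁ h :=
    { toFun := Φfun g w D' E ε hpb hK J hsv x₀ x₁ h
      invFun := Φfun g w D' E ε hpb hK J hsv x₁ x₀ h.symm
      left_inv := fun z => by rw [Φfun_comp, Φfun_self]
      right_inv := fun z => by rw [Φfun_comp, Φfun_self] }
  φ_natural _ _ τ _ _ x₀ x₁ h y₀ y₁ hy₀ hy₁ h' z zz hzz :=
    Φfun_natural g w D' E ε hpb hK J hsv τ x₀ x₁ h y₀ y₁ hy₀ hy₁ h' z zz hzz
  φ_self _ _ x z := Φfun_self g w D' E ε hpb hK J hsv x z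
  φ_comp _ _ _ _ x₀ x₁ x₂ h₀₁ h₁₂ z := Φfun_comp g w D' E ε hpb hK J hsv x₀ x₁ x₂ h₀₁ h₁₂ z

include hpb in
lemma hp (i : ι) : IsPullback (D'.obj i).hom (ε (α i) ⟨i, rfl⟩) (g i) (E (α i)).hom := by
  have := hpb (α i) ⟨i, rfl⟩
  rwa [gj_rfl] at this

theorem nonempty_pull_glueDD_iso (w' : ∀ i, g i ≫ v (α i) = u i ≫ 𝟙 S) :
    Nonempty ((Desc.pullDDFam (f := v) (f' := u) (α := α) (p := 𝟙 S) (p' := g) w').obj
      (glueDD g w D' E ε hpb hK J hsv) ≅ D') := by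
  let P := (Desc.pullDDFam (f := v) (f' := u) (α := α) (p := 𝟙 S) (p' := g) w').obj
      (glueDD g w D' E ε hpb hK J hsv)
  let ei : ∀ i, P.obj i ≅ D'.obj i := fun i =>
    (Over.isoMk (hp g D' E ε hpb i).flip.isoPullback
      ((hp g D' E ε hpb i).flip.isoPullback_hom_snd)).symm
  have hei : ∀ i, (ei i).hom.left = (hp g D' E ε hpb i).flip.isoPullback.inv := fun i => rfl
  refine ⟨Groth.Agent.Lib.DescIso.isoMk ei ?_⟩
  intro T i i' x₀ x₁ h p q hq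
  rw [hei] at hq
  rw [hei, ← cancel_mono (hp g D' E ε hpb i').flip.isoPullback.hom, Category.assoc,
    Iso.inv_hom_id, Category.comp_id]
  -- the point of `E (α i)` underlying `p`
  have hz : (p.1 ≫ pullback.fst (E (α i)).hom (g i)) ≫ (E (α i)).hom = x₀ ≫ g i := by
    rw [Category.assoc, pullback.condition, ← Category.assoc]
    exact congrArg (· ≫ g i) p.2
  let z : Desc.Lifts (E (α i)) (x₀ ≫ g i) := ⟨p.1 ≫ pullback.fst _ _, hz⟩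
  have hcomp : (x₀ ≫ g i) ≫ v (α i) = (x₁ ≫ g i') ≫ v (α i') :=
    Desc.pull_compat (f := v) (f' := u) (α := α) (p := 𝟙 S) (p' := g) w' x₀ x₁ h
  have hPφ : (P.φ x₀ x₁ h p).1 =
      pullback.lift (Φfun g w D' E ε hpb hK J hsv (x₀ ≫ g i) (x₁ ≫ g i') hcomp z).1 x₁
        (Φfun g w D' E ε hpb hK J hsv (x₀ ≫ g i) (x₁ ≫ g i') hcomp z).2 := rfl
  rw [hPφ]
  have ha : x₀ ≫ gj g (α i) ⟨i, rfl⟩ = (𝟙 T ≫ z.1) ≫ (E (α i)).hom := by
    rw [gj_rfl, Category.id_comp]; exact hz.symm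
  have ha' : x₁ ≫ gj g (α i') ⟨i', rfl⟩ = 𝟙 T ≫ x₁ ≫ g i' := by
    rw [gj_rfl, Category.id_comp]
  have hyl : q = yl g D' E ε hpb (𝟙 T ≫ z.1) ⟨i, rfl⟩ x₀ ha := by
    refine yl_unique g D' E ε hpb (𝟙 T ≫ z.1) ⟨i, rfl⟩ x₀ ha q ?_
    rw [Category.id_comp]
    show q.1 ≫ ε (α i) ⟨i, rfl⟩ = p.1 ≫ pullback.fst _ _
    rw [hq, Category.assoc]
    exact congrArg (p.1 ≫ ·) (hp g D' E ε hpb i).flip.isoPullback_inv_fst
  apply pullback.hom_ext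
  · rw [Category.assoc, IsPullback.isoPullback_hom_fst, pullback.lift_fst]
    have s := Φfun_spec g w D' E ε hpb hK J hsv (x₀ ≫ g i) (x₁ ≫ g i') hcomp z (𝟙 T)
      ⟨i, rfl⟩ x₀ ha ⟨i', rfl⟩ x₁ ha' h
    rw [Category.id_comp] at s
    rw [s, hyl]
    rfl
  · rw [Category.assoc, IsPullback.isoPullback_hom_snd, pullback.lift_snd]
    exact (D'.φ x₀ x₁ h q).2

end loc

section main

variable (hcov : ∀ j, Presieve.ofArrows (fun i : {i // α i = j} => U i.1) (gj g j) ∈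
  Scheme.zariskiPrecoverage (V j))

include hcov in
lemma sv_mem {T : Scheme.{u}} {j : κ} (x : T ⟶ V j) : sv g x ∈ Scheme.zariskiTopology T :=
  Scheme.zariskiTopology.pullback_stable x (Precoverage.generate_mem_toGrothendieck (hcov j))

include w hcov in
theorem essSurj (w' : ∀ i, g i ≫ v (α i) = u i ≫ 𝟙 S) :
    (Desc.pullDDFam (f := v) (f' := u) (α := α) (p := 𝟙 S) (p' := g) w').EssSurj := by
  refine ⟨fun D' => ?_⟩
  have hoi : ∀ j (i : {i // α i = j}), IsOpenImmersion (gj g j i) := fun j =>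
    ((Scheme.ofArrows_mem_precoverage_iff _).mp (hcov j)).2
  have hsurj : ∀ j (x : V j), ∃ i : {i // α i = j}, x ∈ Set.range (gj g j i) := fun j =>
    ((Scheme.ofArrows_mem_precoverage_iff _).mp (hcov j)).1
  have hgl := fun j =>
    haveI := hoi j
    exists_glue (gj g j) (hsurj j) (resDD g w D' j)
  choose E ε hpb hK using hgl
  obtain ⟨e⟩ := nonempty_pull_glueDD_iso g w D' E ε hpb
    (fun j T i i' x₀ x₁ h y => hK j x₀ x₁ h y) Scheme.zariskiTopology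
    (fun j T x => sv_mem g hcov x) w'
  exact ⟨_, ⟨e⟩⟩

include w hcov in
theorem isEquivalence (w' : ∀ i, g i ≫ v (α i) = u i ≫ 𝟙 S) :
    (Desc.pullDDFam (f := v) (f' := u) (α := α) (p := 𝟙 S) (p' := g) w').IsEquivalence := by
  have H : ∀ j : κ, Sieve.pullback (v j) (Sieve.ofArrows U u) ∈ Scheme.zariskiTopology (V j) := by
    intro j
    refine GrothendieckTopology.superset_covering _ ?_
      (Precoverage.generate_mem_toGrothendieck (hcov j))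
    rintro T _ ⟨W, a, _, ⟨⟨i, hi⟩⟩, rfl⟩
    show (Sieve.ofArrows U u).arrows ((a ≫ g i ≫ eqToHom (congrArg V hi)) ≫ v j)
    rw [Sieve.mem_ofArrows_iff]
    refine ⟨i, a, ?_⟩
    subst hi
    rw [eqToHom_refl, Category.comp_id, Category.assoc, w]
  exact
    { faithful := Groth.Agent.Lib.DescFF.faithful (fU := u) (fV := v) (α := α) (g := g) w'
        Scheme.zariskiTopology H
      full := Groth.Agent.Lib.DescFF.full (fU := u) (fV := v) (α := α) (g := g) w'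
        Scheme.zariskiTopology H
      essSurj := essSurj g w hcov w' }

end main

end refine

section sigma

/-- Descent data relative to a family and relative to the induced morphism from the coproduct
are equivalent (via pullback along the coprojections). -/
theorem sigma_isEquivalence {ι : Type u} {S : Scheme.{u}} {X : ι → Scheme.{u}} (f : ∀ i, X i ⟶ S) :
    (Desc.SchDDFam.ofSchDD (Sigma.desc f) ⋙
      Desc.pullDDFam (f := fun _ : PUnit.{u + 1} => Sigma.desc f) (f' := f) (α := fun _ => PUnit.unit)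
        (p := 𝟙 S) (p' := fun i => Sigma.ι X i)
        (fun i => (Sigma.ι_desc f i).trans (Category.comp_id (f i)).symm)).IsEquivalence := by
  have h1 : (Desc.SchDDFam.ofSchDD.{u, u} (Sigma.desc f)).IsEquivalence :=
    inferInstanceAs ((Desc.SchDDFam.oneEquiv.{u, u} (Sigma.desc f)).inverse).IsEquivalence
  have hcov : ∀ j : PUnit.{u + 1}, Presieve.ofArrows
      (fun i : {i : ι // (fun _ : ι => PUnit.unit.{u + 1}) i = j} => X i.1)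
      (gj (V := fun _ : PUnit.{u + 1} => ∐ X)
        (α := fun _ : ι => PUnit.unit.{u + 1}) (fun i => Sigma.ι X i) j) ∈
      Scheme.zariskiPrecoverage (∐ X) := by
    intro j
    rw [Scheme.ofArrows_mem_precoverage_iff]
    refine ⟨fun x => ?_, fun i => ?_⟩
    · obtain ⟨⟨i, y⟩, rfl⟩ := (sigmaMk X).surjective x
      refine ⟨⟨i, rfl⟩, y, ?_⟩
      rw [sigmaMk_mk]
      simp [gj]
    · show IsOpenImmersion (Sigma.ι X i.1 ≫ eqToHom _)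
      infer_instance
  have h2 := isEquivalence (u := f)
    (v := fun _ : PUnit.{u + 1} => Sigma.desc f) (α := fun _ : ι => PUnit.unit.{u + 1})
    (fun i => Sigma.ι X i) (fun i => Sigma.ι_desc f i) hcov
    (fun i => (Sigma.ι_desc f i).trans (Category.comp_id (f i)).symm)
  exact Functor.isEquivalence_trans _ _

end sigma

end Groth.Agent.Lib.ZarDescH6
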