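import Mathlib
import Groth.Prelude.Def_DescFam
import Groth.Agent.Lib.DescIso_helper9
import Groth.Agent.Lib.DescFF_helper9
import Groth.Agent.Lib.ZarDesc2_helper6

/-!
# Descent data: pullback of canonical data, and descending locally effective data
-/

set_option backward.isDefEq.respectTransparency false
set_option backward.isDefEq.respectTransparency.types false

universe w' w u

open CategoryTheory CategoryTheory.Limits AlgebraicGeometry Opposite

namespace Groth.Agent.Lib.ZarDescH6

section pullCan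

variable {S : Scheme.{u}} {ι : Type w} {ι' : Type w'} {X : ι → Scheme.{u}} {X' : ι' → Scheme.{u}}
  {f : ∀ i, X i ⟶ S} {f' : ∀ j, X' j ⟶ S} {α : ι' → ι} {p' : ∀ j, X' j ⟶ X (α j)}
  (w : ∀ j, p' j ≫ f (α j) = f' j ≫ 𝟙 S)

/-- Component of the comparison of the pullback of a canonical descent datum with the canonical
descent datum. -/
noncomputable def pullCanComp (E : Over S) (j : ι') :
    pullback (pullback.fst (f (α j)) E.hom) (p' j) ≅ pullback (f' j) E.hom where
  hom := pullback.lift (pullback.snd _ _) (pullback.fst _ _ ≫ pullback.snd _ _) (by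
    have h1 := w j
    rw [Category.comp_id] at h1
    rw [← h1, ← Category.assoc, ← pullback.condition, Category.assoc, pullback.condition,
      Category.assoc])
  inv := pullback.lift (pullback.lift (pullback.fst _ _ ≫ p' j) (pullback.snd _ _) (by
      have h1 := w j
      rw [Category.comp_id] at h1
      rw [Category.assoc, h1, pullback.condition])) (pullback.fst _ _) (by simp)
  hom_inv_id := by
    apply pullback.hom_ext
    · apply pullback.hom_ext
      · simp [pullback.condition]
      · simp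
    · simp
  inv_hom_id := by
    apply pullback.hom_ext <;> simp

/-- The pullback of a canonical descent datum is the canonical descent datum. -/
noncomputable def pullCanIso (E : Over S) :
    (Desc.pullDDFam (f := f) (f' := f') (α := α) (p := 𝟙 S) (p' := p') w).obj
      ((Desc.toDDFam f).obj E) ≅ (Desc.toDDFam f').obj E :=
  Groth.Agent.Lib.DescIso.isoMk
    (fun j => Over.isoMk (pullCanComp w E j) (by simp [pullCanComp, Desc.pullDDFamObj,
      Desc.pullDDFam, Desc.toDDFam, Desc.canonicalDDFam]))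
    (by
      intro T j j' x₀ x₁ h v v' hv'
      apply pullback.hom_ext
      · simp [pullCanComp, Desc.pullDDFamObj, Desc.pullDDFam, Desc.toDDFam, Desc.canonicalDDFam,
          Desc.liftsPullbackEquiv]
      · simp [pullCanComp, Desc.pullDDFamObj, Desc.pullDDFam, Desc.toDDFam, Desc.canonicalDDFam,
          Desc.liftsPullbackEquiv, hv'])

end pullCan

section LE

variable {ι κ : Type u} {S : Scheme.{u}} {U : ι → Scheme.{u}} {V : κ → Scheme.{u}}
  {u : ∀ i, U i ⟶ S} {v : ∀ j, V j ⟶ S} {α : ι → κ} (g : ∀ i, U i ⟶ V (α i))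
  (w : ∀ i, g i ≫ v (α i) = u i)
  (J : GrothendieckTopology Scheme.{u}) [J.Subcanonical]
  (hsv : ∀ (j : κ) ⦃T : Scheme.{u}⦄ (x : T ⟶ V j), sv g x ∈ J T)

/-- Effective descent data in gluing form. -/
theorem exists_glue_of_isEffective {W : Scheme.{u}} {I : Type w} {Y : I → Scheme.{u}}
    {q : ∀ i, Y i ⟶ W} (D : Desc.SchDDFam q) (hD : D.IsEffective) :
    ∃ (E : Over W) (ε : ∀ i, (D.obj i).left ⟶ E.left),
      (∀ i, IsPullback (D.obj i).hom (ε i) (q i) E.hom) ∧
      ∀ ⦃T : Scheme.{u}⦄ ⦃i i' : I⦄ (x₀ : T ⟶ Y i) (x₁ : T ⟶ Y i') (h : x₀ ≫ q i = x₁ ≫ q i')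
        (y : Desc.Lifts (D.obj i) x₀), (D.φ x₀ x₁ h y).1 ≫ ε i' = y.1 ≫ ε i := by
  obtain ⟨E, ⟨e⟩⟩ := hD
  have hcomp : ∀ i, e.inv.hom i ≫ e.hom.hom i = 𝟙 _ := fun i => by
    rw [← Desc.SchDDFam.comp_hom, e.inv_hom_id]; rfl
  have hcomp' : ∀ i, e.hom.hom i ≫ e.inv.hom i = 𝟙 _ := fun i => by
    rw [← Desc.SchDDFam.comp_hom, e.hom_inv_id]; rfl
  let ei : ∀ i, D.obj i ≅ ((Desc.toDDFam q).obj E).obj i := fun i =>
    ⟨e.inv.hom i, e.hom.hom i, hcomp i, hcomp' i⟩
  refine ⟨E, fun i => (e.inv.hom i).left ≫ pullback.snd (q i) E.hom, fun i => ?_, ?_⟩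
  · refine IsPullback.of_iso_pullback ⟨?_⟩ ((Over.forget _).mapIso (ei i)) ?_ ?_
    · rw [Category.assoc, ← pullback.condition, ← Category.assoc]
      exact congrArg (· ≫ q i) (Over.w (e.inv.hom i)).symm
    · exact Over.w (e.inv.hom i)
    · rfl
  · intro T i i' x₀ x₁ h y
    have hy' : (y.1 ≫ (e.inv.hom i).left) ≫ pullback.fst (q i) E.hom = x₀ := by
      rw [Category.assoc]
      exact (congrArg (y.1 ≫ ·) (Over.w (e.inv.hom i))).trans y.2
    have key := e.inv.comm x₀ x₁ h y ⟨y.1 ≫ (e.inv.hom i).left, hy'⟩ rfl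
    have k2 := congrArg (· ≫ pullback.snd (q i') E.hom) key
    simp only [Category.assoc] at k2
    rw [← k2]
    simp [Desc.toDDFam, Desc.canonicalDDFam]

include w hsv in
/-- A descent datum relative to a refinement whose restrictions over the members of the coarser
family are effective descends to the coarser family. -/
theorem exists_pull_iso_of_locally_effective (D' : Desc.SchDDFam u)
    (heff : ∀ j, (resDD g w D' j).IsEffective) (w' : ∀ i, g i ≫ v (α i) = u i ≫ 𝟙 S) :
    ∃ D : Desc.SchDDFam v, Nonempty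
      ((Desc.pullDDFam (f := v) (f' := u) (α := α) (p := 𝟙 S) (p' := g) w').obj D ≅ D') := by
  have hgl := fun j => exists_glue_of_isEffective (resDD g w D' j) (heff j)
  choose E ε hpb hK using hgl
  exact ⟨glueDD g w D' E ε hpb (fun j T i i' x₀ x₁ h y => hK j x₀ x₁ h y) J hsv,
    nonempty_pull_glueDD_iso g w D' E ε hpb (fun j T i i' x₀ x₁ h y => hK j x₀ x₁ h y) J hsv w'⟩

end LE

end Groth.Agent.Lib.ZarDescH6
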