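import Mathlib
import Groth.Prelude.Def_DescFam
import Groth.Agent.Lib.DescIso_helper9
import Groth.Agent.Lib.DescFF_helper9
import Groth.Agent.Lib.ZarDesc2_helper6
import Groth.Agent.Lib.DescLoc_helper6
import Groth.Agent.Lib.ClosedDescentFam_helper7

/-!
# Effectivity of fpqc descent data: reduction to the case of affine schemes
-/

set_option backward.isDefEq.respectTransparency false
set_option backward.isDefEq.respectTransparency.types false

universe u

open CategoryTheory CategoryTheory.Limits AlgebraicGeometry Opposite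

namespace Groth.Agent.Lib.ZarDescH6

section coprod

variable (P : MorphismProperty Scheme.{u}) [P.IsStableUnderBaseChange]
  (h2 : ∀ (m : ℕ) (Y V : Fin m → Scheme.{u}) (q : ∀ j, Y j ⟶ V j), (∀ j, P (q j)) →
    P (Limits.Sigma.map q))

include h2 in
/-- Stability under finite disjoint unions, for any finite index type. -/
theorem P_sigmaMap {K : Type u} [Finite K] (Y V : K → Scheme.{u}) (q : ∀ k, Y k ⟶ V k)
    (hq : ∀ k, P (q k)) : P (Limits.Sigma.map q) := by
  obtain ⟨m, ⟨e⟩⟩ := Finite.exists_equiv_fin K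
  have key : (Sigma.reindex e.symm Y).hom ≫ Limits.Sigma.map q =
      Limits.Sigma.map (fun j : Fin m => q (e.symm j)) ≫ (Sigma.reindex e.symm V).hom := by
    apply Sigma.hom_ext
    intro j
    rw [Sigma.ι_reindex_hom_assoc, Sigma.ι_map, Sigma.ι_map_assoc]
    exact congrArg (q (e.symm j) ≫ ·) (Sigma.ι_reindex_hom e.symm V j).symm
  have h := h2 m (Y ∘ e.symm) (V ∘ e.symm) (fun j => q (e.symm j)) (fun j => hq _)
  rw [← P.cancel_left_of_respectsIso (Sigma.reindex e.symm Y).hom, key,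
    P.cancel_right_of_respectsIso]
  exact h

include h2 in
/-- A morphism to a finite coproduct all of whose restrictions to the summands have `P`
has `P`. -/
theorem P_of_pullback_sigmaι {K : Type u} [Finite K] (W : K → Scheme.{u}) {V'' : Scheme.{u}}
    (q : V'' ⟶ ∐ W) (hq : ∀ k, P (pullback.snd q (Sigma.ι W k))) : P q := by
  let Y : K → Scheme.{u} := fun k => pullback q (Sigma.ι W k)
  have huniv := (FinitaryExtensive.isVanKampen_finiteCoproducts
    (coproductIsCoproduct W)).isUniversal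
  let c' : Cofan Y := Cofan.mk V'' (fun k => pullback.fst q (Sigma.ι W k))
  have hc' : Nonempty (IsColimit c') := by
    refine huniv c' (Discrete.natTrans fun k => pullback.snd q (Sigma.ι W k.as)) q ?_
      (NatTrans.Equifibered.of_discrete _) ?_
    · ext ⟨k⟩
      simp [c', pullback.condition]
    · rintro ⟨k⟩
      exact IsPullback.of_hasPullback q (Sigma.ι W k)
  obtain ⟨hc'⟩ := hc'
  let d : ∐ Y ≅ V'' := IsColimit.coconePointUniqueUpToIso (coproductIsCoproduct Y) hc'
  have hd : ∀ k, Sigma.ι Y k ≫ d.hom = pullback.fst q (Sigma.ι W k) := fun k =>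
    IsColimit.comp_coconePointUniqueUpToIso_hom (coproductIsCoproduct Y) hc' ⟨k⟩
  have key : d.hom ≫ q = Limits.Sigma.map (fun k => pullback.snd q (Sigma.ι W k)) := by
    apply Sigma.hom_ext
    intro k
    rw [← Category.assoc, hd, Sigma.ι_map, pullback.condition]
  rw [← P.cancel_left_of_respectsIso d.hom, key]
  exact P_sigmaMap P h2 Y W _ hq

end coprod

section affBase

/-- The components of an isomorphism of descent data are isomorphisms. -/
theorem isIso_hom_left {S : Scheme.{u}} {ι : Type*} {X : ι → Scheme.{u}} {f : ∀ i, X i ⟶ S}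
    {D D' : Desc.SchDDFam f} (e : D ≅ D') (i : ι) : IsIso (e.hom.hom i).left := by
  refine ⟨(e.inv.hom i).left, ?_, ?_⟩
  · rw [← Over.comp_left, ← Desc.SchDDFam.comp_hom, e.hom_inv_id]; rfl
  · rw [← Over.comp_left, ← Desc.SchDDFam.comp_hom, e.inv_hom_id]; rfl

/-- A finite jointly surjective family of flat morphisms from affine schemes to an affine scheme
generates a covering sieve for the fpqc topology. -/
theorem sieve_mem_fpqc_of_finite_affine {K : Type u} [Finite K] {S : Scheme.{u}} [IsAffine S]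
    (W : K → Scheme.{u}) [∀ k, IsAffine (W k)] (wk : ∀ k, W k ⟶ S) [∀ k, Flat (wk k)]
    (hs : ∀ s : S, ∃ k, s ∈ Set.range (wk k)) :
    Sieve.ofArrows W wk ∈ Scheme.fpqcTopology S := by
  let p' : ∐ W ⟶ S := Sigma.desc wk
  haveI : Flat p' := IsZariskiLocalAtSource.sigmaDesc (fun k => inferInstance)
  haveI : Surjective p' := ⟨fun s => by
    obtain ⟨k, y, rfl⟩ := hs s
    refine ⟨Sigma.ι W k y, ?_⟩
    rw [← Scheme.Hom.comp_apply, Sigma.ι_desc]⟩
  have h1 : Sieve.generate (Presieve.singleton p') ∈ Scheme.fpqcTopology S :=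
    Precoverage.generate_mem_toGrothendieck p'.singleton_mem_fpqcPrecoverage
  have h2 : Sieve.ofArrows W (Sigma.ι W) ∈ Scheme.fpqcTopology (∐ W) := by
    apply Scheme.zariskiTopology_le_fpqcTopology
    refine Precoverage.generate_mem_toGrothendieck ?_
    rw [Scheme.ofArrows_mem_precoverage_iff]
    refine ⟨fun x => ?_, fun k => inferInstance⟩
    obtain ⟨⟨k, y⟩, rfl⟩ := (sigmaMk W).surjective x
    exact ⟨k, y, (sigmaMk_mk W k y).symm⟩
  have h3 : (Sieve.ofArrows W wk).pullback p' ∈ Scheme.fpqcTopology (∐ W) := by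
    refine GrothendieckTopology.superset_covering _ ?_ h2
    rw [Sieve.ofArrows, Sieve.generate_le_iff]
    rintro T _ ⟨k⟩
    show (Sieve.ofArrows W wk).arrows (Sigma.ι W k ≫ p')
    rw [Sigma.ι_desc]
    exact Sieve.ofArrows_mk _ _ k
  refine GrothendieckTopology.transitive _ h1 _ ?_
  rintro T f ⟨T', t, _, ⟨⟩, rfl⟩
  rw [Sieve.pullback_comp]
  exact GrothendieckTopology.pullback_stable _ t h3

variable (P : MorphismProperty Scheme.{u}) [P.IsStableUnderBaseChange]
  (h2 : ∀ (m : ℕ) (Y V : Fin m → Scheme.{u}) (q : ∀ j, Y j ⟶ V j), (∀ j, P (q j)) →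
    P (Limits.Sigma.map q))
  (h3 : ∀ (X S : Scheme.{u}) (p : X ⟶ S), IsAffine X → IsAffine S → Flat p → Surjective p →
    ∀ D : Desc.SchDD p, P D.obj.hom → ∃ U : Over S, Nonempty ((Desc.toDD p).obj U ≅ D))

include h2 h3 in
/-- Effectivity of fpqc descent data with `P` structure morphisms over an affine base. -/
theorem isEffective_of_isAffine {ι : Type u} {S : Scheme.{u}} [IsAffine S] {U : ι → Scheme.{u}}
    (u : ∀ i, U i ⟶ S) (hu : Presieve.ofArrows U u ∈ Scheme.fpqcPrecoverage S)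
    (D : Desc.SchDDFam u) (hD : ∀ i, P (D.obj i).hom) : D.IsEffective := by
  obtain ⟨hfl, hfin⟩ := Groth.Agent.Lib.ClosedDescentFam_helper7.exists_finite_affine u hu
  obtain ⟨n, a, V, hVaff, hVcov⟩ := hfin ⊤ (isAffineOpen_top S)
  let K := ULift.{u} (Fin n)
  let W : K → Scheme.{u} := fun k => (V k.down).toScheme
  let j : ∀ k : K, W k ⟶ U (a k.down) := fun k => (V k.down).ι
  let wk : ∀ k : K, W k ⟶ S := fun k => j k ≫ u (a k.down)
  haveI : ∀ k, IsAffine (W k) := fun k => hVaff k.down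
  haveI : ∀ k, Flat (wk k) := fun k => by
    haveI := hfl (a k.down)
    exact inferInstanceAs (Flat ((V k.down).ι ≫ u (a k.down)))
  have hs : ∀ s : S, ∃ k, s ∈ Set.range (wk k) := fun s => by
    have : s ∈ ⋃ k, u (a k) '' (V k) := by rw [hVcov]; trivial
    obtain ⟨k, y, hy, rfl⟩ := Set.mem_iUnion.1 this
    exact ⟨⟨k⟩, ⟨y, hy⟩, rfl⟩
  let p' : ∐ W ⟶ S := Sigma.desc wk
  haveI : Flat p' := IsZariskiLocalAtSource.sigmaDesc (fun k => inferInstance)
  haveI : Surjective p' := ⟨fun s => by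
    obtain ⟨k, y, rfl⟩ := hs s
    refine ⟨Sigma.ι W k y, ?_⟩
    rw [← Scheme.Hom.comp_apply, Sigma.ι_desc]⟩
  -- the pulled back datum
  have w1 : ∀ k, j k ≫ u (a k.down) = wk k ≫ 𝟙 S := fun k => (Category.comp_id _).symm
  let Dw := (Desc.pullDDFam (f := u) (f' := wk) (α := fun k => a k.down) (p := 𝟙 S) (p' := j)
    w1).obj D
  -- pass to the coproduct
  have hsig := sigma_isEquivalence wk
  obtain ⟨D'', ⟨β⟩⟩ := hsig.essSurj.mem_essImage Dw
  have hP'' : P D''.obj.hom := by
    refine P_of_pullback_sigmaι P h2 W D''.obj.hom fun k => ?_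
    haveI := isIso_hom_left β k
    have e1 : pullback.snd D''.obj.hom (Sigma.ι W k) =
        (β.hom.hom k).left ≫ pullback.snd (D.obj (a k.down)).hom (j k) :=
      (Over.w (β.hom.hom k)).symm
    rw [e1, P.cancel_left_of_respectsIso]
    exact P.pullback_snd _ _ (hD _)
  obtain ⟨E, ⟨γ⟩⟩ := h3 (∐ W) S p' inferInstance inferInstance inferInstance inferInstance D'' hP''
  -- the canonical datum of `E` relative to `wk` is `Dw`
  have w2 : ∀ k, Sigma.ι W k ≫ Sigma.desc wk = wk k ≫ 𝟙 S := fun k =>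
    (Sigma.ι_desc wk k).trans (Category.comp_id _).symm
  let γ' : (Desc.toDDFam (fun _ : PUnit.{u + 1} => p')).obj E ≅
      (Desc.SchDDFam.ofSchDD p').obj D'' := (Desc.SchDDFam.ofSchDD p').mapIso γ
  let ζ : (Desc.toDDFam wk).obj E ≅ Dw :=
    (pullCanIso (f := fun _ : PUnit.{u + 1} => p') (f' := wk) (α := fun _ => PUnit.unit)
      (p' := fun k => Sigma.ι W k) w2 E).symm ≪≫
    (Desc.pullDDFam (f := fun _ : PUnit.{u + 1} => p') (f' := wk) (α := fun _ => PUnit.unit)
      (p := 𝟙 S) (p' := fun k => Sigma.ι W k) w2).mapIso γ' ≪≫ β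
  let η : (Desc.pullDDFam (f := u) (f' := wk) (α := fun k => a k.down) (p := 𝟙 S) (p' := j)
      w1).obj ((Desc.toDDFam u).obj E) ≅ Dw :=
    pullCanIso (f := u) (f' := wk) (α := fun k : K => a k.down) (p' := j) w1 E ≪≫ ζ
  -- full faithfulness of the pullback
  have H : ∀ i, Sieve.pullback (u i) (Sieve.ofArrows W wk) ∈ Scheme.fpqcTopology (U i) :=
    fun i => GrothendieckTopology.pullback_stable _ _ (sieve_mem_fpqc_of_finite_affine W wk hs)
  haveI := Groth.Agent.Lib.DescFF.full (fU := wk) (fV := u) (α := fun k : K => a k.down) (g := j)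
    w1 Scheme.fpqcTopology H
  haveI := Groth.Agent.Lib.DescFF.faithful (fU := wk) (fV := u) (α := fun k : K => a k.down)
    (g := j) w1 Scheme.fpqcTopology H
  exact ⟨E, ⟨(Desc.pullDDFam (f := u) (f' := wk) (α := fun k => a k.down) (p := 𝟙 S) (p' := j)
    w1).preimageIso η⟩⟩

end affBase

section main

variable (P : MorphismProperty Scheme.{u}) [P.IsStableUnderBaseChange]
  (h2 : ∀ (m : ℕ) (Y V : Fin m → Scheme.{u}) (q : ∀ j, Y j ⟶ V j), (∀ j, P (q j)) →
    P (Limits.Sigma.map q))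
  (h3 : ∀ (X S : Scheme.{u}) (p : X ⟶ S), IsAffine X → IsAffine S → Flat p → Surjective p →
    ∀ D : Desc.SchDD p, P D.obj.hom → ∃ U : Over S, Nonempty ((Desc.toDD p).obj U ≅ D))

include h2 h3 in
/-- Effectivity of fpqc descent data with `P` structure morphisms, given the case of a flat
surjective morphism of affine schemes. -/
theorem isEffective_of_fpqc {ι : Type u} {S : Scheme.{u}} {U : ι → Scheme.{u}}
    (u : ∀ i, U i ⟶ S) (hu : Presieve.ofArrows U u ∈ Scheme.fpqcPrecoverage S)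
    (D : Desc.SchDDFam u) (hD : ∀ i, P (D.obj i).hom) : D.IsEffective := by
  let 𝒜 := S.affineOpens
  let s : ∀ a : 𝒜, (a.1 : Scheme.{u}) ⟶ S := fun a => a.1.ι
  let U' : 𝒜 × ι → Scheme.{u} := fun k => pullback (u k.2) (s k.1)
  let g₁ : ∀ k : 𝒜 × ι, U' k ⟶ U k.2 := fun k => pullback.fst (u k.2) (s k.1)
  let g₂ : ∀ k : 𝒜 × ι, U' k ⟶ (k.1.1 : Scheme.{u}) := fun k => pullback.snd (u k.2) (s k.1)
  let u' : ∀ k : 𝒜 × ι, U' k ⟶ S := fun k => g₁ k ≫ u k.2
  have w₁ : ∀ k, g₁ k ≫ u k.2 = u' k ≫ 𝟙 S := fun k => (Category.comp_id _).symm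
  have w₂ : ∀ k, g₂ k ≫ s k.1 = u' k := fun k => pullback.condition.symm
  have w₂' : ∀ k, g₂ k ≫ s k.1 = u' k ≫ 𝟙 S := fun k => (w₂ k).trans (Category.comp_id _).symm
  let D' := (Desc.pullDDFam (f := u) (f' := u') (α := Prod.snd) (p := 𝟙 S) (p' := g₁) w₁).obj D
  -- the families over the affine opens are fpqc coverings
  have hcov : ∀ a : 𝒜, Presieve.ofArrows (fun i : {k : 𝒜 × ι // k.1 = a} => U' i.1)
      (gj (V := fun a : 𝒜 => (a.1 : Scheme.{u})) (α := Prod.fst) g₂ a) ∈
      Scheme.fpqcPrecoverage (a.1 : Scheme.{u}) := by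
    intro a
    have e : Presieve.ofArrows (fun i : {k : 𝒜 × ι // k.1 = a} => U' i.1)
        (gj (V := fun a : 𝒜 => (a.1 : Scheme.{u})) (α := Prod.fst) g₂ a) =
        Presieve.ofArrows (fun i : ι => pullback (u i) (s a))
          (fun i => pullback.snd (u i) (s a)) := by
      refine le_antisymm ?_ ?_
      · rintro T h ⟨⟨⟨a', i⟩, rfl⟩⟩
        simp only [gj, eqToHom_refl, Category.comp_id]
        exact Presieve.ofArrows.mk i
      · rintro T h ⟨i⟩
        have := Presieve.ofArrows.mk (Y := fun i : {k : 𝒜 × ι // k.1 = a} => U' i.1)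
          (f := gj (V := fun a : 𝒜 => (a.1 : Scheme.{u})) (α := Prod.fst) g₂ a) ⟨(a, i), rfl⟩
        simpa [gj] using this
    rw [e]
    exact Precoverage.mem_coverings_of_isPullback u hu (s a) _ _
      fun i => (IsPullback.of_hasPullback (u i) (s a)).flip
  have hsv : ∀ (a : 𝒜) ⦃T : Scheme.{u}⦄ (x : T ⟶ (a.1 : Scheme.{u})),
      sv (V := fun a : 𝒜 => (a.1 : Scheme.{u})) (α := Prod.fst) g₂ x ∈ Scheme.fpqcTopology T :=
    fun a T x => GrothendieckTopology.pullback_stable _ x
      (Precoverage.generate_mem_toGrothendieck (hcov a))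
  -- local effectivity
  have heff : ∀ a : 𝒜, (resDD (v := s) (α := Prod.fst) g₂ w₂ D' a).IsEffective := by
    intro a
    haveI : IsAffine (a.1 : Scheme.{u}) := a.2
    refine isEffective_of_isAffine P h2 h3 _ (hcov a) _ fun i => ?_
    exact P.pullback_snd _ _ (hD _)
  obtain ⟨Ds, ⟨θ⟩⟩ := exists_pull_iso_of_locally_effective (v := s) (α := Prod.fst) g₂ w₂
    Scheme.fpqcTopology hsv D' heff w₂'
  -- Zariski descent
  have hsurj : ∀ x : S, ∃ a : 𝒜, x ∈ Set.range (s a) := fun x => by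
    obtain ⟨W, hW, hxW, -⟩ := exists_isAffineOpen_mem_and_subset (x := x) (U := ⊤) trivial
    refine ⟨⟨W, hW⟩, ?_⟩
    show x ∈ Set.range W.ι
    rw [Scheme.Opens.range_ι]
    exact hxW
  obtain ⟨E, e, -⟩ := exists_iso_toDDFam s hsurj Ds
  -- compare
  let η : (Desc.pullDDFam (f := u) (f' := u') (α := Prod.snd) (p := 𝟙 S) (p' := g₁) w₁).obj
      ((Desc.toDDFam u).obj E) ≅ D' :=
    pullCanIso (f := u) (f' := u') (α := Prod.snd) (p' := g₁) w₁ E ≪≫
      (pullCanIso (f := s) (f' := u') (α := Prod.fst) (p' := g₂) w₂' E).symm ≪≫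
      (Desc.pullDDFam (f := s) (f' := u') (α := Prod.fst) (p := 𝟙 S) (p' := g₂) w₂').mapIso e ≪≫ θ
  have H : ∀ i, Sieve.pullback (u i) (Sieve.ofArrows U' u') ∈ Scheme.zariskiTopology (U i) := by
    intro i
    have hz : Presieve.ofArrows (fun a : 𝒜 => U' (a, i)) (fun a => g₁ (a, i)) ∈
        Scheme.zariskiPrecoverage (U i) := by
      have hs : Presieve.ofArrows (fun a : 𝒜 => (a.1 : Scheme.{u})) s ∈
          Scheme.zariskiPrecoverage S := by
        rw [Scheme.ofArrows_mem_precoverage_iff]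
        exact ⟨hsurj, fun a => inferInstance⟩
      exact Precoverage.mem_coverings_of_isPullback s hs (u i) _ _
        fun a => IsPullback.of_hasPullback (u i) (s a)
    refine GrothendieckTopology.superset_covering _ ?_
      (Precoverage.generate_mem_toGrothendieck hz)
    rw [Sieve.generate_le_iff]
    rintro T _ ⟨a⟩
    show (Sieve.ofArrows U' u').arrows (g₁ (a, i) ≫ u i)
    exact Sieve.ofArrows_mk _ _ (a, i)
  haveI := Groth.Agent.Lib.DescFF.full (fU := u') (fV := u) (α := Prod.snd) (g := g₁)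
    w₁ Scheme.zariskiTopology H
  haveI := Groth.Agent.Lib.DescFF.faithful (fU := u') (fV := u) (α := Prod.snd) (g := g₁)
    w₁ Scheme.zariskiTopology H
  exact ⟨E, ⟨(Desc.pullDDFam (f := u) (f' := u') (α := Prod.snd) (p := 𝟙 S) (p' := g₁)
    w₁).preimageIso η⟩⟩

end main

end Groth.Agent.Lib.ZarDescH6
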