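import Mathlib

set_option autoImplicit false
universe u

open TensorProduct

namespace Groth.Agent.Lib.DescSubH5

variable {U L : Type*} [CommRing U] [CommRing L] [Algebra U L]

/-- (T0) every element of `L ⊗ M` comes from `P ⊗ M` for every subalgebra containing a suitable
finite set. -/
theorem exists_finset_mem_range (M : Type*) [AddCommGroup M] [Module U M] (x : L ⊗[U] M) :
    ∃ s : Finset L, ∀ P : Subalgebra U L, (s : Set L) ⊆ P →
      x ∈ LinearMap.range (P.val.toLinearMap.rTensor M) := by
  classical
  induction x with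
  | zero => exact ⟨∅, fun P _ => zero_mem _⟩
  | tmul l m =>
    refine ⟨{l}, fun P hP => ⟨(⟨l, hP (by simp)⟩ : P) ⊗ₜ m, by simp⟩⟩
  | add x y hx hy =>
    obtain ⟨s, hs⟩ := hx
    obtain ⟨t, ht⟩ := hy
    refine ⟨s ∪ t, fun P hP => add_mem (hs P ?_) (ht P ?_)⟩
    · exact fun a ha => hP (by simp [Finset.mem_coe.mp ha])
    · exact fun a ha => hP (by simp [Finset.mem_coe.mp ha])

/-- (T1) vanishing in `L ⊗ M` descends to a finitely generated extension of the subalgebra. -/
theorem exists_finset_rTensor_eq_zero (P : Subalgebra U L) (M : Type*) [AddCommGroup M]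
    [Module U M] (z : P ⊗[U] M) (hz : P.val.toLinearMap.rTensor M z = 0) :
    ∃ s : Finset L, ∀ (P' : Subalgebra U L) (h : P ≤ P'), (s : Set L) ⊆ P' →
      (Subalgebra.inclusion h).toLinearMap.rTensor M z = 0 := by
  classical
  -- free presentation of `M`
  obtain ⟨F, _, _, _, π, hπ⟩ : ∃ (F : Type _) (_ : AddCommGroup F) (_ : Module U F)
      (_ : Module.Free U F) (π : F →ₗ[U] M), Function.Surjective π :=
    ⟨M →₀ U, inferInstance, inferInstance, inferInstance, Finsupp.linearCombination U id,
      Finsupp.linearCombination_id_surjective U M⟩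
  obtain ⟨K, hK⟩ : ∃ K : Submodule U F, K = LinearMap.ker π := ⟨_, rfl⟩
  have hex : Function.Exact K.subtype π := by
    rw [hK]; exact LinearMap.exact_subtype_ker_map π
  -- lift z
  obtain ⟨zh, hzh⟩ := LinearMap.lTensor_surjective P hπ z
  -- exactness over L
  have hexL : Function.Exact (K.subtype.lTensor L) (π.lTensor L) :=
    lTensor_exact L (f := K.subtype) (g := π) hex hπ
  have h1 : π.lTensor L (P.val.toLinearMap.rTensor F zh) = 0 := by
    have : π.lTensor L (P.val.toLinearMap.rTensor F zh) =
        P.val.toLinearMap.rTensor M (π.lTensor P zh) := by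
      rw [← LinearMap.comp_apply, ← LinearMap.comp_apply, LinearMap.lTensor_comp_rTensor,
        LinearMap.rTensor_comp_lTensor]
    rw [this, hzh, hz]
  obtain ⟨w, hw⟩ := (hexL _).mp h1
  obtain ⟨s, hs⟩ := exists_finset_mem_range K w
  refine ⟨s, fun P' h hsP' => ?_⟩
  obtain ⟨w', hw'⟩ := hs P' hsP'
  -- compare in P' ⊗ F
  have hinj : Function.Injective (P'.val.toLinearMap.rTensor F) :=
    Module.Flat.rTensor_preserves_injective_linearMap _ Subtype.val_injective
  have h2 : K.subtype.lTensor P' w' = (Subalgebra.inclusion h).toLinearMap.rTensor F zh := by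
    apply hinj
    have e1 : P'.val.toLinearMap.rTensor F (K.subtype.lTensor P' w') =
        K.subtype.lTensor L (P'.val.toLinearMap.rTensor K w') := by
      rw [← LinearMap.comp_apply, ← LinearMap.comp_apply, LinearMap.rTensor_comp_lTensor,
        LinearMap.lTensor_comp_rTensor]
    have e2 : P'.val.toLinearMap.rTensor F ((Subalgebra.inclusion h).toLinearMap.rTensor F zh) =
        P.val.toLinearMap.rTensor F zh := by
      rw [← LinearMap.comp_apply, ← LinearMap.rTensor_comp]
      rfl
    rw [e1, hw', hw, e2]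
  have h3 : (Subalgebra.inclusion h).toLinearMap.rTensor M z =
      π.lTensor P' ((Subalgebra.inclusion h).toLinearMap.rTensor F zh) := by
    rw [← hzh, ← LinearMap.comp_apply, ← LinearMap.comp_apply, LinearMap.rTensor_comp_lTensor,
      LinearMap.lTensor_comp_rTensor]
  rw [h3, ← h2, ← LinearMap.comp_apply, ← LinearMap.lTensor_comp]
  have : π ∘ₗ K.subtype = 0 := by
    ext x
    have h5 : (x : F) ∈ LinearMap.ker π := hK ▸ x.2
    exact h5
  rw [this, LinearMap.lTensor_zero, LinearMap.zero_apply]

end Groth.Agent.Lib.DescSubH5
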