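import Mathlib
import Groth.Agent.Lib.DescSub1_helper5

set_option autoImplicit false
universe u

open TensorProduct

namespace Groth.Agent.Lib.DescSubH5

variable {U L : Type*} [CommRing U] [CommRing L] [Algebra U L]
variable (E : Type*) [CommRing E] [Algebra U E]

/-- base change to `L` -/
noncomputable abbrev bcL (P : Subalgebra U L) : P ⊗[U] E →ₐ[U] L ⊗[U] E :=
  Algebra.TensorProduct.map P.val (AlgHom.id U E)

/-- base change along an inclusion of subalgebras -/
noncomputable abbrev bcI {P P' : Subalgebra U L} (h : P ≤ P') : P ⊗[U] E →ₐ[U] P' ⊗[U] E :=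
  Algebra.TensorProduct.map (Subalgebra.inclusion h) (AlgHom.id U E)

theorem bcL_apply (P : Subalgebra U L) (x : P ⊗[U] E) :
    bcL E P x = P.val.toLinearMap.rTensor E x := by
  induction x with
  | zero => simp
  | tmul a b => simp
  | add x y hx hy => rw [map_add, map_add, hx, hy]

theorem bcI_apply {P P' : Subalgebra U L} (h : P ≤ P') (x : P ⊗[U] E) :
    bcI E h x = (Subalgebra.inclusion h).toLinearMap.rTensor E x := by
  induction x with
  | zero => simp
  | tmul a b => simp
  | add x y hx hy => rw [map_add, map_add, hx, hy]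

theorem bcL_bcI {P P' : Subalgebra U L} (h : P ≤ P') (x : P ⊗[U] E) :
    bcL E P' (bcI E h x) = bcL E P x := by
  induction x with
  | zero => simp
  | tmul a b => simp
  | add x y hx hy => rw [map_add, map_add, map_add, hx, hy]

theorem bcI_bcI {P P' P'' : Subalgebra U L} (h : P ≤ P') (h' : P' ≤ P'') (x : P ⊗[U] E) :
    bcI E h' (bcI E h x) = bcI E (h.trans h') x := by
  induction x with
  | zero => simp
  | tmul a b => simp
  | add x y hx hy => rw [map_add, map_add, map_add, hx, hy]

theorem exists_finset_mem_range_bcL (x : L ⊗[U] E) :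
    ∃ s : Finset L, ∀ P : Subalgebra U L, (s : Set L) ⊆ P → ∃ y : P ⊗[U] E, bcL E P y = x := by
  obtain ⟨s, hs⟩ := exists_finset_mem_range E x
  refine ⟨s, fun P hP => ?_⟩
  obtain ⟨y, hy⟩ := hs P hP
  exact ⟨y, by rw [bcL_apply, hy]⟩

theorem exists_finset_bcI_eq_zero (P : Subalgebra U L) (z : P ⊗[U] E) (hz : bcL E P z = 0) :
    ∃ s : Finset L, ∀ (P' : Subalgebra U L) (h : P ≤ P'), (s : Set L) ⊆ P' → bcI E h z = 0 := by
  obtain ⟨s, hs⟩ := exists_finset_rTensor_eq_zero P E z (by rw [← bcL_apply, hz])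
  exact ⟨s, fun P' h hP' => by rw [bcI_apply, hs P' h hP']⟩

/-- (T2) descent of homomorphisms from a finitely presented algebra. -/
theorem exists_finset_lift_hom (C : Type*) [CommRing C] [Algebra U C]
    [Algebra.FinitePresentation U C] (h : C →ₐ[U] L ⊗[U] E) :
    ∃ s : Finset L, ∀ P : Subalgebra U L, (s : Set L) ⊆ P →
      ∃ h' : C →ₐ[U] P ⊗[U] E, (bcL E P).comp h' = h := by
  classical
  obtain ⟨n, f, hfs, hfg⟩ := Algebra.FinitePresentation.out (R := U) (A := C)
  obtain ⟨rels, hrels⟩ := hfg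
  choose s0 hs0 using fun i : Fin n => exists_finset_mem_range_bcL E (h (f (MvPolynomial.X i)))
  obtain ⟨Pa, hPa⟩ : ∃ Pa : Subalgebra U L, Pa = Algebra.adjoin U
      ((Finset.univ.biUnion s0 : Finset L) : Set L) := ⟨_, rfl⟩
  have hs0Pa : ∀ i, (s0 i : Set L) ⊆ Pa := by
    intro i a ha
    rw [hPa]
    apply Algebra.subset_adjoin
    simp only [Finset.coe_biUnion, Finset.coe_univ, Set.mem_univ, Set.iUnion_true, Set.mem_iUnion]
    exact ⟨i, ha⟩
  choose y hy using fun i => hs0 i Pa (hs0Pa i)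
  let hh : MvPolynomial (Fin n) U →ₐ[U] Pa ⊗[U] E := MvPolynomial.aeval y
  have hcomp : (bcL E Pa).comp hh = h.comp f := by
    apply MvPolynomial.algHom_ext
    intro i
    simp [hh, hy]
  have hrel0 : ∀ r : rels, bcL E Pa (hh r.1) = 0 := by
    intro r
    have h1 : bcL E Pa (hh r.1) = h (f r.1) := by
      rw [← AlgHom.comp_apply, hcomp, AlgHom.comp_apply]
    have h2 : (r.1 : MvPolynomial (Fin n) U) ∈ RingHom.ker f.toRingHom := by
      rw [← hrels]
      exact Ideal.subset_span r.2
    have h3 : f r.1 = 0 := h2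
    rw [h1, h3, map_zero]
  choose s1 hs1 using fun r : rels => exists_finset_bcI_eq_zero E Pa (hh r.1) (hrel0 r)
  refine ⟨Finset.univ.biUnion s0 ∪ Finset.univ.biUnion s1, fun P hP => ?_⟩
  have hle : Pa ≤ P := by
    rw [hPa]
    apply Algebra.adjoin_le
    intro a ha
    exact hP (by
      simp only [Finset.coe_union, Set.mem_union]
      exact Or.inl ha)
  have hs1P : ∀ r : rels, (s1 r : Set L) ⊆ P := by
    intro r a ha
    apply hP
    simp only [Finset.coe_union, Finset.coe_biUnion, Finset.coe_univ, Set.mem_univ,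
      Set.iUnion_true, Set.mem_union, Set.mem_iUnion]
    exact Or.inr ⟨r, ha⟩
  let hh' : MvPolynomial (Fin n) U →ₐ[U] P ⊗[U] E := (bcI E hle).comp hh
  have hker : ∀ a ∈ RingHom.ker f.toRingHom, hh' a = 0 := by
    intro a ha
    have hle2 : RingHom.ker f.toRingHom ≤ RingHom.ker hh'.toRingHom := by
      rw [← hrels, Ideal.span_le]
      intro r hr
      show hh' r = 0
      exact hs1 ⟨r, hr⟩ P hle (hs1P ⟨r, hr⟩)
    exact hle2 ha
  let h' : C →ₐ[U] P ⊗[U] E :=
    (Ideal.Quotient.liftₐ (RingHom.ker f.toRingHom) hh' hker).comp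
      (Ideal.quotientKerAlgEquivOfSurjective hfs).symm.toAlgHom
  have hh'f : ∀ a, h' (f a) = hh' a := by
    intro a
    show Ideal.Quotient.liftₐ _ hh' hker ((Ideal.quotientKerAlgEquivOfSurjective hfs).symm (f a)) = _
    have : (Ideal.quotientKerAlgEquivOfSurjective hfs).symm (f a) =
        Ideal.Quotient.mk _ a := by
      rw [AlgEquiv.symm_apply_eq]
      rfl
    rw [this]
    rfl
  refine ⟨h', ?_⟩
  apply AlgHom.ext
  intro c
  obtain ⟨a, rfl⟩ := hfs c
  rw [AlgHom.comp_apply, hh'f]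
  show bcL E P (bcI E hle (hh a)) = _
  rw [bcL_bcI, ← AlgHom.comp_apply, hcomp, AlgHom.comp_apply]

end Groth.Agent.Lib.DescSubH5
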