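import Mathlib
import Groth.Agent.Lib.DescSub2_helper5

set_option autoImplicit false
universe u

open TensorProduct

namespace Groth.Agent.Lib.DescSubH5

variable {U L : Type*} [CommRing U] [CommRing L] [Algebra U L]
variable (D E : Type*) [CommRing D] [Algebra U D] [CommRing E] [Algebra U E]

theorem bcL_smul (P : Subalgebra U L) (p : P) (x : P ⊗[U] E) :
    bcL E P (p • x) = (p : L) • bcL E P x := by
  induction x with
  | zero => simp
  | tmul a b =>
    rw [TensorProduct.smul_tmul', smul_eq_mul]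
    simp only [Algebra.TensorProduct.map_tmul, Subalgebra.coe_val, AlgHom.coe_id, id_eq,
      Subalgebra.coe_mul]
    rw [TensorProduct.smul_tmul', smul_eq_mul]
  | add x y hx hy => rw [smul_add, map_add, map_add, smul_add, hx, hy]

theorem bcI_smul {P P' : Subalgebra U L} (h : P ≤ P') (p : P) (x : P ⊗[U] E) :
    bcI E h (p • x) = (Subalgebra.inclusion h p) • bcI E h x := by
  induction x with
  | zero => simp
  | tmul a b =>
    rw [TensorProduct.smul_tmul', smul_eq_mul]
    simp only [Algebra.TensorProduct.map_tmul, AlgHom.coe_id, id_eq, map_mul]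
    rw [TensorProduct.smul_tmul', smul_eq_mul]
  | add x y hx hy => rw [smul_add, map_add, map_add, smul_add, hx, hy]

variable {D E}

/-- extension of a "Kleisli" homomorphism `D → P ⊗ E` to a `P`-algebra homomorphism. -/
noncomputable def ext (P : Subalgebra U L) (h : D →ₐ[U] P ⊗[U] E) : P ⊗[U] D →ₐ[P] P ⊗[U] E :=
  Algebra.TensorProduct.lift (Algebra.ofId P (P ⊗[U] E)) h (fun _ _ => Commute.all _ _)

theorem ext_tmul (P : Subalgebra U L) (h : D →ₐ[U] P ⊗[U] E) (p : P) (d : D) :
    ext P h (p ⊗ₜ d) = p • h d := by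
  simp only [ext, Algebra.TensorProduct.lift_tmul, Algebra.ofId_apply]
  exact (Algebra.smul_def p (h d)).symm

theorem ext_one_tmul (P : Subalgebra U L) (h : D →ₐ[U] P ⊗[U] E) (d : D) :
    ext P h (1 ⊗ₜ d) = h d := by
  rw [ext_tmul, one_smul]

/-- compatibility of the extension with an `L`-linear map. -/
theorem bcL_ext (P : Subalgebra U L) (h : D →ₐ[U] P ⊗[U] E) (Φ : L ⊗[U] D →ₐ[L] L ⊗[U] E)
    (hΦ : ∀ d, bcL E P (h d) = Φ (1 ⊗ₜ d)) (x : P ⊗[U] D) :
    bcL E P (ext P h x) = Φ (bcL D P x) := by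
  induction x with
  | zero => simp
  | tmul p d =>
    rw [ext_tmul, bcL_smul, hΦ]
    simp only [Algebra.TensorProduct.map_tmul, Subalgebra.coe_val, AlgHom.coe_id, id_eq]
    rw [← map_smul, TensorProduct.smul_tmul', smul_eq_mul, mul_one]
  | add x y hx hy => rw [map_add, map_add, map_add, map_add, hx, hy]

/-- naturality of the extension in `P`. -/
theorem bcI_ext {P P' : Subalgebra U L} (hle : P ≤ P') (h : D →ₐ[U] P ⊗[U] E) (x : P ⊗[U] D) :
    ext P' ((bcI E hle).comp h) (bcI D hle x) = bcI E hle (ext P h x) := by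
  induction x with
  | zero => simp
  | tmul p d =>
    simp only [Algebra.TensorProduct.map_tmul, AlgHom.coe_id, id_eq]
    rw [ext_tmul, ext_tmul, bcI_smul]
    rfl
  | add x y hx hy => rw [map_add, map_add, map_add, map_add, hx, hy]

end Groth.Agent.Lib.DescSubH5
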