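import Mathlib
import Groth.Agent.Lib.DescSub3_helper5

set_option autoImplicit false
universe u

open TensorProduct

namespace Groth.Agent.Lib.DescSubH5

variable {U L : Type*} [CommRing U] [CommRing L] [Algebra U L]
variable {D E : Type*} [CommRing D] [Algebra U D] [CommRing E] [Algebra U E]

/-- two `P`-algebra maps out of `P ⊗ D` agreeing on `1 ⊗ g` for algebra generators `g` of `D`
are equal. -/
theorem ext_hom_of_adjoin (P : Subalgebra U L) {C : Type*} [CommRing C] [Algebra U C] [Algebra P C]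
    [IsScalarTower U P C]
    (f g : P ⊗[U] D →ₐ[P] C) (s : Set D) (hs : Algebra.adjoin U s = ⊤)
    (h : ∀ d ∈ s, f (1 ⊗ₜ d) = g (1 ⊗ₜ d)) : f = g := by
  apply Algebra.TensorProduct.ext
  · apply AlgHom.ext
    intro p
    have e : p ⊗ₜ[U] (1 : D) = algebraMap P (P ⊗[U] D) p := by
      rw [Algebra.TensorProduct.algebraMap_apply]; rfl
    simp only [AlgHom.coe_comp, Function.comp_apply, Algebra.TensorProduct.includeLeft_apply]
    rw [e, f.commutes, g.commutes]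
  · apply AlgHom.ext_of_adjoin_eq_top hs
    intro d hd
    exact h d hd

/-- (T4) descent of isomorphisms between base changes of finitely presented algebras. -/
theorem exists_finset_lift_equiv [Algebra.FinitePresentation U D] [Algebra.FinitePresentation U E]
    (Φ : L ⊗[U] D ≃ₐ[L] L ⊗[U] E) :
    ∃ s : Finset L, ∀ P : Subalgebra U L, (s : Set L) ⊆ P →
      ∃ θ : P ⊗[U] D ≃ₐ[P] P ⊗[U] E, ∀ x, bcL E P (θ x) = Φ (bcL D P x) := by
  classical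
  let h₁ : D →ₐ[U] L ⊗[U] E :=
    (Φ.toAlgHom.restrictScalars U).comp Algebra.TensorProduct.includeRight
  let h₂ : E →ₐ[U] L ⊗[U] D :=
    (Φ.symm.toAlgHom.restrictScalars U).comp Algebra.TensorProduct.includeRight
  obtain ⟨s₁, hs₁⟩ := exists_finset_lift_hom E D h₁
  obtain ⟨s₂, hs₂⟩ := exists_finset_lift_hom D E h₂
  obtain ⟨Pa, hPa⟩ : ∃ Pa : Subalgebra U L, Pa = Algebra.adjoin U ((s₁ ∪ s₂ : Finset L) : Set L) :=
    ⟨_, rfl⟩
  have hs₁Pa : (s₁ : Set L) ⊆ Pa := by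
    intro a ha
    rw [hPa]
    exact Algebra.subset_adjoin (by simp [Finset.mem_coe.mp ha])
  have hs₂Pa : (s₂ : Set L) ⊆ Pa := by
    intro a ha
    rw [hPa]
    exact Algebra.subset_adjoin (by simp [Finset.mem_coe.mp ha])
  obtain ⟨k₁, hk₁⟩ := hs₁ Pa hs₁Pa
  obtain ⟨k₂, hk₂⟩ := hs₂ Pa hs₂Pa
  have hk₁' : ∀ d, bcL E Pa (k₁ d) = Φ.toAlgHom (1 ⊗ₜ d) := fun d => by
    rw [← AlgHom.comp_apply, hk₁]; rfl
  have hk₂' : ∀ e, bcL D Pa (k₂ e) = Φ.symm.toAlgHom (1 ⊗ₜ e) := fun e => by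
    rw [← AlgHom.comp_apply, hk₂]; rfl
  -- generators
  obtain ⟨gD, hgD⟩ := (Algebra.FiniteType.out : (⊤ : Subalgebra U D).FG)
  obtain ⟨gE, hgE⟩ := (Algebra.FiniteType.out : (⊤ : Subalgebra U E).FG)
  -- vanishing of the defects
  have hzD : ∀ d : D, bcL D Pa (ext Pa k₂ (ext Pa k₁ (1 ⊗ₜ d)) - 1 ⊗ₜ d) = 0 := by
    intro d
    rw [map_sub, bcL_ext Pa k₂ Φ.symm.toAlgHom hk₂', bcL_ext Pa k₁ Φ.toAlgHom hk₁']
    simp
  have hzE : ∀ e : E, bcL E Pa (ext Pa k₁ (ext Pa k₂ (1 ⊗ₜ e)) - 1 ⊗ₜ e) = 0 := by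
    intro e
    rw [map_sub, bcL_ext Pa k₁ Φ.toAlgHom hk₁', bcL_ext Pa k₂ Φ.symm.toAlgHom hk₂']
    simp
  choose sD hsD using fun d : D => exists_finset_bcI_eq_zero D Pa _ (hzD d)
  choose sE hsE using fun e : E => exists_finset_bcI_eq_zero E Pa _ (hzE e)
  refine ⟨s₁ ∪ s₂ ∪ gD.biUnion sD ∪ gE.biUnion sE, fun P hP => ?_⟩
  have hle : Pa ≤ P := by
    rw [hPa]
    apply Algebra.adjoin_le
    intro a ha
    apply hP
    simp only [Finset.coe_union, Set.mem_union] at ha ⊢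
    exact Or.inl (Or.inl ha)
  have hsDP : ∀ d ∈ gD, (sD d : Set L) ⊆ P := by
    intro d hd a ha
    apply hP
    simp only [Finset.coe_union, Finset.coe_biUnion, Set.mem_union, Set.mem_iUnion]
    exact Or.inl (Or.inr ⟨d, hd, ha⟩)
  have hsEP : ∀ e ∈ gE, (sE e : Set L) ⊆ P := by
    intro e he a ha
    apply hP
    simp only [Finset.coe_union, Finset.coe_biUnion, Set.mem_union, Set.mem_iUnion]
    exact Or.inr ⟨e, he, ha⟩
  let θ₁ : P ⊗[U] D →ₐ[P] P ⊗[U] E := ext P ((bcI E hle).comp k₁)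
  let θ₂ : P ⊗[U] E →ₐ[P] P ⊗[U] D := ext P ((bcI D hle).comp k₂)
  have h21 : θ₂.comp θ₁ = AlgHom.id P _ := by
    apply ext_hom_of_adjoin P _ _ (gD : Set D) hgD
    intro d hd
    have e1 : (1 : P) ⊗ₜ[U] d = bcI D hle (1 ⊗ₜ d) := by simp
    rw [AlgHom.comp_apply, AlgHom.id_apply]
    show θ₂ (θ₁ (1 ⊗ₜ d)) = 1 ⊗ₜ d
    have e2 : θ₁ (1 ⊗ₜ d) = bcI E hle (ext Pa k₁ (1 ⊗ₜ d)) := by
      rw [e1]; exact bcI_ext hle k₁ _
    have e3 : θ₂ (bcI E hle (ext Pa k₁ (1 ⊗ₜ d))) = bcI D hle (ext Pa k₂ (ext Pa k₁ (1 ⊗ₜ d))) :=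
      bcI_ext hle k₂ _
    rw [e2, e3]
    have := hsD d P hle (hsDP d hd)
    rw [map_sub, sub_eq_zero] at this
    rw [this]
    simp
  have h12 : θ₁.comp θ₂ = AlgHom.id P _ := by
    apply ext_hom_of_adjoin P _ _ (gE : Set E) hgE
    intro e he
    have e1 : (1 : P) ⊗ₜ[U] e = bcI E hle (1 ⊗ₜ e) := by simp
    rw [AlgHom.comp_apply, AlgHom.id_apply]
    show θ₁ (θ₂ (1 ⊗ₜ e)) = 1 ⊗ₜ e
    have e2 : θ₂ (1 ⊗ₜ e) = bcI D hle (ext Pa k₂ (1 ⊗ₜ e)) := by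
      rw [e1]; exact bcI_ext hle k₂ _
    have e3 : θ₁ (bcI D hle (ext Pa k₂ (1 ⊗ₜ e))) = bcI E hle (ext Pa k₁ (ext Pa k₂ (1 ⊗ₜ e))) :=
      bcI_ext hle k₁ _
    rw [e2, e3]
    have := hsE e P hle (hsEP e he)
    rw [map_sub, sub_eq_zero] at this
    rw [this]
    simp
  refine ⟨AlgEquiv.ofAlgHom θ₁ θ₂ h12 h21, fun x => ?_⟩
  show bcL E P (θ₁ x) = Φ (bcL D P x)
  refine bcL_ext P _ Φ.toAlgHom (fun d => ?_) x
  rw [AlgHom.comp_apply, bcL_bcI, hk₁']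

end Groth.Agent.Lib.DescSubH5
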