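import Mathlib

set_option autoImplicit false
universe u

open Polynomial TensorProduct

namespace Groth.Agent.Lib.StdPairH5

variable {S : Type*} [CommRing S]

/-- the standard étale pair `(f, g · f')`, with no condition on `g`. -/
noncomputable def pairOf (f : S[X]) (hf : f.Monic) (g : S[X]) : StandardEtalePair S where
  f := f
  monic_f := hf
  g := g * derivative f
  cond := ⟨g, 0, 1, by ring⟩

@[simp] theorem pairOf_f (f : S[X]) (hf : f.Monic) (g : S[X]) : (pairOf f hf g).f = f := rfl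
@[simp] theorem pairOf_g (f : S[X]) (hf : f.Monic) (g : S[X]) :
    (pairOf f hf g).g = g * derivative f := rfl

theorem hasMap_pairOf_iff (Q : StandardEtalePair S) {T : Type*} [CommRing T] [Algebra S T] (x : T) :
    (pairOf Q.f Q.monic_f Q.g).HasMap x ↔ Q.HasMap x := by
  constructor
  · rintro ⟨h1, h2⟩
    refine ⟨h1, ?_⟩
    simp only [pairOf_g, map_mul] at h2
    exact isUnit_of_mul_isUnit_left h2
  · intro h
    refine ⟨h.1, ?_⟩
    simp only [pairOf_g, map_mul]
    exact h.2.mul h.isUnit_derivative_f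

/-- `Q.Ring ≅ (pairOf Q.f Q.g).Ring`. -/
noncomputable def equivPairOf (Q : StandardEtalePair S) :
    Q.Ring ≃ₐ[S] (pairOf Q.f Q.monic_f Q.g).Ring :=
  AlgEquiv.ofAlgHom
    (Q.lift (pairOf Q.f Q.monic_f Q.g).X ((hasMap_pairOf_iff Q _).mp StandardEtalePair.hasMap_X))
    ((pairOf Q.f Q.monic_f Q.g).lift Q.X ((hasMap_pairOf_iff Q _).mpr StandardEtalePair.hasMap_X))
    (StandardEtalePair.hom_ext (by simp))
    (StandardEtalePair.hom_ext (by simp))

@[simp] theorem equivPairOf_X (Q : StandardEtalePair S) :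
    equivPairOf Q Q.X = (pairOf Q.f Q.monic_f Q.g).X := by
  simp [equivPairOf]

/-- lifting a pair along a ring homomorphism whose range contains the coefficients. -/
theorem exists_pair_lift {S₁ : Type*} [CommRing S₁] (φ : S₁ →+* S) (Q : StandardEtalePair S)
    (hf : ∀ n, Q.f.coeff n ∈ φ.range) (hg : ∀ n, Q.g.coeff n ∈ φ.range) :
    ∃ Q₁ : StandardEtalePair S₁, Q₁.f.map φ = Q.f ∧ Q₁.g.map φ = Q.g * derivative Q.f := by
  have hf' : Q.f ∈ Polynomial.lifts φ := (Polynomial.lifts_iff_coeff_lifts _).mpr (fun n => by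
    simpa using hf n)
  have hg' : Q.g ∈ Polynomial.lifts φ := (Polynomial.lifts_iff_coeff_lifts _).mpr (fun n => by
    simpa using hg n)
  obtain ⟨g₁, hg₁⟩ := hg'
  cases subsingleton_or_nontrivial S with
  | inl hS =>
    exact ⟨pairOf 1 monic_one g₁, Subsingleton.elim _ _, Subsingleton.elim _ _⟩
  | inr hS =>
  obtain ⟨f₁, hf₁, -, hmon⟩ := Polynomial.lifts_and_degree_eq_and_monic hf' Q.monic_f
  refine ⟨pairOf f₁ hmon g₁, hf₁, ?_⟩
  have hg₂ : g₁.map φ = Q.g := hg₁
  simp only [pairOf_g, Polynomial.map_mul]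
  rw [hg₂, ← Polynomial.derivative_map, hf₁]

end Groth.Agent.Lib.StdPairH5
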