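import Mathlib
import Groth.Agent.Lib.StdPair1_helper5

set_option autoImplicit false
universe u

open Polynomial TensorProduct

namespace Groth.Agent.Lib.StdPairH5

variable {S : Type*} [CommRing S]

/-- two pairs with mutually mapping generators have isomorphic rings. -/
noncomputable def equivOfHasMap (Q Q'' : StandardEtalePair S) (h1 : Q.HasMap Q''.X)
    (h2 : Q''.HasMap Q.X) : Q.Ring ≃ₐ[S] Q''.Ring :=
  AlgEquiv.ofAlgHom (Q.lift Q''.X h1) (Q''.lift Q.X h2)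
    (StandardEtalePair.hom_ext (by simp)) (StandardEtalePair.hom_ext (by simp))

@[simp] theorem equivOfHasMap_X (Q Q'' : StandardEtalePair S) (h1 : Q.HasMap Q''.X)
    (h2 : Q''.HasMap Q.X) : equivOfHasMap Q Q'' h1 h2 Q.X = Q''.X := by
  simp [equivOfHasMap]

section BC

variable {R₀ A₀ U L : Type u} [CommRing R₀] [CommRing A₀] [CommRing U] [CommRing L]
  [Algebra R₀ A₀] [Algebra R₀ U] [Algebra R₀ L] [Algebra U L] [IsScalarTower R₀ U L]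

/-- the base change map `U ⊗ A₀ → L ⊗ A₀`. -/
noncomputable abbrev phi : U ⊗[R₀] A₀ →ₐ[R₀] L ⊗[R₀] A₀ :=
  Algebra.TensorProduct.map (IsScalarTower.toAlgHom R₀ U L) (AlgHom.id R₀ A₀)

variable (Q₁ : StandardEtalePair (U ⊗[R₀] A₀)) (Q' : StandardEtalePair (L ⊗[R₀] A₀))
  [Algebra U Q₁.Ring] [IsScalarTower U (U ⊗[R₀] A₀) Q₁.Ring]

theorem exists_bc_equiv
    (hf : Q₁.f.map (phi (R₀ := R₀) (A₀ := A₀) (U := U) (L := L)).toRingHom = Q'.f)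
    (hg : Q₁.g.map (phi (R₀ := R₀) (A₀ := A₀) (U := U) (L := L)).toRingHom =
      Q'.g * derivative Q'.f) :
    ∃ Ψ : L ⊗[U] Q₁.Ring ≃+* Q'.Ring,
      (∀ l : L, Ψ (l ⊗ₜ 1) = algebraMap (L ⊗[R₀] A₀) Q'.Ring (l ⊗ₜ 1)) ∧
      (∀ s : U ⊗[R₀] A₀, Ψ (1 ⊗ₜ algebraMap (U ⊗[R₀] A₀) Q₁.Ring s) =
        algebraMap (L ⊗[R₀] A₀) Q'.Ring (phi s)) := by
  letI algSS : Algebra (U ⊗[R₀] A₀) (L ⊗[R₀] A₀) :=
    (phi (R₀ := R₀) (A₀ := A₀) (U := U) (L := L)).toRingHom.toAlgebra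
  haveI : IsScalarTower U (U ⊗[R₀] A₀) (L ⊗[R₀] A₀) :=
    IsScalarTower.of_algebraMap_eq (fun u => by
      show _ = phi (algebraMap U (U ⊗[R₀] A₀) u)
      simp [Algebra.TensorProduct.algebraMap_apply])
  haveI hpo : Algebra.IsPushout U L (U ⊗[R₀] A₀) (L ⊗[R₀] A₀) :=
    Algebra.IsPushout.tensorProduct_tensorProduct R₀ A₀ U L (by
      ext a
      show phi (1 ⊗ₜ a) = 1 ⊗ₜ a
      simp)
  let e₁ := Algebra.IsPushout.cancelBaseChangeAlg U L (U ⊗[R₀] A₀) (L ⊗[R₀] A₀) Q₁.Ring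
  let P₀ : StandardEtalePresentation (U ⊗[R₀] A₀) Q₁.Ring :=
    ⟨Q₁, Q₁.X, Q₁.hasMap_X, by
      simpa [StandardEtalePair.lift_X_left] using Function.bijective_id⟩
  let e₂ := (P₀.baseChange (T := L ⊗[R₀] A₀)).equivRing
  have hmapf : (Q₁.map (algebraMap (U ⊗[R₀] A₀) (L ⊗[R₀] A₀))).f = Q'.f := hf
  have hmapg : (Q₁.map (algebraMap (U ⊗[R₀] A₀) (L ⊗[R₀] A₀))).g = Q'.g * derivative Q'.f := hg
  have h1 : (Q₁.map (algebraMap (U ⊗[R₀] A₀) (L ⊗[R₀] A₀))).HasMap Q'.X := by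
    refine ⟨?_, ?_⟩
    · rw [hmapf]; exact Q'.hasMap_X.1
    · rw [hmapg, map_mul]
      exact Q'.hasMap_X.2.mul Q'.hasMap_X.isUnit_derivative_f
  have h2 : Q'.HasMap (Q₁.map (algebraMap (U ⊗[R₀] A₀) (L ⊗[R₀] A₀))).X := by
    have h0 := (Q₁.map (algebraMap (U ⊗[R₀] A₀) (L ⊗[R₀] A₀))).hasMap_X
    refine ⟨?_, ?_⟩
    · rw [← hmapf]; exact h0.1
    · have := h0.2
      rw [hmapg, map_mul] at this
      exact isUnit_of_mul_isUnit_left this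
  let e₃ := equivOfHasMap _ Q' h1 h2
  refine ⟨e₁.symm.toRingEquiv.trans (e₂.toRingEquiv.trans e₃.toRingEquiv), ?_, ?_⟩
  · intro l
    show e₃ (e₂ (e₁.symm (l ⊗ₜ 1))) = _
    rw [Algebra.IsPushout.cancelBaseChangeAlg_symm_tmul]
    have : (algebraMap L (L ⊗[R₀] A₀) l) ⊗ₜ[U ⊗[R₀] A₀] (1 : Q₁.Ring) =
        algebraMap (L ⊗[R₀] A₀) ((L ⊗[R₀] A₀) ⊗[U ⊗[R₀] A₀] Q₁.Ring) (l ⊗ₜ 1) := by
      rw [Algebra.TensorProduct.algebraMap_apply, Algebra.TensorProduct.algebraMap_apply]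
      rfl
    rw [this]
    have h₂ := e₂.commutes (l ⊗ₜ[R₀] (1 : A₀))
    have h₃ := e₃.commutes (l ⊗ₜ[R₀] (1 : A₀))
    exact (congrArg e₃ h₂).trans h₃
  · intro s
    show e₃ (e₂ (e₁.symm (1 ⊗ₜ _))) = _
    rw [Algebra.IsPushout.cancelBaseChangeAlg_symm_tmul]
    have : (algebraMap L (L ⊗[R₀] A₀) 1) ⊗ₜ[U ⊗[R₀] A₀] (algebraMap (U ⊗[R₀] A₀) Q₁.Ring s) =
        algebraMap (L ⊗[R₀] A₀) ((L ⊗[R₀] A₀) ⊗[U ⊗[R₀] A₀] Q₁.Ring) (phi s) := by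
      rw [map_one, Algebra.TensorProduct.algebraMap_apply, Algebra.algebraMap_eq_smul_one s,
        TensorProduct.tmul_smul, TensorProduct.smul_tmul', Algebra.smul_def, mul_one]
      rfl
    rw [this]
    have h₂ := e₂.commutes (phi s)
    have h₃ := e₃.commutes (phi s)
    exact (congrArg e₃ h₂).trans h₃

end BC

end Groth.Agent.Lib.StdPairH5
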