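import Mathlib
import Groth.Agent.Lib.DescSub4_helper5
import Groth.Agent.Lib.StdPair2_helper5
import Groth.Agent.Lib.BCEt_helper5

set_option autoImplicit false
set_option maxHeartbeats 1000000
universe u

open TensorProduct Polynomial

namespace Groth.Agent.Lib.DescCorrH5

open Groth.Agent.Lib.DescSubH5 Groth.Agent.Lib.StdPairH5 Groth.Agent.Lib.BCEtH5

section coef
variable {U L : Type u} [CommRing U] [CommRing L] [Algebra U L]

theorem exists_finset_coeff_mem_range (E : Type u) [CommRing E] [Algebra U E]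
    (q : (L ⊗[U] E)[X]) :
    ∃ s : Finset L, ∀ P : Subalgebra U L, (s : Set L) ⊆ P →
      ∀ n, q.coeff n ∈ (bcL E P).toRingHom.range := by
  classical
  choose s hs using fun n : ℕ => exists_finset_mem_range_bcL E (q.coeff n)
  refine ⟨q.support.biUnion s, fun P hP n => ?_⟩
  by_cases hn : n ∈ q.support
  · obtain ⟨y, hy⟩ := hs n P (fun a ha => hP (by
      simp only [Finset.coe_biUnion, Set.mem_iUnion]
      exact ⟨n, hn, ha⟩))
    exact ⟨y, hy⟩
  · rw [Polynomial.notMem_support_iff.mp hn]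
    exact Subring.zero_mem _

end coef

section main
variable {U L : Type u} [CommRing U] [CommRing L] [Algebra U L]

theorem toAlgHom_eq_val (P : Subalgebra U L) : IsScalarTower.toAlgHom U ↥P L = P.val := rfl

/-- Step 1: descent of a standard étale pair over `L ⊗[U] E` to a finitely generated subalgebra. -/
theorem exists_pair_descent (E : Type u) [CommRing E] [Algebra U E]
    (Q : StandardEtalePair (L ⊗[U] E)) :
    ∃ s : Finset L, ∀ P : Subalgebra U L, (s : Set L) ⊆ P →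
      ∃ Q₁ : StandardEtalePair (P ⊗[U] E),
        Q₁.f.map (bcL E P).toRingHom = Q.f ∧
        Q₁.g.map (bcL E P).toRingHom = Q.g * derivative Q.f := by
  classical
  obtain ⟨sf, hsf⟩ := exists_finset_coeff_mem_range E Q.f
  obtain ⟨sg, hsg⟩ := exists_finset_coeff_mem_range E Q.g
  refine ⟨sf ∪ sg, fun P hP => ?_⟩
  have h1 : (sf : Set L) ⊆ P := fun a ha => hP (by simp [Finset.mem_coe.mp ha])
  have h2 : (sg : Set L) ⊆ P := fun a ha => hP (by simp [Finset.mem_coe.mp ha])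
  exact exists_pair_lift (bcL E P).toRingHom Q (hsf P h1) (hsg P h2)

end main

section model
variable {U L : Type u} [CommRing U] [CommRing L] [Algebra U L]

/-- Steps 1+2: a standard étale algebra over `L ⊗[U] E` has a model over `P ⊗[U] E` for every
sufficiently large finitely generated subalgebra `P` of `L`. -/
theorem exists_model (E : Type u) [CommRing E] [Algebra U E] [Algebra.FinitePresentation U E]
    (Q : StandardEtalePair (L ⊗[U] E)) :
    ∃ s : Finset L, ∀ P : Subalgebra U L, (s : Set L) ⊆ P →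
      ∃ (D₁ : Type u) (_ : CommRing D₁) (_ : Algebra P D₁) (_ : Algebra.FinitePresentation P D₁)
        (f₁ : P ⊗[U] E →ₐ[P] D₁) (Ψ : L ⊗[P] D₁ ≃+* Q.Ring),
        f₁.toRingHom.Etale ∧
        (∀ l : L, Ψ (l ⊗ₜ 1) = algebraMap (L ⊗[U] E) Q.Ring (l ⊗ₜ 1)) ∧
        ∀ x : P ⊗[U] E, Ψ (1 ⊗ₜ f₁ x) = algebraMap (L ⊗[U] E) Q.Ring (bcL E P x) := by
  classical
  obtain ⟨s, hs⟩ := exists_pair_descent E Q
  refine ⟨s, fun P hP => ?_⟩
  obtain ⟨Q₁, hf, hg⟩ := hs P hP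
  letI alg1 : Algebra P Q₁.Ring :=
    ((algebraMap (P ⊗[U] E) Q₁.Ring).comp (algebraMap P (P ⊗[U] E))).toAlgebra
  haveI tw1 : IsScalarTower P (P ⊗[U] E) Q₁.Ring := by
    refine IsScalarTower.of_algebraMap_eq' (R := P) (S := P ⊗[U] E) (A := Q₁.Ring) ?_
    rfl
  obtain ⟨Ψ, hΨ1, hΨ2⟩ := exists_bc_equiv (R₀ := U) (A₀ := E) (U := P) (L := L) Q₁ Q hf hg
  haveI : Algebra.FinitePresentation P (P ⊗[U] E) := inferInstance
  haveI : Algebra.FinitePresentation (P ⊗[U] E) Q₁.Ring := inferInstance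
  haveI : Algebra.FinitePresentation P Q₁.Ring :=
    Algebra.FinitePresentation.trans P (P ⊗[U] E) Q₁.Ring
  refine ⟨Q₁.Ring, inferInstance, alg1, inferInstance, IsScalarTower.toAlgHom P (P ⊗[U] E) Q₁.Ring,
    Ψ, ?_, hΨ1, fun x => hΨ2 x⟩
  show (algebraMap (P ⊗[U] E) Q₁.Ring).Etale
  exact RingHom.etale_algebraMap.mpr inferInstance

end model

section model2
variable {U L : Type u} [CommRing U] [CommRing L] [Algebra U L]

/-- two standard étale algebras over base changes to `L` have models over a common finite type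
`U`-algebra `U₁` mapping to `L`. -/
theorem exists_model₂ (AU BU : Type u) [CommRing AU] [Algebra U AU]
    [Algebra.FinitePresentation U AU] [CommRing BU] [Algebra U BU]
    [Algebra.FinitePresentation U BU]
    (QA : StandardEtalePair (L ⊗[U] AU)) (QB : StandardEtalePair (L ⊗[U] BU)) :
    ∃ (U₁ : Type u) (_ : CommRing U₁) (_ : Algebra U U₁) (_ : Algebra.FiniteType U U₁)
      (_ : Algebra U₁ L) (_ : IsScalarTower U U₁ L)
      (D₁ : Type u) (_ : CommRing D₁) (_ : Algebra U₁ D₁) (_ : Algebra.FinitePresentation U₁ D₁)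
      (fA : U₁ ⊗[U] AU →ₐ[U₁] D₁) (ΨA : L ⊗[U₁] D₁ ≃+* QA.Ring)
      (E₁ : Type u) (_ : CommRing E₁) (_ : Algebra U₁ E₁) (_ : Algebra.FinitePresentation U₁ E₁)
      (fB : U₁ ⊗[U] BU →ₐ[U₁] E₁) (ΨB : L ⊗[U₁] E₁ ≃+* QB.Ring),
      fA.toRingHom.Etale ∧
      (∀ l : L, ΨA (l ⊗ₜ 1) = algebraMap (L ⊗[U] AU) QA.Ring (l ⊗ₜ 1)) ∧
      (∀ x : U₁ ⊗[U] AU, ΨA (1 ⊗ₜ fA x) = algebraMap (L ⊗[U] AU) QA.Ring
        (Algebra.TensorProduct.map (IsScalarTower.toAlgHom U U₁ L) (AlgHom.id U AU) x)) ∧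
      fB.toRingHom.Etale ∧
      (∀ l : L, ΨB (l ⊗ₜ 1) = algebraMap (L ⊗[U] BU) QB.Ring (l ⊗ₜ 1)) ∧
      (∀ x : U₁ ⊗[U] BU, ΨB (1 ⊗ₜ fB x) = algebraMap (L ⊗[U] BU) QB.Ring
        (Algebra.TensorProduct.map (IsScalarTower.toAlgHom U U₁ L) (AlgHom.id U BU) x)) := by
  classical
  obtain ⟨sA, hsA⟩ := exists_model AU QA
  obtain ⟨sB, hsB⟩ := exists_model BU QB
  obtain ⟨P₁, hP₁⟩ : ∃ P₁ : Subalgebra U L, P₁ = Algebra.adjoin U ((sA ∪ sB : Finset L) : Set L) :=
    ⟨_, rfl⟩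
  have hsAP : (sA : Set L) ⊆ P₁ := by
    intro a ha
    rw [hP₁]
    exact Algebra.subset_adjoin (by simp [Finset.mem_coe.mp ha])
  have hsBP : (sB : Set L) ⊆ P₁ := by
    intro a ha
    rw [hP₁]
    exact Algebra.subset_adjoin (by simp [Finset.mem_coe.mp ha])
  have hP₁fg : P₁.FG := by
    rw [hP₁]
    exact Subalgebra.fg_adjoin_finset _
  obtain ⟨D₁, iD1, iD2, iD3, fA, ΨA, hfA, hΨA1, hΨA2⟩ := hsA P₁ hsAP
  obtain ⟨E₁, iE1, iE2, iE3, fB, ΨB, hfB, hΨB1, hΨB2⟩ := hsB P₁ hsBP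
  exact ⟨P₁, inferInstance, inferInstance, (Subalgebra.fg_iff_finiteType P₁).mp hP₁fg,
    inferInstance, inferInstance, D₁, iD1, iD2, iD3, fA, ΨA, E₁, iE1, iE2, iE3, fB, ΨB,
    hfA, hΨA1, hΨA2, hfB, hΨB1, hΨB2⟩

end model2

section liftabs
variable {U L : Type u} [CommRing U] [CommRing L] [Algebra U L]
variable {D E : Type u} [CommRing D] [Algebra U D] [CommRing E] [Algebra U E]

theorem exists_lift_equiv_abs [Algebra.FinitePresentation U D] [Algebra.FinitePresentation U E]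
    (Φ : L ⊗[U] D ≃ₐ[L] L ⊗[U] E) :
    ∃ (P : Type u) (_ : CommRing P) (_ : Algebra U P) (_ : Algebra.FiniteType U P)
      (ι : P →ₐ[U] L) (θ : P ⊗[U] D ≃ₐ[P] P ⊗[U] E),
      ∀ x, Algebra.TensorProduct.map ι (AlgHom.id U E) (θ x) =
        Φ (Algebra.TensorProduct.map ι (AlgHom.id U D) x) := by
  classical
  obtain ⟨s, hs⟩ := exists_finset_lift_equiv Φ
  obtain ⟨P, hP⟩ : ∃ P : Subalgebra U L, P = Algebra.adjoin U (s : Set L) := ⟨_, rfl⟩
  have hsP : (s : Set L) ⊆ P := by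
    rw [hP]
    exact Algebra.subset_adjoin
  have hPfg : P.FG := by
    rw [hP]
    exact Subalgebra.fg_adjoin_finset _
  obtain ⟨θ, hθ⟩ := hs P hsP
  exact ⟨P, inferInstance, inferInstance, (Subalgebra.fg_iff_finiteType P).mp hPfg, P.val, θ, hθ⟩

end liftabs

end Groth.Agent.Lib.DescCorrH5
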