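import Mathlib
import Groth.Agent.Lib.DescCorr1_helper5

set_option autoImplicit false
set_option maxHeartbeats 1000000
universe u

open TensorProduct Polynomial

namespace Groth.Agent.Lib.DescCorrH5

open Groth.Agent.Lib.DescSubH5 Groth.Agent.Lib.StdPairH5 Groth.Agent.Lib.BCEtH5

section corr
variable {U L : Type u} [CommRing U] [CommRing L] [Algebra U L]

/-- **Descent of an étale correspondence** from `L` to a finite type `U`-algebra mapping to `L`. -/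
theorem descend_corr (AU BU : Type u) [CommRing AU] [Algebra U AU]
    [Algebra.FinitePresentation U AU] [CommRing BU] [Algebra U BU]
    [Algebra.FinitePresentation U BU] {D'' : Type u} [CommRing D'']
    (QA : StandardEtalePair (L ⊗[U] AU)) (εA : QA.Ring ≃+* D'')
    (QB : StandardEtalePair (L ⊗[U] BU)) (εB : QB.Ring ≃+* D'')
    (hL : ∀ l : L, εA (algebraMap (L ⊗[U] AU) QA.Ring (l ⊗ₜ 1)) =
      εB (algebraMap (L ⊗[U] BU) QB.Ring (l ⊗ₜ 1))) :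
    ∃ (P : Type u) (_ : CommRing P) (_ : Algebra U P) (_ : Algebra.FiniteType U P)
      (ι : P →ₐ[U] L) (DP : Type u) (_ : CommRing DP) (_ : Algebra P DP)
      (αP : P ⊗[U] AU →ₐ[P] DP) (βP : P ⊗[U] BU →ₐ[P] DP) (j : DP →+* D''),
      αP.toRingHom.Etale ∧ βP.toRingHom.Etale ∧
      (∀ x, j (αP x) = εA (algebraMap (L ⊗[U] AU) QA.Ring
        (Algebra.TensorProduct.map ι (AlgHom.id U AU) x))) ∧
      (∀ y, j (βP y) = εB (algebraMap (L ⊗[U] BU) QB.Ring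
        (Algebra.TensorProduct.map ι (AlgHom.id U BU) y))) := by
  classical
  obtain ⟨U₁, i1, i2, i3, i4, i5, D₁, iD1, iD2, iD3, fA, ΨA, E₁, iE1, iE2, iE3, fB, ΨB,
    hfA, hΨA1, hΨA2, hfB, hΨB1, hΨB2⟩ := exists_model₂ AU BU QA QB
  -- the isomorphism over `L`
  let Φ₀ : L ⊗[U₁] D₁ ≃+* L ⊗[U₁] E₁ := ΨA.trans (εA.trans (εB.symm.trans ΨB.symm))
  have hΦ₀ : ∀ l : L, Φ₀ (l ⊗ₜ 1) = l ⊗ₜ 1 := by
    intro l
    show ΨB.symm (εB.symm (εA (ΨA (l ⊗ₜ 1)))) = _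
    rw [hΨA1, hL, RingEquiv.symm_apply_apply, ← hΨB1, RingEquiv.symm_apply_apply]
  let Φ : L ⊗[U₁] D₁ ≃ₐ[L] L ⊗[U₁] E₁ := AlgEquiv.ofRingEquiv (f := Φ₀) (fun l => by
    rw [Algebra.TensorProduct.algebraMap_apply, Algebra.TensorProduct.algebraMap_apply]
    exact hΦ₀ l)
  have hΦ : ∀ z, Φ z = ΨB.symm (εB.symm (εA (ΨA z))) := fun z => rfl
  obtain ⟨P, iP1, iP2, iP3, ι, θ, hθ⟩ := exists_lift_equiv_abs Φ
  letI algUP : Algebra U P := ((algebraMap U₁ P).comp (algebraMap U U₁)).toAlgebra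
  haveI twUP : IsScalarTower U U₁ P :=
    IsScalarTower.of_algebraMap_eq' (R := U) (S := U₁) (A := P) rfl
  haveI : Algebra.FiniteType U P := Algebra.FiniteType.trans (S := U₁) inferInstance inferInstance
  let ι' : P →ₐ[U] L := ι.restrictScalars U
  let cA : P ⊗[U] AU ≃ₐ[P] P ⊗[U₁] (U₁ ⊗[U] AU) :=
    (Algebra.TensorProduct.cancelBaseChange U U₁ P P AU).symm
  let cB : P ⊗[U] BU ≃ₐ[P] P ⊗[U₁] (U₁ ⊗[U] BU) :=
    (Algebra.TensorProduct.cancelBaseChange U U₁ P P BU).symm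
  let lA : P ⊗[U₁] (U₁ ⊗[U] AU) →ₐ[P] P ⊗[U₁] D₁ :=
    Algebra.TensorProduct.lTensor (S := P) P fA
  let lB : P ⊗[U₁] (U₁ ⊗[U] BU) →ₐ[P] P ⊗[U₁] E₁ :=
    Algebra.TensorProduct.lTensor (S := P) P fB
  have hlA : lA.toRingHom.Etale := etale_lTensor P hfA
  have hlB : lB.toRingHom.Etale := etale_lTensor P hfB
  let αP : P ⊗[U] AU →ₐ[P] P ⊗[U₁] D₁ := lA.comp cA.toAlgHom
  let βP : P ⊗[U] BU →ₐ[P] P ⊗[U₁] D₁ := θ.symm.toAlgHom.comp (lB.comp cB.toAlgHom)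
  let j : P ⊗[U₁] D₁ →+* D'' :=
    εA.toRingHom.comp (ΨA.toRingHom.comp (Algebra.TensorProduct.map ι (AlgHom.id U₁ D₁)).toRingHom)
  refine ⟨P, inferInstance, inferInstance, inferInstance, ι', P ⊗[U₁] D₁, inferInstance,
    inferInstance, αP, βP, j, ?_, ?_, ?_, ?_⟩
  · -- αP étale
    have h1 : cA.toAlgHom.toRingHom.Etale := RingHom.Etale.of_bijective cA.bijective
    exact RingHom.Etale.stableUnderComposition _ _ h1 hlA
  · have h1 : cB.toAlgHom.toRingHom.Etale := RingHom.Etale.of_bijective cB.bijective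
    have h2 : (lB.comp cB.toAlgHom).toRingHom.Etale :=
      RingHom.Etale.stableUnderComposition _ _ h1 hlB
    have h3 : θ.symm.toAlgHom.toRingHom.Etale := RingHom.Etale.of_bijective θ.symm.bijective
    exact RingHom.Etale.stableUnderComposition _ _ h2 h3
  · intro x
    induction x with
    | zero => simp
    | add x y hx hy => simp only [map_add, hx, hy]
    | tmul p a =>
      show εA (ΨA (Algebra.TensorProduct.map ι (AlgHom.id U₁ D₁) (lA (cA (p ⊗ₜ a))))) = _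
      have e1 : cA (p ⊗ₜ[U] a) = p ⊗ₜ[U₁] ((1 : U₁) ⊗ₜ[U] a) :=
        Algebra.TensorProduct.cancelBaseChange_symm_tmul U U₁ P P AU p a
      rw [e1]
      have e2 : lA (p ⊗ₜ[U₁] ((1 : U₁) ⊗ₜ[U] a)) = p ⊗ₜ[U₁] fA ((1 : U₁) ⊗ₜ[U] a) := by
        simp [lA]
      rw [e2, Algebra.TensorProduct.map_tmul]
      have e3 : (ι p) ⊗ₜ[U₁] (AlgHom.id U₁ D₁) (fA ((1 : U₁) ⊗ₜ[U] a)) =
          ((ι p) ⊗ₜ[U₁] (1 : D₁)) * ((1 : L) ⊗ₜ[U₁] fA ((1 : U₁) ⊗ₜ[U] a)) := by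
        simp
      rw [e3, map_mul, hΨA1, hΨA2, ← map_mul]
      congr 2
      simp [ι']
  · intro y
    induction y with
    | zero => simp
    | add x y hx hy => simp only [map_add, hx, hy]
    | tmul p b =>
      show εA (ΨA (Algebra.TensorProduct.map ι (AlgHom.id U₁ D₁)
        (θ.symm (lB (cB (p ⊗ₜ b)))))) = _
      have e1 : cB (p ⊗ₜ[U] b) = p ⊗ₜ[U₁] ((1 : U₁) ⊗ₜ[U] b) :=
        Algebra.TensorProduct.cancelBaseChange_symm_tmul U U₁ P P BU p b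
      rw [e1]
      have e2 : lB (p ⊗ₜ[U₁] ((1 : U₁) ⊗ₜ[U] b)) = p ⊗ₜ[U₁] fB ((1 : U₁) ⊗ₜ[U] b) := by
        simp [lB]
      rw [e2]
      have e4 := hθ (θ.symm (p ⊗ₜ[U₁] fB ((1 : U₁) ⊗ₜ[U] b)))
      rw [AlgEquiv.apply_symm_apply, hΦ] at e4
      have e5 : εA (ΨA (Algebra.TensorProduct.map ι (AlgHom.id U₁ D₁)
          (θ.symm (p ⊗ₜ[U₁] fB ((1 : U₁) ⊗ₜ[U] b))))) =
          εB (ΨB (Algebra.TensorProduct.map ι (AlgHom.id U₁ E₁)
            (p ⊗ₜ[U₁] fB ((1 : U₁) ⊗ₜ[U] b)))) := by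
        rw [e4, RingEquiv.apply_symm_apply, RingEquiv.apply_symm_apply]
      rw [e5, Algebra.TensorProduct.map_tmul]
      have e3 : (ι p) ⊗ₜ[U₁] (AlgHom.id U₁ E₁) (fB ((1 : U₁) ⊗ₜ[U] b)) =
          ((ι p) ⊗ₜ[U₁] (1 : E₁)) * ((1 : L) ⊗ₜ[U₁] fB ((1 : U₁) ⊗ₜ[U] b)) := by
        simp
      rw [e3, map_mul, hΨB1, hΨB2, ← map_mul]
      congr 2
      simp [ι']

end corr

end Groth.Agent.Lib.DescCorrH5
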