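import Mathlib
import Groth.Agent.Lib.FlatDesc15_helper8

/-!
# Descending an isomorphism of finitely presented algebras to a finitely generated subalgebra
-/

namespace Groth.Agent.Lib.FlatDescH8

open TensorProduct

universe u

section DI

variable {R₀ A : Type u} [CommRing R₀] [CommRing A] [Algebra R₀ A]

/-- transition maps `S ⊗ E → S' ⊗ E`. -/
noncomputable def tmap (E : Type u) [CommRing E] [Algebra R₀ E] {S S' : Subalgebra R₀ A}
    (h : S ≤ S') : S ⊗[R₀] E →ₐ[R₀] S' ⊗[R₀] E :=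
  Algebra.TensorProduct.map (Subalgebra.inclusion h) (AlgHom.id R₀ E)

variable (E : Type u) [CommRing E] [Algebra R₀ E]

lemma jmap_eq_rTensor (S : Subalgebra R₀ A) (x : S ⊗[R₀] E) :
    jmap (B₀ := E) S x = LinearMap.rTensor E S.val.toLinearMap x := rfl

lemma tmap_eq_rTensor {S S' : Subalgebra R₀ A} (h : S ≤ S') (x : S ⊗[R₀] E) :
    tmap E h x = LinearMap.rTensor E (Subalgebra.inclusion h).toLinearMap x := rfl

lemma jmap_tmap {S S' : Subalgebra R₀ A} (h : S ≤ S') (x : S ⊗[R₀] E) :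
    jmap (B₀ := E) S' (tmap E h x) = jmap S x := by
  induction x with
  | zero => simp
  | tmul a b => rfl
  | add x y hx hy => simp only [map_add, hx, hy]

lemma tmap_tmap {S S' S'' : Subalgebra R₀ A} (h : S ≤ S') (h' : S' ≤ S'') (x : S ⊗[R₀] E) :
    tmap E h' (tmap E h x) = tmap E (h.trans h') x := by
  induction x with
  | zero => simp
  | tmul a b => rfl
  | add x y hx hy => simp only [map_add, hx, hy]

/-- elements of `S ⊗ E` with equal images in `A ⊗ E` become equal at a finite stage. -/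
lemma exists_fg_tmap_eq {S : Subalgebra R₀ A} (hS : S.FG) (x y : S ⊗[R₀] E)
    (hxy : jmap (B₀ := E) S x = jmap S y) :
    ∃ (S' : Subalgebra R₀ A) (h : S ≤ S'), S'.FG ∧ tmap E h x = tmap E h y := by
  obtain ⟨S', h, hS', heq⟩ := TensorProduct.Algebra.eq_of_fg_of_subtype_eq hS
    (t := x) (t' := y) hxy
  exact ⟨S', h, hS', heq⟩

/-- **Lifting homomorphisms** from a finitely presented algebra into `A ⊗ E` to a finitely
generated subalgebra of `A`. -/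
theorem exists_fg_lift (C : Type u) [CommRing C] [Algebra R₀ C] [Algebra.FinitePresentation R₀ C]
    (φ : C →ₐ[R₀] A ⊗[R₀] E) :
    ∃ (S : Subalgebra R₀ A) (_ : S.FG) (φ' : C →ₐ[R₀] S ⊗[R₀] E),
      ∀ x, jmap (B₀ := E) S (φ' x) = φ x := by
  classical
  let ι := {S : Subalgebra R₀ A // S.FG}
  haveI : Nonempty ι := ⟨⟨⊥, Subalgebra.fg_bot⟩⟩
  haveI : IsDirected ι (· ≤ ·) :=
    ⟨fun a b => ⟨⟨a.1 ⊔ b.1, a.2.sup b.2⟩, (le_sup_left : a.1 ≤ a.1 ⊔ b.1),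
      (le_sup_right : b.1 ≤ a.1 ⊔ b.1)⟩⟩
  let G : ι → Type u := fun i => i.1 ⊗[R₀] E
  letI : ∀ i, CommRing (G i) := fun i => inferInstanceAs (CommRing (i.1 ⊗[R₀] E))
  letI : ∀ i, Algebra R₀ (G i) := fun i => inferInstanceAs (Algebra R₀ (i.1 ⊗[R₀] E))
  let g : ∀ i j : ι, i ≤ j → G i →+* G j := fun i j h => (tmap E (S := i.1) (S' := j.1) h).toRingHom
  letI : ∀ i : ι, Algebra (G i) (A ⊗[R₀] E) := fun i => (jmap (B₀ := E) i.1).toRingHom.toAlgebra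
  haveI : ∀ i : ι, IsScalarTower R₀ (G i) (A ⊗[R₀] E) := fun i =>
    IsScalarTower.of_algebraMap_eq (fun x => ((jmap (B₀ := E) i.1).commutes x).symm)
  obtain ⟨i, φ', hφ'⟩ := exists_lift_of_directed_colimit (A₁ := R₀) G g
    (fun i j h a => (tmap E (S := i.1) (S' := j.1) h).commutes a)
    (A ⊗[R₀] E)
    (fun i j k hij hjk => RingHom.ext fun x =>
      tmap_tmap E (S := i.1) (S' := j.1) (S'' := k.1) hij hjk x)
    (fun i j h => RingHom.ext fun x => jmap_tmap E (S := i.1) (S' := j.1) h x)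
    (fun a => by
      obtain ⟨S, hS, x, hx⟩ := exists_fg_mem_jmap_range (B₀ := E) a
      exact ⟨⟨S, hS⟩, x, hx⟩)
    (fun i x hx => by
      obtain ⟨S', h, hS', heq⟩ := exists_fg_tmap_eq E i.2 x 0
        (by rw [map_zero]; exact hx)
      exact ⟨⟨S', hS'⟩, h, by rw [map_zero] at heq; exact heq⟩)
    C φ
  exact ⟨i.1, i.2, φ', hφ'⟩

/-- **Equalizing homomorphisms** from a finitely generated algebra. -/
theorem exists_fg_tmap_comp_eq (C : Type u) [CommRing C] [Algebra R₀ C] [Algebra.FiniteType R₀ C]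
    {S : Subalgebra R₀ A} (hS : S.FG) (u v : C →ₐ[R₀] S ⊗[R₀] E)
    (huv : ∀ c, jmap (B₀ := E) S (u c) = jmap S (v c)) :
    ∃ (S' : Subalgebra R₀ A) (h : S ≤ S'), S'.FG ∧ ∀ c, tmap E h (u c) = tmap E h (v c) := by
  classical
  obtain ⟨t, ht⟩ := (inferInstance : Algebra.FiniteType R₀ C).out
  have key : ∀ t : Finset C, ∃ (S' : Subalgebra R₀ A) (h : S ≤ S'), S'.FG ∧
      ∀ c ∈ t, tmap E h (u c) = tmap E h (v c) := by
    intro t
    induction t using Finset.induction_on with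
    | empty => exact ⟨S, le_rfl, hS, fun c hc => absurd hc (Finset.notMem_empty c)⟩
    | insert a t _ ih =>
      obtain ⟨S₁, h₁, hS₁, heq₁⟩ := ih
      obtain ⟨S₂, h₂, hS₂, heq₂⟩ := exists_fg_tmap_eq E hS (u a) (v a) (huv a)
      refine ⟨S₁ ⊔ S₂, h₁.trans le_sup_left, hS₁.sup hS₂, fun c hc => ?_⟩
      rcases Finset.mem_insert.mp hc with rfl | hc
      · rw [← tmap_tmap E h₂ le_sup_right, ← tmap_tmap E h₂ le_sup_right, heq₂]
      · rw [← tmap_tmap E h₁ le_sup_left, ← tmap_tmap E h₁ le_sup_left, heq₁ c hc]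
  obtain ⟨S', h, hS', heq⟩ := key t
  refine ⟨S', h, hS', fun c => ?_⟩
  have : (tmap E h).comp u = (tmap E h).comp v :=
    AlgHom.ext_of_adjoin_eq_top ht (fun x hx => heq x hx)
  exact AlgHom.congr_fun this c

variable {E}
variable {C : Type u} [CommRing C] [Algebra R₀ C]

/-- extension of a homomorphism `C → S ⊗ E` to an `S`-algebra homomorphism `S ⊗ C → S ⊗ E`. -/
noncomputable def extS {S : Subalgebra R₀ A} (φ' : C →ₐ[R₀] S ⊗[R₀] E) :
    S ⊗[R₀] C →ₐ[S] S ⊗[R₀] E :=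
  Algebra.TensorProduct.lift (Algebra.ofId S (S ⊗[R₀] E)) φ' (fun _ _ => Commute.all _ _)

lemma extS_tmul {S : Subalgebra R₀ A} (φ' : C →ₐ[R₀] S ⊗[R₀] E) (s : S) (c : C) :
    extS φ' (s ⊗ₜ[R₀] c) = (s ⊗ₜ[R₀] (1 : E)) * φ' c := by
  unfold extS
  rw [Algebra.TensorProduct.lift_tmul]
  rfl

lemma jmap_extS {S : Subalgebra R₀ A} (φ' : C →ₐ[R₀] S ⊗[R₀] E)
    (Θ : A ⊗[R₀] C →ₐ[A] A ⊗[R₀] E)
    (h : ∀ c, jmap (B₀ := E) S (φ' c) = Θ ((1 : A) ⊗ₜ[R₀] c)) (x : S ⊗[R₀] C) :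
    jmap (B₀ := E) S (extS φ' x) = Θ (jmap (B₀ := C) S x) := by
  induction x with
  | zero => simp
  | tmul s c =>
    rw [extS_tmul, map_mul, h, jmap_tmul, jmap_tmul]
    have h1 : ((s : A) ⊗ₜ[R₀] (1 : E)) = algebraMap A (A ⊗[R₀] E) (s : A) := rfl
    have h2 : ((s : A) ⊗ₜ[R₀] c) = algebraMap A (A ⊗[R₀] C) (s : A) * ((1 : A) ⊗ₜ[R₀] c) := by
      rw [Algebra.TensorProduct.algebraMap_apply, Algebra.TensorProduct.tmul_mul_tmul, mul_one,
        one_mul]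
      rfl
    rw [h1, h2, map_mul, AlgHom.commutes]
  | add x y hx hy => simp only [map_add, hx, hy]

lemma tmap_extS {S S' : Subalgebra R₀ A} (h : S ≤ S') (φ' : C →ₐ[R₀] S ⊗[R₀] E)
    (x : S ⊗[R₀] C) :
    tmap E h (extS φ' x) = extS ((tmap E h).comp φ') (tmap C h x) := by
  induction x with
  | zero => simp
  | tmul s c =>
    rw [extS_tmul, map_mul]
    have : tmap C h (s ⊗ₜ[R₀] c) = (Subalgebra.inclusion h s) ⊗ₜ[R₀] c := rfl
    rw [this, extS_tmul]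
    rfl
  | add x y hx hy => simp only [map_add, hx, hy]

omit [Algebra R₀ C] in
lemma extS_comp_eq_id_aux {C : Type u} [CommRing C] [Algebra R₀ C] {D : Type u} [CommRing D]
    [Algebra R₀ D] {S S' : Subalgebra R₀ A} (h : S ≤ S')
    (φ' : C →ₐ[R₀] S ⊗[R₀] D) (ψ' : D →ₐ[R₀] S ⊗[R₀] C)
    (heq : ∀ c, tmap C h (extS ψ' (φ' c)) = tmap C h ((1 : S) ⊗ₜ[R₀] c)) :
    (extS ((tmap C h).comp ψ')).comp (extS ((tmap D h).comp φ')) =
      AlgHom.id S' (S' ⊗[R₀] C) := by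
  apply Algebra.TensorProduct.ext
  · ext
  · apply AlgHom.ext
    intro c
    simp only [AlgHom.comp_apply, AlgHom.restrictScalars_apply,
      Algebra.TensorProduct.includeRight_apply, AlgHom.id_apply]
    rw [extS_tmul, AlgHom.comp_apply]
    have h1 : ((1 : S') ⊗ₜ[R₀] (1 : D)) = 1 := rfl
    rw [h1, one_mul, ← tmap_extS, heq]
    rfl

/-- **Descent of an isomorphism of finitely presented algebras** to a finitely generated
subalgebra. -/
theorem exists_fg_algEquiv (C D : Type u) [CommRing C] [CommRing D] [Algebra R₀ C] [Algebra R₀ D]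
    [Algebra.FinitePresentation R₀ C] [Algebra.FinitePresentation R₀ D]
    (e : A ⊗[R₀] C ≃ₐ[A] A ⊗[R₀] D) :
    ∃ (S : Subalgebra R₀ A), S.FG ∧ Nonempty (S ⊗[R₀] C ≃ₐ[S] S ⊗[R₀] D) := by
  obtain ⟨S₁, hS₁, φ₁, hφ₁⟩ := exists_fg_lift D C
    ((e.toAlgHom.restrictScalars R₀).comp Algebra.TensorProduct.includeRight)
  obtain ⟨S₂, hS₂, ψ₂, hψ₂⟩ := exists_fg_lift C D
    ((e.symm.toAlgHom.restrictScalars R₀).comp Algebra.TensorProduct.includeRight)
  obtain ⟨S, hS, h1S, h2S⟩ : ∃ S : Subalgebra R₀ A, S.FG ∧ S₁ ≤ S ∧ S₂ ≤ S :=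
    ⟨S₁ ⊔ S₂, hS₁.sup hS₂, le_sup_left, le_sup_right⟩
  obtain ⟨φ', hφ'⟩ : ∃ φ' : C →ₐ[R₀] S ⊗[R₀] D, ∀ c, jmap (B₀ := D) S (φ' c) =
      e ((1 : A) ⊗ₜ[R₀] c) :=
    ⟨(tmap D h1S).comp φ₁, fun c => by
      rw [AlgHom.comp_apply, jmap_tmap, hφ₁]
      rfl⟩
  obtain ⟨ψ', hψ'⟩ : ∃ ψ' : D →ₐ[R₀] S ⊗[R₀] C, ∀ d, jmap (B₀ := C) S (ψ' d) =
      e.symm ((1 : A) ⊗ₜ[R₀] d) :=
    ⟨(tmap C h2S).comp ψ₂, fun d => by
      rw [AlgHom.comp_apply, jmap_tmap, hψ₂]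
      rfl⟩
  -- the composites
  have hu : ∀ c, jmap (B₀ := C) S ((((extS ψ').restrictScalars R₀).comp φ') c) =
      jmap S ((Algebra.TensorProduct.includeRight : C →ₐ[R₀] S ⊗[R₀] C) c) := by
    intro c
    rw [AlgHom.comp_apply, AlgHom.restrictScalars_apply,
      jmap_extS ψ' e.symm.toAlgHom (fun d => hψ' d), hφ']
    exact (e.symm_apply_apply _).trans rfl
  have hu' : ∀ d, jmap (B₀ := D) S ((((extS φ').restrictScalars R₀).comp ψ') d) =
      jmap S ((Algebra.TensorProduct.includeRight : D →ₐ[R₀] S ⊗[R₀] D) d) := by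
    intro d
    rw [AlgHom.comp_apply, AlgHom.restrictScalars_apply,
      jmap_extS φ' e.toAlgHom (fun c => hφ' c), hψ']
    exact (e.apply_symm_apply _).trans rfl
  obtain ⟨S₃, h₃, hS₃, heq₃⟩ := exists_fg_tmap_comp_eq C C hS _ _ hu
  obtain ⟨S₄, h₄, hS₄, heq₄⟩ := exists_fg_tmap_comp_eq D D hS _ _ hu'
  have h : S ≤ S₃ ⊔ S₄ := h₃.trans le_sup_left
  refine ⟨S₃ ⊔ S₄, hS₃.sup hS₄, ⟨AlgEquiv.ofAlgHom (extS ((tmap D h).comp φ'))
    (extS ((tmap C h).comp ψ')) ?_ ?_⟩⟩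
  · refine extS_comp_eq_id_aux h ψ' φ' (fun d => ?_)
    have := heq₄ d
    rw [AlgHom.comp_apply, AlgHom.restrictScalars_apply] at this
    rw [← tmap_tmap D h₄ le_sup_right, this, tmap_tmap]
    rfl
  · refine extS_comp_eq_id_aux h φ' ψ' (fun c => ?_)
    have := heq₃ c
    rw [AlgHom.comp_apply, AlgHom.restrictScalars_apply] at this
    rw [← tmap_tmap C h₃ le_sup_left, this, tmap_tmap]
    rfl

end DI

end Groth.Agent.Lib.FlatDescH8
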