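import Mathlib
import Groth.Agent.Lib.DescIso1_helper8

/-!
# Descending an isomorphism `A ⊗[A₁] B₁ ≃ A ⊗[A₂] B₂` to a finitely generated subalgebra
-/

namespace Groth.Agent.Lib.FlatDescH8

open TensorProduct

universe u

theorem exists_fg_algEquiv_two {A₁ A₂ R₀ A B₁ B₂ : Type u} [CommRing A₁] [CommRing A₂]
    [CommRing R₀] [CommRing A] [CommRing B₁] [CommRing B₂]
    [Algebra A₁ R₀] [Algebra A₂ R₀] [Algebra R₀ A] [Algebra A₁ A] [Algebra A₂ A]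
    [IsScalarTower A₁ R₀ A] [IsScalarTower A₂ R₀ A]
    [Algebra A₁ B₁] [Algebra A₂ B₂]
    [Algebra.FinitePresentation A₁ B₁] [Algebra.FinitePresentation A₂ B₂]
    (e : A ⊗[A₁] B₁ ≃ₐ[A] A ⊗[A₂] B₂) :
    ∃ S : Subalgebra R₀ A, S.FG ∧ Nonempty (S ⊗[A₁] B₁ ≃ₐ[S] S ⊗[A₂] B₂) := by
  let c₁ : A ⊗[R₀] (R₀ ⊗[A₁] B₁) ≃ₐ[A] A ⊗[A₁] B₁ :=
    Algebra.TensorProduct.cancelBaseChange A₁ R₀ A A B₁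
  let c₂ : A ⊗[R₀] (R₀ ⊗[A₂] B₂) ≃ₐ[A] A ⊗[A₂] B₂ :=
    Algebra.TensorProduct.cancelBaseChange A₂ R₀ A A B₂
  obtain ⟨S, hS, ⟨e'⟩⟩ := exists_fg_algEquiv (R₀ := R₀) (A := A) (R₀ ⊗[A₁] B₁) (R₀ ⊗[A₂] B₂)
    (c₁.trans (e.trans c₂.symm))
  refine ⟨S, hS, ⟨?_⟩⟩
  let d₁ : S ⊗[R₀] (R₀ ⊗[A₁] B₁) ≃ₐ[S] S ⊗[A₁] B₁ :=
    Algebra.TensorProduct.cancelBaseChange A₁ R₀ S S B₁
  let d₂ : S ⊗[R₀] (R₀ ⊗[A₂] B₂) ≃ₐ[S] S ⊗[A₂] B₂ :=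
    Algebra.TensorProduct.cancelBaseChange A₂ R₀ S S B₂
  exact d₁.symm.trans (e'.trans d₂)

end Groth.Agent.Lib.FlatDescH8
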