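import Mathlib
import Groth.Agent.Lib.DescIso2_helper8

/-!
# Combining two Noetherian approximations
-/

namespace Groth.Agent.Lib.FlatDescH8

open TensorProduct CategoryTheory AlgebraicGeometry Limits

universe u

section ring

attribute [local instance] Algebra.TensorProduct.rightAlgebra in
/-- Ring-level combination. -/
theorem exists_common_model {A₁ A₂ A B₁ B₂ : Type u} [CommRing A₁] [CommRing A₂]
    [CommRing A] [CommRing B₁] [CommRing B₂]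
    [Algebra A₁ A] [Algebra A₂ A] [Algebra A₁ B₁] [Algebra A₂ B₂]
    [Algebra.FiniteType ℤ A₁] [Algebra.FiniteType ℤ A₂]
    [Algebra.FinitePresentation A₁ B₁] [Algebra.FinitePresentation A₂ B₂]
    (e : A ⊗[A₁] B₁ ≃ₐ[A] A ⊗[A₂] B₂) :
    ∃ (T : Type u) (_ : CommRing T) (_ : Algebra A₁ T) (_ : Algebra A₂ T) (_ : Algebra T A)
      (_ : IsScalarTower A₁ T A) (_ : IsScalarTower A₂ T A),
      Algebra.FiniteType ℤ T ∧ Nonempty (T ⊗[A₁] B₁ ≃ₐ[T] T ⊗[A₂] B₂) := by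
  let φ : A₁ ⊗[ℤ] A₂ →ₐ[ℤ] A := Algebra.TensorProduct.lift
    (algebraMap A₁ A).toIntAlgHom (algebraMap A₂ A).toIntAlgHom (fun _ _ => Commute.all _ _)
  letI : Algebra (A₁ ⊗[ℤ] A₂) A := φ.toRingHom.toAlgebra
  haveI : IsScalarTower A₁ (A₁ ⊗[ℤ] A₂) A := IsScalarTower.of_algebraMap_eq fun a => by
    change _ = φ (a ⊗ₜ 1)
    simp [φ]
  haveI : IsScalarTower A₂ (A₁ ⊗[ℤ] A₂) A := IsScalarTower.of_algebraMap_eq fun a => by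
    change _ = φ (1 ⊗ₜ a)
    simp [φ]
  obtain ⟨S, hS, ⟨e'⟩⟩ := exists_fg_algEquiv_two (R₀ := A₁ ⊗[ℤ] A₂) e
  haveI : Algebra.FiniteType A₁ (A₁ ⊗[ℤ] A₂) := inferInstance
  haveI : Algebra.FiniteType ℤ (A₁ ⊗[ℤ] A₂) := Algebra.FiniteType.trans (S := A₁) ‹_› ‹_›
  haveI : Algebra.FiniteType (A₁ ⊗[ℤ] A₂) S := (Subalgebra.fg_iff_finiteType S).mp hS
  refine ⟨S, inferInstance, inferInstance, inferInstance, inferInstance, ?_, ?_, ?_, ⟨e'⟩⟩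
  · exact IsScalarTower.of_algebraMap_eq fun a => rfl
  · exact IsScalarTower.of_algebraMap_eq fun a => rfl
  · exact Algebra.FiniteType.trans (S := A₁ ⊗[ℤ] A₂) ‹_› ‹_›

end ring


/-- The base change of a morphism of affine schemes `f₁ : X₁ ⟶ S₁` along `Spec T ⟶ S₁`. -/
theorem isPullback_Spec_tensor {X₁ S₁ : Scheme.{u}} [IsAffine X₁] [IsAffine S₁] (f₁ : X₁ ⟶ S₁)
    (T : Type u) [CommRing T] [Algebra Γ(S₁, ⊤) T] [Algebra Γ(S₁, ⊤) Γ(X₁, ⊤)]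
    (hf : algebraMap Γ(S₁, ⊤) Γ(X₁, ⊤) = f₁.appTop.hom) :
    IsPullback
      (Spec.map (CommRingCat.ofHom (S := T ⊗[Γ(S₁, ⊤)] Γ(X₁, ⊤))
        Algebra.TensorProduct.includeRight.toRingHom) ≫ X₁.isoSpec.inv)
      (Spec.map (CommRingCat.ofHom (algebraMap T (T ⊗[Γ(S₁, ⊤)] Γ(X₁, ⊤)))))
      f₁ (Spec.map (CommRingCat.ofHom (algebraMap Γ(S₁, ⊤) T)) ≫ S₁.isoSpec.inv) := by
  have h0 := (isPullback_SpecMap_of_isPushout _ _ _ _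
    (CommRingCat.isPushout_tensorProduct Γ(S₁, ⊤) T Γ(X₁, ⊤))).flip
  refine h0.of_iso (Iso.refl _) X₁.isoSpec.symm (Iso.refl _) S₁.isoSpec.symm ?_ ?_ ?_ ?_
  · simp
  · simp
  · have := Scheme.isoSpec_inv_naturality f₁
    rw [Iso.symm_hom, Iso.symm_hom, ← this, hf]
    rfl
  · simp


/-- **Combining two Noetherian approximations.** -/
theorem noetherian_approximation_combine (P Q : MorphismProperty Scheme.{u})
    [P.IsStableUnderBaseChange] [Q.IsStableUnderBaseChange]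
    {X S : Scheme.{u}} (f : X ⟶ S) [IsAffine X] [IsAffine S]
    {X₁ S₁ X₂ S₂ : Scheme.{u}} [IsAffine X₁] [IsAffine S₁] [IsAffine X₂] [IsAffine S₂]
    (f₁ : X₁ ⟶ S₁) (g₁ : S ⟶ S₁) (g₁' : X ⟶ X₁) (h₁ : IsPullback g₁' f f₁ g₁)
    (f₂ : X₂ ⟶ S₂) (g₂ : S ⟶ S₂) (g₂' : X ⟶ X₂) (h₂ : IsPullback g₂' f f₂ g₂)
    (hS₁ : Algebra.FiniteType ℤ Γ(S₁, ⊤)) (hS₂ : Algebra.FiniteType ℤ Γ(S₂, ⊤))
    [LocallyOfFiniteType f₁] [LocallyOfFiniteType f₂] (hP : P f₁) (hQ : Q f₂) :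
    ∃ (X₀ S₀ : Scheme.{u}) (f₀ : X₀ ⟶ S₀) (g : S ⟶ S₀) (g' : X ⟶ X₀), IsAffine X₀ ∧ IsAffine S₀ ∧
      IsPullback g' f f₀ g ∧
      Algebra.FiniteType ℤ Γ(S₀, ⊤) ∧ LocallyOfFiniteType f₀ ∧ P f₀ ∧ Q f₀ := by
  letI alg1 : Algebra Γ(S₁, ⊤) Γ(X₁, ⊤) := f₁.appTop.hom.toAlgebra
  letI alg2 : Algebra Γ(S₂, ⊤) Γ(X₂, ⊤) := f₂.appTop.hom.toAlgebra
  letI algA1 : Algebra Γ(S₁, ⊤) Γ(S, ⊤) := g₁.appTop.hom.toAlgebra
  letI algA2 : Algebra Γ(S₂, ⊤) Γ(S, ⊤) := g₂.appTop.hom.toAlgebra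
  letI algAB : Algebra Γ(S, ⊤) Γ(X, ⊤) := f.appTop.hom.toAlgebra
  letI algB1 : Algebra Γ(X₁, ⊤) Γ(X, ⊤) := g₁'.appTop.hom.toAlgebra
  letI algB2 : Algebra Γ(X₂, ⊤) Γ(X, ⊤) := g₂'.appTop.hom.toAlgebra
  letI algA1B : Algebra Γ(S₁, ⊤) Γ(X, ⊤) := (f.appTop.hom.comp g₁.appTop.hom).toAlgebra
  letI algA2B : Algebra Γ(S₂, ⊤) Γ(X, ⊤) := (f.appTop.hom.comp g₂.appTop.hom).toAlgebra
  haveI : IsScalarTower Γ(S₁, ⊤) Γ(S, ⊤) Γ(X, ⊤) := IsScalarTower.of_algebraMap_eq' rfl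
  haveI : IsScalarTower Γ(S₂, ⊤) Γ(S, ⊤) Γ(X, ⊤) := IsScalarTower.of_algebraMap_eq' rfl
  haveI : IsScalarTower Γ(S₁, ⊤) Γ(X₁, ⊤) Γ(X, ⊤) := IsScalarTower.of_algebraMap_eq' (by
    have := congr(($(h₁.w)).appTop.hom)
    simp at this
    exact this.symm)
  haveI : IsScalarTower Γ(S₂, ⊤) Γ(X₂, ⊤) Γ(X, ⊤) := IsScalarTower.of_algebraMap_eq' (by
    have := congr(($(h₂.w)).appTop.hom)
    simp at this
    exact this.symm)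
  have hp1 : Algebra.IsPushout Γ(S₁, ⊤) Γ(X₁, ⊤) Γ(S, ⊤) Γ(X, ⊤) :=
    CommRingCat.isPushout_iff_isPushout.mp (isPushout_appTop_of_isPullback h₁)
  have hp2 : Algebra.IsPushout Γ(S₂, ⊤) Γ(X₂, ⊤) Γ(S, ⊤) Γ(X, ⊤) :=
    CommRingCat.isPushout_iff_isPushout.mp (isPushout_appTop_of_isPullback h₂)
  haveI := hp1.symm
  haveI := hp2.symm
  let e₁ : Γ(S, ⊤) ⊗[Γ(S₁, ⊤)] Γ(X₁, ⊤) ≃ₐ[Γ(S, ⊤)] Γ(X, ⊤) :=
    Algebra.IsPushout.equiv Γ(S₁, ⊤) Γ(S, ⊤) Γ(X₁, ⊤) Γ(X, ⊤)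
  let e₂ : Γ(S, ⊤) ⊗[Γ(S₂, ⊤)] Γ(X₂, ⊤) ≃ₐ[Γ(S, ⊤)] Γ(X, ⊤) :=
    Algebra.IsPushout.equiv Γ(S₂, ⊤) Γ(S, ⊤) Γ(X₂, ⊤) Γ(X, ⊤)
  haveI : IsNoetherianRing Γ(S₁, ⊤) := Algebra.FiniteType.isNoetherianRing ℤ _
  haveI : IsNoetherianRing Γ(S₂, ⊤) := Algebra.FiniteType.isNoetherianRing ℤ _
  haveI ft1 : Algebra.FiniteType Γ(S₁, ⊤) Γ(X₁, ⊤) :=
    (HasRingHomProperty.iff_of_isAffine (P := @LocallyOfFiniteType)).mp inferInstance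
  haveI ft2 : Algebra.FiniteType Γ(S₂, ⊤) Γ(X₂, ⊤) :=
    (HasRingHomProperty.iff_of_isAffine (P := @LocallyOfFiniteType)).mp inferInstance
  haveI : Algebra.FinitePresentation Γ(S₁, ⊤) Γ(X₁, ⊤) :=
    Algebra.FinitePresentation.of_finiteType.mp ft1
  haveI : Algebra.FinitePresentation Γ(S₂, ⊤) Γ(X₂, ⊤) :=
    Algebra.FinitePresentation.of_finiteType.mp ft2
  obtain ⟨T, _, _, _, _, _, _, hT, ⟨e'⟩⟩ := exists_common_model (e₁.trans e₂.symm)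
  have sq1 := isPullback_Spec_tensor f₁ T rfl
  have sq2 := isPullback_Spec_tensor f₂ T rfl
  let f₀ : Spec (.of (T ⊗[Γ(S₁, ⊤)] Γ(X₁, ⊤))) ⟶ Spec (.of T) :=
    Spec.map (CommRingCat.ofHom (algebraMap T (T ⊗[Γ(S₁, ⊤)] Γ(X₁, ⊤))))
  let g : S ⟶ Spec (.of T) := S.isoSpec.hom ≫ Spec.map (CommRingCat.ofHom (algebraMap T Γ(S, ⊤)))
  have hg : g ≫ (Spec.map (CommRingCat.ofHom (algebraMap Γ(S₁, ⊤) T)) ≫ S₁.isoSpec.inv) = g₁ := by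
    have h := Scheme.isoSpec_inv_naturality g₁
    have h' : CommRingCat.ofHom (algebraMap Γ(S₁, ⊤) T) ≫
        CommRingCat.ofHom (algebraMap T Γ(S, ⊤)) = g₁.appTop := by
      ext x
      exact (IsScalarTower.algebraMap_apply Γ(S₁, ⊤) T Γ(S, ⊤) x).symm
    simp only [g, Category.assoc]
    rw [← Spec.map_comp_assoc, h', h, Iso.hom_inv_id_assoc]
  have hw : g₁' ≫ f₁ = (f ≫ g) ≫
      (Spec.map (CommRingCat.ofHom (algebraMap Γ(S₁, ⊤) T)) ≫ S₁.isoSpec.inv) := by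
    rw [Category.assoc, hg, h₁.w]
  refine ⟨_, _, f₀, g, sq1.lift g₁' (f ≫ g) hw, inferInstance, inferInstance, ?_, ?_, ?_, ?_, ?_⟩
  · refine IsPullback.of_right ?_ (sq1.lift_snd _ _ _) sq1
    rw [sq1.lift_fst, hg]
    exact h₁
  · exact Algebra.FiniteType.equiv hT
      (Scheme.ΓSpecIso (.of T)).commRingCatIsoToRingEquiv.symm.toIntAlgEquiv
  · rw [HasRingHomProperty.Spec_iff (P := @LocallyOfFiniteType)]
    exact RingHom.finiteType_algebraMap.mpr inferInstance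
  · exact P.of_isPullback sq1 hP
  · have hQ' := Q.of_isPullback sq2 hQ
    have hf₀ : f₀ = Spec.map (CommRingCat.ofHom e'.symm.toRingEquiv.toRingHom) ≫
        Spec.map (CommRingCat.ofHom (algebraMap T (T ⊗[Γ(S₂, ⊤)] Γ(X₂, ⊤)))) := by
      rw [← Spec.map_comp]
      have : CommRingCat.ofHom (algebraMap T (T ⊗[Γ(S₁, ⊤)] Γ(X₁, ⊤))) =
          CommRingCat.ofHom (algebraMap T (T ⊗[Γ(S₂, ⊤)] Γ(X₂, ⊤))) ≫
            CommRingCat.ofHom e'.symm.toRingEquiv.toRingHom := by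
        ext x
        exact (e'.symm.commutes x).symm
      exact congrArg Spec.map this
    rw [hf₀]
    haveI : IsIso (Spec.map (CommRingCat.ofHom e'.symm.toRingEquiv.toRingHom)) := by
      have : IsIso (CommRingCat.ofHom e'.symm.toRingEquiv.toRingHom) :=
        e'.symm.toRingEquiv.toCommRingCatIso.isIso_hom
      infer_instance
    exact (Q.cancel_left_of_respectsIso _ _).mpr hQ'

end Groth.Agent.Lib.FlatDescH8
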