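import Mathlib
import Groth.Prelude.Def_DescFam
import Groth.Agent.Lib.DescIso_helper9

/-!
# Effective descent for open immersions along fpqc covering families (helper7)
-/

set_option autoImplicit false
set_option backward.isDefEq.respectTransparency false
universe u
open CategoryTheory CategoryTheory.Limits AlgebraicGeometry

namespace Groth.Agent.Lib.DescOpen_helper7

/-- fpqc covering families are topological quotient families: a subset of the base whose preimages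
under all members are open is open. -/
theorem isOpen_of_fpqc {S : Scheme.{u}} {R : Presieve S} (hR : R ∈ Scheme.fpqcPrecoverage S)
    (W : Set S) (h : ∀ ⦃T : Scheme.{u}⦄ (g : T ⟶ S), R g → IsOpen (g ⁻¹' W)) : IsOpen W := by
  obtain ⟨𝒰, hqc, rfl⟩ := Scheme.mem_propQCPrecoverage_iff_exists_quasiCompactCover.1
    (show R ∈ Scheme.propQCPrecoverage @Flat S from hR)
  have hk : ∀ k, IsOpen ((𝒰.f k) ⁻¹' W) := fun k => h (𝒰.f k) ⟨k⟩
  rw [isOpen_iff_forall_mem_open]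
  intro s hs
  obtain ⟨U, hU, hsU, -⟩ := exists_isAffineOpen_mem_and_subset (x := s) (U := ⊤) trivial
  obtain ⟨n, a, V, hV, hUn⟩ :=
    QuasiCompactCover.exists_isAffineOpen_of_isCompact 𝒰.toPreZeroHypercover hU.isCompact
  have hle : ∀ k, V k ≤ (𝒰.f (a k)) ⁻¹ᵁ U := by
    intro k x hx
    show 𝒰.f (a k) x ∈ (U : Set S)
    rw [← hUn]
    exact Set.mem_iUnion.2 ⟨k, x, hx, rfl⟩
  haveI : IsAffine U.toScheme := hU
  haveI : ∀ k, Flat (𝒰.f (a k)) := fun k => 𝒰.map_prop (a k)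
  let Wk : Fin n → Scheme.{u} := fun k => (V k).toScheme
  let c : ∀ k, Wk k ⟶ U.toScheme := fun k => (𝒰.f (a k)).resLE U (V k) (hle k)
  haveI : ∀ k, IsAffine (Wk k) := fun k => hV k
  haveI : ∀ k, Flat (c k) := fun k => inferInstance
  let σ : ∐ Wk ⟶ U.toScheme := Sigma.desc c
  have hσs : Surjective σ := by
    refine ⟨fun z => ?_⟩
    have hz : (z.1 : S) ∈ ⋃ i, 𝒰.f (a i) '' (V i) := by rw [hUn]; exact z.2
    obtain ⟨k, x, hx, hxz⟩ := Set.mem_iUnion.1 hz
    refine ⟨Sigma.ι Wk k ⟨x, hx⟩, ?_⟩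
    rw [← Scheme.Hom.comp_apply, Sigma.ι_desc]
    apply Subtype.ext
    rw [Scheme.Hom.coe_resLE_apply]
    exact hxz
  have hqc' : QuasiCompact σ := inferInstance
  have hfl : Flat σ := inferInstance
  have hq : Topology.IsQuotientMap σ := Flat.isQuotientMap_of_surjective σ
  let A : Set U.toScheme := U.ι ⁻¹' W
  have hA' : IsOpen (σ ⁻¹' A) := by
    rw [isOpen_iff_forall_mem_open]
    intro y hy
    obtain ⟨k, x, rfl⟩ : ∃ k, ∃ x, (AlgebraicGeometry.sigmaOpenCover Wk).f k x = y :=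
      ⟨_, (AlgebraicGeometry.sigmaOpenCover Wk).covers y⟩
    have hcomp : Sigma.ι Wk k ≫ σ ≫ U.ι = (V k).ι ≫ 𝒰.f (a k) := by
      rw [Sigma.ι_desc_assoc]; exact Scheme.Hom.resLE_comp_ι _ _
    have hpre : IsOpen ((Sigma.ι Wk k) ⁻¹' (σ ⁻¹' A)) := by
      have e : (Sigma.ι Wk k) ⁻¹' (σ ⁻¹' A) = (V k).ι ⁻¹' ((𝒰.f (a k)) ⁻¹' W) := by
        ext t
        have e1 : U.ι (σ (Sigma.ι Wk k t)) = 𝒰.f (a k) ((V k).ι t) := by
          have := congrArg (fun m : Wk k ⟶ S => m t) hcomp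
          simpa only [Scheme.Hom.comp_apply] using this
        show U.ι (σ (Sigma.ι Wk k t)) ∈ W ↔ 𝒰.f (a k) ((V k).ι t) ∈ W
        rw [e1]
      rw [e]
      exact (hk (a k)).preimage (V k).ι.continuous
    refine ⟨(Sigma.ι Wk k) '' ((Sigma.ι Wk k) ⁻¹' (σ ⁻¹' A)), ?_, ?_, ?_⟩
    · rintro _ ⟨t, ht, rfl⟩; exact ht
    · exact (Sigma.ι Wk k).isOpenEmbedding.isOpenMap _ hpre
    · exact ⟨x, hy, rfl⟩
  have hA : IsOpen A := hq.isOpen_preimage.1 hA'
  refine ⟨U.ι '' A, ?_, U.ι.isOpenEmbedding.isOpenMap _ hA, ?_⟩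
  · rintro _ ⟨t, ht, rfl⟩; exact ht
  · exact ⟨⟨s, hsU⟩, hs, rfl⟩

variable {S : Scheme.{u}} {ι : Type u} {X : ι → Scheme.{u}} {f : ∀ i, X i ⟶ S}

theorem compat (D : Desc.SchDDFam f) (hD : ∀ i, IsOpenImmersion (D.obj i).hom) {i j : ι}
    (x : X i) (y : X j) (hxy : f i x = f j y) (hx : x ∈ Set.range (D.obj i).hom) :
    y ∈ Set.range (D.obj j).hom := by
  haveI := hD i
  obtain ⟨z, hz1, hz2⟩ := Scheme.Pullback.exists_preimage_pullback x y hxy
  let Ui : (X i).Opens := (D.obj i).hom.opensRange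
  let T : (pullback (f i) (f j)).Opens := (pullback.fst (f i) (f j)) ⁻¹ᵁ Ui
  have hzT : z ∈ T := by
    show pullback.fst (f i) (f j) z ∈ Set.range (D.obj i).hom
    rw [hz1]; exact hx
  let x₀ : T.toScheme ⟶ X i := T.ι ≫ pullback.fst (f i) (f j)
  let x₁ : T.toScheme ⟶ X j := T.ι ≫ pullback.snd (f i) (f j)
  have h01 : x₀ ≫ f i = x₁ ≫ f j := by
    simp only [x₀, x₁, Category.assoc, pullback.condition]
  have hr : Set.range x₀ ⊆ Set.range (D.obj i).hom := by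
    rintro _ ⟨t, rfl⟩
    have ht : pullback.fst (f i) (f j) t.1 ∈ Set.range (D.obj i).hom := t.2
    exact ht
  let v : Desc.Lifts (D.obj i) x₀ :=
    ⟨IsOpenImmersion.lift (D.obj i).hom x₀ hr, IsOpenImmersion.lift_fac _ _ _⟩
  have hw : (D.φ x₀ x₁ h01 v).1 ≫ (D.obj j).hom = x₁ := (D.φ x₀ x₁ h01 v).2
  refine ⟨(D.φ x₀ x₁ h01 v).1 ⟨z, hzT⟩, ?_⟩
  rw [← Scheme.Hom.comp_apply, hw]
  exact hz2

/-- The candidate open subset of the base. -/
def Wset (D : Desc.SchDDFam f) : Set S := ⋃ i, (f i) '' Set.range (D.obj i).hom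

theorem preimage_Wset (D : Desc.SchDDFam f) (hD : ∀ i, IsOpenImmersion (D.obj i).hom) (i : ι) :
    (f i) ⁻¹' (Wset D) = Set.range (D.obj i).hom := by
  ext x
  constructor
  · intro hx
    obtain ⟨j, y, hy, hyx⟩ := Set.mem_iUnion.1 hx
    exact compat D hD y x hyx hy
  · intro hx
    exact Set.mem_iUnion.2 ⟨i, x, hx, rfl⟩

theorem isOpen_Wset (hf : Presieve.ofArrows X f ∈ Scheme.fpqcPrecoverage S)
    (D : Desc.SchDDFam f) (hD : ∀ i, IsOpenImmersion (D.obj i).hom) : IsOpen (Wset D) := by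
  refine isOpen_of_fpqc hf _ ?_
  intro T g hg
  cases hg with
  | mk i =>
    rw [preimage_Wset D hD i]
    haveI := hD i
    exact (D.obj i).hom.isOpenEmbedding.isOpen_range

theorem main (hf : Presieve.ofArrows X f ∈ Scheme.fpqcPrecoverage S)
    (D : Desc.SchDDFam f) (hD : ∀ i, IsOpenImmersion (D.obj i).hom) : D.IsEffective := by
  let U : S.Opens := ⟨Wset D, isOpen_Wset hf D hD⟩
  let UU : Over S := Over.mk U.ι
  have hrange : ∀ i, Set.range (D.obj i).hom = Set.range (pullback.fst (f i) U.ι) := by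
    intro i
    rw [Scheme.Pullback.range_fst, Scheme.Opens.range_ι]
    exact (preimage_Wset D hD i).symm
  haveI := hD
  let e : ∀ i, D.obj i ≅ (Desc.canonicalDDFam f UU).obj i := fun i =>
    Over.isoMk (IsOpenImmersion.isoOfRangeEq (D.obj i).hom (pullback.fst (f i) U.ι) (hrange i))
      (IsOpenImmersion.isoOfRangeEq_hom_fac _ _ _)
  show (Desc.toDDFam f).essImage D
  refine ⟨UU, ⟨(Groth.Agent.Lib.DescIso.isoMk e ?_).symm⟩⟩
  intro T i j x₀ x₁ h v w hw
  haveI : Mono ((Desc.canonicalDDFam f UU).obj j).hom :=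
    (inferInstance : Mono (pullback.fst (f j) U.ι))
  rw [← cancel_mono ((Desc.canonicalDDFam f UU).obj j).hom]
  rw [Category.assoc, Over.w (e j).hom]
  exact (((Desc.canonicalDDFam f UU).φ x₀ x₁ h w).2).trans ((D.φ x₀ x₁ h v).2).symm

end Groth.Agent.Lib.DescOpen_helper7
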