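import Mathlib
import Groth.Agent.Lib.LatticeDet_helper9

/-!
# Relative lengths of submodules and the snake lemma for lengths (helper9)

`rl A B = ℓ(B / A ∩ B)`; additivity in towers, second isomorphism theorem, behaviour under maps;
the six-term length identity of the snake lemma, valid in `ℕ∞` without finiteness hypotheses.
-/

set_option autoImplicit false

universe u v w

namespace Groth.Agent.Idx9

open Submodule

section RelLen

variable {R : Type u} [CommRing R] {X : Type v} [AddCommGroup X] [Module R X]
  {Y : Type w} [AddCommGroup Y] [Module R Y]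

/-- relative length `ℓ(B/A)` (meaningful for `A ≤ B`). -/
noncomputable def rl (A B : Submodule R X) : ℕ∞ := Module.length R (↥B ⧸ A.submoduleOf B)

lemma rl_tower {A B C : Submodule R X} (h1 : A ≤ B) (h2 : B ≤ C) : rl A C = rl A B + rl B C :=
  Groth.Agent.LatticeDist.length_tower A B C h1 h2

lemma rl_bot (B : Submodule R X) : rl ⊥ B = Module.length R B := by
  unfold rl
  have h : (⊥ : Submodule R X).submoduleOf B = ⊥ := by
    rw [Submodule.submoduleOf, Submodule.comap_bot, Submodule.ker_subtype]
  rw [h]
  exact (Submodule.quotEquivOfEqBot ⊥ rfl).length_eq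

lemma rl_top (A : Submodule R X) : rl A ⊤ = Module.length R (X ⧸ A) := by
  unfold rl
  have h := Groth.Agent.LatticeDet.length_range_quot (LinearMap.id : X →ₗ[R] X)
    Function.injective_id A
  rwa [LinearMap.range_id, Submodule.map_id] at h

lemma rl_self (A : Submodule R X) : rl A A = 0 := by
  unfold rl
  rw [Module.length_eq_zero_iff, Submodule.Quotient.subsingleton_iff]
  ext x
  simp [Submodule.submoduleOf]

lemma rl_inf_sup (A B : Submodule R X) : rl (A ⊓ B) A = rl B (A ⊔ B) := by
  unfold rl
  have h : (A ⊓ B).submoduleOf A = comap A.subtype A ⊓ comap A.subtype B := by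
    rw [Submodule.submoduleOf, Submodule.comap_inf]
  rw [h]
  exact (LinearMap.quotientInfEquivSupQuotient A B).length_eq

/-- Relative length is preserved by a linear map whose kernel meets `B` inside `A`. -/
lemma rl_map (f : X →ₗ[R] Y) {A B : Submodule R X} (hAB : A ≤ B)
    (hker : LinearMap.ker f ⊓ B ≤ A) : rl (A.map f) (B.map f) = rl A B := by
  unfold rl
  -- the map `B → f B / f A`
  let g₀ : ↥B →ₗ[R] ↥(B.map f) := f.restrict (fun x hx => Submodule.mem_map_of_mem hx)
  let g : ↥B →ₗ[R] (↥(B.map f) ⧸ (A.map f).submoduleOf (B.map f)) :=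
    ((A.map f).submoduleOf (B.map f)).mkQ ∘ₗ g₀
  have hg : Function.Surjective g := by
    intro y
    obtain ⟨⟨y, hy⟩, rfl⟩ := ((A.map f).submoduleOf (B.map f)).mkQ_surjective y
    obtain ⟨x, hx, rfl⟩ := hy
    exact ⟨⟨x, hx⟩, rfl⟩
  have hk : LinearMap.ker g = A.submoduleOf B := by
    ext ⟨x, hx⟩
    rw [LinearMap.mem_ker]
    change Submodule.Quotient.mk (g₀ ⟨x, hx⟩) = 0 ↔ _
    rw [Submodule.Quotient.mk_eq_zero]
    change f x ∈ A.map f ↔ x ∈ A
    constructor
    · rintro ⟨a, ha, hax⟩
      have h1 : x - a ∈ LinearMap.ker f ⊓ B :=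
        ⟨by
          change x - a ∈ LinearMap.ker f
          rw [LinearMap.mem_ker, map_sub, hax, sub_self], B.sub_mem hx (hAB ha)⟩
      have := A.add_mem (hker h1) ha
      rwa [sub_add_cancel] at this
    · intro hx
      exact Submodule.mem_map_of_mem hx
  rw [← (g.quotKerEquivOfSurjective hg).length_eq]
  exact (Submodule.quotEquivOfEq _ _ hk).length_eq

lemma rl_map_of_injective (f : X →ₗ[R] Y) (hf : Function.Injective f) {A B : Submodule R X}
    (hAB : A ≤ B) : rl (A.map f) (B.map f) = rl A B := by
  apply rl_map f hAB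
  rw [LinearMap.ker_eq_bot.mpr hf]
  simp

lemma rl_comap (f : X →ₗ[R] Y) {C D : Submodule R Y} (hCD : C ≤ D)
    (hD : D ≤ LinearMap.range f) : rl (C.comap f) (D.comap f) = rl C D := by
  have h := rl_map f (Submodule.comap_mono hCD : C.comap f ≤ D.comap f) (by
    intro x hx
    have : f x = 0 := hx.1
    change f x ∈ C
    rw [this]; exact C.zero_mem)
  rw [Submodule.map_comap_eq, Submodule.map_comap_eq, inf_eq_right.mpr (hCD.trans hD),
    inf_eq_right.mpr hD] at h
  exact h.symm

end RelLen

section Snake

variable {R : Type u} [CommRing R]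
  {X' X X'' Y' Y Y'' : Type v} [AddCommGroup X'] [Module R X'] [AddCommGroup X] [Module R X]
  [AddCommGroup X''] [Module R X''] [AddCommGroup Y'] [Module R Y'] [AddCommGroup Y] [Module R Y]
  [AddCommGroup Y''] [Module R Y'']
  (i : X' →ₗ[R] X) (p : X →ₗ[R] X'') (j : Y' →ₗ[R] Y) (q : Y →ₗ[R] Y'')
  (u' : X' →ₗ[R] Y') (u : X →ₗ[R] Y) (u'' : X'' →ₗ[R] Y'')

/-- The six-term length identity of the snake lemma (no finiteness needed). -/
theorem snake_length (hi : Function.Injective i) (hp : Function.Surjective p)
    (hip : Function.Exact i p) (hj : Function.Injective j) (hq : Function.Surjective q)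
    (hjq : Function.Exact j q) (c1 : u ∘ₗ i = j ∘ₗ u') (c2 : u'' ∘ₗ p = q ∘ₗ u) :
    Module.length R (LinearMap.ker u') + Module.length R (LinearMap.ker u'') +
        Module.length R (Y ⧸ LinearMap.range u) =
      Module.length R (LinearMap.ker u) + Module.length R (Y' ⧸ LinearMap.range u') +
        Module.length R (Y'' ⧸ LinearMap.range u'') := by
  have c1' : ∀ x, u (i x) = j (u' x) := fun x => LinearMap.congr_fun c1 x
  have c2' : ∀ x, u'' (p x) = q (u x) := fun x => LinearMap.congr_fun c2 x
  have hkp : LinearMap.ker p = LinearMap.range i := (LinearMap.exact_iff.mp hip)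
  have hkq : LinearMap.ker q = LinearMap.range j := (LinearMap.exact_iff.mp hjq)
  set Ki : Submodule R X := LinearMap.ker u ⊓ LinearMap.range i with hKi
  set W : Submodule R X := (LinearMap.range j).comap u with hW
  have hW1 : LinearMap.ker u ⊔ LinearMap.range i ≤ W := by
    apply sup_le
    · intro x hx
      change u x ∈ LinearMap.range j
      rw [LinearMap.mem_ker.mp hx]; exact Submodule.zero_mem _
    · rintro _ ⟨x', rfl⟩
      change u (i x') ∈ LinearMap.range j
      rw [c1']; exact ⟨_, rfl⟩
  -- (1)
  have e1 : Module.length R (LinearMap.ker u') = rl ⊥ Ki := by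
    rw [← rl_bot, ← rl_map_of_injective i hi (bot_le : (⊥ : Submodule R X') ≤ LinearMap.ker u'),
      Submodule.map_bot]
    congr 1
    ext x
    constructor
    · rintro ⟨x', hx', rfl⟩
      refine ⟨?_, ⟨x', rfl⟩⟩
      change u (i x') = 0
      rw [c1', LinearMap.mem_ker.mp hx', map_zero]
    · rintro ⟨hx, ⟨x', rfl⟩⟩
      refine ⟨x', ?_, rfl⟩
      have hx : u (i x') = 0 := hx
      rw [c1'] at hx
      change u' x' = 0
      exact hj (by rw [hx, map_zero])
  -- (2)
  have e2 : Module.length R (LinearMap.ker u) =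
      rl ⊥ Ki + rl (LinearMap.range i) (LinearMap.ker u ⊔ LinearMap.range i) := by
    rw [← rl_bot, rl_tower (bot_le : ⊥ ≤ Ki) (inf_le_left : Ki ≤ LinearMap.ker u), hKi,
      rl_inf_sup]
  -- (3)
  have e3 : Module.length R (LinearMap.ker u'') =
      rl (LinearMap.range i) (LinearMap.ker u ⊔ LinearMap.range i) +
        rl (LinearMap.ker u ⊔ LinearMap.range i) W := by
    rw [← rl_bot, ← rl_comap p (bot_le : (⊥ : Submodule R X'') ≤ LinearMap.ker u'')
      (by rw [LinearMap.range_eq_top.mpr hp]; exact le_top)]
    have h1 : (⊥ : Submodule R X'').comap p = LinearMap.range i := by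
      rw [← hkp]; rfl
    have h2 : (LinearMap.ker u'').comap p = W := by
      ext x
      change u'' (p x) = 0 ↔ u x ∈ LinearMap.range j
      rw [c2', ← hkq, LinearMap.mem_ker]
    rw [h1, h2]
    exact rl_tower le_sup_right hW1
  -- (4)
  have hle4 : (LinearMap.range i).map u ≤ LinearMap.range u ⊓ LinearMap.range j := by
    rintro _ ⟨_, ⟨x', rfl⟩, rfl⟩
    exact ⟨⟨_, rfl⟩, by rw [c1']; exact ⟨_, rfl⟩⟩
  have e4 : Module.length R (Y' ⧸ LinearMap.range u') =
      rl ((LinearMap.range i).map u) (LinearMap.range u ⊓ LinearMap.range j) +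
        rl (LinearMap.range u ⊓ LinearMap.range j) (LinearMap.range j) := by
    rw [← rl_top, ← rl_map_of_injective j hj (le_top : LinearMap.range u' ≤ ⊤),
      Submodule.map_top, ← LinearMap.range_comp, ← c1, LinearMap.range_comp]
    exact rl_tower hle4 inf_le_right
  -- (5)
  have e5 : Module.length R (Y ⧸ LinearMap.range u) =
      rl (LinearMap.range u ⊓ LinearMap.range j) (LinearMap.range j) +
        Module.length R (Y'' ⧸ LinearMap.range u'') := by
    rw [← rl_top, rl_tower (le_sup_left : LinearMap.range u ≤ LinearMap.range u ⊔ LinearMap.range j)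
      le_top]
    congr 1
    · rw [inf_comm, sup_comm, rl_inf_sup]
    · rw [← rl_top, ← rl_comap q (le_top : LinearMap.range u'' ≤ ⊤)
        (by rw [LinearMap.range_eq_top.mpr hq])]
      rw [Submodule.comap_top]
      congr 1
      ext y
      constructor
      · intro hy
        obtain ⟨a, ha, b, hb, rfl⟩ := Submodule.mem_sup.mp hy
        obtain ⟨x, rfl⟩ := ha
        obtain ⟨y', rfl⟩ := hb
        change q (u x + j y') ∈ LinearMap.range u''
        have : q (j y') = 0 := hjq.apply_apply_eq_zero y'
        rw [map_add, this, add_zero, ← c2']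
        exact ⟨_, rfl⟩
      · rintro ⟨x'', hx''⟩
        obtain ⟨x, rfl⟩ := hp x''
        rw [c2'] at hx''
        have h1 : y - u x ∈ LinearMap.ker q := by
          rw [LinearMap.mem_ker, map_sub, hx'', sub_self]
        rw [hkq] at h1
        have h2 : y = u x + (y - u x) := by abel
        rw [h2]
        exact Submodule.add_mem_sup ⟨x, rfl⟩ h1
  -- (6)
  have e6 : rl (LinearMap.ker u ⊔ LinearMap.range i) W =
      rl ((LinearMap.range i).map u) (LinearMap.range u ⊓ LinearMap.range j) := by
    have h := rl_map u hW1 (inf_le_left.trans le_sup_left)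
    have h1 : (LinearMap.ker u ⊔ LinearMap.range i).map u = (LinearMap.range i).map u := by
      rw [Submodule.map_sup]
      have : (LinearMap.ker u).map u = ⊥ := by
        rw [eq_bot_iff]
        rintro _ ⟨x, hx, rfl⟩
        exact hx
      rw [this, bot_sup_eq]
    have h2 : W.map u = LinearMap.range u ⊓ LinearMap.range j := by
      rw [hW, Submodule.map_comap_eq]
    rw [h1, h2] at h
    exact h.symm
  rw [e1, e2, e3, e4, e5, e6]
  ring

end Snake

end Groth.Agent.Idx9
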