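import Mathlib
import Groth.Agent.Lib.Idx1_helper9

/-!
# The action of a square matrix on `X^ι`, kernels and cokernels (helper9)
-/

set_option autoImplicit false

universe u v w

namespace Groth.Agent.Idx9

open Submodule

section Act

variable {A : Type u} [CommRing A] {ι : Type w} [Fintype ι] [DecidableEq ι]
  {X : Type v} [AddCommGroup X] [Module A X] {Y : Type v} [AddCommGroup Y] [Module A Y]

/-- The endomorphism of `X^ι` defined by a square matrix over `A`. -/
noncomputable def act (P : Matrix ι ι A) (X : Type v) [AddCommGroup X] [Module A X] :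
    (ι → X) →ₗ[A] (ι → X) :=
  LinearMap.pi fun i => ∑ j, P i j • LinearMap.proj j

lemma act_apply (P : Matrix ι ι A) (x : ι → X) (i : ι) : act P X x i = ∑ j, P i j • x j := by
  simp [act]

lemma act_one : act (1 : Matrix ι ι A) X = LinearMap.id := by
  refine LinearMap.ext fun x => funext fun i => ?_
  rw [act_apply, LinearMap.id_apply, Finset.sum_eq_single i]
  · simp
  · intro j _ hj
    simp [Matrix.one_apply_ne hj.symm]
  · intro h; exact absurd (Finset.mem_univ i) h

lemma act_mul (P Q : Matrix ι ι A) : act (P * Q) X = act P X ∘ₗ act Q X := by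
  refine LinearMap.ext fun x => funext fun i => ?_
  rw [LinearMap.comp_apply, act_apply, act_apply]
  simp_rw [act_apply, Matrix.mul_apply, Finset.sum_smul, Finset.smul_sum, smul_smul]
  rw [Finset.sum_comm]

lemma act_smul (d : A) (P : Matrix ι ι A) : act (d • P) X = d • act P X := by
  refine LinearMap.ext fun x => funext fun i => ?_
  rw [LinearMap.smul_apply, Pi.smul_apply, act_apply, act_apply, Finset.smul_sum]
  simp [smul_smul]

lemma act_natural (P : Matrix ι ι A) (f : X →ₗ[A] Y) :
    f.compLeft ι ∘ₗ act P X = act P Y ∘ₗ f.compLeft ι := by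
  refine LinearMap.ext fun x => funext fun i => ?_
  simp [act_apply]

lemma act_adj_act (P : Matrix ι ι A) (x : ι → X) :
    act P.adjugate X (act P X x) = P.det • x := by
  rw [← LinearMap.comp_apply, ← act_mul, Matrix.adjugate_mul, act_smul, act_one]
  rfl

lemma act_act_adj (P : Matrix ι ι A) (x : ι → X) :
    act P X (act P.adjugate X x) = P.det • x := by
  rw [← LinearMap.comp_apply, ← act_mul, Matrix.mul_adjugate, act_smul, act_one]
  rfl

lemma det_smul_ker (P : Matrix ι ι A) (x : LinearMap.ker (act P X)) : P.det • x = 0 := by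
  apply Subtype.ext
  change P.det • (x : ι → X) = 0
  rw [← act_adj_act, LinearMap.mem_ker.mp x.2, map_zero]

lemma det_smul_coker (P : Matrix ι ι A) (y : (ι → X) ⧸ LinearMap.range (act P X)) :
    P.det • y = 0 := by
  obtain ⟨y, rfl⟩ := Submodule.mkQ_surjective _ y
  rw [← map_smul, Submodule.mkQ_apply, Submodule.Quotient.mk_eq_zero, ← act_act_adj]
  exact ⟨_, rfl⟩

lemma compLeft_injective (f : X →ₗ[A] Y) (hf : Function.Injective f) :
    Function.Injective (f.compLeft ι) := by
  intro x y h
  funext k
  exact hf (congrFun h k)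

lemma compLeft_surjective (f : X →ₗ[A] Y) (hf : Function.Surjective f) :
    Function.Surjective (f.compLeft ι) := by
  intro y
  choose x hx using fun k => hf (y k)
  exact ⟨x, funext hx⟩

lemma compLeft_exact {Z : Type v} [AddCommGroup Z] [Module A Z] (f : X →ₗ[A] Y) (g : Y →ₗ[A] Z)
    (h : Function.Exact f g) : Function.Exact (f.compLeft ι) (g.compLeft ι) := by
  intro y
  constructor
  · intro hy
    have : ∀ k, ∃ x, f x = y k := fun k => (h (y k)).mp (congrFun hy k)
    choose x hx using this
    exact ⟨x, funext hx⟩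
  · rintro ⟨x, rfl⟩
    funext k
    exact h.apply_apply_eq_zero (x k)

end Act

section Conj

variable {A : Type u} [CommRing A] {X Y X₁ Y₁ : Type v} [AddCommGroup X] [Module A X]
  [AddCommGroup Y] [Module A Y] [AddCommGroup X₁] [Module A X₁] [AddCommGroup Y₁] [Module A Y₁]

lemma length_ker_conj (u : X →ₗ[A] Y) (u₁ : X₁ →ₗ[A] Y₁) (a : X ≃ₗ[A] X₁) (b : Y ≃ₗ[A] Y₁)
    (h : ∀ x, b (u x) = u₁ (a x)) :
    Module.length A (LinearMap.ker u) = Module.length A (LinearMap.ker u₁) := by
  refine (LinearEquiv.ofSubmodules a _ _ ?_).length_eq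
  ext y
  constructor
  · rintro ⟨x, hx, rfl⟩
    change u₁ (a x) = 0
    rw [← h, LinearMap.mem_ker.mp hx, map_zero]
  · intro hy
    refine ⟨a.symm y, ?_, by simp⟩
    change u (a.symm y) = 0
    apply b.injective
    rw [h, map_zero]
    simpa using hy

lemma length_coker_conj (u : X →ₗ[A] Y) (u₁ : X₁ →ₗ[A] Y₁) (a : X ≃ₗ[A] X₁) (b : Y ≃ₗ[A] Y₁)
    (h : ∀ x, b (u x) = u₁ (a x)) :
    Module.length A (Y ⧸ LinearMap.range u) = Module.length A (Y₁ ⧸ LinearMap.range u₁) := by
  refine (Submodule.Quotient.equiv _ _ b ?_).length_eq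
  ext y
  constructor
  · rintro ⟨_, ⟨x, rfl⟩, rfl⟩
    exact ⟨a x, (h x).symm⟩
  · rintro ⟨x₁, rfl⟩
    refine ⟨u (a.symm x₁), ⟨_, rfl⟩, ?_⟩
    change b (u (a.symm x₁)) = _
    rw [h]; simp

end Conj

section Fin

variable {A : Type u} [CommRing A]

/-- A finitely generated module killed by `d` has finite length when `A/(d)` has. -/
lemma length_ne_top_of_fg {X : Type v} [AddCommGroup X] [Module A X] {d : A}
    (h0 : Module.length A (A ⧸ Ideal.span {d}) ≠ ⊤) (hX : ∀ x : X, d • x = 0)
    (N : Submodule A X) (hN : N.FG) : Module.length A N ≠ ⊤ := by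
  induction N, hN using Submodule.fg_induction with
  | singleton x =>
    let x' : ↥(A ∙ x) := ⟨x, Submodule.mem_span_singleton_self x⟩
    let g : (A ⧸ Ideal.span {d}) →ₗ[A] ↥(A ∙ x) :=
      Submodule.liftQ (Ideal.span {d}) (LinearMap.toSpanSingleton A _ x') (by
        rw [Ideal.span_le, Set.singleton_subset_iff]
        change LinearMap.toSpanSingleton A _ x' d = 0
        rw [LinearMap.toSpanSingleton_apply]
        apply Subtype.ext
        exact hX x)
    have hg : Function.Surjective g := by
      rintro ⟨y, hy⟩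
      obtain ⟨r, rfl⟩ := Submodule.mem_span_singleton.1 hy
      refine ⟨Submodule.Quotient.mk r, ?_⟩
      change LinearMap.toSpanSingleton A _ x' r = _
      rw [LinearMap.toSpanSingleton_apply]
      rfl
    exact ne_top_of_le_ne_top h0 (Module.length_le_of_surjective g hg)
  | sup N₁ N₂ hN₁ hN₂ h₁ h₂ =>
    let g : (↥N₁ × ↥N₂) →ₗ[A] ↥(N₁ ⊔ N₂) :=
      (Submodule.inclusion le_sup_left).coprod (Submodule.inclusion le_sup_right)
    have hg : Function.Surjective g := by
      rintro ⟨w, hw⟩
      obtain ⟨u, hu, v, hv, rfl⟩ := Submodule.mem_sup.1 hw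
      exact ⟨(⟨u, hu⟩, ⟨v, hv⟩), Subtype.ext rfl⟩
    refine ne_top_of_le_ne_top ?_ (Module.length_le_of_surjective g hg)
    rw [Module.length_prod]
    intro h
    rcases ENat.add_eq_top.mp h with h | h
    · exact h₁ h
    · exact h₂ h

lemma length_ne_top_of_finite {X : Type v} [AddCommGroup X] [Module A X] [Module.Finite A X]
    {d : A} (h0 : Module.length A (A ⧸ Ideal.span {d}) ≠ ⊤) (hX : ∀ x : X, d • x = 0) :
    Module.length A X ≠ ⊤ := by
  have := length_ne_top_of_fg h0 hX ⊤ (Module.Finite.fg_top)
  rwa [Module.length_top] at this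

/-- For an endomorphism of a module of finite length, kernel and cokernel have the same length. -/
lemma length_ker_eq_length_coker {Z : Type v} [AddCommGroup Z] [Module A Z]
    (hZ : Module.length A Z ≠ ⊤) (u : Z →ₗ[A] Z) :
    Module.length A (LinearMap.ker u) = Module.length A (Z ⧸ LinearMap.range u) := by
  have h1 : Module.length A Z =
      Module.length A (LinearMap.ker u) + Module.length A (LinearMap.range u) :=
    Module.length_eq_add_of_exact (LinearMap.ker u).subtype u.rangeRestrict
      (Submodule.subtype_injective _) u.surjective_rangeRestrict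
      (by rw [LinearMap.exact_iff, LinearMap.ker_rangeRestrict, Submodule.range_subtype])
  have h2 : Module.length A Z =
      Module.length A (LinearMap.range u) + Module.length A (Z ⧸ LinearMap.range u) :=
    Module.length_eq_add_of_exact (LinearMap.range u).subtype (LinearMap.range u).mkQ
      (Submodule.subtype_injective _) (Submodule.mkQ_surjective _)
      (by rw [LinearMap.exact_iff, Submodule.ker_mkQ, Submodule.range_subtype])
  have h3 : Module.length A (LinearMap.range u) ≠ ⊤ := by
    intro h; rw [h] at h2; exact hZ (by rw [h2]; simp)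
  rw [h1, add_comm] at h2
  exact WithTop.add_left_cancel h3 h2

end Fin

end Groth.Agent.Idx9
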