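import Mathlib
import Groth.Agent.Lib.Idx2_helper9
import Groth.Agent.Lib.LatticeDet_helper9

/-!
# `ℓ(B^ι / P B^ι) = ℓ(B / det P)` over a one-dimensional Noetherian domain (helper9)
-/

set_option autoImplicit false

universe u v w

namespace Groth.Agent.Idx9

open Submodule Groth.Agent.LatticeDet

section Domain

variable {B : Type u} [CommRing B] [IsDomain B] [IsNoetherianRing B]
  {ι : Type w} [Fintype ι] [DecidableEq ι]

theorem domain_case (hB : ringKrullDim B = 1) (P : Matrix ι ι B) (hdet : P.det ≠ 0) :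
    Module.length B ((ι → B) ⧸ LinearMap.range (act P B)) =
      Module.length B (B ⧸ Ideal.span {P.det}) := by
  have hdim : Ring.KrullDimLE 1 B := by
    rw [Ring.KrullDimLE, Order.krullDimLE_iff]
    exact le_of_eq hB
  let K := FractionRing B
  let V := ι → K
  let b : Module.Basis ι K V := Pi.basisFun K ι
  set g : (ι → B) →ₗ[B] V := Fintype.linearCombination B (fun k => b k) with hg
  have hginj : Function.Injective g := gmap_injective b
  have hgapp : ∀ (c : ι → B) (k : ι), g c k = algebraMap B K (c k) := by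
    intro c k
    rw [hg, Fintype.linearCombination_apply, Finset.sum_apply, Finset.sum_eq_single k]
    · rw [Pi.smul_apply, Pi.basisFun_apply, Pi.single_eq_same, Algebra.smul_def, mul_one]
    · intro j _ hj
      rw [Pi.smul_apply, Pi.basisFun_apply, Pi.single_eq_of_ne hj.symm, smul_zero]
    · intro h; exact absurd (Finset.mem_univ k) h
  let f : V →ₗ[K] V := Matrix.toLin' (P.map (algebraMap B K))
  have hfdet : LinearMap.det f = algebraMap B K P.det := by
    rw [LinearMap.det_toLin', RingHom.map_det]
    rfl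
  have hf0 : LinearMap.det f ≠ 0 := by
    rw [hfdet]
    exact (map_ne_zero_iff _ (IsFractionRing.injective B K)).mpr hdet
  haveI := stdLattice_isLattice (A := B) b
  have main := delta_eq_ordFrac_det (A := B) (K := K) hB (stdLattice B b) f hf0
  rw [hfdet, ordFrac_algebraMap B K hdet] at main
  -- compute `delta`
  set Q : Submodule B (ι → B) := LinearMap.range (act P B) with hQ
  have key : ∀ c : ι → B, f (g c) = g (act P B c) := by
    intro c
    funext k
    rw [hgapp, act_apply]
    change (Matrix.toLin' (P.map (algebraMap B K)) (g c)) k = _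
    rw [Matrix.toLin'_apply, Matrix.mulVec, dotProduct, map_sum]
    refine Finset.sum_congr rfl fun j _ => ?_
    rw [hgapp, Matrix.map_apply, smul_eq_mul, map_mul]
  have hmap : (stdLattice B b).map (f.restrictScalars B) = Q.map g := by
    apply le_antisymm
    · rintro _ ⟨_, ⟨c, rfl⟩, rfl⟩
      exact ⟨act P B c, ⟨c, rfl⟩, (key c).symm⟩
    · rintro _ ⟨_, ⟨c, rfl⟩, rfl⟩
      exact ⟨g c, ⟨c, rfl⟩, key c⟩
  have hle : Q.map g ≤ stdLattice B b := by
    rintro _ ⟨y, -, rfl⟩
    exact ⟨y, rfl⟩
  unfold delta Groth.Agent.LatticeDet.dist at main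
  rw [hmap, inf_eq_right.mpr hle] at main
  have h1 : Module.length B (↥(stdLattice B b) ⧸ (Q.map g).submoduleOf (stdLattice B b)) =
      Module.length B ((ι → B) ⧸ Q) := by
    unfold stdLattice
    exact length_range_quot g hginj Q
  have h2 : Module.length B (↥(Q.map g) ⧸ (Q.map g).submoduleOf (Q.map g)) = 0 := by
    rw [Submodule.submoduleOf_self]
    exact Module.length_eq_zero
  rw [h1, h2] at main
  have hfin0 : Module.length B (B ⧸ Ideal.span {P.det}) ≠ ⊤ :=
    Ring.ord_ne_top (mem_nonZeroDivisors_iff_ne_zero.mpr hdet)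
  have hfin1 : Module.length B ((ι → B) ⧸ Q) ≠ ⊤ :=
    length_ne_top_of_finite hfin0 (det_smul_coker P)
  obtain ⟨m, hm⟩ := ENat.ne_top_iff_exists.mp hfin0
  obtain ⟨m', hm'⟩ := ENat.ne_top_iff_exists.mp hfin1
  rw [← hm, ← hm'] at main ⊢
  simp only [ENat.toNat_coe, ENat.toNat_zero, Nat.cast_zero, sub_zero, Nat.cast_inj] at main
  rw [main]

end Domain

end Groth.Agent.Idx9
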