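import Mathlib
import Groth.Agent.Lib.Idx3_helper9

/-!
# Dévissage: comparing the indices of two matrices with the same determinant (helper9)
-/

set_option autoImplicit false

universe u v w

namespace Groth.Agent.Idx9

open Submodule

section BaseDom

variable {A : Type u} [CommRing A] [IsNoetherianRing A] {ι : Type w} [Fintype ι] [DecidableEq ι]

lemma act_quot_eq (M : Matrix ι ι A) (p : Ideal A) (x : ι → A ⧸ p) :
    act M (A ⧸ p) x = act (M.map (Ideal.Quotient.mk p)) (A ⧸ p) x := by
  funext i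
  rw [act_apply, act_apply]
  refine Finset.sum_congr rfl fun j _ => ?_
  rw [Matrix.map_apply, Algebra.smul_def, Ideal.Quotient.algebraMap_eq, smul_eq_mul]

theorem base_dom (M : Matrix ι ι A) (p : Ideal A) [p.IsPrime] (hd : M.det ∉ p)
    (hdim : ringKrullDim (A ⧸ p) = 1) (X : Type u) [AddCommGroup X] [Module A X]
    (e : X ≃ₗ[A] A ⧸ p) :
    Module.length A (LinearMap.ker (act M X)) = 0 ∧
      Module.length A ((ι → X) ⧸ LinearMap.range (act M X)) =
        Module.length (A ⧸ p) ((A ⧸ p) ⧸ Ideal.span {Ideal.Quotient.mk p M.det}) := by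
  let E : (ι → X) ≃ₗ[A] (ι → A ⧸ p) := LinearEquiv.piCongrRight fun _ => e
  have hE : ∀ x, E (act M X x) = act M (A ⧸ p) (E x) := by
    intro x
    funext i
    change e (act M X x i) = _
    rw [act_apply, act_apply, map_sum]
    refine Finset.sum_congr rfl fun j _ => ?_
    rw [map_smul]
    rfl
  rw [length_ker_conj (act M X) (act M (A ⧸ p)) E E hE,
    length_coker_conj (act M X) (act M (A ⧸ p)) E E hE]
  set Mb : Matrix ι ι (A ⧸ p) := M.map (Ideal.Quotient.mk p) with hMb
  have hdet : Mb.det = Ideal.Quotient.mk p M.det := by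
    rw [hMb, RingHom.map_det]; rfl
  have hdet0 : Mb.det ≠ 0 := by
    rw [hdet, Ne, Ideal.Quotient.eq_zero_iff_mem]; exact hd
  constructor
  · have : LinearMap.ker (act M (A ⧸ p)) = ⊥ := by
      rw [eq_bot_iff]
      intro x hx
      rw [LinearMap.mem_ker, act_quot_eq] at hx
      have h1 := act_adj_act Mb x
      rw [hx, map_zero] at h1
      rw [Submodule.mem_bot]
      funext k
      have h2 := congrFun h1 k
      simp only [Pi.zero_apply, Pi.smul_apply, smul_eq_mul] at h2
      exact (mul_eq_zero.mp h2.symm).resolve_left hdet0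
    rw [this]
    exact Module.length_eq_zero
  · have hrange : LinearMap.range (act M (A ⧸ p)) =
        (LinearMap.range (act Mb (A ⧸ p))).restrictScalars A := by
      ext y
      constructor
      · rintro ⟨x, rfl⟩
        exact ⟨x, (act_quot_eq M p x).symm⟩
      · rintro ⟨x, rfl⟩
        exact ⟨x, act_quot_eq M p x⟩
    rw [(Submodule.quotEquivOfEq _ _ hrange).length_eq,
      (Submodule.Quotient.restrictScalarsEquiv A (LinearMap.range (act Mb (A ⧸ p)))).length_eq,
      Module.length_eq_of_surjective (S := A) (R := A ⧸ p) Ideal.Quotient.mk_surjective,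
      domain_case hdim Mb hdet0, hdet]

end BaseDom

section Devissage

variable {A : Type u} [CommRing A] [IsNoetherianRing A] {ι : Type w} [Fintype ι] [DecidableEq ι]
  {κ : Type w} [Fintype κ] [DecidableEq κ]

/-- kernel length of the action -/
noncomputable def kl (M : Matrix ι ι A) (X : Type u) [AddCommGroup X] [Module A X] : ℕ∞ :=
  Module.length A (LinearMap.ker (act M X))

/-- cokernel length of the action -/
noncomputable def cl (M : Matrix ι ι A) (X : Type u) [AddCommGroup X] [Module A X] : ℕ∞ :=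
  Module.length A ((ι → X) ⧸ LinearMap.range (act M X))

lemma kl_ne_top (M : Matrix ι ι A) (h0 : Module.length A (A ⧸ Ideal.span {M.det}) ≠ ⊤)
    (X : Type u) [AddCommGroup X] [Module A X] [Module.Finite A X] : kl M X ≠ ⊤ :=
  length_ne_top_of_finite h0 (det_smul_ker M)

lemma cl_ne_top (M : Matrix ι ι A) (h0 : Module.length A (A ⧸ Ideal.span {M.det}) ≠ ⊤)
    (X : Type u) [AddCommGroup X] [Module A X] [Module.Finite A X] : cl M X ≠ ⊤ :=
  length_ne_top_of_finite h0 (det_smul_coker M)

lemma snake_act (M : Matrix ι ι A) {X' X X'' : Type u} [AddCommGroup X'] [Module A X']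
    [AddCommGroup X] [Module A X] [AddCommGroup X''] [Module A X'']
    (f : X' →ₗ[A] X) (g : X →ₗ[A] X'') (hf : Function.Injective f) (hg : Function.Surjective g)
    (hfg : Function.Exact f g) :
    kl M X' + kl M X'' + cl M X = kl M X + cl M X' + cl M X'' :=
  snake_length (f.compLeft ι) (g.compLeft ι) (f.compLeft ι) (g.compLeft ι)
    (act M X') (act M X) (act M X'') (compLeft_injective f hf) (compLeft_surjective g hg)
    (compLeft_exact f g hfg) (compLeft_injective f hf) (compLeft_surjective g hg)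
    (compLeft_exact f g hfg) (act_natural M f).symm (act_natural M g).symm

/-- `X` is good if the indices of `P` and `Q` on `X` agree. -/
def Good (P : Matrix ι ι A) (Q : Matrix κ κ A) (X : Type u) [AddCommGroup X] [Module A X] : Prop :=
  cl P X + kl Q X = kl P X + cl Q X

theorem good_all (P : Matrix ι ι A) (Q : Matrix κ κ A) (hPQ : Q.det = P.det)
    (hfin : Module.length A (A ⧸ Ideal.span {P.det}) ≠ ⊤)
    (hdim : ∀ p : Ideal A, p.IsPrime → P.det ∉ p → ringKrullDim (A ⧸ p) = 1)
    (X : Type u) [AddCommGroup X] [Module A X] [hX : Module.Finite A X] : Good P Q X := by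
  have hfinQ : Module.length A (A ⧸ Ideal.span {Q.det}) ≠ ⊤ := by rw [hPQ]; exact hfin
  induction hX using IsNoetherianRing.induction_on_isQuotientEquivQuotientPrime A with
  | subsingleton N =>
    unfold Good kl cl
    rw [Module.length_eq_zero, Module.length_eq_zero, Module.length_eq_zero,
      Module.length_eq_zero]
  | quotient N p e =>
    haveI := p.2
    unfold Good
    by_cases hd : P.det ∈ p.asIdeal
    · have hkill : ∀ x : N, P.det • x = 0 := by
        intro x
        apply e.injective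
        rw [map_smul, map_zero, Algebra.smul_def, Ideal.Quotient.algebraMap_eq,
          Ideal.Quotient.eq_zero_iff_mem.mpr hd, zero_mul]
      have h1 : Module.length A (ι → N) ≠ ⊤ :=
        length_ne_top_of_finite hfin (fun x => funext fun k => hkill (x k))
      have h2 : Module.length A (κ → N) ≠ ⊤ :=
        length_ne_top_of_finite hfin (fun x => funext fun k => hkill (x k))
      have e1 : kl P N = cl P N := length_ker_eq_length_coker h1 (act P N)
      have e2 : kl Q N = cl Q N := length_ker_eq_length_coker h2 (act Q N)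
      rw [e1, e2, add_comm]
    · have hdQ : Q.det ∉ p.asIdeal := by rw [hPQ]; exact hd
      obtain ⟨a1, a2⟩ := base_dom P p.asIdeal hd (hdim p.asIdeal p.2 hd) N e
      obtain ⟨b1, b2⟩ := base_dom Q p.asIdeal hdQ (hdim p.asIdeal p.2 hd) N e
      unfold kl cl
      rw [a1, a2, b1, b2, hPQ, add_zero, zero_add]
  | exact N₁ N₂ N₃ f g hf hg hfg h1 h3 =>
    unfold Good at h1 h3 ⊢
    have s1 := snake_act P f g hf hg hfg
    have s2 := snake_act Q f g hf hg hfg
    obtain ⟨a1, ha1⟩ := ENat.ne_top_iff_exists.mp (kl_ne_top P hfin N₁)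
    obtain ⟨a2, ha2⟩ := ENat.ne_top_iff_exists.mp (kl_ne_top P hfin N₂)
    obtain ⟨a3, ha3⟩ := ENat.ne_top_iff_exists.mp (kl_ne_top P hfin N₃)
    obtain ⟨b1, hb1⟩ := ENat.ne_top_iff_exists.mp (cl_ne_top P hfin N₁)
    obtain ⟨b2, hb2⟩ := ENat.ne_top_iff_exists.mp (cl_ne_top P hfin N₂)
    obtain ⟨b3, hb3⟩ := ENat.ne_top_iff_exists.mp (cl_ne_top P hfin N₃)
    obtain ⟨c1, hc1⟩ := ENat.ne_top_iff_exists.mp (kl_ne_top Q hfinQ N₁)
    obtain ⟨c2, hc2⟩ := ENat.ne_top_iff_exists.mp (kl_ne_top Q hfinQ N₂)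
    obtain ⟨c3, hc3⟩ := ENat.ne_top_iff_exists.mp (kl_ne_top Q hfinQ N₃)
    obtain ⟨d1, hd1⟩ := ENat.ne_top_iff_exists.mp (cl_ne_top Q hfinQ N₁)
    obtain ⟨d2, hd2⟩ := ENat.ne_top_iff_exists.mp (cl_ne_top Q hfinQ N₂)
    obtain ⟨d3, hd3⟩ := ENat.ne_top_iff_exists.mp (cl_ne_top Q hfinQ N₃)
    rw [← ha1, ← ha2, ← ha3, ← hb1, ← hb2, ← hb3] at s1
    rw [← hc1, ← hc2, ← hc3, ← hd1, ← hd2, ← hd3] at s2
    rw [← ha1, ← hb1, ← hc1, ← hd1] at h1
    rw [← ha3, ← hb3, ← hc3, ← hd3] at h3
    rw [← ha2, ← hb2, ← hc2, ← hd2]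
    norm_cast at s1 s2 h1 h3 ⊢
    omega

end Devissage

end Groth.Agent.Idx9
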