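import Mathlib
import Groth.Agent.Lib.Idx4_helper9

/-!
# `ℓ(coker P) = ℓ(A / det P)`: the case where `A/(det P)` has finite length and the primes not
containing `det P` have one-dimensional quotients (helper9)
-/

set_option autoImplicit false

universe u v w

namespace Groth.Agent.Idx9

open Submodule

section Scalar

variable {R : Type u} [CommRing R]

lemma det_scalar (r : R) : (r • (1 : Matrix (Fin 1) (Fin 1) R)).det = r := by
  rw [Matrix.det_smul, Matrix.det_one, Fintype.card_fin, pow_one, mul_one]

lemma act_scalar (r : R) (X : Type v) [AddCommGroup X] [Module R X] :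
    act (r • (1 : Matrix (Fin 1) (Fin 1) R)) X = r • LinearMap.id := by
  rw [act_smul, act_one]

/-- cokernel of the `1 × 1` scalar matrix -/
lemma cl_scalar (r : R) :
    Module.length R ((Fin 1 → R) ⧸ LinearMap.range (act (r • (1 : Matrix (Fin 1) (Fin 1) R)) R)) =
      Module.length R (R ⧸ Ideal.span {r}) := by
  let e : (Fin 1 → R) ≃ₗ[R] R := LinearEquiv.funUnique (Fin 1) R R
  rw [length_coker_conj (act (r • (1 : Matrix (Fin 1) (Fin 1) R)) R)
    (r • LinearMap.id : R →ₗ[R] R) e e (by
      intro x
      rw [act_scalar]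
      simp [e])]
  refine (Submodule.quotEquivOfEq _ _ ?_).length_eq
  ext y
  rw [Ideal.mem_span_singleton']
  constructor
  · rintro ⟨x, rfl⟩
    exact ⟨x, by simp [mul_comm]⟩
  · rintro ⟨x, rfl⟩
    exact ⟨x, by simp [mul_comm]⟩

lemma kl_scalar (r : R) (hr : r ∈ nonZeroDivisors R) :
    Module.length R (LinearMap.ker (act (r • (1 : Matrix (Fin 1) (Fin 1) R)) R)) = 0 := by
  have : LinearMap.ker (act (r • (1 : Matrix (Fin 1) (Fin 1) R)) R) = ⊥ := by
    rw [eq_bot_iff]
    intro x hx
    rw [LinearMap.mem_ker, act_scalar] at hx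
    rw [Submodule.mem_bot]
    funext k
    have h2 := congrFun hx k
    simp only [LinearMap.smul_apply, LinearMap.id_apply, Pi.smul_apply, smul_eq_mul,
      Pi.zero_apply] at h2
    exact (mul_left_mem_nonZeroDivisors_eq_zero_iff hr).mp h2
  rw [this]
  exact Module.length_eq_zero

end Scalar

section Semilocal

variable {A : Type u} [CommRing A] [IsNoetherianRing A] {n : ℕ}

lemma kl_eq_zero (P : Matrix (Fin n) (Fin n) A) (hreg : P.det ∈ nonZeroDivisors A) :
    kl P A = 0 := by
  have : LinearMap.ker (act P A) = ⊥ := by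
    rw [eq_bot_iff]
    intro x hx
    rw [LinearMap.mem_ker] at hx
    have h1 := act_adj_act P x
    rw [hx, map_zero] at h1
    rw [Submodule.mem_bot]
    funext k
    have h2 := congrFun h1 k
    simp only [Pi.zero_apply, Pi.smul_apply, smul_eq_mul] at h2
    exact (mul_left_mem_nonZeroDivisors_eq_zero_iff hreg).mp h2.symm
  unfold kl
  rw [this]
  exact Module.length_eq_zero

theorem semilocal_case (P : Matrix (Fin n) (Fin n) A) (hreg : P.det ∈ nonZeroDivisors A)
    (hfin : Module.length A (A ⧸ Ideal.span {P.det}) ≠ ⊤)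
    (hdim : ∀ p : Ideal A, p.IsPrime → P.det ∉ p → ringKrullDim (A ⧸ p) = 1) :
    Module.length A ((Fin n → A) ⧸ LinearMap.range (act P A)) =
      Module.length A (A ⧸ Ideal.span {P.det}) := by
  have h := good_all P (P.det • (1 : Matrix (Fin 1) (Fin 1) A)) (det_scalar _) hfin hdim A
  unfold Good at h
  rw [kl_eq_zero P hreg] at h
  unfold kl cl at h
  rw [kl_scalar _ hreg, cl_scalar, add_zero, zero_add] at h
  exact h

end Semilocal

end Groth.Agent.Idx9
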