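import Mathlib
import Groth.Agent.Lib.Idx5_helper9

/-!
# Localization at `1 + dA` (helper9)
-/

set_option autoImplicit false

universe u v w

namespace Groth.Agent.Idx9

open Submodule

section OnePlus

variable {A : Type u} [CommRing A]

/-- The multiplicative set `1 + dA`. -/
def onePlus (d : A) : Submonoid A where
  carrier := {s | ∃ a, s = 1 + d * a}
  one_mem' := ⟨0, by simp⟩
  mul_mem' := by
    rintro _ _ ⟨a, rfl⟩ ⟨b, rfl⟩
    exact ⟨a + b + d * a * b, by ring⟩

lemma mem_onePlus {d s : A} : s ∈ onePlus d ↔ ∃ a, s = 1 + d * a := Iff.rfl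

variable (d : A) (A' : Type u) [CommRing A'] [Algebra A A'] [IsLocalization (onePlus d) A']

include d in
lemma algebraMap_mem_jacobson : algebraMap A A' d ∈ Ring.jacobson A' := by
  rw [← Ideal.jacobson_bot, Ideal.mem_jacobson_bot]
  intro y
  obtain ⟨a, s, rfl⟩ := IsLocalization.exists_mk'_eq (onePlus d) y
  have hs : IsUnit (algebraMap A A' (s : A)) := IsLocalization.map_units A' s
  have h1 : algebraMap A A' (s : A) * (algebraMap A A' d * IsLocalization.mk' A' a s + 1) =
      algebraMap A A' (d * a + s) := by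
    rw [mul_add, mul_one, mul_left_comm, IsLocalization.mk'_spec', map_add, map_mul]
  have h2 : d * a + (s : A) ∈ onePlus d := by
    obtain ⟨b, hb⟩ := s.2
    exact ⟨a + b, by rw [hb]; ring⟩
  have h3 : IsUnit (algebraMap A A' (d * a + s)) := IsLocalization.map_units A' ⟨_, h2⟩
  rw [← h1] at h3
  exact (IsUnit.mul_iff.mp h3).2

/-- If `1 + dA` acts as the identity on an `A'`-module, its lengths over `A` and `A'` agree. -/
lemma length_eq_of_act_id (L : Type v) [AddCommGroup L] [Module A L] [Module A' L]
    [IsScalarTower A A' L] (h : ∀ s ∈ onePlus d, ∀ x : L, s • x = x) :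
    Module.length A L = Module.length A' L := by
  have key : ∀ (U : Submodule A L) (a' : A') (x : L), x ∈ U → a' • x ∈ U := by
    intro U a' x hx
    obtain ⟨a, s, rfl⟩ := IsLocalization.exists_mk'_eq (onePlus d) a'
    have h1 : (s : A) • (IsLocalization.mk' A' a s • x) = a • x := by
      rw [← algebraMap_smul A' (s : A), smul_smul, IsLocalization.mk'_spec', algebraMap_smul]
    rw [h _ s.2] at h1
    rw [h1]
    exact U.smul_mem a hx
  let e : Submodule A' L ≃o Submodule A L :=
    { toFun := fun U => U.restrictScalars A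
      invFun := fun U =>
        { carrier := U
          add_mem' := U.add_mem
          zero_mem' := U.zero_mem
          smul_mem' := fun a' x hx => key U a' x hx }
      left_inv := fun U => rfl
      right_inv := fun U => rfl
      map_rel_iff' := Iff.rfl }
  rw [Module.length, Module.length, WithBot.unbot_inj, Order.krullDim_eq_of_orderIso e]

end OnePlus

section Transfer

variable {A : Type u} [CommRing A] (d : A) (A' : Type u) [CommRing A'] [Algebra A A']
  [IsLocalization (onePlus d) A'] {ι : Type w} [Fintype ι] [DecidableEq ι]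

/-- componentwise algebra map -/
noncomputable def phi (ι : Type w) : (ι → A) →ₗ[A] (ι → A') := (Algebra.linearMap A A').compLeft ι

omit [IsLocalization (onePlus d) A'] in
lemma phi_apply (x : ι → A) (i : ι) : phi A' ι x i = algebraMap A A' (x i) := rfl

omit [IsLocalization (onePlus d) A'] in
lemma phi_act (M : Matrix ι ι A) (x : ι → A) :
    phi A' ι (act M A x) = act (M.map (algebraMap A A')) A' (phi A' ι x) := by
  funext i
  rw [phi_apply, act_apply, act_apply, map_sum]
  refine Finset.sum_congr rfl fun j _ => ?_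
  rw [smul_eq_mul, map_mul, Matrix.map_apply, phi_apply, smul_eq_mul]

theorem length_coker_loc (M : Matrix ι ι A) (hM : M.det = d) :
    Module.length A ((ι → A) ⧸ LinearMap.range (act M A)) =
      Module.length A' ((ι → A') ⧸ LinearMap.range (act (M.map (algebraMap A A')) A')) := by
  set M' : Matrix ι ι A' := M.map (algebraMap A A') with hM'
  set N : Submodule A (ι → A) := LinearMap.range (act M A) with hN
  set N' : Submodule A' (ι → A') := LinearMap.range (act M' A') with hN'
  have hdet' : M'.det = algebraMap A A' d := by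
    rw [hM', ← hM, RingHom.map_det]; rfl
  have hdN : ∀ w : ι → A, d • w ∈ N := by
    intro w
    rw [← hM, ← act_act_adj]
    exact ⟨_, rfl⟩
  have hdN' : ∀ z : ι → A', d • z ∈ N' := by
    intro z
    rw [← algebraMap_smul A' d z, ← hdet', ← act_act_adj]
    exact ⟨_, rfl⟩
  have hphiN : ∀ x ∈ N, phi A' ι x ∈ N' := by
    rintro _ ⟨w, rfl⟩
    rw [phi_act]
    exact ⟨_, rfl⟩
  -- common denominators
  have hden : ∀ y : ι → A', ∃ (s : A) (_ : s ∈ onePlus d) (z : ι → A), s • y = phi A' ι z := by
    intro y
    obtain ⟨b, hb⟩ := IsLocalization.exist_integer_multiples_of_finite (onePlus d) y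
    choose z hz using hb
    exact ⟨b, b.2, z, funext fun i => (hz i).symm⟩
  let ψ : ((ι → A) ⧸ N) →ₗ[A] ((ι → A') ⧸ N') :=
    N.liftQ ((N'.mkQ.restrictScalars A) ∘ₗ phi A' ι) (by
      intro x hx
      rw [LinearMap.mem_ker, LinearMap.comp_apply]
      change N'.mkQ (phi A' ι x) = 0
      rw [Submodule.mkQ_apply, Submodule.Quotient.mk_eq_zero]
      exact hphiN x hx)
  have hψ : ∀ x, ψ (Submodule.Quotient.mk x) = Submodule.Quotient.mk (phi A' ι x) := fun x => rfl
  have hinj : Function.Injective ψ := by
    rw [injective_iff_map_eq_zero]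
    intro q hq
    obtain ⟨x, rfl⟩ := Submodule.mkQ_surjective _ q
    rw [Submodule.mkQ_apply, hψ, Submodule.Quotient.mk_eq_zero] at hq
    rw [Submodule.mkQ_apply, Submodule.Quotient.mk_eq_zero]
    obtain ⟨y, hy⟩ := hq
    obtain ⟨s, hs, z, hz⟩ := hden y
    -- `phi (s • x - act M A z) = 0`
    have h0 : phi A' ι (s • x - act M A z) = 0 := by
      rw [map_sub, map_smul, phi_act, ← hz, ← hy, LinearMap.map_smul_of_tower, sub_self]
    have h1 : ∀ i, ∃ t : onePlus d, (t : A) * (s • x - act M A z) i = 0 := by
      intro i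
      have := congrFun h0 i
      rw [phi_apply, Pi.zero_apply] at this
      exact (IsLocalization.map_eq_zero_iff (onePlus d) A' _).mp this
    choose t ht using h1
    set T : A := ∏ i, (t i : A) with hT
    have hTmem : T ∈ onePlus d := Submonoid.prod_mem _ fun i _ => (t i).2
    have hTs : T • (s • x - act M A z) = 0 := by
      funext i
      obtain ⟨r, hr⟩ := Finset.dvd_prod_of_mem (fun i => (t i : A)) (Finset.mem_univ i)
      rw [Pi.smul_apply, Pi.zero_apply, smul_eq_mul, hT, hr, mul_comm _ r, mul_assoc, ht,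
        mul_zero]
    have hTs' : (T * s) • x = act M A (T • z) := by
      rw [smul_sub, sub_eq_zero] at hTs
      rw [mul_smul, hTs, map_smul]
    obtain ⟨b, hb⟩ := (onePlus d).mul_mem hTmem hs
    have hx : x = (T * s) • x - d • (b • x) := by
      rw [hb, add_smul, one_smul, mul_smul, add_sub_cancel_right]
    rw [hx]
    exact N.sub_mem (by rw [hTs']; exact ⟨_, rfl⟩) (hdN _)
  have hsurj : Function.Surjective ψ := by
    intro q
    obtain ⟨y, rfl⟩ := Submodule.mkQ_surjective _ q
    obtain ⟨s, ⟨a, ha⟩, z, hz⟩ := hden y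
    refine ⟨Submodule.Quotient.mk z, ?_⟩
    rw [hψ, Submodule.mkQ_apply, Submodule.Quotient.eq, ← hz, ha, add_smul, one_smul,
      add_sub_cancel_left, mul_smul]
    exact hdN' _
  rw [(LinearEquiv.ofBijective ψ ⟨hinj, hsurj⟩).length_eq]
  apply length_eq_of_act_id d A'
  rintro s ⟨a, rfl⟩ y
  have hdy : d • y = 0 := by
    rw [← algebraMap_smul A' d y, ← hdet']
    exact det_smul_coker M' y
  rw [add_smul, one_smul, mul_comm, mul_smul, hdy, smul_zero, add_zero]

end Transfer

end Groth.Agent.Idx9
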