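import Mathlib
import Groth.Agent.Lib.Idx6_helper9
import Groth.Agent.Lib.DimTheory_helper5

/-!
# `ℓ(coker φ) = ord (det φ)` over a Noetherian ring (helper9)
-/

set_option autoImplicit false

universe u v w

namespace Groth.Agent.Idx9

open Submodule

section DimOne

variable {A' : Type u} [CommRing A'] [IsNoetherianRing A']

theorem dim_one_of (d' : A') (hjac : d' ∈ Ring.jacobson A')
    (hfin : Module.length A' (A' ⧸ Ideal.span {d'}) ≠ ⊤) (p' : Ideal A') [p'.IsPrime]
    (hd : d' ∉ p') : ringKrullDim (A' ⧸ p') = 1 := by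
  set x : A' ⧸ p' := Ideal.Quotient.mk p' d' with hx
  have hx0 : x ≠ 0 := by
    rw [hx, Ne, Ideal.Quotient.eq_zero_iff_mem]; exact hd
  have hreg : IsSMulRegular (A' ⧸ p') x := fun a b h => mul_left_cancel₀ hx0 h
  have hxjac : x ∈ Ring.jacobson (A' ⧸ p') := by
    rw [← Ideal.jacobson_bot, Ideal.mem_jacobson_bot]
    intro y
    obtain ⟨y', rfl⟩ := Ideal.Quotient.mk_surjective y
    have h1 : IsUnit (d' * y' + 1) :=
      (Ideal.mem_jacobson_bot.mp (by rw [Ideal.jacobson_bot]; exact hjac)) y'
    have h2 := h1.map (Ideal.Quotient.mk p')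
    rwa [map_add, map_mul, map_one] at h2
  have key := ringKrullDim_quotient_span_singleton_succ_eq_ringKrullDim_of_mem_jacobson hreg hxjac
  have hne : Ideal.span {x} ≠ ⊤ := by
    rw [Ne, Ideal.span_singleton_eq_top]
    intro hu
    obtain ⟨u, hu⟩ := hu
    have h1 := (Ideal.mem_jacobson_bot.mp (by rw [Ideal.jacobson_bot]; exact hxjac)) (-((u⁻¹ : (A' ⧸ p')ˣ) : A' ⧸ p'))
    rw [← hu, mul_neg, Units.mul_inv, neg_add_cancel] at h1
    exact not_isUnit_zero h1
  haveI : Nontrivial ((A' ⧸ p') ⧸ Ideal.span {x}) := Ideal.Quotient.nontrivial_iff.mpr hne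
  have hsurj : Function.Surjective (algebraMap A' ((A' ⧸ p') ⧸ Ideal.span {x})) := by
    intro c
    obtain ⟨b, rfl⟩ := Ideal.Quotient.mk_surjective c
    obtain ⟨a, rfl⟩ := Ideal.Quotient.mk_surjective b
    exact ⟨a, rfl⟩
  haveI : Module.Finite A' ((A' ⧸ p') ⧸ Ideal.span {x}) :=
    Module.Finite.of_surjective (Algebra.linearMap A' _) hsurj
  have hkill : ∀ c : (A' ⧸ p') ⧸ Ideal.span {x}, d' • c = 0 := by
    intro c
    obtain ⟨b, rfl⟩ := Ideal.Quotient.mk_surjective c
    change Ideal.Quotient.mk (Ideal.span {x}) (d' • b) = 0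
    rw [Algebra.smul_def, Ideal.Quotient.algebraMap_eq, Ideal.Quotient.eq_zero_iff_mem]
    exact Ideal.mul_mem_right _ _ (Ideal.mem_span_singleton_self x)
  have hlen : Module.length A' ((A' ⧸ p') ⧸ Ideal.span {x}) ≠ ⊤ :=
    length_ne_top_of_finite hfin hkill
  rw [Module.length_eq_of_surjective (S := A') (R := (A' ⧸ p') ⧸ Ideal.span {x}) hsurj,
    Module.length_ne_top_iff, ← isArtinianRing_iff_isFiniteLength] at hlen
  have h0 : Ring.KrullDimLE 0 ((A' ⧸ p') ⧸ Ideal.span {x}) :=
    isArtinianRing_iff_krullDimLE_zero.mp hlen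
  rw [ringKrullDimZero_iff_ringKrullDim_eq_zero] at h0
  rw [← key, h0, zero_add]

end DimOne

section Infinite

variable {A : Type u} [CommRing A] [IsNoetherianRing A] {ι : Type w} [Fintype ι] [DecidableEq ι]

lemma pow_mem_span_det (P : Matrix ι ι A) (a : A)
    (ha : ∀ y : (ι → A) ⧸ LinearMap.range (act P A), a • y = 0) :
    a ^ Fintype.card ι ∈ Ideal.span {P.det} := by
  have h1 : ∀ j : ι, ∃ x : ι → A, act P A x = a • (Pi.single j (1 : A) : ι → A) := by
    intro j
    have := ha (Submodule.Quotient.mk (Pi.single j (1 : A)))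
    rw [← Submodule.Quotient.mk_smul, Submodule.Quotient.mk_eq_zero] at this
    exact this
  choose x hx using h1
  let Ψ : Matrix ι ι A := Matrix.of fun k j => x j k
  have hmul : P * Ψ = a • (1 : Matrix ι ι A) := by
    ext i j
    rw [Matrix.mul_apply]
    have := congrFun (hx j) i
    rw [act_apply] at this
    simp only [smul_eq_mul] at this
    rw [Matrix.smul_apply, Matrix.one_apply, smul_eq_mul]
    simp only [Ψ, Matrix.of_apply]
    rw [this, Pi.smul_apply, Pi.single_apply, smul_eq_mul]
  have hdet := congrArg Matrix.det hmul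
  rw [Matrix.det_mul, Matrix.det_smul, Matrix.det_one, mul_one] at hdet
  rw [← hdet]
  exact Ideal.mul_mem_right _ _ (Ideal.mem_span_singleton_self _)

theorem length_quot_det_ne_top (P : Matrix ι ι A)
    (h : Module.length A ((ι → A) ⧸ LinearMap.range (act P A)) ≠ ⊤) :
    Module.length A (A ⧸ Ideal.span {P.det}) ≠ ⊤ := by
  have hC : IsFiniteLength A ((ι → A) ⧸ LinearMap.range (act P A)) :=
    Module.length_ne_top_iff.mp h
  have hmax : ∀ J ∈ (Ideal.span {P.det}).minimalPrimes, J.IsMaximal := by
    intro J hJ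
    haveI : J.IsPrime := hJ.1.1
    have hdJ : P.det ∈ J := hJ.1.2 (Ideal.mem_span_singleton_self _)
    have hsupp : (⟨J, hJ.1.1⟩ : PrimeSpectrum A) ∈
        Module.support A ((ι → A) ⧸ LinearMap.range (act P A)) := by
      rw [Module.mem_support_iff_of_finite]
      intro a ha
      have h1 := pow_mem_span_det P a (fun y => Module.mem_annihilator.mp ha y)
      have h2 : a ^ Fintype.card ι ∈ J :=
        (Ideal.span_le.mpr (Set.singleton_subset_iff.mpr hdJ)) h1
      exact Ideal.IsPrime.mem_of_pow_mem inferInstance _ h2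
    exact Groth.Agent.DimLib.isMaximal_of_mem_support_of_isFiniteLength hC _ hsupp
  have h0 : Ring.KrullDimLE 0 (A ⧸ Ideal.span {P.det}) :=
    Ideal.krullDimLE_zero_quotient_iff_forall_minimalPrimes_isMaximal.mpr hmax
  have hart : IsArtinianRing (A ⧸ Ideal.span {P.det}) := isArtinianRing_iff_krullDimLE_zero.mpr h0
  rw [isArtinianRing_iff_isFiniteLength, ← Module.length_ne_top_iff] at hart
  rwa [Module.length_eq_of_surjective (S := A) (R := A ⧸ Ideal.span {P.det})
    Ideal.Quotient.mk_surjective]

end Infinite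

section Final

variable {A : Type u} [CommRing A] [IsNoetherianRing A] {n : ℕ}

lemma map_scalar {A' : Type u} [CommRing A'] (f : A →+* A') (d : A) :
    (d • (1 : Matrix (Fin 1) (Fin 1) A)).map f = f d • (1 : Matrix (Fin 1) (Fin 1) A') := by
  ext i j
  rw [Matrix.map_apply, Matrix.smul_apply, Matrix.smul_apply, Matrix.one_apply, Matrix.one_apply,
    smul_eq_mul, smul_eq_mul, map_mul]
  split_ifs <;> simp

theorem length_coker_act_aux (P : Matrix (Fin n) (Fin n) A) (d : A) (hd : P.det = d)
    (hreg : d ∈ nonZeroDivisors A) (hfin : Module.length A (A ⧸ Ideal.span {d}) ≠ ⊤) :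
    Module.length A ((Fin n → A) ⧸ LinearMap.range (act P A)) =
      Module.length A (A ⧸ Ideal.span {d}) := by
  let A' := Localization (onePlus d)
  haveI : IsNoetherianRing A' := IsLocalization.isNoetherianRing (onePlus d) A' inferInstance
  have t1 := length_coker_loc d A' P hd
  have t2 := length_coker_loc d A' (d • (1 : Matrix (Fin 1) (Fin 1) A)) (det_scalar d)
  rw [map_scalar, cl_scalar, cl_scalar] at t2
  set P' : Matrix (Fin n) (Fin n) A' := P.map (algebraMap A A') with hP'
  have hdet' : P'.det = algebraMap A A' d := by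
    have h := RingHom.map_det (algebraMap A A') P
    rw [hd] at h
    exact h.symm
  have hfin' : Module.length A' (A' ⧸ Ideal.span {P'.det}) ≠ ⊤ := by
    rw [hdet', ← t2]; exact hfin
  have hjac : P'.det ∈ Ring.jacobson A' := by
    rw [hdet']; exact algebraMap_mem_jacobson d A'
  have hreg' : P'.det ∈ nonZeroDivisors A' := by
    rw [hdet']
    exact IsLocalization.nonZeroDivisors_le_comap (onePlus d) A' hreg
  have main := semilocal_case P' hreg' hfin'
    (fun p' hp' hdp' => by haveI := hp'; exact dim_one_of P'.det hjac hfin' p' hdp')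
  rw [t1, main, hdet', ← t2]

theorem length_coker_act (P : Matrix (Fin n) (Fin n) A) (hreg : P.det ∈ nonZeroDivisors A) :
    Module.length A ((Fin n → A) ⧸ LinearMap.range (act P A)) =
      Module.length A (A ⧸ Ideal.span {P.det}) := by
  by_cases hfin : Module.length A (A ⧸ Ideal.span {P.det}) = ⊤
  · rw [hfin]
    by_contra h
    exact length_quot_det_ne_top P h hfin
  · exact length_coker_act_aux P P.det rfl hreg hfin

/-- S0612. -/
theorem length_coker_eq_ord (φ : (Fin n → A) →ₗ[A] (Fin n → A))
    (hφ : LinearMap.det φ ∈ nonZeroDivisors A) :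
    Module.length A ((Fin n → A) ⧸ LinearMap.range φ) = Ring.ord A (LinearMap.det φ) := by
  set P := LinearMap.toMatrix' φ with hP
  have hact : act P A = φ := by
    refine LinearMap.ext fun x => funext fun i => ?_
    rw [act_apply]
    have h1 : φ x = Matrix.toLin' P x := by rw [hP, Matrix.toLin'_toMatrix']
    rw [h1, Matrix.toLin'_apply, Matrix.mulVec, dotProduct]
    rfl
  have hdet : P.det = LinearMap.det φ := by
    rw [hP, LinearMap.det_toMatrix']
  have := length_coker_act P (by rw [hdet]; exact hφ)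
  rw [hact, hdet] at this
  exact this

end Final

end Groth.Agent.Idx9
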