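import Mathlib
import Groth.Agent.Lib.Idx7_helper9

/-!
# Index calculus for maps of modules with kernel and cokernel of finite length (helper9)

* `kL`, `cL`, `FinL`, `idx`: kernel length, cokernel length, finiteness, index of a linear map;
* `comp_parts`, `FinL.comp`, `idx_comp`: additivity of the index under composition;
* `tors`: the `τ`-power torsion; `index_relation`: the index comparison for two maps out of a
  common source which agree up to `τ`-power torsion after composing with two endomorphisms;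
* `local_compare`: the local comparison "index of a matrix = index of its determinant" in the form
  used for `deg E = deg det E`.
APPEND-ONLY once landed.
-/

set_option autoImplicit false

universe u

namespace DetDeg

open Groth.Agent.Idx9

section Index

variable {A : Type u} [CommRing A]
  {M N P : Type u} [AddCommGroup M] [Module A M] [AddCommGroup N] [Module A N]
  [AddCommGroup P] [Module A P]

/-- kernel length -/
noncomputable def kL (f : M →ₗ[A] N) : ℕ∞ := Module.length A (LinearMap.ker f)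

/-- cokernel length -/
noncomputable def cL (f : M →ₗ[A] N) : ℕ∞ := Module.length A (N ⧸ LinearMap.range f)

/-- kernel and cokernel have finite length -/
def FinL (f : M →ₗ[A] N) : Prop := kL f ≠ ⊤ ∧ cL f ≠ ⊤

/-- the index `ℓ(coker) - ℓ(ker)` -/
noncomputable def idx (f : M →ₗ[A] N) : ℤ := ((cL f).toNat : ℤ) - ((kL f).toNat : ℤ)

theorem comp_parts (f : M →ₗ[A] N) (g : N →ₗ[A] P) :
    ∃ a b c : ℕ∞, kL (g ∘ₗ f) = kL f + a ∧ kL g = a + b ∧ cL f = b + c ∧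
      cL (g ∘ₗ f) = c + cL g := by
  set G := LinearMap.ker g with hG
  set Rf := LinearMap.range f with hRf
  refine ⟨rl ⊥ (G ⊓ Rf), rl Rf (G ⊔ Rf), rl (G ⊔ Rf) ⊤, ?_, ?_, ?_, ?_⟩
  · unfold kL
    rw [← rl_bot, ← rl_bot]
    have hk : LinearMap.ker (g ∘ₗ f) = (G ⊓ Rf).comap f := by
      ext x
      simp only [LinearMap.mem_ker, LinearMap.comp_apply, Submodule.mem_comap, Submodule.mem_inf,
        hG, hRf, LinearMap.mem_range, exists_apply_eq_apply, and_true]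
    have hk0 : LinearMap.ker f = (⊥ : Submodule A N).comap f := (Submodule.comap_bot f).symm
    rw [rl_tower (bot_le : ⊥ ≤ LinearMap.ker f) (LinearMap.ker_le_ker_comp f g)]
    congr 1
    rw [hk, hk0]
    exact rl_comap f bot_le inf_le_right
  · unfold kL
    rw [← rl_bot, rl_tower (bot_le : ⊥ ≤ G ⊓ Rf) inf_le_left, rl_inf_sup G Rf]
  · unfold cL
    rw [← rl_top, rl_tower (le_sup_right : Rf ≤ G ⊔ Rf) le_top]
  · unfold cL
    rw [← rl_top, ← rl_top,
      rl_tower (LinearMap.range_comp_le_range f g) (le_top : LinearMap.range g ≤ ⊤)]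
    congr 1
    have h1 : LinearMap.range (g ∘ₗ f) = (G ⊔ Rf).map g := by
      rw [Submodule.map_sup, hG, LinearMap.le_ker_iff_map.mp le_rfl, bot_sup_eq,
        LinearMap.range_comp]
    have h2 : LinearMap.range g = (⊤ : Submodule A N).map g := (Submodule.map_top g).symm
    rw [h1, h2]
    exact rl_map g le_top (by rw [inf_top_eq]; exact le_sup_left)

theorem FinL.comp {f : M →ₗ[A] N} {g : N →ₗ[A] P} (hf : FinL f) (hg : FinL g) :
    FinL (g ∘ₗ f) := by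
  obtain ⟨a, b, c, h1, h2, h3, h4⟩ := comp_parts f g
  have ha : a ≠ ⊤ := fun h => hg.1 (by rw [h2, h, top_add])
  have hc : c ≠ ⊤ := fun h => hf.2 (by rw [h3, h, add_top])
  refine ⟨?_, ?_⟩
  · rw [h1]; exact WithTop.add_ne_top.mpr ⟨hf.1, ha⟩
  · rw [h4]; exact WithTop.add_ne_top.mpr ⟨hc, hg.2⟩

theorem idx_comp {f : M →ₗ[A] N} {g : N →ₗ[A] P} (hf : FinL f) (hg : FinL g) :
    idx (g ∘ₗ f) = idx f + idx g := by
  obtain ⟨a, b, c, h1, h2, h3, h4⟩ := comp_parts f g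
  have ha : a ≠ ⊤ := fun h => hg.1 (by rw [h2, h, top_add])
  have hb : b ≠ ⊤ := fun h => hg.1 (by rw [h2, h, add_top])
  have hc : c ≠ ⊤ := fun h => hf.2 (by rw [h3, h, add_top])
  unfold idx
  rw [h1, h4, h2, h3, ENat.toNat_add hf.1 ha, ENat.toNat_add hc hg.2, ENat.toNat_add ha hb,
    ENat.toNat_add hb hc]
  push_cast
  ring

theorem cL_le_cL_comp (f : M →ₗ[A] N) (g : N →ₗ[A] P) : cL g ≤ cL (g ∘ₗ f) := by
  obtain ⟨a, b, c, h1, h2, h3, h4⟩ := comp_parts f g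
  rw [h4]
  exact le_add_self

/-- if `g` has finite kernel and `g ∘ f` finite cokernel then `f` has finite cokernel -/
theorem cL_ne_top_of_comp (f : M →ₗ[A] N) (g : N →ₗ[A] P) (hg : kL g ≠ ⊤)
    (hgf : cL (g ∘ₗ f) ≠ ⊤) : cL f ≠ ⊤ := by
  obtain ⟨a, b, c, h1, h2, h3, h4⟩ := comp_parts f g
  have hb : b ≠ ⊤ := fun h => hg (by rw [h2, h, add_top])
  have hc : c ≠ ⊤ := fun h => hgf (by rw [h4, h, top_add])
  rw [h3]
  exact WithTop.add_ne_top.mpr ⟨hb, hc⟩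

theorem kL_equiv_comp (f : M →ₗ[A] N) (e : N ≃ₗ[A] P) : kL (e.toLinearMap ∘ₗ f) = kL f :=
  (length_ker_conj f (e.toLinearMap ∘ₗ f) (LinearEquiv.refl A M) e (fun _ => rfl)).symm

theorem cL_equiv_comp (f : M →ₗ[A] N) (e : N ≃ₗ[A] P) : cL (e.toLinearMap ∘ₗ f) = cL f :=
  (length_coker_conj f (e.toLinearMap ∘ₗ f) (LinearEquiv.refl A M) e (fun _ => rfl)).symm

theorem idx_equiv_comp (f : M →ₗ[A] N) (e : N ≃ₗ[A] P) : idx (e.toLinearMap ∘ₗ f) = idx f := by
  unfold idx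
  rw [kL_equiv_comp, cL_equiv_comp]

theorem FinL.equiv_comp {f : M →ₗ[A] N} (hf : FinL f) (e : N ≃ₗ[A] P) :
    FinL (e.toLinearMap ∘ₗ f) := by
  unfold FinL
  rw [kL_equiv_comp, cL_equiv_comp]
  exact hf

theorem finL_of_bijective {f : M →ₗ[A] N} (hf : Function.Bijective f) : FinL f ∧ idx f = 0 := by
  have hk : kL f = 0 := by
    unfold kL
    rw [LinearMap.ker_eq_bot.mpr hf.1]
    exact Module.length_eq_zero
  have hc : cL f = 0 := by
    unfold cL
    rw [LinearMap.range_eq_top.mpr hf.2]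
    exact Module.length_eq_zero
  refine ⟨⟨by rw [hk]; simp, by rw [hc]; simp⟩, ?_⟩
  unfold idx
  rw [hk, hc]
  simp

end Index

section Tors

variable {A : Type u} [CommRing A] (τ : A) (M : Type u) [AddCommGroup M] [Module A M]

/-- the `τ`-power torsion submodule -/
def tors : Submodule A M where
  carrier := {m | ∃ k : ℕ, τ ^ k • m = 0}
  zero_mem' := ⟨0, smul_zero _⟩
  add_mem' := by
    rintro a b ⟨k, hk⟩ ⟨l, hl⟩
    refine ⟨k + l, ?_⟩
    have h1 : τ ^ (k + l) • a = 0 := by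
      rw [pow_add, mul_comm, mul_smul, hk, smul_zero]
    have h2 : τ ^ (k + l) • b = 0 := by
      rw [pow_add, mul_smul, hl, smul_zero]
    rw [smul_add, h1, h2, add_zero]
  smul_mem' := by
    rintro c a ⟨k, hk⟩
    exact ⟨k, by rw [smul_comm, hk, smul_zero]⟩

variable {τ M}

lemma mem_tors {m : M} : m ∈ tors τ M ↔ ∃ k : ℕ, τ ^ k • m = 0 := Iff.rfl

lemma exists_pow_kill [IsNoetherian A M] : ∃ K : ℕ, ∀ m ∈ tors τ M, τ ^ K • m = 0 := by
  classical
  obtain ⟨S, hS⟩ := (IsNoetherian.noetherian (tors τ M) : (tors τ M).FG)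
  have h : ∀ s ∈ S, ∃ k : ℕ, τ ^ k • s = 0 := fun s hs => by
    have : s ∈ tors τ M := by rw [← hS]; exact Submodule.subset_span hs
    exact this
  choose! k hk using h
  refine ⟨S.sup k, fun m hm => ?_⟩
  rw [← hS] at hm
  induction hm using Submodule.span_induction with
  | mem x hx =>
    have := Finset.le_sup (f := k) hx
    obtain ⟨d, hd⟩ := Nat.exists_eq_add_of_le this
    rw [hd, pow_add, mul_comm, mul_smul, hk x hx, smul_zero]
  | zero => exact smul_zero _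
  | add x y _ _ hx hy => rw [smul_add, hx, hy, add_zero]
  | smul a x _ hx => rw [smul_comm, hx, smul_zero]

lemma length_tors_ne_top [IsNoetherianRing A] [Module.Finite A M]
    (hτ : ∀ k : ℕ, Module.length A (A ⧸ Ideal.span {τ ^ k}) ≠ ⊤) :
    Module.length A (tors τ M) ≠ ⊤ := by
  haveI : IsNoetherian A M := isNoetherian_of_isNoetherianRing_of_finite A M
  obtain ⟨K, hK⟩ := exists_pow_kill (τ := τ) (M := M)
  exact length_ne_top_of_finite (X := ↥(tors τ M)) (hτ K) (fun x => Subtype.ext (hK x x.2))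

/-- `A/(τ^k)` has finite length when `A/(τ)` has -/
lemma length_quot_pow [IsNoetherianRing A] (h : Module.length A (A ⧸ Ideal.span {τ}) ≠ ⊤)
    (k : ℕ) : Module.length A (A ⧸ Ideal.span {τ ^ k}) ≠ ⊤ := by
  have hact : act (τ • (1 : Matrix (Fin k) (Fin k) A)) A = τ • LinearMap.id := by
    rw [act_smul, act_one]
  have hcl : Module.length A ((Fin k → A) ⧸
      LinearMap.range (act (τ • (1 : Matrix (Fin k) (Fin k) A)) A)) ≠ ⊤ := by
    refine length_ne_top_of_finite h (fun y => ?_)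
    obtain ⟨x, rfl⟩ := Submodule.mkQ_surjective _ y
    rw [← map_smul, Submodule.mkQ_apply, Submodule.Quotient.mk_eq_zero]
    exact ⟨x, by rw [hact]; rfl⟩
  have := length_quot_det_ne_top _ hcl
  rwa [Matrix.det_smul, Matrix.det_one, mul_one, Fintype.card_fin] at this

end Tors

section Relation

variable {A : Type u} [CommRing A] [IsNoetherianRing A] (τ : A)

/-- the index comparison: `μ ∘ p₁` and `ρ ∘ p₂` agree up to `τ`-power torsion -/
theorem index_relation (hτ : ∀ k : ℕ, Module.length A (A ⧸ Ideal.span {τ ^ k}) ≠ ⊤)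
    {H M₂ M : Type u} [AddCommGroup H] [Module A H] [AddCommGroup M₂] [Module A M₂]
    [AddCommGroup M] [Module A M] [Module.Finite A M]
    (p₁ : H →ₗ[A] M) (p₂ : H →ₗ[A] M₂) (μ : M →ₗ[A] M) (ρ : M₂ →ₗ[A] M)
    (h₁ : FinL p₁) (h₂ : FinL p₂) (hμ : FinL μ)
    (hrel : ∀ x, ∃ k : ℕ, τ ^ k • (μ (p₁ x) - ρ (p₂ x)) = 0) :
    cL ρ ≠ ⊤ ∧ (kL ρ ≠ ⊤ → idx p₁ - idx p₂ = idx ρ - idx μ) := by
  set π : M →ₗ[A] (M ⧸ tors τ M) := (tors τ M).mkQ with hπdef
  have hπ : FinL π := by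
    constructor
    · unfold kL
      rw [hπdef, Submodule.ker_mkQ]
      exact length_tors_ne_top hτ
    · unfold cL
      rw [hπdef, Submodule.range_mkQ]
      rw [Module.length_eq_zero]
      simp
  have hcomp : π ∘ₗ μ ∘ₗ p₁ = π ∘ₗ ρ ∘ₗ p₂ := by
    refine LinearMap.ext fun x => ?_
    simp only [LinearMap.comp_apply]
    rw [← sub_eq_zero, ← map_sub, hπdef, Submodule.mkQ_apply, Submodule.Quotient.mk_eq_zero]
    exact hrel x
  have hL : FinL (π ∘ₗ μ ∘ₗ p₁) := (h₁.comp hμ).comp hπ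
  have hc1 : cL (π ∘ₗ ρ ∘ₗ p₂) ≠ ⊤ := by rw [← hcomp]; exact hL.2
  have hc2 : cL (π ∘ₗ ρ) ≠ ⊤ :=
    ne_top_of_le_ne_top hc1 (cL_le_cL_comp p₂ (π ∘ₗ ρ))
  have hc3 : cL ρ ≠ ⊤ := cL_ne_top_of_comp ρ π hπ.1 hc2
  refine ⟨hc3, fun hk => ?_⟩
  have hρ : FinL ρ := ⟨hk, hc3⟩
  have e1 : idx (π ∘ₗ μ ∘ₗ p₁) = idx p₁ + idx μ + idx π := by
    rw [idx_comp (h₁.comp hμ) hπ, idx_comp h₁ hμ]
  have e2 : idx (π ∘ₗ ρ ∘ₗ p₂) = idx p₂ + idx ρ + idx π := by
    rw [idx_comp (h₂.comp hρ) hπ, idx_comp h₂ hρ]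
  rw [hcomp, e2] at e1
  linarith

end Relation

section Local

variable {A : Type u} [CommRing A] [IsNoetherianRing A]

theorem idx_act_of_isUnit_det {n : ℕ} (P : Matrix (Fin n) (Fin n) A) (hu : IsUnit P.det) :
    FinL (act P A) ∧ idx (act P A) = 0 := by
  obtain ⟨u, hu⟩ := hu
  apply finL_of_bijective
  constructor
  · intro x y hxy
    have h1 := congrArg (act P.adjugate A) hxy
    rw [act_adj_act, act_adj_act, ← hu] at h1
    have h2 := congrArg (fun z => (↑u⁻¹ : A) • z) h1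
    simpa [smul_smul] using h2
  · intro y
    refine ⟨act P.adjugate A ((↑u⁻¹ : A) • y), ?_⟩
    rw [act_act_adj, ← hu, smul_smul, Units.mul_inv, one_smul]

theorem good_local [IsLocalRing A] {n : ℕ} (P : Matrix (Fin n) (Fin n) A)
    (hcl : cL (act P A) ≠ ⊤) :
    FinL (act P A) ∧ FinL (act (P.det • (1 : Matrix (Fin 1) (Fin 1) A)) A) ∧
      idx (act P A) = idx (act (P.det • (1 : Matrix (Fin 1) (Fin 1) A)) A) := by
  have hfin : Module.length A (A ⧸ Ideal.span {P.det}) ≠ ⊤ := length_quot_det_ne_top P hcl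
  have hfin' : Module.length A
      (A ⧸ Ideal.span {(P.det • (1 : Matrix (Fin 1) (Fin 1) A)).det}) ≠ ⊤ := by
    rw [det_scalar]; exact hfin
  have hP : FinL (act P A) := ⟨kl_ne_top P hfin A, hcl⟩
  have hQ : FinL (act (P.det • (1 : Matrix (Fin 1) (Fin 1) A)) A) :=
    ⟨kl_ne_top _ hfin' A, cl_ne_top _ hfin' A⟩
  refine ⟨hP, hQ, ?_⟩
  by_cases hu : IsUnit P.det
  · rw [(idx_act_of_isUnit_det P hu).2,
      (idx_act_of_isUnit_det (P.det • (1 : Matrix (Fin 1) (Fin 1) A))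
        (by rw [det_scalar]; exact hu)).2]
  · have hjac : P.det ∈ Ring.jacobson A := by
      rw [← Ideal.jacobson_bot, IsLocalRing.jacobson_eq_maximalIdeal ⊥ bot_ne_top]
      exact (IsLocalRing.mem_maximalIdeal _).mpr hu
    have hgood : Good P (P.det • (1 : Matrix (Fin 1) (Fin 1) A)) A :=
      good_all P _ (det_scalar _) hfin
        (fun p hp hd => by haveI := hp; exact dim_one_of P.det hjac hfin p hd) A
    have hg : cL (act P A) + kL (act (P.det • (1 : Matrix (Fin 1) (Fin 1) A)) A) =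
        kL (act P A) + cL (act (P.det • (1 : Matrix (Fin 1) (Fin 1) A)) A) := hgood
    have h3 := congrArg ENat.toNat hg
    rw [ENat.toNat_add hP.2 hQ.1, ENat.toNat_add hP.1 hQ.2] at h3
    unfold idx
    omega

/-- the local comparison, matrix form -/
theorem local_compare [IsLocalRing A] (τ : A)
    (hτ : Module.length A (A ⧸ Ideal.span {τ}) ≠ ⊤) (n N : ℕ)
    (Q : Matrix (Fin n) (Fin n) A) (Q' : Matrix (Fin 1) (Fin 1) A)
    (hQ' : Q' = Q.det • (1 : Matrix (Fin 1) (Fin 1) A))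
    {H₁ H₂ : Type u} [AddCommGroup H₁] [Module A H₁] [AddCommGroup H₂] [Module A H₂]
    (p₁ p₂ : H₁ →ₗ[A] (Fin n → A)) (q₁ q₂ : H₂ →ₗ[A] (Fin 1 → A))
    (hp₁ : FinL p₁) (hp₂ : FinL p₂) (hq₁ : FinL q₁) (hq₂ : FinL q₂)
    (hp : ∀ x, ∃ k : ℕ, τ ^ k • (τ ^ N • p₁ x - act Q A (p₂ x)) = 0)
    (hq : ∀ x, ∃ k : ℕ, τ ^ k • (τ ^ (n * N) • q₁ x - act Q' A (q₂ x)) = 0) :
    idx p₁ - idx p₂ = idx q₁ - idx q₂ := by
  subst hQ'
  have hτk := length_quot_pow hτ
  -- the scalar matrices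
  have hdet1 : ((τ ^ N) • (1 : Matrix (Fin n) (Fin n) A)).det = τ ^ (n * N) := by
    rw [Matrix.det_smul, Matrix.det_one, mul_one, Fintype.card_fin, ← pow_mul, mul_comm]
  have hact1 : ∀ x : Fin n → A, act ((τ ^ N) • (1 : Matrix (Fin n) (Fin n) A)) A x = τ ^ N • x := by
    intro x
    rw [act_smul, act_one]; rfl
  have hact2 : ∀ x : Fin 1 → A,
      act ((τ ^ (n * N)) • (1 : Matrix (Fin 1) (Fin 1) A)) A x = τ ^ (n * N) • x := by
    intro x
    rw [act_smul, act_one]; rfl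
  have hcl1 : cL (act ((τ ^ N) • (1 : Matrix (Fin n) (Fin n) A)) A) ≠ ⊤ :=
    cl_ne_top _ (by rw [hdet1]; exact hτk _) A
  obtain ⟨hμ₁, hμ₂, hidxμ⟩ := good_local _ hcl1
  rw [hdet1] at hμ₂ hidxμ
  -- the `E` side
  obtain ⟨hclQ, hE⟩ := index_relation τ hτk p₁ p₂
    (act ((τ ^ N) • (1 : Matrix (Fin n) (Fin n) A)) A) (act Q A) hp₁ hp₂ hμ₁
    (fun x => by rw [hact1]; exact hp x)
  obtain ⟨hρ₁, hρ₂, hidxρ⟩ := good_local Q hclQ
  have hE' := hE hρ₁.1
  -- the `L` side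
  obtain ⟨-, hL⟩ := index_relation τ hτk q₁ q₂
    (act ((τ ^ (n * N)) • (1 : Matrix (Fin 1) (Fin 1) A)) A)
    (act (Q.det • (1 : Matrix (Fin 1) (Fin 1) A)) A) hq₁ hq₂ hμ₂
    (fun x => by rw [hact2]; exact hq x)
  have hL' := hL hρ₂.1
  rw [hE', hL', hidxρ, hidxμ]

end Local

section Bases

variable {A : Type u} [CommRing A]

/-- passing from bases to coordinates -/
theorem relation_of_bases (τ : A) {r : ℕ} (N : ℕ) (Q : Matrix (Fin r) (Fin r) A)
    {H M₁ M₂ : Type u} [AddCommGroup H] [Module A H] [AddCommGroup M₁] [Module A M₁]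
    [AddCommGroup M₂] [Module A M₂] (b₁ : Module.Basis (Fin r) A M₁)
    (b₂ : Module.Basis (Fin r) A M₂) (p₁ : H →ₗ[A] M₁) (p₂ : H →ₗ[A] M₂)
    (hrel : ∀ x : H, ∃ c : Fin r → A, p₂ x = ∑ i, c i • b₂ i ∧
      ∃ k : ℕ, τ ^ k • (τ ^ N • p₁ x - ∑ j, (∑ i, Q j i * c i) • b₁ j) = 0) (x : H) :
    ∃ k : ℕ, τ ^ k • (τ ^ N • (b₁.equivFun.toLinearMap ∘ₗ p₁) x -
      act Q A ((b₂.equivFun.toLinearMap ∘ₗ p₂) x)) = 0 := by
  obtain ⟨c, hc, k, hk⟩ := hrel x
  refine ⟨k, ?_⟩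
  have h2 : b₂.equivFun (p₂ x) = c := by
    rw [hc, ← Module.Basis.equivFun_symm_apply, LinearEquiv.apply_symm_apply]
  have h1 : b₁.equivFun (∑ j, (∑ i, Q j i * c i) • b₁ j) = act Q A c := by
    rw [← Module.Basis.equivFun_symm_apply, LinearEquiv.apply_symm_apply]
    funext j
    rw [act_apply]
    simp only [smul_eq_mul]
  have h3 := congrArg b₁.equivFun hk
  rw [map_smul, map_sub, map_smul, h1, map_zero] at h3
  simp only [LinearMap.comp_apply, LinearEquiv.coe_coe]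
  rw [h2]
  exact h3

/-- the local comparison, for free modules with chosen bases -/
theorem local_compare_bases [IsNoetherianRing A] [IsLocalRing A] (τ : A)
    (hτ : Module.length A (A ⧸ Ideal.span {τ}) ≠ ⊤) (n N : ℕ)
    (Q : Matrix (Fin n) (Fin n) A) (Q' : Matrix (Fin 1) (Fin 1) A)
    (hQ' : Q' = Q.det • (1 : Matrix (Fin 1) (Fin 1) A))
    {H₁ H₂ M₁ M₂ L₁ L₂ : Type u} [AddCommGroup H₁] [Module A H₁] [AddCommGroup H₂] [Module A H₂]
    [AddCommGroup M₁] [Module A M₁] [AddCommGroup M₂] [Module A M₂]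
    [AddCommGroup L₁] [Module A L₁] [AddCommGroup L₂] [Module A L₂]
    (b₁ : Module.Basis (Fin n) A M₁) (b₂ : Module.Basis (Fin n) A M₂)
    (c₁ : Module.Basis (Fin 1) A L₁) (c₂ : Module.Basis (Fin 1) A L₂)
    (p₁ : H₁ →ₗ[A] M₁) (p₂ : H₁ →ₗ[A] M₂) (q₁ : H₂ →ₗ[A] L₁) (q₂ : H₂ →ₗ[A] L₂)
    (hp₁ : FinL p₁) (hp₂ : FinL p₂) (hq₁ : FinL q₁) (hq₂ : FinL q₂)
    (hp : ∀ x : H₁, ∃ c : Fin n → A, p₂ x = ∑ i, c i • b₂ i ∧
      ∃ k : ℕ, τ ^ k • (τ ^ N • p₁ x - ∑ j, (∑ i, Q j i * c i) • b₁ j) = 0)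
    (hq : ∀ x : H₂, ∃ c : Fin 1 → A, q₂ x = ∑ i, c i • c₂ i ∧
      ∃ k : ℕ, τ ^ k • (τ ^ (n * N) • q₁ x - ∑ j, (∑ i, Q' j i * c i) • c₁ j) = 0) :
    idx p₁ - idx p₂ = idx q₁ - idx q₂ := by
  have h := local_compare τ hτ n N Q Q' hQ'
    (b₁.equivFun.toLinearMap ∘ₗ p₁) (b₂.equivFun.toLinearMap ∘ₗ p₂)
    (c₁.equivFun.toLinearMap ∘ₗ q₁) (c₂.equivFun.toLinearMap ∘ₗ q₂)
    (hp₁.equiv_comp _) (hp₂.equiv_comp _) (hq₁.equiv_comp _) (hq₂.equiv_comp _)
    (relation_of_bases τ N Q b₁ b₂ p₁ p₂ hp)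
    (relation_of_bases τ (n * N) Q' c₁ c₂ q₁ q₂ hq)
  rwa [idx_equiv_comp, idx_equiv_comp, idx_equiv_comp, idx_equiv_comp] at h

end Bases

end DetDeg
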