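import Mathlib
import Groth.Prelude
import Groth.Agent.Lib.DetDeg1_helper9
import Groth.Agent.Lib.Snap19_helper9
import Groth.Agent.Lib.Deligne1_helper8
import Groth.Agent.Lib.FibInjF_helper6
import Groth.Agent.Lib.BirCurve3_helper9

/-!
# The difference of Euler characteristics along a generic isomorphism as a sum of local indices
(helper9)

* `kL_stalk`, `cL_stalk`: the stalks of the kernel and cokernel sheaves have the lengths of the
  kernel and cokernel of the stalk map;
* `eulerHom`, `wt`, `euler_eq_sum`: `χ(Q) = Σ_z ℓ(Q_z) · wt(z)` for `Q` coherent supported in a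
  finite set of closed points;
* `euler_sub_eq_sum`: `χ(G) - χ(F) = Σ_z idx(ψ_z) · wt(z)` for `ψ : F ⟶ G` with kernel and cokernel
  supported in a finite set of closed points.
APPEND-ONLY once landed.
-/

set_option autoImplicit false
universe u
open CategoryTheory CategoryTheory.Limits AlgebraicGeometry Opposite TopologicalSpace

namespace DetDeg

section Stalk

variable {X : Scheme.{u}}

theorem cL_stalk {F G : X.Modules} (ψ : F ⟶ G) (x : X) :
    Module.length (X.presheaf.stalk x) ((cokernel ψ).presheaf.stalk x) =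
      cL (Algz.stalkMapₗ ψ x) := by
  obtain ⟨hex, hsurj⟩ := Groth.Agent.Lib.FibInjH6.exact_stalk_cokernel ψ x
  unfold cL
  have hk : LinearMap.ker (Algz.stalkMapₗ (cokernel.π ψ) x) =
      LinearMap.range (Algz.stalkMapₗ ψ x) := LinearMap.exact_iff.mp hex
  rw [← hk]
  exact ((Algz.stalkMapₗ (cokernel.π ψ) x).quotKerEquivOfSurjective hsurj).length_eq.symm

theorem kL_stalk {F G : X.Modules} (ψ : F ⟶ G) (x : X) :
    Module.length (X.presheaf.stalk x) ((kernel ψ).presheaf.stalk x) =
      kL (Algz.stalkMapₗ ψ x) := by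
  let S₁ : ShortComplex X.Modules :=
    ShortComplex.mk (kernel.ι ψ) (cokernel.π (kernel.ι ψ)) (cokernel.condition _)
  have hS₁ : S₁.ShortExact := ShortComplex.ShortExact.mk' (ShortComplex.exact_cokernel _)
    (inferInstanceAs (Mono (kernel.ι ψ))) (inferInstanceAs (Epi (cokernel.π (kernel.ι ψ))))
  have hinj : Function.Injective (Algz.stalkMapₗ (kernel.ι ψ) x) :=
    CycLenH8.stalk_injective S₁ hS₁ x
  have hex : Function.Exact (Algz.stalkMapₗ (kernel.ι ψ) x)
      (Algz.stalkMapₗ (cokernel.π (kernel.ι ψ)) x) := CycLenH8.stalk_exact S₁ hS₁ x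
  have hm : Function.Injective (Algz.stalkMapₗ (Abelian.factorThruCoimage ψ) x) :=
    DescH8.stk_injective_of_mono (Abelian.factorThruCoimage ψ) x
  have hfac : Algz.stalkMapₗ ψ x = (Algz.stalkMapₗ (Abelian.factorThruCoimage ψ) x).comp
      (Algz.stalkMapₗ (cokernel.π (kernel.ι ψ)) x) := by
    rw [← CohDevH8.stalkMapₗ_comp]
    congr 1
    exact (Abelian.coimage.fac ψ).symm
  have hk : LinearMap.ker (Algz.stalkMapₗ ψ x) =
      LinearMap.range (Algz.stalkMapₗ (kernel.ι ψ) x) := by
    rw [hfac, LinearMap.ker_comp_of_ker_eq_bot _ (LinearMap.ker_eq_bot.mpr hm)]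
    exact LinearMap.exact_iff.mp hex
  unfold kL
  rw [hk]
  exact (LinearEquiv.ofInjective _ hinj).length_eq

end Stalk

section Euler

variable (k : Type u) [Field k] (X : Scheme.{u}) [X.Over (Spec (CommRingCat.of k))]
  [IsProper (X ↘ Spec (CommRingCat.of k))]

/-- the Euler characteristic as a homomorphism on `K₀(Coh X)` -/
noncomputable def eulerHom : KZero.K0sub (fun M : X.Modules => Coh.IsCoh M) →+ ℤ :=
  haveI : IsLocallyNoetherian X :=
    LocallyOfFiniteType.isLocallyNoetherian (X ↘ Spec (CommRingCat.of k))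
  Groth.Agent.Lib.KZeroH4.liftSub _ (fun F => Curv2.euler k X F)
    (fun S hS h1 h2 h3 => EulerField.euler_additive k X S hS h1 h2 h3)

theorem eulerHom_clSub (F : X.Modules) (hF : Coh.IsCoh F) :
    eulerHom k X (KZero.clSub (fun M : X.Modules => Coh.IsCoh M) F) = Curv2.euler k X F :=
  Groth.Agent.Lib.KZeroH4.liftSub_clSub _ _ _ F hF

/-- the weight of a point: the Euler characteristic of its residue field, for closed points -/
noncomputable def wt (z : X) : ℤ :=
  if topologicalKrullDim ↥(closure ({z} : Set X)) = ((0 : ℕ) : WithBot ℕ∞) then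
    eulerHom k X (KZero.clSub (fun M : X.Modules => Coh.IsCoh M) (Cyc.closureStructureSheaf z))
  else 0

theorem euler_eq_sum (B : Finset X) (hB : ∀ z ∈ B, IsClosed ({z} : Set X)) (Q : X.Modules)
    (hQ : Coh.IsCoh Q) (hsupp : CohB1.support Q ⊆ (B : Set X)) :
    Curv2.euler k X Q = ∑ z ∈ B,
      ((Module.length (X.presheaf.stalk z) (Q.presheaf.stalk z)).toNat : ℤ) * wt k X z := by
  haveI : IsLocallyNoetherian X :=
    LocallyOfFiniteType.isLocallyNoetherian (X ↘ Spec (CommRingCat.of k))
  haveI : CompactSpace X :=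
    QuasiCompact.compactSpace_of_compactSpace (X ↘ Spec (CommRingCat.of k))
  haveI : IsNoetherian X := {}
  have hdim : topologicalKrullDim ↥(CohB1.support Q) ≤ ((0 : ℕ) : WithBot ℕ∞) := by
    haveI : Finite ↥(CohB1.support Q) := (B.finite_toSet.subset hsupp).to_subtype
    haveI : T1Space ↥(CohB1.support Q) := ⟨fun x => by
      have h1 := (hB x.1 (hsupp x.2)).preimage
        (continuous_subtype_val : Continuous (Subtype.val : ↥(CohB1.support Q) → X))
      have h2 : (Subtype.val : ↥(CohB1.support Q) → X) ⁻¹' {x.1} = {x} := by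
        ext y
        simp [Subtype.ext_iff]
      rwa [h2] at h1⟩
    exact_mod_cast topologicalKrullDim_zero_of_discreteTopology ↥(CohB1.support Q)
  have hφ : ∀ G : X.Modules, Coh.IsCoh G →
      topologicalKrullDim ↥(CohB1.support G) < ((0 : ℕ) : WithBot ℕ∞) →
      eulerHom k X (KZero.clSub (fun M : X.Modules => Coh.IsCoh M) G) = 0 := by
    intro G hG hd
    haveI := hG.2
    have hcl : IsClosed (CohB1.support G) := SuppFT.isClosed_support G
    rw [eulerHom_clSub k X G hG]
    have h0 := Snap9.altSum_eq_zero k X [] (by simp) G hG ⟨CohB1.support G, hcl⟩ subset_rfl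
      (lt_of_le_of_lt (Snap9.dimC_le_topologicalKrullDim ⟨CohB1.support G, hcl⟩) hd)
    rwa [Snap9.altSum_nil] at h0
  have h := Snap9.hom_eq_finsum (eulerHom k X) 0 hφ Q hQ hdim
  rw [eulerHom_clSub k X Q hQ] at h
  rw [h]
  have hfun : (fun ξ : X =>
      (if topologicalKrullDim (closure ({ξ} : Set X)) = ((0 : ℕ) : WithBot ℕ∞) then
        ((Module.length (X.presheaf.stalk ξ) (Q.presheaf.stalk ξ)).toNat : ℤ) *
          eulerHom k X (KZero.clSub (fun M : X.Modules => Coh.IsCoh M)
            (Cyc.closureStructureSheaf ξ))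
        else 0)) = fun ξ : X =>
      ((Module.length (X.presheaf.stalk ξ) (Q.presheaf.stalk ξ)).toNat : ℤ) * wt k X ξ := by
    funext ξ
    unfold wt
    rw [mul_ite, mul_zero]
  rw [hfun]
  apply finsum_eq_sum_of_support_subset
  intro ξ hξ
  rw [Function.mem_support] at hξ
  by_contra hξB
  apply hξ
  have h1 : ξ ∉ CohB1.support Q := fun h => hξB (hsupp h)
  have h2 : Subsingleton (Q.presheaf.stalk ξ) := not_not.mp h1
  rw [Module.length_eq_zero]
  simp

/-- `χ(G) - χ(F)` as a sum of local indices -/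
theorem euler_sub_eq_sum (B : Finset X) (hB : ∀ z ∈ B, IsClosed ({z} : Set X))
    {F G : X.Modules} (hF : Coh.IsCoh F) (hG : Coh.IsCoh G) (ψ : F ⟶ G)
    (hk : CohB1.support (kernel ψ) ⊆ (B : Set X))
    (hc : CohB1.support (cokernel ψ) ⊆ (B : Set X)) :
    (∀ z ∈ B, FinL (Algz.stalkMapₗ ψ z)) ∧
      Curv2.euler k X G - Curv2.euler k X F =
        ∑ z ∈ B, idx (Algz.stalkMapₗ ψ z) * wt k X z := by
  haveI : IsLocallyNoetherian X :=
    LocallyOfFiniteType.isLocallyNoetherian (X ↘ Spec (CommRingCat.of k))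
  have hKc : Coh.IsCoh (kernel ψ) := CohKerH8.isCoh_kernel hF hG ψ
  have hQc : Coh.IsCoh (cokernel ψ) := CohKerH8.isCoh_cokernel hF hG ψ
  have hmax : ∀ (Q : X.Modules), CohB1.support Q ⊆ (B : Set X) → ∀ z : X,
      ∀ t : X, t ⤳ z → t ∈ CohB1.support Q → t = z := by
    intro Q hQ z t htz ht
    have h1 : z ∈ closure ({t} : Set X) := specializes_iff_mem_closure.mp htz
    rw [(hB t (hQ ht)).closure_eq] at h1
    exact (Set.mem_singleton_iff.mp h1).symm
  have hfin : ∀ z ∈ B, FinL (Algz.stalkMapₗ ψ z) := by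
    intro z _
    constructor
    · rw [← kL_stalk, Module.length_ne_top_iff]
      exact CycLenH8.isFiniteLength_stalk hKc z (hmax _ hk z)
    · rw [← cL_stalk, Module.length_ne_top_iff]
      exact CycLenH8.isFiniteLength_stalk hQc z (hmax _ hc z)
  refine ⟨hfin, ?_⟩
  have h1 := BirCurve.euler_sub_of_exact k X (𝟭 _) (fun S hS => hS.map_of_exact (𝟭 _))
    (fun A hA => hA) hF hG ψ
  have h1' : Curv2.euler k X G - Curv2.euler k X F =
      Curv2.euler k X (cokernel ψ) - Curv2.euler k X (kernel ψ) := h1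
  rw [h1', euler_eq_sum k X B hB _ hQc hc, euler_eq_sum k X B hB _ hKc hk, ← Finset.sum_sub_distrib]
  apply Finset.sum_congr rfl
  intro z _
  unfold idx
  rw [← kL_stalk, ← cL_stalk]
  ring

end Euler

end DetDeg
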