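import Mathlib
import Groth.Prelude
import Groth.Agent.Lib.FLF5_helper8
import Groth.Agent.Lib.Deligne1_helper8
import Groth.Agent.Lib.DegPull1_helper9
import Groth.Agent.S0816

/-!
# Roofs with control: extending a generic trivialization (helper9)

For a coherent module `G` with sections `t` over an open `U` forming bases over all opens inside
`U`, there are a coherent `F'` and maps `ι : F' ⟶ G`, `φ' : F' ⟶ O^r`, both isomorphisms over `U`,
such that `ι h = Σ_i (φ' h)_i • t_i` on sections over opens inside `U`.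
APPEND-ONLY once landed.
-/

set_option autoImplicit false
universe u
open CategoryTheory CategoryTheory.Limits AlgebraicGeometry Opposite TopologicalSpace

namespace DetDeg

open QcqsLoc QCohExtn FLFH8 SDivGenH8 SDivFreeH8

section Roof

variable {X : Scheme.{u}}

/-- a morphism between restricted modules, on sections over an image open -/
noncomputable def appR {M M' : X.Modules} (U : X.Opens)
    (ξ : M.restrict U.ι ⟶ M'.restrict U.ι) (W : (U : Scheme.{u}).Opens) :
    Γ(M, U.ι ''ᵁ W) →+ Γ(M', U.ι ''ᵁ W) := (ξ.app W).hom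

/-- morphisms between restricted modules are linear over functions on the image opens -/
theorem appR_smul {M M' : X.Modules} (U : X.Opens)
    (ξ : M.restrict U.ι ⟶ M'.restrict U.ι) (W : (U : Scheme.{u}).Opens)
    (a : Γ(X, U.ι ''ᵁ W)) (m : Γ(M, U.ι ''ᵁ W)) :
    appR U ξ W (a • m) = a • appR U ξ W m := by
  obtain ⟨x, rfl⟩ := appIso_inv_surjective U W a
  exact ap_smul ξ x (show Γ(M.restrict U.ι, W) from m)

theorem basisOn_stdSec (r : ℕ) (U : X.Opens) (O : X.Opens) (hO : O ≤ U) :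
    BasisOn (FlatMod.freeMod X r) (stdSec r U) O hO := by
  have e : (fun j => rF (FlatMod.freeMod X r) hO (stdSec r U j)) = stdSec r O := by
    funext j
    exact rF_stdSec r hO j
  unfold BasisOn
  rw [e]
  exact ⟨stdSec_span r O, stdSec_li r O⟩

theorem exists_roof [IsLocallyNoetherian X] (G : X.Modules) (hG : Coh.IsCoh G) (U : X.Opens)
    {r : ℕ} (t : Fin r → Γ(G, U)) (ht : ∀ (O : X.Opens) (hO : O ≤ U), BasisOn G t O hO) :
    ∃ (F' : X.Modules) (ι : F' ⟶ G) (φ' : F' ⟶ FlatMod.freeMod X r), Coh.IsCoh F' ∧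
      IsIso ((Scheme.Modules.restrictFunctor U.ι).map ι) ∧
      IsIso ((Scheme.Modules.restrictFunctor U.ι).map φ') ∧
      ∀ (O : X.Opens) (hO : O ≤ U) (h : Γ(F', O)),
        ap ι O h = ∑ i, ofM ((projM i).app O (ap φ' O h)) • rF G hO (t i) := by
  have hU' : U.ι ''ᵁ ⊤ = U := by
    rw [Scheme.Hom.image_top_eq_opensRange, Scheme.Opens.opensRange_ι]
  let t' : Fin r → Γ(G, U.ι ''ᵁ ⊤) := fun j => rF G hU'.le (t j)
  have ht' : ∀ (O : X.Opens) (hO : O ≤ U.ι ''ᵁ ⊤), BasisOn G t' O hO :=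
    fun O hO => BasisOn.of_rF G t hU'.le hO (ht O (hO.trans hU'.le))
  let s' : Fin r → Γ(FlatMod.freeMod X r, U.ι ''ᵁ ⊤) := stdSec r (U.ι ''ᵁ ⊤)
  have hs' : ∀ (O : X.Opens) (hO : O ≤ U.ι ''ᵁ ⊤), BasisOn (FlatMod.freeMod X r) s' O hO :=
    fun O hO => basisOn_stdSec r _ O hO
  haveI i1 := isIso_freeHom_restrict G t' ht'
  haveI i2 := isIso_freeHom_restrict (FlatMod.freeMod X r) s' hs'
  let fE := freeHom (G.restrict U.ι) (t' : Fin r → Γ(G.restrict U.ι, ⊤))
  let fO := freeHom ((FlatMod.freeMod X r).restrict U.ι)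
    (s' : Fin r → Γ((FlatMod.freeMod X r).restrict U.ι, ⊤))
  let φ : (Scheme.Modules.restrictFunctor U.ι).obj G ⟶
      (Scheme.Modules.restrictFunctor U.ι).obj (FlatMod.freeMod X r) := inv fE ≫ fO
  obtain ⟨F', ι, φ', -, hF', hι, hφ'⟩ := Groth.Agent.S0816.result X G (FlatMod.freeMod X r) hG
    (DegPull.isCoh_freeMod r) U φ
  haveI := hι
  have hφ'iso : IsIso ((Scheme.Modules.restrictFunctor U.ι).map φ') := by
    rw [hφ']; infer_instance
  refine ⟨F', ι, φ', hF', hι, hφ'iso, ?_⟩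
  intro O hO h
  obtain ⟨W, rfl⟩ : ∃ W : (U : Scheme.{u}).Opens, O = U.ι ''ᵁ W := by
    refine ⟨U.ι ⁻¹ᵁ O, ?_⟩
    rw [Scheme.Hom.image_preimage_eq_opensRange_inf, Scheme.Opens.opensRange_ι]
    exact (inf_eq_right.mpr hO).symm
  -- the inverse direction
  let ξ : (FlatMod.freeMod X r).restrict U.ι ⟶ G.restrict U.ι := inv fO ≫ fE
  have hξ : (Scheme.Modules.restrictFunctor U.ι).map ι =
      (Scheme.Modules.restrictFunctor U.ι).map φ' ≫ ξ := by
    rw [hφ']
    simp only [φ, ξ, Category.assoc, IsIso.hom_inv_id_assoc, IsIso.inv_hom_id, Category.comp_id]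
  have hfOξ : fO ≫ ξ = fE := by
    simp only [ξ, IsIso.hom_inv_id_assoc]
  -- `ξ` on the standard sections
  have hstd : ∀ i : Fin r, appR U ξ W (stdSec r (U.ι ''ᵁ W) i) =
      rF G hO (t i) := by
    intro i
    have h1 := freeHom_app_smul_stdSec ((FlatMod.freeMod X r).restrict U.ι)
      (s' : Fin r → Γ((FlatMod.freeMod X r).restrict U.ι, ⊤)) W i 1
    rw [one_smul, one_smul] at h1
    have h2 := freeHom_app_smul_stdSec (G.restrict U.ι)
      (t' : Fin r → Γ(G.restrict U.ι, ⊤)) W i 1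
    rw [one_smul, one_smul] at h2
    have h3 : rF ((FlatMod.freeMod X r).restrict U.ι) (le_top : W ≤ ⊤)
        ((s' : Fin r → Γ((FlatMod.freeMod X r).restrict U.ι, ⊤)) i) =
        stdSec r (U.ι ''ᵁ W) i :=
      rF_stdSec r (U.ι.image_mono (le_top : W ≤ ⊤)) i
    have h4 : rF (G.restrict U.ι) (le_top : W ≤ ⊤)
        ((t' : Fin r → Γ(G.restrict U.ι, ⊤)) i) = rF G hO (t i) :=
      rF_rF G (U.ι.image_mono (le_top : W ≤ ⊤)) hU'.le (t i)
    have h5 : (ξ.app W).hom ((fO.app W).hom (stdSec r W i)) = (fE.app W).hom (stdSec r W i) :=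
      congrArg (fun f => (Scheme.Modules.Hom.app f W).hom (stdSec r W i)) hfOξ
    have h1' : (fO.app W).hom (stdSec r W i) = stdSec r (U.ι ''ᵁ W) i := h1.trans h3
    have h2' : (fE.app W).hom (stdSec r W i) = rF G hO (t i) := h2.trans h4
    rw [h1', h2'] at h5
    exact h5
  -- evaluate
  have e1 : ap ι (U.ι ''ᵁ W) h = appR U ξ W (ap φ' (U.ι ''ᵁ W) h) :=
    congrArg (fun f => (Scheme.Modules.Hom.app f W).hom h) hξ
  rw [e1]
  conv_lhs => rw [section_eq_sum_stdSec r (U.ι ''ᵁ W) (ap φ' (U.ι ''ᵁ W) h)]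
  rw [map_sum]
  apply Finset.sum_congr rfl
  intro i _
  rw [appR_smul U ξ W, hstd i]

end Roof

end DetDeg
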