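import Mathlib
import Groth.Prelude
import Groth.Agent.Lib.DetDeg3_helper9
import Groth.Agent.Lib.FLF6_helper8
import Groth.Agent.Lib.ChevD_helper8
import Groth.Agent.Lib.BirCurve1_helper9

/-!
# Local analysis at a point outside the dense open (helper9)

* `exists_param`: a Noetherian local ring of dimension `≤ 1` has an element `τ` of the maximal
  ideal with `A/(τ)` of finite length;
* `exists_param_section`: the same for the local ring of a scheme, with `τ` the germ of a section
  over a small affine neighbourhood;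
* `exists_transition`: transition matrices with cleared denominators;
* `stalkBasis`: germs of a basis of sections form a basis of the stalk;
* `stalk_relation`: the relation between the two legs of a roof at the stalk.
APPEND-ONLY once landed.
-/

set_option autoImplicit false
universe u
open CategoryTheory CategoryTheory.Limits AlgebraicGeometry Opposite TopologicalSpace

namespace DetDeg

open QcqsLoc QCohExtn FLFH8 SDivGenH8 SDivFreeH8

section Alg

variable {A : Type u} [CommRing A] [IsLocalRing A] [IsNoetherianRing A]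

theorem exists_param (hdim : ringKrullDim A ≤ 1) :
    ∃ τ ∈ IsLocalRing.maximalIdeal A, Module.length A (A ⧸ Ideal.span {τ}) ≠ ⊤ := by
  classical
  have hdim1 : Ring.KrullDimLE 1 A := by
    rw [Ring.krullDimLE_iff]; exact hdim
  have hprimes : ∀ I : Ideal A, I.IsPrime → I ∈ minimalPrimes A ∨ I.IsMaximal :=
    Ring.krullDimLE_one_iff.1 hdim1
  have hfin : (minimalPrimes A).Finite := minimalPrimes.finite_of_isNoetherianRing A
  let S : Finset (Ideal A) := hfin.toFinset.filter (fun p => p ≠ IsLocalRing.maximalIdeal A)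
  have hS : ∀ p, p ∈ S ↔ p ∈ minimalPrimes A ∧ p ≠ IsLocalRing.maximalIdeal A := by
    intro p
    simp [S]
  obtain ⟨τ, hτm, hτ⟩ : ∃ τ ∈ IsLocalRing.maximalIdeal A, ∀ p ∈ S, τ ∉ p := by
    by_contra hcon
    push Not at hcon
    have hsub : ((IsLocalRing.maximalIdeal A : Ideal A) : Set A) ⊆
        ⋃ p ∈ (↑S : Set (Ideal A)), (p : Set A) := by
      intro x hx
      obtain ⟨p, hp, hxp⟩ := hcon x hx
      simp only [Set.mem_iUnion]
      exact ⟨p, hp, hxp⟩
    rw [Ideal.subset_union_prime (f := fun p : Ideal A => p) ⊥ ⊥ (fun p hp _ _ =>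
      ((hS p).mp hp).1.1.1)] at hsub
    obtain ⟨p, hp, hle⟩ := hsub
    obtain ⟨hpmin, hpne⟩ := (hS p).mp hp
    have hpp : p.IsPrime := hpmin.1.1
    exact hpne (le_antisymm (IsLocalRing.le_maximalIdeal hpp.ne_top) hle)
  refine ⟨τ, hτm, ?_⟩
  have hmax : ∀ J ∈ (Ideal.span {τ}).minimalPrimes, J.IsMaximal := by
    intro J hJ
    haveI : J.IsPrime := hJ.1.1
    have hτJ : τ ∈ J := hJ.1.2 (Ideal.mem_span_singleton_self _)
    rcases hprimes J inferInstance with hmin | hmx
    · by_contra hnm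
      have hne : J ≠ IsLocalRing.maximalIdeal A := fun h => hnm (h ▸ inferInstance)
      exact hτ J ((hS J).mpr ⟨hmin, hne⟩) hτJ
    · exact hmx
  have h0 : Ring.KrullDimLE 0 (A ⧸ Ideal.span {τ}) :=
    Ideal.krullDimLE_zero_quotient_iff_forall_minimalPrimes_isMaximal.mpr hmax
  have hart : IsArtinianRing (A ⧸ Ideal.span {τ}) := isArtinianRing_iff_krullDimLE_zero.mpr h0
  rw [isArtinianRing_iff_isFiniteLength, ← Module.length_ne_top_iff] at hart
  rwa [Module.length_eq_of_surjective (S := A) (R := A ⧸ Ideal.span {τ})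
    Ideal.Quotient.mk_surjective]

end Alg

section Geom

variable {X : Scheme.{u}}

theorem exists_param_section [IsLocallyNoetherian X] (hdim : topologicalKrullDim X ≤ 1) (z : X)
    (W₀ : X.Opens) (hz : z ∈ W₀) :
    ∃ (W : X.Opens) (_ : IsAffineOpen W) (hzW : z ∈ W) (_ : W ≤ W₀) (s : Γ(X, W)),
      z ∉ X.basicOpen s ∧
      Module.length (X.presheaf.stalk z)
        (X.presheaf.stalk z ⧸ Ideal.span {(X.presheaf.germ W z hzW).hom s}) ≠ ⊤ := by
  obtain ⟨τ, hτm, hτ⟩ := exists_param (A := X.presheaf.stalk z)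
    (BirCurve.ringKrullDim_stalk_le hdim z)
  obtain ⟨V, hzV, s₀, rfl⟩ := TopCat.Presheaf.exists_germ_eq X.presheaf τ
  obtain ⟨_, ⟨W, hW : IsAffineOpen W, rfl⟩, hzW, hWle⟩ :=
    (X.isBasis_affineOpens).exists_subset_of_mem_open (show z ∈ V ⊓ W₀ from ⟨hzV, hz⟩)
      (V ⊓ W₀).isOpen
  have hWV : W ≤ V := fun y hy => (hWle hy).1
  have hWW₀ : W ≤ W₀ := fun y hy => (hWle hy).2
  have hgerm : (X.presheaf.germ W z hzW).hom (rX hWV s₀) = (X.presheaf.germ V z hzV).hom s₀ :=
    TopCat.Presheaf.germ_res_apply X.presheaf (homOfLE hWV) z hzW s₀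
  refine ⟨W, hW, hzW, hWW₀, rX hWV s₀, ?_, ?_⟩
  · intro hmem
    have hu := (Scheme.mem_basicOpen X (rX hWV s₀) z hzW).mp hmem
    have hu' : IsUnit ((X.presheaf.germ W z hzW).hom (rX hWV s₀)) := hu
    rw [hgerm] at hu'
    exact ((IsLocalRing.mem_maximalIdeal _).mp hτm) hu'
  · rw [hgerm]
    exact hτ

theorem exists_transition (G : X.Modules) {W U : X.Opens} (hW : IsAffineOpen W) (s : Γ(X, W))
    (hs : X.basicOpen s ≤ U) {r : ℕ} (t : Fin r → Γ(G, U)) (γ : Fin r → Γ(G, W))
    (hγ : BasisOn G γ (X.basicOpen s) (X.basicOpen_le s)) :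
    ∃ (N : ℕ) (Q : Matrix (Fin r) (Fin r) Γ(X, W)), ∀ i,
      rX (X.basicOpen_le s) s ^ N • rF G hs (t i) =
        ∑ j, rX (X.basicOpen_le s) (Q j i) • rF G (X.basicOpen_le s) (γ j) := by
  classical
  haveI := hW.isLocalization_basicOpen s
  have hP : ∀ i, ∃ P : Fin r → Γ(X, X.basicOpen s),
      ∑ j, P j • rF G (X.basicOpen_le s) (γ j) = rF G hs (t i) := by
    intro i
    have hm : rF G hs (t i) ∈ Submodule.span Γ(X, X.basicOpen s)
        (Set.range fun j => rF G (X.basicOpen_le s) (γ j)) := by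
      rw [hγ.1]; trivial
    exact (Submodule.mem_span_range_iff_exists_fun _).mp hm
  choose P hP using hP
  have hq : ∀ i j, ∃ (n : ℕ) (a : Γ(X, W)),
      P i j * algebraMap Γ(X, W) Γ(X, X.basicOpen s) s ^ n =
        algebraMap Γ(X, W) Γ(X, X.basicOpen s) a :=
    fun i j => IsLocalization.Away.surj s (P i j)
  choose n a ha using hq
  let N : ℕ := Finset.univ.sup fun i => Finset.univ.sup fun j => n i j
  have hN : ∀ i j, n i j ≤ N := fun i j =>
    (Finset.le_sup (f := fun j => n i j) (Finset.mem_univ j)).trans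
      (Finset.le_sup (f := fun i => Finset.univ.sup fun j => n i j) (Finset.mem_univ i))
  refine ⟨N, Matrix.of fun j i => s ^ (N - n i j) * a i j, fun i => ?_⟩
  rw [← hP i, Finset.smul_sum]
  apply Finset.sum_congr rfl
  intro j _
  rw [smul_smul]
  congr 1
  have h1 : rX (X.basicOpen_le s) s = algebraMap Γ(X, W) Γ(X, X.basicOpen s) s := rfl
  have h2 : rX (X.basicOpen_le s) (s ^ (N - n i j) * a i j) =
      algebraMap Γ(X, W) Γ(X, X.basicOpen s) s ^ (N - n i j) *
        algebraMap Γ(X, W) Γ(X, X.basicOpen s) (a i j) := by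
    rw [map_mul, map_pow]; rfl
  rw [Matrix.of_apply, h2, ← ha i j, h1]
  have h3 : N = (N - n i j) + n i j := (Nat.sub_add_cancel (hN i j)).symm
  conv_lhs => rw [h3, pow_add]
  ring

/-- germs of a basis of sections over an affine open form a basis of the stalk -/
theorem stalkBasis (G : X.Modules) [G.IsQuasicoherent] {W : X.Opens} (hW : IsAffineOpen W)
    {z : X} (hz : z ∈ W) {r : ℕ} (γ : Fin r → Γ(G, W)) (hγ : BasisOn G γ W le_rfl) :
    ∃ b : Module.Basis (Fin r) (X.presheaf.stalk z) (G.presheaf.stalk z),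
      ∀ j, b j = G.presheaf.germ W z hz (γ j) := by
  obtain ⟨hspan, hli⟩ := BasisOn.self G γ hγ
  have hspan' := span_germ G hW hz γ hspan
  obtain ⟨-, hrank⟩ := free_stalk_of_basis G hW hz γ hspan hli
  have hli' : LinearIndependent (X.presheaf.stalk z)
      (fun i => (G.presheaf.germ W z hz (γ i) : G.presheaf.stalk z)) :=
    linearIndependent_of_top_le_span_of_card_le_finrank hspan'.ge (by simp [hrank])
  refine ⟨Module.Basis.mk hli' hspan'.ge, fun j => ?_⟩
  rw [Module.Basis.mk_apply]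

/-- restriction of the coordinates of a section of the free module -/
theorem ofM_projM_rF {r : ℕ} {V O : X.Opens} (h : V ≤ O) (i : Fin r)
    (m : Γ(FlatMod.freeMod X r, O)) :
    ofM ((projM i).app V (rF (FlatMod.freeMod X r) h m)) = rX h (ofM ((projM i).app O m)) :=
  congrArg ofM (ap_rF (projM i) h m)

/-- the relation between the two legs of a roof, at the stalk of a point outside `U` -/
theorem stalk_relation {G F' : X.Modules} [G.IsQuasicoherent] {r : ℕ}
    (ι : F' ⟶ G) (φ' : F' ⟶ FlatMod.freeMod X r) (U : X.Opens) (t : Fin r → Γ(G, U))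
    (hK : ∀ (O : X.Opens) (hO : O ≤ U) (h : Γ(F', O)),
      ap ι O h = ∑ i, ofM ((projM i).app O (ap φ' O h)) • rF G hO (t i))
    {W : X.Opens} {z : X} (hzW : z ∈ W) (γ : Fin r → Γ(G, W)) (s : Γ(X, W))
    (hs : X.basicOpen s ≤ U) (Q : Matrix (Fin r) (Fin r) Γ(X, W)) (N : ℕ)
    (hrel : ∀ i, rX (X.basicOpen_le s) s ^ N • rF G hs (t i) =
      ∑ j, rX (X.basicOpen_le s) (Q j i) • rF G (X.basicOpen_le s) (γ j))
    (x : F'.presheaf.stalk z) :
    ∃ c : Fin r → X.presheaf.stalk z,
      Algz.stalkMapₗ φ' z x =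
        ∑ i, c i • ((FlatMod.freeMod X r).presheaf.germ W z hzW (stdSec r W i) :
          (FlatMod.freeMod X r).presheaf.stalk z) ∧
      ∃ k : ℕ, ((X.presheaf.germ W z hzW).hom s) ^ k •
        (((X.presheaf.germ W z hzW).hom s) ^ N • Algz.stalkMapₗ ι z x -
          ∑ j, (∑ i, (X.presheaf.germ W z hzW).hom (Q j i) * c i) •
            (G.presheaf.germ W z hzW (γ j) : G.presheaf.stalk z)) = 0 := by
  obtain ⟨O₀, hzO₀, h₀, rfl⟩ := TopCat.Presheaf.exists_germ_eq F'.presheaf x
  obtain ⟨_, ⟨O, hO : IsAffineOpen O, rfl⟩, hzO, hOle⟩ :=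
    (X.isBasis_affineOpens).exists_subset_of_mem_open (show z ∈ O₀ ⊓ W from ⟨hzO₀, hzW⟩)
      (O₀ ⊓ W).isOpen
  have hOO₀ : O ≤ O₀ := fun y hy => (hOle hy).1
  have hOW : O ≤ W := fun y hy => (hOle hy).2
  set h : Γ(F', O) := rF F' hOO₀ h₀ with hh
  have hx : (F'.presheaf.germ O₀ z hzO₀ h₀ : F'.presheaf.stalk z) = F'.presheaf.germ O z hzO h :=
    (TopCat.Presheaf.germ_res_apply F'.presheaf (homOfLE hOO₀) z hzO h₀).symm
  rw [hx]
  set a : Fin r → Γ(X, O) := fun i => ofM ((projM i).app O (ap φ' O h)) with ha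
  -- the opens
  have hl : O ⊓ X.basicOpen s ≤ O := inf_le_left
  have hrD : O ⊓ X.basicOpen s ≤ X.basicOpen s := inf_le_right
  have hDW : X.basicOpen s ≤ W := X.basicOpen_le s
  have hODU : O ⊓ X.basicOpen s ≤ U := hrD.trans hs
  have hODW : O ⊓ X.basicOpen s ≤ W := hl.trans hOW
  -- the section vanishing on `O ∩ D(s)`
  set y : Γ(G, O) := rX hOW s ^ N • ap ι O h -
    ∑ j, (∑ i, rX hOW (Q j i) * a i) • rF G hOW (γ j) with hy
  have hy0 : rF G hl y = 0 := by
    -- facts on `O ∩ D(s)`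
    have f1 : ap ι (O ⊓ X.basicOpen s) (rF F' hl h) =
        ∑ i, rX hl (a i) • rF G hODU (t i) := by
      rw [hK _ hODU]
      apply Finset.sum_congr rfl
      intro i _
      congr 1
      rw [ap_rF φ' hl h]
      exact ofM_projM_rF hl i _
    have f2 : ∀ i, rX hODW s ^ N • rF G hODU (t i) =
        ∑ j, rX hODW (Q j i) • rF G hODW (γ j) := by
      intro i
      have h1 := congrArg (rF G hrD) (hrel i)
      rw [rF_pow_smul, rX_rX, rF_rF, map_sum] at h1
      rw [h1]
      apply Finset.sum_congr rfl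
      intro j _
      rw [rF_smul, rX_rX, rF_rF]
    rw [hy, map_sub, rF_pow_smul, rX_rX, ← ap_rF ι hl h, f1, map_sum, sub_eq_zero,
      Finset.smul_sum]
    have f3 : ∀ i, rX hODW s ^ N • rX hl (a i) • rF G hODU (t i) =
        ∑ j, (rX hODW (Q j i) * rX hl (a i)) • rF G hODW (γ j) := by
      intro i
      rw [smul_comm, f2 i, Finset.smul_sum]
      apply Finset.sum_congr rfl
      intro j _
      rw [smul_smul, mul_comm]
    rw [Finset.sum_congr rfl (fun i _ => f3 i), Finset.sum_comm]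
    apply Finset.sum_congr rfl
    intro j _
    rw [rF_smul, rF_rF, map_sum, Finset.sum_smul]
    apply Finset.sum_congr rfl
    intro i _
    rw [map_mul, rX_rX]
  have e : O ⊓ X.basicOpen s = X.basicOpen (rX hOW s) := (basicOpen_rX hOW s).symm
  obtain ⟨k, hk⟩ := ker_of_isCompact G (rX hOW s) hO.isCompact (homOfLE hl) e y hy0
  -- germs
  have gs : (X.presheaf.germ O z hzO).hom (rX hOW s) = (X.presheaf.germ W z hzW).hom s :=
    TopCat.Presheaf.germ_res_apply X.presheaf (homOfLE hOW) z hzO s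
  have gQ : ∀ j i, (X.presheaf.germ O z hzO).hom (rX hOW (Q j i)) =
      (X.presheaf.germ W z hzW).hom (Q j i) := fun j i =>
    TopCat.Presheaf.germ_res_apply X.presheaf (homOfLE hOW) z hzO (Q j i)
  have gγ : ∀ j, (G.presheaf.germ O z hzO (rF G hOW (γ j)) : G.presheaf.stalk z) =
      G.presheaf.germ W z hzW (γ j) := fun j =>
    TopCat.Presheaf.germ_res_apply G.presheaf (homOfLE hOW) z hzO (γ j)
  have gstd : ∀ i, ((FlatMod.freeMod X r).presheaf.germ O z hzO (stdSec r O i) :
      (FlatMod.freeMod X r).presheaf.stalk z) =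
      (FlatMod.freeMod X r).presheaf.germ W z hzW (stdSec r W i) := fun i => by
    rw [← rF_stdSec r hOW i]
    exact TopCat.Presheaf.germ_res_apply (FlatMod.freeMod X r).presheaf (homOfLE hOW) z hzO _
  have gsm : ∀ (M : X.Modules) (c : Γ(X, O)) (m : Γ(M, O)),
      (M.presheaf.germ O z hzO (c • m) : M.presheaf.stalk z) =
        (X.presheaf.germ O z hzO).hom c • (M.presheaf.germ O z hzO m : M.presheaf.stalk z) :=
    fun M c m => Mero.germ_smul M O z hzO c m
  refine ⟨fun i => (X.presheaf.germ O z hzO).hom (a i), ?_, k, ?_⟩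
  · rw [ChevDH8.stalkMapₗ_germ φ' hzO h]
    conv_lhs => rw [section_eq_sum_stdSec r O (ap φ' O h)]
    rw [map_sum]
    apply Finset.sum_congr rfl
    intro i _
    rw [gsm, gstd]
  · have h1 := congrArg (fun m => (G.presheaf.germ O z hzO m : G.presheaf.stalk z)) hk
    simp only [map_zero] at h1
    rw [← h1, ← gs, ChevDH8.stalkMapₗ_germ ι hzO h]
    have h2 : (G.presheaf.germ O z hzO (rX hOW s ^ k • y) : G.presheaf.stalk z) =
        (X.presheaf.germ O z hzO).hom (rX hOW s) ^ k •
          (G.presheaf.germ O z hzO y : G.presheaf.stalk z) := by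
      rw [gsm, map_pow]
    rw [h2]
    congr 1
    rw [hy, map_sub, gsm, map_pow, map_sum]
    congr 1
    apply Finset.sum_congr rfl
    intro j _
    rw [gsm, gγ, map_sum]
    congr 1
    apply Finset.sum_congr rfl
    intro i _
    rw [map_mul, gQ]

end Geom

end DetDeg
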