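import Mathlib
import Groth.Prelude
import Groth.Agent.Lib.KoszTw1_helper7
import Groth.Agent.Lib.BasisHom_helper7

/-!
# Functoriality of Koszul data of cosections (helper7)

For `f : E ⟶ F` with `f ≫ t = s`, Koszul data `C` of `(E, s)` and `D` of `(F, t)`: the unique chain
map `C.K ⟶ D.K` which is `Λ^p f` on decomposable sections over affine opens.
APPEND-ONLY once landed.
-/

set_option autoImplicit false
set_option linter.style.haveILetI false

universe u

open CategoryTheory CategoryTheory.Limits AlgebraicGeometry Opposite TopologicalSpace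
open QcqsLoc QCohExtn exteriorPower
open Groth.Agent.Lib.KoszTwH7 Groth.Agent.Lib.BasisHomH7

namespace Groth.Agent.Lib.KoszMapH7

theorem extPow_induction {R A : Type*} [CommRing R] [AddCommGroup A] [Module R A] (p : ℕ)
    (P : ↥(⋀[R]^p A) → Prop) (h1 : ∀ e : Fin p → A, P (ιMulti R p e)) (h0 : P 0)
    (hadd : ∀ a b, P a → P b → P (a + b)) (hsmul : ∀ (r : R) a, P a → P (r • a))
    (w : ↥(⋀[R]^p A)) : P w := by
  have hw : w ∈ Submodule.span R (Set.range (ιMulti R p (M := A))) := by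
    rw [ιMulti_span]; trivial
  induction hw using Submodule.span_induction with
  | mem x h => obtain ⟨e, rfl⟩ := h; exact h1 e
  | zero => exact h0
  | add x y _ _ hx hy => exact hadd x y hx hy
  | smul a x _ hx => exact hsmul a x hx

variable {X : Scheme.{u}} {E F : X.Modules} {s : E ⟶ Coh.structureModule X}
  {t : F ⟶ Coh.structureModule X} (f : E ⟶ F) (C : KoszSh.Cx E s) (D : KoszSh.Cx F t)

theorem secForm_comp (hf : f ≫ t = s) (U : X.Opens) (m : Γ(E, U)) :
    KoszSh.secForm t U (ap f U m) = KoszSh.secForm s U m := by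
  rw [← hf]
  rfl

/-- `Λ^p f` on sections over an affine open, read through the identifications. -/
noncomputable def psiL (p : ℕ) (U : X.affineOpens) :
    Γ(C.K.X p, U.1) →ₗ[Γ(X, U.1)] Γ(D.K.X p, U.1) :=
  (D.loc p U).symm.toLinearMap ∘ₗ exteriorPower.map p (appL f U.1) ∘ₗ (C.loc p U).toLinearMap

theorem psiL_apply (p : ℕ) (U : X.affineOpens) (x : Γ(C.K.X p, U.1)) :
    psiL f C D p U x = (D.loc p U).symm (exteriorPower.map p (appL f U.1) ((C.loc p U) x)) :=
  rfl

theorem psiL_dec (p : ℕ) (U : X.affineOpens) (e : Fin p → Γ(E, U.1)) :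
    psiL f C D p U ((C.loc p U).symm (ιMulti _ p e)) =
      (D.loc p U).symm (ιMulti _ p (fun j => ap f U.1 (e j))) := by
  have h1 : (C.loc p U) ((C.loc p U).symm (ιMulti _ p e)) = ιMulti _ p e :=
    LinearEquiv.apply_symm_apply _ _
  have h2 : exteriorPower.map p (appL f U.1) (ιMulti _ p e) =
      ιMulti _ p (fun j => ap f U.1 (e j)) := exteriorPower.map_apply_ιMulti (appL f U.1) e
  exact congrArg (D.loc p U).symm ((congrArg (exteriorPower.map p (appL f U.1)) h1).trans h2)

theorem psiL_res (p : ℕ) (U V : X.affineOpens) (h : V.1 ≤ U.1) (x : Γ(C.K.X p, U.1)) :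
    rF (D.K.X p) h (psiL f C D p U x) = psiL f C D p V (rF (C.K.X p) h x) := by
  obtain ⟨w, rfl⟩ : ∃ w, x = (C.loc p U).symm w :=
    ⟨(C.loc p U) x, (LinearEquiv.symm_apply_apply _ _).symm⟩
  refine extPow_induction p (fun w => rF (D.K.X p) h (psiL f C D p U ((C.loc p U).symm w)) =
    psiL f C D p V (rF (C.K.X p) h ((C.loc p U).symm w))) ?_ ?_ ?_ ?_ w
  · intro e
    have h1 := psiL_dec f C D p U e
    have h2 : rF (D.K.X p) h ((D.loc p U).symm (ιMulti _ p (fun j => ap f U.1 (e j)))) =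
        (D.loc p V).symm (ιMulti _ p (fun j => rF F h (ap f U.1 (e j)))) :=
      D.loc_res p U V h _
    have h3 : rF (C.K.X p) h ((C.loc p U).symm (ιMulti _ p e)) =
        (C.loc p V).symm (ιMulti _ p (fun j => rF E h (e j))) := C.loc_res p U V h e
    have h4 := psiL_dec f C D p V (fun j => rF E h (e j))
    have h5 : (fun j => rF F h (ap f U.1 (e j))) = (fun j => ap f V.1 (rF E h (e j))) :=
      funext fun j => (ap_rF f h (e j)).symm
    calc rF (D.K.X p) h (psiL f C D p U ((C.loc p U).symm (ιMulti _ p e)))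
        = rF (D.K.X p) h ((D.loc p U).symm (ιMulti _ p (fun j => ap f U.1 (e j)))) :=
          congrArg (rF (D.K.X p) h) h1
      _ = (D.loc p V).symm (ιMulti _ p (fun j => rF F h (ap f U.1 (e j)))) := h2
      _ = (D.loc p V).symm (ιMulti _ p (fun j => ap f V.1 (rF E h (e j)))) := by rw [h5]
      _ = psiL f C D p V ((C.loc p V).symm (ιMulti _ p (fun j => rF E h (e j)))) := h4.symm
      _ = psiL f C D p V (rF (C.K.X p) h ((C.loc p U).symm (ιMulti _ p e))) :=
          congrArg (psiL f C D p V) h3.symm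
  · show rF (D.K.X p) h (psiL f C D p U ((C.loc p U).symm 0)) =
      psiL f C D p V (rF (C.K.X p) h ((C.loc p U).symm 0))
    simp only [map_zero]
  · intro a b ha hb
    show rF (D.K.X p) h (psiL f C D p U ((C.loc p U).symm (a + b))) =
      psiL f C D p V (rF (C.K.X p) h ((C.loc p U).symm (a + b)))
    simp only [map_add]
    rw [ha, hb]
  · intro r a ha
    show rF (D.K.X p) h (psiL f C D p U ((C.loc p U).symm (r • a))) =
      psiL f C D p V (rF (C.K.X p) h ((C.loc p U).symm (r • a)))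
    simp only [map_smul, rF_smul]
    rw [ha]

/-- The basis data of `Λ^p f`. -/
noncomputable def data (p : ℕ) :
    BasisHomH7.Data (C.K.X p) (D.K.X p) (X.affineOpens : Set X.Opens) where
  ψ U hU := (psiL f C D p ⟨U, hU⟩).toAddMonoidHom
  res U V hU hV h x := psiL_res f C D p ⟨U, hU⟩ ⟨V, hV⟩ h x
  lin U hU r x := (psiL f C D p ⟨U, hU⟩).map_smul r x

/-- The morphism `Λ^p f : C_p ⟶ D_p`. -/
noncomputable def phi (p : ℕ) : C.K.X p ⟶ D.K.X p :=
  BasisHomH7.hom X.isBasis_affineOpens (data f C D p)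

theorem ap_phi (p : ℕ) (U : X.affineOpens) (x : Γ(C.K.X p, U.1)) :
    ap (phi f C D p) U.1 x = psiL f C D p U x :=
  ap_hom_basis X.isBasis_affineOpens (data f C D p) U.1 U.2 x

theorem dcomm (hf : f ≫ t = s) (p : ℕ) (U : X.affineOpens) (x : Γ(C.K.X (p + 1), U.1)) :
    ap (D.K.d (p + 1) p) U.1 (psiL f C D (p + 1) U x) =
      psiL f C D p U (ap (C.K.d (p + 1) p) U.1 x) := by
  obtain ⟨w, rfl⟩ : ∃ w, x = (C.loc (p + 1) U).symm w :=
    ⟨(C.loc (p + 1) U) x, (LinearEquiv.symm_apply_apply _ _).symm⟩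
  have key : (appL (D.K.d (p + 1) p) U.1) ∘ₗ psiL f C D (p + 1) U ∘ₗ
      (C.loc (p + 1) U).symm.toLinearMap =
      psiL f C D p U ∘ₗ appL (C.K.d (p + 1) p) U.1 ∘ₗ (C.loc (p + 1) U).symm.toLinearMap := by
    refine exteriorPower.linearMap_ext (AlternatingMap.ext fun e => ?_)
    have h1 := psiL_dec f C D (p + 1) U e
    have hD : ap (D.K.d (p + 1) p) U.1 ((D.loc (p + 1) U).symm
        (ιMulti _ (p + 1) (fun j => ap f U.1 (e j)))) =
        (D.loc p U).symm (KoszSh.dGen (KoszSh.secForm t U.1) p (fun j => ap f U.1 (e j))) :=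
      D.rule p U _
    have hC : ap (C.K.d (p + 1) p) U.1 ((C.loc (p + 1) U).symm (ιMulti _ (p + 1) e)) =
        (C.loc p U).symm (KoszSh.dGen (KoszSh.secForm s U.1) p e) := C.rule p U e
    have hrel : (1 : Γ(X, U.1)) • KoszSh.dGen (KoszSh.secForm t U.1) p
        (fun j => ap f U.1 (e j)) =
        exteriorPower.map p (appL f U.1) (KoszSh.dGen (KoszSh.secForm s U.1) p e) :=
      dGen_rel (appL f U.1) (KoszSh.secForm s U.1) (KoszSh.secForm t U.1) 1
        (fun m => (one_mul _).trans (secForm_comp f hf U.1 m)) p e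
    rw [one_smul] at hrel
    show ap (D.K.d (p + 1) p) U.1 (psiL f C D (p + 1) U
        ((C.loc (p + 1) U).symm (ιMulti _ (p + 1) e))) =
      psiL f C D p U (ap (C.K.d (p + 1) p) U.1 ((C.loc (p + 1) U).symm (ιMulti _ (p + 1) e)))
    calc ap (D.K.d (p + 1) p) U.1 (psiL f C D (p + 1) U
          ((C.loc (p + 1) U).symm (ιMulti _ (p + 1) e)))
        = ap (D.K.d (p + 1) p) U.1 ((D.loc (p + 1) U).symm
            (ιMulti _ (p + 1) (fun j => ap f U.1 (e j)))) :=
          congrArg (ap (D.K.d (p + 1) p) U.1) h1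
      _ = (D.loc p U).symm (KoszSh.dGen (KoszSh.secForm t U.1) p
            (fun j => ap f U.1 (e j))) := hD
      _ = (D.loc p U).symm (exteriorPower.map p (appL f U.1)
            (KoszSh.dGen (KoszSh.secForm s U.1) p e)) := congrArg (D.loc p U).symm hrel
      _ = (D.loc p U).symm (exteriorPower.map p (appL f U.1)
            ((C.loc p U) ((C.loc p U).symm (KoszSh.dGen (KoszSh.secForm s U.1) p e)))) :=
          congrArg (fun z => (D.loc p U).symm (exteriorPower.map p (appL f U.1) z))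
            (LinearEquiv.apply_symm_apply (C.loc p U) _).symm
      _ = psiL f C D p U ((C.loc p U).symm (KoszSh.dGen (KoszSh.secForm s U.1) p e)) := rfl
      _ = _ := congrArg (psiL f C D p U) hC.symm
  exact LinearMap.congr_fun key w

theorem phi_comm (hf : f ≫ t = s) (p : ℕ) :
    phi f C D (p + 1) ≫ D.K.d (p + 1) p = C.K.d (p + 1) p ≫ phi f C D p := by
  apply BasisHomH7.hom_ext_basis X.isBasis_affineOpens
  intro U hU x
  show ap (D.K.d (p + 1) p) U (ap (phi f C D (p + 1)) U x) =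
    ap (phi f C D p) U (ap (C.K.d (p + 1) p) U x)
  rw [ap_phi f C D (p + 1) ⟨U, hU⟩, ap_phi f C D p ⟨U, hU⟩]
  exact dcomm f C D hf p ⟨U, hU⟩ x

/-- The chain map `Λ^• f`. -/
noncomputable def chainMap (hf : f ≫ t = s) : C.K ⟶ D.K where
  f p := phi f C D p
  comm' i j hij := by
    have h : j + 1 = i := hij
    subst h
    exact phi_comm f C D hf j

theorem main15900 (hf : f ≫ t = s) :
    ∃! φ : C.K ⟶ D.K, ∀ (p : ℕ) (U : X.affineOpens) (e : Fin p → Γ(E, U.1)),
      (φ.f p).app U.1 ((C.loc p U).symm (exteriorPower.ιMulti _ p e)) =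
        (D.loc p U).symm (exteriorPower.ιMulti _ p (fun j => f.app U.1 (e j))) := by
  refine ⟨chainMap f C D hf, fun p U e => ?_, fun φ' hφ' => ?_⟩
  · exact (ap_phi f C D p U _).trans (psiL_dec f C D p U e)
  · refine HomologicalComplex.hom_ext _ _ (fun p => ?_)
    apply BasisHomH7.hom_ext_basis X.isBasis_affineOpens
    intro U hU x
    obtain ⟨w, rfl⟩ : ∃ w, x = (C.loc p ⟨U, hU⟩).symm w :=
      ⟨(C.loc p ⟨U, hU⟩) x, (LinearEquiv.symm_apply_apply _ _).symm⟩
    refine extPow_induction p (fun w => ap (φ'.f p) U ((C.loc p ⟨U, hU⟩).symm w) =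
      ap ((chainMap f C D hf).f p) U ((C.loc p ⟨U, hU⟩).symm w)) ?_ ?_ ?_ ?_ w
    · intro e
      exact (hφ' p ⟨U, hU⟩ e).trans
        ((ap_phi f C D p ⟨U, hU⟩ _).trans (psiL_dec f C D p ⟨U, hU⟩ e)).symm
    · show ap (φ'.f p) U ((C.loc p ⟨U, hU⟩).symm 0) =
        ap ((chainMap f C D hf).f p) U ((C.loc p ⟨U, hU⟩).symm 0)
      simp only [map_zero]
    · intro a b ha hb
      show ap (φ'.f p) U ((C.loc p ⟨U, hU⟩).symm (a + b)) =
        ap ((chainMap f C D hf).f p) U ((C.loc p ⟨U, hU⟩).symm (a + b))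
      simp only [map_add]
      rw [ha, hb]
    · intro r a ha
      show ap (φ'.f p) U ((C.loc p ⟨U, hU⟩).symm (r • a)) =
        ap ((chainMap f C D hf).f p) U ((C.loc p ⟨U, hU⟩).symm (r • a))
      rw [map_smul, ap_smul, ap_smul, ha]

end Groth.Agent.Lib.KoszMapH7
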