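import Mathlib
import Groth.Prelude
import Groth.Agent.Lib.KoszTw1_helper7
import Groth.Agent.Lib.BasisHom_helper7
import Groth.Agent.Lib.KoszMap_helper7

/-!
# `Λ^k (E ⊗ L) ≅ Λ^k E ⊗ L^{⊗ k}` for an invertible module `L` (helper7)

Existence of the isomorphism for exterior powers given in the affine-local sense
(`ExtPow.IsExtPow`), by gluing the local isomorphisms over the basis of small affine opens on which
`L` has a generator.
APPEND-ONLY once landed.
-/

set_option autoImplicit false
set_option linter.style.haveILetI false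

universe u

open CategoryTheory CategoryTheory.Limits AlgebraicGeometry Opposite TopologicalSpace
open QcqsLoc QCohExtn GenLocH8 exteriorPower
open Groth.Agent.Lib.KoszTwH7 Groth.Agent.Lib.BasisHomH7 Groth.Agent.Lib.KoszMapH7

namespace Groth.Agent.Lib.ExtPowTwH7

section Alg

variable {R A A' : Type*} [CommRing R] [AddCommGroup A] [Module R A] [AddCommGroup A']
  [Module R A']

/-- The exterior power of a linear equivalence. -/
noncomputable def extEquiv (k : ℕ) (τ : A ≃ₗ[R] A') : ↥(⋀[R]^k A) ≃ₗ[R] ↥(⋀[R]^k A') :=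
  LinearEquiv.ofLinear (exteriorPower.map k τ.toLinearMap)
    (exteriorPower.map k τ.symm.toLinearMap)
    (by
      have h : τ.toLinearMap ∘ₗ τ.symm.toLinearMap = LinearMap.id :=
        LinearMap.ext fun x => τ.apply_symm_apply x
      rw [← exteriorPower.map_comp, h, exteriorPower.map_id])
    (by
      have h : τ.symm.toLinearMap ∘ₗ τ.toLinearMap = LinearMap.id :=
        LinearMap.ext fun x => τ.symm_apply_apply x
      rw [← exteriorPower.map_comp, h, exteriorPower.map_id])

theorem extEquiv_ιMulti (k : ℕ) (τ : A ≃ₗ[R] A') (f : Fin k → A) :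
    extEquiv k τ (ιMulti R k f) = ιMulti R k (fun i => τ (f i)) :=
  exteriorPower.map_apply_ιMulti τ.toLinearMap f

theorem extEquiv_symm_ιMulti (k : ℕ) (τ : A ≃ₗ[R] A') (f : Fin k → A) :
    (extEquiv k τ).symm (ιMulti R k (fun i => τ (f i))) = ιMulti R k f := by
  rw [LinearEquiv.symm_apply_eq, extEquiv_ιMulti]

theorem ιMulti_smul_const (k : ℕ) (u : R) (f : Fin k → A) :
    ιMulti R k (fun j => u • f j) = u ^ k • ιMulti R k f := by
  have h := (ιMulti R k (M := A)).map_smul_univ (fun _ => u) f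
  rw [Fin.prod_const] at h
  exact h

end Alg

variable {X : Scheme.{u}}

theorem isInvertible_of_rank_one {L : X.Modules} (h : FlatMod.IsFinLocFreeOfRank 1 L) :
    PicF.IsInvertible L := fun x => by
  obtain ⟨U, hxU, ⟨α⟩⟩ := h x
  exact ⟨U, hxU, ⟨α ≪≫ coproductUniqueIso
    (fun _ : Fin 1 => Coh.structureModule (U : Scheme.{u}))⟩⟩

theorem tprod_smul_const (L : X.Modules) (k : ℕ) (V : X.Opens) (u : Γ(X, V)) (e : Γ(L, V)) :
    KoszTw.tprod L k V (fun _ => u • e) = u ^ k • KoszTw.tprod L k V (fun _ => e) := by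
  induction k with
  | zero =>
    rw [pow_zero, one_smul]
    rfl
  | succ k ih =>
    show tmulR (CohB1.tensorPow L k) L V (u • e) (KoszTw.tprod L k V (fun _ => u • e)) =
      u ^ (k + 1) • tmulR (CohB1.tensorPow L k) L V e (KoszTw.tprod L k V (fun _ => e))
    rw [ih, tmulR_smul_right, map_smul, smul_smul, ← pow_succ']

/-- `m ↦ m ⊗ e` as a linear equivalence, for a local generator `e`. -/
noncomputable def tauEquiv (E : X.Modules) {L : X.Modules} {W : X.Opens} {e : Γ(L, W)}
    (he : IsGen L W e) : Γ(E, W) ≃ₗ[Γ(X, W)] Γ(CohB1.tensorMod E L, W) :=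
  LinearEquiv.ofBijective (tmulR E L W e)
    ⟨fun a b h => tmul_inj E he a b h, fun y => tmul_surj E he y⟩

theorem tauEquiv_apply (E : X.Modules) {L : X.Modules} {W : X.Opens} {e : Γ(L, W)}
    (he : IsGen L W e) (m : Γ(E, W)) : tauEquiv E he m = tmulR E L W e m := rfl

section Main

variable {E L M N : X.Modules} (k : ℕ)
  (locM : ∀ U : X.affineOpens,
    Γ(M, U.1) ≃ₗ[Γ(X, U.1)] ↥(⋀[Γ(X, U.1)]^k Γ(CohB1.tensorMod E L, U.1)))
  (locN : ∀ U : X.affineOpens, Γ(N, U.1) ≃ₗ[Γ(X, U.1)] ↥(⋀[Γ(X, U.1)]^k Γ(E, U.1)))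

/-- The local isomorphism `Γ(M, W) ≃ Γ(N ⊗ L^k, W)` defined by a generator of `L` over `W`. -/
noncomputable def theta (W : X.affineOpens) {e : Γ(L, W.1)} (he : IsGen L W.1 e) :
    Γ(M, W.1) ≃ₗ[Γ(X, W.1)] Γ(CohB1.tensorMod N (CohB1.tensorPow L k), W.1) :=
  (locM W) ≪≫ₗ (extEquiv k (tauEquiv E he)).symm ≪≫ₗ (locN W).symm ≪≫ₗ
    tauEquiv N (isGen_tprod he k)

theorem theta_apply (W : X.affineOpens) {e : Γ(L, W.1)} (he : IsGen L W.1 e) (x : Γ(M, W.1)) :
    theta k locM locN W he x = tmulR N (CohB1.tensorPow L k) W.1 (KoszTw.tprod L k W.1 (fun _ => e))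
      ((locN W).symm ((extEquiv k (tauEquiv E he)).symm ((locM W) x))) := rfl

theorem theta_dec (W : X.affineOpens) {e : Γ(L, W.1)} (he : IsGen L W.1 e)
    (f : Fin k → Γ(E, W.1)) :
    theta k locM locN W he
        ((locM W).symm (ιMulti _ k (fun i => tmulR E L W.1 e (f i)))) =
      tmulR N (CohB1.tensorPow L k) W.1 (KoszTw.tprod L k W.1 (fun _ => e))
        ((locN W).symm (ιMulti _ k f)) := by
  have h1 : (locM W) ((locM W).symm (ιMulti _ k (fun i => tmulR E L W.1 e (f i)))) =
      ιMulti _ k (fun i => tmulR E L W.1 e (f i)) := LinearEquiv.apply_symm_apply _ _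
  have h2 : (extEquiv k (tauEquiv E he)).symm (ιMulti _ k (fun i => tmulR E L W.1 e (f i))) =
      ιMulti _ k f := extEquiv_symm_ιMulti k (tauEquiv E he) f
  rw [theta_apply]
  exact congrArg (fun z => tmulR N (CohB1.tensorPow L k) W.1 (KoszTw.tprod L k W.1 (fun _ => e))
    ((locN W).symm z)) ((congrArg (extEquiv k (tauEquiv E he)).symm h1).trans h2)

theorem theta_res
    (locM_res : ∀ (U V : X.affineOpens) (h : V.1 ≤ U.1)
      (e : Fin k → Γ(CohB1.tensorMod E L, U.1)),
      rF M h ((locM U).symm (ιMulti _ k e)) =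
        (locM V).symm (ιMulti _ k (fun j => rF (CohB1.tensorMod E L) h (e j))))
    (locN_res : ∀ (U V : X.affineOpens) (h : V.1 ≤ U.1) (e : Fin k → Γ(E, U.1)),
      rF N h ((locN U).symm (ιMulti _ k e)) =
        (locN V).symm (ιMulti _ k (fun j => rF E h (e j))))
    (W V : X.affineOpens) (h : V.1 ≤ W.1) {eW : Γ(L, W.1)} (heW : IsGen L W.1 eW)
    {eV : Γ(L, V.1)} (heV : IsGen L V.1 eV) (x : Γ(M, W.1)) :
    rF (CohB1.tensorMod N (CohB1.tensorPow L k)) h (theta k locM locN W heW x) =
      theta k locM locN V heV (rF M h x) := by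
  obtain ⟨u, hu⟩ := (isGen_spec heV).1 (rF L h eW)
  obtain ⟨w, rfl⟩ : ∃ w, x = (locM W).symm (extEquiv k (tauEquiv E heW) w) :=
    ⟨(extEquiv k (tauEquiv E heW)).symm ((locM W) x), by
      rw [LinearEquiv.apply_symm_apply, LinearEquiv.symm_apply_apply]⟩
  refine extPow_induction k (fun w =>
    rF (CohB1.tensorMod N (CohB1.tensorPow L k)) h
      (theta k locM locN W heW ((locM W).symm (extEquiv k (tauEquiv E heW) w))) =
    theta k locM locN V heV (rF M h ((locM W).symm (extEquiv k (tauEquiv E heW) w))))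
    ?_ ?_ ?_ ?_ w
  · intro f
    have hx : (locM W).symm (extEquiv k (tauEquiv E heW) (ιMulti _ k f)) =
        (locM W).symm (ιMulti _ k (fun i => tmulR E L W.1 eW (f i))) :=
      congrArg (locM W).symm (extEquiv_ιMulti k (tauEquiv E heW) f)
    -- left-hand side
    have hL1 := theta_dec k locM locN W heW f
    have hL2 : rF (CohB1.tensorMod N (CohB1.tensorPow L k)) h
        (tmulR N (CohB1.tensorPow L k) W.1 (KoszTw.tprod L k W.1 (fun _ => eW))
          ((locN W).symm (ιMulti _ k f))) =
        tmulR N (CohB1.tensorPow L k) V.1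
          (rF (CohB1.tensorPow L k) h (KoszTw.tprod L k W.1 (fun _ => eW)))
          (rF N h ((locN W).symm (ιMulti _ k f))) :=
      SecTwist.map_tmul N (CohB1.tensorPow L k) (homOfLE h) _ _
    have hL3 : rF (CohB1.tensorPow L k) h (KoszTw.tprod L k W.1 (fun _ => eW)) =
        KoszTw.tprod L k V.1 (fun _ => rF L h eW) := KoszTw.map_tprod L k (homOfLE h) (fun _ => eW)
    have hL4 : KoszTw.tprod L k V.1 (fun _ => rF L h eW) =
        u ^ k • KoszTw.tprod L k V.1 (fun _ => eV) := by
      rw [hu]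
      exact tprod_smul_const L k V.1 u eV
    have hL5 : rF N h ((locN W).symm (ιMulti _ k f)) =
        (locN V).symm (ιMulti _ k (fun j => rF E h (f j))) := locN_res W V h f
    have hL : rF (CohB1.tensorMod N (CohB1.tensorPow L k)) h
        (theta k locM locN W heW ((locM W).symm (extEquiv k (tauEquiv E heW) (ιMulti _ k f)))) =
        u ^ k • tmulR N (CohB1.tensorPow L k) V.1 (KoszTw.tprod L k V.1 (fun _ => eV))
          ((locN V).symm (ιMulti _ k (fun j => rF E h (f j)))) := by
      rw [hx, hL1, hL2, hL3, hL4, hL5, tmulR_smul_right]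
    -- right-hand side
    have hR1 : rF M h ((locM W).symm (ιMulti _ k (fun i => tmulR E L W.1 eW (f i)))) =
        (locM V).symm (ιMulti _ k
          (fun j => rF (CohB1.tensorMod E L) h (tmulR E L W.1 eW (f j)))) :=
      locM_res W V h _
    have hR2 : (fun j => rF (CohB1.tensorMod E L) h (tmulR E L W.1 eW (f j))) =
        (fun j => tmulR E L V.1 eV (u • rF E h (f j))) := funext fun j => by
      calc rF (CohB1.tensorMod E L) h (tmulR E L W.1 eW (f j))
          = tmulR E L V.1 (rF L h eW) (rF E h (f j)) :=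
            SecTwist.map_tmul E L (homOfLE h) (f j) eW
        _ = tmulR E L V.1 (u • eV) (rF E h (f j)) := by rw [hu]
        _ = u • tmulR E L V.1 eV (rF E h (f j)) := tmulR_smul_right _ _ _ _ _ _
        _ = tmulR E L V.1 eV (u • rF E h (f j)) := (map_smul _ _ _).symm
    have hR3 := theta_dec k locM locN V heV (fun j => u • rF E h (f j))
    have hR4 : ιMulti Γ(X, V.1) k (fun j => u • rF E h (f j)) =
        u ^ k • ιMulti Γ(X, V.1) k (fun j => rF E h (f j)) :=
      ιMulti_smul_const k u (fun j => rF E h (f j))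
    have hR : theta k locM locN V heV
        (rF M h ((locM W).symm (extEquiv k (tauEquiv E heW) (ιMulti _ k f)))) =
        u ^ k • tmulR N (CohB1.tensorPow L k) V.1 (KoszTw.tprod L k V.1 (fun _ => eV))
          ((locN V).symm (ιMulti _ k (fun j => rF E h (f j)))) := by
      rw [hx, hR1, hR2, hR3, hR4, map_smul, map_smul]
    exact hL.trans hR.symm
  · show rF (CohB1.tensorMod N (CohB1.tensorPow L k)) h
        (theta k locM locN W heW ((locM W).symm (extEquiv k (tauEquiv E heW) 0))) =
      theta k locM locN V heV (rF M h ((locM W).symm (extEquiv k (tauEquiv E heW) 0)))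
    simp only [map_zero]
  · intro a b ha hb
    show rF (CohB1.tensorMod N (CohB1.tensorPow L k)) h
        (theta k locM locN W heW ((locM W).symm (extEquiv k (tauEquiv E heW) (a + b)))) =
      theta k locM locN V heV (rF M h ((locM W).symm (extEquiv k (tauEquiv E heW) (a + b))))
    simp only [map_add]
    rw [ha, hb]
  · intro r a ha
    show rF (CohB1.tensorMod N (CohB1.tensorPow L k)) h
        (theta k locM locN W heW ((locM W).symm (extEquiv k (tauEquiv E heW) (r • a)))) =
      theta k locM locN V heV (rF M h ((locM W).symm (extEquiv k (tauEquiv E heW) (r • a))))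
    simp only [map_smul, rF_smul]
    rw [ha]

/-- The basis of small affine opens on which `L` has a generator. -/
def Bset (L : X.Modules) : Set X.Opens := {W | IsAffineOpen W ∧ ∃ e : Γ(L, W), IsGen L W e}

theorem isBasis_Bset (hL : PicF.IsInvertible L) : Opens.IsBasis (Bset L) := by
  rw [Opens.isBasis_iff_nbhd]
  intro U p hp
  obtain ⟨W, hWU, e, hpW, he⟩ := exists_small hL U p hp
  exact ⟨W.1, ⟨W.2, e, he⟩, hpW, hWU⟩

/-- A chosen generator. -/
noncomputable def genOf {W : X.Opens} (hW : W ∈ Bset L) : Γ(L, W) := Classical.choose hW.2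

theorem isGen_genOf {W : X.Opens} (hW : W ∈ Bset L) : IsGen L W (genOf hW) :=
  Classical.choose_spec hW.2

/-- The gluing data. -/
noncomputable def data
    (locM_res : ∀ (U V : X.affineOpens) (h : V.1 ≤ U.1)
      (e : Fin k → Γ(CohB1.tensorMod E L, U.1)),
      rF M h ((locM U).symm (ιMulti _ k e)) =
        (locM V).symm (ιMulti _ k (fun j => rF (CohB1.tensorMod E L) h (e j))))
    (locN_res : ∀ (U V : X.affineOpens) (h : V.1 ≤ U.1) (e : Fin k → Γ(E, U.1)),
      rF N h ((locN U).symm (ιMulti _ k e)) =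
        (locN V).symm (ιMulti _ k (fun j => rF E h (e j)))) :
    BasisHomH7.Data M (CohB1.tensorMod N (CohB1.tensorPow L k)) (Bset L) where
  ψ W hW := (theta k locM locN ⟨W, hW.1⟩ (isGen_genOf hW)).toLinearMap.toAddMonoidHom
  res W V hW hV h x :=
    theta_res k locM locN locM_res locN_res ⟨W, hW.1⟩ ⟨V, hV.1⟩ h (isGen_genOf hW)
      (isGen_genOf hV) x
  lin W hW r x := (theta k locM locN ⟨W, hW.1⟩ (isGen_genOf hW)).map_smul r x

theorem main15827 (hL : PicF.IsInvertible L)
    (locM_res : ∀ (U V : X.affineOpens) (h : V.1 ≤ U.1)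
      (e : Fin k → Γ(CohB1.tensorMod E L, U.1)),
      rF M h ((locM U).symm (ιMulti _ k e)) =
        (locM V).symm (ιMulti _ k (fun j => rF (CohB1.tensorMod E L) h (e j))))
    (locN_res : ∀ (U V : X.affineOpens) (h : V.1 ≤ U.1) (e : Fin k → Γ(E, U.1)),
      rF N h ((locN U).symm (ιMulti _ k e)) =
        (locN V).symm (ιMulti _ k (fun j => rF E h (e j)))) :
    Nonempty (M ≅ CohB1.tensorMod N (CohB1.tensorPow L k)) := by
  have hB := isBasis_Bset hL
  have hiso : IsIso (BasisHomH7.hom hB (data k locM locN locM_res locN_res)) := by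
    refine isIso_of_bijective_basis hB _ (fun W hW => ?_)
    have h : ∀ x, ap (BasisHomH7.hom hB (data k locM locN locM_res locN_res)) W x =
        theta k locM locN ⟨W, hW.1⟩ (isGen_genOf hW) x :=
      ap_hom_basis hB (data k locM locN locM_res locN_res) W hW
    refine ⟨fun a b hab => ?_, fun y => ?_⟩
    · exact (theta k locM locN ⟨W, hW.1⟩ (isGen_genOf hW)).injective
        ((h a).symm.trans (hab.trans (h b)))
    · exact ⟨(theta k locM locN ⟨W, hW.1⟩ (isGen_genOf hW)).symm y,
        (h _).trans ((theta k locM locN ⟨W, hW.1⟩ (isGen_genOf hW)).apply_symm_apply y)⟩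
  exact ⟨asIso (BasisHomH7.hom hB (data k locM locN locM_res locN_res))⟩

end Main

end Groth.Agent.Lib.ExtPowTwH7
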