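import Mathlib
import Groth.Prelude
import Groth.Agent.Lib.FLF6_helper8
import Groth.Agent.Lib.Tens16_helper8
import Groth.Agent.Lib.Tens5_helper8

/-!
# The top exterior power of a finite locally free module is invertible (helper9)

* `top_gen`: for a basis `b : Fin n → M`, the `n`-th exterior power of `M` is free of rank one on
  a decomposable element `⋀ b (σ j)`, `σ` a fixed reindexing.
* `isInvertible_of_isExtPow`: `ExtPow.IsExtPow n E ω` with `E` finite locally free of rank `n`
  forces `ω` to be invertible.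
APPEND-ONLY once landed.
-/

set_option autoImplicit false
universe u
open CategoryTheory Limits AlgebraicGeometry TopologicalSpace Opposite

namespace TopDiffInv

open QcqsLoc QCohExtn GenLocH8 FLFH8 TensH8

section Alg

/-- the full subset of `Fin n` -/
def s₀ (n : ℕ) : Set.powersetCard (Fin n) n := ⟨Finset.univ, by simp⟩

instance (n : ℕ) : Unique (Set.powersetCard (Fin n) n) where
  default := s₀ n
  uniq s := by
    apply Subtype.ext
    show (s : Finset (Fin n)) = Finset.univ
    apply Finset.eq_univ_of_card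
    rw [Fintype.card_fin]
    exact s.prop

/-- the reindexing of `Fin n` used by Mathlib's basis of the exterior power -/
noncomputable def σ (n : ℕ) : Fin n → Fin n := ⇑(Set.powersetCard.ofFinEmbEquiv.symm (s₀ n))

variable {R M : Type*} [CommRing R] [AddCommGroup M] [Module R M]

theorem top_gen (n : ℕ) (b : Module.Basis (Fin n) R M) :
    (∀ z : ⋀[R]^n M, ∃ c : R, z = c • exteriorPower.ιMulti R n (b ∘ σ n)) ∧
    (∀ c : R, c • exteriorPower.ιMulti R n (b ∘ σ n) = 0 → c = 0) := by
  have hB : b.exteriorPower n (s₀ n) = exteriorPower.ιMulti R n (b ∘ σ n) :=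
    exteriorPower.basis_apply R n b (s₀ n)
  constructor
  · intro z
    refine ⟨(b.exteriorPower n).repr z (s₀ n), ?_⟩
    rw [← hB]
    have h1 := (b.exteriorPower n).sum_repr z
    rw [Fintype.sum_unique] at h1
    exact h1.symm
  · intro c hc
    rw [← hB] at hc
    have h1 := congrArg (fun z => (b.exteriorPower n).repr z (s₀ n)) hc
    simpa using h1

end Alg

section Sheaf

variable {X : Scheme.{u}}

theorem isInvertible_of_isExtPow {n : ℕ} {E ω : X.Modules}
    (hE : FlatMod.IsFinLocFreeOfRank n E) (h : ExtPow.IsExtPow n E ω) :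
    PicF.IsInvertible ω := by
  obtain ⟨φ, hφ⟩ := h
  apply isInvertible_of_gens
  intro x
  obtain ⟨U, hxU, ⟨α⟩⟩ := hE x
  obtain ⟨W, hW, hxW, hWU, t, ht⟩ := exists_affine_bases E hxU α
  refine ⟨W, hW, hxW, (φ ⟨W, hW⟩).symm (exteriorPower.ιMulti _ n (t ∘ σ n)), ?_⟩
  refine isGen_of_basis _ {U' | IsAffineOpen U'} ?_ ?_
  · intro O y _ hy
    obtain ⟨_, ⟨U', hU' : IsAffineOpen U', rfl⟩, hyU', hle⟩ :=
      (X.isBasis_affineOpens).exists_subset_of_mem_open hy O.isOpen
    exact ⟨U', hU', hyU', hle⟩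
  · intro U' hU' hle
    have hres : rF ω hle ((φ ⟨W, hW⟩).symm (exteriorPower.ιMulti _ n (t ∘ σ n))) =
        (φ ⟨U', hU'⟩).symm (exteriorPower.ιMulti _ n (fun j => rF E hle (t (σ n j)))) :=
      hφ ⟨W, hW⟩ ⟨U', hU'⟩ hle (t ∘ σ n)
    rw [hres]
    obtain ⟨hspan, hli⟩ := ht U' hle
    let b : Module.Basis (Fin n) Γ(X, U') Γ(E, U') := Module.Basis.mk hli (by rw [hspan])
    have hb : ∀ j, b j = rF E hle (t j) := fun j => by
      show Module.Basis.mk hli _ j = _
      rw [Module.Basis.mk_apply]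
    have hbσ : (b ∘ σ n) = fun j => rF E hle (t (σ n j)) := by
      funext j
      exact hb (σ n j)
    obtain ⟨hg1, hg2⟩ := top_gen n b
    rw [hbσ] at hg1 hg2
    constructor
    · intro l
      obtain ⟨c, hc⟩ := hg1 (φ ⟨U', hU'⟩ l)
      refine ⟨c, ?_⟩
      apply (φ ⟨U', hU'⟩).injective
      rw [hc]
      exact (((φ ⟨U', hU'⟩).map_smul c _).trans
        (congrArg (c • ·) ((φ ⟨U', hU'⟩).apply_symm_apply _))).symm
    · intro c hc
      apply hg2 c
      have h1 := congrArg (φ ⟨U', hU'⟩) hc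
      have h0 : (φ ⟨U', hU'⟩) 0 = 0 := (φ ⟨U', hU'⟩).map_zero
      exact ((congrArg (c • ·) ((φ ⟨U', hU'⟩).apply_symm_apply _)).symm.trans
        ((φ ⟨U', hU'⟩).map_smul c _).symm).trans (h1.trans h0)

end Sheaf

end TopDiffInv
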