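import Mathlib
import Groth.Prelude
import Groth.Agent.Lib.DetDeg4_helper9
import Groth.Agent.Lib.TopDiffInv1_helper9
import Groth.Agent.Lib.ExtPowTw_helper7

/-!
# The top exterior power: determinant of the transition matrices (helper9)

* `ιMulti_eq_det_smul`, `ιMulti_transition`: in the top exterior power of a free module of rank
  `n`, the wedge of `n` vectors is the determinant of their coordinates times the wedge of the
  basis;
* `wedge`: the section `(φ V)⁻¹ (e_1 ∧ … ∧ e_n)` of an `n`-th exterior power `L` of `E`;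
  `wedge_res`, `wedge_isGen`, `wedge_relation`.
APPEND-ONLY once landed.
-/

set_option autoImplicit false
universe u
open CategoryTheory CategoryTheory.Limits AlgebraicGeometry Opposite TopologicalSpace

namespace DetDeg

open QcqsLoc QCohExtn FLFH8 GenLocH8 TensH8 TopDiffInv

section ExtAlg

variable {R M : Type*} [CommRing R] [AddCommGroup M] [Module R M]

theorem σ_bijective (n : ℕ) : Function.Bijective (σ n) :=
  Finite.injective_iff_bijective.mp
    (Set.powersetCard.ofFinEmbEquiv.symm (s₀ n)).injective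

theorem ιMulti_eq_det_smul (n : ℕ) (b : Module.Basis (Fin n) R M) (v : Fin n → M) :
    exteriorPower.ιMulti R n v =
      (Matrix.of fun i j => b.coord (σ n j) (v i)).det • exteriorPower.ιMulti R n (b ∘ σ n) := by
  have hB : b.exteriorPower n (s₀ n) = exteriorPower.ιMulti R n (b ∘ σ n) :=
    exteriorPower.basis_apply R n b (s₀ n)
  have h1 := (b.exteriorPower n).sum_repr (exteriorPower.ιMulti R n v)
  rw [Fintype.sum_unique] at h1
  have hd : (default : Set.powersetCard (Fin n) n) = s₀ n := rfl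
  rw [hd, hB, exteriorPower.basis_repr_apply, exteriorPower.ιMultiDual_apply_ιMulti] at h1
  exact h1.symm

theorem ιMulti_transition (n : ℕ) (b : Module.Basis (Fin n) R M)
    (Q : Matrix (Fin n) (Fin n) R) (w : Fin n → M) (hw : ∀ k, w k = ∑ l, Q l k • b l) :
    exteriorPower.ιMulti R n (w ∘ σ n) = Q.det • exteriorPower.ιMulti R n (b ∘ σ n) := by
  rw [ιMulti_eq_det_smul n b (w ∘ σ n)]
  congr 1
  have hc : ∀ l k, b.coord l (w k) = Q l k := by
    intro l k
    rw [hw k, map_sum]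
    simp [Module.Basis.coord_apply, Finsupp.single_apply]
  have hm : (Matrix.of fun i j => b.coord (σ n j) ((w ∘ σ n) i)) =
      (Q.transpose).submatrix (Equiv.ofBijective (σ n) (σ_bijective n))
        (Equiv.ofBijective (σ n) (σ_bijective n)) := by
    ext i j
    simp [hc]
  rw [hm, Matrix.det_submatrix_equiv_self, Matrix.det_transpose]

end ExtAlg

section ExtSheaf

variable {X : Scheme.{u}} {n : ℕ} {E L : X.Modules}
  (φ : ∀ U : X.affineOpens, (L.val.obj (op U.1)) ≃ₗ[Γ(X, U.1)]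
    ↥(⋀[Γ(X, U.1)]^n (E.val.obj (op U.1))))

/-- the section `(φ V)⁻¹ (e_{σ 1} ∧ … ∧ e_{σ n})` of `L` -/
noncomputable def wedge {V : X.Opens} (hV : IsAffineOpen V) (e : Fin n → Γ(E, V)) : Γ(L, V) :=
  (φ ⟨V, hV⟩).symm (exteriorPower.ιMulti _ n (e ∘ σ n))

variable (hφ : ∀ (U V : X.affineOpens) (h : V.1 ≤ U.1) (e : Fin n → E.val.obj (op U.1)),
      L.val.map (homOfLE h).op ((φ U).symm (exteriorPower.ιMulti _ n e)) =
        (φ V).symm (exteriorPower.ιMulti _ n (fun j => E.val.map (homOfLE h).op (e j))))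

include hφ in
theorem wedge_res {V V' : X.Opens} (hV : IsAffineOpen V) (hV' : IsAffineOpen V') (h : V' ≤ V)
    (e : Fin n → Γ(E, V)) :
    rF L h (wedge φ hV e) = wedge φ hV' (fun j => rF E h (e j)) :=
  hφ ⟨V, hV⟩ ⟨V', hV'⟩ h (e ∘ σ n)

/-- the wedge of a basis generates -/
theorem wedge_gen {V : X.Opens} (hV : IsAffineOpen V) (b : Fin n → Γ(E, V))
    (hspan : Submodule.span Γ(X, V) (Set.range b) = ⊤) (hli : LinearIndependent Γ(X, V) b) :
    (∀ l : Γ(L, V), ∃ c : Γ(X, V), l = c • wedge φ hV b) ∧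
      ∀ c : Γ(X, V), c • wedge φ hV b = 0 → c = 0 := by
  let B : Module.Basis (Fin n) Γ(X, V) Γ(E, V) := Module.Basis.mk hli (by rw [hspan])
  have hB : ∀ j, B j = b j := fun j => by
    show Module.Basis.mk hli _ j = _
    rw [Module.Basis.mk_apply]
  have hBσ : (B ∘ σ n) = b ∘ σ n := by
    funext j
    exact hB (σ n j)
  obtain ⟨hg1, hg2⟩ := top_gen n B
  rw [hBσ] at hg1 hg2
  constructor
  · intro l
    obtain ⟨c, hc⟩ := hg1 (φ ⟨V, hV⟩ l)
    refine ⟨c, ?_⟩
    apply (φ ⟨V, hV⟩).injective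
    rw [hc]
    exact (((φ ⟨V, hV⟩).map_smul c _).trans
      (congrArg (c • ·) ((φ ⟨V, hV⟩).apply_symm_apply _))).symm
  · intro c hc
    apply hg2 c
    have h1 := congrArg (φ ⟨V, hV⟩) hc
    have h0 : (φ ⟨V, hV⟩) 0 = 0 := (φ ⟨V, hV⟩).map_zero
    exact ((congrArg (c • ·) ((φ ⟨V, hV⟩).apply_symm_apply _)).symm.trans
      ((φ ⟨V, hV⟩).map_smul c _).symm).trans (h1.trans h0)

include hφ in
/-- the wedge of sections restricting to bases on all smaller opens is a generator -/
theorem wedge_isGen {V : X.Opens} (hV : IsAffineOpen V) (t : Fin n → Γ(E, V))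
    (ht : ∀ (O : X.Opens) (hO : O ≤ V), BasisOn E t O hO) : IsGen L V (wedge φ hV t) := by
  refine isGen_of_basis _ {U' | IsAffineOpen U'} ?_ ?_
  · intro O y _ hy
    obtain ⟨_, ⟨U', hU' : IsAffineOpen U', rfl⟩, hyU', hle⟩ :=
      (X.isBasis_affineOpens).exists_subset_of_mem_open hy O.isOpen
    exact ⟨U', hU', hyU', hle⟩
  · intro U' hU' hle
    rw [wedge_res φ hφ hV hU' hle t]
    obtain ⟨hspan, hli⟩ := ht U' hle
    exact wedge_gen φ hU' _ hspan hli

/-- a generator gives bases of rank one over all smaller opens -/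
theorem basisOn_of_isGen {V : X.Opens} {m : Γ(L, V)} (hm : IsGen L V m) (O : X.Opens)
    (hO : O ≤ V) : BasisOn L (fun _ : Fin 1 => m) O hO := by
  obtain ⟨h1, h2⟩ := hm O hO
  constructor
  · rw [eq_top_iff]
    intro l _
    obtain ⟨c, hc⟩ := h1 l
    rw [hc]
    exact Submodule.smul_mem _ _ (Submodule.subset_span ⟨0, rfl⟩)
  · rw [Fintype.linearIndependent_iff]
    intro c hc i
    rw [Fin.sum_univ_one] at hc
    have := h2 (c 0) hc
    rw [Subsingleton.elim i 0]
    exact this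

/-- scaling all vectors -/
theorem wedge_smul {V : X.Opens} (hV : IsAffineOpen V) (c : Γ(X, V)) (e : Fin n → Γ(E, V)) :
    wedge φ hV (fun j => c • e j) = c ^ n • wedge φ hV e := by
  unfold wedge
  have h1 : exteriorPower.ιMulti Γ(X, V) n ((fun j => c • e j) ∘ σ n) =
      c ^ n • exteriorPower.ιMulti Γ(X, V) n (e ∘ σ n) :=
    Groth.Agent.Lib.ExtPowTwH7.ιMulti_smul_const n c (e ∘ σ n)
  exact (congrArg (φ ⟨V, hV⟩).symm h1).trans ((φ ⟨V, hV⟩).symm.map_smul _ _)

/-- the determinant of the transition -/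
theorem wedge_transition {V : X.Opens} (hV : IsAffineOpen V) (b : Fin n → Γ(E, V))
    (hspan : Submodule.span Γ(X, V) (Set.range b) = ⊤) (hli : LinearIndependent Γ(X, V) b)
    (Q : Matrix (Fin n) (Fin n) Γ(X, V)) (w : Fin n → Γ(E, V))
    (hw : ∀ k, w k = ∑ l, Q l k • b l) :
    wedge φ hV w = Q.det • wedge φ hV b := by
  let B : Module.Basis (Fin n) Γ(X, V) Γ(E, V) := Module.Basis.mk hli (by rw [hspan])
  have hB : ∀ j, B j = b j := fun j => by
    show Module.Basis.mk hli _ j = _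
    rw [Module.Basis.mk_apply]
  have hBσ : (B ∘ σ n) = b ∘ σ n := by
    funext j
    exact hB (σ n j)
  have h1 := ιMulti_transition n B Q w (fun k => by
    rw [hw k]
    exact Finset.sum_congr rfl (fun l _ => by rw [hB]))
  rw [hBσ] at h1
  unfold wedge
  exact (congrArg (φ ⟨V, hV⟩).symm h1).trans ((φ ⟨V, hV⟩).symm.map_smul _ _)

include hφ in
/-- the relation between the wedges over `D(s)` -/
theorem wedge_relation {U W : X.Opens} (hU : IsAffineOpen U) (hW : IsAffineOpen W) (s : Γ(X, W))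
    (hs : X.basicOpen s ≤ U) (t : Fin n → Γ(E, U)) (γ : Fin n → Γ(E, W))
    (hγ : BasisOn E γ (X.basicOpen s) (X.basicOpen_le s))
    (Q : Matrix (Fin n) (Fin n) Γ(X, W)) (N : ℕ)
    (hrel : ∀ i, rX (X.basicOpen_le s) s ^ N • rF E hs (t i) =
      ∑ j, rX (X.basicOpen_le s) (Q j i) • rF E (X.basicOpen_le s) (γ j)) :
    rX (X.basicOpen_le s) s ^ (n * N) • rF L hs (wedge φ hU t) =
      rX (X.basicOpen_le s) Q.det • rF L (X.basicOpen_le s) (wedge φ hW γ) := by
  have hD : IsAffineOpen (X.basicOpen s) := hW.basicOpen s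
  rw [wedge_res φ hφ hU hD hs t, wedge_res φ hφ hW hD (X.basicOpen_le s) γ]
  obtain ⟨hspan, hli⟩ := hγ
  have h1 := wedge_transition φ hD _ hspan hli (Q.map (rX (X.basicOpen_le s)))
    (fun k => rX (X.basicOpen_le s) s ^ N • rF E hs (t k)) (fun k => by
      rw [hrel k]
      rfl)
  rw [wedge_smul, ← pow_mul, mul_comm N n] at h1
  rw [h1]
  congr 1
  exact (RingHom.map_det (rX (X.basicOpen_le s)) Q).symm

end ExtSheaf

end DetDeg
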