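import Mathlib
import Groth.Prelude
import Groth.Agent.Lib.DetDeg2_helper9
import Groth.Agent.Lib.DetDeg5_helper9
import Groth.Agent.Lib.DegPull5_helper9
import Groth.Agent.Lib.CurveDegAdd1_helper9
import Groth.Agent.Lib.FinCov3_helper8
import Groth.Agent.Lib.Tens12_helper8

/-!
# `deg E = deg det E` on a proper scheme of dimension at most one (S7638, helper9)
APPEND-ONLY once landed.
-/

set_option autoImplicit false
universe u
open CategoryTheory CategoryTheory.Limits AlgebraicGeometry Opposite TopologicalSpace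

namespace DetDeg

open QcqsLoc QCohExtn FLFH8 GenLocH8 TensH8 TopDiffInv SDivGenH8 SDivFreeH8 Groth.Agent.Idx9

section Local

variable {X : Scheme.{u}} [IsLocallyNoetherian X] {n : ℕ} {E L : X.Modules}
  (φ : ∀ U : X.affineOpens, (L.val.obj (op U.1)) ≃ₗ[Γ(X, U.1)]
    ↥(⋀[Γ(X, U.1)]^n (E.val.obj (op U.1))))
  (hφ : ∀ (U V : X.affineOpens) (h : V.1 ≤ U.1) (e : Fin n → E.val.obj (op U.1)),
      L.val.map (homOfLE h).op ((φ U).symm (exteriorPower.ιMulti _ n e)) =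
        (φ V).symm (exteriorPower.ιMulti _ n (fun j => E.val.map (homOfLE h).op (e j))))

include hφ in
/-- the local comparison at a point outside the dense open -/
theorem local_claim (hdim : topologicalKrullDim X ≤ 1) (hE : FlatMod.IsFinLocFreeOfRank n E)
    [E.IsQuasicoherent] [L.IsQuasicoherent]
    {U : X.Opens} (hU : IsAffineOpen U) (tE : Fin n → Γ(E, U))
    {F₁ F₂ : X.Modules} (ι₁ : F₁ ⟶ E) (φ₁ : F₁ ⟶ FlatMod.freeMod X n)
    (ι₂ : F₂ ⟶ L) (φ₂ : F₂ ⟶ FlatMod.freeMod X 1)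
    (hK₁ : ∀ (O : X.Opens) (hO : O ≤ U) (h : Γ(F₁, O)),
      ap ι₁ O h = ∑ i, ofM ((projM i).app O (ap φ₁ O h)) • rF E hO (tE i))
    (hK₂ : ∀ (O : X.Opens) (hO : O ≤ U) (h : Γ(F₂, O)),
      ap ι₂ O h = ∑ i : Fin 1, ofM ((projM i).app O (ap φ₂ O h)) • rF L hO (wedge φ hU tE))
    (z : X) (hcl : IsClosed ((U : Set X)ᶜ \ {z}))
    (h1 : FinL (Algz.stalkMapₗ ι₁ z)) (h2 : FinL (Algz.stalkMapₗ φ₁ z))
    (h3 : FinL (Algz.stalkMapₗ ι₂ z)) (h4 : FinL (Algz.stalkMapₗ φ₂ z)) :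
    idx (Algz.stalkMapₗ ι₁ z) - idx (Algz.stalkMapₗ φ₁ z) =
      idx (Algz.stalkMapₗ ι₂ z) - idx (Algz.stalkMapₗ φ₂ z) := by
  haveI : ∀ r : ℕ, (FlatMod.freeMod X r).IsQuasicoherent := fun r => (DegPull.isCoh_freeMod r).1
  obtain ⟨U₀, hzU₀, ⟨α⟩⟩ := hE z
  obtain ⟨W₁, -, hzW₁, -, γ₁, hγ₁⟩ := exists_affine_bases E hzU₀ α
  let W₀ : X.Opens := W₁ ⊓ ⟨((U : Set X)ᶜ \ {z})ᶜ, hcl.isOpen_compl⟩
  have hzW₀ : z ∈ W₀ := ⟨hzW₁, fun h => h.2 rfl⟩
  obtain ⟨W, hW, hzW, hWW₀, s, hzs, hτ⟩ := exists_param_section hdim z W₀ hzW₀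
  have hWW₁ : W ≤ W₁ := hWW₀.trans inf_le_left
  let γ : Fin n → Γ(E, W) := fun j => rF E hWW₁ (γ₁ j)
  have hγ : ∀ (O : X.Opens) (hO : O ≤ W), BasisOn E γ O hO :=
    fun O hO => BasisOn.of_rF E γ₁ hWW₁ hO (hγ₁ O (hO.trans hWW₁))
  have hs : X.basicOpen s ≤ U := by
    intro x hx
    have hxW₀ : x ∈ W₀ := hWW₀ (X.basicOpen_le s hx)
    by_contra hxU
    have hxz : x ≠ z := fun h => hzs (h ▸ hx)
    exact hxW₀.2 ⟨hxU, hxz⟩
  obtain ⟨N, Q, hrelE⟩ := exists_transition E hW s hs tE γ (hγ _ _)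
  have hrelL' := wedge_relation φ hφ hU hW s hs tE γ (hγ _ _) Q N hrelE
  let γL : Fin 1 → Γ(L, W) := fun _ => wedge φ hW γ
  let tL : Fin 1 → Γ(L, U) := fun _ => wedge φ hU tE
  let Q' : Matrix (Fin 1) (Fin 1) Γ(X, W) := Q.det • (1 : Matrix (Fin 1) (Fin 1) Γ(X, W))
  have hrelL : ∀ i : Fin 1, rX (X.basicOpen_le s) s ^ (n * N) • rF L hs (tL i) =
      ∑ j, rX (X.basicOpen_le s) (Q' j i) • rF L (X.basicOpen_le s) (γL j) := by
    intro i
    rw [Fin.sum_univ_one]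
    have hQ0 : Q' 0 i = Q.det := by
      rw [Subsingleton.elim i 0]
      simp [Q']
    rw [hQ0]
    exact hrelL'
  -- the relations at the stalk
  have hp := stalk_relation ι₁ φ₁ U tE hK₁ hzW γ s hs Q N hrelE
  have hq := stalk_relation ι₂ φ₂ U tL hK₂ hzW γL s hs Q' (n * N) hrelL
  -- bases of the stalks
  obtain ⟨b₁, hb₁⟩ := stalkBasis E hW hzW γ (hγ W le_rfl)
  obtain ⟨b₂, hb₂⟩ := stalkBasis (FlatMod.freeMod X n) hW hzW (stdSec n W)
    (basisOn_stdSec n W W le_rfl)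
  obtain ⟨c₁, hc₁⟩ := stalkBasis L hW hzW γL
    (basisOn_of_isGen (wedge_isGen φ hφ hW γ hγ) W le_rfl)
  obtain ⟨c₂, hc₂⟩ := stalkBasis (FlatMod.freeMod X 1) hW hzW (stdSec 1 W)
    (basisOn_stdSec 1 W W le_rfl)
  have hQ'z : Q'.map (X.presheaf.germ W z hzW).hom =
      (Q.map (X.presheaf.germ W z hzW).hom).det •
        (1 : Matrix (Fin 1) (Fin 1) (X.presheaf.stalk z)) := by
    haveI : IsNoetherianRing Γ(X, W) := IsLocallyNoetherian.component_noetherian ⟨W, hW⟩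
    rw [map_scalar]
    congr 1
    exact RingHom.map_det (X.presheaf.germ W z hzW).hom Q
  refine local_compare_bases ((X.presheaf.germ W z hzW).hom s) hτ n N
    (Q.map (X.presheaf.germ W z hzW).hom) (Q'.map (X.presheaf.germ W z hzW).hom) hQ'z
    b₁ b₂ c₁ c₂ _ _ _ _ h1 h2 h3 h4 ?_ ?_
  · intro x
    obtain ⟨c, hc, k, hk⟩ := hp x
    refine ⟨c, ?_, k, ?_⟩
    · rw [hc]
      exact Finset.sum_congr rfl (fun i _ => by rw [hb₂])
    · rw [← hk]
      congr 2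
      exact Finset.sum_congr rfl (fun j _ => by rw [hb₁]; rfl)
  · intro x
    obtain ⟨c, hc, k, hk⟩ := hq x
    refine ⟨c, ?_, k, ?_⟩
    · rw [hc]
      exact Finset.sum_congr rfl (fun i _ => by rw [hc₂])
    · rw [← hk]
      congr 2
      exact Finset.sum_congr rfl (fun j _ => by rw [hc₁]; rfl)

end Local

section Main

variable (k : Type u) [Field k] (X : Scheme.{u}) [X.Over (Spec (CommRingCat.of k))]
  [IsProper (X ↘ Spec (CommRingCat.of k))]

/-- **S7638**: the degree of a locally free module is the degree of its determinant -/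
theorem main7638 (hdim : topologicalKrullDim X ≤ 1) (n : ℕ) (E : X.Modules)
    (hE : FlatMod.IsFinLocFreeOfRank n E) (L : X.Modules) (hL : ExtPow.IsExtPow n E L) :
    Curv2.deg k X E n = Curv2.deg k X L 1 := by
  haveI : IsLocallyNoetherian X :=
    LocallyOfFiniteType.isLocallyNoetherian (X ↘ Spec (CommRingCat.of k))
  haveI : CompactSpace X :=
    QuasiCompact.compactSpace_of_compactSpace (X ↘ Spec (CommRingCat.of k))
  haveI : IsNoetherian X := {}
  rcases isEmpty_or_nonempty X with hemp | hne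
  · unfold Curv2.deg
    rw [CurveDegAdd.euler_eq_zero_of_isEmpty k X E, CurveDegAdd.euler_eq_zero_of_isEmpty k X L,
      CurveDegAdd.euler_eq_zero_of_isEmpty k X (Coh.structureModule X)]
    simp
  have hEf := IsFinLocFreeOfRank.isFinLocFree E hE
  have hEc : Coh.IsCoh E := KerFreeH8.isCoh_of_finLocFree hEf
  haveI := hEc.1
  have hLinv : PicF.IsInvertible L := isInvertible_of_isExtPow hE hL
  have hLc : Coh.IsCoh L := KerFreeH8.isCoh_of_finLocFree
    (IsFinLocFreeOfRank.isFinLocFree L (finLocFreeOfRank_one_of_isInvertible hLinv))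
  haveI := hLc.1
  obtain ⟨φ, hφ⟩ := hL
  -- a dense affine open with a basis
  obtain ⟨U, hU, hUd, g, hgs, hgl⟩ := DegPull.exists_dense_affine_basis (F := E) hE
  obtain ⟨α⟩ := iso_of_basis E hU g hgs hgl
  obtain ⟨t₀, ht₀⟩ := exists_sections_of_iso E α
  have hU' : U.ι ''ᵁ ⊤ = U := by
    rw [Scheme.Hom.image_top_eq_opensRange, Scheme.Opens.opensRange_ι]
  let tE : Fin n → Γ(E, U) := fun j => rF E hU'.ge (t₀ j)
  have htE : ∀ (O : X.Opens) (hO : O ≤ U), BasisOn E tE O hO :=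
    fun O hO => BasisOn.of_rF E t₀ hU'.ge hO (ht₀ O (hO.trans hU'.ge))
  let tL : Fin 1 → Γ(L, U) := fun _ => wedge φ hU tE
  have htL : ∀ (O : X.Opens) (hO : O ≤ U), BasisOn L tL O hO :=
    fun O hO => basisOn_of_isGen (wedge_isGen φ hφ hU tE htE) O hO
  -- roofs
  obtain ⟨F₁, ι₁, φ₁, hF₁, hι₁, hφ₁, hK₁⟩ := exists_roof E hEc U tE htE
  obtain ⟨F₂, ι₂, φ₂, hF₂, hι₂, hφ₂, hK₂⟩ := exists_roof L hLc U tL htL
  -- the finite set of points outside `U`
  have hclosed : ∀ x : X, x ∉ U → IsClosed ({x} : Set X) := fun x hx =>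
    BirCurve.isClosed_singleton_of_notMem_dense hdim U hUd x hx
  have hBfin : ((U : Set X)ᶜ).Finite := by
    have hfm := CycLenH8.finite_maximal_points (X := X) (Z₀ := (U : Set X)ᶜ)
      U.isOpen.isClosed_compl
    refine hfm.subset (fun x hx => ⟨hx, fun t ht htx => ?_⟩)
    have h1 : x ∈ closure ({t} : Set X) := specializes_iff_mem_closure.mp htx
    rw [(hclosed t ht).closure_eq] at h1
    exact (Set.mem_singleton_iff.mp h1).symm
  let B : Finset X := hBfin.toFinset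
  have hBU : (B : Set X) = (U : Set X)ᶜ := hBfin.coe_toFinset
  have hB : ∀ z ∈ B, IsClosed ({z} : Set X) := fun z hz =>
    hclosed z (by
      have : z ∈ (B : Set X) := hz
      rw [hBU] at this
      exact this)
  -- supports of the kernels and cokernels
  haveI := hι₁
  haveI := hφ₁
  haveI := hι₂
  haveI := hφ₂
  have hOn := DegPull.isCoh_freeMod (X := X) n
  have hO1 := DegPull.isCoh_freeMod (X := X) 1
  obtain ⟨f1, e1⟩ := euler_sub_eq_sum k X B hB hF₁ hEc ι₁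
    (hBU ▸ DeligneH8.support_kernel_subset_compl' hF₁ hEc ι₁ U)
    (hBU ▸ DeligneH8.support_cokernel_subset_compl' hF₁ hEc ι₁ U)
  obtain ⟨f2, e2⟩ := euler_sub_eq_sum k X B hB hF₁ hOn φ₁
    (hBU ▸ DeligneH8.support_kernel_subset_compl' hF₁ hOn φ₁ U)
    (hBU ▸ DeligneH8.support_cokernel_subset_compl' hF₁ hOn φ₁ U)
  obtain ⟨f3, e3⟩ := euler_sub_eq_sum k X B hB hF₂ hLc ι₂
    (hBU ▸ DeligneH8.support_kernel_subset_compl' hF₂ hLc ι₂ U)
    (hBU ▸ DeligneH8.support_cokernel_subset_compl' hF₂ hLc ι₂ U)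
  obtain ⟨f4, e4⟩ := euler_sub_eq_sum k X B hB hF₂ hO1 φ₂
    (hBU ▸ DeligneH8.support_kernel_subset_compl' hF₂ hO1 φ₂ U)
    (hBU ▸ DeligneH8.support_cokernel_subset_compl' hF₂ hO1 φ₂ U)
  have hfree_n : Curv2.euler k X (FlatMod.freeMod X n) =
      n * Curv2.euler k X (Coh.structureModule X) :=
    DegPull.euler_freeMod k X (𝟭 _) (fun S hS => hS.map_of_exact (𝟭 _)) (fun A hA => hA) n
  have hfree_1 : Curv2.euler k X (FlatMod.freeMod X 1) =
      ((1 : ℕ) : ℤ) * Curv2.euler k X (Coh.structureModule X) :=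
    DegPull.euler_freeMod k X (𝟭 _) (fun S hS => hS.map_of_exact (𝟭 _)) (fun A hA => hA) 1
  -- the local comparison
  have hloc : ∀ z ∈ B, idx (Algz.stalkMapₗ ι₁ z) - idx (Algz.stalkMapₗ φ₁ z) =
      idx (Algz.stalkMapₗ ι₂ z) - idx (Algz.stalkMapₗ φ₂ z) := fun z hz =>
    local_claim φ hφ hdim hE hU tE ι₁ φ₁ ι₂ φ₂ hK₁ hK₂ z
      (BirCurve.isClosed_of_subset_compl_dense hdim U hUd _ Set.diff_subset)
      (f1 z hz) (f2 z hz) (f3 z hz) (f4 z hz)
  have key : (Curv2.euler k X E - Curv2.euler k X F₁) -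
      (Curv2.euler k X (FlatMod.freeMod X n) - Curv2.euler k X F₁) =
      (Curv2.euler k X L - Curv2.euler k X F₂) -
      (Curv2.euler k X (FlatMod.freeMod X 1) - Curv2.euler k X F₂) := by
    rw [e1, e2, e3, e4, ← Finset.sum_sub_distrib, ← Finset.sum_sub_distrib]
    apply Finset.sum_congr rfl
    intro z hz
    rw [← sub_mul, ← sub_mul, hloc z hz]
  unfold Curv2.deg
  rw [hfree_n, hfree_1] at key
  push_cast at key ⊢
  linarith

end Main

end DetDeg
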