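import Mathlib
import Groth.Agent.Lib.DetRing3_helper9

/-!
# Determinantal rings are Cohen–Macaulay normal domains: assembly (helper9)
APPEND-ONLY once landed.
-/

set_option autoImplicit false
set_option maxHeartbeats 400000
universe u

namespace Groth.Agent.DetRing9

open W4bk4grassmannian MvPolynomial Function Finset
open Groth.Agent.FFT9 (iota iota_le)
open Groth.Agent.SFT9

attribute [local instance] MvPolynomial.gradedAlgebra

variable (K : Type u) [Field K] [IsAlgClosed K] (d r : ℕ)

theorem cm_and_dim (hd : 0 < d) (n : ℕ) (hn : n < d) :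
    LocCoh.IsCohenMacaulayRing
        (CellRing K d r ⧸ CAlgX.minorIdeal (genMatrix K r d) (n + 1)) ∧
      ringKrullDim (CellRing K d r ⧸ CAlgX.minorIdeal (genMatrix K r d) (n + 1)) =
        ((codeg (wn d r n) : ℕ) : WithBot ℕ∞) := by
  obtain ⟨e⟩ := nonempty_equiv K d r hd n hn
  haveI hprime := Groth.Agent.KDim9.isPrime K hd (wn d r n)
  haveI : IsDomain (PlRing K d (d + r) ⧸ schubertVanishing K d (d + r) (wn d r n)) :=
    Ideal.Quotient.isDomain _
  haveI hcm : LocCoh.IsCohenMacaulayRing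
      (PlRing K d (d + r) ⧸ schubertVanishing K d (d + r) (wn d r n)) :=
    (Groth.Agent.CMSch9.cm_main K hd (Nat.le_add_right d r) _).1 _ rfl
  obtain ⟨a, ha⟩ : ∃ a : PlRing K d (d + r) ⧸ schubertVanishing K d (d + r) (wn d r n),
      a = Ideal.Quotient.mk (schubertVanishing K d (d + r) (wn d r n))
        (X (iota (Nat.le_add_right d r)) - 1) := ⟨_, rfl⟩
  rw [← ha] at e
  have ha0 : a ≠ 0 := by
    rw [ha, Ne, Ideal.Quotient.eq_zero_iff_mem]
    intro hmem
    have h1 := Groth.Agent.Link9.le_irrelevant_of_isHomogeneous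
      (Groth.Agent.CMSch9.deg_zero_const' K _) _
      (Groth.Agent.CMSch9.schubert_isHomogeneous K hd (wn d r n)) hprime.ne_top hmem
    rw [Groth.Agent.CMSch9.irrelevant_eq_ker, RingHom.mem_ker, map_sub,
      MvPolynomial.constantCoeff_X, map_one, zero_sub] at h1
    exact one_ne_zero (neg_eq_zero.1 h1)
  have hau : ¬ IsUnit a := by
    intro hu
    have htop : Ideal.span {a} = ⊤ := Ideal.span_singleton_eq_top.2 hu
    have h1 : (1 : CellRing K d r ⧸ CAlgX.minorIdeal (genMatrix K r d) (n + 1)) = 0 := by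
      have h2 : (1 : (PlRing K d (d + r) ⧸ schubertVanishing K d (d + r) (wn d r n)) ⧸
          Ideal.span {a}) = 0 := by
        rw [← map_one (Ideal.Quotient.mk (Ideal.span {a})), Ideal.Quotient.eq_zero_iff_mem, htop]
        trivial
      have h3 := congrArg e h2
      rwa [map_one, map_zero] at h3
    rw [← map_one (Ideal.Quotient.mk _), Ideal.Quotient.eq_zero_iff_mem] at h1
    have h3 := le_ker K n r d h1
    rw [RingHom.mem_ker, map_one] at h3
    exact one_ne_zero h3
  constructor
  · exact Groth.Agent.Lib.CMEquivH3.isCohenMacaulayRing_of_ringEquiv e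
      (cmRing_quot_of_ne_zero _ a ha0)
  · have hdimeq : ringKrullDim ((PlRing K d (d + r) ⧸ schubertVanishing K d (d + r) (wn d r n)) ⧸
        Ideal.span {a}) =
        ringKrullDim (CellRing K d r ⧸ CAlgX.minorIdeal (genMatrix K r d) (n + 1)) :=
      ringKrullDim_eq_of_ringEquiv e
    rw [← hdimeq]
    haveI : Algebra.FiniteType K
        (PlRing K d (d + r) ⧸ schubertVanishing K d (d + r) (wn d r n)) :=
      Algebra.FiniteType.of_surjective (Ideal.Quotient.mkₐ K _)
        (Ideal.Quotient.mkₐ_surjective K _)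
    exact dim_quot_of_ne_zero K _ a ha0 hau (codeg (wn d r n))
      (Groth.Agent.KDim9.main K hd (Nat.le_add_right d r) _)

theorem normal (hd : 0 < d) (hr : 0 < r) (n : ℕ) (hn : n < d) :
    IsIntegrallyClosed (CellRing K d r ⧸ CAlgX.minorIdeal (genMatrix K r d) (n + 1)) := by
  haveI hprime := Groth.Agent.KDim9.isPrime K hd (wn d r n)
  haveI hIprime := minorIdeal_isPrime K d r n hn
  obtain ⟨-, hnorm⟩ := Groth.Agent.S11259.result K d (d + r) hd (by omega) (wn d r n)
  haveI := hnorm
  apply isIntegrallyClosed_of_cone K (CellRing K d r) (schubertVanishing K d (d + r) (wn d r n))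
    (CAlgX.minorIdeal (genMatrix K r d) (n + 1)) (iota (Nat.le_add_right d r))
    (Groth.Agent.KDim9.X_not_mem K _ _ (iota_le _ _)) (piC K d r) (liftC K d r)
    (piC_liftC K d r) (piC_iota K d r) (fun G hG => piC_mem K d r hd n hn G hG)
  intro G hG
  exact homog_mul_mem K d r hd n hn G (RingHom.mem_ker.1 (le_ker K n r d hG))

theorem main (hd : 0 < d) (hr : 0 < r) (n : ℕ) (hn : n < d) (hnr : n ≤ r) :
    IsDomain (CellRing K d r ⧸ CAlgX.minorIdeal (genMatrix K r d) (n + 1)) ∧
      IsIntegrallyClosed (CellRing K d r ⧸ CAlgX.minorIdeal (genMatrix K r d) (n + 1)) ∧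
      LocCoh.IsCohenMacaulayRing
        (CellRing K d r ⧸ CAlgX.minorIdeal (genMatrix K r d) (n + 1)) ∧
      ringKrullDim (CellRing K d r ⧸ CAlgX.minorIdeal (genMatrix K r d) (n + 1)) =
        (((n + 1 - 1) * (r + d - (n + 1) + 1) : ℕ) : WithBot ℕ∞) := by
  haveI hIprime := minorIdeal_isPrime K d r n hn
  refine ⟨Ideal.Quotient.isDomain _, normal K d r hd hr n hn, (cm_and_dim K d r hd n hn).1, ?_⟩
  rw [(cm_and_dim K d r hd n hn).2]
  obtain ⟨e, rfl⟩ : ∃ e, d = e + n := ⟨d - n, by omega⟩
  rw [codeg_wn n e r hnr]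
  have h1 : n + 1 - 1 = n := by omega
  have h2 : r + (e + n) - (n + 1) + 1 = r + e := by omega
  rw [h1, h2]
  congr 1
  ring

end Groth.Agent.DetRing9
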