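import Mathlib
import Groth.Agent.Lib.DetRing4_helper9
import Groth.Agent.Lib.IntegralHeight_helper5
import Groth.Agent.Lib.McCoy_lead
import Groth.Agent.Lib.BuchsEis_helper3

/-!
# Dimension of determinantal rings over an arbitrary field (helper8)
Base change of helper9's `DetRing9.main` from the algebraic closure.
APPEND-ONLY once landed.
-/

set_option autoImplicit false
set_option maxHeartbeats 400000
universe u

namespace Groth.Agent.Lib.DetDimH8

open MvPolynomial

section general

/-- Dimension of `S/IS` equals the dimension of `R/I` for an injective integral extension. -/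
theorem ringKrullDim_quotient_map_eq {R S : Type*} [CommRing R] [CommRing S] [Algebra R S]
    [Algebra.IsIntegral R S] (hinj : Function.Injective (algebraMap R S)) (I : Ideal R) :
    ringKrullDim (S ⧸ I.map (algebraMap R S)) = ringKrullDim (R ⧸ I) := by
  haveI : Algebra.IsIntegral (R ⧸ I) (S ⧸ I.map (algebraMap R S)) :=
    Algebra.IsIntegral.tower_top R
  apply le_antisymm
  · exact Groth.Agent.IntegralHeight.ringKrullDim_le_of_isIntegral (R ⧸ I)
      (S ⧸ I.map (algebraMap R S))
  · rw [ringKrullDim, Order.krullDim]
    refine iSup_le fun l => ?_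
    haveI : FaithfulSMul R S := (faithfulSMul_iff_algebraMap_injective R S).2 hinj
    -- lying over for the head
    obtain ⟨⟨Q, hQ1, hQ2⟩⟩ := Ideal.nonempty_primesOver (S := S)
      (l.head.asIdeal.comap (Ideal.Quotient.mk I))
    have hIQ : I.map (algebraMap R S) ≤ Q := by
      rw [Ideal.map_le_iff_le_comap]
      show I ≤ Q.under R
      rw [← hQ2.over]
      intro x hx
      rw [Ideal.mem_comap, Ideal.Quotient.eq_zero_iff_mem.2 hx]
      exact zero_mem _
    have hker : RingHom.ker (Ideal.Quotient.mk (I.map (algebraMap R S))) ≤ Q := by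
      rw [Ideal.mk_ker]; exact hIQ
    haveI hP : (Q.map (Ideal.Quotient.mk (I.map (algebraMap R S)))).IsPrime :=
      Ideal.map_isPrime_of_surjective Ideal.Quotient.mk_surjective hker
    haveI : (Q.map (Ideal.Quotient.mk (I.map (algebraMap R S)))).LiesOver l.head.asIdeal := by
      constructor
      ext x
      obtain ⟨a, rfl⟩ := Ideal.Quotient.mk_surjective x
      have h1 : a ∈ Ideal.comap (Ideal.Quotient.mk I) l.head.asIdeal ↔
          algebraMap R S a ∈ Q := by
        rw [hQ2.over]; rfl
      have h2 : Ideal.Quotient.mk (I.map (algebraMap R S)) (algebraMap R S a) ∈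
          Q.map (Ideal.Quotient.mk (I.map (algebraMap R S))) ↔ algebraMap R S a ∈ Q := by
        rw [← Ideal.mem_comap, Ideal.comap_map_of_surjective _ Ideal.Quotient.mk_surjective,
          ← RingHom.ker_eq_comap_bot, sup_eq_left.2 hker]
      exact h1.trans h2.symm
    obtain ⟨L, hL, -, -⟩ := Ideal.exists_ltSeries_of_hasGoingUp l
      (Q.map (Ideal.Quotient.mk (I.map (algebraMap R S))))
    rw [← hL]
    exact Order.LTSeries.length_le_krullDim L

theorem minorIdeal_eq_bot_of_rows_lt {R : Type*} [CommRing R] {m n : ℕ}
    (M : Matrix (Fin n) (Fin m) R) {r : ℕ} (hr : n < r) :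
    CAlgX.minorIdeal M r = ⊥ := by
  rw [CAlgX.minorIdeal, Ideal.span_eq_bot]
  rintro _ ⟨⟨f, g⟩, rfl⟩
  have hf : ¬ Function.Injective f := by
    intro hinj
    have := Fintype.card_le_of_injective f hinj
    simp only [Fintype.card_fin] at this
    omega
  obtain ⟨a, b, hab, hne⟩ : ∃ a b, f a = f b ∧ a ≠ b := by
    by_contra hcon
    push Not at hcon
    exact hf (fun a b h => hcon a b h)
  exact Matrix.det_zero_of_row_eq hne (by ext k; simp [Matrix.submatrix_apply, hab])

end general

section main

variable (k : Type u) [Field k]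

/-- `K[X]` is integral over `k[X]` for an algebraic extension `K/k`. -/
theorem isIntegral_map (K : Type u) [Field K] [Algebra k K] [Algebra.IsAlgebraic k K]
    (σ : Type*) :
    (MvPolynomial.map (σ := σ) (algebraMap k K)).IsIntegral := by
  letI : Algebra (MvPolynomial σ k) (MvPolynomial σ K) :=
    (MvPolynomial.map (algebraMap k K)).toAlgebra
  haveI : IsScalarTower k (MvPolynomial σ k) (MvPolynomial σ K) :=
    IsScalarTower.of_algebraMap_eq fun x => by
      rw [RingHom.algebraMap_toAlgebra, MvPolynomial.algebraMap_apply]
      simp [MvPolynomial.algebraMap_eq]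
  intro p
  show IsIntegral (MvPolynomial σ k) p
  induction p using MvPolynomial.induction_on with
  | C a =>
    have h1 : IsIntegral k a := Algebra.IsIntegral.isIntegral a
    have h2 : IsIntegral k (algebraMap K (MvPolynomial σ K) a) := h1.algebraMap
    exact h2.tower_top
  | add p q hp hq => exact hp.add hq
  | mul_X p i hp =>
    refine hp.mul ?_
    have : (X i : MvPolynomial σ K) = algebraMap (MvPolynomial σ k) (MvPolynomial σ K) (X i) := by
      rw [RingHom.algebraMap_toAlgebra, MvPolynomial.map_X]
    rw [this]
    exact isIntegral_algebraMap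

theorem main10870 (n m r : ℕ) (hr : r ≤ min n m) :
    ringKrullDim (MvPolynomial (Fin n × Fin m) k ⧸ CAlgX.minorIdeal (Matrix.of fun (i : Fin n) (j : Fin m) => (MvPolynomial.X (i, j) : MvPolynomial (Fin n × Fin m) k)) (r + 1)) =
      ((r * (m + n - r) : ℕ) : WithBot ℕ∞) := by
  by_cases hlt : r < min n m
  · -- base change to the algebraic closure
    have hrn : r < n := lt_of_lt_of_le hlt (min_le_left _ _)
    have hrm : r < m := lt_of_lt_of_le hlt (min_le_right _ _)
    let K := AlgebraicClosure k
    letI : Algebra (MvPolynomial (Fin n × Fin m) k) (MvPolynomial (Fin n × Fin m) K) :=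
      (MvPolynomial.map (algebraMap k K)).toAlgebra
    haveI : Algebra.IsIntegral (MvPolynomial (Fin n × Fin m) k) (MvPolynomial (Fin n × Fin m) K) :=
      ⟨isIntegral_map k K (Fin n × Fin m)⟩
    have hinj : Function.Injective (algebraMap (MvPolynomial (Fin n × Fin m) k)
        (MvPolynomial (Fin n × Fin m) K)) :=
      MvPolynomial.map_injective _ (algebraMap k K).injective
    have h1 := ringKrullDim_quotient_map_eq hinj
      (CAlgX.minorIdeal (Matrix.of fun (i : Fin n) (j : Fin m) =>
        (MvPolynomial.X (i, j) : MvPolynomial (Fin n × Fin m) k)) (r + 1))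
    rw [← h1, ← Groth.Agent.Lib.BuchsEisH3.minorIdeal_map]
    have h2 : (Matrix.of fun (i : Fin n) (j : Fin m) =>
        (MvPolynomial.X (i, j) : MvPolynomial (Fin n × Fin m) k)).map
          (algebraMap (MvPolynomial (Fin n × Fin m) k) (MvPolynomial (Fin n × Fin m) K)) =
        W4bk4grassmannian.genMatrix K n m := by
      ext i j
      simp only [Matrix.map_apply, Matrix.of_apply, W4bk4grassmannian.genMatrix,
        RingHom.algebraMap_toAlgebra, MvPolynomial.map_X]
    rw [h2]
    have h3 := (Groth.Agent.DetRing9.main K m n (by omega) (by omega) r hrm hrn.le).2.2.2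
    rw [h3]
    have e1 : r + 1 - 1 = r := by omega
    have e2 : n + m - (r + 1) + 1 = m + n - r := by omega
    rw [e1, e2]
  · -- no minors of that size
    have hmin : r = min n m := le_antisymm hr (not_lt.1 hlt)
    have hbot : CAlgX.minorIdeal (Matrix.of fun (i : Fin n) (j : Fin m) =>
        (MvPolynomial.X (i, j) : MvPolynomial (Fin n × Fin m) k)) (r + 1) = ⊥ := by
      rcases le_total n m with h | h
      · apply minorIdeal_eq_bot_of_rows_lt
        rw [hmin, min_eq_left h]; omega
      · apply Groth.Agent.Lib.McCoy.minorIdeal_eq_bot_of_lt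
        rw [hmin, min_eq_right h]; omega
    rw [hbot, ringKrullDim_eq_of_ringEquiv (RingEquiv.quotientBot _),
      MvPolynomial.ringKrullDim_of_isNoetherianRing, ringKrullDim_eq_zero_of_field, zero_add,
      Nat.card_prod, Nat.card_fin, Nat.card_fin]
    have : n * m = r * (m + n - r) := by
      rcases le_total n m with h | h
      · rw [hmin, min_eq_left h]
        have : m + n - n = m := by omega
        rw [this]
      · rw [hmin, min_eq_right h]
        have : m + n - m = n := by omega
        rw [this, mul_comm]
    rw [this]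

end main

end Groth.Agent.Lib.DetDimH8
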