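import Mathlib

/-!
# Irreducibility of the generic determinant

`det_irreducible`: over a field `k`, for `n ≥ 1`, the determinant of the generic `n × n` matrix
is irreducible in `MvPolynomial (Fin n × Fin n) k`.
-/

namespace Groth.Agent.Lib.DetIrred

open Matrix

variable {k : Type*} [Field k] {n : ℕ}

theorem degreeOf_eq_zero_iff_notMem_vars {σ R : Type*} [CommSemiring R] (v : σ)
    (p : MvPolynomial σ R) : MvPolynomial.degreeOf v p = 0 ↔ v ∉ p.vars := by
  classical
  rw [MvPolynomial.degreeOf_def, MvPolynomial.vars_def, Multiset.mem_toFinset,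
    Multiset.count_eq_zero]

/-- The `k`-algebra hom scaling every variable `x_u` with `P u` by the new variable `T`. -/
noncomputable def phi (P : Fin n × Fin n → Prop) [DecidablePred P] :
    MvPolynomial (Fin n × Fin n) k →ₐ[k] Polynomial (MvPolynomial (Fin n × Fin n) k) :=
  MvPolynomial.aeval (fun u => if P u then Polynomial.C (MvPolynomial.X u) * Polynomial.X
    else Polynomial.C (MvPolynomial.X u))

theorem phi_X (P : Fin n × Fin n → Prop) [DecidablePred P] (u : Fin n × Fin n) :
    phi (k := k) P (MvPolynomial.X u) =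
      if P u then Polynomial.C (MvPolynomial.X u) * Polynomial.X
      else Polynomial.C (MvPolynomial.X u) := by
  simp [phi]

theorem phi_C (P : Fin n × Fin n → Prop) [DecidablePred P] (a : k) :
    phi (k := k) (n := n) P (MvPolynomial.C a) = Polynomial.C (MvPolynomial.C a) := by
  rw [phi, MvPolynomial.aeval_C, Polynomial.algebraMap_apply, MvPolynomial.algebraMap_eq]

theorem eval_one_phi (P : Fin n × Fin n → Prop) [DecidablePred P]
    (p : MvPolynomial (Fin n × Fin n) k) : Polynomial.eval 1 (phi P p) = p := by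
  induction p using MvPolynomial.induction_on with
  | C a => rw [phi_C, Polynomial.eval_C]
  | add p q hp hq => rw [map_add, Polynomial.eval_add, hp, hq]
  | mul_X p u hp =>
    rw [map_mul, Polynomial.eval_mul, hp, phi_X]
    split_ifs <;> simp

theorem eval_zero_phi_mem (P : Fin n × Fin n → Prop) [DecidablePred P]
    (p : MvPolynomial (Fin n × Fin n) k) :
    Polynomial.eval 0 (phi P p) ∈ MvPolynomial.supported k {u | ¬ P u} := by
  induction p using MvPolynomial.induction_on with
  | C a =>
    rw [phi_C, Polynomial.eval_C, ← MvPolynomial.algebraMap_eq]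
    exact Subalgebra.algebraMap_mem _ a
  | add p q hp hq =>
    rw [map_add, Polynomial.eval_add]; exact add_mem hp hq
  | mul_X p u hp =>
    rw [map_mul, Polynomial.eval_mul, phi_X]
    refine mul_mem hp ?_
    split_ifs with h
    · rw [Polynomial.eval_mul, Polynomial.eval_X, mul_zero]; exact zero_mem _
    · rw [Polynomial.eval_C, MvPolynomial.X_mem_supported]; exact h

theorem phi_ne_zero (P : Fin n × Fin n → Prop) [DecidablePred P]
    {p : MvPolynomial (Fin n × Fin n) k} (hp : p ≠ 0) : phi P p ≠ 0 := by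
  intro h
  apply hp
  rw [← eval_one_phi P p, h, Polynomial.eval_zero]

theorem natDegree_phi_ne_zero (P : Fin n × Fin n → Prop) [DecidablePred P]
    (p : MvPolynomial (Fin n × Fin n) k) (v : Fin n × Fin n) (hv : P v)
    (hp : MvPolynomial.degreeOf v p ≠ 0) : (phi P p).natDegree ≠ 0 := by
  intro h0
  apply hp
  have hq := Polynomial.eq_C_of_natDegree_eq_zero h0
  have h1 : (phi P p).coeff 0 = p := by
    have := eval_one_phi P p
    rw [hq, Polynomial.eval_C] at this
    exact this
  have h2 : Polynomial.eval 0 (phi P p) = (phi P p).coeff 0 := by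
    conv_lhs => rw [hq, Polynomial.eval_C]
  have h3 : p ∈ MvPolynomial.supported k {u | ¬ P u} := by
    have := eval_zero_phi_mem P p
    rw [h2, h1] at this
    exact this
  rw [degreeOf_eq_zero_iff_notMem_vars]
  intro hmem
  exact (MvPolynomial.mem_supported.mp h3 (Finset.mem_coe.mpr hmem)) hv

theorem phi_row_det (i : Fin n) :
    phi (k := k) (fun u => u.1 = i) (mvPolynomialX (Fin n) (Fin n) k).det =
      Polynomial.C (mvPolynomialX (Fin n) (Fin n) k).det * Polynomial.X := by
  rw [AlgHom.map_det]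
  have hM : (phi (k := k) (fun u => u.1 = i)).mapMatrix (mvPolynomialX (Fin n) (Fin n) k) =
      updateRow ((Polynomial.C : MvPolynomial (Fin n × Fin n) k →+* _).mapMatrix
          (mvPolynomialX (Fin n) (Fin n) k)) i
        ((Polynomial.X : Polynomial (MvPolynomial (Fin n × Fin n) k)) •
          ((Polynomial.C : MvPolynomial (Fin n × Fin n) k →+* _).mapMatrix
            (mvPolynomialX (Fin n) (Fin n) k)) i) := by
    ext a b
    by_cases h : a = i
    · subst h
      simp [updateRow_self, phi_X, mvPolynomialX_apply]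
    · simp [phi_X, mvPolynomialX_apply, h]
  rw [hM, det_updateRow_smul, updateRow_eq_self, ← RingHom.map_det, mul_comm]

theorem phi_col_det (j : Fin n) :
    phi (k := k) (fun u => u.2 = j) (mvPolynomialX (Fin n) (Fin n) k).det =
      Polynomial.C (mvPolynomialX (Fin n) (Fin n) k).det * Polynomial.X := by
  rw [AlgHom.map_det]
  have hM : (phi (k := k) (fun u => u.2 = j)).mapMatrix (mvPolynomialX (Fin n) (Fin n) k) =
      updateCol ((Polynomial.C : MvPolynomial (Fin n × Fin n) k →+* _).mapMatrix
          (mvPolynomialX (Fin n) (Fin n) k)) j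
        ((Polynomial.X : Polynomial (MvPolynomial (Fin n × Fin n) k)) •
          (fun a => ((Polynomial.C : MvPolynomial (Fin n × Fin n) k →+* _).mapMatrix
            (mvPolynomialX (Fin n) (Fin n) k)) a j)) := by
    ext a b
    by_cases h : b = j
    · subst h
      simp [updateCol_self, phi_X, mvPolynomialX_apply]
    · simp [phi_X, mvPolynomialX_apply, h]
  rw [hM, det_updateCol_smul, updateCol_eq_self, ← RingHom.map_det, mul_comm]

theorem degreeOf_det_ne_zero (v : Fin n × Fin n) :
    MvPolynomial.degreeOf v (mvPolynomialX (Fin n) (Fin n) k).det ≠ 0 := by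
  intro h0
  rw [degreeOf_eq_zero_iff_notMem_vars] at h0
  obtain ⟨A, hA⟩ : ∃ A : Matrix (Fin n) (Fin n) k, A = (Equiv.swap v.1 v.2).permMatrix k :=
    ⟨_, rfl⟩
  obtain ⟨A', hA'⟩ : ∃ A' : Matrix (Fin n) (Fin n) k, A' = updateRow A v.1 0 := ⟨_, rfl⟩
  have hAA' : ∀ u : Fin n × Fin n, u ≠ v → A u.1 u.2 = A' u.1 u.2 := by
    intro u hu
    by_cases h1 : u.1 = v.1
    · have h2 : u.2 ≠ v.2 := fun h2 => hu (Prod.ext h1 h2)
      have h3 : ¬ (v.2 = u.2) := fun h => h2 h.symm
      rw [hA', h1, updateRow_self, hA]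
      simp [Equiv.Perm.permMatrix, PEquiv.toMatrix_apply, Equiv.toPEquiv_apply, h3]
    · rw [hA', updateRow_ne h1]
  have e1 : MvPolynomial.eval (fun p : Fin n × Fin n => A p.1 p.2)
      (mvPolynomialX (Fin n) (Fin n) k).det = A.det := by
    rw [RingHom.map_det, mvPolynomialX_mapMatrix_eval]
  have e2 : MvPolynomial.eval (fun p : Fin n × Fin n => A' p.1 p.2)
      (mvPolynomialX (Fin n) (Fin n) k).det = A'.det := by
    rw [RingHom.map_det, mvPolynomialX_mapMatrix_eval]
  have e3 : MvPolynomial.eval (fun p : Fin n × Fin n => A p.1 p.2)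
      (mvPolynomialX (Fin n) (Fin n) k).det
      = MvPolynomial.eval (fun p : Fin n × Fin n => A' p.1 p.2)
        (mvPolynomialX (Fin n) (Fin n) k).det := by
    have := MvPolynomial.eval₂Hom_congr' (f₁ := RingHom.id k) (f₂ := RingHom.id k)
      (g₁ := fun p : Fin n × Fin n => A p.1 p.2) (g₂ := fun p : Fin n × Fin n => A' p.1 p.2)
      (p₁ := (mvPolynomialX (Fin n) (Fin n) k).det) (p₂ := (mvPolynomialX (Fin n) (Fin n) k).det)
      rfl (fun u hu _ => hAA' u (by rintro rfl; exact h0 hu)) rfl
    exact this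
  have hdetA' : A'.det = 0 :=
    det_eq_zero_of_row_eq_zero v.1 (fun j => by rw [hA', updateRow_self]; rfl)
  have hdetA : A.det ≠ 0 := by
    rw [hA, det_permutation]
    rcases Int.units_eq_one_or (Equiv.Perm.sign (Equiv.swap v.1 v.2)) with h | h <;> simp [h]
  exact hdetA (by rw [← e1, e3, e2, hdetA'])

section main

variable (f g : MvPolynomial (Fin n × Fin n) k)

theorem row_add (hfg : (mvPolynomialX (Fin n) (Fin n) k).det = f * g) (i : Fin n) :
    (phi (fun u => u.1 = i) f).natDegree + (phi (fun u => u.1 = i) g).natDegree = 1 := by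
  have hD0 := det_mvPolynomialX_ne_zero (Fin n) k
  have hf : f ≠ 0 := by rintro rfl; exact hD0 (by rw [hfg, zero_mul])
  have hg : g ≠ 0 := by rintro rfl; exact hD0 (by rw [hfg, mul_zero])
  rw [← Polynomial.natDegree_mul (phi_ne_zero (fun u : Fin n × Fin n => u.1 = i) hf)
    (phi_ne_zero (fun u : Fin n × Fin n => u.1 = i) hg), ← map_mul, ← hfg, phi_row_det,
    Polynomial.natDegree_C_mul_X _ hD0]

theorem col_add (hfg : (mvPolynomialX (Fin n) (Fin n) k).det = f * g) (j : Fin n) :
    (phi (fun u => u.2 = j) f).natDegree + (phi (fun u => u.2 = j) g).natDegree = 1 := by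
  have hD0 := det_mvPolynomialX_ne_zero (Fin n) k
  have hf : f ≠ 0 := by rintro rfl; exact hD0 (by rw [hfg, zero_mul])
  have hg : g ≠ 0 := by rintro rfl; exact hD0 (by rw [hfg, mul_zero])
  rw [← Polynomial.natDegree_mul (phi_ne_zero (fun u : Fin n × Fin n => u.2 = j) hf)
    (phi_ne_zero (fun u : Fin n × Fin n => u.2 = j) hg), ← map_mul, ← hfg, phi_col_det,
    Polynomial.natDegree_C_mul_X _ hD0]

theorem key (hfg : (mvPolynomialX (Fin n) (Fin n) k).det = f * g) (i j : Fin n) :
    ¬ ((phi (fun u => u.1 = i) f).natDegree ≠ 0 ∧ (phi (fun u => u.2 = j) g).natDegree ≠ 0) := by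
  rintro ⟨h1, h2⟩
  have hv := degreeOf_det_ne_zero (k := k) (i, j)
  rw [hfg] at hv
  have hle := MvPolynomial.degreeOf_mul_le (i, j) f g
  have hr := row_add f g hfg i
  have hc := col_add f g hfg j
  by_cases hf : MvPolynomial.degreeOf (i, j) f = 0
  · have hg : MvPolynomial.degreeOf (i, j) g ≠ 0 := by omega
    have := natDegree_phi_ne_zero (fun u => u.1 = i) g (i, j) rfl hg
    omega
  · have := natDegree_phi_ne_zero (fun u => u.2 = j) f (i, j) rfl hf
    omega

theorem isUnit_of_row (hfg : (mvPolynomialX (Fin n) (Fin n) k).det = f * g) (i0 : Fin n)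
    (h0 : (phi (fun u => u.1 = i0) f).natDegree ≠ 0) : IsUnit g := by
  have hD0 := det_mvPolynomialX_ne_zero (Fin n) k
  have hg0 : g ≠ 0 := by rintro rfl; exact hD0 (by rw [hfg, mul_zero])
  have hgf : (mvPolynomialX (Fin n) (Fin n) k).det = g * f := by rw [hfg, mul_comm]
  have hcg : ∀ j, (phi (fun u => u.2 = j) g).natDegree = 0 := fun j => by
    by_contra h
    exact key f g hfg i0 j ⟨h0, h⟩
  have hcf : ∀ j, (phi (fun u => u.2 = j) f).natDegree ≠ 0 := fun j => by
    have := col_add f g hfg j
    have := hcg j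
    omega
  have hrg : ∀ i, (phi (fun u => u.1 = i) g).natDegree = 0 := fun i => by
    by_contra h
    exact key g f hgf i i0 ⟨h, hcf i0⟩
  have hvars : g.vars = ∅ := by
    rw [Finset.eq_empty_iff_forall_notMem]
    intro v hv
    have hdeg : MvPolynomial.degreeOf v g ≠ 0 := by
      rw [Ne, degreeOf_eq_zero_iff_notMem_vars]; exact fun h => h hv
    exact natDegree_phi_ne_zero (fun u => u.1 = v.1) g v rfl hdeg (hrg v.1)
  rw [MvPolynomial.vars_eq_empty_iff_eq_C] at hvars
  have hc : MvPolynomial.coeff 0 g ≠ 0 := by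
    intro h
    apply hg0
    rw [hvars, h, map_zero]
  rw [hvars]
  exact (isUnit_iff_ne_zero.mpr hc).map MvPolynomial.C

end main

theorem det_irreducible (hn : 1 ≤ n) :
    Irreducible (mvPolynomialX (Fin n) (Fin n) k).det := by
  rw [irreducible_iff]
  refine ⟨?_, ?_⟩
  · intro hu
    have : Nonempty (Fin n) := ⟨⟨0, hn⟩⟩
    have h1 := hu.map (MvPolynomial.eval
      (fun p : Fin n × Fin n => (0 : Matrix (Fin n) (Fin n) k) p.1 p.2))
    rw [RingHom.map_det, mvPolynomialX_mapMatrix_eval, det_zero] at h1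
    exact not_isUnit_zero h1
  · intro f g hfg
    have hr := row_add f g hfg ⟨0, hn⟩
    by_cases h : (phi (fun u => u.1 = (⟨0, hn⟩ : Fin n)) f).natDegree = 0
    · left
      refine isUnit_of_row g f (by rw [hfg, mul_comm]) ⟨0, hn⟩ ?_
      omega
    · right
      exact isUnit_of_row f g hfg ⟨0, hn⟩ h

end Groth.Agent.Lib.DetIrred
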