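import Mathlib
import Groth.Prelude.Def_PolLaw2
import Groth.Agent.Lib.PolLawRestr_helper1
import Groth.Agent.Lib.PolLawSurj_helper1
import Groth.Agent.Lib.DetProj_helper1

/-!
# The determinant law of a finite module over a normal domain (helper1)
-/

set_option autoImplicit false
universe u
open scoped TensorProduct
open Module

namespace Groth.Agent.Lib.DetNormalH1

section KAlg

variable {A : Type u} [CommRing A] {K : Type u} [Field K] [Algebra A K]
  {B : Type u} [CommRing B] [Algebra A B]
  (M : Type u) [AddCommGroup M] [Module A M] [Module B M] [IsScalarTower A B M] [Module.Finite A M]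

section one

variable (R : Type u) [CommRing R] [Algebra A R] [Algebra K R] [IsScalarTower A K R]

/-- the comparison iso -/
noncomputable def cmp : R ⊗[K] (K ⊗[A] M) ≃ₗ[R] R ⊗[A] M :=
  TensorProduct.AlgebraTensorModule.cancelBaseChange A K R R M

/-- the map `K ⊗ M → R ⊗ M` -/
noncomputable def iot : K ⊗[A] M →ₗ[A] R ⊗[A] M :=
  (IsScalarTower.toAlgHom A K R).toLinearMap.rTensor M

omit [Module.Finite A M] in
theorem cmp_one_tmul (v : K ⊗[A] M) : cmp (K := K) M R ((1 : R) ⊗ₜ[K] v) = iot M R v := by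
  induction v using TensorProduct.induction_on with
  | zero => simp
  | tmul k m =>
    rw [cmp, TensorProduct.AlgebraTensorModule.cancelBaseChange_tmul, iot, LinearMap.rTensor_tmul]
    simp [Algebra.smul_def]
  | add x y hx hy => rw [TensorProduct.tmul_add, map_add, map_add, hx, hy]

/-- the basis -/
noncomputable def bas : Basis (Module.Free.ChooseBasisIndex K (K ⊗[A] M)) R (R ⊗[A] M) :=
  (Algebra.TensorProduct.basis R (Module.Free.chooseBasis K (K ⊗[A] M))).map (cmp M R)

theorem bas_apply (i : Module.Free.ChooseBasisIndex K (K ⊗[A] M)) :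
    bas (K := K) M R i = iot M R (Module.Free.chooseBasis K (K ⊗[A] M) i) := by
  rw [bas, Basis.map_apply, Algebra.TensorProduct.basis_apply, cmp_one_tmul]

theorem finrank_eq [Nontrivial R] :
    Module.finrank R (R ⊗[A] M) = Module.finrank K (K ⊗[A] M) := by
  rw [Module.finrank_eq_card_basis (bas (K := K) M R), Module.finrank_eq_card_chooseBasisIndex]

theorem detAct_smul [Nontrivial R] (r : R) (x : R ⊗[A] B) :
    PolLaw.detAct M R (r • x) = r ^ Module.finrank K (K ⊗[A] M) * PolLaw.detAct M R x := by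
  have : Module.Free R (R ⊗[A] M) := Module.Free.of_basis (bas (K := K) M R)
  unfold PolLaw.detAct
  rw [map_smul, LinearMap.det_smul, finrank_eq (K := K) M R]

end one

omit [Module.Finite A M] in
theorem rT_smul' {R R' : Type u} [CommSemiring R] [Algebra A R] [CommSemiring R'] [Algebra A R']
    (ψ : R →ₐ[A] R') (r : R) (z : R ⊗[A] M) :
    ψ.toLinearMap.rTensor M (r • z) = ψ r • ψ.toLinearMap.rTensor M z := by
  induction z using TensorProduct.induction_on with
  | zero => simp
  | tmul s m => simp [TensorProduct.smul_tmul', LinearMap.rTensor_tmul]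
  | add x y hx hy => simp only [smul_add, map_add, hx, hy]

variable {R : Type u} [CommRing R] [Algebra A R] [Algebra K R] [IsScalarTower A K R]
  {R' : Type u} [CommRing R'] [Algebra A R'] [Algebra K R'] [IsScalarTower A K R']

theorem rT_bas (ψ : R →ₐ[K] R') (i : Module.Free.ChooseBasisIndex K (K ⊗[A] M)) :
    (ψ.restrictScalars A).toLinearMap.rTensor M (bas (K := K) M R i) = bas (K := K) M R' i := by
  rw [bas_apply, bas_apply, iot, iot, ← LinearMap.comp_apply, ← LinearMap.rTensor_comp]
  congr 2
  apply LinearMap.ext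
  intro k
  simp

theorem repr_rT (ψ : R →ₐ[K] R') (z : R ⊗[A] M) (i : Module.Free.ChooseBasisIndex K (K ⊗[A] M)) :
    (bas (K := K) M R').repr ((ψ.restrictScalars A).toLinearMap.rTensor M z) i =
      ψ ((bas (K := K) M R).repr z i) := by
  classical
  conv_lhs => rw [← (bas (K := K) M R).sum_repr z]
  rw [map_sum]
  simp only [rT_smul', rT_bas]
  rw [Basis.repr_sum_self]
  rfl

theorem detAct_natK (ψ : R →ₐ[K] R') (x : R ⊗[A] B) :
    PolLaw.detAct M R' (Algebra.TensorProduct.map (ψ.restrictScalars A) (AlgHom.id A B) x) =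
      ψ (PolLaw.detAct M R x) := by
  classical
  unfold PolLaw.detAct
  rw [← LinearMap.det_toMatrix (bas (K := K) M R'), ← LinearMap.det_toMatrix (bas (K := K) M R),
    AlgHom.map_det]
  congr 1
  ext i j
  simp only [AlgHom.mapMatrix_apply, Matrix.map_apply, LinearMap.toMatrix_apply]
  rw [← repr_rT M ψ, PolLaw.rTensor_actEnd M (ψ.restrictScalars A), rT_bas]

end KAlg

section INT

variable {A : Type u} [CommRing A] [IsDomain A] [IsIntegrallyClosed A]
  {B : Type u} [CommRing B] [Algebra A B]
  (M : Type u) [AddCommGroup M] [Module A M] [Module B M] [IsScalarTower A B M] [Module.Finite A M]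

/-- inclusion of polynomial rings -/
noncomputable def inc (n : ℕ) :
    MvPolynomial (Fin n) A →ₐ[A] MvPolynomial (Fin n) (FractionRing A) :=
  MvPolynomial.mapAlgHom (Algebra.ofId A (FractionRing A))

omit [IsIntegrallyClosed A] in
theorem inc_injective (n : ℕ) : Function.Injective (inc (A := A) n) :=
  MvPolynomial.map_injective _ (IsFractionRing.injective A (FractionRing A))

omit [IsDomain A] [IsIntegrallyClosed A] [Module.Finite A M] in
theorem exists_coeffs {R : Type u} [CommRing R] [Algebra A R] {r : ℕ} (s : Fin r → M)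
    (hs : Submodule.span A (Set.range s) = ⊤) (z : R ⊗[A] M) :
    ∃ l : Fin r → R, z = ∑ j, l j • ((1 : R) ⊗ₜ[A] s j) := by
  induction z using TensorProduct.induction_on with
  | zero => exact ⟨0, by simp⟩
  | tmul t m =>
    have hm : m ∈ Submodule.span A (Set.range s) := by rw [hs]; trivial
    obtain ⟨c, hc⟩ := (Submodule.mem_span_range_iff_exists_fun A).1 hm
    refine ⟨fun j => t * algebraMap A R (c j), ?_⟩
    rw [← hc, TensorProduct.tmul_sum]
    refine Finset.sum_congr rfl fun j _ => ?_
    rw [TensorProduct.smul_tmul', smul_eq_mul, mul_one, TensorProduct.tmul_smul,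
      TensorProduct.smul_tmul', Algebra.smul_def, mul_comm]
  | add x y hx hy =>
    obtain ⟨l, rfl⟩ := hx
    obtain ⟨l', rfl⟩ := hy
    exact ⟨l + l', by simp [add_smul, Finset.sum_add_distrib]⟩

omit [IsIntegrallyClosed A] [Module.Finite A M] in
theorem exists_coeffs_inc (n : ℕ) {r : ℕ} (s : Fin r → M)
    (hs : Submodule.span A (Set.range s) = ⊤) (z : MvPolynomial (Fin n) A ⊗[A] M) :
    ∃ p : Fin r → MvPolynomial (Fin n) A, (inc n).toLinearMap.rTensor M z =
      ∑ j, inc n (p j) • ((1 : MvPolynomial (Fin n) (FractionRing A)) ⊗ₜ[A] s j) := by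
  obtain ⟨l, hl⟩ := exists_coeffs M s hs z
  refine ⟨l, ?_⟩
  rw [hl, map_sum]
  refine Finset.sum_congr rfl fun j _ => ?_
  rw [rT_smul', LinearMap.rTensor_tmul, AlgHom.toLinearMap_apply, map_one]

theorem det_expand {R : Type u} [CommRing R] {V : Type u} [AddCommGroup V] [Module R V]
    {I : Type u} [Fintype I] [DecidableEq I] (b : Basis I R V) {r : ℕ} (w : Fin r → V)
    (l : I → Fin r → R) :
    b.det (fun i => ∑ j, l i j • w j) =
      ∑ c : I → Fin r, (∏ i, l i (c i)) * b.det (fun i => w (c i)) := by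
  show b.det.toMultilinearMap (fun i => ∑ j, l i j • w j) = _
  rw [MultilinearMap.map_sum]
  refine Finset.sum_congr rfl fun c _ => ?_
  rw [MultilinearMap.map_smul_univ, smul_eq_mul]
  rfl

set_option maxHeartbeats 1600000 in
theorem DD_mem (n : ℕ) (x : MvPolynomial (Fin n) A ⊗[A] B) :
    ∃ g : MvPolynomial (Fin n) A, inc n g =
      PolLaw.detAct M (MvPolynomial (Fin n) (FractionRing A))
        (Algebra.TensorProduct.map (inc n) (AlgHom.id A B) x) := by
  classical
  letI : Algebra (MvPolynomial (Fin n) A) (MvPolynomial (Fin n) (FractionRing A)) :=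
    MvPolynomial.algebraMvPolynomial
  obtain ⟨r, s, hs⟩ := Module.Finite.exists_fin (R := A) (M := M)
  obtain ⟨xR, hxR⟩ : ∃ xR : MvPolynomial (Fin n) (FractionRing A) ⊗[A] B,
    xR = Algebra.TensorProduct.map (inc n) (AlgHom.id A B) x := ⟨_, rfl⟩
  obtain ⟨T, hT⟩ : ∃ T, T = PolLaw.actEnd M (MvPolynomial (Fin n) (FractionRing A)) xR := ⟨_, rfl⟩
  set b := bas (A := A) (K := FractionRing A) M (MvPolynomial (Fin n) (FractionRing A)) with hb
  obtain ⟨w, hw⟩ : ∃ w : Fin r → MvPolynomial (Fin n) (FractionRing A) ⊗[A] M,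
    w = fun j => (1 : MvPolynomial (Fin n) (FractionRing A)) ⊗ₜ[A] s j := ⟨_, rfl⟩
  have hTw : ∀ j, ∃ p : Fin r → MvPolynomial (Fin n) A, T (w j) = ∑ k, inc n (p k) • w k := by
    intro j
    have h1 : w j = (inc n).toLinearMap.rTensor M ((1 : MvPolynomial (Fin n) A) ⊗ₜ[A] s j) := by
      rw [hw, LinearMap.rTensor_tmul, AlgHom.toLinearMap_apply, map_one]
    rw [h1, hT, hxR, ← PolLaw.rTensor_actEnd M (inc n), hw]
    exact exists_coeffs_inc M n s hs _
  choose p hp using hTw
  rw [← hxR]
  have e0 : PolLaw.detAct M (MvPolynomial (Fin n) (FractionRing A)) xR =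
      LinearMap.det (M := MvPolynomial (Fin n) (FractionRing A) ⊗[A] M) T := by
    rw [hT]; rfl
  rw [e0]
  obtain ⟨δ, hδ⟩ : ∃ δ, δ = LinearMap.det (M := MvPolynomial (Fin n) (FractionRing A) ⊗[A] M) T :=
    ⟨_, rfl⟩
  rw [← hδ]
  obtain ⟨J, hJ⟩ : ∃ J : Submodule (MvPolynomial (Fin n) A) (MvPolynomial (Fin n) (FractionRing A)),
    J = Submodule.span _ (Set.range fun c : _ → Fin r => b.det (fun i => w (c i))) := ⟨_, rfl⟩
  have hstab : ∀ y ∈ J, δ • y ∈ J := by
    intro y hy
    rw [hJ] at hy ⊢
    induction hy using Submodule.span_induction with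
    | mem y hy =>
      obtain ⟨c, rfl⟩ := hy
      have e1 : δ • b.det (fun i => w (c i)) =
          b.det (fun i => ∑ k, inc n (p (c i) k) • w k) := by
        rw [smul_eq_mul, hδ, ← Basis.det_comp]
        congr 1
        funext i
        exact hp (c i)
      rw [e1, det_expand]
      refine Submodule.sum_mem _ fun c' _ => ?_
      have e2 : (∏ i, inc n (p (c i) (c' i))) * b.det (fun i => w (c' i)) =
          (∏ i, p (c i) (c' i)) • b.det (fun i => w (c' i)) := by
        rw [Algebra.smul_def, map_prod]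
        rfl
      rw [e2]
      exact Submodule.smul_mem _ _ (Submodule.subset_span ⟨c', rfl⟩)
    | zero => rw [smul_zero]; exact Submodule.zero_mem _
    | add y y' _ _ h h' => rw [smul_add]; exact Submodule.add_mem _ h h'
    | smul q y _ h => rw [smul_comm]; exact Submodule.smul_mem _ q h
  have hne : J ≠ ⊥ := by
    intro hbot
    have hzero : ∀ c : _ → Fin r, b.det (fun i => w (c i)) = 0 := by
      intro c
      have : b.det (fun i => w (c i)) ∈ J := by
        rw [hJ]; exact Submodule.subset_span ⟨c, rfl⟩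
      rw [hbot] at this
      exact (Submodule.mem_bot _).1 this
    have hb' : ∀ i, ∃ l : Fin r → MvPolynomial (Fin n) (FractionRing A), b i = ∑ j, l j • w j := by
      intro i
      rw [hw]
      exact exists_coeffs M s hs (b i)
    choose l hl using hb'
    have h1 : b.det (⇑b) = 1 := by rw [Basis.det_self]
    have h2 : b.det (⇑b) = b.det (fun i => ∑ j, l i j • w j) := by
      congr 1
      funext i
      exact hl i
    rw [h2, det_expand] at h1
    simp only [hzero, mul_zero, Finset.sum_const_zero] at h1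
    exact zero_ne_one h1
  have hint : IsIntegral (MvPolynomial (Fin n) A) δ :=
    isIntegral_of_smul_mem_submodule J hne (by rw [hJ]; exact Submodule.fg_span (Set.finite_range _))
      δ hstab
  rw [MvPolynomial.isIntegral_iff_isIntegral_coeff] at hint
  have hcoef : ∀ m, ∃ a : A, algebraMap A (FractionRing A) a = MvPolynomial.coeff m δ :=
    fun m => IsIntegrallyClosed.isIntegral_iff.1 (hint m)
  have hmem : δ ∈ Set.range (MvPolynomial.map (algebraMap A (FractionRing A))) := by
    rw [MvPolynomial.mem_range_map_iff_coeffs_subset]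
    intro a ha
    obtain ⟨m, -, rfl⟩ := MvPolynomial.mem_coeffs_iff.1 ha
    exact hcoef m
  obtain ⟨g, hg⟩ := hmem
  exact ⟨g, hg⟩

end INT

section Main

variable {A B : Type u} [CommRing A] [IsDomain A] [IsIntegrallyClosed A]
    [CommRing B] [Algebra A B] (M : Type u) [AddCommGroup M] [Module A M] [Module B M]
    [IsScalarTower A B M] [Module.Finite A M]

/-- the member on polynomial rings -/
noncomputable def NN (n : ℕ) (x : MvPolynomial (Fin n) A ⊗[A] B) : MvPolynomial (Fin n) A :=
  (DD_mem M n x).choose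

theorem inc_NN (n : ℕ) (x : MvPolynomial (Fin n) A ⊗[A] B) :
    inc n (NN M n x) = PolLaw.detAct M (MvPolynomial (Fin n) (FractionRing A))
      (Algebra.TensorProduct.map (inc n) (AlgHom.id A B) x) :=
  (DD_mem M n x).choose_spec

theorem NN_one (n : ℕ) : NN M n (1 : MvPolynomial (Fin n) A ⊗[A] B) = 1 := by
  apply inc_injective n
  rw [inc_NN, map_one, PolLaw.detAct_one, map_one]

theorem NN_mul (n : ℕ) (x y : MvPolynomial (Fin n) A ⊗[A] B) :
    NN M n (x * y) = NN M n x * NN M n y := by
  apply inc_injective n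
  rw [inc_NN, map_mul, PolLaw.detAct_mul, map_mul, inc_NN, inc_NN]

theorem NN_smul (d : ℕ) (hd : Module.finrank (FractionRing A) (FractionRing A ⊗[A] M) = d)
    (n : ℕ) (q : MvPolynomial (Fin n) A) (x : MvPolynomial (Fin n) A ⊗[A] B) :
    NN M n (q • x) = q ^ d * NN M n x := by
  apply inc_injective n
  rw [inc_NN, Groth.Agent.Lib.DetProjH1.map_smul', detAct_smul (K := FractionRing A), hd, map_mul,
    map_pow, inc_NN]

/-- extension of a map of polynomial rings to the fraction field coefficients -/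
noncomputable def extK (n m : ℕ) (φ : MvPolynomial (Fin n) A →ₐ[A] MvPolynomial (Fin m) A) :
    MvPolynomial (Fin n) (FractionRing A) →ₐ[FractionRing A] MvPolynomial (Fin m) (FractionRing A) :=
  MvPolynomial.aeval (fun i => inc m (φ (MvPolynomial.X i)))

omit [IsDomain A] [IsIntegrallyClosed A] in
theorem extK_inc (n m : ℕ) (φ : MvPolynomial (Fin n) A →ₐ[A] MvPolynomial (Fin m) A) :
    ((extK n m φ).restrictScalars A).comp (inc n) = (inc m).comp φ := by
  apply MvPolynomial.algHom_ext
  intro i
  simp [extK, inc]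

theorem NN_compat (n m : ℕ) (φ : MvPolynomial (Fin n) A →ₐ[A] MvPolynomial (Fin m) A)
    (x : MvPolynomial (Fin n) A ⊗[A] B) :
    φ (NN M n x) = NN M m (Algebra.TensorProduct.map φ (AlgHom.id A B) x) := by
  apply inc_injective m
  have h1 : inc m (φ (NN M n x)) = extK n m φ (inc n (NN M n x)) :=
    (AlgHom.congr_fun (extK_inc n m φ) (NN M n x)).symm
  rw [h1, inc_NN, inc_NN, ← detAct_natK M (extK n m φ)]
  congr 1
  rw [← AlgHom.comp_apply, ← AlgHom.comp_apply, ← Algebra.TensorProduct.map_comp,
    ← Algebra.TensorProduct.map_comp, extK_inc]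

/-- the family of members -/
noncomputable def TT (n : ℕ) (x : MvPolynomial (Fin n) A ⊗[A] B) : MvPolynomial (Fin n) A ⊗[A] A :=
  NN M n x ⊗ₜ[A] (1 : A)

theorem TT_compat : Groth.Agent.Lib.PolLawRestrH1.Compat (TT (A := A) (B := B) M) := by
  intro n m φ
  funext x
  simp only [Function.comp_apply, TT, LinearMap.rTensor_tmul, AlgHom.toLinearMap_apply]
  rw [NN_compat, PolLaw.rTensor_algHom_apply]

/-- the law -/
noncomputable def Nlaw : B →ₚₗ[A] A :=
  Groth.Agent.Lib.PolLawRestrH1.law (TT (A := A) (B := B) M) (TT_compat M)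

theorem Nlaw_apply {S : Type u} [CommSemiring S] [Algebra A S] {n : ℕ}
    (ψ : MvPolynomial (Fin n) A →ₐ[A] S) (p : MvPolynomial (Fin n) A ⊗[A] B) :
    (Nlaw (A := A) (B := B) M).toFun' S (Algebra.TensorProduct.map ψ (AlgHom.id A B) p) =
      ψ (NN M n p) ⊗ₜ[A] (1 : A) := by
  rw [← PolLaw.rTensor_algHom_apply]
  show Groth.Agent.Lib.PolLawRestrH1.toFunS (TT (A := A) (B := B) M) S _ = _
  rw [Groth.Agent.Lib.PolLawRestrH1.toFunS_apply (TT_compat M), TT, LinearMap.rTensor_tmul]
  rfl

theorem Nlaw_isMult : PolLaw.IsMult (Nlaw (A := A) (B := B) M) := by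
  intro S _ _
  constructor
  · have h := Nlaw_apply (A := A) (B := B) M (MvPolynomial.aeval (fun _ : Fin 0 => (0 : S))) 1
    rw [map_one, NN_one, map_one] at h
    rw [h]
    rfl
  · intro x y
    obtain ⟨n, ψ, x₀, y₀, rfl, rfl⟩ := Groth.Agent.Lib.PolLawSurjH1.exists_lift₂ x y
    rw [← map_mul, Nlaw_apply, Nlaw_apply, Nlaw_apply, NN_mul, map_mul,
      Algebra.TensorProduct.tmul_mul_tmul, mul_one]

theorem Nlaw_isHomog (d : ℕ) (hd : Module.finrank (FractionRing A) (FractionRing A ⊗[A] M) = d) :
    PolLaw.IsHomog (Nlaw (A := A) (B := B) M) d := by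
  intro S _ _ s x
  obtain ⟨n, ψ, p, q, rfl, rfl⟩ := PolynomialLaw.exists_lift' x s
  rw [← rT_smul', PolLaw.rTensor_algHom_apply, PolLaw.rTensor_algHom_apply, Nlaw_apply, Nlaw_apply,
    NN_smul M d hd, map_mul, map_pow, TensorProduct.smul_tmul', smul_eq_mul]

theorem Nlaw_self (n : ℕ) (x : MvPolynomial (Fin n) A ⊗[A] B) :
    (Nlaw (A := A) (B := B) M).toFun' (MvPolynomial (Fin n) A) x = NN M n x ⊗ₜ[A] (1 : A) := by
  have h := Nlaw_apply (A := A) (B := B) M (AlgHom.id A (MvPolynomial (Fin n) A)) x
  rw [Algebra.TensorProduct.map_id] at h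
  exact h

theorem Nlaw_spec (n : ℕ) (x : MvPolynomial (Fin n) A ⊗[A] B) :
    algebraMap (MvPolynomial (Fin n) A) (FractionRing (MvPolynomial (Fin n) A))
        (TensorProduct.rid A (MvPolynomial (Fin n) A)
          ((Nlaw (A := A) (B := B) M).toFun' (MvPolynomial (Fin n) A) x)) =
      LinearMap.det (PolLaw.actEnd M (FractionRing (MvPolynomial (Fin n) A))
        (Algebra.TensorProduct.map
          (IsScalarTower.toAlgHom A (MvPolynomial (Fin n) A) (FractionRing (MvPolynomial (Fin n) A)))
          (AlgHom.id A B) x)) := by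
  rw [Nlaw_self, TensorProduct.rid_tmul, one_smul]
  haveI : FaithfulSMul A (FractionRing (MvPolynomial (Fin n) A)) := by
    rw [faithfulSMul_iff_algebraMap_injective]
    rw [IsScalarTower.algebraMap_eq A (MvPolynomial (Fin n) A) (FractionRing (MvPolynomial (Fin n) A))]
    exact (IsFractionRing.injective (MvPolynomial (Fin n) A) _).comp (MvPolynomial.C_injective _ _)
  letI : Algebra (FractionRing A) (FractionRing (MvPolynomial (Fin n) A)) :=
    FractionRing.liftAlgebra A _
  haveI : IsScalarTower A (FractionRing A) (FractionRing (MvPolynomial (Fin n) A)) :=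
    FractionRing.isScalarTower_liftAlgebra A _
  obtain ⟨θ, hθ⟩ : ∃ θ : MvPolynomial (Fin n) (FractionRing A) →ₐ[FractionRing A]
      FractionRing (MvPolynomial (Fin n) A),
      θ = MvPolynomial.aeval (fun i => algebraMap (MvPolynomial (Fin n) A)
        (FractionRing (MvPolynomial (Fin n) A)) (MvPolynomial.X i)) := ⟨_, rfl⟩
  have hcomp : (θ.restrictScalars A).comp (inc n) =
      IsScalarTower.toAlgHom A (MvPolynomial (Fin n) A) (FractionRing (MvPolynomial (Fin n) A)) := by
    apply MvPolynomial.algHom_ext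
    intro i
    simp [hθ, inc]
  have h1 : algebraMap (MvPolynomial (Fin n) A) (FractionRing (MvPolynomial (Fin n) A)) (NN M n x) =
      θ (inc n (NN M n x)) := (AlgHom.congr_fun hcomp (NN M n x)).symm
  rw [h1, inc_NN, ← detAct_natK M θ, ← AlgHom.comp_apply, ← Algebra.TensorProduct.map_comp, hcomp]
  rfl

theorem main13875 (d : ℕ) (hd : Module.finrank (FractionRing A) (FractionRing A ⊗[A] M) = d) :
    ∃! N : PolLaw.MulLaw A B A d, ∀ (n : ℕ) (x : MvPolynomial (Fin n) A ⊗[A] B),
      algebraMap (MvPolynomial (Fin n) A) (FractionRing (MvPolynomial (Fin n) A))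
          (TensorProduct.rid A (MvPolynomial (Fin n) A) (N.law.toFun' (MvPolynomial (Fin n) A) x)) =
        LinearMap.det (PolLaw.actEnd M (FractionRing (MvPolynomial (Fin n) A))
          (Algebra.TensorProduct.map
            (IsScalarTower.toAlgHom A (MvPolynomial (Fin n) A) (FractionRing (MvPolynomial (Fin n) A)))
            (AlgHom.id A B) x)) := by
  refine ⟨⟨Nlaw (A := A) (B := B) M, Nlaw_isHomog M d hd, Nlaw_isMult M⟩, fun n x => Nlaw_spec M n x, ?_⟩
  intro N' h'
  apply PolLaw.MulLaw.ext
  apply Groth.Agent.Lib.PolLawRestrH1.main.1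
  apply Subtype.ext
  funext n x
  show N'.law.toFun' (MvPolynomial (Fin n) A) x = (Nlaw (A := A) (B := B) M).toFun' (MvPolynomial (Fin n) A) x
  apply (TensorProduct.rid A (MvPolynomial (Fin n) A)).injective
  apply IsFractionRing.injective (MvPolynomial (Fin n) A) (FractionRing (MvPolynomial (Fin n) A))
  rw [h', Nlaw_spec]

end Main

end Groth.Agent.Lib.DetNormalH1
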