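import Mathlib

namespace Groth.Agent.Lib.DetPow

open Module

theorem det_mem_pow_of_rows {R : Type*} [CommRing R] {ι : Type*} [Fintype ι] [DecidableEq ι]
    (I : Ideal R) (N : Matrix ι ι R) (T : Finset ι) (hT : ∀ i ∈ T, ∀ j, N i j ∈ I) :
    N.det ∈ I ^ T.card := by
  rw [← Matrix.det_transpose, Matrix.det_apply]
  refine Ideal.sum_mem _ fun σ _ => ?_
  have h1 : ∏ i, N.transpose (σ i) i ∈ I ^ T.card := by
    rw [← Finset.prod_mul_prod_compl T]
    refine Ideal.mul_mem_right _ _ ?_
    rw [← Finset.prod_const]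
    exact Ideal.prod_mem_prod fun i hi => hT i hi (σ i)
  rcases Int.units_eq_one_or (Equiv.Perm.sign σ) with h | h <;> rw [h]
  · simpa using h1
  · simpa using (I ^ T.card).neg_mem h1

theorem gen {R : Type*} [CommRing R] {k : Type*} [Field k] (f : R →+* k)
    (hf : Function.Surjective f) (hunit : ∀ x, f x ≠ 0 → IsUnit x)
    {ι : Type*} [Fintype ι] [DecidableEq ι]
    (M : Matrix ι ι R) (r : ℕ) (hr : (M.map f).rank ≤ r) :
    M.det ∈ RingHom.ker f ^ (Fintype.card ι - r) := by
  classical
  obtain ⟨Mb, hMb⟩ : ∃ Mb : Matrix ι ι k, Mb = M.map f := ⟨_, rfl⟩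
  rw [← hMb] at hr
  obtain ⟨W, hW⟩ : ∃ W : Submodule k (ι → k), W = LinearMap.range Mb.mulVecLin := ⟨_, rfl⟩
  have hs : finrank k W ≤ r := by rw [hW]; exact hr
  obtain ⟨W', hc⟩ := Submodule.exists_isCompl W
  have hdim : finrank k W + finrank k W' = Fintype.card ι := by
    rw [Submodule.finrank_add_eq_of_isCompl hc, Module.finrank_fintype_fun_eq_card]
  let b := Module.finBasis k W
  let b' := Module.finBasis k W'
  have hcard : Fintype.card (Fin (finrank k W) ⊕ Fin (finrank k W')) = Fintype.card ι := by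
    rw [Fintype.card_sum, Fintype.card_fin, Fintype.card_fin]; exact hdim
  let e : Fin (finrank k W) ⊕ Fin (finrank k W') ≃ ι := Fintype.equivOfCardEq hcard
  obtain ⟨B, hB⟩ : ∃ B : Module.Basis ι k (ι → k),
      ∀ w ∈ W, ∀ j : Fin (finrank k W'), B.repr w (e (Sum.inr j)) = 0 := by
    refine ⟨((b.prod b').map (Submodule.prodEquivOfIsCompl W W' hc)).reindex e, ?_⟩
    intro w hw j
    have h1 : (Submodule.prodEquivOfIsCompl W W' hc).symm w = ((⟨w, hw⟩ : ↥W), (0 : ↥W')) :=
      Submodule.prodEquivOfIsCompl_symm_apply_left W W' hc ⟨w, hw⟩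
    rw [Module.Basis.repr_reindex_apply, Equiv.symm_apply_apply, Module.Basis.map_repr,
      LinearEquiv.trans_apply, h1, Module.Basis.prod_repr_inr]
    simp
  obtain ⟨Pb, hPb⟩ : ∃ Pb : Matrix ι ι k, Pb = B.toMatrix (Pi.basisFun k ι) := ⟨_, rfl⟩
  have hPbdet : Pb.det ≠ 0 := by
    have h1 := Module.Basis.toMatrix_mul_toMatrix_flip B (Pi.basisFun k ι)
    have h2 := congrArg Matrix.det h1
    rw [Matrix.det_mul, Matrix.det_one, ← hPb] at h2
    exact left_ne_zero_of_mul_eq_one h2
  choose lift hlift using hf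
  let P : Matrix ι ι R := Matrix.of fun i j => lift (Pb i j)
  have hPmap : P.map f = Pb := by
    ext i j; simp [P, hlift]
  have hPdet : IsUnit P.det := by
    have h1 : f P.det = Pb.det := by
      rw [RingHom.map_det, RingHom.mapMatrix_apply, hPmap]
    exact hunit _ (h1 ▸ hPbdet)
  let T : Finset ι := Finset.univ.image (fun j : Fin (finrank k W') => e (Sum.inr j))
  have hTcard : T.card = finrank k W' := by
    rw [Finset.card_image_of_injective _ (fun a b h => Sum.inr_injective (e.injective h))]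
    simp
  have hrows : ∀ i ∈ T, ∀ j, (P * M) i j ∈ RingHom.ker f := by
    intro i hi j
    obtain ⟨j', _, rfl⟩ := Finset.mem_image.mp hi
    rw [RingHom.mem_ker]
    have h1 : f ((P * M) (e (Sum.inr j')) j) = (Pb * Mb) (e (Sum.inr j')) j := by
      have := Matrix.map_mul (L := P) (M := M) (f := f)
      rw [hPmap, ← hMb] at this
      rw [← this]; rfl
    rw [h1]
    have hcolmem : (fun l => Mb l j) ∈ W := by
      rw [hW]
      refine ⟨Pi.single j 1, ?_⟩
      ext l; simp [Matrix.mulVec, dotProduct, Pi.single_apply]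
    have hcol : (fun l => Mb l j) = ∑ l, Mb l j • (Pi.single l 1 : ι → k) := by
      funext l'; simp [Finset.sum_apply, Pi.single_apply]
    have h2 : B.repr (fun l => Mb l j) (e (Sum.inr j')) = (Pb * Mb) (e (Sum.inr j')) j := by
      conv_lhs => rw [hcol]
      rw [map_sum, Finsupp.coe_finsetSum, Finset.sum_apply, Matrix.mul_apply]
      refine Finset.sum_congr rfl fun l _ => ?_
      rw [map_smul, Finsupp.smul_apply, smul_eq_mul, mul_comm]
      congr 1
      rw [hPb, Module.Basis.toMatrix_apply, Pi.basisFun_apply]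
    rw [← h2]; exact hB _ hcolmem j'
  have h3 := det_mem_pow_of_rows (RingHom.ker f) (P * M) T hrows
  rw [Matrix.det_mul, hTcard] at h3
  have h4 : M.det ∈ RingHom.ker f ^ finrank k W' := by
    obtain ⟨u, hu⟩ := hPdet
    have : M.det = (↑u⁻¹ : R) * (P.det * M.det) := by rw [← hu]; simp [← mul_assoc]
    rw [this]; exact Ideal.mul_mem_left _ _ h3
  exact Ideal.pow_le_pow_right (by omega) h4

theorem main {R : Type*} [CommRing R] [IsLocalRing R]
    {n : ℕ} (M : Matrix (Fin n) (Fin n) R) (r : ℕ)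
    (hr : (M.map (IsLocalRing.residue R)).rank ≤ r) :
    M.det ∈ IsLocalRing.maximalIdeal R ^ (n - r) := by
  have hunit : ∀ x : R, IsLocalRing.residue R x ≠ 0 → IsUnit x := by
    intro x hx
    by_contra h
    exact hx ((IsLocalRing.residue_eq_zero_iff x).mpr ((IsLocalRing.mem_maximalIdeal x).mpr h))
  have := gen (IsLocalRing.residue R) IsLocalRing.residue_surjective hunit M r hr
  rwa [IsLocalRing.ker_residue, Fintype.card_fin] at this

end Groth.Agent.Lib.DetPow
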