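import Mathlib

/-!
# A gluing lemma for modules (helper6)

Two modules generated by families `g`, `g'` indexed by the same set are isomorphic as soon as,
locally at every maximal ideal, there are "coordinate" functionals with torsion kernels that agree
on the generators and take a unit value on some generator.
-/

universe u v

namespace Groth.Agent.Lib.HilbChowH6

variable {A : Type u} [CommRing A] {L L' : Type v} [AddCommGroup L] [Module A L]
  [AddCommGroup L'] [Module A L']

/-- an element killed locally at every maximal ideal is zero -/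
theorem eq_zero_of_forall_maximal (x : L)
    (h : ∀ (m : Ideal A) [m.IsMaximal], ∃ s, s ∉ m ∧ s • x = 0) : x = 0 := by
  by_contra hx
  let I : Ideal A := (Submodule.span A {x}).annihilator
  have hI : I ≠ ⊤ := by
    intro htop
    apply hx
    have h1 : (1 : A) ∈ I := by rw [htop]; trivial
    have := Submodule.mem_annihilator.mp h1 x (Submodule.mem_span_singleton_self x)
    simpa using this
  obtain ⟨m, hm, hIm⟩ := Ideal.exists_le_maximal I hI
  obtain ⟨s, hs, hsx⟩ := h m
  apply hs
  apply hIm
  rw [Submodule.mem_annihilator_span_singleton]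
  exact hsx

/-- an element locally in a submodule at every maximal ideal is in the submodule -/
theorem mem_of_forall_maximal (N : Submodule A L) (x : L)
    (h : ∀ (m : Ideal A) [m.IsMaximal], ∃ s, s ∉ m ∧ s • x ∈ N) : x ∈ N := by
  have h1 : N.mkQ x = 0 := by
    apply eq_zero_of_forall_maximal (A := A)
    intro m _
    obtain ⟨s, hs, hsx⟩ := h m
    refine ⟨s, hs, ?_⟩
    rw [← map_smul, Submodule.mkQ_apply, Submodule.Quotient.mk_eq_zero]
    exact hsx
  rwa [Submodule.mkQ_apply, Submodule.Quotient.mk_eq_zero] at h1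

variable {ι : Type*} (g : ι → L) (g' : ι → L')

theorem exists_linearEquiv_of_local
    (H : ∀ (m : Ideal A) [m.IsMaximal], ∃ (lam : L →ₗ[A] Localization.AtPrime m)
      (lam' : L' →ₗ[A] Localization.AtPrime m),
      (∀ i, lam (g i) = lam' (g' i)) ∧ (∀ l, lam l = 0 → ∃ s, s ∉ m ∧ s • l = 0) ∧
      (∀ l, lam' l = 0 → ∃ s, s ∉ m ∧ s • l = 0) ∧ ∃ i, IsUnit (lam (g i))) :
    Nonempty (L ≃ₗ[A] L') := by
  classical
  let π : (ι →₀ A) →ₗ[A] L := Finsupp.linearCombination A g
  let π' : (ι →₀ A) →ₗ[A] L' := Finsupp.linearCombination A g'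
  have hcomp : ∀ (m : Ideal A) [m.IsMaximal] (lam : L →ₗ[A] Localization.AtPrime m)
      (lam' : L' →ₗ[A] Localization.AtPrime m), (∀ i, lam (g i) = lam' (g' i)) →
      ∀ z, lam (π z) = lam' (π' z) := by
    intro m _ lam lam' h z
    have : lam ∘ₗ π = lam' ∘ₗ π' := by
      refine Finsupp.lhom_ext' (fun i => LinearMap.ext_ring ?_)
      simp [π, π', h i]
    exact LinearMap.congr_fun this z
  have hker : LinearMap.ker π = LinearMap.ker π' := by
    apply le_antisymm
    · intro z hz
      rw [LinearMap.mem_ker] at hz ⊢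
      apply eq_zero_of_forall_maximal (A := A)
      intro m _
      obtain ⟨lam, lam', h1, _, h3, _⟩ := H m
      apply h3
      rw [← hcomp m lam lam' h1 z, hz, map_zero]
    · intro z hz
      rw [LinearMap.mem_ker] at hz ⊢
      apply eq_zero_of_forall_maximal (A := A)
      intro m _
      obtain ⟨lam, lam', h1, h2, _, _⟩ := H m
      apply h2
      rw [hcomp m lam lam' h1 z, hz, map_zero]
  -- a general surjectivity argument
  have hsurj_aux : ∀ {K : Type v} [AddCommGroup K] [Module A K] (ρ : (ι →₀ A) →ₗ[A] K)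
      (_ : ∀ (m : Ideal A) [m.IsMaximal], ∃ (mu : K →ₗ[A] Localization.AtPrime m),
        (∀ l, mu l = 0 → ∃ s, s ∉ m ∧ s • l = 0) ∧ ∃ z, IsUnit (mu (ρ z))),
      Function.Surjective ρ := by
    intro K _ _ ρ hρ l
    suffices h : l ∈ LinearMap.range ρ from h
    apply mem_of_forall_maximal (A := A)
    intro m _
    obtain ⟨mu, hmu, z, hz⟩ := hρ m
    obtain ⟨u, hu⟩ := hz
    obtain ⟨⟨a, s⟩, has⟩ := IsLocalization.surj m.primeCompl
      ((↑u⁻¹ : Localization.AtPrime m) * mu l)
    -- `has : u⁻¹ * mu l * algebraMap s = algebraMap a`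
    have h1 : mu ((s : A) • l - a • ρ z) = 0 := by
      rw [map_sub, map_smul, map_smul, ← hu, Algebra.smul_def, Algebra.smul_def]
      have h2 : (algebraMap A (Localization.AtPrime m)) a =
          (↑u⁻¹ : Localization.AtPrime m) * mu l * (algebraMap A (Localization.AtPrime m)) s :=
        has.symm
      rw [h2]
      have h3 : (↑u⁻¹ : Localization.AtPrime m) * mu l *
          (algebraMap A (Localization.AtPrime m)) s * (u : Localization.AtPrime m) =
          (algebraMap A (Localization.AtPrime m)) s * mu l * ((↑u⁻¹ : Localization.AtPrime m) * u) := by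
        ring
      rw [h3, Units.inv_mul, mul_one, sub_self]
    obtain ⟨s', hs', hs'l⟩ := hmu _ h1
    refine ⟨s' * s, ?_, ?_⟩
    · intro hmem
      rcases (Ideal.IsMaximal.isPrime ‹_›).mem_or_mem hmem with h | h
      · exact hs' h
      · exact s.2 h
    · rw [smul_sub, sub_eq_zero] at hs'l
      rw [mul_smul, hs'l, ← map_smul, ← map_smul]
      exact LinearMap.mem_range_self _ _
  have hsurj : Function.Surjective π := by
    apply hsurj_aux π
    intro m _
    obtain ⟨lam, lam', _, h2, _, i, hi⟩ := H m
    refine ⟨lam, h2, Finsupp.single i 1, ?_⟩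
    simpa [π] using hi
  have hsurj' : Function.Surjective π' := by
    apply hsurj_aux π'
    intro m _
    obtain ⟨lam, lam', h1, _, h3, i, hi⟩ := H m
    refine ⟨lam', h3, Finsupp.single i 1, ?_⟩
    rw [h1 i] at hi
    simpa [π'] using hi
  exact ⟨(π.quotKerEquivOfSurjective hsurj).symm ≪≫ₗ
    Submodule.quotEquivOfEq _ _ hker ≪≫ₗ π'.quotKerEquivOfSurjective hsurj'⟩

end Groth.Agent.Lib.HilbChowH6
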