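import Mathlib
import Groth.Agent.Lib.ExtBC1_helper9

/-!
# Determinant functionals on top exterior powers and localization (helper6)

For an `A`-module `N` whose localization `F` (over `A' = S⁻¹A`) is free with basis `β` indexed by
`Fin n`, the functional `δ : ⋀[A]^n N → A'`, `v₁ ∧ … ∧ vₙ ↦ det_β (ψ v₁, …, ψ vₙ)` is a localization
map.
-/

open scoped TensorProduct

universe u

namespace Groth.Agent.Lib.HilbChowH6

open Module

section Top

variable {R : Type u} [CommRing R] {F : Type u} [AddCommGroup F] [Module R F] {n : ℕ}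
  (β : Basis (Fin n) R F)

/-- the determinant functional on the top exterior power of a free module -/
noncomputable def detTop : ⋀[R]^n F →ₗ[R] R := exteriorPower.alternatingMapLinearEquiv β.det

@[simp]
theorem detTop_ιMulti (v : Fin n → F) : detTop β (exteriorPower.ιMulti R n v) = β.det v := by
  simp [detTop, exteriorPower.alternatingMapLinearEquiv_apply_ιMulti]

theorem detTop_bijective : Function.Bijective (detTop β) := by
  have hsurj : Function.Surjective (detTop β) := by
    intro a
    refine ⟨a • exteriorPower.ιMulti R n β, ?_⟩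
    rw [map_smul, detTop_ιMulti, Basis.det_self, smul_eq_mul, mul_one]
  refine ⟨?_, hsurj⟩
  rcases subsingleton_or_nontrivial R with hR | hR
  · intro x y _
    haveI : Subsingleton (⋀[R]^n F) := Module.subsingleton R _
    exact Subsingleton.elim _ _
  haveI : Module.Free R F := Module.Free.of_basis β
  haveI : Module.Finite R F := Module.Finite.of_basis β
  have hrank : Module.finrank R (⋀[R]^n F) = 1 := by
    rw [exteriorPower.finrank_eq, Module.finrank_eq_card_basis β, Fintype.card_fin,
      Nat.choose_self]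
  let b₁ : Basis (Fin 1) R (⋀[R]^n F) := Module.finBasisOfFinrankEq R _ hrank
  let e₁ : (⋀[R]^n F) ≃ₗ[R] R := b₁.equivFun ≪≫ₗ LinearEquiv.funUnique (Fin 1) R R
  have h2 : Function.Surjective ((detTop β) ∘ₗ e₁.symm.toLinearMap) :=
    hsurj.comp e₁.symm.surjective
  have h3 := OrzechProperty.injective_of_surjective_endomorphism _ h2
  intro x y hxy
  apply e₁.injective
  apply h3
  simp only [LinearMap.coe_comp, LinearEquiv.coe_coe, Function.comp_apply,
    LinearEquiv.symm_apply_apply]
  exact hxy

end Top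

section Delta

variable {A : Type u} [CommRing A] (S : Submonoid A) (A' : Type u) [CommRing A'] [Algebra A A']
  [IsLocalization S A']
  {N : Type u} [AddCommGroup N] [Module A N] {F : Type u} [AddCommGroup F] [Module A F]
  [Module A' F] [IsScalarTower A A' F]
  (ψ : N →ₗ[A] F) {n : ℕ} (β : Basis (Fin n) A' F)

/-- the `A`-alternating map `v ↦ det_β (ψ v₁, …, ψ vₙ)` -/
noncomputable def deltaAlt : N [⋀^Fin n]→ₗ[A] A' :=
  { ((β.det).toMultilinearMap.restrictScalars A).compLinearMap (fun _ => ψ) with
    map_eq_zero_of_eq' := by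
      intro v i j h hij
      exact (β.det).map_eq_zero_of_eq _ (by simp [h]) hij }

@[simp] theorem deltaAlt_apply (v : Fin n → N) :
    deltaAlt A' ψ β v = β.det (fun i => ψ (v i)) := rfl

/-- `v₁ ∧ … ∧ vₙ ↦ det_β (ψ v₁, …, ψ vₙ)` -/
noncomputable def delta : ⋀[A]^n N →ₗ[A] A' :=
  exteriorPower.alternatingMapLinearEquiv (deltaAlt A' ψ β)

@[simp]
theorem delta_ιMulti (v : Fin n → N) :
    delta A' ψ β (exteriorPower.ιMulti A n v) = β.det (fun i => ψ (v i)) := by
  simp [delta, exteriorPower.alternatingMapLinearEquiv_apply_ιMulti]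

variable [IsLocalizedModule S ψ]

/-- the `A'`-linear isomorphism `A' ⊗ ⋀ⁿ N ≃ A'` -/
noncomputable def thetaEquiv : A' ⊗[A] (⋀[A]^n N) ≃ₗ[A'] A' :=
  (Groth.Agent.ExtBC9.equivP A A' N n) ≪≫ₗ
    (LinearEquiv.ofBijective (exteriorPower.map n
      ((IsLocalizedModule.isBaseChange S A' ψ).equiv).toLinearMap)
      (Groth.Agent.ExtBC9.map_bijective_of_equiv n _)) ≪≫ₗ
    (LinearEquiv.ofBijective (detTop β) (detTop_bijective β))

theorem thetaEquiv_tmul (a : A') (v : Fin n → N) :
    thetaEquiv S A' ψ β (a ⊗ₜ[A] exteriorPower.ιMulti A n v) =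
      a * β.det (fun i => ψ (v i)) := by
  simp only [thetaEquiv, LinearEquiv.trans_apply, Groth.Agent.ExtBC9.equivP_tmul, map_smul,
    LinearEquiv.ofBijective_apply, exteriorPower.map_apply_ιMulti, detTop_ιMulti, smul_eq_mul]
  congr 2
  funext i
  simp [IsBaseChange.equiv_tmul]

theorem delta_eq :
    delta A' ψ β = ((thetaEquiv S A' ψ β).restrictScalars A).toLinearMap ∘ₗ
      (TensorProduct.mk A A' (⋀[A]^n N) 1) := by
  apply exteriorPower.linearMap_ext
  ext v
  simp only [LinearMap.compAlternatingMap_apply, delta_ιMulti, LinearMap.coe_comp,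
    LinearEquiv.coe_coe, Function.comp_apply, TensorProduct.mk_apply,
    LinearEquiv.restrictScalars_apply]
  rw [thetaEquiv_tmul, one_mul]

theorem isLocalizedModule_delta : IsLocalizedModule S (delta A' ψ β) := by
  rw [delta_eq S A' ψ β]
  exact IsLocalizedModule.of_linearEquiv S (TensorProduct.mk A A' (⋀[A]^n N) 1)
    ((thetaEquiv S A' ψ β).restrictScalars A)

end Delta

section Mul

variable {A : Type u} [CommRing A] (S : Submonoid A) (A' : Type u) [CommRing A'] [Algebra A A']
  [IsLocalization S A']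

include S in
theorem mul'_bijective : Function.Bijective (LinearMap.mul' A A') := by
  have : IsLocalizedModule S (LinearMap.id : A' →ₗ[A] A') := isLocalizedModule_id S A' A'
  let e : A' ≃ₗ[A] A' ⊗[A] A' :=
    IsLocalizedModule.linearEquiv S (LinearMap.id : A' →ₗ[A] A') (TensorProduct.mk A A' A' 1)
  have he : ∀ x, e x = (1 : A') ⊗ₜ[A] x := by
    intro x
    have := IsLocalizedModule.linearEquiv_apply S (LinearMap.id : A' →ₗ[A] A')
      (TensorProduct.mk A A' A' 1) x
    simpa using this
  have h1 : (LinearMap.mul' A A') ∘ₗ e.toLinearMap = LinearMap.id := by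
    ext x
    simp [he]
  have h2 : Function.LeftInverse (LinearMap.mul' A A') e := fun x => LinearMap.congr_fun h1 x
  refine ⟨?_, h2.surjective⟩
  intro x y hxy
  obtain ⟨x', rfl⟩ := e.surjective x
  obtain ⟨y', rfl⟩ := e.surjective y
  rw [h2 x', h2 y'] at hxy
  rw [hxy]

variable {L₁ L₂ : Type u} [AddCommMonoid L₁] [Module A L₁] [AddCommMonoid L₂] [Module A L₂]
  (d₁ : L₁ →ₗ[A] A') (d₂ : L₂ →ₗ[A] A')

/-- the product of two functionals on a tensor product -/
noncomputable def mulMap : L₁ ⊗[A] L₂ →ₗ[A] A' :=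
  (LinearMap.mul' A A') ∘ₗ (TensorProduct.map d₁ d₂)

@[simp]
theorem mulMap_tmul (x : L₁) (y : L₂) : mulMap A' d₁ d₂ (x ⊗ₜ[A] y) = d₁ x * d₂ y := by
  simp [mulMap]

theorem isLocalizedModule_mulMap [IsLocalizedModule S d₁] [IsLocalizedModule S d₂] :
    IsLocalizedModule S (mulMap A' d₁ d₂) := by
  unfold mulMap
  exact (IsLocalizedModule.comp_iff_of_bijective_left (S := S) (f := TensorProduct.map d₁ d₂)
    (LinearMap.mul' A A') (mul'_bijective S A')).mpr inferInstance

end Mul

end Groth.Agent.Lib.HilbChowH6
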