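import Mathlib
import Groth.Agent.Lib.HilbChow2_helper6

/-!
# Tensor powers of localization functionals, and a block determinant formula (helper6)
-/

open scoped TensorProduct

universe u

namespace Groth.Agent.Lib.HilbChowH6

open Module

section Pow

variable {A : Type u} [CommRing A] (S : Submonoid A) (A' : Type u) [CommRing A'] [Algebra A A']
  [IsLocalization S A'] {L : Type u} [AddCommGroup L] [Module A L] (d : L →ₗ[A] A')

/-- `ω₁ ⊗ … ⊗ ω_j ↦ ∏ d ω_i` -/
noncomputable def powMap (j : ℕ) : (⨂[A]^j L) →ₗ[A] A' :=
  PiTensorProduct.lift ((MultilinearMap.mkPiAlgebra A (Fin j) A').compLinearMap (fun _ => d))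

@[simp]
theorem powMap_tprod (j : ℕ) (w : Fin j → L) :
    powMap A' d j (PiTensorProduct.tprod A w) = ∏ i, d (w i) := by
  simp [powMap]

theorem powMap_zero_eq :
    powMap A' d 0 = (Algebra.linearMap A A') ∘ₗ
      (PiTensorProduct.isEmptyEquiv (R := A) (s := fun _ : Fin 0 => L) (Fin 0)).toLinearMap := by
  apply PiTensorProduct.ext
  ext w
  simp

theorem powMap_one_eq :
    powMap A' d 1 = d ∘ₗ
      (PiTensorProduct.subsingletonEquiv (R := A) (s := fun _ : Fin 1 => L) (0 : Fin 1)).toLinearMap := by
  apply PiTensorProduct.ext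
  ext w
  simp

theorem powMap_succ_eq (j : ℕ) :
    (powMap A' d (j + 1)) ∘ₗ (TensorPower.mulEquiv (R := A) (M := L) (n := j) (m := 1)).toLinearMap =
      mulMap A' (powMap A' d j) (powMap A' d 1) := by
  apply TensorProduct.ext
  apply PiTensorProduct.ext
  ext a b
  change powMap A' d (j + 1) (TensorPower.mulEquiv
      ((PiTensorProduct.tprod A a) ⊗ₜ[A] (PiTensorProduct.tprod A b))) =
    mulMap A' (powMap A' d j) (powMap A' d 1)
      ((PiTensorProduct.tprod A a) ⊗ₜ[A] (PiTensorProduct.tprod A b))
  rw [← TensorPower.gMul_def, TensorPower.tprod_mul_tprod, powMap_tprod, Fin.prod_univ_add,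
    mulMap_tmul, powMap_tprod, powMap_tprod]
  simp

theorem isLocalizedModule_powMap [IsLocalizedModule S d] (j : ℕ) :
    IsLocalizedModule S (powMap A' d j) := by
  have h1 : IsLocalizedModule S (powMap A' d 1) := by
    rw [powMap_one_eq]
    exact IsLocalizedModule.of_linearEquiv_right S d _
  induction j with
  | zero =>
    rw [powMap_zero_eq]
    exact IsLocalizedModule.of_linearEquiv_right S (Algebra.linearMap A A') _
  | succ j ih =>
    have h2 : IsLocalizedModule S (mulMap A' (powMap A' d j) (powMap A' d 1)) :=
      isLocalizedModule_mulMap S A' _ _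
    rw [← powMap_succ_eq] at h2
    have h3 : powMap A' d (j + 1) =
        ((powMap A' d (j + 1)) ∘ₗ
          (TensorPower.mulEquiv (R := A) (M := L) (n := j) (m := 1)).toLinearMap) ∘ₗ
        (TensorPower.mulEquiv (R := A) (M := L) (n := j) (m := 1)).symm.toLinearMap := by
      ext x
      simp
    rw [h3]
    exact IsLocalizedModule.of_linearEquiv_right S _ _

end Pow

section Block

variable {R T : Type u} [CommRing R] [CommRing T] [Algebra R T] {n k : ℕ}
  (β : Basis (Fin n) R T)

/-- the determinant of the family `b'_i • v_j` with respect to the basis `β_i • ε_j` -/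
theorem det_smulTower_family (b' : Fin n → T) (v : Fin k → (Fin k → T)) :
    (β.smulTower (Pi.basisFun T (Fin k))).det (fun p : Fin n × Fin k => b' p.1 • v p.2) =
      Algebra.norm R ((Pi.basisFun T (Fin k)).det v) * (β.det b') ^ k := by
  classical
  haveI : Module.Free R T := Module.Free.of_basis β
  haveI : Module.Finite R T := Module.Finite.of_basis β
  set ε := Pi.basisFun T (Fin k) with hε
  let U : (Fin k → T) →ₗ[T] (Fin k → T) := ε.constr T v
  let gb : T →ₗ[R] T := β.constr R b'
  let G : (Fin k → T) →ₗ[R] (Fin k → T) :=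
    LinearMap.pi (fun j => gb ∘ₗ (LinearMap.proj j))
  have hU : LinearMap.det U = ε.det v := by
    have h := Basis.det_comp ε U ε
    rw [Basis.det_self, mul_one] at h
    rw [← h]
    congr 1
    funext j
    simp [U, Basis.constr_basis]
  have hgb : LinearMap.det gb = β.det b' := by
    have h := Basis.det_comp β gb β
    rw [Basis.det_self, mul_one] at h
    rw [← h]
    congr 1
    funext j
    simp [gb, Basis.constr_basis]
  have hG : LinearMap.det G = (β.det b') ^ k := by
    rw [LinearMap.det_pi, Finset.prod_const, Finset.card_univ, Fintype.card_fin, hgb]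
  have hfam : (fun p : Fin n × Fin k => b' p.1 • v p.2) =
      ((U.restrictScalars R) ∘ₗ G) ∘ (β.smulTower ε) := by
    funext p
    obtain ⟨i, j⟩ := p
    simp only [Function.comp_apply, LinearMap.coe_comp, LinearMap.coe_restrictScalars,
      Basis.smulTower_apply]
    have h1 : G (β i • ε j) = b' i • ε j := by
      funext j'
      simp only [G, LinearMap.pi_apply, LinearMap.coe_comp, LinearMap.coe_proj,
        Function.comp_apply, Function.eval, Pi.smul_apply, hε, Pi.basisFun_apply, smul_eq_mul]
      by_cases hjj : j' = j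
      · subst hjj
        simp [gb, Basis.constr_basis]
      · simp [Pi.single_apply, hjj]
    rw [h1, map_smul]
    congr 1
    simp [U, Basis.constr_basis]
  rw [hfam, Basis.det_comp, Basis.det_self, mul_one, LinearMap.det_comp,
    LinearMap.det_restrictScalars, hU, hG]

/-- a family which is a unit multiple of a basis has unit determinant (module version) -/
theorem isUnit_det_of_smul' {F : Type u} [AddCommGroup F] [Module R F] {ι : Type} [Fintype ι]
    [DecidableEq ι] (γ : Basis ι R F)
    (w : ι → F) (s : ι → R) (hs : ∀ i, IsUnit (s i))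
    (hw : ∀ i, w i = s i • γ i) : IsUnit (γ.det w) := by
  have h1 : w = fun i => s i • γ i := funext hw
  rw [h1, (γ.det).map_smul_univ, Basis.det_self, smul_eq_mul, mul_one]
  exact IsUnit.prod_univ_iff.mpr (fun i => hs i)

end Block

end Groth.Agent.Lib.HilbChowH6
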