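import Mathlib
import Groth.Agent.Lib.HilbChow1_helper6
import Groth.Agent.Lib.HilbChow2_helper6
import Groth.Agent.Lib.HilbChow6_helper6

/-!
# The top exterior power of a complement of a free summand in a free module is free (helper6)

If `E` is free with a basis indexed by `Fin m ⊕ Fin r`, `K` is finite projective of constant rank
`m`, `σ : K → E` is linear and `e : Fin r → E` is a family such that `σ K + span e = E`, then
`ω ↦ det (σ ω₁, …, σ ω_m, e₁, …, e_r)` is an isomorphism `⋀^m K ≃ B`.
-/

open scoped TensorProduct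

universe u

namespace Groth.Agent.Lib.DetStabH6

open Module Groth.Agent.Lib.HilbChowH6

section LocalCoord

variable {B : Type u} [CommRing B] (q : Ideal B) [hq : q.IsPrime] (K : Type u) [AddCommGroup K]
  [Module B K] [Module.Finite B K] [Module.Projective B K]

theorem exists_coord_local (k : ℕ) (hk : rankAtStalk K ⟨q, hq⟩ = k) :
    ∃ c : K →ₗ[B] (Fin k → Localization.AtPrime q), IsLocalizedModule q.primeCompl c := by
  haveI : Module.Free (Localization.AtPrime q) (LocalizedModule q.primeCompl K) :=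
    Module.free_of_flat_of_isLocalRing
  let b : Basis (Fin k) (Localization.AtPrime q) (LocalizedModule q.primeCompl K) :=
    Module.finBasisOfFinrankEq _ _ hk
  refine ⟨(b.equivFun.restrictScalars B).toLinearMap ∘ₗ
    LocalizedModule.mkLinearMap q.primeCompl K, ?_⟩
  exact IsLocalizedModule.of_linearEquiv q.primeCompl (LocalizedModule.mkLinearMap q.primeCompl K)
    (b.equivFun.restrictScalars B)

end LocalCoord

section D

variable {B : Type u} [CommRing B] {E : Type u} [AddCommGroup E] [Module B E] {m r : ℕ}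
  (ε : Basis (Fin m ⊕ Fin r) B E)
  {K : Type u} [AddCommGroup K] [Module B K]
  (σ : K →ₗ[B] E) (e : Fin r → E)

omit [Module B E] [Module B K] in
theorem elim_update (σ : K → E) (ω : Fin m → K) (j : Fin m) (x : K) :
    (Sum.elim (fun j' => σ (Function.update ω j x j')) e) =
      Function.update (Sum.elim (fun j' => σ (ω j')) e) (Sum.inl j) (σ x) := by
  funext i
  rcases i with j' | i
  · by_cases h : j' = j
    · subst h; simp
    · simp [Function.update_of_ne h, Function.update_of_ne (show Sum.inl j' ≠ Sum.inl j by simpa using h)]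
  · simp

/-- `ω ↦ det (σ ω₁, …, σ ω_m, e₁, …, e_r)` as an alternating map -/
noncomputable def phiAlt : K [⋀^Fin m]→ₗ[B] B where
  toFun ω := ε.det (Sum.elim (fun j => σ (ω j)) e)
  map_update_add' := by
    intro inst ω j x y
    obtain rfl : inst = instDecidableEqFin m := Subsingleton.elim _ _
    change ε.det (Sum.elim (fun j' => (σ : K → E) (Function.update ω j (x + y) j')) e) =
      ε.det (Sum.elim (fun j' => (σ : K → E) (Function.update ω j x j')) e) +
      ε.det (Sum.elim (fun j' => (σ : K → E) (Function.update ω j y j')) e)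
    rw [elim_update, elim_update, elim_update, map_add]
    exact (ε.det).map_update_add _ _ _ _
  map_update_smul' := by
    intro inst ω j a x
    obtain rfl : inst = instDecidableEqFin m := Subsingleton.elim _ _
    change ε.det (Sum.elim (fun j' => (σ : K → E) (Function.update ω j (a • x) j')) e) =
      a • ε.det (Sum.elim (fun j' => (σ : K → E) (Function.update ω j x j')) e)
    rw [elim_update, elim_update, map_smul]
    exact (ε.det).map_update_smul _ _ _ _
  map_eq_zero_of_eq' ω i j h hij :=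
    (ε.det).map_eq_zero_of_eq _ (i := Sum.inl i) (j := Sum.inl j) (by simp [h]) (by simpa using hij)

/-- the induced map on the exterior power -/
noncomputable def phi : ⋀[B]^m K →ₗ[B] B := exteriorPower.alternatingMapLinearEquiv (phiAlt ε σ e)

theorem phi_ιMulti (ω : Fin m → K) :
    phi ε σ e (exteriorPower.ιMulti B m ω) = ε.det (Sum.elim (fun j => σ (ω j)) e) := by
  simp [phi, exteriorPower.alternatingMapLinearEquiv_apply_ιMulti, phiAlt]

/-- if a family `v` spans `E` up to a multiplier `s` on each basis vector, then `det v ∣ s ^ N` -/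
theorem det_dvd_pow {ι : Type} [Fintype ι] [DecidableEq ι] (γ : Basis ι B E) (v : ι → E) (s : B)
    (h : ∀ l, s • γ l ∈ Submodule.span B (Set.range v)) :
    ∃ N : ℕ, γ.det v ∣ s ^ N := by
  let T : E →ₗ[B] E := γ.constr B v
  have hT : LinearMap.range T = Submodule.span B (Set.range v) := γ.constr_range B
  have hdetT : LinearMap.det T = γ.det v := by
    have h1 := Basis.det_comp γ T γ
    rw [Basis.det_self, mul_one] at h1
    rw [← h1]
    congr 1
    funext j
    simp [T, Basis.constr_basis]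
  have h2 : ∀ l, ∃ p, T p = s • γ l := by
    intro l
    have := h l
    rw [← hT] at this
    exact this
  choose p hp using h2
  let C : E →ₗ[B] E := γ.constr B p
  have hTC : T ∘ₗ C = s • LinearMap.id := by
    apply γ.ext
    intro l
    simp [C, Basis.constr_basis, hp]
  haveI : Module.Free B E := Module.Free.of_basis γ
  refine ⟨Module.finrank B E, ?_⟩
  have h3 := congrArg LinearMap.det hTC
  rw [LinearMap.det_comp, LinearMap.det_smul, LinearMap.det_id, mul_one, hdetT] at h3
  exact ⟨_, h3.symm⟩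

variable [Module.Finite B K] [Module.Projective B K]

theorem key (hrank : ∀ q : PrimeSpectrum B, rankAtStalk K q = m)
    (hspan : LinearMap.range σ ⊔ Submodule.span B (Set.range e) = ⊤)
    (q : Ideal B) [hq : q.IsPrime] :
    ∃ (lam : ⋀[B]^m K →ₗ[B] Localization.AtPrime q) (u : Localization.AtPrime q)
      (ω₀ : Fin m → K), IsUnit u ∧
      (∀ x, algebraMap B (Localization.AtPrime q) (phi ε σ e x) = lam x * u) ∧
      (∀ x, lam x = 0 → ∃ s, s ∉ q ∧ s • x = 0) ∧
      phi ε σ e (exteriorPower.ιMulti B m ω₀) ∉ q := by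
  classical
  let S := q.primeCompl
  let Bq := Localization.AtPrime q
  obtain ⟨c, hc⟩ := exists_coord_local q K m (hrank ⟨q, hq⟩)
  let ε₀ := Pi.basisFun Bq (Fin m)
  let lam : ⋀[B]^m K →ₗ[B] Bq := delta Bq c ε₀
  haveI hlam : IsLocalizedModule S lam := isLocalizedModule_delta S Bq c ε₀
  let ℓ : ⋀[B]^m K →ₗ[B] Bq := (Algebra.linearMap B Bq) ∘ₗ (phi ε σ e)
  have hunits : ∀ x : S, IsUnit ((algebraMap B (Module.End B Bq)) x) :=
    IsLocalizedModule.map_units (Algebra.linearMap B Bq)
  let ℓ' : Bq →ₗ[B] Bq := IsLocalizedModule.lift S lam ℓ hunits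
  have hℓ' : ∀ x, ℓ' (lam x) = ℓ x := fun x => IsLocalizedModule.lift_apply S lam ℓ hunits x
  let ℓ'' : Bq →ₗ[Bq] Bq := ℓ'.extendScalarsOfIsLocalization S Bq
  have hmul : ∀ y : Bq, ℓ' y = y * ℓ' 1 := by
    intro y
    have h1 : ℓ'' (y • (1 : Bq)) = y • ℓ'' 1 := map_smul ℓ'' y 1
    simpa [ℓ''] using h1
  have hℓ : ∀ x, algebraMap B Bq (phi ε σ e x) = lam x * ℓ' 1 := by
    intro x
    rw [← hmul, hℓ']
    rfl
  -- the good family
  have h0 : ∀ j, ∃ (x : K) (t : S), c x = (algebraMap B Bq t) • ε₀ j := by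
    intro j
    obtain ⟨⟨x, t⟩, hxt⟩ := IsLocalizedModule.surj S c (ε₀ j)
    refine ⟨x, t, ?_⟩
    rw [← hxt, Submonoid.smul_def, algebraMap_smul]
  choose ω₀ t hω₀ using h0
  have hlamω₀ : IsUnit (lam (exteriorPower.ιMulti B m ω₀)) := by
    simp only [lam, delta_ιMulti]
    exact isUnit_det_of_smul' ε₀ _ (fun j => algebraMap B Bq (t j))
      (fun j => IsLocalization.map_units _ (t j)) hω₀
  -- spanning up to multipliers
  let K₀ : Submodule B K := Submodule.span B (Set.range ω₀)
  have hloc : Submodule.localized' Bq S c K₀ = ⊤ := by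
    rw [Submodule.localized'_eq_span, eq_top_iff, ← ε₀.span_eq, Submodule.span_le]
    rintro _ ⟨j, rfl⟩
    have h1 : ε₀ j = ((IsLocalization.map_units Bq (t j)).unit⁻¹ : Bqˣ) • c (ω₀ j) := by
      rw [hω₀ j, Units.smul_def, smul_smul, IsUnit.val_inv_mul, one_smul]
    rw [h1]
    exact Submodule.smul_mem _ _
      (Submodule.subset_span ⟨ω₀ j, Submodule.subset_span ⟨j, rfl⟩, rfl⟩)
  have hK₀ : ∀ k : K, ∃ s : S, (s : B) • k ∈ K₀ := by
    intro k
    have h1 : c k ∈ Submodule.localized' Bq S c K₀ := by rw [hloc]; trivial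
    obtain ⟨k₀, hk₀, s, hs⟩ := h1
    rw [IsLocalizedModule.mk'_eq_iff] at hs
    have h2 : c k₀ = c ((s : B) • k) := by
      rw [hs, map_smul]; rfl
    obtain ⟨s', hs'⟩ := IsLocalizedModule.exists_of_eq (S := S) (f := c) h2
    refine ⟨s' * s, ?_⟩
    have h3 : ((s' * s : S) : B) • k = (s' : B) • k₀ := by
      rw [Submonoid.coe_mul, mul_smul]
      exact hs'.symm
    rw [h3]
    exact Submodule.smul_mem _ _ hk₀
  let v : Fin m ⊕ Fin r → E := Sum.elim (fun j => σ (ω₀ j)) e
  let W : Submodule B E := Submodule.span B (Set.range v)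
  have hW : ∀ x : E, ∃ s : S, (s : B) • x ∈ W := by
    intro x
    have hx : x ∈ LinearMap.range σ ⊔ Submodule.span B (Set.range e) := by rw [hspan]; trivial
    obtain ⟨y, ⟨k, rfl⟩, w, hw, rfl⟩ := Submodule.mem_sup.mp hx
    obtain ⟨s, hs⟩ := hK₀ k
    refine ⟨s, ?_⟩
    rw [smul_add]
    refine Submodule.add_mem _ ?_ ?_
    · rw [← map_smul]
      have h1 : K₀ ≤ W.comap σ := by
        rw [Submodule.span_le]
        rintro _ ⟨j, rfl⟩
        exact Submodule.subset_span ⟨Sum.inl j, rfl⟩
      exact h1 hs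
    · refine Submodule.smul_mem _ _ ?_
      have h1 : Submodule.span B (Set.range e) ≤ W := by
        rw [Submodule.span_le]
        rintro _ ⟨i, rfl⟩
        exact Submodule.subset_span ⟨Sum.inr i, rfl⟩
      exact h1 hw
  have hs0 : ∃ s : S, ∀ l, (s : B) • ε l ∈ W := by
    choose sl hsl using fun l => hW (ε l)
    refine ⟨∏ l, sl l, fun l => ?_⟩
    have h1 : ((∏ l', sl l' : S) : B) = (∏ l' ∈ Finset.univ.erase l, (sl l' : B)) * (sl l : B) := by
      rw [Submonoid.coe_finsetProd, Finset.prod_erase_mul _ _ (Finset.mem_univ l)]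
    rw [h1, mul_smul]
    exact Submodule.smul_mem _ _ (hsl l)
  obtain ⟨s, hs⟩ := hs0
  obtain ⟨N, hN⟩ := det_dvd_pow ε v (s : B) hs
  have hd₀ : phi ε σ e (exteriorPower.ιMulti B m ω₀) ∉ q := by
    rw [phi_ιMulti]
    intro hmem
    have h1 : (s : B) ^ N ∈ q := Ideal.mem_of_dvd q hN hmem
    exact (pow_mem s.2 N) h1
  refine ⟨lam, ℓ' 1, ω₀, ?_, hℓ, ?_, hd₀⟩
  · have h1 : IsUnit (algebraMap B Bq (phi ε σ e (exteriorPower.ιMulti B m ω₀))) :=
      IsLocalization.map_units Bq (⟨_, hd₀⟩ : S)
    rw [hℓ] at h1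
    exact (IsUnit.mul_iff.mp h1).2
  · intro x hx
    obtain ⟨s', hs'⟩ := (IsLocalizedModule.eq_zero_iff S lam).mp hx
    exact ⟨s'.1, s'.2, hs'⟩

theorem phi_bijective (hrank : ∀ q : PrimeSpectrum B, rankAtStalk K q = m)
    (hspan : LinearMap.range σ ⊔ Submodule.span B (Set.range e) = ⊤) :
    Function.Bijective (phi ε σ e) := by
  constructor
  · rw [injective_iff_map_eq_zero]
    intro x hx
    apply eq_zero_of_forall_maximal (A := B)
    intro q hq
    haveI := hq.isPrime
    obtain ⟨lam, u, ω₀, hu, h1, h2, -⟩ := key ε σ e hrank hspan q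
    apply h2
    have h3 := h1 x
    rw [hx, map_zero] at h3
    exact (hu.mul_left_eq_zero).mp h3.symm
  · rw [← LinearMap.range_eq_top]
    by_contra hne
    obtain ⟨q, hq, hle⟩ := Ideal.exists_le_maximal (LinearMap.range (phi ε σ e)) hne
    haveI := hq.isPrime
    obtain ⟨lam, u, ω₀, -, -, -, h3⟩ := key ε σ e hrank hspan q
    exact h3 (hle (LinearMap.mem_range_self _ _))

end D

end Groth.Agent.Lib.DetStabH6
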