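import Mathlib
import Groth.Prelude.Def_CAlgX
import Groth.Agent.Lib.DetStab1_helper6

/-!
# The conormal module of a quasi-regular sequence is free (helper6)
-/

open scoped TensorProduct

universe u

namespace Groth.Agent.Lib.DetStabH6

open Module MvPolynomial

section Cot

variable {P : Type u} [CommRing P] {r : ℕ} (F : Fin r → P)

/-- the classes of the `F i` in `I/I²` -/
noncomputable def cotGen (i : Fin r) : (Ideal.span (Set.range F)).Cotangent :=
  (Ideal.span (Set.range F)).toCotangent ⟨F i, Ideal.subset_span ⟨i, rfl⟩⟩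

theorem cotGen_span :
    Submodule.span (P ⧸ Ideal.span (Set.range F)) (Set.range (cotGen F)) = ⊤ := by
  rw [eq_top_iff]
  intro y _
  obtain ⟨⟨x₀, hx₀⟩, rfl⟩ := Ideal.toCotangent_surjective _ y
  obtain ⟨c, hc⟩ := Ideal.mem_span_range_iff_exists_fun.mp hx₀
  have h1 : (⟨x₀, hx₀⟩ : Ideal.span (Set.range F)) =
      ∑ i, c i • (⟨F i, Ideal.subset_span ⟨i, rfl⟩⟩ : Ideal.span (Set.range F)) := by
    apply Subtype.ext
    simp [← hc]
  rw [h1, map_sum]
  refine Submodule.sum_mem _ (fun i _ => ?_)
  rw [map_smul, ← algebraMap_smul (P ⧸ Ideal.span (Set.range F)) (c i)]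
  exact Submodule.smul_mem _ _ (Submodule.subset_span ⟨i, rfl⟩)

theorem cotGen_linearIndependent (hq : CAlgX.IsQuasiRegular F) :
    LinearIndependent (P ⧸ Ideal.span (Set.range F)) (cotGen F) := by
  classical
  rw [Fintype.linearIndependent_iff]
  intro g hg i
  have hlift : ∀ j, ∃ p : P, Ideal.Quotient.mk (Ideal.span (Set.range F)) p = g j :=
    fun j => Ideal.Quotient.mk_surjective (g j)
  choose p hp using hlift
  have h1 : (Ideal.span (Set.range F)).toCotangent
      (∑ j, p j • (⟨F j, Ideal.subset_span ⟨j, rfl⟩⟩ : Ideal.span (Set.range F))) = 0 := by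
    rw [map_sum, ← hg]
    refine Finset.sum_congr rfl (fun j _ => ?_)
    rw [map_smul, ← hp j]
    exact (algebraMap_smul (P ⧸ Ideal.span (Set.range F)) (p j) (cotGen F j)).symm
  rw [Ideal.toCotangent_eq_zero] at h1
  have h2 : ((∑ j, p j • (⟨F j, Ideal.subset_span ⟨j, rfl⟩⟩ : Ideal.span (Set.range F)) :
      Ideal.span (Set.range F)) : P) = ∑ j, p j * F j := by
    simp
  rw [h2] at h1
  let Q : MvPolynomial (Fin r) P := ∑ j, C (p j) * X j
  have hQh : Q.IsHomogeneous 1 :=
    MvPolynomial.IsHomogeneous.sum _ _ _ (fun j _ => MvPolynomial.isHomogeneous_C_mul_X (p j) j)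
  have hQe : MvPolynomial.eval F Q = ∑ j, p j * F j := by
    simp [Q]
  have h3 := hq 1 Q hQh (by rw [hQe]; exact h1) (Finsupp.single i 1)
  have h4 : Q.coeff (Finsupp.single i 1) = p i := by
    simp only [Q, coeff_sum, coeff_C_mul, coeff_X']
    rw [Finset.sum_eq_single i]
    · simp
    · intro j _ hji
      rw [if_neg, mul_zero]
      intro h
      exact hji ((Finsupp.single_left_inj one_ne_zero).mp h)
    · intro h; exact absurd (Finset.mem_univ i) h
  rw [h4] at h3
  rw [← hp i]
  exact Ideal.Quotient.eq_zero_iff_mem.mpr h3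

/-- the basis of `I/I²` given by a quasi-regular sequence -/
noncomputable def cotBasis (hq : CAlgX.IsQuasiRegular F) :
    Basis (Fin r) (P ⧸ Ideal.span (Set.range F)) (Ideal.span (Set.range F)).Cotangent :=
  Basis.mk (cotGen_linearIndependent F hq) (cotGen_span F).ge

@[simp] theorem cotBasis_apply (hq : CAlgX.IsQuasiRegular F) (i : Fin r) :
    cotBasis F hq i = cotGen F i := by
  simp [cotBasis]

end Cot

end Groth.Agent.Lib.DetStabH6
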