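import Mathlib
import Groth.Agent.S5802
import Groth.Agent.Lib.DetStab2_helper6

/-!
# The canonical module of a smooth complete intersection in affine space (helper6)
-/

open scoped TensorProduct

universe u

namespace Groth.Agent.Lib.DetStabH6

open Module KaehlerDifferential Groth.Agent.Lib.HilbChowH6

section General

variable (A P : Type u) [CommRing A] [CommRing P] [Algebra A P] [Algebra.FormallySmooth A P]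
  (n r : ℕ) (hrn : r ≤ n) (bΩ : Basis (Fin n) P (Ω[P⁄A])) (F : Fin r → P)

local notation "𝕀" => Ideal.span (Set.range F)

set_option maxHeartbeats 1600000 in
include hrn bΩ in
theorem main_general (hq : CAlgX.IsQuasiRegular F) [Algebra.FormallySmooth A (P ⧸ 𝕀)]
    [Module.Finite (P ⧸ 𝕀) (Ω[(P ⧸ 𝕀)⁄A])] :
    Nonempty ((Module.Dual (P ⧸ 𝕀) (⋀[P ⧸ 𝕀]^r (𝕀).Cotangent)) ⊗[P ⧸ 𝕀]
        ((P ⧸ 𝕀) ⊗[P] (⋀[P]^n (Ω[P⁄A])))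
      ≃ₗ[P ⧸ 𝕀] (⋀[P ⧸ 𝕀]^(n - r) (Ω[(P ⧸ 𝕀)⁄A]))) := by
  classical
  let bN : Basis (Fin r) (P ⧸ 𝕀) (𝕀).Cotangent := cotBasis F hq
  have hsurj : Function.Surjective (algebraMap P (P ⧸ 𝕀)) := Ideal.Quotient.mk_surjective
  -- the trivial pieces
  let e1 : ⋀[P ⧸ 𝕀]^r (𝕀).Cotangent ≃ₗ[P ⧸ 𝕀] (P ⧸ 𝕀) :=
    LinearEquiv.ofBijective (detTop bN) (detTop_bijective bN)
  let e1' : Module.Dual (P ⧸ 𝕀) (⋀[P ⧸ 𝕀]^r (𝕀).Cotangent) ≃ₗ[P ⧸ 𝕀] (P ⧸ 𝕀) :=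
    e1.symm.dualMap ≪≫ₗ LinearMap.ringLmapEquivSelf (P ⧸ 𝕀) (P ⧸ 𝕀) (P ⧸ 𝕀)
  let e2 : ⋀[P]^n (Ω[P⁄A]) ≃ₗ[P] P := LinearEquiv.ofBijective (detTop bΩ) (detTop_bijective bΩ)
  let e2' : (P ⧸ 𝕀) ⊗[P] (⋀[P]^n (Ω[P⁄A])) ≃ₗ[P ⧸ 𝕀] (P ⧸ 𝕀) :=
    (TensorProduct.AlgebraTensorModule.congr (LinearEquiv.refl (P ⧸ 𝕀) (P ⧸ 𝕀)) e2) ≪≫ₗ
      TensorProduct.AlgebraTensorModule.rid P (P ⧸ 𝕀) (P ⧸ 𝕀)
  let eL : (Module.Dual (P ⧸ 𝕀) (⋀[P ⧸ 𝕀]^r (𝕀).Cotangent)) ⊗[P ⧸ 𝕀]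
      ((P ⧸ 𝕀) ⊗[P] (⋀[P]^n (Ω[P⁄A]))) ≃ₗ[P ⧸ 𝕀] (P ⧸ 𝕀) :=
    TensorProduct.congr e1' e2' ≪≫ₗ TensorProduct.lid (P ⧸ 𝕀) (P ⧸ 𝕀)
  -- the main piece
  have hnr : n = (n - r) + r := by omega
  let bE : Basis (Fin n) (P ⧸ 𝕀) ((P ⧸ 𝕀) ⊗[P] (Ω[P⁄A])) := bΩ.baseChange (P ⧸ 𝕀)
  let ε : Basis (Fin (n - r) ⊕ Fin r) (P ⧸ 𝕀) ((P ⧸ 𝕀) ⊗[P] (Ω[P⁄A])) :=
    bE.reindex ((finCongr hnr).trans finSumFinEquiv.symm)
  let π : (P ⧸ 𝕀) ⊗[P] (Ω[P⁄A]) →ₗ[P ⧸ 𝕀] Ω[(P ⧸ 𝕀)⁄A] :=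
    KaehlerDifferential.mapBaseChange A P (P ⧸ 𝕀)
  have hker : RingHom.ker (algebraMap P (P ⧸ 𝕀)) = 𝕀 := Ideal.mk_ker
  have hQ : ∀ (J : Ideal P), J = RingHom.ker (algebraMap P (P ⧸ 𝕀)) →
      ∃ κ : J.Cotangent →ₗ[P] (P ⧸ 𝕀) ⊗[P] (Ω[P⁄A]),
        (∀ x : J, κ (J.toCotangent x) = (1 : P ⧸ 𝕀) ⊗ₜ[P] D A P x.1) ∧
        Function.Exact κ π ∧
        ∃ l : (P ⧸ 𝕀) ⊗[P] (Ω[P⁄A]) →ₗ[P] J.Cotangent, l ∘ₗ κ = LinearMap.id := by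
    intro J hJ
    subst hJ
    exact ⟨kerCotangentToTensor A P (P ⧸ 𝕀), fun x => rfl,
      exact_kerCotangentToTensor_mapBaseChange A P (P ⧸ 𝕀) hsurj,
      (Algebra.FormallySmooth.iff_split_injection hsurj).mp inferInstance⟩
  obtain ⟨κ, hκ, hex, l, hl⟩ := hQ 𝕀 hker.symm
  have hπsurj : Function.Surjective π := mapBaseChange_surjective A P (P ⧸ 𝕀) hsurj
  have hex' : Function.Exact κ (π.restrictScalars P) := hex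
  have htfae := Function.Exact.split_tfae' hex'
  have h2 : Function.Surjective (π.restrictScalars P) ∧ ∃ l, l ∘ₗ κ = LinearMap.id :=
    ⟨hπsurj, l, hl⟩
  obtain ⟨e₀, he₀, he₀'⟩ := (htfae.out 1 2).mp h2
  obtain ⟨-, σ₀, hσ₀⟩ := (htfae.out 1 0).mp h2
  let σ : Ω[(P ⧸ 𝕀)⁄A] →ₗ[P ⧸ 𝕀] (P ⧸ 𝕀) ⊗[P] (Ω[P⁄A]) := σ₀.extendScalarsOfSurjective hsurj
  have hσ : ∀ x, π (σ x) = x := fun x => LinearMap.congr_fun hσ₀ x
  let eB : ((P ⧸ 𝕀) ⊗[P] (Ω[P⁄A])) ≃ₗ[P ⧸ 𝕀] (𝕀).Cotangent × Ω[(P ⧸ 𝕀)⁄A] :=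
    e₀.extendScalarsOfSurjective hsurj
  let e : Fin r → (P ⧸ 𝕀) ⊗[P] (Ω[P⁄A]) := fun i => κ (cotGen F i)
  have : Module.Free (P ⧸ 𝕀) (𝕀).Cotangent := Module.Free.of_basis bN
  have : Module.Finite (P ⧸ 𝕀) (𝕀).Cotangent := Module.Finite.of_basis bN
  have : Module.Free (P ⧸ 𝕀) ((P ⧸ 𝕀) ⊗[P] (Ω[P⁄A])) := Module.Free.of_basis bE
  have : Module.Finite (P ⧸ 𝕀) ((P ⧸ 𝕀) ⊗[P] (Ω[P⁄A])) := Module.Finite.of_basis bE
  have : Module.Projective (P ⧸ 𝕀) (Ω[(P ⧸ 𝕀)⁄A]) := inferInstance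
  have hrank : ∀ q : PrimeSpectrum (P ⧸ 𝕀), rankAtStalk (Ω[(P ⧸ 𝕀)⁄A]) q = n - r := by
    intro q
    have : Nontrivial (P ⧸ 𝕀) := q.nontrivial
    have h1 := congrFun (rankAtStalk_eq_of_equiv eB) q
    rw [rankAtStalk_prod, rankAtStalk_eq_finrank_of_free, rankAtStalk_eq_finrank_of_free,
      Module.finrank_eq_card_basis bE, Module.finrank_eq_card_basis bN] at h1
    simp only [Fintype.card_fin, Pi.add_apply, Pi.natCast_apply] at h1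
    have h2 : (n : ℕ) = r + rankAtStalk (Ω[(P ⧸ 𝕀)⁄A]) q := by exact_mod_cast h1
    omega
  have hrangeκ : LinearMap.range κ ≤
      (Submodule.span (P ⧸ 𝕀) (Set.range e)).restrictScalars P := by
    rintro _ ⟨y, rfl⟩
    have hy : y ∈ Submodule.span (P ⧸ 𝕀) (Set.range (cotGen F)) := by rw [cotGen_span]; trivial
    induction hy using Submodule.span_induction with
    | mem y hy =>
      obtain ⟨i, rfl⟩ := hy
      exact Submodule.subset_span ⟨i, rfl⟩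
    | zero => rw [map_zero]; exact Submodule.zero_mem _
    | add y z _ _ hy hz => rw [map_add]; exact Submodule.add_mem _ hy hz
    | smul b y _ hy =>
      obtain ⟨p, rfl⟩ := hsurj b
      rw [algebraMap_smul, map_smul, ← algebraMap_smul (P ⧸ 𝕀) p (κ y)]
      exact Submodule.smul_mem _ _ hy
  have hspan : LinearMap.range σ ⊔ Submodule.span (P ⧸ 𝕀) (Set.range e) = ⊤ := by
    rw [eq_top_iff]
    intro x _
    have h1 : π (x - σ (π x)) = 0 := by rw [map_sub, hσ, sub_self]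
    obtain ⟨y, hy⟩ := (hex (x - σ (π x))).mp h1
    have h2 : x = σ (π x) + κ y := by rw [hy]; abel
    rw [h2]
    exact Submodule.add_mem _ (Submodule.mem_sup_left (LinearMap.mem_range_self _ _))
      (Submodule.mem_sup_right (hrangeκ (LinearMap.mem_range_self _ _)))
  let e3 : ⋀[P ⧸ 𝕀]^(n - r) (Ω[(P ⧸ 𝕀)⁄A]) ≃ₗ[P ⧸ 𝕀] (P ⧸ 𝕀) :=
    LinearEquiv.ofBijective (phi ε σ e) (phi_bijective ε σ e hrank hspan)
  exact ⟨eL ≪≫ₗ e3.symm⟩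

end General

theorem main13315 (A : Type u) [CommRing A] (n r : ℕ) (hrn : r ≤ n)
    (F : Fin r → MvPolynomial (Fin n) A)
    (hreg : RingTheory.Sequence.IsWeaklyRegular (MvPolynomial (Fin n) A) (List.ofFn F))
    [Algebra.Smooth A (MvPolynomial (Fin n) A ⧸ Ideal.span (Set.range F))] :
    Nonempty ((Module.Dual (MvPolynomial (Fin n) A ⧸ Ideal.span (Set.range F))
        (⋀[MvPolynomial (Fin n) A ⧸ Ideal.span (Set.range F)]^r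
          (Ideal.span (Set.range F)).Cotangent))
        ⊗[MvPolynomial (Fin n) A ⧸ Ideal.span (Set.range F)]
        ((MvPolynomial (Fin n) A ⧸ Ideal.span (Set.range F)) ⊗[MvPolynomial (Fin n) A]
          (⋀[MvPolynomial (Fin n) A]^n (Ω[MvPolynomial (Fin n) A⁄A])))
      ≃ₗ[MvPolynomial (Fin n) A ⧸ Ideal.span (Set.range F)]
        (⋀[MvPolynomial (Fin n) A ⧸ Ideal.span (Set.range F)]^(n - r)
          (Ω[(MvPolynomial (Fin n) A ⧸ Ideal.span (Set.range F))⁄A]))) :=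
  main_general A (MvPolynomial (Fin n) A) n r hrn
    (KaehlerDifferential.mvPolynomialBasis A (Fin n)) F
    (Groth.Agent.S5802.result (MvPolynomial (Fin n) A) r F hreg)

end Groth.Agent.Lib.DetStabH6
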