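import Mathlib
import Groth.Prelude.Def_FlatCA
import Groth.Prelude.Def_Found

/-!
# S1224: a module whose support is finite over the base is universally pure (lead)
-/

set_option autoImplicit false
universe u

namespace Groth.Agent.Lib.PureFinSupp

open TensorProduct

attribute [local instance] Algebra.TensorProduct.rightAlgebra

/-- an element of `S` killing `M` kills `(κ(p) ⊗ S) ⊗_S M` -/
theorem smul_fiber_eq_zero {R S : Type u} [CommRing R] [CommRing S] [Algebra R S] (p : Ideal R)
    [p.IsPrime] (M : Type u) [AddCommGroup M] [Module S M] (s : S) (hs : ∀ m : M, s • m = 0)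
    (x : (p.Fiber S) ⊗[S] M) : (algebraMap S (p.Fiber S) s) • x = 0 := by
  induction x using TensorProduct.induction_on with
  | zero => rw [smul_zero]
  | tmul c m =>
    rw [TensorProduct.smul_tmul', smul_eq_mul, ← Algebra.smul_def, TensorProduct.smul_tmul, hs,
      TensorProduct.tmul_zero]
  | add x y hx hy => rw [smul_add, hx, hy, add_zero]

/-- the contraction of `fiberIdeal p q` to `S` is contained in `q` -/
theorem mem_of_one_tmul_mem_fiberIdeal {R S : Type u} [CommRing R] [CommRing S] [Algebra R S]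
    (p : Ideal R) [p.IsPrime] (q : Ideal S) [q.IsPrime] [q.LiesOver p] (s : S)
    (h : (1 : p.ResidueField) ⊗ₜ[R] s ∈ FlatCA.fiberIdeal p q) : s ∈ q := by
  let fκ : p.ResidueField →ₐ[R] q.ResidueField :=
    Ideal.ResidueField.mapₐ p q (Algebra.ofId R S) (q.over_def p)
  let φ : p.Fiber S →ₐ[R] q.ResidueField :=
    Algebra.TensorProduct.lift fκ (IsScalarTower.toAlgHom R S q.ResidueField)
      (fun _ _ => Commute.all _ _)
  have hφ : ∀ (x : p.ResidueField) (s : S),
      φ (x ⊗ₜ[R] s) = fκ x * algebraMap S q.ResidueField s :=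
    fun x s => Algebra.TensorProduct.lift_tmul _ _ _ x s
  have hle : FlatCA.fiberIdeal p q ≤ RingHom.ker φ.toRingHom := by
    unfold FlatCA.fiberIdeal
    rw [Ideal.map_le_iff_le_comap]
    intro s hs
    rw [Ideal.mem_comap, RingHom.mem_ker]
    show φ ((1 : p.ResidueField) ⊗ₜ[R] s) = 0
    rw [hφ, Ideal.algebraMap_residueField_eq_zero.mpr hs, mul_zero]
  have h1 := hle h
  rw [RingHom.mem_ker] at h1
  have h2 : φ ((1 : p.ResidueField) ⊗ₜ[R] s) = 0 := h1
  rw [hφ, map_one, one_mul, Ideal.algebraMap_residueField_eq_zero] at h2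
  exact h2

theorem main {A B : Type u} [CommRing A] [CommRing B] [Algebra A B]
    (N : Type u) [AddCommGroup N] [Module B N] [Module A N] [IsScalarTower A B N]
    [Module.Finite A (B ⧸ Module.annihilator B N)] : FlatCA.IsUnivPure A B N := by
  intro p hp A' B' N' _ _ _ _ _ _ _ _ _ _ _ _ _ _ f t' t _ _ P _ himp
  obtain ⟨hpush, hbc, htt, htp, hPt, hass, hno⟩ := himp
  haveI := hPt
  -- the annihilator of `N` maps into `P`
  have hJP : ∀ b ∈ Module.annihilator B N, algebraMap B B' b ∈ P := by
    intro b hb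
    have h1 : ∀ n' : N', (algebraMap B B' b) • n' = 0 := by
      intro n'
      refine hbc.inductionOn n' (fun n' => (algebraMap B B' b) • n' = 0) ?_ ?_ ?_ ?_
      · exact smul_zero _
      · intro n
        show (algebraMap B B' b) • f n = 0
        rw [algebraMap_smul, ← map_smul, Module.mem_annihilator.mp hb n, map_zero]
      · intro s n' ih
        show (algebraMap B B' b) • (s • n') = 0
        rw [smul_comm, ih, smul_zero]
      · intro x y hx hy
        show (algebraMap B B' b) • (x + y) = 0
        rw [smul_add, hx, hy, add_zero]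
    have h2 : (algebraMap B' (t'.Fiber B') (algebraMap B B' b)) ∈
        (⊤ : Submodule (t'.Fiber B') (FlatCA.fiberMod t' B' N')).annihilator := by
      rw [Submodule.mem_annihilator]
      intro x _
      exact smul_fiber_eq_zero t' N' _ h1 x
    have h3 : algebraMap B' (t'.Fiber B') (algebraMap B B' b) ∈ FlatCA.fiberIdeal t' P :=
      (AssociatedPrimes.mem_iff.mp hass).annihilator_le h2
    exact mem_of_one_tmul_mem_fiberIdeal t' P _
      (show (1 : t'.ResidueField) ⊗ₜ[A'] (algebraMap B B' b) ∈ FlatCA.fiberIdeal t' P from h3)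
  -- integrality of `A' → B' ⧸ P`
  haveI : Algebra.IsIntegral A (B ⧸ Module.annihilator B N) :=
    Algebra.IsIntegral.of_finite A (B ⧸ Module.annihilator B N)
  have hIP : Module.annihilator B N ≤ P.comap (algebraMap B B') := fun b hb => hJP b hb
  obtain ⟨ψ, hψ⟩ : ∃ ψ : B ⧸ Module.annihilator B N →+* B' ⧸ P,
      ∀ b, ψ (Ideal.Quotient.mk _ b) = Ideal.Quotient.mk P (algebraMap B B' b) :=
    ⟨Ideal.quotientMap P (algebraMap B B') hIP, fun b => Ideal.quotientMap_mk⟩
  have hcomp : (algebraMap A' (B' ⧸ P)).comp (algebraMap A A') =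
      ψ.comp (algebraMap A (B ⧸ Module.annihilator B N)) := by
    ext a
    rw [RingHom.comp_apply, RingHom.comp_apply, ← Ideal.Quotient.mk_algebraMap,
      ← Ideal.Quotient.mk_algebraMap, hψ, ← IsScalarTower.algebraMap_apply A A' B',
      ← IsScalarTower.algebraMap_apply A B B']
  haveI hsymm : Algebra.IsPushout A A' B B' := hpush.symm
  haveI : Algebra.IsIntegral A' (B' ⧸ P) := by
    refine ⟨fun x => ?_⟩
    obtain ⟨b', rfl⟩ := Ideal.Quotient.mk_surjective x
    have key : IsIntegral A' (Ideal.Quotient.mkₐ A' P b') := by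
      refine hsymm.out.inductionOn b' (fun b' => IsIntegral A' (Ideal.Quotient.mkₐ A' P b'))
        ?_ ?_ ?_ ?_
      · show IsIntegral A' (Ideal.Quotient.mkₐ A' P 0)
        rw [map_zero]
        exact isIntegral_zero
      · intro b
        show IsIntegral A' (Ideal.Quotient.mkₐ A' P ((IsScalarTower.toAlgHom A B B').toLinearMap b))
        have e : Ideal.Quotient.mkₐ A' P ((IsScalarTower.toAlgHom A B B').toLinearMap b) =
            ψ (Ideal.Quotient.mk _ b) := by
          rw [hψ]
          rfl
        rw [e]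
        exact IsIntegral.map_of_comp_eq (algebraMap A A') ψ hcomp (Algebra.IsIntegral.isIntegral _)
      · intro a' n ih
        show IsIntegral A' (Ideal.Quotient.mkₐ A' P (a' • n))
        rw [map_smul]
        exact IsIntegral.smul a' ih
      · intro x y hx hy
        show IsIntegral A' (Ideal.Quotient.mkₐ A' P (x + y))
        rw [map_add]
        exact IsIntegral.add hx hy
    exact key
  -- going up
  haveI : (⊥ : Ideal (B' ⧸ P)).IsPrime := Ideal.bot_prime
  have hbot : (⊥ : Ideal (B' ⧸ P)).comap (algebraMap A' (B' ⧸ P)) ≤ t := by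
    intro a ha
    rw [Ideal.mem_comap, Ideal.mem_bot, ← Ideal.Quotient.mk_algebraMap,
      Ideal.Quotient.eq_zero_iff_mem] at ha
    exact htt ((Ideal.mem_of_liesOver P t' a).mpr ha)
  obtain ⟨Q, -, hQprime, hQt⟩ :=
    Ideal.exists_ideal_over_prime_of_isIntegral_of_isPrime t (⊥ : Ideal (B' ⧸ P)) hbot
  haveI := hQprime
  refine hno (Q.comap (Ideal.Quotient.mk P)) ?_ ⟨?_⟩
  · intro x hx
    rw [Ideal.mem_comap, Ideal.Quotient.eq_zero_iff_mem.mpr hx]
    exact Q.zero_mem
  · rw [← hQt]
    rfl

end Groth.Agent.Lib.PureFinSupp
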