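import Mathlib
import Groth.Prelude
import Groth.Agent.Lib.Dev12231_lead
import Groth.Agent.Lib.PureFinSupp_lead
import Groth.Agent.Lib.AssFiberTensor_lead
import Groth.Agent.Lib.FibLoc_helper8

/-!
# Base change of a one-step dévissage at a point, residue field unchanged (lead) — S12239
-/

set_option autoImplicit false
set_option linter.unusedSimpArgs false
set_option linter.unusedVariables false
set_option linter.unusedSectionVars false
set_option linter.style.longLine false
set_option linter.unnecessarySimpa false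
set_option linter.style.haveILetI false
set_option maxHeartbeats 1600000

universe u

open TensorProduct

namespace Groth.Agent.Lib.Dev12239

attribute [local instance] Algebra.TensorProduct.rightAlgebra

theorem comap_comap_tower {X Y Z : Type u} [CommRing X] [CommRing Y] [CommRing Z] [Algebra X Y]
    [Algebra Y Z] [Algebra X Z] [IsScalarTower X Y Z] (I : Ideal Z) :
    (I.comap (algebraMap Y Z)).comap (algebraMap X Y) = I.comap (algebraMap X Z) := by
  rw [Ideal.comap_comap, ← IsScalarTower.algebraMap_eq]

theorem comap_fiberIdeal {R S : Type u} [CommRing R] [CommRing S] [Algebra R S]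
    (p : Ideal R) [p.IsPrime] (q : Ideal S) [q.IsPrime] [q.LiesOver p] :
    (FlatCA.fiberIdeal p q).comap (algebraMap S (p.Fiber S)) = q := by
  apply le_antisymm
  · intro s hs
    rw [Ideal.mem_comap, Algebra.TensorProduct.right_algebraMap_apply] at hs
    exact Groth.Agent.Lib.PureFinSupp.mem_of_one_tmul_mem_fiberIdeal p q s hs
  · exact Ideal.le_comap_map

section FiberIso

variable (R S : Type u) [CommRing R] [CommRing S] [Algebra R S]
  (p : Ideal R) [p.IsPrime]
  (R' : Type u) [CommRing R'] [Algebra R R'] (p' : Ideal R') [p'.IsPrime] [hp' : p'.LiesOver p]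
  (hκ : Function.Bijective (Ideal.ResidueField.mapₐ p p' (Algebra.ofId R R') hp'.over))
  (S' : Type u) [CommRing S'] [Algebra R' S'] [Algebra R S'] [Algebra S S'] [IsScalarTower R R' S']
  [IsScalarTower R S S'] [Algebra.IsPushout R R' S S']

include hκ

/-- the isomorphism of fibre rings -/
noncomputable def fiberEquiv : p.Fiber S ≃+* p'.Fiber S' :=
  ((Algebra.TensorProduct.congr
      (AlgEquiv.ofBijective (Ideal.ResidueField.mapₐ p p' (Algebra.ofId R R') hp'.over) hκ)
      (AlgEquiv.refl : S ≃ₐ[R] S)).toRingEquiv.trans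
    (Algebra.TensorProduct.cancelBaseChange R R' p'.ResidueField p'.ResidueField
      S).symm.toRingEquiv).trans
    (Algebra.TensorProduct.congr
      (AlgEquiv.refl : p'.ResidueField ≃ₐ[p'.ResidueField] p'.ResidueField)
      (Algebra.IsPushout.equiv R R' S S')).toRingEquiv

theorem fiberEquiv_tmul (k : p.ResidueField) (s : S) :
    fiberEquiv R S p R' p' hκ S' (k ⊗ₜ[R] s) =
      (Ideal.ResidueField.mapₐ p p' (Algebra.ofId R R') hp'.over k) ⊗ₜ[R'] algebraMap S S' s := by
  simp [fiberEquiv, Algebra.IsPushout.equiv_tmul]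

theorem fiberEquiv_algebraMap (s : S) :
    fiberEquiv R S p R' p' hκ S' (algebraMap S (p.Fiber S) s) =
      algebraMap S' (p'.Fiber S') (algebraMap S S' s) := by
  rw [Algebra.TensorProduct.right_algebraMap_apply, fiberEquiv_tmul, map_one,
    Algebra.TensorProduct.right_algebraMap_apply]

theorem comap_fiberEquiv (Q : Ideal (p'.Fiber S')) :
    (Q.comap (fiberEquiv R S p R' p' hκ S').toRingHom).comap (algebraMap S (p.Fiber S)) =
      (Q.comap (algebraMap S' (p'.Fiber S'))).comap (algebraMap S S') := by
  ext s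
  simp only [Ideal.mem_comap, RingEquiv.toRingHom_eq_coe, RingEquiv.coe_toRingHom,
    fiberEquiv_algebraMap]

/-- a prime of `S'` over `p'` is determined by its contraction to `S`. -/
theorem eq_of_comap_eq (q₁ q₂ : Ideal S') [h₁ : q₁.IsPrime] [h₂ : q₂.IsPrime]
    [o₁ : q₁.LiesOver p'] [o₂ : q₂.LiesOver p']
    (h : q₁.comap (algebraMap S S') = q₂.comap (algebraMap S S')) : q₁ = q₂ := by
  obtain ⟨Q₁, hQ₁⟩ := (PrimeSpectrum.primesOverOrderIsoFiber R' S' p').symm.surjective ⟨q₁, h₁, o₁⟩
  obtain ⟨Q₂, hQ₂⟩ := (PrimeSpectrum.primesOverOrderIsoFiber R' S' p').symm.surjective ⟨q₂, h₂, o₂⟩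
  have c₁ : Q₁.asIdeal.comap (algebraMap S' (p'.Fiber S')) = q₁ := congrArg Subtype.val hQ₁
  have c₂ : Q₂.asIdeal.comap (algebraMap S' (p'.Fiber S')) = q₂ := congrArg Subtype.val hQ₂
  have h3 : PrimeSpectrum.comap (fiberEquiv R S p R' p' hκ S').toRingHom Q₁ =
      PrimeSpectrum.comap (fiberEquiv R S p R' p' hκ S').toRingHom Q₂ := by
    apply (PrimeSpectrum.primesOverOrderIsoFiber R S p).symm.injective
    apply Subtype.ext
    show (Q₁.asIdeal.comap (fiberEquiv R S p R' p' hκ S').toRingHom).comap
        (algebraMap S (p.Fiber S)) =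
      (Q₂.asIdeal.comap (fiberEquiv R S p R' p' hκ S').toRingHom).comap (algebraMap S (p.Fiber S))
    rw [comap_fiberEquiv, comap_fiberEquiv, c₁, c₂, h]
  have h4 : Q₁ = Q₂ := PrimeSpectrum.comap_injective_of_surjective
    (fiberEquiv R S p R' p' hκ S').toRingHom (fiberEquiv R S p R' p' hκ S').surjective h3
  rw [← c₁, ← c₂, h4]

section Supp

variable (N : Type u) [AddCommGroup N] [Module S N] [Module R N] [IsScalarTower R S N]
  [Module.Finite S N]
  (N' : Type u) [AddCommGroup N'] [Module S' N'] [Module R' N'] [IsScalarTower R' S' N']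
  [Module S N'] [IsScalarTower S S' N'] (f : N →ₗ[S] N') (hf : IsBaseChange S' f)

include hf

theorem mem_support_iff (Q : PrimeSpectrum (p'.Fiber S')) :
    Q ∈ Module.support (p'.Fiber S') (FlatCA.fiberMod p' S' N') ↔
      PrimeSpectrum.comap (fiberEquiv R S p R' p' hκ S').toRingHom Q ∈
        Module.support (p.Fiber S) (FlatCA.fiberMod p S N) := by
  haveI : Module.Finite S' N' := Module.Finite.equiv hf.equiv
  have e1 : Module.support (p'.Fiber S') (FlatCA.fiberMod p' S' N') =
      PrimeSpectrum.comap (algebraMap S' (p'.Fiber S')) ⁻¹' Module.support S' N' :=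
    Dev12231.support_baseChange (S := S') (A := p'.Fiber S') (N := N')
  have e2 : Module.support S' N' =
      PrimeSpectrum.comap (algebraMap S S') ⁻¹' Module.support S N := by
    rw [← hf.equiv.support_eq, Dev12231.support_baseChange]
  have e3 : Module.support (p.Fiber S) (FlatCA.fiberMod p S N) =
      PrimeSpectrum.comap (algebraMap S (p.Fiber S)) ⁻¹' Module.support S N :=
    Dev12231.support_baseChange (S := S) (A := p.Fiber S) (N := N)
  rw [e1, e2, e3]
  simp only [Set.mem_preimage]
  have : PrimeSpectrum.comap (algebraMap S S')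
      (PrimeSpectrum.comap (algebraMap S' (p'.Fiber S')) Q) =
      PrimeSpectrum.comap (algebraMap S (p.Fiber S))
        (PrimeSpectrum.comap (fiberEquiv R S p R' p' hκ S').toRingHom Q) := by
    apply PrimeSpectrum.ext
    exact (comap_fiberEquiv R S p R' p' hκ S' Q.asIdeal).symm
  rw [this]

theorem exists_point (q : Ideal S) [q.IsPrime] [q.LiesOver p] (q' : Ideal S') [q'.IsPrime]
    [q'.LiesOver q] [q'.LiesOver p'] (n : ℕ)
    (h1 : ∃ (ξ : PrimeSpectrum (p.Fiber S))
      (hξ : ξ ∈ Module.support (p.Fiber S) (FlatCA.fiberMod p S N)),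
      ξ.asIdeal = FlatCA.fiberIdeal p q ∧
      FlatMor.localDim (Module.support (p.Fiber S) (FlatCA.fiberMod p S N)) ⟨ξ, hξ⟩ = n) :
    ∃ (ξ' : PrimeSpectrum (p'.Fiber S'))
      (hξ' : ξ' ∈ Module.support (p'.Fiber S') (FlatCA.fiberMod p' S' N')),
      ξ'.asIdeal = FlatCA.fiberIdeal p' q' ∧
      FlatMor.localDim (Module.support (p'.Fiber S') (FlatCA.fiberMod p' S' N')) ⟨ξ', hξ'⟩ = n := by
  obtain ⟨ξ, hξ, hξq, hdim⟩ := h1
  let Φ : PrimeSpectrum (p.Fiber S) ≃ₜ PrimeSpectrum (p'.Fiber S') :=
    PrimeSpectrum.homeomorphOfRingEquiv (fiberEquiv R S p R' p' hκ S')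
  have hΦ : ∀ x, PrimeSpectrum.comap (fiberEquiv R S p R' p' hκ S').toRingHom (Φ x) = x :=
    fun x => Φ.symm_apply_apply x
  have hiff : ∀ x : PrimeSpectrum (p.Fiber S),
      x ∈ Module.support (p.Fiber S) (FlatCA.fiberMod p S N) ↔
      Φ x ∈ Module.support (p'.Fiber S') (FlatCA.fiberMod p' S' N') := by
    intro x
    rw [mem_support_iff R S p R' p' hκ S' N N' f hf (Φ x), hΦ]
  let Ψ := Homeomorph.subtype
    (p := fun x => x ∈ Module.support (p.Fiber S) (FlatCA.fiberMod p S N))
    (q := fun y => y ∈ Module.support (p'.Fiber S') (FlatCA.fiberMod p' S' N')) Φ hiff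
  have hq'q : q'.comap (algebraMap S S') = q := (Ideal.over_def q' q).symm
  refine ⟨Φ ξ, (hiff ξ).mp hξ, ?_, ?_⟩
  · have hξ' : (Φ ξ).asIdeal = ξ.asIdeal.map (fiberEquiv R S p R' p' hκ S') := by
      show ξ.asIdeal.comap (fiberEquiv R S p R' p' hκ S').symm = _
      exact Ideal.comap_symm _
    have hcomap : (Φ ξ).asIdeal.comap (fiberEquiv R S p R' p' hκ S').toRingHom = ξ.asIdeal :=
      congrArg PrimeSpectrum.asIdeal (hΦ ξ)
    -- the contraction of `Φ ξ` to `S'` is `q'`
    have hq₁ : (Φ ξ).asIdeal.comap (algebraMap S' (p'.Fiber S')) = q' := by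
      haveI : ((Φ ξ).asIdeal.comap (algebraMap S' (p'.Fiber S'))).IsPrime :=
        Ideal.comap_isPrime _ _
      haveI : ((Φ ξ).asIdeal.comap (algebraMap S' (p'.Fiber S'))).LiesOver p' := ⟨by
        have h0 : p' = (Φ ξ).asIdeal.under R' := Ideal.over_def (Φ ξ).asIdeal p'
        refine h0.trans ?_
        ext r
        simp only [Ideal.under_def, Ideal.mem_comap]
        rw [show algebraMap S' (p'.Fiber S') (algebraMap R' S' r) =
            algebraMap R' (p'.Fiber S') r from
          (Algebra.TensorProduct.includeRight (R := R') (A := p'.ResidueField)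
            (B := S')).commutes r]⟩
      apply eq_of_comap_eq R S p R' p' hκ S'
      rw [← comap_fiberEquiv R S p R' p' hκ S', hcomap, hξq, comap_fiberIdeal, hq'q]
    apply le_antisymm
    · rw [hξ', hξq]
      unfold FlatCA.fiberIdeal
      rw [Ideal.map_le_iff_le_comap, Ideal.map_le_iff_le_comap]
      intro s hs
      rw [Ideal.mem_comap, Ideal.mem_comap]
      show fiberEquiv R S p R' p' hκ S' (algebraMap S (p.Fiber S) s) ∈ _
      rw [fiberEquiv_algebraMap]
      apply Ideal.mem_map_of_mem
      have : s ∈ q'.comap (algebraMap S S') := by rw [hq'q]; exact hs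
      exact this
    · unfold FlatCA.fiberIdeal
      rw [Ideal.map_le_iff_le_comap]
      show q' ≤ (Φ ξ).asIdeal.comap (algebraMap S' (p'.Fiber S'))
      rw [hq₁]
  · have := Groth.Agent.FibLocH8.localDim_homeomorph Ψ ⟨ξ, hξ⟩
    exact this.trans hdim

end Supp

end FiberIso

section PT

/-- transfer of pure transcendence along an isomorphism of field extensions -/
theorem pt_transfer {F E F' E' : Type u} [Field F] [Field E] [Field F'] [Field E'] [Algebra F E]
    [Algebra F' E'] (τ : F ≃+* F') (σ : E →+* E') (hσ : Function.Surjective σ)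
    (sq : ∀ k, σ (algebraMap F E k) = algebraMap F' E' (τ k))
    {ι : Type u} (x : ι → E) (hx : IsTranscendenceBasis F x)
    (hadj : IntermediateField.adjoin F (Set.range x) = ⊤) :
    IsTranscendenceBasis F' (fun i => σ (x i)) ∧
      IntermediateField.adjoin F' (Set.range fun i => σ (x i)) = ⊤ := by
  have hσinj : Function.Injective σ := σ.injective
  have squareHom : (algebraMap F' E').comp (τ : F →+* F') = σ.comp (algebraMap F E) :=
    RingHom.ext fun k => (sq k).symm
  have hiff : ∀ {J : Type u} (z : J → E),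
      AlgebraicIndependent F' (σ ∘ z) ↔ AlgebraicIndependent F z :=
    fun z => algebraicIndependent_ringHom_iff_of_comp_eq τ σ hσinj squareHom
  refine ⟨⟨(hiff x).mpr hx.1, ?_⟩, ?_⟩
  · intro s hs hle
    have hs0 : AlgebraicIndependent F (fun a : (σ ⁻¹' s) => (a : E)) := by
      rw [← hiff]
      have hinj : Function.Injective (fun a : (σ ⁻¹' s) => (⟨σ a.1, a.2⟩ : s)) := by
        intro a b hab
        apply Subtype.ext
        apply hσinj
        exact congrArg Subtype.val hab
      exact AlgebraicIndependent.comp hs _ hinj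
    have hle0 : Set.range x ⊆ σ ⁻¹' s := by
      rintro _ ⟨i, rfl⟩
      exact hle ⟨i, rfl⟩
    have h5 := hx.2 (σ ⁻¹' s) hs0 hle0
    have h6 : Set.range (fun i => σ (x i)) = σ '' Set.range x := by
      rw [← Set.range_comp]; rfl
    rw [h6, h5, Set.image_preimage_eq s hσ]
  · have key : ∀ e, e ∈ IntermediateField.adjoin F (Set.range x) →
        σ e ∈ IntermediateField.adjoin F' (Set.range fun i => σ (x i)) := by
      intro e he
      induction he using IntermediateField.adjoin_induction with
      | mem a ha =>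
        obtain ⟨i, rfl⟩ := ha
        exact IntermediateField.subset_adjoin _ _ ⟨i, rfl⟩
      | algebraMap k =>
        rw [sq]
        exact IntermediateField.algebraMap_mem _ _
      | add a b _ _ ha hb => rw [map_add]; exact add_mem ha hb
      | inv a _ ha => rw [map_inv₀]; exact inv_mem ha
      | mul a b _ _ ha hb => rw [map_mul]; exact mul_mem ha hb
    rw [eq_top_iff]
    intro e' _
    obtain ⟨e, rfl⟩ := hσ e'
    exact key e (by rw [hadj]; trivial)

variable (R D : Type u) [CommRing R] [CommRing D] [Algebra R D] (p : Ideal R) [p.IsPrime]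
  (y : Ideal D) [y.IsPrime] [hyp : y.LiesOver p]
  (R' : Type u) [CommRing R'] [Algebra R R'] (p' : Ideal R') [p'.IsPrime] [hp' : p'.LiesOver p]
  (D' : Type u) [CommRing D'] [Algebra R' D'] [Algebra R D'] [Algebra D D'] [IsScalarTower R R' D']
  [IsScalarTower R D D']
  (y' : Ideal D') [y'.IsPrime] [hy'y : y'.LiesOver y] [hy'p' : y'.LiesOver p']

/-- the square of residue fields commutes -/
theorem residue_square (k : p.ResidueField) :
    Ideal.ResidueField.map y y' (algebraMap D D') (Ideal.over_def y' y)
      (Ideal.ResidueField.map p y (algebraMap R D) (Ideal.over_def y p) k) =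
    Ideal.ResidueField.map p' y' (algebraMap R' D') (Ideal.over_def y' p')
      (Ideal.ResidueField.map p p' (algebraMap R R') (Ideal.over_def p' p) k) := by
  have : (Ideal.ResidueField.map y y' (algebraMap D D') (Ideal.over_def y' y)).comp
      (Ideal.ResidueField.map p y (algebraMap R D) (Ideal.over_def y p)) =
      (Ideal.ResidueField.map p' y' (algebraMap R' D') (Ideal.over_def y' p')).comp
        (Ideal.ResidueField.map p p' (algebraMap R R') (Ideal.over_def p' p)) := by
    apply Ideal.ResidueField.ringHom_ext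
    apply RingHom.ext
    intro r
    simp only [RingHom.comp_apply, Ideal.ResidueField.map_algebraMap]
    rw [← IsScalarTower.algebraMap_apply R D D', ← IsScalarTower.algebraMap_apply R R' D']
  exact RingHom.congr_fun this k

variable [Algebra.IsPushout R R' D D']

theorem sigma_surjective
    (hκ' : Function.Surjective (Ideal.ResidueField.map p p' (algebraMap R R') (Ideal.over_def p' p))) :
    Function.Surjective (Ideal.ResidueField.map y y' (algebraMap D D') (Ideal.over_def y' y)) := by
  have hrange : ∀ d' : D', algebraMap D' y'.ResidueField d' ∈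
      (Ideal.ResidueField.map y y' (algebraMap D D') (Ideal.over_def y' y)).fieldRange := by
    intro d'
    have hbc : IsBaseChange R' (IsScalarTower.toAlgHom R D D').toLinearMap := Algebra.IsPushout.out
    refine hbc.inductionOn d' _ ?_ ?_ ?_ ?_
    · rw [map_zero]; exact zero_mem _
    · intro d
      rw [RingHom.mem_fieldRange]
      exact ⟨algebraMap D y.ResidueField d,
        Ideal.ResidueField.map_algebraMap y y' (algebraMap D D') (Ideal.over_def y' y) d⟩
    · intro r' x' hx'
      rw [Algebra.smul_def, map_mul]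
      refine mul_mem ?_ hx'
      obtain ⟨k, hk⟩ := hκ' (algebraMap R' p'.ResidueField r')
      rw [RingHom.mem_fieldRange]
      refine ⟨Ideal.ResidueField.map p y (algebraMap R D) (Ideal.over_def y p) k, ?_⟩
      rw [residue_square R D p y R' p' D' y' k, hk, Ideal.ResidueField.map_algebraMap]
    · intro a b ha hb
      rw [map_add]; exact add_mem ha hb
  intro e'
  obtain ⟨a, b, hb, hab⟩ := Groth.Agent.Lib.AssFiberTensor.exists_frac y' e'
  have hb0 : algebraMap D' y'.ResidueField b ≠ 0 := by
    rwa [Ne, Ideal.algebraMap_residueField_eq_zero]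
  have he : e' = algebraMap D' y'.ResidueField a / algebraMap D' y'.ResidueField b :=
    eq_div_of_mul_eq hb0 (by rw [mul_comm]; exact hab)
  obtain ⟨ea, hea⟩ := RingHom.mem_fieldRange.mp (hrange a)
  obtain ⟨eb, heb⟩ := RingHom.mem_fieldRange.mp (hrange b)
  exact ⟨ea / eb, by rw [map_div₀, hea, heb, he]⟩

theorem purelyTranscendental_baseChange
    (hκ : Function.Bijective (Ideal.ResidueField.mapₐ p p' (Algebra.ofId R R') hp'.over))
    (h4 : FlatCA.PurelyTranscendental p y) :
    FlatCA.PurelyTranscendental p' y' := by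
  have hκ' : Function.Bijective
      (Ideal.ResidueField.map p p' (algebraMap R R') (Ideal.over_def p' p)) := hκ
  have hsurj := sigma_surjective R D p y R' p' D' y' hκ'.2
  unfold FlatCA.PurelyTranscendental at h4 ⊢
  obtain ⟨ι, x, hx, hadj⟩ := h4
  letI algy : Algebra p.ResidueField y.ResidueField :=
    (Ideal.ResidueField.mapₐ p y (Algebra.ofId R D) hyp.over).toRingHom.toAlgebra
  letI algy' : Algebra p'.ResidueField y'.ResidueField :=
    (Ideal.ResidueField.mapₐ p' y' (Algebra.ofId R' D') hy'p'.over).toRingHom.toAlgebra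
  have key := pt_transfer (F := p.ResidueField) (E := y.ResidueField) (F' := p'.ResidueField)
    (E' := y'.ResidueField) (RingEquiv.ofBijective _ hκ')
    (Ideal.ResidueField.map y y' (algebraMap D D') (Ideal.over_def y' y)) hsurj
    (fun k => residue_square R D p y R' p' D' y' k) x hx hadj
  exact ⟨ι, _, key.1, key.2⟩

end PT

end Groth.Agent.Lib.Dev12239
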