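import Mathlib
import Groth.Prelude
import Groth.Agent.Lib.Dev12239_lead

set_option autoImplicit false
set_option linter.unusedSimpArgs false
set_option linter.unusedVariables false
set_option linter.unusedSectionVars false
set_option linter.style.longLine false
set_option linter.unnecessarySimpa false
set_option linter.style.haveILetI false
set_option maxHeartbeats 1600000

universe u

open TensorProduct

namespace Groth.Agent.Lib.Dev12239

theorem main12239
    (R S : Type u) [CommRing R] [CommRing S] [Algebra R S] [Algebra.FiniteType R S]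
    (N : Type u) [AddCommGroup N] [Module S N] [Module R N] [IsScalarTower R S N] [Module.Finite S N]
    (p : Ideal R) [p.IsPrime] (q : Ideal S) [q.IsPrime] [q.LiesOver p]
    (C D G : Type u) [CommRing C] [CommRing D] [Algebra S C] [Algebra R C] [IsScalarTower R S C]
    [Algebra R D] [Algebra D C] [IsScalarTower R D C] [AddCommGroup G] [Module C G] [Module S G]
    [IsScalarTower S C G] (n : ℕ)
    (h : FlatCA.IsOneStepDevissage R S N p C D G n)
    (z : Ideal C) [z.IsPrime] (y : Ideal D) [y.IsPrime] [z.LiesOver q] [z.LiesOver y] [y.LiesOver p]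
    (h1 : ∃ (ξ : PrimeSpectrum (p.Fiber S)) (hξ : ξ ∈ Module.support (p.Fiber S) (FlatCA.fiberMod p S N)),
      ξ.asIdeal = FlatCA.fiberIdeal p q ∧
      FlatMor.localDim (Module.support (p.Fiber S) (FlatCA.fiberMod p S N)) ⟨ξ, hξ⟩ = n)
    (h3 : ∀ (z₁ : Ideal C) [z₁.IsPrime], z₁.LiesOver y → z₁ = z)
    (h4 : FlatCA.PurelyTranscendental p y)
    (R' : Type u) [CommRing R'] [Algebra R R'] (p' : Ideal R') [p'.IsPrime] [hp' : p'.LiesOver p]
    (hκ : Function.Bijective (Ideal.ResidueField.mapₐ p p' (Algebra.ofId R R') hp'.over))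
    (S' C' D' : Type u) [CommRing S'] [CommRing C'] [CommRing D']
    [Algebra R' S'] [Algebra R S'] [Algebra S S'] [IsScalarTower R R' S'] [IsScalarTower R S S']
    [Algebra.IsPushout R R' S S']
    [Algebra R' C'] [Algebra R C'] [Algebra C C'] [IsScalarTower R R' C'] [IsScalarTower R C C']
    [Algebra.IsPushout R R' C C']
    [Algebra R' D'] [Algebra R D'] [Algebra D D'] [IsScalarTower R R' D'] [IsScalarTower R D D']
    [Algebra.IsPushout R R' D D']
    [Algebra S' C'] [IsScalarTower R' S' C'] [Algebra S C'] [IsScalarTower S S' C'] [IsScalarTower S C C']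
    [Algebra D' C'] [IsScalarTower R' D' C'] [Algebra D C'] [IsScalarTower D D' C'] [IsScalarTower D C C']
    (N' : Type u) [AddCommGroup N'] [Module S' N'] [Module R' N'] [IsScalarTower R' S' N']
    [Module S N'] [IsScalarTower S S' N'] (f : N →ₗ[S] N') (hf : IsBaseChange S' f)
    (G' : Type u) [AddCommGroup G'] [Module C' G'] [Module S' G'] [IsScalarTower S' C' G']
    [Module C G'] [IsScalarTower C C' G'] (g : G →ₗ[C] G') (hg : IsBaseChange C' g)
    (q' : Ideal S') [q'.IsPrime] [q'.LiesOver q] [q'.LiesOver p']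
    (z' : Ideal C') [z'.IsPrime] [z'.LiesOver z] [z'.LiesOver p']
    (y' : Ideal D') [y'.IsPrime] [y'.LiesOver y] [y'.LiesOver p'] :
    (∀ (q₁ : Ideal S') [q₁.IsPrime], q₁.LiesOver q → q₁.LiesOver p' → q₁ = q') ∧
    FlatCA.IsOneStepDevissage R' S' N' p' C' D' G' n ∧
    (∃ (ξ' : PrimeSpectrum (p'.Fiber S')) (hξ' : ξ' ∈ Module.support (p'.Fiber S') (FlatCA.fiberMod p' S' N')),
      ξ'.asIdeal = FlatCA.fiberIdeal p' q' ∧
      FlatMor.localDim (Module.support (p'.Fiber S') (FlatCA.fiberMod p' S' N')) ⟨ξ', hξ'⟩ = n) ∧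
    z'.LiesOver q' ∧ z'.LiesOver y' ∧
    (∀ (z₁ : Ideal C') [z₁.IsPrime], z₁.LiesOver y' → z₁ = z') ∧
    FlatCA.PurelyTranscendental p' y' := by
  have hz'z : z'.comap (algebraMap C C') = z := (Ideal.over_def z' z).symm
  have hzq : z.comap (algebraMap S C) = q := (Ideal.over_def z q).symm
  have hzy : z.comap (algebraMap D C) = y := (Ideal.over_def z y).symm
  have hq'q : q'.comap (algebraMap S S') = q := (Ideal.over_def q' q).symm
  have hy'y : y'.comap (algebraMap D D') = y := (Ideal.over_def y' y).symm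
  have hzq' : z'.comap (algebraMap S' C') = q' := by
    haveI : (z'.comap (algebraMap S' C')).IsPrime := Ideal.comap_isPrime _ _
    haveI : (z'.comap (algebraMap S' C')).LiesOver p' := ⟨by
      rw [Ideal.under_def, comap_comap_tower]; exact Ideal.over_def z' p'⟩
    apply eq_of_comap_eq R S p R' p' hκ S'
    calc (z'.comap (algebraMap S' C')).comap (algebraMap S S') = z'.comap (algebraMap S C') :=
          comap_comap_tower _
      _ = (z'.comap (algebraMap C C')).comap (algebraMap S C) := (comap_comap_tower _).symm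
      _ = q := by rw [hz'z, hzq]
      _ = q'.comap (algebraMap S S') := hq'q.symm
  have hzy' : z'.comap (algebraMap D' C') = y' := by
    haveI : (z'.comap (algebraMap D' C')).IsPrime := Ideal.comap_isPrime _ _
    haveI : (z'.comap (algebraMap D' C')).LiesOver p' := ⟨by
      rw [Ideal.under_def, comap_comap_tower]; exact Ideal.over_def z' p'⟩
    apply eq_of_comap_eq R D p R' p' hκ D'
    calc (z'.comap (algebraMap D' C')).comap (algebraMap D D') = z'.comap (algebraMap D C') :=
          comap_comap_tower _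
      _ = (z'.comap (algebraMap C C')).comap (algebraMap D C) := (comap_comap_tower _).symm
      _ = y := by rw [hz'z, hzy]
      _ = y'.comap (algebraMap D D') := hy'y.symm
  refine ⟨?_, ?_, ?_, ⟨hzq'.symm⟩, ⟨hzy'.symm⟩, ?_, ?_⟩
  · intro q₁ _ hq₁q hq₁p'
    haveI := hq₁q
    haveI := hq₁p'
    apply eq_of_comap_eq R S p R' p' hκ S'
    have : q₁.comap (algebraMap S S') = q := (Ideal.over_def q₁ q).symm
    rw [this, hq'q]
  · exact Groth.Agent.Lib.Dev12231.main12231 R S N p C D G n h R' p' S' C' D' N' f hf G' g hg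
  · exact exists_point R S p R' p' hκ S' N N' f hf q q' n h1
  · intro z₁ _ hz₁
    haveI := hz₁
    have hz₁y' : z₁.comap (algebraMap D' C') = y' := (Ideal.over_def z₁ y').symm
    haveI : z₁.LiesOver p' := ⟨by
      show p' = z₁.comap (algebraMap R' C')
      rw [← comap_comap_tower (Y := D'), hz₁y']; exact Ideal.over_def y' p'⟩
    have hz₀ : z₁.comap (algebraMap C C') = z := by
      haveI : (z₁.comap (algebraMap C C')).IsPrime := Ideal.comap_isPrime _ _
      apply h3
      refine ⟨?_⟩
      show y = (z₁.comap (algebraMap C C')).comap (algebraMap D C)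
      rw [comap_comap_tower, ← comap_comap_tower (Y := D'), hz₁y', hy'y]
    exact eq_of_comap_eq R C p R' p' hκ C' z₁ z' (by rw [hz₀, hz'z])
  · exact purelyTranscendental_baseChange R D p y R' p' D' y' hκ h4

end Groth.Agent.Lib.Dev12239
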