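import Mathlib
import Groth.Prelude
import Groth.Agent.Lib.Dev12239_lead

/-!
# Base change of a complete dévissage at a point, residue field unchanged (lead) — S12244
-/

set_option autoImplicit false
set_option linter.unusedSimpArgs false
set_option linter.unusedVariables false
set_option linter.unusedSectionVars false
set_option linter.style.longLine false
set_option linter.unnecessarySimpa false
set_option linter.style.haveILetI false
set_option maxHeartbeats 1600000

universe u

open TensorProduct CategoryTheory AlgebraicGeometry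

namespace Groth.Agent.Lib.Dev12244

open Groth.Agent.Lib.Dev12239

attribute [local instance] Algebra.TensorProduct.rightAlgebra

theorem smoothRelDim_baseChange (n : ℕ) (R R' D D' : Type u) [CommRing R] [CommRing R']
    [CommRing D] [CommRing D']
    [Algebra R R'] [Algebra R D] [Algebra R' D'] [Algebra R D'] [Algebra D D']
    [IsScalarTower R R' D'] [IsScalarTower R D D'] [Algebra.IsPushout R R' D D']
    (h : FlatCA.SmoothRelDim n R D) : FlatCA.SmoothRelDim n R' D' :=
  (smoothOfRelativeDimension_isStableUnderBaseChange n).of_isPullback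
    (Groth.Agent.Lib.Dev12231.isPullback_spec R R' D D') h

section Lift

variable (R S : Type u) [CommRing R] [CommRing S] [Algebra R S]
  (p : Ideal R) [p.IsPrime]
  (R' : Type u) [CommRing R'] [Algebra R R'] (p' : Ideal R') [p'.IsPrime] [hp' : p'.LiesOver p]
  (hκ : Function.Bijective (Ideal.ResidueField.mapₐ p p' (Algebra.ofId R R') hp'.over))
  (S' : Type u) [CommRing S'] [Algebra R' S'] [Algebra R S'] [Algebra S S'] [IsScalarTower R R' S']
  [IsScalarTower R S S'] [Algebra.IsPushout R R' S S']

include hκ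

theorem exists_prime_over (q : Ideal S) [hq : q.IsPrime] [hqo : q.LiesOver p] :
    ∃ q' : Ideal S', q'.IsPrime ∧ q'.LiesOver p' ∧ q'.comap (algebraMap S S') = q := by
  let Φ : PrimeSpectrum (p.Fiber S) ≃ₜ PrimeSpectrum (p'.Fiber S') :=
    PrimeSpectrum.homeomorphOfRingEquiv (fiberEquiv R S p R' p' hκ S')
  obtain ⟨Qf, hQf'⟩ := (PrimeSpectrum.primesOverOrderIsoFiber R S p).symm.surjective ⟨q, hq, hqo⟩
  have hQf : Qf.asIdeal.comap (algebraMap S (p.Fiber S)) = q := congrArg Subtype.val hQf'
  have hΦ : PrimeSpectrum.comap (fiberEquiv R S p R' p' hκ S').toRingHom (Φ Qf) = Qf :=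
    Φ.symm_apply_apply Qf
  have hΦ' : (Φ Qf).asIdeal.comap (fiberEquiv R S p R' p' hκ S').toRingHom = Qf.asIdeal :=
    congrArg PrimeSpectrum.asIdeal hΦ
  refine ⟨(Φ Qf).asIdeal.comap (algebraMap S' (p'.Fiber S')), Ideal.comap_isPrime _ _, ⟨?_⟩, ?_⟩
  · have h0 : p' = (Φ Qf).asIdeal.under R' := Ideal.over_def (Φ Qf).asIdeal p'
    refine h0.trans ?_
    ext r
    simp only [Ideal.under_def, Ideal.mem_comap]
    rw [show algebraMap S' (p'.Fiber S') (algebraMap R' S' r) =
        algebraMap R' (p'.Fiber S') r from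
      (Algebra.TensorProduct.includeRight (R := R') (A := p'.ResidueField)
        (B := S')).commutes r]
  · rw [← comap_fiberEquiv R S p R' p' hκ S', hΦ', hQf]

theorem comap_eq_of_tower {Y Y' : Type u} [CommRing Y] [CommRing Y'] [Algebra S Y] [Algebra Y Y']
    [Algebra S' Y'] [Algebra S Y'] [IsScalarTower S S' Y'] [IsScalarTower S Y Y'] [Algebra R' Y']
    [IsScalarTower R' S' Y']
    (PX : Ideal S) (PX' : Ideal S') [PX'.IsPrime] [PX'.LiesOver p'] (PY : Ideal Y) (PY' : Ideal Y')
    [PY'.IsPrime] [PY'.LiesOver p']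
    (h1 : PX'.comap (algebraMap S S') = PX) (h2 : PY'.comap (algebraMap Y Y') = PY)
    (h3 : PY.comap (algebraMap S Y) = PX) :
    PY'.comap (algebraMap S' Y') = PX' := by
  haveI : (PY'.comap (algebraMap S' Y')).IsPrime := Ideal.comap_isPrime _ _
  haveI : (PY'.comap (algebraMap S' Y')).LiesOver p' := ⟨by
    rw [Ideal.under_def, comap_comap_tower]; exact Ideal.over_def PY' p'⟩
  apply eq_of_comap_eq R S p R' p' hκ S'
  calc (PY'.comap (algebraMap S' Y')).comap (algebraMap S S') = PY'.comap (algebraMap S Y') :=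
        comap_comap_tower _
    _ = (PY'.comap (algebraMap Y Y')).comap (algebraMap S Y) := (comap_comap_tower _).symm
    _ = PX := by rw [h2, h3]
    _ = PX'.comap (algebraMap S S') := h1.symm

theorem uniq_lift {X X' : Type u} [CommRing X] [CommRing X'] [Algebra X S] [Algebra X X']
    [Algebra X' S'] [Algebra X S'] [IsScalarTower X X' S'] [IsScalarTower X S S'] [Algebra R' X']
    [IsScalarTower R' X' S']
    (PX : Ideal X) (PX' : Ideal X') [PX'.IsPrime] [PX'.LiesOver p'] (PY : Ideal S)
    (PY' : Ideal S') [PY'.IsPrime] [PY'.LiesOver p']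
    (h1 : PX'.comap (algebraMap X X') = PX) (h2 : PY'.comap (algebraMap S S') = PY)
    (huniq : ∀ (Q : Ideal S) [Q.IsPrime], Q.LiesOver PX → Q = PY)
    (Q : Ideal S') [Q.IsPrime] (hQ : Q.LiesOver PX') : Q = PY' := by
  have hQX : Q.comap (algebraMap X' S') = PX' := (Ideal.over_def Q PX').symm
  haveI : Q.LiesOver p' := ⟨by
    show p' = Q.comap (algebraMap R' S')
    rw [← comap_comap_tower (Y := X'), hQX]; exact Ideal.over_def PX' p'⟩
  have h0 : Q.comap (algebraMap S S') = PY := by
    haveI : (Q.comap (algebraMap S S')).IsPrime := Ideal.comap_isPrime _ _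
    apply huniq
    refine ⟨?_⟩
    show PX = (Q.comap (algebraMap S S')).comap (algebraMap X S)
    rw [comap_comap_tower, ← comap_comap_tower (Y := X'), hQX, h1]
  exact eq_of_comap_eq R S p R' p' hκ S' Q PY' (by rw [h0, h2])

theorem step_locDim
    (A A' M M' : Type u) [CommRing A] [CommRing A']
    [Algebra R A] [Algebra S A] [IsScalarTower R S A]
    [Algebra R' A'] [Algebra R A'] [Algebra A A'] [IsScalarTower R R' A'] [IsScalarTower R A A']
    [Algebra.IsPushout R R' A A']
    [Algebra S' A'] [IsScalarTower R' S' A'] [Algebra S A'] [IsScalarTower S S' A']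
    [IsScalarTower S A A'] [Module.Finite S A]
    [AddCommGroup M] [Module A M] [Module S M] [IsScalarTower S A M] [Module R M]
    [IsScalarTower R S M] [Module.Finite A M]
    [AddCommGroup M'] [Module A' M'] [Module S' M'] [IsScalarTower S' A' M'] [Module R' M']
    [IsScalarTower R' S' M']
    [Module A M'] [IsScalarTower A A' M'] (g : M →ₗ[A] M') (hg : IsBaseChange A' g)
    (QB : Ideal S) [QB.IsPrime] [QB.LiesOver p] (QB' : Ideal S') [QB'.IsPrime] [QB'.LiesOver QB]
    [QB'.LiesOver p'] (n : ℕ)
    (h1 : ∃ (ξ : PrimeSpectrum (p.Fiber S))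
      (hξ : ξ ∈ Module.support (p.Fiber S) (FlatCA.fiberMod p S M)),
      ξ.asIdeal = FlatCA.fiberIdeal p QB ∧
      FlatMor.localDim (Module.support (p.Fiber S) (FlatCA.fiberMod p S M)) ⟨ξ, hξ⟩ = n) :
    ∃ (ξ' : PrimeSpectrum (p'.Fiber S'))
      (hξ' : ξ' ∈ Module.support (p'.Fiber S') (FlatCA.fiberMod p' S' M')),
      ξ'.asIdeal = FlatCA.fiberIdeal p' QB' ∧
      FlatMor.localDim (Module.support (p'.Fiber S') (FlatCA.fiberMod p' S' M')) ⟨ξ', hξ'⟩ = n := by
  letI mBM' : Module S M' := Module.compHom M' (algebraMap S S')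
  haveI tBB'M' : IsScalarTower S S' M' := ⟨fun b b' m => by
    show (b • b') • m = (algebraMap S S' b) • (b' • m)
    rw [Algebra.smul_def, mul_smul]⟩
  haveI : Module.Finite S M := Module.Finite.trans A M
  haveI : Algebra.IsPushout S S' A A' := Groth.Agent.Lib.Dev12231.isPushout_right R S R' S' A A'
  have hcompat : ∀ (b : S) (m' : M'), b • m' = (algebraMap S A b) • m' := by
    intro b m'
    show (algebraMap S S' b) • m' = (algebraMap S A b) • m'
    rw [← algebraMap_smul A' (algebraMap S S' b) m', ← algebraMap_smul A' (algebraMap S A b) m',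
      ← IsScalarTower.algebraMap_apply S S' A', ← IsScalarTower.algebraMap_apply S A A']
  let gB : M →ₗ[S] M' :=
    { toFun := g
      map_add' := g.map_add
      map_smul' := fun b m => by
        show g (b • m) = b • g m
        rw [hcompat, ← algebraMap_smul A b m, g.map_smul] }
  have hgB : IsBaseChange S' gB := by
    let e : S' ⊗[S] M ≃ₗ[S'] M' :=
      (Algebra.IsPushout.cancelBaseChange S S' A A' M).symm ≪≫ₗ (hg.equiv.restrictScalars S')
    refine IsBaseChange.of_equiv e (fun m => ?_)
    show hg.equiv ((Algebra.IsPushout.cancelBaseChange S S' A A' M).symm (1 ⊗ₜ m)) = g m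
    rw [Algebra.IsPushout.cancelBaseChange_symm_tmul, map_one, hg.equiv_tmul, one_smul]
  exact exists_point R S p R' p' hκ S' M M' gB hgB QB QB' n h1

end Lift

end Groth.Agent.Lib.Dev12244
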