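import Mathlib
import Groth.Prelude
import Groth.Agent.Lib.Dev12244_lead

set_option autoImplicit false
set_option linter.unusedSimpArgs false
set_option linter.unusedVariables false
set_option linter.unusedSectionVars false
set_option linter.style.longLine false
set_option linter.unnecessarySimpa false
set_option linter.style.haveILetI false
set_option maxHeartbeats 3200000

universe u

open TensorProduct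

namespace Groth.Agent.Lib.Dev12244

open Groth.Agent.Lib.Dev12239

theorem main12244
    (R S : Type u) [CommRing R] [CommRing S] [Algebra R S] [Algebra.FiniteType R S]
    (N : Type u) [AddCommGroup N] [Module S N] [Module.Finite S N]
    (p : Ideal R) [p.IsPrime] (q : Ideal S) [q.IsPrime] (𝒟 : FlatCA.CompleteDevissage R S N p)
    (𝒜 : FlatCA.CompleteDevissageAt R S N p q 𝒟)
    (R' : Type u) [CommRing R'] [Algebra R R'] (p' : Ideal R') [p'.IsPrime] [hp' : p'.LiesOver p]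
    (hκ : Function.Bijective (Ideal.ResidueField.mapₐ p p' (Algebra.ofId R R') hp'.over))
    (S' : Type u) [CommRing S'] [Algebra R' S'] [Algebra R S'] [Algebra S S'] [IsScalarTower R R' S']
    [IsScalarTower R S S'] [Algebra.IsPushout R R' S S']
    (N' : Type u) [AddCommGroup N'] [Module S' N'] [Module S N'] [IsScalarTower S S' N']
    (f : N →ₗ[S] N') (hf : IsBaseChange S' f)
    (q' : Ideal S') [q'.IsPrime] [q'.LiesOver q] [q'.LiesOver p']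
    (𝒟' : FlatCA.CompleteDevissage R' S' N' p') (hn : 𝒟'.n = 𝒟.n)
    (htail : ∀ i, 𝒟.n ≤ i → ∃ (Q : Ideal (𝒟'.B i)) (P : Ideal (𝒟'.A i)),
      Q.IsPrime ∧ P.IsPrime ∧ Q.LiesOver p' ∧ P.LiesOver Q)
    [aA : ∀ i : Fin 𝒟.n, Algebra (𝒟.A i) (𝒟'.A i)] [rA : ∀ i : Fin 𝒟.n, Algebra R (𝒟'.A i)]
      [t1 : ∀ i : Fin 𝒟.n, IsScalarTower R (R') (𝒟'.A i)] [t2 : ∀ i : Fin 𝒟.n, IsScalarTower R (𝒟.A i) (𝒟'.A i)]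
      [aB : ∀ i : Fin 𝒟.n, Algebra (𝒟.B i) (𝒟'.B i)] [rB : ∀ i : Fin 𝒟.n, Algebra R (𝒟'.B i)]
      [t3 : ∀ i : Fin 𝒟.n, IsScalarTower R (R') (𝒟'.B i)] [t4 : ∀ i : Fin 𝒟.n, IsScalarTower R (𝒟.B i) (𝒟'.B i)]
      [bA : ∀ i : Fin 𝒟.n, Algebra (𝒟.B i) (𝒟'.A i)] [t5 : ∀ i : Fin 𝒟.n, IsScalarTower (𝒟.B i) (𝒟.A i) (𝒟'.A i)]
      [t6 : ∀ i : Fin 𝒟.n, IsScalarTower (𝒟.B i) (𝒟'.B i) (𝒟'.A i)]
      [bA' : ∀ i : Fin 𝒟.n, Algebra (𝒟.B i) (𝒟'.A (i + 1))]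
      [t7 : ∀ i : Fin 𝒟.n, IsScalarTower (𝒟.B i) (𝒟'.B i) (𝒟'.A (i + 1))]
      [sA : Algebra S (𝒟'.A 0)] [t8 : IsScalarTower S (S') (𝒟'.A 0)]
      [mA : ∀ i : Fin 𝒟.n, Module (𝒟.A i) (𝒟'.M i)] [t9 : ∀ i : Fin 𝒟.n, IsScalarTower (𝒟.A i) (𝒟'.A i) (𝒟'.M i)]
      (gM : ∀ i : Fin 𝒟.n, 𝒟.M i →ₗ[𝒟.A i] 𝒟'.M i)
    (hbc : (letI := aA ⟨0, 𝒟.pos⟩; IsScalarTower S (𝒟.A 0) (𝒟'.A 0)) ∧
      (∀ x : N, 𝒟'.isoN (f x) = gM ⟨0, 𝒟.pos⟩ (𝒟.isoN x)) ∧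
      (∀ (i : Fin 𝒟.n) (h : (i : ℕ) + 1 < 𝒟.n),
        letI := aA ⟨i + 1, h⟩; IsScalarTower (𝒟.B i) (𝒟.A (i + 1)) (𝒟'.A (i + 1))) ∧
      ∀ i : Fin 𝒟.n,
        Algebra.IsPushout R R' (𝒟.A i) (𝒟'.A i) ∧ Algebra.IsPushout R R' (𝒟.B i) (𝒟'.B i) ∧
        IsBaseChange (𝒟'.A i) (gM i)) :
    ∃ 𝒜' : FlatCA.CompleteDevissageAt R' S' N' p' q' 𝒟', 𝒜'.d = 𝒜.d ∧
      ∀ i : Fin 𝒟.n, (𝒜'.qB i).LiesOver (𝒜.qB i) ∧ (𝒜'.qA i).LiesOver (𝒜.qA i) := by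
  obtain ⟨hS0, hiso, hstep, hpo⟩ := hbc
  haveI iqB : ∀ i, (𝒜.qB i).IsPrime := 𝒜.hqB
  haveI iqA : ∀ i, (𝒜.qA i).IsPrime := 𝒜.hqA
  haveI ioB : ∀ i, (𝒜.qB i).LiesOver p := 𝒜.overB
  haveI ioA : ∀ i, (𝒜.qA i).LiesOver (𝒜.qB i) := 𝒜.overA
  have hq'q : q'.comap (algebraMap S S') = q := (Ideal.over_def q' q).symm
  -- per-index existence of the points
  have key : ∀ i, ∃ (QB : Ideal (𝒟'.B i)) (QA : Ideal (𝒟'.A i)), QB.IsPrime ∧ QA.IsPrime ∧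
      QB.LiesOver p' ∧ QA.LiesOver QB ∧
      ∀ h : i < 𝒟.n, QB.comap (@algebraMap (𝒟.B i) (𝒟'.B i) _ _ (aB ⟨i, h⟩)) = 𝒜.qB i ∧
        QA.comap (@algebraMap (𝒟.A i) (𝒟'.A i) _ _ (aA ⟨i, h⟩)) = 𝒜.qA i := by
    intro i
    by_cases h : i < 𝒟.n
    · letI : Algebra (𝒟.A i) (𝒟'.A i) := aA ⟨i, h⟩
      letI : Algebra R (𝒟'.A i) := rA ⟨i, h⟩
      haveI : IsScalarTower R R' (𝒟'.A i) := t1 ⟨i, h⟩
      haveI : IsScalarTower R (𝒟.A i) (𝒟'.A i) := t2 ⟨i, h⟩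
      letI : Algebra (𝒟.B i) (𝒟'.B i) := aB ⟨i, h⟩
      letI : Algebra R (𝒟'.B i) := rB ⟨i, h⟩
      haveI : IsScalarTower R R' (𝒟'.B i) := t3 ⟨i, h⟩
      haveI : IsScalarTower R (𝒟.B i) (𝒟'.B i) := t4 ⟨i, h⟩
      letI : Algebra (𝒟.B i) (𝒟'.A i) := bA ⟨i, h⟩
      haveI : IsScalarTower (𝒟.B i) (𝒟.A i) (𝒟'.A i) := t5 ⟨i, h⟩
      haveI : IsScalarTower (𝒟.B i) (𝒟'.B i) (𝒟'.A i) := t6 ⟨i, h⟩
      haveI : Algebra.IsPushout R R' (𝒟.A i) (𝒟'.A i) := (hpo ⟨i, h⟩).1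
      haveI : Algebra.IsPushout R R' (𝒟.B i) (𝒟'.B i) := (hpo ⟨i, h⟩).2.1
      haveI : (𝒜.qA i).LiesOver p := Ideal.LiesOver.trans (𝒜.qA i) (𝒜.qB i) p
      obtain ⟨QB, hQBp, hQBo, hQBc⟩ := exists_prime_over R (𝒟.B i) p R' p' hκ (𝒟'.B i) (𝒜.qB i)
      obtain ⟨QA, hQAp, hQAo, hQAc⟩ := exists_prime_over R (𝒟.A i) p R' p' hκ (𝒟'.A i) (𝒜.qA i)
      haveI := hQBp
      haveI := hQBo
      haveI := hQAp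
      haveI := hQAo
      refine ⟨QB, QA, hQBp, hQAp, hQBo, ⟨?_⟩, fun _ => ⟨hQBc, hQAc⟩⟩
      exact (comap_eq_of_tower R (𝒟.B i) p R' p' hκ (𝒟'.B i) (𝒜.qB i) QB (𝒜.qA i) QA hQBc hQAc
        ((Ideal.over_def (𝒜.qA i) (𝒜.qB i)).symm)).symm
    · obtain ⟨Q, P, hQ, hP, hQo, hPo⟩ := htail i (not_lt.mp h)
      exact ⟨Q, P, hQ, hP, hQo, hPo, fun h' => absurd h' h⟩
  choose QB QA hQBp hQAp hQBo hQAo hcomap using key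
  haveI hQAop : ∀ i, (QA i).LiesOver p' := fun i =>
    haveI := hQAo i
    haveI := hQBo i
    Ideal.LiesOver.trans (QA i) (QB i) p'
  refine ⟨{ qB := QB, qA := QA, hqB := hQBp, hqA := hQAp, overB := hQBo, overA := hQAo,
            pureTrans := ?_, uniq := ?_, q0 := ?_, qStep := ?_, d := 𝒜.d, relDim := ?_,
            locDim := ?_ }, rfl, ?_⟩
  · -- pureTrans
    intro i hi
    have h : i < 𝒟.n := hn ▸ hi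
    letI : Algebra (𝒟.B i) (𝒟'.B i) := aB ⟨i, h⟩
    letI : Algebra R (𝒟'.B i) := rB ⟨i, h⟩
    haveI : IsScalarTower R R' (𝒟'.B i) := t3 ⟨i, h⟩
    haveI : IsScalarTower R (𝒟.B i) (𝒟'.B i) := t4 ⟨i, h⟩
    haveI : Algebra.IsPushout R R' (𝒟.B i) (𝒟'.B i) := (hpo ⟨i, h⟩).2.1
    haveI := hQBp i
    haveI := hQBo i
    haveI : (QB i).LiesOver (𝒜.qB i) := ⟨((hcomap i h).1).symm⟩
    exact purelyTranscendental_baseChange R (𝒟.B i) p (𝒜.qB i) R' p' (𝒟'.B i) (QB i) hκ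
      (𝒜.pureTrans i h)
  · -- uniq
    intro i hi Q hQ hQo
    have h : i < 𝒟.n := hn ▸ hi
    letI : Algebra (𝒟.A i) (𝒟'.A i) := aA ⟨i, h⟩
    letI : Algebra R (𝒟'.A i) := rA ⟨i, h⟩
    haveI : IsScalarTower R R' (𝒟'.A i) := t1 ⟨i, h⟩
    haveI : IsScalarTower R (𝒟.A i) (𝒟'.A i) := t2 ⟨i, h⟩
    letI : Algebra (𝒟.B i) (𝒟'.B i) := aB ⟨i, h⟩
    letI : Algebra (𝒟.B i) (𝒟'.A i) := bA ⟨i, h⟩
    haveI : IsScalarTower (𝒟.B i) (𝒟.A i) (𝒟'.A i) := t5 ⟨i, h⟩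
    haveI : IsScalarTower (𝒟.B i) (𝒟'.B i) (𝒟'.A i) := t6 ⟨i, h⟩
    haveI : Algebra.IsPushout R R' (𝒟.A i) (𝒟'.A i) := (hpo ⟨i, h⟩).1
    haveI := hQBp i
    haveI := hQBo i
    haveI := hQAp i
    haveI := hQAop i
    exact uniq_lift R (𝒟.A i) p R' p' hκ (𝒟'.A i) (𝒜.qB i) (QB i) (𝒜.qA i) (QA i)
      (hcomap i h).1 (hcomap i h).2 (fun Q₀ _ hQ₀ => 𝒜.uniq i h Q₀ hQ₀) Q hQo
  · -- q0
    letI : Algebra (𝒟.A 0) (𝒟'.A 0) := aA ⟨0, 𝒟.pos⟩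
    haveI : IsScalarTower S (𝒟.A 0) (𝒟'.A 0) := hS0
    haveI := hQAp 0
    haveI := hQAop 0
    exact comap_eq_of_tower R S p R' p' hκ S' q q' (𝒜.qA 0) (QA 0) hq'q (hcomap 0 𝒟.pos).2 𝒜.q0
  · -- qStep
    intro i hi
    have h : i + 1 < 𝒟.n := hn ▸ hi
    have h0 : i < 𝒟.n := Nat.lt_of_succ_lt h
    letI : Algebra (𝒟.A (i + 1)) (𝒟'.A (i + 1)) := aA ⟨i + 1, h⟩
    letI : Algebra (𝒟.B i) (𝒟'.B i) := aB ⟨i, h0⟩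
    letI : Algebra R (𝒟'.B i) := rB ⟨i, h0⟩
    haveI : IsScalarTower R R' (𝒟'.B i) := t3 ⟨i, h0⟩
    haveI : IsScalarTower R (𝒟.B i) (𝒟'.B i) := t4 ⟨i, h0⟩
    haveI : Algebra.IsPushout R R' (𝒟.B i) (𝒟'.B i) := (hpo ⟨i, h0⟩).2.1
    letI : Algebra (𝒟.B i) (𝒟'.A (i + 1)) := bA' ⟨i, h0⟩
    haveI : IsScalarTower (𝒟.B i) (𝒟'.B i) (𝒟'.A (i + 1)) := t7 ⟨i, h0⟩
    haveI : IsScalarTower (𝒟.B i) (𝒟.A (i + 1)) (𝒟'.A (i + 1)) := hstep ⟨i, h0⟩ h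
    haveI := hQBp i
    haveI := hQBo i
    haveI := hQAp (i + 1)
    haveI := hQAop (i + 1)
    exact comap_eq_of_tower R (𝒟.B i) p R' p' hκ (𝒟'.B i) (𝒜.qB i) (QB i) (𝒜.qA (i + 1))
      (QA (i + 1)) (hcomap i h0).1 (hcomap (i + 1) h).2 (𝒜.qStep i h)
  · -- relDim
    intro i hi
    have h : i < 𝒟.n := hn ▸ hi
    letI : Algebra (𝒟.B i) (𝒟'.B i) := aB ⟨i, h⟩
    letI : Algebra R (𝒟'.B i) := rB ⟨i, h⟩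
    haveI : IsScalarTower R R' (𝒟'.B i) := t3 ⟨i, h⟩
    haveI : IsScalarTower R (𝒟.B i) (𝒟'.B i) := t4 ⟨i, h⟩
    haveI : Algebra.IsPushout R R' (𝒟.B i) (𝒟'.B i) := (hpo ⟨i, h⟩).2.1
    exact smoothRelDim_baseChange (𝒜.d i) R R' (𝒟.B i) (𝒟'.B i) (𝒜.relDim i h)
  · -- locDim
    intro i hi
    have h : i < 𝒟.n := hn ▸ hi
    letI : Algebra (𝒟.A i) (𝒟'.A i) := aA ⟨i, h⟩
    letI : Algebra R (𝒟'.A i) := rA ⟨i, h⟩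
    haveI : IsScalarTower R R' (𝒟'.A i) := t1 ⟨i, h⟩
    haveI : IsScalarTower R (𝒟.A i) (𝒟'.A i) := t2 ⟨i, h⟩
    letI : Algebra (𝒟.B i) (𝒟'.B i) := aB ⟨i, h⟩
    letI : Algebra R (𝒟'.B i) := rB ⟨i, h⟩
    haveI : IsScalarTower R R' (𝒟'.B i) := t3 ⟨i, h⟩
    haveI : IsScalarTower R (𝒟.B i) (𝒟'.B i) := t4 ⟨i, h⟩
    letI : Algebra (𝒟.B i) (𝒟'.A i) := bA ⟨i, h⟩
    haveI : IsScalarTower (𝒟.B i) (𝒟.A i) (𝒟'.A i) := t5 ⟨i, h⟩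
    haveI : IsScalarTower (𝒟.B i) (𝒟'.B i) (𝒟'.A i) := t6 ⟨i, h⟩
    haveI : Algebra.IsPushout R R' (𝒟.A i) (𝒟'.A i) := (hpo ⟨i, h⟩).1
    haveI : Algebra.IsPushout R R' (𝒟.B i) (𝒟'.B i) := (hpo ⟨i, h⟩).2.1
    letI : Module (𝒟.A i) (𝒟'.M i) := mA ⟨i, h⟩
    haveI : IsScalarTower (𝒟.A i) (𝒟'.A i) (𝒟'.M i) := t9 ⟨i, h⟩
    haveI : Module.Finite (𝒟.B i) (𝒟.A i) := 𝒟.finiteBA i h
    haveI : Module.Finite (𝒟.A i) (𝒟.M i) := 𝒟.finiteM i h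
    haveI := hQBp i
    haveI := hQBo i
    haveI : (QB i).LiesOver (𝒜.qB i) := ⟨((hcomap i h).1).symm⟩
    exact step_locDim R (𝒟.B i) p R' p' hκ (𝒟'.B i) (𝒟.A i) (𝒟'.A i) (𝒟.M i) (𝒟'.M i)
      (gM ⟨i, h⟩) (hpo ⟨i, h⟩).2.2 (𝒜.qB i) (QB i) (𝒜.d i) (𝒜.locDim i h)
  · intro i
    exact ⟨⟨((hcomap i i.2).1).symm⟩, ⟨((hcomap i i.2).2).symm⟩⟩

end Groth.Agent.Lib.Dev12244
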