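import Mathlib
import Groth.Prelude.Def_Found

set_option autoImplicit false
universe u

/-!
# Kaplansky dévissages and direct sum decompositions (helper3)
-/

namespace Groth.Agent.Lib.DevissageH3

variable {R : Type u} [CommRing R] {M : Type u} [AddCommGroup M] [Module R M]

section core

variable {S : Type u} [LinearOrder S] [WellFoundedLT S] (Mf : S → Submodule R M)

theorem le_iSup_of_devissage
    (hlim : ∀ s : S, Order.IsSuccPrelimit s → Mf s = ⨆ t : {t : S // t < s}, Mf t.1)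
    (C : {p : S × S // p.1 ⋖ p.2} → Submodule R M)
    (hsup : ∀ p, Mf p.1.1 ⊔ C p = Mf p.1.2) : ∀ s, Mf s ≤ ⨆ p, C p := by
  intro s
  induction s using WellFoundedLT.induction with
  | ind s ih =>
    by_cases h : Order.IsSuccPrelimit s
    · rw [hlim s h]
      exact iSup_le fun t => ih t.1 t.2
    · obtain ⟨r, hr⟩ := Order.not_isSuccPrelimit_iff.mp h
      rw [← hsup ⟨(r, s), hr⟩]
      exact sup_le (ih r hr.lt) (le_iSup C ⟨(r, s), hr⟩)

theorem iSupIndep_of_devissage (hmono : Monotone Mf)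
    (C : {p : S × S // p.1 ⋖ p.2} → Submodule R M)
    (hinf : ∀ p, Mf p.1.1 ⊓ C p = ⊥)
    (hsup : ∀ p, Mf p.1.1 ⊔ C p = Mf p.1.2) : iSupIndep C := by
  classical
  apply iSupIndep_of_dfinsupp_lsum_injective
  rw [injective_iff_map_eq_zero]
  intro v hv
  by_contra hne
  have hsupp : v.support.Nonempty := by
    rw [Finset.nonempty_iff_ne_empty]
    intro h
    exact hne (DFinsupp.support_eq_empty.mp h)
  obtain ⟨pm, hpm, hmax⟩ := Finset.exists_max_image v.support (fun p => p.1.2) hsupp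
  have hsum : ∑ p ∈ v.support, ((v p : C p) : M) = 0 := by
    rw [DFinsupp.lsum_apply_apply, DFinsupp.sumAddHom_apply] at hv
    exact hv
  have hle : ∀ p ∈ v.support, p ≠ pm → ((v p : C p) : M) ∈ Mf pm.1.1 := by
    intro p hp hne'
    have h1 : p.1.2 ≤ pm.1.2 := hmax p hp
    have h2 : p.1.2 ≠ pm.1.2 := by
      intro heq
      apply hne'
      have hp2 : p.1.1 ⋖ pm.1.2 := by
        rw [← heq]
        exact p.2
      have h3 : p.1.1 = pm.1.1 := CovBy.unique_left hp2 pm.2
      exact Subtype.ext (Prod.ext h3 heq)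
    have h4 : p.1.2 ≤ pm.1.1 := pm.2.le_of_lt (lt_of_le_of_ne h1 h2)
    have h5 : C p ≤ Mf p.1.2 := by
      rw [← hsup p]
      exact le_sup_right
    exact hmono h4 (h5 (v p).2)
  have hpmem : ((v pm : C pm) : M) ∈ Mf pm.1.1 := by
    have h : ((v pm : C pm) : M) = - ∑ p ∈ v.support.erase pm, ((v p : C p) : M) := by
      rw [← Finset.add_sum_erase _ _ hpm] at hsum
      exact eq_neg_of_add_eq_zero_left hsum
    rw [h]
    exact neg_mem (Submodule.sum_mem _ fun p hp =>
      hle p (Finset.mem_of_mem_erase hp) (Finset.ne_of_mem_erase hp))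
  have h0 : ((v pm : C pm) : M) = 0 := by
    have h : ((v pm : C pm) : M) ∈ Mf pm.1.1 ⊓ C pm := ⟨hpmem, (v pm).2⟩
    rw [hinf] at h
    exact (Submodule.mem_bot R).1 h
  exact (DFinsupp.mem_support_iff.1 hpm) (Subtype.ext h0)

theorem iSup_eq_top_of_devissage
    (hlim : ∀ s : S, Order.IsSuccPrelimit s → Mf s = ⨆ t : {t : S // t < s}, Mf t.1)
    (htop : (⨆ s, Mf s) = ⊤)
    (C : {p : S × S // p.1 ⋖ p.2} → Submodule R M)
    (hsup : ∀ p, Mf p.1.1 ⊔ C p = Mf p.1.2) : (⨆ p, C p) = ⊤ := by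
  rw [eq_top_iff, ← htop]
  exact iSup_le (le_iSup_of_devissage Mf hlim C hsup)

end core

/-- A complement `C` of `A` inside `B` is isomorphic to `B / A`. -/
noncomputable def quotEquiv (A B C : Submodule R M) (hinf : A ⊓ C = ⊥) (hsup : A ⊔ C = B) :
    ↥C ≃ₗ[R] (↥B ⧸ Submodule.comap B.subtype A) := by
  have hCB : C ≤ B := hsup ▸ le_sup_right
  refine LinearEquiv.ofBijective ((Submodule.mkQ _) ∘ₗ (Submodule.inclusion hCB)) ⟨?_, ?_⟩
  · rw [← LinearMap.ker_eq_bot, eq_bot_iff]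
    intro c hc
    rw [LinearMap.mem_ker, LinearMap.comp_apply, Submodule.mkQ_apply,
      Submodule.Quotient.mk_eq_zero] at hc
    have hcA : (c : M) ∈ A := hc
    have h : (c : M) ∈ A ⊓ C := ⟨hcA, c.2⟩
    rw [hinf] at h
    have h0 : c = 0 := Subtype.ext ((Submodule.mem_bot R).1 h)
    rw [h0]
    exact Submodule.zero_mem _
  · intro y
    obtain ⟨⟨m, hm⟩, rfl⟩ := Submodule.mkQ_surjective _ y
    have hm' : m ∈ A ⊔ C := by rw [hsup]; exact hm
    obtain ⟨a, ha, c, hc, hac⟩ := Submodule.mem_sup.mp hm'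
    refine ⟨⟨c, hc⟩, ?_⟩
    rw [LinearMap.comp_apply]
    apply (Submodule.Quotient.eq _).2
    rw [Submodule.mem_comap]
    show c - m ∈ A
    rw [← hac]
    have : c - (a + c) = -a := by abel
    rw [this]
    exact neg_mem ha

end Groth.Agent.Lib.DevissageH3
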