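import Mathlib
import Groth.Prelude.Def_Found
import Groth.Agent.Lib.Devissage_helper3

set_option autoImplicit false
universe u

/-!
# From a direct sum decomposition to a Kaplansky dévissage (helper3)
-/

namespace Groth.Agent.Lib.DevissageH3

variable {R : Type u} [CommRing R] {M : Type u} [AddCommGroup M] [Module R M]

theorem isCountablyGenerated_of_surjective {A B : Type u} [AddCommGroup A] [Module R A]
    [AddCommGroup B] [Module R B] (f : A →ₗ[R] B) (hf : Function.Surjective f)
    (hA : CAlg.IsCountablyGenerated R A) : CAlg.IsCountablyGenerated R B := by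
  obtain ⟨s, hs, hspan⟩ := hA
  refine ⟨f '' s, hs.image _, ?_⟩
  rw [← Submodule.map_span, hspan, Submodule.map_top, LinearMap.range_eq_top.2 hf]

section withTop

variable {ι : Type u} [LinearOrder ι] (N : ι → Submodule R M)

/-- The filtration attached to a well-ordered decomposition. -/
def filt (s : WithTop ι) : Submodule R M := ⨆ (i : ι) (_ : (i : WithTop ι) < s), N i

theorem filt_mono : Monotone (filt N) := by
  intro s t hst
  exact iSup₂_le fun i hi => le_iSup₂_of_le i (lt_of_lt_of_le hi hst) le_rfl

theorem le_filt {i : ι} {s : WithTop ι} (h : (i : WithTop ι) < s) : N i ≤ filt N s :=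
  le_iSup₂_of_le i h le_rfl

theorem filt_prelimit (s : WithTop ι) (hs : Order.IsSuccPrelimit s) :
    filt N s = ⨆ t : {t : WithTop ι // t < s}, filt N t.1 := by
  apply le_antisymm
  · refine iSup₂_le fun i hi => ?_
    obtain ⟨c, hic, hcs⟩ := (not_covBy_iff hi).mp (hs _)
    exact (le_filt N hic).trans (le_iSup (fun t : {t : WithTop ι // t < s} => filt N t.1) ⟨c, hcs⟩)
  · exact iSup_le fun t => filt_mono N t.2.le

theorem filt_top (htop : iSup N = ⊤) : (⨆ s, filt N s) = ⊤ := by
  rw [eq_top_iff, ← htop]
  refine iSup_le fun i => ?_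
  exact (le_filt N (WithTop.coe_lt_top i)).trans (le_iSup (filt N) ⊤)

theorem filt_succ (hind : iSupIndep N) (s t : WithTop ι) (hst : s ⋖ t) :
    ∃ i : ι, s = (i : WithTop ι) ∧ filt N s ⊓ N i = ⊥ ∧ filt N s ⊔ N i = filt N t := by
  have hs : s ≠ ⊤ := ne_top_of_lt hst.lt
  obtain ⟨i, rfl⟩ := WithTop.ne_top_iff_exists.mp hs
  refine ⟨i, rfl, ?_, ?_⟩
  · have h1 : filt N (i : WithTop ι) ≤ ⨆ (j : ι) (_ : j ≠ i), N j := by
      refine iSup₂_le fun j hj => ?_
      have hji : j < i := WithTop.coe_lt_coe.mp hj
      exact le_iSup₂_of_le j hji.ne le_rfl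
    have h2 : Disjoint (N i) (⨆ (j : ι) (_ : j ≠ i), N j) := hind i
    rw [inf_comm]
    exact (h2.mono_right h1).eq_bot
  · apply le_antisymm
    · exact sup_le (filt_mono N hst.le) (le_filt N hst.lt)
    · refine iSup₂_le fun j hj => ?_
      have hji : (j : WithTop ι) ≤ (i : WithTop ι) := hst.le_of_lt hj
      rcases lt_or_eq_of_le hji with h | h
      · exact (le_filt N h).trans le_sup_left
      · have : j = i := WithTop.coe_injective h
        rw [this]
        exact le_sup_right

end withTop

end Groth.Agent.Lib.DevissageH3
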