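import Mathlib
import Groth.Prelude.Def_SGA3b

/-!
# Descent of identities along the covers defining groups of multiplicative type (helper9)

Rigidity of homomorphisms from a group of multiplicative type, in Hopf-algebra form: the
diagonalisable case is done by hand with the coefficient functionals of `R[M]` (which are orthogonal
idempotents for convolution), and the general case is reduced to it along the Zariski cover and the
faithfully flat base change in the definition of `SGA3b.IsMultType`.
-/

set_option autoImplicit false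
universe u
open scoped TensorProduct

namespace MultDescent9

section Basic

theorem sub_mem_of_tmul_eq {R : Type*} [CommRing R] (J : Ideal R) {B : Type*} [AddCommGroup B]
    [Module R B] {x y : B} (h : (1 : R ⧸ J) ⊗ₜ[R] x = (1 : R ⧸ J) ⊗ₜ[R] y) :
    x - y ∈ J • (⊤ : Submodule R B) := by
  have := congrArg (TensorProduct.quotTensorEquivQuotSMul B J) h
  rw [TensorProduct.quotTensorEquivQuotSMul_mk_one_tmul,
    TensorProduct.quotTensorEquivQuotSMul_mk_one_tmul] at this
  exact (Submodule.Quotient.eq _).mp this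

theorem tmul_mem_smul_top {R : Type*} [CommRing R] (S' : Type*) [CommRing S'] [Algebra R S']
    {B : Type*} [AddCommGroup B] [Module R B] (J : Ideal R) {y : B}
    (hy : y ∈ J • (⊤ : Submodule R B)) (s' : S') :
    s' ⊗ₜ[R] y ∈ (J.map (algebraMap R S')) • (⊤ : Submodule S' (S' ⊗[R] B)) := by
  refine Submodule.smul_induction_on hy ?_ ?_
  · intro i hi b _
    have : s' ⊗ₜ[R] (i • b) = (algebraMap R S' i) • (s' ⊗ₜ[R] b) := by
      rw [TensorProduct.tmul_smul, algebraMap_smul]
    rw [this]
    exact Submodule.smul_mem_smul (Ideal.mem_map_of_mem _ hi) Submodule.mem_top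
  · intro a b ha hb
    rw [TensorProduct.tmul_add]
    exact Submodule.add_mem _ ha hb

theorem map_mem_smul_top {S' : Type*} [CommRing S'] {N N' : Type*} [AddCommGroup N] [Module S' N]
    [AddCommGroup N'] [Module S' N'] (e : N →ₗ[S'] N') (J' : Ideal S') {z : N}
    (hz : z ∈ J' • (⊤ : Submodule S' N)) : e z ∈ J' • (⊤ : Submodule S' N') := by
  refine Submodule.smul_induction_on hz ?_ ?_
  · intro i hi b _
    rw [map_smul]
    exact Submodule.smul_mem_smul hi Submodule.mem_top
  · intro a b ha hb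
    rw [map_add]
    exact Submodule.add_mem _ ha hb

theorem coeff_mem_of_mem_smul_top {S' : Type*} [CommRing S'] {M : Type*} (J' : Ideal S')
    {z : MonoidAlgebra S' M} (hz : z ∈ J' • (⊤ : Submodule S' (MonoidAlgebra S' M))) (m : M) :
    z.coeff m ∈ J' := by
  refine Submodule.smul_induction_on hz ?_ ?_
  · intro i hi b _
    rw [MonoidAlgebra.coeff_smul_apply, smul_eq_mul]
    exact Ideal.mul_mem_right _ _ hi
  · intro a b ha hb
    rw [MonoidAlgebra.coeff_add, Finsupp.add_apply]
    exact Ideal.add_mem _ ha hb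

/-- For `y ∈ I B`, every coefficient of `e (s' ⊗ y)` lies in `I S'`. -/
theorem coeff_e_tmul_mem {S : Type*} [CommRing S] (I : Ideal S) {B : Type*} [AddCommGroup B]
    [Module S B] {S' : Type*} [CommRing S'] [Algebra S S'] {M : Type*}
    (e : S' ⊗[S] B →ₗ[S'] MonoidAlgebra S' M) {y : B} (hy : y ∈ I • (⊤ : Submodule S B))
    (s' : S') (m : M) : (e (s' ⊗ₜ[S] y)).coeff m ∈ I.map (algebraMap S S') :=
  coeff_mem_of_mem_smul_top _ (map_mem_smul_top e _ (tmul_mem_smul_top S' I hy s')) m

theorem isNilpotent_map {R : Type*} [CommRing R] {S' : Type*} [CommRing S'] (f : R →+* S')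
    {I : Ideal R} (hI : IsNilpotent I) : IsNilpotent (I.map f) := by
  obtain ⟨N, hN⟩ := hI
  refine ⟨N, ?_⟩
  rw [← Ideal.map_pow, hN, Ideal.zero_eq_bot, Ideal.map_bot]
  rfl

theorem eq_zero_of_forall_mem_pow {R : Type*} [CommRing R] {I : Ideal R} (hI : IsNilpotent I)
    {b : ℕ} (hb : 2 ≤ b) {r : R} (h : ∀ k : ℕ, r ∈ I ^ (b ^ k)) : r = 0 := by
  obtain ⟨N, hN⟩ := hI
  have h1 : N ≤ b ^ N := (Nat.lt_pow_self (by omega)).le
  have := Ideal.pow_le_pow_right h1 (h N)
  rw [hN] at this
  simpa [Ideal.zero_eq_bot] using this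

end Basic

section Diag

variable {R : Type*} [CommRing R] {M : Type*}

/-- The coefficient functional of the group algebra. -/
noncomputable def coeffL (m : M) : MonoidAlgebra R M →ₗ[R] R :=
  (Finsupp.lapply m) ∘ₗ (MonoidAlgebra.coeffLinearEquiv R).toLinearMap

theorem coeffL_apply (m : M) (x : MonoidAlgebra R M) : coeffL m x = x.coeff m := rfl

open Classical in
theorem mul'_map_coeffL_comul (m n : M) (x : MonoidAlgebra R M) :
    LinearMap.mul' R R (TensorProduct.map (coeffL m) (coeffL n) (Coalgebra.comul (R := R) x)) =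
      if m = n then x.coeff m else 0 := by
  induction x using MonoidAlgebra.induction_linear with
  | zero => simp
  | add x y hx hy =>
    rw [map_add, map_add, map_add, hx, hy, MonoidAlgebra.coeff_add, Finsupp.add_apply]
    split_ifs <;> simp
  | single k r =>
    rw [MonoidAlgebra.comul_single, CommSemiring.comul_apply, TensorProduct.map_tmul,
      TensorProduct.map_tmul, LinearMap.mul'_apply, MonoidAlgebra.lsingle_apply,
      MonoidAlgebra.lsingle_apply, coeffL_apply, coeffL_apply, MonoidAlgebra.coeff_single,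
      MonoidAlgebra.coeff_single, Finsupp.single_apply, Finsupp.single_apply, Finsupp.single_apply]
    split_ifs <;> simp_all

theorem mul'_map_mem {C : Type*} [AddCommGroup C] [Module R C] (f g : C →ₗ[R] R) (J K : Ideal R)
    (hf : ∀ c, f c ∈ J) (hg : ∀ c, g c ∈ K) (t : C ⊗[R] C) :
    LinearMap.mul' R R (TensorProduct.map f g t) ∈ J * K := by
  induction t using TensorProduct.induction_on with
  | zero => simp
  | tmul u v =>
    rw [TensorProduct.map_tmul, LinearMap.mul'_apply]
    exact Ideal.mul_mem_mul (hf u) (hg v)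
  | add x y hx hy =>
    rw [map_add, map_add]
    exact Ideal.add_mem _ hx hy

variable {C : Type*} [AddCommGroup C] [Module R C] [Coalgebra R C]

/-- The coefficient functionals of a coalgebra map to `R[M]` are convolution idempotents. -/
theorem coeff_idem (ψ : C →ₗc[R] MonoidAlgebra R M) (m : M) (c : C) :
    (ψ c).coeff m = LinearMap.mul' R R (TensorProduct.map (coeffL m ∘ₗ ψ.toLinearMap)
      (coeffL m ∘ₗ ψ.toLinearMap) (Coalgebra.comul (R := R) c)) := by
  classical
  rw [TensorProduct.map_comp, LinearMap.comp_apply]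
  have h1 : TensorProduct.map ψ.toLinearMap ψ.toLinearMap (Coalgebra.comul (R := R) c) =
      Coalgebra.comul (R := R) (ψ c) := LinearMap.congr_fun ψ.map_comp_comul c
  rw [h1, mul'_map_coeffL_comul, if_pos rfl]

/-- Diagonalisable case: a coalgebra map to `R[M]` which is trivial modulo a nilpotent ideal is
trivial. -/
theorem diag_trivial [One M] (I : Ideal R) (hI : IsNilpotent I)
    (ψ : C →ₗc[R] MonoidAlgebra R M) (h : ∀ c m, m ≠ 1 → (ψ c).coeff m ∈ I) (c : C) :
    ψ c = MonoidAlgebra.single 1 (Coalgebra.counit (R := R) c) := by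
  classical
  have hpow : ∀ (m : M), m ≠ 1 → ∀ k : ℕ, ∀ c, (ψ c).coeff m ∈ I ^ (2 ^ k) := by
    intro m hm k
    induction k with
    | zero => intro c; simpa using h c m hm
    | succ k ih =>
      intro c
      have e2 : I ^ 2 ^ (k + 1) = I ^ 2 ^ k * I ^ 2 ^ k := by rw [pow_succ, pow_mul, pow_two]
      rw [coeff_idem ψ m c, e2]
      exact mul'_map_mem _ _ _ _ (fun c => ih c) (fun c => ih c) _
  have hz : ∀ m : M, m ≠ 1 → (ψ c).coeff m = 0 := fun m hm =>
    eq_zero_of_forall_mem_pow hI (le_refl 2) (fun k => hpow m hm k c)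
  have hx : ψ c = MonoidAlgebra.single 1 ((ψ c).coeff 1) := by
    apply MonoidAlgebra.ext
    ext m
    rw [MonoidAlgebra.coeff_single, Finsupp.single_apply]
    split_ifs with hm
    · rw [hm]
    · exact hz m (Ne.symm hm)
  have hc : Coalgebra.counit (R := R) (ψ c) = Coalgebra.counit (R := R) c :=
    LinearMap.congr_fun ψ.counit_comp c
  rw [hx, MonoidAlgebra.counit_single, CommSemiring.counit_apply] at hc
  rw [hx, hc]

/-- Diagonalisable case, two maps from a cocommutative coalgebra: equal modulo a nilpotent ideal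
implies equal. -/
theorem diag_eq [Coalgebra.IsCocomm R C] (I : Ideal R) (hI : IsNilpotent I)
    (ψ₁ ψ₂ : C →ₗc[R] MonoidAlgebra R M)
    (h : ∀ c m, (ψ₁ c).coeff m - (ψ₂ c).coeff m ∈ I) (c : C) : ψ₁ c = ψ₂ c := by
  apply MonoidAlgebra.ext
  ext m
  let a : WithConv (C →ₗ[R] R) := WithConv.toConv (coeffL m ∘ₗ ψ₁.toLinearMap)
  let b : WithConv (C →ₗ[R] R) := WithConv.toConv (coeffL m ∘ₗ ψ₂.toLinearMap)
  have ha : a * a = a := by
    apply WithConv.ext; apply LinearMap.ext; intro c
    exact (coeff_idem ψ₁ m c).symm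
  have hb : b * b = b := by
    apply WithConv.ext; apply LinearMap.ext; intro c
    exact (coeff_idem ψ₂ m c).symm
  have hd : (a - b) ^ 3 = a - b := by
    linear_combination (a + 1 - 3 * b) * ha + (3 * a - b - 1) * hb
  have hd' : (a - b) * (a - b) * (a - b) = a - b := by rw [← pow_three']; exact hd
  have hpow : ∀ k : ℕ, ∀ c, (a - b).ofConv c ∈ I ^ (3 ^ k) := by
    intro k
    induction k with
    | zero =>
      intro c
      rw [pow_zero, pow_one]
      exact h c m
    | succ k ih =>
      intro c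
      have e3 : I ^ 3 ^ (k + 1) = I ^ 3 ^ k * I ^ 3 ^ k * I ^ 3 ^ k := by
        rw [pow_succ, pow_mul, pow_three']
      have h2 : ∀ c, ((a - b) * (a - b)).ofConv c ∈ I ^ 3 ^ k * I ^ 3 ^ k := fun c =>
        mul'_map_mem _ _ _ _ ih ih _
      rw [← hd', e3]
      exact mul'_map_mem _ _ _ _ h2 ih _
  have hfin : (a - b).ofConv c = 0 :=
    eq_zero_of_forall_mem_pow hI (by norm_num : 2 ≤ 3) (fun k => hpow k c)
  exact sub_eq_zero.mp hfin

end Diag

section Const

open SGA3b

/-- Constant-type case of rigidity (one map). -/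
theorem const_trivial (S : Type u) [CommRing S] (I : Ideal S) (hI : IsNilpotent I)
    (B : Type u) [CommRing B] [HopfAlgebra S B] (hB : IsMultTypeConst S B)
    (C : Type u) [CommRing C] [Bialgebra S C] (φ : C →ₐc[S] B)
    (h : ∀ c, φ c - algebraMap S B (Coalgebra.counit (R := S) c) ∈ I • (⊤ : Submodule S B))
    (c : C) : φ c = algebraMap S B (Coalgebra.counit (R := S) c) := by
  obtain ⟨S', _, _, hff, M, _, ⟨e⟩⟩ := hB
  let φ' : S' ⊗[S] C →ₐc[S'] S' ⊗[S] B := Bialgebra.TensorProduct.map (BialgHom.id S' S') φ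
  let ψ : S' ⊗[S] C →ₗc[S'] MonoidAlgebra S' M := (e.toBialgHom.toCoalgHom).comp φ'.toCoalgHom
  let el : S' ⊗[S] B →ₗ[S'] MonoidAlgebra S' M := e.toBialgHom.toCoalgHom.toLinearMap
  have hψ : ∀ (s' : S') (c : C), ψ (s' ⊗ₜ c) = el (s' ⊗ₜ φ c) := fun _ _ => rfl
  have hel : ∀ z, el z = e z := fun _ => rfl
  have hconst : ∀ (s' : S') (r : S), el (s' ⊗ₜ[S] algebraMap S B r) =
      MonoidAlgebra.single 1 (s' * algebraMap S S' r) := by
    intro s' r
    have h1 : s' ⊗ₜ[S] algebraMap S B r =
        algebraMap S' (S' ⊗[S] B) (s' * algebraMap S S' r) := by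
      calc s' ⊗ₜ[S] algebraMap S B r = s' ⊗ₜ[S] (r • (1 : B)) := by
            rw [Algebra.algebraMap_eq_smul_one]
        _ = (r • s') ⊗ₜ[S] (1 : B) := by rw [TensorProduct.smul_tmul]
        _ = (s' * algebraMap S S' r) ⊗ₜ[S] (1 : B) := by rw [Algebra.smul_def, mul_comm]
        _ = algebraMap S' (S' ⊗[S] B) (s' * algebraMap S S' r) := by
            rw [Algebra.TensorProduct.algebraMap_apply]; rfl
    rw [h1, hel, AlgHomClass.commutes, MonoidAlgebra.coe_algebraMap]
    rfl
  have hcoef : ∀ c' m, m ≠ 1 → (ψ c').coeff m ∈ I.map (algebraMap S S') := by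
    intro c' m hm
    induction c' using TensorProduct.induction_on with
    | zero => rw [map_zero]; exact Ideal.zero_mem _
    | add x y hx hy =>
      rw [map_add, MonoidAlgebra.coeff_add, Finsupp.add_apply]
      exact Ideal.add_mem _ hx hy
    | tmul s' c =>
      rw [hψ]
      have hsplit : φ c = algebraMap S B (Coalgebra.counit (R := S) c) +
          (φ c - algebraMap S B (Coalgebra.counit (R := S) c)) := by ring
      rw [hsplit, TensorProduct.tmul_add, map_add, MonoidAlgebra.coeff_add, Finsupp.add_apply]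
      refine Ideal.add_mem _ ?_ (coeff_e_tmul_mem I el (h c) s' m)
      rw [hconst, MonoidAlgebra.coeff_single, Finsupp.single_eq_of_ne (Ne.symm hm).symm]
      exact Ideal.zero_mem _
  have key := diag_trivial (I.map (algebraMap S S')) (isNilpotent_map _ hI) ψ hcoef
    ((1 : S') ⊗ₜ[S] c)
  rw [hψ] at key
  have h2 : el ((1 : S') ⊗ₜ[S] algebraMap S B (Coalgebra.counit (R := S) c)) =
      MonoidAlgebra.single 1 (Coalgebra.counit (R := S') ((1 : S') ⊗ₜ[S] c)) := by
    rw [hconst, TensorProduct.counit_tmul, CommSemiring.counit_apply, one_mul,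
      Algebra.algebraMap_eq_smul_one]
  have h3 : (1 : S') ⊗ₜ[S] φ c = (1 : S') ⊗ₜ[S] algebraMap S B (Coalgebra.counit (R := S) c) :=
    (EquivLike.injective e) (by rw [← hel, ← hel, key, h2])
  exact Module.FaithfullyFlat.tensorProduct_mk_injective (A := S) (B := S') B h3

/-- Constant-type case of rigidity (two maps, cocommutative source). -/
theorem const_eq (S : Type u) [CommRing S] (I : Ideal S) (hI : IsNilpotent I)
    (B : Type u) [CommRing B] [HopfAlgebra S B] (hB : IsMultTypeConst S B)
    (C : Type u) [CommRing C] [Bialgebra S C] [Coalgebra.IsCocomm S C] (φ₁ φ₂ : C →ₐc[S] B)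
    (h : ∀ c, φ₁ c - φ₂ c ∈ I • (⊤ : Submodule S B)) (c : C) : φ₁ c = φ₂ c := by
  obtain ⟨S', _, _, hff, M, _, ⟨e⟩⟩ := hB
  let ψ₁ : S' ⊗[S] C →ₗc[S'] MonoidAlgebra S' M := (e.toBialgHom.toCoalgHom).comp
    (Bialgebra.TensorProduct.map (BialgHom.id S' S') φ₁).toCoalgHom
  let ψ₂ : S' ⊗[S] C →ₗc[S'] MonoidAlgebra S' M := (e.toBialgHom.toCoalgHom).comp
    (Bialgebra.TensorProduct.map (BialgHom.id S' S') φ₂).toCoalgHom
  let el : S' ⊗[S] B →ₗ[S'] MonoidAlgebra S' M := e.toBialgHom.toCoalgHom.toLinearMap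
  have hψ₁ : ∀ (s' : S') (c : C), ψ₁ (s' ⊗ₜ c) = el (s' ⊗ₜ φ₁ c) := fun _ _ => rfl
  have hψ₂ : ∀ (s' : S') (c : C), ψ₂ (s' ⊗ₜ c) = el (s' ⊗ₜ φ₂ c) := fun _ _ => rfl
  have hel : ∀ z, el z = e z := fun _ => rfl
  have hcoef : ∀ c' m, (ψ₁ c').coeff m - (ψ₂ c').coeff m ∈ I.map (algebraMap S S') := by
    intro c' m
    induction c' using TensorProduct.induction_on with
    | zero => rw [map_zero, map_zero, sub_self]; exact Ideal.zero_mem _
    | add x y hx hy =>
      have := Ideal.add_mem _ hx hy
      rw [map_add, map_add, MonoidAlgebra.coeff_add, MonoidAlgebra.coeff_add, Finsupp.add_apply,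
        Finsupp.add_apply]
      convert this using 1
      ring
    | tmul s' c =>
      have e1 : (ψ₁ (s' ⊗ₜ c)).coeff m - (ψ₂ (s' ⊗ₜ c)).coeff m =
          (el (s' ⊗ₜ[S] (φ₁ c - φ₂ c))).coeff m := by
        rw [hψ₁, hψ₂, TensorProduct.tmul_sub, map_sub, MonoidAlgebra.coeff_sub, Finsupp.sub_apply]
      rw [e1]
      exact coeff_e_tmul_mem I el (h c) s' m
  have key := diag_eq (I.map (algebraMap S S')) (isNilpotent_map _ hI) ψ₁ ψ₂ hcoef
    ((1 : S') ⊗ₜ[S] c)
  rw [hψ₁, hψ₂] at key
  have h3 : (1 : S') ⊗ₜ[S] φ₁ c = (1 : S') ⊗ₜ[S] φ₂ c :=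
    (EquivLike.injective e) (by rw [← hel, ← hel, key])
  exact Module.FaithfullyFlat.tensorProduct_mk_injective (A := S) (B := S') B h3

end Const

section Local

open SGA3b

/-- Rigidity: a homomorphism from a group of multiplicative type to an affine group which is
trivial modulo a nilpotent ideal is trivial. -/
theorem multType_trivial (R : Type u) [CommRing R] (I : Ideal R) (hI : IsNilpotent I)
    (A : Type u) [CommRing A] [HopfAlgebra R A] (hH : IsMultType R A)
    (C : Type u) [CommRing C] [Bialgebra R C] (φ : C →ₐc[R] A)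
    (h : ∀ c, φ c - algebraMap R A (Coalgebra.counit (R := R) c) ∈ I • (⊤ : Submodule R A))
    (c : C) : φ c = algebraMap R A (Coalgebra.counit (R := R) c) := by
  obtain ⟨s, hs, hloc⟩ := hH
  refine Module.eq_of_isLocalized_span s hs (fun r => Localization.Away r.1 ⊗[R] A)
    (fun r => TensorProduct.mk R (Localization.Away r.1) A 1) _ _ ?_
  rintro ⟨f, hf⟩
  show (1 : Localization.Away f) ⊗ₜ[R] φ c =
    (1 : Localization.Away f) ⊗ₜ[R] algebraMap R A (Coalgebra.counit (R := R) c)
  have hcu : ∀ (r : Localization.Away f) (c : C),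
      algebraMap (Localization.Away f) (Localization.Away f ⊗[R] A)
        (Coalgebra.counit (R := Localization.Away f) (r ⊗ₜ[R] c)) =
      r ⊗ₜ[R] algebraMap R A (Coalgebra.counit (R := R) c) := by
    intro r c
    show ((Coalgebra.counit (R := R) c • r) ⊗ₜ[R] (1 : A) : Localization.Away f ⊗[R] A) = _
    rw [TensorProduct.smul_tmul, ← Algebra.algebraMap_eq_smul_one]
  have key := const_trivial (Localization.Away f) (I.map (algebraMap R (Localization.Away f)))
    (isNilpotent_map _ hI) (Localization.Away f ⊗[R] A) (hloc f hf) (Localization.Away f ⊗[R] C)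
    (Bialgebra.TensorProduct.map (BialgHom.id (Localization.Away f) (Localization.Away f)) φ) ?_
    ((1 : Localization.Away f) ⊗ₜ[R] c)
  · rw [hcu] at key
    exact key
  · intro c'
    induction c' using TensorProduct.induction_on with
    | zero => rw [map_zero, map_zero, map_zero, sub_self]; exact Submodule.zero_mem _
    | add x y hx hy =>
      have := Submodule.add_mem _ hx hy
      rw [map_add, map_add, map_add]
      convert this using 1
      ring
    | tmul r c =>
      rw [hcu]
      have e1 : (Bialgebra.TensorProduct.map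
          (BialgHom.id (Localization.Away f) (Localization.Away f)) φ) (r ⊗ₜ[R] c) -
          r ⊗ₜ[R] algebraMap R A (Coalgebra.counit (R := R) c) =
          r ⊗ₜ[R] (φ c - algebraMap R A (Coalgebra.counit (R := R) c)) := by
        rw [TensorProduct.tmul_sub]; rfl
      rw [e1]
      exact tmul_mem_smul_top _ I (h c) r

/-- Rigidity, two maps to a commutative target. -/
theorem multType_eq (R : Type u) [CommRing R] (I : Ideal R) (hI : IsNilpotent I)
    (A : Type u) [CommRing A] [HopfAlgebra R A] (hH : IsMultType R A)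
    (C : Type u) [CommRing C] [Bialgebra R C] [Coalgebra.IsCocomm R C] (φ₁ φ₂ : C →ₐc[R] A)
    (h : ∀ c, φ₁ c - φ₂ c ∈ I • (⊤ : Submodule R A)) (c : C) : φ₁ c = φ₂ c := by
  obtain ⟨s, hs, hloc⟩ := hH
  refine Module.eq_of_isLocalized_span s hs (fun r => Localization.Away r.1 ⊗[R] A)
    (fun r => TensorProduct.mk R (Localization.Away r.1) A 1) _ _ ?_
  rintro ⟨f, hf⟩
  show (1 : Localization.Away f) ⊗ₜ[R] φ₁ c = (1 : Localization.Away f) ⊗ₜ[R] φ₂ c
  refine const_eq (Localization.Away f) (I.map (algebraMap R (Localization.Away f)))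
    (isNilpotent_map _ hI) (Localization.Away f ⊗[R] A) (hloc f hf) (Localization.Away f ⊗[R] C)
    (Bialgebra.TensorProduct.map (BialgHom.id (Localization.Away f) (Localization.Away f)) φ₁)
    (Bialgebra.TensorProduct.map (BialgHom.id (Localization.Away f) (Localization.Away f)) φ₂) ?_
    ((1 : Localization.Away f) ⊗ₜ[R] c)
  intro c'
  induction c' using TensorProduct.induction_on with
  | zero => rw [map_zero, map_zero, sub_self]; exact Submodule.zero_mem _
  | add x y hx hy =>
    have := Submodule.add_mem _ hx hy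
    rw [map_add, map_add]
    convert this using 1
    ring
  | tmul r c =>
    have e1 : (Bialgebra.TensorProduct.map
        (BialgHom.id (Localization.Away f) (Localization.Away f)) φ₁) (r ⊗ₜ[R] c) -
        (Bialgebra.TensorProduct.map
        (BialgHom.id (Localization.Away f) (Localization.Away f)) φ₂) (r ⊗ₜ[R] c) =
        r ⊗ₜ[R] (φ₁ c - φ₂ c) := by
      rw [TensorProduct.tmul_sub]; rfl
    rw [e1]
    exact tmul_mem_smul_top _ I (h c) r

end Local

section Separated

open SGA3b

/-- Over a Noetherian `I`-adically complete ring, an isotrivial group of multiplicative type has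
`I`-adically separated coordinate ring. -/
theorem isotrivial_separated (A : Type u) [CommRing A] [IsNoetherianRing A] (I : Ideal A)
    [IsAdicComplete I A] (B : Type u) [CommRing B] [HopfAlgebra A B] (hH : IsIsotrivial A B)
    (x : B) (hx : ∀ n : ℕ, x ∈ (I ^ (n + 1)) • (⊤ : Submodule A B)) : x = 0 := by
  obtain ⟨A', _, _, het, hfin, hff, M, _, ⟨e⟩⟩ := hH
  let el : A' ⊗[A] B →ₗ[A'] MonoidAlgebra A' M := e.toBialgHom.toCoalgHom.toLinearMap
  have hel : ∀ z, el z = e z := fun _ => rfl
  have hh : IsHausdorff I A' := IsHausdorff.of_le_jacobson I A' (IsAdicComplete.le_jacobson_bot I)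
  have hco : ∀ m, (el ((1 : A') ⊗ₜ[A] x)).coeff m = 0 := by
    intro m
    apply hh.haus
    intro n
    rw [SModEq.zero]
    have h1 := coeff_e_tmul_mem (I ^ (n + 1)) el (hx n) (1 : A') m
    have h2 : (el ((1 : A') ⊗ₜ[A] x)).coeff m ∈ (I ^ (n + 1)) • (⊤ : Submodule A A') := by
      rw [Ideal.smul_top_eq_map]; exact h1
    exact Submodule.smul_mono_left (Ideal.pow_le_pow_right (Nat.le_succ n)) h2
  have h0 : el ((1 : A') ⊗ₜ[A] x) = 0 := by
    apply MonoidAlgebra.ext
    ext m
    exact hco m
  have h1 : (1 : A') ⊗ₜ[A] x = (1 : A') ⊗ₜ[A] (0 : B) := by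
    rw [TensorProduct.tmul_zero]
    exact (EquivLike.injective e) (by rw [← hel, h0, map_zero])
  exact Module.FaithfullyFlat.tensorProduct_mk_injective (A := A) (B := A') B h1

end Separated

end MultDescent9
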