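import Mathlib
import Groth.Prelude.Def_SGA3b
import Groth.Agent.Lib.MultDescent_helper9

set_option autoImplicit false
set_option maxHeartbeats 1000000

/-!
# Subgroups of multiplicative type of diagonalisable groups over a connected base (helper1)

Key tool: for two group-like elements `g h` of a Hopf algebra of multiplicative type the ideal
`annEq g h = {s | s • g = s • h}` is locally generated by an idempotent.  Over a connected base,
distinct group-like elements are therefore linearly independent.
-/

namespace DiagSubH1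

open TensorProduct SGA3b

universe u

section Ann

variable (S : Type*) [CommRing S] {B : Type*} [AddCommGroup B] [Module S B]

/-- scalars identifying `g` and `h` -/
def annEq (g h : B) : Ideal S := LinearMap.ker (LinearMap.toSpanSingleton S B (g - h))

variable {S}

theorem mem_annEq {g h : B} {s : S} : s ∈ annEq S g h ↔ s • g = s • h := by
  unfold annEq
  rw [LinearMap.mem_ker, LinearMap.toSpanSingleton_apply, smul_sub, sub_eq_zero]

theorem annEq_map_injective {C : Type*} [AddCommGroup C] [Module S C] {F : Type*} [FunLike F B C]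
    [LinearMapClass F S B C] (θ : F) (hθ : Function.Injective θ) (g h : B) :
    annEq S (θ g) (θ h) = annEq S g h := by
  ext s
  rw [mem_annEq, mem_annEq, ← map_smul, ← map_smul, hθ.eq_iff]

theorem flat_ann {S' : Type*} [CommRing S'] [Algebra S S'] [Module.Flat S S'] (g h : B) (r : S')
    (hr : r ⊗ₜ[S] g = r ⊗ₜ[S] h) : r ∈ (annEq S g h).map (algebraMap S S') := by
  have hex : Function.Exact (annEq S g h).subtype (LinearMap.toSpanSingleton S B (g - h)) :=
    LinearMap.exact_subtype_ker_map _
  have h2 := Module.Flat.lTensor_exact S' hex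
  have h3 : (LinearMap.toSpanSingleton S B (g - h)).lTensor S' (r ⊗ₜ[S] (1 : S)) = 0 := by
    rw [LinearMap.lTensor_tmul, LinearMap.toSpanSingleton_apply, one_smul, TensorProduct.tmul_sub,
      hr, sub_self]
  obtain ⟨t, ht⟩ := (h2 _).mp h3
  have key : ∀ t : S' ⊗[S] (annEq S g h),
      (TensorProduct.rid S S') ((annEq S g h).subtype.lTensor S' t) ∈
        (annEq S g h).map (algebraMap S S') := by
    intro t
    induction t using TensorProduct.induction_on with
    | zero => simp
    | tmul a i =>
      rw [LinearMap.lTensor_tmul, TensorProduct.rid_tmul, Submodule.subtype_apply,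
        Algebra.smul_def]
      exact Ideal.mul_mem_right _ _ (Ideal.mem_map_of_mem _ i.2)
    | add x y hx hy =>
      rw [map_add, map_add]
      exact Ideal.add_mem _ hx hy
  have h4 := key t
  rw [ht, TensorProduct.rid_tmul, one_smul] at h4
  exact h4

theorem annEq_baseChange {S' : Type*} [CommRing S'] [Algebra S S'] [Module.Flat S S'] (g h : B) :
    (annEq S g h).map (algebraMap S S') =
      annEq S' ((1 : S') ⊗ₜ[S] g) ((1 : S') ⊗ₜ[S] h) := by
  apply le_antisymm
  · rw [Ideal.map_le_iff_le_comap]
    intro i hi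
    rw [Ideal.mem_comap, mem_annEq, algebraMap_smul S' i, algebraMap_smul S' i,
      ← TensorProduct.tmul_smul, ← TensorProduct.tmul_smul, mem_annEq.mp hi]
  · intro r hr
    rw [mem_annEq, TensorProduct.smul_tmul', TensorProduct.smul_tmul', smul_eq_mul, mul_one] at hr
    exact flat_ann g h r hr

end Ann

section GLike

variable {S' : Type*} [CommRing S'] {M' : Type*}

theorem gl_sq (x : MonoidAlgebra S' M') (hx : IsGroupLikeElem S' x) (m : M') :
    x.coeff m * x.coeff m = x.coeff m := by
  classical
  have h := MultDescent9.mul'_map_coeffL_comul m m x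
  rw [hx.comul_eq_tmul_self, TensorProduct.map_tmul, LinearMap.mul'_apply,
    MultDescent9.coeffL_apply, if_pos rfl] at h
  exact h

theorem gl_orth (x : MonoidAlgebra S' M') (hx : IsGroupLikeElem S' x) (m n : M') (hmn : m ≠ n) :
    x.coeff m * x.coeff n = 0 := by
  classical
  have h := MultDescent9.mul'_map_coeffL_comul m n x
  rw [hx.comul_eq_tmul_self, TensorProduct.map_tmul, LinearMap.mul'_apply,
    MultDescent9.coeffL_apply, MultDescent9.coeffL_apply, if_neg hmn] at h
  exact h

theorem gl_sum (x : MonoidAlgebra S' M') (hx : IsGroupLikeElem S' x) :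
    ∑ m ∈ x.coeff.support, x.coeff m = 1 := by
  have h1 : ∑ m ∈ x.coeff.support, MonoidAlgebra.single m (x.coeff m) = x :=
    MonoidAlgebra.sum_coeff_single x
  have h2 : Coalgebra.counit (R := S')
      (∑ m ∈ x.coeff.support, MonoidAlgebra.single m (x.coeff m)) = 1 := by
    rw [h1]
    exact hx.counit_eq_one
  rw [map_sum] at h2
  simpa [MonoidAlgebra.counit_single] using h2

/-- the idempotent on which two group-like elements of a group algebra agree -/
noncomputable def eps (x y : MonoidAlgebra S' M') : S' :=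
  ∑ m ∈ x.coeff.support, x.coeff m * y.coeff m

theorem eps_mul_left (x y : MonoidAlgebra S' M') (hx : IsGroupLikeElem S' x) (n : M') :
    eps x y * x.coeff n = x.coeff n * y.coeff n := by
  classical
  unfold eps
  rw [Finset.sum_mul]
  by_cases hn : n ∈ x.coeff.support
  · rw [Finset.sum_eq_single_of_mem n hn]
    · rw [mul_right_comm, gl_sq x hx]
    · intro m _ hmn
      rw [mul_right_comm, gl_orth x hx m n hmn, zero_mul]
  · have h0 : x.coeff n = 0 := Finsupp.notMem_support_iff.mp hn
    rw [h0, zero_mul]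
    exact Finset.sum_eq_zero (fun m _ => mul_zero _)

theorem eps_mul_right (x y : MonoidAlgebra S' M') (hy : IsGroupLikeElem S' y) (n : M') :
    eps x y * y.coeff n = x.coeff n * y.coeff n := by
  classical
  unfold eps
  rw [Finset.sum_mul]
  by_cases hn : n ∈ x.coeff.support
  · rw [Finset.sum_eq_single_of_mem n hn]
    · rw [mul_assoc, gl_sq y hy]
    · intro m _ hmn
      rw [mul_assoc, gl_orth y hy m n hmn, mul_zero]
  · have h0 : x.coeff n = 0 := Finsupp.notMem_support_iff.mp hn
    rw [h0, zero_mul]
    apply Finset.sum_eq_zero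
    intro m hm
    have hmn : m ≠ n := fun h => hn (h ▸ hm)
    rw [mul_assoc, gl_orth y hy m n hmn, mul_zero]

theorem eps_smul (x y : MonoidAlgebra S' M') (hx : IsGroupLikeElem S' x)
    (hy : IsGroupLikeElem S' y) : eps x y • x = eps x y • y := by
  apply MonoidAlgebra.coeff_injective
  ext n
  rw [MonoidAlgebra.coeff_smul_apply, MonoidAlgebra.coeff_smul_apply, smul_eq_mul, smul_eq_mul,
    eps_mul_left x y hx, eps_mul_right x y hy]

theorem eps_absorb (x y : MonoidAlgebra S' M') (hx : IsGroupLikeElem S' x) (r : S')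
    (h : r • x = r • y) : r * eps x y = r := by
  have hc : ∀ m, r * x.coeff m = r * y.coeff m := fun m => by
    have h1 := congrArg (fun z : MonoidAlgebra S' M' => z.coeff m) h
    simpa [MonoidAlgebra.coeff_smul_apply] using h1
  unfold eps
  rw [Finset.mul_sum]
  have h1 : ∀ m ∈ x.coeff.support, r * (x.coeff m * y.coeff m) = r * x.coeff m := by
    intro m _
    rw [mul_left_comm, ← hc m, mul_left_comm, gl_sq x hx]
  rw [Finset.sum_congr rfl h1, ← Finset.mul_sum, gl_sum x hx, mul_one]

theorem annEq_gl (x y : MonoidAlgebra S' M') (hx : IsGroupLikeElem S' x)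
    (hy : IsGroupLikeElem S' y) : annEq S' x y = Ideal.span {eps x y} := by
  ext r
  rw [mem_annEq, Ideal.mem_span_singleton']
  constructor
  · intro h
    exact ⟨r, eps_absorb x y hx r h⟩
  · rintro ⟨a, rfl⟩
    rw [mul_smul, mul_smul, eps_smul x y hx hy]

theorem eps_idem (x y : MonoidAlgebra S' M') (hx : IsGroupLikeElem S' x)
    (hy : IsGroupLikeElem S' y) : IsIdempotentElem (eps x y) :=
  eps_absorb x y hx _ (eps_smul x y hx hy)

theorem coeff_mul_of_eps_zero (x y : MonoidAlgebra S' M') (hx : IsGroupLikeElem S' x)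
    (h : eps x y = 0) (m : M') : x.coeff m * y.coeff m = 0 := by
  rw [← eps_mul_left x y hx, h, zero_mul]

end GLike

section Const

variable {S : Type u} [CommRing S] {B : Type u} [CommRing B] [HopfAlgebra S B]
  {S' : Type u} [CommRing S'] [Algebra S S'] {M' : Type u} [CommGroup M']

theorem groupLike_baseChange {g : B} (hg : IsGroupLikeElem S g) :
    IsGroupLikeElem S' ((1 : S') ⊗ₜ[S] g) where
  counit_eq_one := by
    rw [TensorProduct.counit_tmul, hg.counit_eq_one, one_smul, CommSemiring.counit_apply]
  comul_eq_tmul_self := by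
    rw [TensorProduct.comul_tmul, hg.comul_eq_tmul_self, CommSemiring.comul_apply,
      TensorProduct.AlgebraTensorModule.tensorTensorTensorComm_tmul]

variable (θ : S' ⊗[S] B ≃ₐc[S'] MonoidAlgebra S' M')

/-- coordinates in the group algebra -/
noncomputable def io (b : B) : MonoidAlgebra S' M' := θ ((1 : S') ⊗ₜ[S] b)

theorem io_gl {g : B} (hg : IsGroupLikeElem S g) : IsGroupLikeElem S' (io θ g) :=
  (groupLike_baseChange hg).map θ

theorem io_zero : io θ (0 : B) = 0 := by
  unfold io
  rw [TensorProduct.tmul_zero, map_zero]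

theorem io_smul (s : S) (b : B) : io θ (s • b) = algebraMap S S' s • io θ b := by
  unfold io
  rw [TensorProduct.tmul_smul, ← algebraMap_smul S' s ((1 : S') ⊗ₜ[S] b), map_smul]

theorem io_sum {ι : Type*} (t : Finset ι) (F : ι → B) :
    io θ (∑ i ∈ t, F i) = ∑ i ∈ t, io θ (F i) := by
  unfold io
  rw [TensorProduct.tmul_sum, map_sum]

theorem map_annEq_eq [Module.Flat S S'] {g h : B} (hg : IsGroupLikeElem S g)
    (hh : IsGroupLikeElem S h) :
    (annEq S g h).map (algebraMap S S') = Ideal.span {eps (io θ g) (io θ h)} := by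
  rw [annEq_baseChange, ← annEq_gl _ _ (io_gl θ hg) (io_gl θ hh)]
  exact (annEq_map_injective θ (EquivLike.injective θ) _ _).symm

theorem fg_idem_of_map_eq [Module.FaithfullyFlat S S'] (I : Ideal S) (ε : S')
    (hε : IsIdempotentElem ε) (h : I.map (algebraMap S S') = Ideal.span {ε}) :
    I.FG ∧ I * I = I := by
  classical
  constructor
  · have hmem : ε ∈ Submodule.span S' ((algebraMap S S') '' (I : Set S)) := by
      have h0 : ε ∈ I.map (algebraMap S S') := by
        rw [h]
        exact Ideal.mem_span_singleton_self ε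
      exact h0
    obtain ⟨T, hT, hεT⟩ := Submodule.mem_span_finite_of_mem_span hmem
    obtain ⟨T₀, hT₀, rfl⟩ := Finset.subset_set_image_iff.mp hT
    have h1 : (Ideal.span (T₀ : Set S)).map (algebraMap S S') = I.map (algebraMap S S') := by
      apply le_antisymm (Ideal.map_mono (Ideal.span_le.mpr hT₀))
      rw [h, Ideal.span_singleton_le_iff_mem, Ideal.map_span]
      rw [Finset.coe_image] at hεT
      exact hεT
    have h2 := Ideal.map_injective_of_faithfullyFlat (A := S) (B := S') h1
    rw [← h2]
    exact ⟨T₀, rfl⟩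
  · apply Ideal.map_injective_of_faithfullyFlat (A := S) (B := S')
    show (I * I).map (algebraMap S S') = I.map (algebraMap S S')
    rw [Ideal.map_mul, h, Ideal.span_singleton_mul_span_singleton, hε.eq]

theorem const_fg_idem (hB : IsMultTypeConst S B) {g h : B} (hg : IsGroupLikeElem S g)
    (hh : IsGroupLikeElem S h) :
    (annEq S g h).FG ∧ annEq S g h * annEq S g h = annEq S g h := by
  obtain ⟨S', _, _, hff, M', _, ⟨θ⟩⟩ := hB
  haveI := hff
  exact fg_idem_of_map_eq _ _ (eps_idem _ _ (io_gl θ hg) (io_gl θ hh)) (map_annEq_eq θ hg hh)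

include θ in
theorem const_indep [Module.FaithfullyFlat S S'] {ι : Type*} (G : ι → B)
    (hG : ∀ i, IsGroupLikeElem S (G i))
    (hann : ∀ i j, i ≠ j → annEq S (G i) (G j) = ⊥) (t : Finset ι) (a : ι → S)
    (hrel : ∑ i ∈ t, a i • G i = 0) (j : ι) (hj : j ∈ t) : a j = 0 := by
  classical
  have horth : ∀ i, i ≠ j → ∀ m, (io θ (G i)).coeff m * (io θ (G j)).coeff m = 0 := by
    intro i hij m
    apply coeff_mul_of_eps_zero _ _ (io_gl θ (hG i))
    have h1 := map_annEq_eq θ (hG i) (hG j)
    rw [hann i j hij, Ideal.map_bot] at h1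
    exact Ideal.span_singleton_eq_bot.mp h1.symm
  have hrel' : ∑ i ∈ t, algebraMap S S' (a i) • io θ (G i) = 0 := by
    have h1 := congrArg (io θ) hrel
    rw [io_sum, io_zero] at h1
    simpa only [io_smul] using h1
  have hc : ∀ m, algebraMap S S' (a j) * (io θ (G j)).coeff m = 0 := by
    intro m
    have h1 := congrArg (MultDescent9.coeffL m) hrel'
    rw [map_sum, map_zero] at h1
    simp only [map_smul, MultDescent9.coeffL_apply, smul_eq_mul] at h1
    have h2 := congrArg (fun z => z * (io θ (G j)).coeff m) h1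
    simp only [Finset.sum_mul, zero_mul] at h2
    rw [Finset.sum_eq_single_of_mem j hj] at h2
    · rw [mul_assoc, gl_sq _ (io_gl θ (hG j))] at h2
      exact h2
    · intro i _ hij
      rw [mul_assoc, horth i hij m, mul_zero]
  have h3 : algebraMap S S' (a j) = 0 := by
    rw [← mul_one (algebraMap S S' (a j)), ← gl_sum _ (io_gl θ (hG j)), Finset.mul_sum]
    exact Finset.sum_eq_zero (fun m _ => hc m)
  exact (FaithfulSMul.algebraMap_injective S S') (by rw [h3, map_zero])

end Const

section Global

variable {R : Type u} [CommRing R] {B : Type u} [CommRing B] [HopfAlgebra R B]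

theorem idem_of_local (I : Ideal R) (s : Set R) (hs : Ideal.span s = ⊤)
    (h : ∀ f ∈ s, (I.map (algebraMap R (Localization.Away f))) *
      (I.map (algebraMap R (Localization.Away f))) = I.map (algebraMap R (Localization.Away f))) :
    I * I = I := by
  apply le_antisymm Ideal.mul_le_right
  intro x hx
  apply Submodule.mem_of_span_eq_top_of_smul_pow_mem (I * I) s hs
  rintro ⟨f, hf⟩
  have hx' : algebraMap R (Localization.Away f) x ∈
      (I * I).map (algebraMap R (Localization.Away f)) := by
    rw [Ideal.map_mul, h f hf]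
    exact Ideal.mem_map_of_mem _ hx
  obtain ⟨⟨y, t⟩, hyt⟩ := (IsLocalization.mem_map_algebraMap_iff (Submonoid.powers f)
    (Localization.Away f)).mp hx'
  rw [← map_mul] at hyt
  obtain ⟨c, hc⟩ := (IsLocalization.eq_iff_exists (Submonoid.powers f)
    (Localization.Away f)).mp hyt
  obtain ⟨k, hk⟩ := (Submonoid.mem_powers_iff _ _).mp t.2
  obtain ⟨l, hl⟩ := (Submonoid.mem_powers_iff _ _).mp c.2
  refine ⟨l + k, ?_⟩
  have h5 : f ^ (l + k) • x = (c : R) * (y : R) := by
    rw [smul_eq_mul, pow_add, hl, hk, ← hc]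
    ring
  show f ^ (l + k) • x ∈ I * I
  rw [h5]
  exact Ideal.mul_mem_left _ _ y.2

theorem ann_eq_bot (hconn : ∀ e : R, IsIdempotentElem e → e = 0 ∨ e = 1) (hH : IsMultType R B)
    {g h : B} (hg : IsGroupLikeElem R g) (hh : IsGroupLikeElem R h) (hne : g ≠ h) :
    annEq R g h = ⊥ := by
  obtain ⟨s, hs, hconst⟩ := hH
  have hloc : ∀ f ∈ s, ((annEq R g h).map (algebraMap R (Localization.Away f))).FG ∧
      (annEq R g h).map (algebraMap R (Localization.Away f)) *
        (annEq R g h).map (algebraMap R (Localization.Away f)) =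
        (annEq R g h).map (algebraMap R (Localization.Away f)) := by
    intro f hf
    rw [annEq_baseChange]
    exact const_fg_idem (hconst f hf) (groupLike_baseChange hg) (groupLike_baseChange hh)
  have hfg : (annEq R g h).FG := Ideal.fg_of_localizationSpan s hs (fun f => (hloc f.1 f.2).1)
  have hid : IsIdempotentElem (annEq R g h) := idem_of_local _ s hs (fun f hf => (hloc f hf).2)
  obtain ⟨e, he, heq⟩ := (Ideal.isIdempotentElem_iff_of_fg _ hfg).mp hid
  rcases hconn e he with h0 | h1
  · rw [heq, h0]
    simp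
  · exfalso
    apply hne
    have h2 : (1 : R) ∈ annEq R g h := by
      rw [heq, h1]
      exact Submodule.mem_span_singleton_self 1
    have h3 := mem_annEq.mp h2
    rwa [one_smul, one_smul] at h3

theorem indep (hconn : ∀ e : R, IsIdempotentElem e → e = 0 ∨ e = 1) (hH : IsMultType R B)
    {ι : Type*} (G : ι → B) (hG : ∀ i, IsGroupLikeElem R (G i)) (hinj : Function.Injective G)
    (t : Finset ι) (a : ι → R) (hrel : ∑ i ∈ t, a i • G i = 0) (j : ι) (hj : j ∈ t) :
    a j = 0 := by
  have hann : ∀ i j, i ≠ j → annEq R (G i) (G j) = ⊥ := fun i j hij =>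
    ann_eq_bot hconn hH (hG i) (hG j) (fun h => hij (hinj h))
  obtain ⟨s, hs, hconst⟩ := hH
  rw [← Submodule.mem_bot R]
  apply Submodule.mem_of_span_eq_top_of_smul_pow_mem ⊥ s hs
  rintro ⟨f, hf⟩
  obtain ⟨R', _, _, hff, M', _, ⟨θ⟩⟩ := hconst f hf
  haveI := hff
  have hrel' : ∑ i ∈ t, algebraMap R (Localization.Away f) (a i) •
      ((1 : Localization.Away f) ⊗ₜ[R] G i) = 0 := by
    have h1 := congrArg (fun b => (1 : Localization.Away f) ⊗ₜ[R] b) hrel
    simp only [TensorProduct.tmul_sum, TensorProduct.tmul_zero, TensorProduct.tmul_smul] at h1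
    simpa only [algebraMap_smul] using h1
  have h0 := const_indep θ (fun i => (1 : Localization.Away f) ⊗ₜ[R] G i)
    (fun i => groupLike_baseChange (hG i))
    (fun i j hij => by rw [← annEq_baseChange, hann i j hij, Ideal.map_bot]) t
    (fun i => algebraMap R (Localization.Away f) (a i)) hrel' j hj
  obtain ⟨c, hc⟩ := (IsLocalization.map_eq_zero_iff (Submonoid.powers f)
    (Localization.Away f) (a j)).mp h0
  obtain ⟨k, hk⟩ := (Submonoid.mem_powers_iff _ _).mp c.2
  refine ⟨k, ?_⟩
  rw [Submodule.mem_bot]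
  show f ^ k • a j = 0
  rw [hk, smul_eq_mul]
  exact hc

end Global

theorem main2983 (R : Type u) [CommRing R] (A : Type u) [CommRing A] [HopfAlgebra R A]
    (hconn : ∀ e : R, IsIdempotentElem e → e = 0 ∨ e = 1)
    (hG : IsDiagFT R A) (J : Ideal A) [J.IsHopfIdeal R] (hH : IsMultType R (A ⧸ J)) :
    IsDiag R (A ⧸ J) := by
  obtain ⟨M, _, _, ⟨e⟩⟩ := hG
  obtain ⟨ψ, hψdef⟩ : ∃ ψ : MonoidAlgebra R (GroupLike R (A ⧸ J)) →ₐc[R] (A ⧸ J),
      ψ = MonoidAlgebra.liftGroupLikeBialgHom := ⟨_, rfl⟩
  have hψ : ∀ (γ : GroupLike R (A ⧸ J)) (r : R), ψ (MonoidAlgebra.single γ r) = r • γ.val := by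
    intro γ r
    rw [hψdef]
    simp [MonoidAlgebra.liftGroupLikeBialgHom]
  have hsurj : Function.Surjective ψ := by
    intro b
    obtain ⟨a, rfl⟩ := Ideal.Quotient.mk_surjective b
    obtain ⟨x, rfl⟩ := EquivLike.surjective e.symm a
    induction x using MonoidAlgebra.induction_linear with
    | zero => exact ⟨0, by simp⟩
    | add x y hx hy =>
      obtain ⟨x', hx'⟩ := hx
      obtain ⟨y', hy'⟩ := hy
      exact ⟨x' + y', by rw [map_add, hx', hy', map_add, map_add]⟩
    | single m r =>
      have hgl : IsGroupLikeElem R (Ideal.Quotient.mk J (e.symm (MonoidAlgebra.single m 1))) :=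
        ((MonoidAlgebra.isGroupLikeElem_single_one (R := R) (A := R) m).map e.symm).map
          (Bialgebra.Quotient.mkBialgHom J)
      refine ⟨MonoidAlgebra.single ⟨_, hgl⟩ r, ?_⟩
      rw [hψ]
      have h1 : MonoidAlgebra.single m r = r • MonoidAlgebra.single m (1 : R) := by
        rw [MonoidAlgebra.smul_single, smul_eq_mul, mul_one]
      rw [h1, map_smul]
      rfl
  have hinj : Function.Injective ψ := by
    rw [injective_iff_map_eq_zero]
    intro x hx
    have hx3 : ψ (∑ γ ∈ x.coeff.support, MonoidAlgebra.single γ (x.coeff γ)) = 0 := by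
      rw [show ∑ γ ∈ x.coeff.support, MonoidAlgebra.single γ (x.coeff γ) = x from
        MonoidAlgebra.sum_coeff_single x]
      exact hx
    rw [map_sum] at hx3
    simp only [hψ] at hx3
    apply MonoidAlgebra.coeff_injective
    ext γ
    by_cases hγ : γ ∈ x.coeff.support
    · exact indep hconn hH GroupLike.val (fun γ => γ.2) GroupLike.val_injective _ _ hx3 γ hγ
    · exact Finsupp.notMem_support_iff.mp hγ
  exact ⟨GroupLike R (A ⧸ J), inferInstance, ⟨(BialgEquiv.ofBijective ψ ⟨hinj, hsurj⟩).symm⟩⟩

end DiagSubH1
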