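import Mathlib
import Groth.Prelude.Def_SGA3b

/-!
# Closed subgroups of groups of multiplicative type over a field (helper1)

Hopf algebras spanned by their group-like elements: stability under base change `S → S'`,
quotients, and, over a field, equivalence with being a group algebra.
-/

set_option autoImplicit false
set_option maxHeartbeats 1000000

namespace Groth.Agent.Lib.MultQuotH1

open TensorProduct Coalgebra

universe u

section BC
variable {L : Type*} [CommRing L] {X : Type*} [CommRing X] [Bialgebra L X]
  {S S' : Type*} [CommRing S] [CommRing S'] [Algebra L S] [Algebra L S'] (ρ : S →ₐ[L] S')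

/-- the base change map `S ⊗ X → S' ⊗ X` -/
noncomputable def cc : S ⊗[L] X →ₐ[L] S' ⊗[L] X := Algebra.TensorProduct.map ρ (AlgHom.id L X)

theorem cc_tmul (s : S) (x : X) : cc ρ (s ⊗ₜ[L] x) = ρ s ⊗ₜ[L] x := by
  simp [cc]

theorem cc_smul (s : S) (y : S ⊗[L] X) : cc ρ (s • y) = ρ s • cc ρ y := by
  induction y using TensorProduct.induction_on with
  | zero => simp
  | tmul a x =>
    rw [TensorProduct.smul_tmul', cc_tmul, cc_tmul, TensorProduct.smul_tmul', smul_eq_mul,
      smul_eq_mul, map_mul]
  | add y z hy hz => rw [smul_add, map_add, hy, hz, map_add, smul_add]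

theorem counit_cc (y : S ⊗[L] X) :
    counit (R := S') (cc ρ y) = ρ (counit (R := S) y) := by
  induction y using TensorProduct.induction_on with
  | zero => simp
  | tmul a x =>
    rw [cc_tmul, TensorProduct.counit_tmul, TensorProduct.counit_tmul, CommSemiring.counit_apply,
      CommSemiring.counit_apply, map_smul]
  | add y z hy hz => rw [map_add, map_add, hy, hz, map_add, map_add]

/-- the induced map on the tensor squares -/
noncomputable def Phi : (S ⊗[L] X) ⊗[S] (S ⊗[L] X) →+* (S' ⊗[L] X) ⊗[S'] (S' ⊗[L] X) :=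
  Algebra.TensorProduct.mapRingHom (ρ : S →+* S') (cc (X := X) ρ).toRingHom
    (cc (X := X) ρ).toRingHom
    (by ext s; simp [Algebra.TensorProduct.algebraMap_apply, cc_tmul])
    (by ext s; simp [Algebra.TensorProduct.algebraMap_apply, cc_tmul])

theorem Phi_tmul (a b : S ⊗[L] X) : Phi ρ (a ⊗ₜ[S] b) = cc ρ a ⊗ₜ[S'] cc ρ b := by
  simp [Phi]

theorem comul_cc (y : S ⊗[L] X) :
    comul (R := S') (cc ρ y) = Phi ρ (comul (R := S) y) := by
  induction y using TensorProduct.induction_on with
  | zero => simp
  | add y z hy hz => rw [map_add, map_add, hy, hz, map_add, map_add]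
  | tmul a x =>
    rw [cc_tmul, TensorProduct.comul_tmul, TensorProduct.comul_tmul, CommSemiring.comul_apply,
      CommSemiring.comul_apply, ← (ℛ L x).eq]
    simp only [TensorProduct.tmul_sum, map_sum,
      TensorProduct.AlgebraTensorModule.tensorTensorTensorComm_tmul, Phi_tmul, cc_tmul, map_one]

theorem isGroupLikeElem_cc {y : S ⊗[L] X} (hy : IsGroupLikeElem S y) :
    IsGroupLikeElem S' (cc ρ y) where
  counit_eq_one := by rw [counit_cc, hy.counit_eq_one, map_one]
  comul_eq_tmul_self := by rw [comul_cc, hy.comul_eq_tmul_self, Phi_tmul]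

end BC

/-- spanned by group-like elements -/
def Sp (R : Type*) (A : Type*) [CommRing R] [CommRing A] [Bialgebra R A] : Prop :=
  Submodule.span R {a : A | IsGroupLikeElem R a} = ⊤

theorem sp_of_surjective {R A B : Type*} [CommRing R] [CommRing A] [CommRing B] [Bialgebra R A]
    [Bialgebra R B] (f : A →ₐc[R] B) (hf : Function.Surjective f) (h : Sp R A) : Sp R B := by
  unfold Sp at *
  rw [Submodule.eq_top_iff']
  intro b
  obtain ⟨a, rfl⟩ := hf b
  have ha : a ∈ Submodule.span R {a : A | IsGroupLikeElem R a} := by rw [h]; trivial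
  induction ha using Submodule.span_induction with
  | mem x hx => exact Submodule.subset_span (hx.map f)
  | zero => rw [map_zero]; exact zero_mem _
  | add x y _ _ hx hy => rw [map_add]; exact add_mem hx hy
  | smul r x _ hx => rw [map_smul]; exact Submodule.smul_mem _ _ hx

theorem sp_of_equiv {R A B : Type*} [CommRing R] [CommRing A] [CommRing B] [Bialgebra R A]
    [Bialgebra R B] (e : A ≃ₐc[R] B) (h : Sp R B) : Sp R A :=
  sp_of_surjective (e.symm : B →ₐc[R] A) e.symm.surjective h

theorem sp_monoidAlgebra (R : Type*) [CommRing R] (M : Type*) [CommMonoid M] :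
    Sp R (MonoidAlgebra R M) :=
  MonoidAlgebra.span_isGroupLikeElem

theorem sp_cc {L : Type*} [CommRing L] {X : Type*} [CommRing X] [Bialgebra L X]
    {S S' : Type*} [CommRing S] [CommRing S'] [Algebra L S] [Algebra L S'] (ρ : S →ₐ[L] S')
    (h : Sp S (S ⊗[L] X)) : Sp S' (S' ⊗[L] X) := by
  unfold Sp at *
  have key : ∀ y : S ⊗[L] X,
      cc ρ y ∈ Submodule.span S' {a : S' ⊗[L] X | IsGroupLikeElem S' a} := by
    intro y
    have hy : y ∈ Submodule.span S {a : S ⊗[L] X | IsGroupLikeElem S a} := by rw [h]; trivial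
    induction hy using Submodule.span_induction with
    | mem x hx => exact Submodule.subset_span (isGroupLikeElem_cc ρ hx)
    | zero => rw [map_zero]; exact zero_mem _
    | add x y _ _ hx hy => rw [map_add]; exact add_mem hx hy
    | smul r x _ hx => rw [cc_smul]; exact Submodule.smul_mem _ _ hx
  rw [Submodule.eq_top_iff']
  intro z
  induction z using TensorProduct.induction_on with
  | zero => exact zero_mem _
  | add y z hy hz => exact add_mem hy hz
  | tmul s x =>
    have : s ⊗ₜ[L] x = s • cc ρ ((1 : S) ⊗ₜ[L] x) := by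
      rw [cc_tmul, map_one, TensorProduct.smul_tmul', smul_eq_mul, mul_one]
    rw [this]
    exact Submodule.smul_mem _ _ (key _)

theorem isDiag_of_sp (K : Type u) [Field K] (H : Type u) [CommRing H] [HopfAlgebra K H]
    (h : Sp K H) : SGA3b.IsDiag K H := by
  have hval : ∀ x : MonoidAlgebra K (GroupLike K H),
      MonoidAlgebra.liftGroupLikeBialgHom (R := K) (A := H) x =
        Finsupp.linearCombination K (GroupLike.val (R := K) (A := H)) x.coeff := by
    intro x
    rw [Finsupp.linearCombination_apply]
    simp [MonoidAlgebra.liftGroupLikeBialgHom, MonoidAlgebra.lift_apply]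
  have hbij : Function.Bijective (MonoidAlgebra.liftGroupLikeBialgHom (R := K) (A := H)) := by
    constructor
    · rw [injective_iff_map_eq_zero]
      intro x hx
      rw [hval] at hx
      have := linearIndependent_iff.mp (linearIndep_groupLikeVal (R := K) (A := H)) x.coeff hx
      exact MonoidAlgebra.coeff_eq_zero.mp this
    · intro y
      have hy : y ∈ Submodule.span K {a : H | IsGroupLikeElem K a} := by
        rw [show Submodule.span K {a : H | IsGroupLikeElem K a} = ⊤ from h]; trivial
      have hset : {a : H | IsGroupLikeElem K a} = Set.range (GroupLike.val (R := K) (A := H)) := by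
        ext a
        constructor
        · intro ha; exact ⟨⟨a, ha⟩, rfl⟩
        · rintro ⟨g, rfl⟩; exact g.2
      rw [hset, Finsupp.mem_span_range_iff_exists_finsupp] at hy
      obtain ⟨c, hc⟩ := hy
      refine ⟨MonoidAlgebra.ofCoeff c, ?_⟩
      rw [hval, Finsupp.linearCombination_apply]
      exact hc
  exact ⟨GroupLike K H, inferInstance, ⟨(BialgEquiv.ofBijective _ hbij).symm⟩⟩

set_option synthInstance.maxHeartbeats 400000 in
theorem main (k : Type u) [Field k] (A : Type u) [CommRing A] [HopfAlgebra k A]
    (h : SGA3b.IsMultType k A) (J : Ideal A) [J.IsHopfIdeal k] :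
    SGA3b.IsMultType k (A ⧸ J) := by
  obtain ⟨s, hs, hconst⟩ := h
  obtain ⟨g, hgs, hg0⟩ : ∃ f ∈ s, f ≠ 0 := by
    by_contra hcon
    push Not at hcon
    have : Ideal.span s = ⊥ := Ideal.span_eq_bot.mpr hcon
    rw [this] at hs
    exact bot_ne_top hs
  refine ⟨{g}, ?_, ?_⟩
  · rw [Ideal.span_singleton_eq_top]; exact isUnit_iff_ne_zero.mpr hg0
  intro g' hg'
  rw [Set.mem_singleton_iff] at hg'
  subst hg'
  obtain ⟨R', instR', algR', hff, M, instM, ⟨e⟩⟩ := hconst g' hgs
  -- `L` is a field
  have hLfield : IsField (Localization.Away g') := by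
    have e0 : k ≃ₐ[k] Localization.Away g' :=
      IsLocalization.atUnits k (Submonoid.powers g') (by
        rintro x ⟨n, rfl⟩
        exact (isUnit_iff_ne_zero.mpr hg0).pow n)
    exact e0.symm.toMulEquiv.isField (Field.toIsField k)
  haveI : Nontrivial (Localization.Away g') := hLfield.nontrivial
  haveI : Nontrivial R' := by
    by_contra hne
    rw [not_nontrivial_iff_subsingleton] at hne
    obtain ⟨m0, hm0⟩ := Ideal.exists_maximal (Localization.Away g')
    exact hff.submodule_ne_top hm0
      (eq_top_iff.mpr (fun x _ => by rw [Subsingleton.elim x 0]; exact zero_mem _))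
  obtain ⟨m, hm⟩ := Ideal.exists_maximal R'
  letI : Field (R' ⧸ m) := Ideal.Quotient.field m
  have hff' : Module.FaithfullyFlat (Localization.Away g') (R' ⧸ m) := by
    letI : Field (Localization.Away g') := hLfield.toField
    infer_instance
  refine ⟨R' ⧸ m, inferInstance, inferInstance, hff', ?_⟩
  apply isDiag_of_sp
  -- spanned by group-likes
  have h1 : Sp R' (R' ⊗[Localization.Away g'] (Localization.Away g' ⊗[k] A)) :=
    sp_of_equiv e (sp_monoidAlgebra R' M)
  have h2 : Sp (R' ⧸ m) ((R' ⧸ m) ⊗[Localization.Away g'] (Localization.Away g' ⊗[k] A)) :=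
    sp_cc (Ideal.Quotient.mkₐ (Localization.Away g') m) h1
  let q : (R' ⧸ m) ⊗[Localization.Away g'] (Localization.Away g' ⊗[k] A) →ₐc[R' ⧸ m]
      (R' ⧸ m) ⊗[Localization.Away g'] (Localization.Away g' ⊗[k] (A ⧸ J)) :=
    Bialgebra.TensorProduct.map (BialgHom.id (R' ⧸ m) (R' ⧸ m))
      (Bialgebra.TensorProduct.map (BialgHom.id (Localization.Away g') (Localization.Away g'))
        (Bialgebra.Quotient.mkBialgHom J))
  have hq : Function.Surjective q := by
    intro z
    induction z using TensorProduct.induction_on with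
    | zero => exact ⟨0, map_zero q⟩
    | add y z hy hz =>
      obtain ⟨a, rfl⟩ := hy
      obtain ⟨b, rfl⟩ := hz
      exact ⟨a + b, map_add q a b⟩
    | tmul r y =>
      induction y using TensorProduct.induction_on with
      | zero => exact ⟨0, by simp⟩
      | add y z hy hz =>
        obtain ⟨a, ha⟩ := hy
        obtain ⟨b, hb⟩ := hz
        exact ⟨a + b, by rw [map_add, ha, hb, TensorProduct.tmul_add]⟩
      | tmul l a' =>
        obtain ⟨a, rfl⟩ := Ideal.Quotient.mk_surjective a'
        exact ⟨r ⊗ₜ (l ⊗ₜ a), by simp [q]⟩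
  exact sp_of_surjective q hq h2

end Groth.Agent.Lib.MultQuotH1
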