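import Mathlib
import Groth.Prelude.Def_SGA3b
import Groth.Agent.Lib.MultQuot_helper1
import Groth.Agent.Lib.DiagSub_helper1

/-!
# Lifting group-like elements modulo a nil ideal, I: coalgebras with a basis of group-likes (helper4)
APPEND-ONLY once landed.
-/

set_option backward.isDefEq.respectTransparency.types false
set_option autoImplicit false
set_option linter.unusedVariables false
set_option linter.unusedTactic false
set_option linter.unreachableTactic false
set_option linter.unusedSectionVars false
set_option linter.style.haveILetI false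
set_option linter.deprecated false
set_option linter.unusedSimpArgs false
set_option linter.style.longLine false
set_option maxHeartbeats 3200000

universe u

open TensorProduct Coalgebra

noncomputable section

namespace Groth.Agent.Lib.DiagNilH4

section SmulTop

variable {T : Type*} [CommRing T] {X Y : Type*} [AddCommGroup X] [Module T X]
  [AddCommGroup Y] [Module T Y]

theorem map_mem_smul_top (K : Ideal T) (f : X →ₗ[T] Y) {x : X}
    (hx : x ∈ K • (⊤ : Submodule T X)) : f x ∈ K • (⊤ : Submodule T Y) := by
  refine Submodule.smul_induction_on hx ?_ ?_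
  · intro r hr n _
    rw [map_smul]
    exact Submodule.smul_mem_smul hr Submodule.mem_top
  · intro x y hx hy
    rw [map_add]
    exact add_mem hx hy

theorem functional_mem (K : Ideal T) (f : X →ₗ[T] T) {x : X}
    (hx : x ∈ K • (⊤ : Submodule T X)) : f x ∈ K := by
  refine Submodule.smul_induction_on hx ?_ ?_
  · intro r hr n _
    rw [map_smul, smul_eq_mul]
    exact K.mul_mem_right _ hr
  · intro x y hx hy
    rw [map_add]
    exact K.add_mem hx hy

end SmulTop

section GLmDef

variable {T : Type*} [CommRing T] {C : Type*} [AddCommGroup C] [Module T C] [Coalgebra T C]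

/-- group-like modulo the ideal `K` -/
def GLm (K : Ideal T) (y : C) : Prop :=
  counit (R := T) y - 1 ∈ K ∧
    comul (R := T) y - y ⊗ₜ[T] y ∈ K • (⊤ : Submodule T (C ⊗[T] C))

end GLmDef

section Basis

variable {T : Type u} [CommRing T] {C : Type u} [AddCommGroup C] [Module T C] [Coalgebra T C]
  {ι : Type u} [DecidableEq ι] (b : Module.Basis ι T C)

/-- `λ_ij = mul ∘ (coord_i ⊗ coord_j)` -/
def lam (i j : ι) : C ⊗[T] C →ₗ[T] T :=
  LinearMap.mul' T T ∘ₗ TensorProduct.map (b.coord i) (b.coord j)

theorem lam_tmul (i j : ι) (x y : C) : lam b i j (x ⊗ₜ[T] y) = b.repr x i * b.repr y j := by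
  simp [lam, Module.Basis.coord_apply]

variable (hb : ∀ i, IsGroupLikeElem T (b i))
include hb

theorem lam_comul (i j : ι) (y : C) :
    lam b i j (comul (R := T) y) = if i = j then b.repr y i else 0 := by
  classical
  have h : lam b i j ∘ₗ (comul : C →ₗ[T] C ⊗[T] C) = if i = j then b.coord i else 0 := by
    apply b.ext
    intro k
    rw [LinearMap.comp_apply, (hb k).comul_eq_tmul_self, lam_tmul, Module.Basis.repr_self,
      Finsupp.single_apply, Finsupp.single_apply]
    by_cases hij : i = j
    · subst hij
      rw [if_pos rfl, Module.Basis.coord_apply, Module.Basis.repr_self, Finsupp.single_apply]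
      by_cases hki : k = i
      · rw [if_pos hki, mul_one]
      · rw [if_neg hki, mul_zero]
    · rw [if_neg hij, LinearMap.zero_apply]
      by_cases hki : k = i
      · have hkj : ¬ k = j := fun h => hij (hki.symm.trans h)
        rw [if_neg hkj, mul_zero]
      · rw [if_neg hki, zero_mul]
  have h2 := LinearMap.congr_fun h y
  rw [LinearMap.comp_apply] at h2
  rw [h2]
  by_cases hij : i = j
  · rw [if_pos hij, if_pos hij, Module.Basis.coord_apply]
  · rw [if_neg hij, if_neg hij, LinearMap.zero_apply]

theorem counit_eq (y : C) : counit (R := T) y = ∑ i ∈ (b.repr y).support, b.repr y i := by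
  have h : (counit : C →ₗ[T] T) =
      Finsupp.linearCombination T (fun _ : ι => (1 : T)) ∘ₗ b.repr.toLinearMap := by
    apply b.ext
    intro k
    rw [(hb k).counit_eq_one, LinearMap.comp_apply, LinearEquiv.coe_coe, Module.Basis.repr_self,
      Finsupp.linearCombination_single, one_smul]
  rw [h, LinearMap.comp_apply, LinearEquiv.coe_coe, Finsupp.linearCombination_apply, Finsupp.sum]
  apply Finset.sum_congr rfl
  intro i _
  rw [smul_eq_mul, mul_one]

theorem repr_idem {g : C} (hg : IsGroupLikeElem T g) (i : ι) :
    IsIdempotentElem (b.repr g i) := by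
  have h := lam_comul b hb i i g
  rw [hg.comul_eq_tmul_self, lam_tmul, if_pos rfl] at h
  exact h

/-- Uniqueness of group-like elements modulo a nil ideal. -/
theorem uu_basis (K : Ideal T) (hK : ∀ x ∈ K, IsNilpotent x) {g g' : C}
    (hg : IsGroupLikeElem T g) (hg' : IsGroupLikeElem T g')
    (h : g - g' ∈ K • (⊤ : Submodule T C)) : g = g' := by
  apply b.ext_elem
  intro i
  apply eq_of_isNilpotent_sub_of_isIdempotentElem (repr_idem b hb hg i) (repr_idem b hb hg' i)
  apply hK
  have h1 := functional_mem K (b.coord i) h
  rwa [map_sub, Module.Basis.coord_apply, Module.Basis.coord_apply] at h1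

/-- Existence of group-like lifts modulo a nil ideal. -/
theorem pp_basis (K : Ideal T) (hK : ∀ x ∈ K, IsNilpotent x) (y : C) (hy : GLm K y) :
    ∃ g : C, IsGroupLikeElem T g ∧ g - y ∈ K • (⊤ : Submodule T C) := by
  classical
  obtain ⟨h1, h2⟩ := hy
  have hmul : ∀ i j, b.repr y i * b.repr y j - (if i = j then b.repr y i else 0) ∈ K := by
    intro i j
    have h3 := functional_mem K (lam b i j) h2
    rw [map_sub, lam_comul b hb, lam_tmul] at h3
    have h4 := K.neg_mem h3
    rwa [neg_sub] at h4
  have hsum : (∑ i ∈ (b.repr y).support, b.repr y i) - 1 ∈ K := by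
    rw [← counit_eq b hb]
    exact h1
  have hker : ∀ x ∈ RingHom.ker (Ideal.Quotient.mk K), IsNilpotent x := by
    intro x hx
    rw [Ideal.mk_ker] at hx
    exact hK x hx
  have hē : CompleteOrthogonalIdempotents
      (fun i : (b.repr y).support => Ideal.Quotient.mk K (b.repr y i)) := by
    rw [CompleteOrthogonalIdempotents.iff_ortho_complete]
    constructor
    · intro i j hij
      show Ideal.Quotient.mk K (b.repr y i) * Ideal.Quotient.mk K (b.repr y j) = 0
      rw [← map_mul, Ideal.Quotient.eq_zero_iff_mem]
      have h5 := hmul i j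
      have hne : ¬ (i : ι) = (j : ι) := fun h => hij (Subtype.ext h)
      rwa [if_neg hne, sub_zero] at h5
    · show ∑ i : (b.repr y).support, Ideal.Quotient.mk K (b.repr y i) = 1
      rw [← map_sum, Finset.sum_coe_sort (b.repr y).support (fun i => b.repr y i),
        ← sub_eq_zero, ← map_one (Ideal.Quotient.mk K), ← map_sub,
        Ideal.Quotient.eq_zero_iff_mem]
      exact hsum
  obtain ⟨e', he', hfe⟩ := CompleteOrthogonalIdempotents.lift_of_isNilpotent_ker
    (Ideal.Quotient.mk K) hker hē (fun i => ⟨b.repr y i, rfl⟩)
  refine ⟨∑ i : (b.repr y).support, e' i • b i, ⟨?_, ?_⟩, ?_⟩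
  · rw [map_sum]
    simp only [map_smul, (hb _).counit_eq_one, smul_eq_mul, mul_one]
    exact he'.complete
  · rw [map_sum]
    simp only [map_smul, (hb _).comul_eq_tmul_self]
    rw [TensorProduct.sum_tmul]
    apply Finset.sum_congr rfl
    intro i _
    rw [TensorProduct.tmul_sum, Finset.sum_eq_single i]
    · rw [TensorProduct.smul_tmul_smul, (he'.idem i).eq]
    · intro j _ hji
      rw [TensorProduct.smul_tmul_smul, he'.ortho (Ne.symm hji), zero_smul]
    · intro hi
      exact absurd (Finset.mem_univ i) hi
  · have hy' : y = ∑ i : (b.repr y).support, b.repr y i • b i := by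
      conv_lhs => rw [← b.linearCombination_repr y]
      rw [Finsupp.linearCombination_apply, Finsupp.sum,
        ← Finset.sum_coe_sort (b.repr y).support (fun i => b.repr y i • b i)]
    have hdiff : (∑ i : (b.repr y).support, e' i • b i) - y =
        ∑ i : (b.repr y).support, (e' i - b.repr y i) • b i := by
      simp only [sub_smul]
      rw [Finset.sum_sub_distrib, ← hy']
    rw [hdiff]
    apply Submodule.sum_mem
    intro i _
    apply Submodule.smul_mem_smul _ Submodule.mem_top
    rw [← Ideal.Quotient.eq_zero_iff_mem, map_sub, sub_eq_zero]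
    exact congr_fun hfe i

end Basis

end Groth.Agent.Lib.DiagNilH4
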