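import Mathlib
import Groth.Prelude.Def_SGA3b
import Groth.Agent.Lib.DiagNil1_helper4

/-!
# Lifting group-like elements modulo a nil ideal, II: base change functoriality (helper4)
APPEND-ONLY once landed.
-/

set_option backward.isDefEq.respectTransparency.types false
set_option autoImplicit false
set_option linter.unusedVariables false
set_option linter.unusedTactic false
set_option linter.unreachableTactic false
set_option linter.unusedSectionVars false
set_option linter.style.haveILetI false
set_option linter.deprecated false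
set_option linter.unusedSimpArgs false
set_option linter.style.longLine false
set_option maxHeartbeats 3200000

universe u

open TensorProduct Coalgebra

noncomputable section

namespace Groth.Agent.Lib.DiagNilH4

open Groth.Agent.Lib.MultQuotH1

theorem nil_map {S T : Type*} [CommRing S] [CommRing T] (f : S →+* T) (J : Ideal S)
    (hJ : ∀ x ∈ J, IsNilpotent x) : ∀ x ∈ J.map f, IsNilpotent x := by
  have h : J.map f ≤ nilradical T := by
    rw [Ideal.map_le_iff_le_comap]
    intro x hx
    rw [Ideal.mem_comap, mem_nilradical]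
    exact (hJ x hx).map f
  intro x hx
  exact mem_nilradical.mp (h hx)

section TmulMem

variable {S : Type*} [CommRing S] {S' : Type*} [CommRing S'] [Algebra S S']
  {P : Type*} [AddCommGroup P] [Module S P] [Module S' P] [IsScalarTower S S' P]
  {Y : Type*} [AddCommGroup Y] [Module S Y]

theorem tmul_mem (J : Ideal S) (p : P) {w : Y} (hw : w ∈ J • (⊤ : Submodule S Y)) :
    p ⊗ₜ[S] w ∈ (J.map (algebraMap S S')) • (⊤ : Submodule S' (P ⊗[S] Y)) := by
  refine Submodule.smul_induction_on hw ?_ ?_
  · intro r hr n _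
    rw [TensorProduct.tmul_smul, ← algebraMap_smul S' r (p ⊗ₜ[S] n)]
    exact Submodule.smul_mem_smul (Ideal.mem_map_of_mem _ hr) Submodule.mem_top
  · intro x y hx hy
    rw [TensorProduct.tmul_add]
    exact add_mem hx hy

theorem smul_top_quot_eq_bot (J : Ideal S) :
    (J.map (algebraMap S S')) •
      (⊤ : Submodule S' (S' ⊗[S] (Y ⧸ (J • (⊤ : Submodule S Y))))) = ⊥ := by
  rw [eq_bot_iff, Submodule.smul_le]
  intro r hr v _
  rw [Submodule.mem_bot]
  have h : J.map (algebraMap S S') ≤
      Module.annihilator S' (S' ⊗[S] (Y ⧸ (J • (⊤ : Submodule S Y)))) := by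
    rw [Ideal.map_le_iff_le_comap]
    intro j hj
    rw [Ideal.mem_comap, Module.mem_annihilator]
    intro v
    induction v using TensorProduct.induction_on with
    | zero => rw [smul_zero]
    | tmul s q =>
      obtain ⟨y, rfl⟩ := Submodule.Quotient.mk_surjective _ q
      rw [algebraMap_smul, ← TensorProduct.tmul_smul, ← Submodule.Quotient.mk_smul,
        (Submodule.Quotient.mk_eq_zero _).mpr (Submodule.smul_mem_smul hj Submodule.mem_top),
        TensorProduct.tmul_zero]
    | add x y hx hy => rw [smul_add, hx, hy, add_zero]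
  exact Module.mem_annihilator.mp (h hr) v

theorem one_tmul_mkQ_eq_zero (J : Ideal S) {x : Y}
    (hx : (1 : S') ⊗ₜ[S] x ∈ (J.map (algebraMap S S')) • (⊤ : Submodule S' (S' ⊗[S] Y))) :
    (1 : S') ⊗ₜ[S] (Submodule.mkQ (J • (⊤ : Submodule S Y)) x) = 0 := by
  have h1 := map_mem_smul_top (J.map (algebraMap S S'))
    ((Submodule.mkQ (J • (⊤ : Submodule S Y))).baseChange S') hx
  rw [smul_top_quot_eq_bot, Submodule.mem_bot, LinearMap.baseChange_tmul] at h1
  exact h1

end TmulMem

section Lvl

variable {S : Type u} [CommRing S] {B : Type u} [CommRing B] [HopfAlgebra S B]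
variable {T T' : Type u} [CommRing T] [CommRing T'] [Algebra S T] [Algebra S T']

theorem cc_eq_rTensor (ρ : T →ₐ[S] T') (y : T ⊗[S] B) :
    cc ρ y = LinearMap.rTensor B ρ.toLinearMap y := by
  induction y using TensorProduct.induction_on with
  | zero => rw [map_zero, map_zero]
  | tmul t x =>
    rw [cc_tmul, LinearMap.rTensor_tmul]
    rfl
  | add y z hy hz => rw [map_add, map_add, hy, hz]

theorem cc_mem_smul_top (ρ : T →ₐ[S] T') (K : Ideal T) (K' : Ideal T')
    (hKK' : K.map ρ.toRingHom ≤ K') {y : T ⊗[S] B}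
    (hy : y ∈ K • (⊤ : Submodule T (T ⊗[S] B))) :
    cc ρ y ∈ K' • (⊤ : Submodule T' (T' ⊗[S] B)) := by
  refine Submodule.smul_induction_on hy ?_ ?_
  · intro r hr n _
    rw [cc_smul]
    exact Submodule.smul_mem_smul (hKK' (Ideal.mem_map_of_mem _ hr)) Submodule.mem_top
  · intro x y hx hy
    rw [map_add]
    exact add_mem hx hy

theorem Phi_smul (ρ : T →ₐ[S] T') (r : T) (w : (T ⊗[S] B) ⊗[T] (T ⊗[S] B)) :
    Phi ρ (r • w) = ρ r • Phi ρ w := by
  induction w using TensorProduct.induction_on with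
  | zero => rw [smul_zero, map_zero, smul_zero]
  | tmul a c =>
    rw [TensorProduct.smul_tmul', Phi_tmul, Phi_tmul, cc_smul, TensorProduct.smul_tmul']
  | add x y hx hy => rw [smul_add, map_add, hx, hy, map_add, smul_add]

theorem Phi_mem (ρ : T →ₐ[S] T') (K : Ideal T) (K' : Ideal T')
    (hKK' : K.map ρ.toRingHom ≤ K') {w : (T ⊗[S] B) ⊗[T] (T ⊗[S] B)}
    (hw : w ∈ K • (⊤ : Submodule T ((T ⊗[S] B) ⊗[T] (T ⊗[S] B)))) :
    Phi ρ w ∈ K' • (⊤ : Submodule T' ((T' ⊗[S] B) ⊗[T'] (T' ⊗[S] B))) := by
  refine Submodule.smul_induction_on hw ?_ ?_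
  · intro r hr n _
    rw [Phi_smul]
    exact Submodule.smul_mem_smul (hKK' (Ideal.mem_map_of_mem _ hr)) Submodule.mem_top
  · intro x y hx hy
    rw [map_add]
    exact add_mem hx hy

theorem glm_cc (ρ : T →ₐ[S] T') (K : Ideal T) (K' : Ideal T')
    (hKK' : K.map ρ.toRingHom ≤ K') {y : T ⊗[S] B} (h : GLm K y) : GLm K' (cc ρ y) := by
  obtain ⟨h1, h2⟩ := h
  constructor
  · rw [counit_cc, ← map_one ρ, ← map_sub]
    exact hKK' (Ideal.mem_map_of_mem _ h1)
  · rw [comul_cc, ← Phi_tmul, ← map_sub]
    exact Phi_mem ρ K K' hKK' h2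

variable (S B) in
/-- `T ⊗ B` has a `T`-basis of group-like elements. -/
def GLB (T : Type u) [CommRing T] [Algebra S T] : Prop :=
  ∃ (ι : Type u) (b : Module.Basis ι T (T ⊗[S] B)), ∀ i, IsGroupLikeElem T (b i)

variable (S B) in
/-- Uniqueness of group-like elements of `T ⊗ B` modulo `J`. -/
def UU (J : Ideal S) (T : Type u) [CommRing T] [Algebra S T] : Prop :=
  ∀ g g' : T ⊗[S] B, IsGroupLikeElem T g → IsGroupLikeElem T g' →
    g - g' ∈ (J.map (algebraMap S T)) • (⊤ : Submodule T (T ⊗[S] B)) → g = g'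

variable (S B) in
/-- Existence of group-like lifts in `T ⊗ B` modulo `J`. -/
def PP (J : Ideal S) (T : Type u) [CommRing T] [Algebra S T] : Prop :=
  ∀ y : T ⊗[S] B, GLm (J.map (algebraMap S T)) y →
    ∃ g : T ⊗[S] B, IsGroupLikeElem T g ∧
      g - y ∈ (J.map (algebraMap S T)) • (⊤ : Submodule T (T ⊗[S] B))

theorem glb_of_equiv {N : Type u} [CommGroup N] (θ : (T ⊗[S] B) ≃ₐc[T] MonoidAlgebra T N) :
    GLB S B T := by
  refine ⟨N, (MonoidAlgebra.basis N T).map θ.symm.toAlgEquiv.toLinearEquiv, fun m => ?_⟩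
  have h1 : IsGroupLikeElem T (MonoidAlgebra.single m (1 : T) : MonoidAlgebra T N) :=
    MonoidAlgebra.isGroupLikeElem_single_one (R := T) (A := T) m
  exact h1.map θ.symm.toBialgHom

theorem uu_of_glb (J : Ideal S) (hJ : ∀ x ∈ J, IsNilpotent x) (h : GLB S B T) : UU S B J T := by
  classical
  obtain ⟨ι, b, hb⟩ := h
  intro g g' hg hg' hd
  exact uu_basis b hb _ (nil_map _ J hJ) hg hg' hd

theorem pp_of_glb (J : Ideal S) (hJ : ∀ x ∈ J, IsNilpotent x) (h : GLB S B T) : PP S B J T := by
  classical
  obtain ⟨ι, b, hb⟩ := h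
  intro y hy
  exact pp_basis b hb _ (nil_map _ J hJ) y hy

section Tower

variable [Algebra T T'] [IsScalarTower S T T']

theorem kappa_one_tmul (y : T ⊗[S] B) :
    TensorProduct.AlgebraTensorModule.cancelBaseChange S T T' T' B ((1 : T') ⊗ₜ[T] y) =
      cc (IsScalarTower.toAlgHom S T T') y := by
  induction y using TensorProduct.induction_on with
  | zero => rw [TensorProduct.tmul_zero, map_zero, map_zero]
  | tmul t x =>
    rw [TensorProduct.AlgebraTensorModule.cancelBaseChange_tmul, cc_tmul, Algebra.smul_def,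
      mul_one]
    rfl
  | add y z hy hz => rw [TensorProduct.tmul_add, map_add, hy, hz, map_add]

theorem glb_tower (h : GLB S B T) : GLB S B T' := by
  obtain ⟨ι, b, hb⟩ := h
  refine ⟨ι, (Algebra.TensorProduct.basis T' b).map
    (TensorProduct.AlgebraTensorModule.cancelBaseChange S T T' T' B), fun i => ?_⟩
  rw [Module.Basis.map_apply, Algebra.TensorProduct.basis_apply, kappa_one_tmul]
  exact isGroupLikeElem_cc _ (hb i)

theorem cc_tower_injective [Module.FaithfullyFlat T T'] :
    Function.Injective (cc (X := B) (IsScalarTower.toAlgHom S T T')) := by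
  intro y z h
  rw [← kappa_one_tmul, ← kappa_one_tmul] at h
  have h1 := (TensorProduct.AlgebraTensorModule.cancelBaseChange S T T' T' B).injective h
  have h2 : (1 : T') ⊗ₜ[T] (y - z) = 0 := by rw [TensorProduct.tmul_sub, h1, sub_self]
  exact sub_eq_zero.mp ((Module.FaithfullyFlat.one_tmul_eq_zero_iff T _ _).mp h2)

theorem map_map_eq (J : Ideal S) :
    (J.map (algebraMap S T)).map (IsScalarTower.toAlgHom S T T').toRingHom =
      J.map (algebraMap S T') := by
  rw [Ideal.map_map]
  congr 1
  ext s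
  exact (IsScalarTower.algebraMap_apply S T T' s).symm

theorem uu_of_ff [Module.FaithfullyFlat T T'] (J : Ideal S) (h : UU S B J T') : UU S B J T := by
  intro g g' hg hg' hd
  apply cc_tower_injective (T' := T')
  apply h _ _ (isGroupLikeElem_cc _ hg) (isGroupLikeElem_cc _ hg')
  rw [← map_sub]
  exact cc_mem_smul_top _ _ _ (map_map_eq J).le hd

end Tower

theorem glb_bc (ρ : T →ₐ[S] T') (h : GLB S B T) : GLB S B T' := by
  letI : Algebra T T' := ρ.toRingHom.toAlgebra
  haveI : IsScalarTower S T T' := IsScalarTower.of_algebraMap_eq (fun s => (ρ.commutes s).symm)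
  exact glb_tower h

/-- If `B` becomes diagonalisable over a faithfully flat `S'`, uniqueness holds over every `T`. -/
theorem uu_all {S' : Type u} [CommRing S'] [Algebra S S'] [Module.FaithfullyFlat S S']
    (J : Ideal S) (hJ : ∀ x ∈ J, IsNilpotent x) (h : GLB S B S') (T : Type u) [CommRing T]
    [Algebra S T] : UU S B J T := by
  have h1 : GLB S B (T ⊗[S] S') :=
    glb_bc (Algebra.TensorProduct.includeRight : S' →ₐ[S] T ⊗[S] S') h
  exact uu_of_ff (T' := T ⊗[S] S') J (uu_of_glb J hJ h1)

end Lvl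

end Groth.Agent.Lib.DiagNilH4
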