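import Mathlib
import Groth.Prelude.Def_SGA3b
import Groth.Agent.Lib.DiagNil2_helper4

/-!
# Lifting group-like elements modulo a nil ideal, III: faithfully flat descent (helper4)
APPEND-ONLY once landed.
-/

set_option backward.isDefEq.respectTransparency.types false
set_option autoImplicit false
set_option linter.unusedVariables false
set_option linter.unusedTactic false
set_option linter.unreachableTactic false
set_option linter.unusedSectionVars false
set_option linter.style.haveILetI false
set_option linter.deprecated false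
set_option linter.unusedSimpArgs false
set_option linter.style.longLine false
set_option maxHeartbeats 3200000

universe u

open TensorProduct Coalgebra

noncomputable section

namespace Groth.Agent.Lib.DiagNilH4

open Groth.Agent.Lib.MultQuotH1

section Descend

variable {S : Type u} [CommRing S] {B : Type u} [CommRing B] [HopfAlgebra S B]
  (S' : Type u) [CommRing S'] [Algebra S S']

theorem gl_descend {b : B} (h : IsGroupLikeElem S' ((1 : S') ⊗ₜ[S] b)) :
    algebraMap S S' (counit (R := S) b) = 1 ∧
      (1 : S') ⊗ₜ[S] (comul (R := S) b - b ⊗ₜ[S] b) = (0 : S' ⊗[S] (B ⊗[S] B)) := by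
  constructor
  · have h1 := h.counit_eq_one
    rw [TensorProduct.counit_tmul, CommSemiring.counit_apply] at h1
    rw [Algebra.algebraMap_eq_smul_one]
    exact h1
  · have h1 := h.comul_eq_tmul_self
    rw [TensorProduct.comul_tmul, CommSemiring.comul_apply] at h1
    have h2 : TensorProduct.AlgebraTensorModule.tensorTensorTensorComm S S' S S' S' S' B B
        (((1 : S') ⊗ₜ[S'] (1 : S')) ⊗ₜ[S] (b ⊗ₜ[S] b)) =
          ((1 : S') ⊗ₜ[S] b) ⊗ₜ[S'] ((1 : S') ⊗ₜ[S] b) := rfl
    have h3 := (TensorProduct.AlgebraTensorModule.tensorTensorTensorComm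
      S S' S S' S' S' B B).injective (h1.trans h2.symm)
    have h4 := congrArg (LinearMap.rTensor (B ⊗[S] B)
      ((TensorProduct.lid S' S').toLinearMap.restrictScalars S)) h3
    rw [LinearMap.rTensor_tmul, LinearMap.rTensor_tmul, LinearMap.restrictScalars_apply,
      LinearEquiv.coe_coe, TensorProduct.lid_tmul, one_smul] at h4
    rw [TensorProduct.tmul_sub, h4, sub_self]

theorem glm_base (J : Ideal S) {y : B} (h : GLm J y) :
    GLm (J.map (algebraMap S S')) ((1 : S') ⊗ₜ[S] y) := by
  obtain ⟨h1, h2⟩ := h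
  constructor
  · rw [TensorProduct.counit_tmul, CommSemiring.counit_apply, ← Algebra.algebraMap_eq_smul_one,
      ← map_one (algebraMap S S'), ← map_sub]
    exact Ideal.mem_map_of_mem _ h1
  · rw [TensorProduct.comul_tmul, CommSemiring.comul_apply]
    have h3 : ((1 : S') ⊗ₜ[S] y) ⊗ₜ[S'] ((1 : S') ⊗ₜ[S] y) =
        TensorProduct.AlgebraTensorModule.tensorTensorTensorComm S S' S S' S' S' B B
          (((1 : S') ⊗ₜ[S'] (1 : S')) ⊗ₜ[S] (y ⊗ₜ[S] y)) := rfl
    rw [h3, ← map_sub, ← TensorProduct.tmul_sub]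
    exact map_mem_smul_top _ (TensorProduct.AlgebraTensorModule.tensorTensorTensorComm
      S S' S S' S' S' B B).toLinearMap (tmul_mem (S' := S') J _ h2)

theorem groupLike_base {g : B} (hg : IsGroupLikeElem S g) :
    IsGroupLikeElem S' ((1 : S') ⊗ₜ[S] g) where
  counit_eq_one := by
    rw [TensorProduct.counit_tmul, hg.counit_eq_one, one_smul, CommSemiring.counit_apply]
  comul_eq_tmul_self := by
    rw [TensorProduct.comul_tmul, hg.comul_eq_tmul_self, CommSemiring.comul_apply,
      TensorProduct.AlgebraTensorModule.tensorTensorTensorComm_tmul]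

end Descend

section LemmaK

variable {R : Type u} [CommRing R] {A : Type u} [CommRing A] [HopfAlgebra R A]
  {S : Type u} [CommRing S] [Algebra R S] {T : Type u} [CommRing T] [Algebra R T] [Algebra S T]
  [IsScalarTower R S T]

variable (R A S T) in
/-- `T ⊗[S] (S ⊗[R] A) ≃ T ⊗[R] A` -/
def kap : T ⊗[S] (S ⊗[R] A) ≃ₗ[T] T ⊗[R] A :=
  TensorProduct.AlgebraTensorModule.cancelBaseChange R S T T A

theorem kap_tmul (t : T) (s : S) (a : A) :
    kap R A S T (t ⊗ₜ[S] (s ⊗ₜ[R] a)) = (s • t) ⊗ₜ[R] a := rfl

theorem counit_kap (z : T ⊗[S] (S ⊗[R] A)) :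
    counit (R := T) (kap R A S T z) = counit (R := T) z := by
  induction z using TensorProduct.induction_on with
  | zero => rw [map_zero, map_zero, map_zero]
  | add x y hx hy => rw [map_add, map_add, hx, hy, map_add]
  | tmul t w =>
    induction w using TensorProduct.induction_on with
    | zero => rw [TensorProduct.tmul_zero, map_zero, map_zero, map_zero]
    | add x y hx hy => rw [TensorProduct.tmul_add, map_add, map_add, hx, hy, map_add]
    | tmul s a =>
      rw [kap_tmul, TensorProduct.counit_tmul, TensorProduct.counit_tmul,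
        TensorProduct.counit_tmul, CommSemiring.counit_apply, CommSemiring.counit_apply,
        CommSemiring.counit_apply, smul_assoc]

theorem comul_kap (z : T ⊗[S] (S ⊗[R] A)) :
    comul (R := T) (kap R A S T z) =
      TensorProduct.map (kap R A S T).toLinearMap (kap R A S T).toLinearMap
        (comul (R := T) z) := by
  induction z using TensorProduct.induction_on with
  | zero => rw [map_zero, map_zero, map_zero, map_zero]
  | add x y hx hy => rw [map_add, map_add, hx, hy, map_add, map_add]
  | tmul t w =>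
    induction w using TensorProduct.induction_on with
    | zero => rw [TensorProduct.tmul_zero, map_zero, map_zero, map_zero, map_zero]
    | add x y hx hy =>
      rw [TensorProduct.tmul_add, map_add, map_add, hx, hy, map_add, map_add]
    | tmul s a =>
      rw [kap_tmul, TensorProduct.comul_tmul, TensorProduct.comul_tmul,
        TensorProduct.comul_tmul, CommSemiring.comul_apply, CommSemiring.comul_apply,
        CommSemiring.comul_apply, ← (ℛ R a).eq]
      simp only [TensorProduct.tmul_sum, map_sum,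
        TensorProduct.AlgebraTensorModule.tensorTensorTensorComm_tmul, TensorProduct.map_tmul,
        LinearEquiv.coe_coe, kap_tmul, one_smul]

theorem gl_kap {z : T ⊗[S] (S ⊗[R] A)} (hz : IsGroupLikeElem T z) :
    IsGroupLikeElem T (kap R A S T z) where
  counit_eq_one := by rw [counit_kap, hz.counit_eq_one]
  comul_eq_tmul_self := by
    rw [comul_kap, hz.comul_eq_tmul_self, TensorProduct.map_tmul]
    rfl

theorem gl_kap_symm {g : T ⊗[R] A} (hg : IsGroupLikeElem T g) :
    IsGroupLikeElem T ((kap R A S T).symm g) where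
  counit_eq_one := by
    rw [← counit_kap, LinearEquiv.apply_symm_apply, hg.counit_eq_one]
  comul_eq_tmul_self := by
    have h : TensorProduct.map (kap R A S T).toLinearMap (kap R A S T).toLinearMap
        (comul (R := T) ((kap R A S T).symm g)) =
        TensorProduct.map (kap R A S T).toLinearMap (kap R A S T).toLinearMap
          (((kap R A S T).symm g) ⊗ₜ[T] ((kap R A S T).symm g)) := by
      rw [← comul_kap, LinearEquiv.apply_symm_apply, hg.comul_eq_tmul_self,
        TensorProduct.map_tmul, LinearEquiv.coe_coe, LinearEquiv.apply_symm_apply]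
    exact (TensorProduct.congr (kap R A S T) (kap R A S T)).injective h

end LemmaK

section Amitsur

variable {S : Type u} [CommRing S] {S' : Type u} [CommRing S'] [Algebra S S']
  {X : Type u} [AddCommGroup X] [Module S X]

/-- `s ⊗ (a ⊗ x) ↦ (s a) ⊗ x` -/
def kk : S' ⊗[S] (S' ⊗[S] X) →ₗ[S] S' ⊗[S] X :=
  LinearMap.rTensor X (LinearMap.mul' S S') ∘ₗ (TensorProduct.assoc S S' S' X).symm.toLinearMap

theorem kk_tmul (s a : S') (x : X) : kk (s ⊗ₜ[S] (a ⊗ₜ[S] x)) = (s * a) ⊗ₜ[S] x := rfl

/-- `s ⊗ ((a ⊗ b) ⊗ x) ↦ (s a) ⊗ (b ⊗ x)` -/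
def hh : S' ⊗[S] ((S' ⊗[S] S') ⊗[S] X) →ₗ[S] S' ⊗[S] (S' ⊗[S] X) :=
  kk (X := S' ⊗[S] X) ∘ₗ LinearMap.lTensor S' (TensorProduct.assoc S S' S' X).toLinearMap

theorem hh_tmul (s a b : S') (x : X) :
    hh (s ⊗ₜ[S] ((a ⊗ₜ[S] b) ⊗ₜ[S] x)) = (s * a) ⊗ₜ[S] (b ⊗ₜ[S] x) := rfl

/-- the two coface maps -/
def dL : S' ⊗[S] X →ₗ[S] (S' ⊗[S] S') ⊗[S] X :=
  LinearMap.rTensor X (Algebra.TensorProduct.includeLeft : S' →ₐ[S] S' ⊗[S] S').toLinearMap

def dR : S' ⊗[S] X →ₗ[S] (S' ⊗[S] S') ⊗[S] X :=
  LinearMap.rTensor X (Algebra.TensorProduct.includeRight : S' →ₐ[S] S' ⊗[S] S').toLinearMap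

theorem dL_tmul (a : S') (x : X) : dL (a ⊗ₜ[S] x) = (a ⊗ₜ[S] (1 : S')) ⊗ₜ[S] x := rfl

theorem dR_tmul (a : S') (x : X) : dR (a ⊗ₜ[S] x) = ((1 : S') ⊗ₜ[S] a) ⊗ₜ[S] x := rfl

theorem hh_dR (w : S' ⊗[S] (S' ⊗[S] X)) : hh (LinearMap.lTensor S' dR w) = w := by
  induction w using TensorProduct.induction_on with
  | zero => rw [map_zero, map_zero]
  | add x y hx hy => rw [map_add, map_add, hx, hy]
  | tmul s v =>
    induction v using TensorProduct.induction_on with
    | zero => rw [TensorProduct.tmul_zero, map_zero, map_zero]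
    | add x y hx hy => rw [TensorProduct.tmul_add, map_add, map_add, hx, hy]
    | tmul a x =>
      rw [LinearMap.lTensor_tmul, dR_tmul, hh_tmul, mul_one]

theorem hh_dL (w : S' ⊗[S] (S' ⊗[S] X)) :
    hh (LinearMap.lTensor S' dL w) =
      LinearMap.lTensor S' (TensorProduct.mk S S' X 1) (kk w) := by
  induction w using TensorProduct.induction_on with
  | zero => rw [map_zero, map_zero, map_zero, map_zero]
  | add x y hx hy => rw [map_add, map_add, hx, hy, map_add, map_add]
  | tmul s v =>
    induction v using TensorProduct.induction_on with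
    | zero => rw [TensorProduct.tmul_zero, map_zero, map_zero, map_zero, map_zero]
    | add x y hx hy =>
      rw [TensorProduct.tmul_add, map_add, map_add, hx, hy, map_add, map_add]
    | tmul a x =>
      rw [LinearMap.lTensor_tmul, dL_tmul, hh_tmul, kk_tmul, LinearMap.lTensor_tmul,
        TensorProduct.mk_apply]

/-- Amitsur's lemma in degree one. -/
theorem amitsur [Module.FaithfullyFlat S S'] (z : S' ⊗[S] X) (h : dL z = dR z) :
    ∃ x : X, (1 : S') ⊗ₜ[S] x = z := by
  have hex : Function.Exact (TensorProduct.mk S S' X 1) (dL - dR : S' ⊗[S] X →ₗ[S] _) := by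
    rw [← Module.FaithfullyFlat.lTensor_exact_iff_exact S S']
    intro w
    constructor
    · intro hw
      rw [LinearMap.lTensor_sub, LinearMap.sub_apply, sub_eq_zero] at hw
      refine ⟨kk w, ?_⟩
      rw [← hh_dL, hw, hh_dR]
    · rintro ⟨v, rfl⟩
      rw [← LinearMap.comp_apply, ← LinearMap.lTensor_comp]
      have h0 : (dL - dR : S' ⊗[S] X →ₗ[S] _) ∘ₗ TensorProduct.mk S S' X 1 = 0 := by
        apply LinearMap.ext
        intro x
        rw [LinearMap.comp_apply, LinearMap.sub_apply, TensorProduct.mk_apply, dL_tmul, dR_tmul,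
          sub_self, LinearMap.zero_apply]
      rw [h0, LinearMap.lTensor_zero, LinearMap.zero_apply]
  have hz : (dL - dR : S' ⊗[S] X →ₗ[S] _) z = 0 := by
    rw [LinearMap.sub_apply, h, sub_self]
  obtain ⟨x, hx⟩ := (hex z).mp hz
  exact ⟨x, hx⟩

end Amitsur

end Groth.Agent.Lib.DiagNilH4
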