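import Mathlib
import Groth.Prelude.Def_SGA3b
import Groth.Agent.Lib.DiagNil3_helper4

/-!
# Lifting group-like elements modulo a nil ideal, IV: constant type, then Zariski gluing (helper4)
APPEND-ONLY once landed.
-/

set_option backward.isDefEq.respectTransparency.types false
set_option autoImplicit false
set_option linter.unusedVariables false
set_option linter.unusedTactic false
set_option linter.unreachableTactic false
set_option linter.unusedSectionVars false
set_option linter.style.haveILetI false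
set_option linter.deprecated false
set_option linter.unusedSimpArgs false
set_option linter.style.longLine false
set_option maxHeartbeats 3200000

universe u

open TensorProduct Coalgebra

noncomputable section

namespace Groth.Agent.Lib.DiagNilH4

open Groth.Agent.Lib.MultQuotH1

section ConstLevel

variable {S : Type u} [CommRing S] {B : Type u} [CommRing B] [HopfAlgebra S B]
  {S' : Type u} [CommRing S'] [Algebra S S'] [Module.FaithfullyFlat S S']

/-- uniqueness in `B` -/
theorem uu0 (J : Ideal S) (hJ : ∀ x ∈ J, IsNilpotent x) (h : GLB S B S') {g g' : B}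
    (hg : IsGroupLikeElem S g) (hg' : IsGroupLikeElem S g')
    (hd : g - g' ∈ J • (⊤ : Submodule S B)) : g = g' := by
  have h1 : (1 : S') ⊗ₜ[S] g = (1 : S') ⊗ₜ[S] g' := by
    apply uu_of_glb J hJ h _ _ (groupLike_base S' hg) (groupLike_base S' hg')
    have hh := tmul_mem (S' := S') J (1 : S') hd
    rwa [TensorProduct.tmul_sub] at hh
  have h2 : (1 : S') ⊗ₜ[S] (g - g') = 0 := by rw [TensorProduct.tmul_sub, h1, sub_self]
  exact sub_eq_zero.mp ((Module.FaithfullyFlat.one_tmul_eq_zero_iff S _ _).mp h2)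

/-- existence in `B` -/
theorem pp0 (J : Ideal S) (hJ : ∀ x ∈ J, IsNilpotent x) (h : GLB S B S') {y : B}
    (hy : GLm J y) : ∃ g : B, IsGroupLikeElem S g ∧ g - y ∈ J • (⊤ : Submodule S B) := by
  obtain ⟨g', hg', hd'⟩ := pp_of_glb J hJ h _ (glm_base S' J hy)
  have hU : UU S B J (S' ⊗[S] S') := uu_all J hJ h _
  have hmapL : (J.map (algebraMap S S')).map
      (Algebra.TensorProduct.includeLeft : S' →ₐ[S] S' ⊗[S] S').toRingHom ≤
      J.map (algebraMap S (S' ⊗[S] S')) := by
    rw [Ideal.map_map]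
    apply le_of_eq
    congr 1
  have hmapR : (J.map (algebraMap S S')).map
      (Algebra.TensorProduct.includeRight : S' →ₐ[S] S' ⊗[S] S').toRingHom ≤
      J.map (algebraMap S (S' ⊗[S] S')) := by
    rw [Ideal.map_map]
    apply le_of_eq
    congr 1
    ext s
    exact (Algebra.TensorProduct.includeRight : S' →ₐ[S] S' ⊗[S] S').commutes s
  have e12 : cc (X := B) (Algebra.TensorProduct.includeLeft : S' →ₐ[S] S' ⊗[S] S') g' =
      cc (X := B) (Algebra.TensorProduct.includeRight : S' →ₐ[S] S' ⊗[S] S') g' := by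
    apply hU _ _ (isGroupLikeElem_cc _ hg') (isGroupLikeElem_cc _ hg')
    have hL := cc_mem_smul_top (B := B) _ _ _ hmapL hd'
    have hR := cc_mem_smul_top (B := B) _ _ _ hmapR hd'
    rw [map_sub, cc_tmul, map_one] at hL hR
    have h3 := Submodule.sub_mem _ hL hR
    rwa [sub_sub_sub_cancel_right] at h3
  have e12' : dL g' = dR g' := by
    rw [cc_eq_rTensor, cc_eq_rTensor] at e12
    exact e12
  obtain ⟨g, rfl⟩ := amitsur g' e12'
  refine ⟨g, ?_, ?_⟩
  · obtain ⟨hc, hm⟩ := gl_descend S' hg'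
    constructor
    · apply FaithfulSMul.algebraMap_injective S S'
      rw [hc, map_one]
    · have h4 := (Module.FaithfullyFlat.one_tmul_eq_zero_iff S _ _).mp hm
      exact sub_eq_zero.mp h4
  · rw [← TensorProduct.tmul_sub] at hd'
    have h5 := one_tmul_mkQ_eq_zero (S' := S') J hd'
    have h6 := (Module.FaithfullyFlat.one_tmul_eq_zero_iff S _ _).mp h5
    rwa [Submodule.mkQ_apply, Submodule.Quotient.mk_eq_zero] at h6

end ConstLevel

section Const

open SGA3b

variable {S : Type u} [CommRing S] {B : Type u} [CommRing B] [HopfAlgebra S B]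

theorem const_uu0 (hB : IsMultTypeConst S B) (J : Ideal S) (hJ : ∀ x ∈ J, IsNilpotent x)
    {g g' : B} (hg : IsGroupLikeElem S g) (hg' : IsGroupLikeElem S g')
    (hd : g - g' ∈ J • (⊤ : Submodule S B)) : g = g' := by
  obtain ⟨S', _, _, hff, N, _, ⟨θ⟩⟩ := hB
  haveI := hff
  exact uu0 J hJ (glb_of_equiv θ) hg hg' hd

theorem const_pp0 (hB : IsMultTypeConst S B) (J : Ideal S) (hJ : ∀ x ∈ J, IsNilpotent x)
    {y : B} (hy : GLm J y) :
    ∃ g : B, IsGroupLikeElem S g ∧ g - y ∈ J • (⊤ : Submodule S B) := by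
  obtain ⟨S', _, _, hff, N, _, ⟨θ⟩⟩ := hB
  haveI := hff
  exact pp0 J hJ (glb_of_equiv θ) hy

theorem const_uu_all (hB : IsMultTypeConst S B) (J : Ideal S) (hJ : ∀ x ∈ J, IsNilpotent x)
    (T : Type u) [CommRing T] [Algebra S T] : UU S B J T := by
  obtain ⟨S', _, _, hff, N, _, ⟨θ⟩⟩ := hB
  haveI := hff
  exact uu_all J hJ (glb_of_equiv θ) T

end Const

section Glue

variable {R : Type u} [CommRing R] {X : Type u} [AddCommGroup X] [Module R X]

theorem glue (t : Finset R) (ht : Ideal.span (t : Set R) = ⊤) (n : R → ℕ) (a : R → X)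
    (hov : ∀ f ∈ t, ∀ f' ∈ t, ∃ k : ℕ, (f * f') ^ k • (f' ^ n f' • a f - f ^ n f • a f') = 0) :
    ∃ x : X, ∀ f ∈ t, ∃ k : ℕ, f ^ k • (f ^ n f • x - a f) = 0 := by
  classical
  set N := t.sup n with hN
  have hnN : ∀ f ∈ t, n f ≤ N := fun f hf => Finset.le_sup hf
  -- uniform exponent for the overlaps
  choose! k hk using hov
  set K := (t ×ˢ t).sup (fun p => k p.1 p.2) with hK
  have hkK : ∀ f ∈ t, ∀ f' ∈ t, k f f' ≤ K := fun f hf f' hf' =>
    Finset.le_sup (f := fun p : R × R => k p.1 p.2) (Finset.mk_mem_product hf hf')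
  have hov2 : ∀ f ∈ t, ∀ f' ∈ t,
      (f * f') ^ K • (f' ^ n f' • a f - f ^ n f • a f') = 0 := by
    intro f hf f' hf'
    rw [← Nat.sub_add_cancel (hkK f hf f' hf'), pow_add, mul_smul, hk f hf f' hf', smul_zero]
  -- new numerators
  set b : R → X := fun f => f ^ (K + (N - n f)) • a f with hb
  have hbb : ∀ f ∈ t, ∀ f' ∈ t, f' ^ (N + K) • b f = f ^ (N + K) • b f' := by
    intro f hf f' hf'
    have h1 := hov2 f hf f' hf'
    have h2 : f' ^ (N + K) • b f - f ^ (N + K) • b f' =
        (f' ^ (N - n f') * f ^ (N - n f)) •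
          ((f * f') ^ K • (f' ^ n f' • a f - f ^ n f • a f')) := by
      simp only [hb, smul_sub, smul_smul]
      have e1 : f' ^ (N + K) * f ^ (K + (N - n f)) =
          f' ^ (N - n f') * f ^ (N - n f) * (f * f') ^ K * f' ^ n f' := by
        have : N + K = (N - n f') + n f' + K := by rw [Nat.sub_add_cancel (hnN f' hf')]
        rw [this, mul_pow]
        ring
      have e2 : f ^ (N + K) * f' ^ (K + (N - n f')) =
          f' ^ (N - n f') * f ^ (N - n f) * (f * f') ^ K * f ^ n f := by
        have : N + K = (N - n f) + n f + K := by rw [Nat.sub_add_cancel (hnN f hf)]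
        rw [this, mul_pow]
        ring
      rw [e1, e2]
      simp only [mul_assoc]
    rw [h1, smul_zero] at h2
    exact sub_eq_zero.mp h2
  -- partition of unity
  have hspan : Ideal.span ((fun x : R => x ^ (N + K)) '' (t : Set R)) = ⊤ :=
    Ideal.span_pow_eq_top _ ht _
  have hone : (1 : R) ∈ Submodule.span R ((fun x : R => x ^ (N + K)) '' (t : Set R)) := by
    have : (1 : R) ∈ Ideal.span ((fun x : R => x ^ (N + K)) '' (t : Set R)) := by
      rw [hspan]; trivial
    exact this
  obtain ⟨c, hc⟩ := (Submodule.mem_span_image_finset_iff_exists_fun' (R := R)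
    (v := fun x : R => x ^ (N + K)) (s := t)).mp hone
  refine ⟨∑ f ∈ t, c f • b f, ?_⟩
  intro f' hf'
  have h3 : f' ^ (N + K) • (∑ f ∈ t, c f • b f) = b f' := by
    rw [Finset.smul_sum]
    have h4 : ∀ f ∈ t, f' ^ (N + K) • c f • b f = (c f • f ^ (N + K)) • b f' := by
      intro f hf
      rw [smul_comm, hbb f hf f' hf', smul_smul, smul_eq_mul]
    rw [Finset.sum_congr rfl h4, ← Finset.sum_smul, hc, one_smul]
  refine ⟨K + (N - n f'), ?_⟩
  rw [smul_sub, smul_smul, ← pow_add]
  have h5 : K + (N - n f') + n f' = N + K := by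
    rw [add_assoc, Nat.sub_add_cancel (hnN f' hf'), add_comm]
  rw [h5, h3, sub_self]

end Glue

end Groth.Agent.Lib.DiagNilH4
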