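import Mathlib
import Groth.Prelude.Def_SGA3b
import Groth.Agent.Lib.DiagNil4_helper4

/-!
# Lifting group-like elements modulo a nil ideal, V: the Zariski stage (helper4)
APPEND-ONLY once landed.
-/

set_option backward.isDefEq.respectTransparency.types false
set_option autoImplicit false
set_option linter.unusedVariables false
set_option linter.unusedTactic false
set_option linter.unreachableTactic false
set_option linter.unusedSectionVars false
set_option linter.style.haveILetI false
set_option linter.deprecated false
set_option linter.unusedSimpArgs false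
set_option linter.style.longLine false
set_option maxHeartbeats 3200000

universe u

open TensorProduct Coalgebra

noncomputable section

namespace Groth.Agent.Lib.DiagNilH4

open Groth.Agent.Lib.MultQuotH1

section Zariski

open SGA3b

variable {R : Type u} [CommRing R] {A : Type u} [CommRing A] [HopfAlgebra R A]

/-- uniqueness over any `T` lying over a ring `S` over which `A` has constant multiplicative type -/
theorem uu_over (I : Ideal R) (hI : ∀ x ∈ I, IsNilpotent x)
    (S : Type u) [CommRing S] [Algebra R S] (hS : IsMultTypeConst S (S ⊗[R] A))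
    (T : Type u) [CommRing T] [Algebra R T] [Algebra S T] [IsScalarTower R S T]
    {g g' : T ⊗[R] A} (hg : IsGroupLikeElem T g) (hg' : IsGroupLikeElem T g')
    (hd : g - g' ∈ (I.map (algebraMap R T)) • (⊤ : Submodule T (T ⊗[R] A))) : g = g' := by
  have hU := const_uu_all hS (I.map (algebraMap R S)) (nil_map _ I hI) T
  have hd' : (kap R A S T).symm g - (kap R A S T).symm g' ∈
      ((I.map (algebraMap R S)).map (algebraMap S T)) •
        (⊤ : Submodule T (T ⊗[S] (S ⊗[R] A))) := by
    rw [← map_sub, Ideal.map_map, ← IsScalarTower.algebraMap_eq]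
    exact map_mem_smul_top _ ((kap R A S T).symm.toLinearMap) hd
  exact (kap R A S T).symm.injective (hU _ _ (gl_kap_symm hg) (gl_kap_symm hg') hd')

theorem global_uu (I : Ideal R) (hI : ∀ x ∈ I, IsNilpotent x) (t : Finset R)
    (ht : Ideal.span (t : Set R) = ⊤)
    (hloc : ∀ f ∈ t, IsMultTypeConst (Localization.Away f) (Localization.Away f ⊗[R] A))
    {g g' : A} (hg : IsGroupLikeElem R g) (hg' : IsGroupLikeElem R g')
    (hd : g - g' ∈ I • (⊤ : Submodule R A)) : g = g' := by
  apply Module.eq_of_isLocalized_span (t : Set R) ht (fun r => Localization.Away r.1 ⊗[R] A)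
    (fun r => TensorProduct.mk R (Localization.Away r.1) A 1)
  intro r
  have hr : r.1 ∈ t := Finset.mem_coe.mp r.2
  have hd' : (1 : Localization.Away r.1) ⊗ₜ[R] g - (1 : Localization.Away r.1) ⊗ₜ[R] g' ∈
      (I.map (algebraMap R (Localization.Away r.1))) •
        (⊤ : Submodule (Localization.Away r.1) (Localization.Away r.1 ⊗[R] A)) := by
    have hh := tmul_mem (S' := Localization.Away r.1) I (1 : Localization.Away r.1) hd
    rwa [TensorProduct.tmul_sub] at hh
  exact const_uu0 (hloc r.1 hr) _ (nil_map _ I hI) (groupLike_base _ hg) (groupLike_base _ hg') hd'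

theorem exists_pow_smul_eq_zero (f f' : R) {X : Type u} [AddCommGroup X] [Module R X] (z : X)
    (h : (1 : Localization.Away f ⊗[R] Localization.Away f') ⊗ₜ[R] z = 0) :
    ∃ k : ℕ, (f * f') ^ k • z = 0 := by
  have h1 : (1 : Localization.Away f) ⊗ₜ[R] ((1 : Localization.Away f') ⊗ₜ[R] z) = 0 := by
    have h2 := congrArg (TensorProduct.assoc R (Localization.Away f) (Localization.Away f') X) h
    rwa [Algebra.TensorProduct.one_def, TensorProduct.assoc_tmul, map_zero] at h2
  obtain ⟨c, hc⟩ := (IsLocalizedModule.eq_zero_iff (Submonoid.powers f)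
    (TensorProduct.mk R (Localization.Away f) (Localization.Away f' ⊗[R] X) 1)
    (m := (1 : Localization.Away f') ⊗ₜ[R] z)).mp h1
  obtain ⟨k1, hk1⟩ := (Submonoid.mem_powers_iff _ _).mp c.2
  rw [Submonoid.smul_def, ← hk1, ← TensorProduct.tmul_smul] at hc
  obtain ⟨c', hc'⟩ := (IsLocalizedModule.eq_zero_iff (Submonoid.powers f')
    (TensorProduct.mk R (Localization.Away f') X 1) (m := f ^ k1 • z)).mp hc
  obtain ⟨k2, hk2⟩ := (Submonoid.mem_powers_iff _ _).mp c'.2
  rw [Submonoid.smul_def, ← hk2] at hc'
  refine ⟨k1 + k2, ?_⟩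
  have e : (f * f') ^ (k1 + k2) = (f ^ k2 * f' ^ k1) * (f' ^ k2 * f ^ k1) := by ring
  rw [e, mul_smul, mul_smul (f' ^ k2), hc', smul_zero]

theorem global_pp (I : Ideal R) (hI : ∀ x ∈ I, IsNilpotent x) (t : Finset R)
    (ht : Ideal.span (t : Set R) = ⊤)
    (hloc : ∀ f ∈ t, IsMultTypeConst (Localization.Away f) (Localization.Away f ⊗[R] A))
    {y : A} (hy : GLm I y) :
    ∃ g : A, IsGroupLikeElem R g ∧ g - y ∈ I • (⊤ : Submodule R A) := by
  classical
  -- local lifts
  have hl : ∀ f : R, ∃ g : Localization.Away f ⊗[R] A, f ∈ t →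
      (IsGroupLikeElem (Localization.Away f) g ∧
      g - (1 : Localization.Away f) ⊗ₜ[R] y ∈ (I.map (algebraMap R (Localization.Away f))) •
        (⊤ : Submodule (Localization.Away f) (Localization.Away f ⊗[R] A))) := by
    intro f
    by_cases hf : f ∈ t
    · obtain ⟨g, hg, hd⟩ := const_pp0 (hloc f hf) _ (nil_map _ I hI)
        (glm_base (Localization.Away f) I hy)
      exact ⟨g, fun _ => ⟨hg, hd⟩⟩
    · exact ⟨0, fun h => absurd h hf⟩
  choose g hg using hl
  -- numerators
  have hnum : ∀ f : R, ∃ (n : ℕ) (a : A),
      (f ^ n) • g f = (1 : Localization.Away f) ⊗ₜ[R] a := by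
    intro f
    obtain ⟨⟨a, c⟩, hc⟩ := IsLocalizedModule.surj (Submonoid.powers f)
      (TensorProduct.mk R (Localization.Away f) A 1) (g f)
    obtain ⟨n, hn⟩ := (Submonoid.mem_powers_iff _ _).mp c.2
    refine ⟨n, a, ?_⟩
    rw [hn]
    exact hc
  choose n a hna using hnum
  -- overlaps
  have hov : ∀ f ∈ t, ∀ f' ∈ t, ∃ k : ℕ,
      (f * f') ^ k • (f' ^ n f' • a f - f ^ n f • a f') = 0 := by
    intro f hf f' hf'
    apply exists_pow_smul_eq_zero
    obtain ⟨hgf, hdf⟩ := hg f hf
    obtain ⟨hgf', hdf'⟩ := hg f' hf'
    have hmapL : (I.map (algebraMap R (Localization.Away f))).map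
        (Algebra.TensorProduct.includeLeft :
          Localization.Away f →ₐ[R] Localization.Away f ⊗[R] Localization.Away f').toRingHom ≤
        I.map (algebraMap R (Localization.Away f ⊗[R] Localization.Away f')) := by
      rw [Ideal.map_map]
      apply le_of_eq
      congr 1
    have hmapR : (I.map (algebraMap R (Localization.Away f'))).map
        (Algebra.TensorProduct.includeRight :
          Localization.Away f' →ₐ[R] Localization.Away f ⊗[R] Localization.Away f').toRingHom ≤
        I.map (algebraMap R (Localization.Away f ⊗[R] Localization.Away f')) := by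
      rw [Ideal.map_map]
      apply le_of_eq
      congr 1
      ext s
      exact (Algebra.TensorProduct.includeRight :
        Localization.Away f' →ₐ[R] Localization.Away f ⊗[R] Localization.Away f').commutes s
    have e12 : cc (X := A) (Algebra.TensorProduct.includeLeft :
          Localization.Away f →ₐ[R] Localization.Away f ⊗[R] Localization.Away f') (g f) =
        cc (X := A) (Algebra.TensorProduct.includeRight :
          Localization.Away f' →ₐ[R] Localization.Away f ⊗[R] Localization.Away f') (g f') := by
      apply uu_over I hI (Localization.Away f) (hloc f hf)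
        (Localization.Away f ⊗[R] Localization.Away f')
        (isGroupLikeElem_cc _ hgf) (isGroupLikeElem_cc _ hgf')
      have hL := cc_mem_smul_top (B := A) _ _ _ hmapL hdf
      have hR := cc_mem_smul_top (B := A) _ _ _ hmapR hdf'
      rw [map_sub, cc_tmul, map_one] at hL hR
      have h3 := Submodule.sub_mem _ hL hR
      rwa [sub_sub_sub_cancel_right] at h3
    have eL : (1 : Localization.Away f ⊗[R] Localization.Away f') ⊗ₜ[R] a f =
        f ^ n f • cc (X := A) (Algebra.TensorProduct.includeLeft :
          Localization.Away f →ₐ[R] Localization.Away f ⊗[R] Localization.Away f') (g f) := by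
      have h4 := map_smul (cc (X := A) (Algebra.TensorProduct.includeLeft :
          Localization.Away f →ₐ[R] Localization.Away f ⊗[R] Localization.Away f'))
          (f ^ n f) (g f)
      rw [← h4, hna f, cc_tmul, map_one]
    have eR : (1 : Localization.Away f ⊗[R] Localization.Away f') ⊗ₜ[R] a f' =
        f' ^ n f' • cc (X := A) (Algebra.TensorProduct.includeRight :
          Localization.Away f' →ₐ[R] Localization.Away f ⊗[R] Localization.Away f') (g f') := by
      have h4 := map_smul (cc (X := A) (Algebra.TensorProduct.includeRight :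
          Localization.Away f' →ₐ[R] Localization.Away f ⊗[R] Localization.Away f'))
          (f' ^ n f') (g f')
      rw [← h4, hna f', cc_tmul, map_one]
    rw [TensorProduct.tmul_sub, TensorProduct.tmul_smul, TensorProduct.tmul_smul, eL, eR, e12,
      smul_comm, sub_self]
  obtain ⟨x, hx⟩ := glue t ht n a hov
  -- `1 ⊗ x = g f`
  have hxg : ∀ f ∈ t, (1 : Localization.Away f) ⊗ₜ[R] x = g f := by
    intro f hf
    obtain ⟨k, hk⟩ := hx f hf
    have h1 : (1 : Localization.Away f) ⊗ₜ[R] (f ^ n f • x - a f) = 0 :=
      (IsLocalizedModule.eq_zero_iff (Submonoid.powers f)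
        (TensorProduct.mk R (Localization.Away f) A 1) (m := f ^ n f • x - a f)).mpr
        ⟨⟨f ^ k, k, rfl⟩, hk⟩
    rw [TensorProduct.tmul_sub, sub_eq_zero, TensorProduct.tmul_smul, ← hna f] at h1
    exact IsLocalizedModule.smul_injective (TensorProduct.mk R (Localization.Away f) A 1)
      (⟨f ^ n f, n f, rfl⟩ : Submonoid.powers f) h1
  refine ⟨x, ⟨?_, ?_⟩, ?_⟩
  · -- counit
    apply Module.eq_of_isLocalized_span (t : Set R) ht (fun r => Localization.Away r.1)
      (fun r => Algebra.linearMap R (Localization.Away r.1))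
    intro r
    have hr : r.1 ∈ t := Finset.mem_coe.mp r.2
    have h1 := (hg r.1 hr).1
    rw [← hxg r.1 hr] at h1
    have h2 := (gl_descend (Localization.Away r.1) h1).1
    rw [Algebra.linearMap_apply, Algebra.linearMap_apply, map_one]
    exact h2
  · -- comul
    have h0 : comul (R := R) x - x ⊗ₜ[R] x = 0 := by
      apply Module.eq_zero_of_isLocalized_span (t : Set R) ht
        (fun r => Localization.Away r.1 ⊗[R] (A ⊗[R] A))
        (fun r => TensorProduct.mk R (Localization.Away r.1) (A ⊗[R] A) 1)
      intro r
      have hr : r.1 ∈ t := Finset.mem_coe.mp r.2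
      have h1 := (hg r.1 hr).1
      rw [← hxg r.1 hr] at h1
      exact (gl_descend (Localization.Away r.1) h1).2
    exact sub_eq_zero.mp h0
  · -- congruence
    have h0 : Submodule.mkQ (I • (⊤ : Submodule R A)) (x - y) = 0 := by
      apply Module.eq_zero_of_isLocalized_span (t : Set R) ht
        (fun r => Localization.Away r.1 ⊗[R] (A ⧸ (I • (⊤ : Submodule R A))))
        (fun r => TensorProduct.mk R (Localization.Away r.1) (A ⧸ (I • (⊤ : Submodule R A))) 1)
      intro r
      have hr : r.1 ∈ t := Finset.mem_coe.mp r.2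
      have h1 := (hg r.1 hr).2
      rw [← hxg r.1 hr, ← TensorProduct.tmul_sub] at h1
      exact one_tmul_mkQ_eq_zero (S' := Localization.Away r.1) I h1
    rwa [Submodule.mkQ_apply, Submodule.Quotient.mk_eq_zero] at h0

end Zariski

end Groth.Agent.Lib.DiagNilH4
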