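import Mathlib
import Groth.Prelude.Def_SGA3b
import Groth.Agent.Lib.DiagNil5_helper4
import Groth.Agent.Lib.DiagSub_helper1

/-!
# Lifting group-like elements modulo a nil ideal, VI: diagonalisable modulo a nil ideal (helper4)
APPEND-ONLY once landed.
-/

set_option backward.isDefEq.respectTransparency.types false
set_option autoImplicit false
set_option linter.unusedVariables false
set_option linter.unusedTactic false
set_option linter.unreachableTactic false
set_option linter.unusedSectionVars false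
set_option linter.style.haveILetI false
set_option linter.deprecated false
set_option linter.unusedSimpArgs false
set_option linter.style.longLine false
set_option maxHeartbeats 3200000

universe u

open TensorProduct Coalgebra

noncomputable section

namespace Groth.Agent.Lib.DiagNilH4

open Groth.Agent.Lib.MultQuotH1

section SpanLemmas

variable {S : Type u} [CommRing S] {T : Type u} [CommRing T] [Algebra S T]
  {Y : Type u} [AddCommGroup Y] [Module S Y] {κ : Type u}

theorem one_tmul_mkQ_span (G : κ → Y)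
    (h : Submodule.span T (Set.range fun i => (1 : T) ⊗ₜ[S] G i) = ⊤) (b : Y) :
    (1 : T) ⊗ₜ[S] (Submodule.mkQ (Submodule.span S (Set.range G)) b) = 0 := by
  have hk : (⊤ : Submodule T (T ⊗[S] Y)) ≤
      LinearMap.ker ((Submodule.mkQ (Submodule.span S (Set.range G))).baseChange T) := by
    rw [← h, Submodule.span_le]
    rintro _ ⟨i, rfl⟩
    rw [SetLike.mem_coe, LinearMap.mem_ker, LinearMap.baseChange_tmul, Submodule.mkQ_apply,
      (Submodule.Quotient.mk_eq_zero _).mpr (Submodule.subset_span (Set.mem_range_self i)),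
      TensorProduct.tmul_zero]
  have h1 := hk (Submodule.mem_top : (1 : T) ⊗ₜ[S] b ∈ ⊤)
  rwa [LinearMap.mem_ker, LinearMap.baseChange_tmul] at h1

theorem span_top_of_ff [Module.FaithfullyFlat S T] (G : κ → Y)
    (h : Submodule.span T (Set.range fun i => (1 : T) ⊗ₜ[S] G i) = ⊤) :
    Submodule.span S (Set.range G) = ⊤ := by
  rw [eq_top_iff]
  intro b _
  have h1 := (Module.FaithfullyFlat.one_tmul_eq_zero_iff S _ _).mp (one_tmul_mkQ_span G h b)
  rwa [Submodule.mkQ_apply, Submodule.Quotient.mk_eq_zero] at h1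

theorem span_sup_baseChange (G : κ → Y) (J : Ideal S)
    (h : Submodule.span S (Set.range G) ⊔ J • (⊤ : Submodule S Y) = ⊤) :
    Submodule.span T (Set.range fun i => (1 : T) ⊗ₜ[S] G i) ⊔
      (J.map (algebraMap S T)) • (⊤ : Submodule T (T ⊗[S] Y)) = ⊤ := by
  have hle : Submodule.span S (Set.range G) ≤
      ((Submodule.span T (Set.range fun i => (1 : T) ⊗ₜ[S] G i)).restrictScalars S).comap
        (TensorProduct.mk S T Y 1) := by
    rw [Submodule.span_le]
    rintro _ ⟨i, rfl⟩
    show (1 : T) ⊗ₜ[S] G i ∈ Submodule.span T (Set.range fun i => (1 : T) ⊗ₜ[S] G i)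
    exact Submodule.subset_span ⟨i, rfl⟩
  have key : ∀ z : T ⊗[S] Y, z ∈ Submodule.span T (Set.range fun i => (1 : T) ⊗ₜ[S] G i) ⊔
      (J.map (algebraMap S T)) • (⊤ : Submodule T (T ⊗[S] Y)) := by
    intro z
    induction z using TensorProduct.induction_on with
    | zero => exact Submodule.zero_mem _
    | add a b ha hb => exact Submodule.add_mem _ ha hb
    | tmul s y =>
      have hy : y ∈ Submodule.span S (Set.range G) ⊔ J • (⊤ : Submodule S Y) := by
        rw [h]; trivial
      obtain ⟨p, hp, w, hw, rfl⟩ := Submodule.mem_sup.mp hy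
      have e : s ⊗ₜ[S] (p + w) = s • ((1 : T) ⊗ₜ[S] p) + s ⊗ₜ[S] w := by
        rw [TensorProduct.tmul_add, TensorProduct.smul_tmul', smul_eq_mul, mul_one]
      rw [e]
      have hp' : (1 : T) ⊗ₜ[S] p ∈
          Submodule.span T (Set.range fun i => (1 : T) ⊗ₜ[S] G i) := hle hp
      exact Submodule.add_mem _ (Submodule.mem_sup_left (Submodule.smul_mem _ _ hp'))
        (Submodule.mem_sup_right (tmul_mem (S' := T) J s hw))
  rw [eq_top_iff]
  intro z _
  exact key z

end SpanLemmas

section BasisSpan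

variable {T : Type u} [CommRing T] {C : Type u} [AddCommGroup C] [Module T C] [Coalgebra T C]
  {ι : Type u} [DecidableEq ι] (b : Module.Basis ι T C) (hb : ∀ i, IsGroupLikeElem T (b i))
include hb

theorem repr_mul {g : C} (hg : IsGroupLikeElem T g) (i j : ι) :
    b.repr g i * b.repr g j = if i = j then b.repr g i else 0 := by
  have h := lam_comul b hb i j g
  rw [hg.comul_eq_tmul_self, lam_tmul] at h
  exact h

theorem repr_smul_eq {g : C} (hg : IsGroupLikeElem T g) (n : ι) :
    b.repr g n • g = b.repr g n • b n := by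
  apply b.ext_elem
  intro k
  rw [map_smul, map_smul, Finsupp.smul_apply, Finsupp.smul_apply, smul_eq_mul, smul_eq_mul,
    b.repr_self, Finsupp.single_apply, repr_mul b hb hg n k]
  split_ifs <;> simp

theorem span_top_basis (K : Ideal T) (hK : ∀ x ∈ K, IsNilpotent x) {κ : Type u} (γ : κ → C)
    (hγ : ∀ m, IsGroupLikeElem T (γ m))
    (h : Submodule.span T (Set.range γ) ⊔ K • (⊤ : Submodule T C) = ⊤) :
    Submodule.span T (Set.range γ) = ⊤ := by
  rw [eq_top_iff, ← b.span_eq, Submodule.span_le]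
  rintro _ ⟨n, rfl⟩
  rw [SetLike.mem_coe]
  -- the ideal of scalars `r` with `r • b n ∈ P`
  let Jn : Ideal T := (Submodule.span T (Set.range γ)).comap (LinearMap.toSpanSingleton T C (b n))
  have hJ : ∀ r : T, r ∈ Jn ↔ r • b n ∈ Submodule.span T (Set.range γ) := fun r => by
    rw [Submodule.mem_comap, LinearMap.toSpanSingleton_apply]
  have hcoord : Submodule.span T (Set.range γ) ≤ Submodule.comap (b.coord n) Jn := by
    rw [Submodule.span_le]
    rintro _ ⟨m, rfl⟩
    rw [SetLike.mem_coe, Submodule.mem_comap, hJ, Module.Basis.coord_apply,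
      ← repr_smul_eq b hb (hγ m) n]
    exact Submodule.smul_mem _ _ (Submodule.subset_span ⟨m, rfl⟩)
  have hbn : b n ∈ Submodule.span T (Set.range γ) ⊔ K • (⊤ : Submodule T C) := by
    rw [h]; trivial
  obtain ⟨p, hp, w, hw, hpw⟩ := Submodule.mem_sup.mp hbn
  have h1 : b.coord n p ∈ Jn := hcoord hp
  have h2 : b.coord n w ∈ K := functional_mem K (b.coord n) hw
  have h3 : b.coord n p = 1 - b.coord n w := by
    have e := congrArg (b.coord n) hpw
    rw [map_add] at e
    have e2 : b.coord n (b n) = 1 := by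
      rw [Module.Basis.coord_apply, b.repr_self, Finsupp.single_eq_same]
    rw [e2] at e
    exact eq_sub_of_add_eq e
  have hu : IsUnit (b.coord n p) := by
    rw [h3]
    exact (hK _ h2).isUnit_one_sub
  have h4 : (1 : T) ∈ Jn := by
    rw [← Ideal.eq_top_iff_one]
    exact Ideal.eq_top_of_isUnit_mem _ h1 hu
  have h5 := (hJ 1).mp h4
  rwa [one_smul] at h5

end BasisSpan

section Quot

variable {R : Type u} [CommRing R]

theorem mem_of_one_tmul_eq_zero (I : Ideal R) {X : Type u} [AddCommGroup X] [Module R X] {w : X}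
    (h : (1 : R ⧸ I) ⊗ₜ[R] w = 0) : w ∈ I • (⊤ : Submodule R X) := by
  have h1 := congrArg (TensorProduct.quotTensorEquivQuotSMul X I) h
  rw [TensorProduct.quotTensorEquivQuotSMul_mk_one_tmul, map_zero] at h1
  exact (Submodule.Quotient.mk_eq_zero _).mp h1

theorem one_tmul_eq_zero_of_mem (I : Ideal R) {X : Type u} [AddCommGroup X] [Module R X] {w : X}
    (h : w ∈ I • (⊤ : Submodule R X)) : (1 : R ⧸ I) ⊗ₜ[R] w = 0 := by
  have h1 : TensorProduct.quotTensorEquivQuotSMul X I ((1 : R ⧸ I) ⊗ₜ[R] w) = 0 := by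
    rw [TensorProduct.quotTensorEquivQuotSMul_mk_one_tmul]
    exact (Submodule.Quotient.mk_eq_zero _).mpr h
  exact (LinearEquiv.map_eq_zero_iff _).mp h1

theorem exists_one_tmul_eq (I : Ideal R) {X : Type u} [AddCommGroup X] [Module R X]
    (z : (R ⧸ I) ⊗[R] X) : ∃ x : X, (1 : R ⧸ I) ⊗ₜ[R] x = z := by
  obtain ⟨x, hx⟩ := Submodule.Quotient.mk_surjective _
    (TensorProduct.quotTensorEquivQuotSMul X I z)
  refine ⟨x, ?_⟩
  apply (TensorProduct.quotTensorEquivQuotSMul X I).injective
  rw [TensorProduct.quotTensorEquivQuotSMul_mk_one_tmul, hx]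

theorem eq_bot_of_fg_idem_nil {S : Type u} [CommRing S] (I₀ J : Ideal S) (hfg : I₀.FG)
    (hid : I₀ * I₀ = I₀) (hle : I₀ ≤ J) (hJ : ∀ x ∈ J, IsNilpotent x) : I₀ = ⊥ := by
  obtain ⟨e, he, rfl⟩ := (Ideal.isIdempotentElem_iff_of_fg I₀ hfg).mp hid
  have he0 : e = 0 := by
    apply eq_of_isNilpotent_sub_of_isIdempotentElem he IsIdempotentElem.zero
    rw [sub_zero]
    exact hJ e (hle (Ideal.mem_span_singleton_self e))
  rw [he0]
  simp

end Quot

section Main

open SGA3b DiagSubH1

theorem const_li_sp {S : Type u} [CommRing S] {B : Type u} [CommRing B] [HopfAlgebra S B]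
    (hB : IsMultTypeConst S B) (J : Ideal S) (hJ : ∀ x ∈ J, IsNilpotent x)
    {κ : Type u} (G : κ → B) (hG : ∀ i, IsGroupLikeElem S (G i))
    (hann : ∀ i j, i ≠ j → annEq S (G i) (G j) ≤ J)
    (hsp : Submodule.span S (Set.range G) ⊔ J • (⊤ : Submodule S B) = ⊤) :
    (∀ (t : Finset κ) (a : κ → S), ∑ i ∈ t, a i • G i = 0 → ∀ j ∈ t, a j = 0) ∧
      Submodule.span S (Set.range G) = ⊤ := by
  have hann' : ∀ i j, i ≠ j → annEq S (G i) (G j) = ⊥ := fun i j hij => by
    obtain ⟨hfg, hid⟩ := const_fg_idem hB (hG i) (hG j)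
    exact eq_bot_of_fg_idem_nil _ J hfg hid (hann i j hij) hJ
  obtain ⟨S', _, _, hff, N, _, ⟨θ⟩⟩ := hB
  haveI := hff
  constructor
  · intro t a hrel j hj
    exact const_indep θ G hG hann' t a hrel j hj
  · classical
    apply span_top_of_ff (T := S') G
    obtain ⟨ι, b, hb⟩ := glb_of_equiv θ
    exact span_top_basis b hb (J.map (algebraMap S S')) (nil_map _ J hJ) _
      (fun m => groupLike_base S' (hG m)) (span_sup_baseChange G J hsp)

variable {R : Type u} [CommRing R] {A : Type u} [CommRing A] [HopfAlgebra R A]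

theorem global_li_sp (I : Ideal R) (hI : ∀ x ∈ I, IsNilpotent x) (t : Finset R)
    (ht : Ideal.span (t : Set R) = ⊤)
    (hloc : ∀ f ∈ t, IsMultTypeConst (Localization.Away f) (Localization.Away f ⊗[R] A))
    {κ : Type u} (g : κ → A) (hg : ∀ i, IsGroupLikeElem R (g i))
    (hann : ∀ i j, i ≠ j → annEq R (g i) (g j) ≤ I)
    (hsp : Submodule.span R (Set.range g) ⊔ I • (⊤ : Submodule R A) = ⊤) :
    (∀ (s : Finset κ) (a : κ → R), ∑ i ∈ s, a i • g i = 0 → ∀ j ∈ s, a j = 0) ∧
      Submodule.span R (Set.range g) = ⊤ := by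
  have hlocal : ∀ f ∈ t, (∀ (s : Finset κ) (a : κ → Localization.Away f),
      ∑ i ∈ s, a i • ((1 : Localization.Away f) ⊗ₜ[R] g i) = 0 → ∀ j ∈ s, a j = 0) ∧
      Submodule.span (Localization.Away f)
        (Set.range fun i => (1 : Localization.Away f) ⊗ₜ[R] g i) = ⊤ := by
    intro f hf
    apply const_li_sp (hloc f hf) (I.map (algebraMap R (Localization.Away f))) (nil_map _ I hI) _
      (fun i => groupLike_base _ (hg i))
    · intro i j hij
      rw [← annEq_baseChange]
      exact Ideal.map_mono (hann i j hij)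
    · exact span_sup_baseChange g I hsp
  constructor
  · intro s a hrel j hj
    apply Module.eq_zero_of_isLocalized_span (t : Set R) ht (fun r => Localization.Away r.1)
      (fun r => Algebra.linearMap R (Localization.Away r.1))
    intro r
    have hr : r.1 ∈ t := Finset.mem_coe.mp r.2
    rw [Algebra.linearMap_apply]
    apply (hlocal r.1 hr).1 s (fun i => algebraMap R (Localization.Away r.1) (a i)) _ j hj
    have e : ∑ i ∈ s, algebraMap R (Localization.Away r.1) (a i) •
        ((1 : Localization.Away r.1) ⊗ₜ[R] g i) =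
        (1 : Localization.Away r.1) ⊗ₜ[R] (∑ i ∈ s, a i • g i) := by
      rw [TensorProduct.tmul_sum]
      apply Finset.sum_congr rfl
      intro i _
      rw [algebraMap_smul, TensorProduct.tmul_smul]
    rw [e, hrel, TensorProduct.tmul_zero]
  · rw [eq_top_iff]
    intro b _
    have h0 : Submodule.mkQ (Submodule.span R (Set.range g)) b = 0 := by
      apply Module.eq_zero_of_isLocalized_span (t : Set R) ht
        (fun r => Localization.Away r.1 ⊗[R] (A ⧸ Submodule.span R (Set.range g)))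
        (fun r => TensorProduct.mk R (Localization.Away r.1)
          (A ⧸ Submodule.span R (Set.range g)) 1)
      intro r
      exact one_tmul_mkQ_span g (hlocal r.1 (Finset.mem_coe.mp r.2)).2 b
    rwa [Submodule.mkQ_apply, Submodule.Quotient.mk_eq_zero] at h0

theorem main2970 (R : Type u) [CommRing R] (A : Type u) [CommRing A] [HopfAlgebra R A]
    (I : Ideal R) (hI : ∀ x ∈ I, IsNilpotent x) (h : IsMultType R A)
    (h0 : IsDiag (R ⧸ I) ((R ⧸ I) ⊗[R] A)) : IsDiag R A := by
  classical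
  obtain ⟨s, hs, hloc0⟩ := h
  obtain ⟨t, hts, ht⟩ := (Ideal.span_eq_top_iff_finite s).mp hs
  have hloc : ∀ f ∈ t, IsMultTypeConst (Localization.Away f) (Localization.Away f ⊗[R] A) :=
    fun f hf => hloc0 f (hts (Finset.mem_coe.mpr hf))
  obtain ⟨M, _, ⟨e₀⟩⟩ := h0
  -- lifts of the basis elements
  have hlift : ∀ m : M, ∃ g : A, IsGroupLikeElem R g ∧
      (1 : R ⧸ I) ⊗ₜ[R] g = e₀.symm (MonoidAlgebra.single m (1 : R ⧸ I)) := by
    intro m
    obtain ⟨a, ha⟩ := exists_one_tmul_eq I (e₀.symm (MonoidAlgebra.single m (1 : R ⧸ I)))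
    have hgl : IsGroupLikeElem (R ⧸ I) ((1 : R ⧸ I) ⊗ₜ[R] a) := by
      rw [ha]
      exact (isGroupLikeElem_map_equiv e₀.symm).mpr
        (MonoidAlgebra.isGroupLikeElem_single_one (R := R ⧸ I) (A := R ⧸ I) m)
    obtain ⟨hc, hm⟩ := gl_descend (R ⧸ I) hgl
    have hglm : GLm I a := by
      constructor
      · have h1 : Ideal.Quotient.mk I (counit (R := R) a - 1) = 0 := by
          rw [map_sub, map_one, sub_eq_zero]
          exact hc
        exact Ideal.Quotient.eq_zero_iff_mem.mp h1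
      · exact mem_of_one_tmul_eq_zero I hm
    obtain ⟨g, hg, hd⟩ := global_pp I hI t ht hloc hglm
    refine ⟨g, hg, ?_⟩
    rw [← ha]
    have h2 := one_tmul_eq_zero_of_mem I hd
    rw [TensorProduct.tmul_sub, sub_eq_zero] at h2
    exact h2
  choose γ hγ hγ1 using hlift
  have huu : ∀ {g g' : A}, IsGroupLikeElem R g → IsGroupLikeElem R g' →
      (1 : R ⧸ I) ⊗ₜ[R] g = (1 : R ⧸ I) ⊗ₜ[R] g' → g = g' := by
    intro g g' hg hg' he
    apply global_uu I hI t ht hloc hg hg'
    apply mem_of_one_tmul_eq_zero I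
    rw [TensorProduct.tmul_sub, he, sub_self]
  have hγone : γ 1 = 1 := by
    apply huu (hγ 1) (IsGroupLikeElem.one (R := R))
    rw [hγ1, ← MonoidAlgebra.one_def, map_one]
    rfl
  have hγmul : ∀ m n, γ (m * n) = γ m * γ n := by
    intro m n
    apply huu (hγ _) ((hγ m).mul (hγ n))
    have e1 : (1 : R ⧸ I) ⊗ₜ[R] (γ m * γ n) =
        ((1 : R ⧸ I) ⊗ₜ[R] γ m) * ((1 : R ⧸ I) ⊗ₜ[R] γ n) := by
      rw [Algebra.TensorProduct.tmul_mul_tmul, mul_one]
    rw [e1, hγ1, hγ1, hγ1, ← map_mul, MonoidAlgebra.single_mul_single, mul_one]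
  let γh : M →* GroupLike R A :=
    { toFun := fun m => ⟨γ m, hγ m⟩
      map_one' := GroupLike.val_injective hγone
      map_mul' := fun m n => GroupLike.val_injective (hγmul m n) }
  let Φ : MonoidAlgebra R M →ₐc[R] A :=
    (MonoidAlgebra.liftGroupLikeBialgHom (R := R) (A := A)).comp
      (MonoidAlgebra.mapDomainBialgHom R γh)
  have hΦ : ∀ (m : M) (r : R), Φ (MonoidAlgebra.single m r) = r • γ m := by
    intro m r
    show MonoidAlgebra.liftGroupLikeBialgHom (R := R) (A := A)
      (MonoidAlgebra.mapDomainBialgHom R γh (MonoidAlgebra.single m r)) = _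
    rw [MonoidAlgebra.mapDomainBialgHom_single]
    simp [MonoidAlgebra.liftGroupLikeBialgHom, γh]
  -- annihilators
  have hann : ∀ i j : M, i ≠ j → annEq R (γ i) (γ j) ≤ I := by
    intro i j hij r hr
    rw [mem_annEq] at hr
    have h1 : (1 : R ⧸ I) ⊗ₜ[R] (r • γ i) = (1 : R ⧸ I) ⊗ₜ[R] (r • γ j) := by rw [hr]
    rw [TensorProduct.tmul_smul, TensorProduct.tmul_smul, hγ1, hγ1,
      ← algebraMap_smul (R ⧸ I) r (e₀.symm (MonoidAlgebra.single i (1 : R ⧸ I))),
      ← algebraMap_smul (R ⧸ I) r (e₀.symm (MonoidAlgebra.single j (1 : R ⧸ I))),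
      ← map_smul, ← map_smul, MonoidAlgebra.smul_single, MonoidAlgebra.smul_single,
      smul_eq_mul, mul_one] at h1
    have h2 := e₀.symm.injective h1
    have h3 := congrArg (fun z : MonoidAlgebra (R ⧸ I) M => z.coeff i) h2
    simp only [MonoidAlgebra.coeff_single, Finsupp.single_apply, if_true,
      if_neg (Ne.symm hij)] at h3
    exact Ideal.Quotient.eq_zero_iff_mem.mp h3
  -- spanning modulo `I`
  have hsp : Submodule.span R (Set.range γ) ⊔ I • (⊤ : Submodule R A) = ⊤ := by
    rw [eq_top_iff]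
    intro a _
    obtain ⟨r, hr⟩ : ∃ r : R ⧸ I → R, ∀ q, Ideal.Quotient.mk I (r q) = q :=
      ⟨fun q => (Ideal.Quotient.mk_surjective q).choose,
        fun q => (Ideal.Quotient.mk_surjective q).choose_spec⟩
    have h1 : (1 : R ⧸ I) ⊗ₜ[R]
        (∑ m ∈ (e₀ ((1 : R ⧸ I) ⊗ₜ[R] a)).coeff.support,
          r ((e₀ ((1 : R ⧸ I) ⊗ₜ[R] a)).coeff m) • γ m) = (1 : R ⧸ I) ⊗ₜ[R] a := by
      apply EquivLike.injective e₀
      rw [TensorProduct.tmul_sum, map_sum]
      conv_rhs => rw [← MonoidAlgebra.sum_coeff_single (e₀ ((1 : R ⧸ I) ⊗ₜ[R] a))]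
      rw [Finsupp.sum]
      apply Finset.sum_congr rfl
      intro m _
      rw [TensorProduct.tmul_smul,
        ← algebraMap_smul (R ⧸ I) (r ((e₀ ((1 : R ⧸ I) ⊗ₜ[R] a)).coeff m))
          ((1 : R ⧸ I) ⊗ₜ[R] γ m),
        map_smul, hγ1, BialgEquiv.apply_symm_apply, Ideal.Quotient.algebraMap_eq, hr,
        MonoidAlgebra.smul_single, smul_eq_mul, mul_one]
    have h2 : a - ∑ m ∈ (e₀ ((1 : R ⧸ I) ⊗ₜ[R] a)).coeff.support,
          r ((e₀ ((1 : R ⧸ I) ⊗ₜ[R] a)).coeff m) • γ m ∈ I • (⊤ : Submodule R A) := by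
      apply mem_of_one_tmul_eq_zero I
      rw [TensorProduct.tmul_sub, h1, sub_self]
    have h3 := Submodule.add_mem _
      (Submodule.mem_sup_left (T := I • (⊤ : Submodule R A))
        (Submodule.sum_mem (Submodule.span R (Set.range γ)) fun m
          (_ : m ∈ (e₀ ((1 : R ⧸ I) ⊗ₜ[R] a)).coeff.support) =>
          Submodule.smul_mem _ (r ((e₀ ((1 : R ⧸ I) ⊗ₜ[R] a)).coeff m))
            (Submodule.subset_span ⟨m, rfl⟩)))
      (Submodule.mem_sup_right (S := Submodule.span R (Set.range γ)) h2)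
    rwa [add_sub_cancel] at h3
  obtain ⟨hLI, hSP⟩ := global_li_sp I hI t ht hloc γ hγ hann hsp
  have hinj : Function.Injective Φ := by
    rw [injective_iff_map_eq_zero]
    intro a ha
    have h1 : ∑ m ∈ a.coeff.support, a.coeff m • γ m = 0 := by
      rw [← ha]
      conv_rhs => rw [← MonoidAlgebra.sum_coeff_single a]
      rw [Finsupp.sum, map_sum]
      exact Finset.sum_congr rfl (fun m _ => (hΦ m _).symm)
    apply MonoidAlgebra.coeff_injective
    ext m
    by_cases hm : m ∈ a.coeff.support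
    · rw [hLI _ _ h1 m hm]
      rfl
    · rw [Finsupp.notMem_support_iff.mp hm]
      rfl
  have hsurj : Function.Surjective Φ := by
    have hr : (⊤ : Submodule R A) ≤ LinearMap.range (Φ.toCoalgHom.toLinearMap) := by
      rw [← hSP, Submodule.span_le]
      rintro _ ⟨m, rfl⟩
      refine ⟨MonoidAlgebra.single m 1, ?_⟩
      have := hΦ m 1
      rw [one_smul] at this
      exact this
    intro x
    obtain ⟨y, hy⟩ := hr (Submodule.mem_top : x ∈ ⊤)
    exact ⟨y, hy⟩
  exact ⟨M, inferInstance, ⟨(BialgEquiv.ofBijective Φ ⟨hinj, hsurj⟩).symm⟩⟩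

end Main

end Groth.Agent.Lib.DiagNilH4
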