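import Mathlib
import Groth.Prelude.Def_SGA3b
import Groth.Agent.Lib.DiagNil6_helper4

/-!
# Base change of diagonalisable / multiplicative type Hopf algebras (helper4)
APPEND-ONLY once landed.
-/

set_option backward.isDefEq.respectTransparency.types false
set_option autoImplicit false
set_option linter.unusedVariables false
set_option linter.unusedTactic false
set_option linter.unreachableTactic false
set_option linter.unusedSectionVars false
set_option linter.style.haveILetI false
set_option linter.deprecated false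
set_option linter.unusedSimpArgs false
set_option linter.style.longLine false
set_option maxHeartbeats 3200000

universe u

open TensorProduct Coalgebra

noncomputable section

namespace Groth.Agent.Lib.DiagBCH4

open Groth.Agent.Lib.DiagNilH4 SGA3b

section KapB

variable {R : Type u} [CommRing R] {A : Type u} [CommRing A] [HopfAlgebra R A]
  {S : Type u} [CommRing S] [Algebra R S] {T : Type u} [CommRing T] [Algebra R T] [Algebra S T]
  [IsScalarTower R S T]

theorem algMap_eq (l : T ⊗[S] (S ⊗[R] A) ≃ₐ[T] T ⊗[R] A)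
    (w : (T ⊗[S] (S ⊗[R] A)) ⊗[T] (T ⊗[S] (S ⊗[R] A))) :
    Algebra.TensorProduct.map (l : T ⊗[S] (S ⊗[R] A) →ₐ[T] T ⊗[R] A)
      (l : T ⊗[S] (S ⊗[R] A) →ₐ[T] T ⊗[R] A) w =
    TensorProduct.map (l.toLinearEquiv : T ⊗[S] (S ⊗[R] A) →ₗ[T] T ⊗[R] A)
      (l.toLinearEquiv : T ⊗[S] (S ⊗[R] A) →ₗ[T] T ⊗[R] A) w := by
  induction w using TensorProduct.induction_on with
  | zero => rw [map_zero, map_zero]
  | add x y hx hy => rw [map_add, map_add, hx, hy]
  | tmul a b => rfl

variable (R A S T) in
/-- `T ⊗[S] (S ⊗[R] A) ≃ T ⊗[R] A` as bialgebras over `T`. -/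
def kapB : T ⊗[S] (S ⊗[R] A) ≃ₐc[T] T ⊗[R] A :=
  BialgEquiv.ofAlgEquiv (Algebra.TensorProduct.cancelBaseChange R S T T A)
    (by
      apply AlgHom.ext
      intro z
      exact counit_kap z)
    (by
      apply AlgHom.ext
      intro z
      have h := comul_kap (R := R) (A := A) (S := S) (T := T) z
      rw [AlgHom.comp_apply, AlgHom.comp_apply, algMap_eq]
      exact h.symm)

theorem isDiag_tower :
    IsDiag T (T ⊗[S] (S ⊗[R] A)) ↔ IsDiag T (T ⊗[R] A) := by
  constructor
  · rintro ⟨M, _, ⟨e⟩⟩
    exact ⟨M, inferInstance, ⟨(kapB R A S T).symm.trans e⟩⟩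
  · rintro ⟨M, _, ⟨e⟩⟩
    exact ⟨M, inferInstance, ⟨(kapB R A S T).trans e⟩⟩

end KapB

section LiSp

variable {S : Type u} [CommRing S] {B : Type u} [CommRing B] [HopfAlgebra S B]

theorem isDiag_of_li_sp {M : Type u} [CommGroup M] (γ : M → B)
    (hγ : ∀ m, IsGroupLikeElem S (γ m))
    (hone : γ 1 = 1) (hmul : ∀ m n, γ (m * n) = γ m * γ n)
    (hLI : ∀ (s : Finset M) (a : M → S), ∑ i ∈ s, a i • γ i = 0 → ∀ j ∈ s, a j = 0)
    (hSP : Submodule.span S (Set.range γ) = ⊤) : IsDiag S B := by
  classical
  let γh : M →* GroupLike S B :=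
    { toFun := fun m => ⟨γ m, hγ m⟩
      map_one' := GroupLike.val_injective hone
      map_mul' := fun m n => GroupLike.val_injective (hmul m n) }
  let Φ : MonoidAlgebra S M →ₐc[S] B :=
    (MonoidAlgebra.liftGroupLikeBialgHom (R := S) (A := B)).comp
      (MonoidAlgebra.mapDomainBialgHom S γh)
  have hΦ : ∀ (m : M) (r : S), Φ (MonoidAlgebra.single m r) = r • γ m := by
    intro m r
    show MonoidAlgebra.liftGroupLikeBialgHom (R := S) (A := B)
      (MonoidAlgebra.mapDomainBialgHom S γh (MonoidAlgebra.single m r)) = _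
    rw [MonoidAlgebra.mapDomainBialgHom_single]
    simp [MonoidAlgebra.liftGroupLikeBialgHom, γh]
  have hinj : Function.Injective Φ := by
    rw [injective_iff_map_eq_zero]
    intro a ha
    have h1 : ∑ m ∈ a.coeff.support, a.coeff m • γ m = 0 := by
      rw [← ha]
      conv_rhs => rw [← MonoidAlgebra.sum_coeff_single a]
      rw [Finsupp.sum, map_sum]
      exact Finset.sum_congr rfl (fun m _ => (hΦ m _).symm)
    apply MonoidAlgebra.coeff_injective
    ext m
    by_cases hm : m ∈ a.coeff.support
    · rw [hLI _ _ h1 m hm]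
      rfl
    · rw [Finsupp.notMem_support_iff.mp hm]
      rfl
  have hsurj : Function.Surjective Φ := by
    have hr : (⊤ : Submodule S B) ≤ LinearMap.range (Φ.toCoalgHom.toLinearMap) := by
      rw [← hSP, Submodule.span_le]
      rintro _ ⟨m, rfl⟩
      refine ⟨MonoidAlgebra.single m 1, ?_⟩
      have := hΦ m 1
      rw [one_smul] at this
      exact this
    intro x
    obtain ⟨y, hy⟩ := hr (Submodule.mem_top : x ∈ ⊤)
    exact ⟨y, hy⟩
  exact ⟨M, inferInstance, ⟨(BialgEquiv.ofBijective Φ ⟨hinj, hsurj⟩).symm⟩⟩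

theorem isDiag_baseChange (h : IsDiag S B) (T : Type u) [CommRing T] [Algebra S T] :
    IsDiag T (T ⊗[S] B) := by
  classical
  obtain ⟨M, _, ⟨e⟩⟩ := h
  let bB : Module.Basis M S B :=
    (MonoidAlgebra.basis M S).map e.symm.toAlgEquiv.toLinearEquiv
  let bT : Module.Basis M T (T ⊗[S] B) := Algebra.TensorProduct.basis T bB
  have hbB : ∀ m, bB m = e.symm (MonoidAlgebra.single m 1) := fun m => by
    rw [Module.Basis.map_apply, MonoidAlgebra.basis_apply]
    rfl
  have hbT : ∀ m, bT m = (1 : T) ⊗ₜ[S] e.symm (MonoidAlgebra.single m 1) := fun m => by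
    rw [Algebra.TensorProduct.basis_apply, hbB]
  refine isDiag_of_li_sp (fun m => (1 : T) ⊗ₜ[S] e.symm (MonoidAlgebra.single m 1)) ?_ ?_ ?_ ?_ ?_
  · intro m
    exact groupLike_base T ((isGroupLikeElem_map_equiv e.symm).mpr
      (MonoidAlgebra.isGroupLikeElem_single_one (R := S) (A := S) m))
  · show (1 : T) ⊗ₜ[S] e.symm (MonoidAlgebra.single 1 1) = 1
    rw [← MonoidAlgebra.one_def, map_one]
    rfl
  · intro m n
    show (1 : T) ⊗ₜ[S] e.symm (MonoidAlgebra.single (m * n) 1) =
      ((1 : T) ⊗ₜ[S] e.symm (MonoidAlgebra.single m 1)) *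
        ((1 : T) ⊗ₜ[S] e.symm (MonoidAlgebra.single n 1))
    rw [Algebra.TensorProduct.tmul_mul_tmul, mul_one, ← map_mul,
      MonoidAlgebra.single_mul_single, mul_one]
  · intro s a hrel j hj
    have hli := bT.linearIndependent
    rw [linearIndependent_iff'] at hli
    refine hli s a ?_ j hj
    rw [← hrel]
    exact Finset.sum_congr rfl (fun i _ => by rw [hbT])
  · have hfun : (fun m => (1 : T) ⊗ₜ[S] e.symm (MonoidAlgebra.single m 1)) = bT :=
      funext (fun m => (hbT m).symm)
    rw [hfun, bT.span_eq]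

end LiSp

section BC

variable {R : Type u} [CommRing R] {A : Type u} [CommRing A] [HopfAlgebra R A]

theorem isDiag_of_algHom {T T' : Type u} [CommRing T] [CommRing T'] [Algebra R T] [Algebra R T']
    (ψ : T →ₐ[R] T') (h : IsDiag T (T ⊗[R] A)) : IsDiag T' (T' ⊗[R] A) := by
  letI : Algebra T T' := ψ.toRingHom.toAlgebra
  haveI : IsScalarTower R T T' := IsScalarTower.of_algebraMap_eq (fun r => (ψ.commutes r).symm)
  exact (isDiag_tower (R := R) (A := A) (S := T) (T := T')).mp (isDiag_baseChange h T')

theorem multTypeConst_bc (f : R) (R' : Type u) [CommRing R'] [Algebra (Localization.Away f) R']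
    [Module.FaithfullyFlat (Localization.Away f) R']
    (hd : IsDiag R' (R' ⊗[Localization.Away f] (Localization.Away f ⊗[R] A)))
    (T : Type u) [CommRing T] [Algebra R T] :
    IsMultTypeConst (Localization.Away (algebraMap R T f))
      (Localization.Away (algebraMap R T f) ⊗[T] (T ⊗[R] A)) := by
  letI : Algebra R R' :=
    ((algebraMap (Localization.Away f) R').comp (algebraMap R (Localization.Away f))).toAlgebra
  haveI : IsScalarTower R (Localization.Away f) R' := IsScalarTower.of_algebraMap_eq' rfl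
  have hu : IsUnit (algebraMap R (Localization.Away (algebraMap R T f)) f) := by
    rw [IsScalarTower.algebraMap_apply R T (Localization.Away (algebraMap R T f))]
    exact IsLocalization.Away.algebraMap_isUnit (algebraMap R T f)
  letI : Algebra (Localization.Away f) (Localization.Away (algebraMap R T f)) :=
    (IsLocalization.Away.lift f hu).toAlgebra
  haveI : IsScalarTower R (Localization.Away f) (Localization.Away (algebraMap R T f)) :=
    IsScalarTower.of_algebraMap_eq (fun r => (IsLocalization.Away.lift_eq f hu r).symm)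
  refine ⟨Localization.Away (algebraMap R T f) ⊗[Localization.Away f] R', inferInstance,
    inferInstance, inferInstance, ?_⟩
  have h1 : IsDiag R' (R' ⊗[R] A) :=
    (isDiag_tower (R := R) (A := A) (S := Localization.Away f) (T := R')).mp hd
  have h2 : IsDiag (Localization.Away (algebraMap R T f) ⊗[Localization.Away f] R')
      ((Localization.Away (algebraMap R T f) ⊗[Localization.Away f] R') ⊗[R] A) :=
    isDiag_of_algHom ((Algebra.TensorProduct.includeRight :
      R' →ₐ[Localization.Away f] Localization.Away (algebraMap R T f) ⊗[Localization.Away f] R').restrictScalars R) h1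
  have h3 : IsDiag (Localization.Away (algebraMap R T f) ⊗[Localization.Away f] R')
      ((Localization.Away (algebraMap R T f) ⊗[Localization.Away f] R') ⊗[T] (T ⊗[R] A)) :=
    (isDiag_tower (R := R) (A := A) (S := T)
      (T := Localization.Away (algebraMap R T f) ⊗[Localization.Away f] R')).mpr h2
  exact (isDiag_tower (R := T) (A := T ⊗[R] A) (S := Localization.Away (algebraMap R T f))
      (T := Localization.Away (algebraMap R T f) ⊗[Localization.Away f] R')).mpr h3

theorem isMultType_baseChange (h : IsMultType R A) (T : Type u) [CommRing T] [Algebra R T] :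
    IsMultType T (T ⊗[R] A) := by
  obtain ⟨s, hs, hloc⟩ := h
  refine ⟨algebraMap R T '' s, ?_, ?_⟩
  · rw [← Ideal.map_span, hs, Ideal.map_top]
  · rintro _ ⟨f, hf, rfl⟩
    obtain ⟨R', _, _, hff, hd⟩ := hloc f hf
    haveI := hff
    exact multTypeConst_bc f R' hd T

/-- the core transfer: diagonalisable after an `R`-algebra map from `T₀` to `T / I T` -/
theorem diag_of_lift (I : Ideal R) (hI : ∀ x ∈ I, IsNilpotent x) (h : IsMultType R A)
    (T₀ : Type u) [CommRing T₀] [Algebra R T₀] (hP : IsDiag T₀ (T₀ ⊗[R] A))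
    (T : Type u) [CommRing T] [Algebra R T]
    (ψ : T₀ →ₐ[R] T ⧸ I.map (algebraMap R T)) : IsDiag T (T ⊗[R] A) := by
  apply main2970 T (T ⊗[R] A) (I.map (algebraMap R T)) (nil_map _ I hI)
    (isMultType_baseChange h T)
  exact (isDiag_tower (R := R) (A := A) (S := T) (T := T ⧸ I.map (algebraMap R T))).mpr
    (isDiag_of_algHom ψ hP)

end BC

end Groth.Agent.Lib.DiagBCH4
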