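import Mathlib
import Groth.Prelude.Def_SGA3b
import Groth.Agent.Lib.DiagBC1_helper4
import Groth.Agent.Lib.EtLiftGlobal_lead

/-!
# Isotriviality modulo a nil ideal (helper4)
APPEND-ONLY once landed.
-/

set_option backward.isDefEq.respectTransparency.types false
set_option autoImplicit false
set_option linter.unusedVariables false
set_option linter.unusedTactic false
set_option linter.unreachableTactic false
set_option linter.unusedSectionVars false
set_option linter.style.haveILetI false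
set_option linter.deprecated false
set_option linter.unusedSimpArgs false
set_option linter.style.longLine false
set_option maxHeartbeats 3200000

universe u

open TensorProduct Coalgebra

noncomputable section

namespace Groth.Agent.Lib.DiagBCH4

open Groth.Agent.Lib.DiagNilH4 SGA3b

section Ring

variable {R : Type u} [CommRing R]

theorem span_preimage_eq_top (I : Ideal R) (hI : ∀ x ∈ I, IsNilpotent x) (sb : Set (R ⧸ I))
    (h : Ideal.span sb = ⊤) : Ideal.span {f : R | Ideal.Quotient.mk I f ∈ sb} = ⊤ := by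
  have hmap : (Ideal.span {f : R | Ideal.Quotient.mk I f ∈ sb}).map (Ideal.Quotient.mk I) = ⊤ := by
    rw [Ideal.map_span, ← h]
    congr 1
    ext x
    constructor
    · rintro ⟨f, hf, rfl⟩
      exact hf
    · intro hx
      obtain ⟨f, rfl⟩ := Ideal.Quotient.mk_surjective x
      exact ⟨f, hx, rfl⟩
  have h1 : (1 : R ⧸ I) ∈
      (Ideal.span {f : R | Ideal.Quotient.mk I f ∈ sb}).map (Ideal.Quotient.mk I) := by
    rw [hmap]; trivial
  obtain ⟨a, ha, ha1⟩ := (Ideal.mem_map_iff_of_surjective _ Ideal.Quotient.mk_surjective).mp h1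
  have h2 : a - 1 ∈ I := by
    rw [← Ideal.Quotient.eq_zero_iff_mem, map_sub, ha1, map_one, sub_self]
  have hu : IsUnit a := by
    have h3 := (hI _ h2).isUnit_add_one
    rwa [sub_add_cancel] at h3
  exact Ideal.eq_top_of_isUnit_mem _ ha hu

theorem isUnit_of_isUnit_mk {S : Type u} [CommRing S] (J : Ideal S)
    (hJ : ∀ x ∈ J, IsNilpotent x) (x : S) (h : IsUnit (Ideal.Quotient.mk J x)) : IsUnit x := by
  obtain ⟨y, hy⟩ := isUnit_iff_exists_inv.mp h
  obtain ⟨y', rfl⟩ := Ideal.Quotient.mk_surjective y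
  have h2 : x * y' - 1 ∈ J := by
    rw [← Ideal.Quotient.eq_zero_iff_mem, map_sub, map_mul, hy, map_one, sub_self]
  have hu : IsUnit (x * y') := by
    have h3 := (hJ _ h2).isUnit_add_one
    rwa [sub_add_cancel] at h3
  exact isUnit_of_mul_isUnit_left hu

theorem isIntegral_of_mk {S : Type u} [CommRing S] [Algebra R S] (J : Ideal S)
    (hJ : ∀ x ∈ J, IsNilpotent x) (x : S) (h : IsIntegral R (Ideal.Quotient.mk J x)) :
    IsIntegral R x := by
  obtain ⟨p, hp, hpx⟩ := h
  have h1 : Ideal.Quotient.mk J (Polynomial.eval₂ (algebraMap R S) x p) = 0 := by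
    rw [Polynomial.hom_eval₂]
    exact hpx
  obtain ⟨n, hn⟩ := hJ _ (Ideal.Quotient.eq_zero_iff_mem.mp h1)
  exact ⟨p ^ n, hp.pow n, by rw [Polynomial.eval₂_pow, hn]⟩

theorem finite_of_quot {S : Type u} [CommRing S] [Algebra R S] [Algebra.FiniteType R S]
    (J : Ideal S) (hJ : ∀ x ∈ J, IsNilpotent x) [Module.Finite R (S ⧸ J)] :
    Module.Finite R S := by
  haveI : Algebra.IsIntegral R S :=
    ⟨fun x => isIntegral_of_mk J hJ x (Algebra.IsIntegral.isIntegral _)⟩
  exact Algebra.IsIntegral.finite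

theorem map_ne_top_of_ff {Q₀ Rb R' : Type u} [CommRing Q₀] [CommRing Rb] [CommRing R']
    [Algebra R Q₀] [Algebra R Rb] [Algebra Q₀ Rb] [IsScalarTower R Q₀ Rb]
    [Module.FaithfullyFlat Q₀ Rb] [Algebra R R'] (χ : R' →ₐ[R] Rb) (p : Ideal R)
    (hp : p.map (algebraMap R Q₀) ≠ ⊤) : p.map (algebraMap R R') ≠ ⊤ := by
  intro htop
  obtain ⟨𝔪, h𝔪, hle⟩ := Ideal.exists_le_maximal _ hp
  have h1 : 𝔪.map (algebraMap Q₀ Rb) ≠ ⊤ := by
    intro h2
    apply Module.FaithfullyFlat.submodule_ne_top (R := Q₀) (M := Rb) h𝔪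
    rw [Ideal.smul_top_eq_map, h2]
    rfl
  apply h1
  rw [eq_top_iff]
  calc (⊤ : Ideal Rb) = (⊤ : Ideal R').map χ.toRingHom := (Ideal.map_top _).symm
    _ = (p.map (algebraMap R R')).map χ.toRingHom := by rw [htop]
    _ = p.map (algebraMap R Rb) := by
        rw [Ideal.map_map]
        congr 1
        ext r
        exact χ.commutes r
    _ = (p.map (algebraMap R Q₀)).map (algebraMap Q₀ Rb) := by
        rw [Ideal.map_map, ← IsScalarTower.algebraMap_eq]
    _ ≤ 𝔪.map (algebraMap Q₀ Rb) := Ideal.map_mono hle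

end Ring

section Main

variable (R : Type u) [CommRing R] (A : Type u) [CommRing A] [HopfAlgebra R A] (I : Ideal R)
  (hI : ∀ x ∈ I, IsNilpotent x) (h : IsMultType R A)
include hI h

theorem main2971a (h0 : IsIsotrivial (R ⧸ I) ((R ⧸ I) ⊗[R] A)) : IsIsotrivial R A := by
  obtain ⟨Rb, _, _, hét, hfin, hff, hd⟩ := h0
  haveI := hét
  haveI := hfin
  haveI := hff
  letI : Algebra R Rb := ((algebraMap (R ⧸ I) Rb).comp (algebraMap R (R ⧸ I))).toAlgebra
  haveI : IsScalarTower R (R ⧸ I) Rb := IsScalarTower.of_algebraMap_eq' rfl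
  have hP : IsDiag Rb (Rb ⊗[R] A) :=
    (isDiag_tower (R := R) (A := A) (S := R ⧸ I) (T := Rb)).mp hd
  obtain ⟨R', _, _, hét', ⟨σ⟩⟩ := Groth.Agent.Lib.EtLiftGlobal.exists_etale_lift R I Rb
  haveI := hét'
  let ω : (R' ⧸ I.map (algebraMap R R')) ≃ₐ[R ⧸ I] Rb :=
    (Algebra.TensorProduct.quotIdealMapEquivQuotTensor R' I).trans σ
  have hdiag : IsDiag R' (R' ⊗[R] A) :=
    diag_of_lift I hI h Rb hP R' (ω.symm.toAlgHom.restrictScalars R)
  let χ : R' →ₐ[R] Rb :=
    (ω.toAlgHom.restrictScalars R).comp (Ideal.Quotient.mkₐ R (I.map (algebraMap R R')))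
  refine ⟨R', inferInstance, inferInstance, hét', ?_, ?_, hdiag⟩
  · -- finite
    haveI : Module.Finite (R ⧸ I) (R' ⧸ I.map (algebraMap R R')) :=
      Module.Finite.equiv ω.symm.toLinearEquiv
    haveI : Module.Finite R (R' ⧸ I.map (algebraMap R R')) :=
      Module.Finite.trans (R ⧸ I) (R' ⧸ I.map (algebraMap R R'))
    exact finite_of_quot (I.map (algebraMap R R')) (nil_map _ I hI)
  · -- faithfully flat
    refine ⟨fun m hm => ?_⟩
    rw [Ideal.smul_top_eq_map]
    refine (Submodule.restrictScalars_eq_top_iff _ _ _).ne.mpr ?_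
    apply map_ne_top_of_ff (Q₀ := R ⧸ I) χ m
    intro htop
    apply hm.ne_top
    have hIm : I ≤ m := by
      intro x hx
      obtain ⟨n, hn⟩ := hI x hx
      exact hm.isPrime.mem_of_pow_mem n (by rw [hn]; exact m.zero_mem)
    have h1 := Ideal.comap_map_of_surjective (Ideal.Quotient.mk I) Ideal.Quotient.mk_surjective m
    rw [show Ideal.map (Ideal.Quotient.mk I) m = ⊤ from htop, Ideal.comap_top] at h1
    rw [h1]
    apply le_antisymm
    · exact le_sup_left
    · apply sup_le le_rfl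
      intro x hx
      rw [Ideal.mem_comap, Ideal.mem_bot, Ideal.Quotient.eq_zero_iff_mem] at hx
      exact hIm hx

theorem main2971b (h0 : IsQuasiIsotrivial (R ⧸ I) ((R ⧸ I) ⊗[R] A)) : IsQuasiIsotrivial R A := by
  obtain ⟨sb, hsb, hlocb⟩ := h0
  refine ⟨{f : R | Ideal.Quotient.mk I f ∈ sb}, span_preimage_eq_top I hI sb hsb, ?_⟩
  intro f hf
  obtain ⟨Rb, _, _, hét, hff, hd⟩ := hlocb _ hf
  haveI := hét
  haveI := hff
  letI : Algebra (R ⧸ I) Rb :=
    ((algebraMap (Localization.Away (Ideal.Quotient.mk I f)) Rb).comp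
      (algebraMap (R ⧸ I) (Localization.Away (Ideal.Quotient.mk I f)))).toAlgebra
  haveI : IsScalarTower (R ⧸ I) (Localization.Away (Ideal.Quotient.mk I f)) Rb :=
    IsScalarTower.of_algebraMap_eq' rfl
  letI : Algebra R Rb := ((algebraMap (R ⧸ I) Rb).comp (algebraMap R (R ⧸ I))).toAlgebra
  haveI : IsScalarTower R (R ⧸ I) Rb := IsScalarTower.of_algebraMap_eq' rfl
  haveI : IsScalarTower R (Localization.Away (Ideal.Quotient.mk I f)) Rb := by
    apply IsScalarTower.of_algebraMap_eq
    intro r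
    rw [IsScalarTower.algebraMap_apply R (R ⧸ I) Rb,
      IsScalarTower.algebraMap_apply (R ⧸ I) (Localization.Away (Ideal.Quotient.mk I f)) Rb,
      ← IsScalarTower.algebraMap_apply R (R ⧸ I) (Localization.Away (Ideal.Quotient.mk I f))]
  have hP1 : IsDiag Rb (Rb ⊗[R ⧸ I] ((R ⧸ I) ⊗[R] A)) :=
    (isDiag_tower (R := R ⧸ I) (A := (R ⧸ I) ⊗[R] A)
      (S := Localization.Away (Ideal.Quotient.mk I f)) (T := Rb)).mp hd
  have hP : IsDiag Rb (Rb ⊗[R] A) :=
    (isDiag_tower (R := R) (A := A) (S := R ⧸ I) (T := Rb)).mp hP1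
  haveI : Algebra.Etale (R ⧸ I) (Localization.Away (Ideal.Quotient.mk I f)) :=
    Algebra.Etale.of_isLocalizationAway (Ideal.Quotient.mk I f)
  haveI : Algebra.Etale (R ⧸ I) Rb :=
    Algebra.Etale.comp (R ⧸ I) (Localization.Away (Ideal.Quotient.mk I f)) Rb
  obtain ⟨R', _, _, hét', ⟨σ⟩⟩ := Groth.Agent.Lib.EtLiftGlobal.exists_etale_lift R I Rb
  haveI := hét'
  let ω : (R' ⧸ I.map (algebraMap R R')) ≃ₐ[R ⧸ I] Rb :=
    (Algebra.TensorProduct.quotIdealMapEquivQuotTensor R' I).trans σ
  have hdiag : IsDiag R' (R' ⊗[R] A) :=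
    diag_of_lift I hI h Rb hP R' (ω.symm.toAlgHom.restrictScalars R)
  let χ : R' →ₐ[R] Rb :=
    (ω.toAlgHom.restrictScalars R).comp (Ideal.Quotient.mkₐ R (I.map (algebraMap R R')))
  -- `f` is a unit of `R'`
  have hfb : IsUnit (algebraMap R Rb f) := by
    rw [IsScalarTower.algebraMap_apply R (Localization.Away (Ideal.Quotient.mk I f)) Rb,
      IsScalarTower.algebraMap_apply R (R ⧸ I) (Localization.Away (Ideal.Quotient.mk I f))]
    exact (IsLocalization.Away.algebraMap_isUnit (Ideal.Quotient.mk I f)).map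
      (algebraMap (Localization.Away (Ideal.Quotient.mk I f)) Rb)
  have hu : IsUnit (algebraMap R R' f) := by
    apply isUnit_of_isUnit_mk (I.map (algebraMap R R')) (nil_map _ I hI)
    have h3 : Ideal.Quotient.mk (I.map (algebraMap R R')) (algebraMap R R' f) =
        ω.symm (algebraMap R Rb f) := by
      rw [← χ.commutes f]
      exact (ω.symm_apply_apply _).symm
    rw [h3]
    exact hfb.map ω.symm
  letI : Algebra (Localization.Away f) R' := (IsLocalization.Away.lift f hu).toAlgebra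
  haveI : IsScalarTower R (Localization.Away f) R' :=
    IsScalarTower.of_algebraMap_eq (fun r => (IsLocalization.Away.lift_eq f hu r).symm)
  haveI : Algebra.Etale R (Localization.Away f) := Algebra.Etale.of_isLocalizationAway f
  haveI : Algebra.Etale (Localization.Away f) R' :=
    Algebra.Etale.of_restrictScalars (R := R) (A := Localization.Away f) (B := R')
  haveI : Module.FaithfullyFlat (Localization.Away f) R' := by
    refine ⟨fun m hm => ?_⟩
    rw [Ideal.smul_top_eq_map]
    refine (Submodule.restrictScalars_eq_top_iff _ _ _).ne.mpr ?_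
    have hm' : m = (m.under R).map (algebraMap R (Localization.Away f)) :=
      (IsLocalization.map_under (Submonoid.powers f) _ m).symm
    rw [hm', Ideal.map_map, ← IsScalarTower.algebraMap_eq]
    apply map_ne_top_of_ff (Q₀ := Localization.Away (Ideal.Quotient.mk I f)) χ (m.under R)
    rw [IsScalarTower.algebraMap_eq R (R ⧸ I) (Localization.Away (Ideal.Quotient.mk I f)),
      ← Ideal.map_map,
      IsLocalization.map_algebraMap_ne_top_iff_disjoint
        (Submonoid.powers (Ideal.Quotient.mk I f)) (Localization.Away (Ideal.Quotient.mk I f)),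
      Set.disjoint_left]
    rintro x ⟨n, rfl⟩ hx
    have hpr : (m.under R).IsPrime := hm.isPrime.under R
    have hIp : I ≤ m.under R := by
      intro y hy
      obtain ⟨k, hk⟩ := hI y hy
      exact hpr.mem_of_pow_mem k (by rw [hk]; exact (m.under R).zero_mem)
    obtain ⟨a, ha, ha1⟩ := (Ideal.mem_map_iff_of_surjective _ Ideal.Quotient.mk_surjective).mp hx
    have h2 : a - f ^ n ∈ I := by
      rw [← Ideal.Quotient.eq_zero_iff_mem, map_sub, ha1, map_pow, sub_self]
    have h3 : f ^ n ∈ m.under R := by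
      have h4 := (m.under R).sub_mem ha (hIp h2)
      rwa [sub_sub_cancel] at h4
    have h5 : f ∈ m.under R := hpr.mem_of_pow_mem n h3
    apply hm.ne_top
    exact Ideal.eq_top_of_isUnit_mem _ h5 (IsLocalization.Away.algebraMap_isUnit f)
  refine ⟨R', inferInstance, inferInstance, inferInstance, inferInstance, ?_⟩
  exact (isDiag_tower (R := R) (A := A) (S := Localization.Away f) (T := R')).mpr hdiag

theorem main2971 :
    (IsIsotrivial (R ⧸ I) ((R ⧸ I) ⊗[R] A) → IsIsotrivial R A) ∧
    (IsQuasiIsotrivial (R ⧸ I) ((R ⧸ I) ⊗[R] A) → IsQuasiIsotrivial R A) :=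
  ⟨main2971a R A I hI h, main2971b R A I hI h⟩

end Main

end Groth.Agent.Lib.DiagBCH4
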