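import Mathlib

/-!
# The closure of the off-diagonal residue-field points meets the diagonal (lead)
-/

set_option autoImplicit false

open TensorProduct

namespace Groth.Agent.Lib.DiagClosure

universe u

lemma exists_common_domain (k : Type u) [Field k] (K : ℕ → Type u) [∀ n, Field (K n)]
    [∀ n, Algebra k (K n)] (N : ℕ) :
    ∃ (L : Type u) (_ : CommRing L) (_ : IsDomain L) (_ : Algebra k L),
      ∀ n, n < N → Nonempty (K n →ₐ[k] L) := by
  induction N with
  | zero => exact ⟨k, inferInstance, inferInstance, inferInstance,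
      fun n hn => absurd hn (Nat.not_lt_zero n)⟩
  | succ N ih =>
    obtain ⟨L, _, _, _, hL⟩ := ih
    have hinj : Function.Injective
        (Algebra.TensorProduct.includeLeft : L →ₐ[k] L ⊗[k] K N) :=
      Algebra.TensorProduct.includeLeft_injective (algebraMap k (K N)).injective
    haveI : Nontrivial (L ⊗[k] K N) := hinj.nontrivial
    obtain ⟨M, hM⟩ := Ideal.exists_maximal (L ⊗[k] K N)
    haveI := hM
    refine ⟨(L ⊗[k] K N) ⧸ M, inferInstance, inferInstance, inferInstance, fun n hn => ?_⟩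
    rcases Nat.lt_succ_iff_lt_or_eq.mp hn with h | h
    · obtain ⟨f⟩ := hL n h
      exact ⟨((Ideal.Quotient.mkₐ k M).comp
        (Algebra.TensorProduct.includeLeft : L →ₐ[k] L ⊗[k] K N)).comp f⟩
    · subst h
      exact ⟨(Ideal.Quotient.mkₐ k M).comp
        (Algebra.TensorProduct.includeRight : K n →ₐ[k] L ⊗[k] K n)⟩

section

variable (A : Type u) [CommRing A] (k : Type u) [Field k] (K : ℕ → Type u) [∀ n, Field (K n)]
  [∀ n, Algebra A (K n)] [∀ n, Algebra k (K n)]

/-- The ring map `A ⊗ A → K n ⊗[k] K m` of the statement. -/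
noncomputable abbrev phi (n m : ℕ) : A ⊗[ℤ] A →+* K n ⊗[k] K m :=
  (Algebra.TensorProduct.lift
    ((Algebra.TensorProduct.includeLeft (R := k) (S := ℤ) (A := K n) (B := K m)).toRingHom.toIntAlgHom.comp
      (Algebra.ofId A (K n)).toRingHom.toIntAlgHom)
    ((Algebra.TensorProduct.includeRight (R := k) (A := K n) (B := K m)).toRingHom.toIntAlgHom.comp
      (Algebra.ofId A (K m)).toRingHom.toIntAlgHom)
    (fun _ _ => Commute.all _ _)).toRingHom

lemma phi_tmul (n m : ℕ) (a b : A) :
    phi A k K n m (a ⊗ₜ[ℤ] b) = algebraMap A (K n) a ⊗ₜ[k] algebraMap A (K m) b := by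
  show ((algebraMap A (K n) a ⊗ₜ[k] (1 : K m)) * ((1 : K n) ⊗ₜ[k] algebraMap A (K m) b) :
    K n ⊗[k] K m) = _
  rw [Algebra.TensorProduct.tmul_mul_tmul, mul_one, one_mul]

theorem main :
    (closure (⋃ (n : ℕ) (m : ℕ) (_ : n ≠ m),
        Set.range (PrimeSpectrum.comap
          (Algebra.TensorProduct.lift
            ((Algebra.TensorProduct.includeLeft (R := k) (S := ℤ) (A := K n) (B := K m)).toRingHom.toIntAlgHom.comp
              (Algebra.ofId A (K n)).toRingHom.toIntAlgHom)
            ((Algebra.TensorProduct.includeRight (R := k) (A := K n) (B := K m)).toRingHom.toIntAlgHom.comp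
              (Algebra.ofId A (K m)).toRingHom.toIntAlgHom)
            (fun _ _ => Commute.all _ _)).toRingHom)) ∩
      Set.range (PrimeSpectrum.comap (Algebra.TensorProduct.lmul' (S := A) ℤ).toRingHom)).Nonempty := by
  by_contra hne
  rw [Set.not_nonempty_iff_eq_empty] at hne
  set S : Set (PrimeSpectrum (A ⊗[ℤ] A)) := ⋃ (n : ℕ) (m : ℕ) (_ : n ≠ m),
    Set.range (PrimeSpectrum.comap (phi A k K n m)) with hS
  set μ : A ⊗[ℤ] A →+* A := (Algebra.TensorProduct.lmul' (S := A) ℤ).toRingHom with hμ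
  have hμ_tmul : ∀ a b : A, μ (a ⊗ₜ[ℤ] b) = a * b := fun a b =>
    Algebra.TensorProduct.lmul'_apply_tmul a b
  have hsurj : Function.Surjective μ := fun a => ⟨a ⊗ₜ[ℤ] 1, by rw [hμ_tmul, mul_one]⟩
  have h1 : closure S = PrimeSpectrum.zeroLocus (PrimeSpectrum.vanishingIdeal S : Set _) :=
    (PrimeSpectrum.zeroLocus_vanishingIdeal_eq_closure S).symm
  have h2 : Set.range (PrimeSpectrum.comap μ) =
      PrimeSpectrum.zeroLocus (RingHom.ker μ : Set _) :=
    range_comap_of_surjective (hf := hsurj)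
  rw [h1, h2, ← PrimeSpectrum.zeroLocus_sup, PrimeSpectrum.zeroLocus_empty_iff_eq_top] at hne
  have h1mem : (1 : A ⊗[ℤ] A) ∈ PrimeSpectrum.vanishingIdeal S ⊔ RingHom.ker μ :=
    hne ▸ Submodule.mem_top
  obtain ⟨θ, hθ, κ, hκ, hsum⟩ := Submodule.mem_sup.mp h1mem
  have hμθ : μ θ = 1 := by
    have h3 := congrArg μ hsum
    rw [map_add, (RingHom.mem_ker).mp hκ, add_zero, map_one] at h3
    exact h3
  obtain ⟨T, hT⟩ := TensorProduct.exists_finset θ
  obtain ⟨L, _, _, _, hL⟩ := exists_common_domain k K (T.card + 1)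
  let ι : ∀ n : Fin (T.card + 1), K n →ₐ[k] L := fun n => (hL n.1 n.2).some
  have hsumT : ∑ s ∈ T, s.1 * s.2 = 1 := by
    rw [← hμθ, hT, map_sum]
    exact Finset.sum_congr rfl fun s _ => (hμ_tmul s.1 s.2).symm
  have key : ∀ n m : Fin (T.card + 1),
      ∑ s ∈ T, ι n (algebraMap A (K n) s.1) * ι m (algebraMap A (K m) s.2) =
        if n = m then 1 else 0 := by
    intro n m
    split_ifs with hnm
    · subst hnm
      have : ∑ s ∈ T, ι n (algebraMap A (K n) s.1) * ι n (algebraMap A (K n) s.2) =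
          ι n (algebraMap A (K n) (∑ s ∈ T, s.1 * s.2)) := by
        simp only [map_sum, map_mul]
      rw [this, hsumT, map_one, map_one]
    · have hnm' : (n : ℕ) ≠ (m : ℕ) := fun h => hnm (Fin.ext h)
      let ψ : K n ⊗[k] K m →+* L :=
        (Algebra.TensorProduct.productMap (ι n) (ι m)).toRingHom
      have hψ : ∀ x y, ψ (x ⊗ₜ[k] y) = ι n x * ι m y := fun x y =>
        Algebra.TensorProduct.productMap_apply_tmul (ι n) (ι m) x y
      let y : PrimeSpectrum (K n ⊗[k] K m) := ⟨RingHom.ker ψ, RingHom.ker_isPrime ψ⟩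
      have hx : PrimeSpectrum.comap (phi A k K n m) y ∈ S :=
        Set.mem_iUnion.mpr ⟨n, Set.mem_iUnion.mpr ⟨m, Set.mem_iUnion.mpr
          ⟨hnm', Set.mem_range_self y⟩⟩⟩
      have h4 := (PrimeSpectrum.mem_vanishingIdeal _ _).mp hθ _ hx
      have h5 : phi A k K n m θ ∈ RingHom.ker ψ := h4
      have h6 : ψ (phi A k K n m θ) = 0 := (RingHom.mem_ker).mp h5
      rw [hT, map_sum, map_sum] at h6
      rw [← h6]
      refine Finset.sum_congr rfl fun s _ => ?_
      rw [phi_tmul, hψ]
  let X : Matrix (Fin (T.card + 1)) T L := fun n s => ι n (algebraMap A (K n) s.1.1)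
  let Y : Matrix T (Fin (T.card + 1)) L := fun s m => ι m (algebraMap A (K m) s.1.2)
  have hXY : X * Y = 1 := by
    ext n m
    rw [Matrix.mul_apply, Matrix.one_apply]
    exact (Finset.sum_coe_sort T
      (fun s => ι n (algebraMap A (K n) s.1) * ι m (algebraMap A (K m) s.2))).trans (key n m)
  have h7 := Matrix.rank_mul_le_left X Y
  rw [hXY, Matrix.rank_one, Fintype.card_fin] at h7
  have h8 := Matrix.rank_le_card_width X
  rw [Fintype.card_coe] at h8
  omega

end

end Groth.Agent.Lib.DiagClosure
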