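import Groth.Agent.Lib.DSDict_lead

/-! # Homomorphisms between diagonalisable groups over a field (lead)

Over `S = Spec k` (k a field) every homomorphism `D_S(N) ⟶ D_S(M)` is `D_S(φ)` for a unique
`φ : M →+ N`.  Consequences: exact sequences of split tori split; `μ_{p^{n+1}} → μ_{p^n}` does not. -/

set_option linter.unusedSimpArgs false
set_option linter.unusedVariables false
set_option linter.unusedSectionVars false
set_option linter.style.longLine false
set_option maxHeartbeats 800000

universe u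

open CategoryTheory CategoryTheory.Limits MonoidalCategory CartesianMonoidalCategory MonObj GrpObj
  AlgebraicGeometry Opposite

namespace Groth.Agent.Lib.DiagHom

open Groth.Agent.Lib.RedDictH8 Groth.Agent.Lib.DSDict

section alg

variable {k : Type u} [Field k] {G : Type} [CommMonoid G]

/-- coefficientwise inclusion `k[G] → (k[G])[G]`. -/
noncomputable def th1 : MonoidAlgebra k G →ₐ[k] MonoidAlgebra (MonoidAlgebra k G) G :=
  MonoidAlgebra.mapAlgHom G (Algebra.ofId k (MonoidAlgebra k G))

/-- constant inclusion `k[G] → (k[G])[G]`. -/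
noncomputable def th2 : MonoidAlgebra k G →ₐ[k] MonoidAlgebra (MonoidAlgebra k G) G :=
  MonoidAlgebra.singleOneAlgHom

/-- diagonal monoid hom. -/
noncomputable def psiD : G →* MonoidAlgebra (MonoidAlgebra k G) G where
  toFun g := MonoidAlgebra.single g (MonoidAlgebra.single g 1)
  map_one' := rfl
  map_mul' a b := by
    rw [MonoidAlgebra.single_mul_single, MonoidAlgebra.single_mul_single, _root_.mul_one]

/-- the diagonal `k[G] → (k[G])[G]`. -/
noncomputable def thD : MonoidAlgebra k G →ₐ[k] MonoidAlgebra (MonoidAlgebra k G) G :=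
  MonoidAlgebra.lift k _ G psiD

lemma thD_single (g : G) : thD (k := k) (MonoidAlgebra.single g 1) =
    th1 (MonoidAlgebra.single g 1) * th2 (MonoidAlgebra.single g 1) := by
  unfold thD th1 th2
  rw [MonoidAlgebra.lift_single, one_smul, MonoidAlgebra.mapAlgHom_single, map_one]
  show MonoidAlgebra.single g (MonoidAlgebra.single g 1) =
    MonoidAlgebra.single g 1 * MonoidAlgebra.single 1 (MonoidAlgebra.single g 1)
  rw [MonoidAlgebra.single_mul_single, _root_.mul_one, _root_.one_mul]

lemma coeff_thD (u : MonoidAlgebra k G) (g₀ : G) :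
    (thD u).coeff g₀ = MonoidAlgebra.single g₀ (u.coeff g₀) := by
  classical
  induction u using MonoidAlgebra.induction_linear with
  | zero => simp
  | add x y hx hy =>
    rw [map_add, MonoidAlgebra.coeff_add, Finsupp.add_apply, hx, hy, MonoidAlgebra.coeff_add,
      Finsupp.add_apply, MonoidAlgebra.single_add]
  | single a c =>
    have h1 : thD (MonoidAlgebra.single a c) =
        MonoidAlgebra.single a (MonoidAlgebra.single a c) := by
      unfold thD
      rw [MonoidAlgebra.lift_single]
      show c • MonoidAlgebra.single a (MonoidAlgebra.single a (1 : k)) = _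
      rw [MonoidAlgebra.smul_single, MonoidAlgebra.smul_single, smul_eq_mul, _root_.mul_one]
    rw [h1, MonoidAlgebra.coeff_single, MonoidAlgebra.coeff_single, Finsupp.single_apply,
      Finsupp.single_apply]
    split_ifs with h
    · subst h; rfl
    · exact (MonoidAlgebra.single_zero _).symm

lemma coeff_th1_mul_th2 (u : MonoidAlgebra k G) (g₀ : G) :
    (th1 u * th2 u).coeff g₀ = algebraMap k (MonoidAlgebra k G) (u.coeff g₀) * u := by
  unfold th1 th2
  show (MonoidAlgebra.mapAlgHom G (Algebra.ofId k (MonoidAlgebra k G)) u *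
    MonoidAlgebra.single 1 u).coeff g₀ = _
  rw [MonoidAlgebra.coeff_mul_single_one, MonoidAlgebra.coeff_mapAlgHom]
  rfl

/-- A nonzero group-like element of `k[G]` is one of the basis elements. -/
theorem grouplike_eq_single (u : MonoidAlgebra k G) (hu : u ≠ 0)
    (h : thD u = th1 u * th2 u) : ∃ g, u = MonoidAlgebra.single g 1 := by
  have hne : ∃ g, u.coeff g ≠ 0 := by
    by_contra hcon
    push Not at hcon
    refine hu (MonoidAlgebra.coeff_injective (Finsupp.ext fun g => ?_))
    simpa using hcon g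
  obtain ⟨g, hg⟩ := hne
  refine ⟨g, ?_⟩
  have h1 : (thD u).coeff g = (th1 u * th2 u).coeff g := congrArg (fun x => x.coeff g) h
  rw [coeff_thD, coeff_th1_mul_th2] at h1
  have h2 : u = algebraMap k (MonoidAlgebra k G) (u.coeff g)⁻¹ *
      (algebraMap k (MonoidAlgebra k G) (u.coeff g) * u) := by
    rw [← _root_.mul_assoc, ← map_mul, inv_mul_cancel₀ hg, map_one, _root_.one_mul]
  have h3 : algebraMap k (MonoidAlgebra k G) (u.coeff g)⁻¹ * MonoidAlgebra.single g (u.coeff g) =
      MonoidAlgebra.single g 1 := by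
    rw [MonoidAlgebra.coe_algebraMap]
    simp [MonoidAlgebra.single_mul_single, inv_mul_cancel₀ hg]
  calc u = algebraMap k (MonoidAlgebra k G) (u.coeff g)⁻¹ *
      (algebraMap k (MonoidAlgebra k G) (u.coeff g) * u) := h2
    _ = algebraMap k (MonoidAlgebra k G) (u.coeff g)⁻¹ * MonoidAlgebra.single g (u.coeff g) := by
      rw [← h1]
    _ = MonoidAlgebra.single g 1 := h3

/-- An injective map of abelian groups with saturated image and finitely generated target has a
retraction. -/
theorem exists_retraction {A B : Type} [AddCommGroup A] [AddCommGroup B] [Module.Finite ℤ B]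
    (f : A →+ B) (hf : Function.Injective f)
    (hsat : ∀ (d : ℤ) (b : B), d ≠ 0 → d • b ∈ f.range → b ∈ f.range) :
    ∃ r : B →+ A, r.comp f = AddMonoidHom.id A := by
  let P : Submodule ℤ B := LinearMap.range f.toIntLinearMap
  have hP : ∀ b, b ∈ P ↔ b ∈ f.range := fun b => Iff.rfl
  haveI : Module.IsTorsionFree ℤ (B ⧸ P) := Module.IsTorsionFree.of_smul_eq_zero (by
    intro d c hdc
    by_cases hd : d = 0
    · exact Or.inl hd
    · right
      obtain ⟨b, rfl⟩ := Submodule.Quotient.mk_surjective P c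
      rw [← Submodule.Quotient.mk_smul, Submodule.Quotient.mk_eq_zero] at hdc
      rw [Submodule.Quotient.mk_eq_zero]
      exact (hP b).mpr (hsat d b hd ((hP _).mp hdc)))
  obtain ⟨σ, hσ⟩ := P.mkQ.exists_rightInverse_of_surjective (Submodule.range_mkQ P)
  have hmem : ∀ b : B, ∃ a : A, f a = b - σ (P.mkQ b) := by
    intro b
    have h1 : b - σ (P.mkQ b) ∈ P := by
      rw [← Submodule.Quotient.mk_eq_zero, Submodule.Quotient.mk_sub, sub_eq_zero]
      have h2 := LinearMap.congr_fun hσ (P.mkQ b)
      simp only [LinearMap.comp_apply, LinearMap.id_apply] at h2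
      exact h2.symm
    exact (hP _).mp h1
  choose r hr using hmem
  have hadd : ∀ b b', r (b + b') = r b + r b' := by
    intro b b'
    apply hf
    rw [map_add, hr, hr, hr, map_add, map_add]
    abel
  refine ⟨AddMonoidHom.mk' r hadd, ?_⟩
  ext a
  apply hf
  show f (r (f a)) = f a
  rw [hr]
  have h0 : P.mkQ (f a) = 0 := by
    rw [Submodule.mkQ_apply, Submodule.Quotient.mk_eq_zero]
    exact (hP _).mpr ⟨a, rfl⟩
  rw [h0, map_zero, sub_zero]

end alg

section cat

variable {C : Type*} [Category C]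

theorem isIso_of_points' {A B : C} (f : A ⟶ B)
    (h : ∀ (T : C) (b : T ⟶ B), ∃ a : T ⟶ A, a ≫ f = b ∧ ∀ a' : T ⟶ A, a' ≫ f = b → a' = a) :
    IsIso f := by
  obtain ⟨a0, ha0, _⟩ := h B (𝟙 B)
  obtain ⟨a1, _, huniq⟩ := h A f
  refine ⟨⟨a0, ?_, ha0⟩⟩
  have h1 : (f ≫ a0) ≫ f = f := by rw [Category.assoc, ha0, Category.comp_id]
  exact (huniq _ h1).trans (huniq _ (Category.id_comp f)).symm

theorem iso_data [CartesianMonoidalCategory C] {X Y : C} [GrpObj X] [GrpObj Y]
    (e : Grp.mk X ≅ Grp.mk Y) :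
    ∃ (a : X ⟶ Y) (a' : Y ⟶ X), IsMonHom a ∧ IsMonHom a' ∧ a ≫ a' = 𝟙 X ∧ a' ≫ a = 𝟙 Y :=
  ⟨e.hom.hom.hom, e.inv.hom.hom, inferInstance, inferInstance,
    congrArg (fun t => t.hom.hom) e.hom_inv_id, congrArg (fun t => t.hom.hom) e.inv_hom_id⟩

end cat

section general

variable {S : Scheme.{u}} {L M N : Type} [AddCommGroup L] [AddCommGroup M] [AddCommGroup N]

theorem DSmap_comp (φ : M →+ N) (ψ : L →+ M) :
    Red.DSmap S φ ≫ Red.DSmap S ψ = Red.DSmap S (φ.comp ψ) := by
  apply chr_injective
  intro l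
  have h1 := chr_DSmap ψ (Red.DSmap S φ) l
  have h2 := chr_DSmap φ (𝟙 (Red.DS S N)) (ψ l)
  have h3 := chr_DSmap (φ.comp ψ) (𝟙 (Red.DS S N)) l
  rw [Category.id_comp] at h2 h3
  rw [h1, h2, h3]
  rfl

theorem DSmap_id : Red.DSmap S (AddMonoidHom.id M) = 𝟙 (Red.DS S M) := by
  apply chr_injective
  intro m
  have h3 := chr_DSmap (AddMonoidHom.id M) (𝟙 (Red.DS S M)) m
  rw [Category.id_comp] at h3
  rw [h3]
  rfl

theorem DSmap_zero : Red.DSmap S (0 : M →+ N) = 1 := by
  apply chr_injective
  intro m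
  have h3 := chr_DSmap (0 : M →+ N) (𝟙 (Red.DS S N)) m
  rw [Category.id_comp] at h3
  rw [h3, chr_one]
  exact chr_zero _

end general

/-- `Spec k`. -/
noncomputable abbrev Sk (k : Type u) [Field k] : Scheme.{u} := Spec (CommRingCat.of k)

/-- `Spec B` over `Spec k`. -/
noncomputable abbrev TB (k : Type u) [Field k] (B : Type u) [CommRing B] [Algebra k B] :
    Over (Sk k) :=
  Over.mk (Spec.map (CommRingCat.ofHom (algebraMap k B)))

variable {k : Type u} [Field k]

/-- The morphism over `Spec k` induced by a `k`-algebra homomorphism. -/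
noncomputable def specOver {A B : Type u} [CommRing A] [CommRing B] [Algebra k A] [Algebra k B]
    (θ : A →ₐ[k] B) : TB k B ⟶ TB k A :=
  Over.homMk (Spec.map (CommRingCat.ofHom θ.toRingHom)) (by
    show Spec.map (CommRingCat.ofHom θ.toRingHom) ≫
      Spec.map (CommRingCat.ofHom (algebraMap k A)) =
      Spec.map (CommRingCat.ofHom (algebraMap k B))
    rw [← Spec.map_comp]
    congr 1
    ext c
    first
      | exact θ.commutes c
      | simp)

lemma appTop_specMap_inv {A B : CommRingCat.{u}} (φ : A ⟶ B) (r : A) :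
    (Spec.map φ).appTop ((Scheme.ΓSpecIso A).inv r) = (Scheme.ΓSpecIso B).inv (φ r) := by
  have := Scheme.ΓSpecIso_inv_naturality φ
  exact (congrArg (fun ψ => ψ r) this).symm

variable {M N : Type} [AddCommGroup M] [AddCommGroup N]

theorem exists_pt {B : Type u} [CommRing B] [Algebra k B] (ψ : Multiplicative N →* B) :
    ∃ x : TB k B ⟶ Red.DS (Sk k) N, ∀ n, chr x n =
      (Scheme.ΓSpecIso (CommRingCat.of B)).inv (ψ (Multiplicative.ofAdd n)) := by
  obtain ⟨x, hx⟩ := exists_chr_eq (S := Sk k) (M := N) (T := TB k B)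
    ((Scheme.ΓSpecIso (CommRingCat.of B)).inv.hom.toMonoidHom.comp ψ)
  exact ⟨x, fun n => hx n⟩

variable (k N) in
/-- The universal point of `D(N)` with values in `Spec k[N]`. -/
noncomputable def x0 : TB k (MonoidAlgebra k (Multiplicative N)) ⟶ Red.DS (Sk k) N :=
  (exists_pt (MonoidAlgebra.of k (Multiplicative N))).choose

theorem chr_x0 (n : N) : chr (x0 k N) n =
    (Scheme.ΓSpecIso (CommRingCat.of (MonoidAlgebra k (Multiplicative N)))).inv
      (MonoidAlgebra.single (Multiplicative.ofAdd n) 1) :=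
  ((exists_pt (MonoidAlgebra.of k (Multiplicative N))).choose_spec n).trans
    (by rw [MonoidAlgebra.of_apply])

theorem isIso_x0 : IsIso (x0 k N) := by
  apply isIso_of_points'
  intro T y
  let ρ : k →+* Γ(T.left, ⊤) :=
    ((Scheme.ΓSpecIso (CommRingCat.of k)).inv ≫ T.hom.appTop).hom
  letI : Algebra k Γ(T.left, ⊤) := ρ.toAlgebra
  let ψ : Multiplicative N →* Γ(T.left, ⊤) :=
    { toFun := fun g => chr y (Multiplicative.toAdd g)
      map_one' := chr_zero y
      map_mul' := fun a b => chr_add y _ _ }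
  let φ : MonoidAlgebra k (Multiplicative N) →ₐ[k] Γ(T.left, ⊤) :=
    MonoidAlgebra.lift k _ _ ψ
  have hφ : ∀ g : Multiplicative N, φ (MonoidAlgebra.single g 1) = chr y (Multiplicative.toAdd g) := by
    intro g
    show MonoidAlgebra.lift k _ _ ψ (MonoidAlgebra.single g 1) = _
    rw [MonoidAlgebra.lift_single, one_smul]
    rfl
  obtain ⟨a₀, ha₀⟩ := exists_point T.left (CommRingCat.ofHom φ.toRingHom)
  have hover : a₀ ≫ (TB k (MonoidAlgebra k (Multiplicative N))).hom = T.hom := by
    apply point_ext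
    intro c
    show ev (a₀ ≫ Spec.map (CommRingCat.ofHom (algebraMap k (MonoidAlgebra k (Multiplicative N))))) c
      = ev T.hom c
    rw [ev_comp_specMap, ha₀]
    exact (φ.commutes c).trans rfl
  refine ⟨Over.homMk a₀ hover, ?_, ?_⟩
  · apply chr_injective
    intro n
    rw [chr_comp, chr_x0]
    show ev a₀ (MonoidAlgebra.single (Multiplicative.ofAdd n) 1) = chr y n
    rw [ha₀]
    exact hφ (Multiplicative.ofAdd n)
  · intro a' ha'
    apply Over.OverMorphism.ext
    apply point_ext
    intro s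
    show ev a'.left s = ev a₀ s
    rw [ha₀]
    have key : ((Scheme.ΓSpecIso _).inv ≫ a'.left.appTop).hom = φ.toRingHom := by
      apply MonoidAlgebra.ringHom_ext
      · intro c
        have e1 : MonoidAlgebra.single (1 : Multiplicative N) c =
            algebraMap k (MonoidAlgebra k (Multiplicative N)) c := rfl
        have h0 := ev_comp_specMap a'.left
          (CommRingCat.ofHom (algebraMap k (MonoidAlgebra k (Multiplicative N)))) c
        have h1 : ev a'.left (algebraMap k (MonoidAlgebra k (Multiplicative N)) c) = ev T.hom c :=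
          h0.symm.trans (congrArg (fun t : T.left ⟶ Spec (CommRingCat.of k) => ev t c) (Over.w a'))
        show ev a'.left (MonoidAlgebra.single 1 c) = φ (MonoidAlgebra.single 1 c)
        rw [e1, φ.commutes, h1]
        rfl
      · intro g
        have h2 : chr (a' ≫ x0 k N) (Multiplicative.toAdd g) =
            ev a'.left (MonoidAlgebra.single g 1) := by
          rw [chr_comp, chr_x0]
          rfl
        show ev a'.left (MonoidAlgebra.single g 1) = φ (MonoidAlgebra.single g 1)
        rw [← h2, ha', hφ]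
    exact congrArg (fun θ => θ s) key

/-- The point of `D(N)` attached to a `k`-algebra map out of `k[N]`. -/
noncomputable def P {B : Type u} [CommRing B] [Algebra k B]
    (θ : MonoidAlgebra k (Multiplicative N) →ₐ[k] B) : TB k B ⟶ Red.DS (Sk k) N :=
  specOver θ ≫ x0 k N

theorem chr_P {B : Type u} [CommRing B] [Algebra k B]
    (θ : MonoidAlgebra k (Multiplicative N) →ₐ[k] B) (n : N) :
    chr (P θ) n = (Scheme.ΓSpecIso (CommRingCat.of B)).inv
      (θ (MonoidAlgebra.single (Multiplicative.ofAdd n) 1)) := by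
  unfold P
  rw [chr_comp, chr_x0]
  exact appTop_specMap_inv (CommRingCat.ofHom θ.toRingHom) _

/-- The function on `Spec k[N]` cut out by a morphism `f : D(N) ⟶ D(M)` and `m ∈ M`. -/
noncomputable def uf (f : Red.DS (Sk k) N ⟶ Red.DS (Sk k) M) (m : M) :
    MonoidAlgebra k (Multiplicative N) :=
  (Scheme.ΓSpecIso (CommRingCat.of (MonoidAlgebra k (Multiplicative N)))).hom
    (chr (x0 k N ≫ f) m)

theorem chr_x0_comp (f : Red.DS (Sk k) N ⟶ Red.DS (Sk k) M) (m : M) :
    chr (x0 k N ≫ f) m =
      (Scheme.ΓSpecIso (CommRingCat.of (MonoidAlgebra k (Multiplicative N)))).inv (uf f m) := by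
  unfold uf
  exact (Iso.hom_inv_id_apply _ _).symm

theorem chr_P_comp {B : Type u} [CommRing B] [Algebra k B]
    (θ : MonoidAlgebra k (Multiplicative N) →ₐ[k] B)
    (f : Red.DS (Sk k) N ⟶ Red.DS (Sk k) M) (m : M) :
    chr (P θ ≫ f) m = (Scheme.ΓSpecIso (CommRingCat.of B)).inv (θ (uf f m)) := by
  unfold P
  rw [Category.assoc, chr_comp, chr_x0_comp]
  exact appTop_specMap_inv (CommRingCat.ofHom θ.toRingHom) _

theorem P_mul {B : Type u} [CommRing B] [Algebra k B]
    (θ₁ θ₂ θ₃ : MonoidAlgebra k (Multiplicative N) →ₐ[k] B)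
    (h : ∀ n : N, θ₃ (MonoidAlgebra.single (Multiplicative.ofAdd n) 1) =
      θ₁ (MonoidAlgebra.single (Multiplicative.ofAdd n) 1) *
        θ₂ (MonoidAlgebra.single (Multiplicative.ofAdd n) 1)) :
    P θ₃ = P θ₁ * P θ₂ := by
  apply chr_injective
  intro n
  rw [chr_mul, chr_P, chr_P, chr_P, h n, map_mul]

theorem uf_grouplike (f : Red.DS (Sk k) N ⟶ Red.DS (Sk k) M) [IsMonHom f] (m : M) :
    thD (uf f m) = th1 (uf f m) * th2 (uf f m) := by
  have hP : P (thD (k := k) (G := Multiplicative N)) =
      P (th1 (k := k) (G := Multiplicative N)) * P (th2 (k := k) (G := Multiplicative N)) :=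
    P_mul _ _ _ (fun n => thD_single _)
  have h1 : chr (P (thD (k := k) (G := Multiplicative N)) ≫ f) m =
      chr ((P (th1 (k := k) (G := Multiplicative N)) ≫ f) *
        (P (th2 (k := k) (G := Multiplicative N)) ≫ f)) m := by
    rw [hP, MonObj.mul_comp (P (th1 (k := k) (G := Multiplicative N)))
      (P (th2 (k := k) (G := Multiplicative N))) f]
  rw [chr_mul, chr_P_comp, chr_P_comp, chr_P_comp, ← map_mul] at h1
  have h2 := congrArg (Scheme.ΓSpecIso _).hom h1
  rwa [Iso.inv_hom_id_apply, Iso.inv_hom_id_apply] at h2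

theorem uf_ne_zero (f : Red.DS (Sk k) N ⟶ Red.DS (Sk k) M) (m : M) : uf f m ≠ 0 := by
  intro h0
  have h1 : uf f m * uf f (-m) = 1 := by
    unfold uf
    rw [← map_mul, chr_mul_neg, map_one]
  rw [h0, MulZeroClass.zero_mul] at h1
  exact zero_ne_one h1

/-- Over a field, every homomorphism of diagonalisable groups comes from a homomorphism of the
character groups. -/
theorem exists_eq_DSmap (f : Red.DS (Sk k) N ⟶ Red.DS (Sk k) M) [IsMonHom f] :
    ∃ φ : M →+ N, f = Red.DSmap (Sk k) φ := by
  have hu : ∀ m, ∃ g : Multiplicative N, uf f m = MonoidAlgebra.single g 1 := fun m =>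
    grouplike_eq_single (uf f m) (uf_ne_zero f m) (uf_grouplike f m)
  choose φ₀ hφ₀ using hu
  have hchr : ∀ m, chr (x0 k N ≫ f) m = chr (x0 k N) (Multiplicative.toAdd (φ₀ m)) := by
    intro m
    rw [chr_x0, chr_x0_comp, hφ₀ m]
    rfl
  have hadd : ∀ m m', φ₀ (m + m') = φ₀ m * φ₀ m' := by
    intro m m'
    have h1 : uf f (m + m') = uf f m * uf f m' := by
      unfold uf
      rw [chr_add, map_mul]
    rw [hφ₀, hφ₀, hφ₀, MonoidAlgebra.single_mul_single, _root_.mul_one] at h1
    exact (MonoidAlgebra.single_left_inj one_ne_zero).mp h1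
  let φ : M →+ N := AddMonoidHom.mk' (fun m => Multiplicative.toAdd (φ₀ m)) (fun m m' => by
    rw [hadd]
    rfl)
  refine ⟨φ, ?_⟩
  haveI := isIso_x0 (k := k) (N := N)
  rw [← cancel_epi (x0 k N)]
  apply chr_injective
  intro m
  rw [chr_DSmap]
  exact hchr m

theorem DSmap_injective {φ φ' : M →+ N} (h : Red.DSmap (Sk k) φ = Red.DSmap (Sk k) φ') :
    φ = φ' := by
  ext m
  have h1 : chr (x0 k N ≫ Red.DSmap (Sk k) φ) m = chr (x0 k N ≫ Red.DSmap (Sk k) φ') m := by
    rw [h]
  rw [chr_DSmap, chr_DSmap, chr_x0, chr_x0] at h1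
  have h2 := congrArg (Scheme.ΓSpecIso _).hom h1
  rw [Iso.inv_hom_id_apply, Iso.inv_hom_id_apply] at h2
  have h3 := (MonoidAlgebra.single_left_inj one_ne_zero).mp h2
  exact Multiplicative.ofAdd.injective h3

end Groth.Agent.Lib.DiagHom
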