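import Mathlib

/-!
# Embedding a diagram over a preorder into a diagram of injective objects (helper8)
APPEND-ONLY once landed.
-/

set_option autoImplicit false
universe w v u
open CategoryTheory CategoryTheory.Limits

namespace Groth.Agent.Lib.DiagInjH8

variable {A : Type u} [Category.{v} A] [Abelian A] [EnoughInjectives A]
  {ι : Type w} [Preorder ι] [HasProductsOfShape ι A]
  [∀ i : ι, HasProductsOfShape {j : ι // i ≤ j} A] (D : ι ⥤ A)

/-- the injective hulls of the terms -/
noncomputable abbrev Ij (j : ι) : A := Injective.under (D.obj j)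

/-- the objects of the coinduced diagram -/
noncomputable abbrev Eo (i : ι) : A := ∏ᶜ (fun j : {j : ι // i ≤ j} => Ij D j.1)

/-- the transition maps -/
noncomputable def Em {i i' : ι} (h : i ≤ i') : Eo D i ⟶ Eo D i' :=
  Pi.lift (fun j : {j : ι // i' ≤ j} =>
    Pi.π (fun j : {j : ι // i ≤ j} => Ij D j.1) ⟨j.1, h.trans j.2⟩)

@[reassoc (attr := simp)]
lemma Em_π {i i' : ι} (h : i ≤ i') (j : {j : ι // i' ≤ j}) :
    Em D h ≫ Pi.π (fun j : {j : ι // i' ≤ j} => Ij D j.1) j =
      Pi.π (fun j : {j : ι // i ≤ j} => Ij D j.1) ⟨j.1, h.trans j.2⟩ := by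
  simp [Em]

/-- the diagram of injectives -/
noncomputable def E : ι ⥤ A where
  obj i := Eo D i
  map f := Em D f.le
  map_id i := by
    apply Pi.hom_ext
    intro j
    rw [Em_π, Category.id_comp]
  map_comp f g := by
    apply Pi.hom_ext
    intro j
    rw [Category.assoc, Em_π, Em_π, Em_π]

instance (i : ι) : Injective ((E D).obj i) := inferInstanceAs (Injective (Eo D i))

/-- the embedding -/
noncomputable def emb : D ⟶ E D where
  app i := Pi.lift (fun j : {j : ι // i ≤ j} => D.map (homOfLE j.2) ≫ Injective.ι (D.obj j.1))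
  naturality i i' f := by
    apply Pi.hom_ext
    intro j
    show (D.map f ≫ Pi.lift (fun j : {j : ι // i' ≤ j} =>
        D.map (homOfLE j.2) ≫ Injective.ι (D.obj j.1))) ≫
        Pi.π (fun j : {j : ι // i' ≤ j} => Ij D j.1) j =
      (Pi.lift (fun j : {j : ι // i ≤ j} =>
        D.map (homOfLE j.2) ≫ Injective.ι (D.obj j.1)) ≫ Em D f.le) ≫
        Pi.π (fun j : {j : ι // i' ≤ j} => Ij D j.1) j
    rw [Category.assoc, Category.assoc, Em_π, Pi.lift_π, Pi.lift_π, ← Category.assoc,
      ← D.map_comp]
    rfl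

instance (i : ι) : Mono ((emb D).app i) := by
  have h : (emb D).app i ≫ Pi.π (fun j : {j : ι // i ≤ j} => Ij D j.1) ⟨i, le_rfl⟩ =
      Injective.ι (D.obj i) := by
    have h1 : D.map (homOfLE (le_refl i)) = 𝟙 _ := D.map_id i
    refine (Pi.lift_π _ _).trans ?_
    show D.map (homOfLE (le_refl i)) ≫ _ = _
    rw [h1, Category.id_comp]
  exact mono_of_mono_fac h

instance : Mono (emb D) := NatTrans.mono_of_mono_app _

/-- the short exact sequence of diagrams `0 → D → E → E/D → 0` -/
noncomputable def SC : ShortComplex (ι ⥤ A) :=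
  ShortComplex.mk (emb D) (cokernel.π (emb D)) (cokernel.condition _)

lemma SC_shortExact : (SC D).ShortExact :=
  { exact := ShortComplex.exact_cokernel (emb D)
    mono_f := inferInstanceAs (Mono (emb D))
    epi_g := inferInstanceAs (Epi (cokernel.π (emb D))) }

end Groth.Agent.Lib.DiagInjH8
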