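import Mathlib

/-!
# Restriction of `S₃`-invariants of `A ⊗ A ⊗ A` to a diagonal and the map `a ⊗ b ↦ 2a db - b da`
-/

set_option autoImplicit false
universe u v
open TensorProduct

namespace Groth.Agent.Lib.DiagS3H3

section

variable (k : Type u) [Field k] [CharZero k] (A : Type v) [CommRing A] [Algebra k A]

/-- The symmetrised pure tensor. -/
def sym3 (a b c : A) : A ⊗[k] (A ⊗[k] A) :=
  a ⊗ₜ[k] (b ⊗ₜ[k] c) + b ⊗ₜ[k] (a ⊗ₜ[k] c) + a ⊗ₜ[k] (c ⊗ₜ[k] b) +
    c ⊗ₜ[k] (a ⊗ₜ[k] b) + b ⊗ₜ[k] (c ⊗ₜ[k] a) + c ⊗ₜ[k] (b ⊗ₜ[k] a)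

theorem sym3_s₁ (a b c : A) :
    TensorProduct.leftComm k A A A (sym3 k A a b c) = sym3 k A a b c := by
  simp only [sym3, map_add, TensorProduct.leftComm_tmul]
  abel

theorem sym3_s₂ (a b c : A) :
    LinearMap.lTensor A (TensorProduct.comm k A A).toLinearMap (sym3 k A a b c) =
      sym3 k A a b c := by
  simp only [sym3, map_add, LinearMap.lTensor_tmul, LinearEquiv.coe_coe, TensorProduct.comm_tmul]
  abel

/-- The submodule of invariants. -/
def inv : Submodule k (A ⊗[k] (A ⊗[k] A)) where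
  carrier := {x | TensorProduct.leftComm k A A A x = x ∧
    LinearMap.lTensor A (TensorProduct.comm k A A).toLinearMap x = x}
  add_mem' := by
    rintro x y ⟨hx1, hx2⟩ ⟨hy1, hy2⟩
    exact ⟨by rw [map_add, hx1, hy1], by rw [map_add, hx2, hy2]⟩
  zero_mem' := ⟨map_zero _, map_zero _⟩
  smul_mem' := by
    rintro c x ⟨hx1, hx2⟩
    exact ⟨by rw [map_smul, hx1], by rw [map_smul, hx2]⟩

theorem mem_inv {x : A ⊗[k] (A ⊗[k] A)} : x ∈ inv k A ↔
    TensorProduct.leftComm k A A A x = x ∧
      LinearMap.lTensor A (TensorProduct.comm k A A).toLinearMap x = x := Iff.rfl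

theorem sym3_mem (a b c : A) : sym3 k A a b c ∈ inv k A := ⟨sym3_s₁ k A a b c, sym3_s₂ k A a b c⟩

variable {k A}
variable (r : A ⊗[k] (A ⊗[k] A) →ₗ[k] A ⊗[k] A)
  (hr : ∀ a b c : A, r (a ⊗ₜ[k] (b ⊗ₜ[k] c)) = (a * b) ⊗ₜ[k] c)

include hr in
theorem r_sym3 (a b c : A) : r (sym3 k A a b c) =
    (a * b) ⊗ₜ[k] c + (b * a) ⊗ₜ[k] c + (a * c) ⊗ₜ[k] b + (c * a) ⊗ₜ[k] b + (b * c) ⊗ₜ[k] a +
      (c * b) ⊗ₜ[k] a := by
  simp only [sym3, map_add, hr]

/-- The image of the invariants. -/
def R' : Submodule k (A ⊗[k] A) := (inv k A).map r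

/-- the element `1 ⊗ a - a ⊗ 1`. -/
def δ (a : A) : A ⊗[k] A := (1 : A) ⊗ₜ[k] a - a ⊗ₜ[k] (1 : A)

include hr in
theorem key_pure (g₁ g₂ a b : A) :
    (g₁ ⊗ₜ[k] g₂) * (δ (k := k) a * δ (k := k) b) ∈ R' r := by
  refine ⟨(2 : k)⁻¹ • (sym3 k A g₁ 1 (g₂ * a * b) - sym3 k A g₁ b (g₂ * a) -
    sym3 k A (g₁ * a) 1 (g₂ * b) + sym3 k A (g₁ * a) b g₂), ?_, ?_⟩
  · exact Submodule.smul_mem _ _ (Submodule.add_mem _ (Submodule.sub_mem _
      (Submodule.sub_mem _ (sym3_mem k A _ _ _) (sym3_mem k A _ _ _)) (sym3_mem k A _ _ _))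
      (sym3_mem k A _ _ _))
  · have h2 : (g₁ ⊗ₜ[k] g₂) * (δ (k := k) a * δ (k := k) b) =
        (2 : k)⁻¹ • ((2 : k) • ((g₁ ⊗ₜ[k] g₂) * (δ (k := k) a * δ (k := k) b))) := by
      rw [smul_smul, inv_mul_cancel₀ (two_ne_zero), one_smul]
    rw [h2, map_smul]
    congr 1
    rw [map_add, map_sub, map_sub, r_sym3 r hr, r_sym3 r hr, r_sym3 r hr, r_sym3 r hr, two_smul]
    simp only [δ, sub_mul, mul_sub, Algebra.TensorProduct.tmul_mul_tmul, mul_one, one_mul]
    ring_nf

include hr in
theorem key_g (g : A ⊗[k] A) (a b : A) : g * (δ (k := k) a * δ (k := k) b) ∈ R' r := by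
  induction g using TensorProduct.induction_on with
  | zero => rw [zero_mul]; exact Submodule.zero_mem _
  | tmul g₁ g₂ => exact key_pure r hr g₁ g₂ a b
  | add x y hx hy => rw [add_mul]; exact Submodule.add_mem _ hx hy

include hr in
theorem key_j (a : A) (j : A ⊗[k] A) (hj : j ∈ KaehlerDifferential.ideal k A) :
    ∀ g : A ⊗[k] A, g * (δ (k := k) a * j) ∈ R' r := by
  rw [← KaehlerDifferential.span_range_eq_ideal] at hj
  induction hj using Submodule.span_induction with
  | mem x hx =>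
    obtain ⟨b, rfl⟩ := hx
    intro g
    exact key_g r hr g a b
  | zero => intro g; rw [mul_zero, mul_zero]; exact Submodule.zero_mem _
  | add x y _ _ hx hy =>
    intro g
    rw [mul_add, mul_add]
    exact Submodule.add_mem _ (hx g) (hy g)
  | smul c x _ hx =>
    intro g
    have : g * (δ (k := k) a * c • x) = (g * c) * (δ (k := k) a * x) := by
      rw [smul_eq_mul]; ring
    rw [this]
    exact hx _

include hr in
theorem key_i (i : A ⊗[k] A) (hi : i ∈ KaehlerDifferential.ideal k A) (j : A ⊗[k] A)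
    (hj : j ∈ KaehlerDifferential.ideal k A) : ∀ g : A ⊗[k] A, g * (i * j) ∈ R' r := by
  rw [← KaehlerDifferential.span_range_eq_ideal] at hi
  induction hi using Submodule.span_induction with
  | mem x hx =>
    obtain ⟨a, rfl⟩ := hx
    intro g
    exact key_j r hr a j hj g
  | zero => intro g; rw [zero_mul, mul_zero]; exact Submodule.zero_mem _
  | add x y _ _ hx hy =>
    intro g
    rw [add_mul, mul_add]
    exact Submodule.add_mem _ (hx g) (hy g)
  | smul c x _ hx =>
    intro g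
    have : g * (c • x * j) = (g * c) * (x * j) := by
      rw [smul_eq_mul]; ring
    rw [this]
    exact hx _

include hr in
theorem sq_le : ∀ y ∈ (KaehlerDifferential.ideal k A) ^ 2, y ∈ R' r := by
  intro y hy
  rw [pow_two] at hy
  induction hy using Submodule.mul_induction_on' with
  | mem_mul_mem i hi j hj =>
    have := key_i r hr i hi j hj 1
    rwa [one_mul] at this
  | add x _ y _ hx hy => exact Submodule.add_mem _ hx hy

/-- `ℓ(a) = 2 a ⊗ 1 + 1 ⊗ a`. -/
def ell (a : A) : A ⊗[k] A := a ⊗ₜ[k] (1 : A) + a ⊗ₜ[k] (1 : A) + (1 : A) ⊗ₜ[k] a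

include hr in
theorem ell_mem (a : A) : ell (k := k) a ∈ R' r := by
  refine ⟨a ⊗ₜ[k] ((1 : A) ⊗ₜ[k] (1 : A)) + (1 : A) ⊗ₜ[k] (a ⊗ₜ[k] (1 : A)) +
    (1 : A) ⊗ₜ[k] ((1 : A) ⊗ₜ[k] a), ⟨?_, ?_⟩, ?_⟩
  · simp only [map_add, TensorProduct.leftComm_tmul]
    abel
  · simp only [map_add, LinearMap.lTensor_tmul, LinearEquiv.coe_coe, TensorProduct.comm_tmul]
    abel
  · simp only [map_add, hr, ell, mul_one, one_mul]

variable (D : A ⊗[k] A →ₗ[k] Ω[A⁄k])
  (hD : ∀ a b : A, D (a ⊗ₜ[k] b) =
    (2 : A) • (a • KaehlerDifferential.D k A b) - b • KaehlerDifferential.D k A a)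

include hD in
theorem fact1 (y : A ⊗[k] A) :
    D y + KaehlerDifferential.D k A (Algebra.TensorProduct.lmul' k (S := A) y) =
      (KaehlerDifferential.D k A).tensorProductTo y + (KaehlerDifferential.D k A).tensorProductTo y
        + (KaehlerDifferential.D k A).tensorProductTo y := by
  induction y using TensorProduct.induction_on with
  | zero => simp
  | tmul a b =>
    rw [hD, Algebra.TensorProduct.lmul'_apply_tmul, Derivation.leibniz, Derivation.tensorProductTo_tmul]
    module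
  | add x y hx hy =>
    simp only [map_add] at hx hy ⊢
    rw [add_add_add_comm, hx, hy]
    abel

/-- The symmetrisation operator. -/
noncomputable def Sym : A ⊗[k] (A ⊗[k] A) →ₗ[k] A ⊗[k] (A ⊗[k] A) :=
  LinearMap.id + (TensorProduct.leftComm k A A A).toLinearMap +
    LinearMap.lTensor A (TensorProduct.comm k A A).toLinearMap +
    (TensorProduct.leftComm k A A A).toLinearMap ∘ₗ
      LinearMap.lTensor A (TensorProduct.comm k A A).toLinearMap +
    LinearMap.lTensor A (TensorProduct.comm k A A).toLinearMap ∘ₗ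
      (TensorProduct.leftComm k A A A).toLinearMap +
    (TensorProduct.leftComm k A A A).toLinearMap ∘ₗ
      LinearMap.lTensor A (TensorProduct.comm k A A).toLinearMap ∘ₗ
      (TensorProduct.leftComm k A A A).toLinearMap

theorem Sym_tmul (a b c : A) : Sym (k := k) (a ⊗ₜ[k] (b ⊗ₜ[k] c)) =
    a ⊗ₜ[k] (b ⊗ₜ[k] c) + b ⊗ₜ[k] (a ⊗ₜ[k] c) + a ⊗ₜ[k] (c ⊗ₜ[k] b) +
      c ⊗ₜ[k] (a ⊗ₜ[k] b) + b ⊗ₜ[k] (c ⊗ₜ[k] a) + c ⊗ₜ[k] (b ⊗ₜ[k] a) := by
  simp only [Sym, LinearMap.add_apply, LinearMap.id_apply, LinearMap.comp_apply,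
    LinearEquiv.coe_coe, TensorProduct.leftComm_tmul, LinearMap.lTensor_tmul,
    TensorProduct.comm_tmul]

theorem Sym_of_inv (x : A ⊗[k] (A ⊗[k] A)) (hx1 : TensorProduct.leftComm k A A A x = x)
    (hx2 : LinearMap.lTensor A (TensorProduct.comm k A A).toLinearMap x = x) :
    Sym (k := k) x = x + x + x + x + x + x := by
  simp only [Sym, LinearMap.add_apply, LinearMap.id_apply, LinearMap.comp_apply,
    LinearEquiv.coe_coe, hx1, hx2]

include hr hD in
theorem D_r_sym3 (t : A ⊗[k] (A ⊗[k] A)) : D (r (Sym (k := k) t)) = 0 := by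
  induction t using TensorProduct.induction_on with
  | zero => simp
  | add x y hx hy => rw [map_add, map_add, map_add, hx, hy, add_zero]
  | tmul a w =>
    induction w using TensorProduct.induction_on with
    | zero => simp
    | add x y hx hy =>
      rw [TensorProduct.tmul_add, map_add, map_add, map_add, hx, hy, add_zero]
    | tmul b c =>
      simp only [Sym_tmul, map_add, hr, hD, Derivation.leibniz]
      module

include hr hD in
theorem main :
    (∀ y : A ⊗[k] A, D y = 0 ↔ ∃ x : A ⊗[k] (A ⊗[k] A),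
        TensorProduct.leftComm k A A A x = x ∧
        LinearMap.lTensor A (TensorProduct.comm k A A).toLinearMap x = x ∧ r x = y) ∧
    Function.Surjective D := by
  have h3 : (3 : k) ≠ 0 := by norm_num
  constructor
  · intro y
    constructor
    · intro hy
      -- decompose y
      set f : A := Algebra.TensorProduct.lmul' k (S := A) y with hf
      set W := (KaehlerDifferential.D k A).tensorProductTo with hW
      have h1 := fact1 D hD y
      rw [hy, zero_add] at h1
      -- h1 : d f = W y + W y + W y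
      set y' : A ⊗[k] A := y - (3 : k)⁻¹ • ell (k := k) f with hy'
      have hmy' : Algebra.TensorProduct.lmul' k (S := A) y' = 0 := by
        rw [hy', map_sub, map_smul, ell, map_add, map_add, Algebra.TensorProduct.lmul'_apply_tmul,
          Algebra.TensorProduct.lmul'_apply_tmul, mul_one, one_mul, ← hf]
        have : f + f + f = (3 : k) • f := by
          rw [← Nat.cast_ofNat (R := k), Nat.cast_smul_eq_nsmul]; abel
        rw [this, smul_smul, inv_mul_cancel₀ h3, one_smul, sub_self]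
      have hWy' : W y' = 0 := by
        have hWell : W (ell (k := k) f) = KaehlerDifferential.D k A f := by
          rw [ell, map_add, map_add, hW, Derivation.tensorProductTo_tmul,
            Derivation.tensorProductTo_tmul, Derivation.map_one_eq_zero, smul_zero, one_smul,
            zero_add, zero_add]
        have hsm : W ((3 : k)⁻¹ • ell (k := k) f) = (3 : k)⁻¹ • W (ell (k := k) f) := by
          rw [hW]
          exact LinearMap.map_smul_of_tower _ _ _
        rw [hy', map_sub, hsm, hWell, h1]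
        have : W y + W y + W y = (3 : k) • W y := by
          rw [← Nat.cast_ofNat (R := k), Nat.cast_smul_eq_nsmul]; abel
        rw [this, smul_smul, inv_mul_cancel₀ h3, one_smul, sub_self]
      have hy'I : y' ∈ KaehlerDifferential.ideal k A := by
        rw [RingHom.mem_ker]; exact hmy'
      have hy'2 : y' ∈ (KaehlerDifferential.ideal k A) ^ 2 := by
        rw [← Ideal.toCotangent_eq_zero _ ⟨y', hy'I⟩,
          ← KaehlerDifferential.D_tensorProductTo ⟨y', hy'I⟩]
        exact hWy'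
      have hyR : y ∈ R' r := by
        have : y = (3 : k)⁻¹ • ell (k := k) f + y' := by rw [hy']; abel
        rw [this]
        exact Submodule.add_mem _ (Submodule.smul_mem _ _ (ell_mem r hr f)) (sq_le r hr y' hy'2)
      obtain ⟨x, ⟨hx1, hx2⟩, hx3⟩ := hyR
      exact ⟨x, hx1, hx2, hx3⟩
    · rintro ⟨x, hx1, hx2, rfl⟩
      have h := D_r_sym3 r hr D hD x
      rw [Sym_of_inv x hx1 hx2] at h
      have h6 : (6 : k) • D (r x) = 0 := by
        rw [← h, ← Nat.cast_ofNat (R := k), Nat.cast_smul_eq_nsmul, ← map_nsmul, ← map_nsmul]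
        congr 2
        abel
      rcases smul_eq_zero.mp h6 with h' | h'
      · norm_num at h'
      · exact h'
  · intro ω
    obtain ⟨y₀, hy₀⟩ := KaehlerDifferential.tensorProductTo_surjective k A ω
    set f : A := Algebra.TensorProduct.lmul' k (S := A) y₀ with hf
    refine ⟨(3 : k)⁻¹ • (y₀ - f ⊗ₜ[k] (1 : A)), ?_⟩
    have h1 := fact1 D hD (y₀ - f ⊗ₜ[k] (1 : A))
    have hm : Algebra.TensorProduct.lmul' k (S := A) (y₀ - f ⊗ₜ[k] (1 : A)) = 0 := by
      rw [map_sub, Algebra.TensorProduct.lmul'_apply_tmul, mul_one, ← hf, sub_self]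
    have hW : (KaehlerDifferential.D k A).tensorProductTo (y₀ - f ⊗ₜ[k] (1 : A)) = ω := by
      rw [map_sub, hy₀, Derivation.tensorProductTo_tmul, Derivation.map_one_eq_zero, smul_zero,
        sub_zero]
    rw [hm, map_zero, add_zero, hW] at h1
    rw [map_smul, h1]
    have : ω + ω + ω = (3 : k) • ω := by
      rw [← Nat.cast_ofNat (R := k), Nat.cast_smul_eq_nsmul]; abel
    rw [this, smul_smul, inv_mul_cancel₀ h3, one_smul]

end

end Groth.Agent.Lib.DiagS3H3
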