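import Mathlib

/-!
# Restriction of invariants of `A ⊗ A ⊗ A` under the swap of the last two factors to two diagonals
-/

set_option autoImplicit false
universe u v
open TensorProduct

namespace Groth.Agent.Lib.DiagS3bH3

section

variable {k : Type u} [Field k] [CharZero k] {A : Type v} [CommRing A] [Algebra k A]

/-- the element `1 ⊗ a - a ⊗ 1`. -/
def δ (a : A) : A ⊗[k] A := (1 : A) ⊗ₜ[k] a - a ⊗ₜ[k] (1 : A)

/-- A `k`-submodule of `A ⊗ A` containing all `(g₁ ⊗ g₂) δ(a) δ(b)` contains `I²`. -/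
theorem sq_le_of_pure (Q : Submodule k (A ⊗[k] A))
    (hQ : ∀ g₁ g₂ a b : A, (g₁ ⊗ₜ[k] g₂) * (δ (k := k) a * δ (k := k) b) ∈ Q) :
    ∀ y ∈ (KaehlerDifferential.ideal k A) ^ 2, y ∈ Q := by
  have key_g : ∀ (g : A ⊗[k] A) (a b : A), g * (δ (k := k) a * δ (k := k) b) ∈ Q := by
    intro g a b
    induction g using TensorProduct.induction_on with
    | zero => rw [zero_mul]; exact Submodule.zero_mem _
    | tmul g₁ g₂ => exact hQ g₁ g₂ a b
    | add x y hx hy => rw [add_mul]; exact Submodule.add_mem _ hx hy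
  have key_j : ∀ (a : A) (j : A ⊗[k] A), j ∈ KaehlerDifferential.ideal k A →
      ∀ g : A ⊗[k] A, g * (δ (k := k) a * j) ∈ Q := by
    intro a j hj
    rw [← KaehlerDifferential.span_range_eq_ideal] at hj
    induction hj using Submodule.span_induction with
    | mem x hx =>
      obtain ⟨b, rfl⟩ := hx
      intro g
      exact key_g g a b
    | zero => intro g; rw [mul_zero, mul_zero]; exact Submodule.zero_mem _
    | add x y _ _ hx hy =>
      intro g
      rw [mul_add, mul_add]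
      exact Submodule.add_mem _ (hx g) (hy g)
    | smul c x _ hx =>
      intro g
      have : g * (δ (k := k) a * c • x) = (g * c) * (δ (k := k) a * x) := by
        rw [smul_eq_mul]; ring
      rw [this]
      exact hx _
  have key_i : ∀ (i : A ⊗[k] A), i ∈ KaehlerDifferential.ideal k A → ∀ (j : A ⊗[k] A),
      j ∈ KaehlerDifferential.ideal k A → ∀ g : A ⊗[k] A, g * (i * j) ∈ Q := by
    intro i hi j hj
    rw [← KaehlerDifferential.span_range_eq_ideal] at hi
    induction hi using Submodule.span_induction with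
    | mem x hx =>
      obtain ⟨a, rfl⟩ := hx
      intro g
      exact key_j a j hj g
    | zero => intro g; rw [zero_mul, mul_zero]; exact Submodule.zero_mem _
    | add x y _ _ hx hy =>
      intro g
      rw [add_mul, mul_add]
      exact Submodule.add_mem _ (hx g) (hy g)
    | smul c x _ hx =>
      intro g
      have : g * (c • x * j) = (g * c) * (x * j) := by
        rw [smul_eq_mul]; ring
      rw [this]
      exact hx _
  intro y hy
  rw [pow_two] at hy
  induction hy using Submodule.mul_induction_on' with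
  | mem_mul_mem i hi j hj =>
    have := key_i i hi j hj 1
    rwa [one_mul] at this
  | add x _ y _ hx hy => exact Submodule.add_mem _ hx hy

/-- An element of `A ⊗ A` killed by multiplication and by `a ⊗ b ↦ a db` lies in `I²`. -/
theorem mem_sq_of (y : A ⊗[k] A) (hm : Algebra.TensorProduct.lmul' k (S := A) y = 0)
    (hW : (KaehlerDifferential.D k A).tensorProductTo y = 0) :
    y ∈ (KaehlerDifferential.ideal k A) ^ 2 := by
  have hyI : y ∈ KaehlerDifferential.ideal k A := by
    rw [RingHom.mem_ker]; exact hm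
  rw [← Ideal.toCotangent_eq_zero _ ⟨y, hyI⟩, ← KaehlerDifferential.D_tensorProductTo ⟨y, hyI⟩]
  exact hW

theorem lmul'_comm (q : A ⊗[k] A) : Algebra.TensorProduct.lmul' k (S := A)
    (TensorProduct.comm k A A q) = Algebra.TensorProduct.lmul' k (S := A) q := by
  induction q using TensorProduct.induction_on with
  | zero => simp
  | tmul a b => simp [mul_comm]
  | add x y hx hy => rw [map_add, map_add, map_add, hx, hy]

/-- The swap of `A ⊗ A` preserves `I²`. -/
theorem comm_mem_sq (y : A ⊗[k] A) (hy : y ∈ (KaehlerDifferential.ideal k A) ^ 2) :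
    TensorProduct.comm k A A y ∈ (KaehlerDifferential.ideal k A) ^ 2 := by
  have hτ : ∀ z : A ⊗[k] A, TensorProduct.comm k A A z = Algebra.TensorProduct.comm k A A z :=
    fun z => rfl
  have hI : ∀ i ∈ KaehlerDifferential.ideal k A,
      Algebra.TensorProduct.comm k A A i ∈ KaehlerDifferential.ideal k A := by
    intro i hi
    rw [RingHom.mem_ker] at hi ⊢
    rw [← hτ, lmul'_comm, hi]
  rw [hτ]
  rw [pow_two] at hy ⊢
  induction hy using Submodule.mul_induction_on' with
  | mem_mul_mem i hi j hj =>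
    rw [map_mul]
    exact Ideal.mul_mem_mul (hI i hi) (hI j hj)
  | add x _ y _ hx hy =>
    rw [map_add]
    exact Ideal.add_mem _ hx hy

variable (r₁₂ r₂₃ : A ⊗[k] (A ⊗[k] A) →ₗ[k] A ⊗[k] A)
  (h₁₂ : ∀ a u v : A, r₁₂ (a ⊗ₜ[k] (u ⊗ₜ[k] v)) = (a * u) ⊗ₜ[k] v)
  (h₂₃ : ∀ a u v : A, r₂₃ (a ⊗ₜ[k] (u ⊗ₜ[k] v)) = (u * v) ⊗ₜ[k] a)

/-- Invariants under the swap of the last two factors. -/
def inv : Submodule k (A ⊗[k] (A ⊗[k] A)) where
  carrier := {x | LinearMap.lTensor A (TensorProduct.comm k A A).toLinearMap x = x}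
  add_mem' := by
    intro x y hx hy
    change _ = _ at hx hy ⊢
    rw [map_add, hx, hy]
  zero_mem' := map_zero _
  smul_mem' := by
    intro c x hx
    change _ = _ at hx ⊢
    rw [map_smul, hx]

/-- symmetrisation of a pure tensor in the last two factors -/
def sym2 (a u v : A) : A ⊗[k] (A ⊗[k] A) := a ⊗ₜ[k] (u ⊗ₜ[k] v) + a ⊗ₜ[k] (v ⊗ₜ[k] u)

theorem sym2_mem (a u v : A) : sym2 (k := k) a u v ∈ inv (k := k) (A := A) := by
  change _ = _
  simp only [sym2, map_add, LinearMap.lTensor_tmul, LinearEquiv.coe_coe, TensorProduct.comm_tmul]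
  abel

/-- The pairs `(r₁₂ x, r₂₃ x)` with `x` invariant. -/
def R' : Submodule k ((A ⊗[k] A) × (A ⊗[k] A)) := (inv (k := k) (A := A)).map (r₁₂.prod r₂₃)

theorem mem_R' {p q : A ⊗[k] A} : (p, q) ∈ R' r₁₂ r₂₃ ↔
    ∃ x : A ⊗[k] (A ⊗[k] A),
      LinearMap.lTensor A (TensorProduct.comm k A A).toLinearMap x = x ∧ r₁₂ x = p ∧ r₂₃ x = q := by
  constructor
  · rintro ⟨x, hx, hxe⟩
    exact ⟨x, hx, congrArg Prod.fst hxe, congrArg Prod.snd hxe⟩
  · rintro ⟨x, hx, h1, h2⟩
    exact ⟨x, hx, by change (r₁₂ x, r₂₃ x) = (p, q); rw [h1, h2]⟩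

include h₁₂ h₂₃ in
theorem left_pure (g₁ g₂ a b : A) :
    ((g₁ ⊗ₜ[k] g₂) * (δ (k := k) a * δ (k := k) b), (0 : A ⊗[k] A)) ∈ R' r₁₂ r₂₃ := by
  rw [mem_R']
  -- h = g₁(1) g₂(3) (a₃ - a₂)(b₃ - b₁)
  refine ⟨sym2 (k := k) g₁ 1 (g₂ * a * b) - sym2 (k := k) (g₁ * b) 1 (g₂ * a) -
    sym2 (k := k) g₁ a (g₂ * b) + sym2 (k := k) (g₁ * b) a g₂, ?_, ?_, ?_⟩
  · change _ ∈ inv (k := k) (A := A)
    exact Submodule.add_mem _ (Submodule.sub_mem _ (Submodule.sub_mem _ (sym2_mem _ _ _)
      (sym2_mem _ _ _)) (sym2_mem _ _ _)) (sym2_mem _ _ _)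
  · simp only [sym2, map_add, map_sub, h₁₂, δ, sub_mul, mul_sub,
      Algebra.TensorProduct.tmul_mul_tmul, mul_one, one_mul]
    ring_nf
  · simp only [sym2, map_add, map_sub, h₂₃, mul_one, one_mul]
    ring_nf

include h₁₂ h₂₃ in
theorem right_pure (g₁ g₂ a b : A) :
    ((0 : A ⊗[k] A), (g₁ ⊗ₜ[k] g₂) * (δ (k := k) a * δ (k := k) b)) ∈ R' r₁₂ r₂₃ := by
  -- h = g₂(1) g₁(2) (a₁ - a₂)(b₁ - b₃)
  have h2 : ((0 : A ⊗[k] A), (g₁ ⊗ₜ[k] g₂) * (δ (k := k) a * δ (k := k) b)) =
      (2 : k)⁻¹ • ((0 : A ⊗[k] A), (2 : k) • ((g₁ ⊗ₜ[k] g₂) * (δ (k := k) a * δ (k := k) b))) := by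
    rw [Prod.smul_mk, smul_zero, smul_smul, inv_mul_cancel₀ two_ne_zero, one_smul]
  rw [h2]
  apply Submodule.smul_mem
  rw [mem_R']
  refine ⟨sym2 (k := k) (g₂ * a * b) g₁ 1 - sym2 (k := k) (g₂ * a) g₁ b -
    sym2 (k := k) (g₂ * b) (g₁ * a) 1 + sym2 (k := k) g₂ (g₁ * a) b, ?_, ?_, ?_⟩
  · change _ ∈ inv (k := k) (A := A)
    exact Submodule.add_mem _ (Submodule.sub_mem _ (Submodule.sub_mem _ (sym2_mem _ _ _)
      (sym2_mem _ _ _)) (sym2_mem _ _ _)) (sym2_mem _ _ _)
  · simp only [sym2, map_add, map_sub, h₁₂, mul_one, one_mul]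
    ring_nf
  · simp only [sym2, map_add, map_sub, h₂₃, δ, sub_mul, mul_sub, two_smul,
      Algebra.TensorProduct.tmul_mul_tmul, mul_one, one_mul]
    ring_nf

include h₁₂ h₂₃ in
theorem sq_left (y : A ⊗[k] A) (hy : y ∈ (KaehlerDifferential.ideal k A) ^ 2) :
    (y, (0 : A ⊗[k] A)) ∈ R' r₁₂ r₂₃ := by
  have := sq_le_of_pure ((R' r₁₂ r₂₃).comap (LinearMap.inl k (A ⊗[k] A) (A ⊗[k] A)))
    (fun g₁ g₂ a b => left_pure r₁₂ r₂₃ h₁₂ h₂₃ g₁ g₂ a b) y hy
  exact this

include h₁₂ h₂₃ in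
theorem sq_right (y : A ⊗[k] A) (hy : y ∈ (KaehlerDifferential.ideal k A) ^ 2) :
    ((0 : A ⊗[k] A), y) ∈ R' r₁₂ r₂₃ := by
  have := sq_le_of_pure ((R' r₁₂ r₂₃).comap (LinearMap.inr k (A ⊗[k] A) (A ⊗[k] A)))
    (fun g₁ g₂ a b => right_pure r₁₂ r₂₃ h₁₂ h₂₃ g₁ g₂ a b) y hy
  exact this

/-- `X (g ⊗ a) = g ⊗ a ⊗ 1 + g ⊗ 1 ⊗ a`. -/
noncomputable def X : A ⊗[k] A →ₗ[k] A ⊗[k] (A ⊗[k] A) :=
  LinearMap.lTensor A (Algebra.TensorProduct.includeLeft : A →ₐ[k] A ⊗[k] A).toLinearMap +
    LinearMap.lTensor A (Algebra.TensorProduct.includeRight : A →ₐ[k] A ⊗[k] A).toLinearMap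

theorem X_tmul (g a : A) : X (k := k) (g ⊗ₜ[k] a) =
    g ⊗ₜ[k] (a ⊗ₜ[k] (1 : A)) + g ⊗ₜ[k] ((1 : A) ⊗ₜ[k] a) := by
  simp [X]

theorem X_mem (p : A ⊗[k] A) : X (k := k) p ∈ inv (k := k) (A := A) := by
  induction p using TensorProduct.induction_on with
  | zero => rw [map_zero]; exact Submodule.zero_mem _
  | tmul g a =>
    rw [X_tmul]
    change _ = _
    simp only [map_add, LinearMap.lTensor_tmul, LinearEquiv.coe_coe, TensorProduct.comm_tmul]
    abel
  | add x y hx hy => rw [map_add]; exact Submodule.add_mem _ hx hy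

include h₁₂ in
theorem r₁₂_X (p : A ⊗[k] A) : r₁₂ (X (k := k) p) =
    (Algebra.TensorProduct.lmul' k (S := A) p) ⊗ₜ[k] (1 : A) + p := by
  induction p using TensorProduct.induction_on with
  | zero => simp
  | tmul g a =>
    rw [X_tmul, map_add, h₁₂, h₁₂, Algebra.TensorProduct.lmul'_apply_tmul, mul_one]
  | add x y hx hy =>
    rw [map_add, map_add, hx, hy, map_add, TensorProduct.add_tmul]
    abel

include h₂₃ in
theorem r₂₃_X (p : A ⊗[k] A) : r₂₃ (X (k := k) p) =
    TensorProduct.comm k A A p + TensorProduct.comm k A A p := by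
  induction p using TensorProduct.induction_on with
  | zero => simp
  | tmul g a =>
    rw [X_tmul, map_add, h₂₃, h₂₃, TensorProduct.comm_tmul, mul_one, one_mul]
  | add x y hx hy =>
    rw [map_add, map_add, hx, hy, map_add]
    abel

variable (ψ : (A ⊗[k] A) × (A ⊗[k] A) →ₗ[k] Ω[A⁄k])
  (hψ : ∀ a u b v : A, ψ (a ⊗ₜ[k] u, b ⊗ₜ[k] v) =
    (2 : A) • (a • KaehlerDifferential.D k A u) - v • KaehlerDifferential.D k A b)

include hψ in
theorem ψ_left (p : A ⊗[k] A) : ψ (p, 0) =
    (KaehlerDifferential.D k A).tensorProductTo p + (KaehlerDifferential.D k A).tensorProductTo p := by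
  induction p using TensorProduct.induction_on with
  | zero =>
    rw [map_zero, add_zero]
    exact map_zero ψ
  | tmul a u =>
    have h := hψ a u 0 0
    rw [TensorProduct.zero_tmul, zero_smul, sub_zero] at h
    rw [h, Derivation.tensorProductTo_tmul, two_smul]
  | add x y hx hy =>
    have : ((x + y, 0) : (A ⊗[k] A) × (A ⊗[k] A)) = (x, 0) + (y, 0) := by
      rw [Prod.mk_add_mk, add_zero]
    rw [this, map_add, hx, hy, map_add]
    abel

include hψ in
theorem ψ_right (q : A ⊗[k] A) : ψ (0, q) =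
    -(KaehlerDifferential.D k A).tensorProductTo (TensorProduct.comm k A A q) := by
  induction q using TensorProduct.induction_on with
  | zero =>
    rw [map_zero, map_zero, neg_zero]
    exact map_zero ψ
  | tmul b v =>
    have h := hψ 0 0 b v
    rw [TensorProduct.zero_tmul, zero_smul, smul_zero, zero_sub] at h
    rw [h, TensorProduct.comm_tmul, Derivation.tensorProductTo_tmul]
  | add x y hx hy =>
    have : ((0, x + y) : (A ⊗[k] A) × (A ⊗[k] A)) = (0, x) + (0, y) := by
      rw [Prod.mk_add_mk, add_zero]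
    rw [this, map_add, hx, hy, map_add, map_add]
    abel

include hψ in
theorem ψ_eq (p q : A ⊗[k] A) : ψ (p, q) =
    (KaehlerDifferential.D k A).tensorProductTo p + (KaehlerDifferential.D k A).tensorProductTo p -
      (KaehlerDifferential.D k A).tensorProductTo (TensorProduct.comm k A A q) := by
  have : ((p, q) : (A ⊗[k] A) × (A ⊗[k] A)) = (p, 0) + (0, q) := by
    rw [Prod.mk_add_mk, add_zero, zero_add]
  rw [this, map_add, ψ_left ψ hψ, ψ_right ψ hψ]
  abel

include h₁₂ h₂₃ hψ in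
theorem main :
    (∀ p q : A ⊗[k] A, LinearMap.mul' k A p = LinearMap.mul' k A q →
      (ψ (p, q) = 0 ↔ ∃ x : A ⊗[k] (A ⊗[k] A),
        LinearMap.lTensor A (TensorProduct.comm k A A).toLinearMap x = x ∧ r₁₂ x = p ∧ r₂₃ x = q)) ∧
    (∀ ω : Ω[A⁄k], ∃ p q : A ⊗[k] A, LinearMap.mul' k A p = LinearMap.mul' k A q ∧ ψ (p, q) = ω) := by
  have hmul : ∀ z : A ⊗[k] A, LinearMap.mul' k A z = Algebra.TensorProduct.lmul' k (S := A) z := by
    intro z
    induction z using TensorProduct.induction_on with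
    | zero => simp
    | tmul a b => simp
    | add x y hx hy => rw [map_add, map_add, hx, hy]
  set m := Algebra.TensorProduct.lmul' k (S := A) with hm
  have h2 : (2 : k) ≠ 0 := two_ne_zero
  have hcc : ∀ z : A ⊗[k] A, TensorProduct.comm k A A (TensorProduct.comm k A A z) = z := by
    intro z
    induction z using TensorProduct.induction_on with
    | zero => simp
    | tmul a b => simp
    | add x y hx hy => rw [map_add, map_add, hx, hy]
  constructor
  · intro p q hpq
    rw [hmul, hmul] at hpq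
    constructor
    · intro h0
      rw [ψ_eq ψ hψ, sub_eq_zero] at h0
      -- h0 : W p + W p = W (τ q)
      rw [← mem_R']
      set f : A := m p with hf
      set x₀ : A ⊗[k] (A ⊗[k] A) := X (k := k) p - f ⊗ₜ[k] ((1 : A) ⊗ₜ[k] (1 : A)) with hx₀
      have hx₀inv : x₀ ∈ inv (k := k) (A := A) := by
        apply Submodule.sub_mem _ (X_mem p)
        change _ = _
        simp
      have hr1 : r₁₂ x₀ = p := by
        rw [hx₀, map_sub, r₁₂_X r₁₂ h₁₂, h₁₂, mul_one, ← hm, ← hf]
        abel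
      have hr2 : r₂₃ x₀ = TensorProduct.comm k A A p + TensorProduct.comm k A A p -
          (1 : A) ⊗ₜ[k] f := by
        rw [hx₀, map_sub, r₂₃_X r₂₃ h₂₃, h₂₃, mul_one]
      -- the difference in the second component lies in I²
      set y := q - r₂₃ x₀ with hy
      have hτy : TensorProduct.comm k A A y ∈ (KaehlerDifferential.ideal k A) ^ 2 := by
        apply mem_sq_of
        · rw [lmul'_comm, hy, hr2, map_sub, map_sub, map_add, lmul'_comm,
            Algebra.TensorProduct.lmul'_apply_tmul, one_mul, ← hm, ← hpq, ← hf]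
          abel
        · rw [hy, hr2]
          simp only [map_sub, map_add, hcc, TensorProduct.comm_tmul,
            Derivation.tensorProductTo_tmul, Derivation.map_one_eq_zero, smul_zero, sub_zero]
          rw [← h0]
          abel
      have hy2 : y ∈ (KaehlerDifferential.ideal k A) ^ 2 := by
        have := comm_mem_sq _ hτy
        rwa [hcc] at this
      have h1 : (r₁₂ x₀, r₂₃ x₀) ∈ R' r₁₂ r₂₃ := (mem_R' r₁₂ r₂₃).mpr ⟨x₀, hx₀inv, rfl, rfl⟩
      have h3 := Submodule.add_mem _ h1 (sq_right r₁₂ r₂₃ h₁₂ h₂₃ y hy2)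
      rw [Prod.mk_add_mk, add_zero, hr1, hy] at h3
      have : r₂₃ x₀ + (q - r₂₃ x₀) = q := by abel
      rw [this] at h3
      exact h3
    · rintro ⟨x, hx, rfl, rfl⟩
      -- x = (1/2)(x + s₂ x); reduce to pure tensors
      set L : A ⊗[k] (A ⊗[k] A) →ₗ[k] Ω[A⁄k] :=
        ψ ∘ₗ (r₁₂.prod r₂₃) ∘ₗ
          (LinearMap.id + LinearMap.lTensor A (TensorProduct.comm k A A).toLinearMap) with hL
      have hLapp : ∀ t : A ⊗[k] (A ⊗[k] A), L t =
          ψ (r₁₂ (t + LinearMap.lTensor A (TensorProduct.comm k A A).toLinearMap t),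
            r₂₃ (t + LinearMap.lTensor A (TensorProduct.comm k A A).toLinearMap t)) := by
        intro t
        rfl
      have key0 : ∀ t : A ⊗[k] (A ⊗[k] A), L t = 0 := by
        intro t
        induction t using TensorProduct.induction_on with
        | zero => exact map_zero L
        | add x y hx hy => rw [map_add, hx, hy, add_zero]
        | tmul a w =>
          induction w using TensorProduct.induction_on with
          | zero => rw [TensorProduct.tmul_zero, map_zero]
          | add x y hx hy => rw [TensorProduct.tmul_add, map_add, hx, hy, add_zero]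
          | tmul u v =>
            rw [hLapp, ψ_eq ψ hψ]
            simp only [LinearMap.lTensor_tmul, LinearEquiv.coe_coe, TensorProduct.comm_tmul,
              map_add, h₁₂, h₂₃, Derivation.tensorProductTo_tmul, Derivation.leibniz]
            module
      have key : ∀ t : A ⊗[k] (A ⊗[k] A),
          ψ (r₁₂ (t + LinearMap.lTensor A (TensorProduct.comm k A A).toLinearMap t),
            r₂₃ (t + LinearMap.lTensor A (TensorProduct.comm k A A).toLinearMap t)) = 0 := by
        intro t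
        rw [← hLapp]
        exact key0 t
      have h := key x
      rw [hx] at h
      have e : ((r₁₂ (x + x), r₂₃ (x + x)) : (A ⊗[k] A) × (A ⊗[k] A)) =
          (2 : k) • (r₁₂ x, r₂₃ x) := by
        rw [map_add, map_add, Prod.smul_mk, two_smul, two_smul]
      rw [e, map_smul] at h
      rcases smul_eq_zero.mp h with h' | h'
      · exact absurd h' h2
      · exact h'
  · intro ω
    obtain ⟨y₀, hy₀⟩ := KaehlerDifferential.tensorProductTo_surjective k A ω
    refine ⟨(2 : k)⁻¹ • (y₀ - (m y₀) ⊗ₜ[k] (1 : A)), 0, ?_, ?_⟩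
    · rw [hmul, hmul, map_zero, map_smul, map_sub, Algebra.TensorProduct.lmul'_apply_tmul,
        mul_one, sub_self, smul_zero]
    · have e : (((2 : k)⁻¹ • (y₀ - (m y₀) ⊗ₜ[k] (1 : A)), 0) : (A ⊗[k] A) × (A ⊗[k] A)) =
          (2 : k)⁻¹ • (y₀ - (m y₀) ⊗ₜ[k] (1 : A), 0) := by
        rw [Prod.smul_mk, smul_zero]
      rw [e, map_smul, ψ_left ψ hψ, map_sub, hy₀, Derivation.tensorProductTo_tmul,
        Derivation.map_one_eq_zero, smul_zero, sub_zero, ← two_smul k ω, smul_smul,
        inv_mul_cancel₀ h2, one_smul]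

end

end Groth.Agent.Lib.DiagS3bH3
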