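import Groth.Agent.Lib.DualComod_helper9
import Groth.Agent.Lib.LinRed_helper9
import Mathlib.LinearAlgebra.Eigenspace.Triangularizable
import Mathlib.RingTheory.HopfAlgebra.GroupLike

/-!
# Diagonalizable groups and linear reductivity (helper9)

* `isLinearlyReductive_of_isDiagonalizable`: a commutative Hopf algebra over a field spanned by
  its group-like elements is linearly reductive.
* `isDiagonalizable_of_isLinearlyReductive`: over an algebraically closed field a cocommutative
  linearly reductive commutative Hopf algebra is spanned by its group-like elements.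
* `isLinearlyReductive_baseChange`.

APPEND-ONLY once landed.
-/

set_option autoImplicit false
universe u u' v w

open TensorProduct WithConv

namespace Groth.Agent.Lib.Diag_helper9

open Groth.Agent.Lib.ComodDual_helper9 Groth.Agent.Lib.Comod_helper9
  Groth.Agent.Lib.Integral_helper9 Groth.Agent.Lib.LinRed_helper9
  Groth.Agent.Lib.ComodFlag_helper9 Groth.Agent.Lib.DualComod_helper9

variable (k : Type u) [Field k] (A : Type v) [CommRing A] [HopfAlgebra k A]

/-- the span of the group-like elements -/
def G : Submodule k A := Submodule.span k {a : A | IsGroupLikeElem k a}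

theorem act_groupLike (φ : A →ₗ[k] k) (g : A) (hg : IsGroupLikeElem k g) :
    act φ g = φ g • g := by
  rw [act_apply]
  show ev A φ (CoalgebraStruct.comul (R := k) g) = _
  rw [hg.comul_eq_tmul_self, ev_tmul]

theorem isSubcomod_G : HopfRep.IsSubcomod (k := k) (A := A) (G k A) := by
  apply isSubcomod_of_act_mem
  intro φ w hw
  induction hw using Submodule.span_induction with
  | mem x hx =>
    rw [act_groupLike k A φ x hx]
    exact Submodule.smul_mem _ _ (Submodule.subset_span hx)
  | zero => rw [map_zero]; exact Submodule.zero_mem _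
  | add x y _ _ hx hy => rw [map_add]; exact Submodule.add_mem _ hx hy
  | smul c x _ hx => rw [map_smul]; exact Submodule.smul_mem _ _ hx

/-- an element on which all functionals act by scalars is a multiple of a group-like element -/
theorem mem_G_of_act_smul (s : A) (h : ∀ φ : A →ₗ[k] k, ∃ c : k, act φ s = c • s) :
    s ∈ G k A := by
  by_cases hs : s = 0
  · rw [hs]; exact Submodule.zero_mem _
  let L : Submodule k A := Submodule.span k {s}
  have hsL : s ∈ L := Submodule.subset_span rfl
  have hL : HopfRep.IsSubcomod (k := k) (A := A) L := by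
    apply isSubcomod_of_act_mem
    intro φ w hw
    obtain ⟨c, rfl⟩ := Submodule.mem_span_singleton.mp hw
    obtain ⟨d, hd⟩ := h φ
    rw [map_smul, hd]
    exact Submodule.smul_mem _ _ (Submodule.smul_mem _ _ hsL)
  obtain ⟨y, hy⟩ := hL s hsL
  have hform : ∀ y : L ⊗[k] A, ∃ a : A, y = (⟨s, hsL⟩ : L) ⊗ₜ[k] a := by
    intro y
    induction y using TensorProduct.induction_on with
    | zero => exact ⟨0, by rw [TensorProduct.tmul_zero]⟩
    | tmul w a =>
      obtain ⟨c, hc⟩ := Submodule.mem_span_singleton.mp w.2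
      refine ⟨c • a, ?_⟩
      have hw : w = c • (⟨s, hsL⟩ : L) := Subtype.ext hc.symm
      rw [hw, TensorProduct.smul_tmul]
    | add y z hy hz =>
      obtain ⟨a, rfl⟩ := hy
      obtain ⟨b, rfl⟩ := hz
      exact ⟨a + b, by rw [TensorProduct.tmul_add]⟩
  obtain ⟨g', rfl⟩ := hform y
  have hΔ : CoalgebraStruct.comul (R := k) s = s ⊗ₜ[k] g' := by
    rw [LinearMap.rTensor_tmul] at hy
    exact hy.symm
  have h1 : CoalgebraStruct.counit (R := k) s • g' = s := by
    have h2 := Coalgebra.rTensor_counit_comul (R := k) s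
    rw [hΔ, LinearMap.rTensor_tmul] at h2
    have h3 := congrArg (TensorProduct.lid k A) h2
    rw [TensorProduct.lid_tmul, TensorProduct.lid_tmul, one_smul] at h3
    exact h3
  have hε : CoalgebraStruct.counit (R := k) s ≠ 0 := by
    intro h0
    rw [h0, zero_smul] at h1
    exact hs h1.symm
  have hg' : g' = (CoalgebraStruct.counit (R := k) s)⁻¹ • s := by
    rw [eq_inv_smul_iff₀ hε]
    exact h1
  have hgl : IsGroupLikeElem k g' := by
    refine ⟨?_, ?_⟩
    · rw [hg', map_smul, smul_eq_mul, inv_mul_cancel₀ hε]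
    · calc CoalgebraStruct.comul (R := k) g'
          = CoalgebraStruct.comul (R := k) ((CoalgebraStruct.counit (R := k) s)⁻¹ • s) :=
            congrArg _ hg'
        _ = (CoalgebraStruct.counit (R := k) s)⁻¹ • (s ⊗ₜ[k] g') := by rw [map_smul, hΔ]
        _ = ((CoalgebraStruct.counit (R := k) s)⁻¹ • s) ⊗ₜ[k] g' :=
            (TensorProduct.smul_tmul' _ _ _)
        _ = g' ⊗ₜ[k] g' := by rw [← hg']
  rw [← h1]
  exact Submodule.smul_mem _ _ (Submodule.subset_span hgl)

theorem isDiagonalizable_of_isLinearlyReductive [IsAlgClosed k] [Coalgebra.IsCocomm k A]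
    (h : HopfRep.IsLinearlyReductive k A) : HopfRep.IsDiagonalizable k A := by
  classical
  show G k A = ⊤
  by_contra hne
  obtain ⟨G', hG', hcompl⟩ :=
    isSemisimpleComod_of_isLinearlyReductive k A h A (G k A) (isSubcomod_G k A)
  have hG'ne : G' ≠ ⊥ := by
    intro h0
    apply hne
    have h1 := hcompl.sup_eq_top
    rw [h0, sup_bot_eq] at h1
    exact h1
  obtain ⟨a, haG', ha0⟩ := Submodule.exists_mem_ne_zero_of_ne_bot hG'ne
  let N : Submodule k A := cyclicSub (k := k) (C := A) a
  have hN : HopfRep.IsSubcomod (k := k) (A := A) N := isSubcomod_cyclicSub a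
  have hNle : N ≤ G' := cyclicSub_le G' hG' a haG'
  haveI hNfin : Module.Finite k N := finite_cyclicSub a
  have haN : a ∈ N := self_mem_cyclicSub a
  have hNne : N ≠ ⊥ := by
    intro h0
    rw [h0, Submodule.mem_bot] at haN
    exact ha0 haN
  let P : ℕ → Prop := fun n => ∃ S : Submodule k A, HopfRep.IsSubcomod (k := k) (A := A) S ∧
    S ≠ ⊥ ∧ S ≤ N ∧ Module.finrank k S = n
  have hP : ∃ n, P n := ⟨_, N, hN, hNne, le_rfl, rfl⟩
  obtain ⟨S, hS, hSne, hSN, hSrank⟩ := Nat.find_spec hP
  haveI hSfin : Module.Finite k S := Submodule.finiteDimensional_of_le hSN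
  have hmin : ∀ S' : Submodule k A, HopfRep.IsSubcomod (k := k) (A := A) S' → S' ≠ ⊥ → S' ≤ S →
      S' = S := by
    intro S' hS' hS'ne hle
    have h1 : Nat.find hP ≤ Module.finrank k S' :=
      Nat.find_min' hP ⟨S', hS', hS'ne, hle.trans hSN, rfl⟩
    exact Submodule.eq_of_le_of_finrank_le hle (by rw [hSrank]; exact h1)
  have hscal : ∀ φ : A →ₗ[k] k, ∃ c : k, ∀ s ∈ S, act φ s = c • s := by
    intro φ
    have hstab : ∀ s ∈ S, act φ s ∈ S := fun s hs => act_mem_of_isSubcomod S hS φ hs
    let T : S →ₗ[k] S := (act φ).restrict hstab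
    haveI : Nontrivial S := Submodule.nontrivial_iff_ne_bot.mpr hSne
    obtain ⟨c, hc⟩ := Module.End.exists_eigenvalue T
    refine ⟨c, ?_⟩
    let E : Submodule k A := S ⊓ LinearMap.ker (act φ - c • LinearMap.id)
    have hmemE : ∀ w : A, w ∈ E ↔ w ∈ S ∧ act φ w = c • w := by
      intro w
      show w ∈ S ∧ w ∈ LinearMap.ker (act φ - c • LinearMap.id) ↔ _
      rw [LinearMap.mem_ker, LinearMap.sub_apply, LinearMap.smul_apply, LinearMap.id_apply,
        sub_eq_zero]
    have hE : HopfRep.IsSubcomod (k := k) (A := A) E := by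
      apply isSubcomod_of_act_mem
      intro ψ w hw
      rw [hmemE] at hw ⊢
      refine ⟨act_mem_of_isSubcomod S hS ψ hw.1, ?_⟩
      have hcomm : act φ (act ψ w) = act ψ (act φ w) := by
        have h1 := act_mul (V := A) (toConv φ) (toConv ψ) w
        have h2 := act_mul (V := A) (toConv ψ) (toConv φ) w
        rw [mul_comm] at h1
        exact h1.symm.trans h2
      rw [hcomm, hw.2, map_smul]
    have hEne : E ≠ ⊥ := by
      obtain ⟨v, hv⟩ := hc.exists_hasEigenvector
      intro h0
      have hTv : T v = c • v := hv.apply_eq_smul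
      have hvE : (v : A) ∈ E := by
        rw [hmemE]
        refine ⟨v.2, ?_⟩
        have := congrArg Subtype.val hTv
        exact this
      rw [h0, Submodule.mem_bot] at hvE
      exact hv.2 (Subtype.ext hvE)
    have hES : E = S := hmin E hE hEne inf_le_left
    intro s hs
    have hsE : s ∈ E := by rw [hES]; exact hs
    exact ((hmemE s).mp hsE).2
  obtain ⟨s, hsS, hs0⟩ := Submodule.exists_mem_ne_zero_of_ne_bot hSne
  have hsG : s ∈ G k A := mem_G_of_act_smul k A s (fun φ => by
    obtain ⟨c, hc⟩ := hscal φ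
    exact ⟨c, hc s hsS⟩)
  have hsG' : s ∈ G' := hNle (hSN hsS)
  have hmem : s ∈ G k A ⊓ G' := ⟨hsG, hsG'⟩
  rw [hcompl.inf_eq_bot, Submodule.mem_bot] at hmem
  exact hs0 hmem

theorem isLinearlyReductive_of_isDiagonalizable (h : HopfRep.IsDiagonalizable k A) :
    HopfRep.IsLinearlyReductive k A := by
  classical
  have hli : LinearIndependent k (GroupLike.val (R := k) (A := A)) := linearIndep_groupLikeVal
  have hrange : Set.range (GroupLike.val (R := k) (A := A)) = {a : A | IsGroupLikeElem k a} := by
    ext a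
    constructor
    · rintro ⟨g, rfl⟩
      exact g.2
    · intro ha
      exact ⟨⟨a, ha⟩, rfl⟩
  have hsp : ⊤ ≤ Submodule.span k (Set.range (GroupLike.val (R := k) (A := A))) := by
    rw [hrange]
    exact top_le_iff.mpr h
  let b : Module.Basis (GroupLike k A) k A := Module.Basis.mk hli hsp
  let α : A →ₗ[k] k := b.coord 1
  have hb : ∀ g, b g = (g : A) := fun g => Module.Basis.mk_apply hli hsp g
  have hα : ∀ g : GroupLike k A, α (g : A) = if g = 1 then 1 else 0 := by
    intro g
    rw [← hb, Module.Basis.coord_apply, Module.Basis.repr_self, Finsupp.single_apply]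
  have hα1 : α 1 = 1 := by
    have h1 := hα 1
    rw [if_pos rfl] at h1
    exact h1
  have hint : ∀ a : A, Theta k A α (CoalgebraStruct.comul (R := k) a) = α a • (1 : A) := by
    have hlin : Theta k A α ∘ₗ CoalgebraStruct.comul (R := k) (A := A) =
        LinearMap.toSpanSingleton k A 1 ∘ₗ α := by
      apply b.ext
      intro g
      rw [hb, LinearMap.comp_apply, LinearMap.comp_apply, g.2.comul_eq_tmul_self, Theta_tmul,
        LinearMap.toSpanSingleton_apply, hα]
      by_cases hg : g = 1
      · rw [if_pos hg, hg]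
        rfl
      · rw [if_neg hg, zero_smul, zero_smul]
    intro a
    exact LinearMap.congr_fun hlin a
  intro V _ _ _ _
  exact isSemisimpleComod_of_integral k A α V hint hα1

theorem isLinearlyReductive_baseChange (K : Type u') [Field K] [Algebra k K]
    (h : HopfRep.IsLinearlyReductive k A) : HopfRep.IsLinearlyReductive K (K ⊗[k] A) := by
  obtain ⟨α, hint, h1⟩ := exists_totalIntegral_of_isLinearlyReductive k A h
  intro V _ _ _ _
  exact isSemisimpleComod_of_integral K (K ⊗[k] A) (bcFun k K A α) V
    (bcFun_integral k K A α hint) (bcFun_one k K A α h1)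

end Groth.Agent.Lib.Diag_helper9
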