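import Mathlib
import Groth.Prelude.Def_Dieu

open scoped TensorProduct
open Dieu

universe u v w

namespace Groth.Agent.Lib.DieuEqualizer_lead

section Gen

variable {A : Type u} {B : Type v} {C : Type v} [CommRing A] [CommRing B] [CommRing C]
  (g : A →+* B) (h₁ h₂ : B →+* C) (e : h₁.comp g = h₂.comp g)

/-- `a ↦ g a` as an `A`-linear map `A → Res g`. -/
def fA : A →ₗ[A] Res g where
  toFun a := Res.mk g (g a)
  map_add' a b := by rw [map_add]; rfl
  map_smul' a b := by rw [smul_eq_mul, map_mul]; rfl

theorem fA_apply (a : A) : fA g a = Res.mk g (g a) := rfl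

/-- `t ↦ h t` as an `A`-linear map `Res g → Res (h ∘ g)`. -/
def kk (h : B →+* C) : Res g →ₗ[A] Res (h.comp g) where
  toFun t := Res.mk (h.comp g) (h t.val)
  map_add' s t := by rw [Res.val_add, map_add]; rfl
  map_smul' a t := by rw [Res.val_smul, map_mul]; rfl

theorem kk_apply (h : B →+* C) (t : Res g) : kk g h t = Res.mk (h.comp g) (h t.val) := rfl

/-- `t ↦ h₁ t` as an `A`-linear map `Res g → Res (h₂ ∘ g)`, using `h₁ ∘ g = h₂ ∘ g`. -/
def kk' : Res g →ₗ[A] Res (h₂.comp g) where
  toFun t := Res.mk (h₂.comp g) (h₁ t.val)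
  map_add' s t := by rw [Res.val_add, map_add]; rfl
  map_smul' a t := by
    rw [Res.val_smul, map_mul]
    have : h₁ (g a) = h₂ (g a) := RingHom.congr_fun e a
    rw [this]; rfl

theorem kk'_apply (t : Res g) : kk' g h₁ h₂ e t = Res.mk (h₂.comp g) (h₁ t.val) := rfl

variable (M : Type w) [AddCommGroup M] [Module A M]

theorem push_eq (h : B →+* C) (z : BC g M) :
    BC.push g h z = ((kk g h).rTensor M) z := by
  induction z using BC.induction_on g with
  | zero => exact (map_zero (BC.push g h)).trans (map_zero ((kk g h).rTensor M)).symm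
  | tmul b x =>
    rw [BC.push_tmul]
    change _ = ((kk g h).rTensor M) ((Res.mk g b) ⊗ₜ[A] x)
    rw [LinearMap.rTensor_tmul]
    rfl
  | add z₁ z₂ hz₁ hz₂ =>
    exact (map_add (BC.push g h) z₁ z₂).trans
      ((congrArg₂ (· + ·) hz₁ hz₂).trans (map_add ((kk g h).rTensor M) z₁ z₂).symm)

theorem cast_push_eq (z : BC g M) :
    BC.castHom e (BC.push g h₁ z) = ((kk' g h₁ h₂ e).rTensor M) z := by
  induction z using BC.induction_on g with
  | zero =>
    exact ((congrArg (BC.castHom e) (map_zero (BC.push g h₁))).trans (map_zero (BC.castHom e))).trans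
      (map_zero ((kk' g h₁ h₂ e).rTensor M)).symm
  | tmul b x =>
    rw [BC.push_tmul, BC.castHom_tmul]
    change _ = ((kk' g h₁ h₂ e).rTensor M) ((Res.mk g b) ⊗ₜ[A] x)
    rw [LinearMap.rTensor_tmul]
    rfl
  | add z₁ z₂ hz₁ hz₂ =>
    exact ((congrArg (BC.castHom e) (map_add (BC.push g h₁) z₁ z₂)).trans
      (map_add (BC.castHom e) _ _)).trans
      ((congrArg₂ (· + ·) hz₁ hz₂).trans (map_add ((kk' g h₁ h₂ e).rTensor M) z₁ z₂).symm)

theorem ι_eq (x : M) :
    BC.ι g M x = ((fA g).rTensor M) ((TensorProduct.lid A M).symm x) := by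
  rw [BC.ι_apply, TensorProduct.lid_symm_apply, LinearMap.rTensor_tmul, fA_apply, map_one]
  rfl

theorem main_gen (hg : Function.Injective g)
    (hex : ∀ b : B, h₁ b = h₂ b → ∃ a, g a = b) [Module.Flat A M] :
    Function.Injective (BC.ι g M) ∧
      ∀ z : BC g M, (BC.castHom e (BC.push g h₁ z) = BC.push g h₂ z ↔
        z ∈ Set.range (BC.ι g M)) := by
  have hfinj : Function.Injective (fA g) := fun a a' haa => hg haa
  have hexact : Function.Exact (fA g) (kk' g h₁ h₂ e - kk g h₂) := by
    intro t
    constructor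
    · intro ht
      have ht' : kk' g h₁ h₂ e t - kk g h₂ t = 0 := ht
      rw [kk'_apply, kk_apply] at ht'
      have h3 : h₁ t.val = h₂ t.val := sub_eq_zero.mp ht'
      obtain ⟨a, ha⟩ := hex t.val h3
      exact ⟨a, ha⟩
    · rintro ⟨a, rfl⟩
      change kk' g h₁ h₂ e (fA g a) - kk g h₂ (fA g a) = 0
      rw [kk'_apply, kk_apply, fA_apply, Res.val_mk,
        show h₁ (g a) = h₂ (g a) from RingHom.congr_fun e a, sub_self]
  have hinjM : Function.Injective ((fA g).rTensor M) :=
    Module.Flat.rTensor_preserves_injective_linearMap (fA g) hfinj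
  have hexM : Function.Exact ((fA g).rTensor M) ((kk' g h₁ h₂ e - kk g h₂).rTensor M) :=
    Module.Flat.rTensor_exact M hexact
  refine ⟨?_, ?_⟩
  · intro x y hxy
    rw [ι_eq, ι_eq] at hxy
    exact (TensorProduct.lid A M).symm.injective (hinjM hxy)
  · intro z
    rw [cast_push_eq, push_eq]
    constructor
    · intro hz
      have h0 : ((kk' g h₁ h₂ e - kk g h₂).rTensor M) z = 0 := by
        rw [LinearMap.rTensor_sub, LinearMap.sub_apply, hz, sub_self]
      obtain ⟨w, hw⟩ := (hexM z).mp h0
      refine ⟨TensorProduct.lid A M w, ?_⟩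
      rw [ι_eq, LinearEquiv.symm_apply_apply]
      exact hw
    · rintro ⟨x, rfl⟩
      rw [ι_eq]
      have := (hexM ((fA g).rTensor M ((TensorProduct.lid A M).symm x))).mpr ⟨_, rfl⟩
      rw [LinearMap.rTensor_sub, LinearMap.sub_apply] at this
      exact sub_eq_zero.mp this

end Gen

theorem main (p : ℕ) [Fact p.Prime]
    (S R : Type u) [CommRing S] [CommRing R] [Algebra S R] [Module.FaithfullyFlat S R]
    (M : Type v) [AddCommGroup M] [Module (WittVector p S) M] [Module.Flat (WittVector p S) M]
    (e : (WittVector.map (Algebra.TensorProduct.includeLeftRingHom : R →+* TensorProduct S R R) : WittVector p R →+* WittVector p (TensorProduct S R R)).comp (WittVector.map (algebraMap S R) : WittVector p S →+* WittVector p R) = (WittVector.map ((Algebra.TensorProduct.includeRight : R →ₐ[S] TensorProduct S R R) : R →+* TensorProduct S R R) : WittVector p R →+* WittVector p (TensorProduct S R R)).comp (WittVector.map (algebraMap S R) : WittVector p S →+* WittVector p R)) :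
    Function.Injective (Dieu.BC.ι (WittVector.map (algebraMap S R) : WittVector p S →+* WittVector p R) M) ∧
      ∀ z : Dieu.BC (WittVector.map (algebraMap S R) : WittVector p S →+* WittVector p R) M,
        (Dieu.BC.castHom e (Dieu.BC.push (WittVector.map (algebraMap S R) : WittVector p S →+* WittVector p R) (WittVector.map (Algebra.TensorProduct.includeLeftRingHom : R →+* TensorProduct S R R) : WittVector p R →+* WittVector p (TensorProduct S R R)) z) = Dieu.BC.push (WittVector.map (algebraMap S R) : WittVector p S →+* WittVector p R) (WittVector.map ((Algebra.TensorProduct.includeRight : R →ₐ[S] TensorProduct S R R) : R →+* TensorProduct S R R) : WittVector p R →+* WittVector p (TensorProduct S R R)) z ↔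
          z ∈ Set.range (Dieu.BC.ι (WittVector.map (algebraMap S R) : WittVector p S →+* WittVector p R) M)) := by
  refine main_gen _ _ _ e M ?_ ?_
  · exact WittVector.map_injective _ (FaithfulSMul.algebraMap_injective S R)
  · intro b hb
    have hc : ∀ n, ∃ s : S, algebraMap S R s = b.coeff n := by
      intro n
      have h := congrArg (fun w => WittVector.coeff w n) hb
      simp only [WittVector.map_coeff] at h
      have h0 : Algebra.TensorProduct.includeLeftSubRight S R (b.coeff n) = 0 := by
        rw [Algebra.TensorProduct.includeLeftSubRight_apply]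
        exact sub_eq_zero.mpr h
      obtain ⟨s, hs⟩ := (Algebra.IsEffective.of_faithfullyFlat S R (b.coeff n)).mp h0
      exact ⟨s, hs⟩
    choose s hs using hc
    refine ⟨WittVector.mk p s, ?_⟩
    ext n
    rw [WittVector.map_coeff, WittVector.coeff_mk, hs]

end Groth.Agent.Lib.DieuEqualizer_lead
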