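import Mathlib
import Groth.Prelude.Def_W4c6eohyperellchar2Gc

/-!
# Basic computations in the explicit module `GcMod c k` with its operators `F` and `V`
(helper4).
-/

set_option autoImplicit false

namespace Groth.Agent.Lib.DieuGcH4

open W4c6eohyperellchar2

variable (c : ℕ) (k : Type*) [Field k] [CharP k 2] [PerfectRing k 2]

theorem coefX_X (n m : ℕ) :
    coefX (X c k n) m = if (1 ≤ m ∧ m ≤ c) ∧ m = n then 1 else 0 := by
  unfold coefX
  by_cases h : 1 ≤ m ∧ m ≤ c
  · rw [dif_pos h]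
    show (if (m - 1) + 1 = n then (1 : k) else 0) = _
    by_cases h2 : m = n
    · rw [if_pos (by omega), if_pos ⟨h, h2⟩]
    · rw [if_neg (by omega), if_neg (fun h3 => h2 h3.2)]
  · rw [dif_neg h, if_neg (fun h3 => h h3.1)]

theorem coefX_Y (n m : ℕ) : coefX (Y c k n) m = 0 := by
  unfold coefX
  by_cases h : 1 ≤ m ∧ m ≤ c
  · rw [dif_pos h]; rfl
  · rw [dif_neg h]

theorem coefY_Y (n m : ℕ) :
    coefY (Y c k n) m = if (1 ≤ m ∧ m ≤ c) ∧ m = n then 1 else 0 := by
  unfold coefY
  by_cases h : 1 ≤ m ∧ m ≤ c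
  · rw [dif_pos h]
    show (if (m - 1) + 1 = n then (1 : k) else 0) = _
    by_cases h2 : m = n
    · rw [if_pos (by omega), if_pos ⟨h, h2⟩]
    · rw [if_neg (by omega), if_neg (fun h3 => h2 h3.2)]
  · rw [dif_neg h, if_neg (fun h3 => h h3.1)]

theorem coefY_X (n m : ℕ) : coefY (X c k n) m = 0 := by
  unfold coefY
  by_cases h : 1 ≤ m ∧ m ≤ c
  · rw [dif_pos h]; rfl
  · rw [dif_neg h]

theorem F_X_even {n : ℕ} (hc : n ≤ c) (h1 : 1 ≤ n) (he : n % 2 = 0) :
    F c k (X c k n) = X c k (n / 2) := by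
  refine Prod.ext ?_ ?_
  · funext i
    have hi := i.isLt
    show coefX (X c k n) (2 * (i.val + 1)) ^ 2 = if i.val + 1 = n / 2 then (1 : k) else 0
    rw [coefX_X]
    by_cases h2 : i.val + 1 = n / 2
    · rw [if_pos h2, if_pos (by omega), one_pow]
    · rw [if_neg h2, if_neg (by omega), zero_pow (by norm_num)]
  · funext i
    have hi := i.isLt
    show coefX (X c k n) (2 * (c - (i.val + 1)) + 1) ^ 2 = (0 : k)
    rw [coefX_X, if_neg (by omega), zero_pow (by norm_num)]

theorem F_X_odd {n : ℕ} (hc : n ≤ c) (ho : n % 2 = 1) :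
    F c k (X c k n) = Y c k (c - (n - 1) / 2) := by
  refine Prod.ext ?_ ?_
  · funext i
    have hi := i.isLt
    show coefX (X c k n) (2 * (i.val + 1)) ^ 2 = (0 : k)
    rw [coefX_X, if_neg (by omega), zero_pow (by norm_num)]
  · funext i
    have hi := i.isLt
    show coefX (X c k n) (2 * (c - (i.val + 1)) + 1) ^ 2 =
      if i.val + 1 = c - (n - 1) / 2 then (1 : k) else 0
    rw [coefX_X]
    by_cases h2 : i.val + 1 = c - (n - 1) / 2
    · rw [if_pos h2, if_pos (by omega), one_pow]
    · rw [if_neg h2, if_neg (by omega), zero_pow (by norm_num)]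

theorem V_X {n : ℕ} (hc : n ≤ c) (h2 : c < 2 * n) :
    V c k (X c k n) = Y c k (2 * c - 2 * n + 1) := by
  refine Prod.ext rfl ?_
  funext i
  have hi := i.isLt
  show (if (i.val + 1) % 2 = 0 then
      (frobeniusEquiv k 2).symm (coefY (X c k n) ((i.val + 1) / 2))
    else (frobeniusEquiv k 2).symm (coefX (X c k n) ((2 * c - i.val) / 2))) =
    if i.val + 1 = 2 * c - 2 * n + 1 then (1 : k) else 0
  rw [coefY_X, coefX_X, map_zero]
  by_cases he : (i.val + 1) % 2 = 0
  · rw [if_pos he, if_neg (by omega)]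
  · rw [if_neg he]
    by_cases h3 : i.val + 1 = 2 * c - 2 * n + 1
    · rw [if_pos h3, if_pos (by omega), map_one]
    · rw [if_neg h3, if_neg (by omega), map_zero]

theorem V_Y {m : ℕ} (h1 : 1 ≤ m) (h2 : 2 * m ≤ c) : V c k (Y c k m) = Y c k (2 * m) := by
  refine Prod.ext rfl ?_
  funext i
  have hi := i.isLt
  show (if (i.val + 1) % 2 = 0 then
      (frobeniusEquiv k 2).symm (coefY (Y c k m) ((i.val + 1) / 2))
    else (frobeniusEquiv k 2).symm (coefX (Y c k m) ((2 * c - i.val) / 2))) =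
    if i.val + 1 = 2 * m then (1 : k) else 0
  rw [coefX_Y, coefY_Y, map_zero]
  by_cases he : (i.val + 1) % 2 = 0
  · rw [if_pos he]
    by_cases h3 : i.val + 1 = 2 * m
    · rw [if_pos h3, if_pos (by omega), map_one]
    · rw [if_neg h3, if_neg (by omega), map_zero]
  · rw [if_neg he, if_neg (by omega)]

theorem F_iter_X (e l : ℕ) (hl : 1 ≤ l) (hc : 2 ^ e * l ≤ c) :
    (F c k)^[e] (X c k (2 ^ e * l)) = X c k l := by
  induction e with
  | zero => simp
  | succ e ih =>
    have h2 : 2 ^ (e + 1) * l = 2 * (2 ^ e * l) := by ring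
    have hpos : 0 < 2 ^ e * l := Nat.mul_pos (pow_pos two_pos e) hl
    rw [Function.iterate_succ_apply, F_X_even c k hc (by omega) (by omega)]
    have h3 : 2 ^ (e + 1) * l / 2 = 2 ^ e * l := by omega
    rw [h3]
    exact ih (by omega)

theorem V_iter_Y (n m : ℕ) (h1 : 1 ≤ m) (hc : 2 ^ n * m ≤ c) :
    (V c k)^[n] (Y c k m) = Y c k (2 ^ n * m) := by
  induction n with
  | zero => simp
  | succ n ih =>
    have h2 : 2 ^ (n + 1) * m = 2 * (2 ^ n * m) := by ring
    have hpos : 0 < 2 ^ n * m := Nat.mul_pos (pow_pos two_pos n) h1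
    rw [Function.iterate_succ_apply', ih (by omega), V_Y c k hpos (by omega), h2]

theorem add_self (v : GcMod c k) : v + v = 0 := by
  refine Prod.ext ?_ ?_ <;> funext i <;> exact CharTwo.add_self_eq_zero _

theorem X_mem (N : Submodule k (GcMod c k)) (hF : ∀ v ∈ N, F c k v ∈ N)
    (hX : ∀ j : ℕ, c < 2 * j → j ≤ c → X c k j ∈ N) :
    ∀ (d i : ℕ), c - i ≤ d → 1 ≤ i → i ≤ c → X c k i ∈ N := by
  intro d
  induction d with
  | zero => intro i hd h1 hc; exact hX i (by omega) hc
  | succ d ih =>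
    intro i hd h1 hc
    by_cases h2 : c < 2 * i
    · exact hX i h2 hc
    · have h3 := ih (2 * i) (by omega) (by omega) (by omega)
      have h5 := hF _ h3
      rw [F_X_even c k (by omega) (by omega) (by omega)] at h5
      have h4 : 2 * i / 2 = i := by omega
      rwa [h4] at h5

theorem Y_mem_range_V {m : ℕ} (h1 : 1 ≤ m) (hc : m ≤ c) :
    Y c k m ∈ Set.range (V c k) := by
  by_cases ho : m % 2 = 1
  · refine ⟨X c k (c - (m - 1) / 2), ?_⟩
    rw [V_X c k (by omega) (by omega)]
    have h4 : 2 * c - 2 * (c - (m - 1) / 2) + 1 = m := by omega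
    rw [h4]
  · refine ⟨Y c k (m / 2), ?_⟩
    rw [V_Y c k (by omega) (by omega)]
    have h4 : 2 * (m / 2) = m := by omega
    rw [h4]

theorem Y_mem (N : Submodule k (GcMod c k)) (hV : ∀ v ∈ N, V c k v ∈ N)
    (hX : ∀ j : ℕ, c < 2 * j → j ≤ c → X c k j ∈ N) :
    ∀ (m : ℕ), 1 ≤ m → m ≤ c → Y c k m ∈ N := by
  intro m
  induction m using Nat.strong_induction_on with
  | _ m ih =>
    intro h1 hc
    by_cases ho : m % 2 = 1
    · have hj := hX (c - (m - 1) / 2) (by omega) (by omega)
      have h5 := hV _ hj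
      rw [V_X c k (by omega) (by omega)] at h5
      have h4 : 2 * c - 2 * (c - (m - 1) / 2) + 1 = m := by omega
      rwa [h4] at h5
    · have h3 := ih (m / 2) (by omega) (by omega) (by omega)
      have h5 := hV _ h3
      rw [V_Y c k (by omega) (by omega)] at h5
      have h4 : 2 * (m / 2) = m := by omega
      rwa [h4] at h5

theorem decomp (v : GcMod c k) :
    v = ∑ i : Fin c, v.1 i • X c k (i.val + 1) + ∑ i : Fin c, v.2 i • Y c k (i.val + 1) := by
  classical
  refine Prod.ext ?_ ?_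
  · funext j
    have hX1 : ∀ i : Fin c, (v.1 i • X c k (i.val + 1)).1 j = if i = j then v.1 i else 0 := by
      intro i
      show v.1 i * (if j.val + 1 = i.val + 1 then (1 : k) else 0) = _
      by_cases h : i = j
      · subst h; simp
      · rw [if_neg h, if_neg (by intro h'; apply h; apply Fin.ext; omega), mul_zero]
    have hY1 : ∀ i : Fin c, (v.2 i • Y c k (i.val + 1)).1 j = 0 := by
      intro i; show v.2 i * (0 : k) = 0; rw [mul_zero]
    rw [Prod.fst_add, Prod.fst_sum, Prod.fst_sum, Pi.add_apply, Finset.sum_apply,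
      Finset.sum_apply]
    simp only [hX1, hY1, Finset.sum_ite_eq', Finset.mem_univ, if_true, Finset.sum_const_zero,
      add_zero]
  · funext j
    have hX1 : ∀ i : Fin c, (v.1 i • X c k (i.val + 1)).2 j = 0 := by
      intro i; show v.1 i * (0 : k) = 0; rw [mul_zero]
    have hY1 : ∀ i : Fin c, (v.2 i • Y c k (i.val + 1)).2 j = if i = j then v.2 i else 0 := by
      intro i
      show v.2 i * (if j.val + 1 = i.val + 1 then (1 : k) else 0) = _
      by_cases h : i = j
      · subst h; simp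
      · rw [if_neg h, if_neg (by intro h'; apply h; apply Fin.ext; omega), mul_zero]
    rw [Prod.snd_add, Prod.snd_sum, Prod.snd_sum, Pi.add_apply, Finset.sum_apply,
      Finset.sum_apply]
    simp only [hX1, hY1, Finset.sum_ite_eq', Finset.mem_univ, if_true, Finset.sum_const_zero,
      zero_add]

end Groth.Agent.Lib.DieuGcH4
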