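import Mathlib
import Groth.Prelude.Def_W4c6eohyperellchar2Gc

set_option autoImplicit false
set_option maxHeartbeats 1000000

namespace Groth.Agent.Lib.DieuNilH1

open W4c6eohyperellchar2

universe u

section basic

variable {c : ℕ} {k : Type u} [Field k]

lemma sum_single_aux (g : Fin c → k) (i : Fin c) :
    ∑ j : Fin c, g j * (if i.val + 1 = j.val + 1 then (1 : k) else 0) = g i := by
  rw [Finset.sum_eq_single i]
  · rw [if_pos rfl, mul_one]
  · intro j _ hji
    rw [if_neg (fun h => hji (Fin.ext (by omega))), mul_zero]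
  · intro h; exact absurd (Finset.mem_univ i) h

lemma decomp (v : GcMod c k) :
    v = ∑ j : Fin c, v.1 j • X c k (j.val + 1) + ∑ m : Fin c, v.2 m • Y c k (m.val + 1) := by
  refine Prod.ext ?_ ?_
  · funext i
    rw [Prod.fst_add, Pi.add_apply, Prod.fst_sum, Prod.fst_sum, Finset.sum_apply, Finset.sum_apply]
    have h1 : ∑ j : Fin c, (v.1 j • X c k (j.val + 1)).1 i = v.1 i := sum_single_aux v.1 i
    have h2 : ∑ m : Fin c, (v.2 m • Y c k (m.val + 1)).1 i = 0 :=
      Finset.sum_eq_zero fun m _ => by
        show v.2 m * (0 : k) = 0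
        exact mul_zero _
    rw [h1, h2, add_zero]
  · funext i
    rw [Prod.snd_add, Pi.add_apply, Prod.snd_sum, Prod.snd_sum, Finset.sum_apply, Finset.sum_apply]
    have h1 : ∑ j : Fin c, (v.2 j • Y c k (j.val + 1)).2 i = v.2 i := sum_single_aux v.2 i
    have h2 : ∑ m : Fin c, (v.1 m • X c k (m.val + 1)).2 i = 0 :=
      Finset.sum_eq_zero fun m _ => by
        show v.1 m * (0 : k) = 0
        exact mul_zero _
    rw [h1, h2, zero_add]

lemma mem_Nfil_iff (i : ℕ) (v : GcMod c k) :
    v ∈ Nfil c k i ↔ (∀ j : Fin c, j.val + 1 ≤ 2 * c - i → v.1 j = 0) ∧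
      (∀ m : Fin c, min i c < m.val + 1 → v.2 m = 0) := by
  constructor
  · intro hv
    unfold Nfil at hv
    induction hv using Submodule.span_induction with
    | mem x hx =>
      rcases hx with ⟨n, hn, rfl⟩ | ⟨n, hn, rfl⟩
      · refine ⟨fun j _ => rfl, fun m hm => ?_⟩
        show (if m.val + 1 = n then (1 : k) else 0) = 0
        rw [if_neg]
        have := hn.2
        omega
      · refine ⟨fun j hj => ?_, fun m _ => rfl⟩
        show (if j.val + 1 = n then (1 : k) else 0) = 0
        rw [if_neg]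
        have := hn.1
        omega
    | zero => exact ⟨fun _ _ => rfl, fun _ _ => rfl⟩
    | add x y _ _ hx hy =>
      exact ⟨fun j hj => by rw [Prod.fst_add, Pi.add_apply, hx.1 j hj, hy.1 j hj, add_zero],
        fun m hm => by rw [Prod.snd_add, Pi.add_apply, hx.2 m hm, hy.2 m hm, add_zero]⟩
    | smul t x _ hx =>
      exact ⟨fun j hj => by rw [Prod.smul_fst, Pi.smul_apply, hx.1 j hj, smul_zero],
        fun m hm => by rw [Prod.smul_snd, Pi.smul_apply, hx.2 m hm, smul_zero]⟩
  · rintro ⟨h1, h2⟩
    rw [decomp v]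
    refine Submodule.add_mem _ (Submodule.sum_mem _ fun j _ => ?_)
      (Submodule.sum_mem _ fun m _ => ?_)
    · by_cases hj : j.val + 1 ≤ 2 * c - i
      · rw [h1 j hj, zero_smul]; exact Submodule.zero_mem _
      · refine Submodule.smul_mem _ _ (Submodule.subset_span
          (Or.inr ⟨j.val + 1, ⟨by omega, by have := j.2; omega⟩, rfl⟩))
    · by_cases hm : min i c < m.val + 1
      · rw [h2 m hm, zero_smul]; exact Submodule.zero_mem _
      · exact Submodule.smul_mem _ _ (Submodule.subset_span
          (Or.inl ⟨m.val + 1, ⟨by omega, by omega⟩, rfl⟩))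

lemma Y_mem_Nfil (i n : ℕ) (h1 : 1 ≤ n) (h2 : n ≤ min i c) : Y c k n ∈ Nfil c k i :=
  Submodule.subset_span (Or.inl ⟨n, ⟨h1, h2⟩, rfl⟩)

lemma X_mem_Nfil (i n : ℕ) (h1 : 2 * c - i < n) (h2 : n ≤ c) : X c k n ∈ Nfil c k i :=
  Submodule.subset_span (Or.inr ⟨n, ⟨h1, h2⟩, rfl⟩)

/-! ### dimension -/

lemma Nfil_zero : Nfil c k 0 = ⊥ := by
  rw [Submodule.eq_bot_iff]
  intro v hv
  rw [mem_Nfil_iff] at hv
  refine Prod.ext ?_ ?_
  · funext j; exact hv.1 j (by have := j.2; omega)
  · funext m; exact hv.2 m (by omega)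

lemma Nfil_succ (i : ℕ) (hi : i + 1 ≤ 2 * c) :
    ∃ w : GcMod c k, w ∉ Nfil c k i ∧ Nfil c k (i + 1) = Nfil c k i ⊔ Submodule.span k {w} := by
  by_cases hic : i < c
  · refine ⟨Y c k (i + 1), ?_, ?_⟩
    · intro h
      rw [mem_Nfil_iff] at h
      have := h.2 ⟨i, hic⟩ (by show min i c < i + 1; omega)
      have h1 : (Y c k (i + 1)).2 ⟨i, hic⟩ = 1 := by
        show (if i + 1 = i + 1 then (1 : k) else 0) = 1
        rw [if_pos rfl]
      rw [h1] at this
      exact one_ne_zero this
    · apply le_antisymm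
      · unfold Nfil
        rw [Submodule.span_le]
        rintro _ (⟨n, hn, rfl⟩ | ⟨n, hn, rfl⟩)
        · by_cases hn' : n ≤ min i c
          · exact Submodule.mem_sup_left (Y_mem_Nfil i n hn.1 hn')
          · have : n = i + 1 := by have := hn.2; omega
            rw [this]
            exact Submodule.mem_sup_right (Submodule.mem_span_singleton_self _)
        · exfalso
          have := hn.1; have := hn.2; omega
      · apply sup_le
        · unfold Nfil
          apply Submodule.span_mono
          rintro _ (⟨n, hn, rfl⟩ | ⟨n, hn, rfl⟩)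
          · exact Or.inl ⟨n, ⟨hn.1, by have := hn.2; omega⟩, rfl⟩
          · exact Or.inr ⟨n, ⟨by have := hn.1; omega, hn.2⟩, rfl⟩
        · rw [Submodule.span_le, Set.singleton_subset_iff]
          exact Y_mem_Nfil (i + 1) (i + 1) (by omega) (by omega)
  · refine ⟨X c k (2 * c - i), ?_, ?_⟩
    · intro h
      rw [mem_Nfil_iff] at h
      have := h.1 ⟨2 * c - i - 1, by omega⟩ (by show 2 * c - i - 1 + 1 ≤ 2 * c - i; omega)
      have h1 : (X c k (2 * c - i)).1 ⟨2 * c - i - 1, by omega⟩ = 1 := by
        show (if 2 * c - i - 1 + 1 = 2 * c - i then (1 : k) else 0) = 1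
        rw [if_pos (by omega)]
      rw [h1] at this
      exact one_ne_zero this
    · apply le_antisymm
      · unfold Nfil
        rw [Submodule.span_le]
        rintro _ (⟨n, hn, rfl⟩ | ⟨n, hn, rfl⟩)
        · exact Submodule.mem_sup_left (Y_mem_Nfil i n hn.1 (by have := hn.2; omega))
        · by_cases hn' : 2 * c - i < n
          · exact Submodule.mem_sup_left (X_mem_Nfil i n hn' hn.2)
          · have : n = 2 * c - i := by have := hn.1; omega
            rw [this]
            exact Submodule.mem_sup_right (Submodule.mem_span_singleton_self _)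
      · apply sup_le
        · unfold Nfil
          apply Submodule.span_mono
          rintro _ (⟨n, hn, rfl⟩ | ⟨n, hn, rfl⟩)
          · exact Or.inl ⟨n, ⟨hn.1, by have := hn.2; omega⟩, rfl⟩
          · exact Or.inr ⟨n, ⟨by have := hn.1; omega, hn.2⟩, rfl⟩
        · rw [Submodule.span_le, Set.singleton_subset_iff]
          exact X_mem_Nfil (i + 1) (2 * c - i) (by omega) (by omega)

lemma finrank_Nfil (i : ℕ) (hi : i ≤ 2 * c) : Module.finrank k (Nfil c k i) = i := by
  induction i with
  | zero => rw [Nfil_zero]; exact finrank_bot k _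
  | succ i ih =>
    obtain ⟨w, hw, hsup⟩ := Nfil_succ (k := k) i hi
    have hw0 : w ≠ 0 := fun h => hw (h ▸ Submodule.zero_mem _)
    have hdisj : Nfil c k i ⊓ Submodule.span k {w} = ⊥ :=
      disjoint_iff.mp ((Submodule.disjoint_span_singleton' hw0).mpr hw)
    have h1 := Submodule.finrank_sup_add_finrank_inf_eq (Nfil c k i) (Submodule.span k {w})
    rw [hdisj, finrank_bot, add_zero, finrank_span_singleton hw0, ih (by omega)] at h1
    rw [hsup, h1]

end basic

section ops

variable {c : ℕ} {k : Type u} [Field k] [CharP k 2] [PerfectRing k 2]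

lemma NV_fst (a : ℕ → k) (v : GcMod c k) : (NV c k a v).1 = 0 := rfl

lemma NV_snd (a : ℕ → k) (v : GcMod c k) (i : Fin c) :
    (NV c k a v).2 i = (frobeniusEquiv k 2).symm (coefY v (2 * (i.val + 1))) +
      ∑ j : Fin c, (if (j.val + 1) % 2 = 1 ∧ (i.val + 1) + j.val / 2 ≤ c then
        (frobeniusEquiv k 2).symm (v.1 j * a ((i.val + 1) + j.val / 2)) else 0) := rfl

lemma coefY_add (v w : GcMod c k) (n : ℕ) : coefY (v + w) n = coefY v n + coefY w n := by
  unfold coefY
  split_ifs
  · rfl
  · exact (add_zero 0).symm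

lemma coefY_smul (t : k) (v : GcMod c k) (n : ℕ) : coefY (t • v) n = t * coefY v n := by
  unfold coefY
  split_ifs
  · rfl
  · exact (mul_zero t).symm

lemma NV_add (a : ℕ → k) (v w : GcMod c k) :
    NV c k a (v + w) = NV c k a v + NV c k a w := by
  refine Prod.ext ?_ ?_
  · show (0 : Fin c → k) = 0 + 0
    rw [add_zero]
  · funext i
    rw [Prod.snd_add, Pi.add_apply, NV_snd, NV_snd, NV_snd, coefY_add, map_add]
    have h : ∀ j : Fin c,
        (if (j.val + 1) % 2 = 1 ∧ (i.val + 1) + j.val / 2 ≤ c then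
          (frobeniusEquiv k 2).symm ((v + w).1 j * a ((i.val + 1) + j.val / 2)) else 0) =
        (if (j.val + 1) % 2 = 1 ∧ (i.val + 1) + j.val / 2 ≤ c then
          (frobeniusEquiv k 2).symm (v.1 j * a ((i.val + 1) + j.val / 2)) else 0) +
        (if (j.val + 1) % 2 = 1 ∧ (i.val + 1) + j.val / 2 ≤ c then
          (frobeniusEquiv k 2).symm (w.1 j * a ((i.val + 1) + j.val / 2)) else 0) := by
      intro j
      split_ifs
      · rw [Prod.fst_add, Pi.add_apply, add_mul, map_add]
      · rw [add_zero]
    rw [Finset.sum_congr rfl fun j _ => h j, Finset.sum_add_distrib]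
    abel

lemma NV_smul (a : ℕ → k) (t : k) (v : GcMod c k) :
    NV c k a (t ^ 2 • v) = t • NV c k a v := by
  refine Prod.ext ?_ ?_
  · show (0 : Fin c → k) = t • 0
    rw [smul_zero]
  · funext i
    rw [Prod.smul_snd, Pi.smul_apply, NV_snd, NV_snd, coefY_smul, map_mul,
      frobeniusEquiv_symm_pow, smul_eq_mul, mul_add t, Finset.mul_sum]
    congr 1
    refine Finset.sum_congr rfl fun j _ => ?_
    split_ifs
    · rw [Prod.smul_fst, Pi.smul_apply, smul_eq_mul, mul_assoc, map_mul, frobeniusEquiv_symm_pow]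
    · rw [mul_zero]

lemma NV_zero (a : ℕ → k) : NV c k a (0 : GcMod c k) = 0 := by
  have := NV_smul a (0 : k) (0 : GcMod c k)
  rw [smul_zero, zero_smul] at this
  exact this

/-- the image of `Nfil i` under `NV`, as a subspace -/
noncomputable def img (a : ℕ → k) (i : ℕ) : Submodule k (GcMod c k) where
  carrier := NV c k a '' (Nfil c k i : Set (GcMod c k))
  zero_mem' := ⟨0, Submodule.zero_mem _, NV_zero a⟩
  add_mem' := by
    rintro _ _ ⟨v, hv, rfl⟩ ⟨w, hw, rfl⟩
    exact ⟨v + w, Submodule.add_mem _ hv hw, NV_add a v w⟩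
  smul_mem' := by
    rintro t _ ⟨v, hv, rfl⟩
    exact ⟨t ^ 2 • v, Submodule.smul_mem _ _ hv, NV_smul a t v⟩

lemma mem_img (a : ℕ → k) (i : ℕ) (w : GcMod c k) :
    w ∈ img a i ↔ w ∈ NV c k a '' (Nfil c k i : Set (GcMod c k)) := Iff.rfl

lemma NV_Y (a : ℕ → k) (m : ℕ) (hm : 2 * m ≤ c) : NV c k a (Y c k (2 * m)) = Y c k m := by
  refine Prod.ext rfl ?_
  funext i
  rw [NV_snd]
  have h1 : ∑ j : Fin c, (if (j.val + 1) % 2 = 1 ∧ (i.val + 1) + j.val / 2 ≤ c then
      (frobeniusEquiv k 2).symm ((Y c k (2 * m)).1 j * a ((i.val + 1) + j.val / 2)) else 0) = 0 :=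
    Finset.sum_eq_zero fun j _ => by
      split_ifs
      · show (frobeniusEquiv k 2).symm ((0 : k) * _) = 0
        rw [zero_mul, map_zero]
      · rfl
  rw [h1, add_zero]
  show (frobeniusEquiv k 2).symm (coefY (Y c k (2 * m)) (2 * (i.val + 1))) =
    if i.val + 1 = m then 1 else 0
  unfold coefY
  by_cases h2 : 1 ≤ 2 * (i.val + 1) ∧ 2 * (i.val + 1) ≤ c
  · rw [dif_pos h2]
    show (frobeniusEquiv k 2).symm (if 2 * (i.val + 1) - 1 + 1 = 2 * m then (1 : k) else 0) = _
    by_cases h3 : i.val + 1 = m
    · rw [if_pos (by omega), if_pos h3, map_one]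
    · rw [if_neg (by omega), if_neg h3, map_zero]
  · rw [dif_neg h2, map_zero, if_neg (by omega)]

lemma NV_X_snd (a : ℕ → k) (u : ℕ) (hu : 2 * u + 1 ≤ c) (i : Fin c) :
    (NV c k a (X c k (2 * u + 1))).2 i =
      if (i.val + 1) + u ≤ c then (frobeniusEquiv k 2).symm (a ((i.val + 1) + u)) else 0 := by
  rw [NV_snd]
  have h0 : coefY (X c k (2 * u + 1)) (2 * (i.val + 1)) = 0 := by
    unfold coefY
    split_ifs <;> rfl
  rw [h0, map_zero, zero_add]
  rw [Finset.sum_eq_single (⟨2 * u, by omega⟩ : Fin c)]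
  · have h1 : (2 * u) / 2 = u := by omega
    show (if (2 * u + 1) % 2 = 1 ∧ (i.val + 1) + (2 * u) / 2 ≤ c then
      (frobeniusEquiv k 2).symm ((if 2 * u + 1 = 2 * u + 1 then (1 : k) else 0) *
        a ((i.val + 1) + (2 * u) / 2)) else 0) = _
    rw [h1, if_pos rfl, one_mul]
    by_cases h2 : (i.val + 1) + u ≤ c
    · rw [if_pos ⟨by omega, h2⟩, if_pos h2]
    · rw [if_neg (fun h => h2 h.2), if_neg h2]
  · intro j _ hj
    split_ifs with h
    · have h3 : (X c k (2 * u + 1)).1 j = 0 := by
        show (if j.val + 1 = 2 * u + 1 then (1 : k) else 0) = 0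
        rw [if_neg]
        intro h4
        apply hj
        apply Fin.ext
        show j.val = 2 * u
        omega
      rw [h3, zero_mul, map_zero]
    · rfl
  · intro h; exact absurd (Finset.mem_univ _) h

lemma Y_mem_img (a : ℕ → k) (ha : a c ≠ 0) (i : ℕ) (hi : i ≤ 2 * c) :
    ∀ m : ℕ, 1 ≤ m → m ≤ i / 2 → Y c k m ∈ img a i := by
  intro m
  induction m using Nat.strong_induction_on with
  | _ m IH =>
    intro hm1 hm2
    by_cases h2 : 2 * m ≤ c
    · exact ⟨Y c k (2 * m), Y_mem_Nfil i (2 * m) (by omega) (by omega), NV_Y a m h2⟩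
    · have hmc : m ≤ c := by omega
      have hσ : X c k (2 * (c - m) + 1) ∈ Nfil c k i :=
        X_mem_Nfil i (2 * (c - m) + 1) (by omega) (by omega)
      have hNV : NV c k a (X c k (2 * (c - m) + 1)) ∈ img a i := ⟨_, hσ, rfl⟩
      have hsum : NV c k a (X c k (2 * (c - m) + 1)) =
          ∑ m' : Fin c, (if (m'.val + 1) + (c - m) ≤ c then
            (frobeniusEquiv k 2).symm (a ((m'.val + 1) + (c - m))) else 0) • Y c k (m'.val + 1) := by
        conv_lhs => rw [decomp (NV c k a (X c k (2 * (c - m) + 1)))]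
        have hz : (∑ j : Fin c, (NV c k a (X c k (2 * (c - m) + 1))).1 j • X c k (j.val + 1)) = 0 :=
          Finset.sum_eq_zero fun j _ => by
            show (0 : k) • X c k (j.val + 1) = 0
            exact zero_smul _ _
        rw [hz, zero_add]
        refine Finset.sum_congr rfl fun m' _ => ?_
        rw [NV_X_snd a (c - m) (by omega) m']
      have hm0 : m - 1 < c := by omega
      have h3 := Finset.add_sum_erase Finset.univ
        (fun m' : Fin c => (if (m'.val + 1) + (c - m) ≤ c then
            (frobeniusEquiv k 2).symm (a ((m'.val + 1) + (c - m))) else 0) • Y c k (m'.val + 1))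
        (Finset.mem_univ (⟨m - 1, hm0⟩ : Fin c))
      rw [← hsum] at h3
      have h4 : (if ((⟨m - 1, hm0⟩ : Fin c).val + 1) + (c - m) ≤ c then
            (frobeniusEquiv k 2).symm (a (((⟨m - 1, hm0⟩ : Fin c).val + 1) + (c - m))) else 0) •
              Y c k ((⟨m - 1, hm0⟩ : Fin c).val + 1) =
            (frobeniusEquiv k 2).symm (a c) • Y c k m := by
        show (if (m - 1 + 1) + (c - m) ≤ c then
            (frobeniusEquiv k 2).symm (a ((m - 1 + 1) + (c - m))) else 0) • Y c k (m - 1 + 1) = _
        have e1 : m - 1 + 1 = m := by omega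
        have e2 : m + (c - m) = c := by omega
        rw [e1, e2, if_pos le_rfl]
      rw [h4] at h3
      have hne : (frobeniusEquiv k 2).symm (a c) ≠ 0 := (RingEquiv.map_ne_zero_iff _).mpr ha
      have h5 : (frobeniusEquiv k 2).symm (a c) • Y c k m ∈ img a i := by
        rw [eq_sub_of_add_eq h3]
        refine Submodule.sub_mem _ hNV (Submodule.sum_mem _ fun m' hm' => ?_)
        have hne' : m' ≠ ⟨m - 1, hm0⟩ := Finset.ne_of_mem_erase hm'
        by_cases h6 : (m'.val + 1) + (c - m) ≤ c
        · have h7 : m'.val + 1 < m := by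
            have : m'.val ≠ m - 1 := fun h => hne' (Fin.ext h)
            omega
          exact Submodule.smul_mem _ _ (IH (m'.val + 1) h7 (by omega) (by omega))
        · show (if (m'.val + 1) + (c - m) ≤ c then
            (frobeniusEquiv k 2).symm (a ((m'.val + 1) + (c - m))) else 0) • Y c k (m'.val + 1) ∈ _
          rw [if_neg h6, zero_smul]
          exact Submodule.zero_mem _
      have h6 := Submodule.smul_mem (img a i) ((frobeniusEquiv k 2).symm (a c))⁻¹ h5
      rwa [inv_smul_smul₀ hne] at h6

lemma NF_fst (a : ℕ → k) (v : GcMod c k) (i : Fin c) :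
    (NF c k a v).1 i = if (i.val + 1) % 2 = 0 then coefX v ((i.val + 1) / 2) ^ 2 else 0 := rfl

lemma NF_snd (a : ℕ → k) (v : GcMod c k) (i : Fin c) :
    (NF c k a v).2 i = if (i.val + 1) % 2 = 1 then
      ∑ j : Fin c, (if c < 2 * (j.val + 1) ∧ (j.val + 1) + i.val / 2 ≤ c then
        v.1 j ^ 2 * a ((j.val + 1) + i.val / 2) else 0) else 0 := rfl

theorem main19048 (c : ℕ) (k : Type u) [Field k] [CharP k 2] [PerfectRing k 2]
    (a : ℕ → k) (ha : a c ≠ 0) (i : ℕ) (hi : i ≤ 2 * c) :
    Module.finrank k (W4c6eohyperellchar2.Nfil c k i) = i ∧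
      W4c6eohyperellchar2.NV c k a '' (W4c6eohyperellchar2.Nfil c k i : Set (W4c6eohyperellchar2.GcMod c k)) = (W4c6eohyperellchar2.Nfil c k (i / 2) : Set (W4c6eohyperellchar2.GcMod c k)) ∧
      W4c6eohyperellchar2.NF c k a ⁻¹' (W4c6eohyperellchar2.Nfil c k i : Set (W4c6eohyperellchar2.GcMod c k)) = (W4c6eohyperellchar2.Nfil c k (c + (i + 1) / 2) : Set (W4c6eohyperellchar2.GcMod c k)) := by
  refine ⟨finrank_Nfil i hi, Set.Subset.antisymm ?_ ?_, ?_⟩
  · rintro _ ⟨v, hv, rfl⟩
    rw [SetLike.mem_coe, mem_Nfil_iff] at hv ⊢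
    refine ⟨fun j _ => rfl, fun m hm => ?_⟩
    rw [NV_snd]
    have h1 : coefY v (2 * (m.val + 1)) = 0 := by
      unfold coefY
      split_ifs with h
      · exact hv.2 ⟨2 * (m.val + 1) - 1, by omega⟩ (by show min i c < 2 * (m.val + 1) - 1 + 1; omega)
      · rfl
    rw [h1, map_zero, zero_add]
    refine Finset.sum_eq_zero fun j _ => ?_
    split_ifs with hc
    · rw [hv.1 j (by omega), zero_mul, map_zero]
    · rfl
  · have hle : Nfil c k (i / 2) ≤ img a i := by
      unfold Nfil
      rw [Submodule.span_le]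
      rintro _ (⟨n, hn, rfl⟩ | ⟨n, hn, rfl⟩)
      · exact Y_mem_img a ha i hi n hn.1 (by have := hn.2; omega)
      · exfalso
        have := hn.1; have := hn.2; omega
    exact fun w hw => hle hw
  · ext v
    rw [Set.mem_preimage, SetLike.mem_coe, SetLike.mem_coe, mem_Nfil_iff, mem_Nfil_iff]
    constructor
    · rintro ⟨H1, H2⟩
      refine ⟨?_, fun m hm => by exfalso; have := m.2; omega⟩
      have key : ∀ J : ℕ, ∀ j : Fin c, j.val = J →
          j.val + 1 ≤ 2 * c - (c + (i + 1) / 2) → v.1 j = 0 := by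
        intro J
        induction J using Nat.strong_induction_on with
        | _ J IH =>
          intro j hjJ hj
          by_cases h2 : 2 * (j.val + 1) ≤ c
          · have h3 := H1 ⟨2 * (j.val + 1) - 1, by omega⟩
              (by show 2 * (j.val + 1) - 1 + 1 ≤ 2 * c - i; omega)
            rw [NF_fst] at h3
            have h4 : ((⟨2 * (j.val + 1) - 1, by omega⟩ : Fin c).val + 1) % 2 = 0 := by
              show (2 * (j.val + 1) - 1 + 1) % 2 = 0
              omega
            rw [if_pos h4] at h3
            have h5 : coefX v (((⟨2 * (j.val + 1) - 1, by omega⟩ : Fin c).val + 1) / 2) = v.1 j := by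
              have e : ((⟨2 * (j.val + 1) - 1, by omega⟩ : Fin c).val + 1) / 2 = j.val + 1 := by
                show (2 * (j.val + 1) - 1 + 1) / 2 = j.val + 1
                omega
              rw [e]
              unfold coefX
              rw [dif_pos ⟨by omega, by have := j.2; omega⟩]
              congr 1
            rw [h5] at h3
            exact (pow_eq_zero_iff two_ne_zero).mp h3
          · have hlt : 2 * (c - (j.val + 1)) < c := by have := j.2; omega
            have h3 := H2 ⟨2 * (c - (j.val + 1)), hlt⟩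
              (by show min i c < 2 * (c - (j.val + 1)) + 1; omega)
            rw [NF_snd] at h3
            have h4 : ((⟨2 * (c - (j.val + 1)), hlt⟩ : Fin c).val + 1) % 2 = 1 := by
              show (2 * (c - (j.val + 1)) + 1) % 2 = 1
              omega
            rw [if_pos h4] at h3
            have e : (⟨2 * (c - (j.val + 1)), hlt⟩ : Fin c).val / 2 = c - (j.val + 1) := by
              show (2 * (c - (j.val + 1))) / 2 = c - (j.val + 1)
              omega
            rw [e] at h3
            rw [Finset.sum_eq_single j] at h3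
            · rw [if_pos ⟨by omega, by have := j.2; omega⟩] at h3
              have h6 : (j.val + 1) + (c - (j.val + 1)) = c := by have := j.2; omega
              rw [h6] at h3
              rcases mul_eq_zero.mp h3 with h | h
              · exact (pow_eq_zero_iff two_ne_zero).mp h
              · exact absurd h ha
            · intro j' _ hj'
              split_ifs with hc
              · have hlt' : j'.val < J := by
                  have : j'.val ≠ j.val := fun h => hj' (Fin.ext h)
                  omega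
                have h7 : v.1 j' = 0 := IH j'.val hlt' j' rfl (by omega)
                rw [h7, zero_pow two_ne_zero, zero_mul]
              · rfl
            · intro h; exact absurd (Finset.mem_univ j) h
      exact fun j hj => key j.val j rfl hj
    · rintro ⟨h1, -⟩
      refine ⟨fun n' hn' => ?_, fun n' hn' => ?_⟩
      · rw [NF_fst]
        split_ifs with hev
        · have h3 : coefX v ((n'.val + 1) / 2) = 0 := by
            unfold coefX
            split_ifs with h
            · exact h1 ⟨(n'.val + 1) / 2 - 1, by omega⟩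
                (by show (n'.val + 1) / 2 - 1 + 1 ≤ 2 * c - (c + (i + 1) / 2); omega)
            · rfl
          rw [h3, zero_pow two_ne_zero]
        · rfl
      · rw [NF_snd]
        split_ifs with hodd
        · refine Finset.sum_eq_zero fun j _ => ?_
          split_ifs with hc
          · rw [h1 j (by have := n'.2; omega), zero_pow two_ne_zero, zero_mul]
          · rfl
        · rfl

end ops

end Groth.Agent.Lib.DieuNilH1
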