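import Groth.Agent.Lib.DieudProj_helper1
import Groth.Prelude.Def_W4c1extbt610Disp

/-!
# From a Dieudonné module over a perfect ring to a 3n-display (helper1)

`(M, F, V)` a Dieudonné module over a perfect ring `k`.  Then `(M, VM, F, V⁻¹)` is a 3n-display.
The normal decomposition is obtained from projectivity of `M̄/V̄M̄` (`DieudProj_helper1`) by lifting
the decomposition `M̄ = N ⊕ C` to `M` (lifting of finite projective modules along `W → W/p`,
`FiltLift_helper1`).
-/

set_option autoImplicit false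

namespace Groth.Agent.Lib.DieudDispH1

open WittVector Groth.Agent.Lib.FiltProjH1 Groth.Agent.Lib.FiltLiftH1 Groth.Agent.Lib.WittProjH1
  Groth.Agent.Lib.DieudProjH1

universe u v

section modlift

open Matrix

variable {A B : Type u} [CommRing A] [CommRing B] (Φ : A →+* B)

theorem exists_lift_module' (hΦ : Function.Surjective Φ)
    (hlift : ∀ {r : ℕ} (e : Matrix (Fin r) (Fin r) B), IsIdempotentElem e →
      ∃ e' : Matrix (Fin r) (Fin r) A, IsIdempotentElem e' ∧ Φ.mapMatrix e' = e)
    (P : Type v) [AddCommGroup P] [Module B P] [Module.Finite B P] [Module.Projective B P] :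
    ∃ (P' : Type u) (_ : AddCommGroup P') (_ : Module A P'),
      Module.Finite A P' ∧ Module.Projective A P' ∧
      ∃ π : P' →ₛₗ[Φ] P, Function.Surjective π ∧
        LinearMap.ker π = RingHom.ker Φ • (⊤ : Submodule A P') := by
  classical
  obtain ⟨r, q, hq⟩ := Module.Finite.exists_fin' B P
  obtain ⟨s, hs⟩ := Module.projective_lifting_property q LinearMap.id hq
  have hqs : ∀ y, q (s y) = y := fun y => LinearMap.congr_fun hs y
  obtain ⟨eL, heLdef⟩ : ∃ eL : (Fin r → B) →ₗ[B] (Fin r → B), eL = s ∘ₗ q := ⟨_, rfl⟩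
  have heLa : ∀ v, eL v = s (q v) := fun v => by rw [heLdef]; rfl
  have heL : ∀ v, eL (eL v) = eL v := fun v => by rw [heLa, heLa, hqs]
  have heM : IsIdempotentElem (LinearMap.toMatrix' eL) := by
    show LinearMap.toMatrix' eL * LinearMap.toMatrix' eL = LinearMap.toMatrix' eL
    rw [← LinearMap.toMatrix'_mul]
    congr 1
    exact LinearMap.ext fun v => heL v
  obtain ⟨e'M, he'M, he'Φ⟩ := hlift _ heM
  obtain ⟨e'L, he'Ldef⟩ : ∃ e'L : (Fin r → A) →ₗ[A] (Fin r → A), e'L = Matrix.toLin' e'M :=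
    ⟨_, rfl⟩
  have he'La : ∀ v, e'L v = e'M *ᵥ v := fun v => by rw [he'Ldef, Matrix.toLin'_apply]
  have he'L : ∀ v, e'L (e'L v) = e'L v := fun v => by
    rw [he'La, he'La, Matrix.mulVec_mulVec, he'M.eq]
  have hcompat : ∀ v, piMap Φ r (e'L v) = eL (piMap Φ r v) := by
    intro v
    funext i
    have h1 : piMap Φ r (e'L v) i = Φ ((e'M *ᵥ v) i) := by rw [he'La]; rfl
    rw [h1, RingHom.map_mulVec]
    have h2 : e'M.map Φ = LinearMap.toMatrix' eL := he'Φ
    rw [h2]
    have h3 : (Φ ∘ v) = piMap Φ r v := rfl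
    rw [h3, LinearMap.toMatrix'_mulVec]
  refine ⟨LinearMap.range e'L, inferInstance, inferInstance, inferInstance, ?_, ?_⟩
  · refine Module.Projective.of_split (LinearMap.range e'L).subtype e'L.rangeRestrict ?_
    refine LinearMap.ext fun x => ?_
    obtain ⟨v, hv⟩ := x.2
    apply Subtype.ext
    show e'L x.1 = x.1
    rw [← hv, he'L]
  · let π : LinearMap.range e'L →ₛₗ[Φ] P :=
      { toFun := fun x => q (piMap Φ r x.1)
        map_add' := fun x y => by rw [Submodule.coe_add, map_add, map_add]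
        map_smul' := fun a x => by rw [Submodule.coe_smul, map_smulₛₗ, map_smul] }
    have hπ : ∀ x, π x = q (piMap Φ r x.1) := fun x => rfl
    refine ⟨π, ?_, ?_⟩
    · intro y
      obtain ⟨v, hv⟩ : ∃ v : Fin r → A, piMap Φ r v = s y :=
        ⟨fun i => Classical.choose (hΦ (s y i)),
          funext fun i => Classical.choose_spec (hΦ (s y i))⟩
      refine ⟨⟨e'L v, v, rfl⟩, ?_⟩
      rw [hπ]
      show q (piMap Φ r (e'L v)) = y
      rw [hcompat, hv, heLa, hqs, hqs]
    · apply le_antisymm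
      · intro x hx
        rw [LinearMap.mem_ker, hπ] at hx
        obtain ⟨v, hv⟩ := x.2
        have hfix : e'L x.1 = x.1 := by rw [← hv, he'L]
        have hzero : piMap Φ r x.1 = 0 := by
          rw [← hfix, hcompat, heLa, hx, map_zero]
        have hcoord : ∀ j, x.1 j ∈ RingHom.ker Φ := fun j => congrFun hzero j
        have hx1 : x.1 = ∑ j, x.1 j • (Pi.single j (1 : A) : Fin r → A) := by
          funext i
          simp [Finset.sum_apply, Pi.single_apply]
        have hsum : x = ∑ j, x.1 j •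
            (⟨e'L (Pi.single j (1 : A)), _, rfl⟩ : LinearMap.range e'L) := by
          apply Subtype.ext
          rw [Submodule.coe_sum]
          simp only [Submodule.coe_smul]
          calc x.1 = e'L x.1 := hfix.symm
            _ = e'L (∑ j, x.1 j • (Pi.single j (1 : A) : Fin r → A)) := by rw [← hx1]
            _ = ∑ j, x.1 j • e'L (Pi.single j (1 : A)) := by
              rw [map_sum]
              exact Finset.sum_congr rfl fun j _ => map_smul _ _ _
        rw [hsum]
        exact Submodule.sum_mem _ fun j _ =>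
          Submodule.smul_mem_smul (hcoord j) Submodule.mem_top
      · refine Submodule.smul_le.2 fun a ha x _ => ?_
        rw [LinearMap.mem_ker, map_smulₛₗ, RingHom.mem_ker.1 ha, zero_smul]

end modlift

section decomp

variable {A B : Type u} [CommRing A] [CommRing B] (Φ : A →+* B)
variable {M : Type v} [AddCommGroup M] [Module A M] [Module.Finite A M] [Module.Projective A M]
variable {Mb : Type v} [AddCommGroup Mb] [Module B Mb] [Module.Finite B Mb]
  [Module.Projective B Mb]

theorem exists_isCompl_lift (hΦ : Function.Surjective Φ)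
    (hlift : ∀ {r : ℕ} (e : Matrix (Fin r) (Fin r) B), IsIdempotentElem e →
      ∃ e' : Matrix (Fin r) (Fin r) A, IsIdempotentElem e' ∧ Φ.mapMatrix e' = e)
    (hjac : RingHom.ker Φ ≤ Ideal.jacobson ⊥)
    (Ik : Ideal A) (hIk : RingHom.ker Φ = Ik)
    (π : M →ₛₗ[Φ] Mb) (hπ : Function.Surjective π)
    (hkerπ : LinearMap.ker π = RingHom.ker Φ • (⊤ : Submodule A M))
    (N : Submodule B Mb) [Module.Projective B (Mb ⧸ N)] :
    ∃ L T : Submodule A M, IsCompl L T ∧ ∀ x : M, x ∈ L ⊔ Ik • T ↔ π x ∈ N := by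
  classical
  subst hIk
  obtain ⟨s, hs⟩ := Module.projective_lifting_property N.mkQ
    (LinearMap.id : (Mb ⧸ N) →ₗ[B] (Mb ⧸ N)) (Submodule.mkQ_surjective N)
  have hs' : ∀ c, N.mkQ (s c) = c := fun c => LinearMap.congr_fun hs c
  have hmem : ∀ y : Mb, y - s (N.mkQ y) ∈ N := fun y => by
    rw [← Submodule.Quotient.mk_eq_zero N, Submodule.Quotient.mk_sub, sub_eq_zero]
    exact (hs' (N.mkQ y)).symm
  let ρ : Mb →ₗ[B] N := LinearMap.codRestrict N (LinearMap.id - s ∘ₗ N.mkQ) (fun y => hmem y)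
  have hρ : ∀ n : N, ρ n = n := fun n => by
    apply Subtype.ext
    show (n : Mb) - s (N.mkQ n) = n
    rw [Submodule.mkQ_apply, (Submodule.Quotient.mk_eq_zero N).2 n.2, map_zero, sub_zero]
  haveI : Module.Projective B N :=
    Module.Projective.of_split N.subtype ρ (LinearMap.ext fun n => hρ n)
  haveI : Module.Finite B N := Module.Finite.of_surjective ρ (fun n => ⟨n, hρ n⟩)
  obtain ⟨L', iL1, iL2, hfinL, hprojL, πL, hπLs, hπLk⟩ := exists_lift_module' Φ hΦ hlift N
  obtain ⟨T', iT1, iT2, hfinT, hprojT, πT, hπTs, hπTk⟩ :=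
    exists_lift_module' Φ hΦ hlift (Mb ⧸ N)
  let π₁ : (L' × T') →ₛₗ[Φ] Mb :=
    { toFun := fun x => (πL x.1 : Mb) + s (πT x.2)
      map_add' := fun x y => by
        simp only [Prod.fst_add, Prod.snd_add, map_add, Submodule.coe_add]
        abel
      map_smul' := fun a x => by
        simp only [Prod.smul_fst, Prod.smul_snd, map_smulₛₗ, Submodule.coe_smul, smul_add,
          RingHom.id_apply] }
  have hπ₁ : ∀ x : L' × T', π₁ x = (πL x.1 : Mb) + s (πT x.2) := fun x => rfl
  have hmkQ : ∀ x : L' × T', N.mkQ (π₁ x) = πT x.2 := fun x => by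
    rw [hπ₁, map_add, hs', Submodule.mkQ_apply,
      (Submodule.Quotient.mk_eq_zero N).2 (πL x.1).2, zero_add]
  have hsurj₁ : Function.Surjective π₁ := by
    intro y
    obtain ⟨l, hl⟩ := hπLs ⟨y - s (N.mkQ y), hmem y⟩
    obtain ⟨t, ht⟩ := hπTs (N.mkQ y)
    refine ⟨(l, t), ?_⟩
    rw [hπ₁]
    show (πL l : Mb) + s (πT t) = y
    rw [hl, ht]
    show y - s (N.mkQ y) + s (N.mkQ y) = y
    abel
  have hker₁ : LinearMap.ker π₁ = RingHom.ker Φ • (⊤ : Submodule A (L' × T')) := by
    apply le_antisymm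
    · intro x hx
      rw [LinearMap.mem_ker] at hx
      have h2 : πT x.2 = 0 := by rw [← hmkQ, hx, map_zero]
      have h1 : πL x.1 = 0 := by
        have := hx
        rw [hπ₁, h2, map_zero, add_zero] at this
        exact Subtype.ext this
      have hl : x.1 ∈ RingHom.ker Φ • (⊤ : Submodule A L') := by rw [← hπLk]; exact h1
      have ht : x.2 ∈ RingHom.ker Φ • (⊤ : Submodule A T') := by rw [← hπTk]; exact h2
      have hx' : x = LinearMap.inl A L' T' x.1 + LinearMap.inr A L' T' x.2 := by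
        ext <;> simp
      rw [hx']
      exact add_mem (map_mem_smul_top _ (LinearMap.inl A L' T') hl)
        (map_mem_smul_top _ (LinearMap.inr A L' T') ht)
    · refine Submodule.smul_le.2 fun a ha x _ => ?_
      rw [LinearMap.mem_ker, map_smulₛₗ, RingHom.mem_ker.1 ha, zero_smul]
  obtain ⟨e, he⟩ := exists_equiv_of_lifts Φ hjac π₁ π hsurj₁ hker₁ hπ hkerπ
  have hsplit : ∀ (l : L') (t : T'), e (l, t) =
      (e.toLinearMap ∘ₗ LinearMap.inl A L' T') l + (e.toLinearMap ∘ₗ LinearMap.inr A L' T') t := by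
    intro l t
    rw [LinearMap.comp_apply, LinearMap.comp_apply, ← map_add]
    show e (l, t) = e _
    congr 1
    ext <;> simp
  refine ⟨LinearMap.range (e.toLinearMap ∘ₗ LinearMap.inl A L' T'),
    LinearMap.range (e.toLinearMap ∘ₗ LinearMap.inr A L' T'), ?_, ?_⟩
  · constructor
    · rw [Submodule.disjoint_def]
      rintro x ⟨l, rfl⟩ ⟨t, ht⟩
      have h1 : (LinearMap.inr A L' T' t) = LinearMap.inl A L' T' l := e.injective ht
      have hl : l = 0 := by
        have := congrArg Prod.fst h1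
        simpa using this.symm
      rw [hl]
      simp
    · rw [codisjoint_iff, eq_top_iff]
      rintro x -
      obtain ⟨⟨l, t⟩, rfl⟩ := e.surjective x
      rw [hsplit]
      exact Submodule.add_mem_sup ⟨l, rfl⟩ ⟨t, rfl⟩
  · intro x
    constructor
    · intro hx
      obtain ⟨y, hy, z, hz, rfl⟩ := Submodule.mem_sup.1 hx
      rw [map_add]
      refine N.add_mem ?_ ?_
      · obtain ⟨l, rfl⟩ := hy
        rw [LinearMap.comp_apply]
        show π (e _) ∈ N
        rw [he, hπ₁]
        simp only [LinearMap.inl_apply, map_zero, add_zero]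
        exact (πL l).2
      · have hz' : z ∈ LinearMap.ker π := by
          rw [hkerπ]
          exact Submodule.smul_mono le_rfl le_top hz
        rw [LinearMap.mem_ker.1 hz']
        exact N.zero_mem
    · intro hx
      obtain ⟨⟨l, t⟩, rfl⟩ := e.surjective x
      rw [he] at hx
      have h0 : N.mkQ (π₁ (l, t)) = 0 := by
        rw [Submodule.mkQ_apply]
        exact (Submodule.Quotient.mk_eq_zero N).2 hx
      rw [hmkQ] at h0
      have ht : t ∈ RingHom.ker Φ • (⊤ : Submodule A T') := by rw [← hπTk]; exact h0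
      rw [hsplit]
      refine Submodule.add_mem_sup ⟨l, rfl⟩ ?_
      have h3 := Submodule.mem_map_of_mem (f := e.toLinearMap ∘ₗ LinearMap.inr A L' T') ht
      rw [Submodule.map_smul'', Submodule.map_top] at h3
      exact h3

end decomp

section filt

variable (p : ℕ) [hp : Fact p.Prime] (k : Type u) [CommRing k] [CharP k p] [PerfectRing k p]

local notation "𝕎" => WittVector p

theorem pI_eq_I_one : pI p k = I p k 1 := by
  apply le_antisymm
  · rw [Ideal.span_le, Set.singleton_subset_iff, SetLike.mem_coe, mem_I]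
    intro i hi
    obtain rfl : i = 0 := by omega
    have := mul_charP_coeff_zero (1 : 𝕎 k)
    rwa [one_mul] at this
  · intro x hx
    have h0 : x.coeff 0 = 0 := (mem_I p k 1 x).1 hx 0 Nat.one_pos
    obtain ⟨y, rfl⟩ := exists_mul_p_of_coeff_zero h0
    exact Ideal.mul_mem_right _ _ (Ideal.subset_span (Set.mem_singleton _))

/-- the filtration `I (n+1)` -/
noncomputable def Kf (n : ℕ) : Ideal (𝕎 k) := I p k (n + 1)

theorem antitone_Kf : Antitone (Kf p k) := fun _ _ h => antitone_I p k (Nat.succ_le_succ h)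

theorem complete_Kf (w : ℕ → 𝕎 k) (hw : ∀ n, w (n + 1) - w n ∈ Kf p k n) :
    ∃ x, ∀ n, x - w n ∈ Kf p k n := by
  obtain ⟨x, hx⟩ := complete p k (fun n => w (n - 1)) (fun n => by
    cases n with
    | zero =>
      rw [mem_I]
      intro i hi
      omega
    | succ n => exact hw n)
  exact ⟨x, fun n => hx (n + 1)⟩

theorem iInf_Kf : ⨅ n, Kf p k n = ⊥ := by
  rw [eq_bot_iff]
  intro x hx
  rw [Ideal.mem_iInf] at hx
  rw [Ideal.mem_bot]
  ext i
  rw [WittVector.zero_coeff]
  exact (mem_I p k (i + 1) x).1 (hx i) i (Nat.lt_succ_self i)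

theorem Kf_rad (n : ℕ) : Kf p k 0 ≤ (Kf p k n).radical :=
  I_one_le_radical p k (by rw [CharP.cast_eq_zero]; exact IsNilpotent.zero) (n + 1)

theorem ker_mk_eq : RingHom.ker (Ideal.Quotient.mk (pI p k)) = Kf p k 0 := by
  rw [Ideal.mk_ker]
  exact pI_eq_I_one p k

end filt

section display

variable {p : ℕ} [hp : Fact p.Prime] {k : Type u} [CommRing k] [CharP k p] [PerfectRing k p]
variable {M : Type v} [AddCommGroup M] [Module (WittVector p k) M]
variable {τ : WittVector p k →+* WittVector p k}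
variable (F : M →ₛₗ[(WittVector.frobenius : WittVector p k →+* WittVector p k)] M)
  (V : M →ₛₗ[τ] M)

local notation "𝕎" => WittVector p

theorem IV_eq_pI : W4c1extbt610.IV p k = pI p k := by
  apply le_antisymm
  · unfold W4c1extbt610.IV
    rw [Ideal.span_le]
    rintro _ ⟨w, rfl⟩
    obtain ⟨y, rfl⟩ := (frobenius_bijective p k).2 w
    rw [SetLike.mem_coe, verschiebung_frobenius]
    exact Ideal.mul_mem_left _ _ (Ideal.subset_span (Set.mem_singleton _))
  · rw [Ideal.span_le, Set.singleton_subset_iff]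
    have h1 : (p : 𝕎 k) = verschiebung (1 : 𝕎 k) := by
      have := verschiebung_frobenius (1 : 𝕎 k)
      rw [map_one, one_mul] at this
      exact this.symm
    rw [h1]
    exact W4c1extbt610.verschiebung_mem_IV p k 1

/-- the quotient map `M → M/pM` as a semilinear map -/
noncomputable def mkQsl :
    M →ₛₗ[Ideal.Quotient.mk (pI p k)] (M ⧸ (pI p k • (⊤ : Submodule (𝕎 k) M))) where
  toFun := Submodule.Quotient.mk
  map_add' := fun _ _ => rfl
  map_smul' := fun _ _ => rfl

include F in
theorem main14863 [Module.Finite (𝕎 k) M] [Module.Projective (𝕎 k) M]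
    (hτ : ∀ a, WittVector.frobenius (τ a) = a)
    (hFV : ∀ m, F (V m) = (p : 𝕎 k) • m) (hVF : ∀ m, V (F m) = (p : 𝕎 k) • m) :
    ∃ D : W4c1extbt610.Display3n p k M,
      D.F = F ∧ (∀ x : M, x ∈ D.Q ↔ x ∈ Set.range V) ∧
        ∀ (m : M) (h : V m ∈ D.Q), D.Vinv ⟨V m, h⟩ = m := by
  classical
  have htf : ∀ x : M, (p : 𝕎 k) • x = 0 → x = 0 := by
    intro x hx
    have h1 : (p : 𝕎 k) • x ∈ (⊥ : Ideal (𝕎 k)) • (⊤ : Submodule (𝕎 k) M) := by
      rw [Submodule.bot_smul, Submodule.mem_bot]
      exact hx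
    have h2 := mem_smul_top_of_smul_mem (⊥ : Ideal (𝕎 k)) ⊥ (p : 𝕎 k)
      (fun w hw => by
        rw [Ideal.mem_bot] at hw ⊢
        exact p_mul_eq_zero hw) h1
    rw [Submodule.bot_smul, Submodule.mem_bot] at h2
    exact h2
  have hVinj : Function.Injective V := by
    intro x y hxy
    have h1 : (p : 𝕎 k) • (x - y) = 0 := by rw [← hFV, map_sub, hxy, sub_self, map_zero]
    exact sub_eq_zero.1 (htf _ h1)
  let Q : Submodule (𝕎 k) M :=
    { carrier := Set.range V
      add_mem' := by
        rintro _ _ ⟨x, rfl⟩ ⟨y, rfl⟩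
        exact ⟨x + y, map_add V x y⟩
      zero_mem' := ⟨0, map_zero V⟩
      smul_mem' := by
        rintro a _ ⟨x, rfl⟩
        exact ⟨WittVector.frobenius a • x, by rw [map_smulₛₗ, τ_frobenius hτ]⟩ }
  have hQ : ∀ x, x ∈ Q ↔ ∃ m, V m = x := fun x => Iff.rfl
  have hspec : ∀ q : Q, V (Classical.choose ((hQ q).1 q.2)) = q :=
    fun q => Classical.choose_spec ((hQ q).1 q.2)
  let Vinv : Q →ₛₗ[(WittVector.frobenius : 𝕎 k →+* 𝕎 k)] M :=
    { toFun := fun q => Classical.choose ((hQ q).1 q.2)
      map_add' := fun q₁ q₂ => by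
        apply hVinj
        rw [hspec, map_add, hspec, hspec]
        rfl
      map_smul' := fun a q => by
        apply hVinj
        rw [hspec, map_smulₛₗ, τ_frobenius hτ, hspec]
        rfl }
  have hVinv : ∀ (m : M) (h : V m ∈ Q), Vinv ⟨V m, h⟩ = m :=
    fun m h => hVinj (hspec ⟨V m, h⟩)
  have hpQ : pI p k • (⊤ : Submodule (𝕎 k) M) ≤ Q := by
    intro x hx
    obtain ⟨y, rfl⟩ := mem_pI_smul_top.1 hx
    exact ⟨F y, hVF y⟩
  have hIVle : W4c1extbt610.IV p k • (⊤ : Submodule (𝕎 k) M) ≤ Q := by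
    rw [IV_eq_pI]
    exact hpQ
  have hnormal : ∃ L T : Submodule (𝕎 k) M, IsCompl L T ∧ Q = L ⊔ W4c1extbt610.IV p k • T := by
    haveI : Module.Projective (𝕎 k ⧸ pI p k) (M ⧸ (pI p k • (⊤ : Submodule (𝕎 k) M))) :=
      projective_quotient (pI p k)
    haveI : Module.Finite (𝕎 k ⧸ pI p k) (M ⧸ (pI p k • (⊤ : Submodule (𝕎 k) M))) :=
      Module.Finite.of_restrictScalars_finite (𝕎 k) _ _
    haveI : Module.Projective (𝕎 k ⧸ pI p k)
        ((M ⧸ (pI p k • (⊤ : Submodule (𝕎 k) M))) ⧸ NV V) := (main16222 F V hτ hFV hVF).2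
    have hsurj : Function.Surjective (Ideal.Quotient.mk (pI p k)) := Ideal.Quotient.mk_surjective
    have hjac : RingHom.ker (Ideal.Quotient.mk (pI p k)) ≤ Ideal.jacobson ⊥ := by
      rw [ker_mk_eq]
      exact le_jacobson_bot (Kf p k) (antitone_Kf p k) (complete_Kf p k) (iInf_Kf p k)
        (Kf_rad p k)
    have hkerπ : LinearMap.ker (mkQsl (p := p) (k := k) (M := M)) =
        RingHom.ker (Ideal.Quotient.mk (pI p k)) • (⊤ : Submodule (𝕎 k) M) := by
      ext x
      rw [LinearMap.mem_ker, Ideal.mk_ker]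
      exact Submodule.Quotient.mk_eq_zero _
    obtain ⟨L, T, hLT, hchar⟩ := exists_isCompl_lift (Ideal.Quotient.mk (pI p k)) hsurj
      (fun e he => exists_idempotent_lift (Kf p k) (Ideal.Quotient.mk (pI p k)) (antitone_Kf p k)
        (complete_Kf p k) (iInf_Kf p k) (Kf_rad p k) hsurj (ker_mk_eq p k) e he)
      hjac (pI p k) Ideal.mk_ker (mkQsl (p := p) (k := k) (M := M))
      (Submodule.Quotient.mk_surjective _) hkerπ (NV V)
    refine ⟨L, T, hLT, ?_⟩
    rw [IV_eq_pI]
    ext x
    rw [hchar x]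
    constructor
    · rintro ⟨y, rfl⟩
      exact Submodule.subset_span (Set.mem_range_self y)
    · intro hx
      obtain ⟨y, hy⟩ := (mem_NV V hτ _).1 hx
      have h1 : x - V y ∈ pI p k • (⊤ : Submodule (𝕎 k) M) := (Submodule.Quotient.eq _).1 hy
      have h2 : x = (x - V y) + V y := by abel
      rw [h2]
      exact Q.add_mem (hpQ h1) ⟨y, rfl⟩
  have hspan : Submodule.span (𝕎 k) (Set.range Vinv) = ⊤ := by
    rw [eq_top_iff]
    rintro m -
    exact Submodule.subset_span ⟨⟨V m, ⟨m, rfl⟩⟩, hVinv m _⟩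
  have hVv : ∀ (w : 𝕎 k) (x : M),
      Vinv ⟨WittVector.verschiebung w • x,
        hIVle (Submodule.smul_mem_smul (W4c1extbt610.verschiebung_mem_IV p k w)
          Submodule.mem_top)⟩ = w • F x := by
    intro w x
    have h1 : WittVector.verschiebung w • x = V (w • F x) := by
      rw [map_smulₛₗ, hVF, smul_smul]
      congr 1
      conv_lhs => rw [← hτ w]
      rw [verschiebung_frobenius]
    apply hVinj
    exact (hspec _).trans h1
  let D : W4c1extbt610.Display3n p k M :=
    { Q := Q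
      F := F
      Vinv := Vinv
      finite := inferInstance
      projective := inferInstance
      IV_smul_le := hIVle
      exists_normal := hnormal
      span_range_Vinv := hspan
      Vinv_verschiebung_smul := hVv }
  exact ⟨D, rfl, fun x => Iff.rfl, hVinv⟩

end display

end Groth.Agent.Lib.DieudDispH1
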