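import Mathlib

set_option autoImplicit false
set_option maxHeartbeats 1000000

universe u v w

namespace Groth.Agent.Lib.DieudHomH1

open Module

section General

variable {p : ℕ} [hp : Fact p.Prime] {k : Type u} [Field k] [CharP k p] [PerfectRing k p]
  {X : Type v} [AddCommGroup X] [Module (WittVector p k) X] (F V : X →+ X)

theorem mem_span_range_iff
    (hV : ∀ (a : WittVector p k) (x : X), V (WittVector.frobenius a • x) = a • V x) {x : X} :
    x ∈ Submodule.span (WittVector p k) (Set.range V) ↔ ∃ y, V y = x := by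
  constructor
  · intro hx
    refine Submodule.span_induction (p := fun x _ => ∃ y, V y = x) ?_ ?_ ?_ ?_ hx
    · rintro x ⟨y, rfl⟩; exact ⟨y, rfl⟩
    · exact ⟨0, map_zero V⟩
    · rintro x y _ _ ⟨x', rfl⟩ ⟨y', rfl⟩; exact ⟨x' + y', map_add V x' y'⟩
    · rintro a x _ ⟨x', rfl⟩; exact ⟨WittVector.frobenius a • x', hV a x'⟩
  · rintro ⟨y, rfl⟩; exact Submodule.subset_span ⟨y, rfl⟩

theorem p_smul_mem (hVF : ∀ x : X, V (F x) = (p : WittVector p k) • x) (x : X) :
    (p : WittVector p k) • x ∈ Submodule.span (WittVector p k) (Set.range V) :=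
  Submodule.subset_span ⟨F x, hVF x⟩

theorem V_injective [Module.IsTorsionFree (WittVector p k) X]
    (hFV : ∀ x : X, F (V x) = (p : WittVector p k) • x) : Function.Injective V := by
  rw [injective_iff_map_eq_zero]
  intro x hx
  have h1 : (p : WittVector p k) • x = 0 := by rw [← hFV, hx, map_zero]
  rcases smul_eq_zero.mp h1 with h | h
  · exact absurd h (WittVector.p_nonzero p k)
  · exact h

end General

section PartA

variable {p : ℕ} [hp : Fact p.Prime] {k : Type u} [Field k] [CharP k p] [PerfectRing k p]
  {M : Type v} [AddCommGroup M] [Module (WittVector p k) M]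
  {N : Type w} [AddCommGroup N] [Module (WittVector p k) N]
  [Module.IsTorsionFree (WittVector p k) N]
  (VM : M →+ M) (FN VN : N →+ N)

theorem part_a
    (hVM : ∀ (a : WittVector p k) (m : M), VM (WittVector.frobenius a • m) = a • VM m)
    (hVN : ∀ (a : WittVector p k) (n : N), VN (WittVector.frobenius a • n) = a • VN n)
    (hFVN : ∀ n : N, FN (VN n) = (p : WittVector p k) • n)
    (h : M →ₗ[WittVector p k] N) :
    (∀ m : M, h (VM m) ∈ Submodule.span (WittVector p k) (Set.range VN)) ↔
      ∃ h' : M →ₗ[WittVector p k] N, ∀ m : M, h (VM m) = VN (h' m) := by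
  constructor
  · intro H
    have hinj := V_injective FN VN hFVN
    have H' : ∀ m, ∃ n, VN n = h (VM m) := fun m => (mem_span_range_iff VN hVN).mp (H m)
    choose g hg using H'
    refine ⟨{ toFun := g, map_add' := ?_, map_smul' := ?_ }, fun m => (hg m).symm⟩
    · intro m m'
      apply hinj
      rw [map_add VN, hg, hg, hg, map_add VM, map_add h]
    · intro a m
      apply hinj
      obtain ⟨b, rfl⟩ := (WittVector.frobenius_bijective p k).2 a
      rw [RingHom.id_apply, hVN, hg, hg, hVM, map_smul]
  · rintro ⟨h', hh'⟩ m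
    rw [hh']
    exact Submodule.subset_span ⟨h' m, rfl⟩

end PartA

section SNF

variable {p : ℕ} [hp : Fact p.Prime] {k : Type u} [Field k] [CharP k p] [PerfectRing k p]
  {M : Type v} [AddCommGroup M] [Module (WittVector p k) M]
  [Module.Free (WittVector p k) M] [Module.Finite (WittVector p k) M]
  (FM VM : M →+ M)

theorem exists_snf
    (hVFM : ∀ m : M, VM (FM m) = (p : WittVector p k) • m) :
    ∃ (ι : Type v) (_ : Fintype ι) (_ : DecidableEq ι) (b : Basis ι (WittVector p k) M)
      (a : ι → WittVector p k),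
      (∀ i, a i • b i ∈ Submodule.span (WittVector p k) (Set.range VM)) ∧
      (∀ x ∈ Submodule.span (WittVector p k) (Set.range VM),
        ∃ c : ι → WittVector p k, x = ∑ i, c i • a i • b i) ∧
      (∀ i, a i ∣ (p : WittVector p k)) := by
  classical
  obtain ⟨VMs, hVMs⟩ : ∃ VMs : Submodule (WittVector p k) M,
      VMs = Submodule.span (WittVector p k) (Set.range VM) := ⟨_, rfl⟩
  rw [← hVMs]
  have hpmem : ∀ m : M, (p : WittVector p k) • m ∈ VMs := fun m =>
    hVMs ▸ p_smul_mem FM VM hVFM m
  -- rank equality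
  let μ : M →ₗ[WittVector p k] VMs :=
    { toFun := fun m => ⟨(p : WittVector p k) • m, hpmem m⟩
      map_add' := fun m m' => Subtype.ext (smul_add _ _ _)
      map_smul' := fun c m => Subtype.ext (smul_comm _ _ _) }
  have hμ : Function.Injective μ := by
    rw [injective_iff_map_eq_zero]
    intro m hm
    have h1 : (p : WittVector p k) • m = 0 := congrArg Subtype.val hm
    rcases smul_eq_zero.mp h1 with h | h
    · exact absurd h (WittVector.p_nonzero p k)
    · exact h
  have hrank : Module.finrank (WittVector p k) VMs = Module.finrank (WittVector p k) M :=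
    le_antisymm (Submodule.finrank_le VMs) (LinearMap.finrank_le_finrank_of_injective hμ)
  obtain ⟨b, a, ab, hab⟩ := Submodule.exists_smith_normal_form_of_rank_eq
    (Module.Free.chooseBasis (WittVector p k) M) hrank
  have hS2 : ∀ x ∈ VMs, ∃ c : Module.Free.ChooseBasisIndex (WittVector p k) M → WittVector p k,
      x = ∑ i, c i • a i • b i := by
    intro x hx
    refine ⟨fun i => ab.repr ⟨x, hx⟩ i, ?_⟩
    have h1 : ((∑ i, ab.repr ⟨x, hx⟩ i • ab i : VMs) : M) = x :=
      congrArg Subtype.val (ab.sum_repr ⟨x, hx⟩)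
    refine h1.symm.trans ?_
    rw [Submodule.coe_sum]
    refine Finset.sum_congr rfl fun i _ => ?_
    rw [Submodule.coe_smul, hab]
  refine ⟨_, inferInstance, inferInstance, b, a, fun i => ?_, hS2, fun i => ?_⟩
  · rw [← hab]; exact (ab i).2
  · obtain ⟨c, hc⟩ := hS2 _ (hpmem (b i))
    have h1 := congrArg (fun x => b.repr x i) hc
    simp only [map_smul, map_sum, Basis.repr_self, Finsupp.smul_apply, Finsupp.coe_finset_sum,
      Finset.sum_apply, Finsupp.single_apply, smul_eq_mul, mul_ite, mul_one, mul_zero,
      Finset.sum_ite_eq', Finset.mem_univ, if_true, ite_true] at h1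
    exact ⟨c i, by rw [h1, mul_comm]⟩

end SNF

section PartBC

variable {p : ℕ} [hp : Fact p.Prime] {k : Type u} [Field k] [CharP k p] [PerfectRing k p]
  {M : Type v} [AddCommGroup M] [Module (WittVector p k) M]
  {N : Type w} [AddCommGroup N] [Module (WittVector p k) N]
  (FM VM : M →+ M) (FN VN : N →+ N)
  {ι : Type v} [Fintype ι] [DecidableEq ι] (b : Basis ι (WittVector p k) M)
  (a : ι → WittVector p k)

theorem basis_mem_of_isUnit
    (hS1 : ∀ i, a i • b i ∈ Submodule.span (WittVector p k) (Set.range VM)) {i : ι}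
    (hu : IsUnit (a i)) : b i ∈ Submodule.span (WittVector p k) (Set.range VM) := by
  obtain ⟨u, hu'⟩ := hu
  have h1 := Submodule.smul_mem _ (↑u⁻¹ : WittVector p k) (hS1 i)
  rwa [← hu', smul_smul, Units.inv_mul, one_smul] at h1

theorem part_b
    (hVFM : ∀ m : M, VM (FM m) = (p : WittVector p k) • m)
    (hS1 : ∀ i, a i • b i ∈ Submodule.span (WittVector p k) (Set.range VM))
    (hS2 : ∀ x ∈ Submodule.span (WittVector p k) (Set.range VM),
        ∃ c : ι → WittVector p k, x = ∑ i, c i • a i • b i)
    (hS3 : ∀ i, IsUnit (a i) ∨ ∃ w : WittVector p k, a i = (p : WittVector p k) * w)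
    (g : Submodule.span (WittVector p k) (Set.range VM) →ₗ[WittVector p k]
        N ⧸ Submodule.span (WittVector p k) (Set.range VN))
    (hg : ∀ m : M, g ⟨VM (FM m), Submodule.subset_span ⟨FM m, rfl⟩⟩ = 0) :
    ∃ h : M →ₗ[WittVector p k] N,
      ∀ x : Submodule.span (WittVector p k) (Set.range VM),
        (Submodule.span (WittVector p k) (Set.range VN)).mkQ (h x) = g x := by
  classical
  have hg' : ∀ (x : Submodule.span (WittVector p k) (Set.range VM)) (m : M),
      (x : M) = (p : WittVector p k) • m → g x = 0 := by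
    intro x m hx
    have : x = ⟨VM (FM m), Submodule.subset_span ⟨FM m, rfl⟩⟩ :=
      Subtype.ext (hx.trans (hVFM m).symm)
    rw [this]; exact hg m
  have key : ∀ i, ∃ n : N,
      (∀ (_ : IsUnit (a i)) (hmem : b i ∈ Submodule.span (WittVector p k) (Set.range VM)),
        (Submodule.span (WittVector p k) (Set.range VN)).mkQ n = g ⟨b i, hmem⟩) ∧
      (¬ IsUnit (a i) → n = 0) := by
    intro i
    by_cases hu : IsUnit (a i)
    · have hmem := basis_mem_of_isUnit VM b a hS1 hu
      obtain ⟨n, hn⟩ := Submodule.mkQ_surjective _ (g ⟨b i, hmem⟩)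
      exact ⟨n, fun _ _ => hn, fun h => absurd hu h⟩
    · exact ⟨0, fun h => absurd h hu, fun _ => rfl⟩
  choose n hn1 hn2 using key
  refine ⟨b.constr (WittVector p k) n, fun x => ?_⟩
  obtain ⟨c, hc⟩ := hS2 x x.2
  have hx : x = ∑ i, c i • (⟨a i • b i, hS1 i⟩ :
      Submodule.span (WittVector p k) (Set.range VM)) := by
    apply Subtype.ext
    rw [hc, Submodule.coe_sum]
    rfl
  have h1 : (b.constr (WittVector p k) n) (x : M) = ∑ i, c i • a i • n i := by
    rw [hc, map_sum]
    refine Finset.sum_congr rfl fun i _ => ?_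
    rw [map_smul, map_smul, Basis.constr_basis]
  rw [h1, map_sum]
  conv_rhs => rw [hx, map_sum]
  refine Finset.sum_congr rfl fun i _ => ?_
  have e1 : (Submodule.span (WittVector p k) (Set.range VN)).mkQ (c i • a i • n i) =
      c i • (Submodule.span (WittVector p k) (Set.range VN)).mkQ (a i • n i) := map_smul _ _ _
  have e2 : g (c i • (⟨a i • b i, hS1 i⟩ : Submodule.span (WittVector p k) (Set.range VM))) =
      c i • g ⟨a i • b i, hS1 i⟩ := map_smul _ _ _
  rw [e1, e2]
  congr 1
  rcases hS3 i with hu | ⟨w, hw⟩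
  · have hmem := basis_mem_of_isUnit VM b a hS1 hu
    rw [map_smul, hn1 i hu hmem, ← map_smul]
    rfl
  · by_cases hu : IsUnit (a i)
    · have hmem := basis_mem_of_isUnit VM b a hS1 hu
      rw [map_smul, hn1 i hu hmem, ← map_smul]
      rfl
    · rw [hn2 i hu, smul_zero, map_zero]
      symm
      apply hg' _ (w • b i)
      change a i • b i = _
      rw [hw, mul_smul]

/-- The evaluation map at the unit-coefficient basis vectors, mod `VN`. -/
noncomputable def Psi : (M →ₗ[WittVector p k] N) →ₗ[WittVector p k]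
    ({i // IsUnit (a i)} → N ⧸ Submodule.span (WittVector p k) (Set.range VN)) :=
  LinearMap.pi (fun u => (Submodule.span (WittVector p k) (Set.range VN)).mkQ ∘ₗ
    LinearMap.applyₗ (b u.1))

theorem Psi_apply (h : M →ₗ[WittVector p k] N) (u : {i // IsUnit (a i)}) :
    Psi VN b a h u = (Submodule.span (WittVector p k) (Set.range VN)).mkQ (h (b u.1)) := rfl

theorem Psi_surjective : Function.Surjective (Psi (M := M) VN b a) := by
  classical
  intro φ
  have h1 : ∀ u : {i // IsUnit (a i)}, ∃ n : N,
      (Submodule.span (WittVector p k) (Set.range VN)).mkQ n = φ u :=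
    fun u => Submodule.mkQ_surjective _ (φ u)
  choose n hn using h1
  refine ⟨b.constr (WittVector p k) (fun i => if hi : IsUnit (a i) then n ⟨i, hi⟩ else 0), ?_⟩
  funext u
  rw [Psi_apply, Basis.constr_basis, dif_pos u.2]
  exact hn u

theorem ker_Psi
    (hVM : ∀ (a : WittVector p k) (m : M), VM (WittVector.frobenius a • m) = a • VM m)
    (hVFN : ∀ n : N, VN (FN n) = (p : WittVector p k) • n)
    (hS1 : ∀ i, a i • b i ∈ Submodule.span (WittVector p k) (Set.range VM))
    (hS2 : ∀ x ∈ Submodule.span (WittVector p k) (Set.range VM),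
        ∃ c : ι → WittVector p k, x = ∑ i, c i • a i • b i)
    (hS3 : ∀ i, IsUnit (a i) ∨ ∃ w : WittVector p k, a i = (p : WittVector p k) * w) :
    (⨅ m : M, (Submodule.span (WittVector p k) (Set.range VN)).comap
      (LinearMap.applyₗ (VM m) : (M →ₗ[WittVector p k] N) →ₗ[WittVector p k] N)) =
      LinearMap.ker (Psi (M := M) VN b a) := by
  ext h
  rw [Submodule.mem_iInf, LinearMap.mem_ker]
  constructor
  · intro H
    funext u
    rw [Psi_apply, Pi.zero_apply, Submodule.mkQ_apply, Submodule.Quotient.mk_eq_zero]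
    have hmem := basis_mem_of_isUnit VM b a hS1 u.2
    obtain ⟨m, hm⟩ := (mem_span_range_iff VM hVM).mp hmem
    rw [← hm]
    exact H m
  · intro H m
    rw [Submodule.mem_comap]
    change h (VM m) ∈ _
    obtain ⟨c, hc⟩ := hS2 (VM m) (Submodule.subset_span ⟨m, rfl⟩)
    rw [hc, map_sum]
    refine Submodule.sum_mem _ fun i _ => ?_
    rw [map_smul, map_smul]
    apply Submodule.smul_mem
    by_cases hu : IsUnit (a i)
    · apply Submodule.smul_mem
      have h1 := congrFun H ⟨i, hu⟩
      rw [Psi_apply, Pi.zero_apply, Submodule.mkQ_apply, Submodule.Quotient.mk_eq_zero] at h1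
      exact h1
    · rcases hS3 i with hu' | ⟨w, hw⟩
      · exact absurd hu' hu
      · rw [hw, mul_smul]
        exact p_smul_mem FN VN hVFN _

/-- Coordinates modulo the Smith coefficients. -/
noncomputable def Theta : M →ₗ[WittVector p k] (∀ i, WittVector p k ⧸ Ideal.span {a i}) :=
  LinearMap.pi (fun i => (Submodule.mkQ (Ideal.span {a i})) ∘ₗ b.coord i)

theorem Theta_apply (m : M) (i : ι) :
    Theta b a m i = Submodule.Quotient.mk (b.repr m i) := rfl

theorem Theta_surjective : Function.Surjective (Theta b a) := by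
  intro φ
  have h1 : ∀ i, ∃ w : WittVector p k, Submodule.Quotient.mk w = φ i :=
    fun i => Submodule.Quotient.mk_surjective _ (φ i)
  choose w hw using h1
  refine ⟨b.equivFun.symm w, ?_⟩
  funext i
  rw [Theta_apply, ← hw i]
  congr 1
  have := congrFun (b.equivFun.apply_symm_apply w) i
  rwa [Basis.equivFun_apply] at this

theorem ker_Theta
    (hS1 : ∀ i, a i • b i ∈ Submodule.span (WittVector p k) (Set.range VM))
    (hS2 : ∀ x ∈ Submodule.span (WittVector p k) (Set.range VM),
        ∃ c : ι → WittVector p k, x = ∑ i, c i • a i • b i) :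
    LinearMap.ker (Theta b a) = Submodule.span (WittVector p k) (Set.range VM) := by
  ext m
  rw [LinearMap.mem_ker]
  constructor
  · intro H
    have h1 : ∀ i, ∃ c : WittVector p k, c * a i = b.repr m i := by
      intro i
      have h2 := congrFun H i
      rw [Theta_apply, Pi.zero_apply, Submodule.Quotient.mk_eq_zero] at h2
      exact Ideal.mem_span_singleton'.mp h2
    choose c hc using h1
    rw [← b.sum_repr m]
    refine Submodule.sum_mem _ fun i _ => ?_
    rw [← hc i, mul_smul]
    exact Submodule.smul_mem _ _ (hS1 i)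
  · intro hm
    obtain ⟨c, hc⟩ := hS2 m hm
    funext i
    rw [Theta_apply, Pi.zero_apply, Submodule.Quotient.mk_eq_zero, hc]
    simp only [map_sum, map_smul, Basis.repr_self, Finsupp.coe_finset_sum, Finsupp.coe_smul,
      Finset.sum_apply, Pi.smul_apply, Finsupp.single_apply, smul_eq_mul, mul_ite, mul_one,
      mul_zero, Finset.sum_ite_eq', Finset.mem_univ, if_true]
    exact Ideal.mul_mem_left _ _ (Ideal.mem_span_singleton_self _)

open Classical in
theorem length_quot_span_singleton (x : WittVector p k) (hx : x ∣ (p : WittVector p k)) :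
    Module.length (WittVector p k) (WittVector p k ⧸ Ideal.span {x}) =
      if IsUnit x then 0 else 1 := by
  by_cases hu : IsUnit x
  · rw [if_pos hu]
    have htop : Ideal.span {x} = ⊤ := Ideal.span_singleton_eq_top.mpr hu
    rw [Module.length_eq_zero_iff, htop]
    exact Submodule.Quotient.subsingleton_iff.mpr rfl
  · rw [if_neg hu]
    have hassoc : Associated (p : WittVector p k) x := by
      rcases (WittVector.irreducible p).dvd_iff.mp hx with h | h
      · exact absurd h hu
      · exact h
    have hspan : Ideal.span {x} = Ideal.span {(p : WittVector p k)} :=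
      (Ideal.span_singleton_eq_span_singleton.mpr hassoc).symm
    have hmax : (Ideal.span {x}).IsMaximal := by
      rw [hspan]
      exact PrincipalIdealRing.isMaximal_of_irreducible (WittVector.irreducible p)
    rw [Module.length_eq_one_iff]
    exact isSimpleModule_iff_isCoatom.mpr (Ideal.isMaximal_def.mp hmax)

open Classical in
theorem length_quot_VM
    (hS1 : ∀ i, a i • b i ∈ Submodule.span (WittVector p k) (Set.range VM))
    (hS2 : ∀ x ∈ Submodule.span (WittVector p k) (Set.range VM),
        ∃ c : ι → WittVector p k, x = ∑ i, c i • a i • b i)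
    (hdvd : ∀ i, a i ∣ (p : WittVector p k)) :
    Module.length (WittVector p k) (M ⧸ Submodule.span (WittVector p k) (Set.range VM)) =
      ((Finset.univ.filter (fun i => ¬ IsUnit (a i))).card : ℕ∞) := by
  classical
  have e1 : (M ⧸ Submodule.span (WittVector p k) (Set.range VM)) ≃ₗ[WittVector p k]
      (∀ i, WittVector p k ⧸ Ideal.span {a i}) :=
    (Submodule.quotEquivOfEq _ _ (ker_Theta VM b a hS1 hS2).symm).trans
      (LinearMap.quotKerEquivOfSurjective (Theta b a) (Theta_surjective b a))
  rw [e1.length_eq, Module.length_pi_of_fintype]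
  have h1 : ∀ i, Module.length (WittVector p k) (WittVector p k ⧸ Ideal.span {a i}) =
      if ¬ IsUnit (a i) then 1 else 0 := by
    intro i
    rw [length_quot_span_singleton (a i) (hdvd i)]
    by_cases hu : IsUnit (a i)
    · rw [if_pos hu, if_neg (not_not.mpr hu)]
    · rw [if_neg hu, if_pos hu]
  rw [Finset.sum_congr rfl (fun i _ => h1 i), Finset.sum_ite, Finset.sum_const, Finset.sum_const,
    smul_zero, add_zero, nsmul_eq_mul, mul_one]

end PartBC

end Groth.Agent.Lib.DieudHomH1
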