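import Mathlib

namespace Groth.Agent.Lib.DieudIter

open Finset

theorem main (W : Type*) [CommRing W] (σ : W →+* W) (p : ℕ)
    (M : Type*) [AddCommGroup M] [Module W M]
    (F : M →+ M) (hF : ∀ (w : W) (m : M), F (w • m) = σ w • F m)
    (d c : ℕ) (hd : 0 < d) (hc : 0 < c)
    (a : ℕ → ℕ → W) (e : ℕ → M)
    (h1 : ∀ i : ℕ, 1 ≤ i → i < d → F (e i) = e (i + 1))
    (h2 : F (e d) = (∑ i ∈ Finset.Icc 1 d, a i d • e i) + e (d + 1))
    (h3 : ∀ j : ℕ, d < j → j < d + c →
      F (e j) = (∑ i ∈ Finset.Icc 1 d, ((p : W) * a i j) • e i) + (p : W) • e (j + 1))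
    (h4 : F (e (d + c)) = ∑ i ∈ Finset.Icc 1 d, ((p : W) * a i (d + c)) • e i) :
    (⇑F)^[d + c] (e 1) = ∑ i ∈ Finset.Icc 1 d, ∑ j ∈ Finset.Icc d (d + c),
      ((p : W) ^ (j - d) * (⇑σ)^[d + c - j] (a i j)) • (⇑F)^[d + c + i - j - 1] (e 1) := by
  have Fpow : ∀ (k : ℕ) (m : M), F (((p : W) ^ k) • m) = ((p : W) ^ k) • F m := by
    intro k m; rw [hF, map_pow, map_natCast]
  -- step A
  have hA : ∀ i, 1 ≤ i → i ≤ d → e i = (⇑F)^[i - 1] (e 1) := by
    intro i hi
    induction i, hi using Nat.le_induction with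
    | base => intro _; rfl
    | succ i hi ih =>
      intro hid
      have h := ih (by omega)
      have e5 : (i - 1).succ = i := by omega
      rw [Nat.add_sub_cancel, ← h1 i hi (by omega)]
      conv_lhs => rw [h]
      rw [← Function.iterate_succ_apply' (⇑F) (i - 1) (e 1), e5]
  obtain ⟨T, hT⟩ : ∃ T : ℕ → M, ∀ J, T J = ∑ i ∈ Finset.Icc 1 d, ∑ j ∈ Finset.Icc d J,
      ((p : W) ^ (j - d) * (⇑σ)^[J - j] (a i j)) • (⇑F)^[J + i - j - 1] (e 1) :=
    ⟨_, fun _ => rfl⟩
  have stepT : ∀ j, d ≤ j →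
      F (T j) + ∑ i ∈ Finset.Icc 1 d, ((p : W) ^ (j - d) * ((p : W) * a i (j + 1))) • e i =
        T (j + 1) := by
    intro j hj
    rw [hT j, hT (j + 1), map_sum, ← Finset.sum_add_distrib]
    refine Finset.sum_congr rfl (fun i hi => ?_)
    obtain ⟨hi1, hi2⟩ := Finset.mem_Icc.mp hi
    rw [map_sum, Finset.sum_Icc_succ_top (by omega : d ≤ j + 1)]
    congr 1
    · refine Finset.sum_congr rfl (fun j' hj' => ?_)
      obtain ⟨hj1, hj2⟩ := Finset.mem_Icc.mp hj'
      have e1 : j + 1 - j' = (j - j') + 1 := by omega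
      have e2 : j + 1 + i - j' - 1 = (j + i - j' - 1) + 1 := by omega
      rw [e1, e2, Function.iterate_succ_apply', Function.iterate_succ_apply', hF, map_mul,
        map_pow, map_natCast]
    · have e3 : j + 1 + i - (j + 1) - 1 = i - 1 := by omega
      have e4 : j + 1 - d = (j - d) + 1 := by omega
      rw [Nat.sub_self, Function.iterate_zero, id, e3, e4, pow_succ, ← hA i hi1 hi2, mul_assoc]
  have Q : ∀ j, d ≤ j → j < d + c →
      (⇑F)^[j] (e 1) = T j + ((p : W) ^ (j - d)) • e (j + 1) := by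
    intro j hj
    induction j, hj using Nat.le_induction with
    | base =>
      intro _
      have hd1 : (d - 1).succ = d := by omega
      have hFd : (⇑F)^[d] (e 1) = F ((⇑F)^[d - 1] (e 1)) := by
        rw [← Function.iterate_succ_apply' (⇑F) (d - 1) (e 1), hd1]
      rw [hFd, ← hA d hd le_rfl, h2, hT d, Nat.sub_self, pow_zero, one_smul]
      congr 1
      refine Finset.sum_congr rfl (fun i hi => ?_)
      obtain ⟨hi1, hi2⟩ := Finset.mem_Icc.mp hi
      rw [Finset.Icc_self, Finset.sum_singleton, Nat.sub_self, pow_zero, one_mul,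
        Function.iterate_zero, id, Nat.add_sub_cancel_left, ← hA i hi1 hi2]
    | succ j hj ih =>
      intro hjc
      have ih' := ih (by omega)
      have e4 : j + 1 - d = (j - d) + 1 := by omega
      rw [Function.iterate_succ_apply', ih', map_add, Fpow, h3 (j + 1) (by omega) hjc,
        ← stepT j hj, smul_add, Finset.smul_sum, ← add_assoc, e4, pow_succ]
      simp only [smul_smul]
  have hlast : d ≤ d + c - 1 ∧ d + c - 1 < d + c := by omega
  have hsucc : d + c - 1 + 1 = d + c := by omega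
  have hQ := Q (d + c - 1) hlast.1 hlast.2
  rw [hsucc] at hQ
  have hs := stepT (d + c - 1) hlast.1
  rw [hsucc] at hs
  have hFl : (⇑F)^[d + c] (e 1) = F ((⇑F)^[d + c - 1] (e 1)) := by
    rw [← Function.iterate_succ_apply' (⇑F) (d + c - 1) (e 1)]
    have : (d + c - 1).succ = d + c := by omega
    rw [this]
  rw [hFl, hQ, map_add, Fpow, h4, Finset.smul_sum]
  simp only [smul_smul]
  rw [hs, hT]

end Groth.Agent.Lib.DieudIter
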