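import Groth.Agent.Lib.FiltProj_helper1

/-!
# Finite projective modules over `W(R)` and their truncations (helper1, S14860)
-/

set_option autoImplicit false

namespace Groth.Agent.Lib.WittProjH1

open WittVector Groth.Agent.Lib.FiltProjH1

universe u v

section general

variable {W : Type u} [CommRing W]

theorem map_mem_smul_top {M N : Type*} [AddCommGroup M] [Module W M] [AddCommGroup N] [Module W N]
    (J : Ideal W) (f : M →ₗ[W] N) {x : M} (hx : x ∈ J • (⊤ : Submodule W M)) :
    f x ∈ J • (⊤ : Submodule W N) := by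
  refine Submodule.smul_induction_on hx (fun a ha x _ => ?_) (fun x y hx hy => ?_)
  · rw [map_smul]
    exact Submodule.smul_mem_smul ha Submodule.mem_top
  · rw [map_add]
    exact add_mem hx hy

theorem coeff_mem_of_mem_smul_top {α : Type*} (J : Ideal W) {y : α →₀ W}
    (hy : y ∈ J • (⊤ : Submodule W (α →₀ W))) (q : α) : y q ∈ J := by
  refine Submodule.smul_induction_on hy (fun a ha x _ => ?_) (fun x z hx hz => ?_)
  · rw [Finsupp.smul_apply]
    exact J.mul_mem_right _ ha
  · rw [Finsupp.add_apply]
    exact J.add_mem hx hz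

theorem projective_quotient (J : Ideal W) {P : Type v} [AddCommGroup P] [Module W P]
    [Module.Projective W P] :
    Module.Projective (W ⧸ J) (P ⧸ J • (⊤ : Submodule W P)) := by
  apply Module.Projective.of_lifting_property''
  intro f hf
  have hsurj : Function.Surjective (algebraMap W (W ⧸ J)) := Ideal.Quotient.mk_surjective
  obtain ⟨h0, hh0⟩ := Module.projective_lifting_property (f.restrictScalars W)
    (J • ⊤ : Submodule W P).mkQ hf
  have hker : J • (⊤ : Submodule W P) ≤ LinearMap.ker h0 := by
    refine Submodule.smul_le.2 fun a ha x _ => ?_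
    rw [LinearMap.mem_ker, map_smul, ← algebraMap_smul (W ⧸ J) a (h0 x),
      Ideal.Quotient.algebraMap_eq, Ideal.Quotient.eq_zero_iff_mem.2 ha, zero_smul]
  refine ⟨LinearMap.extendScalarsOfSurjective hsurj (Submodule.liftQ _ h0 hker), ?_⟩
  refine LinearMap.ext fun y => ?_
  obtain ⟨x, rfl⟩ := Submodule.Quotient.mk_surjective _ y
  exact LinearMap.congr_fun hh0 x

theorem separated_of_projective (I : ℕ → Ideal W) (hsep : ⨅ n, I n = ⊥)
    {P : Type v} [AddCommGroup P] [Module W P] [Module.Projective W P] :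
    ⨅ n, I n • (⊤ : Submodule W P) = ⊥ := by
  obtain ⟨s, hs⟩ := (Module.projective_def' (R := W) (P := P)).1 inferInstance
  rw [eq_bot_iff]
  intro x hx
  rw [Submodule.mem_iInf] at hx
  rw [Submodule.mem_bot]
  have hsx : s x = 0 := by
    ext q
    have : s x q ∈ ⨅ n, I n := by
      rw [Ideal.mem_iInf]
      intro n
      exact coeff_mem_of_mem_smul_top (I n) (map_mem_smul_top (I n) s (hx n)) q
    rw [hsep] at this
    exact this
  have := LinearMap.congr_fun hs x
  rw [LinearMap.comp_apply, hsx, map_zero] at this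
  exact this.symm

end general

section witt

variable (p : ℕ) [hp : Fact p.Prime] (R : Type u) [CommRing R]

local notation "𝕎" => WittVector p

/-- the kernel of the truncation to length `n` -/
noncomputable abbrev I (n : ℕ) : Ideal (𝕎 R) := RingHom.ker (WittVector.truncate (p := p) (R := R) n)

theorem mem_I (n : ℕ) (x : 𝕎 R) : x ∈ I p R n ↔ ∀ i < n, x.coeff i = 0 :=
  WittVector.mem_ker_truncate n x

theorem antitone_I : Antitone (I p R) := fun m n hmn x hx => by
  rw [mem_I] at hx ⊢
  exact fun i hi => hx i (lt_of_lt_of_le hi hmn)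

theorem sub_mem_I_iff (n : ℕ) (x y : 𝕎 R) :
    x - y ∈ I p R n ↔ ∀ i < n, x.coeff i = y.coeff i := by
  rw [RingHom.sub_mem_ker_iff]
  constructor
  · intro h i hi
    have := congrArg (fun z => TruncatedWittVector.coeff ⟨i, hi⟩ z) h
    simpa [WittVector.coeff_truncate] using this
  · intro h
    ext ⟨i, hi⟩
    rw [coeff_truncate, coeff_truncate]
    exact h i hi

theorem complete (w : ℕ → 𝕎 R) (hw : ∀ n, w (n + 1) - w n ∈ I p R n) :
    ∃ x, ∀ n, x - w n ∈ I p R n := by
  have key : ∀ k m, k ≤ m → ∀ i < k, (w m).coeff i = (w k).coeff i := by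
    intro k m hkm
    induction m, hkm using Nat.le_induction with
    | base => intro i _; rfl
    | succ m hkm ih =>
      intro i hi
      rw [← ih i hi]
      exact (sub_mem_I_iff p R m _ _).1 (hw m) i (lt_of_lt_of_le hi hkm)
  refine ⟨WittVector.mk p (fun i => (w (i + 1)).coeff i), fun n => ?_⟩
  rw [sub_mem_I_iff]
  intro i hi
  rw [WittVector.coeff_mk]
  exact (key (i + 1) n hi i (Nat.lt_succ_self i)).symm

theorem iInf_I : ⨅ n, I p R n = ⊥ := by
  rw [eq_bot_iff]
  intro x hx
  rw [Ideal.mem_iInf] at hx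
  rw [Ideal.mem_bot]
  ext i
  rw [WittVector.zero_coeff]
  exact (mem_I p R (i + 1) x).1 (hx (i + 1)) i (Nat.lt_succ_self i)

theorem verschiebung_mem {n : ℕ} {y : 𝕎 R} (hy : y ∈ I p R n) :
    verschiebung y ∈ I p R (n + 1) := by
  rw [mem_I] at hy ⊢
  intro i hi
  cases i with
  | zero => exact verschiebung_coeff_zero y
  | succ i =>
    rw [verschiebung_coeff_succ]
    exact hy i (Nat.lt_of_succ_lt_succ hi)

theorem exists_verschiebung_eq {a : 𝕎 R} (ha : a ∈ I p R 1) : ∃ z, verschiebung z = a := by
  refine ⟨a.shift 1, ?_⟩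
  have := verschiebung_shift a 0 (fun i hi => (mem_I p R 1 a).1 ha i hi)
  rw [this]
  ext i
  rw [shift_coeff, zero_add]

theorem verschiebung_pow (z : 𝕎 R) (m : ℕ) :
    (verschiebung z) ^ (m + 1) = verschiebung (z ^ (m + 1) * (p : 𝕎 R) ^ m) := by
  induction m with
  | zero => simp
  | succ m ih =>
    rw [pow_succ, ih, ← verschiebung_mul_frobenius, frobenius_verschiebung]
    congr 1
    ring

theorem exists_p_pow_mem (hpn : IsNilpotent (p : R)) (n : ℕ) :
    ∃ K, (p : 𝕎 R) ^ K ∈ I p R n := by
  obtain ⟨N, hN⟩ := hpn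
  have hN1 : (p : 𝕎 R) ^ N ∈ I p R 1 := by
    rw [mem_I]
    intro i hi
    obtain rfl : i = 0 := by omega
    have h := map_pow (WittVector.constantCoeff (p := p) (R := R)) (p : 𝕎 R) N
    rw [map_natCast] at h
    have h' : ((p : 𝕎 R) ^ N).coeff 0 = (p : R) ^ N := h
    rw [h', hN]
  obtain ⟨z, hz⟩ := exists_verschiebung_eq p R hN1
  induction n with
  | zero =>
    refine ⟨0, ?_⟩
    rw [mem_I]
    intro i hi
    omega
  | succ n ih =>
    obtain ⟨K, hK⟩ := ih
    refine ⟨N + K, ?_⟩
    rw [pow_add, ← hz]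
    have : verschiebung z * (p : 𝕎 R) ^ K = verschiebung (z * (p : 𝕎 R) ^ K) := by
      rw [← verschiebung_mul_frobenius, map_pow, map_natCast]
    rw [this]
    exact verschiebung_mem p R ((I p R n).mul_mem_left z hK)

theorem I_one_le_radical (hpn : IsNilpotent (p : R)) (n : ℕ) :
    I p R 1 ≤ (I p R n).radical := by
  intro a ha
  cases n with
  | zero =>
    refine ⟨1, ?_⟩
    rw [mem_I]
    intro i hi
    omega
  | succ n =>
    obtain ⟨K, hK⟩ := exists_p_pow_mem p R hpn n
    obtain ⟨z, rfl⟩ := exists_verschiebung_eq p R ha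
    refine ⟨K + 1, ?_⟩
    rw [verschiebung_pow]
    exact verschiebung_mem p R ((I p R n).mul_mem_left _ hK)

theorem main14860 (hpn : IsNilpotent (p : R))
    (P : Type v) [AddCommGroup P] [Module (WittVector p R) P] :
    (Module.Finite (WittVector p R) P ∧ Module.Projective (WittVector p R) P) ↔
      ((⨅ n : ℕ, (RingHom.ker (WittVector.truncate (p := p) (R := R) n) •
          (⊤ : Submodule (WittVector p R) P))) = ⊥ ∧
        ∀ n : ℕ, Module.Finite (WittVector p R ⧸ RingHom.ker (WittVector.truncate (p := p) (R := R) n))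
              (P ⧸ (RingHom.ker (WittVector.truncate (p := p) (R := R) n) •
                (⊤ : Submodule (WittVector p R) P))) ∧
            Module.Projective (WittVector p R ⧸ RingHom.ker (WittVector.truncate (p := p) (R := R) n))
              (P ⧸ (RingHom.ker (WittVector.truncate (p := p) (R := R) n) •
                (⊤ : Submodule (WittVector p R) P)))) := by
  constructor
  · rintro ⟨hfin, hproj⟩
    refine ⟨separated_of_projective (I p R) (iInf_I p R), fun n => ⟨?_, projective_quotient _⟩⟩
    exact Module.Finite.of_restrictScalars_finite (WittVector p R) _ _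
  · rintro ⟨hsep, h⟩
    exact finite_projective_of_quotients (I p R) (antitone_I p R) (complete p R) (iInf_I p R)
      (I_one_le_radical p R hpn) hsep (fun n => (h n).1) (fun n => (h n).2)

end witt

end Groth.Agent.Lib.WittProjH1
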