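import Groth.Agent.Lib.FiltLift_helper1
import Groth.Agent.Lib.WittProj_helper1

/-!
# Lifting finite projective modules along `W(S) → W(R)` (helper1)

`φ : S → R` surjective with nil kernel.  The kernel of `W(S) → W(R)` is filtered by
`K n = ker ⊓ I n` (`I n` the kernel of truncation); `W(S)` is complete and separated for it and
`K 0 ≤ radical (K n)`.  Hence finite projective modules lift uniquely.
-/

set_option autoImplicit false

namespace Groth.Agent.Lib.WittLiftH1

open WittVector Groth.Agent.Lib.FiltProjH1 Groth.Agent.Lib.FiltLiftH1 Groth.Agent.Lib.WittProjH1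

universe u

section

variable (p : ℕ) [hp : Fact p.Prime] {S R : Type u} [CommRing S] [CommRing R] (φ : S →+* R)

local notation "𝕎" => WittVector p

/-- the filtration on the kernel of `W(S) → W(R)` -/
noncomputable def K (n : ℕ) : Ideal (𝕎 S) :=
  RingHom.ker (WittVector.map (p := p) φ) ⊓ I p S n

theorem mem_kerMap (x : 𝕎 S) :
    x ∈ RingHom.ker (WittVector.map (p := p) φ) ↔ ∀ i, φ (x.coeff i) = 0 := by
  rw [RingHom.mem_ker]
  constructor
  · intro h i
    have h2 : (WittVector.map φ x).coeff i = (0 : 𝕎 R).coeff i := by rw [h]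
    rw [WittVector.map_coeff, WittVector.zero_coeff] at h2
    exact h2
  · intro h
    ext i
    rw [WittVector.map_coeff, WittVector.zero_coeff]
    exact h i

theorem K_zero : K p φ 0 = RingHom.ker (WittVector.map (p := p) φ) := by
  apply le_antisymm inf_le_left
  intro x hx
  refine ⟨hx, ?_⟩
  show x ∈ I p S 0
  rw [mem_I]
  intro i hi
  omega

theorem antitone_K : Antitone (K p φ) := fun _ _ hmn _ hx =>
  ⟨hx.1, antitone_I p S hmn hx.2⟩

theorem complete_K (w : ℕ → 𝕎 S) (hw : ∀ n, w (n + 1) - w n ∈ K p φ n) :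
    ∃ x, ∀ n, x - w n ∈ K p φ n := by
  obtain ⟨x, hx⟩ := complete p S w (fun n => (hw n).2)
  refine ⟨x, fun n => ⟨?_, hx n⟩⟩
  show x - w n ∈ RingHom.ker (WittVector.map (p := p) φ)
  rw [RingHom.sub_mem_ker_iff]
  have hconst : ∀ m, WittVector.map φ (w m) = WittVector.map φ (w 0) := by
    intro m
    induction m with
    | zero => rfl
    | succ m ih =>
      rw [← ih]
      exact (RingHom.sub_mem_ker_iff _).1 (hw m).1
  ext i
  have h1 : x.coeff i = (w (i + 1)).coeff i :=
    (sub_mem_I_iff p S (i + 1) _ _).1 (hx (i + 1)) i (Nat.lt_succ_self i)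
  calc (WittVector.map φ x).coeff i = φ (x.coeff i) := WittVector.map_coeff φ _ i
    _ = φ ((w (i + 1)).coeff i) := by rw [h1]
    _ = (WittVector.map φ (w (i + 1))).coeff i := (WittVector.map_coeff φ _ i).symm
    _ = (WittVector.map φ (w n)).coeff i := by rw [hconst (i + 1), hconst n]

theorem iInf_K : ⨅ n, K p φ n = ⊥ := by
  rw [eq_bot_iff, ← iInf_I p S]
  exact iInf_mono fun n => inf_le_right

theorem exists_pow_mem (hnil : ∀ a : S, φ a = 0 → IsNilpotent a) (n : ℕ) :
    ∀ x ∈ RingHom.ker (WittVector.map (p := p) φ), ∃ m, x ^ (m + 1) ∈ I p S n := by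
  induction n with
  | zero =>
    intro x _
    refine ⟨0, ?_⟩
    rw [mem_I]
    intro i hi
    omega
  | succ n ih =>
    intro x hx
    obtain ⟨c, hc⟩ := hnil (x.coeff 0) ((mem_kerMap p φ x).1 hx 0)
    have hyk : x ^ (c + 1) ∈ RingHom.ker (WittVector.map (p := p) φ) := by
      rw [pow_succ]
      exact Ideal.mul_mem_left _ _ hx
    have hy1 : x ^ (c + 1) ∈ I p S 1 := by
      rw [mem_I]
      intro i hi
      obtain rfl : i = 0 := by omega
      have h := map_pow (WittVector.constantCoeff (p := p) (R := S)) x (c + 1)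
      have h' : (x ^ (c + 1)).coeff 0 = (x.coeff 0) ^ (c + 1) := h
      rw [h', pow_succ, hc, zero_mul]
    obtain ⟨z, hz⟩ := exists_verschiebung_eq p S hy1
    have hzk : z ∈ RingHom.ker (WittVector.map (p := p) φ) := by
      rw [mem_kerMap]
      intro i
      rw [← verschiebung_coeff_succ, hz]
      exact (mem_kerMap p φ _).1 hyk (i + 1)
    obtain ⟨m, hm⟩ := ih z hzk
    refine ⟨c * (m + 1) + m, ?_⟩
    have e : c * (m + 1) + m + 1 = (c + 1) * (m + 1) := by ring
    rw [e, pow_mul, ← hz, verschiebung_pow p S]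
    exact verschiebung_mem p S ((I p S n).mul_mem_right _ hm)

theorem K_rad (hnil : ∀ a : S, φ a = 0 → IsNilpotent a) (n : ℕ) :
    K p φ 0 ≤ (K p φ n).radical := by
  intro x hx
  have hxk : x ∈ RingHom.ker (WittVector.map (p := p) φ) := hx.1
  obtain ⟨m, hm⟩ := exists_pow_mem p φ hnil n x hxk
  refine ⟨m + 1, ?_, hm⟩
  rw [pow_succ]
  exact Ideal.mul_mem_left _ _ hxk

theorem main14867 (hφ : Function.Surjective φ)
    (hnil : ∀ a : S, φ a = 0 → IsNilpotent a)
    (P : Type u) [AddCommGroup P] [Module (WittVector p R) P]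
    [Module.Finite (WittVector p R) P] [Module.Projective (WittVector p R) P] :
    (∃ (P' : Type u) (_ : AddCommGroup P') (_ : Module (WittVector p S) P'),
        Module.Finite (WittVector p S) P' ∧ Module.Projective (WittVector p S) P' ∧
          ∃ π : P' →ₛₗ[WittVector.map (p := p) φ] P, Function.Surjective π ∧
            LinearMap.ker π = RingHom.ker (WittVector.map (p := p) φ) • (⊤ : Submodule (WittVector p S) P')) ∧
      ∀ (P₁ : Type u) [AddCommGroup P₁] [Module (WittVector p S) P₁]
        [Module.Finite (WittVector p S) P₁] [Module.Projective (WittVector p S) P₁]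
        (P₂ : Type u) [AddCommGroup P₂] [Module (WittVector p S) P₂]
        [Module.Finite (WittVector p S) P₂] [Module.Projective (WittVector p S) P₂]
        (π₁ : P₁ →ₛₗ[WittVector.map (p := p) φ] P) (π₂ : P₂ →ₛₗ[WittVector.map (p := p) φ] P),
        Function.Surjective π₁ →
          LinearMap.ker π₁ = RingHom.ker (WittVector.map (p := p) φ) • (⊤ : Submodule (WittVector p S) P₁) →
        Function.Surjective π₂ →
          LinearMap.ker π₂ = RingHom.ker (WittVector.map (p := p) φ) • (⊤ : Submodule (WittVector p S) P₂) →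
        ∃ e : P₁ ≃ₗ[WittVector p S] P₂, ∀ x : P₁, π₂ (e x) = π₁ x := by
  have hsurj : Function.Surjective (WittVector.map (p := p) φ) := WittVector.map_surjective φ hφ
  have hK0 : RingHom.ker (WittVector.map (p := p) φ) = K p φ 0 := (K_zero p φ).symm
  refine ⟨?_, ?_⟩
  · exact exists_lift_module_of_idempotent_lift (WittVector.map φ) hsurj
      (fun e he => exists_idempotent_lift (K p φ) (WittVector.map φ) (antitone_K p φ)
        (complete_K p φ) (iInf_K p φ) (K_rad p φ hnil) hsurj hK0 e he) P
  · intro P₁ _ _ _ _ P₂ _ _ _ _ π₁ π₂ h₁ k₁ h₂ k₂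
    have hjac : RingHom.ker (WittVector.map (p := p) φ) ≤ Ideal.jacobson ⊥ := by
      rw [hK0]
      exact le_jacobson_bot (K p φ) (antitone_K p φ) (complete_K p φ) (iInf_K p φ)
        (K_rad p φ hnil)
    exact exists_equiv_of_lifts (WittVector.map φ) hjac π₁ π₂ h₁ k₁ h₂ k₂

end

end Groth.Agent.Lib.WittLiftH1
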