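import Groth.Agent.Lib.SplitMax_helper1
import Groth.Agent.Lib.WittLift_helper1

/-!
# Dieudonné modules over a perfect ring: `M/VM` is projective (helper1)

`k` perfect of characteristic `p`, `W = W(k)`, `M` a `W`-module with `F` (`σ`-semilinear) and
`V` (`τ = σ⁻¹`-semilinear), `FV = VF = p`.  For a prime `𝔞 ∋ p` of `W` with image `J` in `k`, the
ideal `IJ J` of Witt vectors with all coefficients in `J` is stable under `σ`, `σ⁻¹` and
`p`-saturated; the quotient `M / IJ•M` is again a Dieudonné module, and `V` is injective on it up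
to the torsion hypothesis `htor`.  This gives `VM ∩ 𝔪M̄ ⊆ 𝔪 VM̄` for all maximal `𝔪`, hence
projectivity of `M̄ / V M̄` by `SplitMax_helper1`.
-/

set_option autoImplicit false

namespace Groth.Agent.Lib.DieudProjH1

open WittVector Groth.Agent.Lib.WittProjH1 Groth.Agent.Lib.WittLiftH1 Groth.Agent.Lib.SplitMaxH1

universe u v

section proj

variable {R : Type u} [CommRing R] {M : Type v} [AddCommGroup M] [Module R M]

theorem mem_smul_top_of_smul_mem [Module.Projective R M] (I₁ I₂ : Ideal R) (a : R)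
    (h : ∀ w, a * w ∈ I₁ → w ∈ I₂) {x : M} (hx : a • x ∈ I₁ • (⊤ : Submodule R M)) :
    x ∈ I₂ • (⊤ : Submodule R M) := by
  obtain ⟨s, hs⟩ := (Module.projective_def' (R := R) (P := M)).1 inferInstance
  have h1 : ∀ m, s x m ∈ I₂ := by
    intro m
    apply h
    have h2 := coeff_mem_of_mem_smul_top I₁ (map_mem_smul_top I₁ s hx) m
    rwa [map_smul, Finsupp.smul_apply, smul_eq_mul] at h2
  have hx' : x = Finsupp.linearCombination R id (s x) := (LinearMap.congr_fun hs x).symm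
  rw [hx', Finsupp.linearCombination_apply, Finsupp.sum]
  exact Submodule.sum_mem _ fun m _ => Submodule.smul_mem_smul (h1 m) Submodule.mem_top

theorem exists_lift_mem (I₁ : Ideal R) (𝔪 : Ideal (R ⧸ I₁))
    {z : M ⧸ I₁ • (⊤ : Submodule R M)}
    (hz : z ∈ 𝔪 • (⊤ : Submodule (R ⧸ I₁) (M ⧸ I₁ • (⊤ : Submodule R M)))) :
    ∃ x ∈ (𝔪.comap (Ideal.Quotient.mk I₁)) • (⊤ : Submodule R M),
      Submodule.Quotient.mk x = z := by
  refine Submodule.smul_induction_on hz (fun a ha z' _ => ?_) (fun z₁ z₂ h₁ h₂ => ?_)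
  · obtain ⟨a, rfl⟩ := Ideal.Quotient.mk_surjective a
    obtain ⟨x', rfl⟩ := Submodule.Quotient.mk_surjective _ z'
    exact ⟨a • x', Submodule.smul_mem_smul (Ideal.mem_comap.2 ha) Submodule.mem_top, rfl⟩
  · obtain ⟨x₁, h₁, rfl⟩ := h₁
    obtain ⟨x₂, h₂, rfl⟩ := h₂
    exact ⟨x₁ + x₂, add_mem h₁ h₂, rfl⟩

end proj

section witt

variable (p : ℕ) [hp : Fact p.Prime] (k : Type u) [CommRing k] [CharP k p] [PerfectRing k p]

local notation "𝕎" => WittVector p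

/-- Witt vectors with all coefficients in `J` -/
noncomputable def IJ (J : Ideal k) : Ideal (𝕎 k) :=
  RingHom.ker (WittVector.map (p := p) (Ideal.Quotient.mk J))

/-- the ideal `(p)` of `W(k)` -/
noncomputable abbrev pI : Ideal (𝕎 k) := Ideal.span {(p : 𝕎 k)}

variable {p k}

theorem mem_IJ (J : Ideal k) (x : 𝕎 k) : x ∈ IJ p k J ↔ ∀ i, x.coeff i ∈ J := by
  unfold IJ
  rw [mem_kerMap p (Ideal.Quotient.mk J) x]
  exact forall_congr' fun i => Ideal.Quotient.eq_zero_iff_mem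

theorem frobenius_mem_IJ (J : Ideal k) {x : 𝕎 k} (hx : x ∈ IJ p k J) :
    WittVector.frobenius x ∈ IJ p k J := by
  rw [mem_IJ] at hx ⊢
  intro i
  rw [coeff_frobenius_charP]
  exact Ideal.pow_mem_of_mem J (hx i) p hp.out.pos

theorem mem_IJ_of_frobenius_mem (J : Ideal k) (hJ : J.IsRadical) {x : 𝕎 k}
    (hx : WittVector.frobenius x ∈ IJ p k J) : x ∈ IJ p k J := by
  rw [mem_IJ] at hx ⊢
  intro i
  have := hx i
  rw [coeff_frobenius_charP] at this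
  exact hJ ⟨p, this⟩

theorem mem_IJ_of_mul_p_mem (J : Ideal k) (hJ : J.IsRadical) {x : 𝕎 k}
    (hx : (p : 𝕎 k) * x ∈ IJ p k J) : x ∈ IJ p k J := by
  rw [mem_IJ] at hx ⊢
  intro i
  have := hx (i + 1)
  rw [mul_comm, mul_charP_coeff_succ] at this
  exact hJ ⟨p, this⟩

theorem exists_mul_p_of_coeff_zero {x : 𝕎 k} (hx : x.coeff 0 = 0) :
    ∃ y, x = (p : 𝕎 k) * y := by
  have hx1 : x ∈ I p k 1 := by
    rw [mem_I]
    intro i hi
    obtain rfl : i = 0 := by omega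
    exact hx
  obtain ⟨z, hz⟩ := exists_verschiebung_eq p k hx1
  obtain ⟨y, hy⟩ := (frobenius_bijective p k).2 z
  exact ⟨y, by rw [← hz, ← hy, verschiebung_frobenius, mul_comm]⟩

theorem p_mul_eq_zero {w : 𝕎 k} (h : (p : 𝕎 k) * w = 0) : w = 0 := by
  ext i
  have h1 : ((p : 𝕎 k) * w).coeff (i + 1) = (0 : 𝕎 k).coeff (i + 1) := by rw [h]
  rw [mul_comm, mul_charP_coeff_succ, zero_coeff] at h1
  rw [zero_coeff]
  apply _root_.injective_frobenius k p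
  rw [_root_.frobenius_def, _root_.frobenius_def, h1, zero_pow hp.out.ne_zero]

theorem constantCoeff_surjective :
    Function.Surjective (constantCoeff (p := p) (R := k)) := fun a =>
  ⟨teichmuller p a, teichmuller_coeff_zero p a⟩

section ideal

variable (𝔞 : Ideal (WittVector p k))

/-- image of `𝔞` in `k` -/
noncomputable def Jof : Ideal k := Ideal.map (WittVector.constantCoeff (p := p) (R := k)) 𝔞

theorem ker_constantCoeff_le (hp𝔞 : (p : 𝕎 k) ∈ 𝔞) :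
    RingHom.ker (constantCoeff (p := p) (R := k)) ≤ 𝔞 := by
  intro x hx
  have hx0 : x.coeff 0 = 0 := RingHom.mem_ker.1 hx
  obtain ⟨y, rfl⟩ := exists_mul_p_of_coeff_zero hx0
  exact Ideal.mul_mem_right _ _ hp𝔞

theorem Jof_isPrime [𝔞.IsPrime] (hp𝔞 : (p : 𝕎 k) ∈ 𝔞) : (Jof 𝔞).IsPrime :=
  Ideal.map_isPrime_of_surjective constantCoeff_surjective (ker_constantCoeff_le 𝔞 hp𝔞)

theorem coeff_zero_sub (a b : 𝕎 k) : (a - b).coeff 0 = a.coeff 0 - b.coeff 0 :=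
  map_sub (constantCoeff (p := p) (R := k)) a b

theorem le_IJ_sup : 𝔞 ≤ IJ p k (Jof 𝔞) ⊔ pI p k := by
  intro w hw
  have h0 : w.coeff 0 ∈ Jof 𝔞 := Ideal.mem_map_of_mem constantCoeff hw
  have h1 : teichmuller p (w.coeff 0) ∈ IJ p k (Jof 𝔞) := by
    rw [mem_IJ]
    intro i
    cases i with
    | zero => rw [teichmuller_coeff_zero]; exact h0
    | succ i =>
      rw [teichmuller_coeff_pos p _ (i + 1) (Nat.succ_pos i)]
      exact Ideal.zero_mem _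
  have h2 : (w - teichmuller p (w.coeff 0)).coeff 0 = 0 := by
    rw [coeff_zero_sub, teichmuller_coeff_zero, sub_self]
  obtain ⟨y, hy⟩ := exists_mul_p_of_coeff_zero h2
  have : w = teichmuller p (w.coeff 0) + (p : 𝕎 k) * y := by rw [← hy]; ring
  rw [this]
  exact Submodule.add_mem_sup h1 (Ideal.mul_mem_right _ _ (Ideal.subset_span rfl))

theorem IJ_le (hp𝔞 : (p : 𝕎 k) ∈ 𝔞) : IJ p k (Jof 𝔞) ≤ 𝔞 := by
  intro a ha
  have h0 : a.coeff 0 ∈ Jof 𝔞 := (mem_IJ _ a).1 ha 0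
  obtain ⟨b, hb, hb0⟩ :=
    (Ideal.mem_map_iff_of_surjective constantCoeff constantCoeff_surjective).1 h0
  have hb0' : b.coeff 0 = a.coeff 0 := hb0
  have h2 : (a - b).coeff 0 = 0 := by rw [coeff_zero_sub, hb0', sub_self]
  obtain ⟨y, hy⟩ := exists_mul_p_of_coeff_zero h2
  have : a = b + (p : 𝕎 k) * y := by rw [← hy]; ring
  rw [this]
  exact 𝔞.add_mem hb (Ideal.mul_mem_right _ _ hp𝔞)

end ideal

end witt

section dieud

variable {p : ℕ} [hp : Fact p.Prime] {k : Type u} [CommRing k] [CharP k p] [PerfectRing k p]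
variable {M : Type v} [AddCommGroup M] [Module (WittVector p k) M]
variable {τ : WittVector p k →+* WittVector p k}
variable (F : M →ₛₗ[(WittVector.frobenius : WittVector p k →+* WittVector p k)] M)
  (V : M →ₛₗ[τ] M)

local notation "𝕎" => WittVector p

theorem mem_pI_smul_top {x : M} :
    x ∈ pI p k • (⊤ : Submodule (𝕎 k) M) ↔ ∃ y : M, x = (p : 𝕎 k) • y := by
  constructor
  · intro hx
    refine Submodule.smul_induction_on hx (fun a ha m _ => ?_) (fun x y hx hy => ?_)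
    · obtain ⟨c, rfl⟩ := Ideal.mem_span_singleton'.1 ha
      exact ⟨c • m, by rw [smul_smul, mul_comm]⟩
    · obtain ⟨x', rfl⟩ := hx
      obtain ⟨y', rfl⟩ := hy
      exact ⟨x' + y', by rw [smul_add]⟩
  · rintro ⟨y, rfl⟩
    exact Submodule.smul_mem_smul (Ideal.subset_span rfl) Submodule.mem_top

theorem τ_frobenius (hτ : ∀ a, WittVector.frobenius (τ a) = a) (c : 𝕎 k) :
    τ (WittVector.frobenius c) = c :=
  (frobenius_bijective p k).1 (hτ _)

theorem frobenius_mem_pI {a : 𝕎 k} (ha : a ∈ pI p k) : WittVector.frobenius a ∈ pI p k := by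
  obtain ⟨c, rfl⟩ := Ideal.mem_span_singleton'.1 ha
  rw [map_mul, map_natCast]
  exact Ideal.mul_mem_left _ _ (Ideal.subset_span rfl)

theorem τ_mem_pI {a : 𝕎 k} (ha : a ∈ pI p k) : τ a ∈ pI p k := by
  obtain ⟨c, rfl⟩ := Ideal.mem_span_singleton'.1 ha
  rw [map_mul, map_natCast]
  exact Ideal.mul_mem_left _ _ (Ideal.subset_span rfl)

include F V in
theorem comap_F (hFV : ∀ m, F (V m) = (p : 𝕎 k) • m) (hVF : ∀ m, V (F m) = (p : 𝕎 k) • m)
    (htf : ∀ x : M, (p : 𝕎 k) • x = 0 → x = 0) :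
    (pI p k • (⊤ : Submodule (𝕎 k) M)).comap F =
      Submodule.span (𝕎 k) (Set.range V) ⊔ pI p k • (⊤ : Submodule (𝕎 k) M) := by
  apply le_antisymm
  · intro x hx
    rw [Submodule.mem_comap, mem_pI_smul_top] at hx
    obtain ⟨y, hy⟩ := hx
    have h1 : (p : 𝕎 k) • (x - V y) = 0 := by
      rw [smul_sub, ← hVF x, hy, map_smulₛₗ, map_natCast, sub_self]
    have h2 : x = V y := sub_eq_zero.1 (htf _ h1)
    rw [h2]
    exact Submodule.mem_sup_left (Submodule.subset_span ⟨y, rfl⟩)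
  · refine sup_le (Submodule.span_le.2 ?_) (Submodule.smul_le.2 ?_)
    · rintro _ ⟨y, rfl⟩
      rw [SetLike.mem_coe, Submodule.mem_comap, hFV]
      exact mem_pI_smul_top.2 ⟨y, rfl⟩
    · intro a ha x _
      rw [Submodule.mem_comap, map_smulₛₗ]
      exact Submodule.smul_mem_smul (frobenius_mem_pI ha) Submodule.mem_top

include F V in
theorem comap_V (hFV : ∀ m, F (V m) = (p : 𝕎 k) • m) (hVF : ∀ m, V (F m) = (p : 𝕎 k) • m)
    (htf : ∀ x : M, (p : 𝕎 k) • x = 0 → x = 0) :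
    (pI p k • (⊤ : Submodule (𝕎 k) M)).comap V =
      Submodule.span (𝕎 k) (Set.range F) ⊔ pI p k • (⊤ : Submodule (𝕎 k) M) := by
  apply le_antisymm
  · intro x hx
    rw [Submodule.mem_comap, mem_pI_smul_top] at hx
    obtain ⟨y, hy⟩ := hx
    have h1 : (p : 𝕎 k) • (x - F y) = 0 := by
      rw [smul_sub, ← hFV x, hy, map_smulₛₗ, map_natCast, sub_self]
    have h2 : x = F y := sub_eq_zero.1 (htf _ h1)
    rw [h2]
    exact Submodule.mem_sup_left (Submodule.subset_span ⟨y, rfl⟩)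
  · refine sup_le (Submodule.span_le.2 ?_) (Submodule.smul_le.2 ?_)
    · rintro _ ⟨y, rfl⟩
      rw [SetLike.mem_coe, Submodule.mem_comap, hVF]
      exact mem_pI_smul_top.2 ⟨y, rfl⟩
    · intro a ha x _
      rw [Submodule.mem_comap, map_smulₛₗ]
      exact Submodule.smul_mem_smul (τ_mem_pI ha) Submodule.mem_top

theorem F_mem_IJ_smul_top (J : Ideal k) {x : M}
    (hx : x ∈ IJ p k J • (⊤ : Submodule (𝕎 k) M)) :
    F x ∈ IJ p k J • (⊤ : Submodule (𝕎 k) M) := by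
  refine Submodule.smul_induction_on hx (fun a ha m _ => ?_) (fun x y hx hy => ?_)
  · rw [map_smulₛₗ]
    exact Submodule.smul_mem_smul (frobenius_mem_IJ J ha) Submodule.mem_top
  · rw [map_add]
    exact add_mem hx hy

include F in
theorem core_sat (hFV : ∀ m, F (V m) = (p : 𝕎 k) • m) (hVF : ∀ m, V (F m) = (p : 𝕎 k) • m)
    (𝔞 : Ideal (𝕎 k))
    (htor : ∀ y : M, (p : 𝕎 k) • y ∈ IJ p k (Jof 𝔞) • (⊤ : Submodule (𝕎 k) M) →
      ∃ y₁ ∈ IJ p k (Jof 𝔞) • (⊤ : Submodule (𝕎 k) M), ∃ z, y = y₁ + F z)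
    (y : M) (hy : V y ∈ 𝔞 • (⊤ : Submodule (𝕎 k) M)) :
    ∃ y₁ ∈ IJ p k (Jof 𝔞) • (⊤ : Submodule (𝕎 k) M), ∃ z : M,
      V y = V y₁ + (p : 𝕎 k) • z := by
  have h1 : V y ∈ IJ p k (Jof 𝔞) • (⊤ : Submodule (𝕎 k) M) ⊔ pI p k • ⊤ := by
    rw [← Submodule.sup_smul]
    exact Submodule.smul_mono_left (le_IJ_sup 𝔞) hy
  obtain ⟨u, hu, v, hv, huv⟩ := Submodule.mem_sup.1 h1
  obtain ⟨z', rfl⟩ := mem_pI_smul_top.1 hv
  have h2 : V (y - F z') = u := by
    rw [map_sub, hVF, ← huv, add_sub_cancel_right]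
  have h3 : (p : 𝕎 k) • (y - F z') ∈ IJ p k (Jof 𝔞) • (⊤ : Submodule (𝕎 k) M) := by
    rw [← hFV, h2]
    exact F_mem_IJ_smul_top F _ hu
  obtain ⟨y₁, hy₁, z, hz⟩ := htor _ h3
  have hy' : y = y₁ + F z + F z' := by rw [← hz]; abel
  refine ⟨y₁, hy₁, z + z', ?_⟩
  conv_lhs => rw [hy']
  rw [map_add, map_add, hVF, hVF, smul_add, add_assoc]

/-- the submodule `V̄ M̄` of `M̄ = M/pM` -/
noncomputable abbrev NV : Submodule (𝕎 k ⧸ pI p k) (M ⧸ (pI p k • (⊤ : Submodule (𝕎 k) M))) :=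
  Submodule.span (𝕎 k ⧸ pI p k)
    (Set.range fun m : M => (pI p k • (⊤ : Submodule (𝕎 k) M)).mkQ (V m))

theorem mem_NV (hτ : ∀ a, WittVector.frobenius (τ a) = a)
    (z : M ⧸ (pI p k • (⊤ : Submodule (𝕎 k) M))) :
    z ∈ NV V ↔ ∃ y, z = Submodule.Quotient.mk (V y) := by
  constructor
  · intro hz
    induction hz using Submodule.span_induction with
    | mem x hx =>
      obtain ⟨y, rfl⟩ := hx
      exact ⟨y, rfl⟩
    | zero => exact ⟨0, by rw [map_zero]; rfl⟩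
    | add x y _ _ hx hy =>
      obtain ⟨x', rfl⟩ := hx
      obtain ⟨y', rfl⟩ := hy
      exact ⟨x' + y', by rw [map_add]; rfl⟩
    | smul c x _ hx =>
      obtain ⟨x', rfl⟩ := hx
      obtain ⟨c, rfl⟩ := Ideal.Quotient.mk_surjective c
      refine ⟨WittVector.frobenius c • x', ?_⟩
      rw [map_smulₛₗ, τ_frobenius hτ]
      rfl
  · rintro ⟨y, rfl⟩
    exact Submodule.subset_span ⟨y, rfl⟩

theorem NV_fg (hτ : ∀ a, WittVector.frobenius (τ a) = a) [Module.Finite (𝕎 k) M] :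
    (NV V).FG := by
  obtain ⟨S, hSfin, hS⟩ := Submodule.fg_def.1 (Module.Finite.fg_top (R := 𝕎 k) (M := M))
  have hle : NV V ≤ Submodule.span (𝕎 k ⧸ pI p k)
      ((fun m : M => (Submodule.Quotient.mk (V m) :
        M ⧸ (pI p k • (⊤ : Submodule (𝕎 k) M)))) '' S) := by
    intro z hz
    obtain ⟨y, rfl⟩ := (mem_NV V hτ z).1 hz
    have hy : y ∈ Submodule.span (𝕎 k) S := by rw [hS]; exact Submodule.mem_top
    clear hz
    induction hy using Submodule.span_induction with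
    | mem x hx => exact Submodule.subset_span ⟨x, hx, rfl⟩
    | zero => rw [map_zero]; exact zero_mem _
    | add x y _ _ hx hy =>
      rw [map_add]
      exact add_mem hx hy
    | smul a x _ hx =>
      rw [map_smulₛₗ]
      exact Submodule.smul_mem _ (Ideal.Quotient.mk (pI p k) (τ a)) hx
  have heq : NV V = Submodule.span (𝕎 k ⧸ pI p k)
      ((fun m : M => (Submodule.Quotient.mk (V m) :
        M ⧸ (pI p k • (⊤ : Submodule (𝕎 k) M)))) '' S) := by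
    apply le_antisymm hle
    apply Submodule.span_mono
    rintro _ ⟨m, -, rfl⟩
    exact Set.mem_range_self m
  rw [heq]
  exact Submodule.fg_span (hSfin.image _)

theorem mk_V_mem (hτ : ∀ a, WittVector.frobenius (τ a) = a) (𝔪 : Ideal (𝕎 k ⧸ pI p k))
    (J : Ideal k) (hJ : J.IsRadical)
    (hJ𝔪 : IJ p k J ≤ 𝔪.comap (Ideal.Quotient.mk (pI p k)))
    {y : M} (hy : y ∈ IJ p k J • (⊤ : Submodule (𝕎 k) M)) :
    (Submodule.Quotient.mk (V y) : M ⧸ (pI p k • (⊤ : Submodule (𝕎 k) M))) ∈ 𝔪 • NV V := by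
  refine Submodule.smul_induction_on hy (fun a ha m _ => ?_) (fun x y hx hy => ?_)
  · rw [map_smulₛₗ]
    have ha' : τ a ∈ IJ p k J := mem_IJ_of_frobenius_mem J hJ (by rw [hτ]; exact ha)
    have h1 : Ideal.Quotient.mk (pI p k) (τ a) ∈ 𝔪 := hJ𝔪 ha'
    have h2 : (Submodule.Quotient.mk (V m) : M ⧸ (pI p k • (⊤ : Submodule (𝕎 k) M))) ∈ NV V :=
      Submodule.subset_span (Set.mem_range_self m)
    exact Submodule.smul_mem_smul h1 h2
  · rw [map_add]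
    exact add_mem hx hy

include F in
theorem sat (hτ : ∀ a, WittVector.frobenius (τ a) = a)
    (hFV : ∀ m, F (V m) = (p : 𝕎 k) • m) (hVF : ∀ m, V (F m) = (p : 𝕎 k) • m)
    (htor : ∀ J : Ideal k, J.IsPrime → ∀ y : M,
      (p : 𝕎 k) • y ∈ IJ p k J • (⊤ : Submodule (𝕎 k) M) →
      ∃ y₁ ∈ IJ p k J • (⊤ : Submodule (𝕎 k) M), ∃ z, y = y₁ + F z)
    (𝔪 : Ideal (𝕎 k ⧸ pI p k)) (h𝔪 : 𝔪.IsMaximal) :
    NV V ⊓ 𝔪 • ⊤ ≤ 𝔪 • NV V := by
  rintro z ⟨hzN, hz𝔪⟩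
  haveI : 𝔪.IsPrime := h𝔪.isPrime
  obtain ⟨𝔞, h𝔞⟩ : ∃ 𝔞 : Ideal (𝕎 k), 𝔞 = 𝔪.comap (Ideal.Quotient.mk (pI p k)) := ⟨_, rfl⟩
  haveI : 𝔞.IsPrime := by rw [h𝔞]; exact Ideal.comap_isPrime _ _
  have hp𝔞 : (p : 𝕎 k) ∈ 𝔞 := by
    have h0 : Ideal.Quotient.mk (pI p k) (p : 𝕎 k) = 0 :=
      Ideal.Quotient.eq_zero_iff_mem.2 (Ideal.subset_span (Set.mem_singleton _))
    rw [h𝔞, Ideal.mem_comap, h0]
    exact 𝔪.zero_mem
  obtain ⟨y, rfl⟩ := (mem_NV V hτ z).1 hzN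
  obtain ⟨x, hx, hxz⟩ := exists_lift_mem (pI p k) 𝔪 hz𝔪
  rw [← h𝔞] at hx
  have hVy : V y ∈ 𝔞 • (⊤ : Submodule (𝕎 k) M) := by
    have h1 : V y - x ∈ pI p k • (⊤ : Submodule (𝕎 k) M) := (Submodule.Quotient.eq _).1 hxz.symm
    have hle : pI p k • (⊤ : Submodule (𝕎 k) M) ≤ 𝔞 • ⊤ :=
      Submodule.smul_mono_left (Ideal.span_le.2 (Set.singleton_subset_iff.2 hp𝔞))
    have := add_mem (hle h1) hx
    rwa [sub_add_cancel] at this
  have hprime : (Jof 𝔞).IsPrime := Jof_isPrime 𝔞 hp𝔞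
  obtain ⟨y₁, hy₁, z', hz'⟩ := core_sat F V hFV hVF 𝔞 (htor _ hprime) y hVy
  have heq : (Submodule.Quotient.mk (V y) : M ⧸ (pI p k • (⊤ : Submodule (𝕎 k) M))) =
      Submodule.Quotient.mk (V y₁) := by
    rw [hz', Submodule.Quotient.mk_add,
      (Submodule.Quotient.mk_eq_zero _).2 (mem_pI_smul_top.2 ⟨z', rfl⟩), add_zero]
  rw [heq]
  exact mk_V_mem V hτ 𝔪 _ hprime.isRadical (h𝔞 ▸ IJ_le 𝔞 hp𝔞) hy₁

include F in
theorem projective_of_htor (hτ : ∀ a, WittVector.frobenius (τ a) = a)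
    (hFV : ∀ m, F (V m) = (p : 𝕎 k) • m) (hVF : ∀ m, V (F m) = (p : 𝕎 k) • m)
    [Module.Finite (𝕎 k) M]
    [Module.Projective (𝕎 k ⧸ pI p k) (M ⧸ (pI p k • (⊤ : Submodule (𝕎 k) M)))]
    (htor : ∀ J : Ideal k, J.IsPrime → ∀ y : M,
      (p : 𝕎 k) • y ∈ IJ p k J • (⊤ : Submodule (𝕎 k) M) →
      ∃ y₁ ∈ IJ p k J • (⊤ : Submodule (𝕎 k) M), ∃ z, y = y₁ + F z) :
    Module.Projective (𝕎 k ⧸ pI p k)
      ((M ⧸ (pI p k • (⊤ : Submodule (𝕎 k) M))) ⧸ NV V) :=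
  projective_quotient_of_maximal (NV V) (NV_fg V hτ)
    (fun 𝔪 h𝔪 => sat F V hτ hFV hVF htor 𝔪 h𝔪)

include F in
theorem main16222 (hτ : ∀ a, WittVector.frobenius (τ a) = a)
    (hFV : ∀ m, F (V m) = (p : 𝕎 k) • m) (hVF : ∀ m, V (F m) = (p : 𝕎 k) • m)
    [Module.Finite (𝕎 k) M] [Module.Projective (𝕎 k) M] :
    ((pI p k • (⊤ : Submodule (𝕎 k) M)).comap F =
        Submodule.span (𝕎 k) (Set.range V) ⊔ pI p k • (⊤ : Submodule (𝕎 k) M) ∧
      (pI p k • (⊤ : Submodule (𝕎 k) M)).comap V =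
        Submodule.span (𝕎 k) (Set.range F) ⊔ pI p k • (⊤ : Submodule (𝕎 k) M)) ∧
    Module.Projective (𝕎 k ⧸ pI p k)
      ((M ⧸ (pI p k • (⊤ : Submodule (𝕎 k) M))) ⧸ NV V) := by
  have htf : ∀ x : M, (p : 𝕎 k) • x = 0 → x = 0 := by
    intro x hx
    have h1 : (p : 𝕎 k) • x ∈ (⊥ : Ideal (𝕎 k)) • (⊤ : Submodule (𝕎 k) M) := by
      rw [Submodule.bot_smul, Submodule.mem_bot]
      exact hx
    have h2 := mem_smul_top_of_smul_mem (⊥ : Ideal (𝕎 k)) ⊥ (p : 𝕎 k)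
      (fun w hw => by
        rw [Ideal.mem_bot] at hw ⊢
        exact p_mul_eq_zero hw) h1
    rw [Submodule.bot_smul, Submodule.mem_bot] at h2
    exact h2
  haveI : Module.Projective (𝕎 k ⧸ pI p k) (M ⧸ (pI p k • (⊤ : Submodule (𝕎 k) M))) :=
    projective_quotient (pI p k)
  refine ⟨⟨comap_F F V hFV hVF htf, comap_V F V hFV hVF htf⟩, ?_⟩
  refine projective_of_htor F V hτ hFV hVF (fun J hJ y hy => ?_)
  exact ⟨y, mem_smul_top_of_smul_mem (IJ p k J) (IJ p k J) (p : 𝕎 k)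
    (fun w hw => mem_IJ_of_mul_p_mem J hJ.isRadical hw) hy, 0, by rw [map_zero, add_zero]⟩

end dieud

end Groth.Agent.Lib.DieudProjH1
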