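import Groth.Agent.Lib.DieudProj_helper1

/-!
# Truncated Dieudonné modules of level `n ≥ 2` over a perfect ring: `M/VM` is projective (helper1)

Change-of-rings versions of the torsion lemma and of projectivity of quotients, for a module over
`R ⧸ I₀` regarded as an `R`-module; then the level-`n` analogue of `DieudProj_helper1`.
-/

set_option autoImplicit false

namespace Groth.Agent.Lib.DieudTruncH1

open WittVector Groth.Agent.Lib.WittProjH1 Groth.Agent.Lib.DieudProjH1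

universe u v

section general

variable {R : Type u} [CommRing R] (I₀ : Ideal R) {M : Type v} [AddCommGroup M] [Module R M]

theorem mem_span_singleton_smul_top (a : R) {x : M} :
    x ∈ Ideal.span {a} • (⊤ : Submodule R M) ↔ ∃ y : M, x = a • y := by
  constructor
  · intro hx
    refine Submodule.smul_induction_on hx (fun b hb m _ => ?_) (fun x y hx hy => ?_)
    · obtain ⟨c, rfl⟩ := Ideal.mem_span_singleton'.1 hb
      exact ⟨c • m, by rw [smul_smul, mul_comm]⟩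
    · obtain ⟨x', rfl⟩ := hx
      obtain ⟨y', rfl⟩ := hy
      exact ⟨x' + y', by rw [smul_add]⟩
  · rintro ⟨y, rfl⟩
    exact Submodule.smul_mem_smul (Ideal.subset_span (Set.mem_singleton _)) Submodule.mem_top

theorem exists_mk_of_mem_smul_top (I₁ : Ideal R) {z : R ⧸ I₀}
    (hz : z ∈ I₁ • (⊤ : Submodule R (R ⧸ I₀))) : ∃ b ∈ I₁, z = Ideal.Quotient.mk I₀ b := by
  refine Submodule.smul_induction_on hz (fun a ha z' _ => ?_) (fun z₁ z₂ h₁ h₂ => ?_)
  · obtain ⟨w, rfl⟩ := Ideal.Quotient.mk_surjective z'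
    exact ⟨a * w, I₁.mul_mem_right w ha, rfl⟩
  · obtain ⟨b₁, hb₁, rfl⟩ := h₁
    obtain ⟨b₂, hb₂, rfl⟩ := h₂
    exact ⟨b₁ + b₂, I₁.add_mem hb₁ hb₂, (map_add _ _ _).symm⟩

variable [Module (R ⧸ I₀) M] [IsScalarTower R (R ⧸ I₀) M]

theorem mem_smul_top_of_smul_mem' [Module.Projective (R ⧸ I₀) M] (I₁ I₂ : Ideal R) (a : R)
    (h : ∀ w b, b ∈ I₁ → a * w - b ∈ I₀ → w ∈ I₂) {x : M}
    (hx : a • x ∈ I₁ • (⊤ : Submodule R M)) : x ∈ I₂ • (⊤ : Submodule R M) := by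
  obtain ⟨s, hs⟩ := (Module.projective_def' (R := R ⧸ I₀) (P := M)).1 inferInstance
  have h4 : s (a • x) = (Ideal.Quotient.mk I₀ a) • s x := by
    rw [← map_smul]
    congr 1
    exact (algebraMap_smul (R ⧸ I₀) a x).symm
  have h1 : ∀ m, ∃ w ∈ I₂, s x m = Ideal.Quotient.mk I₀ w := by
    intro m
    have h2 : (s.restrictScalars R) (a • x) ∈ I₁ • (⊤ : Submodule R (M →₀ R ⧸ I₀)) :=
      map_mem_smul_top I₁ (s.restrictScalars R) hx
    have h3 : (Finsupp.lapply m : (M →₀ R ⧸ I₀) →ₗ[R] R ⧸ I₀) ((s.restrictScalars R) (a • x)) ∈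
        I₁ • (⊤ : Submodule R (R ⧸ I₀)) := map_mem_smul_top I₁ _ h2
    obtain ⟨b, hb, hb'⟩ := exists_mk_of_mem_smul_top I₀ I₁ h3
    obtain ⟨w, hw⟩ := Ideal.Quotient.mk_surjective (s x m)
    refine ⟨w, h w b hb ?_, hw.symm⟩
    rw [← Ideal.Quotient.eq, map_mul, ← hb']
    show _ = (s (a • x)) m
    rw [h4, Finsupp.smul_apply, smul_eq_mul, ← hw]
  have hx' : x = Finsupp.linearCombination (R ⧸ I₀) id (s x) := (LinearMap.congr_fun hs x).symm
  rw [hx', Finsupp.linearCombination_apply, Finsupp.sum]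
  refine Submodule.sum_mem _ fun m _ => ?_
  obtain ⟨w, hw, hwm⟩ := h1 m
  rw [hwm]
  have h5 : Ideal.Quotient.mk I₀ w • m = w • m := algebraMap_smul (R ⧸ I₀) w m
  show Ideal.Quotient.mk I₀ w • m ∈ _
  rw [h5]
  exact Submodule.smul_mem_smul hw Submodule.mem_top

theorem projective_quotient' [Module.Projective (R ⧸ I₀) M] (I₁ : Ideal R) (h01 : I₀ ≤ I₁) :
    Module.Projective (R ⧸ I₁) (M ⧸ I₁ • (⊤ : Submodule R M)) := by
  obtain ⟨s, hs⟩ := (Module.projective_def' (R := R ⧸ I₀) (P := M)).1 inferInstance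
  let φ : (R ⧸ I₀) →ₗ[R] (R ⧸ I₁) := (Ideal.Quotient.factorₐ R h01).toLinearMap
  have hφ : ∀ w, φ (Ideal.Quotient.mk I₀ w) = Ideal.Quotient.mk I₁ w := fun w => rfl
  let t₀ : M →ₗ[R] (M →₀ R ⧸ I₁) := (Finsupp.mapRange.linearMap φ) ∘ₗ (s.restrictScalars R)
  have hker : I₁ • (⊤ : Submodule R M) ≤ LinearMap.ker t₀ := by
    refine Submodule.smul_le.2 fun a ha x _ => ?_
    rw [LinearMap.mem_ker, map_smul]
    ext m
    rw [Finsupp.smul_apply, Finsupp.zero_apply]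
    obtain ⟨c, hc⟩ := Ideal.Quotient.mk_surjective (t₀ x m)
    rw [← hc]
    show Ideal.Quotient.mk I₁ (a * c) = 0
    exact Ideal.Quotient.eq_zero_iff_mem.2 (I₁.mul_mem_right c ha)
  have hsurj : Function.Surjective (algebraMap R (R ⧸ I₁)) := Ideal.Quotient.mk_surjective
  let t : (M ⧸ I₁ • (⊤ : Submodule R M)) →ₗ[R ⧸ I₁] (M →₀ R ⧸ I₁) :=
    LinearMap.extendScalarsOfSurjective hsurj (Submodule.liftQ _ t₀ hker)
  let q : (M →₀ R ⧸ I₁) →ₗ[R ⧸ I₁] (M ⧸ I₁ • (⊤ : Submodule R M)) :=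
    Finsupp.linearCombination (R ⧸ I₁)
      (fun m : M => (Submodule.Quotient.mk m : M ⧸ I₁ • (⊤ : Submodule R M)))
  refine Module.Projective.of_split t q ?_
  refine LinearMap.ext fun y => ?_
  obtain ⟨x, rfl⟩ := Submodule.Quotient.mk_surjective _ y
  show q (t₀ x) = Submodule.Quotient.mk x
  have key : (q.restrictScalars R) ∘ₗ (Finsupp.mapRange.linearMap φ) =
      (I₁ • (⊤ : Submodule R M)).mkQ ∘ₗ
        ((Finsupp.linearCombination (R ⧸ I₀) (id : M → M)).restrictScalars R) := by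
    apply Finsupp.lhom_ext
    intro m c
    obtain ⟨w, rfl⟩ := Ideal.Quotient.mk_surjective c
    simp only [LinearMap.comp_apply, LinearMap.restrictScalars_apply,
      Finsupp.mapRange.linearMap_apply, Finsupp.mapRange_single,
      Finsupp.linearCombination_single, Submodule.mkQ_apply, id, q]
    rw [hφ]
    have h5 : Ideal.Quotient.mk I₀ w • m = w • m := algebraMap_smul (R ⧸ I₀) w m
    rw [h5]
    rfl
  have h1 := LinearMap.congr_fun key (s x)
  have h2 : Finsupp.linearCombination (R ⧸ I₀) id (s x) = x := LinearMap.congr_fun hs x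
  simp only [LinearMap.comp_apply, LinearMap.restrictScalars_apply, h2] at h1
  exact h1

end general

section dieud

variable {p : ℕ} [hp : Fact p.Prime] {k : Type u} [CommRing k] [CharP k p] [PerfectRing k p]
variable {M : Type v} [AddCommGroup M] [Module (WittVector p k) M]
variable {τ : WittVector p k →+* WittVector p k}
variable (F : M →ₛₗ[(WittVector.frobenius : WittVector p k →+* WittVector p k)] M)
  (V : M →ₛₗ[τ] M)

local notation "𝕎" => WittVector p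

include F in
theorem main16221 (hτ : ∀ a, WittVector.frobenius (τ a) = a)
    (hFV : ∀ m, F (V m) = (p : 𝕎 k) • m) (hVF : ∀ m, V (F m) = (p : 𝕎 k) • m)
    (n : ℕ) (hn : 2 ≤ n)
    [Module (𝕎 k ⧸ Ideal.span {(p : 𝕎 k) ^ n}) M]
    [IsScalarTower (𝕎 k) (𝕎 k ⧸ Ideal.span {(p : 𝕎 k) ^ n}) M]
    [Module.Finite (𝕎 k ⧸ Ideal.span {(p : 𝕎 k) ^ n}) M]
    [Module.Projective (𝕎 k ⧸ Ideal.span {(p : 𝕎 k) ^ n}) M] :
    Module.Projective (𝕎 k ⧸ pI p k)
      ((M ⧸ (pI p k • (⊤ : Submodule (𝕎 k) M))) ⧸ NV V) := by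
  haveI : Module.Finite (𝕎 k) M := Module.Finite.trans (𝕎 k ⧸ Ideal.span {(p : 𝕎 k) ^ n}) M
  have hpow : (p : 𝕎 k) ^ n = (p : 𝕎 k) * (p : 𝕎 k) ^ (n - 1) := by
    rw [← pow_succ']
    congr 1
    omega
  have h01 : Ideal.span {(p : 𝕎 k) ^ n} ≤ pI p k := by
    rw [Ideal.span_le, Set.singleton_subset_iff, hpow]
    exact Ideal.mul_mem_right _ _ (Ideal.subset_span (Set.mem_singleton _))
  haveI : Module.Projective (𝕎 k ⧸ pI p k) (M ⧸ (pI p k • (⊤ : Submodule (𝕎 k) M))) :=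
    projective_quotient' (Ideal.span {(p : 𝕎 k) ^ n}) (pI p k) h01
  refine projective_of_htor F V hτ hFV hVF (fun J hJ y hy => ?_)
  have h1 : y ∈ (IJ p k J ⊔ Ideal.span {(p : 𝕎 k) ^ (n - 1)}) • (⊤ : Submodule (𝕎 k) M) := by
    refine mem_smul_top_of_smul_mem' (Ideal.span {(p : 𝕎 k) ^ n}) (IJ p k J) _ (p : 𝕎 k) ?_ hy
    intro w b hb hwb
    obtain ⟨c, hc⟩ := Ideal.mem_span_singleton'.1 hwb
    have h2 : (p : 𝕎 k) * (w - c * (p : 𝕎 k) ^ (n - 1)) = b := by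
      rw [hpow] at hc
      linear_combination -hc
    have h3 : w - c * (p : 𝕎 k) ^ (n - 1) ∈ IJ p k J :=
      mem_IJ_of_mul_p_mem J hJ.isRadical (by rw [h2]; exact hb)
    have h4 : w = (w - c * (p : 𝕎 k) ^ (n - 1)) + c * (p : 𝕎 k) ^ (n - 1) := by ring
    rw [h4]
    exact Submodule.add_mem_sup h3
      (Ideal.mul_mem_left _ _ (Ideal.subset_span (Set.mem_singleton _)))
  rw [Submodule.sup_smul] at h1
  obtain ⟨y₁, hy₁, u, hu, hyu⟩ := Submodule.mem_sup.1 h1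
  obtain ⟨t, rfl⟩ := (mem_span_singleton_smul_top _).1 hu
  refine ⟨y₁, hy₁, V ((p : 𝕎 k) ^ (n - 2) • t), ?_⟩
  rw [hFV, smul_smul, ← pow_succ', ← hyu]
  congr 3
  omega

end dieud

end Groth.Agent.Lib.DieudTruncH1
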