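import Mathlib
import Groth.Prelude.Def_DiffOp

/-! Differential operators: basic algebra (lead). -/

namespace Groth.Agent.Lib.DiffOp

open Diff16 TensorProduct

universe u v

section Basic

variable {A B : Type u} [CommRing A] [CommRing B] [Algebra A B]
variable {M N : Type v} [AddCommGroup M] [Module A M] [Module B M] [IsScalarTower A B M]
  [AddCommGroup N] [Module A N] [Module B N] [IsScalarTower A B N]

theorem commutator_apply (D : M →ₗ[A] N) (b : B) (m : M) :
    commutator A B M N D b m = D (b • m) - b • D m := rfl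

theorem isDiffOpLE_zero_iff (D : M →ₗ[A] N) :
    IsDiffOpLE A B M N 0 D ↔ ∀ (b : B) (m : M), D (b • m) = b • D m := Iff.rfl

theorem isDiffOpLE_succ_iff (n : ℕ) (D : M →ₗ[A] N) :
    IsDiffOpLE A B M N (n + 1) D ↔ ∀ b : B, IsDiffOpLE A B M N n (commutator A B M N D b) :=
  Iff.rfl

theorem commutator_zero (b : B) : commutator A B M N (0 : M →ₗ[A] N) b = 0 := by
  ext m; simp [commutator_apply]

theorem commutator_add (D D' : M →ₗ[A] N) (b : B) :
    commutator A B M N (D + D') b = commutator A B M N D b + commutator A B M N D' b := by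
  ext m
  simp only [commutator_apply, LinearMap.add_apply, smul_add]
  abel

theorem commutator_add_right (D : M →ₗ[A] N) (b b' : B) :
    commutator A B M N D (b + b') = commutator A B M N D b + commutator A B M N D b' := by
  ext m
  simp only [commutator_apply, LinearMap.add_apply, add_smul, map_add]
  abel

theorem commutator_algebraMap (D : M →ₗ[A] N) (a : A) :
    commutator A B M N D (algebraMap A B a) = 0 := by
  ext m
  simp only [commutator_apply, algebraMap_smul, map_smul, sub_self, LinearMap.zero_apply]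

theorem commutator_eq_zero_of_isDiffOpLE_zero {D : M →ₗ[A] N} (h : IsDiffOpLE A B M N 0 D) (b : B) :
    commutator A B M N D b = 0 := by
  ext m
  simp only [commutator_apply, h b m, sub_self, LinearMap.zero_apply]

theorem isDiffOpLE_zero (n : ℕ) : IsDiffOpLE A B M N n (0 : M →ₗ[A] N) := by
  induction n with
  | zero => intro b m; simp
  | succ n ih => intro b; rw [commutator_zero]; exact ih

theorem isDiffOpLE_add {n : ℕ} : ∀ {D D' : M →ₗ[A] N}, IsDiffOpLE A B M N n D →
    IsDiffOpLE A B M N n D' → IsDiffOpLE A B M N n (D + D') := by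
  induction n with
  | zero =>
    intro D D' h h' b m
    simp only [LinearMap.add_apply, h b m, h' b m, smul_add]
  | succ n ih =>
    intro D D' h h' b
    rw [commutator_add]
    exact ih (h b) (h' b)

theorem isDiffOpLE_succ_of_le {n : ℕ} : ∀ {D : M →ₗ[A] N}, IsDiffOpLE A B M N n D →
    IsDiffOpLE A B M N (n + 1) D := by
  induction n with
  | zero =>
    intro D h b
    rw [commutator_eq_zero_of_isDiffOpLE_zero h]
    exact isDiffOpLE_zero 0
  | succ n ih =>
    intro D h b
    exact ih (h b)

theorem lsmul_isDiffOpLE_zero (b : B) :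
    IsDiffOpLE A B M M 0 ((LinearMap.lsmul B M b).restrictScalars A) := by
  intro c m
  simp only [LinearMap.coe_restrictScalars, LinearMap.lsmul_apply]
  exact smul_comm b c m

theorem commutator_mul (D : M →ₗ[A] N) (b b' : B) :
    commutator A B M N D (b * b') =
      commutator A B M N D b ∘ₗ ((LinearMap.lsmul B M b').restrictScalars A) +
        ((LinearMap.lsmul B N b).restrictScalars A) ∘ₗ commutator A B M N D b' := by
  ext m
  simp only [commutator_apply, LinearMap.add_apply, LinearMap.comp_apply,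
    LinearMap.coe_restrictScalars, LinearMap.lsmul_apply, mul_smul, smul_sub]
  abel

variable {P : Type v} [AddCommGroup P] [Module A P] [Module B P] [IsScalarTower A B P]

theorem commutator_comp (D : M →ₗ[A] N) (D' : N →ₗ[A] P) (b : B) :
    commutator A B M P (D' ∘ₗ D) b =
      D' ∘ₗ commutator A B M N D b + commutator A B N P D' b ∘ₗ D := by
  ext m
  simp only [commutator_apply, LinearMap.comp_apply, LinearMap.add_apply, map_sub]
  abel

theorem isDiffOpLE_comp : ∀ (n n' : ℕ) (D : M →ₗ[A] N) (D' : N →ₗ[A] P),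
    IsDiffOpLE A B M N n D → IsDiffOpLE A B N P n' D' →
      IsDiffOpLE A B M P (n + n') (D' ∘ₗ D) := by
  intro n
  induction n with
  | zero =>
    intro n'
    induction n' with
    | zero =>
      intro D D' hD hD' b m
      simp only [LinearMap.comp_apply]
      rw [hD b m, hD' b (D m)]
    | succ n' ih =>
      intro D D' hD hD'
      rw [Nat.zero_add]
      intro b
      rw [commutator_comp, commutator_eq_zero_of_isDiffOpLE_zero hD, LinearMap.comp_zero, zero_add]
      have h2 := ih D (commutator A B N P D' b) hD (hD' b)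
      rwa [Nat.zero_add] at h2
  | succ n ihn =>
    intro n'
    induction n' with
    | zero =>
      intro D D' hD hD'
      show IsDiffOpLE A B M P (n + 1) (D' ∘ₗ D)
      intro b
      rw [commutator_comp, commutator_eq_zero_of_isDiffOpLE_zero hD', LinearMap.zero_comp, add_zero]
      exact ihn 0 (commutator A B M N D b) D' (hD b) hD'
    | succ n' ih =>
      intro D D' hD hD'
      have e : n + 1 + (n' + 1) = (n + n' + 1) + 1 := by omega
      rw [e]
      intro b
      rw [commutator_comp]
      refine isDiffOpLE_add ?_ ?_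
      · exact ihn (n' + 1) (commutator A B M N D b) D' (hD b) hD'
      · have h2 := ih D (commutator A B N P D' b) hD (hD' b)
        have e2 : n + 1 + n' = n + n' + 1 := by omega
        rwa [e2] at h2

end Basic

section Phi

variable (A B : Type u) [CommRing A] [CommRing B] [Algebra A B]
variable (M N : Type v) [AddCommGroup M] [Module A M] [Module B M] [IsScalarTower A B M]
  [AddCommGroup N] [Module A N] [Module B N] [IsScalarTower A B N]

/-- Left multiplication: `b ↦ (D ↦ b ∘ D)`. -/
noncomputable def Lalg : B →ₐ[A] Module.End A (M →ₗ[A] N) :=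
  AlgHom.ofLinearMap
    ((LinearMap.llcomp A M N N) ∘ₗ (Algebra.lsmul A A N : B →ₐ[A] Module.End A N).toLinearMap)
    (by ext D m; simp)
    (by intro x y; ext D m; simp)

/-- Right multiplication: `b ↦ (D ↦ D ∘ b)`. -/
noncomputable def Ralg : B →ₐ[A] Module.End A (M →ₗ[A] N) :=
  AlgHom.ofLinearMap
    ((LinearMap.llcomp A M M N).flip ∘ₗ (Algebra.lsmul A A M : B →ₐ[A] Module.End A M).toLinearMap)
    (by ext D m; simp)
    (by intro x y; ext D m; simp [mul_smul, mul_comm x y])

variable {A B M N}

theorem Lalg_apply (b : B) (D : M →ₗ[A] N) (m : M) : Lalg A B M N b D m = b • D m := rfl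

theorem Ralg_apply (b : B) (D : M →ₗ[A] N) (m : M) : Ralg A B M N b D m = D (b • m) := rfl

variable (A B M N)

/-- The action of `B ⊗ B` on `Hom_A(M, N)`. -/
noncomputable def Phi : B ⊗[A] B →ₐ[A] Module.End A (M →ₗ[A] N) :=
  Algebra.TensorProduct.lift (Lalg A B M N) (Ralg A B M N) (fun x y => by
    show Lalg A B M N x * Ralg A B M N y = Ralg A B M N y * Lalg A B M N x
    ext D m
    rfl)

variable {A B M N}

theorem Phi_tmul (b b' : B) (D : M →ₗ[A] N) (m : M) :
    Phi A B M N (b ⊗ₜ[A] b') D m = b • D (b' • m) := by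
  simp only [Phi, Algebra.TensorProduct.lift_tmul, Module.End.mul_apply, Lalg_apply, Ralg_apply]

theorem Phi_mul_apply (x y : B ⊗[A] B) (D : M →ₗ[A] N) :
    Phi A B M N (x * y) D = Phi A B M N x (Phi A B M N y D) := by
  rw [map_mul]; rfl

theorem Phi_comm_apply (b : B) (D : M →ₗ[A] N) :
    Phi A B M N ((1 : B) ⊗ₜ[A] b - b ⊗ₜ[A] (1 : B)) D = commutator A B M N D b := by
  ext m
  rw [map_sub, LinearMap.sub_apply, LinearMap.sub_apply, Phi_tmul, Phi_tmul, commutator_apply,
    one_smul, one_smul]

theorem Phi_tmul_eq (b b' : B) (D : M →ₗ[A] N) :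
    Phi A B M N (b ⊗ₜ[A] b') D =
      ((LinearMap.lsmul B N b).restrictScalars A) ∘ₗ D ∘ₗ
        ((LinearMap.lsmul B M b').restrictScalars A) := by
  ext m
  rw [Phi_tmul]
  rfl

theorem Phi_isDiffOpLE (n : ℕ) (c : B ⊗[A] B) (E : M →ₗ[A] N) (hE : IsDiffOpLE A B M N n E) :
    IsDiffOpLE A B M N n (Phi A B M N c E) := by
  induction c using TensorProduct.induction_on with
  | zero => rw [map_zero, LinearMap.zero_apply]; exact isDiffOpLE_zero n
  | tmul b b' =>
    rw [Phi_tmul_eq]
    have h1 := isDiffOpLE_comp 0 n _ E (lsmul_isDiffOpLE_zero (A := A) (M := M) b') hE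
    rw [Nat.zero_add] at h1
    exact isDiffOpLE_comp n 0 _ _ h1 (lsmul_isDiffOpLE_zero (A := A) (M := N) b)
  | add x y hx hy =>
    rw [map_add, LinearMap.add_apply]
    exact isDiffOpLE_add hx hy

/-- Order `≤ n` iff all `(n+1)`-fold iterated commutators vanish. -/
theorem isDiffOpLE_iff_prod (n : ℕ) : ∀ D : M →ₗ[A] N, IsDiffOpLE A B M N n D ↔
    ∀ b : Fin (n + 1) → B,
      Phi A B M N (∏ i, ((1 : B) ⊗ₜ[A] b i - b i ⊗ₜ[A] (1 : B))) D = 0 := by
  induction n with
  | zero =>
    intro D
    constructor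
    · intro h b
      rw [Fin.prod_univ_one, Phi_comm_apply]
      exact commutator_eq_zero_of_isDiffOpLE_zero h _
    · intro h b m
      have h1 := h (fun _ => b)
      rw [Fin.prod_univ_one, Phi_comm_apply] at h1
      have h2 := LinearMap.congr_fun h1 m
      rw [commutator_apply, LinearMap.zero_apply, sub_eq_zero] at h2
      exact h2
  | succ n ih =>
    intro D
    constructor
    · intro h b
      rw [Fin.prod_univ_succ, mul_comm, Phi_mul_apply, Phi_comm_apply]
      exact (ih _).mp (h (b 0)) (fun i => b i.succ)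
    · intro h b₀
      rw [ih]
      intro b'
      have h1 := h (Fin.cons b₀ b')
      rw [Fin.prod_univ_succ, mul_comm, Phi_mul_apply, Phi_comm_apply] at h1
      simpa only [Fin.cons_zero, Fin.cons_succ] using h1

theorem prod_tmul_one {ι : Type*} (s : Finset ι) (b : ι → B) :
    ∏ i ∈ s, (b i ⊗ₜ[A] (1 : B)) = (∏ i ∈ s, b i) ⊗ₜ[A] (1 : B) := by
  classical
  induction s using Finset.induction_on with
  | empty => simp [Algebra.TensorProduct.one_def]
  | insert a s ha ih =>
    rw [Finset.prod_insert ha, Finset.prod_insert ha, ih, Algebra.TensorProduct.tmul_mul_tmul,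
      mul_one]

theorem prod_one_tmul {ι : Type*} (s : Finset ι) (b : ι → B) :
    ∏ i ∈ s, ((1 : B) ⊗ₜ[A] b i) = (1 : B) ⊗ₜ[A] (∏ i ∈ s, b i) := by
  classical
  induction s using Finset.induction_on with
  | empty => simp [Algebra.TensorProduct.one_def]
  | insert a s ha ih =>
    rw [Finset.prod_insert ha, Finset.prod_insert ha, ih, Algebra.TensorProduct.tmul_mul_tmul,
      mul_one]

theorem prod_sub_eq (n : ℕ) (b : Fin (n + 1) → B) :
    ∏ i, ((1 : B) ⊗ₜ[A] b i - b i ⊗ₜ[A] (1 : B)) =
      ∑ H : Finset (Fin (n + 1)),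
        ((-1 : ℤ) ^ H.card) • ((∏ i ∈ H, b i) ⊗ₜ[A] (∏ i ∈ Hᶜ, b i)) := by
  have h0 : ∀ i, (1 : B) ⊗ₜ[A] b i - b i ⊗ₜ[A] (1 : B) =
      (-(b i ⊗ₜ[A] (1 : B))) + (1 : B) ⊗ₜ[A] b i := by
    intro i; abel
  simp_rw [h0]
  rw [Finset.prod_add, Finset.powerset_univ]
  refine Finset.sum_congr rfl fun H _ => ?_
  rw [Finset.prod_neg, prod_tmul_one, prod_one_tmul, ← Finset.compl_eq_univ_sdiff, mul_assoc,
    Algebra.TensorProduct.tmul_mul_tmul, mul_one, one_mul, zsmul_eq_mul]
  push_cast
  rfl

theorem Phi_prod_apply (n : ℕ) (b : Fin (n + 1) → B) (D : M →ₗ[A] N) (t : M) :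
    Phi A B M N (∏ i, ((1 : B) ⊗ₜ[A] b i - b i ⊗ₜ[A] (1 : B))) D t =
      ∑ H : Finset (Fin (n + 1)),
        ((-1 : ℤ) ^ H.card) • ((∏ i ∈ H, b i) • D ((∏ i ∈ Hᶜ, b i) • t)) := by
  rw [prod_sub_eq, map_sum, LinearMap.sum_apply, LinearMap.sum_apply]
  refine Finset.sum_congr rfl fun H _ => ?_
  rw [map_zsmul, LinearMap.smul_apply, LinearMap.smul_apply, Phi_tmul]

end Phi

section Kaehler

variable {A B : Type u} [CommRing A] [CommRing B] [Algebra A B]
variable {N : Type u} [AddCommGroup N] [Module A N] [Module B N] [IsScalarTower A B N]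

theorem linearize_eq (D : B →ₗ[A] N) (x : B ⊗[A] B) :
    linearize A B B N D x = Phi A B B N x D 1 := by
  induction x using TensorProduct.induction_on with
  | zero => simp
  | tmul b b' =>
    rw [Phi_tmul]
    simp [linearize]
  | add x y hx hy =>
    rw [map_add, map_add, hx, hy]; rfl

theorem Phi_ideal_isDiffOpLE {M N : Type v} [AddCommGroup M] [Module A M] [Module B M]
    [IsScalarTower A B M] [AddCommGroup N] [Module A N] [Module B N] [IsScalarTower A B N]
    (n : ℕ) (D : M →ₗ[A] N) (hD : IsDiffOpLE A B M N (n + 1) D)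
    (z : B ⊗[A] B) (hz : z ∈ KaehlerDifferential.ideal A B) :
    IsDiffOpLE A B M N n (Phi A B M N z D) := by
  rw [← KaehlerDifferential.span_range_eq_ideal] at hz
  induction hz using Submodule.span_induction with
  | mem x hx =>
    obtain ⟨b, rfl⟩ := hx
    rw [Phi_comm_apply]
    exact hD b
  | zero => rw [map_zero, LinearMap.zero_apply]; exact isDiffOpLE_zero n
  | add x y _ _ hx hy =>
    rw [map_add, LinearMap.add_apply]
    exact isDiffOpLE_add hx hy
  | smul c x _ hx =>
    rw [smul_eq_mul, Phi_mul_apply]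
    exact Phi_isDiffOpLE n c _ hx

theorem Phi_ideal_eq_zero {M N : Type v} [AddCommGroup M] [Module A M] [Module B M]
    [IsScalarTower A B M] [AddCommGroup N] [Module A N] [Module B N] [IsScalarTower A B N]
    (D : M →ₗ[A] N) (hD : IsDiffOpLE A B M N 0 D)
    (z : B ⊗[A] B) (hz : z ∈ KaehlerDifferential.ideal A B) :
    Phi A B M N z D = 0 := by
  rw [← KaehlerDifferential.span_range_eq_ideal] at hz
  induction hz using Submodule.span_induction with
  | mem x hx =>
    obtain ⟨b, rfl⟩ := hx
    rw [Phi_comm_apply]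
    exact commutator_eq_zero_of_isDiffOpLE_zero hD b
  | zero => rw [map_zero, LinearMap.zero_apply]
  | add x y _ _ hx hy =>
    rw [map_add, LinearMap.add_apply, hx, hy, add_zero]
  | smul c x _ hx =>
    rw [smul_eq_mul, Phi_mul_apply, hx, map_zero]

theorem Phi_pow_eq_zero {M N : Type v} [AddCommGroup M] [Module A M] [Module B M]
    [IsScalarTower A B M] [AddCommGroup N] [Module A N] [Module B N] [IsScalarTower A B N]
    (n : ℕ) : ∀ D : M →ₗ[A] N, IsDiffOpLE A B M N n D →
      ∀ x ∈ (KaehlerDifferential.ideal A B) ^ (n + 1), Phi A B M N x D = 0 := by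
  induction n with
  | zero =>
    intro D hD x hx
    rw [zero_add, pow_one] at hx
    exact Phi_ideal_eq_zero D hD x hx
  | succ n ih =>
    intro D hD x hx
    have hx' : x ∈ (KaehlerDifferential.ideal A B) ^ (n + 1) • KaehlerDifferential.ideal A B := by
      rwa [smul_eq_mul, ← pow_succ]
    refine Submodule.smul_induction_on hx' (fun y hy z hz => ?_) (fun y z hy hz => ?_)
    · rw [smul_eq_mul, Phi_mul_apply]
      exact ih _ (Phi_ideal_isDiffOpLE n D hD z hz) y hy
    · rw [map_add, LinearMap.add_apply, hy, hz, add_zero]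

theorem prod_mem_ideal_pow (n : ℕ) (b : Fin (n + 1) → B) :
    ∏ i, ((1 : B) ⊗ₜ[A] b i - b i ⊗ₜ[A] (1 : B)) ∈ (KaehlerDifferential.ideal A B) ^ (n + 1) := by
  have h := Ideal.prod_mem_prod (s := (Finset.univ : Finset (Fin (n + 1))))
    (I := fun _ => KaehlerDifferential.ideal A B)
    (x := fun i => (1 : B) ⊗ₜ[A] b i - b i ⊗ₜ[A] (1 : B))
    (fun i _ => KaehlerDifferential.one_smul_sub_smul_one_mem_ideal A (b i))
  simpa using h

end Kaehler

end Groth.Agent.Lib.DiffOp
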