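import Mathlib
import Groth.Prelude.Def_DiffOp
import Groth.Agent.Lib.DiffOp_lead
import Groth.Agent.Lib.DiffOp2_lead

/-! Differential operators and formally unramified extensions: an operator on `S' ⊗[S] M`
of finite order over `S'` vanishing on `1 ⊗ m` vanishes (helper9). -/

namespace Groth.Agent.DiffEt9

open Diff16 TensorProduct Groth.Agent.Lib.DiffOp

universe u

section ideal
variable (R S S' : Type u) [CommRing R] [CommRing S] [CommRing S'] [Algebra R S] [Algebra R S']
  [Algebra S S'] [IsScalarTower R S S']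

/-- the ideal of `S' ⊗[R] S'` generated by the `1 ⊗ s - s ⊗ 1`, `s` from `S`. -/
def Jid : Ideal (S' ⊗[R] S') :=
  Ideal.span (Set.range fun s : S =>
    (1 : S') ⊗ₜ[R] algebraMap S S' s - algebraMap S S' s ⊗ₜ[R] (1 : S'))

theorem Jid_le : Jid R S S' ≤ KaehlerDifferential.ideal R S' := by
  rw [Jid, Ideal.span_le]
  rintro _ ⟨s, rfl⟩
  exact KaehlerDifferential.one_smul_sub_smul_one_mem_ideal R _

theorem ideal_le_sq_sup [Algebra.FormallyUnramified S S'] :
    KaehlerDifferential.ideal R S' ≤ (KaehlerDifferential.ideal R S') ^ 2 ⊔ Jid R S S' := by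
  set I' := KaehlerDifferential.ideal R S' with hI'
  set K := I' ^ 2 ⊔ Jid R S S' with hK
  let g₁ : S' →ₐ[S] (S' ⊗[R] S') ⧸ K :=
    (Ideal.Quotient.mkₐ S K).comp (Algebra.TensorProduct.includeLeft)
  let g₂ : S' →ₐ[S] (S' ⊗[R] S') ⧸ K :=
    { toRingHom := (Ideal.Quotient.mk K).comp
        (Algebra.TensorProduct.includeRight (R := R) (A := S') (B := S')).toRingHom
      commutes' := fun s => by
        show Ideal.Quotient.mk K ((1 : S') ⊗ₜ[R] algebraMap S S' s) =
          Ideal.Quotient.mk K (algebraMap S S' s ⊗ₜ[R] (1 : S'))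
        rw [Ideal.Quotient.eq]
        exact le_sup_right (a := I' ^ 2) (Ideal.subset_span ⟨s, rfl⟩) }
  have hnil : IsNilpotent (I'.map (Ideal.Quotient.mk K)) := by
    refine ⟨2, ?_⟩
    rw [← Ideal.map_pow, Ideal.zero_eq_bot, Ideal.map_eq_bot_iff_le_ker, Ideal.mk_ker]
    exact le_sup_left
  have hg : g₁ = g₂ := by
    refine Algebra.FormallyUnramified.ext (I'.map (Ideal.Quotient.mk K)) hnil (fun x => ?_)
    rw [Ideal.Quotient.eq]
    have : g₁ x - g₂ x = Ideal.Quotient.mk K (x ⊗ₜ[R] (1 : S') - (1 : S') ⊗ₜ[R] x) := by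
      rw [map_sub]; rfl
    rw [this]
    refine Ideal.mem_map_of_mem _ ?_
    have h := KaehlerDifferential.one_smul_sub_smul_one_mem_ideal R x
    rw [← neg_sub]
    exact neg_mem h
  rw [hI', ← KaehlerDifferential.span_range_eq_ideal, Ideal.span_le]
  rintro _ ⟨x, rfl⟩
  have h1 := AlgHom.congr_fun hg x
  have h2 : Ideal.Quotient.mk K (x ⊗ₜ[R] (1 : S')) = Ideal.Quotient.mk K ((1 : S') ⊗ₜ[R] x) := h1
  rw [Ideal.Quotient.eq] at h2
  show (1 : S') ⊗ₜ[R] x - x ⊗ₜ[R] (1 : S') ∈ K
  rw [← neg_sub]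
  exact neg_mem h2

theorem ideal_le_pow_sup [Algebra.FormallyUnramified S S'] (n : ℕ) :
    KaehlerDifferential.ideal R S' ≤ (KaehlerDifferential.ideal R S') ^ (n + 1) ⊔ Jid R S S' := by
  induction n with
  | zero => rw [zero_add, pow_one]; exact le_sup_left
  | succ n ih =>
    refine le_trans ih (sup_le ?_ le_sup_right)
    have h := ideal_le_sq_sup R S S'
    calc (KaehlerDifferential.ideal R S') ^ (n + 1)
        = (KaehlerDifferential.ideal R S') ^ n * KaehlerDifferential.ideal R S' := pow_succ _ _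
      _ ≤ (KaehlerDifferential.ideal R S') ^ n *
            ((KaehlerDifferential.ideal R S') ^ 2 ⊔ Jid R S S') := Ideal.mul_mono_right h
      _ = (KaehlerDifferential.ideal R S') ^ n * (KaehlerDifferential.ideal R S') ^ 2 ⊔
            (KaehlerDifferential.ideal R S') ^ n * Jid R S S' := Ideal.mul_sup _ _ _
      _ ≤ (KaehlerDifferential.ideal R S') ^ (n + 1 + 1) ⊔ Jid R S S' := by
          refine sup_le_sup ?_ Ideal.mul_le_right
          rw [← pow_add]

end ideal

section uniq
variable {R S S' : Type u} [CommRing R] [CommRing S] [CommRing S'] [Algebra R S] [Algebra R S']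
  [Algebra S S'] [IsScalarTower R S S']
variable {M : Type u} [AddCommGroup M] [Module S M] [Module R M] [IsScalarTower R S M]
variable {N' : Type u} [AddCommGroup N'] [Module S' N'] [Module R N'] [IsScalarTower R S' N']

theorem eq_zero_of_linear (E : S' ⊗[S] M →ₗ[R] N')
    (hE : IsDiffOpLE R S' (S' ⊗[S] M) N' 0 E) (h0 : ∀ m : M, E ((1 : S') ⊗ₜ[S] m) = 0) : E = 0 := by
  ext x
  induction x using TensorProduct.induction_on with
  | zero => simp
  | tmul s' m =>
    have e : s' ⊗ₜ[S] m = s' • ((1 : S') ⊗ₜ[S] m) := by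
      rw [TensorProduct.smul_tmul', smul_eq_mul, mul_one]
    rw [e, hE s', h0, smul_zero, LinearMap.zero_apply]
  | add x y hx hy => rw [map_add, hx, hy]; simp

theorem Phi_Jid_eq_zero (E : S' ⊗[S] M →ₗ[R] N')
    (h1 : ∀ s : S, commutator R S' (S' ⊗[S] M) N' E (algebraMap S S' s) = 0)
    (j : S' ⊗[R] S') (hj : j ∈ Jid R S S') : Phi R S' (S' ⊗[S] M) N' j E = 0 := by
  rw [Jid] at hj
  induction hj using Submodule.span_induction with
  | mem x hx =>
    obtain ⟨s, rfl⟩ := hx
    rw [Phi_comm_apply]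
    exact h1 s
  | zero => rw [map_zero, LinearMap.zero_apply]
  | add x y _ _ hx hy => rw [map_add, LinearMap.add_apply, hx, hy, add_zero]
  | smul c x _ hx => rw [smul_eq_mul, Phi_mul_apply, hx, map_zero]

theorem eq_zero_of_vanish [Algebra.FormallyUnramified S S'] (k : ℕ) :
    ∀ (E : S' ⊗[S] M →ₗ[R] N'), IsDiffOpLE R S' (S' ⊗[S] M) N' k E →
      (∀ m : M, E ((1 : S') ⊗ₜ[S] m) = 0) → E = 0 := by
  induction k with
  | zero => exact fun E hE h0 => eq_zero_of_linear E hE h0
  | succ k ih =>
    intro E hE h0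
    have h1 : ∀ s : S, commutator R S' (S' ⊗[S] M) N' E (algebraMap S S' s) = 0 := by
      intro s
      refine ih _ (hE _) (fun m => ?_)
      have e : algebraMap S S' s • ((1 : S') ⊗ₜ[S] m) = (1 : S') ⊗ₜ[S] (s • m) := by
        rw [TensorProduct.smul_tmul', Algebra.algebraMap_eq_smul_one, smul_assoc, one_smul,
          ← Algebra.algebraMap_eq_smul_one, Algebra.algebraMap_eq_smul_one, TensorProduct.smul_tmul]
      rw [commutator_apply, e, h0, h0, smul_zero, sub_zero]
    have h3 : ∀ s' : S', commutator R S' (S' ⊗[S] M) N' E s' = 0 := by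
      intro s'
      have hz := ideal_le_pow_sup R S S' (k + 1)
        (KaehlerDifferential.one_smul_sub_smul_one_mem_ideal R s')
      obtain ⟨y, hy, j, hj, hyj⟩ := Submodule.mem_sup.mp hz
      rw [← Phi_comm_apply, ← hyj, map_add, LinearMap.add_apply,
        Phi_pow_eq_zero (k + 1) E hE y hy, Phi_Jid_eq_zero E h1 j hj, add_zero]
    refine eq_zero_of_linear E (fun s' x => ?_) h0
    have := LinearMap.congr_fun (h3 s') x
    rw [commutator_apply, LinearMap.zero_apply, sub_eq_zero] at this
    exact this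

end uniq

section restrict
variable {R S S' : Type u} [CommRing R] [CommRing S] [CommRing S'] [Algebra R S] [Algebra R S']
  [Algebra S S'] [IsScalarTower R S S']
variable {M : Type u} [AddCommGroup M] [Module S M] [Module R M] [IsScalarTower R S M]
variable {N' : Type u} [AddCommGroup N'] [Module S' N'] [Module R N'] [IsScalarTower R S' N']
  [Module S N'] [IsScalarTower S S' N'] [IsScalarTower R S N']

omit [Algebra R S] [Algebra R S'] [IsScalarTower R S S'] [Module R M] [IsScalarTower R S M] in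
theorem one_tmul_smul (s : S) (m : M) :
    (1 : S') ⊗ₜ[S] (s • m) = algebraMap S S' s • ((1 : S') ⊗ₜ[S] m) := by
  rw [TensorProduct.smul_tmul', Algebra.algebraMap_eq_smul_one, smul_assoc, one_smul,
    TensorProduct.smul_tmul]

theorem restrict_isDiffOpLE (k : ℕ) : ∀ (E : S' ⊗[S] M →ₗ[R] N'),
    IsDiffOpLE R S' (S' ⊗[S] M) N' k E →
      IsDiffOpLE R S M N' k (E ∘ₗ (TensorProduct.mk S S' M 1).restrictScalars R) := by
  induction k with
  | zero =>
    intro E hE s m
    simp only [LinearMap.comp_apply, LinearMap.restrictScalars_apply, TensorProduct.mk_apply]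
    rw [one_tmul_smul, hE, algebraMap_smul]
  | succ k ih =>
    intro E hE s
    have e : commutator R S M N' (E ∘ₗ (TensorProduct.mk S S' M 1).restrictScalars R) s =
        (commutator R S' (S' ⊗[S] M) N' E (algebraMap S S' s)) ∘ₗ
          (TensorProduct.mk S S' M 1).restrictScalars R := by
      ext m
      simp only [commutator_apply, LinearMap.comp_apply, LinearMap.restrictScalars_apply,
        TensorProduct.mk_apply, one_tmul_smul, algebraMap_smul]
    rw [e]
    exact ih _ (hE _)

end restrict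

section universal
variable (R S S' : Type u) [CommRing R] [CommRing S] [CommRing S'] [Algebra R S] [Algebra R S']
  [Algebra S S'] [IsScalarTower R S S'] [Algebra.FormallyUnramified S S']

theorem universal_baseChange (M : Type u) [AddCommGroup M] [Module S M] [Module R M]
    [IsScalarTower R S M] (k : ℕ) (P : Type u) [AddCommGroup P] [Module S P] [Module R P]
    [IsScalarTower R S P] (Du : M →ₗ[R] P)
    (huniv : ∀ (N : Type u) [AddCommGroup N] [Module S N] [Module R N] [IsScalarTower R S N]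
      (D : M →ₗ[R] N), Diff16.IsDiffOpLE R S M N k D → ∃! α : P →ₗ[S] N, α.restrictScalars R ∘ₗ Du = D)
    (Du' : S' ⊗[S] M →ₗ[R] S' ⊗[S] P) (hDu' : Diff16.IsDiffOpLE R S' (S' ⊗[S] M) (S' ⊗[S] P) k Du')
    (hext : Du' ∘ₗ (TensorProduct.mk S S' M 1).restrictScalars R =
      (TensorProduct.mk S S' P 1).restrictScalars R ∘ₗ Du)
    (N' : Type u) [AddCommGroup N'] [Module S' N'] [Module R N'] [IsScalarTower R S' N']
    (D' : S' ⊗[S] M →ₗ[R] N') (hD' : Diff16.IsDiffOpLE R S' (S' ⊗[S] M) N' k D') :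
    ∃! α : S' ⊗[S] P →ₗ[S'] N', α.restrictScalars R ∘ₗ Du' = D' := by
  letI : Module S N' := Module.compHom N' (algebraMap S S')
  haveI : IsScalarTower S S' N' := ⟨fun s s' n => by
    show (s • s') • n = algebraMap S S' s • (s' • n)
    rw [Algebra.smul_def, mul_smul]⟩
  haveI : IsScalarTower R S N' := ⟨fun r s n => by
    show algebraMap S S' (r • s) • n = r • (algebraMap S S' s • n)
    rw [Algebra.smul_def, map_mul, ← IsScalarTower.algebraMap_apply, mul_smul, algebraMap_smul]⟩
  have hext' : ∀ m : M, Du' ((1 : S') ⊗ₜ[S] m) = (1 : S') ⊗ₜ[S] Du m := fun m =>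
    LinearMap.congr_fun hext m
  set D : M →ₗ[R] N' := D' ∘ₗ (TensorProduct.mk S S' M 1).restrictScalars R with hDdef
  have hD : IsDiffOpLE R S M N' k D := restrict_isDiffOpLE k D' hD'
  obtain ⟨α₀, hα₀, hα₀u⟩ := huniv N' D hD
  have hα₀' : ∀ m : M, α₀ (Du m) = D' ((1 : S') ⊗ₜ[S] m) := fun m =>
    LinearMap.congr_fun hα₀ m
  refine ⟨LinearMap.liftBaseChange S' α₀, ?_, ?_⟩
  · have hz : (LinearMap.liftBaseChange S' α₀).restrictScalars R ∘ₗ Du' - D' = 0 := by
      refine eq_zero_of_vanish k _ (isDiffOpLE_sub ?_ hD') (fun m => ?_)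
      · have h := isDiffOpLE_comp k 0 Du' ((LinearMap.liftBaseChange S' α₀).restrictScalars R) hDu'
          (fun s' x => by simp)
        rwa [Nat.add_zero] at h
      · rw [LinearMap.sub_apply, LinearMap.comp_apply, hext', LinearMap.restrictScalars_apply,
          LinearMap.liftBaseChange_tmul, one_smul, hα₀', sub_self]
    exact sub_eq_zero.mp hz
  · intro α hα
    have hα' : ∀ m : M, α (Du' ((1 : S') ⊗ₜ[S] m)) = D' ((1 : S') ⊗ₜ[S] m) := fun m =>
      LinearMap.congr_fun hα ((1 : S') ⊗ₜ[S] m)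
    have hβ : (α.restrictScalars S) ∘ₗ (TensorProduct.mk S S' P 1) = α₀ := by
      refine hα₀u _ ?_
      ext m
      simp only [LinearMap.comp_apply, LinearMap.restrictScalars_apply, TensorProduct.mk_apply]
      rw [← hext', hα']
      rfl
    ext x
    have := LinearMap.congr_fun hβ x
    simp only [LinearMap.comp_apply, LinearMap.restrictScalars_apply, TensorProduct.mk_apply] at this
    simp [this]

end universal

end Groth.Agent.DiffEt9
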