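import Mathlib
import Groth.Prelude.Def_PP16
import Groth.Agent.Lib.DiffOp_lead

/-! Principal parts: basic lemmas (lead). -/

namespace Groth.Agent.Lib.PP16L

open Diff16 TensorProduct PP16 Groth.Agent.Lib.DiffOp

universe u

section basic
variable (n : ℕ) (A B : Type u) [CommRing A] [CommRing B] [Algebra A B]

theorem algebraMap_eq (b : B) :
    algebraMap B (P n A B) b = Ideal.Quotient.mk _ (b ⊗ₜ[A] (1 : B)) := rfl

theorem dn_eq (b : B) : dn n A B b = Ideal.Quotient.mk _ ((1 : B) ⊗ₜ[A] b) := rfl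

theorem mk_tmul (b c : B) :
    (Ideal.Quotient.mk (KaehlerDifferential.ideal A B ^ (n + 1)) (b ⊗ₜ[A] c) : P n A B) =
      algebraMap B (P n A B) b * dn n A B c := by
  rw [algebraMap_eq, dn_eq, ← map_mul, Algebra.TensorProduct.tmul_mul_tmul, mul_one, one_mul]

theorem span_range_dn : Submodule.span B (Set.range (PP16.dn n A B)) = ⊤ := by
  rw [eq_top_iff]
  rintro x -
  obtain ⟨y, rfl⟩ := Ideal.Quotient.mk_surjective x
  induction y using TensorProduct.induction_on with
  | zero => rw [map_zero]; exact Submodule.zero_mem _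
  | tmul b c =>
    rw [mk_tmul, ← Algebra.smul_def]
    exact Submodule.smul_mem _ _ (Submodule.subset_span ⟨c, rfl⟩)
  | add x y hx hy => rw [map_add]; exact Submodule.add_mem _ hx hy

end basic

section univ
variable {n : ℕ} {A B : Type u} [CommRing A] [CommRing B] [Algebra A B]
variable {M N : Type u} [AddCommGroup M] [Module A M] [Module B M] [IsScalarTower A B M]
  [AddCommGroup N] [Module A N] [Module B N] [IsScalarTower A B N]

theorem Phi_mul_one_tmul (y : B ⊗[A] B) (b : B) (D : M →ₗ[A] N) (m : M) :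
    Phi A B M N (y * ((1 : B) ⊗ₜ[A] b)) D m = Phi A B M N y D (b • m) := by
  induction y using TensorProduct.induction_on with
  | zero => simp
  | tmul c c' =>
    rw [Algebra.TensorProduct.tmul_mul_tmul, mul_one, Phi_tmul, Phi_tmul, mul_smul]
  | add x y hx hy =>
    rw [add_mul, map_add, LinearMap.add_apply, LinearMap.add_apply, hx, hy, map_add,
      LinearMap.add_apply, LinearMap.add_apply]

theorem Phi_tmul_one_mul (y : B ⊗[A] B) (b : B) (D : M →ₗ[A] N) (m : M) :
    Phi A B M N ((b ⊗ₜ[A] (1 : B)) * y) D m = b • Phi A B M N y D m := by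
  rw [Phi_mul_apply, Phi_tmul, one_smul]

/-- `ψ` on the quotient, via a choice of representative. -/
noncomputable def psiFun (n : ℕ) (D : M →ₗ[A] N) (x : P n A B) : M →ₗ[A] N :=
  Phi A B M N (Ideal.Quotient.mk_surjective x).choose D

theorem psiFun_mk {D : M →ₗ[A] N} (hD : IsDiffOpLE A B M N n D) (y : B ⊗[A] B) :
    psiFun n D (Ideal.Quotient.mk _ y) = Phi A B M N y D := by
  have h := (Ideal.Quotient.mk_surjective
    (Ideal.Quotient.mk (KaehlerDifferential.ideal A B ^ (n + 1)) y)).choose_spec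
  have h2 : (Ideal.Quotient.mk_surjective
    (Ideal.Quotient.mk (KaehlerDifferential.ideal A B ^ (n + 1)) y)).choose - y ∈
      KaehlerDifferential.ideal A B ^ (n + 1) := by
    rw [← Ideal.Quotient.eq]; exact h
  have h3 := Phi_pow_eq_zero n D hD _ h2
  rw [map_sub, LinearMap.sub_apply, sub_eq_zero] at h3
  exact h3

noncomputable def psiAdd (n : ℕ) (D : M →ₗ[A] N) (hD : IsDiffOpLE A B M N n D) :
    P n A B →+ M →+ N :=
  AddMonoidHom.mk' (fun x => (psiFun n D x).toAddMonoidHom) (by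
    intro x x'
    obtain ⟨y, rfl⟩ := Ideal.Quotient.mk_surjective x
    obtain ⟨y', rfl⟩ := Ideal.Quotient.mk_surjective x'
    have e : (Ideal.Quotient.mk (KaehlerDifferential.ideal A B ^ (n + 1)) y +
        Ideal.Quotient.mk (KaehlerDifferential.ideal A B ^ (n + 1)) y' : P n A B) =
        Ideal.Quotient.mk _ (y + y') := (map_add _ _ _).symm
    rw [e]
    ext m
    rw [psiFun_mk hD, psiFun_mk hD, psiFun_mk hD, map_add]
    rfl)

theorem psiAdd_mk {D : M →ₗ[A] N} (hD : IsDiffOpLE A B M N n D) (y : B ⊗[A] B) (m : M) :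
    psiAdd n D hD (Ideal.Quotient.mk _ y) m = Phi A B M N y D m := by
  show (psiFun n D (Ideal.Quotient.mk _ y)) m = _
  rw [psiFun_mk hD]

theorem psiAdd_dn_mul {D : M →ₗ[A] N} (hD : IsDiffOpLE A B M N n D) (b : B) (x : P n A B) (m : M) :
    psiAdd n D hD (dn n A B b * x) m = psiAdd n D hD x (b • m) := by
  obtain ⟨y, rfl⟩ := Ideal.Quotient.mk_surjective x
  rw [dn_eq, ← map_mul, psiAdd_mk, psiAdd_mk, mul_comm, Phi_mul_one_tmul]

theorem psiAdd_algebraMap_mul {D : M →ₗ[A] N} (hD : IsDiffOpLE A B M N n D) (b : B) (x : P n A B)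
    (m : M) :
    psiAdd n D hD (algebraMap B (P n A B) b * x) m = b • psiAdd n D hD x m := by
  obtain ⟨y, rfl⟩ := Ideal.Quotient.mk_surjective x
  rw [algebraMap_eq, ← map_mul, psiAdd_mk, psiAdd_mk, Phi_tmul_one_mul]

noncomputable def uHom (n : ℕ) (D : M →ₗ[A] N) (hD : IsDiffOpLE A B M N n D) :
    PM n A B M →+ N :=
  TensorProduct.liftAddHom (psiAdd n D hD : Pr n A B →+ M →+ N) (by
    intro b x m
    exact psiAdd_dn_mul hD b x m)

theorem uHom_tmul {D : M →ₗ[A] N} (hD : IsDiffOpLE A B M N n D) (x : Pr n A B) (m : M) :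
    uHom n D hD (x ⊗ₜ[B] m) = psiAdd n D hD x m := rfl

theorem uHom_smul {D : M →ₗ[A] N} (hD : IsDiffOpLE A B M N n D) (b : B) (t : PM n A B M) :
    uHom n D hD (algebraMap B (P n A B) b • t) = b • uHom n D hD t := by
  induction t using TensorProduct.induction_on with
  | zero => rw [smul_zero, map_zero, smul_zero]
  | tmul x m =>
    rw [TensorProduct.smul_tmul', uHom_tmul, uHom_tmul]
    exact psiAdd_algebraMap_mul hD b x m
  | add t t' ht ht' => rw [smul_add, map_add, map_add, ht, ht', smul_add]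

theorem uHom_dM {D : M →ₗ[A] N} (hD : IsDiffOpLE A B M N n D) (m : M) :
    uHom n D hD (dM n A B M m) = D m := by
  have h1 : dM n A B M m = (1 : Pr n A B) ⊗ₜ[B] m := rfl
  rw [h1, uHom_tmul]
  have h2 : psiAdd n D hD (1 : Pr n A B) m =
      psiAdd n D hD (Ideal.Quotient.mk _ (1 : B ⊗[A] B)) m := rfl
  rw [h2, psiAdd_mk, map_one]
  rfl

/-- Explicit cast `P → Pr`. -/
def toPr (x : P n A B) : Pr n A B := x

theorem toPr_zero : toPr (0 : P n A B) = 0 := rfl

theorem toPr_add (x y : P n A B) : toPr (x + y) = toPr x + toPr y := rfl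

theorem mk_tmul_tmul (b c : B) (m : M) :
    toPr (Ideal.Quotient.mk (KaehlerDifferential.ideal A B ^ (n + 1)) (b ⊗ₜ[A] c)) ⊗ₜ[B] m =
      algebraMap B (P n A B) b • ((1 : Pr n A B) ⊗ₜ[B] (c • m)) := by
  rw [TensorProduct.smul_tmul', ← TensorProduct.smul_tmul]
  congr 1
  show (Ideal.Quotient.mk (KaehlerDifferential.ideal A B ^ (n + 1)) (b ⊗ₜ[A] c) : P n A B) =
    dn n A B c * (algebraMap B (P n A B) b * 1)
  rw [mul_one, mul_comm, mk_tmul]

theorem eq_of_props {D : M →ₗ[A] N} (u : PM n A B M →+ N)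
    (h1 : ∀ (b : B) (t : PM n A B M), u (algebraMap B (P n A B) b • t) = b • u t)
    (h2 : ∀ m : M, u (dM n A B M m) = D m) (y : B ⊗[A] B) (m : M) :
    u (toPr (Ideal.Quotient.mk (KaehlerDifferential.ideal A B ^ (n + 1)) y) ⊗ₜ[B] m) =
      Phi A B M N y D m := by
  induction y using TensorProduct.induction_on with
  | zero =>
    rw [map_zero, toPr_zero, TensorProduct.zero_tmul, map_zero, map_zero]
    rfl
  | tmul b c =>
    rw [mk_tmul_tmul, h1, Phi_tmul]
    congr 1
    exact h2 (c • m)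
  | add y y' hy hy' =>
    rw [map_add, toPr_add, TensorProduct.add_tmul, map_add, hy, hy', map_add]
    rfl

theorem isDiffOpLE_iff_existsUnique (n : ℕ) (D : M →ₗ[A] N) :
    IsDiffOpLE A B M N n D ↔
      ∃! u : PM n A B M →+ N,
        (∀ (b : B) (t : PM n A B M), u (algebraMap B (P n A B) b • t) = b • u t) ∧
          ∀ m : M, u (dM n A B M m) = D m := by
  constructor
  · intro hD
    refine ⟨uHom n D hD, ⟨uHom_smul hD, uHom_dM hD⟩, ?_⟩
    rintro u' ⟨h1, h2⟩
    apply AddMonoidHom.ext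
    intro t
    induction t using TensorProduct.induction_on with
    | zero => rw [map_zero, map_zero]
    | tmul x m =>
      obtain ⟨y, hy⟩ := Ideal.Quotient.mk_surjective (x : P n A B)
      have hx : x = toPr (Ideal.Quotient.mk (KaehlerDifferential.ideal A B ^ (n + 1)) y) := hy.symm
      rw [hx, eq_of_props u' h1 h2, eq_of_props (uHom n D hD) (uHom_smul hD) (uHom_dM hD)]
    | add t t' ht ht' => rw [map_add, map_add, ht, ht']
  · rintro ⟨u, ⟨h1, h2⟩, -⟩
    rw [isDiffOpLE_iff_prod]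
    intro b
    ext m
    rw [← eq_of_props u h1 h2, LinearMap.zero_apply]
    have hz : (Ideal.Quotient.mk (KaehlerDifferential.ideal A B ^ (n + 1))
        (∏ i, ((1 : B) ⊗ₜ[A] b i - b i ⊗ₜ[A] (1 : B))) : P n A B) = 0 :=
      Ideal.Quotient.eq_zero_iff_mem.mpr (prod_mem_ideal_pow n b)
    rw [hz, toPr_zero, TensorProduct.zero_tmul, map_zero]

end univ

section maps
variable (n : ℕ) (A B A' B' : Type u) [CommRing A] [CommRing B] [Algebra A B]
  [CommRing A'] [CommRing B'] [Algebra A' B'] [Algebra A A'] [Algebra B B'] [Algebra A B']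
  [IsScalarTower A A' B'] [IsScalarTower A B B']

theorem tensorMap_surjective (hs : Function.Surjective (algebraMap B B')) :
    Function.Surjective (tensorMap A B A' B') := by
  intro x
  induction x using TensorProduct.induction_on with
  | zero => exact ⟨0, map_zero _⟩
  | tmul b' c' =>
    obtain ⟨b, rfl⟩ := hs b'
    obtain ⟨c, rfl⟩ := hs c'
    exact ⟨b ⊗ₜ[A] c, tensorMap_tmul A B A' B' b c⟩
  | add x y hx hy =>
    obtain ⟨x', rfl⟩ := hx
    obtain ⟨y', rfl⟩ := hy
    exact ⟨x' + y', map_add _ _ _⟩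

theorem ideal_map_tensorMap_eq (hs : Function.Surjective (algebraMap B B')) :
    (KaehlerDifferential.ideal A B).map (tensorMap A B A' B') = KaehlerDifferential.ideal A' B' := by
  refine le_antisymm (ideal_map_tensorMap_le A B A' B') ?_
  rw [← KaehlerDifferential.span_range_eq_ideal A' B', Ideal.span_le]
  rintro _ ⟨b', rfl⟩
  obtain ⟨b, rfl⟩ := hs b'
  have e : (1 : B') ⊗ₜ[A'] algebraMap B B' b - algebraMap B B' b ⊗ₜ[A'] (1 : B') =
      tensorMap A B A' B' ((1 : B) ⊗ₜ[A] b - b ⊗ₜ[A] (1 : B)) := by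
    rw [map_sub, tensorMap_tmul, tensorMap_tmul, map_one]
  show (1 : B') ⊗ₜ[A'] algebraMap B B' b - algebraMap B B' b ⊗ₜ[A'] (1 : B') ∈
    Ideal.map (tensorMap A B A' B') (KaehlerDifferential.ideal A B)
  rw [e]
  exact Ideal.mem_map_of_mem _ (KaehlerDifferential.one_smul_sub_smul_one_mem_ideal A b)

theorem map_surjective_of_surjective (hs : Function.Surjective (algebraMap B B')) :
    Function.Surjective (PP16.map n A B A' B') := by
  intro x
  obtain ⟨y, rfl⟩ := Ideal.Quotient.mk_surjective x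
  obtain ⟨z, rfl⟩ := tensorMap_surjective A B A' B' hs y
  exact ⟨Ideal.Quotient.mk _ z, map_mk n A B A' B' z⟩

theorem ker_map_eq (hs : Function.Surjective (algebraMap B B')) :
    RingHom.ker (PP16.map n A B A' B') =
      (RingHom.ker (tensorMap A B A' B')).map
        (Ideal.Quotient.mk (KaehlerDifferential.ideal A B ^ (n + 1))) := by
  apply le_antisymm
  · intro x hx
    obtain ⟨y, rfl⟩ := Ideal.Quotient.mk_surjective x
    rw [RingHom.mem_ker, map_mk, Ideal.Quotient.eq_zero_iff_mem,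
      ← ideal_map_tensorMap_eq A B A' B' hs, ← Ideal.map_pow] at hx
    obtain ⟨z, hz, hzy⟩ := (Ideal.mem_map_iff_of_surjective (tensorMap A B A' B')
      (tensorMap_surjective A B A' B' hs)).mp hx
    have h1 : (Ideal.Quotient.mk (KaehlerDifferential.ideal A B ^ (n + 1)) y : P n A B) =
        Ideal.Quotient.mk _ (y - z) := by
      rw [Ideal.Quotient.eq]
      simpa using hz
    rw [h1]
    apply Ideal.mem_map_of_mem
    rw [RingHom.mem_ker, map_sub, hzy, sub_self]
  · rw [Ideal.map_le_iff_le_comap]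
    intro y hy
    rw [Ideal.mem_comap, RingHom.mem_ker, map_mk]
    rw [RingHom.mem_ker] at hy
    rw [hy, map_zero]

end maps

end Groth.Agent.Lib.PP16L
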