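import Mathlib
import Groth.Prelude.Def_PP16
import Groth.Agent.Lib.PP16_lead

/-! Principal parts: tower and retraction (lead). -/

namespace Groth.Agent.Lib.PP16L

open TensorProduct PP16

universe u

section tower
variable (n : ℕ) (A B C : Type u) [CommRing A] [CommRing B] [CommRing C]
  [Algebra A B] [Algebra B C] [Algebra A C] [IsScalarTower A B C]

/-- the ideal of `C ⊗[A] C` generated by the image of the diagonal ideal of `B/A`. -/
noncomputable def Jtower : Ideal (C ⊗[A] C) :=
  (KaehlerDifferential.ideal A B).map (tensorMap A B A C)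

theorem tensorMap_comm_mem (b : B) :
    (1 : C) ⊗ₜ[A] algebraMap B C b - algebraMap B C b ⊗ₜ[A] (1 : C) ∈ Jtower A B C := by
  have e : (1 : C) ⊗ₜ[A] algebraMap B C b - algebraMap B C b ⊗ₜ[A] (1 : C) =
      tensorMap A B A C ((1 : B) ⊗ₜ[A] b - b ⊗ₜ[A] (1 : B)) := by
    rw [map_sub, tensorMap_tmul, tensorMap_tmul, map_one]
  rw [e]
  exact Ideal.mem_map_of_mem _ (KaehlerDifferential.one_smul_sub_smul_one_mem_ideal A b)

/-- the bi-additive map `C → C → (C ⊗[A] C) / J`. -/
noncomputable def fTower : C →+ C →+ (C ⊗[A] C) ⧸ Jtower A B C :=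
  LinearMap.toAddMonoidHom'.comp
    ((TensorProduct.mk A C C).compr₂
      (Ideal.Quotient.mkₐ A (Jtower A B C)).toLinearMap).toAddMonoidHom

theorem fTower_apply (c c' : C) :
    fTower A B C c c' = Ideal.Quotient.mk (Jtower A B C) (c ⊗ₜ[A] c') := rfl

noncomputable def gTower : C ⊗[B] C →+ (C ⊗[A] C) ⧸ Jtower A B C :=
  TensorProduct.liftAddHom (fTower A B C) (by
    intro b c c'
    rw [fTower_apply, fTower_apply, Ideal.Quotient.eq]
    have key : (b • c) ⊗ₜ[A] c' - c ⊗ₜ[A] (b • c') =
        -((c ⊗ₜ[A] c') * ((1 : C) ⊗ₜ[A] algebraMap B C b - algebraMap B C b ⊗ₜ[A] (1 : C))) := by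
      rw [mul_sub, Algebra.TensorProduct.tmul_mul_tmul, Algebra.TensorProduct.tmul_mul_tmul,
        mul_one, mul_one, neg_sub, Algebra.smul_def, Algebra.smul_def,
        mul_comm c (algebraMap B C b), mul_comm c' (algebraMap B C b)]
    rw [key]
    exact (Jtower A B C).neg_mem ((Jtower A B C).mul_mem_left _ (tensorMap_comm_mem A B C b)))

theorem gTower_tmul (c c' : C) :
    gTower A B C (c ⊗ₜ[B] c') = Ideal.Quotient.mk (Jtower A B C) (c ⊗ₜ[A] c') := rfl

theorem gTower_tensorMap (w : C ⊗[A] C) :
    gTower A B C (tensorMap A C B C w) = Ideal.Quotient.mk (Jtower A B C) w := by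
  induction w using TensorProduct.induction_on with
  | zero => rw [map_zero, map_zero, map_zero]
  | tmul c c' =>
    rw [tensorMap_tmul, Algebra.algebraMap_self, RingHom.id_apply, RingHom.id_apply, gTower_tmul]
  | add x y hx hy => rw [map_add, map_add, hx, hy, map_add]

theorem ker_tensorMap_tower :
    RingHom.ker (tensorMap A C B C) = Jtower A B C := by
  apply le_antisymm
  · intro w hw
    rw [RingHom.mem_ker] at hw
    have h := gTower_tensorMap A B C w
    rw [hw, map_zero] at h
    exact Ideal.Quotient.eq_zero_iff_mem.mp h.symm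
  · rw [Jtower, Ideal.map_le_iff_le_comap, ← KaehlerDifferential.span_range_eq_ideal A B,
      Ideal.span_le]
    rintro _ ⟨b, rfl⟩
    show tensorMap A C B C (tensorMap A B A C ((1 : B) ⊗ₜ[A] b - b ⊗ₜ[A] (1 : B))) = 0
    rw [map_sub, tensorMap_tmul, tensorMap_tmul, map_one, map_sub, tensorMap_tmul, tensorMap_tmul,
      map_one, Algebra.algebraMap_self, RingHom.id_apply, Algebra.algebraMap_eq_smul_one,
      TensorProduct.tmul_smul, TensorProduct.smul_tmul', sub_self]

theorem tower_result :
    Function.Surjective (PP16.map n A C B C) ∧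
      RingHom.ker (PP16.map n A C B C) = (PP16.augIdeal n A B).map (PP16.map n A B A C) := by
  have hs : Function.Surjective (algebraMap C C) := fun x => ⟨x, rfl⟩
  refine ⟨map_surjective_of_surjective n A C B C hs, ?_⟩
  rw [ker_map_eq n A C B C hs, ker_tensorMap_tower, PP16.augIdeal, Jtower]
  have e1 : ((KaehlerDifferential.ideal A B).map (tensorMap A B A C)).map
      (Ideal.Quotient.mk (KaehlerDifferential.ideal A C ^ (n + 1))) =
      (KaehlerDifferential.ideal A B).map
        ((Ideal.Quotient.mk (KaehlerDifferential.ideal A C ^ (n + 1))).comp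
          (tensorMap A B A C).toRingHom) :=
    Ideal.map_map (tensorMap A B A C).toRingHom
      (Ideal.Quotient.mk (KaehlerDifferential.ideal A C ^ (n + 1)))
  have e2 : ((KaehlerDifferential.ideal A B).map
      (Ideal.Quotient.mk (KaehlerDifferential.ideal A B ^ (n + 1)))).map (PP16.map n A B A C) =
      (KaehlerDifferential.ideal A B).map
        ((PP16.map n A B A C).toRingHom.comp
          (Ideal.Quotient.mk (KaehlerDifferential.ideal A B ^ (n + 1)))) :=
    Ideal.map_map (Ideal.Quotient.mk (KaehlerDifferential.ideal A B ^ (n + 1)))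
      (PP16.map n A B A C).toRingHom
  have e3 : (Ideal.Quotient.mk (KaehlerDifferential.ideal A C ^ (n + 1))).comp
      (tensorMap A B A C).toRingHom =
      (PP16.map n A B A C).toRingHom.comp
        (Ideal.Quotient.mk (KaehlerDifferential.ideal A B ^ (n + 1))) :=
    RingHom.ext fun x => rfl
  rw [e1, e2, e3]

end tower

section retraction
variable (n : ℕ) (A B : Type u) [CommRing A] [CommRing B] [Algebra A B] (g : B →ₐ[A] A)

/-- `b ⊗ c ↦ g(b) c`. -/
noncomputable def psiR : B ⊗[A] B →ₐ[A] B :=
  Algebra.TensorProduct.lift ((Algebra.ofId A B).comp g) (AlgHom.id A B)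
    (fun _ _ => Commute.all _ _)

theorem psiR_tmul (b c : B) : psiR A B g (b ⊗ₜ[A] c) = algebraMap A B (g b) * c := rfl

theorem g_algebraMap (a : A) : g (algebraMap A B a) = a := by
  rw [g.commutes, Algebra.algebraMap_self, RingHom.id_apply]

theorem sub_mem_ker (b : B) : b - algebraMap A B (g b) ∈ RingHom.ker g := by
  rw [RingHom.mem_ker, map_sub, g_algebraMap, sub_self]

theorem map_psiR_le : (KaehlerDifferential.ideal A B).map (psiR A B g) ≤ RingHom.ker g := by
  rw [Ideal.map_le_iff_le_comap, ← KaehlerDifferential.span_range_eq_ideal A B, Ideal.span_le]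
  rintro _ ⟨b, rfl⟩
  show psiR A B g ((1 : B) ⊗ₜ[A] b - b ⊗ₜ[A] (1 : B)) ∈ RingHom.ker g
  rw [map_sub, psiR_tmul, psiR_tmul, map_one, map_one, one_mul, mul_one]
  exact sub_mem_ker A B g b

/-- the induced map `P^n → B / K^(n+1)`. -/
noncomputable def PsiR : P n A B →+* B ⧸ (RingHom.ker g ^ (n + 1)) :=
  Ideal.Quotient.lift (KaehlerDifferential.ideal A B ^ (n + 1))
    ((Ideal.Quotient.mk (RingHom.ker g ^ (n + 1))).comp (psiR A B g).toRingHom) (by
      intro x hx
      rw [RingHom.comp_apply, Ideal.Quotient.eq_zero_iff_mem]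
      have h := Ideal.pow_right_mono (map_psiR_le A B g) (n + 1)
      rw [← Ideal.map_pow] at h
      exact h (Ideal.mem_map_of_mem _ hx))

theorem PsiR_mk (x : B ⊗[A] B) :
    PsiR n A B g (Ideal.Quotient.mk _ x) = Ideal.Quotient.mk _ (psiR A B g x) := rfl

theorem PsiR_dn (c : B) : PsiR n A B g (dn n A B c) = Ideal.Quotient.mk _ c := by
  rw [dn_eq, PsiR_mk, psiR_tmul, map_one, map_one, one_mul]

theorem PsiR_algebraMap_of_mem (k : B) (hk : k ∈ RingHom.ker g) :
    PsiR n A B g (algebraMap B (P n A B) k) = 0 := by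
  rw [RingHom.mem_ker] at hk
  rw [algebraMap_eq, PsiR_mk, psiR_tmul, hk, map_zero, zero_mul, map_zero]

theorem augIdeal_pow : (PP16.augIdeal n A B) ^ (n + 1) = ⊥ := by
  rw [PP16.augIdeal, ← Ideal.map_pow, Ideal.map_quotient_self]

theorem dn_sub_algebraMap_mem (b : B) :
    dn n A B b - algebraMap B (P n A B) b ∈ PP16.augIdeal n A B := by
  rw [dn_eq, algebraMap_eq, ← map_sub]
  exact Ideal.mem_map_of_mem _ (KaehlerDifferential.one_smul_sub_smul_one_mem_ideal A b)

theorem retraction_result :
    Function.Surjective ((Ideal.Quotient.mk ((RingHom.ker g).map (algebraMap B (PP16.P n A B)))).comp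
        (PP16.dn n A B).toRingHom) ∧
      RingHom.ker ((Ideal.Quotient.mk ((RingHom.ker g).map (algebraMap B (PP16.P n A B)))).comp
        (PP16.dn n A B).toRingHom) = RingHom.ker g ^ (n + 1) := by
  set K' : Ideal (P n A B) := (RingHom.ker g).map (algebraMap B (PP16.P n A B)) with hK'
  set φ : B →+* P n A B ⧸ K' := (Ideal.Quotient.mk K').comp (PP16.dn n A B).toRingHom with hφ
  have hφ_apply : ∀ c, φ c = Ideal.Quotient.mk K' (dn n A B c) := fun c => rfl
  have hmkK : ∀ b : B, Ideal.Quotient.mk K' (algebraMap B (P n A B) b) =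
      Ideal.Quotient.mk K' (algebraMap B (P n A B) (algebraMap A B (g b))) := by
    intro b
    rw [Ideal.Quotient.eq, ← map_sub]
    exact Ideal.mem_map_of_mem _ (sub_mem_ker A B g b)
  have hφalg : ∀ a : A, φ (algebraMap A B a) =
      Ideal.Quotient.mk K' (algebraMap B (P n A B) (algebraMap A B a)) := by
    intro a
    rw [hφ_apply, AlgHom.commutes, IsScalarTower.algebraMap_apply A B (P n A B)]
  constructor
  · intro x
    obtain ⟨p, rfl⟩ := Ideal.Quotient.mk_surjective x
    obtain ⟨y, rfl⟩ := Ideal.Quotient.mk_surjective p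
    induction y using TensorProduct.induction_on with
    | zero => exact ⟨0, by rw [map_zero, map_zero, map_zero]⟩
    | tmul b c =>
      refine ⟨algebraMap A B (g b) * c, ?_⟩
      rw [map_mul, hφalg, ← hmkK, hφ_apply, ← map_mul, ← mk_tmul]
    | add y y' hy hy' =>
      obtain ⟨c, hc⟩ := hy
      obtain ⟨c', hc'⟩ := hy'
      exact ⟨c + c', by rw [map_add, hc, hc', map_add, map_add]⟩
  · ext c
    rw [RingHom.mem_ker]
    constructor
    · intro hc
      rw [hφ_apply, Ideal.Quotient.eq_zero_iff_mem] at hc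
      have hle : K' ≤ RingHom.ker (PsiR n A B g) := by
        rw [hK', Ideal.map_le_iff_le_comap]
        intro k hk
        rw [Ideal.mem_comap, RingHom.mem_ker]
        exact PsiR_algebraMap_of_mem n A B g k hk
      have h := hle hc
      rw [RingHom.mem_ker, PsiR_dn, Ideal.Quotient.eq_zero_iff_mem] at h
      exact h
    · intro hc
      have h1 : (RingHom.ker g).map φ ≤ (PP16.augIdeal n A B).map (Ideal.Quotient.mk K') := by
        rw [Ideal.map_le_iff_le_comap]
        intro k hk
        rw [Ideal.mem_comap, hφ_apply]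
        have e : Ideal.Quotient.mk K' (dn n A B k) =
            Ideal.Quotient.mk K' (dn n A B k - algebraMap B (P n A B) k) := by
          rw [Ideal.Quotient.eq, sub_sub_cancel]
          exact Ideal.mem_map_of_mem _ hk
        rw [e]
        exact Ideal.mem_map_of_mem _ (dn_sub_algebraMap_mem n A B k)
      have h2 : (RingHom.ker g ^ (n + 1)).map φ ≤ ⊥ := by
        have e := Ideal.map_pow φ (RingHom.ker g) (n + 1)
        have e' := Ideal.map_pow (Ideal.Quotient.mk K') (PP16.augIdeal n A B) (n + 1)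
        rw [augIdeal_pow, Ideal.map_bot] at e'
        calc (RingHom.ker g ^ (n + 1)).map φ = ((RingHom.ker g).map φ) ^ (n + 1) := e
          _ ≤ ((PP16.augIdeal n A B).map (Ideal.Quotient.mk K')) ^ (n + 1) :=
              Ideal.pow_right_mono h1 (n + 1)
          _ = ⊥ := e'.symm
      have h3 := h2 (Ideal.mem_map_of_mem φ hc)
      exact (Submodule.mem_bot _).mp h3

end retraction

end Groth.Agent.Lib.PP16L
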