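import Mathlib
import Groth.Prelude.Def_PP16
import Groth.Agent.Lib.PP16b_lead

/-! Principal parts: base change along a pushout square (lead). -/

namespace Groth.Agent.Lib.PP16L.BC

open TensorProduct PP16 Groth.Agent.Lib.PP16L

universe u

attribute [local instance] PP16.mapAlgebra PP16.isScalarTower_mapAlgebra

section pushout
variable (n : ℕ) (A B A' B' : Type u) [CommRing A] [CommRing B] [Algebra A B]
    [CommRing A'] [CommRing B'] [Algebra A' B'] [Algebra A A'] [Algebra B B'] [Algebra A B']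
    [IsScalarTower A A' B'] [IsScalarTower A B B']

/-- the `A'`-algebra structure on `P ⊗[B] B'` through the right factor. -/
@[instance_reducible]
noncomputable def algT : Algebra A' (P n A B ⊗[B] B') :=
  RingHom.toAlgebra' ((Algebra.TensorProduct.includeRight : B' →ₐ[B] P n A B ⊗[B] B').toRingHom.comp
    (algebraMap A' B')) (fun _ _ => mul_comm (G := P n A B ⊗[B] B') _ _)

attribute [local instance 10] algT

theorem algT_apply (a' : A') :
    algebraMap A' (P n A B ⊗[B] B') a' = (1 : P n A B) ⊗ₜ[B] algebraMap A' B' a' := rfl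

/-- the augmentation ideal extended to `P ⊗[B] B'`. -/
noncomputable def JT : Ideal (P n A B ⊗[B] B') :=
  (PP16.augIdeal n A B).map
    (Algebra.TensorProduct.includeLeftRingHom : P n A B →+* P n A B ⊗[B] B')

theorem JT_pow : JT n A B B' ^ (n + 1) = ⊥ := by
  have h := Ideal.map_pow (Algebra.TensorProduct.includeLeftRingHom :
    P n A B →+* P n A B ⊗[B] B') (PP16.augIdeal n A B) (n + 1)
  rw [augIdeal_pow, Ideal.map_bot] at h
  exact h.symm

theorem one_tmul_algebraMap (b : B) :
    (1 : P n A B) ⊗ₜ[B] (algebraMap B B' b) = (algebraMap B (P n A B) b) ⊗ₜ[B] (1 : B') := by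
  rw [Algebra.algebraMap_eq_smul_one, Algebra.algebraMap_eq_smul_one, TensorProduct.smul_tmul]

/-- `B → P ⊗[B] B'`, `b ↦ dⁿ b ⊗ 1`. -/
noncomputable def f₁ : B →ₐ[A] P n A B ⊗[B] B' :=
  (Algebra.TensorProduct.includeLeft (R := B) (S := A) (A := P n A B) (B := B')).comp (dn n A B)

theorem f₁_apply (b : B) : f₁ n A B B' b = dn n A B b ⊗ₜ[B] (1 : B') := rfl

/-- `A' → P ⊗[B] B'`, `a' ↦ 1 ⊗ a'`. -/
noncomputable def g₁ : A' →ₐ[A] P n A B ⊗[B] B' where
  toRingHom := algebraMap A' (P n A B ⊗[B] B')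
  commutes' a := by
    show (1 : P n A B) ⊗ₜ[B] algebraMap A' B' (algebraMap A A' a) =
      (algebraMap A (P n A B) a) ⊗ₜ[B] (1 : B')
    rw [← IsScalarTower.algebraMap_apply A A' B', IsScalarTower.algebraMap_apply A B B',
      one_tmul_algebraMap, ← IsScalarTower.algebraMap_apply A B (P n A B)]

theorem g₁_apply (a' : A') :
    g₁ n A B A' B' a' = (1 : P n A B) ⊗ₜ[B] algebraMap A' B' a' := rfl

variable [Algebra.IsPushout A B A' B']

/-- the second-factor map `B' → P ⊗[B] B'`. -/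
noncomputable def psiR0 : B' →ₐ[A] P n A B ⊗[B] B' :=
  Algebra.pushoutDesc B' (f₁ n A B B') (g₁ n A B A' B')
    (fun x y => mul_comm (G := P n A B ⊗[B] B') (f₁ n A B B' x) (g₁ n A B A' B' y))

theorem psiR0_algebraMapB (b : B) :
    psiR0 n A B A' B' (algebraMap B B' b) = dn n A B b ⊗ₜ[B] (1 : B') :=
  Algebra.pushoutDesc_left B' (f₁ n A B B') (g₁ n A B A' B') _ b

theorem psiR0_algebraMapA' (a' : A') :
    psiR0 n A B A' B' (algebraMap A' B' a') = (1 : P n A B) ⊗ₜ[B] algebraMap A' B' a' :=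
  Algebra.pushoutDesc_right B' (f₁ n A B B') (g₁ n A B A' B') _ a'

/-- `psiR0` as an `A'`-algebra map. -/
noncomputable def psiR : B' →ₐ[A'] P n A B ⊗[B] B' where
  toRingHom := (psiR0 n A B A' B' : B' →+* P n A B ⊗[B] B')
  commutes' a' := psiR0_algebraMapA' n A B A' B' a'

theorem psiR_algebraMapB (b : B) :
    psiR n A B A' B' (algebraMap B B' b) = dn n A B b ⊗ₜ[B] (1 : B') :=
  psiR0_algebraMapB n A B A' B' b

theorem psiR_smul (a' : A') (y' : B') :
    psiR n A B A' B' (a' • y') =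
      ((1 : P n A B) ⊗ₜ[B] algebraMap A' B' a') * psiR n A B A' B' y' := by
  rw [map_smul, Algebra.smul_def, algT_apply]

/-- the first-factor map `B' → P ⊗[B] B'`, as an `A'`-algebra map. -/
noncomputable def inclR : B' →ₐ[A'] P n A B ⊗[B] B' where
  toRingHom := (Algebra.TensorProduct.includeRight : B' →ₐ[B] P n A B ⊗[B] B').toRingHom
  commutes' _ := rfl

theorem inclR_apply (x' : B') : inclR n A B A' B' x' = (1 : P n A B) ⊗ₜ[B] x' := rfl

/-- `B' ⊗[A'] B' → P ⊗[B] B'`. -/
noncomputable def psi0 : B' ⊗[A'] B' →ₐ[A'] P n A B ⊗[B] B' :=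
  Algebra.TensorProduct.lift (inclR n A B A' B') (psiR n A B A' B')
    (fun x y => Commute.all (S := P n A B ⊗[B] B') (inclR n A B A' B' x) (psiR n A B A' B' y))

theorem psi0_tmul (x' y' : B') :
    psi0 n A B A' B' (x' ⊗ₜ[A'] y') = ((1 : P n A B) ⊗ₜ[B] x') * psiR n A B A' B' y' := rfl

theorem delta_mem (y' : B') :
    psiR n A B A' B' y' - (1 : P n A B) ⊗ₜ[B] y' ∈ JT n A B B' := by
  have h : IsBaseChange A' (IsScalarTower.toAlgHom A B B').toLinearMap :=
    (Algebra.IsPushout.symm (inferInstance : Algebra.IsPushout A B A' B')).out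
  refine h.inductionOn y'
    (fun y' => psiR n A B A' B' y' - (1 : P n A B) ⊗ₜ[B] y' ∈ JT n A B B') ?_ ?_ ?_ ?_
  · rw [map_zero, TensorProduct.tmul_zero, sub_zero]
    exact zero_mem _
  · intro b
    show psiR n A B A' B' (algebraMap B B' b) - (1 : P n A B) ⊗ₜ[B] (algebraMap B B' b) ∈ _
    rw [psiR_algebraMapB, one_tmul_algebraMap, ← TensorProduct.sub_tmul]
    exact Ideal.mem_map_of_mem _ (dn_sub_algebraMap_mem n A B b)
  · intro a' y' hy'
    have e : psiR n A B A' B' (a' • y') - (1 : P n A B) ⊗ₜ[B] (a' • y') =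
        ((1 : P n A B) ⊗ₜ[B] algebraMap A' B' a') *
          (psiR n A B A' B' y' - (1 : P n A B) ⊗ₜ[B] y') := by
      rw [psiR_smul, mul_sub, Algebra.TensorProduct.tmul_mul_tmul, one_mul, ← Algebra.smul_def]
    rw [e]
    exact Ideal.mul_mem_left _ _ hy'
  · intro y₁ y₂ h₁ h₂
    have e : psiR n A B A' B' (y₁ + y₂) - (1 : P n A B) ⊗ₜ[B] (y₁ + y₂) =
        (psiR n A B A' B' y₁ - (1 : P n A B) ⊗ₜ[B] y₁) +
          (psiR n A B A' B' y₂ - (1 : P n A B) ⊗ₜ[B] y₂) := by
      rw [map_add, TensorProduct.tmul_add]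
      abel
    rw [e]
    exact add_mem h₁ h₂

theorem psi0_ideal_le :
    (KaehlerDifferential.ideal A' B').map (psi0 n A B A' B').toRingHom ≤ JT n A B B' := by
  have hI : KaehlerDifferential.ideal A' B' = Ideal.span (Set.range fun s : B' =>
      (1 : B') ⊗ₜ[A'] s - s ⊗ₜ[A'] (1 : B')) := (KaehlerDifferential.span_range_eq_ideal A' B').symm
  rw [hI, Ideal.map_span, Ideal.span_le]
  rintro _ ⟨_, ⟨y', rfl⟩, rfl⟩
  have e : (psi0 n A B A' B').toRingHom ((1 : B') ⊗ₜ[A'] y' - y' ⊗ₜ[A'] (1 : B')) =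
      psiR n A B A' B' y' - (1 : P n A B) ⊗ₜ[B] y' := by
    show psi0 n A B A' B' ((1 : B') ⊗ₜ[A'] y' - y' ⊗ₜ[A'] (1 : B')) = _
    rw [map_sub, psi0_tmul, psi0_tmul, map_one, mul_one, ← Algebra.TensorProduct.one_def, one_mul]
  rw [SetLike.mem_coe, e]
  exact delta_mem n A B A' B' y'

/-- the inverse map `P' → P ⊗[B] B'`. -/
noncomputable def psi : P n A' B' →+* P n A B ⊗[B] B' :=
  Ideal.Quotient.lift _ (psi0 n A B A' B').toRingHom (fun x hx => by
    have h1 : (psi0 n A B A' B').toRingHom x ∈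
        ((KaehlerDifferential.ideal A' B') ^ (n + 1)).map (psi0 n A B A' B').toRingHom :=
      Ideal.mem_map_of_mem _ hx
    have h3 : ((KaehlerDifferential.ideal A' B') ^ (n + 1)).map (psi0 n A B A' B').toRingHom ≤ ⊥ := by
      have h4 := Ideal.map_pow (psi0 n A B A' B').toRingHom (KaehlerDifferential.ideal A' B') (n + 1)
      have h5 := Ideal.pow_right_mono (psi0_ideal_le n A B A' B') (n + 1)
      have h6 := JT_pow n A B B'
      exact le_of_eq_of_le h4 (le_of_le_of_eq h5 h6)
    exact (Submodule.mem_bot _).mp (h3 h1))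

theorem psi_mk (w' : B' ⊗[A'] B') :
    psi n A B A' B' (Ideal.Quotient.mk _ w') = psi0 n A B A' B' w' := rfl

/-- the forward map `P ⊗[B] B' → P'`. -/
noncomputable def phi : P n A B ⊗[B] B' →ₐ[P n A B] P n A' B' :=
  Algebra.TensorProduct.lift (Algebra.ofId (P n A B) (P n A' B'))
    (IsScalarTower.toAlgHom B B' (P n A' B')) (fun _ _ => Commute.all _ _)

theorem phi_tmul (p : P n A B) (b' : B') :
    phi n A B A' B' (p ⊗ₜ[B] b') =
      PP16.map n A B A' B' p * algebraMap B' (P n A' B') b' := rfl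

theorem psi_map (p : P n A B) :
    psi n A B A' B' (PP16.map n A B A' B' p) = p ⊗ₜ[B] (1 : B') := by
  obtain ⟨w, rfl⟩ := Ideal.Quotient.mk_surjective p
  rw [map_mk, psi_mk]
  induction w using TensorProduct.induction_on with
  | zero => rw [map_zero, map_zero, map_zero, TensorProduct.zero_tmul]
  | tmul b c =>
    rw [tensorMap_tmul, psi0_tmul, psiR_algebraMapB, Algebra.TensorProduct.tmul_mul_tmul, one_mul,
      mul_one, mk_tmul, Algebra.algebraMap_eq_smul_one b, ← TensorProduct.smul_tmul,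
      Algebra.smul_def]
  | add x y hx hy => rw [map_add, map_add, map_add, hx, hy, TensorProduct.add_tmul]

theorem psi_phi (t : P n A B ⊗[B] B') : psi n A B A' B' (phi n A B A' B' t) = t := by
  induction t using TensorProduct.induction_on with
  | zero => rw [map_zero, map_zero]
  | tmul p b' =>
    have e : psi n A B A' B' (algebraMap B' (P n A' B') b') = (1 : P n A B) ⊗ₜ[B] b' := by
      rw [algebraMap_eq n A' B', psi_mk, psi0_tmul, map_one, mul_one]
    rw [phi_tmul, map_mul, psi_map, e, Algebra.TensorProduct.tmul_mul_tmul, mul_one, one_mul]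
  | add x y hx hy => rw [map_add, map_add, hx, hy]

theorem phi_surjective : Function.Surjective (phi n A B A' B') := by
  have h : IsBaseChange A' (IsScalarTower.toAlgHom A B B').toLinearMap :=
    (Algebra.IsPushout.symm (inferInstance : Algebra.IsPushout A B A' B')).out
  have key : ∀ (y' : B'), ∀ x' : B', (Ideal.Quotient.mk _ (x' ⊗ₜ[A'] y') : P n A' B') ∈
      (phi n A B A' B').range := by
    intro y'
    refine h.inductionOn y' (fun y' => ∀ x' : B',
      (Ideal.Quotient.mk _ (x' ⊗ₜ[A'] y') : P n A' B') ∈ (phi n A B A' B').range) ?_ ?_ ?_ ?_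
    · intro x'
      rw [TensorProduct.tmul_zero, map_zero]
      exact Subalgebra.zero_mem _
    · intro b x'
      refine ⟨dn n A B b ⊗ₜ[B] x', ?_⟩
      show phi n A B A' B' (dn n A B b ⊗ₜ[B] x') =
        Ideal.Quotient.mk _ (x' ⊗ₜ[A'] algebraMap B B' b)
      rw [phi_tmul, map_dn, mk_tmul n A' B', mul_comm]
    · intro a' y' hy' x'
      have e : x' ⊗ₜ[A'] (a' • y') = (a' • x') ⊗ₜ[A'] y' := (TensorProduct.smul_tmul a' x' y').symm
      rw [e]
      exact hy' _
    · intro y₁ y₂ h₁ h₂ x'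
      rw [TensorProduct.tmul_add, map_add]
      exact Subalgebra.add_mem _ (h₁ x') (h₂ x')
  intro x
  obtain ⟨w', rfl⟩ := Ideal.Quotient.mk_surjective x
  induction w' using TensorProduct.induction_on with
  | zero => exact ⟨0, by rw [map_zero, map_zero]⟩
  | tmul x' y' => exact key y' x'
  | add x y hx hy =>
    obtain ⟨s, hs⟩ := hx
    obtain ⟨t, ht⟩ := hy
    exact ⟨s + t, by rw [map_add, hs, ht, map_add]⟩

theorem isPushout_result : Algebra.IsPushout B (PP16.P n A B) B' (PP16.P n A' B') := by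
  have hinj : Function.Injective (phi n A B A' B') :=
    Function.LeftInverse.injective (g := psi n A B A' B') (psi_phi n A B A' B')
  refine ⟨IsBaseChange.of_equiv
    (LinearEquiv.ofBijective (phi n A B A' B').toLinearMap ⟨hinj, phi_surjective n A B A' B'⟩)
    (fun b' => ?_)⟩
  show phi n A B A' B' ((1 : P n A B) ⊗ₜ[B] b') = algebraMap B' (P n A' B') b'
  rw [phi_tmul, map_one, one_mul]

end pushout

end Groth.Agent.Lib.PP16L.BC
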