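import Mathlib
import Groth.Prelude.Def_DiffOp
import Groth.Prelude.Def_PP16
import Groth.Agent.Lib.PP16_lead
import Groth.Agent.Lib.PP16b_lead
import Groth.Agent.Lib.PP16e_lead
import Groth.Agent.Lib.DiffEt1_helper9

/-! Extension of differential operators along a formally smooth (étale) map `S → S'`: the
"Taylor expansion" `S' → P^k_{S/R} ⊗[S] S'` and the induced operator (helper9). -/

namespace Groth.Agent.DiffEt9

open Diff16 TensorProduct PP16 Groth.Agent.Lib.DiffOp Groth.Agent.Lib.PP16L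
  Groth.Agent.Lib.PP16L.BC

universe u

section lift
variable (k : ℕ) (R S S' : Type u) [CommRing R] [CommRing S] [CommRing S'] [Algebra R S]
  [Algebra R S'] [Algebra S S'] [IsScalarTower R S S']

/-- `P ⊗[S] S'` with the `S`-algebra structure `s ↦ dᵏ s ⊗ 1`. -/
def Qtw : Type u := P k R S ⊗[S] S'

noncomputable instance : CommRing (Qtw k R S S') := inferInstanceAs (CommRing (P k R S ⊗[S] S'))

noncomputable instance algQtw : Algebra S (Qtw k R S S') := (f₁ k R S S').toRingHom.toAlgebra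

/-- `JT` as an ideal of the synonym. -/
noncomputable def JTw : Ideal (Qtw k R S S') := JT k R S S'

theorem JTw_nilpotent : IsNilpotent (JTw k R S S') := ⟨k + 1, JT_pow k R S S'⟩

/-- `s' ↦ [1 ⊗ s']`, an `S`-algebra map for the twisted structure. -/
noncomputable def gTw : S' →ₐ[S] Qtw k R S S' ⧸ JTw k R S S' :=
  { toRingHom := (Ideal.Quotient.mk (JTw k R S S')).comp
      (Algebra.TensorProduct.includeRight : S' →ₐ[S] P k R S ⊗[S] S').toRingHom
    commutes' := fun s => by
      show Ideal.Quotient.mk (JTw k R S S') ((1 : P k R S) ⊗ₜ[S] algebraMap S S' s) =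
        Ideal.Quotient.mk (JTw k R S S') (dn k R S s ⊗ₜ[S] (1 : S'))
      rw [Ideal.Quotient.eq]
      have e : ((1 : P k R S) ⊗ₜ[S] algebraMap S S' s - dn k R S s ⊗ₜ[S] (1 : S') :
          P k R S ⊗[S] S') = -((dn k R S s - algebraMap S (P k R S) s) ⊗ₜ[S] (1 : S')) := by
        rw [one_tmul_algebraMap, TensorProduct.sub_tmul, neg_sub]
      change ((1 : P k R S) ⊗ₜ[S] algebraMap S S' s - dn k R S s ⊗ₜ[S] (1 : S') :
          P k R S ⊗[S] S') ∈ JT k R S S'
      rw [e]
      exact neg_mem (Ideal.mem_map_of_mem _ (dn_sub_algebraMap_mem k R S s)) }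

variable [Algebra.FormallySmooth S S']

/-- the Taylor expansion map `S' → P ⊗[S] S'`. -/
noncomputable def tay : S' →+* P k R S ⊗[S] S' :=
  (Algebra.FormallySmooth.lift (JTw k R S S') (JTw_nilpotent k R S S') (gTw k R S S')).toRingHom

theorem tay_algebraMap (s : S) : tay k R S S' (algebraMap S S' s) = dn k R S s ⊗ₜ[S] (1 : S') :=
  (Algebra.FormallySmooth.lift (JTw k R S S') (JTw_nilpotent k R S S') (gTw k R S S')).commutes s

theorem tay_sub_mem (t' : S') : tay k R S S' t' - (1 : P k R S) ⊗ₜ[S] t' ∈ JT k R S S' := by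
  have h := Algebra.FormallySmooth.mk_lift (JTw k R S S') (JTw_nilpotent k R S S')
    (gTw k R S S') t'
  have h2 : gTw k R S S' t' = Ideal.Quotient.mk (JTw k R S S') ((1 : P k R S) ⊗ₜ[S] t') := rfl
  rw [h2, Ideal.Quotient.eq] at h
  exact h

theorem tay_algebraMap_R (r : R) :
    tay k R S S' (algebraMap R S' r) = (1 : P k R S) ⊗ₜ[S] algebraMap R S' r := by
  rw [IsScalarTower.algebraMap_apply R S S', tay_algebraMap, one_tmul_algebraMap,
    (dn k R S).commutes, ← IsScalarTower.algebraMap_apply R S (P k R S)]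

end lift

section op
variable {k : ℕ} {R S S' : Type u} [CommRing R] [CommRing S] [CommRing S'] [Algebra R S]
  [Algebra R S'] [Algebra S S'] [IsScalarTower R S S']
variable {M N : Type u} [AddCommGroup M] [Module S M] [Module R M] [IsScalarTower R S M]
  [AddCommGroup N] [Module S N] [Module R N] [IsScalarTower R S N]
variable {D : M →ₗ[R] N} (hD : IsDiffOpLE R S M N k D)

/-- `(p, s') ↦ (m ↦ s' ⊗ ψ(p)(m))`. -/
noncomputable def Tpre : P k R S →+ S' →+ (M →+ S' ⊗[S] N) :=
  AddMonoidHom.mk' (fun p => AddMonoidHom.mk' (fun s' =>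
      ((TensorProduct.mk S S' N s').toAddMonoidHom.comp (psiAdd k D hD p)))
    (by intro a b; ext m; simp))
    (by intro a b; ext s' m; simp [TensorProduct.tmul_add])

theorem Tpre_apply (p : P k R S) (s' : S') (m : M) :
    Tpre hD p s' m = s' ⊗ₜ[S] psiAdd k D hD p m := rfl

/-- `T q m`: apply `ψ(·)(m)` to the first factor of `q`. -/
noncomputable def T : P k R S ⊗[S] S' →+ (M →+ S' ⊗[S] N) :=
  TensorProduct.liftAddHom (Tpre hD) (by
    intro s p s'
    ext m
    rw [Tpre_apply, Tpre_apply, Algebra.smul_def, psiAdd_algebraMap_mul, TensorProduct.smul_tmul])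

theorem T_tmul (p : P k R S) (s' : S') (m : M) :
    T hD (p ⊗ₜ[S] s') m = s' ⊗ₜ[S] psiAdd k D hD p m := rfl

theorem T_mul_dn (q : P k R S ⊗[S] S') (s : S) (m : M) :
    T hD (q * (dn k R S s ⊗ₜ[S] (1 : S'))) m = T hD q (s • m) := by
  induction q using TensorProduct.induction_on with
  | zero => simp
  | tmul p s' =>
    rw [Algebra.TensorProduct.tmul_mul_tmul, mul_one, T_tmul, T_tmul, mul_comm, psiAdd_dn_mul]
  | add x y hx hy =>
    rw [add_mul, map_add, map_add, AddMonoidHom.add_apply, AddMonoidHom.add_apply, hx, hy]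

theorem T_mul_right (q : P k R S ⊗[S] S') (t' : S') (m : M) :
    T hD (q * ((1 : P k R S) ⊗ₜ[S] t')) m = t' • T hD q m := by
  induction q using TensorProduct.induction_on with
  | zero => simp
  | tmul p s' =>
    rw [Algebra.TensorProduct.tmul_mul_tmul, mul_one, T_tmul, T_tmul, TensorProduct.smul_tmul',
      smul_eq_mul, mul_comm]
  | add x y hx hy =>
    rw [add_mul, map_add, map_add, AddMonoidHom.add_apply, AddMonoidHom.add_apply, hx, hy,
      smul_add]

theorem T_one (m : M) : T hD (1 : P k R S ⊗[S] S') m = (1 : S') ⊗ₜ[S] D m := by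
  rw [Algebra.TensorProduct.one_def, T_tmul]
  congr 1
  exact uHom_dM hD m

variable [Algebra.FormallySmooth S S']

/-- the operator attached to `q`, additive version. -/
noncomputable def Dadd (q : P k R S ⊗[S] S') : S' ⊗[S] M →+ S' ⊗[S] N :=
  TensorProduct.liftAddHom
    ((T hD).comp ((AddMonoidHom.mulLeft q).comp (tay k R S S').toAddMonoidHom)) (by
      intro s s' m
      show T hD (q * tay k R S S' (s • s')) m = T hD (q * tay k R S S' s') (s • m)
      rw [Algebra.smul_def, RingHom.map_mul, tay_algebraMap, ← T_mul_dn, mul_assoc,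
        mul_comm (dn k R S s ⊗ₜ[S] (1 : S'))])

theorem Dadd_tmul (q : P k R S ⊗[S] S') (s' : S') (m : M) :
    Dadd hD q (s' ⊗ₜ[S] m) = T hD (q * tay k R S S' s') m := rfl

theorem Dadd_zero : Dadd hD (0 : P k R S ⊗[S] S') = 0 := by
  ext x
  induction x using TensorProduct.induction_on with
  | zero => simp
  | tmul s' m => rw [Dadd_tmul, zero_mul, map_zero]; rfl
  | add x y hx hy => rw [map_add, hx, hy, map_add]

theorem Dadd_smul (q : P k R S ⊗[S] S') (t' : S') (x : S' ⊗[S] M) :
    Dadd hD q (t' • x) - t' • Dadd hD q x =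
      Dadd hD (q * (tay k R S S' t' - (1 : P k R S) ⊗ₜ[S] t')) x := by
  induction x using TensorProduct.induction_on with
  | zero => simp
  | tmul s' m =>
    rw [TensorProduct.smul_tmul', smul_eq_mul, Dadd_tmul, Dadd_tmul, Dadd_tmul, ← T_mul_right,
      RingHom.map_mul, ← AddMonoidHom.sub_apply, ← AddMonoidHom.map_sub]
    congr 2
    ring
  | add x y hx hy =>
    rw [smul_add, map_add, map_add, smul_add, map_add, ← hx, ← hy]
    abel

theorem Dadd_smul_R (q : P k R S ⊗[S] S') (r : R) (x : S' ⊗[S] M) :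
    Dadd hD q (r • x) = r • Dadd hD q x := by
  have h := Dadd_smul hD q (algebraMap R S' r) x
  rw [tay_algebraMap_R, sub_self, mul_zero, Dadd_zero, AddMonoidHom.zero_apply, sub_eq_zero,
    algebraMap_smul, algebraMap_smul] at h
  exact h

/-- the operator attached to `q`. -/
noncomputable def Dlin (q : P k R S ⊗[S] S') : S' ⊗[S] M →ₗ[R] S' ⊗[S] N where
  toFun := Dadd hD q
  map_add' := map_add _
  map_smul' := Dadd_smul_R hD q

theorem Dlin_apply (q : P k R S ⊗[S] S') (x : S' ⊗[S] M) : Dlin hD q x = Dadd hD q x := rfl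

theorem commutator_Dlin (q : P k R S ⊗[S] S') (t' : S') :
    commutator R S' (S' ⊗[S] M) (S' ⊗[S] N) (Dlin hD q) t' =
      Dlin hD (q * (tay k R S S' t' - (1 : P k R S) ⊗ₜ[S] t')) := by
  ext x
  rw [commutator_apply, Dlin_apply, Dlin_apply, Dlin_apply, Dadd_smul]

theorem Dlin_zero : Dlin hD (0 : P k R S ⊗[S] S') = 0 := by
  ext x
  rw [Dlin_apply, Dadd_zero]
  rfl

theorem Dlin_order : ∀ (n : ℕ) (q : P k R S ⊗[S] S'), q ∈ JT k R S S' ^ (k - n) →
    IsDiffOpLE R S' (S' ⊗[S] M) (S' ⊗[S] N) n (Dlin hD q) := by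
  intro n
  induction n with
  | zero =>
    intro q hq t' x
    have h1 : q * (tay k R S S' t' - (1 : P k R S) ⊗ₜ[S] t') ∈ JT k R S S' ^ (k + 1) :=
      (Submodule.pow_succ (JT k R S S') (n := k)).ge (Ideal.mul_mem_mul hq (tay_sub_mem k R S S' t'))
    have h1' : q * (tay k R S S' t' - (1 : P k R S) ⊗ₜ[S] t') ∈ (⊥ : Ideal (P k R S ⊗[S] S')) :=
      (JT_pow k R S S').le h1
    replace h1 := (Ideal.mem_bot).mp h1'
    have h2 := LinearMap.congr_fun (commutator_Dlin hD q t') x
    rw [h1, Dlin_zero, LinearMap.zero_apply, commutator_apply, sub_eq_zero] at h2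
    exact h2
  | succ n ih =>
    intro q hq t'
    rw [commutator_Dlin]
    refine ih _ ?_
    have h1 : q * (tay k R S S' t' - (1 : P k R S) ⊗ₜ[S] t') ∈ JT k R S S' ^ (k - (n + 1) + 1) :=
      (Submodule.pow_succ (JT k R S S') (n := k - (n + 1))).ge
        (Ideal.mul_mem_mul hq (tay_sub_mem k R S S' t'))
    exact Ideal.pow_le_pow_right (by omega) h1

theorem Dlin_one_order : IsDiffOpLE R S' (S' ⊗[S] M) (S' ⊗[S] N) k (Dlin hD 1) :=
  Dlin_order hD k 1 (by rw [Nat.sub_self, Submodule.pow_zero, Ideal.one_eq_top]; trivial)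

theorem Dlin_one_apply (m : M) : Dlin hD 1 ((1 : S') ⊗ₜ[S] m) = (1 : S') ⊗ₜ[S] D m := by
  rw [Dlin_apply, Dadd_tmul, map_one, mul_one, T_one]

end op

section main
variable (R S S' : Type u) [CommRing R] [CommRing S] [CommRing S'] [Algebra R S]
  [Algebra R S'] [Algebra S S'] [IsScalarTower R S S'] [Algebra.FormallyEtale S S']

theorem existsUnique_ext (M N : Type u) [AddCommGroup M] [Module S M] [Module R M]
    [IsScalarTower R S M] [AddCommGroup N] [Module S N] [Module R N] [IsScalarTower R S N]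
    (k : ℕ) (D : M →ₗ[R] N) (hD : Diff16.IsDiffOpLE R S M N k D) :
    ∃! D' : S' ⊗[S] M →ₗ[R] S' ⊗[S] N,
      Diff16.IsDiffOpLE R S' (S' ⊗[S] M) (S' ⊗[S] N) k D' ∧
        D' ∘ₗ (TensorProduct.mk S S' M 1).restrictScalars R =
          (TensorProduct.mk S S' N 1).restrictScalars R ∘ₗ D := by
  refine ⟨Dlin hD 1, ⟨Dlin_one_order hD, ?_⟩, ?_⟩
  · ext m
    exact Dlin_one_apply hD m
  · rintro D' ⟨h1, h2⟩
    have hz : D' - Dlin hD 1 = 0 := by
      refine eq_zero_of_vanish k _ (isDiffOpLE_sub h1 (Dlin_one_order hD)) (fun m => ?_)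
      rw [LinearMap.sub_apply, Dlin_one_apply, sub_eq_zero]
      exact LinearMap.congr_fun h2 m
    exact sub_eq_zero.mp hz

end main

end Groth.Agent.DiffEt9
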