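import Mathlib
import Groth.Prelude.Def_DiffOp
import Groth.Agent.Lib.DiffEt2_helper9

/-! Extension of differential operators to localized modules (helper9). -/

namespace Groth.Agent.DiffEt9

open Diff16 TensorProduct Groth.Agent.Lib.DiffOp

universe u

section conj
variable {R S' : Type u} [CommRing R] [CommRing S'] [Algebra R S']
variable {M₁ M₂ N₁ N₂ : Type u}
  [AddCommGroup M₁] [Module R M₁] [Module S' M₁] [IsScalarTower R S' M₁]
  [AddCommGroup M₂] [Module R M₂] [Module S' M₂] [IsScalarTower R S' M₂]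
  [AddCommGroup N₁] [Module R N₁] [Module S' N₁] [IsScalarTower R S' N₁]
  [AddCommGroup N₂] [Module R N₂] [Module S' N₂] [IsScalarTower R S' N₂]

theorem isDiffOpLE_of_linear (f : M₁ →ₗ[S'] M₂) :
    IsDiffOpLE R S' M₁ M₂ 0 (f.restrictScalars R) := fun s x => by simp

theorem isDiffOpLE_conj (eM : M₁ ≃ₗ[S'] M₂) (eN : N₁ ≃ₗ[S'] N₂) (k : ℕ) (E : M₁ →ₗ[R] N₁)
    (hE : IsDiffOpLE R S' M₁ N₁ k E) :
    IsDiffOpLE R S' M₂ N₂ k
      ((eN.toLinearMap.restrictScalars R) ∘ₗ E ∘ₗ (eM.symm.toLinearMap.restrictScalars R)) := by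
  have h1 := isDiffOpLE_comp 0 k _ E (isDiffOpLE_of_linear (R := R) eM.symm.toLinearMap) hE
  rw [Nat.zero_add] at h1
  have h2 := isDiffOpLE_comp k 0 _ _ h1 (isDiffOpLE_of_linear (R := R) eN.toLinearMap)
  exact h2

end conj

section loc
variable (A B : Type u) [CommRing A] [CommRing B] [Algebra A B]
    (S : Submonoid B) (M N : Type u) [AddCommGroup M] [Module B M] [Module A M] [IsScalarTower A B M]
    [AddCommGroup N] [Module B N] [Module A N] [IsScalarTower A B N]

theorem existsUnique_localized (k : ℕ) (D : M →ₗ[A] N)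
    (hD : Diff16.IsDiffOpLE A B M N k D) :
    ∃! E : LocalizedModule S M →ₗ[A] LocalizedModule S N,
      Diff16.IsDiffOpLE A (Localization S) (LocalizedModule S M) (LocalizedModule S N) k E ∧
        E ∘ₗ (LocalizedModule.mkLinearMap S M).restrictScalars A =
          (LocalizedModule.mkLinearMap S N).restrictScalars A ∘ₗ D := by
  haveI : Algebra.FormallyEtale B (Localization S) := Algebra.FormallyEtale.of_isLocalization S
  obtain ⟨D', ⟨hD'1, hD'2⟩, hD'u⟩ := existsUnique_ext A B (Localization S) M N k D hD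
  set eM := (LocalizedModule.equivTensorProduct S M).symm with heM
  set eN := (LocalizedModule.equivTensorProduct S N).symm with heN
  have hD'2' : ∀ m : M, D' ((1 : Localization S) ⊗ₜ[B] m) = (1 : Localization S) ⊗ₜ[B] D m :=
    fun m => LinearMap.congr_fun hD'2 m
  refine ⟨(eN.toLinearMap.restrictScalars A) ∘ₗ D' ∘ₗ (eM.symm.toLinearMap.restrictScalars A),
    ⟨isDiffOpLE_conj eM eN k D' hD'1, ?_⟩, ?_⟩
  · ext m
    simp only [LinearMap.comp_apply, LinearMap.restrictScalars_apply, LinearEquiv.coe_coe,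
      LocalizedModule.mkLinearMap_apply]
    rw [heM, LinearEquiv.symm_symm, LocalizedModule.equivTensorProduct_apply_mk,
      Localization.mk_one, hD'2', heN, LocalizedModule.equivTensorProduct_symm_apply_tmul_one]
  · rintro E ⟨hE1, hE2⟩
    have hE2' : ∀ m : M, E (LocalizedModule.mk m 1) = LocalizedModule.mk (D m) 1 :=
      fun m => LinearMap.congr_fun hE2 m
    have h := hD'u ((eN.symm.toLinearMap.restrictScalars A) ∘ₗ E ∘ₗ
      (eM.toLinearMap.restrictScalars A)) ⟨?_, ?_⟩
    · rw [← h]
      ext x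
      simp
    · have := isDiffOpLE_conj eM.symm eN.symm k E hE1
      rwa [LinearEquiv.symm_symm] at this
    · ext m
      simp only [LinearMap.comp_apply, LinearMap.restrictScalars_apply, LinearEquiv.coe_coe,
        TensorProduct.mk_apply]
      rw [heM, LocalizedModule.equivTensorProduct_symm_apply_tmul_one, hE2', heN,
        LinearEquiv.symm_symm, LocalizedModule.equivTensorProduct_apply_mk, Localization.mk_one]

end loc

end Groth.Agent.DiffEt9
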