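import Mathlib

/-!
# The different ideal commutes with localization of the base (helper1, for S11086)
-/

set_option autoImplicit false
set_option maxHeartbeats 1000000
universe u

attribute [local instance] FractionRing.liftAlgebra

namespace Groth.Agent.Lib.DiffLocH1

open IsLocalization

theorem gen (A B K L : Type*) [CommRing A] [CommRing B] [Field K] [Field L]
    [Algebra A K] [Algebra B L] [Algebra A B] [Algebra K L] [Algebra A L]
    [IsScalarTower A K L] [IsScalarTower A B L]
    [IsDomain A] [IsFractionRing A K] [FiniteDimensional K L] [Algebra.IsSeparable K L]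
    [IsIntegralClosure B A L] [IsIntegrallyClosed A] [IsDedekindDomain B]
    [Module.IsTorsionFree A B] [IsFractionRing B L] [Module.Finite A B]
    (S : Submonoid A)
    (Aₛ Bₛ : Type*) [CommRing Aₛ] [CommRing Bₛ] [Algebra A Aₛ] [Algebra B Bₛ] [Algebra Aₛ Bₛ]
    [Algebra A Bₛ] [IsScalarTower A Aₛ Bₛ] [IsScalarTower A B Bₛ]
    [IsLocalization S Aₛ] [IsLocalization (Algebra.algebraMapSubmonoid B S) Bₛ]
    [IsDomain Aₛ] [IsIntegrallyClosed Aₛ] [IsDedekindDomain Bₛ] [Module.IsTorsionFree Aₛ Bₛ]
    [Algebra Aₛ K] [Algebra Bₛ L] [Algebra Aₛ L] [IsScalarTower A Aₛ K] [IsScalarTower B Bₛ L]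
    [IsScalarTower Aₛ K L] [IsScalarTower Aₛ Bₛ L] [IsFractionRing Aₛ K] [IsFractionRing Bₛ L]
    [IsIntegralClosure Bₛ Aₛ L] :
    Ideal.map (algebraMap B Bₛ) (differentIdeal A B) = differentIdeal Aₛ Bₛ := by
  classical
  have hinjB : Function.Injective (algebraMap B L) := IsFractionRing.injective B L
  have hinjBs : Function.Injective (algebraMap Bₛ L) := IsFractionRing.injective Bₛ L
  have m1 : ∀ d : B, d ∈ differentIdeal A B ↔
      ∀ y ∈ Submodule.traceDual A K (1 : Submodule B L),
        algebraMap B L d * y ∈ (1 : Submodule B L) := by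
    intro d
    rw [← Submodule.mem_div_iff_forall_mul_mem, ← coeSubmodule_differentIdeal A K B,
      IsLocalization.mem_coeSubmodule]
    constructor
    · intro h; exact ⟨d, h, rfl⟩
    · rintro ⟨y, hy, hyd⟩; rwa [← hinjB hyd]
  have m2 : ∀ d : Bₛ, d ∈ differentIdeal Aₛ Bₛ ↔
      ∀ y ∈ Submodule.traceDual Aₛ K (1 : Submodule Bₛ L),
        algebraMap Bₛ L d * y ∈ (1 : Submodule Bₛ L) := by
    intro d
    rw [← Submodule.mem_div_iff_forall_mul_mem, ← coeSubmodule_differentIdeal Aₛ K Bₛ,
      IsLocalization.mem_coeSubmodule]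
    constructor
    · intro h; exact ⟨d, h, rfl⟩
    · rintro ⟨y, hy, hyd⟩; rwa [← hinjBs hyd]
  have t1 : ∀ y : L, y ∈ Submodule.traceDual A K (1 : Submodule B L) ↔
      ∀ b : B, Algebra.trace K L (y * algebraMap B L b) ∈ (algebraMap A K).range := by
    intro y
    rw [Submodule.mem_traceDual]
    constructor
    · intro h b
      have := h (algebraMap B L b) (Submodule.mem_one.mpr ⟨b, rfl⟩)
      rwa [Algebra.traceForm_apply] at this
    · intro h a ha
      obtain ⟨b, rfl⟩ := Submodule.mem_one.mp ha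
      rw [Algebra.traceForm_apply]; exact h b
  have t2 : ∀ y : L, y ∈ Submodule.traceDual Aₛ K (1 : Submodule Bₛ L) ↔
      ∀ b : Bₛ, Algebra.trace K L (y * algebraMap Bₛ L b) ∈ (algebraMap Aₛ K).range := by
    intro y
    rw [Submodule.mem_traceDual]
    constructor
    · intro h b
      have := h (algebraMap Bₛ L b) (Submodule.mem_one.mpr ⟨b, rfl⟩)
      rwa [Algebra.traceForm_apply] at this
    · intro h a ha
      obtain ⟨b, rfl⟩ := Submodule.mem_one.mp ha
      rw [Algebra.traceForm_apply]; exact h b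
  -- (C1)
  have C1 : ∀ y ∈ Submodule.traceDual A K (1 : Submodule B L),
      y ∈ Submodule.traceDual Aₛ K (1 : Submodule Bₛ L) := by
    intro y hy
    rw [t2]; intro b'
    obtain ⟨⟨b, ⟨m, hm⟩⟩, hb⟩ := IsLocalization.surj (Algebra.algebraMapSubmonoid B S) b'
    obtain ⟨s, hs, hsm⟩ := hm
    have hb' : b' * algebraMap B Bₛ (algebraMap A B s) = algebraMap B Bₛ b := by
      rw [hsm]; exact hb
    obtain ⟨a, ha⟩ := (t1 y).mp hy b
    have hu : IsUnit (algebraMap A K s) := by
      rw [IsScalarTower.algebraMap_apply A Aₛ K]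
      exact (IsLocalization.map_units Aₛ (⟨s, hs⟩ : S)).map (algebraMap Aₛ K)
    refine ⟨IsLocalization.mk' Aₛ a (⟨s, hs⟩ : S), ?_⟩
    apply hu.mul_left_cancel
    have e1 : algebraMap A K s * algebraMap Aₛ K (IsLocalization.mk' Aₛ a (⟨s, hs⟩ : S)) =
        algebraMap A K a := by
      have h := congrArg (algebraMap Aₛ K) (IsLocalization.mk'_spec Aₛ a (⟨s, hs⟩ : S))
      rw [map_mul, ← IsScalarTower.algebraMap_apply A Aₛ K,
        ← IsScalarTower.algebraMap_apply A Aₛ K] at h
      rw [mul_comm]; exact h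
    have e2 : algebraMap A K s * Algebra.trace K L (y * algebraMap Bₛ L b') =
        Algebra.trace K L (y * algebraMap B L b) := by
      have h := (Algebra.trace K L).map_smul (algebraMap A K s) (y * algebraMap Bₛ L b')
      rw [smul_eq_mul] at h
      rw [← h]
      congr 1
      rw [Algebra.smul_def, ← IsScalarTower.algebraMap_apply A K L]
      have h3 : algebraMap B L b = algebraMap Bₛ L b' * algebraMap A L s := by
        rw [IsScalarTower.algebraMap_apply B Bₛ L b, ← hb', map_mul,
          ← IsScalarTower.algebraMap_apply B Bₛ L, ← IsScalarTower.algebraMap_apply A B L]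
      rw [h3]; ring
    rw [e1, e2, ha]
  -- (C2)
  have C2 : ∀ y ∈ Submodule.traceDual Aₛ K (1 : Submodule Bₛ L),
      ∃ s ∈ S, algebraMap A L s * y ∈ Submodule.traceDual A K (1 : Submodule B L) := by
    intro y hy
    obtain ⟨F, hF⟩ := (Module.Finite.fg_top : (⊤ : Submodule A B).FG)
    have hch : ∀ b : B, ∃ a' : Aₛ,
        algebraMap Aₛ K a' = Algebra.trace K L (y * algebraMap B L b) := by
      intro b
      have := (t2 y).mp hy (algebraMap B Bₛ b)
      rw [← IsScalarTower.algebraMap_apply B Bₛ L] at this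
      exact this
    choose a' ha' using hch
    obtain ⟨⟨s, hs⟩, hs'⟩ := IsLocalization.exist_integer_multiples_of_finset S (F.image a')
    refine ⟨s, hs, ?_⟩
    rw [t1]
    let φ : B →ₗ[A] K := ((Algebra.trace K L).restrictScalars A) ∘ₗ
      ((LinearMap.mulLeft K (algebraMap A L s * y)).restrictScalars A) ∘ₗ
      (IsScalarTower.toAlgHom A B L).toLinearMap
    have hφ : ∀ b, φ b = Algebra.trace K L (algebraMap A L s * y * algebraMap B L b) :=
      fun b => rfl
    have hle : (⊤ : Submodule A B) ≤ Submodule.comap φ (1 : Submodule A K) := by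
      rw [← hF, Submodule.span_le]
      intro b hb
      show φ b ∈ (1 : Submodule A K)
      rw [Submodule.mem_one, hφ]
      obtain ⟨a, ha⟩ := hs' (a' b) (Finset.mem_image_of_mem _ hb)
      have ha2 : algebraMap A Aₛ a = algebraMap A Aₛ s * a' b := by
        rw [ha, Algebra.smul_def]
      refine ⟨a, ?_⟩
      rw [IsScalarTower.algebraMap_apply A Aₛ K, ha2, map_mul, ha',
        ← IsScalarTower.algebraMap_apply A Aₛ K]
      have h := (Algebra.trace K L).map_smul (algebraMap A K s) (y * algebraMap B L b)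
      rw [smul_eq_mul] at h
      rw [← h, Algebra.smul_def, ← IsScalarTower.algebraMap_apply A K L, mul_assoc]
    intro b
    have h := hle (Submodule.mem_top : b ∈ ⊤)
    rw [Submodule.mem_comap, Submodule.mem_one] at h
    obtain ⟨a, ha⟩ := h
    exact ⟨a, by rw [ha, hφ]⟩
  -- (C3)
  have C3 : (Submodule.traceDual A K (1 : Submodule B L)).FG := by
    rw [← FractionalIdeal.coe_dual_one A K L B]
    have hN := FractionalIdeal.isNoetherian
      (FractionalIdeal.dual A K (1 : FractionalIdeal (nonZeroDivisors B) L))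
    exact (Submodule.fg_top _).mp (hN.1 ⊤)
  apply le_antisymm
  · rw [Ideal.map_le_iff_le_comap]
    intro d hd
    rw [Ideal.mem_comap, m2]
    intro y hy
    obtain ⟨s, hs, hsy⟩ := C2 y hy
    obtain ⟨b₀, hb₀⟩ := Submodule.mem_one.mp ((m1 d).mp hd _ hsy)
    rw [Submodule.mem_one]
    have hmem : algebraMap A B s ∈ Algebra.algebraMapSubmonoid B S := ⟨s, hs, rfl⟩
    refine ⟨IsLocalization.mk' Bₛ b₀
      (⟨algebraMap A B s, hmem⟩ : Algebra.algebraMapSubmonoid B S), ?_⟩
    have hu : IsUnit (algebraMap A L s) := by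
      rw [IsScalarTower.algebraMap_apply A B L, IsScalarTower.algebraMap_apply B Bₛ L]
      exact (IsLocalization.map_units Bₛ
        (⟨algebraMap A B s, hmem⟩ : Algebra.algebraMapSubmonoid B S)).map (algebraMap Bₛ L)
    apply hu.mul_left_cancel
    have e1 : algebraMap A L s * algebraMap Bₛ L (IsLocalization.mk' Bₛ b₀
        (⟨algebraMap A B s, hmem⟩ : Algebra.algebraMapSubmonoid B S)) = algebraMap B L b₀ := by
      have h := congrArg (algebraMap Bₛ L) (IsLocalization.mk'_spec Bₛ b₀
        (⟨algebraMap A B s, hmem⟩ : Algebra.algebraMapSubmonoid B S))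
      rw [map_mul, ← IsScalarTower.algebraMap_apply B Bₛ L,
        ← IsScalarTower.algebraMap_apply B Bₛ L] at h
      rw [mul_comm, IsScalarTower.algebraMap_apply A B L]; exact h
    rw [e1, hb₀, ← IsScalarTower.algebraMap_apply B Bₛ L]; ring
  · intro x hx
    obtain ⟨⟨d, ⟨m, hm⟩⟩, hxd⟩ := IsLocalization.surj (Algebra.algebraMapSubmonoid B S) x
    have hxd' : x * algebraMap B Bₛ m = algebraMap B Bₛ d := hxd
    have hd' : algebraMap B Bₛ d ∈ differentIdeal Aₛ Bₛ := by
      rw [← hxd']; exact Ideal.mul_mem_right _ _ hx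
    obtain ⟨Y, hY⟩ := C3
    have hch : ∀ y : L, ∃ b' : Bₛ, y ∈ Submodule.traceDual A K (1 : Submodule B L) →
        algebraMap Bₛ L b' = algebraMap B L d * y := by
      intro y
      by_cases hy : y ∈ Submodule.traceDual A K (1 : Submodule B L)
      · have h := (m2 _).mp hd' y (C1 y hy)
        rw [Submodule.mem_one, ← IsScalarTower.algebraMap_apply B Bₛ L] at h
        obtain ⟨b', hb'⟩ := h
        exact ⟨b', fun _ => hb'⟩
      · exact ⟨0, fun h => absurd h hy⟩
    choose bf hbf using hch
    obtain ⟨⟨m₁, hm₁⟩, hint⟩ := IsLocalization.exist_integer_multiples_of_finset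
      (Algebra.algebraMapSubmonoid B S) (Y.image bf)
    have hmd : m₁ * d ∈ differentIdeal A B := by
      rw [m1]
      have hle : Submodule.traceDual A K (1 : Submodule B L) ≤
          Submodule.comap (LinearMap.mulLeft B (algebraMap B L (m₁ * d)))
            (1 : Submodule B L) := by
        rw [← hY, Submodule.span_le]
        intro y hy
        have hyC : y ∈ Submodule.traceDual A K (1 : Submodule B L) := by
          rw [← hY]; exact Submodule.subset_span hy
        show algebraMap B L (m₁ * d) * y ∈ (1 : Submodule B L)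
        obtain ⟨β, hβ⟩ := hint (bf y) (Finset.mem_image_of_mem _ hy)
        have hβ2 : algebraMap B Bₛ β = algebraMap B Bₛ m₁ * bf y := by
          rw [hβ, Algebra.smul_def]
        rw [Submodule.mem_one]
        refine ⟨β, ?_⟩
        rw [IsScalarTower.algebraMap_apply B Bₛ L β, hβ2, map_mul, hbf y hyC,
          ← IsScalarTower.algebraMap_apply B Bₛ L, map_mul, mul_assoc]
      intro y hy
      exact hle hy
    rw [IsLocalization.mem_map_algebraMap_iff (Algebra.algebraMapSubmonoid B S)]
    refine ⟨⟨⟨m₁ * d, hmd⟩, ⟨m * m₁, mul_mem hm hm₁⟩⟩, ?_⟩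
    show x * algebraMap B Bₛ (m * m₁) = algebraMap B Bₛ (m₁ * d)
    rw [map_mul, ← mul_assoc, hxd', map_mul, mul_comm]

theorem main (A B : Type u) [CommRing A] [CommRing B]
    [IsDedekindDomain A] [IsDedekindDomain B] [Algebra A B] [Module.Finite A B] [Module.IsTorsionFree A B]
    [Algebra.IsSeparable (FractionRing A) (FractionRing B)]
    (S : Submonoid A) (hS : S ≤ nonZeroDivisors A)
    (Aₛ Bₛ : Type u) [CommRing Aₛ] [CommRing Bₛ] [Algebra A Aₛ] [Algebra B Bₛ] [Algebra Aₛ Bₛ]
    [Algebra A Bₛ] [IsScalarTower A Aₛ Bₛ] [IsScalarTower A B Bₛ]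
    [IsLocalization S Aₛ] [IsLocalization (Algebra.algebraMapSubmonoid B S) Bₛ]
    [IsDomain Aₛ] [IsIntegrallyClosed Aₛ] [IsDedekindDomain Bₛ] [Module.IsTorsionFree Aₛ Bₛ] :
    Ideal.map (algebraMap B Bₛ) (differentIdeal A B) = differentIdeal Aₛ Bₛ := by
  haveI : IsIntegralClosure B A (FractionRing B) := IsIntegralClosure.of_isIntegrallyClosed _ _ _
  have hunitA : ∀ s : S, IsUnit (algebraMap A (FractionRing A) (s : A)) := fun s =>
    IsUnit.mk0 _ ((map_ne_zero_iff _ (IsFractionRing.injective A (FractionRing A))).mpr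
      (nonZeroDivisors.ne_zero (hS s.2)))
  letI algAsK : Algebra Aₛ (FractionRing A) :=
    (IsLocalization.lift (M := S) (g := algebraMap A (FractionRing A)) hunitA).toAlgebra
  haveI : IsScalarTower A Aₛ (FractionRing A) :=
    .of_algebraMap_eq fun a => (IsLocalization.lift_eq hunitA a).symm
  haveI : IsFractionRing Aₛ (FractionRing A) :=
    IsFractionRing.isFractionRing_of_isDomain_of_isLocalization S Aₛ (FractionRing A)
  have hinjAB : Function.Injective (algebraMap A B) := FaithfulSMul.algebraMap_injective A B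
  have hunitB : ∀ m : Algebra.algebraMapSubmonoid B S,
      IsUnit (algebraMap B (FractionRing B) (m : B)) := by
    rintro ⟨m, s, hs, rfl⟩
    refine IsUnit.mk0 _ ?_
    have h1 : (s : A) ≠ 0 := nonZeroDivisors.ne_zero (hS hs)
    exact (map_ne_zero_iff _ (IsFractionRing.injective B (FractionRing B))).mpr
      ((map_ne_zero_iff _ hinjAB).mpr h1)
  letI algBsL : Algebra Bₛ (FractionRing B) :=
    (IsLocalization.lift (M := Algebra.algebraMapSubmonoid B S)
      (g := algebraMap B (FractionRing B)) hunitB).toAlgebra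
  haveI : IsScalarTower B Bₛ (FractionRing B) :=
    .of_algebraMap_eq fun a => (IsLocalization.lift_eq hunitB a).symm
  haveI : IsFractionRing Bₛ (FractionRing B) :=
    IsFractionRing.isFractionRing_of_isDomain_of_isLocalization
      (Algebra.algebraMapSubmonoid B S) Bₛ (FractionRing B)
  letI algAsL : Algebra Aₛ (FractionRing B) :=
    ((algebraMap (FractionRing A) (FractionRing B)).comp
      (algebraMap Aₛ (FractionRing A))).toAlgebra
  haveI : IsScalarTower Aₛ (FractionRing A) (FractionRing B) := .of_algebraMap_eq fun _ => rfl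
  haveI : IsScalarTower Aₛ Bₛ (FractionRing B) := by
    refine .of_algebraMap_eq fun x => ?_
    have h : (algebraMap Aₛ (FractionRing B)) =
        (algebraMap Bₛ (FractionRing B)).comp (algebraMap Aₛ Bₛ) := by
      apply IsLocalization.ringHom_ext S
      ext a
      simp only [RingHom.comp_apply]
      rw [← IsScalarTower.algebraMap_apply A Aₛ Bₛ, IsScalarTower.algebraMap_apply A B Bₛ,
        ← IsScalarTower.algebraMap_apply B Bₛ (FractionRing B),
        ← IsScalarTower.algebraMap_apply A B (FractionRing B)]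
      show algebraMap (FractionRing A) (FractionRing B)
        (algebraMap Aₛ (FractionRing A) (algebraMap A Aₛ a)) = _
      rw [← IsScalarTower.algebraMap_apply A Aₛ (FractionRing A),
        ← IsScalarTower.algebraMap_apply A (FractionRing A) (FractionRing B)]
    rw [h]; rfl
  haveI : Module.Finite Aₛ Bₛ := Module.Finite.of_isLocalization A B S
  haveI : IsIntegralClosure Bₛ Aₛ (FractionRing B) :=
    IsIntegralClosure.of_isIntegrallyClosed _ _ _
  exact gen A B (FractionRing A) (FractionRing B) S Aₛ Bₛ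

end Groth.Agent.Lib.DiffLocH1
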