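import Mathlib
import Groth.Prelude

/-!
# Local (affine) structure of the infinitesimal neighbourhoods of the diagonal (helper7)
APPEND-ONLY once landed.
-/

set_option autoImplicit false
set_option linter.style.haveILetI false

universe u

noncomputable section

open CategoryTheory CategoryTheory.Limits AlgebraicGeometry Opposite TopologicalSpace

namespace Groth.Agent.Lib.PPAffH7

open PrinPart

section Alg

open TensorProduct

/-- Pure algebra: the quotient of a pushout `B ⊗_A B` by the `(n+1)`-st power of the kernel of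
the codiagonal, in abstract form. -/
theorem alg_exists {A B : Type u} [CommRing A] [CommRing B] [Algebra A B]
    {RC Q : CommRingCat.{u}} (j1 j2 : CommRingCat.of B ⟶ RC)
    (hpo : IsPushout (CommRingCat.ofHom (algebraMap A B)) (CommRingCat.ofHom (algebraMap A B))
      j1 j2)
    (ε : RC ⟶ CommRingCat.of B) (h1 : ∀ b : B, ε.hom (j1.hom b) = b)
    (h2 : ∀ b : B, ε.hom (j2.hom b) = b)
    (ν : RC ⟶ Q) (hν : Function.Surjective ν.hom) (n : ℕ)
    (hker : RingHom.ker ν.hom = (RingHom.ker ε.hom) ^ (n + 1)) :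
    ∃ μ : B ⊗[A] B →+* Q, (∀ b b' : B, μ (b ⊗ₜ[A] b') = ν.hom (j1.hom b * j2.hom b')) ∧
      Function.Surjective μ ∧ RingHom.ker μ = KaehlerDifferential.ideal A B ^ (n + 1) := by
  let e := (CommRingCat.isPushout_tensorProduct A B B).isoIsPushout _ _ hpo
  have he1 : ∀ b : B, e.hom.hom (b ⊗ₜ[A] (1 : B)) = j1.hom b := fun b =>
    congrArg (fun k => k.hom b)
      ((CommRingCat.isPushout_tensorProduct A B B).inl_isoIsPushout_hom _ _ hpo)
  have he2 : ∀ b : B, e.hom.hom ((1 : B) ⊗ₜ[A] b) = j2.hom b := fun b =>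
    congrArg (fun k => k.hom b)
      ((CommRingCat.isPushout_tensorProduct A B B).inr_isoIsPushout_hom _ _ hpo)
  have he : ∀ b b' : B, e.hom.hom (b ⊗ₜ[A] b') = j1.hom b * j2.hom b' := by
    intro b b'
    have h : b ⊗ₜ[A] b' = (b ⊗ₜ[A] (1 : B)) * ((1 : B) ⊗ₜ[A] b') := by
      rw [Algebra.TensorProduct.tmul_mul_tmul, mul_one, one_mul]
    rw [h, map_mul, he1, he2]
  let e' : B ⊗[A] B ≃+* RC := e.commRingCatIsoToRingEquiv
  have he' : ∀ x, e' x = e.hom.hom x := fun x => rfl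
  have hεe : ∀ x, ε.hom (e' x) = Algebra.TensorProduct.lmul' A x := by
    intro x
    induction x using TensorProduct.induction_on with
    | zero => rw [map_zero, map_zero, map_zero]
    | tmul b b' => rw [he', he, map_mul, h1, h2, Algebra.TensorProduct.lmul'_apply_tmul]
    | add x y hx hy => rw [map_add, map_add, map_add, hx, hy]
  have hI : (RingHom.ker ε.hom).comap e' = KaehlerDifferential.ideal A B := by
    ext x
    rw [Ideal.mem_comap, RingHom.mem_ker, RingHom.mem_ker, hεe]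
  refine ⟨ν.hom.comp (e' : B ⊗[A] B →+* RC), ?_, ?_, ?_⟩
  · intro b b'
    show ν.hom (e' (b ⊗ₜ[A] b')) = _
    rw [he', he]
  · intro z
    obtain ⟨y, rfl⟩ := hν z
    refine ⟨e'.symm y, ?_⟩
    show ν.hom (e' (e'.symm y)) = _
    rw [RingEquiv.apply_symm_apply]
  · ext x
    rw [RingHom.mem_ker]
    show ν.hom (e' x) = 0 ↔ _
    rw [← RingHom.mem_ker, hker, ← hI]
    have hpow : ((RingHom.ker ε.hom).comap e') ^ (n + 1) =
        ((RingHom.ker ε.hom) ^ (n + 1)).comap e' := by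
      rw [← Ideal.map_symm, ← Ideal.map_symm, Ideal.map_pow]
    rw [hpow, Ideal.mem_comap]

theorem alg_main {A B : Type u} [CommRing A] [CommRing B] [Algebra A B]
    {RC Q : CommRingCat.{u}} (j1 j2 : CommRingCat.of B ⟶ RC)
    (hpo : IsPushout (CommRingCat.ofHom (algebraMap A B)) (CommRingCat.ofHom (algebraMap A B))
      j1 j2)
    (ε : RC ⟶ CommRingCat.of B) (h1 : ∀ b : B, ε.hom (j1.hom b) = b)
    (h2 : ∀ b : B, ε.hom (j2.hom b) = b)
    (ν : RC ⟶ Q) (hν : Function.Surjective ν.hom) (n : ℕ)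
    (hker : RingHom.ker ν.hom = (RingHom.ker ε.hom) ^ (n + 1))
    (ψ : B ⊗[A] B →+ Q) (hψ : ∀ b b' : B, ψ (b ⊗ₜ[A] b') = ν.hom (j1.hom b * j2.hom b')) :
    Function.Surjective ψ ∧
      ψ.ker = (KaehlerDifferential.ideal A B ^ (n + 1)).toAddSubgroup := by
  obtain ⟨μ, hμ, hs, hk⟩ := alg_exists j1 j2 hpo ε h1 h2 ν hν n hker
  have hψμ : ∀ x, ψ x = μ x := by
    intro x
    induction x using TensorProduct.induction_on with
    | zero => rw [map_zero, map_zero]
    | tmul b b' => rw [hψ, hμ]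
    | add x y hx hy => rw [map_add, map_add, hx, hy]
  refine ⟨?_, ?_⟩
  · intro z
    obtain ⟨x, rfl⟩ := hs z
    exact ⟨x, hψμ x⟩
  · ext x
    rw [AddMonoidHom.mem_ker, Submodule.mem_toAddSubgroup, hψμ, ← hk, RingHom.mem_ker]

end Alg

section Gen

theorem id_appLE' {S : Scheme.{u}} (V : S.Opens) (e : V ≤ (𝟙 S) ⁻¹ᵁ V) :
    Scheme.Hom.appLE (𝟙 S) V V e = 𝟙 _ := by
  have h0 : S.presheaf.map (homOfLE e).op = 𝟙 Γ(S, V) := S.presheaf.map_id (op V)
  have h1 : Scheme.Hom.appLE (𝟙 S) V V e = S.presheaf.map (homOfLE e).op :=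
    Category.id_comp (S.presheaf.map (homOfLE e).op)
  exact h1.trans h0

/-- For a closed immersion and an affine open of the target: the comorphism is surjective with
kernel the ideal of the immersion. -/
theorem appLE_surj_ker {Z Y : Scheme.{u}} (i : Z ⟶ Y) [IsClosedImmersion i] {O : Y.Opens}
    (hO : IsAffineOpen O) {W : Z.Opens} (hW : W = i ⁻¹ᵁ O) :
    Function.Surjective (i.appLE O W hW.le).hom ∧
      RingHom.ker (i.appLE O W hW.le).hom = i.ker.ideal ⟨O, hO⟩ := by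
  subst hW
  have e : i.appLE O (i ⁻¹ᵁ O) le_rfl = i.app O := i.appLE_eq_app
  rw [e]
  exact ⟨i.app_surjective O hO, (Scheme.Hom.ker_apply i ⟨O, hO⟩).symm⟩

end Gen

section Geom

variable {X S : Scheme.{u}} (f : X ⟶ S) (n : ℕ)

/-- The open of `X ×_S X` in which the diagonal is closed. -/
abbrev Cop : (pullback f f).Opens := (pullback.diagonal f).coborderRange

abbrev q1 : (Cop f : Scheme.{u}) ⟶ X := (Cop f).ι ≫ pullback.fst f f

abbrev q2 : (Cop f : Scheme.{u}) ⟶ X := (Cop f).ι ≫ pullback.snd f f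

/-- `U ×_S U` as an open of `X ×_S X`. -/
abbrev TT (U : X.Opens) : (pullback f f).Opens :=
  pullback.fst f f ⁻¹ᵁ U ⊓ pullback.snd f f ⁻¹ᵁ U

abbrev TC (U : X.Opens) : (Cop f : Scheme.{u}).Opens := (Cop f).ι ⁻¹ᵁ TT f U

theorem diagCl_q1 : diagCl f ≫ q1 f = 𝟙 X := by
  rw [← Category.assoc, Scheme.Hom.liftCoborder_ι, pullback.diagonal_fst]

theorem diagCl_q2 : diagCl f ≫ q2 f = 𝟙 X := by
  rw [← Category.assoc, Scheme.Hom.liftCoborder_ι, pullback.diagonal_snd]

theorem pr1_eq : pr1 f n = infNbhdι (diagCl f) n ≫ q1 f := by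
  simp only [pr1, nbhdι, Category.assoc]

theorem pr2_eq : pr2 f n = infNbhdι (diagCl f) n ≫ q2 f := by
  simp only [pr2, nbhdι, Category.assoc]

theorem fst_diag_apply (x : X) : pullback.fst f f (pullback.diagonal f x) = x := by
  rw [← Scheme.Hom.comp_apply, pullback.diagonal_fst]; rfl

theorem snd_diag_apply (x : X) : pullback.snd f f (pullback.diagonal f x) = x := by
  rw [← Scheme.Hom.comp_apply, pullback.diagonal_snd]; rfl

theorem ι_diagCl_apply (x : X) : (Cop f).ι (diagCl f x) = pullback.diagonal f x := by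
  rw [← Scheme.Hom.comp_apply, Scheme.Hom.liftCoborder_ι]

theorem diag_mem_TT {U : X.Opens} {x : X} (hx : x ∈ U) : pullback.diagonal f x ∈ TT f U := by
  refine ⟨?_, ?_⟩
  · show pullback.fst f f (pullback.diagonal f x) ∈ U
    rw [fst_diag_apply]; exact hx
  · show pullback.snd f f (pullback.diagonal f x) ∈ U
    rw [snd_diag_apply]; exact hx

theorem mem_of_diag_mem_TT {U : X.Opens} {x : X} (hx : pullback.diagonal f x ∈ TT f U) :
    x ∈ U := by
  have h : pullback.fst f f (pullback.diagonal f x) ∈ U := hx.1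
  rwa [fst_diag_apply] at h

variable {f}
variable {U : X.Opens} {V : S.Opens}

theorem isAffineOpen_TT (hU : IsAffineOpen U) (hV : IsAffineOpen V) (hUV : U ≤ f ⁻¹ᵁ V) :
    IsAffineOpen (TT f U) := by
  haveI : IsAffine (↑V : Scheme.{u}) := hV
  haveI : IsAffine (↑U : Scheme.{u}) := hU
  exact IsAffine.of_isIso
    (Scheme.Hom.isPullback_resLE (IsPullback.of_hasPullback f f) hUV hUV rfl).isoPullback.hom

theorem isPushout_TT (hU : IsAffineOpen U) (hV : IsAffineOpen V) (hUV : U ≤ f ⁻¹ᵁ V) :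
    IsPushout (f.appLE V U hUV) (f.appLE V U hUV)
      ((pullback.fst f f).appLE U (TT f U) inf_le_left)
      ((pullback.snd f f).appLE U (TT f U) inf_le_right) :=
  (isIso_pushoutSection_iff (IsPullback.of_hasPullback f f) hUV hUV rfl).mp
    (isIso_pushoutSection_of_isAffineOpen (IsPullback.of_hasPullback f f) hUV hUV rfl hV hU hU)

theorem TT_le_Cop (hU : IsAffineOpen U) (hV : IsAffineOpen V) (hUV : U ≤ f ⁻¹ᵁ V) :
    TT f U ≤ Cop f := by
  have hT : IsAffineOpen (TT f U) := isAffineOpen_TT hU hV hUV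
  have hΔU : U ≤ pullback.diagonal f ⁻¹ᵁ TT f U := fun x hx => diag_mem_TT f hx
  let g : (U : Scheme.{u}) ⟶ (TT f U : Scheme.{u}) :=
    (pullback.diagonal f).resLE (TT f U) U hΔU
  let r : (TT f U : Scheme.{u}) ⟶ (U : Scheme.{u}) :=
    (pullback.fst f f).resLE U (TT f U) inf_le_left
  have hgr : g ≫ r = 𝟙 _ := by
    rw [← cancel_mono U.ι]
    simp [g, r]
  haveI : IsAffine (U : Scheme.{u}) := hU
  haveI : IsAffine (TT f U : Scheme.{u}) := hT
  haveI : IsClosedImmersion (g ≫ r) := by rw [hgr]; infer_instance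
  haveI : IsClosedImmersion g := IsClosedImmersion.of_comp g r
  have hgι : ∀ y, (TT f U).ι (g y) = pullback.diagonal f (U.ι y) := by
    intro y
    rw [← Scheme.Hom.comp_apply, Scheme.Hom.resLE_comp_ι, Scheme.Hom.comp_apply]
  intro z hz
  show z ∈ coborder (Set.range (pullback.diagonal f))
  rw [coborder_eq_union_closure_compl]
  by_cases hcl : z ∈ closure (Set.range (pullback.diagonal f))
  · left
    have h1 : z ∈ closure ((SetLike.coe (TT f U)) ∩
        Set.range (pullback.diagonal f)) :=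
      (TT f U).isOpen.inter_closure ⟨hz, hcl⟩
    have h2 : (SetLike.coe (TT f U)) ∩
        Set.range (pullback.diagonal f) ⊆ (TT f U).ι '' (Set.range g) := by
      rintro _ ⟨hzT, x, rfl⟩
      have hxU : x ∈ U := mem_of_diag_mem_TT f hzT
      exact ⟨g ⟨x, hxU⟩, ⟨⟨x, hxU⟩, rfl⟩, hgι ⟨x, hxU⟩⟩
    have h3 : IsClosed (Set.range g) := g.isClosedEmbedding.isClosed_range
    have h4 : (⟨z, hz⟩ : (TT f U : Scheme.{u})) ∈ closure (Set.range g) := by
      rw [(TT f U).ι.isOpenEmbedding.isInducing.closure_eq_preimage_closure_image]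
      exact closure_mono h2 h1
    rw [h3.closure_eq] at h4
    obtain ⟨y, hy⟩ := h4
    refine ⟨U.ι y, ?_⟩
    rw [← hgι, hy]
    rfl
  · right; exact hcl

theorem isAffineOpen_TC (hU : IsAffineOpen U) (hV : IsAffineOpen V) (hUV : U ≤ f ⁻¹ᵁ V) :
    IsAffineOpen (TC f U) :=
  (isAffineOpen_TT hU hV hUV).preimage_of_isOpenImmersion (Cop f).ι
    (by rw [Scheme.Opens.opensRange_ι]; exact TT_le_Cop hU hV hUV)

variable (f) in
theorem TC_le1 (U : X.Opens) : TC f U ≤ q1 f ⁻¹ᵁ U := fun _ hy => hy.1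

variable (f) in
theorem TC_le2 (U : X.Opens) : TC f U ≤ q2 f ⁻¹ᵁ U := fun _ hy => hy.2

theorem isPushout_TC (hU : IsAffineOpen U) (hV : IsAffineOpen V) (hUV : U ≤ f ⁻¹ᵁ V) :
    IsPushout (f.appLE V U hUV) (f.appLE V U hUV)
      ((q1 f).appLE U (TC f U) (TC_le1 f U)) ((q2 f).appLE U (TC f U) (TC_le2 f U)) := by
  have hle : TT f U ≤ (Cop f).ι.opensRange := by
    rw [Scheme.Opens.opensRange_ι]; exact TT_le_Cop hU hV hUV
  haveI : IsIso ((Cop f).ι.app (TT f U)) := (Cop f).ι.isIso_app _ hle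
  refine (isPushout_TT hU hV hUV).of_iso (Iso.refl _) (Iso.refl _) (Iso.refl _)
    (asIso ((Cop f).ι.app (TT f U))) ?_ ?_ ?_ ?_
  · simp only [Iso.refl_hom, Category.comp_id, Category.id_comp]
  · simp only [Iso.refl_hom, Category.comp_id, Category.id_comp]
  · show (pullback.fst f f).appLE U (TT f U) inf_le_left ≫ (Cop f).ι.app (TT f U) = 𝟙 _ ≫ _
    rw [Category.id_comp, Scheme.Hom.app_eq_appLE, Scheme.Hom.appLE_comp_appLE]
  · show (pullback.snd f f).appLE U (TT f U) inf_le_right ≫ (Cop f).ι.app (TT f U) = 𝟙 _ ≫ _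
    rw [Category.id_comp, Scheme.Hom.app_eq_appLE, Scheme.Hom.appLE_comp_appLE]

variable (f)

theorem le_diagCl_preimage (U : X.Opens) : U ≤ diagCl f ⁻¹ᵁ TC f U := by
  intro x hx
  show (Cop f).ι (diagCl f x) ∈ TT f U
  rw [ι_diagCl_apply]; exact diag_mem_TT f hx

theorem diagCl_preimage_eq (U : X.Opens) : U = diagCl f ⁻¹ᵁ TC f U := by
  apply le_antisymm (le_diagCl_preimage f U)
  intro x hx
  have h : (Cop f).ι (diagCl f x) ∈ TT f U := hx
  rw [ι_diagCl_apply] at h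
  exact mem_of_diag_mem_TT f h

theorem j1_eps (U : X.Opens) :
    (q1 f).appLE U (TC f U) (TC_le1 f U) ≫
      (diagCl f).appLE (TC f U) U (le_diagCl_preimage f U) = 𝟙 _ := by
  rw [Scheme.Hom.appLE_comp_appLE]
  exact (OmegaSh.appLE_congr_hom (diagCl_q1 f) _ le_rfl).trans (id_appLE' U _)

theorem j2_eps (U : X.Opens) :
    (q2 f).appLE U (TC f U) (TC_le2 f U) ≫
      (diagCl f).appLE (TC f U) U (le_diagCl_preimage f U) = 𝟙 _ := by
  rw [Scheme.Hom.appLE_comp_appLE]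
  exact (OmegaSh.appLE_congr_hom (diagCl_q2 f) _ le_rfl).trans (id_appLE' U _)

theorem pr1_apply_eq (y : nbhd f n) :
    pr1 f n y = pullback.fst f f ((Cop f).ι (infNbhdι (diagCl f) n y)) := by
  rw [pr1_eq]; rfl

theorem pr2_apply_eq (y : nbhd f n) :
    pr2 f n y = pullback.snd f f ((Cop f).ι (infNbhdι (diagCl f) n y)) := by
  rw [pr2_eq]; rfl

theorem pr1_preimage_eq (U : X.Opens) :
    pr1 f n ⁻¹ᵁ U = infNbhdι (diagCl f) n ⁻¹ᵁ TC f U := by
  apply le_antisymm
  · intro y hy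
    have h1 : pr1 f n y ∈ U := hy
    have h2 : pr2 f n y ∈ U := by rw [← pr1_apply]; exact h1
    rw [pr1_apply_eq] at h1
    rw [pr2_apply_eq] at h2
    exact ⟨h1, h2⟩
  · intro y hy
    show pr1 f n y ∈ U
    rw [pr1_apply_eq]
    exact hy.1

instance isClosedImmersion_infNbhdι {Y Z : Scheme.{u}} (i : Y ⟶ Z) [IsClosedImmersion i] (m : ℕ) :
    IsClosedImmersion (infNbhdι i m) := by
  rw [infNbhdι]; infer_instance

theorem ker_infNbhdι {Y Z : Scheme.{u}} (i : Y ⟶ Z) [IsClosedImmersion i] (m : ℕ) :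
    (infNbhdι i m).ker = i.ker ^ (m + 1) := by
  rw [infNbhdι]; exact Scheme.IdealSheafData.ker_subschemeι _

variable {f}

/-- The local structure of the `n`-th infinitesimal neighbourhood of the diagonal over a pair of
affine opens `U ⊆ f⁻¹ V`. -/
theorem geom (hU : IsAffineOpen U) (hV : IsAffineOpen V) (hUV : U ≤ f ⁻¹ᵁ V) :
    ∃ (RC : CommRingCat.{u}) (j1 j2 : Γ(X, U) ⟶ RC) (ε : RC ⟶ Γ(X, U))
      (ν : RC ⟶ Γ(nbhd f n, pr1 f n ⁻¹ᵁ U)),
      IsPushout (f.appLE V U hUV) (f.appLE V U hUV) j1 j2 ∧ j1 ≫ ε = 𝟙 _ ∧ j2 ≫ ε = 𝟙 _ ∧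
      Function.Surjective ν.hom ∧ RingHom.ker ν.hom = RingHom.ker ε.hom ^ (n + 1) ∧
      j1 ≫ ν = (pr1 f n).appLE U (pr1 f n ⁻¹ᵁ U) le_rfl ∧
      j2 ≫ ν = (pr2 f n).appLE U (pr1 f n ⁻¹ᵁ U) (preimage_pr1 f n U).le := by
  have hTC : IsAffineOpen (TC f U) := isAffineOpen_TC hU hV hUV
  obtain ⟨hν1, hν2⟩ := appLE_surj_ker (infNbhdι (diagCl f) n) hTC (pr1_preimage_eq f n U)
  obtain ⟨-, hε2⟩ := appLE_surj_ker (diagCl f) hTC (diagCl_preimage_eq f U)
  refine ⟨Γ((Cop f : Scheme.{u}), TC f U), (q1 f).appLE U (TC f U) (TC_le1 f U),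
    (q2 f).appLE U (TC f U) (TC_le2 f U),
    (diagCl f).appLE (TC f U) U (le_diagCl_preimage f U),
    (infNbhdι (diagCl f) n).appLE (TC f U) (pr1 f n ⁻¹ᵁ U) (pr1_preimage_eq f n U).le,
    isPushout_TC hU hV hUV, j1_eps f U, j2_eps f U, hν1, ?_, ?_, ?_⟩
  · rw [hν2, hε2, ker_infNbhdι]
    rfl
  · rw [Scheme.Hom.appLE_comp_appLE]
    exact OmegaSh.appLE_congr_hom (pr1_eq f n).symm _ _
  · rw [Scheme.Hom.appLE_comp_appLE]
    exact OmegaSh.appLE_congr_hom (pr2_eq f n).symm _ _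

end Geom

end Groth.Agent.Lib.PPAffH7
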