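import Mathlib
import Groth.Prelude
import Groth.Agent.Lib.PPAff1_helper7
import Groth.Agent.Lib.PB9_helper8

/-!
# Affine description of the sheaves of principal parts `P^n_{X/S}` (helper7)
APPEND-ONLY once landed.
-/

set_option autoImplicit false
set_option linter.style.haveILetI false

universe u

noncomputable section

open CategoryTheory CategoryTheory.Limits AlgebraicGeometry Opposite TopologicalSpace

namespace Groth.Agent.Lib.PPAffH7

open PrinPart

section Trans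

theorem app_naturality' {X : Scheme.{u}} {M N : X.Modules} (φ : M ⟶ N) {U V : X.Opens}
    (i : V ⟶ U) (m : Γ(M, U)) :
    φ.app V (M.presheaf.map i.op m) = N.presheaf.map i.op (φ.app U m) := by
  have := congrArg (fun ψ => ψ.hom m) (φ.mapPresheaf.naturality i.op)
  exact this

theorem pullbackUnitIso_pullSect {X' X : Scheme.{u}} (h : X' ⟶ X) (U : X.Opens) (b : Γ(X, U)) :
    (PBH8.pullbackUnitIso h).hom.app (h ⁻¹ᵁ U)
      (OmegaSh.pullSect h (Coh.structureModule X) U (OmegaSh.strSect X U b)) =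
    OmegaSh.strSect X' (h ⁻¹ᵁ U) (h.app U b) := by
  have key := SheafOfModules.pullbackPushforwardAdjunction_homEquiv_pullbackObjUnitToUnit.{u}
    h.toRingCatSheafHom
  rw [Adjunction.homEquiv_unit] at key
  exact congrArg (fun (φ : Coh.structureModule X ⟶
    (Scheme.Modules.pushforward h).obj (Coh.structureModule X')) =>
      (Scheme.Modules.Hom.app φ U) b) key

variable {X S : Scheme.{u}} (f : X ⟶ S) (n : ℕ)

/-- Sections of `P^n_{X/S}` over `U` are the functions on the preimage of `U` in the `n`-th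
infinitesimal neighbourhood of the diagonal. -/
def thetaP (U : X.Opens) : Γ(P f n, U) ≃+ Γ(nbhd f n, pr1 f n ⁻¹ᵁ U) where
  toFun x := OmegaSh.fnSect _ _ ((PBH8.pullbackUnitIso (pr2 f n)).hom.app (pr1 f n ⁻¹ᵁ U) x)
  invFun y := (PBH8.pullbackUnitIso (pr2 f n)).inv.app (pr1 f n ⁻¹ᵁ U)
    (OmegaSh.strSect _ _ y)
  left_inv x := by
    show ((PBH8.pullbackUnitIso (pr2 f n)).hom.app (pr1 f n ⁻¹ᵁ U) ≫
      (PBH8.pullbackUnitIso (pr2 f n)).inv.app (pr1 f n ⁻¹ᵁ U)) x = x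
    rw [← Scheme.Modules.Hom.comp_app, Iso.hom_inv_id, Scheme.Modules.Hom.id_app]
    rfl
  right_inv y := by
    show ((PBH8.pullbackUnitIso (pr2 f n)).inv.app (pr1 f n ⁻¹ᵁ U) ≫
      (PBH8.pullbackUnitIso (pr2 f n)).hom.app (pr1 f n ⁻¹ᵁ U)) y = y
    rw [← Scheme.Modules.Hom.comp_app, Iso.inv_hom_id, Scheme.Modules.Hom.id_app]
    rfl
  map_add' x y :=
    map_add ((OmegaSh.fnSect (nbhd f n) (pr1 f n ⁻¹ᵁ U)).comp
      ((PBH8.pullbackUnitIso (pr2 f n)).hom.app (pr1 f n ⁻¹ᵁ U)).hom) x y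

theorem thetaP_smul (U : X.Opens) (b : Γ(X, U)) (x : Γ(P f n, U)) :
    thetaP f n U (b • x) = (pr1 f n).app U b * thetaP f n U x := by
  let M := (Scheme.Modules.pullback (pr2 f n)).obj (Coh.structureModule X)
  let W := pr1 f n ⁻¹ᵁ U
  let x' : Γ(M, W) := x
  have h1 : (PBH8.pullbackUnitIso (pr2 f n)).hom.app W (((pr1 f n).app U).hom b • x') =
      ((pr1 f n).app U).hom b • (PBH8.pullbackUnitIso (pr2 f n)).hom.app W x' :=
    Scheme.Modules.Hom.app_smul _ _ _
  exact congrArg (OmegaSh.fnSect _ _) h1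

theorem thetaP_dn (U : X.Opens) (b' : Γ(X, U)) :
    thetaP f n U (dn f n U b') =
      (pr2 f n).appLE U (pr1 f n ⁻¹ᵁ U) (preimage_pr1 f n U).le b' := by
  let i : pr1 f n ⁻¹ᵁ U ⟶ pr2 f n ⁻¹ᵁ U := homOfLE (preimage_pr1 f n U).le
  have h0 : dn f n U b' =
      ((Scheme.Modules.pullback (pr2 f n)).obj (Coh.structureModule X)).presheaf.map i.op
        (OmegaSh.pullSect (pr2 f n) (Coh.structureModule X) U (OmegaSh.strSect X U b')) := rfl
  have h1 := app_naturality' (PBH8.pullbackUnitIso (pr2 f n)).hom i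
    (OmegaSh.pullSect (pr2 f n) (Coh.structureModule X) U (OmegaSh.strSect X U b'))
  rw [pullbackUnitIso_pullSect] at h1
  show OmegaSh.fnSect _ _
    ((PBH8.pullbackUnitIso (pr2 f n)).hom.app (pr1 f n ⁻¹ᵁ U) (dn f n U b')) = _
  rw [h0, h1]
  rfl

end Trans

section Main

open TensorProduct

variable {X S : Scheme.{u}} (f : X ⟶ S) (n : ℕ) {U : X.Opens} {V : S.Opens}

theorem main_affine (hU : IsAffineOpen U) (hV : IsAffineOpen V) (hUV : U ≤ f ⁻¹ᵁ V)
    (A B : Type u) [CommRing A] [CommRing B] [Algebra A B]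
    (a : CommRingCat.of A ≅ Γ(S, V)) (α : CommRingCat.of B ≅ Γ(X, U))
    (hcompat : CommRingCat.ofHom (algebraMap A B) ≫ α.hom = a.hom ≫ f.appLE V U hUV)
    (ψ : B ⊗[A] B →+ Γ(P f n, U))
    (hψ : ∀ b b' : B, ψ (b ⊗ₜ[A] b') = α.hom b • dn f n U (α.hom b')) :
    Function.Surjective ψ ∧
      ψ.ker = (KaehlerDifferential.ideal A B ^ (n + 1)).toAddSubgroup := by
  obtain ⟨RC, j1, j2, ε, ν, hpo, h1, h2, hνs, hνk, hj1, hj2⟩ := geom (f := f) n hU hV hUV
  have hpo' : IsPushout (CommRingCat.ofHom (algebraMap A B))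
      (CommRingCat.ofHom (algebraMap A B)) (α.hom ≫ j1) (α.hom ≫ j2) :=
    hpo.of_iso' a α α (Iso.refl _) hcompat.symm hcompat.symm (by simp) (by simp)
  have hε1 : ∀ b : B, (ε ≫ α.inv).hom ((α.hom ≫ j1).hom b) = b := by
    intro b
    have h : (α.hom ≫ j1) ≫ (ε ≫ α.inv) = 𝟙 _ := by
      rw [Category.assoc, ← Category.assoc j1, h1, Category.id_comp, Iso.hom_inv_id]
    exact congrArg (fun k => k.hom b) h
  have hε2 : ∀ b : B, (ε ≫ α.inv).hom ((α.hom ≫ j2).hom b) = b := by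
    intro b
    have h : (α.hom ≫ j2) ≫ (ε ≫ α.inv) = 𝟙 _ := by
      rw [Category.assoc, ← Category.assoc j2, h2, Category.id_comp, Iso.hom_inv_id]
    exact congrArg (fun k => k.hom b) h
  have hk : RingHom.ker ν.hom = RingHom.ker (ε ≫ α.inv).hom ^ (n + 1) := by
    have h : RingHom.ker (ε ≫ α.inv).hom = RingHom.ker ε.hom := by
      ext x
      rw [RingHom.mem_ker, RingHom.mem_ker]
      show α.inv.hom (ε.hom x) = 0 ↔ _
      constructor
      · intro hx
        have h3 := congrArg α.hom.hom hx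
        rw [map_zero] at h3
        have e2 : α.hom.hom (α.inv.hom (ε.hom x)) = ε.hom x :=
          congrArg (fun k => k.hom (ε.hom x)) α.inv_hom_id
        rw [e2] at h3
        exact h3
      · intro hx
        rw [hx, map_zero]
    rw [h, hνk]
  let ψ' : B ⊗[A] B →+ Γ(nbhd f n, pr1 f n ⁻¹ᵁ U) := (thetaP f n U).toAddMonoidHom.comp ψ
  have hψ' : ∀ b b' : B,
      ψ' (b ⊗ₜ[A] b') = ν.hom ((α.hom ≫ j1).hom b * (α.hom ≫ j2).hom b') := by
    intro b b'
    show thetaP f n U (ψ (b ⊗ₜ[A] b')) = _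
    rw [hψ, thetaP_smul, thetaP_dn, map_mul]
    have e1 : ν.hom ((α.hom ≫ j1).hom b) = (pr1 f n).app U (α.hom b) :=
      congrArg (fun k => k.hom (α.hom.hom b)) (hj1.trans (pr1 f n).appLE_eq_app)
    have e2 : ν.hom ((α.hom ≫ j2).hom b') =
        (pr2 f n).appLE U (pr1 f n ⁻¹ᵁ U) (preimage_pr1 f n U).le (α.hom b') :=
      congrArg (fun k => k.hom (α.hom.hom b')) hj2
    rw [e1, e2]
  obtain ⟨hs, hker⟩ := alg_main (α.hom ≫ j1) (α.hom ≫ j2) hpo' (ε ≫ α.inv) hε1 hε2 ν hνs n hk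
    ψ' hψ'
  refine ⟨?_, ?_⟩
  · intro z
    obtain ⟨x, hx⟩ := hs (thetaP f n U z)
    exact ⟨x, (thetaP f n U).injective hx⟩
  · rw [← hker]
    ext x
    rw [AddMonoidHom.mem_ker, AddMonoidHom.mem_ker]
    show ψ x = 0 ↔ thetaP f n U (ψ x) = 0
    rw [AddEquiv.map_eq_zero_iff]

theorem main5972 (A B : Type u) [CommRing A] [CommRing B] [Algebra A B] (n : ℕ)
    (ψ : TensorProduct A B B →+
      Γ(PrinPart.P (Spec.map (CommRingCat.ofHom (algebraMap A B))) n,
        (⊤ : (Spec (CommRingCat.of B)).Opens)))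
    (hψ : ∀ b b' : B, ψ (b ⊗ₜ[A] b') =
      (Scheme.ΓSpecIso (CommRingCat.of B)).inv b •
        PrinPart.dn (Spec.map (CommRingCat.ofHom (algebraMap A B))) n ⊤
          ((Scheme.ΓSpecIso (CommRingCat.of B)).inv b')) :
    Function.Surjective ψ ∧
      ψ.ker = (KaehlerDifferential.ideal A B ^ (n + 1)).toAddSubgroup := by
  have hUV : (⊤ : (Spec (CommRingCat.of B)).Opens) ≤
      (Spec.map (CommRingCat.ofHom (algebraMap A B))) ⁻¹ᵁ
        (⊤ : (Spec (CommRingCat.of A)).Opens) := fun _ _ => trivial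
  refine main_affine (Spec.map (CommRingCat.ofHom (algebraMap A B))) n
    (isAffineOpen_top _) (isAffineOpen_top _) hUV A B
    (Scheme.ΓSpecIso (CommRingCat.of A)).symm (Scheme.ΓSpecIso (CommRingCat.of B)).symm ?_ ψ hψ
  have e : (Spec.map (CommRingCat.ofHom (algebraMap A B))).appLE ⊤ ⊤ hUV =
      (Spec.map (CommRingCat.ofHom (algebraMap A B))).appTop := by
    simp [Scheme.Hom.appLE, Scheme.Hom.appTop]
  rw [Iso.symm_hom, Iso.symm_hom, e]
  exact Scheme.ΓSpecIso_inv_naturality _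

theorem gen_nbhd (hU : IsAffineOpen U) (hV : IsAffineOpen V) (hUV : U ≤ f ⁻¹ᵁ V)
    (z : Γ(nbhd f n, pr1 f n ⁻¹ᵁ U)) :
    z ∈ AddSubgroup.closure {w | ∃ b b' : Γ(X, U), w = (pr1 f n).app U b *
      (pr2 f n).appLE U (pr1 f n ⁻¹ᵁ U) (preimage_pr1 f n U).le b'} := by
  obtain ⟨RC, j1, j2, ε, ν, hpo, h1, h2, hνs, hνk, hj1, hj2⟩ := geom (f := f) n hU hV hUV
  letI : Algebra Γ(S, V) Γ(X, U) := (f.appLE V U hUV).hom.toAlgebra
  obtain ⟨μ, hμ, hs, -⟩ := alg_exists (A := Γ(S, V)) (B := Γ(X, U)) j1 j2 hpo ε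
    (fun b => congrArg (fun k => k.hom b) h1) (fun b => congrArg (fun k => k.hom b) h2)
    ν hνs n hνk
  obtain ⟨t, rfl⟩ := hs z
  induction t using TensorProduct.induction_on with
  | zero => rw [map_zero]; exact zero_mem _
  | tmul b b' =>
    apply AddSubgroup.subset_closure
    refine ⟨b, b', ?_⟩
    rw [hμ, map_mul]
    have e1 : ν.hom (j1.hom b) = (pr1 f n).app U b :=
      congrArg (fun k => k.hom b) (hj1.trans (pr1 f n).appLE_eq_app)
    have e2 : ν.hom (j2.hom b') =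
        (pr2 f n).appLE U (pr1 f n ⁻¹ᵁ U) (preimage_pr1 f n U).le b' :=
      congrArg (fun k => k.hom b') hj2
    rw [e1, e2]
  | add x y hx hy => rw [map_add]; exact add_mem hx hy

/-- `P^n_{X/S}` is generated, as a left `O_X`-module, by the `d^n b`, over affine opens mapping
into affine opens of the base. -/
theorem gen_P (hU : IsAffineOpen U) (hV : IsAffineOpen V) (hUV : U ≤ f ⁻¹ᵁ V)
    (z : Γ(P f n, U)) : z ∈ Submodule.span Γ(X, U) (Set.range (dn f n U)) := by
  have key : ∀ w ∈ AddSubgroup.closure {w | ∃ b b' : Γ(X, U), w = (pr1 f n).app U b *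
      (pr2 f n).appLE U (pr1 f n ⁻¹ᵁ U) (preimage_pr1 f n U).le b'},
      (thetaP f n U).symm w ∈ Submodule.span Γ(X, U) (Set.range (dn f n U)) := by
    intro w hw
    induction hw using AddSubgroup.closure_induction with
    | mem w hw =>
      obtain ⟨b, b', rfl⟩ := hw
      have h : (thetaP f n U).symm ((pr1 f n).app U b *
          (pr2 f n).appLE U (pr1 f n ⁻¹ᵁ U) (preimage_pr1 f n U).le b') = b • dn f n U b' := by
        rw [AddEquiv.symm_apply_eq, thetaP_smul, thetaP_dn]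
      rw [h]
      exact Submodule.smul_mem _ _ (Submodule.subset_span ⟨b', rfl⟩)
    | zero => rw [map_zero]; exact zero_mem _
    | add x y _ _ hx hy => rw [map_add]; exact add_mem hx hy
    | neg x _ hx => rw [map_neg]; exact neg_mem hx
  have h := key _ (gen_nbhd f n hU hV hUV (thetaP f n U z))
  rwa [AddEquiv.symm_apply_apply] at h

end Main

end Groth.Agent.Lib.PPAffH7
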