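import Mathlib
import Groth.Prelude.Def_OmegaPn
import Groth.Agent.Lib.PB7_helper8
import Groth.Agent.Lib.QcqsLoc_helper9

set_option autoImplicit false
set_option linter.unusedSimpArgs false
set_option linter.unusedVariables false
set_option linter.unusedSectionVars false
set_option linter.style.longLine false
set_option linter.unnecessarySimpa false
set_option linter.deprecated false
set_option linter.style.haveILetI false
set_option maxHeartbeats 1600000
set_option backward.isDefEq.respectTransparency false
set_option backward.isDefEq.respectTransparency.types false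
set_option backward.defeqAttrib.useBackward true

open CategoryTheory AlgebraicGeometry Topology CategoryTheory.Limits

universe u

noncomputable section

namespace Groth.Agent.Lib.PnQCohL

open PrinPart

variable {X S : Scheme.{u}} (f : X ⟶ S) (n : ℕ)

lemma pr1_toNbhd_apply (y : X) : pr1 f n (toNbhd f n y) = y := by
  rw [← Scheme.Hom.comp_apply, toNbhd_pr1]; rfl

lemma toNbhd_surj : Function.Surjective (toNbhd f n) :=
  toInfNbhd_surjective (diagCl f) n

lemma preimage_eq_image (U : Set X) : (pr1 f n) ⁻¹' U = (toNbhd f n) '' U := by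
  ext x
  constructor
  · intro hx
    obtain ⟨y, rfl⟩ := toNbhd_surj f n x
    refine ⟨y, ?_, rfl⟩
    have : pr1 f n (toNbhd f n y) ∈ U := hx
    rwa [pr1_toNbhd_apply] at this
  · rintro ⟨y, hy, rfl⟩
    show pr1 f n (toNbhd f n y) ∈ U
    rwa [pr1_toNbhd_apply]

lemma toNbhd_isEmbedding : IsEmbedding (toNbhd f n) :=
  Function.LeftInverse.isEmbedding (f := pr1 f n) (g := toNbhd f n)
    (fun y => pr1_toNbhd_apply f n y) (pr1 f n).continuous (toNbhd f n).continuous

instance quasiCompact_pr1 : QuasiCompact (pr1 f n) :=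
  ⟨fun U hU hUc => by
    rw [preimage_eq_image]
    exact hUc.image (toNbhd f n).continuous⟩

instance quasiSeparated_pr1 : QuasiSeparated (pr1 f n) := by
  rw [HasAffineProperty.eq_targetAffineLocally (P := @QuasiSeparated)]
  intro U
  show QuasiSeparatedSpace ↥((pr1 f n) ⁻¹ᵁ U.1)
  refine (isQuasiSeparated_iff_quasiSeparatedSpace
    (((pr1 f n) ⁻¹ᵁ U.1 : (nbhd f n).Opens) : Set (nbhd f n)) ((pr1 f n) ⁻¹ᵁ U.1).isOpen).mp ?_
  have h1 : (((pr1 f n) ⁻¹ᵁ U.1 : (nbhd f n).Opens) : Set (nbhd f n))
      = (toNbhd f n) '' (U.1 : Set X) := preimage_eq_image f n _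
  rw [h1]
  exact U.2.isQuasiSeparated.image_of_isEmbedding (toNbhd_isEmbedding f n)

theorem main (F : X.Modules) (hF : Coh.IsQCoh F) : Coh.IsQCoh (PrinPart.PMod f n F) := by
  haveI : F.IsQuasicoherent := hF
  haveI : ((Scheme.Modules.pullback (pr2 f n)).obj F).IsQuasicoherent :=
    PBH8.isQuasicoherent_pullback (pr2 f n) F
  exact QcqsLoc.isQuasicoherent_pushforward_qcqs (pr1 f n) _

end Groth.Agent.Lib.PnQCohL
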