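import Mathlib
import Groth.Prelude.Def_OmegaPn

/-!
# The symmetry of the infinitesimal neighbourhoods of the diagonal (helper6)
-/

set_option autoImplicit false
universe u
open CategoryTheory CategoryTheory.Limits AlgebraicGeometry TopologicalSpace Opposite

namespace Groth.Agent.Lib.PrinPart4H6

/-- An automorphism fixing an ideal sheaf under `map` fixes its powers. -/
theorem pow_le_map_pow {C : Scheme.{u}} (s : C ⟶ C) [IsIso s] (I : C.IdealSheafData)
    (hI : I.map s = I) (k : ℕ) : I ^ k ≤ (I ^ k).map s := by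
  rw [Scheme.IdealSheafData.le_def]
  intro U
  have hV : IsAffineOpen (s ⁻¹ᵁ U.1) := U.2.preimage_of_isIso s
  rw [Scheme.IdealSheafData.ideal_map (I ^ k) s U hV]
  have h1 : I.ideal U = (I.ideal ⟨_, hV⟩).comap (s.app U).hom := by
    conv_lhs => rw [← hI]
    exact Scheme.IdealSheafData.ideal_map I s U hV
  rw [Scheme.IdealSheafData.ideal_pow, Pi.pow_apply, Pi.pow_apply, h1]
  exact Ideal.le_comap_pow _ k

variable {X S : Scheme.{u}} (f : X ⟶ S)

theorem diag_symm :
    pullback.diagonal f ≫ (pullbackSymmetry f f).hom = pullback.diagonal f := by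
  apply pullback.hom_ext <;> simp

theorem symm_symm : (pullbackSymmetry f f).hom ≫ (pullbackSymmetry f f).hom = 𝟙 _ := by
  apply pullback.hom_ext <;> simp

theorem preimage_range_diag :
    (pullbackSymmetry f f).hom ⁻¹' Set.range (pullback.diagonal f) =
      Set.range (pullback.diagonal f) := by
  ext y
  constructor
  · rintro ⟨x, hx⟩
    refine ⟨x, ?_⟩
    have h1 : (pullbackSymmetry f f).hom ((pullbackSymmetry f f).hom y) = y := by
      rw [← Scheme.Hom.comp_apply, symm_symm]
      rfl
    rw [← h1, ← hx, ← Scheme.Hom.comp_apply, diag_symm]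
  · rintro ⟨x, rfl⟩
    exact ⟨x, by rw [← Scheme.Hom.comp_apply, diag_symm]⟩

theorem symm_preimage_coborderRange :
    (pullbackSymmetry f f).hom ⁻¹ᵁ (pullback.diagonal f).coborderRange =
      (pullback.diagonal f).coborderRange := by
  ext1
  change (pullbackSymmetry f f).hom ⁻¹' coborder (Set.range (pullback.diagonal f)) =
    coborder (Set.range (pullback.diagonal f))
  have hom : IsOpenMap (pullbackSymmetry f f).hom :=
    (Scheme.homeoOfIso (pullbackSymmetry f f)).isOpenMap
  rw [← coborder_preimage hom (pullbackSymmetry f f).hom.continuous]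
  exact congrArg coborder (preimage_range_diag f)

/-- The symmetry restricted to the open `coborderRange`. -/
noncomputable def symC : ((pullback.diagonal f).coborderRange : Scheme.{u}) ⟶
    ((pullback.diagonal f).coborderRange : Scheme.{u}) :=
  IsOpenImmersion.lift (pullback.diagonal f).coborderRange.ι
    ((pullback.diagonal f).coborderRange.ι ≫ (pullbackSymmetry f f).hom) (by
      rw [Scheme.Opens.range_ι]
      rintro _ ⟨y, rfl⟩
      rw [Scheme.Hom.comp_apply]
      have hy : (pullback.diagonal f).coborderRange.ι y ∈ (pullback.diagonal f).coborderRange := by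
        have := Set.mem_range_self (f := (pullback.diagonal f).coborderRange.ι) y
        rwa [Scheme.Opens.range_ι] at this
      have h2 : (pullback.diagonal f).coborderRange.ι y ∈
          (pullbackSymmetry f f).hom ⁻¹ᵁ (pullback.diagonal f).coborderRange := by
        rw [symm_preimage_coborderRange f]
        exact hy
      exact h2)

@[reassoc]
theorem symC_ι : symC f ≫ (pullback.diagonal f).coborderRange.ι =
    (pullback.diagonal f).coborderRange.ι ≫ (pullbackSymmetry f f).hom :=
  IsOpenImmersion.lift_fac _ _ _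

theorem symC_symC : symC f ≫ symC f = 𝟙 _ := by
  rw [← cancel_mono (pullback.diagonal f).coborderRange.ι, Category.assoc, symC_ι,
    symC_ι_assoc, symm_symm, Category.comp_id, Category.id_comp]

instance : IsIso (symC f) := ⟨⟨symC f, symC_symC f, symC_symC f⟩⟩

theorem diagCl_symC : PrinPart.diagCl f ≫ symC f = PrinPart.diagCl f := by
  rw [← cancel_mono (pullback.diagonal f).coborderRange.ι, Category.assoc, symC_ι,
    Scheme.Hom.liftCoborder_ι_assoc, diag_symm, Scheme.Hom.liftCoborder_ι]

theorem ker_map_symC : (PrinPart.diagCl f).ker.map (symC f) = (PrinPart.diagCl f).ker := by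
  rw [Scheme.IdealSheafData.map_ker, diagCl_symC]

/-- The symmetry of the `n`-th infinitesimal neighbourhood of the diagonal. -/
noncomputable def sigma (n : ℕ) : PrinPart.nbhd f n ⟶ PrinPart.nbhd f n :=
  Scheme.IdealSheafData.subschemeMap _ _ (symC f)
    (pow_le_map_pow (symC f) _ (ker_map_symC f) (n + 1))

@[reassoc]
theorem sigma_infNbhdι (n : ℕ) : sigma f n ≫ PrinPart.infNbhdι (PrinPart.diagCl f) n =
    PrinPart.infNbhdι (PrinPart.diagCl f) n ≫ symC f :=
  Scheme.IdealSheafData.subschemeMap_subschemeι _ _ _ _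

@[reassoc]
theorem sigma_nbhdι (n : ℕ) : sigma f n ≫ PrinPart.nbhdι f n =
    PrinPart.nbhdι f n ≫ (pullbackSymmetry f f).hom := by
  rw [PrinPart.nbhdι, sigma_infNbhdι_assoc, symC_ι, Category.assoc]

instance (n : ℕ) : Mono (PrinPart.nbhdι f n) := by
  unfold PrinPart.nbhdι PrinPart.infNbhdι
  infer_instance

theorem sigma_sigma (n : ℕ) : sigma f n ≫ sigma f n = 𝟙 _ := by
  rw [← cancel_mono (PrinPart.nbhdι f n), Category.assoc, sigma_nbhdι, sigma_nbhdι_assoc,
    symm_symm, Category.comp_id, Category.id_comp]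

theorem sigma_pr1 (n : ℕ) : sigma f n ≫ PrinPart.pr1 f n = PrinPart.pr2 f n := by
  rw [PrinPart.pr1, sigma_nbhdι_assoc, pullbackSymmetry_hom_comp_fst, PrinPart.pr2]

theorem sigma_pr2 (n : ℕ) : sigma f n ≫ PrinPart.pr2 f n = PrinPart.pr1 f n := by
  rw [PrinPart.pr2, sigma_nbhdι_assoc, pullbackSymmetry_hom_comp_snd, PrinPart.pr1]

theorem toNbhd_sigma (n : ℕ) : PrinPart.toNbhd f n ≫ sigma f n = PrinPart.toNbhd f n := by
  rw [← cancel_mono (PrinPart.nbhdι f n), Category.assoc, sigma_nbhdι, PrinPart.toNbhd_ι_assoc,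
    diag_symm, PrinPart.toNbhd_ι]

end Groth.Agent.Lib.PrinPart4H6
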