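import Mathlib
import Groth.Prelude
import Groth.Agent.Lib.PPAff2_helper7
import Groth.Agent.Lib.PrinPart4_helper6
import Groth.Agent.Lib.StalkSky2_lead
import Groth.Agent.Lib.FLF3_helper8
import Groth.Agent.Lib.PnQCoh_lead

/-!
# Exactness of `F ↦ P^n_{X/S}(F)` when `P^n_{X/S}` is flat (helper7)
APPEND-ONLY once landed.
-/

set_option autoImplicit false
set_option linter.style.haveILetI false

universe u

noncomputable section

open CategoryTheory CategoryTheory.Limits AlgebraicGeometry Opposite TopologicalSpace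

namespace Groth.Agent.Lib.PPAffH7

open PrinPart

variable {X S : Scheme.{u}} (f : X ⟶ S) (n : ℕ)

theorem isAffineOpen_pr1_preimage {U : X.Opens} {V : S.Opens} (hU : IsAffineOpen U)
    (hV : IsAffineOpen V) (hUV : U ≤ f ⁻¹ᵁ V) : IsAffineOpen (pr1 f n ⁻¹ᵁ U) := by
  rw [pr1_preimage_eq]
  exact (isAffineOpen_TC hU hV hUV).preimage (infNbhdι (diagCl f) n)

theorem flat_pr1 (hP : FlatMod.IsFlat (P f n)) : Flat (pr1 f n) := by
  rw [HasRingHomProperty.iff_exists_appLE (P := @Flat)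
    (RingHom.Flat.stableUnderComposition.stableUnderCompositionWithLocalizationAway
      RingHom.Flat.holdsForLocalizationAway).left]
  intro x'
  obtain ⟨V, hV, hxV, -⟩ :=
    exists_isAffineOpen_mem_and_subset (x := f (pr1 f n x')) (U := ⊤) trivial
  obtain ⟨U, hU, hxU, hUV⟩ :=
    exists_isAffineOpen_mem_and_subset (x := pr1 f n x') (U := f ⁻¹ᵁ V) hxV
  have hW : IsAffineOpen (pr1 f n ⁻¹ᵁ U) := isAffineOpen_pr1_preimage f n hU hV hUV
  refine ⟨⟨U, hU⟩, ⟨pr1 f n ⁻¹ᵁ U, hW⟩, hxU, le_rfl, ?_⟩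
  have e : (pr1 f n).appLE U (pr1 f n ⁻¹ᵁ U) le_rfl = (pr1 f n).app U := (pr1 f n).appLE_eq_app
  show ((pr1 f n).appLE U (pr1 f n ⁻¹ᵁ U) le_rfl).hom.Flat
  rw [e]
  haveI : (Coh.structureModule X).IsQuasicoherent := inferInstance
  haveI : (P f n).IsQuasicoherent :=
    Groth.Agent.Lib.PnQCohL.main f n (Coh.structureModule X) inferInstance
  haveI : Module.Flat Γ(X, U) Γ(P f n, U) :=
    FLFH8.flat_sections_of_flat_stalks (P f n) hU (fun x _ => hP x)
  letI : Algebra Γ(X, U) Γ(nbhd f n, pr1 f n ⁻¹ᵁ U) := ((pr1 f n).app U).hom.toAlgebra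
  let L : Γ(P f n, U) ≃ₗ[Γ(X, U)] Γ(nbhd f n, pr1 f n ⁻¹ᵁ U) :=
    { thetaP f n U with
      map_smul' := fun b x => by
        show thetaP f n U (b • x) = ((pr1 f n).app U).hom b * thetaP f n U x
        exact thetaP_smul f n U b x }
  show Module.Flat Γ(X, U) Γ(nbhd f n, pr1 f n ⁻¹ᵁ U)
  exact Module.Flat.of_linearEquiv L.symm

theorem main5967 (hP : FlatMod.IsFlat (PrinPart.P f n)) :
    PreservesFiniteLimits
      ((Scheme.Modules.pullback (PrinPart.pr2 f n)) ⋙
        (Scheme.Modules.pushforward (PrinPart.pr1 f n))) := by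
  haveI : Flat (pr1 f n) := flat_pr1 f n hP
  haveI : IsIso (Groth.Agent.Lib.PrinPart4H6.sigma f n) :=
    ⟨Groth.Agent.Lib.PrinPart4H6.sigma f n, Groth.Agent.Lib.PrinPart4H6.sigma_sigma f n,
      Groth.Agent.Lib.PrinPart4H6.sigma_sigma f n⟩
  haveI : Flat (pr2 f n) := by
    rw [← Groth.Agent.Lib.PrinPart4H6.sigma_pr1 f n]
    infer_instance
  haveI := Groth.Agent.Lib.StalkSkyL.preservesFiniteLimits_pullback_of_flat (pr2 f n)
  infer_instance

end Groth.Agent.Lib.PPAffH7
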