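import Mathlib
import Groth.Prelude
import Groth.Agent.Lib.GlueHom_helper7
import Groth.Agent.Lib.PPAff4_helper7
import Groth.Agent.Lib.PP16_lead

/-!
# Differential operators on affine schemes from ring-level differential operators (helper7)
APPEND-ONLY once landed.
-/

set_option autoImplicit false
set_option linter.style.haveILetI false

universe u

noncomputable section

open CategoryTheory CategoryTheory.Limits AlgebraicGeometry Opposite TopologicalSpace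

namespace Groth.Agent.Lib.DiffOpAffH7

open Groth.Agent.Lib.GlueHomH7 Groth.Agent.Lib.PPAffH7 PrinPart

section Alg

open TensorProduct

theorem alg9715 {A B : Type u} [CommRing A] [CommRing B] [Algebra A B] {Q : Type u} [CommRing Q]
    (k : ℕ) (μ : B ⊗[A] B →+* Q) (hs : Function.Surjective μ)
    (hk : RingHom.ker μ = KaehlerDifferential.ideal A B ^ (k + 1))
    {M N : Type u} [AddCommGroup M] [Module A M] [Module B M] [IsScalarTower A B M]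
    [AddCommGroup N] [Module A N] [Module B N] [IsScalarTower A B N]
    {PF : Type u} [AddCommGroup PF] [Module Q PF] (c : M →+ PF)
    (hUP : ∀ (T : Type u) [AddCommGroup T] [Module Q T] (g : M →+ T),
      (∀ (b : B) (m : M), g (b • m) = μ ((1 : B) ⊗ₜ[A] b) • g m) →
      ∃ Φ : PF →+ T, (∀ (q : Q) (z : PF), Φ (q • z) = q • Φ z) ∧ ∀ m, Φ (c m) = g m)
    (D' : M →ₗ[A] N) (hD' : Diff16.IsDiffOpLE A B M N k D') :
    ∃ ub : PF →+ N, (∀ (b : B) (z : PF), ub (μ (b ⊗ₜ[A] (1 : B)) • z) = b • ub z) ∧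
      ∀ m, ub (c m) = D' m := by
  have hle : RingHom.ker μ ≤
      RingHom.ker (Ideal.Quotient.mk (KaehlerDifferential.ideal A B ^ (k + 1))) := by
    rw [Ideal.mk_ker, hk]
  let ι : Q →+* PP16.P k A B := μ.liftOfSurjective hs ⟨Ideal.Quotient.mk _, hle⟩
  have hι : ∀ x, ι (μ x) = Ideal.Quotient.mk (KaehlerDifferential.ideal A B ^ (k + 1)) x :=
    fun x => μ.liftOfSurjective_comp_apply hs ⟨Ideal.Quotient.mk _, hle⟩ x
  letI modQT : Module Q (PP16.PM k A B M) := Module.compHom (PP16.PM k A B M) ι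
  have hsm : ∀ (q : Q) (t : PP16.PM k A B M), q • t = ι q • t := fun _ _ => rfl
  obtain ⟨Φ, hΦ1, hΦ2⟩ := hUP (PP16.PM k A B M) (PP16.dM k A B M) (by
    intro b m
    rw [hsm, hι]
    have e1 : (1 : PP16.Pr k A B) ⊗ₜ[B] (b • m) = (b • (1 : PP16.Pr k A B)) ⊗ₜ[B] m :=
      (TensorProduct.smul_tmul b (1 : PP16.Pr k A B) m).symm
    have e2 : (Ideal.Quotient.mk (KaehlerDifferential.ideal A B ^ (k + 1))
        ((1 : B) ⊗ₜ[A] b) : PP16.P k A B) • ((1 : PP16.Pr k A B) ⊗ₜ[B] m) =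
        ((Ideal.Quotient.mk (KaehlerDifferential.ideal A B ^ (k + 1))
          ((1 : B) ⊗ₜ[A] b) : PP16.P k A B) • (1 : PP16.Pr k A B)) ⊗ₜ[B] m :=
      TensorProduct.smul_tmul' _ _ _
    exact e1.trans e2.symm)
  refine ⟨(Groth.Agent.Lib.PP16L.uHom k D' hD').comp Φ, fun b z => ?_, fun m => ?_⟩
  · show Groth.Agent.Lib.PP16L.uHom k D' hD' (Φ (μ (b ⊗ₜ[A] (1 : B)) • z)) =
      b • Groth.Agent.Lib.PP16L.uHom k D' hD' (Φ z)
    rw [hΦ1, hsm, hι]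
    exact Groth.Agent.Lib.PP16L.uHom_smul hD' b (Φ z)
  · show Groth.Agent.Lib.PP16L.uHom k D' hD' (Φ (c m)) = D' m
    rw [hΦ2]
    exact Groth.Agent.Lib.PP16L.uHom_dM hD' m

end Alg

section Geom

open TensorProduct

theorem main9715 {X S : Scheme.{u}} [IsAffine X] [IsAffine S] (f : X ⟶ S)
    (F G : X.Modules) (hF : Coh.IsQCoh F) (k : ℕ) :
    letI : Algebra Γ(S, ⊤) Γ(X, ⊤) := f.appTop.hom.toAlgebra
    letI : Module Γ(S, ⊤) Γ(F, ⊤) := Module.compHom Γ(F, ⊤) f.appTop.hom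
    letI : Module Γ(S, ⊤) Γ(G, ⊤) := Module.compHom Γ(G, ⊤) f.appTop.hom
    haveI : IsScalarTower Γ(S, ⊤) Γ(X, ⊤) Γ(F, ⊤) :=
      IsScalarTower.of_algebraMap_smul fun _ _ => rfl
    haveI : IsScalarTower Γ(S, ⊤) Γ(X, ⊤) Γ(G, ⊤) :=
      IsScalarTower.of_algebraMap_smul fun _ _ => rfl
    ∀ D' : Γ(F, ⊤) →ₗ[Γ(S, ⊤)] Γ(G, ⊤),
      Diff16.IsDiffOpLE Γ(S, ⊤) Γ(X, ⊤) Γ(F, ⊤) Γ(G, ⊤) k D' →
      ∃ D : F.presheaf ⟶ G.presheaf, PrinPart.IsDiffOpLE f F G k D ∧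
        ∀ m : Γ(F, ⊤), (D.app (op ⊤)).hom m = D' m := by
  intro D' hD'
  letI algI : Algebra Γ(S, ⊤) Γ(X, ⊤) := f.appTop.hom.toAlgebra
  letI modF : Module Γ(S, ⊤) Γ(F, ⊤) := Module.compHom Γ(F, ⊤) f.appTop.hom
  letI modG : Module Γ(S, ⊤) Γ(G, ⊤) := Module.compHom Γ(G, ⊤) f.appTop.hom
  haveI towF : IsScalarTower Γ(S, ⊤) Γ(X, ⊤) Γ(F, ⊤) :=
    IsScalarTower.of_algebraMap_smul fun _ _ => rfl
  haveI towG : IsScalarTower Γ(S, ⊤) Γ(X, ⊤) Γ(G, ⊤) :=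
    IsScalarTower.of_algebraMap_smul fun _ _ => rfl
  haveI qF : F.IsQuasicoherent := hF
  haveI qP : (PMod f k F).IsQuasicoherent := Groth.Agent.Lib.PnQCohL.main f k F hF
  have hU : IsAffineOpen (⊤ : X.Opens) := isAffineOpen_top X
  have hV : IsAffineOpen (⊤ : S.Opens) := isAffineOpen_top S
  have hUV : (⊤ : X.Opens) ≤ f ⁻¹ᵁ ⊤ := le_of_eq rfl
  have happ : f.appLE ⊤ ⊤ hUV = f.appTop := f.appLE_eq_app
  obtain ⟨RC, j1, j2, ε, ν, hpo, h1, h2, hνs, hνk, hj1, hj2⟩ := geom (f := f) k hU hV hUV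
  rw [happ] at hpo
  obtain ⟨μ, hμ, hs, hk⟩ := alg_exists (A := Γ(S, ⊤)) (B := Γ(X, ⊤)) j1 j2 hpo ε
    (fun b => congrArg (fun k => k.hom b) h1) (fun b => congrArg (fun k => k.hom b) h2)
    ν hνs k hνk
  have hW : IsAffineOpen (pr1 f k ⁻¹ᵁ (⊤ : X.Opens)) := isAffineOpen_pr1_preimage f k hU hV hUV
  have hle : pr1 f k ⁻¹ᵁ (⊤ : X.Opens) ≤ pr2 f k ⁻¹ᵁ ⊤ := (preimage_pr1 f k ⊤).le
  have hμ1 : ∀ b : Γ(X, ⊤), μ (b ⊗ₜ[Γ(S, ⊤)] (1 : Γ(X, ⊤))) = (pr1 f k).app ⊤ b := by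
    intro b
    rw [hμ, map_one, mul_one]
    exact congrArg (fun k => k.hom b) (hj1.trans (pr1 f k).appLE_eq_app)
  have hμ2 : ∀ b : Γ(X, ⊤), μ ((1 : Γ(X, ⊤)) ⊗ₜ[Γ(S, ⊤)] b) =
      (pr2 f k).appLE ⊤ (pr1 f k ⁻¹ᵁ ⊤) hle b := by
    intro b
    rw [hμ, map_one, one_mul]
    exact congrArg (fun k => k.hom b) hj2
  let c : Γ(F, ⊤) →+ Γ((Scheme.Modules.pullback (pr2 f k)).obj F, pr1 f k ⁻¹ᵁ (⊤ : X.Opens)) :=
    dP f k F ⊤
  have hUP : ∀ (T : Type u) [AddCommGroup T] [Module Γ(nbhd f k, pr1 f k ⁻¹ᵁ (⊤ : X.Opens)) T]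
      (g : Γ(F, ⊤) →+ T),
      (∀ (b : Γ(X, ⊤)) (m : Γ(F, ⊤)),
        g (b • m) = μ ((1 : Γ(X, ⊤)) ⊗ₜ[Γ(S, ⊤)] b) • g m) →
      ∃ Φ : Γ((Scheme.Modules.pullback (pr2 f k)).obj F, pr1 f k ⁻¹ᵁ (⊤ : X.Opens)) →+ T,
        (∀ (q : Γ(nbhd f k, pr1 f k ⁻¹ᵁ (⊤ : X.Opens)))
          (z : Γ((Scheme.Modules.pullback (pr2 f k)).obj F, pr1 f k ⁻¹ᵁ (⊤ : X.Opens))),
          Φ (q • z) = q • Φ z) ∧ ∀ m, Φ (c m) = g m := by
    intro T _ _ g hg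
    letI algQ : Algebra Γ(X, ⊤) Γ(nbhd f k, pr1 f k ⁻¹ᵁ (⊤ : X.Opens)) :=
      ((pr2 f k).appLE ⊤ (pr1 f k ⁻¹ᵁ ⊤) hle).hom.toAlgebra
    letI modPF : Module Γ(X, ⊤)
        Γ((Scheme.Modules.pullback (pr2 f k)).obj F, pr1 f k ⁻¹ᵁ (⊤ : X.Opens)) :=
      Module.compHom _ ((pr2 f k).appLE ⊤ (pr1 f k ⁻¹ᵁ ⊤) hle).hom
    haveI towPF : IsScalarTower Γ(X, ⊤) Γ(nbhd f k, pr1 f k ⁻¹ᵁ (⊤ : X.Opens))
        Γ((Scheme.Modules.pullback (pr2 f k)).obj F, pr1 f k ⁻¹ᵁ (⊤ : X.Opens)) :=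
      IsScalarTower.of_algebraMap_smul fun _ _ => rfl
    have hbc := PBH8.isBaseChange_cUV (pr2 f k) F hle hW hU
    letI modT : Module Γ(X, ⊤) T :=
      Module.compHom T ((pr2 f k).appLE ⊤ (pr1 f k ⁻¹ᵁ ⊤) hle).hom
    haveI towT : IsScalarTower Γ(X, ⊤) Γ(nbhd f k, pr1 f k ⁻¹ᵁ (⊤ : X.Opens)) T :=
      IsScalarTower.of_algebraMap_smul fun _ _ => rfl
    let gl : Γ(F, ⊤) →ₗ[Γ(X, ⊤)] T :=
      { toFun := g
        map_add' := g.map_add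
        map_smul' := fun b m => by
          show g (b • m) = ((pr2 f k).appLE ⊤ (pr1 f k ⁻¹ᵁ ⊤) hle).hom b • g m
          rw [hg, hμ2] }
    refine ⟨(hbc.lift gl).toAddMonoidHom, fun q z => (hbc.lift gl).map_smul q z, fun m => ?_⟩
    exact hbc.lift_eq gl m
  obtain ⟨ub, hub1, hub2⟩ := alg9715 k μ hs hk c hUP D' hD'
  let ub' : Γ(PMod f k F, ⊤) →+ Γ(G, ⊤) := ub
  obtain ⟨u, hu⟩ := homOfGlobal (PMod f k F) G ub' (fun b z => by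
    have h3 := hub1 b z
    rw [hμ1] at h3
    exact h3)
  refine ⟨dPHom f k F ≫ u.mapPresheaf, ⟨u, fun U t => rfl⟩, fun m => ?_⟩
  exact (hu (dP f k F ⊤ m)).trans (hub2 m)

end Geom

end Groth.Agent.Lib.DiffOpAffH7
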