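import Mathlib
import Groth.Prelude
import Groth.Agent.Lib.ConormSplit_helper4
import Groth.Agent.Lib.ConormTrans1_helper7

/-!
# The first fundamental exact sequence `f^*Ω_{Y/S} → Ω_{X/S} → Ω_{X/Y} → 0` (helper7)

Built on helper4's identification of the sections of receptacles of universal derivations with
Kähler differentials.
APPEND-ONLY once landed.
-/

set_option autoImplicit false
set_option linter.style.haveILetI false

universe u

open CategoryTheory CategoryTheory.Limits AlgebraicGeometry Opposite TopologicalSpace TensorProduct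
open AlgebraicGeometry.Scheme.Modules

namespace Groth.Agent.Lib.DiffSeqH7

open Groth.Agent.Lib.OmegaUniv2H4 Groth.Agent.Lib.OmegaResH4 Groth.Agent.Lib.OmegaRecQCH4
open Groth.Agent.Lib.OmegaCompatH4 Groth.Agent.Lib.OmegaCompat2H4
open Groth.Agent.Lib.OmegaAffH4 Groth.Agent.Lib.OmegaUnivH4 Groth.Agent.Lib.ConormOpenH4
open Groth.Agent.Lib.ConormDiffH4 Groth.Agent.Lib.ConormSeqAlgH4 Groth.Agent.Lib.OmegaSecH4
open Groth.Agent.Lib.ConormSeqH4

section Algebra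

open KaehlerDifferential

theorem alg_seq {R A B M N₁ N₂ N₃ : Type u} [CommRing R] [CommRing A] [CommRing B] [Algebra R A]
    [Algebra A B] [Algebra R B] [IsScalarTower R A B]
    [AddCommGroup M] [Module A M] [AddCommGroup N₁] [Module A N₁] [Module B N₁]
    [IsScalarTower A B N₁] [AddCommGroup N₂] [Module B N₂] [AddCommGroup N₃] [Module B N₃]
    (φ₁ : M →ₗ[A] N₁) (hbc : IsBaseChange B φ₁) (cl : N₁ →ₗ[B] N₂) (cl₂ : N₂ →ₗ[B] N₃)
    (L₁ : M ≃ₗ[A] Ω[A⁄R]) (L₂ : N₂ ≃ₗ[B] Ω[B⁄R]) (L₃ : N₃ ≃ₗ[B] Ω[B⁄A])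
    (hform : ∀ m, L₂ (cl (φ₁ m)) = KaehlerDifferential.map R R A B (L₁ m))
    (hform₂ : ∀ x, L₃ (cl₂ x) = KaehlerDifferential.map R A B B (L₂ x)) :
    (∀ y, cl₂ (cl y) = 0) ∧ (∀ x, cl₂ x = 0 → ∃ y, cl y = x) ∧ Function.Surjective cl₂ := by
  let E₁ : (B ⊗[A] Ω[A⁄R]) ≃ₗ[B] N₁ := (L₁.symm.baseChange A B _ _).trans hbc.equiv
  have hE : ∀ t : B ⊗[A] Ω[A⁄R], L₂ (cl (E₁ t)) = KaehlerDifferential.mapBaseChange R A B t := by
    intro t
    induction t using TensorProduct.induction_on with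
    | zero => rw [map_zero, map_zero, map_zero, map_zero]
    | tmul b x =>
      have h1 : E₁ (b ⊗ₜ x) = b • φ₁ (L₁.symm x) := by
        show hbc.equiv ((L₁.symm.baseChange A B _ _) (b ⊗ₜ x)) = _
        rw [LinearEquiv.baseChange_tmul, IsBaseChange.equiv_tmul]
      rw [h1, cl.map_smul, L₂.map_smul, hform, LinearEquiv.apply_symm_apply,
        KaehlerDifferential.mapBaseChange_tmul]
    | add x y hx hy => rw [map_add, map_add, map_add, map_add, hx, hy]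
  have hex := KaehlerDifferential.exact_mapBaseChange_map R A B
  refine ⟨?_, ?_, ?_⟩
  · intro y
    have h1 := hE (E₁.symm y)
    rw [LinearEquiv.apply_symm_apply] at h1
    have h2 : L₃ (cl₂ (cl y)) = 0 := by
      rw [hform₂, h1]
      exact hex.apply_apply_eq_zero _
    exact L₃.map_eq_zero_iff.mp h2
  · intro x hx
    have h1 : KaehlerDifferential.map R A B B (L₂ x) = 0 := by
      rw [← hform₂, hx, map_zero]
    obtain ⟨t, ht⟩ := (hex (L₂ x)).mp h1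
    refine ⟨E₁ t, ?_⟩
    apply L₂.injective
    rw [hE, ht]
  · intro z
    obtain ⟨ω, hω⟩ := KaehlerDifferential.map_surjective R A B (L₃ z)
    refine ⟨L₂.symm ω, ?_⟩
    apply L₃.injective
    rw [hform₂, LinearEquiv.apply_symm_apply, hω]

end Algebra

section Geom

variable {X Y S : Scheme.{u}} (g : Y ⟶ S) (f : X ⟶ Y)

set_option maxHeartbeats 3200000 in
theorem sections5975
    (ΩY : Y.Modules) (dY : OmegaSh.Der g ΩY) (hY : OmegaSh.IsUniversal dY)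
    (ΩX : X.Modules) (dX : OmegaSh.Der (f ≫ g) ΩX) (hX : OmegaSh.IsUniversal dX)
    (ΩXY : X.Modules) (dXY : OmegaSh.Der f ΩXY) (hXY : OmegaSh.IsUniversal dXY)
    (c₁ : (Scheme.Modules.pullback f).obj ΩY ⟶ ΩX) (hc₁ : OmegaSh.IsDiffCompat f dY dX c₁)
    (c₂ : (Scheme.Modules.pullback (𝟙 X)).obj ΩX ⟶ ΩXY)
    (hc₂ : OmegaSh.IsDiffCompat (𝟙 X) dX dXY c₂)
    {W : X.Opens} {V : Y.Opens} {T : S.Opens} (hW : IsAffineOpen W) (hV : IsAffineOpen V)
    (hT : IsAffineOpen T) (e : W ≤ f ⁻¹ᵁ V) (hVT : V ≤ g ⁻¹ᵁ T) (hWT : W ≤ (f ≫ g) ⁻¹ᵁ T) :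
    (∀ y, ((Scheme.Modules.pullbackId X).inv.app ΩX ≫ c₂).app W (c₁.app W y) = 0) ∧
    (∀ x, ((Scheme.Modules.pullbackId X).inv.app ΩX ≫ c₂).app W x = 0 →
      ∃ y, c₁.app W y = x) ∧
    Function.Surjective (((Scheme.Modules.pullbackId X).inv.app ΩX ≫ c₂).app W) := by
  letI a1 : Algebra Γ(S, T) Γ(Y, V) := (g.appLE T V hVT).hom.toAlgebra
  letI a3 : Algebra Γ(Y, V) Γ(X, W) := (f.appLE V W e).hom.toAlgebra
  letI a2 : Algebra Γ(S, T) Γ(X, W) := ((f ≫ g).appLE T W hWT).hom.toAlgebra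
  have comm : ∀ r : Γ(S, T), ((f ≫ g).appLE T W hWT).hom r =
      (f.appLE V W e).hom ((g.appLE T V hVT).hom r) := by
    intro r
    have c1 := Scheme.Hom.appLE_comp_appLE f g T V W hVT e
    exact (congrArg (fun k => k.hom r) c1).symm
  haveI t1 : IsScalarTower Γ(S, T) Γ(Y, V) Γ(X, W) :=
    IsScalarTower.of_algebraMap_eq (fun r => comm r)
  obtain ⟨L₁, hL₁⟩ := receptacleSections g dY hY hV hT hVT
  obtain ⟨L₂, hL₂⟩ := receptacleSections (f ≫ g) dX hX hW hT hWT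
  obtain ⟨L₃, hL₃⟩ := receptacleSections f dXY hXY hW hV e
  haveI qc₁ : ΩY.IsQuasicoherent := isQuasicoherent g dY hY
  letI mA : Module Γ(Y, V) Γ((Scheme.Modules.pullback f).obj ΩY, W) :=
    Module.compHom _ (f.appLE V W e).hom
  haveI tA : IsScalarTower Γ(Y, V) Γ(X, W) Γ((Scheme.Modules.pullback f).obj ΩY, W) :=
    IsScalarTower.of_algebraMap_smul fun _ _ => rfl
  letI mA2 : Module Γ(Y, V) Γ(ΩX, W) := Module.compHom _ (f.appLE V W e).hom
  haveI tA2 : IsScalarTower Γ(Y, V) Γ(X, W) Γ(ΩX, W) :=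
    IsScalarTower.of_algebraMap_smul fun _ _ => rfl
  have hbc := PBH8.isBaseChange_cUV f ΩY e hW hV
  let cl : Γ((Scheme.Modules.pullback f).obj ΩY, W) →ₗ[Γ(X, W)] Γ(ΩX, W) :=
    { toFun := fun y => c₁.app W y
      map_add' := fun y z => map_add (c₁.app W).hom y z
      map_smul' := fun r y => Scheme.Modules.Hom.app_smul c₁ r y }
  let lam : Γ(ΩY, V) →ₗ[Γ(Y, V)] Γ(ΩX, W) :=
    (cl.restrictScalars Γ(Y, V)).comp (PBH8.cUVLin f ΩY e)
  have hcomm : (KaehlerDifferential.map Γ(S, T) Γ(S, T) Γ(Y, V) Γ(X, W)).comp L₁.toLinearMap =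
      (L₂.restrictScalars Γ(Y, V)).toLinearMap.comp lam := by
    refine LinearMap.ext_on (span_d g dY hY ⟨hV, T, hT, hVT⟩) ?_
    rintro _ ⟨s, rfl⟩
    show KaehlerDifferential.map Γ(S, T) Γ(S, T) Γ(Y, V) Γ(X, W) (L₁ (dY.app V s)) =
      L₂ (c₁.app W (PBH8.cUV f ΩY e (dY.app V s)))
    rw [hL₁, cUV_d f dY dX c₁ hc₁ e s, hL₂, KaehlerDifferential.map_D]
    rfl
  have hform : ∀ m, L₂ (cl (PBH8.cUVLin f ΩY e m)) =
      KaehlerDifferential.map Γ(S, T) Γ(S, T) Γ(Y, V) Γ(X, W) (L₁ m) :=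
    fun m => (LinearMap.congr_fun hcomm m).symm
  let cl₂ : Γ(ΩX, W) →ₗ[Γ(X, W)] Γ(ΩXY, W) :=
    { toFun := fun x => ((Scheme.Modules.pullbackId X).inv.app ΩX ≫ c₂).app W x
      map_add' := fun y z =>
        map_add (((Scheme.Modules.pullbackId X).inv.app ΩX ≫ c₂).app W).hom y z
      map_smul' := fun r y =>
        Scheme.Modules.Hom.app_smul ((Scheme.Modules.pullbackId X).inv.app ΩX ≫ c₂) r y }
  have hd2 : ∀ s : Γ(X, W),
      ((Scheme.Modules.pullbackId X).inv.app ΩX ≫ c₂).app W (dX.app W s) = dXY.app W s := by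
    intro s
    have e1 := Groth.Agent.Lib.ConormTransH7.pullbackId_inv_app ΩX W (dX.app W s)
    have e2 := hc₂ W s
    have e3 : (𝟙 X : X ⟶ X).app W s = s := rfl
    have e4 : c₂.app W (((Scheme.Modules.pullbackId X).inv.app ΩX).app W (dX.app W s)) =
        dXY.app W s :=
      (congrArg (fun t => c₂.app W t) e1).trans
        (e2.trans (congrArg (fun t => dXY.app W t) e3))
    exact e4
  have hcomm₂ : (KaehlerDifferential.map Γ(S, T) Γ(Y, V) Γ(X, W) Γ(X, W)).comp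
      L₂.toLinearMap = L₃.toLinearMap.comp cl₂ := by
    refine LinearMap.ext_on (span_d (f ≫ g) dX hX ⟨hW, T, hT, hWT⟩) ?_
    rintro _ ⟨s, rfl⟩
    show KaehlerDifferential.map Γ(S, T) Γ(Y, V) Γ(X, W) Γ(X, W) (L₂ (dX.app W s)) =
      L₃ (((Scheme.Modules.pullbackId X).inv.app ΩX ≫ c₂).app W (dX.app W s))
    rw [hL₂, hd2, hL₃, KaehlerDifferential.map_D]
    rfl
  have hform₂ : ∀ x, L₃ (cl₂ x) =
      KaehlerDifferential.map Γ(S, T) Γ(Y, V) Γ(X, W) Γ(X, W) (L₂ x) :=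
    fun x => (LinearMap.congr_fun hcomm₂ x).symm
  exact alg_seq (PBH8.cUVLin f ΩY e) hbc cl cl₂ L₁ L₂ L₃ hform hform₂

theorem main5975
    (ΩY : Y.Modules) (dY : OmegaSh.Der g ΩY) (hY : OmegaSh.IsUniversal dY)
    (ΩX : X.Modules) (dX : OmegaSh.Der (f ≫ g) ΩX) (hX : OmegaSh.IsUniversal dX)
    (ΩXY : X.Modules) (dXY : OmegaSh.Der f ΩXY) (hXY : OmegaSh.IsUniversal dXY)
    (c₁ : (Scheme.Modules.pullback f).obj ΩY ⟶ ΩX) (hc₁ : OmegaSh.IsDiffCompat f dY dX c₁)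
    (c₂ : (Scheme.Modules.pullback (𝟙 X)).obj ΩX ⟶ ΩXY)
    (hc₂ : OmegaSh.IsDiffCompat (𝟙 X) dX dXY c₂) :
    Epi c₂ ∧
      imageSubobject c₁ = kernelSubobject ((Scheme.Modules.pullbackId X).inv.app ΩX ≫ c₂) := by
  have hbasis := exists_goodSB g (f ≫ g) f rfl
  have w : c₁ ≫ ((Scheme.Modules.pullbackId X).inv.app ΩX ≫ c₂) = 0 := by
    refine hom_eq_zero_of_basis (GoodSB g (f ≫ g) f) hbasis _ (fun W hW y => ?_)
    obtain ⟨hWa, V, T, hV, hT, e, hVT, hWT⟩ := hW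
    exact (sections5975 g f ΩY dY hY ΩX dX hX ΩXY dXY hXY c₁ hc₁ c₂ hc₂
      hWa hV hT e hVT hWT).1 y
  have hex : (ShortComplex.mk c₁ ((Scheme.Modules.pullbackId X).inv.app ΩX ≫ c₂) w).Exact := by
    refine exact_of_basis (GoodSB g (f ≫ g) f) hbasis c₁ _ w (fun W hW x hx => ?_)
    obtain ⟨hWa, V, T, hV, hT, e, hVT, hWT⟩ := hW
    exact (sections5975 g f ΩY dY hY ΩX dX hX ΩXY dXY hXY c₁ hc₁ c₂ hc₂
      hWa hV hT e hVT hWT).2.1 x hx
  haveI hepi : Epi ((Scheme.Modules.pullbackId X).inv.app ΩX ≫ c₂) := by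
    refine epi_of_surjective_basis _ (GoodSB g (f ≫ g) f) hbasis (fun W hW => ?_)
    obtain ⟨hWa, V, T, hV, hT, e, hVT, hWT⟩ := hW
    exact (sections5975 g f ΩY dY hY ΩX dX hX ΩXY dXY hXY c₁ hc₁ c₂ hc₂
      hWa hV hT e hVT hWT).2.2
  exact ⟨epi_of_epi ((Scheme.Modules.pullbackId X).inv.app ΩX) c₂,
    (ShortComplex.exact_iff_image_eq_kernel _).mp hex⟩

end Geom

end Groth.Agent.Lib.DiffSeqH7
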