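import Mathlib

/-!
# Trace on a finite local algebra: `Tr_{A/k}(a) = length(A) · Tr_{κ/k}(ā)` (helper2)
-/

namespace TraceLocalH2

universe u

section Additivity

variable {R V : Type*} [CommRing R] [AddCommGroup V]
    [Module R V] [Module.Finite R V]
    (W : Submodule R V) [Module.Free R W] [Module.Finite R W] [Module.Free R (V ⧸ W)]

open Module.Basis in
theorem trace_eq_trace_add_trace (e : V →ₗ[R] V) (he : W ≤ W.comap e) :
    LinearMap.trace R V e =
      LinearMap.trace R W (e.restrict he) + LinearMap.trace R (V ⧸ W) (W.mapQ W e he) := by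
  classical
  let m := Module.Free.ChooseBasisIndex R W
  let bW : Module.Basis m R W := Module.Free.chooseBasis R W
  let n := Module.Free.ChooseBasisIndex R (V ⧸ W)
  let bQ : Module.Basis n R (V ⧸ W) := Module.Free.chooseBasis R (V ⧸ W)
  let b := sumQuot bW bQ
  let A : Matrix m m R := LinearMap.toMatrix bW bW (e.restrict he)
  let B : Matrix m n R := Matrix.of fun i l ↦
    ((sumQuot bW bQ).repr (e ((sumQuot bW bQ) (Sum.inr l)))) (Sum.inl i)
  let D : Matrix n n R := LinearMap.toMatrix bQ bQ (W.mapQ W e he)
  suffices LinearMap.toMatrix b b e = Matrix.fromBlocks A B 0 D by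
    rw [LinearMap.trace_eq_matrix_trace R b, this, LinearMap.trace_eq_matrix_trace R bW,
      LinearMap.trace_eq_matrix_trace R bQ]
    simp [Matrix.trace, Fintype.sum_sum_type, A, D]
  ext u v
  cases u with
  | inl i =>
    cases v with
    | inl k =>
      simp only [b, sumQuot_inl, Matrix.fromBlocks_apply₁₁, A, LinearMap.toMatrix_apply]
      apply sumQuot_repr_inl_of_mem
    | inr l => simp [b, LinearMap.toMatrix_apply, Matrix.fromBlocks_apply₁₂, B]
  | inr j =>
    cases v with
    | inl k =>
      suffices W.mkQ (e (bW k)) = 0 by simp [LinearMap.toMatrix_apply, b, this]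
      rw [← LinearMap.mem_ker, Submodule.ker_mkQ]
      exact he (Submodule.coe_mem (bW k))
    | inr l =>
      simp only [LinearMap.toMatrix_apply, sumQuot_repr_inr,
        Matrix.fromBlocks_apply₂₂, b, D]
      rw [← sumQuot_inr bW bQ l, W.mapQ_apply]
      simp

theorem trace_eq_of_equiv {R M N : Type*} [CommRing R] [AddCommGroup M] [Module R M]
    [AddCommGroup N] [Module R N] (e : M ≃ₗ[R] N) (f : M →ₗ[R] M) (g : N →ₗ[R] N)
    (h : ∀ x, e (f x) = g (e x)) : LinearMap.trace R M f = LinearMap.trace R N g := by
  have : g = e.conj f := by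
    ext y
    rw [LinearEquiv.conj_apply, LinearMap.comp_apply, LinearMap.comp_apply, LinearEquiv.coe_coe,
      LinearEquiv.coe_coe, h, LinearEquiv.apply_symm_apply]
  rw [this, LinearMap.trace_conj']

end Additivity

section Main

variable (k : Type*) {A : Type u} [Field k] [CommRing A] [Algebra k A]

/-- the `k`-linear endomorphism `x ↦ a • x` of an `A`-module. -/
def μ (M : Type*) [AddCommGroup M] [Module A M] [Module k M] [IsScalarTower k A M]
    (a : A) : M →ₗ[k] M where
  toFun x := a • x
  map_add' := smul_add a
  map_smul' c x := by
    simp only [RingHom.id_apply]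
    rw [← algebraMap_smul A c x, ← algebraMap_smul A c (a • x), smul_smul, smul_smul, mul_comm]

@[simp] theorem μ_apply (M : Type*) [AddCommGroup M] [Module A M] [Module k M]
    [IsScalarTower k A M] (a : A) (x : M) : μ k M a x = a • x := rfl

variable [IsLocalRing A]

theorem trace_smul_eq (a : A) : ∀ (n : ℕ) (M : Type u) [AddCommGroup M] [Module A M]
    [Module k M] [IsScalarTower k A M] [Module.Finite k M], Module.finrank k M = n →
    LinearMap.trace k M (μ k M a) =
      ((Module.length A M).toNat : k) *
        Algebra.trace k (IsLocalRing.ResidueField A) (IsLocalRing.residue A a) := by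
  intro n
  induction n using Nat.strong_induction_on with
  | _ n ih =>
  intro M _ _ _ _ _ hn
  by_cases hM : Subsingleton M
  · have h0 : μ k M a = 0 := by
      ext x
      exact Subsingleton.elim _ _
    rw [h0, map_zero, Module.length_eq_zero, ENat.toNat_zero, Nat.cast_zero, zero_mul]
  · rw [not_subsingleton_iff_nontrivial] at hM
    haveI : IsArtinian k M := inferInstance
    haveI : IsNoetherian k M := inferInstance
    haveI : IsArtinian A M := isArtinian_of_tower k inferInstance
    haveI : IsNoetherian A M := isNoetherian_of_tower k inferInstance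
    haveI : IsAtomic (Submodule A M) := isAtomic_of_orderBot_wellFounded_lt wellFounded_lt
    obtain ⟨N, hN⟩ : ∃ N : Submodule A M, IsAtom N := IsAtomic.exists_atom _
    haveI : IsSimpleModule A N := isSimpleModule_iff_isAtom.mpr hN
    set W : Submodule k M := N.restrictScalars k with hW
    have he : W ≤ W.comap (μ k M a) := by
      intro x hx
      exact N.smul_mem a hx
    rw [trace_eq_trace_add_trace W (μ k M a) he]
    -- the sub part
    obtain ⟨I, hI, ⟨e⟩⟩ := isSimpleModule_iff_quot_maximal.mp (inferInstance : IsSimpleModule A N)
    have hIm : I = IsLocalRing.maximalIdeal A := IsLocalRing.eq_maximalIdeal hI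
    subst hIm
    let e1 : W ≃ₗ[A] N := Submodule.restrictScalarsEquiv k A M N
    let e2 : W ≃ₗ[k] IsLocalRing.ResidueField A := (e1.trans e).restrictScalars k
    have hsub : LinearMap.trace k W ((μ k M a).restrict he) =
        Algebra.trace k (IsLocalRing.ResidueField A) (IsLocalRing.residue A a) := by
      rw [Algebra.trace_apply]
      apply trace_eq_of_equiv e2
      intro x
      have : (μ k M a).restrict he x = a • x := by
        ext
        rfl
      rw [this]
      show (e1.trans e) (a • x) = _
      rw [map_smul]
      rfl
    -- the quotient part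
    let e3 : (M ⧸ W) ≃ₗ[k] (M ⧸ N) := Submodule.Quotient.restrictScalarsEquiv k N
    have hquot1 : LinearMap.trace k (M ⧸ W) (W.mapQ W (μ k M a) he) =
        LinearMap.trace k (M ⧸ N) (μ k (M ⧸ N) a) := by
      apply trace_eq_of_equiv e3
      intro x
      induction x using Submodule.Quotient.induction_on with
      | _ x => rfl
    have hfr : Module.finrank k (M ⧸ N) < n := by
      have h1 := W.finrank_quotient_add_finrank
      have h2 : Module.finrank k (M ⧸ W) = Module.finrank k (M ⧸ N) := e3.finrank_eq
      have h3 : 0 < Module.finrank k W := by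
        rw [Module.finrank_pos_iff]
        have : Nontrivial N := IsSimpleModule.nontrivial A N
        exact (e1.toEquiv.nontrivial)
      omega
    have hquot2 := ih _ hfr (M ⧸ N) rfl
    have hlen : Module.length A M = Module.length A N + Module.length A (M ⧸ N) :=
      Module.length_eq_add_of_exact N.subtype N.mkQ N.injective_subtype N.mkQ_surjective
        (LinearMap.exact_subtype_mkQ N)
    have hlenN : Module.length A N = 1 := Module.length_eq_one A N
    have hfin : Module.length A (M ⧸ N) ≠ ⊤ := Module.length_ne_top
    rw [hsub, hquot1, hquot2, hlen, hlenN, ENat.toNat_add ENat.one_ne_top hfin, ENat.toNat_one,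
      Nat.cast_add, Nat.cast_one]
    ring

theorem trace_eq_length_mul [Module.Finite k A] (a : A) :
    Algebra.trace k A a = ((Module.length A A).toNat : k) *
      Algebra.trace k (IsLocalRing.ResidueField A) (IsLocalRing.residue A a) := by
  rw [← trace_smul_eq k a _ A rfl, Algebra.trace_apply]
  congr 1

end Main

end TraceLocalH2
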