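import Mathlib
import Groth.Agent.S2219

/-!
# Tame ramification and the different for DVRs (helper2)
-/

set_option autoImplicit false
universe u
attribute [local instance] FractionRing.liftAlgebra FractionRing.isScalarTower_liftAlgebra
  Ideal.Quotient.field

namespace DiffTameH2

open nonZeroDivisors IsLocalRing

section General

variable (A : Type*) {B : Type u} [CommRing A] [CommRing B] [Algebra A B]
  [IsDedekindDomain A] [IsDedekindDomain B] [Module.IsTorsionFree A B] [Module.Finite A B]
  [Algebra.IsSeparable (FractionRing A) (FractionRing B)]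

theorem map_dvd_differentIdeal {p : Ideal A} [p.IsMaximal] (hp : p ≠ ⊥)
    (h : ∀ x : B, Algebra.intTrace A B x ∈ p) :
    p.map (algebraMap A B) ∣ differentIdeal A B := by
  let K := FractionRing A
  let L := FractionRing B
  have : IsLocalization (Algebra.algebraMapSubmonoid B A⁰) L :=
    IsIntegralClosure.isLocalization _ K _ _
  have : FiniteDimensional K L := .of_isLocalization A B A⁰
  have hp' := (Ideal.map_eq_bot_iff_of_injective
    (FaithfulSMul.algebraMap_injective A B)).not.mpr hp
  have hP : (((p.map (algebraMap A B) : Ideal B) : FractionalIdeal B⁰ L))⁻¹ =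
      ((⊤ : Ideal B) : FractionalIdeal B⁰ L) /
        ((p.map (algebraMap A B) : Ideal B) : FractionalIdeal B⁰ L) := by
    rw [FractionalIdeal.coeIdeal_top, FractionalIdeal.inv_eq]
  rw [Ideal.dvd_iff_le, differentialIdeal_le_iff (K := K) (L := L) hp', hP,
    Submodule.map_le_iff_le_comap]
  intro x hx
  rw [Submodule.restrictScalars_mem, FractionalIdeal.mem_coe,
    FractionalIdeal.mem_div_iff_of_ne_zero (by simpa using hp')] at hx
  rw [Submodule.mem_comap, LinearMap.coe_restrictScalars, ← FractionalIdeal.coe_one,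
    ← div_self (G₀ := FractionalIdeal A⁰ K) (a := p) (by simpa using hp),
    FractionalIdeal.mem_coe, FractionalIdeal.mem_div_iff_of_ne_zero (by simpa using hp)]
  simp only [FractionalIdeal.mem_coeIdeal, forall_exists_index, and_imp,
    forall_apply_eq_imp_iff₂] at hx
  intro y hy'
  obtain ⟨y, hy, rfl : algebraMap A K _ = _⟩ := (FractionalIdeal.mem_coeIdeal _).mp hy'
  obtain ⟨z, hz, hz'⟩ := hx _ (Ideal.mem_map_of_mem _ hy)
  have : Algebra.trace K L (algebraMap B L z) ∈ (p : FractionalIdeal A⁰ K) := by
    rw [← Algebra.algebraMap_intTrace (A := A)]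
    exact ⟨Algebra.intTrace A B z, h z, rfl⟩
  rwa [mul_comm, ← smul_eq_mul, ← map_smul, Algebra.smul_def, mul_comm,
    ← IsScalarTower.algebraMap_apply, IsScalarTower.algebraMap_apply A B L, ← hz']

end General

section DVR

variable (A B : Type u) [CommRing A] [IsDomain A] [IsDiscreteValuationRing A]
    [CommRing B] [IsDomain B] [IsDiscreteValuationRing B] [Algebra A B] [Module.Finite A B]
    [Module.IsTorsionFree A B] [IsLocalHom (algebraMap A B)]

theorem map_maximalIdeal_eq_pow :
    (maximalIdeal A).map (algebraMap A B) =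
      maximalIdeal B ^ (Ideal.ramificationIdx (maximalIdeal B) A) := by
  have hpA : maximalIdeal A ≠ ⊥ := IsDiscreteValuationRing.not_a_field A
  have hPB : maximalIdeal B ≠ 0 := IsDiscreteValuationRing.not_a_field B
  have hPu : ¬ IsUnit (maximalIdeal B) := by
    rw [Ideal.isUnit_iff]
    exact (maximalIdeal.isMaximal B).ne_top
  have hp' : (maximalIdeal A).map (algebraMap A B) ≠ ⊥ :=
    (Ideal.map_eq_bot_iff_of_injective (FaithfulSMul.algebraMap_injective A B)).not.mpr hpA
  obtain ⟨ϖ, hϖ⟩ := IsDiscreteValuationRing.exists_irreducible B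
  obtain ⟨n, hn⟩ := IsDiscreteValuationRing.ideal_eq_span_pow_irreducible hp' hϖ
  have hP : maximalIdeal B = Ideal.span {ϖ} := hϖ.maximalIdeal_eq
  have hn' : (maximalIdeal A).map (algebraMap A B) = maximalIdeal B ^ n := by
    rw [hn, hP, Ideal.span_singleton_pow]
  have he := Ideal.IsDedekindDomain.ramificationIdx_eq_multiplicity (maximalIdeal A)
    (maximalIdeal B) hp'
  rw [hn', multiplicity_pow_self hPB hPu] at he
  rw [he, hn']

variable [Algebra.IsSeparable (FractionRing A) (FractionRing B)]

theorem differentIdeal_eq_iff_trace :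
    differentIdeal A B = maximalIdeal B ^ (Ideal.ramificationIdx (maximalIdeal B) A - 1) ↔
      ¬ ∀ x : B, Algebra.intTrace A B x ∈ maximalIdeal A := by
  have hmap := map_maximalIdeal_eq_pow A B
  have hepos : 0 < Ideal.ramificationIdx (maximalIdeal B) A := Ideal.ramificationIdx_pos _ _
  generalize Ideal.ramificationIdx (maximalIdeal B) A = e at hmap hepos ⊢
  have hpA : maximalIdeal A ≠ ⊥ := IsDiscreteValuationRing.not_a_field A
  have hPB : maximalIdeal B ≠ 0 := IsDiscreteValuationRing.not_a_field B
  have hPu : ¬ IsUnit (maximalIdeal B) := by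
    rw [Ideal.isUnit_iff]
    exact (maximalIdeal.isMaximal B).ne_top
  have hD : differentIdeal A B ≠ ⊥ := differentIdeal_ne_bot
  obtain ⟨ϖ, hϖ⟩ := IsDiscreteValuationRing.exists_irreducible B
  obtain ⟨d, hd⟩ := IsDiscreteValuationRing.ideal_eq_span_pow_irreducible hD hϖ
  have hP : maximalIdeal B = Ideal.span {ϖ} := hϖ.maximalIdeal_eq
  have hd' : differentIdeal A B = maximalIdeal B ^ d := by
    rw [hd, hP, Ideal.span_singleton_pow]
  have hdvd : maximalIdeal B ^ (e - 1) ∣ differentIdeal A B :=
    pow_sub_one_dvd_differentIdeal A (maximalIdeal B) e hpA (by rw [hmap])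
  have hle : e - 1 ≤ d := by
    rw [hd'] at hdvd
    exact (pow_dvd_pow_iff hPB hPu).mp hdvd
  constructor
  · intro h hall
    have h1 := map_dvd_differentIdeal A hpA hall
    rw [hmap, h] at h1
    have := (pow_dvd_pow_iff hPB hPu).mp h1
    omega
  · intro h
    have h2 : ¬ maximalIdeal B ^ e ∣ differentIdeal A B := by
      push Not at h
      obtain ⟨x, hx⟩ := h
      exact not_dvd_differentIdeal_of_intTrace_not_mem A (maximalIdeal B ^ e) ⊤
        (by rw [Ideal.mul_top, hmap]) x trivial hx
    rw [hd'] at h2 ⊢
    rw [pow_dvd_pow_iff hPB hPu] at h2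
    congr 1
    omega

omit [Algebra.IsSeparable (FractionRing A) (FractionRing B)] in
theorem forall_intTrace_mem_iff :
    (∀ x : B, Algebra.intTrace A B x ∈ maximalIdeal A) ↔
      Algebra.trace (A ⧸ maximalIdeal A) (B ⧸ (maximalIdeal A).map (algebraMap A B)) = 0 := by
  constructor
  · intro h
    ext y
    obtain ⟨x, rfl⟩ := Ideal.Quotient.mk_surjective y
    rw [Algebra.trace_quotient_eq_of_isDedekindDomain, LinearMap.zero_apply,
      Ideal.Quotient.eq_zero_iff_mem]
    exact h x
  · intro h x
    rw [← Ideal.Quotient.eq_zero_iff_mem, ← Algebra.trace_quotient_eq_of_isDedekindDomain, h,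
      LinearMap.zero_apply]

theorem main :
    differentIdeal A B = maximalIdeal B ^ (Ideal.ramificationIdx (maximalIdeal B) A - 1) ↔
      (Algebra.IsSeparable (A ⧸ maximalIdeal A) (B ⧸ maximalIdeal B) ∧
        ((Ideal.ramificationIdx (maximalIdeal B) A : ℕ) : A ⧸ maximalIdeal A) ≠ 0) := by
  rw [differentIdeal_eq_iff_trace, forall_intTrace_mem_iff]
  have hmap := map_maximalIdeal_eq_pow A B
  have hepos : 0 < Ideal.ramificationIdx (maximalIdeal B) A := Ideal.ramificationIdx_pos _ _
  generalize Ideal.ramificationIdx (maximalIdeal B) A = e at hmap hepos ⊢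
  let k := A ⧸ maximalIdeal A
  let I := (maximalIdeal A).map (algebraMap A B)
  let C := B ⧸ I
  have hIlt : I < ⊤ := IsLocalRing.map_maximalIdeal_lt_top (algebraMap A B)
  haveI : Nontrivial C := Ideal.Quotient.nontrivial_iff.mpr hIlt.ne
  have hq : Function.Surjective (Ideal.Quotient.mk I) := Ideal.Quotient.mk_surjective
  haveI : IsLocalRing C := IsLocalRing.of_surjective' (Ideal.Quotient.mk I) hq
  haveI : IsLocalHom (Ideal.Quotient.mk I) := IsLocalHom.of_surjective _ hq
  haveI : Module.Finite k C := Module.Finite.of_restrictScalars_finite A k C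
  have key := Groth.Agent.S2219.result k C
  change Algebra.trace k C ≠ 0 ↔ _
  rw [key]
  have hlen : (Module.length C C).toNat = e := by
    have h1 : Module.length B C = Module.length C C :=
      Module.length_eq_of_surjective (S := B) (R := C) (M := C) Ideal.Quotient.mk_surjective
    have h2 : Module.length B C = Module.length B (B ⧸ maximalIdeal B ^ e) :=
      (Submodule.quotEquivOfEq _ _ hmap).length_eq
    rw [← h1, h2, IsDiscreteValuationRing.length_quotient_pow_maximalIdeal, ENat.toNat_natCast]
  have hsep : Algebra.IsSeparable k (ResidueField C) ↔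
      Algebra.IsSeparable (A ⧸ maximalIdeal A) (B ⧸ maximalIdeal B) := by
    let e₂ : (B ⧸ maximalIdeal B) ≃+* ResidueField C :=
      RingEquiv.ofBijective (ResidueField.map (Ideal.Quotient.mk I))
        ⟨(ResidueField.map (Ideal.Quotient.mk I)).injective, fun y => by
          obtain ⟨c, rfl⟩ := residue_surjective y
          obtain ⟨b, rfl⟩ := hq c
          exact ⟨residue B b, ResidueField.map_residue _ b⟩⟩
    symm
    refine Algebra.IsSeparable.iff_of_equiv_equiv (RingEquiv.refl k) e₂ ?_
    ext x
    rfl
  rw [hlen, hsep]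
  refine and_congr_right (fun _ => ?_)
  constructor
  · intro h h0
    obtain ⟨p, hcp⟩ := CharP.exists k
    rcases CharP.char_is_prime_or_zero k p with hpp | hp0
    · exact h p hpp hcp ((CharP.cast_eq_zero_iff k p _).mp h0)
    · subst hp0
      haveI : CharZero k := CharP.charP_to_charZero k
      have : e = 0 := by exact_mod_cast h0
      omega
  · intro h p hp hcp hdvd
    exact h ((CharP.cast_eq_zero_iff k p _).mpr hdvd)

end DVR

end DiffTameH2
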