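import Mathlib

/-!
# Two general tools on alternating maps / exterior algebras (helper3)

* `exists_descend`: an alternating map on `M` vanishing as soon as one entry lies in the kernel of a
  surjection `q : M → Q` descends to `Q`.
* `J`: the comparison map `⋀_S (S ⊗_R P) → S ⊗_R ⋀_R P` of exterior algebras and its value on
  products of pure tensors.
-/

set_option autoImplicit false

open TensorProduct

namespace Groth.Agent.Lib.DiffTrH3

section descend

variable {R M Q N : Type*} [CommRing R] [AddCommGroup M] [Module R M] [AddCommGroup Q] [Module R Q]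
  [AddCommGroup N] [Module R N] {n : ℕ}

theorem map_eq_of_forall_eq (q : M →ₗ[R] Q) (A : M [⋀^Fin n]→ₗ[R] N)
    (hA : ∀ (v : Fin n → M) (i : Fin n), q (v i) = 0 → A v = 0)
    (v v' : Fin n → M) (h : ∀ i, q (v i) = q (v' i)) : A v = A v' := by
  classical
  have key : ∀ s : Finset (Fin n), A (fun i => if i ∈ s then v' i else v i) = A v := by
    intro s
    induction s using Finset.induction_on with
    | empty => simp
    | insert a s ha ih =>
      rw [← ih]
      have e1 : (fun i => if i ∈ insert a s then v' i else v i) =
          Function.update (fun i => if i ∈ s then v' i else v i) a (v' a) := by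
        funext i
        by_cases hi : i = a
        · subst hi; simp
        · simp [Finset.mem_insert, hi]
      have e2 : (fun i => if i ∈ s then v' i else v i) =
          Function.update (fun i => if i ∈ s then v' i else v i) a (v a) := by
        funext i
        by_cases hi : i = a
        · subst hi; simp [ha]
        · simp [Function.update_of_ne hi]
      rw [e1]
      conv_rhs => rw [e2]
      rw [← sub_eq_zero, ← AlternatingMap.map_update_sub]
      apply hA _ a
      rw [Function.update_self, map_sub, h a, sub_self]
  have := key Finset.univ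
  simpa using this.symm

theorem exists_descend (q : M →ₗ[R] Q) (hq : Function.Surjective q) (A : M [⋀^Fin n]→ₗ[R] N)
    (hA : ∀ (v : Fin n → M) (i : Fin n), q (v i) = 0 → A v = 0) :
    ∃ B : Q [⋀^Fin n]→ₗ[R] N, ∀ v : Fin n → M, B (fun i => q (v i)) = A v := by
  classical
  let F : (Fin n → Q) → N := fun w => A (fun i => Function.surjInv hq (w i))
  have hF : ∀ (w : Fin n → Q) (v : Fin n → M), (∀ i, q (v i) = w i) → F w = A v := by
    intro w v hv
    apply map_eq_of_forall_eq q A hA
    intro i
    rw [Function.surjInv_eq hq, hv]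
  have hupd : ∀ (w : Fin n → Q) (i : Fin n) (z : M),
      F (Function.update w i (q z)) =
        A (Function.update (fun j => Function.surjInv hq (w j)) i z) := by
    intro w i z
    apply hF
    intro j
    by_cases hj : j = i
    · subst hj; simp
    · simp [Function.update_of_ne hj, Function.surjInv_eq hq]
  refine ⟨{ toFun := F, map_update_add' := ?_, map_update_smul' := ?_, map_eq_zero_of_eq' := ?_ }, ?_⟩
  · intro _ w i x y
    obtain ⟨x, rfl⟩ := hq x
    obtain ⟨y, rfl⟩ := hq y
    have : (‹DecidableEq (Fin n)› : DecidableEq (Fin n)) = instDecidableEqFin n :=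
      Subsingleton.elim _ _
    subst this
    rw [← map_add, hupd, hupd, hupd, AlternatingMap.map_update_add]
  · intro _ w i c x
    obtain ⟨x, rfl⟩ := hq x
    have : (‹DecidableEq (Fin n)› : DecidableEq (Fin n)) = instDecidableEqFin n :=
      Subsingleton.elim _ _
    subst this
    rw [← map_smul, hupd, hupd, AlternatingMap.map_update_smul]
  · intro w i j hij hne
    exact A.map_eq_zero_of_eq _ (by simp [hij]) hne
  · intro v
    exact hF _ v (fun i => rfl)

end descend

section J

variable (R : Type*) [CommRing R] (S : Type*) [CommRing S] [Algebra R S]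
  (P : Type*) [AddCommGroup P] [Module R P]

/-- The linear map `S ⊗ P → S ⊗ ⋀ P`. -/
noncomputable def jLin : S ⊗[R] P →ₗ[S] S ⊗[R] ExteriorAlgebra R P :=
  (ExteriorAlgebra.ι R (M := P)).baseChange S

@[simp] lemma jLin_tmul (s : S) (p : P) : jLin R S P (s ⊗ₜ p) = s ⊗ₜ ExteriorAlgebra.ι R p := by
  simp [jLin]

lemma jLin_anticomm (u v : S ⊗[R] P) :
    jLin R S P u * jLin R S P v + jLin R S P v * jLin R S P u = 0 := by
  induction u using TensorProduct.induction_on with
  | zero => simp
  | tmul s p =>
    induction v using TensorProduct.induction_on with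
    | zero => simp
    | tmul s' p' =>
      simp only [jLin_tmul, Algebra.TensorProduct.tmul_mul_tmul]
      rw [mul_comm s' s, ← TensorProduct.tmul_add, ExteriorAlgebra.ι_add_mul_swap,
        TensorProduct.tmul_zero]
    | add a b ha hb =>
      rw [map_add, mul_add, add_mul]
      calc _ = (jLin R S P (s ⊗ₜ[R] p) * jLin R S P a + jLin R S P a * jLin R S P (s ⊗ₜ[R] p)) +
          (jLin R S P (s ⊗ₜ[R] p) * jLin R S P b + jLin R S P b * jLin R S P (s ⊗ₜ[R] p)) := by
            abel
        _ = 0 := by rw [ha, hb, add_zero]
  | add a b ha hb =>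
    rw [map_add, mul_add, add_mul]
    calc _ = (jLin R S P a * jLin R S P v + jLin R S P v * jLin R S P a) +
        (jLin R S P b * jLin R S P v + jLin R S P v * jLin R S P b) := by abel
      _ = 0 := by rw [ha, hb, add_zero]

lemma jLin_sq (u : S ⊗[R] P) : jLin R S P u * jLin R S P u = 0 := by
  induction u using TensorProduct.induction_on with
  | zero => simp
  | tmul s p =>
    simp only [jLin_tmul, Algebra.TensorProduct.tmul_mul_tmul, ExteriorAlgebra.ι_sq_zero,
      TensorProduct.tmul_zero]
  | add a b ha hb =>
    rw [map_add, mul_add, add_mul, add_mul, ha, hb]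
    have := jLin_anticomm R S P a b
    calc _ = jLin R S P a * jLin R S P b + jLin R S P b * jLin R S P a := by abel
      _ = 0 := this

/-- The comparison map of exterior algebras under base change. -/
noncomputable def J : ExteriorAlgebra S (S ⊗[R] P) →ₐ[S] S ⊗[R] ExteriorAlgebra R P :=
  ExteriorAlgebra.lift S ⟨jLin R S P, jLin_sq R S P⟩

@[simp] lemma J_ι (u : S ⊗[R] P) : J R S P (ExteriorAlgebra.ι S u) = jLin R S P u := by
  simp [J]

lemma prod_ofFn_tmul {B : Type*} [Ring B] [Algebra R B] :
    ∀ (n : ℕ) (s : Fin n → S) (b : Fin n → B),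
      (List.ofFn fun i => (s i ⊗ₜ[R] b i : S ⊗[R] B)).prod =
        (List.ofFn s).prod ⊗ₜ[R] (List.ofFn b).prod := by
  intro n
  induction n with
  | zero => intro s b; simp [Algebra.TensorProduct.one_def]
  | succ n ih =>
    intro s b
    rw [List.ofFn_succ, List.prod_cons, List.ofFn_succ, List.prod_cons, List.ofFn_succ,
      List.prod_cons, ih, Algebra.TensorProduct.tmul_mul_tmul]

lemma J_ιMulti (n : ℕ) (s : Fin n → S) (p : Fin n → P) :
    J R S P (ExteriorAlgebra.ιMulti S n fun i => s i ⊗ₜ[R] p i) =
      (List.ofFn s).prod ⊗ₜ[R] ExteriorAlgebra.ιMulti R n p := by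
  rw [ExteriorAlgebra.ιMulti_apply, map_list_prod, List.map_ofFn, ExteriorAlgebra.ιMulti_apply,
    ← prod_ofFn_tmul]
  congr 2
  funext i
  simp

end J

end Groth.Agent.Lib.DiffTrH3
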