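import Mathlib
import Groth.Agent.Lib.DiffTr1_helper3

/-!
# Derivations out of `R[x]/(x^p - a)` in characteristic `p` (helper3)
-/

set_option autoImplicit false

open Polynomial TensorProduct TrivSqZeroExt

namespace Groth.Agent.Lib.DiffTrH3

universe u

variable {Λ R : Type u} [CommRing Λ] [CommRing R] [Algebra Λ R]

lemma eval₂_eq {T : Type*} [CommRing T] (j : R →+* T) (y : T) (p : ℕ) (a : R) (g : R[X])
    (hg : g = X ^ p - C a) : g.eval₂ j y = y ^ p - j a := by
  subst hg
  rw [eval₂_sub, eval₂_pow, eval₂_X, eval₂_C]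

/-- A derivation `d` of `R` with values in a module `G` over `S = R[x]/(x^p - a)`, with `d a = 0`
and `p = 0` in `S`, extends to a derivation of `S` with any prescribed value on the root. -/
theorem exists_derivation (p : ℕ) (a : R) (f : R[X]) (hf : f = X ^ p - C a) (G : Type*) [AddCommGroup G]
    [Module (AdjoinRoot f) G] [Module Λ G]
    [IsScalarTower Λ (AdjoinRoot f) G]
    (hp : (p : AdjoinRoot f) = 0)
    (d : R →+ G)
    (d_mul : ∀ r r' : R, d (r * r') =
      AdjoinRoot.of f r • d r' + AdjoinRoot.of f r' • d r)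
    (d_alg : ∀ l : Λ, d (algebraMap Λ R l) = 0) (hda : d a = 0) (θ : G) :
    ∃ D : Derivation Λ (AdjoinRoot f) G,
      (∀ r : R, D (AdjoinRoot.of f r) = d r) ∧
        D (AdjoinRoot.root f) = θ := by
  let _ : Module (AdjoinRoot f)ᵐᵒᵖ G :=
    Module.compHom G ((RingHom.id (AdjoinRoot f)).fromOpposite fun _ _ => mul_comm _ _)
  have : IsCentralScalar (AdjoinRoot f) G := ⟨fun s g => rfl⟩
  have d1 : d 1 = 0 := by
    have := d_alg 1
    rwa [map_one] at this
  let i : R →+* TrivSqZeroExt (AdjoinRoot f) G :=
    { toFun := fun r => inl (AdjoinRoot.of f r) + inr (d r)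
      map_one' := by
        apply TrivSqZeroExt.ext
        · simp
        · simp [d1]
      map_mul' := by
        intro r r'
        apply TrivSqZeroExt.ext
        · simp
        · simp only [snd_add, snd_inl, snd_inr, zero_add, snd_mul, fst_add, fst_inl, fst_inr,
            add_zero, op_smul_eq_smul]
          exact d_mul r r'
      map_zero' := by
        apply TrivSqZeroExt.ext
        · simp
        · simp
      map_add' := by
        intro r r'
        apply TrivSqZeroExt.ext
        · simp
        · simp }
  have hi : ∀ r, i r = inl (AdjoinRoot.of f r) + inr (d r) := fun r => rfl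
  let x₀ : TrivSqZeroExt (AdjoinRoot f) G := inl (AdjoinRoot.root f) + inr θ
  have hroot : AdjoinRoot.root f ^ p = AdjoinRoot.of f a := by
    have := AdjoinRoot.eval₂_root f
    rw [eval₂_eq _ _ p a f hf, sub_eq_zero] at this
    exact this
  have h0 : f.eval₂ i x₀ = 0 := by
    rw [eval₂_eq _ _ p a f hf]
    apply TrivSqZeroExt.ext
    · rw [fst_sub, fst_pow, hi]
      simp only [x₀, fst_add, fst_inl, fst_inr, add_zero, fst_zero]
      rw [hroot, sub_self]
    · rw [snd_sub, snd_pow, hi]
      simp only [x₀, snd_add, snd_inl, snd_inr, zero_add, fst_add, fst_inl, fst_inr, add_zero,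
        snd_zero, hda, sub_zero]
      rw [← Nat.cast_smul_eq_nsmul (AdjoinRoot f), hp, zero_smul]
  let φ : AdjoinRoot f →+* TrivSqZeroExt (AdjoinRoot f) G := AdjoinRoot.lift i x₀ h0
  have hφof : ∀ r, φ (AdjoinRoot.of f r) = i r := fun r => AdjoinRoot.lift_of h0
  have hφroot : φ (AdjoinRoot.root f) = x₀ := AdjoinRoot.lift_root h0
  have hfst : ∀ s, (φ s).fst = s := by
    have : (fstHom (AdjoinRoot f) (AdjoinRoot f) G).toRingHom.comp φ = RingHom.id _ := by
      apply AdjoinRoot.ringHom_ext
      · ext r
        simp only [RingHom.comp_apply, RingHom.id_apply]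
        rw [hφof, hi]
        simp
      · simp only [RingHom.comp_apply, RingHom.id_apply]
        rw [hφroot]
        simp [x₀]
    intro s
    have h2 := congrArg (fun g => g s) this
    simpa using h2
  have hDalg : ∀ l : Λ, (φ (algebraMap Λ (AdjoinRoot f) l)).snd = 0 := by
    intro l
    rw [AdjoinRoot.algebraMap_eq', RingHom.comp_apply, hφof, hi]
    simp [d_alg]
  refine ⟨{ toFun := fun s => (φ s).snd
            map_add' := by intro x y; simp
            map_smul' := ?_
            map_one_eq_zero' := ?_
            leibniz' := ?_ }, ?_, ?_⟩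
  · intro l s
    simp only [RingHom.id_apply]
    rw [Algebra.smul_def, map_mul, snd_mul, hfst, hDalg, op_smul_eq_smul, smul_zero, add_zero,
      algebraMap_smul]
  · show (φ 1).snd = 0
    rw [map_one, snd_one]
  · intro s s'
    show (φ (s * s')).snd = s • (φ s').snd + s' • (φ s).snd
    rw [map_mul, snd_mul, hfst, hfst, op_smul_eq_smul]
  · intro r
    show (φ (AdjoinRoot.of f r)).snd = d r
    rw [hφof, hi]
    simp
  · show (φ (AdjoinRoot.root f)).snd = θ
    rw [hφroot]
    simp [x₀]

end Groth.Agent.Lib.DiffTrH3
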