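import Mathlib
import Groth.Agent.Lib.DiffTr1_helper3
import Groth.Agent.Lib.DiffTr2_helper3

/-!
# The trace on differential forms for `R[x]/(x^p - a)` (helper3)
-/

set_option autoImplicit false

open Polynomial TensorProduct

namespace Groth.Agent.Lib.DiffTrH3

universe u

section R

variable (Λ R : Type u) [CommRing Λ] [CommRing R] [Algebra Λ R] (a : R) (t : ℕ)

/-- `Ω_R / R·da`. -/
abbrev Obar : Type u := Ω[R⁄Λ] ⧸ Submodule.span R {KaehlerDifferential.D Λ R a}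

/-- `(Ω_R / R·da) × R`. -/
abbrev PP : Type u := Obar Λ R a × R

/-- `η ↦ da ∧ η_1 ∧ … ∧ η_t`. -/
noncomputable def A0' : Ω[R⁄Λ] [⋀^Fin t]→ₗ[R] ⋀[R]^(t + 1) (Ω[R⁄Λ]) :=
  (exteriorPower.ιMulti R (t + 1)).curryLeft (KaehlerDifferential.D Λ R a)

lemma A0'_apply (v : Fin t → Ω[R⁄Λ]) :
    A0' Λ R a t v = exteriorPower.ιMulti R (t + 1) (Matrix.vecCons (KaehlerDifferential.D Λ R a) v) :=
  rfl

lemma A0'_vanish (v : Fin t → Ω[R⁄Λ]) (i : Fin t)
    (h : (Submodule.span R {KaehlerDifferential.D Λ R a}).mkQ (v i) = 0) : A0' Λ R a t v = 0 := by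
  rw [Submodule.mkQ_apply, Submodule.Quotient.mk_eq_zero, Submodule.mem_span_singleton] at h
  obtain ⟨r, hr⟩ := h
  rw [A0'_apply]
  rw [← Function.update_eq_self i.succ (Matrix.vecCons (KaehlerDifferential.D Λ R a) v)]
  rw [Matrix.cons_val_succ, ← hr, AlternatingMap.map_update_smul]
  rw [AlternatingMap.map_eq_zero_of_eq _ _ (i := 0) (j := i.succ) _ (Fin.succ_ne_zero i).symm,
    smul_zero]
  rw [Function.update_self, Function.update_of_ne (Fin.succ_ne_zero i).symm]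
  rfl

lemma exists_A0 : ∃ B : (Obar Λ R a) [⋀^Fin t]→ₗ[R] ⋀[R]^(t + 1) (Ω[R⁄Λ]),
    ∀ v : Fin t → Ω[R⁄Λ],
      B (fun i => (Submodule.span R {KaehlerDifferential.D Λ R a}).mkQ (v i)) =
        exteriorPower.ιMulti R (t + 1) (Matrix.vecCons (KaehlerDifferential.D Λ R a) v) :=
  exists_descend _ (Submodule.mkQ_surjective _) (A0' Λ R a t) (A0'_vanish Λ R a t)

/-- the descended alternating map on `Ω_R / R·da`. -/
noncomputable def A0 : (Obar Λ R a) [⋀^Fin t]→ₗ[R] ⋀[R]^(t + 1) (Ω[R⁄Λ]) :=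
  Classical.choose (exists_A0 Λ R a t)

lemma A0_apply (v : Fin t → Ω[R⁄Λ]) :
    A0 Λ R a t (fun i => (Submodule.span R {KaehlerDifferential.D Λ R a}).mkQ (v i)) =
      exteriorPower.ιMulti R (t + 1) (Matrix.vecCons (KaehlerDifferential.D Λ R a) v) :=
  Classical.choose_spec (exists_A0 Λ R a t) v

/-- the alternating map on `(Ω_R / R·da) × R` picking the part linear in the second coordinate. -/
noncomputable def A1 : (PP Λ R a) [⋀^Fin (t + 1)]→ₗ[R] ⋀[R]^(t + 1) (Ω[R⁄Λ]) :=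
  AlternatingMap.alternatizeUncurryFin
    ((LinearMap.snd R (Obar Λ R a) R).smulRight
      ((A0 Λ R a t).compLinearMap (LinearMap.fst R (Obar Λ R a) R)))

lemma A1_apply (v : Fin (t + 1) → PP Λ R a) :
    A1 Λ R a t v = ∑ k : Fin (t + 1), (-1 : ℤ) ^ (k : ℕ) •
      ((v k).2 • A0 Λ R a t (fun j => (Fin.removeNth k v j).1)) := by
  rw [A1, AlternatingMap.alternatizeUncurryFin_apply]
  rfl

lemma A1_of_snd_eq_zero (v : Fin (t + 1) → PP Λ R a) (h : ∀ k, (v k).2 = 0) :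
    A1 Λ R a t v = 0 := by
  rw [A1_apply]
  apply Finset.sum_eq_zero
  intro k _
  rw [h k, zero_smul, smul_zero]

lemma A1_snoc (η : Fin t → Ω[R⁄Λ]) :
    A1 Λ R a t (Fin.snoc (α := fun _ => PP Λ R a)
      (fun j => ((Submodule.span R {KaehlerDifferential.D Λ R a}).mkQ (η j), (0 : R)))
      ((0 : Obar Λ R a), (1 : R))) =
      exteriorPower.ιMulti R (t + 1) (Fin.snoc η (KaehlerDifferential.D Λ R a)) := by
  rw [A1_apply, Fin.sum_univ_castSucc]
  rw [Finset.sum_eq_zero, zero_add]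
  · rw [Fin.snoc_last, one_smul, Fin.removeNth_last, Fin.init_snoc, Fin.val_last]
    simp only []
    rw [A0_apply]
    have h1 : (Fin.snoc η (KaehlerDifferential.D Λ R a) : Fin (t + 1) → Ω[R⁄Λ]) =
        (Matrix.vecCons (KaehlerDifferential.D Λ R a) η) ∘ (finRotate (t + 1)) := by
      rw [Fin.snoc_eq_cons_rotate]
      rfl
    rw [h1, AlternatingMap.map_perm, sign_finRotate, Nat.add_sub_cancel]
    rw [Units.smul_def]
    simp
  · intro k _
    rw [Fin.snoc_castSucc]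
    simp

end R

section S

variable (p : ℕ) [hpp : Fact p.Prime] (Λ R : Type u) [CommRing Λ] [CommRing R] [Algebra Λ R]
  [CharP R p] (a : R) (t : ℕ)

lemma monic_f : (X ^ p - C a : R[X]).Monic := monic_X_pow_sub_C a hpp.out.ne_zero

lemma natDegree_f : (X ^ p - C a : R[X]).natDegree = p := by
  haveI : Nontrivial R := CharP.nontrivial_of_char_ne_one (R := R) hpp.out.one_lt.ne'
  exact natDegree_X_pow_sub_C

lemma dim_pb : (AdjoinRoot.powerBasis' (monic_f p R a)).dim = p := by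
  rw [AdjoinRoot.powerBasis'_dim, natDegree_f]

/-- The coefficient of `x^(p-1)`. -/
noncomputable def cTop : AdjoinRoot (X ^ p - C a : R[X]) →ₗ[R] R :=
  (AdjoinRoot.powerBasis' (monic_f p R a)).basis.coord
    ⟨p - 1, by rw [dim_pb]; exact Nat.sub_lt hpp.out.pos one_pos⟩

lemma cTop_pow (i : ℕ) (hi : i < p) :
    cTop p R a (AdjoinRoot.root (X ^ p - C a : R[X]) ^ i) = if i = p - 1 then 1 else 0 := by
  have h1 : AdjoinRoot.root (X ^ p - C a : R[X]) ^ i =
      (AdjoinRoot.powerBasis' (monic_f p R a)).basis ⟨i, by rw [dim_pb]; exact hi⟩ := by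
    rw [PowerBasis.basis_eq_pow, AdjoinRoot.powerBasis'_gen]
  rw [h1, cTop, Module.Basis.coord_apply, Module.Basis.repr_self, Finsupp.single_apply]
  simp only [Fin.mk.injEq]

/-- `s ⊗ n ↦ c_{p-1}(s) n`. -/
noncomputable def lidc :
    AdjoinRoot (X ^ p - C a : R[X]) ⊗[R] (⋀[R]^(t + 1) (Ω[R⁄Λ])) →ₗ[R] ⋀[R]^(t + 1) (Ω[R⁄Λ]) :=
  (TensorProduct.lid R _).toLinearMap ∘ₗ (cTop p R a).rTensor _

lemma lidc_tmul (s : AdjoinRoot (X ^ p - C a : R[X])) (n : ⋀[R]^(t + 1) (Ω[R⁄Λ])) :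
    lidc p Λ R a t (s ⊗ₜ n) = cTop p R a s • n := by
  simp [lidc]

/-- `η ↦ 1 ⊗ (η̄, 0)`. -/
noncomputable def lin : Ω[R⁄Λ] →ₗ[R] AdjoinRoot (X ^ p - C a : R[X]) ⊗[R] PP Λ R a :=
  (TensorProduct.mk R (AdjoinRoot (X ^ p - C a : R[X])) (PP Λ R a) 1) ∘ₗ
    (LinearMap.inl R (Obar Λ R a) R) ∘ₗ (Submodule.span R {KaehlerDifferential.D Λ R a}).mkQ

lemma lin_apply (η : Ω[R⁄Λ]) :
    lin p Λ R a η = (1 : AdjoinRoot (X ^ p - C a : R[X])) ⊗ₜ[R]
      (((Submodule.span R {KaehlerDifferential.D Λ R a}).mkQ η, (0 : R)) : PP Λ R a) := rfl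

lemma exists_D : ∃ D : Derivation Λ (AdjoinRoot (X ^ p - C a : R[X]))
      (AdjoinRoot (X ^ p - C a : R[X]) ⊗[R] PP Λ R a),
    (∀ r : R, D (AdjoinRoot.of (X ^ p - C a : R[X]) r) = lin p Λ R a (KaehlerDifferential.D Λ R r)) ∧
      D (AdjoinRoot.root (X ^ p - C a : R[X])) =
        (1 : AdjoinRoot (X ^ p - C a : R[X])) ⊗ₜ[R] (((0 : Obar Λ R a), (1 : R)) : PP Λ R a) := by
  have hp0 : (p : AdjoinRoot (X ^ p - C a : R[X])) = 0 := by
    have : (p : R) = 0 := CharP.cast_eq_zero R p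
    rw [← map_natCast (algebraMap R (AdjoinRoot (X ^ p - C a : R[X]))), this, map_zero]
  refine exists_derivation (Λ := Λ) p a (X ^ p - C a : R[X]) rfl _ hp0
    (AddMonoidHom.mk' (fun r => lin p Λ R a (KaehlerDifferential.D Λ R r))
      (by intro x y; rw [map_add, map_add])) ?_ ?_ ?_ _
  · intro r r'
    simp only [AddMonoidHom.mk'_apply]
    rw [Derivation.leibniz, map_add, map_smul, map_smul, ← AdjoinRoot.algebraMap_eq, algebraMap_smul,
      algebraMap_smul]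
  · intro l
    simp only [AddMonoidHom.mk'_apply]
    rw [Derivation.map_algebraMap, map_zero]
  · simp only [AddMonoidHom.mk'_apply]
    rw [lin_apply]
    have : (Submodule.span R {KaehlerDifferential.D Λ R a}).mkQ (KaehlerDifferential.D Λ R a) = 0 := by
      rw [Submodule.mkQ_apply, Submodule.Quotient.mk_eq_zero]
      exact Submodule.mem_span_singleton_self _
    rw [this, Prod.mk_zero_zero, TensorProduct.tmul_zero]

/-- The main theorem: the trace on differential forms. -/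
theorem main7357 :
    ∃ Tr : (⋀[AdjoinRoot (X ^ p - C a : R[X])]^(t + 1) (Ω[AdjoinRoot (X ^ p - C a : R[X])⁄Λ])) →+ (⋀[R]^(t + 1) (Ω[R⁄Λ])),
      (∀ (r : R) (ω : ⋀[AdjoinRoot (X ^ p - C a : R[X])]^(t + 1) (Ω[AdjoinRoot (X ^ p - C a : R[X])⁄Λ])),
        Tr (algebraMap R (AdjoinRoot (X ^ p - C a : R[X])) r • ω) = r • Tr ω) ∧
      (∀ (η : Fin t → Ω[R⁄Λ]) (i : ℕ), i + 2 ≤ p →
        Tr (exteriorPower.ιMulti _ (t + 1) (Fin.snoc (fun j => KaehlerDifferential.map Λ Λ R (AdjoinRoot (X ^ p - C a : R[X])) (η j))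
          (AdjoinRoot.root (X ^ p - C a) ^ i • KaehlerDifferential.D Λ _ (AdjoinRoot.root (X ^ p - C a))))) = 0) ∧
      (∀ (η : Fin t → Ω[R⁄Λ]),
        Tr (exteriorPower.ιMulti _ (t + 1) (Fin.snoc (fun j => KaehlerDifferential.map Λ Λ R (AdjoinRoot (X ^ p - C a : R[X])) (η j))
          (AdjoinRoot.root (X ^ p - C a) ^ (p - 1) • KaehlerDifferential.D Λ _ (AdjoinRoot.root (X ^ p - C a))))) =
          exteriorPower.ιMulti R (t + 1) (Fin.snoc η (KaehlerDifferential.D Λ R a))) ∧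
      (∀ (s : AdjoinRoot (X ^ p - C a : R[X])) (η : Fin (t + 1) → Ω[R⁄Λ]),
        Tr (s • exteriorPower.ιMulti _ (t + 1) (fun j => KaehlerDifferential.map Λ Λ R (AdjoinRoot (X ^ p - C a : R[X])) (η j))) = 0) := by
  classical
  obtain ⟨D, hDof, hDroot⟩ := exists_D p Λ R a
  -- the linear map `ρ`
  let ρ : Ω[AdjoinRoot (X ^ p - C a : R[X])⁄Λ] →ₗ[AdjoinRoot (X ^ p - C a : R[X])]
      AdjoinRoot (X ^ p - C a : R[X]) ⊗[R] PP Λ R a := D.liftKaehlerDifferential
  have hρD : ∀ s, ρ (KaehlerDifferential.D Λ _ s) = D s := fun s =>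
    Derivation.liftKaehlerDifferential_comp_D D s
  have hρmap : ∀ η : Ω[R⁄Λ],
      ρ (KaehlerDifferential.map Λ Λ R (AdjoinRoot (X ^ p - C a : R[X])) η) = lin p Λ R a η := by
    have : (ρ.restrictScalars R) ∘ₗ
        (KaehlerDifferential.map Λ Λ R (AdjoinRoot (X ^ p - C a : R[X]))) = lin p Λ R a := by
      apply LinearMap.ext_on (KaehlerDifferential.span_range_derivation Λ R)
      rintro _ ⟨r, rfl⟩
      simp only [LinearMap.comp_apply, LinearMap.restrictScalars_apply]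
      rw [KaehlerDifferential.map_D, hρD, AdjoinRoot.algebraMap_eq, hDof]
    intro η
    exact congrArg (fun g => g η) this
  -- the extraction map on the exterior algebra
  let fam : ∀ i, (PP Λ R a) [⋀^Fin i]→ₗ[R] ⋀[R]^(t + 1) (Ω[R⁄Λ]) := fun i =>
    if h : i = t + 1 then h ▸ A1 Λ R a t else 0
  let ψ : ExteriorAlgebra R (PP Λ R a) →ₗ[R] ⋀[R]^(t + 1) (Ω[R⁄Λ]) :=
    ExteriorAlgebra.liftAlternating fam
  have hψ : ∀ v : Fin (t + 1) → PP Λ R a,
      ψ (ExteriorAlgebra.ιMulti R (t + 1) v) = A1 Λ R a t v := by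
    intro v
    rw [ExteriorAlgebra.liftAlternating_apply_ιMulti]
    simp [fam]
  -- the S-linear part
  let TS : (⋀[AdjoinRoot (X ^ p - C a : R[X])]^(t + 1) (Ω[AdjoinRoot (X ^ p - C a : R[X])⁄Λ]))
      →ₗ[AdjoinRoot (X ^ p - C a : R[X])]
        AdjoinRoot (X ^ p - C a : R[X]) ⊗[R] (⋀[R]^(t + 1) (Ω[R⁄Λ])) :=
    (ψ.baseChange (AdjoinRoot (X ^ p - C a : R[X]))) ∘ₗ
      (J R (AdjoinRoot (X ^ p - C a : R[X])) (PP Λ R a)).toLinearMap ∘ₗ
      (ExteriorAlgebra.map ρ).toLinearMap ∘ₗ (Submodule.subtype _)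
  have hTS : ∀ (v : Fin (t + 1) → Ω[AdjoinRoot (X ^ p - C a : R[X])⁄Λ])
      (s : Fin (t + 1) → AdjoinRoot (X ^ p - C a : R[X])) (pp : Fin (t + 1) → PP Λ R a),
      (∀ k, ρ (v k) = s k ⊗ₜ[R] pp k) →
      TS (exteriorPower.ιMulti _ (t + 1) v) = (List.ofFn s).prod ⊗ₜ[R] A1 Λ R a t pp := by
    intro v s pp h
    simp only [TS, LinearMap.comp_apply, Submodule.subtype_apply, exteriorPower.ιMulti_apply_coe,
      AlgHom.toLinearMap_apply, ExteriorAlgebra.map_apply_ιMulti]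
    have : (ρ ∘ v) = fun k => s k ⊗ₜ[R] pp k := funext h
    rw [this, J_ιMulti, LinearMap.baseChange_tmul, hψ]
  -- the evaluation on `η ∧ x^i dx`
  have hsnoc : ∀ (η : Fin t → Ω[R⁄Λ]) (i : ℕ),
      TS (exteriorPower.ιMulti _ (t + 1)
        (Fin.snoc (fun j => KaehlerDifferential.map Λ Λ R (AdjoinRoot (X ^ p - C a : R[X])) (η j))
          (AdjoinRoot.root (X ^ p - C a) ^ i •
            KaehlerDifferential.D Λ _ (AdjoinRoot.root (X ^ p - C a))))) =
        (AdjoinRoot.root (X ^ p - C a : R[X]) ^ i) ⊗ₜ[R]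
          exteriorPower.ιMulti R (t + 1) (Fin.snoc η (KaehlerDifferential.D Λ R a)) := by
    intro η i
    rw [hTS _ (Fin.snoc (α := fun _ => AdjoinRoot (X ^ p - C a : R[X])) (fun _ => 1)
        (AdjoinRoot.root (X ^ p - C a : R[X]) ^ i))
      (Fin.snoc (α := fun _ => PP Λ R a)
        (fun j => ((Submodule.span R {KaehlerDifferential.D Λ R a}).mkQ (η j), (0 : R)))
        ((0 : Obar Λ R a), (1 : R)))]
    · rw [A1_snoc, List.ofFn_succ', List.concat_eq_append, List.prod_append]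
      simp only [Fin.snoc_castSucc, Fin.snoc_last, List.prod_cons, List.prod_nil, mul_one]
      rw [List.ofFn_const, List.prod_replicate, one_pow, one_mul]
    · intro k
      refine Fin.lastCases ?_ (fun j => ?_) k
      · rw [Fin.snoc_last, Fin.snoc_last, Fin.snoc_last, map_smul, hρD, hDroot,
          TensorProduct.smul_tmul', smul_eq_mul, mul_one]
      · rw [Fin.snoc_castSucc, Fin.snoc_castSucc, Fin.snoc_castSucc, hρmap, lin_apply]
  refine ⟨(lidc p Λ R a t).toAddMonoidHom.comp TS.toAddMonoidHom, ?_, ?_, ?_, ?_⟩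
  · intro r ω
    simp only [AddMonoidHom.comp_apply, LinearMap.toAddMonoidHom_coe]
    rw [map_smul, algebraMap_smul, map_smul]
  · intro η i hi
    simp only [AddMonoidHom.comp_apply, LinearMap.toAddMonoidHom_coe]
    rw [hsnoc, lidc_tmul, cTop_pow p R a i (by omega), if_neg (by omega), zero_smul]
  · intro η
    simp only [AddMonoidHom.comp_apply, LinearMap.toAddMonoidHom_coe]
    rw [hsnoc, lidc_tmul, cTop_pow p R a (p - 1) (Nat.sub_lt hpp.out.pos one_pos), if_pos rfl,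
      one_smul]
  · intro s η
    simp only [AddMonoidHom.comp_apply, LinearMap.toAddMonoidHom_coe]
    rw [map_smul, hTS _ (fun _ => 1)
      (fun j => ((Submodule.span R {KaehlerDifferential.D Λ R a}).mkQ (η j), (0 : R)))
      (fun k => by rw [hρmap, lin_apply]),
      A1_of_snd_eq_zero Λ R a t _ (fun k => rfl), TensorProduct.tmul_zero, smul_zero, map_zero]

end S

end Groth.Agent.Lib.DiffTrH3
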