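import Mathlib
import Groth.Prelude.Def_Omega3

/-! Universal first order thickenings: formal unramifiedness and differentials (S9427). -/

open TensorProduct

namespace Groth.Agent.Lib.UnivThickKaehler

universe u

theorem one_tmul_smul {T S X : Type*} [CommRing T] [CommRing S] [Algebra T S] [AddCommGroup X]
    [Module T X] (t : T) (x : X) :
    (1 : S) ⊗ₜ[T] (t • x) = algebraMap T S t • ((1 : S) ⊗ₜ[T] x) := by
  rw [TensorProduct.smul_tmul', smul_eq_mul, mul_one, ← TensorProduct.smul_tmul,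
    Algebra.smul_def, mul_one]

section Gen

variable {A B B' : Type u} [CommRing A] [CommRing B] [CommRing B'] [Algebra A B] [Algebra A B']
  (π : B' →ₐ[A] B)

theorem eq_of_univ (hsurj : Function.Surjective π)
    (huniv : ∀ (C : Type u) [CommRing C] [Algebra A C] (I : Ideal C), I ^ 2 = ⊥ →
      ∀ a : B →ₐ[A] C ⧸ I, ∃! a' : B' →ₐ[A] C, (Ideal.Quotient.mkₐ A I).comp a' = a.comp π)
    {C : Type u} [CommRing C] [Algebra A C] (N : Ideal C) (hN : N ^ 2 = ⊥)
    (g₁ g₂ : B' →ₐ[A] C) (hK : ∀ x, π x = 0 → g₁ x ∈ N) (hmod : ∀ x, g₁ x - g₂ x ∈ N) :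
    g₁ = g₂ := by
  have H : RingHom.ker π.toRingHom ≤
      RingHom.ker ((Ideal.Quotient.mkₐ A N).comp g₁).toRingHom := by
    intro x hx
    rw [RingHom.mem_ker] at hx ⊢
    exact Ideal.Quotient.eq_zero_iff_mem.mpr (hK x hx)
  let a := AlgHom.liftOfSurjective π hsurj ((Ideal.Quotient.mkₐ A N).comp g₁) H
  have ha : a.comp π = (Ideal.Quotient.mkₐ A N).comp g₁ := AlgHom.liftOfSurjective_comp _ _ _ _
  have h12 : (Ideal.Quotient.mkₐ A N).comp g₂ = (Ideal.Quotient.mkₐ A N).comp g₁ := by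
    ext x
    exact (Ideal.Quotient.eq.mpr (hmod x)).symm
  exact (huniv C N hN a).unique ha.symm (h12.trans ha.symm)

theorem part1 (h : OmegaSh.IsUnivThickeningRing A B B' π) : Algebra.FormallyUnramified A B' := by
  obtain ⟨hsurj, hK2, huniv⟩ := h
  rw [Algebra.FormallyUnramified.iff_comp_injective]
  intro C _ _ I hI f₁ f₂ e
  have hmod : ∀ x, f₁ x - f₂ x ∈ I := fun x => by
    have h1 : Ideal.Quotient.mk I (f₁ x) = Ideal.Quotient.mk I (f₂ x) := DFunLike.congr_fun e x
    exact Ideal.Quotient.eq.mp h1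
  obtain ⟨L, hLdef⟩ : ∃ L : Ideal C, L = (RingHom.ker π.toRingHom).map f₁.toRingHom := ⟨_, rfl⟩
  have hL2 : L ^ 2 = ⊥ := by
    rw [hLdef, ← Ideal.map_pow, hK2, Ideal.map_bot]
  have hKL : ∀ x, π x = 0 → f₁ x ∈ L := fun x hx => by
    rw [hLdef]
    exact Ideal.mem_map_of_mem f₁.toRingHom (RingHom.mem_ker.mpr hx)
  obtain ⟨J, hJdef⟩ : ∃ J : Ideal C, J = I ⊔ L := ⟨_, rfl⟩
  have hIJ : I ≤ J := by rw [hJdef]; exact le_sup_left
  have hLJ : L ≤ J := by rw [hJdef]; exact le_sup_right
  have hII : I * I = ⊥ := by rw [← pow_two]; exact hI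
  have hLL : L * L = ⊥ := by rw [← pow_two]; exact hL2
  have hJJ : J * J ≤ I * L := by
    rw [hJdef, Ideal.sup_mul, Ideal.mul_sup, Ideal.mul_sup, hII, hLL, Ideal.mul_comm L I]
    simp
  have hJ3 : J * J * J = ⊥ := by
    apply le_bot_iff.mp
    calc J * J * J ≤ I * L * J := Ideal.mul_mono_left hJJ
      _ = I * L * I ⊔ I * L * L := by rw [hJdef, Ideal.mul_sup]
      _ = ⊥ := by
          rw [mul_assoc I L L, hLL, Ideal.mul_bot, mul_right_comm I L I, hII, Ideal.bot_mul]
          simp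
  have hJJJ : J * J ≤ J := Ideal.mul_le_right
  -- Step A: `f₁ ≡ f₂` modulo `J * J`
  have hA : ∀ x, f₁ x - f₂ x ∈ J * J := by
    have hNbar : (J.map (Ideal.Quotient.mk (J * J))) ^ 2 = ⊥ := by
      rw [pow_two, ← Ideal.map_mul, Ideal.map_quotient_self]
    have hg := eq_of_univ π hsurj huniv (J.map (Ideal.Quotient.mk (J * J))) hNbar
      ((Ideal.Quotient.mkₐ A (J * J)).comp f₁) ((Ideal.Quotient.mkₐ A (J * J)).comp f₂)
      (fun x hx => Ideal.mem_map_of_mem (Ideal.Quotient.mk (J * J)) (hLJ (hKL x hx)))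
      (fun x => by
        have h2 := Ideal.mem_map_of_mem (Ideal.Quotient.mk (J * J)) (hIJ (hmod x))
        rw [map_sub] at h2
        exact h2)
    intro x
    have h1 : Ideal.Quotient.mk (J * J) (f₁ x) = Ideal.Quotient.mk (J * J) (f₂ x) :=
      DFunLike.congr_fun hg x
    exact Ideal.Quotient.eq.mp h1
  -- Step B
  have hN : (L ⊔ J * J) ^ 2 = ⊥ := by
    apply le_bot_iff.mp
    rw [pow_two, Ideal.sup_mul, Ideal.mul_sup, Ideal.mul_sup, hLL]
    refine sup_le (sup_le bot_le ?_) (sup_le ?_ ?_)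
    · calc L * (J * J) ≤ J * (J * J) := Ideal.mul_mono_left hLJ
        _ = J * J * J := (mul_assoc _ _ _).symm
        _ = ⊥ := hJ3
    · calc J * J * L ≤ J * J * J := Ideal.mul_mono_right hLJ
        _ = ⊥ := hJ3
    · calc J * J * (J * J) ≤ J * J * J := Ideal.mul_mono_right hJJJ
        _ = ⊥ := hJ3
  exact eq_of_univ π hsurj huniv (L ⊔ J * J) hN f₁ f₂
    (fun x hx => (le_sup_left : L ≤ L ⊔ J * J) (hKL x hx))
    (fun x => (le_sup_right : J * J ≤ L ⊔ J * J) (hA x))

theorem exists_derivation_ext (h : OmegaSh.IsUnivThickeningRing A B B' π)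
    (M : Type u) [AddCommGroup M] [Module B M]
    (δ : A →+ M)
    (hδ : ∀ a a', δ (a * a') = algebraMap A B a • δ a' + algebraMap A B a' • δ a) :
    ∃ D : B' →+ M, (∀ x y, D (x * y) = π x • D y + π y • D x) ∧
      ∀ a, D (algebraMap A B' a) = δ a := by
  obtain ⟨hsurj, hK2, huniv⟩ := h
  letI : Module Bᵐᵒᵖ M := Module.compHom M ((RingHom.id B).fromOpposite mul_comm)
  haveI : IsCentralScalar B M := ⟨fun r m => rfl⟩
  have hδ1 : δ 1 = 0 := by
    have := hδ 1 1
    have h1 : algebraMap A B (1 : A) = 1 := map_one _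
    rw [mul_one, h1, one_smul] at this
    simpa using this
  let ρ : A →+* TrivSqZeroExt B M :=
    { toFun := fun a => TrivSqZeroExt.inl (algebraMap A B a) + TrivSqZeroExt.inr (δ a)
      map_one' := by
        rw [map_one, hδ1, TrivSqZeroExt.inr_zero, add_zero, TrivSqZeroExt.inl_one]
      map_mul' := fun a a' => by
        apply TrivSqZeroExt.ext
        · simp [TrivSqZeroExt.fst_mul]
        · simp [TrivSqZeroExt.snd_mul, hδ]
      map_zero' := by
        rw [map_zero, map_zero, TrivSqZeroExt.inl_zero, TrivSqZeroExt.inr_zero, add_zero]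
      map_add' := fun a a' => by
        rw [map_add, map_add, TrivSqZeroExt.inl_add, TrivSqZeroExt.inr_add]
        abel }
  have hρ : ∀ a, ρ a = TrivSqZeroExt.inl (algebraMap A B a) + TrivSqZeroExt.inr (δ a) :=
    fun a => rfl
  letI algC : Algebra A (TrivSqZeroExt B M) := ρ.toAlgebra
  let I : Ideal (TrivSqZeroExt B M) :=
    { carrier := {x | x.fst = 0}
      add_mem' := fun {x y} hx hy => by
        have hx' : x.fst = 0 := hx
        have hy' : y.fst = 0 := hy
        show (x + y).fst = 0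
        rw [TrivSqZeroExt.fst_add, hx', hy', add_zero]
      zero_mem' := TrivSqZeroExt.fst_zero
      smul_mem' := fun c x hx => by
        have hx' : x.fst = 0 := hx
        show (c * x).fst = 0
        rw [TrivSqZeroExt.fst_mul, hx', mul_zero] }
  have hImem : ∀ x : TrivSqZeroExt B M, x ∈ I ↔ x.fst = 0 := fun x => Iff.rfl
  have hI : I ^ 2 = ⊥ := by
    rw [pow_two, eq_bot_iff, Ideal.mul_le]
    intro x hx y hy
    rw [Ideal.mem_bot]
    have hx' : x.fst = 0 := hx
    have hy' : y.fst = 0 := hy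
    apply TrivSqZeroExt.ext
    · rw [TrivSqZeroExt.fst_mul, hx', zero_mul, TrivSqZeroExt.fst_zero]
    · rw [TrivSqZeroExt.snd_mul, hx', hy', MulOpposite.op_zero, zero_smul, zero_smul, add_zero,
        TrivSqZeroExt.snd_zero]
  let a : B →ₐ[A] (TrivSqZeroExt B M ⧸ I) :=
    { toRingHom := (Ideal.Quotient.mk I).comp (TrivSqZeroExt.inlHom B M)
      commutes' := fun r => by
        show Ideal.Quotient.mk I (TrivSqZeroExt.inl (algebraMap A B r)) =
          Ideal.Quotient.mk I (ρ r)
        rw [Ideal.Quotient.eq, hImem, hρ]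
        simp }
  obtain ⟨a', ha', -⟩ := @huniv (TrivSqZeroExt B M) _ algC I hI a
  have hfst : ∀ x, (a' x).fst = π x := fun x => by
    have h2 : Ideal.Quotient.mk I (a' x) = Ideal.Quotient.mk I (TrivSqZeroExt.inl (π x)) :=
      DFunLike.congr_fun ha' x
    rw [Ideal.Quotient.eq, hImem, TrivSqZeroExt.fst_sub, TrivSqZeroExt.fst_inl, sub_eq_zero] at h2
    exact h2
  refine ⟨⟨⟨fun x => (a' x).snd, by
      show (a' 0).snd = 0
      rw [map_zero, TrivSqZeroExt.snd_zero]⟩,
    fun x y => by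
      show (a' (x + y)).snd = (a' x).snd + (a' y).snd
      rw [map_add, TrivSqZeroExt.snd_add]⟩, ?_, ?_⟩
  · intro x y
    show (a' (x * y)).snd = π x • (a' y).snd + π y • (a' x).snd
    rw [map_mul, TrivSqZeroExt.snd_mul, hfst, hfst, op_smul_eq_smul]
  · intro a₀
    show (a' (algebraMap A B' a₀)).snd = δ a₀
    rw [a'.commutes]
    show (ρ a₀).snd = δ a₀
    rw [hρ]
    simp

end Gen

theorem main
    (R : Type u) [CommRing R] (A : Type u) [CommRing A] [Algebra R A] (B : Type u) [CommRing B]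
    [Algebra A B] (B' : Type u) [CommRing B'] [Algebra A B']
    [Algebra R B'] [IsScalarTower R A B'] [Algebra B' B] [IsScalarTower A B' B]
    (h : OmegaSh.IsUnivThickeningRing A B B' (IsScalarTower.toAlgHom A B' B)) :
    Algebra.FormallyUnramified A B' ∧
      Function.Bijective ((KaehlerDifferential.mapBaseChange R A B').baseChange B) := by
  have hfu : Algebra.FormallyUnramified A B' := part1 _ h
  refine ⟨hfu, ?_, ?_⟩
  · -- injectivity: construct a retraction
    let δ : A →+ B ⊗[B'] (B' ⊗[A] Ω[A⁄R]) :=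
      { toFun := fun a => (1 : B) ⊗ₜ[B'] ((1 : B') ⊗ₜ[A] KaehlerDifferential.D R A a)
        map_zero' := by rw [map_zero, TensorProduct.tmul_zero, TensorProduct.tmul_zero]
        map_add' := fun a a' => by
          rw [map_add, TensorProduct.tmul_add, TensorProduct.tmul_add] }
    have hδdef : ∀ a, δ a = (1 : B) ⊗ₜ[B'] ((1 : B') ⊗ₜ[A] KaehlerDifferential.D R A a) :=
      fun a => rfl
    have key : ∀ (a : A) (ω : Ω[A⁄R]),
        (1 : B) ⊗ₜ[B'] ((1 : B') ⊗ₜ[A] (a • ω)) =
          algebraMap A B a • ((1 : B) ⊗ₜ[B'] ((1 : B') ⊗ₜ[A] ω)) := fun a ω => by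
      rw [one_tmul_smul, one_tmul_smul, ← IsScalarTower.algebraMap_apply]
    have hδ : ∀ a a', δ (a * a') = algebraMap A B a • δ a' + algebraMap A B a' • δ a :=
      fun a a' => by
      rw [hδdef, hδdef, hδdef, Derivation.leibniz, TensorProduct.tmul_add, TensorProduct.tmul_add,
        key, key]
    obtain ⟨D₀, hD₀mul, hD₀alg⟩ :=
      exists_derivation_ext (IsScalarTower.toAlgHom A B' B) h _ δ hδ
    letI modR : Module R (B ⊗[B'] (B' ⊗[A] Ω[A⁄R])) := Module.compHom _ (algebraMap R B')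
    haveI : IsScalarTower R B' (B ⊗[B'] (B' ⊗[A] Ω[A⁄R])) :=
      IsScalarTower.of_algebraMap_smul fun r x => rfl
    have hD₀R : ∀ r : R, D₀ (algebraMap R B' r) = 0 := fun r => by
      rw [IsScalarTower.algebraMap_apply R A B' r, hD₀alg, hδdef, Derivation.map_algebraMap,
        TensorProduct.tmul_zero, TensorProduct.tmul_zero]
    have hD₀mul' : ∀ x y : B', D₀ (x * y) = x • D₀ y + y • D₀ x := fun x y => by
      rw [hD₀mul, IsScalarTower.toAlgHom_apply, IsScalarTower.toAlgHom_apply, algebraMap_smul,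
        algebraMap_smul]
    let Dlin : B' →ₗ[R] B ⊗[B'] (B' ⊗[A] Ω[A⁄R]) :=
      { toFun := D₀
        map_add' := map_add D₀
        map_smul' := fun r x => by
          rw [RingHom.id_apply, Algebra.smul_def, hD₀mul', hD₀R, smul_zero, add_zero]
          rfl }
    let Dd : Derivation R B' (B ⊗[B'] (B' ⊗[A] Ω[A⁄R])) := Derivation.mk' Dlin hD₀mul'
    have hDd : ∀ x, Dd x = D₀ x := fun x => rfl
    let ψ₀ : B ⊗[B'] Ω[B'⁄R] →ₗ[B] B ⊗[B'] (B' ⊗[A] Ω[A⁄R]) :=
      LinearMap.liftBaseChange B Dd.liftKaehlerDifferential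
    have hψ₀ : ∀ (b : B) (ω' : Ω[B'⁄R]), ψ₀ (b ⊗ₜ[B'] ω') = b • Dd.liftKaehlerDifferential ω' :=
      fun _ _ => rfl
    have hφ : ∀ (b : B) (y : B' ⊗[A] Ω[A⁄R]),
        (KaehlerDifferential.mapBaseChange R A B').baseChange B (b ⊗ₜ[B'] y) =
          b ⊗ₜ[B'] KaehlerDifferential.mapBaseChange R A B' y :=
      fun b y => LinearMap.baseChange_tmul _ _ _
    have hgen : ∀ a : A, ψ₀ ((KaehlerDifferential.mapBaseChange R A B').baseChange B
        ((1 : B) ⊗ₜ[B'] ((1 : B') ⊗ₜ[A] KaehlerDifferential.D R A a))) =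
        (1 : B) ⊗ₜ[B'] ((1 : B') ⊗ₜ[A] KaehlerDifferential.D R A a) := fun a => by
      rw [hφ, KaehlerDifferential.mapBaseChange_tmul, one_smul, KaehlerDifferential.map_D, hψ₀,
        one_smul, Derivation.liftKaehlerDifferential_comp_D, hDd, hD₀alg, hδdef]
    have hω : ∀ ω : Ω[A⁄R], ψ₀ ((KaehlerDifferential.mapBaseChange R A B').baseChange B
        ((1 : B) ⊗ₜ[B'] ((1 : B') ⊗ₜ[A] ω))) = (1 : B) ⊗ₜ[B'] ((1 : B') ⊗ₜ[A] ω) := by
      intro ω
      have hmem : ω ∈ Submodule.span A (Set.range (KaehlerDifferential.D R A)) := by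
        rw [KaehlerDifferential.span_range_derivation]; trivial
      induction hmem using Submodule.span_induction with
      | mem x hx => obtain ⟨a, rfl⟩ := hx; exact hgen a
      | zero => rw [TensorProduct.tmul_zero, TensorProduct.tmul_zero, map_zero, map_zero]
      | add x y _ _ hx hy =>
        rw [TensorProduct.tmul_add, TensorProduct.tmul_add, map_add, map_add, hx, hy]
      | smul a x _ hx => rw [key a x, map_smul, map_smul, hx]
    have hy : ∀ y : B' ⊗[A] Ω[A⁄R], ψ₀ ((KaehlerDifferential.mapBaseChange R A B').baseChange B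
        ((1 : B) ⊗ₜ[B'] y)) = (1 : B) ⊗ₜ[B'] y := by
      intro y
      induction y using TensorProduct.induction_on with
      | zero => rw [TensorProduct.tmul_zero, map_zero, map_zero]
      | tmul b' ω =>
        have h1 : b' ⊗ₜ[A] ω = b' • ((1 : B') ⊗ₜ[A] ω) := by
          rw [TensorProduct.smul_tmul', smul_eq_mul, mul_one]
        rw [h1, one_tmul_smul, map_smul, map_smul, hω]
      | add x y hx hy => rw [TensorProduct.tmul_add, map_add, map_add, hx, hy]
    have hz : ∀ z, ψ₀ ((KaehlerDifferential.mapBaseChange R A B').baseChange B z) = z := by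
      intro z
      induction z using TensorProduct.induction_on with
      | zero => rw [map_zero, map_zero]
      | tmul b y =>
        have h1 : b ⊗ₜ[B'] y = b • ((1 : B) ⊗ₜ[B'] y) := by
          rw [TensorProduct.smul_tmul', smul_eq_mul, mul_one]
        rw [h1, map_smul, map_smul, hy]
      | add x y hx hy => rw [map_add, map_add, hx, hy]
    exact Function.LeftInverse.injective hz
  · -- surjectivity
    have hs : Function.Surjective (KaehlerDifferential.mapBaseChange R A B') := by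
      intro x
      have hex := KaehlerDifferential.exact_mapBaseChange_map R A B'
      exact (hex x).mp (Subsingleton.elim _ _)
    rw [LinearMap.baseChange_eq_ltensor]
    exact LinearMap.lTensor_surjective B hs

end Groth.Agent.Lib.UnivThickKaehler
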