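import Mathlib
import Groth.Prelude.Def_Omega3

/-! Universal first order thickening of a formally unramified algebra (S9426). -/

open TensorProduct

namespace Groth.Agent.Lib.UnivThick

universe u

variable (R : Type u) [CommRing R] (S : Type u) [CommRing S] [Algebra R S]

/-- The presentation of `S` by the polynomial ring on all its elements. -/
noncomputable abbrev sig : MvPolynomial S R →ₐ[R] S := MvPolynomial.aeval (fun s : S => s)

theorem sig_X (s : S) : sig R S (MvPolynomial.X s) = s := MvPolynomial.aeval_X _ _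

theorem sig_surj : Function.Surjective (sig R S) := fun s => ⟨MvPolynomial.X s, sig_X R S s⟩

theorem exists_G [Algebra.FormallyUnramified R S] (s : S) :
    ∃ G ∈ RingHom.ker (sig R S),
      KaehlerDifferential.D R (MvPolynomial S R) G -
        KaehlerDifferential.D R (MvPolynomial S R) (MvPolynomial.X s) ∈
      (RingHom.ker (sig R S)) •
        (⊤ : Submodule (MvPolynomial S R) Ω[MvPolynomial S R⁄R]) := by
  let e₀ : (MvPolynomial S R ⧸ RingHom.ker (sig R S)) ≃ₐ[R] S :=
    Ideal.quotientKerAlgEquivOfSurjective (sig_surj R S)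
  haveI : Algebra.FormallyUnramified R (MvPolynomial S R ⧸ RingHom.ker (sig R S)) :=
    Algebra.FormallyUnramified.of_equiv e₀.symm
  have hsurj : Function.Surjective
      (algebraMap (MvPolynomial S R) (MvPolynomial S R ⧸ RingHom.ker (sig R S))) :=
    Ideal.Quotient.mk_surjective
  have hex := KaehlerDifferential.exact_kerCotangentToTensor_mapBaseChange R (MvPolynomial S R)
    (MvPolynomial S R ⧸ RingHom.ker (sig R S)) hsurj
  have h0 : KaehlerDifferential.mapBaseChange R (MvPolynomial S R)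
      (MvPolynomial S R ⧸ RingHom.ker (sig R S))
      ((1 : MvPolynomial S R ⧸ RingHom.ker (sig R S)) ⊗ₜ[MvPolynomial S R]
        KaehlerDifferential.D R (MvPolynomial S R) (MvPolynomial.X s)) = 0 :=
    Subsingleton.elim _ _
  obtain ⟨c, hc⟩ := (hex _).1 h0
  obtain ⟨⟨G, hG⟩, rfl⟩ := Ideal.toCotangent_surjective _ c
  rw [KaehlerDifferential.kerCotangentToTensor_toCotangent] at hc
  have hGJ : G ∈ RingHom.ker (sig R S) := by
    have h1 : Ideal.Quotient.mk (RingHom.ker (sig R S)) G = 0 := RingHom.mem_ker.1 hG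
    exact Ideal.Quotient.eq_zero_iff_mem.1 h1
  refine ⟨G, hGJ, ?_⟩
  have h2 := congrArg (TensorProduct.quotTensorEquivQuotSMul Ω[MvPolynomial S R⁄R]
    (RingHom.ker (sig R S))) hc
  rw [TensorProduct.quotTensorEquivQuotSMul_mk_one_tmul,
    TensorProduct.quotTensorEquivQuotSMul_mk_one_tmul] at h2
  exact (Submodule.Quotient.eq _).1 h2

/-- Chosen elements `G s` of the kernel with `d(G s) ≡ d(X s)` modulo the kernel. -/
noncomputable def G [Algebra.FormallyUnramified R S] (s : S) : MvPolynomial S R :=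
  Classical.choose (exists_G R S s)

theorem G_mem [Algebra.FormallyUnramified R S] (s : S) : G R S s ∈ RingHom.ker (sig R S) :=
  (Classical.choose_spec (exists_G R S s)).1

theorem G_diff [Algebra.FormallyUnramified R S] (s : S) :
    KaehlerDifferential.D R (MvPolynomial S R) (G R S s) -
        KaehlerDifferential.D R (MvPolynomial S R) (MvPolynomial.X s) ∈
      (RingHom.ker (sig R S)) •
        (⊤ : Submodule (MvPolynomial S R) Ω[MvPolynomial S R⁄R]) :=
  (Classical.choose_spec (exists_G R S s)).2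

theorem key_diff [Algebra.FormallyUnramified R S] {A : Type u} [CommRing A] [Algebra R A]
    (I : Ideal A) (hI : I ^ 2 = ⊥) (a : S →ₐ[R] A ⧸ I) (ψ₁ ψ₂ : MvPolynomial S R →ₐ[R] A)
    (e₁ : (Ideal.Quotient.mkₐ R I).comp ψ₁ = a.comp (sig R S))
    (e₂ : (Ideal.Quotient.mkₐ R I).comp ψ₂ = a.comp (sig R S)) (s : S) :
    ψ₂ (G R S s) - ψ₁ (G R S s) = ψ₂ (MvPolynomial.X s) - ψ₁ (MvPolynomial.X s) := by
  letI : Algebra (MvPolynomial S R) A := ψ₁.toRingHom.toAlgebra
  haveI : IsScalarTower R (MvPolynomial S R) A :=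
    IsScalarTower.of_algebraMap_eq (fun r => (ψ₁.commutes r).symm)
  have e : (Ideal.Quotient.mkₐ R I).comp ψ₂ =
      IsScalarTower.toAlgHom R (MvPolynomial S R) (A ⧸ I) := by
    rw [e₂, ← e₁]
    refine AlgHom.ext fun x => ?_
    rfl
  let δ : Derivation R (MvPolynomial S R) I := derivationToSquareZeroOfLift I hI ψ₂ e
  have hδ : ∀ x, ((δ x : I) : A) = ψ₂ x - ψ₁ x := fun x =>
    derivationToSquareZeroOfLift_apply I hI ψ₂ e x
  have hJI : ∀ F ∈ RingHom.ker (sig R S), ψ₁ F ∈ I := by
    intro F hF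
    have h1 := AlgHom.congr_fun e₁ F
    rw [AlgHom.comp_apply, AlgHom.comp_apply, RingHom.mem_ker.1 hF, map_zero] at h1
    exact Ideal.Quotient.eq_zero_iff_mem.1 h1
  have hkill : ∀ ω ∈ (RingHom.ker (sig R S)) •
      (⊤ : Submodule (MvPolynomial S R) Ω[MvPolynomial S R⁄R]),
      δ.liftKaehlerDifferential ω = 0 := by
    intro ω hω
    refine Submodule.smul_induction_on hω ?_ ?_
    · intro F hF m _
      rw [map_smul]
      apply Subtype.ext
      rw [Submodule.coe_smul_of_tower, Algebra.smul_def, Submodule.coe_zero]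
      have h1 : ψ₁ F * ((δ.liftKaehlerDifferential m : I) : A) ∈ I ^ 2 := by
        rw [pow_two]
        exact Ideal.mul_mem_mul (hJI F hF) (δ.liftKaehlerDifferential m).2
      rw [hI] at h1
      exact Ideal.mem_bot.1 h1
    · intro x y hx hy
      rw [map_add, hx, hy, add_zero]
  have h3 := hkill _ (G_diff R S s)
  rw [map_sub, Derivation.liftKaehlerDifferential_comp_D,
    Derivation.liftKaehlerDifferential_comp_D, sub_eq_zero] at h3
  have h4 := congrArg (fun y : I => (y : A)) h3
  simp only [hδ] at h4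
  exact h4

theorem main [Algebra.FormallyUnramified R S] :
    ∃ (S' : Type u) (_ : CommRing S') (_ : Algebra R S') (π : S' →ₐ[R] S),
      OmegaSh.IsUnivThickeningRing R S S' π := by
  classical
  let J : Ideal (MvPolynomial S R) := RingHom.ker (sig R S)
  let J' : Ideal (MvPolynomial S R) := J ^ 2 ⊔ Ideal.span (Set.range (G R S))
  have hJ'J : J' ≤ J := sup_le (Ideal.pow_le_self two_ne_zero)
    (Ideal.span_le.2 (by rintro _ ⟨s, rfl⟩; exact G_mem R S s))
  let π : (MvPolynomial S R ⧸ J') →ₐ[R] S :=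
    Ideal.Quotient.liftₐ J' (sig R S) (fun x hx => RingHom.mem_ker.1 (hJ'J hx))
  have hπ : ∀ F : MvPolynomial S R, π (Ideal.Quotient.mk J' F) = sig R S F := fun F => rfl
  refine ⟨MvPolynomial S R ⧸ J', inferInstance, inferInstance, π, ?_, ?_, ?_⟩
  · intro s
    exact ⟨Ideal.Quotient.mk J' (MvPolynomial.X s), by rw [hπ, sig_X]⟩
  · have hker : RingHom.ker π.toRingHom ≤ Ideal.map (Ideal.Quotient.mk J') J := by
      intro x hx
      obtain ⟨F, rfl⟩ := Ideal.Quotient.mk_surjective x
      have h1 : sig R S F = 0 := RingHom.mem_ker.1 hx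
      exact Ideal.mem_map_of_mem _ (RingHom.mem_ker.2 h1)
    rw [eq_bot_iff]
    calc RingHom.ker π.toRingHom ^ 2 ≤ (Ideal.map (Ideal.Quotient.mk J') J) ^ 2 :=
          Ideal.pow_right_mono hker 2
      _ = Ideal.map (Ideal.Quotient.mk J') (J ^ 2) := (Ideal.map_pow _ _ _).symm
      _ ≤ Ideal.map (Ideal.Quotient.mk J') J' := Ideal.map_mono le_sup_left
      _ = ⊥ := Ideal.map_quotient_self J'
  · intro A _ _ I hI a
    have hch : ∀ s : S, ∃ x : A, Ideal.Quotient.mk I x = a s := fun s =>
      Ideal.Quotient.mk_surjective (a s)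
    let ψ₁ : MvPolynomial S R →ₐ[R] A := MvPolynomial.aeval (fun s => Classical.choose (hch s))
    have e₁ : (Ideal.Quotient.mkₐ R I).comp ψ₁ = a.comp (sig R S) := by
      apply MvPolynomial.algHom_ext
      intro s
      simp only [AlgHom.comp_apply, ψ₁, MvPolynomial.aeval_X, Ideal.Quotient.mkₐ_eq_mk]
      exact Classical.choose_spec (hch s)
    have hG₁ : ∀ s, ψ₁ (G R S s) ∈ I := by
      intro s
      have h1 := AlgHom.congr_fun e₁ (G R S s)
      rw [AlgHom.comp_apply, AlgHom.comp_apply, RingHom.mem_ker.1 (G_mem R S s), map_zero] at h1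
      exact Ideal.Quotient.eq_zero_iff_mem.1 h1
    let ψ₂ : MvPolynomial S R →ₐ[R] A :=
      MvPolynomial.aeval (fun s => ψ₁ (MvPolynomial.X s) - ψ₁ (G R S s))
    have e₂ : (Ideal.Quotient.mkₐ R I).comp ψ₂ = a.comp (sig R S) := by
      rw [← e₁]
      apply MvPolynomial.algHom_ext
      intro s
      simp only [AlgHom.comp_apply, ψ₂, MvPolynomial.aeval_X, Ideal.Quotient.mkₐ_eq_mk, map_sub]
      rw [Ideal.Quotient.eq_zero_iff_mem.2 (hG₁ s), sub_zero]
    have hG₂ : ∀ s, ψ₂ (G R S s) = 0 := by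
      intro s
      have h := key_diff R S I hI a ψ₁ ψ₂ e₁ e₂ s
      have hX : ψ₂ (MvPolynomial.X s) = ψ₁ (MvPolynomial.X s) - ψ₁ (G R S s) :=
        MvPolynomial.aeval_X _ _
      rw [hX] at h
      linear_combination h
    have hJ₂ : ∀ F ∈ J, ψ₂ F ∈ I := by
      intro F hF
      have h1 := AlgHom.congr_fun e₂ F
      rw [AlgHom.comp_apply, AlgHom.comp_apply, RingHom.mem_ker.1 hF, map_zero] at h1
      exact Ideal.Quotient.eq_zero_iff_mem.1 h1
    have hkill : ∀ F ∈ J', ψ₂ F = 0 := by
      have hle : J' ≤ RingHom.ker ψ₂ := by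
        refine sup_le ?_ (Ideal.span_le.2 ?_)
        · intro F hF
          have h1 : ψ₂ F ∈ Ideal.map ψ₂ (J ^ 2) := Ideal.mem_map_of_mem _ hF
          rw [Ideal.map_pow] at h1
          have h2 : Ideal.map ψ₂ J ≤ I := Ideal.map_le_iff_le_comap.2 (fun F hF => hJ₂ F hF)
          have h3 := Ideal.pow_right_mono h2 2 h1
          rw [hI] at h3
          exact RingHom.mem_ker.2 (Ideal.mem_bot.1 h3)
        · rintro _ ⟨s, rfl⟩
          exact RingHom.mem_ker.2 (hG₂ s)
      exact fun F hF => RingHom.mem_ker.1 (hle hF)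
    let a' : (MvPolynomial S R ⧸ J') →ₐ[R] A := Ideal.Quotient.liftₐ J' ψ₂ hkill
    refine ⟨a', ?_, ?_⟩
    · apply Ideal.Quotient.algHom_ext R
      refine AlgHom.ext fun F => ?_
      exact AlgHom.congr_fun e₂ F
    · intro b hb
      apply Ideal.Quotient.algHom_ext R
      have E₁ : (Ideal.Quotient.mkₐ R I).comp (a'.comp (Ideal.Quotient.mkₐ R J')) =
          a.comp (sig R S) := by
        refine AlgHom.ext fun F => ?_
        exact AlgHom.congr_fun e₂ F
      have E₂ : (Ideal.Quotient.mkₐ R I).comp (b.comp (Ideal.Quotient.mkₐ R J')) =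
          a.comp (sig R S) := by
        refine AlgHom.ext fun F => ?_
        have h1 := AlgHom.congr_fun hb (Ideal.Quotient.mk J' F)
        exact h1
      have hzero : ∀ s, Ideal.Quotient.mk J' (G R S s) = 0 := fun s =>
        Ideal.Quotient.eq_zero_iff_mem.2 (le_sup_right (a := J ^ 2)
          (Ideal.subset_span ⟨s, rfl⟩))
      apply MvPolynomial.algHom_ext
      intro s
      have h := key_diff R S I hI a (a'.comp (Ideal.Quotient.mkₐ R J'))
        (b.comp (Ideal.Quotient.mkₐ R J')) E₁ E₂ s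
      simp only [AlgHom.comp_apply, Ideal.Quotient.mkₐ_eq_mk, hzero, map_zero, sub_zero] at h
      exact (sub_eq_zero.1 h.symm)

end Groth.Agent.Lib.UnivThick
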