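import Mathlib
import Groth.Prelude.Def_MoreMor
import Groth.Prelude.Def_Omega3
import Groth.Agent.Lib.UnivThickSch1_helper7
import Groth.Agent.Lib.UnivThick_lead
import Groth.Agent.Lib.UnivThickKaehler_lead

/-!
# Universal first order thickenings of schemes: the affine case — helper7

For a formally unramified ring map `A → B` with ring-level universal first order thickening
`B' → B`, the pair `(Spec B → Spec B', Spec B' → Spec A)` is a universal first order thickening of
schemes (tested against all first order thickenings of schemes).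
-/

set_option autoImplicit false
universe u
open CategoryTheory CategoryTheory.Limits AlgebraicGeometry

namespace Groth.Agent.Lib.UnivThickSch2_helper7

open Groth.Agent.Lib.FormalEtale_helper7 Groth.Agent.Lib.Thickening_helper7
  Groth.Agent.Lib.UnivThickSch1_helper7

/-- `Spec` of a surjection with square-zero kernel is a first order thickening. -/
lemma fot_SpecMap {R S : Type u} [CommRing R] [CommRing S] (ψ : R →+* S)
    (hs : Function.Surjective ψ) (hk : RingHom.ker ψ ^ 2 = ⊥) :
    MoreMor.IsFirstOrderThickening (Spec.map (CommRingCat.ofHom ψ)) := by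
  let e : (R ⧸ RingHom.ker ψ) ≃+* S := RingHom.quotientKerEquivOfSurjective hs
  have hfac : CommRingCat.ofHom ψ =
      CommRingCat.ofHom (Ideal.Quotient.mk (RingHom.ker ψ)) ≫ e.toCommRingCatIso.hom := by
    ext x
    rfl
  rw [hfac, Spec.map_comp]
  exact fot_iso_comp _ _ (fot_thk _ hk)

/-- Local solutions of the lifting problem against a ring-level universal thickening, over an
affine open of the test thickening. -/
lemma exists_isLocSol_of_affine_univ {A B : CommRingCat.{u}} (φ : A ⟶ B) (B' : Type u)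
    [CommRing B'] (σ : A ⟶ CommRingCat.of B') (π : CommRingCat.of B' ⟶ B)
    (huniv : ∀ (C : Type u) [CommRing C] (K : Ideal C), K ^ 2 = ⊥ →
        ∀ (β : A ⟶ CommRingCat.of C) (α : B ⟶ CommRingCat.of (C ⧸ K)),
          β ≫ CommRingCat.ofHom (Ideal.Quotient.mk K) = φ ≫ α →
          ∃ a' : CommRingCat.of B' ⟶ CommRingCat.of C,
            a' ≫ CommRingCat.ofHom (Ideal.Quotient.mk K) = π ≫ α ∧ σ ≫ a' = β)
    {T T' : Scheme.{u}} (t : T ⟶ T') [IsClosedImmersion t] (hsq : t.ker ^ 2 = ⊥)
    (a : T ⟶ Spec B) (b : T' ⟶ Spec A) (w : t ≫ b = a ≫ Spec.map φ)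
    {C : Type u} [CommRing C] (v : Spec (CommRingCat.of C) ⟶ T') [IsOpenImmersion v] :
    ∃ g : Spec (CommRingCat.of C) ⟶ Spec (CommRingCat.of B'),
      IsLocSol t (a ≫ Spec.map π) b (Spec.map σ) v g := by
  obtain ⟨K, e, he⟩ := IsClosedImmersion.Spec_iff.1
    (inferInstance : IsClosedImmersion (pullback.snd t v))
  have he' : pullback.snd t v = e.hom ≫ thk K := he
  have hK : K ^ 2 = ⊥ := by
    apply pow_zero_of_ker_thk
    have h1 := ker_pow_eq_bot_of_isPullback_of_isOpenImmersion t v
      (pullback.snd t v) (pullback.fst t v) (IsPullback.of_hasPullback t v).flip hsq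
    rw [he', Scheme.Hom.ker_comp_of_isIso] at h1
    exact h1
  have hthk : thk K = e.inv ≫ pullback.snd t v := by
    rw [he', Iso.inv_hom_id_assoc]
  have comm : thk K ≫ (v ≫ b) = (e.inv ≫ pullback.fst t v ≫ a) ≫ Spec.map φ := by
    rw [hthk, Category.assoc, ← pullback.condition_assoc, w]
    simp only [Category.assoc]
  let β : A ⟶ CommRingCat.of C := Spec.preimage (v ≫ b)
  let α : B ⟶ CommRingCat.of (C ⧸ K) := Spec.preimage (e.inv ≫ pullback.fst t v ≫ a)
  have hβ : Spec.map β = v ≫ b := Spec.map_preimage _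
  have hα : Spec.map α = e.inv ≫ pullback.fst t v ≫ a := Spec.map_preimage _
  have hcomm : β ≫ CommRingCat.ofHom (Ideal.Quotient.mk K) = φ ≫ α := by
    apply Spec.map_injective
    rw [Spec.map_comp, Spec.map_comp, hβ, hα]
    exact comm
  obtain ⟨a', ha'1, ha'2⟩ := huniv C K hK β α hcomm
  refine ⟨Spec.map a', ⟨?_, ?_⟩⟩
  · have h3 : thk K ≫ Spec.map a' = (e.inv ≫ pullback.fst t v ≫ a) ≫ Spec.map π := by
      rw [← hα, ← Spec.map_comp, ← Spec.map_comp, ha'1]
    rw [he', Category.assoc, h3]
    simp only [Category.assoc, Iso.hom_inv_id_assoc]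
  · rw [← Spec.map_comp, ha'2, hβ]

/-- The affine case: a formally unramified ring map has a universal first order thickening of
schemes. -/
theorem exists_isUnivThickening_Spec {A B : CommRingCat.{u}} (φ : A ⟶ B)
    (hφ : φ.hom.FormallyUnramified) :
    ∃ (Z' : Scheme.{u}) (i : Spec B ⟶ Z') (h' : Z' ⟶ Spec A),
      OmegaSh.IsUnivThickening (Spec.map φ) i h' := by
  letI : Algebra A B := φ.hom.toAlgebra
  haveI : Algebra.FormallyUnramified A B := hφ
  obtain ⟨B', _, _, π, hπ⟩ := Groth.Agent.Lib.UnivThick.main A B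
  obtain ⟨hπs, hπk, hπu⟩ := hπ
  let πc : CommRingCat.of B' ⟶ B := CommRingCat.ofHom π.toRingHom
  let σc : A ⟶ CommRingCat.of B' := CommRingCat.ofHom (algebraMap A B')
  have hσπ : σc ≫ πc = φ := by
    ext x
    exact π.commutes x
  have hfu : FormallyUnramified (Spec.map σc) := by
    letI : Algebra B' B := π.toRingHom.toAlgebra
    haveI : IsScalarTower A B' B :=
      IsScalarTower.of_algebraMap_eq (fun x => (π.commutes x).symm)
    have hπ' : OmegaSh.IsUnivThickeningRing A B B' (IsScalarTower.toAlgHom A B' B) := by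
      have : IsScalarTower.toAlgHom A B' B = π := AlgHom.ext fun _ => rfl
      rw [this]
      exact ⟨hπs, hπk, hπu⟩
    have h1 := (Groth.Agent.Lib.UnivThickKaehler.main A A B B' hπ').1
    exact (HasRingHomProperty.Spec_iff (P := @FormallyUnramified)).2
      (RingHom.formallyUnramified_algebraMap.2 h1)
  have huniv : ∀ (C : Type u) [CommRing C] (K : Ideal C), K ^ 2 = ⊥ →
      ∀ (β : A ⟶ CommRingCat.of C) (α : B ⟶ CommRingCat.of (C ⧸ K)),
        β ≫ CommRingCat.ofHom (Ideal.Quotient.mk K) = φ ≫ α →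
        ∃ a' : CommRingCat.of B' ⟶ CommRingCat.of C,
          a' ≫ CommRingCat.ofHom (Ideal.Quotient.mk K) = πc ≫ α ∧ σc ≫ a' = β := by
    intro C _ K hK β α hcomm
    letI : Algebra A C := β.hom.toAlgebra
    let αA : B →ₐ[A] C ⧸ K :=
      { α.hom with
        commutes' := fun x => by
          have := congr($hcomm x)
          exact this.symm }
    obtain ⟨a', ha', -⟩ := hπu C K hK αA
    refine ⟨CommRingCat.ofHom a'.toRingHom, ?_, ?_⟩
    · ext x
      exact congr($ha' x)
    · ext x
      exact a'.commutes x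
  refine ⟨Spec (.of B'), Spec.map πc, Spec.map σc, ?_, ?_, ?_⟩
  · exact fot_SpecMap π.toRingHom hπs hπk
  · rw [← Spec.map_comp, hσπ]
  · intro T T' t b a ht hw
    haveI := hfu
    haveI : IsClosedImmersion t := ht.1.1
    have hsq : t.ker ^ 2 = ⊥ := by rw [pow_two]; exact ht.2
    refine existsUnique_lift_of_local (Spec.map σc) t ht (a ≫ Spec.map πc) b ?_
    intro y
    obtain ⟨_, ⟨V, hV, rfl⟩, hyV, -⟩ :=
      T'.isBasis_affineOpens.exists_subset_of_mem_open (Set.mem_univ y) isOpen_univ
    refine ⟨V, hyV, ?_⟩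
    obtain ⟨g₀, hg₀⟩ := exists_isLocSol_of_affine_univ φ B' σc πc huniv t hsq a b hw
      (C := Γ(T', V)) hV.fromSpec
    have s := (hg₀.restrict hV.isoSpec.hom).congr hV.isoSpec_hom_fromSpec
    refine ⟨hV.isoSpec.hom ≫ g₀, ?_, s.bot⟩
    rw [← cancel_epi (pullbackRestrictIsoRestrict t V).hom,
      pullbackRestrictIsoRestrict_hom_morphismRestrict_assoc,
      pullbackRestrictIsoRestrict_hom_ι_assoc]
    exact s.top

end Groth.Agent.Lib.UnivThickSch2_helper7
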