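import Mathlib
import Groth.Prelude
import Groth.Agent.Lib.UnivThickSch2_helper7

/-!
# From scheme-level to ring-level universal first order thickenings (helper7)

For a universal first order thickening `(i : Z ⟶ Z', h' : Z' ⟶ X)` of `h : Z ⟶ X`, an affine open
`U'` of `Z'` and an affine open `V` of `X` containing `h'(U')`, the ring `Γ(Z', U')` is a universal
first order thickening of `Γ(Z, i⁻¹U')` over `Γ(X, V)` in the ring-level sense.
APPEND-ONLY once landed.
-/

set_option autoImplicit false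
set_option linter.style.haveILetI false

universe u

open CategoryTheory AlgebraicGeometry

namespace Groth.Agent.Lib.UnivThickRingH7

open Groth.Agent.Lib.FormalEtale_helper7 Groth.Agent.Lib.Thickening_helper7
  Groth.Agent.Lib.UnivThickSch1_helper7 Groth.Agent.Lib.UnivThickSch2_helper7

/-- Descending the base along a monomorphism. -/
theorem isUnivThickening_of_comp_mono {X Y Z Z' : Scheme.{u}} {h : Z ⟶ Y} {i : Z ⟶ Z'}
    {h' : Z' ⟶ Y} (j : Y ⟶ X) [Mono j]
    (hu : OmegaSh.IsUnivThickening (h ≫ j) i (h' ≫ j)) : OmegaSh.IsUnivThickening h i h' := by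
  obtain ⟨hi, hic, hu3⟩ := hu
  refine ⟨hi, ?_, ?_⟩
  · rw [← cancel_mono j, Category.assoc]
    exact hic
  · intro T T' t b a ht hw
    have hw' : t ≫ (b ≫ j) = a ≫ (h ≫ j) := by
      rw [← Category.assoc, hw, Category.assoc]
    obtain ⟨a', ⟨h1, h2⟩, hau⟩ := hu3 T T' t (b ≫ j) a ht hw'
    refine ⟨a', ⟨h1, ?_⟩, ?_⟩
    · rw [← cancel_mono j, Category.assoc]
      exact h2
    · rintro a'' ⟨h1', h2'⟩
      exact hau a'' ⟨h1', by rw [← Category.assoc, h2']⟩

/-- Postcomposing a first order thickening with an isomorphism. -/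
lemma fot_comp_iso {Z Z' Z'₁ : Scheme.{u}} (i : Z ⟶ Z') (e : Z' ⟶ Z'₁) [IsIso e]
    (hi : MoreMor.IsFirstOrderThickening i) : MoreMor.IsFirstOrderThickening (i ≫ e) := by
  haveI : IsClosedImmersion (inv e) := inferInstance
  refine fot_of_comp (i ≫ e) (inv e) ?_
  have h1 : (i ≫ e) ≫ inv e = i := by
    rw [Category.assoc, IsIso.hom_inv_id, Category.comp_id]
  rw [h1]
  exact hi

/-- Replacing the thickening by an isomorphic one. -/
theorem isUnivThickening_comp_iso {X Z Z' Z'₁ : Scheme.{u}} {h : Z ⟶ X} {i : Z ⟶ Z'}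
    {h' : Z' ⟶ X} (hu : OmegaSh.IsUnivThickening h i h') (e : Z' ⟶ Z'₁) [IsIso e] :
    OmegaSh.IsUnivThickening h (i ≫ e) (inv e ≫ h') := by
  obtain ⟨hi, hic, hu3⟩ := hu
  refine ⟨fot_comp_iso i e hi, by rw [Category.assoc, IsIso.hom_inv_id_assoc, hic], ?_⟩
  intro T T' t b a ht hw
  obtain ⟨a', ⟨h1, h2⟩, hau⟩ := hu3 T T' t b a ht hw
  refine ⟨a' ≫ e, ⟨?_, ?_⟩, ?_⟩
  · rw [← Category.assoc, h1, Category.assoc]
  · rw [Category.assoc, IsIso.hom_inv_id_assoc, h2]
  · rintro a'' ⟨h1', h2'⟩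
    have h3 : t ≫ (a'' ≫ inv e) = a ≫ i := by
      rw [← Category.assoc, h1']
      simp
    have h4 : (a'' ≫ inv e) ≫ h' = b := by
      rw [Category.assoc]
      exact h2'
    have h5 := hau (a'' ≫ inv e) ⟨h3, h4⟩
    rw [← h5, Category.assoc, IsIso.inv_hom_id, Category.comp_id]

/-- A universal first order thickening of affine schemes gives a ring-level one. -/
theorem isUnivThickeningRing_of_Spec {A B B' : Type u} [CommRing A] [CommRing B] [CommRing B']
    [Algebra A B] [Algebra A B'] [Algebra B' B] [IsScalarTower A B' B]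
    (hsurj : Function.Surjective (algebraMap B' B))
    (hker : RingHom.ker (algebraMap B' B) ^ 2 = ⊥)
    (hu : OmegaSh.IsUnivThickening (Spec.map (CommRingCat.ofHom (algebraMap A B)))
      (Spec.map (CommRingCat.ofHom (algebraMap B' B)))
      (Spec.map (CommRingCat.ofHom (algebraMap A B')))) :
    OmegaSh.IsUnivThickeningRing A B B' (IsScalarTower.toAlgHom A B' B) := by
  refine ⟨hsurj, hker, ?_⟩
  intro C _ _ K hK a
  obtain ⟨-, -, hu3⟩ := hu
  have ht : MoreMor.IsFirstOrderThickening (thk K) := fot_thk K hK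
  have hw : thk K ≫ Spec.map (CommRingCat.ofHom (algebraMap A C)) =
      Spec.map (CommRingCat.ofHom a.toRingHom) ≫
        Spec.map (CommRingCat.ofHom (algebraMap A B)) := by
    rw [← Spec.map_comp, ← Spec.map_comp]
    congr 1
    ext x
    exact (a.commutes x).symm
  obtain ⟨a', ⟨h1, h2⟩, hau⟩ := hu3 _ _ (thk K) (Spec.map (CommRingCat.ofHom (algebraMap A C)))
    (Spec.map (CommRingCat.ofHom a.toRingHom)) ht hw
  let ψ : CommRingCat.of B' ⟶ CommRingCat.of C := Spec.preimage a'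
  have hψ : Spec.map ψ = a' := Spec.map_preimage _
  have e1 : ψ ≫ CommRingCat.ofHom (Ideal.Quotient.mk K) =
      CommRingCat.ofHom (algebraMap B' B) ≫ CommRingCat.ofHom a.toRingHom := by
    apply Spec.map_injective
    rw [Spec.map_comp, Spec.map_comp, hψ]
    exact h1
  have e2 : CommRingCat.ofHom (algebraMap A B') ≫ ψ = CommRingCat.ofHom (algebraMap A C) := by
    apply Spec.map_injective
    rw [Spec.map_comp, hψ]
    exact h2
  let a₁ : B' →ₐ[A] C :=
    { ψ.hom with
      commutes' := fun x => congr($e2 x) }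
  refine ⟨a₁, ?_, ?_⟩
  · ext x
    exact congr($e1 x)
  · intro a₂ ha₂
    have h3 : Spec.map (CommRingCat.ofHom a₂.toRingHom) = a' := by
      apply hau
      refine ⟨?_, ?_⟩
      · show Spec.map (CommRingCat.ofHom (Ideal.Quotient.mk K)) ≫
          Spec.map (CommRingCat.ofHom a₂.toRingHom) = _
        rw [← Spec.map_comp, ← Spec.map_comp]
        congr 1
        ext x
        exact congr($ha₂ x)
      · rw [← Spec.map_comp]
        congr 1
        ext x
        exact a₂.commutes x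
    have h4 : CommRingCat.ofHom a₂.toRingHom = ψ := by
      apply Spec.map_injective
      rw [h3, hψ]
    ext x
    exact congr($h4 x)

/-- The universal thickening over affine opens, in `Spec` form. -/
theorem isUnivThickening_Spec_of_affine {Z Z' X : Scheme.{u}} {h : Z ⟶ X} {i : Z ⟶ Z'}
    {h' : Z' ⟶ X} (hu : OmegaSh.IsUnivThickening h i h') {U' : Z'.Opens} (hU' : IsAffineOpen U')
    (hU : IsAffineOpen (i ⁻¹ᵁ U')) {V : X.Opens} (hV : IsAffineOpen V) (e' : U' ≤ h' ⁻¹ᵁ V)
    (e : i ⁻¹ᵁ U' ≤ h ⁻¹ᵁ V) :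
    OmegaSh.IsUnivThickening (Spec.map (h.appLE V (i ⁻¹ᵁ U') e))
      (Spec.map (i.appLE U' (i ⁻¹ᵁ U') le_rfl)) (Spec.map (h'.appLE V U' e')) := by
  have hu₁ := isUnivThickening_restrict hu U'
  haveI : IsAffine (↑(i ⁻¹ᵁ U') : Scheme.{u}) := hU
  haveI : IsAffine (↑U' : Scheme.{u}) := hU'
  have hu₂ := isUnivThickening_iso_comp hu₁ hU.isoSpec.inv
  have hu₃ := isUnivThickening_comp_iso hu₂ hU'.isoSpec.hom
  have ea : hU.isoSpec.inv ≫ (i ⁻¹ᵁ U').ι ≫ h =
      Spec.map (h.appLE V (i ⁻¹ᵁ U') e) ≫ hV.fromSpec := by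
    rw [← Category.assoc, IsAffineOpen.isoSpec_inv_ι]
    exact (IsAffineOpen.SpecMap_appLE_fromSpec h hV hU e).symm
  have eb : inv hU'.isoSpec.hom ≫ U'.ι ≫ h' = Spec.map (h'.appLE V U' e') ≫ hV.fromSpec := by
    rw [IsIso.Iso.inv_hom, ← Category.assoc, IsAffineOpen.isoSpec_inv_ι]
    exact (IsAffineOpen.SpecMap_appLE_fromSpec h' hV hU' e').symm
  have ec : (hU.isoSpec.inv ≫ i ∣_ U') ≫ hU'.isoSpec.hom =
      Spec.map (i.appLE U' (i ⁻¹ᵁ U') le_rfl) := by
    rw [← cancel_mono hU'.fromSpec, Category.assoc, IsAffineOpen.isoSpec_hom_fromSpec,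
      Category.assoc, morphismRestrict_ι, ← Category.assoc, IsAffineOpen.isoSpec_inv_ι]
    exact (IsAffineOpen.SpecMap_appLE_fromSpec i hU' hU le_rfl).symm
  rw [ea, eb, ec] at hu₃
  exact isUnivThickening_of_comp_mono hV.fromSpec hu₃

end Groth.Agent.Lib.UnivThickRingH7
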