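import Mathlib
import Groth.Prelude
import Groth.Agent.Lib.DiffSeq_helper7
import Groth.Agent.Lib.UnivThickRing_helper7
import Groth.Agent.Lib.UnivThickKaehler_lead

/-!
# Differentials of a universal first order thickening (helper7)

For `h : Z ⟶ X` formally unramified with universal first order thickening `(i, h')` and `X → S`,
the canonical map `(h')^*Ω_{X/S} → Ω_{Z'/S}` becomes an isomorphism after pullback along `i`.
Globalises lead's ring-level `UnivThickKaehler.main`.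
APPEND-ONLY once landed.
-/

set_option autoImplicit false
set_option linter.style.haveILetI false

universe u

open CategoryTheory CategoryTheory.Limits AlgebraicGeometry Opposite TopologicalSpace TensorProduct
open AlgebraicGeometry.Scheme.Modules

namespace Groth.Agent.Lib.DiffUnivThickH7

open Groth.Agent.Lib.OmegaUniv2H4 Groth.Agent.Lib.OmegaResH4 Groth.Agent.Lib.OmegaRecQCH4
open Groth.Agent.Lib.OmegaCompatH4 Groth.Agent.Lib.OmegaCompat2H4
open Groth.Agent.Lib.OmegaAffH4 Groth.Agent.Lib.OmegaUnivH4 Groth.Agent.Lib.ConormOpenH4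
open Groth.Agent.Lib.ConormDiffH4 Groth.Agent.Lib.ConormSeqAlgH4 Groth.Agent.Lib.OmegaSecH4
open Groth.Agent.Lib.ConormSeqH4

section Algebra

open KaehlerDifferential

theorem bijective_section_map {R A B' B M P N PB NB : Type u} [CommRing R] [CommRing A]
    [CommRing B'] [CommRing B] [Algebra R A] [Algebra A B'] [Algebra R B'] [IsScalarTower R A B']
    [Algebra B' B] [AddCommGroup M] [Module A M]
    [AddCommGroup P] [Module A P] [Module B' P] [IsScalarTower A B' P]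
    [AddCommGroup N] [Module B' N]
    [AddCommGroup PB] [Module B' PB] [Module B PB] [IsScalarTower B' B PB]
    [AddCommGroup NB] [Module B' NB] [Module B NB] [IsScalarTower B' B NB]
    (φ₁ : M →ₗ[A] P) (hbc : IsBaseChange B' φ₁) (cl : P →ₗ[B'] N)
    (L₁ : M ≃ₗ[A] Ω[A⁄R]) (L₂ : N ≃ₗ[B'] Ω[B'⁄R])
    (hform : ∀ m, L₂ (cl (φ₁ m)) = KaehlerDifferential.map R R A B' (L₁ m))
    (φP : P →ₗ[B'] PB) (hP : IsBaseChange B φP) (φN : N →ₗ[B'] NB) (hN : IsBaseChange B φN)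
    (G : PB →ₗ[B] NB) (hG : ∀ p, G (φP p) = φN (cl p))
    (hbij : Function.Bijective ((KaehlerDifferential.mapBaseChange R A B').baseChange B)) :
    Function.Bijective G := by
  let E₁ : (B' ⊗[A] Ω[A⁄R]) ≃ₗ[B'] P := (L₁.symm.baseChange A B' _ _).trans hbc.equiv
  have hE : ∀ t : B' ⊗[A] Ω[A⁄R],
      L₂ (cl (E₁ t)) = KaehlerDifferential.mapBaseChange R A B' t := by
    intro t
    induction t using TensorProduct.induction_on with
    | zero => rw [map_zero, map_zero, map_zero, map_zero]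
    | tmul b x =>
      have h1 : E₁ (b ⊗ₜ x) = b • φ₁ (L₁.symm x) := by
        show hbc.equiv ((L₁.symm.baseChange A B' _ _) (b ⊗ₜ x)) = _
        rw [LinearEquiv.baseChange_tmul, IsBaseChange.equiv_tmul]
      rw [h1, cl.map_smul, L₂.map_smul, hform, LinearEquiv.apply_symm_apply,
        KaehlerDifferential.mapBaseChange_tmul]
    | add x y hx hy => rw [map_add, map_add, map_add, map_add, hx, hy]
  let eP : (B ⊗[B'] (B' ⊗[A] Ω[A⁄R])) ≃ₗ[B] PB := (E₁.baseChange B' B _ _).trans hP.equiv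
  let eN : (B ⊗[B'] Ω[B'⁄R]) ≃ₗ[B] NB := (L₂.symm.baseChange B' B _ _).trans hN.equiv
  have hcomm : ∀ t : B ⊗[B'] (B' ⊗[A] Ω[A⁄R]),
      G (eP t) = eN ((KaehlerDifferential.mapBaseChange R A B').baseChange B t) := by
    intro t
    induction t using TensorProduct.induction_on with
    | zero => rw [map_zero, map_zero, map_zero, map_zero]
    | tmul b x =>
      have h1 : eP (b ⊗ₜ x) = b • φP (E₁ x) := by
        show hP.equiv ((E₁.baseChange B' B _ _) (b ⊗ₜ x)) = _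
        rw [LinearEquiv.baseChange_tmul, IsBaseChange.equiv_tmul]
      have h2 : eN (((KaehlerDifferential.mapBaseChange R A B').baseChange B) (b ⊗ₜ x)) =
          b • φN (L₂.symm (KaehlerDifferential.mapBaseChange R A B' x)) := by
        rw [LinearMap.baseChange_tmul]
        show hN.equiv ((L₂.symm.baseChange B' B _ _)
          (b ⊗ₜ (KaehlerDifferential.mapBaseChange R A B' x))) = _
        rw [LinearEquiv.baseChange_tmul, IsBaseChange.equiv_tmul]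
      rw [h1, h2, G.map_smul, hG, ← hE x, LinearEquiv.symm_apply_apply]
    | add x y hx hy => rw [map_add, map_add, map_add, map_add, hx, hy]
  constructor
  · intro y y' hyy
    have h1 : G (eP (eP.symm y)) = G (eP (eP.symm y')) := by
      rw [LinearEquiv.apply_symm_apply, LinearEquiv.apply_symm_apply]
      exact hyy
    rw [hcomm, hcomm] at h1
    exact eP.symm.injective (hbij.1 (eN.injective h1))
  · intro z
    obtain ⟨t, ht⟩ := hbij.2 (eN.symm z)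
    refine ⟨eP t, ?_⟩
    rw [hcomm, ht, LinearEquiv.apply_symm_apply]

end Algebra

section Geom

variable {Z X S Z' : Scheme.{u}} (q : X ⟶ S) (h' : Z' ⟶ X) (i : Z ⟶ Z')

set_option maxHeartbeats 3200000 in
theorem sections9783 [IsClosedImmersion i] (hu : OmegaSh.IsUnivThickening (i ≫ h') i h')
    (ΩX : X.Modules) (dX : OmegaSh.Der q ΩX) (hdX : OmegaSh.IsUniversal dX)
    (ΩZ' : Z'.Modules) (dZ' : OmegaSh.Der (h' ≫ q) ΩZ') (hdZ' : OmegaSh.IsUniversal dZ')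
    (c : (Scheme.Modules.pullback h').obj ΩX ⟶ ΩZ') (hc : OmegaSh.IsDiffCompat h' dX dZ' c)
    {U' : Z'.Opens} {V : X.Opens} {T : S.Opens} (hU' : IsAffineOpen U')
    (hU : IsAffineOpen (i ⁻¹ᵁ U')) (hV : IsAffineOpen V) (hT : IsAffineOpen T)
    (e : U' ≤ h' ⁻¹ᵁ V) (hVT : V ≤ q ⁻¹ᵁ T) :
    Function.Bijective (((Scheme.Modules.pullback i).map c).app (i ⁻¹ᵁ U')) := by
  have hU'T : U' ≤ (h' ≫ q) ⁻¹ᵁ T := fun x hx => hVT (e hx)
  have eh : i ⁻¹ᵁ U' ≤ (i ≫ h') ⁻¹ᵁ V := fun x hx => e hx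
  letI a1 : Algebra Γ(S, T) Γ(X, V) := (q.appLE T V hVT).hom.toAlgebra
  letI a3 : Algebra Γ(X, V) Γ(Z', U') := (h'.appLE V U' e).hom.toAlgebra
  letI a2 : Algebra Γ(S, T) Γ(Z', U') := ((h' ≫ q).appLE T U' hU'T).hom.toAlgebra
  have comm : ∀ r : Γ(S, T), ((h' ≫ q).appLE T U' hU'T).hom r =
      (h'.appLE V U' e).hom ((q.appLE T V hVT).hom r) := by
    intro r
    have c1 := Scheme.Hom.appLE_comp_appLE h' q T V U' hVT e
    exact (congrArg (fun k => k.hom r) c1).symm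
  haveI t1 : IsScalarTower Γ(S, T) Γ(X, V) Γ(Z', U') :=
    IsScalarTower.of_algebraMap_eq (fun r => comm r)
  letI a4 : Algebra Γ(Z', U') Γ(Z, i ⁻¹ᵁ U') :=
    (i.appLE U' (i ⁻¹ᵁ U') (le_refl _)).hom.toAlgebra
  letI a5 : Algebra Γ(X, V) Γ(Z, i ⁻¹ᵁ U') := ((i ≫ h').appLE V (i ⁻¹ᵁ U') eh).hom.toAlgebra
  have comm2 : ∀ r : Γ(X, V), ((i ≫ h').appLE V (i ⁻¹ᵁ U') eh).hom r =
      (i.appLE U' (i ⁻¹ᵁ U') (le_refl _)).hom ((h'.appLE V U' e).hom r) := by
    intro r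
    have c1 := Scheme.Hom.appLE_comp_appLE i h' V U' (i ⁻¹ᵁ U') e (le_refl _)
    exact (congrArg (fun k => k.hom r) c1).symm
  haveI t2 : IsScalarTower Γ(X, V) Γ(Z', U') Γ(Z, i ⁻¹ᵁ U') :=
    IsScalarTower.of_algebraMap_eq (fun r => comm2 r)
  -- the ring-level universal thickening
  have happ : i.appLE U' (i ⁻¹ᵁ U') (le_refl _) = i.app U' := i.appLE_eq_app
  have hsurj : Function.Surjective (algebraMap Γ(Z', U') Γ(Z, i ⁻¹ᵁ U')) := by
    show Function.Surjective (i.appLE U' (i ⁻¹ᵁ U') (le_refl _)).hom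
    rw [happ]
    exact i.app_surjective U' hU'
  have hker : RingHom.ker (algebraMap Γ(Z', U') Γ(Z, i ⁻¹ᵁ U')) ^ 2 = ⊥ := by
    have hk0 : (i.ker * i.ker).ideal ⟨U', hU'⟩ = ⊥ := by
      rw [hu.1.2]
      rfl
    rw [Scheme.IdealSheafData.ideal_mul, Pi.mul_apply, Scheme.Hom.ker_apply] at hk0
    show RingHom.ker (i.appLE U' (i ⁻¹ᵁ U') (le_refl _)).hom ^ 2 = ⊥
    rw [happ, pow_two]
    exact hk0
  have huS := Groth.Agent.Lib.UnivThickRingH7.isUnivThickening_Spec_of_affine hu hU' hU hV e eh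
  have huR : OmegaSh.IsUnivThickeningRing Γ(X, V) Γ(Z, i ⁻¹ᵁ U') Γ(Z', U')
      (IsScalarTower.toAlgHom Γ(X, V) Γ(Z', U') Γ(Z, i ⁻¹ᵁ U')) :=
    Groth.Agent.Lib.UnivThickRingH7.isUnivThickeningRing_of_Spec hsurj hker huS
  have hmain := (Groth.Agent.Lib.UnivThickKaehler.main Γ(S, T) Γ(X, V) Γ(Z, i ⁻¹ᵁ U')
    Γ(Z', U') huR).2
  -- sections
  obtain ⟨L₁, hL₁⟩ := receptacleSections q dX hdX hV hT hVT
  obtain ⟨L₂, hL₂⟩ := receptacleSections (h' ≫ q) dZ' hdZ' hU' hT hU'T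
  haveI qc₁ : ΩX.IsQuasicoherent := isQuasicoherent q dX hdX
  haveI qc₂ : ΩZ'.IsQuasicoherent := isQuasicoherent (h' ≫ q) dZ' hdZ'
  letI mA : Module Γ(X, V) Γ((Scheme.Modules.pullback h').obj ΩX, U') :=
    Module.compHom _ (h'.appLE V U' e).hom
  haveI tA : IsScalarTower Γ(X, V) Γ(Z', U') Γ((Scheme.Modules.pullback h').obj ΩX, U') :=
    IsScalarTower.of_algebraMap_smul fun _ _ => rfl
  letI mA2 : Module Γ(X, V) Γ(ΩZ', U') := Module.compHom _ (h'.appLE V U' e).hom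
  haveI tA2 : IsScalarTower Γ(X, V) Γ(Z', U') Γ(ΩZ', U') :=
    IsScalarTower.of_algebraMap_smul fun _ _ => rfl
  have hbc := PBH8.isBaseChange_cUV h' ΩX e hU' hV
  let cl : Γ((Scheme.Modules.pullback h').obj ΩX, U') →ₗ[Γ(Z', U')] Γ(ΩZ', U') :=
    { toFun := fun y => c.app U' y
      map_add' := fun y z => map_add (c.app U').hom y z
      map_smul' := fun r y => Scheme.Modules.Hom.app_smul c r y }
  let lam : Γ(ΩX, V) →ₗ[Γ(X, V)] Γ(ΩZ', U') :=
    (cl.restrictScalars Γ(X, V)).comp (PBH8.cUVLin h' ΩX e)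
  have hcomm : (KaehlerDifferential.map Γ(S, T) Γ(S, T) Γ(X, V) Γ(Z', U')).comp
      L₁.toLinearMap = (L₂.restrictScalars Γ(X, V)).toLinearMap.comp lam := by
    refine LinearMap.ext_on (span_d q dX hdX ⟨hV, T, hT, hVT⟩) ?_
    rintro _ ⟨s, rfl⟩
    show KaehlerDifferential.map Γ(S, T) Γ(S, T) Γ(X, V) Γ(Z', U') (L₁ (dX.app V s)) =
      L₂ (c.app U' (PBH8.cUV h' ΩX e (dX.app V s)))
    rw [hL₁, cUV_d h' dX dZ' c hc e s, hL₂, KaehlerDifferential.map_D]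
    rfl
  have hform : ∀ m, L₂ (cl (PBH8.cUVLin h' ΩX e m)) =
      KaehlerDifferential.map Γ(S, T) Γ(S, T) Γ(X, V) Γ(Z', U') (L₁ m) :=
    fun m => (LinearMap.congr_fun hcomm m).symm
  -- base change along `i`
  letI mB1 : Module Γ(Z', U')
      Γ((Scheme.Modules.pullback i).obj ((Scheme.Modules.pullback h').obj ΩX), i ⁻¹ᵁ U') :=
    Module.compHom _ (i.appLE U' (i ⁻¹ᵁ U') (le_refl _)).hom
  haveI tB1 : IsScalarTower Γ(Z', U') Γ(Z, i ⁻¹ᵁ U')
      Γ((Scheme.Modules.pullback i).obj ((Scheme.Modules.pullback h').obj ΩX), i ⁻¹ᵁ U') :=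
    IsScalarTower.of_algebraMap_smul fun _ _ => rfl
  letI mB2 : Module Γ(Z', U') Γ((Scheme.Modules.pullback i).obj ΩZ', i ⁻¹ᵁ U') :=
    Module.compHom _ (i.appLE U' (i ⁻¹ᵁ U') (le_refl _)).hom
  haveI tB2 : IsScalarTower Γ(Z', U') Γ(Z, i ⁻¹ᵁ U')
      Γ((Scheme.Modules.pullback i).obj ΩZ', i ⁻¹ᵁ U') :=
    IsScalarTower.of_algebraMap_smul fun _ _ => rfl
  have hP := PBH8.isBaseChange_cUV i ((Scheme.Modules.pullback h').obj ΩX)
    (le_refl (i ⁻¹ᵁ U')) hU hU'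
  have hN := PBH8.isBaseChange_cUV i ΩZ' (le_refl (i ⁻¹ᵁ U')) hU hU'
  let G : Γ((Scheme.Modules.pullback i).obj ((Scheme.Modules.pullback h').obj ΩX), i ⁻¹ᵁ U')
      →ₗ[Γ(Z, i ⁻¹ᵁ U')] Γ((Scheme.Modules.pullback i).obj ΩZ', i ⁻¹ᵁ U') :=
    { toFun := fun y => ((Scheme.Modules.pullback i).map c).app (i ⁻¹ᵁ U') y
      map_add' := fun y z => map_add (((Scheme.Modules.pullback i).map c).app (i ⁻¹ᵁ U')).hom y z
      map_smul' := fun r y =>
        Scheme.Modules.Hom.app_smul ((Scheme.Modules.pullback i).map c) r y }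
  have hG : ∀ p, G (PBH8.cUVLin i ((Scheme.Modules.pullback h').obj ΩX)
      (le_refl (i ⁻¹ᵁ U')) p) = PBH8.cUVLin i ΩZ' (le_refl (i ⁻¹ᵁ U')) (cl p) :=
    fun p => PBH8.cUV_naturality i c (le_refl (i ⁻¹ᵁ U')) p
  exact bijective_section_map (PBH8.cUVLin h' ΩX e) hbc cl L₁ L₂ hform
    (PBH8.cUVLin i ((Scheme.Modules.pullback h').obj ΩX) (le_refl (i ⁻¹ᵁ U'))) hP
    (PBH8.cUVLin i ΩZ' (le_refl (i ⁻¹ᵁ U'))) hN G hG hmain

theorem main9783 {Z X S Z' : Scheme.{u}} (h : Z ⟶ X) (q : X ⟶ S) (i : Z ⟶ Z') (h' : Z' ⟶ X)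
    (hu : OmegaSh.IsUnivThickening h i h')
    (ΩX : X.Modules) (dX : OmegaSh.Der q ΩX) (hdX : OmegaSh.IsUniversal dX)
    (ΩZ' : Z'.Modules) (dZ' : OmegaSh.Der (h' ≫ q) ΩZ') (hdZ' : OmegaSh.IsUniversal dZ')
    (c : (Scheme.Modules.pullback h').obj ΩX ⟶ ΩZ') (hc : OmegaSh.IsDiffCompat h' dX dZ' c) :
    IsIso ((Scheme.Modules.pullback i).map c) := by
  have hh : i ≫ h' = h := hu.2.1
  subst hh
  haveI : IsClosedImmersion i := hu.1.1.1
  let P : Z.Opens → Prop := fun U => ∃ (U' : Z'.Opens) (V : X.Opens) (T : S.Opens),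
    IsAffineOpen U' ∧ IsAffineOpen V ∧ IsAffineOpen T ∧ U' ≤ h' ⁻¹ᵁ V ∧ V ≤ q ⁻¹ᵁ T ∧
      U = i ⁻¹ᵁ U'
  have hP : ∀ (O : Z.Opens) (z : Z), z ∈ O → ∃ W : Z.Opens, P W ∧ z ∈ W ∧ W ≤ O := by
    intro O z hz
    obtain ⟨O', hO'⟩ :=
      Groth.Agent.Lib.UnivThickSch1_helper7.exists_opens_preimage_eq i hu.1 O
    obtain ⟨_, ⟨T, hT : IsAffineOpen T, rfl⟩, hzT, -⟩ :=
      S.isBasis_affineOpens.exists_subset_of_mem_open (Set.mem_univ (q (h' (i z)))) isOpen_univ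
    have hzT' : h' (i z) ∈ q ⁻¹ᵁ T := hzT
    obtain ⟨_, ⟨V, hV : IsAffineOpen V, rfl⟩, hzV, hVle⟩ :=
      X.isBasis_affineOpens.exists_subset_of_mem_open hzT' (q ⁻¹ᵁ T).isOpen
    have hzO' : i z ∈ O' ⊓ h' ⁻¹ᵁ V := by
      refine ⟨?_, hzV⟩
      rw [← hO'] at hz
      exact hz
    obtain ⟨_, ⟨U', hU' : IsAffineOpen U', rfl⟩, hzU', hU'le⟩ :=
      Z'.isBasis_affineOpens.exists_subset_of_mem_open hzO' (O' ⊓ h' ⁻¹ᵁ V).isOpen
    refine ⟨i ⁻¹ᵁ U', ⟨U', V, T, hU', hV, hT, fun x hx => (hU'le hx).2, hVle, rfl⟩, hzU', ?_⟩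
    intro x hx
    rw [← hO']
    exact (hU'le hx).1
  have hbij : ∀ W, P W →
      Function.Bijective (((Scheme.Modules.pullback i).map c).app W) := by
    rintro W ⟨U', V, T, hU', hV, hT, e, hVT, rfl⟩
    exact sections9783 q h' i hu ΩX dX hdX ΩZ' dZ' hdZ' c hc hU' (hU'.preimage i) hV hT e hVT
  haveI : Mono ((Scheme.Modules.pullback i).map c) :=
    mono_of_injective_basis _ P hP (fun W hW => (hbij W hW).1)
  haveI : Epi ((Scheme.Modules.pullback i).map c) :=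
    epi_of_surjective_basis _ P hP (fun W hW => (hbij W hW).2)
  exact isIso_of_mono_of_epi _

end Geom

end Groth.Agent.Lib.DiffUnivThickH7
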