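import Mathlib.GroupTheory.OrderOfElement
import Mathlib.Algebra.Group.Subgroup.Pointwise
import Mathlib.Data.Set.Card
import Mathlib.Data.ZMod.QuotientGroup

set_option autoImplicit false

/-!
# Groups generated by two involutions (helper8)
-/

namespace Groth.Agent.Lib.Dihedral_helper8

variable {G : Type*} [Group G]

lemma conj_zpow_of_involutions {a b : G} (ha : a * a = 1) (hb : b * b = 1) (k : ℤ) :
    a * (a * b) ^ k = (a * b) ^ (-k) * a := by
  have hainv : a⁻¹ = a := inv_eq_of_mul_eq_one_right ha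
  have hbinv : b⁻¹ = b := inv_eq_of_mul_eq_one_right hb
  have h1 : a * (a * b) * a⁻¹ = (a * b)⁻¹ := by
    rw [mul_inv_rev, hainv, hbinv, ← mul_assoc, ha, one_mul]
  have h2 : a * (a * b) ^ k * a⁻¹ = ((a * b)⁻¹) ^ k := by
    rw [← h1, conj_zpow]
  rw [zpow_neg, ← inv_zpow, ← h2, hainv, mul_assoc (a * (a * b) ^ k), ha, mul_one]

/-- Every element of the group generated by two involutions `a`, `b` is `(ab)^k` or `a (ab)^k`. -/
lemma mem_closure_pair {a b : G} (ha : a * a = 1) (hb : b * b = 1) {g : G}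
    (hg : g ∈ Subgroup.closure ({a, b} : Set G)) :
    (∃ k : ℤ, g = (a * b) ^ k) ∨ ∃ k : ℤ, g = a * (a * b) ^ k := by
  have hainv : a⁻¹ = a := inv_eq_of_mul_eq_one_right ha
  induction hg using Subgroup.closure_induction with
  | mem x hx =>
    rcases hx with rfl | rfl
    · exact Or.inr ⟨0, by simp⟩
    · refine Or.inr ⟨1, ?_⟩
      rw [zpow_one, ← mul_assoc, ha, one_mul]
  | one => exact Or.inl ⟨0, by simp⟩
  | mul x y _ _ hx hy =>
    rcases hx with ⟨k, rfl⟩ | ⟨k, rfl⟩ <;> rcases hy with ⟨l, rfl⟩ | ⟨l, rfl⟩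
    · exact Or.inl ⟨k + l, (zpow_add _ _ _).symm⟩
    · refine Or.inr ⟨-k + l, ?_⟩
      have := conj_zpow_of_involutions ha hb (-k)
      rw [neg_neg] at this
      rw [← mul_assoc, ← this, mul_assoc, ← zpow_add]
    · exact Or.inr ⟨k + l, by rw [mul_assoc, ← zpow_add]⟩
    · refine Or.inl ⟨-k + l, ?_⟩
      rw [← mul_assoc, conj_zpow_of_involutions ha hb k, mul_assoc ((a * b) ^ (-k)) a a, ha,
        mul_one, ← zpow_add]
  | inv x _ hx =>
    rcases hx with ⟨k, rfl⟩ | ⟨k, rfl⟩
    · exact Or.inl ⟨-k, (zpow_neg _ _).symm⟩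
    · refine Or.inr ⟨k, ?_⟩
      rw [mul_inv_rev, hainv, ← zpow_neg, ← conj_zpow_of_involutions ha hb k]

/-- A group generated by two distinct non-trivial involutions `a`, `b` with `ab` of order `n > 0`
has `2n` elements. -/
theorem card_closure_pair {a b : G} (ha : a * a = 1) (hb : b * b = 1) (ha1 : a ≠ 1)
    (hb1 : b ≠ 1) {n : ℕ} (hn : 0 < n) (hord : orderOf (a * b) = n) :
    Nat.card (Subgroup.closure ({a, b} : Set G)) = 2 * n := by
  classical
  have hainv : a⁻¹ = a := inv_eq_of_mul_eq_one_right ha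
  have hbinv : b⁻¹ = b := inv_eq_of_mul_eq_one_right hb
  -- `a` is not a power of `a * b`
  have haC : a ∉ Subgroup.zpowers (a * b) := by
    rintro ⟨k, hk⟩
    have hk' : a = (a * b) ^ k := hk.symm
    have h1 := conj_zpow_of_involutions ha hb 1
    rw [zpow_one, zpow_neg, zpow_one] at h1
    -- `a` commutes with `a * b`
    have hcomm : ∀ x : G, x = (a * b) ^ k → x * (a * b) = (a * b) * x := by
      rintro x rfl
      exact (Commute.zpow_left (Commute.refl (a * b)) k).eq
    have h2 : a * (a * b) = (a * b) * a := hcomm a hk'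
    have h3 : (a * b) * (a * b) = 1 := by
      have h4 : (a * b) * a = (a * b)⁻¹ * a := by rw [← h2, h1]
      exact mul_eq_one_iff_eq_inv.mpr (mul_right_cancel h4)
    have h4 : ∀ k : ℤ, (a * b) ^ k = 1 ∨ (a * b) ^ k = a * b := by
      intro k
      obtain ⟨m, rfl | rfl⟩ := Int.even_or_odd' k
      · left
        rw [zpow_mul, zpow_two, h3, one_zpow]
      · right
        rw [zpow_add, zpow_mul, zpow_two, h3, one_zpow, one_mul, zpow_one]
    rcases h4 k with h | h
    · exact ha1 (hk'.trans h)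
    · apply hb1
      have : a * 1 = a * b := by rw [mul_one, ← h, ← hk']
      exact (mul_left_cancel this).symm
  have hcarrier : ((Subgroup.closure ({a, b} : Set G) : Subgroup G) : Set G) =
      (Subgroup.zpowers (a * b) : Set G) ∪
        (fun g => a * g) '' (Subgroup.zpowers (a * b) : Set G) := by
    ext g
    constructor
    · intro hg
      rcases mem_closure_pair ha hb hg with ⟨k, rfl⟩ | ⟨k, rfl⟩
      · exact Or.inl ⟨k, rfl⟩
      · exact Or.inr ⟨(a * b) ^ k, ⟨k, rfl⟩, rfl⟩
    · have hamem : a ∈ Subgroup.closure ({a, b} : Set G) := Subgroup.subset_closure (by simp)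
      have hbmem : b ∈ Subgroup.closure ({a, b} : Set G) := Subgroup.subset_closure (by simp)
      have hCle : Subgroup.zpowers (a * b) ≤ Subgroup.closure ({a, b} : Set G) := by
        rw [Subgroup.zpowers_le]
        exact mul_mem hamem hbmem
      rintro (hg | ⟨c, hc, rfl⟩)
      · exact hCle hg
      · exact mul_mem hamem (hCle hc)
  have hdisj : Disjoint (Subgroup.zpowers (a * b) : Set G)
      ((fun g => a * g) '' (Subgroup.zpowers (a * b) : Set G)) := by
    rw [Set.disjoint_left]
    rintro g hg ⟨c, hc, rfl⟩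
    apply haC
    have hmem : (a * c) * c⁻¹ ∈ Subgroup.zpowers (a * b) := mul_mem hg (inv_mem hc)
    rwa [mul_assoc, mul_inv_cancel, mul_one] at hmem
  have hCcard : (Subgroup.zpowers (a * b) : Set G).ncard = n := by
    rw [← hord, ← Nat.card_zpowers]
    rfl
  have hCfin : (Subgroup.zpowers (a * b) : Set G).Finite := by
    apply Set.finite_of_ncard_pos
    rw [hCcard]; exact hn
  have h1 : Nat.card (Subgroup.closure ({a, b} : Set G)) =
      ((Subgroup.closure ({a, b} : Set G) : Subgroup G) : Set G).ncard := rfl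
  rw [h1, hcarrier, Set.ncard_union_eq hdisj hCfin (hCfin.image _),
    Set.ncard_image_of_injective _ (mul_right_injective a), hCcard, two_mul]

end Groth.Agent.Lib.Dihedral_helper8
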