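import Mathlib
import Groth.Agent.Lib.AdicLift_helper2

/-!
# p-adic dilatation algebra (helper1)

`D = ` the `p`-adic completion of `(A[T_1..T_n]/(p T_i - a_i)) / (p-power torsion)`.
-/

set_option autoImplicit false
universe u

namespace Groth.Agent.Lib.DilatH1

section Gen

variable {R : Type*} [CommRing R]

/-- the ideal of `c`-power torsion elements. -/
def torsIdeal (c : R) : Ideal R where
  carrier := {x | ∃ k : ℕ, c ^ k * x = 0}
  zero_mem' := ⟨0, mul_zero _⟩
  add_mem' := by
    rintro x y ⟨k, hk⟩ ⟨l, hl⟩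
    refine ⟨k + l, ?_⟩
    linear_combination (c ^ l) * hk + (c ^ k) * hl
  smul_mem' := by
    rintro r x ⟨k, hk⟩
    refine ⟨k, ?_⟩
    rw [smul_eq_mul]
    linear_combination r * hk

theorem mem_torsIdeal {c x : R} : x ∈ torsIdeal c ↔ ∃ k : ℕ, c ^ k * x = 0 := Iff.rfl

theorem quot_regular (c : R) (x : R ⧸ torsIdeal c)
    (hx : Ideal.Quotient.mk (torsIdeal c) c * x = 0) : x = 0 := by
  obtain ⟨y, rfl⟩ := Ideal.Quotient.mk_surjective x
  rw [← map_mul, Ideal.Quotient.eq_zero_iff_mem] at hx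
  obtain ⟨k, hk⟩ := hx
  rw [Ideal.Quotient.eq_zero_iff_mem]
  exact ⟨k + 1, by rw [pow_succ, mul_assoc]; exact hk⟩

theorem completion_regular (c : R) (hc : ∀ x : R, c * x = 0 → x = 0)
    (x : AdicCompletion (Ideal.span {c}) R)
    (hx : algebraMap R (AdicCompletion (Ideal.span {c}) R) c * x = 0) : x = 0 := by
  obtain ⟨s, rfl⟩ := AdicCompletion.mk_surjective (Ideal.span {c}) R x
  apply AdicCompletion.ext_evalₐ
  intro k
  rw [map_zero, AdicCompletion.evalₐ_mk, Ideal.Quotient.eq_zero_iff_mem]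
  have h1 := congrArg (AdicCompletion.evalₐ (Ideal.span {c}) (k + 1)) hx
  rw [map_mul, map_zero, AlgHom.commutes, AdicCompletion.evalₐ_mk, Ideal.Quotient.algebraMap_eq,
    ← map_mul, Ideal.Quotient.eq_zero_iff_mem, Ideal.span_singleton_pow,
    Ideal.mem_span_singleton] at h1
  obtain ⟨w, hw⟩ := h1
  have h2 : s.val (k + 1) = c ^ k * w := by
    have h : c * (s.val (k + 1) - c ^ k * w) = 0 := by
      rw [mul_sub, hw, pow_succ']; ring
    exact sub_eq_zero.mp (hc _ h)
  have h3 : s.val (k + 1) ∈ Ideal.span {c} ^ k := by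
    rw [h2, Ideal.span_singleton_pow]
    exact Ideal.mul_mem_right _ _ (Ideal.mem_span_singleton_self _)
  have h4 : s.val k - s.val (k + 1) ∈ Ideal.span {c} ^ k := by
    have h := s.property (Nat.le_succ k)
    rw [SModEq.sub_mem] at h
    simpa using h
  have h5 : s.val k = (s.val k - s.val (k + 1)) + s.val (k + 1) := by ring
  rw [h5]
  exact Ideal.add_mem _ h4 h3

end Gen

section Dil

variable (p : ℕ) {A : Type u} [CommRing A] {n : ℕ} (a : Fin n → A)

/-- the ideal `(p T_i - a_i)`. -/
noncomputable def relIdeal : Ideal (MvPolynomial (Fin n) A) :=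
  Ideal.span (Set.range fun i =>
    MvPolynomial.C (p : A) * MvPolynomial.X i - MvPolynomial.C (a i))

abbrev E : Type u := MvPolynomial (Fin n) A ⧸ relIdeal p a

abbrev D0 : Type u := E p a ⧸ torsIdeal (p : E p a)

abbrev D : Type u := AdicCompletion (Ideal.span {(p : D0 p a)}) (D0 p a)

/-- the class of `T_i`. -/
noncomputable def t0 (i : Fin n) : D0 p a :=
  Ideal.Quotient.mk _ (Ideal.Quotient.mk _ (MvPolynomial.X i))

theorem algebraMap_a (i : Fin n) :
    algebraMap A (D0 p a) (a i) = (p : D0 p a) * t0 p a i := by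
  have h : (Ideal.Quotient.mk (relIdeal p a))
      (MvPolynomial.C (p : A) * MvPolynomial.X i - MvPolynomial.C (a i)) = 0 :=
    Ideal.Quotient.eq_zero_iff_mem.mpr (Ideal.subset_span ⟨i, rfl⟩)
  rw [map_sub, sub_eq_zero, map_mul] at h
  show Ideal.Quotient.mk (torsIdeal (p : E p a))
    (Ideal.Quotient.mk (relIdeal p a) (MvPolynomial.C (a i))) = _
  rw [← h, map_mul]
  simp only [map_natCast]
  rfl

theorem D0_regular (x : D0 p a) (hx : (p : D0 p a) * x = 0) : x = 0 :=
  quot_regular (p : E p a) x (by rwa [map_natCast])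

variable {p a}
variable {B : Type u} [CommRing B] [Algebra A B]

theorem aeval_relIdeal (b : Fin n → B) (hb : ∀ i, algebraMap A B (a i) = (p : B) * b i)
    (x : MvPolynomial (Fin n) A) (hx : x ∈ relIdeal p a) : MvPolynomial.aeval b x = 0 := by
  have hle : relIdeal p a ≤ RingHom.ker (MvPolynomial.aeval b : _ →ₐ[A] B).toRingHom := by
    refine Ideal.span_le.mpr ?_
    rintro _ ⟨i, rfl⟩
    show MvPolynomial.aeval b
      (MvPolynomial.C (p : A) * MvPolynomial.X i - MvPolynomial.C (a i)) = 0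
    rw [map_sub, map_mul, MvPolynomial.aeval_C, MvPolynomial.aeval_X, MvPolynomial.aeval_C,
      hb i, map_natCast, sub_self]
  exact hle hx

/-- the homomorphism `D0 → B`. -/
noncomputable def g0 (hreg : IsSMulRegular B (p : B)) (b : Fin n → B)
    (hb : ∀ i, algebraMap A B (a i) = (p : B) * b i) : D0 p a →ₐ[A] B :=
  Ideal.Quotient.liftₐ (torsIdeal (p : E p a))
    (Ideal.Quotient.liftₐ (relIdeal p a) (MvPolynomial.aeval b) (aeval_relIdeal b hb))
    (by
      rintro x ⟨k, hk⟩
      have h := congrArg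
        (Ideal.Quotient.liftₐ (relIdeal p a) (MvPolynomial.aeval b) (aeval_relIdeal b hb)) hk
      rw [map_mul, map_pow, map_natCast, map_zero] at h
      exact (hreg.pow k).right_eq_zero_of_smul (by rw [smul_eq_mul]; exact h))

theorem D0_hom_ext (hreg : IsSMulRegular B (p : B)) (h₁ h₂ : D0 p a →ₐ[A] B) : h₁ = h₂ := by
  apply Ideal.Quotient.algHom_ext
  apply Ideal.Quotient.algHom_ext
  apply MvPolynomial.algHom_ext
  intro i
  show h₁ (t0 p a i) = h₂ (t0 p a i)
  have e₁ : (p : B) * h₁ (t0 p a i) = algebraMap A B (a i) := by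
    rw [← h₁.commutes, algebraMap_a, map_mul, map_natCast]
  have e₂ : (p : B) * h₂ (t0 p a i) = algebraMap A B (a i) := by
    rw [← h₂.commutes, algebraMap_a, map_mul, map_natCast]
  apply hreg
  show (p : B) • h₁ (t0 p a i) = (p : B) • h₂ (t0 p a i)
  rw [smul_eq_mul, smul_eq_mul, e₁, e₂]

/-- the structure map `D0 → D` as an `A`-algebra homomorphism. -/
noncomputable def ofA : D0 p a →ₐ[A] D p a :=
  ⟨algebraMap (D0 p a) (D p a), fun _ => rfl⟩

variable (p a)

theorem main19616 :
    ∃ (D : Type u) (_ : CommRing D) (_ : Algebra A D),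
      IsAdicComplete (Ideal.span {(p : D)}) D ∧ IsSMulRegular D (p : D) ∧
      (∀ i, algebraMap A D (a i) ∈ Ideal.span {(p : D)}) ∧
      ∀ (B : Type u) [CommRing B] [Algebra A B] [IsAdicComplete (Ideal.span {(p : B)}) B],
        IsSMulRegular B (p : B) → (∀ i, algebraMap A B (a i) ∈ Ideal.span {(p : B)}) →
          Nonempty (D →ₐ[A] B) ∧ Subsingleton (D →ₐ[A] B) ∧
            (Function.Surjective (algebraMap A B) → ∀ f : D →ₐ[A] B, Function.Surjective f) := by
  have hfg : (Ideal.span {(p : D0 p a)}).FG := ⟨{(p : D0 p a)}, by simp⟩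
  refine ⟨D p a, inferInstance, inferInstance, ?_, ?_, ?_, ?_⟩
  · have h := AdicCompletion.isAdicComplete_self (Ideal.span {(p : D0 p a)}) hfg
    have e : (Ideal.span {(p : D0 p a)}).map (algebraMap (D0 p a) (D p a))
        = Ideal.span {(p : D p a)} := by
      rw [Ideal.map_span, Set.image_singleton, map_natCast]
    rw [e] at h
    exact h
  · refine isSMulRegular_iff_right_eq_zero_of_smul.mpr fun x hx => ?_
    refine completion_regular (p : D0 p a) (D0_regular p a) x ?_
    rw [map_natCast]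
    rwa [smul_eq_mul] at hx
  · intro i
    refine Ideal.mem_span_singleton.mpr ⟨algebraMap (D0 p a) (D p a) (t0 p a i), ?_⟩
    show algebraMap (D0 p a) (D p a) (algebraMap A (D0 p a) (a i)) = _
    rw [algebraMap_a, map_mul, map_natCast]
  · intro B _ _ _ hreg hdiv
    choose b hb using fun i =>
      (Ideal.mem_span_singleton.mp (hdiv i) : ∃ c, algebraMap A B (a i) = (p : B) * c)
    have hJ : (Ideal.span {(p : D0 p a)}).map (g0 hreg b hb).toRingHom
        ≤ Ideal.span {(p : B)} := by
      rw [Ideal.map_span, Set.image_singleton,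
        show (g0 hreg b hb).toRingHom (p : D0 p a) = (p : B) from map_natCast _ p]
    refine ⟨⟨⟨Groth.Agent.Lib.AdicLift.ext (Ideal.span {(p : D0 p a)}) (Ideal.span {(p : B)})
      (g0 hreg b hb).toRingHom hJ, fun r => ?_⟩⟩, ⟨fun f₁ f₂ => ?_⟩, ?_⟩
    · show Groth.Agent.Lib.AdicLift.ext (Ideal.span {(p : D0 p a)}) (Ideal.span {(p : B)})
        (g0 hreg b hb).toRingHom hJ (AdicCompletion.of _ _ (algebraMap A (D0 p a) r))
          = algebraMap A B r
      rw [Groth.Agent.Lib.AdicLift.ext_of]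
      exact (g0 hreg b hb).commutes r
    · have key : ∀ f : D p a →ₐ[A] B, (Ideal.span {(p : D0 p a)}).map
          (f.toRingHom.comp (algebraMap (D0 p a) (D p a))) ≤ Ideal.span {(p : B)} := by
        intro f
        rw [Ideal.map_span, Set.image_singleton,
          show (f.toRingHom.comp (algebraMap (D0 p a) (D p a))) (p : D0 p a) = (p : B) from
            map_natCast _ p]
      have h12 : f₁.comp ofA = f₂.comp ofA := D0_hom_ext hreg _ _
      have h3 : f₁.toRingHom = f₂.toRingHom :=
        Groth.Agent.Lib.AdicLift.ringHom_ext_of_dense _ _ hfg f₁.toRingHom f₂.toRingHom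
          (key f₁) (key f₂) (fun c => AlgHom.congr_fun h12 c)
      exact AlgHom.ext (fun x => RingHom.congr_fun h3 x)
    · intro hs f y
      obtain ⟨r, rfl⟩ := hs y
      exact ⟨algebraMap A (D p a) r, f.commutes r⟩

end Dil

end Groth.Agent.Lib.DilatH1
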