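import Mathlib
import Groth.Prelude.Def_Flat
import Groth.Agent.Lib.FlatPt_helper8
import Groth.Agent.Lib.FibCohSpec_helper8
import Groth.Agent.Lib.ResTrdegSpec_helper8

universe u
open AlgebraicGeometry CategoryTheory

namespace Groth.Agent.Lib.DimFlatLocH8

/-- flatness of the stalk map of `Spec C → Spec A` at `q` from flatness of `C_q` over `A`. -/
theorem flat_stalkMap_spec {A C B : Type u} [CommRing A] [CommRing C] [CommRing B]
    [Algebra A C] [Algebra C B] [Algebra A B] [IsScalarTower A C B] (q : Ideal C)
    [hq : q.IsPrime] [IsLocalization.AtPrime B q] [Module.Flat A B] :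
    ((Spec.map (CommRingCat.ofHom (algebraMap A C))).stalkMap
      (⟨q, hq⟩ : PrimeSpectrum C)).hom.Flat := by
  rw [RingHom.Flat.respectsIso.arrow_mk_iso_iff
    (Scheme.arrowStalkMapSpecIso (CommRingCat.ofHom (algebraMap A C)) ⟨q, hq⟩)]
  set p : Ideal A := q.comap (algebraMap A C) with hp
  show (Localization.localRingHom p q (algebraMap A C) rfl).Flat
  letI : Algebra (Localization.AtPrime p) (Localization.AtPrime q) :=
    (Localization.localRingHom p q (algebraMap A C) rfl).toAlgebra
  haveI : IsScalarTower A (Localization.AtPrime p) (Localization.AtPrime q) :=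
    IsScalarTower.of_algebraMap_eq (fun a => by
      rw [RingHom.algebraMap_toAlgebra, Localization.localRingHom_to_map,
        IsScalarTower.algebraMap_apply A C (Localization.AtPrime q)])
  show Module.Flat (Localization.AtPrime p) (Localization.AtPrime q)
  rw [Module.flat_iff_of_isLocalization (Localization.AtPrime p) p.primeCompl]
  let e : B ≃ₐ[C] Localization.AtPrime q :=
    IsLocalization.algEquiv q.primeCompl B (Localization.AtPrime q)
  exact Module.Flat.of_linearEquiv (e.restrictScalars A).toLinearEquiv.symm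

theorem main1403 {A B : Type u} [CommRing A] [CommRing B] [IsDomain A] [IsDomain B]
    [IsLocalRing A] [IsLocalRing B] [Algebra A B] [IsLocalHom (algebraMap A B)]
    [FaithfulSMul A B] [Algebra.EssFiniteType A B] [Module.Flat A B] :
    ∃ d e : ℕ, ringKrullDim (B ⧸ Ideal.map (algebraMap A B) (IsLocalRing.maximalIdeal A)) = d ∧
      Algebra.trdeg (IsLocalRing.ResidueField A) (IsLocalRing.ResidueField B) = e ∧
        Algebra.trdeg A B = (d + e : ℕ) := by
  -- the finite type subalgebra
  let C := Algebra.EssFiniteType.subalgebra A B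
  let M := Algebra.EssFiniteType.submonoid A B
  haveI : IsLocalization M B := Algebra.EssFiniteType.isLocalization A B
  set q : Ideal C := (IsLocalRing.maximalIdeal B).comap (algebraMap C B) with hq
  haveI hqp : q.IsPrime := Ideal.comap_isPrime _ _
  have hM : M = q.primeCompl := by
    ext c
    show IsUnit (algebraMap C B c) ↔ c ∉ q
    rw [hq, Ideal.mem_comap, IsLocalRing.mem_maximalIdeal, mem_nonunits_iff, not_not]
  haveI : IsLocalization.AtPrime B q := by
    show IsLocalization q.primeCompl B
    rw [← hM]; infer_instance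
  have hinjAB : Function.Injective (algebraMap A B) := FaithfulSMul.algebraMap_injective A B
  have hinjCB : Function.Injective (algebraMap C B) := Subtype.val_injective
  have hinjAC : Function.Injective (algebraMap A C) := by
    intro a a' h
    apply hinjAB
    rw [IsScalarTower.algebraMap_apply A C B, h, ← IsScalarTower.algebraMap_apply A C B]
  have hunder : q.under A = IsLocalRing.maximalIdeal A := by
    rw [hq, Ideal.under_def, Ideal.comap_comap, ← IsScalarTower.algebraMap_eq]
    exact IsLocalRing.maximalIdeal_comap (algebraMap A B)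
  set f := Spec.map (CommRingCat.ofHom (algebraMap A C)) with hf
  haveI : LocallyOfFiniteType f := by
    rw [HasRingHomProperty.Spec_iff (P := @LocallyOfFiniteType)]
    exact RingHom.finiteType_algebraMap.mpr inferInstance
  haveI : IrreducibleSpace (Spec (CommRingCat.of C)) :=
    (inferInstance : IrreducibleSpace (PrimeSpectrum C))
  let x : Spec (CommRingCat.of C) := (⟨q, hqp⟩ : PrimeSpectrum C)
  have hgen : genericPoint (Spec (CommRingCat.of C)) =
      ((⟨⊥, Ideal.isPrime_bot⟩ : PrimeSpectrum C) : Spec (CommRingCat.of C)) :=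
    genericPoint_eq_bot_of_affine (CommRingCat.of C)
  have hflat : (f.stalkMap x).hom.Flat := flat_stalkMap_spec (A := A) (B := B) q
  have hmain := FlatPtH8.fibreDimAt_eq_generic_of_flat_stalkMap f x hflat
  rw [hgen] at hmain
  -- the three quantities
  have E1 := FibCohSpecH8.fibCoh_spec_eq (A := A) (B := B) q
  rw [hunder] at E1
  have E2 : Dual3.resTrdeg f x =
      Algebra.trdeg (IsLocalRing.ResidueField A) (IsLocalRing.ResidueField B) := by
    refine ResTrdegSpecH8.resTrdeg_spec_of_data (A := A) (C := C) (B := B) q q.primeCompl le_rfl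
      (IsLocalRing.residue A) (IsLocalRing.residue B) Ideal.Quotient.mk_surjective
      Ideal.Quotient.mk_surjective ?_ ?_ ?_
    · rw [hunder]; exact IsLocalRing.ker_residue
    · rw [IsLocalization.AtPrime.map_eq_maximalIdeal q B]; exact IsLocalRing.ker_residue
    · intro a; exact IsLocalRing.ResidueField.algebraMap_residue a
  have E3 : Dual3.resTrdeg f ((⟨⊥, Ideal.isPrime_bot⟩ : PrimeSpectrum C)) =
      Algebra.trdeg A B := by
    refine ResTrdegSpecH8.resTrdeg_spec_of_data (A := A) (C := C) (B := B) (⊥ : Ideal C) M ?_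
      (RingHom.id A) (RingHom.id B) Function.surjective_id Function.surjective_id ?_ ?_ ?_
    · rw [hM]
      intro c hc h0
      apply hc
      have : c = 0 := h0
      rw [this]; exact zero_mem _
    · rw [Ideal.under_def, Ideal.comap_bot_of_injective _ hinjAC]
      exact (RingHom.injective_iff_ker_eq_bot (RingHom.id A)).mp Function.injective_id
    · rw [Ideal.map_bot]
      exact (RingHom.injective_iff_ker_eq_bot (RingHom.id B)).mp Function.injective_id
    · intro a; rfl
  -- finiteness
  obtain ⟨D, hD⟩ := EquidimIrrH8.exists_nat_fibreDimAt f x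
  have hx := FibCohH8.fibreDimAt_eq f x
  have hη := FibCohH8.fibreDimAt_eq f ((⟨⊥, Ideal.isPrime_bot⟩ : PrimeSpectrum C))
  have hcoh0 : FibCohH8.fibCoh f ((⟨⊥, Ideal.isPrime_bot⟩ : PrimeSpectrum C)) = 0 := by
    apply AffDimH8.fibCoh_eq_zero_of_isMax
    intro u' hu'
    have h1 : (u' : PrimeSpectrum C).asIdeal ≤ (⊥ : Ideal C) :=
      (FibCohSpecH8.spec_specializes_iff u' _).mp hu'
    apply PrimeSpectrum.ext
    exact le_bot_iff.mp h1
  rw [hcoh0, E3] at hη
  rw [E2] at hx
  rw [hD] at hx
  rw [← hmain, hD] at hη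
  have hx' : ((D : ℕ∞)) = FibCohH8.fibCoh f x +
      Cardinal.toENat (Algebra.trdeg (IsLocalRing.ResidueField A) (IsLocalRing.ResidueField B)) := by
    have : ((D : ℕ∞) : WithBot ℕ∞) = ((FibCohH8.fibCoh f x +
      Cardinal.toENat (Algebra.trdeg (IsLocalRing.ResidueField A)
        (IsLocalRing.ResidueField B)) : ℕ∞) : WithBot ℕ∞) := by
      rw [WithBot.coe_add]; exact hx
    exact WithBot.coe_injective this
  obtain ⟨d, e, hd, he, hde⟩ := WithTop.add_eq_coe.mp hx'.symm
  refine ⟨d, e, ?_, ?_, ?_⟩
  · rw [← E1, ← hd]; rfl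
  · exact Cardinal.toENat_eq_natCast.mp he.symm
  · have hη' : ((D : ℕ∞)) = Cardinal.toENat (Algebra.trdeg A B) := by
      have : ((D : ℕ∞) : WithBot ℕ∞) = ((Cardinal.toENat (Algebra.trdeg A B) : ℕ∞) :
          WithBot ℕ∞) := by
        have h0 : ((0 : ℕ∞) : WithBot ℕ∞) = 0 := rfl
        rw [h0, zero_add] at hη
        exact hη
      exact WithBot.coe_injective this
    rw [hde]
    exact Cardinal.toENat_eq_natCast.mp hη'.symm

end Groth.Agent.Lib.DimFlatLocH8
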