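import Mathlib
import Groth.Agent.Lib.DimIneq_helper8
import Groth.Agent.Lib.CatHtLoc_helper8
import Groth.Agent.Lib.DimEq_helper8

/-!
# The dimension formula under a catenarity hypothesis on finite type subalgebras of `S[T]` (helper3)
APPEND-ONLY once landed.
-/

set_option autoImplicit false
universe u

namespace Groth.Agent.Lib.DimFormCatH3

open Ideal

/-- Local catenarity data above a prime `P`: a prime `M ⊇ P` whose local ring is catenary. -/
def CatAbove {A : Type u} [CommRing A] (P : Ideal A) : Prop :=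
  ∃ (M : Ideal A) (_ : M.IsPrime) (A' : Type u) (_ : CommRing A') (_ : Algebra A A')
    (_ : IsLocalization.AtPrime A' M), P ≤ M ∧ CAlg.IsCatenary A'

/-- The catenarity hypothesis, in a form stable under the induction on the number of
generators. -/
def Hyp (R S : Type u) [CommRing R] [CommRing S] [Algebra R S] (q : Ideal S) : Prop :=
  ∀ (B : Type u) [CommRing B] [Algebra R B] (φ : B →ₐ[R] S), Function.Injective φ →
    Algebra.FiniteType R B →
    ∀ (P : Ideal (MvPolynomial (Fin 1) B)) [P.IsPrime],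
      P.comap (MvPolynomial.C (σ := Fin 1)) = q.comap φ.toRingHom → CatAbove P

/-- The dimension formula for a simple extension `C = B[c]`. -/
theorem step (B C : Type u) [CommRing B] [IsDomain B] [IsNoetherianRing B] [CommRing C]
    [IsDomain C] [Algebra B C] [FaithfulSMul B C] (c : C) (hc : Algebra.adjoin B {c} = ⊤)
    (p : Ideal B) [hp : p.IsPrime] (q : Ideal C) [hq : q.IsPrime] [hqp : q.LiesOver p]
    (hcat : ∀ (P : Ideal (MvPolynomial (Fin 1) B)) [P.IsPrime],
      P.comap (MvPolynomial.C (σ := Fin 1)) = p → CatAbove P) :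
    ∃ a b rq rS : ℕ, q.height = a ∧ p.height = b ∧ Algebra.trdeg (B ⧸ p) (C ⧸ q) = rq ∧
      Algebra.trdeg B C = rS ∧ a + rq = b + rS := by
  classical
  let f : MvPolynomial (Fin 1) B →ₐ[B] C := MvPolynomial.aeval (fun _ => c)
  have hf : Function.Surjective f := by
    rw [← AlgHom.range_eq_top, ← Algebra.adjoin_range_eq_range_aeval]
    have : Set.range (fun _ : Fin 1 => c) = {c} := by
      ext x
      simp [eq_comm]
    rw [this, hc]
  obtain ⟨rq, rS, h1, h2, h3, h4, -⟩ := Groth.Agent.DimIneqH8.data_of_surjective B C p q 1 f hf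
  have hf' : Function.Surjective (f : MvPolynomial (Fin 1) B →+* C) := hf
  haveI : IsNoetherianRing C := isNoetherianRing_of_surjective _ C _ hf'
  obtain ⟨a, ha⟩ := ENat.ne_top_iff_exists.mp (Ideal.height_ne_top_of_isPrime (I := q))
  obtain ⟨b, hb⟩ := ENat.ne_top_iff_exists.mp (Ideal.height_ne_top_of_isPrime (I := p))
  set P := q.comap (f : MvPolynomial (Fin 1) B →+* C) with hPdef
  set Q := RingHom.ker (f : MvPolynomial (Fin 1) B →+* C) with hQdef
  haveI : P.IsPrime := Ideal.comap_isPrime _ _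
  haveI : Q.IsPrime := RingHom.ker_isPrime _
  have hQP : Q ≤ P := by
    intro x hx
    rw [hPdef, Ideal.mem_comap]
    rw [hQdef, RingHom.mem_ker] at hx
    rw [hx]
    exact q.zero_mem
  have hPp : P.comap (MvPolynomial.C (σ := Fin 1)) = p := by
    ext x
    rw [Ideal.mem_comap, hPdef, Ideal.mem_comap]
    have : (f : MvPolynomial (Fin 1) B →+* C) (MvPolynomial.C x) = algebraMap B C x :=
      f.commutes x
    rw [this]
    exact (Ideal.mem_of_liesOver q p x).symm
  obtain ⟨M, hM, A', _, _, hloc, hPM, hcatA'⟩ := hcat P hPp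
  haveI := hM
  haveI := hloc
  haveI : IsDomain A' := IsLocalization.isDomain_of_atPrime A' M
  have hdisj : Disjoint (M.primeCompl : Set (MvPolynomial (Fin 1) B)) (P : Set _) := by
    rw [Set.disjoint_left]
    intro x hx hxP
    exact hx (hPM hxP)
  have h5 := Groth.Agent.CatHtLocH8.height_add_height_map_mk_eq_of_localization M.primeCompl A'
    hcatA' Q P hQP hdisj
  rw [Groth.Agent.DimEqH8.height_map_mk_ker (f : MvPolynomial (Fin 1) B →+* C) hf' q] at h5
  obtain ⟨c', hc'⟩ := ENat.ne_top_iff_exists.mp (Ideal.height_ne_top_of_isPrime (I := P))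
  obtain ⟨d, hd⟩ := ENat.ne_top_iff_exists.mp (Ideal.height_ne_top_of_isPrime (I := Q))
  refine ⟨a, b, rq, rS, ha.symm, hb.symm, h1, h2, ?_⟩
  rw [← hc', ← hb] at h3
  rw [← hd] at h4
  rw [← hd, ← ha, ← hc'] at h5
  have h3' : c' + rq = b + 1 := by exact_mod_cast h3
  have h4' : d + rS = 1 := by exact_mod_cast h4
  have h5' : d + a = c' := by exact_mod_cast h5
  omega

/-- The dimension formula by induction on the number of generators. -/
theorem main_aux : ∀ (n : ℕ) (R S : Type u) [CommRing R] [IsDomain R] [IsNoetherianRing R]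
    [CommRing S] [IsDomain S] [Algebra R S] [FaithfulSMul R S] (s : Fin n → S)
    (_ : Algebra.adjoin R (Set.range s) = ⊤)
    (p : Ideal R) [p.IsPrime] (q : Ideal S) [q.IsPrime] [q.LiesOver p] (_ : Hyp R S q),
    ∃ a b rq rS : ℕ, q.height = a ∧ p.height = b ∧ Algebra.trdeg (R ⧸ p) (S ⧸ q) = rq ∧
      Algebra.trdeg R S = rS ∧ a + rq = b + rS := by
  intro n
  induction n with
  | zero =>
    intro R S _ _ _ _ _ _ _ s hs p _ q _ hqp H
    refine step R S 0 ?_ p q ?_
    · rw [eq_top_iff, ← hs]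
      refine Algebra.adjoin_mono ?_
      rintro _ ⟨i, rfl⟩
      exact i.elim0
    · intro P _ hP
      refine H R (Algebra.ofId R S) (FaithfulSMul.algebraMap_injective R S) inferInstance P ?_
      rw [hP]
      exact hqp.over
  | succ n ih =>
    intro R S _ _ _ _ _ _ _ s hs p _ q _ hqp H
    classical
    obtain ⟨B₀, hB₀⟩ : ∃ B₀ : Subalgebra R S,
        B₀ = Algebra.adjoin R (Set.range (fun i : Fin n => s i.castSucc)) := ⟨_, rfl⟩
    have hfg : B₀.FG := by
      rw [hB₀]
      exact Subalgebra.fg_def.mpr ⟨_, Set.finite_range _, rfl⟩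
    haveI hft₀ : Algebra.FiniteType R B₀ := B₀.fg_iff_finiteType.mp hfg
    haveI : IsNoetherianRing B₀ := Algebra.FiniteType.isNoetherianRing R B₀
    haveI : FaithfulSMul R B₀ := (faithfulSMul_iff_algebraMap_injective R B₀).mpr (by
      intro x y hxy
      apply FaithfulSMul.algebraMap_injective R S
      exact congrArg Subtype.val hxy)
    haveI : FaithfulSMul B₀ S :=
      (faithfulSMul_iff_algebraMap_injective B₀ S).mpr Subtype.val_injective
    obtain ⟨q₀, hq₀⟩ : ∃ q₀ : Ideal B₀, q₀ = q.under B₀ := ⟨_, rfl⟩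
    haveI : q₀.IsPrime := by rw [hq₀]; exact Ideal.comap_isPrime _ _
    haveI : q₀.LiesOver p := by rw [hq₀]; infer_instance
    haveI : q.LiesOver q₀ := by rw [hq₀]; infer_instance
    -- generators of `B₀`
    have hmem : ∀ i : Fin n, s i.castSucc ∈ B₀ := fun i => by
      rw [hB₀]; exact Algebra.subset_adjoin ⟨i, rfl⟩
    let s₀ : Fin n → B₀ := fun i => ⟨s i.castSucc, hmem i⟩
    have hs₀ : Algebra.adjoin R (Set.range s₀) = ⊤ := by
      apply Subalgebra.map_injective (f := B₀.val) Subtype.val_injective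
      rw [AlgHom.map_adjoin, Algebra.map_top, Subalgebra.range_val, ← Set.range_comp]
      have : (B₀.val ∘ s₀) = fun i : Fin n => s i.castSucc := rfl
      rw [this]
      exact hB₀.symm
    have H₀ : Hyp R B₀ q₀ := by
      intro B _ _ φ hφ hft P _ hP
      refine H B (B₀.val.comp φ) (Subtype.val_injective.comp hφ) hft P ?_
      rw [hP, hq₀]
      rfl
    obtain ⟨a₀, b, rq₀, rS₀, ha₀, hb, h1, h2, h3⟩ := ih R B₀ s₀ hs₀ p q₀ H₀
    have hc : Algebra.adjoin B₀ {s (Fin.last n)} = ⊤ := by
      rw [eq_top_iff]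
      have hle : (⊤ : Subalgebra R S) ≤
          (Algebra.adjoin B₀ {s (Fin.last n)}).restrictScalars R := by
        rw [← hs]
        refine Algebra.adjoin_le ?_
        rintro _ ⟨i, rfl⟩
        refine Fin.lastCases ?_ (fun j => ?_) i
        · exact Algebra.subset_adjoin (Set.mem_singleton _)
        · exact Subalgebra.algebraMap_mem (Algebra.adjoin B₀ {s (Fin.last n)}) (s₀ j)
      intro x _
      exact hle Algebra.mem_top
    obtain ⟨a, a₀', rq₁, rS₁, ha, ha₀', h1', h2', h3'⟩ :=
      step B₀ S (s (Fin.last n)) hc q₀ q (fun P _ hP =>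
        H B₀ B₀.val Subtype.val_injective hft₀ P (by rw [hP, hq₀]; rfl))
    have hee : a₀ = a₀' := by exact_mod_cast ha₀.symm.trans ha₀'
    haveI : IsScalarTower (R ⧸ p) (B₀ ⧸ q₀) (S ⧸ q) := IsScalarTower.of_algebraMap_eq <| by
      rintro ⟨x⟩
      rfl
    have ht1 := trdeg_add_eq (R := R ⧸ p) (S := B₀ ⧸ q₀) (A := S ⧸ q)
    have ht2 := trdeg_add_eq (R := R) (S := B₀) (A := S)
    rw [h1, h1'] at ht1
    rw [h2, h2'] at ht2
    refine ⟨a, b, rq₀ + rq₁, rS₀ + rS₁, ha, hb, ?_, ?_, by omega⟩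
    · rw [← ht1]; push_cast; rfl
    · rw [← ht2]; push_cast; rfl

end Groth.Agent.Lib.DimFormCatH3
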