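import Mathlib
import Groth.Agent.Lib.DimFormCat_helper3

/-!
# The dimension formula under a catenarity hypothesis on subalgebras of `S[T]`, part 2 (helper3)
APPEND-ONLY once landed.
-/

set_option autoImplicit false
universe u

namespace Groth.Agent.Lib.DimFormCatH3

open Ideal

section Psi

variable {R S : Type u} [CommRing R] [CommRing S] [Algebra R S]
  (B : Type u) [CommRing B] [Algebra R B] (φ : B →ₐ[R] S)

/-- The ring map `B[X₀] → S[T]`. -/
noncomputable def psiRing : MvPolynomial (Fin 1) B →+* Polynomial S :=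
  (Polynomial.mapRingHom φ.toRingHom).comp
    (MvPolynomial.uniqueAlgEquiv B (Fin 1)).toRingEquiv.toRingHom

theorem psiRing_algebraMap (r : R) :
    psiRing B φ (algebraMap R (MvPolynomial (Fin 1) B) r) = algebraMap R (Polynomial S) r := by
  rw [MvPolynomial.algebraMap_apply]
  change Polynomial.map φ.toRingHom
    (MvPolynomial.uniqueAlgEquiv B (Fin 1) (MvPolynomial.C (algebraMap R B r))) = _
  have : MvPolynomial.uniqueAlgEquiv B (Fin 1) (MvPolynomial.C (algebraMap R B r)) =
      Polynomial.C (algebraMap R B r) := (MvPolynomial.uniqueAlgEquiv B (Fin 1)).commutes _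
  rw [this, Polynomial.map_C, Polynomial.algebraMap_apply]
  congr 1
  exact φ.commutes r

/-- The `R`-algebra map `B[X₀] → S[T]`. -/
noncomputable def psi : MvPolynomial (Fin 1) B →ₐ[R] Polynomial S :=
  { psiRing B φ with commutes' := psiRing_algebraMap B φ }

theorem psi_injective (hφ : Function.Injective φ) : Function.Injective (psi B φ) := by
  intro x y hxy
  have h1 : Polynomial.map φ.toRingHom (MvPolynomial.uniqueAlgEquiv B (Fin 1) x) =
      Polynomial.map φ.toRingHom (MvPolynomial.uniqueAlgEquiv B (Fin 1) y) := hxy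
  exact (MvPolynomial.uniqueAlgEquiv B (Fin 1)).injective (Polynomial.map_injective _ hφ h1)

end Psi

theorem hyp_of_hcat (R : Type u) [CommRing R] [IsLocalRing R]
    (S : Type u) [CommRing S] [Algebra R S] (q : Ideal S)
    [hq : q.LiesOver (IsLocalRing.maximalIdeal R)]
    (hcat : ∀ A' : Subalgebra R (Polynomial S), A'.FG →
      ∀ (m' : Ideal A') [m'.IsMaximal], m'.LiesOver (IsLocalRing.maximalIdeal R) →
        CAlg.IsCatenary (Localization.AtPrime m')) : Hyp R S q := by
  intro B _ _ φ hφ hft P hPp hP
  classical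
  obtain ⟨ψ, hψdef⟩ : ∃ ψ : MvPolynomial (Fin 1) B →ₐ[R] Polynomial S, ψ = psi B φ := ⟨_, rfl⟩
  have hψ : Function.Injective ψ := by rw [hψdef]; exact psi_injective B φ hφ
  haveI : Algebra.FiniteType R (MvPolynomial (Fin 1) B) :=
    Algebra.FiniteType.trans hft inferInstance
  have hfg : ψ.range.FG := by
    rw [← Algebra.map_top]
    exact Subalgebra.FG.map _ Algebra.FiniteType.out
  let e' : MvPolynomial (Fin 1) B ≃ₐ[R] ψ.range := AlgEquiv.ofInjective ψ hψ
  let e : MvPolynomial (Fin 1) B ≃+* ψ.range := e'.toRingEquiv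
  have hP'ne : P.map (e : MvPolynomial (Fin 1) B →+* ψ.range) ≠ ⊤ := by
    have h1 : (P.map (e : MvPolynomial (Fin 1) B →+* ψ.range)).IsPrime :=
      Ideal.map_isPrime_of_equiv (I := P) e
    exact h1.ne_top
  obtain ⟨m', hm', hPm'⟩ := Ideal.exists_le_maximal _ hP'ne
  haveI := hm'
  have hlies : m'.LiesOver (IsLocalRing.maximalIdeal R) := ⟨by
    apply le_antisymm
    · intro r hr
      change algebraMap R ψ.range r ∈ m'
      have h1 : algebraMap R S r ∈ q := (Ideal.mem_of_liesOver q _ r).mp hr
      have h2 : algebraMap R B r ∈ q.comap φ.toRingHom := by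
        rw [Ideal.mem_comap]
        have : φ.toRingHom (algebraMap R B r) = algebraMap R S r := φ.commutes r
        rw [this]
        exact h1
      rw [← hP, Ideal.mem_comap] at h2
      have h3 : e (MvPolynomial.C (algebraMap R B r)) ∈ m' :=
        hPm' (Ideal.mem_map_of_mem _ h2)
      have h4 : e (MvPolynomial.C (algebraMap R B r)) = algebraMap R ψ.range r := by
        rw [← MvPolynomial.algebraMap_apply]
        exact e'.commutes r
      rw [← h4]
      exact h3
    · exact IsLocalRing.le_maximalIdeal (Ideal.comap_ne_top _ hm'.ne_top)⟩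
  have hcatm := hcat ψ.range hfg m' hlies
  letI alg : Algebra (MvPolynomial (Fin 1) B) (Localization.AtPrime m') :=
    ((algebraMap ψ.range (Localization.AtPrime m')).comp
      (e : MvPolynomial (Fin 1) B →+* ψ.range)).toAlgebra
  have hM : Submonoid.map e (m'.comap (e : MvPolynomial (Fin 1) B →+* ψ.range)).primeCompl =
      m'.primeCompl := by
    ext x
    constructor
    · rintro ⟨y, hy, rfl⟩
      exact hy
    · intro hx
      refine ⟨e.symm x, ?_, e.apply_symm_apply x⟩
      change ¬ (e (e.symm x) ∈ m')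
      rw [e.apply_symm_apply]
      exact hx
  haveI hloc : IsLocalization.AtPrime (Localization.AtPrime m')
      (m'.comap (e : MvPolynomial (Fin 1) B →+* ψ.range)) :=
    IsLocalization.of_ringEquiv_left e (M₁ := m'.primeCompl) hM (fun x => rfl)
  refine ⟨m'.comap (e : MvPolynomial (Fin 1) B →+* ψ.range), Ideal.comap_isPrime _ _,
    Localization.AtPrime m', inferInstance, alg, hloc, ?_, hcatm⟩
  intro x hx
  exact hPm' (Ideal.mem_map_of_mem _ hx)

/-- The dimension formula under the catenarity hypothesis of 0_IV 16 / IV 5.6. -/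
theorem main (R : Type u) [CommRing R] [IsDomain R]
    [IsNoetherianRing R] [IsLocalRing R] (S : Type u) [CommRing S] [IsDomain S] [Algebra R S]
    [FaithfulSMul R S] [Algebra.FiniteType R S] (q : Ideal S) [q.IsPrime]
    [q.LiesOver (IsLocalRing.maximalIdeal R)]
    (hcat : ∀ A' : Subalgebra R (Polynomial S), A'.FG →
      ∀ (m' : Ideal A') [m'.IsMaximal], m'.LiesOver (IsLocalRing.maximalIdeal R) →
        CAlg.IsCatenary (Localization.AtPrime m')) :
    ∃ a b rq rS : ℕ, q.height = a ∧ (IsLocalRing.maximalIdeal R).height = b ∧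
      Algebra.trdeg (R ⧸ IsLocalRing.maximalIdeal R) (S ⧸ q) = rq ∧
      Algebra.trdeg R S = rS ∧ a + rq = b + rS := by
  classical
  obtain ⟨t, ht⟩ := (Algebra.FiniteType.out : (⊤ : Subalgebra R S).FG)
  let s : Fin t.card → S := fun i => (t.equivFin.symm i : S)
  have hs : Set.range s = (t : Set S) := by
    ext x
    constructor
    · rintro ⟨i, rfl⟩
      exact (t.equivFin.symm i).2
    · intro hx
      exact ⟨t.equivFin ⟨x, hx⟩, by simp [s]⟩
  exact main_aux t.card R S s (by rw [hs, ht]) (IsLocalRing.maximalIdeal R) q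
    (hyp_of_hcat R S q hcat)

end Groth.Agent.Lib.DimFormCatH3
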