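import Mathlib
import Groth.Prelude.Def_EGA43
import Groth.Agent.Lib.RelDim_helper8
import Groth.Agent.Lib.OpenAtEq_helper8

/-! EGA IV 13.3.x: the dimension formula at `x` iff there is a good generic point of a fibre
component. -/

universe u
open AlgebraicGeometry CategoryTheory TopologicalSpace IsLocalRing

namespace DimFormZH8

open RelDimH8 Equi133H8

variable {X Y : Scheme.{u}}

theorem main [IsLocallyNoetherian Y]
    (f : X ⟶ Y) [LocallyOfFiniteType f] (x : X)
    (hcat : CAlg.IsUniversallyCatenary (Y.presheaf.stalk (f.base x))) :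
    ringKrullDim (X.presheaf.stalk x) =
        ringKrullDim (Y.presheaf.stalk (f.base x)) +
          ringKrullDim ((f.fiber (f.base x)).presheaf.stalk (f.asFiber x)) ↔
      ∃ z : X, f.base z = f.base x ∧ z ⤳ x ∧
        (∀ z' : X, f.base z' = f.base x → z' ⤳ z → z' = z) ∧
        FlatMor.fibreDimAt f z = FlatMor.fibreDimAt f x ∧
        ringKrullDim (X.presheaf.stalk z) = ringKrullDim (Y.presheaf.stalk (f.base z)) := by
  haveI : IsLocallyNoetherian X := LocallyOfFiniteType.isLocallyNoetherian f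
  obtain ⟨b, hb⟩ := exists_nat_ringKrullDim (X.presheaf.stalk x)
  obtain ⟨a, ha⟩ := exists_nat_ringKrullDim (Y.presheaf.stalk (f.base x))
  haveI := Groth.Agent.FibChainH8.isLocallyNoetherian_fiber f (f.base x)
  obtain ⟨c, hc⟩ := exists_nat_ringKrullDim ((f.fiber (f.base x)).presheaf.stalk (f.asFiber x))
  obtain ⟨n, hn⟩ := Groth.Agent.ResQuot2H8.exists_trdeg_nat f x
  have hn' : Dual3.resTrdeg f x = n := hn
  have hfx : FlatMor.fibreDimAt f x = ((c + n : ℕ) : WithBot ℕ∞) := by
    rw [FibCohH8.fibreDimAt_eq f x, ← FibCohH8.stalk_fiber_eq_fibCoh, hc]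
    rw [hn', Cardinal.toENat_nat]
    push_cast; rfl
  have hle := dim_stalk_le f x
  rw [hb, ha, hc] at hle
  have hle' : b ≤ a + c := by exact_mod_cast hle
  have hdimY : ∀ z : X, f.base z = f.base x →
      ringKrullDim (Y.presheaf.stalk (f.base z)) = (a : WithBot ℕ∞) := by
    intro z hz; rw [hz]; exact ha
  have hcatz : ∀ z : X, f.base z = f.base x →
      CAlg.IsUniversallyCatenary (Y.presheaf.stalk (f.base z)) := by
    intro z hz; rw [hz]; exact hcat
  rw [hb, ha, hc]
  constructor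
  · intro hform
    have habc : b = a + c := by exact_mod_cast hform
    obtain ⟨ξ, hξx, hξmax, hξdim⟩ := exists_max_relDim_eq x
    obtain ⟨E0, hE0⟩ := Groth.Agent.ResQuot2H8.exists_trdeg_nat f ξ
    have hE0' : Dual3.resTrdeg f ξ = E0 := hE0
    have hF1 := formula f x ξ hξx hcat n E0 hn' hE0'
    obtain ⟨a0, ha0, ha0le⟩ := exists_nat_of_le_of_ne_bot
      (relDim (f.base x) (f.base ξ) (hξx.map f.continuous)) a
      (ha ▸ relDim_le _ _ _) (relDim_ne_bot _ _ _)
    rw [hξdim, hb, ha0] at hF1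
    have hF1' : b + n = a0 + E0 := by exact_mod_cast hF1
    have hfξ : FlatMor.fibreDimAt f ξ = ((E0 : ℕ) : WithBot ℕ∞) := by
      rw [FibGenH8.fibreDimAt_of_isMax f _ hξmax, hE0', Cardinal.toENat_nat]
      rfl
    have hsemi := FibGenH8.fibreDimAt_le_of_specializes f hξx
    rw [hfx, hfξ] at hsemi
    have hsemi' : E0 ≤ c + n := by exact_mod_cast hsemi
    have hE0eq : E0 = c + n := by omega
    have ha0eq : a0 = a := by omega
    -- choose `P`
    set p0 := primeOf x ξ hξx with hp0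
    have hp0ξ : X.fromSpecStalk x p0 = ξ := fromSpecStalk_primeOf x ξ hξx
    have hne : Groth.Agent.FibStalkDimH8.fibIdeal f x ⊔ p0.asIdeal ≤
        maximalIdeal (X.presheaf.stalk x) :=
      sup_le ((Ideal.map_le_iff_le_comap).mpr
        (le_of_eq (((local_hom_TFAE (f.stalkMap x).hom).out 0 4 rfl rfl).mp inferInstance).symm))
        (IsLocalRing.le_maximalIdeal p0.2.ne_top)
    obtain ⟨𝔓, h𝔓min, h𝔓le⟩ := Ideal.exists_minimalPrimes_le hne
    let P : Spec (X.presheaf.stalk x) := ⟨𝔓, h𝔓min.1.1⟩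
    have hzx : X.fromSpecStalk x P ⤳ x := specializes_fromSpecStalk x P
    have hξz : ξ ⤳ X.fromSpecStalk x P := by
      rw [← hp0ξ]
      exact (OpenAtDimH8.fromSpecStalk_specializes_iff x p0 P).mpr (le_sup_right.trans h𝔓min.1.2)
    have hfz : f.base (X.fromSpecStalk x P) = f.base x :=
      map_eq_of_fibIdeal_le f x P (le_sup_left.trans h𝔓min.1.2)
    have hmin : ∀ w : X, ξ ⤳ w → w ⤳ X.fromSpecStalk x P →
        f.base w = f.base (X.fromSpecStalk x P) → w = X.fromSpecStalk x P := by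
      intro w h1 h2 h3
      obtain ⟨Q, rfl⟩ := OpenAtDimH8.exists_fromSpecStalk_eq x (h2.trans hzx)
      have hQP : Q.asIdeal ≤ P.asIdeal := (OpenAtDimH8.fromSpecStalk_specializes_iff x Q P).mp h2
      have hp0Q : p0.asIdeal ≤ Q.asIdeal := by
        rw [← hp0ξ] at h1
        exact (OpenAtDimH8.fromSpecStalk_specializes_iff x p0 Q).mp h1
      have hfib : Groth.Agent.FibStalkDimH8.fibIdeal f x ≤ Q.asIdeal :=
        fibIdeal_le_of_map_eq f x Q (h3.trans hfz)
      have hPQ : P.asIdeal ≤ Q.asIdeal := h𝔓min.2 ⟨Q.2, sup_le hfib hp0Q⟩ hQP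
      have : Q = P := PrimeSpectrum.ext (le_antisymm hQP hPQ)
      rw [this]
    generalize hzdef : X.fromSpecStalk x P = z at hzx hξz hfz hmin
    have hDL := relDim_le_of_fibre_min f z ξ hξz hmin
    rw [hdimY z hfz] at hDL
    obtain ⟨EP, hEP⟩ := Groth.Agent.ResQuot2H8.exists_trdeg_nat f z
    have hEP' : Dual3.resTrdeg f z = EP := hEP
    have hF2 := formula f z ξ hξz (hcatz z hfz) EP E0 hEP' hE0'
    rw [relDim_congr hfz rfl _ (hξx.map f.continuous), ha0] at hF2
    obtain ⟨r, hr, hrle⟩ := exists_nat_of_le_of_ne_bot (relDim z ξ hξz) a hDL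
      (relDim_ne_bot _ _ _)
    rw [hr] at hF2
    have hF2' : r + EP = a0 + E0 := by exact_mod_cast hF2
    have hF3 := formula f x z hzx hcat n EP hn' hEP'
    rw [relDim_congr rfl hfz _ specializes_rfl, relDim_self, zero_add] at hF3
    have hpc : relDim x z hzx ≤ (c : WithBot ℕ∞) := by
      subst hzdef
      rw [relDim_fromSpecStalk, ← hc, ← OpenAtDimH8.dim_quot_eq f x]
      exact ringKrullDim_le_of_surjective
        (Ideal.Quotient.factor (le_sup_left.trans h𝔓min.1.2))
        (Ideal.Quotient.factor_surjective _)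
    obtain ⟨p, hp, hple⟩ := exists_nat_of_le_of_ne_bot (relDim x z hzx) c hpc
      (relDim_ne_bot _ _ _)
    rw [hp] at hF3
    have hF3' : p + n = EP := by exact_mod_cast hF3
    have hEPeq : EP = c + n := by omega
    have hreq : r = a := by omega
    have hfzeq := FibCohH8.fibreDimAt_eq f z
    rw [hEP', Cardinal.toENat_nat] at hfzeq
    have hcoh0 : FibCohH8.fibCoh f z = 0 := by
      have h2 := FibGenH8.fibreDimAt_le_of_specializes f hzx
      rw [hfzeq, hfx] at h2
      have h3 : FibCohH8.fibCoh f z + (EP : ℕ∞) ≤ ((c + n : ℕ) : ℕ∞) := by exact_mod_cast h2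
      generalize FibCohH8.fibCoh f z = k at h3
      induction k with
      | top => simp at h3
      | coe k =>
        have h4 : k + EP ≤ c + n := by exact_mod_cast h3
        have h5 : k = 0 := by omega
        simp [h5]
    refine ⟨z, hfz, hzx, ?_, ?_, ?_⟩
    · intro z' hz' hz'z
      have hmax : IsMax (⟨z, rfl⟩ : {u' : X // f u' = f z}) := Order.coheight_eq_zero.mp hcoh0
      have h1 : (⟨z, rfl⟩ : {u' : X // f u' = f z}) ≤ ⟨z', hz'.trans hfz.symm⟩ := hz'z
      have h2 : z ⤳ z' := hmax h1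
      exact (hz'z.antisymm h2).eq
    · rw [hfzeq, hcoh0, hfx, hEPeq]
      push_cast; simp
    · have h1 := relDim_le z ξ hξz
      have h2 := dim_stalk_le f z
      haveI := Groth.Agent.FibChainH8.isLocallyNoetherian_fiber f (f.base z)
      rw [FibCohH8.stalk_fiber_eq_fibCoh, hcoh0] at h2
      rw [hdimY z hfz] at h2 ⊢
      rw [hr, hreq] at h1
      apply le_antisymm
      · simpa using h2
      · exact h1
  · rintro ⟨z, hfz, hzx, hmax, hfd, hdz⟩
    have hcoh0 : FibCohH8.fibCoh f z = 0 :=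
      OpenAtEqH8.fibCoh_eq_zero_of_isMax f z (fun x'' h1 h2 => hmax x'' (h1.trans hfz) h2)
    obtain ⟨EP, hEP⟩ := Groth.Agent.ResQuot2H8.exists_trdeg_nat f z
    have hEP' : Dual3.resTrdeg f z = EP := hEP
    have hfzeq := FibCohH8.fibreDimAt_eq f z
    rw [hEP', Cardinal.toENat_nat, hcoh0, hfd, hfx] at hfzeq
    have hEPeq : c + n = EP := by
      have : ((c + n : ℕ) : WithBot ℕ∞) = ((EP : ℕ) : WithBot ℕ∞) := by
        rw [hfzeq]; simp
      exact_mod_cast this
    obtain ⟨ξ, hξz, hξmax, hξdim⟩ := exists_max_relDim_eq z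
    rw [hdz, hdimY z hfz] at hξdim
    obtain ⟨E0, hE0⟩ := Groth.Agent.ResQuot2H8.exists_trdeg_nat f ξ
    have hE0' : Dual3.resTrdeg f ξ = E0 := hE0
    have hξx := hξz.trans hzx
    have hF2 := formula f z ξ hξz (hcatz z hfz) EP E0 hEP' hE0'
    rw [relDim_congr hfz rfl _ (hξx.map f.continuous)] at hF2
    have hF1 := formula f x ξ hξx hcat n E0 hn' hE0'
    obtain ⟨a0, ha0, -⟩ := exists_nat_of_le_of_ne_bot
      (relDim (f.base x) (f.base ξ) (hξx.map f.continuous)) a
      (ha ▸ relDim_le _ _ _) (relDim_ne_bot _ _ _)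
    obtain ⟨r, hr, hrb⟩ := exists_nat_of_le_of_ne_bot (relDim x ξ hξx) b
      (hb ▸ relDim_le _ _ _) (relDim_ne_bot _ _ _)
    rw [hξdim, ha0] at hF2
    rw [hr, ha0] at hF1
    have hF2' : a + EP = a0 + E0 := by exact_mod_cast hF2
    have hF1' : r + n = a0 + E0 := by exact_mod_cast hF1
    have : b = a + c := by omega
    exact_mod_cast this

end DimFormZH8
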