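import Groth.Agent.Lib.AlgSpGeneriz_helper6
import Groth.Agent.Lib.AlgSpFibre_helper6
import Groth.Agent.Lib.AlgSpPoints_helper7
import Groth.Agent.Lib.AlgSpQfFin_helper7
import Groth.Agent.Lib.AlgSpQC_helper7

/-!
# S10406: dimension functions descend along finite surjective morphisms of decent spaces (helper7)
-/

set_option autoImplicit false
set_option linter.style.haveILetI false
universe u
open CategoryTheory CategoryTheory.Limits AlgebraicGeometry Opposite MorphismProperty
open AlgSp Groth.Agent.Lib.AlgSpPoints_helper7 Groth.Agent.Lib.AlgSpQC_helper7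

namespace Groth.Agent.Lib.DimFunFinH7

/-- No nontrivial specializations in the fibres of a locally quasi-finite morphism of schemes. -/
theorem eq_of_specializes_of_lqf {W V : Scheme.{u}} (i : W ⟶ V) [LocallyQuasiFinite i]
    (w w' : W) (h : w ⤳ w') (he : i w = i w') : w = w' := by
  obtain ⟨O, hO, hOe⟩ := isDiscrete_iff_forall_mem_exists_isOpen.mp
    (i.isDiscrete_preimage_singleton (i w')) w' rfl
  have hw'O : w' ∈ O := by
    have : w' ∈ O ∩ i ⁻¹' {i w'} := by rw [hOe]; rfl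
    exact this.1
  have hwO : w ∈ O := h.mem_open hO hw'O
  have : w ∈ O ∩ i ⁻¹' {i w'} := ⟨hwO, he⟩
  rw [hOe] at this
  exact this

variable {S : Scheme.{u}}

/-- points of a represented pullback -/
theorem exists_pt_of_isPullback {X Y : Sp S} {f : Y ⟶ X} {V W : Over S}
    {b : (yon S).obj V ⟶ X} {i : W ⟶ V} {fst : (yon S).obj W ⟶ Y}
    (sq : IsPullback fst ((yon S).map i) f b) (y : Points Y) (v : ↥V.left)
    (h : Points.map f y = Points.ofPt b v) : ∃ w : ↥W.left, Points.ofPt fst w = y ∧ i.left w = v := by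
  obtain ⟨z, hz1, hz2⟩ := exists_of_isPullback sq y (Points.ofScheme V v)
    (by rw [h, Points.ofPt_eq_map_ofScheme])
  obtain ⟨w, rfl⟩ := ofScheme_surjective W z
  refine ⟨w, ?_, ?_⟩
  · rw [Points.ofPt_eq_map_ofScheme]; exact hz1
  · apply ofScheme_injective V
    rw [← ofPt_yon_map, Points.ofPt_eq_map_ofScheme]; exact hz2

/-- No nontrivial specializations in the fibres of a finite morphism of decent spaces. -/
theorem eq_of_specializes_of_isFiniteMor {X Y : Sp S} (hXa : IsAlgSpace X) (f : Y ⟶ X)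
    (hf : IsFiniteMor f) (hX : IsDecent X) (hY : IsDecent Y) (y t : Points Y) (h : y ⤳ t)
    (he : Points.map f y = Points.map f t) : y = t := by
  obtain ⟨V, b, v, hVaff, hbe, hv⟩ :=
    Groth.Agent.Lib.AlgSpQfFinH7.exists_affine_chart hXa (Points.map f t)
  obtain ⟨W, i, fst, sq, hWaff, hi⟩ := hf hVaff b
  haveI := hi
  have hfste : RepWith @Etale fst := repWith_fst_of_isPullback _ sq hbe
  obtain ⟨wt, hwt, hiwt⟩ := exists_pt_of_isPullback sq t v hv.symm
  obtain ⟨ry, hry, hm, hqc⟩ := hY y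
  obtain ⟨wy, hwywt, hwy⟩ := Groth.Agent.Lib.AlgSpGeneriz_helper6.exists_specializes_lift t y h
    ry hry hqc fst hfste wt hwt
  have hfy : Points.ofPt b (i.left wy) = Points.map f y := by
    rw [← hwy, Points.map_ofPt, sq.w, ofPt_comp]
  have h1 : i.left wy ⤳ v := by
    have := hwywt.map i.left.continuous
    rwa [hiwt] at this
  have h2 : v = i.left wy :=
    Groth.Agent.Lib.AlgSpFibre_helper6.eq_of_specializes_of_isDecent hX b hbe v (i.left wy)
      (by rw [hfy, he, hv]) h1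
  have h3 : wy = wt := eq_of_specializes_of_lqf i.left wy wt hwywt (by rw [← h2, hiwt])
  rw [← hwy, ← hwt, h3]

/-- Specializations lift along finite surjective morphisms to a decent space. -/
theorem exists_specializes_lift_of_isFiniteMor {X Y : Sp S} (hXa : IsAlgSpace X) (f : Y ⟶ X)
    (hf : IsFiniteMor f) (hs : IsSurjectiveMor f) (hX : IsDecent X) (x x' : Points X)
    (h : x ⤳ x') : ∃ y y' : Points Y, y ⤳ y' ∧ Points.map f y = x ∧ Points.map f y' = x' := by
  obtain ⟨V, b, v', hVaff, hbe, hv'⟩ := Groth.Agent.Lib.AlgSpQfFinH7.exists_affine_chart hXa x'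
  obtain ⟨rx, hrx, hm, hqc⟩ := hX x
  obtain ⟨v, hvv', hv⟩ := Groth.Agent.Lib.AlgSpGeneriz_helper6.exists_specializes_lift x' x h
    rx hrx hqc b hbe v' hv'
  obtain ⟨W, i, fst, sq, hWaff, hi⟩ := hf hVaff b
  haveI := hi
  obtain ⟨y₀, hy₀⟩ := hs x
  obtain ⟨w, hw, hiw⟩ := exists_pt_of_isPullback sq y₀ v (by rw [hy₀, hv])
  obtain ⟨w', hww', hiw'⟩ := i.left.isClosedMap.specializingMap (a := w) (b := v')
    (by rw [hiw]; exact hvv')
  refine ⟨Points.ofPt fst w, Points.ofPt fst w', hww'.map (Points.continuous_ofPt fst), ?_, ?_⟩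
  · rw [Points.map_ofPt, sq.w, ofPt_comp, hiw, hv]
  · rw [Points.map_ofPt, sq.w, ofPt_comp, hiw', hv']

theorem main10406 {S : Scheme.{u}} {X Y : AlgSp.Space S} (f : Y ⟶ X)
    (hf : AlgSp.IsFiniteMor f.hom) (hs : AlgSp.IsSurjectiveMor f.hom) (hX : AlgSp.IsDecent X.obj)
    (hY : AlgSp.IsDecent Y.obj) (hXN : AlgSp.IsLocNoethSp X.obj) (hYN : AlgSp.IsLocNoethSp Y.obj)
    (δ : AlgSp.Points X.obj → ℤ)
    (hδ : (∀ a b : AlgSp.Points Y.obj, a ⤳ b → a ≠ b → (δ ∘ AlgSp.Points.map f.hom) b < (δ ∘ AlgSp.Points.map f.hom) a ∧ ((∀ c : AlgSp.Points Y.obj, a ⤳ c → c ⤳ b → c = a ∨ c = b) → (δ ∘ AlgSp.Points.map f.hom) a = (δ ∘ AlgSp.Points.map f.hom) b + 1))) :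
    (∀ a b : AlgSp.Points X.obj, a ⤳ b → a ≠ b → δ b < δ a ∧ ((∀ c : AlgSp.Points X.obj, a ⤳ c → c ⤳ b → c = a ∨ c = b) → δ a = δ b + 1)) := by
  intro a b hab hne
  obtain ⟨a', b', ha'b', ha', hb'⟩ :=
    exists_specializes_lift_of_isFiniteMor X.property f.hom hf hs hX a b hab
  have hne' : a' ≠ b' := by
    rintro rfl
    exact hne (ha'.symm.trans hb')
  obtain ⟨h1, h2⟩ := hδ a' b' ha'b' hne'
  simp only [Function.comp_apply, ha', hb'] at h1 h2
  refine ⟨h1, fun himm => h2 ?_⟩
  intro c hac hcb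
  have s1 : a ⤳ Points.map f.hom c := by
    have := hac.map (Points.continuous_map f.hom)
    rwa [ha'] at this
  have s2 : Points.map f.hom c ⤳ b := by
    have := hcb.map (Points.continuous_map f.hom)
    rwa [hb'] at this
  rcases himm _ s1 s2 with h | h
  · left
    exact (eq_of_specializes_of_isFiniteMor X.property f.hom hf hX hY a' c hac
      (ha'.trans h.symm)).symm
  · right
    exact eq_of_specializes_of_isFiniteMor X.property f.hom hf hX hY c b' hcb (h.trans hb'.symm)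

end Groth.Agent.Lib.DimFunFinH7
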