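import Mathlib
import Groth.Prelude.Def_Cyc
import Groth.Agent.Lib.JUC2_helper8

/-! A dimension function on a locally Noetherian scheme with catenary local rings computes the
dimensions `ρ x u = dim O_x / P_u`. -/

universe u

open AlgebraicGeometry CategoryTheory

namespace Groth.Agent.DimFunRhoH8

open Groth.Agent.JUC2H8

theorem delta_sub_eq_ρ_aux (X : Scheme.{u}) [IsLocallyNoetherian X] (δ : X → ℤ)
    (hδ : Cyc.IsDimFun X δ) (x : X) (hcat : CAlg.IsCatenary (X.presheaf.stalk x)) (d : ℕ) :
    ∀ u z : X, u ⤳ z → z ⤳ x → (δ u - δ z).toNat = d →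
      (ρ X x u : ℤ) = ρ X x z + (δ u - δ z) := by
  induction d using Nat.strong_induction_on with
  | _ d ih =>
    intro u z huz hzx hd
    by_cases hne : u = z
    · subst hne
      simp
    · have hlt := (hδ u z huz hne).1
      by_cases himm : ∀ w : X, u ⤳ w → w ⤳ z → w = u ∨ w = z
      · have h1 := (hδ u z huz hne).2 himm
        have h2 := ρ_succ X x z u hcat hzx huz hne himm
        rw [h2, h1]
        push_cast
        ring
      · push Not at himm
        obtain ⟨w, hw1, hw2, hw3, hw4⟩ := himm
        have l1 := (hδ u w hw1 (fun h => hw3 h.symm)).1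
        have l2 := (hδ w z hw2 hw4).1
        have e1 := ih (δ u - δ w).toNat (by omega) u w hw1 (hw2.trans hzx) rfl
        have e2 := ih (δ w - δ z).toNat (by omega) w z hw2 hzx rfl
        rw [e1, e2]
        ring

theorem delta_sub_eq_ρ (X : Scheme.{u}) [IsLocallyNoetherian X] (δ : X → ℤ)
    (hδ : Cyc.IsDimFun X δ) (x : X) (hcat : CAlg.IsCatenary (X.presheaf.stalk x)) (u : X)
    (hux : u ⤳ x) : δ u - δ x = ρ X x u := by
  have := delta_sub_eq_ρ_aux X δ hδ x hcat _ u x hux specializes_rfl rfl
  rw [ρ_self] at this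
  rw [this]
  simp

end Groth.Agent.DimFunRhoH8
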