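import Mathlib
import Groth.Prelude.Def_Cyc
import Groth.Agent.Lib.JUC3_helper8
import Groth.Agent.Lib.FlatFibDim_helper8

/-! Jacobson locally Noetherian schemes with universally catenary local rings and equidimensional
irreducible components carry a dimension function vanishing at closed points. -/

universe u

open AlgebraicGeometry CategoryTheory

namespace Groth.Agent.JUC4H8

open Groth.Agent.DimFunH8 Groth.Agent.JUC2H8 Groth.Agent.JUC3H8

variable (S : Scheme.{u}) [IsLocallyNoetherian S] [JacobsonSpace S]

theorem exists_closed_specialization (s : S) : ∃ t : S, IsClosed ({t} : Set S) ∧ s ⤳ t := by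
  obtain ⟨t, ht1, ht2⟩ := nonempty_inter_closedPoints (X := S) (Z := closure ({s} : Set S))
    ⟨s, subset_closure rfl⟩ isClosed_closure.isLocallyClosed
  exact ⟨t, ht2, specializes_iff_mem_closure.mpr ht1⟩

/-- a chosen closed specialization -/
noncomputable def ts (s : S) : S := Classical.choose (exists_closed_specialization S s)

theorem ts_closed (s : S) : IsClosed ({ts S s} : Set S) :=
  (Classical.choose_spec (exists_closed_specialization S s)).1

theorem specializes_ts (s : S) : s ⤳ ts S s :=
  (Classical.choose_spec (exists_closed_specialization S s)).2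

/-- the dimension function -/
noncomputable def δ (s : S) : ℤ := (ρ S (ts S s) s : ℤ)

theorem exists_component_generic (s : S) :
    ∃ σ : S, closure ({σ} : Set S) ∈ irreducibleComponents ↥S ∧ σ ⤳ s := by
  obtain ⟨σ, hσ, -, -⟩ :=
    Groth.Agent.FlatFibDimH8.exists_generic_of_mem_irreducibleComponents S
      (irreducibleComponent s) (irreducibleComponent_mem_irreducibleComponents s)
  refine ⟨σ, hσ ▸ irreducibleComponent_mem_irreducibleComponents s, ?_⟩
  have : s ∈ closure ({σ} : Set S) := hσ ▸ mem_irreducibleComponent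
  exact specializes_iff_mem_closure.mpr this

variable (h2 : ∀ s : S, CAlg.IsUniversallyCatenary (S.presheaf.stalk s))
  (h3 : ∀ S' ∈ irreducibleComponents (S : Type u), ∀ s ∈ S', IsClosed ({s} : Set S) →
      topologicalKrullDim (↥S' : Type u) = topologicalKrullDim ↥{t : S | t ∈ S' ∧ t ⤳ s})

include h2 in
theorem isCatenary_stalk (s : S) : CAlg.IsCatenary (S.presheaf.stalk s) :=
  (h2 s).2 _ inferInstance

include h2 h3 in
theorem ρ_indep (s t t' : S) (ht : IsClosed ({t} : Set S)) (ht' : IsClosed ({t'} : Set S))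
    (hst : s ⤳ t) (hst' : s ⤳ t') : ρ S t s = ρ S t' s := by
  obtain ⟨σ, hσ, hσs⟩ := exists_component_generic S s
  have h1 := h3 _ hσ t (hσs.trans hst).mem_closure ht
  have h1' := h3 _ hσ t' (hσs.trans hst').mem_closure ht'
  rw [topDim_gen_eq S t σ (hσs.trans hst)] at h1
  rw [topDim_gen_eq S t' σ (hσs.trans hst')] at h1'
  have h4 : ρ S t σ = ρ S t' σ := by
    have : ((ρ S t σ : ℕ) : WithBot ℕ∞) = ((ρ S t' σ : ℕ) : WithBot ℕ∞) := by
      rw [← h1, ← h1']
    exact_mod_cast this
  have h5 := ρ_diff_eq S t t' s σ (isCatenary_stalk S h2 t) (isCatenary_stalk S h2 t') hst hst' hσs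
  rw [h4] at h5
  have : (ρ S t s : ℤ) = ρ S t' s := by omega
  exact_mod_cast this

include h2 h3 in
theorem isDimFun_δ : Cyc.IsDimFun S (δ S) := by
  intro x y hxy hne
  have hyt : y ⤳ ts S y := specializes_ts S y
  have hxt : x ⤳ ts S y := hxy.trans hyt
  have hδx : δ S x = (ρ S (ts S y) x : ℤ) := by
    rw [δ, ρ_indep S h2 h3 x (ts S x) (ts S y) (ts_closed S x) (ts_closed S y)
      (specializes_ts S x) hxt]
  rw [hδx, δ]
  constructor
  · have := ρ_lt S (ts S y) y x hyt hxy hne
    exact_mod_cast this
  · intro himm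
    have := ρ_succ S (ts S y) y x (isCatenary_stalk S h2 _) hyt hxy hne himm
    exact_mod_cast this

theorem δ_closed (s : S) (hs : IsClosed ({s} : Set S)) : δ S s = 0 := by
  have h1 : ts S s ∈ closure ({s} : Set S) := (specializes_ts S s).mem_closure
  rw [hs.closure_eq, Set.mem_singleton_iff] at h1
  rw [δ, h1, ρ_self]
  rfl

end Groth.Agent.JUC4H8
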