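import Mathlib
import Groth.Prelude.Def_Cyc
import Groth.Agent.Lib.DimFun_helper8
import Groth.Agent.Lib.IrrDim_helper8

/-! Dimension of an irreducible scheme carrying a dimension function that vanishes at closed
points; tower formula for transcendence degrees of residue fields along a composition. -/

universe u

open AlgebraicGeometry CategoryTheory

namespace Groth.Agent.JUC5H8

theorem topDim_eq_of_isDimFun (X : Scheme.{u}) (ξ : X) (hξ : ∀ x' : X, ξ ⤳ x') (δ : X → ℤ)
    (hδ : Cyc.IsDimFun X δ) (hcl : ∀ x : X, ∃ x₀ : X, x ⤳ x₀ ∧ δ x₀ = 0) :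
    topologicalKrullDim X = ((δ ξ).toNat : WithBot ℕ∞) := by
  classical
  rw [Groth.Agent.IrrDimH8.topDim_eq_height_generic X ξ hξ]
  have hmono : StrictMono δ := by
    intro a b hab
    have hsp : b ⤳ a := hab.le
    have hne : b ≠ a := by
      intro h
      rw [h] at hab
      exact lt_irrefl _ hab
    exact (hδ b a hsp hne).1
  have hnonneg : ∀ x : X, 0 ≤ δ x := by
    intro x
    obtain ⟨x₀, hx₀, h0⟩ := hcl x
    by_cases hne : x = x₀
    · rw [hne, h0]
    · have := (hδ x x₀ hx₀ hne).1
      omega
  have hle : Order.height ξ ≤ ((δ ξ).toNat : ℕ∞) := by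
    apply Order.height_le
    intro p hp
    have h1 := Groth.Agent.DimFunH8.add_length_le δ hmono p
    rw [hp] at h1
    have h2 := hnonneg p.head
    have h3 : p.length ≤ (δ ξ).toNat := by omega
    exact_mod_cast h3
  have hge : ((δ ξ).toNat : ℕ∞) ≤ Order.height ξ := by
    letI : PartialOrder X :=
      { (inferInstance : Preorder X) with
        le_antisymm := fun a b hab hba =>
          (Specializes.antisymm (show b ⤳ a from hab) (show a ⤳ b from hba)).eq.symm }
    obtain ⟨x₀, hx₀, h0⟩ := hcl ξ
    have hcov : ∀ a b : X, a ⋖ b → δ b = δ a + 1 := by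
      intro a b hab
      have hsp : b ⤳ a := hab.lt.le
      have hne : b ≠ a := fun h => hab.lt.ne h.symm
      refine (hδ b a hsp hne).2 ?_
      intro z hz1 hz2
      by_contra hcon
      push Not at hcon
      have h1 : a < z := lt_of_le_of_ne (show a ≤ z from hz2) (fun h => hcon.2 h.symm)
      have h2 : z < b := lt_of_le_of_ne (show z ≤ b from hz1) (fun h => hcon.1 h)
      exact hab.2 h1 h2
    obtain ⟨l, hlh, hll, hlen⟩ := Groth.Agent.DimFunH8.exists_chain δ hmono hcov _ x₀ ξ
      (show x₀ ≤ ξ from hx₀) rfl
    have h1 : (l.length : ℕ∞) ≤ Order.height l.last := Order.length_le_height_last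
    rw [hll] at h1
    refine le_trans ?_ h1
    have : (δ ξ).toNat = l.length := by
      rw [h0] at hlen
      omega
    rw [this]
  have := le_antisymm hle hge
  rw [this]
  rfl

/-- tower formula for residue fields along a composition of morphisms. -/
theorem trdeg_comp {X Y S : Scheme.{u}} (f : X ⟶ Y) (q : Y ⟶ S) (x : X) :
    @Algebra.trdeg (S.residueField (q.base (f.base x))) (Y.residueField (f.base x)) _ _
        (q.residueFieldMap (f.base x)).hom.toAlgebra +
      @Algebra.trdeg (Y.residueField (f.base x)) (X.residueField x) _ _
        (f.residueFieldMap x).hom.toAlgebra =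
    @Algebra.trdeg (S.residueField ((f ≫ q).base x)) (X.residueField x) _ _
        ((f ≫ q).residueFieldMap x).hom.toAlgebra := by
  letI a1 : Algebra (S.residueField (q.base (f.base x))) (Y.residueField (f.base x)) :=
    (q.residueFieldMap (f.base x)).hom.toAlgebra
  letI a2 : Algebra (Y.residueField (f.base x)) (X.residueField x) :=
    (f.residueFieldMap x).hom.toAlgebra
  letI a3 : Algebra (S.residueField (q.base (f.base x))) (X.residueField x) :=
    ((f ≫ q).residueFieldMap x).hom.toAlgebra
  haveI : IsScalarTower (S.residueField (q.base (f.base x))) (Y.residueField (f.base x))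
      (X.residueField x) :=
    IsScalarTower.of_algebraMap_eq fun c => by
      have := Scheme.residueFieldMap_comp f q x
      have h2 := congrArg (fun ψ => ψ.hom c) this
      exact h2
  haveI : FaithfulSMul (S.residueField (q.base (f.base x))) (Y.residueField (f.base x)) :=
    (faithfulSMul_iff_algebraMap_injective _ _).mpr
      (algebraMap (S.residueField (q.base (f.base x))) (Y.residueField (f.base x))).injective
  haveI : FaithfulSMul (Y.residueField (f.base x)) (X.residueField x) :=
    (faithfulSMul_iff_algebraMap_injective _ _).mpr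
      (algebraMap (Y.residueField (f.base x)) (X.residueField x)).injective
  exact _root_.trdeg_add_eq (S.residueField (q.base (f.base x))) (Y.residueField (f.base x))
    (A := X.residueField x)

end Groth.Agent.JUC5H8
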