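import Mathlib
import Groth.Prelude.Def_Cyc
import Groth.Agent.Lib.JUC4_helper8
import Groth.Agent.Lib.JUC5_helper8
import Groth.Agent.Lib.FibRes3_helper8
import Groth.Agent.Lib.ResQuot2_helper8
import Groth.Agent.S9684

/-! Dimension of an irreducible scheme locally of finite type over a Jacobson, universally catenary,
equidimensional base, via the dimension function. -/

universe u

open AlgebraicGeometry CategoryTheory

namespace Groth.Agent.JUC6H8

open Groth.Agent.JUC4H8

theorem dim_of_lft (S : Scheme.{u}) [IsLocallyNoetherian S] [JacobsonSpace S]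
    (h2 : ∀ s : S, CAlg.IsUniversallyCatenary (S.presheaf.stalk s))
    (h3 : ∀ S' ∈ irreducibleComponents (S : Type u), ∀ s ∈ S', IsClosed ({s} : Set S) →
      topologicalKrullDim (↥S' : Type u) = topologicalKrullDim ↥{t : S | t ∈ S' ∧ t ⤳ s})
    {X : Scheme.{u}} (p : X ⟶ S) [LocallyOfFiniteType p] (ξ : X) (hξ : ∀ x' : X, ξ ⤳ x') (n : ℕ)
    (hn : @Algebra.trdeg (S.residueField (p.base ξ)) (X.residueField ξ) _ _
      (p.residueFieldMap ξ).hom.toAlgebra = n) :
    0 ≤ δ S (p.base ξ) + n ∧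
      topologicalKrullDim X = ((δ S (p.base ξ) + n).toNat : WithBot ℕ∞) := by
  classical
  haveI : JacobsonSpace X := LocallyOfFiniteType.jacobsonSpace p
  haveI : IsLocallyNoetherian X := LocallyOfFiniteType.isLocallyNoetherian p
  let N : X → ℕ := fun x => Classical.choose (Groth.Agent.ResQuot2H8.exists_trdeg_nat p x)
  have hN : ∀ x : X, @Algebra.trdeg (S.residueField (p.base x)) (X.residueField x) _ _
      (p.residueFieldMap x).hom.toAlgebra = N x := fun x =>
    Classical.choose_spec (Groth.Agent.ResQuot2H8.exists_trdeg_nat p x)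
  let δX : X → ℤ := fun x => δ S (p.base x) + N x
  have hcompat : Cyc.DeltaCompat p δX (δ S) := fun x => ⟨N x, hN x, rfl⟩
  have hS : Cyc.IsSetup S (δ S) := ⟨inferInstance, h2, isDimFun_δ S h2 h3⟩
  have hX : Cyc.IsDimFun X δX := Groth.Agent.S9684.result p (δ S) hS δX hcompat
  have hcl : ∀ x : X, ∃ x₀ : X, x ⤳ x₀ ∧ δX x₀ = 0 := by
    intro x
    obtain ⟨x₀, hx₀, hsp⟩ := exists_closed_specialization X x
    refine ⟨x₀, hsp, ?_⟩
    have hp : IsClosed ({p.base x₀} : Set S) :=
      Scheme.Hom.closePoints_subset_preimage_closedPoints p hx₀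
    obtain ⟨x', hx', -, h0⟩ := Groth.Agent.FibRes3H8.exists_trdeg_zero p x₀
    have hxx : x' = x₀ := by
      have h1 : x' ∈ closure ({x₀} : Set X) := hx'.mem_closure
      rw [hx₀.closure_eq, Set.mem_singleton_iff] at h1
      exact h1
    subst hxx
    have hN0 : N x' = 0 := by
      have : ((N x' : ℕ) : Cardinal) = ((0 : ℕ) : Cardinal) := by
        rw [← hN x', h0]; simp
      exact_mod_cast this
    change δ S (p.base x') + (N x' : ℤ) = 0
    rw [δ_closed S _ hp, hN0]
    simp
  have hNξ : N ξ = n := by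
    have : ((N ξ : ℕ) : Cardinal) = ((n : ℕ) : Cardinal) := by
      rw [← hN ξ, hn]
    exact_mod_cast this
  have hdim := Groth.Agent.JUC5H8.topDim_eq_of_isDimFun X ξ hξ δX hX hcl
  have hδξ : δX ξ = δ S (p.base ξ) + n := by
    change δ S (p.base ξ) + (N ξ : ℤ) = _
    rw [hNξ]
  rw [hδξ] at hdim
  refine ⟨?_, hdim⟩
  rw [← hδξ]
  obtain ⟨x₀, hx₀, h0⟩ := hcl ξ
  by_cases hne : ξ = x₀
  · rw [hne, h0]
  · have := (hX ξ x₀ hx₀ hne).1
    omega

end Groth.Agent.JUC6H8
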