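import Mathlib
import Groth.Prelude
import Groth.Agent.Lib.JUC6_helper8
import Groth.Agent.Lib.RegUC_helper8
import Groth.Agent.Lib.DimFunRho_helper8
import Groth.Agent.Lib.LocDim2_helper8

set_option autoImplicit false
universe u

open CategoryTheory AlgebraicGeometry TopologicalSpace Opposite

namespace DimFunLftH8

open Groth.Agent.JUC4H8

/-- The dimension function on a scheme locally of finite type over a Jacobson, universally
catenary base with equidimensional components, with its defining formula. -/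
theorem exists_dimFun' (S : Scheme.{u}) [IsLocallyNoetherian S] [JacobsonSpace S]
    (h2 : ∀ s : S, CAlg.IsUniversallyCatenary (S.presheaf.stalk s))
    (h3 : ∀ S' ∈ irreducibleComponents (S : Type u), ∀ s ∈ S', IsClosed ({s} : Set S) →
      topologicalKrullDim (↥S' : Type u) = topologicalKrullDim ↥{t : S | t ∈ S' ∧ t ⤳ s})
    {X : Scheme.{u}} (p : X ⟶ S) [LocallyOfFiniteType p] :
    ∃ δX : X → ℤ, Cyc.IsDimFun X δX ∧ (∀ x : X, IsClosed ({x} : Set X) → δX x = 0) ∧
      ∀ x : X, ∃ n : ℕ, Dual3.resTrdeg p x = n ∧ δX x = δ S (p.base x) + n := by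
  classical
  haveI : JacobsonSpace X := LocallyOfFiniteType.jacobsonSpace p
  haveI : IsLocallyNoetherian X := LocallyOfFiniteType.isLocallyNoetherian p
  let N : X → ℕ := fun x => Classical.choose (Groth.Agent.ResQuot2H8.exists_trdeg_nat p x)
  have hN : ∀ x : X, @Algebra.trdeg (S.residueField (p.base x)) (X.residueField x) _ _
      (p.residueFieldMap x).hom.toAlgebra = N x := fun x =>
    Classical.choose_spec (Groth.Agent.ResQuot2H8.exists_trdeg_nat p x)
  let δX : X → ℤ := fun x => δ S (p.base x) + N x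
  have hcompat : Cyc.DeltaCompat p δX (δ S) := fun x => ⟨N x, hN x, rfl⟩
  have hS : Cyc.IsSetup S (δ S) := ⟨inferInstance, h2, isDimFun_δ S h2 h3⟩
  have hX : Cyc.IsDimFun X δX := Groth.Agent.S9684.result p (δ S) hS δX hcompat
  refine ⟨δX, hX, ?_, fun x => ⟨N x, hN x, rfl⟩⟩
  intro x₀ hx₀
  have hp : IsClosed ({p.base x₀} : Set S) :=
    Scheme.Hom.closePoints_subset_preimage_closedPoints p hx₀
  obtain ⟨x', hx', -, h0⟩ := Groth.Agent.FibRes3H8.exists_trdeg_zero p x₀
  have hxx : x' = x₀ := by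
    have h1 : x' ∈ closure ({x₀} : Set X) := hx'.mem_closure
    rw [hx₀.closure_eq, Set.mem_singleton_iff] at h1
    exact h1
  subst hxx
  have hN0 : N x' = 0 := by
    have : ((N x' : ℕ) : Cardinal) = ((0 : ℕ) : Cardinal) := by
      rw [← hN x', h0]; simp
    exact_mod_cast this
  change δ S (p.base x') + (N x' : ℤ) = 0
  rw [δ_closed S _ hp, hN0]
  simp

open Groth.Agent.JUC2H8 Groth.Agent.DimFunH8 in
/-- For a dimension function on a locally Noetherian scheme, at a point with catenary integral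
local ring: `δ(generic point of the local ring) = δ(q) + dim O_q`. -/
theorem delta_generic (P : Scheme.{u}) [IsLocallyNoetherian P] (δP : P → ℤ)
    (hδ : Cyc.IsDimFun P δP) (q : P) (hcat : CAlg.IsCatenary (P.presheaf.stalk q))
    [IsDomain (P.presheaf.stalk q)] (d : ℕ) (hd : ringKrullDim (P.presheaf.stalk q) = d) :
    δP ((P.fromSpecStalk q)
      (show ↥(Spec (P.presheaf.stalk q)) from (⊥ : PrimeSpectrum (P.presheaf.stalk q)))) =
      δP q + d := by
  set ξ := (P.fromSpecStalk q)
      (show ↥(Spec (P.presheaf.stalk q)) from (⊥ : PrimeSpectrum (P.presheaf.stalk q))) with hξ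
  have hξq : ξ ⤳ q := φ_specializes P q ⊥
  have h1 := Groth.Agent.DimFunRhoH8.delta_sub_eq_ρ P δP hδ q hcat ξ hξq
  have h2 : ρ P q ξ = d := by
    have h3 := coe_ρ P q ξ hξq
    have h4 : pr P q ξ hξq = ⊥ := pr_φ P q ⊥
    rw [h4] at h3
    have h5 : ((Order.coheight (⊥ : PrimeSpectrum (P.presheaf.stalk q)) : ℕ∞) : WithBot ℕ∞) =
        (d : WithBot ℕ∞) := by
      rw [Order.coheight_bot_eq_krullDim]
      exact hd
    have h6 : ((ρ P q ξ : ℕ) : ℕ∞) = (d : ℕ∞) := by
      rw [h3]; exact_mod_cast h5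
    exact_mod_cast h6
  rw [h2] at h1
  omega

end DimFunLftH8
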