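import Groth.Agent.S9684
import Groth.Agent.Lib.AlgSpGeneriz_helper6
import Groth.Agent.Lib.AlgSpFibre_helper6
import Groth.Agent.Lib.AlgSpPoints_helper7

/-!
# S10443: the induced dimension function on a decent algebraic space (helper7)
-/

set_option autoImplicit false
set_option linter.style.haveILetI false
universe u
open CategoryTheory CategoryTheory.Limits AlgebraicGeometry Opposite MorphismProperty
open AlgSp Groth.Agent.Lib.AlgSpPoints_helper7

namespace Groth.Agent.Lib.DimFunSpH7

/-- Transfer of a dimension function from an étale atlas of a decent space. -/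
theorem isDimFun_points_of_chart {S : Scheme.{u}} {X : Sp S} (hX : IsDecent X) {U : Over S}
    (a : (yon S).obj U ⟶ X) (ha : RepWith @Etale a) (hs : RepWith @Surjective a)
    (δX : Points X → ℤ) (hU : Cyc.IsDimFun U.left (δX ∘ Points.ofPt a)) :
    ∀ x y : Points X, x ⤳ y → x ≠ y →
      δX y < δX x ∧ ((∀ z : Points X, x ⤳ z → z ⤳ y → z = x ∨ z = y) → δX x = δX y + 1) := by
  intro x y hxy hne
  obtain ⟨v, hv⟩ := ofPt_surjective a hs y
  obtain ⟨rx, hrx, hm, hqc⟩ := hX x
  obtain ⟨u, huv, hu⟩ := Groth.Agent.Lib.AlgSpGeneriz_helper6.exists_specializes_lift y x hxy rx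
    hrx hqc a ha v hv
  have huv_ne : u ≠ v := by
    rintro rfl
    exact hne (hu.symm.trans hv)
  obtain ⟨h1, h2⟩ := hU u v huv huv_ne
  have e1 : (δX ∘ Points.ofPt a) u = δX x := by rw [Function.comp_apply, hu]
  have e2 : (δX ∘ Points.ofPt a) v = δX y := by rw [Function.comp_apply, hv]
  rw [e1, e2] at h1 h2
  refine ⟨h1, fun himm => h2 ?_⟩
  intro t hut htv
  have s1 : x ⤳ Points.ofPt a t := by
    have := hut.map (Points.continuous_ofPt a)
    rwa [hu] at this
  have s2 : Points.ofPt a t ⤳ y := by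
    have := htv.map (Points.continuous_ofPt a)
    rwa [hv] at this
  rcases himm (Points.ofPt a t) s1 s2 with h | h
  · left
    exact Groth.Agent.Lib.AlgSpFibre_helper6.eq_of_specializes_of_isDecent hX a ha t u
      (h.trans hu.symm) hut
  · right
    exact (Groth.Agent.Lib.AlgSpFibre_helper6.eq_of_specializes_of_isDecent hX a ha v t
      (hv.trans h.symm) htv).symm

theorem main10443 {S : Scheme.{u}} (δ : ↥S → ℤ) (hS : Cyc.IsSetup S δ)
    (X : AlgSp.Space S) (hX : AlgSp.IsDecent X.obj) {U : Over S} (a : (AlgSp.yon S).obj U ⟶ X.obj)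
    (ha : AlgSp.RepWith @Etale a) (hs : AlgSp.RepWith @Surjective a) [LocallyOfFiniteType U.hom]
    (δX : AlgSp.Points X.obj → ℤ) (hδ : Cyc.DeltaCompat U.hom (δX ∘ AlgSp.Points.ofPt a) δ) :
    ∀ x y : AlgSp.Points X.obj, x ⤳ y → x ≠ y →
      δX y < δX x ∧ ((∀ z : AlgSp.Points X.obj, x ⤳ z → z ⤳ y → z = x ∨ z = y) → δX x = δX y + 1) :=
  isDimFun_points_of_chart hX a ha hs δX (Groth.Agent.S9684.result U.hom δ hS _ hδ)

end Groth.Agent.Lib.DimFunSpH7
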