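import Groth.Agent.Lib.AlgSpQfLocus2_helper7
import Groth.Agent.Lib.FibGen2_helper8
import Groth.Agent.Lib.AlgSpGor_helper7
import Groth.Agent.Lib.AlgSpGeneriz_helper6
import Groth.Agent.Lib.StalkDim_helper7
import Groth.Agent.Lib.EtDim1_helper8

/-!
# S10459: dim X ≤ dim Y + trdeg for a morphism locally of finite type from an integral space to a
locally Noetherian space (helper7)
-/

set_option autoImplicit false
set_option linter.style.haveILetI false
universe u
open CategoryTheory CategoryTheory.Limits AlgebraicGeometry Opposite MorphismProperty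
open AlgSp Groth.Agent.Lib.AlgSpPoints_helper7 Groth.Agent.Lib.AlgSpPullback_helper7

namespace Groth.Agent.Lib.DimTrdegH7

variable {S : Scheme.{u}}

theorem topologicalKrullDim_eq_iSup_coheight (X : Scheme.{u}) :
    topologicalKrullDim X = ⨆ a : X, ((Order.coheight a : ℕ∞) : WithBot ℕ∞) := by
  have hdimX : topologicalKrullDim X = Order.krullDim X := by
    unfold topologicalKrullDim
    exact Order.krullDim_eq_of_orderIso (irreducibleSetEquivPoints (α := X))
  rw [hdimX, Order.krullDim_eq_iSup_coheight]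

theorem main10459 {S : Scheme.{u}} {X Y : AlgSp.Space S} (f : X ⟶ Y)
    (hY : AlgSp.IsLocNoethSp Y.obj) (hXi : AlgSp.IsIntegralSp X.obj) (hYi : AlgSp.IsIntegralSp Y.obj)
    (hd : AlgSp.IsDominantMor f.hom) (hft : AlgSp.LocP @LocallyOfFiniteType f.hom)
    (x : AlgSp.Points X.obj) (hx : IsGenericPoint x (Set.univ : Set (AlgSp.Points X.obj))) (r : ℕ)
    (hr : AlgSp.HasAtMor (fun _ _ h u => Dual3.resTrdeg h u = (r : Cardinal.{u})) f.hom x) :
    AlgSp.dim X.obj ≤ AlgSp.dim Y.obj + ((r : ℕ∞) : WithBot ℕ∞) := by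
  obtain ⟨-, hdX, -⟩ := hXi
  unfold AlgSp.dim
  refine iSup_le fun U₀ => iSup_le fun a₀ => iSup_le fun ha₀e => ?_
  rw [topologicalKrullDim_eq_iSup_coheight]
  refine iSup_le fun u₀ => ?_
  obtain ⟨V, b, v, hbe, hv⟩ := ResTrdegH8.exists_chart Y (Points.map f.hom (Points.ofPt a₀ u₀))
  obtain ⟨U, p, g, w, hpe, hae, cm, hw1, hw2, hwx⟩ :=
    ResTrdegH8.exists_chart_over f.hom a₀ ha₀e u₀ b hbe v hv
  haveI : LocallyOfFiniteType g.left := hft _ b g hae hbe cm
  haveI : IsLocallyNoetherian V.left :=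
    Groth.Agent.Lib.AlgSpGorH7.locNoeth_of_etale_chart hY b hbe
  have hco : Order.coheight u₀ = Order.coheight w := by
    haveI := hpe
    rw [← hw1, EtDimH8.coheight_eq_of_etale]
  have H : ∀ ξ : U.left, (∀ ξ' : U.left, ξ' ⤳ ξ → ξ' = ξ) → ξ ⤳ w →
      Dual3.resTrdeg g.left ξ ≤ (r : Cardinal.{u}) := by
    intro ξ hξ _
    have hgen : x ⤳ Points.ofPt ((yon S).map p ≫ a₀) ξ := hx.specializes (Set.mem_univ _)
    obtain ⟨rx, hrx, hm, hqc⟩ := hdX x
    obtain ⟨ξ', hξ', hξ'x⟩ := Groth.Agent.Lib.AlgSpGeneriz_helper6.exists_specializes_lift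
      (Points.ofPt ((yon S).map p ≫ a₀) ξ) x hgen rx hrx hqc _ hae ξ rfl
    have hξξ : ξ' = ξ := hξ ξ' hξ'
    rw [hξξ] at hξ'x
    have := ResTrdegH8.hasAtMor_resTrdeg_unique f.hom x
      ⟨U, V, _, b, g, ξ, hae, hbe, cm, hξ'x, rfl⟩ hr
    rw [this]
  have key := FibGenH8.coheight_add_trdeg_le g.left w r H
  have hV : ((Order.coheight (g.left w) : ℕ∞) : WithBot ℕ∞) ≤
      ⨆ (U : Over S) (a : (yon S).obj U ⟶ Y.obj) (_ : RepWith @Etale a),
        topologicalKrullDim ↥U.left := by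
    have h1 := Groth.Agent.Lib.StalkDimH7.ringKrullDim_stalk_le_topologicalKrullDim V.left
      (g.left w)
    rw [ringKrullDim_stalk_eq_coheight] at h1
    refine h1.trans ?_
    exact le_iSup_of_le V (le_iSup_of_le b (le_iSup_of_le hbe le_rfl))
  calc ((Order.coheight u₀ : ℕ∞) : WithBot ℕ∞) = ((Order.coheight w : ℕ∞) : WithBot ℕ∞) := by
        rw [hco]
    _ ≤ ((Order.coheight w + Cardinal.toENat (Dual3.resTrdeg g.left w) : ℕ∞) : WithBot ℕ∞) := by
        exact_mod_cast le_self_add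
    _ ≤ ((Order.coheight (g.left w) + (r : ℕ∞) : ℕ∞) : WithBot ℕ∞) := by exact_mod_cast key
    _ = ((Order.coheight (g.left w) : ℕ∞) : WithBot ℕ∞) + ((r : ℕ∞) : WithBot ℕ∞) :=
        WithBot.coe_add _ _
    _ ≤ _ := by gcongr

end Groth.Agent.Lib.DimTrdegH7
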