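import Mathlib

/-! Lifting chains of specializations along surjective specializing maps of schemes. -/

universe u

open AlgebraicGeometry CategoryTheory

namespace Groth.Agent.LiftChainH8

theorem exists_lift_ltSeries {X Y : Scheme.{u}} (f : X ⟶ Y) (hspec : SpecializingMap f.base)
    (l : LTSeries Y) : ∀ z : X, f.base z = l.last →
      ∃ L : LTSeries X, L.length = l.length ∧ L.last = z := by
  induction l using RelSeries.inductionOn' with
  | singleton y =>
    intro z _
    exact ⟨RelSeries.singleton _ z, rfl, rfl⟩
  | snoc p y hy ih =>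
    intro z hz
    rw [RelSeries.last_snoc] at hz
    have hlt : p.last < y := hy
    rw [lt_iff_le_not_ge] at hlt
    have h1 : y ⤳ p.last := hlt.1
    have h2 : ¬ (p.last ⤳ y) := hlt.2
    have h1' : f.base z ⤳ p.last := by rw [hz]; exact h1
    obtain ⟨z', hzz', hfz'⟩ := hspec h1'
    have hzz'' : z ⤳ z' := hzz'
    obtain ⟨L', hL'len, hL'last⟩ := ih z' hfz'
    have hlt' : L'.last < z := by
      rw [hL'last, lt_iff_le_not_ge]
      refine ⟨hzz'', ?_⟩
      intro h3
      have h4 : z' ⤳ z := h3
      have h5 := h4.map f.continuous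
      rw [hfz', hz] at h5
      exact h2 h5
    refine ⟨L'.snoc z hlt', ?_, RelSeries.last_snoc _ _ _⟩
    simp [hL'len]

theorem krullDim_le_of_surjective_specializing {X Y : Scheme.{u}} (f : X ⟶ Y)
    (hspec : SpecializingMap f.base) (hsurj : Function.Surjective f.base) :
    topologicalKrullDim Y ≤ topologicalKrullDim X := by
  have hdimX : topologicalKrullDim X = Order.krullDim X := by
    unfold topologicalKrullDim
    exact Order.krullDim_eq_of_orderIso (irreducibleSetEquivPoints (α := X))
  have hdimY : topologicalKrullDim Y = Order.krullDim Y := by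
    unfold topologicalKrullDim
    exact Order.krullDim_eq_of_orderIso (irreducibleSetEquivPoints (α := Y))
  rw [hdimX, hdimY]
  unfold Order.krullDim
  apply iSup_le
  intro l
  obtain ⟨z, hz⟩ := hsurj l.last
  obtain ⟨L, hLlen, -⟩ := exists_lift_ltSeries f hspec l z hz
  rw [← hLlen]
  exact le_iSup (fun p : LTSeries X => (p.length : WithBot ℕ∞)) L

end Groth.Agent.LiftChainH8
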