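import Groth.Agent.Lib.DimFunFin_helper7
import Groth.Agent.Lib.DimTrdeg_helper7
import Groth.Agent.Lib.LiftChain_helper8

/-!
# S10448 / S10449: dimension and integral morphisms of algebraic spaces (helper7)
-/

set_option autoImplicit false
set_option linter.style.haveILetI false
universe u
open CategoryTheory CategoryTheory.Limits AlgebraicGeometry Opposite MorphismProperty
open AlgSp Groth.Agent.Lib.AlgSpPoints_helper7 Groth.Agent.Lib.AlgSpQC_helper7

namespace Groth.Agent.Lib.DimIntegralH7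

/-- Incomparability for integral morphisms of affine schemes. -/
theorem eq_of_specializes_of_isIntegralHom {W V : Scheme.{u}} [IsAffine W] [IsAffine V]
    (i : W ⟶ V) [IsIntegralHom i] (w w' : W) (h : w ⤳ w') (he : i w = i w') : w = w' := by
  have hint : RingHom.IsIntegral i.appTop.hom :=
    IsIntegralHom.isIntegral_app i ⊤ (isAffineOpen_top V)
  have hPP' : W.isoSpec.hom w ⤳ W.isoSpec.hom w' := h.map W.isoSpec.hom.continuous
  have hle : (W.isoSpec.hom w).asIdeal ≤ (W.isoSpec.hom w').asIdeal :=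
    (PrimeSpectrum.le_iff_specializes (W.isoSpec.hom w : PrimeSpectrum Γ(W, ⊤))
      (W.isoSpec.hom w' : PrimeSpectrum Γ(W, ⊤))).2 hPP'
  have hnat : ∀ z : W, Spec.map i.appTop (W.isoSpec.hom z) = V.isoSpec.hom (i z) := by
    intro z
    rw [← Scheme.Hom.comp_apply, Scheme.isoSpec_hom_naturality, Scheme.Hom.comp_apply]
  by_contra hne
  have hPne : W.isoSpec.hom w ≠ W.isoSpec.hom w' := by
    intro h'
    apply hne
    have := congrArg (fun z => W.isoSpec.inv z) h'
    simpa using this
  have hlt : (W.isoSpec.hom w).asIdeal < (W.isoSpec.hom w').asIdeal :=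
    lt_of_le_of_ne hle (fun h' => hPne (PrimeSpectrum.ext h'))
  letI := i.appTop.hom.toAlgebra
  haveI : Algebra.IsIntegral Γ(V, ⊤) Γ(W, ⊤) := ⟨hint⟩
  have key := Ideal.IsIntegral.comap_lt_comap (R := Γ(V, ⊤)) hlt
  have hneq : Spec.map i.appTop (W.isoSpec.hom w) ≠ Spec.map i.appTop (W.isoSpec.hom w') := by
    intro h'
    have h'' := congrArg PrimeSpectrum.asIdeal h'
    exact absurd h'' (ne_of_lt key)
  apply hneq
  rw [hnat, hnat, he]

/-- A continuous map of schemes without specializations in its fibres does not decrease the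
dimension of local rings. -/
theorem coheight_le_of_strict {W V : Scheme.{u}} (i : W ⟶ V)
    (H : ∀ w w' : W, w ⤳ w' → i w = i w' → w = w') (w : W) :
    Order.coheight w ≤ Order.coheight (i w) := by
  refine Order.coheight_le_coheight_apply_of_strictMono (fun z => i z) ?_ w
  intro a b hab
  have h1 : b ⤳ a := hab.le
  have h2 : ¬ a ⤳ b := fun h => hab.not_ge h
  refine lt_of_le_not_ge (h1.map i.continuous) ?_
  intro h3
  have h4 : i a ⤳ i b := h3
  have h5 : i b = i a := ((h1.map i.continuous).antisymm h4).eq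
  have h6 := H b a h1 h5
  exact h2 (h6 ▸ specializes_rfl)

theorem coheight_le_dim {S : Scheme.{u}} {Y : Sp S} {V : Over S} (b : (yon S).obj V ⟶ Y)
    (hbe : RepWith @Etale b) (v : ↥V.left) :
    ((Order.coheight v : ℕ∞) : WithBot ℕ∞) ≤ AlgSp.dim Y := by
  have h1 := Groth.Agent.Lib.StalkDimH7.ringKrullDim_stalk_le_topologicalKrullDim V.left v
  rw [ringKrullDim_stalk_eq_coheight] at h1
  refine h1.trans ?_
  unfold AlgSp.dim
  exact le_iSup_of_le V (le_iSup_of_le b (le_iSup_of_le hbe le_rfl))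

theorem main10448 {S : Scheme.{u}} {X Y : AlgSp.Space S} (f : X ⟶ Y)
    (hf : AlgSp.IsIntegralMor f.hom) : AlgSp.dim X.obj ≤ AlgSp.dim Y.obj := by
  unfold AlgSp.dim
  refine iSup_le fun U₀ => iSup_le fun a₀ => iSup_le fun ha₀e => ?_
  rw [Groth.Agent.Lib.DimTrdegH7.topologicalKrullDim_eq_iSup_coheight]
  refine iSup_le fun u₀ => ?_
  obtain ⟨V, b, v, hVaff, hbe, hv⟩ := Groth.Agent.Lib.AlgSpQfFinH7.exists_affine_chart Y.property
    (Points.map f.hom (Points.ofPt a₀ u₀))
  obtain ⟨W, i, fst, sq, hWaff, hi⟩ := hf hVaff b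
  haveI := hi
  haveI := hVaff
  haveI := hWaff
  have hfste : RepWith @Etale fst := repWith_fst_of_isPullback _ sq hbe
  obtain ⟨w, hw, hiw⟩ := Groth.Agent.Lib.DimFunFinH7.exists_pt_of_isPullback sq
    (Points.ofPt a₀ u₀) v hv.symm
  have h1 : Order.coheight u₀ = Order.coheight w :=
    ResTrdegH8.coheight_chart_indep a₀ fst ha₀e hfste u₀ w hw.symm
  have h2 : Order.coheight w ≤ Order.coheight (i.left w) :=
    coheight_le_of_strict i.left (eq_of_specializes_of_isIntegralHom i.left) w
  have h3 := coheight_le_dim b hbe (i.left w)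
  rw [h1]
  exact le_trans (by exact_mod_cast h2) h3

theorem main10449 {S : Scheme.{u}} {X Y : AlgSp.Space S} (f : X ⟶ Y)
    (hf : AlgSp.IsIntegralMor f.hom) (hs : AlgSp.IsSurjectiveMor f.hom) :
    AlgSp.dim Y.obj ≤ AlgSp.dim X.obj := by
  unfold AlgSp.dim
  refine iSup_le fun V₀ => iSup_le fun b₀ => iSup_le fun hb₀e => ?_
  rw [Groth.Agent.Lib.DimTrdegH7.topologicalKrullDim_eq_iSup_coheight]
  refine iSup_le fun v₀ => ?_
  obtain ⟨V, b, v, hVaff, hbe, hv⟩ := Groth.Agent.Lib.AlgSpQfFinH7.exists_affine_chart Y.property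
    (Points.ofPt b₀ v₀)
  obtain ⟨W, i, fst, sq, hWaff, hi⟩ := hf hVaff b
  haveI := hi
  have hfste : RepWith @Etale fst := repWith_fst_of_isPullback _ sq hbe
  have h1 : Order.coheight v₀ = Order.coheight v :=
    ResTrdegH8.coheight_chart_indep b₀ b hb₀e hbe v₀ v hv.symm
  have hsurj : Function.Surjective i.left := by
    intro v'
    obtain ⟨x, hx⟩ := hs (Points.ofPt b v')
    obtain ⟨w, -, hw⟩ := Groth.Agent.Lib.DimFunFinH7.exists_pt_of_isPullback sq x v' hx
    exact ⟨w, hw⟩
  have h2 : topologicalKrullDim ↥V.left ≤ topologicalKrullDim ↥W.left :=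
    Groth.Agent.LiftChainH8.krullDim_le_of_surjective_specializing i.left
      i.left.isClosedMap.specializingMap hsurj
  have h3 := Groth.Agent.Lib.StalkDimH7.ringKrullDim_stalk_le_topologicalKrullDim V.left v
  rw [ringKrullDim_stalk_eq_coheight] at h3
  rw [h1]
  refine h3.trans (h2.trans ?_)
  exact le_iSup_of_le W (le_iSup_of_le fst (le_iSup_of_le hfste le_rfl))

end Groth.Agent.Lib.DimIntegralH7
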