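import Mathlib
import Groth.Agent.S10837

set_option autoImplicit false
set_option linter.style.haveILetI false

universe u

open CategoryTheory AlgebraicGeometry TopologicalSpace Topology

namespace Groth.Agent.Lib.DimLiftH4

/-- Lifting chains along a fibration of relations. -/
theorem exists_chain_lift {X Y : Type*} (rX : X → X → Prop) (rY : Y → Y → Prop) (f : X → Y)
    (hf : Relation.Fibration rX rY f) :
    ∀ (n : ℕ) (η : ℕ → Y), (∀ i < n, rY (η (i+1)) (η i)) → ∀ x₀ : X, f x₀ = η 0 →
      ∃ x : ℕ → X, x 0 = x₀ ∧ (∀ i ≤ n, f (x i) = η i) ∧ ∀ i < n, rX (x (i+1)) (x i) := by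
  intro n
  induction n with
  | zero =>
    intro η _ x₀ h0
    exact ⟨fun _ => x₀, rfl, fun i hi => by rw [Nat.le_zero.mp hi]; exact h0,
      fun i hi => absurd hi (Nat.not_lt_zero i)⟩
  | succ n ih =>
    intro η hη x₀ h0
    have h1 : rY (η 1) (f x₀) := by rw [h0]; exact hη 0 (Nat.succ_pos n)
    obtain ⟨x₁, hx₁, hfx₁⟩ := hf h1
    obtain ⟨x', hx'0, hx'f, hx'r⟩ := ih (fun i => η (i+1))
      (fun i hi => hη (i+1) (Nat.succ_lt_succ hi)) x₁ hfx₁
    refine ⟨fun i => Nat.casesOn i x₀ x', rfl, ?_, ?_⟩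
    · intro i hi
      cases i with
      | zero => exact h0
      | succ i => exact hx'f i (Nat.le_of_succ_le_succ hi)
    · intro i hi
      cases i with
      | zero =>
        show rX (x' 0) x₀
        rw [hx'0]; exact hx₁
      | succ i => exact hx'r i (Nat.lt_of_succ_lt_succ hi)

/-- A chain of points with strict specializations gives a chain of irreducible closed sets. -/
theorem exists_ltSeries_of_points {X : Type*} [TopologicalSpace X] (n : ℕ) (x : ℕ → X)
    (h1 : ∀ i < n, x (i+1) ⤳ x i) (h2 : ∀ i < n, ¬ (x i ⤳ x (i+1))) :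
    ∃ q : LTSeries (IrreducibleCloseds X), q.length = n := by
  refine ⟨LTSeries.mk n (fun i => ⟨closure {x i}, isIrreducible_singleton.closure,
    isClosed_closure⟩) ?_, rfl⟩
  rw [Fin.strictMono_iff_lt_succ]
  intro i
  simp only [Fin.val_castSucc, Fin.val_succ]
  refine lt_of_le_not_ge (SetLike.coe_subset_coe.mp ?_) (fun hle => ?_)
  · exact (h1 i i.2).closure_subset
  · apply h2 i i.2
    rw [specializes_iff_closure_subset]
    exact SetLike.coe_subset_coe.mpr hle

/-- Core: if chains of specializations in `Y` lift to `X`, then `dim Y ≤ dim X`. -/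
theorem dim_le_core {X Y : Type*} [TopologicalSpace X] [TopologicalSpace Y] [QuasiSober Y]
    (f : X → Y) (hc : Continuous f)
    (H : ∀ (n : ℕ) (G : ℕ → Y), (∀ i < n, G (i+1) ⤳ G i) →
      ∃ x : ℕ → X, (∀ i ≤ n, f (x i) = G i) ∧ ∀ i < n, x (i+1) ⤳ x i) :
    topologicalKrullDim Y ≤ topologicalKrullDim X := by
  unfold topologicalKrullDim Order.krullDim
  refine iSup_le fun p => ?_
  have hgen : ∀ i : Fin (p.length+1), ∃ y : Y, IsGenericPoint y (p i : Set Y) := fun i =>
    QuasiSober.sober (p i).isIrreducible' (p i).isClosed'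
  choose g hgp using hgen
  let G : ℕ → Y := fun i => g ⟨min i p.length, by omega⟩
  have hG : ∀ i < p.length, G (i+1) ⤳ G i ∧ ¬ (G i ⤳ G (i+1)) := by
    intro i hi
    have hlt : p ⟨min i p.length, by omega⟩ < p ⟨min (i+1) p.length, by omega⟩ :=
      p.strictMono (by simp only [Fin.lt_def]; omega)
    constructor
    · rw [specializes_iff_closure_subset, (hgp _).def, (hgp _).def]
      exact SetLike.coe_subset_coe.mpr hlt.le
    · intro h
      rw [specializes_iff_closure_subset, (hgp _).def, (hgp _).def] at h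
      exact hlt.not_ge (SetLike.coe_subset_coe.mp h)
  obtain ⟨x, hxf, hxr⟩ := H p.length G (fun i hi => (hG i hi).1)
  obtain ⟨q, hq⟩ := exists_ltSeries_of_points p.length x hxr (fun i hi h => (hG i hi).2 (by
     rw [← hxf i hi.le, ← hxf (i+1) hi]; exact h.map hc))
  exact Order.le_krullDim_iff.mpr ⟨q, hq⟩

theorem dim_le_of_generalizing {X Y : Type*} [TopologicalSpace X] [TopologicalSpace Y]
    [QuasiSober Y] (f : X → Y) (hc : Continuous f) (hs : Function.Surjective f)
    (hg : GeneralizingMap f) : topologicalKrullDim Y ≤ topologicalKrullDim X := by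
  refine dim_le_core f hc fun n G hG => ?_
  obtain ⟨x₀, hx₀⟩ := hs (G 0)
  obtain ⟨x, -, hxf, hxr⟩ := exists_chain_lift (· ⤳ ·) (· ⤳ ·) f hg n G hG x₀ hx₀
  exact ⟨x, hxf, hxr⟩

theorem dim_le_of_specializing {X Y : Type*} [TopologicalSpace X] [TopologicalSpace Y]
    [QuasiSober Y] (f : X → Y) (hc : Continuous f) (hs : Function.Surjective f)
    (hg : SpecializingMap f) : topologicalKrullDim Y ≤ topologicalKrullDim X := by
  refine dim_le_core f hc fun n G hG => ?_
  obtain ⟨x₀, hx₀⟩ := hs (G (n - 0))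
  obtain ⟨x, -, hxf, hxr⟩ := exists_chain_lift (flip (· ⤳ ·)) (flip (· ⤳ ·)) f hg n
    (fun i => G (n - i)) (fun i hi => by
      have := hG (n - (i+1)) (by omega)
      rwa [show n - (i+1) + 1 = n - i by omega] at this) x₀ hx₀
  refine ⟨fun i => x (n - i), fun i hi => ?_, fun i hi => ?_⟩
  · have := hxf (n - i) (by omega)
    rwa [show n - (n - i) = i by omega] at this
  · have := hxr (n - (i+1)) (by omega)
    rwa [show n - (i+1) + 1 = n - i by omega] at this

theorem main4716 {X Y : Scheme.{u}} (f : X ⟶ Y)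
    (hs : Function.Surjective f.base) (h : IsOpenMap f.base ∨ IsClosedMap f.base) :
    topologicalKrullDim Y ≤ topologicalKrullDim X := by
  rcases h with h | h
  · exact dim_le_of_generalizing f.base f.continuous hs (Groth.Agent.S10837.result f h)
  · exact dim_le_of_specializing f.base f.continuous hs h.specializingMap

theorem main10838 {X Y : Scheme.{u}} (f : X ⟶ Y) (hf : IsOpenMap f.base) :
    topologicalKrullDim ↥(Set.range f.base) ≤ topologicalKrullDim ↥X := by
  haveI : QuasiSober ↥(Set.range f.base) :=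
    (hf.isOpen_range.isOpenEmbedding_subtypeVal).quasiSober
  refine dim_le_of_generalizing (Set.rangeFactorization f.base) f.continuous.rangeFactorization
    Set.rangeFactorization_surjective ?_
  intro a b hb
  have hb' : (b : Y) ⤳ f.base a := (IsInducing.subtypeVal.specializes_iff).mpr hb
  obtain ⟨a', ha', hfa'⟩ := Groth.Agent.S10837.result f hf hb'
  exact ⟨a', ha', Subtype.ext hfa'⟩

end Groth.Agent.Lib.DimLiftH4
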