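import Mathlib

namespace Groth.Agent.Lib.DimOneCons

open TopologicalSpace Topology AlgebraicGeometry

universe u

section
variable {X : Type*} [TopologicalSpace X]

def Small (t : Set X) : Prop := t.Finite ∧ ∀ x ∈ t, IsClosed ({x} : Set X)

lemma Small.mono {s t : Set X} (ht : Small t) (h : s ⊆ t) : Small s :=
  ⟨ht.1.subset h, fun x hx => ht.2 x (h hx)⟩

lemma Small.union {s t : Set X} (hs : Small s) (ht : Small t) : Small (s ∪ t) :=
  ⟨hs.1.union ht.1, fun x hx => hx.elim (hs.2 x) (ht.2 x)⟩

lemma small_empty : Small (∅ : Set X) := ⟨Set.finite_empty, fun x hx => hx.elim⟩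

lemma eq_singleton_of_irreducible_closed [T0Space X] [QuasiSober X] [IrreducibleSpace X]
    (hX : topologicalKrullDim X = 1) (W : Set X) (hW : IsIrreducible W) (hWc : IsClosed W)
    (hne : W ≠ Set.univ) : ∃ w, W = {w} := by
  have hw : IsGenericPoint hW.genericPoint W := hW.isGenericPoint_genericPoint hWc
  have hwW : hW.genericPoint ∈ W := by
    have h1 : hW.genericPoint ∈ closure ({hW.genericPoint} : Set X) :=
      subset_closure (Set.mem_singleton _)
    rwa [hw.def] at h1
  refine ⟨hW.genericPoint, Set.eq_singleton_iff_unique_mem.mpr ⟨hwW, fun x hx => ?_⟩⟩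
  by_contra hxw
  have hcl : closure ({x} : Set X) ⊆ W :=
    (hWc.closure_subset_iff).mpr (Set.singleton_subset_iff.mpr hx)
  have hne2 : closure ({x} : Set X) ≠ W := by
    intro heq
    apply hxw
    have h2 : closure ({x} : Set X) = closure {hW.genericPoint} := heq.trans hw.def.symm
    exact (inseparable_iff_closure_eq.mpr h2).eq
  let a : IrreducibleCloseds X := ⟨closure {x}, isIrreducible_singleton.closure, isClosed_closure⟩
  let b : IrreducibleCloseds X := ⟨W, hW, hWc⟩
  let c : IrreducibleCloseds X := ⟨Set.univ, IrreducibleSpace.isIrreducible_univ X, isClosed_univ⟩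
  have hab : a < b := by
    refine lt_of_le_of_ne (SetLike.coe_subset_coe.mp hcl) (fun h => hne2 ?_)
    exact congrArg (fun z : IrreducibleCloseds X => (z : Set X)) h
  have hbc : b < c := by
    refine lt_of_le_of_ne (SetLike.coe_subset_coe.mp (Set.subset_univ W)) (fun h => hne ?_)
    exact congrArg (fun z : IrreducibleCloseds X => (z : Set X)) h
  have hdim : Order.krullDim (IrreducibleCloseds X) ≤ 1 := le_of_eq hX
  rcases (Order.krullDim_le_one_iff.mp hdim) b with hmin | hmax
  · exact hmin.not_lt hab
  · exact hmax.not_lt hbc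

lemma small_of_isClosed_ne_univ [T0Space X] [QuasiSober X] [IrreducibleSpace X] [NoetherianSpace X]
    (hX : topologicalKrullDim X = 1) (Z : Set X) (hZ : IsClosed Z) (hne : Z ≠ Set.univ) :
    Small Z := by
  obtain ⟨S, hSf, hScl, hSirr, hS⟩ := NoetherianSpace.exists_finite_set_isClosed_irreducible hZ
  have hsing : ∀ t ∈ S, ∃ w, t = {w} := by
    intro t ht
    refine eq_singleton_of_irreducible_closed hX t (hSirr t ht) (hScl t ht) (fun htu => hne ?_)
    rw [hS]
    refine Set.eq_univ_of_univ_subset ?_
    rw [← htu]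
    exact Set.subset_sUnion_of_mem ht
  refine ⟨?_, fun x hx => ?_⟩
  · rw [hS]
    refine Set.Finite.sUnion hSf (fun t ht => ?_)
    obtain ⟨w, rfl⟩ := hsing t ht
    exact Set.finite_singleton w
  · rw [hS] at hx
    obtain ⟨t, ht, hxt⟩ := Set.mem_sUnion.mp hx
    obtain ⟨w, hw⟩ := hsing t ht
    have hxw : x = w := by rw [hw] at hxt; exact hxt
    have hcl := hScl t ht
    rw [hw, ← hxw] at hcl
    exact hcl

end

theorem main {X : Scheme.{u}} [IsNoetherian X] [IrreducibleSpace X]
    (hX : topologicalKrullDim X = 1) (s : Set X) (hs : Topology.IsConstructible s) :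
    Small s ∨ Small sᶜ := by
  refine BooleanSubalgebra.closure_bot_sup_induction
    (p := fun t _ => Small t ∨ Small tᶜ) ?_ ?_ ?_ ?_ hs
  · intro x hx
    have hx' : IsOpen x ∧ IsRetrocompact x := hx
    by_cases hx0 : x = ∅
    · left; rw [hx0]; exact small_empty
    · right
      exact small_of_isClosed_ne_univ hX xᶜ hx'.1.isClosed_compl
        (fun h => hx0 (Set.compl_univ_iff.mp h))
  · left
    show Small (∅ : Set X)
    exact small_empty
  · intro x _ y _ hx' hy'
    show Small (x ∪ y) ∨ Small (x ∪ y)ᶜ
    rcases hx' with hx' | hx'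
    · rcases hy' with hy' | hy'
      · exact Or.inl (hx'.union hy')
      · exact Or.inr (hy'.mono (Set.compl_subset_compl.mpr Set.subset_union_right))
    · exact Or.inr (hx'.mono (Set.compl_subset_compl.mpr Set.subset_union_left))
  · intro x _ hx'
    rcases hx' with hx' | hx'
    · right; rw [compl_compl]; exact hx'
    · left; exact hx'

end Groth.Agent.Lib.DimOneCons
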