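import Mathlib

/-!
# Lengths of `M/xM` for torsion-free modules: module-level lemmas (helper3)

* `length_quot_smul_eq_add`, `length_quot_smul_eq_add'`: the two chain decompositions of
  `ℓ(M/xF)` for a submodule `F ≤ M`.
* `length_quotSMulTop_eq_of_length_quot_ne_top`: `ℓ(F/xF) = ℓ(M/xM)` if `ℓ(M/F) < ∞` and `x` is
  injective on `M`.
* `length_quotSMulTop_pi`: `ℓ(R^r / x R^r) = r ℓ(R/x)`.
* `length_quotSMulTop_of_linearIndependent`: `ℓ(M/xM) = r ℓ(R/x)` when `M` contains a free
  submodule of rank `r` with quotient of finite length.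
* `length_ne_top_of_smul_eq_zero`: a finite module killed by `a` with `ℓ(R/a) < ∞` has finite
  length.
-/

set_option autoImplicit false
universe u v

namespace Groth.Agent.Lib.DimOneLenH3

open scoped Pointwise

section chain

variable {R : Type u} [CommRing R] {M : Type v} [AddCommGroup M] [Module R M]

theorem smul_le_self' (x : R) (F : Submodule R M) : x • F ≤ F := by
  intro m hm
  rw [Submodule.mem_smul_pointwise_iff_exists] at hm
  obtain ⟨w, hw, rfl⟩ := hm
  exact F.smul_mem x hw

/-- `ℓ(M/xF) = ℓ(F/xF) + ℓ(M/F)`. -/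
theorem length_quot_smul_eq_add (x : R) (F : Submodule R M) :
    Module.length R (M ⧸ x • F) =
      Module.length R (QuotSMulTop x F) + Module.length R (M ⧸ F) := by
  have hle1 : (x • (⊤ : Submodule R F)) ≤
      LinearMap.ker ((Submodule.mkQ (x • F)).comp F.subtype) := by
    intro v hv
    rw [Submodule.mem_smul_pointwise_iff_exists] at hv
    obtain ⟨w, -, rfl⟩ := hv
    rw [LinearMap.mem_ker, LinearMap.comp_apply, Submodule.mkQ_apply,
      Submodule.Quotient.mk_eq_zero, Submodule.mem_smul_pointwise_iff_exists]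
    exact ⟨w, w.2, rfl⟩
  have hle2 : (x • F) ≤ Submodule.comap (LinearMap.id : M →ₗ[R] M) F := by
    intro r hr
    rw [Submodule.mem_comap, LinearMap.id_apply]
    exact smul_le_self' x F hr
  let f : QuotSMulTop x F →ₗ[R] (M ⧸ x • F) := Submodule.liftQ _ _ hle1
  let g : (M ⧸ x • F) →ₗ[R] (M ⧸ F) := Submodule.mapQ _ _ LinearMap.id hle2
  have hfmk : ∀ v : F, f (Submodule.Quotient.mk v) = Submodule.Quotient.mk (v : M) := fun v => rfl
  have hf : Function.Injective f := by
    rw [injective_iff_map_eq_zero]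
    intro y hy
    obtain ⟨v, rfl⟩ := Submodule.mkQ_surjective _ y
    rw [Submodule.mkQ_apply, hfmk, Submodule.Quotient.mk_eq_zero,
      Submodule.mem_smul_pointwise_iff_exists] at hy
    obtain ⟨z, hz, hxz⟩ := hy
    rw [Submodule.mkQ_apply, Submodule.Quotient.mk_eq_zero,
      Submodule.mem_smul_pointwise_iff_exists]
    exact ⟨⟨z, hz⟩, Submodule.mem_top, Subtype.ext hxz⟩
  have hg : Function.Surjective g := by
    intro y
    obtain ⟨r, rfl⟩ := Submodule.mkQ_surjective _ y
    exact ⟨Submodule.mkQ _ r, rfl⟩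
  have hex : Function.Exact f g := by
    intro y
    constructor
    · intro hy
      obtain ⟨r, rfl⟩ := Submodule.mkQ_surjective _ y
      have h1 : g (Submodule.mkQ _ r) = Submodule.mkQ _ r := rfl
      rw [h1, Submodule.mkQ_apply, Submodule.Quotient.mk_eq_zero] at hy
      exact ⟨Submodule.Quotient.mk ⟨r, hy⟩, rfl⟩
    · rintro ⟨z, rfl⟩
      obtain ⟨v, rfl⟩ := Submodule.mkQ_surjective _ z
      rw [Submodule.mkQ_apply, hfmk]
      show Submodule.mkQ _ (v : M) = 0
      rw [Submodule.mkQ_apply, Submodule.Quotient.mk_eq_zero]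
      exact v.2
  exact Module.length_eq_add_of_exact f g hf hg hex

/-- `ℓ(M/xF) = ℓ(M/F) + ℓ(M/xM)` when `x` is injective on `M`. -/
theorem length_quot_smul_eq_add' (x : R) (hx : ∀ m : M, x • m = 0 → m = 0)
    (F : Submodule R M) :
    Module.length R (M ⧸ x • F) =
      Module.length R (M ⧸ F) + Module.length R (QuotSMulTop x M) := by
  have hle1 : F ≤ Submodule.comap (LinearMap.lsmul R M x) (x • F) := by
    intro m hm
    rw [Submodule.mem_comap, LinearMap.lsmul_apply]
    exact Submodule.smul_mem_pointwise_smul m x F hm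
  have hle2 : (x • F) ≤ Submodule.comap (LinearMap.id : M →ₗ[R] M) (x • (⊤ : Submodule R M)) := by
    intro m hm
    rw [Submodule.mem_smul_pointwise_iff_exists] at hm
    obtain ⟨w, -, rfl⟩ := hm
    rw [Submodule.mem_comap, LinearMap.id_apply]
    exact Submodule.smul_mem_pointwise_smul w x ⊤ Submodule.mem_top
  let f : (M ⧸ F) →ₗ[R] (M ⧸ x • F) := Submodule.mapQ _ _ (LinearMap.lsmul R M x) hle1
  let g : (M ⧸ x • F) →ₗ[R] QuotSMulTop x M := Submodule.mapQ _ _ LinearMap.id hle2
  have hfmk : ∀ m : M, f (Submodule.Quotient.mk m) = Submodule.Quotient.mk (x • m) := fun m => rfl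
  have hgmk : ∀ m : M, g (Submodule.Quotient.mk m) = Submodule.Quotient.mk m := fun m => rfl
  have hf : Function.Injective f := by
    rw [injective_iff_map_eq_zero]
    intro y hy
    obtain ⟨m, rfl⟩ := Submodule.mkQ_surjective _ y
    rw [Submodule.mkQ_apply, hfmk, Submodule.Quotient.mk_eq_zero,
      Submodule.mem_smul_pointwise_iff_exists] at hy
    obtain ⟨w, hw, hxw⟩ := hy
    rw [Submodule.mkQ_apply, Submodule.Quotient.mk_eq_zero]
    have h0 : w - m = 0 := hx _ (by rw [smul_sub, hxw, sub_self])
    rw [← sub_eq_zero.mp h0]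
    exact hw
  have hg : Function.Surjective g := by
    intro y
    obtain ⟨r, rfl⟩ := Submodule.mkQ_surjective _ y
    exact ⟨Submodule.mkQ _ r, rfl⟩
  have hex : Function.Exact f g := by
    intro y
    constructor
    · intro hy
      obtain ⟨m, rfl⟩ := Submodule.mkQ_surjective _ y
      rw [Submodule.mkQ_apply, hgmk, Submodule.Quotient.mk_eq_zero,
        Submodule.mem_smul_pointwise_iff_exists] at hy
      obtain ⟨w, -, hw⟩ := hy
      refine ⟨Submodule.Quotient.mk w, ?_⟩
      rw [hfmk, hw]
      rfl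
    · rintro ⟨z, rfl⟩
      obtain ⟨m, rfl⟩ := Submodule.mkQ_surjective _ z
      rw [Submodule.mkQ_apply, hfmk, hgmk, Submodule.Quotient.mk_eq_zero]
      exact Submodule.smul_mem_pointwise_smul m x ⊤ Submodule.mem_top
  exact Module.length_eq_add_of_exact f g hf hg hex

theorem enat_cancel {a b c : ℕ∞} (hc : c ≠ ⊤) (h : a + c = c + b) : a = b := by
  lift c to ℕ using hc
  induction a using ENat.recTopCoe with
  | top =>
    induction b using ENat.recTopCoe with
    | top => rfl
    | coe b =>
      exfalso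
      rw [top_add] at h
      exact ENat.coe_ne_top (c + b) (by exact_mod_cast h.symm)
  | coe a =>
    induction b using ENat.recTopCoe with
    | top =>
      exfalso
      rw [add_top] at h
      exact ENat.coe_ne_top (a + c) (by exact_mod_cast h)
    | coe b =>
      have : a + c = c + b := by exact_mod_cast h
      have : a = b := by omega
      rw [this]

/-- `ℓ(F/xF) = ℓ(M/xM)` if `ℓ(M/F) < ∞` and `x` is injective on `M`. -/
theorem length_quotSMulTop_eq_of_length_quot_ne_top (x : R) (hx : ∀ m : M, x • m = 0 → m = 0)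
    (F : Submodule R M) (hF : Module.length R (M ⧸ F) ≠ ⊤) :
    Module.length R (QuotSMulTop x F) = Module.length R (QuotSMulTop x M) := by
  have h1 := length_quot_smul_eq_add x F
  have h2 := length_quot_smul_eq_add' x hx F
  rw [h1] at h2
  exact enat_cancel hF h2

variable (R) in
/-- `ℓ(R^r / x R^r) = r ℓ(R/x)`. -/
theorem length_quotSMulTop_pi (x : R) (r : ℕ) :
    Module.length R (QuotSMulTop x (Fin r → R)) =
      r * Module.length R (R ⧸ Ideal.span ({x} : Set R)) := by
  have e : QuotSMulTop x (Fin r → R) ≃ₗ[R] (Fin r → R ⧸ Ideal.span ({x} : Set R)) :=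
    (QuotSMulTop.equivQuotTensor x (Fin r → R)).trans
      (TensorProduct.piScalarRight R R (R ⧸ Ideal.span ({x} : Set R)) (Fin r))
  rw [e.length_eq, Module.length_pi, ENat.card_eq_coe_fintype_card, Fintype.card_fin]

/-- `ℓ(M/xM) = r ℓ(R/x)` when `M` contains a free submodule of rank `r` of finite colength and
`x` is injective on `M`. -/
theorem length_quotSMulTop_of_linearIndependent (x : R) (hx : ∀ m : M, x • m = 0 → m = 0)
    {r : ℕ} (b : Fin r → M) (hb : LinearIndependent R b)
    (hF : Module.length R (M ⧸ Submodule.span R (Set.range b)) ≠ ⊤) :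
    Module.length R (QuotSMulTop x M) =
      r * Module.length R (R ⧸ Ideal.span ({x} : Set R)) := by
  rw [← length_quotSMulTop_eq_of_length_quot_ne_top x hx _ hF, ← length_quotSMulTop_pi R x r]
  exact (QuotSMulTop.congr x (Module.Basis.span hb).equivFun).length_eq

/-- a finite module killed by `a` with `ℓ(R/a) < ∞` has finite length. -/
theorem length_ne_top_of_smul_eq_zero (N : Type v) [AddCommGroup N] [Module R N] [Module.Finite R N]
    (a : R) (ha : ∀ n : N, a • n = 0)
    (hR : Module.length R (R ⧸ Ideal.span ({a} : Set R)) ≠ ⊤) : Module.length R N ≠ ⊤ := by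
  obtain ⟨k, π, hπ⟩ := Module.Finite.exists_fin' R N
  have hle : (a • (⊤ : Submodule R (Fin k → R))) ≤ LinearMap.ker π := by
    intro v hv
    rw [Submodule.mem_smul_pointwise_iff_exists] at hv
    obtain ⟨w, -, rfl⟩ := hv
    rw [LinearMap.mem_ker, map_smul]
    exact ha _
  let π' : QuotSMulTop a (Fin k → R) →ₗ[R] N := Submodule.liftQ _ π hle
  have hπ' : Function.Surjective π' := by
    intro n
    obtain ⟨v, rfl⟩ := hπ n
    exact ⟨Submodule.Quotient.mk v, rfl⟩
  have h1 := Module.length_le_of_surjective π' hπ'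
  rw [length_quotSMulTop_pi] at h1
  intro htop
  rw [htop, top_le_iff] at h1
  exact (WithTop.mul_ne_top (ENat.coe_ne_top k) hR) h1

end chain

end Groth.Agent.Lib.DimOneLenH3
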