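import Mathlib
import Groth.Agent.Lib.DimOneLen1_helper3
import Groth.Agent.Lib.KrullAkizuki5_helper6

/-!
# `ℓ_A(B/xB)` against `[L:K] ℓ(A/xA)` for a domain `B ⊆ L` over a one-dimensional Noetherian
domain `A` (helper3)

* `exists_family`: a maximal `A`-linearly independent family of `[L:K]` elements of `B`.
* `length_quotSMulTop_of_finite`: `ℓ(M/xM) = [L:K] ℓ(A/x)` for a finite `A`-submodule `M` of `B`
  containing the family.
* `length_le`: `ℓ(B/xB) ≤ [L:K] ℓ(A/x)` (from helper6's Krull–Akizuki length bound).
* `finite_of_length_eq`: equality forces `B` finite over `A` (local case).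
-/

set_option autoImplicit false
universe u

namespace Groth.Agent.Lib.DimOneLenH3

open scoped Pointwise nonZeroDivisors
open Groth.Agent.Lib

section ring

variable {A : Type u} [CommRing A] [IsDomain A] [IsNoetherianRing A]
  (K L : Type u) [Field K] [Field L] [Algebra A K] [IsFractionRing A K] [Algebra K L]
  [FiniteDimensional K L] [Algebra A L] [IsScalarTower A K L]
  {B : Type u} [CommRing B] [IsDomain B] [Algebra A B] [Algebra B L] [IsScalarTower A B L]
  [IsFractionRing B L]

include K L in
theorem algebraMap_injective' : Function.Injective (algebraMap A B) := by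
  have h : Function.Injective (algebraMap A L) := by
    rw [IsScalarTower.algebraMap_eq A K L]
    exact (algebraMap K L).injective.comp (IsFractionRing.injective A K)
  rw [IsScalarTower.algebraMap_eq A B L] at h
  exact Function.Injective.of_comp h

theorem map_smul' (a : A) (y : B) : algebraMap B L (a • y) = a • algebraMap B L y := by
  rw [Algebra.smul_def, map_mul, ← IsScalarTower.algebraMap_apply, Algebra.smul_def]

include K in
theorem exists_family :
    ∃ b : Fin (Module.finrank K L) → B, LinearIndependent A b ∧
      ∀ y : B, ∃ a : A, a ≠ 0 ∧ a • y ∈ Submodule.span A (Set.range b) := by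
  classical
  have hBL : Function.Injective (algebraMap B L) := IsFractionRing.injective B L
  let e := Module.finBasis K L
  have h1 : ∀ i, ∃ (a : A) (c : B), a ≠ 0 ∧ algebraMap B L c = algebraMap A L a * e i := by
    intro i
    obtain ⟨β, s, hs, hβ⟩ := IsFractionRing.div_surjective (A := B) (e i)
    have hs0 : (s : B) ≠ 0 := nonZeroDivisors.ne_zero hs
    have hsL : algebraMap B L s ≠ 0 := (map_ne_zero_iff _ hBL).mpr hs0
    have hI : Ideal.span ({s} : Set B) ≠ ⊥ := by
      rw [Ne, Ideal.span_singleton_eq_bot]
      exact hs0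
    obtain ⟨a, ha0, haI⟩ := KA.exists_ne_zero_mem (R := A) K L hBL _ hI
    obtain ⟨t, ht⟩ := Ideal.mem_span_singleton'.mp haI
    refine ⟨a, t * β, ha0, ?_⟩
    rw [← hβ, IsScalarTower.algebraMap_apply A B L, ← ht, map_mul, map_mul]
    field_simp
  choose a c ha hc using h1
  have hw : ∀ i, IsUnit (algebraMap A K (a i)) := fun i =>
    isUnit_iff_ne_zero.mpr ((map_ne_zero_iff _ (IsFractionRing.injective A K)).mpr (ha i))
  let e' := e.isUnitSMul hw
  have he' : ∀ i, e' i = algebraMap B L (c i) := by
    intro i
    rw [Module.Basis.isUnitSMul_apply, hc i, Algebra.smul_def,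
      ← IsScalarTower.algebraMap_apply A K L]
  have hliK : LinearIndependent K (fun i => algebraMap B L (c i)) := by
    have := e'.linearIndependent
    have hfun : (fun i => algebraMap B L (c i)) = e' := funext fun i => (he' i).symm
    rw [hfun]
    exact this
  have hliA : LinearIndependent A (fun i => algebraMap B L (c i)) := by
    refine hliK.restrict_scalars ?_
    intro r s hrs
    simp only [Algebra.smul_def, mul_one] at hrs
    exact IsFractionRing.injective A K hrs
  refine ⟨c, LinearIndependent.of_comp (IsScalarTower.toAlgHom A B L).toLinearMap hliA, ?_⟩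
  intro y
  obtain ⟨d0, hd0⟩ := IsLocalization.exist_integer_multiples A⁰
    (Finset.univ : Finset (Fin (Module.finrank K L))) (fun i => e'.repr (algebraMap B L y) i)
  have hd : ∀ i, ∃ d : A, algebraMap A K d = (d0 : A) • e'.repr (algebraMap B L y) i :=
    fun i => hd0 i (Finset.mem_univ i)
  choose d hd using hd
  refine ⟨d0, nonZeroDivisors.ne_zero d0.2, ?_⟩
  have hy : (d0 : A) • y = ∑ i, d i • c i := by
    apply hBL
    rw [map_smul' L, map_sum]
    conv_lhs => rw [← e'.sum_repr (algebraMap B L y)]
    rw [Finset.smul_sum]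
    refine Finset.sum_congr rfl fun i _ => ?_
    rw [← smul_assoc, ← hd i, algebraMap_smul, he' i, map_smul' L]
  rw [hy]
  exact Submodule.sum_mem _ fun i _ => Submodule.smul_mem _ _ (Submodule.subset_span ⟨i, rfl⟩)

include K L in
theorem length_quotSMulTop_of_finite (hdim : ringKrullDim A ≤ 1) (x : A) (hx : x ≠ 0)
    {n : ℕ} (b : Fin n → B) (hbli : LinearIndependent A b)
    (hbt : ∀ y : B, ∃ a : A, a ≠ 0 ∧ a • y ∈ Submodule.span A (Set.range b))
    (M : Type u) [AddCommGroup M] [Module A M] [Module.Finite A M] (j : M →ₗ[A] B)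
    (hj : Function.Injective j) (hb : ∀ i, b i ∈ LinearMap.range j) :
    Module.length A (QuotSMulTop x M) = n * Module.length A (A ⧸ Ideal.span ({x} : Set A)) := by
  classical
  have hAB : Function.Injective (algebraMap A B) := algebraMap_injective' K L
  choose b' hb' using hb
  have hli' : LinearIndependent A b' := by
    refine LinearIndependent.of_comp j ?_
    have : (j ∘ b') = b := funext fun i => hb' i
    rw [this]
    exact hbli
  have hxM : ∀ m : M, x • m = 0 → m = 0 := by
    intro m hm
    have h1 : j (x • m) = 0 := by rw [hm, map_zero]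
    rw [map_smul, Algebra.smul_def, mul_eq_zero] at h1
    rcases h1 with h1 | h1
    · exact absurd ((map_eq_zero_iff _ hAB).mp h1) hx
    · exact hj (by rw [h1, map_zero])
  have hspan : Submodule.span A (Set.range b) = (Submodule.span A (Set.range b')).map j := by
    rw [Submodule.map_span, ← Set.range_comp]
    congr 2
    exact (funext fun i => hb' i).symm
  have htors : ∀ m : M, ∃ a : A, a ≠ 0 ∧ a • m ∈ Submodule.span A (Set.range b') := by
    intro m
    obtain ⟨a, ha0, ha⟩ := hbt (j m)
    rw [hspan] at ha
    obtain ⟨z, hz, hjz⟩ := ha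
    refine ⟨a, ha0, ?_⟩
    have : z = a • m := hj (by rw [hjz, map_smul])
    rw [← this]
    exact hz
  choose af haf0 haf using htors
  obtain ⟨T, hT⟩ := Module.Finite.fg_top (R := A) (M := M)
  have hprod0 : (∏ t ∈ T, af t) ≠ 0 := Finset.prod_ne_zero_iff.mpr fun t _ => haf0 t
  have hall : ∀ m : M, (∏ t ∈ T, af t) • m ∈ Submodule.span A (Set.range b') := by
    intro m
    have hm : m ∈ Submodule.span A (T : Set M) := by rw [hT]; exact Submodule.mem_top
    induction hm using Submodule.span_induction with
    | mem t ht =>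
      rw [← Finset.mul_prod_erase T af ht, mul_comm, mul_smul]
      exact Submodule.smul_mem _ _ (haf t)
    | zero => rw [smul_zero]; exact Submodule.zero_mem _
    | add u v _ _ hu hv => rw [smul_add]; exact Submodule.add_mem _ hu hv
    | smul r u _ hu => rw [smul_comm]; exact Submodule.smul_mem _ _ hu
  have hR := KA.length_quotient_span_ne_top hdim (mem_nonZeroDivisors_of_ne_zero hprod0)
  have hN : Module.length A (M ⧸ Submodule.span A (Set.range b')) ≠ ⊤ := by
    refine length_ne_top_of_smul_eq_zero _ (∏ t ∈ T, af t) ?_ hR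
    intro q
    obtain ⟨m, rfl⟩ := Submodule.mkQ_surjective _ q
    rw [Submodule.mkQ_apply, ← Submodule.Quotient.mk_smul, Submodule.Quotient.mk_eq_zero]
    exact hall m
  exact length_quotSMulTop_of_linearIndependent x hxM b' hli' hN

include K in
theorem length_le (hdim : ringKrullDim A ≤ 1) (x : A) (hx : x ≠ 0) :
    Module.length A (QuotSMulTop x B) ≤
      (Module.finrank K L : ℕ) * Module.length A (A ⧸ Ideal.span ({x} : Set A)) := by
  let e : L ≃ₗ[K] (Fin (Module.finrank K L) → K) := (Module.finBasis K L).equivFun
  refine KA.length_quotSMulTop_le (K := K) hdim x hx (Module.finrank K L)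
    ((e.toLinearMap.restrictScalars A).comp (IsScalarTower.toAlgHom A B L).toLinearMap) ?_
  intro y y' h
  have h1 : e (algebraMap B L y) = e (algebraMap B L y') := h
  exact IsFractionRing.injective B L (e.injective h1)

include K L in
theorem finite_of_length_eq [IsLocalRing A] (hdim : ringKrullDim A ≤ 1) (x : A)
    (hxm : x ∈ IsLocalRing.maximalIdeal A) (hx : x ≠ 0)
    {n : ℕ} (b : Fin n → B) (hbli : LinearIndependent A b)
    (hbt : ∀ y : B, ∃ a : A, a ≠ 0 ∧ a • y ∈ Submodule.span A (Set.range b))
    (hEq : Module.length A (QuotSMulTop x B) =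
      n * Module.length A (A ⧸ Ideal.span ({x} : Set A))) : Module.Finite A B := by
  classical
  have hAB : Function.Injective (algebraMap A B) := algebraMap_injective' K L
  have hRx := KA.length_quotient_span_ne_top hdim (mem_nonZeroDivisors_of_ne_zero hx)
  have hfin : Module.length A (QuotSMulTop x B) ≠ ⊤ := by
    rw [hEq]
    exact WithTop.mul_ne_top (ENat.coe_ne_top n) hRx
  have hFL : IsFiniteLength A (QuotSMulTop x B) := Module.length_ne_top_iff.mp hfin
  haveI : IsNoetherian A (QuotSMulTop x B) := (isFiniteLength_iff_isNoetherian_isArtinian.mp hFL).1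
  obtain ⟨T', hT'⟩ := Module.Finite.fg_top (R := A) (M := QuotSMulTop x B)
  have hmk := Submodule.mkQ_surjective (x • (⊤ : Submodule A B))
  let T : Finset B := T'.image (Function.surjInv hmk)
  let B' : Submodule A B := Submodule.span A ((T : Set B) ∪ Set.range b)
  have hfg : B'.FG := Submodule.fg_span (Set.Finite.union T.finite_toSet (Set.finite_range b))
  haveI : Module.Finite A B' := Module.Finite.iff_fg.mpr hfg
  have hbB' : ∀ i, b i ∈ LinearMap.range B'.subtype := by
    intro i
    rw [Submodule.range_subtype]
    exact Submodule.subset_span (Or.inr ⟨i, rfl⟩)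
  have hB' := length_quotSMulTop_of_finite K L hdim x hx b hbli hbt B' B'.subtype
    (Submodule.subtype_injective _) hbB'
  -- the comparison map
  let φ : QuotSMulTop x B' →ₗ[A] QuotSMulTop x B := QuotSMulTop.map x B'.subtype
  have hφmk : ∀ z : B', φ (Submodule.Quotient.mk z) = Submodule.Quotient.mk (z : B) := fun z => rfl
  have hφsurj : Function.Surjective φ := by
    intro q
    have hq : q ∈ Submodule.span A (T' : Set (QuotSMulTop x B)) := by
      rw [hT']; exact Submodule.mem_top
    induction hq using Submodule.span_induction with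
    | mem t ht =>
      refine ⟨Submodule.Quotient.mk ⟨Function.surjInv hmk t, Submodule.subset_span (Or.inl ?_)⟩, ?_⟩
      · exact Finset.mem_coe.mpr (Finset.mem_image_of_mem _ ht)
      · rw [hφmk]
        exact Function.surjInv_eq hmk t
    | zero => exact ⟨0, map_zero _⟩
    | add u v _ _ hu hv =>
      obtain ⟨u', rfl⟩ := hu
      obtain ⟨v', rfl⟩ := hv
      exact ⟨u' + v', map_add _ _ _⟩
    | smul r u _ hu =>
      obtain ⟨u', rfl⟩ := hu
      exact ⟨r • u', map_smul _ _ _⟩
  have hφinj : Function.Injective φ := by
    have hlen := Module.length_eq_add_of_exact (LinearMap.ker φ).subtype φ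
      (Submodule.subtype_injective _) hφsurj (LinearMap.exact_subtype_ker_map φ)
    rw [hB', ← hEq] at hlen
    have hk : Module.length A (LinearMap.ker φ) = 0 :=
      enat_cancel hfin (by rw [add_zero]; exact hlen.symm)
    rw [Module.length_eq_zero_iff] at hk
    rw [← LinearMap.ker_eq_bot]
    exact Submodule.subsingleton_iff_eq_bot.mp hk
  -- (∗)
  have hstar : ∀ y : B, x • y ∈ B' → y ∈ B' := by
    intro y hy
    have h0 : φ (Submodule.Quotient.mk ⟨x • y, hy⟩) = 0 := by
      rw [hφmk, Submodule.Quotient.mk_eq_zero]
      exact Submodule.smul_mem_pointwise_smul y x ⊤ Submodule.mem_top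
    have h1 : (Submodule.Quotient.mk ⟨x • y, hy⟩ : QuotSMulTop x B') = 0 :=
      hφinj (by rw [h0, map_zero])
    rw [Submodule.Quotient.mk_eq_zero, Submodule.mem_smul_pointwise_iff_exists] at h1
    obtain ⟨w, -, hw⟩ := h1
    have h2 : x • (w : B) = x • y := congrArg Subtype.val hw
    have h3 : (w : B) = y := by
      rw [Algebra.smul_def, Algebra.smul_def] at h2
      exact mul_left_cancel₀ ((map_ne_zero_iff _ hAB).mpr hx) h2
    rw [← h3]
    exact w.2
  have hstarN : ∀ (N : ℕ) (y : B), x ^ N • y ∈ B' → y ∈ B' := by
    intro N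
    induction N with
    | zero => intro y hy; simpa using hy
    | succ N ih =>
      intro y hy
      rw [pow_succ', mul_smul] at hy
      exact ih y (hstar _ hy)
  -- powers of `x` are divisible by every non-zero element
  have hpow : ∀ a : A, a ≠ 0 → ∃ N : ℕ, a ∣ x ^ N := by
    intro a ha
    have hxrad : x ∈ (Ideal.span ({a} : Set A)).radical := by
      rw [Ideal.radical_eq_sInf, Ideal.mem_sInf]
      rintro J ⟨haJ, hJ⟩
      haveI := hJ
      have hinj : Function.Injective (algebraMap A K) := IsFractionRing.injective A K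
      have hmax : J.IsMaximal := KA.isMaximal_of_mem (R := A) (A := A) K K hdim hinj a ha J
        (haJ (Ideal.mem_span_singleton_self a))
      rw [IsLocalRing.eq_maximalIdeal hmax]
      exact hxm
    obtain ⟨N, hN⟩ := hxrad
    exact ⟨N, Ideal.mem_span_singleton.mp hN⟩
  have htop : B' = ⊤ := by
    rw [eq_top_iff]
    intro y _
    obtain ⟨a, ha0, hay⟩ := hbt y
    obtain ⟨N, c, hN⟩ := hpow a ha0
    refine hstarN N y ?_
    rw [hN, mul_comm, mul_smul]
    refine Submodule.smul_mem _ _ ?_
    exact Submodule.span_mono Set.subset_union_right hay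
  rw [Module.finite_def, ← htop]
  exact hfg

end ring

end Groth.Agent.Lib.DimOneLenH3
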