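import Mathlib
import Groth.Agent.Lib.DimOneLen2_helper3
import Groth.Agent.Lib.LocLength_helper9

/-!
# The degree formula `∑ f_m e_m ≤ [L:K] ℓ(A/x)` over a one-dimensional Noetherian local domain,
with equality iff finite (helper3)
-/

set_option autoImplicit false
universe u

namespace Groth.Agent.Lib.DimOneLenH3

open scoped Pointwise nonZeroDivisors
open Groth.Agent.Lib Groth.Agent

/-- localisation commutes with quotients, as an isomorphism of modules over the local ring. -/
noncomputable def locQuotEquiv {B : Type u} [CommRing B] (n : Ideal B) [n.IsPrime] (I : Ideal B) :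
    LocalizedModule n.primeCompl (B ⧸ I) ≃ₗ[Localization.AtPrime n]
      (Localization.AtPrime n ⧸ I.map (algebraMap B (Localization.AtPrime n))) := by
  let f := Submodule.toLocalizedQuotient' (Localization.AtPrime n) n.primeCompl
    (Algebra.linearMap B (Localization.AtPrime n)) I
  let e1 := IsLocalizedModule.iso n.primeCompl f
  let e2 := e1.extendScalarsOfIsLocalization n.primeCompl (Localization.AtPrime n)
  exact e2.trans (Submodule.quotEquivOfEq _ _
    (Ideal.localized'_eq_map (Localization.AtPrime n) n.primeCompl I))

section final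

variable {A : Type u} [CommRing A] [IsDomain A] [IsNoetherianRing A] [IsLocalRing A]
  (K L : Type u) [Field K] [Field L] [Algebra A K] [IsFractionRing A K] [Algebra K L]
  [FiniteDimensional K L] [Algebra A L] [IsScalarTower A K L]
  {B : Type u} [CommRing B] [IsDomain B] [Algebra A B] [Algebra B L] [IsScalarTower A B L]
  [IsFractionRing B L]

theorem length_quot_eq (x : A) :
    Module.length A (B ⧸ Ideal.span ({algebraMap A B x} : Set B)) =
      Module.length A (QuotSMulTop x B) := by
  have h : (Ideal.span ({algebraMap A B x} : Set B)).restrictScalars A =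
      x • (⊤ : Submodule A B) := by
    ext y
    rw [Submodule.restrictScalars_mem, Ideal.mem_span_singleton',
      Submodule.mem_smul_pointwise_iff_exists]
    constructor
    · rintro ⟨c, rfl⟩
      exact ⟨c, Submodule.mem_top, by rw [Algebra.smul_def, mul_comm]⟩
    · rintro ⟨w, -, rfl⟩
      exact ⟨w, by rw [Algebra.smul_def, mul_comm]⟩
  exact ((Submodule.Quotient.restrictScalarsEquiv A
    (Ideal.span ({algebraMap A B x} : Set B))).symm.trans
      (Submodule.quotEquivOfEq _ _ h)).length_eq

include K in
theorem isMaximal_of_mem_A (hdim : ringKrullDim A ≤ 1) (a : A) (ha : a ≠ 0) (p : Ideal A)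
    [p.IsPrime] (hap : a ∈ p) : p = IsLocalRing.maximalIdeal A := by
  have hinj : Function.Injective (algebraMap A K) := IsFractionRing.injective A K
  have hmax : p.IsMaximal := KA.isMaximal_of_mem (R := A) (A := A) K K hdim hinj a ha p hap
  exact IsLocalRing.eq_maximalIdeal hmax

include K L in
theorem mem_or_eq_bot (hdim : ringKrullDim A ≤ 1) (x : A)
    (hxm : x ∈ IsLocalRing.maximalIdeal A) (n : Ideal B) [n.IsMaximal] :
    algebraMap A B x ∈ n ∨ n = ⊥ := by
  by_cases hn : n = ⊥
  · exact Or.inr hn
  · left
    have hBL : Function.Injective (algebraMap B L) := IsFractionRing.injective B L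
    obtain ⟨a, ha0, han⟩ := KA.exists_ne_zero_mem (R := A) K L hBL n hn
    have hp : n.comap (algebraMap A B) = IsLocalRing.maximalIdeal A :=
      isMaximal_of_mem_A K hdim a ha0 _ han
    have : x ∈ n.comap (algebraMap A B) := by rw [hp]; exact hxm
    exact this

include K L in
theorem finite_maximalSpectrum (hdim : ringKrullDim A ≤ 1) (x : A)
    (hxm : x ∈ IsLocalRing.maximalIdeal A) (hx : x ≠ 0) : Finite (MaximalSpectrum B) := by
  have hBL : Function.Injective (algebraMap B L) := IsFractionRing.injective B L
  have hfin := KA.finite_primes_of_mem (R := A) K L hdim hBL x hx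
  have hfin2 : ({n : Ideal B | n.IsPrime ∧ algebraMap A B x ∈ n} ∪ {⊥}).Finite :=
    hfin.union (Set.finite_singleton ⊥)
  haveI := hfin2.to_subtype
  let g : MaximalSpectrum B → ↥({n : Ideal B | n.IsPrime ∧ algebraMap A B x ∈ n} ∪ {⊥}) :=
    fun n => ⟨n.asIdeal, by
      haveI := n.isMaximal
      rcases mem_or_eq_bot K L hdim x hxm n.asIdeal with h | h
      · exact Or.inl ⟨n.isMaximal.isPrime, h⟩
      · exact Or.inr h⟩
  refine Finite.of_injective g ?_
  intro n n' h
  exact MaximalSpectrum.ext (congrArg Subtype.val h)

include K L in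
theorem finsum_eq (hdim : ringKrullDim A ≤ 1) (x : A)
    (hxm : x ∈ IsLocalRing.maximalIdeal A) (hx : x ≠ 0) :
    (∑ᶠ m : MaximalSpectrum B,
        Module.length A (B ⧸ m.asIdeal) *
          Module.length (Localization.AtPrime m.asIdeal)
            (Localization.AtPrime m.asIdeal ⧸
              Ideal.span ({algebraMap A (Localization.AtPrime m.asIdeal) x} : Set _))) =
      Module.length A (B ⧸ Ideal.span ({algebraMap A B x} : Set B)) := by
  classical
  have hBL : Function.Injective (algebraMap B L) := IsFractionRing.injective B L
  have hAB : Function.Injective (algebraMap A B) := algebraMap_injective' K L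
  haveI : Finite (MaximalSpectrum B) := finite_maximalSpectrum K L hdim x hxm hx
  have hmapspan : ∀ n : MaximalSpectrum B,
      (Ideal.span ({algebraMap A B x} : Set B)).map
        (algebraMap B (Localization.AtPrime n.asIdeal)) =
      Ideal.span ({algebraMap A (Localization.AtPrime n.asIdeal) x} : Set _) := by
    intro n
    rw [Ideal.map_span, Set.image_singleton, ← IsScalarTower.algebraMap_apply]
  by_cases hall : ∀ n : MaximalSpectrum B, algebraMap A B x ∈ n.asIdeal
  · have hover : ∀ n : MaximalSpectrum B,
        n.asIdeal.comap (algebraMap A B) = IsLocalRing.maximalIdeal A := by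
      intro n
      haveI := n.isMaximal
      exact isMaximal_of_mem_A K hdim x hx _ (hall n)
    have hfinres : ∀ n : MaximalSpectrum B,
        Module.Finite (A ⧸ n.asIdeal.comap (algebraMap A B)) (B ⧸ n.asIdeal) := by
      intro n
      haveI : Module.Finite A (B ⧸ n.asIdeal) :=
        KA.finite_quotient_of_mem (R := A) K L hdim hBL x hx n.asIdeal (hall n)
      exact Module.Finite.of_restrictScalars_finite A _ _
    have hM : IsFiniteLength B (B ⧸ Ideal.span ({algebraMap A B x} : Set B)) := by
      obtain ⟨hN, hAr⟩ := KA.isNoetherian_quotient_ideal (R := A) K L hdim hBL x hx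
      exact isFiniteLength_iff_isNoetherian_isArtinian.mpr
        ⟨isNoetherian_of_tower A hN, isArtinian_of_tower A hAr⟩
    have hmain := LocLength.length_eq_finsum (A := A) (B := B)
      (M := B ⧸ Ideal.span ({algebraMap A B x} : Set B)) hover hfinres hM
    rw [hmain]
    refine finsum_congr fun n => ?_
    haveI := n.isMaximal
    haveI : (n.asIdeal.comap (algebraMap A B)).IsMaximal := by
      rw [hover n]; infer_instance
    haveI := hfinres n
    rw [LocLength.length_quotient_eq_finrank (A := A) n.asIdeal,
      (locQuotEquiv n.asIdeal (Ideal.span ({algebraMap A B x} : Set B))).length_eq, hmapspan n]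
  · push_neg at hall
    obtain ⟨n0, hn0⟩ := hall
    haveI := n0.isMaximal
    have hbot : n0.asIdeal = ⊥ := (mem_or_eq_bot K L hdim x hxm n0.asIdeal).resolve_left hn0
    have hxB : algebraMap A B x ≠ 0 := (map_ne_zero_iff _ hAB).mpr hx
    have htop : Ideal.span ({algebraMap A B x} : Set B) = ⊤ := by
      by_contra hne
      have h1 : n0.asIdeal = Ideal.span ({algebraMap A B x} : Set B) :=
        n0.isMaximal.eq_of_le hne (by rw [hbot]; exact bot_le)
      rw [hbot] at h1
      exact hxB (Ideal.span_singleton_eq_bot.mp h1.symm)
    have hunit : IsUnit (algebraMap A B x) := Ideal.span_singleton_eq_top.mp htop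
    have hR : Module.length A (B ⧸ Ideal.span ({algebraMap A B x} : Set B)) = 0 := by
      rw [Module.length_eq_zero_iff, htop]
      infer_instance
    rw [hR]
    refine finsum_eq_zero_of_forall_eq_zero fun n => ?_
    have htop' : Ideal.span ({algebraMap A (Localization.AtPrime n.asIdeal) x} : Set _) = ⊤ := by
      rw [Ideal.span_singleton_eq_top, IsScalarTower.algebraMap_apply A B]
      exact hunit.map _
    have h0 : Module.length (Localization.AtPrime n.asIdeal)
        (Localization.AtPrime n.asIdeal ⧸
          Ideal.span ({algebraMap A (Localization.AtPrime n.asIdeal) x} : Set _)) = 0 := by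
      rw [Module.length_eq_zero_iff, htop']
      infer_instance
    rw [h0, mul_zero]

include K L in
theorem main (hdim : ringKrullDim A = 1) (x : A) (hxm : x ∈ IsLocalRing.maximalIdeal A)
    (hx0 : x ≠ 0) :
    Finite (MaximalSpectrum B) ∧
      (∑ᶠ m : MaximalSpectrum B,
          Module.length A (B ⧸ m.asIdeal) *
            Module.length (Localization.AtPrime m.asIdeal)
              (Localization.AtPrime m.asIdeal ⧸
                Ideal.span ({algebraMap A (Localization.AtPrime m.asIdeal) x} : Set _)) ≤
        (Module.finrank K L : ℕ∞) * Module.length A (A ⧸ Ideal.span ({x} : Set A))) ∧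
      ((∑ᶠ m : MaximalSpectrum B,
          Module.length A (B ⧸ m.asIdeal) *
            Module.length (Localization.AtPrime m.asIdeal)
              (Localization.AtPrime m.asIdeal ⧸
                Ideal.span ({algebraMap A (Localization.AtPrime m.asIdeal) x} : Set _)) =
        (Module.finrank K L : ℕ∞) * Module.length A (A ⧸ Ideal.span ({x} : Set A))) ↔
          Module.Finite A B) := by
  have hdim' : ringKrullDim A ≤ 1 := hdim.le
  refine ⟨finite_maximalSpectrum K L hdim' x hxm hx0, ?_, ?_⟩
  · rw [finsum_eq K L hdim' x hxm hx0, length_quot_eq]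
    exact length_le K L hdim' x hx0
  · rw [finsum_eq K L hdim' x hxm hx0, length_quot_eq]
    obtain ⟨b, hbli, hbt⟩ := exists_family (A := A) K L (B := B)
    constructor
    · intro h
      exact finite_of_length_eq K L hdim' x hxm hx0 b hbli hbt h
    · intro hfin
      exact length_quotSMulTop_of_finite K L hdim' x hx0 b hbli hbt B LinearMap.id
        Function.injective_id (fun i => ⟨b i, rfl⟩)

end final

end Groth.Agent.Lib.DimOneLenH3
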