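import Groth.Agent.Lib.DimIntegral_helper7
import Groth.Agent.Lib.AlgSpDecent4_helper6
import Groth.Agent.Lib.AlgSpDecent5_helper6
import Groth.Agent.Lib.AlgSpT0_helper6
import Groth.Agent.Lib.FibRes2_helper8
import Groth.Agent.Lib.CodimZero_helper8

/-!
# S10460: dim X = dim Y + trdeg for proper dominant morphisms of integral spaces (helper7)
-/

set_option autoImplicit false
set_option linter.style.haveILetI false
universe u
open CategoryTheory CategoryTheory.Limits AlgebraicGeometry Opposite MorphismProperty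
open AlgSp Groth.Agent.Lib.AlgSpPoints_helper7 Groth.Agent.Lib.AlgSpPullback_helper7
  Groth.Agent.Lib.AlgSpQC_helper7

namespace Groth.Agent.Lib.DimProperH7

theorem iSup_add_le {ι : Sort*} (f : ι → WithBot ℕ∞) (c : ℕ) (B : WithBot ℕ∞)
    (h : ∀ i, f i + ((c : ℕ∞) : WithBot ℕ∞) ≤ B) :
    (⨆ i, f i) + ((c : ℕ∞) : WithBot ℕ∞) ≤ B := by
  by_cases hall : ∀ i, f i = ⊥
  · rw [iSup_eq_bot.mpr hall, WithBot.bot_add]
    exact bot_le
  push_neg at hall
  obtain ⟨i₀, hi₀⟩ := hall
  obtain ⟨a₀, ha₀⟩ := WithBot.ne_bot_iff_exists.mp hi₀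
  have hB := h i₀
  rw [← ha₀, ← WithBot.coe_add] at hB
  obtain ⟨b, rfl⟩ : ∃ b : ℕ∞, B = b := by
    cases B with
    | bot => exact absurd hB (by simp)
    | coe b => exact ⟨b, rfl⟩
  have hcb : (c : ℕ∞) ≤ b := le_trans le_add_self (WithBot.coe_le_coe.mp hB)
  have hle : ∀ i, f i ≤ ((b - c : ℕ∞) : WithBot ℕ∞) := by
    intro i
    cases hf : f i with
    | bot => exact bot_le
    | coe a =>
      have := h i
      rw [hf, ← WithBot.coe_add, WithBot.coe_le_coe] at this
      rw [WithBot.coe_le_coe]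
      exact ENat.le_sub_of_add_le_right (by simp) this
  calc (⨆ i, f i) + ((c : ℕ∞) : WithBot ℕ∞)
      ≤ ((b - c : ℕ∞) : WithBot ℕ∞) + ((c : ℕ∞) : WithBot ℕ∞) := by
        gcongr
        exact iSup_le hle
    _ = ((b - c + c : ℕ∞) : WithBot ℕ∞) := (WithBot.coe_add _ _).symm
    _ = (b : WithBot ℕ∞) := by rw [tsub_add_cancel_of_le hcb]

variable {S : Scheme.{u}}

/-- coheight of a point of `|P|` for the specialization preorder -/
noncomputable def cohP (P : Sp S) (z : Points P) : ℕ∞ :=
  @Order.coheight (Points P) (specializationPreorder (Points P)) z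

theorem cohP_anti {P : Sp S} {z z' : Points P} (h : z' ⤳ z) : cohP P z' ≤ cohP P z := by
  letI := specializationPreorder (Points P)
  exact Order.coheight_anti (show z ≤ z' from h)

theorem cohP_add_one_le {P : Sp S} {z z' : Points P} (h : z' ⤳ z) (h' : ¬ z ⤳ z') :
    cohP P z' + 1 ≤ cohP P z := by
  letI := specializationPreorder (Points P)
  exact Order.coheight_add_one_le (lt_of_le_not_ge (show z ≤ z' from h) (fun h'' => h' h''))

theorem cohP_le_coheight_chart {P : Sp S} (hd : IsDecent P) {U : Over S}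
    (a : (yon S).obj U ⟶ P) (hae : RepWith @Etale a) (u : ↥U.left) :
    cohP P (Points.ofPt a u) ≤ Order.coheight u := by
  letI := specializationPreorder (Points P)
  refine EtDimH8.coheight_le_of_lift (Points.ofPt a) ?_ u
  intro u z hz
  have hz1 : z ⤳ Points.ofPt a u := hz.le
  have hz2 : ¬ Points.ofPt a u ⤳ z := fun h => hz.not_ge h
  obtain ⟨rz, hrz, -, hqc⟩ := hd z
  obtain ⟨u', hu'u, hu'z⟩ := Groth.Agent.Lib.AlgSpGeneriz_helper6.exists_specializes_lift
    (Points.ofPt a u) z hz1 rz hrz hqc a hae u rfl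
  refine ⟨u', lt_of_le_not_ge (show u ≤ u' from hu'u) ?_, hu'z⟩
  intro hge
  have h2 : u ⤳ u' := hge
  have h3 := h2.map (Points.continuous_ofPt a)
  rw [hu'z] at h3
  exact hz2 h3

theorem isMax_specializes {U : Scheme.{u}} {u' : U} (h0 : Order.coheight u' = 0) :
    ∀ t : U, t ⤳ u' → t = u' := by
  intro t ht
  have hmax : IsMax u' := Order.coheight_eq_zero.mp h0
  have h1 : u' ≤ t := ht
  have h2 : u' ⤳ t := hmax h1
  exact (ht.antisymm h2).eq

section

variable {X Y : Sp S} (hX : IsAlgSpace X) (hY : IsAlgSpace Y) (hdX : IsDecent X)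
  (hdY : IsDecent Y) (f : X ⟶ Y) (hft : LocP @LocallyOfFiniteType f) (hYN : IsLocNoethSp Y)
  (x : Points X) (hx : IsGenericPoint x (Set.univ : Set (Points X)))
  (hfx : IsGenericPoint (Points.map f x) (Set.univ : Set (Points Y))) (r : ℕ)
  (hr : HasAtMor (fun _ _ h u => Dual3.resTrdeg h u = (r : Cardinal.{u})) f x)
  {V : Over S} (b : (yon S).obj V ⟶ Y) (hbe : RepWith @Etale b)

include hX hY hdX hdY hft hYN hx hfx hr hbe in
theorem exists_over_max (vm : ↥V.left) (hvm : ∀ v' : ↥V.left, v' ⤳ vm → v' = vm) :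
    ∃ w : Points (pullback f b), Points.map (pullback.snd f b) w = Points.ofScheme V vm ∧
      (r : ℕ∞) ≤ cohP _ w := by
  have sq : IsPullback (pullback.fst f b) (pullback.snd f b) f b := IsPullback.of_hasPullback f b
  haveI : IsLocallyNoetherian V.left := Groth.Agent.Lib.AlgSpGorH7.locNoeth_of_etale_chart hYN b hbe
  have hPalg : IsAlgSpace (pullback f b) :=
    isAlgSpace_of_isPullback hY.diag hX (IsAlgSpace.yon_obj V) sq
  have hPd : IsDecent (pullback f b) :=
    Groth.Agent.Lib.AlgSpDecent4_helper6.isDecent_of_isPullback hY.diag sq hdX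
      (Groth.Agent.Lib.AlgSpDecent5_helper6.isDecent_yon V)
  haveI : T0Space (Points X) := Groth.Agent.Lib.AlgSpT0_helper6.t0Space_points_of_isDecent hX hdX
  haveI : T0Space (Points (pullback f b)) :=
    Groth.Agent.Lib.AlgSpT0_helper6.t0Space_points_of_isDecent hPalg hPd
  have hbv : Points.ofPt b vm = Points.map f x := by
    have hgen : Points.map f x ⤳ Points.ofPt b vm := hfx.specializes (Set.mem_univ _)
    obtain ⟨ry, hry, -, hqc⟩ := hdY (Points.map f x)
    obtain ⟨v'', hv'', hv''y⟩ := Groth.Agent.Lib.AlgSpGeneriz_helper6.exists_specializes_lift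
      (Points.ofPt b vm) (Points.map f x) hgen ry hry hqc b hbe vm rfl
    rw [hvm v'' hv''] at hv''y
    exact hv''y
  obtain ⟨ζ, hζ1, hζ2⟩ := exists_of_isPullback sq x (Points.ofScheme V vm)
    (by rw [← hbv, Points.ofPt_eq_map_ofScheme])
  obtain ⟨U', a', u'', ha'e, hu''⟩ := ResTrdegH8.exists_chart ⟨pullback f b, hPalg⟩ ζ
  obtain ⟨h, hh⟩ := (yon S).map_surjective (a' ≫ pullback.snd f b)
  have cm : (a' ≫ pullback.fst f b) ≫ f = (yon S).map h ≫ b := by
    rw [Category.assoc, sq.w, ← Category.assoc, hh]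
  have hfste : RepWith @Etale (pullback.fst f b) := repWith_fst_of_isPullback _ sq hbe
  have hae : RepWith @Etale (a' ≫ pullback.fst f b) := repWith_comp _ ha'e hfste
  haveI : LocallyOfFiniteType h.left := hft _ b h hae hbe cm
  haveI : IsLocallyNoetherian U'.left := LocallyOfFiniteType.isLocallyNoetherian h.left
  obtain ⟨u', hu'u'', hu'max⟩ := CodimZeroH8.exists_isMax_ge u''
  have hhu'' : h.left u'' = vm := by
    apply ofScheme_injective V
    rw [← ofPt_yon_map, hh, ← Points.map_ofPt, hu'', hζ2]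
  have hhu' : h.left u' = vm := by
    have h1 : h.left u' ⤳ h.left u'' := hu'u''.map h.left.continuous
    rw [hhu''] at h1
    exact hvm _ h1
  have hfx' : Points.ofPt (a' ≫ pullback.fst f b) u' = x := by
    have h1 : Points.ofPt (a' ≫ pullback.fst f b) u' ⤳ Points.ofPt (a' ≫ pullback.fst f b) u'' :=
      hu'u''.map (Points.continuous_ofPt _)
    have h2 : Points.ofPt (a' ≫ pullback.fst f b) u'' = x := by
      rw [← Points.map_ofPt, hu'', hζ1]
    rw [h2] at h1
    have h3 : x ⤳ Points.ofPt (a' ≫ pullback.fst f b) u' := hx.specializes (Set.mem_univ _)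
    exact (h1.antisymm h3).eq
  have htr : Dual3.resTrdeg h.left u' = (r : Cardinal.{u}) :=
    ResTrdegH8.hasAtMor_resTrdeg_unique f x
      ⟨U', V, a' ≫ pullback.fst f b, b, h, u', hae, hbe, cm, hfx', rfl⟩ hr
  obtain ⟨n', hn', hh'⟩ := Groth.Agent.FibRes2H8.height_asFiber h.left u'
  have hn'r : n' = r := by
    have : ((n' : ℕ) : Cardinal.{u}) = (r : Cardinal.{u}) := by
      rw [← hn']
      exact htr
    exact_mod_cast this
  rw [hn'r] at hh'
  obtain ⟨p, hplast, hplen⟩ := Order.exists_series_of_height_eq_coe _ hh'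
  letI := specializationPreorder (Points (pullback f b))
  have hψ : StrictMono (fun t : ↥(h.left.fiber (h.left u')) =>
      Points.ofPt a' (h.left.fiberι (h.left u') t)) := by
    intro t1 t2 h12
    have e1 : t2 ⤳ t1 := h12.le
    have e2 : ¬ t1 ⤳ t2 := fun h => h12.not_ge h
    have hι : Topology.IsInducing (h.left.fiberι (h.left u')) :=
      (h.left.fiberι (h.left u')).isEmbedding.isInducing
    have e1' : h.left.fiberι (h.left u') t2 ⤳ h.left.fiberι (h.left u') t1 :=
      hι.specializes_iff.mpr e1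
    have e3 := e1'.map (Points.continuous_ofPt a')
    refine lt_of_le_not_ge e3 ?_
    intro h4
    have h5 : Points.ofPt a' (h.left.fiberι (h.left u') t1) ⤳
        Points.ofPt a' (h.left.fiberι (h.left u') t2) := h4
    have h6 : Points.ofPt a' (h.left.fiberι (h.left u') t1) =
        Points.ofPt a' (h.left.fiberι (h.left u') t2) := (h5.antisymm e3).eq
    have h7 := Groth.Agent.Lib.AlgSpFibre_helper6.eq_of_specializes_of_isDecent hPd a' ha'e _ _ h6 e1'
    have h8 : t1 = t2 := (h.left.fiberι (h.left u')).isEmbedding.injective h7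
    exact e2 (h8 ▸ specializes_rfl)
  have hco : (r : ℕ∞) ≤ cohP _ (Points.ofPt a' (h.left.fiberι (h.left u') p.head)) := by
    have h1 : (p.length : ℕ∞) ≤ Order.coheight p.head := Order.length_le_coheight_head
    have h2 := Order.coheight_le_coheight_apply_of_strictMono _ hψ p.head
    rw [hplen] at h1
    exact h1.trans h2
  refine ⟨_, ?_, hco⟩
  rw [Points.map_ofPt, ← hh, ofPt_yon_map]
  congr 1
  have hmem : h.left.fiberι (h.left u') p.head ∈ h.left ⁻¹' {h.left u'} := by
    rw [← Scheme.Hom.range_fiberι]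
    exact ⟨_, rfl⟩
  rw [← hhu']
  exact hmem

include hX hY hdX hdY hft hYN hx hfx hr hbe in
theorem key (hcl : IsUnivClosedMor f) (n : ℕ) :
    ∀ v : ↥V.left, (n : ℕ∞) ≤ Order.coheight v →
    ∃ z : Points (pullback f b), Points.map (pullback.snd f b) z = Points.ofScheme V v ∧
      (n : ℕ∞) + r ≤ cohP _ z := by
  have sq : IsPullback (pullback.fst f b) (pullback.snd f b) f b := IsPullback.of_hasPullback f b
  have hcl' : IsClosedMap (Points.map (pullback.snd f b)) :=
    hcl (IsAlgSpace.yon_obj V) b _ _ sq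
  induction n with
  | zero =>
    intro v _
    obtain ⟨vm, hvmv, hvm0⟩ := CodimZeroH8.exists_isMax_ge v
    obtain ⟨w, hw1, hw2⟩ := exists_over_max hX hY hdX hdY f hft hYN x hx hfx r hr b hbe vm
      (isMax_specializes hvm0)
    obtain ⟨z, hwz, hz⟩ := hcl'.specializingMap (a := w) (b := Points.ofScheme V v)
      (by rw [hw1]; exact hvmv.map (Points.continuous_ofPt _))
    refine ⟨z, hz, ?_⟩
    simp only [Nat.cast_zero, zero_add]
    exact hw2.trans (cohP_anti hwz)
  | succ n ih =>
    intro v hv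
    obtain ⟨v', hvv', hn'⟩ : ∃ v' : ↥V.left, v < v' ∧ (n : ℕ∞) ≤ Order.coheight v' := by
      by_contra hcon
      push_neg at hcon
      have h1 : Order.coheight v ≤ n := Order.coheight_le_coe_iff.mpr hcon
      have h2 := hv.trans h1
      have h3 : n + 1 ≤ n := by exact_mod_cast h2
      omega
    obtain ⟨z', hz'1, hz'2⟩ := ih v' hn'
    have hsp : v' ⤳ v := hvv'.le
    obtain ⟨z, hz'z, hz⟩ := hcl'.specializingMap (a := z') (b := Points.ofScheme V v)
      (by rw [hz'1]; exact hsp.map (Points.continuous_ofPt _))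
    refine ⟨z, hz, ?_⟩
    have hnot : ¬ z ⤳ z' := by
      intro h
      have h1 := h.map (Points.continuous_map (pullback.snd f b))
      rw [hz, hz'1] at h1
      have h2 : v ⤳ v' := ((Points.schemeHomeo V).isInducing.specializes_iff).mp h1
      exact hvv'.not_ge h2
    have h3 := cohP_add_one_le hz'z hnot
    calc ((n + 1 : ℕ) : ℕ∞) + r = ((n : ℕ∞) + r) + 1 := by push_cast; ring
      _ ≤ cohP _ z' + 1 := by gcongr
      _ ≤ cohP _ z := h3

end

theorem main10460 {S : Scheme.{u}} {X Y : AlgSp.Space S} (f : X ⟶ Y)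
    (hY : AlgSp.IsLocNoethSp Y.obj) (hXi : AlgSp.IsIntegralSp X.obj) (hYi : AlgSp.IsIntegralSp Y.obj)
    (hd : AlgSp.IsDominantMor f.hom) (hp : AlgSp.IsProperMor f.hom)
    (x : AlgSp.Points X.obj) (hx : IsGenericPoint x (Set.univ : Set (AlgSp.Points X.obj))) (r : ℕ)
    (hr : AlgSp.HasAtMor (fun _ _ h u => Dual3.resTrdeg h u = (r : Cardinal.{u})) f.hom x) :
    AlgSp.dim X.obj = AlgSp.dim Y.obj + ((r : ℕ∞) : WithBot ℕ∞) := by
  apply le_antisymm
  · exact Groth.Agent.Lib.DimTrdegH7.main10459 f hY hXi hYi hd hp.2.1.1 x hx r hr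
  obtain ⟨-, hdX, -⟩ := hXi
  obtain ⟨-, hdY, -⟩ := hYi
  have hfx : IsGenericPoint (Points.map f.hom x) (Set.univ : Set (Points Y.obj)) := by
    show closure {Points.map f.hom x} = Set.univ
    apply Set.eq_univ_of_univ_subset
    rw [← hd.closure_range]
    apply closure_minimal _ isClosed_closure
    rintro _ ⟨x', rfl⟩
    have h1 : x ⤳ x' := hx.specializes (Set.mem_univ _)
    exact specializes_iff_mem_closure.mp (h1.map (Points.continuous_map f.hom))
  have H : ∀ (V : Over S) (b : (yon S).obj V ⟶ Y.obj) (_ : RepWith @Etale b) (v : ↥V.left),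
      ((Order.coheight v : ℕ∞) : WithBot ℕ∞) + ((r : ℕ∞) : WithBot ℕ∞) ≤ AlgSp.dim X.obj := by
    intro V b hbe v
    have sq : IsPullback (pullback.fst f.hom b) (pullback.snd f.hom b) f.hom b :=
      IsPullback.of_hasPullback f.hom b
    have hPalg : IsAlgSpace (pullback f.hom b) :=
      isAlgSpace_of_isPullback Y.property.diag X.property (IsAlgSpace.yon_obj V) sq
    have hPd : IsDecent (pullback f.hom b) :=
      Groth.Agent.Lib.AlgSpDecent4_helper6.isDecent_of_isPullback Y.property.diag sq hdX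
        (Groth.Agent.Lib.AlgSpDecent5_helper6.isDecent_yon V)
    have hfste : RepWith @Etale (pullback.fst f.hom b) := repWith_fst_of_isPullback _ sq hbe
    have Hn : ∀ n : ℕ, (n : ℕ∞) ≤ Order.coheight v →
        ((((n : ℕ∞) + r : ℕ∞)) : WithBot ℕ∞) ≤ AlgSp.dim X.obj := by
      intro n hn
      obtain ⟨z, -, hz⟩ := key X.property Y.property hdX hdY f.hom hp.2.1.1 hY x hx hfx r hr b hbe
        hp.2.2 n v hn
      obtain ⟨U, a, u, hae, hu⟩ := ResTrdegH8.exists_chart ⟨pullback f.hom b, hPalg⟩ z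
      have h1 : cohP _ z ≤ Order.coheight u := by
        have := cohP_le_coheight_chart hPd a hae u
        rwa [hu] at this
      have h2 := Groth.Agent.Lib.DimIntegralH7.coheight_le_dim (a ≫ pullback.fst f.hom b)
        (repWith_comp _ hae hfste) u
      exact le_trans (by exact_mod_cast hz.trans h1) h2
    rw [← WithBot.coe_add]
    cases hc : Order.coheight v with
    | top =>
      have htop : AlgSp.dim X.obj = ⊤ := by
        rw [ENat.WithBot.eq_top_iff_forall_ge]
        intro m
        have h1 := Hn m (by rw [hc]; exact le_top)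
        refine le_trans ?_ h1
        exact_mod_cast (le_self_add : (m : ℕ∞) ≤ (m : ℕ∞) + r)
      rw [htop]
      exact le_top
    | coe m => exact Hn m (by rw [hc])
  unfold AlgSp.dim
  refine iSup_add_le _ r _ fun V => iSup_add_le _ r _ fun b => iSup_add_le _ r _ fun hbe => ?_
  rw [Groth.Agent.Lib.DimTrdegH7.topologicalKrullDim_eq_iSup_coheight]
  refine iSup_add_le _ r _ fun v => ?_
  exact H V b hbe v

end Groth.Agent.Lib.DimProperH7
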