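import Mathlib
import Groth.Agent.Lib.EssInj1_helper7

/-!
# Resolutions by injectives coming from an exact fully faithful subcategory (helper7)
-/

set_option autoImplicit false
universe w w' v v' u u'
open CategoryTheory Limits ZeroObject

namespace Groth.Agent.Lib.EssInj2

lemma ofSequence_map_mem {C : Type*} [Category C] {X : ℕ → C} (f : ∀ n, X n ⟶ X (n + 1))
    (W : MorphismProperty C) [W.IsMultiplicative] (m : ℕ) (hf : ∀ k, m ≤ k → W (f k)) :
    ∀ (k l : ℕ) (hkl : k ≤ l), m ≤ k → W ((Functor.ofSequence f).map (homOfLE hkl)) := by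
  intro k l hkl hmk
  obtain ⟨d, rfl⟩ := Nat.exists_eq_add_of_le hkl
  induction d with
  | zero =>
    have : homOfLE hkl = 𝟙 k := Subsingleton.elim _ _
    rw [this, CategoryTheory.Functor.map_id]
    exact W.id_mem _
  | succ d ih =>
    have : homOfLE hkl = homOfLE (Nat.le_add_right k d) ≫ homOfLE (Nat.le_succ (k + d)) :=
      Subsingleton.elim _ _
    rw [this, Functor.map_comp]
    refine W.comp_mem _ _ (ih _) ?_
    rw [Functor.ofSequence_map_homOfLE_succ]
    exact hf _ (by omega)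

lemma colimit_props {A : Type u} [Category.{v} A] [Abelian A] (F : ℕ ⥤ CochainComplex A ℤ) (a : ℤ)
    (hqi : ∀ (k l : ℕ) (hkl : k ≤ l), QuasiIso (F.map (homOfLE hkl)))
    (hiso : ∀ (j : ℤ) (m : ℕ), j < a + m → ∀ (l : ℕ) (hml : m ≤ l),
      IsIso ((F.map (homOfLE hml)).f j)) :
    ∃ (L : CochainComplex A ℤ) (q : ∀ m, F.obj m ⟶ L), QuasiIso (q 0) ∧
      ∀ (j : ℤ) (m : ℕ), j < a + m → IsIso ((q m).f j) := by
  have hconst : ∀ (j : ℤ) (m : ℕ), j < a + m →
      (F ⋙ HomologicalComplex.eval A (ComplexShape.up ℤ) j).IsEventuallyConstantFrom m := by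
    intro j m hj l φ
    have : φ = homOfLE (leOfHom φ) := Subsingleton.elim _ _
    rw [this]
    exact hiso j m hj l _
  haveI : ∀ j, HasColimit (F ⋙ HomologicalComplex.eval A (ComplexShape.up ℤ) j) := fun j =>
    (hconst j (j + 1 - a).toNat (by omega)).hasColimit
  have hLiso : ∀ (j : ℤ) (m : ℕ), j < a + m → IsIso ((colimit.ι F m).f j) := fun j m hj =>
    (hconst j m hj).isIso_ι_of_isColimit
      (isColimitOfPreserves (HomologicalComplex.eval A (ComplexShape.up ℤ) j) (colimit.isColimit F))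
  have hLqi : ∀ (j : ℤ) (m : ℕ), j + 1 < a + m → QuasiIsoAt (colimit.ι F m) j := by
    intro j m hj
    rw [quasiIsoAt_iff' _ (j - 1) j (j + 1) (by simp) (by simp)]
    let φ := (HomologicalComplex.shortComplexFunctor' A (ComplexShape.up ℤ) (j - 1) j (j + 1)).map
      (colimit.ι F m)
    haveI : IsIso φ.τ₁ := hLiso (j - 1) m (by omega)
    haveI : IsIso φ.τ₂ := hLiso j m (by omega)
    haveI : IsIso φ.τ₃ := hLiso (j + 1) m (by omega)
    exact ShortComplex.quasiIso_of_epi_of_isIso_of_mono φ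
  refine ⟨colimit F, fun m => colimit.ι F m, ?_, hLiso⟩
  show QuasiIso (colimit.ι F 0)
  rw [quasiIso_iff]
  intro j
  have hw : colimit.ι F 0 = F.map (homOfLE (Nat.zero_le (j + 2 - a).toNat)) ≫
      colimit.ι F (j + 2 - a).toNat := (colimit.w F _).symm
  haveI : QuasiIsoAt (F.map (homOfLE (Nat.zero_le (j + 2 - a).toNat))) j :=
    (hqi 0 (j + 2 - a).toNat (Nat.zero_le _)).quasiIsoAt j
  haveI := hLqi j (j + 2 - a).toNat (by omega)
  rw [hw]
  exact quasiIsoAt_comp _ _ _

section Ess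

variable {A' : Type u'} [Category.{v'} A'] [Abelian A'] {A : Type u} [Category.{v} A] [Abelian A]
  (ι : A' ⥤ A) [ι.Additive] [PreservesFiniteLimits ι] [PreservesFiniteColimits ι]
  [ι.Full] [ι.Faithful]

lemma essImage_of_isZero {X : A} (h : IsZero X) : ι.essImage X :=
  ⟨0, ⟨ι.mapZeroObject ≪≫ h.isoZero.symm⟩⟩

lemma essImage_cokernel {X Y : A} (f : X ⟶ Y) (hX : ι.essImage X) (hY : ι.essImage Y) :
    ι.essImage (cokernel f) := by
  obtain ⟨X', ⟨eX⟩⟩ := hX
  obtain ⟨Y', ⟨eY⟩⟩ := hY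
  let f' : X' ⟶ Y' := ι.preimage (eX.hom ≫ f ≫ eY.inv)
  have hf' : ι.map f' = eX.hom ≫ f ≫ eY.inv := ι.map_preimage _
  exact ⟨cokernel f', ⟨PreservesCokernel.iso ι f' ≪≫
    cokernel.mapIso (ι.map f') f eX eY (by rw [hf']; simp)⟩⟩

lemma ext4 (hext : ∀ S : ShortComplex A, S.ShortExact → ι.essImage S.X₁ → ι.essImage S.X₃ →
      ι.essImage S.X₂)
    {Z X Z' H : A} (i : Z ⟶ X) (T : X ⟶ Z') (p : Z' ⟶ H) (hiT : i ≫ T = 0)
    (hTp : T ≫ p = 0) (h1 : (ShortComplex.mk i T hiT).Exact)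
    (h2 : (ShortComplex.mk T p hTp).Exact) [Epi p]
    (hZ : ι.essImage Z) (hX : ι.essImage X) (hH : ι.essImage H) : ι.essImage Z' := by
  haveI : Mono (cokernel.desc i T hiT) := h1.mono_cokernelDesc
  have hcp : cokernel.desc i T hiT ≫ p = 0 := by
    rw [← cancel_epi (cokernel.π i), cokernel.π_desc_assoc, hTp, comp_zero]
  let S := ShortComplex.mk (cokernel.desc i T hiT) p hcp
  let φ : ShortComplex.mk T p hTp ⟶ S :=
    { τ₁ := cokernel.π i, τ₂ := 𝟙 _, τ₃ := 𝟙 _, comm₁₂ := by simp [S], comm₂₃ := by simp [S] }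
  haveI : Epi φ.τ₁ := inferInstanceAs (Epi (cokernel.π i))
  haveI : IsIso φ.τ₂ := inferInstanceAs (IsIso (𝟙 _))
  haveI : Mono φ.τ₃ := inferInstanceAs (Mono (𝟙 _))
  have hS : S.Exact := (ShortComplex.exact_iff_of_epi_of_isIso_of_mono φ).1 h2
  exact hext S (ShortComplex.ShortExact.mk' hS ‹Mono (cokernel.desc i T hiT)› ‹Epi p›)
    (essImage_cokernel ι i hZ hX) hH

lemma cycles_mem (hext : ∀ S : ShortComplex A, S.ShortExact → ι.essImage S.X₁ →
      ι.essImage S.X₃ → ι.essImage S.X₂)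
    (X : CochainComplex A ℤ) (a : ℤ) [X.IsStrictlyGE a] (n : ℤ)
    (hX : ∀ j, j < n → ι.essImage (X.X j)) (hH : ∀ j, ι.essImage (X.homology j)) :
    ∀ j, j ≤ n → ι.essImage (X.cycles j) := by
  have hzero : ∀ j, j < a → ι.essImage (X.cycles j) := fun j hj =>
    essImage_of_isZero ι (IsZero.of_mono (X.iCycles j) (X.isZero_of_isStrictlyGE a j hj))
  have key : ∀ (k : ℕ) (j : ℤ), j = a - 1 + k → j ≤ n → ι.essImage (X.cycles j) := by
    intro k
    induction k with
    | zero =>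
      intro j hj _
      exact hzero j (by omega)
    | succ k ih =>
      intro j hj hjn
      obtain ⟨j', rfl⟩ : ∃ j', j = j' + 1 := ⟨j - 1, by omega⟩
      have hj' := ih j' (by omega) (by omega)
      have hiT : X.iCycles j' ≫ X.toCycles j' (j' + 1) = 0 := by
        rw [← cancel_mono (X.iCycles (j' + 1)), Category.assoc, X.toCycles_i, X.iCycles_d,
          zero_comp]
      have h1 : (ShortComplex.mk (X.iCycles j') (X.toCycles j' (j' + 1)) hiT).Exact := by
        let φ : ShortComplex.mk (X.iCycles j') (X.toCycles j' (j' + 1)) hiT ⟶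
            ShortComplex.mk (X.iCycles j') (X.d j' (j' + 1)) (X.iCycles_d j' (j' + 1)) :=
          { τ₁ := 𝟙 _, τ₂ := 𝟙 _, τ₃ := X.iCycles (j' + 1), comm₁₂ := by simp,
            comm₂₃ := by simp }
        haveI : Epi φ.τ₁ := inferInstanceAs (Epi (𝟙 _))
        haveI : IsIso φ.τ₂ := inferInstanceAs (IsIso (𝟙 _))
        haveI : Mono φ.τ₃ := inferInstanceAs (Mono (X.iCycles (j' + 1)))
        exact (ShortComplex.exact_iff_of_epi_of_isIso_of_mono φ).2
          (ShortComplex.exact_of_f_is_kernel _ (X.cyclesIsKernel j' (j' + 1) (by simp)))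
      have h2 : (ShortComplex.mk (X.toCycles j' (j' + 1)) (X.homologyπ (j' + 1))
          (X.toCycles_comp_homologyπ j' (j' + 1))).Exact :=
        ShortComplex.exact_of_g_is_cokernel _ (X.homologyIsCokernel j' (j' + 1) (by simp))
      exact ext4 ι hext _ _ _ hiT _ h1 h2 hj' (hX j' (by omega)) (hH _)
  intro j hj
  by_cases hja : j < a
  · exact hzero j hja
  · exact key (j - a + 1).toNat j (by omega) hj

lemma exists_embedding
    (hinj : ∀ X' : A', ∃ (Y' : A') (i : X' ⟶ Y'), Mono i ∧ Injective (ι.obj Y'))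
    {Z : A} (hZ : ι.essImage Z) :
    ∃ (I : A) (u : Z ⟶ I), Mono u ∧ Injective I ∧ ι.essImage I := by
  obtain ⟨Z', ⟨e⟩⟩ := hZ
  obtain ⟨Y', i, hi, hY⟩ := hinj Z'
  haveI := hi
  exact ⟨ι.obj Y', e.inv ≫ ι.map i, inferInstance, hY, ι.obj_mem_essImage Y'⟩

/-- the invariant of the construction -/
def Inv (a : ℤ) (m : ℕ) (X : CochainComplex A ℤ) : Prop :=
  X.IsStrictlyGE a ∧ (∀ j : ℤ, j < a + m → Injective (X.X j) ∧ ι.essImage (X.X j)) ∧
    ∀ j : ℤ, ι.essImage (X.homology j)

lemma step' (hext : ∀ S : ShortComplex A, S.ShortExact → ι.essImage S.X₁ →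
      ι.essImage S.X₃ → ι.essImage S.X₂)
    (hinj : ∀ X' : A', ∃ (Y' : A') (i : X' ⟶ Y'), Mono i ∧ Injective (ι.obj Y'))
    (a : ℤ) (m : ℕ) (X : CochainComplex A ℤ) (h : Inv ι a m X) :
    ∃ (X' : CochainComplex A ℤ) (g : X ⟶ X'), Inv ι a (m + 1) X' ∧ QuasiIso g ∧
      ∀ j : ℤ, j < a + m → IsIso (g.f j) := by
  haveI := h.1
  have hZ := cycles_mem ι hext X a (a + m) (fun j hj => (h.2.1 j hj).2) h.2.2 (a + m) le_rfl
  obtain ⟨I, u₀, hu₀, hI, hI'⟩ := exists_embedding ι hinj hZ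
  haveI := hI
  haveI := hu₀
  let u := Injective.factorThru u₀ (X.iCycles (a + m))
  have hu : X.iCycles (a + m) ≫ u = u₀ := Injective.comp_factorThru _ _
  haveI : Mono (X.iCycles (a + m) ≫ u) := by rw [hu]; exact hu₀
  obtain ⟨X', g, hg, hiso, ⟨e⟩⟩ := EssInj1.step (a + m) X u
  haveI := hg
  refine ⟨X', g, ⟨?_, ?_, ?_⟩, hg, hiso⟩
  · rw [CochainComplex.isStrictlyGE_iff]
    intro j hj
    haveI := hiso j (by omega)
    exact IsZero.of_iso (X.isZero_of_isStrictlyGE a j hj) (asIso (g.f j)).symm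
  · intro j hj
    by_cases hj' : j < a + m
    · haveI := hiso j hj'
      exact ⟨Injective.of_iso (asIso (g.f j)) (h.2.1 j hj').1,
        Functor.essImage.ofIso (asIso (g.f j)) (h.2.1 j hj').2⟩
    · obtain rfl : j = a + m := by push_cast at hj; omega
      exact ⟨Injective.of_iso e.symm hI, Functor.essImage.ofIso e.symm hI'⟩
  · intro j
    exact Functor.essImage.ofIso (asIso (HomologicalComplex.homologyMap g j)) (h.2.2 j)

section Sequence

variable (hext : ∀ S : ShortComplex A, S.ShortExact → ι.essImage S.X₁ →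
      ι.essImage S.X₃ → ι.essImage S.X₂)
  (hinj : ∀ X' : A', ∃ (Y' : A') (i : X' ⟶ Y'), Mono i ∧ Injective (ι.obj Y'))
  (a : ℤ) (K : CochainComplex A ℤ) (hK : Inv ι a 0 K)

/-- the sequence of successive modifications -/
noncomputable def seq (m : ℕ) : {X : CochainComplex A ℤ // Inv ι a m X} :=
  Nat.rec (motive := fun m => {X : CochainComplex A ℤ // Inv ι a m X}) ⟨K, hK⟩
    (fun m ih => ⟨(step' ι hext hinj a m ih.1 ih.2).choose,
      (step' ι hext hinj a m ih.1 ih.2).choose_spec.choose_spec.1⟩) m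

/-- the transition maps -/
noncomputable def seqMap (m : ℕ) :
    (seq ι hext hinj a K hK m).1 ⟶ (seq ι hext hinj a K hK (m + 1)).1 :=
  (step' ι hext hinj a m (seq ι hext hinj a K hK m).1
    (seq ι hext hinj a K hK m).2).choose_spec.choose

lemma seqMap_spec (m : ℕ) : QuasiIso (seqMap ι hext hinj a K hK m) ∧
    ∀ j : ℤ, j < a + m → IsIso ((seqMap ι hext hinj a K hK m).f j) :=
  (step' ι hext hinj a m (seq ι hext hinj a K hK m).1
    (seq ι hext hinj a K hK m).2).choose_spec.choose_spec.2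

include hext hinj hK in
theorem exists_resolution : ∃ (L : CochainComplex A ℤ) (q : K ⟶ L), QuasiIso q ∧
    L.IsStrictlyGE a ∧ ∀ j, Injective (L.X j) ∧ ι.essImage (L.X j) := by
  let X : ℕ → CochainComplex A ℤ := fun m => (seq ι hext hinj a K hK m).1
  have hX : ∀ m, Inv ι a m (X m) := fun m => (seq ι hext hinj a K hK m).2
  let f : ∀ m, X m ⟶ X (m + 1) := seqMap ι hext hinj a K hK
  have hf := seqMap_spec ι hext hinj a K hK
  let F : ℕ ⥤ CochainComplex A ℤ := Functor.ofSequence f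
  have hqi : ∀ (k l : ℕ) (hkl : k ≤ l), QuasiIso (F.map (homOfLE hkl)) := fun k l hkl =>
    (HomologicalComplex.mem_quasiIso_iff _).1
      (ofSequence_map_mem f (HomologicalComplex.quasiIso A (ComplexShape.up ℤ)) 0
        (fun k _ => (HomologicalComplex.mem_quasiIso_iff _).2 (hf k).1) k l hkl (Nat.zero_le _))
  have hiso : ∀ (j : ℤ) (m : ℕ), j < a + m → ∀ (l : ℕ) (hml : m ≤ l),
      IsIso ((F.map (homOfLE hml)).f j) := fun j m hj l hml =>
    ofSequence_map_mem f ((MorphismProperty.isomorphisms A).inverseImage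
      (HomologicalComplex.eval A (ComplexShape.up ℤ) j)) m
      (fun k hk => (hf k).2 j (by omega)) m l hml le_rfl
  obtain ⟨L, q, hq0, hqiso⟩ := colimit_props F a hqi hiso
  haveI := hK.1
  refine ⟨L, q 0, hq0, ?_, ?_⟩
  · rw [CochainComplex.isStrictlyGE_iff]
    intro j hj
    haveI := hqiso j 0 (by simpa using hj)
    exact IsZero.of_iso (K.isZero_of_isStrictlyGE a j hj) (asIso ((q 0).f j)).symm
  · intro j
    haveI := hqiso j (j + 1 - a).toNat (by omega)
    obtain ⟨h1, h2⟩ := (hX (j + 1 - a).toNat).2.1 j (by omega)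
    exact ⟨Injective.of_iso (asIso ((q (j + 1 - a).toNat).f j)) h1,
      Functor.essImage.ofIso (asIso ((q (j + 1 - a).toNat).f j)) h2⟩

end Sequence

section Lift

/-- lift a complex with terms in the essential image -/
noncomputable def liftCx (L : CochainComplex A ℤ) (hL : ∀ j, ι.essImage (L.X j)) :
    CochainComplex A' ℤ where
  X j := (hL j).witness
  d i j := ι.preimage ((hL i).getIso.hom ≫ L.d i j ≫ (hL j).getIso.inv)
  shape i j h := by
    apply ι.map_injective
    rw [ι.map_preimage, L.shape i j h, zero_comp, comp_zero, Functor.map_zero]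
  d_comp_d' i j k _ _ := by
    apply ι.map_injective
    rw [Functor.map_comp, ι.map_preimage, ι.map_preimage, Functor.map_zero]
    simp

/-- the lifted complex maps to the original one -/
noncomputable def liftCxIso (L : CochainComplex A ℤ) (hL : ∀ j, ι.essImage (L.X j)) :
    (ι.mapHomologicalComplex (ComplexShape.up ℤ)).obj (liftCx ι L hL) ≅ L :=
  HomologicalComplex.Hom.isoOfComponents (fun j => (hL j).getIso) (fun i j _ => by
    have h : ι.map (ι.preimage ((hL i).getIso.hom ≫ L.d i j ≫ (hL j).getIso.inv)) =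
        (hL i).getIso.hom ≫ L.d i j ≫ (hL j).getIso.inv := ι.map_preimage _
    have h2 : ((hL i).getIso.hom ≫ L.d i j ≫ (hL j).getIso.inv) ≫ (hL j).getIso.hom =
        (hL i).getIso.hom ≫ L.d i j := by
      rw [Category.assoc, Category.assoc, Iso.inv_hom_id, Category.comp_id]
    exact ((congrArg (· ≫ (hL j).getIso.hom) h).trans h2).symm)

end Lift

theorem main [HasDerivedCategory.{w'} A'] [HasDerivedCategory.{w} A]
    (hext : ∀ S : ShortComplex A, S.ShortExact → ι.essImage S.X₁ → ι.essImage S.X₃ →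
      ι.essImage S.X₂)
    (hinj : ∀ X' : A', ∃ (Y' : A') (i : X' ⟶ Y'), Mono i ∧ Injective (ι.obj Y'))
    (Z : DerivedCategory A) (a : ℤ) [Z.IsGE a]
    (hZ : ∀ i : ℤ, ι.essImage ((DerivedCategory.homologyFunctor A i).obj Z)) :
    ∃ (I : CochainComplex A' ℤ), I.IsStrictlyGE a ∧ (∀ n : ℤ, Injective (ι.obj (I.X n))) ∧
      Nonempty (ι.mapDerivedCategory.obj (DerivedCategory.Q.obj I) ≅ Z) := by
  obtain ⟨K, hK, ⟨eZ⟩⟩ := DerivedCategory.exists_iso_Q_obj_of_isGE Z a
  have hK0 : Inv ι a 0 K := by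
    refine ⟨hK, fun j hj => ?_, fun j => ?_⟩
    · have hz := K.isZero_of_isStrictlyGE a j (by simpa using hj)
      exact ⟨hz.injective, essImage_of_isZero ι hz⟩
    · exact Functor.essImage.ofIso ((DerivedCategory.homologyFunctor A j).mapIso eZ ≪≫
        (DerivedCategory.homologyFunctorFactors A j).app K) (hZ j)
  obtain ⟨L, q, hq, hLa, hL⟩ := exists_resolution ι hext hinj a K hK0
  refine ⟨liftCx ι L (fun j => (hL j).2), ?_,
    fun n => Injective.of_iso ((hL n).2.getIso).symm (hL n).1, ⟨?_⟩⟩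
  · rw [CochainComplex.isStrictlyGE_iff]
    intro j hj
    have hz : IsZero (ι.obj ((liftCx ι L (fun j => (hL j).2)).X j)) :=
      IsZero.of_iso (L.isZero_of_isStrictlyGE a j hj) ((hL j).2.getIso)
    rw [IsZero.iff_id_eq_zero]
    apply ι.map_injective
    rw [CategoryTheory.Functor.map_id, Functor.map_zero]
    exact hz.eq_of_src _ _
  · haveI := hq
    exact (ι.mapDerivedCategoryFactors).app _ ≪≫
      DerivedCategory.Q.mapIso (liftCxIso ι L (fun j => (hL j).2)) ≪≫
      (asIso (DerivedCategory.Q.map q)).symm ≪≫ eZ.symm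

end Ess

end Groth.Agent.Lib.EssInj2
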