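import Mathlib
import Groth.Agent.Lib.EssInj2_helper7

/-!
# Replacing a complex by a quasi-isomorphic complex of "dimension zero" objects (helper7)

The "simultaneous elementary replacement": given a cochain complex `K` and monomorphisms
`u n : K.X n ⟶ M n`, we construct a quasi-isomorphism `g : K ⟶ L` where
`L.X n = coker (K.X (n-1) ⟶ M n ⊞ M (n-1))`.  Iterating and passing to the (degreewise eventually
constant) colimit gives the result.
-/

set_option autoImplicit false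
universe v u
open CategoryTheory Limits

namespace Groth.Agent.Lib.DimZero

variable {A : Type u} [Category.{v} A] [Abelian A]

/-! ### colimits of degreewise eventually constant sequences -/

lemma colimit_props' (F : ℕ ⥤ CochainComplex A ℤ) (m₀ : ℤ → ℕ)
    (hqi : ∀ (k l : ℕ) (hkl : k ≤ l), QuasiIso (F.map (homOfLE hkl)))
    (hiso : ∀ (j : ℤ) (m : ℕ), m₀ j ≤ m → ∀ (l : ℕ) (hml : m ≤ l),
      IsIso ((F.map (homOfLE hml)).f j)) :
    ∃ (L : CochainComplex A ℤ) (q : ∀ m, F.obj m ⟶ L), QuasiIso (q 0) ∧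
      ∀ (j : ℤ) (m : ℕ), m₀ j ≤ m → IsIso ((q m).f j) := by
  have hconst : ∀ (j : ℤ) (m : ℕ), m₀ j ≤ m →
      (F ⋙ HomologicalComplex.eval A (ComplexShape.up ℤ) j).IsEventuallyConstantFrom m := by
    intro j m hj l φ
    have : φ = homOfLE (leOfHom φ) := Subsingleton.elim _ _
    rw [this]
    exact hiso j m hj l _
  haveI : ∀ j, HasColimit (F ⋙ HomologicalComplex.eval A (ComplexShape.up ℤ) j) := fun j =>
    (hconst j (m₀ j) le_rfl).hasColimit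
  have hLiso : ∀ (j : ℤ) (m : ℕ), m₀ j ≤ m → IsIso ((colimit.ι F m).f j) := fun j m hj =>
    (hconst j m hj).isIso_ι_of_isColimit
      (isColimitOfPreserves (HomologicalComplex.eval A (ComplexShape.up ℤ) j) (colimit.isColimit F))
  have hLqi : ∀ (j : ℤ) (m : ℕ), m₀ (j - 1) ≤ m → m₀ j ≤ m → m₀ (j + 1) ≤ m →
      QuasiIsoAt (colimit.ι F m) j := by
    intro j m h1 h2 h3
    rw [quasiIsoAt_iff' _ (j - 1) j (j + 1) (by simp) (by simp)]
    let φ := (HomologicalComplex.shortComplexFunctor' A (ComplexShape.up ℤ) (j - 1) j (j + 1)).map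
      (colimit.ι F m)
    haveI : IsIso φ.τ₁ := hLiso (j - 1) m h1
    haveI : IsIso φ.τ₂ := hLiso j m h2
    haveI : IsIso φ.τ₃ := hLiso (j + 1) m h3
    exact ShortComplex.quasiIso_of_epi_of_isIso_of_mono φ
  refine ⟨colimit F, fun m => colimit.ι F m, ?_, hLiso⟩
  show QuasiIso (colimit.ι F 0)
  rw [quasiIso_iff]
  intro j
  obtain ⟨m, h1, h2, h3⟩ : ∃ m : ℕ, m₀ (j - 1) ≤ m ∧ m₀ j ≤ m ∧ m₀ (j + 1) ≤ m :=
    ⟨max (m₀ (j - 1)) (max (m₀ j) (m₀ (j + 1))), le_max_left _ _,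
      le_trans (le_max_left _ _) (le_max_right _ _),
      le_trans (le_max_right _ _) (le_max_right _ _)⟩
  have hw : colimit.ι F 0 = F.map (homOfLE (Nat.zero_le m)) ≫ colimit.ι F m :=
    (colimit.w F _).symm
  haveI : QuasiIsoAt (F.map (homOfLE (Nat.zero_le m))) j :=
    (hqi 0 m (Nat.zero_le _)).quasiIsoAt j
  haveI := hLqi j m h1 h2 h3
  rw [hw]
  exact quasiIsoAt_comp _ _ _

/-! ### the contractible complex attached to a graded object -/

section Con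

variable (Z : ℤ → A)

/-- the contractible complex with terms `Z (n + 1) ⊞ Z n` -/
noncomputable def Con : CochainComplex A ℤ :=
  CochainComplex.of (fun n => Z (n + 1) ⊞ Z n) (fun n => biprod.fst ≫ biprod.inr)
    (fun n => by simp)

lemma Con_d (n : ℤ) : (Con Z).d n (n + 1) =
    (biprod.fst : Z (n + 1) ⊞ Z n ⟶ Z (n + 1)) ≫
      (biprod.inr : Z (n + 1) ⟶ Z (n + 1 + 1) ⊞ Z (n + 1)) :=
  CochainComplex.of_d (fun n => Z (n + 1) ⊞ Z n) (fun n => biprod.fst ≫ biprod.inr) n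

lemma con_exact_aux {Z₀ Z₁ Z₂ Z₃ T : A} (x : T ⟶ Z₂ ⊞ Z₁)
    (hx : x ≫ ((biprod.fst : Z₂ ⊞ Z₁ ⟶ Z₂) ≫ (biprod.inr : Z₂ ⟶ Z₃ ⊞ Z₂)) = 0) :
    x = (x ≫ (biprod.snd : Z₂ ⊞ Z₁ ⟶ Z₁) ≫ (biprod.inl : Z₁ ⟶ Z₁ ⊞ Z₀)) ≫
      ((biprod.fst : Z₁ ⊞ Z₀ ⟶ Z₁) ≫ (biprod.inr : Z₁ ⟶ Z₂ ⊞ Z₁)) := by
  have h0 : x ≫ (biprod.fst : Z₂ ⊞ Z₁ ⟶ Z₂) = 0 := by
    rw [← cancel_mono (biprod.inr : Z₂ ⟶ Z₃ ⊞ Z₂), Category.assoc, hx, zero_comp]
  apply biprod.hom_ext <;> simp [h0]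

lemma Con_acyclic : (Con Z).Acyclic := by
  intro j
  obtain ⟨i, rfl⟩ : ∃ i, j = i + 1 := ⟨j - 1, by omega⟩
  rw [HomologicalComplex.exactAt_iff' _ i (i + 1) (i + 1 + 1) (by simp) (by simp),
    ShortComplex.exact_iff_exact_up_to_refinements]
  intro T x hx
  have hd1 : ((Con Z).sc' i (i + 1) (i + 1 + 1)).g =
      (biprod.fst : Z (i + 1 + 1) ⊞ Z (i + 1) ⟶ Z (i + 1 + 1)) ≫
        (biprod.inr : Z (i + 1 + 1) ⟶ Z (i + 1 + 1 + 1) ⊞ Z (i + 1 + 1)) := Con_d Z (i + 1)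
  have hd0 : ((Con Z).sc' i (i + 1) (i + 1 + 1)).f =
      (biprod.fst : Z (i + 1) ⊞ Z i ⟶ Z (i + 1)) ≫
        (biprod.inr : Z (i + 1) ⟶ Z (i + 1 + 1) ⊞ Z (i + 1)) := Con_d Z i
  rw [hd1] at hx
  refine ⟨T, 𝟙 T, inferInstance,
    (x : T ⟶ Z (i + 1 + 1) ⊞ Z (i + 1)) ≫ (biprod.snd : Z (i + 1 + 1) ⊞ Z (i + 1) ⟶ Z (i + 1)) ≫
      (biprod.inl : Z (i + 1) ⟶ Z (i + 1) ⊞ Z i), ?_⟩
  rw [hd0, Category.id_comp]
  exact con_exact_aux x hx

end Con

/-! ### the simultaneous elementary replacement -/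

section Step

variable (K : CochainComplex A ℤ) (M : ℤ → A) (u : ∀ n, K.X n ⟶ M n)

/-- the map whose cokernel is the new term -/
noncomputable def φ (n : ℤ) : K.X n ⟶ M (n + 1) ⊞ M n :=
  biprod.lift (K.d n (n + 1) ≫ u (n + 1)) (u n)

lemma φ_eq (n : ℤ) :
    φ K M u n = (K.d n (n + 1) ≫ u (n + 1)) ≫ biprod.inl + u n ≫ biprod.inr :=
  biprod.lift_eq

@[reassoc (attr := simp)]
lemma φ_fst (n : ℤ) : φ K M u n ≫ biprod.fst = K.d n (n + 1) ≫ u (n + 1) :=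
  biprod.lift_fst _ _

@[reassoc (attr := simp)]
lemma φ_snd (n : ℤ) : φ K M u n ≫ biprod.snd = u n :=
  biprod.lift_snd _ _

instance mono_φ [∀ n, Mono (u n)] (n : ℤ) : Mono (φ K M u n) :=
  mono_of_mono_fac (φ_snd K M u n)

lemma d_φ (n : ℤ) : K.d n (n + 1) ≫ φ K M u (n + 1) =
    (K.d n (n + 1) ≫ u (n + 1)) ≫ biprod.inr := by
  apply biprod.hom_ext <;> simp

/-- the new terms (shifted by one) -/
noncomputable def Q (n : ℤ) : A := cokernel (φ K M u n)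

/-- the projection to the new term -/
noncomputable def πQ (n : ℤ) : M (n + 1) ⊞ M n ⟶ Q K M u n := cokernel.π (φ K M u n)

instance epi_πQ (n : ℤ) : Epi (πQ K M u n) :=
  inferInstanceAs (Epi (cokernel.π (φ K M u n)))

@[reassoc (attr := simp)]
lemma φ_πQ (n : ℤ) : φ K M u n ≫ πQ K M u n = 0 := cokernel.condition _

/-- the differential of the new complex -/
noncomputable def δ (n : ℤ) : Q K M u n ⟶ Q K M u (n + 1) :=
  cokernel.desc (φ K M u n) ((biprod.fst ≫ biprod.inr) ≫ πQ K M u (n + 1)) (by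
    have h := d_φ K M u n
    calc φ K M u n ≫ (biprod.fst ≫ biprod.inr) ≫ πQ K M u (n + 1)
        = ((K.d n (n + 1) ≫ u (n + 1)) ≫ biprod.inr) ≫ πQ K M u (n + 1) := by simp
      _ = 0 := by rw [← h, Category.assoc, φ_πQ, comp_zero])

@[reassoc (attr := simp)]
lemma πQ_δ (n : ℤ) : πQ K M u n ≫ δ K M u n = (biprod.fst ≫ biprod.inr) ≫ πQ K M u (n + 1) :=
  cokernel.π_desc _ _ _

lemma δ_δ (n : ℤ) : δ K M u n ≫ δ K M u (n + 1) = 0 := by
  rw [← cancel_epi (πQ K M u n)]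
  simp

/-- the new complex, shifted by one -/
noncomputable def Y : CochainComplex A ℤ := CochainComplex.of (Q K M u) (δ K M u) (δ_δ K M u)

lemma Y_d (n : ℤ) : (Y K M u).d n (n + 1) = δ K M u n :=
  CochainComplex.of_d (Q K M u) (δ K M u) n

/-- the components of the map to the new complex -/
noncomputable def gf (n : ℤ) : K.X (n + 1) ⟶ Q K M u n := u (n + 1) ≫ biprod.inl ≫ πQ K M u n

lemma gf_δ (n : ℤ) :
    gf K M u n ≫ δ K M u n = -(K.d (n + 1) (n + 1 + 1) ≫ gf K M u (n + 1)) := by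
  have h := φ_πQ K M u (n + 1)
  rw [φ_eq, Preadditive.add_comp] at h
  have h' : gf K M u n ≫ δ K M u n = (u (n + 1) ≫ biprod.inr) ≫ πQ K M u (n + 1) := by
    simp [gf]
  rw [h', eq_neg_iff_add_eq_zero]
  exact (add_comm _ _).trans (by simpa [gf] using h)

/-- the map from the shifted complex -/
noncomputable def gShift : (K⟦(1 : ℤ)⟧) ⟶ Y K M u :=
  CochainComplex.ofHom (fun n => gf K M u n) (fun n => by
    rw [Y_d, CochainComplex.shiftFunctor_obj_d']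
    refine (gf_δ K M u n).trans ?_
    simp
    rfl)

/-- the components of the projection to the contractible quotient -/
noncomputable def pf (n : ℤ) : Q K M u n ⟶ cokernel (u (n + 1)) ⊞ cokernel (u n) :=
  cokernel.desc (φ K M u n) (biprod.map (cokernel.π (u (n + 1))) (cokernel.π (u n))) (by
    apply biprod.hom_ext <;> simp)

@[reassoc (attr := simp)]
lemma πQ_pf (n : ℤ) : πQ K M u n ≫ pf K M u n =
    biprod.map (cokernel.π (u (n + 1))) (cokernel.π (u n)) :=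
  cokernel.π_desc _ _ _

lemma pf_comm (n : ℤ) :
    pf K M u n ≫ ((biprod.fst : cokernel (u (n + 1)) ⊞ cokernel (u n) ⟶ cokernel (u (n + 1))) ≫
      (biprod.inr : cokernel (u (n + 1)) ⟶ cokernel (u (n + 1 + 1)) ⊞ cokernel (u (n + 1)))) =
      δ K M u n ≫ pf K M u (n + 1) := by
  rw [← cancel_epi (πQ K M u n)]
  simp

/-- the projection to the contractible quotient -/
noncomputable def pmap : Y K M u ⟶ Con (fun n => cokernel (u n)) :=
  CochainComplex.ofHom (fun n => pf K M u n) (fun n => by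
    rw [Y_d, Con_d]
    exact pf_comm K M u n)

lemma gf_pf (n : ℤ) : gf K M u n ≫ pf K M u n = 0 := by
  simp [gf]

lemma shortExact_φ [∀ n, Mono (u n)] (n : ℤ) :
    (ShortComplex.mk (φ K M u n) (πQ K M u n) (φ_πQ K M u n)).ShortExact :=
  FilKInj1.shortExact_cokernel (φ K M u n)

lemma mono_gf [∀ n, Mono (u n)] (n : ℤ) : Mono (gf K M u n) := by
  apply Preadditive.mono_of_cancel_zero
  intro T t ht
  have hS := shortExact_φ K M u n
  haveI := hS.mono_f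
  have hk : (t ≫ u (n + 1) ≫ biprod.inl) ≫ πQ K M u n = 0 := by
    simpa [gf] using ht
  obtain ⟨y, hy⟩ : ∃ y : T ⟶ K.X n, y ≫ φ K M u n = t ≫ u (n + 1) ≫ biprod.inl :=
    ⟨hS.exact.lift _ hk, hS.exact.lift_f _ hk⟩
  have hy0 : y = 0 := by
    have h1 : y ≫ u n = 0 := by
      have := congrArg (fun f => f ≫ (biprod.snd : M (n + 1) ⊞ M n ⟶ M n)) hy
      simpa using this
    exact (cancel_mono (u n)).1 (h1.trans zero_comp.symm)
  have h2 : t ≫ u (n + 1) = 0 := by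
    have := congrArg (fun f => f ≫ (biprod.fst : M (n + 1) ⊞ M n ⟶ M (n + 1))) hy
    simpa [hy0] using this.symm
  exact (cancel_mono (u (n + 1))).1 (h2.trans zero_comp.symm)

lemma exact_gf_pf [∀ n, Mono (u n)] (n : ℤ) :
    (ShortComplex.mk (gf K M u n) (pf K M u n) (gf_pf K M u n)).Exact := by
  rw [ShortComplex.exact_iff_exact_up_to_refinements]
  intro T y hy
  have hy' : y ≫ pf K M u n = 0 := hy
  obtain ⟨T₁, π₁, hπ₁, z, hz⟩ := surjective_up_to_refinements_of_epi (πQ K M u n) y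
  have hz0 : z ≫ biprod.map (cokernel.π (u (n + 1))) (cokernel.π (u n)) = 0 := by
    rw [← πQ_pf, ← Category.assoc, ← hz, Category.assoc, hy', comp_zero]
  have hS1 := FilKInj1.shortExact_cokernel (u (n + 1))
  have hS0 := FilKInj1.shortExact_cokernel (u n)
  haveI := hS1.mono_f
  haveI := hS0.mono_f
  have hk1 : (z ≫ biprod.fst) ≫ cokernel.π (u (n + 1)) = 0 := by
    have := congrArg
      (fun f => f ≫ (biprod.fst : cokernel (u (n + 1)) ⊞ cokernel (u n) ⟶ _)) hz0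
    simpa using this
  have hk0 : (z ≫ biprod.snd) ≫ cokernel.π (u n) = 0 := by
    have := congrArg
      (fun f => f ≫ (biprod.snd : cokernel (u (n + 1)) ⊞ cokernel (u n) ⟶ _)) hz0
    simpa using this
  obtain ⟨a, ha⟩ : ∃ a : T₁ ⟶ K.X (n + 1), a ≫ u (n + 1) = z ≫ biprod.fst :=
    ⟨hS1.exact.lift _ hk1, hS1.exact.lift_f _ hk1⟩
  obtain ⟨b, hb⟩ : ∃ b : T₁ ⟶ K.X n, b ≫ u n = z ≫ biprod.snd :=
    ⟨hS0.exact.lift _ hk0, hS0.exact.lift_f _ hk0⟩
  refine ⟨T₁, π₁, hπ₁, a - b ≫ K.d n (n + 1), ?_⟩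
  show π₁ ≫ y = (a - b ≫ K.d n (n + 1)) ≫ gf K M u n
  have hzt : z = (z ≫ biprod.fst) ≫ biprod.inl + (z ≫ biprod.snd) ≫ biprod.inr := by
    apply biprod.hom_ext <;> simp
  have hφ : b ≫ φ K M u n ≫ πQ K M u n = 0 := by rw [φ_πQ, comp_zero]
  rw [φ_eq, Preadditive.add_comp, Preadditive.comp_add] at hφ
  rw [hz, hzt, ← ha, ← hb, Preadditive.add_comp, Preadditive.sub_comp]
  simp only [gf, Category.assoc] at hφ ⊢
  rw [sub_eq_add_neg, add_right_inj, eq_neg_iff_add_eq_zero, add_comm]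
  exact hφ

lemma shortExact_gf_pf [∀ n, Mono (u n)] (n : ℤ) :
    (ShortComplex.mk (gf K M u n) (pf K M u n) (gf_pf K M u n)).ShortExact := by
  haveI := mono_gf K M u n
  haveI : Epi (pf K M u n) := epi_of_epi_fac (πQ_pf K M u n)
  exact ShortComplex.ShortExact.mk' (exact_gf_pf K M u n) ‹_› ‹_›

lemma gShift_pmap : gShift K M u ≫ pmap K M u = 0 := by
  ext n
  rw [HomologicalComplex.comp_f, HomologicalComplex.zero_f]
  exact gf_pf K M u n

lemma quasiIso_gShift [∀ n, Mono (u n)] : QuasiIso (gShift K M u) := by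
  have hS : (ShortComplex.mk (gShift K M u) (pmap K M u) (gShift_pmap K M u)).ShortExact :=
    HomologicalComplex.shortExact_of_degreewise_shortExact _
      (fun n => shortExact_gf_pf K M u n)
  exact EssInj1.quasiIso_f_of_acyclic _ hS (Con_acyclic (fun n => cokernel (u n)))

lemma isIso_gf [∀ n, Mono (u n)] (n : ℤ) [Epi (u n)] [Epi (u (n + 1))] :
    IsIso (gf K M u n) := by
  haveI := mono_gf K M u n
  haveI : Epi (gf K M u n) := by
    apply Preadditive.epi_of_cancel_zero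
    intro T h hh
    have h1 : biprod.inl ≫ πQ K M u n ≫ h = 0 := by
      have : u (n + 1) ≫ biprod.inl ≫ πQ K M u n ≫ h = 0 := by simpa [gf] using hh
      exact (cancel_epi (u (n + 1))).1 (this.trans comp_zero.symm)
    have h2 : biprod.inr ≫ πQ K M u n ≫ h = 0 := by
      have e : φ K M u n ≫ πQ K M u n ≫ h = 0 := by rw [φ_πQ_assoc, zero_comp]
      rw [φ_eq, Preadditive.add_comp] at e
      simp only [Category.assoc, h1, comp_zero, zero_add] at e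
      exact (cancel_epi (u n)).1 (e.trans comp_zero.symm)
    have h3 : πQ K M u n ≫ h = 0 := by
      apply biprod.hom_ext' <;> simp [h1, h2]
    exact (cancel_epi (πQ K M u n)).1 (h3.trans comp_zero.symm)
  exact isIso_of_mono_of_epi _

/-- the new complex -/
noncomputable def L : CochainComplex A ℤ := (Y K M u)⟦(-1 : ℤ)⟧

/-- the quasi-isomorphism to the new complex -/
noncomputable def g : K ⟶ L K M u :=
  (shiftShiftNeg K (1 : ℤ)).inv ≫ (gShift K M u)⟦(-1 : ℤ)⟧'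

lemma quasiIso_g [∀ n, Mono (u n)] : QuasiIso (g K M u) := by
  haveI := quasiIso_gShift K M u
  haveI : QuasiIso ((gShift K M u)⟦(-1 : ℤ)⟧') :=
    (CochainComplex.quasiIso_shift_iff _ _).2 inferInstance
  show QuasiIso ((shiftShiftNeg K (1 : ℤ)).inv ≫ (gShift K M u)⟦(-1 : ℤ)⟧')
  infer_instance

lemma L_X (n : ℤ) : (L K M u).X n = Q K M u (n + -1) := rfl

lemma isIso_g_f [∀ n, Mono (u n)] (n : ℤ) [Epi (u (n + -1))] [Epi (u (n + -1 + 1))] :
    IsIso ((g K M u).f n) := by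
  haveI := isIso_gf K M u (n + -1)
  haveI h1 : IsIso (((shiftShiftNeg K (1 : ℤ)).inv).f n) :=
    inferInstanceAs (IsIso ((HomologicalComplex.eval A (ComplexShape.up ℤ) n).map
      (shiftShiftNeg K (1 : ℤ)).inv))
  haveI h2 : IsIso (((gShift K M u)⟦(-1 : ℤ)⟧').f n) := ‹IsIso (gf K M u (n + -1))›
  show IsIso (((shiftShiftNeg K (1 : ℤ)).inv).f n ≫ ((gShift K M u)⟦(-1 : ℤ)⟧').f n)
  infer_instance

end Step

/-! ### iteration -/

section Iterate

lemma exists_emb (d : A → ℕ∞) (h1 : ∀ X : A, ∃ (Y : A) (ι : X ⟶ Y), Mono ι ∧ d Y = 0) (X : A) :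
    ∃ (Y : A) (ι : X ⟶ Y), Mono ι ∧ d Y = 0 ∧ (d X = 0 → IsIso ι) := by
  by_cases h : d X = 0
  · exact ⟨X, 𝟙 X, inferInstance, h, fun _ => inferInstance⟩
  · obtain ⟨Y, ι, hι, hY⟩ := h1 X
    exact ⟨Y, ι, hι, hY, fun h' => absurd h' h⟩

/-- the chosen dimension zero objects -/
noncomputable def Mobj (d : A → ℕ∞) (h1 : ∀ X : A, ∃ (Y : A) (ι : X ⟶ Y), Mono ι ∧ d Y = 0)
    (K : CochainComplex A ℤ) (n : ℤ) : A :=
  (exists_emb d h1 (K.X n)).choose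

/-- the chosen embeddings -/
noncomputable def umap (d : A → ℕ∞) (h1 : ∀ X : A, ∃ (Y : A) (ι : X ⟶ Y), Mono ι ∧ d Y = 0)
    (K : CochainComplex A ℤ) (n : ℤ) : K.X n ⟶ Mobj d h1 K n :=
  (exists_emb d h1 (K.X n)).choose_spec.choose

lemma umap_spec (d : A → ℕ∞) (h1 : ∀ X : A, ∃ (Y : A) (ι : X ⟶ Y), Mono ι ∧ d Y = 0)
    (K : CochainComplex A ℤ) (n : ℤ) :
    Mono (umap d h1 K n) ∧ d (Mobj d h1 K n) = 0 ∧ (d (K.X n) = 0 → IsIso (umap d h1 K n)) :=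
  (exists_emb d h1 (K.X n)).choose_spec.choose_spec

instance mono_umap (d : A → ℕ∞) (h1 : ∀ X : A, ∃ (Y : A) (ι : X ⟶ Y), Mono ι ∧ d Y = 0)
    (K : CochainComplex A ℤ) (n : ℤ) : Mono (umap d h1 K n) :=
  (umap_spec d h1 K n).1

/-- one step of the construction -/
noncomputable def next (d : A → ℕ∞) (h1 : ∀ X : A, ∃ (Y : A) (ι : X ⟶ Y), Mono ι ∧ d Y = 0)
    (K : CochainComplex A ℤ) : CochainComplex A ℤ :=
  L K (Mobj d h1 K) (umap d h1 K)

/-- the map of one step of the construction -/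
noncomputable def nextMap (d : A → ℕ∞)
    (h1 : ∀ X : A, ∃ (Y : A) (ι : X ⟶ Y), Mono ι ∧ d Y = 0)
    (K : CochainComplex A ℤ) : K ⟶ next d h1 K :=
  g K (Mobj d h1 K) (umap d h1 K)

lemma quasiIso_nextMap (d : A → ℕ∞)
    (h1 : ∀ X : A, ∃ (Y : A) (ι : X ⟶ Y), Mono ι ∧ d Y = 0)
    (K : CochainComplex A ℤ) : QuasiIso (nextMap d h1 K) :=
  quasiIso_g K (Mobj d h1 K) (umap d h1 K)

lemma d_next (d : A → ℕ∞) (h1 : ∀ X : A, ∃ (Y : A) (ι : X ⟶ Y), Mono ι ∧ d Y = 0)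
    (h2 : ∀ X Y : A, d (X ⊞ Y) ≤ max (d X) (d Y))
    (h3 : ∀ S : ShortComplex A, S.ShortExact → d S.X₃ ≤ max (d S.X₁ - 1) (d S.X₂))
    (K : CochainComplex A ℤ) (m n : ℤ) (hmn : m + 1 = n) :
    d ((next d h1 K).X n) ≤ d (K.X m) - 1 := by
  obtain rfl : m = n + -1 := by omega
  have hS := shortExact_φ K (Mobj d h1 K) (umap d h1 K) (n + -1)
  have h : d ((next d h1 K).X n) ≤ max (d (K.X (n + -1)) - 1)
      (d (Mobj d h1 K (n + -1 + 1) ⊞ Mobj d h1 K (n + -1))) := h3 _ hS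
  have hM : d (Mobj d h1 K (n + -1 + 1) ⊞ Mobj d h1 K (n + -1)) ≤ 0 := by
    refine (h2 _ _).trans ?_
    rw [(umap_spec d h1 K _).2.1, (umap_spec d h1 K _).2.1, max_self]
  exact h.trans (max_le le_rfl (hM.trans zero_le))

lemma isIso_nextMap (d : A → ℕ∞) (h1 : ∀ X : A, ∃ (Y : A) (ι : X ⟶ Y), Mono ι ∧ d Y = 0)
    (K : CochainComplex A ℤ) (m n : ℤ) (hmn : m + 1 = n) (hm : d (K.X m) = 0)
    (hn : d (K.X n) = 0) : IsIso ((nextMap d h1 K).f n) := by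
  obtain rfl : m = n + -1 := by omega
  have e : n + -1 + 1 = n := by omega
  haveI : Epi (umap d h1 K (n + -1)) := by
    haveI := (umap_spec d h1 K (n + -1)).2.2 hm
    infer_instance
  haveI : Epi (umap d h1 K (n + -1 + 1)) := by
    haveI := (umap_spec d h1 K (n + -1 + 1)).2.2 (by rw [e]; exact hn)
    infer_instance
  exact isIso_g_f K _ _ n

/-- the sequence of complexes -/
noncomputable def seq (d : A → ℕ∞) (h1 : ∀ X : A, ∃ (Y : A) (ι : X ⟶ Y), Mono ι ∧ d Y = 0)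
    (K : CochainComplex A ℤ) (k : ℕ) : CochainComplex A ℤ :=
  Nat.rec K (fun _ X => next d h1 X) k

/-- the transition maps -/
noncomputable def seqMap (d : A → ℕ∞)
    (h1 : ∀ X : A, ∃ (Y : A) (ι : X ⟶ Y), Mono ι ∧ d Y = 0)
    (K : CochainComplex A ℤ) (k : ℕ) : seq d h1 K k ⟶ seq d h1 K (k + 1) :=
  nextMap d h1 (seq d h1 K k)

lemma d_seq (d : A → ℕ∞) (h1 : ∀ X : A, ∃ (Y : A) (ι : X ⟶ Y), Mono ι ∧ d Y = 0)
    (h2 : ∀ X Y : A, d (X ⊞ Y) ≤ max (d X) (d Y))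
    (h3 : ∀ S : ShortComplex A, S.ShortExact → d S.X₃ ≤ max (d S.X₁ - 1) (d S.X₂))
    (K : CochainComplex A ℤ) (k : ℕ) :
    ∀ n : ℤ, d ((seq d h1 K k).X n) ≤ d (K.X (n - k)) - k := by
  induction k with
  | zero =>
    intro n
    have e : n - ((0 : ℕ) : ℤ) = n := by simp
    rw [e]
    simp [seq]
  | succ k ih =>
    intro n
    have h : d ((seq d h1 K (k + 1)).X n) ≤ d ((seq d h1 K k).X (n - 1)) - 1 :=
      d_next d h1 h2 h3 (seq d h1 K k) (n - 1) n (by omega)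
    have h' := ih (n - 1)
    have e : n - 1 - (k : ℤ) = n - ((k + 1 : ℕ) : ℤ) := by push_cast; ring
    rw [e] at h'
    calc d ((seq d h1 K (k + 1)).X n) ≤ d ((seq d h1 K k).X (n - 1)) - 1 := h
      _ ≤ (d (K.X (n - ((k + 1 : ℕ) : ℤ))) - k) - 1 := tsub_le_tsub_right h' 1
      _ = d (K.X (n - ((k + 1 : ℕ) : ℤ))) - ((k + 1 : ℕ) : ℕ∞) := by
        rw [tsub_tsub]
        push_cast
        rfl

lemma d_seq_eq_zero (d : A → ℕ∞) (h1 : ∀ X : A, ∃ (Y : A) (ι : X ⟶ Y), Mono ι ∧ d Y = 0)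
    (h2 : ∀ X Y : A, d (X ⊞ Y) ≤ max (d X) (d Y))
    (h3 : ∀ S : ShortComplex A, S.ShortExact → d S.X₃ ≤ max (d S.X₁ - 1) (d S.X₂))
    (K : CochainComplex A ℤ)
    (hK : ∀ m : ℤ, ∃ N : ℤ, ∀ n : ℤ, n ≤ N → ∃ k : ℕ, d (K.X n) = k ∧ n + k ≤ m) :
    ∃ m₀ : ℤ → ℕ, ∀ (n : ℤ) (k : ℕ), m₀ n ≤ k → d ((seq d h1 K k).X n) = 0 := by
  choose N hN using hK
  refine ⟨fun n => (n - N n).toNat, fun n k hk => ?_⟩
  have hk' : n - (k : ℤ) ≤ N n := by
    have : (n - N n).toNat ≤ k := hk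
    omega
  obtain ⟨k', hk'', hle⟩ := hN n (n - k) hk'
  have h := d_seq d h1 h2 h3 K k n
  rw [hk''] at h
  have h0 : (k' : ℕ∞) - (k : ℕ∞) = 0 := by
    rw [tsub_eq_zero_iff_le]
    exact_mod_cast (by omega : k' ≤ k)
  rw [h0] at h
  exact le_antisymm h zero_le

theorem main (d : A → ℕ∞) (hiso : ∀ ⦃X Y : A⦄, Nonempty (X ≅ Y) → d X = d Y)
    (h1 : ∀ X : A, ∃ (Y : A) (ι : X ⟶ Y), Mono ι ∧ d Y = 0)
    (h2 : ∀ X Y : A, d (X ⊞ Y) ≤ max (d X) (d Y))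
    (h3 : ∀ S : ShortComplex A, S.ShortExact → d S.X₃ ≤ max (d S.X₁ - 1) (d S.X₂))
    (K : CochainComplex A ℤ)
    (hK : ∀ m : ℤ, ∃ N : ℤ, ∀ n : ℤ, n ≤ N → ∃ k : ℕ, d (K.X n) = k ∧ n + k ≤ m) :
    ∃ (L : CochainComplex A ℤ) (f : K ⟶ L), QuasiIso f ∧ ∀ n, d (L.X n) = 0 := by
  obtain ⟨m₁, hm₁⟩ := d_seq_eq_zero d h1 h2 h3 K hK
  let X : ℕ → CochainComplex A ℤ := seq d h1 K
  let f : ∀ m, X m ⟶ X (m + 1) := seqMap d h1 K
  let F : ℕ ⥤ CochainComplex A ℤ := Functor.ofSequence f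
  let m₀ : ℤ → ℕ := fun n => max (m₁ n) (m₁ (n - 1))
  have hfq : ∀ k, QuasiIso (f k) := fun k => quasiIso_nextMap d h1 (X k)
  have hfiso : ∀ (n : ℤ) (k : ℕ), m₀ n ≤ k → IsIso ((f k).f n) := fun n k hk =>
    isIso_nextMap d h1 (X k) (n - 1) n (by omega)
      (hm₁ (n - 1) k (le_trans (le_max_right _ _) hk))
      (hm₁ n k (le_trans (le_max_left _ _) hk))
  have hqi : ∀ (k l : ℕ) (hkl : k ≤ l), QuasiIso (F.map (homOfLE hkl)) := fun k l hkl =>
    (HomologicalComplex.mem_quasiIso_iff _).1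
      (EssInj2.ofSequence_map_mem f (HomologicalComplex.quasiIso A (ComplexShape.up ℤ)) 0
        (fun k _ => (HomologicalComplex.mem_quasiIso_iff _).2 (hfq k)) k l hkl (Nat.zero_le _))
  have hiso' : ∀ (j : ℤ) (m : ℕ), m₀ j ≤ m → ∀ (l : ℕ) (hml : m ≤ l),
      IsIso ((F.map (homOfLE hml)).f j) := fun j m hj l hml =>
    EssInj2.ofSequence_map_mem f ((MorphismProperty.isomorphisms A).inverseImage
      (HomologicalComplex.eval A (ComplexShape.up ℤ) j)) m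
      (fun k hk => hfiso j k (le_trans hj hk)) m l hml le_rfl
  obtain ⟨L, q, hq0, hqiso⟩ := colimit_props' F m₀ hqi hiso'
  refine ⟨L, q 0, hq0, fun n => ?_⟩
  haveI := hqiso n (m₀ n) le_rfl
  rw [← hiso ⟨asIso ((q (m₀ n)).f n)⟩]
  exact hm₁ n (m₀ n) (le_max_left _ _)

end Iterate

end Groth.Agent.Lib.DimZero
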