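import Mathlib
import Groth.Prelude
import Groth.Agent.Lib.BMod7_helper6
import Groth.Agent.Lib.QCohFT_helper9
import Groth.Agent.Lib.QCohCrit2_helper9
import Groth.Agent.Lib.SerreCrit1_helper9

/-!
# `F` is of finite type iff `f_* F` is of finite type over `f_* O_X` (`f` affine, `F` quasi-coherent)

Uses helper6's toolkit for modules over a sheaf of rings `R'` on a scheme with a structure map
`α : O ⟶ R'` (`BModH6`): `epi_of_span`, `exists_generatingSections_resU`, `finite_free_eval`,
`isQuasicoherent_rho_free`, and helper9's `finite_of_isFiniteType`, `isFiniteType_of_sections_cover`.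
-/

set_option autoImplicit false
set_option linter.all false
set_option maxHeartbeats 1600000
set_option backward.isDefEq.respectTransparency false
set_option backward.isDefEq.respectTransparency.types false
set_option backward.defeqAttrib.useBackward true

universe u

open CategoryTheory CategoryTheory.Limits AlgebraicGeometry Opposite TopologicalSpace
open Groth.Agent.Lib.BModH6

namespace Groth.Agent.Lib.DirImgFTL

variable {X S : Scheme.{u}} (f : X ⟶ S) [IsAffineHom f]

/-- the direct-image algebra as a sheaf of rings -/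
noncomputable abbrev Rp : Sheaf (Opens.grothendieckTopology S) RingCat.{u} :=
  AMod.ringSheaf (RelSpec.QCAlg.directImage f)

/-- its structure map -/
noncomputable abbrev al : S.ringCatSheaf ⟶ Rp f := AMod.strHom (RelSpec.QCAlg.directImage f)

theorem hα : ((rho (al f)).obj (SheafOfModules.unit (Rp f))).IsQuasicoherent := by
  haveI : (SheafOfModules.unit X.ringCatSheaf : X.Modules).IsQuasicoherent :=
    SerreCrit.isQuasicoherent_OO
  exact QCohCrit.isQuasicoherent_pushforward f (SheafOfModules.unit X.ringCatSheaf)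

theorem qc_rho (F : X.Modules) [F.IsQuasicoherent] :
    ((rho (al f)).obj ((AMod.dirImg f).obj F)).IsQuasicoherent :=
  QCohCrit.isQuasicoherent_pushforward f F

theorem isFiniteType_dirImg (F : X.Modules) [F.IsQuasicoherent]
    [SheafOfModules.IsFiniteType (R := X.ringCatSheaf) F] :
    SheafOfModules.IsFiniteType (R := Rp f) ((AMod.dirImg f).obj F) := by
  let M : SheafOfModules.{u} (Rp f) := (AMod.dirImg f).obj F
  haveI : ((rho (al f)).obj M).IsQuasicoherent := qc_rho f F
  have key : ∀ V : S.affineOpens, ∃ σ : (M.over V.1).GeneratingSections, σ.IsFiniteType := by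
    intro V
    haveI : IsAffine (V.1 : Scheme.{u}) := V.2
    have hV' : IsAffineOpen (V.1.ι ''ᵁ ⊤) := by rw [Scheme.Opens.ι_image_top]; exact V.2
    have hfin : Module.Finite Γ(X, f ⁻¹ᵁ (V.1.ι ''ᵁ ⊤)) Γ(F, f ⁻¹ᵁ (V.1.ι ''ᵁ ⊤)) :=
      QCohFT.finite_of_isFiniteType F (hV'.preimage f)
    haveI hfin' : Module.Finite ((V.1.sheafRestrict.obj (Rp f)).obj.obj (op ⊤))
        ((resU V.1 M).val.obj (op ⊤)) := hfin
    obtain ⟨n, k, hk⟩ := Module.Finite.exists_fin
      (R := (V.1.sheafRestrict.obj (Rp f)).obj.obj (op ⊤)) (M := (resU V.1 M).val.obj (op ⊤))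
    have hk' : Submodule.span ((V.1.sheafRestrict.obj (Rp f)).obj.obj (op ⊤))
        (Set.range (fun j : ULift.{u} (Fin n) => k j.down)) = ⊤ := by
      rw [← hk]
      congr 1
      ext x
      constructor
      · rintro ⟨j, rfl⟩; exact ⟨j.down, rfl⟩
      · rintro ⟨j, rfl⟩; exact ⟨⟨j⟩, rfl⟩
    haveI := isQuasicoherent_rho_resU (al f) V.1 M
    let τ : (resU V.1 M).GeneratingSections :=
      { I := ULift.{u} (Fin n)
        s := fun j => gsec (alphaU (al f) V.1) (resU V.1 M) (k j.down)
        epi := epi_of_span (alphaU (al f) V.1) (resU V.1 M)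
          (fun j : ULift.{u} (Fin n) => k j.down) hk' }
    haveI : τ.IsFiniteType := ⟨inferInstanceAs (Finite (ULift.{u} (Fin n)))⟩
    let e' := V.1.sheafOfModulesEquivOver (Rp f)
    let τ₂ := τ.map e'.inverse (V.1.sheafOfModulesEquivOverInverseUnit (Rp f)).symm
    haveI : τ₂.IsFiniteType := ⟨inferInstanceAs (Finite (ULift.{u} (Fin n)))⟩
    exact ⟨τ₂.ofEpi (e'.unitIso.app (M.over V.1)).inv, inferInstance⟩
  choose σ hσ using key
  have hcov : (Opens.grothendieckTopology S).CoversTop (fun V : S.affineOpens => (V.1 : S.Opens)) := by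
    rw [Opens.coversTop_iff]
    exact iSup_affineOpens_eq_top S
  let σd : SheafOfModules.LocalGeneratorsData.{u} (R := Rp f) M :=
    { I := S.affineOpens, X := fun V => V.1, coversTop := hcov, generators := σ }
  have hσd : σd.IsFiniteType := by
    constructor
    intro V
    exact hσ V
  constructor
  exact ⟨σd, hσd⟩

theorem isFiniteType_of_dirImg (F : X.Modules) [F.IsQuasicoherent]
    [hM : SheafOfModules.IsFiniteType (R := Rp f) ((AMod.dirImg f).obj F)] :
    SheafOfModules.IsFiniteType (R := X.ringCatSheaf) F := by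
  let M : SheafOfModules.{u} (Rp f) := (AMod.dirImg f).obj F
  haveI : ((rho (al f)).obj M).IsQuasicoherent := qc_rho f F
  obtain ⟨lg, hlg⟩ := SheafOfModules.IsFiniteType.exists_localGeneratorsData M
  let Jx := {V : S.affineOpens // ∃ i, V.1 ≤ lg.X i}
  have hcovS : ∀ s : S, ∃ V : Jx, s ∈ V.1.1 := by
    intro s
    have hlgc : ⨆ i, lg.X i = ⊤ := (Opens.coversTop_iff _ _).mp lg.coversTop
    have hs : s ∈ (⨆ i, lg.X i : S.Opens) := by rw [hlgc]; trivial
    obtain ⟨i, hi⟩ := Opens.mem_iSup.mp hs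
    obtain ⟨V, hV, hsV, hVU⟩ := Opens.isBasis_iff_nbhd.mp S.isBasis_affineOpens hi
    exact ⟨⟨⟨V, hV⟩, i, hVU⟩, hsV⟩
  have key : ∀ V : Jx,
      Module.Finite Γ(X, f ⁻¹ᵁ (V.1.1.ι ''ᵁ ⊤)) Γ(F, f ⁻¹ᵁ (V.1.1.ι ''ᵁ ⊤)) := by
    rintro ⟨V, i, hVi⟩
    haveI : IsAffine (V.1 : Scheme.{u}) := V.2
    haveI := hlg.isFiniteType i
    obtain ⟨τ, hτ⟩ := exists_generatingSections_resU M hVi (lg.generators i)
    haveI := hτ
    haveI hN := isQuasicoherent_rho_resU (al f) V.1 M
    have hαV := isQuasicoherent_rho_unit_U (al f) V.1 (hα f)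
    haveI hfree := isQuasicoherent_rho_free (alphaU (al f) V.1) hαV τ.I
    haveI : Epi τ.π := τ.epi
    haveI : PreservesColimitsOfSize.{u, u} (rho (alphaU (al f) V.1)) :=
      preservesColimits_restrictScalars_scheme (X := (V.1 : Scheme.{u})) (alphaU (al f) V.1)
    haveI : PreservesColimitsOfSize.{0, 0} (rho (alphaU (al f) V.1)) :=
      preservesColimitsOfSize_shrink.{0, u, 0, u} _
    haveI : (rho (alphaU (al f) V.1)).PreservesEpimorphisms := inferInstance
    haveI : Epi ((rho (alphaU (al f) V.1)).map τ.π) := Functor.map_epi _ _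
    have hsurj := QCohExact.app_surjective_of_epi ((rho (alphaU (al f) V.1)).map τ.π)
      (isAffineOpen_top (V.1 : Scheme.{u}))
    haveI : Module.Finite ((V.1.sheafRestrict.obj (Rp f)).obj.obj (op ⊤))
        ((SheafOfModules.free (R := V.1.sheafRestrict.obj (Rp f)) τ.I).val.obj (op ⊤)) :=
      finite_free_eval (R := V.1.sheafRestrict.obj (Rp f)) (I := τ.I) (op ⊤)
    have hfin : Module.Finite ((V.1.sheafRestrict.obj (Rp f)).obj.obj (op ⊤))
        ((resU V.1 M).val.obj (op ⊤)) :=
      Module.Finite.of_surjective (τ.π.val.app (op ⊤)).hom hsurj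
    exact hfin
  refine QCohCrit.isFiniteType_of_sections_cover F (fun V : Jx => f ⁻¹ᵁ (V.1.1.ι ''ᵁ ⊤))
    (fun V => ?_) ?_ key
  · have hV' : IsAffineOpen (V.1.1.ι ''ᵁ ⊤) := by rw [Scheme.Opens.ι_image_top]; exact V.1.2
    exact hV'.preimage f
  · rw [eq_top_iff]
    intro x _
    obtain ⟨V, hV⟩ := hcovS (f.base x)
    refine Opens.mem_iSup.mpr ⟨V, ?_⟩
    show f.base x ∈ V.1.1.ι ''ᵁ ⊤
    rw [Scheme.Opens.ι_image_top]
    exact hV

theorem main (F : X.Modules) (hF : Coh.IsQCoh F) :
    SheafOfModules.IsFiniteType.{u} (R := X.ringCatSheaf) F ↔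
      SheafOfModules.IsFiniteType.{u} (R := AMod.ringSheaf (RelSpec.QCAlg.directImage f))
        ((AMod.dirImg f).obj F) := by
  haveI : F.IsQuasicoherent := hF
  exact ⟨fun h => by haveI := h; exact isFiniteType_dirImg f F,
    fun h => by haveI := h; exact isFiniteType_of_dirImg f F⟩

end Groth.Agent.Lib.DirImgFTL
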