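import Mathlib
import Groth.Prelude.Def_RelSpec
import Groth.Prelude.Def_AffAlg
import Groth.Agent.Lib.QCAlgPO_helper5

/-!
# The direct-image algebra of a fibre product of affine schemes over `Y` is the tensor product  (helper5)
-/

set_option autoImplicit false
universe u
open AlgebraicGeometry CategoryTheory CategoryTheory.Limits Opposite TopologicalSpace

noncomputable section

namespace Groth.Agent.DirImgPO

open RelSpec Groth.Agent.QCAlgPO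

theorem algHom_app {X Y S : Scheme.{u}} (f : X ⟶ S) (g : Y ⟶ S) (h : Y ⟶ X) (w : h ≫ f = g)
    (U : S.Opens) :
    (AffAlg.algHom f g h w).app (op U) =
      h.appLE (f ⁻¹ᵁ U) (g ⁻¹ᵁ U) (by rw [← w, Scheme.Hom.comp_preimage]) := by
  subst w
  simp only [AffAlg.algHom]
  rw [Scheme.Hom.appLE, NatTrans.comp_app, eqToHom_app]
  have e : ∀ (k : op (h ⁻¹ᵁ (f ⁻¹ᵁ U)) ⟶ op (h ⁻¹ᵁ (f ⁻¹ᵁ U))), Y.presheaf.map k = 𝟙 _ := fun k => by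
    rw [Subsingleton.elim k (𝟙 _)]; exact CategoryTheory.Functor.map_id _ _
  have e1 : ∀ (p : (Y.presheaf.obj (op (h ⁻¹ᵁ (f ⁻¹ᵁ U)))) = Y.presheaf.obj (op (h ⁻¹ᵁ (f ⁻¹ᵁ U)))),
      eqToHom p = 𝟙 _ := fun p => eqToHom_refl _ p
  exact (congrArg (fun t => Scheme.Hom.app h (f ⁻¹ᵁ U) ≫ t) (e1 _)).trans
    (congrArg (fun t => Scheme.Hom.app h (f ⁻¹ᵁ U) ≫ t) (e _)).symm

section main
variable {X X' Y Z S : Scheme.{u}} (g : Y ⟶ S) [IsAffineHom g]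
  (f : X ⟶ Y) [IsAffineHom f] (f' : X' ⟶ Y) [IsAffineHom f'] (p : Z ⟶ X) (p' : Z ⟶ X')
  (hZ : IsPullback p p' f f')

include hZ in
theorem isPushout_sections (U : S.Opens) (hU : IsAffineOpen U) (w : p' ≫ f' ≫ g = p ≫ f ≫ g) :
    IsPushout ((AffAlg.algHom g (f ≫ g) f rfl).app (op U))
      ((AffAlg.algHom g (f' ≫ g) f' rfl).app (op U))
      ((AffAlg.algHom (f ≫ g) (p ≫ f ≫ g) p rfl).app (op U))
      ((AffAlg.algHom (f' ≫ g) (p ≫ f ≫ g) p' w).app (op U)) := by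
  rw [algHom_app, algHom_app, algHom_app, algHom_app]
  have hUY : (p ≫ f ≫ g) ⁻¹ᵁ U = p ⁻¹ᵁ ((f ≫ g) ⁻¹ᵁ U) ⊓ p' ⁻¹ᵁ ((f' ≫ g) ⁻¹ᵁ U) := by
    have e1 : p' ⁻¹ᵁ ((f' ≫ g) ⁻¹ᵁ U) = (p ≫ f ≫ g) ⁻¹ᵁ U := by
      rw [← Scheme.Hom.comp_preimage, w]
    have e2 : p ⁻¹ᵁ ((f ≫ g) ⁻¹ᵁ U) = (p ≫ f ≫ g) ⁻¹ᵁ U := by
      rw [← Scheme.Hom.comp_preimage]
    rw [e1, e2, inf_idem]
  have hUS : IsAffineOpen (g ⁻¹ᵁ U) := hU.preimage g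
  have hUT : IsAffineOpen ((f' ≫ g) ⁻¹ᵁ U) := hU.preimage (f' ≫ g)
  have hUX : IsAffineOpen ((f ≫ g) ⁻¹ᵁ U) := hU.preimage (f ≫ g)
  exact (isIso_pushoutSection_iff hZ (US := g ⁻¹ᵁ U) (UT := (f' ≫ g) ⁻¹ᵁ U) (UX := (f ≫ g) ⁻¹ᵁ U)
    (by rw [Scheme.Hom.comp_preimage]) (by rw [Scheme.Hom.comp_preimage]) hUY).mp
    (isIso_pushoutSection_of_isAffineOpen hZ _ _ hUY hUS hUT hUX)

end main

end Groth.Agent.DirImgPO
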