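import Mathlib

/-!
# Direct limits of algebras and tensor base change (helper3)
-/

set_option autoImplicit false
universe u

open TensorProduct

namespace Groth.Agent.Lib.DirLimTensor

variable {ι : Type u} [Preorder ι] [Nonempty ι] [IsDirectedOrder ι] (G : ι → Type u)
  [∀ i, CommRing (G i)]
  (f : ∀ i j, i ≤ j → G i →+* G j) [DirectedSystem G (fun i j h => f i j h)]
  (A : Type u) [CommRing A] [∀ i, Algebra A (G i)]
  (hf : ∀ i j (h : i ≤ j), (f i j h).comp (algebraMap A (G i)) = algebraMap A (G j)) (l : ι)

/-- The `A`-algebra structure on the direct limit through stage `l`. -/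
@[reducible] noncomputable def algR :
    Algebra A (Ring.DirectLimit G (fun i j h => f i j h)) :=
  ((Ring.DirectLimit.of G (fun i j h => f i j h) l).comp (algebraMap A (G l))).toAlgebra

/-- Transition maps as algebra homs. -/
def fA (i j : ι) (h : i ≤ j) : G i →ₐ[A] G j :=
  { f i j h with commutes' := fun a => RingHom.congr_fun (hf i j h) a }

@[simp] lemma fA_apply (i j : ι) (h : i ≤ j) (x : G i) : fA G f A hf i j h x = f i j h x := rfl

include hf in
lemma of_algebraMap (i : ι) (a : A) :
    Ring.DirectLimit.of G (fun i j h => f i j h) i (algebraMap A (G i) a) =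
      Ring.DirectLimit.of G (fun i j h => f i j h) l (algebraMap A (G l) a) := by
  obtain ⟨k, hik, hlk⟩ := exists_ge_ge i l
  rw [← Ring.DirectLimit.of_f (G := G) (f := fun i j h => f i j h) hik,
    ← Ring.DirectLimit.of_f (G := G) (f := fun i j h => f i j h) hlk]
  have h1 := RingHom.congr_fun (hf i k hik) a
  have h2 := RingHom.congr_fun (hf l k hlk) a
  simp only [RingHom.comp_apply] at h1 h2
  rw [h1, h2]

/-- Stage maps as algebra homs. -/
noncomputable def ofA (i : ι) :
    letI := algR G f A l
    G i →ₐ[A] Ring.DirectLimit G (fun i j h => f i j h) :=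
  letI := algR G f A l
  { Ring.DirectLimit.of G (fun i j h => f i j h) i with
    commutes' := fun a => of_algebraMap G f A hf l i a }

lemma ofA_apply (i : ι) (x : G i) :
    ofA G f A hf l i x = Ring.DirectLimit.of G (fun i j h => f i j h) i x := rfl

instance : DirectedSystem G (fun i j h => ⇑((fA G f A hf i j h).toLinearMap)) where
  map_self i x := DirectedSystem.map_self (f := fun i j h => f i j h) x
  map_map k j i hij hjk x := DirectedSystem.map_map (f := fun i j h => f i j h) hij hjk x

open Classical in
/-- The module direct limit agrees with the ring direct limit. -/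
noncomputable def e0 :
    letI := algR G f A l
    Module.DirectLimit G (fun i j h => (fA G f A hf i j h).toLinearMap) ≃ₗ[A]
      Ring.DirectLimit G (fun i j h => f i j h) :=
  letI := algR G f A l
  LinearEquiv.ofBijective
    (Module.DirectLimit.lift A ι G (fun i j h => (fA G f A hf i j h).toLinearMap)
      (fun i => (ofA G f A hf l i).toLinearMap)
      (fun i j hij x => Ring.DirectLimit.of_f (G := G) (f := fun i j h => f i j h) hij x))
    (by
      constructor
      · rw [← LinearMap.ker_eq_bot, Submodule.eq_bot_iff]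
        intro z hz
        obtain ⟨i, x, rfl⟩ := Module.DirectLimit.exists_of z
        rw [LinearMap.mem_ker, Module.DirectLimit.lift_of] at hz
        obtain ⟨j, hij, hx⟩ := Ring.DirectLimit.of.zero_exact (G := G)
          (f' := fun i j h => f i j h) hz
        rw [← Module.DirectLimit.of_f (hij := hij)]
        have : (fA G f A hf i j hij).toLinearMap x = 0 := hx
        rw [this, map_zero]
      · intro z
        obtain ⟨i, x, rfl⟩ := Ring.DirectLimit.exists_of z
        exact ⟨Module.DirectLimit.of A ι G _ i x, Module.DirectLimit.lift_of _ _ x⟩)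

open Classical in
lemma e0_of (i : ι) (x : G i) :
    letI := algR G f A l
    e0 G f A hf l (Module.DirectLimit.of A ι G
      (fun i j h => (fA G f A hf i j h).toLinearMap) i x) =
      Ring.DirectLimit.of G (fun i j h => f i j h) i x := by
  letI := algR G f A l
  exact Module.DirectLimit.lift_of (fun i => (ofA G f A hf l i).toLinearMap)
    (fun i j hij x => Ring.DirectLimit.of_f (G := G) (f := fun i j h => f i j h) hij x) x

/-- Key lemma: an element of `G j ⊗ C` dying in `R ⊗ C` dies at a finite stage. -/
theorem exists_rTensor_eq_zero (C : Type u) [AddCommGroup C] [Module A C] (j : ι)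
    (x : G j ⊗[A] C)
    (hx : letI := algR G f A l
      LinearMap.rTensor C (ofA G f A hf l j).toLinearMap x = 0) :
    ∃ (i : ι) (h : j ≤ i), LinearMap.rTensor C (fA G f A hf j i h).toLinearMap x = 0 := by
  classical
  letI := algR G f A l
  have h1 : (ofA G f A hf l j).toLinearMap = (e0 G f A hf l).toLinearMap ∘ₗ
      Module.DirectLimit.of A ι G (fun i j h => (fA G f A hf i j h).toLinearMap) j := by
    ext y
    exact (e0_of G f A hf l j y).symm
  rw [h1, LinearMap.rTensor_comp, LinearMap.comp_apply] at hx
  have h2 : LinearMap.rTensor C (Module.DirectLimit.of A ι G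
      (fun i j h => (fA G f A hf i j h).toLinearMap) j) x = 0 := by
    apply (LinearEquiv.rTensor C (e0 G f A hf l)).injective
    rw [map_zero]
    exact hx
  have h3 := congrArg (TensorProduct.directLimitLeft
    (fun i j h => (fA G f A hf i j h).toLinearMap) C) h2
  rw [TensorProduct.directLimitLeft_rTensor_of, map_zero] at h3
  exact Module.DirectLimit.of.zero_exact h3


section General

variable {A}

/-- Naturality of `id ⊗ u` in the left factor. -/
lemma rTensor_map {G1 G2 B C : Type u} [CommRing G1] [CommRing G2] [Algebra A G1] [Algebra A G2]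
    [CommRing B] [CommRing C] [Algebra A B] [Algebra A C] (φ : G1 →ₐ[A] G2) (u : B →ₐ[A] C)
    (z : G1 ⊗[A] B) :
    LinearMap.rTensor C φ.toLinearMap (Algebra.TensorProduct.map (AlgHom.id A G1) u z) =
      Algebra.TensorProduct.map (AlgHom.id A G2) u (LinearMap.rTensor B φ.toLinearMap z) := by
  induction z using TensorProduct.induction_on with
  | zero => simp
  | tmul g b => simp
  | add a b ha hb => rw [map_add, map_add, ha, hb, map_add, map_add]

end General

include hf in
lemma ofA_comp_fA (j k : ι) (h : j ≤ k) :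
    letI := algR G f A l
    (ofA G f A hf l k).toLinearMap ∘ₗ (fA G f A hf j k h).toLinearMap =
      (ofA G f A hf l j).toLinearMap := by
  letI := algR G f A l
  ext x
  exact Ring.DirectLimit.of_f (G := G) (f := fun i j h => f i j h) h x

include hf in
lemma fA_comp_fA (i j k : ι) (h : i ≤ j) (h' : j ≤ k) :
    (fA G f A hf j k h').toLinearMap ∘ₗ (fA G f A hf i j h).toLinearMap =
      (fA G f A hf i k (h.trans h')).toLinearMap := by
  ext x
  exact DirectedSystem.map_map (f := fun i j h => f i j h) h h' x

/-- Every element of `R ⊗ B` comes from a finite stage. -/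
theorem exists_rTensor_eq (B : Type u) [AddCommGroup B] [Module A B]
    (z : letI := algR G f A l
      Ring.DirectLimit G (fun i j h => f i j h) ⊗[A] B) :
    letI := algR G f A l
    ∃ (j : ι) (z' : G j ⊗[A] B), LinearMap.rTensor B (ofA G f A hf l j).toLinearMap z' = z := by
  letI := algR G f A l
  induction z using TensorProduct.induction_on with
  | zero => exact ⟨l, 0, map_zero _⟩
  | tmul r b =>
    obtain ⟨j, g, rfl⟩ := Ring.DirectLimit.exists_of r
    exact ⟨j, g ⊗ₜ b, rfl⟩
  | add z1 z2 h1 h2 =>
    obtain ⟨j1, z1', rfl⟩ := h1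
    obtain ⟨j2, z2', rfl⟩ := h2
    obtain ⟨k, h1k, h2k⟩ := exists_ge_ge j1 j2
    refine ⟨k, LinearMap.rTensor B (fA G f A hf j1 k h1k).toLinearMap z1' +
      LinearMap.rTensor B (fA G f A hf j2 k h2k).toLinearMap z2', ?_⟩
    rw [map_add, ← LinearMap.comp_apply, ← LinearMap.comp_apply, ← LinearMap.rTensor_comp,
      ← LinearMap.rTensor_comp, ofA_comp_fA, ofA_comp_fA]

include hf in
/-- Part (1). -/
theorem part1 (B C : Type u) [CommRing B] [CommRing C] [Algebra A B] [Algebra A C]
    (hB : Algebra.FiniteType A B) (u u' : B →ₐ[A] C)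
    (h : letI := algR G f A l
      Algebra.TensorProduct.map (AlgHom.id A (Ring.DirectLimit G (fun i j h => f i j h))) u =
        Algebra.TensorProduct.map (AlgHom.id A (Ring.DirectLimit G (fun i j h => f i j h))) u') :
    ∃ i : ι, Algebra.TensorProduct.map (AlgHom.id A (G i)) u =
      Algebra.TensorProduct.map (AlgHom.id A (G i)) u' := by
  classical
  letI := algR G f A l
  obtain ⟨s, hs⟩ := hB.out
  have key : ∀ b : B, ∃ i : ι, (1 : G i) ⊗ₜ[A] (u b - u' b) = 0 := by
    intro b
    have h1 : LinearMap.rTensor C (ofA G f A hf l l).toLinearMap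
        ((1 : G l) ⊗ₜ[A] (u b - u' b)) = 0 := by
      rw [LinearMap.rTensor_tmul, AlgHom.toLinearMap_apply, map_one, TensorProduct.tmul_sub]
      have := congrArg (fun φ => φ ((1 : Ring.DirectLimit G (fun i j h => f i j h)) ⊗ₜ[A] b)) h
      simp only [Algebra.TensorProduct.map_tmul, AlgHom.id_apply] at this
      rw [this, sub_self]
    obtain ⟨i, hi, h2⟩ := exists_rTensor_eq_zero G f A hf l C l _ h1
    refine ⟨i, ?_⟩
    rw [LinearMap.rTensor_tmul, AlgHom.toLinearMap_apply, map_one] at h2
    exact h2
  choose ib hib using key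
  obtain ⟨i₀, hi₀⟩ := (s.image ib).exists_le
  have key2 : ∀ b ∈ s, (1 : G i₀) ⊗ₜ[A] (u b - u' b) = 0 := by
    intro b hb
    have hle : ib b ≤ i₀ := hi₀ _ (Finset.mem_image_of_mem _ hb)
    have := congrArg (LinearMap.rTensor C (fA G f A hf (ib b) i₀ hle).toLinearMap) (hib b)
    rw [LinearMap.rTensor_tmul, AlgHom.toLinearMap_apply, map_one, map_zero] at this
    exact this
  refine ⟨i₀, ?_⟩
  apply Algebra.TensorProduct.ext
  · ext g
    simp
  · apply AlgHom.ext_of_adjoin_eq_top hs
    intro b hb
    have := key2 b hb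
    rw [TensorProduct.tmul_sub, sub_eq_zero] at this
    simpa using this

include hf in
/-- Part (2). -/
theorem part2 (B C : Type u) [CommRing B] [CommRing C] [Algebra A B] [Algebra A C]
    (hC : Algebra.FiniteType A C) (u : B →ₐ[A] C)
    (h : letI := algR G f A l
      Function.Surjective (Algebra.TensorProduct.map
        (AlgHom.id A (Ring.DirectLimit G (fun i j h => f i j h))) u)) :
    ∃ i : ι, Function.Surjective (Algebra.TensorProduct.map (AlgHom.id A (G i)) u) := by
  classical
  letI := algR G f A l
  obtain ⟨s, hs⟩ := hC.out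
  have key : ∀ c : C, ∃ (i : ι) (w : G i ⊗[A] B),
      Algebra.TensorProduct.map (AlgHom.id A (G i)) u w = (1 : G i) ⊗ₜ[A] c := by
    intro c
    obtain ⟨z, hz⟩ := h ((1 : Ring.DirectLimit G (fun i j h => f i j h)) ⊗ₜ[A] c)
    obtain ⟨j, z', rfl⟩ := exists_rTensor_eq G f A hf l B z
    have h1 : LinearMap.rTensor C (ofA G f A hf l j).toLinearMap
        (Algebra.TensorProduct.map (AlgHom.id A (G j)) u z' - (1 : G j) ⊗ₜ[A] c) = 0 := by
      rw [map_sub, rTensor_map, hz, LinearMap.rTensor_tmul, AlgHom.toLinearMap_apply, map_one,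
        sub_self]
    obtain ⟨i, hi, h2⟩ := exists_rTensor_eq_zero G f A hf l C j _ h1
    refine ⟨i, LinearMap.rTensor B (fA G f A hf j i hi).toLinearMap z', ?_⟩
    rw [map_sub, rTensor_map, LinearMap.rTensor_tmul, AlgHom.toLinearMap_apply, map_one,
      sub_eq_zero] at h2
    exact h2
  choose ic w hw using key
  obtain ⟨i₀, hi₀⟩ := (s.image ic).exists_le
  refine ⟨i₀, ?_⟩
  have hS : ∀ c ∈ s, (1 : G i₀) ⊗ₜ[A] c ∈
      (Algebra.TensorProduct.map (AlgHom.id A (G i₀)) u).range := by
    intro c hc
    have hle : ic c ≤ i₀ := hi₀ _ (Finset.mem_image_of_mem _ hc)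
    refine ⟨LinearMap.rTensor B (fA G f A hf (ic c) i₀ hle).toLinearMap (w c), ?_⟩
    show Algebra.TensorProduct.map (AlgHom.id A (G i₀)) u
      (LinearMap.rTensor B (fA G f A hf (ic c) i₀ hle).toLinearMap (w c)) = _
    rw [← rTensor_map, hw c, LinearMap.rTensor_tmul, AlgHom.toLinearMap_apply, map_one]
  have hall : ∀ c : C, (1 : G i₀) ⊗ₜ[A] c ∈
      (Algebra.TensorProduct.map (AlgHom.id A (G i₀)) u).range := by
    intro c
    have hc : c ∈ Algebra.adjoin A (s : Set C) := by rw [hs]; trivial
    have hle : Algebra.adjoin A (s : Set C) ≤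
        ((Algebra.TensorProduct.map (AlgHom.id A (G i₀)) u).range).comap
          (Algebra.TensorProduct.includeRight : C →ₐ[A] G i₀ ⊗[A] C) :=
      Algebra.adjoin_le fun c hc => hS c hc
    exact hle hc
  intro y
  rw [← AlgHom.mem_range]
  induction y using TensorProduct.induction_on with
  | zero => exact Subalgebra.zero_mem _
  | tmul g c =>
    have h1 : g ⊗ₜ[A] c = (g ⊗ₜ[A] (1 : C)) * ((1 : G i₀) ⊗ₜ[A] c) := by
      rw [Algebra.TensorProduct.tmul_mul_tmul, mul_one, one_mul]
    rw [h1]
    refine Subalgebra.mul_mem _ ⟨g ⊗ₜ[A] (1 : B), ?_⟩ (hall c)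
    simp
  | add a b ha hb => exact Subalgebra.add_mem _ ha hb

end Groth.Agent.Lib.DirLimTensor
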