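import Mathlib
import Groth.Agent.Lib.DetDeg1_helper9

/-!
# Discriminants and the index calculus (helper9)

* `repr_map`, `trace_map`, `discr_map`: traces and discriminants commute with a base change of
  rings under which a basis goes to a basis;
* `discr_transition`: the transformation rule `a ^ (2 n N) disc(t) = det(Q)^2 disc(γ)` for families
  related by `a ^ N t_i = ∑ Q_ji γ_j`;
* `local_compare_sq`: the local comparison `2 (idx p₁ - idx p₂) ≤ idx q₁ - idx q₂` when the rank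
  one relation matrix is `det(Q)^2 D` with `D` a nonzerodivisor.
APPEND-ONLY once landed.
-/

set_option autoImplicit false

universe u

namespace DiscDeg

open DetDeg Groth.Agent.Idx9

section Trace

variable {A A' B B' : Type*} [CommRing A] [CommRing A'] [CommRing B] [CommRing B']
  [Algebra A B] [Algebra A' B'] (ρA : A →+* A') (ρB : B →+* B')
  (hcomp : ∀ a, ρB (algebraMap A B a) = algebraMap A' B' (ρA a))
  {n : ℕ} (t : Module.Basis (Fin n) A B) (t' : Module.Basis (Fin n) A' B')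
  (ht : ∀ i, t' i = ρB (t i))

include hcomp ht in
theorem repr_map (b : B) (i : Fin n) : t'.repr (ρB b) i = ρA (t.repr b i) := by
  have h1 : ρB b = ∑ j, ρA (t.repr b j) • t' j := by
    conv_lhs => rw [← t.sum_repr b]
    rw [map_sum]
    apply Finset.sum_congr rfl
    intro j _
    rw [Algebra.smul_def, map_mul, hcomp, ht, Algebra.smul_def]
  rw [h1, t'.repr_sum_self]

include hcomp ht in
theorem trace_map (b : B) : Algebra.trace A' B' (ρB b) = ρA (Algebra.trace A B b) := by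
  rw [Algebra.trace_eq_matrix_trace t' (ρB b), Algebra.trace_eq_matrix_trace t b,
    Matrix.trace, Matrix.trace, map_sum]
  apply Finset.sum_congr rfl
  intro i _
  rw [Matrix.diag_apply, Matrix.diag_apply, Algebra.leftMulMatrix_eq_repr_mul,
    Algebra.leftMulMatrix_eq_repr_mul, ht, ← map_mul]
  exact repr_map ρA ρB hcomp t t' ht _ i

include hcomp ht in
theorem discr_map (v : Fin n → B) :
    Algebra.discr A' (fun i => ρB (v i)) = ρA (Algebra.discr A v) := by
  rw [Algebra.discr_def, Algebra.discr_def, RingHom.map_det]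
  congr 1
  ext i j
  rw [Algebra.traceMatrix_apply, RingHom.mapMatrix_apply, Matrix.map_apply,
    Algebra.traceMatrix_apply, Algebra.traceForm_apply, Algebra.traceForm_apply, ← map_mul]
  exact trace_map ρA ρB hcomp t t' ht _

end Trace

section Transition

open Matrix

variable {A B : Type*} [CommRing A] [CommRing B] [Algebra A B] {n : ℕ}

theorem discr_transition (a : A) (N : ℕ) (Q : Matrix (Fin n) (Fin n) A) (t γ : Fin n → B)
    (hrel : ∀ i, a ^ N • t i = ∑ j, Q j i • γ j) :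
    a ^ (2 * (n * N)) * Algebra.discr A t = Q.det ^ 2 * Algebra.discr A γ := by
  have h1 : (fun i => a ^ N • t i) =
      t ᵥ* ((a ^ N) • (1 : Matrix (Fin n) (Fin n) A)).map (algebraMap A B) := by
    funext i
    rw [Matrix.vecMul, dotProduct]
    simp only [Matrix.map_apply, Matrix.smul_apply, Matrix.one_apply, smul_eq_mul, mul_ite,
      mul_one, mul_zero]
    rw [Finset.sum_eq_single i]
    · rw [if_pos rfl, Algebra.smul_def, mul_comm]
    · intro j _ hji
      rw [if_neg hji, map_zero, mul_zero]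
    · intro h; exact absurd (Finset.mem_univ i) h
  have h2 : (fun i => ∑ j, Q j i • γ j) = γ ᵥ* Q.map (algebraMap A B) := by
    funext i
    rw [Matrix.vecMul, dotProduct]
    apply Finset.sum_congr rfl
    intro j _
    rw [Matrix.map_apply, Algebra.smul_def, mul_comm]
  have h3 : (fun i => a ^ N • t i) = fun i => ∑ j, Q j i • γ j := funext hrel
  have h4 := Algebra.discr_of_matrix_vecMul t ((a ^ N) • (1 : Matrix (Fin n) (Fin n) A))
  have h5 := Algebra.discr_of_matrix_vecMul γ Q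
  rw [← h1, h3, h2, h5] at h4
  rw [h4, Matrix.det_smul, Matrix.det_one, mul_one, Fintype.card_fin, ← pow_mul, ← pow_mul]
  congr 2
  ring

end Transition

section Local

variable {A : Type u} [CommRing A] [IsNoetherianRing A]

theorem scalar_mul (a b : A) :
    ((a * b) • (1 : Matrix (Fin 1) (Fin 1) A)) =
      (a • (1 : Matrix (Fin 1) (Fin 1) A)) * (b • (1 : Matrix (Fin 1) (Fin 1) A)) := by
  rw [Matrix.smul_mul, Matrix.one_mul, smul_smul]

theorem length_quot_ne_top_of_mul (a b : A)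
    (h : Module.length A (A ⧸ Ideal.span {a * b}) ≠ ⊤) :
    Module.length A (A ⧸ Ideal.span {b}) ≠ ⊤ := by
  have hle : Ideal.span {a * b} ≤ Ideal.span {b} := by
    rw [Ideal.span_singleton_le_iff_mem]
    exact Ideal.mul_mem_left _ a (Ideal.mem_span_singleton_self b)
  have hs : Function.Surjective (Submodule.mapQ (Ideal.span {a * b}) (Ideal.span {b})
      (LinearMap.id : A →ₗ[A] A) (by simpa using hle)) := by
    intro y
    obtain ⟨x, rfl⟩ := Submodule.mkQ_surjective _ y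
    exact ⟨Submodule.mkQ _ x, rfl⟩
  exact ne_top_of_le_ne_top h (Module.length_le_of_surjective _ hs)

theorem finL_scalar (a : A) (h : Module.length A (A ⧸ Ideal.span {a}) ≠ ⊤) :
    FinL (act (a • (1 : Matrix (Fin 1) (Fin 1) A)) A) :=
  ⟨kl_ne_top _ (by rw [det_scalar]; exact h) A, cl_ne_top _ (by rw [det_scalar]; exact h) A⟩

theorem idx_scalar_mul (a b : A) (ha : Module.length A (A ⧸ Ideal.span {a}) ≠ ⊤)
    (hb : Module.length A (A ⧸ Ideal.span {b}) ≠ ⊤) :
    idx (act ((a * b) • (1 : Matrix (Fin 1) (Fin 1) A)) A) =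
      idx (act (a • (1 : Matrix (Fin 1) (Fin 1) A)) A) +
        idx (act (b • (1 : Matrix (Fin 1) (Fin 1) A)) A) := by
  rw [scalar_mul, act_mul, idx_comp (finL_scalar b hb) (finL_scalar a ha)]
  ring

theorem idx_scalar_nonneg (D : A) (hD : D ∈ nonZeroDivisors A) :
    0 ≤ idx (act (D • (1 : Matrix (Fin 1) (Fin 1) A)) A) := by
  unfold idx kL
  rw [kl_scalar D hD]
  simp

/-- the local comparison for the discriminant -/
theorem local_compare_sq [IsLocalRing A] (τ : A)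
    (hτ : Module.length A (A ⧸ Ideal.span {τ}) ≠ ⊤) (n N : ℕ)
    (Q : Matrix (Fin n) (Fin n) A) (D : A) (hD : D ∈ nonZeroDivisors A)
    (Q' : Matrix (Fin 1) (Fin 1) A)
    (hQ' : Q' = (Q.det * (Q.det * D)) • (1 : Matrix (Fin 1) (Fin 1) A))
    {H₁ H₂ : Type u} [AddCommGroup H₁] [Module A H₁] [AddCommGroup H₂] [Module A H₂]
    (p₁ p₂ : H₁ →ₗ[A] (Fin n → A)) (q₁ q₂ : H₂ →ₗ[A] (Fin 1 → A))
    (hp₁ : FinL p₁) (hp₂ : FinL p₂) (hq₁ : FinL q₁) (hq₂ : FinL q₂)
    (hp : ∀ x, ∃ k : ℕ, τ ^ k • (τ ^ N • p₁ x - act Q A (p₂ x)) = 0)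
    (hq : ∀ x, ∃ k : ℕ, τ ^ k • (τ ^ (2 * (n * N)) • q₁ x - act Q' A (q₂ x)) = 0) :
    2 * (idx p₁ - idx p₂) ≤ idx q₁ - idx q₂ := by
  subst hQ'
  have hτk := length_quot_pow hτ
  have hdet1 : ((τ ^ N) • (1 : Matrix (Fin n) (Fin n) A)).det = τ ^ (n * N) := by
    rw [Matrix.det_smul, Matrix.det_one, mul_one, Fintype.card_fin, ← pow_mul, mul_comm]
  have hact1 : ∀ x : Fin n → A, act ((τ ^ N) • (1 : Matrix (Fin n) (Fin n) A)) A x = τ ^ N • x := by
    intro x
    rw [act_smul, act_one]; rfl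
  have hact2 : ∀ x : Fin 1 → A,
      act ((τ ^ (2 * (n * N))) • (1 : Matrix (Fin 1) (Fin 1) A)) A x =
        τ ^ (2 * (n * N)) • x := by
    intro x
    rw [act_smul, act_one]; rfl
  have hcl1 : cL (act ((τ ^ N) • (1 : Matrix (Fin n) (Fin n) A)) A) ≠ ⊤ :=
    cl_ne_top _ (by rw [hdet1]; exact hτk _) A
  obtain ⟨hμ₁, hμ₂, hidxμ⟩ := good_local _ hcl1
  rw [hdet1] at hμ₂ hidxμ
  -- the `E` side
  obtain ⟨hclQ, hE⟩ := index_relation τ hτk p₁ p₂
    (act ((τ ^ N) • (1 : Matrix (Fin n) (Fin n) A)) A) (act Q A) hp₁ hp₂ hμ₁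
    (fun x => by rw [hact1]; exact hp x)
  obtain ⟨hρ₁, hρ₂, hidxρ⟩ := good_local Q hclQ
  have hE' := hE hρ₁.1
  -- the `L` side
  have hμ' : FinL (act ((τ ^ (2 * (n * N))) • (1 : Matrix (Fin 1) (Fin 1) A)) A) :=
    finL_scalar _ (hτk _)
  obtain ⟨hclQ', hL⟩ := index_relation τ hτk q₁ q₂
    (act ((τ ^ (2 * (n * N))) • (1 : Matrix (Fin 1) (Fin 1) A)) A)
    (act ((Q.det * (Q.det * D)) • (1 : Matrix (Fin 1) (Fin 1) A)) A) hq₁ hq₂ hμ'
    (fun x => by rw [hact2]; exact hq x)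
  have hfin3 : Module.length A (A ⧸ Ideal.span {Q.det * (Q.det * D)}) ≠ ⊤ := by
    have := length_quot_det_ne_top _ hclQ'
    rwa [det_scalar] at this
  have hfin2 : Module.length A (A ⧸ Ideal.span {Q.det * D}) ≠ ⊤ :=
    length_quot_ne_top_of_mul _ _ hfin3
  have hfinD : Module.length A (A ⧸ Ideal.span {D}) ≠ ⊤ :=
    length_quot_ne_top_of_mul _ _ hfin2
  have hfinQ : Module.length A (A ⧸ Ideal.span {Q.det}) ≠ ⊤ := by
    have := length_quot_det_ne_top _ hρ₂.2
    rwa [det_scalar] at this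
  have hL' := hL (finL_scalar _ hfin3).1
  have e1 : idx (act ((Q.det * (Q.det * D)) • (1 : Matrix (Fin 1) (Fin 1) A)) A) =
      2 * idx (act (Q.det • (1 : Matrix (Fin 1) (Fin 1) A)) A) +
        idx (act (D • (1 : Matrix (Fin 1) (Fin 1) A)) A) := by
    rw [idx_scalar_mul _ _ hfinQ hfin2, idx_scalar_mul _ _ hfinQ hfinD]
    ring
  have e2 : idx (act ((τ ^ (2 * (n * N))) • (1 : Matrix (Fin 1) (Fin 1) A)) A) =
      2 * idx (act ((τ ^ (n * N)) • (1 : Matrix (Fin 1) (Fin 1) A)) A) := by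
    have : τ ^ (2 * (n * N)) = τ ^ (n * N) * τ ^ (n * N) := by rw [← pow_add]; congr 1; ring
    rw [this, idx_scalar_mul _ _ (hτk _) (hτk _)]
    ring
  have hnn := idx_scalar_nonneg D hD
  rw [hE', hL', e1, e2, hidxρ, hidxμ]
  linarith

end Local

section Bases

variable {A : Type u} [CommRing A]

/-- the local comparison for the discriminant, for free modules with chosen bases -/
theorem local_compare_sq_bases [IsNoetherianRing A] [IsLocalRing A] (τ : A)
    (hτ : Module.length A (A ⧸ Ideal.span {τ}) ≠ ⊤) (n N : ℕ)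
    (Q : Matrix (Fin n) (Fin n) A) (D : A) (hD : D ∈ nonZeroDivisors A)
    (Q' : Matrix (Fin 1) (Fin 1) A)
    (hQ' : Q' = (Q.det * (Q.det * D)) • (1 : Matrix (Fin 1) (Fin 1) A))
    {H₁ H₂ M₁ M₂ L₁ L₂ : Type u} [AddCommGroup H₁] [Module A H₁] [AddCommGroup H₂] [Module A H₂]
    [AddCommGroup M₁] [Module A M₁] [AddCommGroup M₂] [Module A M₂]
    [AddCommGroup L₁] [Module A L₁] [AddCommGroup L₂] [Module A L₂]
    (b₁ : Module.Basis (Fin n) A M₁) (b₂ : Module.Basis (Fin n) A M₂)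
    (c₁ : Module.Basis (Fin 1) A L₁) (c₂ : Module.Basis (Fin 1) A L₂)
    (p₁ : H₁ →ₗ[A] M₁) (p₂ : H₁ →ₗ[A] M₂) (q₁ : H₂ →ₗ[A] L₁) (q₂ : H₂ →ₗ[A] L₂)
    (hp₁ : FinL p₁) (hp₂ : FinL p₂) (hq₁ : FinL q₁) (hq₂ : FinL q₂)
    (hp : ∀ x : H₁, ∃ c : Fin n → A, p₂ x = ∑ i, c i • b₂ i ∧
      ∃ k : ℕ, τ ^ k • (τ ^ N • p₁ x - ∑ j, (∑ i, Q j i * c i) • b₁ j) = 0)
    (hq : ∀ x : H₂, ∃ c : Fin 1 → A, q₂ x = ∑ i, c i • c₂ i ∧
      ∃ k : ℕ, τ ^ k • (τ ^ (2 * (n * N)) • q₁ x - ∑ j, (∑ i, Q' j i * c i) • c₁ j) = 0) :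
    2 * (idx p₁ - idx p₂) ≤ idx q₁ - idx q₂ := by
  have h := local_compare_sq τ hτ n N Q D hD Q' hQ'
    (b₁.equivFun.toLinearMap ∘ₗ p₁) (b₂.equivFun.toLinearMap ∘ₗ p₂)
    (c₁.equivFun.toLinearMap ∘ₗ q₁) (c₂.equivFun.toLinearMap ∘ₗ q₂)
    (hp₁.equiv_comp _) (hp₂.equiv_comp _) (hq₁.equiv_comp _) (hq₂.equiv_comp _)
    (relation_of_bases τ N Q b₁ b₂ p₁ p₂ hp)
    (relation_of_bases τ (2 * (n * N)) Q' c₁ c₂ q₁ q₂ hq)
  rwa [idx_equiv_comp, idx_equiv_comp, idx_equiv_comp, idx_equiv_comp] at h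

end Bases

end DiscDeg
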