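import Mathlib
import Groth.Prelude
import Groth.Agent.Lib.DiscDeg1_helper9
import Groth.Agent.Lib.DetDeg6_helper9
import Groth.Agent.Lib.BirCurve3_helper9

/-!
# The degree of `f_* O_X` is nonpositive when the generic discriminant is nonzero (helper9)

For a finite morphism `f : X ⟶ Y` onto an integral proper scheme of dimension at most one over a
field such that `f_* O_X` is locally free of rank `n` and the discriminant of the trace form is
generically nonzero, `χ(O_X) ≤ n χ(O_Y)`.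
APPEND-ONLY once landed.
-/

set_option autoImplicit false
universe u
open CategoryTheory CategoryTheory.Limits AlgebraicGeometry Opposite TopologicalSpace

namespace DiscDeg

open QcqsLoc QCohExtn FLFH8 GenLocH8 TensH8 SDivGenH8 SDivFreeH8 Groth.Agent.Idx9 DetDeg
open SerreCrit

section Disc

variable {X Y : Scheme.{u}} (f : X ⟶ Y)

/-- the direct image of the structure sheaf -/
noncomputable abbrev EE : Y.Modules := (Scheme.Modules.pushforward f).obj (OO X)

/-- sections of `f_* O_X` as functions on the preimage -/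
def secB (W : Y.Opens) (s : Γ(EE f, W)) : Γ(X, f ⁻¹ᵁ W) := s

/-- the discriminant of a family of sections of `f_* O_X` over `W` -/
noncomputable def disc {n : ℕ} (W : Y.Opens) (t : Fin n → Γ(EE f, W)) : Γ(Y, W) :=
  letI := (f.app W).hom.toAlgebra
  Algebra.discr Γ(Y, W) (fun i => secB f W (t i))

theorem secB_rF {O W : Y.Opens} (h : O ≤ W) (s : Γ(EE f, W)) :
    secB f O (rF (EE f) h s) = rX (PFormH9.preimage_mono f h) (secB f W s) := rfl

theorem app_rX {O W : Y.Opens} (h : O ≤ W) (a : Γ(Y, W)) :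
    (f.app O).hom (rX h a) = rX (PFormH9.preimage_mono f h) ((f.app W).hom a) := by
  have := f.naturality (homOfLE h).op
  exact congrArg (fun φ => φ.hom a) this

theorem secB_li {n : ℕ} {W : Y.Opens} (t : Fin n → Γ(EE f, W))
    (ht : BasisOn (EE f) t W le_rfl) :
    letI := (f.app W).hom.toAlgebra
    LinearIndependent Γ(Y, W) (fun i => secB f W (t i)) :=
  (BasisOn.self (EE f) t ht).2

theorem secB_span {n : ℕ} {W : Y.Opens} (t : Fin n → Γ(EE f, W))
    (ht : BasisOn (EE f) t W le_rfl) :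
    letI := (f.app W).hom.toAlgebra
    ⊤ ≤ Submodule.span Γ(Y, W) (Set.range fun i => secB f W (t i)) :=
  (BasisOn.self (EE f) t ht).1.ge

/-- a basis of sections, as a basis of the algebra of functions on the preimage -/
noncomputable def basisOf {n : ℕ} {W : Y.Opens} (t : Fin n → Γ(EE f, W))
    (ht : BasisOn (EE f) t W le_rfl) :
    letI := (f.app W).hom.toAlgebra
    Module.Basis (Fin n) Γ(Y, W) Γ(X, f ⁻¹ᵁ W) :=
  letI := (f.app W).hom.toAlgebra
  Module.Basis.mk (secB_li f t ht) (secB_span f t ht)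

theorem basisOf_apply {n : ℕ} {W : Y.Opens} (t : Fin n → Γ(EE f, W))
    (ht : BasisOn (EE f) t W le_rfl) (i : Fin n) :
    letI := (f.app W).hom.toAlgebra
    basisOf f t ht i = secB f W (t i) := by
  letI := (f.app W).hom.toAlgebra
  unfold basisOf
  rw [Module.Basis.mk_apply]

/-- the discriminant commutes with restriction -/
theorem disc_res {n : ℕ} {O W : Y.Opens} (h : O ≤ W) (t : Fin n → Γ(EE f, W))
    (htW : BasisOn (EE f) t W le_rfl) (htO : BasisOn (EE f) t O h) (v : Fin n → Γ(EE f, W)) :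
    disc f O (fun i => rF (EE f) h (v i)) = rX h (disc f W v) := by
  letI := (f.app W).hom.toAlgebra
  letI := (f.app O).hom.toAlgebra
  have htO' : BasisOn (EE f) (fun i => rF (EE f) h (t i)) O le_rfl :=
    BasisOn.of_rF (EE f) t h le_rfl htO
  exact discr_map (rX h) (rX (PFormH9.preimage_mono f h))
    (fun a => (app_rX f h a).symm) (basisOf f t htW)
    (basisOf f (fun i => rF (EE f) h (t i)) htO')
    (fun i => by rw [basisOf_apply, basisOf_apply]; rfl) (fun i => secB f W (v i))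

end Disc

section Local

variable {X Y : Scheme.{u}} [IsLocallyNoetherian Y] [IsIntegral Y] (f : X ⟶ Y) {n : ℕ}

/-- the generator of the free module of rank one, twisted by a function -/
noncomputable def tL {U : Y.Opens} (d : Γ(Y, U)) : Fin 1 → Γ(FlatMod.freeMod Y 1, U) :=
  fun j => d • stdSec 1 U j

theorem rF_tL {O U : Y.Opens} (h : O ≤ U) (d : Γ(Y, U)) (j : Fin 1) :
    rF (FlatMod.freeMod Y 1) h (tL d j) = rX h d • stdSec 1 O j := by
  unfold tL
  rw [rF_smul, rF_stdSec]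

/-- the relation between the discriminants of two families on a basic open -/
theorem disc_relation {U W : Y.Opens} (tE : Fin n → Γ(EE f, U))
    (htE : ∀ (O : Y.Opens) (hO : O ≤ U), BasisOn (EE f) tE O hO)
    (γ : Fin n → Γ(EE f, W))
    (hγ : ∀ (O : Y.Opens) (hO : O ≤ W), BasisOn (EE f) γ O hO)
    (s : Γ(Y, W)) (hs : Y.basicOpen s ≤ U) (Q : Matrix (Fin n) (Fin n) Γ(Y, W)) (N : ℕ)
    (hrel : ∀ i, rX (Y.basicOpen_le s) s ^ N • rF (EE f) hs (tE i) =
      ∑ j, rX (Y.basicOpen_le s) (Q j i) • rF (EE f) (Y.basicOpen_le s) (γ j)) :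
    rX (Y.basicOpen_le s) s ^ (2 * (n * N)) * rX hs (disc f U tE) =
      rX (Y.basicOpen_le s) (Q.det * (Q.det * disc f W γ)) := by
  letI := (f.app (Y.basicOpen s)).hom.toAlgebra
  have h1 := discr_transition (A := Γ(Y, Y.basicOpen s)) (B := Γ(X, f ⁻¹ᵁ (Y.basicOpen s)))
    (rX (Y.basicOpen_le s) s) N (Q.map (rX (Y.basicOpen_le s)))
    (fun i => secB f _ (rF (EE f) hs (tE i)))
    (fun j => secB f _ (rF (EE f) (Y.basicOpen_le s) (γ j))) (fun i => hrel i)
  have h2 : Algebra.discr Γ(Y, Y.basicOpen s) (fun i => secB f _ (rF (EE f) hs (tE i))) =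
      rX hs (disc f U tE) := disc_res f hs tE (htE U le_rfl) (htE _ hs) tE
  have h3 : Algebra.discr Γ(Y, Y.basicOpen s)
      (fun j => secB f _ (rF (EE f) (Y.basicOpen_le s) (γ j))) =
      rX (Y.basicOpen_le s) (disc f W γ) :=
    disc_res f (Y.basicOpen_le s) γ (hγ W le_rfl) (hγ _ (Y.basicOpen_le s)) γ
  rw [h2, h3] at h1
  rw [h1, map_mul, map_mul, pow_two, mul_assoc]
  congr 1
  · exact (RingHom.map_det (rX (Y.basicOpen_le s)) Q).symm
  · congr 1
    exact (RingHom.map_det (rX (Y.basicOpen_le s)) Q).symm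

/-- the local comparison at a point outside the dense open -/
theorem local_claim (hdim : topologicalKrullDim Y ≤ 1)
    (hE : FlatMod.IsFinLocFreeOfRank n (EE f)) [(EE f).IsQuasicoherent]
    (hdisc : ∀ (W : Y.Opens), IsAffineOpen W → (W : Set Y).Nonempty →
      ∀ γ : Fin n → Γ(EE f, W), BasisOn (EE f) γ W le_rfl → disc f W γ ≠ 0)
    {U : Y.Opens} (tE : Fin n → Γ(EE f, U))
    (htE : ∀ (O : Y.Opens) (hO : O ≤ U), BasisOn (EE f) tE O hO)
    {F₁ F₂ : Y.Modules} (ι₁ : F₁ ⟶ EE f) (φ₁ : F₁ ⟶ FlatMod.freeMod Y n)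
    (ι₂ : F₂ ⟶ FlatMod.freeMod Y 1) (φ₂ : F₂ ⟶ FlatMod.freeMod Y 1)
    (hK₁ : ∀ (O : Y.Opens) (hO : O ≤ U) (h : Γ(F₁, O)),
      ap ι₁ O h = ∑ i, ofM ((projM i).app O (ap φ₁ O h)) • rF (EE f) hO (tE i))
    (hK₂ : ∀ (O : Y.Opens) (hO : O ≤ U) (h : Γ(F₂, O)),
      ap ι₂ O h = ∑ i : Fin 1, ofM ((projM i).app O (ap φ₂ O h)) •
        rF (FlatMod.freeMod Y 1) hO (tL (disc f U tE) i))
    (z : Y) (hcl : IsClosed ((U : Set Y)ᶜ \ {z}))
    (h1 : FinL (Algz.stalkMapₗ ι₁ z)) (h2 : FinL (Algz.stalkMapₗ φ₁ z))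
    (h3 : FinL (Algz.stalkMapₗ ι₂ z)) (h4 : FinL (Algz.stalkMapₗ φ₂ z)) :
    2 * (idx (Algz.stalkMapₗ ι₁ z) - idx (Algz.stalkMapₗ φ₁ z)) ≤
      idx (Algz.stalkMapₗ ι₂ z) - idx (Algz.stalkMapₗ φ₂ z) := by
  haveI : ∀ r : ℕ, (FlatMod.freeMod Y r).IsQuasicoherent := fun r => (DegPull.isCoh_freeMod r).1
  obtain ⟨U₀, hzU₀, ⟨α⟩⟩ := hE z
  obtain ⟨W₁, -, hzW₁, -, γ₁, hγ₁⟩ := exists_affine_bases (EE f) hzU₀ α
  let W₀ : Y.Opens := W₁ ⊓ ⟨((U : Set Y)ᶜ \ {z})ᶜ, hcl.isOpen_compl⟩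
  have hzW₀ : z ∈ W₀ := ⟨hzW₁, fun h => h.2 rfl⟩
  obtain ⟨W, hW, hzW, hWW₀, s, hzs, hτ⟩ := exists_param_section hdim z W₀ hzW₀
  have hWW₁ : W ≤ W₁ := hWW₀.trans inf_le_left
  let γ : Fin n → Γ(EE f, W) := fun j => rF (EE f) hWW₁ (γ₁ j)
  have hγ : ∀ (O : Y.Opens) (hO : O ≤ W), BasisOn (EE f) γ O hO :=
    fun O hO => BasisOn.of_rF (EE f) γ₁ hWW₁ hO (hγ₁ O (hO.trans hWW₁))
  have hs : Y.basicOpen s ≤ U := by
    intro x hx
    have hxW₀ : x ∈ W₀ := hWW₀ (Y.basicOpen_le s hx)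
    by_contra hxU
    have hxz : x ≠ z := fun h => hzs (h ▸ hx)
    exact hxW₀.2 ⟨hxU, hxz⟩
  obtain ⟨N, Q, hrelE⟩ := exists_transition (EE f) hW s hs tE γ (hγ _ _)
  have hdrel := disc_relation f tE htE γ hγ s hs Q N hrelE
  let Dγ : Γ(Y, W) := disc f W γ
  have hDγ : Dγ ≠ 0 := hdisc W hW ⟨z, hzW⟩ γ (hγ W le_rfl)
  let γL : Fin 1 → Γ(FlatMod.freeMod Y 1, W) := stdSec 1 W
  let Q' : Matrix (Fin 1) (Fin 1) Γ(Y, W) :=
    (Q.det * (Q.det * Dγ)) • (1 : Matrix (Fin 1) (Fin 1) Γ(Y, W))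
  have hrelL : ∀ i : Fin 1, rX (Y.basicOpen_le s) s ^ (2 * (n * N)) •
      rF (FlatMod.freeMod Y 1) hs (tL (disc f U tE) i) =
      ∑ j, rX (Y.basicOpen_le s) (Q' j i) •
        rF (FlatMod.freeMod Y 1) (Y.basicOpen_le s) (γL j) := by
    intro i
    rw [Fin.sum_univ_one, rF_tL, smul_smul, hdrel]
    have hQ0 : Q' 0 i = Q.det * (Q.det * Dγ) := by
      rw [Subsingleton.elim i 0]
      simp [Q']
    rw [hQ0, Subsingleton.elim i 0]
    congr 1
    exact (rF_stdSec 1 (Y.basicOpen_le s) 0).symm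
  -- the relations at the stalk
  have hp := stalk_relation ι₁ φ₁ U tE hK₁ hzW γ s hs Q N hrelE
  have hq := stalk_relation ι₂ φ₂ U (tL (disc f U tE)) hK₂ hzW γL s hs Q' (2 * (n * N)) hrelL
  -- bases of the stalks
  obtain ⟨b₁, hb₁⟩ := stalkBasis (EE f) hW hzW γ (hγ W le_rfl)
  obtain ⟨b₂, hb₂⟩ := stalkBasis (FlatMod.freeMod Y n) hW hzW (stdSec n W)
    (basisOn_stdSec n W W le_rfl)
  obtain ⟨c₁, hc₁⟩ := stalkBasis (FlatMod.freeMod Y 1) hW hzW (stdSec 1 W)
    (basisOn_stdSec 1 W W le_rfl)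
  haveI : IsNoetherianRing Γ(Y, W) := IsLocallyNoetherian.component_noetherian ⟨W, hW⟩
  have hQ'z : Q'.map (Y.presheaf.germ W z hzW).hom =
      ((Q.map (Y.presheaf.germ W z hzW).hom).det *
        ((Q.map (Y.presheaf.germ W z hzW).hom).det * (Y.presheaf.germ W z hzW).hom Dγ)) •
        (1 : Matrix (Fin 1) (Fin 1) (Y.presheaf.stalk z)) := by
    rw [map_scalar, map_mul, map_mul]
    congr 2
    · exact RingHom.map_det (Y.presheaf.germ W z hzW).hom Q
    · congr 1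
      exact RingHom.map_det (Y.presheaf.germ W z hzW).hom Q
  have hDz : (Y.presheaf.germ W z hzW).hom Dγ ∈ nonZeroDivisors (Y.presheaf.stalk z) := by
    apply mem_nonZeroDivisors_of_ne_zero
    intro h0
    apply hDγ
    apply germ_injective_of_isIntegral Y z hzW
    rw [h0, map_zero]
  refine local_compare_sq_bases ((Y.presheaf.germ W z hzW).hom s) hτ n N
    (Q.map (Y.presheaf.germ W z hzW).hom) _ hDz (Q'.map (Y.presheaf.germ W z hzW).hom) hQ'z
    b₁ b₂ c₁ c₁ _ _ _ _ h1 h2 h3 h4 ?_ ?_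
  · intro x
    obtain ⟨c, hc, k, hk⟩ := hp x
    refine ⟨c, ?_, k, ?_⟩
    · rw [hc]
      exact Finset.sum_congr rfl (fun i _ => by rw [hb₂])
    · rw [← hk]
      congr 2
      exact Finset.sum_congr rfl (fun j _ => by rw [hb₁]; rfl)
  · intro x
    obtain ⟨c, hc, k, hk⟩ := hq x
    refine ⟨c, ?_, k, ?_⟩
    · rw [hc]
      exact Finset.sum_congr rfl (fun i _ => by rw [hc₁])
    · rw [← hk]
      congr 2
      exact Finset.sum_congr rfl (fun j _ => by rw [hc₁]; rfl)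

end Local

end DiscDeg
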