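import Mathlib
import Groth.Prelude
import Groth.Agent.Lib.DiscDeg2_helper9
import Groth.Agent.Lib.CohDev17_helper8

/-!
# `χ(O_X) ≤ n χ(O_Y)` for generically étale finite locally free covers of curves (helper9)
APPEND-ONLY once landed.
-/

set_option autoImplicit false
universe u
open CategoryTheory CategoryTheory.Limits AlgebraicGeometry Opposite TopologicalSpace

namespace DiscDeg

open QcqsLoc QCohExtn FLFH8 GenLocH8 TensH8 SDivGenH8 SDivFreeH8 Groth.Agent.Idx9 DetDeg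
open SerreCrit

section UnitSmul

variable {R M ι : Type*} [CommRing R] [AddCommGroup M] [Module R M]

theorem basis_unit_smul (u : R) (hu : IsUnit u) (e : ι → M)
    (hs : Submodule.span R (Set.range e) = ⊤) (hl : LinearIndependent R e) :
    Submodule.span R (Set.range fun j => u • e j) = ⊤ ∧
      LinearIndependent R (fun j => u • e j) := by
  obtain ⟨v, rfl⟩ := hu
  constructor
  · rw [eq_top_iff, ← hs, Submodule.span_le]
    rintro _ ⟨j, rfl⟩
    have h1 : e j = (↑v⁻¹ : R) • ((v : R) • e j) := by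
      rw [smul_smul, Units.inv_mul, one_smul]
    rw [h1]
    exact Submodule.smul_mem _ _ (Submodule.subset_span ⟨j, rfl⟩)
  · exact hl.units_smul (fun _ => v)

end UnitSmul

section Wt

variable (k : Type u) [Field k] (X : Scheme.{u}) [X.Over (Spec (CommRingCat.of k))]
  [IsProper (X ↘ Spec (CommRingCat.of k))]

theorem wt_nonneg (z : X) (hz : IsClosed ({z} : Set X)) : 0 ≤ wt k X z := by
  haveI : IsLocallyNoetherian X :=
    LocallyOfFiniteType.isLocallyNoetherian (X ↘ Spec (CommRingCat.of k))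
  unfold wt
  split_ifs with h
  · have hc := CohDevH8.isCoh_closureStructureSheaf z
    rw [eulerHom_clSub k X _ hc, CurveDeg.euler_eq_finrank_of_closed_support k X _ hc]
    · exact Int.natCast_nonneg _
    · intro x hx
      have h1 := CohDevH8.support_closureStructureSheaf_subset z hx
      rw [hz.closure_eq] at h1
      rw [Set.mem_singleton_iff.mp h1]
      exact hz
  · exact le_rfl

end Wt

section Main

variable (k : Type u) [Field k] {X Y : Scheme.{u}} [Y.Over (Spec (CommRingCat.of k))]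
  [IsProper (Y ↘ Spec (CommRingCat.of k))] [IsIntegral Y]

/-- **the degree of `f_* O_X` is nonpositive** when the generic discriminant does not vanish -/
theorem euler_push_le (hdim : topologicalKrullDim Y ≤ 1) (f : X ⟶ Y) [IsFinite f] (n : ℕ)
    (hE : FlatMod.IsFinLocFreeOfRank n (EE f))
    (hdisc : ∀ (W : Y.Opens), IsAffineOpen W → (W : Set Y).Nonempty →
      ∀ γ : Fin n → Γ(EE f, W), BasisOn (EE f) γ W le_rfl → disc f W γ ≠ 0) :
    Curv2.euler k Y (EE f) ≤ n * Curv2.euler k Y (Coh.structureModule Y) := by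
  haveI : IsLocallyNoetherian Y :=
    LocallyOfFiniteType.isLocallyNoetherian (Y ↘ Spec (CommRingCat.of k))
  haveI : CompactSpace Y :=
    QuasiCompact.compactSpace_of_compactSpace (Y ↘ Spec (CommRingCat.of k))
  haveI : IsNoetherian Y := {}
  haveI : Nonempty Y := inferInstance
  have hEc : Coh.IsCoh (EE f) := BirCurve.isCoh_push_OO f
  haveI := hEc.1
  -- a dense affine open with a basis
  obtain ⟨U₀, hU₀, hU₀d, g, hgs, hgl⟩ := DegPull.exists_dense_affine_basis (F := EE f) hE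
  obtain ⟨α⟩ := iso_of_basis (EE f) hU₀ g hgs hgl
  obtain ⟨t₀, ht₀⟩ := exists_sections_of_iso (EE f) α
  have hU₀' : U₀.ι ''ᵁ ⊤ = U₀ := by
    rw [Scheme.Hom.image_top_eq_opensRange, Scheme.Opens.opensRange_ι]
  let t₁ : Fin n → Γ(EE f, U₀) := fun j => rF (EE f) hU₀'.ge (t₀ j)
  have ht₁ : ∀ (O : Y.Opens) (hO : O ≤ U₀), BasisOn (EE f) t₁ O hO :=
    fun O hO => BasisOn.of_rF (EE f) t₀ hU₀'.ge hO (ht₀ O (hO.trans hU₀'.ge))
  -- shrink to the locus where the discriminant is invertible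
  have hd₀ : disc f U₀ t₁ ≠ 0 := hdisc U₀ hU₀ hU₀d.nonempty t₁ (ht₁ U₀ le_rfl)
  let U : Y.Opens := Y.basicOpen (disc f U₀ t₁)
  have hUU₀ : U ≤ U₀ := Y.basicOpen_le _
  have hU : IsAffineOpen U := hU₀.basicOpen _
  have hUne : (U : Set Y).Nonempty := by
    by_contra hne
    apply hd₀
    have hbot : U = ⊥ := by
      ext x
      simp only [Opens.coe_bot, Set.mem_empty_iff_false, iff_false]
      exact fun hx => hne ⟨x, hx⟩
    exact (basicOpen_eq_bot_iff _).mp hbot
  have hUd : Dense (U : Set Y) := U.isOpen.dense hUne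
  let tE : Fin n → Γ(EE f, U) := fun j => rF (EE f) hUU₀ (t₁ j)
  have htE : ∀ (O : Y.Opens) (hO : O ≤ U), BasisOn (EE f) tE O hO :=
    fun O hO => BasisOn.of_rF (EE f) t₁ hUU₀ hO (ht₁ O (hO.trans hUU₀))
  have hd : disc f U tE = rX hUU₀ (disc f U₀ t₁) :=
    disc_res f hUU₀ t₁ (ht₁ U₀ le_rfl) (ht₁ U hUU₀) t₁
  have hdu : IsUnit (disc f U tE) := by
    rw [hd]
    exact RingedSpace.isUnit_res_basicOpen _ _
  have htL : ∀ (O : Y.Opens) (hO : O ≤ U),
      BasisOn (FlatMod.freeMod Y 1) (tL (disc f U tE)) O hO := by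
    intro O hO
    have h0 := basisOn_stdSec (X := Y) 1 U O hO
    have e : (fun j => rF (FlatMod.freeMod Y 1) hO (tL (disc f U tE) j)) =
        fun j => rX hO (disc f U tE) • rF (FlatMod.freeMod Y 1) hO (stdSec 1 U j) := by
      funext j
      rw [rF_tL, rF_stdSec]
    unfold BasisOn
    rw [e]
    exact basis_unit_smul _ (hdu.map (rX hO)) _ h0.1 h0.2
  -- roofs
  have hO1 := DegPull.isCoh_freeMod (X := Y) 1
  have hOn := DegPull.isCoh_freeMod (X := Y) n
  obtain ⟨F₁, ι₁, φ₁, hF₁, hι₁, hφ₁, hK₁⟩ := exists_roof (EE f) hEc U tE htE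
  obtain ⟨F₂, ι₂, φ₂, hF₂, hι₂, hφ₂, hK₂⟩ :=
    exists_roof (FlatMod.freeMod Y 1) hO1 U (tL (disc f U tE)) htL
  -- the finite set of points outside `U`
  have hclosed : ∀ x : Y, x ∉ U → IsClosed ({x} : Set Y) := fun x hx =>
    BirCurve.isClosed_singleton_of_notMem_dense hdim U hUd x hx
  have hBfin : ((U : Set Y)ᶜ).Finite := by
    have hfm := CycLenH8.finite_maximal_points (X := Y) (Z₀ := (U : Set Y)ᶜ)
      U.isOpen.isClosed_compl
    refine hfm.subset (fun x hx => ⟨hx, fun t ht htx => ?_⟩)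
    have h1 : x ∈ closure ({t} : Set Y) := specializes_iff_mem_closure.mp htx
    rw [(hclosed t ht).closure_eq] at h1
    exact (Set.mem_singleton_iff.mp h1).symm
  let B : Finset Y := hBfin.toFinset
  have hBU : (B : Set Y) = (U : Set Y)ᶜ := hBfin.coe_toFinset
  have hB : ∀ z ∈ B, IsClosed ({z} : Set Y) := fun z hz =>
    hclosed z (by
      have : z ∈ (B : Set Y) := hz
      rw [hBU] at this
      exact this)
  haveI := hι₁
  haveI := hφ₁
  haveI := hι₂
  haveI := hφ₂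
  obtain ⟨f1, e1⟩ := euler_sub_eq_sum k Y B hB hF₁ hEc ι₁
    (hBU ▸ DeligneH8.support_kernel_subset_compl' hF₁ hEc ι₁ U)
    (hBU ▸ DeligneH8.support_cokernel_subset_compl' hF₁ hEc ι₁ U)
  obtain ⟨f2, e2⟩ := euler_sub_eq_sum k Y B hB hF₁ hOn φ₁
    (hBU ▸ DeligneH8.support_kernel_subset_compl' hF₁ hOn φ₁ U)
    (hBU ▸ DeligneH8.support_cokernel_subset_compl' hF₁ hOn φ₁ U)
  obtain ⟨f3, e3⟩ := euler_sub_eq_sum k Y B hB hF₂ hO1 ι₂
    (hBU ▸ DeligneH8.support_kernel_subset_compl' hF₂ hO1 ι₂ U)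
    (hBU ▸ DeligneH8.support_cokernel_subset_compl' hF₂ hO1 ι₂ U)
  obtain ⟨f4, e4⟩ := euler_sub_eq_sum k Y B hB hF₂ hO1 φ₂
    (hBU ▸ DeligneH8.support_kernel_subset_compl' hF₂ hO1 φ₂ U)
    (hBU ▸ DeligneH8.support_cokernel_subset_compl' hF₂ hO1 φ₂ U)
  have hfree_n : Curv2.euler k Y (FlatMod.freeMod Y n) =
      n * Curv2.euler k Y (Coh.structureModule Y) :=
    DegPull.euler_freeMod k Y (𝟭 _) (fun S hS => hS.map_of_exact (𝟭 _)) (fun A hA => hA) n
  -- the local comparison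
  have hloc : ∀ z ∈ B, 2 * (idx (Algz.stalkMapₗ ι₁ z) - idx (Algz.stalkMapₗ φ₁ z)) ≤
      idx (Algz.stalkMapₗ ι₂ z) - idx (Algz.stalkMapₗ φ₂ z) := fun z hz =>
    local_claim f hdim hE hdisc tE htE ι₁ φ₁ ι₂ φ₂ hK₁ hK₂ z
      (BirCurve.isClosed_of_subset_compl_dense hdim U hUd _ Set.sdiff_subset)
      (f1 z hz) (f2 z hz) (f3 z hz) (f4 z hz)
  have key : 2 * (∑ z ∈ B, idx (Algz.stalkMapₗ ι₁ z) * wt k Y z -
      ∑ z ∈ B, idx (Algz.stalkMapₗ φ₁ z) * wt k Y z) ≤
      ∑ z ∈ B, idx (Algz.stalkMapₗ ι₂ z) * wt k Y z -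
        ∑ z ∈ B, idx (Algz.stalkMapₗ φ₂ z) * wt k Y z := by
    rw [← Finset.sum_sub_distrib, ← Finset.sum_sub_distrib, Finset.mul_sum]
    apply Finset.sum_le_sum
    intro z hz
    rw [← sub_mul, ← sub_mul, ← mul_assoc]
    exact mul_le_mul_of_nonneg_right (hloc z hz) (wt_nonneg k Y z (hB z hz))
  rw [← e1, ← e2, ← e3, ← e4, hfree_n] at key
  linarith

end Main

end DiscDeg
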