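import Mathlib
import Groth.Prelude
import Groth.Agent.Lib.DiscDeg3_helper9
import Groth.Agent.Lib.FreeLoc1_helper8
import Groth.Agent.Lib.VBCurve1_helper9
import Groth.Agent.Lib.RefHull3_helper8
import Groth.Agent.Lib.ProjSpaceProper_helper4

/-!
# Finite separable covers of normal curves: `χ(O_X) ≤ n χ(O_Y)` (helper9)
APPEND-ONLY once landed.
-/

set_option autoImplicit false
universe u
open CategoryTheory CategoryTheory.Limits AlgebraicGeometry Opposite TopologicalSpace

namespace DiscDeg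

open QcqsLoc QCohExtn FLFH8 SerreCrit

section Generic

variable {X Y : Scheme.{u}} [IsIntegral X] [IsIntegral Y] (f : X ⟶ Y)
  (e : f (genericPoint X) = genericPoint Y)

/-- the map of function fields -/
noncomputable def φKL : Y.functionField →+* X.functionField :=
  (Y.presheaf.stalkSpecializes (specializes_of_eq e) ≫ f.stalkMap (genericPoint X)).hom

omit [IsIntegral X] in
theorem generic_mem (V : Y.Opens) (hV : (V : Set Y).Nonempty) : genericPoint Y ∈ V :=
  ((genericPoint_spec Y).mem_open_set_iff V.isOpen).mpr (by simpa using hV)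

include e in
theorem generic_mem_preimage (V : Y.Opens) (hV : (V : Set Y).Nonempty) :
    genericPoint X ∈ f ⁻¹ᵁ V := by
  show f (genericPoint X) ∈ V
  rw [e]
  exact generic_mem V hV

theorem φKL_germ (V : Y.Opens) (hV : (V : Set Y).Nonempty) (a : Γ(Y, V)) :
    φKL f e (Y.presheaf.germ V (genericPoint Y) (generic_mem V hV) a) =
      X.presheaf.germ (f ⁻¹ᵁ V) (genericPoint X) (generic_mem_preimage f e V hV) (f.app V a) := by
  unfold φKL
  rw [CommRingCat.hom_comp, RingHom.comp_apply]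
  have h1 := TopCat.Presheaf.germ_stalkSpecializes Y.presheaf (generic_mem V hV)
    (specializes_of_eq e)
  have h2 : (Y.presheaf.stalkSpecializes (specializes_of_eq e)).hom
      (Y.presheaf.germ V (genericPoint Y) (generic_mem V hV) a) =
      Y.presheaf.germ V (f (genericPoint X)) (generic_mem_preimage f e V hV) a :=
    congrArg (fun ψ => ψ.hom a) h1
  rw [h2]
  exact Scheme.Hom.germ_stalkMap_apply f V (genericPoint X) _ a

include e in
theorem app_injective (V : Y.Opens) (hV : (V : Set Y).Nonempty) :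
    Function.Injective (f.app V).hom := by
  rw [injective_iff_map_eq_zero]
  intro a ha
  have h1 := φKL_germ f e V hV a
  rw [ha, map_zero] at h1
  have h2 : Y.presheaf.germ V (genericPoint Y) (generic_mem V hV) a = 0 :=
    (map_eq_zero_iff (φKL f e) (φKL f e).injective).mp h1
  apply germ_injective_of_isIntegral Y _ (generic_mem V hV)
  rw [h2, map_zero]

end Generic

section TorsionFree

variable {X Y : Scheme.{u}} [IsIntegral X] [IsIntegral Y] (f : X ⟶ Y)
  (e : f (genericPoint X) = genericPoint Y)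

open Groth.Agent.Lib.QCohLoc_helper4 in
include e in
theorem stalk_torsionFree (y : Y) :
    Module.IsTorsionFree (Y.presheaf.stalk y) ((EE f).presheaf.stalk y) := by
  refine Module.IsTorsionFree.of_smul_eq_zero (fun r m hrm => ?_)
  by_cases hr : r = 0
  · exact Or.inl hr
  right
  obtain ⟨V₁, hy₁, a₀, rfl⟩ := TopCat.Presheaf.exists_germ_eq Y.presheaf r
  obtain ⟨V₂, hy₂, b₀, rfl⟩ := TopCat.Presheaf.exists_germ_eq (EE f).presheaf m
  have hyV : y ∈ V₁ ⊓ V₂ := ⟨hy₁, hy₂⟩
  have ha : Y.presheaf.germ (V₁ ⊓ V₂) y hyV (rX inf_le_left a₀) = Y.presheaf.germ V₁ y hy₁ a₀ :=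
    TopCat.Presheaf.germ_res_apply Y.presheaf (homOfLE inf_le_left) y hyV a₀
  have hb : (EE f).presheaf.germ (V₁ ⊓ V₂) y hyV (rF (EE f) inf_le_right b₀) =
      (EE f).presheaf.germ V₂ y hy₂ b₀ := SecOrdH8.germ_rF (EE f) inf_le_right y hyV b₀
  rw [← ha, ← hb, ← germ_smul] at hrm
  obtain ⟨W, hW, hyW, h0⟩ := (RefHullH8.germ_eq_zero_iff (EE f) y hyV _).mp hrm
  rw [rF_smul, rF_rF, rX_rX] at h0
  rw [← hb, ← SecOrdH8.germ_rF (EE f) hW y hyW, rF_rF]
  have hWne : (W : Set Y).Nonempty := ⟨y, hyW⟩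
  haveI : Nonempty ↥((f ⁻¹ᵁ W : X.Opens) : Scheme.{u}) :=
    ⟨⟨genericPoint X, generic_mem_preimage f e W hWne⟩⟩
  have h1 : (f.app W).hom (rX (hW.trans inf_le_left) a₀) *
      secB f W (rF (EE f) (hW.trans inf_le_right) b₀) = 0 := h0
  have ha0 : rX (hW.trans inf_le_left) a₀ ≠ 0 := by
    intro h
    apply hr
    rw [← TopCat.Presheaf.germ_res_apply Y.presheaf (homOfLE (hW.trans inf_le_left)) y hyW a₀]
    show (Y.presheaf.germ W y hyW) (rX (hW.trans inf_le_left) a₀) = 0
    rw [h, map_zero]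
  have h2 : (f.app W).hom (rX (hW.trans inf_le_left) a₀) ≠ 0 := fun h =>
    ha0 (app_injective f e W hWne (by rw [h, map_zero]))
  haveI : IsDomain Γ(X, f ⁻¹ᵁ W) := IsIntegral.component_integral (f ⁻¹ᵁ W)
  have h3 : secB f W (rF (EE f) (hW.trans inf_le_right) b₀) = 0 :=
    (mul_eq_zero.mp h1).resolve_left h2
  have h4 : rF (EE f) (hW.trans inf_le_right) b₀ = 0 := h3
  rw [h4, map_zero]

end TorsionFree

section LocFree

variable {X Y : Scheme.{u}} [IsIntegral X] [IsIntegral Y] [IsLocallyNoetherian Y] (f : X ⟶ Y)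
  [IsFinite f] (e : f (genericPoint X) = genericPoint Y)

include e in
/-- over a normal scheme of dimension at most one, `f_* O_X` is finite locally free of some
positive rank -/
theorem exists_rank (hn : Pi1.IsNormalScheme Y) (hdim : topologicalKrullDim Y ≤ 1) :
    ∃ n : ℕ, 0 < n ∧ FlatMod.IsFinLocFreeOfRank n (EE f) := by
  have hEc : Coh.IsCoh (EE f) := BirCurve.isCoh_push_OO f
  haveI := hEc.1
  haveI := hEc.2
  have hfree : ∀ y : Y, Module.Free (Y.presheaf.stalk y) ((EE f).presheaf.stalk y) := by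
    intro y
    refine FreeLocH8.free_stalk_of_coheight_le_one hn (EE f) hEc y ?_ (stalk_torsionFree f e y)
    apply FreeLocH8.coheight_le_one_of_not_two_le
    intro h2
    have h1 := BirCurve.ringKrullDim_stalk_le hdim y
    have h3 : (2 : WithBot ℕ∞) ≤ 1 := h2.trans h1
    exact absurd h3 (by decide)
  haveI : SheafOfModules.IsFinitePresentation (R := Y.ringCatSheaf) (EE f) :=
    QCohFP2.isFinitePresentation_of_sections_cover (EE f) (fun W : Y.affineOpens => W.1)
      (fun W => W.2) (iSup_affineOpens_eq_top Y) (fun W => by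
        haveI : IsNoetherianRing Γ(Y, W.1) := IsLocallyNoetherian.component_noetherian W
        have hfin : (f.app W.1).hom.Finite := f.finite_app W.1 W.2
        letI := (f.app W.1).hom.toAlgebra
        haveI : Module.Finite Γ(Y, W.1) Γ(X, f ⁻¹ᵁ W.1) := hfin
        haveI : Module.Finite Γ(Y, W.1) Γ(EE f, W.1) :=
          Module.Finite.equiv (BirCurve.pushSecEquiv f W.1)
        exact Module.finitePresentation_of_finite _ _)
  have hlf : FlatMod.IsFinLocFree (EE f) := fun y => by
    obtain ⟨U, n, hyU, hα⟩ := FLFH8.exists_free_nhd (EE f) y (hfree y)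
    exact ⟨U, n, hyU, hα⟩
  obtain ⟨n, hn'⟩ := VBCurve.exists_rank hlf
  refine ⟨n, Nat.pos_of_ne_zero (fun h0 => ?_), hn'⟩
  subst h0
  have hz := VBCurve.isZero_of_rank_zero hn'
  haveI : Nonempty ↥((f ⁻¹ᵁ (⊤ : Y.Opens) : X.Opens) : Scheme.{u}) :=
    ⟨⟨genericPoint X, trivial⟩⟩
  haveI : IsDomain Γ(X, f ⁻¹ᵁ (⊤ : Y.Opens)) := IsIntegral.component_integral _
  have h1 : (1 : Γ(X, f ⁻¹ᵁ (⊤ : Y.Opens))) = 0 := by
    have h2 : ∀ s : Γ(EE f, ⊤), s = 0 := fun s => by
      have h3 : 𝟙 (EE f) = 0 := hz.eq_of_src _ _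
      have h4 : ap (𝟙 (EE f)) ⊤ s = ap (0 : EE f ⟶ EE f) ⊤ s := by rw [h3]
      exact h4
    exact h2 (1 : Γ(X, f ⁻¹ᵁ (⊤ : Y.Opens)))
  exact one_ne_zero h1

end LocFree

section Sep

open scoped nonZeroDivisors

variable {X Y : Scheme.{u}} [IsIntegral X] [IsIntegral Y] (f : X ⟶ Y) [IsFinite f]
  (e : f (genericPoint X) = genericPoint Y)

/-- the discriminant of a basis does not vanish when the function field extension is separable -/
theorem disc_ne_zero_of_separable
    (hsep : letI := (φKL f e).toAlgebra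
      Algebra.IsSeparable Y.functionField X.functionField)
    {n : ℕ} (W : Y.Opens) (hW : IsAffineOpen W) (hWne : (W : Set Y).Nonempty)
    (γ : Fin n → Γ(EE f, W)) (hγ : BasisOn (EE f) γ W le_rfl) : disc f W γ ≠ 0 := by
  letI algKL : Algebra Y.functionField X.functionField := (φKL f e).toAlgebra
  haveI : Nonempty ↥((W : Y.Opens) : Scheme.{u}) := ⟨⟨genericPoint Y, generic_mem W hWne⟩⟩
  haveI : Nonempty ↥((f ⁻¹ᵁ W : X.Opens) : Scheme.{u}) :=
    ⟨⟨genericPoint X, generic_mem_preimage f e W hWne⟩⟩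
  letI algAB : Algebra Γ(Y, W) Γ(X, f ⁻¹ᵁ W) := (f.app W).hom.toAlgebra
  letI algAL : Algebra Γ(Y, W) X.functionField :=
    ((algebraMap Y.functionField X.functionField).comp
      (algebraMap Γ(Y, W) Y.functionField)).toAlgebra
  haveI : IsScalarTower Γ(Y, W) Y.functionField X.functionField :=
    IsScalarTower.of_algebraMap_eq (fun _ => rfl)
  haveI : IsScalarTower Γ(Y, W) Γ(X, f ⁻¹ᵁ W) X.functionField :=
    IsScalarTower.of_algebraMap_eq (fun a => φKL_germ f e W hWne a)
  haveI : IsFractionRing Γ(Y, W) Y.functionField :=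
    functionField_isFractionRing_of_isAffineOpen Y W hW
  haveI : IsFractionRing Γ(X, f ⁻¹ᵁ W) X.functionField :=
    functionField_isFractionRing_of_isAffineOpen X (f ⁻¹ᵁ W) (hW.preimage f)
  haveI : IsDomain Γ(Y, W) := IsIntegral.component_integral W
  haveI : IsDomain Γ(X, f ⁻¹ᵁ W) := IsIntegral.component_integral (f ⁻¹ᵁ W)
  haveI : FaithfulSMul Γ(Y, W) Γ(X, f ⁻¹ᵁ W) :=
    (faithfulSMul_iff_algebraMap_injective _ _).mpr (app_injective f e W hWne)
  haveI : Module.Finite Γ(Y, W) Γ(X, f ⁻¹ᵁ W) := f.finite_app W hW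
  haveI : Algebra.IsAlgebraic Γ(Y, W) Γ(X, f ⁻¹ᵁ W) := Algebra.IsIntegral.isAlgebraic
  haveI : IsLocalization (Algebra.algebraMapSubmonoid Γ(X, f ⁻¹ᵁ W) Γ(Y, W)⁰)
      X.functionField := inferInstance
  let b := basisOf f γ hγ
  let bK := b.localizationLocalization Y.functionField Γ(Y, W)⁰ X.functionField
  haveI : Module.Finite Y.functionField X.functionField := Module.Finite.of_basis bK
  haveI : Algebra.IsSeparable Y.functionField X.functionField := hsep
  have h1 := Algebra.discr_not_zero_of_basis Y.functionField bK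
  have h2 := Algebra.discr_localizationLocalization (Rₘ := Y.functionField) Γ(Y, W) Γ(Y, W)⁰
    X.functionField b
  intro h0
  apply h1
  rw [h2]
  have h3 : Algebra.discr Γ(Y, W) b = disc f W γ := by
    unfold disc
    congr 1
    funext i
    exact basisOf_apply f γ hγ i
  rw [h3, h0, map_zero]

end Sep

section Main11572

variable (k : Type u) [Field k] (X Y : Scheme.{u}) [X.Over (Spec (CommRingCat.of k))]
  [Y.Over (Spec (CommRingCat.of k))]

/-- **S11572** -/
theorem main11572
    (hprojY : ∃ (N : ℕ) (i : Y ⟶ CohB1.ProjSpace N k), IsClosedImmersion i ∧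
      i ≫ CohB1.ProjSpace.toSpec N k = Y ↘ (Spec (CommRingCat.of k)))
    [IsIntegral X] [IsIntegral Y] (hdY : topologicalKrullDim Y = 1)
    (hnY : Pi1.IsNormalScheme Y)
    (f : X ⟶ Y) [IsFinite f]
    (hf : f ≫ (Y ↘ (Spec (CommRingCat.of k))) = X ↘ (Spec (CommRingCat.of k)))
    (e : f (genericPoint X) = genericPoint Y)
    (hsep : letI := ((Y.presheaf.stalkSpecializes (specializes_of_eq e) ≫
        f.stalkMap (genericPoint X)).hom).toAlgebra
      Algebra.IsSeparable Y.functionField X.functionField)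
    (hpa : 0 ≤ 1 - Curv2.euler k X (Coh.structureModule X)) :
    1 - Curv2.euler k Y (Coh.structureModule Y) ≤
      1 - Curv2.euler k X (Coh.structureModule X) := by
  obtain ⟨N, i, hi, hic⟩ := hprojY
  haveI : IsProper (CohB1.ProjSpace.toSpec N k) :=
    Groth.Agent.Lib.ProjSpaceProperH4.isProper_toSpec N k
  haveI : IsProper (Y ↘ Spec (CommRingCat.of k)) := by
    rw [← hic]
    infer_instance
  haveI : IsLocallyNoetherian Y :=
    LocallyOfFiniteType.isLocallyNoetherian (Y ↘ Spec (CommRingCat.of k))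
  obtain ⟨n, hn0, hE⟩ := exists_rank f e hnY hdY.le
  have h1 := euler_push_le k hdY.le f n hE
    (fun W hW hWne γ hγ => disc_ne_zero_of_separable f e hsep W hW hWne γ hγ)
  haveI : (OO X).IsQuasicoherent := SerreCrit.isQuasicoherent_OO
  have h2 := BirCurve.euler_push k f hf (OO X)
  rw [h2] at h1
  have hn1 : (1 : ℤ) ≤ n := by exact_mod_cast hn0
  rcases le_or_gt 1 (Curv2.euler k Y (Coh.structureModule Y)) with hb | hb
  · linarith
  · have hb' : Curv2.euler k Y (Coh.structureModule Y) ≤ 0 := by omega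
    nlinarith

end Main11572

end DiscDeg
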