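import Groth.Agent.Lib.EtNormal3_helper4
import Groth.Agent.S9407

/-!
# Reducedness and normality of local rings at smooth points (helper4)
-/

universe u

set_option linter.style.haveILetI false

open TensorProduct AlgebraicGeometry CategoryTheory

namespace Groth.Agent.Lib.EtNormal5H4

section BaseChange

attribute [local instance] Algebra.TensorProduct.rightAlgebra

/-- Let `R → B` be smooth, `q` a prime of `B`, and `A` a localization of `R` which is reduced and
through which `R → B_q` factors. Then `B_q` is reduced. -/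
theorem reduced_of_smooth {R B : Type u} [CommRing R] [CommRing B] [Algebra R B]
    [Algebra.Smooth R B]
    (q : Ideal B) [q.IsPrime] (Bq : Type u) [CommRing Bq] [Algebra B Bq]
    [IsLocalization.AtPrime Bq q]
    (M : Submonoid R) (A : Type u) [CommRing A] [Algebra R A] [IsLocalization M A] [IsReduced A]
    [Algebra A Bq] [Algebra R Bq] [IsScalarTower R A Bq]
    [IsScalarTower R B Bq] : IsReduced Bq := by
  haveI : IsLocalization (Algebra.algebraMapSubmonoid B M) (A ⊗[R] B) :=
    IsLocalization.tensorRight (R := R) (S := B) A M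
  let ψ : A ⊗[R] B →ₐ[A] Bq :=
    Algebra.TensorProduct.lift (Algebra.ofId A Bq) (IsScalarTower.toAlgHom R B Bq)
      (fun _ _ => Commute.all _ _)
  letI : Algebra (A ⊗[R] B) Bq := ψ.toRingHom.toAlgebra
  have hcompB : algebraMap B Bq = (algebraMap (A ⊗[R] B) Bq).comp (algebraMap B (A ⊗[R] B)) := by
    ext b
    simp [RingHom.algebraMap_toAlgebra, ψ]
  haveI : IsScalarTower B (A ⊗[R] B) Bq := IsScalarTower.of_algebraMap_eq' hcompB
  have hle : Algebra.algebraMapSubmonoid B M ≤ q.primeCompl := by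
    rintro _ ⟨r, hr, rfl⟩
    rw [← IsLocalization.AtPrime.isUnit_to_map_iff Bq q]
    have h1 : algebraMap B Bq (algebraMap R B r) = algebraMap A Bq (algebraMap R A r) := by
      rw [← IsScalarTower.algebraMap_apply, ← IsScalarTower.algebraMap_apply]
    rw [h1]
    exact (IsLocalization.map_units A ⟨r, hr⟩).map _
  haveI : IsLocalization (q.primeCompl.map (algebraMap B (A ⊗[R] B))) Bq :=
    IsLocalization.isLocalization_of_submonoid_le (A ⊗[R] B) Bq
      (Algebra.algebraMapSubmonoid B M) q.primeCompl hle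
  haveI : IsReduced (A ⊗[R] B) := Groth.Agent.S9407.result A (A ⊗[R] B)
  exact isReduced_localizationPreserves (q.primeCompl.map (algebraMap B (A ⊗[R] B))) Bq
    inferInstance

end BaseChange

/-- Local rings at points of a smooth morphism: reducedness and normality ascend. -/
theorem stalk_of_smooth {X Y : Scheme.{u}} (f : X ⟶ Y) [Smooth f] (x : X) :
    (IsReduced (Y.presheaf.stalk (f x)) → IsReduced (X.presheaf.stalk x)) ∧
    (IsDomain (Y.presheaf.stalk (f x)) ∧ IsIntegrallyClosed (Y.presheaf.stalk (f x)) →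
      IsDomain (X.presheaf.stalk x) ∧ IsIntegrallyClosed (X.presheaf.stalk x)) := by
  obtain ⟨V, hV, hyV, -⟩ :=
    AlgebraicGeometry.exists_isAffineOpen_mem_and_subset (X := Y) (x := f x) (U := ⊤) trivial
  obtain ⟨U, hU, hxU, hUV⟩ :=
    AlgebraicGeometry.exists_isAffineOpen_mem_and_subset (X := X) (x := x) (U := f ⁻¹ᵁ V) hyV
  have e : U ≤ f ⁻¹ᵁ V := hUV
  have hφ : (f.appLE V U e).hom.Smooth := f.smooth_appLE hV hU e
  letI : Algebra Γ(Y, V) Γ(X, U) := (f.appLE V U e).hom.toAlgebra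
  haveI : Algebra.Smooth Γ(Y, V) Γ(X, U) := hφ
  letI := Y.presheaf.algebra_section_stalk ⟨f x, hyV⟩
  haveI := hV.isLocalization_stalk ⟨f x, hyV⟩
  letI := X.presheaf.algebra_section_stalk ⟨x, hxU⟩
  haveI := hU.isLocalization_stalk ⟨x, hxU⟩
  letI : Algebra (Y.presheaf.stalk (f x)) (X.presheaf.stalk x) := (f.stalkMap x).hom.toAlgebra
  letI : Algebra Γ(Y, V) (X.presheaf.stalk x) :=
    ((algebraMap Γ(X, U) (X.presheaf.stalk x)).comp (algebraMap Γ(Y, V) Γ(X, U))).toAlgebra
  haveI : IsScalarTower Γ(Y, V) Γ(X, U) (X.presheaf.stalk x) :=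
    IsScalarTower.of_algebraMap_eq (fun _ => rfl)
  haveI : IsScalarTower Γ(Y, V) (Y.presheaf.stalk (f x)) (X.presheaf.stalk x) := by
    refine IsScalarTower.of_algebraMap_eq (fun a => ?_)
    change X.presheaf.germ U x hxU (f.appLE V U e a) =
      f.stalkMap x (Y.presheaf.germ V (f x) hyV a)
    rw [Scheme.Hom.germ_stalkMap_apply, Scheme.Hom.appLE, CommRingCat.comp_apply,
      TopCat.Presheaf.germ_res_apply]
  constructor
  · intro hred
    exact reduced_of_smooth (R := Γ(Y, V)) (B := Γ(X, U)) (hU.primeIdealOf ⟨x, hxU⟩).asIdeal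
      (X.presheaf.stalk x) (hV.primeIdealOf ⟨f x, hyV⟩).asIdeal.primeCompl
      (Y.presheaf.stalk (f x))
  · rintro ⟨hdom, hic⟩
    exact Groth.Agent.Lib.EtNormal3H4.normal_of_smooth (R := Γ(Y, V)) (B := Γ(X, U))
      (hU.primeIdealOf ⟨x, hxU⟩).asIdeal
      (X.presheaf.stalk x) (hV.primeIdealOf ⟨f x, hyV⟩).asIdeal.primeCompl
      (Y.presheaf.stalk (f x))

/-- Local rings at points of a flat morphism: reducedness descends. -/
theorem stalk_reduced_of_flat {X Y : Scheme.{u}} (f : X ⟶ Y) [Flat f] (x : X)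
    (h : IsReduced (X.presheaf.stalk x)) : IsReduced (Y.presheaf.stalk (f x)) := by
  letI : Algebra (Y.presheaf.stalk (f x)) (X.presheaf.stalk x) := (f.stalkMap x).hom.toAlgebra
  haveI : Module.FaithfullyFlat (Y.presheaf.stalk (f x)) (X.presheaf.stalk x) :=
    @Module.FaithfullyFlat.of_flat_of_isLocalHom _ _ _ _ _ _ _
      (Flat.stalkMap f x) (f.toLRSHom.prop x)
  exact isReduced_of_injective (algebraMap (Y.presheaf.stalk (f x)) (X.presheaf.stalk x))
    (FaithfulSMul.algebraMap_injective _ _)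

theorem smooth_point_iff {X Y : Scheme.{u}} (f : X ⟶ Y) [Smooth f] (x : X) :
    (IsReduced (X.presheaf.stalk x) ↔ IsReduced (Y.presheaf.stalk (f x))) ∧
    ((IsDomain (X.presheaf.stalk x) ∧ IsIntegrallyClosed (X.presheaf.stalk x)) ↔
      (IsDomain (Y.presheaf.stalk (f x)) ∧ IsIntegrallyClosed (Y.presheaf.stalk (f x)))) :=
  ⟨⟨stalk_reduced_of_flat f x, (stalk_of_smooth f x).1⟩,
    ⟨Groth.Agent.Lib.EtNormalH4.stalk_normal_of_flat f x, (stalk_of_smooth f x).2⟩⟩

theorem main4989 {X Y : Scheme.{u}} (f : X ⟶ Y)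
    [LocallyOfFinitePresentation f] (x : ↥X) (hx : x ∈ f.smoothLocus) :
    (IsReduced ↑(X.presheaf.stalk x) ↔ IsReduced ↑(Y.presheaf.stalk (f.base x))) ∧
    ((IsDomain ↑(X.presheaf.stalk x) ∧ IsIntegrallyClosed ↑(X.presheaf.stalk x)) ↔
      (IsDomain ↑(Y.presheaf.stalk (f.base x)) ∧
        IsIntegrallyClosed ↑(Y.presheaf.stalk (f.base x)))) := by
  let U := f.smoothLocus
  haveI hU : Smooth (U.ι ≫ f) := by
    rw [← Scheme.Hom.smoothLocus_eq_top_iff, ← Scheme.Hom.preimage_smoothLocus_eq]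
    exact U.ι_preimage_self
  let x' : U := ⟨x, hx⟩
  obtain ⟨h1, h2⟩ := smooth_point_iff (U.ι ≫ f) x'
  change (IsReduced (U.toScheme.presheaf.stalk x') ↔ IsReduced (Y.presheaf.stalk (f.base x))) at h1
  change ((IsDomain (U.toScheme.presheaf.stalk x') ∧
    IsIntegrallyClosed (U.toScheme.presheaf.stalk x')) ↔
    (IsDomain (Y.presheaf.stalk (f.base x)) ∧
      IsIntegrallyClosed (Y.presheaf.stalk (f.base x)))) at h2
  let ε : U.toScheme.presheaf.stalk x' ≃+* X.presheaf.stalk x :=
    (U.stalkIso x').commRingCatIsoToRingEquiv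
  have hr : IsReduced (U.toScheme.presheaf.stalk x') ↔ IsReduced (X.presheaf.stalk x) :=
    ⟨fun h => isReduced_of_injective ε.symm ε.symm.injective,
      fun h => isReduced_of_injective ε ε.injective⟩
  have hn : (IsDomain (U.toScheme.presheaf.stalk x') ∧
      IsIntegrallyClosed (U.toScheme.presheaf.stalk x')) ↔
      (IsDomain (X.presheaf.stalk x) ∧ IsIntegrallyClosed (X.presheaf.stalk x)) := by
    constructor
    · rintro ⟨hd, hi⟩
      exact ⟨ε.symm.toMulEquiv.isDomain _, IsIntegrallyClosed.of_equiv ε⟩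
    · rintro ⟨hd, hi⟩
      exact ⟨ε.toMulEquiv.isDomain _, IsIntegrallyClosed.of_equiv ε.symm⟩
  exact ⟨hr.symm.trans h1, hn.symm.trans h2⟩

end Groth.Agent.Lib.EtNormal5H4
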