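import Mathlib
import Groth.Prelude
import Groth.Agent.Lib.NormalizationBirat2_helper7
import Groth.Agent.Lib.OverField_helper7

/-!
# Universal property of the normalization of an integral scheme for normal schemes (S9690) — helper4
-/

set_option autoImplicit false
universe u
open CategoryTheory CategoryTheory.Limits AlgebraicGeometry TopologicalSpace Opposite

namespace Groth.Agent.Lib.NormUnivH4

/-! ### Algebra -/

/-- A ring with normal local rings is integrally closed in any localization at non-zero-divisors. -/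
theorem mem_range_of_isIntegral_of_normal {C B : Type u} [CommRing C] [CommRing B] [Algebra C B]
    (M : Submonoid C) [IsLocalization M B] (hM : M ≤ nonZeroDivisors C)
    (hC : ∀ (m : Ideal C) [m.IsMaximal], ∃ (R : Type u) (_ : CommRing R) (_ : Algebra C R),
      IsLocalization.AtPrime R m ∧ IsDomain R ∧ IsIntegrallyClosed R)
    (t : B) (ht : _root_.IsIntegral C t) : t ∈ Set.range (algebraMap C B) := by
  classical
  obtain ⟨⟨c, s⟩, hcs⟩ := IsLocalization.mk'_surjective M t
  have hts : t * algebraMap C B (s : C) = algebraMap C B c := by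
    rw [← hcs]; exact IsLocalization.mk'_spec B c s
  let I : Ideal C :=
    { carrier := {x | ∃ y : C, algebraMap C B y = algebraMap C B x * t}
      add_mem' := by
        rintro x x' ⟨y, hy⟩ ⟨y', hy'⟩
        exact ⟨y + y', by rw [map_add, map_add, hy, hy', add_mul]⟩
      zero_mem' := ⟨0, by rw [map_zero, zero_mul]⟩
      smul_mem' := by
        rintro r x ⟨y, hy⟩
        exact ⟨r * y, by rw [smul_eq_mul, map_mul, map_mul, hy, mul_assoc]⟩ }
  by_contra hnot
  have hI : I ≠ ⊤ := by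
    intro hI
    have h1 : (1 : C) ∈ I := hI ▸ Submodule.mem_top
    obtain ⟨y, hy⟩ := h1
    exact hnot ⟨y, by rw [hy, map_one, one_mul]⟩
  obtain ⟨m, hm, hIm⟩ := Ideal.exists_le_maximal I hI
  haveI := hm
  obtain ⟨R, instR, algR, hloc, hdomR, hicR⟩ := hC m
  letI := instR
  letI := algR
  haveI := hloc
  haveI := hdomR
  haveI := hicR
  have hnz : ∀ y : M, algebraMap C R (y : C) ∈ nonZeroDivisors R := fun y =>
    IsLocalization.map_nonZeroDivisors_le m.primeCompl R ⟨(y : C), hM y.2, rfl⟩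
  let g0 : C →+* FractionRing R := (algebraMap R (FractionRing R)).comp (algebraMap C R)
  have hg0 : ∀ y : M, IsUnit (g0 y) := by
    intro y
    have h2 : algebraMap R (FractionRing R) (algebraMap C R (y : C)) ≠ 0 := by
      intro h0
      exact nonZeroDivisors.ne_zero (hnz y)
        ((IsFractionRing.injective R (FractionRing R)) (h0.trans (map_zero _).symm))
    exact isUnit_iff_ne_zero.mpr h2
  let θ : B →+* FractionRing R := IsLocalization.lift hg0
  have hθ : ∀ x : C, θ (algebraMap C B x) =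
      algebraMap R (FractionRing R) (algebraMap C R x) := fun x => IsLocalization.lift_eq hg0 x
  have hθt : _root_.IsIntegral R (θ t) := by
    obtain ⟨p, hp, hpt⟩ := ht
    refine ⟨p.map (algebraMap C R), hp.map _, ?_⟩
    have hcomp : (algebraMap R (FractionRing R)).comp (algebraMap C R) =
        θ.comp (algebraMap C B) := by
      ext x; exact (hθ x).symm
    rw [Polynomial.eval₂_map, hcomp, ← Polynomial.hom_eval₂, hpt, map_zero]
  obtain ⟨r, hr⟩ := (isIntegrallyClosed_iff (FractionRing R)).mp hicR hθt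
  obtain ⟨⟨c', u⟩, hru⟩ := IsLocalization.mk'_surjective m.primeCompl r
  have hru' : r * algebraMap C R (u : C) = algebraMap C R c' := by
    rw [← hru]; exact IsLocalization.mk'_spec R c' u
  have hkey : algebraMap C R (c * (u : C)) = algebraMap C R (c' * (s : C)) := by
    apply IsFractionRing.injective R (FractionRing R)
    have e1 : algebraMap R (FractionRing R) (algebraMap C R c) =
        θ t * algebraMap R (FractionRing R) (algebraMap C R (s : C)) := by
      rw [← hθ, ← hθ, ← map_mul, hts]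
    have e2 : algebraMap R (FractionRing R) (algebraMap C R c') =
        θ t * algebraMap R (FractionRing R) (algebraMap C R (u : C)) := by
      rw [← hr, ← map_mul, hru']
    simp only [map_mul]
    rw [e1, e2]
    ring
  obtain ⟨v, hv⟩ := (IsLocalization.eq_iff_exists m.primeCompl R).mp hkey
  have hvuI : (v : C) * (u : C) ∈ I := by
    refine ⟨(v : C) * c', ?_⟩
    have hsu : IsUnit (algebraMap C B (s : C)) := IsLocalization.map_units B s
    refine hsu.mul_right_cancel ?_
    calc algebraMap C B ((v : C) * c') * algebraMap C B (s : C)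
        = algebraMap C B ((v : C) * (c' * (s : C))) := by rw [← map_mul, mul_assoc]
      _ = algebraMap C B ((v : C) * (c * (u : C))) := by rw [hv]
      _ = algebraMap C B ((v : C) * (u : C)) * (t * algebraMap C B (s : C)) := by
          rw [hts, ← map_mul]; congr 1; ring
      _ = algebraMap C B ((v : C) * (u : C)) * t * algebraMap C B (s : C) := by rw [mul_assoc]
  have hmem : (v : C) * (u : C) ∈ m := hIm hvuI
  rcases hm.isPrime.mem_or_mem hmem with h | h
  · exact v.2 h
  · exact u.2 h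

/-! ### Non-zero-divisors -/

theorem exists_generic_specializes (Z : Scheme.{u}) (z : Z) :
    ∃ ξ : Z, closure {ξ} ∈ irreducibleComponents ↥Z ∧ ξ ⤳ z := by
  obtain ⟨ξ, hξ⟩ := QuasiSober.sober (isIrreducible_irreducibleComponent (x := z))
    isClosed_irreducibleComponent
  refine ⟨ξ, ?_, ?_⟩
  · rw [hξ.def]; exact irreducibleComponent_mem_irreducibleComponents z
  · rw [specializes_iff_mem_closure, hξ.def]; exact mem_irreducibleComponent

theorem appLE_mem_nonZeroDivisors {X Z : Scheme.{u}} [IsIntegral X] (g : Z ⟶ X)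
    (hZ : Pi1.IsNormalScheme Z)
    (hdom : ∀ z : Z, closure {z} ∈ irreducibleComponents ↥Z → g.base z = genericPoint ↥X)
    (U : X.Opens) (W : Z.Opens) (e : W ≤ g ⁻¹ᵁ U) (a : Γ(X, U)) (ha : a ≠ 0) :
    (g.appLE U W e).hom a ∈ nonZeroDivisors Γ(Z, W) := by
  rw [mem_nonZeroDivisors_iff_right]
  intro c hc
  apply TopCat.Presheaf.section_ext Z.sheaf W
  intro z hz
  have h0 : Z.presheaf.germ W z hz (0 : Γ(Z, W)) = 0 := map_zero _
  refine Eq.trans ?_ h0.symm
  obtain ⟨ξ, hξcomp, hξz⟩ := exists_generic_specializes Z z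
  have hξW : ξ ∈ W := hξz.mem_open W.2 hz
  have hgξ : g ξ = genericPoint ↥X := hdom ξ hξcomp
  haveI : IsDomain (Z.presheaf.stalk z) := (hZ z).1
  have hmul : Z.presheaf.germ W z hz c * Z.presheaf.germ W z hz ((g.appLE U W e).hom a) = 0 := by
    rw [← map_mul, hc, map_zero]
  rcases mul_eq_zero.mp hmul with h | h
  · exact h
  · exfalso
    have hsp := congrArg (fun m => m.hom ((g.appLE U W e).hom a))
      (TopCat.Presheaf.germ_stalkSpecializes Z.presheaf hz hξz)
    have h1 : (Z.presheaf.stalkSpecializes hξz).hom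
        (Z.presheaf.germ W z hz ((g.appLE U W e).hom a)) =
        Z.presheaf.germ W ξ hξW ((g.appLE U W e).hom a) := hsp
    have hξ0 : Z.presheaf.germ W ξ hξW ((g.appLE U W e).hom a) = 0 := by
      rw [← h1, h, map_zero]
    have hgξU : g ξ ∈ U := e hξW
    have hst : g.stalkMap ξ (X.presheaf.germ U (g ξ) hgξU a) =
        Z.presheaf.germ W ξ hξW (g.appLE U W e a) := by
      rw [Scheme.Hom.germ_stalkMap_apply, Scheme.Hom.appLE, CommRingCat.comp_apply,
        TopCat.Presheaf.germ_res_apply]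
    have hfield : ∀ y : X, y = genericPoint X → IsField (X.presheaf.stalk y) := by
      rintro y rfl; exact Field.toIsField X.functionField
    have hF := hfield (g ξ) hgξ
    have hane : X.presheaf.germ U (g ξ) hgξU a ≠ 0 := fun h0 =>
      ha (germ_injective_of_isIntegral X (g ξ) hgξU (h0.trans (map_zero _).symm))
    obtain ⟨b, hb⟩ := hF.mul_inv_cancel hane
    have h2 : g.stalkMap ξ (X.presheaf.germ U (g ξ) hgξU a) * g.stalkMap ξ b = 1 := by
      rw [← map_mul, hb, map_one]
    have h3 : Z.presheaf.germ W ξ hξW (g.appLE U W e a) = 0 := hξ0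
    rw [hst, h3, zero_mul] at h2
    exact zero_ne_one h2

/-! ### Criterion for `fromNormalization` to be an isomorphism -/

theorem isIso_fromNormalization_of_forall {X Y : Scheme.{u}} (f : X ⟶ Y) [QuasiCompact f]
    [QuasiSeparated f] {ι : Type*} (W : ι → Y.affineOpens) (hW : ⨆ i, (W i).1 = ⊤)
    (H : ∀ i, Function.Injective (f.app (W i).1).hom ∧
      ∀ t : Γ(X, f ⁻¹ᵁ (W i).1), (f.app (W i).1).hom.IsIntegralElem t →
        t ∈ Set.range (f.app (W i).1).hom) :
    IsIso f.fromNormalization := by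
  have key : (MorphismProperty.isomorphisms Scheme.{u}) f.fromNormalization := by
    rw [IsZariskiLocalAtTarget.iff_of_iSup_eq_top (P := MorphismProperty.isomorphisms Scheme.{u})
      (fun i => (W i).1) hW]
    intro i
    rw [MorphismProperty.isomorphisms.iff]
    refine (isIso_morphismRestrict_iff_isIso_app f.fromNormalization (W i).2).mpr ?_
    rw [Scheme.Hom.fromNormalization_app f (W i).2]
    refine @IsIso.comp_isIso _ _ _ _ _ _ _ ?_ inferInstance
    rw [ConcreteCategory.isIso_iff_bijective]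
    refine ⟨fun a b hab => (H i).1 (congrArg Subtype.val hab), fun t => ?_⟩
    obtain ⟨a, ha⟩ := (H i).2 t.1 t.2
    exact ⟨a, Subtype.ext ha⟩
  exact key

/-! ### Sections of a base change of a localization -/

theorem isLocalization_sections {T X Z : Scheme.{u}} (h₁ : T ⟶ X) (g : Z ⟶ X) [IsAffine T]
    (U : X.Opens) (hU : IsAffineOpen U) (hTU : (⊤ : T.Opens) ≤ h₁ ⁻¹ᵁ U)
    (W : Z.Opens) (hW : IsAffineOpen W) (hWU : W ≤ g ⁻¹ᵁ U)
    (M : Submonoid Γ(X, U))
    (hloc : @IsLocalization Γ(X, U) _ M Γ(T, ⊤) _ (h₁.appLE U ⊤ hTU).hom.toAlgebra) :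
    @IsLocalization Γ(Z, W) _ (M.map (g.appLE U W hWU).hom)
      Γ(pullback h₁ g, pullback.snd h₁ g ⁻¹ᵁ W) _
      ((pullback.snd h₁ g).appLE W (pullback.snd h₁ g ⁻¹ᵁ W) le_rfl).hom.toAlgebra := by
  have H : IsPullback (pullback.fst h₁ g) (pullback.snd h₁ g) h₁ g :=
    IsPullback.of_hasPullback h₁ g
  have hUY : pullback.snd h₁ g ⁻¹ᵁ W = pullback.fst h₁ g ⁻¹ᵁ ⊤ ⊓ pullback.snd h₁ g ⁻¹ᵁ W :=
    le_antisymm (le_inf (fun _ _ => trivial) le_rfl) inf_le_right
  haveI hiso : IsIso (pushoutSection H hWU hTU hUY) :=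
    isIso_pushoutSection_of_isAffineOpen H hWU hTU hUY hU hW (isAffineOpen_top T)
  have hpo := (isIso_pushoutSection_iff H hWU hTU hUY).mp hiso
  letI algAK : Algebra Γ(X, U) Γ(T, ⊤) := (h₁.appLE U ⊤ hTU).hom.toAlgebra
  letI algAC : Algebra Γ(X, U) Γ(Z, W) := (g.appLE U W hWU).hom.toAlgebra
  letI algKB : Algebra Γ(T, ⊤) Γ(pullback h₁ g, pullback.snd h₁ g ⁻¹ᵁ W) :=
    ((pullback.fst h₁ g).appLE ⊤ (pullback.snd h₁ g ⁻¹ᵁ W) (fun _ _ => trivial)).hom.toAlgebra
  letI algCB : Algebra Γ(Z, W) Γ(pullback h₁ g, pullback.snd h₁ g ⁻¹ᵁ W) :=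
    ((pullback.snd h₁ g).appLE W (pullback.snd h₁ g ⁻¹ᵁ W) le_rfl).hom.toAlgebra
  letI algAB : Algebra Γ(X, U) Γ(pullback h₁ g, pullback.snd h₁ g ⁻¹ᵁ W) :=
    ((algebraMap Γ(Z, W) Γ(pullback h₁ g, pullback.snd h₁ g ⁻¹ᵁ W)).comp
      (algebraMap Γ(X, U) Γ(Z, W))).toAlgebra
  haveI st1 : IsScalarTower Γ(X, U) Γ(Z, W) Γ(pullback h₁ g, pullback.snd h₁ g ⁻¹ᵁ W) :=
    IsScalarTower.of_algebraMap_eq (fun _ => rfl)
  haveI st2 : IsScalarTower Γ(X, U) Γ(T, ⊤) Γ(pullback h₁ g, pullback.snd h₁ g ⁻¹ᵁ W) := by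
    refine IsScalarTower.of_algebraMap_eq (fun a => ?_)
    exact (congrArg (fun m => m.hom a) hpo.w).symm
  have hAP : Algebra.IsPushout Γ(X, U) Γ(T, ⊤) Γ(Z, W)
      Γ(pullback h₁ g, pullback.snd h₁ g ⁻¹ᵁ W) :=
    (CommRingCat.isPushout_iff_isPushout (R := Γ(X, U)) (R' := Γ(T, ⊤)) (S := Γ(Z, W))
      (S' := Γ(pullback h₁ g, pullback.snd h₁ g ⁻¹ᵁ W))).mp hpo
  haveI := hloc
  exact (Algebra.isLocalization_iff_isPushout M Γ(T, ⊤)).mpr hAP.symm

/-! ### The core computation -/

theorem sections_normal (X : Scheme.{u}) [IsIntegral X] {Z : Scheme.{u}} (g : Z ⟶ X)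
    (hZ : Pi1.IsNormalScheme Z)
    (hdom : ∀ z : Z, closure {z} ∈ irreducibleComponents ↥Z → g.base z = genericPoint ↥X)
    (U : X.Opens) (hU : IsAffineOpen U) (hη : genericPoint X ∈ U)
    (W : Z.Opens) (hW : IsAffineOpen W) (hWU : W ≤ g ⁻¹ᵁ U) :
    Function.Injective ((pullback.snd (X.fromSpecStalk (genericPoint X)) g).app W).hom ∧
      ∀ t, ((pullback.snd (X.fromSpecStalk (genericPoint X)) g).app W).hom.IsIntegralElem t →
        t ∈ Set.range ((pullback.snd (X.fromSpecStalk (genericPoint X)) g).app W).hom := by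
  have hTU : (⊤ : (Spec (X.presheaf.stalk (genericPoint X))).Opens) ≤
      (X.fromSpecStalk (genericPoint X)) ⁻¹ᵁ U := by
    intro x _
    have hx : (X.fromSpecStalk (genericPoint X)) x ⤳ genericPoint X := by
      have h0 : (X.fromSpecStalk (genericPoint X)) x ∈
          Set.range (X.fromSpecStalk (genericPoint X)) := ⟨x, rfl⟩
      rw [Scheme.range_fromSpecStalk] at h0
      exact h0
    exact hx.mem_open U.2 hη
  have key : ∀ (r : Opposite.op (⊤ : (Spec (X.presheaf.stalk (genericPoint X))).Opens) ⟶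
      Opposite.op ⊤), (Spec (X.presheaf.stalk (genericPoint X))).presheaf.map r = 𝟙 _ :=
    fun r => by rw [Subsingleton.elim r (𝟙 _), CategoryTheory.Functor.map_id]
  have hγ : (X.fromSpecStalk (genericPoint X)).appLE U ⊤ hTU =
      X.presheaf.germ U (genericPoint X) hη ≫
        (Scheme.ΓSpecIso (X.presheaf.stalk (genericPoint X))).inv := by
    rw [Scheme.Hom.appLE, Scheme.fromSpecStalk_app hη, Category.assoc, Category.assoc,
      ← Functor.map_comp, key, Category.comp_id]
  haveI hne : Nonempty ((U : X.Opens) : Scheme.{u}) := ⟨⟨genericPoint X, hη⟩⟩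
  haveI hdomA : IsDomain Γ(X, U) := @IsIntegral.component_integral X _ U hne
  have hloc : @IsLocalization Γ(X, U) _ (nonZeroDivisors Γ(X, U))
      Γ(Spec (X.presheaf.stalk (genericPoint X)), ⊤) _
      ((X.fromSpecStalk (genericPoint X)).appLE U ⊤ hTU).hom.toAlgebra := by
    haveI hfr : IsFractionRing Γ(X, U) X.functionField :=
      functionField_isFractionRing_of_isAffineOpen X U hU
    letI alg : Algebra Γ(X, U) Γ(Spec (X.presheaf.stalk (genericPoint X)), ⊤) :=
      ((X.fromSpecStalk (genericPoint X)).appLE U ⊤ hTU).hom.toAlgebra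
    let e : X.functionField ≃+* Γ(Spec (X.presheaf.stalk (genericPoint X)), ⊤) :=
      (Scheme.ΓSpecIso (X.presheaf.stalk (genericPoint X))).symm.commRingCatIsoToRingEquiv
    have hcomm : ∀ a : Γ(X, U), e (algebraMap Γ(X, U) X.functionField a) =
        algebraMap Γ(X, U) Γ(Spec (X.presheaf.stalk (genericPoint X)), ⊤) a := fun a =>
      (congrArg (fun m => m.hom a) hγ).symm
    exact IsLocalization.isLocalization_of_algEquiv (nonZeroDivisors Γ(X, U))
      (AlgEquiv.ofRingEquiv (f := e) hcomm)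
  have hM : (nonZeroDivisors Γ(X, U)).map (g.appLE U W hWU).hom ≤ nonZeroDivisors Γ(Z, W) := by
    rintro _ ⟨a, ha, rfl⟩
    exact appLE_mem_nonZeroDivisors g hZ hdom U W hWU a (nonZeroDivisors.ne_zero ha)
  letI algCB : Algebra Γ(Z, W) Γ(pullback (X.fromSpecStalk (genericPoint X)) g,
      pullback.snd (X.fromSpecStalk (genericPoint X)) g ⁻¹ᵁ W) :=
    ((pullback.snd (X.fromSpecStalk (genericPoint X)) g).appLE W
      (pullback.snd (X.fromSpecStalk (genericPoint X)) g ⁻¹ᵁ W) le_rfl).hom.toAlgebra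
  haveI hlocB : IsLocalization ((nonZeroDivisors Γ(X, U)).map (g.appLE U W hWU).hom)
      Γ(pullback (X.fromSpecStalk (genericPoint X)) g,
        pullback.snd (X.fromSpecStalk (genericPoint X)) g ⁻¹ᵁ W) :=
    isLocalization_sections (X.fromSpecStalk (genericPoint X)) g U hU hTU W hW hWU _ hloc
  have hC : ∀ (m : Ideal Γ(Z, W)) [m.IsMaximal], ∃ (R : Type u) (_ : CommRing R)
      (_ : Algebra Γ(Z, W) R), IsLocalization.AtPrime R m ∧ IsDomain R ∧
        IsIntegrallyClosed R := by
    intro m hm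
    have hy : hW.fromSpec (⟨m, hm.isPrime⟩ : PrimeSpectrum Γ(Z, W)) ∈ W := by
      have h0 : hW.fromSpec (⟨m, hm.isPrime⟩ : PrimeSpectrum Γ(Z, W)) ∈
          Set.range hW.fromSpec := ⟨_, rfl⟩
      rw [hW.range_fromSpec] at h0
      exact h0
    exact ⟨Z.presheaf.stalk (hW.fromSpec (⟨m, hm.isPrime⟩ : PrimeSpectrum Γ(Z, W))),
      inferInstance,
      TopCat.Presheaf.algebra_section_stalk Z.presheaf
        ⟨hW.fromSpec (⟨m, hm.isPrime⟩ : PrimeSpectrum Γ(Z, W)), hy⟩,
      hW.isLocalization_stalk' (⟨m, hm.isPrime⟩ : PrimeSpectrum Γ(Z, W)) hy,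
      (hZ _).1, (hZ _).2⟩
  have happ : (pullback.snd (X.fromSpecStalk (genericPoint X)) g).app W =
      (pullback.snd (X.fromSpecStalk (genericPoint X)) g).appLE W
        (pullback.snd (X.fromSpecStalk (genericPoint X)) g ⁻¹ᵁ W) le_rfl :=
    Scheme.Hom.app_eq_appLE _
  rw [happ]
  refine ⟨IsLocalization.injective _ hM, fun t ht => ?_⟩
  exact mem_range_of_isIntegral_of_normal _ hM hC t ht

theorem isIso_fromNormalization_snd (X : Scheme.{u}) [IsIntegral X]
    [QuasiCompact (X.fromSpecStalk (genericPoint ↥X))]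
    [QuasiSeparated (X.fromSpecStalk (genericPoint ↥X))]
    {Z : Scheme.{u}} (g : Z ⟶ X) (hZ : Pi1.IsNormalScheme Z)
    (hdom : ∀ z : Z, closure {z} ∈ irreducibleComponents ↥Z → g.base z = genericPoint ↥X) :
    IsIso (pullback.snd (X.fromSpecStalk (genericPoint X)) g).fromNormalization := by
  refine isIso_fromNormalization_of_forall _
    (ι := {W : Z.affineOpens // ∃ U : X.Opens, IsAffineOpen U ∧ genericPoint X ∈ U ∧
      W.1 ≤ g ⁻¹ᵁ U}) (fun i => i.1) ?_ ?_
  · refine eq_top_iff.mpr ?_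
    intro z _
    obtain ⟨_, ⟨U, hU, rfl⟩, hzU, -⟩ := X.isBasis_affineOpens.exists_subset_of_mem_open
      (Set.mem_univ (g z)) isOpen_univ
    have hη : genericPoint X ∈ U :=
      ((genericPoint_spec X).mem_open_set_iff U.2).mpr ⟨g z, trivial, hzU⟩
    obtain ⟨_, ⟨W, hW, rfl⟩, hzW, hWU⟩ := Z.isBasis_affineOpens.exists_subset_of_mem_open
      (show z ∈ ((g ⁻¹ᵁ U : Z.Opens) : Set Z) from hzU) (g ⁻¹ᵁ U).2
    exact TopologicalSpace.Opens.mem_iSup.mpr ⟨⟨⟨W, hW⟩, U, hU, hη, hWU⟩, hzW⟩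
  · rintro ⟨⟨W, hW⟩, U, hU, hη, hWU⟩
    exact sections_normal X g hZ hdom U hU hη W hW hWU

/-! ### Existence -/

theorem cat_lift {C : Type*} [Category C] {Z N P Y X : C} (F : N ⟶ Z) [IsIso F] (n : N ⟶ P)
    (p1 : P ⟶ Y) (p2 : P ⟶ Z) (ν : Y ⟶ X) (g : Z ⟶ X)
    (e1 : n ≫ p2 = F) (e2 : p1 ≫ ν = p2 ≫ g) : (inv F ≫ n ≫ p1) ≫ ν = g := by
  rw [Category.assoc, Category.assoc, e2, ← Category.assoc n, e1, IsIso.inv_hom_id_assoc]

theorem exists_lift (X : Scheme.{u}) [IsIntegral X]
    [QuasiCompact (X.fromSpecStalk (genericPoint ↥X))]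
    [QuasiSeparated (X.fromSpecStalk (genericPoint ↥X))]
    {Z : Scheme.{u}} (g : Z ⟶ X) (hZ : Pi1.IsNormalScheme Z)
    (hdom : ∀ z : Z, closure {z} ∈ irreducibleComponents ↥Z → g.base z = genericPoint ↥X) :
    ∃ h : Z ⟶ (X.fromSpecStalk (genericPoint X)).normalization,
      h ≫ (X.fromSpecStalk (genericPoint X)).fromNormalization = g := by
  haveI := isIso_fromNormalization_snd X g hZ hdom
  exact ⟨inv (pullback.snd (X.fromSpecStalk (genericPoint X)) g).fromNormalization ≫
    (X.fromSpecStalk (genericPoint X)).normalizationPullback g ≫ pullback.fst _ _,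
    cat_lift _ _ _ _ _ _ (Scheme.Hom.normalizationPullback_snd _ _) pullback.condition⟩

/-! ### Uniqueness -/

theorem spec_local_ext {Y X : Scheme.{u}} (ν : Y ⟶ X) (x₀ : X) (y₀ : Y)
    (hfib : ν.base ⁻¹' {x₀} = {y₀}) (hiso : IsIso (ν.stalkMap y₀))
    (L : CommRingCat.{u}) [IsLocalRing L] (a b : Spec L ⟶ Y)
    (hab : a ≫ ν = b ≫ ν) (ha : ν (a (IsLocalRing.closedPoint L)) = x₀) : a = b := by
  have hb : ν (b (IsLocalRing.closedPoint L)) = x₀ := by
    have h0 : (a ≫ ν) (IsLocalRing.closedPoint L) = (b ≫ ν) (IsLocalRing.closedPoint L) := by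
      rw [hab]
    exact h0.symm.trans ha
  have ha' : a (IsLocalRing.closedPoint L) = y₀ := by
    have h0 : a (IsLocalRing.closedPoint L) ∈ ν.base ⁻¹' {x₀} := ha
    rw [hfib] at h0
    exact h0
  have hb' : b (IsLocalRing.closedPoint L) = y₀ := by
    have h0 : b (IsLocalRing.closedPoint L) ∈ ν.base ⁻¹' {x₀} := hb
    rw [hfib] at h0
    exact h0
  have key : ∀ (y : Y) (c : Spec L ⟶ Y), c (IsLocalRing.closedPoint L) = y →
      ∃ φ : Y.presheaf.stalk y ⟶ L, c = Spec.map φ ≫ Y.fromSpecStalk y := by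
    rintro _ c rfl
    exact ⟨Scheme.stalkClosedPointTo c, (Scheme.Spec_stalkClosedPointTo_fromSpecStalk c).symm⟩
  obtain ⟨φ, rfl⟩ := key y₀ a ha'
  obtain ⟨ψ, rfl⟩ := key y₀ b hb'
  have h1 : Spec.map (ν.stalkMap y₀) ≫ X.fromSpecStalk (ν y₀) = Y.fromSpecStalk y₀ ≫ ν :=
    Scheme.SpecMap_stalkMap_fromSpecStalk ν
  have h2 : Spec.map (ν.stalkMap y₀ ≫ φ) ≫ X.fromSpecStalk (ν y₀) =
      Spec.map (ν.stalkMap y₀ ≫ ψ) ≫ X.fromSpecStalk (ν y₀) := by
    rw [Spec.map_comp, Spec.map_comp, Category.assoc, Category.assoc, h1, ← Category.assoc,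
      ← Category.assoc]
    exact hab
  have h3 : Spec.map (ν.stalkMap y₀ ≫ φ) = Spec.map (ν.stalkMap y₀ ≫ ψ) :=
    (cancel_mono (X.fromSpecStalk (ν y₀))).mp h2
  have h4 : ν.stalkMap y₀ ≫ φ = ν.stalkMap y₀ ≫ ψ := Spec.map_injective h3
  haveI := hiso
  rw [(cancel_epi (ν.stalkMap y₀)).mp h4]

theorem lift_unique (X : Scheme.{u}) [IsIntegral X]
    [QuasiCompact (X.fromSpecStalk (genericPoint ↥X))]
    [QuasiSeparated (X.fromSpecStalk (genericPoint ↥X))]
    {Z : Scheme.{u}} (g : Z ⟶ X) (hZ : Pi1.IsNormalScheme Z)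
    (hdom : ∀ z : Z, closure {z} ∈ irreducibleComponents ↥Z → g.base z = genericPoint ↥X)
    (h h' : Z ⟶ (X.fromSpecStalk (genericPoint X)).normalization)
    (hh : h ≫ (X.fromSpecStalk (genericPoint X)).fromNormalization = g)
    (hh' : h' ≫ (X.fromSpecStalk (genericPoint X)).fromNormalization = g) : h = h' := by
  haveI : IsDominant (X.fromSpecStalk (genericPoint X)) :=
    Groth.Agent.Lib.OverFieldH7.isDominant_fromSpecStalk_genericPoint X
  have hL : IsField (X.presheaf.stalk (genericPoint X)) := Field.toIsField X.functionField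
  obtain ⟨hInt, -, hgen, hiso, hfib⟩ :=
    Groth.Agent.Lib.NormalizationBirat2H7.normalization_birational
      (X.presheaf.stalk (genericPoint X)) hL (X.fromSpecStalk (genericPoint X))
  haveI : ∀ z : Z, _root_.IsReduced (Z.presheaf.stalk z) := fun z => by
    haveI := (hZ z).1
    infer_instance
  haveI : IsReduced Z := isReduced_of_isReduced_stalk Z
  refine ext_of_fromSpecResidueField_eq h h' (X.fromSpecStalk (genericPoint X)).fromNormalization
    {ξ : Z | closure {ξ} ∈ irreducibleComponents ↥Z} ?_ ?_ (hh.trans hh'.symm)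
  · intro z
    obtain ⟨ξ, hξ1, hξ2⟩ := exists_generic_specializes Z z
    exact closure_mono (Set.singleton_subset_iff.mpr
      (show ξ ∈ {ξ : Z | closure {ξ} ∈ irreducibleComponents ↥Z} from hξ1))
      (specializes_iff_mem_closure.mp hξ2)
  · intro ξ hξ
    refine spec_local_ext (X.fromSpecStalk (genericPoint X)).fromNormalization (genericPoint X)
      (genericPoint _) hfib hiso (Z.residueField ξ) _ _ ?_ ?_
    · rw [Category.assoc, Category.assoc, hh, hh']
    · have e0 : (Z.fromSpecResidueField ξ) (IsLocalRing.closedPoint (Z.residueField ξ)) = ξ :=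
        Scheme.fromSpecResidueField_apply ξ _
      have e1 : (X.fromSpecStalk (genericPoint X)).fromNormalization
          ((Z.fromSpecResidueField ξ ≫ h) (IsLocalRing.closedPoint (Z.residueField ξ))) =
          (X.fromSpecStalk (genericPoint X)).fromNormalization (h ξ) :=
        congrArg (fun p => (X.fromSpecStalk (genericPoint X)).fromNormalization (h p)) e0
      have e2 : (X.fromSpecStalk (genericPoint X)).fromNormalization (h ξ) = g ξ :=
        congrArg (fun m : Z ⟶ X => m ξ) hh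
      exact e1.trans (e2.trans (hdom ξ hξ))

theorem main9690 (X : Scheme.{u}) [IsIntegral X]
    [QuasiCompact (X.fromSpecStalk (genericPoint ↥X))]
    [QuasiSeparated (X.fromSpecStalk (genericPoint ↥X))]
    {Z : Scheme.{u}} (g : Z ⟶ X) (hZ : Pi1.IsNormalScheme Z)
    (hdom : ∀ z : Z, closure {z} ∈ irreducibleComponents ↥Z → g.base z = genericPoint ↥X) :
    ∃! h : Z ⟶ Curv2.normalization X, h ≫ Curv2.normalizationι X = g := by
  obtain ⟨h, hh⟩ := exists_lift X g hZ hdom
  exact ⟨h, hh, fun h' hh' => lift_unique X g hZ hdom h' h hh' hh⟩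

end Groth.Agent.Lib.NormUnivH4
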