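import Mathlib
import Groth.Prelude
import Groth.Agent.Lib.NormUniv_helper4
import Groth.Agent.Lib.EtNormal5_helper4
import Groth.Agent.Lib.NormalizationBirat2_helper7
import Groth.Agent.Lib.OverField_helper7

/-!
# Normalization commutes with smooth base change, absolute version (S9791) — helper4
-/

set_option autoImplicit false
universe u
open CategoryTheory CategoryTheory.Limits AlgebraicGeometry TopologicalSpace Opposite

namespace Groth.Agent.Lib.NormSmoothH4

/-- A ring which is a field is integrally closed. -/
theorem isIntegrallyClosed_of_isField (A : Type u) [CommRing A] [IsDomain A] (hA : IsField A) :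
    IsIntegrallyClosed A := by
  refine (isIntegrallyClosed_iff (FractionRing A)).mpr (fun {x} _ => ?_)
  obtain ⟨⟨a, b⟩, hab⟩ := IsLocalization.mk'_surjective (nonZeroDivisors A) x
  have hb0 : (b : A) ≠ 0 := nonZeroDivisors.ne_zero b.2
  obtain ⟨c, hc⟩ := hA.mul_inv_cancel hb0
  refine ⟨a * c, ?_⟩
  rw [← hab, IsLocalization.eq_mk'_iff_mul_eq, ← map_mul]
  congr 1
  rw [mul_assoc, mul_comm c, hc, mul_one]

/-- Local rings of the spectrum of a field are normal domains. -/
theorem stalk_Spec_of_isField (L : CommRingCat.{u}) (hL : IsField L) (s : Spec L) :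
    IsDomain ((Spec L).presheaf.stalk s) ∧ IsIntegrallyClosed ((Spec L).presheaf.stalk s) := by
  have hA : IsField Γ(Spec L, ⊤) :=
    (Scheme.ΓSpecIso L).commRingCatIsoToRingEquiv.toMulEquiv.isField hL
  haveI : IsDomain Γ(Spec L, ⊤) := hA.isDomain
  haveI : IsIntegrallyClosed Γ(Spec L, ⊤) := isIntegrallyClosed_of_isField _ hA
  letI : Algebra Γ(Spec L, ⊤) ((Spec L).presheaf.stalk s) :=
    TopCat.Presheaf.algebra_section_stalk (Spec L).presheaf (U := ⊤) ⟨s, trivial⟩
  haveI hloc : IsLocalization.AtPrime ((Spec L).presheaf.stalk s)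
      ((isAffineOpen_top (Spec L)).primeIdealOf ⟨s, trivial⟩).asIdeal :=
    (isAffineOpen_top (Spec L)).isLocalization_stalk ⟨s, trivial⟩
  exact ⟨IsLocalization.isDomain_of_le_nonZeroDivisors _
      ((isAffineOpen_top (Spec L)).primeIdealOf ⟨s, trivial⟩).asIdeal.primeCompl_le_nonZeroDivisors,
    isIntegrallyClosed_of_isLocalization _
      ((isAffineOpen_top (Spec L)).primeIdealOf ⟨s, trivial⟩).asIdeal.primeCompl
      ((isAffineOpen_top (Spec L)).primeIdealOf ⟨s, trivial⟩).asIdeal.primeCompl_le_nonZeroDivisors⟩

theorem exists_factor_fromSpecStalk {Y : Scheme.{u}} (L : CommRingCat.{u}) [IsLocalRing L]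
    (c : Spec L ⟶ Y) (y : Y) (hy : c (IsLocalRing.closedPoint L) = y) :
    ∃ φ : Y.presheaf.stalk y ⟶ L, c = Spec.map φ ≫ Y.fromSpecStalk y := by
  subst hy
  exact ⟨Scheme.stalkClosedPointTo c, (Scheme.Spec_stalkClosedPointTo_fromSpecStalk c).symm⟩

/-- Abstract comparison of two relative normalizations. -/
theorem iso_of_data {S' T' X : Scheme.{u}} (hX : S' ⟶ X) [QuasiCompact hX] [QuasiSeparated hX]
    (j : T' ⟶ X) [QuasiCompact j] [QuasiSeparated j] (k : S' ⟶ T') (hk : k ≫ j = hX)
    (b₀ : T' ⟶ hX.normalization) (hb₀ : b₀ ≫ hX.fromNormalization = j)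
    (U1 : ∀ m : hX.normalization ⟶ hX.normalization,
      m ≫ hX.fromNormalization = hX.fromNormalization → m = 𝟙 _)
    (U2 : k ≫ b₀ = hX.toNormalization) [IsReduced T'] [IsDominant k] :
    ∃ a : hX.normalization ⟶ j.normalization, IsIso a ∧
      a ≫ j.fromNormalization = hX.fromNormalization := by
  have H : hX = (k ≫ j.toNormalization) ≫ j.fromNormalization := by
    rw [Category.assoc, Scheme.Hom.toNormalization_fromNormalization, hk]
  obtain ⟨a, ha1, ha2⟩ : ∃ a : hX.normalization ⟶ j.normalization,
      a ≫ j.fromNormalization = hX.fromNormalization ∧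
      hX.toNormalization ≫ a = k ≫ j.toNormalization :=
    ⟨hX.normalizationDesc (k ≫ j.toNormalization) j.fromNormalization H,
      Scheme.Hom.normalizationDesc_comp _ _ _ H,
      Scheme.Hom.toNormalization_normalizationDesc _ _ _ H⟩
  obtain ⟨b, hb1, hb2⟩ : ∃ b : j.normalization ⟶ hX.normalization,
      b ≫ hX.fromNormalization = j.fromNormalization ∧ j.toNormalization ≫ b = b₀ :=
    ⟨j.normalizationDesc b₀ hX.fromNormalization hb₀.symm,
      Scheme.Hom.normalizationDesc_comp _ _ _ hb₀.symm,
      Scheme.Hom.toNormalization_normalizationDesc _ _ _ hb₀.symm⟩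
  have hab : a ≫ b = 𝟙 _ := U1 (a ≫ b) (by rw [Category.assoc, hb1, ha1])
  have hb₀a : b₀ ≫ a = j.toNormalization := by
    refine ext_of_isDominant_of_isSeparated j.fromNormalization ?_ k ?_
    · rw [Category.assoc, ha1, hb₀, Scheme.Hom.toNormalization_fromNormalization]
    · rw [← Category.assoc, U2, ha2]
  have hba : b ≫ a = 𝟙 _ := by
    refine Scheme.Hom.normalization.hom_ext j (b ≫ a) (𝟙 _) j.fromNormalization ?_ ?_ ?_
    · rw [← Category.assoc, hb2, hb₀a, Category.comp_id]
    · rw [Category.assoc, ha1, hb1]
    · exact Category.id_comp _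
  exact ⟨a, ⟨b, hab, hba⟩, ha1⟩

/-- Endomorphisms of the normalization over the base are trivial. -/
theorem endo_unique (X : Scheme.{u}) [IsIntegral X]
    [QuasiCompact (X.fromSpecStalk (genericPoint X))]
    [QuasiSeparated (X.fromSpecStalk (genericPoint X))]
    (m : (X.fromSpecStalk (genericPoint X)).normalization ⟶
      (X.fromSpecStalk (genericPoint X)).normalization)
    (hm : m ≫ (X.fromSpecStalk (genericPoint X)).fromNormalization =
      (X.fromSpecStalk (genericPoint X)).fromNormalization) : m = 𝟙 _ := by
  haveI : IsDominant (X.fromSpecStalk (genericPoint X)) :=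
    Groth.Agent.Lib.OverFieldH7.isDominant_fromSpecStalk_genericPoint X
  have hL : IsField (X.presheaf.stalk (genericPoint X)) := Field.toIsField X.functionField
  obtain ⟨hInt, hnorm, hgen, -, -⟩ :=
    Groth.Agent.Lib.NormalizationBirat2H7.normalization_birational
      (X.presheaf.stalk (genericPoint X)) hL (X.fromSpecStalk (genericPoint X))
  haveI := hInt
  have hdomXν : ∀ z : ↥(X.fromSpecStalk (genericPoint X)).normalization,
      closure {z} ∈ irreducibleComponents ↥(X.fromSpecStalk (genericPoint X)).normalization →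
      (X.fromSpecStalk (genericPoint X)).fromNormalization.base z = genericPoint ↥X := by
    intro z hz
    rw [irreducibleComponents_eq_singleton] at hz
    have hz' : IsGenericPoint z Set.univ := Set.mem_singleton_iff.mp hz
    have hzg : z = genericPoint _ := hz'.eq (genericPoint_spec _)
    rw [hzg]
    exact hgen
  exact Groth.Agent.Lib.NormUnivH4.lift_unique X
    (X.fromSpecStalk (genericPoint X)).fromNormalization hnorm hdomXν m (𝟙 _) hm
    (Category.id_comp _)

theorem main9791_aux {X Y : Scheme.{u}} (f : X ⟶ Y) [Smooth f] [IsIntegral X] [IsIntegral Y]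
    [QuasiCompact (X.fromSpecStalk (genericPoint X))]
    [QuasiSeparated (X.fromSpecStalk (genericPoint X))]
    [QuasiCompact (Y.fromSpecStalk (genericPoint Y))]
    [QuasiSeparated (Y.fromSpecStalk (genericPoint Y))] :
    ∃ a : (X.fromSpecStalk (genericPoint X)).normalization ⟶
        (pullback.snd (Y.fromSpecStalk (genericPoint Y)) f).normalization,
      IsIso a ∧ a ≫ (pullback.snd (Y.fromSpecStalk (genericPoint Y)) f).fromNormalization =
        (X.fromSpecStalk (genericPoint X)).fromNormalization := by
  -- (1) the generic point maps to the generic point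
  have hfη : f (genericPoint X) = genericPoint Y := by
    obtain ⟨x', hx', hfx'⟩ := (Flat.generalizingMap (f := f))
      (genericPoint_specializes (f (genericPoint X)))
    have hx'η : x' = genericPoint X := (hx'.antisymm (genericPoint_specializes x')).eq
    rw [← hx'η]
    exact hfx'
  -- (2) the generic point of the generic fibre
  obtain ⟨p₀, -, hp₀j⟩ := Scheme.Pullback.exists_preimage_pullback
    (f := Y.fromSpecStalk (genericPoint Y)) (g := f)
    (IsLocalRing.closedPoint (Y.presheaf.stalk (genericPoint Y))) (genericPoint X)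
    ((Scheme.fromSpecStalk_closedPoint).trans hfη.symm)
  -- (3)
  have hspec : ∀ p : ↥(pullback (Y.fromSpecStalk (genericPoint Y)) f), p₀ ⤳ p := fun p => by
    refine (pullback.snd (Y.fromSpecStalk (genericPoint Y))
      f).isEmbedding.isInducing.specializes_iff.mp ?_
    rw [hp₀j]
    exact genericPoint_specializes _
  -- (4)
  have hdomXη : ∀ p : ↥(pullback (Y.fromSpecStalk (genericPoint Y)) f),
      closure {p} ∈ irreducibleComponents ↥(pullback (Y.fromSpecStalk (genericPoint Y)) f) →
      (pullback.snd (Y.fromSpecStalk (genericPoint Y)) f).base p = genericPoint ↥X := by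
    intro p hp
    have hle : closure {p} ⊆ closure {p₀} :=
      closure_minimal (Set.singleton_subset_iff.mpr (specializes_iff_mem_closure.mp (hspec p)))
        isClosed_closure
    have hge : closure {p₀} ⊆ closure {p} := hp.2 isIrreducible_singleton.closure hle
    have h2 : p ⤳ p₀ := specializes_iff_mem_closure.mpr (hge (subset_closure rfl))
    have hpp : p₀ = p := ((hspec p).antisymm h2).eq
    rw [← hpp]
    exact hp₀j
  -- (5)
  have hLY : IsField (Y.presheaf.stalk (genericPoint Y)) := Field.toIsField Y.functionField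
  have hnormXη : Pi1.IsNormalScheme (pullback (Y.fromSpecStalk (genericPoint Y)) f) := fun p =>
    (Groth.Agent.Lib.EtNormal5H4.stalk_of_smooth
      (pullback.fst (Y.fromSpecStalk (genericPoint Y)) f) p).2
      (stalk_Spec_of_isField _ hLY _)
  haveI hredst : ∀ p : ↥(pullback (Y.fromSpecStalk (genericPoint Y)) f),
      _root_.IsReduced ((pullback (Y.fromSpecStalk (genericPoint Y)) f).presheaf.stalk p) :=
    fun p => by
      haveI := (hnormXη p).1
      infer_instance
  haveI hred : IsReduced (pullback (Y.fromSpecStalk (genericPoint Y)) f) :=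
    isReduced_of_isReduced_stalk _
  -- (6)
  obtain ⟨b₀, hb₀⟩ := Groth.Agent.Lib.NormUnivH4.exists_lift X
    (pullback.snd (Y.fromSpecStalk (genericPoint Y)) f) hnormXη hdomXη
  -- (7)
  have hptX : (X.fromSpecStalk (genericPoint X))
      (IsLocalRing.closedPoint (X.presheaf.stalk (genericPoint X))) = genericPoint X :=
    Scheme.fromSpecStalk_closedPoint
  have hpt : (X.fromSpecStalk (genericPoint X) ≫ f)
      (IsLocalRing.closedPoint (X.presheaf.stalk (genericPoint X))) = genericPoint Y :=
    (congrArg (fun x => f x) hptX).trans hfη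
  obtain ⟨φ, hφ⟩ := exists_factor_fromSpecStalk (X.presheaf.stalk (genericPoint X))
    (X.fromSpecStalk (genericPoint X) ≫ f) (genericPoint Y) hpt
  obtain ⟨k, hkj⟩ : ∃ k : Spec (X.presheaf.stalk (genericPoint X)) ⟶
      pullback (Y.fromSpecStalk (genericPoint Y)) f,
      k ≫ pullback.snd (Y.fromSpecStalk (genericPoint Y)) f =
        X.fromSpecStalk (genericPoint X) :=
    ⟨pullback.lift (Spec.map φ) (X.fromSpecStalk (genericPoint X)) hφ.symm,
      pullback.lift_snd _ _ _⟩
  haveI hkdom : IsDominant k := by
    constructor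
    have hk0 : k (IsLocalRing.closedPoint (X.presheaf.stalk (genericPoint X))) = p₀ := by
      apply (pullback.snd (Y.fromSpecStalk (genericPoint Y)) f).isEmbedding.injective
      have h0 : (k ≫ pullback.snd (Y.fromSpecStalk (genericPoint Y)) f)
          (IsLocalRing.closedPoint (X.presheaf.stalk (genericPoint X))) = genericPoint X := by
        rw [hkj]; exact hptX
      exact h0.trans hp₀j.symm
    intro p
    have hmem : p₀ ∈ Set.range k := ⟨_, hk0⟩
    exact closure_mono (Set.singleton_subset_iff.mpr hmem)
      (specializes_iff_mem_closure.mp (hspec p))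
  -- uniqueness inputs
  haveI : IsDominant (X.fromSpecStalk (genericPoint X)) :=
    Groth.Agent.Lib.OverFieldH7.isDominant_fromSpecStalk_genericPoint X
  have hLX : IsField (X.presheaf.stalk (genericPoint X)) := Field.toIsField X.functionField
  obtain ⟨hInt, -, -, hiso, hfib⟩ :=
    Groth.Agent.Lib.NormalizationBirat2H7.normalization_birational
      (X.presheaf.stalk (genericPoint X)) hLX (X.fromSpecStalk (genericPoint X))
  haveI := hInt
  have U2 : k ≫ b₀ = (X.fromSpecStalk (genericPoint X)).toNormalization := by
    refine Groth.Agent.Lib.NormUnivH4.spec_local_ext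
      (X.fromSpecStalk (genericPoint X)).fromNormalization (genericPoint X) (genericPoint _)
      hfib hiso (X.presheaf.stalk (genericPoint X)) _ _ ?_ ?_
    · rw [Category.assoc, hb₀, hkj, Scheme.Hom.toNormalization_fromNormalization]
    · have h0 : ((k ≫ b₀) ≫ (X.fromSpecStalk (genericPoint X)).fromNormalization)
          (IsLocalRing.closedPoint (X.presheaf.stalk (genericPoint X))) = genericPoint X := by
        rw [Category.assoc, hb₀, hkj]; exact hptX
      exact h0
  exact iso_of_data (X.fromSpecStalk (genericPoint X))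
    (pullback.snd (Y.fromSpecStalk (genericPoint Y)) f) k hkj b₀ hb₀
    (fun m hm => endo_unique X m hm) U2

theorem main9791 {X Y : Scheme.{u}} (f : X ⟶ Y) [Smooth f] [IsIntegral X] [IsIntegral Y]
    [QuasiCompact (X.fromSpecStalk (genericPoint X))]
    [QuasiSeparated (X.fromSpecStalk (genericPoint X))]
    [QuasiCompact (Y.fromSpecStalk (genericPoint Y))]
    [QuasiSeparated (Y.fromSpecStalk (genericPoint Y))] :
    ∃! e : Curv2.normalization X ≅ pullback f (Curv2.normalizationι Y),
      e.hom ≫ pullback.fst f (Curv2.normalizationι Y) = Curv2.normalizationι X := by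
  show ∃! e : (X.fromSpecStalk (genericPoint X)).normalization ≅
      pullback f (Y.fromSpecStalk (genericPoint Y)).fromNormalization,
    e.hom ≫ pullback.fst f (Y.fromSpecStalk (genericPoint Y)).fromNormalization =
      (X.fromSpecStalk (genericPoint X)).fromNormalization
  obtain ⟨a, haiso, ha⟩ := main9791_aux f
  haveI := haiso
  obtain ⟨e, he⟩ : ∃ e : (X.fromSpecStalk (genericPoint X)).normalization ≅
      pullback f (Y.fromSpecStalk (genericPoint Y)).fromNormalization,
      e.hom ≫ pullback.fst f (Y.fromSpecStalk (genericPoint Y)).fromNormalization =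
        (X.fromSpecStalk (genericPoint X)).fromNormalization := by
    refine ⟨asIso a ≪≫ asIso ((Y.fromSpecStalk (genericPoint Y)).normalizationPullback f) ≪≫
      pullbackSymmetry (Y.fromSpecStalk (genericPoint Y)).fromNormalization f, ?_⟩
    have h1 : (asIso a ≪≫ asIso ((Y.fromSpecStalk (genericPoint Y)).normalizationPullback f) ≪≫
        pullbackSymmetry (Y.fromSpecStalk (genericPoint Y)).fromNormalization f).hom =
        a ≫ (Y.fromSpecStalk (genericPoint Y)).normalizationPullback f ≫
          (pullbackSymmetry (Y.fromSpecStalk (genericPoint Y)).fromNormalization f).hom := rfl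
    rw [h1, Category.assoc, Category.assoc, pullbackSymmetry_hom_comp_fst,
      Scheme.Hom.normalizationPullback_snd, ha]
  refine ⟨e, he, fun e' he' => ?_⟩
  have hinv : e.inv ≫ (X.fromSpecStalk (genericPoint X)).fromNormalization =
      pullback.fst f (Y.fromSpecStalk (genericPoint Y)).fromNormalization := by
    rw [← he, Iso.inv_hom_id_assoc]
  have hm : (e'.hom ≫ e.inv) ≫ (X.fromSpecStalk (genericPoint X)).fromNormalization =
      (X.fromSpecStalk (genericPoint X)).fromNormalization := by
    rw [Category.assoc, hinv, he']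
  have h1 := endo_unique X (e'.hom ≫ e.inv) hm
  apply Iso.ext
  have h2 : e'.hom = (e'.hom ≫ e.inv) ≫ e.hom := by
    rw [Category.assoc, Iso.inv_hom_id, Category.comp_id]
  rw [h2, h1, Category.id_comp]

end Groth.Agent.Lib.NormSmoothH4
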