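import Mathlib
import Groth.Prelude
import Groth.Agent.Lib.DiscDeg4_helper9
import Groth.Agent.Lib.NormSmooth_helper4
import Groth.Agent.Lib.EtNormal5_helper4
import Groth.Agent.Lib.Cliff9a_helper9

/-!
# A finite separable morphism of smooth curves of equal genus `≥ 2` is an isomorphism
(S14513, helper9)
APPEND-ONLY once landed.
-/

set_option autoImplicit false
universe u
open CategoryTheory CategoryTheory.Limits AlgebraicGeometry Opposite TopologicalSpace

namespace DiscDeg

open QcqsLoc QCohExtn FLFH8 SerreCrit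

section Normal

/-- a scheme smooth over a field is normal -/
theorem isNormalScheme_of_smooth (k : Type u) [Field k] {Y : Scheme.{u}}
    (p : Y ⟶ Spec (CommRingCat.of k)) [Smooth p] : Pi1.IsNormalScheme Y := fun y =>
  (Groth.Agent.Lib.EtNormal5H4.stalk_of_smooth p y).2
    (Groth.Agent.Lib.NormSmoothH4.stalk_Spec_of_isField (CommRingCat.of k)
      (Field.toIsField k) (p y))

end Normal

section RankOne

variable {X Y : Scheme.{u}} [IsIntegral X] [IsIntegral Y] (f : X ⟶ Y) [IsFinite f]
  (e : f (genericPoint X) = genericPoint Y)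

include e in
/-- if `f_* O_X` is locally free of rank one then `f` is an isomorphism -/
theorem isIso_of_rank_one (hE : FlatMod.IsFinLocFreeOfRank 1 (EE f)) : IsIso f := by
  have hEc : Coh.IsCoh (EE f) := BirCurve.isCoh_push_OO f
  haveI := hEc.1
  have hloc : ∀ y : Y, ∃ W : Y.Opens, IsAffineOpen W ∧ y ∈ W ∧
      Function.Bijective (f.app W).hom := by
    intro y
    obtain ⟨U₀, hyU₀, ⟨α⟩⟩ := hE y
    obtain ⟨W, hW, hyW, -, γ₁, hγ₁⟩ := exists_affine_bases (EE f) hyU₀ α
    have hWne : (W : Set Y).Nonempty := ⟨y, hyW⟩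
    refine ⟨W, hW, hyW, app_injective f e W hWne, ?_⟩
    letI := (f.app W).hom.toAlgebra
    let b := basisOf f γ₁ (hγ₁ W le_rfl)
    -- `1 = a • γ`, `γ * γ = c • γ`
    have h1 : (1 : Γ(X, f ⁻¹ᵁ W)) = b.repr 1 0 • b 0 := by
      conv_lhs => rw [← b.sum_repr 1]
      rw [Fin.sum_univ_one]
    have h2 : b 0 * b 0 = b.repr (b 0 * b 0) 0 • b 0 := by
      conv_lhs => rw [← b.sum_repr (b 0 * b 0)]
      rw [Fin.sum_univ_one]
    set a := b.repr 1 0 with ha
    set c := b.repr (b 0 * b 0) 0 with hc
    have h3 : b 0 = (a * c) • b 0 := by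
      calc b 0 = 1 * b 0 := (one_mul _).symm
        _ = (a • b 0) * b 0 := by rw [← h1]
        _ = a • (b 0 * b 0) := by rw [smul_mul_assoc]
        _ = a • (c • b 0) := by rw [← h2]
        _ = (a * c) • b 0 := by rw [smul_smul]
    have h4 : a * c = 1 := by
      have h5 : ((a * c) - 1) • b 0 = 0 := by
        rw [sub_smul, one_smul, ← h3, sub_self]
      have h6 := b.linearIndependent
      rw [Fintype.linearIndependent_iff] at h6
      have h7 := h6 (fun _ => a * c - 1) (by rw [Fin.sum_univ_one]; exact h5) 0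
      exact sub_eq_zero.mp h7
    intro x
    refine ⟨b.repr x 0 * c, ?_⟩
    have hx : x = b.repr x 0 • b 0 := by
      conv_lhs => rw [← b.sum_repr x]
      rw [Fin.sum_univ_one]
    have h8 : b 0 = c • (1 : Γ(X, f ⁻¹ᵁ W)) := by
      rw [h1, smul_smul, mul_comm c a, h4, one_smul]
    have h9 : (f.app W).hom (b.repr x 0 * c) = (b.repr x 0 * c) • (1 : Γ(X, f ⁻¹ᵁ W)) := by
      rw [Algebra.smul_def, mul_one]
      rfl
    rw [h9, ← smul_smul, ← h8]
    exact hx.symm
  choose W hW hyW hbij using hloc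
  have h1 : ∀ y : Y, MorphismProperty.isomorphisms Scheme (f ∣_ W y) := by
    intro y
    have h3 : IsIso (f.app (W y)) := (ConcreteCategory.isIso_iff_bijective _).mpr (hbij y)
    exact (isIso_morphismRestrict_iff_isIso_app (f := f) (hW y)).mpr h3
  have hcov : ⨆ y : Y, W y = ⊤ := by
    rw [eq_top_iff]
    intro y _
    exact Opens.mem_iSup.mpr ⟨y, hyW y⟩
  exact IsZariskiLocalAtTarget.of_iSup_eq_top (P := MorphismProperty.isomorphisms Scheme)
    (f := f) W hcov h1

end RankOne

section Main14513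

variable (k : Type u) [Field k] [IsAlgClosed k]
  (X : Scheme.{u}) [X.Over (Spec (CommRingCat.of k))] [IsIntegral X]
  [IsProper (X ↘ (Spec (CommRingCat.of k)))]
  (Y : Scheme.{u}) [Y.Over (Spec (CommRingCat.of k))] [IsIntegral Y]
  [IsProper (Y ↘ (Spec (CommRingCat.of k)))] [Smooth (Y ↘ (Spec (CommRingCat.of k)))]

/-- **S14513** -/
theorem main14513 (hdimX : topologicalKrullDim X = 1) (hdimY : topologicalKrullDim Y = 1)
    (f : X ⟶ Y) [IsFinite f]
    (hf : f ≫ (Y ↘ (Spec (CommRingCat.of k))) = (X ↘ (Spec (CommRingCat.of k))))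
    (e : f (genericPoint X) = genericPoint Y)
    (hg : Curv2.genus k X = Curv2.genus k Y) (h2 : 2 ≤ Curv2.genus k Y)
    (hsep : letI := ((Y.presheaf.stalkSpecializes (specializes_of_eq e) ≫
        f.stalkMap (genericPoint X)).hom).toAlgebra
      Algebra.IsSeparable Y.functionField X.functionField) : IsIso f := by
  haveI : IsLocallyNoetherian Y :=
    LocallyOfFiniteType.isLocallyNoetherian (Y ↘ Spec (CommRingCat.of k))
  haveI : IsLocallyNoetherian X :=
    LocallyOfFiniteType.isLocallyNoetherian (X ↘ Spec (CommRingCat.of k))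
  have hnY := isNormalScheme_of_smooth k (Y ↘ Spec (CommRingCat.of k))
  obtain ⟨n, hn0, hE⟩ := exists_rank f e hnY hdimY.le
  have h1 := euler_push_le k hdimY.le f n hE
    (fun W hW hWne γ hγ => disc_ne_zero_of_separable f e hsep W hW hWne γ hγ)
  haveI : (OO X).IsQuasicoherent := SerreCrit.isQuasicoherent_OO
  haveI : (OO Y).IsQuasicoherent := SerreCrit.isQuasicoherent_OO
  have h3 := BirCurve.euler_push k f hf (OO X)
  rw [h3] at h1
  have eX := CurveRR.euler_eq_sub k X hdimX.le (Coh.structureModule X)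
  have eY := CurveRR.euler_eq_sub k Y hdimY.le (Coh.structureModule Y)
  rw [CurveSpec.finrank_HH0_structureModule k X hdimX] at eX
  rw [CurveSpec.finrank_HH0_structureModule k Y hdimY] at eY
  have hgX : Curv2.genus k X = Module.finrank k (Coh.HH X (Coh.structureModule X) 1) := rfl
  have hgY : Curv2.genus k Y = Module.finrank k (Coh.HH Y (Coh.structureModule Y) 1) := rfl
  rw [← hgX] at eX
  rw [← hgY] at eY
  rw [eX, eY, hg] at h1
  have hn1 : n = 1 := by
    by_contra hne
    have hn2 : (2 : ℤ) ≤ n := by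
      have : 2 ≤ n := by omega
      exact_mod_cast this
    have hg2 : (2 : ℤ) ≤ (Curv2.genus k Y : ℤ) := by exact_mod_cast h2
    push_cast at h1
    nlinarith
  subst hn1
  exact isIso_of_rank_one f e hE

end Main14513

end DiscDeg
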