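import Mathlib

/-!
# Discriminants of reduced finite algebras in characteristic zero (helper9)

* `trace_pi`: the trace of a finite product of finite free algebras;
* `discr_ne_zero_of_isReduced_field`: over a perfect field, a basis of a reduced finite algebra has
  nonzero discriminant;
* `discr_ne_zero_of_isReduced`: the same over a domain of characteristic zero;
* `isReduced_of_localizations`: reducedness of an integral torsion-free algebra over a domain can
  be tested at the primes lying over zero.
APPEND-ONLY once landed.
-/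

set_option autoImplicit false

universe u

namespace DiscDeg

open Module

section TracePi

variable {K : Type*} [CommRing K] {η : Type*} [Fintype η] [DecidableEq η]
  (L : η → Type*) [∀ m, CommRing (L m)] [∀ m, Algebra K (L m)]
  [∀ m, Module.Free K (L m)] [∀ m, Module.Finite K (L m)]

theorem trace_pi (x : ∀ m, L m) :
    Algebra.trace K (∀ m, L m) x = ∑ m, Algebra.trace K (L m) (x m) := by
  classical
  let b : ∀ m, Basis (Module.Free.ChooseBasisIndex K (L m)) K (L m) :=
    fun m => Module.Free.chooseBasis K (L m)
  rw [Algebra.trace_eq_matrix_trace (Pi.basis b) x, Matrix.trace, Fintype.sum_sigma]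
  apply Finset.sum_congr rfl
  intro m _
  rw [Algebra.trace_eq_matrix_trace (b m) (x m), Matrix.trace]
  apply Finset.sum_congr rfl
  intro i _
  rw [Matrix.diag_apply, Matrix.diag_apply, Algebra.leftMulMatrix_eq_repr_mul,
    Algebra.leftMulMatrix_eq_repr_mul, Pi.basis_repr, Pi.basis_apply]
  simp

end TracePi

section Field

variable {K R : Type u} [Field K] [PerfectField K] [CommRing R] [Algebra K R]
  [Module.Finite K R] [IsReduced R]

/-- the trace form of a reduced finite algebra over a perfect field is nondegenerate -/
theorem exists_trace_mul_ne_zero (x : R) (hx : x ≠ 0) : ∃ y : R, Algebra.trace K R (x * y) ≠ 0 := by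
  classical
  haveI : IsArtinianRing R := IsArtinianRing.of_finite K R
  let e₀ := IsArtinianRing.equivPi R
  let e : R ≃ₐ[K] (∀ m : MaximalSpectrum R, R ⧸ m.asIdeal) := e₀.restrictScalars K
  haveI : Fintype (MaximalSpectrum R) := Fintype.ofFinite _
  have hex : e x ≠ 0 := fun h => hx (e.injective (by rw [h, map_zero]))
  obtain ⟨m₀, hm₀⟩ : ∃ m₀, e x m₀ ≠ 0 := by
    by_contra hcon
    push_neg at hcon
    exact hex (funext hcon)
  letI : ∀ m : MaximalSpectrum R, Field (R ⧸ m.asIdeal) := fun m =>
    Ideal.Quotient.field m.asIdeal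
  haveI : ∀ m : MaximalSpectrum R, Module.Finite K (R ⧸ m.asIdeal) := fun m =>
    Module.Finite.of_surjective (Ideal.Quotient.mkₐ K m.asIdeal).toLinearMap
      (Ideal.Quotient.mkₐ_surjective K m.asIdeal)
  haveI : Algebra.IsSeparable K (R ⧸ m₀.asIdeal) := inferInstance
  have hnd := (traceForm_nondegenerate K (R ⧸ m₀.asIdeal)).1 (e x m₀)
  obtain ⟨z, hz⟩ : ∃ z, Algebra.trace K (R ⧸ m₀.asIdeal) (e x m₀ * z) ≠ 0 := by
    by_contra hcon
    push_neg at hcon
    exact hm₀ (hnd (fun z => by rw [Algebra.traceForm_apply]; exact hcon z))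
  refine ⟨e.symm (Pi.single m₀ z), ?_⟩
  rw [← Algebra.trace_eq_of_algEquiv e, map_mul, AlgEquiv.apply_symm_apply, trace_pi]
  rw [Finset.sum_eq_single m₀]
  · rw [Pi.mul_apply, Pi.single_eq_same]
    exact hz
  · intro m _ hm
    rw [Pi.mul_apply, Pi.single_eq_of_ne hm, mul_zero, map_zero]
  · intro h
    exact absurd (Finset.mem_univ m₀) h

/-- over a perfect field, a basis of a reduced finite algebra has nonzero discriminant -/
theorem discr_ne_zero_of_isReduced_field {ι : Type*} [Fintype ι] [DecidableEq ι]
    (b : Basis ι K R) : Algebra.discr K b ≠ 0 := by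
  rw [Algebra.discr_def, Algebra.traceMatrix_of_basis,
    ← LinearMap.BilinForm.nondegenerate_iff_det_ne_zero]
  refine ⟨fun x hx => ?_, fun x hx => ?_⟩
  · by_contra hne
    obtain ⟨y, hy⟩ := exists_trace_mul_ne_zero (K := K) x hne
    exact hy (hx y)
  · by_contra hne
    obtain ⟨y, hy⟩ := exists_trace_mul_ne_zero (K := K) x hne
    apply hy
    rw [mul_comm]
    exact hx y

end Field

section Domain

open scoped nonZeroDivisors

variable {A B : Type u} [CommRing A] [IsDomain A] [CharZero A] [CommRing B] [Algebra A B]
  [IsReduced B]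

/-- over a domain of characteristic zero, a basis of a reduced finite free algebra has nonzero
discriminant -/
theorem discr_ne_zero_of_isReduced {n : ℕ} (b : Basis (Fin n) A B) : Algebra.discr A b ≠ 0 := by
  let K := FractionRing A
  let R := Localization (Algebra.algebraMapSubmonoid B A⁰)
  haveI : CharZero K := charZero_of_injective_algebraMap (IsFractionRing.injective A K)
  let bK : Basis (Fin n) K R := b.localizationLocalization K A⁰ R
  haveI : Module.Finite K R := Module.Finite.of_basis bK
  haveI : IsReduced R := isReduced_localizationPreserves (Algebra.algebraMapSubmonoid B A⁰) R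
    inferInstance
  have h1 := discr_ne_zero_of_isReduced_field (K := K) bK
  have h2 := Algebra.discr_localizationLocalization (Rₘ := K) A A⁰ R b
  intro h0
  apply h1
  rw [h2, h0, map_zero]

end Domain

section Reduced

variable {A B : Type u} [CommRing A] [IsDomain A] [CommRing B] [Algebra A B]
  [Algebra.IsIntegral A B]

/-- reducedness of an integral torsion-free algebra over a domain can be tested at the primes
lying over zero -/
theorem isReduced_of_localizations
    (htf : ∀ (a : A) (b : B), a • b = 0 → a = 0 ∨ b = 0)
    (hloc : ∀ (Q : Ideal B) [Q.IsPrime], Q.comap (algebraMap A B) = ⊥ →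
      ∀ b : B, IsNilpotent b → ∃ s : B, s ∉ Q ∧ s * b = 0) : IsReduced B := by
  refine ⟨fun b hb => ?_⟩
  by_contra hb0
  let I : Ideal B := Ideal.span {b} |>.annihilator
  have hI : ∀ s : B, s ∈ I ↔ s * b = 0 := by
    intro s
    rw [Submodule.mem_annihilator_span_singleton]
    rfl
  have hIA : I.comap (algebraMap A B) ≤ (⊥ : Ideal A) := by
    intro a ha
    rw [Ideal.mem_comap, hI, ← Algebra.smul_def] at ha
    rcases htf a b ha with h | h
    · exact h
    · exact absurd h hb0
  obtain ⟨Q, hQI, hQp, hQA⟩ := Ideal.exists_ideal_over_prime_of_isIntegral (⊥ : Ideal A) I hIA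
  obtain ⟨s, hsQ, hsb⟩ := hloc Q hQA b hb
  exact hsQ (hQI ((hI s).mpr hsb))

end Reduced

end DiscDeg
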