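import Mathlib
import Groth.Prelude
import Groth.Agent.Lib.DiscDeg4_helper9
import Groth.Agent.Lib.DiscDeg6_helper9
import Groth.Agent.Lib.FibStalkIso_helper5

/-!
# Finite flat covers of curves with reduced generic fibre: `deg g_* O_Y ≤ 0` (helper9)

* `isReduced_stalk_of_generic`: if the fibre of `g` over the generic point of an integral scheme
  is reduced then the local rings of the source at the points over the generic point are reduced;
* `isReduced_sections`: sections of the source over the preimage of an affine open are reduced if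
  they are torsion-free over the base;
* `disc_ne_zero_of_generic_reduced`, `main18585`.
APPEND-ONLY once landed.
-/

set_option autoImplicit false
universe u
open CategoryTheory CategoryTheory.Limits AlgebraicGeometry Opposite TopologicalSpace

namespace DiscDeg

open QcqsLoc QCohExtn FLFH8 SerreCrit
open Groth.Agent.FibStalkDimH8 Groth.Agent.FibStalkIso

section StalkReduced

variable {Y C : Scheme.{u}} [IsIntegral C] (g : Y ⟶ C)

theorem isReduced_stalk_of_generic_aux (y : Y) (c : C) (hc : g.base y = c)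
    (hcg : c = genericPoint C) (hred : AlgebraicGeometry.IsReduced (g.fiber c)) :
    _root_.IsReduced (Y.presheaf.stalk y) := by
  subst hc
  haveI := hred
  haveI : _root_.IsReduced ((g.fiber (g.base y)).presheaf.stalk (g.asFiber y)) := inferInstance
  have h1 : _root_.IsReduced (Y.presheaf.stalk y ⧸ fibIdeal g y) :=
    isReduced_of_injective (fibStalkEquiv g y).toRingHom (fibStalkEquiv g y).injective
  have h2 : fibIdeal g y = ⊥ := by
    have hfield : IsField (C.presheaf.stalk (g.base y)) := by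
      rw [hcg]
      exact Field.toIsField C.functionField
    have h3 : IsLocalRing.maximalIdeal (C.presheaf.stalk (g.base y)) = ⊥ :=
      IsLocalRing.isField_iff_maximalIdeal_eq.mp hfield
    unfold fibIdeal
    rw [h3, Ideal.map_bot]
  refine isReduced_of_injective (Ideal.Quotient.mk (fibIdeal g y)) ?_
  rw [RingHom.injective_iff_ker_eq_bot, Ideal.mk_ker]
  exact h2

theorem isReduced_stalk_of_generic (y : Y) (hy : g.base y = genericPoint C)
    (hred : AlgebraicGeometry.IsReduced (g.fiber (genericPoint C))) :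
    _root_.IsReduced (Y.presheaf.stalk y) :=
  isReduced_stalk_of_generic_aux g y (genericPoint C) hy rfl hred

end StalkReduced

section SectionsReduced

variable {Y C : Scheme.{u}} [IsIntegral C] (g : Y ⟶ C) [IsFinite g]

theorem base_fromSpec_of_comap_eq_bot (W : C.Opens) (hW : IsAffineOpen W)
    (hWne : (W : Set C).Nonempty) (q : PrimeSpectrum Γ(Y, g ⁻¹ᵁ W))
    (hq : q.asIdeal.comap (g.app W).hom = ⊥) :
    g.base ((hW.preimage g).fromSpec q) = genericPoint C := by
  haveI : Nonempty ↥((W : C.Opens) : Scheme.{u}) := ⟨⟨genericPoint C, generic_mem W hWne⟩⟩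
  haveI : IsDomain Γ(C, W) := IsIntegral.component_integral W
  have h1 := IsAffineOpen.SpecMap_appLE_fromSpec g hW (hW.preimage g) le_rfl
  have h2 : g.base ((hW.preimage g).fromSpec q) =
      hW.fromSpec (Spec.map (g.appLE W (g ⁻¹ᵁ W) le_rfl) q) := by
    have := congrArg (fun φ => φ.base q) h1
    exact this.symm
  rw [h2]
  have h3 : Spec.map (g.appLE W (g ⁻¹ᵁ W) le_rfl) q = (⊥ : PrimeSpectrum Γ(C, W)) := by
    apply PrimeSpectrum.ext
    rw [← Scheme.Hom.app_eq_appLE]
    exact hq
  rw [h3, ← genericPoint_eq_bot_of_affine, ← hW.primeIdealOf_genericPoint]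
  exact hW.fromSpec_primeIdealOf _

theorem isReduced_sections (hred : AlgebraicGeometry.IsReduced (g.fiber (genericPoint C)))
    (W : C.Opens) (hW : IsAffineOpen W) (hWne : (W : Set C).Nonempty)
    (htf : ∀ (a : Γ(C, W)) (b : Γ(Y, g ⁻¹ᵁ W)), (g.app W).hom a * b = 0 → a = 0 ∨ b = 0) :
    _root_.IsReduced Γ(Y, g ⁻¹ᵁ W) := by
  letI algAB : Algebra Γ(C, W) Γ(Y, g ⁻¹ᵁ W) := (g.app W).hom.toAlgebra
  haveI : Nonempty ↥((W : C.Opens) : Scheme.{u}) := ⟨⟨genericPoint C, generic_mem W hWne⟩⟩
  haveI : IsDomain Γ(C, W) := IsIntegral.component_integral W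
  haveI : Module.Finite Γ(C, W) Γ(Y, g ⁻¹ᵁ W) := g.finite_app W hW
  haveI : Algebra.IsIntegral Γ(C, W) Γ(Y, g ⁻¹ᵁ W) := inferInstance
  refine isReduced_of_localizations (A := Γ(C, W)) (B := Γ(Y, g ⁻¹ᵁ W))
    (fun a b hab => htf a b (by rw [← hab, Algebra.smul_def]; rfl)) ?_
  intro Q hQ hQA x hx
  have hV : IsAffineOpen (g ⁻¹ᵁ W) := hW.preimage g
  let q : PrimeSpectrum Γ(Y, g ⁻¹ᵁ W) := ⟨Q, hQ⟩
  have hy : hV.fromSpec q ∈ g ⁻¹ᵁ W := by
    have : hV.fromSpec q ∈ Set.range hV.fromSpec := ⟨q, rfl⟩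
    rw [hV.range_fromSpec] at this
    exact this
  have hgy : g.base (hV.fromSpec q) = genericPoint C :=
    base_fromSpec_of_comap_eq_bot g W hW hWne q hQA
  haveI hr : _root_.IsReduced (Y.presheaf.stalk (hV.fromSpec q)) :=
    isReduced_stalk_of_generic g _ hgy hred
  letI := TopCat.Presheaf.algebra_section_stalk Y.presheaf ⟨hV.fromSpec q, hy⟩
  haveI hloc : IsLocalization.AtPrime (Y.presheaf.stalk (hV.fromSpec q)) Q :=
    hV.isLocalization_stalk' q hy
  have h0 : algebraMap Γ(Y, g ⁻¹ᵁ W) (Y.presheaf.stalk (hV.fromSpec q)) x = 0 :=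
    (hx.map _).eq_zero
  obtain ⟨m, hm⟩ := (IsLocalization.map_eq_zero_iff Q.primeCompl
    (Y.presheaf.stalk (hV.fromSpec q)) x).mp h0
  exact ⟨m.1, m.2, hm⟩

end SectionsReduced

section DiscNe

variable {Y C : Scheme.{u}} [IsIntegral C] (g : Y ⟶ C) [IsFinite g]

/-- the discriminant of a basis does not vanish when the generic fibre is reduced and the base
has characteristic zero -/
theorem disc_ne_zero_of_generic_reduced
    (hred : AlgebraicGeometry.IsReduced (g.fiber (genericPoint C)))
    {n : ℕ} (W : C.Opens) (hW : IsAffineOpen W) (hWne : (W : Set C).Nonempty)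
    [CharZero Γ(C, W)]
    (γ : Fin n → Γ(EE g, W)) (hγ : BasisOn (EE g) γ W le_rfl) : disc g W γ ≠ 0 := by
  haveI : Nonempty ↥((W : C.Opens) : Scheme.{u}) := ⟨⟨genericPoint C, generic_mem W hWne⟩⟩
  haveI : IsDomain Γ(C, W) := IsIntegral.component_integral W
  letI algAB : Algebra Γ(C, W) Γ(Y, g ⁻¹ᵁ W) := (g.app W).hom.toAlgebra
  let b := basisOf g γ hγ
  haveI : Module.Free Γ(C, W) Γ(Y, g ⁻¹ᵁ W) := Module.Free.of_basis b
  haveI : _root_.IsReduced Γ(Y, g ⁻¹ᵁ W) := by
    refine isReduced_sections g hred W hW hWne (fun a x hax => ?_)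
    have h1 : a • x = 0 := by rw [Algebra.smul_def]; exact hax
    exact smul_eq_zero.mp h1
  have h1 := discr_ne_zero_of_isReduced (A := Γ(C, W)) (B := Γ(Y, g ⁻¹ᵁ W)) b
  have h3 : Algebra.discr Γ(C, W) b = disc g W γ := by
    unfold disc
    congr 1
    funext i
    exact basisOf_apply g γ hγ i
  rw [← h3]
  exact h1

end DiscNe

section Main18585

variable (k : Type u) [Field k] [CharZero k]
  (C : Scheme.{u}) [C.Over (Spec (CommRingCat.of k))] [IsIntegral C]

include k in
theorem charZero_sections (W : C.Opens) (hWne : (W : Set C).Nonempty) : CharZero Γ(C, W) := by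
  haveI : Nonempty ↥((W : C.Opens) : Scheme.{u}) := ⟨⟨genericPoint C, generic_mem W hWne⟩⟩
  haveI : IsDomain Γ(C, W) := IsIntegral.component_integral W
  let φ : k →+* Γ(C, W) :=
    ((Scheme.ΓSpecIso (CommRingCat.of k)).inv ≫ (C ↘ Spec (CommRingCat.of k)).appTop ≫
      C.presheaf.map (homOfLE (le_top : W ≤ ⊤)).op).hom
  exact charZero_of_injective_ringHom φ.injective

/-- **S18585** -/
theorem main18585 (hC : Curve.IsSmoothProperCurve k C (C ↘ Spec (CommRingCat.of k)))
    (Y : Scheme.{u}) (g : Y ⟶ C) [IsFinite g] (d : ℕ)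
    (hd : FlatMod.IsFinLocFreeOfRank d ((Coh.push g).obj (Coh.structureModule Y)))
    (hred : AlgebraicGeometry.IsReduced (g.fiber (genericPoint C))) :
    Curv2.deg k C ((Coh.push g).obj (Coh.structureModule Y)) d ≤ 0 := by
  obtain ⟨hprop, -, -, hdim⟩ := hC
  haveI := hprop
  have h1 := euler_push_le k hdim.le g d hd
    (fun W hW hWne γ hγ => by
      haveI := charZero_sections k C W hWne
      exact disc_ne_zero_of_generic_reduced g hred W hW hWne γ hγ)
  unfold Curv2.deg
  have h2 : Curv2.euler k C ((Coh.push g).obj (Coh.structureModule Y)) = Curv2.euler k C (EE g) :=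
    rfl
  rw [h2]
  linarith

end Main18585

end DiscDeg
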