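import Mathlib
import Groth.Prelude
import Groth.Agent.S2216

set_option autoImplicit false
set_option linter.unusedVariables false
set_option linter.unusedTactic false
set_option linter.unreachableTactic false
set_option linter.unusedSectionVars false
set_option linter.style.haveILetI false
set_option maxHeartbeats 800000

universe u

open TensorProduct

namespace Groth.Agent.Lib.DiscNormDiffH4

variable {A B : Type u} [CommRing A] [CommRing B] [Algebra A B] {ι : Type} [Fintype ι]
  [DecidableEq ι]

/-- The Gram matrix `(lam (b k * b j))` of a functional `lam` with respect to a basis. -/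
noncomputable def gram (b : Module.Basis ι A B) (lam : B →ₗ[A] A) : Matrix ι ι A :=
  Matrix.of fun k j => lam (b k * b j)

theorem gram_apply (b : Module.Basis ι A B) (lam : B →ₗ[A] A) (k j : ι) :
    gram b lam k j = lam (b k * b j) := rfl

theorem lam_sum_mul (b : Module.Basis ι A B) (lam : B →ₗ[A] A) (γ : ι → A) (j : ι) :
    lam ((∑ k, γ k • b k) * b j) = ∑ k, γ k * gram b lam k j := by
  rw [Finset.sum_mul, map_sum]
  refine Finset.sum_congr rfl fun k _ => ?_
  rw [smul_mul_assoc, map_smul, smul_eq_mul]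
  rfl

theorem lam_mul_basis (b : Module.Basis ι A B) (lam : B →ₗ[A] A) (c : B) (j : ι) :
    lam (c * b j) = ∑ k, b.repr c k * gram b lam k j := by
  conv_lhs => rw [← b.sum_repr c]
  exact lam_sum_mul b lam (fun k => b.repr c k) j

/-- Every functional, multiplied by `det (gram lam)`, is a `B`-multiple of `lam`. -/
theorem exists_c (b : Module.Basis ι A B) (lam : B →ₗ[A] A) (φ : B →ₗ[A] A) :
    ∃ c : B, ∀ y : B, (gram b lam).det * φ y = lam (c * y) := by
  classical
  obtain ⟨v, hv⟩ : ∃ v : ι → A, v = fun i => φ (b i) := ⟨_, rfl⟩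
  obtain ⟨γ, hγ⟩ : ∃ γ : ι → A, γ = Matrix.vecMul v (Matrix.adjugate (gram b lam)) := ⟨_, rfl⟩
  refine ⟨∑ k, γ k • b k, fun y => ?_⟩
  have hlin : ((gram b lam).det • φ) = lam ∘ₗ LinearMap.mulLeft A (∑ k, γ k • b k) := by
    apply b.ext
    intro j
    rw [LinearMap.smul_apply, LinearMap.comp_apply, LinearMap.mulLeft_apply,
      lam_sum_mul b lam γ j]
    have h1 : ∑ k, γ k * gram b lam k j = Matrix.vecMul γ (gram b lam) j := rfl
    rw [h1, hγ, Matrix.vecMul_vecMul, Matrix.adjugate_mul, Matrix.vecMul_smul,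
      Matrix.vecMul_one, hv]
    rfl
  have h2 := congrArg (fun f => f y) hlin
  simpa using h2

/-- Key computation: for every functional `lam`, with `s = det (gram lam)`, the element
`s ^ (2n) * discr` is `s` times the norm of an element of the different. -/
theorem key (b : Module.Basis ι A B) (lam : B →ₗ[A] A) :
    ∃ x ∈ Disc.differentSet A B,
      (gram b lam).det ^ (2 * Fintype.card ι) * Algebra.discr A b =
        (gram b lam).det * Algebra.norm A x := by
  classical
  obtain ⟨s, hs⟩ : ∃ s : A, s = (gram b lam).det := ⟨_, rfl⟩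
  have hex : ∀ φ : B →ₗ[A] A, ∃ c : B, ∀ y : B, s * φ y = lam (c * y) := by
    intro φ
    rw [hs]
    exact exists_c b lam φ
  rw [← hs]
  obtain ⟨δ, hδ⟩ := hex (Algebra.trace A B)
  refine ⟨algebraMap A B s * δ, ?_, ?_⟩
  · intro φ
    obtain ⟨c, hc⟩ := hex φ
    refine ⟨algebraMap A B s * c, fun y => ?_⟩
    calc φ (algebraMap A B s * δ * y) = φ (s • (δ * y)) := by rw [Algebra.smul_def, mul_assoc]
      _ = s * φ (δ * y) := by rw [map_smul, smul_eq_mul]
      _ = lam (c * (δ * y)) := hc _
      _ = lam (δ * (c * y)) := by rw [mul_left_comm]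
      _ = s * Algebra.trace A B (c * y) := (hδ _).symm
      _ = Algebra.trace A B (s • (c * y)) := by rw [map_smul, smul_eq_mul]
      _ = Algebra.trace A B (algebraMap A B s * c * y) := by rw [Algebra.smul_def, mul_assoc]
  · have hT : s • Algebra.traceMatrix A b =
        (Algebra.leftMulMatrix b δ).transpose * gram b lam := by
      ext i j
      rw [Matrix.smul_apply, Algebra.traceMatrix_apply, Algebra.traceForm_apply, smul_eq_mul,
        hδ, Matrix.mul_apply, ← mul_assoc, lam_mul_basis b lam (δ * b i) j]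
      refine Finset.sum_congr rfl fun k _ => ?_
      rw [Matrix.transpose_apply, Algebra.leftMulMatrix_eq_repr_mul]
    have hdet := congrArg Matrix.det hT
    rw [Matrix.det_smul, Matrix.det_mul, Matrix.det_transpose,
      ← Algebra.norm_eq_matrix_det b δ, ← Algebra.discr_def, ← hs] at hdet
    rw [map_mul, Algebra.norm_algebraMap_of_basis b s]
    calc s ^ (2 * Fintype.card ι) * Algebra.discr A b
        = s ^ Fintype.card ι * (s ^ Fintype.card ι * Algebra.discr A b) := by
          rw [two_mul, pow_add, mul_assoc]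
      _ = s ^ Fintype.card ι * (Algebra.norm A δ * s) := by rw [hdet]
      _ = s * (s ^ Fintype.card ι * Algebra.norm A δ) := by ring

/-- Functionals take elements of `m B` into `m`. -/
theorem map_mem_of_mem_map (m : Ideal A) (z : B) (hz : z ∈ m.map (algebraMap A B))
    (n : B →ₗ[A] A) : n z ∈ m := by
  let I' : Ideal B :=
    { carrier := {z | ∀ n : B →ₗ[A] A, n z ∈ m}
      add_mem' := fun {x y} hx hy n => by
        rw [map_add]
        exact m.add_mem (hx n) (hy n)
      zero_mem' := fun n => by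
        rw [map_zero]
        exact m.zero_mem
      smul_mem' := fun t x hx n => hx (n ∘ₗ LinearMap.mulLeft A t) }
  have hle : m.map (algebraMap A B) ≤ I' := by
    rw [Ideal.map_le_iff_le_comap]
    intro a ha
    show ∀ n : B →ₗ[A] A, n (algebraMap A B a) ∈ m
    intro n
    rw [Algebra.algebraMap_eq_smul_one, map_smul, smul_eq_mul]
    exact m.mul_mem_right _ ha
  exact hle hz n

/-- Semi-local generation: modulo `m`, `ω` is generated by one element. -/
theorem exists_gen (m : Ideal A) [hm : m.IsMaximal] [Module.Finite A B]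
    [Module.Invertible B (Disc.Omega A B)] :
    ∃ lam : Disc.Omega A B, ∀ φ : Disc.Omega A B, ∃ c : B, ∀ y : B,
      φ.toLinearMap y - lam.toLinearMap (c * y) ∈ m := by
  classical
  obtain ⟨I, hI⟩ : ∃ I : Ideal B, I = m.map (algebraMap A B) := ⟨_, rfl⟩
  haveI hfin : Finite (MaximalSpectrum (B ⧸ I)) := by
    subst hI
    letI : Field (A ⧸ m) := Ideal.Quotient.field m
    haveI : Module.Finite (A ⧸ m) (B ⧸ m.map (algebraMap A B)) :=
      Module.Finite.of_restrictScalars_finite A (A ⧸ m) (B ⧸ m.map (algebraMap A B))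
    haveI : IsArtinianRing (B ⧸ m.map (algebraMap A B)) :=
      IsArtinianRing.of_finite (A ⧸ m) (B ⧸ m.map (algebraMap A B))
    infer_instance
  haveI hfree : Module.Free (B ⧸ I) ((B ⧸ I) ⊗[B] Disc.Omega A B) := inferInstance
  obtain ⟨e⟩ := Module.Invertible.free_iff_linearEquiv.mp hfree
  obtain ⟨lam, hlam⟩ := TensorProduct.mk_surjective B (Disc.Omega A B) (B ⧸ I)
    Ideal.Quotient.mk_surjective (e.symm 1)
  refine ⟨lam, fun φ => ?_⟩
  obtain ⟨c, hc⟩ := Ideal.Quotient.mk_surjective (e ((1 : B ⧸ I) ⊗ₜ[B] φ))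
  refine ⟨c, ?_⟩
  have h1 : (1 : B ⧸ I) ⊗ₜ[B] (c • lam) = (1 : B ⧸ I) ⊗ₜ[B] φ := by
    calc (1 : B ⧸ I) ⊗ₜ[B] (c • lam) = (c • (1 : B ⧸ I)) ⊗ₜ[B] lam :=
          (TensorProduct.smul_tmul c 1 lam).symm
      _ = (Ideal.Quotient.mk I c) ⊗ₜ[B] lam := by
          rw [Algebra.smul_def, mul_one]
          rfl
      _ = (Ideal.Quotient.mk I c) • ((1 : B ⧸ I) ⊗ₜ[B] lam) := by
          rw [TensorProduct.smul_tmul', smul_eq_mul, mul_one]
      _ = (Ideal.Quotient.mk I c) • e.symm 1 :=
          congrArg (fun t => Ideal.Quotient.mk I c • t) hlam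
      _ = e.symm ((Ideal.Quotient.mk I c) • 1) := (LinearEquiv.map_smul e.symm _ _).symm
      _ = e.symm (e ((1 : B ⧸ I) ⊗ₜ[B] φ)) := by rw [smul_eq_mul, mul_one, hc]
      _ = (1 : B ⧸ I) ⊗ₜ[B] φ := e.symm_apply_apply _
  have h2 : (1 : B ⧸ I) ⊗ₜ[B] (φ - c • lam) = 0 := by
    rw [TensorProduct.tmul_sub, h1, sub_self]
  have h3 : φ - c • lam ∈ I • (⊤ : Submodule B (Disc.Omega A B)) := by
    have h := TensorProduct.quotTensorEquivQuotSMul_mk_tmul (M := Disc.Omega A B) I 1
      (φ - c • lam)
    rw [map_one, h2, map_zero, one_smul] at h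
    exact (Submodule.Quotient.mk_eq_zero _).mp h.symm
  have h4 : ∀ ρ ∈ I • (⊤ : Submodule B (Disc.Omega A B)), ∀ y : B, ρ.toLinearMap y ∈ m := by
    intro ρ hρ
    refine Submodule.smul_induction_on hρ ?_ ?_
    · intro r hr n _ y
      refine map_mem_of_mem_map m (r * y) ?_ n.toLinearMap
      rw [← hI]
      exact I.mul_mem_right y hr
    · intro x y hx hy z
      exact m.add_mem (hx z) (hy z)
  intro y
  exact h4 _ h3 y

/-- For every maximal ideal `m` of `A` there is a functional whose Gram determinant is a unit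
modulo `m`. -/
theorem exists_lam_det (b : Module.Basis ι A B) (m : Ideal A) [hm : m.IsMaximal]
    [Module.Invertible B (Disc.Omega A B)] :
    ∃ lam : B →ₗ[A] A, (gram b lam).det ∉ m := by
  classical
  haveI : Module.Finite A B := Module.Finite.of_basis b
  obtain ⟨lam, hlam⟩ := exists_gen (A := A) (B := B) m
  refine ⟨lam.toLinearMap, fun hdet => ?_⟩
  choose c hc using fun i => hlam ⟨b.coord i⟩
  obtain ⟨C, hC⟩ : ∃ C : Matrix ι ι A, ∀ i k, C i k = b.repr (c i) k :=
    ⟨Matrix.of fun i k => b.repr (c i) k, fun _ _ => rfl⟩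
  have hCL : ∀ i j, (1 : Matrix ι ι A) i j - (C * gram b lam.toLinearMap) i j ∈ m := by
    intro i j
    have h := hc i (b j)
    have h1 : (b.coord i) (b j) = (1 : Matrix ι ι A) i j := by
      rw [Module.Basis.coord_apply, Module.Basis.repr_self, Matrix.one_apply,
        Finsupp.single_apply]
      by_cases hij : i = j
      · subst hij
        rw [if_pos rfl]
      · rw [if_neg (Ne.symm hij), if_neg hij]
    have h2 : lam.toLinearMap (c i * b j) = (C * gram b lam.toLinearMap) i j := by
      rw [lam_mul_basis b lam.toLinearMap (c i) j, Matrix.mul_apply]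
      exact Finset.sum_congr rfl fun k _ => by rw [hC]
    rw [← h1, ← h2]
    exact h
  have hmap : (C * gram b lam.toLinearMap).map (Ideal.Quotient.mk m) = 1 := by
    ext i j
    have h := (Ideal.Quotient.eq.mpr (hCL i j)).symm
    rw [Matrix.map_apply, h, Matrix.one_apply, Matrix.one_apply]
    by_cases hij : i = j
    · rw [if_pos hij, if_pos hij, map_one]
    · rw [if_neg hij, if_neg hij, map_zero]
  have hdet1 : Ideal.Quotient.mk m (C.det * (gram b lam.toLinearMap).det) = 1 := by
    rw [← Matrix.det_mul, RingHom.map_det, RingHom.mapMatrix_apply, hmap, Matrix.det_one]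
  have h1m : (1 : A) ∈ m := by
    have h2 : C.det * (gram b lam.toLinearMap).det - 1 ∈ m :=
      Ideal.Quotient.eq.mp (by rw [hdet1, map_one])
    have h3 : C.det * (gram b lam.toLinearMap).det ∈ m := m.mul_mem_left _ hdet
    have h4 := m.sub_mem h3 h2
    rwa [sub_sub_cancel] at h4
  exact hm.ne_top ((Ideal.eq_top_iff_one m).mpr h1m)

theorem main [IsNoetherianRing A] (b : Module.Basis ι A B)
    [Module.Invertible B (Disc.Omega A B)] :
    Ideal.span (Algebra.norm A '' Disc.differentSet A B) =
      Ideal.span {Algebra.discr A b} := by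
  classical
  apply le_antisymm
  · rw [Ideal.span_le]
    rintro _ ⟨x, hx, rfl⟩
    exact Groth.Agent.S2216.result b x hx
  · rw [Ideal.span_le, Set.singleton_subset_iff]
    obtain ⟨J, hJ⟩ : ∃ J : Ideal A,
        J = Ideal.span (Algebra.norm A '' Disc.differentSet A B) := ⟨_, rfl⟩
    rw [← hJ]
    obtain ⟨K, hK⟩ : ∃ K : Ideal A, ∀ a, a ∈ K ↔ a * Algebra.discr A b ∈ J :=
      ⟨Submodule.comap (LinearMap.mulRight A (Algebra.discr A b)) J, fun a => Iff.rfl⟩
    have hKtop : K = ⊤ := by
      by_contra hne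
      obtain ⟨m, hm, hKm⟩ := Ideal.exists_le_maximal K hne
      haveI := hm
      obtain ⟨lam, hlam⟩ := exists_lam_det b m
      obtain ⟨x, hx, hxe⟩ := key b lam
      have hmem : (gram b lam).det ^ (2 * Fintype.card ι) ∈ K := by
        rw [hK, hxe, hJ]
        exact Ideal.mul_mem_left _ _ (Ideal.subset_span ⟨x, hx, rfl⟩)
      exact hlam (hm.isPrime.mem_of_pow_mem _ (hKm hmem))
    have h1 : (1 : A) ∈ K := hKtop ▸ Submodule.mem_top
    have h2 := (hK 1).mp h1
    rwa [one_mul] at h2

end Groth.Agent.Lib.DiscNormDiffH4
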