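import Mathlib
import Groth.Prelude.Def_EGA43
import Groth.Agent.Lib.Equi133b_helper8
import Groth.Agent.Lib.EquidimIrr2_helper8
import Groth.Agent.Lib.CompDims_helper8
import Groth.Agent.Lib.FibClos_helper8

/-! EGA IV 13.3.x: equidimensionality at a point in terms of the irreducible components
through the point. -/

universe u
open AlgebraicGeometry CategoryTheory TopologicalSpace IsLocalRing

namespace EquiCompH8

variable {X Y : Scheme.{u}} (f : X ⟶ Y)

/-- general criterion in terms of maximal points. -/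
theorem isEquidimAt_of_maxpts [IsLocallyNoetherian Y] [LocallyOfFiniteType f] (x : X) (e : ℕ)
    (he : FlatMor.fibreDimAt f x ≤ (e : WithBot ℕ∞))
    (hmaxpt : ∀ ξ : X, (∀ b : X, b ⤳ ξ → b = ξ) → ξ ⤳ x →
      FlatMor.fibreDimAt f ξ = (e : WithBot ℕ∞) ∧ (∀ b : Y, b ⤳ f.base ξ → b = f.base ξ)) :
    EGA43.IsEquidimAt f x := by
  haveI : IsLocallyNoetherian X := LocallyOfFiniteType.isLocallyNoetherian f
  obtain ⟨U₀, hU₀o, hxU₀, hU₀⟩ :=
    Groth.Agent.LocDim2H8.exists_good_nbhd X Set.univ isClosed_univ x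
  let U : X.Opens := ⟨U₀ ∩ {u | FlatMor.fibreDimAt f u ≤ (e : WithBot ℕ∞)},
    hU₀o.inter (ChevH8.isOpen_fibreDimAt_le f e)⟩
  have hxU : x ∈ U := ⟨hxU₀, he⟩
  have hgenz : ∀ u ∈ U, ∃ ξ : X, (∀ b : X, b ⤳ ξ → b = ξ) ∧ ξ ⤳ x ∧ ξ ⤳ u := by
    intro u hu
    obtain ⟨η, -, hηx, hηu⟩ := hU₀ u ⟨hu.1, trivial⟩
    obtain ⟨ξ, hξη, hξ⟩ := CodimZeroH8.exists_isMax_ge η
    exact ⟨ξ, EquidimSubH8.isMax_of_coheight hξ, hξη.trans hηx, hξη.trans hηu⟩
  refine OpenAtEqH8.isEquidimAt_of_fibreDimAt_const f x e U hxU ?_ ?_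
  · intro Z hZ
    obtain ⟨a₀, hZa₀, ha₀max, -⟩ :=
      Groth.Agent.FlatFibDimH8.exists_generic_of_mem_irreducibleComponents (U : Scheme.{u}) Z hZ
    have ha₀max' : ∀ b : ↥(U : Scheme.{u}), b ⤳ a₀ → b = a₀ :=
      fun b hb => (hb.antisymm (ha₀max hb)).eq
    have hξmax := QSecH8.isMax_ι U a₀ ha₀max'
    obtain ⟨ξ', hξ'max, hξ'x, hξ'a⟩ := hgenz (U.ι.base a₀) a₀.2
    have hξ'eq : ξ' = U.ι.base a₀ := hξmax ξ' hξ'a
    rw [hξ'eq] at hξ'x
    obtain ⟨-, hfmax⟩ := hmaxpt (U.ι.base a₀) hξmax hξ'x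
    refine ⟨closure {f.base (U.ι.base a₀)},
      (SubCompH8.closure_mem_irreducibleComponents_iff _).mpr hfmax,
      (hξ'x.map f.continuous).mem_closure, ?_⟩
    apply subset_antisymm
    · apply closure_minimal _ isClosed_closure
      rintro _ ⟨b, hb, rfl⟩
      have hb' : a₀ ⤳ b := by
        rw [specializes_iff_mem_closure, ← hZa₀]; exact hb
      exact (hb'.map (U.ι ≫ f).continuous).mem_closure
    · apply closure_mono
      rw [Set.singleton_subset_iff]
      exact ⟨a₀, hZa₀ ▸ subset_closure rfl, rfl⟩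
  · intro u hu
    apply le_antisymm hu.2
    obtain ⟨ξ, hξmax, hξx, hξu⟩ := hgenz u hu
    rw [← (hmaxpt ξ hξmax hξx).1]
    exact FibGenH8.fibreDimAt_le_of_specializes f hξu

theorem closure_image_closure (ξ : X) :
    closure (f.base '' closure ({ξ} : Set X)) = closure {f.base ξ} := by
  apply subset_antisymm
  · apply closure_minimal _ isClosed_closure
    refine (image_closure_subset_closure_image f.continuous).trans ?_
    rw [Set.image_singleton]
  · exact closure_mono (Set.singleton_subset_iff.mpr ⟨ξ, subset_closure rfl, rfl⟩)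

/-- the local dimension at `x` of `closure {ξ} ∩ f⁻¹ (f x)` via the reduced subscheme. -/
theorem exists_sub (ξ x : X) (hξx : ξ ⤳ x) :
    ∃ (W : Closeds X) (w : ↥(Scheme.IdealSheafData.vanishingIdeal W).subscheme),
      (W : Set X) = closure {ξ} ∧
      (Scheme.IdealSheafData.vanishingIdeal W).subschemeι.base w = x := by
  let W : Closeds X := ⟨closure {ξ}, isClosed_closure⟩
  have hrange := EquidimSubH8.range_vanishingIdeal_subschemeι W
  obtain ⟨w, hw⟩ : x ∈ Set.range (Scheme.IdealSheafData.vanishingIdeal W).subschemeι.base := by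
    rw [hrange]; exact specializes_iff_mem_closure.mp hξx
  exact ⟨W, w, rfl, hw⟩

theorem main [IsLocallyNoetherian Y] [LocallyOfFiniteType f] (x : X) :
    EGA43.IsEquidimAt f x ↔
      ∃ e : ℕ, ∀ Xj ∈ irreducibleComponents (X : Type u), ∀ hx : x ∈ Xj,
        closure (f.base '' Xj) ∈ irreducibleComponents (Y : Type u) ∧
        (∀ η : Y, closure ({η} : Set Y) = closure (f.base '' Xj) →
          topologicalKrullDim ↥(Xj ∩ f.base ⁻¹' {η}) = e) ∧
        FlatMor.localDim ↥(Xj ∩ f.base ⁻¹' {f.base x})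
          ⟨x, ⟨hx, Set.mem_singleton (f.base x)⟩⟩ = e := by
  haveI : IsLocallyNoetherian X := LocallyOfFiniteType.isLocallyNoetherian f
  constructor
  · rintro ⟨e, U, hxU, h1, h2⟩
    have hconst : ∀ u ∈ U, FlatMor.fibreDimAt f u = (e : WithBot ℕ∞) := fun u hu => by
      have := EquidimCharH8.fibreDimAt_eq_of_components (U.ι ≫ f) e h2 ⟨u, hu⟩
      rwa [OpenAtEqH8.fibreDimAt_restrict] at this
    refine ⟨e, ?_⟩
    intro Xj hXj hx
    obtain ⟨ξ, hXjξ, hξmax0, -⟩ :=
      Groth.Agent.FlatFibDimH8.exists_generic_of_mem_irreducibleComponents X Xj hXj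
    have hξmax : ∀ b : X, b ⤳ ξ → b = ξ := fun b hb => (hb.antisymm (hξmax0 hb)).eq
    have hξx : ξ ⤳ x := by
      rw [specializes_iff_mem_closure, ← hXjξ]; exact hx
    have hξU : ξ ∈ U := hξx.mem_open U.2 hxU
    have hcl : closure (f.base '' Xj) = closure {f.base ξ} := by
      rw [hXjξ]; exact closure_image_closure f ξ
    have hfξ : FlatMor.fibreDimAt f ξ = (e : WithBot ℕ∞) := hconst ξ hξU
    refine ⟨?_, ?_, ?_⟩
    · rw [hcl]
      exact EquidimIrrH8.closure_mem_of_part f U x h1 ξ hξU hξmax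
    · intro η hη
      rw [hcl] at hη
      have hηeq : η = f.base ξ := by
        have h3 : η ⤳ f.base ξ := by
          rw [specializes_iff_mem_closure, hη]; exact subset_closure rfl
        have h4 : f.base ξ ⤳ η := by
          rw [specializes_iff_mem_closure, ← hη]; exact subset_closure rfl
        exact (h3.antisymm h4).eq
      rw [hηeq, hXjξ, FibClosH8.dim_closure_inter_fiber,
        ← FibGenH8.fibreDimAt_of_isMax f ξ hξmax, hfξ]
    · obtain ⟨W, w, hW, hw⟩ := exists_sub ξ x hξx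
      have hrange := EquidimSubH8.range_vanishingIdeal_subschemeι W
      have hx' : x ∈ Xj ∩ f.base ⁻¹' {f.base x} := ⟨hx, rfl⟩
      have hbr := EquidimSubH8.bridge f (Scheme.IdealSheafData.vanishingIdeal W).subschemeι
        (Scheme.IdealSheafData.vanishingIdeal W).subschemeι.isEmbedding w x hw Xj
        (by rw [hrange, hW, hXjξ]) hx'
      rw [← hbr]
      apply le_antisymm
      · have := QSecH8.fibreDimAt_comp_le f _
          (Scheme.IdealSheafData.vanishingIdeal W).subschemeι.isEmbedding w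
        rw [hw, hconst x hxU] at this
        exact this
      · obtain ⟨ξ'', hξ'', hgen⟩ := EquidimIrrH8.exists_generic_subscheme W ξ hW.symm
        rw [← hfξ, ← EquidimIrrH8.fibreDimAt_generic_eq f W ξ hξmax ξ'' hξ'' hgen]
        exact FibGenH8.fibreDimAt_le_of_specializes _ (hgen w)
  · rintro ⟨e, h⟩
    have hcomp : ∀ ξ : X, (∀ b : X, b ⤳ ξ → b = ξ) → ∀ hξx : ξ ⤳ x,
        closure {f.base ξ} ∈ irreducibleComponents (Y : Type u) ∧
        FlatMor.fibreDimAt f ξ = (e : WithBot ℕ∞) ∧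
        FlatMor.localDim ↥(closure ({ξ} : Set X) ∩ f.base ⁻¹' {f.base x})
          ⟨x, ⟨specializes_iff_mem_closure.mp hξx, Set.mem_singleton (f.base x)⟩⟩ = e := by
      intro ξ hξmax hξx
      have hXj : closure ({ξ} : Set X) ∈ irreducibleComponents (X : Type u) :=
        (SubCompH8.closure_mem_irreducibleComponents_iff ξ).mpr hξmax
      obtain ⟨h1, h2, h3⟩ := h _ hXj (specializes_iff_mem_closure.mp hξx)
      rw [closure_image_closure] at h1
      refine ⟨h1, ?_, h3⟩
      have := h2 (f.base ξ) (closure_image_closure f ξ).symm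
      rw [FibClosH8.dim_closure_inter_fiber, ← FibGenH8.fibreDimAt_of_isMax f ξ hξmax] at this
      exact this
    apply isEquidimAt_of_maxpts f x e
    · obtain ⟨ζ, hζf, hζx, hζmax, hζdim⟩ := CompDimsH8.exists_fibre_max_eq f x
      have hζmax' : ∀ x'' : X, f.base x'' = f.base ζ → x'' ⤳ ζ → x'' = ζ :=
        fun x'' h1 h2 => hζmax x'' (h1.trans hζf) h2
      obtain ⟨ξ, hξζ, hξ0⟩ := CodimZeroH8.exists_isMax_ge ζ
      have hξmax := EquidimSubH8.isMax_of_coheight hξ0
      have hξx := hξζ.trans hζx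
      obtain ⟨-, -, h3⟩ := hcomp ξ hξmax hξx
      obtain ⟨W, w, hW, hw⟩ := exists_sub ξ x hξx
      have hrange := EquidimSubH8.range_vanishingIdeal_subschemeι W
      have hbr := EquidimSubH8.bridge f (Scheme.IdealSheafData.vanishingIdeal W).subschemeι
        (Scheme.IdealSheafData.vanishingIdeal W).subschemeι.isEmbedding w x hw (closure {ξ})
        (by rw [hrange, hW]) ⟨specializes_iff_mem_closure.mp hξx, rfl⟩
      rw [h3] at hbr
      obtain ⟨ζ'', hζ''⟩ : ζ ∈ Set.range
          (Scheme.IdealSheafData.vanishingIdeal W).subschemeι.base := by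
        rw [hrange, hW]; exact specializes_iff_mem_closure.mp hξζ
      have hζ''w : ζ'' ⤳ w := by
        rw [← (Scheme.IdealSheafData.vanishingIdeal
          W).subschemeι.isEmbedding.isInducing.specializes_iff, hζ'', hw]
        exact hζx
      have h4 := FibGenH8.fibreDimAt_le_of_specializes
        ((Scheme.IdealSheafData.vanishingIdeal W).subschemeι ≫ f) hζ''w
      rw [hbr] at h4
      refine le_trans ?_ h4
      rw [← hζdim, FibCohH8.fibreDimAt_eq f ζ, OpenAtEqH8.fibCoh_eq_zero_of_isMax f ζ hζmax',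
        FibCohH8.fibreDimAt_eq _ ζ'', OpenAtCompH8.resTrdeg_closedImmersion_comp, hζ'']
      have h5 : (Cardinal.toENat (Dual3.resTrdeg f ζ) : ℕ∞) ≤
          FibCohH8.fibCoh ((Scheme.IdealSheafData.vanishingIdeal W).subschemeι ≫ f) ζ'' +
            Cardinal.toENat (Dual3.resTrdeg f ζ) := le_add_self
      simp only [zero_add, WithBot.coe_zero]
      exact_mod_cast h5
    · intro ξ hξmax hξx
      obtain ⟨h1, h2, -⟩ := hcomp ξ hξmax hξx
      exact ⟨h2, (SubCompH8.closure_mem_irreducibleComponents_iff _).mp h1⟩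

end EquiCompH8
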