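import Mathlib

/-!
# Spreading out absolute irreducibility of a polynomial (helper8)

For a polynomial `P` in finitely many variables over a domain `A` which is irreducible over every
field containing `A`, there is `a ≠ 0` in `A` such that `P` stays irreducible over every field `Ω`
over `A` in which `a` is invertible. The proof parametrises factorisations of bounded degree by a
finitely presented `A`-algebra and uses Chevalley's theorem.
APPEND-ONLY once landed.
-/

set_option autoImplicit false
set_option linter.style.haveILetI false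
universe u
open MvPolynomial PrimeSpectrum Topology

namespace GeomIrrH8

section Univ

variable (A : Type u) [CommRing A] (σ : Type) [Fintype σ] [DecidableEq σ] (D : ℕ)

/-- Index type of the coefficients of the two universal factors. -/
abbrev Idx := (σ → Fin (D + 1)) ⊕ (σ → Fin (D + 1))

variable {σ D}

/-- The exponent vector attached to `e`. -/
noncomputable def expo (e : σ → Fin (D + 1)) : σ →₀ ℕ :=
  Finsupp.equivFunOnFinite.symm (fun i => (e i : ℕ))

@[simp] theorem expo_apply (e : σ → Fin (D + 1)) (i : σ) : expo e i = (e i : ℕ) := rfl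

theorem expo_injective : Function.Injective (expo : (σ → Fin (D + 1)) → (σ →₀ ℕ)) := by
  intro e e' h
  funext i
  have := congrArg (fun f : σ →₀ ℕ => f i) h
  exact Fin.ext (by simpa using this)

/-- Every exponent vector with entries `≤ D` is of the form `expo e`. -/
theorem exists_expo_eq (γ : σ →₀ ℕ) (h : ∀ i, γ i ≤ D) : ∃ e : σ → Fin (D + 1), expo e = γ :=
  ⟨fun i => ⟨γ i, Nat.lt_succ_of_le (h i)⟩, by ext i; simp⟩

variable (σ D)

/-- The polynomial with prescribed coefficients `v e` at `expo e`. -/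
noncomputable def polyOf {R : Type*} [CommSemiring R] (v : (σ → Fin (D + 1)) → R) :
    MvPolynomial σ R :=
  ∑ e : σ → Fin (D + 1), monomial (expo e) (v e)

variable {σ D}

theorem coeff_polyOf {R : Type*} [CommSemiring R] (v : (σ → Fin (D + 1)) → R)
    (e : σ → Fin (D + 1)) : coeff (expo e) (polyOf σ D v) = v e := by
  classical
  unfold polyOf
  rw [coeff_sum]
  rw [Finset.sum_eq_single e]
  · rw [coeff_monomial, if_pos rfl]
  · intro e' _ hne
    rw [coeff_monomial, if_neg (fun h => hne (expo_injective h))]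
  · intro h
    exact absurd (Finset.mem_univ e) h

theorem map_polyOf {R S : Type*} [CommSemiring R] [CommSemiring S] (f : R →+* S)
    (v : (σ → Fin (D + 1)) → R) : map f (polyOf σ D v) = polyOf σ D (fun e => f (v e)) := by
  unfold polyOf
  rw [map_sum]
  refine Finset.sum_congr rfl (fun e _ => ?_)
  rw [map_monomial]

/-- A polynomial all of whose exponents are `≤ D` is `polyOf` of its coefficients. -/
theorem eq_polyOf {R : Type*} [CommSemiring R] (G : MvPolynomial σ R)
    (h : ∀ γ ∈ G.support, ∀ i, γ i ≤ D) :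
    G = polyOf σ D (fun e => coeff (expo e) G) := by
  classical
  ext γ
  by_cases hγ : ∀ i, γ i ≤ D
  · obtain ⟨e, rfl⟩ := exists_expo_eq γ hγ
    rw [coeff_polyOf]
  · have h1 : coeff γ G = 0 := by
      by_contra hne
      exact hγ (h γ (mem_support_iff.mpr hne))
    rw [h1]
    unfold polyOf
    rw [coeff_sum]
    symm
    apply Finset.sum_eq_zero
    intro e _
    rw [coeff_monomial, if_neg]
    rintro rfl
    apply hγ
    intro i
    rw [expo_apply]
    exact Nat.le_of_lt_succ (e i).2

end Univ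

section FactorRing

variable {A : Type u} [CommRing A] {σ : Type} [Fintype σ] [DecidableEq σ] (D : ℕ)
  (P : MvPolynomial σ A)

/-- The universal polynomial ring carrying the coefficients of two factors. -/
abbrev URing (A : Type u) [CommRing A] (σ : Type) [Fintype σ] [DecidableEq σ] (D : ℕ) :=
  MvPolynomial (Idx σ D) A

/-- The universal first factor. -/
noncomputable def Guniv : MvPolynomial σ (URing A σ D) :=
  polyOf σ D (fun e => (X (Sum.inl e) : URing A σ D))

/-- The universal second factor. -/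
noncomputable def Huniv : MvPolynomial σ (URing A σ D) :=
  polyOf σ D (fun e => (X (Sum.inr e) : URing A σ D))

/-- The universal defect `G * H - P`. -/
noncomputable def defect : MvPolynomial σ (URing A σ D) :=
  Guniv (A := A) (σ := σ) D * Huniv (A := A) (σ := σ) D - map (C : A →+* URing A σ D) P

/-- The ideal of relations `G * H = P`. -/
noncomputable def relIdeal : Ideal (URing A σ D) :=
  Ideal.span (Set.range (fun γ : σ →₀ ℕ => coeff γ (defect D P)))

theorem relIdeal_fg : (relIdeal D P).FG := by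
  classical
  refine ⟨(defect D P).support.image (fun γ => coeff γ (defect D P)), ?_⟩
  apply le_antisymm
  · apply Ideal.span_mono
    rw [Finset.coe_image]
    exact Set.image_subset_range _ _
  · unfold relIdeal
    rw [Ideal.span_le]
    rintro _ ⟨γ, rfl⟩
    by_cases hγ : γ ∈ (defect D P).support
    · apply Ideal.subset_span
      rw [Finset.coe_image]
      exact ⟨γ, hγ, rfl⟩
    · rw [notMem_support_iff] at hγ
      show coeff γ (defect D P) ∈ _
      rw [hγ]
      exact Ideal.zero_mem _

/-- The ring parametrising factorisations `G * H = P` with exponents `≤ D`. -/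
abbrev FRing := URing A σ D ⧸ relIdeal D P

instance : Algebra.FinitePresentation A (FRing D P) :=
  Algebra.FinitePresentation.quotient (relIdeal_fg D P)

variable {D P}

/-- A ring homomorphism out of the universal ring kills the relations iff the images of the
universal factors multiply to the image of `P`. -/
theorem relIdeal_le_ker_iff {Ω : Type*} [CommRing Ω] (ψ : URing A σ D →+* Ω) :
    relIdeal D P ≤ RingHom.ker ψ ↔
      map ψ (Guniv (A := A) (σ := σ) D) * map ψ (Huniv (A := A) (σ := σ) D) =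
        map (ψ.comp C) P := by
  unfold relIdeal
  rw [Ideal.span_le]
  constructor
  · intro h
    have h0 : map ψ (defect D P) = 0 := by
      ext γ
      rw [coeff_map, coeff_zero]
      exact h ⟨γ, rfl⟩
    unfold defect at h0
    rw [map_sub, map_mul, sub_eq_zero, map_map] at h0
    exact h0
  · intro h
    rintro _ ⟨γ, rfl⟩
    show ψ (coeff γ (defect D P)) = 0
    rw [← coeff_map]
    unfold defect
    rw [map_sub, map_mul, map_map, h, sub_self, coeff_zero]

end FactorRing

section Points

variable {A : Type u} [CommRing A] {σ : Type} [Fintype σ] [DecidableEq σ] {D : ℕ}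
  {P : MvPolynomial σ A}

/-- The coordinate `g_e` of the factorisation ring. -/
noncomputable def gco (D : ℕ) (P : MvPolynomial σ A) (e : σ → Fin (D + 1)) : FRing D P :=
  Ideal.Quotient.mk _ (X (Sum.inl e))

/-- The coordinate `h_e` of the factorisation ring. -/
noncomputable def hco (D : ℕ) (P : MvPolynomial σ A) (e : σ → Fin (D + 1)) : FRing D P :=
  Ideal.Quotient.mk _ (X (Sum.inr e))

/-- A point of the factorisation ring gives a factorisation. -/
theorem factorization_of_hom {Ω : Type*} [CommRing Ω] (ψ : FRing D P →+* Ω) :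
    polyOf σ D (fun e => ψ (gco D P e)) * polyOf σ D (fun e => ψ (hco D P e)) =
      map (ψ.comp (algebraMap A (FRing D P))) P := by
  have h := (relIdeal_le_ker_iff (D := D) (P := P)
    (ψ.comp (Ideal.Quotient.mk (relIdeal D P)))).mp (by
      intro x hx
      rw [RingHom.mem_ker, RingHom.comp_apply, Ideal.Quotient.eq_zero_iff_mem.mpr hx, map_zero])
  unfold Guniv Huniv at h
  rw [map_polyOf, map_polyOf] at h
  exact h

/-- A factorisation with exponents `≤ D` gives a point of the factorisation ring. -/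
theorem exists_hom_of_factorization {Ω : Type*} [CommRing Ω] (φ : A →+* Ω)
    (G H : MvPolynomial σ Ω) (hG : ∀ γ ∈ G.support, ∀ i, γ i ≤ D)
    (hH : ∀ γ ∈ H.support, ∀ i, γ i ≤ D) (hGH : G * H = map φ P) :
    ∃ ψ : FRing D P →+* Ω, ψ.comp (algebraMap A (FRing D P)) = φ ∧
      (∀ e, ψ (gco D P e) = coeff (expo e) G) ∧ (∀ e, ψ (hco D P e) = coeff (expo e) H) := by
  let v : Idx σ D → Ω := Sum.elim (fun e => coeff (expo e) G) (fun e => coeff (expo e) H)
  let ψ₀ : URing A σ D →+* Ω := eval₂Hom φ v
  have hC : ψ₀.comp C = φ := by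
    ext a
    simp [ψ₀]
  have hle : relIdeal D P ≤ RingHom.ker ψ₀ := by
    rw [relIdeal_le_ker_iff, hC]
    unfold Guniv Huniv
    rw [map_polyOf, map_polyOf]
    have h1 : (fun e : σ → Fin (D + 1) => ψ₀ (X (Sum.inl e))) = fun e => coeff (expo e) G := by
      funext e
      simp [ψ₀, v]
    have h2 : (fun e : σ → Fin (D + 1) => ψ₀ (X (Sum.inr e))) = fun e => coeff (expo e) H := by
      funext e
      simp [ψ₀, v]
    rw [h1, h2, ← eq_polyOf G hG, ← eq_polyOf H hH]
    exact hGH
  have hl : ∀ a ∈ relIdeal D P, ψ₀ a = 0 := fun x hx => hle hx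
  refine ⟨Ideal.Quotient.lift (relIdeal D P) ψ₀ hl, ?_, fun e => ?_, fun e => ?_⟩
  · ext a
    show (Ideal.Quotient.lift (relIdeal D P) ψ₀ hl) (Ideal.Quotient.mk (relIdeal D P) (C a)) = φ a
    rw [Ideal.Quotient.lift_mk, ← hC]
    rfl
  · show (Ideal.Quotient.lift (relIdeal D P) ψ₀ hl)
      (Ideal.Quotient.mk (relIdeal D P) (X (Sum.inl e))) = _
    rw [Ideal.Quotient.lift_mk]
    simp [ψ₀, v]
  · show (Ideal.Quotient.lift (relIdeal D P) ψ₀ hl)
      (Ideal.Quotient.mk (relIdeal D P) (X (Sum.inr e))) = _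
    rw [Ideal.Quotient.lift_mk]
    simp [ψ₀, v]

end Points

section Main

/-- In the spectrum of a domain, a constructible set not containing the generic point is contained
in `V(a)` for some `a ≠ 0`. -/
theorem exists_ne_zero_of_bot_notMem {A : Type u} [CommRing A] [IsDomain A]
    (E : Set (PrimeSpectrum A)) (hE : IsConstructible E)
    (hbot : (⟨⊥, Ideal.isPrime_bot⟩ : PrimeSpectrum A) ∉ E) :
    ∃ a : A, a ≠ 0 ∧ ∀ y ∈ E, a ∈ y.asIdeal := by
  classical
  obtain ⟨S, hS⟩ := exists_constructibleSetData_iff.mpr hE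
  let aC : BasicConstructibleSetData A → A := fun C =>
    if h : ∃ i, C.g i ≠ 0 then C.g (Classical.choose h) else 1
  have haC : ∀ C, aC C ≠ 0 := by
    intro C
    by_cases h : ∃ i, C.g i ≠ 0
    · simp only [aC, dif_pos h]
      exact Classical.choose_spec h
    · simp only [aC, dif_neg h]
      exact one_ne_zero
  refine ⟨∏ C ∈ S, aC C, Finset.prod_ne_zero_iff.mpr (fun C _ => haC C), fun y hy => ?_⟩
  rw [← hS] at hy hbot
  obtain ⟨C, hCS, hyC⟩ := Set.mem_iUnion₂.mp hy
  have hdvd : aC C ∣ ∏ C ∈ S, aC C := Finset.dvd_prod_of_mem aC hCS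
  apply Ideal.mem_of_dvd _ hdvd
  by_cases h : ∃ i, C.g i ≠ 0
  · simp only [aC, dif_pos h]
    exact hyC.1 ⟨_, rfl⟩
  · exfalso
    push Not at h
    apply hbot
    refine Set.mem_iUnion₂.mpr ⟨C, hCS, ?_, ?_⟩
    · rintro _ ⟨i, rfl⟩
      show C.g i ∈ (⊥ : Ideal A)
      rw [h i]
      exact Ideal.zero_mem _
    · intro hf
      apply hyC.2
      intro x hx
      rw [Set.mem_singleton_iff] at hx
      subst hx
      have h0 : C.f ∈ (⊥ : Ideal A) := hf (Set.mem_singleton _)
      rw [Ideal.mem_bot] at h0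
      rw [h0]
      exact Ideal.zero_mem _

/-- Over a reduced ring, a polynomial which is nonzero and not a unit... has a nonconstant
monomial, provided its constant coefficient is a unit or zero; here over a field. -/
theorem exists_ne_zero_coeff_ne_zero {Ω : Type*} [Field Ω] {σ : Type*} (Q : MvPolynomial σ Ω)
    (h0 : Q ≠ 0) (hu : ¬ IsUnit Q) : ∃ γ : σ →₀ ℕ, γ ≠ 0 ∧ coeff γ Q ≠ 0 := by
  classical
  by_contra hcon
  push Not at hcon
  have hQ : Q = C (coeff 0 Q) := by
    ext γ
    by_cases hγ : γ = 0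
    · subst hγ
      simp
    · rw [hcon γ hγ, coeff_C, if_neg (Ne.symm hγ)]
  apply hu
  rw [hQ]
  apply IsUnit.map
  apply IsUnit.mk0
  intro hc
  apply h0
  rw [hQ, hc, map_zero]

theorem not_isUnit_of_coeff_ne_zero {Ω : Type*} [Field Ω] {σ : Type*} (Q : MvPolynomial σ Ω)
    (γ : σ →₀ ℕ) (hγ : γ ≠ 0) (hc : coeff γ Q ≠ 0) : ¬ IsUnit Q := by
  classical
  intro hu
  obtain ⟨r, -, hr⟩ := (isUnit_iff_eq_C_of_isReduced (P := Q)).mp hu
  apply hc
  rw [hr, coeff_C, if_neg (Ne.symm hγ)]

end Main

section Spread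

variable {A : Type u} [CommRing A] [IsDomain A] {σ : Type} [Fintype σ] [DecidableEq σ]

theorem le_of_mem_support {R : Type*} [CommSemiring R] (G : MvPolynomial σ R) (γ : σ →₀ ℕ)
    (hγ : γ ∈ G.support) (i : σ) : γ i ≤ G.totalDegree := by
  refine le_trans ?_ (le_totalDegree hγ)
  by_cases hi : i ∈ γ.support
  · exact Finset.single_le_sum (fun j _ => Nat.zero_le (γ j)) hi
  · rw [Finsupp.notMem_support_iff.mp hi]
    exact Nat.zero_le _

/-- The open subset of the factorisation ring where both factors are nonconstant. -/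
def nontrivOpen (D : ℕ) (P : MvPolynomial σ A) : Set (PrimeSpectrum (FRing D P)) :=
  ⋃ (e : σ → Fin (D + 1)) (e' : σ → Fin (D + 1)) (_ : expo e ≠ 0) (_ : expo e' ≠ 0),
    (basicOpen (gco D P e * hco D P e') : Set (PrimeSpectrum (FRing D P)))

theorem isConstructible_nontrivOpen (D : ℕ) (P : MvPolynomial σ A) :
    IsConstructible (nontrivOpen D P) := by
  unfold nontrivOpen
  refine IsConstructible.iUnion (fun e => IsConstructible.iUnion (fun e' => ?_))
  by_cases h1 : expo e ≠ 0
  · by_cases h2 : expo e' ≠ 0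
    · simp only [h1, h2, ne_eq, not_false_eq_true, Set.iUnion_true]
      exact PrimeSpectrum.isConstructible_basicOpen (f := gco D P e * hco D P e')
    · simp only [h2, Set.iUnion_false, Set.iUnion_empty]
      exact IsConstructible.empty
  · simp only [h1, Set.iUnion_false]
    exact IsConstructible.empty

/-- **Absolute irreducibility spreads out.** -/
theorem exists_ne_zero_forall_irreducible_aux (P : MvPolynomial σ A) (D : ℕ)
    (hD : P.totalDegree ≤ D)
    (h : ∀ (Ω : Type u) [Field Ω] [Algebra A Ω], Function.Injective (algebraMap A Ω) →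
      Irreducible (map (algebraMap A Ω) P)) :
    ∃ a : A, a ≠ 0 ∧ ∀ (Ω : Type u) [Field Ω] [Algebra A Ω], algebraMap A Ω a ≠ 0 →
      Irreducible (map (algebraMap A Ω) P) := by
  classical
  -- the image of the nontrivial locus
  have hE : IsConstructible (comap (algebraMap A (FRing D P)) '' nontrivOpen D P) :=
    isConstructible_comap_image
      (RingHom.finitePresentation_algebraMap.mpr inferInstance) (isConstructible_nontrivOpen D P)
  have hbot : (⟨⊥, Ideal.isPrime_bot⟩ : PrimeSpectrum A) ∉
      comap (algebraMap A (FRing D P)) '' nontrivOpen D P := by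
    rintro ⟨𝔮, h𝔮, hq⟩
    obtain ⟨e, e', he, he', hmem⟩ : ∃ (e : σ → Fin (D + 1)) (e' : σ → Fin (D + 1)),
        expo e ≠ 0 ∧ expo e' ≠ 0 ∧ gco D P e * hco D P e' ∉ 𝔮.asIdeal := by
      unfold nontrivOpen at h𝔮
      simp only [Set.mem_iUnion] at h𝔮
      obtain ⟨e, e', he, he', hm⟩ := h𝔮
      exact ⟨e, e', he, he', hm⟩
    let ψ : FRing D P →+* 𝔮.asIdeal.ResidueField :=
      algebraMap (FRing D P) 𝔮.asIdeal.ResidueField
    have hψker : ∀ x, ψ x = 0 ↔ x ∈ 𝔮.asIdeal := by
      intro x
      rw [← RingHom.mem_ker, Ideal.ker_algebraMap_residueField]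
    letI : Algebra A 𝔮.asIdeal.ResidueField :=
      (ψ.comp (algebraMap A (FRing D P))).toAlgebra
    have hinj : Function.Injective
        (algebraMap A 𝔮.asIdeal.ResidueField) := by
      rw [injective_iff_map_eq_zero]
      intro a ha
      have h1 : algebraMap A (FRing D P) a ∈ 𝔮.asIdeal := (hψker _).mp ha
      have h2 : a ∈ (comap (algebraMap A (FRing D P)) 𝔮).asIdeal := h1
      rw [hq] at h2
      exact h2
    have hirr := h 𝔮.asIdeal.ResidueField hinj
    have hfac := factorization_of_hom (D := D) (P := P) ψ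
    have hfac' : map (algebraMap A 𝔮.asIdeal.ResidueField) P =
        polyOf σ D (fun e => ψ (gco D P e)) * polyOf σ D (fun e => ψ (hco D P e)) := hfac.symm
    rcases hirr.isUnit_or_isUnit hfac' with hu | hu
    · obtain ⟨r, -, hr⟩ := (isUnit_iff_eq_C_of_isReduced
        (P := polyOf σ D (fun e => ψ (gco D P e)))).mp hu
      have h0 : ψ (gco D P e) = 0 := by
        rw [← coeff_polyOf (fun e => ψ (gco D P e)) e, hr, coeff_C, if_neg (Ne.symm he)]
      exact hmem (Ideal.mul_mem_right _ _ ((hψker _).mp h0))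
    · obtain ⟨r, -, hr⟩ := (isUnit_iff_eq_C_of_isReduced
        (P := polyOf σ D (fun e => ψ (hco D P e)))).mp hu
      have h0 : ψ (hco D P e') = 0 := by
        rw [← coeff_polyOf (fun e => ψ (hco D P e)) e', hr, coeff_C, if_neg (Ne.symm he')]
      exact hmem (Ideal.mul_mem_left _ _ ((hψker _).mp h0))
  obtain ⟨a, ha, haE⟩ := exists_ne_zero_of_bot_notMem _ hE hbot
  -- a nonconstant coefficient
  obtain ⟨γ₀, hγ₀, hc₀⟩ : ∃ γ₀ : σ →₀ ℕ, γ₀ ≠ 0 ∧ coeff γ₀ P ≠ 0 := by
    have hirr := h (FractionRing A) (IsFractionRing.injective A (FractionRing A))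
    obtain ⟨γ, hγ, hc⟩ := exists_ne_zero_coeff_ne_zero _ hirr.ne_zero hirr.not_isUnit
    refine ⟨γ, hγ, fun h0 => hc ?_⟩
    rw [coeff_map, h0, map_zero]
  refine ⟨a * coeff γ₀ P, mul_ne_zero ha hc₀, fun Ω _ _ hne => ?_⟩
  rw [map_mul] at hne
  have hane : algebraMap A Ω a ≠ 0 := left_ne_zero_of_mul hne
  have hcne : algebraMap A Ω (coeff γ₀ P) ≠ 0 := right_ne_zero_of_mul hne
  have hP0 : coeff γ₀ (map (algebraMap A Ω) P) ≠ 0 := by rw [coeff_map]; exact hcne
  have hPne : map (algebraMap A Ω) P ≠ 0 := fun h0 => hP0 (by rw [h0, coeff_zero])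
  rw [irreducible_iff]
  refine ⟨not_isUnit_of_coeff_ne_zero _ γ₀ hγ₀ hP0, fun G H hGH => ?_⟩
  by_contra hcon
  push Not at hcon
  obtain ⟨hGu, hHu⟩ := hcon
  have hG0 : G ≠ 0 := fun h0 => hPne (by rw [hGH, h0, zero_mul])
  have hH0 : H ≠ 0 := fun h0 => hPne (by rw [hGH, h0, mul_zero])
  obtain ⟨γG, hγG, hcG⟩ := exists_ne_zero_coeff_ne_zero G hG0 hGu
  obtain ⟨γH, hγH, hcH⟩ := exists_ne_zero_coeff_ne_zero H hH0 hHu
  have hdeg : G.totalDegree + H.totalDegree ≤ D := by
    rw [← totalDegree_mul_of_isDomain hG0 hH0, ← hGH]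
    exact le_trans (Finset.sup_mono (support_map_subset _ _)) hD
  have hGb : ∀ γ ∈ G.support, ∀ i, γ i ≤ D := fun γ hγ i =>
    le_trans (le_of_mem_support G γ hγ i) (le_trans (Nat.le_add_right _ _) hdeg)
  have hHb : ∀ γ ∈ H.support, ∀ i, γ i ≤ D := fun γ hγ i =>
    le_trans (le_of_mem_support H γ hγ i) (le_trans (Nat.le_add_left _ _) hdeg)
  obtain ⟨ψ, hψA, hψg, hψh⟩ := exists_hom_of_factorization (D := D) (P := P)
    (algebraMap A Ω) G H hGb hHb hGH.symm
  obtain ⟨eG, heG⟩ := exists_expo_eq γG (hGb γG (mem_support_iff.mpr hcG))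
  obtain ⟨eH, heH⟩ := exists_expo_eq γH (hHb γH (mem_support_iff.mpr hcH))
  have hmem : (⟨RingHom.ker ψ, RingHom.ker_isPrime ψ⟩ : PrimeSpectrum (FRing D P)) ∈
      nontrivOpen D P := by
    unfold nontrivOpen
    simp only [Set.mem_iUnion]
    refine ⟨eG, eH, by rw [heG]; exact hγG, by rw [heH]; exact hγH, ?_⟩
    show gco D P eG * hco D P eH ∉ RingHom.ker ψ
    rw [RingHom.mem_ker, map_mul, hψg, hψh, heG, heH]
    exact mul_ne_zero hcG hcH
  have hyE := haE _ ⟨_, hmem, rfl⟩
  have : a ∈ RingHom.ker (ψ.comp (algebraMap A (FRing D P))) := hyE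
  rw [hψA, RingHom.mem_ker] at this
  exact hane this

/-- **Absolute irreducibility spreads out.** -/
theorem exists_ne_zero_forall_irreducible (P : MvPolynomial σ A)
    (h : ∀ (Ω : Type u) [Field Ω] [Algebra A Ω], Function.Injective (algebraMap A Ω) →
      Irreducible (map (algebraMap A Ω) P)) :
    ∃ a : A, a ≠ 0 ∧ ∀ (Ω : Type u) [Field Ω] [Algebra A Ω], algebraMap A Ω a ≠ 0 →
      Irreducible (map (algebraMap A Ω) P) :=
  exists_ne_zero_forall_irreducible_aux P P.totalDegree le_rfl h

end Spread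

end GeomIrrH8
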