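import Mathlib

/-!
# Generic geometric irreducibility, part 2: generically finite extensions of domains (helper8)
APPEND-ONLY once landed.
-/

set_option autoImplicit false
set_option linter.style.haveILetI false
universe u
open Polynomial

namespace GeomIrrH8

section ScaleMinpoly

/-- Scaling an algebraic element so that its minimal polynomial over the fraction field has
coefficients in the base domain. -/
theorem exists_scale_minpoly {R F L : Type*} [CommRing R] [IsDomain R] [Field F] [Algebra R F]
    [IsFractionRing R F] [Field L] [Algebra F L] (θ : L) (hθ : IsIntegral F θ) :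
    ∃ s : R, s ≠ 0 ∧ ∃ P : R[X], P.Monic ∧
      P.map (algebraMap R F) = minpoly F (algebraMap R F s • θ) := by
  classical
  obtain ⟨b, hb⟩ := IsLocalization.exist_integer_multiples_of_finset (nonZeroDivisors R)
    (Finset.image (minpoly F θ).coeff (Finset.range ((minpoly F θ).natDegree + 1)))
  have hs0 : (b : R) ≠ 0 := nonZeroDivisors.ne_zero b.2
  have hs0' : algebraMap R F (b : R) ≠ 0 := by
    rw [Ne, map_eq_zero_iff _ (IsFractionRing.injective R F)]
    exact hs0
  refine ⟨(b : R), hs0, ?_⟩
  rw [IsIntegrallyClosed.minpoly_smul hs0' hθ]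
  have hmon : ((minpoly F θ).scaleRoots (algebraMap R F (b : R))).Monic :=
    (monic_scaleRoots_iff _).mpr (minpoly.monic hθ)
  have hl : (minpoly F θ).scaleRoots (algebraMap R F (b : R)) ∈
      Polynomial.lifts (algebraMap R F) := by
    rw [lifts_iff_coeff_lifts]
    intro i
    rw [coeff_scaleRoots]
    rcases lt_trichotomy i (minpoly F θ).natDegree with hi | hi | hi
    · obtain ⟨r, hr⟩ := hb ((minpoly F θ).coeff i)
        (Finset.mem_image.mpr ⟨i, Finset.mem_range.mpr (by omega), rfl⟩)
      obtain ⟨k, hk⟩ : ∃ k, (minpoly F θ).natDegree - i = k + 1 :=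
        ⟨(minpoly F θ).natDegree - i - 1, by omega⟩
      refine ⟨r * (b : R) ^ k, ?_⟩
      rw [map_mul, map_pow, hr, Algebra.smul_def, hk, pow_succ]
      ring
    · rw [hi, Nat.sub_self, pow_zero, mul_one, coeff_natDegree, (minpoly.monic hθ).leadingCoeff]
      exact ⟨1, map_one _⟩
    · rw [coeff_eq_zero_of_natDegree_lt hi, zero_mul]
      exact ⟨0, map_zero _⟩
  obtain ⟨P, hP, -, hPm⟩ := lifts_and_natDegree_eq_and_monic hl hmon
  exact ⟨P, hPm, hP⟩

end ScaleMinpoly

section FT2

variable {R B : Type u} [CommRing R] [IsDomain R] [CommRing B] [IsDomain B] [Algebra R B]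
  [FaithfulSMul R B] [Algebra.IsAlgebraic R B]

/-- Every element of the fraction field of `B` has a nonzero `R`-multiple in `B`. -/
theorem exists_smul_mem_range (z : FractionRing B) :
    ∃ c : R, c ≠ 0 ∧ ∃ b : B, algebraMap B (FractionRing B) b = c • z := by
  obtain ⟨u, v, hv, rfl⟩ := IsFractionRing.div_surjective (A := B) z
  obtain ⟨r, hr0, w, hw⟩ := (Algebra.IsAlgebraic.isAlgebraic (R := R) v).exists_nonzero_dvd hv
  refine ⟨r, hr0, u * w, ?_⟩
  have hv0 : algebraMap B (FractionRing B) v ≠ 0 := by
    rw [Ne, map_eq_zero_iff _ (IsFractionRing.injective B (FractionRing B))]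
    exact nonZeroDivisors.ne_zero hv
  rw [Algebra.smul_def, IsScalarTower.algebraMap_apply R B (FractionRing B), hw, map_mul, map_mul]
  field_simp

variable [Algebra.FiniteType R B]

theorem finiteDimensional_fractionRing :
    letI : Algebra (FractionRing R) (FractionRing B) := FractionRing.liftAlgebra R _
    Algebra.IsAlgebraic (FractionRing R) (FractionRing B) ∧
      Module.Finite (FractionRing R) (FractionRing B) := by
  letI : Algebra (FractionRing R) (FractionRing B) := FractionRing.liftAlgebra R _
  haveI := FractionRing.isScalarTower_liftAlgebra R (FractionRing B)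
  have h1 := (IsFractionRing.isAlgebraic_iff' R B (FractionRing B)).1 inferInstance
  haveI h2 : Algebra.IsAlgebraic (FractionRing R) (FractionRing B) :=
    ⟨fun _ ↦ (IsFractionRing.isAlgebraic_iff R (FractionRing R) (FractionRing B)).1
      (Algebra.IsAlgebraic.isAlgebraic _)⟩
  haveI : Algebra.EssFiniteType R (FractionRing B) := inferInstance
  haveI : Algebra.EssFiniteType (FractionRing R) (FractionRing B) :=
    Algebra.EssFiniteType.of_comp R (FractionRing R) (FractionRing B)
  exact ⟨h2, Algebra.finite_of_essFiniteType_of_isAlgebraic⟩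


local notation "FR" => FractionRing R
local notation "FB" => FractionRing B

/-- **Generic hypersurface model.** A domain `B`, algebraic and of finite type over a domain
`R ⊆ B`: there is `θ ∈ B`, with `R[θ] ≅ R[X]/(P)` for a monic `P` which is separable over the
fraction field, such that a power `x ^ (q ^ m)` (`q` the exponential characteristic) of any
`x ∈ B` lies in `R[θ]` up to a nonzero factor from `R`. -/
theorem exists_primitive (q : ℕ) [ExpChar R q] :
    ∃ (θ : B) (P : R[X]), P.Monic ∧ (P.map (algebraMap R (FractionRing R))).Separable ∧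
      RingHom.ker ((aeval θ : R[X] →ₐ[R] B) : R[X] →+* B) = Ideal.span {P} ∧
      ∀ x : B, ∃ (m : ℕ) (c : R), c ≠ 0 ∧
        c • x ^ (q ^ m) ∈ (aeval θ : R[X] →ₐ[R] B).range := by
  letI : Algebra FR FB := FractionRing.liftAlgebra R _
  haveI := FractionRing.isScalarTower_liftAlgebra R FB
  obtain ⟨halg, hfin⟩ := finiteDimensional_fractionRing (R := R) (B := B)
  haveI := halg
  haveI := hfin
  haveI : IsPurelyInseparable (separableClosure FR FB) FB :=
    separableClosure.isPurelyInseparable _ _
  haveI : Algebra.IsSeparable FR (separableClosure FR FB) := separableClosure.isSeparable _ _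
  haveI : ExpChar FR q := expChar_of_injective_algebraMap (IsFractionRing.injective R FR) q
  haveI : ExpChar (separableClosure FR FB) q :=
    expChar_of_injective_algebraMap (algebraMap FR (separableClosure FR FB)).injective q
  obtain ⟨α, hα⟩ := Field.exists_primitive_element FR (separableClosure FR FB)
  obtain ⟨c₁, hc₁, b₁, hb₁⟩ := exists_smul_mem_range (R := R) (B := B) (α : FB)
  have hint : IsIntegral FR (c₁ • (α : FB)) := Algebra.IsIntegral.isIntegral _
  obtain ⟨s, hs, P, hPm, hP⟩ := exists_scale_minpoly (R := R) (F := FR) (c₁ • (α : FB)) hint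
  -- the scaled primitive element
  set d : FR := algebraMap R FR (s * c₁) with hd
  have hd0 : d ≠ 0 := by
    rw [hd, Ne, map_eq_zero_iff _ (IsFractionRing.injective R FR)]
    exact mul_ne_zero hs hc₁
  set θ' : separableClosure FR FB := d • α with hθ'
  have hθL0 : ((θ' : separableClosure FR FB) : FB) =
      algebraMap R FB s * (algebraMap R FB c₁ * (α : FB)) := by
    rw [hθ', IntermediateField.coe_smul, Algebra.smul_def, hd,
      ← IsScalarTower.algebraMap_apply R FR FB, map_mul, mul_assoc]
  have hθL : algebraMap B FB (s • b₁) = ((θ' : separableClosure FR FB) : FB) := by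
    rw [hθL0, Algebra.smul_def, map_mul, ← IsScalarTower.algebraMap_apply R B FB, hb₁,
      Algebra.smul_def]
  have hθL2 : algebraMap R FR s • (c₁ • (α : FB)) = ((θ' : separableClosure FR FB) : FB) := by
    rw [hθL0, Algebra.smul_def, Algebra.smul_def, ← IsScalarTower.algebraMap_apply R FR FB]
  rw [hθL2] at hP
  have hinjB : Function.Injective (algebraMap B FB) := IsFractionRing.injective B FB
  have htop : IntermediateField.adjoin FR {θ'} = ⊤ := by
    rw [eq_top_iff, ← hα, IntermediateField.adjoin_simple_le_iff]
    have h1 : θ' ∈ IntermediateField.adjoin FR {θ'} := IntermediateField.mem_adjoin_simple_self FR θ'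
    have h2 : d⁻¹ • θ' ∈ IntermediateField.adjoin FR {θ'} := IntermediateField.smul_mem _ h1
    rwa [hθ', smul_smul, inv_mul_cancel₀ hd0, one_smul] at h2
  have hadj : Algebra.adjoin FR {θ'} = ⊤ :=
    (IntermediateField.adjoin_simple_eq_top_iff_of_isAlgebraic (Algebra.IsAlgebraic.isAlgebraic θ')).mp htop
  refine ⟨s • b₁, P, hPm, ?_, ?_, ?_⟩
  · rw [hP]
    exact mem_separableClosure_iff.mp θ'.2
  · ext p
    rw [RingHom.mem_ker, Ideal.mem_span_singleton, ← map_dvd_map _ (IsFractionRing.injective R FR) hPm,
      hP, minpoly.dvd_iff, aeval_map_algebraMap, ← hθL, aeval_algebraMap_apply,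
      map_eq_zero_iff _ hinjB]
    rfl
  · intro x
    obtain ⟨m, y, hy⟩ := IsPurelyInseparable.pow_mem (separableClosure FR FB) q (algebraMap B FB x)
    have hymem : y ∈ (aeval θ' : FR[X] →ₐ[FR] separableClosure FR FB).range := by
      rw [← Algebra.adjoin_singleton_eq_range_aeval, hadj]
      trivial
    obtain ⟨G, hG⟩ := hymem
    obtain ⟨b, hbM, hb⟩ := IsLocalization.integerNormalization_spec (nonZeroDivisors R) G
    refine ⟨m, b, nonZeroDivisors.ne_zero hbM,
      IsLocalization.integerNormalization (nonZeroDivisors R) G, ?_⟩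
    apply hinjB
    show algebraMap B FB
      (aeval (s • b₁) (IsLocalization.integerNormalization (nonZeroDivisors R) G)) = _
    have hG' : aeval ((θ' : separableClosure FR FB) : FB) G = algebraMap B FB x ^ q ^ m := by
      rw [← hy, ← hG]
      exact (aeval_algHom_apply (separableClosure FR FB).val θ' G)
    rw [← aeval_algebraMap_apply, hθL, ← aeval_map_algebraMap FR, hb, ← algebraMap_smul FR b G,
      map_smul, hG', Algebra.smul_def, Algebra.smul_def, map_mul, map_pow,
      ← IsScalarTower.algebraMap_apply R FR FB, ← IsScalarTower.algebraMap_apply R B FB]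

end FT2

end GeomIrrH8
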