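import Mathlib
import Groth.Agent.Lib.GeomIrr2_helper8

/-!
# Generic geometric irreducibility, part 3: hypersurface models and absolute irreducibility (helper8)
APPEND-ONLY once landed.
-/

set_option autoImplicit false
set_option linter.style.haveILetI false
universe u
open Polynomial TensorProduct

namespace GeomIrrH8

section FT

variable {A B : Type u} [CommRing A] [IsDomain A] [CommRing B] [IsDomain B] [Algebra A B]
  [Algebra.FiniteType A B]

theorem exists_transcendence_basis_fin (hinj : Function.Injective (algebraMap A B)) :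
    ∃ (n : ℕ) (t : Fin n → B), AlgebraicIndependent A t ∧
      Algebra.IsAlgebraic (Algebra.adjoin A (Set.range t)) B := by
  classical
  obtain ⟨s, hs⟩ := (Algebra.FiniteType.out : (⊤ : Subalgebra A B).FG)
  haveI : FaithfulSMul A B := (faithfulSMul_iff_algebraMap_injective A B).mpr hinj
  haveI : Algebra.IsAlgebraic (Algebra.adjoin A (s : Set B)) B := by
    refine ⟨fun b => ?_⟩
    have hb : b ∈ Algebra.adjoin A (s : Set B) := by rw [hs]; trivial
    exact isAlgebraic_algebraMap (⟨b, hb⟩ : Algebra.adjoin A (s : Set B))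
  obtain ⟨t, hts, ht⟩ := exists_isTranscendenceBasis_subset (R := A) (s : Set B)
  have hfin : t.Finite := s.finite_toSet.subset hts
  haveI : Fintype t := hfin.fintype
  let e : Fin (Fintype.card t) ≃ t := (Fintype.equivFin t).symm
  refine ⟨Fintype.card t, fun i => (e i : B), ?_, ?_⟩
  · exact ht.1.comp e e.injective
  · have hr : Set.range (fun i => (e i : B)) = Set.range ((↑) : t → B) := by
      ext x
      constructor
      · rintro ⟨i, rfl⟩
        exact ⟨e i, rfl⟩
      · rintro ⟨y, rfl⟩
        exact ⟨e.symm y, by simp⟩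
    rw [hr]
    exact ht.isAlgebraic


/-- **Hypersurface model** of a finite type extension of domains `A ⊆ B`: algebraically
independent `t₁, …, tₙ ∈ B` and `θ ∈ B` with `A[t][θ] ≅ A[t][X]/(P)`, `P` monic and generically
separable, such that `B` is generically purely inseparable over `A[t][θ]`. -/
theorem exists_hypersurface_model (hinj : Function.Injective (algebraMap A B)) (q : ℕ)
    [ExpChar A q] :
    ∃ (n : ℕ) (t : Fin n → B) (θ : B) (P : Polynomial (MvPolynomial (Fin n) A)),
      AlgebraicIndependent A t ∧ P.Monic ∧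
      (P.map (algebraMap _ (FractionRing (MvPolynomial (Fin n) A)))).Separable ∧
      RingHom.ker (Polynomial.eval₂RingHom
        (MvPolynomial.aeval t : MvPolynomial (Fin n) A →ₐ[A] B).toRingHom θ) = Ideal.span {P} ∧
      ∀ x : B, ∃ (m : ℕ) (c : MvPolynomial (Fin n) A), c ≠ 0 ∧
        ∃ G : Polynomial (MvPolynomial (Fin n) A), MvPolynomial.aeval t c * x ^ (q ^ m) =
          Polynomial.eval₂ (MvPolynomial.aeval t : MvPolynomial (Fin n) A →ₐ[A] B).toRingHom θ G := by
  obtain ⟨n, t, ht, halg⟩ := exists_transcendence_basis_fin (A := A) (B := B) hinj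
  letI algRB : Algebra (MvPolynomial (Fin n) A) B :=
    (MvPolynomial.aeval t : MvPolynomial (Fin n) A →ₐ[A] B).toRingHom.toAlgebra
  haveI : IsScalarTower A (MvPolynomial (Fin n) A) B :=
    IsScalarTower.of_algebraMap_eq (fun a => (MvPolynomial.aeval_C t a).symm)
  haveI : FaithfulSMul (MvPolynomial (Fin n) A) B :=
    (faithfulSMul_iff_algebraMap_injective _ _).mpr ht
  haveI : Algebra.IsAlgebraic (MvPolynomial (Fin n) A) B := by
    rw [Algebra.adjoin_range_eq_range_aeval] at halg
    haveI := halg
    exact Algebra.IsAlgebraic.of_ringHom_of_comp_eq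
      (MvPolynomial.aeval t : MvPolynomial (Fin n) A →ₐ[A] B).rangeRestrict
      (RingHom.id B) (MvPolynomial.aeval t).rangeRestrict_surjective Function.injective_id
      (RingHom.ext fun x => rfl)
  haveI : Algebra.FiniteType (MvPolynomial (Fin n) A) B :=
    Algebra.FiniteType.of_restrictScalars_finiteType A (MvPolynomial (Fin n) A) B
  haveI : ExpChar (MvPolynomial (Fin n) A) q :=
    expChar_of_injective_algebraMap (MvPolynomial.C_injective (Fin n) A) q
  obtain ⟨θ, P, hPm, hsep, hker, hpow⟩ := exists_primitive (R := MvPolynomial (Fin n) A) (B := B) q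
  refine ⟨n, t, θ, P, ht, hPm, hsep, ?_, ?_⟩
  · rw [← hker]
    rfl
  · intro x
    obtain ⟨m, c, hc, G, hG⟩ := hpow x
    refine ⟨m, c, hc, G, ?_⟩
    have h1 : c • x ^ q ^ m = MvPolynomial.aeval t c * x ^ q ^ m := by
      rw [Algebra.smul_def]
      rfl
    rw [← h1, ← hG]
    rfl

end FT

section Alg

/-- A monic polynomial over a domain which is squarefree over the fraction field is squarefree. -/
theorem squarefree_of_map {D K : Type*} [CommRing D] [IsDomain D] [Field K] [Algebra D K]
    [IsFractionRing D K] {p : D[X]} (hp : p.Monic)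
    (hsq : Squarefree (p.map (algebraMap D K))) : Squarefree p := by
  intro x hx
  have hinj : Function.Injective (algebraMap D K) := IsFractionRing.injective D K
  have h1 : x.map (algebraMap D K) * x.map (algebraMap D K) ∣ p.map (algebraMap D K) := by
    rw [← Polynomial.map_mul]
    exact Polynomial.map_dvd _ hx
  have h2 : IsUnit (x.map (algebraMap D K)) := hsq _ h1
  have h3 : x.natDegree = 0 := by
    rw [← natDegree_map_eq_of_injective hinj]
    exact natDegree_eq_zero_of_isUnit h2
  obtain ⟨c, rfl⟩ : ∃ c, x = C c := ⟨x.coeff 0, eq_C_of_natDegree_eq_zero h3⟩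
  obtain ⟨r, hr⟩ := (dvd_mul_right (C c) (C c)).trans hx
  have h4 : c * r.leadingCoeff = 1 := by
    have := congrArg leadingCoeff hr
    rw [hp.leadingCoeff, leadingCoeff_mul, leadingCoeff_C] at this
    exact this.symm
  exact isUnit_C.mpr (IsUnit.of_mul_eq_one _ h4)

/-- In a UFD, a squarefree element generating an ideal with prime radical is prime. -/
theorem prime_of_squarefree_of_radical_isPrime {D : Type*} [CommRing D] [IsDomain D]
    [UniqueFactorizationMonoid D] {x : D} (hsq : Squarefree x)
    (hrad : (Ideal.span {x}).radical.IsPrime) : Prime x := by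
  have hx0 : x ≠ 0 := by
    rintro rfl
    have := hsq 0 (by simp)
    exact not_isUnit_zero this
  have hxu : ¬ IsUnit x := by
    intro hu
    apply hrad.ne_top
    rw [Ideal.radical_eq_top, Ideal.span_singleton_eq_top]
    exact hu
  obtain ⟨Q, hQ, S, rfl⟩ := WfDvdMonoid.exists_irreducible_factor hxu hx0
  have hQp : Prime Q := UniqueFactorizationMonoid.irreducible_iff_prime.mp hQ
  have hmem : Q * S ∈ (Ideal.span {Q * S}).radical := Ideal.le_radical (Ideal.mem_span_singleton_self _)
  rcases hrad.mem_or_mem hmem with h | h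
  · obtain ⟨m, hm⟩ := h
    rw [Ideal.mem_span_singleton] at hm
    obtain ⟨i, -, hi⟩ := (dvd_prime_pow hQp m).mp hm
    rcases i with _ | _ | i
    · rw [pow_zero] at hi
      exact absurd (hi.symm.isUnit isUnit_one) hxu
    · rw [zero_add, pow_one] at hi
      exact hi.symm.prime hQp
    · exfalso
      have : Q * Q ∣ Q * S := by
        rw [hi.dvd_iff_dvd_right]
        exact ⟨Q ^ i, by ring⟩
      exact hQ.not_isUnit (hsq Q this)
  · exfalso
    obtain ⟨m, hm⟩ := h
    rw [Ideal.mem_span_singleton] at hm
    have h1 : Q ∣ S ^ m := (dvd_mul_right Q S).trans hm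
    have h2 : Q ∣ S := hQp.dvd_of_dvd_pow h1
    have : Q * Q ∣ Q * S := mul_dvd_mul_left Q h2
    exact hQ.not_isUnit (hsq Q this)

end Alg

section KerFlat

/-- The kernel of a flat base change of an algebra homomorphism is the extension of the kernel. -/
theorem ker_map_id_of_flat {A Ω C D : Type*} [CommRing A] [CommRing Ω] [Algebra A Ω]
    [Module.Flat A Ω] [CommRing C] [Algebra A C] [CommRing D] [Algebra A D] (g : C →ₐ[A] D) :
    RingHom.ker (Algebra.TensorProduct.map (AlgHom.id A Ω) g) =
      (RingHom.ker g).map (Algebra.TensorProduct.includeRight : C →ₐ[A] Ω ⊗[A] C) := by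
  have hinj : Function.Injective
      (Algebra.TensorProduct.map (AlgHom.id A Ω) g.range.val) := by
    have := Module.Flat.lTensor_preserves_injective_linearMap (M := Ω)
      g.range.val.toLinearMap Subtype.val_injective
    exact this
  have hcomp : Algebra.TensorProduct.map (AlgHom.id A Ω) g =
      (Algebra.TensorProduct.map (AlgHom.id A Ω) g.range.val).comp
        (Algebra.TensorProduct.map (AlgHom.id A Ω) g.rangeRestrict) := by
    rw [← Algebra.TensorProduct.map_comp]
    rfl
  have h1 : RingHom.ker (Algebra.TensorProduct.map (AlgHom.id A Ω) g) =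
      RingHom.ker (Algebra.TensorProduct.map (AlgHom.id A Ω) g.rangeRestrict) := by
    ext x
    rw [RingHom.mem_ker, RingHom.mem_ker, hcomp, AlgHom.comp_apply,
      map_eq_zero_iff _ hinj]
  rw [h1, Algebra.TensorProduct.lTensor_ker _ g.rangeRestrict_surjective]
  congr 1
  ext x
  rw [RingHom.mem_ker, RingHom.mem_ker]
  constructor
  · intro h
    have := congrArg Subtype.val h
    exact this
  · intro h
    exact Subtype.ext h

end KerFlat

section Misc

theorem optionEquivLeft_map {A Ω : Type*} [CommRing A] [CommRing Ω] (φ : A →+* Ω) (σ : Type*)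
    (p : MvPolynomial (Option σ) A) :
    MvPolynomial.optionEquivLeft Ω σ (MvPolynomial.map φ p) =
      (MvPolynomial.optionEquivLeft A σ p).map (MvPolynomial.map φ) := by
  induction p using MvPolynomial.induction_on' with
  | monomial m a =>
    rw [MvPolynomial.map_monomial, MvPolynomial.optionEquivLeft_monomial,
      MvPolynomial.optionEquivLeft_monomial, Polynomial.map_monomial, MvPolynomial.map_monomial]
  | add p q hp hq => rw [map_add, map_add, hp, hq, map_add, Polynomial.map_add]

theorem radical_span_isPrime_of_ringEquiv {S S' : Type*} [CommRing S] [CommRing S'] (e : S ≃+* S')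
    {x : S} (h : (Ideal.span {x}).radical.IsPrime) : (Ideal.span {e x}).radical.IsPrime := by
  have h1 : Ideal.span {e x} = Ideal.comap e.symm (Ideal.span {x}) := by
    rw [Ideal.comap_symm, Ideal.map_span, Set.image_singleton]
  rw [h1, ← Ideal.comap_radical]
  exact Ideal.comap_isPrime _ _


theorem separable_map_of_injective {R R' K K' : Type*} [CommRing R] [IsDomain R] [CommRing R']
    [IsDomain R'] [Field K] [Field K'] [Algebra R K] [IsFractionRing R K] [Algebra R' K']
    [IsFractionRing R' K'] (φ : R →+* R') (hφ : Function.Injective φ) (p : R[X])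
    (h : (p.map (algebraMap R K)).Separable) : ((p.map φ).map (algebraMap R' K')).Separable := by
  have hg : Function.Injective ((algebraMap R' K').comp φ) :=
    (IsFractionRing.injective R' K').comp hφ
  have hj := h.map (f := IsFractionRing.lift hg)
  rw [Polynomial.map_map] at hj
  have hcomp : (IsFractionRing.lift hg).comp (algebraMap R K) = (algebraMap R' K').comp φ :=
    RingHom.ext fun x => IsFractionRing.lift_algebraMap hg x
  rw [hcomp, ← Polynomial.map_map] at hj
  exact hj

end Misc

section AbsIrr

variable {A B : Type u} [CommRing A] [IsDomain A] [CommRing B] [IsDomain B] [Algebra A B]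

/-- The evaluation homomorphism `A[t₁,…,tₙ,X] → B`. -/
noncomputable abbrev evalHom {n : ℕ} (t : Fin n → B) (θ : B) :
    MvPolynomial (Option (Fin n)) A →ₐ[A] B :=
  MvPolynomial.aeval (fun o : Option (Fin n) => o.elim θ t)

theorem evalHom_eq {n : ℕ} (t : Fin n → B) (θ : B) (p : MvPolynomial (Option (Fin n)) A) :
    evalHom (A := A) t θ p =
      Polynomial.eval₂ (MvPolynomial.aeval t : MvPolynomial (Fin n) A →ₐ[A] B).toRingHom θ
        (MvPolynomial.optionEquivLeft A (Fin n) p) := by
  induction p using MvPolynomial.induction_on with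
  | C a =>
    rw [MvPolynomial.optionEquivLeft_C, Polynomial.eval₂_C]
    simp
  | add p q hp hq => rw [map_add, map_add, Polynomial.eval₂_add, hp, hq]
  | mul_X p i hp =>
    rw [map_mul, map_mul, Polynomial.eval₂_mul, hp]
    congr 1
    cases i with
    | none => rw [MvPolynomial.optionEquivLeft_X_none, Polynomial.eval₂_X]; simp
    | some i => rw [MvPolynomial.optionEquivLeft_X_some, Polynomial.eval₂_C]; simp

theorem exists_hypersurface_model' [Algebra.FiniteType A B]
    (hinj : Function.Injective (algebraMap A B)) (q : ℕ) [ExpChar A q] :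
    ∃ (n : ℕ) (t : Fin n → B) (θ : B) (P : MvPolynomial (Option (Fin n)) A),
      AlgebraicIndependent A t ∧ (MvPolynomial.optionEquivLeft A (Fin n) P).Monic ∧
      ((MvPolynomial.optionEquivLeft A (Fin n) P).map
        (algebraMap _ (FractionRing (MvPolynomial (Fin n) A)))).Separable ∧
      RingHom.ker (evalHom (A := A) t θ) = Ideal.span {P} ∧
      ∀ x : B, ∃ (m : ℕ) (c : MvPolynomial (Fin n) A), c ≠ 0 ∧
        MvPolynomial.aeval t c * x ^ (q ^ m) ∈ (evalHom (A := A) t θ).range := by
  obtain ⟨n, t, θ, P', ht, hPm, hsep, hker, hpow⟩ :=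
    exists_hypersurface_model (A := A) (B := B) hinj q
  refine ⟨n, t, θ, (MvPolynomial.optionEquivLeft A (Fin n)).symm P', ht, ?_, ?_, ?_, ?_⟩
  · rw [AlgEquiv.apply_symm_apply]
    exact hPm
  · rw [AlgEquiv.apply_symm_apply]
    exact hsep
  · ext p
    rw [RingHom.mem_ker, evalHom_eq, Ideal.mem_span_singleton]
    have h1 : Polynomial.eval₂ (MvPolynomial.aeval t : MvPolynomial (Fin n) A →ₐ[A] B).toRingHom θ
        (MvPolynomial.optionEquivLeft A (Fin n) p) = 0 ↔
        MvPolynomial.optionEquivLeft A (Fin n) p ∈ RingHom.ker (Polynomial.eval₂RingHom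
          (MvPolynomial.aeval t : MvPolynomial (Fin n) A →ₐ[A] B).toRingHom θ) := by
      rw [RingHom.mem_ker]
      rfl
    rw [h1, hker, Ideal.mem_span_singleton]
    constructor
    · rintro ⟨r, hr⟩
      refine ⟨(MvPolynomial.optionEquivLeft A (Fin n)).symm r, ?_⟩
      rw [← map_mul, ← hr, AlgEquiv.symm_apply_apply]
    · rintro ⟨r, hr⟩
      refine ⟨MvPolynomial.optionEquivLeft A (Fin n) r, ?_⟩
      rw [hr, map_mul, AlgEquiv.apply_symm_apply]
  · intro x
    obtain ⟨m, c, hc, G, hG⟩ := hpow x
    refine ⟨m, c, hc, (MvPolynomial.optionEquivLeft A (Fin n)).symm G, ?_⟩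
    show evalHom (A := A) t θ ((MvPolynomial.optionEquivLeft A (Fin n)).symm G) = _
    rw [evalHom_eq, AlgEquiv.apply_symm_apply, hG]

/-- **Absolute irreducibility** of the hypersurface model, from irreducibility of the geometric
generic fibre. -/
theorem irreducible_map_of_isPrime_nilradical {n : ℕ} (t : Fin n → B) (θ : B)
    (P : MvPolynomial (Option (Fin n)) A)
    (hPm : (MvPolynomial.optionEquivLeft A (Fin n) P).Monic)
    (hsep : ((MvPolynomial.optionEquivLeft A (Fin n) P).map
        (algebraMap _ (FractionRing (MvPolynomial (Fin n) A)))).Separable)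
    (hker : RingHom.ker (evalHom (A := A) t θ) = Ideal.span {P})
    (Ω : Type u) [Field Ω] [Algebra A Ω] (hΩ : Function.Injective (algebraMap A Ω))
    (hprime : (nilradical (Ω ⊗[A] B)).IsPrime) :
    Irreducible (MvPolynomial.map (algebraMap A Ω) P) := by
  -- flatness of `Ω` over `A`
  letI algK : Algebra (FractionRing A) Ω := (IsFractionRing.lift hΩ).toAlgebra
  haveI : IsScalarTower A (FractionRing A) Ω :=
    IsScalarTower.of_algebraMap_eq (fun r => (IsFractionRing.lift_algebraMap hΩ r).symm)
  haveI : Module.Flat A Ω := Module.Flat.trans A (FractionRing A) Ω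
  -- the kernel of the base change
  have hk := ker_map_id_of_flat (A := A) (Ω := Ω) (evalHom (A := A) t θ)
  rw [hker, Ideal.map_span, Set.image_singleton] at hk
  have h1 : (Ideal.span {(Algebra.TensorProduct.includeRight :
      MvPolynomial (Option (Fin n)) A →ₐ[A] Ω ⊗[A] MvPolynomial (Option (Fin n)) A) P}).radical.IsPrime := by
    rw [← hk, RingHom.ker_eq_comap_bot, ← Ideal.comap_radical]
    haveI : (⊥ : Ideal (Ω ⊗[A] B)).radical.IsPrime := hprime
    exact Ideal.comap_isPrime _ _
  have h2 := radical_span_isPrime_of_ringEquiv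
    (MvPolynomial.algebraTensorAlgEquiv A Ω (σ := Option (Fin n))).toRingEquiv h1
  have h3 : (MvPolynomial.algebraTensorAlgEquiv A Ω (σ := Option (Fin n))).toRingEquiv
      ((Algebra.TensorProduct.includeRight :
      MvPolynomial (Option (Fin n)) A →ₐ[A] Ω ⊗[A] MvPolynomial (Option (Fin n)) A) P) =
      MvPolynomial.map (algebraMap A Ω) P := by
    show MvPolynomial.algebraTensorAlgEquiv A Ω ((1 : Ω) ⊗ₜ[A] P) = _
    rw [MvPolynomial.algebraTensorAlgEquiv_tmul, one_smul]
  rw [h3] at h2
  have h4 := radical_span_isPrime_of_ringEquiv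
    (MvPolynomial.optionEquivLeft Ω (Fin n)).toRingEquiv h2
  have h5 : (MvPolynomial.optionEquivLeft Ω (Fin n)).toRingEquiv
      (MvPolynomial.map (algebraMap A Ω) P) =
      (MvPolynomial.optionEquivLeft A (Fin n) P).map (MvPolynomial.map (algebraMap A Ω)) :=
    optionEquivLeft_map (algebraMap A Ω) (Fin n) P
  rw [h5] at h4
  -- squarefreeness
  have hφinj : Function.Injective (MvPolynomial.map (σ := Fin n) (algebraMap A Ω)) :=
    MvPolynomial.map_injective _ hΩ
  have hmon : ((MvPolynomial.optionEquivLeft A (Fin n) P).map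
      (MvPolynomial.map (algebraMap A Ω))).Monic := hPm.map _
  have hsq : Squarefree ((MvPolynomial.optionEquivLeft A (Fin n) P).map
      (MvPolynomial.map (algebraMap A Ω))) := by
    apply squarefree_of_map (K := FractionRing (MvPolynomial (Fin n) Ω)) hmon
    apply Polynomial.Separable.squarefree
    exact separable_map_of_injective _ hφinj _ hsep
  have hp := prime_of_squarefree_of_radical_isPrime hsq h4
  have hp' : Prime (MvPolynomial.map (algebraMap A Ω) P) := by
    rw [← h5] at hp
    exact (MulEquiv.prime_iff (MvPolynomial.optionEquivLeft Ω (Fin n)).toRingEquiv.toMulEquiv).mp hp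
  exact hp'.irreducible

end AbsIrr

end GeomIrrH8
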