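import Mathlib

/-!
# Generic geometric irreducibility, part 4: universal homeomorphisms at ring level (helper8)
APPEND-ONLY once landed.
-/


set_option autoImplicit false
set_option linter.style.haveILetI false
universe u
open Polynomial TensorProduct CategoryTheory CategoryTheory.Limits AlgebraicGeometry

namespace GeomIrrH8

section KN

theorem comap_includeRight_surjective {D C T : Type u} [CommRing D] [CommRing C] [Algebra D C]
    [CommRing T] [Algebra D T]
    (h : Function.Surjective (PrimeSpectrum.comap (algebraMap D C))) :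
    Function.Surjective (PrimeSpectrum.comap
      (Algebra.TensorProduct.includeRight : T →ₐ[D] C ⊗[D] T).toRingHom) := by
  haveI hs : Surjective (Spec.map (CommRingCat.ofHom (algebraMap D C))) := ⟨h⟩
  haveI : Surjective (pullback.snd (Spec.map (CommRingCat.ofHom (algebraMap D C)))
      (Spec.map (CommRingCat.ofHom (algebraMap D T)))) :=
    MorphismProperty.pullback_snd _ _ hs
  have h1 : Spec.map (CommRingCat.ofHom
      (Algebra.TensorProduct.includeRight : T →ₐ[D] C ⊗[D] T).toRingHom) =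
      (pullbackSpecIso D C T).inv ≫ pullback.snd _ _ := (pullbackSpecIso_inv_snd D C T).symm
  have h2 : Surjective (Spec.map (CommRingCat.ofHom
      (Algebra.TensorProduct.includeRight : T →ₐ[D] C ⊗[D] T).toRingHom)) := by
    rw [h1]
    infer_instance
  exact h2.surj

end KN

section LemmaT

variable {A : Type u} [CommRing A] {C' C : Type u} [CommRing C'] [CommRing C] [Algebra A C']
  [Algebra A C] [Algebra C' C] [IsScalarTower A C' C]

theorem ker_map_le_nilradical (Ω : Type u) [CommRing Ω] [Algebra A Ω]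
    (hsurj : Function.Surjective (PrimeSpectrum.comap (algebraMap C' C))) :
    RingHom.ker (Algebra.TensorProduct.map (AlgHom.id A Ω) (IsScalarTower.toAlgHom A C' C)) ≤
      nilradical (Ω ⊗[A] C') := by
  intro x hx
  rw [RingHom.mem_ker] at hx
  have key : ∀ z : Ω ⊗[A] C', Algebra.TensorProduct.cancelBaseChange A C' C C Ω
      ((1 : C) ⊗ₜ[C'] (Algebra.TensorProduct.comm A Ω C' z)) =
      Algebra.TensorProduct.comm A Ω C
        (Algebra.TensorProduct.map (AlgHom.id A Ω) (IsScalarTower.toAlgHom A C' C) z) := by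
    intro z
    induction z with
    | zero => simp
    | tmul ω c =>
      rw [Algebra.TensorProduct.comm_tmul, Algebra.TensorProduct.cancelBaseChange_tmul,
        Algebra.TensorProduct.map_tmul, Algebra.TensorProduct.comm_tmul, Algebra.smul_def, mul_one]
      rfl
    | add a b ha hb => simp only [map_add, TensorProduct.tmul_add, ha, hb]
  have h1 : (Algebra.TensorProduct.includeRight :
      (C' ⊗[A] Ω) →ₐ[C'] C ⊗[C'] (C' ⊗[A] Ω)) (Algebra.TensorProduct.comm A Ω C' x) = 0 := by
    apply (Algebra.TensorProduct.cancelBaseChange A C' C C Ω).injective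
    rw [map_zero]
    show Algebra.TensorProduct.cancelBaseChange A C' C C Ω
      ((1 : C) ⊗ₜ[C'] (Algebra.TensorProduct.comm A Ω C' x)) = 0
    rw [key, hx, map_zero]
  have h2 : Algebra.TensorProduct.comm A Ω C' x ∈ nilradical (C' ⊗[A] Ω) := by
    rw [nilradical_eq_sInf, Ideal.mem_sInf]
    intro 𝔭 h𝔭
    obtain ⟨𝔓, h𝔓⟩ := comap_includeRight_surjective (D := C') (C := C) (T := C' ⊗[A] Ω) hsurj
      ⟨𝔭, h𝔭⟩
    have hmem : Algebra.TensorProduct.comm A Ω C' x ∈
        (PrimeSpectrum.comap (Algebra.TensorProduct.includeRight :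
          (C' ⊗[A] Ω) →ₐ[C'] C ⊗[C'] (C' ⊗[A] Ω)).toRingHom 𝔓).asIdeal := by
      show (Algebra.TensorProduct.includeRight :
        (C' ⊗[A] Ω) →ₐ[C'] C ⊗[C'] (C' ⊗[A] Ω)) (Algebra.TensorProduct.comm A Ω C' x) ∈ 𝔓.asIdeal
      rw [h1]
      exact zero_mem _
    rw [h𝔓] at hmem
    exact hmem
  obtain ⟨k, hk⟩ := h2
  refine ⟨k, ?_⟩
  apply (Algebra.TensorProduct.comm A Ω C').injective
  rw [map_pow, hk, map_zero]


theorem exists_pow_mem_range_map (Ω : Type u) [Field Ω] [Algebra A Ω] (q : ℕ)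
    (hq : q = 1 ∨ (q.Prime ∧ (q : A) = 0))
    (hpow : ∀ z : C, ∃ m : ℕ, z ^ (q ^ m) ∈ (algebraMap C' C).range) (x : Ω ⊗[A] C) :
    ∃ m : ℕ, x ^ (q ^ m) ∈
      (Algebra.TensorProduct.map (AlgHom.id A Ω) (IsScalarTower.toAlgHom A C' C)).range := by
  rcases hq with rfl | ⟨hqp, hq0⟩
  · have hs : Function.Surjective (IsScalarTower.toAlgHom A C' C) := by
      intro z
      obtain ⟨m, z', hz'⟩ := hpow z
      exact ⟨z', by simpa using hz'⟩
    obtain ⟨x', hx'⟩ := Algebra.TensorProduct.map_surjective (AlgHom.id A Ω)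
      (IsScalarTower.toAlgHom A C' C) Function.surjective_id hs x
    exact ⟨0, x', by simpa using hx'⟩
  · rcases subsingleton_or_nontrivial (Ω ⊗[A] C) with hsub | hnt
    · exact ⟨0, 0, Subsingleton.elim _ _⟩
    have hΩ0 : (q : Ω) = 0 := by
      have := congrArg (algebraMap A Ω) hq0
      simpa using this
    haveI : CharP Ω q := (CharP.charP_iff_prime_eq_zero hqp).mpr hΩ0
    haveI : Fact q.Prime := ⟨hqp⟩
    haveI : ExpChar Ω q := ExpChar.prime hqp
    haveI : ExpChar (Ω ⊗[A] C) q :=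
      expChar_of_injective_ringHom (algebraMap Ω (Ω ⊗[A] C)).injective q
    letI algT : Algebra (Ω ⊗[A] C') (Ω ⊗[A] C) :=
      (Algebra.TensorProduct.map (AlgHom.id A Ω) (IsScalarTower.toAlgHom A C' C)).toRingHom.toAlgebra
    have hmem : x ∈ Subalgebra.perfectClosure (Ω ⊗[A] C') (Ω ⊗[A] C) q := by
      induction x with
      | zero => exact zero_mem _
      | add a b ha hb => exact add_mem ha hb
      | tmul ω z =>
        obtain ⟨m, z', hz'⟩ := hpow z
        refine ⟨m, (ω ^ q ^ m) ⊗ₜ[A] z', ?_⟩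
        show Algebra.TensorProduct.map (AlgHom.id A Ω) (IsScalarTower.toAlgHom A C' C)
          ((ω ^ q ^ m) ⊗ₜ[A] z') = _
        rw [Algebra.TensorProduct.map_tmul, Algebra.TensorProduct.tmul_pow, ← hz']
        rfl
    obtain ⟨m, y, hy⟩ := hmem
    exact ⟨m, y, hy⟩

theorem isPrime_nilradical_of_purelyInseparable (Ω : Type u) [Field Ω] [Algebra A Ω] (q : ℕ)
    (hq : q = 1 ∨ (q.Prime ∧ (q : A) = 0))
    (hsurj : Function.Surjective (PrimeSpectrum.comap (algebraMap C' C)))
    (hpow : ∀ z : C, ∃ m : ℕ, z ^ (q ^ m) ∈ (algebraMap C' C).range)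
    [IsDomain (Ω ⊗[A] C')] : (nilradical (Ω ⊗[A] C)).IsPrime := by
  have hker := ker_map_le_nilradical (A := A) (C' := C') (C := C) Ω hsurj
  rw [nilradical_eq_zero] at hker
  have hinj : Function.Injective
      (Algebra.TensorProduct.map (AlgHom.id A Ω) (IsScalarTower.toAlgHom A C' C)) := by
    rw [injective_iff_map_eq_zero]
    intro x hx
    have : x ∈ (0 : Ideal (Ω ⊗[A] C')) := hker ((RingHom.mem_ker).mpr hx)
    exact this
  have hq0 : q ≠ 0 := by
    rcases hq with rfl | ⟨hp, -⟩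
    · exact one_ne_zero
    · exact hp.ne_zero
  refine ⟨?_, ?_⟩
  · intro htop
    have h1 : (1 : Ω ⊗[A] C) ∈ nilradical (Ω ⊗[A] C) := by rw [htop]; trivial
    obtain ⟨k, hk⟩ := mem_nilradical.mp h1
    rw [one_pow] at hk
    have h2 : Algebra.TensorProduct.map (AlgHom.id A Ω) (IsScalarTower.toAlgHom A C' C) 1 =
        Algebra.TensorProduct.map (AlgHom.id A Ω) (IsScalarTower.toAlgHom A C' C) 0 := by
      rw [map_one, map_zero, hk]
    exact one_ne_zero (hinj h2)
  · intro x y hxy
    obtain ⟨k, hk⟩ := mem_nilradical.mp hxy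
    obtain ⟨m₁, x', hx'⟩ := exists_pow_mem_range_map (A := A) (C' := C') Ω q hq hpow x
    obtain ⟨m₂, y', hy'⟩ := exists_pow_mem_range_map (A := A) (C' := C') Ω q hq hpow y
    have hx2 : Algebra.TensorProduct.map (AlgHom.id A Ω) (IsScalarTower.toAlgHom A C' C)
        (x' ^ q ^ m₂) = x ^ q ^ (m₁ + m₂) := by
      rw [map_pow, pow_add, pow_mul]
      exact congrArg (· ^ q ^ m₂) hx'
    have hy2 : Algebra.TensorProduct.map (AlgHom.id A Ω) (IsScalarTower.toAlgHom A C' C)
        (y' ^ q ^ m₁) = y ^ q ^ (m₁ + m₂) := by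
      rw [map_pow, pow_add, mul_comm, pow_mul]
      exact congrArg (· ^ q ^ m₁) hy'
    have h0 : IsNilpotent (x' ^ q ^ m₂ * y' ^ q ^ m₁) := by
      refine ⟨k, hinj ?_⟩
      rw [map_pow, map_mul, hx2, hy2, map_zero, ← mul_pow, ← pow_mul,
        mul_comm (q ^ (m₁ + m₂)) k, pow_mul, hk, zero_pow (pow_ne_zero _ hq0)]
    rcases mul_eq_zero.mp h0.eq_zero with h | h
    · left
      refine mem_nilradical.mpr ⟨q ^ (m₁ + m₂), ?_⟩
      rw [← hx2, h, map_zero]
    · right
      refine mem_nilradical.mpr ⟨q ^ (m₁ + m₂), ?_⟩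
      rw [← hy2, h, map_zero]

end LemmaT

end GeomIrrH8
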