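import Mathlib
import Groth.Agent.Lib.GeomIrr1_helper8
import Groth.Agent.Lib.GeomIrr3_helper8
import Groth.Agent.Lib.GeomIrr4_helper8

/-!
# Generic geometric irreducibility, part 5: the core theorem for domains (helper8)
APPEND-ONLY once landed.
-/

set_option autoImplicit false
set_option linter.style.haveILetI false
universe u
open Polynomial TensorProduct

namespace GeomIrrH8

section Loc

variable {A B B₁ Ω : Type*} [CommRing A] [CommRing B] [CommRing B₁] [CommRing Ω] [Algebra A B]
  [Algebra A B₁] [Algebra B B₁] [IsScalarTower A B B₁] [Algebra A Ω]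

/-- Base change commutes with localization away from an element (domain consequence). -/
theorem isDomain_tensor_away (b : B) [IsLocalization.Away b B₁] [IsDomain (B ⊗[A] Ω)]
    (hb : b ⊗ₜ[A] (1 : Ω) ≠ 0) : IsDomain (B₁ ⊗[A] Ω) := by
  letI alg : Algebra (B ⊗[A] Ω) (B₁ ⊗[A] Ω) :=
    (Algebra.TensorProduct.map (IsScalarTower.toAlgHom A B B₁) (AlgHom.id A Ω)).toRingHom.toAlgebra
  haveI : IsScalarTower B (B ⊗[A] Ω) (B₁ ⊗[A] Ω) :=
    IsScalarTower.of_algebraMap_eq (fun x => by
      show _ = Algebra.TensorProduct.map (IsScalarTower.toAlgHom A B B₁) (AlgHom.id A Ω)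
        (x ⊗ₜ[A] (1 : Ω))
      rw [Algebra.TensorProduct.map_tmul]
      rfl)
  have h1 : IsLocalizedModule (Submonoid.powers b)
      (AlgebraTensorModule.rTensor A Ω (Algebra.linearMap B B₁)) := inferInstance
  have h2 : (IsScalarTower.toAlgHom B (B ⊗[A] Ω) (B₁ ⊗[A] Ω)).toLinearMap =
      AlgebraTensorModule.rTensor A Ω (Algebra.linearMap B B₁) := by
    ext ω
    show Algebra.TensorProduct.map (IsScalarTower.toAlgHom A B B₁) (AlgHom.id A Ω)
        ((1 : B) ⊗ₜ[A] ω) = _
    simp
  rw [← h2, isLocalizedModule_iff_isLocalization, Algebra.algebraMapSubmonoid_powers] at h1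
  haveI : IsLocalization.Away (b ⊗ₜ[A] (1 : Ω)) (B₁ ⊗[A] Ω) := h1
  exact IsLocalization.isDomain_of_le_nonZeroDivisors (M := Submonoid.powers (b ⊗ₜ[A] (1 : Ω))) (B₁ ⊗[A] Ω)
    (powers_le_nonZeroDivisors_of_noZeroDivisors hb)

end Loc

section QuotTensor

variable {A : Type u} [CommRing A] {σ : Type} (P : MvPolynomial σ A) (Ω : Type u) [Field Ω]
  [Algebra A Ω]

theorem span_map_eq : Ideal.span {MvPolynomial.map (algebraMap A Ω) P} =
    Ideal.map ((MvPolynomial.algebraTensorAlgEquiv A Ω (σ := σ)).toRingEquiv : _ →+* _)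
      (Ideal.map (Algebra.TensorProduct.includeRight :
        MvPolynomial σ A →ₐ[A] Ω ⊗[A] MvPolynomial σ A) (Ideal.span {P})) := by
  rw [Ideal.map_span, Set.image_singleton, Ideal.map_span, Set.image_singleton]
  congr 2
  show _ = MvPolynomial.algebraTensorAlgEquiv A Ω ((1 : Ω) ⊗ₜ[A] P)
  rw [MvPolynomial.algebraTensorAlgEquiv_tmul, one_smul]

/-- Base change of a hypersurface ring. -/
noncomputable def quotTensorEquiv :
    ((MvPolynomial σ A ⧸ Ideal.span {P}) ⊗[A] Ω) ≃+*
      (MvPolynomial σ Ω ⧸ Ideal.span {MvPolynomial.map (algebraMap A Ω) P}) :=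
  ((Algebra.TensorProduct.comm A (MvPolynomial σ A ⧸ Ideal.span {P}) Ω).toRingEquiv.trans
    (Algebra.TensorProduct.tensorQuotientEquiv (R := A) Ω (MvPolynomial σ A) Ω
      (Ideal.span {P})).toRingEquiv).trans
    (Ideal.quotientEquiv _ _ (MvPolynomial.algebraTensorAlgEquiv A Ω (σ := σ)).toRingEquiv
      (span_map_eq P Ω))

theorem quotTensorEquiv_mk_tmul_one (G : MvPolynomial σ A) :
    quotTensorEquiv P Ω ((Ideal.Quotient.mk _ G) ⊗ₜ[A] (1 : Ω)) =
      Ideal.Quotient.mk _ (MvPolynomial.map (algebraMap A Ω) G) := by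
  show Ideal.quotientEquiv _ _ (MvPolynomial.algebraTensorAlgEquiv A Ω (σ := σ)).toRingEquiv
    (span_map_eq P Ω)
    (Algebra.TensorProduct.tensorQuotientEquiv (R := A) Ω (MvPolynomial σ A) Ω (Ideal.span {P})
      (Algebra.TensorProduct.comm A (MvPolynomial σ A ⧸ Ideal.span {P}) Ω
        ((Ideal.Quotient.mk _ G) ⊗ₜ[A] (1 : Ω)))) = _
  rw [Algebra.TensorProduct.comm_tmul]
  show Ideal.quotientEquiv _ _ (MvPolynomial.algebraTensorAlgEquiv A Ω (σ := σ)).toRingEquiv
    (span_map_eq P Ω) (Ideal.Quotient.mk _ ((1 : Ω) ⊗ₜ[A] G)) = _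
  rw [Ideal.quotientEquiv_mk]
  congr 1
  show MvPolynomial.algebraTensorAlgEquiv A Ω ((1 : Ω) ⊗ₜ[A] G) = _
  rw [MvPolynomial.algebraTensorAlgEquiv_tmul, one_smul]

theorem isDomain_quot_tensor [UniqueFactorizationMonoid (MvPolynomial σ Ω)]
    (hirr : Irreducible (MvPolynomial.map (algebraMap A Ω) P)) :
    IsDomain ((MvPolynomial σ A ⧸ Ideal.span {P}) ⊗[A] Ω) := by
  have hp : Prime (MvPolynomial.map (algebraMap A Ω) P) :=
    UniqueFactorizationMonoid.irreducible_iff_prime.mp hirr
  haveI : (Ideal.span {MvPolynomial.map (algebraMap A Ω) P}).IsPrime :=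
    (Ideal.span_singleton_prime hp.ne_zero).mpr hp
  exact (quotTensorEquiv P Ω).injective.isDomain (quotTensorEquiv P Ω).toRingHom

theorem mk_tmul_one_ne_zero (G : MvPolynomial σ A)
    (hG : ¬ (MvPolynomial.map (algebraMap A Ω) P ∣ MvPolynomial.map (algebraMap A Ω) G)) :
    (Ideal.Quotient.mk (Ideal.span {P}) G) ⊗ₜ[A] (1 : Ω) ≠ 0 := by
  intro h0
  have h1 := quotTensorEquiv_mk_tmul_one P Ω G
  rw [h0, map_zero] at h1
  apply hG
  rw [← Ideal.mem_span_singleton, ← Ideal.Quotient.eq_zero_iff_mem]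
  exact h1.symm

end QuotTensor

section CoreD

theorem isPrime_nilradical_of_ringEquiv {R S : Type*} [CommRing R] [CommRing S] (e : R ≃+* S)
    (h : (nilradical S).IsPrime) : (nilradical R).IsPrime := by
  have h1 : nilradical R = Ideal.comap e (nilradical S) := by
    ext x
    rw [Ideal.mem_comap, mem_nilradical, mem_nilradical]
    exact ⟨fun h => h.map e, fun h => by simpa using h.map e.symm⟩
  rw [h1]
  exact Ideal.comap_isPrime _ _

variable {A B : Type u} [CommRing A] [IsDomain A] [CommRing B] [IsDomain B] [Algebra A B]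
  [Algebra.FiniteType A B]

set_option maxHeartbeats 1600000 in
theorem coreD_aux (hinj : Function.Injective (algebraMap A B)) (q : ℕ) [ExpChar A q]
    (hq : q = 1 ∨ (q.Prime ∧ (q : A) = 0)) {n : ℕ} (t : Fin n → B) (θ : B)
    (P : MvPolynomial (Option (Fin n)) A) (ht : AlgebraicIndependent A t)
    (hPm : (MvPolynomial.optionEquivLeft A (Fin n) P).Monic)
    (hker : RingHom.ker (evalHom (A := A) t θ) = Ideal.span {P})
    (hpow : ∀ x : B, ∃ (m : ℕ) (c : MvPolynomial (Fin n) A), c ≠ 0 ∧
        MvPolynomial.aeval t c * x ^ (q ^ m) ∈ (evalHom (A := A) t θ).range)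
    (a₂ : A) (ha₂ : a₂ ≠ 0)
    (H₂ : ∀ (Ω : Type u) [Field Ω] [Algebra A Ω], algebraMap A Ω a₂ ≠ 0 →
      Irreducible (MvPolynomial.map (algebraMap A Ω) P)) :
    ∃ a : A, a ≠ 0 ∧ ∃ b : B, b ≠ 0 ∧ ∀ (B₁ : Type u) [CommRing B₁] [Algebra A B₁] [Algebra B B₁]
      [IsScalarTower A B B₁] [IsLocalization.Away b B₁] (Ω : Type u) [Field Ω] [Algebra A Ω],
      algebraMap A Ω a ≠ 0 → (nilradical (B₁ ⊗[A] Ω)).IsPrime := by
  classical
  -- the embedding `ι : B' → B`
  let ι : (MvPolynomial (Option (Fin n)) A ⧸ Ideal.span {P}) →ₐ[A] B :=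
    Ideal.Quotient.liftₐ (Ideal.span {P}) (evalHom (A := A) t θ) (fun x hx => by
      rw [← hker] at hx
      exact hx)
  have hιmk : ∀ G, ι (Ideal.Quotient.mk _ G) = evalHom (A := A) t θ G := fun G => rfl
  have hιinj : Function.Injective ι := by
    rw [injective_iff_map_eq_zero]
    intro x hx
    obtain ⟨G, rfl⟩ := Ideal.Quotient.mk_surjective x
    rw [hιmk] at hx
    rw [Ideal.Quotient.eq_zero_iff_mem, ← hker]
    exact hx
  -- lifting `R = A[t]` into `S_A`
  have hev : ∀ c : MvPolynomial (Fin n) A,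
      evalHom (A := A) t θ ((MvPolynomial.optionEquivLeft A (Fin n)).symm (Polynomial.C c)) =
        MvPolynomial.aeval t c := by
    intro c
    rw [evalHom_eq, AlgEquiv.apply_symm_apply, Polynomial.eval₂_C]
    rfl
  -- generators
  obtain ⟨s, hs⟩ := (Algebra.FiniteType.out : (⊤ : Subalgebra A B).FG)
  choose m c hc hG using hpow
  set g' : MvPolynomial (Fin n) A := ∏ x ∈ s, c x with hg'
  have hg'0 : g' ≠ 0 := Finset.prod_ne_zero_iff.mpr (fun x _ => hc x)
  set G : MvPolynomial (Option (Fin n)) A :=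
    (MvPolynomial.optionEquivLeft A (Fin n)).symm (Polynomial.C g') with hGdef
  set b : B := MvPolynomial.aeval t g' with hb
  have hb0 : b ≠ 0 := by
    intro h0
    apply hg'0
    apply ht
    rw [map_zero]
    exact h0
  have hιG : ι (Ideal.Quotient.mk _ G) = b := by rw [hιmk, hGdef, hev]
  obtain ⟨mon, hmon⟩ := MvPolynomial.ne_zero_iff.mp hg'0
  -- for each generator, `b * x ^ q ^ m` lies in the image of `ι`
  have hgen : ∀ x ∈ s, ∃ y', b * x ^ (q ^ m x) = ι y' := by
    intro x hx
    obtain ⟨Gx, hGx⟩ := hG x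
    refine ⟨Ideal.Quotient.mk _ ((MvPolynomial.optionEquivLeft A (Fin n)).symm
      (Polynomial.C (∏ y ∈ s.erase x, c y)) * Gx), ?_⟩
    rw [hιmk, map_mul, hev]
    have h1 : (evalHom (A := A) t θ) Gx = MvPolynomial.aeval t (c x) * x ^ q ^ m x := hGx
    rw [h1, hb, hg', ← Finset.mul_prod_erase s c hx, map_mul]
    ring
  -- the degree of `P` in `X` is positive
  have hdeg : 0 < (MvPolynomial.optionEquivLeft A (Fin n) P).natDegree := by
    by_contra hcon
    have h0 : (MvPolynomial.optionEquivLeft A (Fin n) P).natDegree = 0 := by omega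
    have h1 : MvPolynomial.optionEquivLeft A (Fin n) P = 1 :=
      (Polynomial.Monic.natDegree_eq_zero hPm).mp h0
    have h2 : P = 1 := by
      apply (MvPolynomial.optionEquivLeft A (Fin n)).injective
      rw [h1, map_one]
    have h3 : (1 : MvPolynomial (Option (Fin n)) A) ∈ RingHom.ker (evalHom (A := A) t θ) := by
      rw [hker, h2]
      exact Ideal.mem_span_singleton_self 1
    rw [RingHom.mem_ker, map_one] at h3
    exact one_ne_zero h3
  refine ⟨a₂ * MvPolynomial.coeff mon g', mul_ne_zero ha₂ hmon, b, hb0, ?_⟩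
  intro B₁ _ _ _ _ _ Ω _ _ haΩ
  have ha₂Ω : algebraMap A Ω a₂ ≠ 0 := by
    intro h0
    apply haΩ
    rw [map_mul, h0, zero_mul]
  have ha₃Ω : algebraMap A Ω (MvPolynomial.coeff mon g') ≠ 0 := by
    intro h0
    apply haΩ
    rw [map_mul, h0, mul_zero]
  -- injectivity of `B → B₁`
  have hBinj : Function.Injective (algebraMap B B₁) :=
    IsLocalization.injective B₁ (powers_le_nonZeroDivisors_of_noZeroDivisors hb0)
  -- the algebra structure `B'_g → B₁`
  have hu : IsUnit (((algebraMap B B₁).comp ι.toRingHom) (Ideal.Quotient.mk _ G)) := by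
    show IsUnit (algebraMap B B₁ (ι (Ideal.Quotient.mk _ G)))
    rw [hιG]
    exact IsLocalization.Away.algebraMap_isUnit b
  letI algφ : Algebra (Localization.Away (Ideal.Quotient.mk (Ideal.span {P}) G)) B₁ :=
    (IsLocalization.Away.lift (Ideal.Quotient.mk (Ideal.span {P}) G) hu).toAlgebra
  have hφ : ∀ y, algebraMap (Localization.Away (Ideal.Quotient.mk (Ideal.span {P}) G)) B₁
      (algebraMap _ _ y) = algebraMap B B₁ (ι y) := fun y =>
    IsLocalization.Away.lift_eq (Ideal.Quotient.mk (Ideal.span {P}) G) hu y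
  haveI : IsScalarTower A (Localization.Away (Ideal.Quotient.mk (Ideal.span {P}) G)) B₁ :=
    IsScalarTower.of_algebraMap_eq (fun a => by
      rw [IsScalarTower.algebraMap_apply A (MvPolynomial (Option (Fin n)) A ⧸ Ideal.span {P})
        (Localization.Away (Ideal.Quotient.mk (Ideal.span {P}) G)), hφ, AlgHom.commutes,
        ← IsScalarTower.algebraMap_apply])
  -- the inverse of `b` in `B₁`
  set u : B₁ := algebraMap (Localization.Away (Ideal.Quotient.mk (Ideal.span {P}) G)) B₁
    (IsLocalization.Away.invSelf (Ideal.Quotient.mk (Ideal.span {P}) G)) with hu_def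
  have hbu : algebraMap B B₁ b * u = 1 := by
    rw [← hιG, ← hφ, hu_def, ← map_mul, IsLocalization.Away.mul_invSelf, map_one]
  -- domain property of the base change of `B'_g`
  haveI hdom1 : IsDomain ((MvPolynomial (Option (Fin n)) A ⧸ Ideal.span {P}) ⊗[A] Ω) :=
    isDomain_quot_tensor P Ω (H₂ Ω ha₂Ω)
  have hndvd : ¬ (MvPolynomial.map (algebraMap A Ω) P ∣ MvPolynomial.map (algebraMap A Ω) G) := by
    intro hdvd
    have h1 := map_dvd (MvPolynomial.optionEquivLeft Ω (Fin n)) hdvd
    rw [optionEquivLeft_map, optionEquivLeft_map, hGdef, AlgEquiv.apply_symm_apply,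
      Polynomial.map_C] at h1
    have hc0 : MvPolynomial.map (algebraMap A Ω) g' ≠ 0 := by
      rw [MvPolynomial.ne_zero_iff]
      exact ⟨mon, by rw [MvPolynomial.coeff_map]; exact ha₃Ω⟩
    have h2 := Polynomial.natDegree_le_of_dvd h1 (by rwa [Ne, Polynomial.C_eq_zero])
    rw [Polynomial.natDegree_C, Nat.le_zero, Polynomial.Monic.natDegree_eq_zero (hPm.map _)] at h2
    have h3 := congrArg Polynomial.natDegree h2
    rw [hPm.natDegree_map, Polynomial.natDegree_one] at h3
    omega
  have hg1 : (Ideal.Quotient.mk (Ideal.span {P}) G) ⊗ₜ[A] (1 : Ω) ≠ 0 :=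
    mk_tmul_one_ne_zero P Ω G hndvd
  haveI hdom2 : IsDomain (Localization.Away (Ideal.Quotient.mk (Ideal.span {P}) G) ⊗[A] Ω) :=
    isDomain_tensor_away (Ideal.Quotient.mk (Ideal.span {P}) G) hg1
  haveI hdom3 : IsDomain (Ω ⊗[A] Localization.Away (Ideal.Quotient.mk (Ideal.span {P}) G)) :=
    (Algebra.TensorProduct.comm A Ω _).injective.isDomain
      (Algebra.TensorProduct.comm A Ω
        (Localization.Away (Ideal.Quotient.mk (Ideal.span {P}) G))).toAlgHom.toRingHom
  -- injectivity of `φ`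
  have hφinj : Function.Injective
      (algebraMap (Localization.Away (Ideal.Quotient.mk (Ideal.span {P}) G)) B₁) := by
    rw [injective_iff_map_eq_zero]
    intro z hz
    obtain ⟨k, y, hy⟩ := IsLocalization.Away.surj (Ideal.Quotient.mk (Ideal.span {P}) G) z
    have h1 : algebraMap B B₁ (ι y) = 0 := by
      rw [← hφ, ← hy, map_mul, hz, zero_mul]
    have h2 : y = 0 := hιinj (by rw [map_zero]; exact hBinj (by rw [h1, map_zero]))
    rw [h2, map_zero] at hy
    have hunit : IsUnit (algebraMap (MvPolynomial (Option (Fin n)) A ⧸ Ideal.span {P})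
        (Localization.Away (Ideal.Quotient.mk (Ideal.span {P}) G))
        (Ideal.Quotient.mk (Ideal.span {P}) G) ^ k) :=
      (IsLocalization.Away.algebraMap_isUnit _).pow k
    exact (hunit.mul_left_eq_zero).mp hy
  -- the exponential characteristic of `B₁`
  haveI : ExpChar B₁ q := by
    have hinj1 : Function.Injective (algebraMap A B₁) := by
      rw [IsScalarTower.algebraMap_eq A B B₁]
      exact hBinj.comp hinj
    exact expChar_of_injective_algebraMap hinj1 q
  -- powers
  have hPC : ∀ z : B₁, z ∈ Subalgebra.perfectClosure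
      (Localization.Away (Ideal.Quotient.mk (Ideal.span {P}) G)) B₁ q := by
    have h1 : ∀ x ∈ s, algebraMap B B₁ x ∈ Subalgebra.perfectClosure
        (Localization.Away (Ideal.Quotient.mk (Ideal.span {P}) G)) B₁ q := by
      intro x hx
      obtain ⟨y', hy'⟩ := hgen x hx
      refine ⟨m x, algebraMap _ _ y' *
        IsLocalization.Away.invSelf (Ideal.Quotient.mk (Ideal.span {P}) G), ?_⟩
      rw [map_mul, hφ, ← hy', map_mul, map_pow, ← hu_def, mul_comm (algebraMap B B₁ b), mul_assoc,
        hbu, mul_one]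
    have h2 : ∀ y : B, algebraMap B B₁ y ∈ Subalgebra.perfectClosure
        (Localization.Away (Ideal.Quotient.mk (Ideal.span {P}) G)) B₁ q := by
      intro y
      have hy : y ∈ Algebra.adjoin A (s : Set B) := by rw [hs]; trivial
      induction hy using Algebra.adjoin_induction with
      | mem x hx => exact h1 x hx
      | algebraMap a =>
        rw [← IsScalarTower.algebraMap_apply, IsScalarTower.algebraMap_apply A
          (Localization.Away (Ideal.Quotient.mk (Ideal.span {P}) G)) B₁]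
        exact Subalgebra.algebraMap_mem _ _
      | add x y _ _ hx hy => rw [map_add]; exact add_mem hx hy
      | mul x y _ _ hx hy => rw [map_mul]; exact mul_mem hx hy
    intro z
    obtain ⟨k, y, hy⟩ := IsLocalization.Away.surj b z
    have hz : z = algebraMap B B₁ y * u ^ k := by
      rw [← hy, mul_assoc, ← mul_pow, hbu, one_pow, mul_one]
    rw [hz]
    exact mul_mem (h2 y) (pow_mem (Subalgebra.algebraMap_mem _ _) k)
  have hpow' : ∀ z : B₁, ∃ m : ℕ, z ^ (q ^ m) ∈
      (algebraMap (Localization.Away (Ideal.Quotient.mk (Ideal.span {P}) G)) B₁).range := by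
    intro z
    obtain ⟨m, y, hy⟩ := hPC z
    exact ⟨m, y, hy⟩
  have hq0 : 0 < q := by
    rcases hq with rfl | ⟨hp, -⟩
    · exact Nat.one_pos
    · exact hp.pos
  have hsurj : Function.Surjective (PrimeSpectrum.comap
      (algebraMap (Localization.Away (Ideal.Quotient.mk (Ideal.span {P}) G)) B₁)) :=
    (PrimeSpectrum.isHomeomorph_comap _ (fun z => by
      obtain ⟨m, hm⟩ := hpow' z
      exact ⟨q ^ m, pow_pos hq0 m, hm⟩) (by
      rw [(RingHom.injective_iff_ker_eq_bot _).mp hφinj]
      exact bot_le)).surjective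
  have hfinal := isPrime_nilradical_of_purelyInseparable (A := A)
    (C' := Localization.Away (Ideal.Quotient.mk (Ideal.span {P}) G)) (C := B₁) Ω q hq hsurj hpow'
  exact isPrime_nilradical_of_ringEquiv (Algebra.TensorProduct.comm A B₁ Ω).toRingEquiv hfinal

/-- **Core theorem for domains.** `A ⊆ B` domains, `B` of finite type over `A`, such that
`B ⊗[A] Ω` has irreducible spectrum for every field `Ω ⊇ A`. Then there are nonzero `a ∈ A` and
`b ∈ B` such that `B[1/b] ⊗[A] Ω` has irreducible spectrum for every field `Ω` over `A` in which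
`a` is nonzero. -/
theorem coreD (hinj : Function.Injective (algebraMap A B))
    (h : ∀ (Ω : Type u) [Field Ω] [Algebra A Ω], Function.Injective (algebraMap A Ω) →
      (nilradical (B ⊗[A] Ω)).IsPrime) :
    ∃ a : A, a ≠ 0 ∧ ∃ b : B, b ≠ 0 ∧ ∀ (B₁ : Type u) [CommRing B₁] [Algebra A B₁] [Algebra B B₁]
      [IsScalarTower A B B₁] [IsLocalization.Away b B₁] (Ω : Type u) [Field Ω] [Algebra A Ω],
      algebraMap A Ω a ≠ 0 → (nilradical (B₁ ⊗[A] Ω)).IsPrime := by
  classical
  obtain ⟨q, hqe⟩ : ∃ q, ExpChar A q := ⟨ringExpChar A, ringExpChar.expChar A⟩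
  have hq : q = 1 ∨ (q.Prime ∧ (q : A) = 0) := by
    cases hqe with
    | zero => exact Or.inl rfl
    | prime hp => exact Or.inr ⟨hp, CharP.cast_eq_zero A q⟩
  haveI := hqe
  obtain ⟨n, t, θ, P, ht, hPm, hsep, hker, hpow⟩ :=
    exists_hypersurface_model' (A := A) (B := B) hinj q
  have habs : ∀ (Ω : Type u) [Field Ω] [Algebra A Ω], Function.Injective (algebraMap A Ω) →
      Irreducible (MvPolynomial.map (algebraMap A Ω) P) := by
    intro Ω _ _ hΩ
    have h1 := h Ω hΩ
    have h2 : (nilradical (Ω ⊗[A] B)).IsPrime :=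
      isPrime_nilradical_of_ringEquiv (Algebra.TensorProduct.comm A Ω B).toRingEquiv h1
    exact irreducible_map_of_isPrime_nilradical t θ P hPm hsep hker Ω hΩ h2
  obtain ⟨a₂, ha₂, H₂⟩ := exists_ne_zero_forall_irreducible P habs
  exact coreD_aux hinj q hq t θ P ht hPm hker hpow a₂ ha₂ H₂

end CoreD

end GeomIrrH8
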