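import Mathlib
import Groth.Agent.Lib.GeomIrr5_helper8
import Groth.Agent.Lib.GenFreeF_helper8
import Groth.Agent.Lib.GeomRedGen_helper4

/-!
# Generic geometric irreducibility, part 6: reduction to the case of domains (helper8)
APPEND-ONLY once landed.
-/

set_option autoImplicit false
set_option linter.style.haveILetI false
universe u
open Polynomial TensorProduct

namespace GeomIrrH8

section P1

/-- A surjective ring homomorphism with nil kernel: primality of the nilradical transfers. -/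
theorem isPrime_nilradical_iff_of_surjective {T T' : Type*} [CommRing T] [CommRing T']
    (π : T →+* T') (hπ : Function.Surjective π) (hker : RingHom.ker π ≤ nilradical T) :
    (nilradical T').IsPrime ↔ (nilradical T).IsPrime := by
  have h1 : nilradical T = Ideal.comap π (nilradical T') := by
    ext x
    rw [Ideal.mem_comap, mem_nilradical, mem_nilradical]
    constructor
    · intro h
      exact h.map π
    · rintro ⟨k, hk⟩
      rw [← map_pow] at hk
      obtain ⟨j, hj⟩ := mem_nilradical.mp (hker ((RingHom.mem_ker).mpr hk))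
      exact ⟨k * j, by rw [pow_mul, hj]⟩
  constructor
  · intro h
    rw [h1]
    exact Ideal.comap_isPrime _ _
  · intro h
    have h2 : nilradical T' = Ideal.map π (nilradical T) := by
      rw [h1, Ideal.map_comap_of_surjective π hπ]
    rw [h2]
    exact Ideal.map_isPrime_of_surjective hπ hker

variable {A₀ C C' Ω : Type*} [CommRing A₀] [CommRing C] [CommRing C'] [CommRing Ω]
  [Algebra A₀ C] [Algebra A₀ C'] [Algebra A₀ Ω]

theorem isPrime_nilradical_tensor_iff_of_surjective (π : C →ₐ[A₀] C') (hπ : Function.Surjective π)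
    (hker : ∀ x ∈ RingHom.ker π, IsNilpotent (x ⊗ₜ[A₀] (1 : Ω))) :
    (nilradical (C' ⊗[A₀] Ω)).IsPrime ↔ (nilradical (C ⊗[A₀] Ω)).IsPrime := by
  apply isPrime_nilradical_iff_of_surjective
    (Algebra.TensorProduct.map π (AlgHom.id A₀ Ω)).toRingHom
  · exact Algebra.TensorProduct.map_surjective π (AlgHom.id A₀ Ω) hπ Function.surjective_id
  · have h1 := Algebra.TensorProduct.rTensor_ker (R := A₀) (S := A₀) (C := Ω) π hπ
    show RingHom.ker (Algebra.TensorProduct.map π (AlgHom.id A₀ Ω)) ≤ _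
    rw [h1, Ideal.map_le_iff_le_comap]
    intro x hx
    rw [Ideal.mem_comap]
    exact mem_nilradical.mpr (hker x hx)

end P1

section P2

variable {A₀ A C Ω : Type*} [CommRing A₀] [CommRing A] [Algebra A₀ A] [CommRing C] [CommRing Ω]
  [Algebra A₀ C] [Algebra A C] [IsScalarTower A₀ A C] [Algebra A₀ Ω] [Algebra A Ω]
  [IsScalarTower A₀ A Ω]

theorem compatibleSMul_of_surjective (hs : Function.Surjective (algebraMap A₀ A)) :
    TensorProduct.CompatibleSMul A₀ A C Ω := by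
  refine ⟨fun r m n => ?_⟩
  obtain ⟨r₀, rfl⟩ := hs r
  rw [algebraMap_smul, algebraMap_smul, TensorProduct.smul_tmul]

theorem isPrime_nilradical_tensor_iff_of_base_surjective
    (hs : Function.Surjective (algebraMap A₀ A)) :
    (nilradical (C ⊗[A] Ω)).IsPrime ↔ (nilradical (C ⊗[A₀] Ω)).IsPrime := by
  haveI := compatibleSMul_of_surjective (A₀ := A₀) (A := A) (C := C) (Ω := Ω) hs
  constructor
  · intro h
    exact isPrime_nilradical_of_ringEquiv
      (Algebra.TensorProduct.equivOfCompatibleSMul A₀ A A C Ω).symm.toRingEquiv h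
  · intro h
    exact isPrime_nilradical_of_ringEquiv
      (Algebra.TensorProduct.equivOfCompatibleSMul A₀ A A C Ω).toRingEquiv h

end P2

section R1

/-- Over a domain, the torsion of a finite type algebra is killed by the powers of one nonzero
element (a consequence of generic freeness). -/
theorem exists_pow_smul_eq_zero_of_torsion {A S : Type u} [CommRing A] [IsDomain A] [CommRing S]
    [Algebra A S] [Algebra.FiniteType A S] :
    ∃ a : A, a ≠ 0 ∧ ∀ w : S, (∃ s : A, s ≠ 0 ∧ s • w = 0) → ∃ k : ℕ, a ^ k • w = 0 := by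
  obtain ⟨f, hf, -, hfree, -, -⟩ := GenFreeH8.generic_freeness (R := A) (S := S) S
  refine ⟨f, hf, ?_⟩
  rintro w ⟨s, hs, hsw⟩
  haveI := hfree
  haveI : IsDomain (Localization.Away f) :=
    IsLocalization.isDomain_of_le_nonZeroDivisors (M := Submonoid.powers f) _
      (powers_le_nonZeroDivisors_of_noZeroDivisors hf)
  have hinj : Function.Injective (algebraMap A (Localization.Away f)) :=
    IsLocalization.injective _ (powers_le_nonZeroDivisors_of_noZeroDivisors hf)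
  have h1 : algebraMap A (Localization.Away f) s • ((1 : Localization.Away f) ⊗ₜ[A] w) = 0 := by
    rw [algebraMap_smul, ← TensorProduct.tmul_smul, hsw, TensorProduct.tmul_zero]
  have hs' : algebraMap A (Localization.Away f) s ≠ 0 := by
    rw [Ne, map_eq_zero_iff _ hinj]
    exact hs
  have h2 : (1 : Localization.Away f) ⊗ₜ[A] w = 0 := by
    rcases smul_eq_zero.mp h1 with h | h
    · exact absurd h hs'
    · exact h
  obtain ⟨c, hc⟩ := (IsLocalizedModule.eq_zero_iff (Submonoid.powers f)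
    (TensorProduct.mk A (Localization.Away f) S 1)).mp h2
  obtain ⟨k, hk⟩ := c.2
  refine ⟨k, ?_⟩
  have hk' : f ^ k = (c : A) := hk
  rw [hk']
  exact hc

end R1

section Final

variable {A₀ B₀ : Type u} [CommRing A₀] [CommRing B₀] [Algebra A₀ B₀] [Algebra.FiniteType A₀ B₀]

/-- Nilpotence of `y ⊗ 1` over `K = Frac A` spreads to all fields `Ω` over `A` (uniformly,
after inverting one element). -/
theorem exists_forall_isNilpotent_tmul (A : Type u) [CommRing A] [IsDomain A] [Algebra A₀ A] :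
    ∃ a : A, a ≠ 0 ∧ ∀ y : B₀, IsNilpotent (y ⊗ₜ[A₀] (1 : FractionRing A)) →
      ∀ (Ω : Type u) [Field Ω] [Algebra A₀ Ω] [Algebra A Ω] [IsScalarTower A₀ A Ω],
      algebraMap A Ω a ≠ 0 → IsNilpotent (y ⊗ₜ[A₀] (1 : Ω)) := by
  obtain ⟨a, ha, H⟩ := exists_pow_smul_eq_zero_of_torsion (A := A) (S := A ⊗[A₀] B₀)
  refine ⟨a, ha, ?_⟩
  intro y hy Ω _ _ _ _ haΩ
  obtain ⟨m, hm⟩ := hy
  rw [Algebra.TensorProduct.tmul_pow, one_pow] at hm
  -- torsion
  have h1 : (1 : FractionRing A) ⊗ₜ[A] ((1 : A) ⊗ₜ[A₀] (y ^ m)) = 0 := by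
    apply (Algebra.TensorProduct.cancelBaseChange A₀ A (FractionRing A) (FractionRing A)
      B₀).injective
    rw [Algebra.TensorProduct.cancelBaseChange_tmul, one_smul, map_zero]
    have := congrArg (Algebra.TensorProduct.comm A₀ B₀ (FractionRing A)) hm
    rwa [Algebra.TensorProduct.comm_tmul, map_zero] at this
  obtain ⟨s, hs, hsw⟩ := Groth.Agent.Lib.GeomRedGenH4.exists_smul_eq_zero_of_tmul_eq_zero
    (R := A) (FractionRing A) (IsFractionRing.injective A (FractionRing A))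
    ((1 : A) ⊗ₜ[A₀] (y ^ m)) h1
  obtain ⟨k, hk⟩ := H _ ⟨s, hs, hsw⟩
  -- map to `Ω`
  have h2 := congrArg (Algebra.TensorProduct.map (IsScalarTower.toAlgHom A₀ A Ω)
    (AlgHom.id A₀ B₀)) hk
  rw [map_zero, TensorProduct.smul_tmul', Algebra.TensorProduct.map_tmul] at h2
  have h3 : (IsScalarTower.toAlgHom A₀ A Ω) (a ^ k • (1 : A)) = algebraMap A Ω a ^ k := by
    rw [smul_eq_mul, mul_one, map_pow]
    rfl
  rw [h3] at h2
  have h4 : (1 : Ω) ⊗ₜ[A₀] (y ^ m) = 0 := by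
    have hu : IsUnit (algebraMap A Ω a ^ k) := (IsUnit.mk0 _ haΩ).pow k
    have h5 : (algebraMap A Ω a ^ k) • ((1 : Ω) ⊗ₜ[A₀] (y ^ m)) = 0 := by
      rw [TensorProduct.smul_tmul', smul_eq_mul, mul_one]
      exact h2
    exact (hu.smul_eq_zero).mp h5
  refine ⟨m, ?_⟩
  rw [Algebra.TensorProduct.tmul_pow, one_pow]
  have := congrArg (Algebra.TensorProduct.comm A₀ Ω B₀) h4
  rwa [Algebra.TensorProduct.comm_tmul, map_zero] at this

set_option maxHeartbeats 1600000 in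
theorem core_final_aux (A : Type u) [CommRing A] [IsDomain A] [Algebra A₀ A]
    (hsurj : Function.Surjective (algebraMap A₀ A))
    (hkerA : RingHom.ker (algebraMap A₀ A) = nilradical A₀)
    (𝔓 : Ideal B₀) [h𝔓p : 𝔓.IsPrime]
    (h𝔓 : ∀ y : B₀, y ∈ 𝔓 ↔ IsNilpotent (y ⊗ₜ[A₀] (1 : FractionRing A)))
    (hnt : Nontrivial (B₀ ⊗[A₀] FractionRing A))
    (h : ∀ (Ω : Type u) [Field Ω] [Algebra A₀ Ω], RingHom.ker (algebraMap A₀ Ω) = nilradical A₀ →
      (nilradical (B₀ ⊗[A₀] Ω)).IsPrime) :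
    ∃ a : A₀, a ∉ nilradical A₀ ∧ ∃ b : B₀, ∀ (B₁ : Type u) [CommRing B₁] [Algebra A₀ B₁]
      [Algebra B₀ B₁] [IsScalarTower A₀ B₀ B₁] [IsLocalization.Away b B₁] (Ω : Type u) [Field Ω]
      [Algebra A₀ Ω], algebraMap A₀ Ω a ≠ 0 → (nilradical (B₁ ⊗[A₀] Ω)).IsPrime := by
  classical
  -- the `A`-algebra structure on `B = B₀ ⧸ 𝔓`
  have hle : RingHom.ker (algebraMap A₀ A) ≤ RingHom.ker (algebraMap A₀ (B₀ ⧸ 𝔓)) := by
    rw [hkerA]
    intro x hx
    rw [RingHom.mem_ker]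
    exact ((mem_nilradical.mp hx).map (algebraMap A₀ (B₀ ⧸ 𝔓))).eq_zero
  let ψ : A →+* (B₀ ⧸ 𝔓) :=
    (algebraMap A₀ A).liftOfSurjective hsurj ⟨algebraMap A₀ (B₀ ⧸ 𝔓), hle⟩
  have hψ : ∀ x, ψ (algebraMap A₀ A x) = algebraMap A₀ (B₀ ⧸ 𝔓) x := fun x =>
    RingHom.liftOfRightInverse_comp_apply _ _ _ _ x
  letI algAB : Algebra A (B₀ ⧸ 𝔓) := ψ.toAlgebra
  haveI : IsScalarTower A₀ A (B₀ ⧸ 𝔓) := IsScalarTower.of_algebraMap_eq (fun x => (hψ x).symm)
  haveI : Algebra.FiniteType A (B₀ ⧸ 𝔓) :=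
    Algebra.FiniteType.of_restrictScalars_finiteType A₀ A (B₀ ⧸ 𝔓)
  have hinjK : Function.Injective (algebraMap A (FractionRing A)) :=
    IsFractionRing.injective A (FractionRing A)
  -- injectivity of `A → B`
  have hinjAB : Function.Injective (algebraMap A (B₀ ⧸ 𝔓)) := by
    rw [injective_iff_map_eq_zero]
    intro x hx
    obtain ⟨x₀, rfl⟩ := hsurj x
    rw [← IsScalarTower.algebraMap_apply, IsScalarTower.algebraMap_apply A₀ B₀ (B₀ ⧸ 𝔓),
      Ideal.Quotient.algebraMap_eq, Ideal.Quotient.eq_zero_iff_mem, h𝔓] at hx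
    obtain ⟨k, hk⟩ := hx
    by_contra hne
    have hne' : algebraMap A (FractionRing A) (algebraMap A₀ A x₀) ≠ 0 := by
      rwa [Ne, map_eq_zero_iff _ hinjK]
    have h1 : (algebraMap A₀ B₀ x₀) ⊗ₜ[A₀] (1 : FractionRing A) =
        (1 : B₀) ⊗ₜ[A₀] (algebraMap A (FractionRing A) (algebraMap A₀ A x₀)) := by
      rw [Algebra.algebraMap_eq_smul_one, TensorProduct.smul_tmul, Algebra.smul_def, mul_one,
        ← IsScalarTower.algebraMap_apply]
    rw [h1, Algebra.TensorProduct.tmul_pow, one_pow] at hk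
    have h2 : (1 : B₀) ⊗ₜ[A₀] (1 : FractionRing A) = 0 := by
      have h3 := congrArg (fun z => z * ((1 : B₀) ⊗ₜ[A₀]
        ((algebraMap A (FractionRing A) (algebraMap A₀ A x₀))⁻¹ ^ k))) hk
      simp only [Algebra.TensorProduct.tmul_mul_tmul, mul_one, zero_mul, ← mul_pow] at h3
      rwa [mul_inv_cancel₀ hne', one_pow] at h3
    exact one_ne_zero (α := B₀ ⊗[A₀] FractionRing A) h2
  -- the hypothesis of the core theorem for domains
  have hD : ∀ (Ω : Type u) [Field Ω] [Algebra A Ω], Function.Injective (algebraMap A Ω) →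
      (nilradical ((B₀ ⧸ 𝔓) ⊗[A] Ω)).IsPrime := by
    intro Ω _ _ hΩ
    letI : Algebra A₀ Ω := Algebra.compHom Ω (algebraMap A₀ A)
    haveI : IsScalarTower A₀ A Ω := IsScalarTower.of_algebraMap_eq (fun x => rfl)
    have hk : RingHom.ker (algebraMap A₀ Ω) = nilradical A₀ := by
      rw [← hkerA]
      ext x
      rw [RingHom.mem_ker, RingHom.mem_ker, IsScalarTower.algebraMap_apply A₀ A Ω,
        map_eq_zero_iff _ hΩ]
    have h1 := h Ω hk
    have hΩ' : Function.Injective (IsScalarTower.toAlgHom A₀ A Ω) := hΩ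
    have h2 : (nilradical ((B₀ ⧸ 𝔓) ⊗[A₀] Ω)).IsPrime := by
      rw [isPrime_nilradical_tensor_iff_of_surjective (Ideal.Quotient.mkₐ A₀ 𝔓)
        (Ideal.Quotient.mkₐ_surjective A₀ 𝔓)]
      · exact h1
      · intro y hy
        rw [RingHom.mem_ker] at hy
        have hy' : Ideal.Quotient.mk 𝔓 y = 0 := hy
        rw [Ideal.Quotient.eq_zero_iff_mem, h𝔓] at hy'
        have := hy'.map (Algebra.TensorProduct.map (AlgHom.id A₀ B₀)
          (IsFractionRing.liftAlgHom (K := FractionRing A) hΩ'))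
        rwa [Algebra.TensorProduct.map_tmul, map_one] at this
    exact (isPrime_nilradical_tensor_iff_of_base_surjective (A₀ := A₀) (A := A) hsurj).mpr h2
  obtain ⟨a₁', ha₁', b', hb', Hcore⟩ := coreD (A := A) (B := B₀ ⧸ 𝔓) hinjAB hD
  obtain ⟨a₁, rfl⟩ := hsurj a₁'
  obtain ⟨b, rfl⟩ := Ideal.Quotient.mk_surjective b'
  obtain ⟨a₂', ha₂', Hnil⟩ := exists_forall_isNilpotent_tmul (A₀ := A₀) (B₀ := B₀) A
  obtain ⟨a₂, rfl⟩ := hsurj a₂'
  refine ⟨a₁ * a₂, ?_, b, ?_⟩
  · intro hmem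
    rw [← hkerA, RingHom.mem_ker, map_mul] at hmem
    exact mul_ne_zero ha₁' ha₂' hmem
  intro B₁ _ _ _ _ _ Ω _ _ haΩ
  -- `Ω` as an `A`-algebra
  have hleΩ : RingHom.ker (algebraMap A₀ A) ≤ RingHom.ker (algebraMap A₀ Ω) := by
    rw [hkerA]
    intro x hx
    rw [RingHom.mem_ker]
    exact ((mem_nilradical.mp hx).map (algebraMap A₀ Ω)).eq_zero
  let ψΩ : A →+* Ω := (algebraMap A₀ A).liftOfSurjective hsurj ⟨algebraMap A₀ Ω, hleΩ⟩
  have hψΩ : ∀ x, ψΩ (algebraMap A₀ A x) = algebraMap A₀ Ω x := fun x =>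
    RingHom.liftOfRightInverse_comp_apply _ _ _ _ x
  letI algAΩ : Algebra A Ω := ψΩ.toAlgebra
  haveI : IsScalarTower A₀ A Ω := IsScalarTower.of_algebraMap_eq (fun x => (hψΩ x).symm)
  have ha₁Ω : algebraMap A Ω (algebraMap A₀ A a₁) ≠ 0 := by
    rw [← IsScalarTower.algebraMap_apply]
    intro h0
    apply haΩ
    rw [map_mul, h0, zero_mul]
  have ha₂Ω : algebraMap A Ω (algebraMap A₀ A a₂) ≠ 0 := by
    rw [← IsScalarTower.algebraMap_apply]
    intro h0
    apply haΩ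
    rw [map_mul, h0, mul_zero]
  -- the localization of `B`
  have h1 : (nilradical (Localization.Away (Ideal.Quotient.mk 𝔓 b) ⊗[A] Ω)).IsPrime :=
    Hcore (Localization.Away (Ideal.Quotient.mk 𝔓 b)) Ω ha₁Ω
  have h2 : (nilradical (Localization.Away (Ideal.Quotient.mk 𝔓 b) ⊗[A₀] Ω)).IsPrime :=
    (isPrime_nilradical_tensor_iff_of_base_surjective (A₀ := A₀) (A := A) hsurj).mp h1
  -- the surjection `B₁ → B_b`
  have hunit : ∀ y : Submonoid.powers b,
      IsUnit (((IsScalarTower.toAlgHom A₀ (B₀ ⧸ 𝔓)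
        (Localization.Away (Ideal.Quotient.mk 𝔓 b))).comp (Ideal.Quotient.mkₐ A₀ 𝔓)) y) := by
    rintro ⟨_, k, rfl⟩
    show IsUnit (algebraMap (B₀ ⧸ 𝔓) (Localization.Away (Ideal.Quotient.mk 𝔓 b))
      (Ideal.Quotient.mk 𝔓 (b ^ k)))
    rw [map_pow, map_pow]
    exact (IsLocalization.Away.algebraMap_isUnit _).pow k
  let π₁ : B₁ →ₐ[A₀] Localization.Away (Ideal.Quotient.mk 𝔓 b) :=
    IsLocalization.liftAlgHom (M := Submonoid.powers b) hunit
  have hπ₁ : ∀ y : B₀, π₁ (algebraMap B₀ B₁ y) =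
      algebraMap (B₀ ⧸ 𝔓) (Localization.Away (Ideal.Quotient.mk 𝔓 b)) (Ideal.Quotient.mk 𝔓 y) :=
    fun y => IsLocalization.lift_eq _ y
  have hπ₁surj : Function.Surjective π₁ := by
    intro z
    obtain ⟨k, y', hy'⟩ := IsLocalization.Away.surj (Ideal.Quotient.mk 𝔓 b) z
    obtain ⟨y, rfl⟩ := Ideal.Quotient.mk_surjective y'
    obtain ⟨v, hv⟩ := (IsLocalization.Away.algebraMap_isUnit (S := B₁) b).pow k
    refine ⟨algebraMap B₀ B₁ y * ↑v⁻¹, ?_⟩
    have hbk : π₁ ((algebraMap B₀ B₁ b) ^ k) =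
        algebraMap (B₀ ⧸ 𝔓) (Localization.Away (Ideal.Quotient.mk 𝔓 b))
          (Ideal.Quotient.mk 𝔓 b) ^ k := by
      rw [map_pow, hπ₁]
    have hu2 : IsUnit (algebraMap (B₀ ⧸ 𝔓) (Localization.Away (Ideal.Quotient.mk 𝔓 b))
        (Ideal.Quotient.mk 𝔓 b) ^ k) := (IsLocalization.Away.algebraMap_isUnit _).pow k
    apply hu2.mul_left_injective
    show π₁ (algebraMap B₀ B₁ y * ↑v⁻¹) * _ = z * _
    rw [hy', ← hbk, ← map_mul, ← hv, mul_assoc, Units.inv_mul, mul_one, hπ₁]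
  have hBinj : Function.Injective
      (algebraMap (B₀ ⧸ 𝔓) (Localization.Away (Ideal.Quotient.mk 𝔓 b))) :=
    IsLocalization.injective _ (powers_le_nonZeroDivisors_of_noZeroDivisors hb')
  rw [← isPrime_nilradical_tensor_iff_of_surjective π₁ hπ₁surj]
  · exact h2
  · intro z hz
    rw [RingHom.mem_ker] at hz
    obtain ⟨k, y, hy⟩ := IsLocalization.Away.surj b z
    have hy0 : Ideal.Quotient.mk 𝔓 y = 0 := by
      apply hBinj
      rw [map_zero, ← hπ₁, ← hy, map_mul, hz, zero_mul]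
    rw [Ideal.Quotient.eq_zero_iff_mem, h𝔓] at hy0
    have hnil := Hnil y hy0 Ω ha₂Ω
    have hnil' : IsNilpotent ((algebraMap B₀ B₁ y) ⊗ₜ[A₀] (1 : Ω)) := by
      have := hnil.map (Algebra.TensorProduct.map (IsScalarTower.toAlgHom A₀ B₀ B₁)
        (AlgHom.id A₀ Ω))
      rwa [Algebra.TensorProduct.map_tmul] at this
    obtain ⟨v, hv⟩ := (IsLocalization.Away.algebraMap_isUnit (S := B₁) b).pow k
    have hzv : z = algebraMap B₀ B₁ y * ↑v⁻¹ := by
      rw [← hy, ← hv, mul_assoc, Units.mul_inv, mul_one]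
    have hz2 : z ⊗ₜ[A₀] (1 : Ω) =
        ((algebraMap B₀ B₁ y) ⊗ₜ[A₀] (1 : Ω)) * ((↑v⁻¹ : B₁) ⊗ₜ[A₀] (1 : Ω)) := by
      rw [Algebra.TensorProduct.tmul_mul_tmul, mul_one, ← hzv]
    rw [hz2]
    exact (Commute.all _ _).isNilpotent_mul_right hnil'

/-- **Generic geometric irreducibility, ring level.** `A₀` a ring with prime nilradical, `B₀` a
finite type `A₀`-algebra such that `B₀ ⊗ Ω` has irreducible spectrum for all fields `Ω` over the
generic point of `A₀`. Then, for suitable `a ∉ nil A₀` and `b ∈ B₀`, the ring `B₀[1/b] ⊗ Ω` has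
irreducible spectrum for every field `Ω` over `A₀` in which `a` is nonzero. -/
theorem core_final (hp : (nilradical A₀).IsPrime)
    (h : ∀ (Ω : Type u) [Field Ω] [Algebra A₀ Ω], RingHom.ker (algebraMap A₀ Ω) = nilradical A₀ →
      (nilradical (B₀ ⊗[A₀] Ω)).IsPrime) :
    ∃ a : A₀, a ∉ nilradical A₀ ∧ ∃ b : B₀, ∀ (B₁ : Type u) [CommRing B₁] [Algebra A₀ B₁]
      [Algebra B₀ B₁] [IsScalarTower A₀ B₀ B₁] [IsLocalization.Away b B₁] (Ω : Type u) [Field Ω]
      [Algebra A₀ Ω], algebraMap A₀ Ω a ≠ 0 → (nilradical (B₁ ⊗[A₀] Ω)).IsPrime := by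
  haveI := hp
  have hkerK : RingHom.ker (algebraMap A₀ (FractionRing (A₀ ⧸ nilradical A₀))) =
      nilradical A₀ := by
    ext x
    rw [RingHom.mem_ker, IsScalarTower.algebraMap_apply A₀ (A₀ ⧸ nilradical A₀)
      (FractionRing (A₀ ⧸ nilradical A₀)),
      map_eq_zero_iff _ (IsFractionRing.injective (A₀ ⧸ nilradical A₀) _),
      Ideal.Quotient.algebraMap_eq, Ideal.Quotient.eq_zero_iff_mem]
  haveI hTK := h (FractionRing (A₀ ⧸ nilradical A₀)) hkerK
  have hnt : Nontrivial (B₀ ⊗[A₀] FractionRing (A₀ ⧸ nilradical A₀)) := by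
    by_contra hcon
    rw [not_nontrivial_iff_subsingleton] at hcon
    apply hTK.ne_top
    rw [Ideal.eq_top_iff_one]
    rw [Subsingleton.elim (1 : B₀ ⊗[A₀] FractionRing (A₀ ⧸ nilradical A₀)) 0]
    exact zero_mem _
  exact core_final_aux (A₀ ⧸ nilradical A₀) Ideal.Quotient.mk_surjective Ideal.mk_ker
    (Ideal.comap (Algebra.TensorProduct.includeLeft :
      B₀ →ₐ[A₀] B₀ ⊗[A₀] FractionRing (A₀ ⧸ nilradical A₀)) (nilradical _))
    (fun y => by rw [Ideal.mem_comap, mem_nilradical]; rfl) hnt h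

end Final

end GeomIrrH8
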