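import Mathlib
import Groth.Agent.Lib.GeomIrr6_helper8
import Groth.Agent.Lib.GeomRedGen5_helper8
import Groth.Agent.Lib.NDFib1_helper8

/-!
# Generic geometric irreducibility, part 7: scheme translation (helper8)
APPEND-ONLY once landed.
-/

set_option autoImplicit false
set_option linter.style.haveILetI false
universe u
open TensorProduct CategoryTheory CategoryTheory.Limits AlgebraicGeometry

namespace GeomIrrH8

open Groth.Agent.Lib.GeomRedGenH4 GeomRedGenH8

section Chart

theorem irreducibleSpace_pullback_iff (R S T : Type u) [CommRing R] [CommRing S] [CommRing T]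
    [Algebra R S] [Algebra R T] :
    IrreducibleSpace ↥(pullback (Spec.map (CommRingCat.ofHom (algebraMap R S)))
      (Spec.map (CommRingCat.ofHom (algebraMap R T)))) ↔ (nilradical (S ⊗[R] T)).IsPrime := by
  rw [← PrimeSpectrum.irreducibleSpace_iff_isPrime_nilradical]
  exact (pullbackSpecIso R S T).hom.homeomorph.irreducibleSpace_iff

theorem chart_core_irr {A₀ B : CommRingCat.{u}} (φ : A₀ ⟶ B) (hφ : φ.hom.FiniteType)
    (hp : (nilradical A₀).IsPrime)
    (h : ∀ (L : Type u) [Field L] (ψ : A₀ ⟶ CommRingCat.of L),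
      RingHom.ker ψ.hom = nilradical A₀ →
      IrreducibleSpace ↥(pullback (Spec.map φ) (Spec.map ψ))) :
    ∃ a : A₀, a ∉ nilradical A₀ ∧ ∃ b : B, ∀ (B₁ : CommRingCat.{u}) (ι : B ⟶ B₁),
      @IsLocalization.Away _ _ b B₁ _ ι.hom.toAlgebra →
      ∀ (L : Type u) [Field L] (ψ : A₀ ⟶ CommRingCat.of L), ψ.hom a ≠ 0 →
      IrreducibleSpace ↥(pullback (Spec.map (φ ≫ ι)) (Spec.map ψ)) := by
  letI algB : Algebra A₀ B := φ.hom.toAlgebra
  haveI : Algebra.FiniteType A₀ B := hφ
  have hφ' : CommRingCat.ofHom (algebraMap A₀ B) = φ := rfl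
  obtain ⟨a, ha, b, H⟩ := core_final (A₀ := A₀) (B₀ := B) hp (fun L _ _ hk => by
    have h1 := h L (CommRingCat.ofHom (algebraMap A₀ L)) hk
    rw [← hφ'] at h1
    exact (irreducibleSpace_pullback_iff A₀ B L).mp h1)
  refine ⟨a, ha, b, fun B₁ ι hloc L _ ψ hne => ?_⟩
  letI algL : Algebra A₀ L := ψ.hom.toAlgebra
  letI algB₁ : Algebra B B₁ := ι.hom.toAlgebra
  letI algAB₁ : Algebra A₀ B₁ := (φ ≫ ι).hom.toAlgebra
  haveI : IsScalarTower A₀ B B₁ := IsScalarTower.of_algebraMap_eq (fun x => rfl)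
  haveI : IsLocalization.Away b B₁ := hloc
  have h2 := H B₁ L hne
  have hψ' : CommRingCat.ofHom (algebraMap A₀ L) = ψ := rfl
  have hι' : CommRingCat.ofHom (algebraMap A₀ B₁) = φ ≫ ι := rfl
  have h3 := (irreducibleSpace_pullback_iff A₀ B₁ L).mpr h2
  rw [hψ', hι'] at h3
  exact h3

end Chart

section Geom

variable {X Y : Scheme.{u}} (f : X ⟶ Y)

/-- `GeometricallyIrreducible` in the form: irreducibility of the pullback to field-valued
points. -/
theorem irreducibleSpace_pullback_of_geomIrr {L : Type u} [Field L]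
    (g : Spec (CommRingCat.of L) ⟶ Y)
    (hgi : GeometricallyIrreducible (f.fiberToSpecResidueField (g (IsLocalRing.closedPoint L)))) :
    IrreducibleSpace ↥(pullback f g) := by
  have hg : Spec.map ((Scheme.SpecToEquivOfField L Y) g).2 ≫
      Y.fromSpecResidueField ((Scheme.SpecToEquivOfField L Y) g).1 = g :=
    (Scheme.SpecToEquivOfField L Y).symm_apply_apply g
  have h1 : IrreducibleSpace ↥(pullback
      (pullback.snd f (Y.fromSpecResidueField ((Scheme.SpecToEquivOfField L Y) g).1))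
      (Spec.map ((Scheme.SpecToEquivOfField L Y) g).2)) :=
    pullback_of_geometrically hgi.geometrically_irreducibleSpace L _
  have h2 : IrreducibleSpace ↥(pullback f (Spec.map ((Scheme.SpecToEquivOfField L Y) g).2 ≫
      Y.fromSpecResidueField ((Scheme.SpecToEquivOfField L Y) g).1)) :=
    (pullbackLeftPullbackSndIso f (Y.fromSpecResidueField _)
      (Spec.map ((Scheme.SpecToEquivOfField L Y) g).2)).hom.homeomorph.irreducibleSpace_iff.mp h1
  exact (pullback.congrHom (f₁ := f) rfl hg).hom.homeomorph.irreducibleSpace_iff.mp h2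

/-- Density in a fibre passes to geometric fibres. -/
theorem dense_preimage_fst {L : Type u} [Field L] (g : Spec (CommRingCat.of L) ⟶ Y)
    (U : Set X)
    (hU : Dense ((f.fiberι (g (IsLocalRing.closedPoint L))) ⁻¹' U)) :
    Dense ((pullback.fst f g) ⁻¹' U) := by
  have hg : Spec.map ((Scheme.SpecToEquivOfField L Y) g).2 ≫
      Y.fromSpecResidueField ((Scheme.SpecToEquivOfField L Y) g).1 = g :=
    (Scheme.SpecToEquivOfField L Y).symm_apply_apply g
  -- the open projection to the fibre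
  have hq : Dense ((pullback.fst
      (pullback.snd f (Y.fromSpecResidueField ((Scheme.SpecToEquivOfField L Y) g).1))
      (Spec.map ((Scheme.SpecToEquivOfField L Y) g).2)) ⁻¹'
        ((f.fiberι (g (IsLocalRing.closedPoint L))) ⁻¹' U)) :=
    hU.preimage (pullback.fst
      (pullback.snd f (Y.fromSpecResidueField ((Scheme.SpecToEquivOfField L Y) g).1))
      (Spec.map ((Scheme.SpecToEquivOfField L Y) g).2)).isOpenMap
  have h2 : Dense ((pullback.fst f (Spec.map ((Scheme.SpecToEquivOfField L Y) g).2 ≫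
      Y.fromSpecResidueField ((Scheme.SpecToEquivOfField L Y) g).1)) ⁻¹' U) := by
    have h3 := hq.preimage (pullbackLeftPullbackSndIso f (Y.fromSpecResidueField _)
      (Spec.map ((Scheme.SpecToEquivOfField L Y) g).2)).inv.isOpenEmbedding.isOpenMap
    have hcomp : (pullbackLeftPullbackSndIso f (Y.fromSpecResidueField
        ((Scheme.SpecToEquivOfField L Y) g).1)
        (Spec.map ((Scheme.SpecToEquivOfField L Y) g).2)).inv ≫ pullback.fst
      (pullback.snd f (Y.fromSpecResidueField ((Scheme.SpecToEquivOfField L Y) g).1))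
      (Spec.map ((Scheme.SpecToEquivOfField L Y) g).2) ≫
        f.fiberι (g (IsLocalRing.closedPoint L)) = pullback.fst f _ := by
      rw [Iso.inv_comp_eq]
      exact (pullbackLeftPullbackSndIso_hom_fst _ _ _).symm
    have key : ∀ z, pullback.fst f (Spec.map ((Scheme.SpecToEquivOfField L Y) g).2 ≫
        Y.fromSpecResidueField ((Scheme.SpecToEquivOfField L Y) g).1) z =
        f.fiberι (g (IsLocalRing.closedPoint L)) (pullback.fst
          (pullback.snd f (Y.fromSpecResidueField ((Scheme.SpecToEquivOfField L Y) g).1))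
          (Spec.map ((Scheme.SpecToEquivOfField L Y) g).2)
          ((pullbackLeftPullbackSndIso f (Y.fromSpecResidueField
            ((Scheme.SpecToEquivOfField L Y) g).1)
            (Spec.map ((Scheme.SpecToEquivOfField L Y) g).2)).inv z)) := by
      intro z
      have h0 := congrArg (fun φ : _ ⟶ X => φ z) hcomp
      simp only [Scheme.Hom.comp_apply] at h0
      exact h0.symm
    have hset : (pullback.fst f (Spec.map ((Scheme.SpecToEquivOfField L Y) g).2 ≫
        Y.fromSpecResidueField ((Scheme.SpecToEquivOfField L Y) g).1)) ⁻¹' U =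
        (pullbackLeftPullbackSndIso f (Y.fromSpecResidueField
            ((Scheme.SpecToEquivOfField L Y) g).1)
            (Spec.map ((Scheme.SpecToEquivOfField L Y) g).2)).inv ⁻¹'
          ((pullback.fst
          (pullback.snd f (Y.fromSpecResidueField ((Scheme.SpecToEquivOfField L Y) g).1))
          (Spec.map ((Scheme.SpecToEquivOfField L Y) g).2)) ⁻¹'
            ((f.fiberι (g (IsLocalRing.closedPoint L))) ⁻¹' U)) := by
      ext z
      simp only [Set.mem_preimage, key z]
    rw [hset]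
    exact h3
  have h4 := h2.preimage (pullback.congrHom (f₁ := f) rfl hg).inv.isOpenEmbedding.isOpenMap
  have hcomp2 : (pullback.congrHom (f₁ := f) rfl hg).inv ≫ pullback.fst f _ =
      pullback.fst f g := by
    rw [pullback.congrHom_inv]
    exact (pullback.lift_fst _ _ _).trans (Category.comp_id _)
  have key2 : ∀ z, pullback.fst f g z = pullback.fst f (Spec.map
      ((Scheme.SpecToEquivOfField L Y) g).2 ≫
      Y.fromSpecResidueField ((Scheme.SpecToEquivOfField L Y) g).1)
      ((pullback.congrHom (f₁ := f) rfl hg).inv z) := by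
    intro z
    have h0 := congrArg (fun φ : _ ⟶ X => φ z) hcomp2
    simp only [Scheme.Hom.comp_apply] at h0
    exact h0.symm
  have hset2 : (pullback.fst f g) ⁻¹' U = (pullback.congrHom (f₁ := f) rfl hg).inv ⁻¹'
      ((pullback.fst f (Spec.map ((Scheme.SpecToEquivOfField L Y) g).2 ≫
      Y.fromSpecResidueField ((Scheme.SpecToEquivOfField L Y) g).1)) ⁻¹' U) := by
    ext z
    simp only [Set.mem_preimage, key2 z]
  rw [hset2]
  exact h4

end Geom

section Main

variable {X Y : Scheme.{u}} (f : X ⟶ Y)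

theorem exists_generic_field (R : CommRingCat.{u}) (hp : (nilradical R).IsPrime) :
    ∃ (L : Type u) (_ : Field L) (ψ : R ⟶ CommRingCat.of L),
      RingHom.ker ψ.hom = nilradical R := by
  haveI := hp
  refine ⟨FractionRing (R ⧸ nilradical R), inferInstance,
    CommRingCat.ofHom (algebraMap R (FractionRing (R ⧸ nilradical R))), ?_⟩
  ext x
  rw [RingHom.mem_ker, CommRingCat.hom_ofHom,
    IsScalarTower.algebraMap_apply R (R ⧸ nilradical R) (FractionRing (R ⧸ nilradical R)),
    map_eq_zero_iff _ (IsFractionRing.injective (R ⧸ nilradical R) _),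
    Ideal.Quotient.algebraMap_eq, Ideal.Quotient.eq_zero_iff_mem]

theorem range_chart' {V : Y.Opens} (hV : IsAffineOpen V) {W : X.Opens}
    (hW : IsAffineOpen W) (e : W ≤ f ⁻¹ᵁ V) {R : CommRingCat.{u}} (ψ : Γ(Y, V) ⟶ R) :
    Set.range (chart' f hV hW e ψ) =
      (pullback.fst f (Spec.map ψ ≫ hV.fromSpec)) ⁻¹' (W : Set X) := by
  have hr := Scheme.Pullback.range_map (f := Spec.map (f.appLE V W e))
    (g := Spec.map ψ) f (Spec.map ψ ≫ hV.fromSpec) hW.fromSpec
    (𝟙 (Spec R)) hV.fromSpec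
    (IsAffineOpen.SpecMap_appLE_fromSpec f hV hW e) (Category.id_comp _).symm
  have h1 : Set.range (chart' f hV hW e ψ) =
      pullback.fst f (Spec.map ψ ≫ hV.fromSpec) ⁻¹' Set.range hW.fromSpec ∩
      pullback.snd f (Spec.map ψ ≫ hV.fromSpec) ⁻¹'
        Set.range (𝟙 (Spec R) : Spec R ⟶ _) := hr
  rw [h1, hW.range_fromSpec]
  ext z
  constructor
  · rintro ⟨h, -⟩
    exact h
  · intro h
    exact ⟨h, ⟨_, rfl⟩⟩

/-- S0419 -/
theorem main0419 [IrreducibleSpace ↑Y] [LocallyOfFiniteType f] [QuasiCompact f]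
    (h : GeometricallyIrreducible (f.fiberToSpecResidueField (genericPoint ↑Y))) :
    ∃ V : Y.Opens, (V : Set ↑Y).Nonempty ∧ GeometricallyIrreducible (f ∣_ V) := by
  classical
  obtain ⟨_, ⟨V₀, hV₀, rfl⟩, hηV₀, -⟩ := Y.isBasis_affineOpens.exists_subset_of_mem_open
    (Set.mem_univ (genericPoint Y)) isOpen_univ
  have hp : (nilradical Γ(Y, V₀)).IsPrime :=
    nilradical_isPrime_of_isAffineOpen hV₀ ⟨_, hηV₀⟩
  -- a point of the generic fibre
  haveI hirrη : IrreducibleSpace ↥(f.fiber (genericPoint Y)) :=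
    GeometricallyIrreducible.irreducibleSpace_of_subsingleton
      (f.fiberToSpecResidueField (genericPoint Y))
  obtain ⟨z₀⟩ : Nonempty ↥(f.fiber (genericPoint Y)) := inferInstance
  have hfx : f (f.fiberι (genericPoint Y) z₀) = genericPoint Y :=
    (f.range_fiberι (genericPoint Y)).le ⟨z₀, rfl⟩
  have hxV : f.fiberι (genericPoint Y) z₀ ∈ ((f ⁻¹ᵁ V₀ : X.Opens) : Set X) := by
    show f (f.fiberι (genericPoint Y) z₀) ∈ V₀
    rw [hfx]
    exact hηV₀
  obtain ⟨_, ⟨W, hW, rfl⟩, hxW, hWV⟩ := X.isBasis_affineOpens.exists_subset_of_mem_open hxV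
    (f ⁻¹ᵁ V₀).isOpen
  have e : W ≤ f ⁻¹ᵁ V₀ := SetLike.coe_subset_coe.mp hWV
  have hft : (f.appLE V₀ W e).hom.FiniteType :=
    HasRingHomProperty.appLE @LocallyOfFiniteType f inferInstance ⟨V₀, hV₀⟩ ⟨W, hW⟩ e
  -- the generic hypothesis
  have hXirr : ∀ (L : Type u) [Field L] (ψ : Γ(Y, V₀) ⟶ CommRingCat.of L),
      RingHom.ker ψ.hom = nilradical Γ(Y, V₀) →
      IrreducibleSpace ↥(pullback f (Spec.map ψ ≫ hV₀.fromSpec)) := by
    intro L _ ψ hk
    apply irreducibleSpace_pullback_of_geomIrr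
    rw [fromSpec_eq_genericPoint hV₀ ψ hk]
    exact h
  have hgen : ∀ (L : Type u) [Field L] (ψ : Γ(Y, V₀) ⟶ CommRingCat.of L),
      RingHom.ker ψ.hom = nilradical Γ(Y, V₀) →
      IrreducibleSpace ↥(pullback (Spec.map (f.appLE V₀ W e)) (Spec.map ψ)) := by
    intro L _ ψ hk
    haveI := hXirr L ψ hk
    have hxr : f.fiberι (genericPoint Y) z₀ ∈
        Set.range (pullback.fst f (Spec.map ψ ≫ hV₀.fromSpec)) := by
      rw [Scheme.Pullback.range_fst]
      exact ⟨IsLocalRing.closedPoint L, by rw [fromSpec_eq_genericPoint hV₀ ψ hk, hfx]⟩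
    obtain ⟨z, hz⟩ := hxr
    obtain ⟨p, -⟩ := mem_range_chart' f hV₀ hW e ψ z (by rw [hz]; exact hxW)
    haveI : Nonempty ↥(pullback (Spec.map (f.appLE V₀ W e)) (Spec.map ψ)) := ⟨p⟩
    exact (chart' f hV₀ hW e ψ).isOpenEmbedding.irreducibleSpace
  obtain ⟨a, ha, b, Hcore⟩ := chart_core_irr (f.appLE V₀ W e) hft hp hgen
  -- the open `U = D(b)`
  have hU : IsAffineOpen (X.basicOpen b) := hW.basicOpen b
  have eU : X.basicOpen b ≤ f ⁻¹ᵁ V₀ := (X.basicOpen_le b).trans e
  have hUirr : ∀ (L : Type u) [Field L] (ψ : Γ(Y, V₀) ⟶ CommRingCat.of L), ψ.hom a ≠ 0 →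
      IrreducibleSpace ↥(pullback (Spec.map (f.appLE V₀ (X.basicOpen b) eU)) (Spec.map ψ)) := by
    intro L _ ψ hne
    have h1 := Hcore Γ(X, X.basicOpen b) (X.presheaf.map (homOfLE (X.basicOpen_le b)).op)
      (hW.isLocalization_of_eq_basicOpen b (homOfLE (X.basicOpen_le b)) rfl) L ψ hne
    rwa [Scheme.Hom.appLE_map] at h1
  -- the generic fibre meets `U`
  obtain ⟨L₀, _, ψ₀, hk₀⟩ := exists_generic_field Γ(Y, V₀) hp
  have hne₀ : ψ₀.hom a ≠ 0 := by
    intro h0
    apply ha
    rw [← hk₀]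
    exact h0
  have hUη : ((f.fiberι (genericPoint Y)) ⁻¹' (X.basicOpen b : Set X)).Nonempty := by
    haveI := hUirr L₀ ψ₀ hne₀
    obtain ⟨p⟩ : Nonempty ↥(pullback (Spec.map (f.appLE V₀ (X.basicOpen b) eU))
      (Spec.map ψ₀)) := inferInstance
    have hz : chart' f hV₀ hU eU ψ₀ p ∈ Set.range (chart' f hV₀ hU eU ψ₀) := ⟨p, rfl⟩
    rw [range_chart'] at hz
    have hz2 : pullback.fst f (Spec.map ψ₀ ≫ hV₀.fromSpec) (chart' f hV₀ hU eU ψ₀ p) ∈
        Set.range (pullback.fst f (Spec.map ψ₀ ≫ hV₀.fromSpec)) := ⟨_, rfl⟩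
    rw [Scheme.Pullback.range_fst] at hz2
    obtain ⟨s, hs⟩ := hz2
    have hs' : f (pullback.fst f (Spec.map ψ₀ ≫ hV₀.fromSpec) (chart' f hV₀ hU eU ψ₀ p)) =
        genericPoint Y := by
      rw [← hs, Subsingleton.elim s (IsLocalRing.closedPoint L₀),
        fromSpec_eq_genericPoint hV₀ ψ₀ hk₀]
    have hmem : pullback.fst f (Spec.map ψ₀ ≫ hV₀.fromSpec) (chart' f hV₀ hU eU ψ₀ p) ∈
        Set.range (f.fiberι (genericPoint Y)) := by
      rw [f.range_fiberι]
      exact hs'
    obtain ⟨w, hw⟩ := hmem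
    exact ⟨w, by rw [Set.mem_preimage, hw]; exact hz⟩
  -- nowhere density of the complement on the generic fibre
  have hZ : IsClosed ((X.basicOpen b : Set X)ᶜ) := (X.basicOpen b).isOpen.isClosed_compl
  have hZη : IsNowhereDense ((f.fiberι (genericPoint Y)) ⁻¹' (X.basicOpen b : Set X)ᶜ) := by
    have hcl : IsClosed ((f.fiberι (genericPoint Y)) ⁻¹' (X.basicOpen b : Set X)ᶜ) :=
      hZ.preimage (f.fiberι (genericPoint Y)).continuous
    rw [hcl.isNowhereDense_iff]
    by_contra hne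
    have hne' : (interior ((f.fiberι (genericPoint Y)) ⁻¹' (X.basicOpen b : Set X)ᶜ)).Nonempty :=
      Set.nonempty_iff_ne_empty.mpr hne
    have hopen : IsOpen ((f.fiberι (genericPoint Y)) ⁻¹' (X.basicOpen b : Set X)) :=
      (X.basicOpen b).isOpen.preimage (f.fiberι (genericPoint Y)).continuous
    obtain ⟨w, hw1, hw2⟩ := nonempty_preirreducible_inter isOpen_interior hopen hne' hUη
    exact (interior_subset hw1) hw2
  obtain ⟨V₁, hV₁ne, hV₁⟩ := NDFibH8.main1298 f _ hZ hZη
  -- the open `V`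
  have hbasic : ((Y.basicOpen a : Y.Opens) : Set Y).Nonempty := by
    have hx : (⟨nilradical Γ(Y, V₀), hp⟩ : PrimeSpectrum Γ(Y, V₀)) ∈
        PrimeSpectrum.basicOpen a := ha
    rw [← hV₀.fromSpec_preimage_basicOpen] at hx
    exact ⟨_, hx⟩
  refine ⟨V₁ ⊓ Y.basicOpen a, ?_, ?_⟩
  · exact nonempty_preirreducible_inter V₁.isOpen (Y.basicOpen a).isOpen hV₁ne hbasic
  · rw [GeometricallyIrreducible.eq_geometrically, geometrically_iff_of_isClosedUnderIsomorphisms]
    intro K _ t
    have hsq : IsPullback (pullback.fst (f ∣_ (V₁ ⊓ Y.basicOpen a)) t ≫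
        (f ⁻¹ᵁ (V₁ ⊓ Y.basicOpen a)).ι)
        (pullback.snd (f ∣_ (V₁ ⊓ Y.basicOpen a)) t) f (t ≫ (V₁ ⊓ Y.basicOpen a).ι) :=
      (IsPullback.of_hasPullback (f ∣_ (V₁ ⊓ Y.basicOpen a)) t).paste_horiz
        (isPullback_morphismRestrict f (V₁ ⊓ Y.basicOpen a)).flip
    have hgV : ∀ z, (t ≫ (V₁ ⊓ Y.basicOpen a).ι) z ∈ V₀ := fun z => by
      rw [Scheme.Hom.comp_apply]
      exact Y.basicOpen_le a (t z).2.2
    obtain ⟨ψ, hψ⟩ := exists_factor hV₀ (t ≫ (V₁ ⊓ Y.basicOpen a).ι) hgV
    have hne : ψ.hom a ≠ 0 := by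
      intro h0
      have hx : Spec.map ψ (IsLocalRing.closedPoint K) ∈ hV₀.fromSpec ⁻¹ᵁ Y.basicOpen a := by
        show hV₀.fromSpec (Spec.map ψ (IsLocalRing.closedPoint K)) ∈ Y.basicOpen a
        rw [← Scheme.Hom.comp_apply, hψ, Scheme.Hom.comp_apply]
        exact (t (IsLocalRing.closedPoint K)).2.2
      rw [hV₀.fromSpec_preimage_basicOpen] at hx
      apply hx
      show a ∈ Ideal.comap ψ.hom (IsLocalRing.maximalIdeal K)
      rw [Ideal.mem_comap, h0]
      exact Ideal.zero_mem _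
    have hyV₁ : (Spec.map ψ ≫ hV₀.fromSpec) (IsLocalRing.closedPoint K) ∈ V₁ := by
      rw [hψ, Scheme.Hom.comp_apply]
      exact (t (IsLocalRing.closedPoint K)).2.1
    -- density
    have hdense : Dense ((pullback.fst f (Spec.map ψ ≫ hV₀.fromSpec)) ⁻¹'
        (X.basicOpen b : Set X)) := by
      apply dense_preimage_fst
      have hnd := hV₁ _ hyV₁
      have hcl : IsClosed ((f.fiberι ((Spec.map ψ ≫ hV₀.fromSpec) (IsLocalRing.closedPoint K)))
          ⁻¹' (X.basicOpen b : Set X)ᶜ) := hZ.preimage (f.fiberι _).continuous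
      rw [hcl.isNowhereDense_iff, interior_eq_empty_iff_dense_compl] at hnd
      rwa [← Set.preimage_compl, compl_compl] at hnd
    haveI := hUirr K ψ hne
    have hirr : IsIrreducible (Set.range (chart' f hV₀ hU eU ψ)) := by
      rw [← Set.image_univ]
      exact (IrreducibleSpace.isIrreducible_univ _).image _
        (chart' f hV₀ hU eU ψ).continuous.continuousOn
    rw [range_chart'] at hirr
    have hirr2 := hirr.closure
    rw [hdense.closure_eq] at hirr2
    haveI : IrreducibleSpace ↥(pullback f (Spec.map ψ ≫ hV₀.fromSpec)) :=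
      (irreducibleSpace_def _).mpr hirr2
    haveI : IrreducibleSpace ↥(pullback f (t ≫ (V₁ ⊓ Y.basicOpen a).ι)) := by
      rw [← hψ]
      infer_instance
    exact hsq.isoPullback.hom.homeomorph.irreducibleSpace_iff.mpr inferInstance

end Main

end GeomIrrH8
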