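import Mathlib
import Groth.Agent.Lib.GeomIrr7_helper8

/-!
# Generic geometric connectedness, part A: general lemmas on geometric fibres (helper8)
APPEND-ONLY once landed.
-/

set_option autoImplicit false
set_option linter.style.haveILetI false
universe u
open CategoryTheory CategoryTheory.Limits AlgebraicGeometry

namespace GeomConnH8

section Geom

variable {X Y : Scheme.{u}} (f : X ⟶ Y)

/-- `geometrically P` on the fibre gives `P` of the pullback to field-valued points. -/
theorem pullback_of_geometrically_fiber (P : ObjectProperty Scheme.{u})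
    [P.IsClosedUnderIsomorphisms] {L : Type u} [Field L]
    (g : Spec (CommRingCat.of L) ⟶ Y)
    (hgi : geometrically P (f.fiberToSpecResidueField (g (IsLocalRing.closedPoint L)))) :
    P (pullback f g) := by
  have hg : Spec.map ((Scheme.SpecToEquivOfField L Y) g).2 ≫
      Y.fromSpecResidueField ((Scheme.SpecToEquivOfField L Y) g).1 = g :=
    (Scheme.SpecToEquivOfField L Y).symm_apply_apply g
  have h1 : P (pullback
      (pullback.snd f (Y.fromSpecResidueField ((Scheme.SpecToEquivOfField L Y) g).1))
      (Spec.map ((Scheme.SpecToEquivOfField L Y) g).2)) :=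
    pullback_of_geometrically hgi L _
  have h2 : P (pullback f (Spec.map ((Scheme.SpecToEquivOfField L Y) g).2 ≫
      Y.fromSpecResidueField ((Scheme.SpecToEquivOfField L Y) g).1)) :=
    P.prop_of_iso (pullbackLeftPullbackSndIso f (Y.fromSpecResidueField _)
      (Spec.map ((Scheme.SpecToEquivOfField L Y) g).2)) h1
  exact P.prop_of_iso (pullback.congrHom (f₁ := f) rfl hg) h2

/-- Converse: `P` of all pullbacks to field-valued points at `y` gives `geometrically P` on the
fibre. -/
theorem geometrically_fiber_of_forall (P : ObjectProperty Scheme.{u})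
    [P.IsClosedUnderIsomorphisms] (y : Y)
    (h : ∀ (K : Type u) [Field K] (t : Spec (CommRingCat.of K) ⟶ Y),
      t (IsLocalRing.closedPoint K) = y → P (pullback f t)) :
    geometrically P (f.fiberToSpecResidueField y) := by
  rw [geometrically_iff_of_isClosedUnderIsomorphisms]
  intro K _ t'
  have h1 : P (pullback f (t' ≫ Y.fromSpecResidueField y)) := by
    apply h
    rw [Scheme.Hom.comp_apply]
    exact Scheme.fromSpecResidueField_apply _ _
  exact P.prop_of_iso (pullbackLeftPullbackSndIso f (Y.fromSpecResidueField y) t').symm h1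

/-- `geometrically P` of a restriction to an open, in terms of field-valued points. -/
theorem geometrically_restrict_iff (P : ObjectProperty Scheme.{u})
    [P.IsClosedUnderIsomorphisms] (V : Y.Opens) :
    geometrically P (f ∣_ V) ↔
      ∀ (K : Type u) [Field K] (t : Spec (CommRingCat.of K) ⟶ Y),
        t (IsLocalRing.closedPoint K) ∈ V → P (pullback f t) := by
  rw [geometrically_iff_of_isClosedUnderIsomorphisms]
  have hsq : ∀ (K : Type u) [Field K] (t : Spec (CommRingCat.of K) ⟶ V.toScheme),
      IsPullback (pullback.fst (f ∣_ V) t ≫ (f ⁻¹ᵁ V).ι)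
        (pullback.snd (f ∣_ V) t) f (t ≫ V.ι) := fun K _ t =>
    (IsPullback.of_hasPullback (f ∣_ V) t).paste_horiz
      (isPullback_morphismRestrict f V).flip
  constructor
  · intro h K _ t ht
    have hrange : Set.range t ⊆ Set.range V.ι := by
      rintro _ ⟨z, rfl⟩
      rw [Subsingleton.elim z (IsLocalRing.closedPoint K), Scheme.Opens.range_ι]
      exact ht
    have hfac : IsOpenImmersion.lift V.ι t hrange ≫ V.ι = t := IsOpenImmersion.lift_fac _ _ _
    have h1 := h K (IsOpenImmersion.lift V.ι t hrange)
    have h2 := P.prop_of_iso (hsq K (IsOpenImmersion.lift V.ι t hrange)).isoPullback h1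
    exact P.prop_of_iso (pullback.congrHom (f₁ := f) rfl hfac) h2
  · intro h K _ t
    have h1 : P (pullback f (t ≫ V.ι)) := by
      apply h
      rw [Scheme.Hom.comp_apply]
      exact (t (IsLocalRing.closedPoint K)).2
    exact P.prop_of_iso (hsq K t).isoPullback.symm h1

end Geom

section Top

theorem _root_.Homeomorph.isIrreducible_preimage_iff' {A B : Type*} [TopologicalSpace A]
    [TopologicalSpace B] (e : A ≃ₜ B) (S : Set B) :
    IsIrreducible (e ⁻¹' S) ↔ IsIrreducible S := by
  constructor
  · intro h
    have := h.image e e.continuous.continuousOn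
    rwa [e.image_preimage] at this
  · intro h
    have := h.image e.symm e.symm.continuous.continuousOn
    rwa [e.image_symm] at this

theorem irreducibleSpace_iff_isIrreducible_range {A B : Type*} [TopologicalSpace A]
    [TopologicalSpace B] {e : A → B} (he : Topology.IsEmbedding e) :
    IrreducibleSpace A ↔ IsIrreducible (Set.range e) := by
  constructor
  · intro h
    rw [← Set.image_univ]
    exact (IrreducibleSpace.isIrreducible_univ A).image e he.continuous.continuousOn
  · intro h
    haveI := Subtype.irreducibleSpace h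
    exact he.toHomeomorph.irreducibleSpace_iff.mpr inferInstance

end Top

section Geom2

variable {X Y : Scheme.{u}} (f : X ⟶ Y)

theorem isIrreducible_preimage_iff_of_isPullback {P T : Scheme.{u}} {a : P ⟶ X} {b : P ⟶ T}
    {t : T ⟶ Y} (sq : IsPullback a b f t) (Z : Set X) :
    IsIrreducible (a ⁻¹' Z) ↔ IsIrreducible ((pullback.fst f t) ⁻¹' Z) := by
  have h1 : a ⁻¹' Z = sq.isoPullback.hom.homeomorph ⁻¹' ((pullback.fst f t) ⁻¹' Z) := by
    ext z
    show a z ∈ Z ↔ (pullback.fst f t) (sq.isoPullback.hom z) ∈ Z
    rw [← Scheme.Hom.comp_apply, sq.isoPullback_hom_fst]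
  rw [h1]
  exact Homeomorph.isIrreducible_preimage_iff' _ _

theorem range_fst_of_isPullback {P T : Scheme.{u}} {a : P ⟶ X} {b : P ⟶ T}
    {t : T ⟶ Y} (sq : IsPullback a b f t) :
    Set.range a = f ⁻¹' Set.range t := by
  rw [← Scheme.Pullback.range_fst, ← sq.isoPullback_hom_fst, Scheme.Hom.comp_base,
    TopCat.coe_comp, Set.range_comp]
  have h1 : Set.range ⇑sq.isoPullback.hom = Set.univ :=
    sq.isoPullback.hom.homeomorph.surjective.range_eq
  rw [h1, Set.image_univ]

/-- Irreducibility of the base change of a closed subscheme is irreducibility of the preimage of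
the underlying closed set. -/
theorem irreducibleSpace_pullback_comp_iff {Z T : Scheme.{u}} (ι : Z ⟶ X) [IsClosedImmersion ι]
    (t : T ⟶ Y) :
    IrreducibleSpace ↥(pullback (ι ≫ f) t) ↔
      IsIrreducible ((pullback.fst f t) ⁻¹' Set.range ι) := by
  rw [← (pullbackRightPullbackFstIso f t ι).hom.homeomorph.irreducibleSpace_iff,
    ← Scheme.Pullback.range_snd ι (pullback.fst f t)]
  exact irreducibleSpace_iff_isIrreducible_range
    (pullback.snd ι (pullback.fst f t)).isEmbedding

end Geom2

end GeomConnH8
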