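import Mathlib
import Groth.Agent.Lib.GeomIrrComps_helper4

/-!
# Generic geometric connectedness, part B: field level (helper8)
APPEND-ONLY once landed.
-/

set_option autoImplicit false
set_option linter.style.haveILetI false
universe u
open scoped TensorProduct
open CategoryTheory CategoryTheory.Limits AlgebraicGeometry

namespace GeomConnH8

open Groth.Agent.Lib.GeomConnFinH4 Groth.Agent.Lib.GeomIrrCompsH4

local notation:max "sm[" k ", " K "]" => Spec.map (CommRingCat.ofHom (algebraMap k K))

/-- For a scheme of finite type over a field there is a finite extension over which all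
irreducible components are geometrically irreducible. -/
theorem exists_finite_ext_irr {k : Type u} [Field k] {T : Scheme.{u}}
    (f₀ : T ⟶ Spec (CommRingCat.of k)) [LocallyOfFiniteType f₀] [QuasiCompact f₀] :
    ∃ (L : Type u) (_ : Field L) (_ : Algebra k L), FiniteDimensional k L ∧
      ∀ (K : Type u) [Field K] [Algebra L K] (Z' : Set ↥(FBase.bc f₀ L)),
        Z' ∈ irreducibleComponents ↥(FBase.bc f₀ L) →
          IsIrreducible (⇑(FBase.bcπ (FBase.bcStr f₀ L) K) ⁻¹' Z') := by
  haveI : LocallyOfFiniteType (pullback.snd f₀ sm[k, SeparableClosure k]) :=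
    MorphismProperty.pullback_snd _ _ inferInstance
  haveI : QuasiCompact (pullback.snd f₀ sm[k, SeparableClosure k]) :=
    MorphismProperty.pullback_snd _ _ inferInstance
  haveI : IsLocallyNoetherian (pullback f₀ sm[k, SeparableClosure k]) :=
    LocallyOfFiniteType.isLocallyNoetherian (pullback.snd f₀ sm[k, SeparableClosure k])
  haveI : CompactSpace ↥(pullback f₀ sm[k, SeparableClosure k]) :=
    QuasiCompact.compactSpace_of_compactSpace (pullback.snd f₀ sm[k, SeparableClosure k])
  haveI : IsNoetherian (pullback f₀ sm[k, SeparableClosure k]) := {}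
  haveI : Finite ↥(irreducibleComponents ↥(pullback f₀ sm[k, SeparableClosure k])) :=
    TopologicalSpace.NoetherianSpace.finite_irreducibleComponents.to_subtype
  obtain ⟨E, hEfd, hEprop⟩ := exists_field_irr f₀ (SeparableClosure k)
  refine ⟨↥E, inferInstance, inferInstance, hEfd, ?_⟩
  intro K _ _ Z' hZ'
  refine stepB_irr (FBase.bcStr f₀ ↥E) (SeparableClosure k) Z' ?_
  have h0 : IsIrreducible ((Groth.Agent.Lib.BCPointH4.bcMap f₀ ↥E (SeparableClosure k)) ⁻¹' Z') :=
    hEprop Z' hZ'
  have e : (Groth.Agent.Lib.BCPointH4.bcMap f₀ ↥E (SeparableClosure k)) ⁻¹' Z' =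
      (Groth.Agent.Lib.BCPointH4.eBC f₀ ↥E (SeparableClosure k)).hom.homeomorph ⁻¹'
        ((FBase.bcπ (FBase.bcStr f₀ ↥E) (SeparableClosure k)) ⁻¹' Z') := by
    ext z
    show (Groth.Agent.Lib.BCPointH4.bcMap f₀ ↥E (SeparableClosure k)) z ∈ Z' ↔
      (FBase.bcπ (FBase.bcStr f₀ ↥E) (SeparableClosure k))
        ((Groth.Agent.Lib.BCPointH4.eBC f₀ ↥E (SeparableClosure k)).hom z) ∈ Z'
    rw [← Scheme.Hom.comp_apply, Groth.Agent.Lib.BCPointH4.eBC_hom_fst]
  rw [e] at h0
  exact isIrreducible_of_homeomorph_preimage _ h0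

end GeomConnH8
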