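import Mathlib

/-!
# Generic geometric connectedness, part C: a finite type model of a finite field extension (helper8)
APPEND-ONLY once landed.
-/

set_option autoImplicit false
set_option linter.style.haveILetI false
universe u

namespace GeomConnH8

/-- A finite extension `L` of the "fraction field" `k₀` of `A₀` is the fraction field of a finite
type `A₀`-subalgebra. -/
theorem exists_fractionRing_subalgebra (A₀ : Type u) [CommRing A₀] (k₀ : Type u) [Field k₀]
    [Algebra A₀ k₀]
    (hfrac : ∀ x : k₀, ∃ a b : A₀, algebraMap A₀ k₀ b ≠ 0 ∧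
      x = algebraMap A₀ k₀ a / algebraMap A₀ k₀ b)
    (L : Type u) [Field L] [Algebra k₀ L] [Algebra A₀ L] [IsScalarTower A₀ k₀ L]
    [FiniteDimensional k₀ L] :
    ∃ A' : Subalgebra A₀ L, A'.FG ∧
      ∀ z : L, ∃ x y : A', (y : L) ≠ 0 ∧ z = (x : L) / (y : L) := by
  classical
  set b := Module.finBasis k₀ L with hb
  set A' : Subalgebra A₀ L := Algebra.adjoin A₀ (Set.range b) with hA'
  refine ⟨A', ⟨(Set.finite_range b).toFinset, by simp [hA']⟩, ?_⟩
  have key : ∀ z : L, ∃ a : A₀, algebraMap A₀ L a ≠ 0 ∧ algebraMap A₀ L a * z ∈ A' := by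
    intro z
    have hz : z ∈ Submodule.span k₀ (Set.range b) := by rw [b.span_eq]; trivial
    induction hz using Submodule.span_induction with
    | mem x hx =>
      exact ⟨1, by simp, by simpa using Algebra.subset_adjoin hx⟩
    | zero => exact ⟨1, by simp, by simp⟩
    | add x y _ _ hx hy =>
      obtain ⟨a, ha, hax⟩ := hx
      obtain ⟨a', ha', hay⟩ := hy
      refine ⟨a * a', by rw [map_mul]; exact mul_ne_zero ha ha', ?_⟩
      have : algebraMap A₀ L (a * a') * (x + y) =
          algebraMap A₀ L a' * (algebraMap A₀ L a * x) +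
            algebraMap A₀ L a * (algebraMap A₀ L a' * y) := by
        rw [map_mul]; ring
      rw [this]
      exact A'.add_mem (A'.mul_mem (A'.algebraMap_mem a') hax)
        (A'.mul_mem (A'.algebraMap_mem a) hay)
    | smul c x _ hx =>
      obtain ⟨a, ha, hax⟩ := hx
      obtain ⟨u, v, hv, rfl⟩ := hfrac c
      have hvL : algebraMap A₀ L v ≠ 0 := by
        rw [IsScalarTower.algebraMap_apply A₀ k₀ L]
        exact (map_ne_zero_iff _ (algebraMap k₀ L).injective).mpr hv
      refine ⟨v * a, by rw [map_mul]; exact mul_ne_zero hvL ha, ?_⟩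
      have : algebraMap A₀ L (v * a) * ((algebraMap A₀ k₀ u / algebraMap A₀ k₀ v) • x) =
          algebraMap A₀ L u * (algebraMap A₀ L a * x) := by
        rw [Algebra.smul_def, map_div₀, ← IsScalarTower.algebraMap_apply A₀ k₀ L,
          ← IsScalarTower.algebraMap_apply A₀ k₀ L, map_mul]
        field_simp
      rw [this]
      exact A'.mul_mem (A'.algebraMap_mem u) hax
  intro z
  obtain ⟨a, ha, haz⟩ := key z
  refine ⟨⟨_, haz⟩, ⟨_, A'.algebraMap_mem a⟩, ha, ?_⟩
  show z = (algebraMap A₀ L a * z) / algebraMap A₀ L a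
  field_simp

theorem exists_model (A₀ : Type u) [CommRing A₀] (k₀ : Type u) [Field k₀]
    [Algebra A₀ k₀]
    (hfrac : ∀ x : k₀, ∃ a b : A₀, algebraMap A₀ k₀ b ≠ 0 ∧
      x = algebraMap A₀ k₀ a / algebraMap A₀ k₀ b)
    (L : Type u) [Field L] [Algebra k₀ L] [Algebra A₀ L] [IsScalarTower A₀ k₀ L]
    [FiniteDimensional k₀ L] :
    ∃ (A' : Type u) (_ : CommRing A') (_ : IsDomain A') (_ : Algebra A₀ A') (_ : Algebra A' L),
      IsScalarTower A₀ A' L ∧ Algebra.FiniteType A₀ A' ∧ IsFractionRing A' L := by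
  obtain ⟨A', hfg, hsurj⟩ := exists_fractionRing_subalgebra A₀ k₀ hfrac L
  refine ⟨↥A', inferInstance, inferInstance, inferInstance, inferInstance, inferInstance,
    (Subalgebra.fg_iff_finiteType A').mp hfg, ?_⟩
  haveI : FaithfulSMul ↥A' L :=
    (faithfulSMul_iff_algebraMap_injective ↥A' L).mpr Subtype.val_injective
  apply IsFractionRing.of_field
  intro z
  obtain ⟨x, y, -, hz⟩ := hsurj z
  exact ⟨x, y, hz⟩

theorem fractionRing_quotient_nilradical_surj (A₀ : Type u) [CommRing A₀]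
    [(nilradical A₀).IsPrime] :
    ∀ x : FractionRing (A₀ ⧸ nilradical A₀), ∃ a b : A₀,
      algebraMap A₀ (FractionRing (A₀ ⧸ nilradical A₀)) b ≠ 0 ∧
      x = algebraMap A₀ (FractionRing (A₀ ⧸ nilradical A₀)) a /
        algebraMap A₀ (FractionRing (A₀ ⧸ nilradical A₀)) b := by
  intro x
  obtain ⟨a', b', hb', rfl⟩ := IsFractionRing.div_surjective (A := A₀ ⧸ nilradical A₀) x
  obtain ⟨a, rfl⟩ := Ideal.Quotient.mk_surjective a'
  obtain ⟨b, rfl⟩ := Ideal.Quotient.mk_surjective b'
  refine ⟨a, b, ?_, ?_⟩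
  · rw [IsScalarTower.algebraMap_apply A₀ (A₀ ⧸ nilradical A₀)
      (FractionRing (A₀ ⧸ nilradical A₀)), Ideal.Quotient.algebraMap_eq]
    exact IsFractionRing.to_map_ne_zero_of_mem_nonZeroDivisors hb'
  · rw [IsScalarTower.algebraMap_apply A₀ (A₀ ⧸ nilradical A₀)
      (FractionRing (A₀ ⧸ nilradical A₀)),
      IsScalarTower.algebraMap_apply A₀ (A₀ ⧸ nilradical A₀)
      (FractionRing (A₀ ⧸ nilradical A₀)), Ideal.Quotient.algebraMap_eq]

end GeomConnH8
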