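import Mathlib
import Groth.Agent.Lib.GeomConnA_helper8
import Groth.Agent.Lib.GeomConnB_helper8
import Groth.Agent.Lib.GeomConnC_helper8
import Groth.Agent.S1299
import Groth.Agent.S4585

/-!
# Generic geometric connectedness, part D: decomposition of the generic fibre (helper8)
APPEND-ONLY once landed.
-/

set_option autoImplicit false
set_option linter.style.haveILetI false
universe u
open scoped TensorProduct
open CategoryTheory CategoryTheory.Limits AlgebraicGeometry

namespace GeomConnH8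

open Groth.Agent.Lib.GeomRedGenH4 GeomRedGenH8 GeomIrrH8

section D1

variable {X' Y' : Scheme.{u}} (f' : X' ⟶ Y')

/-- Closures of geometrically irreducible closed subsets of a "generic fibre". -/
theorem isIrreducible_preimage_closure_image {L : Type u} [Field L]
    (s : Spec (CommRingCat.of L) ⟶ Y') [IsPreimmersion s] {T : Scheme.{u}}
    (h : T ⟶ Spec (CommRingCat.of L)) (p : T ⟶ X') (sq : IsPullback p h f' s)
    (W : Set T) (hW : IsClosed W)
    (hgi : ∀ (K : Type u) [Field K] (φ : CommRingCat.of L ⟶ CommRingCat.of K),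
      IsIrreducible ((pullback.fst h (Spec.map φ)) ⁻¹' W))
    (K : Type u) [Field K] (φ : CommRingCat.of L ⟶ CommRingCat.of K) :
    IsIrreducible ((pullback.fst f' (Spec.map φ ≫ s)) ⁻¹' closure (p '' W)) := by
  haveI : IsPreimmersion p :=
    MorphismProperty.of_isPullback (P := @IsPreimmersion) sq.flip inferInstance
  have hpre : p ⁻¹' closure (p '' W) = W := by
    rw [← p.isEmbedding.isInducing.closure_eq_preimage_closure_image, hW.closure_eq]
  have sq2 : IsPullback (pullback.fst h (Spec.map φ) ≫ p) (pullback.snd h (Spec.map φ)) f'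
      (Spec.map φ ≫ s) :=
    (IsPullback.of_hasPullback h (Spec.map φ)).paste_horiz sq
  rw [← isIrreducible_preimage_iff_of_isPullback f' sq2]
  have : (pullback.fst h (Spec.map φ) ≫ p) ⁻¹' closure (p '' W) =
      (pullback.fst h (Spec.map φ)) ⁻¹' W := by
    conv_rhs => rw [← hpre]
    rfl
  rw [this]
  exact hgi K φ

end D1

section Frac

variable (A' : Type u) [CommRing A'] [IsDomain A'] (L : Type u) [Field L] [Algebra A' L]
  [IsFractionRing A' L]

theorem specMap_closedPoint_eq_genericPoint :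
    Spec.map (CommRingCat.ofHom (algebraMap A' L)) (IsLocalRing.closedPoint L) =
      genericPoint ↥(Spec (CommRingCat.of A')) := by
  rw [genericPoint_eq_bot_of_affine]
  apply PrimeSpectrum.ext
  show Ideal.comap (algebraMap A' L) (IsLocalRing.maximalIdeal L) = ⊥
  rw [IsLocalRing.maximalIdeal_eq_bot, ← RingHom.ker_eq_comap_bot,
    (RingHom.injective_iff_ker_eq_bot _).mp (IsFractionRing.injective A' L)]

theorem exists_factor_fractionRing (K : Type u) [Field K]
    (t : Spec (CommRingCat.of K) ⟶ Spec (CommRingCat.of A'))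
    (ht : t (IsLocalRing.closedPoint K) = genericPoint ↥(Spec (CommRingCat.of A'))) :
    ∃ φ : CommRingCat.of L ⟶ CommRingCat.of K,
      Spec.map φ ≫ Spec.map (CommRingCat.ofHom (algebraMap A' L)) = t := by
  have hτ : Spec.map (Spec.preimage t) = t := Spec.map_preimage t
  have hinj : Function.Injective (Spec.preimage t).hom := by
    rw [RingHom.injective_iff_ker_eq_bot]
    have h1 : (Spec.map (Spec.preimage t) (IsLocalRing.closedPoint K)).asIdeal = ⊥ := by
      rw [hτ, ht, genericPoint_eq_bot_of_affine]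
      rfl
    have h2 : (Spec.map (Spec.preimage t) (IsLocalRing.closedPoint K)).asIdeal =
        Ideal.comap (Spec.preimage t).hom (IsLocalRing.maximalIdeal K) := rfl
    rw [h2, IsLocalRing.maximalIdeal_eq_bot, ← RingHom.ker_eq_comap_bot] at h1
    exact h1
  refine ⟨CommRingCat.ofHom (IsFractionRing.lift (K := L) hinj), ?_⟩
  rw [← Spec.map_comp]
  refine Eq.trans ?_ hτ
  congr 1
  ext x
  exact IsFractionRing.lift_algebraMap hinj x

end Frac

section D2a

variable (A' : Type u) [CommRing A'] [IsDomain A'] (L : Type u) [Field L] [Algebra A' L]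
  [IsFractionRing A' L]

theorem exists_decomposition_aux {X' T : Scheme.{u}}
    (f' : X' ⟶ Spec (CommRingCat.of A')) (h : T ⟶ Spec (CommRingCat.of L))
    [LocallyOfFiniteType h] [QuasiCompact h] (p : T ⟶ X')
    (sq : IsPullback p h f' (Spec.map (CommRingCat.ofHom (algebraMap A' L))))
    (hirr : ∀ (K : Type u) [Field K] (φ : CommRingCat.of L ⟶ CommRingCat.of K) (W : Set T),
      W ∈ irreducibleComponents T → IsIrreducible ((pullback.fst h (Spec.map φ)) ⁻¹' W)) :
    ∃ (n : ℕ) (Z : Fin n → Set X'),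
      (∀ j, IsClosed (Z j)) ∧
      f' ⁻¹' {genericPoint ↥(Spec (CommRingCat.of A'))} ⊆ ⋃ j, Z j ∧
      (∀ j (K : Type u) [Field K] (t : Spec (CommRingCat.of K) ⟶ Spec (CommRingCat.of A')),
        t (IsLocalRing.closedPoint K) = genericPoint ↥(Spec (CommRingCat.of A')) →
        IsIrreducible ((pullback.fst f' t) ⁻¹' Z j)) ∧
      (∀ i j, i ≠ j →
        ¬ (Z i ∩ f' ⁻¹' {genericPoint ↥(Spec (CommRingCat.of A'))} ⊆ Z j)) := by
  classical
  haveI hpre : IsPreimmersion (Spec.map (CommRingCat.ofHom (algebraMap A' L))) :=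
    IsPreimmersion.of_isLocalization (nonZeroDivisors A')
  haveI : IsPreimmersion p :=
    MorphismProperty.of_isPullback (P := @IsPreimmersion) sq.flip inferInstance
  haveI : IsLocallyNoetherian T := LocallyOfFiniteType.isLocallyNoetherian h
  haveI : CompactSpace ↥T := QuasiCompact.compactSpace_of_compactSpace h
  haveI : IsNoetherian T := {}
  have hfin : (irreducibleComponents ↥T).Finite :=
    TopologicalSpace.NoetherianSpace.finite_irreducibleComponents
  obtain ⟨n, e, he⟩ := hfin.fin_embedding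
  have hmem : ∀ i, (e i : Set ↥T) ∈ irreducibleComponents ↥T := by
    intro i
    rw [← he]
    exact Set.mem_range_self i
  have hcl : ∀ i, IsClosed (e i) := fun i => isClosed_of_mem_irreducibleComponents _ (hmem i)
  have hcov : ⋃ i, e i = Set.univ := by
    rw [← sUnion_irreducibleComponents (X := ↥T), ← he, Set.sUnion_range]
  have hpreim : ∀ i, p ⁻¹' closure (p '' (e i)) = e i := fun i => by
    rw [← p.isEmbedding.isInducing.closure_eq_preimage_closure_image, (hcl i).closure_eq]
  have hrange : Set.range p = f' ⁻¹' {genericPoint ↥(Spec (CommRingCat.of A'))} := by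
    rw [range_fst_of_isPullback f' sq]
    congr 1
    ext y
    constructor
    · rintro ⟨z, rfl⟩
      rw [Subsingleton.elim z (IsLocalRing.closedPoint L)]
      exact specMap_closedPoint_eq_genericPoint A' L
    · intro hy
      exact ⟨IsLocalRing.closedPoint L, (specMap_closedPoint_eq_genericPoint A' L).trans hy.symm⟩
  refine ⟨n, fun j => closure (p '' (e j)), fun j => isClosed_closure, ?_, ?_, ?_⟩
  · intro x hx
    rw [← hrange] at hx
    obtain ⟨z, rfl⟩ := hx
    have hz : z ∈ ⋃ i, e i := by rw [hcov]; trivial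
    obtain ⟨i, hi⟩ := Set.mem_iUnion.mp hz
    exact Set.mem_iUnion.mpr ⟨i, subset_closure ⟨z, hi, rfl⟩⟩
  · intro j K _ t ht
    obtain ⟨φ, rfl⟩ := exists_factor_fractionRing A' L K t ht
    exact isIrreducible_preimage_closure_image f' _ h p sq (e j) (hcl j)
      (fun K' _ φ' => hirr K' φ' (e j) (hmem j)) K φ
  · intro i j hij hsub
    apply hij
    have h1 : (e i : Set ↥T) ⊆ e j := by
      intro z hz
      rw [← hpreim j]
      apply hsub
      refine ⟨subset_closure ⟨z, hz, rfl⟩, ?_⟩
      rw [← hrange]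
      exact ⟨z, rfl⟩
    have h2 : (e j : Set ↥T) ⊆ e i := (hmem i).2 (hmem j).1 h1
    exact e.injective (Set.Subset.antisymm h1 h2)

end D2a

section D2b

variable {X Y : Scheme.{u}} (f : X ⟶ Y)

local notation:max "sm[" k ", " K "]" => Spec.map (CommRingCat.ofHom (algebraMap k K))

theorem exists_decomposition [IrreducibleSpace ↑Y] [LocallyOfFiniteType f] [QuasiCompact f] :
    ∃ (A' : Type u) (_ : CommRing A') (_ : IsDomain A') (g : Spec (CommRingCat.of A') ⟶ Y)
      (_ : LocallyOfFiniteType g) (n : ℕ) (Z : Fin n → Set ↥(pullback f g)),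
      g (genericPoint ↥(Spec (CommRingCat.of A'))) = genericPoint ↑Y ∧
      (∀ j, IsClosed (Z j)) ∧
      (pullback.snd f g) ⁻¹' {genericPoint ↥(Spec (CommRingCat.of A'))} ⊆ ⋃ j, Z j ∧
      (∀ j (K : Type u) [Field K] (t : Spec (CommRingCat.of K) ⟶ Spec (CommRingCat.of A')),
        t (IsLocalRing.closedPoint K) = genericPoint ↥(Spec (CommRingCat.of A')) →
        IsIrreducible ((pullback.fst (pullback.snd f g) t) ⁻¹' Z j)) ∧
      (∀ i j, i ≠ j →
        ¬ (Z i ∩ (pullback.snd f g) ⁻¹' {genericPoint ↥(Spec (CommRingCat.of A'))} ⊆ Z j)) := by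
  classical
  obtain ⟨_, ⟨V₀, hV₀, rfl⟩, hηV₀, -⟩ := Y.isBasis_affineOpens.exists_subset_of_mem_open
    (Set.mem_univ (genericPoint Y)) isOpen_univ
  have hp : (nilradical Γ(Y, V₀)).IsPrime :=
    nilradical_isPrime_of_isAffineOpen hV₀ ⟨_, hηV₀⟩
  haveI := hp
  -- the generic field
  let k₀ : Type u := FractionRing (Γ(Y, V₀) ⧸ nilradical Γ(Y, V₀))
  let ψ₀ : Γ(Y, V₀) ⟶ CommRingCat.of k₀ := CommRingCat.ofHom (algebraMap Γ(Y, V₀) k₀)
  have hk₀ : RingHom.ker ψ₀.hom = nilradical Γ(Y, V₀) := by
    ext x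
    rw [RingHom.mem_ker, CommRingCat.hom_ofHom,
      IsScalarTower.algebraMap_apply Γ(Y, V₀) (Γ(Y, V₀) ⧸ nilradical Γ(Y, V₀)) k₀,
      map_eq_zero_iff _ (IsFractionRing.injective (Γ(Y, V₀) ⧸ nilradical Γ(Y, V₀)) _),
      Ideal.Quotient.algebraMap_eq, Ideal.Quotient.eq_zero_iff_mem]
  let s₀ : Spec (CommRingCat.of k₀) ⟶ Y := Spec.map ψ₀ ≫ hV₀.fromSpec
  have hs₀ : s₀ (IsLocalRing.closedPoint k₀) = genericPoint Y :=
    fromSpec_eq_genericPoint hV₀ ψ₀ hk₀
  let f₀ : pullback f s₀ ⟶ Spec (CommRingCat.of k₀) := pullback.snd f s₀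
  haveI : LocallyOfFiniteType f₀ := MorphismProperty.pullback_snd _ _ inferInstance
  haveI : QuasiCompact f₀ := MorphismProperty.pullback_snd _ _ inferInstance
  obtain ⟨L, _, _, hfd, hirr⟩ := exists_finite_ext_irr f₀
  letI algL : Algebra Γ(Y, V₀) L :=
    ((algebraMap k₀ L).comp (algebraMap Γ(Y, V₀) k₀)).toAlgebra
  haveI : IsScalarTower Γ(Y, V₀) k₀ L := IsScalarTower.of_algebraMap_eq (fun _ => rfl)
  obtain ⟨A', _, _, _, _, htower, hft, hfr⟩ :=
    exists_model Γ(Y, V₀) k₀ (fractionRing_quotient_nilradical_surj _) L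
  haveI := htower; haveI := hfr
  let φ : Γ(Y, V₀) ⟶ CommRingCat.of A' := CommRingCat.ofHom (algebraMap Γ(Y, V₀) A')
  let g : Spec (CommRingCat.of A') ⟶ Y := Spec.map φ ≫ hV₀.fromSpec
  haveI : LocallyOfFiniteType (Spec.map φ) := by
    rw [HasRingHomProperty.Spec_iff (P := @LocallyOfFiniteType)]
    exact RingHom.finiteType_algebraMap.mpr hft
  haveI : LocallyOfFiniteType g := inferInstance
  -- compatibility
  have hcomp : sm[A', L] ≫ g = sm[k₀, L] ≫ s₀ := by
    show sm[A', L] ≫ Spec.map φ ≫ hV₀.fromSpec = sm[k₀, L] ≫ Spec.map ψ₀ ≫ hV₀.fromSpec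
    rw [← Category.assoc, ← Category.assoc, ← Spec.map_comp, ← Spec.map_comp]
    congr 2
    ext x
    show algebraMap A' L (algebraMap Γ(Y, V₀) A' x) = algebraMap k₀ L (algebraMap Γ(Y, V₀) k₀ x)
    rw [← IsScalarTower.algebraMap_apply, ← IsScalarTower.algebraMap_apply]
  have hgen : g (genericPoint ↥(Spec (CommRingCat.of A'))) = genericPoint ↑Y := by
    rw [← specMap_closedPoint_eq_genericPoint A' L, ← Scheme.Hom.comp_apply, hcomp,
      Scheme.Hom.comp_apply,
      Subsingleton.elim (sm[k₀, L] (IsLocalRing.closedPoint L)) (IsLocalRing.closedPoint k₀)]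
    exact hs₀
  -- the comparison map
  have hcond : (pullback.fst f₀ sm[k₀, L] ≫ pullback.fst f s₀) ≫ f =
      (pullback.snd f₀ sm[k₀, L] ≫ sm[A', L]) ≫ g := by
    rw [Category.assoc, pullback.condition, ← Category.assoc, pullback.condition,
      Category.assoc, Category.assoc, hcomp]
  let p : pullback f₀ sm[k₀, L] ⟶ pullback f g :=
    pullback.lift (pullback.fst f₀ sm[k₀, L] ≫ pullback.fst f s₀)
      (pullback.snd f₀ sm[k₀, L] ≫ sm[A', L]) hcond
  have hbig : IsPullback (pullback.fst f₀ sm[k₀, L] ≫ pullback.fst f s₀)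
      (pullback.snd f₀ sm[k₀, L]) f (sm[k₀, L] ≫ s₀) :=
    (IsPullback.of_hasPullback f₀ sm[k₀, L]).paste_horiz (IsPullback.of_hasPullback f s₀)
  have sq : IsPullback p (pullback.snd f₀ sm[k₀, L]) (pullback.snd f g) sm[A', L] := by
    refine IsPullback.of_right ?_ (pullback.lift_snd _ _ _) (IsPullback.of_hasPullback f g)
    rw [pullback.lift_fst, hcomp]
    exact hbig
  haveI : LocallyOfFiniteType (pullback.snd f₀ sm[k₀, L]) :=
    MorphismProperty.pullback_snd _ _ inferInstance
  haveI : QuasiCompact (pullback.snd f₀ sm[k₀, L]) :=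
    MorphismProperty.pullback_snd _ _ inferInstance
  obtain ⟨n, Z, hZc, hZcov, hZirr, hZne⟩ := exists_decomposition_aux A' L (pullback.snd f g)
    (pullback.snd f₀ sm[k₀, L]) p sq (by
      intro K _ φK W hW
      letI : Algebra L K := φK.hom.toAlgebra
      exact hirr K W hW)
  exact ⟨A', inferInstance, inferInstance, g, inferInstance, n, Z, hgen, hZc, hZcov, hZirr, hZne⟩

end D2b

end GeomConnH8
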