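import Mathlib
import Groth.Agent.Lib.GeomConnD_helper8

/-!
# Generic geometric connectedness, part E: spreading out (helper8)
APPEND-ONLY once landed.
-/

set_option autoImplicit false
set_option linter.style.haveILetI false
universe u
open CategoryTheory CategoryTheory.Limits AlgebraicGeometry

namespace GeomConnH8

open Groth.Agent.Lib.GeomRedGenH4 GeomRedGenH8 GeomIrrH8

section Graph

theorem reflTransGen_of_preconnectedSpace {α : Type*} [TopologicalSpace α] [PreconnectedSpace α]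
    {n : ℕ} (S : Fin n → Set α) (hc : ∀ j, IsClosed (S j)) (hne : ∀ j, (S j).Nonempty)
    (hcov : ⋃ j, S j = Set.univ) (i j : Fin n) :
    Relation.ReflTransGen (fun i j => (S i ∩ S j).Nonempty) i j := by
  classical
  by_contra hcon
  set I : Set (Fin n) := {l | Relation.ReflTransGen (fun i j => (S i ∩ S j).Nonempty) i l}
    with hI
  set A : Set α := ⋃ l ∈ I, S l with hA
  set B : Set α := ⋃ l ∈ Iᶜ, S l with hB
  have hAc : IsClosed A := (Set.toFinite I).isClosed_biUnion (fun l _ => hc l)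
  have hBc : IsClosed B := (Set.toFinite Iᶜ).isClosed_biUnion (fun l _ => hc l)
  have hAB : (Set.univ : Set α) ⊆ A ∪ B := by
    intro x _
    have hx : x ∈ ⋃ j, S j := by rw [hcov]; trivial
    obtain ⟨l, hl⟩ := Set.mem_iUnion.mp hx
    by_cases hlI : l ∈ I
    · exact Or.inl (Set.mem_biUnion hlI hl)
    · exact Or.inr (Set.mem_biUnion (show l ∈ Iᶜ from hlI) hl)
  have hAne : (Set.univ ∩ A).Nonempty := by
    obtain ⟨x, hx⟩ := hne i
    exact ⟨x, trivial, Set.mem_biUnion (show i ∈ I from Relation.ReflTransGen.refl) hx⟩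
  have hBne : (Set.univ ∩ B).Nonempty := by
    obtain ⟨x, hx⟩ := hne j
    exact ⟨x, trivial, Set.mem_biUnion (show j ∈ Iᶜ from hcon) hx⟩
  obtain ⟨x, -, hxA, hxB⟩ := isPreconnected_closed_iff.mp isPreconnected_univ A B hAc hBc hAB
    hAne hBne
  obtain ⟨l, hlI, hxl⟩ := Set.mem_iUnion₂.mp hxA
  obtain ⟨m, hmI, hxm⟩ := Set.mem_iUnion₂.mp hxB
  exact hmI (Relation.ReflTransGen.tail hlI ⟨x, hxl, hxm⟩)

end Graph

section Spread

variable {X' Y' : Scheme.{u}} (f' : X' ⟶ Y')

/-- (C1) a closed subset which is geometrically irreducible over the generic point is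
geometrically irreducible over an open. -/
theorem exists_open_isIrreducible_preimage [IrreducibleSpace ↑Y'] [LocallyOfFiniteType f']
    [QuasiCompact f'] (Z : Set X') (hZ : IsClosed Z)
    (hirr : ∀ (K : Type u) [Field K] (t : Spec (CommRingCat.of K) ⟶ Y'),
      t (IsLocalRing.closedPoint K) = genericPoint ↑Y' →
      IsIrreducible ((pullback.fst f' t) ⁻¹' Z)) :
    ∃ V : Y'.Opens, genericPoint ↑Y' ∈ V ∧
      ∀ (K : Type u) [Field K] (t : Spec (CommRingCat.of K) ⟶ Y'),
        t (IsLocalRing.closedPoint K) ∈ V → IsIrreducible ((pullback.fst f' t) ⁻¹' Z) := by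
  obtain ⟨C, ι, hι, hrange⟩ := ProdGenH8.exists_closedImmersion_range X' Z hZ
  haveI := hι
  have hgi : GeometricallyIrreducible ((ι ≫ f').fiberToSpecResidueField (genericPoint ↑Y')) :=
    ⟨geometrically_fiber_of_forall (ι ≫ f') (IrreducibleSpace ·) _ (fun K _ t ht => by
      rw [irreducibleSpace_pullback_comp_iff f' ι t, hrange]
      exact hirr K t ht)⟩
  obtain ⟨V, hVne, hV⟩ := main0419 (ι ≫ f') hgi
  refine ⟨V, ((genericPoint_spec Y').mem_open_set_iff V.2).2 (by simpa using hVne), ?_⟩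
  intro K _ t ht
  have h1 := (geometrically_restrict_iff (ι ≫ f') (IrreducibleSpace ·) V).mp
    hV.geometrically_irreducibleSpace K t ht
  rw [irreducibleSpace_pullback_comp_iff f' ι t, hrange] at h1
  exact h1

/-- (C2) closed sets covering the generic fibre cover the fibres over an open. -/
theorem exists_open_cover [IrreducibleSpace ↑Y'] [LocallyOfFiniteType f'] [QuasiCompact f']
    {n : ℕ} (Z : Fin n → Set X') (hZ : ∀ j, IsClosed (Z j))
    (hcov : f' ⁻¹' {genericPoint ↑Y'} ⊆ ⋃ j, Z j) :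
    ∃ V : Y'.Opens, genericPoint ↑Y' ∈ V ∧ ∀ y ∈ V, f' ⁻¹' {y} ⊆ ⋃ j, Z j := by
  obtain ⟨V, hVne, hV⟩ := Groth.Agent.S1299.result f'
    (fun j => (f'.fiberι (genericPoint ↑Y')) ⁻¹' Z j)
    (fun j => (hZ j).preimage (f'.fiberι _).continuous) (by
      apply Set.eq_univ_of_univ_subset
      intro w _
      have hw : (f'.fiberι (genericPoint ↑Y')) w ∈ f' ⁻¹' {genericPoint ↑Y'} := by
        rw [← f'.range_fiberι]
        exact ⟨w, rfl⟩
      obtain ⟨j, hj⟩ := Set.mem_iUnion.mp (hcov hw)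
      exact Set.mem_iUnion.mpr ⟨j, hj⟩)
  refine ⟨V, ((genericPoint_spec Y').mem_open_set_iff V.2).2 (by simpa using hVne), ?_⟩
  intro y hy x hx
  rw [← f'.range_fiberι] at hx
  obtain ⟨w, rfl⟩ := hx
  have hw : w ∈ ⋃ i, (f'.fiberι y) ⁻¹' closure ((f'.fiberι (genericPoint ↑Y')) ''
      ((f'.fiberι (genericPoint ↑Y')) ⁻¹' Z i)) := by
    rw [hV y hy]; trivial
  obtain ⟨j, hj⟩ := Set.mem_iUnion.mp hw
  refine Set.mem_iUnion.mpr ⟨j, ?_⟩
  exact closure_minimal (Set.image_preimage_subset _ _) (hZ j) hj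

/-- (C3) a closed subset meeting the generic fibre meets the fibres over an open. -/
theorem exists_open_nonempty [IrreducibleSpace ↑Y'] [LocallyOfFiniteType f']
    (Z : Set X') (hZ : IsClosed Z) (hne : (Z ∩ f' ⁻¹' {genericPoint ↑Y'}).Nonempty) :
    ∃ V : Y'.Opens, genericPoint ↑Y' ∈ V ∧ ∀ y ∈ V, (Z ∩ f' ⁻¹' {y}).Nonempty := by
  obtain ⟨C, ι, hι, hrange⟩ := ProdGenH8.exists_closedImmersion_range X' Z hZ
  haveI := hι
  have h1 : genericPoint ↑Y' ∈ Set.range (ι ≫ f').base := by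
    obtain ⟨x, hxZ, hx⟩ := hne
    rw [← hrange] at hxZ
    obtain ⟨c, rfl⟩ := hxZ
    exact ⟨c, hx⟩
  have h2 := Groth.Agent.S4585.result (ι ≫ f') h1
  refine ⟨⟨interior (Set.range (ι ≫ f').base), isOpen_interior⟩, h2, ?_⟩
  intro y hy
  obtain ⟨c, hc⟩ := interior_subset hy
  refine ⟨ι c, ?_, hc⟩
  rw [← hrange]
  exact ⟨c, rfl⟩

end Spread

section Combine

variable {X' Y' : Scheme.{u}} (f' : X' ⟶ Y')

theorem fst_mem_fiber {K : Type u} [Field K] (t : Spec (CommRingCat.of K) ⟶ Y')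
    (z : ↥(pullback f' t)) :
    pullback.fst f' t z ∈ f' ⁻¹' {t (IsLocalRing.closedPoint K)} := by
  show f' (pullback.fst f' t z) = _
  rw [← Scheme.Hom.comp_apply, pullback.condition, Scheme.Hom.comp_apply,
    Subsingleton.elim (pullback.snd f' t z) (IsLocalRing.closedPoint K)]

theorem exists_fst_eq {K : Type u} [Field K] (t : Spec (CommRingCat.of K) ⟶ Y')
    (x : X') (hx : f' x = t (IsLocalRing.closedPoint K)) :
    ∃ z : ↥(pullback f' t), pullback.fst f' t z = x := by
  have : x ∈ Set.range (pullback.fst f' t) := by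
    rw [Scheme.Pullback.range_fst]
    exact ⟨IsLocalRing.closedPoint K, hx.symm⟩
  exact this

theorem exists_open_structure [IrreducibleSpace ↑Y'] [LocallyOfFiniteType f'] [QuasiCompact f']
    {n : ℕ} (Z : Fin n → Set X') (hZ : ∀ j, IsClosed (Z j))
    (hcov : f' ⁻¹' {genericPoint ↑Y'} ⊆ ⋃ j, Z j)
    (hirr : ∀ j (K : Type u) [Field K] (t : Spec (CommRingCat.of K) ⟶ Y'),
      t (IsLocalRing.closedPoint K) = genericPoint ↑Y' →
      IsIrreducible ((pullback.fst f' t) ⁻¹' Z j)) :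
    ∃ V : Y'.Opens, genericPoint ↑Y' ∈ V ∧
      ∀ (K : Type u) [Field K] (t : Spec (CommRingCat.of K) ⟶ Y'),
        t (IsLocalRing.closedPoint K) ∈ V →
        (∀ j, IsIrreducible ((pullback.fst f' t) ⁻¹' Z j)) ∧
        (⋃ j, (pullback.fst f' t) ⁻¹' Z j = Set.univ) ∧
        (∀ i j, (Z i ∩ Z j ∩ f' ⁻¹' {genericPoint ↑Y'}).Nonempty →
          ((pullback.fst f' t) ⁻¹' Z i ∩ (pullback.fst f' t) ⁻¹' Z j).Nonempty) := by
  classical
  have h1 := fun j => exists_open_isIrreducible_preimage f' (Z j) (hZ j) (hirr j)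
  choose V1 hV1η hV1 using h1
  obtain ⟨V0, hV0η, hV0⟩ := exists_open_cover f' Z hZ hcov
  have hE : ∀ i j, ∃ V : Y'.Opens, genericPoint ↑Y' ∈ V ∧
      ((Z i ∩ Z j ∩ f' ⁻¹' {genericPoint ↑Y'}).Nonempty →
        ∀ y ∈ V, (Z i ∩ Z j ∩ f' ⁻¹' {y}).Nonempty) := by
    intro i j
    by_cases hne : (Z i ∩ Z j ∩ f' ⁻¹' {genericPoint ↑Y'}).Nonempty
    · obtain ⟨V, hVη, hV⟩ := exists_open_nonempty f' (Z i ∩ Z j) ((hZ i).inter (hZ j)) hne
      exact ⟨V, hVη, fun _ => hV⟩
    · exact ⟨⊤, trivial, fun h => absurd h hne⟩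
  choose VE hVEη hVE using hE
  refine ⟨⟨(V0 : Set Y') ∩ (⋂ j, (V1 j : Set Y')) ∩ ⋂ i, ⋂ j, (VE i j : Set Y'),
    (V0.2.inter (isOpen_iInter_of_finite (fun j => (V1 j).2))).inter
      (isOpen_iInter_of_finite (fun i => isOpen_iInter_of_finite (fun j => (VE i j).2)))⟩,
    ⟨⟨hV0η, Set.mem_iInter.mpr hV1η⟩,
      Set.mem_iInter.mpr (fun i => Set.mem_iInter.mpr (hVEη i))⟩, ?_⟩
  rintro K _ t ⟨⟨ht0, ht1⟩, htE⟩
  rw [Set.mem_iInter] at ht1
  refine ⟨fun j => hV1 j K t (ht1 j), ?_, ?_⟩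
  · apply Set.eq_univ_of_univ_subset
    intro z _
    obtain ⟨j, hj⟩ := Set.mem_iUnion.mp (hV0 _ ht0 (fst_mem_fiber f' t z))
    exact Set.mem_iUnion.mpr ⟨j, hj⟩
  · intro i j hne
    have htij : t (IsLocalRing.closedPoint K) ∈ VE i j := by
      have := Set.mem_iInter.mp htE i
      exact Set.mem_iInter.mp this j
    obtain ⟨x, ⟨hxi, hxj⟩, hx⟩ := hVE i j hne _ htij
    obtain ⟨z, rfl⟩ := exists_fst_eq f' t x hx
    exact ⟨z, hxi, hxj⟩

end Combine

section Final

theorem connectedSpace_of_structure {α : Type*} [TopologicalSpace α] {n : ℕ}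
    (S : Fin n → Set α) (hirr : ∀ j, IsIrreducible (S j)) (hcov : ⋃ j, S j = Set.univ)
    (hn : 0 < n)
    (hgraph : ∀ i j, Relation.ReflTransGen (fun i j => (S i ∩ S j).Nonempty) i j) :
    ConnectedSpace α := by
  have h1 : IsPreconnected (⋃ j, S j) :=
    IsPreconnected.iUnion_of_reflTransGen (fun j => (hirr j).isConnected.isPreconnected) hgraph
  rw [hcov] at h1
  haveI : PreconnectedSpace α := ⟨h1⟩
  obtain ⟨x, -⟩ := (hirr ⟨0, hn⟩).nonempty
  exact { toNonempty := ⟨x⟩ }

theorem exists_field_point (Y' : Scheme.{u}) (y : Y') :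
    ∃ (K : Type u) (_ : Field K) (t : Spec (CommRingCat.of K) ⟶ Y'),
      t (IsLocalRing.closedPoint K) = y :=
  ⟨Y'.residueField y, inferInstance, Y'.fromSpecResidueField y,
    Scheme.fromSpecResidueField_apply _ _⟩

theorem exists_lift_point {Y Y' : Scheme.{u}} (g : Y' ⟶ Y) {K : Type u} [Field K]
    (t : Spec (CommRingCat.of K) ⟶ Y) (y' : Y') (hy' : g y' = t (IsLocalRing.closedPoint K)) :
    ∃ (K' : Type u) (_ : Field K') (r : Spec (CommRingCat.of K') ⟶ Spec (CommRingCat.of K))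
      (t' : Spec (CommRingCat.of K') ⟶ Y'),
      t' (IsLocalRing.closedPoint K') = y' ∧ r ≫ t = t' ≫ g := by
  obtain ⟨z, hz1, hz2⟩ := Scheme.Pullback.exists_preimage_pullback
    (f := t) (g := g) (IsLocalRing.closedPoint K) y' hy'.symm
  refine ⟨(pullback t g).residueField z, inferInstance,
    (pullback t g).fromSpecResidueField z ≫ pullback.fst t g,
    (pullback t g).fromSpecResidueField z ≫ pullback.snd t g, ?_, ?_⟩
  · rw [Scheme.Hom.comp_apply, Scheme.fromSpecResidueField_apply]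
    exact hz2
  · rw [Category.assoc, Category.assoc, pullback.condition]

variable {X Y : Scheme.{u}} (f : X ⟶ Y)

theorem connectedSpace_pullback_of_lift {K K' : Type u} [Field K] [Field K']
    (t : Spec (CommRingCat.of K) ⟶ Y) (r : Spec (CommRingCat.of K') ⟶ Spec (CommRingCat.of K))
    (h : ConnectedSpace ↥(pullback f (r ≫ t))) : ConnectedSpace ↥(pullback f t) := by
  haveI : Surjective r := ⟨fun x => ⟨IsLocalRing.closedPoint K', Subsingleton.elim _ _⟩⟩
  haveI : ConnectedSpace ↥(pullback (pullback.snd f t) r) :=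
    (pullbackLeftPullbackSndIso f t r).hom.homeomorph.connectedSpace_iff.mpr h
  exact (pullback.fst (pullback.snd f t) r).surjective.connectedSpace
    (pullback.fst (pullback.snd f t) r).continuous

/-- S0420 -/
theorem main0420 [IrreducibleSpace ↑Y] [LocallyOfFiniteType f] [QuasiCompact f]
    (h : GeometricallyConnected (f.fiberToSpecResidueField (genericPoint ↑Y))) :
    ∃ V : Y.Opens, (V : Set ↑Y).Nonempty ∧ GeometricallyConnected (f ∣_ V) := by
  classical
  obtain ⟨A', _, _, g, _, n, Z, hgen, hZc, hZcov, hZirr, -⟩ := exists_decomposition f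
  haveI : LocallyOfFiniteType (pullback.snd f g) := MorphismProperty.pullback_snd _ _ inferInstance
  haveI : QuasiCompact (pullback.snd f g) := MorphismProperty.pullback_snd _ _ inferInstance
  obtain ⟨V', hV'η, hV'⟩ := exists_open_structure (pullback.snd f g) Z hZc hZcov hZirr
  -- connectedness of pullbacks of `f` at the generic point
  have hconnη : ∀ (K : Type u) [Field K] (t : Spec (CommRingCat.of K) ⟶ Y),
      t (IsLocalRing.closedPoint K) = genericPoint ↑Y → ConnectedSpace ↥(pullback f t) := by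
    intro K _ t ht
    apply pullback_of_geometrically_fiber f (ConnectedSpace ·) t
    rw [ht]
    exact h.geometrically_connectedSpace
  -- the generic graph
  obtain ⟨Kη, _, tη, htη⟩ := exists_field_point (Spec (CommRingCat.of A'))
    (genericPoint ↥(Spec (CommRingCat.of A')))
  have hconn' : ConnectedSpace ↥(pullback (pullback.snd f g) tη) := by
    have h1 : ConnectedSpace ↥(pullback f (tη ≫ g)) := by
      apply hconnη
      rw [Scheme.Hom.comp_apply, htη, hgen]
    exact (pullbackLeftPullbackSndIso f g tη).hom.homeomorph.connectedSpace_iff.mpr h1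
  obtain ⟨hSirr, hScov, -⟩ := hV' Kη tη (by rw [htη]; exact hV'η)
  have hgraphη : ∀ i j, Relation.ReflTransGen
      (fun i j => (Z i ∩ Z j ∩ (pullback.snd f g) ⁻¹'
        {genericPoint ↥(Spec (CommRingCat.of A'))}).Nonempty) i j := by
    intro i j
    have h1 := reflTransGen_of_preconnectedSpace
      (fun j => (pullback.fst (pullback.snd f g) tη) ⁻¹' Z j)
      (fun j => (hZc j).preimage (pullback.fst (pullback.snd f g) tη).continuous)
      (fun j => (hSirr j).nonempty) hScov i j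
    refine Relation.ReflTransGen.mono ?_ i j h1
    rintro a b ⟨z, hza, hzb⟩
    refine ⟨pullback.fst (pullback.snd f g) tη z, ⟨hza, hzb⟩, ?_⟩
    have := fst_mem_fiber (pullback.snd f g) tη z
    rwa [htη] at this
  have hn : 0 < n := by
    obtain ⟨z⟩ : Nonempty ↥(pullback (pullback.snd f g) tη) := inferInstance
    have hz : z ∈ ⋃ j, (pullback.fst (pullback.snd f g) tη) ⁻¹' Z j := by rw [hScov]; trivial
    obtain ⟨j, -⟩ := Set.mem_iUnion.mp hz
    exact j.pos
  -- connectedness over `V'`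
  have hconnV' : ∀ (K : Type u) [Field K] (t : Spec (CommRingCat.of K) ⟶ Spec (CommRingCat.of A')),
      t (IsLocalRing.closedPoint K) ∈ V' → ConnectedSpace ↥(pullback (pullback.snd f g) t) := by
    intro K _ t ht
    obtain ⟨hirr, hcov, hedge⟩ := hV' K t ht
    exact connectedSpace_of_structure _ hirr hcov hn (fun i j =>
      Relation.ReflTransGen.mono (fun a b hab => hedge a b hab) i j (hgraphη i j))
  -- descend to `Y`
  have hrange : genericPoint ↑Y ∈ Set.range (V'.ι ≫ g).base :=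
    ⟨⟨genericPoint ↥(Spec (CommRingCat.of A')), hV'η⟩, hgen⟩
  have hint := Groth.Agent.S4585.result (V'.ι ≫ g) hrange
  refine ⟨⟨interior (Set.range (V'.ι ≫ g).base), isOpen_interior⟩, ⟨_, hint⟩, ?_⟩
  refine ⟨(geometrically_restrict_iff f (ConnectedSpace ·) _).mpr ?_⟩
  intro K _ t ht
  obtain ⟨⟨y', hy'V⟩, hy'⟩ := interior_subset ht
  have hy'' : g y' = t (IsLocalRing.closedPoint K) := hy'
  obtain ⟨K', _, r, t', ht', hcomp⟩ := exists_lift_point g t y' hy''
  apply connectedSpace_pullback_of_lift f t r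
  rw [hcomp]
  haveI := hconnV' K' t' (by rw [ht']; exact hy'V)
  exact (pullbackLeftPullbackSndIso f g t').hom.homeomorph.connectedSpace_iff.mp inferInstance

end Final

end GeomConnH8
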