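import Mathlib
import Groth.Agent.Lib.GeomConnE_helper8
import Groth.Prelude.Def_MoreMor
import Groth.Agent.Lib.CohDev6_helper8

/-!
# Counting geometric irreducible components, part F (helper8)
APPEND-ONLY once landed.
-/

set_option autoImplicit false
set_option linter.style.haveILetI false
universe u
open CategoryTheory CategoryTheory.Limits AlgebraicGeometry

namespace GeomConnH8

open Groth.Agent.Lib.GeomRedGenH4 GeomRedGenH8 GeomIrrH8

section Top

theorem encard_irreducibleComponents_eq_of_homeomorph {α β : Type*} [TopologicalSpace α]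
    [TopologicalSpace β] (e : α ≃ₜ β) :
    (irreducibleComponents α).encard = (irreducibleComponents β).encard :=
  (Set.encard_congr (irreducibleComponentsEquivOfIsPreirreducibleFiber e e.continuous
    e.isOpenMap (fun x => by
      have : e ⁻¹' {x} = {e.symm x} := by
        ext z
        simp only [Set.mem_preimage, Set.mem_singleton_iff]
        exact e.eq_symm_apply.symm
      rw [this]
      exact isIrreducible_singleton.isPreirreducible) e.surjective).toEquiv).symm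

theorem irreducibleComponents_eq_range {α : Type*} [TopologicalSpace α] {n : ℕ}
    (S : Fin n → Set α) (hc : ∀ j, IsClosed (S j)) (hirr : ∀ j, IsIrreducible (S j))
    (hcov : ⋃ j, S j = Set.univ) (hne : ∀ i j, i ≠ j → ¬ S i ⊆ S j) :
    irreducibleComponents α = Set.range S := by
  classical
  have hA : ∀ T : Set α, IsIrreducible T → ∃ j, T ⊆ S j := by
    intro T hT
    obtain ⟨z, hz, hTz⟩ := isIrreducible_iff_sUnion_isClosed.mp hT (Finset.univ.image S)
      (by
        intro z hz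
        obtain ⟨j, -, rfl⟩ := Finset.mem_image.mp hz
        exact hc j)
      (by
        intro x _
        have hx : x ∈ ⋃ j, S j := by rw [hcov]; trivial
        obtain ⟨j, hj⟩ := Set.mem_iUnion.mp hx
        exact Set.mem_sUnion.mpr ⟨S j, by simp, hj⟩)
    obtain ⟨j, -, rfl⟩ := Finset.mem_image.mp hz
    exact ⟨j, hTz⟩
  ext C
  constructor
  · intro hC
    obtain ⟨j, hj⟩ := hA C hC.1
    have : S j ⊆ C := hC.2 (hirr j) hj
    exact ⟨j, Set.Subset.antisymm this hj⟩
  · rintro ⟨j, rfl⟩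
    refine ⟨hirr j, fun T hT hjT => ?_⟩
    obtain ⟨l, hl⟩ := hA T hT
    by_cases hjl : j = l
    · subst hjl; exact hl
    · exact absurd (hjT.trans hl) (hne j l hjl)

theorem encard_irreducibleComponents_eq {α : Type*} [TopologicalSpace α] {n : ℕ}
    (S : Fin n → Set α) (hc : ∀ j, IsClosed (S j)) (hirr : ∀ j, IsIrreducible (S j))
    (hcov : ⋃ j, S j = Set.univ) (hne : ∀ i j, i ≠ j → ¬ S i ⊆ S j) :
    (irreducibleComponents α).encard = n := by
  rw [irreducibleComponents_eq_range S hc hirr hcov hne]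
  have hinj : Function.Injective S := by
    intro i j hij
    by_contra hne'
    exact hne i j hne' hij.le
  rw [← Set.image_univ, hinj.encard_image, Set.encard_univ, ENat.card_eq_coe_fintype_card,
    Fintype.card_fin]

end Top

section KeyN

variable {X Y : Scheme.{u}} (f : X ⟶ Y)

theorem encard_irr_pullback_eq_nGeomIrredComp (y : Y) (K : Type u) [Field K] [IsSepClosed K]
    (φ : Y.residueField y ⟶ CommRingCat.of K) :
    (irreducibleComponents ↥(pullback f (Spec.map φ ≫ Y.fromSpecResidueField y))).encard =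
      MoreMor.nGeomIrredComp f y := by
  letI : Algebra (Y.residueField y) K := φ.hom.toAlgebra
  let lift : SeparableClosure (Y.residueField y) →ₐ[Y.residueField y] K :=
    IsSepClosed.lift
  letI : Algebra (SeparableClosure (Y.residueField y)) K := lift.toRingHom.toAlgebra
  haveI : IsScalarTower (Y.residueField y) (SeparableClosure (Y.residueField y)) K :=
    IsScalarTower.of_algebraMap_eq (fun x => (lift.commutes x).symm)
  have h1 := Groth.Agent.Lib.GeomCompCardH4.card_irr_eq (k := Y.residueField y)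
    (f.fiberToSpecResidueField y) (SeparableClosure (Y.residueField y)) K
  have h2 : (irreducibleComponents ↥(pullback (f.fiberToSpecResidueField y)
      (Spec.map (CommRingCat.ofHom (algebraMap (Y.residueField y) K))))).encard =
      MoreMor.nGeomIrredComp f y := congrArg Cardinal.toENat h1
  rw [← h2]
  exact (encard_irreducibleComponents_eq_of_homeomorph
    (pullbackLeftPullbackSndIso f (Y.fromSpecResidueField y) (Spec.map φ)).hom.homeomorph).symm

theorem encard_irr_pullback_eq_nGeomIrredComp' (K : Type u) [Field K] [IsSepClosed K]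
    (t : Spec (CommRingCat.of K) ⟶ Y) :
    (irreducibleComponents ↥(pullback f t)).encard =
      MoreMor.nGeomIrredComp f (t (IsLocalRing.closedPoint K)) := by
  have hg : Spec.map ((Scheme.SpecToEquivOfField K Y) t).2 ≫
      Y.fromSpecResidueField ((Scheme.SpecToEquivOfField K Y) t).1 = t :=
    (Scheme.SpecToEquivOfField K Y).symm_apply_apply t
  have h1 := encard_irr_pullback_eq_nGeomIrredComp f (t (IsLocalRing.closedPoint K)) K
    ((Scheme.SpecToEquivOfField K Y) t).2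
  rw [← h1]
  exact (encard_irreducibleComponents_eq_of_homeomorph
    (pullback.congrHom (f₁ := f) rfl hg).hom.homeomorph).symm

end KeyN

section Spread2

variable {X' Y' : Scheme.{u}} (f' : X' ⟶ Y')

/-- (C5) non-containment on the generic fibre spreads to an open. -/
theorem exists_open_not_subset [IrreducibleSpace ↑Y'] [LocallyOfFiniteType f']
    (Z₁ Z₂ : Set X') (hZ₁ : IsClosed Z₁) (hZ₂ : IsClosed Z₂)
    (hne : ¬ (Z₁ ∩ f' ⁻¹' {genericPoint ↑Y'} ⊆ Z₂)) :
    ∃ V : Y'.Opens, genericPoint ↑Y' ∈ V ∧ ∀ y ∈ V, ¬ (Z₁ ∩ f' ⁻¹' {y} ⊆ Z₂) := by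
  obtain ⟨C, ι, hι, hrange⟩ := ProdGenH8.exists_closedImmersion_range X' Z₁ hZ₁
  haveI := hι
  let U : C.Opens := ι ⁻¹ᵁ ⟨Z₂ᶜ, hZ₂.isOpen_compl⟩
  have h1 : genericPoint ↑Y' ∈ Set.range (U.ι ≫ ι ≫ f').base := by
    rw [Set.not_subset] at hne
    obtain ⟨x, ⟨hxZ, hx⟩, hx2⟩ := hne
    rw [← hrange] at hxZ
    obtain ⟨c, rfl⟩ := hxZ
    exact ⟨⟨c, hx2⟩, hx⟩
  have h2 := Groth.Agent.S4585.result (U.ι ≫ ι ≫ f') h1
  refine ⟨⟨interior (Set.range (U.ι ≫ ι ≫ f').base), isOpen_interior⟩, h2, ?_⟩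
  intro y hy hsub
  obtain ⟨⟨c, hc2⟩, hc⟩ := interior_subset hy
  have hcy : f' (ι c) = y := hc
  exact hc2 (hsub ⟨hrange ▸ ⟨c, rfl⟩, hcy⟩)

/-- (C6) a closed subset missing the generic fibre misses the fibres over an open. -/
theorem exists_open_empty [IrreducibleSpace ↑Y'] [QuasiCompact f']
    (Z : Set X') (hZ : IsClosed Z) (he : ¬ (Z ∩ f' ⁻¹' {genericPoint ↑Y'}).Nonempty) :
    ∃ V : Y'.Opens, genericPoint ↑Y' ∈ V ∧ ∀ y ∈ V, ¬ (Z ∩ f' ⁻¹' {y}).Nonempty := by
  have h1 := NDFibH8.generic_notMem_closure_image f' Z hZ (fun x hx hfx => he ⟨x, hx, hfx⟩)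
  refine ⟨⟨(closure (f' '' Z))ᶜ, isClosed_closure.isOpen_compl⟩, h1, ?_⟩
  rintro y hy ⟨x, hxZ, hxy⟩
  exact hy (subset_closure ⟨x, hxZ, hxy⟩)

theorem exists_open_structure' [IrreducibleSpace ↑Y'] [LocallyOfFiniteType f'] [QuasiCompact f']
    {n : ℕ} (Z : Fin n → Set X') (hZ : ∀ j, IsClosed (Z j))
    (hcov : f' ⁻¹' {genericPoint ↑Y'} ⊆ ⋃ j, Z j)
    (hirr : ∀ j (K : Type u) [Field K] (t : Spec (CommRingCat.of K) ⟶ Y'),
      t (IsLocalRing.closedPoint K) = genericPoint ↑Y' →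
      IsIrreducible ((pullback.fst f' t) ⁻¹' Z j))
    (hnest : ∀ i j, i ≠ j → ¬ (Z i ∩ f' ⁻¹' {genericPoint ↑Y'} ⊆ Z j)) :
    ∃ V : Y'.Opens, genericPoint ↑Y' ∈ V ∧
      ∀ (K : Type u) [Field K] (t : Spec (CommRingCat.of K) ⟶ Y'),
        t (IsLocalRing.closedPoint K) ∈ V →
        (∀ j, IsIrreducible ((pullback.fst f' t) ⁻¹' Z j)) ∧
        (⋃ j, (pullback.fst f' t) ⁻¹' Z j = Set.univ) ∧
        (∀ i j, (Z i ∩ Z j ∩ f' ⁻¹' {genericPoint ↑Y'}).Nonempty ↔
          ((pullback.fst f' t) ⁻¹' Z i ∩ (pullback.fst f' t) ⁻¹' Z j).Nonempty) ∧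
        (∀ i j, i ≠ j → ¬ ((pullback.fst f' t) ⁻¹' Z i ⊆ (pullback.fst f' t) ⁻¹' Z j)) := by
  classical
  obtain ⟨V0, hV0η, hV0⟩ := exists_open_structure f' Z hZ hcov hirr
  have hN : ∀ i j, ∃ V : Y'.Opens, genericPoint ↑Y' ∈ V ∧
      (i ≠ j → ∀ y ∈ V, ¬ (Z i ∩ f' ⁻¹' {y} ⊆ Z j)) := by
    intro i j
    by_cases hij : i = j
    · exact ⟨⊤, trivial, fun h => absurd hij h⟩
    · obtain ⟨V, hVη, hV⟩ := exists_open_not_subset f' (Z i) (Z j) (hZ i) (hZ j) (hnest i j hij)
      exact ⟨V, hVη, fun _ => hV⟩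
  choose VN hVNη hVN using hN
  have hE : ∀ i j, ∃ V : Y'.Opens, genericPoint ↑Y' ∈ V ∧
      (¬ (Z i ∩ Z j ∩ f' ⁻¹' {genericPoint ↑Y'}).Nonempty →
        ∀ y ∈ V, ¬ (Z i ∩ Z j ∩ f' ⁻¹' {y}).Nonempty) := by
    intro i j
    by_cases hne : (Z i ∩ Z j ∩ f' ⁻¹' {genericPoint ↑Y'}).Nonempty
    · exact ⟨⊤, trivial, fun h => absurd hne h⟩
    · obtain ⟨V, hVη, hV⟩ := exists_open_empty f' (Z i ∩ Z j) ((hZ i).inter (hZ j)) hne
      exact ⟨V, hVη, fun _ => hV⟩
  choose VE hVEη hVE using hE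
  refine ⟨⟨(V0 : Set Y') ∩ (⋂ i, ⋂ j, (VN i j : Set Y')) ∩ ⋂ i, ⋂ j, (VE i j : Set Y'),
    (V0.2.inter (isOpen_iInter_of_finite
      (fun i => isOpen_iInter_of_finite (fun j => (VN i j).2)))).inter
      (isOpen_iInter_of_finite (fun i => isOpen_iInter_of_finite (fun j => (VE i j).2)))⟩,
    ⟨⟨hV0η, Set.mem_iInter.mpr (fun i => Set.mem_iInter.mpr (hVNη i))⟩,
      Set.mem_iInter.mpr (fun i => Set.mem_iInter.mpr (hVEη i))⟩, ?_⟩
  rintro K _ t ⟨⟨ht0, htN⟩, htE⟩
  obtain ⟨h1, h2, h3⟩ := hV0 K t ht0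
  refine ⟨h1, h2, fun i j => ⟨h3 i j, ?_⟩, ?_⟩
  · rintro ⟨z, hzi, hzj⟩
    by_contra hne
    have htij : t (IsLocalRing.closedPoint K) ∈ VE i j :=
      Set.mem_iInter.mp (Set.mem_iInter.mp htE i) j
    exact hVE i j hne _ htij ⟨pullback.fst f' t z, ⟨hzi, hzj⟩, fst_mem_fiber f' t z⟩
  · intro i j hij hsub
    have htij : t (IsLocalRing.closedPoint K) ∈ VN i j :=
      Set.mem_iInter.mp (Set.mem_iInter.mp htN i) j
    apply hVN i j hij _ htij
    rintro x ⟨hxi, hx⟩
    obtain ⟨z, rfl⟩ := exists_fst_eq f' t x hx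
    exact hsub hxi

end Spread2

section Main1336

theorem exists_sepClosed_point (Y' : Scheme.{u}) (y : Y') :
    ∃ (K : Type u) (_ : Field K) (_ : IsSepClosed K) (t : Spec (CommRingCat.of K) ⟶ Y'),
      t (IsLocalRing.closedPoint K) = y := by
  refine ⟨SeparableClosure (Y'.residueField y), inferInstance, inferInstance,
    Spec.map (CommRingCat.ofHom (algebraMap (Y'.residueField y)
      (SeparableClosure (Y'.residueField y)))) ≫ Y'.fromSpecResidueField y, ?_⟩
  rw [Scheme.Hom.comp_apply]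
  exact Scheme.fromSpecResidueField_apply _ _

variable {X Y : Scheme.{u}} (f : X ⟶ Y)

theorem nGeomIrredComp_baseChange {Y' : Scheme.{u}} (g : Y' ⟶ Y) (y' : Y') :
    MoreMor.nGeomIrredComp (pullback.snd f g) y' = MoreMor.nGeomIrredComp f (g y') := by
  obtain ⟨K, _, _, t, ht⟩ := exists_sepClosed_point Y' y'
  have h1 := encard_irr_pullback_eq_nGeomIrredComp' (pullback.snd f g) K t
  have h2 := encard_irr_pullback_eq_nGeomIrredComp' f K (t ≫ g)
  rw [ht] at h1
  rw [Scheme.Hom.comp_apply, ht] at h2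
  rw [← h1, ← h2]
  exact encard_irreducibleComponents_eq_of_homeomorph
    (pullbackLeftPullbackSndIso f g t).hom.homeomorph

/-- On an irreducible base the number of geometric irreducible components is constant on a
neighbourhood of the generic point. -/
theorem exists_open_nGeomIrredComp_eq [IrreducibleSpace ↑Y] [LocallyOfFiniteType f]
    [QuasiCompact f] :
    ∃ V : Y.Opens, genericPoint ↑Y ∈ V ∧ ∃ n : ℕ, ∀ y ∈ V, MoreMor.nGeomIrredComp f y = n := by
  classical
  obtain ⟨A', _, _, g, _, n, Z, hgen, hZc, hZcov, hZirr, hZnest⟩ := exists_decomposition f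
  haveI : LocallyOfFiniteType (pullback.snd f g) := MorphismProperty.pullback_snd _ _ inferInstance
  haveI : QuasiCompact (pullback.snd f g) := MorphismProperty.pullback_snd _ _ inferInstance
  obtain ⟨V', hV'η, hV'⟩ := exists_open_structure' (pullback.snd f g) Z hZc hZcov hZirr hZnest
  have hrange : genericPoint ↑Y ∈ Set.range (V'.ι ≫ g).base :=
    ⟨⟨genericPoint ↥(Spec (CommRingCat.of A')), hV'η⟩, hgen⟩
  have hint := Groth.Agent.S4585.result (V'.ι ≫ g) hrange
  refine ⟨⟨interior (Set.range (V'.ι ≫ g).base), isOpen_interior⟩, hint, n, ?_⟩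
  intro y hy
  obtain ⟨⟨y', hy'V⟩, hy'⟩ := interior_subset hy
  have hy'' : g y' = y := hy'
  rw [← hy'', ← nGeomIrredComp_baseChange f g y']
  obtain ⟨K, _, _, t, ht⟩ := exists_sepClosed_point _ y'
  have h1 := encard_irr_pullback_eq_nGeomIrredComp' (pullback.snd f g) K t
  rw [ht] at h1
  rw [← h1]
  obtain ⟨hirr, hcov, -, hnest⟩ := hV' K t (by rw [ht]; exact hy'V)
  exact encard_irreducibleComponents_eq _
    (fun j => (hZc j).preimage (pullback.fst (pullback.snd f g) t).continuous) hirr hcov hnest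

/-- S1336 -/
theorem main1336 [LocallyOfFiniteType f] [QuasiCompact f] (y : Y) :
    ∃ V : Set ↑Y, V ⊆ closure {y} ∧ y ∈ V ∧
      IsOpen (Subtype.val ⁻¹' V : Set ↑(closure ({y} : Set ↑Y))) ∧
      ∀ y' ∈ V, MoreMor.nGeomIrredComp f y' = MoreMor.nGeomIrredComp f y := by
  obtain ⟨Y₁, j, hj, hint, hrange, hgen⟩ :=
    CohDevH8.exists_integral_subscheme (closure {y}) isClosed_closure y rfl
  haveI := hj; haveI := hint
  haveI : LocallyOfFiniteType (pullback.snd f j) := MorphismProperty.pullback_snd _ _ inferInstance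
  haveI : QuasiCompact (pullback.snd f j) := MorphismProperty.pullback_snd _ _ inferInstance
  obtain ⟨V₁, hV₁η, n, hV₁⟩ := exists_open_nGeomIrredComp_eq (pullback.snd f j)
  have hcount : ∀ y₁ ∈ V₁, MoreMor.nGeomIrredComp f (j y₁) = n := by
    intro y₁ hy₁
    rw [← nGeomIrredComp_baseChange f j y₁]
    exact hV₁ y₁ hy₁
  refine ⟨j '' (V₁ : Set Y₁), ?_, ⟨_, hV₁η, hgen⟩, ?_, ?_⟩
  · rintro _ ⟨y₁, -, rfl⟩
    rw [← hrange]
    exact ⟨y₁, rfl⟩
  · obtain ⟨O, hO, hOV⟩ := j.isEmbedding.isInducing.isOpen_iff.mp V₁.2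
    have : (Subtype.val ⁻¹' (j '' (V₁ : Set Y₁)) : Set ↑(closure ({y} : Set ↑Y))) =
        Subtype.val ⁻¹' O := by
      ext ⟨x, hx⟩
      simp only [Set.mem_preimage]
      constructor
      · rintro ⟨y₁, hy₁, rfl⟩
        have : y₁ ∈ j ⁻¹' O := by rw [hOV]; exact hy₁
        exact this
      · intro hxO
        rw [← hrange] at hx
        obtain ⟨y₁, rfl⟩ := hx
        refine ⟨y₁, ?_, rfl⟩
        have : y₁ ∈ j ⁻¹' O := hxO
        rw [hOV] at this
        exact this
    rw [this]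
    exact hO.preimage continuous_subtype_val
  · rintro _ ⟨y₁, hy₁, rfl⟩
    rw [hcount y₁ hy₁, ← hgen, hcount _ hV₁η]

end Main1336

end GeomConnH8
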