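import Mathlib
import Groth.Agent.Lib.GeomConnF_helper8

/-!
# Counting geometric connected components, part G (helper8)
APPEND-ONLY once landed.
-/

set_option autoImplicit false
set_option linter.style.haveILetI false
universe u
open CategoryTheory CategoryTheory.Limits AlgebraicGeometry

namespace GeomConnH8

open Groth.Agent.Lib.GeomRedGenH4 GeomRedGenH8 GeomIrrH8

section Top

theorem card_connectedComponents_eq_of_homeomorph {α β : Type*} [TopologicalSpace α]
    [TopologicalSpace β] (e : α ≃ₜ β) :
    ENat.card (ConnectedComponents α) = ENat.card (ConnectedComponents β) :=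
  ENat.card_congr (e.isQuotientMap.isCoinducing.connectedComponentsHomeomorph (fun y => by
    have : e ⁻¹' {y} = {e.symm y} := by
      ext z
      simp only [Set.mem_preimage, Set.mem_singleton_iff]
      exact e.eq_symm_apply.symm
    rw [this]
    exact isConnected_singleton)).toEquiv

/-- The connected components of a space covered by finitely many closed connected subsets are
the classes of the incidence relation. -/
theorem card_connectedComponents_eq_card_quot {α : Type*} [TopologicalSpace α] {n : ℕ}
    (S : Fin n → Set α) (hc : ∀ j, IsClosed (S j)) (hconn : ∀ j, IsConnected (S j))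
    (hcov : ⋃ j, S j = Set.univ) :
    ENat.card (ConnectedComponents α) =
      ENat.card (Quot (fun i j : Fin n => (S i ∩ S j).Nonempty)) := by
  classical
  have hx : ∀ j, ∃ x, x ∈ S j := fun j => (hconn j).nonempty
  choose x hxS using hx
  have hsame : ∀ j (z : α), z ∈ S j →
      (ConnectedComponents.mk z : ConnectedComponents α) = ConnectedComponents.mk (x j) := by
    intro j z hz
    rw [ConnectedComponents.coe_eq_coe]
    have h1 : S j ⊆ connectedComponent z := (hconn j).isPreconnected.subset_connectedComponent hz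
    exact connectedComponent_eq (h1 (hxS j))
  let Φ : Quot (fun i j : Fin n => (S i ∩ S j).Nonempty) → ConnectedComponents α :=
    Quot.lift (fun j => ConnectedComponents.mk (x j)) (by
      rintro i j ⟨z, hzi, hzj⟩
      show (ConnectedComponents.mk (x i) : ConnectedComponents α) = ConnectedComponents.mk (x j)
      rw [← hsame i z hzi, ← hsame j z hzj])
  have hsurj : Function.Surjective Φ := by
    intro c
    obtain ⟨z, rfl⟩ := ConnectedComponents.surjective_coe c
    have hz : z ∈ ⋃ j, S j := by rw [hcov]; trivial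
    obtain ⟨j, hj⟩ := Set.mem_iUnion.mp hz
    exact ⟨Quot.mk _ j, (hsame j z hj).symm⟩
  have hinj : Function.Injective Φ := by
    intro a b hab
    obtain ⟨i, rfl⟩ := Quot.exists_rep a
    obtain ⟨j, rfl⟩ := Quot.exists_rep b
    have hab' : (ConnectedComponents.mk (x i) : ConnectedComponents α) =
        ConnectedComponents.mk (x j) := hab
    rw [ConnectedComponents.coe_eq_coe] at hab'
    rw [Quot.eq]
    set I : Set (Fin n) := {l | Relation.EqvGen (fun i j : Fin n => (S i ∩ S j).Nonempty) i l}
      with hI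
    set A : Set α := ⋃ l ∈ I, S l with hA
    set B : Set α := ⋃ l ∈ Iᶜ, S l with hB
    have hAc : IsClosed A := (Set.toFinite I).isClosed_biUnion (fun l _ => hc l)
    have hBc : IsClosed B := (Set.toFinite Iᶜ).isClosed_biUnion (fun l _ => hc l)
    have hAB : Aᶜ = B := by
      ext z
      constructor
      · intro hzA
        have hz : z ∈ ⋃ j, S j := by rw [hcov]; trivial
        obtain ⟨l, hl⟩ := Set.mem_iUnion.mp hz
        by_cases hlI : l ∈ I
        · exact absurd (Set.mem_biUnion hlI hl) hzA
        · exact Set.mem_biUnion (show l ∈ Iᶜ from hlI) hl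
      · intro hzB hzA
        obtain ⟨l, hlI, hzl⟩ := Set.mem_iUnion₂.mp hzA
        obtain ⟨m, hmI, hzm⟩ := Set.mem_iUnion₂.mp hzB
        exact hmI (Relation.EqvGen.trans _ _ _ hlI (Relation.EqvGen.rel _ _ ⟨z, hzl, hzm⟩))
    have hAclopen : IsClopen A := ⟨hAc, by rw [← isClosed_compl_iff, hAB]; exact hBc⟩
    have hxiA : x i ∈ A := Set.mem_biUnion (show i ∈ I from Relation.EqvGen.refl i) (hxS i)
    have hsub : connectedComponent (x i) ⊆ A := hAclopen.connectedComponent_subset hxiA
    have hxjA : x j ∈ A := by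
      apply hsub
      rw [hab']
      exact mem_connectedComponent
    obtain ⟨l, hlI, hxl⟩ := Set.mem_iUnion₂.mp hxjA
    exact Relation.EqvGen.trans _ _ _ hlI (Relation.EqvGen.rel _ _ ⟨x j, hxl, hxS j⟩)
  exact (ENat.card_congr (Equiv.ofBijective Φ ⟨hinj, hsurj⟩)).symm

end Top

section KeyN

variable {X Y : Scheme.{u}} (f : X ⟶ Y)

theorem card_cc_pullback_eq_nGeomConnComp (y : Y) (K : Type u) [Field K] [IsSepClosed K]
    (φ : Y.residueField y ⟶ CommRingCat.of K) :
    ENat.card (_root_.ConnectedComponents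
      ↥(pullback f (Spec.map φ ≫ Y.fromSpecResidueField y))) =
      MoreMor.nGeomConnComp f y := by
  letI : Algebra (Y.residueField y) K := φ.hom.toAlgebra
  let lift : SeparableClosure (Y.residueField y) →ₐ[Y.residueField y] K :=
    IsSepClosed.lift
  letI : Algebra (SeparableClosure (Y.residueField y)) K := lift.toRingHom.toAlgebra
  haveI : IsScalarTower (Y.residueField y) (SeparableClosure (Y.residueField y)) K :=
    IsScalarTower.of_algebraMap_eq (fun x => (lift.commutes x).symm)
  have h1 := Groth.Agent.Lib.GeomCompCardH4.card_cc_eq (k := Y.residueField y)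
    (f.fiberToSpecResidueField y) (SeparableClosure (Y.residueField y)) K
  have h2 : ENat.card (_root_.ConnectedComponents ↥(pullback (f.fiberToSpecResidueField y)
      (Spec.map (CommRingCat.ofHom (algebraMap (Y.residueField y) K))))) =
      MoreMor.nGeomConnComp f y := congrArg Cardinal.toENat h1
  rw [← h2]
  exact (card_connectedComponents_eq_of_homeomorph
    (pullbackLeftPullbackSndIso f (Y.fromSpecResidueField y) (Spec.map φ)).hom.homeomorph).symm

theorem card_cc_pullback_eq_nGeomConnComp' (K : Type u) [Field K] [IsSepClosed K]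
    (t : Spec (CommRingCat.of K) ⟶ Y) :
    ENat.card (_root_.ConnectedComponents ↥(pullback f t)) =
      MoreMor.nGeomConnComp f (t (IsLocalRing.closedPoint K)) := by
  have hg : Spec.map ((Scheme.SpecToEquivOfField K Y) t).2 ≫
      Y.fromSpecResidueField ((Scheme.SpecToEquivOfField K Y) t).1 = t :=
    (Scheme.SpecToEquivOfField K Y).symm_apply_apply t
  have h1 := card_cc_pullback_eq_nGeomConnComp f (t (IsLocalRing.closedPoint K)) K
    ((Scheme.SpecToEquivOfField K Y) t).2
  rw [← h1]
  exact (card_connectedComponents_eq_of_homeomorph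
    (pullback.congrHom (f₁ := f) rfl hg).hom.homeomorph).symm

theorem nGeomConnComp_baseChange {Y' : Scheme.{u}} (g : Y' ⟶ Y) (y' : Y') :
    MoreMor.nGeomConnComp (pullback.snd f g) y' = MoreMor.nGeomConnComp f (g y') := by
  obtain ⟨K, _, _, t, ht⟩ := exists_sepClosed_point Y' y'
  have h1 := card_cc_pullback_eq_nGeomConnComp' (pullback.snd f g) K t
  have h2 := card_cc_pullback_eq_nGeomConnComp' f K (t ≫ g)
  rw [ht] at h1
  rw [Scheme.Hom.comp_apply, ht] at h2
  rw [← h1, ← h2]
  exact card_connectedComponents_eq_of_homeomorph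
    (pullbackLeftPullbackSndIso f g t).hom.homeomorph

/-- On an irreducible base the number of geometric connected components is constant on a
neighbourhood of the generic point. -/
theorem exists_open_nGeomConnComp_eq [IrreducibleSpace ↑Y] [LocallyOfFiniteType f]
    [QuasiCompact f] :
    ∃ V : Y.Opens, genericPoint ↑Y ∈ V ∧ ∃ c : ℕ∞, ∀ y ∈ V, MoreMor.nGeomConnComp f y = c := by
  classical
  obtain ⟨A', _, _, g, _, n, Z, hgen, hZc, hZcov, hZirr, hZnest⟩ := exists_decomposition f
  haveI : LocallyOfFiniteType (pullback.snd f g) := MorphismProperty.pullback_snd _ _ inferInstance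
  haveI : QuasiCompact (pullback.snd f g) := MorphismProperty.pullback_snd _ _ inferInstance
  obtain ⟨V', hV'η, hV'⟩ := exists_open_structure' (pullback.snd f g) Z hZc hZcov hZirr hZnest
  have hrange : genericPoint ↑Y ∈ Set.range (V'.ι ≫ g).base :=
    ⟨⟨genericPoint ↥(Spec (CommRingCat.of A')), hV'η⟩, hgen⟩
  have hint := Groth.Agent.S4585.result (V'.ι ≫ g) hrange
  refine ⟨⟨interior (Set.range (V'.ι ≫ g).base), isOpen_interior⟩, hint,
    ENat.card (Quot (fun i j : Fin n => (Z i ∩ Z j ∩ (pullback.snd f g) ⁻¹'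
      {genericPoint ↥(Spec (CommRingCat.of A'))}).Nonempty)), ?_⟩
  intro y hy
  obtain ⟨⟨y', hy'V⟩, hy'⟩ := interior_subset hy
  have hy'' : g y' = y := hy'
  rw [← hy'', ← nGeomConnComp_baseChange f g y']
  obtain ⟨K, _, _, t, ht⟩ := exists_sepClosed_point _ y'
  have h1 := card_cc_pullback_eq_nGeomConnComp' (pullback.snd f g) K t
  rw [ht] at h1
  rw [← h1]
  obtain ⟨hirr, hcov, hedge, -⟩ := hV' K t (by rw [ht]; exact hy'V)
  rw [card_connectedComponents_eq_card_quot _
    (fun j => (hZc j).preimage (pullback.fst (pullback.snd f g) t).continuous)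
    (fun j => (hirr j).isConnected) hcov]
  have hrel : (fun i j : Fin n => ((pullback.fst (pullback.snd f g) t) ⁻¹' Z i ∩
      (pullback.fst (pullback.snd f g) t) ⁻¹' Z j).Nonempty) =
      (fun i j : Fin n => (Z i ∩ Z j ∩ (pullback.snd f g) ⁻¹'
        {genericPoint ↥(Spec (CommRingCat.of A'))}).Nonempty) := by
    funext i j
    exact propext (hedge i j).symm
  rw [hrel]

/-- S1337 -/
theorem main1337 [LocallyOfFiniteType f] [QuasiCompact f] (y : Y) :
    ∃ V : Set ↑Y, V ⊆ closure {y} ∧ y ∈ V ∧
      IsOpen (Subtype.val ⁻¹' V : Set ↑(closure ({y} : Set ↑Y))) ∧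
      ∀ y' ∈ V, MoreMor.nGeomConnComp f y' = MoreMor.nGeomConnComp f y := by
  obtain ⟨Y₁, j, hj, hint, hrange, hgen⟩ :=
    CohDevH8.exists_integral_subscheme (closure {y}) isClosed_closure y rfl
  haveI := hj; haveI := hint
  haveI : LocallyOfFiniteType (pullback.snd f j) := MorphismProperty.pullback_snd _ _ inferInstance
  haveI : QuasiCompact (pullback.snd f j) := MorphismProperty.pullback_snd _ _ inferInstance
  obtain ⟨V₁, hV₁η, n, hV₁⟩ := exists_open_nGeomConnComp_eq (pullback.snd f j)
  have hcount : ∀ y₁ ∈ V₁, MoreMor.nGeomConnComp f (j y₁) = n := by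
    intro y₁ hy₁
    rw [← nGeomConnComp_baseChange f j y₁]
    exact hV₁ y₁ hy₁
  refine ⟨j '' (V₁ : Set Y₁), ?_, ⟨_, hV₁η, hgen⟩, ?_, ?_⟩
  · rintro _ ⟨y₁, -, rfl⟩
    rw [← hrange]
    exact ⟨y₁, rfl⟩
  · obtain ⟨O, hO, hOV⟩ := j.isEmbedding.isInducing.isOpen_iff.mp V₁.2
    have : (Subtype.val ⁻¹' (j '' (V₁ : Set Y₁)) : Set ↑(closure ({y} : Set ↑Y))) =
        Subtype.val ⁻¹' O := by
      ext ⟨x, hx⟩
      simp only [Set.mem_preimage]
      constructor
      · rintro ⟨y₁, hy₁, rfl⟩
        have : y₁ ∈ j ⁻¹' O := by rw [hOV]; exact hy₁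
        exact this
      · intro hxO
        rw [← hrange] at hx
        obtain ⟨y₁, rfl⟩ := hx
        refine ⟨y₁, ?_, rfl⟩
        have : y₁ ∈ j ⁻¹' O := hxO
        rw [hOV] at this
        exact this
    rw [this]
    exact hO.preimage continuous_subtype_val
  · rintro _ ⟨y₁, hy₁, rfl⟩
    rw [hcount y₁ hy₁, ← hgen, hcount _ hV₁η]

end KeyN

end GeomConnH8
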