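import Mathlib
import Groth.Prelude.Def_MoreMor
import Groth.Agent.Lib.GeomIrrSch_helper4

set_option autoImplicit false
set_option linter.style.haveILetI false
set_option linter.unusedSectionVars false

universe u

open CategoryTheory CategoryTheory.Limits AlgebraicGeometry

namespace Groth.Agent.Lib.GeomFibBCH4

open Groth.Agent.Lib.GeomIrrSchH4

theorem exists_isPullback_of_squares {C : Type*} [Category C] [HasPullbacks C]
    {F₀ F₁ B₀ B₁ K₀ K₁ : C} (p₀ : F₀ ⟶ B₀) (p₁ : F₁ ⟶ B₁) (m : F₁ ⟶ F₀) (β : B₁ ⟶ B₀)
    (hA : IsPullback m p₁ p₀ β) (s₀ : K₀ ⟶ B₀) (s₁ : K₁ ⟶ B₁) (t : K₁ ⟶ K₀)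
    (hcomm : s₁ ≫ β = t ≫ s₀) :
    ∃ n : pullback p₁ s₁ ⟶ pullback p₀ s₀,
      IsPullback n (pullback.snd p₁ s₁) (pullback.snd p₀ s₀) t := by
  have hcond : (pullback.fst p₁ s₁ ≫ m) ≫ p₀ = (pullback.snd p₁ s₁ ≫ t) ≫ s₀ := by
    rw [Category.assoc, hA.w, ← Category.assoc, pullback.condition, Category.assoc, hcomm,
      Category.assoc]
  refine ⟨pullback.lift _ _ hcond, ?_⟩
  have hbig := (IsPullback.of_hasPullback p₁ s₁).paste_horiz hA
  rw [hcomm] at hbig
  refine IsPullback.of_right ?_ (pullback.lift_snd _ _ _) (IsPullback.of_hasPullback p₀ s₀)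
  rw [pullback.lift_fst]
  exact hbig

/-- The geometric fibre of a base change maps to the geometric fibre, and this map is a base change
of a morphism `Spec K' ⟶ Spec K` of spectra of separably closed fields. -/
theorem exists_square {X Y X' Y' : Scheme.{u}} (f : X ⟶ Y) (f' : X' ⟶ Y') (g' : X' ⟶ X)
    (g : Y' ⟶ Y) (hc : IsPullback g' f' f g) (y' : Y') :
    ∃ (n : MoreMor.geomFiber f' y' ⟶ MoreMor.geomFiber f (g y')),
      GeometricallyIrreducible n ∧ GeometricallyConnected n ∧ UniversallyOpen n := by
  obtain ⟨m, hA⟩ : ∃ m, IsPullback m (f'.fiberToSpecResidueField y')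
      (f.fiberToSpecResidueField (g y')) (Spec.map (g.residueFieldMap y')) :=
    ⟨_, isPullback_fiberToSpecResidueField_of_isPullback hc y'⟩
  letI alg01 : Algebra (Y.residueField (g y')) (SeparableClosure (Y'.residueField y')) :=
    ((algebraMap (Y'.residueField y') (SeparableClosure (Y'.residueField y'))).comp
      (g.residueFieldMap y').hom).toAlgebra
  let ψ₀ : SeparableClosure (Y.residueField (g y')) →ₐ[Y.residueField (g y')]
      SeparableClosure (Y'.residueField y') := IsSepClosed.lift
  letI algK : Algebra (SeparableClosure (Y.residueField (g y')))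
      (SeparableClosure (Y'.residueField y')) := ψ₀.toRingHom.toAlgebra
  have hring : g.residueFieldMap y' ≫ CommRingCat.ofHom
        (algebraMap (Y'.residueField y') (SeparableClosure (Y'.residueField y'))) =
      (CommRingCat.ofHom (algebraMap (Y.residueField (g y'))
          (SeparableClosure (Y.residueField (g y')))) ≫
        CommRingCat.ofHom (algebraMap (SeparableClosure (Y.residueField (g y')))
          (SeparableClosure (Y'.residueField y'))) :
        Y.residueField (g y') ⟶ CommRingCat.of (SeparableClosure (Y'.residueField y'))) := by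
    refine CommRingCat.hom_ext (RingHom.ext fun x => ?_)
    exact (ψ₀.commutes x).symm
  have hcomm : Spec.map (CommRingCat.ofHom
        (algebraMap (Y'.residueField y') (SeparableClosure (Y'.residueField y')))) ≫
        Spec.map (g.residueFieldMap y') =
      Spec.map (CommRingCat.ofHom (algebraMap (SeparableClosure (Y.residueField (g y')))
          (SeparableClosure (Y'.residueField y')))) ≫
        Spec.map (CommRingCat.ofHom (algebraMap (Y.residueField (g y'))
          (SeparableClosure (Y.residueField (g y'))))) :=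
    (Spec.map_comp _ _).symm.trans ((congrArg Spec.map hring).trans (Spec.map_comp _ _))
  obtain ⟨n, hsq⟩ := exists_isPullback_of_squares (f.fiberToSpecResidueField (g y'))
    (f'.fiberToSpecResidueField y') m (Spec.map (g.residueFieldMap y')) hA
    (Spec.map (CommRingCat.ofHom (algebraMap (Y.residueField (g y'))
      (SeparableClosure (Y.residueField (g y'))))))
    (Spec.map (CommRingCat.ofHom
      (algebraMap (Y'.residueField y') (SeparableClosure (Y'.residueField y')))))
    (Spec.map (CommRingCat.ofHom (algebraMap (SeparableClosure (Y.residueField (g y')))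
      (SeparableClosure (Y'.residueField y'))))) hcomm
  haveI h1 := geomIrr_specMap (k := SeparableClosure (Y.residueField (g y')))
    (SeparableClosure (Y'.residueField y'))
  haveI h2 := geomConn_specMap (k := SeparableClosure (Y.residueField (g y')))
    (SeparableClosure (Y'.residueField y'))
  haveI h3 := universallyOpen_specMap (k := SeparableClosure (Y.residueField (g y')))
    (SeparableClosure (Y'.residueField y'))
  exact ⟨n, MorphismProperty.of_isPullback (P := @GeometricallyIrreducible) hsq.flip h1,
    MorphismProperty.of_isPullback (P := @GeometricallyConnected) hsq.flip h2,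
    MorphismProperty.of_isPullback (P := @UniversallyOpen) hsq.flip h3⟩

theorem main1334 {X Y X' Y' : Scheme.{u}} (f : X ⟶ Y) (f' : X' ⟶ Y') (g' : X' ⟶ X) (g : Y' ⟶ Y)
    (hc : IsPullback g' f' f g) (y' : Y') :
    MoreMor.nGeomIrredComp f' y' = MoreMor.nGeomIrredComp f (g y') := by
  obtain ⟨n, h1, h2, h3⟩ := exists_square f f' g' g hc y'
  haveI := h1
  haveI := h3
  exact Set.encard_congr (n.irreducibleComponentsEquiv n.isOpenMap)

theorem main1335 {X Y X' Y' : Scheme.{u}} (f : X ⟶ Y) (f' : X' ⟶ Y') (g' : X' ⟶ X) (g : Y' ⟶ Y)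
    (hc : IsPullback g' f' f g) (y' : Y') :
    MoreMor.nGeomConnComp f' y' = MoreMor.nGeomConnComp f (g y') := by
  obtain ⟨n, h1, h2, h3⟩ := exists_square f f' g' g hc y'
  haveI := h2
  haveI := h3
  exact ENat.card_congr (n.connectedComponentsHomeomorph n.isOpenMap).toEquiv

end Groth.Agent.Lib.GeomFibBCH4
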