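import Mathlib
import Groth.Prelude
import Groth.Agent.Lib.GeomCountSch_helper4
import Groth.Agent.Lib.GeomFibBC_helper4
import Groth.Agent.Lib.WeightMax_helper4

/-!
# Lower semicontinuity of the geometric number of points (EGA IV 15.5.1-type statements)

For a separated, quasi-compact, locally quasi-finite morphism locally of finite type which is
universally open at the points of a fibre, the geometric number of points is lower semicontinuous
at the image point, and if it is locally constant there the morphism is proper nearby.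
-/

set_option autoImplicit false
set_option linter.style.haveILetI false
set_option linter.unusedVariables false
universe u
open CategoryTheory CategoryTheory.Limits AlgebraicGeometry TopologicalSpace Opposite Topology

namespace Groth.Agent.Lib.GeomLscH4

open Groth.Agent.Lib.WeightH4 Groth.Agent.Lib.GeomCountH4 Groth.Agent.Lib.EtNbhdFinH4 IsLocalRing

/-- Every geometric point centred at `v` factors through the residue field of `v`. -/
theorem exists_residue_factor {V : Scheme.{u}} (Ω : Type u) [Field Ω] (v : V)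
    (ybar : Spec (CommRingCat.of Ω) ⟶ V) (h : ybar (closedPoint Ω) = v) :
    ∃ ψ : V.residueField v ⟶ CommRingCat.of Ω,
      Spec.map ψ ≫ V.fromSpecResidueField v = ybar := by
  subst h
  exact ⟨Scheme.descResidueField (Scheme.stalkClosedPointTo ybar),
    Scheme.descResidueField_stalkClosedPointTo_fromSpecResidueField Ω V ybar⟩

/-- The geometric number of points is at least the number of points of the fibre. -/
theorem encard_fibre_le {P U : Scheme.{u}} (π : P ⟶ U) [LocallyQuasiFinite π] (u' : U) :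
    (π ⁻¹' {u'}).encard ≤ MoreMor.nGeomConnComp π u' := by
  haveI := discreteTopology_geomFiber π u'
  unfold MoreMor.nGeomConnComp
  rw [card_connectedComponents_of_discrete, ← Set.encard_univ]
  obtain ⟨ρ, hρ⟩ : ∃ ρ : MoreMor.geomFiber π u' ⟶ P,
      ρ = pullback.fst (π.fiberToSpecResidueField u')
        (Spec.map (CommRingCat.ofHom
          (algebraMap (U.residueField u') (SeparableClosure (U.residueField u'))))) ≫
        π.fiberι u' := ⟨_, rfl⟩
  haveI hss : Subsingleton ↥(Spec (U.residueField u')) :=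
    (inferInstance : Subsingleton (PrimeSpectrum (U.residueField u')))
  have hsub : π ⁻¹' {u'} ⊆ ρ '' Set.univ := by
    intro p hp
    have hp' : p ∈ Set.range (π.fiberι u') := by
      rw [Scheme.Hom.range_fiberι]; exact hp
    obtain ⟨p', hp'⟩ := hp'
    obtain ⟨q, hq1, hq2⟩ := Scheme.Pullback.exists_preimage_pullback
      (f := π.fiberToSpecResidueField u')
      (g := Spec.map (CommRingCat.ofHom
          (algebraMap (U.residueField u') (SeparableClosure (U.residueField u')))))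
      p' (closedPoint (SeparableClosure (U.residueField u'))) (Subsingleton.elim _ _)
    refine ⟨q, Set.mem_univ _, ?_⟩
    rw [hρ]
    show (π.fiberι u') ((pullback.fst (π.fiberToSpecResidueField u')
        (Spec.map (CommRingCat.ofHom
          (algebraMap (U.residueField u') (SeparableClosure (U.residueField u')))))) q) = p
    rw [hq1, hp']
  exact (Set.encard_le_encard hsub).trans (Set.encard_image_le ρ Set.univ)

set_option maxHeartbeats 1600000 in
theorem card_le_aux {P U G SK : Scheme.{u}} (π : P ⟶ U) [LocallyQuasiFinite π]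
    {pr : G ⟶ P} {πG : G ⟶ SK} {ζ : SK ⟶ U} (hG : IsPullback pr πG π ζ) [Subsingleton ↥SK]
    (pt₀ : SK) (Ω : Type u) [Field Ω] [IsAlgClosed Ω]
    (ψ₀ : SK.residueField pt₀ ⟶ CommRingCat.of Ω)
    (u : U) (hζ : ζ pt₀ = u) {T : Type} [Finite T] (v : T → P) (hv : ∀ t, π (v t) = u)
    (hcov : ∀ w : P, π w = u → ∃ t, w = v t) (hpi : ∀ t, sepDeg π (v t) = 1) :
    ENat.card ↥G ≤ ((Nat.card T : ℕ) : ℕ∞) := by
  classical
  haveI : Fintype T := Fintype.ofFinite T
  apply card_le_of_isPullback_aux π hG pt₀ Ω ψ₀ (Nat.card T)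
  obtain ⟨vbar, hvbar⟩ : ∃ vbar : Spec (CommRingCat.of Ω) ⟶ U,
      vbar = (Spec.map ψ₀ ≫ SK.fromSpecResidueField pt₀) ≫ ζ := ⟨_, rfl⟩
  rw [← hvbar]
  have hpt : vbar (closedPoint Ω) = u := by
    rw [hvbar, ← hζ]
    show ζ ((SK.fromSpecResidueField pt₀) ((Spec.map ψ₀) (closedPoint Ω))) = ζ pt₀
    exact congrArg _ (Subsingleton.elim _ _)
  obtain ⟨ψ, hψ⟩ := exists_residue_factor Ω u vbar hpt
  rw [← hψ]
  have h1 := geomSet_eq_biUnion π Ω u ψ
  have h2 : geomSet π Ω (Spec.map ψ ≫ U.fromSpecResidueField u) ⊆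
      ⋃ t ∈ (Finset.univ : Finset T),
        geomFib π Ω (Spec.map ψ ≫ U.fromSpecResidueField u) (v t) := by
    rw [h1]
    intro ubar hubar
    obtain ⟨x, hx, hmem⟩ := Set.mem_iUnion₂.mp hubar
    obtain ⟨t, ht⟩ := hcov x hx
    refine Set.mem_iUnion₂.mpr ⟨t, Finset.mem_univ t, ?_⟩
    rw [← ht]; exact hmem
  have h3 := finite_ncard_biUnion_le (Finset.univ : Finset T)
    (fun t => geomFib π Ω (Spec.map ψ ≫ U.fromSpecResidueField u) (v t)) (fun _ => 1)
    (fun t _ => ⟨finite_geomFib π Ω (v t) u (hv t) ψ,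
      by rw [ncard_geomFib π Ω (v t) u (hv t) ψ, hpi t]⟩)
  have h4 : ∑ i ∈ (Finset.univ : Finset T), (1 : ℕ) = Nat.card T := by
    rw [Finset.sum_const, Finset.card_univ, smul_eq_mul, mul_one, Nat.card_eq_fintype_card]
  show (geomSet π Ω (Spec.map ψ ≫ U.fromSpecResidueField u)).Finite ∧
    (geomSet π Ω (Spec.map ψ ≫ U.fromSpecResidueField u)).ncard ≤ Nat.card T
  exact ⟨h3.1.subset h2, (Set.ncard_le_ncard h2 h3.1).trans (h3.2.trans h4.le)⟩

theorem card_le_aux' {P U G SK : Scheme.{u}} (π : P ⟶ U) [LocallyQuasiFinite π]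
    {pr : G ⟶ P} {πG : G ⟶ SK} {ζ : SK ⟶ U} (hG : IsPullback pr πG π ζ) [Subsingleton ↥SK]
    (pt₀ : SK) (u : U) (hζ : ζ pt₀ = u) {T : Type} [Finite T] (v : T → P)
    (hv : ∀ t, π (v t) = u)
    (hcov : ∀ w : P, π w = u → ∃ t, w = v t) (hpi : ∀ t, sepDeg π (v t) = 1) :
    ENat.card ↥G ≤ ((Nat.card T : ℕ) : ℕ∞) :=
  card_le_aux π hG pt₀ (AlgebraicClosure (SK.residueField pt₀))
    (CommRingCat.ofHom (algebraMap (SK.residueField pt₀)
      (AlgebraicClosure (SK.residueField pt₀)))) u hζ v hv hcov hpi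

/-- Upper bound for the geometric number of points at a point whose fibre consists of finitely
many points with purely inseparable residue field extensions. -/
theorem nGeomConnComp_le_of_cover {P U : Scheme.{u}} (π : P ⟶ U) [LocallyQuasiFinite π] (u : U)
    {T : Type} [Finite T] (v : T → P) (hv : ∀ t, π (v t) = u)
    (hcov : ∀ w : P, π w = u → ∃ t, w = v t) (hpi : ∀ t, sepDeg π (v t) = 1) :
    MoreMor.nGeomConnComp π u ≤ ((Nat.card T : ℕ) : ℕ∞) := by
  haveI hsub : Subsingleton ↥(Spec (CommRingCat.of (SeparableClosure (U.residueField u)))) :=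
    (inferInstance : Subsingleton (PrimeSpectrum (SeparableClosure (U.residueField u))))
  unfold MoreMor.nGeomConnComp
  refine (card_connectedComponents_le _).trans ?_
  refine card_le_aux' π (geomFiber_isPullback π u)
    (closedPoint (SeparableClosure (U.residueField u))) u ?_ v hv hcov hpi
  show (U.fromSpecResidueField u) ((Spec.map (CommRingCat.ofHom
      (algebraMap (U.residueField u) (SeparableClosure (U.residueField u)))))
        (closedPoint (SeparableClosure (U.residueField u)))) = u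
  exact Scheme.fromSpecResidueField_apply u _

set_option maxHeartbeats 3200000 in
/-- The étale-local core. -/
theorem core {X Y : Scheme.{u}} (f : X ⟶ Y) [IsSeparated f] [LocallyQuasiFinite f]
    [LocallyOfFiniteType f] [QuasiCompact f] (y : Y)
    (h : ∀ x : X, f.base x = y → EGA43.IsUnivOpenAt f x) :
    ∃ (U : Scheme.{u}) (g : U ⟶ Y) (u : U), Etale g ∧ g u = y ∧
      ∃ (N : U.Opens) (A : (pullback f g).Opens) (m : ℕ), u ∈ N ∧
        IsFinite (A.ι ≫ pullback.snd f g) ∧
        MoreMor.nGeomConnComp f y ≤ (m : ℕ∞) ∧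
        (∀ u' ∈ N, (m : ℕ∞) ≤ MoreMor.nGeomConnComp f (g u')) ∧
        (∀ u' ∈ N, MoreMor.nGeomConnComp f (g u') ≤ (m : ℕ∞) →
          ∀ p : ↑(pullback f g), pullback.snd f g p = u' → p ∈ A) := by
  have hfib : (f ⁻¹' {y}).Finite := Scheme.Hom.finite_preimage_singleton f y
  obtain ⟨n, x, hxinj, hxmem, hxsurj⟩ := exists_enum (f ⁻¹' {y}) hfib
  obtain ⟨U, g, u, hg, hgu, J, hJ, V, v, hclopen, hdisj, hV, hcov⟩ :=
    main9778 f y x hxinj (fun i => hxmem i) (fun i => Scheme.Hom.quasiFiniteAt f (x i))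
  haveI := hg
  haveI := hJ
  haveI hlqf : LocallyQuasiFinite (pullback.snd f g) :=
    MorphismProperty.of_isPullback (P := @LocallyQuasiFinite)
      (IsPullback.of_hasPullback f g) inferInstance
  classical
  haveI : Fintype (Σ i, J i) := Fintype.ofFinite _
  have hbc : ∀ u' : U, MoreMor.nGeomConnComp (pullback.snd f g) u' =
      MoreMor.nGeomConnComp f (g u') := fun u' =>
    GeomFibBCH4.main1335 f (pullback.snd f g) (pullback.fst f g) g
      (IsPullback.of_hasPullback f g) u'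
  have hfibu : ∀ w : ↑(pullback f g), pullback.snd f g w = u →
      ∃ k : (Σ i, J i), w = v k.1 k.2 := by
    intro w hw
    have h1 : f (pullback.fst f g w) = y := by
      have h2 : (pullback.fst f g ≫ f) w = (pullback.snd f g ≫ g) w :=
        congrArg (fun m : pullback f g ⟶ Y => m w) pullback.condition
      exact h2.trans ((congrArg g hw).trans hgu)
    obtain ⟨i, hi⟩ := hxsurj _ h1
    obtain ⟨j, hj⟩ := hcov w i hw hi.symm
    exact ⟨⟨i, j⟩, (hV i j).2.2.2.1 w hj hw⟩
  have hupper : MoreMor.nGeomConnComp f y ≤ ((Nat.card (Σ i, J i) : ℕ) : ℕ∞) := by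
    rw [← hgu, ← hbc u]
    exact nGeomConnComp_le_of_cover (pullback.snd f g) u (fun k : (Σ i, J i) => v k.1 k.2)
      (fun k => (hV k.1 k.2).2.2.1) hfibu
      (fun k => sepDeg_eq_one (pullback.snd f g) (v k.1 k.2) (hV k.1 k.2).2.2.2.2.1)
  have hnhds : ∀ k : (Σ i, J i), (pullback.snd f g) ''
      ((V k.1 k.2 : (pullback f g).Opens) : Set ↑(pullback f g)) ∈ nhds u := by
    intro k
    have h1 : f (x k.1) = y := hxmem k.1
    have h2 := h (x k.1) h1 U g (v k.1 k.2) (hV k.1 k.2).2.2.2.2.2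
    have h3 := h2 ((V k.1 k.2 : (pullback f g).Opens) : Set ↑(pullback f g))
      ((V k.1 k.2).2.mem_nhds (hV k.1 k.2).1)
    exact (congrArg (fun z => (pullback.snd f g) ''
      ((V k.1 k.2 : (pullback f g).Opens) : Set ↑(pullback f g)) ∈ nhds z)
        (hV k.1 k.2).2.2.1).mp h3
  obtain ⟨N, hN⟩ : ∃ N : U.Opens, (N : Set U) = interior (⋂ k : (Σ i, J i),
      (pullback.snd f g) '' ((V k.1 k.2 : (pullback f g).Opens) : Set ↑(pullback f g))) :=
    ⟨⟨_, isOpen_interior⟩, rfl⟩
  have huN : u ∈ N := by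
    have h1 : u ∈ (N : Set U) := by
      rw [hN, mem_interior_iff_mem_nhds]
      exact Filter.iInter_mem.mpr hnhds
    exact h1
  have hq : ∀ u' ∈ N, ∃ q : (Σ i, J i) → ↑(pullback f g), Function.Injective q ∧
      (∀ k, q k ∈ V k.1 k.2) ∧ ∀ k, pullback.snd f g (q k) = u' := by
    intro u' hu'
    have h1 : u' ∈ (N : Set U) := hu'
    rw [hN] at h1
    have h2 : ∀ k : (Σ i, J i), ∃ p : ↑(pullback f g), p ∈ V k.1 k.2 ∧
        pullback.snd f g p = u' := by
      intro k
      obtain ⟨p, hp, hpu⟩ := Set.mem_iInter.mp (interior_subset h1) k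
      exact ⟨p, hp, hpu⟩
    choose q hq1 hq2 using h2
    refine ⟨q, ?_, hq1, hq2⟩
    intro k k' hkk
    have h3 : q k ∈ V k'.1 k'.2 := by rw [hkk]; exact hq1 k'
    obtain ⟨h4, h5⟩ := hdisj k.1 k.2 k'.1 k'.2 ⟨q k, hq1 k, h3⟩
    exact Sigma.ext h4 h5
  obtain ⟨hAfin, -⟩ := isFinite_finset_sup (pullback.snd f g) Finset.univ
    (fun k : (Σ i, J i) => V k.1 k.2) (fun k _ => (hclopen k.1 k.2).1)
    (fun k _ => (hV k.1 k.2).2.1)
  refine ⟨U, g, u, hg, hgu, N, Finset.univ.sup (fun k : (Σ i, J i) => V k.1 k.2),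
    Nat.card (Σ i, J i), huN, hAfin, hupper, ?_, ?_⟩
  · intro u' hu'
    obtain ⟨q, hqinj, hq1, hq2⟩ := hq u' hu'
    rw [← hbc u']
    refine le_trans ?_ (encard_fibre_le (pullback.snd f g) u')
    have h3 : Set.range q ⊆ (pullback.snd f g) ⁻¹' {u'} := by
      rintro _ ⟨k, rfl⟩
      exact hq2 k
    refine le_trans ?_ (Set.encard_le_encard h3)
    rw [← ENat.card_eq_coe_natCard]
    exact hqinj.encard_range
  · intro u' hu' hle p hp
    obtain ⟨q, hqinj, hq1, hq2⟩ := hq u' hu'
    have h3 : Set.range q ⊆ (pullback.snd f g) ⁻¹' {u'} := by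
      rintro _ ⟨k, rfl⟩
      exact hq2 k
    have hfin : (Set.range q).Finite := Set.finite_range q
    have h4 : ((pullback.snd f g) ⁻¹' {u'}).encard ≤ (Set.range q).encard := by
      refine le_trans (encard_fibre_le (pullback.snd f g) u') ?_
      rw [hbc u']
      refine hle.trans ?_
      rw [← ENat.card_eq_coe_natCard]
      exact hqinj.encard_range
    have h5 : Set.range q = (pullback.snd f g) ⁻¹' {u'} :=
      hfin.eq_of_subset_of_encard_le h3 h4
    have h6 : p ∈ Set.range q := by rw [h5]; exact hp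
    obtain ⟨k, rfl⟩ := h6
    exact (Finset.le_sup (f := fun k : (Σ i, J i) => V k.1 k.2) (Finset.mem_univ k)) (hq1 k)

theorem main3411 {X Y : Scheme.{u}} (f : X ⟶ Y) [IsSeparated f] [LocallyQuasiFinite f]
    [LocallyOfFiniteType f] [QuasiCompact f] (y : Y)
    (h : ∀ x : X, f.base x = y → EGA43.IsUnivOpenAt f x) :
    ∃ V ∈ nhds y, ∀ z ∈ V, MoreMor.nGeomConnComp f y ≤ MoreMor.nGeomConnComp f z := by
  obtain ⟨U, g, u, hg, hgu, N, A, m, huN, hA, hup, hlow, hA2⟩ := core f y h
  haveI := hg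
  refine ⟨g '' (N : Set U), ?_, ?_⟩
  · exact (g.isOpenMap _ N.2).mem_nhds ⟨u, huN, hgu⟩
  · rintro _ ⟨u', hu', rfl⟩
    exact hup.trans (hlow u' hu')

set_option maxHeartbeats 1600000 in
theorem main3412 {X Y : Scheme.{u}} (f : X ⟶ Y) [IsSeparated f] [LocallyQuasiFinite f]
    [LocallyOfFiniteType f] [QuasiCompact f] (y : Y)
    (h : ∀ x : X, f.base x = y → EGA43.IsUnivOpenAt f x)
    (hc : ∃ V ∈ nhds y, ∀ z ∈ V, MoreMor.nGeomConnComp f z = MoreMor.nGeomConnComp f y) :
    ∃ U : Y.Opens, y ∈ U ∧ IsProper (f ∣_ U) := by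
  obtain ⟨U, g, u, hg, hgu, N, A, m, huN, hA, hup, hlow, hA2⟩ := core f y h
  haveI := hg
  obtain ⟨V₀, hV₀, hconst⟩ := hc
  obtain ⟨O, hOV, hO, hyO⟩ := mem_nhds_iff.mp hV₀
  obtain ⟨N', hN'⟩ : ∃ N' : U.Opens, (N' : Set U) = (N : Set U) ∩ g ⁻¹' O :=
    ⟨⟨_, N.2.inter (hO.preimage g.continuous)⟩, rfl⟩
  have huN' : u ∈ N' := by
    have h1 : u ∈ (N' : Set U) := by
      rw [hN']
      refine ⟨huN, ?_⟩
      rw [Set.mem_preimage, hgu]
      exact hyO
    exact h1
  have hle : pullback.snd f g ⁻¹ᵁ N' ≤ A := by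
    intro p hp
    have hp' : pullback.snd f g p ∈ (N' : Set U) := hp
    rw [hN'] at hp'
    refine hA2 (pullback.snd f g p) hp'.1 ?_ p rfl
    rw [hconst _ (hOV hp'.2)]
    exact hup
  have hfin : IsFinite (pullback.snd f g ∣_ N') :=
    isFinite_restrict_of_le (pullback.snd f g) A N' hA hle
  obtain ⟨W, hW⟩ : ∃ W : Y.Opens, (W : Set Y) = g '' (N' : Set U) :=
    ⟨⟨g '' (N' : Set U), g.isOpenMap _ N'.2⟩, rfl⟩
  refine ⟨W, ?_, ?_⟩
  · have h1 : y ∈ (W : Set Y) := by rw [hW]; exact ⟨u, huN', hgu⟩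
    exact h1
  · haveI := hfin
    haveI : UniversallyClosed (f ∣_ W) :=
      universallyClosed_restrict_of_etale f g N' W hW inferInstance
    exact {}

theorem main3418 {X Y : Scheme.{u}} (f : X ⟶ Y) [Flat f]
    [LocallyOfFinitePresentation f] [IsSeparated f] [LocallyQuasiFinite f] [QuasiCompact f] :
    LowerSemicontinuous (fun z : Y => MoreMor.nGeomConnComp f z) ∧
      ∀ y₀ : Y, (∃ V ∈ nhds y₀, ∀ z ∈ V,
          MoreMor.nGeomConnComp f z = MoreMor.nGeomConnComp f y₀) →
        ∃ U : Y.Opens, y₀ ∈ U ∧ IsProper (f ∣_ U) := by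
  haveI : UniversallyOpen f := inferInstance
  have huo : ∀ (y : Y) (x : X), f.base x = y → EGA43.IsUnivOpenAt f x := by
    intro y x _ Y' g x' _ O hO
    exact (pullback.snd f g).isOpenMap.image_mem_nhds hO
  refine ⟨?_, fun y₀ hc => main3412 f y₀ (huo y₀) hc⟩
  intro y c hc
  obtain ⟨V, hV, hle⟩ := main3411 f y (huo y)
  exact Filter.eventually_of_mem hV (fun z hz => lt_of_lt_of_le hc (hle z hz))

end Groth.Agent.Lib.GeomLscH4
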