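import Mathlib

/-!
# Finite étale covers realizing a finite separable extension at the generic point (helper8)
APPEND-ONLY once landed.
-/

set_option autoImplicit false
set_option linter.style.haveILetI false
universe u
open Polynomial

namespace FinEtCoverH8

section Res

variable {R S : Type*} [CommRing R] [CommRing S]

theorem map_resultant_eq (φ : R →+* S) [Nontrivial S] (P : R[X]) (hP : P.Monic) :
    φ (resultant P (derivative P)) = resultant (P.map φ) ((derivative P).map φ) := by
  have hmon : (P.map φ).Monic := hP.map φ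
  have hdeg : (P.map φ).natDegree = P.natDegree := hP.natDegree_map φ
  have hle : ((derivative P).map φ).natDegree ≤ (derivative P).natDegree := natDegree_map_le
  obtain ⟨j, hj⟩ := Nat.exists_eq_add_of_le hle
  have h1 : resultant (P.map φ) ((derivative P).map φ) P.natDegree (derivative P).natDegree =
      φ (resultant P (derivative P)) := resultant_map_map _ _ _ _ φ
  have h2 : resultant (P.map φ) ((derivative P).map φ) P.natDegree
      (((derivative P).map φ).natDegree + j) =
      (P.map φ).coeff P.natDegree ^ j *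
        resultant (P.map φ) ((derivative P).map φ) P.natDegree
          ((derivative P).map φ).natDegree :=
    resultant_add_right_deg _ _ _ _ _ le_rfl
  have h3 : (P.map φ).coeff P.natDegree = 1 := by
    rw [← hdeg]; exact hmon.coeff_natDegree
  rw [← h1, hj, h2, h3, one_pow, one_mul, hdeg]

/-- If the resultant of a monic `P` with its derivative becomes a unit, `P` becomes separable. -/
theorem isCoprime_map_of_isUnit_resultant (φ : R →+* S) (P : R[X]) (hP : P.Monic)
    (h : IsUnit (φ (resultant P (derivative P)))) :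
    IsCoprime (P.map φ) (derivative (P.map φ)) := by
  rcases subsingleton_or_nontrivial S with hS | hS
  · exact ⟨0, 0, Subsingleton.elim _ _⟩
  rw [derivative_map]
  rw [map_resultant_eq φ P hP] at h
  exact (isUnit_resultant_iff_isCoprime (hP.map φ)).mp h

theorem map_resultant_ne_zero {k : Type*} [Field k] (φ : R →+* k) (P : R[X]) (hP : P.Monic)
    (h : (P.map φ).Separable) : φ (resultant P (derivative P)) ≠ 0 := by
  rw [map_resultant_eq φ P hP]
  have h2 : IsCoprime (P.map φ) ((derivative P).map φ) := by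
    rw [← derivative_map]; exact h
  exact ((isUnit_resultant_iff_isCoprime (hP.map φ)).mpr h2).ne_zero

end Res

section LocStep

variable (A k : Type u) [CommRing A] [Field k] [Algebra A k]

/-- `k` is generated as a field by the image of `A`. -/
def Ratios : Prop :=
  ∀ c : k, ∃ a d : A, algebraMap A k d ≠ 0 ∧ c * algebraMap A k d = algebraMap A k a

/-- the kernel of `A → k` is contained in every prime. -/
def GenericKer : Prop :=
  ∀ 𝔭 : Ideal A, 𝔭.IsPrime → RingHom.ker (algebraMap A k) ≤ 𝔭

variable {A k}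

theorem exists_algebra_away (d : A) (hd : algebraMap A k d ≠ 0) :
    ∃ (_ : Algebra (Localization.Away d) k), IsScalarTower A (Localization.Away d) k ∧
      (Ratios A k → Ratios (Localization.Away d) k) ∧
      (GenericKer A k → GenericKer (Localization.Away d) k) := by
  have hu : IsUnit (algebraMap A k d) := hd.isUnit
  letI alg : Algebra (Localization.Away d) k := (IsLocalization.Away.lift d hu).toAlgebra
  haveI tow : IsScalarTower A (Localization.Away d) k :=
    IsScalarTower.of_algebraMap_eq (fun a => (IsLocalization.Away.lift_eq d hu a).symm)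
  refine ⟨alg, tow, ?_, ?_⟩
  · intro hk c
    obtain ⟨a, d', hd', hc⟩ := hk c
    refine ⟨algebraMap A _ a, algebraMap A _ d', ?_, ?_⟩
    · rwa [← IsScalarTower.algebraMap_apply]
    · rw [← IsScalarTower.algebraMap_apply, ← IsScalarTower.algebraMap_apply]
      exact hc
  · intro hgen 𝔓 h𝔓 x hx
    haveI := h𝔓
    obtain ⟨a, s, hxs⟩ := IsLocalization.exists_mk'_eq (Submonoid.powers d) x
    have h1 : x * algebraMap A (Localization.Away d) (s : A) = algebraMap A _ a := by
      rw [← hxs, IsLocalization.mk'_spec]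
    have h2 : algebraMap A k a = 0 := by
      rw [IsScalarTower.algebraMap_apply A (Localization.Away d) k, ← h1, map_mul,
        (RingHom.mem_ker).mp hx, zero_mul]
    have h3 : a ∈ 𝔓.comap (algebraMap A (Localization.Away d)) :=
      hgen _ inferInstance ((RingHom.mem_ker).mpr h2)
    have h4 : x * algebraMap A (Localization.Away d) (s : A) ∈ 𝔓 := by
      rw [h1]; exact h3
    exact (Ideal.mul_unit_mem_iff_mem 𝔓
      (IsLocalization.map_units (Localization.Away d) s)).mp h4

theorem exists_away_lifts (hk : Ratios A k) (p : k[X]) :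
    ∃ d : A, algebraMap A k d ≠ 0 ∧ ∀ (R : Type u) [CommRing R] [Algebra A R] [Algebra R k]
      [IsScalarTower A R k], IsUnit (algebraMap A R d) → p ∈ lifts (algebraMap R k) := by
  classical
  choose a d hd hcd using hk
  refine ⟨∏ i ∈ p.support, d (p.coeff i), ?_, ?_⟩
  · rw [map_prod]
    exact Finset.prod_ne_zero_iff.mpr (fun i _ => hd _)
  · intro R _ _ _ _ hu
    rw [lifts_iff_coeff_lifts]
    intro n
    by_cases hn : n ∈ p.support
    · have hdvd : d (p.coeff n) ∣ ∏ i ∈ p.support, d (p.coeff i) := Finset.dvd_prod_of_mem _ hn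
      have hun : IsUnit (algebraMap A R (d (p.coeff n))) :=
        isUnit_of_dvd_unit (map_dvd (algebraMap A R) hdvd) hu
      refine ⟨algebraMap A R (a (p.coeff n)) * ↑hun.unit⁻¹, ?_⟩
      have h1 : algebraMap R k (algebraMap A R (d (p.coeff n))) ≠ 0 := by
        rw [← IsScalarTower.algebraMap_apply]; exact hd _
      rw [map_mul, ← IsScalarTower.algebraMap_apply, ← hcd (p.coeff n), mul_assoc,
        IsScalarTower.algebraMap_apply A R k, ← map_mul, IsUnit.mul_val_inv, map_one, mul_one]
    · rw [notMem_support_iff.mp hn]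
      exact ⟨0, map_zero _⟩

end LocStep

section AdjoinRootProps

variable {R k L : Type u} [CommRing R] [Field k] [Field L] [Algebra R k] [Algebra k L]
  [Algebra R L] [IsScalarTower R k L]

theorem etale_adjoinRoot (P : R[X]) (hP : P.Monic) (hc : IsCoprime P (derivative P)) :
    Algebra.Etale R (AdjoinRoot P) := by
  obtain ⟨a, b, hab⟩ := hc
  let Pair : StandardEtalePair R :=
    { f := P, monic_f := hP, g := 1, cond := ⟨b, a, 1, by rw [pow_one]; linear_combination hab⟩ }
  have e₁ : Pair.Ring ≃ₐ[R] Localization.Away (AdjoinRoot.mk P (1 : R[X])) :=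
    Pair.equivAwayAdjoinRoot
  haveI : IsLocalization.Away (AdjoinRoot.mk P (1 : R[X])) (AdjoinRoot P) :=
    IsLocalization.away_of_isUnit_of_bijective _ (by rw [map_one]; exact isUnit_one)
      Function.bijective_id
  have e₂ : Localization.Away (AdjoinRoot.mk P (1 : R[X])) ≃ₐ[AdjoinRoot P] AdjoinRoot P :=
    IsLocalization.algEquiv (Submonoid.powers (AdjoinRoot.mk P (1 : R[X]))) _ _
  exact Algebra.Etale.of_equiv (e₁.trans (e₂.restrictScalars R))

theorem exists_mul_mem_lifts (hk : Ratios R k) (q : k[X]) :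
    ∃ c : R, algebraMap R k c ≠ 0 ∧ C (algebraMap R k c) * q ∈ lifts (algebraMap R k) := by
  classical
  choose a d hd hcd using hk
  refine ⟨∏ i ∈ q.support, d (q.coeff i), ?_, ?_⟩
  · rw [map_prod]
    exact Finset.prod_ne_zero_iff.mpr (fun i _ => hd _)
  · rw [lifts_iff_coeff_lifts]
    intro n
    rw [coeff_C_mul]
    by_cases hn : n ∈ q.support
    · refine ⟨(∏ i ∈ q.support.erase n, d (q.coeff i)) * a (q.coeff n), ?_⟩
      rw [← Finset.mul_prod_erase q.support (fun i => d (q.coeff i)) hn, map_mul, map_mul,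
        ← hcd (q.coeff n)]
      ring
    · rw [notMem_support_iff.mp hn, mul_zero]
      exact ⟨0, map_zero _⟩

variable (P : R[X]) (θ : L) (hPθ : P.map (algebraMap R k) = minpoly k θ)

include hPθ in
theorem eval₂_eq_zero [Algebra.IsIntegral k L] : P.eval₂ (Algebra.ofId R L) θ = 0 := by
  have h1 : P.eval₂ (algebraMap R L) θ = (P.map (algebraMap R k)).eval₂ (algebraMap k L) θ := by
    rw [eval₂_map, ← IsScalarTower.algebraMap_eq]
  show P.eval₂ (algebraMap R L) θ = 0
  rw [h1, hPθ]
  exact minpoly.aeval k θ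

/-- the evaluation map `R[X]/(P) → L`. -/
noncomputable def evalHom [Algebra.IsIntegral k L] : AdjoinRoot P →ₐ[R] L :=
  AdjoinRoot.liftAlgHom P (Algebra.ofId R L) θ (eval₂_eq_zero P θ hPθ)

theorem evalHom_mk [Algebra.IsIntegral k L] (Q : R[X]) :
    evalHom P θ hPθ (AdjoinRoot.mk P Q) = aeval θ (Q.map (algebraMap R k)) := by
  show AdjoinRoot.liftAlgHom P (Algebra.ofId R L) θ _ (AdjoinRoot.mk P Q) = _
  rw [AdjoinRoot.liftAlgHom_mk, aeval_def, eval₂_map, ← IsScalarTower.algebraMap_eq]
  rfl

theorem evalHom_ratios [Algebra.IsIntegral k L] (hk : Ratios R k) (hθ : IntermediateField.adjoin k {θ} = ⊤)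
    (x : L) : ∃ e₁ e₂ : AdjoinRoot P, evalHom P θ hPθ e₂ ≠ 0 ∧
      x * evalHom P θ hPθ e₂ = evalHom P θ hPθ e₁ := by
  have hint : IsIntegral k θ := Algebra.IsIntegral.isIntegral θ
  have hx : x ∈ Algebra.adjoin k {θ} := by
    rw [← IntermediateField.adjoin_simple_toSubalgebra_of_isAlgebraic hint.isAlgebraic, hθ]
    trivial
  rw [Algebra.adjoin_singleton_eq_range_aeval] at hx
  obtain ⟨q, rfl⟩ := hx
  obtain ⟨c, hc, hcq⟩ := exists_mul_mem_lifts hk q
  obtain ⟨qt, hqt⟩ := (mem_lifts _).mp hcq
  refine ⟨AdjoinRoot.mk P qt, AdjoinRoot.mk P (C c), ?_, ?_⟩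
  · rw [evalHom_mk, Polynomial.map_C, aeval_C]
    exact (map_ne_zero_iff _ (algebraMap k L).injective).mpr hc
  · rw [evalHom_mk, evalHom_mk, hqt, Polynomial.map_C, aeval_C, map_mul, aeval_C]
    exact mul_comm _ _

theorem mk_mem_map_of_coeff_mem (I : Ideal R) (N : R[X]) (hN : ∀ n, N.coeff n ∈ I) :
    AdjoinRoot.mk P N ∈ I.map (algebraMap R (AdjoinRoot P)) := by
  rw [N.as_sum_support_C_mul_X_pow, map_sum]
  refine Ideal.sum_mem _ (fun n _ => ?_)
  rw [map_mul]
  exact Ideal.mul_mem_right _ _ (Ideal.mem_map_of_mem _ (hN n))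

theorem ker_evalHom_le [Algebra.IsIntegral k L] (hP : P.Monic) (hk : Ratios R k)
    (hgen : GenericKer R k)
    (𝔔 : Ideal (AdjoinRoot P)) [h𝔔 : 𝔔.IsPrime] :
    RingHom.ker (evalHom P θ hPθ).toRingHom ≤ 𝔔 := by
  haveI : Module.Free R (AdjoinRoot P) := hP.free_adjoinRoot
  haveI hker : (RingHom.ker (algebraMap R k)).IsPrime := RingHom.ker_isPrime _
  haveI : 𝔔.LiesOver (𝔔.under R) := ⟨rfl⟩
  obtain ⟨𝔔', hle, h𝔔', hover⟩ := Ideal.exists_ideal_le_liesOver_of_le (p := RingHom.ker (algebraMap R k))
    (q := 𝔔.under R) 𝔔 (hgen _ inferInstance)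
  haveI := h𝔔'
  refine le_trans ?_ hle
  intro x hx
  obtain ⟨Q, rfl⟩ := AdjoinRoot.mk_surjective x
  have h0 : aeval θ (Q.map (algebraMap R k)) = 0 := by
    rw [← evalHom_mk P θ hPθ]; exact hx
  obtain ⟨Sq, hSq⟩ := minpoly.dvd k θ h0
  obtain ⟨c, hc, hcS⟩ := exists_mul_mem_lifts hk Sq
  obtain ⟨St, hSt⟩ := (mem_lifts _).mp hcS
  have hN : ∀ n, (C c * Q - P * St).coeff n ∈ RingHom.ker (algebraMap R k) := by
    intro n
    rw [RingHom.mem_ker, ← coeff_map, Polynomial.map_sub, Polynomial.map_mul, Polynomial.map_mul,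
      Polynomial.map_C, hSt, hSq, hPθ]
    have : C (algebraMap R k c) * (minpoly k θ * Sq) - minpoly k θ * (C (algebraMap R k c) * Sq) = 0 := by
      ring
    rw [this, coeff_zero]
  have h1 := mk_mem_map_of_coeff_mem P _ _ hN
  have h2 : (RingHom.ker (algebraMap R k)).map (algebraMap R (AdjoinRoot P)) ≤ 𝔔' := by
    rw [Ideal.map_le_iff_le_comap]
    exact (hover.over).le
  have h3 : AdjoinRoot.mk P (C c * Q - P * St) = AdjoinRoot.mk P (C c) * AdjoinRoot.mk P Q := by
    rw [map_sub, map_mul, map_mul, AdjoinRoot.mk_self, zero_mul, sub_zero]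
  rw [h3] at h1
  rcases h𝔔'.mem_or_mem (h2 h1) with h4 | h4
  · exfalso
    have h5 : c ∈ 𝔔'.under R := h4
    rw [← hover.over] at h5
    exact hc ((RingHom.mem_ker).mp h5)
  · exact h4

end AdjoinRootProps

section MainRing

open AlgebraicGeometry CategoryTheory

variable (A k L : Type u) [CommRing A] [Field k] [Field L] [Algebra A k] [Algebra k L]
  [FiniteDimensional k L] [Algebra.IsSeparable k L]

/-- After inverting finitely many elements of `A` not in the kernel, the minimal polynomial of a
primitive element of `L/k` lifts to a monic polynomial coprime to its derivative. -/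
theorem exists_localization_monic_separable (hk : Ratios A k) (hgen : GenericKer A k) :
    ∃ (R : Type u) (_ : CommRing R) (_ : Algebra A R) (_ : Algebra R k)
      (_ : IsScalarTower A R k) (P : R[X]) (θ : L),
      IsOpenImmersion (Spec.map (CommRingCat.ofHom (algebraMap A R))) ∧ Ratios R k ∧
      GenericKer R k ∧ P.Monic ∧ IsCoprime P (derivative P) ∧
      P.map (algebraMap R k) = minpoly k θ ∧ IntermediateField.adjoin k {θ} = ⊤ := by
  obtain ⟨θ, hθ⟩ := Field.exists_primitive_element k L
  have hint : IsIntegral k θ := Algebra.IsIntegral.isIntegral θ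
  obtain ⟨d₁, hd₁, hlift⟩ := exists_away_lifts hk (minpoly k θ)
  obtain ⟨alg₁, tow₁, hk₁, hgen₁⟩ := exists_algebra_away (k := k) d₁ hd₁
  letI := alg₁
  haveI := tow₁
  have hk₁' := hk₁ hk
  have hgen₁' := hgen₁ hgen
  obtain ⟨P₁, hP₁, -, hmon₁⟩ := lifts_and_natDegree_eq_and_monic
    (hlift (Localization.Away d₁) (IsLocalization.Away.algebraMap_isUnit d₁))
    (minpoly.monic hint)
  have hsep : (P₁.map (algebraMap (Localization.Away d₁) k)).Separable := by
    rw [hP₁]; exact Algebra.IsSeparable.isSeparable k θ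
  have hr₁ := map_resultant_ne_zero (algebraMap (Localization.Away d₁) k) P₁ hmon₁ hsep
  obtain ⟨alg₂, tow₂, hk₂, hgen₂⟩ := exists_algebra_away (k := k)
    (resultant P₁ (derivative P₁)) hr₁
  letI := alg₂
  haveI := tow₂
  have key : ∀ a : A, algebraMap A k a =
      algebraMap (Localization.Away (resultant P₁ (derivative P₁))) k
        (algebraMap A (Localization.Away (resultant P₁ (derivative P₁))) a) := by
    intro a
    have e1 := IsScalarTower.algebraMap_apply A (Localization.Away d₁) k a
    have e2 := IsScalarTower.algebraMap_apply (Localization.Away d₁)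
      (Localization.Away (resultant P₁ (derivative P₁))) k
      (algebraMap A (Localization.Away d₁) a)
    have e3 := IsScalarTower.algebraMap_apply A (Localization.Away d₁)
      (Localization.Away (resultant P₁ (derivative P₁))) a
    rw [e1, e2, ← e3]
  haveI towAk : IsScalarTower A (Localization.Away (resultant P₁ (derivative P₁))) k :=
    IsScalarTower.of_algebraMap_eq key
  refine ⟨Localization.Away (resultant P₁ (derivative P₁)), inferInstance, inferInstance, alg₂, towAk,
    P₁.map (algebraMap _ _), θ, ?_, hk₂ hk₁', hgen₂ hgen₁', hmon₁.map _, ?_, ?_, hθ⟩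
  · have h1 : CommRingCat.ofHom (algebraMap A (Localization.Away (resultant P₁ (derivative P₁)))) =
        CommRingCat.ofHom (algebraMap A (Localization.Away d₁)) ≫
          CommRingCat.ofHom (algebraMap (Localization.Away d₁)
            (Localization.Away (resultant P₁ (derivative P₁)))) := by
      ext a
      exact IsScalarTower.algebraMap_apply A (Localization.Away d₁)
        (Localization.Away (resultant P₁ (derivative P₁))) a
    rw [h1, Spec.map_comp]
    infer_instance
  · exact isCoprime_map_of_isUnit_resultant _ P₁ hmon₁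
      (IsLocalization.Away.algebraMap_isUnit (resultant P₁ (derivative P₁)))
  · rw [Polynomial.map_map, ← IsScalarTower.algebraMap_eq, hP₁]

end MainRing

end FinEtCoverH8
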