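import Mathlib
import Groth.Agent.Lib.FinEtCover_helper8

/-!
# Finite étale covers of an open of an irreducible scheme realizing a finite separable extension
of the function field (helper8)
APPEND-ONLY once landed.
-/

set_option autoImplicit false
set_option linter.style.haveILetI false
universe u
open Polynomial AlgebraicGeometry CategoryTheory

namespace FinEtCoverH8

section Aux

/-- A `K`-point of `Spec E` whose image generates `K` as a field identifies `K` with the residue
field of its image. -/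
theorem bijective_of_ratios {E K : Type u} [CommRing E] [Field K] (φ : E →+* K)
    (hφ : ∀ x : K, ∃ e₁ e₂ : E, φ e₂ ≠ 0 ∧ x * φ e₂ = φ e₁) :
    Function.Bijective ((Scheme.SpecToEquivOfField K (Spec (CommRingCat.of E))
      (Spec.map (CommRingCat.ofHom φ))).2).hom := by
  set tK : Spec (CommRingCat.of K) ⟶ Spec (CommRingCat.of E) :=
    Spec.map (CommRingCat.ofHom φ) with htK
  have hg : Spec.map ((Scheme.SpecToEquivOfField K _) tK).2 ≫
      (Spec (CommRingCat.of E)).fromSpecResidueField ((Scheme.SpecToEquivOfField K _) tK).1 = tK :=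
    (Scheme.SpecToEquivOfField K _).symm_apply_apply tK
  refine ⟨RingHom.injective _, ?_⟩
  rw [Scheme.fromSpecResidueField, Spec.fromSpecStalk_eq, ← Spec.map_comp, ← Spec.map_comp, htK]
    at hg
  have hg' := Spec.map_injective hg
  intro x
  obtain ⟨e₁, e₂, he₂, hx⟩ := hφ x
  set ρ : CommRingCat.of E ⟶ (Spec (CommRingCat.of E)).residueField
      ((Scheme.SpecToEquivOfField K _) tK).1 :=
    ((Scheme.ΓSpecIso (CommRingCat.of E)).inv ≫
      (Spec (CommRingCat.of E)).presheaf.germ ⊤ _ trivial) ≫
      (Spec (CommRingCat.of E)).residue _ with hρ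
  have h1 : ∀ e : E, ((Scheme.SpecToEquivOfField K _) tK).2.hom (ρ.hom e) = φ e := by
    intro e
    exact congrArg (fun m : CommRingCat.of E ⟶ CommRingCat.of K => m.hom e) hg'
  refine ⟨ρ.hom e₁ / ρ.hom e₂, ?_⟩
  rw [map_div₀, h1, h1, ← hx, mul_div_assoc, div_self he₂, mul_one]

variable {S : Scheme.{u}} {V : S.Opens} (hV : IsAffineOpen V) (s : S) (hsV : s ∈ V)

/-- the canonical map `Γ(S, V) → κ(s)`. -/
noncomputable def evalResidue : Γ(S, V) ⟶ S.residueField s :=
  S.presheaf.germ V s hsV ≫ S.residue s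

include hV in
theorem specMap_evalResidue_fromSpec :
    Spec.map (evalResidue s hsV) ≫ hV.fromSpec = S.fromSpecResidueField s := by
  rw [Scheme.fromSpecResidueField, ← hV.fromSpecStalk_eq_fromSpecStalk hsV,
    IsAffineOpen.fromSpecStalk, evalResidue, Spec.map_comp, Category.assoc]

include hV in
theorem ratios_evalResidue :
    letI : Algebra Γ(S, V) (S.residueField s) := (evalResidue s hsV).hom.toAlgebra
    Ratios Γ(S, V) (S.residueField s) := by
  letI algAk : Algebra Γ(S, V) (S.residueField s) := (evalResidue s hsV).hom.toAlgebra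
  letI algRA : Algebra Γ(S, V) (S.presheaf.stalk s) := S.presheaf.algebra_section_stalk ⟨s, hsV⟩
  haveI hlocA : IsLocalization.AtPrime (S.presheaf.stalk s)
      (hV.primeIdealOf ⟨s, hsV⟩).asIdeal := hV.isLocalization_stalk ⟨s, hsV⟩
  intro c
  obtain ⟨z, rfl⟩ := IsLocalRing.residue_surjective c
  obtain ⟨a, d, hz⟩ := IsLocalization.exists_mk'_eq
    (hV.primeIdealOf ⟨s, hsV⟩).asIdeal.primeCompl z
  have hu : IsUnit (algebraMap Γ(S, V) (S.presheaf.stalk s) (d : Γ(S, V))) :=
    IsLocalization.map_units (S.presheaf.stalk s) d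
  refine ⟨a, d, ?_, ?_⟩
  · exact (hu.map (IsLocalRing.residue (S.presheaf.stalk s))).ne_zero
  · show IsLocalRing.residue _ z * IsLocalRing.residue _
      (algebraMap Γ(S, V) (S.presheaf.stalk s) (d : Γ(S, V))) =
      IsLocalRing.residue _ (algebraMap Γ(S, V) (S.presheaf.stalk s) a)
    rw [← map_mul, ← hz, IsLocalization.mk'_spec]

include hV in
theorem genericKer_evalResidue [IrreducibleSpace ↑S] (hη : genericPoint ↑S ∈ V) :
    letI : Algebra Γ(S, V) (S.residueField (genericPoint ↑S)) :=
      (evalResidue (genericPoint ↑S) hη).hom.toAlgebra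
    GenericKer Γ(S, V) (S.residueField (genericPoint ↑S)) := by
  letI algAk : Algebra Γ(S, V) (S.residueField (genericPoint ↑S)) :=
    (evalResidue (genericPoint ↑S) hη).hom.toAlgebra
  intro 𝔭 h𝔭 a ha
  by_contra hna
  have hx : hV.fromSpec ⟨𝔭, h𝔭⟩ ∈ S.basicOpen a := by
    have : (⟨𝔭, h𝔭⟩ : PrimeSpectrum Γ(S, V)) ∈ hV.fromSpec ⁻¹ᵁ S.basicOpen a := by
      rw [hV.fromSpec_preimage_basicOpen]
      exact hna
    exact this
  have hη' : genericPoint ↑S ∈ S.basicOpen a :=
    ((genericPoint_spec S).mem_open_set_iff (S.basicOpen a).2).2 ⟨_, Set.mem_univ _, hx⟩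
  rw [Scheme.mem_basicOpen S a _ hη] at hη'
  have h1 : IsUnit ((evalResidue (genericPoint ↑S) hη).hom a) :=
    hη'.map (S.residue (genericPoint ↑S)).hom
  exact h1.ne_zero ((RingHom.mem_ker).mp ha)

end Aux

section Cover

open CategoryTheory.Limits

/-- Over an irreducible scheme, a finite separable extension of the function field is realized
by a finite étale cover of a nonempty open. -/
theorem exists_finite_etale_cover (S : Scheme.{u}) [IrreducibleSpace ↑S] (L : Type u) [Field L]
    [Algebra (S.residueField (genericPoint ↑S)) L]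
    [FiniteDimensional (S.residueField (genericPoint ↑S)) L]
    [Algebra.IsSeparable (S.residueField (genericPoint ↑S)) L] :
    ∃ (V : S.Opens) (Y' : Scheme.{u}) (g : Y' ⟶ (V : Scheme.{u}))
      (tL : Spec (CommRingCat.of L) ⟶ Y') (_ : IrreducibleSpace ↑Y'),
      genericPoint ↑S ∈ V ∧ IsAffine Y' ∧ Surjective g ∧ IsFinite g ∧ Etale g ∧
      tL ≫ g ≫ V.ι = Spec.map (CommRingCat.ofHom
        (algebraMap (S.residueField (genericPoint ↑S)) L)) ≫
        S.fromSpecResidueField (genericPoint ↑S) ∧
      tL (IsLocalRing.closedPoint L) = genericPoint ↑Y' ∧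
      Function.Bijective ((Scheme.SpecToEquivOfField L Y' tL).2).hom := by
  obtain ⟨V₀, hV₀, hηV₀, -⟩ :=
    exists_isAffineOpen_mem_and_subset (x := genericPoint ↑S) (U := ⊤) trivial
  letI algAk : Algebra Γ(S, V₀) (S.residueField (genericPoint ↑S)) :=
    (evalResidue (genericPoint ↑S) hηV₀).hom.toAlgebra
  have hk := ratios_evalResidue hV₀ (genericPoint ↑S) hηV₀
  have hgen := genericKer_evalResidue hV₀ hηV₀
  obtain ⟨R, _, _, algRk, towARk, P, θ, hopen, hkR, hgenR, hmon, hcop, hPθ, hθ⟩ :=
    exists_localization_monic_separable Γ(S, V₀) (S.residueField (genericPoint ↑S)) L hk hgen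
  letI := algRk
  haveI := towARk
  haveI := hopen
  letI algRL : Algebra R L :=
    ((algebraMap (S.residueField (genericPoint ↑S)) L).comp
      (algebraMap R (S.residueField (genericPoint ↑S)))).toAlgebra
  haveI towRkL : IsScalarTower R (S.residueField (genericPoint ↑S)) L :=
    IsScalarTower.of_algebraMap_eq (fun _ => rfl)
  haveI hfree : Module.Free R (AdjoinRoot P) := hmon.free_adjoinRoot
  haveI hfin : Module.Finite R (AdjoinRoot P) := hmon.finite_adjoinRoot
  haveI het : Algebra.Etale R (AdjoinRoot P) := etale_adjoinRoot P hmon hcop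
  haveI hnt : Nontrivial (AdjoinRoot P) := (evalHom P θ hPθ).toRingHom.domain_nontrivial
  -- the open immersion `Spec R → S`
  let j : Spec (CommRingCat.of R) ⟶ S :=
    Spec.map (CommRingCat.ofHom (algebraMap Γ(S, V₀) R)) ≫ hV₀.fromSpec
  haveI : IsOpenImmersion j := inferInstanceAs (IsOpenImmersion (_ ≫ _))
  haveI hntR : Nontrivial R := (algebraMap R (S.residueField (genericPoint ↑S))).domain_nontrivial
  have hηV : genericPoint ↑S ∈ j.opensRange := by
    obtain ⟨x⟩ : Nonempty ↥(Spec (CommRingCat.of R)) :=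
      inferInstanceAs (Nonempty (PrimeSpectrum R))
    exact ((genericPoint_spec S).mem_open_set_iff j.opensRange.2).2
      ⟨j x, Set.mem_univ _, ⟨x, rfl⟩⟩
  let g₀ : Spec (CommRingCat.of (AdjoinRoot P)) ⟶ Spec (CommRingCat.of R) :=
    Spec.map (CommRingCat.ofHom (algebraMap R (AdjoinRoot P)))
  haveI hg₀et : Etale g₀ :=
    (HasRingHomProperty.Spec_iff (P := @Etale)).mpr (RingHom.etale_algebraMap.mpr het)
  haveI hg₀fin : IsFinite g₀ :=
    (IsFinite.SpecMap_iff _).mpr (RingHom.finite_algebraMap.mpr hfin)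
  haveI hg₀surj : Surjective g₀ :=
    ⟨PrimeSpectrum.comap_surjective_of_faithfullyFlat (A := R) (B := AdjoinRoot P)⟩
  let tL : Spec (CommRingCat.of L) ⟶ Spec (CommRingCat.of (AdjoinRoot P)) :=
    Spec.map (CommRingCat.ofHom (evalHom P θ hPθ).toRingHom)
  -- the generic point
  have hclos : ∀ y : ↥(Spec (CommRingCat.of (AdjoinRoot P))),
      tL (IsLocalRing.closedPoint L) ⤳ y := by
    intro y
    refine (PrimeSpectrum.le_iff_specializes
      (tL (IsLocalRing.closedPoint L) : PrimeSpectrum (AdjoinRoot P))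
      (y : PrimeSpectrum (AdjoinRoot P))).mp ?_
    intro x hx
    have hx' : x ∈ RingHom.ker (evalHom P θ hPθ).toRingHom := by
      have h1 : (evalHom P θ hPθ).toRingHom x ∈ IsLocalRing.maximalIdeal L := hx
      rw [IsLocalRing.maximalIdeal_eq_bot] at h1
      exact h1
    exact ker_evalHom_le P θ hPθ hmon hkR hgenR y.asIdeal hx'
  have hgenpt : IsGenericPoint (tL (IsLocalRing.closedPoint L))
      (Set.univ : Set ↥(Spec (CommRingCat.of (AdjoinRoot P)))) := by
    apply Set.eq_univ_of_univ_subset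
    intro y _
    exact (hclos y).mem_closure
  haveI hirr : IrreducibleSpace ↥(Spec (CommRingCat.of (AdjoinRoot P))) := by
    have h1 : IsIrreducible (Set.univ : Set ↥(Spec (CommRingCat.of (AdjoinRoot P)))) := by
      rw [← hgenpt.def]
      exact isIrreducible_singleton.closure
    exact { toPreirreducibleSpace := ⟨h1.isPreirreducible⟩, toNonempty := ⟨tL (IsLocalRing.closedPoint L)⟩ }
  refine ⟨j.opensRange, Spec (CommRingCat.of (AdjoinRoot P)), g₀ ≫ j.isoOpensRange.hom, tL, hirr,
    hηV, inferInstance, inferInstance, inferInstance, inferInstance, ?_, ?_, ?_⟩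
  · rw [Category.assoc, Scheme.Hom.isoOpensRange_hom_ι]
    show Spec.map (CommRingCat.ofHom (evalHom P θ hPθ).toRingHom) ≫
      Spec.map (CommRingCat.ofHom (algebraMap R (AdjoinRoot P))) ≫
      Spec.map (CommRingCat.ofHom (algebraMap Γ(S, V₀) R)) ≫ hV₀.fromSpec = _
    rw [← specMap_evalResidue_fromSpec hV₀ (genericPoint ↑S) hηV₀, ← Spec.map_comp_assoc,
      ← Spec.map_comp_assoc, ← Spec.map_comp_assoc]
    congr 2
    ext a
    show (evalHom P θ hPθ) (algebraMap R (AdjoinRoot P) (algebraMap Γ(S, V₀) R a)) =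
      algebraMap (S.residueField (genericPoint ↑S)) L
        (algebraMap Γ(S, V₀) (S.residueField (genericPoint ↑S)) a)
    rw [AlgHom.commutes, IsScalarTower.algebraMap_apply Γ(S, V₀) R
      (S.residueField (genericPoint ↑S))]
    rfl
  · exact (hgenpt.eq (genericPoint_spec _)).symm ▸ rfl
  · exact bijective_of_ratios (evalHom P θ hPθ).toRingHom
      (fun x => evalHom_ratios P θ hPθ hkR hθ x)

end Cover

end FinEtCoverH8
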