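import Mathlib
import Groth.Agent.Lib.GeomConnB_helper8
import Groth.Agent.Lib.GeomConnA_helper8
import Groth.Agent.Lib.FinEtCoverSch_helper8

/-!
# Making the components of the generic fibre geometrically irreducible by a finite étale cover
(S1357), helper8.  APPEND-ONLY once landed.
-/

set_option autoImplicit false
set_option linter.style.haveILetI false
universe u
open scoped TensorProduct
open CategoryTheory CategoryTheory.Limits AlgebraicGeometry

namespace GeomConnH8

open Groth.Agent.Lib.GeomConnFinH4 Groth.Agent.Lib.GeomIrrCompsH4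

local notation:max "sm[" k ", " K "]" => Spec.map (CommRingCat.ofHom (algebraMap k K))

/-- For a scheme of finite type over a field there is a finite separable extension over which
all irreducible components are geometrically irreducible. -/
theorem exists_finite_sep_ext_irr {k : Type u} [Field k] {T : Scheme.{u}}
    (f₀ : T ⟶ Spec (CommRingCat.of k)) [LocallyOfFiniteType f₀] [QuasiCompact f₀] :
    ∃ (L : Type u) (_ : Field L) (_ : Algebra k L), FiniteDimensional k L ∧
      Algebra.IsSeparable k L ∧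
      ∀ (K : Type u) [Field K] [Algebra L K] (Z' : Set ↥(FBase.bc f₀ L)),
        Z' ∈ irreducibleComponents ↥(FBase.bc f₀ L) →
          IsIrreducible (⇑(FBase.bcπ (FBase.bcStr f₀ L) K) ⁻¹' Z') := by
  haveI : LocallyOfFiniteType (pullback.snd f₀ sm[k, SeparableClosure k]) :=
    MorphismProperty.pullback_snd _ _ inferInstance
  haveI : QuasiCompact (pullback.snd f₀ sm[k, SeparableClosure k]) :=
    MorphismProperty.pullback_snd _ _ inferInstance
  haveI : IsLocallyNoetherian (pullback f₀ sm[k, SeparableClosure k]) :=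
    LocallyOfFiniteType.isLocallyNoetherian (pullback.snd f₀ sm[k, SeparableClosure k])
  haveI : CompactSpace ↥(pullback f₀ sm[k, SeparableClosure k]) :=
    QuasiCompact.compactSpace_of_compactSpace (pullback.snd f₀ sm[k, SeparableClosure k])
  haveI : IsNoetherian (pullback f₀ sm[k, SeparableClosure k]) := {}
  haveI : Finite ↥(irreducibleComponents ↥(pullback f₀ sm[k, SeparableClosure k])) :=
    TopologicalSpace.NoetherianSpace.finite_irreducibleComponents.to_subtype
  obtain ⟨E, hEfd, hEprop⟩ := exists_field_irr f₀ (SeparableClosure k)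
  refine ⟨↥E, inferInstance, inferInstance, hEfd,
    Algebra.isSeparable_tower_bot_of_isSeparable k ↥E (SeparableClosure k), ?_⟩
  intro K _ _ Z' hZ'
  refine stepB_irr (FBase.bcStr f₀ ↥E) (SeparableClosure k) Z' ?_
  have h0 : IsIrreducible ((Groth.Agent.Lib.BCPointH4.bcMap f₀ ↥E (SeparableClosure k)) ⁻¹' Z') :=
    hEprop Z' hZ'
  have e : (Groth.Agent.Lib.BCPointH4.bcMap f₀ ↥E (SeparableClosure k)) ⁻¹' Z' =
      (Groth.Agent.Lib.BCPointH4.eBC f₀ ↥E (SeparableClosure k)).hom.homeomorph ⁻¹'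
        ((FBase.bcπ (FBase.bcStr f₀ ↥E) (SeparableClosure k)) ⁻¹' Z') := by
    ext z
    show (Groth.Agent.Lib.BCPointH4.bcMap f₀ ↥E (SeparableClosure k)) z ∈ Z' ↔
      (FBase.bcπ (FBase.bcStr f₀ ↥E) (SeparableClosure k))
        ((Groth.Agent.Lib.BCPointH4.eBC f₀ ↥E (SeparableClosure k)).hom z) ∈ Z'
    rw [← Scheme.Hom.comp_apply, Groth.Agent.Lib.BCPointH4.eBC_hom_fst]
  rw [e] at h0
  exact isIrreducible_of_homeomorph_preimage _ h0

section GIC

theorem image_mem_irreducibleComponents {α β : Type*} [TopologicalSpace α] [TopologicalSpace β]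
    (e : α ≃ₜ β) {Z : Set α} (hZ : Z ∈ irreducibleComponents α) :
    e '' Z ∈ irreducibleComponents β := by
  refine ⟨hZ.1.image e e.continuous.continuousOn, ?_⟩
  intro W hW hZW
  have h1 : IsIrreducible (e ⁻¹' W) := (Homeomorph.isIrreducible_preimage_iff' e W).mpr hW
  have h2 : Z ≤ e ⁻¹' W := fun z hz => hZW ⟨z, hz, rfl⟩
  have h3 : e ⁻¹' W ≤ Z := hZ.2 h1 h2
  intro w hw
  refine ⟨e.symm w, h3 ?_, e.apply_symm_apply w⟩
  show e (e.symm w) ∈ W
  rw [e.apply_symm_apply]
  exact hw

/-- all irreducible components of the source are geometrically irreducible over the target. -/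
def GeomIrrComps {P T : Scheme.{u}} (b : P ⟶ T) : Prop :=
  ∀ (K : Type u) [Field K] (s : Spec (CommRingCat.of K) ⟶ T) (Z : Set ↥P),
    Z ∈ irreducibleComponents ↥P → IsIrreducible ((pullback.fst b s) ⁻¹' Z)

theorem GeomIrrComps.of_iso {P P' T T' : Scheme.{u}} {b : P ⟶ T} {b' : P' ⟶ T'}
    (e : P' ≅ P) (τ : T' ≅ T) (h : b' ≫ τ.hom = e.hom ≫ b) (hb : GeomIrrComps b) :
    GeomIrrComps b' := by
  intro K _ s' Z' hZ'
  have hZ : e.hom '' Z' ∈ irreducibleComponents ↥P :=
    image_mem_irreducibleComponents e.hom.homeomorph hZ'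
  have sqR : IsPullback e.hom b' b τ.hom := IsPullback.of_horiz_isIso ⟨h.symm⟩
  have sq := (IsPullback.of_hasPullback b' s').paste_horiz sqR
  have h1 := (isIrreducible_preimage_iff_of_isPullback b sq (e.hom '' Z')).mpr
    (hb K (s' ≫ τ.hom) _ hZ)
  have h2 : (pullback.fst b' s' ≫ e.hom) ⁻¹' (e.hom '' Z') = (pullback.fst b' s') ⁻¹' Z' := by
    ext z
    constructor
    · rintro ⟨w, hw, hwz⟩
      have : w = pullback.fst b' s' z := by
        apply e.hom.homeomorph.injective
        rw [Scheme.Hom.comp_apply] at hwz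
        exact hwz
      show pullback.fst b' s' z ∈ Z'
      rw [← this]; exact hw
    · intro hz
      exact ⟨_, hz, (Scheme.Hom.comp_apply _ _ _).symm⟩
  rw [h2] at h1
  exact h1

theorem geometricallyIrreducible_of_geomIrrComps {P T : Scheme.{u}} (b : P ⟶ T)
    (hb : GeomIrrComps b) (Z : Set ↥P) (hZ : Z ∈ irreducibleComponents ↥P) :
    GeometricallyIrreducible ((Scheme.IdealSheafData.vanishingIdeal
      (⟨Z, isClosed_of_mem_irreducibleComponents Z hZ⟩ :
        TopologicalSpace.Closeds ↥P)).subschemeι ≫ b) := by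
  have hrange : Set.range (Scheme.IdealSheafData.vanishingIdeal
      (⟨Z, isClosed_of_mem_irreducibleComponents Z hZ⟩ :
        TopologicalSpace.Closeds ↥P)).subschemeι = Z := by
    rw [Scheme.IdealSheafData.range_subschemeι, Scheme.IdealSheafData.coe_support_vanishingIdeal]
    rfl
  refine ⟨(geometrically_iff_of_isClosedUnderIsomorphisms).mpr (fun K _ t => ?_)⟩
  rw [irreducibleSpace_pullback_comp_iff b _ t, hrange]
  exact hb K t Z hZ

end GIC

section Main

theorem geomIrrComps_bcStr {k : Type u} [Field k] {T : Scheme.{u}}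
    (f₀ : T ⟶ Spec (CommRingCat.of k)) (L : Type u) [Field L] [Algebra k L]
    (hL : ∀ (K : Type u) [Field K] [Algebra L K] (Z' : Set ↥(FBase.bc f₀ L)),
      Z' ∈ irreducibleComponents ↥(FBase.bc f₀ L) →
        IsIrreducible (⇑(FBase.bcπ (FBase.bcStr f₀ L) K) ⁻¹' Z')) :
    GeomIrrComps (FBase.bcStr f₀ L) := by
  intro K _ s Z hZ
  obtain ⟨σ, rfl⟩ : ∃ σ : CommRingCat.of L ⟶ CommRingCat.of K, Spec.map σ = s :=
    ⟨Spec.preimage s, Spec.map_preimage s⟩
  letI : Algebra L K := σ.hom.toAlgebra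
  exact hL K Z hZ

variable {X Y : Scheme.{u}} (f : X ⟶ Y)

/-- S1357 -/
theorem main1357 [IrreducibleSpace ↑Y] [LocallyOfFiniteType f] [QuasiCompact f] :
    ∃ (V : Y.Opens) (Y' : Scheme.{u}) (g : Y' ⟶ (V : Scheme.{u})) (hY' : IrreducibleSpace ↑Y'),
      (V : Set ↑Y).Nonempty ∧ IsAffine Y' ∧ Surjective g ∧ IsFinite g ∧ Etale g ∧
      ∀ (Z : Set ↑((pullback.snd f (g ≫ V.ι)).fiber (genericPoint ↑Y')))
        (hZ : Z ∈ irreducibleComponents ↑((pullback.snd f (g ≫ V.ι)).fiber (genericPoint ↑Y'))),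
        GeometricallyIrreducible ((Scheme.IdealSheafData.vanishingIdeal
          (⟨Z, isClosed_of_mem_irreducibleComponents Z hZ⟩ :
            TopologicalSpace.Closeds _)).subschemeι ≫
          (pullback.snd f (g ≫ V.ι)).fiberToSpecResidueField (genericPoint ↑Y')) := by
  haveI : LocallyOfFiniteType (f.fiberToSpecResidueField (genericPoint ↑Y)) :=
    MorphismProperty.pullback_snd _ _ inferInstance
  haveI : QuasiCompact (f.fiberToSpecResidueField (genericPoint ↑Y)) :=
    MorphismProperty.pullback_snd _ _ inferInstance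
  obtain ⟨L, _, _, hfd, hsep, hL⟩ := exists_finite_sep_ext_irr
    (k := Y.residueField (genericPoint ↑Y)) (f.fiberToSpecResidueField (genericPoint ↑Y))
  haveI := hfd
  haveI := hsep
  obtain ⟨V, Y', g, tL, hirr, hηV, haff, hsurj, hfin, het, hcomp, hgenpt, hbij⟩ :=
    FinEtCoverH8.exists_finite_etale_cover Y L
  refine ⟨V, Y', g, hirr, ⟨_, hηV⟩, haff, hsurj, hfin, het, ?_⟩
  intro Z hZ
  refine geometricallyIrreducible_of_geomIrrComps _ ?_ Z hZ
  obtain ⟨u, ψ, hfac, hbij'⟩ : ∃ (u : Y') (ψ : Y'.residueField u ⟶ CommRingCat.of L),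
      Spec.map ψ ≫ Y'.fromSpecResidueField u = tL ∧ Function.Bijective ψ.hom :=
    ⟨_, _, (Scheme.SpecToEquivOfField L Y').symm_apply_apply tL, hbij⟩
  have hu : u = genericPoint ↑Y' := by
    rw [← hgenpt, ← hfac, Scheme.Hom.comp_apply, Scheme.fromSpecResidueField_apply]
  subst hu
  haveI : IsIso ψ := (ConcreteCategory.isIso_iff_bijective ψ).mpr hbij'
  have sq1 : IsPullback
      ((pullback.snd f (g ≫ V.ι)).fiberι (genericPoint ↑Y') ≫ pullback.fst f (g ≫ V.ι))
      ((pullback.snd f (g ≫ V.ι)).fiberToSpecResidueField (genericPoint ↑Y')) f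
      (Y'.fromSpecResidueField (genericPoint ↑Y') ≫ g ≫ V.ι) :=
    (IsPullback.of_hasPullback (pullback.snd f (g ≫ V.ι))
      (Y'.fromSpecResidueField (genericPoint ↑Y'))).paste_horiz
      (IsPullback.of_hasPullback f (g ≫ V.ι))
  have sq2 : IsPullback
      (FBase.bcπ (k := Y.residueField (genericPoint ↑Y)) (f.fiberToSpecResidueField (genericPoint ↑Y)) L ≫ f.fiberι (genericPoint ↑Y))
      (FBase.bcStr (k := Y.residueField (genericPoint ↑Y)) (f.fiberToSpecResidueField (genericPoint ↑Y)) L) f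
      (Spec.map (CommRingCat.ofHom (algebraMap (Y.residueField (genericPoint ↑Y)) L)) ≫
        Y.fromSpecResidueField (genericPoint ↑Y)) :=
    (IsPullback.of_hasPullback (f.fiberToSpecResidueField (genericPoint ↑Y))
      (Spec.map (CommRingCat.ofHom (algebraMap (Y.residueField (genericPoint ↑Y)) L)))).paste_horiz
      (IsPullback.of_hasPullback f (Y.fromSpecResidueField (genericPoint ↑Y)))
  have htη : Spec.map (CommRingCat.ofHom (algebraMap (Y.residueField (genericPoint ↑Y)) L)) ≫
      Y.fromSpecResidueField (genericPoint ↑Y) =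
      Spec.map ψ ≫ Y'.fromSpecResidueField (genericPoint ↑Y') ≫ g ≫ V.ι := by
    rw [← hcomp, ← hfac, Category.assoc]
  have hψ : Spec.map (inv ψ) ≫ Spec.map ψ = 𝟙 _ := by
    rw [← Spec.map_comp, IsIso.hom_inv_id, Spec.map_id]
  have hψ' : Spec.map ψ ≫ Spec.map (inv ψ) = 𝟙 _ := by
    rw [← Spec.map_comp, IsIso.inv_hom_id, Spec.map_id]
  have w1 : ((pullback.snd f (g ≫ V.ι)).fiberι (genericPoint ↑Y') ≫ pullback.fst f (g ≫ V.ι)) ≫ f =
      ((pullback.snd f (g ≫ V.ι)).fiberToSpecResidueField (genericPoint ↑Y') ≫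
        Spec.map (inv ψ)) ≫
      (Spec.map (CommRingCat.ofHom (algebraMap (Y.residueField (genericPoint ↑Y)) L)) ≫
        Y.fromSpecResidueField (genericPoint ↑Y)) := by
    rw [sq1.w, htη, Category.assoc, ← Category.assoc (Spec.map (inv ψ)), hψ, Category.id_comp]
  have w2 : (FBase.bcπ (k := Y.residueField (genericPoint ↑Y)) (f.fiberToSpecResidueField (genericPoint ↑Y)) L ≫
        f.fiberι (genericPoint ↑Y)) ≫ f =
      (FBase.bcStr (k := Y.residueField (genericPoint ↑Y)) (f.fiberToSpecResidueField (genericPoint ↑Y)) L ≫ Spec.map ψ) ≫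
      (Y'.fromSpecResidueField (genericPoint ↑Y') ≫ g ≫ V.ι) := by
    rw [sq2.w, htη, Category.assoc]
  let e : (pullback.snd f (g ≫ V.ι)).fiber (genericPoint ↑Y') ≅
      FBase.bc (k := Y.residueField (genericPoint ↑Y)) (f.fiberToSpecResidueField (genericPoint ↑Y)) L :=
    { hom := sq2.lift _ _ w1
      inv := sq1.lift _ _ w2
      hom_inv_id := by
        apply sq1.hom_ext
        · rw [Category.assoc, sq1.lift_fst, sq2.lift_fst, Category.id_comp]
        · rw [Category.assoc, sq1.lift_snd, ← Category.assoc, sq2.lift_snd, Category.assoc, hψ,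
            Category.comp_id, Category.id_comp]
      inv_hom_id := by
        apply sq2.hom_ext
        · rw [Category.assoc, sq2.lift_fst, sq1.lift_fst, Category.id_comp]
        · rw [Category.assoc, sq2.lift_snd, ← Category.assoc, sq1.lift_snd, Category.assoc, hψ',
            Category.comp_id, Category.id_comp] }
  refine GeomIrrComps.of_iso e (asIso (Spec.map (inv ψ))) ?_
    (geomIrrComps_bcStr (k := Y.residueField (genericPoint ↑Y)) (f.fiberToSpecResidueField (genericPoint ↑Y)) L hL)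
  show _ ≫ Spec.map (inv ψ) = sq2.lift _ _ w1 ≫ _
  rw [sq2.lift_snd]

end Main

end GeomConnH8
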