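import Mathlib

set_option autoImplicit false
universe u
open AlgebraicGeometry CategoryTheory TopologicalSpace Opposite

namespace Groth.Agent.Lib.SteinSectionsH7

/-- A ring map between localizations away from `a`, `φ a`, lying over a bijective ring map `φ`,
is bijective. -/
theorem bijective_of_isLocalization_away {R R' L L' : Type*} [CommRing R] [CommRing R']
    [CommRing L] [CommRing L'] [Algebra R L] [Algebra R' L'] (φ : R →+* R')
    (hφ : Function.Bijective φ) (ψ : L →+* L') (a : R) [IsLocalization.Away a L]
    [IsLocalization.Away (φ a) L']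
    (hcomm : ψ.comp (algebraMap R L) = (algebraMap R' L').comp φ) : Function.Bijective ψ := by
  let e : R ≃+* R' := RingEquiv.ofBijective φ hφ
  have H : (Submonoid.powers a).map e.toMonoidHom = Submonoid.powers (φ a) := by
    rw [Submonoid.map_powers]; rfl
  let E := IsLocalization.ringEquivOfRingEquiv L L' e H
  have : ψ = (E : L →+* L') := by
    apply IsLocalization.ringHom_ext (Submonoid.powers a)
    ext x
    have h1 := RingHom.congr_fun hcomm x
    rw [RingHom.comp_apply, RingHom.comp_apply] at h1
    rw [RingHom.comp_apply, RingHom.comp_apply, h1]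
    exact (IsLocalization.ringEquivOfRingEquiv_eq H x).symm
  rw [this]
  exact E.bijective

/-- For a qcqs morphism `g`, if `g.app W` is an isomorphism on an affine open `W` then so is
`g.app (D(a))` for every `a ∈ Γ(Y, W)`. -/
theorem isIso_app_basicOpen {X Y : Scheme.{u}} (g : X ⟶ Y) [QuasiCompact g] [QuasiSeparated g]
    {W : Y.Opens} (hW : IsAffineOpen W) (a : Γ(Y, W)) (hiso : IsIso (g.app W)) :
    IsIso (g.app (Y.basicOpen a)) := by
  have hpre : g ⁻¹ᵁ Y.basicOpen a = X.basicOpen ((g.app W).hom a) := g.preimage_basicOpen a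
  haveI : IsLocalization.Away a Γ(Y, Y.basicOpen a) := hW.isLocalization_basicOpen a
  haveI : IsLocalization.Away ((g.app W).hom a) Γ(X, X.basicOpen ((g.app W).hom a)) :=
    isLocalization_basicOpen_of_qcqs (g.isCompact_preimage hW.isCompact)
      (g.isQuasiSeparated_preimage hW.isQuasiSeparated) _
  let ψ : Γ(Y, Y.basicOpen a) ⟶ Γ(X, X.basicOpen ((g.app W).hom a)) :=
    g.app (Y.basicOpen a) ≫ X.presheaf.map (eqToHom hpre.symm).op
  have key : Y.presheaf.map (homOfLE (Y.basicOpen_le a)).op ≫ ψ =
      g.app W ≫ X.presheaf.map (homOfLE (X.basicOpen_le ((g.app W).hom a))).op := by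
    simp only [ψ]
    rw [Scheme.Hom.naturality_assoc, ← Functor.map_comp]
    rfl
  have hψ : Function.Bijective ψ.hom := by
    apply bijective_of_isLocalization_away (g.app W).hom
      (ConcreteCategory.bijective_of_isIso (g.app W)) ψ.hom a
    rw [RingHom.algebraMap_toAlgebra, RingHom.algebraMap_toAlgebra,
      ← CommRingCat.hom_comp, ← CommRingCat.hom_comp]
    exact congrArg CommRingCat.Hom.hom key
  haveI : IsIso ψ := (ConcreteCategory.isIso_iff_bijective ψ).mpr hψ
  exact IsIso.of_isIso_comp_right (g.app (Y.basicOpen a))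
    (X.presheaf.map (eqToHom hpre.symm).op)

/-- A universally closed morphism induces integral ring maps over affine opens of the base. -/
theorem isIntegral_app_of_universallyClosed {X S : Scheme.{u}} (f : X ⟶ S) [UniversallyClosed f]
    (V : S.Opens) (hV : IsAffineOpen V) : (f.app V).hom.IsIntegral := by
  have key : ∀ V' : S.Opens, V' = V.ι ''ᵁ ⊤ → (f.app V').hom.IsIntegral := by
    rintro V' rfl
    haveI : IsAffine V.toScheme := hV
    haveI : UniversallyClosed (f ∣_ V) :=
      IsZariskiLocalAtTarget.restrict ‹UniversallyClosed f› V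
    have h1 := isIntegral_appTop_of_universallyClosed (f ∣_ V)
    rw [morphismRestrict_appTop] at h1
    have h2 : f.app (V.ι ''ᵁ ⊤) = (f.app (V.ι ''ᵁ ⊤) ≫
        X.presheaf.map (eqToHom (image_morphismRestrict_preimage f V ⊤)).op) ≫
        inv (X.presheaf.map (eqToHom (image_morphismRestrict_preimage f V ⊤)).op) := by
      simp
    rw [h2, CommRingCat.hom_comp]
    exact h1.trans _ _ (RingHom.isIntegral_of_surjective _
      (ConcreteCategory.bijective_of_isIso _).2)
  exact key V (by simp)

/-- Stein factorization, universally closed case: `O_{X'} → g_* O_X` is an isomorphism, where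
`g : X → X'` is the canonical map to the relative normalization. -/
theorem isIso_toNormalization_app {X S : Scheme.{u}} (f : X ⟶ S) [UniversallyClosed f]
    [QuasiSeparated f] (U : f.normalization.Opens) : IsIso (f.toNormalization.app U) := by
  have step1 : ∀ V : S.affineOpens,
      IsIso (f.toNormalization.app (f.fromNormalization ⁻¹ᵁ V.1)) := by
    intro V
    letI := (f.app V.1).hom.toAlgebra
    have htop : integralClosure Γ(S, V.1) Γ(X, f ⁻¹ᵁ V.1) = ⊤ := by
      rw [integralClosure_eq_top_iff, ← algebraMap_isIntegral_iff, RingHom.algebraMap_toAlgebra]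
      exact isIntegral_app_of_universallyClosed f V.1 V.2
    have hval : IsIso (CommRingCat.ofHom
        (integralClosure Γ(S, V.1) Γ(X, f ⁻¹ᵁ V.1)).val.toRingHom) := by
      apply (ConcreteCategory.isIso_iff_bijective _).mpr
      constructor
      · exact Subtype.val_injective
      · intro x
        exact ⟨⟨x, by rw [htop]; trivial⟩, rfl⟩
    have h := f.toNormalization_app_preimage V
    rw [h]
    exact @IsIso.comp_isIso _ _ _ _ _ _ _ inferInstance
      (@IsIso.comp_isIso _ _ _ _ _ _ _ hval inferInstance)
  let ι := Σ V : S.affineOpens, Γ(f.normalization, f.fromNormalization ⁻¹ᵁ V.1)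
  let B : ι → f.normalization.Opens := fun p => f.normalization.basicOpen p.2
  have hB : Opens.IsBasis (Set.range B) := by
    rw [Opens.isBasis_iff_nbhd]
    intro U x hx
    obtain ⟨V, hV, hxV, -⟩ := Opens.isBasis_iff_nbhd.mp S.isBasis_affineOpens
      (Opens.mem_top (f.fromNormalization x))
    replace hV : IsAffineOpen V := hV
    have hW : IsAffineOpen (f.fromNormalization ⁻¹ᵁ V) := hV.preimage f.fromNormalization
    obtain ⟨a, ha, hxa⟩ := hW.exists_basicOpen_le (V := U) ⟨x, hx⟩ hxV
    exact ⟨_, ⟨⟨⟨V, hV⟩, a⟩, rfl⟩, hxa, ha⟩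
  let φ : f.normalization.sheaf ⟶
      (TopCat.Sheaf.pushforward CommRingCat f.toNormalization.base).obj X.sheaf :=
    ⟨f.toNormalization.c⟩
  have hφ : IsIso φ := by
    apply TopCat.Sheaf.isIso_iff_isIso_basis (B := B) hB
    rintro ⟨V, a⟩
    exact isIso_app_basicOpen f.toNormalization (V.2.preimage f.fromNormalization) a (step1 V)
  have h2 : IsIso φ.hom := by
    have := (TopCat.Sheaf.forget CommRingCat _).map_isIso φ
    exact this
  have h3 : IsIso (φ.hom.app (op U)) := inferInstance
  exact h3

end Groth.Agent.Lib.SteinSectionsH7
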