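import Mathlib
import Groth.Prelude
import Groth.Agent.Lib.ZConn2_helper8
import Groth.Agent.S1340

/-!
# Stein factorisation: connected components of the fibres (helper8)
APPEND-ONLY once landed.
-/

set_option autoImplicit false
universe u
open CategoryTheory CategoryTheory.Limits AlgebraicGeometry TopologicalSpace Opposite

namespace Groth.Agent.Lib.ZConnH8

section Stein

variable {X Y : Scheme.{u}} (f : X ⟶ Y) [IsProper f] [IsLocallyNoetherian Y]

theorem isProper_toNormalization : IsProper f.toNormalization := by
  haveI : IsFinite f.fromNormalization := SteinFinH3.main1297 f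
  haveI : IsProper (f.toNormalization ≫ f.fromNormalization) := by
    rw [f.toNormalization_fromNormalization]; infer_instance
  exact IsProper.of_comp f.toNormalization f.fromNormalization

theorem isLocallyNoetherian_normalization : IsLocallyNoetherian f.normalization := by
  haveI : IsFinite f.fromNormalization := SteinFinH3.main1297 f
  exact LocallyOfFiniteType.isLocallyNoetherian f.fromNormalization

/-- the geometric fibres of `X ⟶ Y'` are connected -/
theorem connectedSpace_pullback_toNormalization (K : Type u) [Field K]
    (ξ : Spec (CommRingCat.of K) ⟶ f.normalization) :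
    ConnectedSpace ↥(pullback f.toNormalization ξ) := by
  haveI := isProper_toNormalization f
  haveI := isLocallyNoetherian_normalization f
  exact connectedSpace_pullback f.toNormalization (fun U => Groth.Agent.S1340.result f U) K ξ

variable (y : Y)

/-- the map on fibres `X_y ⟶ Y'_y` -/
noncomputable abbrev mu : f.fiber y ⟶ f.fromNormalization.fiber y :=
  CohIII.fiberMapOver f.toNormalization f f.fromNormalization f.toNormalization_fromNormalization y

theorem mu_fst : mu f y ≫ pullback.fst f.fromNormalization (Y.fromSpecResidueField y) =
    pullback.fst f (Y.fromSpecResidueField y) ≫ f.toNormalization := by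
  unfold mu CohIII.fiberMapOver
  exact pullback.lift_fst _ _ _

theorem mu_snd : mu f y ≫ pullback.snd f.fromNormalization (Y.fromSpecResidueField y) =
    pullback.snd f (Y.fromSpecResidueField y) := by
  unfold mu CohIII.fiberMapOver
  exact (pullback.lift_snd _ _ _).trans (Category.comp_id _)

theorem isPullback_mu : IsPullback (mu f y) (pullback.fst f (Y.fromSpecResidueField y))
    (pullback.fst f.fromNormalization (Y.fromSpecResidueField y)) f.toNormalization := by
  have big : IsPullback (mu f y ≫ pullback.snd f.fromNormalization (Y.fromSpecResidueField y))
      (pullback.fst f (Y.fromSpecResidueField y)) (Y.fromSpecResidueField y)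
      (f.toNormalization ≫ f.fromNormalization) := by
    rw [mu_snd, f.toNormalization_fromNormalization]
    exact (IsPullback.of_hasPullback f (Y.fromSpecResidueField y)).flip
  exact IsPullback.of_right big (mu_fst f y)
    (IsPullback.of_hasPullback f.fromNormalization (Y.fromSpecResidueField y)).flip

/-- the fibres of `X_y ⟶ Y'_y` are connected -/
theorem isConnected_mu_fibre (z : ↥(f.fromNormalization.fiber y)) :
    _root_.IsConnected ((mu f y).base ⁻¹' {z}) := by
  let ζ := (f.fromNormalization.fiber y).fromSpecResidueField z
  have h1 : IsPullback (pullback.fst (mu f y) ζ ≫ pullback.fst f (Y.fromSpecResidueField y))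
      (pullback.snd (mu f y) ζ) f.toNormalization
      (ζ ≫ pullback.fst f.fromNormalization (Y.fromSpecResidueField y)) :=
    ((IsPullback.of_hasPullback (mu f y) ζ).flip.paste_vert (isPullback_mu f y)).flip
  haveI : ConnectedSpace ↥(pullback f.toNormalization
      (ζ ≫ pullback.fst f.fromNormalization (Y.fromSpecResidueField y))) :=
    connectedSpace_pullback_toNormalization f _ _
  haveI : ConnectedSpace ↥(pullback (mu f y) ζ) :=
    Function.Surjective.connectedSpace (Scheme.homeoOfIso h1.isoPullback.symm).surjective
      (Scheme.homeoOfIso h1.isoPullback.symm).continuous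
  have h2 : Set.range (pullback.fst (mu f y) ζ).base = (mu f y).base ⁻¹' {z} := by
    rw [Scheme.Pullback.range_fst, Scheme.range_fromSpecResidueField]
  rw [← h2]
  exact isConnected_range (pullback.fst (mu f y) ζ).continuous

theorem main4463 :
    Finite ↥(f.fromNormalization.fiber y) ∧
    Function.Surjective (mu f y).base ∧
    ∀ x x' : ↥(f.fiber y),
      (mu f y).base x = (mu f y).base x' ↔ connectedComponent x = connectedComponent x' := by
  haveI : IsFinite f.fromNormalization := SteinFinH3.main1297 f
  haveI : IsArtinianScheme (f.fromNormalization.fiber y) := inferInstance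
  refine ⟨inferInstance, ?_, ?_⟩
  · intro z
    obtain ⟨x, hx⟩ := (isConnected_mu_fibre f y z).nonempty
    exact ⟨x, hx⟩
  · intro x x'
    constructor
    · intro hxx
      have hc := isConnected_mu_fibre f y ((mu f y).base x')
      have hx : x ∈ (mu f y).base ⁻¹' {(mu f y).base x'} := hxx
      have hx' : x' ∈ (mu f y).base ⁻¹' {(mu f y).base x'} := rfl
      have h1 := hc.isPreconnected.subset_connectedComponent hx hx'
      exact connectedComponent_eq h1
    · intro hcc
      have hx' : x' ∈ connectedComponent x := by
        rw [hcc]; exact mem_connectedComponent
      have himg : _root_.IsPreconnected ((mu f y).base '' connectedComponent x) :=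
        isPreconnected_connectedComponent.image _ (mu f y).continuous.continuousOn
      have hsub := himg.subsingleton
      exact hsub ⟨x, mem_connectedComponent, rfl⟩ ⟨x', hx', rfl⟩

end Stein

end Groth.Agent.Lib.ZConnH8
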