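import Mathlib
import Groth.Prelude
import Groth.Agent.Lib.ZConn4_helper8

/-!
# Stein factorization: the comparison `X ×_Y T ⟶ Y' ×_Y T` for an arbitrary base change (helper8)
APPEND-ONLY once landed.
-/

set_option autoImplicit false
universe u
open CategoryTheory CategoryTheory.Limits AlgebraicGeometry TopologicalSpace Opposite

namespace Groth.Agent.Lib.ZConnH8

section

variable {X Y : Scheme.{u}} (f : X ⟶ Y) [IsProper f] {T : Scheme.{u}} (ξ : T ⟶ Y)

/-- the map `X ×_Y T ⟶ Y' ×_Y T` -/
noncomputable def nu : pullback f ξ ⟶ pullback f.fromNormalization ξ :=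
  pullback.lift (pullback.fst f ξ ≫ f.toNormalization) (pullback.snd f ξ) (by
    rw [Category.assoc, f.toNormalization_fromNormalization, pullback.condition])

theorem nu_fst : nu f ξ ≫ pullback.fst f.fromNormalization ξ =
    pullback.fst f ξ ≫ f.toNormalization := pullback.lift_fst _ _ _

theorem nu_snd : nu f ξ ≫ pullback.snd f.fromNormalization ξ = pullback.snd f ξ :=
  pullback.lift_snd _ _ _

theorem isPullback_nu : IsPullback (nu f ξ) (pullback.fst f ξ)
    (pullback.fst f.fromNormalization ξ) f.toNormalization := by
  have big : IsPullback (nu f ξ ≫ pullback.snd f.fromNormalization ξ)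
      (pullback.fst f ξ) ξ (f.toNormalization ≫ f.fromNormalization) := by
    rw [nu_snd, f.toNormalization_fromNormalization]
    exact (IsPullback.of_hasPullback f ξ).flip
  exact IsPullback.of_right big (nu_fst f ξ)
    (IsPullback.of_hasPullback f.fromNormalization ξ).flip

variable [IsLocallyNoetherian Y]

/-- `X ⟶ Y'` is surjective -/
theorem surjective_toNormalization : Function.Surjective f.toNormalization := by
  intro y'
  have hc := connectedSpace_pullback_toNormalization f (f.normalization.residueField y')
    (f.normalization.fromSpecResidueField y')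
  obtain ⟨w⟩ := hc.toNonempty
  refine ⟨(pullback.fst f.toNormalization (f.normalization.fromSpecResidueField y')) w, ?_⟩
  have h1 : (pullback.fst f.toNormalization (f.normalization.fromSpecResidueField y') ≫
      f.toNormalization) w =
      (pullback.snd f.toNormalization (f.normalization.fromSpecResidueField y') ≫
        f.normalization.fromSpecResidueField y') w := by
    rw [pullback.condition]
  rw [Scheme.Hom.comp_apply, Scheme.Hom.comp_apply] at h1
  rw [h1]
  have h2 : (f.normalization.fromSpecResidueField y') ((pullback.snd f.toNormalization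
      (f.normalization.fromSpecResidueField y')) w) ∈
      Set.range (f.normalization.fromSpecResidueField y') := ⟨_, rfl⟩
  rw [Scheme.range_fromSpecResidueField] at h2
  exact h2

theorem surjective_nu : Function.Surjective (nu f ξ) := by
  haveI : Surjective f.toNormalization := ⟨surjective_toNormalization f⟩
  haveI : Surjective (nu f ξ) :=
    MorphismProperty.of_isPullback (P := @Surjective) (isPullback_nu f ξ).flip inferInstance
  exact (nu f ξ).surjective

/-- the fibres of `X ×_Y T ⟶ Y' ×_Y T` are connected -/
theorem isConnected_nu_fibre (z : ↥(pullback f.fromNormalization ξ)) :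
    _root_.IsConnected ((nu f ξ) ⁻¹' {z}) := by
  let ζ := (pullback f.fromNormalization ξ).fromSpecResidueField z
  have h1 : IsPullback (pullback.fst (nu f ξ) ζ ≫ pullback.fst f ξ)
      (pullback.snd (nu f ξ) ζ) f.toNormalization
      (ζ ≫ pullback.fst f.fromNormalization ξ) :=
    ((IsPullback.of_hasPullback (nu f ξ) ζ).flip.paste_vert (isPullback_nu f ξ)).flip
  haveI : ConnectedSpace ↥(pullback f.toNormalization
      (ζ ≫ pullback.fst f.fromNormalization ξ)) :=
    connectedSpace_pullback_toNormalization f _ _
  haveI : ConnectedSpace ↥(pullback (nu f ξ) ζ) :=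
    Function.Surjective.connectedSpace (Scheme.homeoOfIso h1.isoPullback.symm).surjective
      (Scheme.homeoOfIso h1.isoPullback.symm).continuous
  have h2 : Set.range (pullback.fst (nu f ξ) ζ) = (nu f ξ) ⁻¹' {z} := by
    rw [Scheme.Pullback.range_fst, Scheme.range_fromSpecResidueField]
  rw [← h2]
  exact isConnected_range (pullback.fst (nu f ξ) ζ).continuous

end

end Groth.Agent.Lib.ZConnH8
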