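import Mathlib
import Groth.Prelude
import Groth.Agent.Lib.ZConn5_helper8
import Groth.Agent.Lib.GeomLsc_helper4
import Groth.Agent.Lib.GeomConnG_helper8

/-!
# Proper morphisms: the geometric number of connected components of the fibres via the Stein
factorization (helper8)
APPEND-ONLY once landed.
-/

set_option autoImplicit false
set_option linter.all false
set_option maxHeartbeats 1600000

universe u

open CategoryTheory AlgebraicGeometry CategoryTheory.Limits Topology IsLocalRing

namespace Groth.Agent.Lib.ProperLscH8

variable {X Y : Scheme.{u}} (f : X ⟶ Y) [IsProper f] [IsLocallyNoetherian Y]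

/-- the geometric number of connected components of the fibres of a proper morphism is the
geometric number of points of the fibres of the finite part of its Stein factorization -/
theorem nGeomConnComp_eq_fromNormalization (z : Y) :
    MoreMor.nGeomConnComp f z = MoreMor.nGeomConnComp f.fromNormalization z := by
  haveI : IsFinite f.fromNormalization := SteinFinH3.main1297 f
  obtain ⟨K, _, _, t, ht⟩ := GeomConnH8.exists_sepClosed_point Y z
  rw [← ht, ← GeomConnH8.card_cc_pullback_eq_nGeomConnComp' f K t,
    ← GeomConnH8.card_cc_pullback_eq_nGeomConnComp' f.fromNormalization K t]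
  haveI hsub : Subsingleton ↥(Spec (CommRingCat.of K)) :=
    (inferInstance : Subsingleton (PrimeSpectrum K))
  haveI : LocallyQuasiFinite (pullback.snd f.fromNormalization t) :=
    MorphismProperty.pullback_snd _ _ inferInstance
  haveI hd : DiscreteTopology ↥(pullback f.fromNormalization t) :=
    Groth.Agent.Lib.GeomCountH4.discreteTopology_of_lqf (pullback.snd f.fromNormalization t)
  rw [Groth.Agent.Lib.GeomCountH4.card_connectedComponents_of_discrete
    ↥(pullback f.fromNormalization t)]
  have hbij : Function.Bijective
      (Groth.Agent.Lib.ZConnH8.nu f t).continuous.connectedComponentsLift := by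
    constructor
    · intro a b hab
      obtain ⟨x, rfl⟩ := ConnectedComponents.surjective_coe a
      obtain ⟨x', rfl⟩ := ConnectedComponents.surjective_coe b
      rw [Continuous.connectedComponentsLift_apply_coe,
        Continuous.connectedComponentsLift_apply_coe] at hab
      have hc := Groth.Agent.Lib.ZConnH8.isConnected_nu_fibre f t
        ((Groth.Agent.Lib.ZConnH8.nu f t) x')
      have hx : x ∈ (Groth.Agent.Lib.ZConnH8.nu f t) ⁻¹' {(Groth.Agent.Lib.ZConnH8.nu f t) x'} :=
        hab
      have hx' : x' ∈ (Groth.Agent.Lib.ZConnH8.nu f t) ⁻¹'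
          {(Groth.Agent.Lib.ZConnH8.nu f t) x'} := rfl
      rw [ConnectedComponents.coe_eq_coe']
      exact hc.isPreconnected.subset_connectedComponent hx' hx
    · intro q
      obtain ⟨x, hx⟩ := Groth.Agent.Lib.ZConnH8.surjective_nu f t q
      exact ⟨(x : _root_.ConnectedComponents _), by
        rw [Continuous.connectedComponentsLift_apply_coe]; exact hx⟩
  exact ENat.card_congr (Equiv.ofBijective _ hbij)

/-- the finite part of the Stein factorization is universally open at the points over `y` if `f`
is universally open at the points over `y` -/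
theorem isUnivOpenAt_fromNormalization (y : Y)
    (h : ∀ x : X, f.base x = y → EGA43.IsUnivOpenAt f x) (y' : f.normalization)
    (hy' : f.fromNormalization.base y' = y) : EGA43.IsUnivOpenAt f.fromNormalization y' := by
  intro T g t' ht' U hU
  obtain ⟨x', hx'⟩ := Groth.Agent.Lib.ZConnH8.surjective_nu f g t'
  have hx : f.base (pullback.fst f g x') = y := by
    have h1 : f.toNormalization (pullback.fst f g x') = y' := by
      rw [← Scheme.Hom.comp_apply, ← Groth.Agent.Lib.ZConnH8.nu_fst, Scheme.Hom.comp_apply, hx']
      exact ht'
    have h2 : ∀ x : X, f x = f.fromNormalization (f.toNormalization x) := fun x => by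
      rw [← Scheme.Hom.comp_apply, f.toNormalization_fromNormalization]
    show f (pullback.fst f g x') = y
    rw [h2, h1]
    exact hy'
  have hopen := h _ hx T g x' rfl
  have hpre : (Groth.Agent.Lib.ZConnH8.nu f g) ⁻¹' U ∈ nhds x' :=
    (Groth.Agent.Lib.ZConnH8.nu f g).continuous.continuousAt (by rw [hx']; exact hU)
  have h1 := hopen _ hpre
  have hsub : (pullback.snd f g).base '' ((Groth.Agent.Lib.ZConnH8.nu f g) ⁻¹' U) ⊆
      (pullback.snd f.fromNormalization g).base '' U := by
    rintro _ ⟨a, ha, rfl⟩
    refine ⟨(Groth.Agent.Lib.ZConnH8.nu f g) a, ha, ?_⟩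
    show (pullback.snd f.fromNormalization g) ((Groth.Agent.Lib.ZConnH8.nu f g) a) =
      (pullback.snd f g) a
    rw [← Scheme.Hom.comp_apply, Groth.Agent.Lib.ZConnH8.nu_snd]
  have heq : (pullback.snd f g).base x' = (pullback.snd f.fromNormalization g).base t' := by
    show (pullback.snd f g) x' = (pullback.snd f.fromNormalization g) t'
    rw [← hx', ← Scheme.Hom.comp_apply, Groth.Agent.Lib.ZConnH8.nu_snd]
  rw [← heq]
  exact Filter.mem_of_superset h1 hsub

theorem main3415 (y : Y) (h : ∀ x : X, f.base x = y → EGA43.IsUnivOpenAt f x) :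
    ∃ V ∈ nhds y, ∀ z ∈ V, MoreMor.nGeomConnComp f y ≤ MoreMor.nGeomConnComp f z := by
  haveI : IsFinite f.fromNormalization := SteinFinH3.main1297 f
  obtain ⟨V, hV, hVle⟩ := Groth.Agent.Lib.GeomLscH4.main3411 f.fromNormalization y
    (fun y' hy' => isUnivOpenAt_fromNormalization f y h y' hy')
  refine ⟨V, hV, fun z hz => ?_⟩
  rw [nGeomConnComp_eq_fromNormalization f y, nGeomConnComp_eq_fromNormalization f z]
  exact hVle z hz

end Groth.Agent.Lib.ProperLscH8
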