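import Groth.Agent.Lib.UO3_helper8
import Mathlib.AlgebraicGeometry.AffineSpace

/-!
# Universal openness can be tested on affine spaces over the base
-/

set_option autoImplicit false
universe u

open TensorProduct CategoryTheory AlgebraicGeometry Limits

namespace UOH8

section

variable {X Y : Scheme.{u}} (f : X ⟶ Y) (n : Type u)

attribute [local instance] MvPolynomial.algebraMvPolynomial in
/-- `Spec B[n] → Spec R[n]` is a base change of `Spec B → Spec R`. -/
theorem isPullback_Spec_mvPolynomial_gen {R B : CommRingCat.{u}} (φ : R ⟶ B) :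
    IsPullback
      (Spec.map (CommRingCat.ofHom (MvPolynomial.map (σ := n) φ.hom)))
      (Spec.map (CommRingCat.ofHom (MvPolynomial.C (σ := n) (R := B))))
      (Spec.map (CommRingCat.ofHom (MvPolynomial.C (σ := n) (R := R))))
      (Spec.map φ) := by
  letI : Algebra R B := φ.hom.toAlgebra
  have h := CommRingCat.isPushout_of_isPushout R B (MvPolynomial n R)
    (MvPolynomial n B)
  have e0 : algebraMap (MvPolynomial n R) (MvPolynomial n B) =
      MvPolynomial.map (algebraMap R B) := rfl
  rw [e0] at h
  exact (isPullback_SpecMap_of_isPushout _ _ _ _ h).flip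

theorem isOpenMap_comap_map_of_snd
    (h : IsOpenMap ⇑(pullback.snd f (AffineSpace n Y ↘ Y)))
    {R B : CommRingCat.{u}} (φ : R ⟶ B) (iU : Spec B ⟶ X) (iV : Spec R ⟶ Y)
    [IsOpenImmersion iU] [IsOpenImmersion iV] (w : iU ≫ f = Spec.map φ ≫ iV) :
    IsOpenMap (PrimeSpectrum.comap (MvPolynomial.map (σ := n) φ.hom)) := by
  obtain ⟨j', hj'⟩ : ∃ j', j' = (AffineSpace.SpecIso n R).inv ≫ AffineSpace.map n iV := ⟨_, rfl⟩
  have S2 : IsPullback j' (Spec.map (CommRingCat.ofHom (MvPolynomial.C (σ := n) (R := R))))
      (AffineSpace n Y ↘ Y) iV := by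
    have h1 : IsPullback (AffineSpace.SpecIso n R).inv
        (Spec.map (CommRingCat.ofHom (MvPolynomial.C (σ := n) (R := R))))
        (AffineSpace n (Spec R) ↘ Spec R) (𝟙 _) :=
      IsPullback.of_horiz_isIso ⟨by simp [AffineSpace.SpecIso_inv_over]⟩
    have h2 := h1.paste_horiz (AffineSpace.isPullback_map (n := n) iV)
    rw [Category.id_comp, ← hj'] at h2
    exact h2
  have S12 := (isPullback_Spec_mvPolynomial_gen n φ).paste_horiz S2
  rw [← w] at S12
  have t : IsPullback (pullback.snd f (AffineSpace n Y ↘ Y)) (pullback.fst f (AffineSpace n Y ↘ Y))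
      (AffineSpace n Y ↘ Y) f := (IsPullback.of_hasPullback f (AffineSpace n Y ↘ Y)).flip
  have S3 := IsPullback.of_right' S12 t
  obtain ⟨j, hj⟩ : ∃ j, j = t.lift
      (Spec.map (CommRingCat.ofHom (MvPolynomial.map (σ := n) φ.hom)) ≫ j')
      (Spec.map (CommRingCat.ofHom (MvPolynomial.C (σ := n) (R := B))) ≫ iU)
      (by rw [S12.w, Category.assoc]) := ⟨_, rfl⟩
  rw [← hj] at S3
  haveI : IsOpenImmersion j := MorphismProperty.of_isPullback (P := @IsOpenImmersion) S3.flip
    inferInstance
  haveI : IsOpenImmersion j' := MorphismProperty.of_isPullback (P := @IsOpenImmersion) S2.flip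
    inferInstance
  have hcomm : j ≫ pullback.snd f (AffineSpace n Y ↘ Y) =
      Spec.map (CommRingCat.ofHom (MvPolynomial.map (σ := n) φ.hom)) ≫ j' := by
    rw [hj]; exact t.lift_fst _ _ _
  intro G hG
  have key : PrimeSpectrum.comap (MvPolynomial.map (σ := n) φ.hom) '' G =
      j' ⁻¹' (pullback.snd f (AffineSpace n Y ↘ Y) '' (j '' G)) := by
    ext y
    constructor
    · rintro ⟨x, hx, rfl⟩
      refine ⟨j x, ⟨x, hx, rfl⟩, ?_⟩
      have := congrArg (fun g => g.base x) hcomm
      simp only [Scheme.Hom.comp_base, TopCat.hom_comp, ContinuousMap.comp_apply] at this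
      exact this
    · rintro ⟨_, ⟨x, hx, rfl⟩, hxy⟩
      refine ⟨x, hx, ?_⟩
      apply j'.isOpenEmbedding.injective
      have := congrArg (fun g => g.base x) hcomm
      simp only [Scheme.Hom.comp_base, TopCat.hom_comp, ContinuousMap.comp_apply] at this
      rw [← hxy, this]
      rfl
  rw [key]
  exact (h _ (j.isOpenEmbedding.isOpenMap _ hG)).preimage j'.continuous

end

section

variable {X Y : Scheme.{u}} (f : X ⟶ Y)

/-- Universal openness is checked on affine charts. -/
theorem universallyOpen_of_charts
    (H : ∀ (R B : CommRingCat.{u}) (φ : R ⟶ B) (iU : Spec B ⟶ X) (iV : Spec R ⟶ Y)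
      [IsOpenImmersion iU] [IsOpenImmersion iV], iU ≫ f = Spec.map φ ≫ iV →
      UniversallyOpen (Spec.map φ)) :
    UniversallyOpen f := by
  rw [IsZariskiLocalAtTarget.iff_of_openCover (P := @UniversallyOpen) Y.affineOpenCover.openCover]
  intro i
  change UniversallyOpen (pullback.snd f (Y.affineOpenCover.openCover.f i))
  rw [IsZariskiLocalAtSource.iff_of_openCover (P := @UniversallyOpen)
    (pullback f (Y.affineOpenCover.openCover.f i)).affineOpenCover.openCover]
  intro k
  change UniversallyOpen ((pullback f (Y.affineOpenCover.openCover.f i)).affineOpenCover.f k ≫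
      pullback.snd f (Y.affineOpenCover.f i))
  haveI hiV : IsOpenImmersion (Y.affineOpenCover.f i) :=
    inferInstanceAs (IsOpenImmersion (Y.affineOpenCover.openCover.f i))
  haveI hiW : IsOpenImmersion
      ((pullback f (Y.affineOpenCover.openCover.f i)).affineOpenCover.f k) :=
    inferInstanceAs (IsOpenImmersion
      ((pullback f (Y.affineOpenCover.openCover.f i)).affineOpenCover.openCover.f k))
  haveI hfst : IsOpenImmersion (pullback.fst f (Y.affineOpenCover.f i)) := inferInstance
  haveI hc : IsOpenImmersion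
      ((pullback f (Y.affineOpenCover.openCover.f i)).affineOpenCover.f k ≫
        pullback.fst f (Y.affineOpenCover.f i)) :=
    MorphismProperty.comp_mem (W := @IsOpenImmersion) _ _ hiW hfst
  obtain ⟨g, hg⟩ : ∃ g, g = (pullback f (Y.affineOpenCover.openCover.f i)).affineOpenCover.f k ≫
      pullback.snd f (Y.affineOpenCover.f i) := ⟨_, rfl⟩
  have e1 : Spec.map (Spec.preimage g) = g := Spec.map_preimage g
  have := H _ _ (Spec.preimage g)
    ((pullback f (Y.affineOpenCover.openCover.f i)).affineOpenCover.f k ≫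
      pullback.fst f (Y.affineOpenCover.f i)) (Y.affineOpenCover.f i) (by
        rw [e1, hg, Category.assoc, Category.assoc]
        congr 1
        exact pullback.condition)
  rw [e1, hg] at this
  exact this

theorem universallyOpen_of_affineSpace
    (h : ∀ d : ℕ, 0 < d →
      IsOpenMap ⇑(pullback.snd f (AffineSpace (ULift.{u} (Fin d)) Y ↘ Y))) :
    UniversallyOpen f := by
  apply universallyOpen_of_charts
  intro R B φ iU iV _ _ w
  letI : Algebra R B := φ.hom.toAlgebra
  have := universallyOpen_Spec_of_basicOpen_ulift (R := R) (B := B) (by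
    intro d b hd
    exact isOpenMap_comap_map_of_snd f _ (h d hd) φ iU iV w _
      (PrimeSpectrum.basicOpen _).isOpen)
  exact this

theorem universallyOpen_iff_affineSpace_map :
    UniversallyOpen f ↔ ∀ d : ℕ, IsOpenMap ⇑(AffineSpace.map (ULift.{u} (Fin d)) f) := by
  constructor
  · intro hf d
    haveI : UniversallyOpen (AffineSpace.map (ULift.{u} (Fin d)) f) :=
      MorphismProperty.of_isPullback (P := @UniversallyOpen)
        (AffineSpace.isPullback_map (n := ULift.{u} (Fin d)) f).flip hf
    exact (AffineSpace.map (ULift.{u} (Fin d)) f).isOpenMap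
  · intro h
    apply universallyOpen_of_affineSpace
    intro d _
    have sq := (AffineSpace.isPullback_map (n := ULift.{u} (Fin d)) f).flip
    have e : sq.isoPullback.hom ≫ pullback.snd f (AffineSpace (ULift.{u} (Fin d)) Y ↘ Y) =
        AffineSpace.map (ULift.{u} (Fin d)) f := sq.isoPullback_hom_snd
    have e2 : pullback.snd f (AffineSpace (ULift.{u} (Fin d)) Y ↘ Y) =
        sq.isoPullback.inv ≫ AffineSpace.map (ULift.{u} (Fin d)) f := by
      rw [Iso.eq_inv_comp]; exact e
    rw [e2]
    simp only [Scheme.Hom.comp_base, TopCat.hom_comp, ContinuousMap.coe_comp]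
    exact (h d).comp (sq.isoPullback.inv.isOpenEmbedding.isOpenMap)

end

end UOH8
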