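import Mathlib
import Groth.Prelude.Def_EGA43
import Groth.Agent.Lib.UO4_helper8

/-! Pointwise version of: universal openness can be tested on affine spaces (ring level). -/

set_option autoImplicit false
universe u

open TensorProduct CategoryTheory AlgebraicGeometry Limits

namespace UOPH8

theorem isOpenAt_comap_tensor {R B : Type u} [CommRing R] [CommRing B] [Algebra R B]
    (q : PrimeSpectrum B)
    (H : ∀ (d : ℕ), 0 < d → ∀ zt : PrimeSpectrum (MvPolynomial (ULift.{u} (Fin d)) B),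
      PrimeSpectrum.comap (MvPolynomial.C (σ := ULift.{u} (Fin d)) (R := B)) zt = q →
      EGA43.IsOpenAt
        (PrimeSpectrum.comap (MvPolynomial.map (σ := ULift.{u} (Fin d)) (algebraMap R B))) zt)
    (T : Type u) [CommRing T] [Algebra R T] (z : PrimeSpectrum (T ⊗[R] B))
    (hz : PrimeSpectrum.comap
      (Algebra.TensorProduct.includeRight : B →ₐ[R] T ⊗[R] B).toRingHom z = q) :
    EGA43.IsOpenAt (PrimeSpectrum.comap (algebraMap T (T ⊗[R] B))) z := by
  intro N hN
  obtain ⟨_, ⟨t, rfl⟩, hzt, htN⟩ :=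
    PrimeSpectrum.isTopologicalBasis_basic_opens.mem_nhds_iff.mp hN
  obtain ⟨d, c, b, hd, rfl⟩ := UOH8.exists_sum_tmul (R := R) (B := B) t
  have e : ∑ i, c i ⊗ₜ[R] b i = ∑ i : ULift.{u} (Fin d), c i.down ⊗ₜ[R] b i.down :=
    (Equiv.sum_comp Equiv.ulift (fun i => c i ⊗ₜ[R] b i)).symm
  rw [e] at hzt htN
  set c' : ULift.{u} (Fin d) → T := fun i => c i.down with hc'
  set b' : ULift.{u} (Fin d) → B := fun i => b i.down with hb'
  set zt := PrimeSpectrum.comap (UOH8.Gen.beta (R := R) (B := B) c') z with hzt'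
  have hztq : PrimeSpectrum.comap (MvPolynomial.C (σ := ULift.{u} (Fin d)) (R := B)) zt = q := by
    rw [← hz, hzt', ← PrimeSpectrum.comap_comp_apply]
    congr 1
    ext x
    simp [UOH8.Gen.beta_C]
  have hztD : zt ∈ (PrimeSpectrum.basicOpen (∑ i, MvPolynomial.X i * MvPolynomial.C (b' i)) :
      Set (PrimeSpectrum (MvPolynomial (ULift.{u} (Fin d)) B))) := by
    show UOH8.Gen.beta (R := R) (B := B) c' _ ∉ z.asIdeal
    rw [UOH8.Gen.beta_sum]
    exact hzt
  have hnb := H d hd zt hztq _ ((PrimeSpectrum.basicOpen _).2.mem_nhds hztD)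
  have hpt : PrimeSpectrum.comap (UOH8.Gen.ev (R := R) c')
      (PrimeSpectrum.comap (algebraMap T (T ⊗[R] B)) z) =
      PrimeSpectrum.comap (MvPolynomial.map (σ := ULift.{u} (Fin d)) (algebraMap R B)) zt := by
    rw [hzt', ← PrimeSpectrum.comap_comp_apply, ← PrimeSpectrum.comap_comp_apply,
      UOH8.Gen.beta_comp_map]
  have h1 : PrimeSpectrum.comap (algebraMap T (T ⊗[R] B)) ''
      (PrimeSpectrum.basicOpen (∑ i, c' i ⊗ₜ[R] b' i) : Set (PrimeSpectrum (T ⊗[R] B))) ∈
      nhds (PrimeSpectrum.comap (algebraMap T (T ⊗[R] B)) z) := by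
    rw [UOH8.Gen.image_basicOpen_tensor]
    apply (PrimeSpectrum.continuous_comap (UOH8.Gen.ev (R := R) c')).continuousAt.preimage_mem_nhds
    rw [hpt]
    exact hnb
  exact Filter.mem_of_superset h1 (Set.image_mono htN)

end UOPH8
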