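import Mathlib
import Groth.Prelude.Def_EGA43
import Groth.Agent.Lib.UOP1_helper8

/-! Pointwise version of: universal openness can be tested on affine spaces (scheme level). -/

set_option autoImplicit false
universe u

open TensorProduct CategoryTheory AlgebraicGeometry Limits

namespace UOPH8

/-- transfer of openness at a point along a commutative square with open immersions. -/
theorem isOpenAt_of_square {P P' Q Q' : Scheme.{u}} (a : P' ⟶ P) (b : Q' ⟶ Q)
    [IsOpenImmersion a] [IsOpenImmersion b] (s : P ⟶ Q) (s' : P' ⟶ Q')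
    (w : a ≫ s = s' ≫ b) (p' : P') (h : EGA43.IsOpenAt s'.base p') :
    EGA43.IsOpenAt s.base (a p') := by
  intro N hN
  have h1 : a ⁻¹' N ∈ nhds p' := a.continuous.continuousAt.preimage_mem_nhds hN
  have h2 := h _ h1
  have h3 : b '' (s' '' (a ⁻¹' N)) ∈ nhds (b (s' p')) := b.isOpenEmbedding.image_mem_nhds.mpr h2
  have hpt : ∀ t : P', s (a t) = b (s' t) := fun t =>
    congrArg (fun k : P' ⟶ Q => k t) w
  rw [← hpt] at h3
  refine Filter.mem_of_superset h3 ?_
  rintro _ ⟨_, ⟨t, ht, rfl⟩, rfl⟩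
  exact ⟨a t, ht, hpt t⟩

/-- the converse transfer. -/
theorem isOpenAt_of_square' {P P' Q Q' : Scheme.{u}} (a : P' ⟶ P) (b : Q' ⟶ Q)
    [IsOpenImmersion a] [IsOpenImmersion b] (s : P ⟶ Q) (s' : P' ⟶ Q')
    (w : a ≫ s = s' ≫ b) (p' : P') (h : EGA43.IsOpenAt s.base (a p')) :
    EGA43.IsOpenAt s'.base p' := by
  intro N hN
  have hpt : ∀ t : P', s (a t) = b (s' t) := fun t =>
    congrArg (fun k : P' ⟶ Q => k t) w
  have h1 : a '' N ∈ nhds (a p') := a.isOpenEmbedding.image_mem_nhds.mpr hN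
  have h2 := h _ h1
  rw [hpt] at h2
  have h3 : b ⁻¹' (s '' (a '' N)) ∈ nhds (s' p') := b.continuous.continuousAt.preimage_mem_nhds h2
  refine Filter.mem_of_superset h3 ?_
  rintro y ⟨_, ⟨t, ht, rfl⟩, hy⟩
  refine ⟨t, ht, b.isOpenEmbedding.injective ?_⟩
  rw [← hpt]; exact hy


section

variable {X Y : Scheme.{u}} (f : X ⟶ Y) (n : Type u)

theorem isOpenAt_SpecMap_map_of_snd (x : X)
    (h : ∀ x' : ↥(pullback f (AffineSpace n Y ↘ Y)),
      (pullback.fst f (AffineSpace n Y ↘ Y)) x' = x →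
      EGA43.IsOpenAt (pullback.snd f (AffineSpace n Y ↘ Y)).base x')
    {R B : CommRingCat.{u}} (φ : R ⟶ B) (iU : Spec B ⟶ X) (iV : Spec R ⟶ Y)
    [IsOpenImmersion iU] [IsOpenImmersion iV] (w : iU ≫ f = Spec.map φ ≫ iV)
    (zt : ↥(Spec (CommRingCat.of (MvPolynomial n B))))
    (hzt : iU ((Spec.map (CommRingCat.ofHom (MvPolynomial.C (σ := n) (R := B)))) zt) = x) :
    EGA43.IsOpenAt (Spec.map (CommRingCat.ofHom (MvPolynomial.map (σ := n) φ.hom))).base zt := by
  obtain ⟨j', hj'⟩ : ∃ j', j' = (AffineSpace.SpecIso n R).inv ≫ AffineSpace.map n iV := ⟨_, rfl⟩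
  have S2 : IsPullback j' (Spec.map (CommRingCat.ofHom (MvPolynomial.C (σ := n) (R := R))))
      (AffineSpace n Y ↘ Y) iV := by
    have h1 : IsPullback (AffineSpace.SpecIso n R).inv
        (Spec.map (CommRingCat.ofHom (MvPolynomial.C (σ := n) (R := R))))
        (AffineSpace n (Spec R) ↘ Spec R) (𝟙 _) :=
      IsPullback.of_horiz_isIso ⟨by simp [AffineSpace.SpecIso_inv_over]⟩
    have h2 := h1.paste_horiz (AffineSpace.isPullback_map (n := n) iV)
    rw [Category.id_comp, ← hj'] at h2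
    exact h2
  have S12 := (UOH8.isPullback_Spec_mvPolynomial_gen n φ).paste_horiz S2
  rw [← w] at S12
  have t : IsPullback (pullback.snd f (AffineSpace n Y ↘ Y)) (pullback.fst f (AffineSpace n Y ↘ Y))
      (AffineSpace n Y ↘ Y) f := (IsPullback.of_hasPullback f (AffineSpace n Y ↘ Y)).flip
  have S3 := IsPullback.of_right' S12 t
  obtain ⟨j, hj⟩ : ∃ j, j = t.lift
      (Spec.map (CommRingCat.ofHom (MvPolynomial.map (σ := n) φ.hom)) ≫ j')
      (Spec.map (CommRingCat.ofHom (MvPolynomial.C (σ := n) (R := B))) ≫ iU)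
      (by rw [S12.w, Category.assoc]) := ⟨_, rfl⟩
  rw [← hj] at S3
  haveI : IsOpenImmersion j := MorphismProperty.of_isPullback (P := @IsOpenImmersion) S3.flip
    inferInstance
  haveI : IsOpenImmersion j' := MorphismProperty.of_isPullback (P := @IsOpenImmersion) S2.flip
    inferInstance
  have hcomm : j ≫ pullback.snd f (AffineSpace n Y ↘ Y) =
      Spec.map (CommRingCat.ofHom (MvPolynomial.map (σ := n) φ.hom)) ≫ j' := by
    rw [hj]; exact t.lift_fst _ _ _
  have hcomm2 : j ≫ pullback.fst f (AffineSpace n Y ↘ Y) =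
      Spec.map (CommRingCat.ofHom (MvPolynomial.C (σ := n) (R := B))) ≫ iU := by
    rw [hj]; exact t.lift_snd _ _ _
  have hfst : (pullback.fst f (AffineSpace n Y ↘ Y)) (j zt) = x := by
    rw [← Scheme.Hom.comp_apply, hcomm2, Scheme.Hom.comp_apply]
    exact hzt
  exact isOpenAt_of_square' j j' _ _ hcomm zt (h (j zt) hfst)

end

end UOPH8
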