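import Mathlib
import Groth.Prelude.Def_EGA43
import Groth.Agent.Lib.UOP2_helper8

/-! Pointwise version of: universal openness can be tested on affine spaces (main theorem). -/

set_option autoImplicit false
universe u

open TensorProduct CategoryTheory AlgebraicGeometry Limits

namespace UOPH8

variable {X Y : Scheme.{u}} (f : X ⟶ Y)

theorem isUnivOpenAt_of_affineSpace (x : X)
    (h : ∀ d : ℕ, 0 < d → ∀ x' : ↥(pullback f (AffineSpace (ULift.{u} (Fin d)) Y ↘ Y)),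
      (pullback.fst f (AffineSpace (ULift.{u} (Fin d)) Y ↘ Y)) x' = x →
      EGA43.IsOpenAt (pullback.snd f (AffineSpace (ULift.{u} (Fin d)) Y ↘ Y)).base x') :
    EGA43.IsUnivOpenAt f x := by
  intro Y' g x' hx'
  have hcond : ∀ t : ↥(pullback f g), f (pullback.fst f g t) = g (pullback.snd f g t) := fun t =>
    congrArg (fun k : pullback f g ⟶ Y => k t) pullback.condition
  set y' := pullback.snd f g x' with hy'
  have hgy' : g y' = f x := by rw [← hx', hcond]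
  obtain ⟨V, hV, hfxV⟩ : ∃ V : Y.Opens, IsAffineOpen V ∧ f x ∈ V := by
    obtain ⟨_, ⟨V, hV, rfl⟩, hfxV, -⟩ :=
      Y.isBasis_affineOpens.exists_subset_of_mem_open (Set.mem_univ (f x)) isOpen_univ
    exact ⟨V, hV, hfxV⟩
  obtain ⟨W, hW, hxW, hWV⟩ : ∃ W : X.Opens, IsAffineOpen W ∧ x ∈ W ∧ W ≤ f ⁻¹ᵁ V := by
    obtain ⟨_, ⟨W, hW, rfl⟩, hxW, hWsub⟩ :=
      X.isBasis_affineOpens.exists_subset_of_mem_open
        (show x ∈ ((f ⁻¹ᵁ V : X.Opens) : Set X) from hfxV) (f ⁻¹ᵁ V).2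
    exact ⟨W, hW, hxW, hWsub⟩
  obtain ⟨O, hO, hy'O, hOV⟩ : ∃ O : Y'.Opens, IsAffineOpen O ∧ y' ∈ O ∧ O ≤ g ⁻¹ᵁ V := by
    obtain ⟨_, ⟨O, hO, rfl⟩, hyO, hOsub⟩ :=
      Y'.isBasis_affineOpens.exists_subset_of_mem_open
        (show y' ∈ ((g ⁻¹ᵁ V : Y'.Opens) : Set Y') from by
          show g y' ∈ V
          rw [hgy']; exact hfxV) (g ⁻¹ᵁ V).2
    exact ⟨O, hO, hyO, hOsub⟩
  set φ := f.appLE V W hWV with hφdef
  set τ := g.appLE V O hOV with hτdef
  have hφ : Spec.map φ ≫ hV.fromSpec = hW.fromSpec ≫ f :=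
    IsAffineOpen.SpecMap_appLE_fromSpec f hV hW hWV
  have hτ : Spec.map τ ≫ hV.fromSpec = hO.fromSpec ≫ g :=
    IsAffineOpen.SpecMap_appLE_fromSpec g hV hO hOV
  letI algB : Algebra Γ(Y, V) Γ(X, W) := φ.hom.toAlgebra
  letI algT : Algebra Γ(Y, V) Γ(Y', O) := τ.hom.toAlgebra
  let θ : pullback (Spec.map (CommRingCat.ofHom (algebraMap Γ(Y, V) Γ(Y', O))))
      (Spec.map (CommRingCat.ofHom (algebraMap Γ(Y, V) Γ(X, W)))) ⟶ pullback g f :=
    pullback.map _ _ g f hO.fromSpec hW.fromSpec hV.fromSpec hτ hφ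
  haveI : IsOpenImmersion θ := inferInstance
  let a : Spec (CommRingCat.of (Γ(Y', O) ⊗[Γ(Y, V)] Γ(X, W))) ⟶ pullback f g :=
    (pullbackSpecIso Γ(Y, V) Γ(Y', O) Γ(X, W)).inv ≫ θ ≫ (pullbackSymmetry f g).inv
  haveI : IsOpenImmersion a := inferInstance
  have wa : a ≫ pullback.snd f g =
      Spec.map (CommRingCat.ofHom (algebraMap Γ(Y', O) (Γ(Y', O) ⊗[Γ(Y, V)] Γ(X, W)))) ≫
        hO.fromSpec := by
    simp only [a, Category.assoc, pullbackSymmetry_inv_comp_snd]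
    rw [show θ ≫ pullback.fst g f = pullback.fst _ _ ≫ hO.fromSpec from pullback.lift_fst _ _ _,
      pullbackSpecIso_inv_fst'_assoc]
  have wa2 : a ≫ pullback.fst f g =
      Spec.map (CommRingCat.ofHom (Algebra.TensorProduct.includeRight :
        Γ(X, W) →ₐ[Γ(Y, V)] Γ(Y', O) ⊗[Γ(Y, V)] Γ(X, W)).toRingHom) ≫ hW.fromSpec := by
    simp only [a, Category.assoc, pullbackSymmetry_inv_comp_fst]
    rw [show θ ≫ pullback.snd g f = pullback.snd _ _ ≫ hW.fromSpec from pullback.lift_snd _ _ _,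
      pullbackSpecIso_inv_snd_assoc]
    rfl
  -- the point `x'` is in the range of `a`
  have hpt_a : ∀ t, pullback.snd f g (a t) = hO.fromSpec
      ((Spec.map (CommRingCat.ofHom (algebraMap Γ(Y', O) (Γ(Y', O) ⊗[Γ(Y, V)] Γ(X, W))))) t) :=
    fun t => congrArg (fun k : Spec (CommRingCat.of (Γ(Y', O) ⊗[Γ(Y, V)] Γ(X, W))) ⟶ Y' => k t) wa
  have hpt_a2 : ∀ t, pullback.fst f g (a t) = hW.fromSpec
      ((Spec.map (CommRingCat.ofHom (Algebra.TensorProduct.includeRight :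
        Γ(X, W) →ₐ[Γ(Y, V)] Γ(Y', O) ⊗[Γ(Y, V)] Γ(X, W)).toRingHom)) t) :=
    fun t => congrArg (fun k : Spec (CommRingCat.of (Γ(Y', O) ⊗[Γ(Y, V)] Γ(X, W))) ⟶ X => k t) wa2
  obtain ⟨z, hz⟩ : ∃ z, a z = x' := by
    set x's := (pullbackSymmetry f g).hom x' with hx's
    have h1 : x's ∈ Set.range θ := by
      rw [Scheme.Pullback.range_map]
      constructor
      · show pullback.fst g f x's ∈ Set.range hO.fromSpec
        rw [hO.range_fromSpec, hx's, ← Scheme.Hom.comp_apply, pullbackSymmetry_hom_comp_fst]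
        exact hy'O
      · show pullback.snd g f x's ∈ Set.range hW.fromSpec
        rw [hW.range_fromSpec, hx's, ← Scheme.Hom.comp_apply, pullbackSymmetry_hom_comp_snd, hx']
        exact hxW
    obtain ⟨w, hw⟩ := h1
    refine ⟨(pullbackSpecIso Γ(Y, V) Γ(Y', O) Γ(X, W)).hom w, ?_⟩
    show ((pullbackSpecIso Γ(Y, V) Γ(Y', O) Γ(X, W)).inv ≫ θ ≫ (pullbackSymmetry f g).inv)
      ((pullbackSpecIso Γ(Y, V) Γ(Y', O) Γ(X, W)).hom w) = x'
    rw [← Scheme.Hom.comp_apply, Iso.hom_inv_id_assoc, Scheme.Hom.comp_apply, hw, hx's,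
      ← Scheme.Hom.comp_apply, Iso.hom_inv_id]
    rfl
  rw [← hz]
  apply isOpenAt_of_square a hO.fromSpec _ _ wa z
  -- ring level
  set q := (Spec.map (CommRingCat.ofHom (Algebra.TensorProduct.includeRight :
        Γ(X, W) →ₐ[Γ(Y, V)] Γ(Y', O) ⊗[Γ(Y, V)] Γ(X, W)).toRingHom)) z with hq
  have hqx : hW.fromSpec q = x := by rw [hq, ← hpt_a2, hz, hx']
  apply isOpenAt_comap_tensor (R := Γ(Y, V)) (B := Γ(X, W)) q _ Γ(Y', O) z rfl
  intro d hd zt hzt
  exact isOpenAt_SpecMap_map_of_snd f (ULift.{u} (Fin d)) x (h d hd) φ hW.fromSpec hV.fromSpec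
    hφ.symm zt (by rw [← hqx, ← hzt]; rfl)

end UOPH8
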