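import Mathlib
import Groth.Prelude.Def_EGA43
import Groth.Agent.Lib.EquiComp_helper8
import Groth.Agent.Lib.FieldExt3_helper8
import Groth.Agent.Lib.FibCoh5_helper8

/-! EGA IV 13.3.8: equidimensionality at a point is stable under flat base change. -/

universe u
open AlgebraicGeometry CategoryTheory TopologicalSpace IsLocalRing Limits

namespace EquiBCH8

variable {X Y Y' : Scheme.{u}}

/-- a maximal point of `X ×_Y Y'` lying over a maximal point of `Y` maps to a maximal point of
`Y'`. -/
theorem isMax_snd_of_isMax (f : X ⟶ Y) (g : Y' ⟶ Y)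
    (ξ' : ↥(pullback f g)) (hξ' : ∀ b, b ⤳ ξ' → b = ξ')
    (hη : ∀ b : Y, b ⤳ g.base ((pullback.snd f g).base ξ') →
      b = g.base ((pullback.snd f g).base ξ')) :
    ∀ b : Y', b ⤳ (pullback.snd f g).base ξ' → b = (pullback.snd f g).base ξ' := by
  intro η'' hη''
  have hgη'' : g.base η'' = g.base ((pullback.snd f g).base ξ') := hη _ (hη''.map g.continuous)
  generalize hη'def : (pullback.snd f g).base ξ' = η' at hη'' hgη''
  generalize hηdef : g.base η' = η at hgη''
  let ηF' : g.fiber η := (g.fiberHomeo η).symm ⟨η', hηdef⟩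
  let ηF'' : g.fiber η := (g.fiberHomeo η).symm ⟨η'', hgη''⟩
  have h1 : (g.fiberι η).base ηF' = η' := g.fiberι_fiberHomeo_symm _ _
  have h2 : (g.fiberι η).base ηF'' = η'' := g.fiberι_fiberHomeo_symm _ _
  have hsp : ηF'' ⤳ ηF' := by
    rw [← (g.fiberι η).isEmbedding.isInducing.specializes_iff, h1, h2]; exact hη''
  obtain ⟨ξ'', hξ''1, hξ''2⟩ := Scheme.Pullback.exists_preimage_pullback
    (f := pullback.snd f g) (g := g.fiberι η) ξ' ηF' (hη'def.trans h1.symm)
  -- flatness of the projection to the fibre
  have sqB : IsPullback (pullback.fst (pullback.snd f g) (g.fiberι η))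
      (pullback.snd (pullback.snd f g) (g.fiberι η)) (pullback.snd f g) (g.fiberι η) :=
    IsPullback.of_hasPullback _ _
  have sqA : IsPullback (pullback.fst f g) (pullback.snd f g) f g := IsPullback.of_hasPullback _ _
  have sqBA := sqB.paste_horiz sqA
  rw [g.fiber_fac η] at sqBA
  have sqC : IsPullback (pullback.fst f (Y.fromSpecResidueField η))
      (pullback.snd f (Y.fromSpecResidueField η)) f (Y.fromSpecResidueField η) :=
    IsPullback.of_hasPullback _ _
  have sqL := IsPullback.of_right' sqBA sqC
  haveI : Flat (pullback.snd f (Y.fromSpecResidueField η)) := inferInstance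
  haveI : Flat (pullback.snd (pullback.snd f g) (g.fiberι η)) :=
    MorphismProperty.of_isPullback (P := @Flat) sqL inferInstance
  have hgen := Flat.generalizingMap (f := pullback.snd (pullback.snd f g) (g.fiberι η))
  obtain ⟨a', ha'1, ha'2⟩ := hgen (show ηF'' ⤳
    (pullback.snd (pullback.snd f g) (g.fiberι η)).base ξ'' from hξ''2 ▸ hsp)
  have h3 : (pullback.fst (pullback.snd f g) (g.fiberι η)).base a' ⤳ ξ' := by
    rw [← hξ''1]
    exact ha'1.map (pullback.fst (pullback.snd f g) (g.fiberι η)).continuous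
  have h4 := hξ' _ h3
  have h5 : (pullback.snd f g).base ((pullback.fst (pullback.snd f g) (g.fiberι η)).base a') =
      (g.fiberι η).base ((pullback.snd (pullback.snd f g) (g.fiberι η)).base a') := by
    have := congrArg (fun φ => φ.base a')
      (pullback.condition (f := pullback.snd f g) (g := g.fiberι η))
    exact this
  rw [h4, ha'2, h2, hη'def] at h5
  exact h5.symm

theorem main (f : X ⟶ Y) [LocallyOfFiniteType f] (g : Y' ⟶ Y) [Flat g]
    [IsLocallyNoetherian Y'] (x : X) (h : EGA43.IsEquidimAt f x) (x' : ↥(pullback f g))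
    (hx' : (pullback.fst f g).base x' = x) :
    EGA43.IsEquidimAt (pullback.snd f g) x' := by
  obtain ⟨e, U, hxU, h1, h2⟩ := h
  have hconst : ∀ u ∈ U, FlatMor.fibreDimAt f u = (e : WithBot ℕ∞) := fun u hu => by
    have := EquidimCharH8.fibreDimAt_eq_of_components (U.ι ≫ f) e h2 ⟨u, hu⟩
    rwa [OpenAtEqH8.fibreDimAt_restrict] at this
  have hbc : ∀ u' : ↥(pullback f g), FlatMor.fibreDimAt (pullback.snd f g) u' =
      FlatMor.fibreDimAt f ((pullback.fst f g).base u') := fun u' =>
    FieldExtH8.fibreDimAt_baseChange f g (pullback.fst f g) (pullback.snd f g)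
      (IsPullback.of_hasPullback f g) u'
  apply EquiCompH8.isEquidimAt_of_maxpts (pullback.snd f g) x' e
  · rw [hbc, hx', hconst x hxU]
  · intro ξ' hξ'max hξ'x'
    have hpξ'U : (pullback.fst f g).base ξ' ∈ U :=
      (hξ'x'.map (pullback.fst f g).continuous).mem_open U.2 (hx' ▸ hxU)
    refine ⟨by rw [hbc, hconst _ hpξ'U], ?_⟩
    apply isMax_snd_of_isMax f g ξ' hξ'max
    have hpmax : ∀ b : X, b ⤳ (pullback.fst f g).base ξ' → b = (pullback.fst f g).base ξ' := by
      intro b hb
      obtain ⟨x'', hx''1, hx''2⟩ := FibCohH8.exists_generization_of_flat_stalkMap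
        (pullback.fst f g) ξ' (Flat.stalkMap _ ξ') ξ' specializes_rfl b hb
      rw [← hx''2, hξ'max x'' hx''1]
    have hcl := EquidimIrrH8.closure_mem_of_part f U x h1 _ hpξ'U hpmax
    have hfmax := (SubCompH8.closure_mem_irreducibleComponents_iff _).mp hcl
    have hcomm : g.base ((pullback.snd f g).base ξ') = f.base ((pullback.fst f g).base ξ') := by
      have := congrArg (fun φ => φ.base ξ') (pullback.condition (f := f) (g := g))
      exact this.symm
    rw [hcomm]; exact hfmax

end EquiBCH8
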