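import Mathlib
import Groth.Prelude.Def_CAlg2

open Polynomial

namespace Groth.Agent.Lib.Unibranch

universe u

/-- Going down for a domain whose normalization is local (abstract form). -/
theorem aux {A₀ K B : Type u} [CommRing A₀] [IsDomain A₀] [Field K] [Algebra A₀ K]
    [IsFractionRing A₀ K] (hloc : IsLocalRing (integralClosure A₀ K))
    [CommRing B] [IsDomain B] [Algebra A₀ B] (hinj : Function.Injective (algebraMap A₀ B))
    [Algebra.IsIntegral A₀ B]
    (n : Ideal B) [n.IsPrime] (hn : (n.comap (algebraMap A₀ B)).IsMaximal)
    (p : Ideal A₀) [p.IsPrime] :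
    ∃ q : Ideal B, q.IsPrime ∧ q ≤ n ∧ q.comap (algebraMap A₀ B) = p := by
  classical
  have hψ : Function.Injective
      ((algebraMap B (FractionRing B)).comp (algebraMap A₀ B)) :=
    (IsFractionRing.injective B (FractionRing B)).comp hinj
  let φ : K →+* FractionRing B := IsFractionRing.lift hψ
  have hφ : ∀ a : A₀, φ (algebraMap A₀ K a) =
      algebraMap B (FractionRing B) (algebraMap A₀ B a) :=
    fun a => IsFractionRing.lift_algebraMap hψ a
  have hφint : ∀ a' : integralClosure A₀ K,
      (φ.comp (integralClosure A₀ K).val.toRingHom) a' ∈ integralClosure B (FractionRing B) := by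
    intro a'
    obtain ⟨P, hPm, hP⟩ := a'.2
    refine ⟨P.map (algebraMap A₀ B), hPm.map _, ?_⟩
    rw [Polynomial.eval₂_map]
    have h1 := Polynomial.hom_eval₂ P (algebraMap A₀ K) φ a'.1
    rw [hP, map_zero] at h1
    have h2 : φ.comp (algebraMap A₀ K) =
        (algebraMap B (FractionRing B)).comp (algebraMap A₀ B) := RingHom.ext hφ
    rw [h2] at h1
    exact h1.symm
  let ι : integralClosure A₀ K →+* integralClosure B (FractionRing B) :=
    (φ.comp (integralClosure A₀ K).val.toRingHom).codRestrict
      (integralClosure B (FractionRing B)) hφint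
  letI algA'D : Algebra (integralClosure A₀ K) (integralClosure B (FractionRing B)) := ι.toAlgebra
  have hιval : ∀ a' : integralClosure A₀ K,
      ((algebraMap (integralClosure A₀ K) (integralClosure B (FractionRing B)) a' :
        integralClosure B (FractionRing B)) : FractionRing B) = φ a'.1 := fun _ => rfl
  have hιinj : Function.Injective
      (algebraMap (integralClosure A₀ K) (integralClosure B (FractionRing B))) := by
    intro x y hxy
    have h1 := congrArg (fun z : integralClosure B (FractionRing B) => (z : FractionRing B)) hxy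
    simp only [hιval] at h1
    exact Subtype.ext (φ.injective h1)
  haveI : FaithfulSMul (integralClosure A₀ K) (integralClosure B (FractionRing B)) :=
    (faithfulSMul_iff_algebraMap_injective _ _).mpr hιinj
  -- the commutative square
  have hsq : (algebraMap B (integralClosure B (FractionRing B))).comp (algebraMap A₀ B) =
      (algebraMap (integralClosure A₀ K) (integralClosure B (FractionRing B))).comp
        (algebraMap A₀ (integralClosure A₀ K)) := by
    ext a
    show algebraMap B (FractionRing B) (algebraMap A₀ B a) = φ (algebraMap A₀ K a)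
    exact (hφ a).symm
  haveI : Algebra.IsIntegral (integralClosure A₀ K) (integralClosure B (FractionRing B)) := by
    refine ⟨fun x => ?_⟩
    have hx1 : IsIntegral A₀ (x : FractionRing B) := isIntegral_trans (R := A₀) (A := B) _ x.2
    obtain ⟨P, hPm, hP⟩ := hx1
    refine ⟨P.map (algebraMap A₀ (integralClosure A₀ K)), hPm.map _, ?_⟩
    rw [Polynomial.eval₂_map, ← hsq]
    apply Subtype.ext
    have h1 := Polynomial.hom_eval₂ P
      ((algebraMap B (integralClosure B (FractionRing B))).comp (algebraMap A₀ B))
      (integralClosure B (FractionRing B)).val.toRingHom x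
    have h2 : ((integralClosure B (FractionRing B)).val.toRingHom).comp
        ((algebraMap B (integralClosure B (FractionRing B))).comp (algebraMap A₀ B)) =
        algebraMap A₀ (FractionRing B) := by
      ext a
      exact (IsScalarTower.algebraMap_apply A₀ B (FractionRing B) a).symm
    rw [h2] at h1
    exact h1.trans hP
  haveI : IsIntegrallyClosed (integralClosure A₀ K) :=
    integralClosure.isIntegrallyClosedOfFiniteExtension K
  haveI := hloc
  -- step 1: a prime of D over n
  have hkerBD : RingHom.ker (algebraMap B (integralClosure B (FractionRing B))) ≤ n := by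
    intro b hb
    have h1 : algebraMap B (FractionRing B) b = 0 :=
      congrArg (fun z : integralClosure B (FractionRing B) => (z : FractionRing B)) hb
    have h2 : b = 0 := (IsFractionRing.injective B (FractionRing B)) (h1.trans (map_zero _).symm)
    rw [h2]; exact n.zero_mem
  obtain ⟨n', hn'prime, hn'⟩ := Ideal.exists_ideal_over_prime_of_isIntegral_of_isDomain
    (S := integralClosure B (FractionRing B)) n hkerBD
  haveI := hn'prime
  -- step 2: contraction to A' is maximal
  haveI hM'prime : (n'.under (integralClosure A₀ K)).IsPrime := Ideal.comap_isPrime _ _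
  have hM'max : (n'.under (integralClosure A₀ K)).IsMaximal := by
    apply Ideal.isMaximal_of_isIntegral_of_isMaximal_comap (R := A₀)
    have h1 : (n'.under (integralClosure A₀ K)).comap (algebraMap A₀ (integralClosure A₀ K)) =
        n.comap (algebraMap A₀ B) := by
      rw [Ideal.under_def, Ideal.comap_comap, ← hsq, ← Ideal.comap_comap, hn']
    rw [h1]; exact hn
  have hM' : n'.under (integralClosure A₀ K) = IsLocalRing.maximalIdeal (integralClosure A₀ K) :=
    IsLocalRing.eq_maximalIdeal hM'max
  -- step 4: a prime p' of A' over p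
  have hkerA' : RingHom.ker (algebraMap A₀ (integralClosure A₀ K)) ≤ p := by
    intro a ha
    have h1 : algebraMap A₀ K a = 0 :=
      congrArg (fun z : integralClosure A₀ K => (z : K)) ha
    have h2 : a = 0 := (IsFractionRing.injective A₀ K) (h1.trans (map_zero _).symm)
    rw [h2]; exact p.zero_mem
  obtain ⟨p', hp'prime, hp'⟩ := Ideal.exists_ideal_over_prime_of_isIntegral_of_isDomain
    (S := integralClosure A₀ K) p hkerA'
  haveI := hp'prime
  have hle : p' ≤ n'.under (integralClosure A₀ K) := by
    rw [hM']; exact IsLocalRing.le_maximalIdeal hp'prime.ne_top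
  -- step 6: going down
  obtain ⟨P, hPle, hPprime, hPover⟩ := Ideal.exists_ideal_le_liesOver_of_le
    (p := p') (q := n'.under (integralClosure A₀ K)) n' hle
  haveI := hPprime
  refine ⟨P.comap (algebraMap B (integralClosure B (FractionRing B))), Ideal.comap_isPrime _ _,
    ?_, ?_⟩
  · rw [← hn']; exact Ideal.comap_mono hPle
  · rw [Ideal.comap_comap, hsq, ← Ideal.comap_comap]
    have h1 : P.comap (algebraMap (integralClosure A₀ K) (integralClosure B (FractionRing B))) = p' :=
      (hPover.over).symm
    rw [h1, hp']

theorem main {A B : Type u} [CommRing A] [IsDomain A] [IsLocalRing A]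
    (hA : CAlg2.IsUnibranch A) [CommRing B] [IsDomain B] [Algebra A B]
    (hinj : Function.Injective (algebraMap A B)) [Algebra.IsIntegral A B] (n : Ideal B) [n.IsPrime]
    (hn : n.comap (algebraMap A B) = IsLocalRing.maximalIdeal A) (p : Ideal A) [p.IsPrime] :
    ∃ q : Ideal B, q.IsPrime ∧ q ≤ n ∧ q.comap (algebraMap A B) = p := by
  obtain ⟨hdom, hloc⟩ := hA
  haveI := hdom
  have hnil : nilradical A = ⊥ := nilradical_eq_zero A
  let e : A ≃+* (A ⧸ nilradical A) :=
    ((Ideal.quotEquivOfEq hnil).trans (RingEquiv.quotientBot A)).symm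
  letI : Algebra (A ⧸ nilradical A) B := ((algebraMap A B).comp e.symm.toRingHom).toAlgebra
  have halg : ∀ a : A, algebraMap (A ⧸ nilradical A) B (e a) = algebraMap A B a := fun a => by
    show algebraMap A B (e.symm (e a)) = _
    rw [e.symm_apply_apply]
  have halg' : (algebraMap (A ⧸ nilradical A) B).comp e.toRingHom = algebraMap A B :=
    RingHom.ext halg
  have hinj' : Function.Injective (algebraMap (A ⧸ nilradical A) B) :=
    hinj.comp e.symm.injective
  haveI : Algebra.IsIntegral (A ⧸ nilradical A) B := by
    refine ⟨fun b => ?_⟩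
    obtain ⟨P, hPm, hP⟩ := Algebra.IsIntegral.isIntegral (R := A) b
    refine ⟨P.map e.toRingHom, hPm.map _, ?_⟩
    rw [Polynomial.eval₂_map, halg']
    exact hP
  have hn₀ : (n.comap (algebraMap (A ⧸ nilradical A) B)).IsMaximal := by
    have h1 : n.comap (algebraMap (A ⧸ nilradical A) B) =
        (IsLocalRing.maximalIdeal A).comap e.symm.toRingHom := by
      rw [← hn, Ideal.comap_comap]
      rfl
    rw [h1]
    exact Ideal.comap_isMaximal_of_surjective e.symm.toRingHom e.symm.surjective
  haveI hp₀ : (p.comap e.symm.toRingHom).IsPrime := Ideal.comap_isPrime _ _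
  obtain ⟨q, hq, hqn, hqp⟩ := aux (K := FractionRing (A ⧸ nilradical A)) hloc hinj' n hn₀
    (p.comap e.symm.toRingHom)
  refine ⟨q, hq, hqn, ?_⟩
  rw [← halg', ← Ideal.comap_comap, hqp, Ideal.comap_comap]
  ext a
  simp [Ideal.mem_comap]

end Groth.Agent.Lib.Unibranch
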