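import Mathlib
import Groth.Prelude.Def_CAlg2
import Groth.Agent.Lib.Unibranch_lead

/-! Going down for quasi-finite algebras over unibranch local rings (EGA IV 14.4.1.2-3). -/

universe u
open IsLocalRing

namespace Groth.Agent.Lib.UniOpenH8

section transport

theorem isLocalRing_integralClosure_of_ringEquiv {A₀ A₀' K K' : Type*} [CommRing A₀] [CommRing A₀']
    [Field K] [Field K'] [Algebra A₀ K] [Algebra A₀' K'] [IsFractionRing A₀ K]
    [IsFractionRing A₀' K'] (e : A₀ ≃+* A₀') (h : IsLocalRing (integralClosure A₀ K)) :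
    IsLocalRing (integralClosure A₀' K') := by
  let E : K ≃+* K' := IsFractionRing.ringEquivOfRingEquiv e
  have hE : ∀ a : A₀, E (algebraMap A₀ K a) = algebraMap A₀' K' (e a) := fun a =>
    IsFractionRing.ringEquivOfRingEquiv_algebraMap e a
  have hE' : ∀ a : A₀', E.symm (algebraMap A₀' K' a) = algebraMap A₀ K (e.symm a) := fun a => by
    rw [RingEquiv.symm_apply_eq, hE, RingEquiv.apply_symm_apply]
  have h1 : ∀ x : K, IsIntegral A₀ x → IsIntegral A₀' (E x) := fun x hx =>
    hx.map_of_comp_eq e.toRingHom E.toRingHom (RingHom.ext fun a => (hE a).symm)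
  have h2 : ∀ y : K', IsIntegral A₀' y → IsIntegral A₀ (E.symm y) := fun y hy =>
    hy.map_of_comp_eq e.symm.toRingHom E.symm.toRingHom (RingHom.ext fun a => (hE' a).symm)
  let f : integralClosure A₀ K →+* integralClosure A₀' K' :=
    (E.toRingHom.comp (integralClosure A₀ K).val.toRingHom).codRestrict (integralClosure A₀' K')
      (fun x => h1 _ x.2)
  have hf : Function.Bijective f := by
    constructor
    · intro a b hab
      have : E a.1 = E b.1 := congrArg Subtype.val hab
      exact Subtype.ext (E.injective this)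
    · intro y
      refine ⟨⟨E.symm y.1, h2 _ y.2⟩, Subtype.ext ?_⟩
      show E (E.symm y.1) = y.1
      exact E.apply_symm_apply _
  haveI := h
  exact (RingEquiv.ofBijective f hf).isLocalRing

theorem isUnibranch_of_ringEquiv {A A' : Type u} [CommRing A] [CommRing A'] [IsLocalRing A]
    [IsLocalRing A'] (e : A ≃+* A') (h : CAlg2.IsUnibranch A) : CAlg2.IsUnibranch A' := by
  obtain ⟨hdom, hloc⟩ := h
  have hnil : nilradical A' = (nilradical A).map (e : A →+* A') := by
    ext x
    rw [mem_nilradical]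
    constructor
    · intro hx
      have : e.symm x ∈ nilradical A := by
        rw [mem_nilradical]
        exact hx.map e.symm
      have h2 := Ideal.mem_map_of_mem (e : A →+* A') this
      simpa using h2
    · intro hx
      obtain ⟨a, ha, rfl⟩ := (Ideal.mem_map_iff_of_surjective (e : A →+* A') e.surjective).mp hx
      exact (mem_nilradical.mp ha).map (e : A →+* A')
  let e' : (A ⧸ nilradical A) ≃+* (A' ⧸ nilradical A') := Ideal.quotientEquiv _ _ e hnil
  haveI := hdom
  haveI hdom' : IsDomain (A' ⧸ nilradical A') := e'.symm.toMulEquiv.isDomain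
  exact ⟨hdom', isLocalRing_integralClosure_of_ringEquiv e' hloc⟩

end transport


section zmt

variable {A S : Type u} [CommRing A] [CommRing S] [Algebra A S]

/-- comparing primes of `S` through their traces on the integral closure. -/
theorem le_of_under_le (r : S) (hr : ∀ x : S, ∃ m : ℕ, IsIntegral A (r ^ m * x))
    (a b : Ideal S) [hb : b.IsPrime] (hrb : r ∉ b)
    (hab : a.comap (algebraMap (integralClosure A S) S) ≤
      b.comap (algebraMap (integralClosure A S) S)) :
    a ≤ b := by
  intro x hx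
  obtain ⟨m, hm⟩ := hr x
  have h1 : (⟨r ^ m * x, hm⟩ : integralClosure A S) ∈
      a.comap (algebraMap (integralClosure A S) S) := by
    show r ^ m * x ∈ a
    exact a.mul_mem_left _ hx
  have h3 : r ^ m * x ∈ b := hab h1
  rcases hb.mem_or_mem h3 with h4 | h4
  · exact absurd (hb.mem_of_pow_mem _ h4) hrb
  · exact h4

/-- primes of the integral closure not containing `r` lift to `S`. -/
theorem exists_prime_over (r : S) (hrint : IsIntegral A r)
    (hr : ∀ x : S, ∃ m : ℕ, IsIntegral A (r ^ m * x))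
    (a : Ideal (integralClosure A S)) [ha : a.IsPrime]
    (hra : (⟨r, hrint⟩ : integralClosure A S) ∉ a) :
    ∃ q : Ideal S, q.IsPrime ∧ q.comap (algebraMap (integralClosure A S) S) = a := by
  rw [← Ideal.comap_map_eq_self_iff_of_isPrime]
  apply le_antisymm _ Ideal.le_comap_map
  have key : ∀ z : S, z ∈ a.map (algebraMap (integralClosure A S) S) →
      ∃ (m : ℕ) (w : integralClosure A S), w ∈ a ∧ (w : S) = r ^ m * z := by
    intro z hz
    unfold Ideal.map at hz
    induction hz using Submodule.span_induction with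
    | mem z hz =>
      obtain ⟨a₀, ha₀, rfl⟩ := hz
      exact ⟨0, a₀, ha₀, by simp⟩
    | zero => exact ⟨0, 0, a.zero_mem, by simp⟩
    | add z₁ z₂ _ _ h₁ h₂ =>
      obtain ⟨m₁, w₁, hw₁, e₁⟩ := h₁
      obtain ⟨m₂, w₂, hw₂, e₂⟩ := h₂
      refine ⟨m₁ + m₂, (⟨r, hrint⟩ : integralClosure A S) ^ m₂ * w₁ +
        (⟨r, hrint⟩ : integralClosure A S) ^ m₁ * w₂,
        a.add_mem (a.mul_mem_left _ hw₁) (a.mul_mem_left _ hw₂), ?_⟩
      push_cast
      rw [e₁, e₂]
      ring
    | smul s z _ h =>
      obtain ⟨m, w, hw, e⟩ := h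
      obtain ⟨k, hk⟩ := hr s
      refine ⟨k + m, (⟨r ^ k * s, hk⟩ : integralClosure A S) * w, a.mul_mem_left _ hw, ?_⟩
      push_cast
      rw [e, smul_eq_mul]
      ring
  intro y hy
  obtain ⟨m, w, hw, e⟩ := key _ hy
  have h1 : (⟨r, hrint⟩ : integralClosure A S) ^ m * y = w := by
    apply Subtype.ext
    push_cast
    exact e.symm
  have h2 : (⟨r, hrint⟩ : integralClosure A S) ^ m * y ∈ a := h1 ▸ hw
  rcases ha.mem_or_mem h2 with h4 | h4
  · exact absurd (ha.mem_of_pow_mem _ h4) hra
  · exact h4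

end zmt


section main

theorem exists_prime_le_of_isUnibranch {A S : Type u} [CommRing A] [IsLocalRing A] [CommRing S]
    [Algebra A S] [Algebra.FiniteType A S] (hA : CAlg2.IsUnibranch A) (q : Ideal S) [q.IsPrime]
    [Algebra.QuasiFiniteAt A q] (hq : q.comap (algebraMap A S) = maximalIdeal A)
    (hmin : ∀ P ∈ minimalPrimes S, P ≤ q → P.comap (algebraMap A S) ≤ nilradical A)
    (p' : Ideal A) [hp' : p'.IsPrime] :
    ∃ q' : Ideal S, q'.IsPrime ∧ q' ≤ q ∧ q'.comap (algebraMap A S) = p' := by
  obtain ⟨hdom, hloc⟩ := hA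
  have hZ := Algebra.ZariskisMainProperty.of_finiteType (R := A) q
  obtain ⟨r, hrq, hrint, hr⟩ := Algebra.zariskisMainProperty_iff.mp hZ
  let φ : integralClosure A S →+* S := algebraMap (integralClosure A S) S
  have hφ : (algebraMap A S) = φ.comp (algebraMap A (integralClosure A S)) := rfl
  set Q : Ideal (integralClosure A S) := q.comap φ with hQ
  have hrQ : (⟨r, hrint⟩ : integralClosure A S) ∉ Q := hrq
  obtain ⟨P, hPmin, hPQ⟩ :=
    Ideal.exists_minimalPrimes_le (bot_le : (⊥ : Ideal (integralClosure A S)) ≤ Q)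
  haveI hPprime : P.IsPrime := hPmin.1.1
  have hrP : (⟨r, hrint⟩ : integralClosure A S) ∉ P := fun h => hrQ (hPQ h)
  obtain ⟨Pt, hPt, hPtP⟩ := exists_prime_over r hrint hr P hrP
  haveI := hPt
  have hPtq : Pt ≤ q := le_of_under_le r hr Pt q hrq (by rw [hPtP]; exact hPQ)
  have hPtmin : Pt ∈ minimalPrimes S := by
    refine ⟨⟨hPt, bot_le⟩, ?_⟩
    rintro P₂ ⟨hP₂, -⟩ hP₂le
    haveI := hP₂
    have hrP₂ : r ∉ P₂ := fun h => hrq (hPtq (hP₂le h))
    apply le_of_under_le r hr Pt P₂ hrP₂
    rw [hPtP]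
    have h1 : P₂.comap φ ≤ P := by rw [← hPtP]; exact Ideal.comap_mono hP₂le
    exact hPmin.2 ⟨Ideal.comap_isPrime _ _, bot_le⟩ h1
  haveI := hdom
  haveI hnilprime : (nilradical A).IsPrime := (Ideal.Quotient.isDomain_iff_prime _).mp hdom
  have hPunder : P.comap (algebraMap A (integralClosure A S)) = nilradical A := by
    apply le_antisymm
    · have h1 := hmin Pt hPtmin hPtq
      have h2 : P.comap (algebraMap A (integralClosure A S)) = Pt.comap (algebraMap A S) := by
        rw [← hPtP, Ideal.comap_comap]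
        rfl
      rw [h2]; exact h1
    · exact nilradical_le_prime _
  haveI : P.LiesOver (nilradical A) := ⟨hPunder.symm⟩
  have hinj : Function.Injective
      (algebraMap (A ⧸ nilradical A) (integralClosure A S ⧸ P)) :=
    FaithfulSMul.algebraMap_injective _ _
  set n : Ideal (integralClosure A S ⧸ P) := Q.map (Ideal.Quotient.mk P) with hn
  haveI hnprime : n.IsPrime :=
    Ideal.map_isPrime_of_surjective Ideal.Quotient.mk_surjective (by rw [Ideal.mk_ker]; exact hPQ)
  have hncomap : n.comap (algebraMap (A ⧸ nilradical A) (integralClosure A S ⧸ P)) =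
      (maximalIdeal A).map (Ideal.Quotient.mk (nilradical A)) := by
    ext x
    obtain ⟨a, rfl⟩ := Ideal.Quotient.mk_surjective x
    rw [Ideal.mem_comap, Ideal.Quotient.algebraMap_mk_of_liesOver, hn,
      Ideal.mem_quotient_iff_mem hPQ,
      Ideal.mem_quotient_iff_mem (nilradical_le_prime (maximalIdeal A)), ← hq]
    rfl
  have hnmax : (n.comap (algebraMap (A ⧸ nilradical A) (integralClosure A S ⧸ P))).IsMaximal := by
    rw [hncomap]
    exact Ideal.IsMaximal.map_of_surjective_of_ker_le Ideal.Quotient.mk_surjective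
      (by rw [Ideal.mk_ker]; exact nilradical_le_prime _)
  haveI hp₀' : (p'.map (Ideal.Quotient.mk (nilradical A))).IsPrime :=
    Ideal.map_isPrime_of_surjective Ideal.Quotient.mk_surjective
      (by rw [Ideal.mk_ker]; exact nilradical_le_prime p')
  obtain ⟨𝔮, h𝔮prime, h𝔮n, h𝔮p⟩ := Groth.Agent.Lib.Unibranch.aux
    (A₀ := A ⧸ nilradical A) (K := FractionRing (A ⧸ nilradical A))
    (B := integralClosure A S ⧸ P) hloc hinj n hnmax (p'.map (Ideal.Quotient.mk (nilradical A)))
  haveI := h𝔮prime
  set Q' : Ideal (integralClosure A S) := 𝔮.comap (Ideal.Quotient.mk P) with hQ'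
  haveI hQ'prime : Q'.IsPrime := Ideal.comap_isPrime _ _
  have hQ'Q : Q' ≤ Q := by
    intro x hx
    have h1 : Ideal.Quotient.mk P x ∈ n := h𝔮n hx
    rwa [hn, Ideal.mem_quotient_iff_mem hPQ] at h1
  have hrQ' : (⟨r, hrint⟩ : integralClosure A S) ∉ Q' := fun h => hrQ (hQ'Q h)
  have hQ'under : Q'.comap (algebraMap A (integralClosure A S)) = p' := by
    ext a
    rw [Ideal.mem_comap, hQ', Ideal.mem_comap, ← Ideal.Quotient.algebraMap_mk_of_liesOver P
      (nilradical A), ← Ideal.mem_comap, h𝔮p, Ideal.mem_quotient_iff_mem (nilradical_le_prime p')]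
  obtain ⟨q', hq'prime, hq'Q'⟩ := exists_prime_over r hrint hr Q' hrQ'
  refine ⟨q', hq'prime, ?_, ?_⟩
  · exact le_of_under_le r hr q' q hrq (by rw [hq'Q']; exact hQ'Q)
  · rw [hφ, ← Ideal.comap_comap, hq'Q', hQ'under]

end main

end Groth.Agent.Lib.UniOpenH8
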