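import Mathlib
import Groth.Prelude.Def_CAlg2
import Groth.Agent.Lib.UniOpen1_helper8

/-! Lifting generizations along quasi-finite morphisms to a unibranch point (EGA IV 14.4.1.3). -/

universe u
open AlgebraicGeometry CategoryTheory Limits IsLocalRing TopologicalSpace

namespace Groth.Agent.Lib.UniOpenH8

theorem exists_generization_of_isUnibranch {U Y₁ : Scheme.{u}} (g : U ⟶ Y₁)
    [LocallyOfFiniteType g] [LocallyQuasiFinite g] (x : U)
    (hu : CAlg2.IsUnibranch (Y₁.presheaf.stalk (g x)))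
    (hcomp : ∀ ξ : U, (∀ b : U, b ⤳ ξ → b = ξ) → ξ ⤳ x → ∀ b : Y₁, b ⤳ g ξ → b = g ξ)
    (y' : Y₁) (hy' : y' ⤳ g x) : ∃ x' : U, x' ⤳ x ∧ g x' = y' := by
  set j := Y₁.fromSpecStalk (g x) with hj
  have sq : IsPullback (pullback.fst g j) (pullback.snd g j) g j := IsPullback.of_hasPullback g j
  have hclosed : j (closedPoint _) = g x := Scheme.fromSpecStalk_closedPoint
  have hrange : Set.range j = {y' | y' ⤳ g x} := Scheme.range_fromSpecStalk
  obtain ⟨xA, hxA1, hxA2⟩ := Scheme.Pullback.exists_preimage_pullback (f := g) (g := j) x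
    (closedPoint _) hclosed.symm
  have hcomm : ∀ a : ↥(pullback g j), g (pullback.fst g j a) = j (pullback.snd g j a) := fun a =>
    congrArg (fun k : pullback g j ⟶ Y₁ => k a) sq.w
  haveI : IsPreimmersion (pullback.fst g j) := MorphismProperty.pullback_fst g j inferInstance
  have hemb : Topology.IsEmbedding (pullback.fst g j) := (pullback.fst g j).isEmbedding
  obtain ⟨t', ht'⟩ : y' ∈ Set.range j := by rw [hrange]; exact hy'
  -- maximal points upstairs map to maximal points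
  have hmaxpr : ∀ ξ' : ↥(pullback g j), (∀ ξ'' : ↥(pullback g j), ξ'' ⤳ ξ' → ξ'' = ξ') →
      ∀ ξ0 : U, ξ0 ⤳ pullback.fst g j ξ' → ξ0 = pullback.fst g j ξ' := by
    intro ξ' hξ' ξ0 hξ0
    have h1 : g ξ0 ⤳ j (pullback.snd g j ξ') := by
      rw [← hcomm]; exact hξ0.map g.continuous
    have h2 : j (pullback.snd g j ξ') ⤳ g x := by
      have : j (pullback.snd g j ξ') ∈ Set.range j := ⟨_, rfl⟩
      rw [hrange] at this
      exact this
    have h3 : g ξ0 ∈ Set.range j := by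
      rw [hrange]
      exact h1.trans h2
    have h4 : ξ0 ∈ Set.range (pullback.fst g j) := by
      rw [Scheme.Pullback.range_fst]; exact h3
    obtain ⟨ξ0', rfl⟩ := h4
    have h5 : ξ0' ⤳ ξ' := hemb.isInducing.specializes_iff.mp hξ0
    rw [hξ' ξ0' h5]
  -- affine chart
  obtain ⟨W, hW, hxW⟩ : ∃ W : (pullback g j).Opens, IsAffineOpen W ∧ xA ∈ W := by
    obtain ⟨_, ⟨W, hW, rfl⟩, hxW, -⟩ :=
      (pullback g j).isBasis_affineOpens.exists_subset_of_mem_open (Set.mem_univ xA) isOpen_univ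
    exact ⟨W, hW, hxW⟩
  have hTop : IsAffineOpen (⊤ : (Spec (Y₁.presheaf.stalk (g x))).Opens) := isAffineOpen_top _
  have hWtop : W ≤ (pullback.snd g j) ⁻¹ᵁ ⊤ := le_top
  set ψ := (pullback.snd g j).appLE ⊤ W hWtop with hψ
  have hnat : Spec.map ψ ≫ hTop.fromSpec = hW.fromSpec ≫ pullback.snd g j :=
    IsAffineOpen.SpecMap_appLE_fromSpec (pullback.snd g j) hTop hW hWtop
  have hnatpt : ∀ z : PrimeSpectrum Γ(pullback g j, W),
      hTop.fromSpec (PrimeSpectrum.comap ψ.hom z) = pullback.snd g j (hW.fromSpec z) := fun z =>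
    congrArg (fun k : Spec Γ(pullback g j, W) ⟶ Spec (Y₁.presheaf.stalk (g x)) => k z) hnat
  have hTopinj : Function.Injective hTop.fromSpec := hTop.fromSpec.isOpenEmbedding.injective
  algebraize [ψ.hom]
  let eA : Γ(Spec (Y₁.presheaf.stalk (g x)), ⊤) ≃+* Y₁.presheaf.stalk (g x) :=
    (Scheme.ΓSpecIso (Y₁.presheaf.stalk (g x))).commRingCatIsoToRingEquiv
  haveI : IsLocalRing Γ(Spec (Y₁.presheaf.stalk (g x)), ⊤) := eA.symm.isLocalRing
  have huA' : CAlg2.IsUnibranch Γ(Spec (Y₁.presheaf.stalk (g x)), ⊤) :=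
    isUnibranch_of_ringEquiv eA.symm hu
  haveI : Algebra.FiniteType Γ(Spec (Y₁.presheaf.stalk (g x)), ⊤) Γ(pullback g j, W) := by
    have := HasRingHomProperty.appLE (P := @LocallyOfFiniteType) (pullback.snd g j) inferInstance
      ⟨⊤, hTop⟩ ⟨W, hW⟩ hWtop
    exact this
  set qpt := hW.primeIdealOf ⟨xA, hxW⟩ with hqpt
  have hqptx : hW.fromSpec qpt = xA := hW.fromSpec_primeIdealOf ⟨xA, hxW⟩
  haveI hqf : Algebra.QuasiFiniteAt Γ(Spec (Y₁.presheaf.stalk (g x)), ⊤) qpt.asIdeal := by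
    have := ((pullback.snd g j).quasiFiniteAt xA).quasiFiniteAt hW hTop hWtop hxW
    exact this
  -- the closed point
  have hq : qpt.asIdeal.comap (algebraMap Γ(Spec (Y₁.presheaf.stalk (g x)), ⊤)
      Γ(pullback g j, W)) = maximalIdeal _ := by
    have h1 : hTop.fromSpec (PrimeSpectrum.comap ψ.hom qpt) = closedPoint _ := by
      rw [hnatpt, hqptx, hxA2]
    have h2 : IsClosed ({PrimeSpectrum.comap ψ.hom qpt} :
        Set (PrimeSpectrum Γ(Spec (Y₁.presheaf.stalk (g x)), ⊤))) := by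
      have h3 : ({PrimeSpectrum.comap ψ.hom qpt} :
          Set (PrimeSpectrum Γ(Spec (Y₁.presheaf.stalk (g x)), ⊤))) =
          hTop.fromSpec ⁻¹' {closedPoint _} := by
        ext z
        simp only [Set.mem_singleton_iff, Set.mem_preimage]
        constructor
        · rintro rfl; exact h1
        · intro hz; exact hTopinj (hz.trans h1.symm)
      rw [h3]
      exact (IsLocalRing.isClosed_singleton_closedPoint _).preimage hTop.fromSpec.continuous
    have h4 := (PrimeSpectrum.isClosed_singleton_iff_isMaximal _).mp h2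
    exact IsLocalRing.eq_maximalIdeal h4
  -- minimal primes
  haveI hnilprime : (nilradical Γ(Spec (Y₁.presheaf.stalk (g x)), ⊤)).IsPrime := by
    haveI := huA'.1
    exact (Ideal.Quotient.isDomain_iff_prime _).mp huA'.1
  have hmin : ∀ P ∈ minimalPrimes Γ(pullback g j, W), P ≤ qpt.asIdeal →
      P.comap (algebraMap Γ(Spec (Y₁.presheaf.stalk (g x)), ⊤) Γ(pullback g j, W)) ≤
        nilradical _ := by
    intro P hP hPq
    haveI hPprime : P.IsPrime := hP.1.1
    set ξW : PrimeSpectrum Γ(pullback g j, W) := ⟨P, hPprime⟩ with hξW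
    set ξA := hW.fromSpec ξW with hξA
    have hξAmax : ∀ b : ↥(pullback g j), b ⤳ ξA → b = ξA := by
      intro b hb
      have hbr : b ∈ Set.range hW.fromSpec :=
        hb.mem_open hW.fromSpec.isOpenEmbedding.isOpen_range ⟨ξW, rfl⟩
      obtain ⟨b', rfl⟩ := hbr
      have h1 : b' ⤳ ξW := hW.fromSpec.isOpenEmbedding.isInducing.specializes_iff.mp hb
      have h2 : b'.asIdeal ≤ P := (PrimeSpectrum.le_iff_specializes b' ξW).mpr h1
      have h3 : P ≤ b'.asIdeal := hP.2 ⟨b'.isPrime, bot_le⟩ h2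
      have h4 : b' = ξW := PrimeSpectrum.ext (le_antisymm h2 h3)
      rw [h4]
    have hξAx : ξA ⤳ xA := by
      rw [← hqptx]
      exact ((PrimeSpectrum.le_iff_specializes ξW qpt).mp hPq).map hW.fromSpec.continuous
    have hprmax := hmaxpr ξA hξAmax
    have hprx : pullback.fst g j ξA ⤳ x := by
      have := hξAx.map (pullback.fst g j).continuous
      rwa [hxA1] at this
    have hgmax := hcomp _ hprmax hprx
    have hsndmax : ∀ c : ↥(Spec (Y₁.presheaf.stalk (g x))), c ⤳ pullback.snd g j ξA →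
        c = pullback.snd g j ξA := by
      intro c hc
      apply j.isEmbedding.injective
      rw [← hcomm]
      apply hgmax
      rw [hcomm]
      exact hc.map j.continuous
    set 𝔭 := PrimeSpectrum.comap ψ.hom ξW with h𝔭
    have h𝔭eq : hTop.fromSpec 𝔭 = pullback.snd g j ξA := hnatpt ξW
    have h𝔭min : ∀ 𝔭₂ : PrimeSpectrum Γ(Spec (Y₁.presheaf.stalk (g x)), ⊤), 𝔭₂ ≤ 𝔭 → 𝔭₂ = 𝔭 := by
      intro 𝔭₂ h𝔭₂
      apply hTopinj
      rw [h𝔭eq]
      apply hsndmax
      rw [← h𝔭eq]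
      exact ((PrimeSpectrum.le_iff_specializes 𝔭₂ 𝔭).mp h𝔭₂).map hTop.fromSpec.continuous
    have h5 : (⟨nilradical _, hnilprime⟩ : PrimeSpectrum Γ(Spec (Y₁.presheaf.stalk (g x)), ⊤)) = 𝔭 :=
      h𝔭min _ (nilradical_le_prime 𝔭.asIdeal)
    have h6 : P.comap (algebraMap Γ(Spec (Y₁.presheaf.stalk (g x)), ⊤) Γ(pullback g j, W)) =
        𝔭.asIdeal := rfl
    rw [h6, ← h5]
  -- the prime for y'
  set p'pt := hTop.primeIdealOf ⟨t', trivial⟩ with hp'pt
  have hp'ptt : hTop.fromSpec p'pt = t' := hTop.fromSpec_primeIdealOf ⟨t', trivial⟩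
  obtain ⟨q', hq'prime, hq'le, hq'under⟩ :=
    exists_prime_le_of_isUnibranch huA' qpt.asIdeal hq hmin p'pt.asIdeal
  set q'pt : PrimeSpectrum Γ(pullback g j, W) := ⟨q', hq'prime⟩ with hq'pt
  have h7 : PrimeSpectrum.comap ψ.hom q'pt = p'pt := PrimeSpectrum.ext hq'under
  have h8 : pullback.snd g j (hW.fromSpec q'pt) = t' := by
    rw [← hnatpt, h7, hp'ptt]
  have h9 : hW.fromSpec q'pt ⤳ xA := by
    rw [← hqptx]
    exact ((PrimeSpectrum.le_iff_specializes q'pt qpt).mp hq'le).map hW.fromSpec.continuous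
  refine ⟨pullback.fst g j (hW.fromSpec q'pt), ?_, ?_⟩
  · have := h9.map (pullback.fst g j).continuous
    rwa [hxA1] at this
  · rw [hcomm, h8, ht']

end Groth.Agent.Lib.UniOpenH8
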