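import Mathlib
import Groth.Prelude.Def_CAlg2
import Groth.Prelude.Def_EGA43
import Groth.Agent.Lib.UniOpen2_helper8
import Groth.Agent.Lib.EquidimAt3_helper8
import Groth.Agent.Lib.EquiBC_helper8
import Groth.Agent.Lib.UO4_helper8
import Groth.Agent.S4936

/-! Chevalley's criterion for universal openness (EGA IV 14.4.4). -/

universe u
open AlgebraicGeometry CategoryTheory Limits IsLocalRing TopologicalSpace

namespace Groth.Agent.Lib.UniOpenH8

theorem generalizingMap_of_equidim {X Y : Scheme.{u}} [IsLocallyNoetherian Y]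
    (hY : ∀ y : Y, CAlg2.IsGeomUnibranch (Y.presheaf.stalk y)) (f : X ⟶ Y)
    [LocallyOfFiniteType f] (h : ∀ x : X, EGA43.IsEquidimAt f x) : GeneralizingMap f.base := by
  intro x y' hy'
  obtain ⟨e, U, g, hxU, hg, hlqf, Hc⟩ := Groth.Agent.Lib.EquidimAtH8.a_imp_b f x (h x)
  haveI := hlqf
  haveI : Flat (𝔸(ULift.{u} (Fin e); Y) ↘ Y) := Groth.Agent.Lib.EquidimAtH8.flat_affineSpace _ _
  have hπgen : GeneralizingMap (𝔸(ULift.{u} (Fin e); Y) ↘ Y).base := Flat.generalizingMap _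
  let x₁ : (U : Scheme.{u}) := ⟨x, hxU⟩
  have hpt : ∀ u : (U : Scheme.{u}), (𝔸(ULift.{u} (Fin e); Y) ↘ Y) (g u) = f (U.ι u) := fun u =>
    congrArg (fun k : (U : Scheme.{u}) ⟶ Y => k u) hg
  have hx₁ : U.ι x₁ = x := rfl
  obtain ⟨y₁', hy₁', hπy₁'⟩ := hπgen (a := g x₁) (b := y') (by rw [hpt, hx₁]; exact hy')
  have hu : CAlg2.IsUnibranch ((𝔸(ULift.{u} (Fin e); Y)).presheaf.stalk (g x₁)) :=
    (Groth.Agent.S4936.result e (g x₁) (hY _)).1
  have hcomp : ∀ ξ : (U : Scheme.{u}), (∀ b : (U : Scheme.{u}), b ⤳ ξ → b = ξ) → ξ ⤳ x₁ →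
      ∀ b : ↥𝔸(ULift.{u} (Fin e); Y), b ⤳ g ξ → b = g ξ := by
    intro ξ hξmax _
    have hZ := (SubCompH8.closure_mem_irreducibleComponents_iff ξ).mpr hξmax
    have h1 := Hc _ hZ
    rw [EquiCompH8.closure_image_closure g ξ] at h1
    exact (SubCompH8.closure_mem_irreducibleComponents_iff (g ξ)).mp h1
  haveI : LocallyOfFiniteType (g ≫ (𝔸(ULift.{u} (Fin e); Y) ↘ Y)) := by rw [hg]; infer_instance
  haveI : LocallyOfFiniteType g := locallyOfFiniteType_of_comp g (𝔸(ULift.{u} (Fin e); Y) ↘ Y)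
  obtain ⟨x', hx'x, hgx'⟩ := exists_generization_of_isUnibranch g x₁ hu hcomp y₁' hy₁'
  refine ⟨U.ι x', ?_, ?_⟩
  · have := hx'x.map U.ι.continuous
    rwa [hx₁] at this
  · rw [← hpt, hgx', hπy₁']

theorem universallyOpen_of_equidim {X Y : Scheme.{u}} [IsLocallyNoetherian Y]
    (hY : ∀ y : Y, CAlg2.IsGeomUnibranch (Y.presheaf.stalk y)) (f : X ⟶ Y) [LocallyOfFiniteType f]
    (h : ∀ x : X, EGA43.IsEquidimAt f x) : UniversallyOpen f := by
  apply UOH8.universallyOpen_of_affineSpace f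
  intro n _
  haveI : Flat (𝔸(ULift.{u} (Fin n); Y) ↘ Y) := Groth.Agent.Lib.EquidimAtH8.flat_affineSpace _ _
  haveI : IsLocallyNoetherian 𝔸(ULift.{u} (Fin n); Y) :=
    LocallyOfFiniteType.isLocallyNoetherian (𝔸(ULift.{u} (Fin n); Y) ↘ Y)
  have hgen := generalizingMap_of_equidim (Y := 𝔸(ULift.{u} (Fin n); Y))
    (fun y' => Groth.Agent.S4936.result n y' (hY _))
    (pullback.snd f (𝔸(ULift.{u} (Fin n); Y) ↘ Y))
    (fun x' => EquiBCH8.main f (𝔸(ULift.{u} (Fin n); Y) ↘ Y) _ (h _) x' rfl)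
  haveI : LocallyOfFinitePresentation (pullback.snd f (𝔸(ULift.{u} (Fin n); Y) ↘ Y)) :=
    inferInstance
  exact isOpenMap_of_generalizingMap _ hgen

end Groth.Agent.Lib.UniOpenH8
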