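import Mathlib
import Groth.Prelude.Def_CAlg2
import Groth.Prelude.Def_EGA43
import Groth.Agent.Lib.UniOpen2_helper8

/-! Openness at a point from lifting of generizations (EGA IV 1.10.3-type). -/

universe u
open AlgebraicGeometry CategoryTheory Limits IsLocalRing TopologicalSpace Topology

namespace Groth.Agent.Lib.UniOpenH8

/-- a constructible subset of a prime spectrum containing all generizations of a point is a
neighbourhood of it. -/
theorem mem_nhds_of_isConstructible {R : Type u} [CommRing R] (E : Set (PrimeSpectrum R))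
    (hE : IsConstructible E) (y : PrimeSpectrum R) (hgen : ∀ y' : PrimeSpectrum R, y' ≤ y → y' ∈ E) :
    E ∈ nhds y := by
  obtain ⟨S', _, φ, hφ⟩ := PrimeSpectrum.exists_range_eq_of_isConstructible hE.compl
  have h0 : (0 : S') ∈ Submonoid.map φ y.asIdeal.primeCompl := by
    by_contra h0
    have hdisj : Disjoint ((⊥ : Ideal S') : Set S') (Submonoid.map φ y.asIdeal.primeCompl) := by
      rw [Set.disjoint_left]
      intro a ha ha'
      have : a = 0 := ha
      rw [this] at ha'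
      exact h0 ha'
    obtain ⟨𝔮, h𝔮, -, h𝔮disj⟩ := Ideal.exists_le_prime_disjoint (⊥ : Ideal S') _ hdisj
    let z : PrimeSpectrum S' := ⟨𝔮, h𝔮⟩
    have hz : PrimeSpectrum.comap φ z ≤ y := by
      intro a ha
      by_contra hay
      exact Set.disjoint_left.mp h𝔮disj ha ⟨a, hay, rfl⟩
    have h1 : PrimeSpectrum.comap φ z ∈ Eᶜ := hφ ▸ ⟨z, rfl⟩
    exact h1 (hgen _ hz)
  obtain ⟨s, hs, hs0⟩ := h0
  have hsub : (PrimeSpectrum.basicOpen s : Set (PrimeSpectrum R)) ⊆ E := by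
    intro w hw
    by_contra hwE
    have : w ∈ Set.range (PrimeSpectrum.comap φ) := hφ ▸ hwE
    obtain ⟨z, rfl⟩ := this
    apply hw
    show φ s ∈ z.asIdeal
    rw [hs0]
    exact z.asIdeal.zero_mem
  exact Filter.mem_of_superset ((PrimeSpectrum.basicOpen s).2.mem_nhds hs) hsub

/-- openness at a point from lifting of generizations, for morphisms locally of finite
presentation. -/
theorem isOpenAt_of_generizations {X Y : Scheme.{u}} (f : X ⟶ Y) [LocallyOfFinitePresentation f]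
    (x : X) (hgen : ∀ y' : Y, y' ⤳ f x → ∃ x' : X, x' ⤳ x ∧ f x' = y') :
    EGA43.IsOpenAt f.base x := by
  intro N hN
  obtain ⟨N₀, hN₀N, hN₀open, hxN₀⟩ := mem_nhds_iff.mp hN
  obtain ⟨V, hV, hfxV⟩ : ∃ V : Y.Opens, IsAffineOpen V ∧ f x ∈ V := by
    obtain ⟨_, ⟨V, hV, rfl⟩, hfxV, -⟩ :=
      Y.isBasis_affineOpens.exists_subset_of_mem_open (Set.mem_univ (f x)) isOpen_univ
    exact ⟨V, hV, hfxV⟩
  obtain ⟨W, hW, hxW, hWsub⟩ : ∃ W : X.Opens, IsAffineOpen W ∧ x ∈ W ∧
      (W : Set X) ⊆ N₀ ∩ ((f ⁻¹ᵁ V : X.Opens) : Set X) := by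
    obtain ⟨_, ⟨W, hW, rfl⟩, hxW, hWsub⟩ :=
      X.isBasis_affineOpens.exists_subset_of_mem_open
        (show x ∈ N₀ ∩ ((f ⁻¹ᵁ V : X.Opens) : Set X) from ⟨hxN₀, hfxV⟩)
        (hN₀open.inter (f ⁻¹ᵁ V).2)
    exact ⟨W, hW, hxW, hWsub⟩
  have hWV : W ≤ f ⁻¹ᵁ V := fun a ha => (hWsub ha).2
  set φ := f.appLE V W hWV with hφ
  have hnat : Spec.map φ ≫ hV.fromSpec = hW.fromSpec ≫ f :=
    IsAffineOpen.SpecMap_appLE_fromSpec f hV hW hWV
  have hnatpt : ∀ z : PrimeSpectrum Γ(X, W),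
      hV.fromSpec (PrimeSpectrum.comap φ.hom z) = f (hW.fromSpec z) := fun z =>
    congrArg (fun k : Spec Γ(X, W) ⟶ Y => k z) hnat
  have hVinj : Function.Injective hV.fromSpec := hV.fromSpec.isOpenEmbedding.injective
  have hfp : φ.hom.FinitePresentation :=
    HasRingHomProperty.appLE (P := @LocallyOfFinitePresentation) f inferInstance
      ⟨V, hV⟩ ⟨W, hW⟩ hWV
  have hcons : IsConstructible (Set.range (PrimeSpectrum.comap φ.hom)) :=
    PrimeSpectrum.isConstructible_range_comap hfp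
  set ypt := hV.primeIdealOf ⟨f x, hfxV⟩ with hypt
  have hyptx : hV.fromSpec ypt = f x := hV.fromSpec_primeIdealOf ⟨f x, hfxV⟩
  have hnb : Set.range (PrimeSpectrum.comap φ.hom) ∈ nhds ypt := by
    apply mem_nhds_of_isConstructible _ hcons
    intro y' hy'
    have h1 : hV.fromSpec y' ⤳ f x := by
      rw [← hyptx]
      exact ((PrimeSpectrum.le_iff_specializes y' ypt).mp hy').map hV.fromSpec.continuous
    obtain ⟨x', hx'x, hfx'⟩ := hgen _ h1
    have hx'W : x' ∈ W := hx'x.mem_open W.2 hxW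
    set q' := hW.primeIdealOf ⟨x', hx'W⟩ with hq'
    have hq'x : hW.fromSpec q' = x' := hW.fromSpec_primeIdealOf ⟨x', hx'W⟩
    refine ⟨q', hVinj ?_⟩
    rw [hnatpt, hq'x, hfx']
  -- transport to Y
  have himg : hV.fromSpec '' (Set.range (PrimeSpectrum.comap φ.hom)) ⊆ f '' N := by
    rintro _ ⟨_, ⟨z, rfl⟩, rfl⟩
    refine ⟨hW.fromSpec z, hN₀N (hWsub ?_).1, (hnatpt z).symm⟩
    have : hW.fromSpec z ∈ Set.range hW.fromSpec := ⟨z, rfl⟩
    rw [hW.range_fromSpec] at this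
    exact this
  have h2 : hV.fromSpec '' (Set.range (PrimeSpectrum.comap φ.hom)) ∈ nhds (hV.fromSpec ypt) :=
    hV.fromSpec.isOpenEmbedding.image_mem_nhds.mpr hnb
  rw [hyptx] at h2
  exact Filter.mem_of_superset h2 himg

end Groth.Agent.Lib.UniOpenH8
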