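import Mathlib
import Groth.Prelude.Def_CAlg2
import Groth.Prelude.Def_EGA43
import Groth.Agent.Lib.UniOpen3_helper8
import Groth.Agent.Lib.UniOpen4_helper8
import Groth.Agent.Lib.UOP3_helper8

/-! Pointwise Chevalley criterion: equidimensional at `x` over a geometrically unibranch point ⇒
universally open at `x`. -/

universe u
open AlgebraicGeometry CategoryTheory Limits IsLocalRing TopologicalSpace

namespace Groth.Agent.Lib.UOQH8

theorem exists_generization_of_isEquidimAt {X Y : Scheme.{u}} [IsLocallyNoetherian Y]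
    (f : X ⟶ Y) [LocallyOfFiniteType f] (x : X)
    (hY : CAlg2.IsGeomUnibranch (Y.presheaf.stalk (f.base x)))
    (h : EGA43.IsEquidimAt f x) (y' : Y) (hy' : y' ⤳ f.base x) :
    ∃ x' : X, x' ⤳ x ∧ f.base x' = y' := by
  obtain ⟨e, U, g, hxU, hg, hlqf, Hc⟩ := Groth.Agent.Lib.EquidimAtH8.a_imp_b f x h
  haveI := hlqf
  haveI : Flat (𝔸(ULift.{u} (Fin e); Y) ↘ Y) := Groth.Agent.Lib.EquidimAtH8.flat_affineSpace _ _
  have hπgen : GeneralizingMap (𝔸(ULift.{u} (Fin e); Y) ↘ Y).base := Flat.generalizingMap _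
  let x₁ : (U : Scheme.{u}) := ⟨x, hxU⟩
  have hpt : ∀ u : (U : Scheme.{u}), (𝔸(ULift.{u} (Fin e); Y) ↘ Y) (g u) = f (U.ι u) := fun u =>
    congrArg (fun k : (U : Scheme.{u}) ⟶ Y => k u) hg
  have hx₁ : U.ι x₁ = x := rfl
  obtain ⟨y₁', hy₁', hπy₁'⟩ := hπgen (a := g x₁) (b := y') (by rw [hpt, hx₁]; exact hy')
  have hY' : CAlg2.IsGeomUnibranch
      (Y.presheaf.stalk ((𝔸(ULift.{u} (Fin e); Y) ↘ Y).base (g x₁))) := by
    have h0 : (𝔸(ULift.{u} (Fin e); Y) ↘ Y).base (g x₁) = f.base x := by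
      have := hpt x₁
      rw [hx₁] at this
      exact this
    rw [h0]
    exact hY
  have hu : CAlg2.IsUnibranch ((𝔸(ULift.{u} (Fin e); Y)).presheaf.stalk (g x₁)) :=
    (Groth.Agent.S4936.result e (g x₁) hY').1
  have hcomp : ∀ ξ : (U : Scheme.{u}), (∀ b : (U : Scheme.{u}), b ⤳ ξ → b = ξ) → ξ ⤳ x₁ →
      ∀ b : ↥𝔸(ULift.{u} (Fin e); Y), b ⤳ g ξ → b = g ξ := by
    intro ξ hξmax _
    have hZ := (SubCompH8.closure_mem_irreducibleComponents_iff ξ).mpr hξmax
    have h1 := Hc _ hZ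
    rw [EquiCompH8.closure_image_closure g ξ] at h1
    exact (SubCompH8.closure_mem_irreducibleComponents_iff (g ξ)).mp h1
  haveI : LocallyOfFiniteType (g ≫ (𝔸(ULift.{u} (Fin e); Y) ↘ Y)) := by rw [hg]; infer_instance
  haveI : LocallyOfFiniteType g := locallyOfFiniteType_of_comp g (𝔸(ULift.{u} (Fin e); Y) ↘ Y)
  obtain ⟨x', hx'x, hgx'⟩ :=
    Groth.Agent.Lib.UniOpenH8.exists_generization_of_isUnibranch g x₁ hu hcomp y₁' hy₁'
  refine ⟨U.ι x', ?_, ?_⟩
  · have := hx'x.map U.ι.continuous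
    rwa [hx₁] at this
  · rw [← hpt, hgx', hπy₁']

/-- **Pointwise Chevalley criterion.** -/
theorem isUnivOpenAt_of_isEquidimAt {X Y : Scheme.{u}} [IsLocallyNoetherian Y]
    (f : X ⟶ Y) [LocallyOfFiniteType f] (x : X)
    (hY : CAlg2.IsGeomUnibranch (Y.presheaf.stalk (f.base x)))
    (h : EGA43.IsEquidimAt f x) : EGA43.IsUnivOpenAt f x := by
  apply UOPH8.isUnivOpenAt_of_affineSpace f x
  intro d _ xd hxd
  haveI : Flat (𝔸(ULift.{u} (Fin d); Y) ↘ Y) := Groth.Agent.Lib.EquidimAtH8.flat_affineSpace _ _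
  haveI : IsLocallyNoetherian (AffineSpace (ULift.{u} (Fin d)) Y) :=
    LocallyOfFiniteType.isLocallyNoetherian (AffineSpace (ULift.{u} (Fin d)) Y ↘ Y)
  haveI : LocallyOfFinitePresentation (pullback.snd f (AffineSpace (ULift.{u} (Fin d)) Y ↘ Y)) :=
    inferInstance
  apply Groth.Agent.Lib.UniOpenH8.isOpenAt_of_generizations
  intro y' hy'
  have hcond : (AffineSpace (ULift.{u} (Fin d)) Y ↘ Y).base
      ((pullback.snd f (AffineSpace (ULift.{u} (Fin d)) Y ↘ Y)).base xd) = f.base x := by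
    rw [← hxd]
    exact (congrArg (fun k : pullback f (AffineSpace (ULift.{u} (Fin d)) Y ↘ Y) ⟶ Y => k xd)
      pullback.condition).symm
  apply exists_generization_of_isEquidimAt
    (pullback.snd f (AffineSpace (ULift.{u} (Fin d)) Y ↘ Y)) xd ?_ ?_ y' hy'
  · apply Groth.Agent.S4936.result d
    rw [hcond]
    exact hY
  · exact EquiBCH8.main f (AffineSpace (ULift.{u} (Fin d)) Y ↘ Y) x h xd hxd

end Groth.Agent.Lib.UOQH8
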