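import Mathlib
import Groth.Prelude
import Groth.Agent.Lib.ProperLsc_helper8
import Groth.Agent.Lib.UOQ1_helper8
import Groth.Agent.Lib.SubComp_helper8
import Groth.Agent.Lib.GeomConnM_helper8

/-!
# Proper morphisms: lower semicontinuity of the geometric number of connected components at a
geometrically unibranch point (helper8)
APPEND-ONLY once landed.
-/

set_option autoImplicit false
set_option linter.all false
set_option maxHeartbeats 1600000

universe u

open CategoryTheory AlgebraicGeometry CategoryTheory.Limits Topology IsLocalRing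

namespace Groth.Agent.Lib.ProperLscH8

/-- a nonempty discrete space has dimension zero -/
theorem topologicalKrullDim_eq_zero_of_discrete (T : Type*) [TopologicalSpace T]
    [DiscreteTopology T] [Nonempty T] : topologicalKrullDim T = 0 := by
  apply le_antisymm (topologicalKrullDim_zero_of_discreteTopology T)
  obtain ⟨z⟩ : Nonempty T := inferInstance
  haveI : Nonempty (TopologicalSpace.IrreducibleCloseds T) :=
    ⟨⟨{z}, isIrreducible_singleton, isClosed_discrete _⟩⟩
  exact Order.krullDim_nonneg

variable {X Y : Scheme.{u}} (f : X ⟶ Y) [IsProper f] [IsLocallyNoetherian Y]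

/-- the irreducible components of the Stein factorization dominate `Y` if those of `X` do -/
theorem closure_image_fromNormalization
    (hdom : ∀ Z ∈ irreducibleComponents (X : Type u), closure (f.base '' Z) = Set.univ)
    (Z' : Set ↥f.normalization) (hZ' : Z' ∈ irreducibleComponents (↥f.normalization : Type u)) :
    closure (f.fromNormalization.base '' Z') = Set.univ := by
  have hcl : IsClosed Z' := isClosed_of_mem_irreducibleComponents Z' hZ'
  obtain ⟨ζ', hζ'⟩ : ∃ ζ' : ↥f.normalization, IsGenericPoint ζ' Z' := by
    refine ⟨hZ'.1.genericPoint, ?_⟩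
    have := hZ'.1.isGenericPoint_genericPoint_closure
    rwa [hcl.closure_eq] at this
  have hζ'max : ∀ b : ↥f.normalization, b ⤳ ζ' → b = ζ' := by
    apply (SubCompH8.closure_mem_irreducibleComponents_iff ζ').1
    rw [hζ'.def]
    exact hZ'
  obtain ⟨x, hx⟩ := Groth.Agent.Lib.ZConnH8.surjective_toNormalization f ζ'
  have hZx : irreducibleComponent x ∈ irreducibleComponents (X : Type u) :=
    irreducibleComponent_mem_irreducibleComponents x
  obtain ⟨ζ, hζ⟩ : ∃ ζ : X, IsGenericPoint ζ (irreducibleComponent x) := by
    refine ⟨hZx.1.genericPoint, ?_⟩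
    have := hZx.1.isGenericPoint_genericPoint_closure
    rwa [(isClosed_irreducibleComponent).closure_eq] at this
  have hζx : ζ ⤳ x := by
    rw [specializes_iff_mem_closure, hζ.def]
    exact mem_irreducibleComponent
  have h1 : f.toNormalization ζ = ζ' := by
    apply hζ'max
    rw [← hx]
    exact hζx.map f.toNormalization.continuous
  have h2 : f.fromNormalization ζ' = f ζ := by
    rw [← h1, ← Scheme.Hom.comp_apply, f.toNormalization_fromNormalization]
  have h3 : closure ({f ζ} : Set Y) = Set.univ := by
    apply Set.eq_univ_of_univ_subset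
    rw [← hdom _ hZx]
    apply closure_minimal _ isClosed_closure
    rintro _ ⟨a, ha, rfl⟩
    have : ζ ⤳ a := by
      rw [specializes_iff_mem_closure, hζ.def]; exact ha
    exact (this.map f.continuous).mem_closure
  apply Set.eq_univ_of_univ_subset
  rw [← h3]
  apply closure_mono
  rw [Set.singleton_subset_iff]
  refine ⟨ζ', ?_, h2⟩
  have := hζ'.def
  rw [← this]
  exact subset_closure rfl

/-- a finite morphism to an irreducible scheme all of whose irreducible components dominate is
equidimensional at every point -/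
theorem isEquidimAt_of_isFinite {W Y : Scheme.{u}} [IrreducibleSpace Y] (h : W ⟶ Y) [IsFinite h]
    (hdom : ∀ Z' ∈ irreducibleComponents (W : Type u), closure (h.base '' Z') = Set.univ)
    (w : W) : EGA43.IsEquidimAt h w := by
  refine ⟨0, ⊤, trivial, ?_, ?_⟩
  · intro Z hZ
    refine ⟨Set.univ, ?_, trivial, ?_⟩
    · rw [irreducibleComponents_eq_singleton]
      rfl
    · have hZ' : (⊤ : W.Opens).ι '' Z ∈ irreducibleComponents (W : Type u) :=
        GeomConnH8.image_mem_irreducibleComponents
          (Scheme.homeoOfIso W.topIso) hZ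
      have := hdom _ hZ'
      rw [← this]
      congr 1
      ext b
      constructor
      · rintro ⟨a, ha, rfl⟩
        exact ⟨(⊤ : W.Opens).ι a, ⟨a, ha, rfl⟩, rfl⟩
      · rintro ⟨_, ⟨a, ha, rfl⟩, rfl⟩
        exact ⟨a, ha, rfl⟩
  · intro x' Z hZ
    haveI : IsIso (⊤ : W.Opens).ι := by
      rw [← Scheme.topIso_hom]; infer_instance
    haveI : LocallyQuasiFinite (((⊤ : W.Opens).ι ≫ h).fiberToSpecResidueField
        (((⊤ : W.Opens).ι ≫ h).base x')) := by
      show LocallyQuasiFinite (pullback.snd _ _)
      exact MorphismProperty.pullback_snd _ _ inferInstance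
    haveI : Subsingleton ↥(Spec (Y.residueField (((⊤ : W.Opens).ι ≫ h).base x'))) :=
      (inferInstance : Subsingleton (PrimeSpectrum (Y.residueField _)))
    haveI hd : DiscreteTopology ↥(((⊤ : W.Opens).ι ≫ h).fiber (((⊤ : W.Opens).ι ≫ h).base x')) :=
      Groth.Agent.Lib.GeomCountH4.discreteTopology_of_lqf
        (((⊤ : W.Opens).ι ≫ h).fiberToSpecResidueField (((⊤ : W.Opens).ι ≫ h).base x'))
    haveI : Nonempty ↥Z := hZ.1.nonempty.to_subtype
    have := topologicalKrullDim_eq_zero_of_discrete ↥Z
    rw [this]
    rfl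

theorem main3414 {X Y : Scheme.{u}} [IrreducibleSpace Y] [IsLocallyNoetherian Y] (f : X ⟶ Y)
    [IsProper f]
    (hdom : ∀ Z ∈ irreducibleComponents (X : Type u), closure (f.base '' Z) = Set.univ) (y₀ : Y)
    (hy : CAlg2.IsGeomUnibranch (Y.presheaf.stalk y₀)) :
    ∃ V ∈ nhds y₀, ∀ z ∈ V, MoreMor.nGeomConnComp f y₀ ≤ MoreMor.nGeomConnComp f z := by
  haveI : IsFinite f.fromNormalization := SteinFinH3.main1297 f
  have hU : ∀ y' : ↥f.normalization, f.fromNormalization.base y' = y₀ →
      EGA43.IsUnivOpenAt f.fromNormalization y' := by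
    intro y' hy'
    subst hy'
    exact Groth.Agent.Lib.UOQH8.isUnivOpenAt_of_isEquidimAt f.fromNormalization y' hy
      (isEquidimAt_of_isFinite f.fromNormalization
        (closure_image_fromNormalization f hdom) y')
  obtain ⟨V, hV, hVle⟩ := Groth.Agent.Lib.GeomLscH4.main3411 f.fromNormalization y₀ hU
  refine ⟨V, hV, fun z hz => ?_⟩
  rw [nGeomConnComp_eq_fromNormalization f y₀, nGeomConnComp_eq_fromNormalization f z]
  exact hVle z hz

end Groth.Agent.Lib.ProperLscH8
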