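import Mathlib
import Groth.Prelude
import Groth.Agent.Lib.ProperLsc2_helper8
import Groth.Agent.Lib.UniOpen3_helper8
import Groth.Agent.Lib.GeomLsc_helper4
import Groth.Agent.Lib.GeomConnG_helper8
import Groth.Agent.Lib.EquiComp_helper8

/-!
# Disjointness of irreducible components when the geometric number of points is locally constant
(EGA IV 15.5.?; helper8).  Part 1: counting points of sub-schemes in geometric fibres, Chevalley for an
irreducible component.
APPEND-ONLY once landed.
-/

set_option autoImplicit false
set_option linter.all false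
set_option maxHeartbeats 1600000

universe u

open CategoryTheory AlgebraicGeometry CategoryTheory.Limits Topology IsLocalRing

namespace Groth.Agent.Lib.DisjCompH8

variable {X Y Z T : Scheme.{u}}

theorem isPullback_map (f : X ⟶ Y) (i : Z ⟶ X) (t : T ⟶ Y) :
    IsPullback (pullback.map (i ≫ f) t f t i (𝟙 _) (𝟙 _) (by simp) (by simp))
      (pullback.fst (i ≫ f) t) (pullback.fst f t) i := by
  have h1 : pullback.map (i ≫ f) t f t i (𝟙 _) (𝟙 _) (by simp) (by simp) ≫ pullback.snd f t =
      pullback.snd (i ≫ f) t := by
    rw [pullback.lift_snd]; simp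
  have h2 : pullback.map (i ≫ f) t f t i (𝟙 _) (𝟙 _) (by simp) (by simp) ≫ pullback.fst f t =
      pullback.fst (i ≫ f) t ≫ i := by
    rw [pullback.lift_fst]
  refine IsPullback.of_right (h₁₂ := pullback.snd f t) (h₂₂ := f) (v₁₃ := t) ?_ h2
    (IsPullback.of_hasPullback f t).flip
  rw [h1]
  exact (IsPullback.of_hasPullback (i ≫ f) t).flip

theorem range_map (f : X ⟶ Y) (i : Z ⟶ X) (t : T ⟶ Y) :
    Set.range (pullback.map (i ≫ f) t f t i (𝟙 _) (𝟙 _) (by simp) (by simp)).base =
      (pullback.fst f t).base ⁻¹' Set.range i.base := by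
  have h := Scheme.image_preimage_eq_of_isPullback (isPullback_map f i t).flip Set.univ
  rw [Set.preimage_univ, Set.image_univ, Set.image_univ] at h
  exact h

theorem injective_map (f : X ⟶ Y) (i : Z ⟶ X) [IsImmersion i] (t : T ⟶ Y) :
    Function.Injective (pullback.map (i ≫ f) t f t i (𝟙 _) (𝟙 _) (by simp) (by simp)).base := by
  haveI : IsImmersion (pullback.map (i ≫ f) t f t i (𝟙 _) (𝟙 _) (by simp) (by simp)) :=
    MorphismProperty.of_isPullback (P := @IsImmersion) (isPullback_map f i t).flip inferInstance
  exact (Scheme.Hom.isEmbedding _).injective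

/-- number of geometric points of a sub-scheme = number of geometric points lying in it. -/
theorem nGeomConnComp_comp_immersion (f : X ⟶ Y) [LocallyQuasiFinite f] (i : Z ⟶ X) [IsImmersion i]
    (K : Type u) [Field K] [IsSepClosed K] (t : Spec (CommRingCat.of K) ⟶ Y) :
    MoreMor.nGeomConnComp (i ≫ f) (t (IsLocalRing.closedPoint K)) =
      ((pullback.fst f t).base ⁻¹' Set.range i.base).encard := by
  rw [← GeomConnH8.card_cc_pullback_eq_nGeomConnComp' (i ≫ f) K t]
  haveI : LocallyQuasiFinite (pullback.snd (i ≫ f) t) :=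
    MorphismProperty.pullback_snd _ _ inferInstance
  haveI : Subsingleton ↥(Spec (CommRingCat.of K)) :=
    (inferInstance : Subsingleton (PrimeSpectrum K))
  haveI : DiscreteTopology ↥(pullback (i ≫ f) t) :=
    Groth.Agent.Lib.GeomCountH4.discreteTopology_of_lqf (pullback.snd (i ≫ f) t)
  rw [Groth.Agent.Lib.GeomCountH4.card_connectedComponents_of_discrete, ← range_map f i t,
    ← Set.image_univ, (injective_map f i t).encard_image, Set.encard_univ]

theorem nGeomConnComp_eq_encard (f : X ⟶ Y) [LocallyQuasiFinite f]
    (K : Type u) [Field K] [IsSepClosed K] (t : Spec (CommRingCat.of K) ⟶ Y) :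
    MoreMor.nGeomConnComp f (t (IsLocalRing.closedPoint K)) =
      (Set.univ : Set ↥(pullback f t)).encard := by
  rw [← GeomConnH8.card_cc_pullback_eq_nGeomConnComp' f K t]
  haveI : LocallyQuasiFinite (pullback.snd f t) :=
    MorphismProperty.pullback_snd _ _ inferInstance
  haveI : Subsingleton ↥(Spec (CommRingCat.of K)) :=
    (inferInstance : Subsingleton (PrimeSpectrum K))
  haveI : DiscreteTopology ↥(pullback f t) :=
    Groth.Agent.Lib.GeomCountH4.discreteTopology_of_lqf (pullback.snd f t)
  rw [Groth.Agent.Lib.GeomCountH4.card_connectedComponents_of_discrete, Set.encard_univ]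

theorem finite_pullback (f : X ⟶ Y) [LocallyQuasiFinite f] [QuasiCompact f]
    (K : Type u) [Field K] (t : Spec (CommRingCat.of K) ⟶ Y) :
    Finite ↥(pullback f t) := by
  haveI : LocallyQuasiFinite (pullback.snd f t) :=
    MorphismProperty.pullback_snd _ _ inferInstance
  haveI : QuasiCompact (pullback.snd f t) :=
    MorphismProperty.pullback_snd _ _ inferInstance
  haveI : Subsingleton ↥(Spec (CommRingCat.of K)) :=
    (inferInstance : Subsingleton (PrimeSpectrum K))
  haveI : DiscreteTopology ↥(pullback f t) :=
    Groth.Agent.Lib.GeomCountH4.discreteTopology_of_lqf (pullback.snd f t)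
  haveI : CompactSpace ↥(pullback f t) :=
    QuasiCompact.compactSpace_of_compactSpace (pullback.snd f t)
  exact finite_of_compact_of_discrete

end Groth.Agent.Lib.DisjCompH8
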