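import Mathlib

/-!
# Open morphisms of schemes are generalizing (helper8)
APPEND-ONLY once landed.
-/

set_option autoImplicit false
set_option linter.all false
set_option maxHeartbeats 1600000

universe u

open CategoryTheory AlgebraicGeometry CategoryTheory.Limits Topology IsLocalRing

namespace Groth.Agent.Lib.OpenGenMapH8

theorem generalizingMap_comap_of_isOpenMap {R A : Type*} [CommRing R] [CommRing A] (φ : R →+* A)
    (h : IsOpenMap (PrimeSpectrum.comap φ)) : GeneralizingMap (PrimeSpectrum.comap φ) := by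
  intro p q' hq'
  let T : Submonoid A := p.asIdeal.primeCompl ⊔ (q'.asIdeal.primeCompl.map φ)
  have hdisj : Disjoint ((q'.asIdeal.map φ : Ideal A) : Set A) (T : Set A) := by
    rw [Set.disjoint_left]
    intro t ht hT
    obtain ⟨a, ha, b, hb, rfl⟩ := Submonoid.mem_sup.mp hT
    obtain ⟨r, hr, rfl⟩ := hb
    have hopen := h _ (PrimeSpectrum.basicOpen a).2
    have hmem : PrimeSpectrum.comap φ p ∈
        PrimeSpectrum.comap φ '' (PrimeSpectrum.basicOpen a : Set (PrimeSpectrum A)) :=
      ⟨p, ha, rfl⟩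
    have hq'mem : q' ∈
        PrimeSpectrum.comap φ '' (PrimeSpectrum.basicOpen a : Set (PrimeSpectrum A)) :=
      hq'.mem_open hopen hmem
    obtain ⟨P, hP, rfl⟩ := hq'mem
    have h1 : a * φ r ∈ P.asIdeal := Ideal.map_comap_le ht
    rcases P.2.mem_or_mem h1 with h2 | h2
    · exact hP h2
    · exact hr h2
  obtain ⟨P, hPprime, hqP, hPT⟩ := Ideal.exists_le_prime_disjoint _ T hdisj
  refine ⟨⟨P, hPprime⟩, ?_, ?_⟩
  · show (⟨P, hPprime⟩ : PrimeSpectrum A) ⤳ p
    rw [← PrimeSpectrum.le_iff_specializes]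
    intro a haP
    by_contra hap
    exact Set.disjoint_left.mp hPT haP (Submonoid.mem_sup_left hap)
  · apply PrimeSpectrum.ext
    ext r
    constructor
    · intro hr
      by_contra hrq
      exact Set.disjoint_left.mp hPT hr (Submonoid.mem_sup_right ⟨r, hrq, rfl⟩)
    · intro hr
      exact hqP (Ideal.mem_map_of_mem φ hr)

theorem generalizingMap_of_isOpenMap {X Y : Scheme.{u}} (f : X ⟶ Y) (hf : IsOpenMap f.base) :
    GeneralizingMap f.base := by
  have := HasRingHomProperty.of_isZariskiLocalAtSource_of_isZariskiLocalAtTarget.{u}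
    (topologically GeneralizingMap)
  change topologically GeneralizingMap f
  rw [HasRingHomProperty.iff_appLE (P := topologically GeneralizingMap)]
  intro U V e
  apply generalizingMap_comap_of_isOpenMap
  have hcomm := IsAffineOpen.SpecMap_appLE_fromSpec f U.2 V.2 e
  intro W hW
  have h1 : (Spec.map (f.appLE U.1 V.1 e)).base '' W =
      U.2.fromSpec.base ⁻¹' (f.base '' (V.2.fromSpec.base '' W)) := by
    ext b
    constructor
    · rintro ⟨a, ha, rfl⟩
      refine ⟨V.2.fromSpec.base a, ⟨a, ha, rfl⟩, ?_⟩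
      rw [← Scheme.Hom.comp_apply, ← hcomm, Scheme.Hom.comp_apply]
    · rintro ⟨_, ⟨a, ha, rfl⟩, hb⟩
      refine ⟨a, ha, ?_⟩
      apply U.2.fromSpec.isOpenEmbedding.injective
      rw [← hb, ← Scheme.Hom.comp_apply, hcomm, Scheme.Hom.comp_apply]
  exact h1 ▸ (hf _ (V.2.fromSpec.isOpenEmbedding.isOpenMap _ hW)).preimage
    U.2.fromSpec.continuous

end Groth.Agent.Lib.OpenGenMapH8
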