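import Mathlib
import Groth.Prelude
import Groth.Agent.Lib.DisjComp1_helper8
import Groth.Agent.Lib.OpenGenMap_helper8
import Groth.Agent.Lib.SubComp_helper8

/-!
# Disjointness of irreducible components when the geometric number of points is locally constant
(helper8).  Part 2: Chevalley for an irreducible component.
APPEND-ONLY once landed.
-/

set_option autoImplicit false
set_option linter.all false
set_option maxHeartbeats 1600000

universe u

open CategoryTheory AlgebraicGeometry CategoryTheory.Limits Topology IsLocalRing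

namespace Groth.Agent.Lib.DisjCompH8

variable {X Y Z T : Scheme.{u}}

theorem isEquidimAt_of_irreducible [IrreducibleSpace Z] (h : Z ⟶ Y) [LocallyQuasiFinite h]
    (W : Set Y) (hW : W ∈ irreducibleComponents (Y : Type u))
    (hdom : closure (Set.range h.base) = W) (z : Z) : EGA43.IsEquidimAt h z := by
  refine ⟨0, ⊤, trivial, ?_, ?_⟩
  · intro Zc hZc
    refine ⟨W, hW, ?_, ?_⟩
    · rw [← hdom]
      exact subset_closure ⟨z, rfl⟩
    · have hZ' : (⊤ : Z.Opens).ι '' Zc ∈ irreducibleComponents (Z : Type u) :=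
        GeomConnH8.image_mem_irreducibleComponents
          (Scheme.homeoOfIso Z.topIso) hZc
      rw [irreducibleComponents_eq_singleton] at hZ'
      have hZ'' : (⊤ : Z.Opens).ι '' Zc = Set.univ := hZ'
      rw [← hdom]
      congr 1
      ext b
      constructor
      · rintro ⟨a, ha, rfl⟩
        exact ⟨(⊤ : Z.Opens).ι a, rfl⟩
      · rintro ⟨c, rfl⟩
        have hc : c ∈ (⊤ : Z.Opens).ι '' Zc := hZ'' ▸ Set.mem_univ c
        obtain ⟨a, ha, rfl⟩ := hc
        exact ⟨a, ha, rfl⟩
  · intro x' Zc hZc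
    haveI : LocallyQuasiFinite (((⊤ : Z.Opens).ι ≫ h).fiberToSpecResidueField
        (((⊤ : Z.Opens).ι ≫ h).base x')) := by
      show LocallyQuasiFinite (pullback.snd _ _)
      exact MorphismProperty.pullback_snd _ _ inferInstance
    haveI : Subsingleton ↥(Spec (Y.residueField (((⊤ : Z.Opens).ι ≫ h).base x'))) :=
      (inferInstance : Subsingleton (PrimeSpectrum (Y.residueField _)))
    haveI hd : DiscreteTopology ↥(((⊤ : Z.Opens).ι ≫ h).fiber (((⊤ : Z.Opens).ι ≫ h).base x')) :=
      Groth.Agent.Lib.GeomCountH4.discreteTopology_of_lqf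
        (((⊤ : Z.Opens).ι ≫ h).fiberToSpecResidueField (((⊤ : Z.Opens).ι ≫ h).base x'))
    haveI : Nonempty ↥Zc := hZc.1.nonempty.to_subtype
    have := ProperLscH8.topologicalKrullDim_eq_zero_of_discrete ↥Zc
    rw [this]
    rfl

theorem universallyOpen_comp_of_mem_irreducibleComponents [IsLocallyNoetherian Y]
    (hY : ∀ y : Y, CAlg2.IsGeomUnibranch (Y.presheaf.stalk y)) (f : X ⟶ Y)
    [LocallyQuasiFinite f] [LocallyOfFiniteType f] (hgen : GeneralizingMap f.base)
    (i : Z ⟶ X) [IsClosedImmersion i]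
    (hZ : Set.range i.base ∈ irreducibleComponents (X : Type u)) :
    UniversallyOpen (i ≫ f) := by
  haveI : Nonempty Z := by
    obtain ⟨x, z, rfl⟩ := hZ.1.nonempty
    exact ⟨z⟩
  haveI : IrreducibleSpace ↥(Set.range i.base) := Subtype.irreducibleSpace hZ.1
  haveI : IrreducibleSpace Z :=
    (i.isEmbedding.toHomeomorph).isOpenEmbedding.irreducibleSpace
  obtain ⟨ξ, hξ⟩ : ∃ ξ : X, closure {ξ} = Set.range i.base := by
    have hcl : IsClosed (Set.range i.base) := isClosed_of_mem_irreducibleComponents _ hZ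
    refine ⟨hZ.1.genericPoint, ?_⟩
    have := hZ.1.isGenericPoint_genericPoint_closure
    rw [hcl.closure_eq] at this
    exact this.def
  have hξmax : ∀ b : X, b ⤳ ξ → b = ξ :=
    (SubCompH8.closure_mem_irreducibleComponents_iff ξ).mp (hξ ▸ hZ)
  have hfξ : ∀ b : Y, b ⤳ f.base ξ → b = f.base ξ := by
    intro b hb
    obtain ⟨a, ha, rfl⟩ := hgen hb
    rw [hξmax a ha]
  have hW : closure {f.base ξ} ∈ irreducibleComponents (Y : Type u) :=
    (SubCompH8.closure_mem_irreducibleComponents_iff (f.base ξ)).mpr hfξ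
  haveI : LocallyQuasiFinite (i ≫ f) := inferInstance
  apply UniOpenH8.universallyOpen_of_equidim hY (i ≫ f)
  intro z
  apply isEquidimAt_of_irreducible (i ≫ f) _ hW _ z
  rw [← EquiCompH8.closure_image_closure f ξ, hξ]
  congr 1
  ext b
  constructor
  · rintro ⟨a, rfl⟩
    exact ⟨i.base a, ⟨a, rfl⟩, rfl⟩
  · rintro ⟨_, ⟨a, rfl⟩, rfl⟩
    exact ⟨a, rfl⟩

end Groth.Agent.Lib.DisjCompH8
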