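import Mathlib
import Groth.Prelude
import Groth.Agent.Lib.DisjComp2_helper8

/-!
# Disjointness of irreducible components when the geometric number of points is locally constant
(helper8).  Part 3: the main theorem.
APPEND-ONLY once landed.
-/

set_option autoImplicit false
set_option linter.all false
set_option maxHeartbeats 1600000

universe u

open CategoryTheory AlgebraicGeometry CategoryTheory.Limits Topology IsLocalRing

namespace Groth.Agent.Lib.DisjCompH8

variable {X Y : Scheme.{u}}

theorem exists_closedImmersion_range (Z : Set X) (hZ : IsClosed Z) :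
    ∃ (Z' : Scheme.{u}) (i : Z' ⟶ X), IsClosedImmersion i ∧ Set.range i.base = Z := by
  refine ⟨_, (Scheme.IdealSheafData.vanishingIdeal ⟨Z, hZ⟩).subschemeι, inferInstance, ?_⟩
  rw [Scheme.IdealSheafData.range_subschemeι, Scheme.IdealSheafData.coe_support_vanishingIdeal]
  rfl

theorem isUnivOpenAt_of_universallyOpen (g : X ⟶ Y) [UniversallyOpen g] (x : X) :
    EGA43.IsUnivOpenAt g x := by
  intro Y' g' x' _ U hU
  exact (pullback.snd g g').isOpenMap.image_mem_nhds hU

theorem le_of_specializes (g : X ⟶ Y) [IsSeparated g] [LocallyQuasiFinite g]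
    [LocallyOfFiniteType g] [QuasiCompact g] [UniversallyOpen g] {η y : Y} (h : η ⤳ y) :
    MoreMor.nGeomConnComp g y ≤ MoreMor.nGeomConnComp g η := by
  obtain ⟨V, hV, hle⟩ := Groth.Agent.Lib.GeomLscH4.main3411 g y
    (fun x _ => isUnivOpenAt_of_universallyOpen g x)
  exact hle η (mem_of_mem_nhds (h hV))

/-- the counting identity -/
theorem count_identity (f : X ⟶ Y) [LocallyQuasiFinite f] {Z₁ Z₂ : Scheme.{u}} (i₁ : Z₁ ⟶ X)
    (i₂ : Z₂ ⟶ X) [IsImmersion i₁] [IsImmersion i₂] (W : X.Opens)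
    (hW : (W : Set X) = (Set.range i₁.base ∪ Set.range i₂.base)ᶜ)
    (K : Type u) [Field K] [IsSepClosed K] (t : Spec (CommRingCat.of K) ⟶ Y) :
    MoreMor.nGeomConnComp f (t (IsLocalRing.closedPoint K)) +
        ((pullback.fst f t).base ⁻¹' (Set.range i₁.base ∩ Set.range i₂.base)).encard =
      MoreMor.nGeomConnComp (W.ι ≫ f) (t (IsLocalRing.closedPoint K)) +
        MoreMor.nGeomConnComp (i₁ ≫ f) (t (IsLocalRing.closedPoint K)) +
        MoreMor.nGeomConnComp (i₂ ≫ f) (t (IsLocalRing.closedPoint K)) := by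
  rw [nGeomConnComp_comp_immersion f i₁ K t, nGeomConnComp_comp_immersion f i₂ K t,
    nGeomConnComp_comp_immersion f W.ι K t, nGeomConnComp_eq_encard f K t]
  have hr : Set.range W.ι.base = (W : Set X) := Scheme.Opens.range_ι W
  rw [hr, hW, Set.preimage_compl, Set.preimage_union, Set.preimage_inter]
  obtain ⟨A₁, hA₁⟩ : ∃ A : Set ↥(pullback f t), A = (pullback.fst f t).base ⁻¹' Set.range i₁.base :=
    ⟨_, rfl⟩
  obtain ⟨A₂, hA₂⟩ : ∃ A : Set ↥(pullback f t), A = (pullback.fst f t).base ⁻¹' Set.range i₂.base :=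
    ⟨_, rfl⟩
  rw [← hA₁, ← hA₂]
  have h1 : (Set.univ : Set ↥(pullback f t)).encard = (A₁ ∪ A₂)ᶜ.encard + (A₁ ∪ A₂).encard := by
    rw [← Set.encard_union_eq disjoint_compl_left, Set.compl_union_self]
  have h2 := Set.encard_union_add_encard_inter A₁ A₂
  rw [h1, add_assoc, h2, add_assoc]

/-- a point over a maximal point of `Y` in a locally quasi-finite morphism is a maximal point. -/
theorem maximal_of_fiber_maximal (f : X ⟶ Y) [LocallyQuasiFinite f] (a : X)
    (hη : ∀ b : Y, b ⤳ f.base a → b = f.base a) : ∀ b : X, b ⤳ a → b = a := by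
  intro b hb
  have h1 : f.base b = f.base a := hη _ (hb.map f.continuous)
  have hdisc := Scheme.Hom.isDiscrete_preimage_singleton f (f.base a)
  haveI : DiscreteTopology ↥(f.base ⁻¹' {f.base a}) := hdisc.to_subtype
  have h2 : (⟨b, h1⟩ : ↥(f.base ⁻¹' {f.base a})) ⤳ ⟨a, rfl⟩ :=
    (subtype_specializes_iff _ _).mpr hb
  exact congrArg Subtype.val h2.eq

theorem exists_maximal_specializes (y : Y) :
    ∃ η : Y, η ⤳ y ∧ ∀ b : Y, b ⤳ η → b = η := by
  have hc := irreducibleComponent_mem_irreducibleComponents y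
  have hcl : IsClosed (irreducibleComponent y) := isClosed_irreducibleComponent
  have hgen := hc.1.isGenericPoint_genericPoint_closure
  rw [hcl.closure_eq] at hgen
  refine ⟨hc.1.genericPoint, ?_, ?_⟩
  · rw [specializes_iff_mem_closure, hgen.def]
    exact mem_irreducibleComponent
  · apply (SubCompH8.closure_mem_irreducibleComponents_iff _).mp
    rw [hgen.def]
    exact hc

theorem main3413 [IsLocallyNoetherian Y]
    (hY : ∀ y : Y, CAlg2.IsGeomUnibranch (Y.presheaf.stalk y)) (f : X ⟶ Y)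
    [IsSeparated f] [LocallyQuasiFinite f] [LocallyOfFiniteType f] [QuasiCompact f]
    [UniversallyOpen f]
    (hn : IsLocallyConstant (fun z : Y => MoreMor.nGeomConnComp f z)) :
    ∀ Z ∈ irreducibleComponents (X : Type u), ∀ Z' ∈ irreducibleComponents (X : Type u),
      Z ≠ Z' → Disjoint Z Z' := by
  intro Z₁ hZ₁ Z₂ hZ₂ hne
  rw [Set.disjoint_left]
  intro x hx1 hx2
  haveI : IsLocallyNoetherian X := LocallyOfFiniteType.isLocallyNoetherian f
  have hgen : GeneralizingMap f.base :=
    Groth.Agent.Lib.OpenGenMapH8.generalizingMap_of_isOpenMap f f.isOpenMap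
  have hcl₁ : IsClosed Z₁ := isClosed_of_mem_irreducibleComponents _ hZ₁
  have hcl₂ : IsClosed Z₂ := isClosed_of_mem_irreducibleComponents _ hZ₂
  obtain ⟨Z₁', i₁, hi₁, hr₁⟩ := exists_closedImmersion_range Z₁ hcl₁
  obtain ⟨Z₂', i₂, hi₂, hr₂⟩ := exists_closedImmersion_range Z₂ hcl₂
  haveI := hi₁
  haveI := hi₂
  haveI : UniversallyOpen (i₁ ≫ f) :=
    universallyOpen_comp_of_mem_irreducibleComponents hY f hgen i₁ (hr₁ ▸ hZ₁)
  haveI : UniversallyOpen (i₂ ≫ f) :=
    universallyOpen_comp_of_mem_irreducibleComponents hY f hgen i₂ (hr₂ ▸ hZ₂)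
  let W : X.Opens := ⟨(Z₁ ∪ Z₂)ᶜ, (hcl₁.union hcl₂).isOpen_compl⟩
  have hW : (W : Set X) = (Set.range i₁.base ∪ Set.range i₂.base)ᶜ := by
    rw [hr₁, hr₂]; rfl
  obtain ⟨η, hηy, hηmax⟩ := exists_maximal_specializes (f.base x)
  -- local constancy
  have hconst : MoreMor.nGeomConnComp f η = MoreMor.nGeomConnComp f (f.base x) := by
    have hopen := hn.isOpen_fiber (MoreMor.nGeomConnComp f (f.base x))
    exact hηy.mem_open hopen rfl
  -- lower semicontinuity
  have hlW := le_of_specializes (W.ι ≫ f) hηy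
  have hl₁ := le_of_specializes (i₁ ≫ f) hηy
  have hl₂ := le_of_specializes (i₂ ≫ f) hηy
  -- geometric points
  obtain ⟨K, _, _, t, ht⟩ := GeomConnH8.exists_sepClosed_point Y (f.base x)
  obtain ⟨L, _, _, s, hs⟩ := GeomConnH8.exists_sepClosed_point Y η
  have hidy := count_identity f i₁ i₂ W hW K t
  have hidη := count_identity f i₁ i₂ W hW L s
  rw [ht] at hidy
  rw [hs] at hidη
  -- at `y` the intersection is non-empty
  have hy1 : 1 ≤ ((pullback.fst f t).base ⁻¹' (Set.range i₁.base ∩ Set.range i₂.base)).encard := by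
    rw [Set.one_le_encard_iff_nonempty]
    obtain ⟨a, ha, -⟩ := Scheme.Pullback.exists_preimage_pullback (f := f) (g := t) x
      (IsLocalRing.closedPoint K) ht.symm
    refine ⟨a, ?_⟩
    show (pullback.fst f t).base a ∈ Set.range i₁.base ∩ Set.range i₂.base
    rw [ha, hr₁, hr₂]
    exact ⟨hx1, hx2⟩
  -- at `η` it is empty
  have hη0 : ((pullback.fst f s).base ⁻¹' (Set.range i₁.base ∩ Set.range i₂.base)).encard = 0 := by
    rw [Set.encard_eq_zero, Set.eq_empty_iff_forall_notMem]
    rintro a ⟨ha1, ha2⟩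
    rw [hr₁] at ha1
    rw [hr₂] at ha2
    have hfa : f.base ((pullback.fst f s).base a) = η := by
      rw [← Scheme.Hom.comp_apply, pullback.condition, Scheme.Hom.comp_apply, ← hs]
      congr 1
      haveI : Subsingleton ↥(Spec (CommRingCat.of L)) :=
        (inferInstance : Subsingleton (PrimeSpectrum L))
      exact Subsingleton.elim _ _
    have hmax := maximal_of_fiber_maximal f ((pullback.fst f s).base a) (by rw [hfa]; exact hηmax)
    have hcomp := (SubCompH8.closure_mem_irreducibleComponents_iff _).mpr hmax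
    have e1 : closure {(pullback.fst f s).base a} = Z₁ :=
      le_antisymm (closure_minimal (Set.singleton_subset_iff.mpr ha1) hcl₁)
        (hcomp.2 hZ₁.1 (closure_minimal (Set.singleton_subset_iff.mpr ha1) hcl₁))
    have e2 : closure {(pullback.fst f s).base a} = Z₂ :=
      le_antisymm (closure_minimal (Set.singleton_subset_iff.mpr ha2) hcl₂)
        (hcomp.2 hZ₂.1 (closure_minimal (Set.singleton_subset_iff.mpr ha2) hcl₂))
    exact hne (e1.symm.trans e2)
  rw [hη0, add_zero] at hidη
  -- finiteness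
  have hfin : MoreMor.nGeomConnComp f (f.base x) ≠ ⊤ := by
    rw [← ht, nGeomConnComp_eq_encard f K t]
    haveI := finite_pullback f K t
    exact (Set.finite_univ.encard_lt_top).ne
  have hlt : MoreMor.nGeomConnComp f (f.base x) + 1 ≤ MoreMor.nGeomConnComp f (f.base x) := by
    calc MoreMor.nGeomConnComp f (f.base x) + 1
        ≤ MoreMor.nGeomConnComp f (f.base x) +
          ((pullback.fst f t).base ⁻¹' (Set.range i₁.base ∩ Set.range i₂.base)).encard := by
          gcongr
      _ = _ := hidy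
      _ ≤ MoreMor.nGeomConnComp (W.ι ≫ f) η + MoreMor.nGeomConnComp (i₁ ≫ f) η +
          MoreMor.nGeomConnComp (i₂ ≫ f) η := by gcongr
      _ = MoreMor.nGeomConnComp f η := hidη.symm
      _ = MoreMor.nGeomConnComp f (f.base x) := hconst
  exact absurd ((ENat.add_one_le_iff hfin).mp hlt) (lt_irrefl _)

end Groth.Agent.Lib.DisjCompH8
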