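import Mathlib
import Groth.Prelude.Def_W4c1extbt610Disp

/-!
# `V⁻¹ ⊕ F` on a normal decomposition of a 3n-display gives a basis (S14859)
-/

universe u v w

namespace Groth.Agent.Lib.DispNormal

open W4c1extbt610

lemma exists_eq_verschiebung_of_mem_IV {p : ℕ} [Fact p.Prime] {R : Type u} [CommRing R]
    (a : WittVector p R) (ha : a ∈ IV p R) : ∃ w, a = WittVector.verschiebung w := by
  unfold IV at ha
  induction ha using Submodule.span_induction with
  | mem x hx => obtain ⟨w, rfl⟩ := hx; exact ⟨w, rfl⟩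
  | zero => exact ⟨0, (map_zero _).symm⟩
  | add x y _ _ hx hy =>
    obtain ⟨w1, rfl⟩ := hx
    obtain ⟨w2, rfl⟩ := hy
    exact ⟨w1 + w2, (map_add _ _ _).symm⟩
  | smul c x _ hx =>
    obtain ⟨w, rfl⟩ := hx
    exact ⟨w * WittVector.frobenius c, by
      rw [WittVector.verschiebung_mul_frobenius, smul_eq_mul, mul_comm]⟩

theorem main (p : ℕ) [Fact p.Prime] (R : Type u) [CommRing R]
    (P : Type v) [AddCommGroup P] [Module (WittVector p R) P] (D : W4c1extbt610.Display3n p R P)
    (L T : Submodule (WittVector p R) P) (hLT : IsCompl L T)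
    (hQ : D.Q = L ⊔ W4c1extbt610.IV p R • T) (hLQ : L ≤ D.Q)
    (ιL ιT : Type w) (bL : Module.Basis ιL (WittVector p R) L)
    (bT : Module.Basis ιT (WittVector p R) T) :
    LinearIndependent (WittVector p R)
        (Sum.elim (fun i : ιL => D.Vinv ⟨(bL i : P), hLQ (bL i).2⟩)
          (fun j : ιT => D.F (bT j : P))) ∧
      Submodule.span (WittVector p R)
        (Set.range (Sum.elim (fun i : ιL => D.Vinv ⟨(bL i : P), hLQ (bL i).2⟩)
          (fun j : ιT => D.F (bT j : P)))) = ⊤ := by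
  set v : ιL ⊕ ιT → P := Sum.elim (fun i : ιL => D.Vinv ⟨(bL i : P), hLQ (bL i).2⟩)
    (fun j : ιT => D.F (bT j : P)) with hv
  set N := Submodule.span (WittVector p R) (Set.range v) with hN
  have hL : ∀ l : L, D.Vinv ⟨(l : P), hLQ l.2⟩ ∈ N := by
    let g : L →ₛₗ[(WittVector.frobenius : WittVector p R →+* WittVector p R)] P :=
      D.Vinv.comp (Submodule.inclusion hLQ)
    have h1 : (⊤ : Submodule (WittVector p R) L) ≤ N.comap g := by
      rw [← bL.span_eq, Submodule.span_le]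
      rintro _ ⟨i, rfl⟩
      show g (bL i) ∈ N
      exact Submodule.subset_span ⟨Sum.inl i, rfl⟩
    intro l
    exact h1 (Submodule.mem_top : l ∈ ⊤)
  have hT : ∀ t : T, D.F (t : P) ∈ N := by
    let g : T →ₛₗ[(WittVector.frobenius : WittVector p R →+* WittVector p R)] P :=
      D.F.comp T.subtype
    have h1 : (⊤ : Submodule (WittVector p R) T) ≤ N.comap g := by
      rw [← bT.span_eq, Submodule.span_le]
      rintro _ ⟨j, rfl⟩
      show g (bT j) ∈ N
      exact Submodule.subset_span ⟨Sum.inr j, rfl⟩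
    intro t
    exact h1 (Submodule.mem_top : t ∈ ⊤)
  have hIT : ∀ x ∈ IV p R • T, ∃ hx : x ∈ D.Q, D.Vinv ⟨x, hx⟩ ∈ N := by
    intro x hx
    refine Submodule.smul_induction_on hx ?_ ?_
    · intro a ha t ht
      obtain ⟨w, rfl⟩ := exists_eq_verschiebung_of_mem_IV a ha
      refine ⟨D.IV_smul_le (Submodule.smul_mem_smul (verschiebung_mem_IV p R w)
        Submodule.mem_top), ?_⟩
      rw [D.Vinv_verschiebung_smul]
      exact N.smul_mem _ (hT ⟨t, ht⟩)
    · intro x y hx hy
      obtain ⟨hx1, hx2⟩ := hx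
      obtain ⟨hy1, hy2⟩ := hy
      refine ⟨D.Q.add_mem hx1 hy1, ?_⟩
      have : (⟨x + y, D.Q.add_mem hx1 hy1⟩ : D.Q) = ⟨x, hx1⟩ + ⟨y, hy1⟩ := rfl
      rw [this, map_add]
      exact N.add_mem hx2 hy2
  have hQall : ∀ q : D.Q, D.Vinv q ∈ N := by
    rintro ⟨q, hq⟩
    have hq' := hq
    rw [hQ] at hq'
    obtain ⟨l, hl, t, ht, rfl⟩ := Submodule.mem_sup.mp hq'
    obtain ⟨ht1, ht2⟩ := hIT t ht
    have : (⟨l + t, hq⟩ : D.Q) = ⟨l, hLQ hl⟩ + ⟨t, ht1⟩ := rfl
    rw [this, map_add]
    exact N.add_mem (hL ⟨l, hl⟩) ht2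
  have hspan : N = ⊤ := by
    rw [eq_top_iff, ← D.span_range_Vinv, Submodule.span_le]
    rintro _ ⟨q, rfl⟩
    exact hQall q
  refine ⟨?_, hspan⟩
  haveI := D.finite
  let b : Module.Basis (ιL ⊕ ιT) (WittVector p R) P :=
    (bL.prod bT).map (Submodule.prodEquivOfIsCompl L T hLT)
  let f : P →ₗ[WittVector p R] P := b.constr (WittVector p R) v
  have hfsurj : Function.Surjective f := by
    rw [← LinearMap.range_eq_top, Module.Basis.constr_range, ← hN, hspan]
  have hfinj : Function.Injective f :=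
    OrzechProperty.injective_of_surjective_endomorphism f hfsurj
  have hfb : f ∘ b = v := by
    ext i
    exact b.constr_basis _ _ i
  rw [← hfb]
  exact b.linearIndependent.map' f (LinearMap.ker_eq_bot.mpr hfinj)

end Groth.Agent.Lib.DispNormal
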