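import Mathlib

/-!
# `p`-adic, `I`-adic and `V`-adic topologies on `W(R)` for `p` nilpotent in `R` (S14864)
-/

universe u

namespace Groth.Agent.Lib.WittTop

open WittVector

variable (p : ℕ) [Fact p.Prime] (R : Type u) [CommRing R]

lemma iter_V_coeff_lt (z : WittVector p R) (n i : ℕ) (hi : i < n) :
    ((verschiebung : WittVector p R →+ WittVector p R)^[n] z).coeff i = 0 := by
  induction n generalizing i with
  | zero => omega
  | succ n ih =>
    rw [Function.iterate_succ_apply']
    cases i with
    | zero => exact verschiebung_coeff_zero _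
    | succ i => rw [verschiebung_coeff_succ]; exact ih i (by omega)

lemma mem_I_iff (x : WittVector p R) :
    x ∈ RingHom.ker (constantCoeff : WittVector p R →+* R) ↔ x.coeff 0 = 0 := by
  rw [RingHom.mem_ker]; rfl

lemma eq_V_of_coeff_zero (x : WittVector p R) (h : x.coeff 0 = 0) :
    ∃ y : WittVector p R, x = verschiebung y := by
  refine ⟨x.shift 1, ?_⟩
  have := eq_iterate_verschiebung (x := x) (n := 1) (fun i hi => by
    have : i = 0 := by omega
    subst this; exact h)
  simpa using this

lemma V_mul_V (x y : WittVector p R) :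
    verschiebung x * verschiebung y = (p : WittVector p R) * verschiebung (x * y) := by
  rw [← verschiebung_mul_frobenius, frobenius_verschiebung]
  have : x * (y * (p : WittVector p R)) = p • (x * y) := by rw [nsmul_eq_mul]; ring
  rw [this, map_nsmul, nsmul_eq_mul]

lemma I_sq_le : RingHom.ker (constantCoeff : WittVector p R →+* R)
    * RingHom.ker (constantCoeff : WittVector p R →+* R) ≤ Ideal.span {(p : WittVector p R)} := by
  rw [Ideal.mul_le]
  intro a ha b hb
  obtain ⟨x, rfl⟩ := eq_V_of_coeff_zero p R a ((mem_I_iff p R a).mp ha)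
  obtain ⟨y, rfl⟩ := eq_V_of_coeff_zero p R b ((mem_I_iff p R b).mp hb)
  rw [V_mul_V]
  exact Ideal.mul_mem_right _ _ (Ideal.subset_span rfl)

lemma pow_mem_ker_truncate (N : ℕ) (hN : (p : R) ^ N = 0) (n : ℕ) :
    (p : WittVector p R) ^ (N * n) ∈ RingHom.ker (WittVector.truncate (p := p) (R := R) n) := by
  induction n with
  | zero =>
    rw [WittVector.mem_ker_truncate]
    intro i hi; omega
  | succ n ih =>
    rw [WittVector.mem_ker_truncate] at ih
    have h1 := eq_iterate_verschiebung (x := (p : WittVector p R) ^ (N * n)) (n := n) ih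
    set w := ((p : WittVector p R) ^ (N * n)).shift n with hw
    have h2 : (p : WittVector p R) ^ (N * (n + 1))
        = (verschiebung : WittVector p R →+ WittVector p R)^[n] ((p : WittVector p R) ^ N * w) := by
      have e1 : (p : WittVector p R) ^ N * w = (p ^ N) • w := by
        rw [nsmul_eq_mul]; push_cast; rfl
      rw [e1, iterate_map_nsmul, ← h1, nsmul_eq_mul]
      push_cast
      rw [← pow_add]
      congr 1
      ring
    have h3 : ((p : WittVector p R) ^ N * w).coeff 0 = 0 := by
      have : constantCoeff ((p : WittVector p R) ^ N * w) = 0 := by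
        rw [map_mul, map_pow, map_natCast, hN, zero_mul]
      exact this
    obtain ⟨w', hw'⟩ := eq_V_of_coeff_zero p R _ h3
    rw [WittVector.mem_ker_truncate]
    intro i hi
    rw [h2, hw', ← Function.iterate_succ_apply]
    exact iter_V_coeff_lt p R w' (n + 1) i hi

theorem main (hp : IsNilpotent (p : R)) :
    (∀ n : ℕ, ∃ m : ℕ, (RingHom.ker (WittVector.constantCoeff : WittVector p R →+* R)) ^ m ≤ Ideal.span {(p : WittVector p R)} ^ n) ∧
      (∀ n : ℕ, ∃ m : ℕ, Ideal.span {(p : WittVector p R)} ^ m ≤ (RingHom.ker (WittVector.constantCoeff : WittVector p R →+* R)) ^ n) ∧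
        ∀ n : ℕ, ∃ m : ℕ, Ideal.span {(p : WittVector p R)} ^ m ≤ RingHom.ker (WittVector.truncate (p := p) (R := R) n) := by
  obtain ⟨N, hN⟩ := hp
  refine ⟨fun n => ⟨2 * n, ?_⟩, fun n => ⟨N * n, ?_⟩, fun n => ⟨N * n, ?_⟩⟩
  · rw [pow_mul, pow_two]
    exact Ideal.pow_right_mono (I_sq_le p R) n
  · rw [pow_mul, Ideal.span_singleton_pow]
    apply Ideal.pow_right_mono
    rw [Ideal.span_singleton_le_iff_mem, mem_I_iff]
    have : constantCoeff ((p : WittVector p R) ^ N) = 0 := by
      rw [map_pow, map_natCast, hN]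
    exact this
  · rw [Ideal.span_singleton_pow, Ideal.span_singleton_le_iff_mem]
    exact pow_mem_ker_truncate p R N hN n

end Groth.Agent.Lib.WittTop
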