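import Mathlib
import Groth.Prelude.Def_Disp2
import Groth.Agent.Lib.WittTop_helper1
import Groth.Agent.Lib.DispNormal_helper1

/-! Composition of twisted linear maps `P → B ⊗_{g} P` (helper1): the product `ψ ⋆ φ`, its
associativity up to re-indexing, the composition law for the iterates `V^{N#}` and the
consequences of the nilpotence condition. -/

set_option autoImplicit false
universe u v

namespace Groth.Agent.Lib.DispStar

open Dieu

section General

variable {A : Type u} [CommRing A] {P : Type v} [AddCommGroup P] [Module A P]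

/-- collapse `B ⊗_h (B ⊗_k P) → B ⊗_{h ∘ k} P`, `w ⊗ (v ⊗ y) ↦ (w * h v) ⊗ y` -/
noncomputable def coll (k h : A →+* A) : BC h (BC k P) →ₗ[A] BC (h.comp k) P :=
  BC.lift h (BC.push k h)

lemma coll_tmul_tmul (k h : A →+* A) (w v : A) (y : P) :
    coll k h (BC.tmul h w (BC.tmul k v y)) = BC.tmul (h.comp k) (w * h v) y := by
  rw [coll, BC.lift_tmul, BC.push_tmul, BC.smul_tmul]

/-- `ψ ⋆ φ`: first `φ`, then `ψ` inside -/
noncomputable def star {k h : A →+* A} (ψ : P →ₗ[A] BC k P) (φ : P →ₗ[A] BC h P) :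
    P →ₗ[A] BC (h.comp k) P :=
  (coll k h) ∘ₗ (BC.map h ψ) ∘ₗ φ

lemma star_apply {k h : A →+* A} (ψ : P →ₗ[A] BC k P) (φ : P →ₗ[A] BC h P) (x : P) :
    star ψ φ x = coll k h (BC.map h ψ (φ x)) := rfl

/-- equality up to re-indexing of the twist -/
def CE {k k' : A →+* A} (ψ : P →ₗ[A] BC k P) (ψ' : P →ₗ[A] BC k' P) : Prop :=
  ∃ e : k = k', (BC.castHom e).comp ψ = ψ'

lemma CE.refl {k : A →+* A} (ψ : P →ₗ[A] BC k P) : CE ψ ψ := ⟨rfl, LinearMap.id_comp ψ⟩

lemma CE.symm {k k' : A →+* A} {ψ : P →ₗ[A] BC k P} {ψ' : P →ₗ[A] BC k' P} (h : CE ψ ψ') :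
    CE ψ' ψ := by
  obtain ⟨e, rfl⟩ := h
  subst e
  exact ⟨rfl, by show LinearMap.id.comp (LinearMap.id.comp ψ) = ψ; rw [LinearMap.id_comp, LinearMap.id_comp]⟩

lemma CE.trans {k k' k'' : A →+* A} {ψ : P →ₗ[A] BC k P} {ψ' : P →ₗ[A] BC k' P}
    {ψ'' : P →ₗ[A] BC k'' P} (h : CE ψ ψ') (h' : CE ψ' ψ'') : CE ψ ψ'' := by
  obtain ⟨e, rfl⟩ := h
  obtain ⟨e', rfl⟩ := h'
  subst e
  subst e'
  exact ⟨rfl, rfl⟩

lemma CE.starCongr {k k' h h' : A →+* A} {ψ : P →ₗ[A] BC k P} {ψ' : P →ₗ[A] BC k' P}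
    {φ : P →ₗ[A] BC h P} {φ' : P →ₗ[A] BC h' P} (h1 : CE ψ ψ') (h2 : CE φ φ') :
    CE (star ψ φ) (star ψ' φ') := by
  obtain ⟨e, rfl⟩ := h1
  obtain ⟨e', rfl⟩ := h2
  subst e
  subst e'
  refine ⟨rfl, ?_⟩
  show LinearMap.id.comp (star ψ φ) = star (LinearMap.id.comp ψ) (LinearMap.id.comp φ)
  rw [LinearMap.id_comp, LinearMap.id_comp, LinearMap.id_comp]

lemma CE.mem {k k' : A →+* A} {ψ : P →ₗ[A] BC k P} {ψ' : P →ₗ[A] BC k' P} (h : CE ψ ψ')
    (I : Ideal A) (hψ : ∀ x, ψ x ∈ I • (⊤ : Submodule A (BC k P))) (x : P) :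
    ψ' x ∈ I • (⊤ : Submodule A (BC k' P)) := by
  obtain ⟨e, rfl⟩ := h
  subst e
  exact hψ x

/-! ### associativity -/

lemma assoc_aux1 (g h k : A →+* A) (w u : A) (ξ : BC k P) :
    coll (h.comp k) g (BC.tmul g w (coll k h (BC.tmul h u ξ))) =
      BC.castHom (RingHom.comp_assoc k h g)
        (coll k (g.comp h) (BC.tmul (g.comp h) (w * g u) ξ)) := by
  induction ξ using BC.induction_on k with
  | zero => simp only [BC.tmul_zero, map_zero]
  | tmul v y =>
    rw [coll_tmul_tmul, coll_tmul_tmul, coll_tmul_tmul, BC.castHom_tmul]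
    congr 1
    rw [map_mul, RingHom.comp_apply]
    ring
  | add ξ₁ ξ₂ h₁ h₂ =>
    simp only [BC.tmul_add, map_add, h₁, h₂]

lemma assoc_aux2 (g h k : A →+* A) (ψ : P →ₗ[A] BC k P) (w : A) (ζ : BC h P) :
    coll (h.comp k) g (BC.tmul g w (coll k h (BC.map h ψ ζ))) =
      BC.castHom (RingHom.comp_assoc k h g)
        (coll k (g.comp h) (BC.map (g.comp h) ψ (coll h g (BC.tmul g w ζ)))) := by
  induction ζ using BC.induction_on h with
  | zero => simp only [BC.tmul_zero, map_zero]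
  | tmul u x =>
    rw [BC.map_tmul, assoc_aux1, coll_tmul_tmul, BC.map_tmul]
  | add ζ₁ ζ₂ h₁ h₂ =>
    simp only [BC.tmul_add, map_add, h₁, h₂]

lemma assoc_aux3 (g h k : A →+* A) (ψ : P →ₗ[A] BC k P) (z : BC g (BC h P)) :
    coll (h.comp k) g (BC.map g ((coll k h) ∘ₗ (BC.map h ψ)) z) =
      BC.castHom (RingHom.comp_assoc k h g)
        (coll k (g.comp h) (BC.map (g.comp h) ψ (coll h g z))) := by
  induction z using BC.induction_on g with
  | zero => simp only [map_zero]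
  | tmul w ζ =>
    rw [BC.map_tmul, LinearMap.comp_apply, assoc_aux2]
  | add z₁ z₂ h₁ h₂ =>
    simp only [map_add, h₁, h₂]

lemma map_comp' (g : A →+* A) {P' P'' : Type*} [AddCommGroup P'] [Module A P'] [AddCommGroup P'']
    [Module A P''] (a : P' →ₗ[A] P'') (b : P →ₗ[A] P') (z : BC g P) :
    BC.map g (a ∘ₗ b) z = BC.map g a (BC.map g b z) := by
  induction z using BC.induction_on g with
  | zero => simp only [map_zero]
  | tmul w x => rw [BC.map_tmul, BC.map_tmul, BC.map_tmul, LinearMap.comp_apply]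
  | add z₁ z₂ h₁ h₂ => simp only [map_add, h₁, h₂]

theorem star_assoc {g h k : A →+* A} (ψ : P →ₗ[A] BC k P) (φ : P →ₗ[A] BC h P)
    (χ : P →ₗ[A] BC g P) : CE (star ψ (star φ χ)) (star (star ψ φ) χ) := by
  refine ⟨RingHom.comp_assoc k h g, ?_⟩
  apply LinearMap.ext
  intro x
  rw [LinearMap.comp_apply, star_apply, star_apply, star_apply]
  have h1 : BC.map g (star ψ φ) (χ x) =
      BC.map g ((coll k h) ∘ₗ (BC.map h ψ)) (BC.map g φ (χ x)) := by
    rw [← map_comp']
    rfl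
  rw [h1, assoc_aux3]

/-! ### containment -/

theorem star_mem {k h : A →+* A} (ψ : P →ₗ[A] BC k P) (φ : P →ₗ[A] BC h P) (I I' I'' : Ideal A)
    (hψ : ∀ x, ψ x ∈ I • (⊤ : Submodule A (BC k P)))
    (hφ : ∀ x, φ x ∈ I' • (⊤ : Submodule A (BC h P)))
    (hI : ∀ a ∈ I, h a ∈ I'') (x : P) :
    star ψ φ x ∈ (I' * I'') • (⊤ : Submodule A (BC (h.comp k) P)) := by
  have key1 : ∀ (w : A) (ξ : BC k P), ξ ∈ I • (⊤ : Submodule A (BC k P)) →
      coll k h (BC.tmul h w ξ) ∈ I'' • (⊤ : Submodule A (BC (h.comp k) P)) := by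
    intro w ξ hξ
    refine Submodule.smul_induction_on hξ (fun a ha ξ' _ => ?_) (fun x y hx hy => ?_)
    · rw [← BC.tmul_mul_apply, mul_comm, ← BC.smul_tmul, map_smul]
      exact Submodule.smul_mem_smul (hI a ha) Submodule.mem_top
    · rw [BC.tmul_add, map_add]
      exact Submodule.add_mem _ hx hy
  have key2 : ∀ ζ : BC h P,
      coll k h (BC.map h ψ ζ) ∈ I'' • (⊤ : Submodule A (BC (h.comp k) P)) := by
    intro ζ
    induction ζ using BC.induction_on h with
    | zero => rw [map_zero, map_zero]; exact Submodule.zero_mem _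
    | tmul w y => rw [BC.map_tmul]; exact key1 w _ (hψ y)
    | add ζ₁ ζ₂ h₁ h₂ => rw [map_add, map_add]; exact Submodule.add_mem _ h₁ h₂
  rw [star_apply, Submodule.mul_smul]
  refine Submodule.smul_induction_on (hφ x) (fun a ha ζ _ => ?_) (fun x y hx hy => ?_)
  · rw [map_smul, map_smul]
    exact Submodule.smul_mem_smul ha (key2 ζ)
  · rw [map_add, map_add]
    exact Submodule.add_mem _ hx hy

end General

/-! ### the iterates of `V^#` -/

section Iterates

variable {p : ℕ} [Fact p.Prime] {R : Type u} [CommRing R]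
variable {P : Type v} [AddCommGroup P] [Module (WittVector p R) P]

lemma CE_vSharpPow_succ
    (Vs : P →ₗ[WittVector p R] BC (WittVector.frobenius : WittVector p R →+* WittVector p R) P)
    (n : ℕ) : CE (star (vSharpPow Vs n) Vs) (vSharpPow Vs (n + 1)) :=
  ⟨comp_pow_eq_pow_succ (WittVector.frobenius : WittVector p R →+* WittVector p R) (n + 1), rfl⟩

lemma CE_vSharpPow_zero
    (Vs : P →ₗ[WittVector p R] BC (WittVector.frobenius : WittVector p R →+* WittVector p R) P) :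
    CE Vs (vSharpPow Vs 0) :=
  ⟨(pow_one (WittVector.frobenius : WittVector p R →+* WittVector p R)).symm, rfl⟩

/-- composition law: `V^{(a+n+2)#} = V^{(a+1)#} ⋆ V^{(n+1)#}` -/
theorem vSharpPow_add
    (Vs : P →ₗ[WittVector p R] BC (WittVector.frobenius : WittVector p R →+* WittVector p R) P)
    (a n : ℕ) : CE (vSharpPow Vs (a + n + 1)) (star (vSharpPow Vs a) (vSharpPow Vs n)) := by
  induction n with
  | zero =>
    exact (CE_vSharpPow_succ Vs a).symm.trans
      (CE.starCongr (CE.refl _) (CE_vSharpPow_zero Vs))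
  | succ n ih =>
    show CE (vSharpPow Vs (a + n + 1 + 1)) _
    refine (CE_vSharpPow_succ Vs (a + n + 1)).symm.trans ?_
    refine (CE.starCongr ih (CE.refl Vs)).trans ?_
    refine (star_assoc (vSharpPow Vs a) (vSharpPow Vs n) Vs).symm.trans ?_
    exact CE.starCongr (CE.refl _) (CE_vSharpPow_succ Vs n)

end Iterates

end Groth.Agent.Lib.DispStar
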