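import Mathlib
import Groth.Agent.Lib.WittTop_helper1

/-! Witt vectors over a ring in which `p` is nilpotent (helper1): elements with nilpotent
constant coefficient are topologically nilpotent, `1 - x` is then a unit, and the Frobenius
maps every maximal ideal of `W(R)` into itself. -/

set_option autoImplicit false
universe u

namespace Groth.Agent.Lib.DispVSharp

open WittVector

variable {p : ℕ} [Fact p.Prime] {R : Type u} [CommRing R]

lemma exists_pow_mem_ker_truncate (hp : IsNilpotent (p : R)) (x : WittVector p R)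
    (hx : IsNilpotent (x.coeff 0)) (n : ℕ) :
    ∃ M : ℕ, ∀ m, M ≤ m → x ^ m ∈ RingHom.ker (WittVector.truncate (p := p) (R := R) n) := by
  obtain ⟨h1, -, h3⟩ := Groth.Agent.Lib.WittTop.main p R hp
  obtain ⟨k, hk⟩ := hx
  obtain ⟨m2, hm2⟩ := h3 n
  obtain ⟨m1, hm1⟩ := h1 m2
  have hxk : x ^ k ∈ RingHom.ker (constantCoeff : WittVector p R →+* R) := by
    rw [RingHom.mem_ker, map_pow]
    exact hk
  have hM : x ^ (k * m1) ∈ RingHom.ker (WittVector.truncate (p := p) (R := R) n) := by
    rw [pow_mul]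
    exact hm2 (hm1 (Ideal.pow_mem_pow hxk m1))
  refine ⟨k * m1, fun m hm => ?_⟩
  obtain ⟨d, rfl⟩ := Nat.exists_eq_add_of_le hm
  rw [pow_add]
  exact Ideal.mul_mem_right _ _ hM

theorem isUnit_one_sub (hp : IsNilpotent (p : R)) (x : WittVector p R)
    (hx : IsNilpotent (x.coeff 0)) : IsUnit (1 - x) := by
  classical
  choose Mf hMf using exists_pow_mem_ker_truncate hp x hx
  obtain ⟨S, hS_def⟩ : ∃ S : ℕ → WittVector p R, ∀ m, S m = ∑ j ∈ Finset.range m, x ^ j :=
    ⟨_, fun _ => rfl⟩
  have hS : ∀ m, (1 - x) * S m = 1 - x ^ m := fun m => by rw [hS_def]; exact mul_neg_geom_sum x m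
  have hstab : ∀ n m m', Mf n ≤ m → m ≤ m' → truncate n (S m') = truncate n (S m) := by
    intro n m m' h1 h2
    have e : S m' = S m + ∑ j ∈ Finset.Ico m m', x ^ j := by
      rw [hS_def, hS_def, Finset.sum_range_add_sum_Ico _ h2]
    rw [e, map_add]
    have hz : truncate n (∑ j ∈ Finset.Ico m m', x ^ j) = 0 := by
      rw [map_sum]
      apply Finset.sum_eq_zero
      intro j hj
      have hj' := (Finset.mem_Ico.1 hj).1
      exact (RingHom.mem_ker).1 (hMf n j (le_trans h1 hj'))
    rw [hz, add_zero]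
  have hcoef : ∀ i m m', Mf (i + 1) ≤ m → m ≤ m' → (S m').coeff i = (S m).coeff i := by
    intro i m m' h1 h2
    have h := hstab (i + 1) m m' h1 h2
    have h' := congrArg
      (fun t => TruncatedWittVector.coeff (⟨i, Nat.lt_succ_self i⟩ : Fin (i + 1)) t) h
    simpa only [coeff_truncate] using h'
  obtain ⟨N, hN_def⟩ : ∃ N : ℕ → ℕ, ∀ n, N n = ∑ j ∈ Finset.range (n + 2), Mf j :=
    ⟨_, fun _ => rfl⟩
  have hN : ∀ n j, j ≤ n + 1 → Mf j ≤ N n := fun n j hj => by
    rw [hN_def]
    exact Finset.single_le_sum (f := Mf) (fun _ _ => Nat.zero_le _)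
      (Finset.mem_range.2 (by omega))
  have hNmono : ∀ n n', n ≤ n' → N n ≤ N n' := fun n n' h => by
    rw [hN_def, hN_def]
    exact Finset.sum_le_sum_of_subset (Finset.range_subset_range.2 (by omega))
  obtain ⟨y, hy_def⟩ : ∃ y : WittVector p R, ∀ i, y.coeff i = (S (N i)).coeff i :=
    ⟨WittVector.mk p (fun i => (S (N i)).coeff i), fun _ => rfl⟩
  have hy : ∀ n, truncate n y = truncate n (S (N n)) := by
    intro n
    apply TruncatedWittVector.ext
    intro i
    rw [coeff_truncate, coeff_truncate, hy_def]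
    exact (hcoef i (N i) (N n) (hN i (i + 1) le_rfl) (hNmono i n (by omega))).symm
  have hfin : (1 - x) * y = 1 := by
    apply WittVector.ext
    intro i
    have h1 : truncate (i + 1) ((1 - x) * y) = truncate (i + 1) (1 : WittVector p R) := by
      rw [map_mul, hy (i + 1), ← map_mul, hS, map_sub,
        (RingHom.mem_ker).1 (hMf (i + 1) (N (i + 1)) (hN (i + 1) (i + 1) (by omega))), sub_zero]
    have h2 := congrArg
      (fun t => TruncatedWittVector.coeff (⟨i, Nat.lt_succ_self i⟩ : Fin (i + 1)) t) h1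
    simpa only [coeff_truncate] using h2
  exact IsUnit.of_mul_eq_one _ hfin

theorem mem_of_isMaximal (hp : IsNilpotent (p : R)) (𝔪 : Ideal (WittVector p R))
    (h𝔪 : 𝔪.IsMaximal) (x : WittVector p R) (hx : IsNilpotent (x.coeff 0)) : x ∈ 𝔪 := by
  have hjac : x ∈ Ideal.jacobson (⊥ : Ideal (WittVector p R)) := by
    rw [Ideal.mem_jacobson_bot]
    intro y
    have e0 : x * y + 1 = 1 - (-(x * y)) := by ring
    rw [e0]
    apply isUnit_one_sub hp
    have e : (-(x * y)).coeff 0 = -(x.coeff 0 * y.coeff 0) := by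
      have h1 := map_neg (constantCoeff : WittVector p R →+* R) (x * y)
      rw [map_mul] at h1
      exact h1
    rw [e]
    exact (Commute.isNilpotent_mul_right (Commute.all _ _) hx).neg
  exact (sInf_le (show 𝔪 ∈ {J : Ideal (WittVector p R) | ⊥ ≤ J ∧ J.IsMaximal} from
    ⟨bot_le, h𝔪⟩)) hjac

theorem frobenius_mem_of_isMaximal (hp : IsNilpotent (p : R)) (𝔪 : Ideal (WittVector p R))
    (h𝔪 : 𝔪.IsMaximal) (a : WittVector p R) (ha : a ∈ 𝔪) : WittVector.frobenius a ∈ 𝔪 := by
  have hdiff : IsNilpotent ((WittVector.frobenius a - a ^ p).coeff 0) := by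
    have e : (WittVector.frobenius a - a ^ p).coeff 0 =
        (p : R) * MvPolynomial.aeval a.coeff (frobeniusPolyAux p 0) := by
      have h1 : (WittVector.frobenius a - a ^ p).coeff 0 =
          (WittVector.frobenius a).coeff 0 - (a.coeff 0) ^ p := by
        have := map_sub (constantCoeff : WittVector p R →+* R) (WittVector.frobenius a) (a ^ p)
        rw [map_pow] at this
        exact this
      have h2 : (WittVector.frobenius a).coeff 0 =
          (a.coeff 0) ^ p + (p : R) * MvPolynomial.aeval a.coeff (frobeniusPolyAux p 0) := by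
        rw [coeff_frobenius, frobeniusPoly, map_add, map_mul, map_pow, MvPolynomial.aeval_X,
          MvPolynomial.aeval_C]
        simp
      rw [h1, h2]; ring
    rw [e]
    exact Commute.isNilpotent_mul_right (Commute.all _ _) hp
  have h1 := mem_of_isMaximal hp 𝔪 h𝔪 _ hdiff
  have h2 := 𝔪.add_mem h1 (Ideal.pow_mem_of_mem 𝔪 ha p (Fact.out : p.Prime).pos)
  rwa [sub_add_cancel] at h2

end Groth.Agent.Lib.DispVSharp
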