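import Mathlib
import Groth.Prelude.Def_Dieu

/-! Linear algebra for the `σ`-linear isomorphism of a 3n-display (helper1):
* a surjection of a finite module onto a projective module which is injective modulo every
  maximal ideal is injective;
* the linearisation of a `σ`-semilinear endomorphism with surjective linearisation is injective
  modulo a maximal ideal `𝔪` with `σ 𝔪 ⊆ 𝔪`;
* scalar extension of a finite module is finite. -/

set_option autoImplicit false
universe u v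

namespace Groth.Agent.Lib.DispVSharp

open Dieu

theorem injective_of_surjective_of_mod_maximal {A : Type*} [CommRing A] {M N : Type*}
    [AddCommGroup M] [AddCommGroup N] [Module A M] [Module A N] [Module.Finite A M]
    [Module.Projective A N] (f : M →ₗ[A] N) (hf : Function.Surjective f)
    (h : ∀ 𝔪 : Ideal A, 𝔪.IsMaximal → ∀ z : M, f z ∈ 𝔪 • (⊤ : Submodule A N) →
      z ∈ 𝔪 • (⊤ : Submodule A M)) : Function.Injective f := by
  obtain ⟨s, hs⟩ := Module.projective_lifting_property f LinearMap.id hf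
  have hfs : ∀ y, f (s y) = y := fun y => by
    have := LinearMap.congr_fun hs y
    simpa using this
  obtain ⟨g, hg⟩ : ∃ g : M →ₗ[A] M, ∀ z, g z = z - s (f z) :=
    ⟨LinearMap.id - s ∘ₗ f, fun z => rfl⟩
  have hker : ∀ z, f z = 0 → g z = z := by
    intro z hz
    rw [hg, hz, map_zero, sub_zero]
  have hrange : ∀ z, f (g z) = 0 := by
    intro z
    rw [hg, map_sub, hfs, sub_self]
  have hKfg : (LinearMap.range g).FG := by
    rw [LinearMap.range_eq_map]
    exact (Module.Finite.fg_top).map g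
  have hKker : ∀ z, f z = 0 → z ∈ LinearMap.range g := fun z hz => ⟨z, hker z hz⟩
  have hle : ∀ 𝔪 : Ideal A, 𝔪.IsMaximal → LinearMap.range g ≤ 𝔪 • LinearMap.range g := by
    intro 𝔪 h𝔪 z hz
    obtain ⟨z', rfl⟩ := hz
    have h0 : f (g z') = 0 := hrange z'
    have h1 : g z' ∈ 𝔪 • (⊤ : Submodule A M) :=
      h 𝔪 h𝔪 _ (by rw [h0]; exact Submodule.zero_mem _)
    have h2 : g (g z') ∈ (𝔪 • (⊤ : Submodule A M)).map g := Submodule.mem_map_of_mem h1
    rw [Submodule.map_smul'', Submodule.map_top] at h2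
    rwa [hker _ h0] at h2
  rw [← LinearMap.ker_eq_bot]
  by_contra hne
  have hann : (LinearMap.range g).annihilator ≠ ⊤ := by
    intro htop
    apply hne
    rw [eq_bot_iff]
    intro z hz
    have hzK := hKker z hz
    have h1 : (1 : A) ∈ (LinearMap.range g).annihilator := by rw [htop]; exact Submodule.mem_top
    have h2 := Submodule.mem_annihilator.1 h1 z hzK
    rw [one_smul] at h2
    rw [h2]
    exact Submodule.zero_mem _
  obtain ⟨𝔪, h𝔪, hle𝔪⟩ := Ideal.exists_le_maximal _ hann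
  obtain ⟨r, hr1, hr2⟩ := Submodule.exists_sub_one_mem_and_smul_eq_zero_of_fg_of_le_smul 𝔪
    (LinearMap.range g) hKfg (hle 𝔪 h𝔪)
  have hrann : r ∈ (LinearMap.range g).annihilator := Submodule.mem_annihilator.2 hr2
  have hr𝔪 : r ∈ 𝔪 := hle𝔪 hrann
  have h1 : (1 : A) ∈ 𝔪 := by
    have := 𝔪.sub_mem hr𝔪 hr1
    rwa [sub_sub_cancel] at this
  exact h𝔪.ne_top ((Ideal.eq_top_iff_one _).2 h1)

section BCfacts

variable {A : Type u} [CommRing A] (σ : A →+* A) {P : Type v} [AddCommGroup P] [Module A P]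

lemma tmul_eq_smul_ι (b : A) (x : P) : BC.tmul σ b x = b • BC.ι σ P x := by
  rw [BC.ι_apply, BC.smul_tmul, mul_one]

/-- `1 ⊗ -` maps `𝔪 P` into `𝔪 (σ^* P)` when `σ 𝔪 ⊆ 𝔪` -/
lemma ι_mem_smul_top (𝔪 : Ideal A) (hσ : ∀ a ∈ 𝔪, σ a ∈ 𝔪) {r : P}
    (hr : r ∈ 𝔪 • (⊤ : Submodule A P)) :
    BC.ι σ P r ∈ 𝔪 • (⊤ : Submodule A (BC σ P)) := by
  refine Submodule.smul_induction_on hr (fun a ha y _ => ?_) (fun x y hx hy => ?_)
  · rw [map_smulₛₗ]
    exact Submodule.smul_mem_smul (hσ a ha) Submodule.mem_top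
  · rw [map_add]
    exact Submodule.add_mem _ hx hy

lemma map_mem_smul_top {M N : Type*} [AddCommGroup M] [AddCommGroup N] [Module A M] [Module A N]
    (f : M →ₗ[A] N) (𝔪 : Ideal A) {z : M} (hz : z ∈ 𝔪 • (⊤ : Submodule A M)) :
    f z ∈ 𝔪 • (⊤ : Submodule A N) := by
  have h2 : f z ∈ (𝔪 • (⊤ : Submodule A M)).map f := Submodule.mem_map_of_mem hz
  rw [Submodule.map_smul''] at h2
  exact Submodule.smul_mono le_rfl le_top h2

theorem finite_BC [Module.Finite A P] : Module.Finite A (BC σ P) := by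
  classical
  obtain ⟨s, hs⟩ := (Module.Finite.fg_top : (⊤ : Submodule A P).FG)
  refine ⟨⟨s.image (BC.ι σ P), ?_⟩⟩
  rw [eq_top_iff]
  have key : ∀ y : P, BC.ι σ P y ∈ Submodule.span A ((s.image (BC.ι σ P) : Finset (BC σ P)) : Set (BC σ P)) := by
    intro y
    have hy : y ∈ Submodule.span A (s : Set P) := by rw [hs]; exact Submodule.mem_top
    induction hy using Submodule.span_induction with
    | mem x hx =>
      apply Submodule.subset_span
      rw [Finset.coe_image]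
      exact ⟨x, hx, rfl⟩
    | zero => rw [map_zero]; exact Submodule.zero_mem _
    | add x y _ _ hx hy => rw [map_add]; exact Submodule.add_mem _ hx hy
    | smul a x _ hx => rw [map_smulₛₗ]; exact Submodule.smul_mem _ _ hx
  intro z hz0
  clear hz0 hs
  induction z using BC.induction_on σ with
  | zero => exact Submodule.zero_mem _
  | tmul b x => rw [tmul_eq_smul_ι]; exact Submodule.smul_mem _ _ (key x)
  | add z₁ z₂ h₁ h₂ => exact Submodule.add_mem _ h₁ h₂

end BCfacts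

theorem mod_maximal {A : Type u} [CommRing A] (σ : A →+* A) {P : Type v} [AddCommGroup P]
    [Module A P] [Module.Finite A P] (Φ : P →ₛₗ[σ] P)
    (hsurj : Function.Surjective (BC.lift σ Φ)) (𝔪 : Ideal A) (h𝔪 : 𝔪.IsMaximal)
    (hσ : ∀ a ∈ 𝔪, σ a ∈ 𝔪) (z : BC σ P)
    (hz : BC.lift σ Φ z ∈ 𝔪 • (⊤ : Submodule A P)) :
    z ∈ 𝔪 • (⊤ : Submodule A (BC σ P)) := by
  classical
  have := h𝔪
  let _ : Field (A ⧸ 𝔪) := Ideal.Quotient.field 𝔪
  obtain ⟨d, hd⟩ : ∃ d, d = Module.finrank (A ⧸ 𝔪) (P ⧸ (𝔪 • (⊤ : Submodule A P))) := ⟨_, rfl⟩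
  have b : Module.Basis (Fin d) (A ⧸ 𝔪) (P ⧸ (𝔪 • (⊤ : Submodule A P))) := by
    rw [hd]; exact Module.finBasis _ _
  have hmk : ∀ v : P ⧸ (𝔪 • (⊤ : Submodule A P)), ∃ y : P, Submodule.Quotient.mk y = v :=
    fun v => Submodule.Quotient.mk_surjective _ v
  choose x hx using fun i => hmk (b i)
  have hsm : ∀ (c : A) (y : P), (Submodule.Quotient.mk (c • y) : P ⧸ (𝔪 • (⊤ : Submodule A P))) =
      (Ideal.Quotient.mk 𝔪 c) • (Submodule.Quotient.mk y : P ⧸ (𝔪 • (⊤ : Submodule A P))) :=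
    fun c y => rfl
  have hmem : ∀ y : P, (Submodule.Quotient.mk y : P ⧸ (𝔪 • (⊤ : Submodule A P))) = 0 ↔
      y ∈ 𝔪 • (⊤ : Submodule A P) := fun y => Submodule.Quotient.mk_eq_zero _
  -- S1
  have S1 : ∀ y : P, ∃ c : Fin d → A, y - ∑ i, c i • x i ∈ 𝔪 • (⊤ : Submodule A P) := by
    intro y
    have hc : ∀ i, ∃ a : A, Ideal.Quotient.mk 𝔪 a = b.repr (Submodule.Quotient.mk y) i :=
      fun i => Ideal.Quotient.mk_surjective _
    choose c hc using hc
    refine ⟨c, ?_⟩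
    rw [← hmem, Submodule.Quotient.mk_sub, sub_eq_zero]
    have h1 : (Submodule.Quotient.mk (∑ i, c i • x i) : P ⧸ (𝔪 • (⊤ : Submodule A P))) =
        ∑ i, (Ideal.Quotient.mk 𝔪 (c i)) • b i := by
      have : (Submodule.Quotient.mk (∑ i, c i • x i) : P ⧸ (𝔪 • (⊤ : Submodule A P))) =
          ∑ i, (Submodule.Quotient.mk (c i • x i) : P ⧸ (𝔪 • (⊤ : Submodule A P))) :=
        map_sum (Submodule.mkQ (𝔪 • (⊤ : Submodule A P))) _ _
      rw [this]
      exact Finset.sum_congr rfl (fun i _ => by rw [hsm, hx])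
    rw [h1]
    conv_lhs => rw [← b.sum_repr (Submodule.Quotient.mk y)]
    exact Finset.sum_congr rfl (fun i _ => by rw [hc])
  -- S2
  have S2 : ∀ z : BC σ P, ∃ c : Fin d → A,
      z - ∑ i, c i • BC.ι σ P (x i) ∈ 𝔪 • (⊤ : Submodule A (BC σ P)) := by
    intro z
    induction z using BC.induction_on σ with
    | zero => exact ⟨fun _ => 0, by simp⟩
    | tmul a y =>
      obtain ⟨c, hc⟩ := S1 y
      refine ⟨fun i => a * σ (c i), ?_⟩
      have e : BC.tmul σ a y - ∑ i, (a * σ (c i)) • BC.ι σ P (x i) =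
          a • BC.ι σ P (y - ∑ i, c i • x i) := by
        rw [tmul_eq_smul_ι, map_sub, map_sum, smul_sub, Finset.smul_sum]
        congr 1
        exact Finset.sum_congr rfl (fun i _ => by rw [map_smulₛₗ, mul_smul])
      rw [e]
      exact Submodule.smul_mem _ _ (ι_mem_smul_top σ 𝔪 hσ hc)
    | add z₁ z₂ h₁ h₂ =>
      obtain ⟨c₁, hc₁⟩ := h₁
      obtain ⟨c₂, hc₂⟩ := h₂
      refine ⟨fun i => c₁ i + c₂ i, ?_⟩
      have e : z₁ + z₂ - ∑ i, (c₁ i + c₂ i) • BC.ι σ P (x i) =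
          (z₁ - ∑ i, c₁ i • BC.ι σ P (x i)) + (z₂ - ∑ i, c₂ i • BC.ι σ P (x i)) := by
        simp only [add_smul, Finset.sum_add_distrib]
        abel
      rw [e]
      exact Submodule.add_mem _ hc₁ hc₂
  -- the images of `Φ (x i)` span
  have hlift_ι : ∀ y : P, BC.lift σ Φ (BC.ι σ P y) = Φ y := fun y => BC.lift_ι σ Φ y
  have hspan : ⊤ ≤ Submodule.span (A ⧸ 𝔪) (Set.range fun i : Fin d =>
      (Submodule.Quotient.mk (Φ (x i)) : P ⧸ (𝔪 • (⊤ : Submodule A P)))) := by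
    intro v _
    obtain ⟨y, rfl⟩ := hmk v
    obtain ⟨z', rfl⟩ := hsurj y
    obtain ⟨c, hc⟩ := S2 z'
    have h1 := map_mem_smul_top (BC.lift σ Φ) 𝔪 hc
    rw [map_sub, map_sum] at h1
    have h2 : (Submodule.Quotient.mk (BC.lift σ Φ z') : P ⧸ (𝔪 • (⊤ : Submodule A P))) =
        ∑ i, (Ideal.Quotient.mk 𝔪 (c i)) •
          (Submodule.Quotient.mk (Φ (x i)) : P ⧸ (𝔪 • (⊤ : Submodule A P))) := by
      rw [← sub_eq_zero]
      rw [← hmem] at h1
      rw [Submodule.Quotient.mk_sub] at h1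
      have : (Submodule.Quotient.mk (∑ i, BC.lift σ Φ (c i • BC.ι σ P (x i))) :
          P ⧸ (𝔪 • (⊤ : Submodule A P))) = ∑ i, (Ideal.Quotient.mk 𝔪 (c i)) •
          (Submodule.Quotient.mk (Φ (x i)) : P ⧸ (𝔪 • (⊤ : Submodule A P))) := by
        have e1 : (Submodule.Quotient.mk (∑ i, BC.lift σ Φ (c i • BC.ι σ P (x i))) :
            P ⧸ (𝔪 • (⊤ : Submodule A P))) =
            ∑ i, (Submodule.Quotient.mk (BC.lift σ Φ (c i • BC.ι σ P (x i))) :
              P ⧸ (𝔪 • (⊤ : Submodule A P))) :=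
          map_sum (Submodule.mkQ (𝔪 • (⊤ : Submodule A P))) _ _
        rw [e1]
        exact Finset.sum_congr rfl (fun i _ => by rw [map_smul, hlift_ι, hsm])
      rw [this] at h1
      exact h1
    rw [h2]
    exact Submodule.sum_mem _ (fun i _ => Submodule.smul_mem _ _ (Submodule.subset_span ⟨i, rfl⟩))
  have hli := linearIndependent_of_top_le_span_of_card_eq_finrank hspan
    (by rw [Fintype.card_fin, hd])
  -- conclusion
  obtain ⟨c, hc⟩ := S2 z
  have h1 := map_mem_smul_top (BC.lift σ Φ) 𝔪 hc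
  rw [map_sub, map_sum] at h1
  have h3 : ∑ i, BC.lift σ Φ (c i • BC.ι σ P (x i)) ∈ 𝔪 • (⊤ : Submodule A P) := by
    have := Submodule.sub_mem _ hz h1
    rwa [sub_sub_cancel] at this
  have h4 : ∑ i, (Ideal.Quotient.mk 𝔪 (c i)) •
      (Submodule.Quotient.mk (Φ (x i)) : P ⧸ (𝔪 • (⊤ : Submodule A P))) = 0 := by
    rw [← hmem] at h3
    have e1 : (Submodule.Quotient.mk (∑ i, BC.lift σ Φ (c i • BC.ι σ P (x i))) :
        P ⧸ (𝔪 • (⊤ : Submodule A P))) =
        ∑ i, (Submodule.Quotient.mk (BC.lift σ Φ (c i • BC.ι σ P (x i))) :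
          P ⧸ (𝔪 • (⊤ : Submodule A P))) :=
      map_sum (Submodule.mkQ (𝔪 • (⊤ : Submodule A P))) _ _
    rw [e1] at h3
    rw [← h3]
    exact Finset.sum_congr rfl (fun i _ => by rw [map_smul, hlift_ι, hsm])
  have h5 := Fintype.linearIndependent_iff.1 hli _ h4
  have h6 : ∀ i, c i ∈ 𝔪 := fun i => Ideal.Quotient.eq_zero_iff_mem.1 (h5 i)
  have h7 : ∑ i, c i • BC.ι σ P (x i) ∈ 𝔪 • (⊤ : Submodule A (BC σ P)) :=
    Submodule.sum_mem _ (fun i _ => Submodule.smul_mem_smul (h6 i) Submodule.mem_top)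
  have := Submodule.add_mem _ hc h7
  rwa [sub_add_cancel] at this

end Groth.Agent.Lib.DispVSharp
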