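import Mathlib
import Groth.Prelude.Def_Disp2
import Groth.Agent.Lib.DispVSharp1_helper1
import Groth.Agent.Lib.DispVSharp2_helper1
import Groth.Agent.Lib.DispNormal_helper1

/-! The `σ`-linear isomorphism `V⁻¹ ⊕ F` of a 3n-display with a normal decomposition, and the
operator `V^#` (helper1).  Over a ring in which `p` is nilpotent. -/

set_option autoImplicit false
universe u v

namespace Groth.Agent.Lib.DispVSharp

open Dieu W4c1extbt610 WittVector

variable {p : ℕ} [Fact p.Prime] {R : Type u} [CommRing R]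
variable {P : Type v} [AddCommGroup P] [Module (WittVector p R) P]

/-- the `σ`-semilinear map `V⁻¹ ∘ pr_L + F ∘ pr_T` attached to a normal decomposition -/
noncomputable def Phi (D : Display3n p R P) (L T : Submodule (WittVector p R) P)
    (hLT : IsCompl L T) (hLQ : L ≤ D.Q) :
    P →ₛₗ[(WittVector.frobenius : WittVector p R →+* WittVector p R)] P :=
  D.Vinv.comp ((Submodule.inclusion hLQ).comp (L.projectionOnto T hLT)) +
    D.F.comp (T.projection L hLT.symm)

lemma Phi_apply (D : Display3n p R P) (L T : Submodule (WittVector p R) P)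
    (hLT : IsCompl L T) (hLQ : L ≤ D.Q) (x : P) :
    Phi D L T hLT hLQ x = D.Vinv (Submodule.inclusion hLQ (L.projectionOnto T hLT x)) +
      D.F (T.projection L hLT.symm x) := rfl

lemma Phi_of_mem_L (D : Display3n p R P) (L T : Submodule (WittVector p R) P)
    (hLT : IsCompl L T) (hLQ : L ≤ D.Q) {l : P} (hl : l ∈ L) :
    Phi D L T hLT hLQ l = D.Vinv ⟨l, hLQ hl⟩ := by
  rw [Phi_apply, Submodule.projectionOnto_apply_of_mem_left hLT hl,
    (Submodule.projection_apply_eq_zero_iff hLT.symm).2 hl, map_zero, add_zero]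
  rfl

lemma Phi_of_mem_T (D : Display3n p R P) (L T : Submodule (WittVector p R) P)
    (hLT : IsCompl L T) (hLQ : L ≤ D.Q) {t : P} (ht : t ∈ T) :
    Phi D L T hLT hLQ t = D.F t := by
  rw [Phi_apply, Submodule.projectionOnto_apply_of_mem_right hLT ht, map_zero, map_zero, zero_add,
    Submodule.projection_apply_of_mem_left hLT.symm ht]

theorem lift_Phi_surjective (D : Display3n p R P) (L T : Submodule (WittVector p R) P)
    (hLT : IsCompl L T) (hQ : D.Q = L ⊔ IV p R • T) (hLQ : L ≤ D.Q) :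
    Function.Surjective (BC.lift (WittVector.frobenius : WittVector p R →+* WittVector p R)
      (Phi D L T hLT hLQ)) := by
  have hIT : IV p R • T ≤ D.Q := by rw [hQ]; exact le_sup_right
  have h_i : ∀ i ∈ IV p R • T, i ∈ D.Q ∧ ∀ h : i ∈ D.Q, D.Vinv ⟨i, h⟩ ∈ LinearMap.range
      (BC.lift (WittVector.frobenius : WittVector p R →+* WittVector p R) (Phi D L T hLT hLQ)) := by
    intro i hi
    refine Submodule.smul_induction_on hi (fun a ha t ht => ?_) (fun x y hx hy => ?_)
    · obtain ⟨u, rfl⟩ := Groth.Agent.Lib.DispNormal.exists_eq_verschiebung_of_mem_IV a ha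
      refine ⟨hIT (Submodule.smul_mem_smul ha ht), fun h => ?_⟩
      have e : D.Vinv ⟨verschiebung u • t, h⟩ = u • D.F t := D.Vinv_verschiebung_smul u t
      rw [e]
      exact ⟨BC.tmul _ u t, by rw [BC.lift_tmul, Phi_of_mem_T D L T hLT hLQ ht]⟩
    · refine ⟨D.Q.add_mem hx.1 hy.1, fun h => ?_⟩
      have e : (⟨x + y, h⟩ : D.Q) = ⟨x, hx.1⟩ + ⟨y, hy.1⟩ := rfl
      rw [e, map_add]
      exact Submodule.add_mem _ (hx.2 _) (hy.2 _)
  have hQr : ∀ q : D.Q, D.Vinv q ∈ LinearMap.range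
      (BC.lift (WittVector.frobenius : WittVector p R →+* WittVector p R) (Phi D L T hLT hLQ)) := by
    intro q
    have hq : (q : P) ∈ L ⊔ IV p R • T := by rw [← hQ]; exact q.2
    obtain ⟨l, hl, i, hi, hli⟩ := Submodule.mem_sup.1 hq
    have e : q = ⟨l, hLQ hl⟩ + ⟨i, (h_i i hi).1⟩ := Subtype.ext hli.symm
    rw [e, map_add]
    refine Submodule.add_mem _ ⟨BC.tmul _ 1 l, ?_⟩ ((h_i i hi).2 _)
    rw [BC.lift_tmul, one_smul, Phi_of_mem_L D L T hLT hLQ hl]
  have htop : LinearMap.range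
      (BC.lift (WittVector.frobenius : WittVector p R →+* WittVector p R) (Phi D L T hLT hLQ)) = ⊤ := by
    rw [eq_top_iff, ← D.span_range_Vinv, Submodule.span_le]
    rintro _ ⟨q, rfl⟩
    exact hQr q
  exact LinearMap.range_eq_top.1 htop

/-- **Lemma 9**: `V⁻¹ ⊕ F` is a `σ`-linear isomorphism. -/
theorem lift_Phi_bijective (hp : IsNilpotent (p : R)) (D : Display3n p R P)
    (L T : Submodule (WittVector p R) P)
    (hLT : IsCompl L T) (hQ : D.Q = L ⊔ IV p R • T) (hLQ : L ≤ D.Q) :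
    Function.Bijective (BC.lift (WittVector.frobenius : WittVector p R →+* WittVector p R)
      (Phi D L T hLT hLQ)) := by
  haveI := D.finite
  haveI := D.projective
  haveI := finite_BC (WittVector.frobenius : WittVector p R →+* WittVector p R) (P := P)
  have hsurj := lift_Phi_surjective D L T hLT hQ hLQ
  refine ⟨injective_of_surjective_of_mod_maximal _ hsurj (fun 𝔪 h𝔪 z hz => ?_), hsurj⟩
  exact mod_maximal _ (Phi D L T hLT hLQ) hsurj 𝔪 h𝔪
    (frobenius_mem_of_isMaximal hp 𝔪 h𝔪) z hz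

theorem vSharp_unique (D : Display3n p R P)
    (Vs Vs' : P →ₗ[WittVector p R] BC (WittVector.frobenius : WittVector p R →+* WittVector p R) P)
    (h : IsVSharp D Vs) (h' : IsVSharp D Vs') : Vs = Vs' := by
  apply LinearMap.ext_on D.span_range_Vinv
  rintro _ ⟨y, rfl⟩
  have e1 := h.app_smul_Vinv 1 y
  have e2 := h'.app_smul_Vinv 1 y
  rw [one_smul] at e1 e2
  rw [e1, e2]

theorem exists_vSharp (hp : IsNilpotent (p : R)) (D : Display3n p R P) :
    ∃ Vs : P →ₗ[WittVector p R] BC (WittVector.frobenius : WittVector p R →+* WittVector p R) P,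
      IsVSharp D Vs := by
  obtain ⟨L, T, hLT, hQ⟩ := D.exists_normal
  have hLQ : L ≤ D.Q := by rw [hQ]; exact le_sup_left
  have hIT : IV p R • T ≤ D.Q := by rw [hQ]; exact le_sup_right
  have hbij := lift_Phi_bijective hp D L T hLT hQ hLQ
  obtain ⟨e, he⟩ : ∃ e : BC (WittVector.frobenius : WittVector p R →+* WittVector p R) P ≃ₗ[WittVector p R] P,
      ∀ z, e z = BC.lift (WittVector.frobenius : WittVector p R →+* WittVector p R)
        (Phi D L T hLT hLQ) z :=
    ⟨LinearEquiv.ofBijective _ hbij, fun z => rfl⟩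
  obtain ⟨Θ, hΘ⟩ : ∃ Θ : BC (WittVector.frobenius : WittVector p R →+* WittVector p R) P →ₗ[WittVector p R]
      BC (WittVector.frobenius : WittVector p R →+* WittVector p R) P,
      ∀ (b : WittVector p R) (y : P), Θ (BC.tmul _ b y) =
        BC.tmul _ b (L.projection T hLT y) +
          (p : WittVector p R) • BC.tmul _ b (T.projection L hLT.symm y) :=
    ⟨BC.map _ (L.projection T hLT) + (p : WittVector p R) • BC.map _ (T.projection L hLT.symm),
      fun b y => by
        rw [LinearMap.add_apply, LinearMap.smul_apply, BC.map_tmul, BC.map_tmul]⟩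
  have hΘL : ∀ (b : WittVector p R) {l : P}, l ∈ L → Θ (BC.tmul _ b l) = BC.tmul _ b l := by
    intro b l hl
    rw [hΘ, Submodule.projection_apply_of_mem_left hLT hl,
      (Submodule.projection_apply_eq_zero_iff hLT.symm).2 hl, BC.tmul_zero, smul_zero, add_zero]
  have hΘT : ∀ (b : WittVector p R) {t : P}, t ∈ T → Θ (BC.tmul _ b t) = BC.tmul _ (p * b) t := by
    intro b t ht
    rw [hΘ, Submodule.projection_apply_of_mem_left hLT.symm ht,
      (Submodule.projection_apply_eq_zero_iff hLT).2 ht, BC.tmul_zero, zero_add, BC.smul_tmul]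
  have hVs : ∀ z, (Θ ∘ₗ e.symm.toLinearMap) (BC.lift _ (Phi D L T hLT hLQ) z) = Θ z := by
    intro z
    rw [LinearMap.comp_apply, ← he]
    exact congrArg Θ (e.symm_apply_apply z)
  refine ⟨Θ ∘ₗ e.symm.toLinearMap, ⟨fun w x => ?_, fun w y => ?_⟩⟩
  · -- `V^# (w F x) = p (w ⊗ x)`
    have hl : L.projection T hLT x ∈ L := Submodule.projection_apply_mem hLT x
    have ht : T.projection L hLT.symm x ∈ T := Submodule.projection_apply_mem hLT.symm x
    have hx : L.projection T hLT x + T.projection L hLT.symm x = x :=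
      Submodule.projection_add_projection_eq_self hLT x
    obtain ⟨l, hl_def⟩ : ∃ l, l = L.projection T hLT x := ⟨_, rfl⟩
    obtain ⟨t, ht_def⟩ : ∃ t, t = T.projection L hLT.symm x := ⟨_, rfl⟩
    rw [← hl_def] at hl hx
    rw [← ht_def] at ht hx
    have hFl : D.F l = (p : WittVector p R) • D.Vinv ⟨l, hLQ hl⟩ := by
      have h1 : D.Vinv ⟨verschiebung 1 • l, D.Q.smul_mem _ (hLQ hl)⟩ = (1 : WittVector p R) • D.F l :=
        D.Vinv_verschiebung_smul 1 l
      have h2 : (⟨verschiebung 1 • l, D.Q.smul_mem _ (hLQ hl)⟩ : D.Q) =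
          (verschiebung (1 : WittVector p R)) • (⟨l, hLQ hl⟩ : D.Q) := rfl
      rw [h2, map_smulₛₗ, frobenius_verschiebung, one_mul, one_smul] at h1
      exact h1.symm
    have hFx : w • D.F x = BC.lift _ (Phi D L T hLT hLQ)
        (w • (BC.tmul _ (p : WittVector p R) l + BC.tmul _ 1 t)) := by
      rw [map_smul, map_add, BC.lift_tmul, BC.lift_tmul, one_smul, Phi_of_mem_L D L T hLT hLQ hl,
        Phi_of_mem_T D L T hLT hLQ ht, ← hFl, ← map_add, hx]
    rw [hFx, hVs, map_smul, map_add, hΘL _ hl, hΘT _ ht, mul_one, ← BC.tmul_add, hx,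
      BC.smul_tmul, BC.smul_tmul, mul_comm]
  · -- `V^# (w V⁻¹ y) = w ⊗ y`
    have h_i : ∀ i ∈ IV p R • T, i ∈ D.Q ∧ ∀ h : i ∈ D.Q,
        ∃ z, BC.lift _ (Phi D L T hLT hLQ) z = D.Vinv ⟨i, h⟩ ∧
          Θ z = BC.tmul (WittVector.frobenius : WittVector p R →+* WittVector p R) 1 i := by
      intro i hi
      refine Submodule.smul_induction_on hi (fun a ha t ht => ?_) (fun x y hx hy => ?_)
      · obtain ⟨u, rfl⟩ := Groth.Agent.Lib.DispNormal.exists_eq_verschiebung_of_mem_IV a ha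
        refine ⟨hIT (Submodule.smul_mem_smul ha ht), fun h => ⟨BC.tmul _ u t, ?_, ?_⟩⟩
        · have e' : D.Vinv ⟨verschiebung u • t, h⟩ = u • D.F t := D.Vinv_verschiebung_smul u t
          rw [e', BC.lift_tmul, Phi_of_mem_T D L T hLT hLQ ht]
        · rw [hΘT _ ht, ← BC.tmul_mul_apply, frobenius_verschiebung, one_mul, mul_comm]
      · obtain ⟨hxQ, hx'⟩ := hx
        obtain ⟨hyQ, hy'⟩ := hy
        refine ⟨D.Q.add_mem hxQ hyQ, fun h => ?_⟩
        obtain ⟨zx, hzx1, hzx2⟩ := hx' hxQ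
        obtain ⟨zy, hzy1, hzy2⟩ := hy' hyQ
        refine ⟨zx + zy, ?_, ?_⟩
        · have e' : (⟨x + y, h⟩ : D.Q) = ⟨x, hxQ⟩ + ⟨y, hyQ⟩ := rfl
          rw [e', map_add, map_add, hzx1, hzy1]
        · rw [map_add, hzx2, hzy2, BC.tmul_add]
    have hq : (y : P) ∈ L ⊔ IV p R • T := by rw [← hQ]; exact y.2
    obtain ⟨l, hl, i, hi, hli⟩ := Submodule.mem_sup.1 hq
    obtain ⟨hiQ, hi'⟩ := h_i i hi
    obtain ⟨zi, hzi1, hzi2⟩ := hi' hiQ
    have ey : y = ⟨l, hLQ hl⟩ + ⟨i, hiQ⟩ := Subtype.ext hli.symm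
    have h1 : w • D.Vinv y = BC.lift _ (Phi D L T hLT hLQ) (w • (BC.tmul _ 1 l + zi)) := by
      rw [map_smul, map_add, BC.lift_tmul, one_smul, Phi_of_mem_L D L T hLT hLQ hl, hzi1,
        ← map_add, ← ey]
    rw [h1, hVs, map_smul, map_add, hΘL _ hl, hzi2, ← BC.tmul_add, hli, BC.smul_tmul, mul_one]

theorem main16535 (hp : IsNilpotent (p : R)) (D : Display3n p R P) :
    ∃! Vs : P →ₗ[WittVector p R] BC (WittVector.frobenius : WittVector p R →+* WittVector p R) P,
      IsVSharp D Vs := by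
  obtain ⟨Vs, h⟩ := exists_vSharp hp D
  exact ⟨Vs, h, fun Vs' h' => vSharp_unique D Vs' Vs h' h⟩

end Groth.Agent.Lib.DispVSharp
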