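import Mathlib
import Groth.Prelude.Def_Disp2
import Groth.Agent.Lib.DispStar_helper1
import Groth.Agent.Lib.DispVSharp3_helper1

/-! Base change of the operator `V^#` and of its iterates along a ring map (helper1):
the base change of a display is a display (S16540). -/

set_option autoImplicit false
universe u v

namespace Groth.Agent.Lib.DispBC

open Dieu W4c1extbt610 WittVector Groth.Agent.Lib.DispStar

section General

variable {A B : Type u} [CommRing A] [CommRing B] (g : A →+* B)
variable {P : Type v} [AddCommGroup P] [Module A P]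

/-- `x ↦ 1 ⊗ (1 ⊗ x)`, semilinear along `kR ∘ g` -/
noncomputable def iota2 (kR : B →+* B) : P →ₛₗ[kR.comp g] BC kR (BC g P) where
  toFun x := BC.tmul kR 1 (BC.tmul g 1 x)
  map_add' x y := by rw [BC.tmul_add, BC.tmul_add]
  map_smul' a x := by
    show BC.tmul kR 1 (BC.tmul g 1 (a • x)) = kR (g a) • BC.tmul kR 1 (BC.tmul g 1 x)
    rw [← BC.tmul_apply_eq g a x, BC.tmul_eq_smul_tmul_one g (g a) x,
      ← BC.tmul_apply_eq kR (g a) (BC.tmul g 1 x), BC.tmul_eq_smul_tmul_one kR (kR (g a))]

lemma iota2_apply (kR : B →+* B) (x : P) :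
    iota2 g kR x = BC.tmul kR 1 (BC.tmul g 1 x) := rfl

/-- `θ : A ⊗_{k} P → B ⊗_{kR} (B ⊗_g P)`, `u ⊗ x ↦ g u ⊗ (1 ⊗ x)`; semilinear along `g` -/
noncomputable def theta (k : A →+* A) (kR : B →+* B) (hk : g.comp k = kR.comp g) :
    BC k P →ₛₗ[g] BC kR (BC g P) :=
  ((BC.lift (kR.comp g) (iota2 g kR)).comp (BC.castHom hk)).comp (BC.push k g)

lemma theta_tmul (k : A →+* A) (kR : B →+* B) (hk : g.comp k = kR.comp g) (u : A) (x : P) :
    theta g k kR hk (BC.tmul k u x) = BC.tmul kR (g u) (BC.tmul g 1 x) := by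
  rw [theta, LinearMap.comp_apply, LinearMap.comp_apply, BC.push_tmul, BC.castHom_tmul,
    BC.lift_tmul, iota2_apply, BC.smul_tmul, mul_one]

/-- compatibility of a twisted map over `A` with one over `B` -/
def Compat {k : A →+* A} {kR : B →+* B} (hk : g.comp k = kR.comp g)
    (ψ : P →ₗ[A] BC k P) (ψR : BC g P →ₗ[B] BC kR (BC g P)) : Prop :=
  ∀ x : P, ψR (BC.tmul g 1 x) = theta g k kR hk (ψ x)

lemma comp_eq {k h : A →+* A} {kR hR : B →+* B} (hk : g.comp k = kR.comp g)
    (hh : g.comp h = hR.comp g) : g.comp (h.comp k) = (hR.comp kR).comp g := by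
  apply RingHom.ext
  intro a
  have e1 := RingHom.congr_fun hk a
  have e2 := RingHom.congr_fun hh (k a)
  simp only [RingHom.comp_apply] at e1 e2 ⊢
  rw [e2, e1]

lemma aux1 {k h : A →+* A} {kR hR : B →+* B} (hk : g.comp k = kR.comp g)
    (hh : g.comp h = hR.comp g) (u : A) (z : BC k P) :
    coll kR hR (BC.tmul hR (g u) (theta g k kR hk z)) =
      theta g (h.comp k) (hR.comp kR) (comp_eq g hk hh) (coll k h (BC.tmul h u z)) := by
  induction z using BC.induction_on k with
  | zero => simp only [map_zero, BC.tmul_zero]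
  | tmul v y =>
    have e2 := RingHom.congr_fun hh v
    simp only [RingHom.comp_apply] at e2
    rw [theta_tmul, coll_tmul_tmul, coll_tmul_tmul, theta_tmul, map_mul, e2]
  | add z₁ z₂ h₁ h₂ =>
    rw [map_add, BC.tmul_add, map_add, h₁, h₂, BC.tmul_add, map_add, map_add]

lemma aux2 {k h : A →+* A} {kR hR : B →+* B} (hk : g.comp k = kR.comp g)
    (hh : g.comp h = hR.comp g) (ψ : P →ₗ[A] BC k P) (ψR : BC g P →ₗ[B] BC kR (BC g P))
    (hc : Compat g hk ψ ψR) (z : BC h P) :
    coll kR hR (BC.map hR ψR (theta g h hR hh z)) =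
      theta g (h.comp k) (hR.comp kR) (comp_eq g hk hh) (coll k h (BC.map h ψ z)) := by
  induction z using BC.induction_on h with
  | zero => simp only [map_zero]
  | tmul u y =>
    rw [theta_tmul, BC.map_tmul, BC.map_tmul, hc y, aux1 g hk hh]
  | add z₁ z₂ h₁ h₂ =>
    rw [map_add, map_add, map_add, h₁, h₂, map_add, map_add, map_add]

theorem Compat.star {k h : A →+* A} {kR hR : B →+* B} {hk : g.comp k = kR.comp g}
    {hh : g.comp h = hR.comp g} {ψ : P →ₗ[A] BC k P} {ψR : BC g P →ₗ[B] BC kR (BC g P)}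
    {φ : P →ₗ[A] BC h P} {φR : BC g P →ₗ[B] BC hR (BC g P)}
    (hψ : Compat g hk ψ ψR) (hφ : Compat g hh φ φR) :
    Compat g (comp_eq g hk hh) (DispStar.star ψ φ) (DispStar.star ψR φR) := by
  intro x
  rw [star_apply, star_apply, hφ x]
  exact aux2 g hk hh ψ ψR hψ (φ x)

theorem Compat.ce {k k' : A →+* A} {kR kR' : B →+* B} {hk : g.comp k = kR.comp g}
    {hk' : g.comp k' = kR'.comp g} {ψ : P →ₗ[A] BC k P} {ψ' : P →ₗ[A] BC k' P}
    {ψR : BC g P →ₗ[B] BC kR (BC g P)} {ψR' : BC g P →ₗ[B] BC kR' (BC g P)}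
    (h1 : CE ψ ψ') (h2 : CE ψR ψR') (hc : Compat g hk ψ ψR) : Compat g hk' ψ' ψR' := by
  obtain ⟨e, rfl⟩ := h1
  obtain ⟨e', rfl⟩ := h2
  subst e
  subst e'
  intro x
  exact hc x

lemma theta_mem {k : A →+* A} {kR : B →+* B} (hk : g.comp k = kR.comp g)
    (I : Ideal A) (I' : Ideal B) (hI : ∀ a ∈ I, g a ∈ I') (z : BC k P)
    (hz : z ∈ I • (⊤ : Submodule A (BC k P))) :
    theta g k kR hk z ∈ I' • (⊤ : Submodule B (BC kR (BC g P))) := by
  refine Submodule.smul_induction_on hz (fun a ha y _ => ?_) (fun x y hx hy => ?_)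
  · rw [map_smulₛₗ]
    exact Submodule.smul_mem_smul (hI a ha) Submodule.mem_top
  · rw [map_add]
    exact Submodule.add_mem _ hx hy

end General

section Witt

variable {p : ℕ} [Fact p.Prime] {S R : Type u} [CommRing S] [CommRing R]
variable {P : Type v} [AddCommGroup P] [Module (WittVector p S) P]

lemma map_mem_J (f : S →+* R) (a : WittVector p S)
    (ha : a ∈ IV p S ⊔ Ideal.span {(p : WittVector p S)}) :
    WittVector.map f a ∈ IV p R ⊔ Ideal.span {(p : WittVector p R)} := by
  obtain ⟨i, hi, c, hc, rfl⟩ := Submodule.mem_sup.1 ha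
  obtain ⟨u, rfl⟩ := Groth.Agent.Lib.DispNormal.exists_eq_verschiebung_of_mem_IV i hi
  obtain ⟨c', rfl⟩ := Ideal.mem_span_singleton'.1 hc
  rw [map_add, WittVector.map_verschiebung, map_mul, map_natCast]
  exact Submodule.add_mem _ (Ideal.mem_sup_left (verschiebung_mem_IV p R _))
    (Ideal.mem_sup_right (Ideal.mul_mem_left _ _ (Ideal.subset_span rfl)))

lemma map_frob (f : S →+* R) (a : WittVector p S) :
    WittVector.map f (WittVector.frobenius a) = WittVector.frobenius (WittVector.map f a) :=
  WittVector.IsPoly.map (WittVector.frobenius_isPoly p) f a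

lemma frob_comm (f : S →+* R) :
    (WittVector.map f : WittVector p S →+* WittVector p R).comp
        (WittVector.frobenius : WittVector p S →+* WittVector p S) =
      (WittVector.frobenius : WittVector p R →+* WittVector p R).comp (WittVector.map f) := by
  apply RingHom.ext
  intro a
  simp only [RingHom.comp_apply]
  exact map_frob f a

lemma frob_pow_comm (f : S →+* R) (m : ℕ) :
    (WittVector.map f : WittVector p S →+* WittVector p R).comp
        ((WittVector.frobenius : WittVector p S →+* WittVector p S) ^ m) =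
      ((WittVector.frobenius : WittVector p R →+* WittVector p R) ^ m).comp (WittVector.map f) := by
  apply RingHom.ext
  intro a
  simp only [RingHom.comp_apply, RingHom.coe_pow]
  induction m with
  | zero => rfl
  | succ m ih =>
    rw [Function.iterate_succ_apply', Function.iterate_succ_apply', map_frob, ih]

theorem compat_vSharpPow (f : S →+* R)
    (Vs : P →ₗ[WittVector p S] BC (WittVector.frobenius : WittVector p S →+* WittVector p S) P)
    (VsR : BC (WittVector.map f : WittVector p S →+* WittVector p R) P →ₗ[WittVector p R]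
      BC (WittVector.frobenius : WittVector p R →+* WittVector p R)
        (BC (WittVector.map f : WittVector p S →+* WittVector p R) P))
    (h : Compat (WittVector.map f : WittVector p S →+* WittVector p R) (frob_comm f) Vs VsR)
    (n : ℕ) :
    Compat (WittVector.map f : WittVector p S →+* WittVector p R) (frob_pow_comm f (n + 1))
      (vSharpPow Vs n) (vSharpPow VsR n) := by
  induction n with
  | zero => exact Compat.ce _ (CE_vSharpPow_zero Vs) (CE_vSharpPow_zero VsR) h
  | succ n ih =>
    exact Compat.ce _ (CE_vSharpPow_succ Vs n) (CE_vSharpPow_succ VsR n) (Compat.star _ ih h)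

theorem compat_base (f : S →+* R) (D : Display3n p S P)
    (DR : Display3n p R (BC (WittVector.map f : WittVector p S →+* WittVector p R) P))
    (hDR : IsDispBaseChange f D DR)
    (Vs : P →ₗ[WittVector p S] BC (WittVector.frobenius : WittVector p S →+* WittVector p S) P)
    (hVs : IsVSharp D Vs)
    (VsR : BC (WittVector.map f : WittVector p S →+* WittVector p R) P →ₗ[WittVector p R]
      BC (WittVector.frobenius : WittVector p R →+* WittVector p R)
        (BC (WittVector.map f : WittVector p S →+* WittVector p R) P))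
    (hVsR : IsVSharp DR VsR) :
    Compat (WittVector.map f : WittVector p S →+* WittVector p R) (frob_comm f) Vs VsR := by
  have key : (VsR.comp (BC.ι (WittVector.map f : WittVector p S →+* WittVector p R) P) :
      P →ₛₗ[(WittVector.map f : WittVector p S →+* WittVector p R)] _) =
      (theta (WittVector.map f : WittVector p S →+* WittVector p R) _ _ (frob_comm f)).comp Vs := by
    apply LinearMap.ext_on D.span_range_Vinv
    rintro _ ⟨y, rfl⟩
    show VsR (BC.tmul _ 1 (D.Vinv y)) = theta _ _ _ (frob_comm f) (Vs (D.Vinv y))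
    have h0 : D.Q.mkQ (y : P) = 0 :=
      LinearMap.mem_ker.1 (by rw [Submodule.ker_mkQ]; exact y.2)
    have hmem : BC.tmul (WittVector.map f : WittVector p S →+* WittVector p R) 1 (y : P) ∈ DR.Q := by
      rw [hDR.Q_eq, LinearMap.mem_ker, bcQuotMap_tmul, h0]
      exact BC.tmul_zero _ _
    have e1 := hDR.Vinv_tmul 1 y hmem
    rw [map_one] at e1
    have e2 := hVsR.app_smul_Vinv 1 ⟨_, hmem⟩
    rw [one_smul, e1] at e2
    have e3 := hVs.app_smul_Vinv 1 y
    rw [one_smul] at e3
    rw [e2, e3, theta_tmul, map_one]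
  intro x
  exact LinearMap.congr_fun key x

theorem main16540 (hp : IsNilpotent (p : S)) (f : S →+* R) (D : Display3n p S P)
    (hD : IsDisplay D)
    (DR : Display3n p R (BC (WittVector.map f : WittVector p S →+* WittVector p R) P))
    (hDR : IsDispBaseChange f D DR) : IsDisplay DR := by
  obtain ⟨Vs, hVs, n, hn⟩ := hD
  have hpR : IsNilpotent (p : R) := by
    have := hp.map f
    rwa [map_natCast] at this
  obtain ⟨VsR, hVsR⟩ := Groth.Agent.Lib.DispVSharp.exists_vSharp hpR DR
  refine ⟨VsR, hVsR, n, ?_⟩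
  have hc := compat_vSharpPow f Vs VsR (compat_base f D DR hDR Vs hVs VsR hVsR) n
  intro z
  induction z using BC.induction_on (WittVector.map f : WittVector p S →+* WittVector p R) with
  | zero => rw [map_zero]; exact Submodule.zero_mem _
  | tmul w x =>
    rw [BC.tmul_eq_smul_tmul_one, map_smul, hc x]
    exact Submodule.smul_mem _ _ (theta_mem _ _ _ _ (map_mem_J f) _ (hn x))
  | add z₁ z₂ h₁ h₂ => rw [map_add]; exact Submodule.add_mem _ h₁ h₂

end Witt

end Groth.Agent.Lib.DispBC
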