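import Mathlib
import Groth.Prelude

set_option autoImplicit false
set_option linter.style.haveILetI false
set_option linter.unusedVariables false

universe u v

open scoped TensorProduct

namespace Groth.Agent.Lib.DispBCH4

/-- if `A → S` is surjective with kernel killing `N` and `S → R` is faithfully flat,
then `n ↦ 1 ⊗ n : N → R ⊗[A] N` is injective -/
theorem inj_of_surj_ff {A S R N : Type*} [CommRing A] [CommRing S] [CommRing R] [Algebra A S]
    [Algebra S R] [Algebra A R] [IsScalarTower A S R] [Module.FaithfullyFlat S R]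
    [AddCommGroup N] [Module A N]
    (hsurj : Function.Surjective (algebraMap A S))
    (hkill : ∀ a : A, algebraMap A S a = 0 → ∀ n : N, a • n = 0) (n : N)
    (h : (1 : R) ⊗ₜ[A] n = 0) : n = 0 := by
  -- step 3
  have h3 : (1 : R) ⊗ₜ[S] ((1 : S) ⊗ₜ[A] n) = 0 := by
    have h' := congrArg (TensorProduct.AlgebraTensorModule.cancelBaseChange A S R R N).symm h
    rwa [TensorProduct.AlgebraTensorModule.cancelBaseChange_symm_tmul, map_zero] at h'
  -- step 2
  have h2 : (1 : S) ⊗ₜ[A] n = 0 := by
    apply Module.FaithfullyFlat.tensorProduct_mk_injective (A := S) (B := R) (S ⊗[A] N)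
    rw [TensorProduct.mk_apply, map_zero]
    exact h3
  -- step 1: a left inverse of `n ↦ 1 ⊗ n`
  have hsurj' : Function.Surjective (Algebra.ofId A S) := hsurj
  let e : (A ⧸ RingHom.ker (Algebra.ofId A S)) ≃ₐ[A] S :=
    Ideal.quotientKerAlgEquivOfSurjective hsurj'
  have hle : (RingHom.ker (Algebra.ofId A S)).restrictScalars A ≤
      LinearMap.ker (LinearMap.lsmul A N) := by
    intro a ha
    rw [LinearMap.mem_ker]
    ext m
    exact hkill a ha m
  let β₀ : (A ⧸ RingHom.ker (Algebra.ofId A S)) →ₗ[A] (N →ₗ[A] N) :=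
    Submodule.liftQ _ (LinearMap.lsmul A N) hle
  let β : S →ₗ[A] (N →ₗ[A] N) := β₀.comp e.symm.toLinearMap
  let ρ : S ⊗[A] N →ₗ[A] N := TensorProduct.lift β
  have hρ : ρ ((1 : S) ⊗ₜ[A] n) = n := by
    show β 1 n = n
    show β₀ (e.symm 1) n = n
    have h1 : e.symm (1 : S) = 1 := map_one e.symm
    rw [h1]
    show (LinearMap.lsmul A N) 1 n = n
    rw [LinearMap.lsmul_apply, one_smul]
  rw [← hρ, h2, map_zero]

/-- the version for `Dieu.BC` -/
theorem tmul_one_eq_zero {A S R N : Type*} [CommRing A] [CommRing S] [CommRing R]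
    [Algebra S R] [Module.FaithfullyFlat S R] [AddCommGroup N] [Module A N]
    (π : A →+* S) (hπ : Function.Surjective π) (g' : A →+* R)
    (hg' : ∀ a, g' a = algebraMap S R (π a))
    (hkill : ∀ a, π a = 0 → ∀ n : N, a • n = 0) (n : N)
    (h : Dieu.BC.tmul g' 1 n = 0) : n = 0 := by
  letI algAS : Algebra A S := π.toAlgebra
  letI algAR : Algebra A R := g'.toAlgebra
  haveI : IsScalarTower A S R := IsScalarTower.of_algebraMap_eq (fun a => hg' a)
  let φ : N →ₛₗ[g'] (R ⊗[A] N) :=
    { toFun := fun m => (1 : R) ⊗ₜ[A] m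
      map_add' := fun x y => TensorProduct.tmul_add _ x y
      map_smul' := fun a x => by
        have e1 : (a • (1 : R)) = g' a • (1 : R) := by
          rw [Algebra.smul_def, smul_eq_mul]; rfl
        calc (1 : R) ⊗ₜ[A] (a • x) = (a • (1 : R)) ⊗ₜ[A] x := (TensorProduct.smul_tmul a 1 x).symm
          _ = (g' a • (1 : R)) ⊗ₜ[A] x := by rw [e1]
          _ = g' a • ((1 : R) ⊗ₜ[A] x) := (TensorProduct.smul_tmul' (g' a) 1 x).symm }
  have h1 := congrArg (Dieu.BC.lift g' φ) h
  rw [Dieu.BC.lift_tmul, one_smul, map_zero] at h1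
  exact inj_of_surj_ff (A := A) (S := S) (R := R) hπ (fun a ha => hkill a ha) n h1

theorem mem_IV_of_coeff_zero (p : ℕ) [Fact p.Prime] (S : Type u) [CommRing S]
    (a : WittVector p S) (ha : a.coeff 0 = 0) : a ∈ W4c1extbt610.IV p S := by
  have : a = WittVector.verschiebung (WittVector.mk p (fun n => a.coeff (n + 1))) := by
    refine WittVector.ext (fun n => ?_)
    cases n with
    | zero => rw [ha, WittVector.verschiebung_coeff_zero]
    | succ n => rw [WittVector.verschiebung_coeff_succ]; rfl
  rw [this]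
  exact W4c1extbt610.verschiebung_mem_IV p S _

theorem main (p : ℕ) [Fact p.Prime]
    (S R : Type u) [CommRing S] [CommRing R] [Algebra S R] [Module.FaithfullyFlat S R]
    (hp : IsNilpotent (p : S))
    (P : Type v) [AddCommGroup P] [Module (WittVector p S) P]
    (D : W4c1extbt610.Display3n p S P)
    (hD : Dieu.IsDisplay D)
    (DR : W4c1extbt610.Display3n p R
      (Dieu.BC (WittVector.map (algebraMap S R) : WittVector p S →+* WittVector p R) P))
    (hDR : Dieu.IsDispBaseChange (algebraMap S R) D DR) (x : P) :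
    x ∈ D.Q ↔ Dieu.BC.ι (WittVector.map (algebraMap S R) : WittVector p S →+* WittVector p R) P x
      ∈ DR.Q := by
  rw [hDR.Q_eq, LinearMap.mem_ker, Dieu.BC.ι_apply, Dieu.bcQuotMap_tmul, map_one]
  constructor
  · intro hx
    have h0 : D.Q.mkQ x = 0 := (Submodule.Quotient.mk_eq_zero D.Q).mpr hx
    rw [h0]
    exact Dieu.BC.tmul_zero _ _
  · intro h
    have hx : D.Q.mkQ x = 0 := by
      refine tmul_one_eq_zero (A := WittVector p S) (S := S) (R := R)
        (WittVector.constantCoeff : WittVector p S →+* S)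
        (fun s => ⟨WittVector.mk p (fun _ => s), rfl⟩)
        ((WittVector.constantCoeff : WittVector p R →+* R).comp
          (WittVector.map (algebraMap S R) : WittVector p S →+* WittVector p R))
        (fun a => rfl) ?_ (D.Q.mkQ x) h
      intro a ha m
      obtain ⟨y, rfl⟩ := D.Q.mkQ_surjective m
      rw [← map_smul]
      refine (Submodule.Quotient.mk_eq_zero D.Q).mpr (D.IV_smul_le ?_)
      exact Submodule.smul_mem_smul (mem_IV_of_coeff_zero p S a ha) Submodule.mem_top
    exact (Submodule.Quotient.mk_eq_zero D.Q).mp hx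

end Groth.Agent.Lib.DispBCH4
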