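import Mathlib
import Groth.Prelude.Def_Disp2

/-! General facts on the scalar extension `B ⊗_{g,A} P` (helper1): functoriality, base change of
semilinear maps, coordinates with respect to a retraction of a free module, finiteness and
projectivity. -/

set_option autoImplicit false
universe u v w

namespace Groth.Agent.Lib.DispBCx

open Dieu

section General

variable {A B : Type u} [CommRing A] [CommRing B] (g : A →+* B)
variable {P : Type v} [AddCommGroup P] [Module A P]
variable {P' : Type v} [AddCommGroup P'] [Module A P']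

lemma map_comp_apply {P'' : Type v} [AddCommGroup P''] [Module A P'']
    (a : P' →ₗ[A] P'') (b : P →ₗ[A] P') (z : BC g P) :
    BC.map g (a ∘ₗ b) z = BC.map g a (BC.map g b z) := by
  induction z using BC.induction_on g with
  | zero => simp only [map_zero]
  | tmul w x => rw [BC.map_tmul, BC.map_tmul, BC.map_tmul, LinearMap.comp_apply]
  | add z₁ z₂ h₁ h₂ => simp only [map_add, h₁, h₂]

lemma map_id_apply (z : BC g P) : BC.map g (LinearMap.id : P →ₗ[A] P) z = z := by
  induction z using BC.induction_on g with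
  | zero => simp only [map_zero]
  | tmul w x => rw [BC.map_tmul, LinearMap.id_apply]
  | add z₁ z₂ h₁ h₂ => simp only [map_add, h₁, h₂]

lemma map_add_apply (a b : P →ₗ[A] P') (z : BC g P) :
    BC.map g (a + b) z = BC.map g a z + BC.map g b z := by
  induction z using BC.induction_on g with
  | zero => simp only [map_zero, add_zero]
  | tmul w x => rw [BC.map_tmul, BC.map_tmul, BC.map_tmul, LinearMap.add_apply, BC.tmul_add]
  | add z₁ z₂ h₁ h₂ =>
    simp only [map_add, h₁, h₂]
    abel

lemma map_zero_apply (z : BC g P) : BC.map g (0 : P →ₗ[A] P') z = 0 := by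
  induction z using BC.induction_on g with
  | zero => simp only [map_zero]
  | tmul w x => rw [BC.map_tmul, LinearMap.zero_apply, BC.tmul_zero]
  | add z₁ z₂ h₁ h₂ => simp only [map_add, h₁, h₂, add_zero]

lemma tmul_sum {ι : Type*} (s : Finset ι) (w : B) (x : ι → P) :
    BC.tmul g w (∑ i ∈ s, x i) = ∑ i ∈ s, BC.tmul g w (x i) := by
  rw [BC.tmul_eq_smul_tmul_one g w, ← BC.ι_apply, map_sum, Finset.smul_sum]
  exact Finset.sum_congr rfl fun i _ => by rw [BC.ι_apply, ← BC.tmul_eq_smul_tmul_one]

/-- `x ↦ 1 ⊗ φ x`, semilinear along `g ∘ k` -/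
noncomputable def iotaComp {k : A →+* A} (φ : P →ₛₗ[k] P') : P →ₛₗ[g.comp k] BC g P' where
  toFun x := BC.tmul g 1 (φ x)
  map_add' x y := by rw [map_add, BC.tmul_add]
  map_smul' a x := by
    show BC.tmul g 1 (φ (a • x)) = g (k a) • BC.tmul g 1 (φ x)
    rw [φ.map_smulₛₗ, ← BC.tmul_apply_eq g (k a) (φ x), BC.tmul_eq_smul_tmul_one g (g (k a))]

lemma iotaComp_apply {k : A →+* A} (φ : P →ₛₗ[k] P') (x : P) :
    iotaComp g φ x = BC.tmul g 1 (φ x) := rfl

/-- base change of a `k`-semilinear map to a `kR`-semilinear map: `w ⊗ x ↦ kR w ⊗ φ x` -/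
noncomputable def semiBC {k : A →+* A} {kR : B →+* B} (hk : kR.comp g = g.comp k)
    (φ : P →ₛₗ[k] P') : BC g P →ₛₗ[kR] BC g P' :=
  ((BC.lift (g.comp k) (iotaComp g φ)).comp (BC.castHom hk)).comp (BC.push g kR)

lemma semiBC_tmul {k : A →+* A} {kR : B →+* B} (hk : kR.comp g = g.comp k)
    (φ : P →ₛₗ[k] P') (w : B) (x : P) :
    semiBC g hk φ (BC.tmul g w x) = BC.tmul g (kR w) (φ x) := by
  rw [semiBC, LinearMap.comp_apply, LinearMap.comp_apply, BC.push_tmul, BC.castHom_tmul,
    BC.lift_tmul, iotaComp_apply, BC.smul_tmul, mul_one]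

/-- two semilinear maps out of `B ⊗ P` agreeing on pure tensors are equal -/
lemma semilinear_ext {kR : B →+* B} {N : Type w} [AddCommGroup N] [Module B N]
    (φ ψ : BC g P →ₛₗ[kR] N) (h : ∀ w x, φ (BC.tmul g w x) = ψ (BC.tmul g w x)) : φ = ψ := by
  apply LinearMap.ext
  intro z
  induction z using BC.induction_on g with
  | zero => simp only [map_zero]
  | tmul w x => exact h w x
  | add z₁ z₂ h₁ h₂ => simp only [map_add, h₁, h₂]

variable {n : ℕ} (f : (Fin n → A) →ₗ[A] P) (s : P →ₗ[A] (Fin n → A))

/-- the standard basis vector -/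
def bv (i : Fin n) : Fin n → A := fun j => if i = j then 1 else 0

/-- semilinear coordinates -/
noncomputable def coordSemi : P →ₛₗ[g] (Fin n → B) where
  toFun x := fun i => g (s x i)
  map_add' x y := by
    funext i
    simp only [map_add, Pi.add_apply]
  map_smul' a x := by
    funext i
    simp only [map_smul, Pi.smul_apply, smul_eq_mul, map_mul]

/-- coordinates on `B ⊗ P` -/
noncomputable def coord : BC g P →ₗ[B] (Fin n → B) := BC.lift g (coordSemi g s)

lemma coord_tmul (w : B) (x : P) (i : Fin n) :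
    coord g s (BC.tmul g w x) i = w * g (s x i) := by
  rw [coord, BC.lift_tmul]
  rfl

/-- `b ↦ Σ b_i • (1 ⊗ f δ_i)` -/
noncomputable def recon : (Fin n → B) →ₗ[B] BC g P where
  toFun b := ∑ i, b i • BC.tmul g 1 (f (bv i))
  map_add' b b' := by simp only [Pi.add_apply, add_smul, Finset.sum_add_distrib]
  map_smul' c b := by
    simp only [Pi.smul_apply, smul_eq_mul, mul_smul, Finset.smul_sum, RingHom.id_apply]

lemma recon_apply (b : Fin n → B) :
    recon g f b = ∑ i, b i • BC.tmul g 1 (f (bv i)) := rfl

lemma eq_sum_of_comp_eq_id (hfs : f ∘ₗ s = LinearMap.id) (x : P) :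
    x = ∑ i, s x i • f (bv i) := by
  have h1 : f (s x) = x := LinearMap.congr_fun hfs x
  have h2 := LinearMap.pi_apply_eq_sum_univ f (s x)
  rw [h1] at h2
  exact h2

lemma recon_coord (hfs : f ∘ₗ s = LinearMap.id) (z : BC g P) :
    recon g f (coord g s z) = z := by
  induction z using BC.induction_on g with
  | zero => rw [map_zero, map_zero]
  | tmul w x =>
    have hR : BC.tmul g w x = ∑ i, (w * g (s x i)) • BC.tmul g 1 (f (bv i)) := by
      conv_lhs => rw [eq_sum_of_comp_eq_id f s hfs x]
      rw [BC.tmul_eq_smul_tmul_one g w, ← BC.ι_apply, map_sum, Finset.smul_sum]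
      refine Finset.sum_congr rfl fun i _ => ?_
      rw [LinearMap.map_smulₛₗ, BC.ι_apply, mul_smul]
    rw [recon_apply]
    conv_rhs => rw [hR]
    exact Finset.sum_congr rfl fun i _ => by rw [coord_tmul]
  | add z₁ z₂ h₁ h₂ => rw [map_add, map_add, h₁, h₂]

theorem projective_BC [Module.Finite A P] [Module.Projective A P] :
    Module.Projective B (BC g P) := by
  obtain ⟨n, f, s, -, -, hfs⟩ := Module.Finite.exists_comp_eq_id_of_projective A P
  exact Module.Projective.of_split (coord g s) (recon g f)
    (LinearMap.ext (recon_coord g f s hfs))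

theorem finite_BC [Module.Finite A P] [Module.Projective A P] : Module.Finite B (BC g P) := by
  obtain ⟨n, f, s, -, -, hfs⟩ := Module.Finite.exists_comp_eq_id_of_projective A P
  exact Module.Finite.of_surjective (recon g f)
    (fun z => ⟨coord g s z, recon_coord g f s hfs z⟩)

end General

end Groth.Agent.Lib.DispBCx
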