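import Mathlib
import Groth.Prelude.Def_Disp2
import Groth.Agent.Lib.DispBCx1_helper1
import Groth.Agent.Lib.DispBC_helper1
import Groth.Agent.Lib.WittTop_helper1
import Groth.Agent.Lib.DispNormal_helper1

/-! Existence and uniqueness of the base change of a 3n-display along a ring map (helper1;
S16538). -/

set_option autoImplicit false
universe u v

namespace Groth.Agent.Lib.DispBCx

open Dieu W4c1extbt610 WittVector Groth.Agent.Lib.DispNormal

variable {p : ℕ} [Fact p.Prime]

section IVfacts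

variable {R : Type u} [CommRing R]

lemma mem_IV_iff (a : WittVector p R) : a ∈ IV p R ↔ a.coeff 0 = 0 := by
  constructor
  · intro h
    obtain ⟨u, rfl⟩ := exists_eq_verschiebung_of_mem_IV a h
    exact verschiebung_coeff_zero u
  · intro h
    obtain ⟨y, rfl⟩ := Groth.Agent.Lib.WittTop.eq_V_of_coeff_zero p R a h
    exact verschiebung_mem_IV p R y

lemma shift_verschiebung (u : WittVector p R) : (verschiebung u).shift 1 = u := by
  ext k
  rw [shift_coeff, add_comm, verschiebung_coeff_add_one]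

lemma shift_zero : (0 : WittVector p R).shift 1 = 0 := by
  have h := shift_verschiebung (0 : WittVector p R)
  rwa [map_zero] at h

lemma shift_add_of_mem {a a' : WittVector p R} (ha : a ∈ IV p R) (ha' : a' ∈ IV p R) :
    (a + a').shift 1 = a.shift 1 + a'.shift 1 := by
  obtain ⟨u, rfl⟩ := exists_eq_verschiebung_of_mem_IV a ha
  obtain ⟨u', rfl⟩ := exists_eq_verschiebung_of_mem_IV a' ha'
  rw [← map_add, shift_verschiebung, shift_verschiebung, shift_verschiebung]

lemma shift_mul_of_mem (c : WittVector p R) {a : WittVector p R} (ha : a ∈ IV p R) :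
    (c * a).shift 1 = frobenius c * a.shift 1 := by
  obtain ⟨u, rfl⟩ := exists_eq_verschiebung_of_mem_IV a ha
  rw [mul_comm, ← verschiebung_mul_frobenius, shift_verschiebung, shift_verschiebung, mul_comm]

end IVfacts

variable {S R : Type u} [CommRing S] [CommRing R]
variable {P : Type v} [AddCommGroup P] [Module (WittVector p S) P]

lemma F_eq_p_smul_Vinv (D : Display3n p S P) (y : D.Q) :
    D.F (y : P) = (p : WittVector p S) • D.Vinv y := by
  have h1 := D.Vinv_verschiebung_smul 1 (y : P)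
  have h2 : (⟨verschiebung (1 : WittVector p S) • (y : P),
      D.IV_smul_le (Submodule.smul_mem_smul (verschiebung_mem_IV p S 1) Submodule.mem_top)⟩ : D.Q) =
      verschiebung (1 : WittVector p S) • y := Subtype.ext rfl
  rw [h2, LinearMap.map_smulₛₗ, frobenius_verschiebung, one_mul, one_smul] at h1
  exact h1.symm

lemma display3n_ext {M : Type v} [AddCommGroup M] [Module (WittVector p R) M]
    (D₁ D₂ : Display3n p R M) (hQ : D₁.Q = D₂.Q) (hF : D₁.F = D₂.F)
    (hV : ∀ (z : M) (h₁ : z ∈ D₁.Q) (h₂ : z ∈ D₂.Q), D₁.Vinv ⟨z, h₁⟩ = D₂.Vinv ⟨z, h₂⟩) :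
    D₁ = D₂ := by
  obtain ⟨Q₁, F₁, V₁, fin₁, proj₁, iv₁, en₁, sp₁, vv₁⟩ := D₁
  obtain ⟨Q₂, F₂, V₂, fin₂, proj₂, iv₂, en₂, sp₂, vv₂⟩ := D₂
  simp only at hQ hF hV
  subst hQ
  subst hF
  have h : V₁ = V₂ := LinearMap.ext fun z => hV z.1 z.2 z.2
  subst h
  rfl

/-- a normal decomposition together with a presentation of `P` as a retract of a free module -/
structure NData (D : Display3n p S P) where
  L : Submodule (WittVector p S) P
  T : Submodule (WittVector p S) P
  hLT : IsCompl L T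
  hQ : D.Q = L ⊔ IV p S • T
  n : ℕ
  fr : (Fin n → WittVector p S) →ₗ[WittVector p S] P
  sr : P →ₗ[WittVector p S] (Fin n → WittVector p S)
  hfs : fr ∘ₗ sr = LinearMap.id

lemma exists_NData (D : Display3n p S P) : Nonempty (NData D) := by
  obtain ⟨L, T, hLT, hQ⟩ := D.exists_normal
  haveI := D.finite
  haveI := D.projective
  obtain ⟨n, fr, sr, -, -, hfs⟩ :=
    Module.Finite.exists_comp_eq_id_of_projective (WittVector p S) P
  exact ⟨⟨L, T, hLT, hQ, n, fr, sr, hfs⟩⟩

/-- `W(f)` -/
noncomputable abbrev gW (p : ℕ) [Fact p.Prime] {S R : Type u} [CommRing S] [CommRing R]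
    (f : S →+* R) : WittVector p S →+* WittVector p R := WittVector.map f

/-- the submodule `Q_R` -/
noncomputable def QR (f : S →+* R) (D : Display3n p S P) :
    Submodule (WittVector p R) (BC (gW p f) P) :=
  LinearMap.ker (bcQuotMap f D.Q)

lemma mem_QR (f : S →+* R) (D : Display3n p S P) (z : BC (gW p f) P) :
    z ∈ QR f D ↔ bcQuotMap f D.Q z = 0 := LinearMap.mem_ker

lemma tmul_mem_QR (f : S →+* R) {D : Display3n p S P} (w : WittVector p R) {y : P}
    (hy : y ∈ D.Q) : BC.tmul (gW p f) w y ∈ QR f D := by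
  have h0 : D.Q.mkQ y = 0 := LinearMap.mem_ker.1 (by rw [Submodule.ker_mkQ]; exact hy)
  rw [mem_QR, bcQuotMap_tmul, h0]
  exact BC.tmul_zero _ _

lemma smul_mem_QR (f : S →+* R) {D : Display3n p S P} {a : WittVector p R} (ha : a ∈ IV p R)
    (z : BC (gW p f) P) : a • z ∈ QR f D := by
  rw [mem_QR, LinearMap.map_smulₛₗ]
  have h : (constantCoeff : WittVector p R →+* R) a = 0 := (mem_IV_iff a).1 ha
  rw [h, zero_smul]

lemma hk (f : S →+* R) :
    (WittVector.frobenius : WittVector p R →+* WittVector p R).comp (gW p f) =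
      (gW p f).comp (WittVector.frobenius : WittVector p S →+* WittVector p S) :=
  (Groth.Agent.Lib.DispBC.frob_comm f).symm

/-- generators of `Q_R` -/
def GenSet (f : S →+* R) (D : Display3n p S P) : Set (BC (gW p f) P) :=
  {z | (∃ (w : WittVector p R) (y : P), y ∈ D.Q ∧ z = BC.tmul (gW p f) w y) ∨
    (∃ (u : WittVector p R) (x : P), z = BC.tmul (gW p f) (verschiebung u) x)}

lemma GenSet_subset (f : S →+* R) (D : Display3n p S P) :
    GenSet f D ⊆ (QR f D : Set (BC (gW p f) P)) := by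
  rintro z (⟨w, y, hy, rfl⟩ | ⟨u, x, rfl⟩)
  · exact tmul_mem_QR f w hy
  · rw [BC.tmul_eq_smul_tmul_one]
    exact smul_mem_QR f (verschiebung_mem_IV p R u) _

namespace NData

variable {D : Display3n p S P} (N : NData D)

/-- projection onto `L` -/
noncomputable def prL : P →ₗ[WittVector p S] P := N.L.projection N.T N.hLT

/-- projection onto `T` -/
noncomputable def prT : P →ₗ[WittVector p S] P := N.T.projection N.L N.hLT.symm

lemma prL_mem (x : P) : N.prL x ∈ N.L := Submodule.projection_apply_mem _ x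
lemma prT_mem (x : P) : N.prT x ∈ N.T := Submodule.projection_apply_mem _ x
lemma prL_add_prT (x : P) : N.prL x + N.prT x = x :=
  Submodule.projection_add_projection_eq_self N.hLT x
lemma prT_of_mem_L {x : P} (hx : x ∈ N.L) : N.prT x = 0 :=
  Submodule.projection_apply_of_mem_right N.hLT.symm hx
lemma prT_of_mem_T {x : P} (hx : x ∈ N.T) : N.prT x = x :=
  Submodule.projection_apply_of_mem_left N.hLT.symm hx
lemma prL_of_mem_L {x : P} (hx : x ∈ N.L) : N.prL x = x :=
  Submodule.projection_apply_of_mem_left N.hLT hx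
lemma prL_of_mem_T {x : P} (hx : x ∈ N.T) : N.prL x = 0 :=
  Submodule.projection_apply_of_mem_right N.hLT hx
lemma prT_prT (x : P) : N.prT (N.prT x) = N.prT x := N.prT_of_mem_T (N.prT_mem x)
lemma prL_prL (x : P) : N.prL (N.prL x) = N.prL x := N.prL_of_mem_L (N.prL_mem x)
lemma prL_prT (x : P) : N.prL (N.prT x) = 0 := N.prL_of_mem_T (N.prT_mem x)
lemma L_le : N.L ≤ D.Q := by rw [N.hQ]; exact le_sup_left
lemma IT_le : IV p S • N.T ≤ D.Q := by rw [N.hQ]; exact le_sup_right

lemma prT_mem_IT {y : P} (hy : y ∈ D.Q) : N.prT y ∈ IV p S • N.T := by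
  rw [N.hQ] at hy
  obtain ⟨l, hl, b, hb, rfl⟩ := Submodule.mem_sup.1 hy
  rw [map_add, N.prT_of_mem_L hl, zero_add, N.prT_of_mem_T (Submodule.smul_le_right hb)]
  exact hb

lemma prT_mem_Q {y : P} (hy : y ∈ D.Q) : N.prT y ∈ D.Q := N.IT_le (N.prT_mem_IT hy)
lemma prL_mem_Q (x : P) : N.prL x ∈ D.Q := N.L_le (N.prL_mem x)

lemma sr_mem_IV {b : P} (hb : b ∈ IV p S • N.T) (i : Fin N.n) : N.sr b i ∈ IV p S := by
  refine Submodule.smul_induction_on hb (fun a ha t _ => ?_) (fun x y hx hy => ?_)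
  · rw [map_smul, Pi.smul_apply, smul_eq_mul]
    exact Ideal.mul_mem_right _ _ ha
  · rw [map_add, Pi.add_apply]
    exact Ideal.add_mem _ hx hy

variable (f : S →+* R)

/-- auxiliary semilinear functional `x ↦ w₀(W(f)(i-th coordinate of pr_T x))` -/
noncomputable def chiPre (i : Fin N.n) :
    P →ₛₗ[(constantCoeff : WittVector p R →+* R).comp (gW p f)] R where
  toFun x := constantCoeff (gW p f (N.sr (N.prT x) i))
  map_add' x y := by simp only [map_add, Pi.add_apply]
  map_smul' a x := by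
    simp only [map_smul, Pi.smul_apply, smul_eq_mul, map_mul, RingHom.comp_apply]

lemma chiPre_ker (i : Fin N.n) : D.Q ≤ LinearMap.ker (N.chiPre f i) := by
  intro y hy
  rw [LinearMap.mem_ker]
  show constantCoeff (gW p f (N.sr (N.prT y) i)) = 0
  obtain ⟨u, hu⟩ := exists_eq_verschiebung_of_mem_IV _ (N.sr_mem_IV (N.prT_mem_IT hy) i)
  rw [hu, WittVector.map_verschiebung]
  show (verschiebung (WittVector.map f u)).coeff 0 = 0
  exact verschiebung_coeff_zero (WittVector.map f u)

/-- the functional on `P/Q` -/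
noncomputable def chi (i : Fin N.n) :
    (P ⧸ D.Q) →ₛₗ[(constantCoeff : WittVector p R →+* R).comp (gW p f)] R :=
  D.Q.liftQ (N.chiPre f i) (N.chiPre_ker f i)

lemma chi_bcQuotMap (i : Fin N.n) (z : BC (gW p f) P) :
    BC.lift ((constantCoeff : WittVector p R →+* R).comp (gW p f)) (N.chi f i)
        (bcQuotMap f D.Q z) =
      constantCoeff (coord (gW p f) N.sr (BC.map (gW p f) N.prT z) i) := by
  induction z using BC.induction_on (gW p f) with
  | zero => simp only [map_zero, Pi.zero_apply]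
  | tmul w x =>
    rw [bcQuotMap_tmul, BC.lift_tmul, BC.map_tmul, coord_tmul, map_mul, smul_eq_mul]
    rfl
  | add z₁ z₂ h₁ h₂ => simp only [map_add, Pi.add_apply, h₁, h₂]

lemma coord_prT_mem_IV {z : BC (gW p f) P} (hz : z ∈ QR f D) (i : Fin N.n) :
    coord (gW p f) N.sr (BC.map (gW p f) N.prT z) i ∈ IV p R := by
  rw [mem_IV_iff]
  have h := N.chi_bcQuotMap f i z
  rw [(mem_QR f D z).1 hz, map_zero] at h
  exact h.symm

lemma prL'_add_prT' (z : BC (gW p f) P) :
    BC.map (gW p f) N.prL z + BC.map (gW p f) N.prT z = z := by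
  rw [← map_add_apply]
  have h : N.prL + N.prT = LinearMap.id := LinearMap.ext (fun x => N.prL_add_prT x)
  rw [h, map_id_apply]

lemma prT'_idem (z : BC (gW p f) P) :
    BC.map (gW p f) N.prT (BC.map (gW p f) N.prT z) = BC.map (gW p f) N.prT z := by
  rw [← map_comp_apply]
  have h : N.prT ∘ₗ N.prT = N.prT := LinearMap.ext (fun x => N.prT_prT x)
  rw [h]

lemma prL'_idem (z : BC (gW p f) P) :
    BC.map (gW p f) N.prL (BC.map (gW p f) N.prL z) = BC.map (gW p f) N.prL z := by
  rw [← map_comp_apply]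
  have h : N.prL ∘ₗ N.prL = N.prL := LinearMap.ext (fun x => N.prL_prL x)
  rw [h]

lemma prL'_prT' (z : BC (gW p f) P) :
    BC.map (gW p f) N.prL (BC.map (gW p f) N.prT z) = 0 := by
  rw [← map_comp_apply]
  have h : N.prL ∘ₗ N.prT = 0 := LinearMap.ext (fun x => N.prL_prT x)
  rw [h, map_zero_apply]

lemma prT'_eq_sum (z : BC (gW p f) P) :
    BC.map (gW p f) N.prT z = ∑ i, coord (gW p f) N.sr (BC.map (gW p f) N.prT z) i •
      BC.tmul (gW p f) 1 (N.prT (N.fr (bv i))) := by
  have h1 := recon_coord (gW p f) N.fr N.sr N.hfs (BC.map (gW p f) N.prT z)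
  rw [recon_apply] at h1
  have h2 := congrArg (BC.map (gW p f) N.prT) h1
  rw [N.prT'_idem f, map_sum] at h2
  refine h2.symm.trans ?_
  refine Finset.sum_congr rfl fun i _ => ?_
  rw [map_smul, BC.map_tmul]

lemma prL'_mem_QR (z : BC (gW p f) P) : BC.map (gW p f) N.prL z ∈ QR f D := by
  induction z using BC.induction_on (gW p f) with
  | zero => rw [map_zero]; exact Submodule.zero_mem _
  | tmul w x => rw [BC.map_tmul]; exact tmul_mem_QR f w (N.prL_mem_Q x)
  | add z₁ z₂ h₁ h₂ => rw [map_add]; exact Submodule.add_mem _ h₁ h₂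

lemma prL'_mem_span (z : BC (gW p f) P) :
    BC.map (gW p f) N.prL z ∈ Submodule.span (WittVector p R) (GenSet f D) := by
  induction z using BC.induction_on (gW p f) with
  | zero => rw [map_zero]; exact Submodule.zero_mem _
  | tmul w x =>
    rw [BC.map_tmul]
    exact Submodule.subset_span (Or.inl ⟨w, N.prL x, N.prL_mem_Q x, rfl⟩)
  | add z₁ z₂ h₁ h₂ => rw [map_add]; exact Submodule.add_mem _ h₁ h₂

include N in
lemma QR_le_span : QR f D ≤ Submodule.span (WittVector p R) (GenSet f D) := by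
  intro z hz
  rw [← N.prL'_add_prT' f z]
  refine Submodule.add_mem _ (N.prL'_mem_span f z) ?_
  rw [N.prT'_eq_sum f z]
  refine Submodule.sum_mem _ fun i _ => ?_
  obtain ⟨u, hu⟩ := exists_eq_verschiebung_of_mem_IV _ (N.coord_prT_mem_IV f hz i)
  rw [hu, BC.smul_tmul, mul_one]
  exact Submodule.subset_span (Or.inr ⟨u, _, rfl⟩)

lemma isCompl_ranges :
    IsCompl (LinearMap.range (BC.map (gW p f) N.prL))
      (LinearMap.range (BC.map (gW p f) N.prT)) := by
  constructor
  · rw [Submodule.disjoint_def]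
    rintro x ⟨a, rfl⟩ ⟨b, hb⟩
    have h1 := congrArg (BC.map (gW p f) N.prL) hb
    rw [N.prL'_prT' f, N.prL'_idem f] at h1
    exact h1.symm
  · rw [codisjoint_iff, eq_top_iff]
    intro z _
    rw [← N.prL'_add_prT' f z]
    exact Submodule.add_mem_sup (LinearMap.mem_range_self _ z) (LinearMap.mem_range_self _ z)

lemma QR_eq : QR f D = LinearMap.range (BC.map (gW p f) N.prL) ⊔
    IV p R • LinearMap.range (BC.map (gW p f) N.prT) := by
  apply le_antisymm
  · intro z hz
    rw [← N.prL'_add_prT' f z]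
    refine Submodule.add_mem_sup (LinearMap.mem_range_self _ z) ?_
    rw [N.prT'_eq_sum f z]
    refine Submodule.sum_mem _ fun i _ => ?_
    refine Submodule.smul_mem_smul (N.coord_prT_mem_IV f hz i) ?_
    exact ⟨BC.tmul (gW p f) 1 (N.fr (bv i)), BC.map_tmul _ _ _ _⟩
  · refine sup_le ?_ ?_
    · rintro _ ⟨z, rfl⟩
      exact N.prL'_mem_QR f z
    · rw [Submodule.smul_le]
      intro a ha z _
      exact smul_mem_QR f ha z

/-- `V⁻¹ ∘ pr_L` -/
noncomputable def Vsemi :
    P →ₛₗ[(WittVector.frobenius : WittVector p S →+* WittVector p S)] P :=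
  D.Vinv.comp ((Submodule.inclusion N.L_le).comp (N.L.projectionOnto N.T N.hLT))

lemma Vsemi_apply (x : P) : N.Vsemi x = D.Vinv ⟨N.prL x, N.prL_mem_Q x⟩ := rfl

/-- the operator `V_R⁻¹` as a function on all of `P_R` -/
noncomputable def VinvFun (z : BC (gW p f) P) : BC (gW p f) P :=
  semiBC (gW p f) (hk f) N.Vsemi z +
    ∑ i, (coord (gW p f) N.sr (BC.map (gW p f) N.prT z) i).shift 1 •
      BC.tmul (gW p f) 1 (D.F (N.fr (bv i)))

lemma VinvFun_add {z z' : BC (gW p f) P} (hz : z ∈ QR f D) (hz' : z' ∈ QR f D) :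
    N.VinvFun f (z + z') = N.VinvFun f z + N.VinvFun f z' := by
  unfold VinvFun
  have h : ∀ i, (coord (gW p f) N.sr (BC.map (gW p f) N.prT (z + z')) i).shift 1 =
      (coord (gW p f) N.sr (BC.map (gW p f) N.prT z) i).shift 1 +
        (coord (gW p f) N.sr (BC.map (gW p f) N.prT z') i).shift 1 := by
    intro i
    rw [map_add, map_add, Pi.add_apply]
    exact shift_add_of_mem (N.coord_prT_mem_IV f hz i) (N.coord_prT_mem_IV f hz' i)
  have hs : ∑ i, (coord (gW p f) N.sr (BC.map (gW p f) N.prT (z + z')) i).shift 1 •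
      BC.tmul (gW p f) 1 (D.F (N.fr (bv i))) =
      ∑ i, (coord (gW p f) N.sr (BC.map (gW p f) N.prT z) i).shift 1 •
        BC.tmul (gW p f) 1 (D.F (N.fr (bv i))) +
      ∑ i, (coord (gW p f) N.sr (BC.map (gW p f) N.prT z') i).shift 1 •
        BC.tmul (gW p f) 1 (D.F (N.fr (bv i))) := by
    rw [← Finset.sum_add_distrib]
    exact Finset.sum_congr rfl fun i _ => by rw [h i, add_smul]
  rw [hs, map_add]
  abel

lemma VinvFun_smul (c : WittVector p R) {z : BC (gW p f) P} (hz : z ∈ QR f D) :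
    N.VinvFun f (c • z) = frobenius c • N.VinvFun f z := by
  unfold VinvFun
  have h : ∀ i, (coord (gW p f) N.sr (BC.map (gW p f) N.prT (c • z)) i).shift 1 =
      frobenius c * (coord (gW p f) N.sr (BC.map (gW p f) N.prT z) i).shift 1 := by
    intro i
    rw [map_smul, map_smul, Pi.smul_apply, smul_eq_mul]
    exact shift_mul_of_mem c (N.coord_prT_mem_IV f hz i)
  have hs : ∑ i, (coord (gW p f) N.sr (BC.map (gW p f) N.prT (c • z)) i).shift 1 •
      BC.tmul (gW p f) 1 (D.F (N.fr (bv i))) =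
      frobenius c • ∑ i, (coord (gW p f) N.sr (BC.map (gW p f) N.prT z) i).shift 1 •
        BC.tmul (gW p f) 1 (D.F (N.fr (bv i))) := by
    rw [Finset.smul_sum]
    exact Finset.sum_congr rfl fun i _ => by rw [h i, mul_smul]
  rw [hs, LinearMap.map_smulₛₗ, smul_add]

/-- the operator `V_R⁻¹` -/
noncomputable def VinvR :
    QR f D →ₛₗ[(WittVector.frobenius : WittVector p R →+* WittVector p R)] BC (gW p f) P where
  toFun z := N.VinvFun f z.1
  map_add' z z' := N.VinvFun_add f z.2 z'.2
  map_smul' c z := N.VinvFun_smul f c z.2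

lemma VinvFun_tmul (w : WittVector p R) (y : D.Q) :
    N.VinvFun f (BC.tmul (gW p f) w (y : P)) = BC.tmul (gW p f) (frobenius w) (D.Vinv y) := by
  have hmem : ∀ i, N.sr (N.prT (y : P)) i ∈ IV p S := fun i => N.sr_mem_IV (N.prT_mem_IT y.2) i
  choose u hu using fun i => exists_eq_verschiebung_of_mem_IV _ (hmem i)
  have hsum : ∑ i, (coord (gW p f) N.sr (BC.map (gW p f) N.prT (BC.tmul (gW p f) w (y : P))) i).shift 1 •
      BC.tmul (gW p f) 1 (D.F (N.fr (bv i))) =
      BC.tmul (gW p f) (frobenius w) (D.Vinv ⟨N.prT (y : P), N.prT_mem_Q y.2⟩) := by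
    have h1 : ∀ i, (coord (gW p f) N.sr (BC.map (gW p f) N.prT (BC.tmul (gW p f) w (y : P))) i).shift 1 =
        gW p f (u i) * frobenius w := by
      intro i
      rw [BC.map_tmul, coord_tmul, hu i, WittVector.map_verschiebung, mul_comm,
        ← verschiebung_mul_frobenius, shift_verschiebung]
    have h2 : D.Vinv ⟨N.prT (y : P), N.prT_mem_Q y.2⟩ = ∑ i, u i • D.F (N.fr (bv i)) := by
      have h3 : (⟨N.prT (y : P), N.prT_mem_Q y.2⟩ : D.Q) =
          ∑ i, ⟨verschiebung (u i) • N.fr (bv i), D.IV_smul_le (Submodule.smul_mem_smul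
            (verschiebung_mem_IV p S (u i)) Submodule.mem_top)⟩ := by
        apply Subtype.ext
        rw [Submodule.coe_sum]
        show N.prT (y : P) = ∑ i, verschiebung (u i) • N.fr (bv i)
        conv_lhs => rw [eq_sum_of_comp_eq_id N.fr N.sr N.hfs (N.prT (y : P))]
        exact Finset.sum_congr rfl fun i _ => by rw [hu i]
      rw [h3, map_sum]
      exact Finset.sum_congr rfl fun i _ => by rw [D.Vinv_verschiebung_smul]
    rw [h2, tmul_sum]
    refine Finset.sum_congr rfl fun i _ => ?_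
    rw [h1 i, BC.smul_tmul, mul_one, mul_comm, BC.tmul_mul_apply]
  unfold VinvFun
  rw [hsum, semiBC_tmul, N.Vsemi_apply, ← BC.tmul_add, ← map_add]
  have e : (⟨N.prL (y : P), N.prL_mem_Q y⟩ + ⟨N.prT (y : P), N.prT_mem_Q y.2⟩ : D.Q) = y :=
    Subtype.ext (N.prL_add_prT (y : P))
  rw [e]

lemma VinvFun_verschiebung_smul (w : WittVector p R) (z : BC (gW p f) P) :
    N.VinvFun f (verschiebung w • z) = w • semiBC (gW p f) (hk f) D.F z := by
  induction z using BC.induction_on (gW p f) with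
  | zero =>
    rw [smul_zero, map_zero, smul_zero]
    unfold VinvFun
    simp only [map_zero, Pi.zero_apply, shift_zero, zero_smul, Finset.sum_const_zero, add_zero]
  | tmul w' x =>
    rw [BC.smul_tmul, ← verschiebung_mul_frobenius, semiBC_tmul, BC.smul_tmul]
    generalize w * frobenius w' = a
    have hsum : ∑ i, (coord (gW p f) N.sr (BC.map (gW p f) N.prT
        (BC.tmul (gW p f) (verschiebung a) x)) i).shift 1 • BC.tmul (gW p f) 1 (D.F (N.fr (bv i))) =
        BC.tmul (gW p f) a (D.F (N.prT x)) := by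
      have h1 : ∀ i, (coord (gW p f) N.sr (BC.map (gW p f) N.prT
          (BC.tmul (gW p f) (verschiebung a) x)) i).shift 1 =
          a * gW p f (frobenius (N.sr (N.prT x) i)) := by
        intro i
        rw [BC.map_tmul, coord_tmul, ← verschiebung_mul_frobenius, shift_verschiebung,
          ← Groth.Agent.Lib.DispBC.map_frob]
      have h2 : D.F (N.prT x) = ∑ i, frobenius (N.sr (N.prT x) i) • D.F (N.fr (bv i)) := by
        conv_lhs => rw [eq_sum_of_comp_eq_id N.fr N.sr N.hfs (N.prT x)]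
        rw [map_sum]
        exact Finset.sum_congr rfl fun i _ => by rw [LinearMap.map_smulₛₗ]
      rw [h2, tmul_sum]
      refine Finset.sum_congr rfl fun i _ => ?_
      rw [h1 i, BC.smul_tmul, mul_one, BC.tmul_mul_apply]
    unfold VinvFun
    rw [hsum, semiBC_tmul, N.Vsemi_apply, frobenius_verschiebung]
    have h4 : D.F (N.prL x) = (p : WittVector p S) • D.Vinv ⟨N.prL x, N.prL_mem_Q x⟩ :=
      F_eq_p_smul_Vinv D ⟨N.prL x, N.prL_mem_Q x⟩
    have h3 : BC.tmul (gW p f) (a * (p : WittVector p R)) (D.Vinv ⟨N.prL x, N.prL_mem_Q x⟩) =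
        BC.tmul (gW p f) a (D.F (N.prL x)) := by
      rw [h4, ← BC.tmul_mul_apply, map_natCast]
    rw [h3, ← BC.tmul_add, ← map_add, N.prL_add_prT]
  | add z₁ z₂ h₁ h₂ =>
    rw [smul_add, N.VinvFun_add f (smul_mem_QR f (verschiebung_mem_IV p R w) z₁)
      (smul_mem_QR f (verschiebung_mem_IV p R w) z₂), h₁, h₂, map_add, smul_add]

lemma span_range_VinvR :
    Submodule.span (WittVector p R) (Set.range (N.VinvR f)) = ⊤ := by
  rw [eq_top_iff]
  have key : ∀ x : P, BC.tmul (gW p f) 1 x ∈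
      Submodule.span (WittVector p R) (Set.range (N.VinvR f)) := by
    intro x
    have hx : x ∈ Submodule.span (WittVector p S) (Set.range D.Vinv) := by
      rw [D.span_range_Vinv]; exact Submodule.mem_top
    induction hx using Submodule.span_induction with
    | mem x hx =>
      obtain ⟨y, rfl⟩ := hx
      apply Submodule.subset_span
      refine ⟨⟨BC.tmul (gW p f) 1 (y : P), tmul_mem_QR f 1 y.2⟩, ?_⟩
      show N.VinvFun f (BC.tmul (gW p f) 1 (y : P)) = _
      rw [N.VinvFun_tmul f 1 y, map_one]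
    | zero => rw [BC.tmul_zero]; exact Submodule.zero_mem _
    | add x y _ _ hx hy => rw [BC.tmul_add]; exact Submodule.add_mem _ hx hy
    | smul a x _ hx =>
      rw [← BC.tmul_apply_eq, BC.tmul_eq_smul_tmul_one]
      exact Submodule.smul_mem _ _ hx
  intro z hz
  clear hz
  induction z using BC.induction_on (gW p f) with
  | zero => exact Submodule.zero_mem _
  | tmul w x => rw [BC.tmul_eq_smul_tmul_one]; exact Submodule.smul_mem _ _ (key x)
  | add z₁ z₂ h₁ h₂ => exact Submodule.add_mem _ h₁ h₂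

/-- the base change `D_R` -/
noncomputable def DR : Display3n p R (BC (gW p f) P) where
  Q := QR f D
  F := semiBC (gW p f) (hk f) D.F
  Vinv := N.VinvR f
  finite := by
    haveI := D.finite
    haveI := D.projective
    exact finite_BC (gW p f)
  projective := by
    haveI := D.finite
    haveI := D.projective
    exact projective_BC (gW p f)
  IV_smul_le := by
    rw [Submodule.smul_le]
    intro a ha z _
    exact smul_mem_QR f ha z
  exists_normal := ⟨_, _, N.isCompl_ranges f, N.QR_eq f⟩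
  span_range_Vinv := N.span_range_VinvR f
  Vinv_verschiebung_smul := fun w z => N.VinvFun_verschiebung_smul f w z

theorem isDispBaseChange_DR : IsDispBaseChange f D (N.DR f) where
  Q_eq := rfl
  F_tmul w x := semiBC_tmul (gW p f) (hk f) D.F w x
  Vinv_tmul w y _ := N.VinvFun_tmul f w y
  Vinv_verschiebung_tmul w x _ := by
    show N.VinvFun f (BC.tmul (gW p f) (verschiebung w) x) = _
    rw [BC.tmul_eq_smul_tmul_one, N.VinvFun_verschiebung_smul, semiBC_tmul, map_one,
      BC.smul_tmul, mul_one]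

theorem unique_DR (DR' : Display3n p R (BC (gW p f) P))
    (h' : IsDispBaseChange f D DR') : DR' = N.DR f := by
  have h := N.isDispBaseChange_DR f
  have hQ' : DR'.Q = QR f D := h'.Q_eq
  apply display3n_ext
  · rw [h'.Q_eq, h.Q_eq]
  · apply semilinear_ext (gW p f)
    intro w x
    rw [h'.F_tmul, h.F_tmul]
  · intro z h₁ h₂
    have hz : z ∈ QR f D := h₂
    have hspan := N.QR_le_span f hz
    have hle : Submodule.span (WittVector p R) (GenSet f D) ≤ QR f D :=
      Submodule.span_le.2 (GenSet_subset f D)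
    have key : ∀ z, z ∈ Submodule.span (WittVector p R) (GenSet f D) →
        ∀ (h₁ : z ∈ DR'.Q) (h₂ : z ∈ (N.DR f).Q), DR'.Vinv ⟨z, h₁⟩ = (N.DR f).Vinv ⟨z, h₂⟩ := by
      intro z hz
      induction hz using Submodule.span_induction with
      | mem z hz =>
        intro h₁ h₂
        rcases hz with ⟨w, y, hy, rfl⟩ | ⟨u, x, rfl⟩
        · rw [h'.Vinv_tmul w ⟨y, hy⟩ h₁, h.Vinv_tmul w ⟨y, hy⟩ h₂]
        · rw [h'.Vinv_verschiebung_tmul u x h₁, h.Vinv_verschiebung_tmul u x h₂]
      | zero =>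
        intro h₁ h₂
        have e1 : (⟨0, h₁⟩ : DR'.Q) = 0 := rfl
        have e2 : (⟨0, h₂⟩ : (N.DR f).Q) = 0 := rfl
        rw [e1, e2, map_zero, map_zero]
      | add x y hx hy ihx ihy =>
        intro h₁ h₂
        have hx1 : x ∈ DR'.Q := by rw [hQ']; exact hle hx
        have hy1 : y ∈ DR'.Q := by rw [hQ']; exact hle hy
        have hx2 : x ∈ (N.DR f).Q := hle hx
        have hy2 : y ∈ (N.DR f).Q := hle hy
        have e1 : (⟨x + y, h₁⟩ : DR'.Q) = ⟨x, hx1⟩ + ⟨y, hy1⟩ := rfl
        have e2 : (⟨x + y, h₂⟩ : (N.DR f).Q) = ⟨x, hx2⟩ + ⟨y, hy2⟩ := rfl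
        rw [e1, e2, map_add, map_add, ihx hx1 hx2, ihy hy1 hy2]
      | smul a x hx ihx =>
        intro h₁ h₂
        have hx1 : x ∈ DR'.Q := by rw [hQ']; exact hle hx
        have hx2 : x ∈ (N.DR f).Q := hle hx
        have e1 : (⟨a • x, h₁⟩ : DR'.Q) = a • ⟨x, hx1⟩ := rfl
        have e2 : (⟨a • x, h₂⟩ : (N.DR f).Q) = a • ⟨x, hx2⟩ := rfl
        rw [e1, e2, LinearMap.map_smulₛₗ, LinearMap.map_smulₛₗ, ihx hx1 hx2]
    exact key z hspan h₁ h₂

end NData

theorem main16538 (f : S →+* R) (D : Display3n p S P) :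
    ∃! DR : Display3n p R (BC (WittVector.map f : WittVector p S →+* WittVector p R) P),
      IsDispBaseChange f D DR := by
  obtain ⟨N⟩ := exists_NData D
  exact ⟨N.DR f, N.isDispBaseChange_DR f, fun DR' h' => N.unique_DR f DR' h'⟩

end Groth.Agent.Lib.DispBCx
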