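import Mathlib
import Groth.Prelude.Def_Disp2
import Groth.Agent.Lib.DispBCx2_helper1

/-! Faithfully flat descent of homomorphisms of 3n-displays (helper1; S16545). -/

set_option autoImplicit false
universe u v

namespace Groth.Agent.Lib.DispDesc

open Dieu W4c1extbt610 WittVector Groth.Agent.Lib.DispBCx

section General

variable {A B C : Type u} [CommRing A] [CommRing B] [CommRing C]
variable (g : A →+* B) (g₁ : B →+* C) (g₀ : A →+* C) (e : g₁.comp g = g₀)
variable {P : Type v} [AddCommGroup P] [Module A P]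

/-- `u ⊗ (w ⊗ x) ↦ (u * g₁ w) ⊗ x` -/
noncomputable def cmap : BC g₁ (BC g P) →ₗ[C] BC g₀ P :=
  (BC.castHom (P := P) e).comp (BC.lift g₁ (BC.push g g₁))

lemma cmap_tmul_tmul (u : C) (w : B) (x : P) :
    cmap g g₁ g₀ e (BC.tmul g₁ u (BC.tmul g w x)) = BC.tmul g₀ (u * g₁ w) x := by
  rw [cmap, LinearMap.comp_apply, BC.lift_tmul, BC.push_tmul, BC.smul_tmul, BC.castHom_tmul]

variable {n : ℕ} (s : P →ₗ[A] (Fin n → A))

lemma coord_cmap (y : BC g P) (k : Fin n) :
    coord g₀ s (cmap g g₁ g₀ e (BC.tmul g₁ 1 y)) k = g₁ (coord g s y k) := by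
  induction y using BC.induction_on g with
  | zero => simp only [BC.tmul_zero, map_zero, Pi.zero_apply]
  | tmul w x =>
    have h := RingHom.congr_fun e (s x k)
    rw [RingHom.comp_apply] at h
    rw [cmap_tmul_tmul, coord_tmul, coord_tmul, one_mul, map_mul, h]
  | add y₁ y₂ h₁ h₂ => simp only [BC.tmul_add, map_add, Pi.add_apply, h₁, h₂]

lemma tmul_one_injective (f : (Fin n → A) →ₗ[A] P) (hfs : f ∘ₗ s = LinearMap.id)
    (hg : Function.Injective g) : Function.Injective (fun x : P => BC.tmul g 1 x) := by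
  intro x x' h
  have h1 : s x = s x' := by
    funext k
    have h2 := congrArg (fun z => coord g s z k) h
    simp only [coord_tmul, one_mul] at h2
    exact hg h2
  have h3 := LinearMap.congr_fun hfs x
  have h4 := LinearMap.congr_fun hfs x'
  simp only [LinearMap.comp_apply, LinearMap.id_apply] at h3 h4
  rw [← h3, ← h4, h1]

lemma exists_eq_tmul_one (g₂ : B →+* C) (e₂ : g₂.comp g = g₀) (f : (Fin n → A) →ₗ[A] P)
    (hfs : f ∘ₗ s = LinearMap.id) (heq : ∀ b : B, g₁ b = g₂ b → ∃ a : A, g a = b) (y : BC g P)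
    (hy : cmap g g₁ g₀ e (BC.tmul g₁ 1 y) = cmap g g₂ g₀ e₂ (BC.tmul g₂ 1 y)) :
    ∃ x : P, y = BC.tmul g 1 x := by
  have h1 : ∀ k, ∃ a : A, g a = coord g s y k := by
    intro k
    apply heq
    rw [← coord_cmap g g₁ g₀ e s y k, ← coord_cmap g g₂ g₀ e₂ s y k, hy]
  choose a ha using h1
  refine ⟨∑ k, a k • f (bv k), ?_⟩
  have h2 := recon_coord g f s hfs y
  rw [recon_apply] at h2
  refine h2.symm.trans ?_
  rw [tmul_sum]
  refine Finset.sum_congr rfl fun k _ => ?_
  rw [← ha k, ← BC.tmul_apply_eq, BC.tmul_eq_smul_tmul_one g (g (a k))]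

end General

section Witt

variable {p : ℕ} [Fact p.Prime] {S R : Type u} [CommRing S] [CommRing R] [Algebra S R]
  [Module.FaithfullyFlat S R]

lemma witt_eq (w : WittVector p R)
    (h : WittVector.map (Algebra.TensorProduct.includeLeftRingHom : R →+* TensorProduct S R R) w =
      WittVector.map ((Algebra.TensorProduct.includeRight : R →ₐ[S] TensorProduct S R R) :
        R →+* TensorProduct S R R) w) :
    ∃ a : WittVector p S, WittVector.map (algebraMap S R) a = w := by
  have hE := Algebra.IsEffective.eqLocus_includeLeft_includeRight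
    (Algebra.IsEffective.of_faithfullyFlat S R)
  have h1 : ∀ n, ∃ a : S, algebraMap S R a = w.coeff n := by
    intro n
    have h2 := congrArg (fun v => v.coeff n) h
    simp only [WittVector.map_coeff] at h2
    have h3 : w.coeff n ∈ Set.range (algebraMap S R) := by
      rw [← hE]
      exact h2
    exact h3
  choose a ha using h1
  exact ⟨WittVector.mk p a, by ext n; rw [WittVector.map_coeff, WittVector.coeff_mk, ha]⟩

local notation "gA" => (WittVector.map (algebraMap S R) : WittVector p S →+* WittVector p R)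
local notation "g1" => (WittVector.map (Algebra.TensorProduct.includeLeftRingHom : R →+* TensorProduct S R R) : WittVector p R →+* WittVector p (TensorProduct S R R))
local notation "g2" => (WittVector.map ((Algebra.TensorProduct.includeRight : R →ₐ[S] TensorProduct S R R) : R →+* TensorProduct S R R) : WittVector p R →+* WittVector p (TensorProduct S R R))
local notation "g0" => (WittVector.map (algebraMap S (TensorProduct S R R)) : WittVector p S →+* WittVector p (TensorProduct S R R))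

theorem main16545
    (e₁ : RingHom.comp g1 gA = g0) (e₂ : RingHom.comp g2 gA = g0)
    (P P' : Type v) [AddCommGroup P] [Module (WittVector p S) P] [AddCommGroup P']
    [Module (WittVector p S) P']
    (D : Display3n p S P) (D' : Display3n p S P')
    (DR : Display3n p R (BC gA P)) (hDR : IsDispBaseChange (algebraMap S R) D DR)
    (DR' : Display3n p R (BC gA P')) (hDR' : IsDispBaseChange (algebraMap S R) D' DR')
    (χ : BC gA P →ₗ[WittVector p R] BC gA P') (hχ : IsHom DR DR' χ)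
    (hdesc : ∀ (z₁ : BC g1 (BC gA P)) (z₂ : BC g2 (BC gA P)),
      cmap gA g1 g0 e₁ z₁ = cmap gA g2 g0 e₂ z₂ →
        cmap gA g1 g0 e₁ (BC.map g1 χ z₁) = cmap gA g2 g0 e₂ (BC.map g2 χ z₂)) :
    ∃! ψ : P →ₗ[WittVector p S] P', IsHom D D' ψ ∧ BC.map gA ψ = χ := by
  obtain ⟨N'⟩ := exists_NData D'
  have hinj : Function.Injective (algebraMap S R) := FaithfulSMul.algebraMap_injective S R
  have hgA : Function.Injective gA := WittVector.map_injective _ hinj
  have hι' : Function.Injective (fun x : P' => BC.tmul gA 1 x) :=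
    tmul_one_injective gA N'.sr N'.fr N'.hfs hgA
  have hB : ∀ x : P, ∃ x' : P', χ (BC.tmul gA 1 x) = BC.tmul gA 1 x' := by
    intro x
    apply exists_eq_tmul_one gA g1 g0 e₁ N'.sr g2 e₂ N'.fr N'.hfs (fun b hb => witt_eq b hb)
    have h := hdesc (BC.tmul g1 1 (BC.tmul gA 1 x)) (BC.tmul g2 1 (BC.tmul gA 1 x))
      (by rw [cmap_tmul_tmul, cmap_tmul_tmul, map_one, map_one])
    rw [BC.map_tmul, BC.map_tmul] at h
    exact h
  choose ψf hψf using hB
  obtain ⟨ψ, hψ1⟩ : ∃ ψ : P →ₗ[WittVector p S] P',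
      ∀ x, BC.tmul gA 1 (ψ x) = χ (BC.tmul gA 1 x) := by
    refine ⟨{ toFun := ψf, map_add' := fun x y => hι' ?_, map_smul' := fun a x => hι' ?_ },
      fun x => (hψf x).symm⟩
    · show BC.tmul gA 1 (ψf (x + y)) = BC.tmul gA 1 (ψf x + ψf y)
      rw [← hψf (x + y), BC.tmul_add, map_add, hψf x, hψf y, ← BC.tmul_add]
    · show BC.tmul gA 1 (ψf (a • x)) = BC.tmul gA 1 (a • ψf x)
      rw [← hψf (a • x), ← BC.tmul_apply_eq gA a x, BC.tmul_eq_smul_tmul_one gA (gA a) x,
        map_smul, hψf x, ← BC.tmul_eq_smul_tmul_one, BC.tmul_apply_eq]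
  have hmap : BC.map gA ψ = χ := BC.ext gA (fun x => by rw [BC.map_tmul]; exact hψ1 x)
  have hmemQ : ∀ q : P, q ∈ D.Q → BC.tmul gA 1 q ∈ DR.Q := by
    intro q hq
    rw [hDR.Q_eq]
    exact tmul_mem_QR (algebraMap S R) 1 hq
  have hQ' : ∀ y : P', BC.tmul gA 1 y ∈ DR'.Q → y ∈ D'.Q := by
    intro y hy
    rw [hDR'.Q_eq] at hy
    have hy' : BC.tmul (gW p (algebraMap S R)) 1 y ∈ QR (algebraMap S R) D' := hy
    have h1 : ∀ i, N'.sr (N'.prT y) i ∈ IV p S := by
      intro i
      have h2 := N'.coord_prT_mem_IV (algebraMap S R) hy' i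
      rw [BC.map_tmul, coord_tmul, one_mul, mem_IV_iff] at h2
      rw [mem_IV_iff]
      have h3 : (algebraMap S R) ((N'.sr (N'.prT y) i).coeff 0) = 0 := h2
      exact hinj (by rw [h3, map_zero])
    have h4 : N'.prT y ∈ D'.Q := by
      rw [eq_sum_of_comp_eq_id N'.fr N'.sr N'.hfs (N'.prT y)]
      exact Submodule.sum_mem _ fun i _ =>
        D'.IV_smul_le (Submodule.smul_mem_smul (h1 i) Submodule.mem_top)
    have h5 := N'.prL_add_prT y
    rw [← h5]
    exact Submodule.add_mem _ (N'.prL_mem_Q y) h4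
  have hmaps : ∀ q : P, q ∈ D.Q → ψ q ∈ D'.Q := by
    intro q hq
    apply hQ'
    rw [hψ1]
    exact hχ.mapsTo _ (hmemQ q hq)
  have hisHom : IsHom D D' ψ := by
    refine ⟨hmaps, ?_, ?_⟩
    · intro x
      apply hι'
      show BC.tmul gA 1 (ψ (D.F x)) = BC.tmul gA 1 (D'.F (ψ x))
      have e1 := hDR.F_tmul 1 x
      rw [map_one] at e1
      have e2 := hDR'.F_tmul 1 (ψ x)
      rw [map_one] at e2
      rw [hψ1, ← e1, hχ.comm_F, ← hψ1, e2]
    · intro q
      apply hι'
      show BC.tmul gA 1 (ψ (D.Vinv q)) = BC.tmul gA 1 (D'.Vinv ⟨ψ q, hmaps q q.2⟩)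
      have hq1 := hmemQ q q.2
      have e1 := hDR.Vinv_tmul 1 q hq1
      rw [map_one] at e1
      have hq2 : BC.tmul gA 1 (ψ (q : P)) ∈ DR'.Q := by
        rw [hψ1]
        exact hχ.mapsTo _ hq1
      have e2 := hDR'.Vinv_tmul 1 ⟨ψ q, hmaps q q.2⟩ hq2
      rw [map_one] at e2
      have e3 := hχ.comm_Vinv ⟨BC.tmul gA 1 (q : P), hq1⟩
      have e4 : (⟨χ (BC.tmul gA 1 (q : P)), hχ.mapsTo _ hq1⟩ : DR'.Q) =
          ⟨BC.tmul gA 1 (ψ (q : P)), hq2⟩ := Subtype.ext (hψ1 q).symm
      rw [hψ1, ← e1, e3, e4, e2]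
  refine ⟨ψ, ⟨hisHom, hmap⟩, fun ψ₂ h₂ => ?_⟩
  apply LinearMap.ext
  intro x
  apply hι'
  show BC.tmul gA 1 (ψ₂ x) = BC.tmul gA 1 (ψ x)
  rw [hψ1, ← h₂.2, BC.map_tmul]

end Witt

end Groth.Agent.Lib.DispDesc
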