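import Mathlib

/-!
# Lifting homomorphisms commuting with Frobenius-semilinear maps over Witt vectors (helper3)

* `frobenius_iterate_eq_zero`: if `p` is nilpotent in `S` and the kernel `𝔞` of `φ : S → R` is nil of
  bounded exponent, a power of the Witt vector Frobenius kills `W(𝔞) = ker (W(S) → W(R))`.
* `exists_lift`, `lift_unique`: the fixed point argument for `α ↦ U α`.
-/

set_option autoImplicit false
set_option linter.unusedSectionVars false

noncomputable section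

universe u v w z

namespace Groth.Agent.Lib.DispLift_helper3

section Ideals

variable (p : ℕ) [hp : Fact p.Prime] {S : Type u} [CommRing S] (𝔞 : Ideal S)

/-- generators `p ^ i * a ^ (p ^ j)` with `k ≤ i + j`. -/
def gen (k : ℕ) : Set S :=
  {s | ∃ a ∈ 𝔞, ∃ i j : ℕ, k ≤ i + j ∧ s = (p : S) ^ i * a ^ (p ^ j)}

/-- the ideals `𝔟_k`. -/
def bI (k : ℕ) : Ideal S := Ideal.span (gen p 𝔞 k)

lemma le_bI_zero : 𝔞 ≤ bI p 𝔞 0 := by
  intro a ha
  apply Ideal.subset_span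
  exact ⟨a, ha, 0, 0, le_rfl, by simp⟩

lemma p_mul_mem (k : ℕ) {b : S} (hb : b ∈ bI p 𝔞 k) : (p : S) * b ∈ bI p 𝔞 (k + 1) := by
  unfold bI at hb
  induction hb using Submodule.span_induction with
  | mem b hb =>
    obtain ⟨a, ha, i, j, hij, rfl⟩ := hb
    apply Ideal.subset_span
    exact ⟨a, ha, i + 1, j, by omega, by ring⟩
  | zero => rw [mul_zero]; exact Ideal.zero_mem _
  | add x y _ _ hx hy => rw [mul_add]; exact Ideal.add_mem _ hx hy
  | smul s x _ hx =>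
    rw [smul_eq_mul, mul_left_comm]
    exact Ideal.mul_mem_left _ _ hx

lemma pow_p_mem (k : ℕ) {b : S} (hb : b ∈ bI p 𝔞 k) : b ^ p ∈ bI p 𝔞 (k + 1) := by
  have hp0 : p ≠ 0 := hp.out.ne_zero
  have key : b ∈ bI p 𝔞 k ∧ b ^ p ∈ bI p 𝔞 (k + 1) := by
    unfold bI at hb
    induction hb using Submodule.span_induction with
    | mem b hb =>
      refine ⟨Ideal.subset_span hb, ?_⟩
      obtain ⟨a, ha, i, j, hij, rfl⟩ := hb
      apply Ideal.subset_span
      refine ⟨a, ha, i * p, j + 1, ?_, ?_⟩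
      · have : i ≤ i * p := Nat.le_mul_of_pos_right i hp.out.pos
        omega
      · rw [mul_pow, ← pow_mul, ← pow_mul, pow_succ]
    | zero => exact ⟨Ideal.zero_mem _, by rw [zero_pow hp0]; exact Ideal.zero_mem _⟩
    | add x y _ _ hx hy =>
      refine ⟨Ideal.add_mem _ hx.1 hy.1, ?_⟩
      obtain ⟨r, hr⟩ := exists_add_pow_prime_eq hp.out x y
      rw [hr]
      refine Ideal.add_mem _ (Ideal.add_mem _ hx.2 hy.2) ?_
      rw [mul_assoc, mul_assoc]
      exact Ideal.mul_mem_right _ _ (p_mul_mem p 𝔞 k hx.1) |> fun h => by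
        have : (p : S) * (x * (y * r)) = (p : S) * x * (y * r) := by ring
        rw [this]; exact h
    | smul s x _ hx =>
      refine ⟨Ideal.mul_mem_left _ _ hx.1, ?_⟩
      rw [smul_eq_mul, mul_pow]
      exact Ideal.mul_mem_left _ _ hx.2
  exact key.2

lemma bI_eq_bot (e N : ℕ) (he : (p : S) ^ e = 0) (hN : ∀ a ∈ 𝔞, a ^ N = 0) :
    bI p 𝔞 (e + N) = ⊥ := by
  rw [eq_bot_iff]
  unfold bI
  rw [Ideal.span_le]
  rintro s ⟨a, ha, i, j, hij, rfl⟩
  rw [SetLike.mem_coe, Ideal.mem_bot]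
  rcases Nat.lt_or_ge i e with hi | hi
  · have hj : N ≤ j := by omega
    have h1 : N ≤ p ^ j := by
      calc N ≤ j := hj
        _ ≤ p ^ j := (Nat.lt_pow_self hp.out.one_lt).le
    rw [pow_eq_zero_of_le h1 (hN a ha), mul_zero]
  · rw [pow_eq_zero_of_le hi he, zero_mul]

end Ideals

section Witt

variable (p : ℕ) [hp : Fact p.Prime] {S : Type u} [CommRing S]

open MvPolynomial in
lemma constantCoeff_frobeniusPolyAux (n : ℕ) :
    constantCoeff (WittVector.frobeniusPolyAux p n) = 0 := by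
  induction n using Nat.strong_induction_on with
  | _ n ih =>
    rw [WittVector.frobeniusPolyAux_eq, map_sub, constantCoeff_X, map_sum, zero_sub, neg_eq_zero]
    apply Finset.sum_eq_zero
    intro i hi
    rw [map_sum]
    apply Finset.sum_eq_zero
    intro j _
    rw [map_mul, map_mul, map_pow (constantCoeff) (WittVector.frobeniusPolyAux p i),
      ih i (Finset.mem_range.mp hi), zero_pow (Nat.succ_ne_zero j), mul_zero, zero_mul]

open MvPolynomial in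
lemma aeval_mem_of_constantCoeff_eq_zero (𝔟 : Ideal S) (q : MvPolynomial ℕ ℤ)
    (hq : constantCoeff q = 0) (f : ℕ → S) (hf : ∀ i, f i ∈ 𝔟) : aeval f q ∈ 𝔟 := by
  have h1 : q ∈ Ideal.span (MvPolynomial.X '' (Set.univ : Set ℕ) : Set (MvPolynomial ℕ ℤ)) := by
    rw [mem_ideal_span_X_image]
    intro m hm
    have hm0 : m ≠ 0 := by
      rintro rfl
      rw [mem_support_iff] at hm
      exact hm hq
    obtain ⟨i, hi⟩ : ∃ i, m i ≠ 0 := by
      by_contra hcon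
      push_neg at hcon
      exact hm0 (Finsupp.ext hcon)
    exact ⟨i, Set.mem_univ _, hi⟩
  have h2 : Ideal.span (MvPolynomial.X '' (Set.univ : Set ℕ) : Set (MvPolynomial ℕ ℤ)) ≤
      Ideal.comap (aeval f : MvPolynomial ℕ ℤ →ₐ[ℤ] S).toRingHom 𝔟 := by
    rw [Ideal.span_le]
    rintro _ ⟨i, -, rfl⟩
    rw [SetLike.mem_coe, Ideal.mem_comap]
    simp only [AlgHom.toRingHom_eq_coe, RingHom.coe_coe, aeval_X]
    exact hf i
  exact h2 h1

/-- Witt vectors with all coefficients in the ideal `𝔟`. -/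
def WI (𝔟 : Ideal S) : Ideal (WittVector p S) :=
  RingHom.ker (WittVector.map (p := p) (Ideal.Quotient.mk 𝔟))

lemma mem_WI (𝔟 : Ideal S) (x : WittVector p S) : x ∈ WI p 𝔟 ↔ ∀ n, x.coeff n ∈ 𝔟 := by
  unfold WI
  rw [RingHom.mem_ker, WittVector.ext_iff]
  simp only [WittVector.map_coeff, WittVector.zero_coeff, Ideal.Quotient.eq_zero_iff_mem]

lemma WI_bot : WI p (⊥ : Ideal S) = ⊥ := by
  rw [eq_bot_iff]
  intro x hx
  rw [mem_WI] at hx
  rw [Ideal.mem_bot]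
  ext n
  rw [WittVector.zero_coeff]
  exact hx n

lemma frobenius_mem_WI (𝔞 : Ideal S) (k : ℕ) {x : WittVector p S} (hx : x ∈ WI p (bI p 𝔞 k)) :
    WittVector.frobenius x ∈ WI p (bI p 𝔞 (k + 1)) := by
  rw [mem_WI] at hx ⊢
  intro n
  rw [WittVector.coeff_frobenius, WittVector.frobeniusPoly]
  simp only [map_add, map_pow, map_mul, MvPolynomial.aeval_X, MvPolynomial.aeval_C]
  refine Ideal.add_mem _ (pow_p_mem p 𝔞 k (hx n)) ?_
  have h1 := aeval_mem_of_constantCoeff_eq_zero (bI p 𝔞 k) _ (constantCoeff_frobeniusPolyAux p n)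
    x.coeff hx
  have h2 := p_mul_mem p 𝔞 k h1
  convert h2 using 2
  simp

lemma ker_map_le_WI {R : Type u} [CommRing R] (φ : S →+* R) :
    RingHom.ker (WittVector.map (p := p) φ) ≤ WI p (bI p (RingHom.ker φ) 0) := by
  intro x hx
  rw [mem_WI]
  intro n
  apply le_bI_zero
  rw [RingHom.mem_ker, WittVector.ext_iff] at hx
  have := hx n
  rw [WittVector.map_coeff, WittVector.zero_coeff] at this
  exact this

end Witt

section Lift

variable {W : Type u} [CommRing W] (F : W →+* W)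
variable {P₁ : Type v} [AddCommGroup P₁] [Module W P₁]
variable {P₂ : Type w} [AddCommGroup P₂] [Module W P₂]
variable {ι₁ : Type z} [Fintype ι₁]
variable (b₁ : Module.Basis ι₁ W P₁)
variable (F₁ : P₁ →ₛₗ[F] P₁) (F₂ : P₂ →ₛₗ[F] P₂)
variable (hF₁ : LinearIndependent W (fun i => F₁ (b₁ i)) ∧
      Submodule.span W (Set.range fun i => F₁ (b₁ i)) = ⊤)

/-- the basis `F₁ (b₁ i)`. -/
def cB : Module.Basis ι₁ W P₁ := Module.Basis.mk hF₁.1 hF₁.2.ge

lemma cB_apply (i : ι₁) : cB F b₁ F₁ hF₁ i = F₁ (b₁ i) := by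
  unfold cB
  rw [Module.Basis.mk_apply]

/-- the operator `U`. -/
def U : (P₁ →ₗ[W] P₂) →+ (P₁ →ₗ[W] P₂) where
  toFun ω := (cB F b₁ F₁ hF₁).constr W (fun j => F₂ (ω (b₁ j)))
  map_zero' := by
    apply (cB F b₁ F₁ hF₁).ext
    intro j
    simp
  map_add' ω ω' := by
    apply (cB F b₁ F₁ hF₁).ext
    intro j
    rw [LinearMap.add_apply, Module.Basis.constr_basis, Module.Basis.constr_basis,
      Module.Basis.constr_basis, LinearMap.add_apply, map_add]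

lemma U_cB (ω : P₁ →ₗ[W] P₂) (j : ι₁) :
    U F b₁ F₁ F₂ hF₁ ω (F₁ (b₁ j)) = F₂ (ω (b₁ j)) := by
  rw [← cB_apply F b₁ F₁ hF₁ j]
  show (cB F b₁ F₁ hF₁).constr W (fun j => F₂ (ω (b₁ j))) (cB F b₁ F₁ hF₁ j) = _
  rw [Module.Basis.constr_basis]

lemma U_spec (ω : P₁ →ₗ[W] P₂) (x : P₁) : U F b₁ F₁ F₂ hF₁ ω (F₁ x) = F₂ (ω x) := by
  conv_lhs => rw [← b₁.sum_repr x]
  conv_rhs => rw [← b₁.sum_repr x]
  simp only [map_sum, map_smulₛₗ, U_cB, map_smul, RingHom.id_apply]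

lemma fix_iff (α : P₁ →ₗ[W] P₂) :
    (∀ x, F₂ (α x) = α (F₁ x)) ↔ U F b₁ F₁ F₂ hF₁ α = α := by
  constructor
  · intro h
    apply (cB F b₁ F₁ hF₁).ext
    intro j
    rw [cB_apply, U_cB, h]
  · intro h x
    rw [← U_spec F b₁ F₁ F₂ hF₁, h]

lemma F₂_mem (𝔡 : Ideal W) {y : P₂} (hy : y ∈ 𝔡 • (⊤ : Submodule W P₂)) :
    F₂ y ∈ (𝔡.map F) • (⊤ : Submodule W P₂) := by
  refine Submodule.smul_induction_on hy ?_ ?_
  · intro d hd m _
    rw [map_smulₛₗ]
    exact Submodule.smul_mem_smul (Ideal.mem_map_of_mem F hd) Submodule.mem_top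
  · intro x y hx hy
    rw [map_add]
    exact Submodule.add_mem _ hx hy

lemma U_values (𝔡 : Ideal W) (ω : P₁ →ₗ[W] P₂) (h : ∀ x, ω x ∈ 𝔡 • (⊤ : Submodule W P₂)) :
    ∀ x, U F b₁ F₁ F₂ hF₁ ω x ∈ (𝔡.map F) • (⊤ : Submodule W P₂) := by
  intro x
  rw [← (cB F b₁ F₁ hF₁).sum_repr x, map_sum]
  refine Submodule.sum_mem _ (fun j _ => ?_)
  rw [map_smul, cB_apply, U_cB]
  exact Submodule.smul_mem _ _ (F₂_mem F F₂ 𝔡 (h _))

/-- values of iterates. -/
lemma U_iterate_values (J : ℕ → Ideal W) (hJ : ∀ k, (J k).map F ≤ J (k + 1))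
    (ω : P₁ →ₗ[W] P₂) (h : ∀ x, ω x ∈ J 0 • (⊤ : Submodule W P₂)) (k : ℕ) :
    ∀ x, (⇑(U F b₁ F₁ F₂ hF₁))^[k] ω x ∈ J k • (⊤ : Submodule W P₂) := by
  induction k with
  | zero => exact h
  | succ k ih =>
    intro x
    rw [Function.iterate_succ_apply']
    exact Submodule.smul_mono_left (hJ k) (U_values F b₁ F₁ F₂ hF₁ (J k) _ ih x)

include b₁ hF₁ in
/-- existence of the lift. -/
theorem exists_lift (𝔠 : Ideal W) (h𝔠F : 𝔠.map F ≤ 𝔠)
    (J : ℕ → Ideal W) (hJ : ∀ k, (J k).map F ≤ J (k + 1)) (h0 : 𝔠 ≤ J 0) (K : ℕ) (hK : J K = ⊥)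
    (α₀ : P₁ →ₗ[W] P₂)
    (hα₀ : ∀ x : P₁, F₂ (α₀ x) - α₀ (F₁ x) ∈ 𝔠 • (⊤ : Submodule W P₂)) :
    ∃ α : P₁ →ₗ[W] P₂, (∀ x : P₁, α x - α₀ x ∈ 𝔠 • (⊤ : Submodule W P₂)) ∧
      ∀ x : P₁, F₂ (α x) = α (F₁ x) := by
  set Uo := U F b₁ F₁ F₂ hF₁ with hUo
  set η := Uo α₀ - α₀ with hη
  have hηval : ∀ x, η x ∈ 𝔠 • (⊤ : Submodule W P₂) := by
    intro x
    rw [← (cB F b₁ F₁ hF₁).sum_repr x, map_sum]
    refine Submodule.sum_mem _ (fun j _ => ?_)
    rw [map_smul]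
    refine Submodule.smul_mem _ _ ?_
    rw [hη, LinearMap.sub_apply, cB_apply, hUo, U_cB]
    exact hα₀ _
  have hval : ∀ k x, (⇑Uo)^[k] η x ∈ 𝔠 • (⊤ : Submodule W P₂) :=
    fun k => U_iterate_values F b₁ F₁ F₂ hF₁ (fun _ => 𝔠) (fun _ => h𝔠F) η hηval k
  have hvalJ : ∀ x, (⇑Uo)^[K] η x ∈ J K • (⊤ : Submodule W P₂) :=
    U_iterate_values F b₁ F₁ F₂ hF₁ J hJ η
      (fun x => Submodule.smul_mono_left h0 (hηval x)) K
  have hzero : (⇑Uo)^[K] η = 0 := by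
    ext x
    have := hvalJ x
    rw [hK, Submodule.bot_smul, Submodule.mem_bot] at this
    rw [this, LinearMap.zero_apply]
  refine ⟨α₀ + ∑ k ∈ Finset.range K, (⇑Uo)^[k] η, ?_, ?_⟩
  · intro x
    rw [LinearMap.add_apply, add_sub_cancel_left, LinearMap.sum_apply]
    exact Submodule.sum_mem _ (fun k _ => hval k x)
  · rw [fix_iff F b₁ F₁ F₂ hF₁, ← hUo, map_add, map_sum]
    have h1 : ∀ k, Uo ((⇑Uo)^[k] η) = (⇑Uo)^[k + 1] η :=
      fun k => (Function.iterate_succ_apply' _ _ _).symm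
    simp only [h1]
    have h2 : Uo α₀ = α₀ + η := by rw [hη]; abel
    have h3 : ∑ k ∈ Finset.range K, (⇑Uo)^[k + 1] η + η = ∑ k ∈ Finset.range K, (⇑Uo)^[k] η := by
      have e1 := Finset.sum_range_succ' (fun k => (⇑Uo)^[k] η) K
      have e2 := Finset.sum_range_succ (fun k => (⇑Uo)^[k] η) K
      rw [e2, hzero, add_zero] at e1
      simp only [Function.iterate_zero, id_eq] at e1
      exact e1.symm
    rw [h2, ← h3]
    abel

include b₁ hF₁ in
/-- uniqueness of the lift. -/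
theorem lift_unique (J : ℕ → Ideal W) (hJ : ∀ k, (J k).map F ≤ J (k + 1)) (K : ℕ) (hK : J K = ⊥)
    (α α' : P₁ →ₗ[W] P₂)
    (hd : ∀ x : P₁, α x - α' x ∈ J 0 • (⊤ : Submodule W P₂))
    (hα : ∀ x : P₁, F₂ (α x) = α (F₁ x)) (hα' : ∀ x : P₁, F₂ (α' x) = α' (F₁ x)) : α = α' := by
  set Uo := U F b₁ F₁ F₂ hF₁ with hUo
  have h1 : Uo α = α := (fix_iff F b₁ F₁ F₂ hF₁ α).mp hα
  have h2 : Uo α' = α' := (fix_iff F b₁ F₁ F₂ hF₁ α').mp hα'
  have h3 : Uo (α - α') = α - α' := by rw [map_sub, h1, h2]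
  have h4 : ∀ k, (⇑Uo)^[k] (α - α') = α - α' := by
    intro k
    induction k with
    | zero => rfl
    | succ k ih => rw [Function.iterate_succ_apply', ih, h3]
  have h5 := U_iterate_values F b₁ F₁ F₂ hF₁ J hJ (α - α') hd K
  rw [h4 K] at h5
  rw [← sub_eq_zero]
  ext x
  have := h5 x
  rw [hK, Submodule.bot_smul, Submodule.mem_bot] at this
  rw [this, LinearMap.zero_apply]

end Lift

end Groth.Agent.Lib.DispLift_helper3
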