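import Mathlib
import Groth.Prelude.Def_Disp2
import Groth.Agent.Lib.DispStar_helper1
import Groth.Agent.Lib.DispVSharp3_helper1
import Groth.Agent.Lib.WittTop_helper1

/-! Matrix description of the iterates of `V^#` modulo `I_R + pW` for a 3n-display with a free
normal decomposition (helper1; S16546). -/

set_option autoImplicit false
universe u v w

namespace Groth.Agent.Lib.DispMat

open Dieu W4c1extbt610 WittVector Groth.Agent.Lib.DispStar

section General

variable {A : Type u} [CommRing A] {K : Type u} [CommRing K] (ρ : A →+* K)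
variable {P : Type v} [AddCommGroup P] [Module A P]
variable {ι : Type w} [Fintype ι] [DecidableEq ι] (b : Module.Basis ι A P)

/-- coordinates, twisted by `g`, reduced by `ρ` -/
noncomputable def psi (g : A →+* A) : P →ₛₗ[ρ.comp g] (ι → K) where
  toFun x := fun i => ρ (g (b.repr x i))
  map_add' x y := by
    funext i
    simp only [map_add, Finsupp.coe_add, Pi.add_apply]
  map_smul' a x := by
    funext i
    simp only [map_smul, Finsupp.coe_smul, Pi.smul_apply, smul_eq_mul, map_mul,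
      RingHom.comp_apply]

lemma psi_apply (g : A →+* A) (x : P) (i : ι) : psi ρ b g x i = ρ (g (b.repr x i)) := rfl

/-- coordinates of an element of `A ⊗_g P` modulo `ker ρ` -/
noncomputable def kappa (g : A →+* A) : BC g P →ₛₗ[ρ] (ι → K) :=
  (BC.lift (ρ.comp g) (psi ρ b g)).comp (BC.push g ρ)

lemma kappa_tmul (g : A →+* A) (c : A) (x : P) :
    kappa ρ b g (BC.tmul g c x) = ρ c • psi ρ b g x := by
  rw [kappa, LinearMap.comp_apply, BC.push_tmul, BC.lift_tmul]

lemma kappa_basis (g : A →+* A) (j : ι) :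
    kappa ρ b g (BC.tmul g 1 (b j)) = Pi.single j 1 := by
  rw [kappa_tmul, map_one, one_smul]
  funext m
  rw [psi_apply, Module.Basis.repr_self]
  rcases eq_or_ne m j with rfl | h
  · rw [Finsupp.single_apply, Pi.single_apply, if_pos rfl, if_pos rfl, map_one, map_one]
  · rw [Finsupp.single_apply, Pi.single_apply, if_neg (Ne.symm h), if_neg h, map_zero, map_zero]

lemma sum_smul_single (f : ι → K) : (∑ j, f j • (Pi.single j (1 : K) : ι → K)) = f := by
  funext m
  rw [Finset.sum_apply]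
  simp only [Pi.smul_apply, Pi.single_apply, smul_eq_mul, mul_ite, mul_one, mul_zero]
  rw [Finset.sum_ite_eq, if_pos (Finset.mem_univ _)]

lemma kappa_sum (g : A →+* A) (w : ι → A) :
    kappa ρ b g (∑ j, w j • BC.tmul g 1 (b j)) = fun j => ρ (w j) := by
  rw [map_sum]
  have : ∀ j ∈ Finset.univ, kappa ρ b g (w j • BC.tmul g 1 (b j)) =
      ρ (w j) • (Pi.single j (1 : K) : ι → K) := by
    intro j _
    rw [LinearMap.map_smulₛₗ, kappa_basis]
  rw [Finset.sum_congr rfl this]
  exact sum_smul_single (fun j => ρ (w j))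

lemma exists_repr (g : A →+* A) (z : BC g P) :
    ∃ w : ι → A, z = ∑ j, w j • BC.tmul g 1 (b j) := by
  induction z using BC.induction_on g with
  | zero => exact ⟨0, by simp⟩
  | tmul c x =>
    refine ⟨fun j => c * g (b.repr x j), ?_⟩
    have hx : x = ∑ j, b.repr x j • b j := (b.sum_repr x).symm
    conv_lhs => rw [hx]
    rw [BC.tmul_eq_smul_tmul_one g c, ← BC.ι_apply, map_sum, Finset.smul_sum]
    refine Finset.sum_congr rfl fun j _ => ?_
    rw [LinearMap.map_smulₛₗ, BC.ι_apply, mul_smul]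
  | add z₁ z₂ h₁ h₂ =>
    obtain ⟨w₁, e₁⟩ := h₁
    obtain ⟨w₂, e₂⟩ := h₂
    refine ⟨w₁ + w₂, ?_⟩
    rw [e₁, e₂, ← Finset.sum_add_distrib]
    exact Finset.sum_congr rfl fun j _ => by rw [Pi.add_apply, add_smul]

lemma kappa_coll (k h : A →+* A) (q : ℕ) (hq : ∀ a, ρ (h a) = ρ a ^ q) (y : BC k P) :
    kappa ρ b (h.comp k) (coll k h (BC.tmul h 1 y)) = fun m => (kappa ρ b k y m) ^ q := by
  obtain ⟨w, e⟩ := exists_repr b k y
  have hk : kappa ρ b k y = fun j => ρ (w j) := by
    rw [e]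
    exact kappa_sum ρ b k w
  have hc : coll k h (BC.tmul h 1 y) = ∑ j, h (w j) • BC.tmul (h.comp k) 1 (b j) := by
    rw [e, ← BC.ι_apply, map_sum, map_sum]
    refine Finset.sum_congr rfl fun j _ => ?_
    rw [LinearMap.map_smulₛₗ, map_smul, BC.ι_apply, coll_tmul_tmul, one_mul, map_one]
  rw [hc, kappa_sum, hk]
  funext m
  exact hq (w m)

/-- the matrix modulo `ker ρ` of a twisted map -/
noncomputable def MB {k : A →+* A} (ψ : P →ₗ[A] BC k P) : Matrix ι ι K :=
  fun m i => kappa ρ b k (ψ (b i)) m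

lemma MB_ce {k k' : A →+* A} {ψ : P →ₗ[A] BC k P} {ψ' : P →ₗ[A] BC k' P} (h : CE ψ ψ') :
    MB ρ b ψ = MB ρ b ψ' := by
  obtain ⟨e, rfl⟩ := h
  subst e
  rfl

lemma MB_star {k h : A →+* A} (q : ℕ) (hq : ∀ a, ρ (h a) = ρ a ^ q)
    (ψ : P →ₗ[A] BC k P) (φ : P →ₗ[A] BC h P) :
    MB ρ b (DispStar.star ψ φ) = fun m i => ∑ j, (MB ρ b ψ m j) ^ q * MB ρ b φ j i := by
  funext m i
  obtain ⟨w, e⟩ := exists_repr b h (φ (b i))
  have hφ : ∀ j, MB ρ b φ j i = ρ (w j) := by
    intro j
    show kappa ρ b h (φ (b i)) j = _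
    rw [e, kappa_sum]
  have hL : kappa ρ b (h.comp k) (coll k h (BC.map h ψ (φ (b i)))) =
      ∑ j, ρ (w j) • (fun m => (kappa ρ b k (ψ (b j)) m) ^ q) := by
    rw [e, map_sum, map_sum, map_sum]
    refine Finset.sum_congr rfl fun j _ => ?_
    rw [map_smul, map_smul, LinearMap.map_smulₛₗ, BC.map_tmul, kappa_coll ρ b k h q hq]
  show kappa ρ b (h.comp k) (DispStar.star ψ φ (b i)) m = _
  rw [star_apply, hL, Finset.sum_apply]
  refine Finset.sum_congr rfl fun j _ => ?_
  rw [hφ j, Pi.smul_apply, smul_eq_mul, mul_comm]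
  rfl

lemma kappa_eq_zero_of_basis {k : A →+* A} (ψ : P →ₗ[A] BC k P) (h0 : MB ρ b ψ = 0) (x : P) :
    kappa ρ b k (ψ x) = 0 := by
  have hx : x = ∑ j, b.repr x j • b j := (b.sum_repr x).symm
  rw [hx, map_sum, map_sum]
  refine Finset.sum_eq_zero fun j _ => ?_
  rw [map_smul, LinearMap.map_smulₛₗ]
  have : kappa ρ b k (ψ (b j)) = 0 := by
    funext m
    exact congr_fun (congr_fun h0 m) j
  rw [this, smul_zero]

lemma mem_of_kappa_eq_zero (k : A →+* A) (J : Ideal A) (hJ : ∀ a, ρ a = 0 → a ∈ J) (z : BC k P)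
    (hz : kappa ρ b k z = 0) : z ∈ J • (⊤ : Submodule A (BC k P)) := by
  obtain ⟨w, e⟩ := exists_repr b k z
  have hk : (fun j => ρ (w j)) = 0 := by
    rw [← kappa_sum ρ b k w, ← e]
    exact hz
  rw [e]
  exact Submodule.sum_mem _ fun j _ =>
    Submodule.smul_mem_smul (hJ _ (congr_fun hk j)) Submodule.mem_top

lemma kappa_eq_zero_of_mem (k : A →+* A) (J : Ideal A) (hJ : ∀ a ∈ J, ρ a = 0) (z : BC k P)
    (hz : z ∈ J • (⊤ : Submodule A (BC k P))) : kappa ρ b k z = 0 := by
  refine Submodule.smul_induction_on hz (fun a ha y _ => ?_) (fun x y hx hy => ?_)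
  · rw [LinearMap.map_smulₛₗ, hJ a ha, zero_smul]
  · rw [map_add, hx, hy, add_zero]

end General

section Block

variable {K : Type u} [CommRing K] {ιT ιL : Type w} [Fintype ιT] [Fintype ιL]
  [DecidableEq ιT] [DecidableEq ιL]

/-- the product `B^{(p^{N-1})} ⋯ B^{(p)} B` -/
def Lprod (p : ℕ) (B : Matrix ιL ιL K) (N : ℕ) : Matrix ιL ιL K :=
  ((List.range N).reverse.map fun i : ℕ => B.map fun x : K => x ^ p ^ i).prod

lemma Lprod_zero (p : ℕ) (B : Matrix ιL ιL K) : Lprod p B 0 = 1 := by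
  simp [Lprod]

lemma Lprod_succ (p : ℕ) (B : Matrix ιL ιL K) (N : ℕ) :
    Lprod p B (N + 1) = (B.map fun x : K => x ^ p ^ N) * Lprod p B N := by
  simp [Lprod, List.range_succ]

variable (p : ℕ) (hp0 : p ≠ 0) (Gb : Matrix (ιT ⊕ ιL) (ιT ⊕ ιL) K)
  (M : ℕ → Matrix (ιT ⊕ ιL) (ιT ⊕ ιL) K)
  (hG0 : ∀ t i, Gb (Sum.inl t) i = 0) (hM0 : M 0 = Gb)
  (hl : ∀ n m i, M (n + 1) m i = ∑ j, (Gb m j) ^ (p ^ (n + 1)) * M n j i)
  (hr : ∀ n m i, M (n + 1) m i = ∑ j, (M n m j) ^ p * Gb j i)

include hp0 hG0 hM0 hl in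
lemma block_inl (n : ℕ) (t : ιT) (i : ιT ⊕ ιL) : M n (Sum.inl t) i = 0 := by
  cases n with
  | zero => rw [hM0]; exact hG0 t i
  | succ n =>
    rw [hl]
    refine Finset.sum_eq_zero fun j _ => ?_
    rw [hG0, zero_pow (pow_ne_zero _ hp0), zero_mul]

include hp0 hG0 hM0 hl in
lemma block_LL (n : ℕ) (k l : ιL) :
    M n (Sum.inr k) (Sum.inr l) =
      Lprod p (Matrix.of fun k l => Gb (Sum.inr k) (Sum.inr l)) (n + 1) k l := by
  induction n generalizing k l with
  | zero =>
    rw [hM0, Lprod_succ, Lprod_zero, mul_one]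
    simp [Matrix.map_apply]
  | succ n ih =>
    rw [hl, Fintype.sum_sum_type, Lprod_succ, Matrix.mul_apply]
    have h1 : ∑ t : ιT, Gb (Sum.inr k) (Sum.inl t) ^ p ^ (n + 1) * M n (Sum.inl t) (Sum.inr l) = 0 :=
      Finset.sum_eq_zero fun t _ => by rw [block_inl p hp0 Gb M hG0 hM0 hl n t, mul_zero]
    rw [h1, zero_add]
    refine Finset.sum_congr rfl fun k' _ => ?_
    rw [ih k' l]
    rfl

include hp0 hG0 hM0 hl hr in
lemma block_zero (n : ℕ)
    (h0 : Lprod p (Matrix.of fun k l => Gb (Sum.inr k) (Sum.inr l)) (n + 1) = 0) :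
    M (n + 1) = 0 := by
  ext m i
  rw [hr, Matrix.zero_apply]
  refine Finset.sum_eq_zero fun j _ => ?_
  cases m with
  | inl t => rw [block_inl p hp0 Gb M hG0 hM0 hl n t, zero_pow hp0, zero_mul]
  | inr k =>
    cases j with
    | inl t => rw [hG0, mul_zero]
    | inr l =>
      rw [block_LL p hp0 Gb M hG0 hM0 hl n k l, h0]
      show (0 : K) ^ p * _ = 0
      rw [zero_pow hp0, zero_mul]

end Block

section Witt

variable {p : ℕ} [Fact p.Prime] {R : Type u} [CommRing R]

/-- `W(R) → R/pR` -/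
noncomputable def rho : WittVector p R →+* R ⧸ Ideal.span {(p : R)} :=
  (Ideal.Quotient.mk (Ideal.span {(p : R)})).comp (constantCoeff : WittVector p R →+* R)

lemma rho_apply (a : WittVector p R) :
    rho a = Ideal.Quotient.mk (Ideal.span {(p : R)}) (constantCoeff a) := rfl

lemma mk_p : (Ideal.Quotient.mk (Ideal.span {(p : R)})) (p : R) = 0 :=
  Ideal.Quotient.eq_zero_iff_mem.2 (Ideal.subset_span rfl)

lemma rho_p : rho (p : WittVector p R) = 0 := by
  rw [rho_apply, map_natCast]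
  exact mk_p

lemma rho_frobenius (a : WittVector p R) :
    rho ((WittVector.frobenius : WittVector p R →+* WittVector p R) a) = rho a ^ p := by
  have h2 : (WittVector.frobenius a).coeff 0 =
      (a.coeff 0) ^ p + (p : R) * MvPolynomial.aeval a.coeff (frobeniusPolyAux p 0) := by
    rw [coeff_frobenius, frobeniusPoly, map_add, map_mul, map_pow, MvPolynomial.aeval_X,
      MvPolynomial.aeval_C]
    simp
  show Ideal.Quotient.mk (Ideal.span {(p : R)}) ((WittVector.frobenius a).coeff 0) =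
    (Ideal.Quotient.mk (Ideal.span {(p : R)}) (a.coeff 0)) ^ p
  rw [h2, map_add, map_mul, map_pow, mk_p, zero_mul, add_zero]

lemma rho_frob_pow (n : ℕ) (a : WittVector p R) :
    rho (((WittVector.frobenius : WittVector p R →+* WittVector p R) ^ n) a) = rho a ^ (p ^ n) := by
  rw [RingHom.coe_pow]
  induction n with
  | zero => rw [Function.iterate_zero, id_eq, pow_zero, pow_one]
  | succ n ih => rw [Function.iterate_succ_apply', rho_frobenius, ih, ← pow_mul, pow_succ]

lemma rho_eq_zero_of_mem_J (a : WittVector p R)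
    (ha : a ∈ IV p R ⊔ Ideal.span {(p : WittVector p R)}) : rho a = 0 := by
  obtain ⟨i, hi, c, hc, rfl⟩ := Submodule.mem_sup.1 ha
  obtain ⟨u, rfl⟩ := Groth.Agent.Lib.DispNormal.exists_eq_verschiebung_of_mem_IV i hi
  obtain ⟨c', rfl⟩ := Ideal.mem_span_singleton'.1 hc
  rw [map_add, map_mul, rho_p, mul_zero, add_zero, rho_apply]
  show Ideal.Quotient.mk _ ((verschiebung u).coeff 0) = 0
  rw [verschiebung_coeff_zero, map_zero]

lemma mem_J_of_rho_eq_zero (a : WittVector p R) (h : rho a = 0) :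
    a ∈ IV p R ⊔ Ideal.span {(p : WittVector p R)} := by
  rw [rho_apply, Ideal.Quotient.eq_zero_iff_mem, Ideal.mem_span_singleton'] at h
  obtain ⟨r, hr⟩ := h
  have h0 : (a - teichmuller p r * (p : WittVector p R)).coeff 0 = 0 := by
    have e := map_sub (constantCoeff : WittVector p R →+* R) a (teichmuller p r * p)
    rw [map_mul, map_natCast] at e
    show constantCoeff (a - teichmuller p r * (p : WittVector p R)) = 0
    rw [e, ← hr]
    show r * (p : R) - (teichmuller p r).coeff 0 * (p : R) = 0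
    rw [teichmuller_coeff_zero, sub_self]
  obtain ⟨y, hy⟩ := Groth.Agent.Lib.WittTop.eq_V_of_coeff_zero p R _ h0
  have e : a = verschiebung y + teichmuller p r * p := by rw [← hy]; ring
  rw [e]
  exact Submodule.add_mem _ (Ideal.mem_sup_left (verschiebung_mem_IV p R y))
    (Ideal.mem_sup_right (Ideal.mul_mem_left _ _ (Ideal.subset_span rfl)))

variable {P : Type v} [AddCommGroup P] [Module (WittVector p R) P]
variable {ι : Type w} [Fintype ι] [DecidableEq ι]

lemma MB_vSharpPow_succ_right (b : Module.Basis ι (WittVector p R) P)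
    (Vs : P →ₗ[WittVector p R] BC (WittVector.frobenius : WittVector p R →+* WittVector p R) P)
    (n : ℕ) :
    MB rho b (vSharpPow Vs (n + 1)) =
      fun m i => ∑ j, (MB rho b (vSharpPow Vs n) m j) ^ p * MB rho b Vs j i := by
  rw [← MB_ce rho b (CE_vSharpPow_succ Vs n)]
  exact MB_star rho b p rho_frobenius (vSharpPow Vs n) Vs

lemma MB_vSharpPow_succ_left (b : Module.Basis ι (WittVector p R) P)
    (Vs : P →ₗ[WittVector p R] BC (WittVector.frobenius : WittVector p R →+* WittVector p R) P)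
    (n : ℕ) :
    MB rho b (vSharpPow Vs (n + 1)) =
      fun m i => ∑ j, (MB rho b Vs m j) ^ (p ^ (n + 1)) * MB rho b (vSharpPow Vs n) j i := by
  have h := vSharpPow_add Vs 0 n
  rw [Nat.zero_add] at h
  rw [MB_ce rho b h,
    MB_star rho b (p ^ (n + 1)) (rho_frob_pow (n + 1)) (vSharpPow Vs 0) (vSharpPow Vs n),
    MB_ce rho b (CE_vSharpPow_zero Vs).symm]

variable {ιT ιL : Type w} [Fintype ιT] [Fintype ιL] [DecidableEq ιT] [DecidableEq ιL]

/-- the basis of `P = T ⊕ L` -/
noncomputable def basisP {L T : Submodule (WittVector p R) P} (hLT : IsCompl L T)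
    (bT : Module.Basis ιT (WittVector p R) T) (bL : Module.Basis ιL (WittVector p R) L) :
    Module.Basis (ιT ⊕ ιL) (WittVector p R) P :=
  (bT.prod bL).map (Submodule.prodEquivOfIsCompl T L hLT.symm)

lemma basisP_apply {L T : Submodule (WittVector p R) P} (hLT : IsCompl L T)
    (bT : Module.Basis ιT (WittVector p R) T) (bL : Module.Basis ιL (WittVector p R) L)
    (i : ιT ⊕ ιL) :
    basisP hLT bT bL i = Sum.elim (fun a : ιT => (bT a : P)) (fun a : ιL => (bL a : P)) i := by
  rw [basisP, Module.Basis.map_apply, Submodule.coe_prodEquivOfIsCompl']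
  cases i with
  | inl t =>
    rw [Module.Basis.prod_apply_inl_fst, Module.Basis.prod_apply_inl_snd, Submodule.coe_zero,
      add_zero]
    rfl
  | inr k =>
    rw [Module.Basis.prod_apply_inr_fst, Module.Basis.prod_apply_inr_snd, Submodule.coe_zero,
      zero_add]
    rfl

lemma Vs_basis (D : Display3n p R P)
    (Vs : P →ₗ[WittVector p R] BC (WittVector.frobenius : WittVector p R →+* WittVector p R) P)
    (hVs : IsVSharp D Vs) (e : ιT ⊕ ιL → P)
    (α β : Matrix (ιT ⊕ ιL) (ιT ⊕ ιL) (WittVector p R)) (hαβ : α * β = 1)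
    (hF : ∀ t : ιT, D.F (e (Sum.inl t)) = ∑ i, α i (Sum.inl t) • e i)
    (hV : ∀ k : ιL, ∃ hk : e (Sum.inr k) ∈ D.Q,
      D.Vinv ⟨e (Sum.inr k), hk⟩ = ∑ i, α i (Sum.inr k) • e i)
    (i : ιT ⊕ ιL) :
    Vs (e i) = ∑ j, (Sum.elim (fun _ : ιT => (p : WittVector p R)) (fun _ : ιL => 1) j * β j i) •
      BC.tmul (WittVector.frobenius : WittVector p R →+* WittVector p R) 1 (e j) := by
  have h2 : ∀ j, Vs (∑ m, α m j • e m) =
      (Sum.elim (fun _ : ιT => (p : WittVector p R)) (fun _ : ιL => 1) j) •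
        BC.tmul (WittVector.frobenius : WittVector p R →+* WittVector p R) 1 (e j) := by
    intro j
    cases j with
    | inl t =>
      rw [← hF t]
      have h3 := hVs.app_smul_F 1 (e (Sum.inl t))
      rw [one_smul] at h3
      rw [h3]
      rfl
    | inr k =>
      obtain ⟨hk, hk'⟩ := hV k
      rw [← hk']
      have h3 := hVs.app_smul_Vinv 1 ⟨_, hk⟩
      rw [one_smul] at h3
      rw [h3, Sum.elim_inr, one_smul]
  have h1 : e i = ∑ j, β j i • ∑ m, α m j • e m := by
    symm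
    calc ∑ j, β j i • ∑ m, α m j • e m = ∑ j, ∑ m, (α m j * β j i) • e m := by
          refine Finset.sum_congr rfl fun j _ => ?_
          rw [Finset.smul_sum]
          refine Finset.sum_congr rfl fun m _ => ?_
          rw [smul_smul, mul_comm]
      _ = ∑ m, ∑ j, (α m j * β j i) • e m := Finset.sum_comm
      _ = ∑ m, (α * β) m i • e m := by
          refine Finset.sum_congr rfl fun m _ => ?_
          rw [← Finset.sum_smul, Matrix.mul_apply]
      _ = e i := by
          rw [hαβ]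
          simp only [Matrix.one_apply, ite_smul, one_smul, zero_smul]
          rw [Finset.sum_ite_eq', if_pos (Finset.mem_univ _)]
  rw [h1, map_sum]
  refine Finset.sum_congr rfl fun j _ => ?_
  rw [map_smul, h2 j, smul_smul, mul_comm]

theorem main16546 (hp : IsNilpotent (p : R)) (D : Display3n p R P)
    (L T : Submodule (WittVector p R) P) (hLT : IsCompl L T) (hLQ : L ≤ D.Q)
    (bT : Module.Basis ιT (WittVector p R) T) (bL : Module.Basis ιL (WittVector p R) L)
    (α β : Matrix (ιT ⊕ ιL) (ιT ⊕ ιL) (WittVector p R)) (hαβ : α * β = 1)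
    (hF : ∀ j : ιT, D.F (bT j : P) =
      Finset.univ.sum fun i : ιT ⊕ ιL => α i (Sum.inl j) • Sum.elim (fun a : ιT => (bT a : P)) (fun a : ιL => (bL a : P)) i)
    (hV : ∀ k : ιL, D.Vinv ⟨(bL k : P), hLQ (bL k).2⟩ =
      Finset.univ.sum fun i : ιT ⊕ ιL => α i (Sum.inr k) • Sum.elim (fun a : ιT => (bT a : P)) (fun a : ιL => (bL a : P)) i) :
    IsDisplay D ↔
      ∃ N : ℕ, 0 < N ∧
        (((List.range N).reverse.map fun i : ℕ =>
            (Matrix.of fun k l : ιL =>
                Ideal.Quotient.mk (Ideal.span {(p : R)}) (WittVector.constantCoeff (β (Sum.inr k) (Sum.inr l)))).map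
              fun x : R ⧸ Ideal.span {(p : R)} => x ^ p ^ i).prod
          = 0) := by
  obtain ⟨b, hb⟩ : ∃ b : Module.Basis (ιT ⊕ ιL) (WittVector p R) P,
      ∀ i, b i = Sum.elim (fun a : ιT => (bT a : P)) (fun a : ιL => (bL a : P)) i :=
    ⟨basisP hLT bT bL, basisP_apply hLT bT bL⟩
  have hF' : ∀ t : ιT, D.F (b (Sum.inl t)) = ∑ i, α i (Sum.inl t) • b i := by
    intro t
    rw [hb, Sum.elim_inl, hF t]
    exact Finset.sum_congr rfl fun i _ => by rw [hb]
  have hV' : ∀ k : ιL, ∃ hk : b (Sum.inr k) ∈ D.Q,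
      D.Vinv ⟨b (Sum.inr k), hk⟩ = ∑ i, α i (Sum.inr k) • b i := by
    intro k
    have e1 : b (Sum.inr k) = (bL k : P) := by rw [hb, Sum.elim_inr]
    have hk : b (Sum.inr k) ∈ D.Q := by rw [e1]; exact hLQ (bL k).2
    refine ⟨hk, ?_⟩
    have e2 : (⟨b (Sum.inr k), hk⟩ : D.Q) = ⟨(bL k : P), hLQ (bL k).2⟩ := Subtype.ext e1
    rw [e2, hV k]
    exact Finset.sum_congr rfl fun i _ => by rw [hb]
  have hGb : ∀ Vs, IsVSharp D Vs → ∀ m i, MB rho b Vs m i =
      rho (Sum.elim (fun _ : ιT => (p : WittVector p R)) (fun _ : ιL => 1) m * β m i) := by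
    intro Vs hVs m i
    show kappa rho b _ (Vs (b i)) m = _
    rw [Vs_basis D Vs hVs (⇑b) α β hαβ hF' hV' i, kappa_sum]
  have hp0 : p ≠ 0 := (Fact.out : p.Prime).ne_zero
  have key : ∀ Vs, IsVSharp D Vs → ∀ n : ℕ,
      (MB rho b (vSharpPow Vs n) = 0 →
        Lprod p (Matrix.of fun k l : ιL =>
          Ideal.Quotient.mk (Ideal.span {(p : R)})
            (WittVector.constantCoeff (β (Sum.inr k) (Sum.inr l)))) (n + 1) = 0) ∧
      (Lprod p (Matrix.of fun k l : ιL =>
          Ideal.Quotient.mk (Ideal.span {(p : R)})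
            (WittVector.constantCoeff (β (Sum.inr k) (Sum.inr l)))) (n + 1) = 0 →
        MB rho b (vSharpPow Vs (n + 1)) = 0) := by
    intro Vs hVs n
    have hG0 : ∀ t i, MB rho b Vs (Sum.inl t) i = 0 := by
      intro t i
      rw [hGb Vs hVs, Sum.elim_inl, map_mul, rho_p, zero_mul]
    have hM0 : MB rho b (vSharpPow Vs 0) = MB rho b Vs :=
      MB_ce rho b (CE_vSharpPow_zero Vs).symm
    have hl : ∀ n m i, MB rho b (vSharpPow Vs (n + 1)) m i =
        ∑ j, (MB rho b Vs m j) ^ (p ^ (n + 1)) * MB rho b (vSharpPow Vs n) j i := by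
      intro n m i
      rw [MB_vSharpPow_succ_left]
    have hr : ∀ n m i, MB rho b (vSharpPow Vs (n + 1)) m i =
        ∑ j, (MB rho b (vSharpPow Vs n) m j) ^ p * MB rho b Vs j i := by
      intro n m i
      rw [MB_vSharpPow_succ_right]
    have hB : (Matrix.of fun k l : ιL => MB rho b Vs (Sum.inr k) (Sum.inr l)) =
        Matrix.of fun k l : ιL => Ideal.Quotient.mk (Ideal.span {(p : R)})
          (WittVector.constantCoeff (β (Sum.inr k) (Sum.inr l))) := by
      ext k l
      rw [Matrix.of_apply, Matrix.of_apply, hGb Vs hVs, Sum.elim_inr, one_mul, rho_apply]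
    rw [← hB]
    constructor
    · intro h
      ext k l
      rw [← block_LL p hp0 (MB rho b Vs) (fun n => MB rho b (vSharpPow Vs n)) hG0 hM0 hl n k l, h]
      rfl
    · intro h
      exact block_zero p hp0 (MB rho b Vs) (fun n => MB rho b (vSharpPow Vs n)) hG0 hM0 hl hr n h
  constructor
  · rintro ⟨Vs, hVs, n, hn⟩
    refine ⟨n + 1, Nat.succ_pos n, ?_⟩
    have hM : MB rho b (vSharpPow Vs n) = 0 := by
      ext m i
      exact congr_fun (kappa_eq_zero_of_mem rho b _ _
        (fun a ha => rho_eq_zero_of_mem_J a ha) _ (hn (b i))) m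
    exact (key Vs hVs n).1 hM
  · rintro ⟨N, hN, hprod⟩
    obtain ⟨n, rfl⟩ : ∃ n, N = n + 1 := ⟨N - 1, by omega⟩
    obtain ⟨Vs, hVs⟩ := Groth.Agent.Lib.DispVSharp.exists_vSharp hp D
    refine ⟨Vs, hVs, n + 1, fun x => ?_⟩
    have hM := (key Vs hVs n).2 hprod
    exact mem_of_kappa_eq_zero rho b _ _ (fun a ha => mem_J_of_rho_eq_zero a ha) _
      (kappa_eq_zero_of_basis rho b _ hM x)

end Witt

end Groth.Agent.Lib.DispMat
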