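import Mathlib
import Groth.Prelude.Def_Disp2
import Groth.Agent.Lib.DispStar_helper1

/-! Consequences of the nilpotence condition for `V^#` (helper1): the iterates `V^{N#}` are
eventually zero modulo the kernel of any truncation (S16537). -/

set_option autoImplicit false
universe u v

namespace Groth.Agent.Lib.DispNilp

open Dieu W4c1extbt610 WittVector Groth.Agent.Lib.DispStar

variable {p : ℕ} [Fact p.Prime] {R : Type u} [CommRing R]
variable {P : Type v} [AddCommGroup P] [Module (WittVector p R) P]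

lemma frob_mem_J (a : WittVector p R)
    (ha : a ∈ IV p R ⊔ Ideal.span {(p : WittVector p R)}) :
    WittVector.frobenius a ∈ IV p R ⊔ Ideal.span {(p : WittVector p R)} := by
  obtain ⟨i, hi, c, hc, rfl⟩ := Submodule.mem_sup.1 ha
  obtain ⟨u, rfl⟩ := Groth.Agent.Lib.DispNormal.exists_eq_verschiebung_of_mem_IV i hi
  obtain ⟨c', rfl⟩ := Ideal.mem_span_singleton'.1 hc
  rw [map_add, frobenius_verschiebung, map_mul, map_natCast]
  apply Ideal.mem_sup_right
  rw [← add_mul]
  exact Ideal.mul_mem_left _ _ (Ideal.subset_span rfl)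

lemma frob_pow_mem_J (m : ℕ) (a : WittVector p R)
    (ha : a ∈ IV p R ⊔ Ideal.span {(p : WittVector p R)}) :
    ((WittVector.frobenius : WittVector p R →+* WittVector p R) ^ m) a ∈
      IV p R ⊔ Ideal.span {(p : WittVector p R)} := by
  rw [RingHom.coe_pow]
  induction m with
  | zero => exact ha
  | succ m ih => rw [Function.iterate_succ_apply']; exact frob_mem_J _ ih

lemma IV_le_ker : IV p R ≤ RingHom.ker (constantCoeff : WittVector p R →+* R) := by
  unfold IV
  rw [Ideal.span_le]
  rintro _ ⟨u, rfl⟩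
  exact verschiebung_coeff_zero u

lemma J_pow_le (hp : IsNilpotent (p : R)) (n : ℕ) :
    ∃ k, (IV p R ⊔ Ideal.span {(p : WittVector p R)}) ^ k ≤
      RingHom.ker (WittVector.truncate (p := p) (R := R) n) := by
  obtain ⟨h1, -, h3⟩ := Groth.Agent.Lib.WittTop.main p R hp
  obtain ⟨m2, hm2⟩ := h3 n
  obtain ⟨m1, hm1⟩ := h1 m2
  refine ⟨m1 + m2, ?_⟩
  calc (IV p R ⊔ Ideal.span {(p : WittVector p R)}) ^ (m1 + m2)
      ≤ (RingHom.ker (constantCoeff : WittVector p R →+* R) ⊔
          Ideal.span {(p : WittVector p R)}) ^ (m1 + m2) :=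
        Ideal.pow_right_mono (sup_le_sup_right IV_le_ker _) _
    _ ≤ RingHom.ker (constantCoeff : WittVector p R →+* R) ^ m1 ⊔
          Ideal.span {(p : WittVector p R)} ^ m2 := Ideal.sup_pow_add_le_pow_sup_pow
    _ ≤ Ideal.span {(p : WittVector p R)} ^ m2 := sup_le hm1 le_rfl
    _ ≤ RingHom.ker (WittVector.truncate (p := p) (R := R) n) := hm2

/-- powers of `J = I_R + pW` -/
theorem exists_vSharpPow_mem_pow
    (Vs : P →ₗ[WittVector p R] BC (WittVector.frobenius : WittVector p R →+* WittVector p R) P)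
    (hnil : IsVNilpotent Vs) (k : ℕ) :
    ∃ N : ℕ, ∀ x : P, vSharpPow Vs N x ∈
      ((IV p R ⊔ Ideal.span {(p : WittVector p R)}) ^ k) •
        (⊤ : Submodule (WittVector p R)
          (BC ((WittVector.frobenius : WittVector p R →+* WittVector p R) ^ (N + 1)) P)) := by
  obtain ⟨n0, hn0⟩ := hnil
  induction k with
  | zero =>
    exact ⟨0, fun x => by
      rw [pow_zero, Ideal.one_eq_top, Submodule.top_smul]; exact Submodule.mem_top⟩
  | succ k ih =>
    obtain ⟨N, hN⟩ := ih
    refine ⟨n0 + N + 1, ?_⟩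
    have h1 := star_mem (vSharpPow Vs n0) (vSharpPow Vs N)
      (IV p R ⊔ Ideal.span {(p : WittVector p R)})
      ((IV p R ⊔ Ideal.span {(p : WittVector p R)}) ^ k)
      (IV p R ⊔ Ideal.span {(p : WittVector p R)}) hn0 hN
      (fun a ha => frob_pow_mem_J (N + 1) a ha)
    have h2 := (vSharpPow_add Vs n0 N).symm.mem _ h1
    intro x
    exact Submodule.smul_mono (le_of_eq (pow_succ _ _).symm) le_rfl (h2 x)

theorem main16537 (hp : IsNilpotent (p : R))
    (Vs : P →ₗ[WittVector p R] BC (WittVector.frobenius : WittVector p R →+* WittVector p R) P)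
    (hnil : IsVNilpotent Vs) (n : ℕ) :
    ∃ N : ℕ, ∀ x : P, vSharpPow Vs N x ∈
      (RingHom.ker (WittVector.truncate (p := p) (R := R) n)) •
        (⊤ : Submodule (WittVector p R)
          (BC ((WittVector.frobenius : WittVector p R →+* WittVector p R) ^ (N + 1)) P)) := by
  obtain ⟨k, hk⟩ := J_pow_le hp n
  obtain ⟨N, hN⟩ := exists_vSharpPow_mem_pow Vs hnil k
  exact ⟨N, fun x => Submodule.smul_mono hk le_rfl (hN x)⟩

end Groth.Agent.Lib.DispNilp
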