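import Mathlib
import Groth.Prelude.Def_Disp2
import Groth.Agent.Lib.DispVSharp3_helper1

/-! Displays over a perfect ring (helper1): the 3n-display of a Dieudonné module is a display iff
`V` is topologically nilpotent (S16539). -/

set_option autoImplicit false
universe u v

namespace Groth.Agent.Lib.DispPerf

open Dieu W4c1extbt610 WittVector

section Tw

variable {A : Type u} [CommRing A]

/-- `M` with scalars acting through `τ` -/
def Tw (_τ : A →+* A) (M : Type v) : Type v := M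

variable (τ : A →+* A) (M : Type v) [AddCommGroup M] [Module A M]

instance : AddCommGroup (Tw τ M) := inferInstanceAs (AddCommGroup M)
instance : Module A (Tw τ M) := Module.compHom M τ

variable {τ M}

/-- underlying element -/
def Tw.val (t : Tw τ M) : M := t

lemma Tw.val_smul (a : A) (t : Tw τ M) : (a • t).val = τ a • t.val := rfl

/-- the identity `M → Tw τ M` is `σ`-semilinear when `τ ∘ σ = id` -/
def toTw (σ : A →+* A) (h : ∀ a, τ (σ a) = a) : M →ₛₗ[σ] Tw τ M where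
  toFun x := x
  map_add' _ _ := rfl
  map_smul' a x := by
    show a • x = τ (σ a) • x
    rw [h]

lemma toTw_val (σ : A →+* A) (h : ∀ a, τ (σ a) = a) (x : M) : (toTw σ h x).val = x := rfl

lemma val_lift_mem (σ : A →+* A) (h : ∀ a, τ (σ a) = a) (c : A) (hc : τ c = c) (z : BC σ M)
    (hz : z ∈ Ideal.span {c} • (⊤ : Submodule A (BC σ M))) :
    ∃ y : M, c • y = (BC.lift σ (toTw σ h) z).val := by
  rw [Submodule.ideal_span_singleton_smul] at hz
  obtain ⟨y, -, rfl⟩ := (Submodule.mem_smul_pointwise_iff_exists _ _ _).1 hz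
  refine ⟨(BC.lift σ (toTw σ h) y).val, ?_⟩
  rw [map_smul, Tw.val_smul, hc]

end Tw

section Witt

variable {p : ℕ} [Fact p.Prime] {k : Type u} [CommRing k] [CharP k p] [PerfectRing k p]
variable {M : Type v} [AddCommGroup M] [Module (WittVector p k) M]

local notation "σ" => (WittVector.frobenius : WittVector p k →+* WittVector p k)
local notation "τ" => ((RingEquiv.symm (WittVector.frobeniusEquiv p k)) : WittVector p k →+* WittVector p k)

lemma sigma_tau (w : WittVector p k) : σ (τ w) = w :=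
  (WittVector.frobeniusEquiv p k).apply_symm_apply w

lemma tau_sigma (w : WittVector p k) : τ (σ w) = w :=
  (WittVector.frobeniusEquiv p k).symm_apply_apply w

lemma tau_pow_sigma_pow (N : ℕ) (a : WittVector p k) : (τ ^ N) ((σ ^ N) a) = a := by
  rw [RingHom.coe_pow, RingHom.coe_pow]
  exact (Function.LeftInverse.iterate (tau_sigma (p := p) (k := k)) N) a

/-- the operator `V^#` of the display of a Dieudonné module: `x ↦ 1 ⊗ V x` -/
noncomputable def Vs (Dm : DieuMod p k M) : M →ₗ[WittVector p k] BC σ M where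
  toFun x := BC.tmul σ 1 (Dm.V x)
  map_add' x y := by rw [map_add, BC.tmul_add]
  map_smul' w x := by
    rw [RingHom.id_apply, Dm.V.map_smulₛₗ, ← BC.tmul_apply_eq σ, sigma_tau,
      BC.tmul_eq_smul_tmul_one σ w (Dm.V x)]

lemma Vs_apply (Dm : DieuMod p k M) (x : M) : Vs Dm x = BC.tmul σ 1 (Dm.V x) := rfl

theorem isVSharp (Dm : DieuMod p k M) (D : Display3n p k M) (hF : D.F = Dm.F)
    (hQ : ∀ x : M, x ∈ D.Q ↔ x ∈ Set.range Dm.V)
    (hV : ∀ (m : M) (h : Dm.V m ∈ D.Q), D.Vinv ⟨Dm.V m, h⟩ = m) : IsVSharp D (Vs Dm) where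
  app_smul_F w x := by
    rw [Vs_apply, hF, Dm.V.map_smulₛₗ, Dm.V_F, ← BC.tmul_apply_eq σ, sigma_tau,
      ← BC.tmul_mul_apply σ w, map_natCast, BC.smul_tmul, mul_comm]
  app_smul_Vinv w y := by
    obtain ⟨y, hyQ⟩ := y
    obtain ⟨m, rfl⟩ := (hQ y).1 hyQ
    rw [hV m hyQ, Vs_apply, Dm.V.map_smulₛₗ, ← BC.tmul_apply_eq σ, sigma_tau]

theorem vSharpPow_Vs (Dm : DieuMod p k M) (n : ℕ) (x : M) :
    vSharpPow (Vs Dm) n x = BC.tmul (σ ^ (n + 1)) 1 ((⇑Dm.V)^[n + 1] x) := by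
  induction n generalizing x with
  | zero =>
    rw [vSharpPow_zero_apply, Vs_apply, BC.castHom_tmul]
    rfl
  | succ n ih =>
    rw [vSharpPow_succ_apply, Vs_apply, BC.map_tmul, ih, BC.lift_tmul, one_smul, BC.push_tmul,
      BC.castHom_tmul, map_one, ← Function.iterate_succ_apply]

lemma IV_le : IV p k ≤ Ideal.span {(p : WittVector p k)} := by
  unfold IV
  rw [Ideal.span_le]
  rintro _ ⟨u, rfl⟩
  have h := verschiebung_frobenius (τ u)
  rw [sigma_tau] at h
  rw [SetLike.mem_coe, h]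
  exact Ideal.mul_mem_left _ _ (Ideal.subset_span rfl)

lemma V_iter_smul (Dm : DieuMod p k M) (j e : ℕ) (y : M) :
    (⇑Dm.V)^[j] (((p : WittVector p k) ^ e) • y) = ((p : WittVector p k) ^ e) • (⇑Dm.V)^[j] y := by
  induction j with
  | zero => rfl
  | succ j ih =>
    rw [Function.iterate_succ_apply', Function.iterate_succ_apply', ih, Dm.V.map_smulₛₗ, map_pow,
      map_natCast]

theorem vTopNilp_of_isDisplay (Dm : DieuMod p k M) (D : Display3n p k M) (hF : D.F = Dm.F)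
    (hQ : ∀ x : M, x ∈ D.Q ↔ x ∈ Set.range Dm.V)
    (hV : ∀ (m : M) (h : Dm.V m ∈ D.Q), D.Vinv ⟨Dm.V m, h⟩ = m) (h : IsDisplay D) :
    Dm.VTopNilp := by
  obtain ⟨Vs', hVs', n, hn⟩ := h
  have hEq : Vs' = Vs Dm :=
    Groth.Agent.Lib.DispVSharp.vSharp_unique D _ _ hVs' (isVSharp Dm D hF hQ hV)
  subst hEq
  have hN : ∀ m : M, ∃ y : M, (p : WittVector p k) • y = (⇑Dm.V)^[n + 1] m := by
    intro m
    have h1 := hn m
    rw [vSharpPow_Vs] at h1
    have h2 : BC.tmul (σ ^ (n + 1)) 1 ((⇑Dm.V)^[n + 1] m) ∈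
        Ideal.span {(p : WittVector p k)} •
          (⊤ : Submodule (WittVector p k) (BC (σ ^ (n + 1)) M)) :=
      Submodule.smul_mono (sup_le IV_le le_rfl) le_rfl h1
    obtain ⟨y, hy⟩ := val_lift_mem (σ ^ (n + 1)) (tau_pow_sigma_pow (n + 1))
      (p : WittVector p k) (map_natCast _ p) _ h2
    refine ⟨y, ?_⟩
    rw [hy, BC.lift_tmul, one_smul, toTw_val]
  have hE : ∀ e : ℕ, ∀ m : M,
      ∃ y : M, ((p : WittVector p k) ^ e) • y = (⇑Dm.V)^[(n + 1) * e] m := by
    intro e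
    induction e with
    | zero =>
      intro m
      exact ⟨m, by rw [pow_zero, one_smul, mul_zero]; rfl⟩
    | succ e ih =>
      intro m
      obtain ⟨y, hy⟩ := hN m
      obtain ⟨y', hy'⟩ := ih y
      refine ⟨y', ?_⟩
      have h1 := V_iter_smul Dm ((n + 1) * e) 1 y
      rw [pow_one] at h1
      rw [mul_add, mul_one, Function.iterate_add_apply, ← hy, h1, ← hy', ← mul_smul, ← pow_succ']
  intro e
  refine ⟨(n + 1) * e, fun m => ?_⟩
  obtain ⟨y, hy⟩ := hE e m
  rw [← hy, Ideal.span_singleton_pow, Submodule.ideal_span_singleton_smul]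
  exact Submodule.smul_mem_pointwise_smul _ _ _ Submodule.mem_top

theorem isDisplay_of_vTopNilp (Dm : DieuMod p k M) (D : Display3n p k M) (hF : D.F = Dm.F)
    (hQ : ∀ x : M, x ∈ D.Q ↔ x ∈ Set.range Dm.V)
    (hV : ∀ (m : M) (h : Dm.V m ∈ D.Q), D.Vinv ⟨Dm.V m, h⟩ = m) (h : Dm.VTopNilp) :
    IsDisplay D := by
  obtain ⟨n, hn⟩ := h 1
  refine ⟨Vs Dm, isVSharp Dm D hF hQ hV, n, fun x => ?_⟩
  rw [vSharpPow_Vs, Function.iterate_succ_apply]
  have h1 := hn (Dm.V x)
  rw [pow_one, Submodule.ideal_span_singleton_smul] at h1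
  obtain ⟨y, -, hy⟩ := (Submodule.mem_smul_pointwise_iff_exists _ _ _).1 h1
  rw [← hy, ← BC.tmul_apply_eq, map_natCast, BC.tmul_eq_smul_tmul_one]
  exact Submodule.smul_mem_smul (Ideal.mem_sup_right (Ideal.subset_span rfl)) Submodule.mem_top

theorem main16539 (Dm : DieuMod p k M) (D : Display3n p k M) (hF : D.F = Dm.F)
    (hQ : ∀ x : M, x ∈ D.Q ↔ x ∈ Set.range Dm.V)
    (hV : ∀ (m : M) (h : Dm.V m ∈ D.Q), D.Vinv ⟨Dm.V m, h⟩ = m) :
    IsDisplay D ↔ Dm.VTopNilp :=
  ⟨vTopNilp_of_isDisplay Dm D hF hQ hV, isDisplay_of_vTopNilp Dm D hF hQ hV⟩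

end Witt

end Groth.Agent.Lib.DispPerf
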