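import Mathlib
import Groth.Prelude.Def_Disp2
import Groth.Agent.Lib.DispBCx2_helper1

/-! Witt vectors with components in an ideal (helper1): `W(b)`, additivity of the Witt
components modulo `b²`, Frobenius on `W(b)`, the shift operator modulo `W(b')`, and
`p`-torsion Witt vectors. -/

set_option autoImplicit false
universe u v

namespace Groth.Agent.Lib.DispWa

open Dieu W4c1extbt610 WittVector Groth.Agent.Lib.DispNormal Groth.Agent.Lib.DispBCx

variable {p : ℕ} [Fact p.Prime] {S : Type u} [CommRing S]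

/-- `W(b)`: Witt vectors all of whose components lie in the ideal `b` -/
noncomputable def Wa (p : ℕ) [Fact p.Prime] {S : Type u} [CommRing S] (b : Ideal S) :
    Ideal (WittVector p S) :=
  RingHom.ker (WittVector.map (Ideal.Quotient.mk b) : WittVector p S →+* WittVector p (S ⧸ b))

lemma mem_Wa {b : Ideal S} {x : WittVector p S} : x ∈ Wa p b ↔ ∀ n, x.coeff n ∈ b := by
  rw [Wa, RingHom.mem_ker, WittVector.ext_iff]
  refine forall_congr' fun n => ?_
  rw [WittVector.map_coeff, WittVector.zero_coeff, Ideal.Quotient.eq_zero_iff_mem]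

lemma Wa_mono {b b' : Ideal S} (h : b ≤ b') : Wa p b ≤ Wa p b' := fun _ hx =>
  mem_Wa.2 fun n => h (mem_Wa.1 hx n)

lemma Wa_bot : Wa p (⊥ : Ideal S) = ⊥ := by
  rw [eq_bot_iff]
  intro x hx
  rw [Ideal.mem_bot]
  ext n
  rw [WittVector.zero_coeff]
  exact (Ideal.mem_bot).1 (mem_Wa.1 hx n)

lemma verschiebung_mem_Wa {b : Ideal S} {x : WittVector p S} (hx : x ∈ Wa p b) :
    verschiebung x ∈ Wa p b := by
  rw [mem_Wa] at hx ⊢
  intro n
  cases n with
  | zero => rw [verschiebung_coeff_zero]; exact zero_mem _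
  | succ n => rw [verschiebung_coeff_succ]; exact hx n

lemma shift_mem_Wa {b : Ideal S} {x : WittVector p S} (hx : x ∈ Wa p b) :
    x.shift 1 ∈ Wa p b := by
  rw [mem_Wa] at hx ⊢
  intro n
  rw [shift_coeff]
  exact hx _

lemma teichmuller_mem_Wa {b : Ideal S} {a : S} (ha : a ∈ b) : teichmuller p a ∈ Wa p b := by
  rw [mem_Wa]
  intro n
  cases n with
  | zero => rw [teichmuller_coeff_zero]; exact ha
  | succ n => rw [teichmuller_coeff_pos p a (n + 1) (Nat.succ_pos n)]; exact zero_mem _

lemma frobenius_mem_Wa {b : Ideal S} {x : WittVector p S} (hx : x ∈ Wa p b) :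
    frobenius x ∈ Wa p b := by
  rw [Wa, RingHom.mem_ker] at hx ⊢
  rw [Groth.Agent.Lib.DispBC.map_frob, hx, map_zero]

lemma ker_map_eq {R : Type u} [CommRing R] (f : S →+* R) :
    RingHom.ker (WittVector.map f : WittVector p S →+* WittVector p R) = Wa p (RingHom.ker f) := by
  ext x
  rw [RingHom.mem_ker, mem_Wa, WittVector.ext_iff]
  refine forall_congr' fun n => ?_
  rw [WittVector.map_coeff, WittVector.zero_coeff, RingHom.mem_ker]

/-! ### second-order differences of polynomial values -/

/-- `A1 ≡ A0`, `A2 ≡ A0` modulo `b` and `A3 - A1 - A2 + A0 ≡ 0` modulo `b²` -/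
def Quad (b : Ideal S) (A0 A1 A2 A3 : S) : Prop :=
  A1 - A0 ∈ b ∧ A2 - A0 ∈ b ∧ A3 - A1 - A2 + A0 ∈ b * b

lemma Quad.const (b : Ideal S) (c : S) : Quad b c c c c := by
  refine ⟨?_, ?_, ?_⟩
  · rw [sub_self]; exact zero_mem _
  · rw [sub_self]; exact zero_mem _
  · have h : c - c - c + c = 0 := by ring
    rw [h]; exact zero_mem _

lemma Quad.left {b : Ideal S} {t : S} (ht : t ∈ b) : Quad b 0 t 0 t := by
  refine ⟨?_, ?_, ?_⟩
  · rw [sub_zero]; exact ht
  · rw [sub_zero]; exact zero_mem _
  · have h : t - t - 0 + 0 = 0 := by ring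
    rw [h]; exact zero_mem _

lemma Quad.right {b : Ideal S} {t : S} (ht : t ∈ b) : Quad b 0 0 t t := by
  refine ⟨?_, ?_, ?_⟩
  · rw [sub_zero]; exact zero_mem _
  · rw [sub_zero]; exact ht
  · have h : t - 0 - t + 0 = 0 := by ring
    rw [h]; exact zero_mem _

lemma Quad.add {b : Ideal S} {A0 A1 A2 A3 B0 B1 B2 B3 : S} (hA : Quad b A0 A1 A2 A3)
    (hB : Quad b B0 B1 B2 B3) : Quad b (A0 + B0) (A1 + B1) (A2 + B2) (A3 + B3) := by
  obtain ⟨a1, a2, a3⟩ := hA
  obtain ⟨b1, b2, b3⟩ := hB
  refine ⟨?_, ?_, ?_⟩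
  · have h : A1 + B1 - (A0 + B0) = (A1 - A0) + (B1 - B0) := by ring
    rw [h]; exact add_mem a1 b1
  · have h : A2 + B2 - (A0 + B0) = (A2 - A0) + (B2 - B0) := by ring
    rw [h]; exact add_mem a2 b2
  · have h : A3 + B3 - (A1 + B1) - (A2 + B2) + (A0 + B0) =
        (A3 - A1 - A2 + A0) + (B3 - B1 - B2 + B0) := by ring
    rw [h]; exact add_mem a3 b3

lemma Quad.mul {b : Ideal S} {A0 A1 A2 A3 B0 B1 B2 B3 : S} (hA : Quad b A0 A1 A2 A3)
    (hB : Quad b B0 B1 B2 B3) : Quad b (A0 * B0) (A1 * B1) (A2 * B2) (A3 * B3) := by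
  obtain ⟨a1, a2, a3⟩ := hA
  obtain ⟨b1, b2, b3⟩ := hB
  refine ⟨?_, ?_, ?_⟩
  · have h : A1 * B1 - A0 * B0 = (A1 - A0) * B1 + A0 * (B1 - B0) := by ring
    rw [h]; exact add_mem (Ideal.mul_mem_right _ _ a1) (Ideal.mul_mem_left _ _ b1)
  · have h : A2 * B2 - A0 * B0 = (A2 - A0) * B2 + A0 * (B2 - B0) := by ring
    rw [h]; exact add_mem (Ideal.mul_mem_right _ _ a2) (Ideal.mul_mem_left _ _ b2)
  · have h : A3 * B3 - A1 * B1 - A2 * B2 + A0 * B0 =
        A0 * (B3 - B1 - B2 + B0) + (A3 - A1 - A2 + A0) * B0 + (A1 - A0) * (B2 - B0) +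
          (A2 - A0) * (B1 - B0) + (A1 - A0) * (B3 - B1 - B2 + B0) +
          (A2 - A0) * (B3 - B1 - B2 + B0) + (A3 - A1 - A2 + A0) * (B1 - B0) +
          (A3 - A1 - A2 + A0) * (B2 - B0) + (A3 - A1 - A2 + A0) * (B3 - B1 - B2 + B0) := by
      ring
    rw [h]
    refine add_mem (add_mem (add_mem (add_mem (add_mem (add_mem (add_mem (add_mem ?_ ?_) ?_) ?_)
      ?_) ?_) ?_) ?_) ?_
    · exact Ideal.mul_mem_left _ _ b3
    · exact Ideal.mul_mem_right _ _ a3
    · exact Ideal.mul_mem_mul a1 b2
    · exact Ideal.mul_mem_mul a2 b1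
    · exact Ideal.mul_mem_left _ _ b3
    · exact Ideal.mul_mem_left _ _ b3
    · exact Ideal.mul_mem_right _ _ a3
    · exact Ideal.mul_mem_right _ _ a3
    · exact Ideal.mul_mem_left _ _ b3

lemma quad_aeval {σ : Type*} (b : Ideal S) (g0 g1 g2 g3 : σ → S)
    (h : ∀ i, Quad b (g0 i) (g1 i) (g2 i) (g3 i)) (φ : MvPolynomial σ ℤ) :
    Quad b (MvPolynomial.aeval g0 φ) (MvPolynomial.aeval g1 φ) (MvPolynomial.aeval g2 φ)
      (MvPolynomial.aeval g3 φ) := by
  induction φ using MvPolynomial.induction_on with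
  | C a =>
    simp only [MvPolynomial.aeval_C]
    exact Quad.const b _
  | add φ ψ hφ hψ =>
    simp only [map_add]
    exact hφ.add hψ
  | mul_X φ i hφ =>
    simp only [map_mul, MvPolynomial.aeval_X]
    exact hφ.mul (h i)

/-! ### Teichmüller representatives and the shift -/

lemma eq_teich_add_V (c : WittVector p S) :
    c = teichmuller p (c.coeff 0) + verschiebung (c.shift 1) := by
  ext n
  rw [coeff_add_of_disjoint]
  · cases n with
    | zero => rw [teichmuller_coeff_zero, verschiebung_coeff_zero, add_zero]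
    | succ n =>
      rw [teichmuller_coeff_pos p _ (n + 1) (Nat.succ_pos n), verschiebung_coeff_succ,
        shift_coeff, zero_add, add_comm]
  · intro k
    cases k with
    | zero => right; exact verschiebung_coeff_zero _
    | succ k => left; exact teichmuller_coeff_pos p _ (k + 1) (Nat.succ_pos k)

lemma shift_teich_add_V (a : S) (y : WittVector p S) :
    (teichmuller p a + verschiebung y).shift 1 = y := by
  ext n
  rw [shift_coeff, coeff_add_of_disjoint, add_comm 1 n,
    teichmuller_coeff_pos p a (n + 1) (Nat.succ_pos n), verschiebung_coeff_succ, zero_add]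
  intro k
  cases k with
  | zero => right; exact verschiebung_coeff_zero _
  | succ k => left; exact teichmuller_coeff_pos p _ (k + 1) (Nat.succ_pos k)

lemma quad_uncurry (b : Ideal S) (x y : ℕ → S) (hx : ∀ k, x k ∈ b) (hy : ∀ k, y k ∈ b)
    (i : Fin 2 × ℕ) :
    Quad b (Function.uncurry ![(fun _ => (0 : S)), (fun _ => (0 : S))] i)
      (Function.uncurry ![x, (fun _ => (0 : S))] i)
      (Function.uncurry ![(fun _ => (0 : S)), y] i) (Function.uncurry ![x, y] i) := by
  obtain ⟨i, k⟩ := i
  fin_cases i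
  · exact Quad.left (hx k)
  · exact Quad.right (hy k)

lemma teich_add_coeff_succ {b : Ideal S} {a a' : S} (ha : a ∈ b) (ha' : a' ∈ b) (n : ℕ) :
    (teichmuller p a + teichmuller p a').coeff (n + 1) ∈ b * b := by
  have h0 : (0 : WittVector p S).coeff = fun _ => (0 : S) := by
    funext k
    exact zero_coeff p S k
  obtain ⟨-, -, h3⟩ := quad_aeval b _ _ _ _
    (quad_uncurry b (teichmuller p a).coeff (teichmuller p a').coeff
      (mem_Wa.1 (teichmuller_mem_Wa ha)) (mem_Wa.1 (teichmuller_mem_Wa ha')))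
    (wittAdd p (n + 1))
  have e0 : MvPolynomial.aeval
      (Function.uncurry ![(fun _ => (0 : S)), (fun _ => (0 : S))])
      (wittAdd p (n + 1)) = 0 := by
    have h := add_coeff (0 : WittVector p S) 0 (n + 1)
    rw [add_zero, zero_coeff, h0] at h
    exact h.symm
  have e1 : MvPolynomial.aeval
      (Function.uncurry ![(teichmuller p a).coeff, (fun _ => (0 : S))])
      (wittAdd p (n + 1)) = 0 := by
    have h := add_coeff (teichmuller p a) (0 : WittVector p S) (n + 1)
    rw [add_zero, teichmuller_coeff_pos p a (n + 1) (Nat.succ_pos n), h0] at h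
    exact h.symm
  have e2 : MvPolynomial.aeval
      (Function.uncurry ![(fun _ => (0 : S)), (teichmuller p a').coeff])
      (wittAdd p (n + 1)) = 0 := by
    have h := add_coeff (0 : WittVector p S) (teichmuller p a') (n + 1)
    rw [zero_add, teichmuller_coeff_pos p a' (n + 1) (Nat.succ_pos n), h0] at h
    exact h.symm
  have e3 : MvPolynomial.aeval
      (Function.uncurry ![(teichmuller p a).coeff, (teichmuller p a').coeff])
      (wittAdd p (n + 1)) = (teichmuller p a + teichmuller p a').coeff (n + 1) :=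
    (add_coeff _ _ _).symm
  rw [e0, e1, e2, e3, sub_zero, sub_zero, add_zero] at h3
  exact h3

lemma exists_teich_add {b : Ideal S} {a a' : S} (ha : a ∈ b) (ha' : a' ∈ b) :
    ∃ δ ∈ Wa p (b * b),
      teichmuller p a + teichmuller p a' = teichmuller p (a + a') + verschiebung δ := by
  refine ⟨(teichmuller p a + teichmuller p a').shift 1, ?_, ?_⟩
  · rw [mem_Wa]
    intro n
    rw [shift_coeff, add_comm 1 n]
    exact teich_add_coeff_succ ha ha' n
  · have h := eq_teich_add_V (teichmuller p a + teichmuller p a')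
    rw [add_coeff_zero, teichmuller_coeff_zero, teichmuller_coeff_zero] at h
    exact h

/-- the shift is additive modulo `W(b²)` on Witt vectors with zeroth component in `b` -/
lemma shift_add_sub {b : Ideal S} {c c' : WittVector p S} (hc : c.coeff 0 ∈ b)
    (hc' : c'.coeff 0 ∈ b) :
    (c + c').shift 1 - c.shift 1 - c'.shift 1 ∈ Wa p (b * b) := by
  obtain ⟨δ, hδ, hδe⟩ := exists_teich_add (p := p) hc hc'
  have e1 := eq_teich_add_V c
  have e2 := eq_teich_add_V c'
  have hv : ∀ x y : WittVector p S, verschiebung (x + y) = verschiebung x + verschiebung y :=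
    fun x y => map_add _ x y
  have e : c + c' = teichmuller p (c.coeff 0 + c'.coeff 0) +
      verschiebung (δ + c.shift 1 + c'.shift 1) := by
    calc c + c' = (teichmuller p (c.coeff 0) + verschiebung (c.shift 1)) +
          (teichmuller p (c'.coeff 0) + verschiebung (c'.shift 1)) := by rw [← e1, ← e2]
      _ = (teichmuller p (c.coeff 0) + teichmuller p (c'.coeff 0)) +
          (verschiebung (c.shift 1) + verschiebung (c'.shift 1)) := by abel
      _ = teichmuller p (c.coeff 0 + c'.coeff 0) + verschiebung δ +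
          (verschiebung (c.shift 1) + verschiebung (c'.shift 1)) := by rw [hδe]
      _ = _ := by rw [hv, hv]; abel
  rw [e, shift_teich_add_V]
  have h3 : δ + c.shift 1 + c'.shift 1 - c.shift 1 - c'.shift 1 = δ := by abel
  rw [h3]
  exact hδ

/-- the shift is Frobenius-semilinear modulo `W(b')` on Witt vectors with zeroth component in
`b`, when Frobenius maps `W(b)` to `W(b')` -/
lemma shift_mul_sub {b b' : Ideal S} (hF : ∀ ξ ∈ Wa p b, frobenius ξ ∈ Wa p b')
    (w : WittVector p S) {c : WittVector p S} (hc : c.coeff 0 ∈ b) :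
    (w * c).shift 1 - frobenius w * c.shift 1 ∈ Wa p b' := by
  have e1 := eq_teich_add_V c
  have e2 := eq_teich_add_V w
  have h1 : w * verschiebung (c.shift 1) = verschiebung (frobenius w * c.shift 1) := by
    rw [mul_comm (frobenius w), verschiebung_mul_frobenius, mul_comm]
  have h2 : verschiebung (w.shift 1) * teichmuller p (c.coeff 0) =
      verschiebung (w.shift 1 * frobenius (teichmuller p (c.coeff 0))) := by
    rw [verschiebung_mul_frobenius]
  have e : w * c = teichmuller p (w.coeff 0 * c.coeff 0) +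
      verschiebung (w.shift 1 * frobenius (teichmuller p (c.coeff 0)) +
        frobenius w * c.shift 1) := by
    calc w * c = w * (teichmuller p (c.coeff 0) + verschiebung (c.shift 1)) := by rw [← e1]
      _ = w * teichmuller p (c.coeff 0) + verschiebung (frobenius w * c.shift 1) := by
        rw [mul_add, h1]
      _ = (teichmuller p (w.coeff 0) + verschiebung (w.shift 1)) * teichmuller p (c.coeff 0) +
          verschiebung (frobenius w * c.shift 1) := by rw [← e2]
      _ = _ := by
        have hv : ∀ x y : WittVector p S,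
            verschiebung (x + y) = verschiebung x + verschiebung y := fun x y => map_add _ x y
        rw [add_mul, ← map_mul (teichmuller p) (w.coeff 0) (c.coeff 0), h2, hv]
        abel
  rw [e, shift_teich_add_V]
  have h3 : w.shift 1 * frobenius (teichmuller p (c.coeff 0)) + frobenius w * c.shift 1 -
      frobenius w * c.shift 1 = w.shift 1 * frobenius (teichmuller p (c.coeff 0)) := by abel
  rw [h3]
  exact Ideal.mul_mem_left _ _ (hF _ (teichmuller_mem_Wa hc))

/-! ### Frobenius on `W(b)` -/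

lemma constantCoeff_frobeniusPolyAux (n : ℕ) :
    MvPolynomial.constantCoeff (frobeniusPolyAux p n) = 0 := by
  have h := coeff_frobenius (0 : WittVector p ℤ) n
  have h0 : (0 : WittVector p ℤ).coeff = fun _ => (0 : ℤ) := by
    funext k
    exact zero_coeff p ℤ k
  rw [map_zero, zero_coeff, h0, MvPolynomial.aeval_zero', frobeniusPoly, map_add, map_pow, map_mul,
    MvPolynomial.constantCoeff_X, MvPolynomial.constantCoeff_C,
    zero_pow (Fact.out : p.Prime).ne_zero, zero_add] at h
  have h' : (p : ℤ) * MvPolynomial.constantCoeff (frobeniusPolyAux p n) = 0 := by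
    simpa using h.symm
  rcases mul_eq_zero.1 h' with h1 | h1
  · exact absurd h1 (by exact_mod_cast (Fact.out : p.Prime).ne_zero)
  · exact h1

lemma frobenius_mem_Wa' {b b' : Ideal S} (h2 : b * b ≤ b') (hpb : ∀ a ∈ b, (p : S) * a ∈ b')
    {ξ : WittVector p S} (hξ : ξ ∈ Wa p b) : frobenius ξ ∈ Wa p b' := by
  rw [mem_Wa] at hξ ⊢
  intro n
  rw [coeff_frobenius, frobeniusPoly, map_add, map_pow, map_mul, MvPolynomial.aeval_X,
    MvPolynomial.aeval_C]
  refine add_mem ?_ ?_
  · have hp2 : 2 ≤ p := (Fact.out : p.Prime).two_le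
    obtain ⟨k, hk⟩ := Nat.exists_eq_add_of_le hp2
    have h4 : ξ.coeff n ^ p = ξ.coeff n * ξ.coeff n * ξ.coeff n ^ k := by
      rw [← pow_two, ← pow_add, ← hk]
    rw [h4]
    exact h2 (Ideal.mul_mem_right _ _ (Ideal.mul_mem_mul (hξ n) (hξ n)))
  · have hq := (quad_aeval b (fun _ => (0 : S)) ξ.coeff (fun _ => 0) ξ.coeff
      (fun i => Quad.left (hξ i)) (frobeniusPolyAux p n)).1
    rw [MvPolynomial.aeval_zero', constantCoeff_frobeniusPolyAux, map_zero, sub_zero] at hq
    have h3 : (algebraMap ℤ S) (p : ℤ) = (p : S) := by simp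
    rw [h3]
    exact hpb _ hq

lemma J_mul_mem {b b' : Ideal S} (hF : ∀ ξ ∈ Wa p b, frobenius ξ ∈ Wa p b')
    {j ξ : WittVector p S} (hj : j ∈ IV p S ⊔ Ideal.span {(p : WittVector p S)})
    (hξ : ξ ∈ Wa p b) : j * ξ ∈ Wa p b' := by
  obtain ⟨i, hi, c, hc, rfl⟩ := Submodule.mem_sup.1 hj
  obtain ⟨u, rfl⟩ := exists_eq_verschiebung_of_mem_IV i hi
  obtain ⟨c', rfl⟩ := Ideal.mem_span_singleton'.1 hc
  rw [add_mul]
  refine add_mem ?_ ?_
  · rw [← verschiebung_mul_frobenius]
    exact verschiebung_mem_Wa (Ideal.mul_mem_left _ _ (hF ξ hξ))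
  · have h : c' * (p : WittVector p S) * ξ = c' * frobenius (verschiebung ξ) := by
      rw [frobenius_verschiebung]; ring
    rw [h]
    exact Ideal.mul_mem_left _ _ (hF _ (verschiebung_mem_Wa hξ))

/-! ### `p`-torsion Witt vectors -/

lemma mem_Wa_nilradical_of_p_mul_eq_zero (hp : IsNilpotent (p : S)) {x : WittVector p S}
    (hx : (p : WittVector p S) * x = 0) : x ∈ Wa p (nilradical S) := by
  rw [Wa, RingHom.mem_ker]
  have hy : (p : WittVector p (S ⧸ nilradical S)) *
      (WittVector.map (Ideal.Quotient.mk (nilradical S)) x) = 0 := by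
    have := congrArg (WittVector.map (Ideal.Quotient.mk (nilradical S)) :
      WittVector p S →+* WittVector p (S ⧸ nilradical S)) hx
    rwa [map_mul, map_natCast, map_zero] at this
  have hred : IsReduced (S ⧸ nilradical S) :=
    (Ideal.isRadical_iff_quotient_reduced (nilradical S)).1 (Ideal.radical_isRadical _)
  rcases subsingleton_or_nontrivial (S ⧸ nilradical S) with hs | hs
  · ext n
    exact Subsingleton.elim _ _
  · have hp0 : ((p : ℕ) : S ⧸ nilradical S) = 0 := by
      have h : (Ideal.Quotient.mk (nilradical S)) (p : S) = 0 :=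
        Ideal.Quotient.eq_zero_iff_mem.2 (mem_nilradical.2 hp)
      rwa [map_natCast] at h
    haveI : CharP (S ⧸ nilradical S) p :=
      ringChar.of_eq (CharP.ringChar_of_prime_eq_zero Fact.out hp0)
    ext n
    rw [zero_coeff]
    have h1 := mul_charP_coeff_succ (WittVector.map (Ideal.Quotient.mk (nilradical S)) x) n
    rw [mul_comm, hy, zero_coeff] at h1
    exact IsNilpotent.eq_zero ⟨p, h1.symm⟩

end Groth.Agent.Lib.DispWa
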