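import Mathlib
import Groth.Prelude.Def_Disp2
import Groth.Agent.Lib.DispWa_helper1
import Groth.Agent.Lib.DispStar_helper1

/-! Rigidity of homomorphisms of displays along nilpotent thickenings (helper1): the extension of
`V⁻¹` to `W(b)P'` modulo `W(b')P'`, the fixed-point formula `u = (V⁻ᴺ)^# ∘ (1 ⊗ u) ∘ V^{N#}`, and
its consequences (S16544, injectivity part of S16543). -/

set_option autoImplicit false
universe u v w

namespace Groth.Agent.Lib.DispRig

open Dieu W4c1extbt610 WittVector Groth.Agent.Lib.DispNormal Groth.Agent.Lib.DispBCx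
  Groth.Agent.Lib.DispWa Groth.Agent.Lib.DispStar

section GP

variable {A : Type u} [CommRing A] {P : Type v} [AddCommGroup P] [Module A P]
variable {N : Type w} [AddCommGroup N] [Module A N]

/-- composite of two semilinear endomorphisms -/
noncomputable def compSL {k h : A →+* A} (Φ : N →ₛₗ[k] N) (Ψ : N →ₛₗ[h] N) :
    N →ₛₗ[h.comp k] N where
  toFun z := Ψ (Φ z)
  map_add' x y := by rw [map_add, map_add]
  map_smul' a x := by rw [Φ.map_smulₛₗ, Ψ.map_smulₛₗ]; rfl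

/-- `U = Φ^# ∘ (1 ⊗ U) ∘ ψ` -/
def Fix (U : P →ₗ[A] N) {k : A →+* A} (ψ : P →ₗ[A] BC k P) (Φ : N →ₛₗ[k] N) : Prop :=
  ∀ x, BC.lift k (Φ.comp U) (ψ x) = U x

lemma Fix.star {U : P →ₗ[A] N} {k h : A →+* A} {ψ : P →ₗ[A] BC k P} {φ : P →ₗ[A] BC h P}
    {Φ : N →ₛₗ[k] N} {Ψ : N →ₛₗ[h] N} (hψ : Fix U ψ Φ) (hφ : Fix U φ Ψ) :
    Fix U (DispStar.star ψ φ) (compSL Φ Ψ) := by
  have key1 : ∀ (a : A) (ξ : BC k P),
      BC.lift (h.comp k) ((compSL Φ Ψ).comp U) (coll k h (BC.tmul h a ξ)) =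
        a • Ψ (BC.lift k (Φ.comp U) ξ) := by
    intro a ξ
    induction ξ using BC.induction_on k with
    | zero => simp only [BC.tmul_zero, map_zero, smul_zero]
    | tmul v z =>
      rw [coll_tmul_tmul, BC.lift_tmul, BC.lift_tmul, Ψ.map_smulₛₗ, mul_smul]
      rfl
    | add ξ₁ ξ₂ h₁ h₂ => simp only [BC.tmul_add, map_add, smul_add, h₁, h₂]
  have key2 : ∀ ζ : BC h P,
      BC.lift (h.comp k) ((compSL Φ Ψ).comp U) (coll k h (BC.map h ψ ζ)) =
        BC.lift h (Ψ.comp U) ζ := by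
    intro ζ
    induction ζ using BC.induction_on h with
    | zero => simp only [map_zero]
    | tmul a y =>
      rw [BC.map_tmul, key1, hψ y, BC.lift_tmul]
      rfl
    | add ζ₁ ζ₂ h₁ h₂ => simp only [map_add, h₁, h₂]
  intro x
  rw [star_apply, key2, hφ x]

lemma Fix.ce {U : P →ₗ[A] N} {k k' : A →+* A} {ψ : P →ₗ[A] BC k P} {ψ' : P →ₗ[A] BC k' P}
    {Φ : N →ₛₗ[k] N} (h : CE ψ ψ') (hψ : Fix U ψ Φ) : ∃ Φ' : N →ₛₗ[k'] N, Fix U ψ' Φ' := by
  obtain ⟨e, rfl⟩ := h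
  subst e
  exact ⟨Φ, fun x => hψ x⟩

theorem eq_zero_of_fix {U : P →ₗ[A] N} {k : A →+* A} {ψ : P →ₗ[A] BC k P} {Θ : N →ₛₗ[k] N}
    (hfix : Fix U ψ Θ) (I : Ideal A) (hI : ∀ j ∈ I, ∀ m : N, j • m = 0)
    (hmem : ∀ x, ψ x ∈ I • (⊤ : Submodule A (BC k P))) (x : P) : U x = 0 := by
  rw [← hfix x]
  refine Submodule.smul_induction_on (hmem x) (fun a ha y _ => ?_) (fun y z hy hz => ?_)
  · rw [map_smul]; exact hI a ha _
  · rw [map_add, hy, hz, add_zero]

end GP

section Iter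

variable {p : ℕ} [Fact p.Prime] {R : Type u} [CommRing R]
variable {P : Type v} [AddCommGroup P] [Module (WittVector p R) P]
variable {N : Type w} [AddCommGroup N] [Module (WittVector p R) N]

theorem fix_vSharpPow (U : P →ₗ[WittVector p R] N)
    (Vs : P →ₗ[WittVector p R] BC (WittVector.frobenius : WittVector p R →+* WittVector p R) P)
    (Φ : N →ₛₗ[(WittVector.frobenius : WittVector p R →+* WittVector p R)] N)
    (h : Fix U Vs Φ) (n : ℕ) :
    ∃ Θ : N →ₛₗ[(WittVector.frobenius : WittVector p R →+* WittVector p R) ^ (n + 1)] N,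
      Fix U (vSharpPow Vs n) Θ := by
  induction n with
  | zero => exact Fix.ce (CE_vSharpPow_zero Vs) h
  | succ n ih =>
    obtain ⟨Θ, hΘ⟩ := ih
    exact Fix.ce (CE_vSharpPow_succ Vs n) (hΘ.star h)

end Iter

section Mod

variable {p : ℕ} [Fact p.Prime] {S : Type u} [CommRing S]

/-- `W(b) M` -/
noncomputable def Kb (p : ℕ) [Fact p.Prime] {S : Type u} [CommRing S] (M : Type v)
    [AddCommGroup M] [Module (WittVector p S) M] (b : Ideal S) :
    Submodule (WittVector p S) M :=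
  Wa p b • (⊤ : Submodule (WittVector p S) M)

variable {P' : Type v} [AddCommGroup P'] [Module (WittVector p S) P']

lemma Kb_mono {b b' : Ideal S} (h : b ≤ b') : Kb p P' b ≤ Kb p P' b' :=
  Submodule.smul_mono (Wa_mono h) le_rfl

lemma Kb_bot : Kb p P' (⊥ : Ideal S) = ⊥ := by
  rw [Kb, Wa_bot, Submodule.bot_smul]

lemma smul_mem_Kb {b : Ideal S} {a : WittVector p S} (ha : a ∈ Wa p b) (x : P') :
    a • x ∈ Kb p P' b :=
  Submodule.smul_mem_smul ha Submodule.mem_top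

lemma lin_mem_Wa {b : Ideal S} (φ : P' →ₗ[WittVector p S] WittVector p S) {x : P'}
    (hx : x ∈ Kb p P' b) : φ x ∈ Wa p b := by
  refine Submodule.smul_induction_on hx (fun a ha y _ => ?_) (fun y z hy hz => ?_)
  · rw [map_smul, smul_eq_mul]; exact Ideal.mul_mem_right _ _ ha
  · rw [map_add]; exact add_mem hy hz

lemma J_smul_mem {b b' : Ideal S} (hF : ∀ ξ ∈ Wa p b, frobenius ξ ∈ Wa p b')
    {j : WittVector p S} (hj : j ∈ IV p S ⊔ Ideal.span {(p : WittVector p S)}) {x : P'}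
    (hx : x ∈ Kb p P' b) : j • x ∈ Kb p P' b' := by
  refine Submodule.smul_induction_on hx (fun a ha y _ => ?_) (fun y z hy hz => ?_)
  · rw [← mul_smul]; exact smul_mem_Kb (J_mul_mem hF hj ha) y
  · rw [smul_add]; exact add_mem hy hz

variable {D' : Display3n p S P'} (N : NData D')

lemma Vsemi_mem {b b' : Ideal S} (hF : ∀ ξ ∈ Wa p b, frobenius ξ ∈ Wa p b') {x : P'}
    (hx : x ∈ Kb p P' b) : N.Vsemi x ∈ Kb p P' b' := by
  refine Submodule.smul_induction_on hx (fun a ha y _ => ?_) (fun y z hy hz => ?_)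
  · rw [LinearMap.map_smulₛₗ]; exact smul_mem_Kb (hF a ha) _
  · rw [map_add]; exact add_mem hy hz

lemma sr_prT_mem_Wa {b : Ideal S} {x : P'} (hx : x ∈ Kb p P' b) (j : Fin N.n) :
    N.sr (N.prT x) j ∈ Wa p b :=
  lin_mem_Wa ((LinearMap.proj j).comp (N.sr.comp N.prT)) hx

/-- the extension of `V⁻¹` (as a function on all of `P'`) -/
noncomputable def Vhf (x : P') : P' :=
  N.Vsemi x + ∑ j, (N.sr (N.prT x) j).shift 1 • D'.F (N.fr (bv j))

/-- `Q' + W(b)P'`, in coordinates -/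
noncomputable def Qh (b : Ideal S) : Submodule (WittVector p S) P' where
  carrier := {x | ∀ j, (N.sr (N.prT x) j).coeff 0 ∈ b}
  add_mem' {x y} hx hy j := by
    rw [map_add, map_add, Pi.add_apply, add_coeff_zero]
    exact add_mem (hx j) (hy j)
  zero_mem' j := by
    rw [map_zero, map_zero, Pi.zero_apply, zero_coeff]
    exact zero_mem _
  smul_mem' w x hx j := by
    rw [map_smul, map_smul, Pi.smul_apply, smul_eq_mul, mul_coeff_zero]
    exact Ideal.mul_mem_left _ _ (hx j)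

lemma mem_Qh {b : Ideal S} {x : P'} : x ∈ Qh N b ↔ ∀ j, (N.sr (N.prT x) j).coeff 0 ∈ b :=
  Iff.rfl

lemma Kb_le_Qh (b : Ideal S) : Kb p P' b ≤ Qh N b := fun _ hx j =>
  mem_Wa.1 (sr_prT_mem_Wa N hx j) 0

lemma Q_le_Qh (b : Ideal S) : D'.Q ≤ Qh N b := fun y hy j => by
  have h := (mem_IV_iff _).1 (N.sr_mem_IV (N.prT_mem_IT hy) j)
  rw [h]
  exact zero_mem _

lemma Vhf_add_sub {b : Ideal S} {x y : P'} (hx : x ∈ Qh N b) (hy : y ∈ Qh N b) :
    Vhf N (x + y) - Vhf N x - Vhf N y ∈ Kb p P' (b * b) := by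
  have key : Vhf N (x + y) - Vhf N x - Vhf N y =
      ∑ j, ((N.sr (N.prT x) j + N.sr (N.prT y) j).shift 1 - (N.sr (N.prT x) j).shift 1 -
        (N.sr (N.prT y) j).shift 1) • D'.F (N.fr (bv j)) := by
    have hs : ∀ j, N.sr (N.prT (x + y)) j = N.sr (N.prT x) j + N.sr (N.prT y) j := fun j => by
      rw [map_add, map_add, Pi.add_apply]
    have e1 : N.Vsemi (x + y) = N.Vsemi x + N.Vsemi y := map_add _ _ _
    have e2 : ∑ j, (N.sr (N.prT (x + y)) j).shift 1 • D'.F (N.fr (bv j)) =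
        ∑ j, (N.sr (N.prT x) j + N.sr (N.prT y) j).shift 1 • D'.F (N.fr (bv j)) :=
      Finset.sum_congr rfl fun j _ => by rw [hs j]
    have e3 : ∑ j, ((N.sr (N.prT x) j + N.sr (N.prT y) j).shift 1 -
          (N.sr (N.prT x) j).shift 1 - (N.sr (N.prT y) j).shift 1) • D'.F (N.fr (bv j)) =
        ∑ j, (N.sr (N.prT x) j + N.sr (N.prT y) j).shift 1 • D'.F (N.fr (bv j)) -
          ∑ j, (N.sr (N.prT x) j).shift 1 • D'.F (N.fr (bv j)) -
          ∑ j, (N.sr (N.prT y) j).shift 1 • D'.F (N.fr (bv j)) := by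
      rw [← Finset.sum_sub_distrib, ← Finset.sum_sub_distrib]
      exact Finset.sum_congr rfl fun j _ => by rw [sub_smul, sub_smul]
    unfold Vhf
    rw [e1, e2, e3]
    abel
  rw [key]
  exact Submodule.sum_mem _ fun j _ => smul_mem_Kb (shift_add_sub (hx j) (hy j)) _

lemma Vhf_smul_sub {b b' : Ideal S} (hF : ∀ ξ ∈ Wa p b, frobenius ξ ∈ Wa p b')
    (w : WittVector p S) {x : P'} (hx : x ∈ Qh N b) :
    Vhf N (w • x) - frobenius w • Vhf N x ∈ Kb p P' b' := by
  have key : Vhf N (w • x) - frobenius w • Vhf N x =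
      ∑ j, ((w * N.sr (N.prT x) j).shift 1 - frobenius w * (N.sr (N.prT x) j).shift 1) •
        D'.F (N.fr (bv j)) := by
    have hs : ∀ j, N.sr (N.prT (w • x)) j = w * N.sr (N.prT x) j := fun j => by
      rw [map_smul, map_smul, Pi.smul_apply, smul_eq_mul]
    have e1 : N.Vsemi (w • x) = frobenius w • N.Vsemi x := LinearMap.map_smulₛₗ _ _ _
    have e2 : ∑ j, (N.sr (N.prT (w • x)) j).shift 1 • D'.F (N.fr (bv j)) =
        ∑ j, (w * N.sr (N.prT x) j).shift 1 • D'.F (N.fr (bv j)) :=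
      Finset.sum_congr rfl fun j _ => by rw [hs j]
    have e3 : ∑ j, ((w * N.sr (N.prT x) j).shift 1 -
          frobenius w * (N.sr (N.prT x) j).shift 1) • D'.F (N.fr (bv j)) =
        ∑ j, (w * N.sr (N.prT x) j).shift 1 • D'.F (N.fr (bv j)) -
          frobenius w • ∑ j, (N.sr (N.prT x) j).shift 1 • D'.F (N.fr (bv j)) := by
      rw [Finset.smul_sum, ← Finset.sum_sub_distrib]
      exact Finset.sum_congr rfl fun j _ => by rw [sub_smul, mul_smul]
    unfold Vhf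
    rw [e1, e2, e3, smul_add]
    abel
  rw [key]
  exact Submodule.sum_mem _ fun j _ => smul_mem_Kb (shift_mul_sub hF w (hx j)) _

lemma Vhf_of_mem_Q {y : P'} (hy : y ∈ D'.Q) : Vhf N y = D'.Vinv ⟨y, hy⟩ := by
  have hc : ∀ j, N.sr (N.prT y) j = verschiebung ((N.sr (N.prT y) j).shift 1) := fun j => by
    obtain ⟨a, ha⟩ := exists_eq_verschiebung_of_mem_IV _ (N.sr_mem_IV (N.prT_mem_IT hy) j)
    rw [ha, shift_verschiebung]
  have hT : N.prT y = ∑ j, verschiebung ((N.sr (N.prT y) j).shift 1) • N.fr (bv j) := by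
    calc N.prT y = ∑ j, N.sr (N.prT y) j • N.fr (bv j) :=
          eq_sum_of_comp_eq_id N.fr N.sr N.hfs (N.prT y)
      _ = _ := Finset.sum_congr rfl fun j _ => by rw [← hc j]
  have hsplit : (⟨y, hy⟩ : D'.Q) = ⟨N.prL y, N.prL_mem_Q y⟩ +
      ∑ j, (⟨verschiebung ((N.sr (N.prT y) j).shift 1) • N.fr (bv j),
        D'.IV_smul_le (Submodule.smul_mem_smul (verschiebung_mem_IV p S _)
          Submodule.mem_top)⟩ : D'.Q) := by
    apply Subtype.ext
    rw [Submodule.coe_add, Submodule.coe_sum]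
    show y = N.prL y + ∑ j, verschiebung ((N.sr (N.prT y) j).shift 1) • N.fr (bv j)
    rw [← hT, N.prL_add_prT]
  rw [hsplit, map_add, map_sum]
  unfold Vhf
  rw [N.Vsemi_apply]
  congr 1
  exact Finset.sum_congr rfl fun j _ => (D'.Vinv_verschiebung_smul _ _).symm

lemma Vhf_mem_Kb {b b' : Ideal S} (hle : b' ≤ b)
    (hF : ∀ ξ ∈ Wa p b, frobenius ξ ∈ Wa p b') {x : P'} (hx : x ∈ Kb p P' b) :
    Vhf N x ∈ Kb p P' b := by
  unfold Vhf
  refine add_mem (Kb_mono hle (Vsemi_mem N hF hx)) ?_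
  exact Submodule.sum_mem _ fun j _ => smul_mem_Kb (shift_mem_Wa (sr_prT_mem_Wa N hx j)) _

/-- the hypotheses on a step `b' ≤ b` of the filtration -/
structure Hyp (p : ℕ) [Fact p.Prime] {S : Type u} [CommRing S] (b b' : Ideal S) : Prop where
  le : b' ≤ b
  sq : b * b ≤ b'
  pb : ∀ a ∈ b, (p : S) * a ∈ b'

lemma Hyp.hF {b b' : Ideal S} (h : Hyp p b b') : ∀ ξ ∈ Wa p b, frobenius ξ ∈ Wa p b' :=
  fun _ hξ => frobenius_mem_Wa' h.sq h.pb hξ

/-- `W(b')P'` inside `W(b)P'` -/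
noncomputable abbrev KK (p : ℕ) [Fact p.Prime] {S : Type u} [CommRing S] (P' : Type v)
    [AddCommGroup P'] [Module (WittVector p S) P'] (b b' : Ideal S) :
    Submodule (WittVector p S) ↥(Kb p P' b) :=
  Submodule.comap (Kb p P' b).subtype (Kb p P' b')

/-- `V⁻¹ : W(b)P' → W(b)P'/W(b')P'` -/
noncomputable def phi1 {b b' : Ideal S} (h : Hyp p b b') :
    ↥(Kb p P' b) →ₛₗ[(frobenius : WittVector p S →+* WittVector p S)]
      (↥(Kb p P' b) ⧸ KK p P' b b') where
  toFun k := Submodule.Quotient.mk ⟨Vhf N k.1, Vhf_mem_Kb N h.le h.hF k.2⟩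
  map_add' k k' := by
    rw [← Submodule.Quotient.mk_add]
    refine (Submodule.Quotient.eq _).2 ?_
    show Vhf N (k.1 + k'.1) - (Vhf N k.1 + Vhf N k'.1) ∈ Kb p P' b'
    have h1 := Vhf_add_sub N (Kb_le_Qh N b k.2) (Kb_le_Qh N b k'.2)
    have h3 : Vhf N (k.1 + k'.1) - (Vhf N k.1 + Vhf N k'.1) =
        Vhf N (k.1 + k'.1) - Vhf N k.1 - Vhf N k'.1 := by abel
    rw [h3]
    exact Kb_mono h.sq h1
  map_smul' w k := by
    rw [← Submodule.Quotient.mk_smul]
    refine (Submodule.Quotient.eq _).2 ?_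
    show Vhf N (w • k.1) - frobenius w • Vhf N k.1 ∈ Kb p P' b'
    exact Vhf_smul_sub N h.hF w (Kb_le_Qh N b k.2)

lemma phi1_apply {b b' : Ideal S} (h : Hyp p b b') (k : ↥(Kb p P' b)) :
    phi1 N h k = Submodule.Quotient.mk ⟨Vhf N k.1, Vhf_mem_Kb N h.le h.hF k.2⟩ := rfl

lemma KK_le_ker {b b' : Ideal S} (h : Hyp p b b') :
    KK p P' b b' ≤ LinearMap.ker (phi1 N h) := by
  intro k hk
  rw [LinearMap.mem_ker, phi1_apply]
  refine (Submodule.Quotient.mk_eq_zero _).2 ?_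
  show Vhf N k.1 ∈ Kb p P' b'
  exact Vhf_mem_Kb N le_rfl (fun _ hξ => frobenius_mem_Wa hξ) hk

/-- `V⁻¹` on `W(b)P'/W(b')P'` -/
noncomputable def phiBar {b b' : Ideal S} (h : Hyp p b b') :
    (↥(Kb p P' b) ⧸ KK p P' b b') →ₛₗ[(frobenius : WittVector p S →+* WittVector p S)]
      (↥(Kb p P' b) ⧸ KK p P' b b') :=
  (KK p P' b b').liftQ (phi1 N h) (KK_le_ker N h)

lemma phiBar_mk {b b' : Ideal S} (h : Hyp p b b') (k : ↥(Kb p P' b)) :
    phiBar N h (Submodule.Quotient.mk k) = phi1 N h k :=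
  Submodule.liftQ_apply _ _ _

end Mod

section Main

variable {p : ℕ} [Fact p.Prime] {S : Type u} [CommRing S]
variable {P : Type v} [AddCommGroup P] [Module (WittVector p S) P]
variable {P' : Type v} [AddCommGroup P'] [Module (WittVector p S) P']

theorem step (D : Display3n p S P) (D' : Display3n p S P') (hD : IsDisplay D) {b b' : Ideal S}
    (h : Hyp p b b') (u : P →ₗ[WittVector p S] P') (hu : IsHom D D' u)
    (hub : ∀ x, u x ∈ Kb p P' b) (x : P) : u x ∈ Kb p P' b' := by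
  obtain ⟨N⟩ := exists_NData D'
  obtain ⟨Vs, hVs, n, hn⟩ := hD
  have hfix : Fix ((KK p P' b b').mkQ ∘ₗ (u.codRestrict (Kb p P' b) hub)) Vs (phiBar N h) := by
    have key : (BC.lift (frobenius : WittVector p S →+* WittVector p S)
        ((phiBar N h).comp ((KK p P' b b').mkQ ∘ₗ (u.codRestrict (Kb p P' b) hub)))) ∘ₗ Vs =
        (KK p P' b b').mkQ ∘ₗ (u.codRestrict (Kb p P' b) hub) := by
      apply LinearMap.ext_on D.span_range_Vinv
      rintro _ ⟨y, rfl⟩
      have e3 := hVs.app_smul_Vinv 1 y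
      rw [one_smul] at e3
      rw [LinearMap.comp_apply, e3, BC.lift_tmul, one_smul]
      show phiBar N h (Submodule.Quotient.mk ⟨u (y : P), hub y⟩) =
        Submodule.Quotient.mk ⟨u (D.Vinv y), hub _⟩
      rw [phiBar_mk, phi1_apply]
      congr 1
      apply Subtype.ext
      show Vhf N (u (y : P)) = u (D.Vinv y)
      rw [Vhf_of_mem_Q N (hu.mapsTo y y.2), hu.comm_Vinv y]
    intro x
    exact LinearMap.congr_fun key x
  obtain ⟨Θ, hΘ⟩ := fix_vSharpPow _ Vs (phiBar N h) hfix n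
  have h0 := eq_zero_of_fix hΘ (IV p S ⊔ Ideal.span {(p : WittVector p S)}) ?_ hn x
  · have h1 : (⟨u x, hub x⟩ : ↥(Kb p P' b)) ∈ KK p P' b b' :=
      (Submodule.Quotient.mk_eq_zero _).1 h0
    exact h1
  · intro j hj m
    obtain ⟨k, rfl⟩ := Submodule.Quotient.mk_surjective _ m
    rw [← Submodule.Quotient.mk_smul]
    exact (Submodule.Quotient.mk_eq_zero _).2 (J_smul_mem h.hF hj k.2)

theorem core (D : Display3n p S P) (D' : Display3n p S P') (hD : IsDisplay D) (c : Ideal S)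
    (hpc : (p : S) ∈ c) (hnil : IsNilpotent c) (u : P →ₗ[WittVector p S] P')
    (hu : IsHom D D' u) (huc : ∀ x, u x ∈ Kb p P' c) : u = 0 := by
  obtain ⟨m, hm⟩ := hnil
  have key : ∀ i : ℕ, ∀ x, u x ∈ Kb p P' (c ^ (i + 1)) := by
    intro i
    induction i with
    | zero => intro x; rw [zero_add, pow_one]; exact huc x
    | succ i ih =>
      refine step D D' hD ⟨?_, ?_, ?_⟩ u hu ih
      · exact Ideal.pow_le_pow_right (Nat.le_succ _)
      · rw [← pow_add]
        exact Ideal.pow_le_pow_right (by omega)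
      · intro a ha
        rw [pow_succ' c (i + 1)]
        exact Ideal.mul_mem_mul hpc ha
  apply LinearMap.ext
  intro x
  have h1 := key m x
  rw [pow_succ, hm, zero_mul, Ideal.zero_eq_bot, Kb_bot] at h1
  exact (Submodule.mem_bot _).1 h1

theorem main16544 (hp : IsNilpotent (p : S)) (hn : IsNilpotent (nilradical S))
    (D : Display3n p S P) (D' : Display3n p S P') (hD : IsDisplay D)
    (ψ : P →ₗ[WittVector p S] P') (hψ : IsHom D D' ψ)
    (h : (p : WittVector p S) • ψ = 0) : ψ = 0 := by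
  obtain ⟨N⟩ := exists_NData D'
  refine core D D' hD (nilradical S) (mem_nilradical.2 hp) hn ψ hψ ?_
  intro x
  have hx : ψ x = ∑ j, N.sr (ψ x) j • N.fr (bv j) :=
    eq_sum_of_comp_eq_id N.fr N.sr N.hfs (ψ x)
  rw [hx]
  refine Submodule.sum_mem _ fun j _ =>
    smul_mem_Kb (mem_Wa_nilradical_of_p_mul_eq_zero hp ?_) _
  have h1 : (p : WittVector p S) • ψ x = 0 := by
    have h2 := LinearMap.congr_fun h x
    rwa [LinearMap.smul_apply, LinearMap.zero_apply] at h2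
  have h2 := congrArg (fun z => N.sr z j) h1
  simp only [map_smul, Pi.smul_apply, smul_eq_mul, map_zero, Pi.zero_apply] at h2
  exact h2

lemma isHom_sub {D : Display3n p S P} {D' : Display3n p S P'} {ψ χ : P →ₗ[WittVector p S] P'}
    (hψ : IsHom D D' ψ) (hχ : IsHom D D' χ) : IsHom D D' (ψ - χ) where
  mapsTo q hq := by
    rw [LinearMap.sub_apply]
    exact sub_mem (hψ.mapsTo q hq) (hχ.mapsTo q hq)
  comm_F x := by
    rw [LinearMap.sub_apply, LinearMap.sub_apply, hψ.comm_F, hχ.comm_F, map_sub]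
  comm_Vinv q := by
    rw [LinearMap.sub_apply, hψ.comm_Vinv, hχ.comm_Vinv, ← map_sub]
    congr 1

variable {R : Type u} [CommRing R]

lemma mem_Kb_of_tmul_eq_zero (f : S →+* R) (D' : Display3n p S P') {x : P'}
    (h : BC.tmul (gW p f) 1 x = 0) : x ∈ Kb p P' (RingHom.ker f) := by
  obtain ⟨N⟩ := exists_NData D'
  have hx := eq_sum_of_comp_eq_id N.fr N.sr N.hfs x
  rw [hx]
  refine Submodule.sum_mem _ fun j _ => smul_mem_Kb ?_ _
  rw [← ker_map_eq, RingHom.mem_ker]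
  have h2 := congrArg (fun z => coord (gW p f) N.sr z j) h
  simp only [coord_tmul, one_mul, map_zero, Pi.zero_apply] at h2
  exact h2

theorem inj16543 (hp : IsNilpotent (p : S)) (f : S →+* R)
    (hker : IsNilpotent (RingHom.ker f)) (D : Display3n p S P) (D' : Display3n p S P')
    (hD : IsDisplay D) (ψ χ : P →ₗ[WittVector p S] P') (hψ : IsHom D D' ψ)
    (hχ : IsHom D D' χ) (h : BC.map (gW p f) ψ = BC.map (gW p f) χ) : ψ = χ := by
  rw [← sub_eq_zero]
  have hc : IsNilpotent (RingHom.ker f ⊔ Ideal.span {(p : S)}) := by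
    obtain ⟨m, hm⟩ := hker
    obtain ⟨k, hk⟩ := hp
    refine ⟨m + k, ?_⟩
    rw [Ideal.zero_eq_bot, eq_bot_iff]
    refine le_trans Ideal.sup_pow_add_le_pow_sup_pow ?_
    rw [hm, Ideal.span_singleton_pow, hk, Ideal.zero_eq_bot, Ideal.span_singleton_eq_bot.2 rfl,
      sup_bot_eq]
  refine core D D' hD (RingHom.ker f ⊔ Ideal.span {(p : S)})
    (Ideal.mem_sup_right (Ideal.subset_span rfl)) hc (ψ - χ) (isHom_sub hψ hχ) ?_
  intro x
  have h2 := LinearMap.congr_fun h (BC.tmul (gW p f) 1 x)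
  rw [BC.map_tmul, BC.map_tmul] at h2
  have h3 : BC.tmul (gW p f) 1 ((ψ - χ) x) = 0 := by
    rw [LinearMap.sub_apply, sub_eq_add_neg, BC.tmul_add, BC.tmul_neg, h2, add_neg_cancel]
  have h4 : (ψ - χ) x ∈ Kb p P' (RingHom.ker f) := mem_Kb_of_tmul_eq_zero f D' h3
  have h5 : Kb p P' (RingHom.ker f) ≤ Kb p P' (RingHom.ker f ⊔ Ideal.span {(p : S)}) :=
    Kb_mono le_sup_left
  exact h5 h4

end Main

end Groth.Agent.Lib.DispRig
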