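import Mathlib
import Groth.Prelude.Def_Disp2
import Groth.Agent.Lib.DispRig1_helper1

/-! Lifting `p^n`-multiples of homomorphisms of displays along a nilpotent thickening (helper1):
homomorphisms modulo `W(b)P'`, multiplication by `p` improves `b` to `b² + pb`, and the
comparison with the base change (S16543). -/

set_option autoImplicit false
universe u v w

namespace Groth.Agent.Lib.DispRig

open Dieu W4c1extbt610 WittVector Groth.Agent.Lib.DispNormal Groth.Agent.Lib.DispBCx
  Groth.Agent.Lib.DispWa Groth.Agent.Lib.DispStar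

section HomMod

variable {p : ℕ} [Fact p.Prime] {S : Type u} [CommRing S]
variable {P : Type v} [AddCommGroup P] [Module (WittVector p S) P]
variable {P' : Type v} [AddCommGroup P'] [Module (WittVector p S) P']
variable (D : Display3n p S P) {D' : Display3n p S P'} (N : NData D')

/-- `u` is a homomorphism of 3n-displays modulo `W(b)P'` -/
structure IsHomMod (b : Ideal S) (u : P →ₗ[WittVector p S] P') : Prop where
  mapsTo : ∀ y ∈ D.Q, u y ∈ Qh N b
  comm : ∀ y : D.Q, u (D.Vinv y) - Vhf N (u (y : P)) ∈ Kb p P' b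

lemma p_smul_mem_Qh {b b' : Ideal S} (h : Hyp p b b') {x : P'} (hx : x ∈ Qh N b) :
    (p : WittVector p S) • x ∈ Qh N b' := by
  intro j
  have h0 : ((p : ℕ) : WittVector p S).coeff 0 = (p : S) :=
    map_natCast (constantCoeff : WittVector p S →+* S) p
  rw [map_smul, map_smul, Pi.smul_apply, smul_eq_mul, mul_coeff_zero, h0]
  exact h.pb _ (hx j)

variable {D}

lemma IsHomMod.p_smul {b b' : Ideal S} (h : Hyp p b b') {u : P →ₗ[WittVector p S] P'}
    (hu : IsHomMod D N b u) : IsHomMod D N b' ((p : WittVector p S) • u) where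
  mapsTo y hy := by
    rw [LinearMap.smul_apply]
    exact p_smul_mem_Qh N h (hu.mapsTo y hy)
  comm y := by
    rw [LinearMap.smul_apply, LinearMap.smul_apply]
    have h1 := Vhf_smul_sub N h.hF (p : WittVector p S) (hu.mapsTo y y.2)
    rw [map_natCast] at h1
    have h2 : (p : WittVector p S) • (u (D.Vinv y) - Vhf N (u (y : P))) ∈ Kb p P' b' :=
      J_smul_mem h.hF (Ideal.mem_sup_right (Ideal.subset_span rfl)) (hu.comm y)
    have e : (p : WittVector p S) • u (D.Vinv y) - Vhf N ((p : WittVector p S) • u (y : P)) =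
        (p : WittVector p S) • (u (D.Vinv y) - Vhf N (u (y : P))) -
          (Vhf N ((p : WittVector p S) • u (y : P)) -
            (p : WittVector p S) • Vhf N (u (y : P))) := by
      rw [smul_sub]; abel
    rw [e]
    exact sub_mem h2 h1

lemma mem_Q_of_mem_Qh_bot {x : P'} (hx : x ∈ Qh N ⊥) : x ∈ D'.Q := by
  rw [← N.prL_add_prT x]
  refine add_mem (N.prL_mem_Q x) ?_
  rw [eq_sum_of_comp_eq_id N.fr N.sr N.hfs (N.prT x)]
  exact Submodule.sum_mem _ fun j _ => D'.IV_smul_le
    (Submodule.smul_mem_smul ((mem_IV_iff _).2 ((Ideal.mem_bot).1 (hx j))) Submodule.mem_top)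

theorem IsHomMod.isHom {u : P →ₗ[WittVector p S] P'} (hu : IsHomMod D N ⊥ u) :
    IsHom D D' u := by
  have hQ : ∀ y ∈ D.Q, u y ∈ D'.Q := fun y hy => mem_Q_of_mem_Qh_bot N (hu.mapsTo y hy)
  have hV : ∀ y : D.Q, u (D.Vinv y) = D'.Vinv ⟨u y, hQ y y.2⟩ := fun y => by
    have h1 := hu.comm y
    rw [Kb_bot, Submodule.mem_bot, sub_eq_zero] at h1
    rw [h1, Vhf_of_mem_Q N (hQ y y.2)]
  refine ⟨hQ, fun x => ?_, hV⟩
  have e1 := D.Vinv_verschiebung_smul 1 x
  have e2 := D'.Vinv_verschiebung_smul 1 (u x)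
  rw [one_smul] at e1 e2
  rw [← e1, hV, ← e2]
  congr 1
  apply Subtype.ext
  exact map_smul u _ x

end HomMod

section Boundary

variable {p : ℕ} [Fact p.Prime] {S R : Type u} [CommRing S] [CommRing R]
variable {P : Type v} [AddCommGroup P] [Module (WittVector p S) P]
variable {P' : Type v} [AddCommGroup P'] [Module (WittVector p S) P']
variable (f : S →+* R)

lemma map_shift (x : WittVector p S) :
    (WittVector.map f x).shift 1 = WittVector.map f (x.shift 1) := by
  ext n
  rw [shift_coeff, map_coeff, map_coeff, shift_coeff]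

lemma tmul_Vhf {D' : Display3n p S P'} (N : NData D') (x' : P') :
    N.VinvFun f (BC.tmul (gW p f) 1 x') = BC.tmul (gW p f) 1 (Vhf N x') := by
  unfold NData.VinvFun Vhf
  rw [semiBC_tmul, map_one, BC.tmul_add, tmul_sum (gW p f)]
  congr 1
  refine Finset.sum_congr rfl fun j _ => ?_
  rw [BC.map_tmul, coord_tmul, one_mul, map_shift,
    ← BC.tmul_apply_eq (gW p f) ((N.sr (N.prT x') j).shift 1) (D'.F (N.fr (bv j))),
    BC.tmul_eq_smul_tmul_one (gW p f) ((gW p f) ((N.sr (N.prT x') j).shift 1))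
      (D'.F (N.fr (bv j)))]

lemma tmul_one_surjective (hg : Function.Surjective (gW p f)) (z : BC (gW p f) P') :
    ∃ x' : P', BC.tmul (gW p f) 1 x' = z := by
  induction z using BC.induction_on (gW p f) with
  | zero => exact ⟨0, BC.tmul_zero _ _⟩
  | tmul w x =>
    obtain ⟨a, rfl⟩ := hg w
    exact ⟨a • x, (BC.tmul_apply_eq (gW p f) a x).symm⟩
  | add z₁ z₂ h₁ h₂ =>
    obtain ⟨x₁, rfl⟩ := h₁
    obtain ⟨x₂, rfl⟩ := h₂
    exact ⟨x₁ + x₂, BC.tmul_add _ _ _ _⟩

theorem exists_lift (hf : Function.Surjective f) (D : Display3n p S P)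
    (χ : BC (gW p f) P →ₗ[WittVector p R] BC (gW p f) P') :
    ∃ u : P →ₗ[WittVector p S] P',
      ∀ x, BC.tmul (gW p f) 1 (u x) = χ (BC.tmul (gW p f) 1 x) := by
  obtain ⟨M⟩ := exists_NData D
  have hg : Function.Surjective (gW p f) := WittVector.map_surjective f hf
  choose c hc using fun j : Fin M.n =>
    tmul_one_surjective (P' := P') f hg (χ (BC.tmul (gW p f) 1 (M.fr (bv j))))
  refine ⟨∑ j, ((LinearMap.proj j).comp M.sr).smulRight (c j), fun x => ?_⟩
  rw [LinearMap.sum_apply, tmul_sum (gW p f)]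
  conv_rhs => rw [eq_sum_of_comp_eq_id M.fr M.sr M.hfs x, tmul_sum (gW p f), map_sum]
  refine Finset.sum_congr rfl fun j _ => ?_
  rw [LinearMap.smulRight_apply, LinearMap.comp_apply, LinearMap.proj_apply,
    ← BC.tmul_apply_eq (gW p f) (M.sr x j) (c j),
    BC.tmul_eq_smul_tmul_one (gW p f) ((gW p f) (M.sr x j)) (c j), hc j,
    ← BC.tmul_apply_eq (gW p f) (M.sr x j) (M.fr (bv j)),
    BC.tmul_eq_smul_tmul_one (gW p f) ((gW p f) (M.sr x j)) (M.fr (bv j)), map_smul]

theorem isHomMod_of_isHom (D : Display3n p S P) {D' : Display3n p S P'} (N : NData D')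
    (DR : Display3n p R (BC (gW p f) P)) (DR' : Display3n p R (BC (gW p f) P'))
    (hDR : IsDispBaseChange f D DR) (hDR' : IsDispBaseChange f D' DR')
    (χ : BC (gW p f) P →ₗ[WittVector p R] BC (gW p f) P') (hχ : IsHom DR DR' χ)
    (u : P →ₗ[WittVector p S] P')
    (hu : ∀ x, BC.tmul (gW p f) 1 (u x) = χ (BC.tmul (gW p f) 1 x)) :
    IsHomMod D N (RingHom.ker f) u := by
  obtain rfl := N.unique_DR f DR' hDR'
  have hQR : DR.Q = QR f D := hDR.Q_eq
  have hmem : ∀ y ∈ D.Q, BC.tmul (gW p f) 1 (u y) ∈ QR f D' := fun y hy => by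
    rw [hu]
    exact hχ.mapsTo _ (by rw [hQR]; exact tmul_mem_QR f 1 hy)
  refine ⟨fun y hy j => ?_, fun y => ?_⟩
  · have h1 := N.coord_prT_mem_IV f (hmem y hy) j
    rw [BC.map_tmul, coord_tmul, one_mul, mem_IV_iff, map_coeff] at h1
    exact (RingHom.mem_ker).2 h1
  · apply mem_Kb_of_tmul_eq_zero f D'
    rw [sub_eq_add_neg, BC.tmul_add, BC.tmul_neg, ← sub_eq_add_neg, sub_eq_zero]
    have h1 : BC.tmul (gW p f) 1 (y : P) ∈ DR.Q := by rw [hQR]; exact tmul_mem_QR f 1 y.2
    have e1 := hDR.Vinv_tmul 1 y h1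
    rw [map_one] at e1
    rw [hu, ← e1, hχ.comm_Vinv, ← tmul_Vhf f N (u (y : P))]
    show N.VinvFun f (χ (BC.tmul (gW p f) 1 (y : P))) = _
    rw [← hu]

end Boundary

section Final

variable {p : ℕ} [Fact p.Prime] {S R : Type u} [CommRing S] [CommRing R]
variable {P : Type v} [AddCommGroup P] [Module (WittVector p S) P]
variable {P' : Type v} [AddCommGroup P'] [Module (WittVector p S) P']

lemma isNilpotent_sup_span (hp : IsNilpotent (p : S)) {a : Ideal S} (ha : IsNilpotent a) :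
    IsNilpotent (a ⊔ Ideal.span {(p : S)}) := by
  obtain ⟨m, hm⟩ := ha
  obtain ⟨k, hk⟩ := hp
  refine ⟨m + k, ?_⟩
  rw [Ideal.zero_eq_bot, eq_bot_iff]
  refine le_trans Ideal.sup_pow_add_le_pow_sup_pow ?_
  rw [hm, Ideal.span_singleton_pow, hk, Ideal.zero_eq_bot, Ideal.span_singleton_eq_bot.2 rfl,
    sup_bot_eq]

theorem surj16543 (hp : IsNilpotent (p : S)) (f : S →+* R) (hf : Function.Surjective f)
    (hker : IsNilpotent (RingHom.ker f)) (D : Display3n p S P) (D' : Display3n p S P')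
    (DR : Display3n p R (BC (gW p f) P)) (hDR : IsDispBaseChange f D DR)
    (DR' : Display3n p R (BC (gW p f) P')) (hDR' : IsDispBaseChange f D' DR')
    (χ : BC (gW p f) P →ₗ[WittVector p R] BC (gW p f) P') (hχ : IsHom DR DR' χ) :
    ∃ (n : ℕ) (ψ : P →ₗ[WittVector p S] P'), IsHom D D' ψ ∧
      BC.map (gW p f) ψ = ((p : WittVector p R) ^ n) • χ := by
  obtain ⟨N⟩ := exists_NData D'
  obtain ⟨u, hu⟩ := exists_lift f hf D χ
  have h0 := isHomMod_of_isHom f D N DR DR' hDR hDR' χ hχ u hu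
  obtain ⟨M, hM⟩ := isNilpotent_sup_span hp hker
  have hpc : (p : S) ∈ RingHom.ker f ⊔ Ideal.span {(p : S)} :=
    Ideal.mem_sup_right (Ideal.subset_span rfl)
  have key : ∀ i : ℕ, IsHomMod D N (RingHom.ker f * (RingHom.ker f ⊔ Ideal.span {(p : S)}) ^ i)
      (((p : WittVector p S) ^ i) • u) := by
    intro i
    induction i with
    | zero => rw [pow_zero, pow_zero, one_smul, mul_one]; exact h0
    | succ i ih =>
      rw [pow_succ' (p : WittVector p S) i, mul_smul]
      have h1 : RingHom.ker f * (RingHom.ker f ⊔ Ideal.span {(p : S)}) ^ i ≤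
          (RingHom.ker f ⊔ Ideal.span {(p : S)}) ^ (i + 1) := by
        rw [pow_succ']
        exact Ideal.mul_mono_left le_sup_left
      refine IsHomMod.p_smul N ⟨?_, ?_, ?_⟩ ih
      · exact Ideal.mul_mono_right (Ideal.pow_le_pow_right (Nat.le_succ i))
      · rw [mul_assoc]
        exact Ideal.mul_mono_right (le_trans Ideal.mul_le_right h1)
      · intro x hx
        have h2 := Ideal.mul_mem_mul hpc hx
        rwa [mul_left_comm, ← pow_succ'] at h2
  have hfin := key M
  rw [hM, mul_zero, Ideal.zero_eq_bot] at hfin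
  refine ⟨M, ((p : WittVector p S) ^ M) • u, hfin.isHom N, ?_⟩
  apply BC.ext
  intro x
  rw [BC.map_tmul, LinearMap.smul_apply, LinearMap.smul_apply,
    ← BC.tmul_apply_eq (gW p f) ((p : WittVector p S) ^ M) (u x),
    BC.tmul_eq_smul_tmul_one (gW p f) ((gW p f) ((p : WittVector p S) ^ M)) (u x), hu, map_pow,
    map_natCast]

end Final

end Groth.Agent.Lib.DispRig
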