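import Mathlib
import Groth.Prelude

/-!
# Multiplication by a meromorphic function between the modules `O_X(D)` (helper5)
-/

set_option linter.style.haveILetI false

universe u

open CategoryTheory AlgebraicGeometry TopologicalSpace Opposite

namespace Groth.Agent.DivModIso

open Mero

variable {X : Scheme.{u}}

/-- multiplication by a global meromorphic function, `O_X(D) ⟶ O_X(D')` -/
noncomputable def mulHom (f : Γ(kmod X, ⊤)) (D D' : Divisor X)
    (h : ∀ (x : X) (t : KStalk X x), DivCond D x t →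
      DivCond D' x (f.1 ⟨x, Opens.mem_top x⟩ * t)) :
    divMod D ⟶ divMod D' :=
  ⟨PresheafOfModules.homMk (M₁ := (divMod D).val) (M₂ := (divMod D').val)
    { app := fun U => AddCommGrpCat.ofHom
        { toFun := fun (t : Γ(divMod D, U.unop)) =>
            (⟨fun x => f.1 ⟨x.1, Opens.mem_top x.1⟩ * t.1 x,
              ⟨kLoc_mul X U.unop (fun x => f.1 ⟨x.1, Opens.mem_top x.1⟩) t.1
                ((kLoc X).res (homOfLE le_top) f.1 f.2) t.2.1,
               fun x => h x.1 (t.1 x) (t.2.2 x)⟩⟩ : Γ(divMod D', U.unop))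
          map_zero' := Subtype.ext (funext fun x => mul_zero _)
          map_add' := fun _ _ => Subtype.ext (funext fun x => mul_add _ _ _) }
      naturality := by intros; rfl }
    (fun U r t => Subtype.ext (funext fun x => mul_smul_comm _ _ _))⟩

theorem mulHom_app_apply (f : Γ(kmod X, ⊤)) (D D' : Divisor X)
    (h : ∀ (x : X) (t : KStalk X x), DivCond D x t →
      DivCond D' x (f.1 ⟨x, Opens.mem_top x⟩ * t))
    (W : X.Opens) (t : Γ(divMod D, W)) (x : W) :
    ((mulHom f D D' h).app W t).1 x = f.1 ⟨x.1, Opens.mem_top x.1⟩ * t.1 x := rfl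

theorem div_inv (f : (Γ(kmod X, ⊤))ˣ) : Mero.div f⁻¹ = (Mero.div f)⁻¹ := by
  apply Subtype.ext
  funext x
  show germOf f⁻¹ ⟨x, Opens.mem_top x⟩ = (germOf f ⟨x, Opens.mem_top x⟩)⁻¹
  rw [germOf, germOf, map_inv, QuotientGroup.mk_inv]

/-- if `D · D'⁻¹ = div f`, multiplication by `f` carries `O_X(D)` into `O_X(D')` -/
theorem divCond_mul (D D' : Divisor X) (f : (Γ(kmod X, ⊤))ˣ) (hf : D * D'⁻¹ = Mero.div f)
    (x : X) (t : KStalk X x) (ht : DivCond D x t) :
    DivCond D' x (f.1.1 ⟨x, Opens.mem_top x⟩ * t) := by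
  intro g' hg'
  have hx : D.1 x * (D'.1 x)⁻¹ = germOf f ⟨x, Opens.mem_top x⟩ :=
    congrArg (fun E : Divisor X => E.1 x) hf
  have hD : D.1 x =
      QuotientGroup.mk (Units.map (evalK X ⊤ ⟨x, Opens.mem_top x⟩).toMonoidHom f * g') := by
    rw [QuotientGroup.mk_mul, ← hg']
    rw [mul_inv_eq_iff_eq_mul] at hx
    exact hx
  have h1 := ht _ hD
  have e : f.1.1 ⟨x, Opens.mem_top x⟩ * t * (g' : KStalk X x) =
      t * ((Units.map (evalK X ⊤ ⟨x, Opens.mem_top x⟩).toMonoidHom f * g' :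
        (KStalk X x)ˣ) : KStalk X x) := by
    rw [Units.val_mul]
    show f.1.1 ⟨x, Opens.mem_top x⟩ * t * (g' : KStalk X x) =
      t * (f.1.1 ⟨x, Opens.mem_top x⟩ * (g' : KStalk X x))
    ring
  rw [e]
  exact h1

/-- linearly equivalent divisors have isomorphic modules -/
noncomputable def mulIso (D D' : Divisor X) (f : (Γ(kmod X, ⊤))ˣ) (hf : D * D'⁻¹ = Mero.div f) :
    divMod D ≅ divMod D' where
  hom := mulHom f.1 D D' (divCond_mul D D' f hf)
  inv := mulHom (f⁻¹).1 D' D (divCond_mul D' D f⁻¹ (by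
    rw [div_inv, ← hf, mul_inv_rev, inv_inv]))
  hom_inv_id := by
    apply Scheme.Modules.hom_ext
    intro W
    ext t
    refine Subtype.ext (funext fun x => ?_)
    show (f⁻¹).1.1 ⟨x.1, Opens.mem_top x.1⟩ * (f.1.1 ⟨x.1, Opens.mem_top x.1⟩ * t.1 x) = t.1 x
    rw [← mul_assoc, ← kmod_mul_apply, Units.inv_mul, kmod_one_apply, one_mul]
  inv_hom_id := by
    apply Scheme.Modules.hom_ext
    intro W
    ext t
    refine Subtype.ext (funext fun x => ?_)
    show f.1.1 ⟨x.1, Opens.mem_top x.1⟩ * ((f⁻¹).1.1 ⟨x.1, Opens.mem_top x.1⟩ * t.1 x) = t.1 x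
    rw [← mul_assoc, ← kmod_mul_apply, Units.mul_inv, kmod_one_apply, one_mul]

theorem main (X : Scheme.{u}) (D D' : Mero.Divisor X) (h : Mero.LinEquiv D D') :
    Nonempty (Mero.divMod D ≅ Mero.divMod D') := by
  obtain ⟨f, hf⟩ := h
  exact ⟨mulIso D D' f hf⟩

end Groth.Agent.DivModIso
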