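import Mathlib
import Groth.Prelude.Def_W4c1arstab1appArSing
import Groth.Agent.Lib.PowerSeriesInv_helper4

/-!
# Double points of plane curves, part A (helper1)

Taylor coefficients of a translated polynomial up to order two, membership in the order
filtration of `k[[x,y]]`, and general tools about quotients `k[[x,y]]/(F)`.
-/

set_option autoImplicit false

namespace Groth.Agent.Lib.DoublePtH1

open Groth.Agent.Lib.PSInvH4

universe u

variable {k : Type u} [Field k]

section Taylor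

open MvPolynomial

variable (a : Fin 2 → k)

/-- translation by `a` -/
noncomputable def Tr : MvPolynomial (Fin 2) k →ₐ[k] MvPolynomial (Fin 2) k :=
  MvPolynomial.aeval (fun i : Fin 2 => MvPolynomial.X i + MvPolynomial.C (a i))

theorem Tr_X (i : Fin 2) : Tr a (X i) = X i + C (a i) := MvPolynomial.aeval_X _ i

theorem Tr_C (c : k) : Tr a (C c) = C c := by
  rw [Tr, aeval_C]; rfl

theorem eval_Tr (p : MvPolynomial (Fin 2) k) :
    eval (0 : Fin 2 → k) (Tr a p) = eval a p := by
  induction p using MvPolynomial.induction_on with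
  | C c => rw [Tr_C, eval_C, eval_C]
  | add p q hp hq => rw [map_add (Tr a), map_add (eval 0), map_add (eval a), hp, hq]
  | mul_X p i hp =>
    rw [map_mul (Tr a), map_mul (eval 0), map_mul (eval a), hp, Tr_X, map_add (eval 0),
      eval_X, eval_C, eval_X, Pi.zero_apply, zero_add]

theorem pderiv_Tr (i : Fin 2) (p : MvPolynomial (Fin 2) k) :
    pderiv i (Tr a p) = Tr a (pderiv i p) := by
  induction p using MvPolynomial.induction_on with
  | C c => rw [Tr_C, pderiv_C, map_zero]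
  | add p q hp hq =>
    rw [map_add (Tr a), map_add (pderiv i), map_add (pderiv i), map_add (Tr a), hp, hq]
  | mul_X p j hp =>
    have hX : pderiv i (Tr a (X j)) = Tr a (pderiv i (X j)) := by
      rw [Tr_X, map_add (pderiv i), pderiv_C, add_zero]
      by_cases h : j = i
      · subst h
        rw [pderiv_X_self, map_one]
      · rw [pderiv_X_of_ne h, map_zero]
    rw [map_mul (Tr a), pderiv_mul, pderiv_mul, map_add (Tr a), map_mul (Tr a), map_mul (Tr a),
      hp, hX]

theorem lin_Tr (f : MvPolynomial (Fin 2) k) (i : Fin 2) :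
    eval a (pderiv i f) = coeff (Finsupp.single i 1) (Tr a f) := by
  rw [← eval_Tr, ← pderiv_Tr, eval_zero, constantCoeff_eq, coeff_pderiv]
  simp

theorem quad_Tr (h2 : (2 : k) ≠ 0) (f : MvPolynomial (Fin 2) k) (i j : Fin 2) :
    eval a (pderiv i (pderiv j f)) = 0 ↔
      coeff (Finsupp.single i 1 + Finsupp.single j 1) (Tr a f) = 0 := by
  rw [lin_Tr, ← pderiv_Tr, coeff_pderiv]
  have hne : ((((Finsupp.single i 1 : Fin 2 →₀ ℕ) j : ℕ) : k) + 1) ≠ 0 := by
    by_cases h : i = j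
    · subst h
      simp only [Finsupp.single_eq_same, Nat.cast_one]
      have : (1 : k) + 1 = 2 := by norm_num
      rw [this]
      exact h2
    · simp only [Finsupp.single_apply, if_neg h, Nat.cast_zero, zero_add]
      exact one_ne_zero
  rw [mul_eq_zero]
  constructor
  · rintro (h | h)
    · exact h
    · exact absurd h hne
  · intro h
    exact Or.inl h

end Taylor

section Degree

theorem exists_pred (d : Fin 2 →₀ ℕ) (hd : d ≠ 0) :
    ∃ (i : Fin 2) (d' : Fin 2 →₀ ℕ), d = d' + Finsupp.single i 1 ∧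
      d.degree = d'.degree + 1 := by
  obtain ⟨i, hi⟩ : ∃ i, d i ≠ 0 := by
    by_contra h
    push_neg at h
    exact hd (Finsupp.ext h)
  have e : d = (d - Finsupp.single i 1) + Finsupp.single i 1 := by
    ext j
    rw [Finsupp.add_apply, Finsupp.tsub_apply, Finsupp.single_apply]
    by_cases h : i = j
    · subst h
      rw [if_pos rfl]
      omega
    · rw [if_neg h]
      omega
  refine ⟨i, d - Finsupp.single i 1, e, ?_⟩
  conv_lhs => rw [e]
  rw [map_add, Finsupp.degree_single]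

theorem degree_cases (d : Fin 2 →₀ ℕ) (hd : d.degree < 3) :
    d = 0 ∨ (∃ i, d = Finsupp.single i 1) ∨
      ∃ i j, d = Finsupp.single i 1 + Finsupp.single j 1 := by
  by_cases h0 : d = 0
  · exact Or.inl h0
  obtain ⟨i, d', e, hdeg⟩ := exists_pred d h0
  by_cases h1 : d' = 0
  · refine Or.inr (Or.inl ⟨i, ?_⟩)
    rw [e, h1, zero_add]
  obtain ⟨j, d'', e', hdeg'⟩ := exists_pred d' h1
  have h2 : d'' = 0 := (Finsupp.degree_eq_zero_iff d'').mp (by omega)
  refine Or.inr (Or.inr ⟨j, i, ?_⟩)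
  rw [e, e', h2, zero_add]

theorem mem_Ifil_three_iff (F : MvPowerSeries (Fin 2) k) :
    F ∈ Ifil (Fin 2) k 3 ↔ MvPowerSeries.constantCoeff F = 0 ∧
      (∀ i, MvPowerSeries.coeff (Finsupp.single i 1) F = 0) ∧
      ∀ i j, MvPowerSeries.coeff (Finsupp.single i 1 + Finsupp.single j 1) F = 0 := by
  constructor
  · intro h
    refine ⟨?_, fun i => ?_, fun i j => ?_⟩
    · rw [← MvPowerSeries.coeff_zero_eq_constantCoeff_apply]
      exact h 0 (by rw [map_zero]; norm_num)
    · exact h _ (by rw [Finsupp.degree_single]; norm_num)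
    · exact h _ (by rw [map_add, Finsupp.degree_single, Finsupp.degree_single]; norm_num)
  · rintro ⟨h0, h1, h2⟩
    rw [mem_Ifil]
    intro d hd
    rcases degree_cases d hd with rfl | ⟨i, rfl⟩ | ⟨i, j, rfl⟩
    · rw [MvPowerSeries.coeff_zero_eq_constantCoeff_apply]
      exact h0
    · exact h1 i
    · exact h2 i j

end Degree

section Main

open MvPolynomial

variable (a : Fin 2 → k)

theorem cc_F (f : MvPolynomial (Fin 2) k) (hfa : eval a f = 0) :
    MvPowerSeries.constantCoeff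
      (MvPolynomial.aeval (fun i : Fin 2 => MvPolynomial.X i + MvPolynomial.C (a i))
        f).toMvPowerSeries = 0 := by
  show MvPowerSeries.constantCoeff (Tr a f).toMvPowerSeries = 0
  rw [← MvPowerSeries.coeff_zero_eq_constantCoeff_apply]
  show MvPowerSeries.coeff 0 ((Tr a f : MvPolynomial (Fin 2) k) : MvPowerSeries (Fin 2) k) = 0
  rw [MvPolynomial.coeff_coe, ← constantCoeff_eq, ← eval_zero, eval_Tr, hfa]

theorem lhs_iff (h2 : (2 : k) ≠ 0) (f : MvPolynomial (Fin 2) k) (hfa : eval a f = 0) :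
    ((∀ i : Fin 2, eval a (pderiv i f) = 0) ∧
      ∀ i j : Fin 2, eval a (pderiv i (pderiv j f)) = 0) ↔
    (MvPolynomial.aeval (fun i : Fin 2 => MvPolynomial.X i + MvPolynomial.C (a i))
        f).toMvPowerSeries ∈ Ifil (Fin 2) k 3 := by
  rw [mem_Ifil_three_iff]
  have h0 := cc_F a f hfa
  have hco : ∀ d, MvPowerSeries.coeff d (MvPolynomial.aeval
      (fun i : Fin 2 => MvPolynomial.X i + MvPolynomial.C (a i)) f).toMvPowerSeries =
      coeff d (Tr a f) := fun d => MvPolynomial.coeff_coe _ d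
  constructor
  · rintro ⟨h1, h2'⟩
    refine ⟨h0, fun i => ?_, fun i j => ?_⟩
    · rw [hco, ← lin_Tr]
      exact h1 i
    · rw [hco]
      exact (quad_Tr a h2 f i j).mp (h2' i j)
  · rintro ⟨-, h1, h2'⟩
    refine ⟨fun i => ?_, fun i j => ?_⟩
    · rw [lin_Tr, ← hco]
      exact h1 i
    · rw [quad_Tr a h2, ← hco]
      exact h2' i j

end Main

section Tools

theorem quot_equiv (F F' : MvPowerSeries (Fin 2) k)
    (θ : MvPowerSeries (Fin 2) k ≃ₐ[k] MvPowerSeries (Fin 2) k)
    (U : MvPowerSeries (Fin 2) k) (hU : IsUnit U) (h : θ F = U * F') :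
    Nonempty ((MvPowerSeries (Fin 2) k ⧸
        Ideal.span ({F} : Set (MvPowerSeries (Fin 2) k))) ≃ₐ[k]
      (MvPowerSeries (Fin 2) k ⧸ Ideal.span ({F'} : Set (MvPowerSeries (Fin 2) k)))) := by
  refine ⟨Ideal.quotientEquivAlg _ _ θ ?_⟩
  rw [Ideal.map_span, Set.image_singleton]
  have e : (θ : MvPowerSeries (Fin 2) k →+* MvPowerSeries (Fin 2) k) F = U * F' := h
  rw [e, Ideal.span_singleton_mul_left_unit hU]

theorem cc_algHom {σ τ : Type*} [Fintype σ] [DecidableEq σ]
    (φ : MvPowerSeries σ k →ₐ[k] MvPowerSeries τ k)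
    (h0 : ∀ i, φ (MvPowerSeries.X i) ∈ Ifil τ k 1) (h : MvPowerSeries σ k) :
    MvPowerSeries.constantCoeff (φ h) = MvPowerSeries.constantCoeff h := by
  have h1 : h - MvPowerSeries.C (MvPowerSeries.constantCoeff h) ∈ Ifil σ k 1 := by
    rw [mem_Ifil_one_iff, map_sub, MvPowerSeries.constantCoeff_C, sub_self]
  have h2 := algHom_mem_Ifil φ h0 1 _ h1
  have hC : φ (MvPowerSeries.C (MvPowerSeries.constantCoeff h)) =
      MvPowerSeries.C (MvPowerSeries.constantCoeff h) := φ.commutes _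
  rw [mem_Ifil_one_iff, map_sub φ, hC, map_sub, MvPowerSeries.constantCoeff_C] at h2
  exact sub_eq_zero.mp h2

theorem coeff_of_mem_Ifil (N : ℕ) (s : PowerSeries k) (hs : s ∈ Ifil Unit k N) (m : ℕ)
    (hm : m < N) : PowerSeries.coeff m s = 0 :=
  hs (Finsupp.single () m) (by rw [Finsupp.degree_single]; exact hm)

theorem dvd_of_mem_Ifil (N : ℕ) (s : PowerSeries k) (hs : s ∈ Ifil Unit k N) :
    PowerSeries.X ^ N ∣ s := by
  rw [PowerSeries.X_pow_dvd_iff]
  intro m hm
  exact coeff_of_mem_Ifil N s hs m hm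

theorem hom_eq_of_X {B : Type*} [CommRing B] [Algebra k B]
    (χ₁ χ₂ : MvPowerSeries (Fin 2) k →ₐ[k] B)
    (hX : ∀ i, χ₁ (MvPowerSeries.X i) = χ₂ (MvPowerSeries.X i))
    (h1 : ∀ T ∈ Ifil (Fin 2) k 2, χ₁ T = 0) (h2 : ∀ T ∈ Ifil (Fin 2) k 2, χ₂ T = 0)
    (G : MvPowerSeries (Fin 2) k) : χ₁ G = χ₂ G := by
  obtain ⟨c, hc⟩ : ∃ c : k, c = MvPowerSeries.constantCoeff G := ⟨_, rfl⟩
  have hG1 : G - MvPowerSeries.C c ∈ Ifil (Fin 2) k (0 + 1) := by
    rw [zero_add, mem_Ifil_one_iff, map_sub, MvPowerSeries.constantCoeff_C, hc, sub_self]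
  obtain ⟨g, -, hg⟩ := decomp hG1
  obtain ⟨ci, hci⟩ : ∃ ci : Fin 2 → k, ∀ i, ci i = MvPowerSeries.constantCoeff (g i) :=
    ⟨fun i => _, fun i => rfl⟩
  have hT : ∑ i, MvPowerSeries.X i * (g i - MvPowerSeries.C (ci i)) ∈ Ifil (Fin 2) k 2 := by
    apply Submodule.sum_mem
    intro i _
    have : g i - MvPowerSeries.C (ci i) ∈ Ifil (Fin 2) k 1 := by
      rw [mem_Ifil_one_iff, map_sub, MvPowerSeries.constantCoeff_C, hci, sub_self]
    exact mul_mem_Ifil (X_mem_Ifil_one i) this
  have hdec : G = MvPowerSeries.C c + ∑ i, MvPowerSeries.X i * MvPowerSeries.C (ci i) +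
      ∑ i, MvPowerSeries.X i * (g i - MvPowerSeries.C (ci i)) := by
    have e : ∑ i, MvPowerSeries.X i * MvPowerSeries.C (ci i) +
        ∑ i, MvPowerSeries.X i * (g i - MvPowerSeries.C (ci i)) =
        ∑ i, MvPowerSeries.X i * g i := by
      rw [← Finset.sum_add_distrib]
      apply Finset.sum_congr rfl
      intro i _
      ring
    rw [add_assoc, e, ← hg]
    ring
  have hC : ∀ r : k, χ₁ (MvPowerSeries.C r) = χ₂ (MvPowerSeries.C r) :=
    fun r => (χ₁.commutes r).trans (χ₂.commutes r).symm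
  rw [hdec, map_add χ₁, map_add χ₁, map_add χ₂, map_add χ₂, h1 _ hT, h2 _ hT, map_sum, map_sum]
  simp only [map_mul, hX, hC]

theorem kill_of_X {B : Type*} [CommRing B] [Algebra k B]
    (χ : MvPowerSeries (Fin 2) k →ₐ[k] B)
    (h : ∀ i j, χ (MvPowerSeries.X i) * χ (MvPowerSeries.X j) = 0) :
    ∀ T ∈ Ifil (Fin 2) k 2, χ T = 0 := by
  intro T hT
  obtain ⟨g, hg1, hg⟩ := decomp (N := 1) hT
  rw [hg, map_sum]
  apply Finset.sum_eq_zero
  intro i _
  obtain ⟨h', -, hh⟩ := decomp (N := 0) (hg1 i)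
  rw [map_mul, hh, map_sum, Finset.mul_sum]
  apply Finset.sum_eq_zero
  intro j _
  rw [map_mul, ← mul_assoc, h, zero_mul]

theorem nonunit_cc (E G : MvPowerSeries (Fin 2) k)
    (hG : ¬ IsUnit (Ideal.Quotient.mk (Ideal.span ({E} : Set (MvPowerSeries (Fin 2) k))) G)) :
    MvPowerSeries.constantCoeff G = 0 := by
  by_contra h
  exact hG ((MvPowerSeries.isUnit_iff_constantCoeff.mpr (isUnit_iff_ne_zero.mpr h)).map _)

theorem not_isUnit_mk (E G : MvPowerSeries (Fin 2) k)
    (hE : MvPowerSeries.constantCoeff E = 0) (hG : MvPowerSeries.constantCoeff G = 0) :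
    ¬ IsUnit (Ideal.Quotient.mk (Ideal.span ({E} : Set (MvPowerSeries (Fin 2) k))) G) := by
  intro h
  obtain ⟨v, hv⟩ := h.exists_right_inv
  obtain ⟨H, rfl⟩ := Ideal.Quotient.mk_surjective v
  rw [← map_mul, ← map_one (Ideal.Quotient.mk (Ideal.span ({E} : Set (MvPowerSeries (Fin 2) k)))),
    Ideal.Quotient.eq, Ideal.mem_span_singleton] at hv
  obtain ⟨c, hc⟩ := hv
  have := congrArg MvPowerSeries.constantCoeff hc
  rw [map_sub, map_mul, map_mul, map_one, hG, hE, zero_mul, zero_mul, zero_sub] at this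
  exact one_ne_zero (neg_eq_zero.mp this)

end Tools

end Groth.Agent.Lib.DoublePtH1
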