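import Mathlib
import Groth.Prelude.Def_W4c1arstab1appArSing
import Groth.Agent.Lib.PowerSeriesInv_helper4
import Groth.Agent.Lib.DoublePtA_helper1

/-!
# Double points of plane curves, part B (helper1)

Invariants separating `k[[x,y]]/(F)` with `F` of order `≥ 3` from the rings of the
`A_n`-singularities and of the double line: liftability of `k[t]/(t^2)`-points to
`k[t]/(t^3)`-points, and principality of the maximal ideal.
-/

set_option autoImplicit false

namespace Groth.Agent.Lib.DoublePtH1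

open Groth.Agent.Lib.PSInvH4

universe u

variable {k : Type u} [Field k]

/-- truncated polynomial rings `k[t]/(t^n)` -/
abbrev Tq (k : Type u) [Field k] (n : ℕ) : Type u :=
  PowerSeries k ⧸ Ideal.span ({(PowerSeries.X : PowerSeries k) ^ n} : Set (PowerSeries k))

theorem span_le (k : Type u) [Field k] :
    Ideal.span ({(PowerSeries.X : PowerSeries k) ^ 3} : Set (PowerSeries k)) ≤
      Ideal.span ({(PowerSeries.X : PowerSeries k) ^ 2} : Set (PowerSeries k)) := by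
  rw [Ideal.span_singleton_le_span_singleton]
  exact pow_dvd_pow _ (by norm_num)

noncomputable def piq (k : Type u) [Field k] : Tq k 3 →ₐ[k] Tq k 2 :=
  Ideal.Quotient.factorₐ k (span_le k)

/-- every `k[t]/(t^2)`-point lifts to a `k[t]/(t^3)`-point -/
def Lift (k : Type u) [Field k] (Q : Type u) [CommRing Q] [Algebra k Q] : Prop :=
  ∀ ψ : Q →ₐ[k] Tq k 2, ∃ ψ' : Q →ₐ[k] Tq k 3, (piq k).comp ψ' = ψ

theorem Lift_of_equiv {Q Q' : Type u} [CommRing Q] [Algebra k Q] [CommRing Q'] [Algebra k Q']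
    (e : Q ≃ₐ[k] Q') (h : Lift k Q) : Lift k Q' := by
  intro ψ
  obtain ⟨ψ', hψ'⟩ := h (ψ.comp (e : Q →ₐ[k] Q'))
  refine ⟨ψ'.comp (e.symm : Q' →ₐ[k] Q), ?_⟩
  apply AlgHom.ext
  intro x
  have := DFunLike.congr_fun hψ' (e.symm x)
  have h2 : (e : Q →ₐ[k] Q') (e.symm x) = x := e.apply_symm_apply x
  show piq k (ψ' (e.symm x)) = ψ x
  have h3 : piq k (ψ' (e.symm x)) = ψ ((e : Q →ₐ[k] Q') (e.symm x)) := this
  rw [h3, h2]

/-- the maximal ideal is principal -/
def PM (Q : Type u) [CommRing Q] : Prop :=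
  ∃ t : Q, ¬ IsUnit t ∧ ∀ u : Q, ¬ IsUnit u → t ∣ u

theorem PM_of_equiv {Q Q' : Type u} [CommRing Q] [Algebra k Q] [CommRing Q'] [Algebra k Q']
    (e : Q ≃ₐ[k] Q') (h : PM Q) : PM Q' := by
  obtain ⟨t, ht, hu⟩ := h
  refine ⟨e t, fun h' => ht ?_, fun u hu' => ?_⟩
  · have := h'.map e.symm
    rwa [AlgEquiv.symm_apply_apply] at this
  · have h1 : ¬ IsUnit (e.symm u) := fun h' => hu' (by
      have := h'.map e
      rwa [AlgEquiv.apply_symm_apply] at this)
    obtain ⟨c, hc⟩ := hu _ h1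
    exact ⟨e c, by rw [← map_mul, ← hc, AlgEquiv.apply_symm_apply]⟩

theorem cc_rep (χ : MvPowerSeries (Fin 2) k →ₐ[k] Tq k 2) (G : MvPowerSeries (Fin 2) k)
    (hG : MvPowerSeries.constantCoeff G = 0) (p : PowerSeries k)
    (hp : Ideal.Quotient.mk _ p = χ G) : PowerSeries.constantCoeff p = 0 := by
  by_contra hc
  obtain ⟨c, hcdef⟩ : ∃ c, c = PowerSeries.constantCoeff p := ⟨_, rfl⟩
  rw [← hcdef] at hc
  have hU : IsUnit (G - MvPowerSeries.C c) := by
    rw [MvPowerSeries.isUnit_iff_constantCoeff, map_sub, hG, MvPowerSeries.constantCoeff_C,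
      zero_sub]
    exact (isUnit_iff_ne_zero.mpr hc).neg
  have hC : χ (MvPowerSeries.C c) = Ideal.Quotient.mk _ (PowerSeries.C c) := χ.commutes c
  have hχU : χ (G - MvPowerSeries.C c) = Ideal.Quotient.mk _ (p - PowerSeries.C c) := by
    rw [map_sub, map_sub, hC, hp]
  have hX : PowerSeries.X ∣ p - PowerSeries.C c := by
    rw [PowerSeries.X_dvd_iff, map_sub, PowerSeries.constantCoeff_C, hcdef, sub_self]
  obtain ⟨t, ht⟩ := hX
  have hsq : (Ideal.Quotient.mk (Ideal.span ({(PowerSeries.X : PowerSeries k) ^ 2} :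
      Set (PowerSeries k))) (p - PowerSeries.C c)) ^ 2 = 0 := by
    rw [← map_pow, Ideal.Quotient.eq_zero_iff_mem, Ideal.mem_span_singleton, ht, mul_pow]
    exact Dvd.intro _ rfl
  have hu : IsUnit (χ (G - MvPowerSeries.C c)) := hU.map χ
  rw [hχU] at hu
  have h0 : IsUnit ((0 : Tq k 2)) := by
    rw [← hsq]
    exact hu.pow 2
  rw [isUnit_zero_iff] at h0
  have h1 : (1 : PowerSeries k) ∈ Ideal.span ({(PowerSeries.X : PowerSeries k) ^ 2} :
      Set (PowerSeries k)) := by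
    rw [← Ideal.Quotient.eq_zero_iff_mem, map_one]
    exact h0.symm
  rw [Ideal.mem_span_singleton] at h1
  obtain ⟨w, hw⟩ := h1
  have := congrArg PowerSeries.constantCoeff hw
  rw [map_one, map_mul, map_pow, PowerSeries.constantCoeff_X, zero_pow two_ne_zero,
    zero_mul] at this
  exact one_ne_zero this

theorem lift_of_Ifil3 (F : MvPowerSeries (Fin 2) k) (hF : F ∈ Ifil (Fin 2) k 3) :
    Lift k (MvPowerSeries (Fin 2) k ⧸ Ideal.span ({F} : Set (MvPowerSeries (Fin 2) k))) := by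
  intro ψ
  obtain ⟨χ, hχ⟩ : ∃ χ : MvPowerSeries (Fin 2) k →ₐ[k] Tq k 2,
      ∀ G, χ G = ψ (Ideal.Quotient.mk _ G) :=
    ⟨ψ.comp (Ideal.Quotient.mkₐ k _), fun G => rfl⟩
  choose p hp using fun i : Fin 2 => Ideal.Quotient.mk_surjective (χ (MvPowerSeries.X i))
  have hp0 : ∀ i, PowerSeries.constantCoeff (p i) = 0 :=
    fun i => cc_rep χ _ (MvPowerSeries.constantCoeff_X i) (p i) (hp i)
  obtain ⟨φ, hφ⟩ : ∃ φ : MvPowerSeries (Fin 2) k →ₐ[k] PowerSeries k,
      ∀ i, φ (MvPowerSeries.X i) = p i :=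
    exists_algHom (σ := Fin 2) (τ := Unit) (R := k) p hp0
  have hφ1 : ∀ i, φ (MvPowerSeries.X i) ∈ Ifil Unit k 1 := fun i => by
    rw [hφ i]
    exact mem_Ifil_one_iff.mpr (hp0 i)
  have hdvd : ∀ (N : ℕ) (T : MvPowerSeries (Fin 2) k), T ∈ Ifil (Fin 2) k N →
      PowerSeries.X ^ N ∣ φ T :=
    fun N T hT => dvd_of_mem_Ifil N _ (algHom_mem_Ifil φ hφ1 N T hT)
  obtain ⟨χ₁, hχ₁⟩ : ∃ χ₁ : MvPowerSeries (Fin 2) k →ₐ[k] Tq k 2,
      ∀ G, χ₁ G = Ideal.Quotient.mk _ (φ G) :=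
    ⟨(Ideal.Quotient.mkₐ k _).comp φ, fun G => rfl⟩
  have hpp : ∀ i j, (Ideal.Quotient.mk (Ideal.span ({(PowerSeries.X : PowerSeries k) ^ 2} :
      Set (PowerSeries k))) (p i)) * Ideal.Quotient.mk _ (p j) = 0 := by
    intro i j
    rw [← map_mul, Ideal.Quotient.eq_zero_iff_mem, Ideal.mem_span_singleton, pow_two]
    exact mul_dvd_mul (PowerSeries.X_dvd_iff.mpr (hp0 i)) (PowerSeries.X_dvd_iff.mpr (hp0 j))
  have hagree : ∀ G, χ₁ G = χ G := by
    apply hom_eq_of_X χ₁ χ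
    · intro i
      rw [hχ₁, hφ i, hp i]
    · apply kill_of_X
      intro i j
      rw [hχ₁, hχ₁, hφ i, hφ j]
      exact hpp i j
    · apply kill_of_X
      intro i j
      rw [← hp i, ← hp j]
      exact hpp i j
  have hF3 : Ideal.Quotient.mk (Ideal.span ({(PowerSeries.X : PowerSeries k) ^ 3} :
      Set (PowerSeries k))) (φ F) = 0 := by
    rw [Ideal.Quotient.eq_zero_iff_mem, Ideal.mem_span_singleton]
    exact hdvd 3 F hF
  have hker : ∀ x : MvPowerSeries (Fin 2) k,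
      x ∈ Ideal.span ({F} : Set (MvPowerSeries (Fin 2) k)) →
      ((Ideal.Quotient.mkₐ k (Ideal.span ({(PowerSeries.X : PowerSeries k) ^ 3} :
        Set (PowerSeries k)))).comp φ) x = 0 := by
    intro x hx
    rw [Ideal.mem_span_singleton] at hx
    obtain ⟨c, rfl⟩ := hx
    show Ideal.Quotient.mk _ (φ (F * c)) = 0
    rw [map_mul φ, map_mul, hF3, zero_mul]
  refine ⟨Ideal.Quotient.liftₐ _ _ hker, ?_⟩
  apply AlgHom.ext
  intro x
  obtain ⟨G, rfl⟩ := Ideal.Quotient.mk_surjective x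
  rw [← hχ, ← hagree, hχ₁]
  rfl

theorem not_lift (E e' : MvPowerSeries (Fin 2) k)
    (hE : E = MvPowerSeries.X 1 ^ 2 - MvPowerSeries.X 0 ^ 2 * e') :
    ¬ Lift k (MvPowerSeries (Fin 2) k ⧸ Ideal.span ({E} : Set (MvPowerSeries (Fin 2) k))) := by
  subst hE
  intro hL
  have h0 : ∀ i : Fin 2,
      PowerSeries.constantCoeff ((![0, PowerSeries.X] : Fin 2 → PowerSeries k) i) = 0 :=
    Fin.forall_fin_two.mpr ⟨map_zero _, PowerSeries.constantCoeff_X⟩
  obtain ⟨ℓ, hℓ⟩ : ∃ ℓ : MvPowerSeries (Fin 2) k →ₐ[k] PowerSeries k,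
      ∀ i, ℓ (MvPowerSeries.X i) = (![0, PowerSeries.X] : Fin 2 → PowerSeries k) i :=
    exists_algHom (σ := Fin 2) (τ := Unit) (R := k) _ h0
  have hℓ0 : ℓ (MvPowerSeries.X 0) = 0 := hℓ 0
  have hℓ1 : ℓ (MvPowerSeries.X 1) = PowerSeries.X := hℓ 1
  have hℓE : ℓ (MvPowerSeries.X 1 ^ 2 - MvPowerSeries.X 0 ^ 2 * e') = PowerSeries.X ^ 2 := by
    rw [map_sub, map_mul, map_pow, map_pow, hℓ0, hℓ1]
    ring
  have hker : ∀ x : MvPowerSeries (Fin 2) k,
      x ∈ Ideal.span ({MvPowerSeries.X 1 ^ 2 - MvPowerSeries.X 0 ^ 2 * e'} :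
        Set (MvPowerSeries (Fin 2) k)) →
      ((Ideal.Quotient.mkₐ k (Ideal.span ({(PowerSeries.X : PowerSeries k) ^ 2} :
        Set (PowerSeries k)))).comp ℓ) x = 0 := by
    intro x hx
    rw [Ideal.mem_span_singleton] at hx
    obtain ⟨c, rfl⟩ := hx
    show Ideal.Quotient.mk _ (ℓ ((MvPowerSeries.X 1 ^ 2 - MvPowerSeries.X 0 ^ 2 * e') * c)) = 0
    rw [map_mul ℓ, hℓE, Ideal.Quotient.eq_zero_iff_mem, Ideal.mem_span_singleton]
    exact Dvd.intro _ rfl
  obtain ⟨ψ', hψ'⟩ := hL (Ideal.Quotient.liftₐ _ _ hker)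
  have hψ : ∀ G : MvPowerSeries (Fin 2) k,
      piq k (ψ' (Ideal.Quotient.mk _ G)) = Ideal.Quotient.mk _ (ℓ G) := by
    intro G
    have := DFunLike.congr_fun hψ' (Ideal.Quotient.mk _ G)
    exact this
  obtain ⟨q0, hq0⟩ := Ideal.Quotient.mk_surjective (ψ' (Ideal.Quotient.mk _ (MvPowerSeries.X 0)))
  obtain ⟨q1, hq1⟩ := Ideal.Quotient.mk_surjective (ψ' (Ideal.Quotient.mk _ (MvPowerSeries.X 1)))
  obtain ⟨qe, hqe⟩ := Ideal.Quotient.mk_surjective (ψ' (Ideal.Quotient.mk _ e'))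
  have h0' : (Ideal.Quotient.mk (Ideal.span ({(PowerSeries.X : PowerSeries k) ^ 2} :
      Set (PowerSeries k))) q0) = 0 := by
    have := hψ (MvPowerSeries.X 0)
    rw [← hq0, hℓ0, map_zero] at this
    exact this
  have h1' : (Ideal.Quotient.mk (Ideal.span ({(PowerSeries.X : PowerSeries k) ^ 2} :
      Set (PowerSeries k))) q1) = Ideal.Quotient.mk _ PowerSeries.X := by
    have := hψ (MvPowerSeries.X 1)
    rw [← hq1, hℓ1] at this
    exact this
  rw [Ideal.Quotient.eq_zero_iff_mem, Ideal.mem_span_singleton] at h0'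
  rw [Ideal.Quotient.eq, Ideal.mem_span_singleton] at h1'
  have hE0 : (Ideal.Quotient.mk (Ideal.span ({MvPowerSeries.X 1 ^ 2 -
      MvPowerSeries.X 0 ^ 2 * e'} : Set (MvPowerSeries (Fin 2) k)))
      (MvPowerSeries.X 1 ^ 2 - MvPowerSeries.X 0 ^ 2 * e')) = 0 :=
    Ideal.Quotient.eq_zero_iff_mem.mpr (Ideal.mem_span_singleton_self _)
  have h3 : ψ' (Ideal.Quotient.mk _ (MvPowerSeries.X 1 ^ 2 - MvPowerSeries.X 0 ^ 2 * e')) = 0 := by
    rw [hE0, map_zero]
  simp only [map_sub, map_mul, map_pow] at h3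
  rw [← hq0, ← hq1, ← hqe] at h3
  simp only [← map_pow, ← map_mul, ← map_sub] at h3
  rw [Ideal.Quotient.eq_zero_iff_mem, Ideal.mem_span_singleton] at h3
  obtain ⟨a, ha⟩ := h0'
  obtain ⟨b, hb⟩ := h1'
  obtain ⟨w, hw⟩ := h3
  have hq1' : q1 = PowerSeries.X + PowerSeries.X ^ 2 * b := by linear_combination hb
  rw [hq1', ha] at hw
  have key : (1 + PowerSeries.X * b) ^ 2 = PowerSeries.X * (w + PowerSeries.X * a ^ 2 * qe) := by
    apply mul_left_cancel₀ (pow_ne_zero 2 (PowerSeries.X_ne_zero (R := k)))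
    linear_combination hw
  have := congrArg PowerSeries.constantCoeff key
  simp only [map_pow, map_add, map_one, map_mul, PowerSeries.constantCoeff_X, zero_mul,
    add_zero, one_pow] at this
  exact one_ne_zero this

theorem PM_A0 : PM (ArSing.ring k 0) := by
  have hE : MvPowerSeries.constantCoeff (ArSing.eqn k 0) = 0 := by
    simp [ArSing.eqn]
  refine ⟨Ideal.Quotient.mk _ (MvPowerSeries.X 1),
    not_isUnit_mk _ _ hE (MvPowerSeries.constantCoeff_X 1), ?_⟩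
  intro u hu
  obtain ⟨G, rfl⟩ := Ideal.Quotient.mk_surjective u
  have hG := nonunit_cc _ G hu
  have hG1 : G ∈ Ifil (Fin 2) k (0 + 1) := by
    rw [zero_add]
    exact mem_Ifil_one_iff.mpr hG
  obtain ⟨g, -, hg⟩ := decomp hG1
  rw [Fin.sum_univ_two] at hg
  have hx : Ideal.Quotient.mk (Ideal.span ({ArSing.eqn k 0} : Set (MvPowerSeries (Fin 2) k)))
      (MvPowerSeries.X 0) = Ideal.Quotient.mk _ (MvPowerSeries.X 1) ^ 2 := by
    rw [← map_pow, eq_comm, Ideal.Quotient.eq, Ideal.mem_span_singleton]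
    refine ⟨1, ?_⟩
    unfold ArSing.eqn
    ring
  refine ⟨Ideal.Quotient.mk _ (MvPowerSeries.X 1) * Ideal.Quotient.mk _ (g 0) +
    Ideal.Quotient.mk _ (g 1), ?_⟩
  rw [hg, map_add, map_mul, map_mul, hx]
  ring

theorem not_PM (F : MvPowerSeries (Fin 2) k) (hF : F ∈ Ifil (Fin 2) k 2) :
    ¬ PM (MvPowerSeries (Fin 2) k ⧸ Ideal.span ({F} : Set (MvPowerSeries (Fin 2) k))) := by
  rintro ⟨t, ht, hdiv⟩
  obtain ⟨T, rfl⟩ := Ideal.Quotient.mk_surjective t
  have hF0 : MvPowerSeries.constantCoeff F = 0 :=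
    mem_Ifil_one_iff.mp (Ifil_mono (by norm_num) hF)
  have hT0 : MvPowerSeries.constantCoeff T = 0 := nonunit_cc _ T ht
  have key : ∀ i : Fin 2, ∃ H c : MvPowerSeries (Fin 2) k,
      MvPowerSeries.X i = T * H + F * c := by
    intro i
    obtain ⟨v, hv⟩ := hdiv (Ideal.Quotient.mk _ (MvPowerSeries.X i))
      (not_isUnit_mk F _ hF0 (MvPowerSeries.constantCoeff_X i))
    obtain ⟨H, rfl⟩ := Ideal.Quotient.mk_surjective v
    rw [← map_mul, Ideal.Quotient.eq, Ideal.mem_span_singleton] at hv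
    obtain ⟨c, hc⟩ := hv
    exact ⟨H, c, by linear_combination hc⟩
  have hdeg : ∀ j : Fin 2, (Finsupp.single j 1 : Fin 2 →₀ ℕ).degree < 2 := fun j => by
    rw [Finsupp.degree_single]
    norm_num
  have lin : ∀ (j : Fin 2) (H c : MvPowerSeries (Fin 2) k),
      MvPowerSeries.coeff (Finsupp.single j 1) (T * H + F * c) =
        MvPowerSeries.coeff (Finsupp.single j 1) T * MvPowerSeries.constantCoeff H := by
    intro j H c
    have hH' : H - MvPowerSeries.C (MvPowerSeries.constantCoeff H) ∈ Ifil (Fin 2) k 1 := by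
      rw [mem_Ifil_one_iff, map_sub, MvPowerSeries.constantCoeff_C, sub_self]
    have h1 : T * (H - MvPowerSeries.C (MvPowerSeries.constantCoeff H)) ∈ Ifil (Fin 2) k 2 :=
      mul_mem_Ifil (mem_Ifil_one_iff.mpr hT0) hH'
    have h2 : F * c ∈ Ifil (Fin 2) k 2 := mul_mem_Ifil hF (mem_Ifil_zero c)
    have e : T * H + F * c = T * MvPowerSeries.C (MvPowerSeries.constantCoeff H) +
        (T * (H - MvPowerSeries.C (MvPowerSeries.constantCoeff H)) + F * c) := by ring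
    rw [e, map_add, map_add, h1 _ (hdeg j), h2 _ (hdeg j), add_zero, add_zero,
      MvPowerSeries.coeff_mul_C]
  obtain ⟨H0, c0, e0⟩ := key 0
  obtain ⟨H1, c1, e1⟩ := key 1
  have a00 := lin 0 H0 c0
  rw [← e0, MvPowerSeries.coeff_index_single_self_X] at a00
  have a01 := lin 1 H0 c0
  rw [← e0, MvPowerSeries.coeff_index_single_X, if_neg (show ¬ ((1 : Fin 2) = 0) by decide)] at a01
  have a11 := lin 1 H1 c1
  rw [← e1, MvPowerSeries.coeff_index_single_self_X] at a11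
  have hh0 : MvPowerSeries.constantCoeff H0 ≠ 0 := by
    intro h
    rw [h, mul_zero] at a00
    exact one_ne_zero a00
  have hτ1 : MvPowerSeries.coeff (Finsupp.single (1 : Fin 2) 1) T = 0 := by
    rcases mul_eq_zero.mp a01.symm with h | h
    · exact h
    · exact absurd h hh0
  rw [hτ1, zero_mul] at a11
  exact one_ne_zero a11

theorem forward (F : MvPowerSeries (Fin 2) k) (hF : F ∈ Ifil (Fin 2) k 3) :
    ¬ ((∃ n : ℕ, Nonempty ((MvPowerSeries (Fin 2) k ⧸
          Ideal.span ({F} : Set (MvPowerSeries (Fin 2) k))) ≃ₐ[k] ArSing.ring k n)) ∨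
        Nonempty ((MvPowerSeries (Fin 2) k ⧸
          Ideal.span ({F} : Set (MvPowerSeries (Fin 2) k))) ≃ₐ[k]
          (MvPowerSeries (Fin 2) k ⧸
            Ideal.span ({MvPowerSeries.X 1 ^ 2} : Set (MvPowerSeries (Fin 2) k))))) := by
  rintro (⟨n, he⟩ | he)
  · obtain ⟨e⟩ := he
    cases n with
    | zero =>
      exact not_PM F (Ifil_mono (by norm_num) hF) (PM_of_equiv e.symm PM_A0)
    | succ m =>
      exact not_lift (ArSing.eqn k (m + 1)) (MvPowerSeries.X 0 ^ m)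
        (by unfold ArSing.eqn; ring) (Lift_of_equiv e (lift_of_Ifil3 F hF))
  · obtain ⟨e⟩ := he
    exact not_lift (MvPowerSeries.X 1 ^ 2) 0 (by ring) (Lift_of_equiv e (lift_of_Ifil3 F hF))

end Groth.Agent.Lib.DoublePtH1
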