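import Mathlib
import Groth.Agent.Lib.HensIntDom_lead

/-!
# Valuation of the norm over a complete DVR (helper1, S11088)
-/

open IsLocalRing

universe u

attribute [local instance] FractionRing.liftAlgebra

namespace Groth.Agent.Lib.NormValH1

theorem henselian_of_complete (A : Type*) [CommRing A] [IsLocalRing A]
    [IsAdicComplete (maximalIdeal A) A] : HenselianLocalRing A where
  is_henselian f hf a₀ h₁ h₂ := HenselianRing.is_henselian f hf a₀ h₁ (h₂.map _)

/-- Local structure of a Dedekind domain finite over a complete DVR. -/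
theorem local_structure (A B : Type u) [CommRing A] [IsDomain A] [IsDiscreteValuationRing A]
    [IsAdicComplete (IsLocalRing.maximalIdeal A) A]
    [CommRing B] [IsDedekindDomain B] [Algebra A B] [Module.Finite A B] [Module.IsTorsionFree A B]
    (M : Ideal B) [M.IsMaximal] :
    M.LiesOver (maximalIdeal A) ∧ M ≠ ⊥ ∧ (maximalIdeal A).primesOver B = {M} ∧
      ∀ I : Ideal B, I ≠ ⊥ → ∃ n : ℕ, I = M ^ n := by
  haveI : HenselianLocalRing A := henselian_of_complete A
  haveI : IsLocalRing B := Groth.Agent.Lib.HensIntDom.isLocalRing_of_finite_domain A B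
  obtain ⟨m, hm⟩ : ∃ m, m = maximalIdeal A := ⟨_, rfl⟩
  rw [← hm]
  haveI : m.IsMaximal := by rw [hm]; infer_instance
  have hm0 : m ≠ ⊥ := by rw [hm]; exact IsDiscreteValuationRing.not_a_field A
  have hMmax : M = maximalIdeal B := IsLocalRing.eq_maximalIdeal inferInstance
  have hunder : M.under A = m := by
    have h1 : (M.under A).IsMaximal := Ideal.isMaximal_comap_of_isIntegral_of_isMaximal (R := A) M
    rw [hm]
    exact IsLocalRing.eq_maximalIdeal h1
  haveI hlo : M.LiesOver m := ⟨hunder.symm⟩
  have hmap0 : m.map (algebraMap A B) ≠ ⊥ := Ideal.map_ne_bot_of_ne_bot hm0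
  have hM0 : M ≠ ⊥ := by
    intro h
    apply hmap0
    rw [eq_bot_iff, ← h]
    exact Ideal.map_le_of_le_comap hunder.ge
  have hnf : ¬ IsField B := Ring.not_isField_iff_exists_prime.mpr ⟨M, hM0, inferInstance⟩
  refine ⟨hlo, hM0, ?_, ?_⟩
  · ext q
    constructor
    · rintro ⟨hq1, hq2⟩
      haveI := hq1
      haveI := hq2
      have h1 : q.IsMaximal := Ideal.IsMaximal.of_liesOver_isMaximal q m
      rw [Set.mem_singleton_iff, hMmax]
      exact IsLocalRing.eq_maximalIdeal h1
    · intro h
      rw [Set.mem_singleton_iff] at h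
      rw [h]
      exact ⟨inferInstance, hlo⟩
  · intro I hI
    have h1 := ((IsDiscreteValuationRing.TFAE B hnf).out 2 6).mp (inferInstance : IsDedekindDomain B)
    obtain ⟨n, hn⟩ := h1 I hI
    exact ⟨n, by rw [hn, hMmax]⟩

theorem main11088 (A B : Type u) [CommRing A] [IsDomain A] [IsDiscreteValuationRing A]
    [IsAdicComplete (IsLocalRing.maximalIdeal A) A]
    [CommRing B] [IsDedekindDomain B] [Algebra A B] [Module.Finite A B] [Module.IsTorsionFree A B]
    [Algebra.IsSeparable (FractionRing A) (FractionRing B)]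
    (M : Ideal B) [M.IsMaximal] (x : B) (hx : x ≠ 0) :
    emultiplicity (IsLocalRing.maximalIdeal A) (Ideal.span {Algebra.intNorm A B x}) =
      (M.inertiaDeg A : ℕ∞) * emultiplicity M (Ideal.span {x}) := by
  obtain ⟨hlo, hM0, hset, hpow⟩ := local_structure A B M
  obtain ⟨m, hm⟩ : ∃ m, m = maximalIdeal A := ⟨_, rfl⟩
  rw [← hm] at hlo hset ⊢
  haveI : m.IsMaximal := by rw [hm]; infer_instance
  haveI := hlo
  have hm0 : m ≠ ⊥ := by rw [hm]; exact IsDiscreteValuationRing.not_a_field A
  have hmap0 : m.map (algebraMap A B) ≠ ⊥ := Ideal.map_ne_bot_of_ne_bot hm0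
  have hMunit : ¬ IsUnit M := by
    rw [Ideal.isUnit_iff]; exact Ideal.IsMaximal.ne_top inferInstance
  have hmunit : ¬ IsUnit m := by
    rw [Ideal.isUnit_iff]; exact Ideal.IsMaximal.ne_top inferInstance
  obtain ⟨k, hk⟩ := hpow (Ideal.span {x}) (by rw [Ne, Ideal.span_singleton_eq_bot]; exact hx)
  obtain ⟨e, he⟩ := hpow (m.map (algebraMap A B)) hmap0
  obtain ⟨s, hs⟩ := Ideal.exists_relNorm_eq_pow_of_isPrime M m
  have hn : Ideal.relNorm A (m.map (algebraMap A B)) = m ^ Module.finrank A B :=
    Ideal.relNorm_algebraMap B m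
  rw [he, map_pow, hs, ← pow_mul] at hn
  have hse : s * e = Module.finrank A B := by
    have h1 := congrArg (emultiplicity m) hn
    rw [emultiplicity_pow_self hm0 hmunit, emultiplicity_pow_self hm0 hmunit] at h1
    exact_mod_cast h1
  have hram : M.ramificationIdx A = e := by
    rw [Ideal.IsDedekindDomain.ramificationIdx_eq_multiplicity m M hmap0, he]
    exact multiplicity_pow_self hM0 hMunit e
  have hsum : M.ramificationIdx A * M.inertiaDeg A = Module.finrank A B := by
    classical
    have hMmem : M ∈ m.primesOver B := by rw [hset]; exact Set.mem_singleton M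
    haveI : Fintype (m.primesOver B) :=
      Set.Finite.fintype (by rw [hset]; exact Set.finite_singleton M)
    have h1 := Ideal.sum_ramification_inertia_eq_finrank m B
    rw [Fintype.sum_eq_single (⟨M, hMmem⟩ : m.primesOver B)] at h1
    · exact h1
    · intro q hq
      exfalso; apply hq
      apply Subtype.ext
      have h2 : (q : Ideal B) ∈ ({M} : Set (Ideal B)) := hset ▸ q.2
      exact h2
  have he0 : 0 < e := by rw [← hram]; exact Ideal.ramificationIdx_pos M A
  have hsf : s = M.inertiaDeg A := by
    apply Nat.eq_of_mul_eq_mul_left he0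
    rw [mul_comm, hse, ← hsum, hram]
  rw [← Ideal.relNorm_singleton, hk, map_pow, hs, ← pow_mul, emultiplicity_pow_self hm0 hmunit,
    emultiplicity_pow_self hM0 hMunit, hsf]
  push_cast
  rfl

end Groth.Agent.Lib.NormValH1
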