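import Mathlib
import Groth.Prelude.Def_W4c1arstab1appArSing
import Groth.Agent.Lib.PowerSeriesInv_helper4
import Groth.Agent.Lib.PSComplete_helper1
import Groth.Agent.Lib.NormVal_helper1
import Groth.Agent.Lib.ArSingStruct_helper1
import Groth.Agent.Lib.DoublePtA_helper1

/-!
# Double points of plane curves, part C (helper1)

Classification: a power series `F ∈ k[[x,y]]` without constant term and of order `≤ 2`
(`k` algebraically closed, `2 ≠ 0`) has `k[[x,y]]/(F)` isomorphic to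
`k[[x,y]]/(y^2 - x^(n+1))` for some `n`, or to `k[[x,y]]/(y^2)`.
-/

set_option autoImplicit false

namespace Groth.Agent.Lib.DoublePtH1

open Groth.Agent.Lib.PSInvH4
open Groth.Agent.Lib.ArSingH1 (Phi Phi_X0 Phi_X1 Phi_phi1 phi1 phi1_X iota A1 x0)

universe u

variable {k : Type u} [Field k]

theorem ord1 (F : MvPowerSeries (Fin 2) k) (hF0 : MvPowerSeries.constantCoeff F = 0)
    (hF1 : ∃ i : Fin 2, MvPowerSeries.coeff (Finsupp.single i 1) F ≠ 0) :
    ∃ θ : MvPowerSeries (Fin 2) k ≃ₐ[k] MvPowerSeries (Fin 2) k, θ (MvPowerSeries.X 1) = F := by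
  rcases Fin.exists_fin_two.mp hF1 with h | h
  · obtain ⟨φ, hφ⟩ := exists_algHom (σ := Fin 2) (τ := Fin 2) (R := k)
      (![MvPowerSeries.X 1, F] : Fin 2 → MvPowerSeries (Fin 2) k)
      (Fin.forall_fin_two.mpr ⟨MvPowerSeries.constantCoeff_X 1, hF0⟩)
    have hφ0 : φ (MvPowerSeries.X 0) = MvPowerSeries.X 1 := hφ 0
    have hφ1 : φ (MvPowerSeries.X 1) = F := hφ 1
    have hbij : Function.Bijective φ := by
      apply formal_inverse φ
      · refine Fin.forall_fin_two.mpr ⟨?_, ?_⟩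
        · rw [hφ0]
          exact MvPowerSeries.constantCoeff_X 1
        · rw [hφ1]
          exact hF0
      · rw [Matrix.det_fin_two]
        simp only [Matrix.of_apply, hφ0, hφ1]
        rw [MvPowerSeries.coeff_index_single_X, MvPowerSeries.coeff_index_single_self_X,
          if_neg (show ¬ ((0 : Fin 2) = 1) by decide), zero_mul, one_mul, zero_sub]
        exact (isUnit_iff_ne_zero.mpr h).neg
    exact ⟨AlgEquiv.ofBijective φ hbij, hφ1⟩
  · obtain ⟨φ, hφ⟩ := exists_algHom (σ := Fin 2) (τ := Fin 2) (R := k)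
      (![MvPowerSeries.X 0, F] : Fin 2 → MvPowerSeries (Fin 2) k)
      (Fin.forall_fin_two.mpr ⟨MvPowerSeries.constantCoeff_X 0, hF0⟩)
    have hφ0 : φ (MvPowerSeries.X 0) = MvPowerSeries.X 0 := hφ 0
    have hφ1 : φ (MvPowerSeries.X 1) = F := hφ 1
    have hbij : Function.Bijective φ := by
      apply formal_inverse φ
      · refine Fin.forall_fin_two.mpr ⟨?_, ?_⟩
        · rw [hφ0]
          exact MvPowerSeries.constantCoeff_X 0
        · rw [hφ1]
          exact hF0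
      · rw [Matrix.det_fin_two]
        simp only [Matrix.of_apply, hφ0, hφ1]
        rw [MvPowerSeries.coeff_index_single_self_X, MvPowerSeries.coeff_index_single_X,
          if_neg (show ¬ ((1 : Fin 2) = 0) by decide), one_mul, zero_mul, sub_zero]
        exact isUnit_iff_ne_zero.mpr h
    exact ⟨AlgEquiv.ofBijective φ hbij, hφ1⟩

theorem exists_ell01 : ∃ ℓ : MvPowerSeries (Fin 2) k →ₐ[k] PowerSeries k,
    ℓ (MvPowerSeries.X 0) = 0 ∧ ℓ (MvPowerSeries.X 1) = PowerSeries.X := by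
  have h0 : ∀ i : Fin 2,
      PowerSeries.constantCoeff ((![0, PowerSeries.X] : Fin 2 → PowerSeries k) i) = 0 :=
    Fin.forall_fin_two.mpr ⟨map_zero _, PowerSeries.constantCoeff_X⟩
  obtain ⟨ℓ, hℓ⟩ : ∃ ℓ : MvPowerSeries (Fin 2) k →ₐ[k] PowerSeries k,
      ∀ i, ℓ (MvPowerSeries.X i) = (![0, PowerSeries.X] : Fin 2 → PowerSeries k) i :=
    exists_algHom (σ := Fin 2) (τ := Unit) (R := k) _ h0
  exact ⟨ℓ, hℓ 0, hℓ 1⟩

theorem ccCX (c : k) :
    PowerSeries.constantCoeff (PowerSeries.C c * PowerSeries.X : PowerSeries k) = 0 := by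
  rw [map_mul, PowerSeries.constantCoeff_X, mul_zero]

theorem coeff_two_ell (F : MvPowerSeries (Fin 2) k) (hF : F ∈ Ifil (Fin 2) k 2) :
    ∃ c : Fin 2 → Fin 2 → k,
      (∀ (v : Fin 2 → k) (ℓ : MvPowerSeries (Fin 2) k →ₐ[k] PowerSeries k),
        (∀ i, ℓ (MvPowerSeries.X i) = PowerSeries.C (v i) * PowerSeries.X) →
        PowerSeries.coeff 2 (ℓ F) = ∑ i, ∑ j, v i * v j * c i j) ∧
      ((c 0 0 = 0 ∧ c 1 1 = 0 ∧ c 0 1 + c 1 0 = 0) → F ∈ Ifil (Fin 2) k 3) := by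
  obtain ⟨g, hg1, hgF⟩ := decomp (N := 1) hF
  choose h hh0 hh using fun i => decomp (N := 0) (hg1 i)
  obtain ⟨c, hc⟩ : ∃ c : Fin 2 → Fin 2 → k,
      ∀ i j, c i j = MvPowerSeries.constantCoeff (h i j) := ⟨fun i j => _, fun i j => rfl⟩
  have hFdec : F = MvPowerSeries.X 0 * (MvPowerSeries.X 0 * h 0 0 + MvPowerSeries.X 1 * h 0 1) +
      MvPowerSeries.X 1 * (MvPowerSeries.X 0 * h 1 0 + MvPowerSeries.X 1 * h 1 1) := by
    rw [hgF, Fin.sum_univ_two, hh 0, hh 1, Fin.sum_univ_two, Fin.sum_univ_two]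
  refine ⟨c, ?_, ?_⟩
  · intro v ℓ hℓ
    have hℓ1 : ∀ i, ℓ (MvPowerSeries.X i) ∈ Ifil Unit k 1 := fun i => by
      rw [hℓ i]
      exact mem_Ifil_one_iff.mpr (ccCX (v i))
    have hcc : ∀ s, PowerSeries.constantCoeff (ℓ s) = MvPowerSeries.constantCoeff s :=
      fun s => cc_algHom ℓ hℓ1 s
    have hterm : ∀ i j, PowerSeries.coeff 2
        (ℓ (MvPowerSeries.X i) * (ℓ (MvPowerSeries.X j) * ℓ (h i j))) = v i * v j * c i j := by
      intro i j
      rw [hℓ i, hℓ j]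
      have e : PowerSeries.C (v i) * PowerSeries.X *
          (PowerSeries.C (v j) * PowerSeries.X * ℓ (h i j)) =
          PowerSeries.X ^ 2 * (PowerSeries.C (v i) * (PowerSeries.C (v j) * ℓ (h i j))) := by
        ring
      rw [e]
      have e2 := PowerSeries.coeff_X_pow_mul
        (PowerSeries.C (v i) * (PowerSeries.C (v j) * ℓ (h i j))) 2 0
      rw [zero_add] at e2
      rw [e2, PowerSeries.coeff_zero_eq_constantCoeff_apply, map_mul, map_mul,
        PowerSeries.constantCoeff_C, PowerSeries.constantCoeff_C, hcc, ← hc]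
      ring
    rw [hFdec]
    simp only [map_add, map_mul, mul_add, hterm, Fin.sum_univ_two]
  · rintro ⟨h00, h11, h01⟩
    have hh' : ∀ i j, h i j - MvPowerSeries.C (c i j) ∈ Ifil (Fin 2) k 1 := fun i j => by
      rw [mem_Ifil_one_iff, map_sub, MvPowerSeries.constantCoeff_C, hc i j, sub_self]
    have hC : (MvPowerSeries.C (c 0 1) : MvPowerSeries (Fin 2) k) + MvPowerSeries.C (c 1 0) = 0 := by
      rw [← map_add, h01, map_zero]
    have e : F = MvPowerSeries.X 0 * (MvPowerSeries.X 0 * (h 0 0 - MvPowerSeries.C (c 0 0))) +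
        MvPowerSeries.X 0 * (MvPowerSeries.X 1 * (h 0 1 - MvPowerSeries.C (c 0 1))) +
        MvPowerSeries.X 1 * (MvPowerSeries.X 0 * (h 1 0 - MvPowerSeries.C (c 1 0))) +
        MvPowerSeries.X 1 * (MvPowerSeries.X 1 * (h 1 1 - MvPowerSeries.C (c 1 1))) := by
      rw [hFdec, h00, h11, map_zero]
      linear_combination (MvPowerSeries.X 0 * MvPowerSeries.X 1) * hC
    rw [e]
    have hm : ∀ i j, MvPowerSeries.X i * (MvPowerSeries.X j * (h i j - MvPowerSeries.C (c i j))) ∈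
        Ifil (Fin 2) k 3 := fun i j =>
      mul_mem_Ifil (X_mem_Ifil_one i) (mul_mem_Ifil (X_mem_Ifil_one j) (hh' i j))
    exact Submodule.add_mem _ (Submodule.add_mem _ (Submodule.add_mem _ (hm 0 0) (hm 0 1))
      (hm 1 0)) (hm 1 1)

theorem dir (F : MvPowerSeries (Fin 2) k) (hF2 : F ∈ Ifil (Fin 2) k 2)
    (hF3 : F ∉ Ifil (Fin 2) k 3) :
    ∃ v : Fin 2 → k, (v = ![0, 1] ∨ v = ![1, 0] ∨ v = ![1, 1]) ∧
      ∀ ℓ : MvPowerSeries (Fin 2) k →ₐ[k] PowerSeries k,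
        (∀ i, ℓ (MvPowerSeries.X i) = PowerSeries.C (v i) * PowerSeries.X) →
        PowerSeries.coeff 2 (ℓ F) ≠ 0 := by
  obtain ⟨c, hc1, hc2⟩ := coeff_two_ell F hF2
  by_cases h11 : c 1 1 = 0
  · by_cases h00 : c 0 0 = 0
    · refine ⟨![1, 1], Or.inr (Or.inr rfl), fun ℓ hℓ => ?_⟩
      rw [hc1 _ ℓ hℓ]
      intro h
      apply hF3
      apply hc2 ⟨h00, h11, ?_⟩
      simp [Fin.sum_univ_two] at h
      rw [h00, h11] at h
      linear_combination h
    · refine ⟨![1, 0], Or.inr (Or.inl rfl), fun ℓ hℓ => ?_⟩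
      rw [hc1 _ ℓ hℓ]
      intro h
      apply h00
      simp [Fin.sum_univ_two] at h
      linear_combination h
  · refine ⟨![0, 1], Or.inl rfl, fun ℓ hℓ => ?_⟩
    rw [hc1 _ ℓ hℓ]
    intro h
    apply h11
    simp [Fin.sum_univ_two] at h
    linear_combination h

theorem exists_theta (M K : Matrix (Fin 2) (Fin 2) k) (hMK : M * K = 1) (hKM : K * M = 1) :
    ∃ θ : MvPowerSeries (Fin 2) k ≃ₐ[k] MvPowerSeries (Fin 2) k,
      ∀ ℓ : MvPowerSeries (Fin 2) k →ₐ[k] PowerSeries k, ℓ (MvPowerSeries.X 0) = 0 →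
        ℓ (MvPowerSeries.X 1) = PowerSeries.X →
        ∀ i, ℓ (θ (MvPowerSeries.X i)) = PowerSeries.C (M i 1) * PowerSeries.X := by
  obtain ⟨φ, hφ⟩ := exists_linHom M
  refine ⟨AlgEquiv.ofBijective φ (bijective_of_lin φ M K hMK hKM hφ), fun ℓ h0 h1 i => ?_⟩
  show ℓ (φ (MvPowerSeries.X i)) = _
  rw [hφ i, lin, Fin.sum_univ_two, map_add, map_mul, map_mul, h0, h1, mul_zero, zero_add]
  congr 1
  exact ℓ.commutes _

/-- reduction modulo `x` as a map `k[[x,y]] → k[[y]]` -/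
noncomputable def rho (k : Type u) [Field k] : MvPowerSeries (Fin 2) k →ₐ[k] PowerSeries k :=
  { (PowerSeries.map (MvPowerSeries.constantCoeff (σ := Fin 1) (R := k))).comp
      ((Phi k : MvPowerSeries (Fin 2) k ≃ₐ[k] PowerSeries (A1 k)) :
        MvPowerSeries (Fin 2) k →+* PowerSeries (A1 k)) with
    commutes' := fun c => by
      show PowerSeries.map MvPowerSeries.constantCoeff
        (Phi k (algebraMap k (MvPowerSeries (Fin 2) k) c)) = algebraMap k (PowerSeries k) c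
      rw [AlgEquiv.commutes, PowerSeries.algebraMap_apply, PowerSeries.map_C,
        MvPowerSeries.algebraMap_apply, MvPowerSeries.constantCoeff_C,
        PowerSeries.algebraMap_apply] }

theorem rho_apply (G : MvPowerSeries (Fin 2) k) :
    rho k G = PowerSeries.map MvPowerSeries.constantCoeff (Phi k G) := rfl

theorem rho_X0 : rho k (MvPowerSeries.X 0) = 0 := by
  rw [rho_apply, Phi_X0, PowerSeries.map_C, x0, MvPowerSeries.constantCoeff_X, map_zero]

theorem rho_X1 : rho k (MvPowerSeries.X 1) = PowerSeries.X := by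
  rw [rho_apply, Phi_X1, PowerSeries.map_X]

theorem res_eq_zero_iff (a : A1 k) :
    IsLocalRing.residue (A1 k) a = 0 ↔ MvPowerSeries.constantCoeff a = 0 := by
  rw [IsLocalRing.residue_eq_zero_iff, IsLocalRing.mem_maximalIdeal, mem_nonunits_iff,
    MvPowerSeries.isUnit_iff_constantCoeff, isUnit_iff_ne_zero, not_ne_iff]

theorem cc_iota_symm (a : A1 k) (ha : a ∈ IsLocalRing.maximalIdeal (A1 k)) :
    PowerSeries.constantCoeff ((iota k).symm a) = 0 := by
  by_contra h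
  have hu : IsUnit ((iota k).symm a) := by
    rw [PowerSeries.isUnit_iff_constantCoeff]
    exact isUnit_iff_ne_zero.mpr h
  have := hu.map (iota k)
  rw [AlgEquiv.apply_symm_apply] at this
  exact (IsLocalRing.mem_maximalIdeal _).mp ha this

theorem weier (ℓ : MvPowerSeries (Fin 2) k →ₐ[k] PowerSeries k)
    (hℓ0 : ℓ (MvPowerSeries.X 0) = 0) (hℓ1 : ℓ (MvPowerSeries.X 1) = PowerSeries.X)
    (G : MvPowerSeries (Fin 2) k) (hc0 : PowerSeries.coeff 0 (ℓ G) = 0)
    (hc1 : PowerSeries.coeff 1 (ℓ G) = 0) (hc2 : PowerSeries.coeff 2 (ℓ G) ≠ 0) :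
    ∃ (U : MvPowerSeries (Fin 2) k) (p1 p0 : PowerSeries k), IsUnit U ∧
      PowerSeries.constantCoeff p1 = 0 ∧ PowerSeries.constantCoeff p0 = 0 ∧
      G = U * (MvPowerSeries.X 1 ^ 2 + phi1 k p1 * MvPowerSeries.X 1 + phi1 k p0) := by
  have hρ : ℓ = rho k := by
    apply algHom_ext_of_X
    · refine Fin.forall_fin_two.mpr ⟨?_, ?_⟩
      · rw [hℓ0, map_zero]
      · rw [hℓ1]
        exact PowerSeries.constantCoeff_X
    · refine Fin.forall_fin_two.mpr ⟨?_, ?_⟩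
      · rw [hℓ0, rho_X0]
      · rw [hℓ1, rho_X1]
  subst hρ
  rw [rho_apply, PowerSeries.coeff_map] at hc0 hc1 hc2
  obtain ⟨g, hg⟩ : ∃ g, g = Phi k G := ⟨_, rfl⟩
  rw [← hg] at hc0 hc1 hc2
  have hne : PowerSeries.map (IsLocalRing.residue (A1 k)) g ≠ 0 := by
    intro h0
    have := congrArg (PowerSeries.coeff 2) h0
    rw [PowerSeries.coeff_map, map_zero, res_eq_zero_iff] at this
    exact hc2 this
  obtain ⟨f, h, H⟩ := PowerSeries.exists_isWeierstrassFactorization hne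
  have hord : (PowerSeries.map (IsLocalRing.residue (A1 k)) g).order = ((2 : ℕ) : ℕ∞) := by
    rw [PowerSeries.order_eq_nat]
    refine ⟨?_, ?_⟩
    · rw [PowerSeries.coeff_map, ne_eq, res_eq_zero_iff]
      exact hc2
    · intro i hi
      rw [PowerSeries.coeff_map, res_eq_zero_iff]
      interval_cases i
      · exact hc0
      · exact hc1
  have hdeg : f.natDegree = 2 := by
    rw [H.natDegree_eq_toNat_order_map, hord]
    simp
  have hmon : f.Monic := H.isDistinguishedAt.monic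
  have hsum := hmon.as_sum
  rw [hdeg, Finset.sum_range_succ, Finset.sum_range_one, pow_zero, pow_one, mul_one] at hsum
  obtain ⟨a0, ha0⟩ : ∃ a0, a0 = f.coeff 0 := ⟨_, rfl⟩
  obtain ⟨a1, ha1⟩ : ∃ a1, a1 = f.coeff 1 := ⟨_, rfl⟩
  rw [← ha0, ← ha1] at hsum
  have ha0m : a0 ∈ IsLocalRing.maximalIdeal (A1 k) := by
    rw [ha0]
    exact H.isDistinguishedAt.mem (by rw [hdeg]; norm_num)
  have ha1m : a1 ∈ IsLocalRing.maximalIdeal (A1 k) := by
    rw [ha1]
    exact H.isDistinguishedAt.mem (by rw [hdeg]; norm_num)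
  have hf_coe : (f : PowerSeries (A1 k)) =
      PowerSeries.X ^ 2 + PowerSeries.C a1 * PowerSeries.X + PowerSeries.C a0 := by
    rw [hsum]
    simp only [Polynomial.coe_add, Polynomial.coe_mul, Polynomial.coe_pow, Polynomial.coe_X,
      Polynomial.coe_C]
    ring
  refine ⟨(Phi k).symm h, (iota k).symm a1, (iota k).symm a0, H.isUnit.map (Phi k).symm,
    cc_iota_symm a1 ha1m, cc_iota_symm a0 ha0m, ?_⟩
  apply (Phi k).injective
  rw [map_mul, AlgEquiv.apply_symm_apply, map_add, map_add, map_mul, map_pow, Phi_X1, Phi_phi1,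
    Phi_phi1, AlgEquiv.apply_symm_apply, AlgEquiv.apply_symm_apply, ← hg, H.eq_mul, hf_coe]
  ring

theorem cc_phi1 (s : PowerSeries k) :
    MvPowerSeries.constantCoeff (phi1 k s) = PowerSeries.constantCoeff s :=
  cc_algHom (σ := Unit) (phi1 k) (fun i => by
    show phi1 k PowerSeries.X ∈ _
    rw [phi1_X]
    exact X_mem_Ifil_one 0) s

theorem fix_phi1 (φ : MvPowerSeries (Fin 2) k →ₐ[k] MvPowerSeries (Fin 2) k)
    (h : φ (MvPowerSeries.X 0) = MvPowerSeries.X 0) (s : PowerSeries k) :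
    φ (phi1 k s) = phi1 k s := by
  have : φ.comp (phi1 k) = phi1 k := by
    apply algHom_ext_of_X
    · intro i
      show MvPowerSeries.constantCoeff (φ (phi1 k PowerSeries.X)) = 0
      rw [phi1_X, h, MvPowerSeries.constantCoeff_X]
    · intro i
      show φ (phi1 k PowerSeries.X) = phi1 k PowerSeries.X
      rw [phi1_X, h]
  exact DFunLike.congr_fun this s

theorem square (h2 : (2 : k) ≠ 0) (p1 p0 : PowerSeries k)
    (hp1 : PowerSeries.constantCoeff p1 = 0) (hp0 : PowerSeries.constantCoeff p0 = 0) :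
    ∃ (θ : MvPowerSeries (Fin 2) k ≃ₐ[k] MvPowerSeries (Fin 2) k) (D : PowerSeries k),
      PowerSeries.constantCoeff D = 0 ∧
      θ (MvPowerSeries.X 1 ^ 2 - phi1 k D) =
        MvPowerSeries.X 1 ^ 2 + phi1 k p1 * MvPowerSeries.X 1 + phi1 k p0 := by
  obtain ⟨s, hs⟩ : ∃ s : PowerSeries k, s = PowerSeries.C (2⁻¹ : k) * p1 := ⟨_, rfl⟩
  have hs0 : PowerSeries.constantCoeff s = 0 := by rw [hs, map_mul, hp1, mul_zero]
  have hss : s + s = p1 := by
    rw [hs, ← two_mul, ← mul_assoc]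
    have : (2 : PowerSeries k) * PowerSeries.C (2⁻¹ : k) = 1 := by
      rw [← map_ofNat (PowerSeries.C (R := k)) 2, ← map_mul, mul_inv_cancel₀ h2, map_one]
    rw [this, one_mul]
  obtain ⟨d, hd⟩ : ∃ d : MvPowerSeries (Fin 2) k, d = phi1 k s := ⟨_, rfl⟩
  have hd0 : MvPowerSeries.constantCoeff d = 0 := by rw [hd, cc_phi1, hs0]
  obtain ⟨φ, hφ⟩ := exists_algHom (σ := Fin 2) (τ := Fin 2) (R := k)
    (![MvPowerSeries.X 0, MvPowerSeries.X 1 + d] : Fin 2 → MvPowerSeries (Fin 2) k)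
    (Fin.forall_fin_two.mpr ⟨MvPowerSeries.constantCoeff_X 0, by
      show MvPowerSeries.constantCoeff (MvPowerSeries.X 1 + d) = 0
      rw [map_add, MvPowerSeries.constantCoeff_X, hd0, add_zero]⟩)
  obtain ⟨ψ, hψ⟩ := exists_algHom (σ := Fin 2) (τ := Fin 2) (R := k)
    (![MvPowerSeries.X 0, MvPowerSeries.X 1 - d] : Fin 2 → MvPowerSeries (Fin 2) k)
    (Fin.forall_fin_two.mpr ⟨MvPowerSeries.constantCoeff_X 0, by
      show MvPowerSeries.constantCoeff (MvPowerSeries.X 1 - d) = 0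
      rw [map_sub, MvPowerSeries.constantCoeff_X, hd0, sub_zero]⟩)
  have hφ0 : φ (MvPowerSeries.X 0) = MvPowerSeries.X 0 := hφ 0
  have hφ1 : φ (MvPowerSeries.X 1) = MvPowerSeries.X 1 + d := hφ 1
  have hψ0 : ψ (MvPowerSeries.X 0) = MvPowerSeries.X 0 := hψ 0
  have hψ1 : ψ (MvPowerSeries.X 1) = MvPowerSeries.X 1 - d := hψ 1
  have hbij : Function.Bijective φ := by
    apply bijective_of_shear φ ψ 1 d hd0
    · exact Fin.forall_fin_two.mpr ⟨fun _ => hφ0, fun h => absurd rfl h⟩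
    · exact hφ1
    · exact Fin.forall_fin_two.mpr ⟨fun _ => hψ0, fun h => absurd rfl h⟩
    · exact hψ1
    · rw [hd]
      exact fix_phi1 φ hφ0 s
    · rw [hd]
      exact fix_phi1 ψ hψ0 s
  refine ⟨AlgEquiv.ofBijective φ hbij, s ^ 2 - p0, ?_, ?_⟩
  · rw [map_sub, map_pow, hs0, hp0]
    ring
  · show φ (MvPowerSeries.X 1 ^ 2 - phi1 k (s ^ 2 - p0)) = _
    rw [map_sub φ, map_pow φ, hφ1, fix_phi1 φ hφ0, map_sub (phi1 k), map_pow (phi1 k), ← hd,
      ← hss, map_add (phi1 k), ← hd]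
    ring

theorem exists_factor (D : PowerSeries k) (hD : D ≠ 0)
    (hD0 : PowerSeries.constantCoeff D = 0) :
    ∃ (n : ℕ) (q : PowerSeries k), D = PowerSeries.X ^ (n + 1) * q ∧
      PowerSeries.constantCoeff q ≠ 0 := by
  classical
  have hex : ∃ N, PowerSeries.coeff N D ≠ 0 := by
    by_contra h
    push_neg at h
    exact hD (PowerSeries.ext (fun n => by rw [h n, map_zero]))
  obtain ⟨hN, hmin⟩ : PowerSeries.coeff (Nat.find hex) D ≠ 0 ∧
      ∀ m < Nat.find hex, ¬ PowerSeries.coeff m D ≠ 0 :=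
    ⟨Nat.find_spec hex, fun m hm => Nat.find_min hex hm⟩
  obtain ⟨N, hNdef⟩ : ∃ N, N = Nat.find hex := ⟨_, rfl⟩
  rw [← hNdef] at hN hmin
  have hN0 : N ≠ 0 := by
    rintro rfl
    apply hN
    rw [PowerSeries.coeff_zero_eq_constantCoeff_apply]
    exact hD0
  obtain ⟨n, rfl⟩ : ∃ n, N = n + 1 := ⟨N - 1, by omega⟩
  have hdvd : PowerSeries.X ^ (n + 1) ∣ D := by
    rw [PowerSeries.X_pow_dvd_iff]
    intro m hm
    exact not_not.mp (hmin m hm)
  obtain ⟨q, hq⟩ := hdvd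
  refine ⟨n, q, hq, ?_⟩
  have e := PowerSeries.coeff_X_pow_mul q (n + 1) 0
  rw [zero_add, ← hq] at e
  rw [← PowerSeries.coeff_zero_eq_constantCoeff_apply, ← e]
  exact hN

theorem exists_sqrt [IsAlgClosed k] (h2 : (2 : k) ≠ 0) (q : PowerSeries k)
    (hq : PowerSeries.constantCoeff q ≠ 0) : ∃ r : PowerSeries k, r ^ 2 = q := by
  haveI : IsAdicComplete (IsLocalRing.maximalIdeal k) k := by
    rw [IsLocalRing.maximalIdeal_eq_bot]
    infer_instance
  haveI : IsAdicComplete (IsLocalRing.maximalIdeal (PowerSeries k)) (PowerSeries k) :=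
    Groth.Agent.Lib.PSCompleteH1.isAdicComplete_maximalIdeal (σ := Unit) (R := k)
  haveI : HenselianLocalRing (PowerSeries k) :=
    Groth.Agent.Lib.NormValH1.henselian_of_complete (PowerSeries k)
  obtain ⟨c, hc⟩ := IsAlgClosed.exists_pow_nat_eq (PowerSeries.constantCoeff q) (n := 2)
    (by norm_num)
  have hc0 : c ≠ 0 := by
    rintro rfl
    apply hq
    rw [← hc]
    ring
  let f : Polynomial (PowerSeries k) := Polynomial.X ^ 2 - Polynomial.C q
  have hf : f.Monic := Polynomial.monic_X_pow_sub_C _ (by norm_num)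
  have mem_max : ∀ s : PowerSeries k, PowerSeries.constantCoeff s = 0 →
      s ∈ IsLocalRing.maximalIdeal (PowerSeries k) := by
    intro s hs
    rw [IsLocalRing.mem_maximalIdeal, mem_nonunits_iff, PowerSeries.isUnit_iff_constantCoeff, hs]
    exact not_isUnit_zero
  have h1 : f.eval (PowerSeries.C c) ∈ IsLocalRing.maximalIdeal (PowerSeries k) := by
    apply mem_max
    simp only [f, Polynomial.eval_sub, Polynomial.eval_pow, Polynomial.eval_X, Polynomial.eval_C,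
      map_sub, map_pow, PowerSeries.constantCoeff_C, hc, sub_self]
  have h3 : IsUnit (f.derivative.eval (PowerSeries.C c)) := by
    have : f.derivative.eval (PowerSeries.C c) = 2 * PowerSeries.C c := by
      simp only [f, Polynomial.derivative_sub, Polynomial.derivative_X_pow,
        Polynomial.derivative_C, sub_zero, Polynomial.eval_mul, Polynomial.eval_C,
        Polynomial.eval_pow, Polynomial.eval_X, Nat.cast_ofNat]
      norm_num
    rw [this, PowerSeries.isUnit_iff_constantCoeff, map_mul, map_ofNat,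
      PowerSeries.constantCoeff_C]
    exact isUnit_iff_ne_zero.mpr (mul_ne_zero h2 hc0)
  obtain ⟨r, hr, -⟩ := HenselianLocalRing.is_henselian f hf (PowerSeries.C c) h1 h3
  refine ⟨r, ?_⟩
  have : r ^ 2 - q = 0 := by
    simpa only [f, Polynomial.IsRoot.def, Polynomial.eval_sub, Polynomial.eval_pow,
      Polynomial.eval_X, Polynomial.eval_C] using hr
  exact sub_eq_zero.mp this

theorem scale [IsAlgClosed k] (h2 : (2 : k) ≠ 0) (D : PowerSeries k) (hD : D ≠ 0)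
    (hD0 : PowerSeries.constantCoeff D = 0) :
    ∃ n : ℕ, Nonempty ((MvPowerSeries (Fin 2) k ⧸ Ideal.span
      ({MvPowerSeries.X 1 ^ 2 - phi1 k D} : Set (MvPowerSeries (Fin 2) k))) ≃ₐ[k]
        ArSing.ring k n) := by
  obtain ⟨n, q, hDq, hq⟩ := exists_factor D hD hD0
  obtain ⟨r, hr⟩ := exists_sqrt h2 q hq
  have hr0 : PowerSeries.constantCoeff r ≠ 0 := by
    intro h
    apply hq
    rw [← hr, map_pow, h]
    ring
  obtain ⟨θ, hθ⟩ := exists_algEquiv_of_diag (σ := Fin 2) (R := k)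
    (![1, phi1 k r] : Fin 2 → MvPowerSeries (Fin 2) k)
    (Fin.forall_fin_two.mpr ⟨by
      show IsUnit (MvPowerSeries.constantCoeff (1 : MvPowerSeries (Fin 2) k))
      rw [map_one]
      exact isUnit_one, by
      show IsUnit (MvPowerSeries.constantCoeff (phi1 k r))
      rw [cc_phi1]
      exact isUnit_iff_ne_zero.mpr hr0⟩)
  have hθ0 : θ (MvPowerSeries.X 0) = MvPowerSeries.X 0 := by
    have := hθ 0
    rw [this]
    exact mul_one _
  have hθ1 : θ (MvPowerSeries.X 1) = MvPowerSeries.X 1 * phi1 k r := hθ 1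
  refine ⟨n, quot_equiv _ (ArSing.eqn k n) θ (phi1 k q) ?_ ?_⟩
  · rw [MvPowerSeries.isUnit_iff_constantCoeff, cc_phi1]
    exact isUnit_iff_ne_zero.mpr hq
  · have hfix : ∀ s, θ (phi1 k s) = phi1 k s := fun s =>
      fix_phi1 (θ : MvPowerSeries (Fin 2) k →ₐ[k] MvPowerSeries (Fin 2) k) hθ0 s
    rw [map_sub, map_pow, hθ1, hfix, hDq, map_mul, map_pow, phi1_X, ← hr, map_pow]
    unfold ArSing.eqn
    ring

theorem classify [IsAlgClosed k] (h2 : (2 : k) ≠ 0) (F : MvPowerSeries (Fin 2) k)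
    (hF2 : F ∈ Ifil (Fin 2) k 2) (hF3 : F ∉ Ifil (Fin 2) k 3) :
    (∃ n : ℕ, Nonempty ((MvPowerSeries (Fin 2) k ⧸
        Ideal.span ({F} : Set (MvPowerSeries (Fin 2) k))) ≃ₐ[k] ArSing.ring k n)) ∨
      Nonempty ((MvPowerSeries (Fin 2) k ⧸
        Ideal.span ({F} : Set (MvPowerSeries (Fin 2) k))) ≃ₐ[k]
        (MvPowerSeries (Fin 2) k ⧸
          Ideal.span ({MvPowerSeries.X 1 ^ 2} : Set (MvPowerSeries (Fin 2) k)))) := by
  obtain ⟨ℓ, hℓ0, hℓ1⟩ := exists_ell01 (k := k)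
  obtain ⟨v, hv, hdir⟩ := dir F hF2 hF3
  obtain ⟨θ, hθ⟩ : ∃ θ : MvPowerSeries (Fin 2) k ≃ₐ[k] MvPowerSeries (Fin 2) k,
      ∀ i, ℓ (θ (MvPowerSeries.X i)) = PowerSeries.C (v i) * PowerSeries.X := by
    rcases hv with rfl | rfl | rfl
    · obtain ⟨θ, hθ⟩ := exists_theta (1 : Matrix (Fin 2) (Fin 2) k) 1 (one_mul 1) (one_mul 1)
      have hM : ∀ i : Fin 2, (1 : Matrix (Fin 2) (Fin 2) k) i 1 = (![0, 1] : Fin 2 → k) i :=
        Fin.forall_fin_two.mpr ⟨by simp, by simp⟩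
      exact ⟨θ, fun i => by rw [hθ ℓ hℓ0 hℓ1 i, hM i]⟩
    · obtain ⟨θ, hθ⟩ := exists_theta (!![0, 1; 1, 0] : Matrix (Fin 2) (Fin 2) k) !![0, 1; 1, 0]
        (by simp [Matrix.mul_fin_two, Matrix.one_fin_two])
        (by simp [Matrix.mul_fin_two, Matrix.one_fin_two])
      have hM : ∀ i : Fin 2, (!![0, 1; 1, 0] : Matrix (Fin 2) (Fin 2) k) i 1 =
          (![1, 0] : Fin 2 → k) i := Fin.forall_fin_two.mpr ⟨by simp, by simp⟩
      exact ⟨θ, fun i => by rw [hθ ℓ hℓ0 hℓ1 i, hM i]⟩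
    · obtain ⟨θ, hθ⟩ := exists_theta (!![1, 1; 0, 1] : Matrix (Fin 2) (Fin 2) k) !![1, -1; 0, 1]
        (by simp [Matrix.mul_fin_two, Matrix.one_fin_two])
        (by simp [Matrix.mul_fin_two, Matrix.one_fin_two])
      have hM : ∀ i : Fin 2, (!![1, 1; 0, 1] : Matrix (Fin 2) (Fin 2) k) i 1 =
          (![1, 1] : Fin 2 → k) i := Fin.forall_fin_two.mpr ⟨by simp, by simp⟩
      exact ⟨θ, fun i => by rw [hθ ℓ hℓ0 hℓ1 i, hM i]⟩
  obtain ⟨lam, hlam⟩ : ∃ lam : MvPowerSeries (Fin 2) k →ₐ[k] PowerSeries k,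
      ∀ G, lam G = ℓ (θ G) :=
    ⟨ℓ.comp (θ : MvPowerSeries (Fin 2) k →ₐ[k] MvPowerSeries (Fin 2) k), fun G => rfl⟩
  have hlamX : ∀ i, lam (MvPowerSeries.X i) = PowerSeries.C (v i) * PowerSeries.X :=
    fun i => by rw [hlam, hθ i]
  have hlam1 : ∀ i, lam (MvPowerSeries.X i) ∈ Ifil Unit k 1 := fun i => by
    rw [hlamX i]
    exact mem_Ifil_one_iff.mpr (ccCX (v i))
  have hmem : lam F ∈ Ifil Unit k 2 := algHom_mem_Ifil lam hlam1 2 F hF2
  have hc2 : PowerSeries.coeff 2 (ℓ (θ F)) ≠ 0 := by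
    rw [← hlam]
    exact hdir lam hlamX
  have hc0 : PowerSeries.coeff 0 (ℓ (θ F)) = 0 := by
    rw [← hlam]
    exact coeff_of_mem_Ifil 2 _ hmem 0 (by norm_num)
  have hc1 : PowerSeries.coeff 1 (ℓ (θ F)) = 0 := by
    rw [← hlam]
    exact coeff_of_mem_Ifil 2 _ hmem 1 (by norm_num)
  obtain ⟨U, p1, p0, hU, hp1, hp0, hG⟩ := weier ℓ hℓ0 hℓ1 (θ F) hc0 hc1 hc2
  obtain ⟨θ₁, D, hD0, hθ₁⟩ := square h2 p1 p0 hp1 hp0
  obtain ⟨e1⟩ := quot_equiv F _ θ U hU hG
  by_cases hD : D = 0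
  · right
    obtain ⟨e2⟩ := quot_equiv (MvPowerSeries.X 1 ^ 2)
      (MvPowerSeries.X 1 ^ 2 + phi1 k p1 * MvPowerSeries.X 1 + phi1 k p0) θ₁ 1 isUnit_one
      (by rw [one_mul, ← hθ₁, hD, map_zero, sub_zero])
    exact ⟨e1.trans e2.symm⟩
  · left
    obtain ⟨e2⟩ := quot_equiv (MvPowerSeries.X 1 ^ 2 - phi1 k D)
      (MvPowerSeries.X 1 ^ 2 + phi1 k p1 * MvPowerSeries.X 1 + phi1 k p0) θ₁ 1 isUnit_one
      (by rw [one_mul]; exact hθ₁)
    obtain ⟨n, ⟨e3⟩⟩ := scale h2 D hD hD0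
    exact ⟨n, ⟨e1.trans (e2.symm.trans e3)⟩⟩

theorem backward [IsAlgClosed k] (h2 : (2 : k) ≠ 0) (F : MvPowerSeries (Fin 2) k)
    (hF0 : MvPowerSeries.constantCoeff F = 0) (hF3 : F ∉ Ifil (Fin 2) k 3) :
    (∃ n : ℕ, Nonempty ((MvPowerSeries (Fin 2) k ⧸
        Ideal.span ({F} : Set (MvPowerSeries (Fin 2) k))) ≃ₐ[k] ArSing.ring k n)) ∨
      Nonempty ((MvPowerSeries (Fin 2) k ⧸
        Ideal.span ({F} : Set (MvPowerSeries (Fin 2) k))) ≃ₐ[k]
        (MvPowerSeries (Fin 2) k ⧸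
          Ideal.span ({MvPowerSeries.X 1 ^ 2} : Set (MvPowerSeries (Fin 2) k)))) := by
  by_cases hF2 : F ∈ Ifil (Fin 2) k 2
  · exact classify h2 F hF2 hF3
  · left
    refine ⟨0, ?_⟩
    rw [mem_Ifil] at hF2
    push_neg at hF2
    obtain ⟨d, hd, hdF⟩ := hF2
    have hd1 : d.degree = 1 := by
      have : d.degree ≠ 0 := by
        intro h0
        have := (Finsupp.degree_eq_zero_iff d).mp h0
        subst this
        exact hdF (by rw [MvPowerSeries.coeff_zero_eq_constantCoeff_apply]; exact hF0)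
      omega
    obtain ⟨j, rfl⟩ := exists_single_of_degree_eq_one hd1
    obtain ⟨θF, hθF⟩ := ord1 F hF0 ⟨j, hdF⟩
    have hE0 : MvPowerSeries.constantCoeff (ArSing.eqn k 0) = 0 := by
      simp [ArSing.eqn]
    have hE1 : MvPowerSeries.coeff (Finsupp.single (0 : Fin 2) 1) (ArSing.eqn k 0) ≠ 0 := by
      have hX2 : (MvPowerSeries.X 1 : MvPowerSeries (Fin 2) k) ^ 2 ∈ Ifil (Fin 2) k 2 := by
        rw [pow_two]
        exact mul_mem_Ifil (X_mem_Ifil_one 1) (X_mem_Ifil_one 1)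
      have h1 : MvPowerSeries.coeff (Finsupp.single (0 : Fin 2) 1)
          ((MvPowerSeries.X 1 : MvPowerSeries (Fin 2) k) ^ 2) = 0 :=
        hX2 _ (by rw [Finsupp.degree_single]; norm_num)
      unfold ArSing.eqn
      rw [map_sub, h1, zero_add, pow_one, MvPowerSeries.coeff_index_single_self_X, zero_sub]
      exact neg_ne_zero.mpr one_ne_zero
    obtain ⟨θE, hθE⟩ := ord1 (ArSing.eqn k 0) hE0 ⟨0, hE1⟩
    obtain ⟨eF⟩ := quot_equiv (MvPowerSeries.X 1) F θF 1 isUnit_one (by rw [one_mul]; exact hθF)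
    obtain ⟨eE⟩ := quot_equiv (MvPowerSeries.X 1) (ArSing.eqn k 0) θE 1 isUnit_one
      (by rw [one_mul]; exact hθE)
    exact ⟨eF.symm.trans eE⟩

end Groth.Agent.Lib.DoublePtH1
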