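import Mathlib
import Groth.Prelude.Def_W4c1arstab1appArSing
import Groth.Agent.Lib.DoublePtA_helper1
import Groth.Agent.Lib.DoublePtB_helper1
import Groth.Agent.Lib.DoublePtC_helper1

/-!
# Double points of plane curves, part D (helper1): the criterion
-/

set_option autoImplicit false

namespace Groth.Agent.Lib.DoublePtH1

open Groth.Agent.Lib.PSInvH4

universe u

theorem main14311 {k : Type u} [Field k] [IsAlgClosed k] (h2 : (2 : k) ≠ 0)
    (f : MvPolynomial (Fin 2) k) (a : Fin 2 → k) (hfa : MvPolynomial.eval a f = 0) :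
    ((∀ i : Fin 2, MvPolynomial.eval a (MvPolynomial.pderiv i f) = 0) ∧
      ∀ i j : Fin 2, MvPolynomial.eval a (MvPolynomial.pderiv i (MvPolynomial.pderiv j f)) = 0) ↔
    ¬ ((∃ n : ℕ, Nonempty ((MvPowerSeries (Fin 2) k ⧸ Ideal.span
        ({(MvPolynomial.aeval (fun i : Fin 2 => MvPolynomial.X i + MvPolynomial.C (a i)) f).toMvPowerSeries} :
          Set (MvPowerSeries (Fin 2) k))) ≃ₐ[k] ArSing.ring k n)) ∨
        Nonempty ((MvPowerSeries (Fin 2) k ⧸ Ideal.span
        ({(MvPolynomial.aeval (fun i : Fin 2 => MvPolynomial.X i + MvPolynomial.C (a i)) f).toMvPowerSeries} :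
          Set (MvPowerSeries (Fin 2) k))) ≃ₐ[k]
          (MvPowerSeries (Fin 2) k ⧸ Ideal.span ({MvPowerSeries.X 1 ^ 2} : Set (MvPowerSeries (Fin 2) k))))) := by
  rw [lhs_iff a h2 f hfa]
  constructor
  · intro hF
    exact forward _ hF
  · intro hn
    by_contra hF3
    exact hn (backward h2 _ (cc_F a f hfa) hF3)

end Groth.Agent.Lib.DoublePtH1
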