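import Mathlib
import Groth.Prelude.Def_W4c1arstab1appArSing
import Groth.Agent.Lib.PowerSeriesInv_helper4
import Groth.Agent.Lib.DoublePtA_helper1
import Groth.Agent.Lib.DoublePtB_helper1
import Groth.Agent.Lib.DoublePtC_helper1

/-!
# Double points of plane curves, part E (helper1)

Linear coefficients of products, translation of polynomials back and forth, and the
"if" direction of the double line criterion: `k[[x,y]]/(G^2 H) ≃ k[[x,y]]/(y^2)` for `G` of
order one and `H` a unit.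
-/

set_option autoImplicit false

namespace Groth.Agent.Lib.DoublePtH1

open Groth.Agent.Lib.PSInvH4

universe u

variable {k : Type u} [Field k]

theorem deg_single_lt_two (j : Fin 2) : (Finsupp.single j 1 : Fin 2 →₀ ℕ).degree < 2 := by
  rw [Finsupp.degree_single]
  norm_num

theorem coeff_lin_of_Ifil2 (S : MvPowerSeries (Fin 2) k) (hS : S ∈ Ifil (Fin 2) k 2)
    (j : Fin 2) : MvPowerSeries.coeff (Finsupp.single j 1) S = 0 :=
  hS _ (deg_single_lt_two j)

theorem coeff_lin_mul (T H : MvPowerSeries (Fin 2) k)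
    (hT : MvPowerSeries.constantCoeff T = 0) (j : Fin 2) :
    MvPowerSeries.coeff (Finsupp.single j 1) (T * H) =
      MvPowerSeries.coeff (Finsupp.single j 1) T * MvPowerSeries.constantCoeff H := by
  have hH' : H - MvPowerSeries.C (MvPowerSeries.constantCoeff H) ∈ Ifil (Fin 2) k 1 := by
    rw [mem_Ifil_one_iff, map_sub, MvPowerSeries.constantCoeff_C, sub_self]
  have h1 : T * (H - MvPowerSeries.C (MvPowerSeries.constantCoeff H)) ∈ Ifil (Fin 2) k 2 :=
    mul_mem_Ifil (mem_Ifil_one_iff.mpr hT) hH'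
  have e : T * H = T * MvPowerSeries.C (MvPowerSeries.constantCoeff H) +
      T * (H - MvPowerSeries.C (MvPowerSeries.constantCoeff H)) := by ring
  rw [e, map_add, h1 _ (deg_single_lt_two j), add_zero, MvPowerSeries.coeff_mul_C]

theorem cc_coe (q : MvPolynomial (Fin 2) k) :
    MvPowerSeries.constantCoeff (q : MvPowerSeries (Fin 2) k) = MvPolynomial.eval 0 q := by
  rw [← MvPowerSeries.coeff_zero_eq_constantCoeff_apply, MvPolynomial.coeff_coe,
    ← MvPolynomial.constantCoeff_eq, ← MvPolynomial.eval_zero]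

theorem lin_coe (q : MvPolynomial (Fin 2) k) (i : Fin 2) :
    MvPowerSeries.coeff (Finsupp.single i 1) (q : MvPowerSeries (Fin 2) k) =
      MvPolynomial.coeff (Finsupp.single i 1) q := MvPolynomial.coeff_coe _ _

theorem coe_sub' (a b : MvPolynomial (Fin 2) k) :
    ((a - b : MvPolynomial (Fin 2) k) : MvPowerSeries (Fin 2) k) =
      (a : MvPowerSeries (Fin 2) k) - (b : MvPowerSeries (Fin 2) k) := by
  ext d
  rw [MvPolynomial.coeff_coe, map_sub, MvPolynomial.coeff_coe, MvPolynomial.coeff_coe,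
    MvPolynomial.coeff_sub]

theorem coe_isUnit (c : MvPolynomial (Fin 2) k) (h : IsUnit c) :
    IsUnit (c : MvPowerSeries (Fin 2) k) := by
  obtain ⟨c', hc'⟩ := h.exists_right_inv
  exact IsUnit.of_mul_eq_one (c' : MvPowerSeries (Fin 2) k)
    (by rw [← MvPolynomial.coe_mul, hc', MvPolynomial.coe_one])

theorem Tr_neg_Tr (a : Fin 2 → k) (p : MvPolynomial (Fin 2) k) : Tr (-a) (Tr a p) = p := by
  have h : (Tr (-a)).comp (Tr a) = AlgHom.id k (MvPolynomial (Fin 2) k) := by
    apply MvPolynomial.algHom_ext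
    intro i
    rw [AlgHom.comp_apply, Tr_X, map_add, Tr_X, Tr_C, AlgHom.id_apply, Pi.neg_apply, map_neg]
    ring
  exact DFunLike.congr_fun h p

theorem Tr_Tr_neg (a : Fin 2 → k) (p : MvPolynomial (Fin 2) k) : Tr a (Tr (-a) p) = p := by
  have := Tr_neg_Tr (-a) p
  rwa [neg_neg] at this

/-- `k[[x,y]]/(G^2 H) ≃ k[[x,y]]/(y^2)` for `G` of order one and `H` a unit. -/
theorem equiv_of_sq_mul (G H : MvPowerSeries (Fin 2) k)
    (hG0 : MvPowerSeries.constantCoeff G = 0)
    (hG1 : ∃ i : Fin 2, MvPowerSeries.coeff (Finsupp.single i 1) G ≠ 0)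
    (hH : MvPowerSeries.constantCoeff H ≠ 0) :
    Nonempty ((MvPowerSeries (Fin 2) k ⧸
        Ideal.span ({G ^ 2 * H} : Set (MvPowerSeries (Fin 2) k))) ≃ₐ[k]
      (MvPowerSeries (Fin 2) k ⧸
        Ideal.span ({MvPowerSeries.X 1 ^ 2} : Set (MvPowerSeries (Fin 2) k)))) := by
  obtain ⟨θ, hθ⟩ := ord1 G hG0 hG1
  have hHu : IsUnit H :=
    MvPowerSeries.isUnit_iff_constantCoeff.mpr (isUnit_iff_ne_zero.mpr hH)
  obtain ⟨b, hb⟩ := hHu.exists_left_inv
  have hbu : IsUnit b := IsUnit.of_mul_eq_one H hb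
  obtain ⟨e⟩ := quot_equiv (MvPowerSeries.X 1 ^ 2) (G ^ 2 * H) θ b hbu (by
    rw [map_pow, hθ]
    linear_combination (-(G ^ 2)) * hb)
  exact ⟨e.symm⟩

theorem backward10 (a : Fin 2 → k) (f g h : MvPolynomial (Fin 2) k) (hf : f = g ^ 2 * h)
    (hh : MvPolynomial.eval a h ≠ 0) (hg0 : MvPolynomial.eval a g = 0)
    (hg1 : ∃ i : Fin 2, MvPolynomial.eval a (MvPolynomial.pderiv i g) ≠ 0) :
    Nonempty ((MvPowerSeries (Fin 2) k ⧸ Ideal.span
        ({(MvPolynomial.aeval (fun i : Fin 2 => MvPolynomial.X i + MvPolynomial.C (a i))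
          f).toMvPowerSeries} : Set (MvPowerSeries (Fin 2) k))) ≃ₐ[k]
      (MvPowerSeries (Fin 2) k ⧸
        Ideal.span ({MvPowerSeries.X 1 ^ 2} : Set (MvPowerSeries (Fin 2) k)))) := by
  have hF : (MvPolynomial.aeval (fun i : Fin 2 => MvPolynomial.X i + MvPolynomial.C (a i))
      f).toMvPowerSeries =
      ((Tr a g : MvPolynomial (Fin 2) k) : MvPowerSeries (Fin 2) k) ^ 2 *
        ((Tr a h : MvPolynomial (Fin 2) k) : MvPowerSeries (Fin 2) k) := by
    show ((Tr a f : MvPolynomial (Fin 2) k) : MvPowerSeries (Fin 2) k) = _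
    rw [hf, map_mul (Tr a), map_pow (Tr a), MvPolynomial.coe_mul, MvPolynomial.coe_pow]
  rw [hF]
  apply equiv_of_sq_mul
  · rw [cc_coe, eval_Tr, hg0]
  · obtain ⟨i, hi⟩ := hg1
    refine ⟨i, ?_⟩
    rw [lin_coe, ← lin_Tr]
    exact hi
  · rw [cc_coe, eval_Tr]
    exact hh

end Groth.Agent.Lib.DoublePtH1
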