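import Mathlib
import Groth.Prelude.Def_W4c1arstab1appArSing
import Groth.Agent.Lib.PowerSeriesInv_helper4
import Groth.Agent.Lib.ArSingStruct_helper1
import Groth.Agent.Lib.DoublePtA_helper1
import Groth.Agent.Lib.DoublePtB_helper1
import Groth.Agent.Lib.DoublePtC_helper1
import Groth.Agent.Lib.DoublePtE_helper1

/-!
# Double points of plane curves, part F (helper1)

If `k[[x,y]]/(F) ≃ k[[x,y]]/(y^2)` then `F = G^2 U` with `G` a prime of order one and `U` a
unit.  The invariant used: the maximal ideal is generated by one element together with an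
element of square zero.
-/

set_option autoImplicit false

namespace Groth.Agent.Lib.DoublePtH1

open Groth.Agent.Lib.PSInvH4
open Groth.Agent.Lib.ArSingH1 (Phi Phi_X0 Phi_X1 A1)

universe u

variable {k : Type u} [Field k]

/-- the maximal ideal is generated by `t` and a square-zero element `η` -/
def PM2 (Q : Type u) [CommRing Q] : Prop :=
  ∃ t η : Q, ¬ IsUnit t ∧ η ^ 2 = 0 ∧ ∀ u : Q, ¬ IsUnit u → ∃ a b : Q, u = a * t + b * η

theorem PM2_of_equiv {Q Q' : Type u} [CommRing Q] [Algebra k Q] [CommRing Q'] [Algebra k Q']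
    (e : Q ≃ₐ[k] Q') (h : PM2 Q) : PM2 Q' := by
  obtain ⟨t, η, ht, hη, hu⟩ := h
  refine ⟨e t, e η, fun h' => ht ?_, ?_, fun u hu' => ?_⟩
  · have := h'.map e.symm
    rwa [AlgEquiv.symm_apply_apply] at this
  · rw [← map_pow, hη, map_zero]
  · have h1 : ¬ IsUnit (e.symm u) := fun h' => hu' (by
      have := h'.map e
      rwa [AlgEquiv.apply_symm_apply] at this)
    obtain ⟨a, b, hab⟩ := hu _ h1
    refine ⟨e a, e b, ?_⟩
    rw [← map_mul, ← map_mul, ← map_add, ← hab, AlgEquiv.apply_symm_apply]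

theorem cc_X1_sq :
    MvPowerSeries.constantCoeff (MvPowerSeries.X 1 ^ 2 : MvPowerSeries (Fin 2) k) = 0 := by
  rw [map_pow, MvPowerSeries.constantCoeff_X, zero_pow two_ne_zero]

theorem PM2_dbl : PM2 (MvPowerSeries (Fin 2) k ⧸
    Ideal.span ({MvPowerSeries.X 1 ^ 2} : Set (MvPowerSeries (Fin 2) k))) := by
  refine ⟨Ideal.Quotient.mk _ (MvPowerSeries.X 0), Ideal.Quotient.mk _ (MvPowerSeries.X 1),
    not_isUnit_mk _ _ cc_X1_sq (MvPowerSeries.constantCoeff_X 0), ?_, ?_⟩
  · rw [← map_pow]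
    exact Ideal.Quotient.eq_zero_iff_mem.mpr (Ideal.mem_span_singleton_self _)
  · intro u hu
    obtain ⟨G, rfl⟩ := Ideal.Quotient.mk_surjective u
    have hG := nonunit_cc _ G hu
    have hG1 : G ∈ Ifil (Fin 2) k (0 + 1) := by
      rw [zero_add]
      exact mem_Ifil_one_iff.mpr hG
    obtain ⟨g, -, hg⟩ := decomp hG1
    rw [Fin.sum_univ_two] at hg
    refine ⟨Ideal.Quotient.mk _ (g 0), Ideal.Quotient.mk _ (g 1), ?_⟩
    rw [hg, map_add, map_mul, map_mul]
    ring

theorem order_one_of_PM2 (F : MvPowerSeries (Fin 2) k) (hF : F ∈ Ifil (Fin 2) k 2)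
    (h : PM2 (MvPowerSeries (Fin 2) k ⧸ Ideal.span ({F} : Set (MvPowerSeries (Fin 2) k)))) :
    ∃ G : MvPowerSeries (Fin 2) k, MvPowerSeries.constantCoeff G = 0 ∧
      (∃ j : Fin 2, MvPowerSeries.coeff (Finsupp.single j 1) G ≠ 0) ∧ F ∣ G ^ 2 := by
  obtain ⟨t, η, ht, hη, hgen⟩ := h
  obtain ⟨T, rfl⟩ := Ideal.Quotient.mk_surjective t
  obtain ⟨G, rfl⟩ := Ideal.Quotient.mk_surjective η
  have hF0 : MvPowerSeries.constantCoeff F = 0 :=
    mem_Ifil_one_iff.mp (Ifil_mono (by norm_num) hF)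
  have hT0 : MvPowerSeries.constantCoeff T = 0 := nonunit_cc _ T ht
  have hdvd : F ∣ G ^ 2 := by
    rw [← map_pow, Ideal.Quotient.eq_zero_iff_mem, Ideal.mem_span_singleton] at hη
    exact hη
  have hG0 : MvPowerSeries.constantCoeff G = 0 := by
    obtain ⟨c, hc⟩ := hdvd
    have := congrArg MvPowerSeries.constantCoeff hc
    rw [map_pow, map_mul, hF0, zero_mul] at this
    exact (pow_eq_zero_iff two_ne_zero).mp this
  refine ⟨G, hG0, ?_, hdvd⟩
  by_contra hno
  push_neg at hno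
  have key : ∀ i : Fin 2, ∃ A B c : MvPowerSeries (Fin 2) k,
      MvPowerSeries.X i = T * A + G * B + F * c := by
    intro i
    obtain ⟨a, b, hab⟩ := hgen (Ideal.Quotient.mk _ (MvPowerSeries.X i))
      (not_isUnit_mk F _ hF0 (MvPowerSeries.constantCoeff_X i))
    obtain ⟨A, rfl⟩ := Ideal.Quotient.mk_surjective a
    obtain ⟨B, rfl⟩ := Ideal.Quotient.mk_surjective b
    rw [← map_mul, ← map_mul, ← map_add, Ideal.Quotient.eq, Ideal.mem_span_singleton] at hab
    obtain ⟨c, hc⟩ := hab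
    exact ⟨A, B, c, by linear_combination hc⟩
  have lin : ∀ (j : Fin 2) (A B c : MvPowerSeries (Fin 2) k),
      MvPowerSeries.coeff (Finsupp.single j 1) (T * A + G * B + F * c) =
        MvPowerSeries.coeff (Finsupp.single j 1) T * MvPowerSeries.constantCoeff A := by
    intro j A B c
    rw [map_add, map_add, coeff_lin_mul T A hT0, coeff_lin_mul G B hG0, hno j, zero_mul,
      add_zero, coeff_lin_of_Ifil2 (F * c) (mul_mem_Ifil hF (mem_Ifil_zero c)), add_zero]
  obtain ⟨A0, B0, c0, e0⟩ := key 0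
  obtain ⟨A1, B1, c1, e1⟩ := key 1
  have a00 := lin 0 A0 B0 c0
  rw [← e0, MvPowerSeries.coeff_index_single_self_X] at a00
  have a01 := lin 1 A0 B0 c0
  rw [← e0, MvPowerSeries.coeff_index_single_X,
    if_neg (show ¬ ((1 : Fin 2) = 0) by decide)] at a01
  have a11 := lin 1 A1 B1 c1
  rw [← e1, MvPowerSeries.coeff_index_single_self_X] at a11
  have hh0 : MvPowerSeries.constantCoeff A0 ≠ 0 := by
    intro h
    rw [h, mul_zero] at a00
    exact one_ne_zero a00
  have hτ1 : MvPowerSeries.coeff (Finsupp.single (1 : Fin 2) 1) T = 0 := by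
    rcases mul_eq_zero.mp a01.symm with h | h
    · exact h
    · exact absurd h hh0
  rw [hτ1, zero_mul] at a11
  exact one_ne_zero a11

theorem prime_X1 : Prime (MvPowerSeries.X 1 : MvPowerSeries (Fin 2) k) := by
  haveI : IsDomain (A1 k) := NoZeroDivisors.to_isDomain _
  have h : Prime (Phi k (MvPowerSeries.X 1)) := by
    rw [Phi_X1]
    exact PowerSeries.X_prime
  exact (MulEquiv.prime_iff (Phi k)).mp h

theorem square_factor {R : Type*} [CommRing R] [IsDomain R] (G F V : R) (hG : Prime G)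
    (h : G ^ 2 = F * V) (hF : ¬ IsUnit F) (hna : ∀ W : R, IsUnit W → F ≠ G * W) :
    ∃ U : R, IsUnit U ∧ F = G ^ 2 * U := by
  have hirr := hG.irreducible
  have hG0 := hG.ne_zero
  have hdiv : G ∣ F * V := ⟨G, by rw [← h]; ring⟩
  rcases hG.dvd_or_dvd hdiv with ⟨F', hF'⟩ | ⟨V', hV'⟩
  · have e : G = F' * V := by
      apply mul_left_cancel₀ hG0
      linear_combination h + V * hF'
    rcases hirr.isUnit_or_isUnit e with hu | hu
    · exact absurd hF' (hna F' hu)
    · obtain ⟨b, hb⟩ := hu.exists_left_inv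
      refine ⟨b, IsUnit.of_mul_eq_one V hb, ?_⟩
      linear_combination (-b) * h - F * hb
  · have e : G = F * V' := by
      apply mul_left_cancel₀ hG0
      linear_combination h + F * hV'
    rcases hirr.isUnit_or_isUnit e with hu | hu
    · exact absurd hu hF
    · obtain ⟨b, hb⟩ := hu.exists_left_inv
      exfalso
      refine hna b (IsUnit.of_mul_eq_one V' hb) ?_
      linear_combination (-b) * e - F * hb

theorem X1_sq_mem_Ifil :
    (MvPowerSeries.X 1 ^ 2 : MvPowerSeries (Fin 2) k) ∈ Ifil (Fin 2) k 2 := by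
  rw [pow_two]
  exact mul_mem_Ifil (X_mem_Ifil_one 1) (X_mem_Ifil_one 1)

theorem structure_of_iso (F : MvPowerSeries (Fin 2) k)
    (e : (MvPowerSeries (Fin 2) k ⧸ Ideal.span ({F} : Set (MvPowerSeries (Fin 2) k))) ≃ₐ[k]
      (MvPowerSeries (Fin 2) k ⧸
        Ideal.span ({MvPowerSeries.X 1 ^ 2} : Set (MvPowerSeries (Fin 2) k)))) :
    ∃ G U : MvPowerSeries (Fin 2) k, MvPowerSeries.constantCoeff G = 0 ∧
      (∃ j : Fin 2, MvPowerSeries.coeff (Finsupp.single j 1) G ≠ 0) ∧ Prime G ∧ IsUnit U ∧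
      F = G ^ 2 * U := by
  haveI : IsDomain (MvPowerSeries (Fin 2) k) := NoZeroDivisors.to_isDomain _
  -- `F` has no constant term
  have hF0 : MvPowerSeries.constantCoeff F = 0 := by
    by_contra hne
    have hFu : IsUnit F :=
      MvPowerSeries.isUnit_iff_constantCoeff.mpr (isUnit_iff_ne_zero.mpr hne)
    haveI : Subsingleton (MvPowerSeries (Fin 2) k ⧸
        Ideal.span ({F} : Set (MvPowerSeries (Fin 2) k))) :=
      Ideal.Quotient.subsingleton_iff.mpr (Ideal.span_singleton_eq_top.mpr hFu)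
    haveI : Subsingleton (MvPowerSeries (Fin 2) k ⧸
        Ideal.span ({MvPowerSeries.X 1 ^ 2} : Set (MvPowerSeries (Fin 2) k))) :=
      e.symm.injective.subsingleton
    have h3 : IsUnit (MvPowerSeries.X 1 ^ 2 : MvPowerSeries (Fin 2) k) :=
      Ideal.span_singleton_eq_top.mp (Ideal.Quotient.subsingleton_iff.mp inferInstance)
    rw [MvPowerSeries.isUnit_iff_constantCoeff, cc_X1_sq] at h3
    exact not_isUnit_zero h3
  -- `F` has order at least two
  have hF2 : F ∈ Ifil (Fin 2) k 2 := by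
    by_contra hnot
    have hj : ∃ j : Fin 2, MvPowerSeries.coeff (Finsupp.single j 1) F ≠ 0 := by
      by_contra hall
      push_neg at hall
      apply hnot
      intro d hd
      rcases Nat.lt_succ_iff_lt_or_eq.mp hd with h | h
      · have hd0 : d = 0 := (Finsupp.degree_eq_zero_iff d).mp (Nat.lt_one_iff.mp h)
        rw [hd0, MvPowerSeries.coeff_zero_eq_constantCoeff_apply]
        exact hF0
      · obtain ⟨j, rfl⟩ := exists_single_of_degree_eq_one h
        exact hall j
    obtain ⟨θ, hθ⟩ := ord1 F hF0 hj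
    obtain ⟨ε0⟩ := quot_equiv (MvPowerSeries.X 1) F θ 1 isUnit_one (by rw [hθ, one_mul])
    haveI hprime : (Ideal.span ({(MvPowerSeries.X 1 : MvPowerSeries (Fin 2) k)} :
        Set (MvPowerSeries (Fin 2) k))).IsPrime :=
      (Ideal.span_singleton_prime (prime_X1 (k := k)).ne_zero).mpr prime_X1
    have h0 : (Ideal.Quotient.mk (Ideal.span ({MvPowerSeries.X 1 ^ 2} :
        Set (MvPowerSeries (Fin 2) k))) (MvPowerSeries.X 1)) ^ 2 = 0 := by
      rw [← map_pow]
      exact Ideal.Quotient.eq_zero_iff_mem.mpr (Ideal.mem_span_singleton_self _)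
    have h2 : ((ε0.trans e).symm (Ideal.Quotient.mk _ (MvPowerSeries.X 1))) ^ 2 = 0 := by
      rw [← map_pow, h0, map_zero]
    have hz : (ε0.trans e).symm (Ideal.Quotient.mk _ (MvPowerSeries.X 1)) = 0 :=
      (pow_eq_zero_iff two_ne_zero).mp h2
    have hz' : Ideal.Quotient.mk (Ideal.span ({MvPowerSeries.X 1 ^ 2} :
        Set (MvPowerSeries (Fin 2) k))) (MvPowerSeries.X 1) = 0 := by
      have := congrArg (ε0.trans e) hz
      rwa [AlgEquiv.apply_symm_apply, map_zero] at this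
    rw [Ideal.Quotient.eq_zero_iff_mem, Ideal.mem_span_singleton] at hz'
    obtain ⟨c, hc⟩ := hz'
    have h3 : (MvPowerSeries.X 1 ^ 2 * c : MvPowerSeries (Fin 2) k) ∈ Ifil (Fin 2) k 2 :=
      mul_mem_Ifil X1_sq_mem_Ifil (mem_Ifil_zero c)
    have h4 := coeff_lin_of_Ifil2 _ h3 1
    rw [← hc, MvPowerSeries.coeff_index_single_self_X] at h4
    exact one_ne_zero h4
  -- transport the invariant
  obtain ⟨G, hG0, ⟨j, hj⟩, V, hV⟩ := order_one_of_PM2 F hF2 (PM2_of_equiv e.symm PM2_dbl)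
  obtain ⟨θ, hθ⟩ := ord1 G hG0 ⟨j, hj⟩
  have hGp : Prime G := by
    rw [← hθ]
    exact (MulEquiv.prime_iff θ).mpr prime_X1
  have hFnu : ¬ IsUnit F := by
    intro hu
    rw [MvPowerSeries.isUnit_iff_constantCoeff, hF0] at hu
    exact not_isUnit_zero hu
  have hna : ∀ W : MvPowerSeries (Fin 2) k, IsUnit W → F ≠ G * W := by
    intro W hW hFW
    have h1 := coeff_lin_of_Ifil2 F hF2 j
    rw [hFW, coeff_lin_mul G W hG0 j] at h1
    rcases mul_eq_zero.mp h1 with h | h
    · exact hj h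
    · rw [MvPowerSeries.isUnit_iff_constantCoeff, h] at hW
      exact not_isUnit_zero hW
  obtain ⟨U, hU, hFU⟩ := square_factor G F V hGp hV hFnu hna
  exact ⟨G, U, hG0, ⟨j, hj⟩, hGp, hU, hFU⟩

end Groth.Agent.Lib.DoublePtH1
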