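import Mathlib
import Groth.Prelude.Def_W4c1arstab1appArSing
import Groth.Agent.Lib.PowerSeriesInv_helper4
import Groth.Agent.Lib.DoublePtA_helper1
import Groth.Agent.Lib.DoublePtE_helper1

/-!
# Double points of plane curves, part G (helper1)

Algebraization: if a polynomial `P ∈ k[x,y]` (`k` algebraically closed) factors in `k[[x,y]]`
as `G^2 U` with `G` prime and `U` a unit, then `P = g^2 h` with polynomials `g`, `h`, where `h`
does not vanish at the origin and `g` is `G` up to a unit.  Ingredients: divisibility in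
`k[[x,y]]` between polynomials descends to `k[x,y]` for a prime divisor through the origin
(Krull's intersection theorem), and an irreducible polynomial stays square-free in `k[[x,y]]`
(derivations, perfectness of `k`).
-/

set_option autoImplicit false

namespace Groth.Agent.Lib.DoublePtH1

open Groth.Agent.Lib.PSInvH4

universe u

variable {k : Type u} [Field k]

theorem trunc_sub_mem (N : ℕ) (V : MvPowerSeries (Fin 2) k) :
    V - ((MvPowerSeries.truncTotal N V : MvPolynomial (Fin 2) k) : MvPowerSeries (Fin 2) k) ∈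
      Ifil (Fin 2) k N := by
  rw [mem_Ifil]
  intro d hd
  rw [map_sub, MvPolynomial.coeff_coe, MvPowerSeries.coeff_truncTotal V hd, sub_self]

theorem mem_pow_of_coe_mem_Ifil (N : ℕ) (q : MvPolynomial (Fin 2) k)
    (h : (q : MvPowerSeries (Fin 2) k) ∈ Ifil (Fin 2) k N) :
    q ∈ MvPolynomial.idealOfVars (Fin 2) k ^ N := by
  rw [MvPolynomial.mem_pow_idealOfVars_iff']
  intro x hx
  rw [← MvPolynomial.coeff_coe]
  exact h x hx

/-- Krull trick: divisibility in `k[[x,y]]` by a prime polynomial through the origin descends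
to `k[x,y]`. -/
theorem dvd_of_coe_dvd (p q : MvPolynomial (Fin 2) k) (hp : Prime p)
    (hp0 : MvPolynomial.eval 0 p = 0)
    (h : (p : MvPowerSeries (Fin 2) k) ∣ (q : MvPowerSeries (Fin 2) k)) : p ∣ q := by
  obtain ⟨V, hV⟩ := h
  obtain ⟨I, hI⟩ : ∃ I : Ideal (MvPolynomial (Fin 2) k), I = Ideal.span {p} := ⟨_, rfl⟩
  haveI : I.IsPrime := by
    rw [hI]
    exact (Ideal.span_singleton_prime hp.ne_zero).mpr hp
  have hev : ∀ x ∈ I, MvPolynomial.eval (0 : Fin 2 → k) x = 0 := by
    intro x hx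
    rw [hI, Ideal.mem_span_singleton] at hx
    obtain ⟨c, rfl⟩ := hx
    rw [map_mul, hp0, zero_mul]
  obtain ⟨m, hm⟩ : ∃ m : Ideal (MvPolynomial (Fin 2) k ⧸ I),
      m = (MvPolynomial.idealOfVars (Fin 2) k).map (Ideal.Quotient.mk I) := ⟨_, rfl⟩
  have hne : m ≠ ⊤ := by
    intro htop
    have hle : m ≤ RingHom.ker
        (Ideal.Quotient.lift I (MvPolynomial.eval (0 : Fin 2 → k)) hev) := by
      rw [hm, Ideal.map_le_iff_le_comap]
      show Ideal.span _ ≤ _
      rw [Ideal.span_le]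
      rintro _ ⟨i, rfl⟩
      show (Ideal.Quotient.lift I (MvPolynomial.eval (0 : Fin 2 → k)) hev)
        (Ideal.Quotient.mk I (MvPolynomial.X i)) = 0
      rw [Ideal.Quotient.lift_mk, MvPolynomial.eval_X]
      rfl
    have h1 : (1 : MvPolynomial (Fin 2) k ⧸ I) ∈ RingHom.ker
        (Ideal.Quotient.lift I (MvPolynomial.eval (0 : Fin 2 → k)) hev) :=
      hle (by rw [htop]; exact Submodule.mem_top)
    rw [RingHom.mem_ker, map_one] at h1
    exact one_ne_zero h1
  have hK := Ideal.iInf_pow_eq_bot_of_isDomain m hne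
  have hq : Ideal.Quotient.mk I q ∈ ⨅ i : ℕ, m ^ i := by
    rw [Ideal.mem_iInf]
    intro N
    have hW := trunc_sub_mem N V
    obtain ⟨W, hWdef⟩ : ∃ W : MvPolynomial (Fin 2) k, W = MvPowerSeries.truncTotal N V :=
      ⟨_, rfl⟩
    rw [← hWdef] at hW
    have h1 : q - p * W ∈ MvPolynomial.idealOfVars (Fin 2) k ^ N := by
      apply mem_pow_of_coe_mem_Ifil
      have e : ((q - p * W : MvPolynomial (Fin 2) k) : MvPowerSeries (Fin 2) k) =
          (V - (W : MvPowerSeries (Fin 2) k)) * (p : MvPowerSeries (Fin 2) k) := by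
        rw [coe_sub', MvPolynomial.coe_mul, hV]
        ring
      rw [e]
      exact mul_mem_Ifil hW (mem_Ifil_zero _)
    have h2 : Ideal.Quotient.mk I q = Ideal.Quotient.mk I (q - p * W) := by
      rw [Ideal.Quotient.eq, hI, Ideal.mem_span_singleton]
      exact ⟨W, by ring⟩
    rw [h2, hm, ← Ideal.map_pow]
    exact Ideal.mem_map_of_mem _ h1
  rw [hK, Ideal.mem_bot, Ideal.Quotient.eq_zero_iff_mem, hI, Ideal.mem_span_singleton] at hq
  exact hq

theorem degreeOf_pderiv_lt (p : MvPolynomial (Fin 2) k) (i : Fin 2)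
    (hne : MvPolynomial.pderiv i p ≠ 0) :
    MvPolynomial.degreeOf i (MvPolynomial.pderiv i p) < MvPolynomial.degreeOf i p := by
  have key : ∀ m : Fin 2 →₀ ℕ, m ∈ (MvPolynomial.pderiv i p).support →
      m i < MvPolynomial.degreeOf i p := by
    intro m hm
    rw [MvPolynomial.mem_support_iff, MvPolynomial.coeff_pderiv] at hm
    have h1 : MvPolynomial.coeff (m + Finsupp.single i 1) p ≠ 0 := left_ne_zero_of_mul hm
    have h2 := MvPolynomial.monomial_le_degreeOf i (MvPolynomial.mem_support_iff.mpr h1)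
    rw [Finsupp.add_apply, Finsupp.single_eq_same] at h2
    omega
  obtain ⟨m, hm⟩ := MvPolynomial.ne_zero_iff.mp hne
  have hpos : 0 < MvPolynomial.degreeOf i p :=
    lt_of_le_of_lt (Nat.zero_le _) (key m (MvPolynomial.mem_support_iff.mpr hm))
  exact (MvPolynomial.degreeOf_lt_iff hpos).mpr key

theorem pderiv_eq_zero_of_dvd (p : MvPolynomial (Fin 2) k) (i : Fin 2)
    (h : p ∣ MvPolynomial.pderiv i p) : MvPolynomial.pderiv i p = 0 := by
  by_contra hne
  obtain ⟨c, hc⟩ := h
  have hp : p ≠ 0 := by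
    intro h0
    rw [h0, zero_mul] at hc
    exact hne (by rw [h0]; exact hc)
  have hc0 : c ≠ 0 := by
    intro h0
    rw [h0, mul_zero] at hc
    exact hne hc
  have h1 := degreeOf_pderiv_lt p i hne
  have h2 : MvPolynomial.degreeOf i (MvPolynomial.pderiv i p) =
      MvPolynomial.degreeOf i p + MvPolynomial.degreeOf i c := by
    rw [hc]
    exact MvPolynomial.degreeOf_mul_eq hp hc0
  omega

theorem cast_exp_eq_zero (p : MvPolynomial (Fin 2) k) (i : Fin 2)
    (h : MvPolynomial.pderiv i p = 0) (d : Fin 2 →₀ ℕ) (hd : MvPolynomial.coeff d p ≠ 0) :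
    ((d i : ℕ) : k) = 0 := by
  by_cases hi : d i = 0
  · rw [hi, Nat.cast_zero]
  · have hle : Finsupp.single i 1 ≤ d :=
      Finsupp.single_le_iff.mpr (Nat.one_le_iff_ne_zero.mpr hi)
    have e := congrArg (MvPolynomial.coeff (d - Finsupp.single i 1)) h
    rw [MvPolynomial.coeff_pderiv, tsub_add_cancel_of_le hle, MvPolynomial.coeff_zero] at e
    have e3 : (d - Finsupp.single i 1 : Fin 2 →₀ ℕ) i + 1 = d i := by
      rw [Finsupp.tsub_apply, Finsupp.single_eq_same]
      omega
    rw [← e3, Nat.cast_add, Nat.cast_one]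
    exact (mul_eq_zero.mp e).resolve_left hd

theorem not_irreducible_of_pderiv_zero [IsAlgClosed k] (p : MvPolynomial (Fin 2) k)
    (h : ∀ i, MvPolynomial.pderiv i p = 0) : ¬ Irreducible p := by
  intro hirr
  obtain ⟨c, hc⟩ := CharP.exists k
  have hdiv : ∀ d : Fin 2 →₀ ℕ, MvPolynomial.coeff d p ≠ 0 → ∀ i, c ∣ d i := by
    intro d hd i
    exact (CharP.cast_eq_zero_iff k c (d i)).mp (cast_exp_eq_zero p i (h i) d hd)
  rcases (CharP.char_is_prime_or_zero k c) with hprime | hc0
  · haveI : ExpChar k c := ExpChar.prime hprime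
    have hpow : (∑ d ∈ p.support,
        MvPolynomial.monomial (Finsupp.mapRange (· / c) (Nat.zero_div c) d)
          ((frobeniusEquiv k c).symm (MvPolynomial.coeff d p))) ^ c = p := by
      rw [sum_pow_char]
      conv_rhs => rw [← MvPolynomial.support_sum_monomial_coeff p]
      apply Finset.sum_congr rfl
      intro d hd
      have e : c • Finsupp.mapRange (· / c) (Nat.zero_div c) d = d := by
        ext i
        rw [Finsupp.smul_apply, Finsupp.mapRange_apply, smul_eq_mul]
        exact Nat.mul_div_cancel' (hdiv d (MvPolynomial.mem_support_iff.mp hd) i)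
      rw [MvPolynomial.monomial_pow, frobeniusEquiv_symm_pow_p, e]
    rw [← hpow] at hirr
    exact not_irreducible_pow hprime.one_lt.ne' hirr
  · subst hc0
    have hC : p = MvPolynomial.C (MvPolynomial.coeff 0 p) := by
      ext m
      rw [MvPolynomial.coeff_C]
      by_cases hm : 0 = m
      · subst hm
        rw [if_pos rfl]
      · rw [if_neg hm]
        by_contra hne
        apply hm
        ext i
        have := hdiv m hne i
        rw [zero_dvd_iff] at this
        rw [this]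
        rfl
    by_cases h0 : MvPolynomial.coeff 0 p = 0
    · rw [h0, map_zero] at hC
      rw [hC] at hirr
      exact not_irreducible_zero hirr
    · apply hirr.not_isUnit
      rw [hC]
      exact (isUnit_iff_ne_zero.mpr h0).map MvPolynomial.C

/-- an irreducible polynomial is not, up to a unit, the square of a prime in `k[[x,y]]` -/
theorem no_square [IsAlgClosed k] (p : MvPolynomial (Fin 2) k) (hp : Irreducible p)
    (G W : MvPowerSeries (Fin 2) k) (hG : Prime G) (hW : IsUnit W)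
    (h : (p : MvPowerSeries (Fin 2) k) = G ^ 2 * W) : False := by
  have hccG : MvPowerSeries.constantCoeff G = 0 := by
    by_contra hne
    exact hG.not_isUnit
      (MvPowerSeries.isUnit_iff_constantCoeff.mpr (isUnit_iff_ne_zero.mpr hne))
  have hp0 : MvPolynomial.eval 0 p = 0 := by
    rw [← cc_coe, h, map_mul, map_pow, hccG, zero_pow two_ne_zero, zero_mul]
  have hpp : Prime p := hp.prime
  obtain ⟨b, hb⟩ := hW.exists_left_inv
  have hz : ∀ i : Fin 2, MvPolynomial.pderiv i p = 0 := by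
    intro i
    apply pderiv_eq_zero_of_dvd
    have h1 : G ∣ ((MvPolynomial.pderiv i p : MvPolynomial (Fin 2) k) :
        MvPowerSeries (Fin 2) k) := by
      have e : (p : MvPowerSeries (Fin 2) k) = G * (G * W) := by
        rw [h]
        ring
      rw [← MvPowerSeries.pderiv_coe, e, Derivation.leibniz, smul_eq_mul, smul_eq_mul]
      exact dvd_add (dvd_mul_right G _) ((dvd_mul_right G W).mul_right _)
    obtain ⟨c, hc⟩ := h1
    have h2 : (p : MvPowerSeries (Fin 2) k) ∣
        ((MvPolynomial.pderiv i p ^ 2 : MvPolynomial (Fin 2) k) :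
          MvPowerSeries (Fin 2) k) := by
      refine ⟨b * c ^ 2, ?_⟩
      rw [MvPolynomial.coe_pow, hc, h]
      linear_combination (-(G ^ 2 * c ^ 2)) * hb
    have h3 := dvd_of_coe_dvd p _ hpp hp0 h2
    exact hpp.dvd_of_dvd_pow h3
  exact not_irreducible_of_pderiv_zero p hz hp

theorem exists_irreducible_factor (G : MvPowerSeries (Fin 2) k) (hG : Prime G)
    (Q : MvPolynomial (Fin 2) k) (hQ : Q ≠ 0) (h : G ∣ (Q : MvPowerSeries (Fin 2) k)) :
    ∃ p : MvPolynomial (Fin 2) k, Irreducible p ∧ p ∣ Q ∧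
      G ∣ (p : MvPowerSeries (Fin 2) k) := by
  revert hQ h
  refine WfDvdMonoid.induction_on_irreducible
    (motive := fun Q : MvPolynomial (Fin 2) k => Q ≠ 0 →
      G ∣ (Q : MvPowerSeries (Fin 2) k) →
      ∃ p : MvPolynomial (Fin 2) k, Irreducible p ∧ p ∣ Q ∧
        G ∣ (p : MvPowerSeries (Fin 2) k))
    Q ?_ ?_ ?_
  · intro h0
    exact absurd rfl h0
  · intro u hu _ hdvd
    exact absurd (isUnit_of_dvd_unit hdvd (coe_isUnit u hu)) hG.not_isUnit
  · intro a i ha hi ih _ hdvd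
    rw [MvPolynomial.coe_mul] at hdvd
    rcases hG.dvd_or_dvd hdvd with h1 | h1
    · exact ⟨i, hi, dvd_mul_right i a, h1⟩
    · obtain ⟨p, hp, hpa, hGp⟩ := ih ha h1
      exact ⟨p, hp, hpa.mul_left i, hGp⟩

/-- Algebraization of a factorization `P = G^2 U` in `k[[x,y]]`. -/
theorem extract [IsAlgClosed k] (P : MvPolynomial (Fin 2) k) (G U : MvPowerSeries (Fin 2) k)
    (hG : Prime G) (hU : IsUnit U) (hP : (P : MvPowerSeries (Fin 2) k) = G ^ 2 * U) :
    ∃ (g h : MvPolynomial (Fin 2) k) (W : MvPowerSeries (Fin 2) k), P = g ^ 2 * h ∧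
      IsUnit (h : MvPowerSeries (Fin 2) k) ∧ IsUnit W ∧
      (g : MvPowerSeries (Fin 2) k) = G * W := by
  have hG0 : G ≠ 0 := hG.ne_zero
  have hccG : MvPowerSeries.constantCoeff G = 0 := by
    by_contra hne
    exact hG.not_isUnit
      (MvPowerSeries.isUnit_iff_constantCoeff.mpr (isUnit_iff_ne_zero.mpr hne))
  have hP0 : P ≠ 0 := by
    intro h0
    rw [h0, MvPolynomial.coe_zero] at hP
    rcases mul_eq_zero.mp hP.symm with h | h
    · exact hG0 ((pow_eq_zero_iff two_ne_zero).mp h)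
    · exact hU.ne_zero h
  obtain ⟨p₁, hp₁, ⟨P₁, hP₁⟩, ⟨W₁, hW₁⟩⟩ :=
    exists_irreducible_factor G hG P hP0 ⟨G * U, by rw [hP]; ring⟩
  have hP₁0 : P₁ ≠ 0 := by
    intro h0
    exact hP0 (by rw [hP₁, h0, mul_zero])
  have e1 : G * U = W₁ * (P₁ : MvPowerSeries (Fin 2) k) := by
    apply mul_left_cancel₀ hG0
    have h1 : (P : MvPowerSeries (Fin 2) k) =
        (p₁ : MvPowerSeries (Fin 2) k) * (P₁ : MvPowerSeries (Fin 2) k) := by
      rw [hP₁, MvPolynomial.coe_mul]
    rw [hP, hW₁] at h1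
    linear_combination h1
  have hp₁0 : MvPolynomial.eval 0 p₁ = 0 := by
    rw [← cc_coe, hW₁, map_mul, hccG, zero_mul]
  have hdiv : G ∣ W₁ * (P₁ : MvPowerSeries (Fin 2) k) := ⟨U, e1.symm⟩
  rcases hG.dvd_or_dvd hdiv with ⟨W₁', hW₁'⟩ | hGP₁
  · exfalso
    have e2 : U = W₁' * (P₁ : MvPowerSeries (Fin 2) k) := by
      apply mul_left_cancel₀ hG0
      rw [hW₁'] at e1
      linear_combination e1
    have hW₁'u : IsUnit W₁' := isUnit_of_dvd_unit ⟨_, e2⟩ hU
    exact no_square p₁ hp₁ G W₁' hG hW₁'u (by rw [hW₁, hW₁']; ring)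
  · obtain ⟨p₂, hp₂, ⟨P₂, hP₂⟩, ⟨W₂, hW₂⟩⟩ := exists_irreducible_factor G hG P₁ hP₁0 hGP₁
    have e2 : U = W₁ * W₂ * (P₂ : MvPowerSeries (Fin 2) k) := by
      apply mul_left_cancel₀ hG0
      have h1 : (P₁ : MvPowerSeries (Fin 2) k) =
          (p₂ : MvPowerSeries (Fin 2) k) * (P₂ : MvPowerSeries (Fin 2) k) := by
        rw [hP₂, MvPolynomial.coe_mul]
      rw [h1, hW₂] at e1
      linear_combination e1
    have hW₁u : IsUnit W₁ :=
      isUnit_of_dvd_unit ⟨W₂ * (P₂ : MvPowerSeries (Fin 2) k), by rw [e2]; ring⟩ hU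
    have hP₂u : IsUnit (P₂ : MvPowerSeries (Fin 2) k) :=
      isUnit_of_dvd_unit ⟨W₁ * W₂, by rw [e2]; ring⟩ hU
    obtain ⟨b, hb⟩ := hW₁u.exists_left_inv
    have hdvd : (p₁ : MvPowerSeries (Fin 2) k) ∣ (p₂ : MvPowerSeries (Fin 2) k) :=
      ⟨b * W₂, by rw [hW₁, hW₂]; linear_combination (-(G * W₂)) * hb⟩
    obtain ⟨c, hc⟩ := dvd_of_coe_dvd p₁ p₂ hp₁.prime hp₁0 hdvd
    have hcu : IsUnit c := (hp₂.isUnit_or_isUnit hc).resolve_left hp₁.not_isUnit
    refine ⟨p₁, c * P₂, W₁, ?_, ?_, hW₁u, hW₁⟩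
    · rw [hP₁, hP₂, hc]
      ring
    · rw [MvPolynomial.coe_mul]
      exact (coe_isUnit c hcu).mul hP₂u

end Groth.Agent.Lib.DoublePtH1
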