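import Mathlib
import Groth.Prelude.Def_W4c1arstab1appArSing
import Groth.Agent.Lib.PowerSeriesInv_helper4
import Groth.Agent.Lib.DoublePtA_helper1
import Groth.Agent.Lib.DoublePtE_helper1
import Groth.Agent.Lib.DoublePtF_helper1
import Groth.Agent.Lib.DoublePtG_helper1

/-!
# Double points of plane curves, part H (helper1)

The completed local ring of a plane curve `f = 0` at `a` is `k[[x,y]]/(y^2)` iff `f = g^2 h`
with `h(a) ≠ 0` and `g` smooth at `a`.
-/

set_option autoImplicit false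

namespace Groth.Agent.Lib.DoublePtH1

open Groth.Agent.Lib.PSInvH4

universe u

variable {k : Type u} [Field k]

theorem main14310 [IsAlgClosed k] (f : MvPolynomial (Fin 2) k) (a : Fin 2 → k) :
    Nonempty ((MvPowerSeries (Fin 2) k ⧸ Ideal.span
        ({(MvPolynomial.aeval (fun i : Fin 2 => MvPolynomial.X i + MvPolynomial.C (a i))
          f).toMvPowerSeries} : Set (MvPowerSeries (Fin 2) k))) ≃ₐ[k]
      (MvPowerSeries (Fin 2) k ⧸
        Ideal.span ({MvPowerSeries.X 1 ^ 2} : Set (MvPowerSeries (Fin 2) k)))) ↔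
    ∃ g h : MvPolynomial (Fin 2) k, f = g ^ 2 * h ∧ MvPolynomial.eval a h ≠ 0 ∧
      MvPolynomial.eval a g = 0 ∧
      ∃ i : Fin 2, MvPolynomial.eval a (MvPolynomial.pderiv i g) ≠ 0 := by
  constructor
  · intro he
    obtain ⟨e⟩ := he
    obtain ⟨G, U, hG0, ⟨j, hj⟩, hGp, hU, hF⟩ := structure_of_iso _ e
    have hF' : ((Tr a f : MvPolynomial (Fin 2) k) : MvPowerSeries (Fin 2) k) = G ^ 2 * U := hF
    obtain ⟨g₁, h₁, W, hP, hh₁, hW, hg₁⟩ := extract (Tr a f) G U hGp hU hF'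
    refine ⟨Tr (-a) g₁, Tr (-a) h₁, ?_, ?_, ?_, j, ?_⟩
    · have := congrArg (Tr (-a)) hP
      rw [Tr_neg_Tr, map_mul (Tr (-a)), map_pow (Tr (-a))] at this
      exact this
    · rw [← eval_Tr, Tr_Tr_neg, ← cc_coe]
      exact isUnit_iff_ne_zero.mp (MvPowerSeries.isUnit_iff_constantCoeff.mp hh₁)
    · rw [← eval_Tr, Tr_Tr_neg, ← cc_coe, hg₁, map_mul, hG0, zero_mul]
    · rw [lin_Tr, Tr_Tr_neg, ← lin_coe, hg₁, coeff_lin_mul G W hG0 j]
      exact mul_ne_zero hj
        (isUnit_iff_ne_zero.mp (MvPowerSeries.isUnit_iff_constantCoeff.mp hW))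
  · rintro ⟨g, h, hf, hh, hg0, hg1⟩
    exact backward10 a f g h hf hh hg0 hg1

end Groth.Agent.Lib.DoublePtH1
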