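import Mathlib

/-!
# A rational vector on which all members of a dual basis over the algebraic closure are nonzero
(helper1)
-/

set_option autoImplicit false

namespace Groth.Agent.Lib.DualAvoidH1

open TensorProduct MvPolynomial

universe u

section

variable (k : Type u) [Field k] [Finite k]

local notation "K" => AlgebraicClosure k

theorem main8383
    (V : Type u) [AddCommGroup V] [Module k V] [Module.Finite k V] {ι : Type} [Fintype ι]
    (θ : Module.Basis ι (AlgebraicClosure k) (Module.Dual (AlgebraicClosure k) (AlgebraicClosure k ⊗[k] V))) :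
    ∃ x : V, ∀ i : ι, θ i ((1 : AlgebraicClosure k) ⊗ₜ[k] x) ≠ 0 := by
  classical
  haveI : Fintype k := Fintype.ofFinite k
  obtain ⟨p, hchar⟩ := CharP.exists k
  haveI := hchar
  obtain ⟨f, hp, hqf⟩ := FiniteField.card k p
  haveI : Fact p.Prime := ⟨hp⟩
  haveI : CharP K p := charP_of_injective_algebraMap (algebraMap k K).injective p
  obtain ⟨q, hqdef⟩ : ∃ q, q = Fintype.card k := ⟨_, rfl⟩
  have hq : q = p ^ (f : ℕ) := by rw [hqdef]; exact hqf
  have hq2 : 2 ≤ q := by rw [hqdef]; exact Fintype.one_lt_card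
  -- a basis of `V` indexed by `ι`
  have hcard : Fintype.card ι = Module.finrank k V := by
    have h1 := Module.finrank_eq_card_basis θ
    rw [Subspace.dual_finrank_eq, Module.finrank_baseChange] at h1
    exact h1.symm
  let e : Module.Basis ι k V := (Module.finBasis k V).reindex
    (Fintype.equivOfCardEq (by rw [Fintype.card_fin, hcard]))
  let B' : Module.Basis ι K (K ⊗[k] V) := Algebra.TensorProduct.basis K e
  have hB' : ∀ j, B' j = (1 : K) ⊗ₜ[k] e j := fun j => Algebra.TensorProduct.basis_apply e j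
  obtain ⟨A, hA⟩ : ∃ A : ι → ι → K, ∀ i j, A i j = θ i (B' j) := ⟨_, fun _ _ => rfl⟩
  obtain ⟨c, hc⟩ : ∃ c : ι → ι → K, ∀ j i', c j i' = θ.repr (B'.dualBasis j) i' :=
    ⟨_, fun _ _ => rfl⟩
  have hcA : ∀ j l, ∑ i', c j i' * A i' l = if j = l then 1 else 0 := by
    intro j l
    have h1 : B'.dualBasis j = ∑ i', c j i' • θ i' := by
      simp only [hc]; exact (θ.sum_repr _).symm
    have h2 := congrArg (fun φ => φ (B' l)) h1
    simp only [LinearMap.sum_apply, LinearMap.smul_apply, smul_eq_mul,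
      Module.Basis.dualBasis_apply_self] at h2
    simp only [hA]
    rw [← h2]
    by_cases h : j = l
    · rw [if_pos h, if_pos h.symm]
    · rw [if_neg h, if_neg (Ne.symm h)]
  have hcA' : (Matrix.of c) * (Matrix.of A) = (1 : Matrix ι ι K) := by
    ext j l
    rw [Matrix.mul_apply, Matrix.one_apply]
    exact hcA j l
  have hAc' : (Matrix.of A) * (Matrix.of c) = (1 : Matrix ι ι K) := mul_eq_one_comm.1 hcA'
  have hAc : ∀ i i', ∑ j, A i j * c j i' = if i = i' then 1 else 0 := by
    intro i i'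
    have h1 := congrFun (congrFun hAc' i) i'
    rw [Matrix.mul_apply, Matrix.one_apply] at h1
    exact h1
  -- polynomials
  obtain ⟨L, hL⟩ : ∃ L : ι → MvPolynomial ι K, ∀ i, L i = ∑ j, C (A i j) * X j :=
    ⟨_, fun _ => rfl⟩
  obtain ⟨fP, hfP⟩ : ∃ fP : MvPolynomial ι K, fP = ∏ i, (L i) ^ (q - 1) := ⟨_, rfl⟩
  let ψ : MvPolynomial ι K →ₐ[K] MvPolynomial ι K :=
    MvPolynomial.aeval (fun j => ∑ i', C (c j i') * X i')
  have hψX : ∀ j, ψ (X j) = ∑ i', C (c j i') * X i' := fun j => MvPolynomial.aeval_X _ j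
  have hψC : ∀ a : K, ψ (C a) = C a := fun a => by
    show MvPolynomial.aeval _ (C a) = C a
    rw [MvPolynomial.aeval_C]; rfl
  have hψL : ∀ i, ψ (L i) = X i := by
    intro i
    rw [hL, map_sum]
    calc ∑ j, ψ (C (A i j) * X j) = ∑ j, ∑ i', C (A i j * c j i') * X i' := by
          refine Finset.sum_congr rfl (fun j _ => ?_)
          rw [map_mul, hψX, hψC, Finset.mul_sum]
          refine Finset.sum_congr rfl (fun i' _ => ?_)
          rw [← mul_assoc, ← C_mul]
      _ = ∑ i', C (∑ j, A i j * c j i') * X i' := by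
          rw [Finset.sum_comm]
          refine Finset.sum_congr rfl (fun i' _ => ?_)
          rw [← Finset.sum_mul, ← map_sum]
      _ = X i := by
          rw [Finset.sum_eq_single i]
          · rw [hAc, if_pos rfl, C_1, one_mul]
          · intro b _ hb
            rw [hAc, if_neg (Ne.symm hb), C_0, zero_mul]
          · intro h; exact absurd (Finset.mem_univ i) h
  have hpowsum : ∀ g : ι → MvPolynomial ι K, (∑ i', g i') ^ q = ∑ i', g i' ^ q := by
    intro g
    rw [hq]
    exact sum_pow_char_pow p (f : ℕ) Finset.univ g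
  obtain ⟨SJ, hSJ⟩ : ∃ SJ : Set (ι →₀ ℕ), SJ = Set.range (fun j => Finsupp.single j q) :=
    ⟨_, rfl⟩
  obtain ⟨J, hJ⟩ : ∃ J : Ideal (MvPolynomial ι K),
      J = Ideal.span ((fun s => monomial s (1 : K)) '' SJ) := ⟨_, rfl⟩
  have hJgen : ∀ j, (X j : MvPolynomial ι K) ^ q ∈ J := by
    intro j
    rw [hJ]
    apply Ideal.subset_span
    refine ⟨Finsupp.single j q, ?_, ?_⟩
    · rw [hSJ]; exact ⟨j, rfl⟩
    · show monomial (Finsupp.single j q) (1 : K) = X j ^ q
      rw [X_pow_eq_monomial]
  have hψJ : ∀ g ∈ J, ψ g ∈ J := by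
    intro g hg
    have hle : J ≤ J.comap ψ := by
      conv_lhs => rw [hJ]
      apply Ideal.span_le.2
      rintro _ ⟨s, hs, rfl⟩
      rw [hSJ] at hs
      obtain ⟨j, rfl⟩ := hs
      show ψ (monomial (Finsupp.single j q) (1 : K)) ∈ J
      rw [← X_pow_eq_monomial, map_pow, hψX, hpowsum]
      refine Ideal.sum_mem _ (fun i' _ => ?_)
      rw [mul_pow]
      exact Ideal.mul_mem_left _ _ (hJgen i')
    exact hle hg
  obtain ⟨T, hT⟩ : ∃ T : ι →₀ ℕ, ∀ j, T j = q - 1 :=
    ⟨Finsupp.equivFunOnFinite.symm (fun _ => q - 1), fun _ => rfl⟩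
  have hTdeg : T.degree = Fintype.card ι * (q - 1) := by
    rw [Finsupp.degree_eq_sum]
    simp only [hT, Finset.sum_const, Finset.card_univ, smul_eq_mul]
  have hLhom : ∀ i, (L i).IsHomogeneous 1 := by
    intro i
    rw [hL]
    exact IsHomogeneous.sum _ _ _ (fun j _ => isHomogeneous_C_mul_X _ _)
  have hfhom : fP.IsHomogeneous (Fintype.card ι * (q - 1)) := by
    rw [hfP]
    have h1 := IsHomogeneous.prod Finset.univ (fun i => L i ^ (q - 1)) (fun _ => 1 * (q - 1))
      (fun i _ => (hLhom i).pow (q - 1))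
    convert h1 using 1
    simp
  have hLne : ∀ i, L i ≠ 0 := by
    intro i h
    have h1 := hψL i
    rw [h, map_zero] at h1
    exact X_ne_zero i h1.symm
  have hf0 : fP ≠ 0 := by
    rw [hfP]
    exact Finset.prod_ne_zero_iff.2 (fun i _ => pow_ne_zero _ (hLne i))
  have hψf : ψ fP = monomial T (1 : K) := by
    rw [hfP, map_prod, monomial_eq, C_1, one_mul, Finsupp.prod_fintype _ _ (fun i => pow_zero _)]
    refine Finset.prod_congr rfl (fun i _ => ?_)
    rw [map_pow, hψL, hT]
  have hTnot : monomial T (1 : K) ∉ J := by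
    intro h
    rw [hJ, mem_ideal_span_monomial_image] at h
    obtain ⟨s, hs, hsT⟩ := h T (by rw [mem_support_iff, coeff_monomial, if_pos rfl]; exact one_ne_zero)
    rw [hSJ] at hs
    obtain ⟨j, rfl⟩ := hs
    have h1 := hsT j
    rw [Finsupp.single_eq_same, hT] at h1
    omega
  have hcoeff : coeff T fP ≠ 0 := by
    intro h0
    apply hTnot
    rw [← hψf]
    apply hψJ
    rw [hJ, mem_ideal_span_monomial_image]
    intro d hd
    have hdne : coeff d fP ≠ 0 := mem_support_iff.1 hd
    have hddeg : d.degree = Fintype.card ι * (q - 1) := by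
      by_contra hne
      exact hdne (hfhom.coeff_eq_zero hne)
    have hdT : d ≠ T := fun h => hdne (h ▸ h0)
    have hex : ∃ j, q ≤ d j := by
      by_contra hall
      push Not at hall
      apply hdT
      have hle : ∀ j ∈ (Finset.univ : Finset ι), d j ≤ q - 1 := fun j _ => by
        have := hall j; omega
      have hsum : ∑ j, d j = ∑ _j : ι, (q - 1) := by
        rw [← Finsupp.degree_eq_sum, hddeg]
        simp
      have h1 := (Finset.sum_eq_sum_iff_of_le hle).1 hsum
      ext j
      rw [hT, h1 j (Finset.mem_univ j)]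
    obtain ⟨j, hj⟩ := hex
    refine ⟨Finsupp.single j q, ?_, ?_⟩
    · rw [hSJ]; exact ⟨j, rfl⟩
    · intro i'
      rw [Finsupp.single_apply]
      split_ifs with h
      · subst h; exact hj
      · exact Nat.zero_le _
  -- Alon's combinatorial Nullstellensatz
  let emb : k ↪ K := ⟨algebraMap k K, (algebraMap k K).injective⟩
  obtain ⟨s, hsS, hs⟩ := MvPolynomial.combinatorial_nullstellensatz_exists_eval_nonzero fP T hcoeff
    (by rw [hfhom.totalDegree hf0, hTdeg]) (fun _ => Finset.univ.map emb)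
    (fun i => by rw [Finset.card_map, Finset.card_univ, hT, ← hqdef]; omega)
  have hst : ∀ i, ∃ t : k, algebraMap k K t = s i := by
    intro i
    obtain ⟨t, -, ht⟩ := Finset.mem_map.1 (hsS i)
    exact ⟨t, ht⟩
  choose t ht using hst
  refine ⟨∑ j, t j • e j, fun i => ?_⟩
  have h1 : (1 : K) ⊗ₜ[k] (∑ j, t j • e j) = ∑ j, s j • B' j := by
    rw [TensorProduct.tmul_sum]
    refine Finset.sum_congr rfl (fun j _ => ?_)
    rw [TensorProduct.tmul_smul, hB', ← ht j, algebraMap_smul]
  have h2 : θ i ((1 : K) ⊗ₜ[k] (∑ j, t j • e j)) = MvPolynomial.eval s (L i) := by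
    rw [h1, map_sum, hL, map_sum]
    refine Finset.sum_congr rfl (fun j _ => ?_)
    rw [map_smul, smul_eq_mul, map_mul, eval_C, eval_X, hA, mul_comm]
  rw [h2]
  intro h0
  apply hs
  rw [hfP, map_prod]
  refine Finset.prod_eq_zero (Finset.mem_univ i) ?_
  rw [map_pow, h0, zero_pow (by omega)]

end

end Groth.Agent.Lib.DualAvoidH1
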