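import Mathlib
import Groth.Prelude.Def_Wider
import Groth.Agent.Lib.LCDelta0_helper7
import Groth.Agent.Lib.LocCohGV_helper7
import Groth.Agent.Lib.LocCohFunct_helper7
import Groth.Agent.Lib.LocCohAnn_helper7
import Groth.Agent.Lib.LocCohTors_helper7
import Groth.Agent.Lib.Depth_helper5

/-!
# Top local cohomology: exact sequence pieces in all degrees, and `T = J T` (helper1)
-/

set_option autoImplicit false
universe u

open CategoryTheory CategoryTheory.Limits Opposite

namespace Groth.Agent.Lib.TopLCH1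

open Groth.Agent.Lib.LCDelta0H7 Groth.Agent.DepthLib

variable {R : Type u} [CommRing R] (I : Ideal R)

section LES

variable {S : ShortComplex (ModuleCat.{u} R)} (hS : S.ShortExact)

include hS in
/-- exactness in the middle, all degrees -/
theorem exact_mid (n : ℕ) (m : ((localCohomology I n).obj S.X₂ : ModuleCat.{u} R))
    (hm : ((localCohomology I n).map S.g).hom m = 0) :
    ∃ m₁ : ((localCohomology I n).obj S.X₁ : ModuleCat.{u} R),
      ((localCohomology I n).map S.f).hom m₁ = m := by
  rcases n with _ | p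
  · have hf := hf_ hS
    have hfg := hfg_ hS
    have h1 : S.g.hom ((Ψ I S.X₂).hom m) = 0 := by
      rw [← Ψ_nat, hm, map_zero]
    obtain ⟨x, hx⟩ := (hfg _).1 h1
    have hxt : x ∈ DRing.torsionSub I S.X₁ := by
      obtain ⟨k, hk⟩ := Ψ_mem I S.X₂ m
      refine ⟨k, fun a ha => hf ?_⟩
      rw [map_smul, hx, map_zero]
      exact hk a ha
    obtain ⟨m₁, hm₁⟩ := Ψ_surj I S.X₁ x hxt
    refine ⟨m₁, Ψ_injective I S.X₂ ?_⟩
    rw [Ψ_nat, hm₁, hx]
  · exact Groth.Agent.Lib.LocCohLESH7.exact_middle I hS p m hm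

include hS in
/-- surjectivity of `H^n(g)` when `H^{n+1}` of the sub vanishes, all degrees -/
theorem surj_of_sub (n : ℕ)
    (hsub : Subsingleton ((localCohomology I (n + 1)).obj S.X₁ : ModuleCat.{u} R)) :
    Function.Surjective ((localCohomology I n).map S.g).hom := by
  rcases n with _ | p
  · intro m''
    have hq : (Ψ I S.X₃).hom m'' ∈ DRing.torsionSub I S.X₃ := Ψ_mem I S.X₃ m''
    haveI : Subsingleton (LocCoh.H I 1 S.X₁) := hsub
    have h0 : c0 I hS ⟨_, hq⟩ = 0 := Subsingleton.elim _ _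
    rw [c0_apply, Groth.Agent.Lib.LocCohDeltaZeroH7.cMap_eq_zero_iff] at h0
    obtain ⟨y, hy, hgy⟩ := h0
    have hyt : y ∈ DRing.torsionSub I S.X₂ := by rw [torsionSub_eq]; exact hy
    obtain ⟨m, hm⟩ := Ψ_surj I S.X₂ y hyt
    refine ⟨m, Ψ_injective I S.X₃ ?_⟩
    rw [Ψ_nat, hm]
    exact hgy
  · exact Groth.Agent.Lib.LocCohLESH7.surjective_of_subsingleton I hS p hsub

end LES

section Hmap

variable {N₁ N₂ N₃ : Type u} [AddCommGroup N₁] [Module R N₁] [AddCommGroup N₂] [Module R N₂]
  [AddCommGroup N₃] [Module R N₃] (n : ℕ)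

/-- the induced linear map on local cohomology -/
noncomputable def Hmap (f : N₁ →ₗ[R] N₂) : LocCoh.H I n N₁ →ₗ[R] LocCoh.H I n N₂ :=
  ((localCohomology I n).map (ModuleCat.ofHom f)).hom

theorem Hmap_comp (f : N₁ →ₗ[R] N₂) (g : N₂ →ₗ[R] N₃) (x : LocCoh.H I n N₁) :
    Hmap I n (g ∘ₗ f) x = Hmap I n g (Hmap I n f x) := by
  unfold Hmap
  rw [ModuleCat.ofHom_comp, Functor.map_comp]
  rfl

theorem Hmap_add (f f' : N₁ →ₗ[R] N₂) : Hmap I n (f + f') = Hmap I n f + Hmap I n f' := by
  unfold Hmap
  rw [show ModuleCat.ofHom (f + f') = ModuleCat.ofHom f + ModuleCat.ofHom f' from rfl,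
    Groth.Agent.Lib.LocCohFunctH7.H_map_add]
  rfl

theorem Hmap_smul (r : R) (f : N₁ →ₗ[R] N₂) : Hmap I n (r • f) = r • Hmap I n f := by
  unfold Hmap
  rw [show ModuleCat.ofHom (r • f) = r • ModuleCat.ofHom f from rfl,
    Groth.Agent.Lib.LocCohFunctH7.H_map_smul]
  rfl

theorem Hmap_zero : Hmap I n (0 : N₁ →ₗ[R] N₂) = 0 := by
  have h := Hmap_smul I n (0 : R) (0 : N₁ →ₗ[R] N₂)
  rw [zero_smul, zero_smul] at h
  exact h

theorem Hmap_sum {ι : Type*} (s : Finset ι) (f : ι → (N₁ →ₗ[R] N₂)) :
    Hmap I n (∑ j ∈ s, f j) = ∑ j ∈ s, Hmap I n (f j) := by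
  classical
  induction s using Finset.induction_on with
  | empty =>
    rw [Finset.sum_empty, Finset.sum_empty]
    exact Hmap_zero I n
  | insert a s ha ih => rw [Finset.sum_insert ha, Finset.sum_insert ha, Hmap_add, ih]

variable {f : N₁ →ₗ[R] N₂} {g : N₂ →ₗ[R] N₃}

theorem Hmap_exact (hf : Function.Injective f) (hg : Function.Surjective g)
    (hfg : Function.Exact f g) (x : LocCoh.H I n N₂) (hx : Hmap I n g x = 0) :
    ∃ y, Hmap I n f y = x :=
  exact_mid I (shortComplexOf_shortExact f g hf hg hfg) n x hx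

theorem Hmap_surjective (hf : Function.Injective f) (hg : Function.Surjective g)
    (hfg : Function.Exact f g) (hsub : Subsingleton (LocCoh.H I (n + 1) N₁)) :
    Function.Surjective (Hmap I n g) :=
  surj_of_sub I (shortComplexOf_shortExact f g hf hg hfg) n hsub

end Hmap

section Ann

/-- the annihilator of `M` kills `H^n_I(M)` -/
theorem smul_eq_zero_of_mem_annihilator (n : ℕ) (M : Type u) [AddCommGroup M] [Module R M] (r : R)
    (hr : r ∈ Module.annihilator R M) (t : LocCoh.H I n M) : r • t = 0 := by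
  have hs : r • 𝟙 (ModuleCat.of R M) = 0 := by
    apply ModuleCat.hom_ext
    apply LinearMap.ext
    intro x
    exact Module.mem_annihilator.1 hr x
  have h := Groth.Agent.Lib.LocCohAnnH7.smul_id_H_eq_zero I n (ModuleCat.of R M) r hs
  exact congrArg (fun φ => φ.hom t) h

/-- `H^i_⊤ = 0` -/
theorem subsingleton_H_top {A : Type u} [CommRing A] (i : ℕ) (X : Type u) [AddCommGroup X]
    [Module A X] : Subsingleton (LocCoh.H (⊤ : Ideal A) i X) := by
  refine ⟨fun a b => ?_⟩
  have key : ∀ m : LocCoh.H (⊤ : Ideal A) i X, m = 0 := fun m => by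
    obtain ⟨k, hk⟩ := Groth.Agent.Lib.LocCohTorsH7.main A ⊤ i X m
    have := hk 1 (by rw [Ideal.top_pow]; trivial)
    rwa [one_smul] at this
  rw [key a, key b]

end Ann

section Dim

theorem supportDim_le_of_annihilator_le {M N : Type*} [AddCommGroup M] [Module R M]
    [AddCommGroup N] [Module R N] [Module.Finite R M] [Module.Finite R N]
    (h : Module.annihilator R M ≤ Module.annihilator R N) :
    Module.supportDim R N ≤ Module.supportDim R M := by
  rw [Module.supportDim_eq_ringKrullDim_quotient_annihilator (R := R) (M := N),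
    Module.supportDim_eq_ringKrullDim_quotient_annihilator (R := R) (M := M)]
  exact ringKrullDim_le_of_surjective (Ideal.Quotient.factor h)
    (Ideal.Quotient.factor_surjective h)

theorem dim_quot_le_supportDim (M : Type*) [AddCommGroup M] [Module R M] [Module.Finite R M]
    (p : Ideal R) (h : Module.annihilator R M ≤ p) :
    ringKrullDim (R ⧸ p) ≤ Module.supportDim R M := by
  rw [Module.supportDim_eq_ringKrullDim_quotient_annihilator (R := R) (M := M)]
  exact ringKrullDim_le_of_surjective (Ideal.Quotient.factor h)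
    (Ideal.Quotient.factor_surjective h)

theorem supportDim_le_dim_quot (N : Type*) [AddCommGroup N] [Module R N] [Module.Finite R N]
    (p : Ideal R) (h : p ≤ Module.annihilator R N) :
    Module.supportDim R N ≤ ringKrullDim (R ⧸ p) := by
  rw [Module.supportDim_eq_ringKrullDim_quotient_annihilator (R := R) (M := N)]
  exact ringKrullDim_le_of_surjective (Ideal.Quotient.factor h)
    (Ideal.Quotient.factor_surjective h)

theorem annihilator_le_pi (M : Type*) [AddCommGroup M] [Module R M] (k : ℕ) :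
    Module.annihilator R M ≤ Module.annihilator R (Fin k → M) := by
  intro r hr
  rw [Module.mem_annihilator] at hr ⊢
  intro v
  funext j
  exact hr (v j)

theorem le_annihilator_quot (M : Type*) [AddCommGroup M] [Module R M] (J : Ideal R) :
    J ≤ Module.annihilator R (M ⧸ J • (⊤ : Submodule R M)) := by
  intro r hr
  rw [Module.mem_annihilator]
  intro x
  obtain ⟨y, rfl⟩ := Submodule.mkQ_surjective _ x
  rw [← map_smul, Submodule.mkQ_apply, Submodule.Quotient.mk_eq_zero]
  exact Submodule.smul_mem_smul hr Submodule.mem_top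

end Dim

section Key

/-- if `H^n_I(M/JM) = 0` for `n ≥ dim M` then `H^n_I(M) = J H^n_I(M)` -/
theorem mem_smul_top_of_subsingleton [IsNoetherianRing R] (n : ℕ) (M : Type u) [AddCommGroup M]
    [Module R M] [Module.Finite R M] (hM : Module.supportDim R M ≤ (n : WithBot ℕ∞)) (J : Ideal R)
    (h : Subsingleton (LocCoh.H I n (M ⧸ J • (⊤ : Submodule R M)))) (t : LocCoh.H I n M) :
    t ∈ J • (⊤ : Submodule R (LocCoh.H I n M)) := by
  classical
  obtain ⟨k, a, ha⟩ := Submodule.fg_iff_exists_fin_generating_family.1 (IsNoetherian.noetherian J)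
  have haJ : ∀ j, a j ∈ J := fun j => by
    rw [← ha]
    exact Submodule.subset_span ⟨j, rfl⟩
  let g : (Fin k → M) →ₗ[R] M := ∑ j, a j • (LinearMap.proj j : (Fin k → M) →ₗ[R] M)
  have hg : ∀ v, g v = ∑ j, a j • v j := fun v => by
    simp only [g, LinearMap.sum_apply, LinearMap.smul_apply, LinearMap.proj_apply]
  have hgN : ∀ v, g v ∈ J • (⊤ : Submodule R M) := fun v => by
    rw [hg]
    exact Submodule.sum_mem _ fun j _ => Submodule.smul_mem_smul (haJ j) Submodule.mem_top
  have hrange : ∀ y ∈ J • (⊤ : Submodule R M), ∃ v, g v = y := by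
    intro y hy
    refine Submodule.smul_induction_on hy (fun r hr m _ => ?_) (fun x y hx hy => ?_)
    · rw [← ha] at hr
      obtain ⟨c, hc⟩ := (Submodule.mem_span_range_iff_exists_fun R).1 hr
      refine ⟨fun j => c j • m, ?_⟩
      rw [hg]
      show ∑ j, a j • (c j • m) = r • m
      rw [← hc, Finset.sum_smul]
      refine Finset.sum_congr rfl fun j _ => ?_
      rw [smul_smul, smul_eq_mul, mul_comm]
    · obtain ⟨v, hv⟩ := hx
      obtain ⟨w, hw⟩ := hy
      exact ⟨v + w, by rw [map_add, hv, hw]⟩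
  let g' : (Fin k → M) →ₗ[R] ↥(J • (⊤ : Submodule R M)) := LinearMap.codRestrict _ g hgN
  have hg'surj : Function.Surjective g' := by
    rintro ⟨y, hy⟩
    obtain ⟨v, hv⟩ := hrange y hy
    exact ⟨v, Subtype.ext hv⟩
  have hcomp : (J • (⊤ : Submodule R M)).subtype ∘ₗ g' = g :=
    LinearMap.subtype_comp_codRestrict _ _ _
  haveI : IsNoetherian R (Fin k → M) := isNoetherian_of_isNoetherianRing_of_finite R _
  have hdimK : Module.supportDim R ↥(LinearMap.ker g') ≤ (n : WithBot ℕ∞) :=
    (Module.supportDim_le_of_injective (LinearMap.ker g').subtype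
      (Submodule.injective_subtype _)).trans
      ((supportDim_le_of_annihilator_le (M := M) (N := Fin k → M)
        (annihilator_le_pi M k)).trans hM)
  have hK : Subsingleton (LocCoh.H I (n + 1) ↥(LinearMap.ker g')) :=
    Groth.Agent.Lib.LocCohGVH7.GV_fin I n _ hdimK (n + 1) (Nat.lt_succ_self n)
  have hs1 : Function.Surjective (Hmap I n g') :=
    Hmap_surjective I n (Submodule.injective_subtype _) hg'surj
      (LinearMap.exact_subtype_ker_map g') hK
  obtain ⟨t₁, ht₁⟩ := Hmap_exact I n (Submodule.injective_subtype _)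
    (Submodule.mkQ_surjective _) (LinearMap.exact_subtype_mkQ (J • (⊤ : Submodule R M))) t
    (h.elim _ _)
  obtain ⟨t₂, ht₂⟩ := hs1 t₁
  have ht : t = Hmap I n g t₂ := by
    rw [← hcomp, Hmap_comp, ht₂, ht₁]
  rw [ht, show g = ∑ j, a j • (LinearMap.proj j : (Fin k → M) →ₗ[R] M) from rfl, Hmap_sum,
    LinearMap.sum_apply]
  refine Submodule.sum_mem _ fun j _ => ?_
  rw [Hmap_smul, LinearMap.smul_apply]
  exact Submodule.smul_mem_smul (haJ j) Submodule.mem_top

end Key

end Groth.Agent.Lib.TopLCH1
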