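import Mathlib
import Groth.Prelude.Def_Wider
import Groth.Prelude.Def_DualLC
import Groth.Agent.Lib.TopLC1_helper1
import Groth.Agent.Lib.Ann1_helper1
import Groth.Agent.Lib.DMod114_helper6

/-!
# Tools for Stacks 51.4.? (S1720): cd(A, I) < dim A when H^0_I(ω) = 0 (helper1), part 1

* `subsingleton_of_smul_eq_zero`: if `H^{n+1}_I` vanishes identically, `r` kills `H^n_I(N)` and
  `H^n_I(N / rN) = 0`, then `H^n_I(N) = 0`.
* `pow_smul_HDI_eq_zero`: for a distinguished triangle `W → K → V →` with `colim Hom(A/I^n, K) = 0`,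
  `V ∈ D^{≥ b}` and `f` killing the cohomology of `V`, `f ^ N` kills `colim Hom(A/I^n, W)`.
-/

set_option autoImplicit false
universe u

open CategoryTheory CategoryTheory.Limits CategoryTheory.Pretriangulated DerivedCategory Opposite

attribute [local instance] HasDerivedCategory.standard

namespace Groth.Agent.Lib.DualCdH1

open Groth.Agent.Lib.TopLCH1 Groth.Agent.Lib.AnnH1 Groth.Agent.Lib.DMod_helper6

section PartC

variable {R : Type u} [CommRing R] (I : Ideal R)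

theorem Hmap_id (n : ℕ) (N : Type u) [AddCommGroup N] [Module R N] (x : LocCoh.H I n N) :
    Hmap I n (LinearMap.id : N →ₗ[R] N) x = x := by
  unfold Hmap
  rw [ModuleCat.ofHom_id, CategoryTheory.Functor.map_id]
  rfl

open scoped Pointwise in
theorem subsingleton_of_smul_eq_zero (n : ℕ) (N : Type u) [AddCommGroup N] [Module R N] (r : R)
    (hcd : ∀ (X : Type u) [AddCommGroup X] [Module R X], Subsingleton (LocCoh.H I (n + 1) X))
    (hkill : ∀ x : LocCoh.H I n N, r • x = 0)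
    (hquot : Subsingleton (LocCoh.H I n (QuotSMulTop r N))) :
    Subsingleton (LocCoh.H I n N) := by
  have h1 : ∀ x : LocCoh.H I n N, Hmap I n (r • (LinearMap.id : N →ₗ[R] N)) x = 0 := by
    intro x
    rw [Hmap_smul, LinearMap.smul_apply, Hmap_id]
    exact hkill x
  obtain ⟨π, hπ⟩ : ∃ π : N →ₗ[R] ↥(r • (⊤ : Submodule R N)),
      π = (r • (LinearMap.id : N →ₗ[R] N)).codRestrict (r • (⊤ : Submodule R N))
        (fun x => Submodule.smul_mem_pointwise_smul x r ⊤ trivial) := ⟨_, rfl⟩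
  have hπs : Function.Surjective π := by
    rintro ⟨y, hy⟩
    obtain ⟨x, -, hx⟩ := (Submodule.mem_smul_pointwise_iff_exists _ _ _).1 hy
    refine ⟨x, Subtype.ext ?_⟩
    rw [hπ]
    exact hx
  have hπsurj : Function.Surjective (Hmap I n π) :=
    Hmap_surjective I n (f := (LinearMap.ker π).subtype) (g := π)
      (Submodule.injective_subtype _) hπs (LinearMap.exact_subtype_ker_map _) (hcd _)
  refine ⟨fun a b => ?_⟩
  have key : ∀ x : LocCoh.H I n N, x = 0 := by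
    intro x
    have hx0 : Hmap I n (r • (⊤ : Submodule R N)).mkQ x = 0 :=
      @Subsingleton.elim _ hquot _ _
    obtain ⟨y, hy⟩ := Hmap_exact I n
      (f := (r • (⊤ : Submodule R N)).subtype)
      (g := (r • (⊤ : Submodule R N)).mkQ)
      (Submodule.injective_subtype _) (Submodule.mkQ_surjective _)
      (LinearMap.exact_subtype_mkQ _) x hx0
    obtain ⟨z, rfl⟩ := hπsurj y
    rw [← hy, ← Hmap_comp]
    have hc : (r • (⊤ : Submodule R N)).subtype ∘ₗ π = r • (LinearMap.id : N →ₗ[R] N) := by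
      rw [hπ]
      ext t
      rfl
    rw [hc]
    exact h1 z
  rw [key a, key b]

end PartC

section PartB

variable {A : Type u} [CommRing A]

/-- the diagram whose colimit is `Dual2.HDI` -/
noncomputable abbrev hdiD (I : Ideal A) (K : Dual.D A) (i : ℤ) :
    ℕᵒᵖᵒᵖ ⥤ ModuleCat.{u+1} A :=
  (localCohomology.ringModIdeals (localCohomology.idealPowersDiagram I) ⋙
    DerivedCategory.singleFunctor (ModuleCat.{u} A) 0).op ⋙
      (linearYoneda A (Dual.D A)).obj (K⟦i⟧)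

/-- morphism-level version -/
theorem pow_smul_hom_eq_zero_of_comp_eq_zero (T : Triangle (Dual.D A))
    (hT : T ∈ distTriang (Dual.D A)) (b : ℤ) (hV : DerivedCategory.IsGE T.obj₃ b)
    (f : A) (hf : ∀ j : ℤ, ∀ x : Dual.HD A T.obj₃ j, f • x = 0) (N : ℕ) (hN : -b ≤ (N : ℤ))
    (S : Dual.D A) (hS : DerivedCategory.IsLE S 0) (x' : S ⟶ T.obj₁⟦(0 : ℤ)⟧)
    (hx' : x' ≫ T.mor₁⟦(0 : ℤ)⟧' = 0) : f ^ N • x' = 0 := by
  obtain ⟨u, hu⟩ : ∃ u : S ⟶ T.obj₁, u = x' ≫ (shiftFunctorZero (Dual.D A) ℤ).hom.app T.obj₁ :=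
    ⟨_, rfl⟩
  have hu0 : u ≫ T.mor₁ = 0 := by
    have hnat := (shiftFunctorZero (Dual.D A) ℤ).hom.naturality T.mor₁
    have h1 : (shiftFunctorZero (Dual.D A) ℤ).hom.app T.obj₁ ≫ T.mor₁ =
        T.mor₁⟦(0 : ℤ)⟧' ≫ (shiftFunctorZero (Dual.D A) ℤ).hom.app T.obj₂ := hnat.symm
    rw [hu, Category.assoc, h1, ← Category.assoc, hx', zero_comp]
  obtain ⟨g, hg⟩ : ∃ g : S ⟶ T.obj₃⟦(-1 : ℤ)⟧, ∃ m : T.obj₃⟦(-1 : ℤ)⟧ ⟶ T.obj₁, u = g ≫ m := by
    obtain ⟨g, hg⟩ := Triangle.coyoneda_exact₂ T.invRotate (inv_rot_of_distTriang _ hT) u hu0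
    exact ⟨g, T.invRotate.mor₁, hg⟩
  obtain ⟨m, hm⟩ := hg
  haveI := hV
  have hV' : DerivedCategory.IsGE (T.obj₃⟦(-1 : ℤ)⟧) (b + 1) :=
    TStructure.t.isGE_shift _ b (-1) (b + 1) (by omega)
  have hK : KillsH f (T.obj₃⟦(-1 : ℤ)⟧) 0 := by
    intro k _ z
    let e : (homologyFunctor (ModuleCat.{u} A) k).obj (T.obj₃⟦(-1 : ℤ)⟧) ≅
        (homologyFunctor (ModuleCat.{u} A) (-1 + k)).obj T.obj₃ :=
      ((homologyFunctor (ModuleCat.{u} A) 0).shiftIso (-1) k (-1 + k) rfl).app T.obj₃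
    apply eq_zero_of_iso_hom e
    rw [map_smul]
    exact hf _ _
  have hg0 : f ^ N • g = 0 :=
    pow_smul_hom_eq_zero f 0 N (b + 1) S (T.obj₃⟦(-1 : ℤ)⟧) (by omega) hS hV' hK g
  have hu1 : f ^ N • u = 0 := by
    rw [hm, ← Linear.smul_comp, hg0, zero_comp]
  have h2 : x' = u ≫ (shiftFunctorZero (Dual.D A) ℤ).inv.app T.obj₁ := by
    rw [hu, Category.assoc, Iso.hom_inv_id_app, Category.comp_id]
  rw [h2, ← Linear.smul_comp, hu1, zero_comp]

theorem pow_smul_HDI_eq_zero (I : Ideal A) (T : Triangle (Dual.D A))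
    (hT : T ∈ distTriang (Dual.D A))
    (h0 : Subsingleton (Dual2.HDI A I T.obj₂ 0)) (b : ℤ) (hV : DerivedCategory.IsGE T.obj₃ b)
    (f : A) (hf : ∀ j : ℤ, ∀ x : Dual.HD A T.obj₃ j, f • x = 0) (N : ℕ) (hN : -b ≤ (N : ℤ))
    (y : Dual2.HDI A I T.obj₁ 0) : f ^ N • y = 0 := by
  obtain ⟨j, x, rfl⟩ := exists_rep_nat A (hdiD I T.obj₁ 0) y
  -- `x : S_j ⟶ T.obj₁⟦0⟧`
  have hx0 : (colimit.ι (hdiD I T.obj₂ 0) j).hom
      (((linearYoneda A (Dual.D A)).map (T.mor₁⟦(0 : ℤ)⟧')).app _ x) = 0 :=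
    Subsingleton.elim _ _
  obtain ⟨j', i, hi⟩ := Concrete.colimit_rep_eq_zero A (hdiD I T.obj₂ 0) j _ hx0
  -- the transition map `S_{j'} ⟶ S_j`
  obtain ⟨tr, htr⟩ : ∃ tr : (singleFunctor (ModuleCat.{u} A) 0).obj
        ((localCohomology.ringModIdeals (localCohomology.idealPowersDiagram I)).obj j'.unop) ⟶
      (singleFunctor (ModuleCat.{u} A) 0).obj
        ((localCohomology.ringModIdeals (localCohomology.idealPowersDiagram I)).obj j.unop),
      tr = (singleFunctor (ModuleCat.{u} A) 0).map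
        ((localCohomology.ringModIdeals (localCohomology.idealPowersDiagram I)).map i.unop) :=
    ⟨_, rfl⟩
  obtain ⟨xm, hxm⟩ : ∃ xm : (singleFunctor (ModuleCat.{u} A) 0).obj
        ((localCohomology.ringModIdeals (localCohomology.idealPowersDiagram I)).obj j.unop) ⟶
      T.obj₁⟦(0 : ℤ)⟧, xm = x := ⟨x, rfl⟩
  have hi' : (tr ≫ xm) ≫ T.mor₁⟦(0 : ℤ)⟧' = 0 := by
    rw [htr, hxm, Category.assoc]
    exact hi
  have hx' : f ^ N • (tr ≫ xm) = 0 :=
    pow_smul_hom_eq_zero_of_comp_eq_zero T hT b hV f hf N hN _ inferInstance (tr ≫ xm) hi'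
  rw [← map_smul]
  have hw : (colimit.ι (hdiD I T.obj₁ 0) j).hom (f ^ N • x) =
      (colimit.ι (hdiD I T.obj₁ 0) j').hom (((hdiD I T.obj₁ 0).map i).hom (f ^ N • x)) :=
    congrArg (fun t => t.hom (f ^ N • x)) (colimit.w (hdiD I T.obj₁ 0) i).symm
  have hmapx : ((hdiD I T.obj₁ 0).map i).hom (f ^ N • x) = tr ≫ (f ^ N • xm) := by
    rw [htr, hxm]
    rfl
  rw [hw, hmapx, Linear.comp_smul, hx']
  exact map_zero (colimit.ι (hdiD I T.obj₁ 0) j').hom

end PartB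

end Groth.Agent.Lib.DualCdH1
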