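import Mathlib
import Groth.Prelude.Def_Wider
import Groth.Prelude.Def_DualLC
import Groth.Agent.Lib.DualCd1_helper1
import Groth.Agent.Lib.DMod101_helper6
import Groth.Agent.Lib.DMod118_helper6
import Groth.Agent.Lib.Roberts2_helper2
import Groth.Agent.Lib.LocDual1_helper2
import Groth.Agent.Lib.FT17_helper6
import Groth.Agent.S0333
import Groth.Agent.S0325
import Groth.Agent.S11625

/-!
# Stacks 51.4.? (S1720): cd(A, I) < dim A when H^0_I(ω) = 0 (helper1), part 2
-/

set_option autoImplicit false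
universe u

open CategoryTheory CategoryTheory.Limits CategoryTheory.Pretriangulated DerivedCategory Opposite

attribute [local instance] HasDerivedCategory.standard

namespace Groth.Agent.Lib.DualCdH1

open Groth.Agent.Lib.TopLCH1 Groth.Agent.Lib.AnnH1 Groth.Agent.Lib.DMod_helper6
  Groth.Agent.Lib.DerivedTrunc_helper2

theorem wb_lt (x : WithBot ℕ∞) (d : ℕ) (h : x + 1 ≤ (d : WithBot ℕ∞)) :
    x < (d : WithBot ℕ∞) := by
  induction x using WithBot.recBotCoe with
  | bot => exact WithBot.bot_lt_coe _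
  | coe n =>
    have h' : ((n + 1 : ℕ∞) : WithBot ℕ∞) ≤ (((d : ℕ) : ℕ∞) : WithBot ℕ∞) := h
    rw [WithBot.coe_le_coe] at h'
    have hn : n ≠ ⊤ := by
      rintro rfl
      rw [top_add, top_le_iff] at h'
      exact ENat.natCast_ne_top d h'
    have h2 : n < ((d : ℕ) : ℕ∞) := lt_of_lt_of_le ((ENat.lt_add_one_iff hn).2 le_rfl) h'
    have h3 : ((n : ℕ∞) : WithBot ℕ∞) < (((d : ℕ) : ℕ∞) : WithBot ℕ∞) := WithBot.coe_lt_coe.2 h2
    exact h3

section Local

variable {A : Type u} [CommRing A] [IsLocalRing A] [IsNoetherianRing A] (ω : Dual.D A)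

/-- a top-dimensional minimal prime is not in the support of `H^i(ω)` for `i > -dim A`. -/
theorem not_mem_support_HD (hω : Dual.IsDualizing A ω) (hn : Dual.IsNormalized A ω) (d : ℕ)
    (q : PrimeSpectrum A) (hq : ringKrullDim (A ⧸ q.asIdeal) = d) (i : ℤ) (hi : -(d : ℤ) < i) :
    q ∉ Module.support A (Dual.HD A ω i) := by
  intro h
  have h1 := (nontrivial_hom_inD_self_iff (locD ω q.asIdeal) i).1 ((mem_support_HD_iff ω q i).1 h)
  obtain ⟨e, he, hne⟩ := exists_dim_quot_isNormalized ω hω hn q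
  have hed : e = d := by
    rw [hq] at he
    exact_mod_cast he.symm
  subst hed
  haveI := isNoetherianRing_atPrime q.asIdeal
  have hK : Dual.IsDualizing (Localization.AtPrime q.asIdeal) ((locD ω q.asIdeal)⟦-(e : ℤ)⟧) :=
    isDualizing_shift _ (isDualizing_locD ω q.asIdeal hω) _
  have h2 := Groth.Agent.Lib.Roberts.subsingleton_HD_of_pos _ _ hK hne (i + e) (by omega)
  rw [subsingleton_HD_shift_iff] at h2
  have h3 : -(e : ℤ) + (i + e) = i := by ring
  rw [h3] at h2
  exact not_subsingleton _ h2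

/-- prime avoidance: an element killing `H^i(ω)` for `-dim A < i` and avoiding all top-dimensional
minimal primes. -/
theorem exists_f (hω : Dual.IsDualizing A ω) (hn : Dual.IsNormalized A ω) (d : ℕ) :
    ∃ f : A, (∀ q ∈ minimalPrimes A, ringKrullDim (A ⧸ q) = d → f ∉ q) ∧
      ∀ i : ℤ, -(d : ℤ) < i → ∀ x : Dual.HD A ω i, f • x = 0 := by
  classical
  have hfin : (minimalPrimes A).Finite := minimalPrimes.finite_of_isNoetherianRing A
  have hSfin : {q : Ideal A | q ∈ minimalPrimes A ∧ ringKrullDim (A ⧸ q) = d}.Finite :=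
    hfin.subset (fun q hq => hq.1)
  have hJq : ∀ q : Ideal A, q ∈ minimalPrimes A → ringKrullDim (A ⧸ q) = d →
      ¬ (∏ t ∈ Finset.range d, Module.annihilator A (Dual.HD A ω (-(t : ℤ)))) ≤ q := by
    intro q hqmin hqd hle
    haveI : q.IsPrime := hqmin.1.1
    obtain ⟨t, ht, hle'⟩ := (Ideal.IsPrime.prod_le inferInstance).1 hle
    haveI : Module.Finite A (Dual.HD A ω (-(t : ℤ))) := hω.finite_cohomology _
    have hmem : (⟨q, inferInstance⟩ : PrimeSpectrum A) ∈
        Module.support A (Dual.HD A ω (-(t : ℤ))) :=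
      Module.mem_support_iff_of_finite.2 hle'
    have htd := Finset.mem_range.1 ht
    exact not_mem_support_HD ω hω hn d ⟨q, inferInstance⟩ hqd _ (by omega) hmem
  have hnot : ¬ (((∏ t ∈ Finset.range d, Module.annihilator A (Dual.HD A ω (-(t : ℤ))) :
      Ideal A) : Set A) ⊆ ⋃ q ∈ (↑hSfin.toFinset : Set (Ideal A)), (q : Set A)) := by
    intro hsub
    rw [Ideal.subset_union_prime (s := hSfin.toFinset) (f := fun q => q) ⊥ ⊥
      (fun q hq _ _ => ((hSfin.mem_toFinset).1 hq).1.1.1)] at hsub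
    obtain ⟨q, hq, hle⟩ := hsub
    exact hJq q ((hSfin.mem_toFinset).1 hq).1 ((hSfin.mem_toFinset).1 hq).2 hle
  obtain ⟨f, hfJ, hfn⟩ := Set.not_subset.1 hnot
  refine ⟨f, fun q hqmin hqd hfq => hfn ?_, fun i hi x => ?_⟩
  · simp only [Set.mem_iUnion]
    exact ⟨q, Finset.mem_coe.2 ((hSfin.mem_toFinset).2 ⟨hqmin, hqd⟩), hfq⟩
  · by_cases hi0 : 0 < i
    · haveI := Groth.Agent.Lib.Roberts.subsingleton_HD_of_pos _ ω hω hn i hi0
      exact Subsingleton.elim _ _
    · obtain ⟨t, rfl⟩ : ∃ t : ℕ, i = -(t : ℤ) := ⟨(-i).toNat, by omega⟩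
      have ht : t ∈ Finset.range d := Finset.mem_range.2 (by omega)
      have h1 : (∏ t ∈ Finset.range d, Module.annihilator A (Dual.HD A ω (-(t : ℤ)))) ≤
          Module.annihilator A (Dual.HD A ω (-(t : ℤ))) :=
        Ideal.prod_le_inf.trans (Finset.inf_le ht)
      exact Module.mem_annihilator.1 (h1 hfJ) x

theorem main1720 (hω : Dual.IsDualizing A ω) (hn : Dual.IsNormalized A ω) (I : Ideal A)
    (h0 : Subsingleton (Dual2.HDI A I ω 0)) (M : Type u) [AddCommGroup M] [Module A M] (i : ℕ)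
    (hi : ringKrullDim A ≤ (i : WithBot ℕ∞)) : Subsingleton (LocCoh.H I i M) := by
  obtain ⟨d, hd⟩ : ∃ d : ℕ, ringKrullDim A = d := by
    have hdim : ringKrullDim A < ⊤ := ringKrullDim_lt_top
    have h1 : ringKrullDim A ≠ ⊥ :=
      bot_lt_iff_ne_bot.1 (lt_of_lt_of_le (WithBot.bot_lt_coe 0) ringKrullDim_nonneg_of_nontrivial)
    obtain ⟨x, hx⟩ := WithBot.ne_bot_iff_exists.1 h1
    have h2 : x ≠ ⊤ := by
      rintro rfl
      rw [← hx] at hdim
      exact lt_irrefl _ hdim
    obtain ⟨n, hn'⟩ := WithTop.ne_top_iff_exists.1 h2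
    exact ⟨n, by rw [← hx, ← hn']; rfl⟩
  obtain ⟨f, hfq, hfkill⟩ := exists_f ω hω hn d
  obtain ⟨a, ha⟩ : ∃ a : ℤ, a = -(d : ℤ) := ⟨_, rfl⟩
  have hlow : ∀ j : ℤ, j < a → Subsingleton (Dual.HD A ω j) := by
    intro j hj
    exact (subsingleton_hom_inD_self_iff ω j).1
      (subsingleton_ext_of_lt_neg_supportDim ω hω hn d A
        (by rw [Module.supportDim_self_eq_ringKrullDim, hd]) j (by omega))
  have hT := (tt (ModuleCat.{u} A)).triangleLEGT_distinguished a ω
  have hVkill : ∀ j : ℤ, ∀ x : Dual.HD A (((tt (ModuleCat.{u} A)).truncGT a).obj ω) j,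
      f • x = 0 := by
    intro j x
    by_cases hj : j ≤ a
    · haveI := ModuleCat.subsingleton_of_isZero (isZero_homology_truncGT ω a j hj)
      exact Subsingleton.elim _ _
    · haveI := isIso_homology_map_truncGTπ ω a j (by omega)
      obtain ⟨x', rfl⟩ := (ModuleCat.epi_iff_surjective _).1
        (inferInstance : Epi ((homologyFunctor (ModuleCat.{u} A) j).map
          (((tt (ModuleCat.{u} A)).truncGTπ a).app ω))) x
      rw [← map_smul, hfkill j (by omega) x', map_zero]
  have hkillW : ∀ y : Dual2.HDI A I (((tt (ModuleCat.{u} A)).truncLE a).obj ω) 0,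
      f ^ d • y = 0 :=
    fun y => pow_smul_HDI_eq_zero I _ hT h0 (a + 1)
      (show DerivedCategory.IsGE (((tt (ModuleCat.{u} A)).truncGT a).obj ω) (a + 1) from
        inferInstance) f hVkill d (by omega) y
  -- `W` is concentrated in degree `a`
  haveI hWge : DerivedCategory.IsGE (((tt (ModuleCat.{u} A)).truncLE a).obj ω) a :=
    (isGE_iff _ a).2 (fun j hj => by
      have := mono_homology_map_truncLEι ω a j (by omega)
      haveI := hlow j hj
      exact IsZero.of_mono ((homologyFunctor (ModuleCat.{u} A) j).map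
        (((tt (ModuleCat.{u} A)).truncLEι a).app ω))
        (show IsZero ((homologyFunctor (ModuleCat.{u} A) j).obj ω) from
          ModuleCat.isZero_of_subsingleton _))
  obtain ⟨Mo, ⟨e⟩⟩ := exists_iso_singleFunctor_obj_of_isGE_of_isLE
    (((tt (ModuleCat.{u} A)).truncLE a).obj ω) a
  haveI := isIso_homology_map_truncLEι ω a a le_rfl
  let iM : Mo ≅ (homologyFunctor (ModuleCat.{u} A) a).obj ω :=
    ((singleFunctorCompHomologyFunctorIso (ModuleCat.{u} A) a).app Mo).symm ≪≫
      (homologyFunctor (ModuleCat.{u} A) a).mapIso e.symm ≪≫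
      asIso ((homologyFunctor (ModuleCat.{u} A) a).map
        (((tt (ModuleCat.{u} A)).truncLEι a).app ω))
  let iso : ((tt (ModuleCat.{u} A)).truncLE a).obj ω ≅
      (Dual.inD A (Dual.HD A ω a))⟦(d : ℤ)⟧ :=
    e ≪≫ (singleFunctor (ModuleCat.{u} A) a).mapIso iM ≪≫
      (((singleFunctors (ModuleCat.{u} A)).shiftIso (d : ℤ) a 0 (by omega)).app _).symm
  obtain ⟨e3⟩ := Groth.Agent.Lib.FaltT.nonempty_HDI_equiv_of_iso I iso 0
  obtain ⟨e2⟩ := Groth.Agent.Lib.LocDual.hdi_shift_equiv I (Dual.inD A (Dual.HD A ω a))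
    (d : ℤ) 0 d (add_zero _)
  obtain ⟨e1⟩ := Groth.Agent.Lib.FlatHom.hdi_inD_equiv_locCoh I (Dual.HD A ω a) d
  have hkill : ∀ x : LocCoh.H I d (Dual.HD A ω a), f ^ d • x = 0 := by
    intro x
    obtain ⟨y, rfl⟩ : ∃ y, e1 (e2 (e3 y)) = x := ⟨e3.symm (e2.symm (e1.symm x)), by simp⟩
    rw [← map_smul, ← map_smul, ← map_smul, hkillW y, map_zero, map_zero, map_zero]
  haveI : Module.Finite A (Dual.HD A ω a) := hω.finite_cohomology a
  have hcd : ∀ (X : Type u) [AddCommGroup X] [Module A X],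
      Subsingleton (LocCoh.H I (d + 1) X) :=
    fun X _ _ => Groth.Agent.S0325.result A I d (le_of_eq hd) X (d + 1) (Nat.lt_succ_self d)
  have hsuppeq := (dualizing_module_support_and_S2 ω hω hn d hd).1
  rw [← ha] at hsuppeq
  have hquot : Subsingleton (LocCoh.H I d (QuotSMulTop (f ^ d) (Dual.HD A ω a))) := by
    apply Groth.Agent.S11625.result
    apply wb_lt
    refine (Module.supportDim_quotSMulTop_succ_le_of_notMem_minimalPrimes ?_).trans ?_
    · intro p hp hfp
      haveI : p.IsPrime := hp.1.1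
      have hpS : (⟨p, inferInstance⟩ : PrimeSpectrum A) ∈
          Module.support A (Dual.HD A ω a) := Module.mem_support_iff_of_finite.2 hp.1.2
      rw [hsuppeq] at hpS
      obtain ⟨q, hqmin, hqp, hqd⟩ := hpS
      haveI : q.IsPrime := hqmin.1.1
      have hqS : (⟨q, inferInstance⟩ : PrimeSpectrum A) ∈
          Module.support A (Dual.HD A ω a) := by
        rw [hsuppeq]
        exact ⟨q, hqmin, le_rfl, hqd⟩
      have hAq : Module.annihilator A (Dual.HD A ω a) ≤ q :=
        Module.mem_support_iff_of_finite.1 hqS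
      have hpq : p ≤ q := hp.2 ⟨inferInstance, hAq⟩ hqp
      exact hfq q hqmin hqd (Ideal.IsPrime.mem_of_pow_mem inferInstance d (hpq hfp))
    · rw [← hd]
      exact Module.supportDim_le_ringKrullDim A _
  have hvan : Subsingleton (LocCoh.H I d (Dual.HD A ω a)) :=
    subsingleton_of_smul_eq_zero I d _ (f ^ d) hcd hkill hquot
  have hsupp : ∀ p ∈ minimalPrimes A, ringKrullDim (A ⧸ p) = d → ∀ hp : p.IsPrime,
      (⟨p, hp⟩ : PrimeSpectrum A) ∈ Module.support A (Dual.HD A ω a) := by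
    intro p hpmin hpd hp
    rw [hsuppeq]
    exact ⟨p, hpmin, le_rfl, hpd⟩
  have hdi : d ≤ i := by
    rw [hd] at hi
    exact_mod_cast hi
  exact Groth.Agent.S0333.result A I d hd (Dual.HD A ω a) hsupp hvan M i hdi

end Local

end Groth.Agent.Lib.DualCdH1
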