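import Groth.Agent.Lib.OrbitSpan_helper9
import Groth.Agent.Lib.Antipode_helper9
import Groth.Agent.Lib.Cosemisimple_helper9
import Groth.Prelude.Def_ComodDual
import Groth.Prelude.Def_ComodTens

/-!
# The contragredient comodule; a criterion for linear reductivity

* `comodOfRational`: a linear map `ρ : W → W ⊗ C` whose associated action of functionals is
  multiplicative and unital is a comodule structure (`C` free).
* `dualComod`: the contragredient comodule structure on the dual of a finite-dimensional comodule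
  over a commutative Hopf algebra over a field.
* `isLinearlyReductive_of_criterion`: if every surjective comodule map from a finite-dimensional
  comodule onto the trivial comodule `k` is non-zero on some fixed vector, the Hopf algebra is
  linearly reductive.

helper9.  APPEND-ONLY once landed.
-/

set_option autoImplicit false

universe u v w

open TensorProduct WithConv

namespace Groth.Agent.Lib.DualComod_helper9

open Groth.Agent.Lib.ComodDual_helper9 Groth.Agent.Lib.Subcoalg_helper9
  Groth.Agent.Lib.OrbitSpan_helper9 Groth.Agent.Lib.Antipode_helper9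
  Groth.Agent.Lib.Cosemisimple_helper9 Groth.Agent.Lib.Integral_helper9
  Groth.Agent.Lib.LinRed_helper9 Groth.Agent.Lib.ComodFlag_helper9 Groth.Agent.Lib.Comod_helper9

section Rational

variable {k : Type u} [CommRing k] {C : Type v} [AddCommGroup C] [Module k C] [Coalgebra k C]
variable {W : Type w} [AddCommGroup W] [Module k W]

theorem ev_one_eq (x : W ⊗[k] C) :
    ev W (1 : WithConv (C →ₗ[k] k)).ofConv x =
      TensorProduct.rid k W ((CoalgebraStruct.counit (R := k) (A := C)).lTensor W x) := by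
  induction x using TensorProduct.induction_on with
  | zero => simp
  | add x y hx hy => simp only [map_add, hx, hy]
  | tmul v c => simp [LinearMap.convOne_def]

variable [Module.Free k C]

/-- a "rational" action of the functionals gives a comodule structure -/
@[reducible] noncomputable def comodOfRational (ρ : W →ₗ[k] W ⊗[k] C)
    (hmul : ∀ (φ ψ : WithConv (C →ₗ[k] k)) (w : W),
      ev W (φ * ψ).ofConv (ρ w) = ev W φ.ofConv (ρ (ev W ψ.ofConv (ρ w))))
    (hone : ∀ w : W, ev W (1 : WithConv (C →ₗ[k] k)).ofConv (ρ w) = w) :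
    HopfRep.Comod k C W where
  coact := ρ
  coassoc := by
    apply LinearMap.ext
    intro w
    show TensorProduct.assoc k W C C (ρ.rTensor C (ρ w)) =
      (CoalgebraStruct.comul (R := k) (A := C)).lTensor W (ρ w)
    rw [← LinearEquiv.eq_symm_apply, ← sub_eq_zero]
    apply eq_zero_of_forall_ev
    intro ψ
    apply eq_zero_of_forall_ev
    intro φ
    rw [map_sub, map_sub, sub_eq_zero, ev_rTensor]
    have h := ev_convMul (V := W) (toConv φ) (toConv ψ) (ρ w)
    have h2 := hmul (toConv φ) (toConv ψ) w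
    exact h2.symm.trans h
  counit_comp := by
    apply LinearMap.ext
    intro w
    show (CoalgebraStruct.counit (R := k) (A := C)).lTensor W (ρ w) = w ⊗ₜ[k] (1 : k)
    apply (TensorProduct.rid k W).injective
    rw [TensorProduct.rid_tmul, one_smul, ← ev_one_eq, hone]

end Rational

section Dual

variable (k : Type u) [Field k] (A : Type v) [CommRing A] [HopfAlgebra k A]
variable (V : Type w) [AddCommGroup V] [Module k V] [Module.Finite k V] [c : HopfRep.Comod k A V]

/-- `f ↦ (v ↦ Σ f(v₀) S(v₁))` as a linear map -/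
noncomputable def dualCoactLin : Module.Dual k V →ₗ[k] (V →ₗ[k] A) :=
  IsLinearMap.mk' (fun f => ComodTens.dualCoactFun c f)
    ⟨ComodTens.dualCoactFun_add c, ComodTens.dualCoactFun_smul c⟩

/-- the contragredient coaction -/
noncomputable def dualRho : Module.Dual k V →ₗ[k] Module.Dual k V ⊗[k] A :=
  (dualTensorHomEquiv k V A).symm.toLinearMap ∘ₗ dualCoactLin k A V

theorem dualTensorHom_dualRho (f : Module.Dual k V) :
    dualTensorHom k V A (dualRho k A V f) = ComodTens.dualCoactFun c f := by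
  show dualTensorHom k V A ((dualTensorHomEquiv k V A).symm (ComodTens.dualCoactFun c f)) = _
  exact (dualTensorHomEquiv k V A).apply_symm_apply _

omit [Module.Finite k V] c in
theorem ev_dual_apply (φ : A →ₗ[k] k) (x : Module.Dual k V ⊗[k] A) (v : V) :
    (ev (Module.Dual k V) φ x) v = φ (dualTensorHom k V A x v) := by
  induction x using TensorProduct.induction_on with
  | zero => simp
  | add x y hx hy => simp only [map_add, LinearMap.add_apply, hx, hy]
  | tmul ψ a =>
    rw [ev_tmul, dualTensorHom_apply, LinearMap.smul_apply, map_smul, smul_eq_mul, smul_eq_mul,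
      mul_comm]

omit [Module.Finite k V] c in
theorem apply_lid_map (φ : A →ₗ[k] k) (f : Module.Dual k V) (y : V ⊗[k] A) :
    φ (TensorProduct.lid k A (TensorProduct.map f (HopfAlgebraStruct.antipode k (A := A)) y)) =
      f (ev V (φ ∘ₗ HopfAlgebraStruct.antipode k (A := A)) y) := by
  induction y using TensorProduct.induction_on with
  | zero => simp
  | add x y hx hy => simp only [map_add, hx, hy]
  | tmul n a =>
    rw [TensorProduct.map_tmul, TensorProduct.lid_tmul, ev_tmul, map_smul, map_smul, smul_eq_mul,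
      smul_eq_mul, LinearMap.comp_apply, mul_comm]

/-- the action of a functional on the dual is the transpose of the action of `φ ∘ S` -/
theorem ev_dualRho_apply (φ : A →ₗ[k] k) (f : Module.Dual k V) (v : V) :
    (ev (Module.Dual k V) φ (dualRho k A V f)) v =
      f (act (φ ∘ₗ HopfAlgebraStruct.antipode k (A := A)) v) := by
  rw [ev_dual_apply, dualTensorHom_dualRho, ComodTens.dualCoactFun_apply, apply_lid_map]
  rfl

omit [Module.Finite k V] c in
theorem conv_comp_antipode (φ ψ : A →ₗ[k] k) :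
    (toConv φ * toConv ψ).ofConv ∘ₗ HopfAlgebraStruct.antipode k (A := A) =
      (toConv (ψ ∘ₗ HopfAlgebraStruct.antipode k (A := A)) *
        toConv (φ ∘ₗ HopfAlgebraStruct.antipode k (A := A))).ofConv := by
  apply LinearMap.ext
  intro a
  show LinearMap.mul' k k (TensorProduct.map φ ψ
      (CoalgebraStruct.comul (R := k) (HopfAlgebraStruct.antipode k a))) =
    LinearMap.mul' k k (TensorProduct.map (ψ ∘ₗ HopfAlgebraStruct.antipode k (A := A))
      (φ ∘ₗ HopfAlgebraStruct.antipode k (A := A)) (CoalgebraStruct.comul (R := k) a))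
  rw [comul_antipode k A a]
  have : ∀ t : A ⊗[k] A, LinearMap.mul' k k (TensorProduct.map φ ψ
      (TensorProduct.map (HopfAlgebraStruct.antipode k (A := A))
        (HopfAlgebraStruct.antipode k (A := A)) (TensorProduct.comm k A A t))) =
      LinearMap.mul' k k (TensorProduct.map (ψ ∘ₗ HopfAlgebraStruct.antipode k (A := A))
        (φ ∘ₗ HopfAlgebraStruct.antipode k (A := A)) t) := by
    intro t
    induction t using TensorProduct.induction_on with
    | zero => simp
    | add x y hx hy => simp only [map_add, hx, hy]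
    | tmul x y =>
      rw [TensorProduct.comm_tmul, TensorProduct.map_tmul, TensorProduct.map_tmul,
        TensorProduct.map_tmul, LinearMap.mul'_apply, LinearMap.mul'_apply,
        LinearMap.comp_apply, LinearMap.comp_apply, mul_comm]
  exact this _

/-- the contragredient comodule -/
@[reducible] noncomputable def dualComod : HopfRep.Comod k A (Module.Dual k V) :=
  comodOfRational (dualRho k A V)
    (by
      intro φ ψ f
      apply LinearMap.ext
      intro v
      rw [ev_dualRho_apply, ev_dualRho_apply, ev_dualRho_apply]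
      have h2 : (φ * ψ).ofConv ∘ₗ HopfAlgebraStruct.antipode k (A := A) =
          (toConv (ψ.ofConv ∘ₗ HopfAlgebraStruct.antipode k (A := A)) *
            toConv (φ.ofConv ∘ₗ HopfAlgebraStruct.antipode k (A := A))).ofConv :=
        conv_comp_antipode k A φ.ofConv ψ.ofConv
      have h4 := act_mul (V := V) (toConv (ψ.ofConv ∘ₗ HopfAlgebraStruct.antipode k (A := A)))
        (toConv (φ.ofConv ∘ₗ HopfAlgebraStruct.antipode k (A := A))) v
      rw [h2]
      exact congrArg f h4)
    (by
      intro f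
      apply LinearMap.ext
      intro v
      rw [ev_dualRho_apply]
      have h3 : (1 : WithConv (A →ₗ[k] k)).ofConv ∘ₗ HopfAlgebraStruct.antipode k (A := A) =
          (1 : WithConv (A →ₗ[k] k)).ofConv := by
        apply LinearMap.ext
        intro a
        show algebraMap k k (CoalgebraStruct.counit (R := k) (HopfAlgebraStruct.antipode k a)) =
          algebraMap k k (CoalgebraStruct.counit (R := k) a)
        rw [HopfAlgebra.counit_antipode]
      rw [h3, act_one])

theorem isDual_dualComod : ComodTens.Comod.IsDual c (dualComod k A V) :=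
  fun f => dualTensorHom_dualRho k A V f

end Dual

section Criterion

variable (k : Type u) [Field k] (A : Type v) [CommRing A] [HopfAlgebra k A]

section Equiv

variable {V : Type w} [AddCommGroup V] [Module k V] [HopfRep.Comod k A V]

theorem eqFun_of_tensor (π : V →ₗ[k] k)
    (h : π.rTensor A ∘ₗ HopfRep.Comod.coact (k := k) (A := A) (V := V) =
      (TensorProduct.mk k k A).flip (1 : A) ∘ₗ π)
    (ψ : A →ₗ[k] k) (v : V) : π (act ψ v) = ψ 1 * π v := by
  have h1 : π.rTensor A (HopfRep.Comod.coact (k := k) (A := A) v) = π v ⊗ₜ[k] (1 : A) :=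
    LinearMap.congr_fun h v
  rw [act_apply, apply_ev_eq]
  show ψ (TensorProduct.lid k A (π.rTensor A (HopfRep.Comod.coact (k := k) (A := A) v))) = _
  rw [h1, TensorProduct.lid_tmul, map_smul, smul_eq_mul, mul_comm]

theorem tensor_of_eqFun (π : V →ₗ[k] k)
    (h : ∀ (ψ : A →ₗ[k] k) (v : V), π (act ψ v) = ψ 1 * π v) :
    π.rTensor A ∘ₗ HopfRep.Comod.coact (k := k) (A := A) (V := V) =
      (TensorProduct.mk k k A).flip (1 : A) ∘ₗ π := by
  apply LinearMap.ext
  intro v
  show π.rTensor A (HopfRep.Comod.coact (k := k) (A := A) v) = π v ⊗ₜ[k] (1 : A)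
  apply (TensorProduct.lid k A).injective
  rw [TensorProduct.lid_tmul, ← sub_eq_zero, ← Module.forall_dual_apply_eq_zero_iff k]
  intro ψ
  rw [map_sub, sub_eq_zero, map_smul, smul_eq_mul]
  have h2 := h ψ v
  rw [act_apply, apply_ev_eq] at h2
  rw [mul_comm]
  exact h2

theorem act_of_mem_fixedPts (v : V) (hv : v ∈ HopfRep.fixedPts k A V) (ψ : A →ₗ[k] k) :
    act ψ v = ψ 1 • v := by
  have hv' : HopfRep.Comod.coact (k := k) (A := A) v = v ⊗ₜ[k] (1 : A) := hv
  rw [act_apply]
  show ev V ψ (HopfRep.Comod.coact (k := k) (A := A) v) = _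
  rw [hv', ev_tmul]

end Equiv

theorem lid_eval_rTensor (N : Type w) [AddCommGroup N] [Module k N] (n : N)
    (x : Module.Dual k N ⊗[k] A) :
    TensorProduct.lid k A ((Module.Dual.eval k N n).rTensor A x) = dualTensorHom k N A x n := by
  induction x using TensorProduct.induction_on with
  | zero => simp
  | add x y hx hy => simp only [map_add, LinearMap.add_apply, hx, hy]
  | tmul ψ a =>
    rw [LinearMap.rTensor_tmul, TensorProduct.lid_tmul, dualTensorHom_apply, Module.Dual.eval_apply]

/-- the criterion -/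
def Crit : Prop :=
  ∀ (V : Type v) [AddCommGroup V] [Module k V] [HopfRep.Comod k A V], Module.Finite k V →
    ∀ π : V →ₗ[k] k, Function.Surjective π →
      LinearMap.rTensor A π ∘ₗ HopfRep.Comod.coact (k := k) (A := A) (V := V) =
        (TensorProduct.mk k k A).flip (1 : A) ∘ₗ π →
      ∃ v ∈ HopfRep.fixedPts k A V, π v ≠ 0

variable {k A}

theorem exists_eqFun (hC : Crit k A) (N : Type v) [AddCommGroup N] [Module k N]
    [c : HopfRep.Comod k A N] [Module.Finite k N]
    (n₀ : N) (hn₀ : n₀ ∈ HopfRep.fixedPts k A N) (hne : n₀ ≠ 0) :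
    ∃ ξ : N →ₗ[k] k, ξ n₀ ≠ 0 ∧ ∀ (ψ : A →ₗ[k] k) (n : N), ξ (act ψ n) = ψ 1 * ξ n := by
  obtain ⟨e⟩ : Nonempty (Module.Dual k N ≃ₗ[k] N) :=
    FiniteDimensional.nonempty_linearEquiv_of_finrank_eq Subspace.dual_finrank_eq
  let d : HopfRep.Comod k A (Module.Dual k N) := dualComod k A N
  let π' : N →ₗ[k] k := (Module.Dual.eval k N n₀) ∘ₗ e.symm.toLinearMap
  have hπ' : ∀ η, π' η = (e.symm η) n₀ := fun η => rfl
  have hsurj : Function.Surjective π' := by
    obtain ⟨ξ₀, hξ₀⟩ : ∃ ξ₀ : Module.Dual k N, ξ₀ n₀ ≠ 0 := by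
      by_contra hno
      push_neg at hno
      exact hne ((Module.forall_dual_apply_eq_zero_iff k n₀).mp hno)
    intro t
    refine ⟨e ((t / ξ₀ n₀) • ξ₀), ?_⟩
    rw [hπ', LinearEquiv.symm_apply_apply, LinearMap.smul_apply, smul_eq_mul,
      div_mul_cancel₀ _ hξ₀]
  have hkey : ∀ ξ : Module.Dual k N,
      (Module.Dual.eval k N n₀).rTensor A (d.coact ξ) = ξ n₀ ⊗ₜ[k] (1 : A) := by
    intro ξ
    apply (TensorProduct.lid k A).injective
    rw [lid_eval_rTensor, TensorProduct.lid_tmul]
    have h1 : dualTensorHom k N A (d.coact ξ) = ComodTens.dualCoactFun c ξ :=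
      isDual_dualComod k A N ξ
    have hn₀' : c.coact n₀ = n₀ ⊗ₜ[k] (1 : A) := hn₀
    rw [h1, ComodTens.dualCoactFun_apply, hn₀', TensorProduct.map_tmul, TensorProduct.lid_tmul,
      HopfAlgebra.antipode_one]
  have h2 : ∀ η, (ComodTens.Comod.ofEquiv e d).coact η =
      (e : Module.Dual k N →ₗ[k] N).rTensor A (d.coact (e.symm η)) := fun η => rfl
  have hequiv : π'.rTensor A ∘ₗ (ComodTens.Comod.ofEquiv e d).coact =
      (TensorProduct.mk k k A).flip (1 : A) ∘ₗ π' := by
    apply LinearMap.ext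
    intro η
    show π'.rTensor A ((ComodTens.Comod.ofEquiv e d).coact η) = π' η ⊗ₜ[k] (1 : A)
    rw [h2, ← LinearMap.rTensor_comp_apply]
    have h3 : π' ∘ₗ (e : Module.Dual k N →ₗ[k] N) = Module.Dual.eval k N n₀ := by
      apply LinearMap.ext
      intro ξ
      show (e.symm (e ξ)) n₀ = ξ n₀
      rw [LinearEquiv.symm_apply_apply]
    rw [h3, hkey, hπ']
  obtain ⟨η, hηfix, hηne⟩ :=
    @hC N _ _ (ComodTens.Comod.ofEquiv e d) inferInstance π' hsurj hequiv
  have hη' : (ComodTens.Comod.ofEquiv e d).coact η = η ⊗ₜ[k] (1 : A) := hηfix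
  have hact : ∀ φ : A →ₗ[k] k, ev (Module.Dual k N) φ (d.coact (e.symm η)) = φ 1 • e.symm η := by
    intro φ
    apply e.injective
    have h5 : e (ev (Module.Dual k N) φ (d.coact (e.symm η))) =
        ev N φ ((e : Module.Dual k N →ₗ[k] N).rTensor A (d.coact (e.symm η))) :=
      (ev_rTensor φ (e : Module.Dual k N →ₗ[k] N) (d.coact (e.symm η))).symm
    rw [h5, ← h2, hη', ev_tmul, map_smul, e.apply_symm_apply]
  refine ⟨e.symm η, ?_, ?_⟩
  · rw [← hπ']; exact hηne
  · intro ψ n
    have h6 := ev_dualRho_apply k A N (ψ ∘ₗ HopfAlgebraStruct.antipode k (A := A)) (e.symm η) n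
    have h7 : (ψ ∘ₗ HopfAlgebraStruct.antipode k (A := A)) ∘ₗ
        HopfAlgebraStruct.antipode k (A := A) = ψ := by
      apply LinearMap.ext
      intro a
      show ψ (HopfAlgebraStruct.antipode k (HopfAlgebraStruct.antipode k a)) = ψ a
      rw [antipode_antipode k A a]
    rw [h7] at h6
    have h8 := hact (ψ ∘ₗ HopfAlgebraStruct.antipode k (A := A))
    have h9 : d.coact (e.symm η) = dualRho k A N (e.symm η) := rfl
    rw [← h6, ← h9, h8, LinearMap.smul_apply, LinearMap.comp_apply, HopfAlgebra.antipode_one,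
      smul_eq_mul]

/-- partial integral on a subspace `N` of `A` -/
def IsPI (N : Submodule k A) (α : A →ₗ[k] k) : Prop :=
  α 1 = 1 ∧ ∀ (ψ : A →ₗ[k] k), ∀ n ∈ N, α (act ψ n) = ψ 1 * α n

theorem nontrivial_of_hopf (k : Type u) [Field k] (A : Type v) [CommRing A] [HopfAlgebra k A] :
    Nontrivial A :=
  ⟨⟨1, 0, fun h => by
    have h2 := congrArg (CoalgebraStruct.counit (R := k) (A := A)) h
    rw [Bialgebra.counit_one, map_zero] at h2
    exact one_ne_zero h2⟩⟩

theorem exists_isPI (hC : Crit k A) (N : Submodule k A)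
    (hN : HopfRep.IsSubcomod (k := k) (A := A) N) [Module.Finite k N] (h1 : (1 : A) ∈ N) :
    ∃ α, IsPI (k := k) N α := by
  haveI : Nontrivial A := nontrivial_of_hopf k A
  letI cN : HopfRep.Comod k A N := ComodSub.Comod.restr (HopfRep.Comod.regular k A) N hN
  have hfix : (⟨1, h1⟩ : N) ∈ HopfRep.fixedPts k A N := by
    show cN.coact ⟨1, h1⟩ = (⟨1, h1⟩ : N) ⊗ₜ[k] (1 : A)
    apply ComodSub.rTensor_subtype_injective (A := A) N
    rw [ComodSub.restr_coact_coe, LinearMap.rTensor_tmul]
    show CoalgebraStruct.comul (R := k) (1 : A) = (1 : A) ⊗ₜ[k] (1 : A)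
    exact Bialgebra.comul_one
  have hne : (⟨1, h1⟩ : N) ≠ 0 := by
    intro h0
    have h00 : (1 : A) = 0 := congrArg Subtype.val h0
    exact one_ne_zero h00
  obtain ⟨ξ, hξ1, hξeq⟩ := exists_eqFun hC N ⟨1, h1⟩ hfix hne
  obtain ⟨α₀, hα₀⟩ := LinearMap.exists_extend ((ξ ⟨1, h1⟩)⁻¹ • ξ)
  have hα₀' : ∀ n : N, α₀ (n : A) = (ξ ⟨1, h1⟩)⁻¹ * ξ n := fun n => LinearMap.congr_fun hα₀ n
  refine ⟨α₀, ?_, ?_⟩
  · have h3 := hα₀' ⟨1, h1⟩
    rw [inv_mul_cancel₀ hξ1] at h3
    exact h3
  · intro ψ n hn
    have h3 : act ψ n = ((act ψ (⟨n, hn⟩ : N) : N) : A) :=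
      (act_restr_coe (HopfRep.Comod.regular k A) N hN ψ ⟨n, hn⟩).symm
    rw [h3, hα₀', hξeq, hα₀' ⟨n, hn⟩]
    ring

theorem isPI_unique (hC : Crit k A) (N : Submodule k A)
    (hN : HopfRep.IsSubcomod (k := k) (A := A) N) [Module.Finite k N]
    (α α' : A →ₗ[k] k) (h : IsPI (k := k) N α) (h' : IsPI (k := k) N α') :
    ∀ n ∈ N, α n = α' n := by
  letI cN : HopfRep.Comod k A N := ComodSub.Comod.restr (HopfRep.Comod.regular k A) N hN
  by_contra hne
  push_neg at hne
  obtain ⟨n₁, hn₁, hne⟩ := hne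
  let μ : N →ₗ[k] k := (α - α') ∘ₗ N.subtype
  have hμ : ∀ n : N, μ n = α (n : A) - α' (n : A) := fun n => rfl
  have hμeq : ∀ (ψ : A →ₗ[k] k) (n : N), μ (act ψ n) = ψ 1 * μ n := by
    intro ψ n
    rw [hμ, hμ, act_restr_coe (HopfRep.Comod.regular k A) N hN ψ n, h.2 ψ n n.2, h'.2 ψ n n.2,
      mul_sub]
  have hμne : μ ⟨n₁, hn₁⟩ ≠ 0 := by
    rw [hμ, sub_ne_zero]; exact hne
  have hμsurj : Function.Surjective μ := by
    intro t
    exact ⟨(t / μ ⟨n₁, hn₁⟩) • ⟨n₁, hn₁⟩, by rw [map_smul, smul_eq_mul, div_mul_cancel₀ _ hμne]⟩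
  obtain ⟨n, hnfix, hnne⟩ := @hC N _ _ cN inferInstance μ hμsurj (tensor_of_eqFun k A μ hμeq)
  have hn' : cN.coact n = n ⊗ₜ[k] (1 : A) := hnfix
  have hA : CoalgebraStruct.comul (R := k) (n : A) = (n : A) ⊗ₜ[k] (1 : A) := by
    have h3 := ComodSub.restr_coact_coe (HopfRep.Comod.regular k A) N hN n
    rw [hn', LinearMap.rTensor_tmul] at h3
    exact h3.symm
  have hn1 : (n : A) = CoalgebraStruct.counit (R := k) (n : A) • (1 : A) := by
    have h2 := Coalgebra.rTensor_counit_comul (R := k) (n : A)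
    rw [hA, LinearMap.rTensor_tmul] at h2
    have h3 := congrArg (TensorProduct.lid k A) h2
    rw [TensorProduct.lid_tmul, TensorProduct.lid_tmul, one_smul] at h3
    exact h3.symm
  apply hnne
  rw [hμ, hn1, map_smul, map_smul, h.1, h'.1, sub_self]

/-- the finite-dimensional subcomodule of `A` generated by `a` and `1` -/
noncomputable def Na (a : A) : Submodule k A :=
  cyclicSub (k := k) (C := A) a ⊔ cyclicSub (k := k) (C := A) (1 : A)

theorem isSubcomod_Na (a : A) : HopfRep.IsSubcomod (k := k) (A := A) (Na (k := k) a) :=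
  isSubcomod_sup _ _ (isSubcomod_cyclicSub a) (isSubcomod_cyclicSub 1)

theorem finite_Na (a : A) : Module.Finite k (Na (k := k) a) := by
  haveI := finite_cyclicSub (k := k) (C := A) a
  haveI := finite_cyclicSub (k := k) (C := A) (1 : A)
  exact Submodule.finite_sup _ _

theorem self_mem_Na (a : A) : a ∈ Na (k := k) a := Submodule.mem_sup_left (self_mem_cyclicSub a)

theorem one_mem_Na (a : A) : (1 : A) ∈ Na (k := k) a :=
  Submodule.mem_sup_right (self_mem_cyclicSub 1)

theorem cyclicSub_le (N' : Submodule k A) (hN' : HopfRep.IsSubcomod (k := k) (A := A) N') (a : A)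
    (ha : a ∈ N') : cyclicSub (k := k) (C := A) a ≤ N' := by
  intro w hw
  obtain ⟨φ, rfl⟩ := (mem_cyclicSub a w).mp hw
  exact act_mem_of_isSubcomod N' hN' φ ha

/-- the criterion implies linear reductivity -/
theorem isLinearlyReductive_of_criterion (hC : Crit k A) : HopfRep.IsLinearlyReductive k A := by
  classical
  have hex : ∀ a : A, ∃ α, IsPI (k := k) (Na (k := k) a) α := fun a => by
    haveI : Module.Finite k (Na (k := k) a) := finite_Na a
    exact exists_isPI hC (Na (k := k) a) (isSubcomod_Na a) (one_mem_Na a)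
  choose αf hαf using hex
  have helper : ∀ (a : A) (N' : Submodule k A), HopfRep.IsSubcomod (k := k) (A := A) N' →
      (1 : A) ∈ N' → a ∈ N' → ∀ α', IsPI (k := k) N' α' → αf a a = α' a := by
    intro a N' hN' h1 ha α' hα'
    haveI : Module.Finite k (Na (k := k) a) := finite_Na a
    have hle : Na (k := k) a ≤ N' := sup_le (cyclicSub_le N' hN' a ha) (cyclicSub_le N' hN' 1 h1)
    have hres : IsPI (k := k) (Na (k := k) a) α' := ⟨hα'.1, fun ψ n hn => hα'.2 ψ n (hle hn)⟩
    exact isPI_unique hC (Na (k := k) a) (isSubcomod_Na a) _ _ (hαf a) hres a (self_mem_Na a)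
  have hadd : ∀ a b : A, αf (a + b) (a + b) = αf a a + αf b b := by
    intro a b
    have hN' : HopfRep.IsSubcomod (k := k) (A := A) (Na (k := k) a ⊔ Na (k := k) b) :=
      isSubcomod_sup _ _ (isSubcomod_Na a) (isSubcomod_Na b)
    haveI : Module.Finite k (Na (k := k) a) := finite_Na a
    haveI : Module.Finite k (Na (k := k) b) := finite_Na b
    haveI : Module.Finite k (Na (k := k) a ⊔ Na (k := k) b : Submodule k A) :=
      Submodule.finite_sup _ _
    have h1 : (1 : A) ∈ Na (k := k) a ⊔ Na (k := k) b := Submodule.mem_sup_left (one_mem_Na a)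
    have ha : a ∈ Na (k := k) a ⊔ Na (k := k) b := Submodule.mem_sup_left (self_mem_Na a)
    have hb : b ∈ Na (k := k) a ⊔ Na (k := k) b := Submodule.mem_sup_right (self_mem_Na b)
    obtain ⟨α', hα'⟩ := exists_isPI hC _ hN' h1
    rw [helper (a + b) _ hN' h1 (Submodule.add_mem _ ha hb) α' hα', helper a _ hN' h1 ha α' hα',
      helper b _ hN' h1 hb α' hα', map_add]
  have hsmul : ∀ (t : k) (a : A), αf (t • a) (t • a) = t • αf a a := by
    intro t a
    rw [helper (t • a) _ (isSubcomod_Na a) (one_mem_Na a)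
      (Submodule.smul_mem _ t (self_mem_Na a)) (αf a) (hαf a), map_smul]
  let α : A →ₗ[k] k := IsLinearMap.mk' (fun a => αf a a) ⟨hadd, hsmul⟩
  have hαdef : ∀ a, α a = αf a a := fun a => rfl
  have hα1 : α 1 = 1 := (hαf 1).1
  have hαact : ∀ (ψ : A →ₗ[k] k) (a : A), α (act ψ a) = ψ 1 * α a := by
    intro ψ a
    have hmem : act ψ a ∈ Na (k := k) a :=
      act_mem_of_isSubcomod _ (isSubcomod_Na a) ψ (self_mem_Na a)
    rw [hαdef, hαdef, helper (act ψ a) _ (isSubcomod_Na a) (one_mem_Na a) hmem (αf a) (hαf a)]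
    exact (hαf a).2 ψ a (self_mem_Na a)
  have hint : ∀ a : A, Theta k A α (CoalgebraStruct.comul (R := k) a) = α a • (1 : A) := by
    intro a
    rw [← sub_eq_zero, ← Module.forall_dual_apply_eq_zero_iff k]
    intro ψ
    rw [map_sub, sub_eq_zero, map_smul, smul_eq_mul]
    have h := hαact ψ a
    rw [act_apply, apply_ev_eq] at h
    rw [mul_comm]
    exact h
  intro V _ _ _ _
  exact isSemisimpleComod_of_integral k A α V hint hα1

end Criterion

section Hoch1

variable (k : Type u) [Field k] (A : Type v) [CommRing A] [HopfAlgebra k A]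

theorem isSubcomod_ker_of_tensor {V : Type w} [AddCommGroup V] [Module k V] [HopfRep.Comod k A V]
    (π : V →ₗ[k] k)
    (h : π.rTensor A ∘ₗ HopfRep.Comod.coact (k := k) (A := A) (V := V) =
      (TensorProduct.mk k k A).flip (1 : A) ∘ₗ π) :
    HopfRep.IsSubcomod (k := k) (A := A) (LinearMap.ker π) := by
  intro v hv
  rw [← ker_rTensor_eq_range, LinearMap.mem_ker]
  have h1 : π.rTensor A (HopfRep.Comod.coact (k := k) (A := A) v) = π v ⊗ₜ[k] (1 : A) :=
    LinearMap.congr_fun h v
  rw [h1, LinearMap.mem_ker.mp hv, TensorProduct.zero_tmul]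

theorem assoc_symm_lTensor_flip (M : Type w) [AddCommGroup M] [Module k M] (x : M ⊗[k] A) :
    (TensorProduct.assoc k M A A).symm (((TensorProduct.mk k A A).flip (1 : A)).lTensor M x) =
      x ⊗ₜ[k] (1 : A) := by
  induction x using TensorProduct.induction_on with
  | zero => simp
  | add x y hx hy => simp only [map_add, hx, hy, TensorProduct.add_tmul]
  | tmul m a =>
    rw [LinearMap.lTensor_tmul, LinearMap.flip_apply, TensorProduct.mk_apply,
      TensorProduct.assoc_symm_tmul]

theorem assoc_symm_lTensor_mk (M : Type w) [AddCommGroup M] [Module k M] (x : M ⊗[k] A) :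
    (TensorProduct.assoc k M A A).symm ((TensorProduct.mk k A A (1 : A)).lTensor M x) =
      ((TensorProduct.mk k M A).flip (1 : A)).rTensor A x := by
  induction x using TensorProduct.induction_on with
  | zero => simp
  | add x y hx hy => simp only [map_add, hx, hy]
  | tmul m a =>
    rw [LinearMap.lTensor_tmul, TensorProduct.mk_apply, TensorProduct.assoc_symm_tmul,
      LinearMap.rTensor_tmul, LinearMap.flip_apply, TensorProduct.mk_apply]

theorem tail_eq (M : Type v) [AddCommGroup M] [Module k M] (x : M ⊗[k] A) :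
    Hoch.tail k A M x =
      (TensorProduct.assoc k M A A).symm
          ((CoalgebraStruct.comul (R := k) (A := A)).lTensor M x) - x ⊗ₜ[k] (1 : A) -
        ((TensorProduct.mk k M A).flip (1 : A)).rTensor A x := by
  show (TensorProduct.assoc k M A A).symm ((Hoch.redComul k A).lTensor M x) = _
  have h : Hoch.redComul k A = CoalgebraStruct.comul (R := k) (A := A) -
      (TensorProduct.mk k A A).flip (1 : A) - TensorProduct.mk k A A (1 : A) := rfl
  rw [h, LinearMap.lTensor_sub, LinearMap.lTensor_sub, LinearMap.sub_apply, LinearMap.sub_apply,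
    map_sub, map_sub, assoc_symm_lTensor_flip, assoc_symm_lTensor_mk]

omit [CommRing A] [HopfAlgebra k A] in
theorem add_neg_one_smul {M : Type w} [AddCommGroup M] [Module k M] (a b : M) :
    a + (-1 : k) • b = a - b := by
  rw [neg_one_smul, sub_eq_add_neg]

variable (V : Type v) [AddCommGroup V] [Module k V] [HopfRep.Comod k A V]

/-- the usual formula for the first differential -/
theorem d_one_eq (x : V ⊗[k] A) :
    Hoch.d k A V 1 x =
      (HopfRep.Comod.coact (k := k) (A := A) (V := V)).rTensor A x -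
        (TensorProduct.assoc k V A A).symm
          ((CoalgebraStruct.comul (R := k) (A := A)).lTensor V x) + x ⊗ₜ[k] (1 : A) := by
  have hd : @Eq ((V ⊗[k] A) ⊗[k] A) (Hoch.d k A V 1 x)
      ((HopfRep.Comod.coact (k := k) (A := A) (V := V) -
        (TensorProduct.mk k V A).flip (1 : A) : V →ₗ[k] V ⊗[k] A).rTensor A x +
          ((-1 : k) ^ (0 + 1)) • Hoch.tail k A V x) := rfl
  have hs : ((-1 : k) ^ (0 + 1)) = -1 := by norm_num
  have hd2 : @Eq ((V ⊗[k] A) ⊗[k] A) (Hoch.d k A V 1 x)
      ((HopfRep.Comod.coact (k := k) (A := A) (V := V) -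
        (TensorProduct.mk k V A).flip (1 : A) : V →ₗ[k] V ⊗[k] A).rTensor A x -
          Hoch.tail k A V x) := by
    rw [hd, hs]
    exact add_neg_one_smul k _ _
  rw [hd2, tail_eq, LinearMap.rTensor_sub, LinearMap.sub_apply]
  abel

theorem d_one_d_zero (v : V) : Hoch.d k A V 1 (Hoch.d k A V 0 v) = 0 := by
  rw [d_one_eq, Hoch.d_zero_apply, map_sub, map_sub, map_sub, LinearMap.rTensor_tmul,
    LinearMap.lTensor_tmul, Bialgebra.comul_one, Algebra.TensorProduct.one_def,
    TensorProduct.assoc_symm_tmul, coassoc_apply k A V v, TensorProduct.sub_tmul]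
  abel

variable {V}

theorem d_one_natural {W : Type v} [AddCommGroup W] [Module k W] [HopfRep.Comod k A W]
    (f : W →ₗ[k] V)
    (hf : ∀ w : W, f.rTensor A (HopfRep.Comod.coact (k := k) (A := A) w) =
      HopfRep.Comod.coact (k := k) (A := A) (f w)) (x : W ⊗[k] A) :
    (f.rTensor A).rTensor A (Hoch.d k A W 1 x) = Hoch.d k A V 1 (f.rTensor A x) := by
  rw [d_one_eq, d_one_eq, map_add, map_sub, LinearMap.rTensor_tmul]
  have h1 : (f.rTensor A).rTensor A
      ((HopfRep.Comod.coact (k := k) (A := A) (V := W)).rTensor A x) =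
      (HopfRep.Comod.coact (k := k) (A := A) (V := V)).rTensor A (f.rTensor A x) := by
    induction x using TensorProduct.induction_on with
    | zero => simp
    | add x y hx hy => simp only [map_add, hx, hy]
    | tmul w a => rw [LinearMap.rTensor_tmul, LinearMap.rTensor_tmul, LinearMap.rTensor_tmul,
        LinearMap.rTensor_tmul, hf]
  have h2 : (f.rTensor A).rTensor A ((TensorProduct.assoc k W A A).symm
      ((CoalgebraStruct.comul (R := k) (A := A)).lTensor W x)) =
      (TensorProduct.assoc k V A A).symm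
        ((CoalgebraStruct.comul (R := k) (A := A)).lTensor V (f.rTensor A x)) := by
    rw [LinearEquiv.eq_symm_apply, ComodTens.assoc_rTensor_rTensor, LinearEquiv.apply_symm_apply,
      ComodTens.lTensor_rTensor_comm]
  rw [h1, h2]

/-- vanishing of `H¹` of finite-dimensional comodules gives the criterion -/
theorem crit_of_H1
    (hH : ∀ (V : Type v) [AddCommGroup V] [Module k V] [HopfRep.Comod k A V], Module.Finite k V →
      Hoch.cocycles k A V 1 ≤ Hoch.coboundaries k A V 1) : Crit k A := by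
  intro V _ _ c hfin π hsurj hπ
  have hK : HopfRep.IsSubcomod (k := k) (A := A) (LinearMap.ker π) :=
    isSubcomod_ker_of_tensor k A π hπ
  letI cK : HopfRep.Comod k A (LinearMap.ker π) := ComodSub.Comod.restr c (LinearMap.ker π) hK
  obtain ⟨v₁, hv₁⟩ := hsurj 1
  have hπv : ∀ v, π.rTensor A (c.coact v) = π v ⊗ₜ[k] (1 : A) := fun v => LinearMap.congr_fun hπ v
  have hnat : ∀ w : LinearMap.ker π, (LinearMap.ker π).subtype.rTensor A (cK.coact w) =
      c.coact ((LinearMap.ker π).subtype w) := fun w => ComodSub.restr_coact_coe c _ hK w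
  have hz : Hoch.d k A V 0 v₁ ∈ LinearMap.range ((LinearMap.ker π).subtype.rTensor A) := by
    rw [← ker_rTensor_eq_range, LinearMap.mem_ker, Hoch.d_zero_apply, map_sub, hπv,
      LinearMap.rTensor_tmul, sub_self]
  obtain ⟨z', hz'⟩ := hz
  have hcoc : z' ∈ Hoch.cocycles k A (LinearMap.ker π) 1 := by
    show Hoch.d k A (LinearMap.ker π) 1 z' = 0
    have hinj : Function.Injective (((LinearMap.ker π).subtype.rTensor A).rTensor A) :=
      Module.Flat.rTensor_preserves_injective_linearMap _
        (ComodSub.rTensor_subtype_injective (A := A) (LinearMap.ker π))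
    apply hinj
    rw [map_zero, d_one_natural k A (LinearMap.ker π).subtype hnat, hz', d_one_d_zero]
  haveI : Module.Finite k (LinearMap.ker π) := inferInstance
  have hcb : z' ∈ LinearMap.range (Hoch.d k A (LinearMap.ker π) 0) :=
    hH (LinearMap.ker π) inferInstance hcoc
  obtain ⟨u, hu⟩ := hcb
  have h1 : Hoch.d k A V 0 (u : V) = Hoch.d k A V 0 v₁ := by
    rw [← hz', ← hu, Hoch.d_zero_apply, Hoch.d_zero_apply, map_sub, LinearMap.rTensor_tmul]
    rw [hnat]
    rfl
  refine ⟨v₁ - u, ?_, ?_⟩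
  · show c.coact (v₁ - (u : V)) = (v₁ - (u : V)) ⊗ₜ[k] (1 : A)
    rw [Hoch.d_zero_apply, Hoch.d_zero_apply] at h1
    rw [map_sub, TensorProduct.sub_tmul, sub_eq_sub_iff_sub_eq_sub]
    exact h1.symm
  · rw [map_sub, hv₁, LinearMap.mem_ker.mp u.2, sub_zero]
    exact one_ne_zero

/-- complements of codimension-one subcomodules give the criterion -/
theorem crit_of_compl
    (h : ∀ (V : Type v) [AddCommGroup V] [Module k V] [HopfRep.Comod k A V], Module.Finite k V →
      ∀ W : Submodule k V, HopfRep.IsSubcomod (k := k) (A := A) W →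
        Module.finrank k V = Module.finrank k ↥W + 1 →
        ∃ W' : Submodule k V, HopfRep.IsSubcomod (k := k) (A := A) W' ∧ IsCompl W W') :
    Crit k A := by
  intro V _ _ c hfin π hsurj hπ
  have hK : HopfRep.IsSubcomod (k := k) (A := A) (LinearMap.ker π) :=
    isSubcomod_ker_of_tensor k A π hπ
  have hrank : Module.finrank k V = Module.finrank k (LinearMap.ker π) + 1 := by
    have h1 := LinearMap.finrank_range_add_finrank_ker π
    rw [LinearMap.range_eq_top.mpr hsurj, finrank_top, Module.finrank_self] at h1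
    omega
  obtain ⟨W', hW', hcompl⟩ := h V hfin _ hK hrank
  obtain ⟨v₁, hv₁⟩ := hsurj 1
  have hmem : v₁ ∈ LinearMap.ker π ⊔ W' := by
    rw [hcompl.sup_eq_top]; exact Submodule.mem_top
  obtain ⟨a, ha, b, hb, hab⟩ := Submodule.mem_sup.mp hmem
  have hπb : π b = 1 := by
    have h2 : π v₁ = π a + π b := by rw [← hab, map_add]
    rw [hv₁, LinearMap.mem_ker.mp ha, zero_add] at h2
    exact h2.symm
  have hact : ∀ ψ : A →ₗ[k] k, act ψ b = ψ 1 • b := by
    intro ψ
    have h1 : act ψ b - ψ 1 • b ∈ W' :=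
      Submodule.sub_mem _ (act_mem_of_isSubcomod W' hW' ψ hb) (Submodule.smul_mem _ _ hb)
    have h2 : act ψ b - ψ 1 • b ∈ LinearMap.ker π := by
      rw [LinearMap.mem_ker, map_sub, eqFun_of_tensor k A π hπ ψ b, map_smul, smul_eq_mul,
        sub_self]
    have h3 : act ψ b - ψ 1 • b ∈ LinearMap.ker π ⊓ W' := ⟨h2, h1⟩
    rw [hcompl.inf_eq_bot, Submodule.mem_bot] at h3
    exact sub_eq_zero.mp h3
  refine ⟨b, ?_, by rw [hπb]; exact one_ne_zero⟩
  show c.coact b = b ⊗ₜ[k] (1 : A)
  rw [← sub_eq_zero]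
  apply eq_zero_of_forall_ev
  intro ψ
  rw [map_sub, ev_tmul, sub_eq_zero]
  exact hact ψ

/-- exactness of invariants gives the criterion -/
theorem crit_of_exact
    (h : ∀ (V W : Type v) [AddCommGroup V] [Module k V] [HopfRep.Comod k A V]
        [AddCommGroup W] [Module k W] [HopfRep.Comod k A W] (φ : V →ₗ[k] W),
        LinearMap.rTensor A φ ∘ₗ HopfRep.Comod.coact (k := k) (A := A) (V := V) =
            HopfRep.Comod.coact (k := k) (A := A) (V := W) ∘ₗ φ →
          Function.Surjective φ →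
            ∀ w ∈ HopfRep.fixedPts k A W, ∃ v ∈ HopfRep.fixedPts k A V, φ v = w) :
    Crit k A := by
  intro V _ _ c hfin π hsurj hπ
  haveI : Nontrivial A := nontrivial_of_hopf k A
  let W : Submodule k A := Submodule.span k {(1 : A)}
  let w₁ : W := ⟨1, Submodule.subset_span rfl⟩
  let ι : k →ₗ[k] W := LinearMap.toSpanSingleton k W w₁
  have hι : ∀ t : k, ι t = t • w₁ := fun t => rfl
  let φ : V →ₗ[k] W := ι ∘ₗ π
  have hφ : ∀ v, φ v = π v • w₁ := fun v => rfl
  have hπv : ∀ v, π.rTensor A (c.coact v) = π v ⊗ₜ[k] (1 : A) := fun v => LinearMap.congr_fun hπ v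
  have hw₁ : w₁ ≠ 0 := by
    intro h0
    have h00 : (1 : A) = 0 := congrArg Subtype.val h0
    exact one_ne_zero h00
  have hequiv : LinearMap.rTensor A φ ∘ₗ c.coact =
      (HopfRep.Comod.trivial k A W).coact ∘ₗ φ := by
    apply LinearMap.ext
    intro v
    show (ι ∘ₗ π).rTensor A (c.coact v) = φ v ⊗ₜ[k] (1 : A)
    rw [LinearMap.rTensor_comp_apply, hπv, LinearMap.rTensor_tmul, hι, hφ]
  have hφsurj : Function.Surjective φ := by
    rintro ⟨a, ha⟩
    obtain ⟨t, rfl⟩ := Submodule.mem_span_singleton.mp ha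
    obtain ⟨v, hv⟩ := hsurj t
    refine ⟨v, ?_⟩
    rw [hφ, hv]
    rfl
  have hfix : w₁ ∈ @HopfRep.fixedPts k A _ _ _ W _ _ (HopfRep.Comod.trivial k A W) := by
    show (HopfRep.Comod.trivial k A W).coact w₁ = w₁ ⊗ₜ[k] (1 : A)
    rfl
  obtain ⟨v, hvfix, hv⟩ := @h V W _ _ c _ _ (HopfRep.Comod.trivial k A W) φ hequiv hφsurj w₁ hfix
  refine ⟨v, hvfix, ?_⟩
  intro h0
  rw [hφ, h0, zero_smul] at hv
  exact hw₁ hv.symm

end Hoch1

end Groth.Agent.Lib.DualComod_helper9
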