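import Mathlib
import Groth.Prelude

set_option autoImplicit false
set_option linter.style.haveILetI false
set_option linter.unusedVariables false

universe u

open CategoryTheory AlgebraicGeometry Limits

namespace Groth.Agent.Lib.DualEpiH4

section alg

variable (B : Type u) [CommRing B]
  (ψ : DualNumber B →+* DualNumber (DualNumber B))
  (hψB : ∀ b : B, ψ (algebraMap B (DualNumber B) b) = algebraMap B (DualNumber (DualNumber B)) b)
  (hψ : ψ DualNumber.eps =
    algebraMap (DualNumber B) (DualNumber (DualNumber B)) DualNumber.eps * DualNumber.eps)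

include hψB hψ in
theorem psi_formula (x : DualNumber B) :
    ψ x = TrivSqZeroExt.inl (TrivSqZeroExt.inl x.fst) +
      TrivSqZeroExt.inr (TrivSqZeroExt.inr x.snd) := by
  have hx : x = algebraMap B (DualNumber B) x.fst
      + algebraMap B (DualNumber B) x.snd * DualNumber.eps := by
    apply TrivSqZeroExt.ext <;> simp [TrivSqZeroExt.algebraMap_eq_inl]
  conv_lhs => rw [hx]
  rw [map_add, map_mul, hψB, hψB, hψ]
  apply TrivSqZeroExt.ext
  · apply TrivSqZeroExt.ext <;>
      simp [TrivSqZeroExt.algebraMap_eq_inl, TrivSqZeroExt.algebraMap_eq_inl']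
  · apply TrivSqZeroExt.ext <;>
      simp [TrivSqZeroExt.algebraMap_eq_inl, TrivSqZeroExt.algebraMap_eq_inl']

include hψB hψ in
theorem psi_injective : Function.Injective ψ := by
  intro x y hxy
  rw [psi_formula B ψ hψB hψ x, psi_formula B ψ hψB hψ y] at hxy
  have h1 := congrArg (fun t => t.fst.fst) hxy
  have h2 := congrArg (fun t => t.snd.snd) hxy
  simp at h1 h2
  exact TrivSqZeroExt.ext h1 h2

/-- projection to `B` -/
def pi' : DualNumber (DualNumber B) →+* B :=
  ((TrivSqZeroExt.fstHom B B B : DualNumber B →ₐ[B] B) : DualNumber B →+* B).comp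
    ((TrivSqZeroExt.fstHom (DualNumber B) (DualNumber B) (DualNumber B) :
      DualNumber (DualNumber B) →ₐ[DualNumber B] DualNumber B) :
      DualNumber (DualNumber B) →+* DualNumber B)

include hψB hψ in
theorem pi'_comp : (pi' B).comp ψ =
    ((TrivSqZeroExt.fstHom B B B : DualNumber B →ₐ[B] B) : DualNumber B →+* B) := by
  refine RingHom.ext fun x => ?_
  rw [RingHom.comp_apply, psi_formula B ψ hψB hψ x]
  simp [pi']

theorem comap_pi_surjective : Function.Surjective (PrimeSpectrum.comap
    ((TrivSqZeroExt.fstHom B B B : DualNumber B →ₐ[B] B) : DualNumber B →+* B)) := by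
  apply (PrimeSpectrum.isHomeomorph_comap _ ?_ ?_).surjective
  · intro b
    refine ⟨1, one_pos, ?_⟩
    rw [pow_one]
    exact ⟨TrivSqZeroExt.inl b, by simp⟩
  · intro x hx
    rw [RingHom.mem_ker] at hx
    rw [mem_nilradical]
    refine ⟨2, ?_⟩
    have h0 : x.fst = 0 := by simpa using hx
    apply TrivSqZeroExt.ext
    · simp [pow_two, h0]
    · simp [pow_two, h0]

include hψB hψ in
theorem comap_psi_surjective : Function.Surjective
    (PrimeSpectrum.comap (R := DualNumber B) (S := DualNumber (DualNumber B)) ψ) := by
  intro x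
  obtain ⟨y, hy⟩ := comap_pi_surjective B x
  refine ⟨PrimeSpectrum.comap (pi' B) y, ?_⟩
  rw [← hy, ← pi'_comp B ψ hψB hψ]
  rfl

end alg

theorem main (B : Type u) [CommRing B]
    (ψ : DualNumber B →+* DualNumber (DualNumber B))
    (hψB : ∀ b : B, ψ (algebraMap B (DualNumber B) b) = algebraMap B (DualNumber (DualNumber B)) b)
    (hψ : ψ DualNumber.eps =
      algebraMap (DualNumber B) (DualNumber (DualNumber B)) DualNumber.eps * DualNumber.eps)
    (G : Scheme.{u}) :
    Function.Injective (fun u : Spec (CommRingCat.of (DualNumber B)) ⟶ G =>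
      Spec.map (CommRingCat.ofHom (R := DualNumber B) (S := DualNumber (DualNumber B)) ψ) ≫ u) := by
  intro u u' h
  have h' : Spec.map (CommRingCat.ofHom (R := DualNumber B) (S := DualNumber (DualNumber B)) ψ) ≫ u
      = Spec.map (CommRingCat.ofHom (R := DualNumber B) (S := DualNumber (DualNumber B)) ψ) ≫ u' := h
  have hψinj : Function.Injective ψ := psi_injective B ψ hψB hψ
  have hcomap : Function.Surjective
      (PrimeSpectrum.comap (R := DualNumber B) (S := DualNumber (DualNumber B)) ψ) :=
    comap_psi_surjective B ψ hψB hψ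
  set s := Spec.map (CommRingCat.ofHom (R := DualNumber B) (S := DualNumber (DualNumber B)) ψ)
    with hs
  have hssurj : Function.Surjective s := by
    intro x
    obtain ⟨y, hy⟩ := hcomap x
    exact ⟨y, hy⟩
  have hji : equalizer.lift s h' ≫ equalizer.ι u u' = s := equalizer.lift_ι _ _
  have hisurj : Function.Surjective (equalizer.ι u u') := by
    intro x
    obtain ⟨y, hy⟩ := hssurj x
    refine ⟨equalizer.lift s h' y, ?_⟩
    rw [← Scheme.Hom.comp_apply, hji, hy]
  haveI : IsClosedImmersion (equalizer.ι u u') :=
    IsClosedImmersion.of_isPreimmersion _ (by rw [hisurj.range_eq]; exact isClosed_univ)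
  have h2 : Function.Injective s.appTop := by
    intro a b hab
    have h3 := Scheme.ΓSpecIso_naturality
      (CommRingCat.ofHom (R := DualNumber B) (S := DualNumber (DualNumber B)) ψ)
    have ha := ConcreteCategory.congr_hom h3 a
    have hb := ConcreteCategory.congr_hom h3 b
    rw [CommRingCat.comp_apply, CommRingCat.comp_apply] at ha hb
    have h4 : (CommRingCat.ofHom (R := DualNumber B) (S := DualNumber (DualNumber B)) ψ)
        ((Scheme.ΓSpecIso (CommRingCat.of (DualNumber B))).hom a) =
        (CommRingCat.ofHom (R := DualNumber B) (S := DualNumber (DualNumber B)) ψ)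
        ((Scheme.ΓSpecIso (CommRingCat.of (DualNumber B))).hom b) := by
      rw [← ha, ← hb, hab]
    have h5 := hψinj h4
    exact (ConcreteCategory.bijective_of_isIso
      (Scheme.ΓSpecIso (CommRingCat.of (DualNumber B))).hom).1 h5
  have hinj : Function.Injective (equalizer.ι u u').appTop := by
    intro a b hab
    apply h2
    have h1 : s.appTop = (equalizer.ι u u').appTop ≫ (equalizer.lift s h').appTop := by
      rw [← Scheme.Hom.comp_appTop, hji]
    rw [h1, CommRingCat.comp_apply, CommRingCat.comp_apply, hab]
  haveI : IsIso (equalizer.ι u u') := IsClosedImmersion.isIso_of_injective_of_isAffine hinj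
  exact (cancel_epi (equalizer.ι u u')).mp (equalizer.condition u u')

end Groth.Agent.Lib.DualEpiH4
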