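import Mathlib
import Groth.Prelude
import Groth.Agent.Lib.ExtDepth1_helper2
import Groth.Agent.Lib.CohDev11_helper8
import Groth.Agent.Lib.Snap24_helper9

/-!
# Depth of stalks along a closed subset and vanishing of local Ext sheaves, II (helper2)
APPEND-ONLY once landed.
-/

set_option autoImplicit false
open AlgebraicGeometry CategoryTheory CategoryTheory.Limits TopologicalSpace Opposite Abelian

universe u

namespace Groth.Agent.Lib.ExtDepthH2

open Groth.Agent.DepthLib RingTheory.Sequence

variable {X : Scheme.{u}}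

attribute [local instance] Groth.Agent.Lib.RelExtSchH2.hsh Groth.Agent.Lib.ExtShCohH2.hir

theorem fromSpec_mem' {U : X.Opens} (hU : IsAffineOpen U) (q : PrimeSpectrum Γ(X, U)) :
    hU.fromSpec q ∈ U := by
  rw [← SetLike.mem_coe, ← hU.range_fromSpec]; exact Set.mem_range_self q

theorem primeIdealOf_fromSpec' {U : X.Opens} (hU : IsAffineOpen U) (q : PrimeSpectrum Γ(X, U)) :
    hU.primeIdealOf ⟨hU.fromSpec q, fromSpec_mem' hU q⟩ = q := by
  apply hU.fromSpec.isOpenEmbedding.injective
  exact hU.fromSpec_primeIdealOf ⟨_, fromSpec_mem' hU q⟩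

variable [IsLocallyNoetherian X]

/-- a coherent module all of whose modules of sections over affine opens vanish is zero -/
theorem isZero_of_subsingleton_sections (E : X.Modules) (hE : Coh.IsCoh E)
    (h : ∀ V : X.Opens, IsAffineOpen V → Subsingleton Γ(E, V)) : IsZero E := by
  apply CohDevH8.isZero_of_support_eq_empty
  rw [Set.eq_empty_iff_forall_notMem]
  intro x hx
  obtain ⟨V₀, hV₀, hxV₀, -⟩ := (Opens.isBasis_iff_nbhd.mp X.isBasis_affineOpens)
    (show x ∈ (⊤ : X.Opens) from trivial)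
  obtain ⟨V, hV, hxV⟩ : ∃ V : X.Opens, IsAffineOpen V ∧ x ∈ V := ⟨V₀, hV₀, hxV₀⟩
  have h1 := (mem_support_iff_annihilator_le E hE hV hxV).1 hx
  haveI := h V hV
  have h2 : (1 : Γ(X, V)) ∈ Module.annihilator Γ(X, V) Γ(E, V) :=
    Module.mem_annihilator.2 (fun m => Subsingleton.elim _ _)
  exact (hV.primeIdealOf ⟨x, hxV⟩).isPrime.ne_top ((Ideal.eq_top_iff_one _).2 (h1 h2))

/-- **vanishing of local Ext sheaves from depth along the support** -/
theorem isZero_extSh_of_le_depth_stalk (F G : X.Modules) (hF : Coh.IsCoh F) (hG : Coh.IsCoh G)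
    (n : ℕ)
    (hd : ∀ x ∈ CohB1.support G, (n : ℕ∞) ≤ LocCoh.depth (X.presheaf.stalk x) (F.presheaf.stalk x))
    (i : ℕ) (hi : i < n) : IsZero ((ModSite.extSh (O := X.sheaf) G i).obj F) := by
  apply isZero_of_subsingleton_sections _ (Groth.Agent.Lib.ExtShCohH2.isCoh_extSh i X G F hG hF)
  intro V hV
  haveI : F.IsQuasicoherent := hF.1
  haveI : SheafOfModules.IsFiniteType (R := X.ringCatSheaf) F := hF.2
  haveI : G.IsQuasicoherent := hG.1
  haveI : SheafOfModules.IsFiniteType (R := X.ringCatSheaf) G := hG.2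
  haveI : IsNoetherianRing Γ(X, V) := IsLocallyNoetherian.component_noetherian ⟨V, hV⟩
  haveI : Module.Finite Γ(X, V) Γ(F, V) := QCohFT.finite_of_isFiniteType F hV
  haveI : Module.Finite Γ(X, V) Γ(G, V) := QCohFT.finite_of_isFiniteType G hV
  obtain ⟨e⟩ := Groth.Agent.Lib.ExtSecAffH2.main hV G F i
  have hdep : (n : ℕ∞) ≤ LocCoh.idealDepth (Module.annihilator Γ(X, V) Γ(G, V)) Γ(F, V) := by
    apply le_idealDepth_of_forall_localization (Module.annihilator Γ(X, V) Γ(G, V)) n Γ(F, V)
    intro p hp hIp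
    let q : PrimeSpectrum Γ(X, V) := ⟨p, hp⟩
    have hxV : hV.fromSpec q ∈ V := fromSpec_mem' hV q
    have hq : hV.primeIdealOf ⟨hV.fromSpec q, hxV⟩ = q := primeIdealOf_fromSpec' hV q
    have hsupp : hV.fromSpec q ∈ CohB1.support G := by
      rw [mem_support_iff_annihilator_le G hG hV hxV, hq]
      exact hIp
    have h1 := hd _ hsupp
    rw [Groth.Agent.Lib.DepthAlongOpen.depth_stalk_eq F hF hV hxV, hq] at h1
    exact h1
  haveI : Subsingleton (Ext (ModuleCat.of Γ(X, V) Γ(G, V)) (ModuleCat.of Γ(X, V) Γ(F, V)) i) :=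
    ext_subsingleton_of_le_idealDepth_ann Γ(F, V) Γ(G, V) n hdep i hi
  exact e.toEquiv.subsingleton

omit [IsLocallyNoetherian X] in
/-- a coherent module with prescribed closed support -/
theorem exists_isCoh_support_eq (Z : Closeds X) :
    ∃ G : X.Modules, Coh.IsCoh G ∧ CohB1.support G = (Z : Set X) := by
  let I := Scheme.IdealSheafData.vanishingIdeal Z
  refine ⟨(Scheme.Modules.pushforward I.subschemeι).obj (Coh.structureModule I.subscheme),
    CohDevH8.isCoh_pushforward_of_isFinite I.subschemeι (CohDevH8.isCoh_structureModule _), ?_⟩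
  rw [Snap9.support_pushforward_eq, CohDevH8.support_structureModule, Set.image_univ,
    Scheme.IdealSheafData.range_subschemeι]
  exact Scheme.IdealSheafData.coe_support_vanishingIdeal Z

end Groth.Agent.Lib.ExtDepthH2
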