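import Mathlib
import Groth.Prelude
import Groth.Agent.Lib.ExtDepth2_helper2
import Groth.Agent.Lib.AmpleK1_helper6
import Groth.Agent.Lib.ExtTop_helper5
import Groth.Agent.Lib.DepthHom_helper5

/-!
# Vanishing of local Ext sheaves into finite locally free modules below the codimension (helper2)
APPEND-ONLY once landed.
-/

set_option autoImplicit false
open AlgebraicGeometry CategoryTheory CategoryTheory.Limits TopologicalSpace Opposite Abelian

universe u

namespace Groth.Agent.Lib.ExtDepthH2

open Groth.Agent.DepthLib RingTheory.Sequence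

/-- depth of a finite free module over a Noetherian local ring is at least the depth of the ring -/
theorem le_depth_of_free (R : Type u) [CommRing R] [IsLocalRing R] [IsNoetherianRing R]
    (M : Type u) [AddCommGroup M] [Module R M] [Module.Free R M] [Module.Finite R M] (n : ℕ)
    (h : (n : ℕ∞) ≤ LocCoh.depth R R) : (n : ℕ∞) ≤ LocCoh.depth R M := by
  unfold LocCoh.depth at h ⊢
  have e : M ≃ₗ[R] (Fin (Module.finrank R M) → R) := (Module.finBasis R M).equivFun
  rw [idealDepth_congr _ _ e]
  exact le_idealDepth_pi _ R n h _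

/-- a regular local ring of dimension at least `n` has depth at least `n` -/
theorem le_depth_of_regular (R : Type u) [CommRing R] [IsRegularLocalRing R] (n : ℕ)
    (h : (n : WithBot ℕ∞) ≤ ringKrullDim R) : (n : ℕ∞) ≤ LocCoh.depth R R := by
  have hfin : ringKrullDim R < ⊤ := ringKrullDim_lt_top
  have hbot : ringKrullDim R ≠ ⊥ := ringKrullDim_ne_bot
  obtain ⟨d, hd⟩ : ∃ d : ℕ, ringKrullDim R = d := by
    obtain ⟨d', hd'⟩ := WithBot.ne_bot_iff_exists.1 hbot
    have : d' ≠ ⊤ := by
      rintro rfl
      rw [← hd'] at hfin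
      exact lt_irrefl _ hfin
    obtain ⟨d, rfl⟩ := ENat.ne_top_iff_exists.1 this
    exact ⟨d, hd'.symm⟩
  have h1 := Groth.Agent.ExtTop.regular_depth R d hd
  unfold LocCoh.depth
  rw [h1]
  rw [hd] at h
  have : (n : ℕ∞) ≤ (d : ℕ∞) := by exact_mod_cast h
  exact this

variable {X : Scheme.{u}} [IsLocallyNoetherian X]

attribute [local instance] Groth.Agent.Lib.RelExtSchH2.hsh Groth.Agent.Lib.ExtShCohH2.hir

/-- the depth of the stalks of a finite locally free module -/
theorem le_depth_stalk_of_finLocFree (E : X.Modules) (hE : FlatMod.IsFinLocFree E) (x : X) (n : ℕ)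
    (h : (n : ℕ∞) ≤ LocCoh.depth (X.presheaf.stalk x) (X.presheaf.stalk x)) :
    (n : ℕ∞) ≤ LocCoh.depth (X.presheaf.stalk x) (E.presheaf.stalk x) := by
  have hcoh := Groth.Agent.Lib.AmpleK.isCoh_of_finLocFree' hE
  haveI : E.IsQuasicoherent := hcoh.1
  haveI : SheafOfModules.IsFiniteType (R := X.ringCatSheaf) E := hcoh.2
  haveI := FLFH8.free_stalk_of_finLocFree E hE x
  haveI := FLFH8.finite_stalk E x
  exact le_depth_of_free _ _ n h

/-- **vanishing of `𝓔xt^i(G, E)` for `E` finite locally free below the depth of the local rings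
along the support of `G`** -/
theorem isZero_extSh_of_finLocFree (E G : X.Modules) (hE : FlatMod.IsFinLocFree E)
    (hG : Coh.IsCoh G) (n : ℕ)
    (hd : ∀ x ∈ CohB1.support G,
      (n : ℕ∞) ≤ LocCoh.depth (X.presheaf.stalk x) (X.presheaf.stalk x))
    (i : ℕ) (hi : i < n) : IsZero ((ModSite.extSh (O := X.sheaf) G i).obj E) :=
  isZero_extSh_of_le_depth_stalk E G (Groth.Agent.Lib.AmpleK.isCoh_of_finLocFree' hE) hG n
    (fun x hx => le_depth_stalk_of_finLocFree E hE x n (hd x hx)) i hi

/-- **regular case**: `𝓔xt^i(G, E) = 0` for `i < n` when the local rings along the support of `G`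
are regular of dimension at least `n` -/
theorem isZero_extSh_of_finLocFree_of_regular (E G : X.Modules) (hE : FlatMod.IsFinLocFree E)
    (hG : Coh.IsCoh G) (n : ℕ)
    (hreg : ∀ x ∈ CohB1.support G, IsRegularLocalRing (X.presheaf.stalk x))
    (hdim : ∀ x ∈ CohB1.support G, (n : WithBot ℕ∞) ≤ ringKrullDim (X.presheaf.stalk x))
    (i : ℕ) (hi : i < n) : IsZero ((ModSite.extSh (O := X.sheaf) G i).obj E) :=
  isZero_extSh_of_finLocFree E G hE hG n
    (fun x hx => by
      haveI := hreg x hx
      exact le_depth_of_regular _ n (hdim x hx)) i hi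

end Groth.Agent.Lib.ExtDepthH2
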