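import Mathlib
import Groth.Prelude
import Groth.Agent.Lib.ExtDepth3_helper2
import Groth.Agent.Lib.IrrDim2_helper8
import Groth.Agent.Lib.ClosedDim_helper8
import Groth.Agent.Lib.ClosHt_helper8

/-!
# Codimension bounds for closed subschemes of equidimensional schemes of finite type over a field,
and vanishing of `𝓔xt^q(ι_* O_X, E)` below the codimension (helper2)
APPEND-ONLY once landed.
-/

set_option autoImplicit false
open AlgebraicGeometry CategoryTheory CategoryTheory.Limits TopologicalSpace Opposite Abelian

universe u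

namespace Groth.Agent.Lib.ExtDepthH2

/-- the height of a point of a scheme all of whose irreducible components have dimension `r` is at
most `r` -/
theorem height_le_of_pure (X : Scheme.{u}) (r : ℕ)
    (hX : ∀ Z : Set ↥X, Z ∈ irreducibleComponents ↥X → topologicalKrullDim ↥Z = (r : WithBot ℕ∞))
    (y : X) : Order.height y ≤ (r : ℕ∞) := by
  have hZ : irreducibleComponent y ∈ irreducibleComponents X :=
    irreducibleComponent_mem_irreducibleComponents y
  have hZirr : IsIrreducible (irreducibleComponent y) := isIrreducible_irreducibleComponent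
  have hZcl : IsClosed (irreducibleComponent y) := isClosed_irreducibleComponent
  set η := hZirr.genericPoint with hηdef
  have hη : closure ({η} : Set X) = irreducibleComponent y := by
    have h := hZirr.isGenericPoint_genericPoint_closure
    rw [hZcl.closure_eq] at h
    exact h
  have hyη : y ≤ η := by
    show η ⤳ y
    rw [specializes_iff_mem_closure, hη]
    exact mem_irreducibleComponent
  have hh3 : Order.height y ≤ Order.height η := Order.height_mono hyη
  have hh4 : topologicalKrullDim ↥(closure ({η} : Set X)) = Order.height η :=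
    Groth.Agent.ClosHtH8.topologicalKrullDim_closure_singleton X η
  have hh5 : topologicalKrullDim ↥(closure ({η} : Set X)) = (r : WithBot ℕ∞) := by
    rw [hη]
    exact hX _ hZ
  have h6 : ((Order.height η : ℕ∞) : WithBot ℕ∞) = ((r : ℕ∞) : WithBot ℕ∞) := by
    rw [← hh4, hh5]; rfl
  have h7 : Order.height η = (r : ℕ∞) := by exact_mod_cast h6
  rw [← h7]
  exact hh3

/-- **codimension bound**: `P` locally of finite type over a field and of pure dimension `n`,
`ι : X → P` a closed immersion with `X` of pure dimension `r`: the local rings of `P` at points of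
`X` have dimension at least `n - r`. -/
theorem le_ringKrullDim_stalk_of_closedImmersion (k : Type u) [Field k] (P X : Scheme.{u})
    [P.Over (Spec (CommRingCat.of k))] [LocallyOfFiniteType (P ↘ Spec (CommRingCat.of k))]
    (n r : ℕ)
    (hP : ∀ Z : Set ↥P, Z ∈ irreducibleComponents ↥P → topologicalKrullDim ↥Z = (n : WithBot ℕ∞))
    (ι : X ⟶ P) [IsClosedImmersion ι]
    (hX : ∀ Z : Set ↥X, Z ∈ irreducibleComponents ↥X → topologicalKrullDim ↥Z = (r : WithBot ℕ∞))
    (y : X) : ((n - r : ℕ) : WithBot ℕ∞) ≤ ringKrullDim (P.presheaf.stalk (ι y)) := by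
  obtain ⟨ξ, a, r', hξ, -, ha, hr', hdim⟩ := Groth.Agent.IrrDim2H8.irr_dim2 k P (ι y)
  obtain ⟨N, hN, hdimN⟩ := Groth.Agent.IrrDim2H8.dim_closure_eq_trdeg k P (ι y)
  have hrN : r' = N := by
    have : ((r' : ℕ) : Cardinal) = ((N : ℕ) : Cardinal) := by rw [← hr', hN]
    exact_mod_cast this
  have h1 : a + r' = n := by
    have h := hP _ hξ
    rw [hdim] at h
    exact_mod_cast h
  have h2 : N ≤ r := by
    have hh1 : topologicalKrullDim ↥(closure ({ι y} : Set P)) = Order.height (ι y) :=
      Groth.Agent.ClosHtH8.topologicalKrullDim_closure_singleton P (ι y)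
    have hh2 : Order.height (ι y) ≤ Order.height y :=
      ClosedDimH8.height_le_of_specializingMap ι
        ι.isClosedEmbedding.isClosedMap.specializingMap y
    have hh3 := height_le_of_pure X r hX y
    have h4 : ((N : ℕ∞) : WithBot ℕ∞) = ((Order.height (ι y) : ℕ∞) : WithBot ℕ∞) := by
      rw [← hh1, hdimN]; rfl
    have h5 : (N : ℕ∞) = Order.height (ι y) := by exact_mod_cast h4
    have h6 : (N : ℕ∞) ≤ (r : ℕ∞) := by
      rw [h5]; exact hh2.trans hh3
    exact_mod_cast h6
  rw [ha]
  have : n - r ≤ a := by omega
  exact_mod_cast this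

attribute [local instance] Groth.Agent.Lib.RelExtSchH2.hsh Groth.Agent.Lib.ExtShCohH2.hir

/-- **vanishing of `𝓔xt^q(ι_* O_X, E)` below the codimension**, `P` regular, locally of finite
type over a field, of pure dimension `n`; `X` closed of pure dimension `r`; `E` finite locally
free. -/
theorem isZero_extSh_closedImmersion_of_lt_codim (k : Type u) [Field k] (P X : Scheme.{u})
    [P.Over (Spec (CommRingCat.of k))] [LocallyOfFiniteType (P ↘ Spec (CommRingCat.of k))]
    [IsLocallyNoetherian P]
    (hreg : ∀ p : P, IsRegularLocalRing (P.presheaf.stalk p)) (n r : ℕ)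
    (hP : ∀ Z : Set ↥P, Z ∈ irreducibleComponents ↥P → topologicalKrullDim ↥Z = (n : WithBot ℕ∞))
    (ι : X ⟶ P) [IsClosedImmersion ι]
    (hX : ∀ Z : Set ↥X, Z ∈ irreducibleComponents ↥X → topologicalKrullDim ↥Z = (r : WithBot ℕ∞))
    (E : P.Modules) (hE : FlatMod.IsFinLocFree E) (q : ℕ) (hq : q < n - r) :
    IsZero ((ModSite.extSh (O := P.sheaf)
      ((Scheme.Modules.pushforward ι).obj (Coh.structureModule X)) q).obj E) := by
  have hG : Coh.IsCoh ((Scheme.Modules.pushforward ι).obj (Coh.structureModule X)) :=
    CohDevH8.isCoh_pushforward_of_isFinite ι (CohDevH8.isCoh_structureModule X)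
  refine isZero_extSh_of_finLocFree_of_regular E _ hE hG (n - r) (fun x _ => hreg x) ?_ q hq
  intro x hx
  rw [Snap9.support_pushforward_eq, CohDevH8.support_structureModule, Set.image_univ] at hx
  obtain ⟨y, rfl⟩ := hx
  exact le_ringKrullDim_stalk_of_closedImmersion k P X n r hP ι hX y

end Groth.Agent.Lib.ExtDepthH2
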