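import Mathlib
import Groth.Agent.Lib.DualGlob1_helper6

set_option autoImplicit false
set_option linter.style.haveILetI false
set_option linter.unusedSectionVars false
universe u
open CategoryTheory CategoryTheory.Limits DerivedCategory
attribute [local instance] HasDerivedCategory.standard

namespace Groth.Agent.Lib.DualGlobH6

open DRing Groth.Agent.Lib.DMod_helper6

variable {A : Type u} [CommRing A] [IsNoetherianRing A]

/-- no nonzero maps between different shifts of a dualizing complex -/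
lemma subsingleton_hom_shift (ω : Dual.D A) (hω : Dual.IsDualizing A ω) (n n' : ℤ) (h : n ≠ n') :
    Subsingleton (ω⟦n⟧ ⟶ ω⟦n'⟧) := by
  haveI := hω.ext_self_subsingleton (n' - n) (by omega)
  refine ⟨fun f g => ?_⟩
  let c : (ω⟦n⟧)⟦(-n)⟧ ≅ ω := shiftShiftIso ω n (-n) 0 (by omega) ≪≫
    (shiftFunctorZero (Dual.D A) ℤ).app ω
  let c' : (ω⟦n'⟧)⟦(-n)⟧ ≅ ω⟦(n' - n)⟧ := shiftShiftIso ω n' (-n) (n' - n) (by omega)
  apply (shiftFunctor (Dual.D A) (-n)).map_injective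
  rw [← cancel_epi c.inv, ← cancel_mono c'.hom]
  exact Subsingleton.elim _ _

/-- the shift in local comparison data is determined on overlaps -/
theorem shift_eq_of_mul_ne_zero (ω ω' : Dual.D A) (hω : Dual.IsDualizing A ω)
    (n n' : ℤ) (t t' : A) (e : ω⟦n⟧ ⟶ ω') (e' : ω' ⟶ ω⟦n⟧) (ε : ω⟦n'⟧ ⟶ ω') (ε' : ω' ⟶ ω⟦n'⟧)
    (h1 : e ≫ e' = t • 𝟙 (ω⟦n⟧)) (h2 : ε' ≫ ε = t' • 𝟙 ω') (htt : t * t' ≠ 0) : n = n' := by
  by_contra hne
  haveI := subsingleton_hom_shift ω hω n n' hne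
  have h0 : e ≫ ε' = 0 := Subsingleton.elim _ _
  have h3 : (t' * t) • 𝟙 (ω⟦n⟧) = 0 := by
    have : e ≫ (ε' ≫ ε) ≫ e' = (t' * t) • 𝟙 (ω⟦n⟧) := by
      rw [h2, Linear.smul_comp, Category.id_comp, Linear.comp_smul, h1, smul_smul]
    rw [← this, ← Category.assoc, ← Category.assoc, h0, zero_comp, zero_comp]
  have h4 : (t' * t) • 𝟙 ω = 0 := by
    apply (shiftFunctor (Dual.D A) n).map_injective
    rw [Functor.map_smul, CategoryTheory.Functor.map_id, Functor.map_zero]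
    exact h3
  have h5 : t' * t = 0 := by
    apply hω.toEnd_bijective.1
    show (t' * t) • 𝟙 ω = (0 : A) • 𝟙 ω
    rw [h4, zero_smul]
  exact htt (by rw [mul_comm]; exact h5)

/-- over a connected spectrum the shift is global -/
theorem exists_global_shift [ConnectedSpace (PrimeSpectrum A)] (ω ω' : Dual.D A)
    (hω : Dual.IsDualizing A ω) (hω' : Dual.IsDualizing A ω') :
    ∃ n : ℤ, ∀ (p : Ideal A) [p.IsPrime], ∃ (t : A) (e : ω⟦n⟧ ⟶ ω') (e' : ω' ⟶ ω⟦n⟧),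
      t ∉ p ∧ e' ≫ e = t • 𝟙 ω' ∧ e ≫ e' = t • 𝟙 (ω⟦n⟧) := by
  have hd : ∀ x : PrimeSpectrum A, ∃ (n : ℤ) (t : A) (e : ω⟦n⟧ ⟶ ω') (e' : ω' ⟶ ω⟦n⟧),
      t ∉ x.asIdeal ∧ e' ≫ e = t • 𝟙 ω' ∧ e ≫ e' = t • 𝟙 (ω⟦n⟧) := fun x =>
    exists_local_data ω ω' hω hω' x.asIdeal
  choose n t e e' ht h1 h2 using hd
  have hlc : IsLocallyConstant n := by
    rw [IsLocallyConstant.iff_exists_open]
    intro x
    refine ⟨PrimeSpectrum.basicOpen (t x), (PrimeSpectrum.basicOpen (t x)).2, ht x, fun y hy => ?_⟩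
    have hy' : t x ∉ y.asIdeal := hy
    have hne : t y * t x ≠ 0 := by
      intro h0
      have : t y * t x ∈ y.asIdeal := by rw [h0]; exact y.asIdeal.zero_mem
      rcases y.isPrime.mem_or_mem this with h | h
      · exact ht y h
      · exact hy' h
    exact shift_eq_of_mul_ne_zero ω ω' hω (n y) (n x) (t y) (t x) (e y) (e' y) (e x) (e' x)
      (h2 y) (h1 x) hne
  obtain ⟨x₀⟩ : Nonempty (PrimeSpectrum A) := inferInstance
  refine ⟨n x₀, fun p _ => ?_⟩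
  let x : PrimeSpectrum A := ⟨p, inferInstance⟩
  have hx : n x = n x₀ := hlc.apply_eq_of_preconnectedSpace x x₀
  have := hx ▸ (⟨t x, e x, e' x, ht x, h1 x, h2 x⟩ : ∃ (t : A) (e : ω⟦n x⟧ ⟶ ω') (e' : ω' ⟶ ω⟦n x⟧),
      t ∉ p ∧ e' ≫ e = t • 𝟙 ω' ∧ e ≫ e' = t • 𝟙 (ω⟦n x⟧))
  exact this

end Groth.Agent.Lib.DualGlobH6
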