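import Mathlib
import Groth.Prelude.Def_Disc

/-!
# `ω_{B/A} = Hom_A(B, A)` becomes free on `e` after inverting the Gram determinant of `e` (helper6)
APPEND-ONLY once landed.
-/

set_option autoImplicit false
universe u

namespace Groth.Agent.Lib.OmegaLocFreeH6

open Matrix

section PartA

variable {R : Type u} [CommRing R] (a : R) {M N M' N' : Type u}
  [AddCommGroup M] [Module R M] [AddCommGroup N] [Module R N]
  [AddCommGroup M'] [Module R M'] [AddCommGroup N'] [Module R N']
  (f : M →ₗ[R] M') [IsLocalizedModule (Submonoid.powers a) f]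
  (g : N →ₗ[R] N') [IsLocalizedModule (Submonoid.powers a) g]

/-- a linear map which is invertible up to multiplication by `a` becomes bijective after
inverting `a` -/
theorem map_bijective_of_mul (h : M →ₗ[R] N) (k : N → M) (hk : ∀ y, h (k y) = a • y)
    (kh : ∀ x, k (h x) = a • x) :
    Function.Bijective (IsLocalizedModule.map (Submonoid.powers a) f g h) := by
  constructor
  · rw [injective_iff_map_eq_zero]
    intro x hx
    obtain ⟨⟨m, s⟩, rfl⟩ := IsLocalizedModule.mk'_surjective (Submonoid.powers a) f x
    rw [Function.uncurry_apply_pair, IsLocalizedModule.map_mk',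
      IsLocalizedModule.mk'_eq_zero'] at hx
    obtain ⟨t, ht⟩ := hx
    rw [Function.uncurry_apply_pair, IsLocalizedModule.mk'_eq_zero']
    refine ⟨⟨a, Submonoid.mem_powers a⟩ * t, ?_⟩
    have h1 : h ((t : R) • m) = 0 := by rw [map_smul]; exact ht
    have h2 := kh ((t : R) • m)
    rw [h1] at h2
    have h3 : k 0 = 0 := by
      have := kh 0
      rwa [map_zero, smul_zero] at this
    rw [h3] at h2
    rw [mul_smul]
    exact h2.symm
  · intro y
    obtain ⟨⟨n, s⟩, rfl⟩ := IsLocalizedModule.mk'_surjective (Submonoid.powers a) g y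
    refine ⟨IsLocalizedModule.mk' f (k n) (⟨a, Submonoid.mem_powers a⟩ * s), ?_⟩
    rw [Function.uncurry_apply_pair, IsLocalizedModule.map_mk', hk]
    exact IsLocalizedModule.mk'_cancel_left g n ⟨a, Submonoid.mem_powers a⟩ s

end PartA

section PartB

variable {A B : Type u} [CommRing A] [CommRing B] [Algebra A B]
  {ι : Type*} [Fintype ι] [DecidableEq ι] (v : Module.Basis ι A B) (e : Disc.Omega A B)

/-- Gram matrix of the bilinear form `(x, y) ↦ e (x y)` -/
noncomputable def gram : Matrix ι ι A := Matrix.of fun i j => e.toLinearMap (v i * v j)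

omit [Fintype ι] [DecidableEq ι] in
theorem gram_apply (i j : ι) : gram v e i j = e.toLinearMap (v i * v j) := rfl

omit [DecidableEq ι] in
theorem gram_mulVec (b : B) (j : ι) :
    (gram v e *ᵥ v.equivFun b) j = e.toLinearMap (v j * b) := by
  conv_rhs => rw [← v.sum_equivFun b]
  rw [Finset.mul_sum, map_sum, Matrix.mulVec, dotProduct]
  refine Finset.sum_congr rfl fun l _ => ?_
  rw [mul_smul_comm, map_smul, smul_eq_mul, gram_apply, mul_comm]

/-- `b ↦ b • e` -/
def hmap : B →ₗ[B] Disc.Omega A B := LinearMap.toSpanSingleton B (Disc.Omega A B) e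

theorem hmap_apply (b x : B) : (hmap e b).toLinearMap x = e.toLinearMap (b * x) := rfl

/-- the "adjugate" map `ω → B` -/
noncomputable def kmap (η : Disc.Omega A B) : B :=
  v.equivFun.symm ((gram v e).adjugate *ᵥ fun j => η.toLinearMap (v j))

omit [DecidableEq ι] in
theorem vec_hmap (b : B) :
    (fun j => (hmap e b).toLinearMap (v j)) = gram v e *ᵥ v.equivFun b := by
  funext j
  rw [gram_mulVec, hmap_apply, mul_comm]

theorem kmap_hmap (b : B) : kmap v e (hmap e b) = algebraMap A B (gram v e).det * b := by
  unfold kmap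
  rw [vec_hmap, Matrix.mulVec_mulVec, Matrix.adjugate_mul, Matrix.smul_mulVec,
    Matrix.one_mulVec, map_smul, LinearEquiv.symm_apply_apply, Algebra.smul_def]

theorem hmap_kmap (η : Disc.Omega A B) :
    hmap e (kmap v e η) = algebraMap A B (gram v e).det • η := by
  apply Disc.Omega.ext
  apply v.ext
  intro l
  rw [hmap_apply, mul_comm, ← gram_mulVec]
  unfold kmap
  rw [LinearEquiv.apply_symm_apply, Matrix.mulVec_mulVec, Matrix.mul_adjugate,
    Matrix.smul_mulVec, Matrix.one_mulVec, Pi.smul_apply, smul_eq_mul,
    Disc.Omega.smul_toLinearMap_apply, ← Algebra.smul_def, map_smul, smul_eq_mul]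

end PartB

section PartC

variable {A B : Type u} [CommRing A] [CommRing B] [Algebra A B]
  {ι : Type*} [Fintype ι] [DecidableEq ι] (v : Module.Basis ι A B) (e : Disc.Omega A B)

/-- after inverting the Gram determinant of `e`, `ω_{B/A}` is free of rank one on `e` -/
theorem nonempty_equiv_away :
    Nonempty (LocalizedModule.Away (algebraMap A B (gram v e).det) (Disc.Omega A B)
      ≃ₗ[Localization.Away (algebraMap A B (gram v e).det)]
        Localization.Away (algebraMap A B (gram v e).det)) := by
  set a' := algebraMap A B (gram v e).det with ha'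
  have hbij := map_bijective_of_mul a'
    (Algebra.linearMap B (Localization.Away a'))
    (LocalizedModule.mkLinearMap (Submonoid.powers a') (Disc.Omega A B))
    (hmap e) (kmap v e) (fun η => hmap_kmap v e η)
    (fun b => by rw [kmap_hmap, smul_eq_mul])
  let E₀ := LinearEquiv.ofBijective _ hbij
  exact ⟨(E₀.extendScalarsOfIsLocalization (Submonoid.powers a') (Localization.Away a')).symm⟩

end PartC

end Groth.Agent.Lib.OmegaLocFreeH6
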