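import Mathlib
import Groth.Agent.Lib.DualGlob2_helper6
import Groth.Agent.Lib.DMod86_helper6
import Groth.Agent.Lib.DMod74_helper6
import Groth.Agent.Lib.DMod118_helper6
import Groth.Agent.Lib.InvLocFree_helper7
import Groth.Agent.Lib.OmegaLocFree1_helper6

set_option autoImplicit false
set_option linter.style.haveILetI false
set_option linter.unusedSectionVars false
universe u
open CategoryTheory CategoryTheory.Limits DerivedCategory
attribute [local instance] HasDerivedCategory.standard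

namespace Groth.Agent.Lib.DualGlobH6

open DRing Groth.Agent.Lib.DMod_helper6

variable {A : Type u} [CommRing A] [IsNoetherianRing A]

section Scalar

variable (ω : Dual.D A) (hω : Dual.IsDualizing A ω)

/-- the scalar of an endomorphism of a dualizing complex -/
noncomputable def sc (f : ω ⟶ ω) : A := (Equiv.ofBijective _ hω.toEnd_bijective).symm f

lemma sc_spec (f : ω ⟶ ω) : sc ω hω f • 𝟙 ω = f :=
  (Equiv.ofBijective _ hω.toEnd_bijective).apply_symm_apply f

lemma sc_eq (f : ω ⟶ ω) (a : A) (h : a • 𝟙 ω = f) : sc ω hω f = a := by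
  apply hω.toEnd_bijective.1
  show sc ω hω f • 𝟙 ω = a • 𝟙 ω
  rw [sc_spec, h]

lemma sc_add (f g : ω ⟶ ω) : sc ω hω (f + g) = sc ω hω f + sc ω hω g :=
  sc_eq ω hω _ _ (by rw [add_smul, sc_spec, sc_spec])

lemma sc_smul (a : A) (f : ω ⟶ ω) : sc ω hω (a • f) = a * sc ω hω f :=
  sc_eq ω hω _ _ (by rw [mul_smul, sc_spec])

end Scalar

section Inv

variable (ω ω' : Dual.D A) (hω : Dual.IsDualizing A ω) (hω' : Dual.IsDualizing A ω')
  (P : Type u) [AddCommGroup P] [Module A P] (c : P ≃ₗ[A] (ω ⟶ ω'))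

/-- `x ↦` the scalar of `c x ≫ e'` -/
noncomputable def gam (e' : ω' ⟶ ω) : P →ₗ[A] A where
  toFun x := sc ω hω (c x ≫ e')
  map_add' x y := by rw [map_add, Preadditive.add_comp, sc_add]
  map_smul' a x := by rw [map_smul, Linear.smul_comp, sc_smul]; rfl

lemma gam_spec (e' : ω' ⟶ ω) (x : P) : gam ω ω' hω P c e' x • 𝟙 ω = c x ≫ e' :=
  sc_spec ω hω _

include hω c in
theorem nonempty_away_equiv (t : A) (e : ω ⟶ ω') (e' : ω' ⟶ ω) (h1 : e' ≫ e = t • 𝟙 ω')
    (h2 : e ≫ e' = t • 𝟙 ω) :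
    Nonempty (LocalizedModule.Away t P ≃ₗ[Localization.Away t] Localization.Away t) := by
  let α : A →ₗ[A] P := LinearMap.toSpanSingleton A P (c.symm e)
  have hαγ : ∀ x : P, α (gam ω ω' hω P c e' x) = t • x := by
    intro x
    apply c.injective
    show c (gam ω ω' hω P c e' x • c.symm e) = c (t • x)
    rw [map_smul, map_smul, c.apply_symm_apply]
    have : gam ω ω' hω P c e' x • e = (gam ω ω' hω P c e' x • 𝟙 ω) ≫ e := by
      rw [Linear.smul_comp, Category.id_comp]
    rw [this, gam_spec, Category.assoc, h1, Linear.comp_smul, Category.comp_id]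
  have hγα : ∀ a : A, gam ω ω' hω P c e' (α a) = t • a := by
    intro a
    show gam ω ω' hω P c e' (a • c.symm e) = t • a
    rw [map_smul]
    have : gam ω ω' hω P c e' (c.symm e) = t := by
      refine sc_eq ω hω _ _ ?_
      rw [c.apply_symm_apply, h2]
    rw [this, smul_eq_mul, smul_eq_mul, mul_comm]
  have hbij := Groth.Agent.Lib.OmegaLocFreeH6.map_bijective_of_mul t
    (LocalizedModule.mkLinearMap (Submonoid.powers t) P)
    (Algebra.linearMap A (Localization.Away t))
    (gam ω ω' hω P c e') α hγα hαγ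
  let E₀ := LinearEquiv.ofBijective _ hbij
  exact ⟨E₀.extendScalarsOfIsLocalization (Submonoid.powers t) (Localization.Away t)⟩

include hω c in
theorem invertible_of_local_data
    (hloc : ∀ (p : Ideal A) [p.IsPrime], ∃ (t : A) (e : ω ⟶ ω') (e' : ω' ⟶ ω),
      t ∉ p ∧ e' ≫ e = t • 𝟙 ω' ∧ e ≫ e' = t • 𝟙 ω) : Module.Invertible A P := by
  let s : Set A := {t | ∃ (e : ω ⟶ ω') (e' : ω' ⟶ ω), e' ≫ e = t • 𝟙 ω' ∧ e ≫ e' = t • 𝟙 ω}
  refine Groth.Agent.Lib.InvLocFreeH7.main s ?_ (fun t ht => ?_)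
  · by_contra hne
    obtain ⟨m, hm, hsm⟩ := Ideal.exists_le_maximal _ hne
    haveI := hm.isPrime
    obtain ⟨t, e, e', ht, h1, h2⟩ := hloc m
    exact ht (hsm (Ideal.subset_span ⟨e, e', h1, h2⟩))
  · obtain ⟨e, e', h1, h2⟩ := ht
    exact nonempty_away_equiv ω ω' hω P c t e e' h1 h2

end Inv

end Groth.Agent.Lib.DualGlobH6
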