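import Mathlib
import Groth.Agent.Lib.DualGlob3_helper6

set_option autoImplicit false
set_option linter.style.haveILetI false
set_option linter.unusedSectionVars false
universe u
open CategoryTheory CategoryTheory.Limits DerivedCategory
open scoped TensorProduct
attribute [local instance] HasDerivedCategory.standard

namespace Groth.Agent.Lib.DualGlobH6

open DRing Groth.Agent.Lib.DMod_helper6 MonoidalCategory

variable {A : Type u} [CommRing A] [IsNoetherianRing A]

section Chain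

variable (M : ModuleCat.{u} A) {ι : Type} [Fintype ι] (fk : ι → (M →ₗ[A] A))

/-- chain-level: a combination of rank-one endomorphisms which is multiplication by `t` -/
lemma sum_smul_muC_nuC (g : ι → A) (ε : M) (t : A)
    (h : ∀ p : M, (∑ k, g k * fk k p) • ε = t • p) (C : Cx A) :
    ∑ k, g k • (muC M (fk k) C ≫ nuC M ε C) =
      t • 𝟙 (((tensorRight M).mapHomologicalComplex (ComplexShape.up ℤ)).obj C) := by
  refine HomologicalComplex.hom_ext _ _ (fun i => ?_)
  have h1 : (∑ k, g k • (muC M (fk k) C ≫ nuC M ε C)).f i =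
      ∑ k, (g k • (muC M (fk k) C ≫ nuC M ε C)).f i :=
    (HomologicalComplex.eval _ _ i).map_sum _ _
  rw [h1]
  refine ModuleCat.MonoidalCategory.tensor_ext (M₁ := C.X i) (M₂ := M) (fun x m => ?_)
  refine (sum_hom_apply (X := C.X i ⊗ M) (Y := C.X i ⊗ M)
    (fun k => (g k • (muC M (fk k) C ≫ nuC M ε C)).f i) (x ⊗ₜ[A] m)).trans ?_
  change ∑ k, g k • ((fk k m • x) ⊗ₜ[A] ε) = t • (x ⊗ₜ[A] m)
  simp_rw [TensorProduct.smul_tmul, ← TensorProduct.tmul_smul, smul_smul]
  rw [← TensorProduct.tmul_sum, ← Finset.sum_smul, h m]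

end Chain

section Iso

variable (C : Cx A) (ω' : Dual.D A) (hC : Dual.IsDualizing A (Q.obj C))
  (P : Type u) [AddCommGroup P] [Module A P] (c : P ≃ₗ[A] (Q.obj C ⟶ ω'))
  {ι : Type} [Fintype ι] (fk : ι → (P →ₗ[A] A)) (mk : ι → P)
  (hdb : ∀ m : P, ∑ k, fk k m • mk k = m)

/-- the complex `C ⊗ P` -/
noncomputable abbrev CP : Cx A :=
  ((tensorRight (ModuleCat.of A P)).mapHomologicalComplex (ComplexShape.up ℤ)).obj C

/-- the evaluation map `ω ⊗ Hom(ω, ω') → ω'` via a dual basis -/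
noncomputable def Phi : Q.obj (CP C P) ⟶ ω' :=
  ∑ k, Q.map (muC (ModuleCat.of A P) (fk k) C) ≫ c (mk k)

/-- local inverse up to a scalar -/
noncomputable def Xi (e : Q.obj C ⟶ ω') (e' : ω' ⟶ Q.obj C) : ω' ⟶ Q.obj (CP C P) :=
  e' ≫ Q.map (nuC (ModuleCat.of A P) (c.symm e) C)

include hdb in
theorem Xi_Phi (t : A) (e : Q.obj C ⟶ ω') (e' : ω' ⟶ Q.obj C) (h1 : e' ≫ e = t • 𝟙 ω') :
    Xi C ω' P c e e' ≫ Phi C ω' P c fk mk = t • 𝟙 ω' := by
  unfold Xi Phi
  rw [Preadditive.comp_sum]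
  have h2 : ∀ k, (e' ≫ Q.map (nuC (ModuleCat.of A P) (c.symm e) C)) ≫
      Q.map (muC (ModuleCat.of A P) (fk k) C) ≫ c (mk k) =
      e' ≫ (fk k (c.symm e) • c (mk k)) := by
    intro k
    rw [Category.assoc, ← Category.assoc (Q.map _) (Q.map _), ← Functor.map_comp, nuC_muC,
      Functor.map_smul, CategoryTheory.Functor.map_id, Linear.smul_comp, Category.id_comp]
  rw [Finset.sum_congr rfl (fun k _ => h2 k), ← Preadditive.comp_sum]
  have h3 : ∑ k, fk k (c.symm e) • c (mk k) = e := by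
    have := congrArg c (hdb (c.symm e))
    rw [map_sum, c.apply_symm_apply] at this
    simp_rw [map_smul] at this
    exact this
  rw [h3, h1]

include hC hdb in
theorem Phi_Xi (t : A) (e : Q.obj C ⟶ ω') (e' : ω' ⟶ Q.obj C) (h1 : e' ≫ e = t • 𝟙 ω') :
    Phi C ω' P c fk mk ≫ Xi C ω' P c e e' = t • 𝟙 (Q.obj (CP C P)) := by
  unfold Xi Phi
  rw [Preadditive.sum_comp]
  set g : ι → A := fun k => gam (Q.obj C) ω' hC P c e' (mk k) with hg
  have h2 : ∀ k, (Q.map (muC (ModuleCat.of A P) (fk k) C) ≫ c (mk k)) ≫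
      e' ≫ Q.map (nuC (ModuleCat.of A P) (c.symm e) C) =
      Q.map (g k • (muC (ModuleCat.of A P) (fk k) C ≫ nuC (ModuleCat.of A P) (c.symm e) C)) := by
    intro k
    rw [Category.assoc, ← Category.assoc (c (mk k)) e', ← gam_spec (Q.obj C) ω' hC P c e' (mk k),
      Linear.smul_comp, Category.id_comp, Linear.comp_smul, ← Functor.map_comp,
      Functor.map_smul]
  rw [Finset.sum_congr rfl (fun k _ => h2 k), ← Functor.map_sum]
  have hkey : ∀ p : P, (∑ k, g k * fk k p) • c.symm e = t • p := by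
    intro p
    apply c.injective
    rw [map_smul, map_smul, c.apply_symm_apply, Finset.sum_smul]
    have h4 : ∀ k, (g k * fk k p) • e = fk k p • (t • c (mk k)) := by
      intro k
      have h5 : g k • e = t • c (mk k) := by
        have : g k • e = (g k • 𝟙 (Q.obj C)) ≫ e := by rw [Linear.smul_comp, Category.id_comp]
        rw [this, hg]
        show (gam (Q.obj C) ω' hC P c e' (mk k) • 𝟙 (Q.obj C)) ≫ e = _
        rw [gam_spec, Category.assoc, h1, Linear.comp_smul, Category.comp_id]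
      rw [mul_comm, mul_smul, h5]
    rw [Finset.sum_congr rfl (fun k _ => h4 k)]
    simp_rw [smul_comm _ t]
    rw [← Finset.smul_sum]
    congr 1
    have := congrArg c (hdb p)
    rw [map_sum] at this
    simp_rw [map_smul] at this
    exact this
  rw [sum_smul_muC_nuC (ModuleCat.of A P) fk g (c.symm e) t hkey C, Functor.map_smul,
    CategoryTheory.Functor.map_id]

include hC hdb in
/-- the evaluation map is an isomorphism when comparison data exist locally -/
theorem isIso_Phi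
    (hloc : ∀ (p : Ideal A) [p.IsPrime], ∃ (t : A) (e : Q.obj C ⟶ ω') (e' : ω' ⟶ Q.obj C),
      t ∉ p ∧ e' ≫ e = t • 𝟙 ω' ∧ e ≫ e' = t • 𝟙 (Q.obj C)) :
    IsIso (Phi C ω' P c fk mk) := by
  let J : Ideal A :=
    { carrier := {t | ∃ Ξ : ω' ⟶ Q.obj (CP C P), Ξ ≫ Phi C ω' P c fk mk = t • 𝟙 ω' ∧
        Phi C ω' P c fk mk ≫ Ξ = t • 𝟙 (Q.obj (CP C P))}
      add_mem' := by
        rintro a b ⟨Ξ₁, h1, h2⟩ ⟨Ξ₂, h3, h4⟩
        exact ⟨Ξ₁ + Ξ₂, by rw [Preadditive.add_comp, h1, h3, add_smul],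
          by rw [Preadditive.comp_add, h2, h4, add_smul]⟩
      zero_mem' := ⟨0, by rw [zero_comp, zero_smul], by rw [comp_zero, zero_smul]⟩
      smul_mem' := by
        rintro r a ⟨Ξ, h1, h2⟩
        exact ⟨r • Ξ, by rw [Linear.smul_comp, h1, smul_smul, smul_eq_mul],
          by rw [Linear.comp_smul, h2, smul_smul, smul_eq_mul]⟩ }
  have hJ : J = ⊤ := by
    by_contra hne
    obtain ⟨m, hm, hJm⟩ := Ideal.exists_le_maximal _ hne
    haveI := hm.isPrime
    obtain ⟨t, e, e', ht, h1, h2⟩ := hloc m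
    exact ht (hJm ⟨Xi C ω' P c e e', Xi_Phi C ω' P c fk mk hdb t e e' h1,
      Phi_Xi C ω' hC P c fk mk hdb t e e' h1⟩)
  have h1 : (1 : A) ∈ J := by rw [hJ]; trivial
  obtain ⟨Ξ, hΞ1, hΞ2⟩ := h1
  rw [one_smul] at hΞ1 hΞ2
  exact ⟨Ξ, hΞ2, hΞ1⟩

end Iso

end Groth.Agent.Lib.DualGlobH6
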