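import Mathlib
import Groth.Agent.Lib.DualGlob4_helper6

set_option autoImplicit false
set_option linter.style.haveILetI false
set_option linter.unusedSectionVars false
universe u
open CategoryTheory CategoryTheory.Limits DerivedCategory
open scoped TensorProduct
attribute [local instance] HasDerivedCategory.standard

namespace Groth.Agent.Lib.DualGlobH6

open DRing Groth.Agent.Lib.DMod_helper6 MonoidalCategory

variable {A : Type u} [CommRing A] [IsNoetherianRing A]

/-- two dualizing complexes which are locally isomorphic up to scalars differ by an invertible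
twist -/
theorem core (ω ω' : Dual.D A) (hω : Dual.IsDualizing A ω) (hω' : Dual.IsDualizing A ω')
    (hloc : ∀ (p : Ideal A) [p.IsPrime], ∃ (t : A) (e : ω ⟶ ω') (e' : ω' ⟶ ω),
      t ∉ p ∧ e' ≫ e = t • 𝟙 ω' ∧ e ≫ e' = t • 𝟙 ω) :
    ∃ (P : Type u) (_ : AddCommGroup P) (_ : Module A P) (_ : Module.Invertible A P),
      Nonempty (ω' ≅ (tensorRight (ModuleCat.of A P)).mapDerivedCategory.obj ω) := by
  let C : Cx A := DerivedCategory.Q.objPreimage ω
  let eC : DerivedCategory.Q.obj C ≅ ω := DerivedCategory.Q.objObjPreimageIso ω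
  have hC : Dual.IsDualizing A (Q.obj C) := isDualizing_of_iso eC.symm hω
  have hloc' : ∀ (p : Ideal A) [p.IsPrime], ∃ (t : A) (e : Q.obj C ⟶ ω') (e' : ω' ⟶ Q.obj C),
      t ∉ p ∧ e' ≫ e = t • 𝟙 ω' ∧ e ≫ e' = t • 𝟙 (Q.obj C) := by
    intro p _
    obtain ⟨t, e, e', ht, h1, h2⟩ := hloc p
    refine ⟨t, eC.hom ≫ e, e' ≫ eC.inv, ht, ?_, ?_⟩
    · rw [Category.assoc, Iso.inv_hom_id_assoc, h1]
    · rw [Category.assoc, ← Category.assoc e e', h2, Linear.smul_comp, Category.id_comp,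
        Linear.comp_smul, Iso.hom_inv_id]
  -- finiteness of the Hom module
  haveI hfin0 : Module.Finite A (Q.obj C ⟶ ω'⟦(0 : ℤ)⟧) :=
    hom_finite_of_finiteInjDim (Q.obj C) ω' hC.finite_cohomology hω'.finite_cohomology
      (hasFiniteInjDim_of_isDualizing ω' hω') 0
  haveI hfin : Module.Finite A (Q.obj C ⟶ ω') :=
    Module.Finite.equiv (Linear.homCongr A (Iso.refl (Q.obj C))
      ((shiftFunctorZero (Dual.D A) ℤ).app ω'))
  obtain ⟨k, f, hf⟩ := Module.Finite.exists_fin' A (Q.obj C ⟶ ω')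
  let P : Type u := (Fin k → A) ⧸ LinearMap.ker f
  let c : P ≃ₗ[A] (Q.obj C ⟶ ω') := f.quotKerEquivOfSurjective hf
  haveI hinv : Module.Invertible A P := invertible_of_local_data (Q.obj C) ω' hC P c hloc'
  refine ⟨P, inferInstance, inferInstance, hinv, ?_⟩
  obtain ⟨n, f', g', -, -, hfg⟩ := Module.Finite.exists_comp_eq_id_of_projective A P
  have hdb : ∀ m : P, ∑ k : Fin n, (LinearMap.proj k ∘ₗ g') m •
      f' (fun j => if k = j then 1 else 0) = m := by
    intro m
    exact (LinearMap.pi_apply_eq_sum_univ f' (g' m)).symm.trans (LinearMap.congr_fun hfg m)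
  haveI := isIso_Phi C ω' hC P c (fun k : Fin n => LinearMap.proj k ∘ₗ g')
    (fun k => f' (fun j => if k = j then 1 else 0)) hdb hloc'
  exact ⟨(asIso (Phi C ω' P c (fun k : Fin n => LinearMap.proj k ∘ₗ g')
    (fun k => f' (fun j => if k = j then 1 else 0)))).symm ≪≫
    ((tensorRight (ModuleCat.of A P)).mapDerivedCategoryFactors.app C).symm ≪≫
    (tensorRight (ModuleCat.of A P)).mapDerivedCategory.mapIso eC⟩

/-- S12440 -/
theorem main [ConnectedSpace (PrimeSpectrum A)] (ω ω' : Dual.D A) (hω : Dual.IsDualizing A ω)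
    (hω' : Dual.IsDualizing A ω') :
    ∃ (P : ModuleCat.{u} A) (_ : Module.Invertible A P) (n : ℤ),
      ∀ [DRing.HasLTensor A P], Nonempty (ω' ≅ ((DRing.LTensor A P).obj ω)⟦n⟧) := by
  obtain ⟨n, hn⟩ := exists_global_shift ω ω' hω hω'
  obtain ⟨P, _, _, hinv, ⟨ι⟩⟩ := core (ω⟦n⟧) ω' (isDualizing_shift ω hω n) hω' hn
  refine ⟨ModuleCat.of A P, hinv, n, ?_⟩
  intro _
  haveI : Module.Flat A (ModuleCat.of A P) := (inferInstance : Module.Flat A P)
  obtain ⟨κ⟩ := nonempty_lTensor_iso_mapD (ModuleCat.of A P) ω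
  exact ⟨ι ≪≫ ((tensorRight (ModuleCat.of A P)).mapDerivedCategory.commShiftIso n).app ω ≪≫
    (shiftFunctor (Dual.D A) n).mapIso κ.symm⟩

end Groth.Agent.Lib.DualGlobH6
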