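import Mathlib
import Groth.Agent.Lib.LocalCrit14_helper9
import Groth.Prelude.Def_W4c6puncthilbintroLift

/-!
# First-order liftings of an ideal (helper9)

For S19452: flatness over the dual numbers, and `Hom_R(I, R/I)` = first-order liftings of `I`.
APPEND-ONLY once landed.
-/

set_option autoImplicit false
universe u v

namespace Groth.Agent.DualLift9

open TensorProduct

/-- Flatness passes along a surjective algebra map (for modules over the target). -/
theorem flat_of_surjective_algebraMap (R₀ S N : Type*) [CommRing R₀] [CommRing S] [Algebra R₀ S]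
    [AddCommGroup N] [Module R₀ N] [Module S N] [IsScalarTower R₀ S N]
    (h : Function.Surjective (algebraMap R₀ S)) [Module.Flat R₀ N] : Module.Flat S N := by
  let l : S ⊗[R₀] N →ₗ[S] N := LinearMap.liftBaseChange S (LinearMap.id : N →ₗ[R₀] N)
  have hrep : ∀ x : S ⊗[R₀] N, ∃ n : N, x = (1 : S) ⊗ₜ[R₀] n := by
    intro x
    induction x using TensorProduct.induction_on with
    | zero => exact ⟨0, (tmul_zero _ _).symm⟩
    | tmul s n =>
      obtain ⟨a, rfl⟩ := h s
      refine ⟨a • n, ?_⟩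
      rw [← TensorProduct.smul_tmul, Algebra.smul_def, mul_one]
    | add x y hx hy =>
      obtain ⟨n, rfl⟩ := hx
      obtain ⟨n', rfl⟩ := hy
      exact ⟨n + n', (tmul_add _ _ _).symm⟩
  have hbij : Function.Bijective l := by
    constructor
    · rw [injective_iff_map_eq_zero]
      intro x hx
      obtain ⟨n, rfl⟩ := hrep x
      have : n = 0 := by simpa [l] using hx
      rw [this, tmul_zero]
    · intro n
      exact ⟨(1 : S) ⊗ₜ[R₀] n, by simp [l]⟩
  exact Module.Flat.of_linearEquiv (LinearEquiv.ofBijective l hbij).symm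

/-- Square-zero criterion with the flatness hypothesis over a ring `A₀` mapping onto `B ⧸ (t)`. -/
theorem flat_iff_of_sq_zero' {B : Type u} [CommRing B] (t : B) (ht : t * t = 0)
    (hann : ∀ a : B, t * a = 0 → a ∈ Ideal.span {t})
    (M : Type v) [AddCommGroup M] [Module B M]
    (A₀ : Type*) [CommRing A₀] [Algebra A₀ B] [Module A₀ M] [IsScalarTower A₀ B M]
    (hsurj : Function.Surjective ((Ideal.Quotient.mk (Ideal.span {t})).comp (algebraMap A₀ B)))
    (hflat : Module.Flat A₀ (M ⧸ (Ideal.span {t} • ⊤ : Submodule B M))) :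
    Module.Flat B M ↔ ∀ m : M, t • m = 0 → ∃ m' : M, m = t • m' := by
  haveI : IsScalarTower A₀ (B ⧸ Ideal.span {t}) (M ⧸ (Ideal.span {t} • ⊤ : Submodule B M)) := by
    refine IsScalarTower.of_algebraMap_smul fun a n => ?_
    obtain ⟨m, rfl⟩ := Submodule.Quotient.mk_surjective _ n
    rw [IsScalarTower.algebraMap_apply A₀ B (B ⧸ Ideal.span {t}), Ideal.Quotient.algebraMap_eq]
    show Submodule.Quotient.mk (algebraMap A₀ B a • m) = Submodule.Quotient.mk (a • m)
    rw [algebraMap_smul]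
  haveI : Module.Flat (B ⧸ Ideal.span {t}) (M ⧸ (Ideal.span {t} • ⊤ : Submodule B M)) :=
    flat_of_surjective_algebraMap A₀ (B ⧸ Ideal.span {t}) _ (by
      rw [IsScalarTower.algebraMap_eq A₀ B (B ⧸ Ideal.span {t}), Ideal.Quotient.algebraMap_eq]
      exact hsurj)
  haveI : Module.Flat (B ⧸ Ideal.span {t}) ((B ⧸ Ideal.span {t}) ⊗[B] M) :=
    Module.Flat.of_linearEquiv
      ((TensorProduct.quotTensorEquivQuotSMul M (Ideal.span {t})).extendScalarsOfSurjective
        (Ideal.Quotient.mk_surjective (I := Ideal.span {t})))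
  exact Groth.Agent.Lib.LocalCrit14.flat_iff_of_sq_zero t ht hann M

section dual

open DualNumber TrivSqZeroExt W4c6puncthilbintro

attribute [local instance] W4c6puncthilbintro.dualAlgebra

variable (A : Type u) [CommRing A] (R : Type u) [CommRing R] [Algebra A R]

theorem algebraMap_dual_eq (b : DualNumber A) :
    algebraMap (DualNumber A) (DualNumber R) b = dualMap A R b := rfl

instance isScalarTower_dual : IsScalarTower A (DualNumber A) (DualNumber R) :=
  IsScalarTower.of_algebraMap_eq (fun (a : A) => by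
    rw [algebraMap_dual_eq]
    exact ((dualMap A R).commutes a).symm)

theorem eps_smul_mk (J : Ideal (DualNumber R)) (s : DualNumber R) :
    (ε : DualNumber A) • (Ideal.Quotient.mk J s) = Ideal.Quotient.mk J (inr s.fst) := by
  have h0 : (ε : DualNumber A) • (Ideal.Quotient.mk J s) =
      Ideal.Quotient.mk J ((ε : DualNumber A) • s) := rfl
  rw [h0, Algebra.smul_def, algebraMap_dual_eq, dualMap_eps]
  congr 1
  ext <;> simp

theorem hann_eps (a : DualNumber A) (h : (ε : DualNumber A) * a = 0) :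
    a ∈ Ideal.span {(ε : DualNumber A)} := by
  have h1 : a.fst = 0 := by
    have := congrArg TrivSqZeroExt.snd h
    simpa using this
  rw [Ideal.mem_span_singleton']
  refine ⟨inl a.snd, ?_⟩
  ext <;> simp [h1]

theorem surj_algebraMap_quot :
    Function.Surjective ((Ideal.Quotient.mk (Ideal.span {(ε : DualNumber A)})).comp
      (algebraMap A (DualNumber A))) := by
  intro x
  obtain ⟨b, rfl⟩ := Ideal.Quotient.mk_surjective x
  refine ⟨b.fst, ?_⟩
  rw [RingHom.comp_apply]
  rw [← sub_eq_zero, ← map_sub, Ideal.Quotient.eq_zero_iff_mem, Ideal.mem_span_singleton']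
  refine ⟨inl (- b.snd), ?_⟩
  ext <;> simp [TrivSqZeroExt.algebraMap_eq_inl]

variable {A R}

theorem mem_eps_smul_top_iff (J : Ideal (DualNumber R)) (x : DualNumber R ⧸ J) :
    x ∈ (Ideal.span {(ε : DualNumber A)} • ⊤ : Submodule (DualNumber A) (DualNumber R ⧸ J)) ↔
      ∃ m' : DualNumber R ⧸ J, (ε : DualNumber A) • m' = x := by
  rw [Submodule.ideal_span_singleton_smul, Submodule.mem_smul_pointwise_iff_exists]
  simp

/-- The quotient of `R[ε]/J` by `ε` is `R/I`, `A`-linearly. -/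
theorem flat_quot_eps (I : Ideal R) [Module.Flat A (R ⧸ I)] (J : Ideal (DualNumber R))
    (hJ : Ideal.map (TrivSqZeroExt.fstHom A R R) J = I) :
    Module.Flat A ((DualNumber R ⧸ J) ⧸
      (Ideal.span {(ε : DualNumber A)} • ⊤ : Submodule (DualNumber A) (DualNumber R ⧸ J))) := by
  set N := (DualNumber R ⧸ J) ⧸
    (Ideal.span {(ε : DualNumber A)} • ⊤ : Submodule (DualNumber A) (DualNumber R ⧸ J)) with hN
  let g : R →ₗ[A] N :=
    ((Submodule.mkQ (Ideal.span {(ε : DualNumber A)} • ⊤ :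
        Submodule (DualNumber A) (DualNumber R ⧸ J))).restrictScalars A) ∘ₗ
      (Ideal.Quotient.mkₐ A J).toLinearMap ∘ₗ (TrivSqZeroExt.inlAlgHom A R R).toLinearMap
  have hg : ∀ a : R, g a = Submodule.Quotient.mk (Ideal.Quotient.mk J (inl a)) := fun a => rfl
  have hfst_surj : Function.Surjective (TrivSqZeroExt.fstHom A R R) := fun a => ⟨inl a, by simp⟩
  have hmemI : ∀ a : R, a ∈ I ↔ ∃ x ∈ J, x.fst = a := by
    intro a
    rw [← hJ, Ideal.mem_map_iff_of_surjective _ hfst_surj]
    rfl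
  have hker : LinearMap.ker g = I.restrictScalars A := by
    ext a
    rw [LinearMap.mem_ker, hg, Submodule.Quotient.mk_eq_zero, mem_eps_smul_top_iff,
      Submodule.restrictScalars_mem]
    constructor
    · rintro ⟨m', hm'⟩
      obtain ⟨s', rfl⟩ := Ideal.Quotient.mk_surjective m'
      rw [eps_smul_mk, ← sub_eq_zero, ← map_sub, Ideal.Quotient.eq_zero_iff_mem] at hm'
      rw [hmemI]
      refine ⟨_, J.neg_mem hm', ?_⟩
      simp
    · intro ha
      obtain ⟨x, hxJ, hxa⟩ := (hmemI a).mp ha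
      refine ⟨Ideal.Quotient.mk J (inl (- x.snd)), ?_⟩
      rw [eps_smul_mk, ← sub_eq_zero, ← map_sub, Ideal.Quotient.eq_zero_iff_mem]
      have : (inr (inl (-x.snd) : DualNumber R).fst - inl a : DualNumber R) = - x := by
        ext <;> simp [hxa]
      rw [this]
      exact J.neg_mem hxJ
  have hsurj : Function.Surjective g := by
    intro n
    obtain ⟨m, rfl⟩ := Submodule.Quotient.mk_surjective _ n
    obtain ⟨s, rfl⟩ := Ideal.Quotient.mk_surjective m
    refine ⟨s.fst, ?_⟩
    rw [hg, ← sub_eq_zero, ← Submodule.Quotient.mk_sub, Submodule.Quotient.mk_eq_zero,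
      mem_eps_smul_top_iff]
    refine ⟨Ideal.Quotient.mk J (inl (- s.snd)), ?_⟩
    rw [eps_smul_mk, ← map_sub]
    congr 1
    ext <;> simp
  let e : (R ⧸ I) ≃ₗ[A] N :=
    (Submodule.Quotient.restrictScalarsEquiv A I).symm ≪≫ₗ
      (Submodule.quotEquivOfEq _ _ hker.symm) ≪≫ₗ g.quotKerEquivOfSurjective hsurj
  exact Module.Flat.of_linearEquiv e.symm

/-- Flatness of `R[ε]/J` over `A[ε]`, when `J` reduces to `I` with `R/I` flat over `A`. -/
theorem flat_quot_iff (I : Ideal R) [Module.Flat A (R ⧸ I)] (J : Ideal (DualNumber R))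
    (hJ : Ideal.map (TrivSqZeroExt.fstHom A R R) J = I) :
    Module.Flat (DualNumber A) (DualNumber R ⧸ J) ↔
      ∀ a : R, (inr a : DualNumber R) ∈ J → a ∈ I := by
  have hfst_surj : Function.Surjective (TrivSqZeroExt.fstHom A R R) := fun a => ⟨inl a, by simp⟩
  have hmemI : ∀ a : R, a ∈ I ↔ ∃ x ∈ J, x.fst = a := by
    intro a
    rw [← hJ, Ideal.mem_map_iff_of_surjective _ hfst_surj]
    rfl
  rw [flat_iff_of_sq_zero' (ε : DualNumber A) DualNumber.eps_mul_eps (hann_eps A)
    (DualNumber R ⧸ J) A (surj_algebraMap_quot A) (flat_quot_eps I J hJ)]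
  constructor
  · intro h a ha
    obtain ⟨m', hm'⟩ := h (Ideal.Quotient.mk J (inl a)) (by
      rw [eps_smul_mk]
      simpa using Ideal.Quotient.eq_zero_iff_mem.mpr ha)
    obtain ⟨s', rfl⟩ := Ideal.Quotient.mk_surjective m'
    rw [eps_smul_mk, ← sub_eq_zero, ← map_sub, Ideal.Quotient.eq_zero_iff_mem] at hm'
    rw [hmemI]
    exact ⟨_, hm', by simp⟩
  · intro h m hm
    obtain ⟨s, rfl⟩ := Ideal.Quotient.mk_surjective m
    rw [eps_smul_mk, Ideal.Quotient.eq_zero_iff_mem] at hm
    obtain ⟨x, hxJ, hxa⟩ := (hmemI _).mp (h _ hm)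
    refine ⟨Ideal.Quotient.mk J (inl (s.snd - x.snd)), ?_⟩
    rw [eps_smul_mk, ← sub_eq_zero, ← map_sub, Ideal.Quotient.eq_zero_iff_mem]
    have : (s - inr (inl (s.snd - x.snd) : DualNumber R).fst : DualNumber R) = x := by
      ext <;> simp [hxa]
    rw [this]
    exact hxJ

theorem mem_liftIdeal (I : Ideal R) (φ : I →ₗ[R] R ⧸ I) (x : DualNumber R) :
    x ∈ liftIdeal I φ ↔ ∃ h : x.fst ∈ I, Ideal.Quotient.mk I x.snd = φ ⟨x.fst, h⟩ := Iff.rfl

theorem map_fst_liftIdeal (I : Ideal R) (φ : I →ₗ[R] R ⧸ I) :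
    Ideal.map (TrivSqZeroExt.fstHom A R R) (liftIdeal I φ) = I := by
  have hfst_surj : Function.Surjective (TrivSqZeroExt.fstHom A R R) := fun a => ⟨inl a, by simp⟩
  ext a
  rw [Ideal.mem_map_iff_of_surjective _ hfst_surj]
  constructor
  · rintro ⟨x, ⟨hx, -⟩, rfl⟩
    exact hx
  · intro ha
    obtain ⟨b, hb⟩ := Ideal.Quotient.mk_surjective (φ ⟨a, ha⟩)
    exact ⟨((a, b) : TrivSqZeroExt R R), ⟨ha, hb⟩, rfl⟩

theorem inr_mem_liftIdeal (I : Ideal R) (φ : I →ₗ[R] R ⧸ I) (a : R)
    (h : (inr a : DualNumber R) ∈ liftIdeal I φ) : a ∈ I := by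
  obtain ⟨h0, h1⟩ := h
  have : (⟨(inr a : DualNumber R).fst, h0⟩ : I) = 0 := Subtype.ext (by simp)
  rw [this, map_zero] at h1
  have h2 : (inr a : DualNumber R).snd = a := by simp
  rw [h2] at h1
  exact Ideal.Quotient.eq_zero_iff_mem.mp h1

theorem liftIdeal_injective (I : Ideal R) : Function.Injective (liftIdeal I) := by
  intro φ ψ h
  refine LinearMap.ext fun ⟨a, ha⟩ => ?_
  obtain ⟨b, hb⟩ := Ideal.Quotient.mk_surjective (φ ⟨a, ha⟩)
  have h1 : ((a, b) : TrivSqZeroExt R R) ∈ liftIdeal I φ := ⟨ha, hb⟩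
  rw [h] at h1
  obtain ⟨_, h2⟩ := h1
  rw [← hb]
  exact h2

theorem exists_liftIdeal (I : Ideal R) [Module.Flat A (R ⧸ I)] (J : Ideal (DualNumber R))
    (hflat : Module.Flat (DualNumber A) (DualNumber R ⧸ J))
    (hJ : Ideal.map (TrivSqZeroExt.fstHom A R R) J = I) :
    ∃ φ : I →ₗ[R] R ⧸ I, J = liftIdeal I φ := by
  classical
  have hfst_surj : Function.Surjective (TrivSqZeroExt.fstHom A R R) := fun a => ⟨inl a, by simp⟩
  have hmemI : ∀ a : R, a ∈ I ↔ ∃ x ∈ J, x.fst = a := by
    intro a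
    rw [← hJ, Ideal.mem_map_iff_of_surjective _ hfst_surj]
    rfl
  have hK := (flat_quot_iff (A := A) I J hJ).mp hflat
  have hK' : ∀ a ∈ I, (inr a : DualNumber R) ∈ J := by
    intro a ha
    obtain ⟨x, hxJ, rfl⟩ := (hmemI a).mp ha
    have : (inr x.fst : DualNumber R) = (ε : DualNumber R) * x := by
      ext <;> simp
    rw [this]
    exact J.mul_mem_left _ hxJ
  choose! c hcJ hcfst using fun a => (hmemI a).mp
  have key : ∀ x ∈ J, ∀ ha : x.fst ∈ I,
      Ideal.Quotient.mk I (c x.fst).snd = Ideal.Quotient.mk I x.snd := by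
    intro x hxJ ha
    rw [← sub_eq_zero, ← map_sub, Ideal.Quotient.eq_zero_iff_mem]
    apply hK
    have : (inr ((c x.fst).snd - x.snd) : DualNumber R) = c x.fst - x := by
      ext
      · simp [hcfst _ ha]
      · simp
    rw [this]
    exact J.sub_mem (hcJ _ ha) hxJ
  let φ : I →ₗ[R] R ⧸ I :=
    { toFun := fun a => Ideal.Quotient.mk I (c a.1).snd
      map_add' := by
        rintro ⟨a, ha⟩ ⟨a', ha'⟩
        have h1 : c a + c a' ∈ J := J.add_mem (hcJ a ha) (hcJ a' ha')
        have h2 : (c a + c a').fst = a + a' := by simp [hcfst a ha, hcfst a' ha']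
        have h3 := key _ h1 (by rw [h2]; exact I.add_mem ha ha')
        rw [h2] at h3
        show Ideal.Quotient.mk I (c (a + a')).snd = _
        rw [h3]
        simp
      map_smul' := by
        rintro r ⟨a, ha⟩
        have h1 : (inl r : DualNumber R) * c a ∈ J := J.mul_mem_left _ (hcJ a ha)
        have h2 : ((inl r : DualNumber R) * c a).fst = r * a := by simp [hcfst a ha]
        have h3 := key _ h1 (by rw [h2]; exact I.mul_mem_left r ha)
        rw [h2] at h3
        show Ideal.Quotient.mk I (c (r * a)).snd = _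
        rw [h3]
        simp [Algebra.smul_def] }
  refine ⟨φ, ?_⟩
  ext x
  rw [mem_liftIdeal]
  constructor
  · intro hx
    have hxI : x.fst ∈ I := (hmemI _).mpr ⟨x, hx, rfl⟩
    exact ⟨hxI, (key x hx hxI).symm⟩
  · rintro ⟨hxI, hx⟩
    have h1 : Ideal.Quotient.mk I (x.snd - (c x.fst).snd) = 0 := by
      rw [map_sub, hx]
      exact sub_self _
    have h2 := hK' _ (Ideal.Quotient.eq_zero_iff_mem.mp h1)
    have : x = c x.fst + inr (x.snd - (c x.fst).snd) := by
      ext
      · simp [hcfst _ hxI]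
      · simp
    rw [this]
    exact J.add_mem (hcJ _ hxI) h2

theorem main (I : Ideal R) [Module.Flat A (R ⧸ I)] :
    (∀ φ : I →ₗ[R] R ⧸ I,
        Module.Flat (DualNumber A) (DualNumber R ⧸ liftIdeal I φ) ∧
          Ideal.map (TrivSqZeroExt.fstHom A R R) (liftIdeal I φ) = I) ∧
      Function.Injective (liftIdeal I) ∧
      ∀ J : Ideal (DualNumber R), Module.Flat (DualNumber A) (DualNumber R ⧸ J) →
        Ideal.map (TrivSqZeroExt.fstHom A R R) J = I →
          ∃ φ : I →ₗ[R] R ⧸ I, J = liftIdeal I φ := by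
  refine ⟨fun φ => ⟨?_, map_fst_liftIdeal I φ⟩, liftIdeal_injective I, fun J hflat hJ =>
    exists_liftIdeal I J hflat hJ⟩
  rw [flat_quot_iff (A := A) I _ (map_fst_liftIdeal I φ)]
  exact inr_mem_liftIdeal I φ

end dual

end Groth.Agent.DualLift9
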