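import Mathlib
import Groth.Prelude.Def_DualSch
import Groth.Prelude.Def_Dual3
import Groth.Agent.Lib.SchDual_helper6
import Groth.Agent.Lib.DMod116_helper6
import Groth.Agent.Lib.DMod102_helper6
import Groth.Agent.Lib.DMod94_helper6
import Groth.Agent.Lib.DMod75_helper6
import Groth.Agent.Lib.DMod87_helper6
import Groth.Agent.Lib.DMod79_helper6
import Groth.Agent.S11179

/-!
# Gorenstein schemes and dualizing complexes (lead): S3622

On a Gorenstein scheme having a dualizing complex, the structure sheaf is a dualizing complex.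
Ring level: a Noetherian ring with a dualizing complex all of whose local rings are Gorenstein
has `A[0]` as a dualizing complex (local criterion of helper6 + finiteness of the dimension).
-/

set_option autoImplicit false
set_option linter.style.haveILetI false
universe u
open CategoryTheory CategoryTheory.Limits AlgebraicGeometry DerivedCategory
open scoped TensorProduct
attribute [local instance] HasDerivedCategory.standard

namespace Groth.Agent.Lib.GorDualSchL

open Groth.Agent.Lib.DMod_helper6 Groth.Agent.Lib.SchDual_helper6 DRing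

theorem isDualizing_inD_self_of_forall_gorenstein {A : Type u} [CommRing A] [IsNoetherianRing A]
    (ω : Dual.D A) (hω : Dual.IsDualizing A ω)
    (hG : ∀ p : PrimeSpectrum A,
      LocCoh.IsGorensteinLocalRing (Localization.AtPrime p.asIdeal)) :
    Dual.IsDualizing A (Dual.inD A A) := by
  refine isDualizing_of_locally_dualizing (ringKrullDim_lt_top_of_isDualizing ω hω) (Dual.inD A A)
    finite_HD_inD_self ⟨0, fun i hi => ?_⟩ (fun p => ?_)
  · exact ModuleCat.subsingleton_of_isZero (isZero_HD_inD (ModuleCat.of A A) i (by omega))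
  · haveI := isNoetherianRing_atPrime p.asIdeal
    let e1 : (bcD A (Localization.AtPrime p.asIdeal)).obj (Dual.inD A A) ≅
        Dual.inD (Localization.AtPrime p.asIdeal) ((Localization.AtPrime p.asIdeal) ⊗[A] A) :=
      bcSingleIso A
    let e2 : Dual.inD (Localization.AtPrime p.asIdeal) ((Localization.AtPrime p.asIdeal) ⊗[A] A) ≅
        Dual.inD (Localization.AtPrime p.asIdeal) (Localization.AtPrime p.asIdeal) :=
      inDIsoOfLinearEquiv (TensorProduct.AlgebraTensorModule.rid A (Localization.AtPrime p.asIdeal)
        (Localization.AtPrime p.asIdeal))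
    exact isDualizing_of_iso (e1 ≪≫ e2).symm
      ((Groth.Agent.S11179.result (Localization.AtPrime p.asIdeal)).1 (hG p))

/-- the restriction of `O_X[0]` to an affine chart is `tildeD (R[0])`. -/
noncomputable def restrictUnitIsoTildeD' (R : CommRingCat.{u}) {X : Scheme.{u}}
    (j : Spec R ⟶ X) [IsOpenImmersion j]
    [PreservesFiniteLimits (Scheme.Modules.restrictFunctor j)]
    [PreservesFiniteLimits (tilde.functor R)] :
    (DCoh.restrictD j).obj (DCoh.inD X (Coh.structureModule X)) ≅
      (DCoh.tildeD R).obj
        ((DerivedCategory.singleFunctor (ModuleCat.{u} R) 0).obj (ModuleCat.of R R)) :=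
  ((Scheme.Modules.restrictFunctor j).mapDerivedCategorySingleFunctor 0).app
      (Coh.structureModule X) ≪≫
    (DerivedCategory.singleFunctor _ 0).mapIso
      (Scheme.Modules.restrictUnitIso j ≪≫ (tildeSelf (R := R)).symm) ≪≫
    (((tilde.functor R).mapDerivedCategorySingleFunctor 0).app (ModuleCat.of R R)).symm

noncomputable def restrictUnitIsoTildeD {A : Type u} [CommRing A] {X : Scheme.{u}}
    (j : Spec (CommRingCat.of A) ⟶ X) [IsOpenImmersion j]
    [PreservesFiniteLimits (Scheme.Modules.restrictFunctor j)]
    [PreservesFiniteLimits (tilde.functor (CommRingCat.of A))] :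
    (DCoh.restrictD j).obj (DCoh.inD X (Coh.structureModule X)) ≅
      (DCoh.tildeD (CommRingCat.of A)).obj (Dual.inD A A) :=
  restrictUnitIsoTildeD' (CommRingCat.of A) j

lemma gorenstein_chart {X : Scheme.{u}} (hX : Dual3.IsGorenstein X) {A : Type u} [CommRing A]
    (j : Spec (CommRingCat.of A) ⟶ X) [IsOpenImmersion j] (p : PrimeSpectrum A) :
    LocCoh.IsGorensteinLocalRing (Localization.AtPrime p.asIdeal) := by
  haveI := hX.2 (j.base p)
  exact isGorensteinLocalRing_of_ringEquiv (stalkEquiv j p).symm

/-- **S3622** -/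
theorem main3622 (X : Scheme.{u}) (hX : Dual3.IsGorenstein X)
    [∀ (U V : Scheme.{u}) (j : U ⟶ V) [IsOpenImmersion j],
      PreservesFiniteLimits (Scheme.Modules.restrictFunctor j)]
    [∀ (R : CommRingCat.{u}), PreservesFiniteLimits (tilde.functor R)] :
    (∃ K : DCoh.D X, Dual2.IsDualizingSch X K) ↔
      Dual2.IsDualizingSch X (DCoh.inD X (Coh.structureModule X)) := by
  refine ⟨?_, fun h => ⟨_, h⟩⟩
  rintro ⟨K, hK⟩
  haveI : IsLocallyNoetherian X := hX.1
  intro A _ j _
  haveI := isNoetherianRing_of_chart j
  obtain ⟨ω, hω, -⟩ := hK A j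
  exact ⟨Dual.inD A A, isDualizing_inD_self_of_forall_gorenstein ω hω
    (fun p => gorenstein_chart hX j p), ⟨restrictUnitIsoTildeD j⟩⟩

end Groth.Agent.Lib.GorDualSchL
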