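import Mathlib
import Groth.Prelude.Def_DualSch
import Groth.Prelude.Def_Dual3
import Groth.Agent.Lib.DMod116_helper6
import Groth.Agent.Lib.DMod115_helper6
import Groth.Agent.Lib.DMod103_helper6
import Groth.Agent.Lib.DMod88_helper6
import Groth.Agent.Lib.DMod7_helper6

/-!
# Gorenstein points of a ring with a dualizing complex: local triviality (lead)

Ring-level input for S3620: if `ω` is a dualizing complex over a Noetherian ring `A` and `A_p` is
Gorenstein, then over some principal open `D(f) ∋ p` the complex `ω_f` is a shift of `A_f[0]`.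
-/

set_option autoImplicit false
set_option linter.style.haveILetI false
set_option linter.unusedSectionVars false
set_option linter.unusedVariables false
universe u
open CategoryTheory CategoryTheory.Limits DerivedCategory Pretriangulated ZeroObject
open scoped Pointwise TensorProduct
attribute [local instance] HasDerivedCategory.standard

namespace Groth.Agent.Lib.GorDualSchL

open Groth.Agent.Lib.DMod_helper6 DRing

section Ring

variable {A : Type u} [CommRing A]

/-- a finite module not supported at `p` is killed by some `r ∉ p` -/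
lemma exists_notMem_smul_eq_zero (M : Type u) [AddCommGroup M] [Module A M] [Module.Finite A M]
    (p : PrimeSpectrum A) (hp : p ∉ Module.support A M) :
    ∃ r : A, r ∉ p.asIdeal ∧ ∀ m : M, r • m = 0 := by
  rw [Module.mem_support_iff_of_finite] at hp
  obtain ⟨r, hr, hrp⟩ := SetLike.not_le_iff_exists.1 hp
  exact ⟨r, hrp, fun m => Module.mem_annihilator.1 hr m⟩

lemma subsingleton_tensor_of_smul_eq_zero (B : Type u) [CommRing B] [Algebra A B]
    (M : Type u) [AddCommGroup M] [Module A M] (f : A) (hf : IsUnit (algebraMap A B f))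
    (h : ∀ m : M, f • m = 0) : Subsingleton (B ⊗[A] M) := by
  refine subsingleton_of_forall_eq 0 (fun z => ?_)
  induction z using TensorProduct.induction_on with
  | zero => rfl
  | tmul b m =>
    obtain ⟨v, hv⟩ := hf
    have hb : b = f • (b * ((v⁻¹ : Bˣ) : B)) := by
      rw [Algebra.smul_def, ← hv, mul_comm b, ← mul_assoc, Units.mul_inv, one_mul]
    rw [hb, TensorProduct.smul_tmul, h, TensorProduct.tmul_zero]
  | add x y hx hy => rw [hx, hy, add_zero]

variable [IsNoetherianRing A]

/-- the map `A → M`, `1 ↦ m₀`, is bijective at `p` when `M_p` is free of rank one on `m₀/s`. -/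
lemma bijective_map_toSpanSingleton (M : Type u) [AddCommGroup M] [Module A M]
    (p : PrimeSpectrum A)
    (e : LocalizedModule p.asIdeal.primeCompl M ≃ₗ[Localization.AtPrime p.asIdeal]
      Localization.AtPrime p.asIdeal) (m₀ : M) (s : p.asIdeal.primeCompl)
    (hms : LocalizedModule.mkLinearMap p.asIdeal.primeCompl M m₀ = s • e.symm 1) :
    Function.Bijective (IsLocalizedModule.map p.asIdeal.primeCompl
      (Algebra.linearMap A (Localization.AtPrime p.asIdeal))
      (LocalizedModule.mkLinearMap p.asIdeal.primeCompl M)
      (LinearMap.toSpanSingleton A M m₀)) := by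
  let L := IsLocalizedModule.map p.asIdeal.primeCompl
    (Algebra.linearMap A (Localization.AtPrime p.asIdeal))
    (LocalizedModule.mkLinearMap p.asIdeal.primeCompl M) (LinearMap.toSpanSingleton A M m₀)
  change Function.Bijective L
  let eA : LocalizedModule p.asIdeal.primeCompl M ≃ₗ[A] Localization.AtPrime p.asIdeal :=
    e.restrictScalars A
  have hψ : eA.toLinearMap ∘ₗ L =
      (algebraMap A (Module.End A (Localization.AtPrime p.asIdeal)) (s : A)) := by
    apply IsLocalizedModule.linearMap_ext p.asIdeal.primeCompl
      (Algebra.linearMap A (Localization.AtPrime p.asIdeal))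
      (Algebra.linearMap A (Localization.AtPrime p.asIdeal))
    ext
    simp only [LinearMap.coe_comp, Function.comp_apply, Algebra.linearMap_apply, map_one,
      LinearEquiv.coe_coe]
    have h1 : L 1 = LocalizedModule.mkLinearMap p.asIdeal.primeCompl M m₀ := by
      have := IsLocalizedModule.map_apply p.asIdeal.primeCompl
        (Algebra.linearMap A (Localization.AtPrime p.asIdeal))
        (LocalizedModule.mkLinearMap p.asIdeal.primeCompl M) (LinearMap.toSpanSingleton A M m₀) 1
      simpa using this
    rw [h1, hms, Module.algebraMap_end_apply, Submonoid.smul_def, map_smul]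
    congr 1
    exact e.apply_symm_apply 1
  have hu : IsUnit (algebraMap A (Module.End A (Localization.AtPrime p.asIdeal)) (s : A)) :=
    IsLocalizedModule.map_units (Algebra.linearMap A (Localization.AtPrime p.asIdeal)) s
  have hb : Function.Bijective (eA.toLinearMap ∘ₗ L) := by
    rw [hψ]
    exact (Module.End.isUnit_iff _).1 hu
  have : (L : Localization.AtPrime p.asIdeal → LocalizedModule p.asIdeal.primeCompl M) =
      eA.symm ∘ (eA.toLinearMap ∘ₗ L) := by
    ext x
    simp
  rw [this]
  exact eA.symm.bijective.comp hb

theorem exists_away_iso_shift (ω : Dual.D A) (hω : Dual.IsDualizing A ω) (p : PrimeSpectrum A)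
    (hG : LocCoh.IsGorensteinLocalRing (Localization.AtPrime p.asIdeal)) :
    ∃ (f : A) (m : ℤ), f ∉ p.asIdeal ∧
      Nonempty ((bcD A (Localization.Away f)).obj ω ≅
        (Dual.inD (Localization.Away f) (Localization.Away f))⟦m⟧) := by
  classical
  obtain ⟨n, h1, ⟨e2⟩⟩ := exists_gorCond_of_isGorensteinLocalRing ω hω p hG
  obtain ⟨a, b, hab⟩ := hω.finite_injective_dimension
  have hfin : ∀ i, Module.Finite A (Dual.HD A ω i) := hω.finite_cohomology
  have hE : ∀ i : ℤ, (i < a ∨ b < i) → Subsingleton (Dual.HD A ω i) := fun i hi =>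
    (subsingleton_hom_inD_self_iff ω i).1 (hab A i hi)
  -- step A: kill the other cohomology modules
  have hA : ∃ g : A, g ∉ p.asIdeal ∧ ∀ i : ℤ, i ≠ n → ∀ x : Dual.HD A ω i, g • x = 0 := by
    have hr : ∀ i : ℤ, i ≠ n → ∃ r : A, r ∉ p.asIdeal ∧ ∀ x : Dual.HD A ω i, r • x = 0 :=
      fun i hi => by
        haveI := hfin i
        exact exists_notMem_smul_eq_zero _ p (h1 i hi)
    let r : ℤ → A := fun i => if hi : i ≠ n then (hr i hi).choose else 1
    have hr1 : ∀ i, r i ∉ p.asIdeal := fun i => by
      by_cases hi : i ≠ n
      · simp only [r, dif_pos hi]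
        exact (hr i hi).choose_spec.1
      · simp only [r, dif_neg hi]
        exact fun h => p.2.ne_top ((Ideal.eq_top_iff_one _).2 h)
    have hr2 : ∀ i (hi : i ≠ n) (x : Dual.HD A ω i), r i • x = 0 := fun i hi x => by
      simp only [r, dif_pos hi]
      exact (hr i hi).choose_spec.2 x
    refine ⟨∏ i ∈ Finset.Icc a b, r i, ?_, fun i hi x => ?_⟩
    · intro hmem
      haveI := p.2
      obtain ⟨i, -, hi⟩ := Ideal.IsPrime.prod_mem_iff.1 hmem
      exact hr1 i hi
    · by_cases hiab : i ∈ Finset.Icc a b
      · rw [← Finset.mul_prod_erase _ _ hiab, mul_comm, mul_smul, hr2 i hi x, smul_zero]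
      · haveI := hE i (by rw [Finset.mem_Icc] at hiab; omega)
        exact Subsingleton.elim _ _
  obtain ⟨g, hgp, hg⟩ := hA
  -- step C: the rank one part
  haveI := hfin n
  haveI : Module.FinitePresentation A (Dual.HD A ω n) := Module.finitePresentation_of_finite A _
  obtain ⟨⟨m₀, s⟩, hms⟩ := IsLocalizedModule.mk'_surjective p.asIdeal.primeCompl
    (LocalizedModule.mkLinearMap p.asIdeal.primeCompl (Dual.HD A ω n)) (e2.symm 1)
  have hms' : LocalizedModule.mkLinearMap p.asIdeal.primeCompl (Dual.HD A ω n) m₀ =
      s • e2.symm 1 := by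
    rw [← hms]
    exact (IsLocalizedModule.mk'_cancel' _ m₀ s).symm
  have hbij := bijective_map_toSpanSingleton (Dual.HD A ω n) p e2 m₀ s hms'
  obtain ⟨r, hrS, hr⟩ := exists_bijective_map_powers
    p.asIdeal.primeCompl (Algebra.linearMap A (Localization.AtPrime p.asIdeal))
    (LocalizedModule.mkLinearMap p.asIdeal.primeCompl (Dual.HD A ω n))
    (LinearMap.toSpanSingleton A (Dual.HD A ω n) m₀) hbij
  refine ⟨g * r, -n, ?_, ?_⟩
  · intro hmem
    rcases p.2.mem_or_mem hmem with h | h
    · exact hgp h
    · exact hrS h
  · set f := g * r with hf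
    have hunit : IsUnit (algebraMap A (Localization.Away f) f) :=
      IsLocalization.map_units (Localization.Away f) (⟨f, Submonoid.mem_powers f⟩ : Submonoid.powers f)
    have hsub : ∀ i : ℤ, i ≠ n →
        Subsingleton (Dual.HD (Localization.Away f) ((bcD A (Localization.Away f)).obj ω) i) := by
      intro i hi
      obtain ⟨e⟩ := nonempty_HD_bcD_linearEquiv (B := Localization.Away f) ω i
      haveI : Subsingleton (Localization.Away f ⊗[A] Dual.HD A ω i) :=
        subsingleton_tensor_of_smul_eq_zero (Localization.Away f) _ f hunit (fun x => by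
          rw [hf, mul_comm, mul_smul, hg i hi x, smul_zero])
      exact e.toEquiv.subsingleton
    obtain ⟨ea⟩ := nonempty_HD_bcD_linearEquiv (B := Localization.Away f) ω n
    let eb := LocalizedModule.equivTensorProduct (Submonoid.powers f) (Dual.HD A ω n)
    let ec : LocalizedModule (Submonoid.powers f) A ≃ₗ[Localization (Submonoid.powers f)]
        LocalizedModule (Submonoid.powers f) (Dual.HD A ω n) :=
      LinearEquiv.ofBijective (LocalizedModule.map (Submonoid.powers f)
        (LinearMap.toSpanSingleton A (Dual.HD A ω n) m₀)) (hr f (Dvd.intro_left g rfl))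
    let ed := LocalizedModule.equivTensorProduct (Submonoid.powers f) A
    let ee : Localization.Away f ⊗[A] A ≃ₗ[Localization.Away f] Localization.Away f :=
      TensorProduct.AlgebraTensorModule.rid A (Localization.Away f) (Localization.Away f)
    exact nonempty_iso_inD_shift_of_HD_single _ n (-n) (by omega) hsub (Localization.Away f)
      (ea.trans (eb.symm.trans (ec.symm.trans (ed.trans ee))))

end Ring

end Groth.Agent.Lib.GorDualSchL
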