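import Mathlib
import Groth.Prelude
import Groth.Agent.Lib.TildePC3_helper3
import Groth.Agent.Lib.GorDualSch1_lead
import Groth.Agent.Lib.GorDualSch2_lead
import Groth.Agent.Lib.SchDual2_helper6
import Groth.Agent.Lib.DMod90_helper6

/-!
# S3620: a locally Noetherian scheme with a dualizing complex `K` is Gorenstein iff `K` is an
invertible object of `D(O_X)` (lead)
-/

set_option autoImplicit false
set_option linter.all false
set_option maxHeartbeats 1600000
set_option backward.isDefEq.respectTransparency false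
set_option backward.isDefEq.respectTransparency.types false
set_option backward.defeqAttrib.useBackward true

universe u
open CategoryTheory CategoryTheory.Limits AlgebraicGeometry Opposite TopologicalSpace
open CategoryTheory.Pretriangulated
open scoped TensorProduct

attribute [local instance] HasDerivedCategory.standard

namespace Groth.Agent.Lib.GorDualSchL

open Groth.Agent.Lib.DCohLocLead DerivedCategory DRing Groth.Agent.Lib.DMod_helper6
  Groth.Agent.Lib.TildeAmpL Groth.Agent.Lib.TildePCH3 Groth.Agent.Lib.SchDual_helper6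

noncomputable section

/-- restriction along equal morphisms -/
def DDCongr' {Y X : Scheme.{u}} {j l : Y ⟶ X} [IsOpenImmersion j] [IsOpenImmersion l] (h : j = l)
    (K : DCoh.D X) : (DD j).obj K ≅ (DD l).obj K := by
  subst h
  exact Iso.refl _

/-- restriction of `O_X[0]` along an open immersion -/
def DDUnitIso {Y X : Scheme.{u}} (a : Y ⟶ X) [IsOpenImmersion a] :
    (DD a).obj (DCoh.inD X (Coh.structureModule X)) ≅ DCoh.inD Y (Coh.structureModule Y) :=
  ((Scheme.Modules.restrictFunctor a).mapDerivedCategorySingleFunctor 0).app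
      (Coh.structureModule X) ≪≫
    (DerivedCategory.singleFunctor _ 0).mapIso (Scheme.Modules.restrictUnitIso a)

/-- restriction of `O_X[n]` along an open immersion -/
def DDUnitShiftIso {Y X : Scheme.{u}} (a : Y ⟶ X) [IsOpenImmersion a] (n : ℤ) :
    (DD a).obj ((DCoh.inD X (Coh.structureModule X))⟦n⟧) ≅
      (DCoh.inD Y (Coh.structureModule Y))⟦n⟧ :=
  ((DD a).commShiftIso n).app _ ≪≫ (shiftFunctor _ n).mapIso (DDUnitIso a)

/-- `(R[0])~ = O[0]` -/
def tildeDUnitIso (R : CommRingCat.{u}) [PreservesFiniteLimits (tilde.functor R)] :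
    (DCoh.tildeD R).obj
        ((DerivedCategory.singleFunctor (ModuleCat.{u} R) 0).obj (ModuleCat.of R R)) ≅
      DCoh.inD (Spec (CommRingCat.of R)) (Coh.structureModule (Spec (CommRingCat.of R))) :=
  ((tilde.functor R).mapDerivedCategorySingleFunctor 0).app (ModuleCat.of R R) ≪≫
    (DerivedCategory.singleFunctor _ 0).mapIso (tildeSelf (R := R))

/-- `(R[n])~ = O[n]` -/
def tildeDUnitShiftIso (R : CommRingCat.{u}) [PreservesFiniteLimits (tilde.functor R)] (n : ℤ) :
    (DCoh.tildeD R).obj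
        (((DerivedCategory.singleFunctor (ModuleCat.{u} R) 0).obj (ModuleCat.of R R))⟦n⟧) ≅
      (DCoh.inD (Spec (CommRingCat.of R)) (Coh.structureModule (Spec (CommRingCat.of R))))⟦n⟧ :=
  ((DCoh.tildeD R).commShiftIso n).app _ ≪≫ (shiftFunctor _ n).mapIso (tildeDUnitIso R)

/-- transport of a local trivialisation from an open immersion to its range -/
theorem nonempty_iso_of_range {X Y : Scheme.{u}} (j : Y ⟶ X) [IsOpenImmersion j] (K : DCoh.D X)
    (n : ℤ)
    (h : Nonempty ((DD j).obj K ≅ (DCoh.inD Y (Coh.structureModule Y))⟦n⟧)) :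
    Nonempty ((DD j.opensRange.ι).obj K ≅
      (DCoh.inD (j.opensRange : Scheme.{u})
        (Coh.structureModule (j.opensRange : Scheme.{u})))⟦n⟧) := by
  obtain ⟨e⟩ := h
  let a : (j.opensRange : Scheme.{u}) ⟶ Y := j.isoOpensRange.inv
  have ha : a ≫ j = j.opensRange.ι := Scheme.Hom.isoOpensRange_inv_comp j
  obtain ⟨c1⟩ := nonempty_DD_comp_iso a j K
  exact ⟨(DDCongr' ha K).symm ≪≫ c1 ≪≫ (DD a).mapIso e ≪≫ DDUnitShiftIso a n⟩

/-- `(ω~)|_{D(f)} ≅ (ω_f)~` -/
theorem nonempty_DD_tildeD_away (A : Type u) [CommRing A] (f : A)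
    [PreservesFiniteLimits (tilde.functor (CommRingCat.of A))]
    [PreservesFiniteLimits (tilde.functor (CommRingCat.of (Localization.Away f)))]
    (ω : Dual.D A) :
    Nonempty ((DD (jAB A (Localization.Away f))).obj ((DCoh.tildeD (CommRingCat.of A)).obj ω) ≅
      (DCoh.tildeD (CommRingCat.of (Localization.Away f))).obj
        ((bcD A (Localization.Away f)).obj ω)) := by
  let C : Cx A := Q.objPreimage ω
  let eC : Q.obj C ≅ ω := Q.objObjPreimageIso ω
  exact ⟨(DD (jAB A (Localization.Away f))).mapIso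
      ((DCoh.tildeD (CommRingCat.of A)).mapIso eC.symm ≪≫ tdFac (CommRingCat.of A) C) ≪≫
    awayIso A C f ≪≫
    (tdFac (CommRingCat.of (Localization.Away f)) _).symm ≪≫
    (DCoh.tildeD (CommRingCat.of (Localization.Away f))).mapIso
      ((bcDIso C).symm ≪≫ (bcD A (Localization.Away f)).mapIso eC)⟩

section Main

variable (X : Scheme.{u}) [IsLocallyNoetherian X]
  [∀ (U V : Scheme.{u}) (j : U ⟶ V) [IsOpenImmersion j],
    PreservesFiniteLimits (Scheme.Modules.restrictFunctor j)]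
  [∀ (R : CommRingCat.{u}), PreservesFiniteLimits (tilde.functor R)]
  (K : DCoh.D X) (hK : Dual2.IsDualizingSch X K)

include hK

theorem isInvertibleD_of_isGorenstein (hX : Dual3.IsGorenstein X) : Dual3.IsInvertibleD K := by
  intro x
  obtain ⟨A, _, j, _, p, rfl⟩ := exists_chart X x
  haveI := isNoetherianRing_of_chart j
  obtain ⟨ω, hω, ⟨e⟩⟩ := hK A j
  obtain ⟨f, m, hfp, ⟨ι⟩⟩ := exists_away_iso_shift ω hω p (gorenstein_chart hX j p)
  obtain ⟨c1⟩ := nonempty_DD_comp_iso (jAB A (Localization.Away f)) j K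
  obtain ⟨c2⟩ := nonempty_DD_tildeD_away A f ω
  have c : (DD (jAB A (Localization.Away f) ≫ j)).obj K ≅
      (DCoh.inD (XA (Localization.Away f)) (Coh.structureModule (XA (Localization.Away f))))⟦m⟧ :=
    c1 ≪≫ (DD (jAB A (Localization.Away f))).mapIso e ≪≫ c2 ≪≫
      (DCoh.tildeD (CommRingCat.of (Localization.Away f))).mapIso ι ≪≫
      tildeDUnitShiftIso (CommRingCat.of (Localization.Away f)) m
  obtain ⟨d⟩ := nonempty_iso_of_range (jAB A (Localization.Away f) ≫ j) K m ⟨c⟩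
  refine ⟨(jAB A (Localization.Away f) ≫ j).opensRange, m, ?_, ⟨d⟩⟩
  have hp : p ∈ ((jAB A (Localization.Away f)).opensRange : Set (XA A)) := by
    rw [show (jAB A (Localization.Away f)).opensRange = PrimeSpectrum.basicOpen f from
      Scheme.Hom.opensRange_localizationAway (R := CommRingCat.of A) f]
    exact hfp
  obtain ⟨q, hq⟩ := hp
  exact ⟨q, by rw [Scheme.Hom.comp_base, TopCat.comp_app, hq]⟩

theorem isGorenstein_of_isInvertibleD (hinv : Dual3.IsInvertibleD K) : Dual3.IsGorenstein X := by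
  refine ⟨inferInstance, fun x => ?_⟩
  obtain ⟨U, n, hxU, ⟨ε⟩⟩ := hinv x
  obtain ⟨W, hW, hxW, hWU⟩ := Opens.isBasis_iff_nbhd.1 X.isBasis_affineOpens hxU
  have hW' : IsAffineOpen W := hW
  have hxr : x ∈ Set.range hW'.fromSpec.base := by rw [hW'.range_fromSpec]; exact hxW
  obtain ⟨p, rfl⟩ := hxr
  have hr : Set.range hW'.fromSpec.base ⊆ Set.range U.ι.base := by
    rw [hW'.range_fromSpec, Scheme.Opens.range_ι]
    exact hWU
  let l := IsOpenImmersion.lift U.ι hW'.fromSpec hr
  have hl : l ≫ U.ι = hW'.fromSpec := IsOpenImmersion.lift_fac _ _ _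
  haveI : IsOpenImmersion (l ≫ U.ι) := by rw [hl]; infer_instance
  haveI : IsOpenImmersion l := IsOpenImmersion.of_comp l U.ι
  haveI : IsNoetherianRing Γ(X, W) := isNoetherianRing_of_chart (A := Γ(X, W)) hW'.fromSpec
  obtain ⟨ω, hω, ⟨e⟩⟩ := hK Γ(X, W) hW'.fromSpec
  obtain ⟨c1⟩ := nonempty_DD_comp_iso l U.ι K
  have c : (DCoh.tildeD (CommRingCat.of Γ(X, W))).obj ω ≅
      (DCoh.tildeD (CommRingCat.of Γ(X, W))).obj ((Dual.inD Γ(X, W) Γ(X, W))⟦n⟧) :=
    e.symm ≪≫ (DDCongr' hl K).symm ≪≫ c1 ≪≫ (DD l).mapIso ε ≪≫ DDUnitShiftIso l n ≪≫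
      (tildeDUnitShiftIso (CommRingCat.of Γ(X, W)) n).symm
  haveI : (DCoh.tildeD (CommRingCat.of Γ(X, W))).Full :=
    (Groth.Agent.Lib.DSectX.main0997 (CommRingCat.of Γ(X, W))).1
  haveI : (DCoh.tildeD (CommRingCat.of Γ(X, W))).Faithful :=
    (Groth.Agent.Lib.DSectX.main0997 (CommRingCat.of Γ(X, W))).2.1
  have c' : ω ≅ (Dual.inD Γ(X, W) Γ(X, W))⟦n⟧ :=
    (DCoh.tildeD (CommRingCat.of Γ(X, W))).preimageIso c
  have h1 : Dual.IsDualizing Γ(X, W) ((Dual.inD Γ(X, W) Γ(X, W))⟦n⟧) := isDualizing_of_iso c' hω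
  have h2 := isDualizing_shift _ h1 (-n)
  have e4 : (((Dual.inD Γ(X, W) Γ(X, W))⟦n⟧)⟦-n⟧) ≅ Dual.inD Γ(X, W) Γ(X, W) :=
    shiftShiftIso _ n (-n) 0 (by omega) ≪≫ (shiftFunctorZero (Dual.D Γ(X, W)) ℤ).app _
  have h3 : Dual.IsDualizing Γ(X, W) (Dual.inD Γ(X, W) Γ(X, W)) := isDualizing_of_iso e4 h2
  have h4 := isDualizing_locD (Dual.inD Γ(X, W) Γ(X, W)) p.asIdeal h3
  haveI := isNoetherianRing_atPrime p.asIdeal
  let e1 : (bcD Γ(X, W) (Localization.AtPrime p.asIdeal)).obj (Dual.inD Γ(X, W) Γ(X, W)) ≅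
      Dual.inD (Localization.AtPrime p.asIdeal)
        ((Localization.AtPrime p.asIdeal) ⊗[Γ(X, W)] Γ(X, W)) := bcSingleIso Γ(X, W)
  let e2 : Dual.inD (Localization.AtPrime p.asIdeal)
        ((Localization.AtPrime p.asIdeal) ⊗[Γ(X, W)] Γ(X, W)) ≅
      Dual.inD (Localization.AtPrime p.asIdeal) (Localization.AtPrime p.asIdeal) :=
    inDIsoOfLinearEquiv (TensorProduct.AlgebraTensorModule.rid Γ(X, W)
      (Localization.AtPrime p.asIdeal) (Localization.AtPrime p.asIdeal))
  have h5 : Dual.IsDualizing (Localization.AtPrime p.asIdeal)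
      (Dual.inD (Localization.AtPrime p.asIdeal) (Localization.AtPrime p.asIdeal)) :=
    isDualizing_of_iso (e1 ≪≫ e2) h4
  haveI : LocCoh.IsGorensteinLocalRing (Localization.AtPrime p.asIdeal) :=
    (Groth.Agent.S11179.result (Localization.AtPrime p.asIdeal)).2 h5
  exact isGorensteinLocalRing_of_ringEquiv (stalkEquiv (A := Γ(X, W)) hW'.fromSpec p)

/-- **S3620** -/
theorem main3620 : Dual3.IsGorenstein X ↔ Dual3.IsInvertibleD K :=
  ⟨isInvertibleD_of_isGorenstein X K hK, isGorenstein_of_isInvertibleD X K hK⟩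

end Main

end

end Groth.Agent.Lib.GorDualSchL
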