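import Mathlib
import Groth.Prelude
import Groth.Agent.Lib.TildePC3_helper3
import Groth.Agent.Lib.GorDualSch3_lead
import Groth.Agent.Lib.LpullQC_lead
import Groth.Agent.Lib.DMod81_helper6

/-!
# S3662: being a dualizing complex on a locally Noetherian scheme is local on an affine cover (lead)

* `nonempty_DD_tildeD_bc` : `(ω~)|_{Spec B} ≅ (B ⊗ ω)~` for an open immersion `Spec B ⟶ Spec A`;
* `chart_localization`, `chart_of_range_eq` : transport of a dualizing chart along a localization
  which is an open immersion / along a change of chart with the same range;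
* `exists_common_basic` : a common basic open of two affine charts;
* `main3662`.
-/

set_option autoImplicit false
set_option linter.all false
set_option maxHeartbeats 1600000
set_option backward.isDefEq.respectTransparency false
set_option backward.isDefEq.respectTransparency.types false
set_option backward.defeqAttrib.useBackward true

universe u
open CategoryTheory CategoryTheory.Limits AlgebraicGeometry Opposite TopologicalSpace
open CategoryTheory.Pretriangulated
open scoped TensorProduct

attribute [local instance] HasDerivedCategory.standard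

namespace Groth.Agent.Lib.DualLocL

open Groth.Agent.Lib.DCohLocLead DerivedCategory DRing Groth.Agent.Lib.DMod_helper6
  Groth.Agent.Lib.TildeAmpL Groth.Agent.Lib.TildePCH3 Groth.Agent.Lib.SchDual_helper6
  Groth.Agent.Lib.GorDualSchL

noncomputable section

/-- `(ω~)|_{Spec B} ≅ (B ⊗_A ω)~` for a flat `A`-algebra `B` with `Spec B ⟶ Spec A` an open
immersion -/
theorem nonempty_DD_tildeD_bc (A B : Type u) [CommRing A] [CommRing B] [Algebra A B]
    [Module.Flat A B] [IsOpenImmersion (jAB A B)]
    [PreservesFiniteLimits (Scheme.Modules.restrictFunctor (jAB A B))]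
    [PreservesFiniteLimits (tilde.functor (CommRingCat.of A))]
    [PreservesFiniteLimits (tilde.functor (CommRingCat.of B))]
    (ω : Dual.D A) :
    Nonempty ((DD (jAB A B)).obj ((DCoh.tildeD (CommRingCat.of A)).obj ω) ≅
      (DCoh.tildeD (CommRingCat.of B)).obj ((bcD A B).obj ω)) := by
  let C : Cx A := Q.objPreimage ω
  let eC : Q.obj C ≅ ω := Q.objObjPreimageIso ω
  exact ⟨(DD (jAB A B)).mapIso
      ((DCoh.tildeD (CommRingCat.of A)).mapIso eC.symm ≪≫ tdFac (CommRingCat.of A) C) ≪≫
    facIso (jAB A B) _ ≪≫ Q.mapIso (resTildeCxIso A B C) ≪≫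
    (tdFac (CommRingCat.of B) _).symm ≪≫
    (DCoh.tildeD (CommRingCat.of B)).mapIso
      ((bcDIso C).symm ≪≫ (bcD A B).mapIso eC)⟩

section Sch

variable {X : Scheme.{u}}
  [∀ (U V : Scheme.{u}) (j : U ⟶ V) [IsOpenImmersion j],
    PreservesFiniteLimits (Scheme.Modules.restrictFunctor j)]
  [∀ (R : CommRingCat.{u}), PreservesFiniteLimits (tilde.functor R)]
  (K : DCoh.D X)

/-- transport of a dualizing chart to a localization which is an open immersion -/
theorem chart_localization {A B : Type u} [CommRing A] [CommRing B] [Algebra A B]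
    (S : Submonoid A) [IsLocalization S B] [IsOpenImmersion (jAB A B)]
    (j : Spec (CommRingCat.of A) ⟶ X) [IsOpenImmersion j]
    (h : ∃ ω : Dual.D A, Dual.IsDualizing A ω ∧
      Nonempty ((DD j).obj K ≅ (DCoh.tildeD (CommRingCat.of A)).obj ω)) :
    ∃ ω : Dual.D B, Dual.IsDualizing B ω ∧
      Nonempty ((DD (jAB A B ≫ j)).obj K ≅ (DCoh.tildeD (CommRingCat.of B)).obj ω) := by
  obtain ⟨ω, hω, ⟨e⟩⟩ := h
  haveI : Module.Flat A B := IsLocalization.flat B S
  haveI : IsNoetherianRing A := hω.isNoetherianRing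
  obtain ⟨c1⟩ := nonempty_DD_comp_iso (jAB A B) j K
  obtain ⟨c2⟩ := nonempty_DD_tildeD_bc A B ω
  exact ⟨(bcD A B).obj ω, isDualizing_bcD S ω hω,
    ⟨c1 ≪≫ (DD (jAB A B)).mapIso e ≪≫ c2⟩⟩

/-- transport of a dualizing chart to another chart with the same range -/
theorem chart_of_range_eq {A B : Type u} [CommRing A] [CommRing B]
    (j : Spec (CommRingCat.of A) ⟶ X) [IsOpenImmersion j]
    (a : Spec (CommRingCat.of B) ⟶ X) [IsOpenImmersion a]
    (hr : Set.range a.base = Set.range j.base)
    (h : ∃ ω : Dual.D A, Dual.IsDualizing A ω ∧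
      Nonempty ((DD j).obj K ≅ (DCoh.tildeD (CommRingCat.of A)).obj ω)) :
    ∃ ω : Dual.D B, Dual.IsDualizing B ω ∧
      Nonempty ((DD a).obj K ≅ (DCoh.tildeD (CommRingCat.of B)).obj ω) := by
  let θ : Spec (CommRingCat.of B) ≅ Spec (CommRingCat.of A) :=
    IsOpenImmersion.isoOfRangeEq a j hr
  have hθ : θ.hom ≫ j = a := IsOpenImmersion.isoOfRangeEq_hom_fac a j hr
  let φ : CommRingCat.of A ⟶ CommRingCat.of B := Spec.preimage θ.hom
  have hφ : Spec.map φ = θ.hom := Spec.map_preimage θ.hom
  letI : Algebra A B := φ.hom.toAlgebra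
  have hjAB : jAB A B = θ.hom := hφ
  haveI : IsIso (jAB A B) := by rw [hjAB]; infer_instance
  haveI : IsOpenImmersion (jAB A B) := inferInstance
  haveI h1 : IsIso (Scheme.Spec.map φ.op) := by
    show IsIso (Spec.map φ)
    rw [hφ]; infer_instance
  haveI h2 : IsIso φ.op := isIso_of_reflects_iso φ.op Scheme.Spec
  haveI h3 : IsIso φ := isIso_of_op φ
  have hbij : Function.Bijective (algebraMap A B) :=
    (ConcreteCategory.isIso_iff_bijective φ).1 h3
  haveI : IsLocalization (⊥ : Submonoid A) B := by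
    refine IsLocalization.of_le_isUnit_of_bijective ?_ hbij
    rintro _ ⟨x, hx, rfl⟩
    rw [SetLike.mem_coe, Submonoid.mem_bot] at hx
    subst hx
    rw [IsUnit.mem_submonoid_iff, map_one]
    exact isUnit_one
  obtain ⟨ω', hω', ⟨e'⟩⟩ := chart_localization K (B := B) (⊥ : Submonoid A) j h
  have hh : a = jAB A B ≫ j := by rw [hjAB, hθ]
  exact ⟨ω', hω', ⟨DDCongr' hh K ≪≫ e'⟩⟩

end Sch

section Basic

/-- the basic open of a chart cut out by a section on its range -/
theorem exists_basic_of_section {X : Scheme.{u}} {A : Type u} [CommRing A]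
    (a : Spec (CommRingCat.of A) ⟶ X) [IsOpenImmersion a] (s : Γ(X, a.opensRange)) :
    ∃ g : A, (∀ q : PrimeSpectrum A, a.base q ∈ X.basicOpen s → g ∉ q.asIdeal) ∧
      Set.range (jAB A (Localization.Away g) ≫ a).base = (X.basicOpen s : Set X) := by
  have e : (⊤ : (Spec (CommRingCat.of A)).Opens) ≤ a ⁻¹ᵁ a.opensRange := fun y _ => ⟨y, rfl⟩
  let g : A := (Scheme.ΓSpecIso (CommRingCat.of A)).hom (a.appLE a.opensRange ⊤ e s)
  have h1 : (Spec (CommRingCat.of A)).basicOpen (a.appLE a.opensRange ⊤ e s) =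
      ⊤ ⊓ a ⁻¹ᵁ (X.basicOpen s) := Scheme.basicOpen_appLE a ⊤ a.opensRange e s
  have h2 : (Spec (CommRingCat.of A)).basicOpen (a.appLE a.opensRange ⊤ e s) =
      PrimeSpectrum.basicOpen g := basicOpen_eq_of_affine' _
  have h3 : (PrimeSpectrum.basicOpen g : Set (PrimeSpectrum A)) =
      a.base ⁻¹' (X.basicOpen s : Set X) := by
    have := h2.symm.trans h1
    rw [top_inf_eq] at this
    exact congrArg (fun W : (Spec (CommRingCat.of A)).Opens => W.carrier) this
  refine ⟨g, fun q hq => ?_, ?_⟩
  · have : q ∈ (PrimeSpectrum.basicOpen g : Set (PrimeSpectrum A)) := by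
      rw [h3]; exact hq
    exact this
  · have h4 : Set.range (jAB A (Localization.Away g)).base =
        (PrimeSpectrum.basicOpen g : Set (PrimeSpectrum A)) := by
      have := Scheme.Hom.opensRange_localizationAway (R := CommRingCat.of A) g
      exact congrArg (fun W : (Spec (CommRingCat.of A)).Opens => W.carrier) this
    rw [Scheme.Hom.comp_base, TopCat.coe_comp, Set.range_comp, h4, h3,
      Set.image_preimage_eq_inter_range]
    apply Set.inter_eq_left.2
    intro x hx
    exact (X.basicOpen_le s) hx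

/-- two affine charts through a point have a common basic open around it -/
theorem exists_common_basic {X : Scheme.{u}} {A B : Type u} [CommRing A] [CommRing B]
    (a : Spec (CommRingCat.of A) ⟶ X) [IsOpenImmersion a]
    (b : Spec (CommRingCat.of B) ⟶ X) [IsOpenImmersion b]
    (p : PrimeSpectrum B) (q : PrimeSpectrum A) (hpq : b.base p = a.base q) :
    ∃ (f : B) (g : A), f ∉ p.asIdeal ∧
      Set.range (jAB B (Localization.Away f) ≫ b).base =
        Set.range (jAB A (Localization.Away g) ≫ a).base := by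
  have hU : IsAffineOpen b.opensRange := isAffineOpen_opensRange b
  have hV : IsAffineOpen a.opensRange := isAffineOpen_opensRange a
  have hx : b.base p ∈ b.opensRange ⊓ a.opensRange := ⟨⟨p, rfl⟩, ⟨q, hpq.symm⟩⟩
  obtain ⟨s, t, hst, hxs⟩ := exists_basicOpen_le_affine_inter hU hV (b.base p) hx
  obtain ⟨f, hf1, hf2⟩ := exists_basic_of_section b s
  obtain ⟨g, hg1, hg2⟩ := exists_basic_of_section a t
  exact ⟨f, g, hf1 p hxs, by rw [hf2, hg2, hst]⟩

end Basic

section Main

variable (X : Scheme.{u}) [IsLocallyNoetherian X]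
  [∀ (U V : Scheme.{u}) (j : U ⟶ V) [IsOpenImmersion j],
    PreservesFiniteLimits (Scheme.Modules.restrictFunctor j)]
  [∀ (R : CommRingCat.{u}), PreservesFiniteLimits (tilde.functor R)]
  (K : DCoh.D X)

/-- **S3662** -/
theorem main3662 (ι : Type u) (A : ι → Type u) [∀ i, CommRing (A i)]
    (j : ∀ i, Spec (CommRingCat.of (A i)) ⟶ X) [∀ i, IsOpenImmersion (j i)]
    (hcov : ∀ x : X, ∃ i, x ∈ Set.range (j i))
    (hK : ∀ i, ∃ ω : Dual.D (A i), Dual.IsDualizing (A i) ω ∧
      Nonempty ((DCoh.restrictD (j i)).obj K ≅ (DCoh.tildeD (CommRingCat.of (A i))).obj ω)) :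
    Dual2.IsDualizingSch X K := by
  intro B _ l _
  haveI : IsNoetherianRing B := isNoetherianRing_of_chart l
  -- `K` has quasi-coherent cohomology
  have hq : DCoh.IsQCohD K := by
    refine LpullQCL.isQCohD_of_cover K (fun i => (j i).opensRange) ?_ (fun i => ?_)
    · rw [eq_top_iff]
      intro x _
      obtain ⟨i, hi⟩ := hcov x
      exact Opens.mem_iSup.2 ⟨i, hi⟩
    · obtain ⟨ω, hω, ⟨e⟩⟩ := hK i
      let a := (j i).isoOpensRange.inv
      have ha : a ≫ j i = (j i).opensRange.ι := Scheme.Hom.isoOpensRange_inv_comp (j i)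
      obtain ⟨c1⟩ := nonempty_DD_comp_iso a (j i) K
      have h0 : DCoh.IsQCohD ((DCoh.tildeD (CommRingCat.of (A i))).obj ω) :=
        ((DSectX.main0997 (CommRingCat.of (A i))).2.2 _).2 ⟨ω, ⟨Iso.refl _⟩⟩
      have h1 : DCoh.IsQCohD ((DD (j i)).obj K) := DSectX.isQCohD_of_iso e.symm h0
      have h2 := LpullQCL.isQCohD_restrictD a _ h1
      exact DSectX.isQCohD_of_iso ((DDCongr' ha K).symm ≪≫ c1).symm h2
  have hq' : DCoh.IsQCohD ((DD l).obj K) := LpullQCL.isQCohD_restrictD l K hq
  obtain ⟨ω, ⟨c⟩⟩ := ((DSectX.main0997 (CommRingCat.of B)).2.2 _).1 hq'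
  refine ⟨ω, ?_, ⟨c.symm⟩⟩
  have hloc : ∀ p : PrimeSpectrum B, ∃ f : B, f ∉ p.asIdeal ∧
      Dual.IsDualizing (Localization.Away f) ((bcD B (Localization.Away f)).obj ω) := by
    intro p
    obtain ⟨i, q, hq0⟩ := hcov (l.base p)
    obtain ⟨f, g, hfp, hr⟩ := exists_common_basic (j i) l p q hq0.symm
    refine ⟨f, hfp, ?_⟩
    have h1 := chart_localization K (B := Localization.Away g) (Submonoid.powers g) (j i) (hK i)
    obtain ⟨ω₂, hω₂, ⟨e₂⟩⟩ := chart_of_range_eq K (jAB (A i) (Localization.Away g) ≫ j i)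
      (jAB B (Localization.Away f) ≫ l) hr h1
    obtain ⟨c1⟩ := nonempty_DD_comp_iso (jAB B (Localization.Away f)) l K
    obtain ⟨c2⟩ := nonempty_DD_tildeD_away B f ω
    have c3 : (DCoh.tildeD (CommRingCat.of (Localization.Away f))).obj ω₂ ≅
        (DCoh.tildeD (CommRingCat.of (Localization.Away f))).obj
          ((bcD B (Localization.Away f)).obj ω) :=
      e₂.symm ≪≫ c1 ≪≫ (DD (jAB B (Localization.Away f))).mapIso c.symm ≪≫ c2
    haveI : (DCoh.tildeD (CommRingCat.of (Localization.Away f))).Full :=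
      (Groth.Agent.Lib.DSectX.main0997 (CommRingCat.of (Localization.Away f))).1
    haveI : (DCoh.tildeD (CommRingCat.of (Localization.Away f))).Faithful :=
      (Groth.Agent.Lib.DSectX.main0997 (CommRingCat.of (Localization.Away f))).2.1
    exact isDualizing_of_iso
      ((DCoh.tildeD (CommRingCat.of (Localization.Away f))).preimageIso c3) hω₂
  obtain ⟨r, f, hf, hP⟩ := exists_fin_cover (A := B)
    (fun f => Dual.IsDualizing (Localization.Away f) ((bcD B (Localization.Away f)).obj ω)) hloc
  refine isDualizing_of_away_cover r f hf ω (fun k => ?_)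
  haveI : HasLBaseChange (algebraMap B (Localization.Away (f k))) :=
    LpullQCL.hasLBaseChange _
  obtain ⟨e⟩ := nonempty_lBaseChange_iso_bcD (A := B) (B := Localization.Away (f k))
  exact ⟨inferInstance, isDualizing_of_iso (e.app ω).symm (hP k)⟩

end Main

end

end Groth.Agent.Lib.DualLocL
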