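import Mathlib
import Groth.Prelude
import Groth.Agent.Lib.DualLoc1_lead
import Groth.Agent.Lib.GorBC2_helper2
import Groth.Agent.Lib.FibStalkIso_helper5
import Groth.Agent.Lib.LpullQC_lead

/-!
# S11144: `Lf^*` of a dualizing complex along a flat Gorenstein morphism of finite type (lead)

* `nonempty_fiberStalk_equiv` : the local ring of the fibre through `x` is the fibre local ring
  `B_Q / p B_Q` of the section rings of an affine pair;
* `nonempty_chart_Lpull` : `(Lf^*K)|_{Spec B} ≅ (ω ⊗^L B)~` on an affine pair;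
* `isDualizing_lBaseChange_chart`, `main11144`.
-/

set_option autoImplicit false
set_option linter.all false
set_option maxHeartbeats 1600000
set_option backward.isDefEq.respectTransparency false
set_option backward.isDefEq.respectTransparency.types false
set_option backward.defeqAttrib.useBackward true

universe u
open CategoryTheory CategoryTheory.Limits AlgebraicGeometry Opposite TopologicalSpace
open CategoryTheory.Pretriangulated
open scoped TensorProduct

attribute [local instance] HasDerivedCategory.standard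

namespace Groth.Agent.Lib.DualLocL

open Groth.Agent.Lib Groth.Agent.Lib.DCohLocLead DerivedCategory DRing Groth.Agent.Lib.DMod_helper6
  Groth.Agent.Lib.TildeAmpL Groth.Agent.Lib.TildePCH3 Groth.Agent.Lib.SchDual_helper6
  Groth.Agent.Lib.GorDualSchL Groth.Agent.FibStalkDimH8 Groth.Agent.FibStalkIso

noncomputable section

/-- the local ring of the fibre of `f` through `x` is `B_Q / p B_Q` for an affine pair
`x ∈ V = Spec B`, `V ⊆ f⁻¹ U`, `U = Spec A`. -/
theorem nonempty_fiberStalk_equiv {X Y : Scheme.{u}} (f : X ⟶ Y) {U : Y.Opens}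
    (hU : IsAffineOpen U) {V : X.Opens} (hV : IsAffineOpen V) (e : V ≤ f ⁻¹ᵁ U) (x : X)
    (hxV : x ∈ V) :
    letI : Algebra Γ(Y, U) Γ(X, V) := (f.appLE U V e).hom.toAlgebra
    haveI : (hV.primeIdealOf ⟨x, hxV⟩).asIdeal.IsPrime := (hV.primeIdealOf ⟨x, hxV⟩).isPrime
    Nonempty ((f.fiber (f x)).presheaf.stalk (f.asFiber x) ≃+*
      EGA4.FibLocRing Γ(Y, U) Γ(X, V) (hV.primeIdealOf ⟨x, hxV⟩).asIdeal) := by
  letI algAB : Algebra Γ(Y, U) Γ(X, V) := (f.appLE U V e).hom.toAlgebra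
  haveI hQp : (hV.primeIdealOf ⟨x, hxV⟩).asIdeal.IsPrime := (hV.primeIdealOf ⟨x, hxV⟩).isPrime
  show Nonempty (_ ≃+* EGA4.FibLocRing Γ(Y, U) Γ(X, V) (hV.primeIdealOf ⟨x, hxV⟩).asIdeal)
  set Q : Ideal Γ(X, V) := (hV.primeIdealOf ⟨x, hxV⟩).asIdeal with hQ
  have hfxU : f x ∈ U := e hxV
  set P : Ideal Γ(Y, U) := (hU.primeIdealOf ⟨f x, hfxU⟩).asIdeal with hP
  haveI hPp : P.IsPrime := (hU.primeIdealOf ⟨f x, hfxU⟩).isPrime
  have hcomap : Q.comap (algebraMap Γ(Y, U) Γ(X, V)) = P :=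
    congrArg PrimeSpectrum.asIdeal (IsAffineOpen.comap_primeIdealOf_appLE U hU V hV e hxV)
  letI : Algebra Γ(X, V) (X.presheaf.stalk x) :=
    TopCat.Presheaf.algebra_section_stalk X.presheaf ⟨x, hxV⟩
  haveI := hV.isLocalization_stalk ⟨x, hxV⟩
  let eX : Localization.AtPrime Q ≃ₐ[Γ(X, V)] X.presheaf.stalk x :=
    IsLocalization.algEquiv Q.primeCompl _ _
  letI : Algebra Γ(Y, U) (Y.presheaf.stalk (f x)) :=
    TopCat.Presheaf.algebra_section_stalk Y.presheaf ⟨f x, hfxU⟩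
  haveI := hU.isLocalization_stalk ⟨f x, hfxU⟩
  have hmax : P.map (algebraMap Γ(Y, U) (Y.presheaf.stalk (f x))) =
      IsLocalRing.maximalIdeal (Y.presheaf.stalk (f x)) :=
    IsLocalization.AtPrime.map_eq_maximalIdeal P (Y.presheaf.stalk (f x))
  have hsq : ((eX.toRingEquiv : Localization.AtPrime Q →+* X.presheaf.stalk x)).comp
        (algebraMap Γ(Y, U) (Localization.AtPrime Q)) =
      (f.stalkMap x).hom.comp (algebraMap Γ(Y, U) (Y.presheaf.stalk (f x))) := by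
    ext a
    have h1 : (eX.toRingEquiv : Localization.AtPrime Q →+* X.presheaf.stalk x)
        (algebraMap Γ(Y, U) (Localization.AtPrime Q) a) =
        algebraMap Γ(X, V) (X.presheaf.stalk x) (algebraMap Γ(Y, U) Γ(X, V) a) := by
      rw [IsScalarTower.algebraMap_apply Γ(Y, U) Γ(X, V) (Localization.AtPrime Q)]
      exact eX.commutes _
    rw [RingHom.comp_apply, h1, RingHom.comp_apply]
    show (X.presheaf.germ V x hxV).hom ((f.appLE U V e).hom a) =
      (f.stalkMap x).hom ((Y.presheaf.germ U (f x) hfxU).hom a)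
    erw [Scheme.Hom.germ_stalkMap_apply]
    simp only [Scheme.Hom.appLE, CommRingCat.hom_comp, RingHom.comp_apply,
      X.presheaf.germ_res_apply]
  have hI : fibIdeal f x =
      ((Q.comap (algebraMap Γ(Y, U) Γ(X, V))).map
        (algebraMap Γ(Y, U) (Localization.AtPrime Q))).map
        (eX.toRingEquiv : Localization.AtPrime Q →+* X.presheaf.stalk x) := by
    rw [Ideal.map_map, hcomap, hsq, ← Ideal.map_map, hmax]
  exact ⟨(fibStalkEquiv f x).symm.trans (Ideal.quotientEquiv _ _ eX.toRingEquiv hI).symm⟩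

section Sch

variable {X Y : Scheme.{u}}
  [∀ (U V : Scheme.{u}) (j : U ⟶ V) [IsOpenImmersion j],
    PreservesFiniteLimits (Scheme.Modules.restrictFunctor j)]
  [∀ (R : CommRingCat.{u}), PreservesFiniteLimits (tilde.functor R)]

/-- `(Lf^*K)|_{Spec B} ≅ (ω ⊗^L_A B)~` on an affine pair -/
theorem nonempty_chart_Lpull (f : X ⟶ Y) [DCoh.HasLpull f] (K : DCoh.D Y)
    {U : Y.Opens} (hU : IsAffineOpen U) {V : X.Opens} (hV : IsAffineOpen V) (e : V ≤ f ⁻¹ᵁ U)
    [DRing.HasLBaseChange (f.appLE U V e).hom]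
    (ω : Dual.D Γ(Y, U))
    (c : (DD hU.fromSpec).obj K ≅ (DCoh.tildeD (CommRingCat.of Γ(Y, U))).obj ω) :
    Nonempty ((DD hV.fromSpec).obj ((DCoh.Lpull f).obj K) ≅
      (DCoh.tildeD (CommRingCat.of Γ(X, V))).obj
        ((DRing.LBaseChange (f.appLE U V e).hom).obj ω)) := by
  let a := hV.fromSpec
  let b := hU.fromSpec
  let φ : Γ(Y, U) →+* Γ(X, V) := (f.appLE U V e).hom
  let g : Spec (CommRingCat.of Γ(X, V)) ⟶ Spec (CommRingCat.of Γ(Y, U)) :=
    Spec.map (CommRingCat.ofHom φ)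
  have hsq : g ≫ b = a ≫ f := IsAffineOpen.SpecMap_appLE_fromSpec f hU hV e
  haveI := LpullExH3.hasLpull a
  haveI := LpullExH3.hasLpull b
  haveI := LpullExH3.hasLpull g
  haveI := LpullExH3.hasLpull (a ≫ f)
  haveI := LpullExH3.hasLpull (g ≫ b)
  obtain ⟨e1⟩ := LpullQCL.lpull_comp_obj_iso a f K
  obtain ⟨e2⟩ := LpullQCL.lpull_comp_obj_iso g b K
  obtain ⟨e3⟩ := LpullLocH3.nonempty_Lpull_congr hsq
  obtain ⟨α⟩ := KFTildeL.nonempty_iso_1055 φ
  exact ⟨(LpullLocH3.restrictDIsoLpull a).app _ ≪≫ e1.symm ≪≫ (e3.app K).symm ≪≫ e2 ≪≫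
    (DCoh.Lpull g).mapIso (((LpullLocH3.restrictDIsoLpull b).app K).symm ≪≫ c) ≪≫
    (α.app ω).symm⟩

/-- the ring-level input: `ω ⊗^L_A B` is dualizing on an affine pair of a flat Gorenstein
morphism of finite type -/
theorem isDualizing_lBaseChange_chart [IsLocallyNoetherian X] (f : X ⟶ Y) [Flat f]
    [LocallyOfFiniteType f] (hf : Dual3.IsGorensteinMor f)
    {U : Y.Opens} (hU : IsAffineOpen U) {V : X.Opens} (hV : IsAffineOpen V) (e : V ≤ f ⁻¹ᵁ U)
    [DRing.HasLBaseChange (f.appLE U V e).hom]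
    (ω : Dual.D Γ(Y, U)) (hω : Dual.IsDualizing Γ(Y, U) ω) :
    Dual.IsDualizing Γ(X, V) ((DRing.LBaseChange (f.appLE U V e).hom).obj ω) := by
  letI algAB : Algebra Γ(Y, U) Γ(X, V) := (f.appLE U V e).hom.toAlgebra
  haveI : IsNoetherianRing Γ(Y, U) := hω.isNoetherianRing
  haveI : IsNoetherianRing Γ(X, V) := IsLocallyNoetherian.component_noetherian ⟨V, hV⟩
  haveI : Module.Flat Γ(Y, U) Γ(X, V) := Scheme.Hom.flat_appLE f hU hV e
  haveI : Algebra.FiniteType Γ(Y, U) Γ(X, V) := Scheme.Hom.finiteType_appLE f hU hV e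
  have key : ∀ (Q : Ideal Γ(X, V)) [Q.IsPrime] (x : X) (hxV : x ∈ V),
      (hV.primeIdealOf ⟨x, hxV⟩).asIdeal = Q →
      LocCoh.IsGorensteinLocalRing (EGA4.FibLocRing Γ(Y, U) Γ(X, V) Q) := by
    intro Q hQ x hxV hq
    subst hq
    obtain ⟨ε⟩ := nonempty_fiberStalk_equiv f hU hV e x hxV
    haveI := (hf x).2
    exact isGorensteinLocalRing_of_ringEquiv ε.symm
  have hG : ∀ (Q : Ideal Γ(X, V)) [Q.IsMaximal],
      LocCoh.IsGorensteinLocalRing (EGA4.FibLocRing Γ(Y, U) Γ(X, V) Q) := by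
    intro Q hQ
    let q : PrimeSpectrum Γ(X, V) := ⟨Q, hQ.isPrime⟩
    have hxV : hV.fromSpec.base q ∈ V := by
      have : hV.fromSpec.base q ∈ Set.range hV.fromSpec.base := ⟨q, rfl⟩
      rw [hV.range_fromSpec] at this
      exact this
    have hq : hV.primeIdealOf ⟨hV.fromSpec.base q, hxV⟩ = q := by
      apply hV.fromSpec.isOpenEmbedding.injective
      exact hV.fromSpec_primeIdealOf ⟨hV.fromSpec.base q, hxV⟩
    exact key Q (hV.fromSpec.base q) hxV (congrArg PrimeSpectrum.asIdeal hq)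
  obtain ⟨ee⟩ := nonempty_lBaseChange_iso_bcD (A := Γ(Y, U)) (B := Γ(X, V))
  exact isDualizing_of_iso (ee.app ω).symm
    (GorBC.isDualizing_bcD_of_gorenstein_fibres Γ(Y, U) Γ(X, V) ω hω hG
      (GorBC.ringKrullDim_lt_top_of_finiteType Γ(Y, U) Γ(X, V) ω hω))

/-- **S11144** -/
theorem main11144 [IsLocallyNoetherian X] [IsLocallyNoetherian Y] (f : X ⟶ Y) [Flat f]
    [LocallyOfFiniteType f] (hf : Dual3.IsGorensteinMor f) [DCoh.HasLpull f] (K : DCoh.D Y)
    (hK : Dual2.IsDualizingSch Y K) :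
    Dual2.IsDualizingSch X ((DCoh.Lpull f).obj K) := by
  let J := {V : X.affineOpens // ∃ U : Y.affineOpens, V.1 ≤ f ⁻¹ᵁ U.1}
  haveI : ∀ i : J, IsOpenImmersion (i.1.2.fromSpec) := fun i => inferInstance
  refine main3662 X _ J (fun i => Γ(X, i.1.1)) (fun i => i.1.2.fromSpec) ?_ ?_
  · intro x
    obtain ⟨U, hU, hyU, -⟩ := Opens.isBasis_iff_nbhd.mp Y.isBasis_affineOpens
      (show f x ∈ (⊤ : Y.Opens) from trivial)
    have hy : x ∈ f ⁻¹ᵁ U := hyU
    obtain ⟨V, hV, hxV, hVU⟩ := Opens.isBasis_iff_nbhd.mp X.isBasis_affineOpens hy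
    refine ⟨⟨⟨V, hV⟩, ⟨U, hU⟩, hVU⟩, ?_⟩
    have hV' : IsAffineOpen V := hV
    show x ∈ Set.range hV'.fromSpec.base
    rw [hV'.range_fromSpec]
    exact hxV
  · rintro ⟨⟨V, hV⟩, ⟨U, hU⟩, hVU⟩
    have hU' : IsAffineOpen U := hU
    have hV' : IsAffineOpen V := hV
    obtain ⟨ω, hω, ⟨c⟩⟩ := hK Γ(Y, U) hU'.fromSpec
    haveI := LpullQCL.hasLBaseChange (f.appLE U V hVU).hom
    obtain ⟨d⟩ := nonempty_chart_Lpull f K hU' hV' hVU ω c
    exact ⟨_, isDualizing_lBaseChange_chart f hf hU' hV' hVU ω hω, ⟨d⟩⟩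

end Sch

end

end Groth.Agent.Lib.DualLocL
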