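import Mathlib
import Groth.Prelude
import Groth.Agent.Lib.DualLoc2_lead
import Groth.Agent.Lib.FlatHom3_helper2

/-!
# S3628: for a surjective Gorenstein morphism of finite type, `K` is dualizing iff `Lf^*K` is (lead)

* `exists_surj_affine_pair` : for an open surjective `f`, every point of `Y` has an affine open
  neighbourhood `U` which is the image of an affine open `V ⊆ f⁻¹ U`;
* `faithfullyFlat_of_surjOn` : `Γ(U) ⟶ Γ(V)` is then faithfully flat (for flat `f`);
* `main3628`.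
-/

set_option autoImplicit false
set_option linter.all false
set_option maxHeartbeats 1600000
set_option backward.isDefEq.respectTransparency false
set_option backward.isDefEq.respectTransparency.types false
set_option backward.defeqAttrib.useBackward true

universe u
open CategoryTheory CategoryTheory.Limits AlgebraicGeometry Opposite TopologicalSpace
open CategoryTheory.Pretriangulated
open scoped TensorProduct

attribute [local instance] HasDerivedCategory.standard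

namespace Groth.Agent.Lib.DualLocL

open Groth.Agent.Lib Groth.Agent.Lib.DCohLocLead DerivedCategory DRing Groth.Agent.Lib.DMod_helper6
  Groth.Agent.Lib.TildeAmpL Groth.Agent.Lib.TildePCH3 Groth.Agent.Lib.SchDual_helper6
  Groth.Agent.Lib.GorDualSchL

noncomputable section

theorem exists_surj_affine_pair {X Y : Scheme.{u}} (f : X ⟶ Y) (hopen : IsOpenMap f.base)
    (hsurj : Function.Surjective f.base) (y : Y) :
    ∃ (U : Y.Opens) (V : X.Opens), IsAffineOpen U ∧ IsAffineOpen V ∧ y ∈ U ∧ V ≤ f ⁻¹ᵁ U ∧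
      (U : Set Y) ⊆ f.base '' (V : Set X) := by
  obtain ⟨x, rfl⟩ := hsurj y
  obtain ⟨U, hU, hyU, -⟩ := Opens.isBasis_iff_nbhd.mp Y.isBasis_affineOpens
    (show f.base x ∈ (⊤ : Y.Opens) from trivial)
  have hU' : IsAffineOpen U := hU
  have hx : x ∈ f ⁻¹ᵁ U := hyU
  obtain ⟨V, hV, hxV, hVU⟩ := Opens.isBasis_iff_nbhd.mp X.isBasis_affineOpens hx
  have hV' : IsAffineOpen V := hV
  let W : Y.Opens := ⟨f.base '' (V : Set X), hopen _ V.isOpen⟩
  have hyW : f.base x ∈ W := ⟨x, hxV, rfl⟩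
  obtain ⟨a, haW, hya⟩ := hU'.exists_basicOpen_le (V := W) ⟨f.base x, hyW⟩ hyU
  refine ⟨Y.basicOpen a, X.basicOpen (f.appLE U V hVU a), hU'.basicOpen a, hV'.basicOpen _, hya,
    ?_, ?_⟩
  · rw [Scheme.basicOpen_appLE]
    exact inf_le_right
  · intro y' hy'
    obtain ⟨x', hx'V, rfl⟩ := haW hy'
    refine ⟨x', ?_, rfl⟩
    rw [Scheme.basicOpen_appLE]
    exact ⟨hx'V, hy'⟩

theorem faithfullyFlat_of_surjOn {X Y : Scheme.{u}} (f : X ⟶ Y) [Flat f] {U : Y.Opens}
    (hU : IsAffineOpen U) {V : X.Opens} (hV : IsAffineOpen V) (e : V ≤ f ⁻¹ᵁ U)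
    (hs : (U : Set Y) ⊆ f.base '' (V : Set X)) :
    letI : Algebra Γ(Y, U) Γ(X, V) := (f.appLE U V e).hom.toAlgebra
    Module.FaithfullyFlat Γ(Y, U) Γ(X, V) := by
  letI : Algebra Γ(Y, U) Γ(X, V) := (f.appLE U V e).hom.toAlgebra
  show Module.FaithfullyFlat Γ(Y, U) Γ(X, V)
  have h : (f.appLE U V e).hom.FaithfullyFlat := by
    rw [RingHom.FaithfullyFlat.iff_flat_and_comap_surjective]
    refine ⟨Scheme.Hom.flat_appLE f hU hV e, fun p => ?_⟩
    have hy : hU.fromSpec.base p ∈ U := by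
      have : hU.fromSpec.base p ∈ Set.range hU.fromSpec.base := ⟨p, rfl⟩
      rw [hU.range_fromSpec] at this
      exact this
    obtain ⟨x, hxV, hfx⟩ := hs hy
    refine ⟨hV.primeIdealOf ⟨x, hxV⟩, ?_⟩
    have h1 := IsAffineOpen.comap_primeIdealOf_appLE U hU V hV e hxV
    refine h1.trans ?_
    apply hU.fromSpec.isOpenEmbedding.injective
    refine (hU.fromSpec_primeIdealOf ⟨f x, e hxV⟩).trans ?_
    exact hfx
  exact h

section Sch

variable {X Y : Scheme.{u}}
  [∀ (U V : Scheme.{u}) (j : U ⟶ V) [IsOpenImmersion j],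
    PreservesFiniteLimits (Scheme.Modules.restrictFunctor j)]
  [∀ (R : CommRingCat.{u}), PreservesFiniteLimits (tilde.functor R)]

/-- **S3628** -/
theorem main3628 [IsLocallyNoetherian X] [IsLocallyNoetherian Y] (f : X ⟶ Y) [Surjective f]
    [LocallyOfFiniteType f] (hf : Dual3.IsGorensteinMor f) [DCoh.HasLpull f] (K : DCoh.D Y)
    (hKq : DCoh.IsQCohD K) :
    Dual2.IsDualizingSch Y K ↔ Dual2.IsDualizingSch X ((DCoh.Lpull f).obj K) := by
  haveI : Flat f := (Flat.iff_flat_stalkMap f).2 (fun x => (hf x).1)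
  refine ⟨main11144 f hf K, fun hX => ?_⟩
  haveI : LocallyOfFinitePresentation f :=
    LocallyOfFinitePresentation.iff_locallyOfFiniteType.2 inferInstance
  have hopen : IsOpenMap f.base := f.isOpenMap
  let J := {p : X.affineOpens × Y.affineOpens //
    p.1.1 ≤ f ⁻¹ᵁ p.2.1 ∧ (p.2.1 : Set Y) ⊆ f.base '' (p.1.1 : Set X)}
  haveI : ∀ i : J, IsOpenImmersion (i.1.2.2.fromSpec) := fun i => inferInstance
  refine main3662 Y K J (fun i => Γ(Y, i.1.2.1)) (fun i => i.1.2.2.fromSpec) ?_ ?_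
  · intro y
    obtain ⟨U, V, hU, hV, hyU, hVU, hs⟩ := exists_surj_affine_pair f hopen f.surjective y
    refine ⟨⟨(⟨V, hV⟩, ⟨U, hU⟩), hVU, hs⟩, ?_⟩
    show y ∈ Set.range hU.fromSpec.base
    rw [hU.range_fromSpec]
    exact hyU
  · rintro ⟨⟨⟨V, hV⟩, ⟨U, hU⟩⟩, hVU, hs⟩
    have hU' : IsAffineOpen U := hU
    have hV' : IsAffineOpen V := hV
    have hVU' : V ≤ f ⁻¹ᵁ U := hVU
    have hs' : (U : Set Y) ⊆ f.base '' (V : Set X) := hs
    letI algAB : Algebra Γ(Y, U) Γ(X, V) := (f.appLE U V hVU').hom.toAlgebra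
    haveI : IsNoetherianRing Γ(Y, U) := IsLocallyNoetherian.component_noetherian ⟨U, hU'⟩
    haveI : IsNoetherianRing Γ(X, V) := IsLocallyNoetherian.component_noetherian ⟨V, hV'⟩
    haveI : Module.Flat Γ(Y, U) Γ(X, V) := Scheme.Hom.flat_appLE f hU' hV' hVU'
    haveI : Module.FaithfullyFlat Γ(Y, U) Γ(X, V) := faithfullyFlat_of_surjOn f hU' hV' hVU' hs'
    have hq' : DCoh.IsQCohD ((DD hU'.fromSpec).obj K) := LpullQCL.isQCohD_restrictD _ K hKq
    obtain ⟨ω, ⟨c⟩⟩ := ((DSectX.main0997 (CommRingCat.of Γ(Y, U))).2.2 _).1 hq'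
    haveI := LpullQCL.hasLBaseChange (f.appLE U V hVU').hom
    obtain ⟨d⟩ := nonempty_chart_Lpull f K hU' hV' hVU' ω c.symm
    obtain ⟨ωV, hωV, ⟨cV⟩⟩ := hX Γ(X, V) hV'.fromSpec
    haveI : (DCoh.tildeD (CommRingCat.of Γ(X, V))).Full :=
      (Groth.Agent.Lib.DSectX.main0997 (CommRingCat.of Γ(X, V))).1
    haveI : (DCoh.tildeD (CommRingCat.of Γ(X, V))).Faithful :=
      (Groth.Agent.Lib.DSectX.main0997 (CommRingCat.of Γ(X, V))).2.1
    have i1 : (DRing.LBaseChange (f.appLE U V hVU').hom).obj ω ≅ ωV :=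
      (DCoh.tildeD (CommRingCat.of Γ(X, V))).preimageIso (d.symm ≪≫ cV)
    have h1 : Dual.IsDualizing Γ(X, V) ((DRing.LBaseChange (f.appLE U V hVU').hom).obj ω) :=
      isDualizing_of_iso i1.symm hωV
    obtain ⟨ee⟩ := nonempty_lBaseChange_iso_bcD (A := Γ(Y, U)) (B := Γ(X, V))
    have h2 : Dual.IsDualizing Γ(X, V) ((bcD Γ(Y, U) Γ(X, V)).obj ω) :=
      isDualizing_of_iso (ee.app ω) h1
    exact ⟨ω, Groth.Agent.Lib.FlatHom.isDualizing_of_bcD ω h2, ⟨c.symm⟩⟩

end Sch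

end

end Groth.Agent.Lib.DualLocL
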