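import Mathlib
import Groth.Prelude
import Groth.Agent.Lib.DualLoc3_lead
import Groth.Agent.Lib.LCIBC_helper2

/-!
# S3629: for a surjective flat lci morphism, `K` is dualizing iff `Lf^*K` is (lead)

A flat local complete intersection morphism is a Gorenstein morphism locally of finite type.
-/

set_option autoImplicit false
set_option linter.all false
set_option maxHeartbeats 1600000
set_option backward.isDefEq.respectTransparency false
set_option backward.isDefEq.respectTransparency.types false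
set_option backward.defeqAttrib.useBackward true

universe u
open CategoryTheory CategoryTheory.Limits AlgebraicGeometry Opposite TopologicalSpace
open CategoryTheory.Pretriangulated
open scoped TensorProduct

attribute [local instance] HasDerivedCategory.standard

namespace Groth.Agent.Lib.DualLocL

open Groth.Agent.Lib Groth.Agent.Lib.DCohLocLead DerivedCategory DRing Groth.Agent.Lib.DMod_helper6
  Groth.Agent.Lib.TildeAmpL Groth.Agent.Lib.TildePCH3 Groth.Agent.Lib.SchDual_helper6
  Groth.Agent.Lib.GorDualSchL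

noncomputable section

theorem locallyOfFiniteType_of_isLCIMor {X Y : Scheme.{u}} (f : X ⟶ Y) (hf : Dual3.IsLCIMor f) :
    LocallyOfFiniteType f := by
  rw [HasRingHomProperty.iff_exists_appLE (P := @LocallyOfFiniteType)
    (RingHom.finiteType_stableUnderComposition.stableUnderCompositionWithLocalizationAway
      RingHom.finiteType_holdsForLocalizationAway).left]
  intro x
  obtain ⟨U, V, e, hxU, hlci⟩ := hf x
  exact ⟨V, U, hxU, e, hlci.1⟩

theorem isGorensteinMor_of_flat_isLCIMor {X Y : Scheme.{u}} (f : X ⟶ Y) [Flat f]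
    (hf : Dual3.IsLCIMor f) : Dual3.IsGorensteinMor f := by
  intro x
  obtain ⟨U, V, e, hxU, hlci⟩ := hf x
  refine ⟨Flat.stalkMap f x, ?_⟩
  letI algAB : Algebra Γ(Y, V.1) Γ(X, U.1) := (f.appLE V.1 U.1 e).hom.toAlgebra
  haveI : Module.Flat Γ(Y, V.1) Γ(X, U.1) := Scheme.Hom.flat_appLE f V.2 U.2 e
  have hlci' : LCI.IsLCI Γ(Y, V.1) Γ(X, U.1) := hlci
  haveI hQp : (U.2.primeIdealOf ⟨x, hxU⟩).asIdeal.IsPrime := (U.2.primeIdealOf ⟨x, hxU⟩).isPrime
  haveI : LocCoh.IsGorensteinRing
      (((U.2.primeIdealOf ⟨x, hxU⟩).asIdeal.comap (algebraMap Γ(Y, V.1) Γ(X, U.1))).Fiber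
        Γ(X, U.1)) :=
    Groth.Agent.GorFlat9.isGorRing_of_ringEquiv
      (Algebra.TensorProduct.comm Γ(Y, V.1) Γ(X, U.1)
        ((U.2.primeIdealOf ⟨x, hxU⟩).asIdeal.comap
          (algebraMap Γ(Y, V.1) Γ(X, U.1))).ResidueField).toRingEquiv
      (Groth.Agent.Lib.LCIBC.S1830_main Γ(Y, V.1) Γ(X, U.1) hlci'
        ⟨(U.2.primeIdealOf ⟨x, hxU⟩).asIdeal.comap (algebraMap Γ(Y, V.1) Γ(X, U.1)),
          inferInstance⟩)
  haveI hG := Groth.Agent.GorFlat9.isGor_fibLocRing_of_fiber Γ(Y, V.1) Γ(X, U.1)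
    (U.2.primeIdealOf ⟨x, hxU⟩).asIdeal
  obtain ⟨ε⟩ := nonempty_fiberStalk_equiv f V.2 U.2 e x hxU
  exact isGorensteinLocalRing_of_ringEquiv ε

section Sch

variable {X Y : Scheme.{u}}
  [∀ (U V : Scheme.{u}) (j : U ⟶ V) [IsOpenImmersion j],
    PreservesFiniteLimits (Scheme.Modules.restrictFunctor j)]
  [∀ (R : CommRingCat.{u}), PreservesFiniteLimits (tilde.functor R)]

/-- **S3629** -/
theorem main3629 [IsLocallyNoetherian X] [IsLocallyNoetherian Y] (f : X ⟶ Y) [Surjective f]
    [Flat f] (hf : Dual3.IsLCIMor f) [DCoh.HasLpull f] (K : DCoh.D Y)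
    (hKq : DCoh.IsQCohD K) :
    Dual2.IsDualizingSch Y K ↔ Dual2.IsDualizingSch X ((DCoh.Lpull f).obj K) := by
  haveI := locallyOfFiniteType_of_isLCIMor f hf
  exact main3628 f (isGorensteinMor_of_flat_isLCIMor f hf) K hKq

end Sch

end

end Groth.Agent.Lib.DualLocL
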