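import Mathlib

/-! A nonzero ideal with a finite free resolution over a Noetherian ring contains a
non-zero-divisor (Auslander–Buchsbaum / Vasconcelos). helper1. -/

set_option autoImplicit false

universe u

namespace Groth.Agent.Lib.FFRnzdH1

open Matrix TensorProduct

section loc

variable {R : Type*} [CommRing R] (M : Submonoid R) (S : Type*) [CommRing S] [Algebra R S]
  [IsLocalization M S]

include M

theorem exists_clear {b : ℕ} (w : Fin b → S) :
    ∃ (s : M) (v : Fin b → R), ∀ j, algebraMap R S (v j) = algebraMap R S s * w j := by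
  obtain ⟨s, hs⟩ := IsLocalization.exist_integer_multiples_of_finite M w
  have hs' : ∀ j, ∃ x : R, algebraMap R S x = (s : R) • w j := fun j => RingHom.mem_rangeS.mp (hs j)
  choose v hv using hs'
  refine ⟨s, v, fun j => ?_⟩
  rw [hv j, Algebra.smul_def]

omit M [IsLocalization M S] in
theorem mulVec_map_comp {a b : ℕ} (A : Matrix (Fin a) (Fin b) R) (v : Fin b → R) :
    (A.map (algebraMap R S)).mulVec (fun j => algebraMap R S (v j))
      = fun i => algebraMap R S (A.mulVec v i) := by
  funext i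
  exact (RingHom.map_mulVec (algebraMap R S) A v i).symm

theorem exists_kill {a : ℕ} (v : Fin a → R) (hv : ∀ i, algebraMap R S (v i) = 0) :
    ∃ t : M, ∀ i, (t : R) * v i = 0 := by
  classical
  have h1 : ∀ i, ∃ m : M, (m : R) * v i = 0 :=
    fun i => (IsLocalization.map_eq_zero_iff M S (v i)).mp (hv i)
  choose m hm using h1
  refine ⟨∏ i, m i, fun i => ?_⟩
  obtain ⟨c, hc⟩ := Finset.dvd_prod_of_mem m (Finset.mem_univ i)
  rw [hc, Submonoid.coe_mul, mul_comm ((m i : M) : R), mul_assoc, hm i, mul_zero]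

theorem loc_exact {a b c : ℕ} (A : Matrix (Fin a) (Fin b) R) (B : Matrix (Fin b) (Fin c) R)
    (h : LinearMap.ker A.mulVecLin = LinearMap.range B.mulVecLin) :
    LinearMap.ker (A.map (algebraMap R S)).mulVecLin
      = LinearMap.range (B.map (algebraMap R S)).mulVecLin := by
  apply le_antisymm
  · intro w hw
    rw [LinearMap.mem_ker, Matrix.mulVecLin_apply] at hw
    obtain ⟨s, v, hv⟩ := exists_clear M S w
    have hv' : (fun j => algebraMap R S (v j)) = algebraMap R S s • w := by
      funext j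
      rw [hv j]
      rfl
    have h1 : ∀ i, algebraMap R S (A.mulVec v i) = 0 := by
      intro i
      have h2 := congrFun (mulVec_map_comp S A v) i
      rw [hv', Matrix.mulVec_smul, hw, smul_zero] at h2
      exact h2.symm
    obtain ⟨t, ht⟩ := exists_kill M S (A.mulVec v) h1
    have h2 : ((t : R) • v) ∈ LinearMap.ker A.mulVecLin := by
      rw [LinearMap.mem_ker, Matrix.mulVecLin_apply, Matrix.mulVec_smul]
      funext i
      exact ht i
    rw [h] at h2
    obtain ⟨u', hu'⟩ := h2
    rw [Matrix.mulVecLin_apply] at hu'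
    obtain ⟨us, hus⟩ := IsLocalization.map_units S s
    obtain ⟨ut, hut⟩ := IsLocalization.map_units S t
    refine ⟨((us⁻¹ * ut⁻¹ : Sˣ) : S) • (fun l => algebraMap R S (u' l)), ?_⟩
    rw [Matrix.mulVecLin_apply, Matrix.mulVec_smul, mulVec_map_comp S B u', hu']
    funext j
    show ((us⁻¹ * ut⁻¹ : Sˣ) : S) * algebraMap R S (((t : R) • v) j) = w j
    rw [Pi.smul_apply, smul_eq_mul, map_mul, hv j, ← hus, ← hut, Units.val_mul]
    calc ((us⁻¹ : Sˣ) : S) * ((ut⁻¹ : Sˣ) : S) * ((ut : S) * ((us : S) * w j))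
        = (((us⁻¹ : Sˣ) : S) * (us : S)) * ((((ut⁻¹ : Sˣ) : S)) * (ut : S)) * w j := by ring
      _ = w j := by rw [Units.inv_mul, Units.inv_mul, one_mul, one_mul]
  · rintro w ⟨u, rfl⟩
    rw [LinearMap.mem_ker, Matrix.mulVecLin_apply, Matrix.mulVecLin_apply]
    obtain ⟨s, u', hu'⟩ := exists_clear M S u
    have hu'' : (fun j => algebraMap R S (u' j)) = algebraMap R S s • u := by
      funext j
      rw [hu' j]
      rfl
    have h1 : A.mulVec (B.mulVec u') = 0 := by
      have h3 : B.mulVec u' ∈ LinearMap.ker A.mulVecLin := by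
        rw [h]
        exact ⟨u', rfl⟩
      exact h3
    have h2 : algebraMap R S s •
        (A.map (algebraMap R S)).mulVec ((B.map (algebraMap R S)).mulVec u) = 0 := by
      rw [← Matrix.mulVec_smul, ← Matrix.mulVec_smul, ← hu'', mulVec_map_comp S B u',
        mulVec_map_comp S A (B.mulVec u'), h1]
      funext i
      simp
    exact (IsLocalization.map_units S s).smul_eq_zero.mp h2

omit M [IsLocalization M S] in
theorem range_fin0 {A' : Type*} [CommRing A'] {b : ℕ} (B : Matrix (Fin b) (Fin 0) A') :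
    LinearMap.range B.mulVecLin = ⊥ := by
  rw [eq_bot_iff]
  rintro _ ⟨u, rfl⟩
  have : u = 0 := Subsingleton.elim _ _
  rw [this, map_zero]
  exact zero_mem _

theorem loc_inj {a b : ℕ} (A : Matrix (Fin a) (Fin b) R)
    (h : LinearMap.ker A.mulVecLin = ⊥) :
    LinearMap.ker (A.map (algebraMap R S)).mulVecLin = ⊥ := by
  have h1 := loc_exact M S A (0 : Matrix (Fin b) (Fin 0) R) (by rw [h, range_fin0])
  rw [h1, range_fin0]

end loc

section depth0

variable {S : Type u} [CommRing S] [IsLocalRing S] (x₀ : S) (hx₀ : x₀ ≠ 0)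
  (hx : ∀ s ∈ IsLocalRing.maximalIdeal S, s * x₀ = 0)

include hx₀ in
theorem mem_max_of_mul_eq_zero (d : S) (hd : x₀ * d = 0) : d ∈ IsLocalRing.maximalIdeal S := by
  by_contra hnot
  rw [IsLocalRing.mem_maximalIdeal, mem_nonunits_iff, not_not] at hnot
  obtain ⟨u, rfl⟩ := hnot
  exact hx₀ ((Units.mul_left_eq_zero u).mp hd)

include hx₀ hx in
theorem lTensor_inj {F : Type u} [AddCommGroup F] [Module S F] [Module.Free S F]
    [Module.Finite S F] (K : Submodule S F) [Module.Free S K] [Module.Finite S K] :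
    Function.Injective (K.subtype.lTensor (IsLocalRing.ResidueField S)) := by
  classical
  rw [injective_iff_map_eq_zero]
  intro z hz
  obtain ⟨v, rfl⟩ := TensorProduct.mk_surjective S K (IsLocalRing.ResidueField S)
    Ideal.Quotient.mk_surjective z
  have hz' : (1 : IsLocalRing.ResidueField S) ⊗ₜ[S] (v : F) = 0 := by simpa using hz
  let bF := Module.Free.chooseBasis S F
  have hcoord : ∀ j, bF.repr (v : F) j ∈ IsLocalRing.maximalIdeal S := by
    intro j
    let c : F →ₗ[S] S := (Finsupp.lapply j).comp bF.repr.toLinearMap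
    have h1 := congrArg (fun t => TensorProduct.rid S _
      (LinearMap.lTensor (IsLocalRing.ResidueField S) c t)) hz'
    simp only [LinearMap.lTensor_tmul, TensorProduct.rid_tmul, map_zero] at h1
    rw [Algebra.smul_def, mul_one, IsLocalRing.ResidueField.algebraMap_eq,
      IsLocalRing.residue_eq_zero_iff] at h1
    exact h1
  have hxv : x₀ • (v : F) = 0 := by
    apply bF.repr.injective
    ext j
    rw [map_smul, map_zero, Finsupp.smul_apply, Finsupp.zero_apply, smul_eq_mul, mul_comm]
    exact hx _ (hcoord j)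
  have hxv' : x₀ • v = 0 := Subtype.ext hxv
  let bK := Module.Free.chooseBasis S K
  have hcoordK : ∀ i, bK.repr v i ∈ IsLocalRing.maximalIdeal S := by
    intro i
    apply mem_max_of_mul_eq_zero x₀ hx₀
    have h2 := congrArg (fun t => bK.repr t i) hxv'
    simpa using h2
  have hv : v = ∑ i, bK.repr v i • bK i := (bK.sum_repr v).symm
  rw [hv, map_sum]
  refine Finset.sum_eq_zero (fun i _ => ?_)
  show (1 : IsLocalRing.ResidueField S) ⊗ₜ[S] (bK.repr v i • bK i) = 0
  rw [← TensorProduct.smul_tmul, Algebra.smul_def, mul_one,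
    IsLocalRing.ResidueField.algebraMap_eq,
    (IsLocalRing.residue_eq_zero_iff _).mpr (hcoordK i), TensorProduct.zero_tmul]

include hx₀ hx in
theorem quot_free {F : Type u} [AddCommGroup F] [Module S F] [Module.Free S F]
    [Module.Finite S F] (K : Submodule S F) [Module.Free S K] [Module.Finite S K] :
    Module.Free S (F ⧸ K) ∧
      Module.finrank S F = Module.finrank S K + Module.finrank S (F ⧸ K) := by
  have hfree : Module.Free S (F ⧸ K) :=
    Module.free_of_lTensor_residueField_injective K.subtype K.mkQ (Submodule.mkQ_surjective K)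
      (LinearMap.exact_subtype_mkQ K) (lTensor_inj x₀ hx₀ hx K)
  refine ⟨hfree, ?_⟩
  haveI := hfree
  obtain ⟨l, hl⟩ := Module.projective_lifting_property K.mkQ LinearMap.id
    (Submodule.mkQ_surjective K)
  have e := ((LinearMap.exact_subtype_mkQ K).splitSurjectiveEquiv K.injective_subtype
    ⟨l, hl⟩).1
  rw [e.finrank_eq, Module.finrank_prod]

/-- alternating sum of the ranks -/
def chi (n : ℕ → ℕ) (e : ℕ) : ℤ := ∑ j ∈ Finset.range (e + 1), (-1 : ℤ) ^ j * (n j : ℤ)

theorem chi_succ (n : ℕ → ℕ) (e : ℕ) :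
    chi n (e + 1) = (n 0 : ℤ) - chi (fun i => n (i + 1)) e := by
  unfold chi
  rw [Finset.sum_range_succ' _ (e + 1)]
  simp only [pow_zero, one_mul, pow_succ, mul_neg, mul_one, neg_mul]
  rw [Finset.sum_neg_distrib]
  ring

theorem chi_zero (n : ℕ → ℕ) : chi n 0 = (n 0 : ℤ) := by
  simp [chi]

include hx₀ hx in
theorem local_free (e : ℕ) : ∀ (n : ℕ → ℕ)
    (A : (i : ℕ) → Matrix (Fin (n i)) (Fin (n (i + 1))) S),
    (∀ i, i + 2 ≤ e + 1 →
      LinearMap.ker (A i).mulVecLin = LinearMap.range (A (i + 1)).mulVecLin) →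
    (LinearMap.ker (A e).mulVecLin = ⊥) →
    Module.Free S ((Fin (n 0) → S) ⧸ LinearMap.range (A 0).mulVecLin) ∧
    (Module.finrank S ((Fin (n 0) → S) ⧸ LinearMap.range (A 0).mulVecLin) : ℤ)
      = chi n (e + 1) := by
  induction e with
  | zero =>
    intro n A _ hinj
    let eq1 : (Fin (n 1) → S) ≃ₗ[S] LinearMap.range (A 0).mulVecLin :=
      LinearEquiv.ofInjective (A 0).mulVecLin (LinearMap.ker_eq_bot.mp hinj)
    haveI : Module.Free S (LinearMap.range (A 0).mulVecLin) := Module.Free.of_equiv eq1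
    haveI : Module.Finite S (LinearMap.range (A 0).mulVecLin) := Module.Finite.equiv eq1
    obtain ⟨hfree, hrank⟩ := quot_free x₀ hx₀ hx (LinearMap.range (A 0).mulVecLin)
    refine ⟨hfree, ?_⟩
    rw [← eq1.finrank_eq, Module.finrank_fin_fun, Module.finrank_fin_fun] at hrank
    rw [chi_succ, chi_zero]
    simp only [zero_add]
    omega
  | succ e ih =>
    intro n A hex hinj
    obtain ⟨hfree', hrank'⟩ := ih (fun i => n (i + 1)) (fun i => A (i + 1))
      (fun i hi => hex (i + 1) (by omega)) hinj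
    have h01 : LinearMap.ker (A 0).mulVecLin = LinearMap.range (A 1).mulVecLin :=
      hex 0 (by omega)
    let eq1 : ((Fin (n 1) → S) ⧸ LinearMap.range (A 1).mulVecLin)
        ≃ₗ[S] LinearMap.range (A 0).mulVecLin :=
      (Submodule.quotEquivOfEq _ _ h01.symm).trans (LinearMap.quotKerEquivRange (A 0).mulVecLin)
    haveI := hfree'
    haveI : Module.Free S (LinearMap.range (A 0).mulVecLin) := Module.Free.of_equiv eq1
    haveI : Module.Finite S (LinearMap.range (A 0).mulVecLin) := Module.Finite.equiv eq1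
    obtain ⟨hfree, hrank⟩ := quot_free x₀ hx₀ hx (LinearMap.range (A 0).mulVecLin)
    refine ⟨hfree, ?_⟩
    rw [← eq1.finrank_eq, Module.finrank_fin_fun] at hrank
    rw [chi_succ]
    have h3 : (Module.finrank S ((Fin (n 1) → S) ⧸ LinearMap.range (A 1).mulVecLin) : ℤ)
        = chi (fun i => n (i + 1)) (e + 1) := hrank'
    omega

end depth0

section main

variable {R : Type u} [CommRing R]

/-- row matrix of a functional -/
def rowMat {m : ℕ} (π : (Fin m → R) →ₗ[R] R) : Matrix (Fin 1) (Fin m) R :=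
  Matrix.of (fun _ j => π (fun j' => if j = j' then 1 else 0))

theorem rowMat_mulVec {m : ℕ} (π : (Fin m → R) →ₗ[R] R) (v : Fin m → R) (i : Fin 1) :
    (rowMat π).mulVec v i = π v := by
  rw [LinearMap.pi_apply_eq_sum_univ π v]
  simp [rowMat, Matrix.mulVec, dotProduct, mul_comm]

theorem ker_rowMat {m : ℕ} (π : (Fin m → R) →ₗ[R] R) :
    LinearMap.ker (rowMat π).mulVecLin = LinearMap.ker π := by
  ext v
  rw [LinearMap.mem_ker, LinearMap.mem_ker, Matrix.mulVecLin_apply]
  constructor
  · intro h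
    have h1 := congrFun h 0
    rwa [rowMat_mulVec] at h1
  · intro h
    funext i
    rw [rowMat_mulVec, h]
    rfl

theorem x0_ne_zero (P : Ideal R) [P.IsPrime] (x : R) (hxP : ∀ a : R, a ∈ P ↔ a * x = 0) :
    algebraMap R (Localization.AtPrime P) x ≠ 0 := by
  intro h
  obtain ⟨t, ht⟩ := (IsLocalization.map_eq_zero_iff P.primeCompl _ x).mp h
  exact t.2 ((hxP t).mpr ht)

theorem max_mul_x0 (P : Ideal R) [P.IsPrime] (x : R) (hxP : ∀ a : R, a ∈ P ↔ a * x = 0) :
    ∀ s ∈ IsLocalRing.maximalIdeal (Localization.AtPrime P),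
      s * algebraMap R (Localization.AtPrime P) x = 0 := by
  intro s hs
  obtain ⟨⟨a, t⟩, rfl⟩ := IsLocalization.mk'_surjective P.primeCompl s
  rw [IsLocalization.AtPrime.mk'_mem_maximal_iff (Localization.AtPrime P) P] at hs
  rw [mul_comm, IsLocalization.mul_mk'_eq_mk'_of_mul, mul_comm, (hxP a).mp hs,
    IsLocalization.mk'_zero]

variable [IsNoetherianRing R]

theorem assoc_data (P : Ideal R) (hP : IsAssociatedPrime P R) :
    ∃ x : R, (∀ a : R, a ∈ P ↔ a * x = 0) := by
  obtain ⟨_, x, hx⟩ := isAssociatedPrime_iff.mp hP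
  refine ⟨x, fun a => ?_⟩
  rw [hx, Submodule.mem_colon_singleton, Submodule.mem_bot, smul_eq_mul]

variable (e : ℕ) (n : ℕ → ℕ) (A : (i : ℕ) → Matrix (Fin (n i)) (Fin (n (i + 1))) R)
    (π : (Fin (n 0) → R) →ₗ[R] R)
    (h0 : LinearMap.ker π = LinearMap.range (A 0).mulVecLin)
    (hA : ∀ i, i + 2 ≤ e + 1 →
      LinearMap.ker (A i).mulVecLin = LinearMap.range (A (i + 1)).mulVecLin)
    (hlast : LinearMap.ker (A e).mulVecLin = ⊥)

include hA hlast in
theorem lemA (P : Ideal R) [P.IsPrime] (x : R) (hxP : ∀ a : R, a ∈ P ↔ a * x = 0) :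
    Module.Free (Localization.AtPrime P) ((Fin (n 0) → Localization.AtPrime P) ⧸
        LinearMap.range ((A 0).map (algebraMap R (Localization.AtPrime P))).mulVecLin) ∧
    (Module.finrank (Localization.AtPrime P) ((Fin (n 0) → Localization.AtPrime P) ⧸
        LinearMap.range ((A 0).map (algebraMap R (Localization.AtPrime P))).mulVecLin) : ℤ)
      = chi n (e + 1) :=
  local_free (algebraMap R (Localization.AtPrime P) x) (x0_ne_zero P x hxP)
    (max_mul_x0 P x hxP) e n
    (fun i => (A i).map (algebraMap R (Localization.AtPrime P)))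
    (fun i hi => loc_exact P.primeCompl _ (A i) (A (i + 1)) (hA i hi))
    (loc_inj P.primeCompl _ (A e) hlast)

include h0 hA hlast in
theorem lemB (P : Ideal R) [P.IsPrime] (x : R) (hxP : ∀ a : R, a ∈ P ↔ a * x = 0)
    (hIP : ∀ v, π v ∈ P) : chi n (e + 1) = 0 := by
  classical
  obtain ⟨hfree, hrank⟩ := lemA e n A hA hlast P x hxP
  rw [← hrank]
  haveI := hfree
  have hx₀ : algebraMap R (Localization.AtPrime P) x ≠ 0 := x0_ne_zero P x hxP
  have hker : LinearMap.ker ((rowMat π).map (algebraMap R (Localization.AtPrime P))).mulVecLin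
      = LinearMap.range ((A 0).map (algebraMap R (Localization.AtPrime P))).mulVecLin :=
    loc_exact P.primeCompl (Localization.AtPrime P) (rowMat π) (A 0) (by rw [ker_rowMat, h0])
  have hkill : ∀ q : (Fin (n 0) → Localization.AtPrime P) ⧸
      LinearMap.range ((A 0).map (algebraMap R (Localization.AtPrime P))).mulVecLin,
      algebraMap R (Localization.AtPrime P) x • q = 0 := by
    intro q
    obtain ⟨w, rfl⟩ := Submodule.Quotient.mk_surjective _ q
    rw [← Submodule.Quotient.mk_smul, Submodule.Quotient.mk_eq_zero, ← hker, LinearMap.mem_ker,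
      Matrix.mulVecLin_apply, Matrix.mulVec_smul]
    funext i
    show algebraMap R (Localization.AtPrime P) x *
      (∑ j, (algebraMap R (Localization.AtPrime P) (rowMat π i j)) * w j) = 0
    rw [Finset.mul_sum]
    refine Finset.sum_eq_zero (fun j _ => ?_)
    rw [← mul_assoc, ← map_mul]
    have h1 : x * rowMat π i j = 0 := by
      rw [mul_comm]
      exact (hxP _).mp (hIP _)
    rw [h1, map_zero, zero_mul]
  norm_cast
  rw [Module.finrank_eq_card_chooseBasisIndex, Fintype.card_eq_zero_iff]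
  constructor
  intro i
  have h1 := hkill (Module.Free.chooseBasis (Localization.AtPrime P) _ i)
  have h2 : ((Module.Free.chooseBasis (Localization.AtPrime P) _).repr
      (algebraMap R (Localization.AtPrime P) x •
        (Module.Free.chooseBasis (Localization.AtPrime P) _ i))) i = 0 := by
    rw [h1]
    simp
  rw [map_smul, Module.Basis.repr_self, Finsupp.smul_apply, Finsupp.single_eq_same, smul_eq_mul,
    mul_one] at h2
  exact hx₀ h2

include h0 hA hlast in
theorem lemC (P : Ideal R) [P.IsPrime] (x : R) (hxP : ∀ a : R, a ∈ P ↔ a * x = 0)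
    (hchi : chi n (e + 1) = 0) (v : Fin (n 0) → R) :
    algebraMap R (Localization.AtPrime P) (π v) = 0 := by
  obtain ⟨hfree, hrank⟩ := lemA e n A hA hlast P x hxP
  haveI := hfree
  rw [hchi] at hrank
  have hrank' : Module.finrank (Localization.AtPrime P) ((Fin (n 0) → Localization.AtPrime P) ⧸
      LinearMap.range ((A 0).map (algebraMap R (Localization.AtPrime P))).mulVecLin) = 0 := by
    exact_mod_cast hrank
  rw [Module.finrank_eq_zero_iff_of_free, Submodule.Quotient.subsingleton_iff] at hrank'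
  have hker : LinearMap.ker ((rowMat π).map (algebraMap R (Localization.AtPrime P))).mulVecLin
      = LinearMap.range ((A 0).map (algebraMap R (Localization.AtPrime P))).mulVecLin :=
    loc_exact P.primeCompl (Localization.AtPrime P) (rowMat π) (A 0) (by rw [ker_rowMat, h0])
  rw [hrank'] at hker
  have h1 : (fun j => algebraMap R (Localization.AtPrime P) (v j)) ∈
      LinearMap.ker ((rowMat π).map (algebraMap R (Localization.AtPrime P))).mulVecLin := by
    rw [hker]
    exact Submodule.mem_top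
  rw [LinearMap.mem_ker, Matrix.mulVecLin_apply,
    mulVec_map_comp (Localization.AtPrime P) (rowMat π) v] at h1
  have h2 := congrFun h1 0
  rw [rowMat_mulVec] at h2
  exact h2

end main

theorem main12909 {R : Type u} [CommRing R] [IsNoetherianRing R]
    (e : ℕ) (he : 1 ≤ e) (n : ℕ → ℕ) (A : (i : ℕ) → Matrix (Fin (n i)) (Fin (n (i + 1))) R)
    (π : (Fin (n 0) → R) →ₗ[R] R) (hI : LinearMap.range π ≠ ⊥)
    (h0 : LinearMap.ker π = LinearMap.range (A 0).mulVecLin)
    (hA : ∀ i, i + 2 ≤ e → LinearMap.ker (A i).mulVecLin = LinearMap.range (A (i + 1)).mulVecLin)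
    (hlast : LinearMap.ker (A (e - 1)).mulVecLin = ⊥) :
    ∃ x : R, x ∈ LinearMap.range π ∧ x ∈ nonZeroDivisors R := by
  classical
  obtain ⟨e', rfl⟩ : ∃ e', e = e' + 1 := ⟨e - 1, by omega⟩
  rw [Nat.add_sub_cancel] at hlast
  by_contra hcon
  push Not at hcon
  have hfin := associatedPrimes.finite R R
  have hsub : ((LinearMap.range π : Ideal R) : Set R) ⊆
      ⋃ p ∈ (↑hfin.toFinset : Set (Ideal R)), ((id p : Ideal R) : Set R) := by
    intro y hy
    have h1 : y ∈ ((nonZeroDivisors R : Set R))ᶜ := hcon y hy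
    rw [← biUnion_associatedPrimes_eq_compl_nonZeroDivisors R] at h1
    simpa using h1
  obtain ⟨P, hPmem, hIP⟩ := (Ideal.subset_union_prime (s := hfin.toFinset) (f := id) ⊥ ⊥
    (fun p hp _ _ => ((Set.Finite.mem_toFinset hfin).mp hp).isPrime)).mp hsub
  have hP : IsAssociatedPrime P R := (Set.Finite.mem_toFinset hfin).mp hPmem
  haveI := hP.isPrime
  obtain ⟨x, hxP⟩ := assoc_data P hP
  have hchi := lemB e' n A π h0 hA hlast P x hxP (fun v => hIP ⟨v, rfl⟩)
  obtain ⟨y, hyI, hy0⟩ := (Submodule.ne_bot_iff _).mp hI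
  obtain ⟨v, rfl⟩ := hyI
  obtain ⟨Q, hQ, hle⟩ := exists_le_isAssociatedPrime_of_isNoetherianRing R (π v) hy0
  haveI := hQ.isPrime
  obtain ⟨x', hx'⟩ := assoc_data Q hQ
  have h3 := lemC e' n A π h0 hA hlast Q x' hx' hchi v
  obtain ⟨t, ht⟩ := (IsLocalization.map_eq_zero_iff Q.primeCompl _ _).mp h3
  have h4 : (t : R) ∈ Q := hle (by
    rw [Submodule.mem_colon_singleton, Submodule.mem_bot, smul_eq_mul]
    exact ht)
  exact t.2 h4

end Groth.Agent.Lib.FFRnzdH1
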