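import Mathlib
import Groth.Prelude.Def_CAlg
import Groth.Prelude.Def_CAlgX

/-! The converse of the Hilbert–Burch theorem: a `(t+1) × t` matrix whose ideal of maximal minors
has depth at least two gives an exact complex (helper1). -/

set_option autoImplicit false

namespace Groth.Agent.Lib.HilbBurchH1

open scoped Pointwise

universe u

variable {R : Type u} [CommRing R]

/-! ### unpacking depth at least two -/
section depth

theorem depth2 (J : Ideal R) (h : 2 ≤ LocCoh.idealDepth J R) :
    ∃ x y, x ∈ J ∧ y ∈ J ∧ IsSMulRegular R x ∧ ∀ z, x ∣ y * z → x ∣ z := by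
  unfold LocCoh.idealDepth at h
  split_ifs at h with htop
  · have h1 : (1 : R) ∈ J := by
      have hJ : J = ⊤ := by
        rwa [Ideal.smul_eq_mul, Ideal.mul_top] at htop
      rw [hJ]
      trivial
    exact ⟨1, 1, h1, h1, IsSMulRegular.one R, fun z _ => one_dvd z⟩
  · obtain ⟨rs, ⟨hreg, hmem⟩, hlen⟩ : ∃ rs : List R,
        (RingTheory.Sequence.IsWeaklyRegular R rs ∧ ∀ r ∈ rs, r ∈ J) ∧ 2 ≤ rs.length := by
      by_contra hcon
      push_neg at hcon
      have hle : (⨆ (rs : List R)
          (_ : RingTheory.Sequence.IsWeaklyRegular R rs ∧ ∀ r ∈ rs, r ∈ J),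
          (rs.length : ℕ∞)) ≤ 1 := by
        refine iSup₂_le (fun rs hrs => ?_)
        have h1 := hcon rs hrs
        have h2 : rs.length ≤ 1 := by omega
        exact_mod_cast h2
      have h2 := le_trans h hle
      have h3 : ¬ ((2 : ℕ∞) ≤ 1) := by
        intro h4
        have h5 : ((2 : ℕ) : ℕ∞) ≤ ((1 : ℕ) : ℕ∞) := by exact_mod_cast h4
        have h6 : (2 : ℕ) ≤ 1 := by exact_mod_cast h5
        omega
      exact h3 h2
    match rs, hreg, hmem, hlen with
    | [], _, _, hl => exact absurd hl (by simp)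
    | [_], _, _, hl => exact absurd hl (by simp)
    | x :: y :: rest, hreg, hmem, _ =>
      rw [RingTheory.Sequence.isWeaklyRegular_cons_iff] at hreg
      obtain ⟨hx, hreg'⟩ := hreg
      rw [RingTheory.Sequence.isWeaklyRegular_cons_iff] at hreg'
      obtain ⟨hy, -⟩ := hreg'
      refine ⟨x, y, hmem x (by simp), hmem y (by simp), hx, fun z hz => ?_⟩
      have h0 : (Submodule.Quotient.mk (y * z) : QuotSMulTop x R) = 0 := by
        rw [Submodule.Quotient.mk_eq_zero]
        obtain ⟨w, hw⟩ := hz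
        rw [hw]
        exact Submodule.smul_mem_pointwise_smul w x ⊤ trivial
      have h1 : y • (Submodule.Quotient.mk z : QuotSMulTop x R) = y • 0 := by
        rw [smul_zero, ← Submodule.Quotient.mk_smul, smul_eq_mul]
        exact h0
      have h2 := hy h1
      rw [Submodule.Quotient.mk_eq_zero] at h2
      obtain ⟨w, -, hw⟩ := (Submodule.mem_smul_pointwise_iff_exists _ _ _).1 h2
      exact ⟨w, hw.symm⟩

theorem pow_dvd_of_regular {x y : R} (hx : IsSMulRegular R x) (hy : ∀ z, x ∣ y * z → x ∣ z) :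
    ∀ (m n : ℕ) (z : R), x ^ m ∣ y ^ n * z → x ^ m ∣ z := by
  have P : ∀ (m : ℕ) (z : R), x ^ m ∣ y * z → x ^ m ∣ z := by
    intro m
    induction m with
    | zero =>
      intro z _
      rw [pow_zero]
      exact one_dvd z
    | succ m ih =>
      intro z hz
      obtain ⟨z', rfl⟩ := ih z (dvd_trans (pow_dvd_pow x (Nat.le_succ m)) hz)
      obtain ⟨u, hu⟩ := hz
      have h1 : x ^ m • (y * z') = x ^ m • (x * u) := by
        rw [smul_eq_mul, smul_eq_mul]
        rw [pow_succ] at hu
        linear_combination hu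
      have h2 := (hx.pow m) h1
      obtain ⟨z'', rfl⟩ := hy z' ⟨u, h2⟩
      exact ⟨z'', by rw [pow_succ]; ring⟩
  intro m n
  induction n with
  | zero =>
    intro z hz
    rwa [pow_zero, one_mul] at hz
  | succ n ih =>
    intro z hz
    apply ih z
    apply P m
    rw [← mul_assoc, ← pow_succ']
    exact hz

end depth

/-! ### the maximal minors -/
section minors

variable (t : ℕ) (Ψ : Matrix (Fin (t + 1)) (Fin t) R)

/-- the maximal minors -/
noncomputable def DD (i : Fin (t + 1)) : R := (Ψ.submatrix i.succAbove id).det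

/-- the signed maximal minors -/
noncomputable def dl (i : Fin (t + 1)) : R := (-1) ^ (i : ℕ) * DD t Ψ i

theorem DD_eq (i : Fin (t + 1)) : DD t Ψ i = (-1) ^ (i : ℕ) * dl t Ψ i := by
  unfold dl
  rw [← mul_assoc, ← pow_add, ← two_mul, pow_mul]
  simp

theorem minor_mem (r : Fin t → Fin (t + 1)) (c : Fin t → Fin t) :
    (Ψ.submatrix r c).det ∈ Ideal.span (Set.range (DD t Ψ)) := by
  classical
  by_cases hc : Function.Injective c
  swap
  · rw [Function.Injective] at hc
    push_neg at hc
    obtain ⟨j, j', hjj', hne⟩ := hc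
    rw [Matrix.det_zero_of_column_eq hne (fun k => by
      simp only [Matrix.submatrix_apply, hjj'])]
    exact zero_mem _
  by_cases hr : Function.Injective r
  swap
  · rw [Function.Injective] at hr
    push_neg at hr
    obtain ⟨j, j', hjj', hne⟩ := hr
    rw [Matrix.det_zero_of_row_eq hne (funext fun k => by
      simp only [Matrix.submatrix_apply, hjj'])]
    exact zero_mem _
  obtain ⟨i, hi⟩ : ∃ i, ∀ j, r j ≠ i := by
    by_contra h
    push_neg at h
    have h1 := Fintype.card_le_of_surjective r h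
    simp at h1
  choose σ hσ using fun j => Fin.exists_succAbove_eq (hi j)
  have hσinj : Function.Injective σ := fun j j' h => hr (by rw [← hσ j, ← hσ j', h])
  let eσ : Equiv.Perm (Fin t) :=
    Equiv.ofBijective σ ⟨hσinj, Finite.surjective_of_injective hσinj⟩
  let ec : Equiv.Perm (Fin t) :=
    Equiv.ofBijective c ⟨hc, Finite.surjective_of_injective hc⟩
  have e1 : Ψ.submatrix r c =
      (((Ψ.submatrix i.succAbove id).submatrix eσ id).submatrix id ec) := by
    ext j j'
    simp only [Matrix.submatrix_apply, id]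
    rw [← hσ j]
    rfl
  rw [e1, Matrix.det_permute', Matrix.det_permute]
  exact Ideal.mul_mem_left _ _ (Ideal.mul_mem_left _ _ (Ideal.subset_span ⟨i, rfl⟩))

theorem minorIdeal_eq : CAlgX.minorIdeal Ψ t = Ideal.span (Set.range (DD t Ψ)) := by
  apply le_antisymm
  · unfold CAlgX.minorIdeal
    rw [Ideal.span_le]
    rintro _ ⟨⟨r, c⟩, rfl⟩
    exact minor_mem t Ψ r c
  · rw [Ideal.span_le]
    rintro _ ⟨i, rfl⟩
    exact Ideal.subset_span ⟨(i.succAbove, id), rfl⟩

theorem laplace (j : Fin t) : ∑ i, dl t Ψ i * Ψ i j = 0 := by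
  let A : Matrix (Fin (t + 1)) (Fin (t + 1)) R := fun i => Fin.cons (Ψ i j) (Ψ i)
  have hA : A.det = 0 :=
    Matrix.det_zero_of_column_eq (i := 0) (j := j.succ) (Fin.succ_ne_zero j).symm (fun k => by
      show (Fin.cons (Ψ k j) (Ψ k) : Fin (t + 1) → R) 0 =
        (Fin.cons (Ψ k j) (Ψ k) : Fin (t + 1) → R) j.succ
      rw [Fin.cons_zero, Fin.cons_succ])
  rw [Matrix.det_succ_column_zero] at hA
  rw [← hA]
  refine Finset.sum_congr rfl (fun i _ => ?_)
  have e1 : A i 0 = Ψ i j := rfl
  have e2 : A.submatrix i.succAbove Fin.succ = Ψ.submatrix i.succAbove id := by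
    ext p q
    rfl
  rw [e1, e2]
  unfold dl DD
  ring

theorem minor_smul_eq_zero (c : Fin t → R) (hc : Ψ.mulVec c = 0) (i : Fin (t + 1)) :
    DD t Ψ i • c = 0 := by
  have h1 : (Ψ.submatrix i.succAbove id).mulVec c = 0 := by
    funext p
    exact congrFun hc (i.succAbove p)
  have h2 := congrArg (Matrix.mulVec (Matrix.adjugate (Ψ.submatrix i.succAbove id))) h1
  rw [Matrix.mulVec_mulVec, Matrix.adjugate_mul, Matrix.smul_mulVec, Matrix.one_mulVec,
    Matrix.mulVec_zero] at h2
  exact h2

theorem sq_smul_mem (v : Fin (t + 1) → R) (hv : ∑ i, dl t Ψ i * v i = 0) (i : Fin (t + 1)) :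
    ∃ c, Ψ.mulVec c = (DD t Ψ i) ^ 2 • v := by
  set c₀ := (Matrix.adjugate (Ψ.submatrix i.succAbove id)).mulVec (fun p => v (i.succAbove p))
    with hc₀
  have h1 : (Ψ.submatrix i.succAbove id).mulVec c₀ =
      DD t Ψ i • (fun p => v (i.succAbove p)) := by
    rw [hc₀, Matrix.mulVec_mulVec, Matrix.mul_adjugate, Matrix.smul_mulVec, Matrix.one_mulVec]
    rfl
  have hw0 : ∀ p, (Ψ.mulVec c₀) (i.succAbove p) - DD t Ψ i * v (i.succAbove p) = 0 := by
    intro p
    have h := congrFun h1 p
    rw [sub_eq_zero]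
    exact h
  have hsum : ∑ i', dl t Ψ i' * ((Ψ.mulVec c₀) i' - DD t Ψ i * v i') = 0 := by
    have e1 : ∑ i', dl t Ψ i' * (Ψ.mulVec c₀) i' = 0 := by
      have h : ∀ i', dl t Ψ i' * (Ψ.mulVec c₀) i' = ∑ j, dl t Ψ i' * Ψ i' j * c₀ j := by
        intro i'
        show dl t Ψ i' * ∑ j, Ψ i' j * c₀ j = _
        rw [Finset.mul_sum]
        exact Finset.sum_congr rfl (fun j _ => (mul_assoc _ _ _).symm)
      rw [Finset.sum_congr rfl (fun i' _ => h i'), Finset.sum_comm]
      refine Finset.sum_eq_zero (fun j _ => ?_)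
      rw [← Finset.sum_mul, laplace, zero_mul]
    have e2 : ∑ i', dl t Ψ i' * (DD t Ψ i * v i') = 0 := by
      have h : ∀ i', dl t Ψ i' * (DD t Ψ i * v i') = DD t Ψ i * (dl t Ψ i' * v i') :=
        fun i' => by ring
      rw [Finset.sum_congr rfl (fun i' _ => h i'), ← Finset.mul_sum, hv, mul_zero]
    simp only [mul_sub, Finset.sum_sub_distrib, e1, e2, sub_zero]
  rw [Fin.sum_univ_succAbove _ i] at hsum
  have hrest : ∑ p, dl t Ψ (i.succAbove p) *
      ((Ψ.mulVec c₀) (i.succAbove p) - DD t Ψ i * v (i.succAbove p)) = 0 :=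
    Finset.sum_eq_zero (fun p _ => by rw [hw0 p, mul_zero])
  rw [hrest, add_zero] at hsum
  have hDw : DD t Ψ i * ((Ψ.mulVec c₀) i - DD t Ψ i * v i) = 0 := by
    have h := congrArg (fun z => (-1 : R) ^ (i : ℕ) * z) hsum
    simp only [mul_zero] at h
    rw [← mul_assoc, ← DD_eq t Ψ i] at h
    exact h
  refine ⟨DD t Ψ i • c₀, ?_⟩
  rw [Matrix.mulVec_smul]
  funext i'
  show DD t Ψ i * (Ψ.mulVec c₀) i' = DD t Ψ i ^ 2 * v i'
  rcases eq_or_ne i' i with rfl | hne
  · have h := hDw
    rw [mul_sub, sub_eq_zero] at h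
    rw [h]
    ring
  · obtain ⟨p, rfl⟩ := Fin.exists_succAbove_eq hne
    have h := hw0 p
    rw [sub_eq_zero] at h
    rw [h]
    ring

end minors

/-! ### the statement -/
section final

theorem main12908 [IsNoetherianRing R] (t : ℕ)
    (Ψ : Matrix (Fin (t + 1)) (Fin t) R)
    (hdepth : 2 ≤ LocCoh.idealDepth (CAlgX.minorIdeal Ψ t) R)
    (a : R) (ha : a ∈ nonZeroDivisors R) :
    LinearMap.ker Ψ.mulVecLin = ⊥ ∧
      LinearMap.ker (Fintype.linearCombination R
          (fun i : Fin (t + 1) => a * ((-1 : R) ^ (i : ℕ) * (Ψ.submatrix i.succAbove id).det))) =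
        LinearMap.range Ψ.mulVecLin ∧
      LinearMap.range (Fintype.linearCombination R
          (fun i : Fin (t + 1) => a * ((-1 : R) ^ (i : ℕ) * (Ψ.submatrix i.succAbove id).det))) =
        Ideal.span {a} * CAlgX.minorIdeal Ψ t := by
  classical
  rw [minorIdeal_eq] at hdepth ⊢
  obtain ⟨x, y, hxJ, hyJ, hx, hy⟩ := depth2 _ hdepth
  have hΔ : (fun i : Fin (t + 1) =>
      a * ((-1 : R) ^ (i : ℕ) * (Ψ.submatrix i.succAbove id).det)) =
      fun i => a * dl t Ψ i := rfl
  rw [hΔ]
  -- elements of the ideal of minors kill the kernel of `Ψ`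
  have hkill : ∀ c : Fin t → R, Ψ.mulVec c = 0 → ∀ r ∈ Ideal.span (Set.range (DD t Ψ)),
      r • c = 0 := by
    intro c hc r hr
    induction hr using Submodule.span_induction with
    | mem r hr =>
      obtain ⟨i, rfl⟩ := hr
      exact minor_smul_eq_zero t Ψ c hc i
    | zero => exact zero_smul _ _
    | add r s _ _ hr hs => rw [add_smul, hr, hs, add_zero]
    | smul b r _ hr => rw [smul_eq_mul, mul_smul, hr, smul_zero]
  have hinj : ∀ c : Fin t → R, Ψ.mulVec c = 0 → c = 0 := by
    intro c hc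
    have h1 := hkill c hc x hxJ
    funext j
    have h2 : x • c j = x • (0 : R) := by
      rw [smul_zero]
      exact congrFun h1 j
    exact hx h2
  refine ⟨?_, ?_, ?_⟩
  · rw [LinearMap.ker_eq_bot']
    intro c hc
    exact hinj c hc
  · apply le_antisymm
    · intro v hv
      rw [LinearMap.mem_ker, Fintype.linearCombination_apply] at hv
      have hv' : ∑ i, dl t Ψ i * v i = 0 := by
        have h1 : a * ∑ i, dl t Ψ i * v i = 0 := by
          rw [Finset.mul_sum, ← hv]
          refine Finset.sum_congr rfl (fun i _ => ?_)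
          rw [smul_eq_mul]
          ring
        exact (mul_left_mem_nonZeroDivisors_eq_zero_iff ha).1 h1
      -- the colon ideal
      let 𝔞 : Ideal R := Submodule.comap (LinearMap.toSpanSingleton R (Fin (t + 1) → R) v)
        (LinearMap.range Ψ.mulVecLin)
      have h𝔞 : ∀ r : R, r ∈ 𝔞 ↔ ∃ c, Ψ.mulVec c = r • v := by
        intro r
        show (LinearMap.toSpanSingleton R (Fin (t + 1) → R) v) r ∈
          LinearMap.range Ψ.mulVecLin ↔ _
        rw [LinearMap.toSpanSingleton_apply, LinearMap.mem_range]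
        rfl
      have hsq : ∀ i, (DD t Ψ i) ^ 2 ∈ 𝔞 := fun i => (h𝔞 _).2 (sq_smul_mem t Ψ v hv' i)
      have hpow : ∀ z ∈ Ideal.span (Set.range (DD t Ψ)), ∃ m : ℕ, z ^ m ∈ 𝔞 := by
        intro z hz
        obtain ⟨r, rfl⟩ := Ideal.mem_span_range_iff_exists_fun.1 hz
        refine ⟨(Finset.univ : Finset (Fin (t + 1))).card * 1 + 1, ?_⟩
        have h1 := Ideal.sum_pow_mem_span_pow Finset.univ (fun i => r i * DD t Ψ i) 1
        refine (Ideal.span_le.2 ?_) h1
        rintro _ ⟨i, -, rfl⟩
        show (r i * DD t Ψ i) ^ (1 + 1) ∈ 𝔞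
        rw [mul_pow]
        exact Ideal.mul_mem_left _ _ (hsq i)
      obtain ⟨m, hm⟩ := hpow x hxJ
      obtain ⟨n, hn⟩ := hpow y hyJ
      obtain ⟨c, hc⟩ := (h𝔞 _).1 hm
      obtain ⟨c', hc'⟩ := (h𝔞 _).1 hn
      have h0 : Ψ.mulVec (y ^ n • c - x ^ m • c') = 0 := by
        rw [Matrix.mulVec_sub, Matrix.mulVec_smul, Matrix.mulVec_smul, hc, hc', smul_smul,
          smul_smul, mul_comm, sub_self]
      have h1 := hinj _ h0
      have hdiv : ∀ j, x ^ m ∣ c j := by
        intro j
        apply pow_dvd_of_regular hx hy m n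
        have h2 := congrFun h1 j
        rw [Pi.sub_apply, Pi.smul_apply, Pi.smul_apply, smul_eq_mul, smul_eq_mul, Pi.zero_apply,
          sub_eq_zero] at h2
        rw [h2]
        exact dvd_mul_right _ _
      choose c'' hc'' using hdiv
      refine ⟨c'', ?_⟩
      have h3 : x ^ m • (Ψ.mulVec c'') = x ^ m • v := by
        rw [← Matrix.mulVec_smul, ← hc]
        congr 1
        funext j
        rw [Pi.smul_apply, smul_eq_mul, ← hc'' j]
      funext i
      have h4 := congrFun h3 i
      rw [Pi.smul_apply, Pi.smul_apply] at h4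
      exact (hx.pow m) h4
    · rintro _ ⟨c, rfl⟩
      rw [LinearMap.mem_ker, Fintype.linearCombination_apply]
      have h : ∀ i, (Ψ.mulVecLin c) i • (a * dl t Ψ i) = a * ∑ j, dl t Ψ i * Ψ i j * c j := by
        intro i
        show (∑ j, Ψ i j * c j) • (a * dl t Ψ i) = _
        rw [smul_eq_mul, Finset.sum_mul, Finset.mul_sum]
        refine Finset.sum_congr rfl (fun j _ => ?_)
        ring
      rw [Finset.sum_congr rfl (fun i _ => h i), ← Finset.mul_sum, Finset.sum_comm]
      have h2 : ∑ j, ∑ i, dl t Ψ i * Ψ i j * c j = 0 := by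
        refine Finset.sum_eq_zero (fun j _ => ?_)
        rw [← Finset.sum_mul, laplace, zero_mul]
      rw [h2, mul_zero]
  · rw [Fintype.range_linearCombination]
    apply le_antisymm
    · rw [Submodule.span_le]
      rintro _ ⟨i, rfl⟩
      show a * dl t Ψ i ∈ Ideal.span {a} * Ideal.span (Set.range (DD t Ψ))
      refine Ideal.mul_mem_mul (Ideal.mem_span_singleton_self a) ?_
      unfold dl
      exact Ideal.mul_mem_left _ _ (Ideal.subset_span ⟨i, rfl⟩)
    · rw [Ideal.mul_le]
      intro r hr s hs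
      obtain ⟨r', rfl⟩ := Ideal.mem_span_singleton'.1 hr
      have key : ∀ s ∈ Ideal.span (Set.range (DD t Ψ)),
          a * s ∈ Submodule.span R (Set.range fun i => a * dl t Ψ i) := by
        intro s hs
        induction hs using Submodule.span_induction with
        | mem s hs =>
          obtain ⟨i, rfl⟩ := hs
          have e : a * DD t Ψ i = (-1) ^ (i : ℕ) * (a * dl t Ψ i) := by
            rw [DD_eq t Ψ i]
            ring
          rw [e]
          exact Submodule.smul_mem _ _ (Submodule.subset_span ⟨i, rfl⟩)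
        | zero =>
          rw [mul_zero]
          exact zero_mem _
        | add s s' _ _ hs hs' =>
          rw [mul_add]
          exact add_mem hs hs'
        | smul b s _ hs =>
          rw [smul_eq_mul, mul_left_comm]
          exact Submodule.smul_mem _ b hs
      have h2 : r' * a * s = r' • (a * s) := by
        rw [smul_eq_mul]
        ring
      rw [h2]
      exact Submodule.smul_mem _ _ (key s hs)

end final

end Groth.Agent.Lib.HilbBurchH1
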