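import Mathlib
import Groth.Prelude.Def_CAlg
import Groth.Prelude.Def_CAlgX
import Groth.Agent.Lib.HilbBurch_helper1
import Groth.Agent.Lib.FFRnzd_helper1

/-! The Hilbert–Burch theorem (helper1). -/

set_option autoImplicit false

namespace Groth.Agent.Lib.HilbBurch2H1

open scoped Pointwise
open Module

universe u

/-! ### a matrix with injective `mulVec` over a field has a nonzero maximal minor -/

theorem exists_minor_ne_zero {k : Type*} [Field k] {n m : ℕ} (B : Matrix (Fin n) (Fin m) k)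
    (hB : Function.Injective B.mulVecLin) :
    ∃ f : Fin m → Fin n, (B.submatrix f id).det ≠ 0 := by
  classical
  have hrank : B.rank = m := by
    rw [Matrix.rank, LinearMap.finrank_range_of_inj hB, Module.finrank_fin_fun]
  have hspan : Submodule.span k (Set.range B.row) = ⊤ := by
    apply Submodule.eq_top_of_finrank_eq
    rw [← Matrix.rank_eq_finrank_span_row, hrank, Module.finrank_fin_fun]
  obtain ⟨κ, a, ha, hsp, hli⟩ := exists_linearIndependent' k B.row
  haveI : Fintype κ := Fintype.ofInjective a ha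
  let bb : Basis κ k (Fin m → k) := Basis.mk hli (by rw [hsp, hspan])
  have hcard : Fintype.card κ = m := by
    rw [← Module.finrank_eq_card_basis bb, Module.finrank_fin_fun]
  let g : κ ≃ Fin m := Fintype.equivFinOfCardEq hcard
  refine ⟨a ∘ g.symm, ?_⟩
  have hli2 : LinearIndependent k (B.submatrix (a ∘ g.symm) id).row :=
    hli.comp g.symm g.symm.injective
  have hunit := (Matrix.isUnit_iff_isUnit_det _).mp (Matrix.linearIndependent_rows_iff_isUnit.mp hli2)
  exact hunit.ne_zero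

/-! ### the key global lemma -/

theorem exists_minor_not_mem {R : Type u} [CommRing R] (P : Ideal R) [P.IsPrime] (x x₁ : R)
    (hP : ∀ a, a ∈ P ↔ x ∣ a * x₁) {n m : ℕ} (Ψ : Matrix (Fin n) (Fin m) R)
    (hinj : ∀ v : Fin m → R, (∀ i, x ∣ Ψ.mulVec v i) → ∀ j, x ∣ v j) :
    ∃ f : Fin m → Fin n, (Ψ.submatrix f id).det ∉ P := by
  classical
  obtain ⟨ρ, hρdef⟩ : ∃ ρ : R →+* FractionRing (R ⧸ P),
      ρ = (algebraMap (R ⧸ P) (FractionRing (R ⧸ P))).comp (Ideal.Quotient.mk P) := ⟨_, rfl⟩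
  have hρ : ∀ r, ρ r = 0 ↔ r ∈ P := by
    intro r
    rw [hρdef, RingHom.comp_apply,
      map_eq_zero_iff _ (IsFractionRing.injective (R ⧸ P) (FractionRing (R ⧸ P))),
      Ideal.Quotient.eq_zero_iff_mem]
  have hB : Function.Injective (Ψ.map ρ).mulVecLin := by
    rw [injective_iff_map_eq_zero]
    intro w hw
    rw [Matrix.mulVecLin_apply] at hw
    obtain ⟨s, vbar, hvbar⟩ := FFRnzdH1.exists_clear (nonZeroDivisors (R ⧸ P))
      (FractionRing (R ⧸ P)) w
    have hlift : ∀ j, ∃ r : R, Ideal.Quotient.mk P r = vbar j :=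
      fun j => Ideal.Quotient.mk_surjective _
    choose v hv using hlift
    have hv' : (fun j => ρ (v j))
        = algebraMap (R ⧸ P) (FractionRing (R ⧸ P)) s • w := by
      funext j
      rw [hρdef, RingHom.comp_apply, hv j, hvbar j]
      rfl
    have h1 : ∀ i, Ψ.mulVec v i ∈ P := by
      intro i
      rw [← hρ, RingHom.map_mulVec ρ Ψ v i]
      show ((Ψ.map ρ).mulVec (fun j => ρ (v j))) i = 0
      rw [hv', Matrix.mulVec_smul, hw, smul_zero]
      rfl
    have h2 : ∀ i, x ∣ Ψ.mulVec (x₁ • v) i := by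
      intro i
      rw [Matrix.mulVec_smul]
      show x ∣ x₁ * Ψ.mulVec v i
      rw [mul_comm]
      exact (hP _).mp (h1 i)
    have h3 := hinj (x₁ • v) h2
    have h4 : ∀ j, v j ∈ P := by
      intro j
      rw [hP]
      have h5 := h3 j
      rwa [Pi.smul_apply, smul_eq_mul, mul_comm] at h5
    funext j
    have h5 : algebraMap (R ⧸ P) (FractionRing (R ⧸ P)) s * w j = 0 := by
      have h6 := congrFun hv' j
      rw [(hρ _).mpr (h4 j)] at h6
      exact h6.symm
    have hs : algebraMap (R ⧸ P) (FractionRing (R ⧸ P)) s ≠ 0 := by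
      intro h
      have h7 := (map_eq_zero_iff _
        (IsFractionRing.injective (R ⧸ P) (FractionRing (R ⧸ P)))).mp h
      exact nonZeroDivisors.coe_ne_zero s h7
    exact (mul_eq_zero.mp h5).resolve_left hs
  obtain ⟨f, hf⟩ := exists_minor_ne_zero (Ψ.map ρ) hB
  refine ⟨f, fun hmem => hf ?_⟩
  have h8 : ((Ψ.map ρ).submatrix f id).det = ρ ((Ψ.submatrix f id).det) := by
    rw [RingHom.map_det]
    rfl
  rw [h8, (hρ _).mpr hmem]

/-! ### `n = m + 1` -/

theorem n_eq {R : Type u} [CommRing R] [Nontrivial R] {n m : ℕ} (Ψ : Matrix (Fin n) (Fin m) R)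
    (π : (Fin n → R) →ₗ[R] R) (hΨ : LinearMap.ker Ψ.mulVecLin = ⊥)
    (hex : LinearMap.ker π = LinearMap.range Ψ.mulVecLin)
    (z : R) (hzI : z ∈ LinearMap.range π) (hz : z ∈ nonZeroDivisors R) : n = m + 1 := by
  classical
  have hinj : LinearMap.ker (Ψ.map (algebraMap R (FractionRing R))).mulVecLin = ⊥ :=
    FFRnzdH1.loc_inj (nonZeroDivisors R) (FractionRing R) Ψ hΨ
  have hexQ : LinearMap.ker ((FFRnzdH1.rowMat π).map (algebraMap R (FractionRing R))).mulVecLin
      = LinearMap.range (Ψ.map (algebraMap R (FractionRing R))).mulVecLin :=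
    FFRnzdH1.loc_exact (nonZeroDivisors R) (FractionRing R) (FFRnzdH1.rowMat π) Ψ
      (by rw [FFRnzdH1.ker_rowMat, hex])
  obtain ⟨v₀, rfl⟩ := hzI
  obtain ⟨u, hu⟩ := IsLocalization.map_units (FractionRing R) (⟨π v₀, hz⟩ : nonZeroDivisors R)
  have hsurj : Function.Surjective
      ((FFRnzdH1.rowMat π).map (algebraMap R (FractionRing R))).mulVecLin := by
    intro c
    refine ⟨(c 0 * ((u⁻¹ : (FractionRing R)ˣ) : FractionRing R)) •
      (fun j => algebraMap R (FractionRing R) (v₀ j)), ?_⟩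
    rw [Matrix.mulVecLin_apply, Matrix.mulVec_smul,
      FFRnzdH1.mulVec_map_comp (FractionRing R) (FFRnzdH1.rowMat π) v₀]
    funext i
    rw [Pi.smul_apply, FFRnzdH1.rowMat_mulVec, smul_eq_mul, Subsingleton.elim i 0]
    have hu' : algebraMap R (FractionRing R) (π v₀) = (u : FractionRing R) := hu.symm
    rw [hu', mul_assoc, Units.inv_mul, mul_one]
  have hexact : Function.Exact (Ψ.map (algebraMap R (FractionRing R))).mulVecLin
      ((FFRnzdH1.rowMat π).map (algebraMap R (FractionRing R))).mulVecLin :=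
    LinearMap.exact_iff.mpr hexQ
  obtain ⟨l, hl⟩ := Module.projective_lifting_property
    ((FFRnzdH1.rowMat π).map (algebraMap R (FractionRing R))).mulVecLin LinearMap.id hsurj
  have e := (hexact.splitSurjectiveEquiv (LinearMap.ker_eq_bot.mp hinj) ⟨l, hl⟩).1
  have h1 := e.finrank_eq
  rw [Module.finrank_prod, Module.finrank_fin_fun, Module.finrank_fin_fun,
    Module.finrank_fin_fun] at h1
  exact h1

/-! ### the depth of the ideal of maximal minors -/

section depth

variable {R : Type u} [CommRing R] [IsNoetherianRing R] {n m : ℕ}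
  (Ψ : Matrix (Fin n) (Fin m) R) (π : (Fin n → R) →ₗ[R] R)
  (hΨ : LinearMap.ker Ψ.mulVecLin = ⊥)
  (hex : LinearMap.ker π = LinearMap.range Ψ.mulVecLin)

theorem minor_mem (f : Fin m → Fin n) : (Ψ.submatrix f id).det ∈ CAlgX.minorIdeal Ψ m :=
  Ideal.subset_span ⟨(f, id), rfl⟩

include hΨ in
theorem exists_nzd : ∃ x ∈ CAlgX.minorIdeal Ψ m, x ∈ nonZeroDivisors R := by
  classical
  by_contra hcon
  push Not at hcon
  have hfin := associatedPrimes.finite R R
  have hsub : ((CAlgX.minorIdeal Ψ m : Ideal R) : Set R) ⊆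
      ⋃ p ∈ (↑hfin.toFinset : Set (Ideal R)), ((id p : Ideal R) : Set R) := by
    intro y hy
    have h1 : y ∈ ((nonZeroDivisors R : Set R))ᶜ := hcon y hy
    rw [← biUnion_associatedPrimes_eq_compl_nonZeroDivisors R] at h1
    simpa using h1
  obtain ⟨P, hPmem, hJP⟩ := (Ideal.subset_union_prime (s := hfin.toFinset) (f := id) ⊥ ⊥
    (fun p hp _ _ => ((Set.Finite.mem_toFinset hfin).mp hp).isPrime)).mp hsub
  have hP : IsAssociatedPrime P R := (Set.Finite.mem_toFinset hfin).mp hPmem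
  haveI := hP.isPrime
  obtain ⟨x₁, hx₁⟩ := FFRnzdH1.assoc_data P hP
  have hP' : ∀ a, a ∈ P ↔ (0 : R) ∣ a * x₁ := by
    intro a
    rw [zero_dvd_iff]
    exact hx₁ a
  obtain ⟨f, hf⟩ := exists_minor_not_mem P 0 x₁ hP' Ψ (by
    intro v hv j
    have h1 : Ψ.mulVec v = 0 := by
      funext i
      exact zero_dvd_iff.mp (hv i)
    have h2 : v ∈ LinearMap.ker Ψ.mulVecLin := h1
    rw [hΨ, Submodule.mem_bot] at h2
    rw [h2]
    exact dvd_zero _)
  exact hf (hJP (minor_mem Ψ f))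

include hΨ hex in
theorem inj_mod (x : R) (hx : x ∈ nonZeroDivisors R) (v : Fin m → R)
    (hv : ∀ i, x ∣ Ψ.mulVec v i) : ∀ j, x ∣ v j := by
  choose w hw using hv
  have h1 : Ψ.mulVec v = x • w := by
    funext i
    rw [hw i]
    rfl
  have h2 : π (x • w) = 0 := by
    rw [← h1]
    have : Ψ.mulVec v ∈ LinearMap.ker π := by
      rw [hex]
      exact ⟨v, rfl⟩
    exact this
  rw [map_smul, smul_eq_mul] at h2
  have h3 : π w = 0 := (mem_nonZeroDivisors_iff.mp hx).1 _ h2
  have h4 : w ∈ LinearMap.ker π := h3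
  rw [hex] at h4
  obtain ⟨u, hu⟩ := h4
  rw [Matrix.mulVecLin_apply] at hu
  have h5 : v - x • u ∈ LinearMap.ker Ψ.mulVecLin := by
    rw [LinearMap.mem_ker, Matrix.mulVecLin_apply, Matrix.mulVec_sub, Matrix.mulVec_smul, hu, h1,
      sub_self]
  rw [hΨ, Submodule.mem_bot, sub_eq_zero] at h5
  intro j
  rw [h5]
  exact ⟨u j, rfl⟩

include hΨ hex in
theorem depth_ge_two : 2 ≤ LocCoh.idealDepth (CAlgX.minorIdeal Ψ m) R := by
  classical
  obtain ⟨x, hxJ, hx⟩ := exists_nzd Ψ hΨ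
  by_cases htop : (CAlgX.minorIdeal Ψ m) • (⊤ : Submodule R R) = ⊤
  · unfold LocCoh.idealDepth
    rw [if_pos htop]
    exact le_top
  have hxreg : IsSMulRegular R x := by
    rw [isSMulRegular_iff_right_eq_zero_of_smul]
    intro r hr
    exact (mem_nonZeroDivisors_iff.mp hx).1 r hr
  obtain ⟨y, hyJ, hy⟩ : ∃ y ∈ CAlgX.minorIdeal Ψ m, IsSMulRegular (QuotSMulTop x R) y := by
    by_contra hcon
    push Not at hcon
    have hfin := associatedPrimes.finite R (QuotSMulTop x R)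
    have hsub : ((CAlgX.minorIdeal Ψ m : Ideal R) : Set R) ⊆
        ⋃ p ∈ (↑hfin.toFinset : Set (Ideal R)), ((id p : Ideal R) : Set R) := by
      intro y hy
      have h1 : y ∈ { r : R | ∃ q : QuotSMulTop x R, q ≠ 0 ∧ r • q = 0 } := by
        have h2 := hcon y hy
        rw [isSMulRegular_iff_right_eq_zero_of_smul] at h2
        push Not at h2
        obtain ⟨q, hq1, hq2⟩ := h2
        exact ⟨q, hq2, hq1⟩
      rw [← biUnion_associatedPrimes_eq_zero_divisors R (QuotSMulTop x R)] at h1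
      simpa using h1
    obtain ⟨P, hPmem, hJP⟩ := (Ideal.subset_union_prime (s := hfin.toFinset) (f := id) ⊥ ⊥
      (fun p hp _ _ => ((Set.Finite.mem_toFinset hfin).mp hp).isPrime)).mp hsub
    have hP : IsAssociatedPrime P (QuotSMulTop x R) := (Set.Finite.mem_toFinset hfin).mp hPmem
    haveI := hP.isPrime
    obtain ⟨_, q, hq⟩ := isAssociatedPrime_iff.mp hP
    obtain ⟨x₁, rfl⟩ := Submodule.Quotient.mk_surjective _ q
    have hP' : ∀ a, a ∈ P ↔ x ∣ a * x₁ := by
      intro a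
      rw [hq, Submodule.mem_colon_singleton, Submodule.mem_bot, ← Submodule.Quotient.mk_smul,
        Submodule.Quotient.mk_eq_zero, Submodule.mem_smul_pointwise_iff_exists]
      constructor
      · rintro ⟨w, -, hw⟩
        exact ⟨w, hw.symm⟩
      · rintro ⟨w, hw⟩
        exact ⟨w, trivial, hw.symm⟩
    obtain ⟨f, hf⟩ := exists_minor_not_mem P x x₁ hP' Ψ (inj_mod Ψ π hΨ hex x hx)
    exact hf (hJP (minor_mem Ψ f))
  have hreg : RingTheory.Sequence.IsWeaklyRegular R [x, y] := by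
    rw [RingTheory.Sequence.isWeaklyRegular_cons_iff, RingTheory.Sequence.isWeaklyRegular_cons_iff]
    exact ⟨hxreg, hy, RingTheory.Sequence.IsWeaklyRegular.nil _ _⟩
  unfold LocCoh.idealDepth
  rw [if_neg htop]
  refine le_trans ?_ (le_iSup₂ (f := fun (rs : List R)
    (_ : RingTheory.Sequence.IsWeaklyRegular R rs ∧ ∀ r ∈ rs, r ∈ CAlgX.minorIdeal Ψ m) =>
      (rs.length : ℕ∞)) [x, y] ⟨hreg, by
        intro r hr
        simp only [List.mem_cons, List.not_mem_nil, or_false] at hr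
        rcases hr with rfl | rfl
        · exact hxJ
        · exact hyJ⟩)
  simp

end depth

/-! ### the theorem -/

/-- ranks of the length-one resolution -/
def nn (n m : ℕ) : ℕ → ℕ
  | 0 => n
  | _ + 1 => m

/-- matrices of the length-one resolution -/
def AA {R : Type u} [CommRing R] {n m : ℕ} (Ψ : Matrix (Fin n) (Fin m) R) :
    (i : ℕ) → Matrix (Fin (nn n m i)) (Fin (nn n m (i + 1))) R
  | 0 => Ψ
  | _ + 1 => 0

theorem main12907 {R : Type u} [CommRing R] [IsNoetherianRing R] (m n : ℕ)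
    (Ψ : Matrix (Fin n) (Fin m) R) (π : (Fin n → R) →ₗ[R] R)
    (hΨ : LinearMap.ker Ψ.mulVecLin = ⊥) (hex : LinearMap.ker π = LinearMap.range Ψ.mulVecLin)
    (hI : LinearMap.range π ≠ ⊥) :
    n = m + 1 ∧
      (∃ a : R, a ∈ nonZeroDivisors R ∧
        LinearMap.range π = Ideal.span {a} * CAlgX.minorIdeal Ψ m) ∧
      2 ≤ LocCoh.idealDepth (CAlgX.minorIdeal Ψ m) R := by
  classical
  obtain ⟨z, hzI0, hz⟩ := FFRnzdH1.main12909 1 le_rfl (nn n m) (AA Ψ) π hI hex
    (fun i hi => absurd hi (by omega)) hΨ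
  have hzI : z ∈ LinearMap.range π := hzI0
  clear hzI0
  haveI : Nontrivial R := by
    by_contra hnt
    rw [not_nontrivial_iff_subsingleton] at hnt
    exact hI (Subsingleton.elim _ _)
  have hn := n_eq Ψ π hΨ hex z hzI hz
  have hdepth := depth_ge_two Ψ π hΨ hex
  refine ⟨hn, ?_, hdepth⟩
  subst hn
  obtain ⟨-, hkerΔ, hrangeΔ⟩ := HilbBurchH1.main12908 m Ψ hdepth 1 (one_mem _)
  obtain ⟨Δ, hΔdef⟩ : ∃ Δ : (Fin (m + 1) → R) →ₗ[R] R, Δ = Fintype.linearCombination R
      (fun i : Fin (m + 1) =>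
        (1 : R) * ((-1 : R) ^ (i : ℕ) * (Ψ.submatrix i.succAbove id).det)) := ⟨_, rfl⟩
  rw [← hΔdef] at hkerΔ hrangeΔ
  have hJ : LinearMap.range Δ = CAlgX.minorIdeal Ψ m := by
    rw [hrangeΔ, Ideal.span_singleton_one, Ideal.top_mul]
  have key : ∀ v w : Fin (m + 1) → R, Δ v * π w = Δ w * π v := by
    intro v w
    have h1 : Δ v • w - Δ w • v ∈ LinearMap.ker Δ := by
      rw [LinearMap.mem_ker, map_sub, map_smul, map_smul, smul_eq_mul, smul_eq_mul, mul_comm,
        sub_self]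
    rw [hkerΔ, ← hex, LinearMap.mem_ker, map_sub, map_smul, map_smul, smul_eq_mul, smul_eq_mul,
      sub_eq_zero] at h1
    exact h1
  obtain ⟨x, y, hxJ, hyJ, hxreg, hdiv⟩ := HilbBurchH1.depth2 _ hdepth
  rw [← hJ] at hxJ hyJ
  obtain ⟨vx, rfl⟩ := hxJ
  obtain ⟨vy, rfl⟩ := hyJ
  obtain ⟨a, ha⟩ := hdiv (π vx) ⟨π vy, (key vx vy).symm⟩
  have hπ : ∀ v, π v = a * Δ v := by
    intro v
    apply hxreg
    show Δ vx • π v = Δ vx • (a * Δ v)
    rw [smul_eq_mul, smul_eq_mul, key vx v, ha]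
    ring
  have ha_nzd : a ∈ nonZeroDivisors R := by
    obtain ⟨v₀, rfl⟩ := hzI
    rw [mem_nonZeroDivisors_iff] at hz ⊢
    constructor
    · intro r hr
      apply hz.1
      rw [hπ v₀]
      calc a * Δ v₀ * r = Δ v₀ * (a * r) := by ring
        _ = 0 := by rw [hr, mul_zero]
    · intro r hr
      apply hz.1
      rw [hπ v₀]
      calc a * Δ v₀ * r = Δ v₀ * (r * a) := by ring
        _ = 0 := by rw [hr, mul_zero]
  refine ⟨a, ha_nzd, ?_⟩
  apply le_antisymm
  · rintro _ ⟨v, rfl⟩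
    rw [hπ v]
    exact Ideal.mul_mem_mul (Ideal.mem_span_singleton_self a) (hJ ▸ ⟨v, rfl⟩)
  · rw [Ideal.mul_le]
    intro r hr j hj
    rw [Ideal.mem_span_singleton'] at hr
    obtain ⟨c, rfl⟩ := hr
    rw [← hJ] at hj
    obtain ⟨v, rfl⟩ := hj
    exact ⟨c • v, by rw [map_smul, hπ v, smul_eq_mul]; ring⟩

end Groth.Agent.Lib.HilbBurch2H1
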