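import Mathlib
import Groth.Prelude.Def_CAlgX
import Groth.Agent.Lib.MinorSummand_helper3
import Groth.Agent.Lib.BuchsEis_helper3
import Groth.Agent.Lib.HilbBurch2_helper1

/-!
# Minors of `A + εH` over the dual numbers (helper3)
-/

set_option autoImplicit false

namespace Groth.Agent.Lib.DualMinorH3

open Matrix DualNumber Groth.Agent.Lib

universe u
variable {k : Type u} [Field k]

/-- minors of size > rank vanish -/
theorem minorIdeal_eq_bot_of_rank_lt {m n : ℕ} (A : Matrix (Fin m) (Fin n) k) (s : ℕ)
    (h : A.rank < s) : CAlgX.minorIdeal A s = ⊥ := by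
  classical
  unfold CAlgX.minorIdeal
  rw [Ideal.span_eq_bot]
  rintro _ ⟨fg, rfl⟩
  by_contra hne
  have h1 : (A.submatrix fg.1 fg.2).rank = s := by
    have := Matrix.rank_of_isUnit (A.submatrix fg.1 fg.2)
      ((Matrix.isUnit_iff_isUnit_det _).mpr (Ne.isUnit hne))
    simpa using this
  have h2 := Matrix.rank_submatrix_le A fg.1 fg.2
  omega

theorem exists_gen_inverse {m n : ℕ} (A : Matrix (Fin m) (Fin n) k) :
    ∃ S : Matrix (Fin n) (Fin m) k, A * S * A = A := by
  classical
  obtain ⟨g₀, hg₀⟩ := LinearMap.exists_rightInverse_of_surjective A.mulVecLin.rangeRestrict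
    (LinearMap.range_rangeRestrict A.mulVecLin)
  obtain ⟨g, hg⟩ := LinearMap.exists_extend g₀
  refine ⟨LinearMap.toMatrix' g, ?_⟩
  apply Matrix.toLin'.injective
  apply LinearMap.ext
  intro x
  simp only [Matrix.toLin'_apply, ← Matrix.mulVec_mulVec]
  rw [LinearMap.toMatrix'_mulVec]
  have h1 : g (A.mulVec x) = g₀ ⟨A.mulVec x, ⟨x, rfl⟩⟩ :=
    LinearMap.congr_fun hg ⟨A.mulVec x, ⟨x, rfl⟩⟩
  have h2 := congrArg Subtype.val (LinearMap.congr_fun hg₀ ⟨A.mulVec x, ⟨x, rfl⟩⟩)
  rw [h1]
  exact h2

theorem exists_decomp {m n : ℕ} (A H : Matrix (Fin m) (Fin n) k)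
    (h : ∀ x : Fin n → k, A.mulVec x = 0 → ∃ y : Fin n → k, A.mulVec y = H.mulVec x) :
    ∃ (X : Matrix (Fin m) (Fin m) k) (Y : Matrix (Fin n) (Fin n) k), H = X * A + A * Y := by
  classical
  obtain ⟨S, hS⟩ := exists_gen_inverse A
  have key : (1 - A * S) * H * (1 - S * A) = 0 := by
    apply Matrix.toLin'.injective
    apply LinearMap.ext
    intro x
    simp only [Matrix.toLin'_apply, ← Matrix.mulVec_mulVec, map_zero, LinearMap.zero_apply]
    have hx : A.mulVec ((1 - S * A).mulVec x) = 0 := by
      rw [Matrix.mulVec_mulVec, Matrix.mul_sub, Matrix.mul_one, ← Matrix.mul_assoc, hS, sub_self,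
        Matrix.zero_mulVec]
    obtain ⟨y, hy⟩ := h _ hx
    rw [← hy, Matrix.mulVec_mulVec, Matrix.sub_mul, Matrix.one_mul, hS, sub_self,
      Matrix.zero_mulVec]
  refine ⟨H * S, S * H * (1 - S * A), ?_⟩
  have e : H - (H * S * A + A * (S * H * (1 - S * A))) = (1 - A * S) * H * (1 - S * A) := by
    simp only [Matrix.sub_mul, Matrix.mul_sub, Matrix.one_mul, Matrix.mul_one, Matrix.mul_assoc]
    abel
  rw [key, sub_eq_zero] at e
  exact e

theorem backward {m n r : ℕ} (A H : Matrix (Fin m) (Fin n) k) (hA : A.rank = r)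
    (h : ∀ x : Fin n → k, A.mulVec x = 0 → ∃ y : Fin n → k, A.mulVec y = H.mulVec x) :
    CAlgX.minorIdeal (A.map (algebraMap k (DualNumber k)) +
      (DualNumber.eps : DualNumber k) • H.map (algebraMap k (DualNumber k))) (r + 1) = ⊥ := by
  classical
  obtain ⟨X, Y, hXY⟩ := exists_decomp A H h
  have h0 : CAlgX.minorIdeal (A.map (algebraMap k (DualNumber k))) (r + 1) = ⊥ := by
    rw [BuchsEisH3.minorIdeal_map, minorIdeal_eq_bot_of_rank_lt A (r + 1) (by omega),
      Ideal.map_bot]
  have hfac : A.map (algebraMap k (DualNumber k)) +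
      (eps : DualNumber k) • H.map (algebraMap k (DualNumber k)) =
      (1 + (eps : DualNumber k) • X.map (algebraMap k (DualNumber k))) *
        A.map (algebraMap k (DualNumber k)) *
        (1 + (eps : DualNumber k) • Y.map (algebraMap k (DualNumber k))) := by
    rw [hXY, Matrix.map_add _ (map_add _), Matrix.map_mul, Matrix.map_mul]
    simp only [Matrix.add_mul, Matrix.mul_add, Matrix.one_mul, Matrix.mul_one, Matrix.smul_mul,
      Matrix.mul_smul, smul_smul, eps_mul_eps, zero_smul, smul_add, add_zero]
    abel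
  unfold CAlgX.minorIdeal
  rw [Ideal.span_eq_bot]
  rintro _ ⟨fg, rfl⟩
  have hmem := MinorSummandH3.det_mul_mul_mem (r := r + 1) (A.map (algebraMap k (DualNumber k)))
    ((1 + (eps : DualNumber k) • X.map (algebraMap k (DualNumber k))).submatrix fg.1 id)
    ((1 + (eps : DualNumber k) • Y.map (algebraMap k (DualNumber k))).submatrix id fg.2)
  rw [h0, Ideal.mem_bot] at hmem
  beta_reduce
  rw [hfac]
  rw [Matrix.submatrix_mul _ _ fg.1 id fg.2 Function.bijective_id,
    Matrix.submatrix_mul _ _ fg.1 id id Function.bijective_id, Matrix.submatrix_id_id]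
  exact hmem

theorem eps_mul_eq (d : DualNumber k) :
    (eps : DualNumber k) * d = eps * algebraMap k (DualNumber k) (TrivSqZeroExt.fst d) := by
  ext <;> simp [TrivSqZeroExt.algebraMap_eq_inl]

theorem fst_det {s : ℕ} (M : Matrix (Fin s) (Fin s) (DualNumber k)) :
    TrivSqZeroExt.fst M.det = (M.map TrivSqZeroExt.fst).det := by
  have := RingHom.map_det (TrivSqZeroExt.fstHom k k k).toRingHom M
  exact this

theorem det_eps {s : ℕ} (B E : Matrix (Fin (s + 1)) (Fin (s + 1)) k)
    (hB : ∀ i, B i (Fin.last s) = 0) :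
    (B.map (algebraMap k (DualNumber k)) +
      (eps : DualNumber k) • E.map (algebraMap k (DualNumber k))).det =
      eps * algebraMap k (DualNumber k)
        ((B.updateCol (Fin.last s) (fun i => E i (Fin.last s))).det) := by
  classical
  set N := B.map (algebraMap k (DualNumber k)) +
      (eps : DualNumber k) • E.map (algebraMap k (DualNumber k)) with hN
  have h1 : N = N.updateCol (Fin.last s)
      ((eps : DualNumber k) • fun i => algebraMap k (DualNumber k) (E i (Fin.last s))) := by
    apply Matrix.ext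
    intro i j
    by_cases hj : j = Fin.last s
    · subst hj
      simp [hN, hB]
    · simp [Matrix.updateCol_ne hj]
  rw [h1, Matrix.det_updateCol_smul, eps_mul_eq, fst_det]
  congr 3
  ext i j
  by_cases hj : j = Fin.last s
  · subst hj
    simp [hN, TrivSqZeroExt.algebraMap_eq_inl]
  · simp [Matrix.updateCol_ne hj, hN, TrivSqZeroExt.algebraMap_eq_inl]

theorem forward {m n r : ℕ} (A H : Matrix (Fin m) (Fin n) k) (hA : A.rank = r)
    (h : CAlgX.minorIdeal (A.map (algebraMap k (DualNumber k)) +
      (DualNumber.eps : DualNumber k) • H.map (algebraMap k (DualNumber k))) (r + 1) = ⊥)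
    (x : Fin n → k) (hx : A.mulVec x = 0) : ∃ y : Fin n → k, A.mulVec y = H.mulVec x := by
  classical
  by_contra hno
  have hHx : H.mulVec x ∉ LinearMap.range A.mulVecLin := by
    rintro ⟨y, hy⟩
    exact hno ⟨y, hy⟩
  have hfr : Module.finrank k (LinearMap.range A.mulVecLin) = r := hA
  let b : Module.Basis (Fin r) k (LinearMap.range A.mulVecLin) :=
    Module.finBasisOfFinrankEq k _ hfr
  have hv : ∀ j, ∃ v : Fin n → k, A.mulVec v = ((b j : _) : Fin m → k) := fun j => (b j).2
  choose v hv using hv
  let cols : Fin (r + 1) → (Fin m → k) :=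
    Fin.snoc (α := fun _ => Fin m → k) (fun j => ((b j : _) : Fin m → k)) (H.mulVec x)
  have hli : LinearIndependent k cols := by
    apply LinearIndependent.finSnoc
    · have := b.linearIndependent
      exact this.map' (LinearMap.range A.mulVecLin).subtype (Submodule.ker_subtype _)
    · intro hmem
      apply hHx
      refine (Submodule.span_le.mpr ?_) hmem
      rintro _ ⟨j, rfl⟩
      exact (b j).2
  let C : Matrix (Fin m) (Fin (r + 1)) k := Matrix.of fun i j => cols j i
  have hC : Function.Injective C.mulVecLin := by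
    have h1 : Function.Injective C.mulVec := Matrix.mulVec_injective_iff.mpr (by
      show LinearIndependent k C.col
      exact hli)
    exact h1
  obtain ⟨f', hf'⟩ := HilbBurch2H1.exists_minor_ne_zero C hC
  let vx : Fin (r + 1) → (Fin n → k) := Fin.snoc (α := fun _ => Fin n → k) v x
  let V : Matrix (Fin n) (Fin (r + 1)) k := Matrix.of fun i j => vx j i
  have hAVl : ∀ i, (A * V) i (Fin.last r) = 0 := by
    intro i
    have := congrFun hx i
    simp only [Matrix.mulVec, dotProduct] at this
    simpa [Matrix.mul_apply, V, vx] using this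
  have hAVc : ∀ i (j : Fin r), (A * V) i j.castSucc = ((b j : _) : Fin m → k) i := by
    intro i j
    have := congrFun (hv j) i
    simp only [Matrix.mulVec, dotProduct] at this
    simpa [Matrix.mul_apply, V, vx] using this
  have hHVl : ∀ i, (H * V) i (Fin.last r) = H.mulVec x i := by
    intro i
    simp [Matrix.mul_apply, V, vx, Matrix.mulVec, dotProduct]
  set B : Matrix (Fin (r + 1)) (Fin (r + 1)) k := (A * V).submatrix f' id with hBdef
  set E : Matrix (Fin (r + 1)) (Fin (r + 1)) k := (H * V).submatrix f' id with hEdef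
  have hBl : ∀ i, B i (Fin.last r) = 0 := fun i => hAVl (f' i)
  have hCB : C.submatrix f' id = B.updateCol (Fin.last r) (fun i => E i (Fin.last r)) := by
    ext i j
    refine Fin.lastCases ?_ (fun j' => ?_) j
    · simp [C, cols, hEdef, hHVl]
    · have hne : j'.castSucc ≠ Fin.last r := (Fin.castSucc_lt_last j').ne
      simp [C, cols, hBdef, hAVc, Matrix.updateCol_ne hne]
  have hmem := MinorSummandH3.det_mul_mul_mem (r := r + 1)
    (A.map (algebraMap k (DualNumber k)) +
      (eps : DualNumber k) • H.map (algebraMap k (DualNumber k)))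
    ((1 : Matrix (Fin m) (Fin m) (DualNumber k)).submatrix f' id)
    (V.map (algebraMap k (DualNumber k)))
  rw [h, Ideal.mem_bot] at hmem
  have e1 : (1 : Matrix (Fin m) (Fin m) (DualNumber k)).submatrix f' id *
      (A.map (algebraMap k (DualNumber k)) +
        (eps : DualNumber k) • H.map (algebraMap k (DualNumber k))) *
      V.map (algebraMap k (DualNumber k)) =
      B.map (algebraMap k (DualNumber k)) +
        (eps : DualNumber k) • E.map (algebraMap k (DualNumber k)) := by
    rw [Matrix.mul_assoc, Matrix.add_mul, Matrix.smul_mul, ← Matrix.map_mul, ← Matrix.map_mul]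
    apply Matrix.ext
    intro i j
    simp [Matrix.mul_apply, Matrix.one_apply, hBdef, hEdef]
  rw [e1, det_eps B E hBl, ← hCB] at hmem
  apply hf'
  have := congrArg TrivSqZeroExt.snd hmem
  simpa [TrivSqZeroExt.algebraMap_eq_inl] using this

end Groth.Agent.Lib.DualMinorH3
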