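import Mathlib
import Groth.Prelude
import Groth.Agent.Lib.DualLF4_helper4
import Groth.Agent.Lib.TensorAssoc_helper2
import Groth.Agent.Lib.ModSite5_helper8
import Groth.Agent.Lib.CxAdj3_helper3

/-!
# Module-level duality data: `(- ⊗ F) ⊣ (- ⊗ F^∨)` with conjugate transition maps (helper3)

For modules `F` on a ringed site for which helper4's `kappa O F : (- ⊗ F^∨) ⟶ ℋom(F, -)` is an
isomorphism (e.g. finite locally free modules on a scheme) we get the adjunction
`dualAdj : (- ⊗ F) ⊣ (- ⊗ F^∨)` with counit `epsNat`, and for `d : F ⟶ F'` the conjugate of `- ⊗ d`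
is `- ⊗ dualMap d`.
-/

set_option autoImplicit false
set_option linter.all false
set_option maxHeartbeats 1600000

universe u
open CategoryTheory Limits ModSite

namespace Groth.Agent.Lib.DualModH3

open Groth.Agent.Lib.ModSiteH8 Groth.Agent.Lib.DualLFH4 Groth.Agent.Lib.TensorAssoc
  Groth.Agent.Lib.CxAdjH3

attribute [local instance] Groth.Agent.Lib.ModSiteH8.hasSheafHom

section general

variable {C D : Type*} [Category C] [Category D] {L₁ L₂ : C ⥤ D} {R₁ R₂ : D ⥤ C}

lemma conj_eq_of_counit (adj₁ : L₁ ⊣ R₁) (adj₂ : L₂ ⊣ R₂) (α : L₂ ⟶ L₁) (β : R₁ ⟶ R₂)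
    (h : ∀ d : D, L₂.map (β.app d) ≫ adj₂.counit.app d = α.app (R₁.obj d) ≫ adj₁.counit.app d) :
    conjugateEquiv adj₁ adj₂ α = β := by
  ext d
  apply (adj₂.homEquiv _ _).symm.injective
  rw [Adjunction.homEquiv_counit, Adjunction.homEquiv_counit, conjugateEquiv_counit, h]

end general

variable {C : Type u} [SmallCategory C] {J : GrothendieckTopology C} (O : Sheaf J CommRingCat.{u})

/-- the conjugate of `- ⊗ d` -/
noncomputable def sheafHomMap {F F' : Mod O} (d : F ⟶ F') : sheafHom F' ⟶ sheafHom F :=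
  conjugateEquiv (sheafHomAdj F') (sheafHomAdj F) ((tensorBi O).flip.map d)

/-- the dual of a morphism -/
noncomputable def dualMap {F F' : Mod O} (d : F ⟶ F') : dual O F' ⟶ dual O F :=
  (sheafHomMap O d).app (ModSite.unit O)

lemma sheafHomMap_comp {F F' F'' : Mod O} (d : F ⟶ F') (d' : F' ⟶ F'') :
    sheafHomMap O (d ≫ d') = sheafHomMap O d' ≫ sheafHomMap O d := by
  unfold sheafHomMap
  rw [Functor.map_comp, conjugateEquiv_comp]

lemma dualMap_comp {F F' F'' : Mod O} (d : F ⟶ F') (d' : F' ⟶ F'') :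
    dualMap O (d ≫ d') = dualMap O d' ≫ dualMap O d := by
  unfold dualMap
  rw [sheafHomMap_comp]
  rfl

lemma sheafHomMap_zero {F F' : Mod O} : sheafHomMap O (0 : F ⟶ F') = 0 := by
  apply conj_eq_of_counit
  intro d
  simp

lemma dualMap_zero {F F' : Mod O} : dualMap O (0 : F ⟶ F') = 0 := by
  unfold dualMap
  rw [sheafHomMap_zero]
  rfl

lemma ev_dinat {F F' : Mod O} (d : F ⟶ F') :
    ((tensorBi O).map (dualMap O d)).app F ≫ ev O F =
      ((tensorBi O).obj (dual O F')).map d ≫ ev O F' :=
  conjugateEquiv_counit (sheafHomAdj F') (sheafHomAdj F) ((tensorBi O).flip.map d)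
    (ModSite.unit O)

lemma assocFlip_app (G F X : Mod O) :
    (assocFlip O G F).hom.app X = (assocIso O X G F).hom := by
  rw [assocFlip_hom_app]
  rfl

lemma epsNat_app (F G : Mod O) :
    (epsNat O F).app G = (assocIso O G (dual O F) F).hom ≫
      ((tensorBi O).obj G).map (ev O F) ≫ (SheafHomLFH9.rightUnitor O).hom.app G := by
  rw [← assocFlip_app]
  rfl

lemma epsNat_dinat {F F' : Mod O} (d : F ⟶ F') (G : Mod O) :
    ((tensorBi O).map (((tensorBi O).obj G).map (dualMap O d))).app F ≫ (epsNat O F).app G =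
      ((tensorBi O).obj (((tensorBi O).obj G).obj (dual O F'))).map d ≫ (epsNat O F').app G := by
  rw [epsNat_app, epsNat_app]
  have h2 := assocIso_nat₂ G (dual O F') F (dualMap O d)
  have h3 := assocIso_nat₃ G (dual O F') F d
  rw [reassoc_of% h2, reassoc_of% h3, ← Functor.map_comp_assoc, ← Functor.map_comp_assoc, ev_dinat]

variable (F : Mod O)

/-- the adjunction `(- ⊗ F) ⊣ (- ⊗ F^∨)` when `kappa` is an isomorphism -/
noncomputable def dualAdj [IsIso (kappa O F)] : Fl O F ⊣ Fl O (dual O F) :=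
  (sheafHomAdj F).ofNatIsoRight (asIso (kappa O F)).symm

lemma dualAdj_counit [IsIso (kappa O F)] (G : Mod O) :
    (dualAdj O F).counit.app G = (epsNat O F).app G := by
  have h1 : (dualAdj O F).counit.app G =
      (Fl O F).map ((kappa O F).app G) ≫ (sheafHomAdj F).counit.app G := by
    unfold dualAdj
    rw [← Adjunction.homEquiv_symm_id, Adjunction.homEquiv_ofNatIsoRight_symm_apply,
      Adjunction.homEquiv_counit]
    simp
  rw [h1, kappa_app, Functor.map_comp, Category.assoc]
  have h2 := (sheafHomAdj F).counit.naturality ((epsNat O F).app G)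
  have h3 := (sheafHomAdj F).left_triangle_components (((tensorBi O).flip.obj (dual O F)).obj G)
  erw [h2, reassoc_of% h3]
  rfl

lemma dualAdj_conj {F F' : Mod O} [IsIso (kappa O F)] [IsIso (kappa O F')] (d : F ⟶ F') :
    conjugateEquiv (dualAdj O F') (dualAdj O F) (FlMap O d) = FlMap O (dualMap O d) := by
  apply conj_eq_of_counit
  intro G
  rw [dualAdj_counit, dualAdj_counit]
  exact epsNat_dinat O d G

end Groth.Agent.Lib.DualModH3
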