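import Mathlib
import Groth.Prelude

set_option autoImplicit false
set_option linter.style.haveILetI false
set_option linter.unusedVariables false

universe u

open CategoryTheory AlgebraicGeometry TopologicalSpace

namespace Groth.Agent.Lib.DualPtUnramH4

/-- The ring hom `a ↦ χ a + ε δ a` attached to a `χ`-derivation `δ`. -/
noncomputable def mkHom {k A : Type u} [Field k] [CommRing A] (χ : A →+* k) (δ : A → k)
    (hadd : ∀ a b, δ (a + b) = δ a + δ b)
    (hmul : ∀ a b, δ (a * b) = χ a * δ b + χ b * δ a) :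
    A →+* DualNumber k where
  toFun a := TrivSqZeroExt.inl (χ a) + TrivSqZeroExt.inr (δ a)
  map_one' := by
    have h1 : δ 1 = 0 := by
      have := hmul 1 1
      simp only [mul_one, map_one, one_mul] at this
      linear_combination -this
    refine TrivSqZeroExt.ext ?_ ?_
    · simp
    · simp [h1]
  map_mul' a b := by
    refine TrivSqZeroExt.ext ?_ ?_
    · simp
    · simp [hmul] <;> ring
  map_zero' := by
    have h0 : δ 0 = 0 := by
      have := hadd 0 0
      simp only [add_zero] at this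
      linear_combination -this
    refine TrivSqZeroExt.ext ?_ ?_
    · simp
    · simp [h0]
  map_add' a b := by
    refine TrivSqZeroExt.ext ?_ ?_
    · simp
    · simp [hadd]

theorem mkHom_apply {k A : Type u} [Field k] [CommRing A] (χ : A →+* k) (δ : A → k)
    (hadd : ∀ a b, δ (a + b) = δ a + δ b)
    (hmul : ∀ a b, δ (a * b) = χ a * δ b + χ b * δ a) (a : A) :
    mkHom χ δ hadd hmul a = TrivSqZeroExt.inl (χ a) + TrivSqZeroExt.inr (δ a) := rfl

theorem alg_main (k A : Type u) [Field k] [IsAlgClosed k] [CommRing A] [Algebra k A]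
    [Algebra.FiniteType k A]
    (H : ∀ φ₁ φ₂ : A →+* DualNumber k,
      φ₁.comp (algebraMap k A) = algebraMap k (DualNumber k) →
      φ₂.comp (algebraMap k A) = algebraMap k (DualNumber k) →
      (TrivSqZeroExt.fstHom k k k).toRingHom.comp φ₁ =
        (TrivSqZeroExt.fstHom k k k).toRingHom.comp φ₂ → φ₁ = φ₂) :
    Algebra.FormallyUnramified k A := by
  classical
  refine ⟨?_⟩
  by_contra hne
  rw [not_subsingleton_iff_nontrivial] at hne
  haveI := hne
  have hann : Module.annihilator A Ω[A⁄k] ≠ ⊤ := fun h =>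
    (not_subsingleton Ω[A⁄k]) (Module.annihilator_eq_top_iff.mp h)
  obtain ⟨m, hm, hle⟩ := Ideal.exists_le_maximal _ hann
  haveI := hm
  have hmtop : (m • (⊤ : Submodule A Ω[A⁄k])) ≠ ⊤ := by
    intro h
    obtain ⟨r, hr1, hr2⟩ :=
      Submodule.exists_sub_one_mem_and_smul_eq_zero_of_fg_of_le_smul m
        (⊤ : Submodule A Ω[A⁄k]) Module.Finite.fg_top (le_of_eq h.symm)
    have hrann : r ∈ Module.annihilator A Ω[A⁄k] :=
      Module.mem_annihilator.mpr fun n => hr2 n trivial
    have hrm : r ∈ m := hle hrann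
    have h1m : (1 : A) ∈ m := by
      have := m.sub_mem hrm hr1
      simpa using this
    exact hm.ne_top ((Ideal.eq_top_iff_one m).mpr h1m)
  haveI : Algebra.FiniteType k (A ⧸ m) :=
    Algebra.FiniteType.of_surjective (Ideal.Quotient.mkₐ k m)
      (Ideal.Quotient.mkₐ_surjective k m)
  letI : Field (A ⧸ m) := Ideal.Quotient.field m
  haveI : Module.Finite k (A ⧸ m) := finite_of_finite_type_of_isJacobsonRing k (A ⧸ m)
  haveI : Algebra.IsIntegral k (A ⧸ m) := inferInstance
  have hbij : Function.Bijective (algebraMap k (A ⧸ m)) :=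
    IsAlgClosed.algebraMap_bijective_of_isIntegral
  let e : k ≃+* (A ⧸ m) := RingEquiv.ofBijective (algebraMap k (A ⧸ m)) hbij
  let χ : A →+* k := (e.symm : (A ⧸ m) →+* k).comp (Ideal.Quotient.mk m)
  have hχalg : ∀ c : k, χ (algebraMap k A c) = c := by
    intro c
    show e.symm (Ideal.Quotient.mk m (algebraMap k A c)) = c
    rw [RingEquiv.symm_apply_eq]
    rfl
  have hχm : ∀ a : A, a - algebraMap k A (χ a) ∈ m := by
    intro a
    rw [← Ideal.Quotient.eq]
    have h1 : e (χ a) = Ideal.Quotient.mk m a := e.apply_symm_apply _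
    exact h1.symm
  let Mm : Submodule A Ω[A⁄k] := m • ⊤
  haveI : Nontrivial (Ω[A⁄k] ⧸ Mm) := Submodule.Quotient.nontrivial_iff.mpr hmtop
  obtain ⟨n₀, hn₀⟩ := exists_ne (0 : Ω[A⁄k] ⧸ Mm)
  obtain ⟨ℓ₀, hℓ₀⟩ : ∃ ℓ₀ : (Ω[A⁄k] ⧸ Mm) →ₗ[k] k, ℓ₀ n₀ ≠ 0 := by
    by_contra hcon
    have hcon' : ∀ φ : Module.Dual k (Ω[A⁄k] ⧸ Mm), φ n₀ = 0 := fun φ => by
      by_contra h
      exact hcon ⟨φ, h⟩
    exact hn₀ ((Module.forall_dual_apply_eq_zero_iff k n₀).mp hcon')
  let q : Ω[A⁄k] →ₗ[k] (Ω[A⁄k] ⧸ Mm) := Mm.mkQ.restrictScalars k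
  let ℓ : Ω[A⁄k] →ₗ[k] k := ℓ₀.comp q
  have hℓ : ∀ (a : A) (ω : Ω[A⁄k]), ℓ (a • ω) = χ a * ℓ ω := by
    intro a ω
    have h1 : q (a • ω) = q ((χ a) • ω) := by
      show Mm.mkQ (a • ω) = Mm.mkQ ((χ a) • ω)
      rw [← sub_eq_zero, ← map_sub, Submodule.mkQ_apply, Submodule.Quotient.mk_eq_zero]
      have h2 : a • ω - (χ a) • ω = (a - algebraMap k A (χ a)) • ω := by
        rw [sub_smul, algebraMap_smul]
      rw [h2]
      exact Submodule.smul_mem_smul (hχm a) trivial
    show ℓ₀ (q (a • ω)) = χ a * ℓ₀ (q ω)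
    rw [h1, map_smul, map_smul, smul_eq_mul]
  let d : A → k := fun a => ℓ (KaehlerDifferential.D k A a)
  have hd_add : ∀ a b, d (a + b) = d a + d b := by
    intro a b
    show ℓ (KaehlerDifferential.D k A (a + b)) = _
    rw [map_add, map_add]
  have hd_mul : ∀ a b, d (a * b) = χ a * d b + χ b * d a := by
    intro a b
    show ℓ (KaehlerDifferential.D k A (a * b)) = _
    rw [Derivation.leibniz, map_add, hℓ, hℓ]
  have hd_alg : ∀ c : k, d (algebraMap k A c) = 0 := by
    intro c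
    show ℓ (KaehlerDifferential.D k A (algebraMap k A c)) = 0
    rw [Derivation.map_algebraMap, map_zero]
  have hd_ne : ∃ a, d a ≠ 0 := by
    by_contra hcon
    have hcon' : ∀ a, d a = 0 := fun a => by
      by_contra h
      exact hcon ⟨a, h⟩
    have hℓ0 : ∀ ω : Ω[A⁄k], ℓ ω = 0 := by
      intro ω
      have hω : ω ∈ Submodule.span A (Set.range (KaehlerDifferential.D k A)) := by
        rw [KaehlerDifferential.span_range_derivation]; trivial
      refine Submodule.span_induction (p := fun ω _ => ℓ ω = 0) ?_ ?_ ?_ ?_ hω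
      · rintro _ ⟨a, rfl⟩; exact hcon' a
      · exact map_zero ℓ
      · intro x y _ _ hx hy; rw [map_add, hx, hy, add_zero]
      · intro a x _ hx; rw [hℓ, hx, mul_zero]
    obtain ⟨ω₀, rfl⟩ := Mm.mkQ_surjective n₀
    exact hℓ₀ (hℓ0 ω₀)
  obtain ⟨a₀, ha₀⟩ := hd_ne
  let d0 : A → k := fun _ => 0
  have hd0_add : ∀ a b, d0 (a + b) = d0 a + d0 b := by intro a b; simp [d0]
  have hd0_mul : ∀ a b, d0 (a * b) = χ a * d0 b + χ b * d0 a := by intro a b; simp [d0]
  let φ₁ : A →+* DualNumber k := mkHom χ d0 hd0_add hd0_mul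
  let φ₂ : A →+* DualNumber k := mkHom χ d hd_add hd_mul
  have h12 : φ₁ = φ₂ := by
    refine H φ₁ φ₂ (RingHom.ext fun c => ?_) (RingHom.ext fun c => ?_) (RingHom.ext fun a => ?_)
    · show mkHom χ d0 hd0_add hd0_mul (algebraMap k A c) = algebraMap k (DualNumber k) c
      rw [mkHom_apply, hχalg, TrivSqZeroExt.algebraMap_eq_inl]
      simp [d0]
    · show mkHom χ d hd_add hd_mul (algebraMap k A c) = algebraMap k (DualNumber k) c
      rw [mkHom_apply, hχalg, hd_alg, TrivSqZeroExt.algebraMap_eq_inl]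
      simp
    · show (mkHom χ d0 hd0_add hd0_mul a).fst = (mkHom χ d hd_add hd_mul a).fst
      rw [mkHom_apply, mkHom_apply]
      simp
  have h3 := congrArg TrivSqZeroExt.snd (RingHom.congr_fun h12 a₀)
  have h4 : (0 : k) = d a₀ := by
    have h5 : (mkHom χ d0 hd0_add hd0_mul a₀).snd =
        (mkHom χ d hd_add hd_mul a₀).snd := h3
    rw [mkHom_apply, mkHom_apply] at h5
    simpa [d0] using h5
  exact ha₀ h4.symm

theorem nilp_aux {R S : CommRingCat.{u}} (f : R ⟶ S)
    (hf : ∀ x y : R, f.hom x = 0 → f.hom y = 0 → x * y = 0) :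
    IsNilpotent (Spec.map f).ker := by
  refine ⟨2, ?_⟩
  rw [Scheme.ker_of_isAffine]
  have hK : (RingHom.ker (Spec.map f).appTop.hom) ^ 2 = 0 := by
    rw [Ideal.zero_eq_bot, sq, ← le_bot_iff, Ideal.mul_le]
    intro x hx y hy
    rw [Ideal.mem_bot]
    have nat := Scheme.ΓSpecIso_naturality f
    have key : ∀ z, (Spec.map f).appTop.hom z = 0 →
        f.hom ((Scheme.ΓSpecIso R).hom.hom z) = 0 := by
      intro z hz
      have h1 := congrArg (fun g => g.hom z) nat
      simp only [CommRingCat.hom_comp, RingHom.comp_apply] at h1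
      rw [hz, map_zero] at h1
      exact h1.symm
    have h2 := hf _ _ (key x ((RingHom.mem_ker).mp hx)) (key y ((RingHom.mem_ker).mp hy))
    rw [← map_mul] at h2
    have hinj : Function.Injective (Scheme.ΓSpecIso R).commRingCatIsoToRingEquiv :=
      RingEquiv.injective _
    apply hinj
    rw [map_zero]
    exact h2
  calc (Scheme.IdealSheafData.ofIdealTop (RingHom.ker (Spec.map f).appTop.hom)) ^ 2
      = (Scheme.IdealSheafData.equivOfIsAffine.symm
          (RingHom.ker (Spec.map f).appTop.hom)) ^ 2 := rfl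
    _ = Scheme.IdealSheafData.equivOfIsAffine.symm
          ((RingHom.ker (Spec.map f).appTop.hom) ^ 2) := (map_pow _ _ _).symm
    _ = Scheme.IdealSheafData.equivOfIsAffine.symm 0 := by rw [hK]
    _ = 0 := map_zero _

theorem nilp (k : Type u) [Field k] :
    IsNilpotent (Spec.map (CommRingCat.ofHom (TrivSqZeroExt.fstHom k k k).toRingHom)).ker := by
  refine nilp_aux _ (fun x y hx hy => ?_)
  have hx' : (x : TrivSqZeroExt k k).fst = 0 := hx
  have hy' : (y : TrivSqZeroExt k k).fst = 0 := hy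
  refine TrivSqZeroExt.ext ?_ ?_
  · show ((x : TrivSqZeroExt k k) * y).fst = 0
    rw [TrivSqZeroExt.fst_mul, hx', zero_mul]
  · show ((x : TrivSqZeroExt k k) * y).snd = 0
    rw [TrivSqZeroExt.snd_mul, hx', hy']
    simp

theorem forward (k : Type u) [Field k] {X : Scheme.{u}} (p : X ⟶ Spec (CommRingCat.of k))
    [FormallyUnramified p]
    (v₁ v₂ : Spec (CommRingCat.of (DualNumber k)) ⟶ X)
    (h₁ : v₁ ≫ p = Spec.map (CommRingCat.ofHom (algebraMap k (DualNumber k))))
    (h₂ : v₂ ≫ p = Spec.map (CommRingCat.ofHom (algebraMap k (DualNumber k))))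
    (h₁₂ : Spec.map (CommRingCat.ofHom (TrivSqZeroExt.fstHom k k k).toRingHom) ≫ v₁ =
      Spec.map (CommRingCat.ofHom (TrivSqZeroExt.fstHom k k k).toRingHom) ≫ v₂) : v₁ = v₂ := by
  haveI : IsClosedImmersion
      (Spec.map (CommRingCat.ofHom (TrivSqZeroExt.fstHom k k k).toRingHom)) :=
    IsClosedImmersion.spec_of_surjective _
      (fun c => ⟨TrivSqZeroExt.inl c, TrivSqZeroExt.fst_inl k c⟩)
  exact FormallyUnramified.hom_ext _ (nilp k) p h₁₂ (h₁.trans h₂.symm)

theorem backward (k : Type u) [Field k] [IsAlgClosed k] {X : Scheme.{u}}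
    (p : X ⟶ Spec (CommRingCat.of k)) [LocallyOfFiniteType p]
    (H : ∀ v₁ v₂ : Spec (CommRingCat.of (DualNumber k)) ⟶ X,
        v₁ ≫ p = Spec.map (CommRingCat.ofHom (algebraMap k (DualNumber k))) →
        v₂ ≫ p = Spec.map (CommRingCat.ofHom (algebraMap k (DualNumber k))) →
        Spec.map (CommRingCat.ofHom (TrivSqZeroExt.fstHom k k k).toRingHom) ≫ v₁ =
          Spec.map (CommRingCat.ofHom (TrivSqZeroExt.fstHom k k k).toRingHom) ≫ v₂ →
        v₁ = v₂) : FormallyUnramified p := by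
  rw [IsZariskiLocalAtSource.iff_of_iSup_eq_top (P := @FormallyUnramified)
    (fun V : X.affineOpens => (V : X.Opens)) (iSup_affineOpens_eq_top X)]
  intro V
  have hV : IsAffineOpen V.1 := V.2
  let j : Spec Γ(X, V.1) ⟶ X := hV.fromSpec
  haveI : LocallyOfFiniteType (j ≫ p) := inferInstance
  let ψ : CommRingCat.of k ⟶ Γ(X, V.1) := Spec.preimage (j ≫ p)
  have hψmap : Spec.map ψ = j ≫ p := Spec.map_preimage _
  have hψ : RingHom.FiniteType ψ.hom := by
    have h1 : LocallyOfFiniteType (Spec.map ψ) := by rw [hψmap]; infer_instance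
    exact (HasRingHomProperty.Spec_iff (P := @LocallyOfFiniteType)).mp h1
  letI : Algebra k Γ(X, V.1) := ψ.hom.toAlgebra
  haveI : Algebra.FiniteType k Γ(X, V.1) := hψ
  have hfu : Algebra.FormallyUnramified k Γ(X, V.1) := by
    refine alg_main k _ (fun φ₁ φ₂ hφ₁ hφ₂ hφ => ?_)
    have hv : ∀ φ : Γ(X, V.1) →+* DualNumber k,
        φ.comp (algebraMap k Γ(X, V.1)) = algebraMap k (DualNumber k) →
        (Spec.map (CommRingCat.ofHom φ) ≫ j) ≫ p =
          Spec.map (CommRingCat.ofHom (algebraMap k (DualNumber k))) := by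
      intro φ hφ'
      rw [Category.assoc, ← hψmap, ← Spec.map_comp]
      congr 1
      apply CommRingCat.hom_ext
      exact hφ'
    have hr : Spec.map (CommRingCat.ofHom (TrivSqZeroExt.fstHom k k k).toRingHom) ≫
          (Spec.map (CommRingCat.ofHom φ₁) ≫ j) =
        Spec.map (CommRingCat.ofHom (TrivSqZeroExt.fstHom k k k).toRingHom) ≫
          (Spec.map (CommRingCat.ofHom φ₂) ≫ j) := by
      rw [← Category.assoc, ← Category.assoc, ← Spec.map_comp, ← Spec.map_comp]
      congr 2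
      apply CommRingCat.hom_ext
      exact hφ
    have h2 := H _ _ (hv φ₁ hφ₁) (hv φ₂ hφ₂) hr
    rw [cancel_mono] at h2
    have h3 := Spec.map_injective h2
    exact congrArg CommRingCat.Hom.hom h3
  have hfu' : ψ.hom.FormallyUnramified := hfu
  have h4 : FormallyUnramified (Spec.map ψ) :=
    (HasRingHomProperty.Spec_iff (P := @FormallyUnramified)).mpr hfu'
  rw [hψmap] at h4
  have h5 : j ≫ p = hV.isoSpec.inv ≫ (V.1.ι ≫ p) := by
    rw [← Category.assoc, hV.isoSpec_inv_ι]
  rw [h5] at h4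
  exact (MorphismProperty.cancel_left_of_respectsIso (@FormallyUnramified) hV.isoSpec.inv _).mp h4

theorem main (k : Type u) [Field k] [IsAlgClosed k]
    {X : Scheme.{u}} (p : X ⟶ Spec (CommRingCat.of k)) [LocallyOfFiniteType p] :
    FormallyUnramified p ↔
      ∀ v₁ v₂ : Spec (CommRingCat.of (DualNumber k)) ⟶ X,
        v₁ ≫ p = Spec.map (CommRingCat.ofHom (algebraMap k (DualNumber k))) →
        v₂ ≫ p = Spec.map (CommRingCat.ofHom (algebraMap k (DualNumber k))) →
        Spec.map (CommRingCat.ofHom (TrivSqZeroExt.fstHom k k k).toRingHom) ≫ v₁ =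
          Spec.map (CommRingCat.ofHom (TrivSqZeroExt.fstHom k k k).toRingHom) ≫ v₂ →
        v₁ = v₂ := by
  constructor
  · intro h v₁ v₂ h₁ h₂ h₁₂
    haveI := h
    exact forward k p v₁ v₂ h₁ h₂ h₁₂
  · exact backward k p

end Groth.Agent.Lib.DualPtUnramH4
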