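import Mathlib

set_option autoImplicit false
set_option maxHeartbeats 1000000

/-!
# The dual of a finite projective module has the same rank function (helper1)
-/

namespace DualRankH1

open TensorProduct

universe u

section BC

variable (R : Type u) [CommRing R] (S : Type u) [CommRing S] [Algebra R S]
  (M : Type u) [AddCommGroup M] [Module R M]

/-- `S ⊗ M^∨ → Hom_R(M, S)`, `s ⊗ f ↦ (m ↦ s * f m)`; `S`-linear. -/
noncomputable def dualBC : S ⊗[R] Module.Dual R M →ₗ[S] (M →ₗ[R] S) :=
  LinearMap.liftBaseChange S (LinearMap.compRight R (Algebra.linearMap R S))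

theorem dualBC_tmul (s : S) (f : Module.Dual R M) (m : M) :
    dualBC R S M (s ⊗ₜ[R] f) m = s * algebraMap R S (f m) := by
  unfold dualBC
  rw [LinearMap.liftBaseChange_tmul, LinearMap.smul_apply, LinearMap.compRight_apply,
    LinearMap.comp_apply, Algebra.linearMap_apply, smul_eq_mul]

variable [Module.Finite R M] [Module.Projective R M]

theorem dualBC_eq (z : S ⊗[R] Module.Dual R M) :
    dualBC R S M z =
      ((TensorProduct.comm R S (Module.Dual R M)) ≪≫ₗ dualTensorHomEquiv R M S) z := by
  induction z using TensorProduct.induction_on with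
  | zero => rw [map_zero, map_zero]
  | add x y hx hy => rw [map_add, map_add, hx, hy]
  | tmul s f =>
    apply LinearMap.ext
    intro m
    rw [dualBC_tmul]
    simp [Algebra.smul_def, mul_comm]

theorem dualBC_bijective : Function.Bijective (dualBC R S M) := by
  have h : ⇑(dualBC R S M) =
      ⇑((TensorProduct.comm R S (Module.Dual R M)) ≪≫ₗ dualTensorHomEquiv R M S) :=
    funext (dualBC_eq R S M)
  rw [h]
  exact LinearEquiv.bijective _

/-- base change of the dual of a finite projective module -/
noncomputable def dualBCEquiv : S ⊗[R] Module.Dual R M ≃ₗ[S] Module.Dual S (S ⊗[R] M) :=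
  (LinearEquiv.ofBijective (dualBC R S M) (dualBC_bijective R S M)) ≪≫ₗ
    LinearMap.liftBaseChangeEquiv S

end BC

theorem rankAtStalk_dual (R : Type u) [CommRing R] (M : Type u) [AddCommGroup M] [Module R M]
    [Module.Finite R M] [Module.Projective R M] (q : PrimeSpectrum R) :
    Module.rankAtStalk (Module.Dual R M) q = Module.rankAtStalk M q := by
  rw [Module.rankAtStalk_eq_finrank_tensorProduct, Module.rankAtStalk_eq_finrank_tensorProduct]
  haveI : Module.Free (Localization.AtPrime q.asIdeal) (Localization.AtPrime q.asIdeal ⊗[R] M) :=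
    Module.free_of_flat_of_isLocalRing
  rw [LinearEquiv.finrank_eq (dualBCEquiv R (Localization.AtPrime q.asIdeal) M),
    ← LinearEquiv.finrank_eq (Module.Free.chooseBasis (Localization.AtPrime q.asIdeal)
      (Localization.AtPrime q.asIdeal ⊗[R] M)).toDualEquiv]

end DualRankH1
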