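import Mathlib
import Groth.Prelude.Def_DRing2
import Groth.Prelude.Def_DDual2
import Groth.Prelude.Def_Wider
import Groth.Agent.Lib.DMod86_helper6
import Groth.Agent.Lib.DMod82_helper6
import Groth.Agent.Lib.DMod5_helper6

/-!
# Dualizing complexes via the residue field (helper1), part 1: finite injective dimension

Over a Noetherian local ring, an object `R` of `D(A)` with finite cohomology, bounded below, such
that `Ext^i(k, R) = 0` for `i > d`, has injective amplitude in `[a, d]`.
(Adaptation of helper6's `DMod86` to complexes which are not yet known to be dualizing.)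
-/

set_option autoImplicit false
universe u
open CategoryTheory CategoryTheory.Limits DerivedCategory Pretriangulated ZeroObject
attribute [local instance] HasDerivedCategory.standard

namespace Groth.Agent.Lib.DualResH1

open Groth.Agent.Lib.DMod_helper6 DRing

variable {A : Type u} [CommRing A]

/-- `H^j(ω[i]) ≅ H^{i+j}(ω)` -/
noncomputable def HDShiftIso (ω : Dual.D A) (i j : ℤ) :
    (homologyFunctor (ModuleCat.{u} A) j).obj (ω⟦i⟧) ≅
      (homologyFunctor (ModuleCat.{u} A) (i + j)).obj ω :=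
  ((homologyFunctor (ModuleCat.{u} A) 0).shiftIso i j (i + j) rfl).app ω

lemma subsingleton_HD_shift (ω : Dual.D A) (i j : ℤ) (h : Subsingleton (Dual.HD A ω (i + j))) :
    Subsingleton (Dual.HD A (ω⟦i⟧) j) :=
  (HDShiftIso ω i j).toLinearEquiv.toEquiv.subsingleton

lemma finite_HD_shift (ω : Dual.D A) (i j : ℤ) (h : Module.Finite A (Dual.HD A ω (i + j))) :
    Module.Finite A (Dual.HD A (ω⟦i⟧) j) :=
  Module.Finite.equiv (HDShiftIso ω i j).symm.toLinearEquiv

/-- `Ext^i(M, ω)` is finite for `M` finite and `ω` bounded below with finite cohomology. -/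
lemma finite_ext [IsNoetherianRing A] (ω : Dual.D A) (c : ℤ)
    (hc : ∀ i : ℤ, i < c → Subsingleton (Dual.HD A ω i))
    (hf : ∀ i : ℤ, Module.Finite A (Dual.HD A ω i))
    (M : Type u) [AddCommGroup M] [Module A M] [Module.Finite A M] (i : ℤ) :
    Module.Finite A (Dual.inD A M ⟶ ω⟦i⟧) := by
  haveI : DerivedCategory.IsLE (Dual.inD A M) 0 := inferInstance
  refine hom_finite_of_pc_of_boundedBelow (Dual.inD A M) (isPseudoCoherentModule'_of_finite M) 0
    (ω⟦i⟧) (c - i) (fun j hj => ?_) (fun j => ?_)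
  · exact subsingleton_HD_shift ω i j (hc (i + j) (by omega))
  · exact finite_HD_shift ω i j (hf (i + j))

/-- key step (Nakayama): `x ∈ m` injective on the finite module `M` with cokernel `N₃`:
`Ext^{>0}(N₃, ω) = 0` implies `Ext^{>0}(M, ω) = 0`. -/
lemma extVanish_of_regular' [IsLocalRing A] [IsNoetherianRing A] (ω : Dual.D A) (c : ℤ)
    (hc : ∀ i : ℤ, i < c → Subsingleton (Dual.HD A ω i))
    (hf : ∀ i : ℤ, Module.Finite A (Dual.HD A ω i))
    {M N₃ : Type u} [AddCommGroup M] [Module A M] [Module.Finite A M] [AddCommGroup N₃]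
    [Module A N₃] (x : A) (hx : x ∈ IsLocalRing.maximalIdeal A) (g : M →ₗ[A] N₃)
    (hinj : Function.Injective (x • (LinearMap.id : M →ₗ[A] M)))
    (hg : Function.Surjective g) (hfg : Function.Exact (x • (LinearMap.id : M →ₗ[A] M)) g)
    (h3 : ExtVanish ω N₃) : ExtVanish ω M := by
  intro i hi
  have hS := linSC_shortExact (x • (LinearMap.id : M →ₗ[A] M)) g hfg hinj hg
  have hT := hS.singleTriangle_distinguished
  haveI : Module.Finite A (Dual.inD A M ⟶ ω⟦i⟧) := finite_ext ω c hc hf M i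
  have hmap : (DerivedCategory.singleFunctor (ModuleCat.{u} A) 0).map
      (ModuleCat.ofHom (x • (LinearMap.id : M →ₗ[A] M))) = x • 𝟙 (Dual.inD A M) := by
    have : ModuleCat.ofHom (x • (LinearMap.id : M →ₗ[A] M)) = x • 𝟙 (ModuleCat.of A M) := by
      ext m
      rfl
    rw [this, Functor.map_smul, CategoryTheory.Functor.map_id]
  have hsurj : ∀ φ : Dual.inD A M ⟶ ω⟦i⟧, ∃ ψ : Dual.inD A M ⟶ ω⟦i⟧, φ = x • ψ := by
    intro φ
    let e : ω⟦i + 1⟧ ≅ (ω⟦i⟧)⟦(1 : ℤ)⟧ := (shiftFunctorAdd' (Dual.D A) i 1 (i + 1) rfl).app ω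
    haveI := h3 (i + 1) (by omega)
    have h0 : hS.singleδ ≫ φ⟦(1 : ℤ)⟧' = 0 := by
      rw [← cancel_mono e.inv, zero_comp]
      exact Subsingleton.elim _ _
    obtain ⟨γ, hγ⟩ : ∃ γ : (Dual.inD A M)⟦(1 : ℤ)⟧ ⟶ (ω⟦i⟧)⟦(1 : ℤ)⟧,
        φ⟦(1 : ℤ)⟧' = (-((DerivedCategory.singleFunctor (ModuleCat.{u} A) 0).map
          (ModuleCat.ofHom (x • (LinearMap.id : M →ₗ[A] M))))⟦(1 : ℤ)⟧') ≫ γ :=
      Pretriangulated.Triangle.yoneda_exact₃ _ (rot_of_distTriang _ hT) (φ⟦(1 : ℤ)⟧') h0
    obtain ⟨γ', rfl⟩ := (shiftFunctor (Dual.D A) (1 : ℤ)).map_surjective γ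
    refine ⟨-γ', ?_⟩
    apply (shiftFunctor (Dual.D A) (1 : ℤ)).map_injective
    rw [hγ, hmap]
    simp only [Functor.map_smul, Functor.map_neg, CategoryTheory.Functor.map_id,
      Preadditive.neg_comp, Linear.smul_comp, Category.id_comp, smul_neg]
  have htop : (⊤ : Submodule A (Dual.inD A M ⟶ ω⟦i⟧)) = ⊥ := by
    refine Submodule.eq_bot_of_le_smul_of_le_jacobson_bot (IsLocalRing.maximalIdeal A) ⊤
      Module.Finite.fg_top ?_ (IsLocalRing.maximalIdeal_le_jacobson ⊥)
    intro φ _
    obtain ⟨ψ, rfl⟩ := hsurj φ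
    exact Submodule.smul_mem_smul hx Submodule.mem_top
  refine subsingleton_of_forall_eq 0 (fun φ => ?_)
  have hφ : φ ∈ (⊥ : Submodule A (Dual.inD A M ⟶ ω⟦i⟧)) := htop ▸ Submodule.mem_top
  exact (Submodule.mem_bot A).1 hφ

theorem extVanish_quot_prime' [IsLocalRing A] [IsNoetherianRing A] (ω : Dual.D A) (c : ℤ)
    (hc : ∀ i : ℤ, i < c → Subsingleton (Dual.HD A ω i))
    (hf : ∀ i : ℤ, Module.Finite A (Dual.HD A ω i))
    (hk : ExtVanish ω (IsLocalRing.ResidueField A)) (p : Ideal A) (hp : p.IsPrime) :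
    ExtVanish ω (A ⧸ p) := by
  revert hp
  induction p using IsNoetherian.induction with
  | hgt p ih =>
    intro hp
    by_cases hpm : p = IsLocalRing.maximalIdeal A
    · subst hpm
      exact extVanish_of_linearEquiv ω resEquiv.symm hk
    · have hle : p ≤ IsLocalRing.maximalIdeal A := IsLocalRing.le_maximalIdeal hp.ne_top
      have hlt : p < IsLocalRing.maximalIdeal A := lt_of_le_of_ne hle hpm
      obtain ⟨x, hxm, hxp⟩ := SetLike.exists_of_lt hlt
      have hxJ : x ∈ p ⊔ Ideal.span {x} :=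
        Ideal.mem_sup_right (Ideal.mem_span_singleton_self x)
      have hpJ : p < p ⊔ Ideal.span {x} := by
        refine lt_of_le_of_ne le_sup_left (fun h => hxp ?_)
        rw [h]; exact hxJ
      have h3 : ExtVanish ω (A ⧸ (p ⊔ Ideal.span {x})) := by
        refine extVanish_of_ann ω (p ⊔ Ideal.span {x})
          (fun q hq => ih q.asIdeal (lt_of_lt_of_le hpJ hq) q.isPrime) _ ?_
        intro r hr n
        obtain ⟨b, rfl⟩ := Ideal.Quotient.mk_surjective n
        show Ideal.Quotient.mk (p ⊔ Ideal.span {x}) (r * b) = 0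
        exact Ideal.Quotient.eq_zero_iff_mem.2 (Ideal.mul_mem_right b _ hr)
      have hinj : Function.Injective (x • LinearMap.id : A ⧸ p →ₗ[A] A ⧸ p) := by
        refine (injective_iff_map_eq_zero _).2 (fun y hy => ?_)
        obtain ⟨c, rfl⟩ := Ideal.Quotient.mk_surjective y
        have h' : Ideal.Quotient.mk p (x * c) = 0 := hy
        rcases hp.mem_or_mem (Ideal.Quotient.eq_zero_iff_mem.1 h') with h | h
        · exact absurd h hxp
        · exact Ideal.Quotient.eq_zero_iff_mem.2 h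
      have hfg : Function.Exact (x • LinearMap.id : A ⧸ p →ₗ[A] A ⧸ p)
          (Submodule.factor hpJ.le) := by
        intro y
        constructor
        · intro h
          obtain ⟨c, rfl⟩ := Ideal.Quotient.mk_surjective y
          have h' : Ideal.Quotient.mk (p ⊔ Ideal.span {x}) c = 0 := h
          have hcJ : c ∈ p ⊔ Ideal.span {x} := Ideal.Quotient.eq_zero_iff_mem.1 h'
          obtain ⟨b, hb, c', hc', rfl⟩ := Submodule.mem_sup.1 hcJ
          obtain ⟨d, rfl⟩ := Ideal.mem_span_singleton'.1 hc'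
          refine ⟨Ideal.Quotient.mk p d, ?_⟩
          show Ideal.Quotient.mk p (x * d) = Ideal.Quotient.mk p (b + d * x)
          rw [Ideal.Quotient.eq]
          have : x * d - (b + d * x) = -b := by ring
          rw [this]; exact p.neg_mem hb
        · rintro ⟨z, rfl⟩
          obtain ⟨d, rfl⟩ := Ideal.Quotient.mk_surjective z
          show Ideal.Quotient.mk (p ⊔ Ideal.span {x}) (x * d) = 0
          exact Ideal.Quotient.eq_zero_iff_mem.2 (Ideal.mul_mem_right d _ hxJ)
      exact extVanish_of_regular' ω c hc hf x hxm (Submodule.factor hpJ.le) hinj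
        (Submodule.factor_surjective hpJ.le) hfg h3

/-- **finite injective dimension from the residue field** -/
theorem hasInjAmplitudeIn_of_residueField [IsLocalRing A] [IsNoetherianRing A] (R : Dual.D A)
    (hf : ∀ i : ℤ, Module.Finite A (Dual.HD A R i)) (a : ℤ)
    (ha : ∀ i : ℤ, i < a → Subsingleton (Dual.HD A R i)) (d : ℤ)
    (hk : ∀ i : ℤ, d < i →
      Subsingleton (Dual.inD A (IsLocalRing.ResidueField A) ⟶ R⟦i⟧)) :
    HasInjAmplitudeIn A a d R := by
  have hωc : ∀ j : ℤ, j < a - d → Subsingleton (Dual.HD A (R⟦d⟧) j) := fun j hj =>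
    subsingleton_HD_shift R d j (ha (d + j) (by omega))
  have hωf : ∀ j : ℤ, Module.Finite A (Dual.HD A (R⟦d⟧) j) := fun j =>
    finite_HD_shift R d j (hf (d + j))
  have hωk : ExtVanish (R⟦d⟧) (IsLocalRing.ResidueField A) := by
    intro j hj
    haveI := hk (d + j) (by omega)
    let e'' : (R⟦d⟧)⟦j⟧ ≅ R⟦d + j⟧ := ((shiftFunctorAdd' (Dual.D A) d j (d + j) rfl).app R).symm
    exact ⟨fun f g => (cancel_mono e''.hom).1 (Subsingleton.elim _ _)⟩
  have hall : ∀ (N : Type u) [AddCommGroup N] [Module A N] [Module.Finite A N],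
      ExtVanish (R⟦d⟧) N := by
    intro N _ _ _
    refine extVanish_of_ann (R⟦d⟧) ⊥
      (fun q _ => extVanish_quot_prime' (R⟦d⟧) (a - d) hωc hωf hωk q.asIdeal q.isPrime) N ?_
    intro r hr n
    rw [(Submodule.mem_bot A).1 hr, zero_smul]
  refine hasInjAmplitudeIn_of_hom_quot_vanishing R a d (fun J i hi => ?_)
  rcases hi with hi | hi
  · haveI : DerivedCategory.IsGE R a := by
      rw [DerivedCategory.isGE_iff]
      intro j hj
      haveI := ha j hj
      exact ModuleCat.isZero_of_subsingleton _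
    haveI : DerivedCategory.IsGE (R⟦i⟧) (a - i) :=
      TStructure.t.isGE_shift R a i (a - i) (by omega)
    haveI : DerivedCategory.IsLE (Dual.inD A (A ⧸ J)) 0 := inferInstance
    refine ⟨fun f g => ?_⟩
    rw [TStructure.t.zero f 0 (a - i) (by omega), TStructure.t.zero g 0 (a - i) (by omega)]
  · haveI := hall (A ⧸ J) (i - d) (by omega)
    let e' : (R⟦d⟧)⟦i - d⟧ ≅ R⟦i⟧ :=
      ((shiftFunctorAdd' (Dual.D A) d (i - d) i (by omega)).app R).symm
    exact ⟨fun f g => (cancel_mono e'.inv).1 (Subsingleton.elim _ _)⟩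

end Groth.Agent.Lib.DualResH1
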