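import Mathlib
import Groth.Prelude.Def_DRing4
import Groth.Prelude.Def_Wider
import Groth.Agent.Lib.Bidual8_helper6
import Groth.Agent.Lib.DMod86_helper6
import Groth.Agent.Lib.DualRes1_helper1

/-!
# Dualizing complexes via the residue field (helper1), part 2

* finiteness of the cohomology of `Hom•(K, I)` for `I` a bounded complex of injectives with finite
  cohomology (helper6's `dFin_of_finite` without the dualizing hypothesis);
* the module-level predicate `PM I M`: the biduality map of `M[0]` is a quasi-isomorphism, and its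
  closure properties.
-/

set_option autoImplicit false
set_option linter.style.haveILetI false
set_option linter.unusedSectionVars false
set_option linter.unusedVariables false
universe u
open CategoryTheory Limits CochainComplex CochainComplex.HomComplex ZeroObject DerivedCategory
attribute [local instance] HasDerivedCategory.standard

namespace Groth.Agent.Lib.DualResH1

open Groth.Agent.Lib.HomCx Groth.Agent.Lib.RHomKInj Groth.Agent.Lib.HomCxPreQis DRing
open Groth.Agent.Lib.DMod_helper6 Groth.Agent.Lib.BrutalTrunc Groth.Agent.Lib.BidualH6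

variable {A : Type u} [CommRing A]

section DFin

variable (I : DRing.Cx A) [I.IsKInjective]

/-- the cohomology of `Hom•(A[-m], I)` is finite -/
theorem dFin_SA' (hfin : ∀ i : ℤ, Module.Finite A (Dual.HD A (toD I) i)) (m : ℤ) :
    DFin I (SA A m) := by
  intro i
  haveI : Module.Finite A (Dual.HD A (toD (I⟦m⟧)) i) := by
    have e0 : toD (I⟦m⟧) ≅ (toD I)⟦m⟧ := (Q.commShiftIso m).app I
    haveI := finite_HD_shift (toD I) m i (hfin (m + i))
    exact Module.Finite.equiv
      ((DerivedCategory.homologyFunctor (ModuleCat.{u} A) i).mapIso e0).symm.toLinearEquiv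
  let g := evHom (SA A m) I m (one A m) (SA_d_apply m m (m + 1) _)
  let e1 : (Dc I (SA A m)).homology i ≅ (I⟦m⟧).homology i :=
    (HomologicalComplex.homologyFunctor _ _ i).mapIso (asIso g)
  let e2 : (DerivedCategory.homologyFunctor (ModuleCat.{u} A) i).obj (toD (I⟦m⟧)) ≅
      (I⟦m⟧).homology i := (DerivedCategory.homologyFunctorFactors (ModuleCat.{u} A) i).app (I⟦m⟧)
  exact Module.Finite.equiv (e2 ≪≫ e1.symm).toLinearEquiv

theorem devClass_dFin' [IsNoetherianRing A] (hI : TermwiseInjective I)
    (hfin : ∀ i : ℤ, Module.Finite A (Dual.HD A (toD I) i)) : DevClass (DFin I) where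
  of_isZero K hK := dFin_of_acyclic I K (acyclic_of_isZero_X K hK)
  of_iso e' h := (dFin_iff_of_quasiIso I e'.hom).1 h
  of_ses S hS h1 h3 := dFin_of_shortExact I hI S hS h1 h3
  of_SA m := dFin_SA' I hfin m

/-- the cohomology of `Hom•(K, I)` is finite when `K` has finite cohomology -/
theorem dFin_of_finite' [IsNoetherianRing A] (a b : ℤ) (hI : VanishesOutside I a b)
    (hinj : TermwiseInjective I) (hfin : ∀ i : ℤ, Module.Finite A (Dual.HD A (toD I) i))
    (K : DRing.Cx A) (hK : ∀ i, Module.Finite A (K.homology i)) : DFin I K := by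
  intro i
  refine reduce (fun K => DFinAt I K i) (a - i - 1) (b - i + 1) ?_ ?_ ?_ K hK
  · intro K K' f hf
    haveI := hf
    haveI : QuasiIso (Dm I f) := quasiIso_Dm I f
    exact dFinAt_iff I f i ((quasiIsoAt_iff_isIso_homologyMap _ _).1 inferInstance)
  · intro K K' f hf
    exact dFinAt_iff I f i (isIso_homologyMap_of_isoOn _ i
      (isoOn_Dm I a b hI f (i - 1) (i + 1) (hf.mono (by omega) (by omega))))
  · intro F d hFd hff j
    exact (devClass_dFin' I hinj hfin).of_sigmaGE F d hFd hff j i

theorem finite_homology_DD [IsNoetherianRing A] (a b : ℤ) (hI : VanishesOutside I a b)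
    (hinj : TermwiseInjective I) (hfin : ∀ i : ℤ, Module.Finite A (Dual.HD A (toD I) i))
    (K : DRing.Cx A) (hK : ∀ i, Module.Finite A (K.homology i)) (i : ℤ) :
    Module.Finite A ((Dc I (Dc I K)).homology i) :=
  dFin_of_finite' I a b hI hinj hfin (Dc I K) (dFin_of_finite' I a b hI hinj hfin K hK) i

end DFin

section PM

/-- the module `M` as a complex in degree 0 -/
noncomputable abbrev S0 (M : Type u) [AddCommGroup M] [Module A M] : DRing.Cx A :=
  (CochainComplex.singleFunctor (ModuleCat.{u} A) 0).obj (ModuleCat.of A M)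

variable (I : DRing.Cx A) [I.IsKInjective]

/-- the biduality map of `M[0]` is a quasi-isomorphism -/
def PM (M : Type u) [AddCommGroup M] [Module A M] : Prop := EvQis I (S0 M)

lemma PM_of_subsingleton (M : Type u) [AddCommGroup M] [Module A M] [Subsingleton M] :
    PM I M := by
  have hK : ∀ p, IsZero ((S0 (A := A) M).X p) := fun p => by
    have hX : IsZero (ModuleCat.of A M) := ModuleCat.isZero_of_subsingleton _
    exact (HomologicalComplex.eval _ _ p).map_isZero
      ((CochainComplex.singleFunctor (ModuleCat.{u} A) 0).map_isZero hX)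
  exact evQis_of_acyclic I _ (acyclic_of_isZero_X _ hK)

lemma PM_of_linearEquiv {M N : Type u} [AddCommGroup M] [Module A M] [AddCommGroup N]
    [Module A N] (e : M ≃ₗ[A] N) (h : PM I M) : PM I N := by
  let f : S0 (A := A) M ⟶ S0 N :=
    (CochainComplex.singleFunctor (ModuleCat.{u} A) 0).map e.toModuleIso.hom
  haveI : IsIso f := by dsimp only [f]; infer_instance
  haveI : QuasiIso f := inferInstance
  exact (evQis_iff_of_quasiIso I f).1 h

lemma PM_of_exact (hI : TermwiseInjective I) {N₁ N₂ N₃ : Type u} [AddCommGroup N₁] [Module A N₁]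
    [AddCommGroup N₂] [Module A N₂] [AddCommGroup N₃] [Module A N₃] (f : N₁ →ₗ[A] N₂)
    (g : N₂ →ₗ[A] N₃) (hf : Function.Injective f) (hg : Function.Surjective g)
    (hfg : Function.Exact f g) (h1 : PM I N₁) (h3 : PM I N₃) : PM I N₂ := by
  have hS := (linSC_shortExact f g hfg hf hg).map_of_exact
    (HomologicalComplex.single (ModuleCat.{u} A) (ComplexShape.up ℤ) 0)
  exact evQis_of_shortExact I hI _ hS h1 h3

lemma PM_of_ann [IsNoetherianRing A] (hI : TermwiseInjective I) (J : Ideal A)
    (hJ : ∀ q : PrimeSpectrum A, J ≤ q.asIdeal → PM I (A ⧸ q.asIdeal))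
    (N : Type u) [AddCommGroup N] [Module A N] [hN : Module.Finite A N]
    (hann : ∀ a ∈ J, ∀ n : N, a • n = 0) : PM I N := by
  revert hann
  induction hN using IsNoetherianRing.induction_on_isQuotientEquivQuotientPrime A with
  | subsingleton N => intro _; exact PM_of_subsingleton I N
  | quotient N p e =>
    intro hann
    refine PM_of_linearEquiv I e.symm (hJ p ?_)
    intro a ha
    have h1 : a • e.symm (1 : A ⧸ p.1) = 0 := hann a ha _
    rw [← map_smul, LinearEquiv.map_eq_zero_iff] at h1
    have h2 : Ideal.Quotient.mk p.1 a = 0 := by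
      rw [← h1, Algebra.smul_def, mul_one]; rfl
    exact Ideal.Quotient.eq_zero_iff_mem.1 h2
  | exact N₁ N₂ N₃ f g hf hg hfg h₁ h₃ =>
    intro hann
    refine PM_of_exact I hI f g hf hg hfg (h₁ ?_) (h₃ ?_)
    · intro a ha n
      apply hf
      rw [map_smul, hann a ha, map_zero]
    · intro a ha n
      obtain ⟨m, rfl⟩ := hg n
      rw [← map_smul, hann a ha, map_zero]

end PM

end Groth.Agent.Lib.DualResH1
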