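import Mathlib
import Groth.Prelude.Def_DRing4
import Groth.Prelude.Def_Wider
import Groth.Agent.Lib.DualRes2_helper1

/-!
# Dualizing complexes via the residue field (helper1), part 3: the Nakayama step

If `x ∈ m` is a nonzerodivisor on the finite module `M` and the biduality map of `(M/xM)[0]` is a
quasi-isomorphism, then so is the biduality map of `M[0]`.
-/

set_option autoImplicit false
set_option linter.style.haveILetI false
set_option linter.unusedSectionVars false
set_option linter.unusedVariables false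
universe u
open CategoryTheory Limits CochainComplex CochainComplex.HomComplex ZeroObject DerivedCategory
attribute [local instance] HasDerivedCategory.standard

namespace Groth.Agent.Lib.DualResH1

open Groth.Agent.Lib.HomCx Groth.Agent.Lib.RHomKInj Groth.Agent.Lib.HomCxPreQis DRing
open Groth.Agent.Lib.DMod_helper6 Groth.Agent.Lib.BrutalTrunc Groth.Agent.Lib.BidualH6

section Abstract

variable {A : Type u} [CommRing A] [IsLocalRing A] [IsNoetherianRing A]

/-- abstract Nakayama diagram chase -/
lemma bijective_of_nakayama {H H' F G : Type u} [AddCommGroup H] [Module A H] [AddCommGroup H']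
    [Module A H'] [AddCommGroup F] [Module A F] [AddCommGroup G] [Module A G]
    [Module.Finite A H] [Module.Finite A F] (x : A) (hx : x ∈ IsLocalRing.maximalIdeal A)
    (b' : H →ₗ[A] H') (hb' : Function.Surjective b')
    (hkb' : ∀ h : H, b' h = 0 → ∃ h₁ : H, x • h₁ = h)
    (b : F →ₗ[A] G) (hkb : ∀ f : F, b f = 0 → ∃ f₁ : F, x • f₁ = f)
    (η : H →ₗ[A] F) (θ : H' →ₗ[A] G) (hθ : Function.Bijective θ)
    (hcomm : ∀ h : H, b (η h) = θ (b' h)) (hxinj : ∀ f : F, x • f = 0 → f = 0) :
    Function.Bijective η := by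
  constructor
  · haveI : IsNoetherian A H := isNoetherian_of_isNoetherianRing_of_finite A H
    have key : LinearMap.ker η ≤ IsLocalRing.maximalIdeal A • LinearMap.ker η := by
      intro h hh
      rw [LinearMap.mem_ker] at hh
      have h1 : b' h = 0 := by
        apply hθ.1
        rw [← hcomm h, hh, map_zero, map_zero]
      obtain ⟨h₁, rfl⟩ := hkb' h h1
      have h2 : η h₁ = 0 := by
        apply hxinj
        rw [← map_smul, hh]
      exact Submodule.smul_mem_smul hx (LinearMap.mem_ker.2 h2)
    have hbot := Submodule.eq_bot_of_le_smul_of_le_jacobson_bot _ _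
      (IsNoetherian.noetherian (LinearMap.ker η)) key (IsLocalRing.maximalIdeal_le_jacobson ⊥)
    exact LinearMap.ker_eq_bot.1 hbot
  · have key : (⊤ : Submodule A F) ≤
        LinearMap.range η ⊔ IsLocalRing.maximalIdeal A • (⊤ : Submodule A F) := by
      intro f _
      obtain ⟨y, hy⟩ := hθ.2 (b f)
      obtain ⟨h, rfl⟩ := hb' y
      have h0 : b (f - η h) = 0 := by
        rw [map_sub, hcomm h, hy, sub_self]
      obtain ⟨f₁, hf₁⟩ := hkb _ h0
      have : f = η h + x • f₁ := by rw [hf₁]; abel
      rw [this]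
      exact Submodule.add_mem_sup (LinearMap.mem_range_self _ h)
        (Submodule.smul_mem_smul hx Submodule.mem_top)
    have hle := Submodule.le_of_le_smul_of_le_jacobson_bot (Module.Finite.fg_top)
      (IsLocalRing.maximalIdeal_le_jacobson ⊥) key
    intro f
    obtain ⟨h, hh⟩ := hle (Submodule.mem_top : f ∈ ⊤)
    exact ⟨h, hh⟩

end Abstract

variable {A : Type u} [CommRing A]

section Smul

lemma single_map_smul_id (x : A) (X : ModuleCat.{u} A) :
    (HomologicalComplex.single (ModuleCat.{u} A) (ComplexShape.up ℤ) 0).map (x • 𝟙 X) =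
      x • 𝟙 ((HomologicalComplex.single (ModuleCat.{u} A) (ComplexShape.up ℤ) 0).obj X) := by
  apply HomologicalComplex.from_single_hom_ext
  rw [HomologicalComplex.single_map_f_self, HomologicalComplex.smul_f_apply,
    HomologicalComplex.id_f, Linear.smul_comp, Linear.comp_smul, Category.id_comp,
    Iso.hom_inv_id]

lemma homCxPre_smul_id (x : A) (K J : DRing.Cx A) :
    homCxPre (x • 𝟙 K) J = x • 𝟙 (DRing.homCx K J) := by
  refine HomologicalComplex.hom_ext _ _ fun i => ModuleCat.hom_ext
    (LinearMap.ext fun (z : Cochain K J i) => ?_)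
  erw [homCxPre_f_apply]
  refine Cochain.ext _ _ (fun p q hpq => ?_)
  rw [Cochain.zero_cochain_comp_v, Cochain.ofHom_v, HomologicalComplex.smul_f_apply,
    HomologicalComplex.id_f, Linear.smul_comp, Category.id_comp]
  rfl

lemma Dm_Dm_of_eq_smul (I : DRing.Cx A) (x : A) {K : DRing.Cx A} (f : K ⟶ K)
    (hf : f = x • 𝟙 K) : Dm I (Dm I f) = x • 𝟙 (Dc I (Dc I K)) := by
  subst hf
  show homCxPre (homCxPre (x • 𝟙 K) I) I = _
  rw [homCxPre_smul_id, homCxPre_smul_id]

lemma homologyMap_smul_id (x : A) (K : DRing.Cx A) (n : ℤ) :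
    HomologicalComplex.homologyMap (x • 𝟙 K) n = x • 𝟙 (K.homology n) := by
  have h1 : HomologicalComplex.cyclesMap (x • 𝟙 K) n = x • 𝟙 (K.cycles n) := by
    rw [← cancel_mono (K.iCycles n), HomologicalComplex.cyclesMap_i,
      HomologicalComplex.smul_f_apply, HomologicalComplex.id_f, Linear.comp_smul,
      Linear.smul_comp, Category.comp_id, Category.id_comp]
  rw [← cancel_epi (K.homologyπ n), HomologicalComplex.homologyπ_naturality, h1,
    Linear.smul_comp, Linear.comp_smul, Category.id_comp, Category.comp_id]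

lemma homologyMap_apply_of_eq_smul (x : A) {K : DRing.Cx A} (f : K ⟶ K) (hf : f = x • 𝟙 K)
    (n : ℤ) (h : K.homology n) : (HomologicalComplex.homologyMap f n).hom h = x • h := by
  subst hf
  rw [homologyMap_smul_id]
  rfl

lemma finite_homology_S0 (M : Type u) [AddCommGroup M] [Module A M] [Module.Finite A M] (n : ℤ) :
    Module.Finite A ((S0 (A := A) M).homology n) := by
  by_cases hn : n = 0
  · subst hn
    haveI : Module.Finite A (ModuleCat.of A M) := inferInstanceAs (Module.Finite A M)
    exact Module.Finite.equiv (HomologicalComplex.singleObjHomologySelfIso (ComplexShape.up ℤ) 0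
      (ModuleCat.of A M)).symm.toLinearEquiv
  · haveI : Subsingleton ((S0 (A := A) M).homology n) :=
      ModuleCat.subsingleton_of_isZero (HomologicalComplex.isZero_single_obj_homology
        (ComplexShape.up ℤ) 0 (ModuleCat.of A M) n hn)
    exact Module.Finite.of_finite

end Smul

section Main

variable [IsLocalRing A] [IsNoetherianRing A] (I : DRing.Cx A) [I.IsKInjective]

open HomologicalComplex in
theorem PM_of_regular (a b : ℤ) (hI : VanishesOutside I a b) (hinj : TermwiseInjective I)
    (hfin : ∀ i : ℤ, Module.Finite A (Dual.HD A (toD I) i))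
    {M N₃ : Type u} [AddCommGroup M] [Module A M] [Module.Finite A M] [AddCommGroup N₃]
    [Module A N₃] (x : A) (hx : x ∈ IsLocalRing.maximalIdeal A) (g : M →ₗ[A] N₃)
    (hinjx : Function.Injective (x • (LinearMap.id : M →ₗ[A] M)))
    (hg : Function.Surjective g) (hfg : Function.Exact (x • (LinearMap.id : M →ₗ[A] M)) g)
    (h3 : PM I N₃) : PM I M := by
  let S := linSC (x • (LinearMap.id : M →ₗ[A] M)) g hfg
  have hS : S.ShortExact := linSC_shortExact _ g hfg hinjx hg
  let S' : ShortComplex (DRing.Cx A) :=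
    S.map (HomologicalComplex.single (ModuleCat.{u} A) (ComplexShape.up ℤ) 0)
  have hS' : S'.ShortExact := hS.map_of_exact _
  let T := DS I (DS I S')
  have hT : T.ShortExact := DS_shortExact I hinj _ (DS_shortExact I hinj S' hS')
  let φ : S' ⟶ T := evSC I S'
  haveI hφ3 : QuasiIso φ.τ₃ := h3
  have h0 : ModuleCat.ofHom (x • (LinearMap.id : M →ₗ[A] M)) = x • 𝟙 (ModuleCat.of A M) := by
    ext m
    rfl
  have hSf : S'.f = x • 𝟙 (S0 M) := by
    show (HomologicalComplex.single (ModuleCat.{u} A) (ComplexShape.up ℤ) 0).map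
      (ModuleCat.ofHom (x • (LinearMap.id : M →ₗ[A] M))) = _
    rw [h0]
    exact single_map_smul_id x _
  have hTf : T.f = x • 𝟙 (Dc I (Dc I (S0 M))) := Dm_Dm_of_eq_smul I x S'.f hSf
  show QuasiIso φ.τ₂
  rw [quasiIso_iff]
  intro n
  rw [quasiIsoAt_iff_isIso_homologyMap]
  have hθ : ∀ m : ℤ, Function.Bijective (homologyMap φ.τ₃ m).hom := fun m => by
    haveI : IsIso (homologyMap φ.τ₃ m) := (quasiIsoAt_iff_isIso_homologyMap _ _).1 inferInstance
    exact (ConcreteCategory.isIso_iff_bijective _).1 inferInstance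
  have hδS : ∀ (i j : ℤ) (hij : i + 1 = j), hS'.δ i j hij = 0 := by
    intro i j hij
    by_cases hi : i = 0
    · have hj : j ≠ 0 := by omega
      exact (isZero_single_obj_homology (ComplexShape.up ℤ) 0 (ModuleCat.of A M) j
        hj).eq_of_tgt _ _
    · exact (isZero_single_obj_homology (ComplexShape.up ℤ) 0 (ModuleCat.of A N₃) i
        hi).eq_of_src _ _
  -- surjectivity of `H^n(M) → H^n(N₃)`
  have hgS : Function.Surjective (homologyMap S'.g n).hom := by
    intro y
    have hex := hS'.homology_exact₃ n (n + 1) rfl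
    rw [ShortComplex.moduleCat_exact_iff] at hex
    exact hex y (by
      show (hS'.δ n (n + 1) rfl).hom y = 0
      rw [hδS]
      rfl)
  have hfS : ∀ h : S'.X₂.homology n, (homologyMap S'.g n).hom h = 0 →
      ∃ h₁ : S'.X₂.homology n, x • h₁ = h := by
    intro h hh
    have hex := hS'.homology_exact₂ n
    rw [ShortComplex.moduleCat_exact_iff] at hex
    obtain ⟨h₁, hh₁⟩ := hex h hh
    exact ⟨h₁, (homologyMap_apply_of_eq_smul x S'.f hSf n h₁).symm.trans hh₁⟩
  have hfT : ∀ f : T.X₂.homology n, (homologyMap T.g n).hom f = 0 →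
      ∃ f₁ : T.X₂.homology n, x • f₁ = f := by
    intro f hf
    have hex := hT.homology_exact₂ n
    rw [ShortComplex.moduleCat_exact_iff] at hex
    obtain ⟨f₁, hf₁⟩ := hex f hf
    exact ⟨f₁, (homologyMap_apply_of_eq_smul x T.f hTf n f₁).symm.trans hf₁⟩
  have hcomm : ∀ h : S'.X₂.homology n, (homologyMap T.g n).hom ((homologyMap φ.τ₂ n).hom h) =
      (homologyMap φ.τ₃ n).hom ((homologyMap S'.g n).hom h) := by
    intro h
    have h2 : homologyMap φ.τ₂ n ≫ homologyMap T.g n =
        homologyMap S'.g n ≫ homologyMap φ.τ₃ n := by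
      rw [← homologyMap_comp, ← homologyMap_comp, φ.comm₂₃]
    exact LinearMap.congr_fun (congrArg ModuleCat.Hom.hom h2) h
  have hxinj : ∀ f : T.X₂.homology n, x • f = 0 → f = 0 := by
    intro f hf
    have hex := hT.homology_exact₁ (n - 1) n (by simp)
    rw [ShortComplex.moduleCat_exact_iff] at hex
    obtain ⟨γ, hγ⟩ := hex f ((homologyMap_apply_of_eq_smul x T.f hTf n f).trans hf)
    obtain ⟨γ', rfl⟩ := (hθ (n - 1)).2 γ
    have hnat := HomologySequence.δ_naturality φ hS' hT (n - 1) n (by simp)
    rw [hδS (n - 1) n (by omega), zero_comp] at hnat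
    have h5 := LinearMap.congr_fun (congrArg ModuleCat.Hom.hom hnat) γ'
    rw [← hγ]
    exact h5.symm
  haveI : Module.Finite A (S'.X₂.homology n) := finite_homology_S0 M n
  haveI : Module.Finite A (T.X₂.homology n) :=
    finite_homology_DD I a b hI hinj hfin (S0 M) (finite_homology_S0 M) n
  have hbij := bijective_of_nakayama x hx (homologyMap S'.g n).hom hgS hfS
    (homologyMap T.g n).hom hfT (homologyMap φ.τ₂ n).hom (homologyMap φ.τ₃ n).hom (hθ n)
    hcomm hxinj
  exact (ConcreteCategory.isIso_iff_bijective _).2 hbij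

end Main

end Groth.Agent.Lib.DualResH1
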