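import Mathlib
import Groth.Prelude.Def_DRing4
import Groth.Prelude.Def_Wider
import Groth.Agent.Lib.DualRes3_helper1
import Groth.Agent.Lib.Bidual5_helper6
import Groth.Agent.Lib.DMod113_helper6
import Groth.Agent.Lib.DMod115_helper6

/-!
# Dualizing complexes via the residue field (helper1), part 4: the base case

For `I` a K-injective complex with `Ext^i(k, I) = 0` for `i ≠ d` and `Ext^d(k, I) ≃ k`, the
biduality map of `k[0]` is a quasi-isomorphism.
-/

set_option autoImplicit false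
set_option linter.style.haveILetI false
set_option linter.unusedSectionVars false
set_option linter.unusedVariables false
universe u
open CategoryTheory Limits CochainComplex CochainComplex.HomComplex ZeroObject DerivedCategory
attribute [local instance] HasDerivedCategory.standard

namespace Groth.Agent.Lib.DualResH1

open Groth.Agent.Lib.HomCx Groth.Agent.Lib.RHomKInj Groth.Agent.Lib.HomCxPreQis DRing
open Groth.Agent.Lib.DMod_helper6 Groth.Agent.Lib.BrutalTrunc Groth.Agent.Lib.BidualH6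

section Bridge

variable {A : Type u} [CommRing A]

set_option backward.isDefEq.respectTransparency false in
/-- cochains of degree `n` from `M[0]` are maps `M → I^n` -/
noncomputable def fromSingleLin (M : ModuleCat.{u} A) (I : DRing.Cx A) (n : ℤ) :
    Cochain ((CochainComplex.singleFunctor (ModuleCat.{u} A) 0).obj M) I n ≃ₗ[A] (M ⟶ I.X n) :=
  AddEquiv.toLinearEquiv (Cochain.fromSingleEquiv (zero_add n)) (fun a α => by
    simp [Cochain.fromSingleEquiv])

lemma fromSingleLin_apply (M : ModuleCat.{u} A) (I : DRing.Cx A) (n : ℤ)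
    (α : Cochain ((CochainComplex.singleFunctor (ModuleCat.{u} A) 0).obj M) I n) :
    fromSingleLin M I n α = Cochain.fromSingleEquiv (zero_add n) α := rfl

/-- `Hom•(M[0], I)` is the complex `Hom_A(M, I^•)` -/
noncomputable def bridge (M : ModuleCat.{u} A) (I : DRing.Cx A) :
    DRing.homCx ((CochainComplex.singleFunctor (ModuleCat.{u} A) 0).obj M) I ≅
      Groth.Agent.Lib.DMod_helper6.homCx M I :=
  HomologicalComplex.Hom.isoOfComponents (fun n => (fromSingleLin M I n).toModuleIso) (by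
    intro i j hij
    refine ModuleCat.hom_ext (LinearMap.ext fun
      (α : Cochain ((CochainComplex.singleFunctor (ModuleCat.{u} A) 0).obj M) I i) => ?_)
    obtain ⟨f, rfl⟩ := Cochain.fromSingleMk_surjective α i (zero_add i)
    show (Cochain.fromSingleEquiv (zero_add i) (Cochain.fromSingleMk f (zero_add i))) ≫ I.d i j =
      Cochain.fromSingleEquiv (zero_add j) (δ i j (Cochain.fromSingleMk f (zero_add i)))
    rw [Cochain.δ_fromSingleMk f (zero_add i) j j (zero_add j),
      Cochain.fromSingleEquiv_fromSingleMk, Cochain.fromSingleEquiv_fromSingleMk])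

/-- `Hom(X⟦i⟧, Y) ≃ Hom(X, Y⟦j⟧)` for `i + j = 0`, linearly -/
noncomputable def shiftHomLin (X Y : Dual.D A) (i j : ℤ) (h : i + j = 0) :
    (X⟦i⟧ ⟶ Y) ≃ₗ[A] (X ⟶ Y⟦j⟧) :=
  LinearEquiv.ofBijective
    ((Linear.leftComp A (Y⟦j⟧) ((CategoryTheory.shiftFunctorCompIsoId (Dual.D A) i j h).inv.app X)) ∘ₗ
      ((CategoryTheory.shiftFunctor (Dual.D A) j).mapLinearMap A))
    ⟨by
      intro f f' hff'
      have h1 : (CategoryTheory.shiftFunctorCompIsoId (Dual.D A) i j h).inv.app X ≫ f⟦j⟧' =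
          (CategoryTheory.shiftFunctorCompIsoId (Dual.D A) i j h).inv.app X ≫ f'⟦j⟧' := hff'
      exact (CategoryTheory.shiftFunctor (Dual.D A) j).map_injective ((cancel_epi _).1 h1),
    by
      intro g
      obtain ⟨f, hf⟩ := (CategoryTheory.shiftFunctor (Dual.D A) j).map_surjective
        ((CategoryTheory.shiftFunctorCompIsoId (Dual.D A) i j h).hom.app X ≫ g)
      refine ⟨f, ?_⟩
      show (CategoryTheory.shiftFunctorCompIsoId (Dual.D A) i j h).inv.app X ≫ f⟦j⟧' = g
      rw [hf, Iso.inv_hom_id_app_assoc]⟩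

end Bridge

section Residue

variable {A : Type u} [CommRing A] [IsLocalRing A]

local notation "𝕜" => IsLocalRing.ResidueField A

lemma exists_smul_eq_of_ne_zero {u : 𝕜} (hu : u ≠ 0) (v : 𝕜) : ∃ a : A, a • u = v := by
  obtain ⟨a, ha⟩ := IsLocalRing.residue_surjective (v * u⁻¹)
  refine ⟨a, ?_⟩
  rw [Algebra.smul_def, IsLocalRing.ResidueField.algebraMap_eq, ha, mul_assoc,
    inv_mul_cancel₀ hu, mul_one]

lemma smul_residueField_eq_zero {a : A} (ha : a ∈ IsLocalRing.maximalIdeal A) (u : 𝕜) :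
    a • u = 0 := by
  rw [Algebra.smul_def, IsLocalRing.ResidueField.algebraMap_eq,
    (IsLocalRing.residue_eq_zero_iff a).2 ha, zero_mul]

/-- a module linearly equivalent to the residue field is generated by any nonzero element -/
lemma exists_eq_smul_of_equiv {X : Type*} [AddCommGroup X] [Module A X] (L : X ≃ₗ[A] 𝕜)
    (ε ξ : X) (hε : ε ≠ 0) : ∃ a : A, ξ = a • ε := by
  have hLε : L ε ≠ 0 := fun h => hε (L.map_eq_zero_iff.1 h)
  obtain ⟨a, ha⟩ := exists_smul_eq_of_ne_zero hLε (L ξ)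
  exact ⟨a, L.injective (by rw [map_smul, ha])⟩

/-- maps out of the residue field are determined by the image of `1` -/
lemma hom_ext_residueField {X : ModuleCat.{u} A} (f g : ModuleCat.of A 𝕜 ⟶ X)
    (h : f.hom (1 : 𝕜) = g.hom (1 : 𝕜)) : f = g := by
  refine ModuleCat.hom_ext (LinearMap.ext fun (u : 𝕜) => ?_)
  obtain ⟨a, rfl⟩ := IsLocalRing.residue_surjective u
  have hu : IsLocalRing.residue A a = a • (1 : 𝕜) := by
    rw [Algebra.smul_def, IsLocalRing.ResidueField.algebraMap_eq, mul_one]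
  rw [hu, map_smul, map_smul, h]

lemma le_ker_toSpanSingleton {X : ModuleCat.{u} A} (c : X)
    (hc : ∀ a ∈ IsLocalRing.maximalIdeal A, a • c = 0) :
    (IsLocalRing.maximalIdeal A : Submodule A A) ≤
      LinearMap.ker (LinearMap.toSpanSingleton A X c) := by
  intro a ha
  rw [LinearMap.mem_ker, LinearMap.toSpanSingleton_apply]
  exact hc a ha

/-- the map `k → X`, `1 ↦ c`, for `c` killed by the maximal ideal -/
noncomputable def residueHom {X : ModuleCat.{u} A} (c : X)
    (hc : ∀ a ∈ IsLocalRing.maximalIdeal A, a • c = 0) : ModuleCat.of A 𝕜 ⟶ X :=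
  ModuleCat.ofHom ((Submodule.liftQ (IsLocalRing.maximalIdeal A) (LinearMap.toSpanSingleton A X c)
    (le_ker_toSpanSingleton c hc)) ∘ₗ (resEquiv (A := A)).symm.toLinearMap)

lemma residueHom_one {X : ModuleCat.{u} A} (c : X)
    (hc : ∀ a ∈ IsLocalRing.maximalIdeal A, a • c = 0) : (residueHom c hc).hom (1 : 𝕜) = c := by
  show (Submodule.liftQ (IsLocalRing.maximalIdeal A) (LinearMap.toSpanSingleton A X c)
    (le_ker_toSpanSingleton c hc)) (Submodule.Quotient.mk (1 : A)) = c
  rw [Submodule.liftQ_apply, LinearMap.toSpanSingleton_apply, one_smul]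

end Residue

section Base

variable {A : Type u} [CommRing A] [IsLocalRing A]

local notation "𝕜" => IsLocalRing.ResidueField A

variable (A) in
/-- `k[0]` -/
noncomputable abbrev K0 : DRing.Cx A := S0 (A := A) 𝕜

variable (A) in
/-- the generator of `k[0]` -/
noncomputable def one0 : (K0 A).X 0 :=
  (HomologicalComplex.singleObjXSelf (.up ℤ) 0 (ModuleCat.of A 𝕜)).inv.hom (1 : 𝕜)

lemma S0_d_apply (M : Type u) [AddCommGroup M] [Module A M] (p p' : ℤ)
    (x : (S0 (A := A) M).X p) : ((S0 (A := A) M).d p p').hom x = 0 := by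
  have : (S0 (A := A) M).d p p' = 0 := HomologicalComplex.single_obj_d _ _ _ _ _
  rw [this]
  rfl

lemma isZero_S0_X (M : Type u) [AddCommGroup M] [Module A M] (p : ℤ) (hp : p ≠ 0) :
    IsZero ((S0 (A := A) M).X p) :=
  HomologicalComplex.isZero_single_obj_X _ _ _ _ hp

lemma smul_cochain_K0_eq_zero (I : DRing.Cx A) {a : A} (ha : a ∈ IsLocalRing.maximalIdeal A)
    (n : ℤ) (z : Cochain (K0 A) I n) : a • z = 0 := by
  apply (fromSingleLin (ModuleCat.of A 𝕜) I n).injective
  rw [map_smul, map_zero]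
  refine ModuleCat.hom_ext (LinearMap.ext fun (u : 𝕜) => ?_)
  show a • ((fromSingleLin (ModuleCat.of A 𝕜) I n z).hom u) = 0
  rw [← map_smul, smul_residueField_eq_zero ha, map_zero]

variable (A) in
/-- `k[0]` in degree `0` is `k` -/
noncomputable def iota0 : (K0 A).X 0 ≃ₗ[A] 𝕜 :=
  (HomologicalComplex.singleObjXSelf (.up ℤ) 0 (ModuleCat.of A 𝕜)).toLinearEquiv

lemma iota0_symm_one : (iota0 A).symm (1 : 𝕜) = one0 A := rfl

lemma exists_smul_eq_one0 (x : (K0 A).X 0) (hx : x ≠ 0) : ∃ a : A, a • x = one0 A := by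
  have hu : iota0 A x ≠ 0 := fun h => hx ((iota0 A).map_eq_zero_iff.1 h)
  obtain ⟨a, ha⟩ := exists_smul_eq_of_ne_zero hu (1 : 𝕜)
  refine ⟨a, (iota0 A).injective ?_⟩
  rw [map_smul, ha, ← iota0_symm_one, LinearEquiv.apply_symm_apply]

variable (I : DRing.Cx A) [I.IsKInjective] (R : Dual.D A) (e : toD I ≅ R) (d : ℤ)

/-- `H^j(Hom•(k[0], I)) ≃ Ext^j(k, R)` -/
noncomputable def extEquiv (j : ℤ) :
    (Dc I (K0 A)).homology j ≃ₗ[A] (Dual.inD A 𝕜 ⟶ R⟦j⟧) :=
  ((HomologicalComplex.homologyFunctor (ModuleCat.{u} A) (ComplexShape.up ℤ) j).mapIso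
      (bridge (ModuleCat.of A 𝕜) I)).toLinearEquiv ≪≫ₗ
    homologyHomEquiv (ModuleCat.of A 𝕜) I j ≪≫ₗ
    Linear.homCongr A (toDSingleIso (ModuleCat.of A 𝕜) j (-j) (by omega)) e ≪≫ₗ
    shiftHomLin (Dual.inD A 𝕜) R (-j) j (by omega)

/-- `HD` version -/
noncomputable def extEquiv' (j : ℤ) :
    Dual.HD A (toD (Dc I (K0 A))) j ≃ₗ[A] (Dual.inD A 𝕜 ⟶ R⟦j⟧) :=
  ((DerivedCategory.homologyFunctorFactors (ModuleCat.{u} A) j).app
    (Dc I (K0 A))).toLinearEquiv ≪≫ₗ extEquiv I R e j

/-- `Hom(D(k), I⟦n⟧) ≃ Ext^{n+d}(k, R)` -/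
noncomputable def homLin (eD : toD (Dc I (K0 A)) ≅ (Dual.inD A 𝕜)⟦-d⟧) (n m : ℤ)
    (h : n + d = m) : (toD (Dc I (K0 A)) ⟶ toD (I⟦n⟧)) ≃ₗ[A] (Dual.inD A 𝕜 ⟶ R⟦m⟧) :=
  Linear.homCongr A eD ((Q.commShiftIso n).app I ≪≫
      (CategoryTheory.shiftFunctor (Dual.D A) n).mapIso e) ≪≫ₗ
    shiftHomLin (Dual.inD A 𝕜) (R⟦n⟧) (-d) d (by omega) ≪≫ₗ
    Linear.homCongr A (Iso.refl _) ((CategoryTheory.shiftFunctorAdd' (Dual.D A) n d m h).app R).symm

include e in
/-- the tautological map `Hom•(k, I) → I` is nonzero in the derived category -/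
lemma Q_map_evHom_one0_ne_zero
    (hd : (Dual.inD A 𝕜 ⟶ (CategoryTheory.shiftFunctor (Dual.D A) d).obj R) ≃ₗ[A] 𝕜) :
    Q.map (evHom (K0 A) I 0 (one0 A) (S0_d_apply _ _ _ _)) ≠ 0 := by
  intro h
  obtain ⟨β, hβ⟩ := exists_δ_eq_of_Q_map_eq_zero (Dc I (K0 A)) I 0
    (evCocycle (K0 A) I 0 (one0 A) (S0_d_apply _ _ _ _)) h
  have hβ' : δ (0 - 1) 0 β = evCochain (K0 A) I 0 (one0 A) := hβ
  have hex : (Dc I (K0 A)).ExactAt d := by
    refine exactAt_of_forall _ (d - 1) d (d + 1) (by omega) rfl (fun z hz => ?_)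
    have hz' : δ d (d + 1) (show Cochain (K0 A) I d from z) = 0 := hz
    let zc : Cochain (K0 A) I d := z
    let c : I.X (d - 1) := (β.v d (d - 1) (by omega)).hom z
    have key1 : (zc.v 0 d (by omega)).hom (one0 A) = (I.d (d - 1) d).hom c := by
      have h1 : ((δ (0 - 1) 0 β).v d d (by omega)).hom z =
          ((evCochain (K0 A) I 0 (one0 A)).v d d (by omega)).hom z := by rw [hβ']
      rw [δ_v (0 - 1) 0 (by omega) β d d (by omega) (d - 1) (d + 1) rfl rfl] at h1
      rw [ModuleCat.hom_add, LinearMap.add_apply, ModuleCat.hom_comp, LinearMap.comp_apply,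
        units_smul_hom_apply, ModuleCat.hom_comp, LinearMap.comp_apply] at h1
      rw [hz, map_zero, smul_zero, add_zero] at h1
      erw [evCochain_v_apply] at h1
      rw [zero_mul, Int.negOnePow_zero, one_smul] at h1
      exact h1.symm
    have key2 : ∀ a ∈ IsLocalRing.maximalIdeal A, a • c = 0 := by
      intro a ha
      show a • (β.v d (d - 1) (by omega)).hom z = 0
      rw [← map_smul]
      have : a • z = 0 := smul_cochain_K0_eq_zero I ha d zc
      rw [this, map_zero]
    let fc : ModuleCat.of A 𝕜 ⟶ I.X (d - 1) := residueHom c key2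
    let y : Cochain (K0 A) I (d - 1) := Cochain.fromSingleMk fc (zero_add (d - 1))
    refine ⟨y, ?_⟩
    show δ (d - 1) d y = zc
    rw [Cochain.δ_fromSingleMk fc (zero_add (d - 1)) d d (zero_add d)]
    have hz2 : zc = Cochain.fromSingleMk (Cochain.fromSingleEquiv (zero_add d) zc) (zero_add d) :=
      ((Cochain.fromSingleEquiv (zero_add d)).symm_apply_apply zc).symm
    rw [hz2]
    congr 1
    apply hom_ext_residueField
    rw [ModuleCat.hom_comp, LinearMap.comp_apply, residueHom_one]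
    exact key1.symm
  have hsub : Subsingleton ((Dc I (K0 A)).homology d) :=
    ModuleCat.subsingleton_of_isZero ((HomologicalComplex.exactAt_iff_isZero_homology _ _).1 hex)
  haveI : Subsingleton 𝕜 := (extEquiv I R e d ≪≫ₗ hd).symm.toEquiv.subsingleton
  exact not_subsingleton 𝕜 inferInstance

include e in
/-- **base case** -/
theorem PM_residueField
    (hd : (Dual.inD A 𝕜 ⟶ (CategoryTheory.shiftFunctor (Dual.D A) d).obj R) ≃ₗ[A] 𝕜)
    (hvan : ∀ i : ℤ, i ≠ d →
      Subsingleton (Dual.inD A 𝕜 ⟶ (CategoryTheory.shiftFunctor (Dual.D A) i).obj R)) :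
    PM I 𝕜 := by
  -- `D(k) ≅ k[-d]`
  obtain ⟨eD⟩ : Nonempty (toD (Dc I (K0 A)) ≅ (Dual.inD A 𝕜)⟦-d⟧) := by
    refine nonempty_iso_inD_shift_of_HD_single (toD (Dc I (K0 A))) d (-d) (by omega) ?_ 𝕜
      (extEquiv' I R e d ≪≫ₗ hd)
    intro i hi
    haveI := hvan i hi
    exact (extEquiv' I R e i).toEquiv.subsingleton
  have hε := Q_map_evHom_one0_ne_zero I R e d hd
  show QuasiIso (ev (K0 A) I)
  rw [quasiIso_iff]
  intro n
  rw [quasiIsoAt_iff_isIso_homologyMap]
  haveI : Mono (HomologicalComplex.homologyMap (ev (K0 A) I) n) := by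
    apply mono_homologyMap_of_elementwise
    intro x hx y hy
    by_cases hn : n = 0
    · subst hn
      have hx0 : x = 0 := by
        by_contra hne
        obtain ⟨a, ha⟩ := exists_smul_eq_one0 x hne
        let yc : Cochain (Dc I (K0 A)) I (0 - 1) := y
        have hy' : evCochain (K0 A) I 0 x = δ (0 - 1) 0 yc := hy
        have h1 : δ (0 - 1) 0 (a • yc) = evCochain (K0 A) I 0 (one0 A) := by
          rw [δ_smul, ← hy', ← ha]
          exact ((evLin (K0 A) I 0).map_smul a x).symm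
        exact hε (Q_map_eq_zero_of_δ_eq (Dc I (K0 A)) I 0
          (evCocycle (K0 A) I 0 (one0 A) (S0_d_apply _ _ _ _)) (a • yc) h1)
      exact ⟨0, by rw [hx0, map_zero]⟩
    · haveI : Subsingleton ((K0 A).X n) :=
        ModuleCat.subsingleton_of_isZero (isZero_S0_X _ n hn)
      exact ⟨0, Subsingleton.elim _ _⟩
  haveI : Epi (HomologicalComplex.homologyMap (ev (K0 A) I) n) := by
    apply epi_homologyMap_of_elementwise
    intro w₀ hw
    let w : Cochain (Dc I (K0 A)) I n := w₀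
    have hw' : δ n (n + 1) w = 0 := hw
    let wc : Cocycle (Dc I (K0 A)) I n := Cocycle.mk w (n + 1) rfl hw'
    by_cases hn : n = 0
    · subst hn
      obtain ⟨a, ha⟩ := exists_eq_smul_of_equiv (homLin I R e d eD 0 d (zero_add d) ≪≫ₗ hd)
        (Q.map (evHom (K0 A) I 0 (one0 A) (S0_d_apply _ _ _ _)))
        (Q.map (Cocycle.equivHomShift.symm wc)) hε
      let ec := evCocycle (K0 A) I 0 (a • one0 A) (S0_d_apply _ _ _ _)
      have h2 : Q.map (Cocycle.equivHomShift.symm (wc - ec)) = 0 := by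
        rw [map_sub, Functor.map_sub]
        change Q.map (Cocycle.equivHomShift.symm wc) -
          Q.map (evHom (K0 A) I 0 (a • one0 A) (S0_d_apply _ _ _ _)) = 0
        rw [evHom_smul _ _ _ a (one0 A) (S0_d_apply _ _ _ _), Functor.map_smul, ha, sub_self]
      obtain ⟨β, hβ⟩ := exists_δ_eq_of_Q_map_eq_zero _ I 0 (wc - ec) h2
      have h3 : ((wc - ec).1 : Cochain (Dc I (K0 A)) I 0) =
          w - evCochain (K0 A) I 0 (a • one0 A) := rfl
      refine ⟨a • one0 A, S0_d_apply _ _ _ _, β, ?_⟩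
      show w = evCochain (K0 A) I 0 (a • one0 A) + δ (0 - 1) 0 β
      rw [hβ, h3]
      abel
    · haveI : Subsingleton (toD (Dc I (K0 A)) ⟶ toD (I⟦n⟧)) := by
        haveI := hvan (n + d) (by omega)
        exact (homLin I R e d eD n (n + d) rfl).toEquiv.subsingleton
      obtain ⟨β, hβ⟩ := exists_δ_eq_of_Q_map_eq_zero _ I n wc (Subsingleton.elim _ _)
      refine ⟨0, by rw [map_zero], β, ?_⟩
      rw [map_zero, zero_add]
      exact (hβ.symm : w = δ (n - 1) n β)
  exact isIso_of_mono_of_epi _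

end Base

end Groth.Agent.Lib.DualResH1
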