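import Mathlib
import Groth.Prelude.Def_DRing4
import Groth.Prelude.Def_Wider
import Groth.Agent.Lib.DualRes4_helper1

/-!
# Dualizing complexes via the residue field (helper1), part 5: conclusion

* `PM_of_finite`: if the biduality map of `k[0]` is a quasi-isomorphism, so is that of `M[0]` for
  every finite module `M` (dévissage + Nakayama);
* `isDualizing_toD_of_evQis`: if the biduality map of `A[0]` is a quasi-isomorphism, then `I` is
  a dualizing complex;
* `isDualizing_of_residueField`: the criterion.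
-/

set_option autoImplicit false
set_option linter.style.haveILetI false
set_option linter.unusedSectionVars false
set_option linter.unusedVariables false
universe u
open CategoryTheory Limits CochainComplex CochainComplex.HomComplex ZeroObject DerivedCategory
attribute [local instance] HasDerivedCategory.standard

namespace Groth.Agent.Lib.DualResH1

open Groth.Agent.Lib.HomCx Groth.Agent.Lib.RHomKInj Groth.Agent.Lib.HomCxPreQis DRing
open Groth.Agent.Lib.DMod_helper6 Groth.Agent.Lib.BrutalTrunc Groth.Agent.Lib.BidualH6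

section Bridge

variable {R : Type u} [Ring R] {K L : CochainComplex (ModuleCat.{u} R) ℤ} (φ : K ⟶ L)

lemma elementwise_of_mono_homologyMap (j : ℤ)
    (hm : Mono (HomologicalComplex.homologyMap φ j))
    (x : K.X j) (hx : (K.d j (j + 1)).hom x = 0) (y : L.X (j - 1))
    (hy : (φ.f j).hom x = (L.d (j - 1) j).hom y) :
    ∃ x₁ : K.X (j - 1), (K.d (j - 1) j).hom x₁ = x := by
  have H := (HomologicalComplex.mono_homologyMap_iff_up_to_refinements φ (j - 1) j (j + 1)
    (by simp) (by simp)).1 hm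
  obtain ⟨A', π, hπ, x₁, h⟩ := H
    (ModuleCat.ofHom (LinearMap.toSpanSingleton R (K.X j) x)) (by
      refine ModuleCat.hom_ext (LinearMap.ext_ring ?_)
      rw [ModuleCat.hom_comp, LinearMap.comp_apply, ModuleCat.hom_ofHom,
        LinearMap.toSpanSingleton_apply, one_smul, hx]
      rfl)
    (ModuleCat.ofHom (LinearMap.toSpanSingleton R (L.X (j - 1)) y)) (by
      refine ModuleCat.hom_ext (LinearMap.ext_ring ?_)
      rw [ModuleCat.hom_comp, ModuleCat.hom_comp, LinearMap.comp_apply, LinearMap.comp_apply,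
        ModuleCat.hom_ofHom, ModuleCat.hom_ofHom, LinearMap.toSpanSingleton_apply,
        LinearMap.toSpanSingleton_apply, one_smul, one_smul, hy])
  rw [ModuleCat.epi_iff_surjective] at hπ
  obtain ⟨m, hm1⟩ := hπ (1 : R)
  have hm1' : π.hom m = 1 := hm1
  refine ⟨x₁.hom m, ?_⟩
  have h2 := LinearMap.congr_fun (congrArg ModuleCat.Hom.hom h) m
  rw [ModuleCat.hom_comp, ModuleCat.hom_comp, LinearMap.comp_apply, LinearMap.comp_apply,
    ModuleCat.hom_ofHom, LinearMap.toSpanSingleton_apply, hm1', one_smul] at h2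
  exact h2.symm

lemma elementwise_of_epi_homologyMap (j : ℤ)
    (he : Epi (HomologicalComplex.homologyMap φ j))
    (y : L.X j) (hy : (L.d j (j + 1)).hom y = 0) :
    ∃ (x : K.X j), (K.d j (j + 1)).hom x = 0 ∧
      ∃ y₁ : L.X (j - 1), y = (φ.f j).hom x + (L.d (j - 1) j).hom y₁ := by
  have H := (HomologicalComplex.epi_homologyMap_iff_up_to_refinements φ (j - 1) j (j + 1)
    (by simp) (by simp)).1 he
  obtain ⟨A', π, hπ, x₂, hx₂, y₁, h⟩ := H
    (ModuleCat.ofHom (LinearMap.toSpanSingleton R (L.X j) y)) (by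
      refine ModuleCat.hom_ext (LinearMap.ext_ring ?_)
      rw [ModuleCat.hom_comp, LinearMap.comp_apply, ModuleCat.hom_ofHom,
        LinearMap.toSpanSingleton_apply, one_smul, hy]
      rfl)
  rw [ModuleCat.epi_iff_surjective] at hπ
  obtain ⟨m, hm1⟩ := hπ (1 : R)
  have hm1' : π.hom m = 1 := hm1
  refine ⟨x₂.hom m, ?_, y₁.hom m, ?_⟩
  · have h2 := LinearMap.congr_fun (congrArg ModuleCat.Hom.hom hx₂) m
    rw [ModuleCat.hom_comp, LinearMap.comp_apply] at h2
    exact h2
  · have h2 := LinearMap.congr_fun (congrArg ModuleCat.Hom.hom h) m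
    rw [ModuleCat.hom_comp, LinearMap.comp_apply, ModuleCat.hom_ofHom,
      LinearMap.toSpanSingleton_apply, hm1', one_smul, ModuleCat.hom_add, LinearMap.add_apply,
      ModuleCat.hom_comp, ModuleCat.hom_comp, LinearMap.comp_apply, LinearMap.comp_apply] at h2
    exact h2

end Bridge

variable {A : Type u} [CommRing A]

lemma forall_of_exactAt (E : DRing.Cx A) (i j k : ℤ) (hij : i + 1 = j) (hjk : j + 1 = k)
    (h : E.ExactAt j) (y : E.X j) (hy : (E.d j k).hom y = 0) :
    ∃ x : E.X i, (E.d i j).hom x = y := by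
  rw [HomologicalComplex.exactAt_iff' E i j k (by simp [← hij]) (by simp [← hjk]),
    ShortComplex.moduleCat_exact_iff] at h
  exact h y hy

section Quot

variable [IsLocalRing A] [IsNoetherianRing A] (I : DRing.Cx A) [I.IsKInjective]

theorem PM_quot_prime (a b : ℤ) (hI : VanishesOutside I a b) (hinj : TermwiseInjective I)
    (hfin : ∀ i : ℤ, Module.Finite A (Dual.HD A (toD I) i))
    (hk : PM I (IsLocalRing.ResidueField A)) (p : Ideal A) (hp : p.IsPrime) :
    PM I (A ⧸ p) := by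
  revert hp
  induction p using IsNoetherian.induction with
  | hgt p ih =>
    intro hp
    by_cases hpm : p = IsLocalRing.maximalIdeal A
    · subst hpm
      exact PM_of_linearEquiv I resEquiv.symm hk
    · have hle : p ≤ IsLocalRing.maximalIdeal A := IsLocalRing.le_maximalIdeal hp.ne_top
      have hlt : p < IsLocalRing.maximalIdeal A := lt_of_le_of_ne hle hpm
      obtain ⟨x, hxm, hxp⟩ := SetLike.exists_of_lt hlt
      have hxJ : x ∈ p ⊔ Ideal.span {x} :=
        Ideal.mem_sup_right (Ideal.mem_span_singleton_self x)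
      have hpJ : p < p ⊔ Ideal.span {x} := by
        refine lt_of_le_of_ne le_sup_left (fun h => hxp ?_)
        rw [h]; exact hxJ
      have h3 : PM I (A ⧸ (p ⊔ Ideal.span {x})) := by
        refine PM_of_ann I hinj (p ⊔ Ideal.span {x})
          (fun q hq => ih q.asIdeal (lt_of_lt_of_le hpJ hq) q.isPrime) _ ?_
        intro r hr n
        obtain ⟨b, rfl⟩ := Ideal.Quotient.mk_surjective n
        show Ideal.Quotient.mk (p ⊔ Ideal.span {x}) (r * b) = 0
        exact Ideal.Quotient.eq_zero_iff_mem.2 (Ideal.mul_mem_right b _ hr)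
      have hinj' : Function.Injective (x • LinearMap.id : A ⧸ p →ₗ[A] A ⧸ p) := by
        refine (injective_iff_map_eq_zero _).2 (fun y hy => ?_)
        obtain ⟨c, rfl⟩ := Ideal.Quotient.mk_surjective y
        have h' : Ideal.Quotient.mk p (x * c) = 0 := hy
        rcases hp.mem_or_mem (Ideal.Quotient.eq_zero_iff_mem.1 h') with h | h
        · exact absurd h hxp
        · exact Ideal.Quotient.eq_zero_iff_mem.2 h
      have hfg : Function.Exact (x • LinearMap.id : A ⧸ p →ₗ[A] A ⧸ p)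
          (Submodule.factor hpJ.le) := by
        intro y
        constructor
        · intro h
          obtain ⟨c, rfl⟩ := Ideal.Quotient.mk_surjective y
          have h' : Ideal.Quotient.mk (p ⊔ Ideal.span {x}) c = 0 := h
          have hcJ : c ∈ p ⊔ Ideal.span {x} := Ideal.Quotient.eq_zero_iff_mem.1 h'
          obtain ⟨b, hb, c', hc', rfl⟩ := Submodule.mem_sup.1 hcJ
          obtain ⟨d, rfl⟩ := Ideal.mem_span_singleton'.1 hc'
          refine ⟨Ideal.Quotient.mk p d, ?_⟩
          show Ideal.Quotient.mk p (x * d) = Ideal.Quotient.mk p (b + d * x)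
          rw [Ideal.Quotient.eq]
          have : x * d - (b + d * x) = -b := by ring
          rw [this]; exact p.neg_mem hb
        · rintro ⟨z, rfl⟩
          obtain ⟨d, rfl⟩ := Ideal.Quotient.mk_surjective z
          show Ideal.Quotient.mk (p ⊔ Ideal.span {x}) (x * d) = 0
          exact Ideal.Quotient.eq_zero_iff_mem.2 (Ideal.mul_mem_right d _ hxJ)
      exact PM_of_regular I a b hI hinj hfin x hxm (Submodule.factor hpJ.le) hinj'
        (Submodule.factor_surjective hpJ.le) hfg h3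

theorem PM_of_finite (a b : ℤ) (hI : VanishesOutside I a b) (hinj : TermwiseInjective I)
    (hfin : ∀ i : ℤ, Module.Finite A (Dual.HD A (toD I) i))
    (hk : PM I (IsLocalRing.ResidueField A))
    (N : Type u) [AddCommGroup N] [Module A N] [Module.Finite A N] : PM I N := by
  refine PM_of_ann I hinj ⊥
    (fun q _ => PM_quot_prime I a b hI hinj hfin hk q.asIdeal q.isPrime) N ?_
  intro r hr n
  rw [(Submodule.mem_bot A).1 hr, zero_smul]

end Quot

section Abstract

variable {C : Type*} [Category C] [Preadditive C] [Linear A C]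

lemma smul_id_eq_zero_of_iso {X Y : C} (σ : X ≅ Y) (c : A) (h : c • 𝟙 Y = 0) :
    c • 𝟙 X = 0 := by
  have h1 : c • 𝟙 X = σ.hom ≫ (c • 𝟙 Y) ≫ σ.inv := by
    rw [Linear.smul_comp, Category.id_comp, Linear.comp_smul, Iso.hom_inv_id]
  rw [h1, h, zero_comp, comp_zero]

lemma eq_smul_id_of_conj {X Y Z : C} (g : X ⟶ Y) [IsIso g] (σ : Y ≅ Z) (f : Z ⟶ Z) (a : A)
    (h : g ≫ σ.hom ≫ f ≫ σ.inv = a • g) : f = a • 𝟙 Z := by
  have h1 : σ.hom ≫ f ≫ σ.inv = a • 𝟙 Y := by
    rw [← cancel_epi g, h, Linear.comp_smul, Category.comp_id]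
  have h2 : f = σ.inv ≫ (σ.hom ≫ f ≫ σ.inv) ≫ σ.hom := by
    simp only [Category.assoc, Iso.inv_hom_id, Category.comp_id, Iso.inv_hom_id_assoc]
  rw [h2, h1, Linear.smul_comp, Category.id_comp, Linear.comp_smul, Iso.inv_hom_id]

end Abstract

section Converse

variable (I : DRing.Cx A) [I.IsKInjective]

lemma eq_zero_of_smul_one (m : ℤ) (c : A) (h : c • one A m = 0) : c = 0 := by
  let ι : (SA A m).X m ≃ₗ[A] A :=
    (HomologicalComplex.singleObjXSelf (.up ℤ) m (ModuleCat.of A A)).toLinearEquiv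
  have h1 : ι.symm (c • (1 : A)) = 0 := by
    rw [map_smul]
    exact h
  have h2 : c • (1 : A) = 0 := ι.symm.map_eq_zero_iff.1 h1
  rwa [smul_eq_mul, mul_one] at h2

/-- `I⟦0⟧ ≅ I` in the derived category -/
noncomputable def sigma0 : toD (I⟦(0 : ℤ)⟧) ≅ toD I :=
  (Q.commShiftIso (0 : ℤ)).app I ≪≫ (CategoryTheory.shiftFunctorZero (Dual.D A) ℤ).app (toD I)

variable (hq : EvQis I (SA A 0))

include hq in
lemma subsingleton_hom_DK (n : ℤ) (hn : n ≠ 0) :
    Subsingleton (toD (Dc I (SA A 0)) ⟶ toD (I⟦n⟧)) := by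
  haveI : QuasiIso (ev (SA A 0) I) := hq
  refine subsingleton_of_forall_eq 0 (fun f => ?_)
  obtain ⟨u, rfl⟩ := exists_Q_map_eq_of_isKInjective f
  obtain ⟨wc, hwc⟩ : ∃ wc : Cocycle (Dc I (SA A 0)) I n, wc = Cocycle.equivHomShift u :=
    ⟨_, rfl⟩
  have huw : u = Cocycle.equivHomShift.symm wc := by
    rw [hwc]
    exact (Cocycle.equivHomShift.symm_apply_apply u).symm
  have hexK : (SA A 0).ExactAt n :=
    HomologicalComplex.exactAt_single_obj (ComplexShape.up ℤ) 0 (ModuleCat.of A A) n hn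
  have hexL : (Dc I (Dc I (SA A 0))).ExactAt n :=
    (quasiIsoAt_iff_exactAt (ev (SA A 0) I) n hexK).1 inferInstance
  obtain ⟨β, hβ⟩ := forall_of_exactAt _ (n - 1) n (n + 1) (by omega) rfl hexL wc.1
    (Cocycle.δ_eq_zero wc (n + 1))
  rw [huw]
  exact Q_map_eq_zero_of_δ_eq _ I n wc β hβ

include hq in
lemma ext_self_subsingleton_of_evQis (n : ℤ) (hn : n ≠ 0) :
    Subsingleton (toD I ⟶ (toD I)⟦n⟧) := by
  haveI := subsingleton_hom_DK I hq n hn
  let e1 : toD (Dc I (SA A 0)) ≅ toD I := gIso I 0 ≪≫ sigma0 I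
  let e2 : toD (I⟦n⟧) ≅ (toD I)⟦n⟧ := (Q.commShiftIso n).app I
  exact (subsingleton_hom_iso_left e1).1 ((subsingleton_hom_iso_right e2).1 inferInstance)

include hq in
lemma toEnd_injective_of_evQis : Function.Injective (fun a : A => a • 𝟙 (toD I)) := by
  haveI : QuasiIso (ev (SA A 0) I) := hq
  intro a b hab
  have hab' : a • 𝟙 (toD I) = b • 𝟙 (toD I) := hab
  obtain ⟨c, hcdef⟩ : ∃ c : A, c = a - b := ⟨_, rfl⟩
  have hc : c • 𝟙 (toD I) = 0 := by rw [hcdef, sub_smul, hab', sub_self]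
  have h0 : c • 𝟙 (toD (I⟦(0 : ℤ)⟧)) = 0 := smul_id_eq_zero_of_iso (sigma0 I) c hc
  have h1 : Q.map (evHom (SA A 0) I 0 (c • one A 0) (SA_d_apply 0 0 (0 + 1) _)) = 0 := by
    rw [evHom_smul _ _ _ c (one A 0) (SA_d_apply 0 0 (0 + 1) _), Functor.map_smul]
    have h' : c • Q.map (evHom (SA A 0) I 0 (one A 0) (SA_d_apply 0 0 (0 + 1) _)) =
        Q.map (evHom (SA A 0) I 0 (one A 0) (SA_d_apply 0 0 (0 + 1) _)) ≫
          (c • 𝟙 (toD (I⟦(0 : ℤ)⟧))) := by
      rw [Linear.comp_smul, Category.comp_id]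
    rw [h', h0, comp_zero]
  obtain ⟨β, hβ⟩ := exists_δ_eq_of_Q_map_eq_zero (Dc I (SA A 0)) I 0
    (evCocycle (SA A 0) I 0 (c • one A 0) (SA_d_apply 0 0 (0 + 1) _)) h1
  have hm : Mono (HomologicalComplex.homologyMap (ev (SA A 0) I) 0) := by
    haveI : IsIso (HomologicalComplex.homologyMap (ev (SA A 0) I) 0) :=
      (quasiIsoAt_iff_isIso_homologyMap _ _).1 inferInstance
    infer_instance
  obtain ⟨x₁, hx₁⟩ := elementwise_of_mono_homologyMap (ev (SA A 0) I) 0 hm (c • one A 0)
    (SA_d_apply 0 0 (0 + 1) _) β hβ.symm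
  rw [SA_d_apply] at hx₁
  have hc0 : c = 0 := eq_zero_of_smul_one 0 c hx₁.symm
  rw [hcdef] at hc0
  exact sub_eq_zero.1 hc0

include hq in
lemma toEnd_surjective_of_evQis : Function.Surjective (fun a : A => a • 𝟙 (toD I)) := by
  haveI : QuasiIso (ev (SA A 0) I) := hq
  intro f
  obtain ⟨g, hgdef⟩ : ∃ g : Dc I (SA A 0) ⟶ I⟦(0 : ℤ)⟧,
      g = evHom (SA A 0) I 0 (one A 0) (SA_d_apply 0 0 (0 + 1) _) := ⟨_, rfl⟩
  haveI : IsIso g := by rw [hgdef]; infer_instance
  obtain ⟨u, hu⟩ := exists_Q_map_eq_of_isKInjective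
    (Q.map g ≫ (sigma0 I).hom ≫ f ≫ (sigma0 I).inv)
  obtain ⟨wc, hwc⟩ : ∃ wc : Cocycle (Dc I (SA A 0)) I 0, wc = Cocycle.equivHomShift u :=
    ⟨_, rfl⟩
  have huw : u = Cocycle.equivHomShift.symm wc := by
    rw [hwc]
    exact (Cocycle.equivHomShift.symm_apply_apply u).symm
  have he : Epi (HomologicalComplex.homologyMap (ev (SA A 0) I) 0) := by
    haveI : IsIso (HomologicalComplex.homologyMap (ev (SA A 0) I) 0) :=
      (quasiIsoAt_iff_isIso_homologyMap _ _).1 inferInstance
    infer_instance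
  obtain ⟨x, hx, β, hβ⟩ := elementwise_of_epi_homologyMap (ev (SA A 0) I) 0 he wc.1
    (Cocycle.δ_eq_zero wc (0 + 1))
  obtain ⟨a, rfl⟩ := exists_smul_one 0 x
  refine ⟨a, ?_⟩
  obtain ⟨ec, hec⟩ : ∃ ec : Cocycle (Dc I (SA A 0)) I 0,
      ec = evCocycle (SA A 0) I 0 (a • one A 0) (SA_d_apply 0 0 (0 + 1) _) := ⟨_, rfl⟩
  obtain ⟨βc, hβc⟩ : ∃ βc : Cochain (Dc I (SA A 0)) I (0 - 1), βc = β := ⟨_, rfl⟩
  have h3 : δ (0 - 1) 0 βc = (wc - ec).1 := by
    have h4 : ((wc - ec).1 : Cochain (Dc I (SA A 0)) I 0) =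
        wc.1 - evCochain (SA A 0) I 0 (a • one A 0) := by rw [hec]; rfl
    have hβ' : (wc.1 : Cochain (Dc I (SA A 0)) I 0) =
        evCochain (SA A 0) I 0 (a • one A 0) + δ (0 - 1) 0 βc := by rw [hβc]; exact hβ
    rw [h4, hβ']
    abel
  have h2 : Q.map (Cocycle.equivHomShift.symm (wc - ec)) = 0 :=
    Q_map_eq_zero_of_δ_eq _ I 0 (wc - ec) βc h3
  rw [map_sub, Functor.map_sub, ← huw, hec] at h2
  change Q.map u - Q.map (evHom (SA A 0) I 0 (a • one A 0) (SA_d_apply 0 0 (0 + 1) _)) = 0 at h2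
  rw [evHom_smul _ _ _ a (one A 0) (SA_d_apply 0 0 (0 + 1) _), Functor.map_smul, ← hgdef,
    sub_eq_zero, hu] at h2
  exact (eq_smul_id_of_conj (Q.map g) (sigma0 I) f a h2).symm

/-- if the biduality map of `A[0]` is a quasi-isomorphism, then the bounded complex of injectives
`I` with finite cohomology is dualizing -/
theorem isDualizing_toD_of_evQis [IsNoetherianRing A] (a b : ℤ) (hI : VanishesOutside I a b)
    (hinj : TermwiseInjective I) (hfin : ∀ i : ℤ, Module.Finite A (Dual.HD A (toD I) i))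
    (hq : EvQis I (SA A 0)) : Dual.IsDualizing A (toD I) where
  isNoetherianRing := inferInstance
  finite_injective_dimension := ⟨a, b, fun M _ _ i hi =>
    hom_subsingleton_of_hasInjAmplitudeIn (toD I) a b ⟨I, hI, hinj, ⟨Iso.refl _⟩⟩
      (ModuleCat.of A M) i hi⟩
  finite_cohomology := hfin
  toEnd_bijective := ⟨toEnd_injective_of_evQis I hq, toEnd_surjective_of_evQis I hq⟩
  ext_self_subsingleton := fun i hi => ext_self_subsingleton_of_evQis I hq i hi

end Converse

section Main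

variable [IsLocalRing A] [IsNoetherianRing A]

/-- **criterion**: a bounded below object of `D(A)` with finite cohomology such that
`Ext^i(k, R) = 0` for `i ≠ d` and `Ext^d(k, R) ≃ k` is a dualizing complex. -/
theorem isDualizing_of_residueField (R : Dual.D A)
    (hfin : ∀ i : ℤ, Module.Finite A (Dual.HD A R i)) (a₀ : ℤ)
    (ha₀ : ∀ i : ℤ, i < a₀ → Subsingleton (Dual.HD A R i)) (d : ℤ)
    (hvan : ∀ i : ℤ, i ≠ d → Subsingleton (Dual.inD A (IsLocalRing.ResidueField A) ⟶
      (CategoryTheory.shiftFunctor (Dual.D A) i).obj R))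
    (hd : (Dual.inD A (IsLocalRing.ResidueField A) ⟶
      (CategoryTheory.shiftFunctor (Dual.D A) d).obj R) ≃ₗ[A] IsLocalRing.ResidueField A) :
    Dual.IsDualizing A R := by
  obtain ⟨I, hI, hinj, ⟨e⟩⟩ := hasInjAmplitudeIn_of_residueField R hfin a₀ ha₀ d
    (fun i hi => hvan i hi.ne')
  haveI : I.IsKInjective := isKInjective_of_injCls ⟨a₀, d, hI, hinj⟩
  have hfin' : ∀ i : ℤ, Module.Finite A (Dual.HD A (toD I) i) := fun i => by
    haveI := hfin i
    exact Module.Finite.equiv
      ((DerivedCategory.homologyFunctor (ModuleCat.{u} A) i).mapIso e).symm.toLinearEquiv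
  have hk : PM I (IsLocalRing.ResidueField A) := PM_residueField I R e d hd hvan
  have hA : PM I A := PM_of_finite I a₀ d hI hinj hfin' hk A
  exact isDualizing_of_iso e (isDualizing_toD_of_evQis I a₀ d hI hinj hfin' hA)

end Main

end Groth.Agent.Lib.DualResH1
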