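import Mathlib
import Groth.Agent.Lib.DMod101_helper6
import Groth.Agent.Lib.DepthSk_helper5
import Groth.Agent.Lib.DepthSkQuot_helper5

/-!
# The bottom cohomology of a dualizing complex is `(S_2)` and torsion-free (helper6)
-/

set_option autoImplicit false
universe u
open CategoryTheory CategoryTheory.Limits DerivedCategory Pretriangulated ZeroObject
open scoped Pointwise TensorProduct
attribute [local instance] HasDerivedCategory.standard

namespace Groth.Agent.Lib.DMod_helper6

open DRing Groth.Agent.ExtendScalarsLib Groth.Agent.Lib.DerivedTrunc_helper2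

section LocalB

variable {B : Type u} [CommRing B] [IsLocalRing B] [IsNoetherianRing B]

theorem hasSk_two_bottom (K : Dual.D B) (hK : Dual.IsDualizing B K) (n : ℤ)
    (hlow : ∀ i : ℤ, i < n → Subsingleton (Dual.HD B K i)) :
    LocCoh.HasSk 2 B (Dual.HD B K n) ∧
      (IsDomain B → Module.IsTorsionFree B (Dual.HD B K n)) := by
  rcases subsingleton_or_nontrivial (Dual.HD B K n) with hs | hnt
  · refine ⟨fun P hP => ?_, fun _ => inferInstance⟩
    haveI : Subsingleton (LocalizedModule P.primeCompl (Dual.HD B K n)) :=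
      LocalizedModule.subsingleton_iff.2 (fun m => ⟨1, one_mem _, Subsingleton.elim _ _⟩)
    rw [Module.supportDim_eq_bot_of_subsingleton, min_eq_right bot_le]
    exact bot_le
  · obtain ⟨m, hm⟩ := exists_isNormalized_shift K hK
    obtain ⟨d, hd⟩ := exists_nat_eq_of_nonneg_of_lt_top (ringKrullDim B)
      ringKrullDim_nonneg_of_nontrivial ringKrullDim_lt_top
    obtain ⟨hb1, hb2⟩ := bottom_degree_of_supportDim_eq K hK m hm B d
      (by rw [Module.supportDim_self_eq_ringKrullDim, hd])
    have h1 : Nontrivial (Dual.HD B K (m - d)) := (nontrivial_hom_inD_self_iff K _).1 hb1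
    have h2 : m - d ≤ n := hb2 n ((nontrivial_hom_inD_self_iff K n).2 hnt)
    have h3 : n ≤ m - d := by
      by_contra hlt
      push_neg at hlt
      haveI := hlow _ hlt
      exact (not_subsingleton_iff_nontrivial.2 h1) inferInstance
    have hK' := isDualizing_shift K hK m
    let eq : Dual.HD B (K⟦m⟧) (-(d : ℤ)) ≃ₗ[B] Dual.HD B K n :=
      (((homologyFunctor (ModuleCat.{u} B) 0).shiftIso m (-(d : ℤ)) n (by omega)).app
        K).toLinearEquiv
    obtain ⟨hsupp, hS2⟩ := dualizing_module_support_and_S2 (K⟦m⟧) hK' hm d hd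
    refine ⟨Groth.Agent.DepthLib.hasSk_congr eq 2 hS2, fun hdom => ?_⟩
    haveI := hdom
    haveI : Module.Finite B (Dual.HD B (K⟦m⟧) (-(d : ℤ))) := hK'.finite_cohomology (-(d : ℤ))
    have hbotmin : (⊥ : Ideal B) ∈ minimalPrimes B :=
      ⟨⟨Ideal.bot_prime, le_rfl⟩, fun q _ _ => bot_le⟩
    have hdimbot : ringKrullDim (B ⧸ (⊥ : Ideal B)) = d := by
      rw [ringKrullDim_eq_of_ringEquiv (RingEquiv.quotientBot B), hd]
    have hall : ∀ P : PrimeSpectrum B,
        P ∈ Module.support B (Dual.HD B (K⟦m⟧) (-(d : ℤ))) := by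
      intro P
      rw [hsupp]
      exact ⟨⊥, hbotmin, bot_le, hdimbot⟩
    have hann : Module.annihilator B (Dual.HD B (K⟦m⟧) (-(d : ℤ))) = ⊥ := by
      have h4 := hall ⟨⊥, Ideal.bot_prime⟩
      rw [Module.support_eq_zeroLocus] at h4
      exact le_bot_iff.1 h4
    have hTF : Module.IsTorsionFree B (Dual.HD B (K⟦m⟧) (-(d : ℤ))) := by
      refine ⟨fun r hr x y hxy => ?_⟩
      by_contra hne
      have hz : x - y ≠ 0 := sub_ne_zero.2 hne
      have hrz : r • (x - y) = 0 := by rw [smul_sub]; exact sub_eq_zero.2 hxy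
      obtain ⟨P, hP, hle⟩ := exists_le_isAssociatedPrime_of_isNoetherianRing (R := B) (x - y) hz
      haveI := hP.isPrime
      have hrP : r ∈ P :=
        hle (Submodule.mem_colon_singleton.2 (by rw [hrz]; exact Submodule.zero_mem _))
      have hdep : ¬ 1 ≤ LocCoh.depth (Localization.AtPrime P)
          (LocalizedModule P.primeCompl (Dual.HD B (K⟦m⟧) (-(d : ℤ)))) :=
        (Groth.Agent.DepthLib.not_one_le_depth_localization_iff _ P).2 hP
      have hsk := hS2 P
      have hsd : Module.supportDim (Localization.AtPrime P)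
          (LocalizedModule P.primeCompl (Dual.HD B (K⟦m⟧) (-(d : ℤ)))) ≤ 0 := by
        have hd0 : LocCoh.depth (Localization.AtPrime P)
            (LocalizedModule P.primeCompl (Dual.HD B (K⟦m⟧) (-(d : ℤ)))) = 0 :=
          ENat.lt_one_iff_eq_zero.1 (not_le.1 hdep)
        rw [hd0] at hsk
        rcases min_le_iff.1 hsk with h | h
        · exfalso
          have h' : (((2 : ℕ) : ℕ∞) : WithBot ℕ∞) ≤ ((0 : ℕ∞) : WithBot ℕ∞) := h
          have h'' := WithBot.coe_le_coe.1 h'
          simp at h''
        · exact h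
      have hPmin := (Groth.Agent.DepthLib.supportDim_localizedModule_le_zero_iff _ P
        (hall ⟨P, inferInstance⟩)).1 hsd
      rw [hann] at hPmin
      have hP0 : P = ⊥ := le_bot_iff.1 (hPmin.2 ⟨Ideal.bot_prime, le_rfl⟩ bot_le)
      rw [hP0] at hrP
      exact hr.ne_zero ((Submodule.mem_bot B).1 hrP)
    exact Function.Injective.moduleIsTorsionFree eq.symm eq.symm.injective
      (fun r x => map_smul eq.symm r x)

end LocalB

section Chart

variable {A : Type u} [CommRing A] [IsNoetherianRing A]

theorem hasSk_two_localized (ω : Dual.D A) (hω : Dual.IsDualizing A ω) (p : PrimeSpectrum A)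
    (n : ℤ) (hlow : ∀ i : ℤ, i < n → p ∉ Module.support A (Dual.HD A ω i)) :
    LocCoh.HasSk 2 (Localization.AtPrime p.asIdeal)
        (LocalizedModule p.asIdeal.primeCompl (Dual.HD A ω n)) ∧
      (IsDomain (Localization.AtPrime p.asIdeal) →
        Module.IsTorsionFree (Localization.AtPrime p.asIdeal)
          (LocalizedModule p.asIdeal.primeCompl (Dual.HD A ω n))) := by
  haveI := isNoetherianRing_atPrime p.asIdeal
  have hK := isDualizing_locD ω p.asIdeal hω
  have hlow' : ∀ i : ℤ, i < n →
      Subsingleton (Dual.HD (Localization.AtPrime p.asIdeal) (locD ω p.asIdeal) i) := by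
    intro i hi
    obtain ⟨eq⟩ := nonempty_HD_locD_linearEquiv p.asIdeal ω i
    haveI : Subsingleton (LocalizedModule p.asIdeal.primeCompl (Dual.HD A ω i)) :=
      Module.notMem_support_iff.1 (hlow i hi)
    exact eq.toEquiv.subsingleton
  obtain ⟨h1, h2⟩ := hasSk_two_bottom (locD ω p.asIdeal) hK n hlow'
  obtain ⟨eq⟩ := nonempty_HD_locD_linearEquiv p.asIdeal ω n
  refine ⟨Groth.Agent.DepthLib.hasSk_congr eq 2 h1, fun hdom => ?_⟩
  haveI := h2 hdom
  exact Function.Injective.moduleIsTorsionFree eq.symm eq.symm.injective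
    (fun r x => map_smul eq.symm r x)

end Chart

end Groth.Agent.Lib.DMod_helper6
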