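import Mathlib
import Groth.Prelude
import Groth.Agent.Lib.DualSch3_helper3
import Groth.Agent.Lib.PerfTensG2_helper3

/-!
# `Rf_* RHom(E, G)` is perfect (helper3; S1117)

`S` Noetherian, `f : X ⟶ S` locally of finite type, `E` perfect, `G` coherent, flat over `S`, with
support proper over `S`.  Locally `RHom(E, G) ≅ G ⊗ E^∨` with `E^∨` strictly perfect.
-/

set_option autoImplicit false
set_option linter.all false
set_option maxHeartbeats 1600000
set_option backward.isDefEq.respectTransparency false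
set_option backward.isDefEq.respectTransparency.types false
set_option backward.defeqAttrib.useBackward true

universe u
open CategoryTheory CategoryTheory.Limits AlgebraicGeometry Opposite TopologicalSpace
open HomologicalComplex

attribute [local instance] HasDerivedCategory.standard

namespace Groth.Agent.Lib.DualSchH3

open ModSite Groth.Agent.Lib.ModSiteH8 Groth.Agent.Lib.DualLFH4 Groth.Agent.Lib.CxAdjH3
  Groth.Agent.Lib.DualModH3 Groth.Agent.Lib.DualDerH3 Groth.Agent.Lib.PjShriekH3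
  Groth.Agent.Lib.DCohLocLead Groth.Agent.Lib.PerfTensH3 DerivedCategory
  Groth.Agent.Lib.DTorCmp Groth.Agent.Lib.PerfTensGH3 Groth.Agent.Lib.RelPerfTensH3 DerSch

attribute [local instance] Groth.Agent.Lib.ModSiteH8.hasSheafHom

noncomputable section

/-- `G[0] ⊗ L ≅ L ⊗ G` (termwise), at the chain level -/
def singleTensorIso {T : Scheme.{u}} (G : T.Modules) (L : CochainComplex T.Modules ℤ) :
    (DCoh.tensorCx.obj ((HomologicalComplex.single T.Modules (ComplexShape.up ℤ) 0).obj G)).obj L ≅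
      (tw G).obj L :=
  haveI : (DCoh.tensorRightMod G).Additive := DCoh.additive_tensorRightMod G
  haveI : (DCoh.tensorRightMod G).PreservesZeroMorphisms := inferInstance
  (asIso (Groth.Agent.Lib.BifSingleL.xiApp (ModSite.tensorBi T.sheaf) G L)).symm ≪≫
    (NatIso.mapHomologicalComplex (sigmaIso T.sheaf G) (ComplexShape.up ℤ)).app L ≪≫
    (NatIso.mapHomologicalComplex (eT G).symm (ComplexShape.up ℤ)).app L

variable {X S : Scheme.{u}}

/-- a module restricts to zero on an open disjoint from its support -/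
theorem isZero_restrict_of_disjoint (G : X.Modules) (V : X.Opens)
    (h : ∀ x : X, x ∈ V → x ∉ CohB1.support G) :
    IsZero ((Scheme.Modules.restrictFunctor V.ι).obj G) := by
  apply Groth.Agent.Lib.StalkSkyL.isZero_of_forall_stalk
  intro y
  have hs : Subsingleton (G.presheaf.stalk (V.ι.base y)) := by
    by_contra hns
    exact h _ y.2 hns
  exact (RestrStalkH8.restrictStalkEquiv V.ι G y).toEquiv.subsingleton

/-- the local model of `RHom(E, G)` -/
theorem exists_local_model (E : CochainComplex X.Modules ℤ) (hE : DCoh.IsPerfect (DCoh.toD X E))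
    [DCoh.HasLTensorCx E] [DCoh.HasRSheafHom E] (G : X.Modules) (x : X) (W : X.Opens)
    (hxW : x ∈ W) :
    ∃ (V : X.Opens) (_ : x ∈ V) (_ : V ≤ W) (L : CochainComplex (V : Scheme.{u}).Modules ℤ),
      DCoh.IsStrictlyPerfect L ∧
      Nonempty ((DD V.ι).obj ((DCoh.RSheafHom E).obj (DCoh.inD X G)) ≅
        Q.obj ((tw ((Scheme.Modules.restrictFunctor V.ι).obj G)).obj L)) := by
  obtain ⟨V, hxV, hVW, E', hE', hLD, hiso⟩ := exists_local_dual' E hE x W hxW
  haveI := hLD
  obtain ⟨e⟩ := hiso (DCoh.inD X G)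
  have hD := isStrictlyPerfect_dualCx E' hE'
  have hKD : DCoh.IsKFlat (dualCx (V : Scheme.{u}).sheaf E') := isKFlat_of_isStrictlyPerfect _ hD
  let e1 : (DD V.ι).obj (DCoh.inD X G) ≅
      DCoh.inD (V : Scheme.{u}) ((Scheme.Modules.restrictFunctor V.ι).obj G) :=
    ((Scheme.Modules.restrictFunctor V.ι).mapDerivedCategorySingleFunctor 0).app _
  let e2 := Groth.Agent.Lib.LpullTensH3.ltIsoRight (dualCx (V : Scheme.{u}).sheaf E')
    ((HomologicalComplex.single (V : Scheme.{u}).Modules (ComplexShape.up ℤ) 0).obj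
      ((Scheme.Modules.restrictFunctor V.ι).obj G)) hKD
  exact ⟨V, hxV, hVW, dualCx (V : Scheme.{u}).sheaf E', hD,
    ⟨e ≪≫ (DCoh.LTensorCx (dualCx (V : Scheme.{u}).sheaf E')).mapIso e1 ≪≫ e2 ≪≫
      Q.mapIso (singleTensorIso _ _)⟩⟩

/-- **S1117** -/
theorem main1117 [IsNoetherian S] (f : X ⟶ S) [LocallyOfFiniteType f]
    (E : CochainComplex X.Modules ℤ) (hE : DCoh.IsPerfect (DCoh.toD X E))
    [DCoh.HasLTensorCx E] [DCoh.HasRSheafHom E] [DCoh.HasRpush f]
    (G : X.Modules) (hG : Coh.IsCoh G) (hflat : FlatMod.IsFlatOver f G)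
    (hsupp : ClSub.IsProperOver f (CohB1.support G)) :
    DCoh.IsPerfect ((DCoh.Rpush f).obj ((DCoh.RSheafHom E).obj (DCoh.inD X G))) := by
  haveI : IsLocallyNoetherian X := LocallyOfFiniteType.isLocallyNoetherian f
  set P := (DCoh.RSheafHom E).obj (DCoh.inD X G) with hPdef
  let F : CochainComplex X.Modules ℤ := Q.objPreimage P
  let eF : DCoh.toD X F ≅ P := Q.objObjPreimageIso P
  -- the local computation
  have hloc : ∀ (x : X) (W : X.Opens), x ∈ W → ∃ V : X.Opens, x ∈ V ∧ V ≤ W ∧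
      DCoh.IsCohD ((DD V.ι).obj (Q.obj F)) ∧
      ∃ a b : ℤ, (∀ x' : X, x' ∈ V → HasTorAmplitudeAt f a b F x') ∧
        ((∀ y : X, y ∈ V → y ∉ CohB1.support G) →
          ∀ a' b' : ℤ, HasTorAmplitude (V.ι ≫ f) a' b' ((RC V.ι).obj F)) := by
    intro x W hxW
    obtain ⟨V, hxV, hVW, L, hL, ⟨e⟩⟩ := exists_local_model E hE G x W hxW
    obtain ⟨⟨a, b, hv⟩, hfl⟩ := hL
    let G' := (Scheme.Modules.restrictFunctor V.ι).obj G
    have hG' : Coh.IsCoh G' := Groth.Agent.Lib.RelPCPropH3.isCoh_restrict V.ι G hG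
    have hflat' : FlatMod.IsFlatOver (V.ι ≫ f) G' := isFlatOver_restrict V.ι f G hflat
    haveI : IsLocallyNoetherian (V : Scheme.{u}) := isLocallyNoetherian_of_isOpenImmersion V.ι
    let e1 : DCoh.toD (V : Scheme.{u}) ((tw G').obj L) ≅
        DCoh.toD (V : Scheme.{u}) ((RC V.ι).obj F) :=
      e.symm ≪≫ (DD V.ι).mapIso eF.symm ≪≫ facIso V.ι F
    refine ⟨V, hxV, hVW, ?_, a, b, ?_, ?_⟩
    · intro i
      have h1 : Coh.IsCoh (((tw G').obj L).homology i) :=
        isCoh_homology ((tw G').obj L) (fun k => isCoh_tw_X G' hG' L hfl k) i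
      exact Groth.Agent.Lib.RelPCPropH3.isCoh_of_iso
        ((homologyFunctor _ i).mapIso ((DD V.ι).mapIso eF ≪≫ e) ≪≫
          (homologyFunctorFactors _ i).app ((tw G').obj L)) h1
    · intro x' hx'
      have h2 : DCoh.HasRelFlatAmplitudeIn (V.ι ≫ f) a b
          (DCoh.toD (V : Scheme.{u}) ((RC V.ι).obj F)) :=
        ⟨(tw G').obj L, vanishesOutside_tw G' L a b hv,
          fun k => isFlatOver_tw_X (V.ι ≫ f) G' hflat' L hfl k, ⟨e1⟩⟩
      have h3 := Groth.Agent.Lib.RelFlatAmpH3.hasTorAmplitude_of_relFlatAmp (V.ι ≫ f) _ a b h2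
      exact Groth.Agent.Lib.RelFlatAmpH3.hasTorAmplitudeAt_of_restrict' f V.ι ⟨x', hx'⟩
        F a b (h3 ⟨x', hx'⟩)
    · intro hdis a' b'
      have hz : IsZero G' := isZero_restrict_of_disjoint G V hdis
      have h2 : DCoh.HasRelFlatAmplitudeIn (V.ι ≫ f) a' b'
          (DCoh.toD (V : Scheme.{u}) ((RC V.ι).obj F)) :=
        ⟨(tw G').obj L, fun i _ => IsZero.of_iso
            (isZero_tensor_right (O := (V : Scheme.{u}).sheaf) (L.X i) G' hz)
            ((eT G').app (L.X i)),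
          fun k => isFlatOver_tw_X (V.ι ≫ f) G' hflat' L hfl k, ⟨e1⟩⟩
      exact Groth.Agent.Lib.RelFlatAmpH3.hasTorAmplitude_of_relFlatAmp (V.ι ≫ f) _ a' b' h2
  have hcoh : DCoh.IsCohD (DCoh.toD X F) :=
    Groth.Agent.Lib.RelPCPropH3.isCohD_of_forall_point _ (fun x => by
      obtain ⟨V, hxV, -, h1, -⟩ := hloc x ⊤ trivial
      exact ⟨V, hxV, h1⟩)
  have hlocT : LocFiniteTorAmplitude f F := by
    intro x
    obtain ⟨V, hxV, -, -, a, b, h, -⟩ := hloc x ⊤ trivial
    exact ⟨V, a, b, hxV, h⟩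
  have hZc : IsCompact (CohB1.support G) :=
    Groth.Agent.Lib.TorPushH3.isCompact_of_isProperOver f _ hsupp
  obtain ⟨a, b, hab⟩ := Groth.Agent.Lib.TorPushH3.exists_uniform_torAmp f F hlocT _ hZc
  have hGcl : IsClosed (CohB1.support G) := hsupp.1
  let W : X.Opens := ⟨(CohB1.support G)ᶜ, hGcl.isOpen_compl⟩
  have htor : HasTorAmplitude f a b F := by
    intro x
    by_cases hx : x ∈ CohB1.support G
    · exact hab x hx
    · obtain ⟨V, hxV, hVW, -, -, -, -, h⟩ := hloc x W hx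
      have H := h (fun y hy => hVW hy) a b
      exact Groth.Agent.Lib.RelFlatAmpH3.hasTorAmplitudeAt_of_restrict' f V.ι ⟨x, hxV⟩
        F a b (H ⟨x, hxV⟩)
  have hsuppF : ∀ i : ℤ, ClSub.IsProperOver f (CohB1.support (DCoh.HD (DCoh.toD X F) i)) := by
    intro i
    haveI := (hcoh i).2
    refine ProperOver.isProperOver_of_subset f hsupp (SuppFT.isClosed_support _) ?_
    intro x hx
    by_contra hxG
    apply hx
    obtain ⟨V, hxV, hVW, -, -, -, -, h⟩ := hloc x W hxG
    have H : HasTorAmplitude (V.ι ≫ f) 1 0 ((RC V.ι).obj F) := h (fun y hy => hVW hy) 1 0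
    have hz1 : IsZero (DCoh.HD (DCoh.toD _ ((RC V.ι).obj F)) i) :=
      Groth.Agent.Lib.TorPushH3.isZero_HD_of_hasTorAmplitude (V.ι ≫ f) _ 1 0 H i (by omega)
    obtain ⟨e⟩ := nonempty_HD_restrict_iso V.ι (DCoh.toD X F) i
    have hz2 : IsZero ((Scheme.Modules.restrictFunctor V.ι).obj
        (DCoh.HD (DCoh.toD X F) i)) :=
      IsZero.of_iso hz1 (e.symm ≪≫ (homologyFunctor _ i).mapIso (facIso V.ι F))
    have hs : Subsingleton (((Scheme.Modules.restrictFunctor V.ι).obj
        (DCoh.HD (DCoh.toD X F) i)).presheaf.stalk ⟨x, hxV⟩) := by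
      by_contra hns
      have : (⟨x, hxV⟩ : (V : Scheme.{u})) ∈ CohB1.support
          ((Scheme.Modules.restrictFunctor V.ι).obj (DCoh.HD (DCoh.toD X F) i)) := hns
      rw [CycLenH8.support_eq_empty_of_isZero hz2] at this
      exact this
    exact (RestrStalkH8.restrictStalkEquiv V.ι (DCoh.HD (DCoh.toD X F) i)
      ⟨x, hxV⟩).symm.toEquiv.subsingleton
  exact isPerfect_of_iso ((DCoh.Rpush f).mapIso eF)
    (Groth.Agent.Lib.TorPushH3.main7256 f F hcoh
      ⟨a, b, fun i hi => Groth.Agent.Lib.TorPushH3.isZero_HD_of_hasTorAmplitude f F a b htor i hi⟩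
      hsuppF ⟨a, b, htor⟩)

end

end Groth.Agent.Lib.DualSchH3
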