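import Mathlib
import Groth.Prelude
import Groth.Agent.Lib.SchDenseS1_helper8

set_option autoImplicit false
universe u

open CategoryTheory CategoryTheory.Limits AlgebraicGeometry TopologicalSpace Opposite

/-! Sections supported at a closed point extend by zero; one-dimensional schemes with reduced
ring of global sections have no embedded points (helper8). APPEND-ONLY once landed. -/

namespace NoEmbH8

variable {X : Scheme.{u}}

/-- extension by zero of a section supported at a closed point. -/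
theorem exists_global_of_isolated (x : X) (hx : IsClosed ({x} : Set X)) (U : X.Opens)
    (hxU : x ∈ U) (s : Γ(X, U))
    (hs : ∀ (z : X) (hz : z ∈ U), z ≠ x → X.presheaf.germ U z hz s = 0) :
    ∃ g : Γ(X, ⊤), X.presheaf.germ ⊤ x trivial g = X.presheaf.germ U x hxU s ∧
      ∀ z : X, z ≠ x → X.presheaf.germ ⊤ z trivial g = 0 := by
  set V : X.Opens := ⟨{x}ᶜ, hx.isOpen_compl⟩ with hV
  have hcompat : X.presheaf.map (homOfLE (inf_le_left : U ⊓ V ≤ U)).op s =
      X.presheaf.map (homOfLE (inf_le_right : U ⊓ V ≤ V)).op 0 := by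
    rw [map_zero]
    refine TopCat.Presheaf.section_ext X.sheaf (U ⊓ V) _ 0 (fun z hz => ?_)
    show X.presheaf.germ (U ⊓ V) z hz _ = X.presheaf.germ (U ⊓ V) z hz 0
    rw [map_zero, TopCat.Presheaf.germ_res_apply]
    exact hs z hz.1 hz.2
  let e := X.sheaf.objSupIsoProdEqLocus U V
  let g₁ : Γ(X, U ⊔ V) := e.inv ⟨(s, 0), hcompat⟩
  have hg₁U : X.presheaf.map (homOfLE (le_sup_left : U ≤ U ⊔ V)).op g₁ = s :=
    TopCat.Sheaf.objSupIsoProdEqLocus_inv_fst X.sheaf U V ⟨(s, 0), hcompat⟩
  have hg₁V : X.presheaf.map (homOfLE (le_sup_right : V ≤ U ⊔ V)).op g₁ = 0 :=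
    TopCat.Sheaf.objSupIsoProdEqLocus_inv_snd X.sheaf U V ⟨(s, 0), hcompat⟩
  have hcov : (⊤ : X.Opens) ≤ U ⊔ V := by
    intro z _
    by_cases hzx : z = x
    · exact Or.inl (hzx ▸ hxU)
    · exact Or.inr hzx
  refine ⟨X.presheaf.map (homOfLE hcov).op g₁, ?_, ?_⟩
  · rw [TopCat.Presheaf.germ_res_apply X.presheaf (homOfLE hcov) x trivial g₁,
      ← TopCat.Presheaf.germ_res_apply X.presheaf (homOfLE (le_sup_left : U ≤ U ⊔ V)) x hxU g₁,
      hg₁U]
  · intro z hzx
    have hzV : z ∈ V := hzx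
    rw [TopCat.Presheaf.germ_res_apply X.presheaf (homOfLE hcov) z trivial g₁,
      ← TopCat.Presheaf.germ_res_apply X.presheaf (homOfLE (le_sup_right : V ≤ U ⊔ V)) z hzV g₁,
      hg₁V, map_zero]

/-- an element of the local ring at a closed point killed by the maximal ideal is the germ of a
section supported at that point. -/
theorem exists_section_supported [IsLocallyNoetherian X] (x : X) (hx : IsClosed ({x} : Set X))
    (c : X.presheaf.stalk x)
    (hc : ∀ r ∈ IsLocalRing.maximalIdeal (X.presheaf.stalk x), r * c = 0) :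
    ∃ (U : X.Opens) (hxU : x ∈ U) (s : Γ(X, U)), X.presheaf.germ U x hxU s = c ∧
      ∀ (z : X) (hz : z ∈ U), z ≠ x → X.presheaf.germ U z hz s = 0 := by
  obtain ⟨U0, hxU0, s0', rfl⟩ := X.presheaf.exists_germ_eq c
  obtain ⟨_, ⟨W, hW : IsAffineOpen W, rfl⟩, hxW', hWU⟩ :=
    (X.isBasis_affineOpens).exists_subset_of_mem_open hxU0 U0.isOpen
  have hxW : x ∈ W := hxW'
  haveI : IsNoetherianRing Γ(X, W) := IsLocallyNoetherian.component_noetherian ⟨W, hW⟩
  set s₀ : Γ(X, W) := X.presheaf.map (homOfLE hWU).op s0' with hs₀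
  have hgs₀ : X.presheaf.germ W x hxW s₀ = X.presheaf.germ U0 x hxU0 s0' :=
    TopCat.Presheaf.germ_res_apply X.presheaf (homOfLE hWU) x hxW s0'
  rw [← hgs₀] at hc ⊢
  set p := (hW.primeIdealOf ⟨x, hxW⟩).asIdeal with hp
  let N : Submodule Γ(X, W) Γ(X, W) := p • Ideal.span {s₀}
  haveI hNfg : Module.Finite Γ(X, W) N := Module.Finite.iff_fg.2 (IsNoetherian.noetherian N)
  letI := TopCat.Presheaf.algebra_section_stalk X.presheaf (⟨x, hxW⟩ : W)
  haveI : IsLocalization.AtPrime (X.presheaf.stalk x) p := hW.isLocalization_stalk ⟨x, hxW⟩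
  have hN : ∀ n : N, ∃ r, r ∉ p ∧ r • n = 0 := by
    rintro ⟨n, hn⟩
    have h0 : X.presheaf.germ W x hxW n = 0 := by
      refine Submodule.smul_induction_on hn ?_ ?_
      · intro f hf m hm
        obtain ⟨b, rfl⟩ := Ideal.mem_span_singleton'.1 hm
        rw [smul_eq_mul, map_mul, map_mul, mul_left_comm,
          hc _ (ZClosPtH8.germ_mem_maximalIdeal hW hxW hf), mul_zero]
      · intro a b ha hb
        rw [map_add, ha, hb, add_zero]
    obtain ⟨⟨r, hr⟩, hrn⟩ := (IsLocalization.map_eq_zero_iff p.primeCompl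
      (X.presheaf.stalk x) n).1 h0
    exact ⟨r, hr, Subtype.ext hrn⟩
  obtain ⟨u, hup, hu⟩ := ZClosPtH8.exists_notMem_forall_smul_eq_zero p N hN
  have huf : ∀ f ∈ p, u * (f * s₀) = 0 := by
    intro f hf
    have h1 := hu ⟨f • s₀, Submodule.smul_mem_smul hf (Ideal.mem_span_singleton_self s₀)⟩
    exact congrArg Subtype.val h1
  have hxU : x ∈ X.basicOpen u := HartConvH8.mem_basicOpen_of_notMem_prime hW hxW hup
  refine ⟨X.basicOpen u, hxU, X.presheaf.map (homOfLE (X.basicOpen_le u)).op s₀, ?_, ?_⟩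
  · exact TopCat.Presheaf.germ_res_apply X.presheaf (homOfLE (X.basicOpen_le u)) x hxU s₀
  · intro z hz hzx
    have hzW : z ∈ W := X.basicOpen_le u hz
    rw [TopCat.Presheaf.germ_res_apply X.presheaf (homOfLE (X.basicOpen_le u)) z hz s₀]
    obtain ⟨f, hfp, hfz⟩ : ∃ f ∈ p, f ∉ (hW.primeIdealOf ⟨z, hzW⟩).asIdeal := by
      by_contra hcon
      push Not at hcon
      have hspec : x ⤳ z := SchDenseS1H8.specializes_of_le hW hxW hzW hcon
      have hzcl : z ∈ closure ({x} : Set X) := specializes_iff_mem_closure.1 hspec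
      rw [hx.closure_eq] at hzcl
      exact hzx hzcl
    have h1 := congrArg (X.presheaf.germ W z hzW) (huf f hfp)
    rw [map_mul, map_mul, map_zero] at h1
    have hu1 : IsUnit (X.presheaf.germ W z hzW u) := (X.mem_basicOpen u z hzW).1 hz
    have hu2 : IsUnit (X.presheaf.germ W z hzW f) :=
      (X.mem_basicOpen f z hzW).1 (HartConvH8.mem_basicOpen_of_notMem_prime hW hzW hfz)
    exact (hu2.mul_right_eq_zero).1 ((hu1.mul_right_eq_zero).1 h1)

/-- S7835. -/
theorem noEmbedded_of_dim_one (C : Scheme.{u}) [IsNoetherian C]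
    (hdim : topologicalKrullDim C = 1) (hred : IsReduced Γ(C, ⊤)) :
    AssSch.NoEmbedded (Coh.structureModule C) := by
  intro x hx y hy hyx
  by_contra hne
  have hx' : IsAssociatedPrime (IsLocalRing.maximalIdeal (C.presheaf.stalk x))
      (C.presheaf.stalk x) := (AssPtH8.isAssPoint_structureModule_iff x).1 hx
  have hxcl : IsClosed ({x} : Set C) := by
    rw [← closure_eq_iff_isClosed]
    ext z
    constructor
    · intro hz
      have hxz : x ⤳ z := specializes_iff_mem_closure.2 hz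
      by_contra hzx
      have h2 := PureCurveH8.two_le_dim_of_chain hyx hxz (Ne.symm hne) (fun e => hzx e.symm)
      rw [hdim] at h2
      exact absurd h2 (by decide)
    · rintro rfl
      exact subset_closure rfl
  obtain ⟨_, c, hc⟩ := isAssociatedPrime_iff.1 hx'
  have hmem : ∀ r, r ∈ IsLocalRing.maximalIdeal (C.presheaf.stalk x) ↔ r * c = 0 := by
    intro r
    rw [hc, Submodule.mem_colon_singleton, Submodule.mem_bot, smul_eq_mul]
  have hc0 : c ≠ 0 := by
    intro hc0
    have h1m : (1 : C.presheaf.stalk x) ∈ IsLocalRing.maximalIdeal (C.presheaf.stalk x) := by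
      rw [hmem, hc0, mul_zero]
    exact (Ideal.ne_top_iff_one _).1 (IsLocalRing.maximalIdeal.isMaximal _).ne_top h1m
  have hcm : c ∈ IsLocalRing.maximalIdeal (C.presheaf.stalk x) := by
    by_contra hcu
    have hu : IsUnit c := by
      by_contra hnu
      exact hcu ((IsLocalRing.mem_maximalIdeal c).2 hnu)
    have hbot : IsLocalRing.maximalIdeal (C.presheaf.stalk x) = ⊥ := by
      rw [eq_bot_iff]
      intro r hr
      have h1 := (hmem r).1 hr
      exact (Submodule.mem_bot _).2 ((hu.mul_left_eq_zero).1 h1)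
    have heq : Groth.Agent.StalkGen.genPrime hyx =
        IsLocalRing.maximalIdeal (C.presheaf.stalk x) :=
      le_antisymm (IsLocalRing.le_maximalIdeal
        (Groth.Agent.StalkGen.genPrime_isPrime hyx).ne_top) (hbot ▸ bot_le)
    exact hne (Groth.Agent.StalkGen.eq_of_genPrime_eq_maximalIdeal hyx heq).symm
  obtain ⟨U, hxU, s, hsc, hsz⟩ := exists_section_supported x hxcl c (fun r hr => (hmem r).1 hr)
  obtain ⟨g, hgx, hgz⟩ := exists_global_of_isolated x hxcl U hxU s hsz
  have hgg : g * g = 0 := by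
    refine TopCat.Presheaf.section_ext C.sheaf ⊤ _ 0 (fun z hz => ?_)
    show C.presheaf.germ ⊤ z hz (g * g) = C.presheaf.germ ⊤ z hz 0
    rw [map_zero, map_mul]
    by_cases hzx : z = x
    · subst hzx
      rw [hgx, hsc]
      exact (hmem c).1 hcm
    · rw [hgz z hzx, mul_zero]
  have hg0 : g = 0 := by
    haveI := hred
    exact IsReduced.eq_zero g ⟨2, by rw [sq]; exact hgg⟩
  apply hc0
  rw [← hsc, ← hgx, hg0, map_zero]

end NoEmbH8
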