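import Mathlib
import Groth.Prelude
import Groth.Agent.Lib.NoEmb1_helper8
import Groth.Agent.Lib.RefHull3_helper8

set_option autoImplicit false
universe u

open CategoryTheory CategoryTheory.Limits AlgebraicGeometry TopologicalSpace Opposite

/-! The dual of a finite type module on a reduced scheme has no associated closed point that is
not isolated (helper8). APPEND-ONLY once landed. -/

namespace DualTFH8

variable {X : Scheme.{u}}

/-- associated points of a dual are associated points of the structure sheaf. -/
theorem isAssociatedPrime_of_dual [IsLocallyNoetherian X] (F : X.Modules) (hF : CohB1.IsFT F)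
    (x : X) (h : Curv2.IsAssPoint (RefHull.dual F) x) :
    IsAssociatedPrime (IsLocalRing.maximalIdeal (X.presheaf.stalk x)) (X.presheaf.stalk x) := by
  have h1 : IsAssociatedPrime (IsLocalRing.maximalIdeal (X.presheaf.stalk x))
      (RefHull.StalkHom F (Coh.structureModule X) x) :=
    IsAssociatedPrime.map_of_injective (f := RefHull.evalStalk F (Coh.structureModule X) x) h
      (RefHullH8.evalStalk_injective F (Coh.structureModule X) hF x)
  obtain ⟨hp, φ, hφ⟩ := isAssociatedPrime_iff.1 h1
  have hmem : ∀ r, r ∈ IsLocalRing.maximalIdeal (X.presheaf.stalk x) ↔ r • φ = 0 := by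
    intro r
    rw [hφ, Submodule.mem_colon_singleton, Submodule.mem_bot]
  have hφ0 : φ ≠ 0 := by
    intro h0
    have h1m : (1 : X.presheaf.stalk x) ∈ IsLocalRing.maximalIdeal (X.presheaf.stalk x) := by
      rw [hmem, h0, smul_zero]
    exact (Ideal.ne_top_iff_one _).1 (IsLocalRing.maximalIdeal.isMaximal _).ne_top h1m
  obtain ⟨n, hn⟩ : ∃ n, φ n ≠ 0 := by
    by_contra hcon
    push Not at hcon
    exact hφ0 (LinearMap.ext hcon)
  rw [← AssPtH8.isAssPoint_structureModule_iff]
  refine isAssociatedPrime_iff.2 ⟨hp, φ n, ?_⟩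
  ext r
  rw [Submodule.mem_colon_singleton, Submodule.mem_bot]
  constructor
  · intro hr
    have h2 := (hmem r).1 hr
    have h3 := congrArg (fun ψ => ψ n) h2
    exact h3
  · intro hr
    by_contra hrm
    have hu : IsUnit r := by
      by_contra hnu
      exact hrm ((IsLocalRing.mem_maximalIdeal r).2 hnu)
    apply hn
    have h4 := congrArg (fun w => (↑hu.unit⁻¹ : X.presheaf.stalk x) • w) hr
    simpa [smul_smul] using h4

/-- on a reduced locally Noetherian scheme, a point whose maximal ideal is associated has no proper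
generization. -/
theorem eq_of_specializes_of_isAssociatedPrime [IsReduced X] [IsLocallyNoetherian X] (x : X)
    (h : IsAssociatedPrime (IsLocalRing.maximalIdeal (X.presheaf.stalk x)) (X.presheaf.stalk x))
    (y : X) (hyx : y ⤳ x) : y = x := by
  obtain ⟨_, c, hc⟩ := isAssociatedPrime_iff.1 h
  have hmem : ∀ r, r ∈ IsLocalRing.maximalIdeal (X.presheaf.stalk x) ↔ r * c = 0 := by
    intro r
    rw [hc, Submodule.mem_colon_singleton, Submodule.mem_bot, smul_eq_mul]
  have hc0 : c ≠ 0 := by
    intro hc0
    have h1m : (1 : X.presheaf.stalk x) ∈ IsLocalRing.maximalIdeal (X.presheaf.stalk x) := by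
      rw [hmem, hc0, mul_zero]
    exact (Ideal.ne_top_iff_one _).1 (IsLocalRing.maximalIdeal.isMaximal _).ne_top h1m
  have hcu : IsUnit c := by
    by_contra hnu
    have hcm : c ∈ IsLocalRing.maximalIdeal (X.presheaf.stalk x) :=
      (IsLocalRing.mem_maximalIdeal c).2 hnu
    have hcc : c * c = 0 := (hmem c).1 hcm
    exact hc0 (IsReduced.eq_zero c ⟨2, by rw [sq]; exact hcc⟩)
  have hbot : IsLocalRing.maximalIdeal (X.presheaf.stalk x) = ⊥ := by
    rw [eq_bot_iff]
    intro r hr
    have h1 := (hmem r).1 hr
    exact (Submodule.mem_bot _).2 ((hcu.mul_left_eq_zero).1 h1)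
  have heq : Groth.Agent.StalkGen.genPrime hyx =
      IsLocalRing.maximalIdeal (X.presheaf.stalk x) :=
    le_antisymm (IsLocalRing.le_maximalIdeal
      (Groth.Agent.StalkGen.genPrime_isPrime hyx).ne_top) (hbot ▸ bot_le)
  exact Groth.Agent.StalkGen.eq_of_genPrime_eq_maximalIdeal hyx heq

/-- a closed point without proper generizations on a locally Noetherian scheme is open. -/
theorem isOpen_singleton_of_isMax [IsLocallyNoetherian X] (x : X) (hx : IsClosed ({x} : Set X))
    (hmax : ∀ y : X, y ⤳ x → y = x) : IsOpen ({x} : Set X) := by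
  by_contra hno
  have hd : Dense (((⟨{x}ᶜ, hx.isOpen_compl⟩ : X.Opens) : Set X)) := by
    rw [dense_iff_inter_open]
    intro O hO hne
    by_contra hemp
    rw [Set.not_nonempty_iff_eq_empty] at hemp
    apply hno
    have hsub : O ⊆ {x} := by
      intro z hz
      by_contra hzx
      have : z ∈ O ∩ ({x}ᶜ : Set X) := ⟨hz, hzx⟩
      have h2 : z ∈ (∅ : Set X) := hemp ▸ this
      exact h2
    obtain ⟨z, hz⟩ := hne
    have hzx : z = x := hsub hz
    have hO' : O = {x} := Set.Subset.antisymm hsub (by
      intro w hw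
      rw [Set.mem_singleton_iff] at hw
      rw [hw, ← hzx]
      exact hz)
    rw [← hO']
    exact hO
  have := SchDenseS1H8.mem_of_dense_of_isMax _ hd x hmax
  exact this rfl

end DualTFH8
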