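import Mathlib
import Groth.Agent.Lib.DvrCompl1_helper8

set_option autoImplicit false
universe u
open IsLocalRing

namespace Groth.Agent.Lib.DvrComplH8

theorem main17023
    (B : Type u) [CommRing B] [IsDomain B] [IsDiscreteValuationRing B]
    (A : Type u) [CommRing A] [Algebra B A] [Algebra.FiniteType B A]
    (p : Ideal A) [p.IsPrime] (hp : p.comap (algebraMap B A) = IsLocalRing.maximalIdeal B)
    [Algebra.IsSmoothAt B p]
    (hres : Function.Surjective ((algebraMap A p.ResidueField).comp (algebraMap B A))) :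
    ∃ (B' : Type u) (_ : CommRing B') (_ : IsDomain B') (_ : IsDiscreteValuationRing B')
      (ψ : A →+* B'),
      Ideal.comap ψ (IsLocalRing.maximalIdeal B') = p ∧
      Function.Injective (ψ.comp (algebraMap B A)) ∧
      Ideal.map (ψ.comp (algebraMap B A)) (IsLocalRing.maximalIdeal B) =
        IsLocalRing.maximalIdeal B' ∧
      Function.Surjective ((IsLocalRing.residue B').comp (ψ.comp (algebraMap B A))) := by
  classical
  let m := maximalIdeal B
  let Ap := Localization.AtPrime p
  let κ := p.ResidueField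
  haveI : Algebra.FormallySmooth B Ap := ‹Algebra.IsSmoothAt B p›
  have hresB : Function.Surjective (algebraMap B κ) := by
    rw [IsScalarTower.algebraMap_eq B A κ]
    exact hres
  have hkerB : ∀ b : B, algebraMap B κ b = 0 ↔ b ∈ m := by
    intro b
    rw [IsScalarTower.algebraMap_apply B A κ, Ideal.algebraMap_residueField_eq_zero]
    change b ∈ p.comap (algebraMap B A) ↔ _
    rw [hp]
  let e₀ : B ⧸ m →ₐ[B] κ := Ideal.Quotient.liftₐ m (Algebra.ofId B κ)
    (fun b hb => (hkerB b).mpr hb)
  have he₀ : Function.Bijective e₀ := by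
    constructor
    · rw [injective_iff_map_eq_zero]
      intro x hx
      obtain ⟨b, rfl⟩ := Ideal.Quotient.mk_surjective x
      rw [Ideal.Quotient.eq_zero_iff_mem]
      exact (hkerB b).mp hx
    · intro y
      obtain ⟨b, rfl⟩ := hresB y
      exact ⟨Ideal.Quotient.mk m b, rfl⟩
  let e : (B ⧸ m) ≃ₐ[B] κ := AlgEquiv.ofBijective e₀ he₀
  let f₀ : Ap →ₐ[B] B ⧸ m := e.symm.toAlgHom.comp (IsScalarTower.toAlgHom B Ap κ)
  obtain ⟨g, hg⟩ := Algebra.FormallySmooth.exists_adicCompletionEvalOneₐ_comp_eq (I := m) f₀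
  let B' := AdicCompletion m B
  let ψ : A →+* B' := g.toRingHom.comp (algebraMap A Ap)
  have hψB : ψ.comp (algebraMap B A) = algebraMap B B' := by
    refine RingHom.ext (fun b => ?_)
    change g (algebraMap A Ap (algebraMap B A b)) = _
    rw [← IsScalarTower.algebraMap_apply B A Ap, g.commutes]
  have hinj : Function.Injective (algebraMap B B') := AdicCompletion.of_injective m B
  have hmax : maximalIdeal B' = m.map (algebraMap B B') := AdicCompletion.maximalIdeal_eq_map
  obtain ⟨ϖ, hϖ⟩ := IsDiscreteValuationRing.exists_irreducible B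
  have hmϖ : m = Ideal.span {ϖ} := hϖ.maximalIdeal_eq
  have hmax' : maximalIdeal B' = Ideal.span {algebraMap B B' ϖ} := by
    have h1 := congrArg (Ideal.map (algebraMap B B')) hmϖ
    rw [Ideal.map_span, Set.image_singleton] at h1
    rw [hmax, h1]
  haveI : IsHausdorff (maximalIdeal B') B' :=
    (inferInstance : IsAdicComplete (maximalIdeal B') B').toIsHausdorff
  have hnil : ∀ n : ℕ, (algebraMap B B' ϖ) ^ n ≠ 0 := by
    intro n h0
    rw [← map_pow, ← map_zero (algebraMap B B')] at h0
    exact pow_ne_zero n hϖ.ne_zero (hinj h0)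
  obtain ⟨hdom, hdvr⟩ := isDVR_of_principal_hausdorff B' (algebraMap B B' ϖ) hmax' hnil
  refine ⟨B', inferInstance, hdom, hdvr, ψ, ?_, ?_, ?_, ?_⟩
  · ext x
    rw [Ideal.mem_comap, hmax, ← AdicCompletion.ker_evalOneₐ_eq_map m
      (IsNoetherian.noetherian m), RingHom.mem_ker]
    have h1 : (AdicCompletion.evalOneₐ m).toRingHom (ψ x) = f₀ (algebraMap A Ap x) := by
      have := congrArg (fun h : Ap →ₐ[B] B ⧸ m => h (algebraMap A Ap x)) hg
      exact this
    rw [h1]
    change e.symm (algebraMap Ap κ (algebraMap A Ap x)) = 0 ↔ _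
    rw [map_eq_zero_iff _ e.symm.injective, ← IsScalarTower.algebraMap_apply A Ap κ,
      Ideal.algebraMap_residueField_eq_zero]
  · rw [hψB]
    exact hinj
  · rw [hψB]
    exact hmax.symm
  · rw [hψB]
    intro y
    obtain ⟨x, rfl⟩ := (AdicCompletion.residueField_map_bijective B).2 y
    obtain ⟨b, rfl⟩ := residue_surjective x
    exact ⟨b, (IsLocalRing.ResidueField.map_residue _ b).symm⟩

end Groth.Agent.Lib.DvrComplH8
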