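import Mathlib

namespace Groth.Agent.Lib.DvrDual

open TensorProduct DirectSum

universe u v

theorem cyclic_dual {R : Type*} [CommRing R] [IsDomain R] (a b' c : R) (hab : a * b' = c)
    (hc : c ≠ 0) :
    Nonempty (((R ⧸ Submodule.span R {a}) →ₗ[R] (R ⧸ Ideal.span {c})) ≃ₗ[R]
      (R ⧸ Submodule.span R {a})) := by
  have ha : a ≠ 0 := by rintro rfl; exact hc (by rw [← hab, zero_mul])
  have hb : b' ≠ 0 := by rintro rfl; exact hc (by rw [← hab, mul_zero])
  have hle : Submodule.span R {a} ≤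
      Submodule.comap (LinearMap.mulLeft R b') (Ideal.span {c} : Submodule R R) := by
    rw [Submodule.span_le]
    intro x hx
    rw [Set.mem_singleton_iff.mp hx]
    show b' * a ∈ Ideal.span {c}
    rw [mul_comm, hab]
    exact Ideal.subset_span rfl
  let μ : (R ⧸ Submodule.span R {a}) →ₗ[R] (R ⧸ Ideal.span {c}) :=
    Submodule.mapQ _ _ (LinearMap.mulLeft R b') hle
  have hμ_apply : ∀ r : R, μ (Submodule.Quotient.mk r) =
      Ideal.Quotient.mk (Ideal.span {c}) (b' * r) := fun r => rfl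
  have hμinj : Function.Injective μ := by
    rw [injective_iff_map_eq_zero]
    intro x hx
    obtain ⟨r, rfl⟩ := Submodule.Quotient.mk_surjective _ x
    rw [hμ_apply, Ideal.Quotient.eq_zero_iff_mem, Ideal.mem_span_singleton'] at hx
    obtain ⟨s, hs⟩ := hx
    rw [Submodule.Quotient.mk_eq_zero, Submodule.mem_span_singleton]
    refine ⟨s, ?_⟩
    apply mul_left_cancel₀ hb
    rw [smul_eq_mul, ← hs, ← hab]; ring
  let one : R ⧸ Submodule.span R {a} := Submodule.Quotient.mk 1
  let Ψ : ((R ⧸ Submodule.span R {a}) →ₗ[R] (R ⧸ Ideal.span {c})) →ₗ[R]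
      (R ⧸ Ideal.span {c}) := LinearMap.applyₗ one
  have hΨ_apply : ∀ φ, Ψ φ = φ one := fun φ => rfl
  have hgen : ∀ r : R, (Submodule.Quotient.mk r : R ⧸ Submodule.span R {a}) = r • one :=
    fun r => by
      show _ = r • Submodule.Quotient.mk 1
      rw [← Submodule.Quotient.mk_smul, smul_eq_mul, mul_one]
  have hΨinj : Function.Injective Ψ := by
    rw [injective_iff_map_eq_zero]
    intro φ hφ
    apply LinearMap.ext
    intro x
    obtain ⟨r, rfl⟩ := Submodule.Quotient.mk_surjective _ x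
    rw [hgen, map_smul, ← hΨ_apply, hφ, smul_zero, LinearMap.zero_apply]
  have hrange : LinearMap.range Ψ = LinearMap.range μ := by
    apply le_antisymm
    · rintro y ⟨φ, rfl⟩
      obtain ⟨y₀, hy₀⟩ := Submodule.Quotient.mk_surjective _ (φ one)
      have h1 : a • φ one = 0 := by
        rw [← map_smul, ← hgen,
          (Submodule.Quotient.mk_eq_zero _).mpr (Submodule.mem_span_singleton_self a), map_zero]
      rw [← hy₀, ← Submodule.Quotient.mk_smul, Submodule.Quotient.mk_eq_zero] at h1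
      obtain ⟨s, hs⟩ := Ideal.mem_span_singleton'.mp h1
      have hs' : s * c = a * y₀ := by rw [hs, smul_eq_mul]
      have hy : y₀ = b' * s := by
        apply mul_left_cancel₀ ha
        rw [← hs', ← hab]; ring
      refine ⟨Submodule.Quotient.mk s, ?_⟩
      rw [hΨ_apply, ← hy₀, hμ_apply, hy]
      rfl
    · rintro y ⟨x, rfl⟩
      obtain ⟨s, rfl⟩ := Submodule.Quotient.mk_surjective _ x
      refine ⟨μ.comp (s • LinearMap.id), ?_⟩
      rw [hΨ_apply, LinearMap.comp_apply, LinearMap.smul_apply, LinearMap.id_apply, ← hgen]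
  exact ⟨(LinearEquiv.ofInjective Ψ hΨinj).trans
    ((LinearEquiv.ofEq _ _ hrange).trans (LinearEquiv.ofInjective μ hμinj).symm)⟩

noncomputable def sumDual {R : Type*} [CommRing R] {ι : Type*} [Fintype ι] [DecidableEq ι]
    (M : ι → Type*) [∀ i, AddCommGroup (M i)] [∀ i, Module R (M i)]
    (E : Type*) [AddCommGroup E] [Module R E] (e : ∀ i, (M i →ₗ[R] E) ≃ₗ[R] M i) :
    ((⨁ i, M i) →ₗ[R] E) ≃ₗ[R] ⨁ i, M i :=
  (LinearEquiv.arrowCongr (DirectSum.linearEquivFunOnFintype R ι M) (LinearEquiv.refl R E)).trans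
    ((LinearMap.lsum R M R).symm.trans
      ((LinearEquiv.piCongrRight e).trans (DirectSum.linearEquivFunOnFintype R ι M).symm))

theorem main (R : Type u) [CommRing R] [IsDomain R] [IsDiscreteValuationRing R] (ϖ : R)
    (hϖ : Irreducible ϖ) (n : ℕ)
    (M : Type v) [AddCommGroup M] [Module R M] [Module.Finite R M]
    (hM : ∀ m : M, ϖ ^ n • m = 0) :
    Module.finrank (IsLocalRing.ResidueField R)
        (IsLocalRing.ResidueField R ⊗[R] (M →ₗ[R] (R ⧸ Ideal.span {ϖ ^ n}))) =
      Module.finrank (IsLocalRing.ResidueField R) (IsLocalRing.ResidueField R ⊗[R] M) := by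
  classical
  have hc : ϖ ^ n ≠ 0 := pow_ne_zero _ hϖ.ne_zero
  have htors : Module.IsTorsion R M :=
    fun x => ⟨⟨ϖ ^ n, mem_nonZeroDivisors_of_ne_zero hc⟩, hM x⟩
  obtain ⟨ι, _, p, hp, e, ⟨f⟩⟩ := Module.equiv_directSum_of_isTorsion htors
  have hdvd : ∀ i, p i ^ e i ∣ ϖ ^ n := by
    intro i
    have h1 := hM (f.symm (DirectSum.lof R ι (fun i => R ⧸ Submodule.span R {p i ^ e i}) i
      (Submodule.Quotient.mk 1)))
    rw [← map_smul, ← map_smul, LinearEquiv.map_eq_zero_iff] at h1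
    have h2 := congrArg
      (DirectSum.component R ι (fun i => R ⧸ Submodule.span R {p i ^ e i}) i) h1
    rw [DirectSum.component.lof_self, map_zero, ← Submodule.Quotient.mk_smul,
      Submodule.Quotient.mk_eq_zero, smul_eq_mul, mul_one, Submodule.mem_span_singleton] at h2
    obtain ⟨t, ht⟩ := h2
    exact ⟨t, by rw [← ht, smul_eq_mul, mul_comm]⟩
  choose b' hb' using hdvd
  have hcyc : ∀ i, Nonempty (((R ⧸ Submodule.span R {p i ^ e i}) →ₗ[R]
      (R ⧸ Ideal.span {ϖ ^ n})) ≃ₗ[R] (R ⧸ Submodule.span R {p i ^ e i})) :=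
    fun i => cyclic_dual (p i ^ e i) (b' i) (ϖ ^ n) (hb' i).symm hc
  let g := fun i => (hcyc i).some
  let G : (M →ₗ[R] (R ⧸ Ideal.span {ϖ ^ n})) ≃ₗ[R] M :=
    (LinearEquiv.arrowCongr f (LinearEquiv.refl R _)).trans
      ((sumDual (fun i => R ⧸ Submodule.span R {p i ^ e i}) _ g).trans f.symm)
  exact LinearEquiv.finrank_eq
    (TensorProduct.AlgebraTensorModule.congr (LinearEquiv.refl _ _) G)

end Groth.Agent.Lib.DvrDual
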