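import Mathlib
import Groth.Prelude.Def_EtRam

set_option autoImplicit false
universe u

namespace DvrExtH8

open IsLocalRing

section two

variable {A V : Type u} [CommRing A] [IsDomain A] [IsDiscreteValuationRing A]
  [CommRing V] [IsDomain V] [IsDiscreteValuationRing V]
  [Algebra A V] [IsLocalHom (algebraMap A V)]

theorem map_maximalIdeal_ne_bot (hAV : Function.Injective (algebraMap A V)) :
    (maximalIdeal A).map (algebraMap A V) ≠ ⊥ := by
  rw [Ne, Ideal.map_eq_bot_iff_of_injective hAV]
  exact IsDiscreteValuationRing.not_a_field A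

/-- In an extension of DVRs, `m_A V = m_V ^ e`. -/
theorem map_maximalIdeal_eq_pow (hAV : Function.Injective (algebraMap A V)) :
    (maximalIdeal A).map (algebraMap A V) =
      maximalIdeal V ^ Ideal.ramificationIdx' (maximalIdeal A) (maximalIdeal V) := by
  obtain ⟨ϖ, hϖ⟩ := IsDiscreteValuationRing.exists_irreducible V
  obtain ⟨n, hn⟩ := IsDiscreteValuationRing.ideal_eq_span_pow_irreducible
    (map_maximalIdeal_ne_bot hAV) hϖ
  have hm : maximalIdeal V = Ideal.span {ϖ} := hϖ.maximalIdeal_eq
  have hn' : (maximalIdeal A).map (algebraMap A V) = maximalIdeal V ^ n := by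
    rw [hn, hm, Ideal.span_singleton_pow]
  have he : Ideal.ramificationIdx' (maximalIdeal A) (maximalIdeal V) = n := by
    apply Ideal.ramificationIdx'_spec
    · rw [hn']
    · rw [hn']
      intro hle
      have hlt : maximalIdeal V ^ (n + 1) < maximalIdeal V ^ n :=
        Ideal.pow_succ_lt_pow (IsDiscreteValuationRing.not_a_field V) n
      exact absurd hle (not_le_of_gt hlt)
  rw [he, hn']

theorem ramificationIdx'_ne_zero (hAV : Function.Injective (algebraMap A V)) :
    Ideal.ramificationIdx' (maximalIdeal A) (maximalIdeal V) ≠ 0 := by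
  intro h0
  have h1 := map_maximalIdeal_eq_pow hAV
  rw [h0, pow_zero, Ideal.one_eq_top] at h1
  have h2 : (maximalIdeal A).map (algebraMap A V) ≤ maximalIdeal V :=
    ((local_hom_TFAE (algebraMap A V)).out 0 2).mp ‹_›
  rw [h1] at h2
  exact (maximalIdeal.isMaximal V).ne_top (top_le_iff.mp h2)

theorem isWeaklyUnramified_iff (hAV : Function.Injective (algebraMap A V)) :
    EtRam.IsWeaklyUnramified A V ↔
      Ideal.ramificationIdx' (maximalIdeal A) (maximalIdeal V) = 1 := by
  unfold EtRam.IsWeaklyUnramified
  constructor
  · intro h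
    apply Ideal.ramificationIdx'_spec
    · rw [h, pow_one]
    · rw [h]
      intro hle
      have hlt : maximalIdeal V ^ (1 + 1) < maximalIdeal V ^ 1 :=
        Ideal.pow_succ_lt_pow (IsDiscreteValuationRing.not_a_field V) 1
      rw [pow_one] at hlt
      exact absurd hle (not_le_of_gt hlt)
  · intro h
    rw [map_maximalIdeal_eq_pow hAV, h, pow_one]

end two

section tower

variable {A V W : Type u} [CommRing A] [IsDomain A] [IsDiscreteValuationRing A]
  [CommRing V] [IsDomain V] [IsDiscreteValuationRing V]
  [CommRing W] [IsDomain W] [IsDiscreteValuationRing W]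
  [Algebra A V] [Algebra V W] [Algebra A W] [IsScalarTower A V W]
  [IsLocalHom (algebraMap A V)] [IsLocalHom (algebraMap V W)] [IsLocalHom (algebraMap A W)]

theorem ramificationIdx'_tower (hAV : Function.Injective (algebraMap A V))
    (hVW : Function.Injective (algebraMap V W)) :
    Ideal.ramificationIdx' (maximalIdeal A) (maximalIdeal W) =
      Ideal.ramificationIdx' (maximalIdeal A) (maximalIdeal V) *
        Ideal.ramificationIdx' (maximalIdeal V) (maximalIdeal W) := by
  haveI : Module.IsTorsionFree A V := Module.isTorsionFree_iff_algebraMap_injective.mpr hAV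
  haveI : Module.IsTorsionFree V W := Module.isTorsionFree_iff_algebraMap_injective.mpr hVW
  exact Ideal.ramificationIdx'_algebra_tower' (maximalIdeal A) (maximalIdeal V) (maximalIdeal W)

end tower

end DvrExtH8
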