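import Mathlib

/-!
# Schemes over a discrete valuation ring with reduced special fibre (helper4)

* idempotents of `B[1/ϖ]` lift to `B` when `ϖ` is a non-zero-divisor and `B/ϖ` is reduced;
* the generic fibre of a connected flat scheme over a DVR with reduced special fibre is connected;
* variants with "open map" instead of flat, and flatness from density of the generic fibre.
-/

set_option autoImplicit false
universe u
set_option linter.style.haveILetI false

open CategoryTheory CategoryTheory.Limits AlgebraicGeometry TopologicalSpace TensorProduct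

namespace Groth.Agent.Lib.DvrFibreH4

section Ring

/-- Idempotents of `B[1/ϖ]` come from `B` if `ϖ` is a non-zero-divisor and `B/ϖ` is reduced. -/
theorem exists_idempotent_of_away {B : Type*} [CommRing B] (ϖ : B) (hnzd : ϖ ∈ nonZeroDivisors B)
    (hred : ∀ (t : B) (n : ℕ), t ^ n ∈ Ideal.span {ϖ} → t ∈ Ideal.span {ϖ})
    (e : Localization.Away ϖ) (he : IsIdempotentElem e) :
    ∃ b : B, IsIdempotentElem b ∧ algebraMap B (Localization.Away ϖ) b = e := by
  have hinj : Function.Injective (algebraMap B (Localization.Away ϖ)) :=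
    IsLocalization.injective (Localization.Away ϖ) (M := Submonoid.powers ϖ)
      (Submonoid.powers_le.mpr hnzd)
  have hunit : IsUnit (algebraMap B (Localization.Away ϖ) ϖ) :=
    IsLocalization.Away.algebraMap_isUnit ϖ
  classical
  have hex : ∃ n : ℕ, ∃ a : B,
      e * algebraMap B (Localization.Away ϖ) ϖ ^ n = algebraMap B (Localization.Away ϖ) a :=
    IsLocalization.Away.surj ϖ e
  obtain ⟨a, ha⟩ := Nat.find_spec hex
  have hmin := fun m (hm : m < Nat.find hex) => Nat.find_min hex hm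
  rcases Nat.eq_zero_or_pos (Nat.find hex) with h0 | hpos
  · rw [h0, pow_zero, mul_one] at ha
    refine ⟨a, hinj ?_, ha.symm⟩
    rw [map_mul, ← ha]
    exact he
  · exfalso
    obtain ⟨m, hm⟩ : ∃ m, Nat.find hex = m + 1 := ⟨Nat.find hex - 1, by omega⟩
    rw [hm] at ha
    have h1 : a ^ 2 = a * ϖ ^ (m + 1) := by
      apply hinj
      rw [map_pow, map_mul, map_pow, ← ha]
      calc (e * algebraMap B (Localization.Away ϖ) ϖ ^ (m + 1)) ^ 2
          = (e * e) * algebraMap B (Localization.Away ϖ) ϖ ^ (m + 1) *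
              algebraMap B (Localization.Away ϖ) ϖ ^ (m + 1) := by ring
        _ = e * algebraMap B (Localization.Away ϖ) ϖ ^ (m + 1) *
              algebraMap B (Localization.Away ϖ) ϖ ^ (m + 1) := by rw [he.eq]
    have h2 : a ∈ Ideal.span {ϖ} := hred a 2 (by
      rw [h1, Ideal.mem_span_singleton']
      exact ⟨a * ϖ ^ m, by ring⟩)
    obtain ⟨c, hc⟩ := Ideal.mem_span_singleton'.mp h2
    apply hmin m (by omega)
    refine ⟨c, ?_⟩
    have h3 : (e * algebraMap B (Localization.Away ϖ) ϖ ^ m) *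
        algebraMap B (Localization.Away ϖ) ϖ =
        algebraMap B (Localization.Away ϖ) c * algebraMap B (Localization.Away ϖ) ϖ := by
      rw [← map_mul, hc, ← ha]; ring
    exact hunit.mul_left_injective h3

/-- If `B` is Noetherian, `B/ϖ` is reduced and every `ϖ`-power torsion element is nilpotent, then
`ϖ` is a non-zero-divisor. -/
theorem mem_nonZeroDivisors_of_nilpotent_torsion {B : Type*} [CommRing B] [IsNoetherianRing B]
    (ϖ : B) (hred : ∀ (t : B) (n : ℕ), t ^ n ∈ Ideal.span {ϖ} → t ∈ Ideal.span {ϖ})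
    (hnil : ∀ (t : B) (k : ℕ), ϖ ^ k * t = 0 → IsNilpotent t) : ϖ ∈ nonZeroDivisors B := by
  let T : Ideal B := Submodule.torsion' B B (Submonoid.powers ϖ)
  have hT : ∀ t, t ∈ T ↔ ∃ k : ℕ, ϖ ^ k * t = 0 := by
    intro t
    rw [Submodule.mem_torsion'_iff]
    constructor
    · rintro ⟨⟨_, k, rfl⟩, h⟩
      exact ⟨k, by simpa [Submonoid.smul_def] using h⟩
    · rintro ⟨k, h⟩
      exact ⟨⟨ϖ ^ k, k, rfl⟩, by simpa [Submonoid.smul_def] using h⟩
  have hle : T ≤ Ideal.span {ϖ} • T := by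
    intro t ht
    obtain ⟨k, hk⟩ := (hT t).mp ht
    obtain ⟨n, hn⟩ := hnil t k hk
    have h1 : t ∈ Ideal.span {ϖ} := hred t n (by rw [hn]; exact Submodule.zero_mem _)
    obtain ⟨c, rfl⟩ := Ideal.mem_span_singleton'.mp h1
    have hc : c ∈ T := (hT c).mpr ⟨k + 1, by
      rw [pow_succ, mul_assoc, mul_comm ϖ c]; exact hk⟩
    rw [mul_comm, ← smul_eq_mul]
    exact Submodule.smul_mem_smul (Ideal.mem_span_singleton_self ϖ) hc
  obtain ⟨r, hr1, hr2⟩ := Submodule.exists_sub_one_mem_and_smul_eq_zero_of_fg_of_le_smul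
    (Ideal.span {ϖ}) T (IsNoetherian.noetherian T) hle
  rw [mem_nonZeroDivisors_iff_right]
  intro t ht
  have htT : t ∈ T := (hT t).mpr ⟨1, by rw [pow_one, mul_comm]; exact ht⟩
  obtain ⟨c, hc⟩ := Ideal.mem_span_singleton'.mp hr1
  have h3 : r * t = 0 := by simpa using hr2 t htT
  have h4 : t = r * t - (r - 1) * t := by ring
  rw [h4, h3, ← hc, mul_assoc, mul_comm ϖ t, ht, mul_zero, sub_zero]

end Ring

section General

variable {R : Type u} [CommRing R] {X : Scheme.{u}} (f : X ⟶ Spec (CommRingCat.of R))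

/-- The ring map `R → Γ(X, V)` induced by `f : X ⟶ Spec R`. -/
noncomputable def phi (V : X.Opens) : R →+* Γ(X, V) :=
  ((Scheme.ΓSpecIso (CommRingCat.of R)).inv ≫ f.appLE ⊤ V le_top).hom

lemma fromSpec_comp {V : X.Opens} (hV : IsAffineOpen V) :
    hV.fromSpec ≫ f = Spec.map (CommRingCat.ofHom (phi f V)) := by
  rw [← IsAffineOpen.SpecMap_appLE_fromSpec f (isAffineOpen_top _) hV le_top,
    IsAffineOpen.fromSpec_top, Scheme.isoSpec_Spec_inv, ← Spec.map_comp]
  rfl

lemma base_fromSpec {V : X.Opens} (hV : IsAffineOpen V) (q : ↥(Spec Γ(X, V))) :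
    f (hV.fromSpec q) = PrimeSpectrum.comap (phi f V) q := by
  rw [← Scheme.Hom.comp_apply, fromSpec_comp]
  rfl

lemma fromSpec_mem {V : X.Opens} (hV : IsAffineOpen V) (q : ↥(Spec Γ(X, V))) :
    hV.fromSpec q ∈ (V : Set X) := by
  rw [← hV.range_fromSpec]; exact Set.mem_range_self q

/-- If the fibre over a closed point `a` is reduced, then `Γ(X, V)/a Γ(X, V)` is reduced for every
affine open `V`. -/
theorem quotient_reduced_of_fiber (a : PrimeSpectrum R) [a.asIdeal.IsMaximal]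
    (hred : IsReduced (f.fiber a)) {V : X.Opens} (hV : IsAffineOpen V)
    (t : Γ(X, V)) (n : ℕ) (ht : t ^ n ∈ a.asIdeal.map (phi f V)) :
    t ∈ a.asIdeal.map (phi f V) := by
  letI : Algebra R Γ(X, V) := (phi f V).toAlgebra
  let G : (hV.fromSpec ≫ f).fiber a ⟶ f.fiber a :=
    pullback.map (hV.fromSpec ≫ f) ((Spec (CommRingCat.of R)).fromSpecResidueField a) f
      ((Spec (CommRingCat.of R)).fromSpecResidueField a) hV.fromSpec (𝟙 _) (𝟙 _)
      (by simp) (by simp)
  haveI : IsOpenImmersion G := Scheme.pullback_map_isOpenImmersion ..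
  haveI : IsReduced ((hV.fromSpec ≫ f).fiber a) := isReduced_of_isOpenImmersion G
  have h1 : IsReduced ((Spec.map (CommRingCat.ofHom (algebraMap R Γ(X, V)))).fiber a) := by
    have h := fromSpec_comp f hV
    rw [show algebraMap R Γ(X, V) = phi f V from rfl, ← h]
    infer_instance
  let E := Spec.fiberToSpecResidueFieldIso R Γ(X, V) a
  haveI : IsReduced (Spec (CommRingCat.of (a.asIdeal.Fiber Γ(X, V)))) := by
    haveI := h1
    exact @isReduced_of_isOpenImmersion _ _ E.inv.left _ h1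
  have h2 : _root_.IsReduced (a.asIdeal.Fiber Γ(X, V)) :=
    (affine_isReduced_iff (CommRingCat.of (a.asIdeal.Fiber Γ(X, V)))).mp inferInstance
  let e0 : (R ⧸ a.asIdeal) ≃ₐ[R] a.asIdeal.ResidueField :=
    AlgEquiv.ofBijective (IsScalarTower.toAlgHom R (R ⧸ a.asIdeal) a.asIdeal.ResidueField)
      (Ideal.bijective_algebraMap_quotient_residueField a.asIdeal)
  let ψ₁ : a.asIdeal.ResidueField →ₐ[R] Γ(X, V) ⧸ a.asIdeal.map (algebraMap R Γ(X, V)) :=
    (Ideal.quotientMapₐ (a.asIdeal.map (algebraMap R Γ(X, V))) (Algebra.ofId R Γ(X, V))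
      Ideal.le_comap_map).comp e0.symm.toAlgHom
  let ψ : a.asIdeal.Fiber Γ(X, V) →ₐ[R] Γ(X, V) ⧸ a.asIdeal.map (algebraMap R Γ(X, V)) :=
    Algebra.TensorProduct.lift ψ₁ (Ideal.Quotient.mkₐ R _) (fun _ _ => Commute.all _ _)
  have hψ : ∀ b : Γ(X, V), ψ ((1 : a.asIdeal.ResidueField) ⊗ₜ[R] b) = Ideal.Quotient.mk _ b := by
    intro b; simp [ψ]
  have hker : a.asIdeal.map (algebraMap R Γ(X, V)) ≤ RingHom.ker
      (Algebra.TensorProduct.includeRight : Γ(X, V) →ₐ[R] a.asIdeal.Fiber Γ(X, V)).toRingHom := by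
    rw [Ideal.map_le_iff_le_comap]
    intro r hr
    rw [Ideal.mem_comap, RingHom.mem_ker]
    show (1 : a.asIdeal.ResidueField) ⊗ₜ[R] (algebraMap R Γ(X, V) r) = 0
    rw [Algebra.algebraMap_eq_smul_one, ← TensorProduct.smul_tmul,
      ← Algebra.algebraMap_eq_smul_one, (Ideal.algebraMap_residueField_eq_zero).mpr hr,
      TensorProduct.zero_tmul]
  have h3 : (1 : a.asIdeal.ResidueField) ⊗ₜ[R] (t ^ n) = 0 := hker ht
  have hnil : IsNilpotent ((1 : a.asIdeal.ResidueField) ⊗ₜ[R] t : a.asIdeal.Fiber Γ(X, V)) := by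
    refine ⟨n, ?_⟩
    rw [Algebra.TensorProduct.tmul_pow, one_pow]
    exact h3
  have h4 := hψ t
  rw [h2.eq_zero _ hnil, map_zero] at h4
  exact Ideal.Quotient.eq_zero_iff_mem.mp h4.symm

theorem preconnectedSpace_fiber_of_isPreconnected {S : Scheme.{u}} (g : X ⟶ S) (s : S)
    (h : _root_.IsPreconnected (g ⁻¹' {s})) : PreconnectedSpace ↥(g.fiber s) := by
  refine ⟨?_⟩
  rw [← (g.fiberι s).isEmbedding.isInducing.isPreconnected_image, Set.image_univ,
    g.range_fiberι]
  exact h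

end General

section DVR

variable {R : Type u} [CommRing R] [IsDomain R] [IsDiscreteValuationRing R]

lemma notMem_iff_eq_bot {π : R} (hπ : Irreducible π) (p : Ideal R) [p.IsPrime] :
    π ∉ p ↔ p = ⊥ := by
  constructor
  · intro h
    by_contra hne
    have hmax : p.IsMaximal := Ideal.IsPrime.isMaximal inferInstance hne
    have : p = IsLocalRing.maximalIdeal R := IsLocalRing.eq_maximalIdeal hmax
    apply h
    rw [this, hπ.maximalIdeal_eq]
    exact Ideal.mem_span_singleton_self π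
  · rintro rfl h
    exact hπ.ne_zero (by simpa using h)

variable {X : Scheme.{u}} (f : X ⟶ Spec (CommRingCat.of R)) (b : ↥(Spec (CommRingCat.of R)))
  (hb : b.asIdeal = ⊥) {π : R} (hπ : Irreducible π)

include hb hπ in
lemma mem_preimage_iff {V : X.Opens} (hV : IsAffineOpen V) (q : ↥(Spec Γ(X, V))) :
    hV.fromSpec q ∈ f ⁻¹' {b} ↔ phi f V π ∉ q.asIdeal := by
  rw [Set.mem_preimage, Set.mem_singleton_iff, base_fromSpec]
  constructor
  · intro h h'
    have h'' : π ∈ (PrimeSpectrum.comap (phi f V) q).asIdeal := h'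
    rw [h, hb] at h''
    exact hπ.ne_zero (by simpa using h'')
  · intro h
    apply PrimeSpectrum.ext
    rw [hb]
    exact (notMem_iff_eq_bot hπ _).mp h

include hb hπ in
theorem dense_preimage
    (H : ∀ (V : X.Opens), IsAffineOpen V → phi f V π ∈ nonZeroDivisors Γ(X, V)) :
    Dense (f ⁻¹' {b}) := by
  rw [dense_iff_inter_open]
  rintro O hO ⟨x, hx⟩
  obtain ⟨V, hV, hxV, hVO⟩ :=
    exists_isAffineOpen_mem_and_subset (X := X) (x := x) (U := ⟨O, hO⟩) hx
  obtain ⟨q0, hq0⟩ : x ∈ Set.range hV.fromSpec := by rw [hV.range_fromSpec]; exact hxV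
  have hne : ¬ IsNilpotent (phi f V π) := by
    rintro ⟨n, hn⟩
    have h0 : (0 : Γ(X, V)) ∈ nonZeroDivisors Γ(X, V) := hn ▸ pow_mem (H V hV) n
    have h10 : (1 : Γ(X, V)) = 0 := (mem_nonZeroDivisors_iff_right.mp h0) 1 (by simp)
    exact q0.2.ne_top ((Ideal.eq_top_iff_one _).mpr (h10 ▸ Submodule.zero_mem _))
  have hex : ∃ q' : PrimeSpectrum Γ(X, V), phi f V π ∉ q'.asIdeal := by
    by_contra hall
    push Not at hall
    apply hne
    rw [nilpotent_iff_mem_prime]
    intro J hJ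
    exact hall ⟨J, hJ⟩
  obtain ⟨q', hq'⟩ := hex
  exact ⟨hV.fromSpec q', hVO (fromSpec_mem hV q'), (mem_preimage_iff f b hb hπ hV q').mpr hq'⟩

include hb hπ in
theorem isPreconnected_preimage [PreconnectedSpace X]
    (H1 : ∀ (V : X.Opens), IsAffineOpen V → phi f V π ∈ nonZeroDivisors Γ(X, V))
    (H2 : ∀ (V : X.Opens), IsAffineOpen V → ∀ (t : Γ(X, V)) (n : ℕ),
      t ^ n ∈ Ideal.span {phi f V π} → t ∈ Ideal.span {phi f V π}) :
    _root_.IsPreconnected (f ⁻¹' {b}) := by
  intro u v hu hv hcover hnu hnv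
  obtain ⟨x1, hx1U, hx1u⟩ := hnu
  obtain ⟨x2, hx2U, hx2v⟩ := hnv
  by_contra hempty
  rw [Set.not_nonempty_iff_eq_empty] at hempty
  have hdense : Dense (f ⁻¹' {b}) := dense_preimage f b hb hπ H1
  have claimB : ∀ x : X, x ∈ closure (f ⁻¹' {b} ∩ u) → x ∈ closure (f ⁻¹' {b} ∩ v) → False := by
    intro x hxu hxv
    obtain ⟨V, hV, hxV, -⟩ :=
      exists_isAffineOpen_mem_and_subset (X := X) (x := x) (U := ⊤) trivial
    obtain ⟨q, rfl⟩ : x ∈ Set.range hV.fromSpec := by rw [hV.range_fromSpec]; exact hxV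
    let c : PrimeSpectrum (Localization.Away (phi f V π)) → PrimeSpectrum Γ(X, V) :=
      PrimeSpectrum.comap (algebraMap Γ(X, V) (Localization.Away (phi f V π)))
    have hc : Continuous c := PrimeSpectrum.continuous_comap _
    have hcrange : ∀ z, phi f V π ∉ (c z).asIdeal := by
      intro z hz
      have : c z ∈ Set.range c := Set.mem_range_self z
      rw [PrimeSpectrum.localization_away_comap_range (Localization.Away (phi f V π))
        (phi f V π)] at this
      exact this hz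
    have hcsurj : ∀ q' : PrimeSpectrum Γ(X, V), phi f V π ∉ q'.asIdeal → ∃ z, c z = q' := by
      intro q' hq'
      have : q' ∈ Set.range c := by
        rw [PrimeSpectrum.localization_away_comap_range (Localization.Away (phi f V π))
          (phi f V π)]
        exact hq'
      exact this
    let E1 : Set (PrimeSpectrum (Localization.Away (phi f V π))) :=
      c ⁻¹' (hV.fromSpec ⁻¹' u)
    let E2 : Set (PrimeSpectrum (Localization.Away (phi f V π))) :=
      c ⁻¹' (hV.fromSpec ⁻¹' v)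
    have hE1 : IsOpen E1 := (hu.preimage hV.fromSpec.continuous).preimage hc
    have hE2 : IsOpen E2 := (hv.preimage hV.fromSpec.continuous).preimage hc
    have hmemU : ∀ z, hV.fromSpec (c z) ∈ f ⁻¹' {b} := fun z =>
      (mem_preimage_iff f b hb hπ hV (c z)).mpr (hcrange z)
    have hE12 : E1ᶜ = E2 := by
      ext z
      constructor
      · intro hz
        rcases hcover (hmemU z) with h | h
        · exact absurd h hz
        · exact h
      · intro hz hz1
        have : hV.fromSpec (c z) ∈ f ⁻¹' {b} ∩ (u ∩ v) := ⟨hmemU z, hz1, hz⟩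
        rw [hempty] at this
        exact this
    have hclopen : IsClopen E1 := ⟨by rw [← isOpen_compl_iff, hE12]; exact hE2, hE1⟩
    obtain ⟨e, he, hEe⟩ := PrimeSpectrum.exists_idempotent_basicOpen_eq_of_isClopen hclopen
    obtain ⟨b0, hb0, hb0e⟩ := exists_idempotent_of_away (phi f V π) (H1 V hV) (H2 V hV) e he
    have star : ∀ q' : PrimeSpectrum Γ(X, V), phi f V π ∉ q'.asIdeal →
        (hV.fromSpec q' ∈ u ↔ b0 ∉ q'.asIdeal) := by
      intro q' hq'
      obtain ⟨z, rfl⟩ := hcsurj q' hq'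
      have h1 : z ∈ E1 ↔ e ∉ z.asIdeal := by rw [hEe]; rfl
      have h2 : (hV.fromSpec (c z) ∈ u) ↔ z ∈ E1 := Iff.rfl
      rw [h2, h1, ← hb0e]
      rfl
    have star' : ∀ q' : PrimeSpectrum Γ(X, V), phi f V π ∉ q'.asIdeal →
        (hV.fromSpec q' ∈ v ↔ b0 ∈ q'.asIdeal) := by
      intro q' hq'
      have hs := star q' hq'
      obtain ⟨z, rfl⟩ := hcsurj q' hq'
      have h1 : hV.fromSpec (c z) ∈ v ↔ z ∈ E2 := Iff.rfl
      have h2 : (hV.fromSpec (c z) ∈ u) ↔ z ∈ E1 := Iff.rfl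
      rw [h1, ← hE12, Set.mem_compl_iff, ← h2, hs, not_not]
    have hopen : ∀ g : Γ(X, V),
        IsOpen (hV.fromSpec '' (PrimeSpectrum.basicOpen g : Set (PrimeSpectrum Γ(X, V)))) :=
      fun g => hV.fromSpec.isOpenEmbedding.isOpenMap _ (PrimeSpectrum.basicOpen g).2
    have hb0q : b0 ∉ q.asIdeal := by
      intro hb0q
      have h1b : (1 - b0) ∉ q.asIdeal := fun h => q.2.ne_top ((Ideal.eq_top_iff_one _).mpr (by
        have := Ideal.add_mem _ hb0q h
        simpa using this))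
      obtain ⟨y, hyO, hyU, hyu⟩ := mem_closure_iff.mp hxu _ (hopen (1 - b0)) ⟨q, h1b, rfl⟩
      obtain ⟨q', hq', rfl⟩ := hyO
      have hϖ : phi f V π ∉ q'.asIdeal := (mem_preimage_iff f b hb hπ hV q').mp hyU
      have hnb : b0 ∉ q'.asIdeal := (star q' hϖ).mp hyu
      have hz : b0 * (1 - b0) ∈ q'.asIdeal := by
        rw [mul_sub, mul_one, hb0.eq, sub_self]; exact Submodule.zero_mem _
      rcases q'.2.mem_or_mem hz with h | h
      · exact hnb h
      · exact hq' h
    obtain ⟨y, hyO, hyU, hyv⟩ := mem_closure_iff.mp hxv _ (hopen b0) ⟨q, hb0q, rfl⟩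
    obtain ⟨q', hq', rfl⟩ := hyO
    have hϖ : phi f V π ∉ q'.asIdeal := (mem_preimage_iff f b hb hπ hV q').mp hyU
    exact hq' ((star' q' hϖ).mp hyv)
  have hcl : (Set.univ : Set X) ⊆ closure (f ⁻¹' {b} ∩ u) ∪ closure (f ⁻¹' {b} ∩ v) := by
    intro x _
    have hx : x ∈ closure (f ⁻¹' {b}) := hdense x
    have hsub : f ⁻¹' {b} ⊆ (f ⁻¹' {b} ∩ u) ∪ (f ⁻¹' {b} ∩ v) := fun y hy =>
      (hcover hy).imp (fun h => ⟨hy, h⟩) (fun h => ⟨hy, h⟩)
    have := closure_mono hsub hx
    rwa [closure_union] at this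
  obtain ⟨x, -, hx1, hx2⟩ := isPreconnected_closed_iff.mp isPreconnected_univ _ _
    isClosed_closure isClosed_closure hcl ⟨x1, trivial, subset_closure ⟨hx1U, hx1u⟩⟩
    ⟨x2, trivial, subset_closure ⟨hx2U, hx2v⟩⟩
  exact claimB x hx1 hx2

include hπ in
/-- `B/ϖ` reduced from reducedness of the special fibre. -/
theorem span_reduced_of_fiber (a : PrimeSpectrum R) (ha : a.asIdeal = IsLocalRing.maximalIdeal R)
    (hred : IsReduced (f.fiber a)) {V : X.Opens} (hV : IsAffineOpen V)
    (t : Γ(X, V)) (n : ℕ) (ht : t ^ n ∈ Ideal.span {phi f V π}) :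
    t ∈ Ideal.span {phi f V π} := by
  haveI : a.asIdeal.IsMaximal := ha ▸ IsLocalRing.maximalIdeal.isMaximal R
  have hmap : a.asIdeal.map (phi f V) = Ideal.span {phi f V π} := by
    rw [ha, hπ.maximalIdeal_eq, Ideal.map_span, Set.image_singleton]
  rw [← hmap] at ht ⊢
  exact quotient_reduced_of_fiber f a hred hV t n ht

include hb hπ in
/-- torsion elements are nilpotent if no nonempty open misses the generic fibre -/
theorem nzd_of_open_meets [IsNoetherianRing R] {V : X.Opens} (hV : IsAffineOpen V)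
    [IsNoetherianRing Γ(X, V)]
    (hmeet : ∀ O : Set X, IsOpen O → O.Nonempty → (O ∩ f ⁻¹' {b}).Nonempty)
    (H2 : ∀ (t : Γ(X, V)) (n : ℕ),
      t ^ n ∈ Ideal.span {phi f V π} → t ∈ Ideal.span {phi f V π}) :
    phi f V π ∈ nonZeroDivisors Γ(X, V) := by
  apply mem_nonZeroDivisors_of_nilpotent_torsion _ H2
  intro t k htk
  rw [nilpotent_iff_mem_prime]
  intro J hJ
  by_contra htJ
  have hOopen : IsOpen (hV.fromSpec '' (PrimeSpectrum.basicOpen t : Set (PrimeSpectrum Γ(X, V)))) :=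
    hV.fromSpec.isOpenEmbedding.isOpenMap _ (PrimeSpectrum.basicOpen t).2
  obtain ⟨y, ⟨q'', hq'', rfl⟩, hy'⟩ := hmeet _ hOopen ⟨_, ⟨⟨J, hJ⟩, htJ, rfl⟩⟩
  have hϖ : phi f V π ∉ q''.asIdeal := (mem_preimage_iff f b hb hπ hV q'').mp hy'
  have h0 : phi f V π ^ k * t ∈ q''.asIdeal := by rw [htk]; exact Submodule.zero_mem _
  rcases q''.2.mem_or_mem h0 with h | h
  · exact hϖ (q''.2.mem_of_pow_mem k h)
  · exact hq'' h

end DVR

end Groth.Agent.Lib.DvrFibreH4
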