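import Mathlib
import Groth.Agent.Lib.DvrFibre_helper4

/-!
# Connectedness of the generic fibre over a DVR, flatness from density (helper4)
-/

set_option autoImplicit false
universe u
set_option linter.style.haveILetI false

open CategoryTheory CategoryTheory.Limits AlgebraicGeometry TopologicalSpace TensorProduct

namespace Groth.Agent.Lib.DvrFibreH4

variable {R : Type u} [CommRing R] [IsDomain R] [IsDiscreteValuationRing R]
  {X : Scheme.{u}} (f : X ⟶ Spec (CommRingCat.of R))

lemma phi_flat [Flat f] {V : X.Opens} (hV : IsAffineOpen V) : (phi f V).Flat :=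
  (RingHom.Flat.respectsIso.cancel_left_isIso (Scheme.ΓSpecIso (CommRingCat.of R)).inv
    (f.appLE ⊤ V le_top)).mpr (f.flat_appLE (isAffineOpen_top _) hV le_top)

lemma phi_finiteType [LocallyOfFiniteType f] {V : X.Opens} (hV : IsAffineOpen V) :
    (phi f V).FiniteType :=
  (RingHom.finiteType_respectsIso.cancel_left_isIso (Scheme.ΓSpecIso (CommRingCat.of R)).inv
    (f.appLE ⊤ V le_top)).mpr (f.finiteType_appLE (isAffineOpen_top _) hV le_top)

lemma nzd_of_flat [Flat f] {π : R} (hπ : Irreducible π) {V : X.Opens} (hV : IsAffineOpen V) :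
    phi f V π ∈ nonZeroDivisors Γ(X, V) := by
  letI : Algebra R Γ(X, V) := (phi f V).toAlgebra
  haveI : Module.Flat R Γ(X, V) := phi_flat f hV
  have hreg : IsSMulRegular Γ(X, V) π :=
    Module.Flat.isSMulRegular_of_nonZeroDivisors (mem_nonZeroDivisors_of_ne_zero hπ.ne_zero)
  rw [mem_nonZeroDivisors_iff_right]
  intro x hx
  apply hreg
  show π • x = π • (0 : Γ(X, V))
  rw [smul_zero, Algebra.smul_def, mul_comm]
  exact hx

theorem main0421 (f : X ⟶ Spec (CommRingCat.of R)) [Flat f] [ConnectedSpace ↑X]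
    (hred : IsReduced (f.fiber (IsLocalRing.closedPoint R))) :
    ConnectedSpace ↑(f.fiber (⟨⊥, Ideal.isPrime_bot⟩ : PrimeSpectrum R)) := by
  obtain ⟨π, hπ⟩ := IsDiscreteValuationRing.exists_irreducible R
  have H1 : ∀ (V : X.Opens), IsAffineOpen V → phi f V π ∈ nonZeroDivisors Γ(X, V) :=
    fun V hV => nzd_of_flat f hπ hV
  have H2 : ∀ (V : X.Opens), IsAffineOpen V → ∀ (t : Γ(X, V)) (n : ℕ),
      t ^ n ∈ Ideal.span {phi f V π} → t ∈ Ideal.span {phi f V π} :=
    fun V hV t n ht => span_reduced_of_fiber f hπ (IsLocalRing.closedPoint R) rfl hred hV t n ht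
  have hpre := isPreconnected_preimage f (⟨⊥, Ideal.isPrime_bot⟩ : PrimeSpectrum R) rfl hπ H1 H2
  haveI := preconnectedSpace_fiber_of_isPreconnected f _ hpre
  have hne : Nonempty ↑(f.fiber (⟨⊥, Ideal.isPrime_bot⟩ : PrimeSpectrum R)) := by
    obtain ⟨x, hx⟩ :=
      (dense_preimage f (⟨⊥, Ideal.isPrime_bot⟩ : PrimeSpectrum R) rfl hπ H1).nonempty
    rw [← f.range_fiberι] at hx
    obtain ⟨y, _⟩ := hx
    exact ⟨y⟩
  exact { toNonempty := hne }

theorem main3417 (A : Type u) [CommRing A] [IsDomain A]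
    [IsDiscreteValuationRing A] {X : Scheme.{u}} (f : X ⟶ Spec (CommRingCat.of A))
    [LocallyOfFiniteType f]
    (hopen : IsOpenMap f.base) [PreconnectedSpace X]
    (a b : ↥(Spec (CommRingCat.of A))) (ha : IsClosed ({a} : Set ↥(Spec (CommRingCat.of A))))
    (hb : ∀ z : ↥(Spec (CommRingCat.of A)), b ⤳ z)
    (hred : AlgebraicGeometry.IsReduced (f.fiber a)) :
    PreconnectedSpace ↥(f.fiber b) := by
  obtain ⟨π, hπ⟩ := IsDiscreteValuationRing.exists_irreducible A
  have hb' : b.asIdeal = ⊥ := by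
    have h1 : b.asIdeal ≤ (⊥ : Ideal A) :=
      (PrimeSpectrum.le_iff_specializes (R := A) b ⟨⊥, Ideal.isPrime_bot⟩).mpr (hb _)
    exact le_bot_iff.mp h1
  have ha' : a.asIdeal = IsLocalRing.maximalIdeal A :=
    IsLocalRing.eq_maximalIdeal ((PrimeSpectrum.isClosed_singleton_iff_isMaximal a).mp ha)
  have H2 : ∀ (V : X.Opens), IsAffineOpen V → ∀ (t : Γ(X, V)) (n : ℕ),
      t ^ n ∈ Ideal.span {phi f V π} → t ∈ Ideal.span {phi f V π} :=
    fun V hV t n ht => span_reduced_of_fiber f hπ a ha' hred hV t n ht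
  have hmeet : ∀ O : Set X, IsOpen O → O.Nonempty → (O ∩ f ⁻¹' {b}).Nonempty := by
    rintro O hO ⟨y, hy⟩
    have h1 : b ∈ f '' O := (hb (f y)).mem_open (hopen O hO) ⟨y, hy, rfl⟩
    obtain ⟨y', hy', hfy'⟩ := h1
    exact ⟨y', hy', hfy'⟩
  have H1 : ∀ (V : X.Opens), IsAffineOpen V → phi f V π ∈ nonZeroDivisors Γ(X, V) := by
    intro V hV
    haveI : IsNoetherianRing Γ(X, V) := by
      letI : Algebra A Γ(X, V) := (phi f V).toAlgebra
      haveI : Algebra.FiniteType A Γ(X, V) := phi_finiteType f hV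
      exact Algebra.FiniteType.isNoetherianRing A Γ(X, V)
    exact nzd_of_open_meets f b hb' hπ hV hmeet (H2 V hV)
  exact preconnectedSpace_fiber_of_isPreconnected f b (isPreconnected_preimage f b hb' hπ H1 H2)

theorem main10880 (R : Type u) [CommRing R] [IsDomain R]
    [IsDiscreteValuationRing R] {X : Scheme.{u}} (f : X ⟶ Spec (CommRingCat.of R))
    [IsLocallyNoetherian X]
    (hred : IsReduced (f.fiber (IsLocalRing.closedPoint R)))
    (hdense : Dense (f.base ⁻¹' {genericPoint (Spec (CommRingCat.of R))})) : Flat f := by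
  obtain ⟨π, hπ⟩ := IsDiscreteValuationRing.exists_irreducible R
  have hb' : (genericPoint (Spec (CommRingCat.of R))).asIdeal = ⊥ := by
    have h1 : (genericPoint (Spec (CommRingCat.of R))).asIdeal ≤ (⊥ : Ideal R) :=
      (PrimeSpectrum.le_iff_specializes (R := R) (genericPoint (Spec (CommRingCat.of R)))
        ⟨⊥, Ideal.isPrime_bot⟩).mpr (genericPoint_specializes _)
    exact le_bot_iff.mp h1
  have hmeet : ∀ O : Set X, IsOpen O → O.Nonempty →
      (O ∩ f ⁻¹' {genericPoint (Spec (CommRingCat.of R))}).Nonempty :=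
    fun O hO hne => hdense.inter_open_nonempty O hO hne
  haveI := HasRingHomProperty.HasAffineProperty (P := @Flat)
  rw [HasAffineProperty.iff_of_isAffine (P := @Flat)]
  intro U
  have H2 : ∀ (t : Γ(X, U.1)) (n : ℕ),
      t ^ n ∈ Ideal.span {phi f U.1 π} → t ∈ Ideal.span {phi f U.1 π} :=
    fun t n ht => span_reduced_of_fiber f hπ (IsLocalRing.closedPoint R) rfl hred U.2 t n ht
  haveI : IsNoetherianRing Γ(X, U.1) := IsLocallyNoetherian.component_noetherian U
  have H1 : phi f U.1 π ∈ nonZeroDivisors Γ(X, U.1) :=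
    nzd_of_open_meets f _ hb' hπ U.2 hmeet H2
  suffices h : (phi f U.1).Flat from
    (RingHom.Flat.respectsIso.cancel_left_isIso (Scheme.ΓSpecIso (CommRingCat.of R)).inv
      (f.appLE ⊤ U.1 le_top)).mp h
  letI : Algebra R Γ(X, U.1) := (phi f U.1).toAlgebra
  show Module.Flat R Γ(X, U.1)
  haveI : Module.IsTorsionFree R Γ(X, U.1) := by
    rw [Module.isTorsionFree_iff_smul_eq_zero]
    intro r m hrm
    by_cases hr : r = 0
    · exact Or.inl hr
    · right
      obtain ⟨n, u, rfl⟩ := IsDiscreteValuationRing.eq_unit_mul_pow_irreducible hr hπ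
      rw [Algebra.smul_def, map_mul, map_pow, mul_assoc] at hrm
      have hu : IsUnit (algebraMap R Γ(X, U.1) (u : R)) := u.isUnit.map _
      have h1 : algebraMap R Γ(X, U.1) π ^ n * m = 0 := (hu.mul_right_eq_zero).mp hrm
      have h2 : phi f U.1 π ^ n ∈ nonZeroDivisors Γ(X, U.1) := pow_mem H1 n
      rw [mul_comm] at h1
      exact (mem_nonZeroDivisors_iff_right.mp h2) m h1
  infer_instance

end Groth.Agent.Lib.DvrFibreH4
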