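import Mathlib
import Groth.Agent.Lib.DvrFibre2_helper4

/-!
# Proper flat schemes over a DVR with reduced special fibre are reduced (helper4)
-/

set_option autoImplicit false
universe u
set_option linter.style.haveILetI false

open CategoryTheory CategoryTheory.Limits AlgebraicGeometry TopologicalSpace TensorProduct

namespace Groth.Agent.Lib.DvrFibreH4

section Ring

theorem isReduced_localization_of_le {B : Type*} [CommRing B] [IsNoetherianRing B] (ϖ : B)
    (hnzd : ϖ ∈ nonZeroDivisors B)
    (hred : ∀ (t : B) (n : ℕ), t ^ n ∈ Ideal.span {ϖ} → t ∈ Ideal.span {ϖ})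
    (q0 q : Ideal B) [q0.IsPrime] [q.IsPrime] (hϖ : ϖ ∈ q0) (hle : q ≤ q0)
    (S : Type*) [CommRing S] [Algebra B S] (hS : IsLocalization.AtPrime S q) :
    _root_.IsReduced S := by
  haveI := hS
  let N : Ideal B := nilradical B
  have hN : ∀ t, t ∈ N ↔ IsNilpotent t := fun t => mem_nilradical
  have hle' : N ≤ Ideal.span {ϖ} • N := by
    intro t ht
    obtain ⟨n, hn⟩ := (hN t).mp ht
    have h1 : t ∈ Ideal.span {ϖ} := hred t n (by rw [hn]; exact Submodule.zero_mem _)
    obtain ⟨c, rfl⟩ := Ideal.mem_span_singleton'.mp h1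
    have hc : c ∈ N := by
      rw [hN]
      refine ⟨n, ?_⟩
      rw [mul_pow] at hn
      exact (mul_right_mem_nonZeroDivisors_eq_zero_iff (pow_mem hnzd n)).mp hn
    rw [mul_comm, ← smul_eq_mul]
    exact Submodule.smul_mem_smul (Ideal.mem_span_singleton_self ϖ) hc
  obtain ⟨r, hr1, hr2⟩ := Submodule.exists_sub_one_mem_and_smul_eq_zero_of_fg_of_le_smul
    (Ideal.span {ϖ}) N (IsNoetherian.noetherian N) hle'
  have hrq0 : r ∉ q0 := by
    intro hr
    have h1 : r - 1 ∈ q0 := (Ideal.span_singleton_le_iff_mem (I := q0)).mpr hϖ hr1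
    have : (1 : B) ∈ q0 := by
      have := q0.sub_mem hr h1
      simpa using this
    exact (Ideal.IsPrime.ne_top inferInstance) ((Ideal.eq_top_iff_one _).mpr this)
  have hrq : r ∉ q := fun h => hrq0 (hle h)
  refine ⟨fun s hs => ?_⟩
  obtain ⟨t, w, rfl⟩ := IsLocalization.exists_mk'_eq q.primeCompl s
  obtain ⟨n, hn⟩ := hs
  have h1 : algebraMap B S (t ^ n) = 0 := by
    rw [map_pow, ← IsLocalization.mk'_spec S t w, mul_pow, hn, zero_mul]
  obtain ⟨m, hm⟩ := (IsLocalization.map_eq_zero_iff q.primeCompl S (t ^ n)).mp h1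
  have h2 : (m : B) * t ∈ N := by
    rw [hN]
    refine ⟨n + 1, ?_⟩
    rw [show ((m : B) * t) ^ (n + 1) = (m : B) ^ n * t * ((m : B) * t ^ n) by ring, hm, mul_zero]
  have h3 : r * ((m : B) * t) = 0 := by simpa using hr2 _ h2
  have hunit : IsUnit (algebraMap B S (r * (m : B))) :=
    IsLocalization.map_units S (⟨r * (m : B), q.primeCompl.mul_mem hrq m.2⟩ : q.primeCompl)
  have h4 : algebraMap B S t = 0 := by
    have : algebraMap B S (r * (m : B)) * algebraMap B S t = 0 := by
      rw [← map_mul, mul_assoc, h3, map_zero]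
    exact (hunit.mul_right_eq_zero).mp this
  rw [IsLocalization.mk'_eq_iff_eq_mul, zero_mul, h4]

/-- The generic fibre ring `κ(⊥) ⊗ B` is reduced when `B` is flat and reduced. -/
theorem isReduced_fiber_bot {R : Type*} [CommRing R] (p : Ideal R) [p.IsPrime] (hp : p = ⊥)
    (B : Type*) [CommRing B] [Algebra R B] [Module.Flat R B] [_root_.IsReduced B] :
    _root_.IsReduced (p.Fiber B) := by
  have hinj : Function.Injective (algebraMap R p.ResidueField) := by
    rw [RingHom.injective_iff_ker_eq_bot, Ideal.ker_algebraMap_residueField, hp]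
  have hι : ∀ s : B, (1 : p.ResidueField) ⊗ₜ[R] s = 0 → s = 0 := by
    intro s hs
    have h1 := Module.Flat.rTensor_preserves_injective_linearMap (M := B)
      (Algebra.linearMap R p.ResidueField) hinj
    have h2 : (LinearMap.rTensor B (Algebra.linearMap R p.ResidueField)) ((1 : R) ⊗ₜ[R] s) =
        (LinearMap.rTensor B (Algebra.linearMap R p.ResidueField)) 0 := by
      simp [hs]
    have h3 := h1 h2
    have h4 := congrArg (TensorProduct.lid R B) h3
    simpa using h4
  refine ⟨fun x hx => ?_⟩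
  obtain ⟨r, hr, s, hrs⟩ := Ideal.Fiber.exists_smul_eq_one_tmul p x
  obtain ⟨n, hn⟩ := hx
  have h1 : (1 : p.ResidueField) ⊗ₜ[R] (s ^ n) = 0 := by
    have : ((1 : p.ResidueField) ⊗ₜ[R] s) ^ n = 0 := by
      rw [← hrs, smul_pow, hn, smul_zero]
    rwa [Algebra.TensorProduct.tmul_pow, one_pow] at this
  have h2 : s = 0 := by
    have := hι _ h1
    exact IsReduced.eq_zero _ ⟨n, this⟩
  rw [h2, TensorProduct.tmul_zero] at hrs
  have hr0 : algebraMap R p.ResidueField r ≠ 0 := fun h =>
    hr (Ideal.algebraMap_residueField_eq_zero.mp h)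
  have h3 : (algebraMap R p.ResidueField r) • x = 0 := by
    rw [algebraMap_smul]; exact hrs
  rw [← one_smul p.ResidueField x, ← inv_mul_cancel₀ hr0, mul_smul, h3, smul_zero]

end Ring

variable {R : Type u} [CommRing R] [IsDomain R] [IsDiscreteValuationRing R]
  {X : Scheme.{u}}

theorem isReduced_of_proper_flat (f : X ⟶ Spec (CommRingCat.of R)) [IsProper f] [Flat f]
    (hred : IsReduced (f.fiber (IsLocalRing.closedPoint R))) : IsReduced X := by
  obtain ⟨π, hπ⟩ := IsDiscreteValuationRing.exists_irreducible R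
  haveI : CompactSpace X := QuasiCompact.compactSpace_of_compactSpace f
  have hstalk : ∀ x : X, _root_.IsReduced (X.presheaf.stalk x) := by
    intro x
    obtain ⟨x0, hx0mem, hx0cl⟩ := IsClosed.exists_closed_singleton (isClosed_closure (s := {x}))
      ⟨x, subset_closure rfl⟩
    have hspec : x ⤳ x0 := specializes_iff_mem_closure.mpr hx0mem
    have hfx0 : IsClosed ({f x0} : Set ↥(Spec (CommRingCat.of R))) := by
      have := f.isClosedMap _ hx0cl
      rwa [Set.image_singleton] at this
    have hmax : (f x0).asIdeal = IsLocalRing.maximalIdeal R :=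
      IsLocalRing.eq_maximalIdeal ((PrimeSpectrum.isClosed_singleton_iff_isMaximal _).mp hfx0)
    obtain ⟨V, hV, hx0V, -⟩ :=
      exists_isAffineOpen_mem_and_subset (X := X) (x := x0) (U := ⊤) trivial
    have hxV : x ∈ V := hspec.mem_open V.2 hx0V
    obtain ⟨q0, rfl⟩ : x0 ∈ Set.range hV.fromSpec := by rw [hV.range_fromSpec]; exact hx0V
    obtain ⟨q, rfl⟩ : x ∈ Set.range hV.fromSpec := by rw [hV.range_fromSpec]; exact hxV
    have hqq0 : q.asIdeal ≤ q0.asIdeal :=
      (PrimeSpectrum.le_iff_specializes (R := Γ(X, V)) q q0).mpr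
        (hV.fromSpec.isOpenEmbedding.isInducing.specializes_iff.mp hspec)
    have hϖ : phi f V π ∈ q0.asIdeal := by
      have h1 : π ∈ (f (hV.fromSpec q0)).asIdeal := by
        rw [hmax, hπ.maximalIdeal_eq]; exact Ideal.mem_span_singleton_self π
      rw [base_fromSpec] at h1
      exact h1
    haveI : IsNoetherianRing Γ(X, V) := by
      letI : Algebra R Γ(X, V) := (phi f V).toAlgebra
      haveI : Algebra.FiniteType R Γ(X, V) := phi_finiteType f hV
      exact Algebra.FiniteType.isNoetherianRing R Γ(X, V)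
    letI := TopCat.Presheaf.algebra_section_stalk X.presheaf ⟨hV.fromSpec q, hxV⟩
    exact isReduced_localization_of_le (phi f V π) (nzd_of_flat f hπ hV)
      (fun t n ht => span_reduced_of_fiber f hπ (IsLocalRing.closedPoint R) rfl hred hV t n ht)
      q0.asIdeal q.asIdeal hϖ hqq0 (X.presheaf.stalk (hV.fromSpec q))
      (hV.isLocalization_stalk' q hxV)
  exact isReduced_of_isReduced_stalk X

theorem isReduced_generic_fiber (f : X ⟶ Spec (CommRingCat.of R)) [Flat f] [IsReduced X]
    (b : ↥(Spec (CommRingCat.of R))) (hb : b.asIdeal = ⊥) : IsReduced (f.fiber b) := by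
  have hstalk : ∀ y : ↥(f.fiber b), _root_.IsReduced ((f.fiber b).presheaf.stalk y) := by
    intro y
    obtain ⟨V, hV, hyV, -⟩ :=
      exists_isAffineOpen_mem_and_subset (X := X) (x := f.fiberι b y) (U := ⊤) trivial
    let G : (hV.fromSpec ≫ f).fiber b ⟶ f.fiber b :=
      pullback.map (hV.fromSpec ≫ f) ((Spec (CommRingCat.of R)).fromSpecResidueField b) f
        ((Spec (CommRingCat.of R)).fromSpecResidueField b) hV.fromSpec (𝟙 _) (𝟙 _)
        (by simp) (by simp)
    haveI : IsOpenImmersion G := Scheme.pullback_map_isOpenImmersion ..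
    have hrange : y ∈ Set.range G := by
      have hR := Scheme.Pullback.range_map (f := hV.fromSpec ≫ f)
        (g := (Spec (CommRingCat.of R)).fromSpecResidueField b) f
        ((Spec (CommRingCat.of R)).fromSpecResidueField b) hV.fromSpec (𝟙 _) (𝟙 _)
        (by simp) (by simp)
      refine (Set.ext_iff.mp hR y).mpr ⟨?_, ?_⟩
      · show f.fiberι b y ∈ Set.range hV.fromSpec
        rw [hV.range_fromSpec]; exact hyV
      · exact ⟨_, rfl⟩
    obtain ⟨z, rfl⟩ := hrange
    letI : Algebra R Γ(X, V) := (phi f V).toAlgebra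
    haveI : Module.Flat R Γ(X, V) := phi_flat f hV
    haveI : b.asIdeal.IsPrime := b.2
    have h2 : _root_.IsReduced (b.asIdeal.Fiber Γ(X, V)) := isReduced_fiber_bot b.asIdeal hb _
    have hSpec : IsReduced (Spec (CommRingCat.of (b.asIdeal.Fiber Γ(X, V)))) :=
      (affine_isReduced_iff (CommRingCat.of (b.asIdeal.Fiber Γ(X, V)))).mpr h2
    let E := Spec.fiberToSpecResidueFieldIso R Γ(X, V) b
    have h1 : IsReduced ((Spec.map (CommRingCat.ofHom (algebraMap R Γ(X, V)))).fiber b) :=
      @isReduced_of_isOpenImmersion _ _ E.hom.left _ hSpec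
    haveI : IsReduced ((hV.fromSpec ≫ f).fiber b) := by
      have h := fromSpec_comp f hV
      rw [show algebraMap R Γ(X, V) = phi f V from rfl, ← h] at h1
      exact h1
    exact isReduced_of_injective (G.stalkMap z).hom
      (ConcreteCategory.bijective_of_isIso (G.stalkMap z)).injective
  exact isReduced_of_isReduced_stalk _

theorem main0436 (f : X ⟶ Spec (CommRingCat.of R)) [IsProper f] [Flat f]
    (hred : IsReduced (f.fiber (IsLocalRing.closedPoint R))) :
    IsReduced X ∧ IsReduced (f.fiber (⟨⊥, Ideal.isPrime_bot⟩ : PrimeSpectrum R)) := by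
  haveI := isReduced_of_proper_flat f hred
  exact ⟨inferInstance, isReduced_generic_fiber f (⟨⊥, Ideal.isPrime_bot⟩ : PrimeSpectrum R) rfl⟩

end Groth.Agent.Lib.DvrFibreH4
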