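import Mathlib

/-! Flatness over a DVR from: reduced closed fibre + every minimal prime of the closed fibre
has a generization in the generic fibre (EGA IV 14.3.8-type criterion), ring level. -/

open IsLocalRing

namespace DvrFlatH8

theorem flat_of_radical {A B : Type*} [CommRing A] [IsDomain A] [IsDiscreteValuationRing A]
    [CommRing B] [IsNoetherianRing B] [IsLocalRing B] [Algebra A B]
    [IsLocalHom (algebraMap A B)]
    (hrad : ((maximalIdeal A).map (algebraMap A B)).IsRadical)
    (hgen : ∀ q ∈ ((maximalIdeal A).map (algebraMap A B)).minimalPrimes,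
       ∃ q' : Ideal B, q'.IsPrime ∧ q' ≤ q ∧ q'.comap (algebraMap A B) = ⊥) :
    Module.Flat A B := by
  obtain ⟨π, hπ⟩ := IsDiscreteValuationRing.exists_irreducible A
  set φ := algebraMap A B with hφ
  have hm : maximalIdeal A = Ideal.span {π} := hπ.maximalIdeal_eq
  have hI : (maximalIdeal A).map φ = Ideal.span {φ π} := by
    rw [hm, Ideal.map_span, Set.image_singleton]
  have hπ0 : π ≠ 0 := hπ.ne_zero
  -- the π-power torsion ideal
  let T : Ideal B :=
    { carrier := {b | ∃ n : ℕ, φ π ^ n * b = 0}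
      add_mem' := by
        rintro a b ⟨n, hn⟩ ⟨m, hm⟩
        refine ⟨n + m, ?_⟩
        have e1 : φ π ^ (n + m) * a = φ π ^ m * (φ π ^ n * a) := by ring
        have e2 : φ π ^ (n + m) * b = φ π ^ n * (φ π ^ m * b) := by ring
        rw [mul_add, e1, e2, hn, hm, mul_zero, mul_zero, add_zero]
      zero_mem' := ⟨0, by simp⟩
      smul_mem' := by
        rintro c b ⟨n, hn⟩
        refine ⟨n, ?_⟩
        rw [smul_eq_mul, mul_left_comm, hn, mul_zero] }
  have hTmem : ∀ b, b ∈ T ↔ ∃ n : ℕ, φ π ^ n * b = 0 := fun b => Iff.rfl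
  -- Step 1
  have h1 : ∀ q' : Ideal B, q'.IsPrime → q'.comap φ = ⊥ → T ≤ q' := by
    intro q' hq' hc b hb
    obtain ⟨n, hn⟩ := (hTmem b).1 hb
    have : φ π ^ n * b ∈ q' := by rw [hn]; exact zero_mem _
    rcases hq'.mem_or_mem this with h | h
    · exfalso
      have h2 : φ π ∈ q' := hq'.mem_of_pow_mem n h
      have h3 : π ∈ q'.comap φ := h2
      rw [hc] at h3
      exact hπ0 h3
    · exact h
  -- Step 2
  have h2 : T ≤ (maximalIdeal A).map φ := by
    rw [← hrad.radical, ← Ideal.sInf_minimalPrimes]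
    refine le_sInf ?_
    intro q hq
    obtain ⟨q', hq'p, hq'q, hq'c⟩ := hgen q hq
    exact (h1 q' hq'p hq'c).trans hq'q
  -- Step 3
  have h3 : T ≤ (maximalIdeal A).map φ • T := by
    intro t ht
    have ht' := h2 ht
    rw [hI, Ideal.mem_span_singleton'] at ht'
    obtain ⟨s, rfl⟩ := ht'
    obtain ⟨n, hn⟩ := (hTmem _).1 ht
    have hs : s ∈ T := by
      refine (hTmem s).2 ⟨n + 1, ?_⟩
      rw [pow_succ, mul_assoc, mul_comm (φ π) s]
      exact hn
    rw [mul_comm]
    exact Submodule.smul_mem_smul (by rw [hI]; exact Ideal.mem_span_singleton_self _) hs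
  -- Step 4
  have hIle : (maximalIdeal A).map φ ≤ maximalIdeal B :=
    ((IsLocalRing.local_hom_TFAE φ).out 0 2).mp ‹_›
  have h4 : T = ⊥ := by
    refine Submodule.eq_bot_of_le_smul_of_le_jacobson_bot _ T (IsNoetherian.noetherian T) h3 ?_
    rw [IsLocalRing.jacobson_eq_maximalIdeal ⊥ bot_ne_top]
    exact hIle
  -- Steps 5-7
  haveI : Module.IsTorsionFree A B := by
    refine Module.IsTorsionFree.of_smul_eq_zero ?_
    intro r b hrb
    by_cases hr : r = 0
    · exact Or.inl hr
    · right
      obtain ⟨n, u, rfl⟩ := IsDiscreteValuationRing.eq_unit_mul_pow_irreducible hr hπ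
      rw [Algebra.smul_def, map_mul, map_pow, mul_assoc] at hrb
      have hu : IsUnit (φ (u : A)) := u.isUnit.map φ
      have : φ π ^ n * b = 0 := (hu.mul_right_eq_zero).mp hrb
      have hb : b ∈ T := (hTmem b).2 ⟨n, this⟩
      rw [h4] at hb
      exact hb
  infer_instance

end DvrFlatH8
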