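import Mathlib
import Groth.Prelude.Def_Smoothing
import Groth.Agent.Lib.ResolveSep_helper4
import Groth.Agent.Lib.NeronAlg2_helper4
import Groth.Agent.Lib.IndSmRes_helper4

/-!
Helper library (helper4): an unramified extension of discrete valuation rings with separable
residue field and fraction field extensions is ind-smooth.  APPEND-ONLY once landed.
-/

set_option autoImplicit false
set_option linter.unusedVariables false
set_option linter.unusedTactic false
set_option linter.unreachableTactic false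
set_option linter.unusedSectionVars false
set_option linter.style.haveILetI false
set_option linter.deprecated false
set_option maxHeartbeats 1600000

universe u

open TensorProduct

namespace Groth.Agent.Lib.DvrIndSmH4

section Bot

theorem case_bot {R Λ K L A : Type u} [CommRing R] [IsDomain R] [IsDiscreteValuationRing R]
    [CommRing Λ] [IsDomain Λ] [IsDiscreteValuationRing Λ] [Algebra R Λ]
    [NoZeroSMulDivisors R Λ]
    [Field K] [Algebra R K] [IsFractionRing R K] [Field L] [Algebra Λ L] [IsFractionRing Λ L]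
    [Algebra K L] [Algebra R L] [IsScalarTower R K L] [IsScalarTower R Λ L]
    [Algebra.IsGeometricallyReduced K L]
    [CommRing A] [Algebra R A] [Algebra.FinitePresentation R A] (φ : A →ₐ[R] Λ)
    (hmin : (⊥ : Ideal Λ) ∈ (Smoothing.singRad R φ).minimalPrimes) :
    Smoothing.Resolvable R φ (⊥ : Ideal Λ) := by
  classical
  have hinj : Function.Injective (algebraMap R Λ) := FaithfulSMul.algebraMap_injective R Λ
  have hcomap : ∀ x : R, x ∈ (⊥ : Ideal Λ).comap (algebraMap R Λ) ↔ x = 0 := by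
    intro x
    rw [Ideal.mem_comap, Ideal.mem_bot]
    constructor
    · intro hx
      apply hinj
      rw [hx, map_zero]
    · intro hx
      rw [hx, map_zero]
  haveI hlocK : IsLocalization.AtPrime K ((⊥ : Ideal Λ).comap (algebraMap R Λ)) := by
    have h1 : ((⊥ : Ideal Λ).comap (algebraMap R Λ)).primeCompl = nonZeroDivisors R := by
      ext x
      rw [mem_nonZeroDivisors_iff_ne_zero]
      show ¬ (x ∈ (⊥ : Ideal Λ).comap (algebraMap R Λ)) ↔ x ≠ 0
      rw [hcomap]
    show IsLocalization ((⊥ : Ideal Λ).comap (algebraMap R Λ)).primeCompl K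
    rw [h1]
    infer_instance
  haveI hlocL : IsLocalization.AtPrime L (⊥ : Ideal Λ) := by
    show IsLocalization (⊥ : Ideal Λ).primeCompl L
    rw [Ideal.primeCompl_bot]
    infer_instance
  haveI hprime : ((⊥ : Ideal Λ).map (algebraMap Λ L)).IsPrime := by
    rw [Ideal.map_bot]
    exact Ideal.isPrime_bot
  have hind : Smoothing.IndSmooth K L := SepIndSmH4.indSmooth_of_isGeometricallyReduced
  exact Deloc2H4.main2034 (Rₚ := K) (Λq := L) φ ⊥ hmin (ringKrullDim_eq_zero_of_field L)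
    (SepIndSmH4.resolvable_of_indSmooth hind _ _)

end Bot

section HRes

variable {R Λ C : Type u} [CommRing R] [IsDomain R] [IsDiscreteValuationRing R] [CommRing Λ]
  [IsDomain Λ] [IsDiscreteValuationRing Λ] [Algebra R Λ] [NoZeroSMulDivisors R Λ]
  [IsLocalHom (algebraMap R Λ)] (K : Ideal R)

local notation "JL" => Ideal.map (algebraMap R Λ) K

theorem hres_dvr
    (he : (IsLocalRing.maximalIdeal R).map (algebraMap R Λ) = IsLocalRing.maximalIdeal Λ)
    (hind : Smoothing.IndSmooth (IsLocalRing.ResidueField R) (IsLocalRing.ResidueField Λ))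
    (ϖ : R) (hmR : IsLocalRing.maximalIdeal R = Ideal.span {ϖ}) (e : ℕ) (he1 : 1 ≤ e)
    (hK : K = Ideal.span {ϖ ^ e})
    [CommRing C] [Algebra R C] [Algebra.FinitePresentation R C]
    (φK : (C ⧸ K.map (algebraMap R C)) →ₐ[R ⧸ K] (Λ ⧸ JL)) :
    Smoothing.Resolvable (R ⧸ K) φK
      ((IsLocalRing.maximalIdeal Λ).map (Ideal.Quotient.mk JL)) := by
  classical
  have hϖm : ϖ ∈ IsLocalRing.maximalIdeal R := by
    rw [hmR]
    exact Ideal.mem_span_singleton_self ϖ
  have hKm : K ≤ IsLocalRing.maximalIdeal R := by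
    rw [hK, Ideal.span_le, Set.singleton_subset_iff]
    exact Ideal.pow_mem_of_mem (IsLocalRing.maximalIdeal R) hϖm e (by omega)
  have hmapm : ∀ f ∈ IsLocalRing.maximalIdeal R,
      algebraMap R Λ f ∈ IsLocalRing.maximalIdeal Λ := by
    intro f hf
    rw [← he]
    exact Ideal.mem_map_of_mem _ hf
  have hJmax : JL ≤ IsLocalRing.maximalIdeal Λ := by
    rw [Ideal.map_le_iff_le_comap]
    exact fun f hf => hmapm f (hKm hf)
  haveI hqb : ((IsLocalRing.maximalIdeal Λ).map (Ideal.Quotient.mk JL)).IsPrime :=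
    Ideal.map_isPrime_of_surjective Ideal.Quotient.mk_surjective (by
      rw [Ideal.mk_ker]
      exact hJmax)
  haveI hloc : IsLocalization.AtPrime (Λ ⧸ JL)
      ((IsLocalRing.maximalIdeal Λ).map (Ideal.Quotient.mk JL)) := by
    show IsLocalization ((IsLocalRing.maximalIdeal Λ).map (Ideal.Quotient.mk JL)).primeCompl
      (Λ ⧸ JL)
    apply IsLocalization.self
    intro x hx
    have hx' : x ∉ (IsLocalRing.maximalIdeal Λ).map (Ideal.Quotient.mk JL) := hx
    obtain ⟨y, rfl⟩ := Ideal.Quotient.mk_surjective x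
    have hy : y ∉ IsLocalRing.maximalIdeal Λ := fun hy => hx' (Ideal.mem_map_of_mem _ hy)
    have hyu : IsUnit y := IsLocalRing.notMem_maximalIdeal.mp hy
    rw [IsUnit.mem_submonoid_iff]
    exact hyu.map (Ideal.Quotient.mk JL)
  haveI hflat : Module.Flat (R ⧸ K) (Λ ⧸ JL) :=
    Module.Flat.of_linearEquiv
      (Algebra.TensorProduct.quotIdealMapEquivQuotTensor Λ K).toLinearEquiv
  have halg : ∀ f : R, algebraMap (R ⧸ K) (Λ ⧸ JL) (Ideal.Quotient.mk K f) =
      Ideal.Quotient.mk JL (algebraMap R Λ f) := fun f => rfl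
  -- the residue map of `R ⧸ K`
  obtain ⟨p, hp_mk⟩ : ∃ p : (R ⧸ K) →+* IsLocalRing.ResidueField R,
      ∀ f, p (Ideal.Quotient.mk K f) = IsLocalRing.residue R f :=
    ⟨Ideal.Quotient.lift K (IsLocalRing.residue R)
      (fun f hf => (IsLocalRing.residue_eq_zero_iff f).mpr (hKm hf)), fun f => rfl⟩
  have hp : Function.Surjective p := by
    intro z
    obtain ⟨f, rfl⟩ := IsLocalRing.residue_surjective z
    exact ⟨Ideal.Quotient.mk K f, hp_mk f⟩
  have hkerp : RingHom.ker p = (IsLocalRing.maximalIdeal R).map (Ideal.Quotient.mk K) := by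
    ext x
    obtain ⟨f, rfl⟩ := Ideal.Quotient.mk_surjective x
    rw [RingHom.mem_ker, hp_mk, IsLocalRing.residue_eq_zero_iff,
      Ideal.mem_quotient_iff_mem hKm]
  have hnil : IsNilpotent (RingHom.ker p) := by
    rw [Ideal.FG.isNilpotent_iff_le_nilradical (IsNoetherian.noetherian _)]
    intro x hx
    obtain ⟨f, rfl⟩ := Ideal.Quotient.mk_surjective x
    have h1 : IsLocalRing.residue R f = 0 := by
      rw [← hp_mk]
      exact RingHom.mem_ker.mp hx
    have h2 : f ∈ IsLocalRing.maximalIdeal R := (IsLocalRing.residue_eq_zero_iff f).mp h1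
    rw [hmR, Ideal.mem_span_singleton] at h2
    obtain ⟨g, hg⟩ := h2
    rw [mem_nilradical]
    refine ⟨e, ?_⟩
    rw [← map_pow, Ideal.Quotient.eq_zero_iff_mem, hK, hg, mul_pow]
    exact Ideal.mul_mem_right _ _ (Ideal.mem_span_singleton_self _)
  have hpq0 : ∀ x, p x = 0 → algebraMap (R ⧸ K) (Λ ⧸ JL) x ∈
      (IsLocalRing.maximalIdeal Λ).map (Ideal.Quotient.mk JL) := by
    intro x hx
    obtain ⟨f, rfl⟩ := Ideal.Quotient.mk_surjective x
    rw [hp_mk] at hx
    have h1 : f ∈ IsLocalRing.maximalIdeal R := (IsLocalRing.residue_eq_zero_iff f).mp hx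
    rw [halg]
    exact Ideal.mem_map_of_mem _ (hmapm f h1)
  -- the residue map of `Λ ⧸ JL`
  obtain ⟨q, hq_mk⟩ : ∃ q : (Λ ⧸ JL) →+* IsLocalRing.ResidueField Λ,
      ∀ t, q (Ideal.Quotient.mk JL t) = IsLocalRing.residue Λ t :=
    ⟨Ideal.Quotient.lift JL (IsLocalRing.residue Λ)
      (fun t ht => (IsLocalRing.residue_eq_zero_iff t).mpr (hJmax ht)), fun t => rfl⟩
  have hq : Function.Surjective q := by
    intro z
    obtain ⟨t, rfl⟩ := IsLocalRing.residue_surjective z
    exact ⟨Ideal.Quotient.mk JL t, hq_mk t⟩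
  have hpq : ∀ x, q (algebraMap (R ⧸ K) (Λ ⧸ JL) x) =
      algebraMap (IsLocalRing.ResidueField R) (IsLocalRing.ResidueField Λ) (p x) := by
    intro x
    obtain ⟨f, rfl⟩ := Ideal.Quotient.mk_surjective x
    rw [halg, hq_mk, hp_mk]
    rfl
  have hkerq : RingHom.ker q = (IsLocalRing.maximalIdeal Λ).map (Ideal.Quotient.mk JL) := by
    ext x
    obtain ⟨t, rfl⟩ := Ideal.Quotient.mk_surjective x
    rw [RingHom.mem_ker, hq_mk, IsLocalRing.residue_eq_zero_iff,
      Ideal.mem_quotient_iff_mem hJmax]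
  have hcomp : (algebraMap (R ⧸ K) (Λ ⧸ JL)).comp (Ideal.Quotient.mk K) =
      (Ideal.Quotient.mk JL).comp (algebraMap R Λ) := RingHom.ext halg
  have hker : RingHom.ker q = (RingHom.ker p).map (algebraMap (R ⧸ K) (Λ ⧸ JL)) := by
    rw [hkerq, hkerp]
    have e1 : Ideal.map (algebraMap (R ⧸ K) (Λ ⧸ JL))
        (Ideal.map (Ideal.Quotient.mk K) (IsLocalRing.maximalIdeal R)) =
        Ideal.map ((algebraMap (R ⧸ K) (Λ ⧸ JL)).comp (Ideal.Quotient.mk K))
          (IsLocalRing.maximalIdeal R) := Ideal.map_map _ _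
    have e2 : Ideal.map (Ideal.Quotient.mk JL)
        (Ideal.map (algebraMap R Λ) (IsLocalRing.maximalIdeal R)) =
        Ideal.map ((Ideal.Quotient.mk JL).comp (algebraMap R Λ))
          (IsLocalRing.maximalIdeal R) := Ideal.map_map _ _
    rw [e1, hcomp, ← e2, he]
  -- finite presentation of the quotient
  have hsurjR : Function.Surjective (algebraMap R (R ⧸ K)) := Ideal.Quotient.mk_surjective
  have hkerA : ∀ x, Ideal.Quotient.mkₐ R (K.map (algebraMap R C)) x = 0 →
      x ∈ (RingHom.ker (algebraMap R (R ⧸ K))).map (algebraMap R C) := by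
    intro x hx
    have e1 : RingHom.ker (algebraMap R (R ⧸ K)) = K := Ideal.mk_ker
    rw [e1]
    exact Ideal.Quotient.eq_zero_iff_mem.mp hx
  haveI : Algebra.FinitePresentation (R ⧸ K) (C ⧸ K.map (algebraMap R C)) :=
    Groth.Agent.Lib.ResolveStepH4.fp_flex hsurjR (Ideal.Quotient.mkₐ R (K.map (algebraMap R C)))
      (Ideal.Quotient.mkₐ_surjective R _) hkerA
  exact Groth.Agent.Lib.ResolveLocalH4.resolvable_local (Lq := Λ ⧸ JL) φK _ p hp hnil hpq0 q hq
    hpq hker hind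

end HRes

section Max

theorem case_max {R Λ A : Type u} [CommRing R] [IsDomain R] [IsDiscreteValuationRing R]
    [CommRing Λ] [IsDomain Λ] [IsDiscreteValuationRing Λ] [Algebra R Λ]
    [NoZeroSMulDivisors R Λ] [IsLocalHom (algebraMap R Λ)]
    (he : (IsLocalRing.maximalIdeal R).map (algebraMap R Λ) = IsLocalRing.maximalIdeal Λ)
    [Algebra.IsGeometricallyReduced (IsLocalRing.ResidueField R) (IsLocalRing.ResidueField Λ)]
    [CommRing A] [Algebra R A] [Algebra.FinitePresentation R A] (φ : A →ₐ[R] Λ)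
    (hmin : IsLocalRing.maximalIdeal Λ ∈ (Smoothing.singRad R φ).minimalPrimes) :
    Smoothing.Resolvable R φ (IsLocalRing.maximalIdeal Λ) := by
  classical
  have hind : Smoothing.IndSmooth (IsLocalRing.ResidueField R) (IsLocalRing.ResidueField Λ) :=
    SepIndSmH4.indSmooth_of_isGeometricallyReduced
  obtain ⟨ϖ, hϖ⟩ := IsDiscreteValuationRing.exists_irreducible R
  have hmR : IsLocalRing.maximalIdeal R = Ideal.span {ϖ} := hϖ.maximalIdeal_eq
  obtain ⟨π, hπ⟩ : ∃ π : Λ, π = algebraMap R Λ ϖ := ⟨_, rfl⟩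
  have hmΛ : IsLocalRing.maximalIdeal Λ = Ideal.span {π} := by
    rw [← he, hmR, Ideal.map_span, Set.image_singleton, hπ]
  have hπirr : Irreducible π :=
    (IsDiscreteValuationRing.irreducible_iff_uniformizer π).mpr hmΛ
  have hϖ0 : ϖ ≠ 0 := hϖ.ne_zero
  have hπ0 : π ≠ 0 := hπirr.ne_zero
  have hπm : π ∈ IsLocalRing.maximalIdeal Λ := by
    rw [hmΛ]
    exact Ideal.mem_span_singleton_self π
  -- generators of the singular ideal
  haveI hAN : IsNoetherianRing A := Algebra.FiniteType.isNoetherianRing R A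
  obtain ⟨r, a, ha0⟩ := Submodule.fg_iff_exists_fin_generating_family.mp
    (IsNoetherian.noetherian (Smoothing.singularIdeal R A))
  have ha : Ideal.span (Set.range a) = Smoothing.singularIdeal R A := ha0
  have haH : ∀ j, a j ∈ Smoothing.singularIdeal R A := by
    intro j
    rw [← ha]
    exact Ideal.subset_span ⟨j, rfl⟩
  have hasm : ∀ j, Algebra.FormallySmooth R (Localization.Away (a j)) := fun j =>
    (ResolveSepH4.smooth_away_of_mem (a j) (haH j)).formallySmooth
  obtain ⟨I, hI⟩ : ∃ I : Ideal Λ, I = (Smoothing.singularIdeal R A).map φ := ⟨_, rfl⟩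
  have hminI : IsLocalRing.maximalIdeal Λ ∈ I.minimalPrimes := by
    rw [hI, ← Ideal.radical_minimalPrimes]
    exact hmin
  have hIspan : I = Ideal.span (Set.range fun j => φ (a j)) := by
    rw [hI, ← ha, Ideal.map_span, ← Set.range_comp]
    rfl
  have hIne : I ≠ ⊥ := by
    intro hbot
    have hPP : (⊥ : Ideal Λ).IsPrime ∧ I ≤ ⊥ := ⟨Ideal.isPrime_bot, le_of_eq hbot⟩
    have hle : IsLocalRing.maximalIdeal Λ ≤ ⊥ := hminI.2 hPP bot_le
    exact hπ0 (Ideal.mem_bot.mp (hle hπm))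
  obtain ⟨N, hN⟩ := IsDiscreteValuationRing.ideal_eq_span_pow_irreducible hIne hπirr
  have hπN : π ^ N ∈ Ideal.span (Set.range fun j => φ (a j)) := by
    rw [← hIspan, hN]
    exact Ideal.mem_span_singleton_self _
  obtain ⟨lam, hlam⟩ := Ideal.mem_span_range_iff_exists_fun.mp hπN
  -- the algebras `B` and `C`
  obtain ⟨φB, hφBC, hφBX⟩ := NeronAlg2H4.exists_algHom r a (ϖ ^ N) φ lam (by
    rw [φ.commutes, map_pow, ← hπ]
    exact hlam.symm)
  have hBsm : ∀ b : NeronAlg2H4.BB r a (ϖ ^ N),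
      b ∈ (Ideal.span (Set.range fun j => NeronAlg2H4.α r a (ϖ ^ N) (a j))).radical →
      Algebra.Smooth R (Localization.Away b) :=
    fun b hb => NeronAlg2H4.smooth_away r a (ϖ ^ N) hasm b hb
  have hϖrad : algebraMap R (NeronAlg2H4.BB r a (ϖ ^ N)) ϖ ∈
      (Ideal.span (Set.range fun j => NeronAlg2H4.α r a (ϖ ^ N) (a j))).radical :=
    ⟨N, by
      rw [← map_pow]
      exact NeronAlg2H4.u_mem r a (ϖ ^ N)⟩
  obtain ⟨C, iC1, iC2, iC3, iC4, hCfp, ⟨ρ⟩, hC⟩ :=
    ElkikFreeH4.main_elkik (R := R) (A := NeronAlg2H4.BB r a (ϖ ^ N))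
  haveI := hCfp
  obtain ⟨e₀, he₀⟩ := (hC _ (hBsm _ hϖrad)).2
  obtain ⟨c, hc1, hce⟩ : ∃ c : ℕ, 1 ≤ c ∧ e₀ ≤ c := ⟨e₀ + 1, by omega, by omega⟩
  obtain ⟨π', hπ'⟩ : ∃ π' : Fin 1 → R, ∀ i, π' i = ϖ ^ c := ⟨fun _ => ϖ ^ c, fun _ => rfl⟩
  have hstd : ∀ i : Fin 1, Smoothing.IsStrictlyStandard R C (algebraMap R C (π' i)) := by
    intro i
    have h1 := he₀ c hce
    rw [← IsScalarTower.algebraMap_apply R (NeronAlg2H4.BB r a (ϖ ^ N)) C, ← map_pow] at h1
    rw [hπ']
    exact h1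
  obtain ⟨φC, hφC⟩ : ∃ φC : C →ₐ[R] Λ, ∀ x, φC x = φB (ρ x) :=
    ⟨φB.comp (ρ.restrictScalars R), fun _ => rfl⟩
  have hρ : ∀ b, ρ (algebraMap (NeronAlg2H4.BB r a (ϖ ^ N)) C b) = b := fun b => ρ.commutes b
  have hφCα : ∀ x : A, φC (algebraMap (NeronAlg2H4.BB r a (ϖ ^ N)) C
      (NeronAlg2H4.α r a (ϖ ^ N) x)) = φ x := by
    intro x
    rw [hφC, hρ, NeronAlg2H4.α_apply, hφBC]
  -- the ideal `K`
  obtain ⟨K, hK⟩ : ∃ K : Ideal R, K = Ideal.span (Set.range fun i => π' i ^ 8) := ⟨_, rfl⟩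
  have hK' : K = Ideal.span {ϖ ^ (c * 8)} := by
    have h1 : (Set.range fun i : Fin 1 => π' i ^ 8) = {ϖ ^ (c * 8)} := by
      ext x
      rw [Set.mem_singleton_iff]
      constructor
      · rintro ⟨i, rfl⟩
        show π' i ^ 8 = ϖ ^ (c * 8)
        rw [hπ', ← pow_mul]
      · intro hx
        refine ⟨0, ?_⟩
        show π' 0 ^ 8 = x
        rw [hx, hπ', ← pow_mul]
    rw [hK, h1]
  obtain ⟨φK, hφK⟩ := ResolveIndH4.exists_φQ φC K
  have hresK := hres_dvr K he hind ϖ hmR (c * 8) (by omega) hK' φK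
  have hempty : ∀ i : Fin 1, IsEmpty {j : Fin 1 // (j : ℕ) < (i : ℕ)} := by
    intro i
    refine ⟨fun j => ?_⟩
    have h1 : ((j : Fin 1) : ℕ) < (i : ℕ) := j.2
    have h2 : (i : ℕ) < 1 := i.isLt
    omega
  have hR : ∀ i : Fin 1, ∀ x : R ⧸ Ideal.span
        (Set.range fun j : {j : Fin 1 // (j : ℕ) < (i : ℕ)} => π' j ^ 8),
      Ideal.Quotient.mk _ (π' i) ^ 2 * x = 0 → Ideal.Quotient.mk _ (π' i) * x = 0 := by
    intro i x hx
    haveI := hempty i
    obtain ⟨f, rfl⟩ := Ideal.Quotient.mk_surjective x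
    rw [← map_pow, ← map_mul, Ideal.Quotient.eq_zero_iff_mem] at hx
    rw [← map_mul, Ideal.Quotient.eq_zero_iff_mem]
    have hbot : Ideal.span
        (Set.range fun j : {j : Fin 1 // (j : ℕ) < (i : ℕ)} => π' j ^ 8) = ⊥ := by
      rw [Set.range_eq_empty, Ideal.span_empty]
    rw [hbot, Ideal.mem_bot] at hx ⊢
    have h1 : π' i ≠ 0 := by
      rw [hπ']
      exact pow_ne_zero _ hϖ0
    rcases mul_eq_zero.mp hx with h3 | h3
    · exact absurd h3 (pow_ne_zero 2 h1)
    · rw [h3, mul_zero]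
  have hΛ : ∀ i : Fin 1, ∀ x : Λ ⧸ Ideal.span
        (Set.range fun j : {j : Fin 1 // (j : ℕ) < (i : ℕ)} => algebraMap R Λ (π' j) ^ 8),
      Ideal.Quotient.mk _ (algebraMap R Λ (π' i)) ^ 2 * x = 0 →
        Ideal.Quotient.mk _ (algebraMap R Λ (π' i)) * x = 0 := by
    intro i x hx
    haveI := hempty i
    obtain ⟨y, rfl⟩ := Ideal.Quotient.mk_surjective x
    rw [← map_pow, ← map_mul, Ideal.Quotient.eq_zero_iff_mem] at hx
    rw [← map_mul, Ideal.Quotient.eq_zero_iff_mem]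
    have hbot : Ideal.span
        (Set.range fun j : {j : Fin 1 // (j : ℕ) < (i : ℕ)} =>
          algebraMap R Λ (π' j) ^ 8) = ⊥ := by
      rw [Set.range_eq_empty, Ideal.span_empty]
    rw [hbot, Ideal.mem_bot] at hx ⊢
    have h1 : algebraMap R Λ (π' i) ≠ 0 := by
      rw [hπ', map_pow, ← hπ]
      exact pow_ne_zero _ hπ0
    rcases mul_eq_zero.mp hx with h3 | h3
    · exact absurd h3 (pow_ne_zero 2 h1)
    · rw [h3, mul_zero]
  have hπ𝔮' : ∀ i, algebraMap R Λ (π' i) ∈ IsLocalRing.maximalIdeal Λ := by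
    intro i
    rw [hπ', map_pow, ← hπ]
    exact Ideal.pow_mem_of_mem (IsLocalRing.maximalIdeal Λ) hπm c (by omega)
  obtain ⟨D, iD1, iD2, hDfp, g, h, hgh, hle, hnle⟩ :=
    ResolveIndH4.main6822 φC (IsLocalRing.maximalIdeal Λ) (Nat.zero_lt_one) π' hπ𝔮' hR hΛ hstd
      K hK φK hφK hresK
  obtain ⟨gA, hgA⟩ : ∃ gA : A →ₐ[R] D, ∀ x, gA x =
      g (algebraMap (NeronAlg2H4.BB r a (ϖ ^ N)) C (NeronAlg2H4.α r a (ϖ ^ N) x)) :=
    ⟨g.comp ((IsScalarTower.toAlgHom R (NeronAlg2H4.BB r a (ϖ ^ N)) C).comp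
      (NeronAlg2H4.α r a (ϖ ^ N))), fun _ => rfl⟩
  refine ⟨D, iD1, iD2, hDfp, gA, h, ?_, ?_, hnle⟩
  · apply AlgHom.ext
    intro x
    show h (gA x) = φ x
    rw [hgA]
    have h2 : h (g (algebraMap (NeronAlg2H4.BB r a (ϖ ^ N)) C
        (NeronAlg2H4.α r a (ϖ ^ N) x))) =
        φC (algebraMap (NeronAlg2H4.BB r a (ϖ ^ N)) C (NeronAlg2H4.α r a (ϖ ^ N) x)) :=
      AlgHom.congr_fun hgh _
    rw [h2, hφCα]
  · refine le_trans ?_ hle
    unfold Smoothing.singRad
    rw [Ideal.radical_le_radical_iff, Ideal.map_le_iff_le_comap]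
    intro x hx
    rw [Ideal.mem_comap]
    apply Ideal.le_radical
    rw [← hφCα x]
    apply Ideal.mem_map_of_mem
    apply ResolveSepH4.mem_of_smooth_away
    refine (hC _ (hBsm _ ?_)).1
    apply Ideal.le_radical
    have h1 : x ∈ Ideal.span (Set.range a) := by
      rw [ha]
      exact hx
    have h2 := Ideal.mem_map_of_mem (NeronAlg2H4.α r a (ϖ ^ N)) h1
    rw [Ideal.map_span, ← Set.range_comp] at h2
    exact h2

end Max

section Main

theorem main6830 {R Λ K L : Type u} [CommRing R] [IsDomain R]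
    [IsDiscreteValuationRing R] [CommRing Λ] [IsDomain Λ] [IsDiscreteValuationRing Λ] [Algebra R Λ]
    [NoZeroSMulDivisors R Λ] [IsLocalHom (algebraMap R Λ)]
    (he : (IsLocalRing.maximalIdeal R).map (algebraMap R Λ) = IsLocalRing.maximalIdeal Λ)
    [Algebra.IsGeometricallyReduced (IsLocalRing.ResidueField R) (IsLocalRing.ResidueField Λ)]
    [Field K] [Algebra R K] [IsFractionRing R K] [Field L] [Algebra Λ L] [IsFractionRing Λ L]
    [Algebra K L] [Algebra R L] [IsScalarTower R K L] [IsScalarTower R Λ L]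
    [Algebra.IsGeometricallyReduced K L] :
    Smoothing.IndSmooth R Λ := by
  apply IndSmResH4.indSmooth_of_resolvable
  intro A _ _ _ φ 𝔮 _ hmin
  by_cases hq : 𝔮 = ⊥
  · subst hq
    exact case_bot (K := K) (L := L) φ hmin
  · have hmax : 𝔮 = IsLocalRing.maximalIdeal Λ :=
      IsLocalRing.eq_maximalIdeal (Ideal.IsPrime.isMaximal inferInstance hq)
    subst hmax
    exact case_max he φ hmin

end Main

end Groth.Agent.Lib.DvrIndSmH4
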