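import Mathlib
import Groth.Agent.S4433

/-!
# A DVR of `L` centred at a prime of a Noetherian ring mapping to `L` (helper6)
-/

set_option autoImplicit false
universe u

namespace Groth.Agent.Lib.ValCrit

/-- A Noetherian local domain `D`, not a field, with an injective essentially finite type map
to a field `L`, is dominated by a discrete valuation subring of `L`. -/
theorem exists_dvr_of_injective {D : Type u} [CommRing D] [IsDomain D] [IsNoetherianRing D]
    [IsLocalRing D] (hD : ¬ IsField D) {L : Type u} [Field L] (g : D →+* L)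
    (hg_inj : Function.Injective g) (hg : g.EssFiniteType) :
    ∃ R : ValuationSubring L, IsDiscreteValuationRing R ∧ (∀ a : D, g a ∈ R) ∧
      ∀ a ∈ IsLocalRing.maximalIdeal D, R.valuation (g a) < 1 := by
  letI algDL : Algebra D L := g.toAlgebra
  letI algKL : Algebra (FractionRing D) L :=
    (IsFractionRing.lift (K := FractionRing D) hg_inj).toAlgebra
  haveI : IsScalarTower D (FractionRing D) L := IsScalarTower.of_algebraMap_eq (fun x => by
    change g x = IsFractionRing.lift hg_inj (algebraMap D (FractionRing D) x)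
    rw [IsFractionRing.lift_algebraMap])
  haveI : Algebra.EssFiniteType D L := hg
  haveI : Algebra.EssFiniteType (FractionRing D) L :=
    Algebra.EssFiniteType.of_comp D (FractionRing D) L
  have hfg : (⊤ : IntermediateField (FractionRing D) L).FG :=
    IntermediateField.fg_top (FractionRing D) L
  exact Groth.Agent.S4433.result D hD (FractionRing D) L hfg

/-- Let `B` be a Noetherian ring, `φ : B → L` a ring map to a field, essentially of finite type,
and `q'` a prime of `B` strictly containing `ker φ`. Then there is a discrete valuation subring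
`R` of `L` containing `φ(B)` whose maximal ideal pulls back to `q'`. -/
theorem exists_dvr_of_ringHom {B : Type u} [CommRing B] [IsNoetherianRing B] {L : Type u} [Field L]
    (φ : B →+* L) (hφ : φ.EssFiniteType)
    (q' : Ideal B) [hq' : q'.IsPrime] (hle : RingHom.ker φ ≤ q') (hne : ∃ b ∈ q', φ b ≠ 0) :
    ∃ R : ValuationSubring L, IsDiscreteValuationRing R ∧ (∀ b, φ b ∈ R) ∧
      ∀ b, R.valuation (φ b) < 1 ↔ b ∈ q' := by
  classical
  -- the domain `B / ker φ`
  haveI hqprime : (RingHom.ker φ).IsPrime := RingHom.ker_isPrime φ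
  have hφb_inj : Function.Injective (RingHom.kerLift φ) := RingHom.kerLift_injective φ
  have hφb_mk : ∀ b : B, RingHom.kerLift φ (Ideal.Quotient.mk _ b) = φ b :=
    fun b => RingHom.kerLift_mk φ b
  -- the prime `P` of `B / ker φ`
  obtain ⟨P, hPdef⟩ : ∃ P : Ideal (B ⧸ RingHom.ker φ),
      P = q'.map (Ideal.Quotient.mk (RingHom.ker φ)) := ⟨_, rfl⟩
  have hPcomap : P.comap (Ideal.Quotient.mk (RingHom.ker φ)) = q' := by
    rw [hPdef, Ideal.comap_map_of_surjective _ Ideal.Quotient.mk_surjective]
    refine sup_eq_left.2 ?_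
    rw [← RingHom.ker_eq_comap_bot, Ideal.mk_ker]
    exact hle
  haveI hPprime : P.IsPrime := by
    rw [hPdef]
    exact Ideal.map_isPrime_of_surjective Ideal.Quotient.mk_surjective
      (by rw [Ideal.mk_ker]; exact hle)
  have hmemP : ∀ b : B, Ideal.Quotient.mk (RingHom.ker φ) b ∈ P ↔ b ∈ q' := by
    intro b
    rw [← Ideal.mem_comap, hPcomap]
  -- the local domain `D = (B / ker φ)_P`
  haveI : IsDomain (Localization.AtPrime P) :=
    IsLocalization.isDomain_localization (Ideal.primeCompl_le_nonZeroDivisors P)
  haveI : IsNoetherianRing (Localization.AtPrime P) :=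
    IsLocalization.isNoetherianRing P.primeCompl _ inferInstance
  have hunit : ∀ y : P.primeCompl, IsUnit (RingHom.kerLift φ y) := by
    intro y
    rw [isUnit_iff_ne_zero, Ne, map_eq_zero_iff _ hφb_inj]
    intro h0
    exact y.2 (by rw [h0]; exact zero_mem P)
  obtain ⟨g, hgdef⟩ : ∃ g : Localization.AtPrime P →+* L, g = IsLocalization.lift hunit :=
    ⟨_, rfl⟩
  have hg_alg : ∀ x : B ⧸ RingHom.ker φ,
      g (algebraMap _ (Localization.AtPrime P) x) = RingHom.kerLift φ x := fun x => by
    rw [hgdef]; exact IsLocalization.lift_eq hunit x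
  have hg_inj : Function.Injective g := by
    rw [hgdef, IsLocalization.lift_injective_iff]
    intro x y
    rw [hφb_inj.eq_iff]
    exact (IsLocalization.injective (Localization.AtPrime P)
      (Ideal.primeCompl_le_nonZeroDivisors P)).eq_iff
  have hφD : ∀ b : B, φ b = g (algebraMap _ (Localization.AtPrime P)
      (Ideal.Quotient.mk (RingHom.ker φ) b)) := by
    intro b
    rw [hg_alg, hφb_mk]
  have hD : ¬ IsField (Localization.AtPrime P) := by
    intro hfield
    obtain ⟨b, hb, hb0⟩ := hne
    have h1 : algebraMap _ (Localization.AtPrime P) (Ideal.Quotient.mk (RingHom.ker φ) b) ∈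
        IsLocalRing.maximalIdeal (Localization.AtPrime P) := by
      rw [← Localization.AtPrime.map_eq_maximalIdeal (I := P)]
      exact Ideal.mem_map_of_mem _ ((hmemP b).2 hb)
    have h2 : IsLocalRing.maximalIdeal (Localization.AtPrime P) = ⊥ :=
      IsLocalRing.isField_iff_maximalIdeal_eq.1 hfield
    rw [h2, Ideal.mem_bot] at h1
    have h3 := congrArg g h1
    rw [← hφD, map_zero] at h3
    exact hb0 h3
  -- essential finiteness of `g`
  have hg_ess : g.EssFiniteType := by
    have h1 : φ = g.comp ((algebraMap (B ⧸ RingHom.ker φ) (Localization.AtPrime P)).comp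
        (Ideal.Quotient.mk (RingHom.ker φ))) := by
      ext b
      exact hφD b
    rw [h1] at hφ
    exact RingHom.EssFiniteType.of_comp _ hφ
  obtain ⟨R, hR, hRmem, hRmax⟩ := exists_dvr_of_injective hD g hg_inj hg_ess
  refine ⟨R, hR, fun b => by rw [hφD]; exact hRmem _, fun b => ⟨?_, ?_⟩⟩
  · intro hlt
    by_contra hb
    have hbP : Ideal.Quotient.mk (RingHom.ker φ) b ∉ P := fun h => hb ((hmemP b).1 h)
    have hu : IsUnit (algebraMap _ (Localization.AtPrime P)
        (Ideal.Quotient.mk (RingHom.ker φ) b)) :=
      IsLocalization.map_units (Localization.AtPrime P) (⟨_, hbP⟩ : P.primeCompl)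
    obtain ⟨u, hu⟩ := hu
    have h1 : g (u : Localization.AtPrime P) * g ((u⁻¹ : (Localization.AtPrime P)ˣ) :
        Localization.AtPrime P) = 1 := by
      rw [← map_mul, Units.mul_inv, map_one]
    have h2 : R.valuation (g ((u⁻¹ : (Localization.AtPrime P)ˣ) : Localization.AtPrime P)) ≤ 1 :=
      (R.valuation_le_one_iff _).2 (hRmem _)
    have h3 := congrArg R.valuation h1
    rw [map_mul, map_one, hu, ← hφD] at h3
    have h4 : R.valuation (φ b) *
        R.valuation (g ((u⁻¹ : (Localization.AtPrime P)ˣ) : Localization.AtPrime P)) < 1 := by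
      calc R.valuation (φ b) *
            R.valuation (g ((u⁻¹ : (Localization.AtPrime P)ˣ) : Localization.AtPrime P))
          ≤ R.valuation (φ b) * 1 := mul_le_mul_right h2 _
        _ = R.valuation (φ b) := mul_one _
        _ < 1 := hlt
    rw [h3] at h4
    exact lt_irrefl _ h4
  · intro hb
    rw [hφD]
    apply hRmax
    rw [← Localization.AtPrime.map_eq_maximalIdeal (I := P)]
    exact Ideal.mem_map_of_mem _ ((hmemP b).2 hb)

end Groth.Agent.Lib.ValCrit
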