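import Mathlib
import Groth.Agent.Lib.ValCrit1_helper6

/-!
# A DVR realizing a specialization on a locally Noetherian scheme (helper6)
-/

set_option autoImplicit false
universe u

open AlgebraicGeometry CategoryTheory

namespace Groth.Agent.Lib.ValCrit

/-- The ring map `Γ(Y, V) → κ(x)` for `p x ∈ V`. -/
noncomputable def evalMap {X Y : Scheme.{u}} (p : X ⟶ Y) (x : X) (V : Y.Opens) (hV : p x ∈ V) :
    Γ(Y, V) ⟶ X.residueField x :=
  Y.evaluation V (p x) hV ≫ p.residueFieldMap x

theorem specMap_evalMap_fromSpec {X Y : Scheme.{u}} (p : X ⟶ Y) (x : X) (V : Y.Opens)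
    (hVaff : IsAffineOpen V) (hV : p x ∈ V) :
    Spec.map (evalMap p x V hV) ≫ hVaff.fromSpec = X.fromSpecResidueField x ≫ p := by
  rw [← Scheme.Hom.SpecMap_residueFieldMap_fromSpecResidueField]
  unfold Scheme.fromSpecResidueField
  rw [← hVaff.fromSpecStalk_eq_fromSpecStalk hV]
  unfold IsAffineOpen.fromSpecStalk evalMap
  rw [← Scheme.germ_residue, Spec.map_comp, Spec.map_comp, Category.assoc, Category.assoc]

theorem essFiniteType_evalMap {X Y : Scheme.{u}} (p : X ⟶ Y) [LocallyOfFiniteType p] (x : X)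
    (V : Y.Opens) (hVaff : IsAffineOpen V) (hV : p x ∈ V) :
    (evalMap p x V hV).hom.EssFiniteType := by
  have h1 : evalMap p x V hV =
      Y.presheaf.germ V (p x) hV ≫ p.stalkMap x ≫ X.residue x := by
    unfold evalMap
    rw [← Scheme.germ_residue, Category.assoc, Scheme.residue_residueFieldMap]
  rw [h1, CommRingCat.hom_comp, CommRingCat.hom_comp]
  refine RingHom.EssFiniteType.comp ?_ (RingHom.EssFiniteType.comp ?_ ?_)
  · letI : Algebra Γ(Y, V) (Y.presheaf.stalk (p x)) :=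
      TopCat.Presheaf.algebra_section_stalk Y.presheaf ⟨p x, hV⟩
    haveI : IsLocalization.AtPrime (Y.presheaf.stalk (p x))
        (hVaff.primeIdealOf ⟨p x, hV⟩).asIdeal := hVaff.isLocalization_stalk ⟨p x, hV⟩
    exact Algebra.EssFiniteType.of_isLocalization _
      (hVaff.primeIdealOf ⟨p x, hV⟩).asIdeal.primeCompl
  · exact LocallyOfFiniteType.stalkMap p x
  · exact (RingHom.FiniteType.of_surjective _ (X.residue_surjective x)).essFiniteType

theorem exists_dvr_of_specializes {X Y : Scheme.{u}} [IsLocallyNoetherian Y]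
    (p : X ⟶ Y) [LocallyOfFiniteType p] (x : X) (y' : Y) (hsp : p x ⤳ y') (hne : y' ≠ p x) :
    ∃ (A : ValuationSubring (X.residueField x)) (h : Spec (CommRingCat.of A) ⟶ Y),
      IsDiscreteValuationRing A ∧ h (IsLocalRing.closedPoint A) = y' ∧
      Spec.map (CommRingCat.ofHom A.subtype) ≫ h = X.fromSpecResidueField x ≫ p := by
  obtain ⟨_, ⟨V, hVaff : IsAffineOpen V, rfl⟩, hy'V, -⟩ :=
    Y.isBasis_affineOpens.exists_subset_of_mem_open (Set.mem_univ y') isOpen_univ
  have hyV : p x ∈ V := hsp.mem_open V.2 hy'V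
  haveI : IsNoetherianRing Γ(Y, V) := IsLocallyNoetherian.component_noetherian ⟨V, hVaff⟩
  obtain ⟨φ, hφdef⟩ : ∃ φ : Γ(Y, V) →+* X.residueField x, φ = (evalMap p x V hyV).hom := ⟨_, rfl⟩
  have hφess : φ.EssFiniteType := hφdef ▸ essFiniteType_evalMap p x V hVaff hyV
  have hψ : Spec.map (CommRingCat.ofHom φ) ≫ hVaff.fromSpec = X.fromSpecResidueField x ≫ p := by
    rw [hφdef]
    exact specMap_evalMap_fromSpec p x V hVaff hyV
  -- the prime of `y'`
  obtain ⟨q', hq'⟩ : ∃ q' : Spec Γ(Y, V), hVaff.fromSpec q' = y' := by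
    have : y' ∈ Set.range hVaff.fromSpec := by rw [hVaff.range_fromSpec]; exact hy'V
    exact this
  -- the point `z` of `Spec Γ(Y, V)` image of `Spec κ(x)`
  obtain ⟨z, hzdef⟩ : ∃ z : Spec Γ(Y, V),
      z = Spec.map (CommRingCat.ofHom φ) (IsLocalRing.closedPoint (X.residueField x)) := ⟨_, rfl⟩
  have hz : hVaff.fromSpec z = p x := by
    rw [hzdef, ← Scheme.Hom.comp_apply, hψ, Scheme.Hom.comp_apply,
      Scheme.fromSpecResidueField_apply]
  have hzker : z.asIdeal = RingHom.ker φ := by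
    rw [hzdef]
    ext b
    change φ b ∈ (IsLocalRing.closedPoint (X.residueField x)).asIdeal ↔ _
    rw [RingHom.mem_ker]
    change φ b ∈ IsLocalRing.maximalIdeal (X.residueField x) ↔ _
    rw [IsLocalRing.mem_maximalIdeal, mem_nonunits_iff, isUnit_iff_ne_zero, not_not]
  have hzq : z ⤳ q' := by
    rw [← hVaff.fromSpec.isOpenEmbedding.isInducing.specializes_iff, hz, hq']
    exact hsp
  have hle : RingHom.ker φ ≤ q'.asIdeal := by
    rw [← hzker]
    exact (PrimeSpectrum.le_iff_specializes z q').2 hzq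
  have hne' : ∃ b ∈ q'.asIdeal, φ b ≠ 0 := by
    by_contra hcon
    push_neg at hcon
    have : q'.asIdeal ≤ RingHom.ker φ := fun b hb => hcon b hb
    have heq : z = q' := PrimeSpectrum.ext (by rw [hzker]; exact le_antisymm hle this)
    apply hne
    rw [← hq', ← heq, hz]
  obtain ⟨R, hR, hRmem, hRval⟩ := exists_dvr_of_ringHom φ hφess q'.asIdeal hle hne'
  obtain ⟨φR, hφRdef⟩ : ∃ φR : Γ(Y, V) →+* R, φR = φ.codRestrict R.toSubring hRmem := ⟨_, rfl⟩
  have hφR : ∀ b, ((φR b : R) : X.residueField x) = φ b := fun b => by rw [hφRdef]; rfl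
  refine ⟨R, Spec.map (CommRingCat.ofHom φR) ≫ hVaff.fromSpec, hR, ?_, ?_⟩
  · rw [Scheme.Hom.comp_apply, ← hq']
    congr 1
    apply PrimeSpectrum.ext
    ext b
    change φR b ∈ IsLocalRing.maximalIdeal R ↔ b ∈ q'.asIdeal
    rw [← hRval b, ← hφR b]
    exact R.valuation_lt_one_iff _
  · rw [← Category.assoc, ← Spec.map_comp, ← hψ]
    congr 2
    apply CommRingCat.hom_ext
    ext b
    exact hφR b

end Groth.Agent.Lib.ValCrit
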