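import Mathlib
import Groth.Agent.Lib.NApxO_helper7
import Groth.Agent.Lib.ValCrit2_helper6

/-!
# Properness over a neighbourhood of a point from discrete valuation rings (helper7)

EGA IV 15.7: `f : X ⟶ Y` separated of finite type over a locally Noetherian base, `y : Y`.
If every discrete valuation ring centred at `y` whose generic point lifts to a maximal point of `X`
lifts to `X`, then `f` is proper over an open neighbourhood of `y`.  Proof: Chow's lemma, the
existence of discrete valuation rings through specializations, and the valuative criterion.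
-/

set_option autoImplicit false
set_option linter.style.haveILetI false
universe u
open CategoryTheory CategoryTheory.Limits AlgebraicGeometry TopologicalSpace IsLocalRing

namespace Groth.Agent.Lib.DvrNhdH7

/-- A maximal point of a topological space: a point with no proper generization. -/
def IsMaxPt {T : Type*} [TopologicalSpace T] (x : T) : Prop := ∀ x' : T, x' ⤳ x → x' = x

theorem exists_isMaxPt_specializes {T : Type*} [TopologicalSpace T] [QuasiSober T] [T0Space T]
    (x : T) : ∃ η : T, IsMaxPt η ∧ η ⤳ x := by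
  obtain ⟨η, hη⟩ := QuasiSober.sober (isIrreducible_irreducibleComponent (x := x))
    isClosed_irreducibleComponent
  refine ⟨η, ?_, ?_⟩
  · intro x' hx'
    have h1 : irreducibleComponent x ⊆ closure {x'} := by
      rw [← hη.def]
      exact specializes_iff_closure_subset.mp hx'
    have h2 : closure {x'} = irreducibleComponent x :=
      eq_irreducibleComponent (isIrreducible_singleton.closure).isPreirreducible h1
    have h3 : IsGenericPoint x' (irreducibleComponent x) := h2
    exact h3.eq hη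
  · rw [specializes_iff_mem_closure, hη.def]
    exact mem_irreducibleComponent

theorem finite_isMaxPt {T : Type*} [TopologicalSpace T] [QuasiSober T] [NoetherianSpace T] :
    {η : T | IsMaxPt η}.Finite := by
  apply Set.Finite.of_finite_image (f := fun η => closure {η})
  · refine (NoetherianSpace.finite_irreducibleComponents (α := T)).subset ?_
    rintro _ ⟨η, hη, rfl⟩
    refine ⟨isIrreducible_singleton.closure, fun t ht hle => ?_⟩
    obtain ⟨ζ, hζ⟩ := QuasiSober.sober ht.closure isClosed_closure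
    have h1 : ζ ⤳ η := by
      rw [specializes_iff_mem_closure, hζ.def]
      exact subset_closure (hle (subset_closure rfl))
    have h2 : ζ = η := hη ζ h1
    rw [h2] at hζ
    intro a ha
    have : a ∈ closure t := subset_closure ha
    rw [← hζ.def] at this
    exact this
  · intro a _ b hb hab
    have : a ⤳ b := by
      rw [specializes_iff_mem_closure]
      rw [show closure {a} = closure {b} from hab]
      exact subset_closure rfl
    exact hb a this

theorem isMaxPt_of_isOpenEmbedding {S T : Type*} [TopologicalSpace S] [TopologicalSpace T]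
    {i : S → T} (hi : Topology.IsOpenEmbedding i) {s : S} (hs : IsMaxPt s) : IsMaxPt (i s) := by
  intro x' hx'
  have hmem : x' ∈ Set.range i := hx'.mem_open hi.isOpen_range ⟨s, rfl⟩
  obtain ⟨s', rfl⟩ := hmem
  rw [hi.isInducing.specializes_iff] at hx'
  rw [hs s' hx']

/-- Chow's lemma, refined so that maximal points of the cover map to maximal points. -/
theorem exists_chow_maxPt {X Y : Scheme.{u}} [IsNoetherian Y] (f : X ⟶ Y) [IsSeparated f]
    [LocallyOfFiniteType f] [QuasiCompact f] :
    ∃ (n : ℕ) (X' : Scheme.{u}) (π : X' ⟶ X) (j : X' ⟶ CohB1.ProjSpaceOver n Y),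
      IsImmersion j ∧ j ≫ CohB1.ProjSpaceOver.toBase n Y = π ≫ f ∧ IsProper π ∧ Surjective π ∧
      ∀ t : X', IsMaxPt t → IsMaxPt (π t) := by
  obtain ⟨n, X', π, j, hj, hjπ, hπ, hπs⟩ := Groth.Agent.Lib.NApxH_helper7.chow_qcqs f
  haveI := hj
  haveI := hπ
  haveI := hπs
  haveI : IsLocallyNoetherian X := LocallyOfFiniteType.isLocallyNoetherian f
  haveI : CompactSpace X := QuasiCompact.compactSpace_of_compactSpace f
  haveI : IsNoetherian X := {}
  have hM := finite_isMaxPt (T := X)
  obtain ⟨ξ, hξ⟩ : ∃ ξ : X → X', ∀ x, π (ξ x) = x :=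
    ⟨Function.surjInv π.surjective, Function.surjInv_eq π.surjective⟩
  have hZc : IsClosed (⋃ η ∈ {η : X | IsMaxPt η}, closure {ξ η}) :=
    hM.isClosed_biUnion (fun _ _ => isClosed_closure)
  obtain ⟨I, hI⟩ : ∃ I : X'.IdealSheafData,
      I = Scheme.IdealSheafData.vanishingIdeal ⟨_, hZc⟩ := ⟨_, rfl⟩
  have hrange : Set.range I.subschemeι = ⋃ η ∈ {η : X | IsMaxPt η}, closure {ξ η} := by
    rw [Scheme.IdealSheafData.range_subschemeι, hI]
    exact Scheme.IdealSheafData.coe_support_vanishingIdeal _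
  have key : ∀ η : X, IsMaxPt η → ∃ t : I.subscheme, I.subschemeι t = ξ η := by
    intro η hη
    have : ξ η ∈ Set.range I.subschemeι := by
      rw [hrange]
      exact Set.mem_biUnion hη (subset_closure rfl)
    exact this
  have hstar : ∀ z : I.subscheme, ∃ t : I.subscheme,
      IsMaxPt ((I.subschemeι ≫ π) t) ∧ t ⤳ z := by
    intro z
    have hz : I.subschemeι z ∈ ⋃ η ∈ {η : X | IsMaxPt η}, closure {ξ η} :=
      hrange ▸ Set.mem_range_self z
    obtain ⟨η, hη, hzη⟩ := Set.mem_iUnion₂.mp hz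
    obtain ⟨t, ht⟩ := key η hη
    refine ⟨t, ?_, ?_⟩
    · rw [Scheme.Hom.comp_apply, ht, hξ]
      exact hη
    · rw [← I.subschemeι.isEmbedding.isInducing.specializes_iff, ht]
      exact specializes_iff_mem_closure.mpr hzη
  refine ⟨n, I.subscheme, I.subschemeι ≫ π, I.subschemeι ≫ j, inferInstance,
    by rw [Category.assoc, hjπ, Category.assoc], inferInstance, ?_, ?_⟩
  · constructor
    intro x
    obtain ⟨η, hη, hηx⟩ := exists_isMaxPt_specializes x
    obtain ⟨t, ht⟩ := key η hη
    have hcl : IsClosed (Set.range (I.subschemeι ≫ π)) :=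
      (I.subschemeι ≫ π).isClosedMap.isClosed_range
    have hmem : η ∈ Set.range (I.subschemeι ≫ π) :=
      ⟨t, by rw [Scheme.Hom.comp_apply, ht, hξ]⟩
    exact hηx.mem_closed hcl hmem
  · intro t ht
    obtain ⟨t₀, ht₀, ht₀t⟩ := hstar t
    rw [← ht t₀ ht₀t]
    exact ht₀

/-- The hypothesis: discrete valuation rings centred at `y`, with generic point lifted to a
maximal point of `X`, lift to `X`. -/
def DvrLift {X Y : Scheme.{u}} (f : X ⟶ Y) (y : Y) : Prop :=
  ∀ (K : Type u) [Field K] (x : Spec (CommRingCat.of K) ⟶ X), IsMaxPt (x (closedPoint K)) →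
    ∀ (A : ValuationSubring K), IsDiscreteValuationRing A →
      ∀ (h : Spec (CommRingCat.of A) ⟶ Y), h (closedPoint A) = y →
        Spec.map (CommRingCat.ofHom A.subtype) ≫ h = x ≫ f →
        ∃ l : Spec (CommRingCat.of A) ⟶ X, l ≫ f = h ∧
          Spec.map (CommRingCat.ofHom A.subtype) ≫ l = x

open Groth.Agent.Lib.ProjSpaceProperH4 Groth.Agent.Lib.NApxO_helper7 in
theorem proper_nhd_of_noetherian {X Y : Scheme.{u}} [IsNoetherian Y] (f : X ⟶ Y) [IsSeparated f]
    [LocallyOfFiniteType f] [QuasiCompact f] (y : Y) (H : DvrLift f y) :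
    ∃ U : Y.Opens, y ∈ U ∧ IsProper (f ∣_ U) := by
  obtain ⟨n, X', π, j, hj, hjπ, hπ, hπs, hstar⟩ := exists_chow_maxPt f
  haveI := hj
  haveI := hπ
  haveI := hπs
  obtain ⟨p, hp⟩ : ∃ p : CohB1.ProjSpaceOver n Y ⟶ Y, p = CohB1.ProjSpaceOver.toBase n Y :=
    ⟨_, rfl⟩
  rw [← hp] at hjπ
  haveI : IsProper p := hp ▸ isProper_toBase n Y
  haveI : IsLocallyNoetherian (CohB1.ProjSpaceOver n Y) :=
    LocallyOfFiniteType.isLocallyNoetherian p
  haveI : LocallyOfFiniteType j := lft_of_isImmersion j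
  haveI : IsLocallyNoetherian X' := LocallyOfFiniteType.isLocallyNoetherian (π ≫ f)
  haveI : CompactSpace X' := QuasiCompact.compactSpace_of_compactSpace (π ≫ f)
  haveI : IsNoetherian X' := {}
  have hB : IsClosed (closure (Set.range j) \ Set.range j) :=
    isOpen_compl_iff.mp (show IsOpen (closure (Set.range j) \ Set.range j)ᶜ from
      j.isLocallyClosed_range.isOpen_coborder)
  have hpB : IsClosed (p '' (closure (Set.range j) \ Set.range j)) := p.isClosedMap _ hB
  have hyB : y ∉ p '' (closure (Set.range j) \ Set.range j) := by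
    rintro ⟨c, ⟨hc1, hc2⟩, hcy⟩
    obtain ⟨t, ht, htc⟩ : ∃ t : X', IsMaxPt t ∧ j t ⤳ c := by
      have hM := finite_isMaxPt (T := X')
      have hcl : IsClosed (⋃ t ∈ {t : X' | IsMaxPt t}, closure {j t}) :=
        hM.isClosed_biUnion (fun _ _ => isClosed_closure)
      have hsub : Set.range j ⊆ ⋃ t ∈ {t : X' | IsMaxPt t}, closure {j t} := by
        rintro _ ⟨z, rfl⟩
        obtain ⟨t, ht, htz⟩ := exists_isMaxPt_specializes z
        exact Set.mem_biUnion ht (specializes_iff_mem_closure.mp (htz.map j.continuous))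
      obtain ⟨t, ht, hct⟩ := Set.mem_iUnion₂.mp (closure_minimal hsub hcl hc1)
      exact ⟨t, ht, specializes_iff_mem_closure.mpr hct⟩
    have hne : c ≠ j t := fun h => hc2 ⟨t, h.symm⟩
    obtain ⟨A, h, hA, hcl, hgen⟩ :=
      Groth.Agent.Lib.ValCrit.exists_dvr_of_specializes j t c htc hne
    haveI := hA
    obtain ⟨l, hl1, hl2⟩ := H (X'.residueField t) (X'.fromSpecResidueField t ≫ π)
      (by
        rw [Scheme.Hom.comp_apply, Scheme.fromSpecResidueField_apply]
        exact hstar t ht) A hA (h ≫ p)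
      (by rw [Scheme.Hom.comp_apply, hcl, hcy])
      (by rw [← Category.assoc, hgen, Category.assoc, hjπ, Category.assoc])
    have hex : ValuativeCriterion.Existence π := by
      have : (ValuativeCriterion.Existence ⊓ @QuasiCompact) π := by
        rw [← UniversallyClosed.eq_valuativeCriterion]
        infer_instance
      exact this.1
    let Sq : ValuativeCommSq π :=
      { R := A
        K := X'.residueField t
        i₁ := X'.fromSpecResidueField t
        i₂ := l
        commSq := ⟨hl2.symm⟩ }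
    obtain ⟨⟨l', hl'1, hl'2⟩⟩ := (hex Sq).exists_lift
    have hun := IsSeparated.valuativeCriterion p
    let Sq2 : ValuativeCommSq p :=
      { R := A
        K := X'.residueField t
        i₁ := Spec.map (CommRingCat.ofHom A.subtype) ≫ h
        i₂ := h ≫ p
        commSq := ⟨by rw [Category.assoc]; rfl⟩ }
    haveI := hun Sq2
    let a₁ : Sq2.commSq.LiftStruct := ⟨h, rfl, rfl⟩
    let a₂ : Sq2.commSq.LiftStruct := ⟨l' ≫ j, by
      change Spec.map (CommRingCat.ofHom A.subtype) ≫ l' ≫ j = _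
      rw [← Category.assoc]
      have : Spec.map (CommRingCat.ofHom A.subtype) ≫ l' = X'.fromSpecResidueField t := hl'1
      rw [this]
      exact hgen.symm, by
      change (l' ≫ j) ≫ p = h ≫ p
      have : l' ≫ π = l := hl'2
      rw [Category.assoc, hjπ, ← Category.assoc, this, hl1]⟩
    have heq : h = l' ≫ j := congrArg CommSq.LiftStruct.l (Subsingleton.elim a₁ a₂)
    apply hc2
    refine ⟨l' (closedPoint A), ?_⟩
    rw [← hcl, heq, Scheme.Hom.comp_apply]
  obtain ⟨U, hU⟩ : ∃ U : Y.Opens,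
      (U : Set Y) = (p '' (closure (Set.range j) \ Set.range j))ᶜ :=
    ⟨⟨_, hpB.isOpen_compl⟩, rfl⟩
  have hyU : y ∈ U := by
    change y ∈ (U : Set Y)
    rw [hU]
    exact hyB
  refine ⟨U, hyU, ?_⟩
  haveI : IsImmersion (j ∣_ p ⁻¹ᵁ U) := IsZariskiLocalAtTarget.restrict ‹IsImmersion j› _
  haveI hci : IsClosedImmersion (j ∣_ p ⁻¹ᵁ U) := by
    apply IsClosedImmersion.of_isPreimmersion
    have hr : Set.range (j ∣_ p ⁻¹ᵁ U) = (p ⁻¹ᵁ U).ι ⁻¹' closure (Set.range j) := by
      ext w
      constructor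
      · rintro ⟨z, rfl⟩
        apply subset_closure
        exact ⟨z.1, (morphismRestrict_base_coe j _ z).symm⟩
      · intro hw
        have hw2 : w.1 ∈ Set.range j := by
          by_contra hn
          have hw' : p w.1 ∈ (U : Set Y) := w.2
          rw [hU] at hw'
          exact hw' ⟨_, ⟨hw, hn⟩, rfl⟩
        obtain ⟨z, hz⟩ := hw2
        have hzU : z ∈ j ⁻¹ᵁ p ⁻¹ᵁ U := by
          change j z ∈ p ⁻¹ᵁ U
          rw [hz]
          exact w.2
        refine ⟨⟨z, hzU⟩, ?_⟩
        apply Subtype.ext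
        rw [morphismRestrict_base_coe]
        exact hz
    rw [hr]
    exact isClosed_closure.preimage (p ⁻¹ᵁ U).ι.continuous
  haveI : IsProper (j ∣_ p ⁻¹ᵁ U) := inferInstance
  haveI : IsProper (p ∣_ U) := IsZariskiLocalAtTarget.restrict ‹IsProper p› U
  have h1 : IsProper ((j ≫ p) ∣_ U) := by
    rw [morphismRestrict_comp]
    exact MorphismProperty.comp_mem _ _ _ ‹IsProper (j ∣_ p ⁻¹ᵁ U)› ‹IsProper (p ∣_ U)›
  rw [hjπ, morphismRestrict_comp] at h1
  haveI : Surjective (π ∣_ f ⁻¹ᵁ U) := IsZariskiLocalAtTarget.restrict ‹Surjective π› _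
  haveI : IsSeparated (f ∣_ U) := IsZariskiLocalAtTarget.restrict ‹IsSeparated f› U
  haveI : LocallyOfFiniteType (f ∣_ U) := IsZariskiLocalAtTarget.restrict ‹LocallyOfFiniteType f› U
  haveI : UniversallyClosed (π ∣_ f ⁻¹ᵁ U ≫ f ∣_ U) := h1.toUniversallyClosed
  haveI : UniversallyClosed (f ∣_ U) :=
    UniversallyClosed.of_comp_surjective (π ∣_ f ⁻¹ᵁ U) (f ∣_ U)
  exact {}

/-- The hypothesis `DvrLift` restricts to open subschemes of the base. -/
theorem dvrLift_restrict {X Y : Scheme.{u}} (f : X ⟶ Y) (y : Y) (H : DvrLift f y) (V : Y.Opens)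
    (hy : y ∈ V) : DvrLift (f ∣_ V) ⟨y, hy⟩ := by
  intro K _ x hx A hA h hcl hgen
  obtain ⟨l, hl1, hl2⟩ := H K (x ≫ (f ⁻¹ᵁ V).ι)
    (by
      rw [Scheme.Hom.comp_apply]
      exact isMaxPt_of_isOpenEmbedding (f ⁻¹ᵁ V).ι.isOpenEmbedding hx) A hA (h ≫ V.ι)
    (by rw [Scheme.Hom.comp_apply, hcl]; rfl)
    (by rw [← Category.assoc, hgen, Category.assoc, Category.assoc, morphismRestrict_ι])
  have hrange : Set.range l ⊆ Set.range (f ⁻¹ᵁ V).ι := by
    rintro _ ⟨a, rfl⟩
    rw [Scheme.Opens.range_ι]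
    change f (l a) ∈ V
    rw [← Scheme.Hom.comp_apply, hl1, Scheme.Hom.comp_apply]
    exact (h a).2
  refine ⟨IsOpenImmersion.lift (f ⁻¹ᵁ V).ι l hrange, ?_, ?_⟩
  · rw [← cancel_mono V.ι, Category.assoc, morphismRestrict_ι, ← Category.assoc,
      IsOpenImmersion.lift_fac, hl1]
  · rw [← cancel_mono (f ⁻¹ᵁ V).ι, Category.assoc, IsOpenImmersion.lift_fac, hl2]

/-- **EGA IV 15.7 (core).** Over a locally Noetherian base, a separated morphism of finite type
satisfying the lifting property for discrete valuation rings centred at `y` is proper over an open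
neighbourhood of `y`. -/
theorem proper_nhd_of_dvrLift {X Y : Scheme.{u}} [IsLocallyNoetherian Y] (f : X ⟶ Y)
    [IsSeparated f] [LocallyOfFiniteType f] [QuasiCompact f] (y : Y) (H : DvrLift f y) :
    ∃ U : Y.Opens, y ∈ U ∧ IsProper (f ∣_ U) := by
  obtain ⟨V, hV, hyV⟩ : ∃ V : Y.Opens, IsAffineOpen V ∧ y ∈ V := by
    obtain ⟨_, ⟨V, hV, rfl⟩, hyV, -⟩ :=
      Y.isBasis_affineOpens.exists_subset_of_mem_open (Set.mem_univ y) isOpen_univ
    exact ⟨V, hV, hyV⟩
  haveI : IsAffine V := hV
  haveI : IsLocallyNoetherian V := isLocallyNoetherian_of_isOpenImmersion V.ι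
  haveI : IsNoetherian V := {}
  haveI : IsSeparated (f ∣_ V) := IsZariskiLocalAtTarget.restrict ‹IsSeparated f› V
  haveI : LocallyOfFiniteType (f ∣_ V) :=
    IsZariskiLocalAtTarget.restrict ‹LocallyOfFiniteType f› V
  haveI : QuasiCompact (f ∣_ V) := IsZariskiLocalAtTarget.restrict ‹QuasiCompact f› V
  obtain ⟨U', hyU', hU'⟩ := proper_nhd_of_noetherian (f ∣_ V) ⟨y, hyV⟩
    (dvrLift_restrict f y H V hyV)
  refine ⟨V.ι ''ᵁ U', ⟨⟨y, hyV⟩, hyU', rfl⟩, ?_⟩
  exact (MorphismProperty.arrow_mk_iso_iff @IsProper (morphismRestrictRestrict f V U')).mp hU'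

end Groth.Agent.Lib.DvrNhdH7
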