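import Mathlib
import Groth.Agent.Lib.DvrNhd1_helper7

/-!
# EGA IV 15.7: the section form of the DVR lifting hypothesis (helper7)
-/

set_option autoImplicit false
set_option linter.style.haveILetI false
universe u
open CategoryTheory CategoryTheory.Limits AlgebraicGeometry TopologicalSpace IsLocalRing

namespace Groth.Agent.Lib.DvrNhdH7

theorem dvrLift_of_sections {X Y : Scheme.{u}} (f : X ⟶ Y) (y : Y)
    (h : ∀ (A : Type u) [CommRing A] [IsDomain A] [IsDiscreteValuationRing A]
      (g : Spec (CommRingCat.of A) ⟶ Y), g.base (IsLocalRing.closedPoint A) = y →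
      ∀ σ : Spec (CommRingCat.of (FractionRing A)) ⟶ pullback f g,
        σ ≫ pullback.snd f g = Spec.map (CommRingCat.ofHom (algebraMap A (FractionRing A))) →
        ∃ s : Spec (CommRingCat.of A) ⟶ pullback f g, s ≫ pullback.snd f g = 𝟙 _ ∧
          Spec.map (CommRingCat.ofHom (algebraMap A (FractionRing A))) ≫ s = σ) :
    DvrLift f y := by
  intro K _ x _ A hA g hcl hgen
  haveI := hA
  obtain ⟨e, he⟩ : ∃ e : FractionRing ↥A ≃ₐ[↥A] K, e = FractionRing.algEquiv ↥A K := ⟨_, rfl⟩
  obtain ⟨φ, hφ⟩ : ∃ φ : FractionRing ↥A →+* K, ∀ a, φ a = e a := ⟨e, fun _ => rfl⟩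
  obtain ⟨ψ, hψ⟩ : ∃ ψ : K →+* FractionRing ↥A, ∀ a, ψ a = e.symm a := ⟨e.symm, fun _ => rfl⟩
  have he1 : ψ.comp A.subtype = algebraMap A (FractionRing A) := by
    ext a
    rw [RingHom.comp_apply, hψ]
    exact e.symm.commutes a
  have he2 : φ.comp (algebraMap A (FractionRing A)) = A.subtype := by
    ext a
    rw [RingHom.comp_apply, hφ]
    exact e.commutes a
  have he3 : φ.comp ψ = RingHom.id K := by
    ext a
    rw [RingHom.comp_apply, hφ, hψ]
    exact e.apply_symm_apply a
  have hw : (Spec.map (CommRingCat.ofHom ψ) ≫ x) ≫ f =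
      Spec.map (CommRingCat.ofHom (algebraMap A (FractionRing A))) ≫ g := by
    rw [Category.assoc, ← hgen, ← Category.assoc, ← Spec.map_comp, ← CommRingCat.ofHom_comp, he1]
  obtain ⟨s, hs1, hs2⟩ := h A g hcl (pullback.lift _ _ hw) (pullback.lift_snd _ _ _)
  refine ⟨s ≫ pullback.fst f g, ?_, ?_⟩
  · rw [Category.assoc, pullback.condition, ← Category.assoc, hs1, Category.id_comp]
  · rw [← he2, CommRingCat.ofHom_comp, Spec.map_comp, Category.assoc, ← Category.assoc _ s, hs2,
      pullback.lift_fst, ← Category.assoc, ← Spec.map_comp, ← CommRingCat.ofHom_comp, he3,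
      CommRingCat.ofHom_id, Spec.map_id, Category.id_comp]

end Groth.Agent.Lib.DvrNhdH7
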