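import Mathlib

/-!
# Morphisms from spectra of local rings, via affine opens (helper6)

Tools: a morphism `Spec A ⟶ X` with `A` local factors through any affine open containing the image
of the closed point; cancellation along `fromSpec`; two morphisms `Spec A ⟶ X` agreeing at the closed
point and after restriction along an injective ring map are equal.
-/

set_option autoImplicit false
universe u
open CategoryTheory AlgebraicGeometry IsLocalRing

namespace Groth.Agent.Lib.RefVal

/-- A morphism from the spectrum of a local ring to a scheme factors through any affine open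
containing the image of the closed point. -/
theorem exists_factor_fromSpec {X : Scheme.{u}} {A : CommRingCat.{u}} [IsLocalRing A]
    (u : Spec A ⟶ X) {V : X.Opens} (hV : IsAffineOpen V) (hu : u (closedPoint A) ∈ V) :
    ∃ β : Γ(X, V) ⟶ A, Spec.map β ≫ hV.fromSpec = u := by
  have e : (⊤ : (Spec A).Opens) ≤ u ⁻¹ᵁ V :=
    (Scheme.preimage_eq_top_of_closedPoint_mem u hu).ge
  have h := IsAffineOpen.SpecMap_appLE_fromSpec u hV (isAffineOpen_top _) e
  rw [IsAffineOpen.fromSpec_top, Scheme.isoSpec_Spec_inv] at h
  refine ⟨u.appLE V ⊤ e ≫ (Scheme.ΓSpecIso A).hom, ?_⟩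
  rw [Spec.map_comp, Category.assoc, h, ← Category.assoc, ← Spec.map_comp, Iso.inv_hom_id,
    Spec.map_id, Category.id_comp]

/-- Cancellation along `fromSpec`. -/
theorem fromSpec_cancel {X : Scheme.{u}} {A : CommRingCat.{u}} {V : X.Opens}
    (hV : IsAffineOpen V) {β β' : Γ(X, V) ⟶ A}
    (h : Spec.map β ≫ hV.fromSpec = Spec.map β' ≫ hV.fromSpec) : β = β' :=
  Spec.map_injective ((cancel_mono _).mp h)

/-- Two morphisms from the spectrum of a local ring which agree at the closed point and agree after
restriction along (the spectrum of) an injective ring map are equal. -/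
theorem eq_of_SpecMap_comp_eq {X : Scheme.{u}} {A B : CommRingCat.{u}} [IsLocalRing A]
    (ρ : A ⟶ B) (hρ : Function.Injective ρ.hom) (u v : Spec A ⟶ X)
    (hcl : u (closedPoint A) = v (closedPoint A))
    (h : Spec.map ρ ≫ u = Spec.map ρ ≫ v) : u = v := by
  obtain ⟨_, ⟨V, hV, rfl⟩, hxV, -⟩ := X.isBasis_affineOpens.exists_subset_of_mem_open
    (Set.mem_univ (u (closedPoint A))) isOpen_univ
  obtain ⟨β, rfl⟩ := exists_factor_fromSpec u hV hxV
  obtain ⟨β', rfl⟩ := exists_factor_fromSpec v hV (hcl ▸ hxV)
  rw [← Category.assoc, ← Category.assoc, ← Spec.map_comp, ← Spec.map_comp] at h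
  have h2 := fromSpec_cancel hV h
  have : β = β' := by
    ext x
    apply hρ
    exact congr($h2 x)
  rw [this]

/-- Local version: restriction along an injective local homomorphism of local rings is
a monomorphism-like operation on morphisms to schemes. -/
theorem eq_of_SpecMap_comp_eq_of_isLocalHom {X : Scheme.{u}} {A B : CommRingCat.{u}}
    [IsLocalRing A] [IsLocalRing B]
    (ρ : A ⟶ B) [IsLocalHom ρ.hom] (hρ : Function.Injective ρ.hom) (u v : Spec A ⟶ X)
    (h : Spec.map ρ ≫ u = Spec.map ρ ≫ v) : u = v := by
  refine eq_of_SpecMap_comp_eq ρ hρ u v ?_ h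
  have h2 := congr($h (closedPoint B))
  simpa only [Scheme.Hom.comp_apply, Spec_closedPoint] using h2

/-- The image of the closed point under a composite `Spec.map ρ ≫ u` with `ρ` local. -/
theorem comp_closedPoint {X : Scheme.{u}} {A B : CommRingCat.{u}}
    [IsLocalRing A] [IsLocalRing B]
    (ρ : A ⟶ B) [IsLocalHom ρ.hom] (u : Spec A ⟶ X) :
    (Spec.map ρ ≫ u) (closedPoint B) = u (closedPoint A) := by
  simp only [Scheme.Hom.comp_apply, Spec_closedPoint]

/-- Every point of the spectrum of a field is the closed point. -/
theorem eq_closedPoint_of_field {K : Type u} [Field K] (p : Spec (CommRingCat.of K)) :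
    p = closedPoint K := by
  have : Subsingleton (PrimeSpectrum K) := inferInstance
  exact Subsingleton.elim _ _

end Groth.Agent.Lib.RefVal
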