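import Mathlib
import Groth.Agent.Lib.RefVal1_helper6

/-!
# Descent of a valuative point to the induced valuation ring of the residue field (helper6)
-/

set_option autoImplicit false
universe u
open CategoryTheory AlgebraicGeometry IsLocalRing

namespace Groth.Agent.Lib.RefVal

/-- The restriction map `g⁻¹(R) → R` of valuation rings is a local homomorphism. -/
theorem isLocalHom_comap {k K : Type u} [Field k] [Field K] (R : ValuationSubring K) (g : k →+* K)
    (ρ : ↥(R.comap g) →+* ↥R) (hρ : ∀ x : ↥(R.comap g), ((ρ x : ↥R) : K) = g (x : k)) :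
    IsLocalHom ρ := by
  constructor
  intro a ha
  have ha0 : (a : k) ≠ 0 := by
    intro h0
    have : ρ a = 0 := by
      apply Subtype.ext
      rw [hρ, h0, map_zero]; rfl
    rw [this] at ha
    exact not_isUnit_zero ha
  obtain ⟨b, hb⟩ := ha.exists_right_inv
  have h1 : g (a : k) * (b : K) = 1 := by
    rw [← hρ]
    exact congr_arg Subtype.val hb
  have h2 : g ((a : k)⁻¹) = (b : K) := by
    rw [map_inv₀]
    exact (eq_inv_of_mul_eq_one_right h1).symm
  have hmem : (a : k)⁻¹ ∈ R.comap g := by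
    change g _ ∈ R
    rw [h2]
    exact b.2
  exact IsUnit.of_mul_eq_one (⟨_, hmem⟩ : ↥(R.comap g)) (Subtype.ext (mul_inv_cancel₀ ha0))

/-- The restriction map `g⁻¹(R) → R` is injective. -/
theorem injective_comap {k K : Type u} [Field k] [Field K] (R : ValuationSubring K) (g : k →+* K)
    (ρ : ↥(R.comap g) →+* ↥R) (hρ : ∀ x : ↥(R.comap g), ((ρ x : ↥R) : K) = g (x : k)) :
    Function.Injective ρ := by
  intro a b hab
  apply Subtype.ext
  apply g.injective
  rw [← hρ, ← hρ, hab]

/-- **Descent** (statement of S17897). -/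
theorem descend {X Y : Scheme.{u}} (f : Y ⟶ X)
    (K : Type u) [Field K] (R : ValuationSubring K)
    (i : Spec (CommRingCat.of K) ⟶ Y) (φ : Spec (CommRingCat.of ↥R) ⟶ X)
    (w : Spec.map (CommRingCat.ofHom R.subtype) ≫ φ = i ≫ f)
    (y : Y) (g : Y.residueField y ⟶ CommRingCat.of K)
    (hg : Spec.map g ≫ Y.fromSpecResidueField y = i)
    (ρ : ↥(R.comap g.hom) →+* ↥R)
    (hρ : ∀ x : ↥(R.comap g.hom), ((ρ x : ↥R) : K) = g.hom (x : ↑(Y.residueField y))) :
    ∃! φ' : Spec (CommRingCat.of ↥(R.comap g.hom)) ⟶ X,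
      Spec.map (CommRingCat.ofHom ρ) ≫ φ' = φ ∧
      Spec.map (CommRingCat.ofHom (R.comap g.hom).subtype) ≫ φ' =
        Y.fromSpecResidueField y ≫ f := by
  have hρloc : IsLocalHom (CommRingCat.ofHom ρ).hom := isLocalHom_comap R g.hom ρ hρ
  obtain ⟨_, ⟨V, hV, rfl⟩, hxV, -⟩ := X.isBasis_affineOpens.exists_subset_of_mem_open
    (Set.mem_univ (φ (closedPoint ↥R))) isOpen_univ
  obtain ⟨β, hβ⟩ := exists_factor_fromSpec φ hV hxV
  have hw' : Spec.map (CommRingCat.ofHom R.subtype) ≫ φ =
      Spec.map g ≫ (Y.fromSpecResidueField y ≫ f) := by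
    rw [w, ← hg, Category.assoc]
  have hψV : (Y.fromSpecResidueField y ≫ f) (closedPoint (Y.residueField y)) ∈ V := by
    have h1 := congr($hw' (closedPoint K))
    have h2 : (Spec.map (CommRingCat.ofHom R.subtype) ≫ φ) (closedPoint K) ∈ V := by
      rw [Scheme.Hom.comp_apply]
      have h3 := Scheme.preimage_eq_top_of_closedPoint_mem φ hxV
      have h4 : (Spec.map (CommRingCat.ofHom R.subtype)) (closedPoint K) ∈ φ ⁻¹ᵁ V := by
        rw [h3]; trivial
      exact h4
    rw [h1, Scheme.Hom.comp_apply] at h2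
    have h5 : (Spec.map g) (closedPoint K) = closedPoint (Y.residueField y) :=
      Subsingleton.elim (α := PrimeSpectrum (Y.residueField y)) _ _
    rwa [h5] at h2
  obtain ⟨γ, hγ⟩ := exists_factor_fromSpec (Y.fromSpecResidueField y ≫ f) hV hψV
  have hcomp : β ≫ CommRingCat.ofHom R.subtype = γ ≫ g := by
    apply fromSpec_cancel hV
    rw [Spec.map_comp, Spec.map_comp, Category.assoc, Category.assoc, hβ, hγ, hw']
  have hmem : ∀ b, γ.hom b ∈ (R.comap g.hom).toSubring := fun b => by
    change g.hom (γ.hom b) ∈ R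
    have h1 : ((β.hom b : ↥R) : K) = g.hom (γ.hom b) := congr($hcomp b)
    rw [← h1]
    exact (β.hom b).2
  refine ⟨Spec.map (CommRingCat.ofHom (γ.hom.codRestrict (R.comap g.hom).toSubring hmem)) ≫
    hV.fromSpec, ⟨?_, ?_⟩, ?_⟩
  · rw [← Category.assoc, ← Spec.map_comp, ← hβ]
    congr 2
    ext b
    have h1 : ((β.hom b : ↥R) : K) = g.hom (γ.hom b) := congr($hcomp b)
    exact (hρ _).trans h1.symm
  · rw [← Category.assoc, ← Spec.map_comp, ← hγ]
    congr 2
  · rintro φ'' ⟨h1, h2⟩
    have hcl : φ'' (closedPoint ↥(R.comap g.hom)) ∈ V := by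
      have h3 := comp_closedPoint (CommRingCat.ofHom ρ) φ''
      rw [h1] at h3
      rw [← h3]
      exact hxV
    obtain ⟨δ, rfl⟩ := exists_factor_fromSpec φ'' hV hcl
    congr 2
    rw [← Category.assoc, ← Spec.map_comp, ← hγ] at h2
    have h4 := fromSpec_cancel hV h2
    ext b
    exact congr($h4 b)

end Groth.Agent.Lib.RefVal
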