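import Mathlib
import Groth.Agent.Lib.RefVal1_helper6

/-!
# Gluing morphisms along a composite valuation ring (helper6)

`Spec R` is the pushout of `Spec R'` and `Spec R̃` along `Spec κ(R')` for a composite valuation ring
`R ⊆ R'` with image `R̃` in the residue field of `R'`.
-/

set_option autoImplicit false
universe u
open CategoryTheory AlgebraicGeometry IsLocalRing

namespace Groth.Agent.Lib.RefVal

/-- For valuation rings `R ≤ R'` of `K`, the non-units of `R'` lie in `R`. -/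
theorem mem_of_not_isUnit {K : Type u} [Field K] (R R' : ValuationSubring K) (hRR' : R ≤ R')
    (x : ↥R') (hx : ¬ IsUnit x) : (x : K) ∈ R := by
  by_cases h0 : (x : K) = 0
  · rw [h0]; exact R.zero_mem
  rcases R.mem_or_inv_mem (x : K) with h | h
  · exact h
  · exfalso
    apply hx
    exact IsUnit.of_mul_eq_one (⟨(x : K)⁻¹, hRR' h⟩ : ↥R') (Subtype.ext (mul_inv_cancel₀ h0))

/-- **Gluing** along a composite valuation ring. -/
theorem glue {T : Scheme.{u}} (K : Type u) [Field K] (R R' : ValuationSubring K) (hRR' : R ≤ R')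
    (ι : ↥R →+* ↥R') (hι : ∀ x : ↥R, ((ι x : ↥R') : K) = (x : K))
    (Rt : ValuationSubring (IsLocalRing.ResidueField ↥R')) (σ : ↥R →+* ↥Rt)
    (hσs : Function.Surjective σ)
    (hσ : ∀ x : ↥R, ((σ x : ↥Rt) : IsLocalRing.ResidueField ↥R') = IsLocalRing.residue ↥R' (ι x))
    (g : Spec (CommRingCat.of ↥R') ⟶ T) (ht : Spec (CommRingCat.of ↥Rt) ⟶ T)
    (hht₁ : Spec.map (CommRingCat.ofHom Rt.subtype) ≫ ht =
      Spec.map (CommRingCat.ofHom (IsLocalRing.residue ↥R')) ≫ g) :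
    ∃! h : Spec (CommRingCat.of ↥R) ⟶ T,
      Spec.map (CommRingCat.ofHom ι) ≫ h = g ∧ Spec.map (CommRingCat.ofHom σ) ≫ h = ht := by
  have hσloc : IsLocalHom (CommRingCat.ofHom σ).hom := IsLocalHom.of_surjective σ hσs
  have hιinj : Function.Injective ι := by
    intro a b hab
    apply Subtype.ext
    rw [← hι, ← hι, hab]
  obtain ⟨_, ⟨V, hV, rfl⟩, hxV, -⟩ := T.isBasis_affineOpens.exists_subset_of_mem_open
    (Set.mem_univ (ht (closedPoint ↥Rt))) isOpen_univ
  obtain ⟨τ, hτ⟩ := exists_factor_fromSpec ht hV hxV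
  have hgV : g (closedPoint ↥R') ∈ V := by
    have h1 := congr($hht₁ (closedPoint (IsLocalRing.ResidueField ↥R')))
    have h2 : (Spec.map (CommRingCat.ofHom Rt.subtype) ≫ ht)
        (closedPoint (IsLocalRing.ResidueField ↥R')) ∈ V := by
      rw [Scheme.Hom.comp_apply]
      have h3 := Scheme.preimage_eq_top_of_closedPoint_mem ht hxV
      have h4 : (Spec.map (CommRingCat.ofHom Rt.subtype))
          (closedPoint (IsLocalRing.ResidueField ↥R')) ∈ ht ⁻¹ᵁ V := by
        rw [h3]; trivial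
      exact h4
    rw [h1] at h2
    have : IsLocalHom (CommRingCat.ofHom (IsLocalRing.residue ↥R')).hom :=
      IsLocalHom.of_surjective _ IsLocalRing.residue_surjective
    have h5 := comp_closedPoint (CommRingCat.ofHom (IsLocalRing.residue ↥R')) g
    rwa [h5] at h2
  obtain ⟨γ, hγ⟩ := exists_factor_fromSpec g hV hgV
  have hcomp : γ ≫ CommRingCat.ofHom (IsLocalRing.residue ↥R') =
      τ ≫ CommRingCat.ofHom Rt.subtype := by
    apply fromSpec_cancel hV
    rw [Spec.map_comp, Spec.map_comp, Category.assoc, Category.assoc, hτ, hγ, hht₁]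
  have hcomp' : ∀ b, IsLocalRing.residue ↥R' (γ.hom b) = ((τ.hom b : ↥Rt) :
      IsLocalRing.ResidueField ↥R') := fun b => congr($hcomp b)
  have hmem : ∀ b, (R'.subtype.comp γ.hom) b ∈ R.toSubring := fun b => by
    obtain ⟨r, hr⟩ := hσs (τ.hom b)
    have h1 : IsLocalRing.residue ↥R' (γ.hom b - ι r) = 0 := by
      rw [map_sub, hcomp' b, ← hr, hσ, sub_self]
    have h2 : ¬ IsUnit (γ.hom b - ι r) := by
      rw [IsLocalRing.residue_eq_zero_iff] at h1
      exact (IsLocalRing.mem_maximalIdeal _).mp h1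
    have h3 := mem_of_not_isUnit R R' hRR' _ h2
    have h4 : ((γ.hom b : ↥R') : K) = ((γ.hom b - ι r : ↥R') : K) + (r : K) := by
      rw [← hι r]; push_cast; ring
    change ((γ.hom b : ↥R') : K) ∈ R
    rw [h4]
    exact R.add_mem _ _ h3 r.2
  have hηι : CommRingCat.ofHom ((R'.subtype.comp γ.hom).codRestrict R.toSubring hmem) ≫
      CommRingCat.ofHom ι = γ := by
    ext b
    exact hι _
  refine ⟨Spec.map (CommRingCat.ofHom ((R'.subtype.comp γ.hom).codRestrict R.toSubring hmem)) ≫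
    hV.fromSpec, ⟨?_, ?_⟩, ?_⟩
  · rw [← Category.assoc, ← Spec.map_comp, hηι, hγ]
  · rw [← Category.assoc, ← Spec.map_comp, ← hτ]
    congr 2
    ext b
    have h1 : ι ((R'.subtype.comp γ.hom).codRestrict R.toSubring hmem b) = γ.hom b :=
      Subtype.ext (hι _)
    have h2 := hσ ((R'.subtype.comp γ.hom).codRestrict R.toSubring hmem b)
    rw [h1, hcomp' b] at h2
    exact h2
  · rintro h' ⟨h1, h2⟩
    have hcl : h' (closedPoint ↥R) ∈ V := by
      have h3 := comp_closedPoint (CommRingCat.ofHom σ) h'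
      rw [h2] at h3
      rw [← h3]
      exact hxV
    obtain ⟨δ, rfl⟩ := exists_factor_fromSpec h' hV hcl
    congr 2
    rw [← Category.assoc, ← Spec.map_comp, ← hγ] at h1
    have h4 := fromSpec_cancel hV h1
    rw [← hηι] at h4
    ext b
    have h5 : ι (δ.hom b) = ι ((R'.subtype.comp γ.hom).codRestrict R.toSubring hmem b) :=
      congr($h4 b)
    exact congr_arg Subtype.val (hιinj h5)

/-- Statement of S17898. -/
theorem glue_over {X Y : Scheme.{u}} (f : Y ⟶ X)
    (K : Type u) [Field K] (R R' : ValuationSubring K) (hRR' : R ≤ R')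
    (ι : ↥R →+* ↥R') (hι : ∀ x : ↥R, ((ι x : ↥R') : K) = (x : K))
    (i : Spec (CommRingCat.of K) ⟶ Y) (φ : Spec (CommRingCat.of ↥R) ⟶ X)
    (w : Spec.map (CommRingCat.ofHom R.subtype) ≫ φ = i ≫ f)
    (g : Spec (CommRingCat.of ↥R') ⟶ Y)
    (hg₁ : Spec.map (CommRingCat.ofHom R'.subtype) ≫ g = i)
    (hg₂ : g ≫ f = Spec.map (CommRingCat.ofHom ι) ≫ φ)
    (Rt : ValuationSubring (IsLocalRing.ResidueField ↥R')) (σ : ↥R →+* ↥Rt)
    (hσs : Function.Surjective σ)
    (hσ : ∀ x : ↥R, ((σ x : ↥Rt) : IsLocalRing.ResidueField ↥R') = IsLocalRing.residue ↥R' (ι x))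
    (ht : Spec (CommRingCat.of ↥Rt) ⟶ Y)
    (hht₁ : Spec.map (CommRingCat.ofHom Rt.subtype) ≫ ht =
      Spec.map (CommRingCat.ofHom (IsLocalRing.residue ↥R')) ≫ g)
    (hht₂ : ht ≫ f = Spec.map (CommRingCat.ofHom σ) ≫ φ) :
    ∃! h : Spec (CommRingCat.of ↥R) ⟶ Y, Spec.map (CommRingCat.ofHom R.subtype) ≫ h = i ∧
      h ≫ f = φ ∧
      Spec.map (CommRingCat.ofHom ι) ≫ h = g ∧ Spec.map (CommRingCat.ofHom σ) ≫ h = ht := by
  obtain ⟨h, ⟨hc, hd⟩, huniq⟩ := glue K R R' hRR' ι hι Rt σ hσs hσ g ht hht₁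
  have hsub : CommRingCat.ofHom R.subtype = CommRingCat.ofHom ι ≫ CommRingCat.ofHom R'.subtype := by
    ext b
    exact (hι b).symm
  have hX := glue K R R' hRR' ι hι Rt σ hσs hσ (g ≫ f) (ht ≫ f)
    (by rw [← Category.assoc, hht₁, Category.assoc])
  refine ⟨h, ⟨?_, ?_, hc, hd⟩, ?_⟩
  · rw [hsub, Spec.map_comp, Category.assoc, hc, hg₁]
  · apply hX.unique
    · exact ⟨by rw [← Category.assoc, hc], by rw [← Category.assoc, hd]⟩
    · exact ⟨hg₂.symm, hht₂.symm⟩
  · rintro h' ⟨-, -, h3, h4⟩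
    exact huniq h' ⟨h3, h4⟩

end Groth.Agent.Lib.RefVal
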