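import Mathlib

/-!
# Valuation ring constructions: extension along field maps, composite valuation rings (helper6)
-/

set_option autoImplicit false
universe u
open IsLocalRing

namespace Groth.Agent.Lib.RefVal

/-- Extension of a valuation subring along a field homomorphism. -/
theorem exists_comap_eq {K L : Type u} [Field K] [Field L] (A : ValuationSubring K) (e : K →+* L) :
    ∃ B : ValuationSubring L, B.comap e = A := by
  obtain ⟨B, hB, hloc⟩ := IsLocalRing.exists_factor_valuationRing (e.comp A.subtype)
  refine ⟨B, ?_⟩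
  ext x
  rw [ValuationSubring.mem_comap]
  constructor
  · intro hx
    by_contra hxA
    have hinv : x⁻¹ ∈ A := (A.mem_or_inv_mem x).resolve_left hxA
    have hx0 : x ≠ 0 := by rintro rfl; exact hxA A.zero_mem
    have hu : IsUnit ((e.comp A.subtype).codRestrict B.toSubring hB ⟨x⁻¹, hinv⟩) := by
      refine IsUnit.of_mul_eq_one (⟨e x, hx⟩ : ↥B) (Subtype.ext ?_)
      change e x⁻¹ * e x = 1
      rw [← map_mul, inv_mul_cancel₀ hx0, map_one]
    have hu2 : IsUnit (⟨x⁻¹, hinv⟩ : ↥A) := hloc.map_nonunit _ hu
    obtain ⟨c, hc⟩ := hu2.exists_right_inv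
    apply hxA
    have h1 : x⁻¹ * (c : K) = 1 := congr_arg Subtype.val hc
    have h2 : (c : K) = x := by
      field_simp at h1
      exact h1
    rw [← h2]
    exact c.2
  · intro hx
    exact hB ⟨x, hx⟩

/-- The composite of a valuation ring `V` of `L` with a valuation ring `Vt` of its residue field. -/
def composite {L : Type u} [Field L] (V : ValuationSubring L)
    (Vt : ValuationSubring (ResidueField ↥V)) : ValuationSubring L where
  toSubring := (Vt.toSubring.comap (residue ↥V)).map V.subtype
  mem_or_inv_mem' := by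
    intro a
    have key : ∀ (x : ↥V), residue ↥V x ∈ Vt → (x : L) ∈
        ((Vt.toSubring.comap (residue ↥V)).map V.subtype) := fun x hx => ⟨x, hx, rfl⟩
    by_cases ha : a ∈ V
    · by_cases hu : IsUnit (⟨a, ha⟩ : ↥V)
      · obtain ⟨c, hc⟩ := hu.exists_right_inv
        have h1 : a * (c : L) = 1 := congr_arg Subtype.val hc
        have h2 : (c : L) = a⁻¹ := eq_inv_of_mul_eq_one_right h1
        rcases Vt.mem_or_inv_mem (residue ↥V ⟨a, ha⟩) with h | h
        · left
          exact key ⟨a, ha⟩ h
        · right
          have h3 : residue ↥V c = (residue ↥V ⟨a, ha⟩)⁻¹ := by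
            apply eq_inv_of_mul_eq_one_right
            rw [← map_mul, hc, map_one]
          have h4 := key c (by rw [h3]; exact h)
          rwa [h2] at h4
      · left
        have h1 : residue ↥V ⟨a, ha⟩ = 0 := by
          rw [residue_eq_zero_iff]
          exact (mem_maximalIdeal _).mpr hu
        exact key ⟨a, ha⟩ (by rw [h1]; exact Vt.zero_mem)
    · right
      have hinv : a⁻¹ ∈ V := (V.mem_or_inv_mem a).resolve_left ha
      have ha0 : a ≠ 0 := by rintro rfl; exact ha V.zero_mem
      have hu : ¬ IsUnit (⟨a⁻¹, hinv⟩ : ↥V) := by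
        intro hu
        obtain ⟨c, hc⟩ := hu.exists_right_inv
        have h1 : a⁻¹ * (c : L) = 1 := congr_arg Subtype.val hc
        have h2 : (c : L) = a := by
          field_simp at h1
          exact h1
        apply ha
        rw [← h2]
        exact c.2
      have h1 : residue ↥V ⟨a⁻¹, hinv⟩ = 0 := by
        rw [residue_eq_zero_iff]
        exact (mem_maximalIdeal _).mpr hu
      exact key ⟨a⁻¹, hinv⟩ (by rw [h1]; exact Vt.zero_mem)

theorem mem_composite {L : Type u} [Field L] (V : ValuationSubring L)
    (Vt : ValuationSubring (ResidueField ↥V)) (a : L) :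
    a ∈ composite V Vt ↔ ∃ x : ↥V, residue ↥V x ∈ Vt ∧ (x : L) = a := by
  change a ∈ ((Vt.toSubring.comap (residue ↥V)).map V.subtype) ↔ _
  rw [Subring.mem_map]
  rfl

theorem composite_le {L : Type u} [Field L] (V : ValuationSubring L)
    (Vt : ValuationSubring (ResidueField ↥V)) : composite V Vt ≤ V := by
  intro a ha
  obtain ⟨x, -, rfl⟩ := (mem_composite V Vt a).mp ha
  exact x.2

/-- The inclusion of the composite into `V`. -/
def compositeι {L : Type u} [Field L] (V : ValuationSubring L)
    (Vt : ValuationSubring (ResidueField ↥V)) : ↥(composite V Vt) →+* ↥V :=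
  Subring.inclusion (composite_le V Vt)

theorem compositeι_coe {L : Type u} [Field L] (V : ValuationSubring L)
    (Vt : ValuationSubring (ResidueField ↥V)) (x : ↥(composite V Vt)) :
    ((compositeι V Vt x : ↥V) : L) = (x : L) := rfl

theorem residue_compositeι_mem {L : Type u} [Field L] (V : ValuationSubring L)
    (Vt : ValuationSubring (ResidueField ↥V)) (x : ↥(composite V Vt)) :
    ((residue ↥V).comp (compositeι V Vt)) x ∈ Vt.toSubring := by
  obtain ⟨y, hy, hyx⟩ := (mem_composite V Vt x).mp x.2
  have : compositeι V Vt x = y := Subtype.ext hyx.symm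
  change residue ↥V (compositeι V Vt x) ∈ Vt
  rw [this]
  exact hy

/-- The projection of the composite onto `Vt`. -/
noncomputable def compositeσ {L : Type u} [Field L] (V : ValuationSubring L)
    (Vt : ValuationSubring (ResidueField ↥V)) : ↥(composite V Vt) →+* ↥Vt :=
  ((residue ↥V).comp (compositeι V Vt)).codRestrict Vt.toSubring (residue_compositeι_mem V Vt)

theorem compositeσ_coe {L : Type u} [Field L] (V : ValuationSubring L)
    (Vt : ValuationSubring (ResidueField ↥V)) (x : ↥(composite V Vt)) :
    ((compositeσ V Vt x : ↥Vt) : ResidueField ↥V) = residue ↥V (compositeι V Vt x) := rfl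

theorem compositeσ_surjective {L : Type u} [Field L] (V : ValuationSubring L)
    (Vt : ValuationSubring (ResidueField ↥V)) : Function.Surjective (compositeσ V Vt) := by
  intro t
  obtain ⟨x, hx⟩ := residue_surjective (t : ResidueField ↥V)
  have hxm : (x : L) ∈ composite V Vt := (mem_composite V Vt _).mpr ⟨x, by rw [hx]; exact t.2, rfl⟩
  refine ⟨⟨(x : L), hxm⟩, Subtype.ext ?_⟩
  rw [compositeσ_coe]
  have : compositeι V Vt ⟨(x : L), hxm⟩ = x := Subtype.ext rfl
  rw [this, hx]

end Groth.Agent.Lib.RefVal
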