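import Mathlib
import Groth.Agent.Lib.RefVal5_helper6

/-!
# From the refined criterion at residue fields to Mathlib's valuative criterion (helper6)
-/

set_option autoImplicit false
universe u
open CategoryTheory AlgebraicGeometry IsLocalRing

namespace Groth.Agent.Lib.RefVal

/-- The valuation subring of `K` given by the range of `R → K`. -/
def rangeVS (R K : Type u) [CommRing R] [IsDomain R] [ValuationRing R] [Field K] [Algebra R K]
    [IsFractionRing R K] : ValuationSubring K :=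
  ⟨(algebraMap R K).range, ValuationRing.isInteger_or_isInteger R⟩

/-- The isomorphism `R → rangeVS R K` as a morphism of `CommRingCat`. -/
def rangeVSα (R K : Type u) [CommRing R] [IsDomain R] [ValuationRing R] [Field K] [Algebra R K]
    [IsFractionRing R K] : CommRingCat.of R ⟶ CommRingCat.of ↥(rangeVS R K) :=
  CommRingCat.ofHom (algebraMap R K).rangeRestrict

instance (R K : Type u) [CommRing R] [IsDomain R] [ValuationRing R] [Field K] [Algebra R K]
    [IsFractionRing R K] : IsIso (rangeVSα R K) := by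
  rw [ConcreteCategory.isIso_iff_bijective]
  refine ⟨?_, (algebraMap R K).rangeRestrict_surjective⟩
  intro a b hab
  apply IsFractionRing.injective R K
  exact congr_arg Subtype.val hab

theorem rangeVSα_subtype (R K : Type u) [CommRing R] [IsDomain R] [ValuationRing R] [Field K]
    [Algebra R K] [IsFractionRing R K] :
    rangeVSα R K ≫ CommRingCat.ofHom (rangeVS R K).subtype =
      CommRingCat.ofHom (algebraMap R K) := rfl

/-- Uniqueness part of the valuative criterion from uniqueness at residue fields. -/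
theorem uniqueness_of_core {X Y : Scheme.{u}} (f : Y ⟶ X)
    (hcore : ∀ (y : Y) (R' : ValuationSubring ↑(Y.residueField y))
      (l₁ l₂ : Spec (CommRingCat.of ↥R') ⟶ Y),
      Spec.map (CommRingCat.ofHom R'.subtype) ≫ l₁ = Y.fromSpecResidueField y →
      Spec.map (CommRingCat.ofHom R'.subtype) ≫ l₂ = Y.fromSpecResidueField y →
      l₁ ≫ f = l₂ ≫ f → l₁ = l₂) :
    ValuativeCriterion.Uniqueness f := by
  intro S
  constructor
  rintro ⟨l₁, hl₁, hl₁'⟩ ⟨l₂, hl₂, hl₂'⟩
  ext : 1
  dsimp only at *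
  rw [← cancel_epi (Spec.map (rangeVSα S.R S.K))]
  have hg := Scheme.descResidueField_stalkClosedPointTo_fromSpecResidueField S.K Y S.i₁
  have hw : ∀ l : Spec (CommRingCat.of S.R) ⟶ Y,
      Spec.map (CommRingCat.ofHom (algebraMap S.R S.K)) ≫ l = S.i₁ →
      Spec.map (CommRingCat.ofHom (rangeVS S.R S.K).subtype) ≫ (Spec.map (rangeVSα S.R S.K) ≫ l) =
        S.i₁ ≫ 𝟙 Y := by
    intro l hl
    rw [← Category.assoc, ← Spec.map_comp, rangeVSα_subtype, hl, Category.comp_id]
  obtain ⟨m₁, ⟨hm₁a, hm₁b⟩, -⟩ := descend (𝟙 Y) S.K (rangeVS S.R S.K) S.i₁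
    (Spec.map (rangeVSα S.R S.K) ≫ l₁) (hw l₁ hl₁) _ _ hg (comapρ _ _) (comapρ_coe _ _)
  obtain ⟨m₂, ⟨hm₂a, hm₂b⟩, -⟩ := descend (𝟙 Y) S.K (rangeVS S.R S.K) S.i₁
    (Spec.map (rangeVSα S.R S.K) ≫ l₂) (hw l₂ hl₂) _ _ hg (comapρ _ _) (comapρ_coe _ _)
  rw [← hm₁a, ← hm₂a]
  congr 1
  apply hcore _ _ m₁ m₂ (by rw [hm₁b, Category.comp_id]) (by rw [hm₂b, Category.comp_id])
  have hρloc : IsLocalHom (CommRingCat.ofHom (comapρ (rangeVS S.R S.K)
      (Scheme.descResidueField (Scheme.stalkClosedPointTo S.i₁)).hom)).hom :=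
    isLocalHom_comap _ _ _ (comapρ_coe _ _)
  have hρinj : Function.Injective (CommRingCat.ofHom (comapρ (rangeVS S.R S.K)
      (Scheme.descResidueField (Scheme.stalkClosedPointTo S.i₁)).hom)).hom :=
    injective_comap _ _ _ (comapρ_coe _ _)
  apply eq_of_SpecMap_comp_eq_of_isLocalHom _ hρinj
  rw [← Category.assoc, ← Category.assoc, hm₁a, hm₂a, Category.assoc, Category.assoc, hl₁', hl₂']

/-- Existence part of the valuative criterion from existence at residue fields. -/
theorem existence_of_core {X Y : Scheme.{u}} (f : Y ⟶ X)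
    (hcore : ∀ (y : Y) (R' : ValuationSubring ↑(Y.residueField y))
      (φ' : Spec (CommRingCat.of ↥R') ⟶ X),
      Spec.map (CommRingCat.ofHom R'.subtype) ≫ φ' = Y.fromSpecResidueField y ≫ f →
      ∃ l' : Spec (CommRingCat.of ↥R') ⟶ Y,
        Spec.map (CommRingCat.ofHom R'.subtype) ≫ l' = Y.fromSpecResidueField y ∧ l' ≫ f = φ') :
    ValuativeCriterion.Existence f := by
  intro S
  have hg := Scheme.descResidueField_stalkClosedPointTo_fromSpecResidueField S.K Y S.i₁
  have w : Spec.map (CommRingCat.ofHom (rangeVS S.R S.K).subtype) ≫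
      (Spec.map (rangeVSα S.R S.K) ≫ S.i₂) = S.i₁ ≫ f := by
    rw [← Category.assoc, ← Spec.map_comp, rangeVSα_subtype, S.commSq.w]
  obtain ⟨φ', ⟨hφ'a, hφ'b⟩, -⟩ := descend f S.K (rangeVS S.R S.K) S.i₁
    (Spec.map (rangeVSα S.R S.K) ≫ S.i₂) w _ _ hg (comapρ _ _) (comapρ_coe _ _)
  obtain ⟨l', hl'₁, hl'₂⟩ := hcore _ _ φ' hφ'b
  have hsq : CommRingCat.ofHom (comapρ (rangeVS S.R S.K)
      (Scheme.descResidueField (Scheme.stalkClosedPointTo S.i₁)).hom) ≫
      CommRingCat.ofHom (rangeVS S.R S.K).subtype =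
      CommRingCat.ofHom ((rangeVS S.R S.K).comap
        (Scheme.descResidueField (Scheme.stalkClosedPointTo S.i₁)).hom).subtype ≫
        Scheme.descResidueField (Scheme.stalkClosedPointTo S.i₁) := by
    ext x; rfl
  refine ⟨⟨⟨inv (Spec.map (rangeVSα S.R S.K)) ≫ Spec.map (CommRingCat.ofHom (comapρ _ _)) ≫ l',
    ?_, ?_⟩⟩⟩
  · rw [← rangeVSα_subtype, Spec.map_comp, Category.assoc, IsIso.hom_inv_id_assoc,
      ← Category.assoc, ← Spec.map_comp, hsq, Spec.map_comp, Category.assoc, hl'₁, hg]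
  · rw [Category.assoc, Category.assoc, hl'₂, hφ'a, IsIso.inv_hom_id_assoc]

end Groth.Agent.Lib.RefVal
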