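import Mathlib
import Groth.Agent.Lib.RefVal6_helper6
import Groth.Agent.Lib.ClosureSpec_helper7

/-!
# The refined valuative criterion (helper6)

For `h : Z ⟶ Y` quasi-compact with dense image and `f : Y ⟶ X`, the valuative criterion for `f`
only needs to be checked on valuation rings of residue fields of points of `Z`.
-/

set_option autoImplicit false
universe u
open CategoryTheory AlgebraicGeometry IsLocalRing

namespace Groth.Agent.Lib.RefVal

theorem uniqueness_of_refUniq {X Y Z : Scheme.{u}} (h : Z ⟶ Y) (f : Y ⟶ X) [QuasiCompact h]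
    (hd : DenseRange h) (hU : RefUniq h f) : ValuativeCriterion.Uniqueness f := by
  apply uniqueness_of_core
  intro y R' l₁ l₂ h₁ h₂ h₁₂
  obtain ⟨z, hz⟩ := Groth.Agent.Lib.ClosureSpecH7.exists_specializes_of_mem_closure_range h y (hd y)
  exact core_uniq h f hU y z hz R' l₁ l₂ h₁ h₂ h₁₂

theorem existence_of_ref {X Y Z : Scheme.{u}} (h : Z ⟶ Y) (f : Y ⟶ X) [QuasiCompact h]
    (hd : DenseRange h) (hE : RefExist h f) (hU : RefUniq h f) :
    ValuativeCriterion.Existence f := by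
  apply existence_of_core
  intro y R' φ' hφ'
  obtain ⟨z, hz⟩ := Groth.Agent.Lib.ClosureSpecH7.exists_specializes_of_mem_closure_range h y (hd y)
  exact core_exist h f hE hU y z hz R' φ' hφ'

/-- A valuation subring of a residue field as a valuative square. -/
noncomputable def sqOf {X Y Z : Scheme.{u}} (h : Z ⟶ Y) (f : Y ⟶ X) (z : Z)
    (R : ValuationSubring ↑(Z.residueField z)) (φ : Spec (CommRingCat.of ↥R) ⟶ X)
    (hφ : Spec.map (CommRingCat.ofHom R.subtype) ≫ φ = Z.fromSpecResidueField z ≫ h ≫ f) :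
    ValuativeCommSq f where
  R := ↥R
  K := ↑(Z.residueField z)
  i₁ := Z.fromSpecResidueField z ≫ h
  i₂ := φ
  commSq := ⟨by rw [Category.assoc]; exact hφ.symm⟩

theorem refUniq_of_uniqueness {X Y Z : Scheme.{u}} (h : Z ⟶ Y) (f : Y ⟶ X)
    (H : ValuativeCriterion.Uniqueness f) : RefUniq h f := by
  intro z R φ₁ φ₂ h₁ h₂ h₁₂
  have hφ : Spec.map (CommRingCat.ofHom R.subtype) ≫ (φ₁ ≫ f) =
      Z.fromSpecResidueField z ≫ h ≫ f := by
    rw [← Category.assoc, h₁, Category.assoc]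
  have := H (sqOf h f z R (φ₁ ≫ f) hφ)
  let L₁ : (sqOf h f z R (φ₁ ≫ f) hφ).commSq.LiftStruct := ⟨φ₁, h₁, rfl⟩
  let L₂ : (sqOf h f z R (φ₁ ≫ f) hφ).commSq.LiftStruct := ⟨φ₂, h₂, h₁₂.symm⟩
  exact congrArg CommSq.LiftStruct.l (Subsingleton.elim L₁ L₂)

theorem refExist_of_existence {X Y Z : Scheme.{u}} (h : Z ⟶ Y) (f : Y ⟶ X)
    (H : ValuativeCriterion.Existence f) : RefExist h f := by
  intro z R φ hφ
  obtain ⟨l, hl₁, hl₂⟩ := (H (sqOf h f z R φ hφ)).exists_lift
  exact ⟨l, hl₁, hl₂⟩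

end Groth.Agent.Lib.RefVal
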