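import Mathlib
import Groth.Agent.Lib.RefVal7_helper6

/-!
# Pointwise versions of the refined valuative criterion (helper6)
-/

set_option autoImplicit false
universe u
open CategoryTheory AlgebraicGeometry IsLocalRing

namespace Groth.Agent.Lib.RefVal

/-- Refined uniqueness at a point `z` of `Z`. -/
def RefUniqAt {X Y Z : Scheme.{u}} (h : Z ⟶ Y) (f : Y ⟶ X) (z : Z) : Prop :=
  ∀ (R : ValuationSubring ↑(Z.residueField z))
    (φ₁ φ₂ : Spec (CommRingCat.of ↥R) ⟶ Y),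
    Spec.map (CommRingCat.ofHom R.subtype) ≫ φ₁ = Z.fromSpecResidueField z ≫ h →
    Spec.map (CommRingCat.ofHom R.subtype) ≫ φ₂ = Z.fromSpecResidueField z ≫ h →
    φ₁ ≫ f = φ₂ ≫ f → φ₁ = φ₂

/-- Refined existence at a point `z` of `Z`. -/
def RefExistAt {X Y Z : Scheme.{u}} (h : Z ⟶ Y) (f : Y ⟶ X) (z : Z) : Prop :=
  ∀ (R : ValuationSubring ↑(Z.residueField z)) (φ : Spec (CommRingCat.of ↥R) ⟶ X),
    Spec.map (CommRingCat.ofHom R.subtype) ≫ φ = Z.fromSpecResidueField z ≫ h ≫ f →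
    ∃ φ' : Spec (CommRingCat.of ↥R) ⟶ Y,
      Spec.map (CommRingCat.ofHom R.subtype) ≫ φ' = Z.fromSpecResidueField z ≫ h ∧ φ' ≫ f = φ

theorem refUniqAt_of_uniqueness {X Y Z : Scheme.{u}} (h : Z ⟶ Y) (f : Y ⟶ X)
    (H : ValuativeCriterion.Uniqueness f) (z : Z) : RefUniqAt h f z :=
  refUniq_of_uniqueness h f H z

theorem refExistAt_of_existence {X Y Z : Scheme.{u}} (h : Z ⟶ Y) (f : Y ⟶ X)
    (H : ValuativeCriterion.Existence f) (z : Z) : RefExistAt h f z :=
  refExist_of_existence h f H z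

/-- Core uniqueness lemma at a point `y` which is a specialization of `h z`. -/
theorem core_uniq_at {X Y Z : Scheme.{u}} (h : Z ⟶ Y) (f : Y ⟶ X) (y : Y) (z : Z) (hU : RefUniqAt h f z) (hz : h z ⤳ y) (R' : ValuationSubring ↑(Y.residueField y))
    (l₁ l₂ : Spec (CommRingCat.of ↥R') ⟶ Y)
    (h₁ : Spec.map (CommRingCat.ofHom R'.subtype) ≫ l₁ = Y.fromSpecResidueField y)
    (h₂ : Spec.map (CommRingCat.ofHom R'.subtype) ≫ l₂ = Y.fromSpecResidueField y)
    (h₁₂ : l₁ ≫ f = l₂ ≫ f) : l₁ = l₂ := by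
  obtain ⟨V, d, e, hd₁, hd₂⟩ := exists_dominating h y z hz
  obtain ⟨Vt, hVt⟩ := exists_comap_eq R' e.hom
  subst hVt
  have hρloc : IsLocalHom (CommRingCat.ofHom (comapρ Vt e.hom)).hom :=
    isLocalHom_comap Vt e.hom _ (comapρ_coe Vt e.hom)
  have hρinj : Function.Injective (CommRingCat.ofHom (comapρ Vt e.hom)).hom :=
    injective_comap Vt e.hom _ (comapρ_coe Vt e.hom)
  have hsq : CommRingCat.ofHom (comapρ Vt e.hom) ≫ CommRingCat.ofHom Vt.subtype =
      CommRingCat.ofHom (Vt.comap e.hom).subtype ≫ e := by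
    ext x; rfl
  have hcompat : ∀ l : Spec (CommRingCat.of ↥(Vt.comap e.hom)) ⟶ Y,
      Spec.map (CommRingCat.ofHom (Vt.comap e.hom).subtype) ≫ l = Y.fromSpecResidueField y →
      Spec.map (CommRingCat.ofHom Vt.subtype) ≫
        (Spec.map (CommRingCat.ofHom (comapρ Vt e.hom)) ≫ l) =
      Spec.map (CommRingCat.ofHom (residue ↥V)) ≫ d := by
    intro l hl
    rw [← Category.assoc, ← Spec.map_comp, hsq, Spec.map_comp, Category.assoc, hl, hd₂]
  have G₁ := glue (T := Y) _ (composite V Vt) V (composite_le V Vt) (compositeι V Vt)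
    (compositeι_coe V Vt) Vt (compositeσ V Vt) (compositeσ_surjective V Vt)
    (compositeσ_coe V Vt) d (Spec.map (CommRingCat.ofHom (comapρ Vt e.hom)) ≫ l₁) (hcompat l₁ h₁)
  have G₂ := glue (T := Y) _ (composite V Vt) V (composite_le V Vt) (compositeι V Vt)
    (compositeι_coe V Vt) Vt (compositeσ V Vt) (compositeσ_surjective V Vt)
    (compositeσ_coe V Vt) d (Spec.map (CommRingCat.ofHom (comapρ Vt e.hom)) ≫ l₂) (hcompat l₂ h₂)
  obtain ⟨k₁, ⟨hk₁c, hk₁d⟩, -⟩ := G₁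
  obtain ⟨k₂, ⟨hk₂c, hk₂d⟩, -⟩ := G₂
  have GX := glue (T := X) _ (composite V Vt) V (composite_le V Vt) (compositeι V Vt)
    (compositeι_coe V Vt) Vt (compositeσ V Vt) (compositeσ_surjective V Vt)
    (compositeσ_coe V Vt) (d ≫ f) ((Spec.map (CommRingCat.ofHom (comapρ Vt e.hom)) ≫ l₁) ≫ f)
    (by rw [← Category.assoc, hcompat l₁ h₁, Category.assoc])
  have hkf : k₁ ≫ f = k₂ ≫ f := by
    apply GX.unique
    · exact ⟨by rw [← Category.assoc, hk₁c], by rw [← Category.assoc, hk₁d]⟩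
    · refine ⟨by rw [← Category.assoc, hk₂c], ?_⟩
      rw [← Category.assoc, hk₂d, Category.assoc, Category.assoc, h₁₂]
  have hsub : CommRingCat.ofHom (composite V Vt).subtype =
      CommRingCat.ofHom (compositeι V Vt) ≫ CommRingCat.ofHom V.subtype := by
    ext x; rfl
  have hgen : ∀ k : Spec (CommRingCat.of ↥(composite V Vt)) ⟶ Y,
      Spec.map (CommRingCat.ofHom (compositeι V Vt)) ≫ k = d →
      Spec.map (CommRingCat.ofHom (composite V Vt).subtype) ≫ k =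
        Z.fromSpecResidueField z ≫ h := by
    intro k hk
    rw [hsub, Spec.map_comp, Category.assoc, hk, hd₁]
  have hk : k₁ = k₂ := hU (composite V Vt) k₁ k₂ (hgen k₁ hk₁c) (hgen k₂ hk₂c) hkf
  apply eq_of_SpecMap_comp_eq_of_isLocalHom (CommRingCat.ofHom (comapρ Vt e.hom)) hρinj
  rw [← hk₁d, ← hk₂d, hk]

/-- Core existence lemma at a point `y` which is a specialization of `h z`. -/
theorem core_exist_at {X Y Z : Scheme.{u}} (h : Z ⟶ Y) (f : Y ⟶ X) (y : Y) (z : Z) (hE : RefExistAt h f z) (hU : RefUniqAt h f z) (hz : h z ⤳ y) (R' : ValuationSubring ↑(Y.residueField y))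
    (φ' : Spec (CommRingCat.of ↥R') ⟶ X)
    (hφ' : Spec.map (CommRingCat.ofHom R'.subtype) ≫ φ' = Y.fromSpecResidueField y ≫ f) :
    ∃ l' : Spec (CommRingCat.of ↥R') ⟶ Y,
      Spec.map (CommRingCat.ofHom R'.subtype) ≫ l' = Y.fromSpecResidueField y ∧ l' ≫ f = φ' := by
  obtain ⟨V, d, e, hd₁, hd₂⟩ := exists_dominating h y z hz
  obtain ⟨Vt, hVt⟩ := exists_comap_eq R' e.hom
  subst hVt
  have hρloc : IsLocalHom (CommRingCat.ofHom (comapρ Vt e.hom)).hom :=
    isLocalHom_comap Vt e.hom _ (comapρ_coe Vt e.hom)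
  have hρinj : Function.Injective (CommRingCat.ofHom (comapρ Vt e.hom)).hom :=
    injective_comap Vt e.hom _ (comapρ_coe Vt e.hom)
  have hsq : CommRingCat.ofHom (comapρ Vt e.hom) ≫ CommRingCat.ofHom Vt.subtype =
      CommRingCat.ofHom (Vt.comap e.hom).subtype ≫ e := by
    ext x; rfl
  have hsub : CommRingCat.ofHom (composite V Vt).subtype =
      CommRingCat.ofHom (compositeι V Vt) ≫ CommRingCat.ofHom V.subtype := by
    ext x; rfl
  have hσι : CommRingCat.ofHom (compositeσ V Vt) ≫ CommRingCat.ofHom Vt.subtype =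
      CommRingCat.ofHom (compositeι V Vt) ≫ CommRingCat.ofHom (residue ↥V) := by
    ext x; rfl
  -- glue the morphism to `X`
  have GX := glue (T := X) _ (composite V Vt) V (composite_le V Vt) (compositeι V Vt)
    (compositeι_coe V Vt) Vt (compositeσ V Vt) (compositeσ_surjective V Vt)
    (compositeσ_coe V Vt) (d ≫ f) (Spec.map (CommRingCat.ofHom (comapρ Vt e.hom)) ≫ φ')
    (by rw [← Category.assoc, ← Spec.map_comp, hsq, Spec.map_comp, Category.assoc, hφ',
      ← Category.assoc, ← hd₂, Category.assoc])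
  obtain ⟨φW, ⟨hφWc, hφWd⟩, -⟩ := GX
  have hφWgen : Spec.map (CommRingCat.ofHom (composite V Vt).subtype) ≫ φW =
      Z.fromSpecResidueField z ≫ h ≫ f := by
    rw [hsub, Spec.map_comp, Category.assoc, hφWc, ← Category.assoc, hd₁, Category.assoc]
  obtain ⟨lW, hlW₁, hlW₂⟩ := hE (composite V Vt) φW hφWgen
  -- restriction to `V` is `d`
  have hlWV : Spec.map (CommRingCat.ofHom (compositeι V Vt)) ≫ lW = d := by
    apply hU V
    · rw [← Category.assoc, ← Spec.map_comp, ← hsub, hlW₁]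
    · exact hd₁
    · rw [Category.assoc, hlW₂, hφWc]
  -- restriction to `Vt`
  have hlt : Spec.map (CommRingCat.ofHom Vt.subtype) ≫
      (Spec.map (CommRingCat.ofHom (compositeσ V Vt)) ≫ lW) =
      (Spec.map e ≫ Y.fromSpecResidueField y) ≫ 𝟙 Y := by
    rw [← Category.assoc, ← Spec.map_comp, hσι, Spec.map_comp, Category.assoc, hlWV, hd₂,
      Category.comp_id]
  obtain ⟨l', ⟨hl'₁, hl'₂⟩, -⟩ := descend (𝟙 Y) _ Vt (Spec.map e ≫ Y.fromSpecResidueField y)
    (Spec.map (CommRingCat.ofHom (compositeσ V Vt)) ≫ lW) hlt y e rfl (comapρ Vt e.hom)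
    (comapρ_coe Vt e.hom)
  refine ⟨l', by rw [hl'₂, Category.comp_id], ?_⟩
  apply eq_of_SpecMap_comp_eq_of_isLocalHom (CommRingCat.ofHom (comapρ Vt e.hom)) hρinj
  rw [← Category.assoc, hl'₁, Category.assoc, hlW₂, hφWd]


theorem uniqueness_of_refUniqAt {X Y Z : Scheme.{u}} (h : Z ⟶ Y) (f : Y ⟶ X)
    (hcov : ∀ y : Y, ∃ z : Z, h z ⤳ y ∧ RefUniqAt h f z) : ValuativeCriterion.Uniqueness f := by
  apply uniqueness_of_core
  intro y R' l₁ l₂ h₁ h₂ h₁₂
  obtain ⟨z, hz, hU⟩ := hcov y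
  exact core_uniq_at h f y z hU hz R' l₁ l₂ h₁ h₂ h₁₂

theorem existence_of_refAt {X Y Z : Scheme.{u}} (h : Z ⟶ Y) (f : Y ⟶ X)
    (hcov : ∀ y : Y, ∃ z : Z, h z ⤳ y ∧ RefExistAt h f z ∧ RefUniqAt h f z) :
    ValuativeCriterion.Existence f := by
  apply existence_of_core
  intro y R' φ' hφ'
  obtain ⟨z, hz, hE, hU⟩ := hcov y
  exact core_exist_at h f y z hE hU hz R' φ' hφ'

end Groth.Agent.Lib.RefVal
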