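import Mathlib
import Groth.Agent.Lib.RefVal8_helper6
import Groth.Agent.Lib.ValCrit2_helper6

/-!
# Approximating valuation rings by discrete valuation rings (helper6)

Over a locally Noetherian base, for a quasi-compact morphism locally of finite type, the existence
part of the refined valuative criterion at a point `z` (with `κ(z)` essentially of finite type over
the base) follows from the existence part for discrete valuation rings of `κ(z)`.
-/

set_option autoImplicit false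
universe u
open CategoryTheory AlgebraicGeometry IsLocalRing

namespace Groth.Agent.Lib.RefVal

open Groth.Agent.Lib.ValCrit

/-- DVR existence at `z`. -/
def DvrExistAt {X Y Z : Scheme.{u}} (h : Z ⟶ Y) (f : Y ⟶ X) (z : Z) : Prop :=
  ∀ (A : ValuationSubring ↑(Z.residueField z)), IsDiscreteValuationRing A →
    ∀ φ : Spec (CommRingCat.of ↥A) ⟶ X,
      Spec.map (CommRingCat.ofHom A.subtype) ≫ φ = Z.fromSpecResidueField z ≫ h ≫ f →
      ∃ l : Spec (CommRingCat.of ↥A) ⟶ Y,
        Spec.map (CommRingCat.ofHom A.subtype) ≫ l = Z.fromSpecResidueField z ≫ h ∧ l ≫ f = φ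

theorem essFiniteType_of_comp {R S T : Type*} [CommRing R] [CommRing S] [CommRing T]
    (g : R →+* S) (f : S →+* T) (h : (f.comp g).EssFiniteType) : f.EssFiniteType := by
  letI := g.toAlgebra
  letI := f.toAlgebra
  letI := (f.comp g).toAlgebra
  haveI : IsScalarTower R S T := IsScalarTower.of_algebraMap_eq (fun _ => rfl)
  haveI : Algebra.EssFiniteType R T := h
  exact Algebra.EssFiniteType.of_comp R S T

/-- Compatibility of evaluation maps with `appLE`. -/
theorem appLE_evalMap {X Y Z : Scheme.{u}} (h : Z ⟶ Y) (f : Y ⟶ X) (z : Z)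
    (W : X.Opens) (hW : IsAffineOpen W) (U : Y.Opens) (hU : IsAffineOpen U) (e : U ≤ f ⁻¹ᵁ W)
    (hz : h z ∈ U) (hz' : (h ≫ f) z ∈ W) :
    f.appLE W U e ≫ evalMap h z U hz = evalMap (h ≫ f) z W hz' := by
  apply fromSpec_cancel hW
  rw [Spec.map_comp, Category.assoc, IsAffineOpen.SpecMap_appLE_fromSpec f hW hU e,
    ← Category.assoc, specMap_evalMap_fromSpec h z U hU hz, specMap_evalMap_fromSpec (h ≫ f) z W hW hz',
    Category.assoc]

/-- If the evaluation map of an affine open lands in the valuation ring, we get a lift. -/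
theorem exists_lift_of_evalMap_mem {X Y Z : Scheme.{u}} (h : Z ⟶ Y) (f : Y ⟶ X) (z : Z)
    (V : ValuationSubring ↑(Z.residueField z)) (φ : Spec (CommRingCat.of ↥V) ⟶ X)
    (hφ : Spec.map (CommRingCat.ofHom V.subtype) ≫ φ = Z.fromSpecResidueField z ≫ h ≫ f)
    (W : X.Opens) (hW : IsAffineOpen W) (hφW : φ (closedPoint ↥V) ∈ W)
    (U : Y.Opens) (hU : IsAffineOpen U) (e : U ≤ f ⁻¹ᵁ W) (hz : h z ∈ U)
    (hall : ∀ b, (evalMap h z U hz).hom b ∈ V.toSubring) :
    ∃ l : Spec (CommRingCat.of ↥V) ⟶ Y,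
      Spec.map (CommRingCat.ofHom V.subtype) ≫ l = Z.fromSpecResidueField z ≫ h ∧ l ≫ f = φ := by
  obtain ⟨β, hβ⟩ := exists_factor_fromSpec φ hW hφW
  have hz' : (h ≫ f) z ∈ W := e hz
  have hβev : β ≫ CommRingCat.ofHom V.subtype = evalMap (h ≫ f) z W hz' := by
    apply fromSpec_cancel hW
    rw [Spec.map_comp, Category.assoc, hβ, hφ, specMap_evalMap_fromSpec (h ≫ f) z W hW hz']
  have hγ : CommRingCat.ofHom ((evalMap h z U hz).hom.codRestrict V.toSubring hall) ≫
      CommRingCat.ofHom V.subtype = evalMap h z U hz := by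
    ext b; rfl
  refine ⟨Spec.map (CommRingCat.ofHom ((evalMap h z U hz).hom.codRestrict V.toSubring hall)) ≫
    hU.fromSpec, ?_, ?_⟩
  · rw [← Category.assoc, ← Spec.map_comp, hγ, specMap_evalMap_fromSpec h z U hU hz]
  · rw [Category.assoc, ← IsAffineOpen.SpecMap_appLE_fromSpec f hW hU e, ← Category.assoc,
      ← Spec.map_comp, ← hβ]
    congr 2
    have h1 : (f.appLE W U e ≫
        CommRingCat.ofHom ((evalMap h z U hz).hom.codRestrict V.toSubring hall)) ≫
        CommRingCat.ofHom V.subtype = β ≫ CommRingCat.ofHom V.subtype := by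
      rw [Category.assoc, hγ, appLE_evalMap h f z W hW U hU e hz hz', hβev]
    ext b
    exact congr($h1 b)

theorem fromSpecResidueField_comp_apply {Z T : Scheme.{u}} (z : Z) (g : Z ⟶ T)
    (p : Spec (Z.residueField z)) : (Z.fromSpecResidueField z ≫ g) p = g z := by
  rw [Scheme.Hom.comp_apply, Scheme.fromSpecResidueField_apply]

/-- If `x ∉ V` then `x⁻¹` lies in `V` and has valuation `< 1`. -/
theorem inv_mem_of_not_mem {K : Type u} [Field K] (V : ValuationSubring K) (x : K) (hx : x ∉ V) :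
    x⁻¹ ∈ V ∧ V.valuation x⁻¹ < 1 := by
  have h1 : ¬ V.valuation x ≤ 1 := fun h => hx ((V.valuation_le_one_iff x).mp h)
  have h2 : 1 < V.valuation x := not_le.mp h1
  have h3 : V.valuation x⁻¹ < 1 := by
    rw [map_inv₀]
    exact inv_lt_one_of_one_lt₀ h2
  exact ⟨(V.valuation_le_one_iff _).mp h3.le, h3⟩

/-- **DVR approximation, existence part.** -/
theorem refExistAt_of_dvr {X Y Z : Scheme.{u}} [IsLocallyNoetherian X] (f : Y ⟶ X)
    [LocallyOfFiniteType f] [QuasiCompact f] (h : Z ⟶ Y) [LocallyOfFiniteType (h ≫ f)] (z : Z)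
    (H : DvrExistAt h f z) : RefExistAt h f z := by
  classical
  intro V φ hφ
  by_contra hno
  obtain ⟨_, ⟨W, hW, rfl⟩, hsW, -⟩ := X.isBasis_affineOpens.exists_subset_of_mem_open
    (Set.mem_univ (φ (closedPoint ↥V))) isOpen_univ
  obtain ⟨β, hβ⟩ := exists_factor_fromSpec φ hW hsW
  haveI : IsNoetherianRing Γ(X, W) := IsLocallyNoetherian.component_noetherian ⟨W, hW⟩
  have hpz : (h ≫ f) z ∈ W := by
    have h1 := congr($hφ (closedPoint (Z.residueField z)))
    have h2 : (Spec.map (CommRingCat.ofHom V.subtype) ≫ φ)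
        (closedPoint (Z.residueField z)) ∈ W := by
      rw [Scheme.Hom.comp_apply]
      have h3 := Scheme.preimage_eq_top_of_closedPoint_mem φ hsW
      have h4 : (Spec.map (CommRingCat.ofHom V.subtype))
          (closedPoint (Z.residueField z)) ∈ φ ⁻¹ᵁ W := by
        rw [h3]; trivial
      exact h4
    rw [h1, fromSpecResidueField_comp_apply] at h2
    exact h2
  have hβev : β ≫ CommRingCat.ofHom V.subtype = evalMap (h ≫ f) z W hpz := by
    apply fromSpec_cancel hW
    rw [Spec.map_comp, Category.assoc, hβ, hφ, specMap_evalMap_fromSpec (h ≫ f) z W hW hpz]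
  have hess : (evalMap (h ≫ f) z W hpz).hom.EssFiniteType :=
    essFiniteType_evalMap (h ≫ f) z W hW hpz
  -- finite affine cover of `f ⁻¹ W`
  have hc : IsCompact ((f ⁻¹ᵁ W : Y.Opens) : Set Y) :=
    QuasiCompact.isCompact_preimage (f := f) _ W.2 hW.isCompact
  obtain ⟨s, hsfin, hs⟩ := isCompact_iff_finite_and_eq_biUnion_affineOpens.mp hc
  haveI : Finite ↥s := hsfin
  have hle : ∀ i : ↥s, (i.1 : Y.Opens) ≤ f ⁻¹ᵁ W := fun i => by
    rw [hs]
    exact le_iSup₂ (f := fun (j : Y.affineOpens) (_ : j ∈ s) => (j : Y.Opens)) i.1 i.2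
  -- for each member of the cover containing `h z`, an element whose value is not in `V`
  have hex : ∀ (i : ↥s) (hi : h z ∈ (i.1 : Y.Opens)),
      ∃ b, (evalMap h z (i.1 : Y.Opens) hi).hom b ∉ V := by
    intro i hi
    by_contra hcon
    push_neg at hcon
    exact hno (exists_lift_of_evalMap_mem h f z V φ hφ W hW hsW _ i.1.2 (hle i) hi hcon)
  choose b hb using hex
  -- the inverses
  obtain ⟨t, htdef⟩ : ∃ t : ↥s → ↑(Z.residueField z), t = fun i =>
      if hi : h z ∈ (i.1 : Y.Opens) then ((evalMap h z (i.1 : Y.Opens) hi).hom (b i hi))⁻¹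
      else 0 := ⟨_, rfl⟩
  have htV : ∀ i, t i ∈ V := fun i => by
    rw [htdef]
    by_cases hi : h z ∈ (i.1 : Y.Opens)
    · simp only [dif_pos hi]
      exact (inv_mem_of_not_mem V _ (hb i hi)).1
    · simp only [dif_neg hi]
      exact V.zero_mem
  have htpos : ∀ (i : ↥s) (hi : h z ∈ (i.1 : Y.Opens)),
      t i = ((evalMap h z (i.1 : Y.Opens) hi).hom (b i hi))⁻¹ := fun i hi => by
    rw [htdef]; simp only [dif_pos hi]
  -- the polynomial ring and its map to `V`
  obtain ⟨φCV, hφCVdef⟩ : ∃ φCV : MvPolynomial ↥s Γ(X, W) →+* ↥V,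
      φCV = MvPolynomial.eval₂Hom β.hom (fun i => (⟨t i, htV i⟩ : ↥V)) := ⟨_, rfl⟩
  have hφCV_C : ∀ a, φCV (MvPolynomial.C a) = β.hom a := fun a => by
    rw [hφCVdef]; exact MvPolynomial.eval₂Hom_C _ _ a
  have hφCV_X : ∀ i, φCV (MvPolynomial.X i) = ⟨t i, htV i⟩ := fun i => by
    rw [hφCVdef]; exact MvPolynomial.eval₂Hom_X' _ _ i
  obtain ⟨φC, hφCdef⟩ : ∃ φC : MvPolynomial ↥s Γ(X, W) →+* ↑(Z.residueField z),
      φC = V.subtype.comp φCV := ⟨_, rfl⟩
  have hφC_ess : φC.EssFiniteType := by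
    apply essFiniteType_of_comp (MvPolynomial.C : Γ(X, W) →+* MvPolynomial ↥s Γ(X, W))
    have h1 : φC.comp MvPolynomial.C = (evalMap (h ≫ f) z W hpz).hom := by
      ext a
      rw [hφCdef]
      change ((φCV (MvPolynomial.C a) : ↥V) : ↑(Z.residueField z)) = _
      rw [hφCV_C, ← hβev]
      rfl
    rw [h1]
    exact hess
  -- the prime
  have hqprime : ((maximalIdeal ↥V).comap φCV).IsPrime := Ideal.comap_isPrime _ _
  have hqle : RingHom.ker φC ≤ (maximalIdeal ↥V).comap φCV := by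
    intro c hc
    rw [RingHom.mem_ker, hφCdef] at hc
    have h1 : φCV c = 0 := Subtype.ext hc
    rw [Ideal.mem_comap, h1]
    exact Ideal.zero_mem _
  -- an index whose open contains `h z`
  obtain ⟨i₀, hi₀⟩ : ∃ i : ↥s, h z ∈ (i.1 : Y.Opens) := by
    have h1 : h z ∈ f ⁻¹ᵁ W := hpz
    rw [hs] at h1
    simp only [TopologicalSpace.Opens.mem_iSup] at h1
    obtain ⟨j, hj, hzj⟩ := h1
    exact ⟨⟨j, hj⟩, hzj⟩
  have hXmem : ∀ (i : ↥s) (hi : h z ∈ (i.1 : Y.Opens)),
      MvPolynomial.X i ∈ (maximalIdeal ↥V).comap φCV := fun i hi => by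
    rw [Ideal.mem_comap, hφCV_X, ValuationSubring.valuation_lt_one_iff]
    change V.valuation (t i) < 1
    rw [htpos i hi]
    exact (inv_mem_of_not_mem V _ (hb i hi)).2
  have hφCX : ∀ i, φC (MvPolynomial.X i) = t i := fun i => by
    rw [hφCdef]
    change ((φCV (MvPolynomial.X i) : ↥V) : ↑(Z.residueField z)) = _
    rw [hφCV_X]
  have hne : ∃ c ∈ (maximalIdeal ↥V).comap φCV, φC c ≠ 0 := by
    refine ⟨MvPolynomial.X i₀, hXmem i₀ hi₀, ?_⟩
    rw [hφCX, htpos i₀ hi₀]
    apply inv_ne_zero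
    intro h0
    exact hb i₀ hi₀ (h0 ▸ V.zero_mem)
  obtain ⟨R, hRdvr, hR1, hR2⟩ := exists_dvr_of_ringHom φC hφC_ess
    ((maximalIdeal ↥V).comap φCV) hqle hne
  -- the morphism `Spec R ⟶ X`
  have hRmem : ∀ a, (evalMap (h ≫ f) z W hpz).hom a ∈ R.toSubring := fun a => by
    have h1 := hR1 (MvPolynomial.C a)
    rw [hφCdef] at h1
    change ((φCV (MvPolynomial.C a) : ↥V) : ↑(Z.residueField z)) ∈ R at h1
    rw [hφCV_C] at h1
    rw [← hβev]
    exact h1
  have hγR : CommRingCat.ofHom ((evalMap (h ≫ f) z W hpz).hom.codRestrict R.toSubring hRmem) ≫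
      CommRingCat.ofHom R.subtype = evalMap (h ≫ f) z W hpz := by
    ext a; rfl
  obtain ⟨l, hl₁, hl₂⟩ := H R hRdvr
    (Spec.map (CommRingCat.ofHom
      ((evalMap (h ≫ f) z W hpz).hom.codRestrict R.toSubring hRmem)) ≫ hW.fromSpec)
    (by rw [← Category.assoc, ← Spec.map_comp, hγR,
      specMap_evalMap_fromSpec (h ≫ f) z W hW hpz])
  -- the centre of `l`
  have hfx : f (l (closedPoint ↥R)) ∈ W := by
    rw [← Scheme.Hom.comp_apply, hl₂, Scheme.Hom.comp_apply]
    have : hW.fromSpec ((Spec.map (CommRingCat.ofHom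
      ((evalMap (h ≫ f) z W hpz).hom.codRestrict R.toSubring hRmem))) (closedPoint ↥R)) ∈
        Set.range hW.fromSpec := ⟨_, rfl⟩
    rw [hW.range_fromSpec] at this
    exact this
  obtain ⟨i, hxi⟩ : ∃ i : ↥s, l (closedPoint ↥R) ∈ (i.1 : Y.Opens) := by
    have h1 : l (closedPoint ↥R) ∈ f ⁻¹ᵁ W := hfx
    rw [hs] at h1
    simp only [TopologicalSpace.Opens.mem_iSup] at h1
    obtain ⟨j, hj, hzj⟩ := h1
    exact ⟨⟨j, hj⟩, hzj⟩
  obtain ⟨γ, hγ⟩ := exists_factor_fromSpec l i.1.2 hxi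
  have hi : h z ∈ (i.1 : Y.Opens) := by
    have h1 := congr($hl₁ (closedPoint (Z.residueField z)))
    rw [fromSpecResidueField_comp_apply, Scheme.Hom.comp_apply] at h1
    rw [← h1]
    have h3 := Scheme.preimage_eq_top_of_closedPoint_mem l hxi
    have h4 : (Spec.map (CommRingCat.ofHom R.subtype))
        (closedPoint (Z.residueField z)) ∈ l ⁻¹ᵁ (i.1 : Y.Opens) := by
      rw [h3]; trivial
    exact h4
  have hγev : γ ≫ CommRingCat.ofHom R.subtype = evalMap h z (i.1 : Y.Opens) hi := by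
    apply fromSpec_cancel i.1.2
    rw [Spec.map_comp, Category.assoc, hγ, hl₁, specMap_evalMap_fromSpec h z _ i.1.2 hi]
  -- the contradiction
  have hbR : (evalMap h z (i.1 : Y.Opens) hi).hom (b i hi) ∈ R := by
    rw [← hγev]
    exact (γ.hom (b i hi)).2
  have hval : R.valuation (t i) < 1 := by
    have h1 := (hR2 (MvPolynomial.X i)).mpr (hXmem i hi)
    rwa [hφCX] at h1
  rw [htpos i hi] at hval
  have hb0 : (evalMap h z (i.1 : Y.Opens) hi).hom (b i hi) ≠ 0 := by
    intro h0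
    exact hb i hi (h0 ▸ V.zero_mem)
  have hval2 : R.valuation ((evalMap h z (i.1 : Y.Opens) hi).hom (b i hi)) ≤ 1 :=
    (R.valuation_le_one_iff _).mpr hbR
  have h1 : R.valuation (((evalMap h z (i.1 : Y.Opens) hi).hom (b i hi))⁻¹ *
      (evalMap h z (i.1 : Y.Opens) hi).hom (b i hi)) < 1 := by
    rw [map_mul]
    calc _ ≤ R.valuation ((evalMap h z (i.1 : Y.Opens) hi).hom (b i hi))⁻¹ * 1 :=
          mul_le_mul_right hval2 _
      _ < 1 := by rw [mul_one]; exact hval
  rw [inv_mul_cancel₀ hb0, map_one] at h1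
  exact lt_irrefl _ h1

end Groth.Agent.Lib.RefVal
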