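import Mathlib
import Groth.Agent.Lib.RefVal9_helper6
import Groth.Agent.Lib.ClosureSpec_helper7

/-!
# Separatedness from uniqueness for discrete valuation rings at a covering family of points (helper6)
-/

set_option autoImplicit false
universe u
open CategoryTheory CategoryTheory.Limits AlgebraicGeometry IsLocalRing

namespace Groth.Agent.Lib.RefVal

open Groth.Agent.Lib.ValCrit

/-- DVR uniqueness at `z`. -/
def DvrUniqAt {X Y Z : Scheme.{u}} (h : Z ⟶ Y) (f : Y ⟶ X) (z : Z) : Prop :=
  ∀ (A : ValuationSubring ↑(Z.residueField z)), IsDiscreteValuationRing A →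
    ∀ l₁ l₂ : Spec (CommRingCat.of ↥A) ⟶ Y,
      Spec.map (CommRingCat.ofHom A.subtype) ≫ l₁ = Z.fromSpecResidueField z ≫ h →
      Spec.map (CommRingCat.ofHom A.subtype) ≫ l₂ = Z.fromSpecResidueField z ≫ h →
      l₁ ≫ f = l₂ ≫ f → l₁ = l₂

theorem isSeparated_of_dvrUniqAt {X Y Z : Scheme.{u}} [IsLocallyNoetherian X] (f : Y ⟶ X)
    [LocallyOfFiniteType f] (h : Z ⟶ Y) [LocallyOfFiniteType h]
    (hcov : ∀ y : Y, ∃ z : Z, h z ⤳ y ∧ DvrUniqAt h f z) : IsSeparated f where
  isClosedImmersion_diagonal := by
    haveI : IsLocallyNoetherian Y := LocallyOfFiniteType.isLocallyNoetherian f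
    haveI : QuasiSeparated f := QuasiSeparated.of_quasiSeparatedSpace f
    haveI : IsLocallyNoetherian (pullback f f) := inferInstance
    have hcl : IsClosed (Set.range (pullback.diagonal f)) := by
      apply isClosed_of_closure_subset
      intro w hw
      obtain ⟨x₀, hx₀⟩ := Groth.Agent.Lib.ClosureSpecH7.exists_specializes_of_mem_closure_range
        (pullback.diagonal f) w hw
      obtain ⟨z, hz, hU⟩ := hcov x₀
      have hsp : (h ≫ pullback.diagonal f) z ⤳ w := by
        rw [Scheme.Hom.comp_apply]
        exact (hz.map (pullback.diagonal f).continuous).trans hx₀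
      by_cases hne : w = (h ≫ pullback.diagonal f) z
      · exact ⟨h z, by rw [hne, Scheme.Hom.comp_apply]⟩
      obtain ⟨A, y, hA, hy1, hy2⟩ :=
        exists_dvr_of_specializes (h ≫ pullback.diagonal f) z w hsp hne
      have h12 := hU A hA (y ≫ pullback.fst f f) (y ≫ pullback.snd f f)
        (by rw [← Category.assoc, hy2, Category.assoc, Category.assoc, pullback.diagonal_fst,
          Category.comp_id])
        (by rw [← Category.assoc, hy2, Category.assoc, Category.assoc, pullback.diagonal_snd,
          Category.comp_id])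
        (by rw [Category.assoc, Category.assoc, pullback.condition])
      have hy : y = (y ≫ pullback.fst f f) ≫ pullback.diagonal f := by
        apply pullback.hom_ext
        · rw [Category.assoc, pullback.diagonal_fst, Category.comp_id]
        · rw [Category.assoc, pullback.diagonal_snd, Category.comp_id, h12]
      refine ⟨(y ≫ pullback.fst f f) (closedPoint ↥A), ?_⟩
      rw [← Scheme.Hom.comp_apply, ← hy, hy1]
    exact .of_isPreimmersion _ hcl

end Groth.Agent.Lib.RefVal
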