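import Mathlib
import Groth.Agent.Lib.RefVal10_helper6

/-!
# Conversions between abstract DVR squares and DVR subrings of residue fields; generic points (helper6)
-/

set_option autoImplicit false
universe u
open CategoryTheory CategoryTheory.Limits AlgebraicGeometry IsLocalRing

namespace Groth.Agent.Lib.RefVal

/-- Every point is a specialization of the generic point of an irreducible component. -/
theorem exists_generic_specializes (X : Scheme.{u}) (y : X) :
    ∃ η : X, closure {η} ∈ irreducibleComponents (X : Type u) ∧ η ⤳ y := by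
  obtain ⟨η, hη⟩ := QuasiSober.sober (isIrreducible_irreducibleComponent (x := y))
    isClosed_irreducibleComponent
  refine ⟨η, ?_, ?_⟩
  · rw [hη.def]
    exact irreducibleComponent_mem_irreducibleComponents y
  · rw [specializes_iff_mem_closure, hη.def]
    exact mem_irreducibleComponent

section conv

variable {X Y Z : Scheme.{u}} (h : Z ⟶ Y) (f : Y ⟶ X) (z : Z)

/-- The map `κ(z) → Frac A` for a valuation subring `A` of `κ(z)`. -/
noncomputable def fracInv (A : ValuationSubring ↑(Z.residueField z)) :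
    Z.residueField z ⟶ CommRingCat.of (FractionRing ↥A) :=
  CommRingCat.ofHom ((FractionRing.algEquiv ↥A ↑(Z.residueField z)).symm :
    ↑(Z.residueField z) →+* FractionRing ↥A)

theorem subtype_fracInv (A : ValuationSubring ↑(Z.residueField z)) :
    CommRingCat.ofHom A.subtype ≫ fracInv z A =
      CommRingCat.ofHom (algebraMap ↥A (FractionRing ↥A)) := by
  ext a
  exact (FractionRing.algEquiv ↥A ↑(Z.residueField z)).symm.commutes a

theorem dvrUniqAt_of_abstract
    (H : ∀ (A : Type u) [CommRing A] [IsDomain A] [IsDiscreteValuationRing A]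
      (u : Spec (CommRingCat.of (FractionRing A)) ⟶ Z) (y : Spec (CommRingCat.of A) ⟶ X),
      u ≫ h ≫ f = Spec.map (CommRingCat.ofHom (algebraMap A (FractionRing A))) ≫ y →
        ∀ l₁ l₂ : Spec (CommRingCat.of A) ⟶ Y, l₁ ≫ f = y →
          Spec.map (CommRingCat.ofHom (algebraMap A (FractionRing A))) ≫ l₁ = u ≫ h →
          l₂ ≫ f = y →
          Spec.map (CommRingCat.ofHom (algebraMap A (FractionRing A))) ≫ l₂ = u ≫ h → l₁ = l₂) :
    DvrUniqAt h f z := by
  intro A hA l₁ l₂ g₁ g₂ h12
  haveI := hA
  have key : ∀ l : Spec (CommRingCat.of ↥A) ⟶ Y,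
      Spec.map (CommRingCat.ofHom A.subtype) ≫ l = Z.fromSpecResidueField z ≫ h →
      Spec.map (CommRingCat.ofHom (algebraMap ↥A (FractionRing ↥A))) ≫ l =
        (Spec.map (fracInv z A) ≫ Z.fromSpecResidueField z) ≫ h := by
    intro l hl
    rw [← subtype_fracInv, Spec.map_comp, Category.assoc, hl, Category.assoc]
  refine H ↥A (Spec.map (fracInv z A) ≫ Z.fromSpecResidueField z) (l₁ ≫ f) ?_ l₁ l₂ rfl
    (key l₁ g₁) h12.symm (key l₂ g₂)
  rw [← Category.assoc (Spec.map _) l₁ f, key l₁ g₁]
  simp only [Category.assoc]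

theorem dvrExistAt_of_abstract
    (H : ∀ (A : Type u) [CommRing A] [IsDomain A] [IsDiscreteValuationRing A]
      (u : Spec (CommRingCat.of (FractionRing A)) ⟶ Z) (y : Spec (CommRingCat.of A) ⟶ X),
      u ≫ h ≫ f = Spec.map (CommRingCat.ofHom (algebraMap A (FractionRing A))) ≫ y →
        ∃ l : Spec (CommRingCat.of A) ⟶ Y, l ≫ f = y ∧
          Spec.map (CommRingCat.ofHom (algebraMap A (FractionRing A))) ≫ l = u ≫ h) :
    DvrExistAt h f z := by
  intro A hA φ hφ
  haveI := hA
  have hinv : CommRingCat.ofHom (algebraMap ↥A (FractionRing ↥A)) ≫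
      CommRingCat.ofHom ((FractionRing.algEquiv ↥A ↑(Z.residueField z)) :
        FractionRing ↥A →+* ↑(Z.residueField z)) = CommRingCat.ofHom A.subtype := by
    ext a
    exact (FractionRing.algEquiv ↥A ↑(Z.residueField z)).commutes a
  have hid : fracInv z A ≫ CommRingCat.ofHom ((FractionRing.algEquiv ↥A ↑(Z.residueField z)) :
        FractionRing ↥A →+* ↑(Z.residueField z)) = 𝟙 _ := by
    ext a
    exact (FractionRing.algEquiv ↥A ↑(Z.residueField z)).apply_symm_apply a
  obtain ⟨l, hl₁, hl₂⟩ := H ↥A (Spec.map (fracInv z A) ≫ Z.fromSpecResidueField z) φ (by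
    rw [← subtype_fracInv, Spec.map_comp]
    simp only [Category.assoc]
    rw [hφ])
  refine ⟨l, ?_, hl₁⟩
  have h1 : Spec.map (CommRingCat.ofHom ((FractionRing.algEquiv ↥A ↑(Z.residueField z)) :
        FractionRing ↥A →+* ↑(Z.residueField z))) ≫ Spec.map (fracInv z A) = 𝟙 _ := by
    rw [← Spec.map_comp, hid, Spec.map_id]
    rfl
  rw [← hinv, Spec.map_comp, Category.assoc, hl₂, ← Category.assoc, ← Category.assoc, h1,
    Category.id_comp]

end conv

end Groth.Agent.Lib.RefVal
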