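import Mathlib
import Groth.Agent.Lib.RefVal11_helper6

/-!
# Domination of local rings by valuation rings vs morphisms from the spectrum (helper6)
-/

set_option autoImplicit false
universe u
open CategoryTheory CategoryTheory.Limits AlgebraicGeometry IsLocalRing

namespace Groth.Agent.Lib.RefVal

/-- A valuation subring `R` of `K` dominating the local ring at `t` (through `ψ`) gives a morphism
`Spec R ⟶ T` with closed point `t` and generic point `Spec ψ ≫ fromSpecStalk t`. -/
theorem exists_lift_of_dominates {T : Scheme.{u}} (t : T) {K : Type u} [Field K]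
    (ψ : T.presheaf.stalk t ⟶ CommRingCat.of K) (R : ValuationSubring K)
    (h1 : ∀ a : T.presheaf.stalk t, ψ.hom a ∈ R)
    (h2 : ∀ a ∈ maximalIdeal (T.presheaf.stalk t), R.valuation (ψ.hom a) < 1) :
    ∃ l : Spec (CommRingCat.of ↥R) ⟶ T,
      Spec.map (CommRingCat.ofHom R.subtype) ≫ l = Spec.map ψ ≫ T.fromSpecStalk t ∧
      l (closedPoint ↥R) = t := by
  have hloc : IsLocalHom (CommRingCat.ofHom (ψ.hom.codRestrict R.toSubring h1)).hom := by
    constructor
    intro a ha
    by_contra hau
    have h3 := h2 a ((mem_maximalIdeal a).mpr hau)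
    have h4 : R.valuation ((ψ.hom.codRestrict R.toSubring h1 a : ↥R) : K) = 1 :=
      (R.valuation_eq_one_iff _).mp ha
    change R.valuation (ψ.hom a) = 1 at h4
    rw [h4] at h3
    exact lt_irrefl _ h3
  refine ⟨Spec.map (CommRingCat.ofHom (ψ.hom.codRestrict R.toSubring h1)) ≫ T.fromSpecStalk t,
    ?_, ?_⟩
  · rw [← Category.assoc, ← Spec.map_comp]
    congr 2
  · rw [Scheme.Hom.comp_apply, Spec_closedPoint, Scheme.fromSpecStalk_closedPoint]

/-- Conversely a morphism `Spec R ⟶ T` whose generic point is `Spec ψ₀ ≫ fromSpecStalk t₀` exhibits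
`R` as dominating the local ring at the image of the closed point. -/
theorem dominates_of_lift {T : Scheme.{u}} (t₀ : T) {K : Type u} [Field K]
    (ψ₀ : T.presheaf.stalk t₀ ⟶ CommRingCat.of K) [IsLocalHom ψ₀.hom] (R : ValuationSubring K)
    (l : Spec (CommRingCat.of ↥R) ⟶ T)
    (hl : Spec.map (CommRingCat.ofHom R.subtype) ≫ l = Spec.map ψ₀ ≫ T.fromSpecStalk t₀) :
    ∃ hsp : t₀ ⤳ l (closedPoint ↥R),
      (∀ a : T.presheaf.stalk (l (closedPoint ↥R)),
        (T.presheaf.stalkSpecializes hsp ≫ ψ₀).hom a ∈ R) ∧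
      ∀ a ∈ maximalIdeal (T.presheaf.stalk (l (closedPoint ↥R))),
        R.valuation ((T.presheaf.stalkSpecializes hsp ≫ ψ₀).hom a) < 1 := by
  have hsp : t₀ ⤳ l (closedPoint ↥R) := by
    have hR : (Spec.map ψ₀ ≫ T.fromSpecStalk t₀) (closedPoint K) = t₀ := by
      rw [Scheme.Hom.comp_apply, Spec_closedPoint, Scheme.fromSpecStalk_closedPoint]
    have h1 := congr($hl (closedPoint K))
    rw [hR, Scheme.Hom.comp_apply] at h1
    rw [← h1]
    exact (specializes_closedPoint (R := ↥R) _).map l.continuous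
  refine ⟨hsp, ?_⟩
  have h3 : Spec.map (Scheme.stalkClosedPointTo l ≫ CommRingCat.ofHom R.subtype) ≫
      T.fromSpecStalk (l (closedPoint ↥R)) =
      Spec.map (T.presheaf.stalkSpecializes hsp ≫ ψ₀) ≫ T.fromSpecStalk (l (closedPoint ↥R)) := by
    rw [Spec.map_comp, Category.assoc, Scheme.Spec_stalkClosedPointTo_fromSpecStalk, hl,
      Spec.map_comp, Category.assoc, Scheme.SpecMap_stalkSpecializes_fromSpecStalk]
  have h4 : Scheme.stalkClosedPointTo l ≫ CommRingCat.ofHom R.subtype =
      T.presheaf.stalkSpecializes hsp ≫ ψ₀ := Spec.map_injective ((cancel_mono _).mp h3)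
  have h5 : ∀ a, (T.presheaf.stalkSpecializes hsp ≫ ψ₀).hom a =
      (((Scheme.stalkClosedPointTo l).hom a : ↥R) : K) := fun a => (congr($h4 a)).symm
  constructor
  · intro a
    rw [h5]
    exact ((Scheme.stalkClosedPointTo l).hom a).2
  · intro a ha
    rw [h5, ← ValuationSubring.valuation_lt_one_iff]
    have hloc : IsLocalHom (Scheme.stalkClosedPointTo l).hom := inferInstance
    rw [mem_maximalIdeal] at ha ⊢
    exact fun hu => ha (hloc.map_nonunit a hu)

end Groth.Agent.Lib.RefVal
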