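import Mathlib
import Groth.Agent.Lib.DvrNhd1_helper7
import Groth.Agent.Lib.RefVal12_helper6

/-!
# EGA IV 15.7: properness near a point via discrete valuation rings of the function field (helper7)
-/

set_option autoImplicit false
set_option linter.style.haveILetI false
universe u
open CategoryTheory CategoryTheory.Limits AlgebraicGeometry TopologicalSpace IsLocalRing

namespace Groth.Agent.Lib.DvrNhdH7

open Groth.Agent.Lib

theorem val_lt_one_comap {F K : Type*} [Field F] [Field K] (φ : F →+* K)
    (A : ValuationSubring K) (a : F) :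
    (A.comap φ).valuation a < 1 ↔ A.valuation (φ a) < 1 := by
  rw [← ValuationSubring.mem_nonunits_iff, ← ValuationSubring.mem_nonunits_iff,
    ValuationSubring.mem_nonunits_iff_or, ValuationSubring.mem_nonunits_iff_or,
    ValuationSubring.mem_comap, map_inv₀, map_eq_zero]

/-- The trace of a discrete valuation ring on a subfield is a discrete valuation ring or the
whole subfield. -/
theorem comap_eq_top_or_isDVR {F K : Type*} [Field F] [Field K] (φ : F →+* K)
    (A : ValuationSubring K) [IsDiscreteValuationRing A] :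
    A.comap φ = ⊤ ∨ IsDiscreteValuationRing (A.comap φ) := by
  by_cases htop : A.comap φ = ⊤
  · exact Or.inl htop
  right
  obtain ⟨R, hR⟩ : ∃ R : ValuationSubring F, R = A.comap φ := ⟨_, rfl⟩
  rw [← hR] at htop ⊢
  have hRmem : ∀ z : F, z ∈ R ↔ φ z ∈ A := fun z => by
    rw [hR]
    exact ValuationSubring.mem_comap
  have hmem : ∀ a : R, φ (a : F) ∈ A := fun a => (hRmem _).mp a.2
  obtain ⟨ρ, hρ⟩ : ∃ ρ : R →+* A, ∀ a : R, ((ρ a : A) : K) = φ (a : F) :=
    ⟨(φ.comp R.subtype).codRestrict A.toSubring hmem, fun _ => rfl⟩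
  have hρinj : Function.Injective ρ := fun a b hab =>
    Subtype.ext (φ.injective (by rw [← hρ, ← hρ, hab]))
  have hρunit : ∀ a : R, IsUnit (ρ a) → IsUnit a := by
    intro a ha
    obtain ⟨b, hb⟩ := isUnit_iff_exists_inv.mp ha
    have hb' : φ (a : F) * (b : K) = 1 := by
      have := congrArg (fun z : A => (z : K)) hb
      rw [← hρ]
      exact this
    have ha0 : (a : F) ≠ 0 := by
      intro h0
      rw [h0, map_zero, zero_mul] at hb'
      exact zero_ne_one hb'
    have hinv : (φ (a : F))⁻¹ = (b : K) := inv_eq_of_mul_eq_one_right hb'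
    have hmemR : (a : F)⁻¹ ∈ R := by
      rw [hRmem, map_inv₀, hinv]
      exact b.2
    exact isUnit_iff_exists_inv.mpr ⟨⟨(a : F)⁻¹, hmemR⟩, Subtype.ext (mul_inv_cancel₀ ha0)⟩
  haveI hwf : WfDvdMonoid R := by
    refine ⟨Subrelation.wf ?_
      (InvImage.wf (fun a : R => IsDiscreteValuationRing.addVal A (ρ a)) wellFounded_lt)⟩
    rintro a b ⟨ha0, x, hx, rfl⟩
    change IsDiscreteValuationRing.addVal A (ρ a) < IsDiscreteValuationRing.addVal A (ρ (a * x))
    rw [map_mul, IsDiscreteValuationRing.addVal_mul]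
    have h1 : IsDiscreteValuationRing.addVal A (ρ a) ≠ ⊤ := by
      rw [Ne, IsDiscreteValuationRing.addVal_eq_top_iff]
      intro h
      exact ha0 (hρinj (by rw [h, map_zero]))
    have h2 : IsDiscreteValuationRing.addVal A (ρ x) ≠ 0 := by
      rw [Ne, IsDiscreteValuationRing.addVal_eq_zero_iff]
      exact fun h => hx (hρunit x h)
    rw [add_comm]
    exact ENat.lt_add_left h1 (pos_iff_ne_zero.mpr h2)
  haveI hpir : IsPrincipalIdealRing R := ((IsBezout.TFAE (R := R)).out 3 1).mp hwf
  refine { not_a_field' := ?_ }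
  intro hbot
  apply htop
  rw [eq_top_iff]
  intro a _
  by_contra ha
  have hinv : a⁻¹ ∈ R := (R.mem_or_inv_mem a).resolve_left ha
  have ha0 : a ≠ 0 := by
    rintro rfl
    exact ha (zero_mem _)
  have hmax : (⟨a⁻¹, hinv⟩ : R) ∈ maximalIdeal R := by
    rw [mem_maximalIdeal, mem_nonunits_iff]
    intro hu
    obtain ⟨b, hb⟩ := isUnit_iff_exists_inv.mp hu
    have hb' : a⁻¹ * (b : F) = 1 := congrArg (fun z : R => (z : F)) hb
    have : a = (b : F) := (inv_mul_eq_one₀ ha0).mp hb'
    exact ha (this ▸ b.2)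
  rw [hbot, Ideal.mem_bot] at hmax
  have : a⁻¹ = 0 := congrArg (fun z : R => (z : F)) hmax
  rw [inv_eq_zero] at this
  exact ha0 this

/-- Two morphisms from the spectrum of a local ring whose closed points are related by a
specialization and which agree after restriction along an injective ring map are equal. -/
theorem eq_of_SpecMap_comp_eq_of_specializes {X : Scheme.{u}} {A B : CommRingCat.{u}}
    [IsLocalRing A] (ρ : A ⟶ B) (hρ : Function.Injective ρ.hom) (u v : Spec A ⟶ X)
    (hcl : u (closedPoint A) ⤳ v (closedPoint A))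
    (h : Spec.map ρ ≫ u = Spec.map ρ ≫ v) : u = v := by
  obtain ⟨_, ⟨V, hV, rfl⟩, hxV, -⟩ := X.isBasis_affineOpens.exists_subset_of_mem_open
    (Set.mem_univ (v (closedPoint A))) isOpen_univ
  obtain ⟨β, rfl⟩ := RefVal.exists_factor_fromSpec u hV (hcl.mem_open V.2 hxV)
  obtain ⟨β', rfl⟩ := RefVal.exists_factor_fromSpec v hV hxV
  rw [← Category.assoc, ← Category.assoc, ← Spec.map_comp, ← Spec.map_comp] at h
  have h2 := RefVal.fromSpec_cancel hV h
  have : β = β' := by
    ext x
    apply hρ
    exact congr($h2 x)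
  rw [this]

/-- Existence part of the valuative criterion for a morphism proper over an open neighbourhood
of the centre. -/
theorem exists_lift_of_proper_nhd {X Y : Scheme.{u}} (f : X ⟶ Y) (U : Y.Opens)
    [IsProper (f ∣_ U)] {K : Type u} [Field K] (A : ValuationSubring K)
    (x : Spec (CommRingCat.of K) ⟶ X) (h : Spec (CommRingCat.of A) ⟶ Y)
    (hcl : h (closedPoint A) ∈ U)
    (hgen : Spec.map (CommRingCat.ofHom A.subtype) ≫ h = x ≫ f) :
    ∃ l : Spec (CommRingCat.of A) ⟶ X, l ≫ f = h ∧
      Spec.map (CommRingCat.ofHom A.subtype) ≫ l = x := by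
  have hmemU : ∀ a : Spec (CommRingCat.of A), h a ∈ U := fun a =>
    ((specializes_closedPoint (R := ↥A) a).map h.continuous).mem_open U.2 hcl
  have hrange : Set.range h ⊆ Set.range U.ι := by
    rintro _ ⟨a, rfl⟩
    rw [Scheme.Opens.range_ι]
    exact hmemU a
  have hrange' : Set.range x ⊆ Set.range (f ⁻¹ᵁ U).ι := by
    rintro _ ⟨a, rfl⟩
    rw [Scheme.Opens.range_ι]
    change f (x a) ∈ U
    rw [← Scheme.Hom.comp_apply, ← hgen, Scheme.Hom.comp_apply]
    exact hmemU _
  obtain ⟨hU, hhU⟩ : ∃ hU : Spec (CommRingCat.of A) ⟶ U, hU ≫ U.ι = h :=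
    ⟨IsOpenImmersion.lift U.ι h hrange, IsOpenImmersion.lift_fac _ _ _⟩
  obtain ⟨xU, hxU⟩ : ∃ xU : Spec (CommRingCat.of K) ⟶ f ⁻¹ᵁ U, xU ≫ (f ⁻¹ᵁ U).ι = x :=
    ⟨IsOpenImmersion.lift (f ⁻¹ᵁ U).ι x hrange', IsOpenImmersion.lift_fac _ _ _⟩
  have hex : ValuativeCriterion.Existence (f ∣_ U) := by
    have : (ValuativeCriterion.Existence ⊓ @QuasiCompact) (f ∣_ U) := by
      rw [← UniversallyClosed.eq_valuativeCriterion]
      infer_instance
    exact this.1
  have e1 : (xU ≫ f ∣_ U) ≫ U.ι = x ≫ f := by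
    rw [Category.assoc, morphismRestrict_ι, ← Category.assoc, hxU]
  have e2 : (Spec.map (CommRingCat.ofHom A.subtype) ≫ hU) ≫ U.ι =
      Spec.map (CommRingCat.ofHom A.subtype) ≫ h := by
    rw [Category.assoc, hhU]
  have e3 : xU ≫ f ∣_ U = Spec.map (CommRingCat.ofHom A.subtype) ≫ hU :=
    (cancel_mono U.ι).mp (by rw [e1, e2, hgen])
  let Sq : ValuativeCommSq (f ∣_ U) :=
    { R := A
      K := K
      i₁ := xU
      i₂ := hU
      commSq := ⟨e3⟩ }
  obtain ⟨⟨l', hl'1, hl'2⟩⟩ := (hex Sq).exists_lift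
  refine ⟨l' ≫ (f ⁻¹ᵁ U).ι, ?_, ?_⟩
  · have : l' ≫ f ∣_ U = hU := hl'2
    rw [Category.assoc, ← morphismRestrict_ι, ← Category.assoc, this, hhU]
  · have : Spec.map (CommRingCat.ofHom A.subtype) ≫ l' = xU := hl'1
    rw [← Category.assoc, this, hxU]

/-- The function field form of the hypothesis implies the lifting property. -/
theorem dvrLift_of_functionField {X Y : Scheme.{u}} [IsIntegral X]
    (f : X ⟶ Y) (y : Y) (hξ : f.base (genericPoint X) ⤳ y)
    (Hyp : ∀ A : ValuationSubring X.functionField, IsDiscreteValuationRing A →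
      (∀ r : Y.presheaf.stalk y, A.valuation
        ((Y.presheaf.stalkSpecializes hξ ≫ f.stalkMap (genericPoint X)) r) ≤ 1) →
      (∀ r ∈ IsLocalRing.maximalIdeal (Y.presheaf.stalk y), A.valuation
        ((Y.presheaf.stalkSpecializes hξ ≫ f.stalkMap (genericPoint X)) r) < 1) →
      ∃ x : X, f.base x = y ∧
        (∀ r : X.presheaf.stalk x,
          A.valuation (X.presheaf.stalkSpecializes (genericPoint_specializes x) r) ≤ 1) ∧
        (∀ r ∈ IsLocalRing.maximalIdeal (X.presheaf.stalk x),
          A.valuation (X.presheaf.stalkSpecializes (genericPoint_specializes x) r) < 1)) :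
    DvrLift f y := by
  intro K _ x hx A' hA' h hcl hgen
  haveI := hA'
  have hxη : x (closedPoint K) = genericPoint X := (hx _ (genericPoint_specializes _)).symm
  obtain ⟨φ, hφ⟩ : ∃ φ : X.functionField ⟶ CommRingCat.of K,
      Spec.map φ ≫ X.fromSpecStalk (genericPoint X) = x := by
    have hsp : x (closedPoint K) ⤳ genericPoint X := specializes_of_eq hxη
    refine ⟨X.presheaf.stalkSpecializes hsp ≫ Scheme.stalkClosedPointTo x, ?_⟩
    rw [Spec.map_comp, Category.assoc, Scheme.SpecMap_stalkSpecializes_fromSpecStalk,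
      Scheme.Spec_stalkClosedPointTo_fromSpecStalk]
  subst hcl
  have hl : Spec.map (CommRingCat.ofHom A'.subtype) ≫ h =
      Spec.map (f.stalkMap (genericPoint X) ≫ φ) ≫ Y.fromSpecStalk (f (genericPoint X)) := by
    rw [hgen, ← hφ, Category.assoc, ← Scheme.SpecMap_stalkMap_fromSpecStalk, Spec.map_comp,
      Category.assoc]
  haveI : IsLocalHom (f.stalkMap (genericPoint X) ≫ φ).hom := by
    rw [CommRingCat.hom_comp]
    exact RingHom.isLocalHom_comp _ _
  obtain ⟨hsp, c1, c2⟩ := RefVal.dominates_of_lift (T := Y) (f (genericPoint X)) (K := K)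
    (f.stalkMap (genericPoint X) ≫ φ) A' h hl
  rcases comap_eq_top_or_isDVR φ.hom A' with htop | hR
  · have hmem : ∀ a : X.functionField, φ.hom a ∈ A' := fun a => by
      have : a ∈ A'.comap φ.hom := by
        rw [htop]
        trivial
      exact ValuationSubring.mem_comap.mp this
    obtain ⟨φA, hφA⟩ : ∃ φA : X.functionField ⟶ CommRingCat.of A',
        φA ≫ CommRingCat.ofHom A'.subtype = φ :=
      ⟨CommRingCat.ofHom (φ.hom.codRestrict A'.toSubring hmem), by ext a; rfl⟩
    have hgenpt : (Spec.map φA ≫ X.fromSpecStalk (genericPoint X)) (closedPoint A') =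
        genericPoint X := by
      rw [Scheme.Hom.comp_apply]
      have := RefVal.eq_closedPoint_of_field (K := ↑X.functionField)
        (Spec.map φA (closedPoint A'))
      rw [this, Scheme.fromSpecStalk_closedPoint]
    refine ⟨Spec.map φA ≫ X.fromSpecStalk (genericPoint X), ?_, ?_⟩
    · apply eq_of_SpecMap_comp_eq_of_specializes (CommRingCat.ofHom A'.subtype)
        Subtype.val_injective
      · rw [Scheme.Hom.comp_apply, hgenpt]
        exact hξ
      · rw [← Category.assoc, ← Category.assoc, ← Spec.map_comp, hφA, hφ, hgen]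
    · rw [← Category.assoc, ← Spec.map_comp, hφA, hφ]
  · obtain ⟨x₀, hx₀, d1, d2⟩ := Hyp (A'.comap φ.hom) hR
      (fun r => by
        rw [ValuationSubring.valuation_le_one_iff, ValuationSubring.mem_comap]
        exact c1 r)
      (fun r hr => by
        rw [val_lt_one_comap]
        exact c2 r hr)
    obtain ⟨l₀, hl₀, hl₀cl⟩ := RefVal.exists_lift_of_dominates (T := X) x₀
      (K := ↑X.functionField) (X.presheaf.stalkSpecializes (genericPoint_specializes x₀))
      (A'.comap φ.hom) (fun a => (ValuationSubring.valuation_le_one_iff _ _).mp (d1 a)) d2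
    obtain ⟨φR, hφR⟩ : ∃ φR : CommRingCat.of (A'.comap φ.hom) ⟶ CommRingCat.of A',
        φR ≫ CommRingCat.ofHom A'.subtype =
          CommRingCat.ofHom (A'.comap φ.hom).subtype ≫ φ :=
      ⟨CommRingCat.ofHom ((φ.hom.comp (A'.comap φ.hom).subtype).codRestrict A'.toSubring
        (fun a => ValuationSubring.mem_comap.mp a.2)), by ext a; rfl⟩
    have hgen' : Spec.map (CommRingCat.ofHom A'.subtype) ≫ Spec.map φR ≫ l₀ = x := by
      rw [← Category.assoc, ← Spec.map_comp, hφR, Spec.map_comp, Category.assoc, hl₀,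
        Scheme.SpecMap_stalkSpecializes_fromSpecStalk, hφ]
    refine ⟨Spec.map φR ≫ l₀, ?_, hgen'⟩
    apply eq_of_SpecMap_comp_eq_of_specializes (CommRingCat.ofHom A'.subtype)
      Subtype.val_injective
    · rw [Scheme.Hom.comp_apply, Scheme.Hom.comp_apply]
      have h1 : l₀ (Spec.map φR (closedPoint A')) ⤳ x₀ := by
        rw [← hl₀cl]
        exact (specializes_closedPoint (R := ↥(A'.comap φ.hom)) _).map l₀.continuous
      have h2 := h1.map f.continuous
      rw [hx₀] at h2
      exact h2
    · rw [← Category.assoc, hgen', hgen]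

/-- **EGA IV 15.7.?** (properness near a point via discrete valuation rings of the function
field). -/
theorem main3434 {X Y : Scheme.{u}} [IsIntegral X] [IsLocallyNoetherian Y]
    (f : X ⟶ Y) [IsSeparated f] [LocallyOfFiniteType f] [QuasiCompact f] (y : Y)
    (hξ : f.base (genericPoint X) ⤳ y) :
    (∃ U : Y.Opens, y ∈ U ∧ IsProper (f ∣_ U)) ↔
      ∀ A : ValuationSubring X.functionField, IsDiscreteValuationRing A →
        (∀ r : Y.presheaf.stalk y, A.valuation
          ((Y.presheaf.stalkSpecializes hξ ≫ f.stalkMap (genericPoint X)) r) ≤ 1) →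
        (∀ r ∈ IsLocalRing.maximalIdeal (Y.presheaf.stalk y), A.valuation
          ((Y.presheaf.stalkSpecializes hξ ≫ f.stalkMap (genericPoint X)) r) < 1) →
        ∃ x : X, f.base x = y ∧
          (∀ r : X.presheaf.stalk x,
            A.valuation (X.presheaf.stalkSpecializes (genericPoint_specializes x) r) ≤ 1) ∧
          (∀ r ∈ IsLocalRing.maximalIdeal (X.presheaf.stalk x),
            A.valuation (X.presheaf.stalkSpecializes (genericPoint_specializes x) r) < 1) := by
  constructor
  · rintro ⟨U, hyU, hU⟩ A hA c1 c2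
    haveI := hU
    obtain ⟨h, hh, hhcl⟩ := RefVal.exists_lift_of_dominates (T := Y) y (K := ↑X.functionField)
      (Y.presheaf.stalkSpecializes hξ ≫ f.stalkMap (genericPoint X)) A
      (fun a => (A.valuation_le_one_iff _).mp (c1 a)) c2
    have hgen : Spec.map (CommRingCat.ofHom A.subtype) ≫ h =
        X.fromSpecStalk (genericPoint X) ≫ f := by
      rw [hh, Spec.map_comp, Category.assoc, Scheme.SpecMap_stalkSpecializes_fromSpecStalk,
        Scheme.SpecMap_stalkMap_fromSpecStalk]
    obtain ⟨l, hl1, hl2⟩ := exists_lift_of_proper_nhd f U A (X.fromSpecStalk (genericPoint X)) h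
      (hhcl ▸ hyU) hgen
    have hl2' : Spec.map (CommRingCat.ofHom A.subtype) ≫ l =
        Spec.map (𝟙 (X.presheaf.stalk (genericPoint X))) ≫ X.fromSpecStalk (genericPoint X) := by
      rw [hl2, Spec.map_id, Category.id_comp]
    haveI : IsLocalHom (CommRingCat.Hom.hom (𝟙 (X.presheaf.stalk (genericPoint X)))) := by
      rw [CommRingCat.hom_id]
      exact isLocalHom_id _
    obtain ⟨hsp, e1, e2⟩ := RefVal.dominates_of_lift (T := X) (genericPoint X)
      (K := ↑X.functionField) (𝟙 _) A l hl2'
    refine ⟨l (closedPoint A), ?_, ?_, ?_⟩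
    · rw [← Scheme.Hom.comp_apply, hl1, hhcl]
    · intro r
      rw [ValuationSubring.valuation_le_one_iff]
      have := e1 r
      rwa [Category.comp_id] at this
    · intro r hr
      have := e2 r hr
      rwa [Category.comp_id] at this
  · intro Hyp
    exact proper_nhd_of_dvrLift f y (dvrLift_of_functionField f y hξ Hyp)

end Groth.Agent.Lib.DvrNhdH7
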