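import Mathlib
import Groth.Agent.Lib.DvrNhd3_helper7

/-!
# EGA IV 15.7: properness of the closure of a subset near a point via sections over discrete
valuation rings (helper7)
-/

set_option autoImplicit false
set_option linter.style.haveILetI false
universe u
open CategoryTheory CategoryTheory.Limits AlgebraicGeometry TopologicalSpace IsLocalRing

namespace Groth.Agent.Lib.DvrNhdH7

open Groth.Agent.Lib

theorem specMap_algebraMap_eq_genericPoint (R K : Type u) [CommRing R] [IsDomain R] [Field K]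
    [Algebra R K] [IsFractionRing R K] (p : Spec (CommRingCat.of K)) :
    Spec.map (CommRingCat.ofHom (algebraMap R K)) p = genericPoint (Spec (CommRingCat.of R)) := by
  rw [genericPoint_eq_bot_of_affine]
  apply PrimeSpectrum.ext
  change Ideal.comap (algebraMap R K) p.asIdeal = ⊥
  haveI := p.isPrime
  have : p.asIdeal = ⊥ := Ideal.eq_bot_of_prime p.asIdeal
  rw [this]
  exact Ideal.comap_bot_of_injective _ (IsFractionRing.injective R K)

theorem exists_factor_residueField {P : Scheme.{u}} {K : Type u} [Field K]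
    (a : Spec (CommRingCat.of K) ⟶ P) (x' : P) (h : a (closedPoint K) = x') :
    ∃ θ : P.residueField x' ⟶ CommRingCat.of K, a = Spec.map θ ≫ P.fromSpecResidueField x' := by
  subst h
  exact ⟨_, (Scheme.descResidueField_stalkClosedPointTo_fromSpecResidueField K P a).symm⟩

theorem eq_of_residueFieldMap_surjective {P S : Scheme.{u}} {K : Type u} [Field K]
    (a σ : Spec (CommRingCat.of K) ⟶ P) (q : P ⟶ S)
    (h1 : a ≫ q = σ ≫ q) (h2 : a (closedPoint K) = σ (closedPoint K))
    (h3 : Function.Surjective (q.residueFieldMap (σ (closedPoint K))).hom) : a = σ := by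
  obtain ⟨θa, ha⟩ := exists_factor_residueField a _ h2
  obtain ⟨θσ, hσ⟩ := exists_factor_residueField σ _ rfl
  have key : q.residueFieldMap (σ (closedPoint K)) ≫ θa =
      q.residueFieldMap (σ (closedPoint K)) ≫ θσ := by
    apply Spec.map_injective
    rw [← cancel_mono (S.fromSpecResidueField (q (σ (closedPoint K)))), Spec.map_comp,
      Spec.map_comp, Category.assoc, Category.assoc,
      Scheme.Hom.SpecMap_residueFieldMap_fromSpecResidueField, ← Category.assoc,
      ← Category.assoc, ← ha, ← hσ, h1]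
  have : θa = θσ := by
    ext z
    obtain ⟨w, rfl⟩ := h3 z
    exact congr($key w)
  calc a = Spec.map θa ≫ P.fromSpecResidueField (σ (closedPoint K)) := ha
    _ = Spec.map θσ ≫ P.fromSpecResidueField (σ (closedPoint K)) := by rw [this]
    _ = σ := hσ.symm

theorem residue_to_fraction_surjective (R K : Type u) [CommRing R] [IsDomain R] [Field K]
    [Algebra R K] [IsFractionRing R K] (η : Spec (CommRingCat.of R))
    (ω : (Spec (CommRingCat.of R)).residueField η ⟶ CommRingCat.of K)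
    (h : Spec.map ω ≫ (Spec (CommRingCat.of R)).fromSpecResidueField η =
      Spec.map (CommRingCat.ofHom (algebraMap R K))) :
    Function.Surjective ω.hom := by
  obtain ⟨ev, hev⟩ : ∃ ev : CommRingCat.of R ⟶ (Spec (CommRingCat.of R)).residueField η,
      (Spec (CommRingCat.of R)).fromSpecResidueField η = Spec.map ev := by
    refine ⟨CommRingCat.ofHom (algebraMap R η.asIdeal.ResidueField) ≫
      (Scheme.Spec.residueFieldIso (CommRingCat.of R) η).inv, ?_⟩
    rw [Spec.map_comp]
    exact (Scheme.Spec.map_residueFieldIso_inv_eq_fromSpecResidueField _ _).symm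
  rw [hev, ← Spec.map_comp] at h
  have h' : ev ≫ ω = CommRingCat.ofHom (algebraMap R K) := Spec.map_injective h
  intro k
  obtain ⟨a, b, -, rfl⟩ := IsFractionRing.div_surjective (A := R) k
  refine ⟨ev.hom a / ev.hom b, ?_⟩
  rw [map_div₀]
  have ha' : ω.hom (ev.hom a) = algebraMap R K a := congr($h' a)
  have hb' : ω.hom (ev.hom b) = algebraMap R K b := congr($h' b)
  rw [ha', hb']

theorem vanishingIdeal_le_ker {T S : Scheme.{u}} [IsReduced T] (g : T ⟶ S) (W : Closeds S)
    (h : Set.range g ⊆ (W : Set S)) :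
    Scheme.IdealSheafData.vanishingIdeal W ≤ g.ker := by
  have h1 : g.ker = Scheme.IdealSheafData.vanishingIdeal
      (.closure (g '' ((⊤ : Closeds T) : Set T))) := by
    rw [← Scheme.IdealSheafData.map_vanishingIdeal, Scheme.IdealSheafData.vanishingIdeal_top,
      Scheme.nilradical_eq_bot, Scheme.IdealSheafData.map_bot]
  rw [h1]
  apply Scheme.IdealSheafData.vanishingIdeal_antimono
  rw [Closeds.closure_le]
  rintro _ ⟨t, -, rfl⟩
  exact h ⟨t, rfl⟩

theorem universallyClosed_of_range_subset {T₁ T₂ S Y : Scheme.{u}} (c₁ : T₁ ⟶ S) (c₂ : T₂ ⟶ S)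
    [IsClosedImmersion c₁] [IsClosedImmersion c₂] (q : S ⟶ Y)
    (hr : Set.range c₁ ⊆ Set.range c₂) [UniversallyClosed (c₂ ≫ q)] :
    UniversallyClosed (c₁ ≫ q) := by
  haveI : Surjective (pullback.fst c₁ c₂) := by
    constructor
    intro t₁
    obtain ⟨t₂, ht₂⟩ := hr ⟨t₁, rfl⟩
    obtain ⟨z, hz1, -⟩ := Scheme.Pullback.exists_preimage_pullback t₁ t₂ ht₂.symm
    exact ⟨z, hz1⟩
  haveI : UniversallyClosed (pullback.fst c₁ c₂ ≫ c₁ ≫ q) := by
    rw [← Category.assoc, pullback.condition, Category.assoc]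
    infer_instance
  exact UniversallyClosed.of_comp_surjective (pullback.fst c₁ c₂) (c₁ ≫ q)

/-- If the reduced closed subscheme on `W` is proper over a neighbourhood `U` of `y`, then rational
points of the generic fibre over a discrete valuation ring centred at `y` lying in `W` extend to
sections. -/
theorem sections_of_proper {X Y : Scheme.{u}} (f : X ⟶ Y) (W : Set X) (y : Y) (U : Y.Opens)
    (hyU : y ∈ U) (hC : IsClosed ((f ⁻¹ᵁ U).ι.base ⁻¹' W))
    (hprop : IsProper ((Scheme.IdealSheafData.vanishingIdeal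
      (⟨(f ⁻¹ᵁ U).ι.base ⁻¹' W, hC⟩ : Closeds ↥(f ⁻¹ᵁ U))).subschemeι ≫ (f ∣_ U)))
    (A' : Type u) [CommRing A'] [IsDomain A'] [IsDiscreteValuationRing A']
    (g : Spec (CommRingCat.of A') ⟶ Y) (hg : g.base (closedPoint A') = y)
    (x' : ↥(pullback f g)) (hx'W : (pullback.fst f g).base x' ∈ W)
    (hx'η : (pullback.snd f g).base x' = genericPoint (Spec (CommRingCat.of A')))
    (hbij : Function.Bijective ((pullback.snd f g).residueFieldMap x').hom) :
    ∃ s : Spec (CommRingCat.of A') ⟶ pullback f g, s ≫ pullback.snd f g = 𝟙 _ ∧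
      x' ∈ Set.range s.base := by
  obtain ⟨I, hI⟩ : ∃ I : Scheme.IdealSheafData (f ⁻¹ᵁ U : Scheme.{u}),
      I = Scheme.IdealSheafData.vanishingIdeal
        (⟨(f ⁻¹ᵁ U).ι.base ⁻¹' W, hC⟩ : Closeds ↥(f ⁻¹ᵁ U)) := ⟨_, rfl⟩
  rw [← hI] at hprop
  haveI := hprop
  obtain ⟨K, hK⟩ : ∃ K : Type u, K = FractionRing A' := ⟨_, rfl⟩
  subst hK
  obtain ⟨ι, hι⟩ : ∃ ι : Spec (CommRingCat.of (FractionRing A')) ⟶ Spec (CommRingCat.of A'),
      ι = Spec.map (CommRingCat.ofHom (algebraMap A' (FractionRing A'))) := ⟨_, rfl⟩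
  have hιpt : ι (closedPoint (FractionRing A')) = pullback.snd f g x' := by
    rw [hι]
    exact (specMap_algebraMap_eq_genericPoint A' (FractionRing A') _).trans hx'η.symm
  obtain ⟨θ₀, hθ₀⟩ := exists_factor_residueField ι _ hιpt
  obtain ⟨ρinv, hρ⟩ : ∃ ρinv : (pullback f g).residueField x' ⟶
      (Spec (CommRingCat.of A')).residueField (pullback.snd f g x'),
      (pullback.snd f g).residueFieldMap x' ≫ ρinv = 𝟙 _ := by
    refine ⟨CommRingCat.ofHom (RingEquiv.ofBijective _ hbij).symm.toRingHom, ?_⟩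
    ext z
    exact (RingEquiv.ofBijective _ hbij).symm_apply_apply z
  obtain ⟨σ, hσ⟩ : ∃ σ : Spec (CommRingCat.of (FractionRing A')) ⟶ pullback f g,
      σ = Spec.map (ρinv ≫ θ₀) ≫ (pullback f g).fromSpecResidueField x' := ⟨_, rfl⟩
  have hσsnd : σ ≫ pullback.snd f g = ι := by
    rw [hσ, Category.assoc, ← Scheme.Hom.SpecMap_residueFieldMap_fromSpecResidueField,
      ← Category.assoc, ← Spec.map_comp, ← Category.assoc, hρ, Category.id_comp, ← hθ₀]
  have hσpt : ∀ a, σ a = x' := fun a => by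
    rw [hσ, Scheme.Hom.comp_apply, Scheme.fromSpecResidueField_apply]
  have hgU : ∀ a, g a ∈ U := fun a =>
    ((specializes_closedPoint (R := A') a).map g.continuous).mem_open U.2 (hg ▸ hyU)
  obtain ⟨gU, hgU'⟩ : ∃ gU : Spec (CommRingCat.of A') ⟶ U, gU ≫ U.ι = g :=
    ⟨IsOpenImmersion.lift U.ι g (by
      rintro _ ⟨a, rfl⟩
      rw [Scheme.Opens.range_ι]
      exact hgU a), IsOpenImmersion.lift_fac _ _ _⟩
  obtain ⟨xU, hxU⟩ : ∃ xU : Spec (CommRingCat.of (FractionRing A')) ⟶ f ⁻¹ᵁ U,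
      xU ≫ (f ⁻¹ᵁ U).ι = σ ≫ pullback.fst f g :=
    ⟨IsOpenImmersion.lift (f ⁻¹ᵁ U).ι (σ ≫ pullback.fst f g) (by
      rintro _ ⟨a, rfl⟩
      rw [Scheme.Opens.range_ι]
      change f ((σ ≫ pullback.fst f g) a) ∈ U
      rw [← Scheme.Hom.comp_apply, Category.assoc, pullback.condition, ← Category.assoc,
        Scheme.Hom.comp_apply]
      exact hgU _), IsOpenImmersion.lift_fac _ _ _⟩
  have hxUrange : Set.range xU ⊆ ((⟨_, hC⟩ : Closeds ↥(f ⁻¹ᵁ U)) : Set ↥(f ⁻¹ᵁ U)) := by
    rintro _ ⟨a, rfl⟩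
    change (f ⁻¹ᵁ U).ι (xU a) ∈ W
    rw [← Scheme.Hom.comp_apply, hxU, Scheme.Hom.comp_apply, hσpt]
    exact hx'W
  obtain ⟨xW, hxW⟩ : ∃ xW : Spec (CommRingCat.of (FractionRing A')) ⟶ I.subscheme,
      xW ≫ I.subschemeι = xU :=
    ⟨IsClosedImmersion.lift I.subschemeι xU (by
      rw [Scheme.IdealSheafData.ker_subschemeι, hI]
      exact vanishingIdeal_le_ker xU _ hxUrange), IsClosedImmersion.lift_fac _ _ _⟩
  have hex : ValuativeCriterion.Existence (I.subschemeι ≫ f ∣_ U) := by
    have : (ValuativeCriterion.Existence ⊓ @QuasiCompact) (I.subschemeι ≫ f ∣_ U) := by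
      rw [← UniversallyClosed.eq_valuativeCriterion]
      infer_instance
    exact this.1
  have e1 : xW ≫ I.subschemeι ≫ (f ⁻¹ᵁ U).ι = σ ≫ pullback.fst f g := by
    rw [← Category.assoc, hxW, hxU]
  have hsq : xW ≫ (I.subschemeι ≫ f ∣_ U) = ι ≫ gU := by
    apply (cancel_mono U.ι).mp
    calc (xW ≫ (I.subschemeι ≫ f ∣_ U)) ≫ U.ι
        = (xW ≫ I.subschemeι ≫ (f ⁻¹ᵁ U).ι) ≫ f := by
          simp only [Category.assoc, morphismRestrict_ι]
      _ = (σ ≫ pullback.fst f g) ≫ f := by rw [e1]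
      _ = (σ ≫ pullback.snd f g) ≫ g := by
          rw [Category.assoc, pullback.condition, Category.assoc]
      _ = (ι ≫ gU) ≫ U.ι := by rw [hσsnd, Category.assoc, hgU']
  let Sq : ValuativeCommSq (I.subschemeι ≫ f ∣_ U) :=
    { R := A'
      K := FractionRing A'
      i₁ := xW
      i₂ := gU
      commSq := ⟨hι ▸ hsq⟩ }
  obtain ⟨⟨l', hl'1, hl'2⟩⟩ := (hex Sq).exists_lift
  have hl'1' : ι ≫ l' = xW := hι ▸ hl'1
  have hl'2' : l' ≫ I.subschemeι ≫ f ∣_ U = gU := hl'2
  have hlf : (l' ≫ I.subschemeι ≫ (f ⁻¹ᵁ U).ι) ≫ f = 𝟙 _ ≫ g := by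
    calc (l' ≫ I.subschemeι ≫ (f ⁻¹ᵁ U).ι) ≫ f
        = (l' ≫ I.subschemeι ≫ f ∣_ U) ≫ U.ι := by
          simp only [Category.assoc, morphismRestrict_ι]
      _ = 𝟙 _ ≫ g := by rw [hl'2', hgU', Category.id_comp]
  refine ⟨pullback.lift (l' ≫ I.subschemeι ≫ (f ⁻¹ᵁ U).ι) (𝟙 _) hlf, pullback.lift_snd _ _ _, ?_⟩
  refine ⟨ι (closedPoint (FractionRing A')), ?_⟩
  have : ι ≫ pullback.lift (l' ≫ I.subschemeι ≫ (f ⁻¹ᵁ U).ι) (𝟙 _) hlf = σ := by
    apply pullback.hom_ext
    · rw [Category.assoc, pullback.lift_fst, ← Category.assoc, hl'1', e1]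
    · rw [Category.assoc, pullback.lift_snd, Category.comp_id, hσsnd]
  change (pullback.lift (l' ≫ I.subschemeι ≫ (f ⁻¹ᵁ U).ι) (𝟙 _) hlf) (ι _) = x'
  rw [← Scheme.Hom.comp_apply, this, hσpt]

/-- The section form of the hypothesis gives the lifting property for the reduced closed
subscheme on `closure Z`. -/
theorem dvrLift_of_sections_closure {X Y : Scheme.{u}} (f : X ⟶ Y) (Z : Set X)
    (hZ : ∀ z ∈ closure Z, (∀ z' ∈ closure Z, z ∈ closure {z'} → z' = z) → z ∈ Z) (y : Y)
    (D : ∀ (A' : Type u) [CommRing A'] [IsDomain A'] [IsDiscreteValuationRing A']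
      (g : Spec (CommRingCat.of A') ⟶ Y), g.base (closedPoint A') = y →
      ∀ x' : ↥(pullback f g), (pullback.fst f g).base x' ∈ Z →
        (pullback.snd f g).base x' = genericPoint (Spec (CommRingCat.of A')) →
        Function.Bijective ((pullback.snd f g).residueFieldMap x').hom →
        ∃ s : Spec (CommRingCat.of A') ⟶ pullback f g, s ≫ pullback.snd f g = 𝟙 _ ∧
          x' ∈ Set.range s.base)
    (I : X.IdealSheafData)
    (hI : I = Scheme.IdealSheafData.vanishingIdeal ⟨closure Z, isClosed_closure⟩) :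
    DvrLift (I.subschemeι ≫ f) y := by
  have hrange : Set.range I.subschemeι = closure Z := by
    rw [Scheme.IdealSheafData.range_subschemeι, hI]
    exact Scheme.IdealSheafData.coe_support_vanishingIdeal _
  intro K _ x hx A hA h hcl hgen
  haveI := hA
  have hw : (x ≫ I.subschemeι) ≫ f = Spec.map (CommRingCat.ofHom A.subtype) ≫ h := by
    rw [Category.assoc, hgen]
  obtain ⟨σ, hσ⟩ : ∃ σ : Spec (CommRingCat.of K) ⟶ pullback f h, σ = pullback.lift _ _ hw :=
    ⟨_, rfl⟩
  have hσ1 : σ ≫ pullback.fst f h = x ≫ I.subschemeι := by rw [hσ, pullback.lift_fst]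
  have hσ2 : σ ≫ pullback.snd f h = Spec.map (CommRingCat.ofHom A.subtype) := by
    rw [hσ, pullback.lift_snd]
  have hZ' : pullback.fst f h (σ (closedPoint K)) ∈ Z := by
    rw [← Scheme.Hom.comp_apply, hσ1, Scheme.Hom.comp_apply]
    apply hZ
    · rw [← hrange]
      exact ⟨_, rfl⟩
    · intro z' hz' hzz'
      rw [← hrange] at hz'
      obtain ⟨t', rfl⟩ := hz'
      have : t' ⤳ x (closedPoint K) := by
        rw [← I.subschemeι.isEmbedding.isInducing.specializes_iff]
        exact specializes_iff_mem_closure.mpr hzz'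
      rw [hx t' this]
  have hη : pullback.snd f h (σ (closedPoint K)) = genericPoint (Spec (CommRingCat.of A)) := by
    rw [← Scheme.Hom.comp_apply, hσ2]
    exact specMap_algebraMap_eq_genericPoint A K _
  obtain ⟨θσ, hθσ⟩ := exists_factor_residueField σ _ rfl
  have hω : Spec.map ((pullback.snd f h).residueFieldMap (σ (closedPoint K)) ≫ θσ) ≫
      (Spec (CommRingCat.of A)).fromSpecResidueField _ =
      Spec.map (CommRingCat.ofHom (algebraMap A K)) := by
    rw [Spec.map_comp, Category.assoc, Scheme.Hom.SpecMap_residueFieldMap_fromSpecResidueField,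
      ← Category.assoc, ← hθσ, hσ2]
    rfl
  have hsurj := residue_to_fraction_surjective A K _ _ hω
  have hbij : Function.Bijective
      ((pullback.snd f h).residueFieldMap (σ (closedPoint K))).hom := by
    refine ⟨RingHom.injective _, fun z => ?_⟩
    obtain ⟨w, hw⟩ := hsurj (θσ.hom z)
    exact ⟨w, θσ.hom.injective hw⟩
  obtain ⟨s, hs1, hs2⟩ := D A h hcl (σ (closedPoint K)) hZ' hη hbij
  have hsσ : Spec.map (CommRingCat.ofHom A.subtype) ≫ s = σ := by
    apply eq_of_residueFieldMap_surjective _ _ (pullback.snd f h)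
    · rw [Category.assoc, hs1, Category.comp_id, hσ2]
    · obtain ⟨b, hb⟩ := hs2
      have hb2 : b = Spec.map (CommRingCat.ofHom A.subtype) (closedPoint K) := by
        have := congrArg (pullback.snd f h) hb
        rw [← Scheme.Hom.comp_apply, hs1, ← Scheme.Hom.comp_apply σ, hσ2] at this
        exact this
      rw [Scheme.Hom.comp_apply, ← hb2]
      exact hb
    · exact hbij.2
  have hl₀range : Set.range (s ≫ pullback.fst f h) ⊆
      ((⟨closure Z, isClosed_closure⟩ : Closeds X) : Set X) := by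
    rintro _ ⟨a, rfl⟩
    have hgen_a : genericPoint (Spec (CommRingCat.of A)) ⤳ a := genericPoint_specializes a
    have h1 := hgen_a.map (s ≫ pullback.fst f h).continuous
    refine h1.mem_closed isClosed_closure (subset_closure ?_)
    have h2 : (s ≫ pullback.fst f h) (genericPoint (Spec (CommRingCat.of A))) =
        pullback.fst f h (σ (closedPoint K)) := by
      rw [← hη, ← Scheme.Hom.comp_apply σ, hσ2, ← Scheme.Hom.comp_apply, ← Category.assoc, hsσ,
        Scheme.Hom.comp_apply]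
    rw [h2]
    exact hZ'
  obtain ⟨l, hl⟩ : ∃ l : Spec (CommRingCat.of A) ⟶ I.subscheme,
      l ≫ I.subschemeι = s ≫ pullback.fst f h :=
    ⟨IsClosedImmersion.lift I.subschemeι _ (by
      rw [Scheme.IdealSheafData.ker_subschemeι, hI]
      exact vanishingIdeal_le_ker _ _ hl₀range), IsClosedImmersion.lift_fac _ _ _⟩
  refine ⟨l, ?_, ?_⟩
  · rw [← Category.assoc, hl, Category.assoc, pullback.condition, ← Category.assoc, hs1,
      Category.id_comp]
  · rw [← cancel_mono I.subschemeι, Category.assoc, hl, ← Category.assoc, hsσ, hσ1]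

/-- **EGA IV 15.7.?**: the closure of `Z` is proper over `Y` at `y` iff rational points of generic
fibres over discrete valuation rings centred at `y` lying in `Z` extend to sections. -/
theorem main4978 {X Y : Scheme.{u}} [IsNoetherian Y] (f : X ⟶ Y) [IsSeparated f]
    [LocallyOfFiniteType f] [QuasiCompact f] (Z : Set X)
    (hZ : ∀ z ∈ closure Z, (∀ z' ∈ closure Z, z ∈ closure {z'} → z' = z) → z ∈ Z) (y : Y) :
    (∃ U : Y.Opens, y ∈ U ∧ ∃ hC : IsClosed ((f ⁻¹ᵁ U).ι.base ⁻¹' closure Z),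
      IsProper ((Scheme.IdealSheafData.vanishingIdeal
        (⟨(f ⁻¹ᵁ U).ι.base ⁻¹' closure Z, hC⟩ : TopologicalSpace.Closeds ↥(f ⁻¹ᵁ U))).subschemeι ≫
          (f ∣_ U))) ↔
      ∀ (A' : Type u) [CommRing A'] [IsDomain A'] [IsDiscreteValuationRing A']
        (g : Spec (CommRingCat.of A') ⟶ Y), g.base (IsLocalRing.closedPoint A') = y →
        ∀ x' : ↥(pullback f g), (pullback.fst f g).base x' ∈ Z →
          (pullback.snd f g).base x' = genericPoint (Spec (CommRingCat.of A')) →
          Function.Bijective ((pullback.snd f g).residueFieldMap x').hom →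
          ∃ s : Spec (CommRingCat.of A') ⟶ pullback f g, s ≫ pullback.snd f g = 𝟙 _ ∧
            x' ∈ Set.range s.base := by
  constructor
  · rintro ⟨U, hyU, hC, hprop⟩ A' _ _ _ g hg x' hx'Z hx'η hbij
    exact sections_of_proper f (closure Z) y U hyU hC hprop A' g hg x' (subset_closure hx'Z)
      hx'η hbij
  · intro D
    obtain ⟨I, hI⟩ : ∃ I : X.IdealSheafData,
        I = Scheme.IdealSheafData.vanishingIdeal ⟨closure Z, isClosed_closure⟩ := ⟨_, rfl⟩
    have hrange : Set.range I.subschemeι = closure Z := by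
      rw [Scheme.IdealSheafData.range_subschemeι, hI]
      exact Scheme.IdealSheafData.coe_support_vanishingIdeal _
    have H := dvrLift_of_sections_closure f Z hZ y D I hI
    obtain ⟨U, hyU, hU⟩ := proper_nhd_of_dvrLift (I.subschemeι ≫ f) y H
    have hC : IsClosed ((f ⁻¹ᵁ U).ι.base ⁻¹' closure Z) :=
      isClosed_closure.preimage (f ⁻¹ᵁ U).ι.continuous
    refine ⟨U, hyU, hC, ?_⟩
    rw [morphismRestrict_comp] at hU
    haveI := hU
    haveI : IsClosedImmersion (I.subschemeι ∣_ f ⁻¹ᵁ U) :=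
      IsZariskiLocalAtTarget.restrict (inferInstanceAs (IsClosedImmersion I.subschemeι)) _
    obtain ⟨J, hJ⟩ : ∃ J : Scheme.IdealSheafData (f ⁻¹ᵁ U : Scheme.{u}),
        J = Scheme.IdealSheafData.vanishingIdeal
          (⟨(f ⁻¹ᵁ U).ι.base ⁻¹' closure Z, hC⟩ : Closeds ↥(f ⁻¹ᵁ U)) := ⟨_, rfl⟩
    rw [← hJ]
    have hJrange : Set.range J.subschemeι = (f ⁻¹ᵁ U).ι.base ⁻¹' closure Z := by
      rw [Scheme.IdealSheafData.range_subschemeι, hJ]
      exact Scheme.IdealSheafData.coe_support_vanishingIdeal _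
    have hr : Set.range J.subschemeι ⊆ Set.range (I.subschemeι ∣_ f ⁻¹ᵁ U) := by
      rw [hJrange]
      intro w hw
      have hw' : (f ⁻¹ᵁ U).ι w ∈ Set.range I.subschemeι := by
        rw [hrange]
        exact hw
      obtain ⟨t, ht⟩ := hw'
      have htU : t ∈ I.subschemeι ⁻¹ᵁ f ⁻¹ᵁ U := by
        change I.subschemeι t ∈ f ⁻¹ᵁ U
        rw [ht]
        exact w.2
      refine ⟨⟨t, htU⟩, ?_⟩
      apply Subtype.ext
      rw [morphismRestrict_base_coe]
      exact ht
    haveI : UniversallyClosed (I.subschemeι ∣_ f ⁻¹ᵁ U ≫ f ∣_ U) := hU.toUniversallyClosed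
    haveI : UniversallyClosed (J.subschemeι ≫ f ∣_ U) :=
      universallyClosed_of_range_subset J.subschemeι (I.subschemeι ∣_ f ⁻¹ᵁ U) (f ∣_ U) hr
    haveI : IsSeparated (f ∣_ U) := IsZariskiLocalAtTarget.restrict ‹IsSeparated f› U
    haveI : LocallyOfFiniteType (f ∣_ U) :=
      IsZariskiLocalAtTarget.restrict ‹LocallyOfFiniteType f› U
    exact {}

end Groth.Agent.Lib.DvrNhdH7
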