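import Mathlib

set_option autoImplicit false
set_option maxHeartbeats 1000000

open Polynomial IsLocalRing Function
open scoped Ring

namespace KrasnerH1

/-- Hensel's lemma for adically complete rings, without the (unused) monic hypothesis.
The proof is Mathlib's proof of `IsAdicComplete.henselianRing` verbatim. -/
theorem hensel_nm (R : Type*) [CommRing R] (I : Ideal R) [IsAdicComplete I R]
    (f : R[X]) (a₀ : R) (h₁ : f.eval a₀ ∈ I)
    (h₂ : IsUnit (Ideal.Quotient.mk I (f.derivative.eval a₀))) :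
    ∃ a : R, f.IsRoot a ∧ a - a₀ ∈ I := by
  classical
  let f' := derivative f
  -- we define a sequence `c n` by starting at `a₀` and then continually
  -- applying the function sending `b` to `b - f(b)/f'(b)` (Newton's method).
  -- Note that `f'.eval b` is a unit, because `b` has the same residue as `a₀` modulo `I`.
  let c : ℕ → R := fun n => Nat.recOn n a₀ fun _ b => b - f.eval b * (f'.eval b)⁻¹ʳ
  have hc : ∀ n, c (n + 1) = c n - f.eval (c n) * (f'.eval (c n))⁻¹ʳ := by
    intro n
    simp only [c]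
  -- we now spend some time determining properties of the sequence `c : ℕ → R`
  -- `hc_mod`: for every `n`, we have `c n ≡ a₀ [SMOD I]`
  -- `hf'c`  : for every `n`, `f'.eval (c n)` is a unit
  -- `hfcI`  : for every `n`, `f.eval (c n)` is contained in `I ^ (n+1)`
  have hc_mod : ∀ n, c n ≡ a₀ [SMOD I] := by
    intro n
    induction n with
    | zero => rfl
    | succ n ih => ?_
    rw [hc, sub_eq_add_neg, ← add_zero a₀]
    refine ih.add ?_
    rw [SModEq.zero, Ideal.neg_mem_iff]
    refine I.mul_mem_right _ ?_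
    rw [← SModEq.zero] at h₁ ⊢
    exact (ih.eval f).trans h₁
  have hf'c : ∀ n, IsUnit (f'.eval (c n)) := by
    intro n
    have := isLocalHom_of_le_jacobson_bot I (IsAdicComplete.le_jacobson_bot I)
    apply IsUnit.of_map (Ideal.Quotient.mk I)
    convert! h₂ using 1
    exact SModEq.def.mp ((hc_mod n).eval _)
  have hfcI : ∀ n, f.eval (c n) ∈ I ^ (n + 1) := by
    intro n
    induction n with
    | zero => simpa only [Nat.rec_zero, zero_add, pow_one] using! h₁
    | succ n ih => ?_
    rw [← taylor_eval_sub (c n), hc, sub_eq_add_neg, sub_eq_add_neg,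
      add_neg_cancel_comm]
    rw [eval_eq_sum, sum_over_range' _ _ _ (lt_add_of_pos_right _ zero_lt_two), ←
      Finset.sum_range_add_sum_Ico _ (Nat.le_add_left _ _)]
    swap
    · intro i
      rw [zero_mul]
    refine Ideal.add_mem _ ?_ ?_
    · rw [← one_add_one_eq_two, Finset.sum_range_succ, Finset.range_one, Finset.sum_singleton,
        taylor_coeff_zero, taylor_coeff_one, pow_zero, pow_one, mul_one, mul_neg,
        mul_left_comm, Ring.mul_inverse_cancel _ (hf'c n), mul_one, add_neg_cancel]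
      exact Ideal.zero_mem _
    · refine Submodule.sum_mem _ ?_
      simp only [Finset.mem_Ico]
      rintro i ⟨h2i, _⟩
      have aux : n + 2 ≤ i * (n + 1) := by trans 2 * (n + 1) <;> nlinarith only [h2i]
      refine Ideal.mul_mem_left _ _ (Ideal.pow_le_pow_right aux ?_)
      rw [pow_mul']
      exact Ideal.pow_mem_pow ((Ideal.neg_mem_iff _).2 <| Ideal.mul_mem_right _ _ ih) _
  -- we are now in the position to show that `c : ℕ → R` is a Cauchy sequence
  have aux : ∀ m n, m ≤ n → c m ≡ c n [SMOD (I ^ m • ⊤ : Ideal R)] := by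
    intro m n hmn
    rw [← Ideal.one_eq_top, Ideal.smul_eq_mul, mul_one]
    obtain ⟨k, rfl⟩ := Nat.exists_eq_add_of_le hmn
    clear hmn
    induction k with
    | zero => rw [add_zero]
    | succ k ih => ?_
    rw [← add_assoc, hc, ← add_zero (c m), sub_eq_add_neg]
    refine ih.add ?_
    symm
    rw [SModEq.zero, Ideal.neg_mem_iff]
    refine Ideal.mul_mem_right _ _ (Ideal.pow_le_pow_right ?_ (hfcI _))
    rw [add_assoc]
    exact le_self_add
  -- hence the sequence converges to some limit point `a`, which is the `a` we are looking for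
  obtain ⟨a, ha⟩ := IsPrecomplete.prec' c (aux _ _)
  refine ⟨a, ?_, ?_⟩
  · show f.IsRoot a
    suffices ∀ n, f.eval a ≡ 0 [SMOD (I ^ n • ⊤ : Ideal R)] by exact IsHausdorff.haus' _ this
    intro n
    specialize ha n
    rw [← Ideal.one_eq_top, Ideal.smul_eq_mul, mul_one] at ha ⊢
    refine (ha.symm.eval f).trans ?_
    rw [SModEq.zero]
    exact Ideal.pow_le_pow_right le_self_add (hfcI _)
  · show a - a₀ ∈ I
    specialize ha (0 + 1)
    rw [hc, pow_one, ← Ideal.one_eq_top, Ideal.smul_eq_mul, mul_one, sub_eq_add_neg] at ha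
    rw [← SModEq.sub_mem, ← add_zero a₀]
    refine ha.symm.trans (SModEq.rfl.add ?_)
    rw [SModEq.zero, Ideal.neg_mem_iff]
    exact Ideal.mul_mem_right _ _ h₁

theorem eval_mem {A : Type*} [CommRing A] (I : Ideal A) (Q : A[X]) (h : ∀ i, Q.coeff i ∈ I)
    (x : A) : Q.eval x ∈ I := by
  rw [eval_eq_sum_range]
  exact Ideal.sum_mem _ (fun i _ => Ideal.mul_mem_right _ _ (h i))

theorem exists_pow_le (A : Type*) [CommRing A] [IsDomain A] [IsLocalRing A] [IsNoetherianRing A]
    (hdim : ringKrullDim A = 1) (e : A) (he : e ≠ 0) :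
    ∃ N : ℕ, maximalIdeal A ^ N ≤ Ideal.span {e} := by
  haveI : Ring.KrullDimLE 1 A := Ring.krullDimLE_iff.mpr (by rw [hdim]; simp)
  apply Ideal.exists_pow_le_of_le_radical_of_fg _ (IsNoetherian.noetherian _)
  rw [Ideal.radical_eq_sInf]
  refine le_sInf ?_
  rintro p ⟨hp, hpp⟩
  have hne : p ≠ ⊥ := by
    rintro rfl
    exact he (by simpa using hp (Ideal.mem_span_singleton_self e))
  have := hpp.isMaximal_of_ne_bot hne
  rw [IsLocalRing.eq_maximalIdeal this]

theorem main (A : Type*) [CommRing A] [IsDomain A] [IsLocalRing A] [IsNoetherianRing A]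
    [IsAdicComplete (maximalIdeal A) A] (hdim : ringKrullDim A = 1) (P : A[X]) (α : A)
    (hα : P.eval α = 0) (hα' : (derivative P).eval α ≠ 0) (c : ℕ) :
    ∃ n : ℕ, ∀ Q : A[X], (∀ i, Q.coeff i ∈ maximalIdeal A ^ n) →
      ∃ β : A, (P + Q).eval β = 0 ∧ β - α ∈ maximalIdeal A ^ c := by
  set e := (derivative P).eval α with he
  obtain ⟨N, hN⟩ := exists_pow_le A hdim e hα'
  refine ⟨(c + 1) + (N + N), fun Q hQ => ?_⟩
  have hcont : ∀ x ∈ maximalIdeal A ^ ((c + 1) + (N + N)),
      ∃ s ∈ maximalIdeal A ^ (c + 1), s * (e * e) = x := by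
    intro x hx
    have h1 : maximalIdeal A ^ ((c + 1) + (N + N)) ≤
        maximalIdeal A ^ (c + 1) * Ideal.span {e * e} := by
      rw [pow_add _ (c + 1) (N + N), pow_add _ N N, ← Ideal.span_singleton_mul_span_singleton]
      exact Ideal.mul_mono_right (Ideal.mul_mono hN hN)
    exact Ideal.mem_mul_span_singleton.mp (h1 hx)
  have hQ' : ∀ i, (derivative Q).coeff i ∈ maximalIdeal A ^ ((c + 1) + (N + N)) := by
    intro i
    rw [coeff_derivative]
    exact Ideal.mul_mem_right _ _ (hQ _)
  obtain ⟨s, hs, hse⟩ := hcont _ (eval_mem _ Q hQ α)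
  obtain ⟨s', hs', hse'⟩ := hcont _ (eval_mem _ (derivative Q) hQ' α)
  have hm1 : maximalIdeal A ^ (c + 1) ≤ maximalIdeal A := Ideal.pow_le_self (Nat.succ_ne_zero c)
  set F := P + Q with hF
  set G := taylor α F with hG
  have hc0 : G.coeff 0 = s * (e * e) := by
    rw [hG, taylor_coeff_zero, hF, eval_add, hα, zero_add]
    exact hse.symm
  have hc1 : G.coeff 1 = e + s' * (e * e) := by
    rw [hG, taylor_coeff_one, hF, derivative_add, eval_add, hse']
  set G₂ := divX (divX G) with hG₂
  have hGx : ∀ x, G.eval x = G₂.eval x * x * x + G.coeff 1 * x + G.coeff 0 := by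
    intro x
    have h1 : G.eval x = (divX G).eval x * x + G.coeff 0 := by
      conv_lhs => rw [← divX_mul_X_add G]
      simp
    have h2 : (divX G).eval x = G₂.eval x * x + G.coeff 1 := by
      conv_lhs => rw [← divX_mul_X_add (divX G)]
      simp [coeff_divX, hG₂]
    rw [h1, h2]; ring
  obtain ⟨h₂, hh₂⟩ : ∃ h₂ : A[X], ∀ t, h₂.eval t = G₂.eval (e * t) :=
    ⟨G₂.comp (C e * X), fun t => by simp [eval_comp]⟩
  set u := 1 + s' * e with hu
  set h : A[X] := h₂ * X ^ 2 + C u * X + C s with hh
  have hev : ∀ t, h.eval t = h₂.eval t * t ^ 2 + u * t + s := by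
    intro t
    simp [hh]
  have hkey : ∀ t, F.eval (α + e * t) = e * e * h.eval t := by
    intro t
    have h3 : F.eval (α + e * t) = G.eval (e * t) := by
      rw [hG, taylor_eval, add_comm]
    rw [h3, hGx, hc0, hc1, hev, hh₂, hu]
    ring
  have h0 : h.eval 0 = s := by rw [hev]; ring
  have hd0 : (derivative h).eval 0 = u := by
    simp [hh, derivative_mul]
  have hu1 : (Ideal.Quotient.mk (maximalIdeal A)) u = 1 := by
    have h4 : (Ideal.Quotient.mk (maximalIdeal A)) (s' * e) = 0 :=
      Ideal.Quotient.eq_zero_iff_mem.mpr (Ideal.mul_mem_right _ _ (hm1 hs'))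
    rw [hu, map_add, map_one, h4, add_zero]
  obtain ⟨t, ht, htm⟩ := hensel_nm A (maximalIdeal A) h 0 (by rw [h0]; exact hm1 hs)
    (by rw [hd0, hu1]; exact isUnit_one)
  rw [sub_zero] at htm
  have ht0 : h.eval t = 0 := ht
  obtain ⟨k, hk⟩ := exists_mul_sq_add_linear_part_eq_eval_add h 0 t
  rw [zero_add, ht0, h0, hd0] at hk
  have hw : IsUnit (u + k * t) := by
    rw [← IsLocalRing.notMem_maximalIdeal]
    intro hmem
    have h1 : (1 : A) ∈ maximalIdeal A := by
      have h5 : (1 : A) = (u + k * t) - (s' * e + k * t) := by rw [hu]; ring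
      rw [h5]
      exact Ideal.sub_mem _ hmem (Ideal.add_mem _ (Ideal.mul_mem_right _ _ (hm1 hs'))
        (Ideal.mul_mem_left _ _ htm))
    exact (Ideal.ne_top_iff_one (maximalIdeal A)).mp
      (IsLocalRing.maximalIdeal.isMaximal A).ne_top h1
  obtain ⟨w, hw⟩ := hw
  have htc : t ∈ maximalIdeal A ^ (c + 1) := by
    have h6 : t = (-s) * ↑w⁻¹ := by
      have h2 : t * ↑w = -s := by rw [hw]; linear_combination hk
      calc t = t * ↑w * ↑w⁻¹ := by rw [mul_assoc, Units.mul_inv, mul_one]
        _ = _ := by rw [h2]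
    rw [h6]
    exact Ideal.mul_mem_right _ _ (neg_mem hs)
  refine ⟨α + e * t, ?_, ?_⟩
  · rw [hkey, ht0, mul_zero]
  · rw [add_sub_cancel_left]
    exact Ideal.mul_mem_left _ _ (Ideal.pow_le_pow_right (Nat.le_succ c) htc)

end KrasnerH1
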