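import Mathlib
import Groth.Agent.Lib.Krasner_helper1
import Groth.Agent.Lib.CompleteIC_helper3

/-!
# A finite DVR-extension of a complete DVR is determined by a high truncation
(helper1, for S16501)
-/

namespace Groth.Agent.Lib.DvrQuotH1

open Polynomial IsLocalRing IntermediateField

universe u

section BSide

lemma isDomain_B (A : Type u) [CommRing A]
    (L : Type u) [Field L] [Algebra A L]
    (B : Type u) [CommRing B] [Algebra A B] [Algebra B L] [IsScalarTower A B L]
    [IsIntegralClosure B A L] : IsDomain B :=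
  Function.Injective.isDomain (algebraMap B L) (IsIntegralClosure.algebraMap_injective B A L)

lemma exists_mul_eq_pow (A : Type u) [CommRing A] [IsDomain A] [IsDiscreteValuationRing A]
    (ϖ : A) (hϖ : Irreducible ϖ)
    (K : Type u) [Field K] [Algebra A K] [IsFractionRing A K]
    (L : Type u) [Field L] [Algebra K L] [Algebra A L] [IsScalarTower A K L]
    [FiniteDimensional K L]
    (B : Type u) [CommRing B] [Algebra A B] [Algebra B L] [IsScalarTower A B L]
    [IsIntegralClosure B A L] [IsDomain B] (b₀ : B) (hb₀ : b₀ ≠ 0) :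
    ∃ (r : ℕ) (w : B), b₀ * w = algebraMap A B (ϖ ^ r) := by
  have hint : IsIntegral A b₀ := IsIntegralClosure.isIntegral A L b₀
  have hL0 : algebraMap B L b₀ ≠ 0 := fun h =>
    hb₀ ((IsIntegralClosure.algebraMap_injective B A L) (by rw [h, map_zero]))
  have hintK : IsIntegral K (algebraMap B L b₀) := Algebra.IsIntegral.isIntegral _
  have hmin : minpoly K (algebraMap B L b₀) = (minpoly A b₀).map (algebraMap A K) :=
    minpoly.isIntegrallyClosed_eq_field_fractions K L hint
  have hc0 : (minpoly A b₀).coeff 0 ≠ 0 := by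
    intro h0
    apply minpoly.coeff_zero_ne_zero hintK hL0
    rw [hmin, Polynomial.coeff_map, h0, map_zero]
  obtain ⟨r, u, hu⟩ := IsDiscreteValuationRing.associated_pow_irreducible hc0 hϖ
  have haev : aeval b₀ (minpoly A b₀) = 0 := minpoly.aeval A b₀
  have hdiv : aeval b₀ (minpoly A b₀) = aeval b₀ (divX (minpoly A b₀)) * b₀
      + algebraMap A B ((minpoly A b₀).coeff 0) := by
    conv_lhs => rw [← Polynomial.divX_mul_X_add (minpoly A b₀)]
    rw [map_add, map_mul, aeval_X, aeval_C]
  refine ⟨r, -(aeval b₀ (divX (minpoly A b₀))) * algebraMap A B (u : A), ?_⟩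
  rw [← hu, map_mul]
  have h3 : algebraMap A B ((minpoly A b₀).coeff 0)
      = -(aeval b₀ (divX (minpoly A b₀)) * b₀) := by
    rw [haev] at hdiv
    exact eq_neg_of_add_eq_zero_right hdiv.symm
  rw [h3]
  ring

lemma exists_primitive (A : Type u) [CommRing A] [IsDomain A]
    (K : Type u) [Field K] [Algebra A K] [IsFractionRing A K]
    (L : Type u) [Field L] [Algebra K L] [Algebra A L] [IsScalarTower A K L]
    [FiniteDimensional K L] [Algebra.IsSeparable K L]
    (B : Type u) [CommRing B] [Algebra A B] [Algebra B L] [IsScalarTower A B L]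
    [IsIntegralClosure B A L] : ∃ β : B, K⟮algebraMap B L β⟯ = ⊤ := by
  obtain ⟨α, hα⟩ := Field.exists_primitive_element K L
  obtain ⟨y, hy0, hy⟩ := exists_integral_multiples A K ({α} : Finset L)
  have hyα : IsIntegral A (y • α) := hy α (Finset.mem_singleton_self α)
  obtain ⟨β, hβ⟩ := (IsIntegralClosure.isIntegral_iff (A := B)).mp hyα
  refine ⟨β, ?_⟩
  rw [eq_top_iff, ← hα, IntermediateField.adjoin_simple_le_iff, hβ]
  have hyK : algebraMap A K y ≠ 0 := fun h =>
    hy0 ((IsFractionRing.injective A K) (by rw [h, map_zero]))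
  have h1 : y • α = algebraMap K L (algebraMap A K y) * α := by
    rw [Algebra.smul_def, IsScalarTower.algebraMap_apply A K L]
  have h2 : α = (algebraMap K L (algebraMap A K y))⁻¹ * (y • α) := by
    rw [h1, inv_mul_cancel_left₀]
    exact fun h => hyK ((algebraMap K L).injective (by rw [h, map_zero]))
  have hmem : (algebraMap K L (algebraMap A K y))⁻¹ * (y • α) ∈ K⟮y • α⟯ :=
    mul_mem (inv_mem (IntermediateField.algebraMap_mem _ _)) (mem_adjoin_simple_self K _)
  rw [← h2] at hmem
  exact hmem

lemma aeval_derivative_ne_zero (A : Type u) [CommRing A] [IsDomain A] [IsIntegrallyClosed A]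
    (K : Type u) [Field K] [Algebra A K] [IsFractionRing A K]
    (L : Type u) [Field L] [Algebra K L] [Algebra A L] [IsScalarTower A K L]
    [FiniteDimensional K L] [Algebra.IsSeparable K L]
    (B : Type u) [CommRing B] [Algebra A B] [Algebra B L] [IsScalarTower A B L]
    [IsIntegralClosure B A L] [IsDomain B] (β : B) :
    aeval β (derivative (minpoly A β)) ≠ 0 := by
  have hint : IsIntegral A β := IsIntegralClosure.isIntegral A L β
  have hmin : minpoly K (algebraMap B L β) = (minpoly A β).map (algebraMap A K) :=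
    minpoly.isIntegrallyClosed_eq_field_fractions K L hint
  have hsep : (minpoly K (algebraMap B L β)).Separable := Algebra.IsSeparable.isSeparable K _
  have h1 := hsep.aeval_derivative_ne_zero (minpoly.aeval K (algebraMap B L β))
  intro h0
  apply h1
  rw [hmin, Polynomial.derivative_map, Polynomial.aeval_map_algebraMap,
    Polynomial.aeval_algebraMap_apply, h0, map_zero]

lemma exists_conductor (A : Type u) [CommRing A] [IsDomain A] [IsDiscreteValuationRing A]
    (ϖ : A) (hϖ : Irreducible ϖ)
    (K : Type u) [Field K] [Algebra A K] [IsFractionRing A K]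
    (L : Type u) [Field L] [Algebra K L] [Algebra A L] [IsScalarTower A K L]
    [FiniteDimensional K L] [Algebra.IsSeparable K L]
    (B : Type u) [CommRing B] [Algebra A B] [Algebra B L] [IsScalarTower A B L]
    [IsIntegralClosure B A L] [IsDomain B] (β : B) (hβ : K⟮algebraMap B L β⟯ = ⊤) :
    ∃ s : ℕ, ∀ b : B, ∃ P : A[X], aeval β P = algebraMap A B (ϖ ^ s) * b := by
  haveI : Module.Finite A B := IsIntegralClosure.finite A K L B
  have step1 : ∀ b : B, ∃ (n : ℕ) (P : A[X]), aeval β P = algebraMap A B (ϖ ^ n) * b := by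
    intro b
    have hmem : algebraMap B L b ∈ K⟮algebraMap B L β⟯ := by
      rw [hβ]
      exact IntermediateField.mem_top
    have halg : IsAlgebraic K (algebraMap B L β) := Algebra.IsAlgebraic.isAlgebraic _
    rw [← IntermediateField.mem_toSubalgebra,
      IntermediateField.adjoin_simple_toSubalgebra_of_isAlgebraic halg,
      Algebra.adjoin_singleton_eq_range_aeval] at hmem
    obtain ⟨Q, hQ⟩ := hmem
    obtain ⟨a, ha⟩ := IsLocalization.integerNormalization_map_to_map (nonZeroDivisors A) Q
    have ha0 : (a : A) ≠ 0 := nonZeroDivisors.coe_ne_zero a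
    obtain ⟨n, u, hu⟩ := IsDiscreteValuationRing.associated_pow_irreducible ha0 hϖ
    have h1 : aeval β (IsLocalization.integerNormalization (nonZeroDivisors A) Q)
        = algebraMap A B (a : A) * b := by
      apply IsIntegralClosure.algebraMap_injective B A L
      have hQ' : aeval (algebraMap B L β) Q = algebraMap B L b := hQ
      rw [← Polynomial.aeval_algebraMap_apply, ← Polynomial.aeval_map_algebraMap K, ha,
        Algebra.smul_def, Polynomial.algebraMap_apply, map_mul, aeval_C, hQ', map_mul,
        ← IsScalarTower.algebraMap_apply A K L, ← IsScalarTower.algebraMap_apply A B L]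
    refine ⟨n, C (u : A) * IsLocalization.integerNormalization (nonZeroDivisors A) Q, ?_⟩
    rw [map_mul, aeval_C, h1, ← hu, map_mul]
    ring
  choose n P hP using step1
  obtain ⟨S, hS⟩ := (Module.Finite.fg_top : (⊤ : Submodule A B).FG)
  refine ⟨S.sup n, fun b => ?_⟩
  have hb : b ∈ Submodule.span A (S : Set B) := by
    rw [hS]
    trivial
  induction hb using Submodule.span_induction with
  | mem x hx =>
    have hle : n x ≤ S.sup n := Finset.le_sup (Finset.mem_coe.1 hx)
    refine ⟨C (ϖ ^ (S.sup n - n x)) * P x, ?_⟩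
    rw [map_mul, aeval_C, hP x, ← mul_assoc, ← map_mul, ← pow_add, Nat.sub_add_cancel hle]
  | zero => exact ⟨0, by simp⟩
  | add x y _ _ hx hy =>
    obtain ⟨Px, hPx⟩ := hx
    obtain ⟨Py, hPy⟩ := hy
    exact ⟨Px + Py, by rw [map_add, hPx, hPy, mul_add]⟩
  | smul a x _ hx =>
    obtain ⟨Px, hPx⟩ := hx
    exact ⟨C a * Px, by rw [map_mul, aeval_C, hPx, Algebra.smul_def]; ring⟩

end BSide

section CSide

lemma algebraMap_injective_of_dvr (A : Type u) [CommRing A] [IsDomain A]
    [IsDiscreteValuationRing A]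
    (C : Type u) [CommRing C] [IsDomain C] [IsDiscreteValuationRing C] [Algebra A C]
    [Module.Finite A C] : Function.Injective (algebraMap A C) := by
  haveI : Algebra.IsIntegral A C := Algebra.IsIntegral.of_finite A C
  rw [injective_iff_map_eq_zero]
  intro a ha
  by_contra ha0
  have hker : (RingHom.ker (algebraMap A C)).IsPrime := RingHom.ker_isPrime _
  have hne : RingHom.ker (algebraMap A C) ≠ ⊥ := by
    intro h
    apply ha0
    have hmem : a ∈ RingHom.ker (algebraMap A C) := ha
    rw [h] at hmem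
    exact hmem
  have hmax : (RingHom.ker (algebraMap A C)).IsMaximal := hker.isMaximal hne
  obtain ⟨x, hx⟩ := IsDiscreteValuationRing.exists_irreducible C
  have hlt := Ideal.comap_lt_comap_of_integral_mem_sdiff (R := A) (I := (⊥ : Ideal C))
    (J := maximalIdeal C) bot_le (x := x)
    ⟨(mem_maximalIdeal x).2 (mem_nonunits_iff.2 hx.not_isUnit),
      fun h => hx.ne_zero ((Ideal.mem_bot).1 h)⟩ (Algebra.IsIntegral.isIntegral x)
  have hk : RingHom.ker (algebraMap A C) = Ideal.comap (algebraMap A C) ⊥ := rfl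
  rw [← hk] at hlt
  have hcm : (maximalIdeal C).comap (algebraMap A C) ≠ ⊤ :=
    (Ideal.comap_isPrime (algebraMap A C) (maximalIdeal C)).ne_top
  have heq : RingHom.ker (algebraMap A C) = (maximalIdeal C).comap (algebraMap A C) :=
    hmax.eq_of_le hcm (le_of_lt hlt)
  exact (ne_of_lt hlt) heq

lemma algebraMap_mem_maximalIdeal (A : Type u) [CommRing A] [IsLocalRing A]
    (C : Type u) [CommRing C] [IsLocalRing C] [Algebra A C]
    [Module.Finite A C] (a : A) (ha : a ∈ maximalIdeal A) :
    algebraMap A C a ∈ maximalIdeal C := by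
  haveI : Algebra.IsIntegral A C := Algebra.IsIntegral.of_finite A C
  have hmax : ((maximalIdeal C).comap (algebraMap A C)).IsMaximal :=
    Ideal.isMaximal_comap_of_isIntegral_of_isMaximal (maximalIdeal C)
  have heq : (maximalIdeal C).comap (algebraMap A C) = maximalIdeal A :=
    IsLocalRing.eq_maximalIdeal hmax
  have hmem : a ∈ (maximalIdeal C).comap (algebraMap A C) := by
    rw [heq]
    exact ha
  exact hmem

lemma strong_hensel (R : Type u) [CommRing R] [IsLocalRing R]
    [IsAdicComplete (maximalIdeal R) R]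
    (F : R[X]) (γ₀ t : R) (ht : t ∈ maximalIdeal R)
    (hF : F.eval γ₀ = (F.derivative.eval γ₀) ^ 2 * t) :
    ∃ y : R, y ∈ Ideal.span {t} ∧ F.eval (γ₀ + F.derivative.eval γ₀ * y) = 0 := by
  obtain ⟨d, hd⟩ : ∃ d, d = F.derivative.eval γ₀ := ⟨_, rfl⟩
  obtain ⟨T, hT⟩ : ∃ T, T = taylor γ₀ F := ⟨_, rfl⟩
  have hT0 : T.coeff 0 = d ^ 2 * t := by rw [hT, taylor_coeff_zero, hF, hd]
  have hT1 : T.coeff 1 = d := by rw [hT, taylor_coeff_one, hd]
  obtain ⟨T₂, hT₂⟩ : ∃ T₂, T₂ = divX (divX T) := ⟨_, rfl⟩
  have hexp : ∀ z : R, T.eval z = (T₂.eval z * z + d) * z + d ^ 2 * t := by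
    intro z
    have e1 : T = divX T * X + C (T.coeff 0) := (divX_mul_X_add T).symm
    have e2 : divX T = divX (divX T) * X + C ((divX T).coeff 0) :=
      (divX_mul_X_add (divX T)).symm
    have e3 : (divX T).coeff 0 = T.coeff 1 := by rw [coeff_divX]
    conv_lhs => rw [e1, e2]
    rw [e3, hT0, hT1, hT₂]
    simp only [eval_add, eval_mul, eval_X, eval_C]
  obtain ⟨g, hg⟩ : ∃ g : R[X], g = C t + X + X ^ 2 * T₂.comp (C d * X) := ⟨_, rfl⟩
  have hgeval : ∀ y : R, g.eval y = t + y + y ^ 2 * T₂.eval (d * y) := by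
    intro y
    rw [hg]
    simp only [eval_add, eval_mul, eval_pow, eval_X, eval_C, eval_comp]
  have hg0 : g.eval 0 ∈ maximalIdeal R := by
    rw [hgeval]
    simpa using ht
  have hg1 : IsUnit (Ideal.Quotient.mk (maximalIdeal R) (g.derivative.eval 0)) := by
    have h1 : g.derivative.eval 0 = 1 := by
      rw [hg]
      simp [derivative_mul]
    rw [h1, map_one]
    exact isUnit_one
  obtain ⟨y, hy, hy0⟩ := KrasnerH1.hensel_nm R (maximalIdeal R) g 0 hg0 hg1
  rw [sub_zero] at hy0
  have hroot : g.eval y = 0 := hy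
  rw [hgeval] at hroot
  have hu : IsUnit (1 + y * T₂.eval (d * y)) := by
    by_contra hnu
    have h1 : 1 + y * T₂.eval (d * y) ∈ maximalIdeal R :=
      (mem_maximalIdeal _).2 (mem_nonunits_iff.2 hnu)
    have h2 : y * T₂.eval (d * y) ∈ maximalIdeal R := Ideal.mul_mem_right _ _ hy0
    have h3 : (1 : R) ∈ maximalIdeal R := by
      have h4 := Ideal.sub_mem _ h1 h2
      simpa using h4
    exact (Ideal.ne_top_iff_one _).1 (maximalIdeal.isMaximal R).ne_top h3
  obtain ⟨v, hv⟩ := hu
  refine ⟨y, ?_, ?_⟩
  · rw [Ideal.mem_span_singleton']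
    refine ⟨-(↑v⁻¹ : R), ?_⟩
    have h4 : y * (v : R) = -t := by
      rw [hv]
      linear_combination hroot
    calc -(↑v⁻¹ : R) * t = (↑v⁻¹ : R) * (y * v) := by rw [h4]; ring
      _ = y := by rw [mul_comm y, ← mul_assoc, Units.inv_mul, one_mul]
  · have h5 := hexp (d * y)
    rw [hT, taylor_eval] at h5
    rw [← hd, add_comm, h5]
    linear_combination (d ^ 2) * hroot

end CSide

end Groth.Agent.Lib.DvrQuotH1
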