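import Mathlib
import Groth.Agent.Lib.Chevalley_helper3

/-!
# Chevalley's lemma for arbitrary families of ideals, and coheight-one primes (helper6)
-/

set_option autoImplicit false
universe u

namespace Groth.Agent.Lib.DvrQuotH6

open IsLocalRing

section Chevalley

variable {R : Type u} [CommRing R] [IsNoetherianRing R] [IsLocalRing R]

/-- ideals of a Noetherian local ring are closed for the adic topology -/
theorem mem_of_forall_mem_sup_pow (J : Ideal R) (L : R)
    (hJ : ∀ i : ℕ, L ∈ J ⊔ maximalIdeal R ^ i) : L ∈ J := by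
  have hkrull := Ideal.iInf_pow_smul_eq_bot_of_isLocalRing (M := R ⧸ J) (maximalIdeal R)
    (IsLocalRing.maximalIdeal.isMaximal R).ne_top
  rw [← Ideal.Quotient.eq_zero_iff_mem]
  have hmem : Ideal.Quotient.mk J L ∈
      (⨅ i : ℕ, maximalIdeal R ^ i • ⊤ : Submodule R (R ⧸ J)) := by
    rw [Submodule.mem_iInf]
    intro i
    obtain ⟨y, hy, z, hz, hyz⟩ := Submodule.mem_sup.mp (hJ i)
    rw [← hyz, map_add, Ideal.Quotient.eq_zero_iff_mem.mpr hy, zero_add]
    have h1 : Ideal.Quotient.mk J z = z • (Ideal.Quotient.mk J 1) := by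
      rw [Algebra.smul_def, Ideal.Quotient.algebraMap_eq, ← map_mul, mul_one]
    rw [h1]
    exact Submodule.smul_mem_smul hz Submodule.mem_top
  rw [hkrull] at hmem
  exact (Submodule.mem_bot R).mp hmem

/-- stabilization of finite intersections modulo a power of the maximal ideal -/
theorem exists_finset_minimal (S : Set (Ideal R)) (k : ℕ) :
    ∃ T₀ : Finset (Ideal R), (↑T₀ ⊆ S) ∧ ∀ T : Finset (Ideal R), (↑T ⊆ S) → T₀ ⊆ T →
      T₀.inf id ≤ T.inf id ⊔ maximalIdeal R ^ k := by
  classical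
  by_cases hk : k = 0
  · subst hk
    refine ⟨∅, by simp, fun T _ _ => ?_⟩
    rw [pow_zero, Ideal.one_eq_top, sup_top_eq]
    exact le_top
  haveI : IsArtinianRing (R ⧸ maximalIdeal R ^ k) := by
    apply IsLocalRing.quotient_artinian_of_mem_minimalPrimes_of_isLocalRing
    refine ⟨⟨inferInstance, Ideal.pow_le_self hk⟩, ?_⟩
    rintro q ⟨hq, hqk⟩ _
    exact hq.le_of_pow_le hqk
  let 𝒜 : Set (Ideal (R ⧸ maximalIdeal R ^ k)) :=
    {J | ∃ T : Finset (Ideal R), (↑T ⊆ S) ∧
      J = (T.inf id).map (Ideal.Quotient.mk (maximalIdeal R ^ k))}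
  have hne : 𝒜.Nonempty := ⟨_, ∅, by simp, rfl⟩
  obtain ⟨M, ⟨T₀, hT₀S, rfl⟩, hmin⟩ := IsArtinian.set_has_minimal 𝒜 hne
  refine ⟨T₀, hT₀S, fun T hTS hT₀T => ?_⟩
  have hle : (T.inf id).map (Ideal.Quotient.mk (maximalIdeal R ^ k)) ≤
      (T₀.inf id).map (Ideal.Quotient.mk (maximalIdeal R ^ k)) :=
    Ideal.map_mono (Finset.inf_mono hT₀T)
  have heq : (T.inf id).map (Ideal.Quotient.mk (maximalIdeal R ^ k)) =
      (T₀.inf id).map (Ideal.Quotient.mk (maximalIdeal R ^ k)) := by
    by_contra hne'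
    exact hmin _ ⟨T, hTS, rfl⟩ (lt_of_le_of_ne hle hne')
  calc T₀.inf id ≤ ((T₀.inf id).map (Ideal.Quotient.mk (maximalIdeal R ^ k))).comap
        (Ideal.Quotient.mk (maximalIdeal R ^ k)) := Ideal.le_comap_map
    _ = ((T.inf id).map (Ideal.Quotient.mk (maximalIdeal R ^ k))).comap
        (Ideal.Quotient.mk (maximalIdeal R ^ k)) := by rw [heq]
    _ = T.inf id ⊔ maximalIdeal R ^ k := by
        rw [Ideal.comap_map_of_surjective _ Ideal.Quotient.mk_surjective,
          ← RingHom.ker_eq_comap_bot, Ideal.mk_ker]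

/-- **Chevalley's lemma** for an arbitrary family of ideals with zero intersection. -/
theorem chevalley_set [IsAdicComplete (maximalIdeal R) R] (S : Set (Ideal R))
    (hS : sInf S = ⊥) (n : ℕ) :
    ∃ T : Finset (Ideal R), (↑T ⊆ S) ∧ T.inf id ≤ maximalIdeal R ^ n := by
  classical
  choose Tk hTkS hTk using exists_finset_minimal (R := R) S
  let U : ℕ → Finset (Ideal R) := fun j => (Finset.range (j + 1)).biUnion Tk
  have hUS : ∀ j, (↑(U j) : Set (Ideal R)) ⊆ S := by
    intro j J hJ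
    obtain ⟨i, -, hi⟩ := Finset.mem_biUnion.1 (Finset.mem_coe.1 hJ)
    exact hTkS i (Finset.mem_coe.2 hi)
  have hUmono : Monotone U := by
    intro a b hab
    exact Finset.biUnion_subset_biUnion_of_subset_left _ (Finset.range_mono (by omega))
  have hTU : ∀ j, Tk j ⊆ U j := fun j =>
    Finset.subset_biUnion_of_mem Tk (Finset.mem_range.2 (Nat.lt_succ_self j))
  let I : ℕ → Ideal R := fun j => (U j).inf id
  have hI : Antitone I := fun a b hab => Finset.inf_mono (hUmono hab)
  have hinf : ⨅ s, I s = ⊥ := by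
    rw [eq_bot_iff]
    intro L hL
    rw [Submodule.mem_iInf] at hL
    have hLS : L ∈ sInf S := by
      rw [Submodule.mem_sInf]
      intro J hJ
      apply mem_of_forall_mem_sup_pow
      intro i
      have h1 : L ∈ (Tk i).inf id := (Finset.inf_mono (f := id) (hTU i)) (hL i)
      have h2 := hTk i (insert J (Tk i)) (by
        intro J' hJ'
        rcases Finset.mem_insert.1 (Finset.mem_coe.1 hJ') with rfl | h
        · exact hJ
        · exact hTkS i (Finset.mem_coe.2 h)) (Finset.subset_insert _ _) h1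
      have h3 : (insert J (Tk i)).inf id ≤ J :=
        Finset.inf_le (f := id) (Finset.mem_insert_self J (Tk i))
      exact (sup_le_sup_right h3 _) h2
    rw [hS] at hLS
    exact hLS
  obtain ⟨s, hs⟩ := Groth.Agent.Lib.Chevalley_helper3.chevalley I hI hinf n
  exact ⟨U s, hUS s, hs⟩

end Chevalley

section Coheight

variable {E : Type u} [CommRing E] [IsDomain E] [IsNoetherianRing E] [IsLocalRing E]

/-- In a Noetherian local domain with a prime strictly between `0` and the maximal ideal, every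
nonzero element is avoided by some such prime. -/
theorem exists_prime_avoiding (x : E) (hx : x ≠ 0) (q' : Ideal E) [hq' : q'.IsPrime]
    (hq'0 : q' ≠ ⊥) (hq'm : q' ≠ maximalIdeal E) :
    ∃ q : Ideal E, q.IsPrime ∧ q ≠ ⊥ ∧ q ≠ maximalIdeal E ∧ x ∉ q := by
  classical
  by_cases hxu : IsUnit x
  · exact ⟨q', hq', hq'0, hq'm, fun h => hq'.ne_top (Ideal.eq_top_of_isUnit_mem _ h hxu)⟩
  have hbotprime : (⊥ : Ideal E).IsPrime := Ideal.isPrime_bot
  have hq'lt : q' < maximalIdeal E := lt_of_le_of_ne (IsLocalRing.le_maximalIdeal hq'.ne_top) hq'm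
  have hbotlt : (⊥ : Ideal E) < q' := bot_lt_iff_ne_bot.2 hq'0
  have hmht : (2 : ℕ∞) ≤ (maximalIdeal E).height := by
    have h1 : (⊥ : Ideal E).height < q'.height := Ideal.height_strict_mono_of_isPrime hbotlt
    have h2 : q'.height < (maximalIdeal E).height := Ideal.height_strict_mono_of_isPrime hq'lt
    have h3 : (1 : ℕ∞) ≤ q'.height := Order.one_le_iff_pos.2 (lt_of_le_of_lt zero_le h1)
    calc (2 : ℕ∞) = 1 + 1 := by norm_num
      _ ≤ q'.height + 1 := add_le_add h3 le_rfl
      _ ≤ (maximalIdeal E).height := Order.add_one_le_of_lt h2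
  have hht1 : ∀ (y : E) (P : Ideal E), P ∈ (Ideal.span {y}).minimalPrimes →
      P ≠ maximalIdeal E := by
    intro y P hP hPm
    have h1 := Ideal.height_le_one_of_isPrincipal_of_mem_minimalPrimes (Ideal.span {y}) P hP
    rw [hPm] at h1
    exact absurd (hmht.trans h1) (by norm_num)
  have hfin := Ideal.finite_minimalPrimes_of_isNoetherianRing E (Ideal.span {x})
  have hxne : Ideal.span {x} ≠ ⊤ := by
    rw [Ne, Ideal.span_singleton_eq_top]; exact hxu
  -- prime avoidance
  have hnot : ¬ ((maximalIdeal E : Set E) ⊆ ⋃ P ∈ (↑hfin.toFinset : Set (Ideal E)), (P : Set E)) := by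
    intro hsub
    obtain ⟨P, hP, hmP⟩ := (Ideal.subset_union_prime (s := hfin.toFinset) (f := id) ⊥ ⊥
      (fun P hP _ _ => (hfin.mem_toFinset.1 hP).1.1)).1 hsub
    have hPmem := hfin.mem_toFinset.1 hP
    have hPprime : P.IsPrime := hPmem.1.1
    exact hht1 x P hPmem (le_antisymm (IsLocalRing.le_maximalIdeal hPprime.ne_top) hmP)
  obtain ⟨z, hzm, hz⟩ := Set.not_subset.1 hnot
  have hzP : ∀ P ∈ (Ideal.span {x}).minimalPrimes, z ∉ P := by
    intro P hP hzP
    apply hz
    exact Set.mem_biUnion (Finset.mem_coe.2 (hfin.mem_toFinset.2 hP)) hzP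
  obtain ⟨P₀, hP₀⟩ := Ideal.nonempty_minimalPrimes hxne
  have hz0 : z ≠ 0 := fun h0 => hzP P₀ hP₀ (h0 ▸ P₀.zero_mem)
  have hzne : Ideal.span {z} ≠ ⊤ := by
    rw [Ne, Ideal.span_singleton_eq_top]
    exact (IsLocalRing.mem_maximalIdeal z).1 hzm
  obtain ⟨q, hq⟩ := Ideal.nonempty_minimalPrimes hzne
  have hqprime : q.IsPrime := hq.1.1
  have hzq : z ∈ q := hq.1.2 (Ideal.mem_span_singleton_self z)
  refine ⟨q, hqprime, fun h0 => hz0 (by rw [h0] at hzq; exact hzq), hht1 z q hq, fun hxq => ?_⟩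
  obtain ⟨P, hP, hPq⟩ := Ideal.exists_minimalPrimes_le (I := Ideal.span {x}) (J := q)
    ((Ideal.span_singleton_le_iff_mem _).2 hxq)
  have hPprime : P.IsPrime := hP.1.1
  have hxP : x ∈ P := hP.1.2 (Ideal.mem_span_singleton_self x)
  have hP0 : (⊥ : Ideal E) < P := bot_lt_iff_ne_bot.2 (fun h0 => hx (by rw [h0] at hxP; exact hxP))
  rcases eq_or_lt_of_le hPq with heq | hlt
  · exact hzP P hP (heq ▸ hzq)
  · have h1 : (⊥ : Ideal E).height < P.height := Ideal.height_strict_mono_of_isPrime hP0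
    have h2 : P.height < q.height := Ideal.height_strict_mono_of_isPrime hlt
    have h3 := Ideal.height_le_one_of_isPrincipal_of_mem_minimalPrimes (Ideal.span {z}) q hq
    have h4 : (1 : ℕ∞) ≤ P.height := Order.one_le_iff_pos.2 (lt_of_le_of_lt zero_le h1)
    exact absurd (lt_of_le_of_lt h4 (lt_of_lt_of_le h2 h3)) (lt_irrefl _)

end Coheight

end Groth.Agent.Lib.DvrQuotH6
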