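import Mathlib
import Groth.Agent.Lib.DvrQuot1_helper1

/-!
# A finite DVR-extension of a complete DVR is determined by a high truncation, part 2
(helper1, for S16501)
-/

namespace Groth.Agent.Lib.DvrQuotH1

open Polynomial IsLocalRing IntermediateField

universe u

theorem exists_algHom_of_root_aux
    (A : Type u) [CommRing A] [IsDomain A] [IsIntegrallyClosed A]
    (K : Type u) [Field K] [Algebra A K] [IsFractionRing A K]
    (L : Type u) [Field L] [Algebra K L] [Algebra A L] [IsScalarTower A K L]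
    [FiniteDimensional K L]
    (B : Type u) [CommRing B] [Algebra A B] [Algebra B L] [IsScalarTower A B L]
    [IsIntegralClosure B A L] [IsDomain B]
    (β : B) (hβ : K⟮algebraMap B L β⟯ = ⊤)
    (C : Type u) [CommRing C] [IsDomain C] [IsIntegrallyClosed C] [Algebra A C]
    [Algebra.IsIntegral A C]
    (E : Type u) [Field E] [Algebra C E] [IsFractionRing C E] [Algebra A E] [IsScalarTower A C E]
    [Algebra K E] [IsScalarTower A K E]
    (γ : C) (hγ : aeval γ (minpoly A β) = 0) :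
    ∃ ψ : B →ₐ[A] C, ψ β = γ ∧ Function.Injective ψ := by
  haveI : IsIntegralClosure C A E := IsIntegralClosure.of_isIntegrallyClosed C A E
  obtain ⟨βL, hβL⟩ : ∃ βL : L, βL = algebraMap B L β := ⟨_, rfl⟩
  rw [← hβL] at hβ
  have hintA : IsIntegral A β := IsIntegralClosure.isIntegral A L β
  have hint : IsIntegral K βL := Algebra.IsIntegral.isIntegral βL
  have hmin : minpoly K βL = (minpoly A β).map (algebraMap A K) := by
    rw [hβL]
    exact minpoly.isIntegrallyClosed_eq_field_fractions K L hintA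
  have hroot : aeval (algebraMap C E γ) (minpoly K βL) = 0 := by
    rw [hmin, Polynomial.aeval_map_algebraMap, Polynomial.aeval_algebraMap_apply, hγ, map_zero]
  have hmem : algebraMap C E γ ∈ (minpoly K βL).aroots E :=
    (Polynomial.mem_aroots).2 ⟨minpoly.ne_zero hint, hroot⟩
  obtain ⟨ψ₁, hψ₁⟩ : ∃ ψ₁ : K⟮βL⟯ →ₐ[K] E, ψ₁ (AdjoinSimple.gen K βL) = algebraMap C E γ :=
    ⟨(algHomAdjoinIntegralEquiv K hint).symm ⟨_, hmem⟩,
      algHomAdjoinIntegralEquiv_symm_apply_gen K hint ⟨_, hmem⟩⟩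
  obtain ⟨ψL, hψL⟩ : ∃ ψL : L →ₐ[K] E, ψL βL = algebraMap C E γ := by
    refine ⟨ψ₁.comp (((IntermediateField.equivOfEq hβ).symm.toAlgHom).comp
      ((IntermediateField.topEquiv (F := K) (E := L)).symm.toAlgHom)), ?_⟩
    rw [← hψ₁]
    rfl
  obtain ⟨g, hg⟩ : ∃ g : B →ₐ[A] E, ∀ b, g b = ψL (algebraMap B L b) :=
    ⟨(ψL.restrictScalars A).comp (IsScalarTower.toAlgHom A B L), fun b => rfl⟩
  have hintg : ∀ b, IsIntegral A (g b) := fun b => (IsIntegralClosure.isIntegral A L b).map g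
  have hCE : Function.Injective (algebraMap C E) := IsFractionRing.injective C E
  let ψ : B →ₐ[A] C :=
    { toFun := fun b => IsIntegralClosure.mk' C (g b) (hintg b)
      map_one' := hCE (by simp only [IsIntegralClosure.algebraMap_mk', map_one])
      map_mul' := fun x y => hCE (by simp only [IsIntegralClosure.algebraMap_mk', map_mul])
      map_zero' := hCE (by simp only [IsIntegralClosure.algebraMap_mk', map_zero])
      map_add' := fun x y => hCE (by simp only [IsIntegralClosure.algebraMap_mk', map_add])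
      commutes' := fun a => hCE (by
        simp only [IsIntegralClosure.algebraMap_mk', AlgHom.commutes]
        exact IsScalarTower.algebraMap_apply A C E a) }
  have hψE : ∀ b, algebraMap C E (ψ b) = g b := fun b =>
    IsIntegralClosure.algebraMap_mk' C (g b) (hintg b)
  refine ⟨ψ, ?_, ?_⟩
  · apply hCE
    rw [hψE, hg, ← hβL, hψL]
  · intro b b' h
    have h1 : g b = g b' := by rw [← hψE, ← hψE, h]
    rw [hg, hg] at h1
    exact IsIntegralClosure.algebraMap_injective B A L (RingHom.injective (ψL : L →+* E) h1)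

theorem exists_algHom_of_root
    (A : Type u) [CommRing A] [IsDomain A] [IsIntegrallyClosed A]
    (K : Type u) [Field K] [Algebra A K] [IsFractionRing A K]
    (L : Type u) [Field L] [Algebra K L] [Algebra A L] [IsScalarTower A K L]
    [FiniteDimensional K L]
    (B : Type u) [CommRing B] [Algebra A B] [Algebra B L] [IsScalarTower A B L]
    [IsIntegralClosure B A L] [IsDomain B]
    (β : B) (hβ : K⟮algebraMap B L β⟯ = ⊤)
    (C : Type u) [CommRing C] [IsDomain C] [IsIntegrallyClosed C] [Algebra A C]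
    [Algebra.IsIntegral A C] (hinj : Function.Injective (algebraMap A C))
    (γ : C) (hγ : aeval γ (minpoly A β) = 0) :
    ∃ ψ : B →ₐ[A] C, ψ β = γ ∧ Function.Injective ψ := by
  have hAE : Function.Injective (algebraMap A (FractionRing C)) := by
    rw [IsScalarTower.algebraMap_eq A C (FractionRing C)]
    exact (IsFractionRing.injective C (FractionRing C)).comp hinj
  letI instKE : Algebra K (FractionRing C) := (IsFractionRing.lift hAE).toAlgebra
  haveI : IsScalarTower A K (FractionRing C) :=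
    IsScalarTower.of_algebraMap_eq (fun x => (IsFractionRing.lift_algebraMap hAE x).symm)
  exact exists_algHom_of_root_aux A K L B β hβ C (FractionRing C) γ hγ

theorem backward
    (A : Type u) [CommRing A] [IsDomain A] [IsDiscreteValuationRing A]
    [IsAdicComplete (maximalIdeal A) A] (ϖ : A) (hϖ : Irreducible ϖ)
    (K : Type u) [Field K] [Algebra A K] [IsFractionRing A K]
    (L : Type u) [Field L] [Algebra K L] [Algebra A L] [IsScalarTower A K L]
    [FiniteDimensional K L]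
    (B : Type u) [CommRing B] [Algebra A B] [Algebra B L] [IsScalarTower A B L]
    [IsIntegralClosure B A L] [IsDomain B]
    (β : B) (hβ : K⟮algebraMap B L β⟯ = ⊤)
    (r : ℕ) (w : B) (hw : aeval β (derivative (minpoly A β)) * w = algebraMap A B (ϖ ^ r))
    (s : ℕ) (hs : ∀ b : B, ∃ P : A[X], aeval β P = algebraMap A B (ϖ ^ s) * b)
    (C : Type u) [CommRing C] [IsDomain C] [IsDiscreteValuationRing C] [Algebra A C]
    [Module.Finite A C]
    (m : ℕ) (hm : 2 * r + s + 1 ≤ m)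
    (φ : (B ⧸ Ideal.span {algebraMap A B (ϖ ^ m)}) ≃ₐ[A]
      (C ⧸ Ideal.span {algebraMap A C (ϖ ^ m)})) :
    Nonempty (B ≃ₐ[A] C) := by
  classical
  haveI : Algebra.IsIntegral A C := Algebra.IsIntegral.of_finite A C
  have hinjC : Function.Injective (algebraMap A C) := algebraMap_injective_of_dvr A C
  have hϖm : ϖ ∈ maximalIdeal A := (mem_maximalIdeal ϖ).2 (mem_nonunits_iff.2 hϖ.not_isUnit)
  obtain ⟨π, hπ⟩ : ∃ π : C, π = algebraMap A C ϖ := ⟨_, rfl⟩
  have hπm : π ∈ maximalIdeal C := by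
    rw [hπ]
    exact algebraMap_mem_maximalIdeal A C ϖ hϖm
  have hπ0 : π ≠ 0 := by
    rw [hπ]
    exact fun h => hϖ.ne_zero (hinjC (by rw [h, map_zero]))
  have hπpow : ∀ k, algebraMap A C (ϖ ^ k) = π ^ k := fun k => by rw [map_pow, hπ]
  haveI : IsAdicComplete (maximalIdeal C) C :=
    Groth.Agent.Lib.CompleteICH3.isAdicComplete_of_finite_local A C
  obtain ⟨f, hf⟩ : ∃ f : A[X], f = minpoly A β := ⟨_, rfl⟩
  obtain ⟨qB, hqB⟩ : ∃ qB : B →ₐ[A] (B ⧸ Ideal.span {algebraMap A B (ϖ ^ m)}),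
      qB = Ideal.Quotient.mkₐ A _ := ⟨_, rfl⟩
  obtain ⟨qC, hqC⟩ : ∃ qC : C →ₐ[A] (C ⧸ Ideal.span {algebraMap A C (ϖ ^ m)}),
      qC = Ideal.Quotient.mkₐ A _ := ⟨_, rfl⟩
  have hqBs : Function.Surjective qB := by
    rw [hqB]
    exact Ideal.Quotient.mkₐ_surjective A _
  have hqCs : Function.Surjective qC := by
    rw [hqC]
    exact Ideal.Quotient.mkₐ_surjective A _
  have hqCker : ∀ x : C, qC x = 0 → ∃ c, x = π ^ m * c := by
    intro x hx
    rw [hqC, Ideal.Quotient.mkₐ_eq_mk, Ideal.Quotient.eq_zero_iff_mem,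
      Ideal.mem_span_singleton'] at hx
    obtain ⟨c, hc⟩ := hx
    exact ⟨c, by rw [← hc, hπpow, mul_comm]⟩
  have key : ∀ (γ' : C) (b : B), qC γ' = φ (qB b) →
      ∀ P : A[X], qC (aeval γ' P) = φ (qB (aeval b P)) := by
    intro γ' b h P
    rw [← Polynomial.aeval_algHom_apply, ← Polynomial.aeval_algHom_apply, h]
    exact Polynomial.aeval_algHom_apply φ (qB b) P
  obtain ⟨γ₀, hγ₀⟩ := hqCs (φ (qB β))
  have h1 : qC (aeval γ₀ f) = 0 := by
    rw [key γ₀ β hγ₀ f, hf, minpoly.aeval, map_zero, map_zero]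
  obtain ⟨c, hc⟩ := hqCker _ h1
  obtain ⟨w', hw'⟩ := hqCs (φ (qB w))
  have h2 : qC (aeval γ₀ (derivative f) * w' - π ^ r) = 0 := by
    rw [map_sub, map_mul, key γ₀ β hγ₀ (derivative f), hw', ← map_mul, ← map_mul, hf, hw,
      ← hπpow]
    simp only [AlgHom.commutes, AlgEquiv.commutes, sub_self]
  obtain ⟨c', hc'⟩ := hqCker _ h2
  obtain ⟨d, hd⟩ : ∃ d, d = aeval γ₀ (derivative f) := ⟨_, rfl⟩
  have hmr : r ≤ m := by omega
  have hu : IsUnit (1 + π ^ (m - r) * c') := by
    by_contra hnu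
    have h3 : 1 + π ^ (m - r) * c' ∈ maximalIdeal C :=
      (mem_maximalIdeal _).2 (mem_nonunits_iff.2 hnu)
    have h4 : π ^ (m - r) * c' ∈ maximalIdeal C :=
      Ideal.mul_mem_right _ _ (Ideal.pow_mem_of_mem _ hπm _ (by omega))
    have h5 : (1 : C) ∈ maximalIdeal C := by
      have h6 := Ideal.sub_mem _ h3 h4
      simpa using h6
    exact (Ideal.ne_top_iff_one _).1 (maximalIdeal.isMaximal C).ne_top h5
  obtain ⟨v, hv⟩ := hu
  obtain ⟨e₁, he₁⟩ : ∃ e₁ : C, e₁ = w' * (↑v⁻¹ : C) := ⟨_, rfl⟩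
  have hde : d * e₁ = π ^ r := by
    have h6 : d * w' = π ^ r * (v : C) := by
      rw [hv, hd]
      have h7 : π ^ m = π ^ r * π ^ (m - r) := by rw [← pow_add, Nat.add_sub_cancel' hmr]
      linear_combination hc' + c' * h7
    rw [he₁, ← mul_assoc, h6, mul_assoc, Units.mul_inv, mul_one]
  have hm2 : 2 * r ≤ m := by omega
  obtain ⟨t, ht⟩ : ∃ t : C, t = π ^ (m - 2 * r) * (e₁ ^ 2 * c) := ⟨_, rfl⟩
  have htm : t ∈ maximalIdeal C := by
    rw [ht]
    exact Ideal.mul_mem_right _ _ (Ideal.pow_mem_of_mem _ hπm _ (by omega))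
  have hFt : aeval γ₀ f = d ^ 2 * t := by
    have h7 : π ^ m = (π ^ r) ^ 2 * π ^ (m - 2 * r) := by
      rw [← pow_mul, ← pow_add, mul_comm r 2, Nat.add_sub_cancel' hm2]
    rw [hc, ht, h7, ← hde]
    ring
  obtain ⟨fC, hfC⟩ : ∃ fC : C[X], fC = f.map (algebraMap A C) := ⟨_, rfl⟩
  have hev : ∀ x : C, fC.eval x = aeval x f := by
    intro x
    rw [hfC, Polynomial.eval_map_algebraMap]
  have hder : fC.derivative.eval γ₀ = d := by
    rw [hfC, Polynomial.derivative_map, Polynomial.eval_map_algebraMap, hd]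
  obtain ⟨y, hy, hroot⟩ := strong_hensel C fC γ₀ t htm (by rw [hev, hder, hFt])
  rw [hder, hev] at hroot
  obtain ⟨γ, hγdef⟩ : ∃ γ, γ = γ₀ + d * y := ⟨_, rfl⟩
  rw [← hγdef] at hroot
  obtain ⟨y', hy'⟩ := Ideal.mem_span_singleton'.1 hy
  have hγdiff : ∃ z, γ - γ₀ = π ^ (m - 2 * r) * z :=
    ⟨d * y' * (e₁ ^ 2 * c), by rw [hγdef, ← hy', ht]; ring⟩
  rw [hf] at hroot
  obtain ⟨ψ, hψβ, hψinj⟩ := exists_algHom_of_root A K L B β hβ C hinjC γ hroot
  have hstep : ∀ c₀ : C, ∃ (b : B) (c'' : C), c₀ = ψ b + π * c'' := by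
    intro c₀
    obtain ⟨b', hb'⟩ := φ.surjective (qC c₀)
    obtain ⟨b, hb⟩ := hqBs b'
    rw [← hb] at hb'
    obtain ⟨P, hP⟩ := hs b
    have k1 : qC (π ^ s * c₀ - aeval γ₀ P) = 0 := by
      rw [map_sub, key γ₀ β hγ₀ P, hP]
      simp only [map_mul]
      rw [hb', ← hπpow]
      simp only [AlgHom.commutes, AlgEquiv.commutes, sub_self]
    obtain ⟨c₁, hc₁⟩ := hqCker _ k1
    obtain ⟨z₂, hz₂⟩ : ∃ z₂, aeval γ P - aeval γ₀ P = (γ - γ₀) * z₂ := by
      have h8 := Polynomial.sub_dvd_eval_sub γ γ₀ (P.map (algebraMap A C))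
      rw [Polynomial.eval_map_algebraMap, Polynomial.eval_map_algebraMap] at h8
      exact h8
    obtain ⟨z, hz⟩ := hγdiff
    have k3 : π ^ s * ψ b = aeval γ P := by
      rw [← hψβ, Polynomial.aeval_algHom_apply, hP, map_mul, AlgHom.commutes, hπpow]
    refine ⟨b, π ^ (m - s - 1) * c₁ - π ^ (m - 2 * r - s - 1) * (z * z₂), ?_⟩
    have hcancel : π ^ s * c₀ = π ^ s * (ψ b + π * (π ^ (m - s - 1) * c₁
        - π ^ (m - 2 * r - s - 1) * (z * z₂))) := by
      have e1 : π ^ m = π ^ s * π * π ^ (m - s - 1) := by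
        rw [← pow_succ, ← pow_add]
        congr 1
        omega
      have e2 : π ^ (m - 2 * r) = π ^ s * π * π ^ (m - 2 * r - s - 1) := by
        rw [← pow_succ, ← pow_add]
        congr 1
        omega
      rw [hz, e2] at hz₂
      rw [e1] at hc₁
      linear_combination hc₁ - hz₂ - k3
    exact mul_left_cancel₀ (pow_ne_zero s hπ0) hcancel
  have hsurj : Function.Surjective ψ := by
    intro c₀
    have hle : (⊤ : Submodule A C) ≤ LinearMap.range ψ.toLinearMap := by
      refine Submodule.le_of_le_smul_of_le_jacobson_bot (I := maximalIdeal A)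
        Module.Finite.fg_top (IsLocalRing.jacobson_eq_maximalIdeal ⊥ bot_ne_top).ge ?_
      intro x _
      obtain ⟨b, c'', hbc⟩ := hstep x
      rw [hbc]
      refine Submodule.add_mem_sup (LinearMap.mem_range_self _ b) ?_
      have h9 : π * c'' = ϖ • c'' := by rw [hπ, Algebra.smul_def]
      rw [h9]
      exact Submodule.smul_mem_smul hϖm Submodule.mem_top
    obtain ⟨b, hb⟩ := hle (Submodule.mem_top : c₀ ∈ ⊤)
    exact ⟨b, hb⟩
  exact ⟨AlgEquiv.ofBijective ψ ⟨hψinj, hsurj⟩⟩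

theorem main
    (A : Type u) [CommRing A] [IsDomain A] [IsDiscreteValuationRing A]
    [IsAdicComplete (IsLocalRing.maximalIdeal A) A] (ϖ : A) (hϖ : Irreducible ϖ)
    (K : Type u) [Field K] [Algebra A K] [IsFractionRing A K]
    (L : Type u) [Field L] [Algebra K L] [Algebra A L] [IsScalarTower A K L]
    [FiniteDimensional K L] [Algebra.IsSeparable K L]
    (B : Type u) [CommRing B] [Algebra A B] [Algebra B L] [IsScalarTower A B L]
    [IsIntegralClosure B A L] :
    ∃ m₀ : ℕ, 0 < m₀ ∧ ∀ (C : Type u) [CommRing C] [IsDomain C] [IsDiscreteValuationRing C]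
      [Algebra A C] [Module.Finite A C],
      Nonempty (B ≃ₐ[A] C) ↔ ∃ m : ℕ, m₀ < m ∧
        Nonempty ((B ⧸ Ideal.span {algebraMap A B (ϖ ^ m)}) ≃ₐ[A]
          (C ⧸ Ideal.span {algebraMap A C (ϖ ^ m)})) := by
  haveI : IsDomain B := isDomain_B A L B
  obtain ⟨β, hβ⟩ := exists_primitive A K L B
  obtain ⟨r, w, hw⟩ := exists_mul_eq_pow A ϖ hϖ K L B _ (aeval_derivative_ne_zero A K L B β)
  obtain ⟨s, hs⟩ := exists_conductor A ϖ hϖ K L B β hβ
  refine ⟨2 * r + s + 1, by omega, ?_⟩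
  intro C _ _ _ _ _
  constructor
  · rintro ⟨e⟩
    refine ⟨2 * r + s + 2, by omega, ⟨Ideal.quotientEquivAlg _ _ e ?_⟩⟩
    rw [Ideal.map_span, Set.image_singleton]
    congr 2
    simp
  · rintro ⟨m, hm, ⟨φ⟩⟩
    exact backward A ϖ hϖ K L B β hβ r w hw s hs C m (by omega) φ

end Groth.Agent.Lib.DvrQuotH1
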