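import Mathlib
import Groth.Agent.Lib.DvrQuot1_helper6
import Groth.Agent.Lib.CompleteIC_helper3
import Groth.Agent.Lib.MonomialCharP_helper3

/-!
# Finite DVR quotients of complete reduced local rings (helper6)
-/

set_option autoImplicit false
universe u

namespace Groth.Agent.Lib.DvrQuotH6

open IsLocalRing

section Coheight

variable {A : Type u} [CommRing A] [IsNoetherianRing A] [IsLocalRing A]

/-- every non-maximal prime avoiding `x` is contained in a coheight-one prime avoiding `x` -/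
theorem exists_coheight_one_avoiding (x : A) (𝔭 : Ideal A) [h𝔭 : 𝔭.IsPrime] (hx : x ∉ 𝔭)
    (h𝔭m : 𝔭 ≠ maximalIdeal A) :
    ∃ p : Ideal A, p.IsPrime ∧ 𝔭 ≤ p ∧ x ∉ p ∧ p ≠ maximalIdeal A ∧
      ∀ q : Ideal A, q.IsPrime → p < q → q = maximalIdeal A := by
  revert h𝔭 hx h𝔭m
  induction 𝔭 using WellFoundedGT.induction with
  | ind 𝔭 ih =>
  intro h𝔭 hx h𝔭m
  by_cases hco : ∀ q : Ideal A, q.IsPrime → 𝔭 < q → q = maximalIdeal A
  · exact ⟨𝔭, h𝔭, le_rfl, hx, h𝔭m, hco⟩
  push_neg at hco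
  obtain ⟨q', hq'prime, h𝔭q', hq'm⟩ := hco
  haveI : IsDomain (A ⧸ 𝔭) := Ideal.Quotient.isDomain 𝔭
  haveI : IsLocalRing (A ⧸ 𝔭) :=
    IsLocalRing.of_surjective' (Ideal.Quotient.mk 𝔭) Ideal.Quotient.mk_surjective
  have hx' : Ideal.Quotient.mk 𝔭 x ≠ 0 := fun h0 => hx (Ideal.Quotient.eq_zero_iff_mem.1 h0)
  have hker : RingHom.ker (Ideal.Quotient.mk 𝔭) = 𝔭 := Ideal.mk_ker
  have hmapm := Groth.Agent.Lib.MonomialCharPH3.map_mk_maximalIdeal A 𝔭
  have hcomapmap : ∀ J : Ideal A, 𝔭 ≤ J →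
      (J.map (Ideal.Quotient.mk 𝔭)).comap (Ideal.Quotient.mk 𝔭) = J := by
    intro J hJ
    rw [Ideal.comap_map_of_surjective _ Ideal.Quotient.mk_surjective,
      ← RingHom.ker_eq_comap_bot, hker, sup_eq_left.2 hJ]
  haveI hqb'prime : (q'.map (Ideal.Quotient.mk 𝔭)).IsPrime :=
    Ideal.map_isPrime_of_surjective Ideal.Quotient.mk_surjective (by rw [hker]; exact h𝔭q'.le)
  have hqb'0 : q'.map (Ideal.Quotient.mk 𝔭) ≠ ⊥ := by
    intro h0
    have h1 := hcomapmap q' h𝔭q'.le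
    rw [h0, ← RingHom.ker_eq_comap_bot, hker] at h1
    exact h𝔭q'.ne h1
  have hqb'm : q'.map (Ideal.Quotient.mk 𝔭) ≠ maximalIdeal (A ⧸ 𝔭) := by
    intro h0
    have h1 := hcomapmap q' h𝔭q'.le
    rw [h0, ← hmapm, hcomapmap _ (IsLocalRing.le_maximalIdeal h𝔭.ne_top)] at h1
    exact hq'm h1.symm
  obtain ⟨qb, hqbprime, hqb0, hqbm, hxqb⟩ :=
    exists_prime_avoiding (Ideal.Quotient.mk 𝔭 x) hx' (q'.map (Ideal.Quotient.mk 𝔭)) hqb'0 hqb'm
  obtain ⟨q, hqdef⟩ : ∃ q : Ideal A, q = qb.comap (Ideal.Quotient.mk 𝔭) := ⟨_, rfl⟩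
  have hqprime : q.IsPrime := by rw [hqdef]; exact Ideal.comap_isPrime _ _
  have hmapq : q.map (Ideal.Quotient.mk 𝔭) = qb := by
    rw [hqdef]; exact Ideal.map_comap_of_surjective _ Ideal.Quotient.mk_surjective _
  have h𝔭q : 𝔭 ≤ q := by
    rw [hqdef]
    intro a ha
    rw [Ideal.mem_comap, Ideal.Quotient.eq_zero_iff_mem.2 ha]
    exact Ideal.zero_mem _
  have h𝔭q' : 𝔭 < q := by
    refine lt_of_le_of_ne h𝔭q (fun h0 => hqb0 ?_)
    rw [← hmapq, ← h0, Ideal.map_eq_bot_iff_le_ker, hker]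
  have hxq : x ∉ q := by rw [hqdef]; exact hxqb
  have hqm : q ≠ maximalIdeal A := by
    intro h0
    apply hqbm
    rw [← hmapq, h0, hmapm]
  haveI := hqprime
  obtain ⟨p, hp, hqp, hxp, hpm, hco⟩ := ih q h𝔭q' hxq hqm
  exact ⟨p, hp, h𝔭q.trans hqp, hxp, hpm, hco⟩

end Coheight

section DVR

variable (A : Type u) [CommRing A] [IsNoetherianRing A] [IsLocalRing A]
  [IsAdicComplete (maximalIdeal A) A]

/-- the normalization of the quotient by a coheight-one prime of a complete local ring is a DVR,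
finite over `A` -/
theorem exists_dvr_of_coheight_one (p : Ideal A) [hp : p.IsPrime] (hpm : p ≠ maximalIdeal A)
    (hco : ∀ q : Ideal A, q.IsPrime → p < q → q = maximalIdeal A) :
    ∃ (_ : IsDomain (integralClosure (A ⧸ p) (FractionRing (A ⧸ p))))
      (_ : IsDiscreteValuationRing (integralClosure (A ⧸ p) (FractionRing (A ⧸ p))))
      (φ : A →+* integralClosure (A ⧸ p) (FractionRing (A ⧸ p))),
      IsLocalHom φ ∧ φ.Finite ∧ RingHom.ker φ = p := by
  haveI : IsDomain (A ⧸ p) := Ideal.Quotient.isDomain p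
  haveI : IsLocalRing (A ⧸ p) :=
    IsLocalRing.of_surjective' (Ideal.Quotient.mk p) Ideal.Quotient.mk_surjective
  haveI := Groth.Agent.Lib.MonomialCharPH3.isAdicComplete_quotient A p
  have hmapm := Groth.Agent.Lib.MonomialCharPH3.map_mk_maximalIdeal A p
  obtain ⟨hloc, -⟩ := Groth.Agent.Lib.CompleteICH3.integralClosure_complete_local (A ⧸ p)
    (FractionRing (A ⧸ p))
  haveI := hloc
  haveI hfin : Module.Finite (A ⧸ p) (integralClosure (A ⧸ p) (FractionRing (A ⧸ p))) :=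
    Groth.Agent.Lib.CompleteNagataH3.isN2_of_complete_local_domain (A ⧸ p)
      (FractionRing (A ⧸ p)) inferInstance
  haveI : IsNoetherianRing (integralClosure (A ⧸ p) (FractionRing (A ⧸ p))) :=
    IsNoetherianRing.of_finite (A ⧸ p) _
  haveI : IsIntegrallyClosed (integralClosure (A ⧸ p) (FractionRing (A ⧸ p))) :=
    integralClosure.isIntegrallyClosedOfFiniteExtension (FractionRing (A ⧸ p))
  have hinj : Function.Injective
      (algebraMap (A ⧸ p) (integralClosure (A ⧸ p) (FractionRing (A ⧸ p)))) := fun a b h =>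
    IsFractionRing.injective (A ⧸ p) (FractionRing (A ⧸ p)) (congrArg Subtype.val h)
  have hker : RingHom.ker (Ideal.Quotient.mk p) = p := Ideal.mk_ker
  have hDnf : ¬ IsField (A ⧸ p) := by
    intro hf
    have h1 : p.IsMaximal := Ideal.Quotient.maximal_of_isField p hf
    exact hpm (IsLocalRing.eq_maximalIdeal h1)
  have hD'nf : ¬ IsField (integralClosure (A ⧸ p) (FractionRing (A ⧸ p))) := fun hf =>
    hDnf (isField_of_isIntegral_of_isField hinj hf)
  have hprime : ∀ P : Ideal (integralClosure (A ⧸ p) (FractionRing (A ⧸ p))), P ≠ ⊥ →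
      P.IsPrime → P = maximalIdeal _ := by
    intro P hP0 hPp
    have h1 : P.comap (algebraMap (A ⧸ p) _) ≠ ⊥ := fun h => hP0 (Ideal.eq_bot_of_comap_eq_bot h)
    haveI hP'prime : (P.comap (algebraMap (A ⧸ p) _)).IsPrime := Ideal.comap_isPrime _ _
    obtain ⟨q, hqdef⟩ : ∃ q : Ideal A,
        q = (P.comap (algebraMap (A ⧸ p) _)).comap (Ideal.Quotient.mk p) := ⟨_, rfl⟩
    have hqprime : q.IsPrime := by rw [hqdef]; exact Ideal.comap_isPrime _ _
    have hmapq : q.map (Ideal.Quotient.mk p) = P.comap (algebraMap (A ⧸ p) _) := by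
      rw [hqdef]; exact Ideal.map_comap_of_surjective _ Ideal.Quotient.mk_surjective _
    have hpq : p ≤ q := by
      rw [hqdef]
      intro a ha
      rw [Ideal.mem_comap, Ideal.Quotient.eq_zero_iff_mem.2 ha]
      exact Ideal.zero_mem _
    have hpq' : p < q := by
      refine lt_of_le_of_ne hpq (fun h0 => h1 ?_)
      rw [← hmapq, ← h0, Ideal.map_eq_bot_iff_le_ker, hker]
    have hqm := hco q hqprime hpq'
    have h2 : (P.comap (algebraMap (A ⧸ p) _)).IsMaximal := by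
      rw [← hmapq, hqm, hmapm]
      exact IsLocalRing.maximalIdeal.isMaximal _
    have h3 : P.IsMaximal := Ideal.isMaximal_of_isIntegral_of_isMaximal_comap P h2
    exact IsLocalRing.eq_maximalIdeal h3
  have hmne : maximalIdeal (integralClosure (A ⧸ p) (FractionRing (A ⧸ p))) ≠ ⊥ :=
    IsLocalRing.isField_iff_maximalIdeal_eq.not.mp hD'nf
  have h03 := (IsDiscreteValuationRing.TFAE
    (integralClosure (A ⧸ p) (FractionRing (A ⧸ p))) hD'nf).out 0 3
  have hdvr : IsDiscreteValuationRing (integralClosure (A ⧸ p) (FractionRing (A ⧸ p))) :=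
    h03.mpr ⟨inferInstance, maximalIdeal _, ⟨hmne, inferInstance⟩,
      fun P hP => hprime P hP.1 hP.2⟩
  refine ⟨inferInstance, hdvr, (algebraMap (A ⧸ p) _).comp (Ideal.Quotient.mk p), ?_, ?_, ?_⟩
  · -- local hom
    constructor
    intro a ha
    by_contra hau
    have ham : a ∈ maximalIdeal A := (IsLocalRing.mem_maximalIdeal a).2 hau
    have h1 : Ideal.Quotient.mk p a ∈ maximalIdeal (A ⧸ p) := by
      rw [← hmapm]; exact Ideal.mem_map_of_mem _ ham
    have hmax : ((maximalIdeal (integralClosure (A ⧸ p) (FractionRing (A ⧸ p)))).comap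
        (algebraMap (A ⧸ p) _)).IsMaximal :=
      Ideal.isMaximal_comap_of_isIntegral_of_isMaximal _
    have h2 := IsLocalRing.eq_maximalIdeal hmax
    rw [← h2, Ideal.mem_comap] at h1
    exact (IsLocalRing.mem_maximalIdeal _).1 h1 ha
  · exact RingHom.Finite.comp (RingHom.finite_algebraMap.2 hfin)
      (RingHom.Finite.of_surjective _ Ideal.Quotient.mk_surjective)
  · ext a
    rw [RingHom.mem_ker, RingHom.comp_apply, map_eq_zero_iff _ hinj,
      Ideal.Quotient.eq_zero_iff_mem]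

end DVR

/-- **Main theorem (S3450).** -/
theorem main3450 (A : Type u) [CommRing A] [IsNoetherianRing A] [IsLocalRing A] [IsReduced A]
    [IsAdicComplete (maximalIdeal A) A] (hA : ¬ IsField A) (n : ℕ) :
    ∃ (k : ℕ) (V : Fin k → Type u) (_ : ∀ i, CommRing (V i)) (_ : ∀ i, IsDomain (V i))
      (_ : ∀ i, IsDiscreteValuationRing (V i)) (φ : ∀ i, A →+* V i),
      (∀ i, IsLocalHom (φ i) ∧ (φ i).Finite) ∧
        ⨅ i, RingHom.ker (φ i) ≤ maximalIdeal A ^ n := by
  classical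
  obtain ⟨S, hSdef⟩ : ∃ S : Set (Ideal A), S = {p | p.IsPrime ∧ p ≠ maximalIdeal A ∧
      ∀ q : Ideal A, q.IsPrime → p < q → q = maximalIdeal A} := ⟨_, rfl⟩
  have hS : sInf S = ⊥ := by
    rw [eq_bot_iff]
    intro x hx
    by_contra hx0
    have hx0' : x ≠ 0 := fun h => hx0 ((Ideal.mem_bot).2 h)
    obtain ⟨𝔭, h𝔭, hx𝔭, h𝔭m⟩ : ∃ 𝔭 : Ideal A, 𝔭.IsPrime ∧ x ∉ 𝔭 ∧ 𝔭 ≠ maximalIdeal A := by
      by_cases hxu : IsUnit x
      · by_contra hcon
        push_neg at hcon
        have hall : ∀ 𝔭 : Ideal A, 𝔭.IsPrime → 𝔭 = maximalIdeal A := fun 𝔭 h𝔭 =>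
          hcon 𝔭 h𝔭 (fun hx𝔭 => h𝔭.ne_top (Ideal.eq_top_of_isUnit_mem _ hx𝔭 hxu))
        have hm0 : maximalIdeal A = ⊥ := by
          rw [eq_bot_iff]
          intro y hy
          have hy' : y ∈ nilradical A := by
            rw [nilradical_eq_sInf, Submodule.mem_sInf]
            intro J hJ
            rw [hall J hJ]; exact hy
          rw [nilradical_eq_zero] at hy'
          exact hy'
        exact hA (IsLocalRing.isField_iff_maximalIdeal_eq.2 hm0)
      · have hxnil : x ∉ nilradical A := by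
          rw [nilradical_eq_zero]; exact hx0
        rw [nilradical_eq_sInf, Submodule.mem_sInf] at hxnil
        push_neg at hxnil
        obtain ⟨𝔭, h𝔭, hx𝔭⟩ := hxnil
        exact ⟨𝔭, h𝔭, hx𝔭, fun h => hx𝔭 (h ▸ (IsLocalRing.mem_maximalIdeal x).2 hxu)⟩
    obtain ⟨p, hp, -, hxp, hpm, hco⟩ := exists_coheight_one_avoiding x 𝔭 hx𝔭 h𝔭m
    refine hxp ((Submodule.mem_sInf.1 hx) p ?_)
    rw [hSdef]; exact ⟨hp, hpm, hco⟩
  obtain ⟨T, hTS, hT⟩ := chevalley_set S hS n
  let e : Fin T.card ≃ T := T.equivFin.symm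
  have hprop : ∀ i : Fin T.card, (e i : Ideal A).IsPrime ∧ (e i : Ideal A) ≠ maximalIdeal A ∧
      ∀ q : Ideal A, q.IsPrime → (e i : Ideal A) < q → q = maximalIdeal A := fun i => by
    have h1 := hTS (Finset.mem_coe.2 (e i).2)
    rw [hSdef] at h1
    exact h1
  have hdvr := fun i : Fin T.card =>
    @exists_dvr_of_coheight_one A _ _ _ _ (e i : Ideal A) (hprop i).1 (hprop i).2.1 (hprop i).2.2
  choose hdom hdv φ hφ using hdvr
  refine ⟨T.card, fun i => integralClosure (A ⧸ (e i : Ideal A))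
    (FractionRing (A ⧸ (e i : Ideal A))), fun i => inferInstance, hdom, hdv, φ,
    fun i => ⟨(hφ i).1, (hφ i).2.1⟩, ?_⟩
  refine le_trans ?_ hT
  apply Finset.le_inf
  intro p hp
  have h1 := iInf_le (fun i => RingHom.ker (φ i)) (e.symm ⟨p, hp⟩)
  rw [(hφ _).2.2, Equiv.apply_symm_apply] at h1
  exact h1

end Groth.Agent.Lib.DvrQuotH6
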