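import Mathlib
import Groth.Agent.Lib.JacLin_helper4

set_option autoImplicit false
set_option linter.unusedVariables false
set_option linter.unusedTactic false
set_option linter.unreachableTactic false
set_option linter.unusedSectionVars false
set_option linter.style.haveILetI false
set_option linter.deprecated false
set_option maxHeartbeats 1600000

universe u

/-!
# Using formal smoothness at the generic point `𝔮 = ker (A → Λ)` (helper4)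

If `A = P/I` is formally smooth at `𝔮 = ker (A → Λ)` (`Λ` a domain), `f_j ∈ I` and the gradients of
all `h ∈ I` are (after multiplication by `Δ`, modulo `𝔔 = ker (P → Λ)`) combinations of those of the
`f_j`, then `I` and `(f_j)` agree locally at `𝔔`.
-/

namespace Groth.Agent.Lib.SmoothAtQH4

open MvPolynomial

variable {R A Λ : Type u} [CommRing R] [CommRing A] [CommRing Λ] [IsDomain Λ] [Algebra R A]
  [Algebra R Λ] [Algebra A Λ] [IsScalarTower R A Λ]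

/-- Abstract core: `C` is the localization of `P₀` at `Q₀ = π₀⁻¹ 𝔮`, `T = A_𝔮` is formally smooth,
and `Q₀ · ker π₀ = 0`.  Then `C → T` is a square-zero extension and has a section. -/
theorem section_aux {R₀ P₀ A₀ C T : Type u} [CommRing R₀] [CommRing P₀] [CommRing A₀] [CommRing C]
    [CommRing T] [Algebra R₀ P₀] [Algebra R₀ A₀] [Algebra R₀ C] [Algebra R₀ T] [Algebra P₀ C]
    [IsScalarTower R₀ P₀ C] [Algebra A₀ T] [IsScalarTower R₀ A₀ T]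
    (π₀ : P₀ →ₐ[R₀] A₀) (hπ₀ : Function.Surjective π₀) (𝔮 : Ideal A₀) [h𝔮 : 𝔮.IsPrime]
    (Q₀ : Ideal P₀) [hQ₀p : Q₀.IsPrime] (hQ₀ : ∀ x, x ∈ Q₀ ↔ π₀ x ∈ 𝔮)
    [IsLocalization.AtPrime C Q₀] [IsLocalization.AtPrime T 𝔮] [Algebra.FormallySmooth R₀ T]
    (hQI : ∀ q, π₀ q ∈ 𝔮 → ∀ i, π₀ i = 0 → q * i = 0) :
    ∃ (σ : A₀ →ₐ[R₀] C) (𝔫 : Ideal C), (∀ x ∈ 𝔫, ∀ y ∈ 𝔫, x * y = 0) ∧
      (∀ z, algebraMap P₀ C z - σ (π₀ z) ∈ 𝔫) ∧
      (∀ q, π₀ q ∈ 𝔮 → ∀ ν ∈ 𝔫, algebraMap P₀ C q * ν = 0) := by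
  classical
  have hunits : ∀ y : Q₀.primeCompl,
      IsUnit (((IsScalarTower.toAlgHom R₀ A₀ T).comp π₀) y) := by
    rintro ⟨y, hy⟩
    show IsUnit (algebraMap A₀ T (π₀ y))
    exact IsLocalization.map_units T (⟨π₀ y, fun h => hy ((hQ₀ y).mpr h)⟩ : 𝔮.primeCompl)
  obtain ⟨g, hg⟩ : ∃ g : C →ₐ[R₀] T, ∀ z, g (algebraMap P₀ C z) = algebraMap A₀ T (π₀ z) :=
    ⟨IsLocalization.liftAlgHom (A := R₀) (M := Q₀.primeCompl) (S := C)
      (f := (IsScalarTower.toAlgHom R₀ A₀ T).comp π₀) hunits, fun z => by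
      rw [IsLocalization.liftAlgHom_apply, IsLocalization.lift_eq]
      rfl⟩
  have hgsurj : Function.Surjective g := by
    intro t
    obtain ⟨x, ⟨y, hy⟩, rfl⟩ := IsLocalization.exists_mk'_eq 𝔮.primeCompl t
    obtain ⟨x', rfl⟩ := hπ₀ x
    obtain ⟨y', rfl⟩ := hπ₀ y
    have hy' : y' ∈ Q₀.primeCompl := fun h => hy ((hQ₀ y').mp h)
    refine ⟨IsLocalization.mk' C x' (⟨y', hy'⟩ : Q₀.primeCompl), ?_⟩
    rw [IsLocalization.eq_mk'_iff_mul_eq]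
    have h1 : IsLocalization.mk' C x' (⟨y', hy'⟩ : Q₀.primeCompl) * algebraMap P₀ C y'
        = algebraMap P₀ C x' :=
      IsLocalization.mk'_spec C x' (⟨y', hy'⟩ : Q₀.primeCompl)
    have h2 := congrArg g h1
    rw [map_mul, hg, hg] at h2
    exact h2
  have hker0 : ∀ z : P₀, g (algebraMap P₀ C z) = 0 → ∃ t', t' ∉ Q₀ ∧ π₀ (t' * z) = 0 := by
    intro z hz
    rw [hg] at hz
    obtain ⟨⟨t, ht⟩, htz⟩ := (IsLocalization.map_eq_zero_iff 𝔮.primeCompl T (π₀ z)).mp hz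
    obtain ⟨t', rfl⟩ := hπ₀ t
    refine ⟨t', fun h => ht ((hQ₀ t').mp h), ?_⟩
    rw [map_mul]
    exact htz
  have hker_char : ∀ (z : P₀) (s : Q₀.primeCompl), g (IsLocalization.mk' C z s) = 0 →
      ∃ t', t' ∉ Q₀ ∧ π₀ (t' * z) = 0 := by
    intro z s hz
    apply hker0
    have h0 : algebraMap P₀ C z = IsLocalization.mk' C z s * algebraMap P₀ C s :=
      (IsLocalization.mk'_spec C z s).symm
    rw [h0, map_mul, hz, zero_mul]
  obtain ⟨𝔫, h𝔫eq⟩ : ∃ 𝔫 : Ideal C, 𝔫 = RingHom.ker (g : C →+* T) := ⟨_, rfl⟩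
  have hmem𝔫 : ∀ x, x ∈ 𝔫 ↔ g x = 0 := fun x => by
    rw [h𝔫eq]
    exact RingHom.mem_ker
  have hsq : ∀ x ∈ 𝔫, ∀ y ∈ 𝔫, x * y = 0 := by
    intro x hx y hy
    obtain ⟨zx, sx, rfl⟩ := IsLocalization.exists_mk'_eq Q₀.primeCompl x
    obtain ⟨zy, sy, rfl⟩ := IsLocalization.exists_mk'_eq Q₀.primeCompl y
    obtain ⟨tx, htx, hx'⟩ := hker_char zx sx ((hmem𝔫 _).mp hx)
    obtain ⟨ty, hty, hy'⟩ := hker_char zy sy ((hmem𝔫 _).mp hy)
    rw [← IsLocalization.mk'_mul, IsLocalization.mk'_eq_zero_iff]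
    refine ⟨⟨tx * ty, hQ₀p.mul_notMem htx hty⟩, ?_⟩
    show tx * ty * (zx * zy) = 0
    have h0 : tx * ty * (zx * zy) = (tx * zx) * (ty * zy) := by ring
    rw [h0]
    exact hQI (tx * zx) (by rw [hx']; exact 𝔮.zero_mem) (ty * zy) hy'
  have hnil : IsNilpotent (RingHom.ker (g : C →+* T)) := by
    refine ⟨2, ?_⟩
    rw [← h𝔫eq]
    have h2 : 𝔫 ^ 2 = 𝔫 * 𝔫 := pow_two 𝔫
    have h3 : 𝔫 * 𝔫 = ⊥ := by
      rw [eq_bot_iff, Ideal.mul_le]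
      intro x hx y hy
      rw [Ideal.mem_bot]
      exact hsq x hx y hy
    exact h2.trans (h3.trans Ideal.zero_eq_bot.symm)
  obtain ⟨σT, hσT⟩ : ∃ σT : T →ₐ[R₀] C, ∀ t, g (σT t) = t :=
    ⟨Algebra.FormallySmooth.liftOfSurjective (AlgHom.id R₀ T) g hgsurj hnil,
     fun t => Algebra.FormallySmooth.liftOfSurjective_apply (AlgHom.id R₀ T) g hgsurj _ t⟩
  refine ⟨σT.comp (IsScalarTower.toAlgHom R₀ A₀ T), 𝔫, hsq, ?_, ?_⟩
  · intro z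
    rw [hmem𝔫, map_sub, sub_eq_zero, hg]
    show algebraMap A₀ T (π₀ z) = g (σT (algebraMap A₀ T (π₀ z)))
    rw [hσT]
  · intro q hq ν hν
    obtain ⟨z, s, rfl⟩ := IsLocalization.exists_mk'_eq Q₀.primeCompl ν
    obtain ⟨t', ht', hz'⟩ := hker_char z s ((hmem𝔫 _).mp hν)
    rw [IsLocalization.mul_mk'_eq_mk'_of_mul, IsLocalization.mk'_eq_zero_iff]
    refine ⟨⟨t', ht'⟩, ?_⟩
    show t' * (q * z) = 0
    have h0 : t' * (q * z) = q * (t' * z) := by ring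
    rw [h0]
    exact hQI q hq (t' * z) hz'

/-- Packaging for a general `P`: two maps `f₁, f₂ : P → C` agreeing modulo a square-zero ideal. -/
theorem exists_maps {R₀ P A₀ : Type u} [CommRing R₀] [CommRing P] [CommRing A₀] [Algebra R₀ P]
    [Algebra R₀ A₀] (π : P →ₐ[R₀] A₀) (hπ : Function.Surjective π) (𝔮 : Ideal A₀)
    [h𝔮 : 𝔮.IsPrime] (hsm : Algebra.FormallySmooth R₀ (Localization.AtPrime 𝔮))
    (J₀ : Ideal P) (hJ₀I : ∀ x ∈ J₀, π x = 0)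
    (hQI : ∀ q, π q ∈ 𝔮 → ∀ i, π i = 0 → q * i ∈ J₀) :
    ∃ (C : Type u) (_ : CommRing C) (_ : Algebra R₀ C) (f₁ f₂ : P →ₐ[R₀] C) (𝔫 : Ideal C),
      (∀ x ∈ 𝔫, ∀ y ∈ 𝔫, x * y = 0) ∧ (∀ p, f₁ p - f₂ p ∈ 𝔫) ∧ (∀ p, π p = 0 → f₂ p = 0) ∧
      (∀ p ∈ J₀, f₁ p = 0) ∧ (∀ p, f₁ p = 0 → ∃ s, π s ∉ 𝔮 ∧ s * p ∈ J₀) ∧
      (∀ q, π q ∈ 𝔮 → ∀ ν ∈ 𝔫, f₁ q * ν = 0) := by
  classical
  obtain ⟨π₀, hπ₀⟩ : ∃ π₀ : (P ⧸ J₀) →ₐ[R₀] A₀, ∀ x, π₀ (Ideal.Quotient.mkₐ R₀ J₀ x) = π x :=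
    ⟨Ideal.Quotient.liftₐ J₀ π hJ₀I, fun x => rfl⟩
  have hπ₀s : Function.Surjective π₀ := fun a => by
    obtain ⟨x, rfl⟩ := hπ a
    exact ⟨Ideal.Quotient.mkₐ R₀ J₀ x, hπ₀ x⟩
  haveI hQ₀p : (𝔮.comap (π₀ : (P ⧸ J₀) →+* A₀)).IsPrime := Ideal.comap_isPrime _ _
  haveI := hsm
  have hQI₀ : ∀ q, π₀ q ∈ 𝔮 → ∀ i, π₀ i = 0 → q * i = 0 := by
    intro q hq i hi
    obtain ⟨q', rfl⟩ := Ideal.Quotient.mkₐ_surjective R₀ J₀ q
    obtain ⟨i', rfl⟩ := Ideal.Quotient.mkₐ_surjective R₀ J₀ i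
    rw [hπ₀] at hq hi
    rw [← map_mul]
    exact Ideal.Quotient.eq_zero_iff_mem.mpr (hQI q' hq i' hi)
  obtain ⟨σ, 𝔫, hsq, hb, hf⟩ := section_aux
    (C := Localization.AtPrime (𝔮.comap (π₀ : (P ⧸ J₀) →+* A₀)))
    (T := Localization.AtPrime 𝔮) π₀ hπ₀s 𝔮 (𝔮.comap (π₀ : (P ⧸ J₀) →+* A₀))
    (fun x => Iff.rfl) hQI₀
  refine ⟨Localization.AtPrime (𝔮.comap (π₀ : (P ⧸ J₀) →+* A₀)), inferInstance, inferInstance,
    (IsScalarTower.toAlgHom R₀ (P ⧸ J₀)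
      (Localization.AtPrime (𝔮.comap (π₀ : (P ⧸ J₀) →+* A₀)))).comp (Ideal.Quotient.mkₐ R₀ J₀),
    σ.comp π, 𝔫, hsq, ?_, ?_, ?_, ?_, ?_⟩
  · intro p
    have h0 := hb (Ideal.Quotient.mkₐ R₀ J₀ p)
    rw [hπ₀] at h0
    exact h0
  · intro p hp
    show σ (π p) = 0
    rw [hp, map_zero]
  · intro p hp
    show algebraMap (P ⧸ J₀) (Localization.AtPrime (𝔮.comap (π₀ : (P ⧸ J₀) →+* A₀)))
      (Ideal.Quotient.mkₐ R₀ J₀ p) = 0
    have h0 : Ideal.Quotient.mkₐ R₀ J₀ p = 0 := Ideal.Quotient.eq_zero_iff_mem.mpr hp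
    rw [h0, map_zero]
  · intro p hp
    have hp' : algebraMap (P ⧸ J₀) (Localization.AtPrime (𝔮.comap (π₀ : (P ⧸ J₀) →+* A₀)))
        (Ideal.Quotient.mkₐ R₀ J₀ p) = 0 := hp
    obtain ⟨⟨u, hu⟩, hus⟩ := (IsLocalization.map_eq_zero_iff
      (𝔮.comap (π₀ : (P ⧸ J₀) →+* A₀)).primeCompl
      (Localization.AtPrime (𝔮.comap (π₀ : (P ⧸ J₀) →+* A₀)))
      (Ideal.Quotient.mkₐ R₀ J₀ p)).mp hp'
    obtain ⟨s, rfl⟩ := Ideal.Quotient.mkₐ_surjective R₀ J₀ u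
    refine ⟨s, fun h => hu ?_, ?_⟩
    · show π₀ (Ideal.Quotient.mkₐ R₀ J₀ s) ∈ 𝔮
      rw [hπ₀]
      exact h
    · apply Ideal.Quotient.eq_zero_iff_mem.mp
      show Ideal.Quotient.mkₐ R₀ J₀ (s * p) = 0
      rw [map_mul]
      exact hus
  · intro q hq ν hν
    exact hf (Ideal.Quotient.mkₐ R₀ J₀ q) (by rw [hπ₀]; exact hq) ν hν

theorem step2b {n c : ℕ} (π : MvPolynomial (Fin n) R →ₐ[R] A) (hπ : Function.Surjective π)
    [hqp : (RingHom.ker (algebraMap A Λ)).IsPrime]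
    (hq : Algebra.FormallySmooth R (Localization.AtPrime (RingHom.ker (algebraMap A Λ))))
    (f : Fin c → MvPolynomial (Fin n) R) (hf : ∀ j, π (f j) = 0)
    (Δ : MvPolynomial (Fin n) R) (hΔ : algebraMap A Λ (π Δ) ≠ 0)
    (h2a : ∀ h, π h = 0 → ∃ μ : Fin c → MvPolynomial (Fin n) R, ∀ i,
      algebraMap A Λ (π (Δ * pderiv i h))
        = ∑ j, algebraMap A Λ (π (μ j)) * algebraMap A Λ (π (pderiv i (f j))))
    (Q : Ideal (MvPolynomial (Fin n) R)) (hQ : ∀ x, x ∈ Q ↔ algebraMap A Λ (π x) = 0) :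
    ∀ h, π h = 0 → ∃ s, algebraMap A Λ (π s) ≠ 0 ∧
      s * h ∈ Ideal.span (Set.range f) ⊔ Q * RingHom.ker π := by
  classical
  have h𝔮 : ∀ a : A, a ∈ RingHom.ker (algebraMap A Λ) ↔ algebraMap A Λ a = 0 :=
    fun a => RingHom.mem_ker
  have hJ₀I : ∀ x ∈ Ideal.span (Set.range f) ⊔ Q * RingHom.ker π, π x = 0 := by
    have hle : Ideal.span (Set.range f) ⊔ Q * RingHom.ker π ≤ RingHom.ker π :=
      sup_le (Ideal.span_le.mpr (by
          rintro _ ⟨j, rfl⟩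
          exact (RingHom.mem_ker).mpr (hf j)))
        (Ideal.mul_le.mpr (fun q _ i hi => (RingHom.ker π).mul_mem_left q hi))
    exact fun x hx => (RingHom.mem_ker).mp (hle hx)
  have hQI : ∀ q, π q ∈ RingHom.ker (algebraMap A Λ) → ∀ i, π i = 0 →
      q * i ∈ Ideal.span (Set.range f) ⊔ Q * RingHom.ker π :=
    fun q hq i hi => Ideal.mem_sup_right
      (Ideal.mul_mem_mul ((hQ q).mpr ((h𝔮 _).mp hq)) ((RingHom.mem_ker).mpr hi))
  obtain ⟨C, instC, instAlgC, f₁, f₂, 𝔫, hsq, hb, hc, hd, he, hff⟩ :=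
    exists_maps π hπ (RingHom.ker (algebraMap A Λ)) hq _ hJ₀I hQI
  have htay := fun h => JacLinH4.taylor1 f₁ f₂ 𝔫 hsq (fun i => hb (X i)) h
  intro h hh
  obtain ⟨μ, hμ⟩ := h2a h hh
  have hf₂h : f₂ h = 0 := hc h hh
  have h1 : f₁ h = ∑ i, f₁ (pderiv i h) * (f₁ (X i) - f₂ (X i)) := by
    have h0 := (htay h).2
    rw [hf₂h, sub_zero] at h0
    exact h0
  have h1f : ∀ j, ∑ i, f₁ (pderiv i (f j)) * (f₁ (X i) - f₂ (X i)) = 0 := by
    intro j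
    have hfj2 : f₂ (f j) = 0 := hc (f j) (hf j)
    have hfj1 : f₁ (f j) = 0 := hd (f j) (Ideal.mem_sup_left (Ideal.subset_span ⟨j, rfl⟩))
    have h0 := (htay (f j)).2
    rw [hfj1, hfj2, sub_zero] at h0
    exact h0.symm
  have h3 : f₁ (Δ * h) = 0 := by
    rw [map_mul, h1, Finset.mul_sum]
    have hi : ∀ i, f₁ Δ * (f₁ (pderiv i h) * (f₁ (X i) - f₂ (X i)))
        = ∑ j, f₁ (μ j) * (f₁ (pderiv i (f j)) * (f₁ (X i) - f₂ (X i))) := by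
      intro i
      have hmem : π (Δ * pderiv i h - ∑ j, μ j * pderiv i (f j))
          ∈ RingHom.ker (algebraMap A Λ) := by
        rw [h𝔮, map_sub, map_sub, sub_eq_zero, map_sum, map_sum]
        rw [hμ i]
        refine Finset.sum_congr rfl (fun j _ => ?_)
        rw [map_mul, map_mul]
      have h0 := hff _ hmem _ (hb (X i))
      rw [map_sub, sub_mul, sub_eq_zero, map_mul, map_sum, Finset.sum_mul] at h0
      rw [← mul_assoc, h0]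
      refine Finset.sum_congr rfl (fun j _ => ?_)
      rw [map_mul, mul_assoc]
    have hsum : ∑ i, f₁ Δ * (f₁ (pderiv i h) * (f₁ (X i) - f₂ (X i)))
        = ∑ i, ∑ j, f₁ (μ j) * (f₁ (pderiv i (f j)) * (f₁ (X i) - f₂ (X i))) :=
      Finset.sum_congr rfl (fun i _ => hi i)
    rw [hsum, Finset.sum_comm]
    refine Finset.sum_eq_zero (fun j _ => ?_)
    rw [← Finset.mul_sum, h1f j, mul_zero]
  obtain ⟨s, hs, hm⟩ := he (Δ * h) h3
  refine ⟨s * Δ, ?_, ?_⟩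
  · rw [map_mul, map_mul]
    exact mul_ne_zero (fun h0 => hs ((h𝔮 _).mpr h0)) hΔ
  · rw [mul_assoc]
    exact hm

/-- The main consequence: `I` and `(f_j)` agree locally at `𝔔`. -/
theorem key [IsNoetherianRing R] {n c : ℕ} (π : MvPolynomial (Fin n) R →ₐ[R] A)
    (hπ : Function.Surjective π)
    [hqp : (RingHom.ker (algebraMap A Λ)).IsPrime]
    (hq : Algebra.FormallySmooth R (Localization.AtPrime (RingHom.ker (algebraMap A Λ))))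
    (f : Fin c → MvPolynomial (Fin n) R) (hf : ∀ j, π (f j) = 0)
    (Δ : MvPolynomial (Fin n) R) (hΔ : algebraMap A Λ (π Δ) ≠ 0)
    (h2a : ∀ h, π h = 0 → ∃ μ : Fin c → MvPolynomial (Fin n) R, ∀ i,
      algebraMap A Λ (π (Δ * pderiv i h))
        = ∑ j, algebraMap A Λ (π (μ j)) * algebraMap A Λ (π (pderiv i (f j)))) :
    ∀ h, π h = 0 → ∃ s, algebraMap A Λ (π s) ≠ 0 ∧ s * h ∈ Ideal.span (Set.range f) := by
  let aa : MvPolynomial (Fin n) R →ₐ[R] Λ := (IsScalarTower.toAlgHom R A Λ).comp π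
  haveI hQ : (RingHom.ker aa).IsPrime := RingHom.ker_isPrime aa
  have hFI : Ideal.span (Set.range f) ≤ RingHom.ker π := Ideal.span_le.mpr (by
    rintro _ ⟨j, rfl⟩
    exact (RingHom.mem_ker).mpr (hf j))
  have hfg : (RingHom.ker π).FG := IsNoetherian.noetherian _
  have h2b := step2b π hπ hq f hf Δ hΔ h2a (RingHom.ker aa) (fun x => by
    rw [RingHom.mem_ker]
    rfl)
  have hnak := JacLinH4.nak_ideal (RingHom.ker aa) (RingHom.ker π) (Ideal.span (Set.range f))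
    hFI hfg (by
      intro x hx
      obtain ⟨s, hs, hsx⟩ := h2b x ((RingHom.mem_ker).mp hx)
      exact ⟨s, fun hmem => hs ((RingHom.mem_ker).mp hmem), hsx⟩)
  intro h hh
  obtain ⟨s, hs, hsh⟩ := hnak h ((RingHom.mem_ker).mpr hh)
  exact ⟨s, fun h0 => hs ((RingHom.mem_ker).mpr h0), hsh⟩

end Groth.Agent.Lib.SmoothAtQH4
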