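import Mathlib
import Groth.Agent.S2030
import Groth.Agent.Lib.RegSmoothPt_helper3
import Groth.Agent.Lib.Regular_helper5
import Groth.Agent.Lib.JacLin_helper4
import Groth.Agent.Lib.CotLambda_helper4
import Groth.Agent.Lib.SmoothAtQ_helper4

set_option autoImplicit false
set_option linter.unusedVariables false
set_option linter.unusedTactic false
set_option linter.unreachableTactic false
set_option linter.unusedSectionVars false
set_option linter.style.haveILetI false
set_option linter.deprecated false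
set_option maxHeartbeats 1600000

universe u

/-!
# S6841: smoothness at the closed point from freeness of `Λ ⊗ Ω` (helper4)
-/

namespace Groth.Agent.Lib.DvrSmoothPtH4

open MvPolynomial TensorProduct Groth.Agent.Lib

theorem main6841 {R Λ A : Type u} [CommRing R] [IsDomain R]
    [IsDiscreteValuationRing R] [CommRing Λ] [IsDomain Λ] [IsDiscreteValuationRing Λ] [Algebra R Λ]
    [CommRing A] [Algebra R A] [Algebra.FiniteType R A] [Algebra A Λ] [IsScalarTower R A Λ]
    [(RingHom.ker (algebraMap A Λ)).IsPrime]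
    (hq : Algebra.IsSmoothAt R (RingHom.ker (algebraMap A Λ)))
    (hfree : Module.Free Λ (Λ ⊗[A] Ω[A⁄R])) :
    Algebra.IsSmoothAt R ((IsLocalRing.maximalIdeal Λ).comap (algebraMap A Λ)) := by
  classical
  obtain ⟨n, π, hπ⟩ := Algebra.FiniteType.iff_quotient_mvPolynomial''.mp
    (inferInstance : Algebra.FiniteType R A)
  obtain ⟨c, f, cols, hfker, hunit, h1b⟩ := CotLambdaH4.exists_jac π hπ hfree
  let aa : MvPolynomial (Fin n) R →ₐ[R] Λ := (IsScalarTower.toAlgHom R A Λ).comp π
  have haa : ∀ x, aa x = algebraMap A Λ (π x) := fun x => rfl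
  let Jc : Matrix (Fin c) (Fin c) (MvPolynomial (Fin n) R) :=
    Matrix.of fun j k => pderiv (cols k) (f j)
  let Δ : MvPolynomial (Fin n) R := Jc.det
  have hΔ : IsUnit (aa Δ) := by
    have h0 : aa Δ = Matrix.det (Matrix.of fun j k : Fin c =>
        algebraMap A Λ (π (pderiv (cols k) (f j)))) := by
      show aa.toRingHom Jc.det = _
      rw [RingHom.map_det]
      rfl
    rw [h0]
    exact hunit
  have hΔ0 : algebraMap A Λ (π Δ) ≠ 0 := hΔ.ne_zero
  -- (2a)
  have h2a : ∀ h, π h = 0 → ∃ μ : Fin c → MvPolynomial (Fin n) R, ∀ i,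
      algebraMap A Λ (π (Δ * pderiv i h))
        = ∑ j, algebraMap A Λ (π (μ j)) * algebraMap A Λ (π (pderiv i (f j))) := by
    intro h hh
    obtain ⟨lam, hlam⟩ := h1b h hh
    let w : Fin c → MvPolynomial (Fin n) R := fun k => pderiv (cols k) h
    refine ⟨fun j' => ∑ k, w k * Jc.adjugate k j', fun i => ?_⟩
    have hcr : ∀ j', aa (∑ k, w k * Jc.adjugate k j') = lam j' * aa Δ := fun j' =>
      JacLinH4.cramer aa.toRingHom Jc w lam (fun k => hlam (cols k)) j'
    show aa (Δ * pderiv i h) = ∑ j, aa (∑ k, w k * Jc.adjugate k j) * aa (pderiv i (f j))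
    rw [map_mul]
    have h0 : aa (pderiv i h) = ∑ j, lam j * aa (pderiv i (f j)) := hlam i
    rw [h0, Finset.mul_sum]
    refine Finset.sum_congr rfl (fun j _ => ?_)
    rw [hcr j]
    ring
  have hcrux : ∀ h, π h = 0 → ∃ s, algebraMap A Λ (π s) ≠ 0 ∧
      s * h ∈ Ideal.span (Set.range f) :=
    SmoothAtQH4.key π hπ hq f hfker Δ hΔ0 h2a
  -- Step 3
  let F : Ideal (MvPolynomial (Fin n) R) := Ideal.span (Set.range f)
  let qB : MvPolynomial (Fin n) R →ₐ[R] (MvPolynomial (Fin n) R ⧸ F) := Ideal.Quotient.mkₐ R F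
  have hqB0 : ∀ x, x ∈ F → qB x = 0 := fun x hx => Ideal.Quotient.eq_zero_iff_mem.mpr hx
  have hqBmem : ∀ x, qB x = 0 → x ∈ F := fun x hx => Ideal.Quotient.eq_zero_iff_mem.mp hx
  have hFaa : ∀ x ∈ F, aa x = 0 := by
    intro x hx
    have hle : F ≤ RingHom.ker aa := Ideal.span_le.mpr (by
      rintro _ ⟨j, rfl⟩
      refine (RingHom.mem_ker).mpr ?_
      rw [haa, hfker j, map_zero])
    exact (RingHom.mem_ker).mp (hle hx)
  let bb : (MvPolynomial (Fin n) R ⧸ F) →ₐ[R] Λ := Ideal.Quotient.liftₐ F aa hFaa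
  have hbb : ∀ x, bb (qB x) = aa x := fun x => rfl
  have hinj : Function.Injective cols := by
    intro k₁ k₂ hk
    by_contra hne
    have h0 : Matrix.det (Matrix.of fun j k : Fin c =>
        algebraMap A Λ (π (pderiv (cols k) (f j)))) = 0 :=
      Matrix.det_zero_of_column_eq hne (fun j => by
        rw [Matrix.of_apply, Matrix.of_apply, hk])
    rw [h0] at hunit
    exact not_isUnit_zero hunit
  have hcn : c ≤ n := by
    simpa using Fintype.card_le_of_injective cols hinj
  let MPB : Smoothing.MarkedPresentation R (MvPolynomial (Fin n) R ⧸ F) :=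
    { n := n, m := c, c := c, hcn := hcn, hcm := le_rfl, rel := f, hom := qB,
      surj := Ideal.Quotient.mkₐ_surjective R F,
      ker_eq := by
        ext x
        rw [RingHom.mem_ker]
        exact Ideal.Quotient.eq_zero_iff_mem }
  have hΔminor : Smoothing.jacobianMinor f (Fin.castLE (le_refl c)) cols = Δ := rfl
  have hSSB : Smoothing.IsStrictlyStandard R (MvPolynomial (Fin n) R ⧸ F) (qB Δ) := by
    refine ⟨MPB, ?_, ?_⟩
    · refine Ideal.subset_span ⟨cols, ?_⟩
      show qB (Smoothing.jacobianMinor f (Fin.castLE (le_refl c)) cols) = qB Δ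
      rw [hΔminor]
    · intro a' _ j hj
      exact absurd j.2 (not_lt.mpr hj)
  have hsmB : Algebra.Smooth R (Localization.Away (qB Δ)) :=
    (Groth.Agent.S2030.result (qB Δ) hSSB).1
  let pB : Ideal (MvPolynomial (Fin n) R ⧸ F) :=
    (IsLocalRing.maximalIdeal Λ).comap bb.toRingHom
  haveI hpB : pB.IsPrime := Ideal.comap_isPrime _ _
  have hΔpB : qB Δ ∉ pB := by
    intro hmem
    have h0 : bb (qB Δ) ∈ IsLocalRing.maximalIdeal Λ := hmem
    rw [hbb] at h0
    exact (IsLocalRing.notMem_maximalIdeal.mpr hΔ) h0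
  haveI : Algebra.FinitePresentation R (MvPolynomial (Fin n) R ⧸ F) :=
    Algebra.FinitePresentation.quotient (Submodule.fg_span (Set.finite_range f))
  have hsmAt : Algebra.IsSmoothAt R pB := by
    have hsub := (Algebra.basicOpen_subset_smoothLocus_iff_smooth (R := R)
      (A := MvPolynomial (Fin n) R ⧸ F) (f := qB Δ)).mpr hsmB
    exact hsub (show (⟨pB, hpB⟩ : PrimeSpectrum (MvPolynomial (Fin n) R ⧸ F)) ∈
      (PrimeSpectrum.basicOpen (qB Δ) : Set _) from hΔpB)
  haveI := hsmAt
  haveI : IsRegularLocalRing (Localization.AtPrime pB) :=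
    RegSmoothPtH3.isRegularLocalRing_of_isSmoothAt R (MvPolynomial (Fin n) R ⧸ F) pB
  haveI : IsDomain (Localization.AtPrime pB) :=
    Groth.Agent.RegularLib.isDomain (Localization.AtPrime pB)
  have hstep3 : ∀ h, π h = 0 → ∃ g', aa g' ∉ IsLocalRing.maximalIdeal Λ ∧ g' * h ∈ F := by
    intro h hh
    obtain ⟨s, hs, hsh⟩ := hcrux h hh
    have h0 : algebraMap (MvPolynomial (Fin n) R ⧸ F) (Localization.AtPrime pB) (qB s)
        * algebraMap (MvPolynomial (Fin n) R ⧸ F) (Localization.AtPrime pB) (qB h) = 0 := by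
      rw [← map_mul, ← map_mul, hqB0 _ hsh, map_zero]
    have hs0 : algebraMap (MvPolynomial (Fin n) R ⧸ F) (Localization.AtPrime pB) (qB s) ≠ 0 := by
      intro hz
      obtain ⟨⟨u, hu⟩, hus⟩ := (IsLocalization.map_eq_zero_iff pB.primeCompl
        (Localization.AtPrime pB) (qB s)).mp hz
      have h1 : bb u * bb (qB s) = 0 := by rw [← map_mul, hus, map_zero]
      rw [hbb] at h1
      have hbu : bb u ≠ 0 := fun h0 => hu (by
        show bb u ∈ IsLocalRing.maximalIdeal Λ
        rw [h0]
        exact Ideal.zero_mem _)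
      exact (mul_ne_zero hbu hs) h1
    have h1 : algebraMap (MvPolynomial (Fin n) R ⧸ F) (Localization.AtPrime pB) (qB h) = 0 :=
      (mul_eq_zero.mp h0).resolve_left hs0
    obtain ⟨⟨u, hu⟩, huh⟩ := (IsLocalization.map_eq_zero_iff pB.primeCompl
      (Localization.AtPrime pB) (qB h)).mp h1
    obtain ⟨g', rfl⟩ := Ideal.Quotient.mk_surjective u
    refine ⟨g', fun hmem => hu hmem, ?_⟩
    apply hqBmem
    rw [map_mul]
    exact huh
  -- Step 4
  haveI : IsNoetherianRing (MvPolynomial (Fin n) R) := inferInstance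
  obtain ⟨m₀, r, hr⟩ := (Submodule.fg_iff_exists_fin_generating_family).mp
    (IsNoetherian.noetherian (RingHom.ker π : Ideal (MvPolynomial (Fin n) R)))
  have hrI : ∀ l, π (r l) = 0 := fun l => by
    have h0 : r l ∈ RingHom.ker π := by
      rw [← hr]
      exact Submodule.subset_span ⟨l, rfl⟩
    exact (RingHom.mem_ker).mp h0
  choose gl hgl1 hgl2 using fun l => hstep3 (r l) (hrI l)
  let gg : MvPolynomial (Fin n) R := ∏ l, gl l
  have hgg1 : aa gg ∉ IsLocalRing.maximalIdeal Λ := by
    rw [map_prod]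
    intro hmem
    obtain ⟨l, _, hl⟩ := (Ideal.IsPrime.prod_mem_iff (p := IsLocalRing.maximalIdeal Λ)).mp hmem
    exact hgl1 l hl
  have hgg2 : ∀ l, gg * r l ∈ F := by
    intro l
    have h0 : gg = (∏ l' ∈ Finset.univ.erase l, gl l') * gl l :=
      (Finset.prod_erase_mul _ _ (Finset.mem_univ l)).symm
    rw [h0, mul_assoc]
    exact F.mul_mem_left _ (hgl2 l)
  let rel : Fin (c + m₀) → MvPolynomial (Fin n) R := Fin.append f r
  have hrel_l : ∀ j : Fin c, rel (Fin.castAdd m₀ j) = f j := fun j => Fin.append_left f r j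
  have hrel_r : ∀ l : Fin m₀, rel (Fin.natAdd c l) = r l := fun l => Fin.append_right f r l
  have hrelker : ∀ j, π (rel j) = 0 := by
    intro j
    refine Fin.addCases (motive := fun j => π (rel j) = 0) (fun j' => ?_) (fun l => ?_) j
    · rw [hrel_l]
      exact hfker j'
    · rw [hrel_r]
      exact hrI l
  have hkerI : RingHom.ker π = Ideal.span (Set.range rel) := by
    apply le_antisymm
    · intro x hx
      rw [← hr] at hx
      refine (Ideal.span_mono ?_) hx
      rintro _ ⟨l, rfl⟩
      exact ⟨Fin.natAdd c l, hrel_r l⟩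
    · refine Ideal.span_le.mpr ?_
      rintro _ ⟨j, rfl⟩
      exact (RingHom.mem_ker).mpr (hrelker j)
  let MPA : Smoothing.MarkedPresentation R A :=
    { n := n, m := c + m₀, c := c, hcn := hcn, hcm := Nat.le_add_right c m₀, rel := rel,
      hom := π, surj := hπ,
      ker_eq := by
        rw [← hkerI]
        rfl }
  have hSSA : Smoothing.IsStrictlyStandard R A (π (gg * Δ)) := by
    refine ⟨MPA, ?_, ?_⟩
    · have hminor : Smoothing.jacobianMinor rel (Fin.castLE (Nat.le_add_right c m₀)) cols = Δ := by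
        unfold Smoothing.jacobianMinor
        show Matrix.det (Matrix.of fun j k : Fin c =>
          pderiv (cols k) (rel (Fin.castLE (Nat.le_add_right c m₀) j))) = Matrix.det Jc
        congr 1
        refine Matrix.ext (fun j k => ?_)
        show pderiv (cols k) (rel (Fin.castLE (Nat.le_add_right c m₀) j)) = pderiv (cols k) (f j)
        have h0 : Fin.castLE (Nat.le_add_right c m₀) j = Fin.castAdd m₀ j := rfl
        rw [h0, hrel_l]
      rw [map_mul]
      refine Ideal.mul_mem_left _ _ (Ideal.subset_span ⟨cols, ?_⟩)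
      show π (Smoothing.jacobianMinor rel (Fin.castLE (Nat.le_add_right c m₀)) cols) = π Δ
      rw [hminor]
    · intro a' ha' j hj
      obtain ⟨l, rfl⟩ : ∃ l : Fin m₀, j = Fin.natAdd c l := by
        have hj' : c ≤ (j : ℕ) := hj
        have hj2 : (j : ℕ) < c + m₀ := j.2
        refine ⟨⟨(j : ℕ) - c, by omega⟩, Fin.ext ?_⟩
        show (j : ℕ) = c + ((j : ℕ) - c)
        omega
      show a' * rel (Fin.natAdd c l) ∈
        Ideal.span (rel '' {j' : Fin (c + m₀) | (j' : ℕ) < c}) ⊔ Ideal.span (Set.range rel) ^ 2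
      rw [hrel_r]
      have h1 : a' - gg * Δ ∈ RingHom.ker π := by
        rw [RingHom.mem_ker, map_sub]
        have h0 : π a' = π (gg * Δ) := ha'
        rw [h0, sub_self]
      have h2 : a' * r l = (a' - gg * Δ) * r l + Δ * (gg * r l) := by ring
      rw [h2]
      refine Ideal.add_mem _ (Ideal.mem_sup_right ?_) (Ideal.mem_sup_left ?_)
      · rw [pow_two, ← hkerI]
        exact Ideal.mul_mem_mul h1 ((RingHom.mem_ker).mpr (hrI l))
      · refine Ideal.mul_mem_left _ _ ?_
        have hle : F ≤ Ideal.span (rel '' {j' : Fin (c + m₀) | (j' : ℕ) < c}) := by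
          refine Ideal.span_le.mpr ?_
          rintro _ ⟨j', rfl⟩
          refine Ideal.subset_span ⟨Fin.castAdd m₀ j', ?_, hrel_l j'⟩
          show ((Fin.castAdd m₀ j' : Fin (c + m₀)) : ℕ) < c
          exact j'.2
        exact hle (hgg2 l)
  have hsmA : Algebra.Smooth R (Localization.Away (π (gg * Δ))) :=
    (Groth.Agent.S2030.result _ hSSA).1
  haveI : Algebra.FinitePresentation R A :=
    Algebra.FinitePresentation.of_finiteType.mp inferInstance
  have hsub := (Algebra.basicOpen_subset_smoothLocus_iff_smooth (R := R) (A := A)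
    (f := π (gg * Δ))).mpr hsmA
  have hnot : π (gg * Δ) ∉ (IsLocalRing.maximalIdeal Λ).comap (algebraMap A Λ) := by
    intro hmem
    have h1 : aa (gg * Δ) ∈ IsLocalRing.maximalIdeal Λ := hmem
    rw [map_mul] at h1
    rcases (IsLocalRing.maximalIdeal.isMaximal Λ).isPrime.mem_or_mem h1 with h2 | h2
    · exact hgg1 h2
    · exact (IsLocalRing.notMem_maximalIdeal.mpr hΔ) h2
  exact hsub (show (⟨(IsLocalRing.maximalIdeal Λ).comap (algebraMap A Λ), inferInstance⟩ :
    PrimeSpectrum A) ∈ (PrimeSpectrum.basicOpen (π (gg * Δ)) : Set _) from hnot)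

end Groth.Agent.Lib.DvrSmoothPtH4
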