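import Mathlib
import Groth.Prelude.Def_SGA3
import Groth.Agent.Lib.ConnEt_helper1

set_option autoImplicit false
set_option maxHeartbeats 1000000

/-!
# The unit component of a finite flat group scheme over a local ring is normal (helper1)
-/

namespace UnitNormalH1

open TensorProduct WithConv

universe u

section conv3
variable {k : Type u} [CommRing k] {A : Type u} [CommRing A] [HopfAlgebra k A]
  {C : Type u} [CommRing C] [Algebra k C]

theorem conv3_eq (f g h : A →ₐ[k] C) :
    Dyn.conv3 k A f g h = ofConv (toConv f * toConv g * toConv h) := by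
  apply AlgHom.ext
  intro a
  have key : ∀ t : A ⊗[k] A,
      Algebra.TensorProduct.map ((Algebra.TensorProduct.lmul' (S := C) k).comp
        (Algebra.TensorProduct.map f g)) h
        (Algebra.TensorProduct.map (Bialgebra.comulAlgHom k A) (AlgHom.id k A) t) =
      Algebra.TensorProduct.map ((toConv f * toConv g).ofConv) h t := by
    intro t
    induction t using TensorProduct.induction_on with
    | zero => simp
    | tmul x y => rfl
    | add x y hx hy => simp only [map_add, hx, hy]
  exact congrArg (Algebra.TensorProduct.lmul' (S := C) k) (key (Bialgebra.comulAlgHom k A a))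

/-- Post-composition with an algebra map is a monoid homomorphism on convolution monoids. -/
noncomputable def postComp {C' : Type u} [CommRing C'] [Algebra k C'] (Φ : C →ₐ[k] C') :
    WithConv (A →ₐ[k] C) →* WithConv (A →ₐ[k] C') where
  toFun f := toConv (Φ.comp f.ofConv)
  map_one' := congrArg toConv (RedDecompH1.comp_one' Φ)
  map_mul' f g := congrArg toConv (AlgHom.comp_convMul_distrib Φ f g)

theorem postComp_apply {C' : Type u} [CommRing C'] [Algebra k C'] (Φ : C →ₐ[k] C')
    (f : A →ₐ[k] C) : postComp Φ (toConv f) = toConv (Φ.comp f) := rfl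

end conv3

section main
variable (R : Type u) [CommRing R] [Nontrivial R] (A : Type u) [CommRing A] [HopfAlgebra R A]
  [Module.Finite R A]
  (e : A) (he : IsIdempotentElem e) (hε : Bialgebra.counitAlgHom R A e = 1)
  [IsLocalRing (A ⧸ Ideal.span ({1 - e} : Set A))]

local notation "I0" => Ideal.span ({1 - e} : Set A)
local notation "A0" => (A ⧸ Ideal.span ({1 - e} : Set A))
local notation "U" => (A ⧸ Ideal.span ({1 - e} : Set A)) ⊗[R] A
local notation "j₁" => (Algebra.TensorProduct.includeLeft :
  (A ⧸ Ideal.span ({1 - e} : Set A)) →ₐ[R] (A ⧸ Ideal.span ({1 - e} : Set A)) ⊗[R] A)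
local notation "j₂" => (Algebra.TensorProduct.includeRight :
  A →ₐ[R] (A ⧸ Ideal.span ({1 - e} : Set A)) ⊗[R] A)
local notation "πa" => Ideal.Quotient.mkₐ R (Ideal.span ({1 - e} : Set A))
local notation "SA" => HopfAlgebra.antipodeAlgHom R A

/-- The counit on the unit component. -/
noncomputable def εbar : A0 →ₐ[R] R :=
  Ideal.Quotient.liftₐ I0 (Bialgebra.counitAlgHom R A) (fun _ ha => ConnEtH1.le_ker0 R A e hε ha)

/-- `b ⊗ a ↦ ε(b) a`. -/
noncomputable def rho : U →ₐ[R] A :=
  Algebra.TensorProduct.lift ((Algebra.ofId R A).comp (εbar R A e hε)) (AlgHom.id R A)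
    (fun _ _ => Commute.all _ _)

/-- The universal conjugate `g h g⁻¹`. -/
noncomputable def c₀ : A →ₐ[R] U :=
  ofConv (toConv j₂ * toConv ((j₁).comp πa) * toConv ((j₂).comp SA))

theorem rho_c₀ : (rho R A e hε).comp (c₀ R A e) = ofConv (1 : WithConv (A →ₐ[R] A)) := by
  have h1 : postComp (rho R A e hε) (toConv j₂) = toConv (AlgHom.id R A) := by
    rw [postComp_apply]
    exact congrArg toConv (Algebra.TensorProduct.lift_comp_includeRight' _ _ _)
  have h2 : postComp (rho R A e hε) (toConv ((j₁).comp πa)) = 1 := by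
    rw [postComp_apply]
    apply WithConv.ofConv_injective
    apply AlgHom.ext
    intro a
    show rho R A e hε ((Ideal.Quotient.mk I0 a) ⊗ₜ[R] (1 : A)) =
      algebraMap R A (Coalgebra.counit (R := R) a)
    unfold rho
    rw [Algebra.TensorProduct.lift_tmul, map_one, mul_one]
    rfl
  have h3 : postComp (rho R A e hε) (toConv ((j₂).comp SA)) = toConv SA := by
    rw [postComp_apply, ← AlgHom.comp_assoc]
    have h0 : (rho R A e hε).comp j₂ = AlgHom.id R A :=
      Algebra.TensorProduct.lift_comp_includeRight' _ _ _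
    rw [h0, AlgHom.id_comp]
  have h4 : postComp (rho R A e hε) (toConv (c₀ R A e)) = 1 := by
    have h5 : toConv (c₀ R A e) =
        toConv j₂ * toConv ((j₁).comp πa) * toConv ((j₂).comp SA) := rfl
    rw [h5, map_mul, map_mul, h1, h2, h3, mul_one, RedDecompH1.id_antipode_cancel']
  exact congrArg ofConv h4

theorem sub_mem_K (u : U) :
    u - j₂ (rho R A e hε u) ∈ Ideal.map j₁ (RingHom.ker (εbar R A e hε)) := by
  induction u using TensorProduct.induction_on with
  | zero => simp
  | tmul b a =>
    have h1 : rho R A e hε (b ⊗ₜ[R] a) = algebraMap R A (εbar R A e hε b) * a := by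
      unfold rho
      rw [Algebra.TensorProduct.lift_tmul]
      rfl
    have h2 : b ⊗ₜ[R] a - j₂ (rho R A e hε (b ⊗ₜ[R] a)) =
        j₁ (b - algebraMap R A0 (εbar R A e hε b)) * j₂ a := by
      rw [h1]
      show b ⊗ₜ[R] a - (1 : A0) ⊗ₜ[R] (algebraMap R A (εbar R A e hε b) * a) =
        ((b - algebraMap R A0 (εbar R A e hε b)) ⊗ₜ[R] (1 : A)) * ((1 : A0) ⊗ₜ[R] a)
      rw [Algebra.TensorProduct.tmul_mul_tmul, mul_one, one_mul, TensorProduct.sub_tmul,
        ← Algebra.smul_def, TensorProduct.tmul_smul, TensorProduct.smul_tmul',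
        ← Algebra.algebraMap_eq_smul_one]
    rw [h2]
    apply Ideal.mul_mem_right
    apply Ideal.mem_map_of_mem
    rw [RingHom.mem_ker, map_sub, AlgHom.commutes]
    show (εbar R A e hε) b - εbar R A e hε b = 0
    rw [sub_self]
  | add u v hu hv =>
    have h : u + v - j₂ (rho R A e hε (u + v)) =
        (u - j₂ (rho R A e hε u)) + (v - j₂ (rho R A e hε v)) := by
      rw [map_add, map_add]; ring
    rw [h]
    exact Ideal.add_mem _ hu hv

theorem K_le_maximal (M : Ideal U) (hM : M.IsMaximal) :
    Ideal.map j₁ (RingHom.ker (εbar R A e hε)) ≤ M := by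
  haveI : Algebra.IsIntegral A0 U := Algebra.IsIntegral.of_finite A0 U
  have hc : (M.comap (algebraMap A0 U)).IsMaximal :=
    Ideal.isMaximal_comap_of_isIntegral_of_isMaximal M
  have hc2 : M.comap (algebraMap A0 U) = IsLocalRing.maximalIdeal A0 :=
    IsLocalRing.eq_maximalIdeal hc
  have hk : RingHom.ker (εbar R A e hε) ≤ IsLocalRing.maximalIdeal A0 := by
    apply IsLocalRing.le_maximalIdeal
    intro htop
    have h5 : (1 : A0) ∈ RingHom.ker (εbar R A e hε) := htop ▸ Submodule.mem_top
    rw [RingHom.mem_ker, map_one] at h5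
    exact one_ne_zero h5
  rw [Ideal.map_le_iff_le_comap]
  intro x hx
  have h1 : x ∈ M.comap (algebraMap A0 U) := by
    rw [hc2]; exact hk hx
  exact h1

include he hε in
theorem c₀_e : c₀ R A e e = 1 := by
  have hidem : c₀ R A e e * c₀ R A e e = c₀ R A e e := by
    rw [← map_mul, he.eq]
  have hρ : rho R A e hε (c₀ R A e e) = 1 := by
    have h1 := AlgHom.congr_fun (rho_c₀ R A e hε) e
    have h2 : rho R A e hε (c₀ R A e e) = algebraMap R A (Coalgebra.counit (R := R) e) := h1
    have h3 : Coalgebra.counit (R := R) e = 1 := hε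
    rw [h2, h3, map_one]
  have hK : 1 - c₀ R A e e ∈ Ideal.map j₁ (RingHom.ker (εbar R A e hε)) := by
    have h1 := sub_mem_K R A e hε (1 - c₀ R A e e)
    rw [map_sub, map_one, hρ, sub_self, map_zero, sub_zero] at h1
    exact h1
  have hunit : IsUnit (c₀ R A e e) := by
    by_contra hu
    obtain ⟨M, hM, hxM⟩ := exists_max_ideal_of_mem_nonunits hu
    have h1 := K_le_maximal R A e hε M hM hK
    have h2 : (1 : U) ∈ M := by
      have := M.add_mem h1 hxM
      rwa [sub_add_cancel] at this
    exact hM.ne_top ((Ideal.eq_top_iff_one M).mpr h2)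
  have h0 : c₀ R A e e * (1 - c₀ R A e e) = 0 := by
    rw [mul_sub, mul_one, hidem, sub_self]
  have h1 := (hunit.mul_right_eq_zero).mp h0
  exact (sub_eq_zero.mp h1).symm

include he hε in
theorem normal : SGA3.IsNormalHopfIdeal R A I0 := by
  intro T _ _ g h hh a ha
  let hbar : A0 →ₐ[R] T := Ideal.Quotient.liftₐ I0 h hh
  let Φ : U →ₐ[R] T := Algebra.TensorProduct.lift hbar g (fun _ _ => Commute.all _ _)
  have hΦ2 : Φ.comp j₂ = g := Algebra.TensorProduct.lift_comp_includeRight' _ _ _
  have hΦ1 : Φ.comp ((j₁).comp πa) = h := by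
    apply AlgHom.ext
    intro x
    show Φ ((Ideal.Quotient.mk I0 x) ⊗ₜ[R] (1 : A)) = h x
    have : Φ ((Ideal.Quotient.mk I0 x) ⊗ₜ[R] (1 : A)) = hbar (Ideal.Quotient.mk I0 x) * g 1 :=
      Algebra.TensorProduct.lift_tmul _ _ _ _ _
    rw [this, map_one, mul_one]
    rfl
  have hΦ3 : Φ.comp ((j₂).comp SA) = g.comp SA := by
    rw [← AlgHom.comp_assoc, hΦ2]
  have hconv : Dyn.conv3 R A g h (g.comp SA) = Φ.comp (c₀ R A e) := by
    rw [conv3_eq]
    have h5 : toConv (c₀ R A e) =
        toConv j₂ * toConv ((j₁).comp πa) * toConv ((j₂).comp SA) := rfl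
    have h6 : postComp Φ (toConv (c₀ R A e)) = toConv g * toConv h * toConv (g.comp SA) := by
      rw [h5, map_mul, map_mul, postComp_apply, postComp_apply, postComp_apply, hΦ1, hΦ2, hΦ3]
    exact (congrArg ofConv h6).symm
  have key : Dyn.conv3 R A g h (g.comp SA) e = 1 := by
    rw [hconv]
    show Φ (c₀ R A e e) = 1
    rw [c₀_e R A e he hε, map_one]
  have hle : I0 ≤ RingHom.ker (Dyn.conv3 R A g h (g.comp SA)) := by
    rw [Ideal.span_le, Set.singleton_subset_iff]
    show (1 - e) ∈ RingHom.ker (Dyn.conv3 R A g h (g.comp SA))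
    rw [RingHom.mem_ker, map_sub, map_one, key, sub_self]
  exact hle ha

end main

end UnitNormalH1
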