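import Mathlib
import Groth.Prelude.Def_Dyn
import Groth.Agent.Lib.UnitNormal_helper1

set_option autoImplicit false
set_option maxHeartbeats 1000000

/-!
# Limits of conjugated orbits under a one-parameter subgroup (helper1)
-/

namespace DynLimH1

open TensorProduct WithConv LaurentPolynomial Polynomial

universe u

section laurent
variable {R : Type u} [CommRing R]

theorem trunc_coeff (f : R[T;T⁻¹]) (m : ℕ) :
    (LaurentPolynomial.trunc f).coeff m = f.coeff (m : ℤ) := by
  simp [LaurentPolynomial.trunc, Polynomial.coeff]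

theorem toLaurent_coeff_nat (p : R[X]) (m : ℕ) :
    (Polynomial.toLaurent p).coeff (m : ℤ) = p.coeff m := by
  simp only [LaurentPolynomial.coeff_toLaurent, Polynomial.coeff]
  exact Finsupp.mapDomain_apply Nat.castEmbedding.injective _ m

theorem toLaurent_coeff_zero (p : R[X]) : (Polynomial.toLaurent p).coeff 0 = p.coeff 0 :=
  toLaurent_coeff_nat p 0

theorem toLaurent_coeff_neg (p : R[X]) (n : ℤ) (hn : n < 0) :
    (Polynomial.toLaurent p).coeff n = 0 := by
  simp only [LaurentPolynomial.coeff_toLaurent]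
  apply Finsupp.mapDomain_of_notMem_range
  rintro ⟨m, rfl⟩
  exact absurd hn (by simp)

theorem toLaurent_trunc (f : R[T;T⁻¹]) (h : ∀ n : ℤ, n < 0 → f.coeff n = 0) :
    Polynomial.toLaurent (LaurentPolynomial.trunc f) = f := by
  ext n
  by_cases hn : n < 0
  · rw [toLaurent_coeff_neg _ n hn, h n hn]
  · obtain ⟨m, rfl⟩ := Int.eq_ofNat_of_zero_le (not_lt.mp hn)
    rw [toLaurent_coeff_nat, trunc_coeff]

theorem eq_C_of_coeff (f : R[T;T⁻¹]) (h : ∀ n : ℤ, n ≠ 0 → f.coeff n = 0) :
    f = LaurentPolynomial.C (f.coeff 0) := by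
  ext n
  rw [LaurentPolynomial.C_apply]
  split_ifs with hn
  · rw [hn]
  · exact h n hn

end laurent

section lift
variable (k : Type u) [CommRing k] {A : Type u} [CommRing A] [Algebra k A]
  (R : Type u) [CommRing R] [Algebra k R]

/-- A Laurent-polynomial valued point with no negative coefficients comes from a polynomial
valued point. -/
noncomputable def liftPoly (F : A →ₐ[k] R[T;T⁻¹])
    (H : ∀ (a : A) (n : ℤ), n < 0 → (F a).coeff n = 0) : A →ₐ[k] R[X] where
  toFun a := LaurentPolynomial.trunc (F a)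
  map_one' := by
    show LaurentPolynomial.trunc (F 1) = 1
    apply Polynomial.toLaurent_injective
    rw [toLaurent_trunc _ (H 1), map_one, map_one]
  map_mul' a b := by
    show LaurentPolynomial.trunc (F (a * b)) =
      LaurentPolynomial.trunc (F a) * LaurentPolynomial.trunc (F b)
    apply Polynomial.toLaurent_injective
    rw [toLaurent_trunc _ (H (a * b)), map_mul, map_mul, toLaurent_trunc _ (H a),
      toLaurent_trunc _ (H b)]
  map_zero' := by
    show LaurentPolynomial.trunc (F 0) = 0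
    rw [map_zero, map_zero]
  map_add' a b := by
    show LaurentPolynomial.trunc (F (a + b)) =
      LaurentPolynomial.trunc (F a) + LaurentPolynomial.trunc (F b)
    rw [map_add, map_add]
  commutes' r := by
    show LaurentPolynomial.trunc (F (algebraMap k A r)) = algebraMap k R[X] r
    apply Polynomial.toLaurent_injective
    rw [toLaurent_trunc _ (H _), F.commutes]
    exact ((AlgHom.restrictScalars k (Polynomial.toLaurentAlg (R := R))).commutes r).symm

theorem liftPoly_apply (F : A →ₐ[k] R[T;T⁻¹])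
    (H : ∀ (a : A) (n : ℤ), n < 0 → (F a).coeff n = 0) (a : A) :
    liftPoly k R F H a = LaurentPolynomial.trunc (F a) := rfl

theorem liftPoly_spec (F : A →ₐ[k] R[T;T⁻¹])
    (H : ∀ (a : A) (n : ℤ), n < 0 → (F a).coeff n = 0) :
    (AlgHom.restrictScalars k (Polynomial.toLaurentAlg (R := R))).comp (liftPoly k R F H) = F :=
  AlgHom.ext fun a => toLaurent_trunc (F a) (H a)

end lift

section main
variable (k : Type u) [CommRing k] (A : Type u) [CommRing A] [HopfAlgebra k A]

/-- The convolution monoid of points of a commutative Hopf algebra is a group. -/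
noncomputable scoped instance convGroup (C : Type u) [CommRing C] [Algebra k C] :
    Group (WithConv (A →ₐ[k] C)) :=
  { (inferInstance : Monoid (WithConv (A →ₐ[k] C))) with
    inv := fun f => toConv (f.ofConv.comp (HopfAlgebra.antipodeAlgHom k A))
    inv_mul_cancel := fun f => RedDecompH1.inv_mul' f.ofConv }

theorem inv_def {C : Type u} [CommRing C] [Algebra k C] (f : WithConv (A →ₐ[k] C)) :
    f⁻¹ = toConv (f.ofConv.comp (HopfAlgebra.antipodeAlgHom k A)) := rfl

/-- An ideal representing a subgroup functor is a Hopf ideal. -/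
theorem hopf_of_represents (J : Ideal A)
    (P : ∀ (R : Type u) [CommRing R] [Algebra k R], (A →ₐ[k] R) → Prop)
    (hrep : Dyn.Represents k A J P)
    (hone : P k (Bialgebra.counitAlgHom k A))
    (hmul : ∀ (R : Type u) [CommRing R] [Algebra k R] (g g' : A →ₐ[k] R), P R g → P R g' →
      P R (ofConv (toConv g * toConv g')))
    (hinv : ∀ (R : Type u) [CommRing R] [Algebra k R] (g : A →ₐ[k] R), P R g →
      P R (g.comp (HopfAlgebra.antipodeAlgHom k A))) :
    J.IsHopfIdeal k := by
  have hπ : P (A ⧸ J) (Ideal.Quotient.mkₐ k J) :=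
    (hrep (A ⧸ J) (Ideal.Quotient.mkₐ k J)).mp
      (fun a ha => Ideal.Quotient.eq_zero_iff_mem.mpr ha)
  have hcounit : ∀ a ∈ J, Bialgebra.counitAlgHom k A a = 0 :=
    (hrep k (Bialgebra.counitAlgHom k A)).mpr hone
  have hcomul : ∀ a ∈ J, (Algebra.TensorProduct.map (Ideal.Quotient.mkₐ k J)
      (Ideal.Quotient.mkₐ k J)) (Bialgebra.comulAlgHom k A a) = 0 := by
    have h1 : P ((A ⧸ J) ⊗[k] (A ⧸ J))
        ((Algebra.TensorProduct.includeLeft : (A ⧸ J) →ₐ[k] (A ⧸ J) ⊗[k] (A ⧸ J)).comp
          (Ideal.Quotient.mkₐ k J)) :=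
      (hrep _ _).mp (fun a ha => by
        rw [AlgHom.comp_apply, Ideal.Quotient.mkₐ_eq_mk, Ideal.Quotient.eq_zero_iff_mem.mpr ha,
          map_zero])
    have h2 : P ((A ⧸ J) ⊗[k] (A ⧸ J))
        ((Algebra.TensorProduct.includeRight : (A ⧸ J) →ₐ[k] (A ⧸ J) ⊗[k] (A ⧸ J)).comp
          (Ideal.Quotient.mkₐ k J)) :=
      (hrep _ _).mp (fun a ha => by
        rw [AlgHom.comp_apply, Ideal.Quotient.mkₐ_eq_mk, Ideal.Quotient.eq_zero_iff_mem.mpr ha,
          map_zero])
    have h3 := hmul _ _ _ h1 h2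
    rw [← RedDecompH1.map_comp_comul_eq] at h3
    exact (hrep _ _).mpr h3
  have hanti : ∀ a ∈ J, HopfAlgebra.antipode k a ∈ J := by
    intro a ha
    have h := (hrep _ _).mpr (hinv _ _ hπ) a ha
    exact Ideal.Quotient.eq_zero_iff_mem.mp h
  have hco : (J.restrictScalars k).IsCoideal :=
    ⟨fun a ha => hcounit a ha, fun a ha => hcomul a ha⟩
  exact { toIsCoideal := hco, antipode_mem := fun a ha => hanti a ha }

variable (lam : A →ₐc[k] k[T;T⁻¹]) (R : Type u) [CommRing R] [Algebra k R]

theorem conjOrbit_eq (g : A →ₐ[k] R) :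
    toConv (Dyn.conjOrbit k A lam R g) =
      toConv (Dyn.lamR k A lam R) * toConv ((IsScalarTower.toAlgHom k R R[T;T⁻¹]).comp g) *
        (toConv (Dyn.lamR k A lam R))⁻¹ := by
  unfold Dyn.conjOrbit
  rw [UnitNormalH1.conv3_eq]
  rfl

theorem iota_apply (r : R) :
    IsScalarTower.toAlgHom k R R[T;T⁻¹] r = LaurentPolynomial.C r := rfl

theorem conjOrbit_one :
    Dyn.conjOrbit k A lam R (ofConv (1 : WithConv (A →ₐ[k] R))) =
      ofConv (1 : WithConv (A →ₐ[k] R[T;T⁻¹])) := by
  apply WithConv.toConv_injective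
  rw [conjOrbit_eq]
  have h : toConv ((IsScalarTower.toAlgHom k R R[T;T⁻¹]).comp
      (ofConv (1 : WithConv (A →ₐ[k] R)))) = 1 :=
    map_one (UnitNormalH1.postComp (IsScalarTower.toAlgHom k R R[T;T⁻¹]))
  rw [h, mul_one, mul_inv_cancel]

theorem conjOrbit_mul (x y : WithConv (A →ₐ[k] R)) :
    toConv (Dyn.conjOrbit k A lam R (ofConv (x * y))) =
      toConv (Dyn.conjOrbit k A lam R x.ofConv) * toConv (Dyn.conjOrbit k A lam R y.ofConv) := by
  rw [conjOrbit_eq, conjOrbit_eq, conjOrbit_eq]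
  have h : toConv ((IsScalarTower.toAlgHom k R R[T;T⁻¹]).comp (ofConv (x * y))) =
      toConv ((IsScalarTower.toAlgHom k R R[T;T⁻¹]).comp x.ofConv) *
        toConv ((IsScalarTower.toAlgHom k R R[T;T⁻¹]).comp y.ofConv) :=
    map_mul (UnitNormalH1.postComp (IsScalarTower.toAlgHom k R R[T;T⁻¹])) x y
  rw [h]
  simp only [mul_assoc, inv_mul_cancel_left]

theorem conjOrbit_inv (g : A →ₐ[k] R) :
    Dyn.conjOrbit k A lam R (g.comp (HopfAlgebra.antipodeAlgHom k A)) =
      (Dyn.conjOrbit k A lam R g).comp (HopfAlgebra.antipodeAlgHom k A) := by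
  apply WithConv.toConv_injective
  show toConv (Dyn.conjOrbit k A lam R (g.comp (HopfAlgebra.antipodeAlgHom k A))) =
    (toConv (Dyn.conjOrbit k A lam R g))⁻¹
  rw [conjOrbit_eq, conjOrbit_eq]
  have h : toConv ((IsScalarTower.toAlgHom k R R[T;T⁻¹]).comp
      (g.comp (HopfAlgebra.antipodeAlgHom k A))) =
      (toConv ((IsScalarTower.toAlgHom k R R[T;T⁻¹]).comp g))⁻¹ := rfl
  rw [h]
  simp only [mul_inv_rev, inv_inv, mul_assoc]

/-! ### Naturality and the universal orbit -/

theorem lamR_nat (g : A →ₐ[k] R) :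
    (AddMonoidAlgebra.mapAlgHom ℤ g).comp (Dyn.lamR k A lam A) = Dyn.lamR k A lam R := by
  apply AlgHom.ext
  intro a
  apply LaurentPolynomial.ext
  intro n
  simp only [Dyn.lamR, AlgHom.comp_apply, AddMonoidAlgebra.coeff_mapAlgHom, Algebra.ofId_apply,
    AlgHom.commutes]

theorem iota_nat (g : A →ₐ[k] R) :
    (AddMonoidAlgebra.mapAlgHom ℤ g).comp (IsScalarTower.toAlgHom k A A[T;T⁻¹]) =
      (IsScalarTower.toAlgHom k R R[T;T⁻¹]).comp g := by
  apply AlgHom.ext
  intro a
  apply LaurentPolynomial.ext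
  intro n
  rw [AlgHom.comp_apply, AlgHom.comp_apply, AddMonoidAlgebra.coeff_mapAlgHom, iota_apply,
    iota_apply, LaurentPolynomial.C_apply, LaurentPolynomial.C_apply]
  split_ifs
  · rfl
  · exact map_zero g

/-- The universal conjugated orbit. -/
noncomputable def cU : A →ₐ[k] A[T;T⁻¹] := Dyn.conjOrbit k A lam A (AlgHom.id k A)

theorem conjOrbit_nat (g : A →ₐ[k] R) :
    Dyn.conjOrbit k A lam R g = (AddMonoidAlgebra.mapAlgHom ℤ g).comp (cU k A lam) := by
  apply WithConv.toConv_injective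
  show _ = UnitNormalH1.postComp (AddMonoidAlgebra.mapAlgHom ℤ g) (toConv (cU k A lam))
  unfold cU
  rw [conjOrbit_eq k A lam A, map_mul, map_mul, map_inv, conjOrbit_eq, AlgHom.comp_id,
    UnitNormalH1.postComp_apply, UnitNormalH1.postComp_apply, lamR_nat, iota_nat]

theorem coeff_conjOrbit (g : A →ₐ[k] R) (a : A) (n : ℤ) :
    (Dyn.conjOrbit k A lam R g a).coeff n = g ((cU k A lam a).coeff n) := by
  rw [conjOrbit_nat]
  exact AddMonoidAlgebra.coeff_mapAlgHom g _ n

/-! ### The ideal of the subgroup `P(λ)` -/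

/-- The ideal generated by the negative coefficients of the universal orbit. -/
def Jp : Ideal A :=
  Ideal.span {x | ∃ (a : A) (n : ℤ), n < 0 ∧ x = (cU k A lam a).coeff n}

theorem kills_Jp_iff (g : A →ₐ[k] R) :
    (∀ x ∈ Jp k A lam, g x = 0) ↔
      ∀ (a : A) (n : ℤ), n < 0 → (Dyn.conjOrbit k A lam R g a).coeff n = 0 := by
  constructor
  · intro h a n hn
    rw [coeff_conjOrbit]
    exact h _ (Ideal.subset_span ⟨a, n, hn, rfl⟩)
  · intro h
    have hle : Jp k A lam ≤ RingHom.ker (g : A →+* R) := by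
      unfold Jp
      rw [Ideal.span_le]
      rintro x ⟨a, n, hn, rfl⟩
      rw [SetLike.mem_coe, RingHom.mem_ker]
      show g ((cU k A lam a).coeff n) = 0
      rw [← coeff_conjOrbit]
      exact h a n hn
    exact fun x hx => hle hx

theorem limExists_iff (g : A →ₐ[k] R) :
    Dyn.LimExists k A lam R g ↔
      ∀ (a : A) (n : ℤ), n < 0 → (Dyn.conjOrbit k A lam R g a).coeff n = 0 := by
  constructor
  · rintro ⟨h, hh⟩ a n hn
    rw [← hh]
    exact toLaurent_coeff_neg (h a) n hn
  · intro H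
    exact ⟨liftPoly k R (Dyn.conjOrbit k A lam R g) H, liftPoly_spec k R _ H⟩

theorem represents_Jp :
    Dyn.Represents k A (Jp k A lam) (fun R _ _ g => Dyn.LimExists k A lam R g) := by
  intro R _ _ g
  exact (kills_Jp_iff k A lam R g).trans (limExists_iff k A lam R g).symm

theorem counit_eq_one : Bialgebra.counitAlgHom k A = ofConv (1 : WithConv (A →ₐ[k] k)) := by
  apply AlgHom.ext
  intro a
  rfl

theorem limExists_one : Dyn.LimExists k A lam R (ofConv (1 : WithConv (A →ₐ[k] R))) := by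
  refine ⟨ofConv (1 : WithConv (A →ₐ[k] R[X])), ?_⟩
  rw [conjOrbit_one]
  exact RedDecompH1.comp_one' _

theorem limExists_mul (g g' : A →ₐ[k] R) (hg : Dyn.LimExists k A lam R g)
    (hg' : Dyn.LimExists k A lam R g') :
    Dyn.LimExists k A lam R (ofConv (toConv g * toConv g')) := by
  obtain ⟨h, hh⟩ := hg
  obtain ⟨h', hh'⟩ := hg'
  refine ⟨ofConv (toConv h * toConv h'), ?_⟩
  apply WithConv.toConv_injective
  show UnitNormalH1.postComp (AlgHom.restrictScalars k (Polynomial.toLaurentAlg (R := R)))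
    (toConv h * toConv h') = _
  rw [map_mul, UnitNormalH1.postComp_apply, UnitNormalH1.postComp_apply, conjOrbit_mul]
  exact congrArg₂ (fun x y => toConv x * toConv y) hh hh'

theorem limExists_inv (g : A →ₐ[k] R) (hg : Dyn.LimExists k A lam R g) :
    Dyn.LimExists k A lam R (g.comp (HopfAlgebra.antipodeAlgHom k A)) := by
  obtain ⟨h, hh⟩ := hg
  refine ⟨h.comp (HopfAlgebra.antipodeAlgHom k A), ?_⟩
  rw [conjOrbit_inv, ← hh]
  rfl

theorem hopf_Jp : (Jp k A lam).IsHopfIdeal k := by
  apply hopf_of_represents k A (Jp k A lam) (fun R _ _ g => Dyn.LimExists k A lam R g)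
    (represents_Jp k A lam)
  · rw [counit_eq_one]
    exact limExists_one k A lam k
  · intro R _ _ g g' hg hg'
    exact limExists_mul k A lam R g g' hg hg'
  · intro R _ _ g hg
    exact limExists_inv k A lam R g hg

end main

end DynLimH1
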