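import Mathlib

namespace Groth.Agent.Lib.DysonOne

open MvPolynomial Finset Equiv

noncomputable section

variable (n : ℕ)

lemma prod_eq :
    (∏ i : Fin n, ∏ j ∈ Finset.univ.erase i, (X i - X j : MvPolynomial (Fin n) ℤ)) =
      (Matrix.vandermonde (fun i : Fin n => (X i : MvPolynomial (Fin n) ℤ))).det *
        (Matrix.projVandermonde (1 : Fin n → MvPolynomial (Fin n) ℤ) (fun i => X i)).det := by
  rw [Matrix.det_vandermonde, Matrix.det_projVandermonde]
  have hsplit : ∀ i : Fin n, Finset.univ.erase i = Finset.Iio i ∪ Finset.Ioi i := by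
    intro i; ext j
    simp only [Finset.mem_erase, Finset.mem_univ, and_true, Finset.mem_union, Finset.mem_Iio,
      Finset.mem_Ioi]
    exact ne_iff_lt_or_gt
  have hdisj : ∀ i : Fin n, Disjoint (Finset.Iio i) (Finset.Ioi i) := by
    intro i
    refine Finset.disjoint_left.mpr fun j h1 h2 => ?_
    rw [Finset.mem_Iio] at h1
    rw [Finset.mem_Ioi] at h2
    exact lt_asymm h1 h2
  have h1 : ∀ i : Fin n, ∏ j ∈ Finset.univ.erase i, (X i - X j : MvPolynomial (Fin n) ℤ) =
      (∏ j ∈ Finset.Iio i, (X i - X j)) * ∏ j ∈ Finset.Ioi i, (X i - X j) := by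
    intro i; rw [hsplit i, Finset.prod_union (hdisj i)]
  simp_rw [h1]
  rw [Finset.prod_mul_distrib]
  congr 1
  · rw [Finset.prod_comm' (s := Finset.univ) (t := fun i : Fin n => Finset.Iio i)
      (t' := Finset.univ) (s' := fun j : Fin n => Finset.Ioi j)]
    intro i j
    simp
  · refine Finset.prod_congr rfl fun i _ => Finset.prod_congr rfl fun j _ => ?_
    simp

lemma msum_apply (σ : Perm (Fin n)) (g : Fin n → ℕ) (k : Fin n) :
    (∑ i, Finsupp.single (σ i) (g i)) k = g (σ.symm k) := by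
  rw [Finsupp.finset_sum_apply, Finset.sum_eq_single (σ.symm k)]
  · simp
  · intro i _ hi
    rw [Finsupp.single_apply, if_neg]
    intro h; apply hi; rw [← h]; simp
  · intro h; exact absurd (Finset.mem_univ _) h

lemma key_iff (σ τ : Perm (Fin n)) :
    (∑ i, Finsupp.single (σ i) (i : ℕ)) + (∑ i, Finsupp.single (τ i) ((Fin.rev i : Fin n) : ℕ)) =
      Finsupp.equivFunOnFinite.symm (fun _ : Fin n => n - 1) ↔ σ = τ := by
  constructor
  · intro h
    have h1 : ∀ k, σ.symm k = τ.symm k := by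
      intro k
      have h2 := DFunLike.congr_fun h k
      rw [Finsupp.add_apply, msum_apply n σ (fun i => (i : ℕ)),
        msum_apply n τ (fun i => ((Fin.rev i : Fin n) : ℕ)), Finsupp.coe_equivFunOnFinite_symm,
        Fin.val_rev] at h2
      have h3 := (σ.symm k).isLt
      have h4 := (τ.symm k).isLt
      apply Fin.ext
      omega
    have h5 : σ.symm = τ.symm := Equiv.ext h1
    have := congrArg Equiv.symm h5
    simpa using this
  · rintro rfl
    ext k
    rw [Finsupp.add_apply, msum_apply n σ (fun i => (i : ℕ)),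
      msum_apply n σ (fun i => ((Fin.rev i : Fin n) : ℕ)), Finsupp.coe_equivFunOnFinite_symm,
      Fin.val_rev]
    have h3 := (σ.symm k).isLt
    omega

lemma term_eq (σ τ : Perm (Fin n)) :
    (((Perm.sign σ : ℤˣ) : ℤ) : MvPolynomial (Fin n) ℤ) *
        (∏ i, Matrix.vandermonde (fun i : Fin n => (X i : MvPolynomial (Fin n) ℤ)) (σ i) i) *
      ((((Perm.sign τ : ℤˣ) : ℤ) : MvPolynomial (Fin n) ℤ) *
        (∏ i, Matrix.projVandermonde (1 : Fin n → MvPolynomial (Fin n) ℤ) (fun i => X i) (τ i) i)) =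
      C (((Perm.sign σ : ℤˣ) : ℤ) * ((Perm.sign τ : ℤˣ) : ℤ)) *
        monomial ((∑ i, Finsupp.single (σ i) (i : ℕ)) +
          (∑ i, Finsupp.single (τ i) ((Fin.rev i : Fin n) : ℕ))) 1 := by
  have h1 : ∏ i, Matrix.vandermonde (fun i : Fin n => (X i : MvPolynomial (Fin n) ℤ)) (σ i) i =
      monomial (∑ i, Finsupp.single (σ i) (i : ℕ)) 1 := by
    rw [monomial_sum_one]
    refine Finset.prod_congr rfl fun i _ => ?_
    rw [Matrix.vandermonde_apply, X_pow_eq_monomial]
  have h2 : ∏ i, Matrix.projVandermonde (1 : Fin n → MvPolynomial (Fin n) ℤ) (fun i => X i)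
      (τ i) i = monomial (∑ i, Finsupp.single (τ i) ((Fin.rev i : Fin n) : ℕ)) 1 := by
    rw [monomial_sum_one]
    refine Finset.prod_congr rfl fun i _ => ?_
    rw [Matrix.projVandermonde_apply, X_pow_eq_monomial]
    simp
  have h3 : (monomial ((∑ i, Finsupp.single (σ i) (i : ℕ)) +
      (∑ i, Finsupp.single (τ i) ((Fin.rev i : Fin n) : ℕ))) (1 : ℤ) : MvPolynomial (Fin n) ℤ) =
      monomial (∑ i, Finsupp.single (σ i) (i : ℕ)) 1 *
        monomial (∑ i, Finsupp.single (τ i) ((Fin.rev i : Fin n) : ℕ)) 1 := by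
    rw [monomial_mul, mul_one]
  rw [h1, h2, h3, C_mul]
  rw [← map_intCast (C : ℤ →+* MvPolynomial (Fin n) ℤ), ← map_intCast (C : ℤ →+* MvPolynomial (Fin n) ℤ)]
  simp only [Int.cast_id]
  ring

theorem main :
    MvPolynomial.coeff (Finsupp.equivFunOnFinite.symm (fun _ : Fin n => n - 1))
      (∏ i : Fin n, ∏ j ∈ Finset.univ.erase i,
        (MvPolynomial.X i - MvPolynomial.X j : MvPolynomial (Fin n) ℤ)) = (n.factorial : ℤ) := by
  classical
  rw [prod_eq, Matrix.det_apply', Matrix.det_apply', Finset.sum_mul_sum, coeff_sum]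
  simp_rw [coeff_sum, term_eq, coeff_C_mul, coeff_monomial, key_iff]
  simp only [mul_ite, mul_one, mul_zero, Finset.sum_ite_eq, Finset.mem_univ, if_true]
  have : ∀ σ : Perm (Fin n), ((Perm.sign σ : ℤˣ) : ℤ) * ((Perm.sign σ : ℤˣ) : ℤ) = 1 := by
    intro σ; exact Int.units_coe_mul_self _
  simp_rw [this]
  rw [Finset.sum_const, Finset.card_univ, Fintype.card_perm, Fintype.card_fin]
  simp

end

end Groth.Agent.Lib.DysonOne
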