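import Mathlib

open IsLocalRing

namespace Groth.Agent.Lib.EFle

universe u

theorem residue_smul {A B : Type u} [CommRing A] [IsLocalRing A] [CommRing B] [IsLocalRing B]
    [Algebra A B] [IsLocalHom (algebraMap A B)] (a : A) (b : B) :
    residue B (a • b) = residue A a • residue B b := by
  rw [Algebra.smul_def, Algebra.smul_def, map_mul]
  rfl

theorem smul_algebraMap {A B L : Type u} [CommRing A] [CommRing B] [Algebra A B]
    [Field L] [Algebra B L] [Algebra A L] [IsScalarTower A B L] (g : A) (x : B) :
    g • algebraMap B L x = algebraMap B L (g • x) := by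
  rw [Algebra.smul_def, Algebra.smul_def, map_mul, ← IsScalarTower.algebraMap_apply A B L]

theorem coreB {A B : Type u} [CommRing A] [IsDomain A] [IsDiscreteValuationRing A]
    [CommRing B] [IsDomain B] [IsDiscreteValuationRing B] [Algebra A B]
    [IsLocalHom (algebraMap A B)] {r e : ℕ} (π : A) (hπ : Irreducible π) (pB : B)
    (hpB : Irreducible pB) (w : B) (hw : algebraMap A B π = w * pB ^ e)
    (b : Fin r → B) (hb : LinearIndependent (ResidueField A) (fun i => residue B (b i)))
    (a : Fin r → Fin e → A)
    (h0 : ∑ j : Fin e, (∑ i : Fin r, a i j • b i) * pB ^ (j : ℕ) = 0) :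
    ∀ (j : Fin e) (i : Fin r), a i j ∈ maximalIdeal A := by
  classical
  have hpB0 : pB ≠ 0 := hpB.ne_zero
  have Q : ∀ J : ℕ, J ≤ e → ∀ j : Fin e, (j : ℕ) < J → ∀ i, a i j ∈ maximalIdeal A := by
    intro J
    induction J with
    | zero => intro _ j hj; exact absurd hj (Nat.not_lt_zero _)
    | succ J ih =>
      intro hJ j hj i
      have ih' := ih (Nat.le_of_succ_le hJ)
      by_cases hjJ : (j : ℕ) < J
      · exact ih' j hjJ i
      have hjeq : (j : ℕ) = J := by omega
      have hdiv : pB ^ (J + 1) ∣ (∑ i : Fin r, a i j • b i) * pB ^ (j : ℕ) := by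
        have h1 : (∑ i : Fin r, a i j • b i) * pB ^ (j : ℕ) +
            ∑ x ∈ Finset.univ.erase j, (∑ i : Fin r, a i x • b i) * pB ^ (x : ℕ) = 0 :=
          (Finset.add_sum_erase Finset.univ
            (fun j : Fin e => (∑ i : Fin r, a i j • b i) * pB ^ (j : ℕ))
            (Finset.mem_univ j)).trans h0
        have h2 : (∑ i : Fin r, a i j • b i) * pB ^ (j : ℕ) =
            - ∑ x ∈ Finset.univ.erase j, (∑ i : Fin r, a i x • b i) * pB ^ (x : ℕ) :=
          eq_neg_of_add_eq_zero_left h1
        rw [h2, dvd_neg]
        apply Finset.dvd_sum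
        intro x hx
        have hxj : x ≠ j := Finset.ne_of_mem_erase hx
        have hxj' : (x : ℕ) ≠ J := fun h => hxj (Fin.ext (h.trans hjeq.symm))
        rcases Nat.lt_or_gt_of_ne hxj' with hlt | hgt
        · have hs : pB ^ e ∣ ∑ i : Fin r, a i x • b i := by
            apply Finset.dvd_sum
            intro i _
            have hmem := ih' x hlt i
            rw [hπ.maximalIdeal_eq, Ideal.mem_span_singleton'] at hmem
            obtain ⟨c, hc⟩ := hmem
            rw [← hc, Algebra.smul_def, map_mul, hw]
            exact ⟨algebraMap A B c * w * b i, by ring⟩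
          exact Dvd.dvd.mul_right ((pow_dvd_pow pB hJ).trans hs) _
        · exact Dvd.dvd.mul_left (pow_dvd_pow pB (Nat.succ_le_of_lt hgt)) _
      rw [hjeq, pow_succ, mul_comm (pB ^ J) pB] at hdiv
      have hdiv' : pB ∣ ∑ i : Fin r, a i j • b i :=
        (mul_dvd_mul_iff_right (pow_ne_zero J hpB0)).mp hdiv
      have hres : residue B (∑ i : Fin r, a i j • b i) = 0 := by
        rw [residue_eq_zero_iff, hpB.maximalIdeal_eq, Ideal.mem_span_singleton]
        exact hdiv'
      rw [map_sum] at hres
      simp only [residue_smul] at hres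
      have h3 := (Fintype.linearIndependent_iff.mp hb) (fun i => residue A (a i j)) hres i
      exact (residue_eq_zero_iff _).mp h3
  intro j i
  exact Q e le_rfl j j.2 i

theorem linInd_A {A B K L : Type u} [CommRing A] [IsDomain A] [IsDiscreteValuationRing A]
    [CommRing B] [IsDomain B] [IsDiscreteValuationRing B] [Algebra A B]
    [IsLocalHom (algebraMap A B)]
    [Field K] [Field L] [Algebra A K] [IsFractionRing A K] [Algebra B L] [IsFractionRing B L]
    [Algebra K L] [Algebra A L] [IsScalarTower A K L] [IsScalarTower A B L]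
    {r e : ℕ} (π : A) (hπ : Irreducible π) (pB : B)
    (hpB : Irreducible pB) (w : B) (hw : algebraMap A B π = w * pB ^ e)
    (b : Fin r → B) (hb : LinearIndependent (ResidueField A) (fun i => residue B (b i))) :
    LinearIndependent A (fun p : Fin r × Fin e => algebraMap B L (b p.1 * pB ^ (p.2 : ℕ))) := by
  classical
  have hπL : algebraMap A L π ≠ 0 := by
    rw [IsScalarTower.algebraMap_apply A K L]
    intro h
    have h1 := (map_eq_zero (algebraMap K L)).mp h
    exact hπ.ne_zero ((IsFractionRing.injective A K) (h1.trans (map_zero _).symm))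
  have P : ∀ N : ℕ, ∀ g : Fin r × Fin e → A,
      ∑ p, g p • algebraMap B L (b p.1 * pB ^ (p.2 : ℕ)) = 0 →
        ∀ p, g p ∈ (maximalIdeal A) ^ N := by
    intro N
    induction N with
    | zero => intro g _ p; simp
    | succ N ih =>
      intro g hg p
      have hB0 : ∑ p : Fin r × Fin e, g p • (b p.1 * pB ^ (p.2 : ℕ)) = 0 := by
        apply IsFractionRing.injective B L
        rw [map_zero, map_sum, ← hg]
        exact Finset.sum_congr rfl fun p _ => (smul_algebraMap (g p) _).symm
      have hB : ∑ j : Fin e, (∑ i : Fin r, g (i, j) • b i) * pB ^ (j : ℕ) = 0 := by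
        rw [← hB0, Fintype.sum_prod_type_right]
        refine Finset.sum_congr rfl fun j _ => ?_
        rw [Finset.sum_mul]
        refine Finset.sum_congr rfl fun i _ => ?_
        rw [smul_mul_assoc]
      have hmem := coreB π hπ pB hpB w hw b hb (fun i j => g (i, j)) hB
      have hex : ∀ p : Fin r × Fin e, ∃ c, c * π = g p := fun p => by
        have h1 := hmem p.2 p.1
        rwa [hπ.maximalIdeal_eq, Ideal.mem_span_singleton'] at h1
      choose g' hg' using hex
      have hg'rel : ∑ p, g' p • algebraMap B L (b p.1 * pB ^ (p.2 : ℕ)) = 0 := by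
        have h1 : algebraMap A L π *
            ∑ p, g' p • algebraMap B L (b p.1 * pB ^ (p.2 : ℕ)) = 0 := by
          rw [Finset.mul_sum, ← hg]
          refine Finset.sum_congr rfl fun p _ => ?_
          rw [← hg' p]; simp only [Algebra.smul_def, map_mul]; ring
        exact (mul_eq_zero.mp h1).resolve_left hπL
      have h2 := ih g' hg'rel p
      rw [← hg' p, pow_succ]
      exact Ideal.mul_mem_mul h2
        (by rw [hπ.maximalIdeal_eq]; exact Ideal.mem_span_singleton_self π)
  rw [Fintype.linearIndependent_iff]
  intro g hg p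
  have hall : g p ∈ ⨅ N, (maximalIdeal A) ^ N := by
    rw [Ideal.mem_iInf]; exact fun N => P N g hg p
  rw [Ideal.iInf_pow_eq_bot_of_isLocalRing _ (IsLocalRing.maximalIdeal.isMaximal A).ne_top]
    at hall
  exact (Submodule.mem_bot A).mp hall

theorem key {A B K L : Type u} [CommRing A] [IsDomain A] [IsDiscreteValuationRing A]
    [CommRing B] [IsDomain B] [IsDiscreteValuationRing B] [Algebra A B]
    [IsLocalHom (algebraMap A B)]
    [Field K] [Field L] [Algebra A K] [IsFractionRing A K] [Algebra B L] [IsFractionRing B L]
    [Algebra K L] [Algebra A L] [IsScalarTower A K L] [IsScalarTower A B L]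
    [FiniteDimensional K L]
    {r : ℕ} (c : Fin r → ResidueField B) (hc : LinearIndependent (ResidueField A) c)
    (π : A) (hπ : Irreducible π) (pB : B) (hpB : Irreducible pB) (w : B) (e : ℕ)
    (hw : algebraMap A B π = w * pB ^ e) : r * e ≤ Module.finrank K L := by
  have hsurj : ∀ i, ∃ b : B, residue B b = c i := fun i => Ideal.Quotient.mk_surjective (c i)
  choose b hb using hsurj
  have hb' : LinearIndependent (ResidueField A) (fun i => residue B (b i)) := by
    have h1 : (fun i => residue B (b i)) = c := funext hb
    rw [h1]; exact hc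
  have hA := linInd_A (K := K) (L := L) π hπ pB hpB w hw b hb'
  have hK : LinearIndependent K
      (fun p : Fin r × Fin e => algebraMap B L (b p.1 * pB ^ (p.2 : ℕ))) :=
    hA.localization K (nonZeroDivisors A)
  have h2 := hK.fintype_card_le_finrank
  simpa using h2

theorem main (A B K L : Type u) [CommRing A] [IsDomain A]
    [IsDiscreteValuationRing A] [CommRing B] [IsDomain B] [IsDiscreteValuationRing B]
    [Algebra A B]
    (hinj : Function.Injective (algebraMap A B)) [IsLocalHom (algebraMap A B)]
    [Field K] [Field L] [Algebra A K] [IsFractionRing A K] [Algebra B L] [IsFractionRing B L]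
    [Algebra K L] [Algebra A L] [IsScalarTower A K L] [IsScalarTower A B L]
    [FiniteDimensional K L] :
    Module.Finite (IsLocalRing.ResidueField A) (IsLocalRing.ResidueField B) ∧
      Ideal.ramificationIdx' (IsLocalRing.maximalIdeal A) (IsLocalRing.maximalIdeal B) *
          Module.finrank (IsLocalRing.ResidueField A) (IsLocalRing.ResidueField B) ≤
        Module.finrank K L := by
  obtain ⟨π, hπ⟩ := IsDiscreteValuationRing.exists_irreducible A
  obtain ⟨pB, hpB⟩ := IsDiscreteValuationRing.exists_irreducible B
  have hπB : algebraMap A B π ≠ 0 := fun h => hπ.ne_zero (hinj (h.trans (map_zero _).symm))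
  obtain ⟨e, u, hu⟩ := IsDiscreteValuationRing.eq_unit_mul_pow_irreducible hπB hpB
  have he : 1 ≤ e := by
    by_contra hcon
    have he0 : e = 0 := by omega
    rw [he0, pow_zero, mul_one] at hu
    have h1 : IsUnit (algebraMap A B π) := hu ▸ u.isUnit
    exact hπ.not_isUnit (isUnit_of_map_unit (algebraMap A B) π h1)
  have hram : Ideal.ramificationIdx' (maximalIdeal A) (maximalIdeal B) = e := by
    apply Ideal.ramificationIdx'_spec
    · rw [hπ.maximalIdeal_eq, hpB.maximalIdeal_eq, Ideal.map_span, Set.image_singleton,
        Ideal.span_singleton_pow, Ideal.span_singleton_le_span_singleton, hu]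
      exact Dvd.intro_left _ rfl
    · rw [hπ.maximalIdeal_eq, hpB.maximalIdeal_eq, Ideal.map_span, Set.image_singleton,
        Ideal.span_singleton_pow, Ideal.span_singleton_le_span_singleton, hu,
        Units.dvd_mul_left]
      intro hdvd
      rw [pow_succ] at hdvd
      have h2 : pB ^ e * pB ∣ pB ^ e * 1 := by rwa [mul_one]
      have h3 : pB ∣ 1 := (mul_dvd_mul_iff_left (pow_ne_zero e hpB.ne_zero)).mp h2
      exact hpB.not_isUnit (isUnit_of_dvd_one h3)
  have hfin : Module.Finite (ResidueField A) (ResidueField B) := by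
    by_contra hnf
    have hrank : ¬ Module.rank (ResidueField A) (ResidueField B) < Cardinal.aleph0 := by
      rwa [Module.rank_lt_aleph0_iff]
    push_neg at hrank
    have hle : ((Module.finrank K L + 1 : ℕ) : Cardinal) ≤
        Module.rank (ResidueField A) (ResidueField B) :=
      Cardinal.natCast_lt_aleph0.le.trans hrank
    obtain ⟨c, hc⟩ := exists_linearIndependent_of_le_rank hle
    have h1 := key (K := K) (L := L) c hc π hπ pB hpB (u:B) e hu
    have h3 : Module.finrank K L + 1 ≤ (Module.finrank K L + 1) * e :=
      Nat.le_mul_of_pos_right _ he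
    omega
  refine ⟨hfin, ?_⟩
  haveI := hfin
  have hbasis := Module.finBasis (ResidueField A) (ResidueField B)
  have h1 := key (K := K) (L := L) (fun i => hbasis i) hbasis.linearIndependent π hπ pB hpB
    (u:B) e hu
  rw [hram, mul_comm]; exact h1

end Groth.Agent.Lib.EFle
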