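import Mathlib
import Groth.Prelude
import Groth.Agent.Lib.EW_helper7

/-!
# Eilenberg–Watts for functors `ModuleCat A ⥤ ModuleCat B` (helper4)

A functor preserving finite colimits and arbitrary coproducts is `K ⊗[A] -` with `K = F(A)`.
-/

set_option autoImplicit false
set_option linter.style.haveILetI false

universe u

open CategoryTheory CategoryTheory.Limits Module
open scoped TensorProduct

namespace Groth.Agent.Lib.EWattsABH4

open Groth.Agent.Lib.EWH7 (theta theta_apply theta_comp freeCofan freeCofanIsColimit)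

section thetaLemmas

variable {A : Type u} [CommRing A]

lemma theta_add {M : ModuleCat.{u} A} (x y : M) : theta (x + y) = theta x + theta y := by
  apply ModuleCat.hom_ext
  apply LinearMap.ext_ring
  rw [ModuleCat.hom_add, LinearMap.add_apply, theta_apply, theta_apply, theta_apply, one_smul,
    one_smul, one_smul]

lemma theta_zero {M : ModuleCat.{u} A} : theta (0 : M) = 0 := by
  apply ModuleCat.hom_ext
  apply LinearMap.ext_ring
  rw [theta_apply, smul_zero, ModuleCat.hom_zero, LinearMap.zero_apply]

lemma theta_one : theta (M := ModuleCat.of A A) (1 : A) = 𝟙 (ModuleCat.of A A) := by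
  apply ModuleCat.hom_ext
  apply LinearMap.ext_ring
  rw [theta_apply, ModuleCat.hom_id, LinearMap.id_apply]
  exact one_smul A (1 : A)

lemma theta_smul_comp {M : ModuleCat.{u} A} (a : A) (x : M) :
    theta (M := ModuleCat.of A A) a ≫ theta x = theta (a • x) := by
  rw [theta_comp, theta_apply]

lemma theta_mul (a b : A) : theta (M := ModuleCat.of A A) (a * b) =
    theta (M := ModuleCat.of A A) b ≫ theta (M := ModuleCat.of A A) a := by
  rw [theta_smul_comp]
  congr 1
  show a * b = b * a
  exact mul_comm a b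

end thetaLemmas

variable {A B : Type u} [CommRing A] [CommRing B] (F : ModuleCat.{u} A ⥤ ModuleCat.{u} B)
  [F.Additive]

/-- the `A`-action on `F(A)`. -/
noncomputable def smulK (a : A) (k : F.obj (ModuleCat.of A A)) : F.obj (ModuleCat.of A A) :=
  (F.map (theta (M := ModuleCat.of A A) a)).hom k

lemma smulK_one (k : F.obj (ModuleCat.of A A)) : smulK F 1 k = k := by
  show (F.map (theta (M := ModuleCat.of A A) (1 : A))).hom k = k
  rw [theta_one, F.map_id]
  rfl

lemma smulK_mul (a b : A) (k : F.obj (ModuleCat.of A A)) :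
    smulK F (a * b) k = smulK F a (smulK F b k) := by
  show (F.map (theta (M := ModuleCat.of A A) (a * b))).hom k =
    (F.map (theta (M := ModuleCat.of A A) a)).hom ((F.map (theta (M := ModuleCat.of A A) b)).hom k)
  rw [theta_mul, F.map_comp]
  rfl

lemma smulK_add (a b : A) (k : F.obj (ModuleCat.of A A)) :
    smulK F (a + b) k = smulK F a k + smulK F b k := by
  show (F.map (theta (M := ModuleCat.of A A) (a + b))).hom k =
    (F.map (theta (M := ModuleCat.of A A) a)).hom k + (F.map (theta (M := ModuleCat.of A A) b)).hom k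
  have h : theta (M := ModuleCat.of A A) (a + b) =
      theta (M := ModuleCat.of A A) a + theta (M := ModuleCat.of A A) b := theta_add (M := ModuleCat.of A A) a b
  rw [h, F.map_add, ModuleCat.hom_add, LinearMap.add_apply]

lemma smulK_zero' (k : F.obj (ModuleCat.of A A)) : smulK F (0 : A) k = 0 := by
  show (F.map (theta (M := ModuleCat.of A A) (0 : A))).hom k = 0
  have h : theta (M := ModuleCat.of A A) (0 : A) = 0 := theta_zero (M := ModuleCat.of A A)
  rw [h, F.map_zero, ModuleCat.hom_zero, LinearMap.zero_apply]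

/-- `F(A)` as an `A`-module. -/
@[reducible] noncomputable def instModA : Module A (F.obj (ModuleCat.of A A)) where
  smul := smulK F
  one_smul := smulK_one F
  mul_smul := smulK_mul F
  smul_zero := fun a => map_zero (F.map (theta (M := ModuleCat.of A A) a)).hom
  smul_add := fun a k k' => map_add (F.map (theta (M := ModuleCat.of A A) a)).hom k k'
  add_smul := smulK_add F
  zero_smul := smulK_zero' F

attribute [local instance] instModA

lemma smul_def (a : A) (k : F.obj (ModuleCat.of A A)) :
    a • k = (F.map (theta (M := ModuleCat.of A A) a)).hom k := rfl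

@[reducible] def instSMulComm : SMulCommClass A B (F.obj (ModuleCat.of A A)) :=
  ⟨fun a b k => map_smul (F.map (theta (M := ModuleCat.of A A) a)).hom b k⟩

attribute [local instance] instSMulComm

/-- the comparison map `F(A) ⊗ M → F(M)` as an additive map. -/
noncomputable def tAdd (M : ModuleCat.{u} A) :
    (F.obj (ModuleCat.of A A)) ⊗[A] M →+ F.obj M :=
  TensorProduct.liftAddHom
    (AddMonoidHom.mk' (fun k : F.obj (ModuleCat.of A A) =>
        AddMonoidHom.mk' (fun m : M => (F.map (theta m)).hom k)
          (fun m m' => by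
            rw [theta_add, F.map_add, ModuleCat.hom_add, LinearMap.add_apply]))
      (fun k k' => AddMonoidHom.ext fun m => map_add (F.map (theta m)).hom k k'))
    (fun a k m => by
      show (F.map (theta m)).hom ((F.map (theta (M := ModuleCat.of A A) a)).hom k) =
        (F.map (theta (a • m))).hom k
      rw [← theta_smul_comp, F.map_comp]
      rfl)

lemma tAdd_tmul (M : ModuleCat.{u} A) (k : F.obj (ModuleCat.of A A)) (m : M) :
    tAdd F M (k ⊗ₜ[A] m) = (F.map (theta m)).hom k := rfl

/-- the comparison map as a `B`-linear map. -/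
noncomputable def tLin (M : ModuleCat.{u} A) :
    (F.obj (ModuleCat.of A A)) ⊗[A] M →ₗ[B] F.obj M where
  toFun := tAdd F M
  map_add' := map_add (tAdd F M)
  map_smul' := fun b w => by
    show tAdd F M (b • w) = b • tAdd F M w
    induction w using TensorProduct.induction_on with
    | zero => rw [smul_zero, map_zero, smul_zero]
    | tmul k m =>
      rw [TensorProduct.smul_tmul', tAdd_tmul, tAdd_tmul, map_smul]
    | add x y hx hy => rw [smul_add, map_add, hx, hy, map_add, smul_add]

lemma tLin_apply (M : ModuleCat.{u} A) (w : (F.obj (ModuleCat.of A A)) ⊗[A] M) :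
    tLin F M w = tAdd F M w := rfl

lemma tAdd_nat {M N : ModuleCat.{u} A} (g : M ⟶ N) (w : (F.obj (ModuleCat.of A A)) ⊗[A] M) :
    (F.map g).hom (tAdd F M w) = tAdd F N (g.hom.lTensor _ w) := by
  induction w using TensorProduct.induction_on with
  | zero => simp only [map_zero]
  | tmul k m =>
    rw [tAdd_tmul, LinearMap.lTensor_tmul, tAdd_tmul, ← theta_comp, F.map_comp]
    rfl
  | add x y hx hy => simp only [map_add, hx, hy]

lemma tAdd_self (w : (F.obj (ModuleCat.of A A)) ⊗[A] (ModuleCat.of A A : ModuleCat.{u} A)) :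
    tAdd F (ModuleCat.of A A) w = TensorProduct.rid A (F.obj (ModuleCat.of A A)) w := by
  induction w using TensorProduct.induction_on with
  | zero => simp only [map_zero]
  | tmul k a =>
    rw [tAdd_tmul]
    exact (TensorProduct.rid_tmul k a).symm
  | add x y hx hy => simp only [map_add, hx, hy]

lemma tAdd_self_bij : Function.Bijective (tAdd F (ModuleCat.of A A)) := by
  refine ⟨fun x y hxy => (TensorProduct.rid A (F.obj (ModuleCat.of A A))).injective ?_,
    fun z => ⟨(TensorProduct.rid A (F.obj (ModuleCat.of A A))).symm z, ?_⟩⟩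
  · rw [← tAdd_self, ← tAdd_self]; exact hxy
  · rw [tAdd_self]; exact (TensorProduct.rid A (F.obj (ModuleCat.of A A))).apply_symm_apply z

/-- the comparison map as a morphism. -/
noncomputable def tMor (M : ModuleCat.{u} A) :
    ModuleCat.of B ((F.obj (ModuleCat.of A A)) ⊗[A] M) ⟶ F.obj M := ModuleCat.ofHom (tLin F M)

/-- `k ↦ k ⊗ m` as a `B`-linear map. -/
noncomputable def mkR {M : ModuleCat.{u} A} (m : M) :
    F.obj (ModuleCat.of A A) →ₗ[B] (F.obj (ModuleCat.of A A)) ⊗[A] M where
  toFun := fun k => k ⊗ₜ[A] m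
  map_add' := fun k k' => TensorProduct.add_tmul k k' m
  map_smul' := fun b k => (TensorProduct.smul_tmul' b k m).symm

/-- the cocone used to construct the inverse on free modules. -/
noncomputable def descCocone {L : ModuleCat.{u} A} {J : Type u} (b : Basis J A L) :
    Cocone (Discrete.functor (fun _ : J => ModuleCat.of A A) ⋙ F) where
  pt := ModuleCat.of B ((F.obj (ModuleCat.of A A)) ⊗[A] L)
  ι := Discrete.natTrans (fun j => ModuleCat.ofHom (mkR F (b j.as)))

section coprod

variable [∀ J : Type u, PreservesColimitsOfShape (Discrete J) F]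

theorem tAdd_bij_of_basis {L : ModuleCat.{u} A} {J : Type u} (b : Basis J A L) :
    Function.Bijective (tAdd F L) := by
  have hc : IsColimit (F.mapCocone (freeCofan b)) :=
    isColimitOfPreserves F (freeCofanIsColimit b)
  let d : F.obj L ⟶ ModuleCat.of B ((F.obj (ModuleCat.of A A)) ⊗[A] L) :=
    hc.desc (descCocone F b)
  have hfac : ∀ (j : J) (k : F.obj (ModuleCat.of A A)),
      d.hom ((F.map (theta (b j))).hom k) = k ⊗ₜ[A] b j := by
    intro j k
    have h1 := hc.fac (descCocone F b) ⟨j⟩
    exact congrArg (fun φ => φ.hom k) h1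
  have hcl : ∀ l : L, ∀ k : F.obj (ModuleCat.of A A), d.hom (tAdd F L (k ⊗ₜ[A] l)) = k ⊗ₜ[A] l := by
    intro l
    refine Submodule.span_induction
      (p := fun l _ => ∀ k : F.obj (ModuleCat.of A A), d.hom (tAdd F L (k ⊗ₜ[A] l)) = k ⊗ₜ[A] l)
      ?_ ?_ ?_ ?_ (b.mem_span l)
    · rintro _ ⟨j, rfl⟩ k
      rw [tAdd_tmul]
      exact hfac j k
    · intro k
      rw [TensorProduct.tmul_zero, map_zero, map_zero]
    · intro x y _ _ hx hy k
      rw [TensorProduct.tmul_add, map_add, map_add, hx k, hy k]
    · intro a x _ hx k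
      rw [← TensorProduct.smul_tmul]
      exact hx (a • k)
  have hd : ∀ w, d.hom (tAdd F L w) = w := by
    intro w
    induction w using TensorProduct.induction_on with
    | zero => rw [map_zero, map_zero]
    | tmul k l => exact hcl l k
    | add x y hx hy => rw [map_add, map_add, hx, hy]
  have hdt : d ≫ tMor F L = 𝟙 (F.obj L) := by
    apply hc.hom_ext
    intro j
    have h1 := hc.fac (descCocone F b) j
    have h2 : (F.mapCocone (freeCofan b)).ι.app j ≫ d ≫ tMor F L =
        (descCocone F b).ι.app j ≫ tMor F L :=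
      (Category.assoc _ _ _).symm.trans (congrArg (fun m => m ≫ tMor F L) h1)
    refine h2.trans ?_
    refine Eq.trans ?_ (Category.comp_id _).symm
    apply ModuleCat.hom_ext
    apply LinearMap.ext
    intro k
    rfl
  refine ⟨Function.LeftInverse.injective hd, fun z => ⟨d.hom z, ?_⟩⟩
  exact congrArg (fun φ : F.obj L ⟶ F.obj L => φ.hom z) hdt

theorem tAdd_bij (hF : PreservesFiniteColimits F) (M : ModuleCat.{u} A) :
    Function.Bijective (tAdd F M) := by
  have hT : ∀ S : ShortComplex (ModuleCat.{u} A), S.Exact ∧ Epi S.g →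
      (S.map F).Exact ∧ Epi (F.map S.g) :=
    ((Functor.preservesFiniteColimits_tfae F).out 3 1).mp hF
  let π : (M →₀ A) →ₗ[A] M := Finsupp.linearCombination A id
  have hπ : Function.Surjective π := Finsupp.linearCombination_id_surjective A M
  let K' := LinearMap.ker π
  let φ : (K' →₀ A) →ₗ[A] (M →₀ A) := K'.subtype ∘ₗ Finsupp.linearCombination A id
  have hφ : LinearMap.range φ = LinearMap.ker π := by
    rw [LinearMap.range_comp, LinearMap.range_eq_top.mpr
      (Finsupp.linearCombination_id_surjective A K'), Submodule.map_top, Submodule.range_subtype]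
  have hπφ : π ∘ₗ φ = 0 := by
    apply LinearMap.ext
    intro x
    have : φ x ∈ LinearMap.ker π := by rw [← hφ]; exact LinearMap.mem_range_self φ x
    exact this
  let S : ShortComplex (ModuleCat.{u} A) :=
    ShortComplex.mk (ModuleCat.ofHom φ) (ModuleCat.ofHom π) (by
      rw [← ModuleCat.ofHom_comp, hπφ]; rfl)
  have hSex : S.Exact := (ShortComplex.moduleCat_exact_iff_range_eq_ker S).mpr hφ
  have hSepi : Epi S.g := (ModuleCat.epi_iff_surjective _).mpr hπ
  obtain ⟨hTex, hTepi⟩ := hT S ⟨hSex, hSepi⟩
  have hTrk : LinearMap.range (F.map (ModuleCat.ofHom φ)).hom =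
      LinearMap.ker (F.map (ModuleCat.ofHom π)).hom :=
    (ShortComplex.moduleCat_exact_iff_range_eq_ker (S.map F)).mp hTex
  have hTsurj : Function.Surjective (F.map (ModuleCat.ofHom π)).hom :=
    (ModuleCat.epi_iff_surjective _).mp hTepi
  have hb0 := tAdd_bij_of_basis F (L := ModuleCat.of A (M →₀ A)) Finsupp.basisSingleOne
  have hb1 := tAdd_bij_of_basis F (L := ModuleCat.of A (K' →₀ A)) Finsupp.basisSingleOne
  have hsurjπ : Function.Surjective (π.lTensor (F.obj (ModuleCat.of A A))) :=
    LinearMap.lTensor_surjective _ hπ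
  constructor
  · rw [injective_iff_map_eq_zero]
    intro w hw
    obtain ⟨w₀, rfl⟩ := hsurjπ w
    have h1 : (F.map (ModuleCat.ofHom π)).hom (tAdd F (ModuleCat.of A (M →₀ A)) w₀) = 0 := by
      rw [tAdd_nat]
      exact hw
    have h2 : tAdd F (ModuleCat.of A (M →₀ A)) w₀ ∈
        LinearMap.range (F.map (ModuleCat.ofHom φ)).hom := by
      rw [hTrk]
      exact h1
    obtain ⟨z₁, hz₁⟩ := h2
    obtain ⟨w₁, rfl⟩ := hb1.2 z₁
    rw [tAdd_nat] at hz₁
    have h3 : φ.lTensor (F.obj (ModuleCat.of A A)) w₁ = w₀ := hb0.1 hz₁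
    rw [← h3, ← LinearMap.comp_apply, ← LinearMap.lTensor_comp, hπφ, LinearMap.lTensor_zero,
      LinearMap.zero_apply]
  · intro z
    obtain ⟨z₀, hz₀⟩ := hTsurj z
    obtain ⟨w₀, hw₀⟩ := hb0.2 z₀
    refine ⟨π.lTensor (F.obj (ModuleCat.of A A)) w₀, ?_⟩
    have := tAdd_nat F (ModuleCat.ofHom π) w₀
    rw [hw₀, hz₀] at this
    exact this.symm

end coprod

end Groth.Agent.Lib.EWattsABH4

namespace Groth.Agent.Lib.EWattsABH4

open Groth.Agent.Lib.EWH7 (theta)

theorem main (A B : Type u) [CommRing A] [CommRing B] (F : ModuleCat.{u} A ⥤ ModuleCat.{u} B)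
    [PreservesFiniteColimits F]
    (hsum : ∀ J : Type u, PreservesColimitsOfShape (Discrete J) F) :
    ∃ (K : Type u) (_ : AddCommGroup K) (_ : Module A K) (_ : Module B K)
      (_ : SMulCommClass A B K)
      (η : ∀ M : ModuleCat.{u} A, (K ⊗[A] M) ≃ₗ[B] F.obj M),
      ∀ (M N : ModuleCat.{u} A) (f : M ⟶ N) (x : K ⊗[A] M),
        η N (LinearMap.lTensor K f.hom x) = F.map f (η M x) := by
  haveI : PreservesBinaryBiproducts F := preservesBinaryBiproducts_of_preservesBinaryCoproducts F
  haveI : F.Additive := Functor.additive_of_preservesBinaryBiproducts F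
  haveI := hsum
  refine ⟨F.obj (ModuleCat.of A A), inferInstance, instModA F, inferInstance, instSMulComm F,
    fun M => LinearEquiv.ofBijective (tLin F M) (tAdd_bij F inferInstance M), ?_⟩
  intro M N f x
  exact (tAdd_nat F f x).symm

end Groth.Agent.Lib.EWattsABH4
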