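import Mathlib
import Groth.Prelude
import Groth.Agent.Lib.EWattsAB_helper4

/-!
# Eilenberg–Watts: natural transformations between tensor functors (helper4)
-/

set_option autoImplicit false
set_option linter.style.haveILetI false

universe u

open CategoryTheory CategoryTheory.Limits TensorProduct
open scoped ModuleCat.Algebra

namespace Groth.Agent.Lib.EWattsABH4

open Groth.Agent.Lib.EWH7 (theta theta_apply theta_comp)

attribute [local instance] instModA instSMulComm

variable {A B : Type u} [CommRing A] [CommRing B]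

lemma theta_eq_smul_id (a : A) :
    theta (M := ModuleCat.of A A) a = a • 𝟙 (ModuleCat.of A A) := by
  apply ModuleCat.hom_ext
  apply LinearMap.ext_ring
  have h : ((a • 𝟙 (ModuleCat.of A A) : ModuleCat.of A A ⟶ ModuleCat.of A A)).hom (1 : A) =
      a • (1 : A) := rfl
  rw [theta_apply, h, one_smul, smul_eq_mul, mul_one]

lemma smul_id_hom_apply {R : Type u} [CommRing R] [Algebra R B] (r : R) (N : ModuleCat.{u} B)
    (x : N) : ((r • 𝟙 N : N ⟶ N)).hom x = algebraMap R B r • x := by
  rw [ModuleCat.hom_smul, LinearMap.smul_apply, ModuleCat.hom_id, LinearMap.id_apply]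
  exact (algebraMap_smul B r x).symm

lemma theta_comp_smul_id {R : Type u} [CommRing R] [Algebra R A] (r : R) (X : ModuleCat.{u} A)
    (x : X) : theta x ≫ (r • 𝟙 X) = theta (algebraMap R A r • x) := by
  rw [theta_comp, smul_id_hom_apply]

lemma map_smul_id {R : Type u} [CommRing R] [Algebra R A] [Algebra R B]
    (F : ModuleCat.{u} A ⥤ ModuleCat.{u} B) [F.Additive] [F.Linear R] (r : R)
    (X : ModuleCat.{u} A) : F.map (r • 𝟙 X) = r • 𝟙 (F.obj X) := by
  rw [Functor.map_smul, F.map_id]

lemma part_i {R : Type u} [CommRing R] [Algebra R A] [Algebra R B]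
    (F : ModuleCat.{u} A ⥤ ModuleCat.{u} B) [F.Additive] [F.Linear R] (r : R)
    (x : F.obj (ModuleCat.of A A)) : algebraMap R A r • x = algebraMap R B r • x := by
  show (F.map (theta (M := ModuleCat.of A A) (algebraMap R A r))).hom x = algebraMap R B r • x
  have e1 := theta_comp_smul_id (A := A) r (ModuleCat.of A A) (1 : A)
  rw [theta_one (A := A), Category.id_comp] at e1
  have e3 := e1.trans (congrArg (theta (M := ModuleCat.of A A)) (mul_one (algebraMap R A r)))
  rw [← e3, map_smul_id, smul_id_hom_apply]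

theorem nat_ext (F F' : ModuleCat.{u} A ⥤ ModuleCat.{u} B) [F.Additive]
    [∀ J : Type u, PreservesColimitsOfShape (Discrete J) F] (hF : PreservesFiniteColimits F)
    (t t' : F ⟶ F') (h : t.app (ModuleCat.of A A) = t'.app (ModuleCat.of A A)) : t = t' := by
  apply NatTrans.ext
  funext M
  apply ModuleCat.hom_ext
  apply LinearMap.ext
  intro z
  obtain ⟨w, rfl⟩ := (tAdd_bij F hF M).2 z
  induction w using TensorProduct.induction_on with
  | zero => simp only [map_zero]
  | tmul k m =>
    rw [tAdd_tmul]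
    have h1 : (t.app M).hom ((F.map (theta m)).hom k) =
        (F'.map (theta m)).hom ((t.app (ModuleCat.of A A)).hom k) :=
      congrArg (fun ψ => ψ.hom k) (t.naturality (theta m))
    have h2 : (t'.app M).hom ((F.map (theta m)).hom k) =
        (F'.map (theta m)).hom ((t'.app (ModuleCat.of A A)).hom k) :=
      congrArg (fun ψ => ψ.hom k) (t'.naturality (theta m))
    rw [h1, h2, h]
  | add x y hx hy => simp only [map_add, hx, hy]

section ex

variable (F F' : ModuleCat.{u} A ⥤ ModuleCat.{u} B) [F.Additive] [F'.Additive]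

/-- `φ` as an `A`-linear map. -/
noncomputable def phiA (φ : F.obj (ModuleCat.of A A) ⟶ F'.obj (ModuleCat.of A A))
    (hφ : ∀ a : A, F.map (theta (M := ModuleCat.of A A) a) ≫ φ =
      φ ≫ F'.map (theta (M := ModuleCat.of A A) a)) :
    F.obj (ModuleCat.of A A) →ₗ[A] F'.obj (ModuleCat.of A A) where
  toFun := φ.hom
  map_add' := map_add φ.hom
  map_smul' := fun a k => congrArg (fun ψ => ψ.hom k) (hφ a)

lemma phiA_apply (φ : F.obj (ModuleCat.of A A) ⟶ F'.obj (ModuleCat.of A A))
    (hφ : ∀ a : A, F.map (theta (M := ModuleCat.of A A) a) ≫ φ =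
      φ ≫ F'.map (theta (M := ModuleCat.of A A) a)) (k : F.obj (ModuleCat.of A A)) :
    phiA F F' φ hφ k = φ.hom k := rfl

lemma map_smulB (φ : F.obj (ModuleCat.of A A) ⟶ F'.obj (ModuleCat.of A A))
    (hφ : ∀ a : A, F.map (theta (M := ModuleCat.of A A) a) ≫ φ =
      φ ≫ F'.map (theta (M := ModuleCat.of A A) a)) (M : ModuleCat.{u} A) (b : B)
    (w : (F.obj (ModuleCat.of A A)) ⊗[A] M) :
    TensorProduct.map (phiA F F' φ hφ) (LinearMap.id : M →ₗ[A] M) (b • w) =
      b • TensorProduct.map (phiA F F' φ hφ) (LinearMap.id : M →ₗ[A] M) w := by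
  induction w using TensorProduct.induction_on with
  | zero => rw [smul_zero, map_zero, smul_zero]
  | tmul k m =>
    rw [TensorProduct.smul_tmul', TensorProduct.map_tmul, TensorProduct.map_tmul,
      TensorProduct.smul_tmul', phiA_apply, phiA_apply, map_smul]
  | add x y hx hy => rw [smul_add, map_add, hx, hy, map_add, smul_add]

/-- `φ ⊗ id` as a `B`-linear map. -/
noncomputable def mapB (φ : F.obj (ModuleCat.of A A) ⟶ F'.obj (ModuleCat.of A A))
    (hφ : ∀ a : A, F.map (theta (M := ModuleCat.of A A) a) ≫ φ =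
      φ ≫ F'.map (theta (M := ModuleCat.of A A) a)) (M : ModuleCat.{u} A) :
    (F.obj (ModuleCat.of A A)) ⊗[A] M →ₗ[B] (F'.obj (ModuleCat.of A A)) ⊗[A] M where
  toFun := TensorProduct.map (phiA F F' φ hφ) (LinearMap.id : M →ₗ[A] M)
  map_add' := map_add _
  map_smul' := map_smulB F F' φ hφ M

/-- the component of the natural transformation attached to `φ`. -/
noncomputable def tComp (bij : ∀ M, Function.Bijective (tAdd F M))
    (φ : F.obj (ModuleCat.of A A) ⟶ F'.obj (ModuleCat.of A A))
    (hφ : ∀ a : A, F.map (theta (M := ModuleCat.of A A) a) ≫ φ =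
      φ ≫ F'.map (theta (M := ModuleCat.of A A) a)) (M : ModuleCat.{u} A) :
    F.obj M ⟶ F'.obj M :=
  ModuleCat.ofHom ((tLin F' M) ∘ₗ (mapB F F' φ hφ M) ∘ₗ
    (LinearEquiv.ofBijective (tLin F M) (bij M)).symm.toLinearMap)

lemma tComp_tAdd (bij : ∀ M, Function.Bijective (tAdd F M))
    (φ : F.obj (ModuleCat.of A A) ⟶ F'.obj (ModuleCat.of A A))
    (hφ : ∀ a : A, F.map (theta (M := ModuleCat.of A A) a) ≫ φ =
      φ ≫ F'.map (theta (M := ModuleCat.of A A) a)) (M : ModuleCat.{u} A)
    (w : (F.obj (ModuleCat.of A A)) ⊗[A] M) :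
    (tComp F F' bij φ hφ M).hom (tAdd F M w) =
      tAdd F' M (TensorProduct.map (phiA F F' φ hφ) (LinearMap.id : M →ₗ[A] M) w) := by
  show tAdd F' M (TensorProduct.map (phiA F F' φ hφ) (LinearMap.id : M →ₗ[A] M)
    ((LinearEquiv.ofBijective (tLin F M) (bij M)).symm (tAdd F M w))) = _
  have e : (LinearEquiv.ofBijective (tLin F M) (bij M)).symm (tAdd F M w) = w :=
    (LinearEquiv.ofBijective (tLin F M) (bij M)).symm_apply_apply w
  rw [e]

lemma tComp_naturality (bij : ∀ M, Function.Bijective (tAdd F M))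
    (φ : F.obj (ModuleCat.of A A) ⟶ F'.obj (ModuleCat.of A A))
    (hφ : ∀ a : A, F.map (theta (M := ModuleCat.of A A) a) ≫ φ =
      φ ≫ F'.map (theta (M := ModuleCat.of A A) a)) {M N : ModuleCat.{u} A} (g : M ⟶ N) :
    F.map g ≫ tComp F F' bij φ hφ N = tComp F F' bij φ hφ M ≫ F'.map g := by
  apply ModuleCat.hom_ext
  apply LinearMap.ext
  intro z
  obtain ⟨w, rfl⟩ := (bij M).2 z
  show (tComp F F' bij φ hφ N).hom ((F.map g).hom (tAdd F M w)) =
    (F'.map g).hom ((tComp F F' bij φ hφ M).hom (tAdd F M w))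
  rw [tAdd_nat, tComp_tAdd, tComp_tAdd, tAdd_nat]
  congr 1
  induction w using TensorProduct.induction_on with
  | zero => simp only [map_zero]
  | tmul k m => rfl
  | add x y hx hy => simp only [map_add, hx, hy]

/-- the natural transformation attached to `φ`. -/
noncomputable def tNat (bij : ∀ M, Function.Bijective (tAdd F M))
    (φ : F.obj (ModuleCat.of A A) ⟶ F'.obj (ModuleCat.of A A))
    (hφ : ∀ a : A, F.map (theta (M := ModuleCat.of A A) a) ≫ φ =
      φ ≫ F'.map (theta (M := ModuleCat.of A A) a)) : F ⟶ F' where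
  app := tComp F F' bij φ hφ
  naturality := fun _ _ g => tComp_naturality F F' bij φ hφ g

lemma tComp_self (bij : ∀ M, Function.Bijective (tAdd F M))
    (φ : F.obj (ModuleCat.of A A) ⟶ F'.obj (ModuleCat.of A A))
    (hφ : ∀ a : A, F.map (theta (M := ModuleCat.of A A) a) ≫ φ =
      φ ≫ F'.map (theta (M := ModuleCat.of A A) a)) :
    tComp F F' bij φ hφ (ModuleCat.of A A) = φ := by
  apply ModuleCat.hom_ext
  apply LinearMap.ext
  intro k
  have hk : tAdd F (ModuleCat.of A A) (k ⊗ₜ[A] (1 : A)) = k := by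
    rw [tAdd_tmul, theta_one, F.map_id]
    rfl
  have h1 := tComp_tAdd F F' bij φ hφ (ModuleCat.of A A) (k ⊗ₜ[A] (1 : A))
  rw [hk] at h1
  rw [h1, TensorProduct.map_tmul, LinearMap.id_apply, tAdd_tmul, theta_one, F'.map_id]
  rfl

end ex

theorem main6769
    (R : Type u) [CommRing R] (A B : Type u) [CommRing A] [CommRing B] [Algebra R A] [Algebra R B]
    (F F' : ModuleCat.{u} A ⥤ ModuleCat.{u} B) [F.Additive] [F.Linear R] [F'.Additive] [F'.Linear R]
    [PreservesFiniteColimits F] [∀ J : Type u, PreservesColimitsOfShape (Discrete J) F]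
    [PreservesFiniteColimits F'] [∀ J : Type u, PreservesColimitsOfShape (Discrete J) F'] :
    (∃ (K : Type u) (_ : AddCommGroup K) (_ : Module A K) (_ : Module B K) (_ : SMulCommClass A B K),
      (∀ (r : R) (x : K), algebraMap R A r • x = algebraMap R B r • x) ∧
      ∃ η : ∀ M : ModuleCat.{u} A, (K ⊗[A] M) ≃ₗ[B] F.obj M,
        ∀ (M N : ModuleCat.{u} A) (f : M ⟶ N) (x : K ⊗[A] M),
          η N (LinearMap.lTensor K f.hom x) = F.map f (η M x)) ∧
    (∀ t t' : F ⟶ F', t.app (ModuleCat.of A A) = t'.app (ModuleCat.of A A) → t = t') ∧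
    (∀ φ : F.obj (ModuleCat.of A A) ⟶ F'.obj (ModuleCat.of A A),
      (∃ t : F ⟶ F', t.app (ModuleCat.of A A) = φ) ↔
        ∀ a : A, F.map (a • 𝟙 (ModuleCat.of A A)) ≫ φ = φ ≫ F'.map (a • 𝟙 (ModuleCat.of A A))) := by
  have bij := tAdd_bij F inferInstance
  refine ⟨⟨F.obj (ModuleCat.of A A), inferInstance, instModA F, inferInstance, instSMulComm F, ?_,
    fun M => LinearEquiv.ofBijective (tLin F M) (bij M), fun M N f x => (tAdd_nat F f x).symm⟩,
    fun t t' h => nat_ext F F' inferInstance t t' h, fun φ => ⟨?_, fun hφ => ?_⟩⟩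
  · intro r x
    exact part_i F r x
  · rintro ⟨t, rfl⟩ a
    exact t.naturality (a • 𝟙 (ModuleCat.of A A))
  · have hφ' : ∀ a : A, F.map (theta (M := ModuleCat.of A A) a) ≫ φ =
        φ ≫ F'.map (theta (M := ModuleCat.of A A) a) := by
      intro a
      rw [theta_eq_smul_id]
      exact hφ a
    exact ⟨tNat F F' bij φ hφ', tComp_self F F' bij φ hφ'⟩

end Groth.Agent.Lib.EWattsABH4
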