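import Mathlib
import Groth.Prelude

set_option autoImplicit false
set_option linter.style.haveILetI false

universe u

open CategoryTheory TensorProduct MonoidalCategory

namespace Groth.Agent.Lib.EWattsH4

variable (K : Type u) [Field K]

/-- The map `K → V`, `1 ↦ v`, as a morphism of `FGModuleCat K`. -/
noncomputable def fv (V : FGModuleCat.{u} K) (v : V) : FGModuleCat.of K K ⟶ V :=
  ObjectProperty.homMk (ModuleCat.ofHom (LinearMap.toSpanSingleton K V v))

lemma fv_add (V : FGModuleCat.{u} K) (v w : V) : fv K V (v + w) = fv K V v + fv K V w := by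
  apply FGModuleCat.hom_ext
  apply LinearMap.ext_ring
  show (1 : K) • (v + w) = (1 : K) • v + (1 : K) • w
  rw [smul_add]

lemma fv_smul (V : FGModuleCat.{u} K) (c : K) (v : V) : fv K V (c • v) = c • fv K V v := by
  apply FGModuleCat.hom_ext
  apply LinearMap.ext_ring
  show (1 : K) • (c • v) = c • ((1 : K) • v)
  rw [smul_comm]

lemma fv_comp (V W : FGModuleCat.{u} K) (g : V ⟶ W) (v : V) :
    fv K V v ≫ g = fv K W (g.hom.hom v) := by
  apply FGModuleCat.hom_ext
  apply LinearMap.ext_ring
  show g.hom.hom ((1 : K) • v) = (1 : K) • g.hom.hom v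
  rw [map_smul]

variable (L : FGModuleCat.{u} K ⥤ ModuleCat.{u} K) [L.Additive] [Functor.Linear K L]

/-- The bilinear map `(x, v) ↦ L(f_v)(x)`. -/
noncomputable def B (V : FGModuleCat.{u} K) :
    (L.obj (FGModuleCat.of K K)) →ₗ[K] V →ₗ[K] (L.obj V) :=
  LinearMap.mk₂ K (fun x v => (L.map (fv K V v)).hom x)
    (fun x y v => map_add _ x y)
    (fun c x v => map_smul _ c x)
    (fun x v w => by
      show (L.map (fv K V (v + w))).hom x = (L.map (fv K V v)).hom x + (L.map (fv K V w)).hom x
      rw [fv_add, Functor.map_add]; rfl)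
    (fun c x v => by
      show (L.map (fv K V (c • v))).hom x = c • (L.map (fv K V v)).hom x
      rw [fv_smul, Functor.map_smul]; rfl)

lemma B_apply (V : FGModuleCat.{u} K) (x : L.obj (FGModuleCat.of K K)) (v : V) :
    B K L V x v = (L.map (fv K V v)).hom x := rfl

/-- The comparison map `L(K) ⊗ V → L(V)`. -/
noncomputable def eta (V : FGModuleCat.{u} K) :
    ((L.obj (FGModuleCat.of K K) : Type u) ⊗[K] (V : Type u)) →ₗ[K] (L.obj V) :=
  TensorProduct.lift (B K L V)

lemma eta_tmul (V : FGModuleCat.{u} K) (x : L.obj (FGModuleCat.of K K)) (v : V) :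
    eta K L V (x ⊗ₜ[K] v) = (L.map (fv K V v)).hom x := rfl

lemma eta_natural (V W : FGModuleCat.{u} K) (g : V ⟶ W) :
    (eta K L W).comp (g.hom.hom.lTensor (L.obj (FGModuleCat.of K K)))
      = ((L.map g).hom).comp (eta K L V) := by
  apply TensorProduct.ext'
  intro x v
  show eta K L W (x ⊗ₜ[K] g.hom.hom v) = (L.map g).hom (eta K L V (x ⊗ₜ[K] v))
  rw [eta_tmul, eta_tmul, ← fv_comp, Functor.map_comp]
  rfl

section bij

variable (V : FGModuleCat.{u} K)

/-- coordinate projections -/
noncomputable def pr {n : ℕ} (b : Module.Basis (Fin n) K V) (i : Fin n) :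
    V ⟶ FGModuleCat.of K K :=
  ObjectProperty.homMk (ModuleCat.ofHom (b.coord i))

lemma sum_pr_fv {n : ℕ} (b : Module.Basis (Fin n) K V) :
    ∑ i, pr K V b i ≫ fv K V (b i) = 𝟙 V := by
  apply FGModuleCat.hom_ext
  apply LinearMap.ext
  intro v
  have h1 : (∑ i, pr K V b i ≫ fv K V (b i)).hom.hom v
      = ∑ i, (pr K V b i ≫ fv K V (b i)).hom.hom v := by
    have h2 : ∀ (s : Finset (Fin n)), (∑ i ∈ s, pr K V b i ≫ fv K V (b i)).hom.hom v
        = ∑ i ∈ s, (pr K V b i ≫ fv K V (b i)).hom.hom v := by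
      intro s
      induction s using Finset.induction_on with
      | empty => simp only [Finset.sum_empty]; rfl
      | insert a s ha ih =>
        rw [Finset.sum_insert ha, Finset.sum_insert ha, ← ih]; rfl
    exact h2 Finset.univ
  rw [h1]
  show ∑ i, (b.coord i v) • b i = v
  exact b.sum_repr v

lemma fv_pr {n : ℕ} (b : Module.Basis (Fin n) K V) (i : Fin n) (v : V) :
    fv K V v ≫ pr K V b i = (b.coord i v) • 𝟙 (FGModuleCat.of K K) := by
  apply FGModuleCat.hom_ext
  apply LinearMap.ext_ring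
  show b.coord i ((1 : K) • v) = (b.coord i v) • (1 : K)
  rw [one_smul, smul_eq_mul, mul_one]

lemma eta_surjective : Function.Surjective (eta K L V) := by
  intro y
  let b := Module.finBasis K V
  refine ⟨∑ i, (L.map (pr K V b i)).hom y ⊗ₜ[K] b i, ?_⟩
  rw [map_sum]
  have h1 : ∀ i, eta K L V ((L.map (pr K V b i)).hom y ⊗ₜ[K] b i)
      = (L.map (pr K V b i ≫ fv K V (b i))).hom y := by
    intro i
    rw [eta_tmul, Functor.map_comp]; rfl
  rw [Finset.sum_congr rfl (fun i _ => h1 i)]
  have h2 : (L.map (∑ i, pr K V b i ≫ fv K V (b i))).hom y = y := by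
    rw [sum_pr_fv, L.map_id]; rfl
  rw [Functor.map_sum, ModuleCat.hom_sum, LinearMap.sum_apply] at h2
  exact h2

/-- the inverse map -/
noncomputable def zeta {n : ℕ} (b : Module.Basis (Fin n) K V) :
    (L.obj V) →ₗ[K] ((L.obj (FGModuleCat.of K K) : Type u) ⊗[K] (V : Type u)) :=
  ∑ i, ((TensorProduct.mk K (L.obj (FGModuleCat.of K K)) V).flip (b i)).comp
    (L.map (pr K V b i)).hom

lemma zeta_eta {n : ℕ} (b : Module.Basis (Fin n) K V) :
    (zeta K L V b).comp (eta K L V) = LinearMap.id := by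
  apply TensorProduct.ext'
  intro x v
  show zeta K L V b (eta K L V (x ⊗ₜ[K] v)) = x ⊗ₜ[K] v
  rw [eta_tmul, zeta, LinearMap.sum_apply]
  have h1 : ∀ i, (((TensorProduct.mk K (L.obj (FGModuleCat.of K K)) V).flip (b i)).comp
      (L.map (pr K V b i)).hom) ((L.map (fv K V v)).hom x) = x ⊗ₜ[K] ((b.coord i v) • b i) := by
    intro i
    show ((L.map (pr K V b i)).hom ((L.map (fv K V v)).hom x)) ⊗ₜ[K] b i = _
    have h2 : (L.map (pr K V b i)).hom ((L.map (fv K V v)).hom x) = (b.coord i v) • x := by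
      have h3 : (L.map (fv K V v ≫ pr K V b i)).hom x = (b.coord i v) • x := by
        rw [fv_pr, Functor.map_smul, L.map_id]; rfl
      rw [Functor.map_comp] at h3
      exact h3
    rw [h2, TensorProduct.smul_tmul]
  rw [Finset.sum_congr rfl (fun i _ => h1 i), ← TensorProduct.tmul_sum]
  congr 1
  exact b.sum_repr v

lemma eta_injective : Function.Injective (eta K L V) := by
  have h := zeta_eta K L V (Module.finBasis K V)
  intro a a' haa
  have h1 := congrArg (zeta K L V (Module.finBasis K V)) haa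
  have h2 : ∀ z, zeta K L V (Module.finBasis K V) (eta K L V z) = z := fun z =>
    LinearMap.congr_fun h z
  rw [h2, h2] at h1
  exact h1

end bij

/-- The natural transformation `L(K) ⊗ - ⟶ L`. -/
noncomputable def etaNat :
    ((ModuleCat.isFG.{u} K).ι ⋙ MonoidalCategory.tensorLeft (L.obj (FGModuleCat.of K K))) ⟶ L where
  app V := ModuleCat.ofHom (eta K L V)
  naturality V W g := by
    apply ModuleCat.hom_ext
    exact eta_natural K L V W g

instance (V : FGModuleCat.{u} K) : IsIso ((etaNat K L).app V) := by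
  rw [ConcreteCategory.isIso_iff_bijective]
  exact ⟨eta_injective K L V, eta_surjective K L V⟩

theorem main12754 :
    Nonempty (L ≅ (ModuleCat.isFG.{u} K).ι ⋙
      MonoidalCategory.tensorLeft (L.obj (FGModuleCat.of K K))) := by
  haveI : IsIso (etaNat K L) := NatIso.isIso_of_isIso_app _
  exact ⟨(asIso (etaNat K L)).symm⟩

end Groth.Agent.Lib.EWattsH4
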