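import Mathlib
import Groth.Agent.Lib.FPMod_lead

/-! # Eilenberg–Watts, essential surjectivity on f.p. modules (lead) -/

set_option autoImplicit false
set_option linter.unusedSimpArgs false
set_option linter.unusedVariables false
set_option linter.unusedSectionVars false
set_option linter.style.longLine false
set_option linter.unnecessarySimpa false
set_option maxHeartbeats 1600000
set_option backward.isDefEq.respectTransparency false
set_option backward.isDefEq.respectTransparency.types false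
set_option backward.defeqAttrib.useBackward true

universe u v' u'

open CategoryTheory CategoryTheory.Limits

namespace Groth.Agent.Lib.EWes

open Groth.Agent.Lib.FPMod

variable {A : Type u} [CommRing A] {B : Type u'} [Category.{v'} B] [Preadditive B] {K : B}
variable (κ : A →+* End K)

theorem κ_one_comp {Z : B} (g : K ⟶ Z) : κ 1 ≫ g = g := by
  rw [map_one]
  exact Category.id_comp g

theorem κ_zero_comp {Z : B} (g : K ⟶ Z) : κ 0 ≫ g = 0 := by
  rw [map_zero]
  exact zero_comp

theorem κ_add_comp {Z : B} (a b : A) (g : K ⟶ Z) : κ (a + b) ≫ g = κ a ≫ g + κ b ≫ g := by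
  rw [map_add]
  exact Preadditive.add_comp _ _ _ _ _ _

theorem κ_mul (a b : A) : (κ (a * b) : K ⟶ K) = κ a ≫ κ b := by
  rw [mul_comm, map_mul]
  rfl

theorem κ_mul_comp {Z : B} (a b : A) (g : K ⟶ Z) : κ (a * b) ≫ g = κ a ≫ κ b ≫ g := by
  rw [κ_mul]
  exact Category.assoc _ _ _

/-- `κ`-linear families of morphisms out of `K` -/
structure IsLin {M : Type u} [AddCommGroup M] [Module A M] {Z : B} (h : M → (K ⟶ Z)) : Prop where
  add : ∀ x y, h (x + y) = h x + h y
  smul : ∀ (a : A) x, h (a • x) = κ a ≫ h x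

namespace IsLin

variable {κ}
variable {M : Type u} [AddCommGroup M] [Module A M] {Z : B} {h : M → (K ⟶ Z)}

theorem zero (hh : IsLin κ h) : h 0 = 0 := by
  have : h 0 + h 0 = h 0 + 0 := by rw [← hh.add, add_zero, add_zero]
  exact add_left_cancel this

theorem sub (hh : IsLin κ h) (x y : M) : h (x - y) = h x - h y :=
  (AddMonoidHom.mk' h hh.add).map_sub x y

theorem sum (hh : IsLin κ h) {ι : Type*} (s : Finset ι) (f : ι → M) :
    h (∑ i ∈ s, f i) = ∑ i ∈ s, h (f i) :=
  map_sum (AddMonoidHom.mk' h hh.add) f s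

theorem comp_lin (hh : IsLin κ h) {N : Type u} [AddCommGroup N] [Module A N] (l : N →ₗ[A] M) :
    IsLin κ (fun y => h (l y)) :=
  ⟨fun x y => by
      show h (l (x + y)) = h (l x) + h (l y)
      rw [map_add, hh.add],
    fun a x => by
      show h (l (a • x)) = κ a ≫ h (l x)
      rw [map_smul, hh.smul]⟩

theorem comp_hom (hh : IsLin κ h) {Z' : B} (g : Z ⟶ Z') : IsLin κ (fun x => h x ≫ g) :=
  ⟨fun x y => by
      show h (x + y) ≫ g = h x ≫ g + h y ≫ g
      rw [hh.add, Preadditive.add_comp],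
    fun a x => by
      show h (a • x) ≫ g = κ a ≫ h x ≫ g
      rw [hh.smul, Category.assoc]⟩

end IsLin

theorem descend {N M : Type u} [AddCommGroup N] [Module A N] [AddCommGroup M] [Module A M]
    (π : N →ₗ[A] M) (hπ : Function.Surjective π) {Z : B} (h : N → (K ⟶ Z)) (hh : IsLin κ h)
    (hker : ∀ y, π y = 0 → h y = 0) :
    ∃ h' : M → (K ⟶ Z), IsLin κ h' ∧ ∀ y, h' (π y) = h y := by
  have key : ∀ y y', π y = π y' → h y = h y' := by
    intro y y' e
    have := hker (y - y') (by rw [map_sub, e, sub_self])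
    rw [hh.sub, sub_eq_zero] at this
    exact this
  refine ⟨fun z => h (Function.surjInv hπ z), ⟨fun z z' => ?_, fun a z => ?_⟩, fun y => ?_⟩
  · show h (Function.surjInv hπ (z + z')) = h (Function.surjInv hπ z) + h (Function.surjInv hπ z')
    rw [← hh.add]
    apply key
    rw [map_add, Function.surjInv_eq hπ, Function.surjInv_eq hπ, Function.surjInv_eq hπ]
  · show h (Function.surjInv hπ (a • z)) = κ a ≫ h (Function.surjInv hπ z)
    rw [← hh.smul]
    apply key
    rw [map_smul, Function.surjInv_eq hπ, Function.surjInv_eq hπ]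
  · exact key _ _ (Function.surjInv_eq hπ _)

/-- a corepresenting object for `κ`-linear families on `M` ("`K ⊗_A M`") -/
structure TData (M : Type u) [AddCommGroup M] [Module A M] where
  obj : B
  η : M → (K ⟶ obj)
  lin : IsLin κ η
  desc : ∀ {Z : B} (h : M → (K ⟶ Z)), IsLin κ h → (obj ⟶ Z)
  fac : ∀ {Z : B} (h : M → (K ⟶ Z)) (hh : IsLin κ h) (x : M), η x ≫ desc h hh = h x
  uniq : ∀ {Z : B} (g g' : obj ⟶ Z), (∀ x, η x ≫ g = η x ≫ g') → g = g'

section free

variable [HasFiniteBiproducts B]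

/-- basis vectors -/
def ev (n : ℕ) (i : Fin n) : Fin n → A := fun j => if i = j then 1 else 0

noncomputable def freeη (n : ℕ) (v : Fin n → A) : K ⟶ ⨁ (fun _ : Fin n => K) :=
  ∑ i, κ (v i) ≫ biproduct.ι (fun _ : Fin n => K) i

theorem freeη_lin (n : ℕ) : IsLin κ (freeη κ n) :=
  ⟨fun v w => by
      unfold freeη
      rw [← Finset.sum_add_distrib]
      refine Finset.sum_congr rfl (fun i _ => ?_)
      show κ (v i + w i) ≫ _ = _
      exact κ_add_comp κ _ _ _,
    fun a v => by
      unfold freeη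
      rw [Preadditive.comp_sum]
      refine Finset.sum_congr rfl (fun i _ => ?_)
      show κ (a * v i) ≫ _ = _
      exact κ_mul_comp κ _ _ _⟩

theorem freeη_ev (n : ℕ) (i : Fin n) :
    freeη κ n (ev n i) = biproduct.ι (fun _ : Fin n => K) i := by
  unfold freeη
  rw [Finset.sum_eq_single i]
  · show κ (if i = i then 1 else 0) ≫ _ = _
    rw [if_pos rfl]
    exact κ_one_comp κ _
  · intro j _ hj
    show κ (if i = j then 1 else 0) ≫ _ = 0
    rw [if_neg (Ne.symm hj)]
    exact κ_zero_comp κ _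
  · intro h
    exact absurd (Finset.mem_univ i) h

noncomputable def freeData (n : ℕ) : TData κ (Fin n → A) where
  obj := ⨁ (fun _ : Fin n => K)
  η := freeη κ n
  lin := freeη_lin κ n
  desc h _ := biproduct.desc (fun i => h (ev n i))
  fac h hh v := by
    show freeη κ n v ≫ biproduct.desc (fun i => h (ev n i)) = h v
    have e : v = ∑ i, v i • ev n i := pi_eq_sum_univ v
    conv_rhs => rw [e, hh.sum]
    unfold freeη
    rw [Preadditive.sum_comp]
    refine Finset.sum_congr rfl (fun i _ => ?_)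
    rw [Category.assoc, biproduct.ι_desc, hh.smul]
  uniq g g' H := by
    apply biproduct.hom_ext'
    intro i
    have := H (ev n i)
    rw [freeη_ev] at this
    exact this

end free

section coker

variable [HasCokernels B]

theorem exists_cokerData {P N M : Type u} [AddCommGroup P] [Module A P] [AddCommGroup N]
    [Module A N] [AddCommGroup M] [Module A M] (dP : TData κ P) (dN : TData κ N)
    (ρ : P →ₗ[A] N) (π : N →ₗ[A] M) (hπ : Function.Surjective π) (hex : Function.Exact ρ π) :
    Nonempty (TData κ M) := by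
  have l1 : IsLin κ (fun x => dN.η (ρ x)) := dN.lin.comp_lin ρ
  obtain ⟨r, hr⟩ : ∃ r : dP.obj ⟶ dN.obj, ∀ x, dP.η x ≫ r = dN.η (ρ x) :=
    ⟨dP.desc _ l1, fun x => dP.fac _ l1 x⟩
  have l2 : IsLin κ (fun y => dN.η y ≫ cokernel.π r) := dN.lin.comp_hom (cokernel.π r)
  obtain ⟨η, hη, hηπ⟩ := descend κ π hπ _ l2 (by
    intro y hy
    obtain ⟨x, rfl⟩ := (hex y).1 hy
    show dN.η (ρ x) ≫ cokernel.π r = 0
    rw [← hr, Category.assoc, cokernel.condition, comp_zero])
  have hηπ' : ∀ y, η (π y) = dN.η y ≫ cokernel.π r := hηπ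
  have hw : ∀ {Z : B} (h : M → (K ⟶ Z)) (hh : IsLin κ h),
      r ≫ dN.desc _ (hh.comp_lin π) = 0 := by
    intro Z h hh
    apply dP.uniq
    intro x
    rw [comp_zero, ← Category.assoc, hr, dN.fac]
    show h (π (ρ x)) = 0
    rw [hex.apply_apply_eq_zero, hh.zero]
  exact ⟨{ obj := cokernel r
           η := η
           lin := hη
           desc := fun h hh => cokernel.desc r (dN.desc _ (hh.comp_lin π)) (hw h hh)
           fac := fun h hh z => by
             obtain ⟨y, rfl⟩ := hπ z
             rw [hηπ', Category.assoc, cokernel.π_desc, dN.fac]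
           uniq := fun g g' H => by
             rw [← cancel_epi (cokernel.π r)]
             apply dN.uniq
             intro y
             rw [← Category.assoc, ← Category.assoc, ← hηπ']
             exact H (π y) }⟩

end coker

section functor

variable [HasFiniteBiproducts B] [HasCokernels B]

theorem exists_tdata (M : Type u) [AddCommGroup M] [Module A M] [Module.FinitePresentation A M] :
    Nonempty (TData κ M) := by
  obtain ⟨n, m, p, ρ, hp, hex⟩ := Module.FinitePresentation.exists_fin' A M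
  exact exists_cokerData κ (freeData κ m) (freeData κ n) ρ p hp hex

/-- chosen corepresenting data -/
noncomputable def td (M : FP A) : TData κ M.obj := (exists_tdata κ M.obj).some

theorem lin_map {M N : FP A} (f : M ⟶ N) : IsLin κ (fun x => (td κ N).η (lin f x)) :=
  (td κ N).lin.comp_lin (lin f)

/-- action on morphisms -/
noncomputable def mapF {M N : FP A} (f : M ⟶ N) : (td κ M).obj ⟶ (td κ N).obj :=
  (td κ M).desc _ (lin_map κ f)

theorem η_mapF {M N : FP A} (f : M ⟶ N) (x : M.obj) :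
    (td κ M).η x ≫ mapF κ f = (td κ N).η (lin f x) :=
  (td κ M).fac _ (lin_map κ f) x

theorem mapF_id (M : FP A) : mapF κ (𝟙 M) = 𝟙 _ :=
  (td κ M).uniq _ _ (fun x => (η_mapF κ (𝟙 M) x).trans (Category.comp_id _).symm)

theorem mapF_comp {M N P : FP A} (f : M ⟶ N) (g : N ⟶ P) :
    mapF κ (f ≫ g) = mapF κ f ≫ mapF κ g :=
  (td κ M).uniq _ _ (fun x => by
    calc (td κ M).η x ≫ mapF κ (f ≫ g) = (td κ P).η (lin g (lin f x)) := η_mapF κ (f ≫ g) x
      _ = (td κ N).η (lin f x) ≫ mapF κ g := (η_mapF κ g _).symm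
      _ = ((td κ M).η x ≫ mapF κ f) ≫ mapF κ g := by rw [η_mapF κ f x]
      _ = (td κ M).η x ≫ mapF κ f ≫ mapF κ g := Category.assoc _ _ _)

theorem mapF_zero (M N : FP A) : mapF κ (0 : M ⟶ N) = 0 := by
  apply (td κ M).uniq
  intro x
  rw [η_mapF, comp_zero]
  exact (td κ N).lin.zero

/-- the functor `K ⊗_A -` -/
noncomputable def F₀ : FP A ⥤ B where
  obj M := (td κ M).obj
  map f := mapF κ f
  map_id M := mapF_id κ M
  map_comp f g := mapF_comp κ f g

instance : (F₀ κ).PreservesZeroMorphisms := ⟨fun M N => mapF_zero κ M N⟩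

theorem isColimit_mapF {P N M : FP A} (f : P ⟶ N) (p : N ⟶ M)
    (hp : Function.Surjective (lin p)) (hex : Function.Exact (lin f) (lin p))
    (w' : mapF κ f ≫ mapF κ p = 0) :
    Nonempty (IsColimit (CokernelCofork.ofπ (mapF κ p) w')) := by
  have key : ∀ {Z : B} (g : (td κ N).obj ⟶ Z) (hg : mapF κ f ≫ g = 0),
      ∃ d : (td κ M).obj ⟶ Z, mapF κ p ≫ d = g := by
    intro Z g hg
    have l : IsLin κ (fun y => (td κ N).η y ≫ g) := (td κ N).lin.comp_hom g
    obtain ⟨h', hh', e'⟩ := descend κ (lin p) hp _ l (by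
      intro y hy
      obtain ⟨x, rfl⟩ := (hex y).1 hy
      show (td κ N).η (lin f x) ≫ g = 0
      rw [← η_mapF, Category.assoc, hg, comp_zero])
    have e'' : ∀ y, h' (lin p y) = (td κ N).η y ≫ g := e'
    refine ⟨(td κ M).desc h' hh', ?_⟩
    apply (td κ N).uniq
    intro y
    rw [← Category.assoc, η_mapF, (td κ M).fac, e'']
  have epi : ∀ {Z : B} (m m' : (td κ M).obj ⟶ Z), mapF κ p ≫ m = mapF κ p ≫ m' → m = m' := by
    intro Z m m' e
    apply (td κ M).uniq
    intro z
    obtain ⟨y, rfl⟩ := hp z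
    rw [← η_mapF, Category.assoc, Category.assoc, e]
  exact ⟨CokernelCofork.IsColimit.ofπ _ _
    (fun {Z} g hg => (key g hg).choose)
    (fun {Z} g hg => (key g hg).choose_spec)
    (fun {Z} g hg m hm => epi _ _ (hm.trans (key g hg).choose_spec.symm))⟩

theorem preservesCokernel {M N : FP A} (f : M ⟶ N) :
    PreservesColimit (parallelPair f 0) (F₀ κ) := by
  obtain ⟨hc⟩ := isColimitCoker f
  have w' : mapF κ f ≫ mapF κ (cokerπ f) = 0 := by
    rw [← mapF_comp, comp_cokerπ, mapF_zero]
  obtain ⟨hc'⟩ := isColimit_mapF κ f (cokerπ f) (cokerπ_surjective f) (cokerπ_exact f) w'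
  exact preservesColimit_of_preserves_colimit_cocone hc
    ((isColimitMapCoconeCoforkEquiv' (F₀ κ) (comp_cokerπ f)).symm hc')

theorem κ_lin : IsLin κ (M := (AA A).obj) (fun a : A => (κ a : K ⟶ K)) :=
  ⟨fun a b => map_add κ a b, fun a b => κ_mul κ a b⟩

theorem e_hom_inv : (td κ (AA A)).desc _ (κ_lin κ) ≫ (td κ (AA A)).η (1 : A) =
    𝟙 (td κ (AA A)).obj := by
  apply (td κ (AA A)).uniq
  intro (a : A)
  rw [← Category.assoc, (td κ (AA A)).fac, Category.comp_id]
  show κ a ≫ (td κ (AA A)).η (1 : A) = (td κ (AA A)).η a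
  rw [← (td κ (AA A)).lin.smul]
  show (td κ (AA A)).η (a * 1) = _
  rw [mul_one]

theorem e_inv_hom : (td κ (AA A)).η (1 : A) ≫ (td κ (AA A)).desc _ (κ_lin κ) = 𝟙 K := by
  rw [(td κ (AA A)).fac]
  exact map_one κ

/-- `K ⊗_A A ≅ K` -/
noncomputable def eIso : (F₀ κ).obj (AA A) ≅ K where
  hom := (td κ (AA A)).desc _ (κ_lin κ)
  inv := (td κ (AA A)).η (1 : A)
  hom_inv_id := e_hom_inv κ
  inv_hom_id := e_inv_hom κ

theorem equivariant (a : A) :
    (F₀ κ).map (mulBy a) ≫ (eIso κ).hom = (eIso κ).hom ≫ κ a := by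
  apply (td κ (AA A)).uniq
  intro (b : A)
  have h1 : (td κ (AA A)).η b ≫ (F₀ κ).map (mulBy a) = (td κ (AA A)).η (a * b) :=
    η_mapF κ (mulBy a) b
  have h2 : ∀ c : A, (td κ (AA A)).η c ≫ (eIso κ).hom = κ c :=
    fun c => (td κ (AA A)).fac _ (κ_lin κ) c
  rw [reassoc_of% h1, h2, reassoc_of% (h2 b), mul_comm]
  exact κ_mul κ b a

end functor

theorem main (A : Type u) [CommRing A] {B : Type u'} [Category.{v'} B] [Preadditive B]
    [HasFiniteBiproducts B] [HasCokernels B] (K : B) (κ : A →+* End K) :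
    ∃ (F : FP A ⥤ B) (_ : PreservesFiniteColimits F) (e : F.obj (AA A) ≅ K),
      ∀ a : A, F.map (mulBy a) ≫ e.hom = e.hom ≫ κ a := by
  haveI : ∀ {X Y : FP A} (f : X ⟶ Y), PreservesColimit (parallelPair f 0) (F₀ κ) :=
    fun f => preservesCokernel κ f
  exact ⟨F₀ κ, Functor.preservesFiniteColimits_of_preservesCokernels (F₀ κ), eIso κ,
    equivariant κ⟩

end Groth.Agent.Lib.EWes
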