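import Mathlib

/-!
# Eakin–Nagata (Formanek's proof)

If `A` is a Noetherian ring which is a finite module over a subring `B` (more generally any ring
map `B → A` making `A` a finite `B`-module), then `A` is a Noetherian `B`-module; in particular if
`B → A` is injective then `B` is a Noetherian ring.
-/

set_option autoImplicit false

namespace Groth.Agent.Lib.EakinNagataH6

variable {B : Type*} [CommRing B]

/-- Formanek's key lemma: a finite module `M` such that for every scalar `a` not killing `M`
every submodule containing `a M` is finitely generated, is Noetherian. -/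
theorem isNoetherian_of_forall_fg {M : Type*} [AddCommGroup M] [Module B M] [Module.Finite B M]
    (hb : ∀ a : B, a ∉ Module.annihilator B M →
      ∀ N : Submodule B M, (∀ m : M, a • m ∈ N) → N.FG) :
    IsNoetherian B M := by
  classical
  obtain ⟨S, hS⟩ := (Module.Finite.fg_top (R := B) (M := M))
  -- if `a s ∈ N` for the generators then `a m ∈ N` for all `m`
  have hgen : ∀ (N : Submodule B M) (a : B), (∀ s ∈ S, a • s ∈ N) → ∀ m : M, a • m ∈ N := by
    intro N a h m
    have hm : m ∈ Submodule.span B (S : Set M) := by rw [hS]; trivial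
    induction hm using Submodule.span_induction with
    | mem x hx => exact h x hx
    | zero => simp
    | add x y _ _ hx hy => rw [smul_add]; exact N.add_mem hx hy
    | smul c x _ hx => rw [smul_comm]; exact N.smul_mem c hx
  let Γ : Set (Submodule B M) :=
    {N | ∀ a : B, (∀ m : M, a • m ∈ N) → a ∈ Module.annihilator B M}
  have hbot : (⊥ : Submodule B M) ∈ Γ := by
    intro a ha
    rw [Module.mem_annihilator]
    intro m
    simpa using ha m
  obtain ⟨N₀, -, hN₀⟩ := zorn_le_nonempty₀ Γ (by
    intro c hcΓ hc y hy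
    refine ⟨sSup c, ?_, fun z hz => le_sSup hz⟩
    intro a ha
    have hdir : DirectedOn (· ≤ ·) c := hc.directedOn
    have key : ∀ T : Finset M, (∀ t ∈ T, a • t ∈ sSup c) → ∃ N ∈ c, ∀ t ∈ T, a • t ∈ N := by
      intro T
      induction T using Finset.induction_on with
      | empty => intro _; exact ⟨y, hy, by simp⟩
      | insert x T hxT ih =>
        intro h
        obtain ⟨N₁, hN₁c, hN₁⟩ := ih (fun t ht => h t (Finset.mem_insert_of_mem ht))
        have hx := h x (Finset.mem_insert_self x T)
        rw [Submodule.mem_sSup_of_directed ⟨y, hy⟩ hdir] at hx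
        obtain ⟨N₂, hN₂c, hN₂⟩ := hx
        rcases hc.total hN₁c hN₂c with h12 | h21
        · refine ⟨N₂, hN₂c, fun t ht => ?_⟩
          rcases Finset.mem_insert.mp ht with rfl | ht
          · exact hN₂
          · exact h12 (hN₁ t ht)
        · refine ⟨N₁, hN₁c, fun t ht => ?_⟩
          rcases Finset.mem_insert.mp ht with rfl | ht
          · exact h21 hN₂
          · exact hN₁ t ht
    obtain ⟨N, hNc, hN⟩ := key S (fun t _ => ha t)
    exact hcΓ hNc a (hgen N a hN)) ⊥ hbot
  have hN₀Γ : N₀ ∈ Γ := hN₀.1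
  -- Claim 2: `M ⧸ N₀` is Noetherian
  have h2 : IsNoetherian B (M ⧸ N₀) := by
    rw [isNoetherian_def]
    intro N
    by_cases hN : N = ⊥
    · rw [hN]; exact Submodule.fg_bot
    have hle : N₀ ≤ N.comap N₀.mkQ := by
      intro x hx
      rw [Submodule.mem_comap]
      have : N₀.mkQ x = 0 := by simpa using hx
      rw [this]; exact N.zero_mem
    have hmap : (N.comap N₀.mkQ).map N₀.mkQ = N :=
      Submodule.map_comap_eq_of_surjective N₀.mkQ_surjective N
    have hnot : N.comap N₀.mkQ ∉ Γ := by
      intro hmem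
      have hle' : N.comap N₀.mkQ ≤ N₀ := hN₀.2 hmem hle
      apply hN
      rw [← hmap, eq_bot_iff]
      rintro _ ⟨x, hx, rfl⟩
      have : x ∈ N₀ := hle' hx
      simpa using this
    simp only [Γ, Set.mem_setOf_eq, not_forall] at hnot
    obtain ⟨a, ha, haJ⟩ := hnot
    have hfg := hb a haJ _ ha
    rw [← hmap]
    exact hfg.map _
  -- Claim 1: hence `M` is Noetherian
  let ψ : B →ₗ[B] (S → M ⧸ N₀) :=
    LinearMap.pi fun s => LinearMap.toSpanSingleton B (M ⧸ N₀) (N₀.mkQ (s : M))
  have hker : ∀ b : B, b ∈ LinearMap.ker ψ → b ∈ Module.annihilator B M := by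
    intro b hbk
    apply hN₀Γ b
    apply hgen N₀ b
    intro s hs
    have := congrFun (LinearMap.mem_ker.mp hbk) ⟨s, hs⟩
    simp only [ψ, LinearMap.pi_apply, LinearMap.toSpanSingleton_apply, Pi.zero_apply] at this
    rw [← map_smul, Submodule.mkQ_apply, Submodule.Quotient.mk_eq_zero] at this
    exact this
  have h3 : IsNoetherian B (B ⧸ LinearMap.ker ψ) :=
    isNoetherian_of_linearEquiv (LinearMap.quotKerEquivRange ψ).symm
  let τ : S → ((B ⧸ LinearMap.ker ψ) →ₗ[B] M) := fun s =>
    Submodule.liftQ (LinearMap.ker ψ) (LinearMap.toSpanSingleton B M (s : M)) (by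
      intro b hbk
      have := hker b hbk
      rw [Module.mem_annihilator] at this
      rw [LinearMap.mem_ker, LinearMap.toSpanSingleton_apply]
      exact this _)
  let ρ : (S → B ⧸ LinearMap.ker ψ) →ₗ[B] M := ∑ s : S, (τ s) ∘ₗ (LinearMap.proj s)
  have hρ : Function.Surjective ρ := by
    rw [← LinearMap.range_eq_top, eq_top_iff, ← hS, Submodule.span_le]
    intro s hs
    refine ⟨Pi.single (⟨s, hs⟩ : S) ((LinearMap.ker ψ).mkQ 1), ?_⟩
    simp only [ρ, LinearMap.sum_apply, LinearMap.comp_apply, LinearMap.proj_apply]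
    rw [Finset.sum_eq_single (⟨s, hs⟩ : S)]
    · simp only [Pi.single_eq_same, τ]
      have h1 : ((LinearMap.ker ψ).mkQ (1 : B)) = Submodule.Quotient.mk (1 : B) := rfl
      rw [h1, Submodule.liftQ_apply, LinearMap.toSpanSingleton_apply, one_smul]
    · intro t _ hts
      rw [Pi.single_eq_of_ne hts, map_zero]
    · intro h; exact absurd (Finset.mem_univ _) h
  exact isNoetherian_of_surjective ρ (LinearMap.range_eq_top.mpr hρ)

variable (B) in
/-- **Eakin–Nagata**: a Noetherian ring `A` which is a finite module over `B` is a Noetherian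
`B`-module. -/
theorem isNoetherian_of_finite (A : Type*) [CommRing A] [Algebra B A] [Module.Finite B A]
    [IsNoetherianRing A] : IsNoetherian B A := by
  classical
  by_contra hcon
  let 𝒯 : Set (Ideal A) :=
    {K | (∃ I : Ideal B, K = I.map (algebraMap B A)) ∧ ¬ IsNoetherian B (A ⧸ K)}
  have hbot : (⊥ : Ideal A) ∈ 𝒯 := by
    refine ⟨⟨⊥, by simp⟩, fun h => hcon ?_⟩
    refine isNoetherian_of_injective ((Submodule.mkQ (⊥ : Ideal A)).restrictScalars B) ?_
    intro x y hxy
    have h1 : Submodule.Quotient.mk (p := (⊥ : Ideal A)) x = Submodule.Quotient.mk y := hxy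
    rw [Submodule.Quotient.eq] at h1
    exact sub_eq_zero.mp (by simpa using h1)
  obtain ⟨K₀, hK₀, hmax⟩ := (wellFounded_gt (α := Ideal A)).has_min 𝒯 ⟨⊥, hbot⟩
  obtain ⟨⟨I₀, rfl⟩, hnot⟩ := hK₀
  apply hnot
  apply isNoetherian_of_forall_fg
  intro a ha N hN
  let K₁ : Ideal A := (I₀ ⊔ Ideal.span {a}).map (algebraMap B A)
  have hle : I₀.map (algebraMap B A) ≤ K₁ := Ideal.map_mono le_sup_left
  have haK₁ : algebraMap B A a ∈ K₁ :=
    Ideal.mem_map_of_mem _ (Ideal.mem_sup_right (Ideal.mem_span_singleton_self a))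
  have hsmul : ∀ (K : Ideal A) (x : A), a • (Ideal.Quotient.mk K x) =
      Ideal.Quotient.mk K (algebraMap B A a * x) := by
    intro K x
    rw [map_mul, Algebra.smul_def]
    rfl
  have hne : K₁ ≠ I₀.map (algebraMap B A) := by
    intro h
    apply ha
    rw [Module.mem_annihilator]
    intro m
    obtain ⟨x, rfl⟩ := Ideal.Quotient.mk_surjective m
    rw [hsmul, Ideal.Quotient.eq_zero_iff_mem]
    exact Ideal.mul_mem_right _ _ (h ▸ haK₁)
  have hK₁ : IsNoetherian B (A ⧸ K₁) := by
    by_contra h
    exact hmax K₁ ⟨⟨_, rfl⟩, h⟩ (lt_of_le_of_ne hle (Ne.symm hne))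
  let f : (A ⧸ I₀.map (algebraMap B A)) →ₗ[B] (A ⧸ K₁) :=
    (Ideal.Quotient.factorₐ B hle).toLinearMap
  have hker : LinearMap.ker f = Submodule.map (LinearMap.lsmul B _ a) ⊤ := by
    ext m
    obtain ⟨y, rfl⟩ := Ideal.Quotient.mk_surjective m
    constructor
    · intro hy
      have hy' : Ideal.Quotient.mk K₁ y = 0 := hy
      rw [Ideal.Quotient.eq_zero_iff_mem] at hy'
      have hy'' : y ∈ I₀.map (algebraMap B A) ⊔ Ideal.span {algebraMap B A a} := by
        have : K₁ = I₀.map (algebraMap B A) ⊔ Ideal.span {algebraMap B A a} := by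
          simp only [K₁, Ideal.map_sup, Ideal.map_span, Set.image_singleton]
        rw [← this]; exact hy'
      rw [Submodule.mem_sup] at hy''
      obtain ⟨k, hk, z, hz, rfl⟩ := hy''
      rw [Ideal.mem_span_singleton'] at hz
      obtain ⟨w, rfl⟩ := hz
      refine ⟨Ideal.Quotient.mk _ w, trivial, ?_⟩
      rw [LinearMap.lsmul_apply, hsmul, map_add, (Ideal.Quotient.eq_zero_iff_mem).mpr hk, zero_add,
        mul_comm]
    · rintro ⟨m', -, hm'⟩
      obtain ⟨z, rfl⟩ := Ideal.Quotient.mk_surjective m'
      rw [LinearMap.lsmul_apply, hsmul] at hm'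
      rw [← hm']
      show Ideal.Quotient.mk K₁ (algebraMap B A a * z) = 0
      rw [Ideal.Quotient.eq_zero_iff_mem]
      exact Ideal.mul_mem_right _ _ haK₁
  apply Submodule.fg_of_fg_map_of_fg_inf_ker f
  · exact IsNoetherian.noetherian _
  · have h1 : N ⊓ LinearMap.ker f = LinearMap.ker f := by
      apply inf_eq_right.mpr
      rw [hker]
      rintro _ ⟨m, -, rfl⟩
      exact hN m
    rw [h1, hker]
    exact (Module.Finite.fg_top).map _

variable (B) in
/-- **Eakin–Nagata**, ring form: if the Noetherian ring `A` is a finite module over `B` and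
`B → A` is injective, then `B` is a Noetherian ring. -/
theorem isNoetherianRing_of_finite (A : Type*) [CommRing A] [Algebra B A] [Module.Finite B A]
    [IsNoetherianRing A] (hinj : Function.Injective (algebraMap B A)) : IsNoetherianRing B := by
  have h := isNoetherian_of_finite B A
  exact isNoetherian_of_injective (Algebra.linearMap B A) hinj

end Groth.Agent.Lib.EakinNagataH6
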