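import Mathlib
import Groth.Prelude.Def_EssDim

set_option autoImplicit false
set_option linter.unusedSimpArgs false
set_option linter.unusedVariables false
set_option linter.unusedSectionVars false
set_option linter.style.longLine false
set_option linter.unnecessarySimpa false
set_option maxHeartbeats 1600000

universe w u

open CategoryTheory Opposite AlgebraicGeometry Cardinal

namespace Groth.Agent.Lib.EdBC19741

/-- The transcendence degree of a compositum `K·F` over `K` is at most that of `F` over `k`. -/
theorem trdeg_compositum_le {k K L : Type u} [Field k] [Field K] [Field L] [Algebra k K]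
    [Algebra K L] [Algebra k L] [IsScalarTower k K L] (F : IntermediateField k L) :
    Algebra.trdeg K (IntermediateField.adjoin K (F : Set L)) ≤ Algebra.trdeg k F := by
  classical
  obtain ⟨s, hs⟩ := exists_isTranscendenceBasis k F
  rw [← hs.cardinalMk_eq_trdeg]
  have hFF' : ∀ x : F, (x : L) ∈ IntermediateField.adjoin K (F : Set L) :=
    fun x => IntermediateField.subset_adjoin K _ x.2
  let j : F →+* IntermediateField.adjoin K (F : Set L) :=
    { toFun := fun x => ⟨x, hFF' x⟩
      map_one' := rfl
      map_mul' := fun _ _ => rfl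
      map_zero' := rfl
      map_add' := fun _ _ => rfl }
  let s₁ : Set (IntermediateField.adjoin K (F : Set L)) := j '' s
  let A₁ : Subalgebra K (IntermediateField.adjoin K (F : Set L)) := Algebra.adjoin K s₁
  let R₀ : Subalgebra k F := Algebra.adjoin k (Set.range ((↑) : s → F))
  have hR₀ : Algebra.IsAlgebraic R₀ F := hs.isAlgebraic
  have hjR : ∀ a : F, a ∈ R₀ → j a ∈ A₁ := by
    intro a ha
    induction ha using Algebra.adjoin_induction with
    | mem x hx =>
      obtain ⟨t, rfl⟩ := hx
      exact Algebra.subset_adjoin ⟨t, t.2, rfl⟩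
    | algebraMap c =>
      have : j (algebraMap k F c) =
          algebraMap K (IntermediateField.adjoin K (F : Set L)) (algebraMap k K c) := by
        apply Subtype.ext
        show algebraMap k L c = algebraMap K L (algebraMap k K c)
        exact IsScalarTower.algebraMap_apply k K L c
      rw [this]
      exact Subalgebra.algebraMap_mem _ _
    | add x y _ _ hx hy => rw [map_add]; exact add_mem hx hy
    | mul x y _ _ hx hy => rw [map_mul]; exact mul_mem hx hy
  let f : R₀ →+* A₁ := (j.comp (algebraMap R₀ F)).codRestrict A₁ (fun a => hjR a a.2)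
  have hf : Function.Injective f := by
    intro a b h
    have h' := congrArg (fun z : A₁ => ((z : IntermediateField.adjoin K (F : Set L)) : L)) h
    exact Subtype.ext (Subtype.ext h')
  have hcomm : (algebraMap A₁ (IntermediateField.adjoin K (F : Set L))).comp f =
      j.comp (algebraMap R₀ F) := RingHom.ext fun a => rfl
  have halg : Algebra.IsAlgebraic A₁ (IntermediateField.adjoin K (F : Set L)) := by
    refine ⟨fun y => ?_⟩
    obtain ⟨y, hy⟩ := y
    induction hy using IntermediateField.adjoin_induction with
    | mem x hx =>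
      exact (hR₀.isAlgebraic ⟨x, hx⟩).ringHom_of_comp_eq f j hf hcomm
    | algebraMap c =>
      exact isAlgebraic_algebraMap (R := A₁) (A := IntermediateField.adjoin K (F : Set L))
        (algebraMap K A₁ c)
    | add x y hx hy hx' hy' => exact hx'.add hy'
    | inv x hx hx' => exact hx'.inv
    | mul x y hx hy hx' hy' => exact hx'.mul hy'
  exact (Algebra.IsAlgebraic.trdeg_le_cardinalMk K s₁).trans Cardinal.mk_image_le

open EssDim

section

variable {k K : Type u} [Field k] [Field K] [Algebra k K]

/-- `Spec L` over `Spec K` pushed down to `Spec k` is `Spec L` over `Spec k`. -/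
noncomputable def θ (M : Type u) [Field M] [Algebra K M] [Algebra k M] [IsScalarTower k K M] :
    (Over.map (Spec.map (CommRingCat.ofHom (algebraMap k K)))).obj (SGA7.pt (K := K) M) ≅
      SGA7.pt (K := k) M :=
  Over.isoMk (Iso.refl _) (by
    rw [Over.map_obj_hom]
    change 𝟙 _ ≫ Spec.map _ = Spec.map _ ≫ Spec.map _
    rw [Category.id_comp, ← Spec.map_comp, ← CommRingCat.ofHom_comp,
      ← IsScalarTower.algebraMap_eq])

theorem θ_nat {M N : Type u} [Field M] [Algebra K M] [Algebra k M] [IsScalarTower k K M]
    [Field N] [Algebra K N] [Algebra k N] [IsScalarTower k K N] (g : M →ₐ[K] N) :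
    (Over.map (Spec.map (CommRingCat.ofHom (algebraMap k K)))).map (resPt (k := K) g) ≫
        (θ (k := k) (K := K) M).hom =
      (θ (k := k) (K := K) N).hom ≫ resPt (k := k) (g.restrictScalars k) := by
  apply Over.OverMorphism.ext
  simp only [Over.comp_left, Over.map_map_left, resPt_left, θ, Over.isoMk_hom_left, Iso.refl_hom,
    Category.comp_id, Category.id_comp]
  rfl

theorem edAt_baseChange_le (P : (Over (Spec (CommRingCat.of k)))ᵒᵖ ⥤ Type w) (L : Type u)
    [Field L] [Algebra K L] [Algebra k L] [IsScalarTower k K L]
    (ξ : FPt (k := K) ((Over.map (Spec.map (CommRingCat.ofHom (algebraMap k K)))).op ⋙ P) L) :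
    edAt (k := K) ((Over.map (Spec.map (CommRingCat.ofHom (algebraMap k K)))).op ⋙ P) ξ ≤
      edAt (k := k) P (P.map (θ (k := k) (K := K) L).inv.op ξ) := by
  refine le_iInf fun ⟨F, hF⟩ => ?_
  obtain ⟨ξ₀, hξ₀⟩ := hF
  let jF : F →ₐ[k] IntermediateField.adjoin K (F : Set L) :=
    { toFun := fun x => ⟨x.1, IntermediateField.subset_adjoin K _ x.2⟩
      map_one' := rfl
      map_mul' := fun _ _ => rfl
      map_zero' := rfl
      map_add' := fun _ _ => rfl
      commutes' := fun c => Subtype.ext rfl }
  have hcomp : ((IntermediateField.adjoin K (F : Set L)).val.restrictScalars k).comp jF = F.val :=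
    AlgHom.ext fun x => rfl
  have hm : (Over.map (Spec.map (CommRingCat.ofHom (algebraMap k K)))).map
        (resPt (k := K) (IntermediateField.adjoin K (F : Set L)).val) ≫
        (θ (k := k) (K := K) (IntermediateField.adjoin K (F : Set L))).hom ≫
          resPt (k := k) jF =
      (θ (k := k) (K := K) L).hom ≫ resPt (k := k) F.val := by
    rw [← Category.assoc, θ_nat, Category.assoc, ← resPt_comp, hcomp]
  have hdesc : Descends (k := K)
      ((Over.map (Spec.map (CommRingCat.ofHom (algebraMap k K)))).op ⋙ P) ξ
      (IntermediateField.adjoin K (F : Set L)) := by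
    refine ⟨P.map (θ (k := k) (K := K) (IntermediateField.adjoin K (F : Set L))).hom.op
      (P.map (resPt (k := k) jF).op ξ₀), ?_⟩
    have hξ : ξ = P.map (θ (k := k) (K := K) L).hom.op
        (P.map (θ (k := k) (K := K) L).inv.op ξ) := by
      rw [← FunctorToTypes.map_comp_apply, ← op_comp, Iso.hom_inv_id, op_id,
        FunctorToTypes.map_id_apply]
    rw [hξ, ← hξ₀]
    show P.map ((Over.map (Spec.map (CommRingCat.ofHom (algebraMap k K)))).map
          (resPt (k := K) (IntermediateField.adjoin K (F : Set L)).val)).op
        (P.map (θ (k := k) (K := K) (IntermediateField.adjoin K (F : Set L))).hom.op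
          (P.map (resPt (k := k) jF).op ξ₀)) =
      P.map (θ (k := k) (K := K) L).hom.op (P.map (resPt (k := k) F.val).op ξ₀)
    have h1 : P.map ((Over.map (Spec.map (CommRingCat.ofHom (algebraMap k K)))).map
          (resPt (k := K) (IntermediateField.adjoin K (F : Set L)).val)).op
        (P.map (θ (k := k) (K := K) (IntermediateField.adjoin K (F : Set L))).hom.op
          (P.map (resPt (k := k) jF).op ξ₀)) =
        P.map ((Over.map (Spec.map (CommRingCat.ofHom (algebraMap k K)))).map
          (resPt (k := K) (IntermediateField.adjoin K (F : Set L)).val) ≫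
          (θ (k := k) (K := K) (IntermediateField.adjoin K (F : Set L))).hom ≫
            resPt (k := k) jF).op ξ₀ := by
      simp only [op_comp, FunctorToTypes.map_comp_apply]
    have h2 : P.map (θ (k := k) (K := K) L).hom.op (P.map (resPt (k := k) F.val).op ξ₀) =
        P.map ((θ (k := k) (K := K) L).hom ≫ resPt (k := k) F.val).op ξ₀ := by
      simp only [op_comp, FunctorToTypes.map_comp_apply]
    rw [h1, h2, hm]
  exact (edAt_le_of_descends hdesc).trans
    (OrderHomClass.mono Cardinal.toENat (trdeg_compositum_le F))

end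

theorem ed_le {k : Type u} [Field k] (P : (Over (Spec (CommRingCat.of k)))ᵒᵖ ⥤ Type w)
    (b : WithBot ℕ∞)
    (h : ∀ (L : Type u) [Field L] [Algebra k L] (ξ : FPt P L), (edAt P ξ : WithBot ℕ∞) ≤ b) :
    ed P ≤ b := by
  unfold EssDim.ed
  exact iSup_le fun L => iSup_le fun _ => iSup_le fun _ => iSup_le fun ξ => h L ξ

theorem main19741 (k : Type u) [Field k] (K : Type u) [Field K] [Algebra k K]
    (P : (Over (Spec (CommRingCat.of k)))ᵒᵖ ⥤ Type w) :
    EssDim.ed (k := K) ((Over.map (Spec.map (CommRingCat.ofHom (algebraMap k K)))).op ⋙ P) ≤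
      EssDim.ed P := by
  refine ed_le _ _ ?_
  intro L _ _ ξ
  letI : Algebra k L := ((algebraMap K L).comp (algebraMap k K)).toAlgebra
  haveI : IsScalarTower k K L := IsScalarTower.of_algebraMap_eq (fun _ => rfl)
  exact (WithBot.coe_le_coe.mpr (edAt_baseChange_le (k := k) (K := K) P L ξ)).trans
    (edAt_le_ed _)

end Groth.Agent.Lib.EdBC19741
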