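import Mathlib
import Groth.Prelude.Def_RDer

set_option autoImplicit false
set_option linter.unusedSimpArgs false
set_option linter.unusedVariables false
set_option linter.unusedSectionVars false
set_option linter.style.longLine false
set_option linter.unnecessarySimpa false
set_option maxHeartbeats 1600000
set_option backward.isDefEq.respectTransparency false
set_option backward.isDefEq.respectTransparency.types false
set_option backward.defeqAttrib.useBackward true

/-!
# The first edge map `R^q Ψ (Φ X) ⟶ R^q (Φ ⋙ Ψ) X` is an isomorphism when `X` is `Φ`-acyclic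
-/

universe v₁ v₂ v₃ u₁ u₂ u₃

open CategoryTheory CategoryTheory.Limits HomologicalComplex

noncomputable section

namespace Groth.Agent.Lib.EdgeInIso

variable {A : Type u₁} [Category.{v₁} A] [Abelian A]
  {B : Type u₂} [Category.{v₂} B] [Abelian B]
  {C : Type u₃} [Category.{v₃} C] [Abelian C]

/-- The isomorphism `(single₀ (Φ X))^0 ≅ Φ ((single₀ X)^0)`. -/
def augIso (Φ : A ⥤ B) [Φ.Additive] (X : A) :
    ((CochainComplex.single₀ B).obj (Φ.obj X)).X 0 ≅ Φ.obj (((CochainComplex.single₀ A).obj X).X 0) :=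
  (HomologicalComplex.eval B (ComplexShape.up ℕ) 0).mapIso
    (((HomologicalComplex.singleMapHomologicalComplex Φ (ComplexShape.up ℕ) 0).app X).symm)

lemma mapAug_f_zero (Φ : A ⥤ B) [Φ.Additive] {X : A} {I : CochainComplex A ℕ}
    (ι : (CochainComplex.single₀ A).obj X ⟶ I) :
    (RDer.mapAug Φ ι).f 0 = (augIso Φ X).hom ≫ Φ.map (ι.f 0) := rfl

section
variable [HasInjectiveResolutions A]

/-- If `Φ` is left exact and `X` is `Φ`-acyclic, then `Φ I` is a resolution of `Φ X`. -/
lemma quasiIso_mapAug (Φ : A ⥤ B) [Φ.Additive] [PreservesFiniteLimits Φ] {X : A}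
    (I : InjectiveResolution X) (h : ∀ n : ℕ, IsZero ((Φ.rightDerived (n + 1)).obj X)) :
    QuasiIso (RDer.mapAug Φ I.ι) := by
  refine ⟨fun n => ?_⟩
  cases n with
  | zero =>
    rw [CochainComplex.quasiIsoAt₀_iff, ShortComplex.quasiIso_iff_of_zeros]
    · have hker : IsLimit (I.kernelFork.map Φ) := KernelFork.mapIsLimit _ I.isLimitKernelFork Φ
      have hmono : Mono (Φ.map (I.ι.f 0)) := by
        have := mono_of_isLimit_fork hker
        exact this
      let T : ShortComplex B := ShortComplex.mk (Φ.map (I.ι.f 0)) (Φ.map (I.cocomplex.d 0 1))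
        (by rw [← Φ.map_comp, I.ι_f_zero_comp_complex_d, Φ.map_zero])
      have hT : T.Exact := ShortComplex.exact_of_f_is_kernel T hker
      refine (ShortComplex.exact_and_mono_f_iff_of_iso (S₂ := T) ?_).2 ⟨hT, hmono⟩
      refine ShortComplex.isoMk (augIso Φ X) (Iso.refl _) (Iso.refl _) ?_ ?_
      · dsimp [T]
        rw [Category.comp_id]
        rfl
      · dsimp [T]
        rw [Category.id_comp, Category.comp_id]
    · rfl
    · rfl
    · dsimp
      rw [I.cocomplex.shape 0 0 (by simp), Φ.map_zero]
  | succ n =>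
    rw [quasiIsoAt_iff_exactAt]
    · rw [exactAt_iff_isZero_homology]
      exact IsZero.of_iso (h n) (I.isoRightDerivedObj Φ (n + 1)).symm
    · apply CochainComplex.exactAt_succ_single_obj

/-- `Φ I` as an injective resolution of `Φ X`. -/
def resΦ (Φ : A ⥤ B) [Φ.Additive] [Φ.PreservesInjectiveObjects] [PreservesFiniteLimits Φ] {X : A}
    (I : InjectiveResolution X) (h : ∀ n : ℕ, IsZero ((Φ.rightDerived (n + 1)).obj X)) :
    InjectiveResolution (Φ.obj X) where
  cocomplex := (Φ.mapHomologicalComplex _).obj I.cocomplex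
  injective := fun n => Φ.injective_obj (I.cocomplex.X n)
  ι := RDer.mapAug Φ I.ι
  quasiIso := quasiIso_mapAug Φ I h

/-- The comparison `J ⟶ Φ I` induces isomorphisms on the homology of `Ψ (-)`. -/
theorem isIso_homologyMap_desc (Φ : A ⥤ B) [Φ.Additive] [Φ.PreservesInjectiveObjects]
    [PreservesFiniteLimits Φ] (Ψ : B ⥤ C) [Ψ.Additive] {X : A}
    (I : InjectiveResolution X) (J : InjectiveResolution (Φ.obj X))
    (h : ∀ n : ℕ, IsZero ((Φ.rightDerived (n + 1)).obj X)) (q : ℕ) :
    IsIso ((HomologicalComplex.homologyFunctor C _ q).map ((Ψ.mapHomologicalComplex _).map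
      (RDer.descToInjectives (𝟙 (Φ.obj X)) J.cocomplex J.ι
        ((Φ.mapHomologicalComplex _).obj I.cocomplex) (RDer.mapAug Φ I.ι)))) := by
  set I' : InjectiveResolution (Φ.obj X) := resΦ Φ I h with hI'
  let d : J.cocomplex ⟶ I'.cocomplex :=
    RDer.descToInjectives (𝟙 (Φ.obj X)) J.cocomplex J.ι
      ((Φ.mapHomologicalComplex _).obj I.cocomplex) (RDer.mapAug Φ I.ι)
  let e : I'.cocomplex ⟶ J.cocomplex := InjectiveResolution.desc (𝟙 (Φ.obj X)) J I'
  have hd : J.ι ≫ d = I'.ι := by
    apply HomologicalComplex.from_single_hom_ext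
    rw [HomologicalComplex.comp_f]
    have := RDer.ι_descToInjectives_f_zero (𝟙 (Φ.obj X)) J.cocomplex J.ι
      ((Φ.mapHomologicalComplex _).obj I.cocomplex) (RDer.mapAug Φ I.ι)
    rw [Category.id_comp] at this
    exact this
  have he : I'.ι ≫ e = J.ι := by
    have := InjectiveResolution.desc_commutes (𝟙 (Φ.obj X)) J I'
    rw [CategoryTheory.Functor.map_id, Category.id_comp] at this
    exact this
  have h1 : Homotopy (d ≫ e) (𝟙 J.cocomplex) := by
    apply InjectiveResolution.descHomotopy (𝟙 (Φ.obj X))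
    · rw [← Category.assoc, hd, he, CategoryTheory.Functor.map_id, Category.id_comp]
    · rw [Category.comp_id, CategoryTheory.Functor.map_id, Category.id_comp]
  have h2 : Homotopy (e ≫ d) (𝟙 I'.cocomplex) := by
    apply InjectiveResolution.descHomotopy (𝟙 (Φ.obj X))
    · rw [← Category.assoc, he, hd, CategoryTheory.Functor.map_id, Category.id_comp]
    · rw [Category.comp_id, CategoryTheory.Functor.map_id, Category.id_comp]
  refine ⟨⟨(HomologicalComplex.homologyFunctor C _ q).map ((Ψ.mapHomologicalComplex _).map e), ?_, ?_⟩⟩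
  · rw [← Functor.map_comp, ← Functor.map_comp]
    have := (Ψ.mapHomotopy h1).homologyMap_eq q
    rw [homologyFunctor_map]
    change homologyMap ((Ψ.mapHomologicalComplex _).map (d ≫ e)) q = _
    rw [this, CategoryTheory.Functor.map_id, homologyMap_id]
    rfl
  · rw [← Functor.map_comp, ← Functor.map_comp]
    have := (Ψ.mapHomotopy h2).homologyMap_eq q
    rw [homologyFunctor_map]
    change homologyMap ((Ψ.mapHomologicalComplex _).map (e ≫ d)) q = _
    rw [this, CategoryTheory.Functor.map_id, homologyMap_id]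
    rfl

variable [HasInjectiveResolutions B]

/-- The first edge map is an isomorphism at a `Φ`-acyclic object (for left exact `Φ` preserving injectives). -/
theorem isIso_edgeIn (Φ : A ⥤ B) [Φ.Additive] [Φ.PreservesInjectiveObjects]
    [PreservesFiniteLimits Φ] (Ψ : B ⥤ C) [Ψ.Additive] (X : A)
    (h : ∀ n : ℕ, IsZero ((Φ.rightDerived (n + 1)).obj X)) (q : ℕ) :
    IsIso (RDer.edgeIn Φ Ψ q X) := by
  haveI := isIso_homologyMap_desc Φ Ψ (injectiveResolution X) (injectiveResolution (Φ.obj X)) h q
  unfold RDer.edgeIn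
  infer_instance

end

end Groth.Agent.Lib.EdgeInIso
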