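import Mathlib
import Groth.Agent.Lib.EffEpi_helper8

/-!
# More on universal effective epimorphisms and kernel pairs (helper8)
-/

set_option autoImplicit false

open CategoryTheory Limits

namespace Groth.Agent.Lib.EffEpiH8

universe v₁ u₁
variable {C : Type u₁} [Category.{v₁} C]

/-- If `π` is a universal epimorphism coequalizing `p₁, p₂`, and `(p₁, p₂)` is the kernel pair of
`π ≫ g`, then `g` is a monomorphism. -/
theorem mono_of_isKernelPair_comp [HasPullbacks C] {R X B Z : C} {p₁ p₂ : R ⟶ X} (π : X ⟶ B)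
    (hπ : MorphismProperty.universally (MorphismProperty.epimorphisms C) π)
    (hw : p₁ ≫ π = p₂ ≫ π) (g : B ⟶ Z) (hk : IsKernelPair (π ≫ g) p₁ p₂) : Mono g := by
  constructor
  intro T a b hab
  have h1 : Epi (pullback.fst a π) := hπ _ _ _ (IsPullback.of_hasPullback a π)
  have h2 : Epi (pullback.fst (pullback.fst a π ≫ b) π) :=
    hπ _ _ _ (IsPullback.of_hasPullback (pullback.fst a π ≫ b) π)
  have c1 : pullback.fst a π ≫ a = pullback.snd a π ≫ π := pullback.condition
  have c2 : pullback.fst (pullback.fst a π ≫ b) π ≫ pullback.fst a π ≫ b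
      = pullback.snd (pullback.fst a π ≫ b) π ≫ π := pullback.condition
  have hf : (pullback.fst (pullback.fst a π ≫ b) π ≫ pullback.snd a π) ≫ π ≫ g
      = pullback.snd (pullback.fst a π ≫ b) π ≫ π ≫ g := by
    rw [Category.assoc, ← reassoc_of% c1, hab, ← reassoc_of% c2]
  have key : pullback.fst (pullback.fst a π ≫ b) π ≫ pullback.fst a π ≫ a
      = pullback.fst (pullback.fst a π ≫ b) π ≫ pullback.fst a π ≫ b := by
    rw [c2, c1]
    have l1 := hk.lift_fst _ _ hf
    have l2 := hk.lift_snd _ _ hf
    rw [← l2, ← reassoc_of% l1, hw, Category.assoc]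
  exact (cancel_epi _).mp ((cancel_epi _).mp key)

end Groth.Agent.Lib.EffEpiH8
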