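import Mathlib

set_option autoImplicit false
universe u

namespace LocSurjH8

open IsLocalRing

variable {A B : Type u} [CommRing A] [IsLocalRing A] [CommRing B] [Nontrivial B] [Algebra A B]

/-- If `J` and `m_A B` lie in the Jacobson radical of `B` and `A → B/J` is surjective,
then `B` is local. -/
theorem isLocalRing_of_surjective (J : Ideal B) (hJ : J ≤ Ideal.jacobson ⊥)
    (hsurj : ∀ b : B, ∃ a : A, b - algebraMap A B a ∈ J) : IsLocalRing B := by
  apply IsLocalRing.of_isUnit_or_isUnit_one_sub_self
  intro b
  obtain ⟨a, ha⟩ := hsurj b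
  have key : ∀ (c : B) (a' : A), IsUnit a' → c - algebraMap A B a' ∈ J → IsUnit c := by
    intro c a' ha' hc
    obtain ⟨v, hv⟩ := ha'.exists_right_inv
    have h1 : IsUnit ((c - algebraMap A B a') * algebraMap A B v + 1) :=
      (Ideal.mem_jacobson_bot.mp (hJ hc)) _
    have h2 : (c - algebraMap A B a') * algebraMap A B v + 1 = c * algebraMap A B v := by
      have : algebraMap A B a' * algebraMap A B v = 1 := by rw [← map_mul, hv, map_one]
      linear_combination -this
    rw [h2] at h1
    exact isUnit_of_mul_isUnit_left h1
  by_cases hau : IsUnit a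
  · exact Or.inl (key b a hau ha)
  · right
    have h1 : IsUnit (1 - a) := by
      have : a ∈ maximalIdeal A := (mem_maximalIdeal a).mpr hau
      exact IsLocalRing.isUnit_one_sub_self_of_mem_nonunits a this
    refine key (1 - b) (1 - a) h1 ?_
    have : 1 - b - algebraMap A B (1 - a) = -(b - algebraMap A B a) := by
      rw [map_sub, map_one]; ring
    rw [this]
    exact J.neg_mem ha

/-- In the situation above the maximal ideal of `B` is `J + m_A B`. -/
theorem maximalIdeal_eq [IsLocalRing B] (J : Ideal B) (hJ : J ≤ maximalIdeal B)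
    (hm : (maximalIdeal A).map (algebraMap A B) ≤ maximalIdeal B)
    (hsurj : ∀ b : B, ∃ a : A, b - algebraMap A B a ∈ J) :
    maximalIdeal B = J ⊔ (maximalIdeal A).map (algebraMap A B) := by
  apply le_antisymm
  · intro b hb
    obtain ⟨a, ha⟩ := hsurj b
    have ha' : a ∈ maximalIdeal A := by
      rw [mem_maximalIdeal]
      intro hau
      have h1 : algebraMap A B a ∈ maximalIdeal B := by
        have : algebraMap A B a = b - (b - algebraMap A B a) := by ring
        rw [this]
        exact (maximalIdeal B).sub_mem hb (hJ ha)
      exact (mem_maximalIdeal _).mp h1 (hau.map (algebraMap A B))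
    have : b = (b - algebraMap A B a) + algebraMap A B a := by ring
    rw [this]
    exact Ideal.add_mem _ (Ideal.mem_sup_left ha)
      (Ideal.mem_sup_right (Ideal.mem_map_of_mem _ ha'))
  · exact sup_le hJ hm

end LocSurjH8
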