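import Mathlib
import Groth.Agent.Lib.LocSurj1_helper8

set_option autoImplicit false
universe u

namespace EisExtH8

open IsLocalRing Polynomial

section core

variable {A : Type u} [CommRing A] [IsDomain A] [IsDiscreteValuationRing A] {L : Type u} [Field L]
  [Algebra A L] (π : A) (x : L) (q n : ℕ)

/-- The Eisenstein-type polynomial `X^q + π^n X - π`. -/
noncomputable def eisPoly : A[X] := X ^ q + (C (π ^ n) * X - C π)

theorem eisPoly_monic (hq : 2 ≤ q) : (eisPoly π q n).Monic := by
  unfold eisPoly
  apply monic_X_pow_add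
  refine lt_of_le_of_lt (degree_sub_le _ _) ?_
  refine max_lt ?_ ?_
  · refine lt_of_le_of_lt (degree_C_mul_X_le _) ?_
    exact_mod_cast (by omega : 1 < q)
  · refine lt_of_le_of_lt degree_C_le ?_
    exact_mod_cast (by omega : 0 < q)

theorem eisPoly_natDegree (hq : 2 ≤ q) : (eisPoly π q n).natDegree = q := by
  unfold eisPoly
  have h1 : degree (C (π ^ n) * X - C π : A[X]) < degree ((X : A[X]) ^ q) := by
    rw [degree_X_pow]
    refine lt_of_le_of_lt (degree_sub_le _ _) ?_
    refine max_lt ?_ ?_
    · refine lt_of_le_of_lt (degree_C_mul_X_le _) ?_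
      exact_mod_cast (by omega : 1 < q)
    · refine lt_of_le_of_lt degree_C_le ?_
      exact_mod_cast (by omega : 0 < q)
  rw [natDegree_add_eq_left_of_degree_lt h1, natDegree_X_pow]

theorem aeval_eisPoly : aeval x (eisPoly π q n) =
    x ^ q + (algebraMap A L π ^ n * x - algebraMap A L π) := by
  simp [eisPoly]

end core

section adjoin

variable {A : Type u} [CommRing A] [IsDomain A] [IsDiscreteValuationRing A] {L : Type u} [Field L]
  [Algebra A L] (π : A) (hπ : maximalIdeal A = Ideal.span {π}) (x : L) (q n : ℕ)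
  (hq : 2 ≤ q) (hn : 2 ≤ n) (hx : x ^ q + (algebraMap A L π ^ n * x - algebraMap A L π) = 0)

include hq hx in
theorem isIntegral_x : IsIntegral A x :=
  ⟨eisPoly π q n, eisPoly_monic π q n hq, by
    rw [← aeval_def, aeval_eisPoly]; exact hx⟩

/-- The generator as an element of `A[x]`. -/
def xt : Algebra.adjoin A {x} := ⟨x, Algebra.self_mem_adjoin_singleton A x⟩

include hq hx in
theorem finite_adjoin : Module.Finite A (Algebra.adjoin A {x}) :=
  Module.Finite.iff_fg.mpr (isIntegral_x π x q n hq hx).fg_adjoin_singleton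

include hx in
theorem xt_pow : (xt x) ^ q =
    algebraMap A (Algebra.adjoin A {x}) π - algebraMap A (Algebra.adjoin A {x}) π ^ n * xt x := by
  apply Subtype.ext
  have : x ^ q = algebraMap A L π - algebraMap A L π ^ n * x := by linear_combination hx
  simpa [xt] using this

include hq hn hx hπ in
theorem xt_mem_of_isMaximal (M : Ideal (Algebra.adjoin A {x})) (hM : M.IsMaximal) :
    xt x ∈ M ∧ (maximalIdeal A).map (algebraMap A (Algebra.adjoin A {x})) ≤ M := by
  haveI := finite_adjoin π x q n hq hx
  haveI : Algebra.IsIntegral A (Algebra.adjoin A {x}) := inferInstance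
  have h1 : (M.comap (algebraMap A (Algebra.adjoin A {x}))).IsMaximal :=
    Ideal.isMaximal_comap_of_isIntegral_of_isMaximal M
  have h2 : M.comap (algebraMap A (Algebra.adjoin A {x})) = maximalIdeal A :=
    IsLocalRing.eq_maximalIdeal h1
  have h3 : (maximalIdeal A).map (algebraMap A (Algebra.adjoin A {x})) ≤ M := by
    rw [← h2]; exact Ideal.map_comap_le
  have hπM : algebraMap A (Algebra.adjoin A {x}) π ∈ M := by
    apply h3
    apply Ideal.mem_map_of_mem
    rw [hπ]
    exact Ideal.mem_span_singleton_self π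
  refine ⟨?_, h3⟩
  have h4 : (xt x) ^ q ∈ M := by
    rw [xt_pow π x q n hx]
    exact M.sub_mem hπM (M.mul_mem_right _ (M.pow_mem_of_mem hπM n (by omega)))
  exact hM.isPrime.mem_of_pow_mem q h4

omit [IsDomain A] [IsDiscreteValuationRing A] in
theorem exists_sub_mem_span (b : Algebra.adjoin A {x}) :
    ∃ a : A, b - algebraMap A (Algebra.adjoin A {x}) a ∈ Ideal.span {xt x} := by
  have hb : (b : L) ∈ (aeval (R := A) x).range := by
    rw [← Algebra.adjoin_singleton_eq_range_aeval]; exact b.2
  obtain ⟨Q, hQ⟩ := hb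
  have hc : aeval x (divX Q) ∈ Algebra.adjoin A {x} := by
    rw [Algebra.adjoin_singleton_eq_range_aeval]; exact ⟨_, rfl⟩
  refine ⟨Q.coeff 0, ?_⟩
  rw [Ideal.mem_span_singleton']
  refine ⟨⟨aeval x (divX Q), hc⟩, ?_⟩
  apply Subtype.ext
  have h1 : aeval x Q = aeval x (divX Q) * x + algebraMap A L (Q.coeff 0) := by
    conv_lhs => rw [← divX_mul_X_add Q]
    simp
  simp only [xt, MulMemClass.coe_mul, AddSubgroupClass.coe_sub, Subalgebra.coe_algebraMap]
  rw [← hQ]
  simp only [AlgHom.toRingHom_eq_coe, RingHom.coe_coe]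
  rw [h1]
  ring

include hq hn hx hπ in
theorem span_xt_le_jacobson :
    Ideal.span {xt x} ≤ Ideal.jacobson (⊥ : Ideal (Algebra.adjoin A {x})) := by
  rw [Ideal.span_le, Set.singleton_subset_iff]
  show xt x ∈ Ideal.jacobson ⊥
  rw [Ideal.jacobson, Ideal.mem_sInf]
  rintro M ⟨-, hM⟩
  exact (xt_mem_of_isMaximal π hπ x q n hq hn hx M hM).1

include hq hn hx hπ in
theorem isLocalRing_adjoin : IsLocalRing (Algebra.adjoin A {x}) :=
  LocSurjH8.isLocalRing_of_surjective (Ideal.span {xt x})
    (span_xt_le_jacobson π hπ x q n hq hn hx) (exists_sub_mem_span x)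

include hq hn hx hπ in
theorem maximalIdeal_adjoin [IsLocalRing (Algebra.adjoin A {x})] :
    maximalIdeal (Algebra.adjoin A {x}) = Ideal.span {xt x} := by
  have hJ : Ideal.span {xt x} ≤ maximalIdeal (Algebra.adjoin A {x}) := by
    rw [Ideal.span_le, Set.singleton_subset_iff]
    exact (xt_mem_of_isMaximal π hπ x q n hq hn hx _ (maximalIdeal.isMaximal _)).1
  have hm : (maximalIdeal A).map (algebraMap A (Algebra.adjoin A {x})) ≤
      maximalIdeal (Algebra.adjoin A {x}) :=
    (xt_mem_of_isMaximal π hπ x q n hq hn hx _ (maximalIdeal.isMaximal _)).2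
  rw [LocSurjH8.maximalIdeal_eq (Ideal.span {xt x}) hJ hm (exists_sub_mem_span x)]
  apply le_antisymm
  · refine sup_le le_rfl ?_
    rw [hπ, Ideal.map_span, Set.image_singleton, Ideal.span_le, Set.singleton_subset_iff]
    show algebraMap A (Algebra.adjoin A {x}) π ∈ Ideal.span {xt x}
    have h1 : algebraMap A (Algebra.adjoin A {x}) π =
        (xt x) ^ q + algebraMap A (Algebra.adjoin A {x}) π ^ n * xt x := by
      rw [xt_pow π x q n hx]; ring
    rw [h1]
    refine Ideal.add_mem _ ?_ (Ideal.mul_mem_left _ _ (Ideal.mem_span_singleton_self _))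
    exact Ideal.pow_mem_of_mem _ (Ideal.mem_span_singleton_self _) q (by omega)
  · exact le_sup_left

include hq hn hx hπ in
theorem isDVR_adjoin (hinj : Function.Injective (algebraMap A L)) :
    IsDiscreteValuationRing (Algebra.adjoin A {x}) := by
  haveI := isLocalRing_adjoin π hπ x q n hq hn hx
  haveI := finite_adjoin π x q n hq hx
  haveI : IsNoetherianRing (Algebra.adjoin A {x}) :=
    Algebra.FiniteType.isNoetherianRing A (Algebra.adjoin A {x})
  have hmax := maximalIdeal_adjoin π hπ x q n hq hn hx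
  have hx0 : (xt x : Algebra.adjoin A {x}) ≠ 0 := by
    intro h0
    have h1 := xt_pow π x q n hx
    rw [h0, zero_pow (by omega), mul_zero, sub_zero] at h1
    have h2 : algebraMap A L π = 0 := by
      have h1' : (0 : L) = algebraMap A L π := by
        have := congrArg (Subtype.val : Algebra.adjoin A {x} → L) h1
        simpa using this
      exact h1'.symm
    have h3 : π = 0 := hinj (by rw [h2, map_zero])
    apply IsDiscreteValuationRing.not_a_field A
    rw [hπ, h3, Ideal.span_singleton_eq_bot]
  have hnf : ¬ IsField (Algebra.adjoin A {x}) := by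
    intro hf
    have h1 : (xt x : Algebra.adjoin A {x}) ∈ maximalIdeal (Algebra.adjoin A {x}) := by
      rw [hmax]; exact Ideal.mem_span_singleton_self _
    rw [mem_maximalIdeal] at h1
    obtain ⟨y, hy⟩ := hf.mul_inv_cancel hx0
    exact h1 (IsUnit.of_mul_eq_one _ hy)
  refine ((IsDiscreteValuationRing.TFAE (Algebra.adjoin A {x}) hnf).out 0 4).mpr ?_
  rw [hmax]
  exact ⟨⟨xt x, rfl⟩⟩

end adjoin

end EisExtH8
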