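import Mathlib
import Groth.Prelude.Def_EtRam
import Groth.Agent.Lib.EisExt1_helper8

set_option autoImplicit false
universe u

namespace EisExtH8

open IsLocalRing Polynomial

section gen

variable {A : Type u} [CommRing A] [IsDomain A] [IsDiscreteValuationRing A] {L : Type u} [Field L]
  [Algebra A L]

/-- A valuation subring dominating a DVR (through an injective map) is not the whole field. -/
theorem ne_top_of_dominates' (hinj : Function.Injective (algebraMap A L)) (V : ValuationSubring L)
    (h : EtRam.Dominates A (algebraMap A L) V) : V ≠ ⊤ := by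
  intro hV
  obtain ⟨a, ha, ha0⟩ := Submodule.exists_mem_ne_zero_of_ne_bot (IsDiscreteValuationRing.not_a_field A)
  have h1 := h.2 a ha
  have h2 : (algebraMap A L) a ∈ V.nonunits := (V.mem_nonunits_iff).mpr h1
  rw [V.mem_nonunits_iff_or] at h2
  rcases h2 with h2 | h2
  · exact ha0 (hinj (by rw [h2, map_zero]))
  · exact h2 (hV ▸ ValuationSubring.mem_top _)

/-- A valuation subring dominating `A` contains every element integral over `A`. -/
theorem mem_of_isIntegral_of_dominates (V : ValuationSubring L)
    (h : EtRam.Dominates A (algebraMap A L) V) {y : L} (hy : IsIntegral A y) : y ∈ V := by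
  letI : Algebra A V := (RingHom.codRestrict (algebraMap A L) V h.1).toAlgebra
  haveI : IsScalarTower A V L := IsScalarTower.of_algebraMap_eq (fun _ => rfl)
  have hy' : IsIntegral V y := hy.tower_top
  obtain ⟨z, hz⟩ := IsIntegrallyClosed.algebraMap_eq_of_integral hy'
  rw [← hz]
  exact z.2

end gen

section tot

variable {A : Type u} [CommRing A] [IsDomain A] [IsDiscreteValuationRing A] {L : Type u} [Field L]
  [Algebra A L] (π : A) (hπ : maximalIdeal A = Ideal.span {π}) (x : L) (q n : ℕ)
  (hq : 2 ≤ q) (hn : 2 ≤ n) (hx : x ^ q + (algebraMap A L π ^ n * x - algebraMap A L π) = 0)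
  (hinj : Function.Injective (algebraMap A L))
  (hfrac : ∀ y : L, ∃ a : A, a ≠ 0 ∧ algebraMap A L a * y ∈ Algebra.adjoin A {x})

include hπ hq hn hx hinj hfrac in
theorem isTotallyRamified_adjoin : EtRam.IsTotallyRamified A (algebraMap A L) := by
  haveI := isDVR_adjoin π hπ x q n hq hn hx hinj
  haveI : FaithfulSMul (Algebra.adjoin A {x}) L :=
    (faithfulSMul_iff_algebraMap_injective _ _).mpr Subtype.val_injective
  haveI : IsFractionRing (Algebra.adjoin A {x}) L := by
    apply IsFractionRing.of_field
    intro y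
    obtain ⟨a, ha0, hay⟩ := hfrac y
    refine ⟨⟨_, hay⟩, algebraMap A _ a, ?_⟩
    have h1 : algebraMap A L a ≠ 0 := fun h => ha0 (hinj (by rw [h, map_zero]))
    show y = (algebraMap A L a * y) / algebraMap A L a
    field_simp
  -- the valuation subring
  let R' : ValuationSubring L := ValuationSubring.ofSubring (Algebra.adjoin A {x}).toSubring
    (fun y => by
      rcases ValuationRing.isInteger_or_isInteger (Algebra.adjoin A {x}) y with ⟨z, hz⟩ | ⟨z, hz⟩
      · exact Or.inl (hz ▸ z.2)
      · exact Or.inr (hz ▸ z.2))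
  haveI : IsDiscreteValuationRing R' := ‹IsDiscreteValuationRing (Algebra.adjoin A {x})›
  haveI : Ring.KrullDimLE 1 R' := inferInstance
  have hxint := isIntegral_x π x q n hq hx
  -- every dominating valuation subring is R'
  have huniq : ∀ V : ValuationSubring L, EtRam.Dominates A (algebraMap A L) V → R' = V := by
    intro V hV
    have hle : R' ≤ V := by
      intro y hy
      have hy' : y ∈ Algebra.adjoin A {x} := hy
      have hyint : IsIntegral A y := by
        have h1 : Algebra.adjoin A {x} ≤ integralClosure A L :=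
          Algebra.adjoin_le (Set.singleton_subset_iff.mpr hxint)
        exact h1 hy'
      exact mem_of_isIntegral_of_dominates V hV hyint
    exact ValuationSubring.eq_of_le_of_ne_top _ hle (ne_top_of_dominates' hinj V hV)
  -- R' dominates A
  have hdomR : EtRam.Dominates A (algebraMap A L) R' := by
    refine ⟨fun a => (Algebra.adjoin A {x}).algebraMap_mem a, fun a ha => ?_⟩
    rw [← ValuationSubring.mem_nonunits_iff, ValuationSubring.mem_nonunits_iff_or]
    by_cases ha0 : algebraMap A L a = 0
    · exact Or.inl ha0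
    · right
      intro hmem
      have hmem' : (algebraMap A L a)⁻¹ ∈ Algebra.adjoin A {x} := hmem
      have h1 : algebraMap A (Algebra.adjoin A {x}) a * ⟨_, hmem'⟩ = 1 := by
        apply Subtype.ext
        simp [mul_inv_cancel₀ ha0]
      have h2 : algebraMap A (Algebra.adjoin A {x}) a ∈ maximalIdeal (Algebra.adjoin A {x}) :=
        (xt_mem_of_isMaximal π hπ x q n hq hn hx _ (maximalIdeal.isMaximal _)).2
          (Ideal.mem_map_of_mem _ ha)
      exact (mem_maximalIdeal _).mp h2 (IsUnit.of_mul_eq_one _ h1)
  refine ⟨⟨R', hdomR⟩, fun V V' hV hV' => (huniq V hV).symm.trans (huniq V' hV'), ?_⟩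
  intro V hV v
  obtain ⟨b, rfl⟩ := residue_surjective v
  have hb : (b : L) ∈ Algebra.adjoin A {x} := by
    have h1 : (b : L) ∈ R' := by rw [huniq V hV]; exact b.2
    exact h1
  have hle : ∀ y ∈ Algebra.adjoin A {x}, y ∈ V := by
    intro y hy
    have h1 : y ∈ R' := hy
    rw [huniq V hV] at h1
    exact h1
  obtain ⟨a, ha⟩ := exists_sub_mem_span x ⟨(b : L), hb⟩
  rw [Ideal.mem_span_singleton'] at ha
  obtain ⟨c, hc⟩ := ha
  have hc' : (c : L) * x = (b : L) - algebraMap A L a := by
    have := congrArg (Subtype.val : Algebra.adjoin A {x} → L) hc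
    simpa [xt] using this
  -- x lies in the maximal ideal of V
  have hxV : x ∈ V := hle x (Algebra.self_mem_adjoin_singleton A x)
  have hπm : (RingHom.codRestrict (algebraMap A L) V hV.1 π) ∈ maximalIdeal V := by
    rw [ValuationSubring.valuation_lt_one_iff]
    exact hV.2 π (by rw [hπ]; exact Ideal.mem_span_singleton_self π)
  have hxm : (⟨x, hxV⟩ : V) ∈ maximalIdeal V := by
    have h1 : (⟨x, hxV⟩ : V) ^ q = RingHom.codRestrict (algebraMap A L) V hV.1 π -
        (RingHom.codRestrict (algebraMap A L) V hV.1 π) ^ n * ⟨x, hxV⟩ := by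
      apply Subtype.ext
      have : x ^ q = algebraMap A L π - algebraMap A L π ^ n * x := by linear_combination hx
      simpa using this
    have h2 : (⟨x, hxV⟩ : V) ^ q ∈ maximalIdeal V := by
      rw [h1]
      exact Ideal.sub_mem _ hπm (Ideal.mul_mem_right _ _ (Ideal.pow_mem_of_mem _ hπm n (by omega)))
    exact (maximalIdeal.isMaximal V).isPrime.mem_of_pow_mem q h2
  refine ⟨a, ?_⟩
  show residue V (RingHom.codRestrict (algebraMap A L) V hV.1 a) = residue V b
  rw [eq_comm, ← sub_eq_zero, ← map_sub, residue_eq_zero_iff]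
  have h3 : b - RingHom.codRestrict (algebraMap A L) V hV.1 a =
      (⟨(c : L), hle _ c.2⟩ : V) * ⟨x, hxV⟩ := by
    apply Subtype.ext
    simpa using hc'.symm
  rw [h3]
  exact Ideal.mul_mem_left _ _ hxm

include hπ hq hn hx in
theorem exists_unit_factor :
    ∃ u ∈ Algebra.adjoin A {x}, algebraMap A L π = x ^ q * u := by
  haveI := isLocalRing_adjoin π hπ x q n hq hn hx
  have hxm : (xt x : Algebra.adjoin A {x}) ∈ maximalIdeal (Algebra.adjoin A {x}) :=
    (xt_mem_of_isMaximal π hπ x q n hq hn hx _ (maximalIdeal.isMaximal _)).1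
  have hw : IsUnit (1 - algebraMap A (Algebra.adjoin A {x}) π ^ (n - 1) * xt x) :=
    IsLocalRing.isUnit_one_sub_self_of_mem_nonunits _ (Ideal.mul_mem_left _ _ hxm)
  obtain ⟨v, hv⟩ := hw.exists_right_inv
  refine ⟨v, v.2, ?_⟩
  have h1 : (xt x : Algebra.adjoin A {x}) ^ q = algebraMap A (Algebra.adjoin A {x}) π *
      (1 - algebraMap A (Algebra.adjoin A {x}) π ^ (n - 1) * xt x) := by
    rw [xt_pow π x q n hx]
    have : n = (n - 1) + 1 := by omega
    conv_lhs => rw [this, pow_succ]
    ring
  have h2 : algebraMap A (Algebra.adjoin A {x}) π = (xt x) ^ q * v := by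
    rw [h1, mul_assoc, hv, mul_one]
  have := congrArg (Subtype.val : Algebra.adjoin A {x} → L) h2
  simpa [xt] using this

end tot

end EisExtH8
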