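import Mathlib
import Groth.Prelude.Def_EtRam

set_option autoImplicit false
universe u

namespace EisExtH8

open IsLocalRing Polynomial

section base

variable {A K : Type u} [CommRing A] [IsDomain A] [IsDiscreteValuationRing A] [Field K]
  [Algebra A K] [IsFractionRing A K]

/-- The fraction field of a DVR is (trivially) totally ramified over it. -/
theorem isTotallyRamified_self : EtRam.IsTotallyRamified A (algebraMap A K) := by
  have hinj : Function.Injective (algebraMap A K) := IsFractionRing.injective A K
  let R' : ValuationSubring K := ValuationSubring.ofSubring (algebraMap A K).range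
    (fun y => by
      rcases ValuationRing.isInteger_or_isInteger A y with ⟨z, hz⟩ | ⟨z, hz⟩
      · exact Or.inl ⟨z, hz⟩
      · exact Or.inr ⟨z, hz⟩)
  -- every dominating valuation subring equals R'
  have huniq : ∀ V : ValuationSubring K, EtRam.Dominates A (algebraMap A K) V → V = R' := by
    intro V hV
    apply le_antisymm
    · intro y hy
      by_contra hyR
      have hyR' : y ∉ (algebraMap A K).range := hyR
      rcases ValuationRing.isInteger_or_isInteger A y with ⟨z, hz⟩ | ⟨z, hz⟩
      · exact hyR' ⟨z, hz⟩
      · -- y⁻¹ = z with z a nonunit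
        have hy0 : y ≠ 0 := by
          rintro rfl
          exact hyR' ⟨0, map_zero _⟩
        have hz0 : z ∈ maximalIdeal A := by
          rw [mem_maximalIdeal]
          intro hzu
          obtain ⟨w, hw⟩ := hzu.exists_right_inv
          apply hyR'
          refine ⟨w, ?_⟩
          have h1 : algebraMap A K z * algebraMap A K w = 1 := by
            rw [← map_mul, hw, map_one]
          rw [hz] at h1
          exact (eq_of_inv_mul_eq_one h1).symm
        have h2 := hV.2 z hz0
        rw [hz, map_inv₀] at h2
        have h3 : V.valuation y ≤ 1 := (V.valuation_le_one_iff y).mpr hy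
        have hvy0 : V.valuation y ≠ 0 := (V.valuation.ne_zero_iff).mpr hy0
        have h4 : 1 < V.valuation y := by
          rwa [inv_lt_one₀ (zero_lt_iff.mpr hvy0)] at h2
        exact absurd h3 (not_le_of_gt h4)
    · rintro y ⟨a, rfl⟩
      exact hV.1 a
  have hdomR : EtRam.Dominates A (algebraMap A K) R' := by
    refine ⟨fun a => ⟨a, rfl⟩, fun a ha => ?_⟩
    rw [← ValuationSubring.mem_nonunits_iff, ValuationSubring.mem_nonunits_iff_or]
    by_cases ha0 : algebraMap A K a = 0
    · exact Or.inl ha0
    · right
      rintro ⟨w, hw⟩
      have h1 : algebraMap A K (a * w) = algebraMap A K 1 := by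
        rw [map_mul, hw, map_one, mul_inv_cancel₀ ha0]
      have h2 : a * w = 1 := hinj h1
      exact (mem_maximalIdeal a).mp ha (IsUnit.of_mul_eq_one _ h2)
  refine ⟨⟨R', hdomR⟩, fun V V' hV hV' => (huniq V hV).trans (huniq V' hV').symm, ?_⟩
  intro V hV v
  obtain ⟨b, rfl⟩ := residue_surjective v
  have hb : (b : K) ∈ R' := by rw [← huniq V hV]; exact b.2
  obtain ⟨a, ha⟩ := hb
  refine ⟨a, ?_⟩
  show residue V (RingHom.codRestrict (algebraMap A K) V hV.1 a) = residue V b
  congr 1
  exact Subtype.ext ha

end base

end EisExtH8
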