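import Mathlib
import Groth.Agent.Lib.EisExt1_helper8

set_option autoImplicit false
universe u

namespace EisExtH8

open IsLocalRing Polynomial

section eis

variable {A : Type u} [CommRing A] (π : A) (q n : ℕ)

theorem eisPoly_coeff (i : ℕ) : (eisPoly π q n).coeff i =
    (if i = q then 1 else 0) + ((if i = 1 then π ^ n else 0) - (if i = 0 then π else 0)) := by
  unfold eisPoly
  simp only [coeff_add, coeff_sub, coeff_X_pow, coeff_C_mul_X, coeff_C]

theorem eisPoly_coeff_zero (hq : 2 ≤ q) : (eisPoly π q n).coeff 0 = -π := by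
  rw [eisPoly_coeff, if_neg (by omega : ¬ (0 : ℕ) = q), if_neg (by omega : ¬ (0 : ℕ) = 1),
    if_pos rfl]
  ring

theorem eisPoly_coeff_one (hq : 2 ≤ q) : (eisPoly π q n).coeff 1 = π ^ n := by
  rw [eisPoly_coeff, if_neg (by omega : ¬ (1 : ℕ) = q), if_pos rfl,
    if_neg (by omega : ¬ (1 : ℕ) = 0)]
  ring

theorem eisPoly_coeff_of_lt (i : ℕ) (h1 : 1 < i) (h2 : i < q) : (eisPoly π q n).coeff i = 0 := by
  rw [eisPoly_coeff, if_neg (by omega : ¬ i = q), if_neg (by omega : ¬ i = 1),
    if_neg (by omega : ¬ i = 0)]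
  ring

end eis

section irr

variable {A : Type u} [CommRing A] [IsDomain A] [IsDiscreteValuationRing A]
  (π : A) (hπ : maximalIdeal A = Ideal.span {π}) (q n : ℕ) (hq : 2 ≤ q) (hn : 2 ≤ n)

include hπ hq hn in
theorem eisPoly_isEisensteinAt : (eisPoly π q n).IsEisensteinAt (maximalIdeal A) := by
  have hπm : π ∈ maximalIdeal A := by rw [hπ]; exact Ideal.mem_span_singleton_self π
  refine ⟨?_, ?_, ?_⟩
  · rw [(eisPoly_monic π q n hq).leadingCoeff]
    exact fun h => (maximalIdeal.isMaximal A).ne_top ((Ideal.eq_top_iff_one _).mpr h)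
  · intro i hi
    rw [eisPoly_natDegree π q n hq] at hi
    rcases Nat.lt_or_ge 1 i with h1 | h1
    · rw [eisPoly_coeff_of_lt π q n i h1 hi]; exact Ideal.zero_mem _
    · interval_cases i
      · rw [eisPoly_coeff_zero π q n hq]; exact (Ideal.neg_mem_iff _).mpr hπm
      · rw [eisPoly_coeff_one π q n hq]; exact Ideal.pow_mem_of_mem _ hπm n (by omega)
  · rw [eisPoly_coeff_zero π q n hq, hπ, Ideal.span_singleton_pow, Ideal.neg_mem_iff,
      Ideal.mem_span_singleton]
    intro hdvd
    -- π^2 ∣ π is impossible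
    have hπ0 : π ≠ 0 := by
      rintro rfl
      apply IsDiscreteValuationRing.not_a_field A
      rw [hπ, Ideal.span_singleton_eq_bot]
    obtain ⟨c, hc⟩ := hdvd
    have h1 : π * 1 = π * (π * c) := by rw [mul_one]; conv_lhs => rw [hc]
                                        ring
    have h2 : 1 = π * c := mul_left_cancel₀ hπ0 h1
    have h3 : IsUnit π := IsUnit.of_mul_eq_one _ h2.symm
    exact (mem_maximalIdeal π).mp hπm h3

include hπ hq hn in
theorem eisPoly_irreducible : Irreducible (eisPoly π q n) :=
  (eisPoly_isEisensteinAt π hπ q n hq hn).irreducible (maximalIdeal.isMaximal A).isPrime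
    (eisPoly_monic π q n hq).isPrimitive (by rw [eisPoly_natDegree π q n hq]; omega)

variable {K : Type u} [Field K] [Algebra A K] [IsFractionRing A K]

include hπ hq hn in
theorem eisPoly_map_irreducible : Irreducible ((eisPoly π q n).map (algebraMap A K)) :=
  (Polynomial.Monic.irreducible_iff_irreducible_map_fraction_map (eisPoly_monic π q n hq)).mp
    (eisPoly_irreducible π hπ q n hq hn)

include hπ hq hn in
theorem eisPoly_map_separable : ((eisPoly π q n).map (algebraMap A K)).Separable := by
  rw [Polynomial.separable_iff_derivative_ne_zero (eisPoly_map_irreducible π hπ q n hq hn)]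
  intro h0
  have h1 : (derivative ((eisPoly π q n).map (algebraMap A K))).coeff 0 = 0 := by
    rw [h0]; simp
  rw [coeff_derivative, coeff_map, eisPoly_coeff_one π q n hq] at h1
  have hπ0 : π ≠ 0 := by
    rintro rfl
    apply IsDiscreteValuationRing.not_a_field A
    rw [hπ, Ideal.span_singleton_eq_bot]
  have h2 : algebraMap A K (π ^ n) ≠ 0 := by
    intro h
    exact pow_ne_zero n hπ0 (IsFractionRing.injective A K (by rw [h, map_zero]))
  apply h2
  simpa using h1

end irr

end EisExtH8
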