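import Mathlib
import Groth.Agent.Lib.HensIntDom_lead

/-!
# Tame Eisenstein polynomials over henselian DVRs with algebraically closed residue field (helper3)
-/

set_option autoImplicit false
universe u

open Polynomial IsLocalRing

namespace Groth.Agent.Lib.EisTameH3

/-- In a henselian local ring with algebraically closed residue field, units have `n`-th roots
for `n` invertible in the residue field. -/
theorem exists_pow_eq_of_isUnit (B : Type u) [CommRing B] [HenselianLocalRing B]
    [IsAlgClosed (ResidueField B)] (n : ℕ) (hn : (n : ResidueField B) ≠ 0) (U : B)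
    (hU : IsUnit U) : ∃ w : B, w ^ n = U := by
  have hn0 : n ≠ 0 := by
    rintro rfl
    exact hn (by simp)
  have hU0 : residue B U ≠ 0 := (residue_ne_zero_iff_isUnit U).mpr hU
  obtain ⟨ub, hub⟩ := IsAlgClosed.exists_pow_nat_eq (residue B U) (Nat.pos_of_ne_zero hn0)
  have hub0 : ub ≠ 0 := by
    rintro rfl
    rw [zero_pow hn0] at hub
    exact hU0 hub.symm
  obtain ⟨a₀, ha₀⟩ := residue_surjective ub
  have h1 : (X ^ n - C U : B[X]).eval a₀ ∈ maximalIdeal B := by
    rw [← residue_eq_zero_iff, eval_sub, eval_pow, eval_X, eval_C, map_sub, map_pow, ha₀, hub,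
      sub_self]
  have h2 : IsUnit ((X ^ n - C U : B[X]).derivative.eval a₀) := by
    rw [← residue_ne_zero_iff_isUnit, derivative_sub, derivative_X_pow, derivative_C, sub_zero,
      eval_mul, eval_C, eval_pow, eval_X, map_mul, map_pow, ha₀, map_natCast]
    exact mul_ne_zero hn (pow_ne_zero _ hub0)
  obtain ⟨a, ha, -⟩ := HenselianLocalRing.is_henselian (X ^ n - C U : B[X])
    (monic_X_pow_sub_C U hn0) a₀ h1 h2
  refine ⟨a, ?_⟩
  rw [IsRoot.def, eval_sub, eval_pow, eval_X, eval_C, sub_eq_zero] at ha
  exact ha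

/-- A henselian local ring with algebraically closed residue field contains primitive `n`-th
roots of unity for `n` invertible in the residue field. -/
theorem exists_isPrimitiveRoot (O : Type u) [CommRing O] [HenselianLocalRing O]
    [IsAlgClosed (ResidueField O)] (n : ℕ) (hn : (n : ResidueField O) ≠ 0) :
    ∃ ζ : O, IsPrimitiveRoot ζ n := by
  have hn0 : n ≠ 0 := by
    rintro rfl
    exact hn (by simp)
  haveI : NeZero (n : ResidueField O) := ⟨hn⟩
  obtain ⟨zb, hzb⟩ := HasEnoughRootsOfUnity.exists_primitiveRoot (ResidueField O) n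
  obtain ⟨a₀, ha₀⟩ := residue_surjective zb
  have hzb0 : zb ≠ 0 := hzb.ne_zero hn0
  have h1 : (X ^ n - C 1 : O[X]).eval a₀ ∈ maximalIdeal O := by
    rw [← residue_eq_zero_iff, eval_sub, eval_pow, eval_X, eval_C, map_sub, map_pow, ha₀,
      hzb.pow_eq_one, map_one, sub_self]
  have h2 : IsUnit ((X ^ n - C 1 : O[X]).derivative.eval a₀) := by
    rw [← residue_ne_zero_iff_isUnit, derivative_sub, derivative_X_pow, derivative_C, sub_zero,
      eval_mul, eval_C, eval_pow, eval_X, map_mul, map_pow, ha₀, map_natCast]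
    exact mul_ne_zero hn (pow_ne_zero _ hzb0)
  obtain ⟨ζ, hζ, hζ'⟩ := HenselianLocalRing.is_henselian (X ^ n - C 1 : O[X])
    (monic_X_pow_sub_C 1 hn0) a₀ h1 h2
  have hres : residue O ζ = zb := by
    rw [← ha₀, ← sub_eq_zero, ← map_sub, residue_eq_zero_iff]
    exact hζ'
  rw [IsRoot.def, eval_sub, eval_pow, eval_X, eval_C, sub_eq_zero] at hζ
  refine ⟨ζ, ⟨hζ, fun l hl => hzb.dvd_of_pow_eq_one l ?_⟩⟩
  rw [← hres, ← map_pow, hl, map_one]

end Groth.Agent.Lib.EisTameH3

namespace Groth.Agent.Lib.EisTameH3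

/-- An element of `m \ m²` of a DVR generates the maximal ideal. -/
theorem maximalIdeal_eq_span_of_notMem_sq (O : Type u) [CommRing O] [IsDomain O]
    [IsDiscreteValuationRing O] (a : O) (ha : a ∈ maximalIdeal O) (ha2 : a ∉ maximalIdeal O ^ 2) :
    maximalIdeal O = Ideal.span {a} := by
  obtain ⟨ϖ, hϖ⟩ := IsDiscreteValuationRing.exists_irreducible O
  have hm : maximalIdeal O = Ideal.span {ϖ} := (IsDiscreteValuationRing.irreducible_iff_uniformizer ϖ).mp hϖ
  have ha0 : a ≠ 0 := by
    rintro rfl
    exact ha2 (zero_mem _)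
  obtain ⟨n, u, rfl⟩ := IsDiscreteValuationRing.eq_unit_mul_pow_irreducible ha0 hϖ
  rcases n with _ | _ | n
  · exfalso
    rw [pow_zero, mul_one] at ha
    exact (mem_maximalIdeal _).mp ha u.isUnit
  · rw [zero_add, pow_one, hm]
    exact (Ideal.span_singleton_eq_span_singleton.mpr
      (associated_unit_mul_left ϖ (u : O) u.isUnit).symm)
  · exfalso
    apply ha2
    rw [hm, Ideal.span_singleton_pow, Ideal.mem_span_singleton]
    exact ⟨u * ϖ ^ n, by ring⟩

/-- Eisenstein polynomials over a DVR stay irreducible over the fraction field. -/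
theorem irreducible_map_of_isEisensteinAt (O : Type u) [CommRing O] [IsDomain O]
    [IsDiscreteValuationRing O] (K : Type u) [Field K] [Algebra O K] [IsFractionRing O K]
    (f : O[X]) (hmon : f.Monic)
    (hdeg : 0 < f.natDegree) (hf : f.IsEisensteinAt (maximalIdeal O)) :
    Irreducible (f.map (algebraMap O K)) := by
  have h1 : Irreducible f :=
    hf.irreducible (Ideal.IsMaximal.isPrime (maximalIdeal.isMaximal O)) hmon.isPrimitive hdeg
  exact (Polynomial.Monic.irreducible_iff_irreducible_map_fraction_map hmon).mp h1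

end Groth.Agent.Lib.EisTameH3

namespace Groth.Agent.Lib.EisTameH3

/-- A domain integral over a henselian local ring with algebraically closed residue field is
henselian local with algebraically closed residue field; moreover integers invertible in the
residue field of the base stay invertible. -/
theorem residueField_integral (O : Type u) [CommRing O] [HenselianLocalRing O]
    [IsAlgClosed (ResidueField O)] (B : Type u) [CommRing B] [IsDomain B] [Algebra O B]
    [Algebra.IsIntegral O B] :
    ∃ (_ : HenselianLocalRing B), IsAlgClosed (ResidueField B) ∧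
      IsLocalHom (algebraMap O B) ∧
      ∀ n : ℕ, (n : ResidueField O) ≠ 0 → (n : ResidueField B) ≠ 0 := by
  haveI hB : HenselianLocalRing B := Groth.Agent.Lib.HensIntDom.henselian_of_integral_domain O B
  haveI hloc : IsLocalHom (algebraMap O B) := Groth.Agent.Lib.HensIntDom.isLocalHom_of_integral O B
  set φ : ResidueField O →+* ResidueField B := ResidueField.map (algebraMap O B) with hφ
  have hφint : φ.IsIntegral := by
    intro x
    obtain ⟨b, rfl⟩ := residue_surjective x
    obtain ⟨q, hq, hqb⟩ := Algebra.IsIntegral.isIntegral (R := O) b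
    refine ⟨q.map (residue O), hq.map _, ?_⟩
    rw [eval₂_map]
    have hcomp : φ.comp (residue O) = (residue B).comp (algebraMap O B) := rfl
    rw [hcomp, ← hom_eval₂, hqb, map_zero]
  have hbij : Function.Bijective φ := IsAlgClosed.ringHom_bijective_of_isIntegral φ hφint
  refine ⟨hB, ?_, hloc, ?_⟩
  · exact IsAlgClosed.of_ringEquiv (ResidueField O) (ResidueField B) (RingEquiv.ofBijective φ hbij)
  · intro n hn h0
    apply hn
    apply hbij.1
    rw [map_natCast, h0, map_zero]

/-- Key step: if `π` is a root (in a field `L`) of a monic Eisenstein polynomial `f` of degree `e`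
over a henselian DVR `O` with algebraically closed residue field in which `e ≠ 0`, then `L`
contains an `e`-th root of `-f(0)`. -/
theorem exists_pow_eq_neg_coeff_zero (O : Type u) [CommRing O] [IsDomain O]
    [IsDiscreteValuationRing O] [HenselianLocalRing O] [IsAlgClosed (ResidueField O)]
    (L : Type u) [Field L] [Algebra O L]
    (f : O[X]) (hmon : f.Monic) (e : ℕ) (hdeg : f.natDegree = e)
    (he : (e : ResidueField O) ≠ 0) (hf : f.IsEisensteinAt (maximalIdeal O))
    (π : L) (hπ : aeval π f = 0) :
    ∃ π' : L, π' ^ e = - algebraMap O L (f.coeff 0) := by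
  classical
  have he0 : e ≠ 0 := by
    rintro rfl
    exact he (by simp)
  set a := f.coeff 0 with ha
  have ham : a ∈ maximalIdeal O := hf.mem (by rw [hdeg]; exact Nat.pos_of_ne_zero he0)
  have hm : maximalIdeal O = Ideal.span {a} :=
    maximalIdeal_eq_span_of_notMem_sq O a ham hf.notMem
  have ha0 : a ≠ 0 := by
    intro h0
    apply hf.notMem
    rw [← ha, h0]
    exact zero_mem _
  -- coefficients divisible by `a`
  have hd : ∀ i, ∃ d : O, i < e → f.coeff i = a * d := by
    intro i
    by_cases hi : i < e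
    · have := hf.mem (n := i) (by rw [hdeg]; exact hi)
      rw [hm, Ideal.mem_span_singleton] at this
      obtain ⟨d, hd⟩ := this
      exact ⟨d, fun _ => hd⟩
    · exact ⟨0, fun h => absurd h hi⟩
  choose d hd using hd
  have hd0 : d 0 = 1 := by
    have := hd 0 (Nat.pos_of_ne_zero he0)
    have h2 : a * 1 = a * d 0 := by rw [mul_one]; exact this
    exact (mul_left_cancel₀ ha0 h2).symm
  -- the integral closure
  set B := integralClosure O L with hBdef
  obtain ⟨hBh, hBac, hBloc, hBn⟩ := residueField_integral O B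
  have hπint : IsIntegral O π := ⟨f, hmon, by rw [← aeval_def]; exact hπ⟩
  set πB : B := ⟨π, hπint⟩ with hπB
  -- the equation
  have hsum : f = X ^ e + ∑ i ∈ Finset.range e, C (f.coeff i) * X ^ i := by
    conv_lhs => rw [hmon.as_sum, hdeg]
  set UB : B := ∑ i ∈ Finset.range e, algebraMap O B (d i) * πB ^ i with hUB
  have heq : πB ^ e = - (algebraMap O B a * UB) := by
    apply Subtype.ext
    have h1 : aeval π f = π ^ e + ∑ i ∈ Finset.range e, algebraMap O L (f.coeff i) * π ^ i := by
      conv_lhs => rw [hsum]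
      simp only [map_add, map_pow, aeval_X, map_sum, map_mul, aeval_C]
    rw [hπ] at h1
    have h2 : ((πB ^ e : B) : L) = π ^ e := rfl
    have h3 : ((-(algebraMap O B a * UB) : B) : L) =
        - (algebraMap O L a * ∑ i ∈ Finset.range e, algebraMap O L (d i) * π ^ i) := by
      rw [hUB]
      simp only [NegMemClass.coe_neg, MulMemClass.coe_mul, AddSubmonoidClass.coe_finset_sum,
        SubmonoidClass.coe_pow]
      rfl
    rw [h2, h3, Finset.mul_sum]
    have h4 : ∑ i ∈ Finset.range e, algebraMap O L (f.coeff i) * π ^ i =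
        ∑ i ∈ Finset.range e, algebraMap O L a * (algebraMap O L (d i) * π ^ i) := by
      refine Finset.sum_congr rfl fun i hi => ?_
      rw [hd i (Finset.mem_range.mp hi), map_mul, mul_assoc]
    rw [h4] at h1
    linear_combination -h1
  -- `πB` lies in the maximal ideal
  have haB : algebraMap O B a ∈ maximalIdeal B := by
    rw [mem_maximalIdeal, mem_nonunits_iff]
    intro hu
    exact (mem_maximalIdeal _).mp ham (isUnit_of_map_unit (algebraMap O B) a hu)
  have hπm : πB ∈ maximalIdeal B := by
    have : πB ^ e ∈ maximalIdeal B := by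
      rw [heq]
      exact neg_mem (Ideal.mul_mem_right _ _ haB)
    exact (Ideal.IsMaximal.isPrime (maximalIdeal.isMaximal B)).mem_of_pow_mem e this
  have hπres : residue B πB = 0 := (residue_eq_zero_iff _).mpr hπm
  -- `UB` is a unit
  have hUres : residue B UB = 1 := by
    rw [hUB, map_sum, Finset.sum_eq_single 0]
    · rw [hd0, map_one, pow_zero, mul_one, map_one]
    · intro i _ hi
      rw [map_mul, map_pow, hπres, zero_pow hi, mul_zero]
    · intro h
      exact absurd (Finset.mem_range.mpr (Nat.pos_of_ne_zero he0)) h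
  have hUunit : IsUnit UB := by
    rw [← residue_ne_zero_iff_isUnit, hUres]
    exact one_ne_zero
  obtain ⟨w, hw⟩ := exists_pow_eq_of_isUnit B e (hBn e he) UB hUunit
  have hw0 : (w : L) ≠ 0 := by
    intro h0
    have : w = 0 := Subtype.ext h0
    rw [this, zero_pow he0] at hw
    exact hUunit.ne_zero hw.symm
  refine ⟨π / (w : L), ?_⟩
  have h5 : (π : L) ^ e = - (algebraMap O L a * ((w : L) ^ e)) := by
    have := congrArg (Subtype.val : B → L) heq
    rw [← hw] at this
    exact this
  rw [div_pow, h5]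
  field_simp

end Groth.Agent.Lib.EisTameH3

namespace Groth.Agent.Lib.EisTameH3

/-- If `AdjoinRoot g` is normal over `K` (for `g` monic irreducible) then it is a splitting field
of `g`. -/
theorem isSplittingField_adjoinRoot_of_normal (K : Type u) [Field K] (g : K[X])
    [Fact (Irreducible g)] (hg : g.Monic) [Normal K (AdjoinRoot g)] :
    IsSplittingField K (AdjoinRoot g) g := by
  have hg0 : g ≠ 0 := hg.ne_zero
  have hmin : minpoly K (AdjoinRoot.root g) = g := by
    rw [AdjoinRoot.minpoly_root hg0, hg.leadingCoeff, inv_one, C_1, mul_one]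
  constructor
  · have := Normal.splits (inferInstance : Normal K (AdjoinRoot g)) (AdjoinRoot.root g)
    rwa [hmin] at this
  · rw [eq_top_iff, ← AdjoinRoot.adjoinRoot_eq_top (f := g)]
    apply Algebra.adjoin_mono
    rw [Set.singleton_subset_iff, mem_rootSet_of_ne hg0, AdjoinRoot.aeval_eq, AdjoinRoot.mk_self]

theorem main (O : Type u) [CommRing O] [IsDomain O] [IsDiscreteValuationRing O]
    [HenselianLocalRing O] [IsAlgClosed (ResidueField O)]
    (p : ℕ) [Fact p.Prime] [CharP (ResidueField O) p]
    (f : O[X]) (hmon : f.Monic) (e : ℕ) (hdeg : f.natDegree = e) (he : 1 ≤ e) (hep : e < p)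
    (hf : f.IsEisensteinAt (maximalIdeal O)) :
    Module.finrank (FractionRing O) (f.map (algebraMap O (FractionRing O))).SplittingField = e ∧
      IsCyclic (f.map (algebraMap O (FractionRing O))).Gal := by
  classical
  have he0 : e ≠ 0 := by omega
  have hek : (e : ResidueField O) ≠ 0 := by
    intro h0
    rw [CharP.cast_eq_zero_iff (ResidueField O) p] at h0
    exact absurd (Nat.le_of_dvd (by omega) h0) (by omega)
  set K := FractionRing O with hK
  set fK := f.map (algebraMap O K) with hfK
  have hmonK : fK.Monic := hmon.map _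
  have hdegK : fK.natDegree = e := by rw [hfK, hmon.natDegree_map, hdeg]
  have hirr : Irreducible fK :=
    irreducible_map_of_isEisensteinAt O K f hmon (by rw [hdeg]; omega) hf
  haveI : Fact (Irreducible fK) := ⟨hirr⟩
  set L := AdjoinRoot fK with hL
  have hfK0 : fK ≠ 0 := hmonK.ne_zero
  -- degree
  have hfin : Module.finrank K L = e := by
    rw [← hdegK, ← AdjoinRoot.powerBasis_dim hfK0]
    exact (AdjoinRoot.powerBasis hfK0).finrank
  haveI : FiniteDimensional K L := (AdjoinRoot.powerBasis hfK0).finite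
  -- the root
  have hπ : aeval (AdjoinRoot.root fK) f = 0 := by
    have : aeval (AdjoinRoot.root fK) fK = 0 := by rw [AdjoinRoot.aeval_eq, AdjoinRoot.mk_self]
    rw [← aeval_map_algebraMap K]
    exact this
  obtain ⟨π', hπ'⟩ := exists_pow_eq_neg_coeff_zero O L f hmon e hdeg hek hf (AdjoinRoot.root fK) hπ
  set a := f.coeff 0 with ha
  -- `X^e + a` is Eisenstein
  have hgE : (X ^ e + C a : O[X]).IsEisensteinAt (maximalIdeal O) := by
    have hnd : (X ^ e + C a : O[X]).natDegree = e := natDegree_X_pow_add_C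
    refine ⟨?_, ?_, ?_⟩
    · rw [(monic_X_pow_add_C a he0).leadingCoeff]
      exact fun h => (maximalIdeal.isMaximal O).ne_top ((Ideal.eq_top_iff_one _).mpr h)
    · intro n hn
      rw [hnd] at hn
      rw [coeff_add, coeff_X_pow, coeff_C, if_neg hn.ne]
      by_cases h0 : n = 0
      · rw [if_pos h0, zero_add]
        exact hf.mem (by rw [hdeg]; omega)
      · rw [if_neg h0, add_zero]
        exact zero_mem _
    · rw [coeff_add, coeff_X_pow, coeff_C, if_neg (Ne.symm he0), if_pos rfl, zero_add]
      exact hf.notMem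
  have hgirr : Irreducible ((X ^ e + C a : O[X]).map (algebraMap O K)) :=
    irreducible_map_of_isEisensteinAt O K _ (monic_X_pow_add_C a he0)
      (by rw [natDegree_X_pow_add_C]; omega) hgE
  have hgmap : (X ^ e + C a : O[X]).map (algebraMap O K) = X ^ e + C (algebraMap O K a) := by
    rw [Polynomial.map_add, Polynomial.map_pow, map_X, map_C]
  rw [hgmap] at hgirr
  -- `K(π') = L`
  have hπ'K : π' ^ e = algebraMap K L (-(algebraMap O K a)) := by
    rw [hπ', map_neg, ← IsScalarTower.algebraMap_apply]
  have hmin : minpoly K π' = X ^ e + C (algebraMap O K a) := by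
    refine (minpoly.eq_of_irreducible_of_monic hgirr ?_ (monic_X_pow_add_C _ he0)).symm
    rw [map_add, map_pow, aeval_X, aeval_C, hπ'K, map_neg, neg_add_cancel]
  have hadj : IntermediateField.adjoin K {π'} = ⊤ := by
    apply IntermediateField.eq_of_le_of_finrank_eq le_top
    rw [IntermediateField.adjoin.finrank (IsIntegral.of_finite K π'), hmin,
      natDegree_X_pow_add_C, IntermediateField.finrank_top', hfin]
  -- Kummer theory
  obtain ⟨ζ, hζ⟩ := exists_isPrimitiveRoot O e hek
  have hζK : IsPrimitiveRoot (algebraMap O K ζ) e :=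
    hζ.map_of_injective (IsFractionRing.injective O K)
  have hprim : (primitiveRoots (Module.finrank K L) K).Nonempty := by
    rw [hfin]
    exact ⟨algebraMap O K ζ, (mem_primitiveRoots (Nat.pos_of_ne_zero he0)).mpr hζK⟩
  have h3 : ∃ α : L, α ^ (Module.finrank K L) ∈ Set.range (algebraMap K L) ∧
      IntermediateField.adjoin K {α} = ⊤ :=
    ⟨π', ⟨-(algebraMap O K a), by rw [hfin]; exact hπ'K.symm⟩, hadj⟩
  obtain ⟨hgal, hcyc⟩ := ((isCyclic_tfae K L hprim).out 2 0).mp h3
  haveI : Normal K L := hgal.to_normal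
  haveI hsplit : IsSplittingField K L fK := isSplittingField_adjoinRoot_of_normal K fK hmonK
  let ε : L ≃ₐ[K] fK.SplittingField := IsSplittingField.algEquiv L fK
  refine ⟨?_, ?_⟩
  · rw [← ε.toLinearEquiv.finrank_eq, hfin]
  · exact isCyclic_of_surjective (AlgEquiv.autCongr ε) (AlgEquiv.autCongr ε).surjective

end Groth.Agent.Lib.EisTameH3

namespace Groth.Agent.Lib.EisTameH3

/-- `X^n - uϖ` is irreducible over the fraction field (`u` a unit, `ϖ` a uniformizer). -/
theorem irreducible_X_pow_sub_unit_mul (O : Type u) [CommRing O] [IsDomain O]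
    [IsDiscreteValuationRing O] (K : Type u) [Field K] [Algebra O K] [IsFractionRing O K]
    (ϖ : O) (hϖ : Irreducible ϖ) (w : O) (hw : IsUnit w) (n : ℕ) (hn : n ≠ 0) :
    Irreducible (X ^ n - C (algebraMap O K (w * ϖ)) : K[X]) := by
  have hm : maximalIdeal O = Ideal.span {ϖ} :=
    (IsDiscreteValuationRing.irreducible_iff_uniformizer ϖ).mp hϖ
  have hϖm : ϖ ∈ maximalIdeal O := by rw [hm]; exact Ideal.mem_span_singleton_self ϖ
  have hE : (X ^ n - C (w * ϖ) : O[X]).IsEisensteinAt (maximalIdeal O) := by
    have hnd : (X ^ n - C (w * ϖ) : O[X]).natDegree = n := natDegree_X_pow_sub_C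
    refine ⟨?_, ?_, ?_⟩
    · rw [(monic_X_pow_sub_C (w * ϖ) hn).leadingCoeff]
      exact fun h => (maximalIdeal.isMaximal O).ne_top ((Ideal.eq_top_iff_one _).mpr h)
    · intro k hk
      rw [hnd] at hk
      rw [coeff_sub, coeff_X_pow, coeff_C, if_neg hk.ne, zero_sub]
      by_cases h0 : k = 0
      · rw [if_pos h0]
        exact neg_mem (Ideal.mul_mem_left _ _ hϖm)
      · rw [if_neg h0, neg_zero]
        exact zero_mem _
    · rw [coeff_sub, coeff_X_pow, coeff_C, if_neg (Ne.symm hn), if_pos rfl, zero_sub, neg_mem_iff,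
        hm, Ideal.span_singleton_pow, Ideal.mem_span_singleton]
      rintro ⟨c, hc⟩
      have h1 : ϖ * w = ϖ * (ϖ * c) := by linear_combination hc
      have h2 : w = ϖ * c := mul_left_cancel₀ hϖ.ne_zero h1
      have h3 : w ∈ maximalIdeal O := by
        rw [h2]; exact Ideal.mul_mem_right _ _ hϖm
      exact (mem_maximalIdeal _).mp h3 hw
  have := irreducible_map_of_isEisensteinAt O K _ (monic_X_pow_sub_C (w * ϖ) hn)
    (by rw [natDegree_X_pow_sub_C]; exact Nat.pos_of_ne_zero hn) hE
  rwa [Polynomial.map_sub, Polynomial.map_pow, map_X, map_C] at this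

/-- Bezout in `ℕ`. -/
theorem exists_mul_eq_mul_add_one (r b : ℕ) (hr : 1 ≤ r) (hb : 1 ≤ b) (h : Nat.Coprime r b) :
    ∃ s t : ℕ, s * b = t * r + 1 := by
  rcases Nat.lt_or_ge 1 r with h1 | h1
  · obtain ⟨s, -, hs⟩ := Nat.exists_mul_mod_eq_one_of_coprime h.symm h1
    refine ⟨s, b * s / r, ?_⟩
    have := Nat.div_add_mod (b * s) r
    rw [hs] at this
    rw [mul_comm s b, mul_comm _ r]
    exact this.symm
  · have : r = 1 := le_antisymm h1 hr
    subst this
    exact ⟨1, b - 1, by omega⟩

/-- If a field extension `S/K` contains an `r`-th root of `vϖ^b` with `gcd(r,b)=1` then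
`r ∣ [S:K]`. -/
theorem dvd_finrank_of_pow_eq (O : Type u) [CommRing O] [IsDomain O]
    [IsDiscreteValuationRing O] (K : Type u) [Field K] [Algebra O K] [IsFractionRing O K]
    (S : Type u) [Field S] [Algebra K S]
    (ϖ : O) (hϖ : Irreducible ϖ) (v : Oˣ) (r b : ℕ) (hr : 1 ≤ r) (hb : 1 ≤ b)
    (hrb : Nat.Coprime r b) (α : S)
    (hα : α ^ r = algebraMap K S (algebraMap O K ((v : O) * ϖ ^ b))) :
    r ∣ Module.finrank K S := by
  obtain ⟨s, t, hst⟩ := exists_mul_eq_mul_add_one r b hr hb hrb
  have hr0 : r ≠ 0 := by omega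
  have hϖK : algebraMap K S (algebraMap O K ϖ) ≠ 0 := by
    rw [Ne, map_eq_zero, map_eq_zero_iff _ (IsFractionRing.injective O K)]
    exact hϖ.ne_zero
  set β : S := α ^ s / (algebraMap K S (algebraMap O K ϖ)) ^ t with hβ
  have hβr : β ^ r = algebraMap K S (algebraMap O K (((v ^ s : Oˣ) : O) * ϖ)) := by
    rw [hβ, div_pow, ← pow_mul, mul_comm s r, pow_mul, hα, ← pow_mul, div_eq_iff (pow_ne_zero _ hϖK)]
    simp only [← map_pow, ← map_mul]
    congr 2
    rw [mul_pow, ← pow_mul, mul_comm b s, hst, Units.val_pow_eq_pow_val]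
    ring
  have hirr := irreducible_X_pow_sub_unit_mul O K ϖ hϖ ((v ^ s : Oˣ) : O) (Units.isUnit _) r hr0
  have hmin : minpoly K β = X ^ r - C (algebraMap O K (((v ^ s : Oˣ) : O) * ϖ)) := by
    refine (minpoly.eq_of_irreducible_of_monic hirr ?_ (monic_X_pow_sub_C _ hr0)).symm
    rw [map_sub, map_pow, aeval_X, aeval_C, hβr, sub_self]
  have hint : IsIntegral K β := by
    refine ⟨X ^ r - C (algebraMap O K (((v ^ s : Oˣ) : O) * ϖ)), monic_X_pow_sub_C _ hr0, ?_⟩
    rw [← aeval_def, map_sub, map_pow, aeval_X, aeval_C, hβr, sub_self]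
  have h1 : Module.finrank K (IntermediateField.adjoin K {β}) = r := by
    rw [IntermediateField.adjoin.finrank hint, hmin, natDegree_X_pow_sub_C]
  rw [← h1, ← Module.finrank_mul_finrank K (IntermediateField.adjoin K {β}) S]
  exact dvd_mul_right _ _

end Groth.Agent.Lib.EisTameH3

namespace Groth.Agent.Lib.EisTameH3

theorem main2 (O : Type u) [CommRing O] [IsDomain O] [IsDiscreteValuationRing O]
    [HenselianLocalRing O] [IsAlgClosed (ResidueField O)]
    (p : ℕ) [Fact p.Prime] [CharP (ResidueField O) p]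
    (ϖ : O) (hϖ : Irreducible ϖ) (m : ℕ) (r b : Fin m → ℕ) (v : Fin m → Oˣ)
    (hr : ∀ i, 1 ≤ r i) (hb : ∀ i, 1 ≤ b i) (hrb : ∀ i, Nat.Coprime (r i) (b i))
    (hp : ∑ i, r i < p) :
    Module.finrank (FractionRing O)
        (∏ i, (X ^ (r i) - C (algebraMap O (FractionRing O)
          ((v i : O) * ϖ ^ (b i))))).SplittingField = Finset.univ.lcm r := by
  classical
  set K := FractionRing O with hK
  set c : Fin m → K := fun i => algebraMap O K ((v i : O) * ϖ ^ (b i)) with hc
  set P : K[X] := ∏ i, (X ^ (r i) - C (c i)) with hP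
  set N := Finset.univ.lcm r with hN
  have hr0 : ∀ i, r i ≠ 0 := fun i => by have := hr i; omega
  have hrk : ∀ i, (r i : ResidueField O) ≠ 0 := by
    intro i h0
    rw [CharP.cast_eq_zero_iff (ResidueField O) p] at h0
    have h1 : r i ≤ ∑ j, r j := Finset.single_le_sum (fun j _ => Nat.zero_le (r j)) (Finset.mem_univ i)
    have h2 := Nat.le_of_dvd (by have := hr i; omega) h0
    omega
  have hN0 : N ≠ 0 := by
    rw [hN, Ne, Finset.lcm_eq_zero_iff]
    rintro ⟨i, -, hi⟩
    exact hr0 i hi
  have hPmon : P.Monic := monic_prod_of_monic _ _ fun i _ => monic_X_pow_sub_C _ (hr0 i)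
  -- lower bound
  have hlow : N ∣ Module.finrank K P.SplittingField := by
    refine Finset.lcm_dvd fun i _ => ?_
    have hsplit : (P.map (algebraMap K P.SplittingField)).Splits := SplittingField.splits P
    have hdvd : (X ^ (r i) - C (c i) : K[X]).map (algebraMap K P.SplittingField) ∣
        P.map (algebraMap K P.SplittingField) :=
      Polynomial.map_dvd _ (Finset.dvd_prod_of_mem _ (Finset.mem_univ i))
    have hsplit_i := hsplit.of_dvd (hPmon.map _).ne_zero hdvd
    rw [Polynomial.map_sub, Polynomial.map_pow, map_X, map_C] at hsplit_i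
    obtain ⟨α, hα⟩ := hsplit_i.exists_eval_eq_zero (by
      rw [degree_X_pow_sub_C (Nat.pos_of_ne_zero (hr0 i))]
      exact_mod_cast hr0 i)
    rw [eval_sub, eval_pow, eval_X, eval_C, sub_eq_zero] at hα
    exact dvd_finrank_of_pow_eq O K P.SplittingField ϖ hϖ (v i) (r i) (b i) (hr i) (hb i)
      (hrb i) α hα
  -- upper bound
  have hirr : Irreducible (X ^ N - C (algebraMap O K (1 * ϖ)) : K[X]) :=
    irreducible_X_pow_sub_unit_mul O K ϖ hϖ 1 isUnit_one N hN0
  haveI : Fact (Irreducible (X ^ N - C (algebraMap O K (1 * ϖ)) : K[X])) := ⟨hirr⟩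
  set g : K[X] := X ^ N - C (algebraMap O K (1 * ϖ)) with hg
  have hg0 : g ≠ 0 := (monic_X_pow_sub_C _ hN0).ne_zero
  have hfinM : Module.finrank K (AdjoinRoot g) = N := by
    have h1 := (AdjoinRoot.powerBasis hg0).finrank
    rw [AdjoinRoot.powerBasis_dim hg0, hg, natDegree_X_pow_sub_C] at h1
    exact h1
  haveI : FiniteDimensional K (AdjoinRoot g) := (AdjoinRoot.powerBasis hg0).finite
  set θ := AdjoinRoot.root g with hθ
  have hθN : θ ^ N = algebraMap K (AdjoinRoot g) (algebraMap O K ϖ) := by
    have : aeval θ g = 0 := by rw [AdjoinRoot.aeval_eq, AdjoinRoot.mk_self]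
    change aeval θ (X ^ N - C (algebraMap O K (1 * ϖ)) : K[X]) = 0 at this
    rw [map_sub, map_pow, aeval_X, aeval_C, one_mul, sub_eq_zero] at this
    exact this
  have hsplitM : (P.map (algebraMap K (AdjoinRoot g))).Splits := by
    rw [hP, Polynomial.map_prod]
    refine Splits.prod fun i _ => ?_
    rw [Polynomial.map_sub, Polynomial.map_pow, map_X, map_C]
    obtain ⟨ζ, hζ⟩ := exists_isPrimitiveRoot O (r i) (hrk i)
    obtain ⟨w, hw⟩ := exists_pow_eq_of_isUnit O (r i) (hrk i) (v i : O) (v i).isUnit
    have hζM : IsPrimitiveRoot (algebraMap K (AdjoinRoot g) (algebraMap O K ζ)) (r i) :=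
      (hζ.map_of_injective (IsFractionRing.injective O K)).map_of_injective
        (algebraMap K (AdjoinRoot g)).injective
    refine X_pow_sub_C_splits_of_isPrimitiveRoot hζM
      (α := algebraMap K (AdjoinRoot g) (algebraMap O K w) * θ ^ (N / r i * b i)) ?_
    have hdvd : r i ∣ N := Finset.dvd_lcm (Finset.mem_univ i)
    rw [mul_pow, ← map_pow, ← map_pow, hw, ← pow_mul, mul_right_comm, Nat.div_mul_cancel hdvd,
      pow_mul, hθN, hc]
    simp only [map_mul, map_pow]
  let ι := SplittingField.lift P hsplitM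
  have hup : Module.finrank K P.SplittingField ≤ N := by
    rw [← hfinM]
    exact LinearMap.finrank_le_finrank_of_injective (f := ι.toLinearMap) ι.injective
  haveI : FiniteDimensional K P.SplittingField := IsSplittingField.finiteDimensional _ P
  have hpos : 0 < Module.finrank K P.SplittingField := Module.finrank_pos
  exact Nat.le_antisymm hup (Nat.le_of_dvd hpos hlow)

end Groth.Agent.Lib.EisTameH3
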