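import Mathlib
import Groth.Agent.Lib.PRootCot4_helper3
import Groth.Agent.Lib.IntegralHeight_helper5
import Groth.Agent.Lib.Serre_helper5

/-!
# Quotients of a regular local ring by Eisenstein-type one-variable polynomials (helper9)

`A' = A[T_1..T_r]/(F_1..F_r)` with `F_i = T_i^{d_i} + Σ_{k<d_i} c_{ik} T_i^k`, `c_{ik} ∈ 𝔪`, `d_i ≥ 2`:
`A'` is local with residue field `A/𝔪`, and it is regular iff the `c_{i0}` are linearly independent
in `𝔪/𝔪²`.  APPEND-ONLY once landed.
-/

set_option autoImplicit false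
set_option maxHeartbeats 400000
set_option linter.style.haveILetI false
universe u

namespace Groth.Agent.Eisen9

open MvPolynomial IsLocalRing

section Basic

variable {A : Type u} [CommRing A] {r : ℕ} (d : Fin r → ℕ) (c : Fin r → ℕ → A)

/-- the polynomials `F_i` -/
noncomputable def FF : Fin r → MvPolynomial (Fin r) A := fun i =>
  MvPolynomial.X i ^ d i + (Finset.range (d i)).sum fun k =>
    MvPolynomial.C (c i k) * MvPolynomial.X i ^ k

/-- the one-variable polynomials `q_i` -/
noncomputable def qq : Fin r → Polynomial A := fun i =>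
  Polynomial.X ^ d i + (Finset.range (d i)).sum fun k =>
    Polynomial.C (c i k) * Polynomial.X ^ k

theorem FF_eq_aeval (i : Fin r) :
    FF d c i = Polynomial.aeval (X i : MvPolynomial (Fin r) A) (qq d c i) := by
  unfold FF qq
  simp only [map_add, map_pow, map_sum, map_mul, Polynomial.aeval_X, Polynomial.aeval_C]
  rfl

theorem qq_tail_degree_lt (i : Fin r) :
    ((Finset.range (d i)).sum fun k => Polynomial.C (c i k) * Polynomial.X ^ k).degree <
      (d i : WithBot ℕ) := by
  apply lt_of_le_of_lt (Polynomial.degree_sum_le _ _)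
  rw [Finset.sup_lt_iff (WithBot.bot_lt_coe _)]
  intro k hk
  apply lt_of_le_of_lt (Polynomial.degree_C_mul_X_pow_le k (c i k))
  exact_mod_cast Finset.mem_range.1 hk

theorem qq_monic (i : Fin r) : (qq d c i).Monic :=
  Polynomial.monic_X_pow_add (qq_tail_degree_lt d c i)

theorem qq_natDegree [Nontrivial A] (i : Fin r) : (qq d c i).natDegree = d i := by
  unfold qq
  rw [Polynomial.natDegree_add_eq_left_of_degree_lt, Polynomial.natDegree_X_pow]
  rw [Polynomial.degree_X_pow]
  exact qq_tail_degree_lt d c i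

theorem constantCoeff_FF (hd : ∀ i, 1 ≤ d i) (i : Fin r) : constantCoeff (FF d c i) = c i 0 := by
  unfold FF
  rw [map_add, map_pow, constantCoeff_X, zero_pow (by have := hd i; omega), zero_add, map_sum]
  rw [Finset.sum_eq_single 0]
  · simp
  · intro k _ hk
    rw [map_mul, map_pow, constantCoeff_X, zero_pow hk, mul_zero]
  · intro h
    exact absurd (Finset.mem_range.2 (by have := hd i; omega)) h

/-- `X_i ^ d_i` is congruent to minus the tail modulo `(F)` -/
theorem X_pow_eq (i : Fin r) :
    (X i : MvPolynomial (Fin r) A) ^ d i = FF d c i -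
      (Finset.range (d i)).sum fun k => MvPolynomial.C (c i k) * MvPolynomial.X i ^ k := by
  unfold FF
  ring

end Basic

section Local

variable {A : Type u} [CommRing A] [IsLocalRing A] {r : ℕ} (d : Fin r → ℕ) (c : Fin r → ℕ → A)

local notation "PP" => MvPolynomial (Fin r) A

/-- the maximal ideal `(𝔪, T_1, …, T_r)` of the polynomial ring -/
noncomputable def MM : Ideal (MvPolynomial (Fin r) A) :=
  (maximalIdeal A).comap (constantCoeff : MvPolynomial (Fin r) A →+* A)

theorem mem_MM (g : MvPolynomial (Fin r) A) :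
    g ∈ MM (A := A) (r := r) ↔ constantCoeff g ∈ maximalIdeal A := Iff.rfl

instance MM_isMaximal : (MM (A := A) (r := r)).IsMaximal :=
  Ideal.comap_isMaximal_of_surjective _ (fun a => ⟨C a, constantCoeff_C _ a⟩)

theorem span_FF_le_MM (hd : ∀ i, 1 ≤ d i) (hc : ∀ i k, c i k ∈ maximalIdeal A) :
    Ideal.span (Set.range (FF d c)) ≤ MM := by
  rw [Ideal.span_le]
  rintro _ ⟨i, rfl⟩
  rw [SetLike.mem_coe, mem_MM, constantCoeff_FF d c hd]
  exact hc i 0

theorem span_FF_ne_top (hd : ∀ i, 1 ≤ d i) (hc : ∀ i k, c i k ∈ maximalIdeal A) :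
    Ideal.span (Set.range (FF d c)) ≠ ⊤ := by
  intro h
  have := span_FF_le_MM d c hd hc
  rw [h, top_le_iff] at this
  exact (MM_isMaximal (A := A) (r := r)).ne_top this

/-- a prime of the polynomial ring containing `(F)` and `𝔪` contains `MM` -/
theorem MM_le_of_prime (hc : ∀ i k, c i k ∈ maximalIdeal A) (M : Ideal (MvPolynomial (Fin r) A))
    [M.IsPrime] (hI : Ideal.span (Set.range (FF d c)) ≤ M)
    (hm : ∀ a ∈ maximalIdeal A, (C a : MvPolynomial (Fin r) A) ∈ M) : MM ≤ M := by
  have hX : ∀ i, (X i : PP) ∈ M := by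
    intro i
    have h1 : (X i : PP) ^ d i ∈ M := by
      rw [X_pow_eq d c i]
      apply Ideal.sub_mem
      · exact hI (Ideal.subset_span ⟨i, rfl⟩)
      · apply Ideal.sum_mem
        intro k _
        exact Ideal.mul_mem_right _ _ (hm _ (hc i k))
    exact Ideal.IsPrime.mem_of_pow_mem inferInstance _ h1
  intro g hg
  rw [mem_MM] at hg
  have hext : (Ideal.Quotient.mkₐ A M : PP →ₐ[A] PP ⧸ M) =
      (Algebra.ofId A (PP ⧸ M)).comp (aeval (0 : Fin r → A)) := by
    apply MvPolynomial.algHom_ext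
    intro i
    rw [AlgHom.comp_apply, MvPolynomial.aeval_X, Pi.zero_apply, map_zero,
      Ideal.Quotient.mkₐ_eq_mk, Ideal.Quotient.eq_zero_iff_mem]
    exact hX i
  have h1 := congrArg (fun φ => φ g) hext
  simp only [AlgHom.comp_apply] at h1
  rw [MvPolynomial.aeval_zero, Algebra.algebraMap_self, RingHom.id_apply,
    Ideal.Quotient.mkₐ_eq_mk] at h1
  have h2 : (Algebra.ofId A (PP ⧸ M)) (constantCoeff g) = Ideal.Quotient.mk M (C (constantCoeff g)) :=
    rfl
  rw [h2, ← sub_eq_zero, ← map_sub, Ideal.Quotient.eq_zero_iff_mem] at h1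
  have := Ideal.add_mem _ h1 (hm _ hg)
  rwa [sub_add_cancel] at this

local notation "A'" => MvPolynomial (Fin r) A ⧸ Ideal.span (Set.range (FF d c))

instance isIntegral_quot : Algebra.IsIntegral A
    (MvPolynomial (Fin r) A ⧸ Ideal.span (Set.range (FF d c))) :=
  Groth.Agent.Lib.PRootCotH3.isIntegral_quotient _
    (Groth.Agent.Lib.PRootCotH3.isIntegral_mk_X (qq d c) (FF d c) (FF_eq_aeval d c) (qq_monic d c))

/-- every maximal ideal of `A'` is the image of `MM` -/
theorem maximal_eq (hc : ∀ i k, c i k ∈ maximalIdeal A)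
    (M' : Ideal (MvPolynomial (Fin r) A ⧸ Ideal.span (Set.range (FF d c)))) [hM' : M'.IsMaximal] :
    M' = (MM (A := A) (r := r)).map (Ideal.Quotient.mk (Ideal.span (Set.range (FF d c)))) := by
  set M := M'.comap (Ideal.Quotient.mk (Ideal.span (Set.range (FF d c)))) with hM
  haveI : M.IsMaximal := Ideal.comap_isMaximal_of_surjective _ Ideal.Quotient.mk_surjective
  have hIM : Ideal.span (Set.range (FF d c)) ≤ M := by
    intro x hx
    rw [hM, Ideal.mem_comap, Ideal.Quotient.eq_zero_iff_mem.2 hx]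
    exact zero_mem _
  have hmax : (M'.comap (algebraMap A (PP ⧸ Ideal.span (Set.range (FF d c))))).IsMaximal :=
    Ideal.isMaximal_comap_of_isIntegral_of_isMaximal M'
  have hm : ∀ a ∈ maximalIdeal A, (C a : PP) ∈ M := by
    intro a ha
    rw [← IsLocalRing.eq_maximalIdeal hmax] at ha
    exact ha
  have hle := MM_le_of_prime d c hc M hIM hm
  have hMeq : MM = M :=
    (MM_isMaximal (A := A) (r := r)).eq_of_le (Ideal.IsPrime.ne_top inferInstance) hle
  rw [hMeq, hM, Ideal.map_comap_of_surjective _ Ideal.Quotient.mk_surjective]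

theorem isLocalRing_quot (hd : ∀ i, 1 ≤ d i) (hc : ∀ i k, c i k ∈ maximalIdeal A) :
    IsLocalRing (MvPolynomial (Fin r) A ⧸ Ideal.span (Set.range (FF d c))) := by
  haveI : Nontrivial (PP ⧸ Ideal.span (Set.range (FF d c))) :=
    Ideal.Quotient.nontrivial_iff.2 (span_FF_ne_top d c hd hc)
  apply IsLocalRing.of_unique_max_ideal
  obtain ⟨M', hM'⟩ := Ideal.exists_maximal (PP ⧸ Ideal.span (Set.range (FF d c)))
  refine ⟨M', hM', ?_⟩
  intro M'' hM''
  haveI := hM'
  haveI := hM''
  rw [maximal_eq d c hc M', maximal_eq d c hc M'']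

theorem residue_surjective (hc : ∀ i k, c i k ∈ maximalIdeal A)
    (M' : Ideal (MvPolynomial (Fin r) A ⧸ Ideal.span (Set.range (FF d c)))) [hM' : M'.IsMaximal] :
    Function.Surjective ((Ideal.Quotient.mk M').comp
      (algebraMap A (MvPolynomial (Fin r) A ⧸ Ideal.span (Set.range (FF d c))))) := by
  intro y
  obtain ⟨y', rfl⟩ := Ideal.Quotient.mk_surjective y
  obtain ⟨g, rfl⟩ := Ideal.Quotient.mk_surjective y'
  refine ⟨constantCoeff g, ?_⟩
  rw [RingHom.comp_apply, ← sub_eq_zero, ← map_sub, Ideal.Quotient.eq_zero_iff_mem,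
    maximal_eq d c hc M']
  have : algebraMap A (PP ⧸ Ideal.span (Set.range (FF d c))) (constantCoeff g) -
      Ideal.Quotient.mk _ g = Ideal.Quotient.mk _ (C (constantCoeff g) - g) := by
    rw [map_sub]
    rfl
  rw [this]
  apply Ideal.mem_map_of_mem
  rw [mem_MM, map_sub, constantCoeff_C, sub_self]
  exact zero_mem _

end Local

end Groth.Agent.Eisen9
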