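import Mathlib
import Groth.Agent.Lib.Eisen1_helper9

/-!
# Eisenstein-type quotients of a regular local ring: dimension and the sufficiency direction
(helper9).  APPEND-ONLY once landed.
-/

set_option autoImplicit false
set_option maxHeartbeats 400000
set_option linter.style.haveILetI false
universe u

namespace Groth.Agent.Eisen9

open MvPolynomial IsLocalRing

section Gen

variable {A : Type u} [CommRing A] {r : ℕ}

/-- a polynomial minus its constant term lies in any ideal containing the variables -/
theorem sub_C_mem (M : Ideal (MvPolynomial (Fin r) A)) (hX : ∀ i, (X i : MvPolynomial (Fin r) A) ∈ M)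
    (g : MvPolynomial (Fin r) A) : g - C (constantCoeff g) ∈ M := by
  have hext : (Ideal.Quotient.mkₐ A M : MvPolynomial (Fin r) A →ₐ[A] MvPolynomial (Fin r) A ⧸ M) =
      (Algebra.ofId A (MvPolynomial (Fin r) A ⧸ M)).comp (aeval (0 : Fin r → A)) := by
    apply MvPolynomial.algHom_ext
    intro i
    rw [AlgHom.comp_apply, MvPolynomial.aeval_X, Pi.zero_apply, map_zero,
      Ideal.Quotient.mkₐ_eq_mk, Ideal.Quotient.eq_zero_iff_mem]
    exact hX i
  have h1 := congrArg (fun φ => φ g) hext
  simp only [AlgHom.comp_apply] at h1
  rw [MvPolynomial.aeval_zero, Algebra.algebraMap_self, RingHom.id_apply,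
    Ideal.Quotient.mkₐ_eq_mk] at h1
  have h2 : (Algebra.ofId A (MvPolynomial (Fin r) A ⧸ M)) (constantCoeff g) =
      Ideal.Quotient.mk M (C (constantCoeff g)) := rfl
  rw [h2, ← sub_eq_zero, ← map_sub, Ideal.Quotient.eq_zero_iff_mem] at h1
  exact h1

end Gen

section Regular

variable {A : Type u} [CommRing A] [IsRegularLocalRing A] {r : ℕ} (d : Fin r → ℕ)
  (c : Fin r → ℕ → A)

local notation "PP" => MvPolynomial (Fin r) A
local notation "A'" => MvPolynomial (Fin r) A ⧸ Ideal.span (Set.range (FF d c))

theorem dim_quot (hd : ∀ i, 2 ≤ d i) :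
    ringKrullDim (MvPolynomial (Fin r) A ⧸ Ideal.span (Set.range (FF d c))) = ringKrullDim A :=
  Groth.Agent.IntegralHeight.ringKrullDim_eq_of_isIntegral_of_injective A _
    (Groth.Agent.Lib.PRootCotH3.algebraMap_injective_quotient (qq d c) (FF d c) (FF_eq_aeval d c)
      (qq_monic d c) (fun i => by rw [qq_natDegree]; have := hd i; omega))

/-- `C (c i 0)` lies in `(F) + (X_i)` -/
theorem C_c0_mem (hd : ∀ i, 2 ≤ d i) (i : Fin r) :
    (C (c i 0) : PP) ∈ Ideal.span (Set.range (FF d c)) ⊔ Ideal.span {(X i : PP)} := by
  have hFi : FF d c i ∈ Ideal.span (Set.range (FF d c)) := Ideal.subset_span ⟨i, rfl⟩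
  have hXi : (X i : PP) ∈ Ideal.span {(X i : PP)} := Ideal.subset_span rfl
  have hdi := hd i
  have h1 : (C (c i 0) : PP) = FF d c i - (X i ^ d i +
      (Finset.range (d i)).sum fun k => if k = 0 then 0 else C (c i k) * X i ^ k) := by
    unfold FF
    rw [add_sub_add_left_eq_sub, ← Finset.sum_sub_distrib, Finset.sum_eq_single 0]
    · simp
    · intro k _ hk
      rw [if_neg hk, sub_self]
    · intro h
      exact absurd (Finset.mem_range.2 (by omega)) h
  rw [h1]
  apply Ideal.sub_mem
  · exact Ideal.mem_sup_left hFi
  · apply Ideal.mem_sup_right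
    apply Ideal.add_mem
    · have : (X i : PP) ^ d i = X i ^ (d i - 1) * X i := by
        rw [← pow_succ]
        congr 1
        omega
      rw [this]
      exact Ideal.mul_mem_left _ _ hXi
    · apply Ideal.sum_mem
      intro k _
      split_ifs with hk
      · exact zero_mem _
      · have : (X i : PP) ^ k = X i ^ (k - 1) * X i := by
          rw [← pow_succ]
          congr 1
          omega
        rw [this, ← mul_assoc]
        exact Ideal.mul_mem_left _ _ hXi

/-- **Sufficiency**: linear independence of the constant terms gives regularity -/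
theorem regular_of_linearIndependent (hd : ∀ i, 2 ≤ d i) (hc : ∀ i k, c i k ∈ maximalIdeal A)
    (hli : LinearIndependent (ResidueField A)
      (fun i => (maximalIdeal A).toCotangent ⟨c i 0, hc i 0⟩)) :
    IsRegularLocalRing (MvPolynomial (Fin r) A ⧸ Ideal.span (Set.range (FF d c))) := by
  classical
  have hd1 : ∀ i, 1 ≤ d i := fun i => by have := hd i; omega
  haveI : IsLocalRing A' := isLocalRing_quot d c hd1 hc
  apply IsRegularLocalRing.of_spanFinrank_maximalIdeal_le
  rw [dim_quot d c hd]
  have hA := (IsRegularLocalRing.iff_finrank_cotangentSpace A).1 inferInstance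
  rw [← hA]
  set v : Fin r → CotangentSpace A := fun i => (maximalIdeal A).toCotangent ⟨c i 0, hc i 0⟩ with hv
  set W : Submodule (ResidueField A) (CotangentSpace A) :=
    Submodule.span (ResidueField A) (Set.range v) with hW
  have hWr : Module.finrank (ResidueField A) W = r := by
    rw [hW, finrank_span_eq_card hli, Fintype.card_fin]
  set m := Module.finrank (ResidueField A) (CotangentSpace A ⧸ W) with hm
  have hn : Module.finrank (ResidueField A) (CotangentSpace A) = m + r := by
    rw [hm, ← hWr]
    exact (Submodule.finrank_quotient_add_finrank W).symm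
  let b : Module.Basis (Fin m) (ResidueField A) (CotangentSpace A ⧸ W) :=
    Module.finBasis (ResidueField A) (CotangentSpace A ⧸ W)
  choose y hy using fun j => Submodule.mkQ_surjective W (b j)
  choose x hx using fun j => (maximalIdeal A).toCotangent_surjective (y j)
  set S : Set (maximalIdeal A) :=
    Set.range (fun i => (⟨c i 0, hc i 0⟩ : maximalIdeal A)) ∪ Set.range x with hS
  have hspanV : Submodule.span (ResidueField A) ((maximalIdeal A).toCotangent '' S) = ⊤ := by
    rw [eq_top_iff]
    intro w _
    have h1 : W.mkQ w = W.mkQ (∑ j, b.repr (W.mkQ w) j • y j) := by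
      rw [map_sum]
      simp_rw [map_smul, hy]
      exact (b.sum_repr _).symm
    have h2 : w - ∑ j, b.repr (W.mkQ w) j • y j ∈ W := by
      rw [← Submodule.Quotient.mk_eq_zero, Submodule.Quotient.mk_sub, sub_eq_zero]
      exact h1
    have h3 : W ≤ Submodule.span (ResidueField A) ((maximalIdeal A).toCotangent '' S) := by
      rw [hW]
      apply Submodule.span_mono
      rintro _ ⟨i, rfl⟩
      exact ⟨⟨c i 0, hc i 0⟩, Or.inl ⟨i, rfl⟩, rfl⟩
    have h4 : ∑ j, b.repr (W.mkQ w) j • y j ∈
        Submodule.span (ResidueField A) ((maximalIdeal A).toCotangent '' S) := by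
      apply Submodule.sum_mem
      intro j _
      apply Submodule.smul_mem
      apply Submodule.subset_span
      exact ⟨x j, Or.inr ⟨j, rfl⟩, hx j⟩
    have := Submodule.add_mem _ (h3 h2) h4
    rwa [sub_add_cancel] at this
  have hspanm : Submodule.span A S = ⊤ := CotangentSpace.span_image_eq_top_iff.1 hspanV
  have hm_eq : maximalIdeal A = Ideal.span ((fun s : maximalIdeal A => (s : A)) '' S) := by
    have := congrArg (Submodule.map (maximalIdeal A).subtype) hspanm
    rw [Submodule.map_span, Submodule.map_top, Submodule.range_subtype] at this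
    exact this.symm
  -- generators of the maximal ideal of `A'`
  set G : Fin m ⊕ Fin r → A' := fun t => Sum.elim
    (fun j => Ideal.Quotient.mk _ (C ((x j : maximalIdeal A) : A)))
    (fun i => Ideal.Quotient.mk _ (X i)) t with hG
  have hmax : maximalIdeal A' = (MM (A := A) (r := r)).map (Ideal.Quotient.mk _) :=
    maximal_eq d c hc (maximalIdeal A')
  have heq : maximalIdeal A' = Ideal.span (Set.range G) := by
    apply le_antisymm
    · rw [hmax, Ideal.map_le_iff_le_comap]
      set M := (Ideal.span (Set.range G)).comap (Ideal.Quotient.mk (Ideal.span (Set.range (FF d c))))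
        with hM
      have hXM : ∀ i, (X i : PP) ∈ M := by
        intro i
        rw [hM, Ideal.mem_comap]
        exact Ideal.subset_span ⟨Sum.inr i, rfl⟩
      have hIM : Ideal.span (Set.range (FF d c)) ≤ M := by
        intro g hg
        rw [hM, Ideal.mem_comap, Ideal.Quotient.eq_zero_iff_mem.2 hg]
        exact zero_mem _
      have hCM : ∀ a ∈ maximalIdeal A, (C a : PP) ∈ M := by
        intro a ha
        rw [hm_eq] at ha
        have h1 : (C a : PP) ∈ (Ideal.span ((fun s : maximalIdeal A => (s : A)) '' S)).map
            (C : A →+* PP) := Ideal.mem_map_of_mem _ ha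
        rw [Ideal.map_span] at h1
        refine (Ideal.span_le.2 ?_) h1
        rintro _ ⟨_, ⟨s, hs, rfl⟩, rfl⟩
        rcases hs with ⟨i, rfl⟩ | ⟨j, rfl⟩
        · have h2 := C_c0_mem d c hd i
          refine (sup_le hIM ?_) h2
          rw [Ideal.span_le, Set.singleton_subset_iff]
          exact hXM i
        · rw [SetLike.mem_coe, hM, Ideal.mem_comap]
          exact Ideal.subset_span ⟨Sum.inl j, rfl⟩
      intro g hg
      rw [mem_MM] at hg
      have h1 := sub_C_mem M hXM g
      have := Ideal.add_mem _ h1 (hCM _ hg)
      rwa [sub_add_cancel] at this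
    · rw [Ideal.span_le, hmax]
      rintro _ ⟨t, rfl⟩
      rcases t with j | i
      · apply Ideal.mem_map_of_mem
        rw [mem_MM, constantCoeff_C]
        exact (x j).2
      · apply Ideal.mem_map_of_mem
        rw [mem_MM, constantCoeff_X]
        exact zero_mem _
  have hcard : (Set.range G).encard ≤ ((m + r : ℕ) : ℕ∞) := by
    have hr : Set.range G = G '' Set.univ := Set.image_univ.symm
    rw [hr]
    refine le_trans (Set.encard_image_le G Set.univ) ?_
    rw [Set.encard_univ, ENat.card_eq_coe_fintype_card, Fintype.card_sum, Fintype.card_fin,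
      Fintype.card_fin]
  have h5 : ((maximalIdeal A').spanFinrank : ℕ∞) ≤ ((m + r : ℕ) : ℕ∞) := by
    rw [heq]
    exact le_trans (Submodule.spanFinrank_span_le_encard _) hcard
  rw [hn]
  exact_mod_cast h5

end Regular

end Groth.Agent.Eisen9
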