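import Mathlib
import Groth.Agent.Lib.Eisen2_helper9

/-!
# Eisenstein-type quotients of a regular local ring: the necessity direction (helper9)
APPEND-ONLY once landed.
-/

set_option autoImplicit false
set_option maxHeartbeats 400000
set_option linter.style.haveILetI false
universe u

namespace Groth.Agent.Eisen9

open MvPolynomial IsLocalRing

section Functional

variable {A : Type u} [CommRing A] [IsLocalRing A] {r : ℕ}
  (W : Submodule (ResidueField A) (CotangentSpace A))

local notation "PP" => MvPolynomial (Fin r) A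

/-- the functional reading off the class of the constant term and the residues of the linear
coefficients -/
noncomputable def Lfun (g : MM (A := A) (r := r)) :
    (CotangentSpace A ⧸ W) × (Fin r → ResidueField A) :=
  (W.mkQ ((maximalIdeal A).toCotangent ⟨constantCoeff g.1, g.2⟩),
    fun i => residue A (constantCoeff (pderiv i g.1)))

theorem Lfun_add (g g' : MM (A := A) (r := r)) : Lfun W (g + g') = Lfun W g + Lfun W g' := by
  unfold Lfun
  apply Prod.ext
  · have : (⟨constantCoeff (g + g').1, (g + g').2⟩ : maximalIdeal A) =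
        ⟨constantCoeff g.1, g.2⟩ + ⟨constantCoeff g'.1, g'.2⟩ := by
      apply Subtype.ext
      simp
    simp only [Prod.fst_add]
    rw [this, map_add, map_add]
  · funext i
    simp

theorem Lfun_zero : Lfun W (0 : MM (A := A) (r := r)) = 0 := by
  have := Lfun_add W (0 : MM (A := A) (r := r)) 0
  rw [add_zero] at this
  exact left_eq_add.1 this

/-- `Lfun` as an additive map -/
noncomputable def LAdd : MM (A := A) (r := r) →+ (CotangentSpace A ⧸ W) × (Fin r → ResidueField A) where
  toFun := Lfun W
  map_zero' := Lfun_zero W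
  map_add' := Lfun_add W

theorem Lfun_mul (h : MvPolynomial (Fin r) A) (g : MM (A := A) (r := r)) :
    Lfun W ⟨h * g.1, Ideal.mul_mem_left _ h g.2⟩ = residue A (constantCoeff h) • Lfun W g := by
  unfold Lfun
  apply Prod.ext
  · have : (⟨constantCoeff (h * g.1), Ideal.mul_mem_left (MM (A := A) (r := r)) h g.2⟩ :
        maximalIdeal A) = constantCoeff h • ⟨constantCoeff g.1, g.2⟩ := by
      apply Subtype.ext
      simp
    simp only [Prod.smul_fst]
    rw [this, map_smul, ← algebraMap_smul (ResidueField A) (constantCoeff h),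
      IsLocalRing.ResidueField.algebraMap_eq, map_smul]
  · funext i
    simp only [Prod.smul_snd, Pi.smul_apply, smul_eq_mul]
    rw [Derivation.leibniz, map_add, map_add, smul_eq_mul, smul_eq_mul, map_mul, map_mul, map_mul,
      map_mul]
    have : residue A (constantCoeff g.1) = 0 := (residue_eq_zero_iff _).2 g.2
    rw [this, zero_mul, add_zero]

section FF

variable (d : Fin r → ℕ) (c : Fin r → ℕ → A)

theorem constantCoeff_pderiv_FF_mem (hd : ∀ i, 2 ≤ d i) (hc : ∀ i k, c i k ∈ maximalIdeal A)
    (i j : Fin r) : constantCoeff (pderiv j (FF d c i)) ∈ maximalIdeal A := by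
  unfold FF
  rw [map_add, map_add, map_sum, map_sum]
  apply Ideal.add_mem
  · rw [Derivation.leibniz_pow, nsmul_eq_mul, smul_eq_mul, map_mul, map_mul, map_pow,
      constantCoeff_X, zero_pow (by have := hd i; omega), zero_mul, mul_zero]
    exact zero_mem _
  · apply Ideal.sum_mem
    intro k _
    rw [Derivation.leibniz, pderiv_C, smul_zero, add_zero, smul_eq_mul, map_mul, constantCoeff_C]
    exact Ideal.mul_mem_right _ _ (hc i k)

theorem Lfun_FF (hd : ∀ i, 2 ≤ d i) (hc : ∀ i k, c i k ∈ maximalIdeal A)
    (hW : ∀ i, (maximalIdeal A).toCotangent ⟨c i 0, hc i 0⟩ ∈ W) (i : Fin r)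
    (hmem : FF d c i ∈ MM (A := A) (r := r)) : Lfun W ⟨FF d c i, hmem⟩ = 0 := by
  unfold Lfun
  apply Prod.ext
  · have : (⟨constantCoeff (FF d c i), hmem⟩ : maximalIdeal A) = ⟨c i 0, hc i 0⟩ := by
      apply Subtype.ext
      exact constantCoeff_FF d c (fun i => by have := hd i; omega) i
    simp only [Prod.fst_zero]
    rw [this, Submodule.mkQ_apply, Submodule.Quotient.mk_eq_zero]
    exact hW i
  · funext j
    simp only [Prod.snd_zero, Pi.zero_apply]
    exact (residue_eq_zero_iff _).2 (constantCoeff_pderiv_FF_mem d c hd hc i j)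

/-- `Lfun` kills the ideal `(F)` -/
theorem Lfun_eq_zero_of_mem (hd : ∀ i, 2 ≤ d i) (hc : ∀ i k, c i k ∈ maximalIdeal A)
    (hW : ∀ i, (maximalIdeal A).toCotangent ⟨c i 0, hc i 0⟩ ∈ W)
    (e : MM (A := A) (r := r)) (he : e.1 ∈ Ideal.span (Set.range (FF d c))) : Lfun W e = 0 := by
  have hFM : ∀ i, FF d c i ∈ MM (A := A) (r := r) := fun i =>
    span_FF_le_MM d c (fun i => by have := hd i; omega) hc (Ideal.subset_span ⟨i, rfl⟩)
  obtain ⟨k, hk⟩ := Ideal.mem_span_range_iff_exists_fun.1 he
  have h1 : e = ∑ i, (⟨k i * FF d c i, Ideal.mul_mem_left _ (k i) (hFM i)⟩ : MM (A := A) (r := r)) := by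
    apply Subtype.ext
    rw [← hk]
    simp
  change LAdd W e = 0
  rw [h1, map_sum]
  apply Finset.sum_eq_zero
  intro i _
  change Lfun W ⟨k i * (⟨FF d c i, hFM i⟩ : MM (A := A) (r := r)).1, _⟩ = 0
  rw [Lfun_mul W (k i) ⟨FF d c i, hFM i⟩, Lfun_FF W d c hd hc hW i (hFM i), smul_zero]

end FF

theorem Lfun_surjective : Function.Surjective (Lfun (r := r) W) := by
  rintro ⟨w, l⟩
  obtain ⟨w', rfl⟩ := Submodule.mkQ_surjective W w
  obtain ⟨a, rfl⟩ := (maximalIdeal A).toCotangent_surjective w'
  choose b hb using fun i => _root_.IsLocalRing.residue_surjective (l i)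
  have hmem : (C (a : A) + ∑ i, C (b i) * X i : PP) ∈ MM (A := A) (r := r) := by
    rw [mem_MM]
    simp
  refine ⟨⟨_, hmem⟩, ?_⟩
  unfold Lfun
  apply Prod.ext
  · simp only
    congr 2
    apply Subtype.ext
    simp
  · funext j
    simp only
    rw [← hb j]
    congr 1
    simp [pderiv_X, Pi.single_apply, Finset.sum_ite_eq]

end Functional

section Necessity

variable {A : Type u} [CommRing A] [IsRegularLocalRing A] {r : ℕ} (d : Fin r → ℕ)
  (c : Fin r → ℕ → A)

local notation "PP" => MvPolynomial (Fin r) A
local notation "A'" => MvPolynomial (Fin r) A ⧸ Ideal.span (Set.range (FF d c))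

/-- **Necessity**: regularity forces linear independence of the constant terms -/
theorem linearIndependent_of_regular (hd : ∀ i, 2 ≤ d i) (hc : ∀ i k, c i k ∈ maximalIdeal A)
    [hreg : IsRegularLocalRing (MvPolynomial (Fin r) A ⧸ Ideal.span (Set.range (FF d c)))] :
    LinearIndependent (ResidueField A)
      (fun i => (maximalIdeal A).toCotangent ⟨c i 0, hc i 0⟩) := by
  classical
  have hd1 : ∀ i, 1 ≤ d i := fun i => by have := hd i; omega
  set v : Fin r → CotangentSpace A := fun i => (maximalIdeal A).toCotangent ⟨c i 0, hc i 0⟩ with hv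
  set W : Submodule (ResidueField A) (CotangentSpace A) :=
    Submodule.span (ResidueField A) (Set.range v) with hW
  have hWmem : ∀ i, (maximalIdeal A).toCotangent ⟨c i 0, hc i 0⟩ ∈ W := fun i =>
    Submodule.subset_span ⟨i, rfl⟩
  rw [linearIndependent_iff_card_eq_finrank_span, Fintype.card_fin]
  change r = Module.finrank (ResidueField A) W
  have hle : Module.finrank (ResidueField A) W ≤ r := by
    have := finrank_range_le_card (R := ResidueField A) v
    rwa [Fintype.card_fin] at this
  refine le_antisymm ?_ hle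
  -- the number `n`
  set n := Module.finrank (ResidueField A) (CotangentSpace A) with hn
  have hA : (n : WithBot ℕ∞) = ringKrullDim A :=
    (IsRegularLocalRing.iff_finrank_cotangentSpace A).1 inferInstance
  have hsf : (maximalIdeal A').spanFinrank = n := by
    have h1 := hreg.spanFinrank_maximalIdeal
    rw [dim_quot d c hd, ← hA] at h1
    exact_mod_cast h1
  obtain ⟨t, ht_card, ht_span⟩ := Submodule.FG.exists_span_finset_card_eq_spanFinrank
    (IsNoetherian.noetherian (maximalIdeal A'))
  rw [hsf] at ht_card
  have hmax : maximalIdeal A' = (MM (A := A) (r := r)).map (Ideal.Quotient.mk _) :=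
    maximal_eq d c hc (maximalIdeal A')
  -- lifts of the generators
  have hl : ∀ y : A', ∃ g : MM (A := A) (r := r), y ∈ maximalIdeal A' →
      Ideal.Quotient.mk (Ideal.span (Set.range (FF d c))) g.1 = y := by
    intro y
    by_cases hy : y ∈ maximalIdeal A'
    · rw [hmax, Ideal.mem_map_iff_of_surjective _ Ideal.Quotient.mk_surjective] at hy
      obtain ⟨g, hg, rfl⟩ := hy
      exact ⟨⟨g, hg⟩, fun _ => rfl⟩
    · exact ⟨0, fun h => absurd h hy⟩
  choose gl hgl using hl
  have htm : ∀ y ∈ t, y ∈ maximalIdeal A' := by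
    intro y hy
    rw [← ht_span]
    exact Submodule.subset_span hy
  set T : Finset ((CotangentSpace A ⧸ W) × (Fin r → ResidueField A)) :=
    t.image (fun y => Lfun W (gl y)) with hT
  have hspan : Submodule.span (ResidueField A) (T : Set ((CotangentSpace A ⧸ W) ×
      (Fin r → ResidueField A))) = ⊤ := by
    rw [eq_top_iff]
    intro u _
    obtain ⟨g, rfl⟩ := Lfun_surjective W u
    have hg' : Ideal.Quotient.mk (Ideal.span (Set.range (FF d c))) g.1 ∈ maximalIdeal A' := by
      rw [hmax]
      exact Ideal.mem_map_of_mem _ g.2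
    rw [← ht_span, Submodule.mem_span_finset] at hg'
    obtain ⟨a, -, ha⟩ := hg'
    choose h hh using fun y => Ideal.Quotient.mk_surjective (a y)
    -- the remainder lies in `(F)`
    have hFM := span_FF_le_MM d c hd1 hc
    have hsumM : ∀ y, h y * (gl y).1 ∈ MM (A := A) (r := r) := fun y =>
      Ideal.mul_mem_left _ _ (gl y).2
    set e : PP := g.1 - ∑ y ∈ t, h y * (gl y).1 with he
    have heI : e ∈ Ideal.span (Set.range (FF d c)) := by
      rw [← Ideal.Quotient.eq_zero_iff_mem, he, map_sub, map_sum, ← ha, sub_eq_zero]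
      apply Finset.sum_congr rfl
      intro y hy
      rw [map_mul, hh, hgl y (htm y hy), smul_eq_mul]
    have heM : e ∈ MM (A := A) (r := r) := hFM heI
    have hdecomp : g = (∑ y ∈ t, (⟨h y * (gl y).1, hsumM y⟩ : MM (A := A) (r := r))) + ⟨e, heM⟩ := by
      apply Subtype.ext
      rw [Submodule.coe_add, Submodule.coe_sum]
      simp only [he]
      ring
    change LAdd W g ∈ _
    rw [hdecomp, map_add, map_sum]
    apply Submodule.add_mem
    · apply Submodule.sum_mem
      intro y hy
      change Lfun W ⟨h y * (gl y).1, _⟩ ∈ _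
      rw [Lfun_mul W (h y) (gl y)]
      apply Submodule.smul_mem
      apply Submodule.subset_span
      rw [hT, Finset.coe_image]
      exact ⟨y, hy, rfl⟩
    · change Lfun W ⟨e, heM⟩ ∈ _
      rw [Lfun_eq_zero_of_mem W d c hd hc hWmem ⟨e, heM⟩ heI]
      exact zero_mem _
  -- dimension count
  have h1 : Module.finrank (ResidueField A) ((CotangentSpace A ⧸ W) × (Fin r → ResidueField A)) ≤
      T.card := by
    have := finrank_span_finset_le_card (R := ResidueField A) T
    unfold Set.finrank at this
    rwa [hspan, finrank_top] at this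
  have h2 : T.card ≤ n := by
    rw [← ht_card]
    exact Finset.card_image_le
  have h3 : Module.finrank (ResidueField A) ((CotangentSpace A ⧸ W) × (Fin r → ResidueField A)) =
      Module.finrank (ResidueField A) (CotangentSpace A ⧸ W) + r := by
    rw [Module.finrank_prod, Module.finrank_fin_fun]
  have h4 := Submodule.finrank_quotient_add_finrank W
  rw [← hn] at h4
  omega

end Necessity

section Main

variable {A : Type u} [CommRing A] [IsRegularLocalRing A] {r : ℕ} (d : Fin r → ℕ)
  (c : Fin r → ℕ → A)

theorem main (hd : ∀ i, 2 ≤ d i) (hc : ∀ i k, c i k ∈ maximalIdeal A) :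
    IsLocalRing (MvPolynomial (Fin r) A ⧸ Ideal.span (Set.range (FF d c))) ∧
    (∀ (M : Ideal (MvPolynomial (Fin r) A ⧸ Ideal.span (Set.range (FF d c)))) [M.IsMaximal],
      Function.Surjective ((Ideal.Quotient.mk M).comp (algebraMap A _))) ∧
    (IsRegularRing (MvPolynomial (Fin r) A ⧸ Ideal.span (Set.range (FF d c))) ↔
      LinearIndependent (ResidueField A)
        (fun i => (maximalIdeal A).toCotangent ⟨c i 0, hc i 0⟩)) := by
  have hd1 : ∀ i, 1 ≤ d i := fun i => by have := hd i; omega
  have hloc := isLocalRing_quot d c hd1 hc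
  refine ⟨hloc, fun M _ => residue_surjective d c hc M, ?_⟩
  haveI := hloc
  constructor
  · intro hreg
    haveI := hreg
    haveI : IsRegularLocalRing (MvPolynomial (Fin r) A ⧸ Ideal.span (Set.range (FF d c))) :=
      IsRegularLocalRing.of_isRegularRing_of_isLocalRing _
    exact linearIndependent_of_regular d c hd hc
  · intro hli
    haveI := regular_of_linearIndependent d c hd hc hli
    rw [isRegularRing_iff]
    intro P hP
    exact Groth.Agent.Serre.localization_regular _ P

end Main

end Groth.Agent.Eisen9
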