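import Mathlib

/-!
# Quotients `A[T_1,…,T_r]/(F_1(T_1),…,F_r(T_r))` over a local ring with `m² = 0` (helper4)
-/

set_option autoImplicit false
universe u

namespace Groth.Agent.Lib.EisenH4

open MvPolynomial IsLocalRing

variable {A : Type u} [CommRing A] {r : ℕ}

/-- The polynomials `F_i = T_i^{d_i} + Σ_{k<d_i} c_{ik} T_i^k`. -/
noncomputable def Fpoly (d : Fin r → ℕ) (c : Fin r → ℕ → A) (i : Fin r) : MvPolynomial (Fin r) A :=
  X i ^ d i + ∑ k ∈ Finset.range (d i), C (c i k) * X i ^ k

theorem constantCoeff_Fpoly (d : Fin r → ℕ) (hd : ∀ i, 2 ≤ d i) (c : Fin r → ℕ → A) (i : Fin r) :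
    constantCoeff (Fpoly d c i) = c i 0 := by
  have hdi : 0 < d i := by have := hd i; omega
  unfold Fpoly
  rw [map_add, map_pow, constantCoeff_X, zero_pow hdi.ne', zero_add, map_sum]
  rw [Finset.sum_eq_single 0]
  · rw [map_mul, constantCoeff_C, pow_zero, map_one, mul_one]
  · intro k _ hk
    rw [map_mul, map_pow, constantCoeff_X, zero_pow hk, mul_zero]
  · intro h; exact absurd (Finset.mem_range.mpr hdi) h

section Quot

variable (d : Fin r → ℕ) (hd : ∀ i, 2 ≤ d i) (c : Fin r → ℕ → A)

/-- The quotient ring. -/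
abbrev Q : Type u := MvPolynomial (Fin r) A ⧸ Ideal.span (Set.range (Fpoly d c))

include hd in
theorem span_le_ker {B : Type*} [CommRing B] (φ : A →+* B) (hφ : ∀ i, φ (c i 0) = 0) :
    Ideal.span (Set.range (Fpoly d c)) ≤ RingHom.ker (φ.comp constantCoeff) := by
  rw [Ideal.span_le]
  rintro _ ⟨i, rfl⟩
  rw [SetLike.mem_coe, RingHom.mem_ker, RingHom.comp_apply, constantCoeff_Fpoly d hd c i, hφ i]

/-- The ring hom `A' → B`, `T ↦ 0`, induced by `φ : A → B` killing the constant terms. -/
noncomputable def evalQ {B : Type*} [CommRing B] (φ : A →+* B) (hφ : ∀ i, φ (c i 0) = 0) :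
    Q d c →+* B :=
  Ideal.Quotient.lift _ (φ.comp constantCoeff) (fun p hp => span_le_ker d hd c φ hφ hp)

theorem evalQ_mk {B : Type*} [CommRing B] (φ : A →+* B) (hφ : ∀ i, φ (c i 0) = 0)
    (p : MvPolynomial (Fin r) A) :
    evalQ d hd c φ hφ (Ideal.Quotient.mk _ p) = φ (constantCoeff p) := rfl

theorem algebraMap_Q (a : A) :
    algebraMap A (Q d c) a = Ideal.Quotient.mk _ (C a) := rfl

variable [IsLocalRing A] (hm : maximalIdeal A ^ 2 = ⊥) (hc : ∀ i k, c i k ∈ maximalIdeal A)

include hm in
theorem mkC_sq (a b : A) (ha : a ∈ maximalIdeal A) (hb : b ∈ maximalIdeal A) :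
    (Ideal.Quotient.mk (Ideal.span (Set.range (Fpoly d c))) (C a)) *
      Ideal.Quotient.mk _ (C b) = 0 := by
  have h : a * b = 0 := by
    have : a * b ∈ maximalIdeal A ^ 2 := by
      rw [pow_two]; exact Ideal.mul_mem_mul ha hb
    rw [hm] at this
    exact this
  rw [← map_mul, ← map_mul, h, map_zero, map_zero]

include hm hc in
theorem mkX_nilpotent (i : Fin r) :
    IsNilpotent (Ideal.Quotient.mk (Ideal.span (Set.range (Fpoly d c))) (X i)) := by
  have h0 : Ideal.Quotient.mk (Ideal.span (Set.range (Fpoly d c))) (Fpoly d c i) = 0 :=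
    Ideal.Quotient.eq_zero_iff_mem.mpr (Ideal.subset_span ⟨i, rfl⟩)
  have hF : Fpoly d c i = X i ^ d i + ∑ k ∈ Finset.range (d i), C (c i k) * X i ^ k := rfl
  rw [hF, map_add, map_pow, map_sum] at h0
  have h1 : (Ideal.Quotient.mk (Ideal.span (Set.range (Fpoly d c))) (X i)) ^ d i =
      - ∑ k ∈ Finset.range (d i),
        Ideal.Quotient.mk (Ideal.span (Set.range (Fpoly d c))) (C (c i k) * X i ^ k) :=
    eq_neg_of_add_eq_zero_left h0
  have h2 : (∑ k ∈ Finset.range (d i),
      Ideal.Quotient.mk (Ideal.span (Set.range (Fpoly d c))) (C (c i k) * X i ^ k)) ^ 2 = 0 := by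
    rw [pow_two, Finset.sum_mul_sum]
    refine Finset.sum_eq_zero fun k _ => Finset.sum_eq_zero fun l _ => ?_
    rw [map_mul, map_mul, mul_mul_mul_comm, mkC_sq d c hm _ _ (hc i k) (hc i l), zero_mul]
  refine ⟨d i * 2, ?_⟩
  rw [pow_mul, h1]
  exact (neg_sq _).trans h2

include hm hc in
theorem sub_mem_nilradical (p : MvPolynomial (Fin r) A) :
    Ideal.Quotient.mk (Ideal.span (Set.range (Fpoly d c))) p -
      Ideal.Quotient.mk _ (C (constantCoeff p)) ∈ nilradical (Q d c) := by
  induction p using MvPolynomial.induction_on with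
  | C a => rw [constantCoeff_C, sub_self]; exact zero_mem _
  | add p q hp hq =>
    have : Ideal.Quotient.mk (Ideal.span (Set.range (Fpoly d c))) (p + q) -
        Ideal.Quotient.mk _ (C (constantCoeff (p + q))) =
        (Ideal.Quotient.mk _ p - Ideal.Quotient.mk _ (C (constantCoeff p))) +
        (Ideal.Quotient.mk _ q - Ideal.Quotient.mk _ (C (constantCoeff q))) := by
      rw [map_add, map_add, map_add, map_add]; ring
    rw [this]
    exact add_mem hp hq
  | mul_X p i _ =>
    rw [map_mul constantCoeff, constantCoeff_X, mul_zero, map_zero, map_zero, sub_zero, map_mul]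
    exact Ideal.mul_mem_left _ _ (mem_nilradical.mpr (mkX_nilpotent d c hm hc i))

include hm hc in
theorem nilpotent_of_mem (p : MvPolynomial (Fin r) A) (hp : constantCoeff p ∈ maximalIdeal A) :
    IsNilpotent (Ideal.Quotient.mk (Ideal.span (Set.range (Fpoly d c))) p) := by
  rw [← mem_nilradical]
  have h1 := sub_mem_nilradical d c hm hc p
  have h2 : Ideal.Quotient.mk (Ideal.span (Set.range (Fpoly d c))) (C (constantCoeff p)) ∈
      nilradical (Q d c) := by
    rw [mem_nilradical]
    refine ⟨2, ?_⟩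
    rw [pow_two]
    exact mkC_sq d c hm _ _ hp hp
  have := add_mem h1 h2
  rwa [sub_add_cancel] at this

/-- the residue map `A' → K`. -/
noncomputable def eps : Q d c →+* ResidueField A :=
  evalQ d hd c (residue A) (fun i => (residue_eq_zero_iff _).mpr (hc i 0))

theorem eps_mk (p : MvPolynomial (Fin r) A) :
    eps d hd c hc (Ideal.Quotient.mk _ p) = residue A (constantCoeff p) := rfl

include hm in
theorem isLocalHom_eps : IsLocalHom (eps d hd c hc) := by
  refine ⟨fun x hx => ?_⟩
  obtain ⟨p, rfl⟩ := Ideal.Quotient.mk_surjective x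
  rw [eps_mk] at hx
  have hu : IsUnit (constantCoeff p) := by
    by_contra hnu
    have : constantCoeff p ∈ maximalIdeal A := (mem_maximalIdeal _).mpr hnu
    rw [(residue_eq_zero_iff _).mpr this] at hx
    exact not_isUnit_zero hx
  have h1 : IsNilpotent (Ideal.Quotient.mk (Ideal.span (Set.range (Fpoly d c))) p -
      Ideal.Quotient.mk _ (C (constantCoeff p))) :=
    mem_nilradical.mp (sub_mem_nilradical d c hm hc p)
  have h2 : IsUnit (Ideal.Quotient.mk (Ideal.span (Set.range (Fpoly d c)))
      (C (constantCoeff p))) := (hu.map C).map _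
  have := h1.isUnit_add_left_of_commute h2 (Commute.all _ _)
  rwa [add_sub_cancel] at this

include hd hm hc in
theorem isLocalRing_Q : IsLocalRing (Q d c) :=
  haveI := isLocalHom_eps d hd c hm hc
  (eps d hd c hc).domain_isLocalRing

include hm in
theorem mem_maximalIdeal_iff [IsLocalRing (Q d c)] (x : Q d c) :
    x ∈ maximalIdeal (Q d c) ↔ eps d hd c hc x = 0 := by
  haveI := isLocalHom_eps d hd c hm hc
  rw [mem_maximalIdeal, mem_nonunits_iff, ← isUnit_map_iff (eps d hd c hc) x, isUnit_iff_ne_zero,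
    not_not]

include hd hm hc in
theorem main (hloc : IsLocalRing (Q d c)) :
    Function.Surjective ((Ideal.Quotient.mk (maximalIdeal (Q d c))).comp
        (algebraMap A (Q d c))) ∧
      maximalIdeal A ⊓ Ideal.comap (algebraMap A (Q d c)) (maximalIdeal (Q d c) ^ 2) =
        Ideal.span (Set.range fun i => c i 0) := by
  constructor
  · intro y
    obtain ⟨x, rfl⟩ := Ideal.Quotient.mk_surjective y
    obtain ⟨p, rfl⟩ := Ideal.Quotient.mk_surjective x
    refine ⟨constantCoeff p, ?_⟩
    rw [RingHom.comp_apply, Ideal.Quotient.eq, mem_maximalIdeal_iff d hd c hm hc, map_sub,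
      algebraMap_Q, eps_mk, eps_mk, constantCoeff_C, sub_self]
  · apply le_antisymm
    · rintro a ⟨ha, ha2⟩
      -- the evaluation hom to `A ⧸ J`
      have hJ : ∀ i, Ideal.Quotient.mk (Ideal.span (Set.range fun i => c i 0)) (c i 0) = 0 :=
        fun i => Ideal.Quotient.eq_zero_iff_mem.mpr (Ideal.subset_span ⟨i, rfl⟩)
      have hkill : maximalIdeal (Q d c) ^ 2 ≤
          RingHom.ker (evalQ d hd c (Ideal.Quotient.mk _) hJ) := by
        rw [pow_two, Ideal.mul_le]
        intro x hx y hy
        obtain ⟨p, rfl⟩ := Ideal.Quotient.mk_surjective x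
        obtain ⟨q, rfl⟩ := Ideal.Quotient.mk_surjective y
        rw [mem_maximalIdeal_iff d hd c hm hc, eps_mk, residue_eq_zero_iff] at hx hy
        rw [RingHom.mem_ker, map_mul, evalQ_mk, evalQ_mk, ← map_mul]
        have : constantCoeff p * constantCoeff q ∈ maximalIdeal A ^ 2 := by
          rw [pow_two]; exact Ideal.mul_mem_mul hx hy
        rw [hm] at this
        rw [(Ideal.mem_bot.mp this), map_zero]
      have h := hkill (Ideal.mem_comap.mp ha2)
      rw [RingHom.mem_ker, algebraMap_Q, evalQ_mk, constantCoeff_C] at h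
      exact Ideal.Quotient.eq_zero_iff_mem.mp h
    · rw [Ideal.span_le]
      rintro _ ⟨i, rfl⟩
      refine ⟨hc i 0, ?_⟩
      rw [SetLike.mem_coe, Ideal.mem_comap]
      -- relation `F_i = 0`
      have hdi : d i = (d i - 1) + 1 := by have := hd i; omega
      have h0 : Ideal.Quotient.mk (Ideal.span (Set.range (Fpoly d c))) (Fpoly d c i) = 0 :=
        Ideal.Quotient.eq_zero_iff_mem.mpr (Ideal.subset_span ⟨i, rfl⟩)
      have hF : Fpoly d c i = X i ^ d i + ∑ k ∈ Finset.range (d i), C (c i k) * X i ^ k := rfl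
      rw [hF, hdi, Finset.sum_range_succ', map_add, map_add, map_pow, map_sum, pow_zero,
        mul_one] at h0
      have hX : Ideal.Quotient.mk (Ideal.span (Set.range (Fpoly d c))) (X i) ∈
          maximalIdeal (Q d c) := by
        rw [mem_maximalIdeal_iff d hd c hm hc, eps_mk, constantCoeff_X, map_zero]
      have hCm : ∀ k, Ideal.Quotient.mk (Ideal.span (Set.range (Fpoly d c))) (C (c i k)) ∈
          maximalIdeal (Q d c) := by
        intro k
        rw [mem_maximalIdeal_iff d hd c hm hc, eps_mk, constantCoeff_C, residue_eq_zero_iff]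
        exact hc i k
      have h1 : algebraMap A (Q d c) (c i 0) =
          -(Ideal.Quotient.mk (Ideal.span (Set.range (Fpoly d c))) (X i) ^ (d i - 1 + 1) +
            ∑ k ∈ Finset.range (d i - 1),
              Ideal.Quotient.mk (Ideal.span (Set.range (Fpoly d c)))
                (C (c i (k + 1)) * X i ^ (k + 1))) := by
        rw [algebraMap_Q]
        exact eq_neg_of_add_eq_zero_right (by rw [add_assoc]; exact h0)
      rw [h1]
      refine neg_mem (add_mem ?_ (sum_mem fun k _ => ?_))
      · have h2 : 2 ≤ d i - 1 + 1 := by have := hd i; omega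
        exact Ideal.pow_le_pow_right h2 (Ideal.pow_mem_pow hX _)
      · rw [map_mul, map_pow, pow_succ (Ideal.Quotient.mk _ (X i)) k, ← mul_assoc, pow_two]
        exact Ideal.mul_mem_mul (Ideal.mul_mem_right _ _ (hCm _)) hX

end Quot

theorem main4604 [IsLocalRing A]
    (hm : maximalIdeal A ^ 2 = ⊥) (d : Fin r → ℕ) (hd : ∀ i, 2 ≤ d i) (c : Fin r → ℕ → A)
    (hc : ∀ i k, c i k ∈ maximalIdeal A) :
    ∃ _ : IsLocalRing (MvPolynomial (Fin r) A ⧸ Ideal.span (Set.range (Fpoly d c))),
      Function.Surjective ((Ideal.Quotient.mk (maximalIdeal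
        (MvPolynomial (Fin r) A ⧸ Ideal.span (Set.range (Fpoly d c))))).comp
        (algebraMap A (MvPolynomial (Fin r) A ⧸ Ideal.span (Set.range (Fpoly d c))))) ∧
      maximalIdeal A ⊓ Ideal.comap
        (algebraMap A (MvPolynomial (Fin r) A ⧸ Ideal.span (Set.range (Fpoly d c))))
          (maximalIdeal (MvPolynomial (Fin r) A ⧸ Ideal.span (Set.range (Fpoly d c))) ^ 2) =
        Ideal.span (Set.range fun i => c i 0) :=
  ⟨isLocalRing_Q d hd c hm hc, main d hd c hm hc (isLocalRing_Q d hd c hm hc)⟩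

end Groth.Agent.Lib.EisenH4
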