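import Mathlib
import Groth.Prelude.Def_AnFib

/-!
# Base change of elementary fibrations (helper1)
-/

set_option autoImplicit false
set_option maxHeartbeats 1000000

universe u

open CategoryTheory CategoryTheory.Limits AlgebraicGeometry

namespace Groth.Agent.Lib.ElemFibH1

/-- Range of the second projection of a cartesian square of schemes. -/
lemma range_snd_of_isPullback {P X Y Z : Scheme.{u}} {fst : P ⟶ X} {snd : P ⟶ Y} {f : X ⟶ Z}
    {g : Y ⟶ Z} (h : IsPullback fst snd f g) :
    Set.range snd.base = g.base ⁻¹' Set.range f.base := by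
  ext y
  constructor
  · rintro ⟨z, rfl⟩
    exact ⟨fst.base z, congrArg (fun k : P ⟶ Z => k.base z) h.w⟩
  · rintro ⟨x, hx⟩
    obtain ⟨z, hz1, hz2⟩ := Scheme.Pullback.exists_preimage_pullback (f := f) (g := g) x y hx
    refine ⟨h.isoPullback.inv.base z, ?_⟩
    have h3 := congrArg (fun k : pullback f g ⟶ Y => k.base z) h.isoPullback_inv_snd
    exact h3.trans hz2

/-- Geometric fibres of a base change are geometric fibres of the original morphism. -/
lemma geomFibre {Xb S S' : Scheme.{u}} (fb : Xb ⟶ S) (v : S' ⟶ S)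
    (Ω : Type u) [Field Ω] [IsAlgClosed Ω] (σ : Spec (CommRingCat.of Ω) ⟶ S')
    (h : IrreducibleSpace ↥(pullback fb (σ ≫ v)) ∧
      topologicalKrullDim ↥(pullback fb (σ ≫ v)) = 1) :
    IrreducibleSpace ↥(pullback (pullback.snd fb v) σ) ∧
      topologicalKrullDim ↥(pullback (pullback.snd fb v) σ) = 1 := by
  obtain ⟨φ, -⟩ : ∃ φ : ↥(pullback fb (σ ≫ v)) ≃ₜ ↥(pullback (pullback.snd fb v) σ), True :=
    ⟨Scheme.homeoOfIso (pullbackLeftPullbackSndIso fb v σ).symm, trivial⟩
  constructor
  · haveI := h.1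
    have h1 : IsIrreducible (Set.univ : Set ↥(pullback (pullback.snd fb v) σ)) := by
      have h2 := (IrreducibleSpace.isIrreducible_univ ↥(pullback fb (σ ≫ v))).image φ
        φ.continuous.continuousOn
      rwa [Set.image_univ_of_surjective φ.surjective] at h2
    exact (irreducibleSpace_def _).2 h1
  · rw [← h.2]
    exact (IsHomeomorph.topologicalKrullDim_eq φ φ.isHomeomorph).symm

/-- A nonempty relatively open subset of an irreducible set is dense in it. -/
lemma subset_closure_of_isIrreducible {T : Type*} [TopologicalSpace T] (F U : Set T)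
    (hF : IsIrreducible F) (hU : IsOpen U) (hne : (U ∩ F).Nonempty) :
    F ⊆ closure (U ∩ F) := by
  intro x hx
  rw [mem_closure_iff]
  intro V hV hxV
  have hne' : (F ∩ U).Nonempty := by rwa [Set.inter_comm] at hne
  obtain ⟨y, hyF, hyU, hyV⟩ := hF.2 U V hU hV hne' ⟨x, hx, hxV⟩
  exact ⟨y, hyV, hyU, hyF⟩

section Proj

variable (n : ℕ)

/-- The projection `P^n_S ⟶ P^n_ℤ`. -/
noncomputable def pfst (S : Scheme.{u}) :
    CohB1.ProjSpaceOver n S ⟶ CohB1.ProjSpace n (ULift.{u} ℤ) :=
  pullback.fst _ _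

lemma psq (S : Scheme.{u}) : IsPullback (pfst n S) (CohB1.ProjSpaceOver.toBase n S)
    (CohB1.ProjSpace.toSpec n (ULift.{u} ℤ)) (specULiftZIsTerminal.from S) :=
  IsPullback.of_hasPullback _ _

lemma stronglyProjective_baseChange {Xb S S' : Scheme.{u}} (fb : Xb ⟶ S) (v : S' ⟶ S)
    (h : An.IsStronglyProjective fb) : An.IsStronglyProjective (pullback.snd fb v) := by
  obtain ⟨n, c, hc, hcb⟩ := h
  have hterm : v ≫ specULiftZIsTerminal.from S = specULiftZIsTerminal.from S' :=
    specULiftZIsTerminal.hom_ext _ _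
  have hmc : pfst n S' ≫ CohB1.ProjSpace.toSpec n (ULift.{u} ℤ) =
      (CohB1.ProjSpaceOver.toBase n S' ≫ v) ≫ specULiftZIsTerminal.from S := by
    rw [Category.assoc, hterm]
    exact (psq n S').w
  obtain ⟨m, hm⟩ : ∃ m : CohB1.ProjSpaceOver n S' ⟶ CohB1.ProjSpaceOver n S,
      m = (psq n S).lift (pfst n S') (CohB1.ProjSpaceOver.toBase n S' ≫ v) hmc := ⟨_, rfl⟩
  have hm1 : m ≫ pfst n S = pfst n S' := by rw [hm]; exact IsPullback.lift_fst _ _ _ _
  have hm2 : m ≫ CohB1.ProjSpaceOver.toBase n S = CohB1.ProjSpaceOver.toBase n S' ≫ v := by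
    rw [hm]; exact IsPullback.lift_snd _ _ _ _
  have sqP : IsPullback m (CohB1.ProjSpaceOver.toBase n S') (CohB1.ProjSpaceOver.toBase n S) v := by
    refine IsPullback.of_right ?_ hm2 (psq n S)
    rw [hm1, hterm]
    exact psq n S'
  have hcc : (pullback.fst fb v ≫ c) ≫ CohB1.ProjSpaceOver.toBase n S = pullback.snd fb v ≫ v := by
    rw [Category.assoc, hcb]
    exact pullback.condition
  obtain ⟨c', hc'⟩ : ∃ c' : pullback fb v ⟶ CohB1.ProjSpaceOver n S',
      c' = sqP.lift (pullback.fst fb v ≫ c) (pullback.snd fb v) hcc := ⟨_, rfl⟩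
  have hc'1 : c' ≫ m = pullback.fst fb v ≫ c := by rw [hc']; exact IsPullback.lift_fst _ _ _ _
  have hc'2 : c' ≫ CohB1.ProjSpaceOver.toBase n S' = pullback.snd fb v := by
    rw [hc']; exact IsPullback.lift_snd _ _ _ _
  have sqc : IsPullback c' (pullback.fst fb v) m c := by
    refine IsPullback.of_right ?_ hc'1 sqP.flip
    rw [hc'2, hcb]
    exact (IsPullback.of_hasPullback fb v).flip
  exact ⟨n, c', MorphismProperty.of_isPullback (P := @IsClosedImmersion) sqc.flip hc, hc'2⟩

end Proj

/-- A geometric point over a given point. -/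
lemma exists_geometric_point {S : Scheme.{u}} (s : S) :
    ∃ (Ω : Type u) (_ : Field Ω) (_ : IsAlgClosed Ω) (σ : Spec (CommRingCat.of Ω) ⟶ S),
      Set.range σ.base = {s} := by
  refine ⟨AlgebraicClosure (S.residueField s), inferInstance, inferInstance,
    Spec.map (CommRingCat.ofHom (algebraMap (S.residueField s)
      (AlgebraicClosure (S.residueField s)))) ≫ S.fromSpecResidueField s, ?_⟩
  ext y
  constructor
  · rintro ⟨p, rfl⟩
    exact Scheme.fromSpecResidueField_apply s _
  · intro hy
    obtain ⟨p⟩ : Nonempty (PrimeSpectrum (AlgebraicClosure (S.residueField s))) := inferInstance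
    exact ⟨p, (Scheme.fromSpecResidueField_apply s _).trans hy.symm⟩

/-- Base change of an elementary fibration is an elementary fibration. -/
theorem elemFib_baseChange {X S S' : Scheme.{u}} (f : X ⟶ S) (v : S' ⟶ S)
    (hf : An.IsElementaryFibration f) : An.IsElementaryFibration (pullback.snd f v) := by
  obtain ⟨Xb, Y, j, fb, i, hjf, hj, hi, hrange, hdense, hsm, hproj, hgeom, hfin, het, hsurj⟩ := hf
  subst hjf
  have sqR : IsPullback (pullback.snd fb v) (pullback.fst fb v) v fb :=
    (IsPullback.of_hasPullback fb v).flip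
  -- the open immersion
  have hjc : (pullback.fst (j ≫ fb) v ≫ j) ≫ fb = pullback.snd (j ≫ fb) v ≫ v := by
    rw [Category.assoc]; exact pullback.condition
  obtain ⟨j', hj'⟩ : ∃ j' : pullback (j ≫ fb) v ⟶ pullback fb v,
      j' = pullback.lift (pullback.fst (j ≫ fb) v ≫ j) (pullback.snd (j ≫ fb) v) hjc := ⟨_, rfl⟩
  have hj'1 : j' ≫ pullback.fst fb v = pullback.fst (j ≫ fb) v ≫ j := by
    rw [hj']; exact pullback.lift_fst _ _ _
  have hj'2 : j' ≫ pullback.snd fb v = pullback.snd (j ≫ fb) v := by
    rw [hj']; exact pullback.lift_snd _ _ _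
  have sqj : IsPullback j' (pullback.fst (j ≫ fb) v) (pullback.fst fb v) j := by
    refine IsPullback.of_right ?_ hj'1 sqR
    rw [hj'2]
    exact (IsPullback.of_hasPullback (j ≫ fb) v).flip
  -- the closed immersion
  have hic : (pullback.fst (i ≫ fb) v ≫ i) ≫ fb = pullback.snd (i ≫ fb) v ≫ v := by
    rw [Category.assoc]; exact pullback.condition
  obtain ⟨i', hi'⟩ : ∃ i' : pullback (i ≫ fb) v ⟶ pullback fb v,
      i' = pullback.lift (pullback.fst (i ≫ fb) v ≫ i) (pullback.snd (i ≫ fb) v) hic := ⟨_, rfl⟩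
  have hi'1 : i' ≫ pullback.fst fb v = pullback.fst (i ≫ fb) v ≫ i := by
    rw [hi']; exact pullback.lift_fst _ _ _
  have hi'2 : i' ≫ pullback.snd fb v = pullback.snd (i ≫ fb) v := by
    rw [hi']; exact pullback.lift_snd _ _ _
  have sqi : IsPullback i' (pullback.fst (i ≫ fb) v) (pullback.fst fb v) i := by
    refine IsPullback.of_right ?_ hi'1 sqR
    rw [hi'2]
    exact (IsPullback.of_hasPullback (i ≫ fb) v).flip
  have hj'o : IsOpenImmersion j' := MorphismProperty.of_isPullback (P := @IsOpenImmersion) sqj.flip hj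
  have hi'c : IsClosedImmersion i' :=
    MorphismProperty.of_isPullback (P := @IsClosedImmersion) sqi.flip hi
  have hrj : Set.range j'.base = (pullback.fst fb v).base ⁻¹' Set.range j.base :=
    range_snd_of_isPullback sqj.flip
  have hri : Set.range i'.base = (pullback.fst fb v).base ⁻¹' Set.range i.base :=
    range_snd_of_isPullback sqi.flip
  have hgeom' : ∀ (Ω : Type u) [Field Ω] [IsAlgClosed Ω] (σ : Spec (CommRingCat.of Ω) ⟶ S'),
      IrreducibleSpace ↥(pullback (pullback.snd fb v) σ) ∧
        topologicalKrullDim ↥(pullback (pullback.snd fb v) σ) = 1 :=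
    fun Ω _ _ σ => geomFibre fb v Ω σ (hgeom Ω (σ ≫ v))
  refine ⟨pullback fb v, pullback (i ≫ fb) v, j', pullback.snd fb v, i', hj'2, hj'o, hi'c, ?_, ?_,
    ?_, stronglyProjective_baseChange fb v hproj, hgeom', ?_, ?_, ?_⟩
  · rw [hrj, hri, hrange, Set.preimage_compl]
  · intro s'
    obtain ⟨Ω, _, _, σ, hσ⟩ := exists_geometric_point s'
    have hG := hgeom' Ω σ
    haveI := hG.1
    have hr : Set.range (pullback.fst (pullback.snd fb v) σ).base =
        (pullback.snd fb v).base ⁻¹' {s'} := by
      have h1 := Scheme.Pullback.range_fst (pullback.snd fb v) σ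
      rw [hσ] at h1
      exact h1
    have hF : IsIrreducible ((pullback.snd fb v).base ⁻¹' {s'}) := by
      rw [← hr, ← Set.image_univ]
      exact (IrreducibleSpace.isIrreducible_univ _).image _
        (Scheme.Hom.continuous _).continuousOn
    have hne : (Set.range j'.base ∩ (pullback.snd fb v).base ⁻¹' {s'}).Nonempty := by
      obtain ⟨x', hx'⟩ := hF.1
      have hq : (pullback.fst fb v).base x' ∈ fb.base ⁻¹' {v.base s'} := by
        show fb.base ((pullback.fst fb v).base x') = v.base s'
        have h1 : (pullback.snd fb v).base x' = s' := hx'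
        rw [← h1]
        exact congrArg (fun k : pullback fb v ⟶ S => k.base x') pullback.condition
      have h2 := hdense (v.base s') hq
      obtain ⟨y, ⟨x, rfl⟩, hy⟩ : (Set.range j.base ∩ fb.base ⁻¹' {v.base s'}).Nonempty := by
        by_contra hempty
        rw [Set.not_nonempty_iff_eq_empty] at hempty
        rw [hempty, closure_empty] at h2
        exact h2
      have hfx : (j ≫ fb).base x = v.base s' := hy
      obtain ⟨z, hz1, hz2⟩ :=
        Scheme.Pullback.exists_preimage_pullback (f := j ≫ fb) (g := v) x s' hfx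
      refine ⟨j'.base z, ⟨z, rfl⟩, ?_⟩
      show (pullback.snd fb v).base (j'.base z) = s'
      have h3 := congrArg (fun k : pullback (j ≫ fb) v ⟶ S' => k.base z) hj'2
      exact h3.trans hz2
    exact subset_closure_of_isIrreducible _ _ hF (Scheme.Hom.isOpenEmbedding j').isOpen_range hne
  · exact MorphismProperty.of_isPullback (P := @Smooth) (IsPullback.of_hasPullback fb v) hsm
  · rw [hi'2]
    exact MorphismProperty.of_isPullback (P := @IsFinite) (IsPullback.of_hasPullback (i ≫ fb) v) hfin
  · rw [hi'2]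
    exact MorphismProperty.of_isPullback (P := @Etale) (IsPullback.of_hasPullback (i ≫ fb) v) het
  · rw [hi'2]
    exact (MorphismProperty.of_isPullback (P := @Surjective)
      (IsPullback.of_hasPullback (i ≫ fb) v) ⟨hsurj⟩).surj

end Groth.Agent.Lib.ElemFibH1
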