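import Mathlib
import Groth.Prelude.Def_Hensel
import Groth.Prelude.Def_Brnch
import Groth.Agent.Lib.Henselization11_helper3
import Groth.Agent.S9237

/-!
# Henselizations along strictly essentially étale local maps (helper7)

Unbundled henselizations `IsHensOf ρ`, their uniqueness, and: if `A → B` is strictly essentially
étale then a henselization of `B` is a henselization of `A`, and `A`, `B` have the same number of
branches.
-/

set_option backward.isDefEq.respectTransparency false
set_option backward.isDefEq.respectTransparency.types false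
set_option linter.style.haveILetI false
set_option linter.unusedSectionVars false
set_option linter.unusedVariables false
set_option autoImplicit false
set_option maxHeartbeats 1600000
set_option maxSynthPendingDepth 3
universe u

namespace Groth.Agent.Lib.ElemNbhdH7

open IsLocalRing EGA4loc Groth.Agent.Lib.HenselizationH3

/-- `ρ : A → R` exhibits `R` as a henselization of the local ring `A` (unbundled form of
`Hensel.IsHenselization`). -/
def IsHensOf {A R : Type u} [CommRing A] [IsLocalRing A] [CommRing R] [IsLocalRing R]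
    (ρ : A →+* R) : Prop :=
  HenselianLocalRing R ∧ IsLocalHom ρ ∧
    ∀ (T : Type u) [CommRing T] [HenselianLocalRing T] (f : A →+* T), IsLocalHom f →
      ∃! g : R →+* T, g.comp ρ = f

theorem isHensOf_algebraMap (A R : Type u) [CommRing A] [IsLocalRing A] [CommRing R]
    [IsLocalRing R] [Algebra A R] [hl : IsLocalHom (algebraMap A R)]
    [h : Hensel.IsHenselization A R] : IsHensOf (algebraMap A R) :=
  ⟨h.henselian, hl, fun T _ _ f hf => h.universal T f hf⟩

theorem IsHensOf.toIsHenselization {A R : Type u} [CommRing A] [IsLocalRing A] [CommRing R]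
    [IsLocalRing R] {ρ : A →+* R} (h : IsHensOf ρ) :
    letI : Algebra A R := ρ.toAlgebra
    ∃ (_ : IsLocalHom (algebraMap A R)), Hensel.IsHenselization A R := by
  letI : Algebra A R := ρ.toAlgebra
  have hl : IsLocalHom (algebraMap A R) := h.2.1
  refine ⟨hl, ?_⟩
  exact ⟨h.1, fun T _ _ f hf => h.2.2 T f hf⟩

/-- uniqueness of henselizations -/
theorem IsHensOf.exists_equiv {A R R' : Type u} [CommRing A] [IsLocalRing A] [CommRing R]
    [IsLocalRing R] [CommRing R'] [IsLocalRing R'] {ρ : A →+* R} {ρ' : A →+* R'}
    (h : IsHensOf ρ) (h' : IsHensOf ρ') :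
    ∃ ε : R ≃+* R', ∀ a, ε (ρ a) = ρ' a := by
  haveI := h.1
  haveI := h'.1
  obtain ⟨u, hu, -⟩ := h.2.2 R' ρ' h'.2.1
  obtain ⟨v, hv, -⟩ := h'.2.2 R ρ h.2.1
  obtain ⟨w, -, hw⟩ := h.2.2 R ρ h.2.1
  obtain ⟨w', -, hw'⟩ := h'.2.2 R' ρ' h'.2.1
  have h1 : v.comp u = RingHom.id R := by
    have e1 : (v.comp u).comp ρ = ρ := by rw [RingHom.comp_assoc, hu, hv]
    rw [hw (v.comp u) e1, hw (RingHom.id R) (RingHom.id_comp _)]
  have h2 : u.comp v = RingHom.id R' := by
    have e2 : (u.comp v).comp ρ' = ρ' := by rw [RingHom.comp_assoc, hv, hu]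
    rw [hw' (u.comp v) e2, hw' (RingHom.id R') (RingHom.id_comp _)]
  exact ⟨RingEquiv.ofRingHom u v h2 h1, fun a => DFunLike.congr_fun hu a⟩

/-- transport of a henselization along an isomorphism of the base -/
theorem IsHensOf.comp_equiv {A A' R : Type u} [CommRing A] [IsLocalRing A] [CommRing A']
    [IsLocalRing A'] [CommRing R] [IsLocalRing R] {ρ : A →+* R} (h : IsHensOf ρ)
    (e : A' ≃+* A) : IsHensOf (ρ.comp (e : A' →+* A)) := by
  haveI := h.2.1
  refine ⟨h.1, ?_, fun T _ _ f hf => ?_⟩
  · refine ⟨fun x hx => ?_⟩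
    have h1 : IsUnit (e x) := isUnit_of_map_unit ρ _ hx
    have h2 := h1.map e.symm
    rwa [RingEquiv.symm_apply_apply] at h2
  · haveI := hf
    have hloc : IsLocalHom (f.comp (e.symm : A →+* A')) := by
      refine ⟨fun x hx => ?_⟩
      have h1 : IsUnit (e.symm x) := isUnit_of_map_unit f _ hx
      have h2 := h1.map e
      rwa [RingEquiv.apply_symm_apply] at h2
    obtain ⟨g, hg, hguniq⟩ := h.2.2 T (f.comp (e.symm : A →+* A')) hloc
    refine ⟨g, ?_, fun g' hg' => hguniq g' ?_⟩
    · ext x
      have := DFunLike.congr_fun hg (e x)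
      simp only [RingHom.coe_comp, RingHom.coe_coe, Function.comp_apply,
        RingEquiv.symm_apply_apply] at this ⊢
      exact this
    · ext x
      have := DFunLike.congr_fun hg' (e.symm x)
      simp only [RingHom.coe_comp, RingHom.coe_coe, Function.comp_apply,
        RingEquiv.apply_symm_apply] at this ⊢
      exact this

/-- If `H` is a henselization of both `A` and `B` compatibly with `φ : A → B`, then every
henselization of `B` is a henselization of `A`. -/
theorem IsHensOf.comp_of_common {A B H R : Type u} [CommRing A] [IsLocalRing A] [CommRing B]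
    [IsLocalRing B] [CommRing H] [IsLocalRing H] [CommRing R] [IsLocalRing R]
    (φ : A →+* B) {α : A →+* H} {β : B →+* H} (hαβ : β.comp φ = α)
    (hα : IsHensOf α) (hβ : IsHensOf β) {ρ : B →+* R} (hρ : IsHensOf ρ) :
    IsHensOf (ρ.comp φ) := by
  obtain ⟨ε, hε⟩ := hρ.exists_equiv hβ
  have hαa : ∀ a, β (φ a) = α a := fun a => DFunLike.congr_fun hαβ a
  have hφ : IsLocalHom φ := by
    refine ⟨fun a ha => ?_⟩
    haveI := hα.2.1
    have h1 : IsUnit (β (φ a)) := ha.map β
    rw [hαa] at h1
    exact isUnit_of_map_unit α a h1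
  haveI := hρ.2.1
  refine ⟨hρ.1, RingHom.isLocalHom_comp _ _, fun T _ _ f hf => ?_⟩
  obtain ⟨g₀, hg₀, hg₀uniq⟩ := hα.2.2 T f hf
  have hg₀a : ∀ a, g₀ (α a) = f a := fun a => DFunLike.congr_fun hg₀ a
  refine ⟨g₀.comp (ε : R →+* H), ?_, fun g' hg' => ?_⟩
  · ext a
    simp only [RingHom.coe_comp, RingHom.coe_coe, Function.comp_apply]
    rw [hε, hαa, hg₀a]
  · have hg'a : ∀ a, g' (ρ (φ a)) = f a := fun a => DFunLike.congr_fun hg' a
    have h1 : (g'.comp (ε.symm : H →+* R)).comp α = f := by
      ext a
      simp only [RingHom.coe_comp, RingHom.coe_coe, Function.comp_apply]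
      rw [← hαa, ← hε, RingEquiv.symm_apply_apply, hg'a]
    have h2 := hg₀uniq _ h1
    ext r
    simp only [RingHom.coe_comp, RingHom.coe_coe, Function.comp_apply]
    rw [← h2]
    simp only [RingHom.coe_comp, RingHom.coe_coe, Function.comp_apply,
      RingEquiv.symm_apply_apply]

section Strict

variable (A B : Type u) [CommRing A] [IsLocalRing A] [CommRing B] [IsLocalRing B] [Algebra A B]
  [IsLocalHom (algebraMap A B)]

theorem isHensOf_hens : IsHensOf (algebraMap A (Hens A)) := by
  haveI := isHenselization_hens (R := A)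
  exact isHensOf_algebraMap A (Hens A)

theorem isHensOf_ofH (k : Idx A) : IsHensOf (ofH k) := by
  letI := algIdx k
  haveI := isLocalHom_algebraMap_idx k
  haveI := isHenselization_idx k
  exact isHensOf_algebraMap k.A (Hens A)

/-- the henselization of `A` is a henselization of every strictly essentially étale local
`A`-algebra -/
theorem exists_common_of_strict (h : IsStrictlyEssentiallyEtale A B) :
    ∃ β : B →+* Hens A, IsHensOf β ∧ β.comp (algebraMap A B) = algebraMap A (Hens A) := by
  obtain ⟨k, ⟨e⟩⟩ := exists_idx_of_strict B h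
  refine ⟨(ofH k).comp (e.toRingEquiv : B →+* k.A), (isHensOf_ofH A k).comp_equiv e.toRingEquiv, ?_⟩
  ext a
  simp only [RingHom.coe_comp, RingHom.coe_coe, Function.comp_apply]
  have h1 : e.toRingEquiv (algebraMap A B a) = algebraMap A k.A a := e.commutes a
  rw [h1, ofH_algebraMap]

/-- **a henselization of a strictly essentially étale local `A`-algebra `B` is a henselization
of `A`** -/
theorem isHensOf_comp_of_strict (h : IsStrictlyEssentiallyEtale A B) {R : Type u} [CommRing R]
    [IsLocalRing R] {ρ : B →+* R} (hρ : IsHensOf ρ) : IsHensOf (ρ.comp (algebraMap A B)) := by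
  obtain ⟨β, hβ, hβα⟩ := exists_common_of_strict A B h
  exact IsHensOf.comp_of_common (algebraMap A B) hβα (isHensOf_hens A) hβ hρ

/-- **strictly essentially étale local algebras have the same number of branches** -/
theorem numBranches_eq_of_strict (h : IsStrictlyEssentiallyEtale A B) :
    Brnch.numBranches A = Brnch.numBranches B := by
  obtain ⟨β, hβ, hβα⟩ := exists_common_of_strict A B h
  have h1 : ENat.card (minimalPrimes (Hens A)) = Brnch.numBranches A := by
    haveI := isHenselization_hens (R := A)
    exact Groth.Agent.S9237.result A (Hens A)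
  have h2 : ENat.card (minimalPrimes (Hens A)) = Brnch.numBranches B := by
    letI : Algebra B (Hens A) := β.toAlgebra
    obtain ⟨hl, hh⟩ := hβ.toIsHenselization
    exact @Groth.Agent.S9237.result B (Hens A) _ _ _ _ _ hl hh
  rw [← h1, h2]

end Strict

end Groth.Agent.Lib.ElemNbhdH7
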