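import Groth.Agent.Lib.ElemNbhd1_helper7
import Groth.Agent.Lib.AlgSpElemNbhd_helper6
import Groth.Agent.Lib.AlgSpEpi_helper7
import Groth.Agent.Lib.AlgSpLocP_helper7
import Groth.Agent.Lib.BrEtNbhd4_helper3
import Groth.Prelude.Def_AlgSpDec

/-!
# Elementary étale neighbourhoods of a point of an algebraic space, part 2 (helper7)

Morphisms of elementary étale neighbourhoods are étale with trivial residue field extension;
the henselization of the local ring does not depend on the neighbourhood.
-/

set_option backward.isDefEq.respectTransparency false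
set_option backward.isDefEq.respectTransparency.types false
set_option linter.style.haveILetI false
set_option linter.unusedSectionVars false
set_option linter.unusedVariables false
set_option autoImplicit false
set_option maxHeartbeats 1600000
set_option maxSynthPendingDepth 3
universe u

open CategoryTheory CategoryTheory.Limits AlgebraicGeometry Opposite

namespace Groth.Agent.Lib.ElemNbhdH7

open AlgSp IsLocalRing EGA4loc Groth.Agent.Lib.AlgSpPoints_helper7
  Groth.Agent.Lib.AlgSpPullback_helper7 Groth.Agent.Lib.AlgSpLocP_helper7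
  Groth.Agent.Lib.AlgSpEpi_helper7 Groth.Agent.Lib.BrEtNbhdH3

variable {S : Scheme.{u}}

theorem isIso_of_isIso_SpecMap {R T : CommRingCat.{u}} (f : R ⟶ T) [IsIso (Spec.map f)] :
    IsIso f := by
  refine ⟨⟨Spec.preimage (inv (Spec.map f)), ?_, ?_⟩⟩
  · apply Spec.map_injective
    rw [Spec.map_comp, Spec.map_preimage, IsIso.inv_hom_id, Spec.map_id]
  · apply Spec.map_injective
    rw [Spec.map_comp, Spec.map_preimage, IsIso.hom_inv_id, Spec.map_id]

/-- a morphism of étale charts is étale -/
theorem etale_left_of_comm {F : Sp S} {U U' : Over S} (a : (yon S).obj U ⟶ F)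
    (a' : (yon S).obj U' ⟶ F) (g : U' ⟶ U) (hg : (yon S).map g ≫ a = a')
    (ha : RepWith @Etale a) (ha' : RepWith @Etale a') : Etale g.left :=
  (repWith_yon_map_iff _ _).1 (repWith_etale_of_comp _ a (by rw [hg]; exact ha') ha)

/-- the comparison of residue field points along a morphism of charts -/
theorem exists_toHom_ofPt_comp {F : Sp S} {U U' : Over S} (a : (yon S).obj U ⟶ F) (g : U' ⟶ U)
    (u' : ↥U'.left) :
    ∃ d : (FieldPt.ofPt ((yon S).map g ≫ a) u').pt ⟶ (FieldPt.ofPt a (g.left u')).pt,
      d.left = Spec.map (g.left.residueFieldMap u') ∧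
      (FieldPt.ofPt ((yon S).map g ≫ a) u').toHom =
        (yon S).map d ≫ (FieldPt.ofPt a (g.left u')).toHom := by
  have hw : Spec.map (g.left.residueFieldMap u') ≫
      (U.left.fromSpecResidueField (g.left u') ≫ U.hom) =
      U'.left.fromSpecResidueField u' ≫ U'.hom := by
    rw [← Category.assoc, Scheme.Hom.SpecMap_residueFieldMap_fromSpecResidueField,
      Category.assoc, Over.w g]
  let d : (FieldPt.ofPt ((yon S).map g ≫ a) u').pt ⟶ (FieldPt.ofPt a (g.left u')).pt :=
    Over.homMk (Spec.map (g.left.residueFieldMap u')) hw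
  let ι' : (FieldPt.ofPt ((yon S).map g ≫ a) u').pt ⟶ U' :=
    Over.homMk (U'.left.fromSpecResidueField u') rfl
  let ι : (FieldPt.ofPt a (g.left u')).pt ⟶ U :=
    Over.homMk (U.left.fromSpecResidueField (g.left u')) rfl
  have hd : d ≫ ι = ι' ≫ g :=
    Over.OverMorphism.ext (Scheme.Hom.SpecMap_residueFieldMap_fromSpecResidueField g.left u')
  refine ⟨d, rfl, ?_⟩
  have h1 : (FieldPt.ofPt ((yon S).map g ≫ a) u').toHom = (yon S).map ι' ≫ (yon S).map g ≫ a :=
    FieldPt.toHom_ofPt _ u'
  have h2 : (FieldPt.ofPt a (g.left u')).toHom = (yon S).map ι ≫ a := FieldPt.toHom_ofPt a _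
  rw [h1, h2, ← Category.assoc, ← Functor.map_comp, ← hd, Functor.map_comp, Category.assoc]

/-- a morphism of elementary étale neighbourhoods induces an isomorphism of residue fields -/
theorem residueFieldMap_bijective_of_mono {F : Sp S} {U U' : Over S} (a : (yon S).obj U ⟶ F)
    (g : U' ⟶ U) (u' : ↥U'.left)
    (hm : Mono (FieldPt.ofPt ((yon S).map g ≫ a) u').toHom) :
    Function.Bijective (g.left.residueFieldMap u') := by
  obtain ⟨d, hd, hfac⟩ := exists_toHom_ofPt_comp a g u'
  haveI : Mono ((yon S).map d ≫ (FieldPt.ofPt a (g.left u')).toHom) := hfac ▸ hm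
  haveI : Mono ((yon S).map d) := mono_of_mono ((yon S).map d) (FieldPt.ofPt a (g.left u')).toHom
  have hne : Nonempty (Points ((yon S).obj (FieldPt.ofPt ((yon S).map g ≫ a) u').pt)) :=
    ⟨Points.ofScheme _ (IsLocalRing.closedPoint (U'.left.residueField u'))⟩
  haveI : IsIso ((yon S).map d) :=
    isIso_of_mono_to_field (k := ↥(U.left.residueField (g.left u')))
      (U.left.fromSpecResidueField (g.left u') ≫ U.hom) (IsAlgSpace.yon_obj _) ((yon S).map d) hne
  haveI : IsIso d := isIso_of_fully_faithful (yon S) d
  haveI : IsIso d.left := (Over.forget S).map_isIso d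
  haveI : IsIso (Spec.map (g.left.residueFieldMap u')) := hd ▸ (inferInstance : IsIso d.left)
  haveI : IsIso (g.left.residueFieldMap u') := isIso_of_isIso_SpecMap _
  exact ConcreteCategory.bijective_of_isIso (g.left.residueFieldMap u')

/-- conversely, a trivial residue field extension preserves the monomorphism condition -/
theorem mono_ofPt_comp_of_bijective {F : Sp S} {U U' : Over S} (a : (yon S).obj U ⟶ F)
    (g : U' ⟶ U) (u' : ↥U'.left) (hres : Function.Bijective (g.left.residueFieldMap u'))
    (hm : Mono (FieldPt.ofPt a (g.left u')).toHom) :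
    Mono (FieldPt.ofPt ((yon S).map g ≫ a) u').toHom := by
  obtain ⟨d, hd, hfac⟩ := exists_toHom_ofPt_comp a g u'
  haveI : IsIso (g.left.residueFieldMap u') :=
    (ConcreteCategory.isIso_iff_bijective (g.left.residueFieldMap u')).2 hres
  haveI : IsIso d.left := hd ▸ (inferInstance : IsIso (Spec.map (g.left.residueFieldMap u')))
  haveI : IsIso ((Over.forget S).map d) := (inferInstance : IsIso d.left)
  haveI : IsIso d := isIso_of_reflects_iso d (Over.forget S)
  haveI := hm
  rw [hfac]
  exact mono_comp _ _

section StalkMap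

/-- the stalk map of a morphism of elementary étale neighbourhoods is strictly essentially
étale -/
theorem isStrictlyEssentiallyEtale_stalkMap {W U : Scheme.{u}} (g : W ⟶ U) [Etale g] (w : W)
    (hres : Function.Bijective (g.residueFieldMap w)) :
    letI : Algebra (U.presheaf.stalk (g w)) (W.presheaf.stalk w) := (g.stalkMap w).hom.toAlgebra
    haveI : IsLocalHom (algebraMap (U.presheaf.stalk (g w)) (W.presheaf.stalk w)) :=
      inferInstanceAs (IsLocalHom (g.stalkMap w).hom)
    IsStrictlyEssentiallyEtale (U.presheaf.stalk (g w)) (W.presheaf.stalk w) :=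
  ⟨isEssentiallyEtale_stalkMap g w, hres⟩

theorem numBranchesAt_eq_of_etale {W U : Scheme.{u}} (g : W ⟶ U) [Etale g] (w : W)
    (hres : Function.Bijective (g.residueFieldMap w)) :
    Brnch.numBranchesAt W w = Brnch.numBranchesAt U (g w) := by
  letI : Algebra (U.presheaf.stalk (g w)) (W.presheaf.stalk w) := (g.stalkMap w).hom.toAlgebra
  haveI : IsLocalHom (algebraMap (U.presheaf.stalk (g w)) (W.presheaf.stalk w)) :=
    inferInstanceAs (IsLocalHom (g.stalkMap w).hom)
  exact (numBranches_eq_of_strict (U.presheaf.stalk (g w)) (W.presheaf.stalk w)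
    (isStrictlyEssentiallyEtale_stalkMap g w hres)).symm

end StalkMap

/-- **S10440**: the henselization of the local ring of an elementary étale neighbourhood does
not depend on the neighbourhood. -/
theorem main10440 {F : Sp S} (x : Points F) {U U' : Over S}
    (a : (yon S).obj U ⟶ F) (a' : (yon S).obj U' ⟶ F) (g : U' ⟶ U) (u' : ↥U'.left)
    (hg : (yon S).map g ≫ a = a') (ha : IsElemEtaleNbhd a (g.left.base u') x)
    (ha' : IsElemEtaleNbhd a' u' x) (R : Type u) [CommRing R] [IsLocalRing R]
    [Algebra ↥(U'.left.presheaf.stalk u') R]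
    [IsLocalHom (algebraMap ↥(U'.left.presheaf.stalk u') R)]
    [Hensel.IsHenselization ↥(U'.left.presheaf.stalk u') R] :
    letI : Algebra ↥(U.left.presheaf.stalk (g.left.base u')) R :=
      ((algebraMap ↥(U'.left.presheaf.stalk u') R).comp (g.left.stalkMap u').hom).toAlgebra
    ∃ (_ : IsLocalHom (algebraMap ↥(U.left.presheaf.stalk (g.left.base u')) R)),
      Hensel.IsHenselization ↥(U.left.presheaf.stalk (g.left.base u')) R := by
  haveI : Etale g.left := etale_left_of_comm a a' g hg ha.etale ha'.etale
  have hres : Function.Bijective (g.left.residueFieldMap u') :=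
    residueFieldMap_bijective_of_mono a g u' (by rw [hg]; exact ha'.mono)
  letI algAB : Algebra (U.left.presheaf.stalk (g.left u')) (U'.left.presheaf.stalk u') :=
    (g.left.stalkMap u').hom.toAlgebra
  haveI : IsLocalHom (algebraMap (U.left.presheaf.stalk (g.left u')) (U'.left.presheaf.stalk u')) :=
    inferInstanceAs (IsLocalHom (g.left.stalkMap u').hom)
  have hstrict := isStrictlyEssentiallyEtale_stalkMap g.left u' hres
  have h1 := isHensOf_comp_of_strict (U.left.presheaf.stalk (g.left u'))
    (U'.left.presheaf.stalk u') hstrict (isHensOf_algebraMap (U'.left.presheaf.stalk u') R)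
  exact h1.toIsHenselization

end Groth.Agent.Lib.ElemNbhdH7
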