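import Mathlib

/-!
# Minimal primes of a "filtered union" of flat local algebras (helper7)

Pure commutative algebra, universe polymorphic:
* `flat_of_forall_exists`: a ring map `σ : A → S` is flat as soon as every finite family of
  elements of `S` lies in the image of an injective map `ψ : B → S` from a flat `A`-algebra `B`
  (compatible with `σ`);
* `comap_mem_minimalPrimes_of_flat`, `exists_minimalPrimes_comap_eq_of_faithfullyFlat`;
* `encard_minimalPrimes_le_of_flat_local`;
* `encard_minimalPrimes_eq_iSup_of_flat`: the counting lemma;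
* `encard_minimalPrimes_eq_iSup_of_germs`: the abstract form for rings of germs
  (localizations `A i` of rings `Γ i` at primes, mapping compatibly to `R`).
-/

set_option autoImplicit false
set_option backward.isDefEq.respectTransparency false
set_option backward.isDefEq.respectTransparency.types false
set_option linter.style.haveILetI false
set_option linter.unusedSectionVars false
set_option linter.unusedVariables false
set_option maxHeartbeats 1600000

universe u v w

namespace Groth.Agent.Lib.MinPrimeColimH7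

section Flat

/-- flatness from a family of flat algebras mapping injectively and covering finite subsets -/
theorem flat_of_forall_exists {A : Type u} {S : Type v} [CommRing A] [CommRing S] (σ : A →+* S)
    (h : ∀ (l : ℕ) (x : Fin l → S), ∃ (B : Type w) (_ : CommRing B) (τ : A →+* B) (ψ : B →+* S),
      τ.Flat ∧ ψ.comp τ = σ ∧ Function.Injective ψ ∧ ∀ k, x k ∈ Set.range ψ) : σ.Flat := by
  letI algS : Algebra A S := σ.toAlgebra
  show Module.Flat A S
  apply Module.Flat.of_forall_isTrivialRelation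
  intro l f x hfx
  obtain ⟨B, _, τ, ψ, hτ, hc, hinj, hx⟩ := h l x
  letI algB : Algebra A B := τ.toAlgebra
  haveI : Module.Flat A B := hτ
  choose b hb using hx
  have hsmulS : ∀ (a : A) (s : S), a • s = σ a * s := fun a s => rfl
  have hsmulB : ∀ (a : A) (y : B), a • y = τ a * y := fun a y => rfl
  have hψ : ∀ (a : A) (y : B), ψ (a • y) = a • ψ y := by
    intro a y
    rw [hsmulS, hsmulB, map_mul, ← hc]
    rfl
  have hrel : ∑ i, f i • b i = 0 := by
    apply hinj
    rw [map_sum, map_zero, ← hfx]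
    refine Finset.sum_congr rfl (fun i _ => ?_)
    rw [hψ, hb]
  obtain ⟨k, a, y, h1, h2⟩ :=
    Module.Flat.isTrivialRelation_of_sum_smul_eq_zero (R := A) (M := B) (f := f) (x := b) hrel
  refine ⟨k, a, fun j => ψ (y j), fun i => ?_, h2⟩
  rw [← hb i, h1 i, map_sum]
  refine Finset.sum_congr rfl (fun j _ => ?_)
  rw [hψ]

end Flat

section GoingDown

variable {S : Type u} {B : Type v} [CommRing S] [CommRing B] [Algebra S B]

theorem comap_mem_minimalPrimes_of_flat [Module.Flat S B] (P : Ideal B)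
    (hP : P ∈ minimalPrimes B) : P.comap (algebraMap S B) ∈ minimalPrimes S := by
  haveI hPp : P.IsPrime := hP.1.1
  refine ⟨⟨Ideal.comap_isPrime _ P, bot_le⟩, ?_⟩
  rintro Q ⟨hQ, -⟩ hQle
  haveI := hQ
  haveI : P.LiesOver (Ideal.comap (algebraMap S B) P) := ⟨rfl⟩
  obtain ⟨Q', hQ'le, hQ'p, hQ'o⟩ := Ideal.exists_ideal_le_liesOver_of_le (p := Q)
    (q := Ideal.comap (algebraMap S B) P) P hQle
  have h1 : P ≤ Q' := hP.2 ⟨hQ'p, bot_le⟩ hQ'le
  have h2 : Q' = P := le_antisymm hQ'le h1
  rw [hQ'o.over, h2]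

theorem exists_minimalPrimes_comap_eq_of_faithfullyFlat [Module.FaithfullyFlat S B]
    (q : Ideal S) (hq : q ∈ minimalPrimes S) :
    ∃ P ∈ minimalPrimes B, P.comap (algebraMap S B) = q := by
  haveI hqp : q.IsPrime := hq.1.1
  obtain ⟨Q₀, hQ₀p, hQ₀o⟩ := Ideal.exists_isPrime_liesOver_of_faithfullyFlat (B := B) q
  obtain ⟨P, hP, hPle⟩ := Ideal.exists_minimalPrimes_le (I := ⊥) (J := Q₀) bot_le
  refine ⟨P, hP, ?_⟩
  have h1 : Ideal.comap (algebraMap S B) P ≤ q := by
    rw [hQ₀o.over]
    exact Ideal.comap_mono hPle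
  have h2 := comap_mem_minimalPrimes_of_flat (S := S) P hP
  exact le_antisymm h1 (hq.2 ⟨h2.1.1, bot_le⟩ h1)

end GoingDown

section RingHom

variable {A : Type u} {B : Type v} [CommRing A] [CommRing B]

theorem faithfullyFlat_of_flat_local [IsLocalRing A] [IsLocalRing B] (τ : A →+* B)
    (hτ : τ.Flat) (hl : IsLocalHom τ) :
    letI := τ.toAlgebra
    Module.FaithfullyFlat A B := by
  letI algB : Algebra A B := τ.toAlgebra
  haveI : Module.Flat A B := hτ
  haveI : IsLocalHom (algebraMap A B) := hl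
  exact Module.FaithfullyFlat.of_flat_of_isLocalHom

theorem injective_of_flat_local [IsLocalRing A] [IsLocalRing B] (τ : A →+* B)
    (hτ : τ.Flat) (hl : IsLocalHom τ) : Function.Injective τ := by
  letI algB : Algebra A B := τ.toAlgebra
  haveI : Module.FaithfullyFlat A B := faithfullyFlat_of_flat_local τ hτ hl
  exact FaithfulSMul.algebraMap_injective A B

/-- the number of minimal primes does not decrease along a flat local homomorphism -/
theorem encard_minimalPrimes_le_of_flat_local [IsLocalRing A] [IsLocalRing B] (τ : A →+* B)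
    (hτ : τ.Flat) (hl : IsLocalHom τ) :
    (minimalPrimes A).encard ≤ (minimalPrimes B).encard := by
  classical
  letI algB : Algebra A B := τ.toAlgebra
  haveI : Module.FaithfullyFlat A B := faithfullyFlat_of_flat_local τ hτ hl
  choose c hc1 hc2 using
    fun q hq => exists_minimalPrimes_comap_eq_of_faithfullyFlat (S := A) (B := B) q hq
  refine Set.encard_le_encard_of_injOn (f := fun q => if h : q ∈ minimalPrimes A then c q h
    else ⊥) ?_ ?_
  · intro q hq
    simp only [dif_pos hq]
    exact hc1 q hq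
  · intro q₁ h₁ q₂ h₂ h12
    simp only [dif_pos h₁, dif_pos h₂] at h12
    rw [← hc2 q₁ h₁, ← hc2 q₂ h₂, h12]

end RingHom

section Count

variable {S : Type v} [CommRing S] {ι : Type w} (A : ι → Type u) [∀ i, CommRing (A i)]
  (f : ∀ i, A i →+* S)

/-- the generic counting lemma (universe polymorphic version of helper3's) -/
theorem encard_minimalPrimes_eq_iSup
    (hmin : ∀ i, ∀ P ∈ minimalPrimes S, P.comap (f i) ∈ minimalPrimes (A i))
    (hsurj : ∀ i, ∀ q ∈ minimalPrimes (A i), ∃ P ∈ minimalPrimes S, P.comap (f i) = q)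
    (hfin : ∀ s : Finset S, ∃ i, (s : Set S) ⊆ Set.range (f i)) :
    (minimalPrimes S).encard = ⨆ i, (minimalPrimes (A i)).encard := by
  classical
  apply le_antisymm
  · rw [← ENat.forall_natCast_le_iff_le]
    intro n hn
    obtain ⟨t, htS, htn⟩ := Set.exists_subset_encard_eq hn
    have htfin : t.Finite := Set.finite_of_encard_eq_coe htn
    have hsep : ∀ P ∈ t, ∀ Q ∈ t, P ≠ Q → ∃ x, x ∈ P ∧ x ∉ Q := by
      intro P hP Q hQ hPQ
      by_contra hcon
      push Not at hcon
      have hle : P ≤ Q := fun x hx => hcon x hx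
      have hQP : Q ≤ P := (htS hQ).2 (htS hP).1 hle
      exact hPQ (le_antisymm hle hQP)
    let F : Ideal S → Ideal S → S := fun P Q =>
      if h : ∃ x, x ∈ P ∧ x ∉ Q then h.choose else 0
    have hF : ∀ P ∈ t, ∀ Q ∈ t, P ≠ Q → F P Q ∈ P ∧ F P Q ∉ Q := by
      intro P hP Q hQ hPQ
      have h := hsep P hP Q hQ hPQ
      simp only [F, dif_pos h]
      exact h.choose_spec
    obtain ⟨i, hi⟩ := hfin ((htfin.toFinset ×ˢ htfin.toFinset).image (fun pq => F pq.1 pq.2))
    have hinj : Set.InjOn (fun P : Ideal S => P.comap (f i)) t := by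
      intro P hP Q hQ hPQ
      by_contra hne
      obtain ⟨h1, h2⟩ := hF P hP Q hQ hne
      have hmem : F P Q ∈ Set.range (f i) := by
        apply hi
        rw [Finset.coe_image]
        refine ⟨(P, Q), ?_, rfl⟩
        rw [Finset.mem_coe, Finset.mem_product]
        exact ⟨htfin.mem_toFinset.mpr hP, htfin.mem_toFinset.mpr hQ⟩
      obtain ⟨y, hy⟩ := hmem
      have hy1 : y ∈ P.comap (f i) := by rw [Ideal.mem_comap, hy]; exact h1
      have hy2 : y ∉ Q.comap (f i) := by rw [Ideal.mem_comap, hy]; exact h2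
      have hPQ' : P.comap (f i) = Q.comap (f i) := hPQ
      rw [hPQ'] at hy1
      exact hy2 hy1
    have hsub : (fun P : Ideal S => P.comap (f i)) '' t ⊆ minimalPrimes (A i) := by
      rintro _ ⟨P, hP, rfl⟩
      exact hmin i P (htS hP)
    calc (n : ℕ∞) = t.encard := htn.symm
      _ = ((fun P : Ideal S => P.comap (f i)) '' t).encard := (hinj.encard_image).symm
      _ ≤ (minimalPrimes (A i)).encard := Set.encard_le_encard hsub
      _ ≤ ⨆ i, (minimalPrimes (A i)).encard := le_iSup (fun i => (minimalPrimes (A i)).encard) i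
  · apply iSup_le
    intro i
    choose c hc1 hc2 using hsurj i
    refine Set.encard_le_encard_of_injOn (f := fun q => if h : q ∈ minimalPrimes (A i) then c q h
      else ⊥) ?_ ?_
    · intro q hq
      simp only [dif_pos hq]
      exact hc1 q hq
    · intro q₁ h₁ q₂ h₂ h12
      simp only [dif_pos h₁, dif_pos h₂] at h12
      rw [← hc2 q₁ h₁, ← hc2 q₂ h₂, h12]

/-- counting lemma for flat local homomorphisms -/
theorem encard_minimalPrimes_eq_iSup_of_flat [IsLocalRing S] [∀ i, IsLocalRing (A i)]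
    (hflat : ∀ i, (f i).Flat) (hloc : ∀ i, IsLocalHom (f i))
    (hfin : ∀ s : Finset S, ∃ i, (s : Set S) ⊆ Set.range (f i)) :
    (minimalPrimes S).encard = ⨆ i, (minimalPrimes (A i)).encard := by
  apply encard_minimalPrimes_eq_iSup A f ?_ ?_ hfin
  · intro i P hP
    letI algB : Algebra (A i) S := (f i).toAlgebra
    haveI : Module.Flat (A i) S := hflat i
    exact comap_mem_minimalPrimes_of_flat (S := A i) (B := S) P hP
  · intro i q hq
    letI algB : Algebra (A i) S := (f i).toAlgebra
    haveI : Module.FaithfullyFlat (A i) S := faithfullyFlat_of_flat_local (f i) (hflat i) (hloc i)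
    exact exists_minimalPrimes_comap_eq_of_faithfullyFlat (S := A i) (B := S) q hq

end Count

section Germs

variable {R : Type v} [CommRing R] [IsLocalRing R] {ι : Type w} [Nonempty ι]
  (Γ : ι → Type u) [∀ i, CommRing (Γ i)] (𝔭 : ∀ i, Ideal (Γ i)) [∀ i, (𝔭 i).IsPrime]
  (A : ι → Type u) [∀ i, CommRing (A i)] [∀ i, Algebra (Γ i) (A i)]
  [∀ i, IsLocalization.AtPrime (A i) (𝔭 i)]
  (φ : ∀ i, Γ i →+* R)

/-- "morphisms" `j → i` of the abstract system of germs -/
def GermHom (j i : ι) : Prop :=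
  ∃ (t : Γ i →+* Γ j) (τ : A i →+* A j), (φ j).comp t = φ i ∧ τ.Flat ∧
    (∀ a : A i, IsUnit (τ a) → IsUnit a) ∧
    ∀ f : Γ i, τ (algebraMap (Γ i) (A i) f) = algebraMap (Γ j) (A j) (t f)

/-- the abstract theorem on the number of minimal primes of a ring of germs -/
theorem encard_minimalPrimes_eq_iSup_of_germs
    (hunit : ∀ i (f : Γ i), f ∉ 𝔭 i → IsUnit (φ i f))
    (hnon : ∀ i (f : Γ i), f ∈ 𝔭 i → ¬ IsUnit (φ i f))
    (h1 : ∀ (i : ι) (s : Finset R), ∃ j, GermHom Γ A φ j i ∧ (s : Set R) ⊆ Set.range (φ j))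
    (h3 : ∀ (i : ι) (f : Γ i), φ i f = 0 → ∃ j, ∃ (t : Γ i →+* Γ j) (τ : A i →+* A j),
      (φ j).comp t = φ i ∧ τ.Flat ∧ (∀ a : A i, IsUnit (τ a) → IsUnit a) ∧
      (∀ f : Γ i, τ (algebraMap (Γ i) (A i) f) = algebraMap (Γ j) (A j) (t f)) ∧ t f = 0) :
    (minimalPrimes R).encard = ⨆ i, (minimalPrimes (A i)).encard := by
  classical
  haveI hAloc : ∀ i, IsLocalRing (A i) := fun i => IsLocalization.AtPrime.isLocalRing (A i) (𝔭 i)
  -- the maps `σ i`
  have hu' : ∀ i (y : (𝔭 i).primeCompl), IsUnit (φ i y) := fun i y => hunit i y y.2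
  obtain ⟨σ, hσdef⟩ : ∃ σ : ∀ i, A i →+* R, σ = fun i => IsLocalization.lift (hu' i) :=
    ⟨_, rfl⟩
  have hσ : ∀ i (f : Γ i), σ i (algebraMap (Γ i) (A i) f) = φ i f := by
    intro i f
    rw [hσdef]
    exact IsLocalization.lift_eq (hu' i) f
  -- presentation of elements
  have hpres : ∀ i (a : A i), ∃ (f : Γ i) (s : Γ i), s ∉ 𝔭 i ∧
      a * algebraMap (Γ i) (A i) s = algebraMap (Γ i) (A i) f := by
    intro i a
    obtain ⟨⟨f, s⟩, hfs⟩ := IsLocalization.surj (𝔭 i).primeCompl a
    exact ⟨f, s.1, s.2, hfs⟩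
  have halgunit : ∀ i (s : Γ i), s ∉ 𝔭 i → IsUnit (algebraMap (Γ i) (A i) s) := by
    intro i s hs
    exact IsLocalization.map_units (A i) (⟨s, hs⟩ : (𝔭 i).primeCompl)
  have halgnon : ∀ i (s : Γ i), IsUnit (algebraMap (Γ i) (A i) s) → s ∉ 𝔭 i := by
    intro i s hs hmem
    exact hnon i s hmem (by rw [← hσ]; exact hs.map (σ i))
  -- compatibility of `σ` with morphisms
  have hcompat : ∀ (i j : ι) (t : Γ i →+* Γ j) (τ : A i →+* A j), (φ j).comp t = φ i →
      (∀ f : Γ i, τ (algebraMap (Γ i) (A i) f) = algebraMap (Γ j) (A j) (t f)) →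
      (σ j).comp τ = σ i := by
    intro i j t τ ht hτ
    apply IsLocalization.ringHom_ext (𝔭 i).primeCompl
    ext f
    show σ j (τ (algebraMap (Γ i) (A i) f)) = σ i (algebraMap (Γ i) (A i) f)
    rw [hτ, hσ, hσ, ← ht]
    rfl
  -- local homs
  have hτlocal : ∀ (i j : ι) (τ : A i →+* A j), (∀ a : A i, IsUnit (τ a) → IsUnit a) →
      IsLocalHom τ := fun i j τ h => ⟨h⟩
  -- injectivity
  have hinj : ∀ i, Function.Injective (σ i) := by
    intro i
    rw [injective_iff_map_eq_zero]
    intro a ha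
    obtain ⟨f, s, hs, hfs⟩ := hpres i a
    have hφf : φ i f = 0 := by
      rw [← hσ, ← hfs, map_mul, ha, zero_mul]
    obtain ⟨j, t, τ, ht, hτflat, hτloc, hτ, htf⟩ := h3 i f hφf
    have hτinj : Function.Injective τ :=
      injective_of_flat_local τ hτflat (hτlocal i j τ hτloc)
    apply hτinj
    rw [map_zero]
    have h4 : τ a * algebraMap (Γ j) (A j) (t s) = 0 := by
      rw [← hτ, ← map_mul, hfs, hτ, htf, map_zero]
    have hts : t s ∉ 𝔭 j := by
      intro hmem
      apply hnon j (t s) hmem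
      have : φ j (t s) = φ i s := by rw [← ht]; rfl
      rw [this]
      exact hunit i s hs
    exact (halgunit j (t s) hts).mul_left_eq_zero.1 h4
  -- local
  have hσloc : ∀ i, IsLocalHom (σ i) := by
    intro i
    refine ⟨fun a ha => ?_⟩
    obtain ⟨f, s, hs, hfs⟩ := hpres i a
    have h5 : IsUnit (φ i f) := by
      rw [← hσ, ← hfs, map_mul, hσ]
      exact ha.mul (hunit i s hs)
    have hf : f ∉ 𝔭 i := fun hmem => hnon i f hmem h5
    have h6 : IsUnit (a * algebraMap (Γ i) (A i) s) := by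
      rw [hfs]; exact halgunit i f hf
    exact isUnit_of_mul_isUnit_left h6
  -- ranges
  have hrange : ∀ i, Set.range (φ i) ⊆ Set.range (σ i) := by
    rintro i _ ⟨f, rfl⟩
    exact ⟨algebraMap (Γ i) (A i) f, hσ i f⟩
  -- flatness
  have hflat : ∀ i, (σ i).Flat := by
    intro i
    apply flat_of_forall_exists.{u, v, u} (σ i)
    intro l x
    obtain ⟨j, ⟨t, τ, ht, hτflat, hτloc, hτ⟩, hj⟩ := h1 i (Finset.univ.image x)
    refine ⟨A j, inferInstance, τ, σ j, hτflat, hcompat i j t τ ht hτ, hinj j, fun k => ?_⟩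
    apply hrange j
    apply hj
    rw [Finset.coe_image]
    exact ⟨k, Finset.mem_coe.2 (Finset.mem_univ k), rfl⟩
  apply encard_minimalPrimes_eq_iSup_of_flat A σ hflat hσloc
  intro s
  obtain ⟨i₀⟩ := ‹Nonempty ι›
  obtain ⟨j, -, hj⟩ := h1 i₀ s
  exact ⟨j, hj.trans (hrange j)⟩

end Germs

end Groth.Agent.Lib.MinPrimeColimH7
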