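import Groth.Agent.Lib.ElemNbhd2_helper7
import Groth.Agent.Lib.MinPrimeColim_helper7
import Groth.Agent.S9752
import Groth.Agent.S9235
import Groth.Prelude.Def_CAlgX

/-!
# Elementary étale neighbourhoods of a point of an algebraic space, part 3 (helper7)

Branch numbers over elementary étale neighbourhoods of a point of an algebraic space:
the unibranch and number-of-branches conditions (S10441, S10442).
-/

set_option backward.isDefEq.respectTransparency false
set_option backward.isDefEq.respectTransparency.types false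
set_option linter.style.haveILetI false
set_option linter.unusedSectionVars false
set_option linter.unusedVariables false
set_option autoImplicit false
set_option maxHeartbeats 1600000
set_option maxSynthPendingDepth 3
universe u

open CategoryTheory CategoryTheory.Limits AlgebraicGeometry Opposite

namespace Groth.Agent.Lib.ElemNbhdH7

open AlgSp IsLocalRing EGA4loc Groth.Agent.Lib.AlgSpPoints_helper7
  Groth.Agent.Lib.AlgSpPullback_helper7 Groth.Agent.Lib.AlgSpLocP_helper7
  Groth.Agent.Lib.AlgSpEpi_helper7 Groth.Agent.Lib.BrEtNbhdH3 Groth.Agent.Lib.HenselizationH3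
  Groth.Agent.Lib.AlgSpElemNbhdH6

section Ring

theorem encard_minimalPrimes_le_numBranches (A : Type u) [CommRing A] [IsLocalRing A] :
    (minimalPrimes A).encard ≤ Brnch.numBranches A := by
  haveI := isHenselization_hens (R := A)
  rw [← Groth.Agent.S9237.result A (Hens A)]
  show (minimalPrimes A).encard ≤ (minimalPrimes (Hens A)).encard
  exact Groth.Agent.Lib.MinPrimeColimH7.encard_minimalPrimes_le_of_flat_local
    (algebraMap A (Hens A)) (RingHom.flat_algebraMap_iff.2 inferInstance) inferInstance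

theorem one_le_encard_minimalPrimes (A : Type u) [CommRing A] [Nontrivial A] :
    1 ≤ (minimalPrimes A).encard := by
  obtain ⟨m, hm⟩ := Ideal.exists_maximal A
  haveI := hm.isPrime
  obtain ⟨p, hp, -⟩ := Ideal.exists_minimalPrimes_le (I := ⊥) (J := m) bot_le
  exact Set.one_le_encard_iff_nonempty.2 ⟨p, hp⟩

theorem hasUniqueMinimalPrime_iff (A : Type u) [CommRing A] :
    CAlgX.HasUniqueMinimalPrime A ↔ (minimalPrimes A).encard = 1 := by
  rw [Set.encard_eq_one]
  constructor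
  · rintro ⟨p, hp, huniq⟩
    refine ⟨p, ?_⟩
    ext q
    constructor
    · intro hq
      exact huniq q hq
    · rintro rfl
      exact hp
  · rintro ⟨p, hp⟩
    refine ⟨p, ?_, ?_⟩
    · show p ∈ minimalPrimes A
      rw [hp]
      exact Set.mem_singleton p
    · intro q hq
      have hq' : q ∈ minimalPrimes A := hq
      rw [hp] at hq'
      exact hq'

end Ring

variable {S : Scheme.{u}} {F : Sp S}

/-- all elementary étale neighbourhoods of a point have the same number of branches -/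
theorem numBranchesAt_eq_of_elem (hF : IsAlgSpace F) (x : Points F) {U₁ U₂ : Over S}
    (a₁ : (yon S).obj U₁ ⟶ F) (a₂ : (yon S).obj U₂ ⟶ F) (u₁ : ↥U₁.left) (u₂ : ↥U₂.left)
    (h₁ : IsElemEtaleNbhd a₁ u₁ x) (h₂ : IsElemEtaleNbhd a₂ u₂ x) :
    Brnch.numBranchesAt U₁.left u₁ = Brnch.numBranchesAt U₂.left u₂ := by
  obtain ⟨U, a, v, k₁, k₂, hU, hk₁, hk₂, hv₁, hv₂⟩ := exists_dominating hF x a₁ a₂ u₁ u₂ h₁ h₂
  haveI : Etale k₁.left := etale_left_of_comm a₁ a k₁ hk₁ h₁.etale hU.etale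
  haveI : Etale k₂.left := etale_left_of_comm a₂ a k₂ hk₂ h₂.etale hU.etale
  have hr₁ := residueFieldMap_bijective_of_mono a₁ k₁ v (by rw [hk₁]; exact hU.mono)
  have hr₂ := residueFieldMap_bijective_of_mono a₂ k₂ v (by rw [hk₂]; exact hU.mono)
  have e₁ := numBranchesAt_eq_of_etale k₁.left v hr₁
  have e₂ := numBranchesAt_eq_of_etale k₂.left v hr₂
  rw [← hv₁, ← hv₂, ← e₁, ← e₂]

/-- an elementary étale neighbourhood (in the sense of schemes) of an elementary étale
neighbourhood is an elementary étale neighbourhood -/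
theorem isElemEtaleNbhd_of_hens2 (x : Points F) {U : Over S} (a : (yon S).obj U ⟶ F)
    (u : ↥U.left) (h : IsElemEtaleNbhd a u x) {W : Scheme.{u}} (g : W ⟶ U.left) (w : ↥W)
    (hg : Hens2.IsEtaleNbhd g w u) :
    IsElemEtaleNbhd ((yon S).map (Over.homMk g rfl : Over.mk (g ≫ U.hom) ⟶ U) ≫ a) w x := by
  obtain ⟨het, hbase, hres⟩ := hg
  subst hbase
  refine ⟨repWith_comp _ ((repWith_yon_map_iff _ _).2 het) h.etale, ?_, ?_⟩
  · rw [ofPt_comp]
    exact h.ofPt_eq
  · exact mono_ofPt_comp_of_bijective a (Over.homMk g rfl : Over.mk (g ≫ U.hom) ⟶ U) w hres h.mono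

/-- the condition "bounded by `n`, with `n` attained" over elementary étale neighbourhoods -/
def Cond (x : Points F) (c : ∀ U : Over S, ↥U.left → ℕ∞) (n : ℕ) : Prop :=
  (∀ (U : Over S) (a : (yon S).obj U ⟶ F) (u : ↥U.left), IsElemEtaleNbhd a u x → c U u ≤ n) ∧
  (∃ (U : Over S) (a : (yon S).obj U ⟶ F) (u : ↥U.left), IsElemEtaleNbhd a u x ∧ c U u = n)

theorem cond_iff (x : Points F) (c : ∀ U : Over S, ↥U.left → ℕ∞) (N : ℕ∞) (n : ℕ) (hn : 1 ≤ n)
    (hle : ∀ (U : Over S) (a : (yon S).obj U ⟶ F) (u : ↥U.left), IsElemEtaleNbhd a u x →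
      c U u ≤ N)
    (lub : ∀ b : ℕ∞, (∀ (U : Over S) (a : (yon S).obj U ⟶ F) (u : ↥U.left),
      IsElemEtaleNbhd a u x → c U u ≤ b) → N ≤ b) :
    Cond x c n ↔ N = n := by
  constructor
  · rintro ⟨h1, U, a, u, hU, hc⟩
    apply le_antisymm (lub n h1)
    rw [← hc]
    exact hle U a u hU
  · intro hN
    refine ⟨fun U a u hU => hN ▸ hle U a u hU, ?_⟩
    by_contra hno
    have hall : ∀ (U : Over S) (a : (yon S).obj U ⟶ F) (u : ↥U.left), IsElemEtaleNbhd a u x →
        c U u ≤ ((n - 1 : ℕ) : ℕ∞) := by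
      intro U a u hU
      have h1 : c U u ≤ n := hN ▸ hle U a u hU
      have h2 : c U u ≠ n := fun h => hno ⟨U, a, u, hU, h⟩
      have h3 : c U u < ((n - 1 : ℕ) : ℕ∞) + 1 := by
        have h4 : ((n - 1 : ℕ) : ℕ∞) + 1 = (n : ℕ∞) := by
          exact_mod_cast congrArg (Nat.cast : ℕ → ℕ∞) (Nat.sub_add_cancel hn)
        rw [h4]
        exact lt_of_le_of_ne h1 h2
      exact ENat.lt_natCast_add_one_iff.1 h3
    have h5 := lub _ hall
    rw [hN] at h5
    have h6 : n ≤ n - 1 := by exact_mod_cast h5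
    omega

section Main

variable (hF : IsAlgSpace F) (x : Points F) {U₀ : Over S} (a₀ : (yon S).obj U₀ ⟶ F)
  (u₀ : ↥U₀.left) (h₀ : IsElemEtaleNbhd a₀ u₀ x)

include hF h₀

theorem numBr_eq (U : Over S) (a : (yon S).obj U ⟶ F) (u : ↥U.left)
    (hU : IsElemEtaleNbhd a u x) :
    Brnch.numBranchesAt U.left u = Brnch.numBranchesAt U₀.left u₀ :=
  numBranchesAt_eq_of_elem hF x a a₀ u u₀ hU h₀

theorem count_le (U : Over S) (a : (yon S).obj U ⟶ F) (u : ↥U.left)
    (hU : IsElemEtaleNbhd a u x) :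
    {Z : Set ↥U.left | Z ∈ irreducibleComponents ↥U.left ∧ u ∈ Z}.encard ≤
      Brnch.numBranchesAt U₀.left u₀ := by
  rw [← numBr_eq hF x a₀ u₀ h₀ U a u hU, encard_components_through_eq]
  exact encard_minimalPrimes_le_numBranches _

theorem count_lub (b : ℕ∞)
    (hb : ∀ (U : Over S) (a : (yon S).obj U ⟶ F) (u : ↥U.left), IsElemEtaleNbhd a u x →
      {Z : Set ↥U.left | Z ∈ irreducibleComponents ↥U.left ∧ u ∈ Z}.encard ≤ b) :
    Brnch.numBranchesAt U₀.left u₀ ≤ b := by
  rw [Groth.Agent.S9752.result U₀.left u₀]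
  refine iSup_le fun W => iSup_le fun g => iSup_le fun w => iSup_le fun hw => ?_
  exact hb (Over.mk (g ≫ U₀.hom)) _ w (isElemEtaleNbhd_of_hens2 x a₀ u₀ h₀ g w hw)

theorem cond_count_iff (n : ℕ) (hn : 1 ≤ n) :
    Cond x (fun U u => {Z : Set ↥U.left | Z ∈ irreducibleComponents ↥U.left ∧ u ∈ Z}.encard) n ↔
      Brnch.numBranchesAt U₀.left u₀ = n :=
  cond_iff x _ _ n hn (count_le hF x a₀ u₀ h₀) (count_lub hF x a₀ u₀ h₀)

theorem cond_numBr_iff (n : ℕ) (hn : 1 ≤ n) :
    Cond x (fun U u => Brnch.numBranchesAt U.left u) n ↔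
      Brnch.numBranchesAt U₀.left u₀ = n :=
  cond_iff x _ _ n hn (fun U a u hU => le_of_eq (numBr_eq hF x a₀ u₀ h₀ U a u hU))
    (fun b hb => hb U₀ a₀ u₀ h₀)

theorem cond_minp_iff_count (n : ℕ) :
    Cond x (fun U u => (minimalPrimes ↥(U.left.presheaf.stalk u)).encard) n ↔
    Cond x (fun U u => {Z : Set ↥U.left | Z ∈ irreducibleComponents ↥U.left ∧ u ∈ Z}.encard) n := by
  have h : (fun (U : Over S) (u : ↥U.left) => (minimalPrimes ↥(U.left.presheaf.stalk u)).encard) =
      (fun (U : Over S) (u : ↥U.left) =>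
        {Z : Set ↥U.left | Z ∈ irreducibleComponents ↥U.left ∧ u ∈ Z}.encard) := by
    funext U u
    exact (encard_components_through_eq U.left u).symm
  rw [h]

/-- **S10442** -/
theorem main10442 (n : ℕ) (hn : 1 ≤ n) (R : Type u) [CommRing R] [IsLocalRing R]
    [Algebra ↥(U₀.left.presheaf.stalk u₀) R]
    [IsLocalHom (algebraMap ↥(U₀.left.presheaf.stalk u₀) R)]
    [Hensel.IsHenselization ↥(U₀.left.presheaf.stalk u₀) R] :
    (Cond x (fun U u => (minimalPrimes ↥(U.left.presheaf.stalk u)).encard) n ↔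
      Cond x (fun U u => {Z : Set ↥U.left | Z ∈ irreducibleComponents ↥U.left ∧ u ∈ Z}.encard) n) ∧
    (Cond x (fun U u => {Z : Set ↥U.left | Z ∈ irreducibleComponents ↥U.left ∧ u ∈ Z}.encard) n ↔
      Cond x (fun U u => Brnch.numBranchesAt U.left u) n) ∧
    (Cond x (fun U u => Brnch.numBranchesAt U.left u) n ↔ (minimalPrimes R).encard = n) := by
  have hR : (minimalPrimes R).encard = Brnch.numBranchesAt U₀.left u₀ :=
    Groth.Agent.S9237.result ↥(U₀.left.presheaf.stalk u₀) R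
  refine ⟨cond_minp_iff_count hF x a₀ u₀ h₀ n, ?_, ?_⟩
  · rw [cond_count_iff hF x a₀ u₀ h₀ n hn, cond_numBr_iff hF x a₀ u₀ h₀ n hn]
  · rw [cond_numBr_iff hF x a₀ u₀ h₀ n hn, hR]

/-- **S10441** -/
theorem main10441 (R : Type u) [CommRing R] [IsLocalRing R]
    [Algebra ↥(U₀.left.presheaf.stalk u₀) R]
    [IsLocalHom (algebraMap ↥(U₀.left.presheaf.stalk u₀) R)]
    [Hensel.IsHenselization ↥(U₀.left.presheaf.stalk u₀) R] :
    ((∀ (U : Over S) (a : (yon S).obj U ⟶ F) (u : ↥U.left), IsElemEtaleNbhd a u x →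
        CAlgX.HasUniqueMinimalPrime ↥(U.left.presheaf.stalk u)) ↔
      (∀ (U : Over S) (a : (yon S).obj U ⟶ F) (u : ↥U.left), IsElemEtaleNbhd a u x →
        {Z : Set ↥U.left | Z ∈ irreducibleComponents ↥U.left ∧ u ∈ Z}.encard = 1)) ∧
    ((∀ (U : Over S) (a : (yon S).obj U ⟶ F) (u : ↥U.left), IsElemEtaleNbhd a u x →
        {Z : Set ↥U.left | Z ∈ irreducibleComponents ↥U.left ∧ u ∈ Z}.encard = 1) ↔
      (∀ (U : Over S) (a : (yon S).obj U ⟶ F) (u : ↥U.left), IsElemEtaleNbhd a u x →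
        CAlg2.IsUnibranch ↥(U.left.presheaf.stalk u))) ∧
    ((∀ (U : Over S) (a : (yon S).obj U ⟶ F) (u : ↥U.left), IsElemEtaleNbhd a u x →
        CAlg2.IsUnibranch ↥(U.left.presheaf.stalk u)) ↔ CAlgX.HasUniqueMinimalPrime R) := by
  have hR : (minimalPrimes R).encard = Brnch.numBranchesAt U₀.left u₀ :=
    Groth.Agent.S9237.result ↥(U₀.left.presheaf.stalk u₀) R
  have hcount := cond_count_iff hF x a₀ u₀ h₀ 1 le_rfl
  have hunib : ∀ (U : Over S) (a : (yon S).obj U ⟶ F) (u : ↥U.left), IsElemEtaleNbhd a u x →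
      (CAlg2.IsUnibranch ↥(U.left.presheaf.stalk u) ↔ Brnch.numBranchesAt U₀.left u₀ = 1) := by
    intro U a u hU
    rw [← Groth.Agent.S9235.result, ← numBr_eq hF x a₀ u₀ h₀ U a u hU]
    rfl
  refine ⟨?_, ?_, ?_⟩
  · refine forall₄_congr fun U a u hU => ?_
    rw [hasUniqueMinimalPrime_iff, encard_components_through_eq]
  · constructor
    · intro h U a u hU
      rw [hunib U a u hU]
      have hc : Cond x (fun U u =>
          {Z : Set ↥U.left | Z ∈ irreducibleComponents ↥U.left ∧ u ∈ Z}.encard) 1 :=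
        ⟨fun U a u hU => le_of_eq (h U a u hU), U₀, a₀, u₀, h₀, h U₀ a₀ u₀ h₀⟩
      exact_mod_cast hcount.1 hc
    · intro h U a u hU
      have hN : Brnch.numBranchesAt U₀.left u₀ = ((1 : ℕ) : ℕ∞) := by
        exact_mod_cast (hunib U₀ a₀ u₀ h₀).1 (h U₀ a₀ u₀ h₀)
      have hc := hcount.2 hN
      apply le_antisymm
      · exact_mod_cast hc.1 U a u hU
      · rw [encard_components_through_eq]
        exact one_le_encard_minimalPrimes _
  · constructor
    · intro h
      rw [hasUniqueMinimalPrime_iff, hR]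
      exact (hunib U₀ a₀ u₀ h₀).1 (h U₀ a₀ u₀ h₀)
    · intro h U a u hU
      rw [hunib U a u hU, ← hR]
      exact (hasUniqueMinimalPrime_iff R).1 h

end Main

end Groth.Agent.Lib.ElemNbhdH7
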