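import Mathlib
import Groth.Agent.Lib.GabberZMT_lead
import Groth.Agent.Lib.GabberIdem_lead
import Groth.Agent.Lib.HenselPair_lead

/-!
# The finite part of a quasi-finite algebra over a henselian pair (lead)

If `(A, I)` is a henselian pair and `R` is a quasi-finite `A`-algebra of finite type such that
`R/IR` is a finite `A`-module, then there is an idempotent `e ∈ R` with `1 - e ∈ IR` and
`R/(1 - e)` finite over `A`.
-/

set_option autoImplicit false

namespace Groth.Agent.Lib.FinitePart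
open Groth.Agent.Lib.HenselPair

universe u
variable {A : Type u} [CommRing A]

theorem exists_finite_part {I : Ideal A} (hI : HenselianRing A I)
    (R : Type u) [CommRing R] [Algebra A R] [Algebra.FiniteType A R] [Algebra.QuasiFinite A R]
    (hfin : Module.Finite A (R ⧸ I.map (algebraMap A R))) :
    ∃ e : R, IsIdempotentElem e ∧ (1 - e) ∈ I.map (algebraMap A R) ∧
      Module.Finite A (R ⧸ Ideal.span {1 - e}) := by
  classical
  obtain ⟨B, T, hBfg, hTB, hTspan, hP⟩ := GabberZMT.exists_finite_subalgebra (R := A) (S := R)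
  haveI : Module.Finite A B := ⟨(Submodule.fg_top _).mpr hBfg⟩
  obtain ⟨IR, hIRdef⟩ : ∃ IR : Ideal R, IR = I.map (algebraMap A R) := ⟨_, rfl⟩
  obtain ⟨IB, hIBdef⟩ : ∃ IB : Ideal B, IB = I.map (algebraMap A B) := ⟨_, rfl⟩
  have hIBtop : ∀ x : B, x ∈ IB ↔ x ∈ I • (⊤ : Submodule A B) := fun x => by
    rw [hIBdef]; exact mem_map_iff_mem_smul_top I x
  have hIBIR : ∀ x : B, x ∈ IB → (x : R) ∈ IR := by
    intro x hx
    rw [hIBtop] at hx
    have h1 := algHom_mem_smul_top I B.val hx
    rw [← mem_map_iff_mem_smul_top] at h1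
    rw [hIRdef]; exact h1
  let rB : T → B := fun i => ⟨i, hTB i.2⟩
  have hrB : ∀ i : T, ((rB i : B) : R) = i := fun _ => rfl
  -- uniform exponents
  have hPM : ∀ w : R, ∃ M : ℕ, ∀ i : T, (i : R) ^ M * w ∈ B := by
    intro w
    have h := fun i : T => hP w i i.2
    choose Nf hNf using h
    refine ⟨Finset.univ.sup Nf, fun i => ?_⟩
    have hle : Nf i ≤ Finset.univ.sup Nf := Finset.le_sup (Finset.mem_univ i)
    obtain ⟨k, hk⟩ := Nat.exists_eq_add_of_le hle
    rw [hk, pow_add, mul_right_comm]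
    exact B.mul_mem (hNf i) (B.pow_mem (hTB i.2) k)
  -- (a) `R = B + IR`
  have hBIR : ∀ w : R, ∃ b : B, w - (b : R) ∈ IR := by
    obtain ⟨S, hS⟩ := hfin.fg_top
    have hl : ∀ s : (R ⧸ I.map (algebraMap A R)), ∃ w : R, Ideal.Quotient.mk _ w = s :=
      Ideal.Quotient.mk_surjective
    choose lift hlift using hl
    have hM : ∃ M : ℕ, ∀ s ∈ S, ∀ i : T, (i : R) ^ M * lift s ∈ B := by
      have h := fun s : (R ⧸ I.map (algebraMap A R)) => hPM (lift s)
      choose Mf hMf using h
      refine ⟨S.sup Mf, fun s hs i => ?_⟩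
      have hle : Mf s ≤ S.sup Mf := Finset.le_sup hs
      obtain ⟨k, hk⟩ := Nat.exists_eq_add_of_le hle
      rw [hk, pow_add, mul_right_comm]
      exact B.mul_mem (hMf s i) (B.pow_mem (hTB i.2) k)
    obtain ⟨M, hM⟩ := hM
    have hspan : ∀ x : (R ⧸ I.map (algebraMap A R)), ∀ i : T, ∃ b : B,
        Ideal.Quotient.mk (I.map (algebraMap A R)) ((i : R) ^ M) * x
          = Ideal.Quotient.mk (I.map (algebraMap A R)) (b : R) := by
      intro x
      have hx : x ∈ Submodule.span A (S : Set (R ⧸ I.map (algebraMap A R))) := by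
        rw [hS]; trivial
      induction hx using Submodule.span_induction with
      | mem s hs =>
        intro i
        refine ⟨⟨_, hM s hs i⟩, ?_⟩
        have h1 : Ideal.Quotient.mk (I.map (algebraMap A R)) ((i : R) ^ M) * s
            = Ideal.Quotient.mk (I.map (algebraMap A R)) ((i : R) ^ M) *
              Ideal.Quotient.mk (I.map (algebraMap A R)) (lift s) := by rw [hlift s]
        rw [h1, ← map_mul]
      | zero =>
        intro i
        exact ⟨0, by rw [mul_zero, ZeroMemClass.coe_zero, map_zero]⟩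
      | add x y _ _ hx hy =>
        intro i
        obtain ⟨b₁, h₁⟩ := hx i
        obtain ⟨b₂, h₂⟩ := hy i
        exact ⟨b₁ + b₂, by rw [mul_add, h₁, h₂, Subalgebra.coe_add, map_add]⟩
      | smul a x _ hx =>
        intro i
        obtain ⟨b, hb⟩ := hx i
        refine ⟨a • b, ?_⟩
        rw [mul_smul_comm, hb, Algebra.smul_def, ← Ideal.Quotient.mk_algebraMap, ← map_mul,
          Subalgebra.coe_smul, Algebra.smul_def]
    obtain ⟨c, hc⟩ : ∃ c : T → R, ∑ i : T, c i * (i : R) ^ M = 1 := by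
      have h1 : Ideal.span (Set.range fun i : T => (i : R) ^ M) = ⊤ := by
        have := Ideal.span_pow_eq_top (↑T : Set R) hTspan M
        convert this using 2
        ext x
        simp [Set.mem_image, Set.mem_range]
      have h2 : (1 : R) ∈ Ideal.span (Set.range fun i : T => (i : R) ^ M) := by
        rw [h1]; trivial
      exact Ideal.mem_span_range_iff_exists_fun.mp h2
    intro w
    have h3 : ∀ i : T, ∃ b : B, (i : R) ^ M * (c i * w) - (b : R) ∈ IR := by
      intro i
      obtain ⟨b, hb⟩ := hspan (Ideal.Quotient.mk _ (c i * w)) i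
      refine ⟨b, ?_⟩
      rw [hIRdef, ← Ideal.Quotient.eq, map_mul]
      exact hb
    choose bf hbf using h3
    refine ⟨∑ i : T, bf i, ?_⟩
    have h4 : w - ((∑ i : T, bf i : B) : R)
        = ∑ i : T, ((i : R) ^ M * (c i * w) - (bf i : R)) := by
      rw [Finset.sum_sub_distrib]
      congr 1
      · calc w = (∑ i : T, c i * (i : R) ^ M) * w := by rw [hc, one_mul]
          _ = ∑ i : T, (i : R) ^ M * (c i * w) := by
            rw [Finset.sum_mul]; exact Finset.sum_congr rfl fun i _ => by ring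
      · exact map_sum B.val _ _
    rw [h4]
    exact Ideal.sum_mem _ fun i _ => hbf i
  -- (b) elements of `IR` are killed into `IB` by powers of the `r`
  have hkill : ∀ x : R, x ∈ IR →
      ∃ M : ℕ, ∀ i : T, ∃ y : B, y ∈ IB ∧ (y : R) = (i : R) ^ M * x := by
    intro x hx
    rw [hIRdef, mem_map_iff_mem_smul_top] at hx
    refine Submodule.smul_induction_on hx ?_ ?_
    · intro a ha w _
      obtain ⟨M, hM⟩ := hPM w
      refine ⟨M, fun i => ⟨a • ⟨_, hM i⟩, ?_, ?_⟩⟩
      · rw [hIBtop]; exact Submodule.smul_mem_smul ha Submodule.mem_top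
      · rw [Subalgebra.coe_smul, mul_smul_comm]
    · rintro x y ⟨M₁, h₁⟩ ⟨M₂, h₂⟩
      refine ⟨M₁ + M₂, fun i => ?_⟩
      obtain ⟨y₁, hy₁, e₁⟩ := h₁ i
      obtain ⟨y₂, hy₂, e₂⟩ := h₂ i
      refine ⟨rB i ^ M₂ * y₁ + rB i ^ M₁ * y₂,
        IB.add_mem (IB.mul_mem_left _ hy₁) (IB.mul_mem_left _ hy₂), ?_⟩
      simp only [Subalgebra.coe_add, Subalgebra.coe_mul, Subalgebra.coe_pow, e₁, e₂, hrB]
      ring
  -- (c) the almost idempotent
  obtain ⟨c, hc⟩ : ∃ c : T → R, ∑ i : T, c i * (i : R) = 1 := by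
    have h1 : Ideal.span (Set.range fun i : T => (i : R)) = ⊤ := by
      convert hTspan using 2
      ext x
      simp
    have h2 : (1 : R) ∈ Ideal.span (Set.range fun i : T => (i : R)) := by rw [h1]; trivial
    exact Ideal.mem_span_range_iff_exists_fun.mp h2
  choose bc hbc using fun i : T => hBIR (c i)
  obtain ⟨β, hβdef⟩ : ∃ β : B, β = ∑ i : T, bc i * rB i := ⟨_, rfl⟩
  have hβR : (β : R) = ∑ i : T, (bc i : R) * (i : R) := by
    rw [hβdef]; exact map_sum B.val _ _
  obtain ⟨κ, hκdef⟩ : ∃ κ : B, κ = 1 - β := ⟨_, rfl⟩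
  have hκR : (κ : R) = 1 - (β : R) := by rw [hκdef]; rfl
  have hκ : (κ : R) ∈ IR := by
    have h1 : (κ : R) = ∑ i : T, (c i - (bc i : R)) * (i : R) := by
      rw [hκR, hβR, ← hc, ← Finset.sum_sub_distrib]
      exact Finset.sum_congr rfl fun i _ => by ring
    rw [h1]; exact Ideal.sum_mem _ fun i _ => IR.mul_mem_right _ (hbc i)
  obtain ⟨M, hM⟩ := hkill (κ : R) hκ
  have hMκ : ∀ i : T, rB i ^ M * κ ∈ IB := by
    intro i
    obtain ⟨y, hy, e⟩ := hM i
    have h1 : rB i ^ M * κ = y := Subtype.ext e.symm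
    rw [h1]; exact hy
  obtain ⟨aM, haMdef⟩ : ∃ aM : Ideal B, aM = Ideal.span (Set.range fun i : T => rB i ^ M) :=
    ⟨_, rfl⟩
  have hrad : ∀ i : T, rB i ∈ aM.radical := fun i =>
    Ideal.mem_radical_iff.2 ⟨M, by rw [haMdef]; exact Ideal.subset_span ⟨i, rfl⟩⟩
  obtain ⟨bT, hbTdef⟩ : ∃ bT : Ideal B, bT = Ideal.span (Set.range rB) := ⟨_, rfl⟩
  have hbTrad : bT ≤ aM.radical := by
    rw [hbTdef, Ideal.span_le]
    rintro _ ⟨i, rfl⟩
    exact hrad i
  have hβbT : β ∈ bT := by
    rw [hβdef, hbTdef]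
    exact Ideal.sum_mem _ fun i _ => Ideal.mul_mem_left _ _ (Ideal.subset_span ⟨i, rfl⟩)
  obtain ⟨M', hM'⟩ := Ideal.mem_radical_iff.1 (hbTrad hβbT)
  have haMκ : ∀ x ∈ aM, x * κ ∈ IB := by
    intro x hx
    rw [haMdef] at hx
    induction hx using Submodule.span_induction with
    | mem x hx => obtain ⟨i, rfl⟩ := hx; exact hMκ i
    | zero => rw [zero_mul]; exact IB.zero_mem
    | add x y _ _ hx hy => rw [add_mul]; exact IB.add_mem hx hy
    | smul a x _ hx => rw [smul_eq_mul, mul_assoc]; exact IB.mul_mem_left _ hx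
  obtain ⟨b₀, hb₀def⟩ : ∃ b₀ : B, b₀ = β ^ (M' + 1) := ⟨_, rfl⟩
  have hb₀aM : b₀ ∈ aM := by rw [hb₀def, pow_succ]; exact Ideal.mul_mem_right _ _ hM'
  have hb₀bT : b₀ ∈ bT := by rw [hb₀def, pow_succ]; exact Ideal.mul_mem_left _ _ hβbT
  have hb₀κ : b₀ * κ ∈ IB := haMκ b₀ hb₀aM
  have h1b₀ : 1 - b₀ = κ * ∑ j ∈ Finset.range (M' + 1), β ^ j := by
    rw [hb₀def, hκdef]; exact (mul_neg_geom_sum β (M' + 1)).symm
  have hb₀idem : b₀ * b₀ - b₀ ∈ I • (⊤ : Submodule A B) := by
    rw [← hIBtop]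
    have h2 : b₀ * b₀ - b₀ = -((b₀ * κ) * ∑ j ∈ Finset.range (M' + 1), β ^ j) := by
      linear_combination (-b₀) * h1b₀
    rw [h2]; exact neg_mem (IB.mul_mem_right _ hb₀κ)
  obtain ⟨e, he, heb⟩ := GabberIdem.exists_idem_lift_finite hI b₀ hb₀idem
  have hee : e * e = e := he
  -- (d) `e ∈ bT` by Nakayama
  have hebT : e ∈ bT := by
    obtain ⟨N, hNdef⟩ : ∃ N : Submodule A B, N = LinearMap.range (LinearMap.mulLeft A e) :=
      ⟨_, rfl⟩
    obtain ⟨N', hN'def⟩ : ∃ N' : Submodule A B,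
        N' = Submodule.map (LinearMap.mulLeft A e) (bT.restrictScalars A) := ⟨_, rfl⟩
    have hmemN : ∀ y : B, e * y ∈ N := fun y => by rw [hNdef]; exact ⟨y, rfl⟩
    have hNfg : N.FG := by
      rw [hNdef, LinearMap.range_eq_map]
      exact (Module.Finite.fg_top).map _
    have hmulN : ∀ z : B, z ∈ I • (⊤ : Submodule A B) → ∀ y : B, z * (e * y) ∈ I • N := by
      intro z hz y
      refine Submodule.smul_induction_on hz ?_ ?_
      · intro a ha t _
        have h1 : a • t * (e * y) = a • (e * (t * y)) := by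
          rw [smul_mul_assoc]; congr 1; ring
        rw [h1]
        exact Submodule.smul_mem_smul ha (hmemN _)
      · intro z₁ z₂ h₁ h₂
        rw [add_mul]; exact Submodule.add_mem _ h₁ h₂
    have hle : N ≤ N' ⊔ I • N := by
      intro x hx
      rw [hNdef] at hx
      obtain ⟨y, rfl⟩ := hx
      have hey : (LinearMap.mulLeft A e) y = e * (b₀ * y) + (e - b₀) * (e * y) := by
        show e * y = _
        linear_combination (-y) * hee
      rw [hey]
      refine Submodule.add_mem_sup ?_ (hmulN _ heb y)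
      rw [hN'def]
      exact ⟨b₀ * y, bT.mul_mem_right _ hb₀bT, rfl⟩
    have hNN' : N ≤ N' := Submodule.le_of_le_smul_of_le_jacobson_bot hNfg hI.jac hle
    have heN : e ∈ N := by
      have := hmemN e
      rwa [hee] at this
    have heN' := hNN' heN
    rw [hN'def] at heN'
    obtain ⟨z, hz, hze⟩ := heN'
    have hze' : e * z = e := hze
    rw [← hze']; exact bT.mul_mem_left _ hz
  -- (e) `e * w ∈ B` for all `w`
  have heB : ∀ w : R, (e : R) * w ∈ B := by
    intro w
    obtain ⟨Mw, hMw⟩ := hPM w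
    obtain ⟨aw, hawdef⟩ : ∃ aw : Ideal B,
        aw = Ideal.span (Set.range fun i : T => rB i ^ Mw) := ⟨_, rfl⟩
    have hradw : bT ≤ aw.radical := by
      rw [hbTdef, Ideal.span_le]
      rintro _ ⟨i, rfl⟩
      exact Ideal.mem_radical_iff.2 ⟨Mw, by rw [hawdef]; exact Ideal.subset_span ⟨i, rfl⟩⟩
    obtain ⟨Me, hMe⟩ := Ideal.mem_radical_iff.1 (hradw hebT)
    have heaw : e ∈ aw := by
      have h1 : e ^ (Me + 1) = e := he.pow_succ_eq Me
      rw [← h1, pow_succ]
      exact Ideal.mul_mem_right _ _ hMe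
    have key : ∀ x ∈ aw, (x : R) * w ∈ B := by
      intro x hx
      rw [hawdef] at hx
      induction hx using Submodule.span_induction with
      | mem x hx =>
        obtain ⟨i, rfl⟩ := hx
        exact hMw i
      | zero => rw [ZeroMemClass.coe_zero, zero_mul]; exact B.zero_mem
      | add x y _ _ hx hy => rw [Subalgebra.coe_add, add_mul]; exact B.add_mem hx hy
      | smul a x _ hx =>
        rw [smul_eq_mul, Subalgebra.coe_mul, mul_assoc]
        exact B.mul_mem a.2 hx
    exact key e heaw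
  -- conclusion
  refine ⟨(e : R), ?_, ?_, ?_⟩
  · show (e : R) * (e : R) = (e : R)
    have := congrArg (Subtype.val) hee
    exact this
  · have h1 : (1 : R) - (e : R) = ((1 - b₀ : B) : R) + ((b₀ - e : B) : R) := by
      simp only [Subalgebra.coe_sub, Subalgebra.coe_one]; ring
    rw [h1, ← hIRdef]
    refine IR.add_mem ?_ (hIBIR _ ?_)
    · rw [h1b₀, Subalgebra.coe_mul]
      exact IR.mul_mem_right _ hκ
    · rw [hIBtop]
      have : b₀ - e = -(e - b₀) := by ring
      rw [this]; exact neg_mem heb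
  · let g : B →ₗ[A] (R ⧸ Ideal.span {(1 : R) - (e : R)}) :=
      (Ideal.Quotient.mkₐ A (Ideal.span {(1 : R) - (e : R)})).toLinearMap.comp B.val.toLinearMap
    have hg : Function.Surjective g := by
      intro x
      obtain ⟨w, rfl⟩ := Ideal.Quotient.mk_surjective x
      refine ⟨⟨_, heB w⟩, ?_⟩
      show Ideal.Quotient.mk _ ((e : R) * w) = Ideal.Quotient.mk _ w
      rw [Ideal.Quotient.eq]
      have : (e : R) * w - w = -(w * (1 - (e : R))) := by ring
      rw [this]
      exact neg_mem (Ideal.mul_mem_left _ _ (Ideal.subset_span rfl))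
    exact Module.Finite.of_surjective g hg

end Groth.Agent.Lib.FinitePart
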