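import Mathlib

/-!
# Quasi-finite locus helper lemmas (lead)
-/

set_option autoImplicit false
universe u

namespace Groth.Agent.Lib.QuasiFiniteLocus

open TensorProduct

/-- Zariski's main theorem: if `S` is of finite type over `R` and quasi-finite at `p`
then there is `r ∉ p` with `S[1/r]` quasi-finite over `R`. -/
theorem exists_away_quasiFinite {R S : Type u} [CommRing R] [CommRing S] [Algebra R S]
    [Algebra.FiniteType R S] (p : Ideal S) [p.IsPrime] [Algebra.QuasiFiniteAt R p] :
    ∃ r : S, r ∉ p ∧ Algebra.QuasiFinite R (Localization.Away r) := by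
  obtain ⟨S', hS', r, hrp, H⟩ :=
    (Algebra.ZariskisMainProperty.of_finiteType (R := R)
      p).exists_fg_and_exists_notMem_and_awayMap_bijective _
  have h1 : Module.Finite R S' := ⟨(Submodule.fg_top _).mpr hS'⟩
  have h2 : Algebra.QuasiFinite R (Localization.Away r) := .trans _ S' _
  have h3 : Algebra.QuasiFinite R (Localization.Away r.1) :=
    .of_surjective_algHom (Localization.awayMapₐ S'.val r) H.2
  exact ⟨r.1, hrp, h3⟩

theorem quasiFiniteAt_of_away {R S : Type u} [CommRing R] [CommRing S] [Algebra R S]
    (r : S) [Algebra.QuasiFinite R (Localization.Away r)] (p : Ideal S) [p.IsPrime]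
    (hrp : r ∉ p) : Algebra.QuasiFiniteAt R p := by
  let f : Localization.Away r →ₐ[S] Localization.AtPrime p :=
    IsLocalization.Away.liftAlgHom r (f := Algebra.ofId _ _) <|
      IsLocalization.map_units (M := p.primeCompl) (Localization.AtPrime p) ⟨r, hrp⟩
  refine .of_forall_exists_mul_mem_range (f.restrictScalars R) fun x ↦ ?_
  obtain ⟨x, ⟨s, hs⟩, rfl⟩ := IsLocalization.exists_mk'_eq p.primeCompl x
  exact ⟨algebraMap _ _ s, by simpa using IsLocalization.map_units _ ⟨s, hs⟩,
    algebraMap _ _ x, by simp⟩

/-- A finite type algebra which is quasi-finite at all primes is quasi-finite. -/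
theorem quasiFinite_of_forall {R S : Type u} [CommRing R] [CommRing S] [Algebra R S]
    [Algebra.FiniteType R S]
    (h : ∀ q : PrimeSpectrum S, Algebra.QuasiFiniteAt R q.asIdeal) :
    Algebra.QuasiFinite R S := by
  refine ⟨fun P _ => ?_⟩
  have hdisc : DiscreteTopology (PrimeSpectrum (P.Fiber S)) := by
    rw [discreteTopology_iff_isOpen_singleton]
    intro Q
    haveI : Algebra.QuasiFiniteAt R
        (Q.asIdeal.comap Algebra.TensorProduct.includeRight.toRingHom :
          Ideal S) :=
      h ⟨Q.asIdeal.comap Algebra.TensorProduct.includeRight.toRingHom, inferInstance⟩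
    haveI : Algebra.QuasiFiniteAt P.ResidueField Q.asIdeal :=
      Algebra.QuasiFiniteAt.baseChange
        (Q.asIdeal.comap Algebra.TensorProduct.includeRight.toRingHom : Ideal S) Q.asIdeal rfl
    exact (Algebra.QuasiFiniteAt.isClopen_singleton (R := P.ResidueField) Q).isOpen
  rw [Module.finite_iff_isArtinianRing, isArtinianRing_iff_isNoetherianRing_krullDimLE_zero]
  exact ⟨Algebra.FiniteType.isNoetherianRing P.ResidueField _,
    (PrimeSpectrum.discreteTopology_iff_finite_and_krullDimLE_zero.mp hdisc).right⟩

end Groth.Agent.Lib.QuasiFiniteLocus
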