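import Mathlib
import Groth.Agent.Lib.EtaleNbhd_lead

/-!
# Zariski neighbourhoods `D(1 - i)` of `V(J)` (lead)
-/

set_option autoImplicit false
universe u

namespace Groth.Agent.Lib.ZeroLocusNbhd

open Groth.Agent.Lib Groth.Agent.Lib.EtaleNbhd

theorem exists_basicOpen_subset {R : Type*} [CommRing R] (J : Ideal R)
    (U : Set (PrimeSpectrum R)) (hU : IsOpen U)
    (hJU : PrimeSpectrum.zeroLocus (J : Set R) ⊆ U) :
    ∃ i ∈ J, (↑(PrimeSpectrum.basicOpen (1 - i)) : Set (PrimeSpectrum R)) ⊆ U := by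
  obtain ⟨𝔟, h𝔟⟩ := (PrimeSpectrum.isClosed_iff_zeroLocus_ideal Uᶜ).1 hU.isClosed_compl
  have htop : 𝔟 ⊔ J = ⊤ := by
    rw [← PrimeSpectrum.zeroLocus_empty_iff_eq_top, PrimeSpectrum.zeroLocus_sup, ← h𝔟,
      Set.eq_empty_iff_forall_notMem]
    rintro p ⟨hp1, hp2⟩
    exact hp1 (hJU hp2)
  have h1 : (1 : R) ∈ 𝔟 ⊔ J := by rw [htop]; exact Submodule.mem_top
  obtain ⟨b, hb, i, hi, hbi⟩ := Submodule.mem_sup.1 h1
  refine ⟨i, hi, fun p hp => ?_⟩
  by_contra hpU
  have hp𝔟 : p ∈ PrimeSpectrum.zeroLocus (𝔟 : Set R) := by rw [← h𝔟]; exact hpU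
  have hbp : b ∈ p.asIdeal := ((PrimeSpectrum.mem_zeroLocus _ _).1 hp𝔟) hb
  have hb' : 1 - i = b := by rw [← hbi]; ring
  have hp' : (1 - i) ∉ p.asIdeal := (PrimeSpectrum.mem_basicOpen _ _).1 hp
  rw [hb'] at hp'
  exact hp' hbp

theorem away_one_sub_bijective {R : Type u} [CommRing R] (J : Ideal R) (i : R) (hi : i ∈ J) :
    Function.Bijective (Ideal.quotientMap (J.map (algebraMap R (Localization.Away (1 - i))))
      (algebraMap R (Localization.Away (1 - i))) Ideal.le_comap_map) := by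
  rw [bijective_iff]
  have hJ : J.map (algebraMap R R) = J := Ideal.map_id J
  refine ⟨fun d => ?_, fun r hr => ?_⟩
  · obtain ⟨c, hc⟩ := away_rel J (1 - i) (1 : R) (by
      rw [hJ]
      show 1 - (1 - i) * (1 : R) ∈ J
      rw [mul_one, sub_sub_cancel]
      exact hi) (Localization.Away (1 - i)) d
    rw [hJ] at hc
    exact ⟨c, hc⟩
  · obtain ⟨⟨⟨j, hj⟩, m⟩, hx⟩ :=
      (IsLocalization.mem_map_algebraMap_iff (Submonoid.powers (1 - i)) _).1 hr
    have hx' : algebraMap R (Localization.Away (1 - i)) r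
        * algebraMap R (Localization.Away (1 - i)) (m : R)
        = algebraMap R (Localization.Away (1 - i)) j := hx
    have h0 : algebraMap R (Localization.Away (1 - i)) (r * (m : R) - j) = 0 := by
      rw [map_sub, map_mul]; exact sub_eq_zero.2 hx'
    obtain ⟨m', hm'⟩ := (IsLocalization.map_eq_zero_iff (Submonoid.powers (1 - i)) _ _).1 h0
    have hM : ((m' : R) * (m : R)) * r = (m' : R) * j := by linear_combination hm'
    obtain ⟨k, hk⟩ := (Submonoid.mem_powers_iff _ _).1 (m' * m).2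
    have hk' : (1 - i) ^ k = (m' : R) * (m : R) := by rw [hk]; rfl
    have hd : (1 - (1 - i) ^ k) ∈ J := by
      have h2 := sub_dvd_pow_sub_pow (1 : R) (1 - i) k
      rw [one_pow, sub_sub_cancel] at h2
      exact Ideal.mem_of_dvd _ h2 hi
    have e : r = (1 - (1 - i) ^ k) * r + ((m' : R) * (m : R)) * r := by rw [← hk']; ring
    rw [e, hM]
    exact add_mem (Ideal.mul_mem_right _ _ hd) (Ideal.mul_mem_left _ _ hj)

end Groth.Agent.Lib.ZeroLocusNbhd
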