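import Mathlib
import Groth.Agent.Lib.EtaleNbhd_lead
import Groth.Agent.Lib.PairHensExists_lead
import Groth.Agent.Lib.PairHensQuot_lead
import Groth.Agent.Lib.HfpCore_lead
import Groth.Agent.Lib.ZeroLocusNbhd_lead
import Groth.Agent.Lib.QuasiFiniteLocus_lead
import Groth.Agent.Lib.FinitePart_lead

/-!
# Finite parts over étale neighbourhoods of a pair (lead)

Tools for: if `B` is a finite type `A`-algebra with `B/IB` finite over `A`, then after an étale
neighbourhood `A'` of `(A, I)` an étale `B`-algebra `C` is finite over `A'` with `B/IB = C/IC`.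
-/

set_option autoImplicit false
universe u

namespace Groth.Agent.Lib.FiniteNbhd

open Groth.Agent.Lib Groth.Agent.Lib.EtaleNbhd TensorProduct Polynomial

/-! ### quasi-finite Zariski neighbourhood of `V(IR)` -/

theorem exists_away_quasiFinite {A : Type u} [CommRing A] (I : Ideal A)
    (R : Type u) [CommRing R] [Algebra A R] [Algebra.FiniteType A R]
    (hfin : Module.Finite A (R ⧸ I.map (algebraMap A R))) :
    ∃ i ∈ I.map (algebraMap A R), Algebra.QuasiFinite A (Localization.Away (1 - i)) := by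
  classical
  have hQFat : ∀ (p : Ideal R) [p.IsPrime], I.map (algebraMap A R) ≤ p →
      Algebra.QuasiFiniteAt A p := by
    intro p _ hp
    have hle : I.map (algebraMap A R) ≤ (p.under A).map (algebraMap A R) := by
      apply Ideal.map_mono
      intro a ha
      show algebraMap A R a ∈ p
      exact hp (Ideal.mem_map_of_mem _ ha)
    haveI : Module.Finite A (R ⧸ (p.under A).map (algebraMap A R)) :=
      Module.Finite.of_surjective (Ideal.Quotient.factorₐ A hle).toLinearMap
        (Ideal.Quotient.factor_surjective hle)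
    haveI : Algebra.WeaklyQuasiFiniteAt A p := by
      show Algebra.QuasiFinite A (Localization.AtPrime
        (p.map (Ideal.Quotient.mk ((p.under A).map (algebraMap A R)))))
      infer_instance
    exact Algebra.QuasiFiniteAt.of_weaklyQuasiFiniteAt p
  have hUopen : IsOpen {q : PrimeSpectrum R | ∃ r : R, r ∉ q.asIdeal ∧
      Algebra.QuasiFinite A (Localization.Away r)} := by
    rw [isOpen_iff_forall_mem_open]
    rintro q ⟨r, hr, hQ⟩
    exact ⟨↑(PrimeSpectrum.basicOpen r),
      fun q' hq' => ⟨r, (PrimeSpectrum.mem_basicOpen _ _).1 hq', hQ⟩,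
      (PrimeSpectrum.basicOpen r).isOpen, (PrimeSpectrum.mem_basicOpen _ _).2 hr⟩
  have hU : PrimeSpectrum.zeroLocus ((I.map (algebraMap A R) : Ideal R) : Set R)
      ⊆ {q : PrimeSpectrum R | ∃ r : R, r ∉ q.asIdeal ∧
        Algebra.QuasiFinite A (Localization.Away r)} := by
    intro p hp
    have hle : I.map (algebraMap A R) ≤ p.asIdeal := (PrimeSpectrum.mem_zeroLocus _ _).1 hp
    haveI : Algebra.QuasiFiniteAt A p.asIdeal := hQFat p.asIdeal hle
    exact Groth.Agent.Lib.QuasiFiniteLocus.exists_away_quasiFinite (R := A) p.asIdeal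
  obtain ⟨i, hi, hD⟩ := Groth.Agent.Lib.ZeroLocusNbhd.exists_basicOpen_subset
    (I.map (algebraMap A R)) _ hUopen hU
  haveI hfpR' : Algebra.FinitePresentation R (Localization.Away (1 - i)) :=
    IsLocalization.Away.finitePresentation (1 - i)
  haveI hftA : Algebra.FiniteType A (Localization.Away (1 - i)) :=
    Algebra.FiniteType.trans ‹Algebra.FiniteType A R› inferInstance
  have hQF : Algebra.QuasiFinite A (Localization.Away (1 - i)) := by
    apply Groth.Agent.Lib.QuasiFiniteLocus.quasiFinite_of_forall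
    intro q'
    have hmem : PrimeSpectrum.comap (algebraMap R (Localization.Away (1 - i))) q'
        ∈ (↑(PrimeSpectrum.basicOpen (1 - i)) : Set (PrimeSpectrum R)) := by
      rw [SetLike.mem_coe, PrimeSpectrum.mem_basicOpen]
      intro hmem
      have hmem' : algebraMap R (Localization.Away (1 - i)) (1 - i) ∈ q'.asIdeal := hmem
      have hu : IsUnit (algebraMap R (Localization.Away (1 - i)) (1 - i)) :=
        IsLocalization.Away.algebraMap_isUnit (1 - i)
      exact q'.isPrime.ne_top (Ideal.eq_top_of_isUnit_mem _ hmem' hu)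
    obtain ⟨r, hr, hQ⟩ := hD hmem
    haveI := hQ
    haveI hq : Algebra.QuasiFiniteAt A
        (PrimeSpectrum.comap (algebraMap R (Localization.Away (1 - i))) q').asIdeal :=
      Groth.Agent.Lib.QuasiFiniteLocus.quasiFiniteAt_of_away (R := A) r _ hr
    haveI : q'.asIdeal.LiesOver
        (PrimeSpectrum.comap (algebraMap R (Localization.Away (1 - i))) q').asIdeal := ⟨rfl⟩
    exact Algebra.QuasiFiniteAt.of_surjectiveOnStalks_of_liesOver
      (PrimeSpectrum.comap (algebraMap R (Localization.Away (1 - i))) q').asIdeal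
      (RingHom.surjectiveOnStalks_of_isLocalization (Submonoid.powers (1 - i)) _) q'.asIdeal
  exact ⟨i, hi, hQF⟩

/-! ### generic `D(1 - i)` neighbourhoods -/

theorem away_one_sub_bijective' {R : Type u} [CommRing R] (J : Ideal R) (i : R) (hi : i ∈ J)
    (D : Type u) [CommRing D] [Algebra R D] [IsLocalization.Away (1 - i) D] :
    SurjMod J D ∧ InjMod J D := by
  have hJ : J.map (algebraMap R R) = J := Ideal.map_id J
  refine ⟨fun d => ?_, fun r hr => ?_⟩
  · obtain ⟨c, hc⟩ := away_rel J (1 - i) (1 : R) (by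
      rw [hJ]
      show 1 - (1 - i) * (1 : R) ∈ J
      rw [mul_one, sub_sub_cancel]
      exact hi) D d
    rw [hJ] at hc
    exact ⟨c, hc⟩
  · obtain ⟨⟨⟨j, hj⟩, m⟩, hx⟩ :=
      (IsLocalization.mem_map_algebraMap_iff (Submonoid.powers (1 - i)) _).1 hr
    have hx' : algebraMap R D r * algebraMap R D (m : R) = algebraMap R D j := hx
    have h0 : algebraMap R D (r * (m : R) - j) = 0 := by
      rw [map_sub, map_mul]; exact sub_eq_zero.2 hx'
    obtain ⟨m', hm'⟩ := (IsLocalization.map_eq_zero_iff (Submonoid.powers (1 - i)) _ _).1 h0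
    have hM : ((m' : R) * (m : R)) * r = (m' : R) * j := by linear_combination hm'
    obtain ⟨k, hk⟩ := (Submonoid.mem_powers_iff _ _).1 (m' * m).2
    have hk' : (1 - i) ^ k = (m' : R) * (m : R) := by rw [hk]; rfl
    have hd : (1 - (1 - i) ^ k) ∈ J := by
      have h2 := sub_dvd_pow_sub_pow (1 : R) (1 - i) k
      rw [one_pow, sub_sub_cancel] at h2
      exact Ideal.mem_of_dvd _ h2 hi
    have e : r = (1 - (1 - i) ^ k) * r + ((m' : R) * (m : R)) * r := by rw [← hk']; ring
    rw [e, hM]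
    exact add_mem (Ideal.mul_mem_right _ _ hd) (Ideal.mul_mem_left _ _ hj)

theorem surj_ker_of' {X Y : Type u} [CommRing X] [CommRing Y] (f : X →+* Y) (K : Ideal Y)
    (L : Ideal X) (hS : ∀ y, ∃ x, y - f x ∈ K) (hI : ∀ x, f x ∈ K ↔ x ∈ L) :
    Function.Surjective ((Ideal.Quotient.mk K).comp f) ∧
      RingHom.ker ((Ideal.Quotient.mk K).comp f) = L := by
  constructor
  · intro y
    obtain ⟨y, rfl⟩ := Ideal.Quotient.mk_surjective y
    obtain ⟨x, hx⟩ := hS y
    refine ⟨x, ?_⟩
    show Ideal.Quotient.mk K (f x) = Ideal.Quotient.mk K y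
    rw [Ideal.Quotient.eq]
    have h : f x - y = -(y - f x) := by ring
    rw [h]; exact K.neg_mem hx
  · ext x
    rw [RingHom.mem_ker]
    show Ideal.Quotient.mk K (f x) = 0 ↔ x ∈ L
    rw [Ideal.Quotient.eq_zero_iff_mem]
    exact hI x

theorem eval₂_reverse_eq_zero {A T : Type*} [CommRing A] [CommRing T] (f : A →+* T) {u v : T}
    (huv : u * v = 1) (P : A[X]) :
    Polynomial.eval₂ f u P.reverse = 0 ↔ Polynomial.eval₂ f v P = 0 := by
  letI : Invertible v := ⟨u, huv, by rw [mul_comm]; exact huv⟩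
  exact Polynomial.eval₂_reverse_eq_zero_iff f v P

/-! ### the finite part after localization -/

theorem finite_of_idem_away {A : Type u} [CommRing A] {R : Type u} [CommRing R] [Algebra A R]
    (x : R) (R₁ : Type u) [CommRing R₁] [Algebra R R₁] [Algebra A R₁] [IsScalarTower A R R₁]
    [IsLocalization.Away x R₁] (e : R₁) (he : IsIdempotentElem e)
    (hefin : Module.Finite A (R₁ ⧸ Ideal.span {1 - e})) (N : ℕ) (e₀ : R)
    (hNe : e * algebraMap R R₁ x ^ N = algebraMap R R₁ e₀)
    (L : Type u) [CommRing L] [Algebra R L] [Algebra A L] [IsScalarTower A R L]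
    [IsLocalization.Away (x * e₀) L] : Module.Finite A L := by
  have hUL : IsUnit (algebraMap R L (x * e₀)) := IsLocalization.Away.algebraMap_isUnit (x * e₀)
  rw [map_mul] at hUL
  have hUx : IsUnit (algebraMap R L x) := (IsUnit.mul_iff.1 hUL).1
  have hUe : IsUnit (algebraMap R L e₀) := (IsUnit.mul_iff.1 hUL).2
  let φ₁ : R₁ →ₐ[A] L :=
    IsLocalization.Away.liftAlgHom x (f := IsScalarTower.toAlgHom A R L) hUx
  have hφ₁ : ∀ r, φ₁ (algebraMap R R₁ r) = algebraMap R L r := fun r =>
    IsLocalization.Away.lift_eq x hUx r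
  obtain ⟨v, hvdef⟩ : ∃ v : R₁, v = IsLocalization.Away.invSelf x := ⟨_, rfl⟩
  have huv : algebraMap R R₁ x * v = 1 := by
    rw [hvdef]; exact IsLocalization.Away.mul_invSelf x
  have hφe : φ₁ e = 1 := by
    have h1 : φ₁ e * algebraMap R L x ^ N = algebraMap R L e₀ := by
      rw [← hφ₁ x, ← map_pow, ← map_mul, hNe, hφ₁]
    have hu : IsUnit (φ₁ e) := by
      have h2 : IsUnit (φ₁ e * algebraMap R L x ^ N) := by rw [h1]; exact hUe
      exact (IsUnit.mul_iff.1 h2).1
    have h3 : φ₁ e * φ₁ e = φ₁ e * 1 := by rw [← map_mul, he.eq, mul_one]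
    exact hu.mul_left_cancel h3
  let ψ : (R₁ ⧸ Ideal.span {1 - e}) →ₐ[A] L :=
    Ideal.Quotient.liftₐ (Ideal.span {1 - e}) φ₁ (fun a ha => by
      obtain ⟨c, rfl⟩ := Ideal.mem_span_singleton'.1 ha
      rw [map_mul, map_sub, map_one, hφe, sub_self, mul_zero])
  refine Module.Finite.of_surjective ψ.toLinearMap ?_
  intro z
  obtain ⟨n, a, hz⟩ := IsLocalization.Away.surj (x * e₀) z
  have hw : φ₁ (v ^ (N + 1)) * algebraMap R L (x * e₀) = 1 := by
    have h5 : algebraMap R R₁ (x * e₀) = e * algebraMap R R₁ x ^ (N + 1) := by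
      rw [map_mul, ← hNe]; ring
    rw [← hφ₁ (x * e₀), ← map_mul, h5]
    have h6 : v ^ (N + 1) * (e * algebraMap R R₁ x ^ (N + 1)) = e := by
      have h7 : v ^ (N + 1) * (e * algebraMap R R₁ x ^ (N + 1))
          = e * (algebraMap R R₁ x * v) ^ (N + 1) := by ring
      rw [h7, huv, one_pow, mul_one]
    rw [h6, hφe]
  refine ⟨Ideal.Quotient.mk _ (algebraMap R R₁ a * (v ^ (N + 1)) ^ n), ?_⟩
  show φ₁ (algebraMap R R₁ a * (v ^ (N + 1)) ^ n) = z
  rw [map_mul, map_pow, hφ₁, ← hz]
  have h8 : z * algebraMap R L (x * e₀) ^ n * φ₁ (v ^ (N + 1)) ^ n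
      = z * (φ₁ (v ^ (N + 1)) * algebraMap R L (x * e₀)) ^ n := by ring
  rw [h8, hw, one_pow, mul_one]

theorem exists_finite_away_aux {A : Type u} [CommRing A] (I : Ideal A) {R : Type u} [CommRing R]
    [Algebra A R] (x : R) (hx : 1 - x ∈ I.map (algebraMap A R))
    (R₁ : Type u) [CommRing R₁] [Algebra R R₁] [Algebra A R₁] [IsScalarTower A R R₁]
    [IsLocalization.Away x R₁] (hInj : InjMod (I.map (algebraMap A R)) R₁)
    (e : R₁) (he : IsIdempotentElem e) (he1 : 1 - e ∈ I.map (algebraMap A R₁))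
    (hefin : Module.Finite A (R₁ ⧸ Ideal.span {1 - e})) :
    ∃ j ∈ I.map (algebraMap A R), Module.Finite A (Localization.Away (1 - j)) := by
  obtain ⟨N, e₀, hNe⟩ := IsLocalization.Away.surj x e
  have hmm : (I.map (algebraMap A R)).map (algebraMap R R₁) = I.map (algebraMap A R₁) := by
    rw [Ideal.map_map, ← IsScalarTower.algebraMap_eq]
  have h1j : 1 - (1 - x * e₀) = x * e₀ := sub_sub_cancel _ _
  have halg : algebraMap R R₁ (x * e₀) = e * algebraMap R R₁ x ^ (N + 1) := by
    rw [map_mul, ← hNe]; ring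
  have hd : (1 - x ^ (N + 1)) ∈ I.map (algebraMap A R) := by
    have h2 := sub_dvd_pow_sub_pow (1 : R) x (N + 1)
    rw [one_pow] at h2
    exact Ideal.mem_of_dvd _ h2 hx
  have hj : (1 - x * e₀) ∈ I.map (algebraMap A R) := by
    apply hInj
    have h3 : algebraMap R R₁ (1 - x * e₀)
        = (1 - e) + e * algebraMap R R₁ (1 - x ^ (N + 1)) := by
      rw [map_sub, map_one, halg, map_sub, map_one, map_pow]; ring
    rw [h3, hmm]
    refine Ideal.add_mem _ he1 (Ideal.mul_mem_left _ _ ?_)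
    rw [← hmm]
    exact Ideal.mem_map_of_mem _ hd
  refine ⟨1 - x * e₀, hj, ?_⟩
  haveI hL : IsLocalization.Away (x * e₀) (Localization.Away (1 - (1 - x * e₀))) := by
    rw [h1j]; infer_instance
  exact finite_of_idem_away x R₁ e he hefin N e₀ hNe (Localization.Away (1 - (1 - x * e₀)))

theorem exists_finite_away {A : Type u} [CommRing A] {I : Ideal A} (hI : HenselianRing A I)
    (R : Type u) [CommRing R] [Algebra A R] [Algebra.FiniteType A R]
    (hfin : Module.Finite A (R ⧸ I.map (algebraMap A R))) :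
    ∃ j ∈ I.map (algebraMap A R), Module.Finite A (Localization.Away (1 - j)) := by
  classical
  obtain ⟨i, hi, hQF⟩ := exists_away_quasiFinite I R hfin
  haveI := hQF
  haveI hfpR' : Algebra.FinitePresentation R (Localization.Away (1 - i)) :=
    IsLocalization.Away.finitePresentation (1 - i)
  haveI hftA : Algebra.FiniteType A (Localization.Away (1 - i)) :=
    Algebra.FiniteType.trans ‹Algebra.FiniteType A R› inferInstance
  obtain ⟨hS, hInj⟩ := away_one_sub_bijective' (I.map (algebraMap A R)) i hi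
    (Localization.Away (1 - i))
  have hmm : (I.map (algebraMap A R)).map (algebraMap R (Localization.Away (1 - i)))
      = I.map (algebraMap A (Localization.Away (1 - i))) := by
    rw [Ideal.map_map, ← IsScalarTower.algebraMap_eq]
  have hfin₁ : Module.Finite A (Localization.Away (1 - i) ⧸
      I.map (algebraMap A (Localization.Away (1 - i)))) := by
    let ψ : (R ⧸ I.map (algebraMap A R)) →ₐ[A]
        (Localization.Away (1 - i) ⧸ I.map (algebraMap A (Localization.Away (1 - i)))) :=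
      Ideal.Quotient.liftₐ (I.map (algebraMap A R))
        ((Ideal.Quotient.mkₐ A (I.map (algebraMap A (Localization.Away (1 - i))))).comp
          (IsScalarTower.toAlgHom A R (Localization.Away (1 - i)))) (fun x hx => by
        show Ideal.Quotient.mk _ (algebraMap R (Localization.Away (1 - i)) x) = 0
        rw [Ideal.Quotient.eq_zero_iff_mem, ← hmm]
        exact Ideal.mem_map_of_mem _ hx)
    refine Module.Finite.of_surjective ψ.toLinearMap ?_
    intro y
    obtain ⟨x, rfl⟩ := Ideal.Quotient.mk_surjective y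
    obtain ⟨r, hr⟩ := hS x
    refine ⟨Ideal.Quotient.mk _ r, ?_⟩
    show Ideal.Quotient.mk _ (algebraMap R (Localization.Away (1 - i)) r)
      = Ideal.Quotient.mk _ x
    rw [Ideal.Quotient.eq, ← hmm]
    have h1 : algebraMap R (Localization.Away (1 - i)) r - x
        = -(x - algebraMap R (Localization.Away (1 - i)) r) := by ring
    rw [h1]; exact neg_mem hr
  obtain ⟨e, he, he1, hefin⟩ :=
    FinitePart.exists_finite_part hI (Localization.Away (1 - i)) hfin₁
  exact exists_finite_away_aux I (1 - i) (by rw [sub_sub_cancel]; exact hi)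
    (Localization.Away (1 - i)) hInj e he he1 hefin

/-! ### base change of the finite quotient -/

theorem finite_quotient_baseChange {A : Type u} [CommRing A] (I : Ideal A) (Ah : Type u)
    [CommRing Ah] [Algebra A Ah] (B : Type u) [CommRing B] [Algebra A B]
    (hfin : Module.Finite A (B ⧸ I.map (algebraMap A B))) :
    Module.Finite Ah ((Ah ⊗[A] B) ⧸
      (I.map (algebraMap A Ah)).map (algebraMap Ah (Ah ⊗[A] B))) := by
  obtain ⟨JR, hJR⟩ : ∃ JR : Ideal (Ah ⊗[A] B),
      JR = (I.map (algebraMap A Ah)).map (algebraMap Ah (Ah ⊗[A] B)) := ⟨_, rfl⟩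
  rw [← hJR]
  let ψ₀ : B →ₐ[A] (Ah ⊗[A] B) ⧸ JR :=
    (Ideal.Quotient.mkₐ A JR).comp Algebra.TensorProduct.includeRight
  have hψ₀ : ∀ b ∈ I.map (algebraMap A B), ψ₀ b = 0 := by
    intro b hb
    have h1 : I.map (algebraMap A B) ≤ RingHom.ker ψ₀.toRingHom := by
      rw [Ideal.map_le_iff_le_comap]
      intro a ha
      rw [Ideal.mem_comap, RingHom.mem_ker]
      show ψ₀ (algebraMap A B a) = 0
      rw [ψ₀.commutes, IsScalarTower.algebraMap_apply A Ah ((Ah ⊗[A] B) ⧸ JR),
        ← Ideal.Quotient.mk_algebraMap, Ideal.Quotient.eq_zero_iff_mem, hJR]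
      exact Ideal.mem_map_of_mem _ (Ideal.mem_map_of_mem _ ha)
    exact (RingHom.mem_ker).1 (h1 hb)
  let ψ : (B ⧸ I.map (algebraMap A B)) →ₐ[A] (Ah ⊗[A] B) ⧸ JR :=
    Ideal.Quotient.liftₐ _ ψ₀ hψ₀
  let Λ : Ah ⊗[A] (B ⧸ I.map (algebraMap A B)) →ₗ[Ah] (Ah ⊗[A] B) ⧸ JR :=
    LinearMap.liftBaseChange Ah ψ.toLinearMap
  refine Module.Finite.of_surjective Λ ?_
  intro y
  obtain ⟨r, rfl⟩ := Ideal.Quotient.mk_surjective y
  induction r using TensorProduct.induction_on with
  | zero => exact ⟨0, by rw [map_zero, map_zero]⟩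
  | tmul x b =>
    refine ⟨x ⊗ₜ[A] (Ideal.Quotient.mk _ b), ?_⟩
    rw [LinearMap.liftBaseChange_tmul]
    show x • (Ideal.Quotient.mk JR ((1 : Ah) ⊗ₜ[A] b)) = Ideal.Quotient.mk JR (x ⊗ₜ[A] b)
    have h1 : x • (Ideal.Quotient.mk JR ((1 : Ah) ⊗ₜ[A] b))
        = Ideal.Quotient.mk JR (x • ((1 : Ah) ⊗ₜ[A] b)) := rfl
    rw [h1, TensorProduct.smul_tmul', smul_eq_mul, mul_one]
  | add r₁ r₂ h₁ h₂ =>
    obtain ⟨z₁, hz₁⟩ := h₁
    obtain ⟨z₂, hz₂⟩ := h₂
    exact ⟨z₁ + z₂, by rw [map_add, hz₁, hz₂, map_add]⟩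

/-! ### killing elements of `M` which vanish in `M ⊗ Aʰ` -/

section LemmaK

variable {S : Type u} [CommRing S] {J : Ideal S} {C : Type u} [CommRing C] [Algebra S C]

theorem exists_one_sub_smul_single (hC : Hens2.IsPairHenselization S J C) (M : Type u)
    [AddCommGroup M] [Module S M] (x : M) (hx : x ⊗ₜ[S] (1 : C) = 0) :
    ∃ i ∈ J, (1 - i) • x = 0 := by
  classical
  haveI : Module.Flat S C := EtaleNbhd.flat hC
  let mm : Unit → M := fun _ => x
  let nn : Unit → C := fun _ => 1
  have hsum : ∑ o, mm o ⊗ₜ[S] nn o = (0 : M ⊗[S] C) := by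
    rw [Fintype.sum_unique]
    exact hx
  have hinj : Function.Injective
      (LinearMap.rTensor C (Submodule.span S (Set.range mm)).subtype) :=
    Module.Flat.rTensor_preserves_injective_linearMap _ (Submodule.injective_subtype _)
  obtain ⟨k, a, y, hy1, hy2⟩ :=
    TensorProduct.vanishesTrivially_of_sum_tmul_eq_zero_of_rTensor_injective S hinj hsum
  have hax : ∀ j, a () j • x = 0 := by
    intro j
    have h := hy2 j
    rw [Fintype.sum_unique] at h
    exact h
  have h9 : (1 : C) = ∑ j, algebraMap S C (a () j) * y j := by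
    have h := hy1 ()
    have h' : (1 : C) = ∑ j, a () j • y j := h
    rw [h']
    exact Finset.sum_congr rfl fun j _ => Algebra.smul_def _ _
  obtain ⟨hSurj, hInj⟩ := (bijective_iff J C).1
    (PairHensQuot.quotientMap_bijective C J hC.1 hC.2)
  choose s hs using fun j => hSurj (y j)
  have h7 : algebraMap S C (1 - ∑ j, a () j * s j) ∈ J.map (algebraMap S C) := by
    have h8 : algebraMap S C (1 - ∑ j, a () j * s j)
        = ∑ j, algebraMap S C (a () j) * (y j - algebraMap S C (s j)) := by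
      have h10 : ∑ j, algebraMap S C (a () j) * (y j - algebraMap S C (s j))
          = (∑ j, algebraMap S C (a () j) * y j) -
            ∑ j, algebraMap S C (a () j) * algebraMap S C (s j) := by
        rw [← Finset.sum_sub_distrib]
        exact Finset.sum_congr rfl fun j _ => mul_sub _ _ _
      rw [h10, ← h9, map_sub, map_one, map_sum]
      congr 1
      exact Finset.sum_congr rfl fun j _ => map_mul _ _ _
    rw [h8]
    exact Ideal.sum_mem _ fun j _ => Ideal.mul_mem_left _ _ (hs j)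
  have h11 : (1 - ∑ j, a () j * s j) ∈ J := hInj _ h7
  refine ⟨1 - ∑ j, a () j * s j, h11, ?_⟩
  rw [sub_sub_cancel, Finset.sum_smul]
  apply Finset.sum_eq_zero
  intro j _
  rw [mul_comm, mul_smul, hax j, smul_zero]

theorem exists_one_sub_smul (hC : Hens2.IsPairHenselization S J C) (M : Type u)
    [AddCommGroup M] [Module S M] (K : Finset M) (hK : ∀ x ∈ K, x ⊗ₜ[S] (1 : C) = 0) :
    ∃ i ∈ J, ∀ x ∈ K, (1 - i) • x = 0 := by
  classical
  induction K using Finset.induction_on with
  | empty => exact ⟨0, J.zero_mem, fun x hx => absurd hx (Finset.notMem_empty x)⟩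
  | insert z K hz ih =>
    obtain ⟨i₁, hi₁, h₁⟩ := ih (fun x hx => hK x (Finset.mem_insert_of_mem hx))
    obtain ⟨i₂, hi₂, h₂⟩ :=
      exists_one_sub_smul_single hC M z (hK z (Finset.mem_insert_self z K))
    refine ⟨i₁ + i₂ - i₁ * i₂, J.sub_mem (J.add_mem hi₁ hi₂) (J.mul_mem_left _ hi₂),
      fun x hx => ?_⟩
    have e : (1 - (i₁ + i₂ - i₁ * i₂)) = (1 - i₁) * (1 - i₂) := by ring
    rcases Finset.mem_insert.1 hx with hxz | hx'
    · rw [e, mul_smul, hxz, h₂, smul_zero]
    · rw [e, mul_comm, mul_smul, h₁ x hx', smul_zero]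

theorem exists_nbhd_finset (hC : Hens2.IsPairHenselization S J C) (F : Finset C) :
    ∃ (S' : Type u) (_ : CommRing S') (_ : Algebra S S') (_ : Algebra.Etale S S')
      (_ : Algebra S' C) (_ : IsScalarTower S S' C),
      SurjMod J S' ∧ Hens2.IsPairHenselization S' (J.map (algebraMap S S')) C ∧
      ∀ c ∈ F, ∃ x : S', algebraMap S' C x = c := by
  obtain ⟨S', i1, i2, i3, i4, i5, h1, h2, s, hs⟩ :=
    HfpCore.exists_nbhd_mem hC (fun k : Fin F.card => ((F.equivFin.symm k : F) : C))
  refine ⟨S', i1, i2, i3, i4, i5, h1, h2, fun c hc => ⟨s (F.equivFin ⟨c, hc⟩), ?_⟩⟩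
  rw [hs, Equiv.symm_apply_apply]

end LemmaK

section KillTensor

variable {A : Type u} [CommRing A] {S : Type u} [CommRing S] [Algebra A S] {J : Ideal S}
  {C : Type u} [CommRing C] [Algebra S C] [Algebra A C] [IsScalarTower A S C]

theorem cancel_one_tmul (B : Type u) [CommRing B] [Algebra A B] (z : S ⊗[A] B) :
    TensorProduct.AlgebraTensorModule.cancelBaseChange A S S C B ((1 : C) ⊗ₜ[S] z)
      = Algebra.TensorProduct.map (IsScalarTower.toAlgHom A S C) (AlgHom.id A B) z := by
  induction z using TensorProduct.induction_on with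
  | zero => rw [TensorProduct.tmul_zero, map_zero, map_zero]
  | tmul x b =>
    have h1 : (x • (1 : C)) = algebraMap S C x := by rw [Algebra.smul_def, mul_one]
    have h2 : TensorProduct.AlgebraTensorModule.cancelBaseChange A S S C B
        ((1 : C) ⊗ₜ[S] (x ⊗ₜ[A] b)) = (x • (1 : C)) ⊗ₜ[A] b := rfl
    rw [h2, h1]
    exact (Algebra.TensorProduct.map_tmul (IsScalarTower.toAlgHom A S C) (AlgHom.id A B) x b).symm
  | add x y hx hy => rw [TensorProduct.tmul_add, map_add, map_add, hx, hy]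

theorem exists_kill_tensor (hC : Hens2.IsPairHenselization S J C) (B : Type u) [CommRing B]
    [Algebra A B] (K : Finset (S ⊗[A] B))
    (hK : ∀ z ∈ K,
      Algebra.TensorProduct.map (IsScalarTower.toAlgHom A S C) (AlgHom.id A B) z = 0) :
    ∃ i ∈ J, ∀ z ∈ K, (1 - i) • z = 0 := by
  apply exists_one_sub_smul hC (S ⊗[A] B) K
  intro z hz
  have h1 : (1 : C) ⊗ₜ[S] z = 0 := by
    apply (TensorProduct.AlgebraTensorModule.cancelBaseChange A S S C B).injective
    rw [cancel_one_tmul, hK z hz, map_zero]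
  have h2 := congrArg (TensorProduct.comm S C (S ⊗[A] B)) h1
  rw [TensorProduct.comm_tmul, map_zero] at h2
  exact h2

end KillTensor

/-! ### retractions -/

section Retraction

variable {A : Type u} [CommRing A] (I : Ideal A)

theorem exists_retraction (C : Type u) [CommRing C] [Algebra A C] (hS : SurjMod I C)
    (hI : InjMod I C) : Nonempty (C →ₐ[A] A ⧸ I) := by
  let e : (A ⧸ I) ≃+* (C ⧸ I.map (algebraMap A C)) :=
    RingEquiv.ofBijective _ ((bijective_iff I C).2 ⟨hS, hI⟩)
  refine ⟨{ (e.symm.toRingHom.comp (Ideal.Quotient.mk (I.map (algebraMap A C))) :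
      C →+* A ⧸ I) with commutes' := fun a => ?_ }⟩
  show e.symm (Ideal.Quotient.mk _ (algebraMap A C a)) = Ideal.Quotient.mk I a
  rw [RingEquiv.symm_apply_eq]
  rfl

theorem ringHom_quot_eq_zero {B : Type u} [CommRing B] [Algebra A B] {X : Type u} [CommRing X]
    [Algebra A X] (ψ : X →+* B ⧸ I.map (algebraMap A B))
    (hψ : ∀ a, ψ (algebraMap A X a) = Ideal.Quotient.mk _ (algebraMap A B a)) {z : X}
    (hz : z ∈ I.map (algebraMap A X)) : ψ z = 0 := by
  have h1 : I.map (algebraMap A X) ≤ RingHom.ker ψ := by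
    rw [Ideal.map_le_iff_le_comap]
    intro a ha
    rw [Ideal.mem_comap, RingHom.mem_ker, hψ]
    exact Ideal.Quotient.eq_zero_iff_mem.2 (Ideal.mem_map_of_mem _ ha)
  exact (RingHom.mem_ker).1 (h1 hz)

theorem exists_tensor_retraction (C : Type u) [CommRing C] [Algebra A C] (hS : SurjMod I C)
    (hI : InjMod I C) (B : Type u) [CommRing B] [Algebra A B] :
    ∃ π : C ⊗[A] B →ₐ[A] B ⧸ I.map (algebraMap A B),
      ∀ β : B, π ((1 : C) ⊗ₜ[A] β) = Ideal.Quotient.mk _ β := by
  obtain ⟨σ⟩ := exists_retraction I C hS hI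
  let τ : A ⧸ I →ₐ[A] B ⧸ I.map (algebraMap A B) :=
    Ideal.Quotient.liftₐ I (Algebra.ofId A (B ⧸ I.map (algebraMap A B))) (fun a ha => by
      show algebraMap A (B ⧸ I.map (algebraMap A B)) a = 0
      rw [← Ideal.Quotient.mk_algebraMap]
      exact Ideal.Quotient.eq_zero_iff_mem.2 (Ideal.mem_map_of_mem _ ha))
  refine ⟨Algebra.TensorProduct.lift (τ.comp σ) (Ideal.Quotient.mkₐ A _)
    (fun _ _ => Commute.all _ _), fun β => ?_⟩
  rw [Algebra.TensorProduct.lift_tmul, map_one, one_mul]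
  rfl

theorem tensor_right_surj (S : Type u) [CommRing S] [Algebra A S] (hS : SurjMod I S)
    (B : Type u) [CommRing B] [Algebra A B] (t : S ⊗[A] B) :
    ∃ β : B, t - (1 : S) ⊗ₜ[A] β ∈ I.map (algebraMap A (S ⊗[A] B)) := by
  induction t using TensorProduct.induction_on with
  | zero => exact ⟨0, by rw [TensorProduct.tmul_zero, sub_zero]; exact Ideal.zero_mem _⟩
  | tmul x b =>
    obtain ⟨a, ha⟩ := hS x
    refine ⟨a • b, ?_⟩
    have h1 : x ⊗ₜ[A] b - (1 : S) ⊗ₜ[A] (a • b) = (x - algebraMap A S a) ⊗ₜ[A] b := by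
      rw [TensorProduct.sub_tmul, Algebra.algebraMap_eq_smul_one, TensorProduct.smul_tmul]
    rw [h1]
    exact tmul_mem_left I ha b
  | add x y hx hy =>
    obtain ⟨β₁, h₁⟩ := hx
    obtain ⟨β₂, h₂⟩ := hy
    refine ⟨β₁ + β₂, ?_⟩
    have h3 : x + y - (1 : S) ⊗ₜ[A] (β₁ + β₂)
        = (x - (1 : S) ⊗ₜ[A] β₁) + (y - (1 : S) ⊗ₜ[A] β₂) := by
      rw [TensorProduct.tmul_add]; abel
    rw [h3]; exact Ideal.add_mem _ h₁ h₂

theorem mem_of_retraction (S : Type u) [CommRing S] [Algebra A S] (hS : SurjMod I S)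
    (B : Type u) [CommRing B] [Algebra A B]
    (π : S ⊗[A] B →ₐ[A] B ⧸ I.map (algebraMap A B))
    (hπ : ∀ β : B, π ((1 : S) ⊗ₜ[A] β) = Ideal.Quotient.mk _ β) {t : S ⊗[A] B}
    (ht : π t = 0) : t ∈ I.map (algebraMap A (S ⊗[A] B)) := by
  obtain ⟨β, hβ⟩ := tensor_right_surj I S hS B t
  have h1 : π (t - (1 : S) ⊗ₜ[A] β) = 0 :=
    ringHom_quot_eq_zero I π.toRingHom (fun a => by
      show π (algebraMap A _ a) = _
      rw [π.commutes, ← Ideal.Quotient.mk_algebraMap]) hβ
  rw [map_sub, ht, zero_sub, neg_eq_zero, hπ] at h1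
  have h2 : β ∈ I.map (algebraMap A B) := Ideal.Quotient.eq_zero_iff_mem.1 h1
  have h3 : t = (t - (1 : S) ⊗ₜ[A] β) + (1 : S) ⊗ₜ[A] β := by abel
  rw [h3]
  exact Ideal.add_mem _ hβ (tmul_mem_right I 1 h2)

end Retraction

end Groth.Agent.Lib.FiniteNbhd
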