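import Mathlib
import Groth.Prelude.Def_Hens2
import Groth.Agent.Lib.EtaleNbhd_lead
import Groth.Agent.S0543

/-!
# The henselization of a Noetherian pair is Noetherian (helper3)

For a Noetherian ring `A`, an ideal `I` and a henselization `B` of `(A, I)`:
`B → Â` (the `I`-adic completion of `A`) is faithfully flat, so `B` is Noetherian, and
`Â → B̂` is bijective.
-/

set_option autoImplicit false
universe u

namespace Groth.Agent.Lib.HensNoethH3

open TensorProduct Groth.Agent.Lib Groth.Agent.Lib.EtaleNbhd

/-- If `R → C` is étale and `R → R'` is flat, then any `R`-algebra map `C → R'` is flat. -/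
theorem flat_of_etale (R R' C : Type u) [CommRing R] [CommRing R'] [CommRing C] [Algebra R R']
    [Algebra R C] [Algebra.Etale R C] [Module.Flat R R'] (ψ : C →ₐ[R] R') :
    ψ.toRingHom.Flat := by
  let σ : R' ⊗[R] C →ₐ[R'] R' :=
    Algebra.TensorProduct.lift (AlgHom.id R' R') ψ (fun _ _ => Commute.all _ _)
  have h2 : σ.toRingHom.Flat := by
    letI : Algebra (R' ⊗[R] C) R' := σ.toRingHom.toAlgebra
    haveI : IsScalarTower R' (R' ⊗[R] C) R' :=
      IsScalarTower.of_algebraMap_eq (fun x => (σ.commutes x).symm)
    haveI : Algebra.Etale (R' ⊗[R] C) R' :=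
      Algebra.Etale.of_restrictScalars (R := R') (A := R' ⊗[R] C) (B := R')
    show Module.Flat (R' ⊗[R] C) R'
    infer_instance
  have h1 : (Algebra.TensorProduct.includeRight (R := R) (A := R') (B := C)).toRingHom.Flat := by
    letI : Algebra C (R' ⊗[R] C) := Algebra.TensorProduct.rightAlgebra
    show Module.Flat C (R' ⊗[R] C)
    exact Module.Flat.of_linearEquiv (Algebra.TensorProduct.commRight R C R').symm.toLinearEquiv
  have h3 : σ.toRingHom.comp
      (Algebra.TensorProduct.includeRight (R := R) (A := R') (B := C)).toRingHom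
        = ψ.toRingHom := by
    refine RingHom.ext fun c => ?_
    show σ (1 ⊗ₜ c) = ψ c
    simp [σ]
  rw [← h3]
  exact RingHom.Flat.comp h1 h2

/-- descent of the Noetherian property along a faithfully flat ring map -/
theorem isNoetherianRing_of_faithfullyFlat (R S : Type*) [CommRing R] [CommRing S] [Algebra R S]
    [Module.FaithfullyFlat R S] [IsNoetherianRing S] : IsNoetherianRing R := by
  have hinj : Function.Injective (Ideal.map (algebraMap R S)) := fun J₁ J₂ h => by
    rw [← Ideal.comap_map_eq_self_of_faithfullyFlat (B := S) J₁, h,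
      Ideal.comap_map_eq_self_of_faithfullyFlat]
  have hmono : StrictMono (Ideal.map (algebraMap R S)) :=
    Monotone.strictMono_of_injective (fun _ _ h => Ideal.map_mono h) hinj
  have hwf : WellFoundedGT (Ideal S) := (isNoetherian_iff' (R := S) (M := S)).1 inferInstance
  exact (isNoetherian_iff' (R := R) (M := R)).2 hmono.wellFoundedGT

section Compl

variable {R : Type*} [CommRing R] (I : Ideal R) {M N : Type*} [AddCommGroup M] [Module R M]
  [AddCommGroup N] [Module R N]

theorem map_bijective_of_reduce (f : M →ₗ[R] N)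
    (h : ∀ n, Function.Bijective (f.reduceModIdeal (I ^ n))) :
    Function.Bijective (AdicCompletion.map I f) := by
  constructor
  · intro x y hxy
    apply AdicCompletion.ext
    intro n
    apply (h n).1
    have := congrArg (fun z => z.val n) hxy
    simpa only [AdicCompletion.map_val_apply] using this
  · intro y
    choose x hx using fun n => (h n).2 (y.val n)
    have hcompat : ∀ {m n : ℕ} (hmn : m ≤ n),
        AdicCompletion.transitionMap I M hmn (x n) = x m := by
      intro m n hmn
      apply (h m).1
      have h1 := LinearMap.congr_fun (AdicCompletion.transitionMap_comp_reduceModIdeal I f hmn)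
        (x n)
      simp only [LinearMap.coe_comp, Function.comp_apply, LinearMap.coe_restrictScalars] at h1
      rw [← h1, hx, hx]
      exact y.2 hmn
    refine ⟨⟨x, hcompat⟩, ?_⟩
    apply AdicCompletion.ext
    intro n
    rw [AdicCompletion.map_val_apply]
    exact hx n

end Compl

section Main

variable {A : Type u} [CommRing A] {I : Ideal A} {B : Type u} [CommRing B] [Algebra A B]

theorem mem_smul_top_iff (J : Ideal A) (x : B) :
    x ∈ (J • ⊤ : Submodule A B) ↔ x ∈ J.map (algebraMap A B) := by
  rw [Ideal.smul_top_eq_map]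
  rfl

theorem mem_smul_top_self_iff (J : Ideal A) (x : A) :
    x ∈ (J • ⊤ : Submodule A A) ↔ x ∈ J := by
  rw [mem_smul_top_iff, Algebra.algebraMap_self, Ideal.map_id]

theorem completion_bijective (hB : Hens2.IsPairHenselization A I B) :
    Function.Bijective (AdicCompletion.map I (Algebra.linearMap A B) :
      AdicCompletion I A → AdicCompletion I B) := by
  apply map_bijective_of_reduce
  intro n
  obtain ⟨hS, hI⟩ := (bijective_iff (I ^ n) B).1 (quotient_pow_bijective hB n)
  constructor
  · rw [injective_iff_map_eq_zero]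
    intro z hz
    obtain ⟨a, rfl⟩ := Submodule.Quotient.mk_surjective _ z
    rw [LinearMap.reduceModIdeal_apply, Submodule.Quotient.mk_eq_zero, mem_smul_top_iff] at hz
    rw [Submodule.Quotient.mk_eq_zero, mem_smul_top_self_iff]
    exact hI a hz
  · intro w
    obtain ⟨x, rfl⟩ := Submodule.Quotient.mk_surjective _ w
    obtain ⟨a, ha⟩ := hS x
    refine ⟨Submodule.Quotient.mk a, ?_⟩
    rw [LinearMap.reduceModIdeal_apply]
    symm
    rw [Submodule.Quotient.eq, mem_smul_top_iff]
    exact ha

variable [IsNoetherianRing A]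

/-- the canonical map from the henselization to the completion -/
theorem exists_toCompletion (hB : Hens2.IsPairHenselization A I B) :
    ∃ g : B →+* AdicCompletion I A,
      g.comp (algebraMap A B) = algebraMap A (AdicCompletion I A) := by
  haveI : IsAdicComplete (I.map (algebraMap A (AdicCompletion I A))) (AdicCompletion I A) :=
    AdicCompletion.isAdicComplete_self I (IsNoetherian.noetherian I)
  have hH : HenselianRing (AdicCompletion I A) (I.map (algebraMap A (AdicCompletion I A))) :=
    inferInstance
  obtain ⟨g, hg, -⟩ := hB.2 (AdicCompletion I A) _ (algebraMap A (AdicCompletion I A)) hH le_rfl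
  exact ⟨g, hg⟩

theorem flat_toCompletion (hB : Hens2.IsPairHenselization A I B) (g : B →+* AdicCompletion I A)
    (hg : g.comp (algebraMap A B) = algebraMap A (AdicCompletion I A)) :
    letI := g.toAlgebra
    Module.Flat B (AdicCompletion I A) := by
  letI := g.toAlgebra
  apply IndEtaleH3.flat_of_forall_exists_lift.{u}
  intro l s x hsx
  obtain ⟨N, hN⟩ := exists_common_fin hB s
  choose y hy using fun k => (AlgHom.mem_range _).1 (hN k)
  let ψ : N.C →ₐ[A] AdicCompletion I A :=
    { g.comp N.φ.toRingHom with
      commutes' := fun a => by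
        show g (N.φ (algebraMap A N.C a)) = algebraMap A (AdicCompletion I A) a
        rw [N.φ.commutes, ← hg]
        rfl }
  letI : Algebra N.C (AdicCompletion I A) := ψ.toRingHom.toAlgebra
  haveI : Module.Flat N.C (AdicCompletion I A) := flat_of_etale A (AdicCompletion I A) N.C ψ
  refine ⟨N.C, AdicCompletion I A, inferInstance, inferInstance, inferInstance, inferInstance,
    N.φ.toRingHom, AddMonoidHom.id _, fun a m => rfl, y, x, hy, fun _ => rfl, ?_⟩
  rw [← hsx]
  refine Finset.sum_congr rfl fun k _ => ?_
  show g (N.φ (y k)) * x k = g (s k) * x k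
  rw [hy]

theorem faithfullyFlat_toCompletion (hB : Hens2.IsPairHenselization A I B)
    (g : B →+* AdicCompletion I A)
    (hg : g.comp (algebraMap A B) = algebraMap A (AdicCompletion I A)) :
    letI := g.toAlgebra
    Module.FaithfullyFlat B (AdicCompletion I A) := by
  letI := g.toAlgebra
  haveI := flat_toCompletion hB g hg
  refine ⟨fun m hm htop => ?_⟩
  -- the map `θ : B → A/I`
  let ε : AdicCompletion I A →+* A ⧸ I := (AdicCompletion.evalOneₐ I).toRingHom
  have hε : ∀ a, ε (algebraMap A (AdicCompletion I A) a) = Ideal.Quotient.mk I a := fun a =>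
    (AdicCompletion.evalOneₐ I).commutes a
  let θ : B →+* A ⧸ I := ε.comp g
  have hθ : ∀ a, θ (algebraMap A B a) = Ideal.Quotient.mk I a := fun a => by
    show ε (g (algebraMap A B a)) = _
    have := RingHom.congr_fun hg a
    rw [RingHom.comp_apply] at this
    rw [this, hε]
  obtain ⟨hS, hI⟩ := (bijective_iff (I ^ 1) B).1 (quotient_pow_bijective hB 1)
  rw [pow_one] at hS hI
  have hθI : ∀ x ∈ I.map (algebraMap A B), θ x = 0 := by
    have hle : I.map (algebraMap A B) ≤ RingHom.ker θ := by
      rw [Ideal.map_le_iff_le_comap]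
      intro a ha
      rw [Ideal.mem_comap, RingHom.mem_ker, hθ]
      exact Ideal.Quotient.eq_zero_iff_mem.2 ha
    exact fun x hx => hle hx
  have hker : ∀ x, θ x = 0 → x ∈ I.map (algebraMap A B) := by
    intro x hx
    obtain ⟨a, ha⟩ := hS x
    have h1 : θ (algebraMap A B a) = 0 := by
      have := hθI _ ha
      rw [map_sub, hx, zero_sub, neg_eq_zero] at this
      exact this
    rw [hθ] at h1
    have h2 : algebraMap A B a ∈ I.map (algebraMap A B) :=
      Ideal.mem_map_of_mem _ (Ideal.Quotient.eq_zero_iff_mem.1 h1)
    have : x = (x - algebraMap A B a) + algebraMap A B a := by ring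
    rw [this]
    exact add_mem ha h2
  -- `1 ∈ m • ⊤`
  have h1 : (1 : AdicCompletion I A) ∈ (m • ⊤ : Submodule B (AdicCompletion I A)) := by
    rw [htop]; trivial
  have key : ∀ z ∈ (m • ⊤ : Submodule B (AdicCompletion I A)), ∃ b ∈ m, ε z = θ b := by
    intro z hz
    refine Submodule.smul_induction_on hz ?_ ?_
    · intro r hr n _
      obtain ⟨a, ha⟩ := Ideal.Quotient.mk_surjective (ε n)
      refine ⟨r * algebraMap A B a, m.mul_mem_right _ hr, ?_⟩
      show ε (g r * n) = θ (r * algebraMap A B a)
      rw [map_mul, map_mul, hθ, ha]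
      rfl
    · rintro z₁ z₂ ⟨b₁, hb₁, e₁⟩ ⟨b₂, hb₂, e₂⟩
      exact ⟨b₁ + b₂, m.add_mem hb₁ hb₂, by rw [map_add, map_add, e₁, e₂]⟩
  obtain ⟨b, hb, hb1⟩ := key 1 h1
  rw [map_one] at hb1
  have h2 : 1 - b ∈ I.map (algebraMap A B) := hker _ (by rw [map_sub, map_one, ← hb1, sub_self])
  have h3 : I.map (algebraMap A B) ≤ m := by
    refine hB.1.jac.trans ?_
    exact sInf_le ⟨bot_le, hm⟩
  have h4 : (1 : B) ∈ m := by
    have : (1 : B) = (1 - b) + b := by ring
    rw [this]
    exact m.add_mem (h3 h2) hb
  exact hm.ne_top ((Ideal.eq_top_iff_one m).2 h4)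

theorem isNoetherianRing (hB : Hens2.IsPairHenselization A I B) : IsNoetherianRing B := by
  obtain ⟨g, hg⟩ := exists_toCompletion hB
  letI := g.toAlgebra
  haveI := faithfullyFlat_toCompletion hB g hg
  haveI : IsNoetherianRing (AdicCompletion I A) := Groth.Agent.S0543.result A I
  exact isNoetherianRing_of_faithfullyFlat B (AdicCompletion I A)

theorem main1994 (hB : Hens2.IsPairHenselization A I B) :
    IsNoetherianRing B ∧ Module.Flat A B ∧
      Function.Bijective (AdicCompletion.map I (Algebra.linearMap A B) :
        AdicCompletion I A → AdicCompletion I B) :=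
  ⟨isNoetherianRing hB, EtaleNbhd.flat hB, completion_bijective hB⟩

end Main

end Groth.Agent.Lib.HensNoethH3
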