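import Mathlib
import Groth.Prelude.Def_Hens2
import Groth.Agent.Lib.ComplIso_helper5
import Groth.Agent.Lib.FiniteNbhd_lead
import Groth.Agent.Lib.HensNoeth_helper3

/-!
# Quotients of the henselization of a finite type algebra are algebraizable (helper5)
-/

set_option autoImplicit false
set_option linter.unusedVariables false
set_option linter.style.haveILetI false
set_option maxHeartbeats 1600000

universe u

open Groth.Agent.Lib

namespace Groth.Agent.Lib.HensQuotComplH5

section Elem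

variable {X Y : Type*} [CommRing X] [CommRing Y] [Algebra X Y]

/-- every element of `𝔞Y` is `algebraMap a + p` with `a ∈ 𝔞`, `p ∈ PY`, when `X/P → Y/PY` is onto -/
theorem exists_sub_mem (P 𝔞 : Ideal X)
    (hS : ∀ y : Y, ∃ x : X, y - algebraMap X Y x ∈ P.map (algebraMap X Y))
    (y : Y) (hy : y ∈ 𝔞.map (algebraMap X Y)) :
    ∃ a ∈ 𝔞, y - algebraMap X Y a ∈ P.map (algebraMap X Y) := by
  unfold Ideal.map at hy
  induction hy using Submodule.span_induction with
  | mem x hx =>
    obtain ⟨a, ha, rfl⟩ := hx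
    exact ⟨a, ha, by rw [sub_self]; exact Ideal.zero_mem _⟩
  | zero => exact ⟨0, 𝔞.zero_mem, by rw [map_zero, sub_zero]; exact Ideal.zero_mem _⟩
  | add x y _ _ hx hy =>
    obtain ⟨a, ha, ha'⟩ := hx
    obtain ⟨b, hb, hb'⟩ := hy
    refine ⟨a + b, 𝔞.add_mem ha hb, ?_⟩
    have : x + y - algebraMap X Y (a + b) = (x - algebraMap X Y a) + (y - algebraMap X Y b) := by
      rw [map_add]; ring
    rw [this]
    exact Ideal.add_mem _ ha' hb'
  | smul c x _ hx =>
    obtain ⟨a, ha, ha'⟩ := hx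
    obtain ⟨s, hs⟩ := hS c
    refine ⟨s * a, 𝔞.mul_mem_left s ha, ?_⟩
    have : c • x - algebraMap X Y (s * a) =
        c * (x - algebraMap X Y a) + (c - algebraMap X Y s) * algebraMap X Y a := by
      rw [map_mul, smul_eq_mul]; ring
    rw [this]
    exact Ideal.add_mem _ (Ideal.mul_mem_left _ _ ha') (Ideal.mul_mem_right _ _ hs)

/-- contraction of `𝔞Y` is `𝔞` for `𝔞 ⊇ P`, when `X/P → Y/PY` is bijective -/
theorem mem_of_map_mem (P 𝔞 : Ideal X) (hP : P ≤ 𝔞)
    (hS : ∀ y : Y, ∃ x : X, y - algebraMap X Y x ∈ P.map (algebraMap X Y))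
    (hI : ∀ x : X, algebraMap X Y x ∈ P.map (algebraMap X Y) → x ∈ P)
    (x : X) (hx : algebraMap X Y x ∈ 𝔞.map (algebraMap X Y)) : x ∈ 𝔞 := by
  obtain ⟨a, ha, ha'⟩ := exists_sub_mem P 𝔞 hS _ hx
  rw [← map_sub] at ha'
  have := hP (hI _ ha')
  have h2 : x = (x - a) + a := by ring
  rw [h2]
  exact 𝔞.add_mem this ha

end Elem

theorem main8801 (A : Type u) [CommRing A] [IsNoetherianRing A] (I : Ideal A) (C : Type u)
    [CommRing C] [Algebra A C] [Algebra.FiniteType A C] (Ch : Type u) [CommRing Ch] [Algebra C Ch]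
    [Algebra A Ch] [IsScalarTower A C Ch]
    (hCh : Hens2.IsPairHenselization C (I.map (algebraMap A C)) Ch) (J : Ideal Ch) :
    ∃ (B : Type u) (_ : CommRing B) (_ : Algebra A B), Algebra.FiniteType A B ∧
      Nonempty (AdicCompletion (I.map (algebraMap A B)) B ≃ₐ[A]
        AdicCompletion (I.map (algebraMap A (Ch ⧸ J))) (Ch ⧸ J)) := by
  classical
  haveI : IsNoetherianRing C := Algebra.FiniteType.isNoetherianRing A C
  haveI : IsNoetherianRing Ch := HensNoethH3.isNoetherianRing hCh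
  obtain ⟨F, hF⟩ := (IsNoetherian.noetherian J : J.FG)
  obtain ⟨S', i1, i2, i3, i4, i5, hS, hH, hlift⟩ := FiniteNbhd.exists_nbhd_finset hCh F
  letI : Algebra A S' := ((algebraMap C S').comp (algebraMap A C)).toAlgebra
  haveI : IsScalarTower A C S' := IsScalarTower.of_algebraMap_eq fun _ => rfl
  haveI : IsScalarTower A S' Ch := IsScalarTower.of_algebraMap_eq fun a => by
    rw [IsScalarTower.algebraMap_apply A C Ch, IsScalarTower.algebraMap_apply C S' Ch]
    rfl
  have hH' : Hens2.IsPairHenselization S' (I.map (algebraMap A S')) Ch := by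
    rwa [Ideal.map_map, ← IsScalarTower.algebraMap_eq] at hH
  haveI : Algebra.FiniteType C S' := inferInstance
  haveI : Algebra.FiniteType A S' := Algebra.FiniteType.trans (inferInstance : Algebra.FiniteType A C)
    inferInstance
  set I' : Ideal S' := I.map (algebraMap A S') with hI'
  let K : Ideal S' := J.comap (algebraMap S' Ch)
  have hgen : ∀ c ∈ F, c ∈ K.map (algebraMap S' Ch) := by
    intro c hc
    obtain ⟨x, hx⟩ := hlift c hc
    have hxK : x ∈ K := by
      show algebraMap S' Ch x ∈ J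
      rw [hx, ← hF]
      exact Ideal.subset_span hc
    rw [← hx]
    exact Ideal.mem_map_of_mem _ hxK
  have hKJ : K.map (algebraMap S' Ch) = J := by
    apply le_antisymm Ideal.map_comap_le
    calc J = Ideal.span (F : Set Ch) := hF.symm
      _ ≤ K.map (algebraMap S' Ch) := Ideal.span_le.2 hgen
  refine ⟨S' ⧸ K, inferInstance, inferInstance,
    Algebra.FiniteType.of_surjective (Ideal.Quotient.mkₐ A K) (Ideal.Quotient.mkₐ_surjective A K), ?_⟩
  let f : (S' ⧸ K) →ₐ[A] (Ch ⧸ J) :=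
    Ideal.quotientMapₐ J (IsScalarTower.toAlgHom A S' Ch) (le_refl K)
  have hf_mk : ∀ s : S', f (Ideal.Quotient.mk K s) = Ideal.Quotient.mk J (algebraMap S' Ch s) :=
    fun s => rfl
  set IR : Ideal (S' ⧸ K) := I.map (algebraMap A (S' ⧸ K)) with hIR
  set IS : Ideal (Ch ⧸ J) := I.map (algebraMap A (Ch ⧸ J)) with hIS
  have hmap : IR.map f ≤ IS := by
    rw [Ideal.map_le_iff_le_comap, hIR, Ideal.map_le_iff_le_comap]
    intro a ha
    show f (algebraMap A (S' ⧸ K) a) ∈ IS
    rw [f.commutes]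
    exact Ideal.mem_map_of_mem _ ha
  -- descriptions of the powers
  have hIRn : ∀ n, IR ^ n = (I' ^ n).map (Ideal.Quotient.mk K) := by
    intro n
    rw [hIR, hI', ← Ideal.map_pow, ← Ideal.map_pow, Ideal.map_map]
    rfl
  have hISn : ∀ n, IS ^ n = ((I' ^ n).map (algebraMap S' Ch)).map (Ideal.Quotient.mk J) := by
    intro n
    rw [hIS, hI', ← Ideal.map_pow, ← Ideal.map_pow, Ideal.map_map, Ideal.map_map]
    congr 1
    ext a
    show algebraMap A (Ch ⧸ J) a = Ideal.Quotient.mk J (algebraMap S' Ch (algebraMap A S' a))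
    rw [← IsScalarTower.algebraMap_apply A S' Ch]
    rfl
  obtain ⟨e, -⟩ := ComplIsoH5.exists_algEquiv f IR IS hmap (fun n => by
    obtain ⟨hSn, hIn⟩ := (EtaleNbhd.bijective_iff (I' ^ n) Ch).1
      (EtaleNbhd.quotient_pow_bijective hH' n)
    constructor
    · rw [injective_iff_map_eq_zero]
      intro z hz
      obtain ⟨z', rfl⟩ := Ideal.Quotient.mk_surjective z
      obtain ⟨s, rfl⟩ := Ideal.Quotient.mk_surjective z'
      rw [ComplIsoH5.lvl_mk, hf_mk, Ideal.Quotient.eq_zero_iff_mem, hISn,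
        Ideal.mem_quotient_iff_mem_sup, ← hKJ, ← Ideal.map_sup] at hz
      have hs : s ∈ I' ^ n ⊔ K :=
        mem_of_map_mem (I' ^ n) (I' ^ n ⊔ K) le_sup_left hSn hIn s hz
      rw [Ideal.Quotient.eq_zero_iff_mem, hIRn, Ideal.mem_quotient_iff_mem_sup]
      exact hs
    · intro y
      obtain ⟨y', rfl⟩ := Ideal.Quotient.mk_surjective y
      obtain ⟨c, rfl⟩ := Ideal.Quotient.mk_surjective y'
      obtain ⟨s, hs⟩ := hSn c
      refine ⟨Ideal.Quotient.mk _ (Ideal.Quotient.mk K s), ?_⟩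
      rw [ComplIsoH5.lvl_mk, hf_mk]
      symm
      rw [Ideal.Quotient.eq, hISn, ← map_sub]
      exact Ideal.mem_map_of_mem _ hs)
  exact ⟨e⟩

end Groth.Agent.Lib.HensQuotComplH5
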