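import Mathlib

/-!
# Principal-ideal Elkik approximation, part 1: torsion lemmas and finitely presented models
(helper5)
-/

set_option autoImplicit false
set_option linter.unusedVariables false
set_option linter.style.haveILetI false
set_option maxHeartbeats 1600000

universe u

open MvPolynomial

namespace Groth.Agent.Lib.ElkikTH5

section Torsion

variable {A : Type*} [CommRing A] (t : A)

/-- bounded torsion: an element of `(t)^M`, `M ≥ N`, killed by a power of `t` is zero -/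
theorem eq_zero_of_mem_pow_of_tors {N : ℕ}
    (hbd : ∀ a : A, (∃ m : ℕ, t ^ m * a = 0) → t ^ N * a = 0)
    {M : ℕ} (hM : N ≤ M) {x : A} (hx : x ∈ Ideal.span {t} ^ M) (m : ℕ) (hm : t ^ m * x = 0) :
    x = 0 := by
  rw [Ideal.span_singleton_pow, Ideal.mem_span_singleton'] at hx
  obtain ⟨y, rfl⟩ := hx
  have h1 : t ^ (m + M) * y = 0 := by
    rw [pow_add, mul_assoc, mul_comm (t ^ M) y]; exact hm
  have h2 := hbd y ⟨m + M, h1⟩
  obtain ⟨k, rfl⟩ := Nat.exists_eq_add_of_le hM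
  rw [pow_add, ← mul_assoc, mul_comm y, h2, zero_mul]

theorem factor_evalₐ {B : Type*} [CommRing B] (I : Ideal B) {a b : ℕ} (hab : a ≤ b)
    (x : AdicCompletion I B) :
    Ideal.Quotient.factor (Ideal.pow_le_pow_right hab) (AdicCompletion.evalₐ I b x) =
      AdicCompletion.evalₐ I a x := by
  obtain ⟨y, rfl⟩ := AdicCompletion.mk_surjective I B x
  rw [AdicCompletion.evalₐ_mk, AdicCompletion.evalₐ_mk, Ideal.Quotient.factor_mk]
  exact AdicCompletion.Ideal.mk_eq_mk I hab y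

/-- the `t`-adic completion of a ring with `t`-torsion bounded by `N` has `t`-torsion bounded by `N` -/
theorem completion_tors {N : ℕ}
    (hbd : ∀ a : A, (∃ m : ℕ, t ^ m * a = 0) → t ^ N * a = 0)
    (x : AdicCompletion (Ideal.span {t}) A) (m : ℕ) (hx : (t ^ m) • x = 0) : (t ^ N) • x = 0 := by
  apply AdicCompletion.ext_evalₐ
  intro k
  rw [map_smul, map_zero]
  obtain ⟨a, ha⟩ := Ideal.Quotient.mk_surjective
    (AdicCompletion.evalₐ (Ideal.span {t}) (k + m) x)
  have h1 : (t ^ m) • AdicCompletion.evalₐ (Ideal.span {t}) (k + m) x = 0 := by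
    rw [← map_smul, hx, map_zero]
  rw [← ha] at h1
  have h1' : Ideal.Quotient.mk (Ideal.span {t} ^ (k + m)) (t ^ m * a) = 0 := by
    rw [← h1]; rfl
  rw [Ideal.Quotient.eq_zero_iff_mem, Ideal.span_singleton_pow, Ideal.mem_span_singleton'] at h1'
  obtain ⟨b, hb⟩ := h1'
  have h2 : t ^ m * (a - t ^ k * b) = 0 := by
    have : t ^ m * (a - t ^ k * b) = t ^ m * a - b * t ^ (k + m) := by rw [pow_add]; ring
    rw [this, hb, sub_self]
  have h3 := hbd (a - t ^ k * b) ⟨m, h2⟩
  have h4 : AdicCompletion.evalₐ (Ideal.span {t}) k x =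
      Ideal.Quotient.mk (Ideal.span {t} ^ k) a := by
    rw [← factor_evalₐ (Ideal.span {t}) (Nat.le_add_right k m), ← ha, Ideal.Quotient.factor_mk]
  rw [h4]
  show Ideal.Quotient.mk (Ideal.span {t} ^ k) (t ^ N * a) = 0
  rw [Ideal.Quotient.eq_zero_iff_mem, Ideal.span_singleton_pow, Ideal.mem_span_singleton']
  refine ⟨t ^ N * b, ?_⟩
  have : t ^ N * a = t ^ N * (a - t ^ k * b) + t ^ N * b * t ^ k := by ring
  rw [this, h3, zero_add]

end Torsion

section FPModel

attribute [local instance] MvPolynomial.algebraMvPolynomial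

variable (A : Type u) [CommRing A] (t : A) (B : Type u) [CommRing B] [Algebra A B]
  (Rₛ : Type u) [CommRing Rₛ] [Algebra A Rₛ] [IsLocalization.Away t Rₛ]
  (Bₛ : Type u) [CommRing Bₛ] [Algebra B Bₛ] [Algebra A Bₛ] [Algebra Rₛ Bₛ]
  [IsScalarTower A B Bₛ] [IsScalarTower A Rₛ Bₛ]
  [IsLocalization (Algebra.algebraMapSubmonoid B (Submonoid.powers t)) Bₛ]

include Rₛ in
/-- an element of `B` dying in `Bₛ` is killed by a power of `t` -/
theorem exists_pow_smul_eq_zero (b : B) (hb : algebraMap B Bₛ b = 0) : ∃ m : ℕ, t ^ m • b = 0 := by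
  have h := (IsLocalization.map_eq_zero_iff
    (Algebra.algebraMapSubmonoid B (Submonoid.powers t)) Bₛ b).1 hb
  obtain ⟨⟨s, hs⟩, hsb⟩ := h
  obtain ⟨_, ⟨m, rfl⟩, rfl⟩ := hs
  refine ⟨m, ?_⟩
  rw [Algebra.smul_def]
  exact hsb

theorem exists_fp_model [Algebra.FiniteType A B] [Algebra.FinitePresentation Rₛ Bₛ] :
    ∃ (B₁ : Type u) (_ : CommRing B₁) (_ : Algebra A B₁) (_ : Algebra.FinitePresentation A B₁)
      (q : B₁ →ₐ[A] B), Function.Surjective q ∧ ∀ x : B₁, q x = 0 → ∃ m : ℕ, t ^ m • x = 0 := by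
  classical
  obtain ⟨k, q₀, hq₀⟩ := Algebra.FiniteType.iff_quotient_mvPolynomial''.1
    (inferInstance : Algebra.FiniteType A B)
  let P := MvPolynomial (Fin k) A
  let Pₛ := MvPolynomial (Fin k) Rₛ
  let φₛ : Pₛ →ₐ[Rₛ] Bₛ := MvPolynomial.aeval (fun i => algebraMap B Bₛ (q₀ (X i)))
  -- compatibility of `φₛ` with `q₀`
  have hcompat : ∀ p : P, φₛ (MvPolynomial.map (algebraMap A Rₛ) p) = algebraMap B Bₛ (q₀ p) := by
    intro p
    induction p using MvPolynomial.induction_on with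
    | C a =>
      rw [MvPolynomial.map_C, ← MvPolynomial.algebraMap_eq, AlgHom.commutes,
        ← MvPolynomial.algebraMap_eq, AlgHom.commutes, ← IsScalarTower.algebraMap_apply,
        ← IsScalarTower.algebraMap_apply]
    | add p₁ p₂ h₁ h₂ => rw [map_add, map_add, h₁, h₂, map_add, map_add]
    | mul_X p i h =>
      rw [map_mul, map_mul, h, MvPolynomial.map_X, map_mul, map_mul]
      congr 1
      exact MvPolynomial.aeval_X _ i
  -- `t` is invertible in `Rₛ`
  obtain ⟨u, hu⟩ : ∃ u : Rₛ, algebraMap A Rₛ t * u = 1 :=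
    ⟨IsLocalization.Away.invSelf t, IsLocalization.Away.mul_invSelf t⟩
  have hsurj : Function.Surjective φₛ := by
    intro z
    obtain ⟨⟨b, ⟨s, hs⟩⟩, hz⟩ := IsLocalization.surj
      (Algebra.algebraMapSubmonoid B (Submonoid.powers t)) z
    obtain ⟨_, ⟨m, rfl⟩, rfl⟩ := hs
    obtain ⟨p, rfl⟩ := hq₀ b
    refine ⟨MvPolynomial.map (algebraMap A Rₛ) p * C (u ^ m), ?_⟩
    rw [map_mul, hcompat, ← hz]
    have h1 : φₛ (C (u ^ m)) = algebraMap Rₛ Bₛ (u ^ m) := by
      rw [← MvPolynomial.algebraMap_eq, AlgHom.commutes]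
    have h2 : algebraMap B Bₛ (algebraMap A B (t ^ m)) = algebraMap Rₛ Bₛ (algebraMap A Rₛ (t ^ m)) := by
      rw [← IsScalarTower.algebraMap_apply, ← IsScalarTower.algebraMap_apply]
    simp only at hz ⊢
    rw [h1, h2, mul_assoc, ← map_mul, map_pow, ← mul_pow, hu, one_pow, map_one, mul_one]
  have hfg : (RingHom.ker φₛ.toRingHom).FG :=
    Algebra.FinitePresentation.ker_fG_of_surjective φₛ hsurj
  let J : Ideal P := RingHom.ker q₀.toRingHom
  -- the localization structure on `Pₛ`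
  haveI : IsLocalization ((Submonoid.powers t).map (C : A →+* P)) Pₛ :=
    MvPolynomial.isLocalization (Submonoid.powers t) Rₛ
  have hmapC : ∀ m : ℕ, algebraMap P Pₛ (C (t ^ m)) = C (algebraMap A Rₛ (t ^ m)) := by
    intro m
    show MvPolynomial.map (algebraMap A Rₛ) (C (t ^ m)) = _
    rw [MvPolynomial.map_C]
  have hmap : ∀ p : P, algebraMap P Pₛ p = MvPolynomial.map (algebraMap A Rₛ) p := fun p => rfl
  -- the kernel of `φₛ` is the extension of `J`
  have hker : RingHom.ker φₛ.toRingHom = J.map (algebraMap P Pₛ) := by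
    apply le_antisymm
    · intro x hx
      obtain ⟨⟨p, ⟨s, hs⟩⟩, hxp⟩ := IsLocalization.surj ((Submonoid.powers t).map (C : A →+* P)) x
      obtain ⟨_, ⟨m, rfl⟩, rfl⟩ := hs
      simp only at hxp
      have h1 : algebraMap B Bₛ (q₀ p) = 0 := by
        rw [← hcompat, ← hmap, ← hxp, map_mul]
        have : φₛ x = 0 := hx
        rw [this, zero_mul]
      obtain ⟨m', hm'⟩ := exists_pow_smul_eq_zero A t B Rₛ Bₛ (q₀ p) h1
      have h2 : C (t ^ m') * p ∈ J := by
        show q₀ (C (t ^ m') * p) = 0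
        rw [map_mul, ← MvPolynomial.algebraMap_eq, AlgHom.commutes, ← Algebra.smul_def]
        exact hm'
      have h3 : x * algebraMap P Pₛ (C (t ^ (m + m'))) ∈ J.map (algebraMap P Pₛ) := by
        have : x * algebraMap P Pₛ (C (t ^ (m + m'))) = algebraMap P Pₛ (C (t ^ m') * p) := by
          rw [pow_add, map_mul C, map_mul, map_mul, ← mul_assoc, hxp]; ring
        rw [this]
        exact Ideal.mem_map_of_mem _ h2
      have h4 : x = x * algebraMap P Pₛ (C (t ^ (m + m'))) * C (u ^ (m + m')) := by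
        rw [mul_assoc, hmapC, ← map_mul C, map_pow, ← mul_pow, hu, one_pow, map_one, mul_one]
      rw [h4]
      exact Ideal.mul_mem_right _ _ h3
    · rw [Ideal.map_le_iff_le_comap]
      intro p hp
      show φₛ (algebraMap P Pₛ p) = 0
      rw [hmap, hcompat]
      have : q₀ p = 0 := hp
      rw [this, map_zero]
  rw [hker] at hfg
  -- finitely many elements of `J` generate the extension
  obtain ⟨T, hTsub, hTspan⟩ : ∃ T : Finset Pₛ, (T : Set Pₛ) ⊆ (algebraMap P Pₛ) '' (J : Set P) ∧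
      Ideal.span (T : Set Pₛ) = J.map (algebraMap P Pₛ) := by
    have := (Submodule.fg_span_iff_fg_span_finset_subset (R := Pₛ)
      ((algebraMap P Pₛ) '' (J : Set P))).1 hfg
    obtain ⟨T, hT1, hT2⟩ := this
    exact ⟨T, hT1, hT2.symm⟩
  choose! pre hpreJ hpre using hTsub
  let J₁ : Ideal P := Ideal.span ((T.image pre : Finset P) : Set P)
  have hJ₁J : J₁ ≤ J := by
    rw [Ideal.span_le]
    intro p hp
    rw [Finset.coe_image] at hp
    obtain ⟨x, hx, rfl⟩ := hp
    exact hpreJ hx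
  have hJ₁map : J₁.map (algebraMap P Pₛ) = J.map (algebraMap P Pₛ) := by
    apply le_antisymm (Ideal.map_mono hJ₁J)
    rw [← hTspan, Ideal.span_le]
    intro x hx
    rw [← hpre hx]
    exact Ideal.mem_map_of_mem _ (Ideal.subset_span (by
      rw [Finset.coe_image]; exact ⟨x, hx, rfl⟩))
  have hkey : ∀ p ∈ J, ∃ m : ℕ, C (t ^ m) * p ∈ J₁ := by
    intro p hp
    have h1 : algebraMap P Pₛ p ∈ J₁.map (algebraMap P Pₛ) := by
      rw [hJ₁map]; exact Ideal.mem_map_of_mem _ hp
    rw [IsLocalization.mem_map_algebraMap_iff ((Submonoid.powers t).map (C : A →+* P))] at h1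
    obtain ⟨⟨⟨i, hi⟩, ⟨s, hs⟩⟩, h2⟩ := h1
    obtain ⟨_, ⟨m, rfl⟩, rfl⟩ := hs
    simp only at h2
    rw [← map_mul] at h2
    obtain ⟨⟨s', hs'⟩, h3⟩ := (IsLocalization.eq_iff_exists
      ((Submonoid.powers t).map (C : A →+* P)) Pₛ).1 h2
    obtain ⟨_, ⟨m', rfl⟩, rfl⟩ := hs'
    simp only at h3
    refine ⟨m' + m, ?_⟩
    have : C (t ^ (m' + m)) * p = C (t ^ m') * i := by
      rw [pow_add, map_mul C, mul_assoc, mul_comm (C (t ^ m)) p]; exact h3
    rw [this]
    exact Ideal.mul_mem_left _ _ hi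
  have hJ₁fg : J₁.FG := ⟨_, rfl⟩
  haveI : Algebra.FinitePresentation A (P ⧸ J₁) := Algebra.FinitePresentation.quotient hJ₁fg
  refine ⟨P ⧸ J₁, inferInstance, inferInstance, inferInstance,
    Ideal.Quotient.liftₐ J₁ q₀ (fun p hp => hJ₁J hp), ?_, ?_⟩
  · intro b
    obtain ⟨p, rfl⟩ := hq₀ b
    exact ⟨Ideal.Quotient.mk J₁ p, rfl⟩
  · intro x hx
    obtain ⟨p, rfl⟩ := Ideal.Quotient.mk_surjective x
    have hp : p ∈ J := hx
    obtain ⟨m, hm⟩ := hkey p hp
    refine ⟨m, ?_⟩
    rw [Algebra.smul_def]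
    show Ideal.Quotient.mk J₁ (algebraMap A P (t ^ m)) * Ideal.Quotient.mk J₁ p = 0
    rw [← map_mul, Ideal.Quotient.eq_zero_iff_mem, MvPolynomial.algebraMap_eq]
    exact hm

end FPModel

end Groth.Agent.Lib.ElkikTH5
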