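import Mathlib
import Groth.Prelude.Def_Smoothing
import Groth.Agent.Lib.ElkikT1_helper5
import Groth.Agent.Lib.PresDescent_helper4
import Groth.Agent.Lib.LiftLemma_helper4
import Groth.Agent.Lib.HensPairSm4_helper8
import Groth.Agent.Lib.HenselPairOps_lead

/-!
# Principal-ideal Elkik approximation, part 2 (helper5)

For a henselian pair `(A, tA)` with bounded `t`-power torsion and a finite type `A`-algebra `B`
smooth over `A[1/t]`, every `A`-algebra map `B → Â` is congruent modulo `t^n` to an `A`-algebra map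
`B → A`.
-/

set_option autoImplicit false
set_option linter.unusedVariables false
set_option linter.style.haveILetI false
set_option maxHeartbeats 1600000

universe u

open TensorProduct MvPolynomial

namespace Groth.Agent.Lib.ElkikTH5

/-- multiples of an elementary standard element are strictly standard -/
theorem strictlyStandard_mul {R E : Type u} [CommRing R] [CommRing E] [Algebra R E] (s r : R)
    (hs : Smoothing.IsElementaryStandard R E (algebraMap R E s)) :
    Smoothing.IsStrictlyStandard R E (algebraMap R E (s * r)) := by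
  obtain ⟨P, ⟨a', ha'⟩, hkt⟩ := hs
  refine ⟨P, ?_, ?_⟩
  · rw [map_mul, ha']
    have : a' * P.hom (Smoothing.jacobianMinor P.rel (Fin.castLE P.hcm) (Fin.castLE P.hcn)) *
        algebraMap R E r = (a' * algebraMap R E r) *
          P.hom (Smoothing.jacobianMinor P.rel (Fin.castLE P.hcm) (Fin.castLE P.hcn)) := by ring
    rw [this]
    exact Ideal.mul_mem_left _ _ (Ideal.subset_span ⟨Fin.castLE P.hcn, rfl⟩)
  · intro a'' ha'' j hj
    have h0 : P.hom (C s) = algebraMap R E s := by rw [← algebraMap_eq, AlgHom.commutes]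
    have h1 := hkt (C s) h0 j hj
    have h2 : a'' - C r * C s ∈ RingHom.ker P.hom.toRingHom := by
      show P.hom (a'' - C r * C s) = 0
      have hr : P.hom (C r) = algebraMap R E r := by rw [← algebraMap_eq, AlgHom.commutes]
      rw [map_sub, ha'', map_mul, map_mul, h0, hr]
      ring
    rw [P.ker_eq] at h2
    have h3 : (a'' - C r * C s) * P.rel j ∈ Ideal.span (Set.range P.rel) ^ 2 := by
      rw [pow_two]
      exact Ideal.mul_mem_mul h2 (Ideal.subset_span ⟨j, rfl⟩)
    have : a'' * P.rel j = (a'' - C r * C s) * P.rel j + C r * (C s * P.rel j) := by ring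
    rw [this]
    exact Ideal.add_mem _ (Ideal.mem_sup_right h3) (Ideal.mul_mem_left _ _ h1)

theorem smooth_of_one_mem_singularIdeal {R B : Type u} [CommRing R] [CommRing B] [Algebra R B]
    [Algebra.FinitePresentation R B] (h : (1 : B) ∈ Smoothing.singularIdeal R B) :
    Algebra.Smooth R B := by
  have h1 : Algebra.smoothLocus R B = Set.univ := by
    rw [Set.eq_univ_iff_forall]
    intro x
    by_contra hx
    have := (PrimeSpectrum.mem_vanishingIdeal _ _).1 h x hx
    exact x.isPrime.ne_top ((Ideal.eq_top_iff_one _).2 this)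
  exact ⟨Algebra.smoothLocus_eq_univ_iff.1 h1, inferInstance⟩

/-- the kernel of `evalₐ` is the extended ideal (finitely generated ideal) -/
theorem mem_map_of_evalₐ_eq_zero {A : Type u} [CommRing A] (I : Ideal A) (hfg : I.FG) (N : ℕ)
    (x : AdicCompletion I A) (hx : AdicCompletion.evalₐ I N x = 0) :
    x ∈ (I ^ N).map (algebraMap A (AdicCompletion I A)) := by
  have h1 : AdicCompletion.eval I A N x = 0 := by
    rw [← AdicCompletion.factor_evalₐ_eq_eval I x (by simp), hx, map_zero]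
  have h2 : x ∈ (I ^ N • ⊤ : Submodule A (AdicCompletion I A)) := by
    rw [AdicCompletion.pow_smul_top_eq_ker_eval hfg]
    exact h1
  rw [Ideal.smul_top_eq_map] at h2
  exact h2

theorem elkik_principal (A : Type u) [CommRing A] (t : A) [HenselianRing A (Ideal.span {t})]
    (hbd : ∃ N : ℕ, ∀ a : A, (∃ m : ℕ, t ^ m * a = 0) → t ^ N * a = 0)
    (B : Type u) [CommRing B] [Algebra A B] [Algebra.FiniteType A B]
    (Rₛ : Type u) [CommRing Rₛ] [Algebra A Rₛ] [IsLocalization.Away t Rₛ]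
    (Bₛ : Type u) [CommRing Bₛ] [Algebra B Bₛ] [Algebra A Bₛ] [Algebra Rₛ Bₛ]
    [IsScalarTower A B Bₛ] [IsScalarTower A Rₛ Bₛ]
    [IsLocalization (Algebra.algebraMapSubmonoid B (Submonoid.powers t)) Bₛ]
    [Algebra.Smooth Rₛ Bₛ]
    (n : ℕ) (σ : B →ₐ[A] AdicCompletion (Ideal.span {t}) A) :
    ∃ τ : B →ₐ[A] A,
      (Ideal.Quotient.mkₐ A (Ideal.span {t} ^ n)).comp τ =
        (AdicCompletion.evalₐ (Ideal.span {t}) n).comp σ := by
  classical
  obtain ⟨N, hN⟩ := hbd
  -- Step 1: finitely presented model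
  obtain ⟨B₁, _, _, hfp, q, hq, hqker⟩ := exists_fp_model A t B Rₛ Bₛ
  -- Step 2: the data for presentation descent
  let φ : B₁ →ₐ[A] AdicCompletion (Ideal.span {t}) A := σ.comp q
  let g : Rₛ ⊗[A] B₁ →ₐ[Rₛ] Bₛ :=
    Algebra.TensorProduct.lift (Algebra.ofId Rₛ Bₛ) ((IsScalarTower.toAlgHom A B Bₛ).comp q)
      (fun _ _ => Commute.all _ _)
  let ι : B →+* Rₛ ⊗[A] AdicCompletion (Ideal.span {t}) A :=
    (Algebra.TensorProduct.includeRight :
      AdicCompletion (Ideal.span {t}) A →ₐ[A] Rₛ ⊗[A] AdicCompletion (Ideal.span {t}) A).toRingHom.comp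
      σ.toRingHom
  have hιA : ∀ a : A, ι (algebraMap A B a) =
      algebraMap Rₛ (Rₛ ⊗[A] AdicCompletion (Ideal.span {t}) A) (algebraMap A Rₛ a) := by
    intro a
    show (Algebra.TensorProduct.includeRight :
      AdicCompletion (Ideal.span {t}) A →ₐ[A] Rₛ ⊗[A] AdicCompletion (Ideal.span {t}) A)
        (σ (algebraMap A B a)) = _
    rw [AlgHom.commutes, AlgHom.commutes, ← IsScalarTower.algebraMap_apply]
  have hunit : ∀ y : Algebra.algebraMapSubmonoid B (Submonoid.powers t), IsUnit (ι y) := by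
    rintro ⟨_, ⟨_, ⟨m, rfl⟩, rfl⟩⟩
    show IsUnit (ι (algebraMap A B (t ^ m)))
    rw [hιA]
    apply IsUnit.map
    rw [map_pow]
    exact (IsLocalization.Away.algebraMap_isUnit t).pow m
  let h₀ : Bₛ →+* Rₛ ⊗[A] AdicCompletion (Ideal.span {t}) A := IsLocalization.lift hunit
  have hh₀ : ∀ b : B, h₀ (algebraMap B Bₛ b) = ι b := fun b => IsLocalization.lift_eq hunit b
  have hcomm : ∀ r : Rₛ, h₀ (algebraMap Rₛ Bₛ r) =
      algebraMap Rₛ (Rₛ ⊗[A] AdicCompletion (Ideal.span {t}) A) r := by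
    have : h₀.comp (algebraMap Rₛ Bₛ) =
        algebraMap Rₛ (Rₛ ⊗[A] AdicCompletion (Ideal.span {t}) A) := by
      apply IsLocalization.ringHom_ext (Submonoid.powers t)
      ext a
      show h₀ (algebraMap Rₛ Bₛ (algebraMap A Rₛ a)) = _
      rw [← IsScalarTower.algebraMap_apply A Rₛ Bₛ, IsScalarTower.algebraMap_apply A B Bₛ, hh₀, hιA]
      rfl
    exact fun r => RingHom.congr_fun this r
  let h : Bₛ →ₐ[Rₛ] Rₛ ⊗[A] AdicCompletion (Ideal.span {t}) A := { h₀ with commutes' := hcomm }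
  have hh : ∀ b : B, h (algebraMap B Bₛ b) = (1 : Rₛ) ⊗ₜ[A] σ b := fun b => hh₀ b
  have hgh : h.comp g = Algebra.TensorProduct.map (AlgHom.id Rₛ Rₛ) φ := by
    apply Algebra.TensorProduct.ext
    · ext
    · refine AlgHom.ext fun b₁ => ?_
      show h (g ((1 : Rₛ) ⊗ₜ[A] b₁)) =
        Algebra.TensorProduct.map (AlgHom.id Rₛ Rₛ) φ ((1 : Rₛ) ⊗ₜ[A] b₁)
      rw [Algebra.TensorProduct.lift_tmul, map_one, one_mul, Algebra.TensorProduct.map_tmul]
      exact hh (q b₁)
  obtain ⟨C', _, _, α, β, hαβ, s, hs, hstd⟩ :=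
    Groth.Agent.Lib.PresDescH4.main2029 φ (Submonoid.powers t) g h hgh
  obtain ⟨e, rfl⟩ := hs
  -- Step 3: the strictly standard element
  set π : A := t ^ e * t ^ N with hπdef
  have hπ : Smoothing.IsStrictlyStandard A C' (algebraMap A C' π) :=
    strictlyStandard_mul (t ^ e) (t ^ N) hstd
  have hπ2 : π ^ 2 = t ^ (2 * (e + N)) := by rw [hπdef, ← pow_add, ← pow_mul, mul_comm]
  have hπ4 : π ^ 4 = t ^ (4 * (e + N)) := by rw [hπdef, ← pow_add, ← pow_mul, mul_comm]
  have hR : ∀ x : A, π ^ 2 * x = 0 → π * x = 0 := by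
    intro x hx
    rw [hπ2] at hx
    have := hN x ⟨_, hx⟩
    rw [hπdef, mul_assoc, this, mul_zero]
  have hΛ : ∀ x : AdicCompletion (Ideal.span {t}) A, π ^ 2 • x = 0 → π • x = 0 := by
    intro x hx
    rw [hπ2] at hx
    have := completion_tors t hN x _ hx
    rw [hπdef, mul_smul, this, smul_zero]
  have hk : Ideal.span {t} ^ (4 * (e + N)) = Ideal.span {π ^ 4} := by
    rw [Ideal.span_singleton_pow, hπ4]
  let ρ : C' →ₐ[A] A ⧸ Ideal.span {π ^ 4} :=
    ((Ideal.quotientEquivAlgOfEq A hk) : _ →ₐ[A] _).comp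
      ((AdicCompletion.evalₐ (Ideal.span {t}) (4 * (e + N))).comp β)
  have hρ : ∀ (c : C') (r : A), Ideal.Quotient.mk (Ideal.span {π ^ 4}) r = ρ c →
      algebraMap A (AdicCompletion (Ideal.span {t}) A) r - β c ∈
        Ideal.span {algebraMap A (AdicCompletion (Ideal.span {t}) A) (π ^ 4)} := by
    intro c r hrc
    have h1 : AdicCompletion.evalₐ (Ideal.span {t}) (4 * (e + N)) (β c) =
        Ideal.Quotient.mk _ r := by
      apply (Ideal.quotientEquivAlgOfEq A hk).injective
      rw [Ideal.quotientEquivAlgOfEq_mk]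
      exact hrc.symm
    have h2 : AdicCompletion.evalₐ (Ideal.span {t}) (4 * (e + N))
        (algebraMap A (AdicCompletion (Ideal.span {t}) A) r - β c) = 0 := by
      rw [map_sub, h1, AlgHom.commutes]
      exact sub_self _
    have h3 := mem_map_of_evalₐ_eq_zero (Ideal.span {t}) ⟨{t}, by simp⟩ _ _ h2
    rw [hk, Ideal.map_span, Set.image_singleton] at h3
    exact h3
  -- Step 4: desingularization
  obtain ⟨D, _, _, hDfp, α', β', hα'β', hsing⟩ :=
    Groth.Agent.Lib.LiftLemmaH4.main π hΛ β hπ ρ hρ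
  haveI := hDfp
  haveI : Algebra.Smooth A D := by
    apply smooth_of_one_mem_singularIdeal
    have := hsing 1 (fun x hx => by rw [one_mul]; exact hR x hx)
    rwa [map_one] at this
  -- Step 5: henselian lifting
  set M : ℕ := n + N + 1 with hM
  have hens : HenselianRing A (Ideal.span {t} ^ M) :=
    Groth.Agent.Lib.HenselPairOpsLead.henselian_of_le (Ideal.pow_le_self (by omega)) inferInstance
  let σD : D →ₐ[A] A ⧸ Ideal.span {t} ^ M := (AdicCompletion.evalₐ (Ideal.span {t}) M).comp β'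
  obtain ⟨τD, hτD⟩ := HensPairSmH8.exists_lift_of_smooth (Ideal.span {t} ^ M) hens σD
  -- Step 6: descend to `B`
  let τ₁ : B₁ →ₐ[A] A := (τD.comp α').comp α
  have hτ₁ : ∀ x : B₁, Ideal.Quotient.mk (Ideal.span {t} ^ M) (τ₁ x) =
      AdicCompletion.evalₐ (Ideal.span {t}) M (σ (q x)) := by
    intro x
    show Ideal.Quotient.mk (Ideal.span {t} ^ M) (τD (α' (α x))) = _
    rw [hτD]
    show AdicCompletion.evalₐ (Ideal.span {t}) M (β' (α' (α x))) = _
    have e1 : β' (α' (α x)) = β (α x) := AlgHom.congr_fun hα'β' (α x)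
    have e2 : β (α x) = φ x := AlgHom.congr_fun hαβ x
    rw [e1, e2]
    rfl
  have hkill : RingHom.ker q.toRingHom ≤ RingHom.ker τ₁.toRingHom := by
    intro x hx
    have hx' : q x = 0 := hx
    obtain ⟨m, hm⟩ := hqker x hx'
    show τ₁ x = 0
    have h1 : t ^ m * τ₁ x = 0 := by
      rw [← smul_eq_mul, ← map_smul, hm, map_zero]
    have h2 : τ₁ x ∈ Ideal.span {t} ^ M := by
      rw [← Ideal.Quotient.eq_zero_iff_mem, hτ₁, hx', map_zero, map_zero]
    exact eq_zero_of_mem_pow_of_tors t hN (by omega) h2 m h1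
  let τ₀ : B →+* A := RingHom.liftOfSurjective q.toRingHom hq ⟨τ₁.toRingHom, hkill⟩
  have hτ₀ : ∀ x : B₁, τ₀ (q x) = τ₁ x := fun x =>
    RingHom.liftOfSurjective_comp_apply q.toRingHom hq ⟨τ₁.toRingHom, hkill⟩ x
  let τ : B →ₐ[A] A := { τ₀ with
    commutes' := fun a => by
      show τ₀ (algebraMap A B a) = algebraMap A A a
      rw [← q.commutes a, hτ₀, τ₁.commutes] }
  refine ⟨τ, AlgHom.ext fun b => ?_⟩
  obtain ⟨x, rfl⟩ := hq b
  show Ideal.Quotient.mk (Ideal.span {t} ^ n) (τ₀ (q x)) =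
    AdicCompletion.evalₐ (Ideal.span {t}) n (σ (q x))
  rw [hτ₀, ← factor_evalₐ (Ideal.span {t}) (show n ≤ M by omega), ← hτ₁, Ideal.Quotient.factor_mk]

end Groth.Agent.Lib.ElkikTH5
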