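import Mathlib

/-!
# The algebra of scaled idempotent matrices (helper5)

For a ring `A`, `t : A` and naturals `n k r`, the finitely presented `A`-algebra
`BI = A[Y_ij] / (t^r (Y² - t^k Y)_ij)`.  After inverting `t` it represents idempotent `n × n`
matrices (`E = Y / t^k`), and is smooth.
-/

set_option autoImplicit false
universe u

open MvPolynomial Matrix

namespace Groth.Agent.Lib.IdemApxH5

section Def

variable (A : Type u) [CommRing A] (t : A) (n k r : ℕ)

/-- the generic matrix -/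
noncomputable def genY : Matrix (Fin n) (Fin n) (MvPolynomial (Fin n × Fin n) A) :=
  fun i j => X (i, j)

/-- the relations -/
noncomputable def rel (ij : Fin n × Fin n) : MvPolynomial (Fin n × Fin n) A :=
  C (t ^ r) * ((genY A n * genY A n) ij.1 ij.2 - C (t ^ k) * genY A n ij.1 ij.2)

/-- the ideal of relations -/
noncomputable def relIdeal : Ideal (MvPolynomial (Fin n × Fin n) A) :=
  Ideal.span (Set.range (rel A t n k r))

/-- the algebra of scaled idempotent matrices -/
abbrev BI : Type u := MvPolynomial (Fin n × Fin n) A ⧸ relIdeal A t n k r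

variable {A t n k r}

theorem aeval_rel {Q : Type*} [CommRing Q] [Algebra A Q] (y : Matrix (Fin n) (Fin n) Q)
    (ij : Fin n × Fin n) :
    aeval (fun ij : Fin n × Fin n => y ij.1 ij.2) (rel A t n k r ij) =
      algebraMap A Q (t ^ r) * ((y * y) ij.1 ij.2 - algebraMap A Q (t ^ k) * y ij.1 ij.2) := by
  unfold rel genY
  rw [map_mul, map_sub, map_mul, Matrix.mul_apply, map_sum, Matrix.mul_apply]
  simp only [map_mul, aeval_X, aeval_C]

/-- the universal property: a matrix satisfying the relations gives an algebra map -/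
noncomputable def liftB {Q : Type*} [CommRing Q] [Algebra A Q] (y : Matrix (Fin n) (Fin n) Q)
    (hy : ∀ i j, algebraMap A Q (t ^ r) * ((y * y) i j - algebraMap A Q (t ^ k) * y i j) = 0) :
    BI A t n k r →ₐ[A] Q :=
  Ideal.Quotient.liftₐ (relIdeal A t n k r) (aeval (fun ij : Fin n × Fin n => y ij.1 ij.2)) (by
    have hle : relIdeal A t n k r ≤
        RingHom.ker (aeval (fun ij : Fin n × Fin n => y ij.1 ij.2) :
          MvPolynomial (Fin n × Fin n) A →ₐ[A] Q).toRingHom := by
      unfold relIdeal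
      rw [Ideal.span_le]
      rintro _ ⟨ij, rfl⟩
      rw [SetLike.mem_coe, RingHom.mem_ker]
      show aeval (fun ij : Fin n × Fin n => y ij.1 ij.2) (rel A t n k r ij) = 0
      rw [aeval_rel]
      exact hy ij.1 ij.2
    exact fun a ha => hle ha)

theorem liftB_mk_X {Q : Type*} [CommRing Q] [Algebra A Q] (y : Matrix (Fin n) (Fin n) Q)
    (hy : ∀ i j, algebraMap A Q (t ^ r) * ((y * y) i j - algebraMap A Q (t ^ k) * y i j) = 0)
    (i j : Fin n) :
    liftB y hy (Ideal.Quotient.mk (relIdeal A t n k r) (X (i, j))) = y i j := by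
  unfold liftB
  rw [Ideal.Quotient.liftₐ_apply, Ideal.Quotient.lift_mk]
  show aeval (fun ij : Fin n × Fin n => y ij.1 ij.2) (X (i, j)) = y i j
  rw [aeval_X]

/-- the matrix of an algebra map out of `BI` -/
noncomputable def matOf {Q : Type*} [CommRing Q] [Algebra A Q] (g : BI A t n k r →ₐ[A] Q) :
    Matrix (Fin n) (Fin n) Q :=
  fun i j => g (Ideal.Quotient.mk (relIdeal A t n k r) (X (i, j)))

theorem matOf_rel {Q : Type*} [CommRing Q] [Algebra A Q] (g : BI A t n k r →ₐ[A] Q)
    (i j : Fin n) :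
    algebraMap A Q (t ^ r) * ((matOf g * matOf g) i j - algebraMap A Q (t ^ k) * matOf g i j)
      = 0 := by
  have h1 : Ideal.Quotient.mk (relIdeal A t n k r) (rel A t n k r (i, j)) = 0 :=
    Ideal.Quotient.eq_zero_iff_mem.2 (Ideal.subset_span ⟨(i, j), rfl⟩)
  have h2 := congrArg g h1
  rw [map_zero] at h2
  rw [← h2]
  unfold rel genY matOf
  rw [Matrix.mul_apply, Matrix.mul_apply]
  simp only [map_mul, map_sub, map_sum]
  rw [← MvPolynomial.algebraMap_eq]
  have e : ∀ a : A, g (Ideal.Quotient.mk (relIdeal A t n k r)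
      (algebraMap A (MvPolynomial (Fin n × Fin n) A) a)) = algebraMap A Q a := fun a => by
    have : Ideal.Quotient.mk (relIdeal A t n k r)
        (algebraMap A (MvPolynomial (Fin n × Fin n) A) a) = algebraMap A (BI A t n k r) a := rfl
    rw [this, AlgHom.commutes]
  rw [e, e]

theorem algHom_ext_B {Q : Type*} [CommRing Q] [Algebra A Q] (g₁ g₂ : BI A t n k r →ₐ[A] Q)
    (h : ∀ i j, g₁ (Ideal.Quotient.mk (relIdeal A t n k r) (X (i, j))) =
      g₂ (Ideal.Quotient.mk (relIdeal A t n k r) (X (i, j)))) : g₁ = g₂ := by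
  apply Ideal.Quotient.algHom_ext
  apply MvPolynomial.algHom_ext
  rintro ⟨i, j⟩
  exact h i j

instance : Algebra.FinitePresentation A (BI A t n k r) := by
  classical
  apply Algebra.FinitePresentation.quotient
  unfold relIdeal
  exact ⟨(Finset.univ : Finset (Fin n × Fin n)).image (rel A t n k r), by
    rw [Finset.coe_image, Finset.coe_univ, Set.image_univ]⟩

end Def

section Lift

variable {Q : Type u} [CommRing Q] {n : ℕ}

theorem isUnit_of_isUnit_mk (J : Ideal Q) (hJ : J ^ 2 = ⊥) (x : Q)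
    (hx : IsUnit (Ideal.Quotient.mk J x)) : IsUnit x := by
  obtain ⟨v', hv'⟩ := hx.exists_right_inv
  obtain ⟨v, rfl⟩ := Ideal.Quotient.mk_surjective v'
  rw [← map_mul, ← map_one (Ideal.Quotient.mk J), Ideal.Quotient.eq] at hv'
  have h0 : (x * v - 1) * (x * v - 1) = 0 := by
    have : (x * v - 1) * (x * v - 1) ∈ J ^ 2 := by
      rw [pow_two]; exact Ideal.mul_mem_mul hv' hv'
    rw [hJ] at this
    exact this
  exact IsUnit.of_mul_eq_one (v * (2 - x * v)) (by linear_combination -h0)

/-- lifting scaled idempotent matrices along a square-zero ideal -/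
theorem lift_scaled (J : Ideal Q) (hJ : J ^ 2 = ⊥) (τ : Q) (hτ : IsUnit τ) (k : ℕ)
    (y : Matrix (Fin n) (Fin n) (Q ⧸ J))
    (hy : y * y = (Ideal.Quotient.mk J τ) ^ k • y) :
    ∃ y' : Matrix (Fin n) (Fin n) Q, y' * y' = τ ^ k • y' ∧
      (Ideal.Quotient.mk J).mapMatrix y' = y := by
  obtain ⟨u, hu⟩ := hτ.exists_right_inv
  obtain ⟨π, hπ⟩ : ∃ π : Matrix (Fin n) (Fin n) Q →+* Matrix (Fin n) (Fin n) (Q ⧸ J),
      π = (Ideal.Quotient.mk J).mapMatrix := ⟨_, rfl⟩
  have hτu : Ideal.Quotient.mk J τ * Ideal.Quotient.mk J u = 1 := by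
    rw [← map_mul, hu, map_one]
  have hτuk : (Ideal.Quotient.mk J τ) ^ k * (Ideal.Quotient.mk J u) ^ k = 1 := by
    rw [← mul_pow, hτu, one_pow]
  -- the idempotent downstairs
  have hidem : IsIdempotentElem ((Ideal.Quotient.mk J u) ^ k • y) := by
    show ((Ideal.Quotient.mk J u) ^ k • y) * ((Ideal.Quotient.mk J u) ^ k • y) = _
    rw [Matrix.smul_mul, Matrix.mul_smul, hy, smul_smul, smul_smul]
    congr 1
    linear_combination ((Ideal.Quotient.mk J u) ^ k) * hτuk
  have hker : ∀ x ∈ RingHom.ker π, IsNilpotent x := by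
    intro x hx
    refine ⟨2, ?_⟩
    rw [RingHom.mem_ker, hπ] at hx
    have hxJ : ∀ i j, x i j ∈ J := fun i j => by
      have := congrFun (congrFun hx i) j
      rw [RingHom.mapMatrix_apply, Matrix.map_apply, Matrix.zero_apply] at this
      exact Ideal.Quotient.eq_zero_iff_mem.1 this
    ext i j
    rw [pow_two, Matrix.mul_apply, Matrix.zero_apply]
    apply Finset.sum_eq_zero
    intro l _
    have : x i l * x l j ∈ J ^ 2 := by
      rw [pow_two]; exact Ideal.mul_mem_mul (hxJ i l) (hxJ l j)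
    rw [hJ] at this
    exact this
  have hrange : (Ideal.Quotient.mk J u) ^ k • y ∈ π.range := by
    choose x hx using fun i j => Ideal.Quotient.mk_surjective (((Ideal.Quotient.mk J u) ^ k • y) i j)
    refine ⟨Matrix.of x, ?_⟩
    rw [hπ]
    ext i j
    rw [RingHom.mapMatrix_apply, Matrix.map_apply, Matrix.of_apply, hx]
  obtain ⟨e', he', hπe'⟩ := exists_isIdempotentElem_eq_of_ker_isNilpotent π hker _ hrange hidem
  refine ⟨τ ^ k • e', ?_, ?_⟩
  · rw [Matrix.smul_mul, Matrix.mul_smul, he'.eq]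
  · have h1 : (Ideal.Quotient.mk J).mapMatrix (τ ^ k • e') =
        (Ideal.Quotient.mk J τ) ^ k • π e' := by
      rw [hπ]
      ext i j
      simp only [RingHom.mapMatrix_apply, Matrix.map_apply, Matrix.smul_apply, smul_eq_mul,
        map_mul, map_pow]
    rw [h1, hπe', smul_smul, hτuk, one_smul]

end Lift

section Smooth

theorem isUnit_algebraMap_t (A : Type u) [CommRing A] (t : A) (n k r : ℕ)
    (Bₛ : Type u) [CommRing Bₛ] [Algebra (BI A t n k r) Bₛ] [Algebra A Bₛ]
    [IsScalarTower A (BI A t n k r) Bₛ]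
    [IsLocalization (Algebra.algebraMapSubmonoid (BI A t n k r) (Submonoid.powers t)) Bₛ] :
    IsUnit (algebraMap A Bₛ t) := by
  rw [IsScalarTower.algebraMap_apply A (BI A t n k r) Bₛ]
  exact IsLocalization.map_units Bₛ
    (⟨algebraMap A (BI A t n k r) t, ⟨t, Submonoid.mem_powers t, rfl⟩⟩ :
      Algebra.algebraMapSubmonoid (BI A t n k r) (Submonoid.powers t))

theorem formallySmooth_loc (A : Type u) [CommRing A] (t : A) (n k r : ℕ)
    (Bₛ : Type u) [CommRing Bₛ] [Algebra (BI A t n k r) Bₛ] [Algebra A Bₛ]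
    [IsScalarTower A (BI A t n k r) Bₛ]
    [IsLocalization (Algebra.algebraMapSubmonoid (BI A t n k r) (Submonoid.powers t)) Bₛ] :
    Algebra.FormallySmooth A Bₛ := by
  refine Algebra.FormallySmooth.of_comp_surjective fun Q _ _ J hJ f => ?_
  -- `t` is a unit of `Q`
  have hτ : IsUnit (algebraMap A Q t) := by
    apply isUnit_of_isUnit_mk J hJ
    have := (isUnit_algebraMap_t A t n k r Bₛ).map f
    rwa [AlgHom.commutes] at this
  obtain ⟨g, hg⟩ : ∃ g : BI A t n k r →ₐ[A] Q ⧸ J,
      g = f.comp (IsScalarTower.toAlgHom A (BI A t n k r) Bₛ) := ⟨_, rfl⟩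
  have hrel := matOf_rel g
  have hτ' : IsUnit (algebraMap A (Q ⧸ J) t) := hτ.map (Ideal.Quotient.mk J)
  have hy : matOf g * matOf g = (Ideal.Quotient.mk J (algebraMap A Q t)) ^ k • matOf g := by
    ext i j
    have h1 := hrel i j
    rw [map_pow, map_pow] at h1
    have h2 := (hτ'.pow r).mul_right_eq_zero.1 h1
    rw [Matrix.smul_apply, smul_eq_mul]
    exact sub_eq_zero.1 h2
  obtain ⟨y', hy', hπy'⟩ := lift_scaled J hJ (algebraMap A Q t) hτ k (matOf g) hy
  have hy'rel : ∀ i j, algebraMap A Q (t ^ r) *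
      ((y' * y') i j - algebraMap A Q (t ^ k) * y' i j) = 0 := by
    intro i j
    rw [hy', Matrix.smul_apply, smul_eq_mul, map_pow, map_pow, sub_self, mul_zero]
  obtain ⟨φ, hφ⟩ : ∃ φ : BI A t n k r →ₐ[A] Q, φ = liftB y' hy'rel := ⟨_, rfl⟩
  have hφunit : ∀ z : Algebra.algebraMapSubmonoid (BI A t n k r) (Submonoid.powers t),
      IsUnit (φ z) := by
    rintro ⟨_, ⟨a, ⟨m, rfl⟩, rfl⟩⟩
    show IsUnit (φ (algebraMap A (BI A t n k r) (t ^ m)))
    rw [AlgHom.commutes, map_pow]
    exact hτ.pow m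
  refine ⟨IsLocalization.liftAlgHom hφunit, ?_⟩
  apply IsLocalization.algHom_ext
    (Algebra.algebraMapSubmonoid (BI A t n k r) (Submonoid.powers t))
  apply algHom_ext_B
  intro i j
  show Ideal.Quotient.mk J (IsLocalization.lift hφunit (algebraMap (BI A t n k r) Bₛ _)) =
    f (algebraMap (BI A t n k r) Bₛ _)
  rw [IsLocalization.lift_eq, hφ]
  show Ideal.Quotient.mk J (liftB y' hy'rel _) = _
  rw [liftB_mk_X]
  have h3 := congrFun (congrFun hπy' i) j
  rw [RingHom.mapMatrix_apply, Matrix.map_apply] at h3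
  rw [h3, hg]
  rfl

theorem smooth_loc (A : Type u) [CommRing A] (t : A) (n k r : ℕ)
    (Rₛ : Type u) [CommRing Rₛ] [Algebra A Rₛ] [IsLocalization.Away t Rₛ]
    (Bₛ : Type u) [CommRing Bₛ] [Algebra (BI A t n k r) Bₛ] [Algebra A Bₛ] [Algebra Rₛ Bₛ]
    [IsScalarTower A (BI A t n k r) Bₛ] [IsScalarTower A Rₛ Bₛ]
    [IsLocalization (Algebra.algebraMapSubmonoid (BI A t n k r) (Submonoid.powers t)) Bₛ] :
    Algebra.Smooth Rₛ Bₛ := by
  haveI := formallySmooth_loc A t n k r Bₛ
  haveI hloc : IsLocalization ((Submonoid.powers t).map (algebraMap A (BI A t n k r))) Bₛ :=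
    ‹IsLocalization (Algebra.algebraMapSubmonoid (BI A t n k r) (Submonoid.powers t)) Bₛ›
  refine ⟨Algebra.FormallySmooth.localization_base (R := A) (Submonoid.powers t), ?_⟩
  haveI : IsLocalization.Away (algebraMap A (BI A t n k r) t) Bₛ := by
    have := hloc
    rwa [Submonoid.map_powers] at this
  haveI : Algebra.FinitePresentation A Bₛ :=
    Algebra.FinitePresentation.of_isLocalizationAway (algebraMap A (BI A t n k r) t)
  haveI : Algebra.FinitePresentation A Rₛ := IsLocalization.Away.finitePresentation t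
  exact Algebra.FinitePresentation.of_restrict_scalars_finitePresentation (R := A) (A := Rₛ)
    (B := Bₛ)

end Smooth

end Groth.Agent.Lib.IdemApxH5
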