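import Groth.Agent.Lib.LaurApprox2_helper1

/-!
# `A[1/t] → Â[1/t]` for `t` in the Jacobson radical: approximation data (helper1)
-/

set_option autoImplicit false
set_option maxHeartbeats 1000000
universe u v w

open TensorProduct

namespace Groth.Agent.Lib.LaurApproxH1

section Adic

variable (A : Type u) [CommRing A] (t : A)

/-- the `t`-adic completion -/
abbrev Ah : Type u := AdicCompletion (Ideal.span {t}) A

/-- the image of `t` in the completion -/
noncomputable abbrev th : Ah A t := algebraMap A (Ah A t) t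

/-- `A[1/t]` -/
abbrev Lt : Type u := Localization.Away t

/-- `Â[1/t]` -/
abbrev Lh : Type u := Localization.Away (th A t)

/-- `t` as a unit of `Â[1/t]` -/
noncomputable def utau : (Lh A t)ˣ :=
  (IsLocalization.Away.algebraMap_isUnit (S := Lh A t) (th A t)).unit

theorem utau_val : ((utau A t : (Lh A t)ˣ) : Lh A t) =
    algebraMap (Ah A t) (Lh A t) (th A t) := IsUnit.unit_spec _

theorem utau_pow (n : ℕ) : ((utau A t ^ (n : ℤ) : (Lh A t)ˣ) : Lh A t) =
    algebraMap (Ah A t) (Lh A t) (th A t ^ n) := by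
  rw [zpow_natCast, Units.val_pow_eq_pow_val, utau_val, map_pow]

/-- the filtration `t^k Â` of `Â[1/t]` -/
noncomputable def GA (k : ℤ) : AddSubgroup (Lh A t) where
  carrier := {x | ∃ b : Ah A t,
    ((utau A t ^ k : (Lh A t)ˣ) : Lh A t) * algebraMap (Ah A t) (Lh A t) b = x}
  add_mem' := by
    rintro _ _ ⟨g, rfl⟩ ⟨h, rfl⟩
    exact ⟨g + h, by rw [map_add, mul_add]⟩
  zero_mem' := ⟨0, by rw [map_zero, mul_zero]⟩
  neg_mem' := by
    rintro _ ⟨g, rfl⟩
    exact ⟨-g, by rw [map_neg, mul_neg]⟩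

theorem GA_anti {j k : ℤ} (h : j ≤ k) : GA A t k ≤ GA A t j := by
  rintro _ ⟨g, rfl⟩
  obtain ⟨n, hn⟩ := Int.eq_ofNat_of_zero_le (sub_nonneg.mpr h)
  have hjk : k = j + (n : ℤ) := by omega
  refine ⟨th A t ^ n * g, ?_⟩
  rw [map_mul, ← utau_pow, ← mul_assoc, ← Units.val_mul, ← zpow_add, ← hjk]

theorem GA_mul {j k : ℤ} {x y : Lh A t} (hx : x ∈ GA A t j) (hy : y ∈ GA A t k) :
    x * y ∈ GA A t (j + k) := by
  obtain ⟨g, rfl⟩ := hx
  obtain ⟨h, rfl⟩ := hy
  refine ⟨g * h, ?_⟩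
  rw [map_mul, zpow_add, Units.val_mul]
  ring

theorem one_mem_GA : (1 : Lh A t) ∈ GA A t 0 :=
  ⟨1, by rw [map_one, mul_one, zpow_zero, Units.val_one]⟩

theorem exists_nat_mem_GA (x : Lh A t) : ∃ (n : ℕ) (b : Ah A t),
    ((utau A t ^ (-(n : ℤ)) : (Lh A t)ˣ) : Lh A t) * algebraMap (Ah A t) (Lh A t) b = x := by
  obtain ⟨b, ⟨_, n, rfl⟩, rfl⟩ := IsLocalization.exists_mk'_eq (Submonoid.powers (th A t)) x
  refine ⟨n, b, ?_⟩
  have h1 := IsLocalization.mk'_spec (Lh A t) b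
    (⟨th A t ^ n, n, rfl⟩ : Submonoid.powers (th A t))
  rw [← h1]
  show _ * (_ * algebraMap (Ah A t) (Lh A t) (th A t ^ n)) = _
  rw [← utau_pow, mul_comm (IsLocalization.mk' _ _ _), ← mul_assoc, ← Units.val_mul, ← zpow_add,
    neg_add_cancel, zpow_zero, Units.val_one, one_mul]

theorem exists_mem_GA (x : Lh A t) : ∃ k, x ∈ GA A t k := by
  obtain ⟨n, b, h⟩ := exists_nat_mem_GA A t x
  exact ⟨-(n : ℤ), b, h⟩

theorem exists_approx_adic (b : Ah A t) (m : ℕ) : ∃ (a : A) (b' : Ah A t),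
    b - algebraMap A (Ah A t) a = th A t ^ m * b' := by
  obtain ⟨a, ha⟩ := Submodule.mkQ_surjective _ (AdicCompletion.eval (Ideal.span {t}) A m b)
  have h1 : b - algebraMap A (Ah A t) a ∈
      LinearMap.ker (AdicCompletion.eval (Ideal.span {t}) A m) := by
    rw [LinearMap.mem_ker, map_sub, AdicCompletion.algebraMap_apply, Algebra.algebraMap_self,
      RingHom.id_apply, AdicCompletion.eval_of, ha, sub_self]
  have hfg : (Ideal.span {t} : Ideal A).FG := ⟨{t}, by simp⟩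
  rw [← AdicCompletion.pow_smul_top_eq_ker_eval hfg, Ideal.span_singleton_pow,
    Submodule.ideal_span_singleton_smul, Submodule.mem_smul_pointwise_iff_exists] at h1
  obtain ⟨b', -, hb'⟩ := h1
  refine ⟨a, b', ?_⟩
  rw [← hb', Algebra.smul_def, map_pow]

theorem isUnit_one_sub_of_mem_GA {z : Lh A t} (hz : z ∈ GA A t 1) : IsUnit (1 - z) := by
  obtain ⟨b, rfl⟩ := hz
  have hfg : (Ideal.span {t} : Ideal A).FG := ⟨{t}, by simp⟩
  haveI := AdicCompletion.isAdicComplete_self (Ideal.span {t}) hfg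
  have h1 : th A t * b ∈ (Ideal.span {t}).map (algebraMap A (Ah A t)) :=
    Ideal.mul_mem_right _ _ (Ideal.mem_map_of_mem _ (Ideal.mem_span_singleton_self t))
  have h2 := IsAdicComplete.le_jacobson_bot _ h1
  have h3 := Ideal.mem_jacobson_bot.mp h2 (-1)
  have h4 : (1 : Lh A t) - ((utau A t ^ (1 : ℤ) : (Lh A t)ˣ) : Lh A t) *
      algebraMap (Ah A t) (Lh A t) b = algebraMap (Ah A t) (Lh A t) (th A t * b * -1 + 1) := by
    rw [zpow_one, utau_val, map_add, map_mul, map_mul, map_neg, map_one]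
    ring
  rw [h4]
  exact h3.map _

variable [Algebra (Lt A t) (Lh A t)]
  (halg : algebraMap (Lt A t) (Lh A t) = Localization.awayMap (algebraMap A (Ah A t)) t)

include halg in
theorem phi_algebraMap (a : A) : algebraMap (Lt A t) (Lh A t) (algebraMap A (Lt A t) a) =
    algebraMap (Ah A t) (Lh A t) (algebraMap A (Ah A t) a) := by
  rw [halg]
  exact IsLocalization.map_eq _ a

include halg in
theorem dense_adic (x : Lh A t) (c : ℤ) :
    ∃ y : Lt A t, x - algebraMap (Lt A t) (Lh A t) y ∈ GA A t c := by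
  obtain ⟨n, b, hb⟩ := exists_nat_mem_GA A t x
  obtain ⟨m, hm⟩ : ∃ m : ℕ, m = (c + n).toNat := ⟨_, rfl⟩
  obtain ⟨a, b', hab⟩ := exists_approx_adic A t b m
  obtain ⟨y, hydef⟩ : ∃ y : Lt A t, y = IsLocalization.mk' (Lt A t) a
      (⟨t ^ n, n, rfl⟩ : Submonoid.powers t) := ⟨_, rfl⟩
  refine ⟨y, ?_⟩
  have h1 := IsLocalization.mk'_spec (Lt A t) a (⟨t ^ n, n, rfl⟩ : Submonoid.powers t)
  rw [← hydef] at h1
  have h2 := congrArg (algebraMap (Lt A t) (Lh A t)) h1
  rw [map_mul] at h2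
  have h2' : algebraMap (Lt A t) (Lh A t) y * algebraMap (Ah A t) (Lh A t) (th A t ^ n) =
      algebraMap (Ah A t) (Lh A t) (algebraMap A (Ah A t) a) := by
    have e : (th A t ^ n : Ah A t) = algebraMap A (Ah A t) (t ^ n) := (map_pow _ _ _).symm
    rw [e, ← phi_algebraMap A t halg a, ← phi_algebraMap A t halg (t ^ n)]
    exact h2
  have h3 : algebraMap (Lt A t) (Lh A t) y = ((utau A t ^ (-(n : ℤ)) : (Lh A t)ˣ) : Lh A t) *
      algebraMap (Ah A t) (Lh A t) (algebraMap A (Ah A t) a) := by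
    rw [← h2', ← utau_pow, mul_comm (algebraMap (Lt A t) (Lh A t) y), ← mul_assoc,
      ← Units.val_mul, ← zpow_add, neg_add_cancel, zpow_zero, Units.val_one, one_mul]
  rw [← hb, h3, ← mul_sub, ← map_sub, hab, map_mul, ← utau_pow, ← mul_assoc, ← Units.val_mul,
    ← zpow_add]
  refine GA_anti A t ?_ ⟨b', rfl⟩
  have := Int.self_le_toNat (c + n)
  omega

include halg in
theorem unit_adic (ht : t ∈ (⊥ : Ideal A).jacobson) (y : Lt A t)
    (hy : algebraMap (Lt A t) (Lh A t) y ∈ GA A t 1) : IsUnit (1 - y) := by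
  obtain ⟨a, ⟨_, n, rfl⟩, rfl⟩ := IsLocalization.exists_mk'_eq (Submonoid.powers t) y
  obtain ⟨w, hw⟩ := hy
  have h1 := IsLocalization.mk'_spec (Lt A t) a (⟨t ^ n, n, rfl⟩ : Submonoid.powers t)
  have h2 := congrArg (algebraMap (Lt A t) (Lh A t)) h1
  rw [map_mul] at h2
  have h2' : algebraMap (Lt A t) (Lh A t) (IsLocalization.mk' (Lt A t) a
      (⟨t ^ n, n, rfl⟩ : Submonoid.powers t)) * algebraMap (Ah A t) (Lh A t) (th A t ^ n) =
      algebraMap (Ah A t) (Lh A t) (algebraMap A (Ah A t) a) := by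
    have e : (th A t ^ n : Ah A t) = algebraMap A (Ah A t) (t ^ n) := (map_pow _ _ _).symm
    rw [e, ← phi_algebraMap A t halg a, ← phi_algebraMap A t halg (t ^ n)]
    exact h2
  rw [← hw, zpow_one, utau_val] at h2'
  have h3 : algebraMap (Ah A t) (Lh A t) (algebraMap A (Ah A t) a - th A t ^ (n + 1) * w) = 0 := by
    rw [map_sub, ← h2', map_mul, map_pow, map_pow]
    ring
  obtain ⟨⟨_, j, rfl⟩, hj⟩ :=
    (IsLocalization.map_eq_zero_iff (Submonoid.powers (th A t)) (Lh A t) _).mp h3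
  obtain ⟨w0, hw0⟩ := Ideal.Quotient.mk_surjective
    (AdicCompletion.evalₐ (Ideal.span {t}) (j + n + 2) w)
  have h4 := congrArg (AdicCompletion.evalₐ (Ideal.span {t}) (j + n + 2)) hj
  have hev : ∀ x : A, AdicCompletion.evalₐ (Ideal.span {t}) (j + n + 2)
      (algebraMap A (Ah A t) x) = Ideal.Quotient.mk _ x := fun x =>
    AdicCompletion.evalₐ_of _ _ x
  simp only [map_mul, map_sub, map_pow, map_zero, hev, ← hw0] at h4
  rw [← map_pow, ← map_pow, ← map_mul, ← map_sub, ← map_mul, Ideal.Quotient.eq_zero_iff_mem,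
    Ideal.span_singleton_pow, Ideal.mem_span_singleton'] at h4
  obtain ⟨r, hr⟩ := h4
  have h5 : t ^ j * (a - t ^ (n + 1) * (w0 + t * r)) = 0 := by
    have : t ^ j * (a - t ^ (n + 1) * (w0 + t * r)) =
        t ^ j * (a - t ^ (n + 1) * w0) - r * t ^ (j + n + 2) := by ring
    rw [this, hr, sub_self]
  have h6 : algebraMap A (Lt A t) a = algebraMap A (Lt A t) (t ^ (n + 1) * (w0 + t * r)) := by
    have h7 := congrArg (algebraMap A (Lt A t)) h5
    rw [map_mul, map_zero] at h7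
    have hu : IsUnit (algebraMap A (Lt A t) (t ^ j)) :=
      IsLocalization.map_units (Lt A t) (⟨t ^ j, j, rfl⟩ : Submonoid.powers t)
    have h8 := hu.mul_right_eq_zero.mp h7
    rw [map_sub, sub_eq_zero] at h8
    exact h8
  have hun : IsUnit (algebraMap A (Lt A t) (t ^ n)) :=
    IsLocalization.map_units (Lt A t) (⟨t ^ n, n, rfl⟩ : Submonoid.powers t)
  have h9 : IsLocalization.mk' (Lt A t) a (⟨t ^ n, n, rfl⟩ : Submonoid.powers t) =
      algebraMap A (Lt A t) (t * (w0 + t * r)) := by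
    apply hun.mul_left_injective
    show _ * algebraMap A (Lt A t) (t ^ n) = _ * algebraMap A (Lt A t) (t ^ n)
    rw [h1, h6, ← map_mul]
    congr 1
    ring
  rw [h9]
  have h10 := Ideal.mem_jacobson_bot.mp ht (-(w0 + t * r))
  have h11 : (1 : Lt A t) - algebraMap A (Lt A t) (t * (w0 + t * r)) =
      algebraMap A (Lt A t) (t * -(w0 + t * r) + 1) := by
    rw [map_add, map_one, mul_neg, map_neg]
    ring
  rw [h11]
  exact h10.map _

/-- the approximation data of `A[1/t] → Â[1/t]` -/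
noncomputable def approxDataAdic (ht : t ∈ (⊥ : Ideal A).jacobson) :
    ApproxData (Lt A t) (Lh A t) where
  F := GA A t
  anti := fun h => GA_anti A t h
  mul_mem := fun hx hy => GA_mul A t hx hy
  one_mem := one_mem_GA A t
  exists_mem := exists_mem_GA A t
  dense := dense_adic A t halg
  unit_of_small := unit_adic A t halg ht
  unit_of_small' := fun _ hz => isUnit_one_sub_of_mem_GA A t hz

include halg in
theorem main15778 (ht : t ∈ (⊥ : Ideal A).jacobson) :
    (∀ (M N : Type u) [AddCommGroup M] [Module (Lt A t) M] [Module.Finite (Lt A t) M]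
        [Module.Projective (Lt A t) M] [AddCommGroup N] [Module (Lt A t) N]
        [Module.Finite (Lt A t) N] [Module.Projective (Lt A t) N],
        Nonempty (Lh A t ⊗[Lt A t] M ≃ₗ[Lh A t] Lh A t ⊗[Lt A t] N) →
          Nonempty (M ≃ₗ[Lt A t] N)) ∧
    (∀ (M' : Type u) [AddCommGroup M'] [Module (Lh A t) M'] [Module.Finite (Lh A t) M'],
        (∃ n m : ℕ, Nonempty ((M' × (Fin n → Lh A t)) ≃ₗ[Lh A t] (Fin m → Lh A t))) →
        ∃ (M : Type u) (_ : AddCommGroup M) (_ : Module (Lt A t) M), Module.Finite (Lt A t) M ∧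
          (∃ n m : ℕ, Nonempty ((M × (Fin n → Lt A t)) ≃ₗ[Lt A t] (Fin m → Lt A t))) ∧
          Nonempty (Lh A t ⊗[Lt A t] M ≃ₗ[Lh A t] M')) := by
  have D := approxDataAdic A t halg ht
  constructor
  · intro M N _ _ _ _ _ _ _ _ hψ
    obtain ⟨ψ⟩ := hψ
    exact D.nonempty_equiv_of_baseChange M N ψ
  · intro M' _ _ _ h
    obtain ⟨a, b, ⟨ε⟩⟩ := h
    obtain ⟨P, ⟨e1⟩, ⟨e2⟩⟩ := D.exists_descent_of_stablyFree M' a b ε
    refine ⟨P, inferInstance, inferInstance, ?_, ⟨a, b, ⟨e1⟩⟩, ⟨e2⟩⟩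
    refine Module.Finite.of_surjective
      (LinearMap.fst (Lt A t) P (Fin a → Lt A t) ∘ₗ e1.symm.toLinearMap) ?_
    intro x
    exact ⟨e1 (x, 0), by rw [LinearMap.comp_apply, LinearEquiv.coe_coe,
      LinearEquiv.symm_apply_apply]; rfl⟩

end Adic

end Groth.Agent.Lib.LaurApproxH1
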