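import Mathlib
import Groth.Agent.Lib.IdemApx1_helper5
import Groth.Agent.Lib.ElkikT2_helper5
import Groth.Agent.Lib.LaurApprox4_helper1

/-!
# Approximation of idempotent matrices over `Â[1/t]` by idempotent matrices over `A[1/t]` (helper5)

`(A, tA)` henselian with bounded `t`-torsion.  Uses the principal Elkik approximation theorem on the
smooth algebra of scaled idempotent matrices.
-/

set_option autoImplicit false
set_option maxHeartbeats 1000000
universe u

open Matrix

namespace Groth.Agent.Lib.IdemApxH5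

open Groth.Agent.Lib.LaurApproxH1

variable (A : Type u) [CommRing A] (t : A)

/-- entries of a matrix over `Â[1/t]` have a common denominator `t^k` -/
theorem exists_common_denom {n : ℕ} (E' : Matrix (Fin n) (Fin n) (Lh A t)) :
    ∃ (k : ℕ) (Y' : Matrix (Fin n) (Fin n) (Ah A t)),
      ∀ i j, algebraMap (Ah A t) (Lh A t) (Y' i j) =
        algebraMap (Ah A t) (Lh A t) (th A t) ^ k * E' i j := by
  classical
  choose c b hb using fun ij : Fin n × Fin n => exists_nat_mem_GA A t (E' ij.1 ij.2)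
  obtain ⟨k, hk⟩ : ∃ k : ℕ, k = ∑ ij, c ij := ⟨_, rfl⟩
  have hck : ∀ ij, c ij ≤ k := fun ij => by
    rw [hk]; exact Finset.single_le_sum (fun _ _ => Nat.zero_le _) (Finset.mem_univ ij)
  refine ⟨k, fun i j => th A t ^ (k - c (i, j)) * b (i, j), fun i j => ?_⟩
  have h1 := hb (i, j)
  have h2 : ((utau A t ^ ((c (i, j) : ℕ) : ℤ) : (Lh A t)ˣ) : Lh A t) *
      ((utau A t ^ (-((c (i, j) : ℕ) : ℤ)) : (Lh A t)ˣ) : Lh A t) = 1 := by
    rw [← Units.val_mul, ← _root_.zpow_add, add_neg_cancel, zpow_zero, Units.val_one]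
  rw [utau_pow] at h2
  rw [map_mul, map_pow, ← h1]
  have h3 : algebraMap (Ah A t) (Lh A t) (th A t) ^ k =
      algebraMap (Ah A t) (Lh A t) (th A t) ^ (k - c (i, j)) *
        algebraMap (Ah A t) (Lh A t) (th A t) ^ c (i, j) := by
    rw [← pow_add, Nat.sub_add_cancel (hck (i, j))]
  rw [h3, map_pow] at *
  linear_combination (-(algebraMap (Ah A t) (Lh A t) (th A t) ^ (k - c (i, j)) *
    algebraMap (Ah A t) (Lh A t) (b (i, j)))) * h2

/-- kernel of the truncation of the completion -/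
theorem exists_eq_pow_mul (N : ℕ) (x : Ah A t)
    (hx : AdicCompletion.evalₐ (Ideal.span {t}) N x = 0) : ∃ w : Ah A t, x = th A t ^ N * w := by
  have hfg : (Ideal.span {t} : Ideal A).FG := ⟨{t}, by simp⟩
  have h1 : x ∈ LinearMap.ker (AdicCompletion.eval (Ideal.span {t}) A N) := by
    have hle : (Ideal.span {t} : Ideal A) ^ N ≤ (Ideal.span {t} : Ideal A) ^ N • ⊤ := by
      rw [smul_eq_mul, Ideal.mul_top]
    rw [LinearMap.mem_ker, ← AdicCompletion.factor_evalₐ_eq_eval (Ideal.span {t}) x hle, hx,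
      map_zero]
  rw [← AdicCompletion.pow_smul_top_eq_ker_eval hfg, Ideal.span_singleton_pow,
    Submodule.ideal_span_singleton_smul, Submodule.mem_smul_pointwise_iff_exists] at h1
  obtain ⟨w, -, hw⟩ := h1
  refine ⟨w, ?_⟩
  rw [← hw, Algebra.smul_def, map_pow]

variable [Algebra (Lt A t) (Lh A t)]
  (halg : algebraMap (Lt A t) (Lh A t) = Localization.awayMap (algebraMap A (Ah A t)) t)

include halg in
/-- idempotent matrices over `Â[1/t]` are approximated by idempotent matrices over `A[1/t]` -/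
theorem exists_idem_approx [HenselianRing A (Ideal.span {t})]
    (hbd : ∃ N : ℕ, ∀ a : A, (∃ m : ℕ, t ^ m * a = 0) → t ^ N * a = 0)
    {n : ℕ} (E' : Matrix (Fin n) (Fin n) (Lh A t)) (hE' : E' * E' = E') (c : ℕ) :
    ∃ E : Matrix (Fin n) (Fin n) (Lt A t), E * E = E ∧
      ∀ i j, E' i j - algebraMap (Lt A t) (Lh A t) (E i j) ∈ GA A t (c : ℤ) := by
  classical
  obtain ⟨ι, hι⟩ : ∃ ι : Ah A t →+* Lh A t, ι = algebraMap (Ah A t) (Lh A t) := ⟨_, rfl⟩
  obtain ⟨k, Y', hY'⟩ := exists_common_denom A t E'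
  rw [← hι] at hY'
  have hτu : IsUnit (ι (th A t)) := by
    rw [hι]; exact IsLocalization.Away.algebraMap_isUnit (th A t)
  -- the relation holds after localization
  have hrelL : ∀ i j, ι ((Y' * Y') i j - th A t ^ k * Y' i j) = 0 := by
    intro i j
    rw [map_sub, map_mul, map_pow, Matrix.mul_apply, map_sum, hY']
    have h1 : ∑ l, ι (Y' i l * Y' l j) = ι (th A t) ^ k * (ι (th A t) ^ k * (E' * E') i j) := by
      rw [Matrix.mul_apply, Finset.mul_sum, Finset.mul_sum]
      refine Finset.sum_congr rfl fun l _ => ?_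
      rw [map_mul, hY', hY']; ring
    rw [h1, hE', sub_self]
  -- a common exponent killing the relations
  have hex : ∀ ij : Fin n × Fin n, ∃ m : ℕ,
      th A t ^ m * ((Y' * Y') ij.1 ij.2 - th A t ^ k * Y' ij.1 ij.2) = 0 := by
    intro ij
    have h1 := hrelL ij.1 ij.2
    rw [hι, IsLocalization.map_eq_zero_iff (Submonoid.powers (th A t))] at h1
    obtain ⟨⟨_, m, rfl⟩, hm⟩ := h1
    exact ⟨m, hm⟩
  choose m hm using hex
  obtain ⟨r, hr⟩ : ∃ r : ℕ, r = ∑ ij, m ij := ⟨_, rfl⟩
  have hmr : ∀ ij, m ij ≤ r := fun ij => by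
    rw [hr]; exact Finset.single_le_sum (fun _ _ => Nat.zero_le _) (Finset.mem_univ ij)
  have hrelA : ∀ i j, algebraMap A (Ah A t) (t ^ r) *
      ((Y' * Y') i j - algebraMap A (Ah A t) (t ^ k) * Y' i j) = 0 := by
    intro i j
    rw [map_pow, map_pow, ← Nat.sub_add_cancel (hmr (i, j)), pow_add, mul_assoc]
    have := hm (i, j)
    simp only at this
    rw [this, mul_zero]
  -- the algebra map to the completion and its approximation
  obtain ⟨σ, hσ⟩ : ∃ σ : BI A t n k r →ₐ[A] Ah A t, σ = liftB Y' hrelA := ⟨_, rfl⟩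
  haveI : Algebra.Smooth (Localization.Away t)
      (Localization (Algebra.algebraMapSubmonoid (BI A t n k r) (Submonoid.powers t))) :=
    smooth_loc A t n k r _ _
  obtain ⟨τ, hτ⟩ := Groth.Agent.Lib.ElkikTH5.elkik_principal A t hbd (BI A t n k r)
    (Localization.Away t)
    (Localization (Algebra.algebraMapSubmonoid (BI A t n k r) (Submonoid.powers t)))
    (k + c) σ
  obtain ⟨y, hy⟩ : ∃ y : Matrix (Fin n) (Fin n) A, y = matOf τ := ⟨_, rfl⟩
  have hyrel : ∀ i j, t ^ r * ((y * y) i j - t ^ k * y i j) = 0 := by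
    intro i j
    have := matOf_rel τ i j
    rw [← hy] at this
    exact this
  -- the approximation
  have happ : ∀ i j, ∃ w : Ah A t,
      algebraMap A (Ah A t) (y i j) - Y' i j = th A t ^ (k + c) * w := by
    intro i j
    apply exists_eq_pow_mul
    have h1 := AlgHom.congr_fun hτ (Ideal.Quotient.mk (relIdeal A t n k r) (MvPolynomial.X (i, j)))
    rw [AlgHom.comp_apply, AlgHom.comp_apply, hσ, liftB_mk_X] at h1
    rw [map_sub, ← h1, hy]
    have h2 : AdicCompletion.evalₐ (Ideal.span {t}) (k + c)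
        (algebraMap A (Ah A t) (matOf τ i j)) =
        Ideal.Quotient.mk _ (matOf τ i j) := AdicCompletion.evalₐ_of _ _ _
    rw [h2]
    show _ - Ideal.Quotient.mk _ _ = 0
    rw [sub_eq_zero]
    rfl
  choose w hw using happ
  -- the idempotent matrix over `A[1/t]`
  have hθu : IsUnit (algebraMap A (Lt A t) t) := IsLocalization.Away.algebraMap_isUnit t
  obtain ⟨θi, hθi⟩ := hθu.exists_right_inv
  have hφθ : algebraMap (Lt A t) (Lh A t) (algebraMap A (Lt A t) t) = ι (th A t) := by
    rw [phi_algebraMap A t halg, hι]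
  have hτi : ι (th A t) * algebraMap (Lt A t) (Lh A t) θi = 1 := by
    rw [← hφθ, ← map_mul, hθi, map_one]
  have hpow : ∀ a : ℕ, ι (th A t) ^ a * algebraMap (Lt A t) (Lh A t) θi ^ a = 1 := fun a => by
    rw [← mul_pow, hτi, one_pow]
  have hθpow : ∀ a : ℕ, algebraMap A (Lt A t) t ^ a * θi ^ a = 1 := fun a => by
    rw [← mul_pow, hθi, one_pow]
  refine ⟨fun i j => θi ^ k * algebraMap A (Lt A t) (y i j), ?_, ?_⟩
  · ext i j
    rw [Matrix.mul_apply]
    have h1 : ∑ l, θi ^ k * algebraMap A (Lt A t) (y i l) *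
        (θi ^ k * algebraMap A (Lt A t) (y l j)) =
        θi ^ k * θi ^ k * algebraMap A (Lt A t) ((y * y) i j) := by
      rw [Matrix.mul_apply, map_sum, Finset.mul_sum]
      refine Finset.sum_congr rfl fun l _ => ?_
      rw [map_mul]; ring
    rw [h1]
    have h2 := congrArg (algebraMap A (Lt A t)) (hyrel i j)
    rw [map_mul, map_zero, map_pow] at h2
    have h3 := (hθu.pow r).mul_right_eq_zero.1 h2
    rw [map_sub, map_mul, map_pow, sub_eq_zero] at h3
    rw [h3]
    linear_combination (θi ^ k * algebraMap A (Lt A t) (y i j)) * hθpow k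
  · intro i j
    refine ⟨-(w i j), ?_⟩
    rw [utau_pow, ← hι, map_mul, map_pow, map_pow, phi_algebraMap A t halg, ← hι, map_neg]
    have h1 := congrArg ι (hw i j)
    rw [map_sub, map_mul, map_pow, hY', pow_add] at h1
    linear_combination (algebraMap (Lt A t) (Lh A t) θi ^ k) * h1
      + (E' i j + ι (th A t) ^ c * ι (w i j)) * hpow k

end Groth.Agent.Lib.IdemApxH5
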