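import Mathlib
import Groth.Agent.Lib.HenselPairOps_lead
import Groth.Agent.Lib.CompleteTwoIdeals_lead
import Groth.Agent.Lib.HensQuotCompl_helper5
import Groth.Agent.Lib.ComplIso_helper5
import Groth.Agent.Lib.IdemApx2_helper5

/-!
# Tools for the induction on generators in Elkik's approximation theorem (helper5)

* completeness for a smaller ideal (Noetherian case);
* transport of henselian pairs along ring isomorphisms; the `π`-adic completion of a ring henselian
  along `I ∋ π` is henselian along `I`;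
* `R → R₁ → Λ` with `R/Iⁿ ≃ Λ/IⁿΛ`, `I = I' + (π)`, `R₁` the `π`-adic completion of `R`:
  then `R₁/I'ⁿR₁ ≃ Λ/I'ⁿΛ`;
* the canonical map from the `π`-adic completion to a `π`-adically complete algebra.
-/

set_option autoImplicit false
universe u

open Polynomial

namespace Groth.Agent.Lib.ElkikG1H5


section Complete

variable {Λ : Type*} [CommRing Λ]

/-- a Noetherian ring complete for `I` is complete for every smaller ideal -/
theorem isAdicComplete_of_le [IsNoetherianRing Λ] {I J : Ideal Λ} (hJI : J ≤ I)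
    [IsAdicComplete I Λ] : IsAdicComplete J Λ := by
  have hIrad : I ≤ Ideal.jacobson ⊥ := IsAdicComplete.le_jacobson_bot I
  have hpow : ∀ n, (J ^ n • ⊤ : Submodule Λ Λ) ≤ I ^ n • ⊤ := fun n =>
    Submodule.smul_mono_left (Ideal.pow_right_mono hJI n)
  refine { haus' := ?_, prec' := ?_ }
  · intro x hx
    apply IsHausdorff.haus (inferInstance : IsHausdorff I Λ)
    intro n
    exact (hx n).mono (hpow n)
  · intro f hf
    obtain ⟨L, hL⟩ := IsPrecomplete.prec' (I := I) f (fun {m n} hmn => (hf hmn).mono (hpow m))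
    refine ⟨L, fun n => ?_⟩
    rw [SModEq.sub_mem, CompleteTwoIdealsLead.pow_smul_top]
    apply CompleteTwoIdealsLead.krull_mem hIrad
    intro m
    have h1 : f n - f (n + m) ∈ J ^ n := by
      have := hf (Nat.le_add_right n m)
      rwa [SModEq.sub_mem, CompleteTwoIdealsLead.pow_smul_top] at this
    have h2 : f (n + m) - L ∈ I ^ m := by
      have := hL (n + m)
      rw [SModEq.sub_mem, CompleteTwoIdealsLead.pow_smul_top] at this
      exact Ideal.pow_le_pow_right (Nat.le_add_left m n) this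
    have : f n - L = (f n - f (n + m)) + (f (n + m) - L) := by ring
    rw [this]
    exact Submodule.add_mem_sup h1 h2

end Complete

section Hens

variable {A B : Type*} [CommRing A] [CommRing B]

theorem henselian_of_ringEquiv (e : A ≃+* B) (I : Ideal A) (hI : HenselianRing A I) :
    HenselianRing B (I.map (e : A →+* B)) := by
  have hmem : ∀ b : B, b ∈ I.map (e : A →+* B) ↔ e.symm b ∈ I := by
    intro b
    rw [Ideal.mem_map_iff_of_surjective (e : A →+* B) e.surjective]
    constructor
    · rintro ⟨a, ha, rfl⟩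
      simpa using ha
    · intro h
      exact ⟨e.symm b, h, by simp⟩
  refine ⟨?_, ?_⟩
  · intro b hb
    rw [Ideal.mem_jacobson_bot]
    intro y
    have h1 := Ideal.mem_jacobson_bot.1 (hI.jac ((hmem b).1 hb)) (e.symm y)
    have h2 := h1.map (e : A →+* B)
    simpa using h2
  · intro f hf b₀ h₁ h₂
    have hfm : (f.map (e.symm : B →+* A)).Monic := hf.map _
    have e1 : (f.map (e.symm : B →+* A)).eval (e.symm b₀) = e.symm (f.eval b₀) := by
      rw [Polynomial.eval_map]
      exact Polynomial.eval₂_at_apply (e.symm : B →+* A) b₀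
    have e2 : (f.map (e.symm : B →+* A)).derivative.eval (e.symm b₀) =
        e.symm (f.derivative.eval b₀) := by
      rw [Polynomial.derivative_map, Polynomial.eval_map]
      exact Polynomial.eval₂_at_apply (e.symm : B →+* A) b₀
    have h₁' : (f.map (e.symm : B →+* A)).eval (e.symm b₀) ∈ I := by
      rw [e1]; exact (hmem _).1 h₁
    have h₂' : IsUnit (Ideal.Quotient.mk I
        ((f.map (e.symm : B →+* A)).derivative.eval (e.symm b₀))) := by
      rw [e2]
      obtain ⟨y, hy⟩ := (HenselPairOpsLead.isUnit_mk_iff _ _).1 h₂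
      refine (HenselPairOpsLead.isUnit_mk_iff _ _).2 ⟨e.symm y, ?_⟩
      have := (hmem _).1 hy
      simpa using this
    obtain ⟨a, ha, haI⟩ := hI.is_henselian _ hfm _ h₁' h₂'
    refine ⟨e a, ?_, ?_⟩
    · have h3 : (f.map (e.symm : B →+* A)).eval a = 0 := ha
      rw [Polynomial.eval_map] at h3
      have h4 : a = (e.symm : B →+* A) (e a) := by simp
      rw [h4, Polynomial.eval₂_at_apply] at h3
      show f.eval (e a) = 0
      apply e.symm.injective
      rw [map_zero]
      exact h3
    · rw [hmem]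
      simpa using haI

end Hens



section HensCompl

variable {R : Type u} [CommRing R]

/-- the `π`-adic completion of a ring henselian along `I ∋ π` is henselian along `I` -/
theorem henselian_completion (I : Ideal R) (hI : HenselianRing R I) (π : R) (hπ : π ∈ I) :
    HenselianRing (AdicCompletion (Ideal.span {π}) R)
      (I.map (algebraMap R (AdicCompletion (Ideal.span {π}) R))) := by
  have hfg : (Ideal.span {π} : Ideal R).FG := ⟨{π}, by simp⟩
  have hle : Ideal.span {π} ≤ I := (Ideal.span_singleton_le_iff_mem I).2 hπ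
  obtain ⟨K, hK⟩ : ∃ K : Ideal (AdicCompletion (Ideal.span {π}) R),
      K = (Ideal.span {π}).map (algebraMap R (AdicCompletion (Ideal.span {π}) R)) := ⟨_, rfl⟩
  haveI : IsAdicComplete K (AdicCompletion (Ideal.span {π}) R) := by
    rw [hK]; exact AdicCompletion.isAdicComplete_self _ hfg
  have hKh : HenselianRing (AdicCompletion (Ideal.span {π}) R) K := inferInstance
  have hKJ : K ≤ I.map (algebraMap R (AdicCompletion (Ideal.span {π}) R)) := by
    rw [hK]; exact Ideal.map_mono hle
  refine HenselPairOpsLead.henselian_of_quotient hKJ hKh ?_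
  -- the quotient
  have hker : RingHom.ker (AdicCompletion.evalOneₐ (Ideal.span {π})).toRingHom = K := by
    rw [hK]; exact AdicCompletion.ker_evalOneₐ_eq_map _ hfg
  let e₀ : (AdicCompletion (Ideal.span {π}) R ⧸
      RingHom.ker (AdicCompletion.evalOneₐ (Ideal.span {π})).toRingHom) ≃+* R ⧸ Ideal.span {π} :=
    RingHom.quotientKerEquivOfSurjective
      (f := (AdicCompletion.evalOneₐ (Ideal.span {π})).toRingHom)
      (AdicCompletion.evalOneₐ_surjective _)
  let e : (AdicCompletion (Ideal.span {π}) R ⧸ K) ≃+* R ⧸ Ideal.span {π} :=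
    (Ideal.quotEquivOfEq hker.symm).trans e₀
  have he : ∀ r : R, e (Ideal.Quotient.mk K (algebraMap R _ r)) =
      Ideal.Quotient.mk (Ideal.span {π}) r := by
    intro r
    show e₀ (Ideal.quotEquivOfEq hker.symm (Ideal.Quotient.mk K (algebraMap R _ r))) = _
    rw [Ideal.quotEquivOfEq_mk]
    show (AdicCompletion.evalOneₐ (Ideal.span {π})) (AdicCompletion.of _ R r) = _
    rw [AdicCompletion.evalOneₐ_of]
  have h1 := henselian_of_ringEquiv e.symm _ (HenselPairOpsLead.henselian_quotient hle hI)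
  have h2 : (I.map (Ideal.Quotient.mk (Ideal.span {π}))).map
      (e.symm : R ⧸ Ideal.span {π} →+* AdicCompletion (Ideal.span {π}) R ⧸ K) =
      (I.map (algebraMap R (AdicCompletion (Ideal.span {π}) R))).map (Ideal.Quotient.mk K) := by
    rw [Ideal.map_map, Ideal.map_map]
    congr 1
    ext r
    show e.symm (Ideal.Quotient.mk _ r) = Ideal.Quotient.mk K (algebraMap R _ r)
    rw [← he r, RingEquiv.symm_apply_apply]
  rw [h2] at h1
  exact h1

end HensCompl



section Transfer

variable {R R₁ Λ : Type*} [CommRing R] [CommRing R₁] [CommRing Λ] [Algebra R R₁] [Algebra R₁ Λ]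
  [Algebra R Λ] [IsScalarTower R R₁ Λ]

theorem map_map_pow (I' : Ideal R) (n : ℕ) :
    ((I'.map (algebraMap R R₁)) ^ n).map (algebraMap R₁ Λ) = (I' ^ n).map (algebraMap R Λ) := by
  rw [← Ideal.map_pow, Ideal.map_map, ← IsScalarTower.algebraMap_eq]

/-- surjectivity of the truncations of `R₁ → Λ` along `I'` -/
theorem transfer_surj (I' : Ideal R) (π : R)
    (hs : ∀ (n : ℕ) (x : Λ), ∃ r : R,
      x - algebraMap R Λ r ∈ ((I' ⊔ Ideal.span {π}) ^ n).map (algebraMap R Λ))
    [IsNoetherianRing Λ] (hπΛ : algebraMap R Λ π ∈ (⊥ : Ideal Λ).jacobson)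
    [IsPrecomplete (Ideal.span {algebraMap R R₁ π}) R₁]
    (n : ℕ) (x : Λ) :
    ∃ y : R₁, x - algebraMap R₁ Λ y ∈ ((I'.map (algebraMap R R₁)) ^ n).map (algebraMap R₁ Λ) := by
  rw [map_map_pow]
  obtain ⟨Q, hQ⟩ : ∃ Q : Ideal Λ, Q = (I' ^ n).map (algebraMap R Λ) := ⟨_, rfl⟩
  rw [← hQ]
  obtain ⟨f, hf⟩ : ∃ f : R₁ →+* Λ ⧸ Q, f = (Ideal.Quotient.mk Q).comp (algebraMap R₁ Λ) :=
    ⟨_, rfl⟩
  have hKf : (Ideal.span {algebraMap R R₁ π}).map f =
      Ideal.span {Ideal.Quotient.mk Q (algebraMap R Λ π)} := by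
    rw [Ideal.map_span, Set.image_singleton, hf, RingHom.comp_apply,
      ← IsScalarTower.algebraMap_apply]
  haveI : IsHausdorff ((Ideal.span {algebraMap R R₁ π}).map f) (Λ ⧸ Q) := by
    apply IsHausdorff.of_le_jacobson
    rw [hKf, Ideal.span_singleton_le_iff_mem]
    exact HenselPairOpsLead.map_mk_le_jacobson Q _ (le_refl _)
      (Ideal.mem_map_of_mem _ hπΛ)
  have hsurj : Function.Surjective f := by
    apply surjective_of_mk_map_comp_surjective (I := Ideal.span {algebraMap R R₁ π})
    intro z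
    obtain ⟨z', rfl⟩ := Ideal.Quotient.mk_surjective z
    obtain ⟨x', rfl⟩ := Ideal.Quotient.mk_surjective z'
    obtain ⟨r, hr⟩ := hs (n + 1) x'
    refine ⟨algebraMap R R₁ r, ?_⟩
    have hfr : f (algebraMap R R₁ r) = Ideal.Quotient.mk Q (algebraMap R Λ r) := by
      rw [hf, RingHom.comp_apply, ← IsScalarTower.algebraMap_apply]
    rw [RingHom.comp_apply, hfr, eq_comm, Ideal.Quotient.eq, hKf, ← map_sub]
    have h1 : ((I' ⊔ Ideal.span {π}) ^ (n + 1)).map (algebraMap R Λ) ≤
        Q ⊔ Ideal.span {algebraMap R Λ π} := by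
      rw [hQ]
      refine (Ideal.map_mono Ideal.sup_pow_add_le_pow_sup_pow).trans ?_
      rw [Ideal.map_sup, pow_one, Ideal.map_span, Set.image_singleton]
    obtain ⟨q, hq, w, hw, hqw⟩ := Submodule.mem_sup.1 (h1 hr)
    obtain ⟨w', rfl⟩ := Ideal.mem_span_singleton'.1 hw
    rw [← hqw, map_add, Ideal.Quotient.eq_zero_iff_mem.2 hq, zero_add, map_mul]
    exact Ideal.mul_mem_left _ _ (Ideal.mem_span_singleton_self _)
  obtain ⟨y, hy⟩ := hsurj (Ideal.Quotient.mk Q x)
  refine ⟨y, ?_⟩
  rw [hf, RingHom.comp_apply, eq_comm, Ideal.Quotient.eq] at hy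
  exact hy

/-- injectivity of the truncations of `R₁ → Λ` along `I'` -/
theorem transfer_inj (I' : Ideal R) (π : R)
    (hs : ∀ (n : ℕ) (x : Λ), ∃ r : R,
      x - algebraMap R Λ r ∈ ((I' ⊔ Ideal.span {π}) ^ n).map (algebraMap R Λ))
    (hi : ∀ (n : ℕ) (r : R), algebraMap R Λ r ∈ ((I' ⊔ Ideal.span {π}) ^ n).map (algebraMap R Λ) →
      r ∈ (I' ⊔ Ideal.span {π}) ^ n)
    [IsNoetherianRing R₁] (hπ₁ : algebraMap R R₁ π ∈ (⊥ : Ideal R₁).jacobson)
    (hdense : ∀ (k : ℕ) (y : R₁), ∃ (r : R) (z : R₁),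
      y = algebraMap R R₁ r + algebraMap R R₁ π ^ k * z)
    (n : ℕ) (y : R₁)
    (hy : algebraMap R₁ Λ y ∈ ((I'.map (algebraMap R R₁)) ^ n).map (algebraMap R₁ Λ)) :
    y ∈ (I'.map (algebraMap R R₁)) ^ n := by
  rw [map_map_pow] at hy
  have hK : Ideal.span {algebraMap R R₁ π} ≤ (⊥ : Ideal R₁).jacobson :=
    (Ideal.span_singleton_le_iff_mem _).2 hπ₁
  apply CompleteTwoIdealsLead.krull_mem hK
  intro k
  obtain ⟨r, z, rfl⟩ := hdense k y
  have h1 : algebraMap R Λ r ∈ (I' ^ n ⊔ Ideal.span {π} ^ k).map (algebraMap R Λ) := by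
    rw [Ideal.map_sup, Ideal.span_singleton_pow, Ideal.map_span, Set.image_singleton]
    have h2 : algebraMap R Λ r = algebraMap R₁ Λ (algebraMap R R₁ r + algebraMap R R₁ π ^ k * z) +
        algebraMap R Λ (π ^ k) * (-algebraMap R₁ Λ z) := by
      rw [map_add, map_mul, map_pow, ← IsScalarTower.algebraMap_apply,
        ← IsScalarTower.algebraMap_apply, map_pow]
      ring
    rw [h2]
    exact Submodule.add_mem_sup hy (Ideal.mul_mem_right _ _ (Ideal.mem_span_singleton_self _))
  have h3 : r ∈ I' ^ n ⊔ Ideal.span {π} ^ k :=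
    HensQuotComplH5.mem_of_map_mem ((I' ⊔ Ideal.span {π}) ^ (n + k)) _
      Ideal.sup_pow_add_le_pow_sup_pow (hs (n + k)) (hi (n + k)) r h1
  have h4 : algebraMap R R₁ r ∈ (I'.map (algebraMap R R₁)) ^ n ⊔
      Ideal.span {algebraMap R R₁ π} ^ k := by
    have := Ideal.mem_map_of_mem (algebraMap R R₁) h3
    rwa [Ideal.map_sup, Ideal.map_pow, Ideal.map_pow, Ideal.map_span, Set.image_singleton] at this
  refine Ideal.add_mem _ h4 (Ideal.mem_sup_right ?_)
  rw [Ideal.span_singleton_pow]
  exact Ideal.mul_mem_right _ _ (Ideal.mem_span_singleton_self _)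

end Transfer



section Ell

variable {R Λ : Type*} [CommRing R] [CommRing Λ] [Algebra R Λ]

/-- the canonical map from the `π`-adic completion to a `π`-adically complete algebra -/
theorem exists_ell (π : R) [IsAdicComplete (Ideal.span {algebraMap R Λ π}) Λ] :
    ∃ ℓ : AdicCompletion (Ideal.span {π}) R →+* Λ,
      ℓ.comp (algebraMap R (AdicCompletion (Ideal.span {π}) R)) = algebraMap R Λ := by
  have h : (Ideal.span {π}).map (Algebra.ofId R Λ) ≤ Ideal.span {algebraMap R Λ π} := by
    rw [Ideal.map_span, Set.image_singleton]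
    exact le_of_eq rfl
  refine ⟨((AdicCompletion.ofAlgEquiv (Ideal.span {algebraMap R Λ π})).symm :
      AdicCompletion (Ideal.span {algebraMap R Λ π}) Λ →+* Λ).comp
    (ComplIsoH5.complMap (Algebra.ofId R Λ) (Ideal.span {π}) (Ideal.span {algebraMap R Λ π}) h :
      AdicCompletion (Ideal.span {π}) R →+* AdicCompletion (Ideal.span {algebraMap R Λ π}) Λ), ?_⟩
  ext r
  show (AdicCompletion.ofAlgEquiv (Ideal.span {algebraMap R Λ π})).symm
    (ComplIsoH5.complMap (Algebra.ofId R Λ) (Ideal.span {π}) (Ideal.span {algebraMap R Λ π}) h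
      (AdicCompletion.of _ R r)) = algebraMap R Λ r
  rw [ComplIsoH5.complMap_of, AdicCompletion.ofAlgEquiv_symm_of]
  rfl

end Ell

section Dense

variable (R : Type u) [CommRing R] (π : R)

theorem dense_completion (k : ℕ) (y : AdicCompletion (Ideal.span {π}) R) :
    ∃ (r : R) (z : AdicCompletion (Ideal.span {π}) R),
      y = algebraMap R _ r + algebraMap R (AdicCompletion (Ideal.span {π}) R) π ^ k * z := by
  obtain ⟨r, hr⟩ := Ideal.Quotient.mk_surjective (AdicCompletion.evalₐ (Ideal.span {π}) k y)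
  have h1 : AdicCompletion.evalₐ (Ideal.span {π}) k (y - algebraMap R _ r) = 0 := by
    rw [map_sub, ← hr]
    have : AdicCompletion.evalₐ (Ideal.span {π}) k (algebraMap R _ r) =
        Ideal.Quotient.mk _ r := AdicCompletion.evalₐ_of _ _ _
    rw [this, sub_self]
  obtain ⟨w, hw⟩ := IdemApxH5.exists_eq_pow_mul R π k _ h1
  exact ⟨r, w, by rw [← hw]; ring⟩

theorem pi_mem_jacobson :
    algebraMap R (AdicCompletion (Ideal.span {π}) R) π ∈
      (⊥ : Ideal (AdicCompletion (Ideal.span {π}) R)).jacobson := by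
  have hfg : (Ideal.span {π} : Ideal R).FG := ⟨{π}, by simp⟩
  haveI := AdicCompletion.isAdicComplete_self (Ideal.span {π}) hfg
  exact IsAdicComplete.le_jacobson_bot _
    (Ideal.mem_map_of_mem _ (Ideal.mem_span_singleton_self π))

theorem isAdicComplete_completion :
    IsAdicComplete (Ideal.span {algebraMap R (AdicCompletion (Ideal.span {π}) R) π})
      (AdicCompletion (Ideal.span {π}) R) := by
  have hfg : (Ideal.span {π} : Ideal R).FG := ⟨{π}, by simp⟩
  have := AdicCompletion.isAdicComplete_self (Ideal.span {π}) hfg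
  rwa [Ideal.map_span, Set.image_singleton] at this

/-- bounded torsion in a Noetherian ring -/
theorem bounded_torsion [IsNoetherianRing R] :
    ∃ N : ℕ, ∀ a : R, (∃ m : ℕ, π ^ m * a = 0) → π ^ N * a = 0 := by
  have hmem : ∀ (m : ℕ) (a : R), a ∈ (Ideal.span {π ^ m} : Ideal R).annihilator ↔ π ^ m * a = 0 := by
    intro m a
    rw [Submodule.mem_annihilator_span_singleton, smul_eq_mul, mul_comm]
  let f : ℕ →o Ideal R :=
    ⟨fun m => (Ideal.span {π ^ m} : Ideal R).annihilator, fun m n hmn a ha => by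
      rw [hmem] at ha ⊢
      rw [← Nat.sub_add_cancel hmn, pow_add, mul_assoc, ha, mul_zero]⟩
  obtain ⟨N, hN⟩ := monotone_stabilizes_iff_noetherian.2 (inferInstance : IsNoetherian R R) f
  refine ⟨N, fun a ⟨m, hm⟩ => ?_⟩
  rw [← hmem]
  rcases le_total N m with h | h
  · show a ∈ f N
    rw [hN m h]
    exact (hmem m a).2 hm
  · exact f.monotone h ((hmem m a).2 hm)

end Dense

end Groth.Agent.Lib.ElkikG1H5
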