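import Mathlib
import Groth.Agent.Lib.ElkikG1_helper5
import Groth.Agent.Lib.ElkikT2_helper5
import Groth.Agent.S0543

/-!
# Elkik's approximation theorem for Noetherian henselian pairs (helper5)

`(R, I)` a Noetherian henselian pair, `I = (s₁, …, s_k)`, `Λ` an `R`-algebra which looks like the
`I`-adic completion of `R` (`IsComplOf`), `C` a finite type `R`-algebra smooth over each `D(s_i)`.
Then every `R`-algebra map `C → Λ` is congruent modulo `I^M Λ` to an `R`-algebra map `C → R`.

Proof by induction on `k`, from the principal case (`ElkikTH5.elkik_principal`) applied to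
`(R, s_k)` and the induction hypothesis applied to the `s_k`-adic completion of `R`.
-/

set_option autoImplicit false
set_option maxHeartbeats 1000000
universe u

open TensorProduct

namespace Groth.Agent.Lib.ElkikG2H5

open Groth.Agent.Lib.ElkikG1H5

/-- `Λ` looks like the `I`-adic completion of `R` -/
structure IsComplOf (R : Type u) [CommRing R] (I : Ideal R) (Λ : Type u) [CommRing Λ]
    [Algebra R Λ] : Prop where
  noeth : IsNoetherianRing Λ
  complete : IsAdicComplete (I.map (algebraMap R Λ)) Λ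
  surj : ∀ (n : ℕ) (x : Λ), ∃ r : R, x - algebraMap R Λ r ∈ (I ^ n).map (algebraMap R Λ)
  inj : ∀ (n : ℕ) (r : R), algebraMap R Λ r ∈ (I ^ n).map (algebraMap R Λ) → r ∈ I ^ n

theorem span_range_succ {R : Type*} [CommRing R] {k : ℕ} (s : Fin (k + 1) → R) :
    Ideal.span (Set.range s) =
      Ideal.span (Set.range fun i : Fin k => s (Fin.castSucc i)) ⊔ Ideal.span {s (Fin.last k)} := by
  rw [← Ideal.span_union]
  congr 1
  ext x
  simp only [Set.mem_range, Set.mem_union, Set.mem_singleton_iff]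
  constructor
  · rintro ⟨i, rfl⟩
    refine Fin.lastCases ?_ (fun j => ?_) i
    · right; rfl
    · left; exact ⟨j, rfl⟩
  · rintro (⟨j, rfl⟩ | rfl)
    · exact ⟨_, rfl⟩
    · exact ⟨_, rfl⟩


section Smooth

variable {R C : Type u} [CommRing R] [CommRing C] [Algebra R C] [Algebra.FinitePresentation R C]

theorem smooth_loc_of_basicOpen (π : R)
    (h : (PrimeSpectrum.basicOpen (algebraMap R C π) : Set (PrimeSpectrum C)) ⊆
      Algebra.smoothLocus R C)
    (Rₛ : Type u) [CommRing Rₛ] [Algebra R Rₛ] [IsLocalization.Away π Rₛ]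
    (Bₛ : Type u) [CommRing Bₛ] [Algebra C Bₛ] [Algebra R Bₛ] [Algebra Rₛ Bₛ]
    [IsScalarTower R C Bₛ] [IsScalarTower R Rₛ Bₛ]
    [hloc' : IsLocalization (Algebra.algebraMapSubmonoid C (Submonoid.powers π)) Bₛ] :
    Algebra.Smooth Rₛ Bₛ := by
  haveI hloc : IsLocalization ((Submonoid.powers π).map (algebraMap R C)) Bₛ := hloc'
  haveI : IsLocalization.Away (algebraMap R C π) Bₛ := by
    have := hloc
    rwa [Submonoid.map_powers] at this
  haveI h1 : Algebra.FormallySmooth R (Localization.Away (algebraMap R C π)) :=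
    Algebra.basicOpen_subset_smoothLocus_iff.1 h
  haveI : Algebra.FormallySmooth R Bₛ :=
    Algebra.FormallySmooth.of_equiv
      ((IsLocalization.algEquiv (Submonoid.powers (algebraMap R C π))
        (Localization.Away (algebraMap R C π)) Bₛ).restrictScalars R)
  refine ⟨Algebra.FormallySmooth.localization_base (R := R) (Submonoid.powers π), ?_⟩
  haveI : Algebra.FinitePresentation C Bₛ :=
    IsLocalization.Away.finitePresentation (algebraMap R C π)
  haveI : Algebra.FinitePresentation R Bₛ := Algebra.FinitePresentation.trans R C Bₛ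
  haveI : Algebra.FinitePresentation R Rₛ := IsLocalization.Away.finitePresentation π
  exact Algebra.FinitePresentation.of_restrict_scalars_finitePresentation (R := R) (A := Rₛ)
    (B := Bₛ)

theorem basicOpen_subset_smoothLocus_baseChange (R₁ : Type u) [CommRing R₁] [Algebra R R₁] (a : R)
    (h : (PrimeSpectrum.basicOpen (algebraMap R C a) : Set (PrimeSpectrum C)) ⊆
      Algebra.smoothLocus R C) :
    (PrimeSpectrum.basicOpen (algebraMap R₁ (R₁ ⊗[R] C) (algebraMap R R₁ a)) :
      Set (PrimeSpectrum (R₁ ⊗[R] C))) ⊆ Algebra.smoothLocus R₁ (R₁ ⊗[R] C) := by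
  have e1 : algebraMap R₁ (R₁ ⊗[R] C) (algebraMap R R₁ a) = (1 : R₁) ⊗ₜ[R] (algebraMap R C a) := by
    rw [Algebra.TensorProduct.algebraMap_apply, Algebra.algebraMap_self_apply,
      Algebra.algebraMap_eq_smul_one a, Algebra.algebraMap_eq_smul_one (A := C) a,
      TensorProduct.smul_tmul]
  rw [e1, Algebra.basicOpen_subset_smoothLocus_iff]
  haveI h1 : Algebra.FormallySmooth R (Localization.Away (algebraMap R C a)) :=
    Algebra.basicOpen_subset_smoothLocus_iff.1 h
  exact Algebra.FormallySmooth.of_equiv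
    (IsLocalization.Away.tensorProductEquivTMulRight R R₁ (algebraMap R C a)
      (Localization.Away (algebraMap R C a)))

end Smooth


/-- the base case: `I = 0` -/
theorem elkik_zero (R : Type u) [CommRing R] (Λ : Type u) [CommRing Λ] [Algebra R Λ]
    (hΛ : IsComplOf R ⊥ Λ) (C : Type u) [CommRing C] [Algebra R C] (φ : C →ₐ[R] Λ) :
    ∃ τ : C →ₐ[R] R, ∀ c, algebraMap R Λ (τ c) = φ c := by
  have hbij : Function.Bijective (algebraMap R Λ) := by
    constructor
    · rw [injective_iff_map_eq_zero]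
      intro r hr
      have := hΛ.inj 1 r (by rw [hr]; exact Ideal.zero_mem _)
      rwa [pow_one, Ideal.mem_bot] at this
    · intro x
      obtain ⟨r, hr⟩ := hΛ.surj 1 x
      rw [pow_one, Ideal.map_bot, Ideal.mem_bot, sub_eq_zero] at hr
      exact ⟨r, hr.symm⟩
  let e : R ≃+* Λ := RingEquiv.ofBijective (algebraMap R Λ) hbij
  have he : ∀ r, e r = algebraMap R Λ r := fun r => rfl
  refine ⟨{ (e.symm : Λ →+* R).comp φ.toRingHom with
    commutes' := fun r => by
      show e.symm (φ (algebraMap R C r)) = r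
      rw [φ.commutes, ← he, RingEquiv.symm_apply_apply] }, fun c => ?_⟩
  show algebraMap R Λ (e.symm (φ c)) = φ c
  rw [← he, RingEquiv.apply_symm_apply]

/-- the statement of Elkik's approximation theorem for ideals with `k` generators -/
def ElkikStatement (k : ℕ) : Prop :=
  ∀ (R : Type u) [CommRing R] [IsNoetherianRing R] (s : Fin k → R)
    (_ : HenselianRing R (Ideal.span (Set.range s)))
    (Λ : Type u) [CommRing Λ] [Algebra R Λ] (_ : IsComplOf R (Ideal.span (Set.range s)) Λ)
    (C : Type u) [CommRing C] [Algebra R C] [Algebra.FiniteType R C]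
    (_ : ∀ i, (PrimeSpectrum.basicOpen (algebraMap R C (s i)) : Set (PrimeSpectrum C)) ⊆
      Algebra.smoothLocus R C)
    (φ : C →ₐ[R] Λ) (M : ℕ),
    ∃ τ : C →ₐ[R] R, ∀ c, algebraMap R Λ (τ c) - φ c ∈
      ((Ideal.span (Set.range s)) ^ M).map (algebraMap R Λ)

theorem elkik_base : ElkikStatement.{u} 0 := by
  intro R _ _ s hI Λ _ _ hΛ C _ _ _ hsm φ M
  have h0 : Ideal.span (Set.range s) = ⊥ := by
    rw [Ideal.span_eq_bot]
    rintro x ⟨i, rfl⟩
    exact i.elim0
  rw [h0] at hΛ
  obtain ⟨τ, hτ⟩ := elkik_zero R Λ hΛ C φ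
  exact ⟨τ, fun c => by rw [hτ, sub_self]; exact Ideal.zero_mem _⟩

theorem elkik_step (k : ℕ) (IH : ElkikStatement.{u} k) : ElkikStatement.{u} (k + 1) := by
  intro R _ _ s hI Λ _ _ hΛ C _ _ _ hsm φ M
  classical
  haveI := hΛ.noeth
  haveI : Algebra.FinitePresentation R C := Algebra.FinitePresentation.of_finiteType.1 inferInstance
  obtain ⟨π, hπdef⟩ : ∃ π : R, π = s (Fin.last k) := ⟨_, rfl⟩
  obtain ⟨I', hI'def⟩ : ∃ I' : Ideal R,
      I' = Ideal.span (Set.range fun i : Fin k => s (Fin.castSucc i)) := ⟨_, rfl⟩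
  obtain ⟨I, hIdef⟩ : ∃ I : Ideal R, I = Ideal.span (Set.range s) := ⟨_, rfl⟩
  have hsup : I = I' ⊔ Ideal.span {π} := by
    rw [hIdef, hI'def, hπdef]; exact span_range_succ s
  rw [← hIdef] at hI hΛ ⊢
  haveI := hΛ.complete
  have hπI : π ∈ I := by
    rw [hsup]; exact Ideal.mem_sup_right (Ideal.mem_span_singleton_self π)
  have hI'I : I' ≤ I := by rw [hsup]; exact le_sup_left
  -- the `π`-adic completion
  haveI : IsNoetherianRing (AdicCompletion (Ideal.span {π}) R) :=
    Groth.Agent.S0543.result R (Ideal.span {π})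
  obtain ⟨s₁, hs₁⟩ : ∃ s₁ : Fin k → AdicCompletion (Ideal.span {π}) R,
      s₁ = fun i => algebraMap R _ (s (Fin.castSucc i)) := ⟨_, rfl⟩
  have hspan₁ : Ideal.span (Set.range s₁) =
      I'.map (algebraMap R (AdicCompletion (Ideal.span {π}) R)) := by
    rw [hI'def, Ideal.map_span, hs₁, ← Set.range_comp]
    rfl
  have hI₁ : HenselianRing (AdicCompletion (Ideal.span {π}) R) (Ideal.span (Set.range s₁)) := by
    rw [hspan₁]
    exact HenselPairOpsLead.henselian_of_le (Ideal.map_mono hI'I)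
      (henselian_completion I hI π hπI)
  -- the map to `Λ`
  have hπΛ : algebraMap R Λ π ∈ (⊥ : Ideal Λ).jacobson :=
    IsAdicComplete.le_jacobson_bot (I.map (algebraMap R Λ)) (Ideal.mem_map_of_mem _ hπI)
  haveI : IsAdicComplete (Ideal.span {algebraMap R Λ π}) Λ :=
    isAdicComplete_of_le (I := I.map (algebraMap R Λ))
      ((Ideal.span_singleton_le_iff_mem _).2 (Ideal.mem_map_of_mem _ hπI))
  obtain ⟨ℓ, hℓ⟩ := exists_ell (Λ := Λ) π
  letI : Algebra (AdicCompletion (Ideal.span {π}) R) Λ := ℓ.toAlgebra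
  haveI : IsScalarTower R (AdicCompletion (Ideal.span {π}) R) Λ :=
    IsScalarTower.of_algebraMap_eq fun r => (RingHom.congr_fun hℓ r).symm
  have hsurjI : ∀ (n : ℕ) (x : Λ), ∃ r : R,
      x - algebraMap R Λ r ∈ ((I' ⊔ Ideal.span {π}) ^ n).map (algebraMap R Λ) := by
    rw [← hsup]; exact hΛ.surj
  have hinjI : ∀ (n : ℕ) (r : R),
      algebraMap R Λ r ∈ ((I' ⊔ Ideal.span {π}) ^ n).map (algebraMap R Λ) →
        r ∈ (I' ⊔ Ideal.span {π}) ^ n := by
    rw [← hsup]; exact hΛ.inj
  haveI : IsPrecomplete (Ideal.span {algebraMap R (AdicCompletion (Ideal.span {π}) R) π})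
      (AdicCompletion (Ideal.span {π}) R) :=
    (isAdicComplete_completion R π).toIsPrecomplete
  have hΛ₁ : IsComplOf (AdicCompletion (Ideal.span {π}) R) (Ideal.span (Set.range s₁)) Λ := by
    rw [hspan₁]
    refine ⟨inferInstance, ?_, ?_, ?_⟩
    · have hle : (I'.map (algebraMap R (AdicCompletion (Ideal.span {π}) R))).map
          (algebraMap (AdicCompletion (Ideal.span {π}) R) Λ) ≤ I.map (algebraMap R Λ) := by
        rw [Ideal.map_map, ← IsScalarTower.algebraMap_eq]
        exact Ideal.map_mono hI'I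
      exact isAdicComplete_of_le hle
    · exact transfer_surj I' π hsurjI hπΛ
    · exact transfer_inj I' π hsurjI hinjI (pi_mem_jacobson R π) (dense_completion R π)
  -- the base change of `C`
  have hsm₁ : ∀ i, (PrimeSpectrum.basicOpen
      (algebraMap (AdicCompletion (Ideal.span {π}) R) (AdicCompletion (Ideal.span {π}) R ⊗[R] C)
        (s₁ i)) : Set (PrimeSpectrum (AdicCompletion (Ideal.span {π}) R ⊗[R] C))) ⊆
      Algebra.smoothLocus (AdicCompletion (Ideal.span {π}) R)
        (AdicCompletion (Ideal.span {π}) R ⊗[R] C) := by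
    intro i
    rw [hs₁]
    exact basicOpen_subset_smoothLocus_baseChange _ _ (hsm (Fin.castSucc i))
  let φ₁ : AdicCompletion (Ideal.span {π}) R ⊗[R] C →ₐ[AdicCompletion (Ideal.span {π}) R] Λ :=
    Algebra.TensorProduct.lift (Algebra.ofId _ Λ) φ (fun _ _ => Commute.all _ _)
  obtain ⟨τ₁, hτ₁⟩ := IH (AdicCompletion (Ideal.span {π}) R) s₁ hI₁ Λ hΛ₁
    (AdicCompletion (Ideal.span {π}) R ⊗[R] C) hsm₁ φ₁ M
  -- the principal case
  let σ : C →ₐ[R] AdicCompletion (Ideal.span {π}) R :=
    (τ₁.restrictScalars R).comp Algebra.TensorProduct.includeRight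
  haveI : HenselianRing R (Ideal.span {π}) :=
    HenselPairOpsLead.henselian_of_le ((Ideal.span_singleton_le_iff_mem _).2 hπI) hI
  haveI : Algebra.Smooth (Localization.Away π)
      (Localization (Algebra.algebraMapSubmonoid C (Submonoid.powers π))) :=
    smooth_loc_of_basicOpen π (hπdef ▸ hsm (Fin.last k)) _ _
  obtain ⟨τ, hτ⟩ := Groth.Agent.Lib.ElkikTH5.elkik_principal R π (bounded_torsion R π) C
    (Localization.Away π) (Localization (Algebra.algebraMapSubmonoid C (Submonoid.powers π)))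
    M σ
  refine ⟨τ, fun c => ?_⟩
  -- `τ c - σ c ∈ π^M R₁`
  have h1 : AdicCompletion.evalₐ (Ideal.span {π}) M
      (algebraMap R (AdicCompletion (Ideal.span {π}) R) (τ c) - σ c) = 0 := by
    have h2 := AlgHom.congr_fun hτ c
    rw [AlgHom.comp_apply, AlgHom.comp_apply] at h2
    rw [map_sub, ← h2]
    have : AdicCompletion.evalₐ (Ideal.span {π}) M (algebraMap R _ (τ c)) =
        Ideal.Quotient.mk _ (τ c) := AdicCompletion.evalₐ_of _ _ _
    rw [this]
    exact sub_self _
  obtain ⟨w, hw⟩ := IdemApxH5.exists_eq_pow_mul R π M _ h1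
  have h3 : algebraMap R Λ (τ c) - φ c =
      algebraMap (AdicCompletion (Ideal.span {π}) R) Λ
        (algebraMap R (AdicCompletion (Ideal.span {π}) R) (τ c) - σ c) +
      (algebraMap (AdicCompletion (Ideal.span {π}) R) Λ (τ₁ ((1 : _) ⊗ₜ[R] c)) -
        φ₁ ((1 : _) ⊗ₜ[R] c)) := by
    have e1 : φ₁ ((1 : AdicCompletion (Ideal.span {π}) R) ⊗ₜ[R] c) = φ c := by
      show Algebra.TensorProduct.lift (Algebra.ofId _ Λ) φ (fun _ _ => Commute.all _ _)
        ((1 : AdicCompletion (Ideal.span {π}) R) ⊗ₜ[R] c) = φ c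
      rw [Algebra.TensorProduct.lift_tmul, map_one, one_mul]
    have e2 : σ c = τ₁ ((1 : AdicCompletion (Ideal.span {π}) R) ⊗ₜ[R] c) := rfl
    rw [e1, map_sub, ← IsScalarTower.algebraMap_apply, e2]
    ring
  rw [h3]
  refine Ideal.add_mem _ ?_ ?_
  · rw [hw]
    show algebraMap (AdicCompletion (Ideal.span {π}) R) Λ
      (algebraMap R (AdicCompletion (Ideal.span {π}) R) π ^ M * w) ∈ _
    rw [map_mul, map_pow, ← IsScalarTower.algebraMap_apply, ← map_pow]
    exact Ideal.mul_mem_right _ _ (Ideal.mem_map_of_mem _ (Ideal.pow_mem_pow hπI M))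
  · have h5 := hτ₁ ((1 : AdicCompletion (Ideal.span {π}) R) ⊗ₜ[R] c)
    rw [hspan₁, map_map_pow] at h5
    exact Ideal.map_mono (Ideal.pow_right_mono hI'I M) h5

theorem elkik_general (k : ℕ) : ElkikStatement.{u} k := by
  induction k with
  | zero => exact elkik_base
  | succ k ih => exact elkik_step k ih

end Groth.Agent.Lib.ElkikG2H5
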