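import Mathlib

/-!
# Maps out of an algebra unramified outside `V(I)` are determined by a high truncation (helper5)

`B` a finite type `A`-algebra with `B_a` formally unramified over `A` for all `a ∈ I` (`I` finitely
generated), `S` a Noetherian `A`-algebra with `IS ⊆ rad S`.  Then there is `M₀` such that two
`A`-algebra maps `B → S` congruent modulo `I^M₀ S` are equal (`unram_unique`).
-/

set_option autoImplicit false
universe u
open TensorProduct

namespace Groth.Agent.Lib.UnramUniqueH5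

section Kaehler

variable {A B : Type u} [CommRing A] [CommRing B] [Algebra A B]

/-- if `Ω[B/A]` is killed by `f ^ m`, then `(f^m ⊗ 1) J ⊆ J²` on the generators of the diagonal
ideal `J` -/
theorem mul_mem_sq_of_smul_eq_zero (f : B) (m : ℕ) (s : B)
    (h : f ^ m • KaehlerDifferential.D A B s = 0) :
    ((f ^ m) ⊗ₜ[A] (1 : B)) * ((1 : B) ⊗ₜ[A] s - s ⊗ₜ[A] (1 : B)) ∈
      KaehlerDifferential.ideal A B ^ 2 := by
  rw [KaehlerDifferential.D_apply] at h
  have h1 : f ^ m • (KaehlerDifferential.ideal A B).toCotangent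
      ⟨1 ⊗ₜ[A] s - s ⊗ₜ[A] 1, KaehlerDifferential.one_smul_sub_smul_one_mem_ideal A s⟩ =
      (KaehlerDifferential.ideal A B).toCotangent
        (((f ^ m) ⊗ₜ[A] (1 : B)) •
          ⟨1 ⊗ₜ[A] s - s ⊗ₜ[A] 1, KaehlerDifferential.one_smul_sub_smul_one_mem_ideal A s⟩) := by
    rw [map_smul]
    rw [← algebraMap_smul (B ⊗[A] B) (f ^ m)]
    rfl
  have h2 := h1.symm.trans h
  exact (Ideal.toCotangent_eq_zero (KaehlerDifferential.ideal A B) _).1 h2

/-- a finitely generated module whose localization at `f` vanishes is killed by a power of `f` -/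
theorem exists_pow_smul_eq_zero {M M' : Type*} [AddCommGroup M] [Module B M] [Module.Finite B M]
    [AddCommGroup M'] [Module B M'] (g : M →ₗ[B] M') (f : B)
    [IsLocalizedModule (Submonoid.powers f) g] [Subsingleton M'] :
    ∃ m : ℕ, ∀ ω : M, f ^ m • ω = 0 := by
  classical
  obtain ⟨n, v, hv⟩ := Module.Finite.exists_fin (R := B) (M := M)
  have h1 : ∀ j : Fin n, ∃ m : ℕ, f ^ m • v j = 0 := by
    intro j
    have h0 : g (v j) = 0 := Subsingleton.elim _ _
    obtain ⟨⟨_, m, rfl⟩, hm⟩ := (IsLocalizedModule.eq_zero_iff (Submonoid.powers f) g).1 h0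
    exact ⟨m, hm⟩
  choose m hm using h1
  refine ⟨∑ j, m j, fun ω => ?_⟩
  have hω : ω ∈ Submodule.span B (Set.range v) := by rw [hv]; trivial
  induction hω using Submodule.span_induction with
  | mem x hx =>
    obtain ⟨j, rfl⟩ := hx
    have hle : m j ≤ ∑ j, m j := Finset.single_le_sum (fun _ _ => Nat.zero_le _) (Finset.mem_univ j)
    rw [← Nat.sub_add_cancel hle, pow_add, mul_smul, hm j, smul_zero]
  | zero => rw [smul_zero]
  | add x y _ _ hx hy => rw [smul_add, hx, hy, add_zero]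
  | smul c x _ hx => rw [smul_comm, hx, smul_zero]

theorem exists_pow_kill_kaehler [Algebra.FiniteType A B] (f : B)
    [Algebra.FormallyUnramified A (Localization.Away f)] :
    ∃ m : ℕ, ∀ ω : Ω[B⁄A], f ^ m • ω = 0 := by
  haveI : Subsingleton (Ω[Localization.Away f⁄A]) :=
    Algebra.FormallyUnramified.subsingleton_kaehlerDifferential
  exact exists_pow_smul_eq_zero (KaehlerDifferential.map A A B (Localization.Away f)) f

end Kaehler

section Diff

variable {A B S : Type u} [CommRing A] [CommRing B] [Algebra A B] [CommRing S] [Algebra A S]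

/-- the ideal generated by the differences of two algebra maps -/
def diffIdeal (τ τ' : B →ₐ[A] S) : Ideal S := Ideal.span (Set.range fun b => τ b - τ' b)

theorem map_ideal_le (τ τ' : B →ₐ[A] S) :
    (KaehlerDifferential.ideal A B).map
      (Algebra.TensorProduct.lift τ τ' (fun _ _ => Commute.all _ _)) ≤ diffIdeal τ τ' := by
  rw [← KaehlerDifferential.span_range_eq_ideal, Ideal.map_span, Ideal.span_le]
  rintro _ ⟨_, ⟨s, rfl⟩, rfl⟩
  show Algebra.TensorProduct.lift τ τ' (fun _ _ => Commute.all _ _) _ ∈ diffIdeal τ τ'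
  rw [map_sub, Algebra.TensorProduct.lift_tmul, Algebra.TensorProduct.lift_tmul, map_one, map_one,
    one_mul, mul_one]
  have : τ' s - τ s = -(τ s - τ' s) := by ring
  rw [this]
  exact (Ideal.neg_mem_iff _).2 (Ideal.subset_span ⟨s, rfl⟩)

theorem mul_sub_mem_sq (f : B) (h : ∀ ω : Ω[B⁄A], f • ω = 0) (τ τ' : B →ₐ[A] S) (b : B) :
    τ f * (τ b - τ' b) ∈ diffIdeal τ τ' ^ 2 := by
  have h1 := mul_mem_sq_of_smul_eq_zero (A := A) f 1 b (by rw [pow_one]; exact h _)
  have h2 := Ideal.mem_map_of_mem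
    (Algebra.TensorProduct.lift τ τ' (fun _ _ => Commute.all _ _)) h1
  rw [Ideal.map_pow] at h2
  have h3 := Ideal.pow_right_mono (map_ideal_le τ τ') 2 h2
  rw [map_mul, map_sub, Algebra.TensorProduct.lift_tmul, Algebra.TensorProduct.lift_tmul,
    Algebra.TensorProduct.lift_tmul, map_one, map_one, one_mul, mul_one, mul_one, pow_one] at h3
  have : τ f * (τ b - τ' b) = -(τ f * (τ' b - τ b)) := by ring
  rw [this]
  exact (Ideal.neg_mem_iff _).2 h3

theorem diffIdeal_eq_bot_iff (τ τ' : B →ₐ[A] S) : diffIdeal τ τ' = ⊥ ↔ τ = τ' := by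
  constructor
  · intro h
    refine AlgHom.ext fun b => ?_
    have : τ b - τ' b ∈ diffIdeal τ τ' := Ideal.subset_span ⟨b, rfl⟩
    rw [h, Ideal.mem_bot] at this
    exact sub_eq_zero.1 this
  · rintro rfl
    rw [diffIdeal, Ideal.span_eq_bot]
    rintro _ ⟨b, rfl⟩
    exact sub_self _

/-- **Uniqueness for maps out of an algebra unramified outside `V(I)`**: two algebra maps to a
Noetherian ring `S` with `IS ⊆ rad S` which agree modulo a high power of `I` are equal. -/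
theorem unram_unique [Algebra.FiniteType A B] (I : Ideal A) (hfg : I.FG)
    (hB : ∀ a ∈ I, Algebra.FormallyUnramified A (Localization.Away (algebraMap A B a)))
    [IsNoetherianRing S] (hrad : I.map (algebraMap A S) ≤ (⊥ : Ideal S).jacobson) :
    ∃ M₀ : ℕ, ∀ τ τ' : B →ₐ[A] S,
      (∀ b, τ b - τ' b ∈ (I ^ M₀).map (algebraMap A S)) → τ = τ' := by
  classical
  -- Step 1: a power of `I` kills the differentials
  have hrad' : I ≤ (Module.annihilator A (Ω[B⁄A])).radical := by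
    intro a ha
    haveI := hB a ha
    obtain ⟨m, hm⟩ := exists_pow_kill_kaehler (A := A) (algebraMap A B a)
    refine ⟨m, ?_⟩
    rw [Module.mem_annihilator]
    intro ω
    have := hm ω
    rwa [← map_pow, algebraMap_smul] at this
  obtain ⟨h, hh⟩ := Ideal.exists_pow_le_of_le_radical_of_fg hrad' hfg
  obtain ⟨𝔦, h𝔦⟩ : ∃ 𝔦 : Ideal S, 𝔦 = I.map (algebraMap A S) := ⟨_, rfl⟩
  rw [← h𝔦] at hrad
  -- Step 2: `𝔦^h 𝔡 ≤ 𝔡²`
  have hkey : ∀ τ τ' : B →ₐ[A] S, 𝔦 ^ h * diffIdeal τ τ' ≤ diffIdeal τ τ' ^ 2 := by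
    intro τ τ'
    rw [h𝔦, ← Ideal.map_pow, Ideal.map, diffIdeal, Ideal.span_mul_span, Ideal.span_le]
    rintro _ ⟨_, ⟨x, hx, rfl⟩, _, ⟨b, rfl⟩, rfl⟩
    have h1 : ∀ ω : Ω[B⁄A], algebraMap A B x • ω = 0 := by
      intro ω
      rw [algebraMap_smul]
      exact Module.mem_annihilator.1 (hh hx) ω
    have h2 := mul_sub_mem_sq (algebraMap A B x) h1 τ τ' b
    rwa [AlgHom.commutes] at h2
  -- Step 3: Artin–Rees for the `𝔦^h`-torsion
  obtain ⟨T, hT⟩ : ∃ T : Ideal S, T = Submodule.annihilator (𝔦 ^ h) := ⟨_, rfl⟩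
  have hTmul : 𝔦 ^ h * T = ⊥ := by
    rw [eq_bot_iff, Ideal.mul_le]
    intro y hy x hx
    rw [hT, Submodule.mem_annihilator] at hx
    have := hx y hy
    rw [smul_eq_mul] at this
    rw [Ideal.mem_bot, mul_comm]
    exact this
  obtain ⟨c, hc⟩ := Ideal.exists_pow_inf_eq_pow_smul 𝔦 (T : Submodule S S)
  refine ⟨c + h + 1, fun τ τ' hττ' => ?_⟩
  rw [← diffIdeal_eq_bot_iff]
  have hd : diffIdeal τ τ' ≤ 𝔦 ^ (c + h + 1) := by
    rw [diffIdeal, Ideal.span_le]
    rintro _ ⟨b, rfl⟩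
    have := hττ' b
    rwa [Ideal.map_pow, ← h𝔦] at this
  -- (a) `𝔦^h 𝔡 = 0`
  have hN : 𝔦 ^ h * diffIdeal τ τ' = ⊥ := by
    apply Submodule.eq_bot_of_le_smul_of_le_jacobson_bot 𝔦 _ (IsNoetherian.noetherian _) _ hrad
    calc 𝔦 ^ h * diffIdeal τ τ' ≤ diffIdeal τ τ' ^ 2 := hkey τ τ'
      _ = diffIdeal τ τ' * diffIdeal τ τ' := pow_two _
      _ ≤ 𝔦 ^ (c + h + 1) * diffIdeal τ τ' := Ideal.mul_mono_left hd
      _ = 𝔦 ^ (c + 1) * (𝔦 ^ h * diffIdeal τ τ') := by
        rw [← mul_assoc, ← pow_add]; congr 2; omega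
      _ ≤ 𝔦 * (𝔦 ^ h * diffIdeal τ τ') :=
        Ideal.mul_mono_left (Ideal.pow_le_self (by omega))
      _ = 𝔦 • (𝔦 ^ h * diffIdeal τ τ') := rfl
  -- (b) `𝔡 ≤ T`
  have hdT : diffIdeal τ τ' ≤ T := by
    intro d hd'
    rw [hT, Submodule.mem_annihilator]
    intro y hy
    have : y * d ∈ 𝔦 ^ h * diffIdeal τ τ' := Ideal.mul_mem_mul hy hd'
    rw [hN, Ideal.mem_bot] at this
    rw [smul_eq_mul, mul_comm]
    exact this
  -- (c) Artin–Rees
  have hAR := hc (c + h + 1) (by omega)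
  have h1 : diffIdeal τ τ' ≤ 𝔦 ^ (c + h + 1) • ⊤ ⊓ T := by
    refine le_inf ?_ hdT
    rw [smul_eq_mul, Ideal.mul_top]
    exact hd
  rw [eq_bot_iff]
  calc diffIdeal τ τ' ≤ 𝔦 ^ (c + h + 1) • ⊤ ⊓ T := h1
    _ = 𝔦 ^ (c + h + 1 - c) • (𝔦 ^ c • ⊤ ⊓ T) := hAR
    _ ≤ 𝔦 ^ (c + h + 1 - c) • T := Submodule.smul_mono (le_refl _) inf_le_right
    _ ≤ 𝔦 ^ h • T := Submodule.smul_mono_left (Ideal.pow_le_pow_right (by omega))
    _ = 𝔦 ^ h * T := rfl
    _ = ⊥ := hTmul

end Diff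

end Groth.Agent.Lib.UnramUniqueH5
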