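import Mathlib
import Groth.Prelude.Def_Hens2
import Groth.Agent.Lib.ElkikG2_helper5
import Groth.Agent.Lib.HensNoeth_helper3
import Groth.Agent.Lib.UnramUnique_helper5

/-!
# Maps from the completion of an algebra étale outside `V(I)` algebraize to the henselization
(helper5)

`main8826`: `A` Noetherian, `B` of finite type over `A`, étale outside `V(I)`, `C` a Noetherian
`A`-algebra with henselization `Cʰ` along `IC`.  Every `A`-algebra map `B^ → C^` is induced by a unique
`A`-algebra map `B → Cʰ`.  Uses the general Elkik approximation theorem (`ElkikG2H5.elkik_general`)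
and the uniqueness of maps out of unramified algebras (`UnramUniqueH5.unram_unique`).
-/

set_option autoImplicit false
set_option maxHeartbeats 1000000
universe u

open TensorProduct

namespace Groth.Agent.Lib.ElkikG3H5

open Groth.Agent.Lib Groth.Agent.Lib.ElkikG1H5 Groth.Agent.Lib.ElkikG2H5

theorem evalₐ_eq_zero_of_mem_map {A : Type u} [CommRing A] {I : Ideal A} (n : ℕ)
    (x : AdicCompletion I A)
    (hx : x ∈ (I ^ n).map (algebraMap A (AdicCompletion I A))) :
    AdicCompletion.evalₐ I n x = 0 := by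
  have hle : (I ^ n).map (algebraMap A (AdicCompletion I A)) ≤
      RingHom.ker (AdicCompletion.evalₐ I n).toRingHom := by
    rw [Ideal.map_le_iff_le_comap]
    intro a ha
    rw [Ideal.mem_comap, RingHom.mem_ker]
    show AdicCompletion.evalₐ I n (algebraMap A (AdicCompletion I A) a) = 0
    have : AdicCompletion.evalₐ I n (algebraMap A (AdicCompletion I A) a) =
        Ideal.Quotient.mk _ a := AdicCompletion.evalₐ_of _ _ _
    rw [this]
    exact Ideal.Quotient.eq_zero_iff_mem.2 ha
  exact hle hx

section Compl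

variable {A : Type u} [CommRing A] [IsNoetherianRing A] {I : Ideal A}
  {B : Type u} [CommRing B] [Algebra A B]

/-- the completion of `A` is "the completion" of the henselization -/
theorem isComplOf_hens (hB : Hens2.IsPairHenselization A I B) (g : B →+* AdicCompletion I A)
    (hg : g.comp (algebraMap A B) = algebraMap A (AdicCompletion I A)) :
    letI := g.toAlgebra
    IsComplOf B (I.map (algebraMap A B)) (AdicCompletion I A) := by
  letI := g.toAlgebra
  have hgA : ∀ a : A, algebraMap B (AdicCompletion I A) (algebraMap A B a) =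
      algebraMap A (AdicCompletion I A) a := fun a => RingHom.congr_fun hg a
  have hmap : ∀ n, ((I.map (algebraMap A B)) ^ n).map (algebraMap B (AdicCompletion I A)) =
      (I ^ n).map (algebraMap A (AdicCompletion I A)) := by
    intro n
    rw [← Ideal.map_pow, Ideal.map_map]
    congr 1
  have hfg : I.FG := IsNoetherian.noetherian I
  refine ⟨Groth.Agent.S0543.result A I, ?_, ?_, ?_⟩
  · have := hmap 1
    rw [pow_one, pow_one] at this
    rw [this]
    exact AdicCompletion.isAdicComplete_self I hfg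
  · intro n x
    obtain ⟨a, ha⟩ := Ideal.Quotient.mk_surjective (AdicCompletion.evalₐ I n x)
    refine ⟨algebraMap A B a, ?_⟩
    rw [hmap, hgA]
    apply ElkikTH5.mem_map_of_evalₐ_eq_zero I hfg
    rw [map_sub, ← ha]
    have : AdicCompletion.evalₐ I n (algebraMap A (AdicCompletion I A) a) =
        Ideal.Quotient.mk _ a := AdicCompletion.evalₐ_of _ _ _
    rw [this, sub_self]
  · intro n r hr
    rw [hmap] at hr
    obtain ⟨hSn, hIn⟩ := (EtaleNbhd.bijective_iff (I ^ n) B).1
      (EtaleNbhd.quotient_pow_bijective hB n)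
    obtain ⟨a, ha⟩ := hSn r
    have h1 : algebraMap B (AdicCompletion I A) (r - algebraMap A B a) ∈
        (I ^ n).map (algebraMap A (AdicCompletion I A)) := by
      rw [← hmap, ← Ideal.map_pow]
      exact Ideal.mem_map_of_mem (algebraMap B (AdicCompletion I A)) ha
    have h2 : algebraMap A (AdicCompletion I A) a ∈
        (I ^ n).map (algebraMap A (AdicCompletion I A)) := by
      have : algebraMap A (AdicCompletion I A) a = algebraMap B (AdicCompletion I A) r -
          algebraMap B (AdicCompletion I A) (r - algebraMap A B a) := by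
        rw [map_sub, hgA]; ring
      rw [this]
      exact Ideal.sub_mem _ hr h1
    have h3 := evalₐ_eq_zero_of_mem_map n _ h2
    have h4 : AdicCompletion.evalₐ I n (algebraMap A (AdicCompletion I A) a) =
        Ideal.Quotient.mk _ a := AdicCompletion.evalₐ_of _ _ _
    rw [h4, Ideal.Quotient.eq_zero_iff_mem] at h3
    have h5 : algebraMap A B a ∈ (I.map (algebraMap A B)) ^ n := by
      rw [← Ideal.map_pow]; exact Ideal.mem_map_of_mem _ h3
    have h6 : r = (r - algebraMap A B a) + algebraMap A B a := by ring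
    rw [h6]
    refine Ideal.add_mem _ ?_ h5
    rw [← Ideal.map_pow]; exact ha

end Compl


theorem eval_eq_of_sub_mem {C : Type u} [CommRing C] (𝔠 : Ideal C) (n : ℕ)
    (x : AdicCompletion 𝔠 C) (c : C)
    (h : x - algebraMap C (AdicCompletion 𝔠 C) c ∈ (𝔠 ^ n).map (algebraMap C (AdicCompletion 𝔠 C))) :
    AdicCompletion.eval 𝔠 C n x = Submodule.Quotient.mk c := by
  have h1 := evalₐ_eq_zero_of_mem_map n _ h
  have hle : 𝔠 ^ n ≤ (𝔠 ^ n • ⊤ : Ideal C) := by rw [smul_eq_mul, Ideal.mul_top]
  have h2 := AdicCompletion.factor_evalₐ_eq_eval 𝔠 (x - algebraMap C (AdicCompletion 𝔠 C) c) hle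
  rw [h1, map_zero, map_sub] at h2
  have h3 : AdicCompletion.eval 𝔠 C n (algebraMap C (AdicCompletion 𝔠 C) c) =
      Submodule.Quotient.mk c := AdicCompletion.eval_of _ _ _ _
  rw [h3] at h2
  exact (sub_eq_zero.1 h2.symm)

set_option maxHeartbeats 4000000 in
theorem main8826 (A : Type u) [CommRing A] [IsNoetherianRing A] (I : Ideal A) (B : Type u)
    [CommRing B] [Algebra A B] [Algebra.FiniteType A B]
    (hB : ∀ a ∈ I, Algebra.Etale A (Localization.Away (algebraMap A B a)))
    (C : Type u) [CommRing C] [Algebra A C] [IsNoetherianRing C]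
    (Ch : Type u) [CommRing Ch] [Algebra C Ch] [Algebra A Ch] [IsScalarTower A C Ch]
    (hCh : Hens2.IsPairHenselization C (I.map (algebraMap A C)) Ch)
    (φ : AdicCompletion (I.map (algebraMap A B)) B →ₐ[A]
      AdicCompletion (I.map (algebraMap A C)) C) :
    ∃! ψ : B →ₐ[A] Ch, ∀ (n : ℕ) (b : B), ∃ c : C,
      ψ b - algebraMap C Ch c ∈ (I.map (algebraMap A Ch)) ^ n ∧
      AdicCompletion.eval (I.map (algebraMap A C)) C n
        (φ (AdicCompletion.of (I.map (algebraMap A B)) B b)) = Submodule.Quotient.mk c := by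
  classical
  haveI : IsNoetherianRing Ch := HensNoethH3.isNoetherianRing hCh
  haveI : Algebra.FinitePresentation A B := Algebra.FinitePresentation.of_finiteType.1 inferInstance
  obtain ⟨g, hg⟩ := HensNoethH3.exists_toCompletion hCh
  letI : Algebra Ch (AdicCompletion (I.map (algebraMap A C)) C) := g.toAlgebra
  have hcompl := isComplOf_hens hCh g hg
  have h𝔞 : (I.map (algebraMap A C)).map (algebraMap C Ch) = I.map (algebraMap A Ch) := by
    rw [Ideal.map_map, ← IsScalarTower.algebraMap_eq]
  rw [h𝔞] at hcompl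
  have hgC : ∀ c : C, algebraMap Ch (AdicCompletion (I.map (algebraMap A C)) C)
      (algebraMap C Ch c) = algebraMap C _ c := fun c => RingHom.congr_fun hg c
  haveI : IsScalarTower A Ch (AdicCompletion (I.map (algebraMap A C)) C) :=
    IsScalarTower.of_algebraMap_eq fun a => by
      rw [IsScalarTower.algebraMap_apply A C Ch, hgC]
      rfl
  -- generators
  obtain ⟨k, s, hs⟩ := Submodule.fg_iff_exists_fin_generating_family.1
    (IsNoetherian.noetherian I : I.FG)
  have hsI : ∀ i, s i ∈ I := fun i => by rw [← hs]; exact Submodule.subset_span ⟨i, rfl⟩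
  obtain ⟨sR, hsR⟩ : ∃ sR : Fin k → Ch, sR = fun i => algebraMap A Ch (s i) := ⟨_, rfl⟩
  have hspanR : Ideal.span (Set.range sR) = I.map (algebraMap A Ch) := by
    rw [← hs, hsR]
    show _ = Ideal.map (algebraMap A Ch) (Ideal.span (Set.range s))
    rw [Ideal.map_span, ← Set.range_comp]
    rfl
  have hens : HenselianRing Ch (Ideal.span (Set.range sR)) := by
    rw [hspanR, ← h𝔞]; exact hCh.1
  rw [← hspanR] at hcompl
  -- the smoothness hypothesis
  have hsm : ∀ i, (PrimeSpectrum.basicOpen (algebraMap Ch (Ch ⊗[A] B) (sR i)) :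
      Set (PrimeSpectrum (Ch ⊗[A] B))) ⊆ Algebra.smoothLocus Ch (Ch ⊗[A] B) := by
    intro i
    rw [hsR]
    apply basicOpen_subset_smoothLocus_baseChange
    rw [Algebra.basicOpen_subset_smoothLocus_iff]
    haveI := hB (s i) (hsI i)
    infer_instance
  -- the map to the completion
  let φ' : B →ₐ[A] AdicCompletion (I.map (algebraMap A C)) C :=
    φ.comp (IsScalarTower.toAlgHom A B (AdicCompletion (I.map (algebraMap A B)) B))
  have hφ' : ∀ b, φ' b = φ (AdicCompletion.of (I.map (algebraMap A B)) B b) := fun b => rfl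
  let Φ : Ch ⊗[A] B →ₐ[Ch] AdicCompletion (I.map (algebraMap A C)) C :=
    Algebra.TensorProduct.lift (Algebra.ofId Ch _) φ' (fun _ _ => Commute.all _ _)
  have hΦ : ∀ b : B, Φ ((1 : Ch) ⊗ₜ[A] b) = φ' b := by
    intro b
    show Algebra.TensorProduct.lift (Algebra.ofId Ch _) φ' (fun _ _ => Commute.all _ _)
      ((1 : Ch) ⊗ₜ[A] b) = φ' b
    rw [Algebra.TensorProduct.lift_tmul, map_one, one_mul]
  -- approximations
  have happ : ∀ M : ℕ, ∃ ψ : B →ₐ[A] Ch, ∀ b,
      algebraMap Ch (AdicCompletion (I.map (algebraMap A C)) C) (ψ b) - φ' b ∈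
        ((I.map (algebraMap A Ch)) ^ M).map (algebraMap Ch _) := by
    intro M
    obtain ⟨τ, hτ⟩ := elkik_general k Ch sR hens _ hcompl (Ch ⊗[A] B) hsm Φ M
    refine ⟨(τ.restrictScalars A).comp Algebra.TensorProduct.includeRight, fun b => ?_⟩
    have := hτ ((1 : Ch) ⊗ₜ[A] b)
    rw [hΦ, hspanR] at this
    exact this
  -- uniqueness threshold
  have hrad : I.map (algebraMap A Ch) ≤ (⊥ : Ideal Ch).jacobson := by
    rw [← h𝔞]; exact hCh.1.jac
  obtain ⟨M₀, hM₀⟩ := UnramUniqueH5.unram_unique (A := A) (B := B) (S := Ch) I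
    (IsNoetherian.noetherian I)
    (fun a ha => by haveI := hB a ha; infer_instance) hrad
  choose ψ hψ using happ
  have hinj := hcompl.inj
  rw [hspanR] at hinj
  have hψeq : ∀ M, M₀ ≤ M → ψ M = ψ M₀ := by
    intro M hM
    apply hM₀
    intro b
    rw [Ideal.map_pow]
    apply hinj
    have h1 := hψ M b
    have h2 := hψ M₀ b
    have h3 : ((I.map (algebraMap A Ch)) ^ M).map
        (algebraMap Ch (AdicCompletion (I.map (algebraMap A C)) C)) ≤
        ((I.map (algebraMap A Ch)) ^ M₀).map (algebraMap Ch _) :=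
      Ideal.map_mono (Ideal.pow_le_pow_right hM)
    have h4 : algebraMap Ch (AdicCompletion (I.map (algebraMap A C)) C) (ψ M b - ψ M₀ b) =
        (algebraMap Ch _ (ψ M b) - φ' b) - (algebraMap Ch _ (ψ M₀ b) - φ' b) := by
      rw [map_sub]; ring
    rw [h4]
    exact Ideal.sub_mem _ (h3 h1) h2
  have hψall : ∀ (n : ℕ) (b : B),
      algebraMap Ch (AdicCompletion (I.map (algebraMap A C)) C) (ψ M₀ b) - φ' b ∈
        ((I.map (algebraMap A Ch)) ^ n).map (algebraMap Ch _) := by
    intro n b
    have h1 := hψ (max n M₀) b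
    rw [hψeq _ (le_max_right _ _)] at h1
    exact Ideal.map_mono (Ideal.pow_le_pow_right (le_max_left _ _)) h1
  have hmapC : ∀ n, ((I.map (algebraMap A Ch)) ^ n).map
      (algebraMap Ch (AdicCompletion (I.map (algebraMap A C)) C)) =
      ((I.map (algebraMap A C)) ^ n).map (algebraMap C _) := by
    intro n
    rw [← h𝔞, ← Ideal.map_pow, Ideal.map_map]
    congr 1
  have hpowCh : ∀ n, (I.map (algebraMap A Ch)) ^ n =
      ((I.map (algebraMap A C)) ^ n).map (algebraMap C Ch) := by
    intro n
    rw [Ideal.map_pow, h𝔞]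
  refine ⟨ψ M₀, ?_, ?_⟩
  · intro n b
    obtain ⟨hSn, -⟩ := (EtaleNbhd.bijective_iff ((I.map (algebraMap A C)) ^ n) Ch).1
      (EtaleNbhd.quotient_pow_bijective hCh n)
    obtain ⟨c, hc⟩ := hSn (ψ M₀ b)
    refine ⟨c, by rw [hpowCh]; exact hc, ?_⟩
    rw [← hφ']
    apply eval_eq_of_sub_mem
    have h1 := hψall n b
    rw [hmapC] at h1
    have h2 : algebraMap Ch (AdicCompletion (I.map (algebraMap A C)) C)
        (ψ M₀ b - algebraMap C Ch c) ∈ ((I.map (algebraMap A C)) ^ n).map (algebraMap C _) := by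
      rw [← hmapC, hpowCh]
      exact Ideal.mem_map_of_mem (algebraMap Ch (AdicCompletion (I.map (algebraMap A C)) C)) hc
    have h3 : φ' b - algebraMap C (AdicCompletion (I.map (algebraMap A C)) C) c =
        algebraMap Ch _ (ψ M₀ b - algebraMap C Ch c) - (algebraMap Ch _ (ψ M₀ b) - φ' b) := by
      rw [map_sub, hgC]; ring
    rw [h3]
    exact Ideal.sub_mem _ h2 h1
  · intro ψ' hψ'
    refine AlgHom.ext fun b => ?_
    have hmem : ∀ n, ψ' b - ψ M₀ b ∈ (⊥ : Ideal Ch) ⊔ (I.map (algebraMap A Ch)) ^ n := by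
      intro n
      refine Ideal.mem_sup_right ?_
      obtain ⟨c', hc', hc'2⟩ := hψ' n b
      obtain ⟨hSn, -⟩ := (EtaleNbhd.bijective_iff ((I.map (algebraMap A C)) ^ n) Ch).1
        (EtaleNbhd.quotient_pow_bijective hCh n)
      obtain ⟨c, hc⟩ := hSn (ψ M₀ b)
      rw [← hpowCh] at hc
      -- `c ≡ c'` modulo `𝔠^n`
      have h1 : AdicCompletion.eval (I.map (algebraMap A C)) C n (φ' b) =
          Submodule.Quotient.mk c := by
        apply eval_eq_of_sub_mem
        have h1 := hψall n b
        rw [hmapC] at h1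
        have h2 : algebraMap Ch (AdicCompletion (I.map (algebraMap A C)) C)
            (ψ M₀ b - algebraMap C Ch c) ∈
            ((I.map (algebraMap A C)) ^ n).map (algebraMap C _) := by
          rw [← hmapC]
          exact Ideal.mem_map_of_mem (algebraMap Ch (AdicCompletion (I.map (algebraMap A C)) C)) hc
        have h3 : φ' b - algebraMap C (AdicCompletion (I.map (algebraMap A C)) C) c =
            algebraMap Ch _ (ψ M₀ b - algebraMap C Ch c) - (algebraMap Ch _ (ψ M₀ b) - φ' b) := by
          rw [map_sub, hgC]; ring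
        rw [h3]
        exact Ideal.sub_mem _ h2 h1
      rw [← hφ', h1] at hc'2
      have h2 : c - c' ∈ (I.map (algebraMap A C)) ^ n := by
        have := (Submodule.Quotient.eq _).1 hc'2
        rwa [smul_eq_mul, Ideal.mul_top] at this
      have h3 : algebraMap C Ch (c - c') ∈ (I.map (algebraMap A Ch)) ^ n := by
        rw [hpowCh]; exact Ideal.mem_map_of_mem _ h2
      have h4 : ψ' b - ψ M₀ b = (ψ' b - algebraMap C Ch c') - (ψ M₀ b - algebraMap C Ch c) -
          algebraMap C Ch (c - c') := by
        rw [map_sub]; ring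
      rw [h4]
      exact Ideal.sub_mem _ (Ideal.sub_mem _ hc' hc) h3
    have := CompleteTwoIdealsLead.krull_mem hrad hmem
    rw [Ideal.mem_bot] at this
    exact sub_eq_zero.1 this

end Groth.Agent.Lib.ElkikG3H5
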