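import Mathlib

universe u

namespace Groth.Agent.Lib.EllJH8

open Polynomial WeierstrassCurve

variable {A : Type u} [CommRing A]

/-- normal form depending only on the unit `v = j - 1728`. -/
def nf (v : Aˣ) : WeierstrassCurve A := ⟨1, 0, 0, -36 * ↑v⁻¹, -↑v⁻¹⟩

lemma nf_map {B : Type*} [CommRing B] (φ : A →+* B) (v : Aˣ) :
    (nf v).map φ = nf (Units.map (φ : A →* B) v) := by
  ext <;> simp [nf, map_ofNat]

def rho (W : WeierstrassCurve A) : A := W.b₂ * W.b₄ - 18 * W.b₆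

def tau (W : WeierstrassCurve A) : A :=
  2*W.a₁^2*W.a₂*W.a₃ + 8*W.a₂^2*W.a₃ - 24*W.a₃*W.a₄ - 3*W.a₁*W.a₃^2 - W.a₁^3*W.a₄
    - 4*W.a₁*W.a₂*W.a₄ + 36*W.a₁*W.a₆

lemma P1 (W : WeierstrassCurve A) : W.c₆ + W.b₂ * W.c₄ = 12 * rho W := by
  simp only [rho, WeierstrassCurve.c₆, WeierstrassCurve.c₄, WeierstrassCurve.b₂,
    WeierstrassCurve.b₄, WeierstrassCurve.b₆]; ring

lemma P3 (W : WeierstrassCurve A) : W.c₄ * W.a₃ - W.a₁ * rho W = 2 * tau W := by
  simp only [rho, tau, WeierstrassCurve.c₄, WeierstrassCurve.b₂,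
    WeierstrassCurve.b₄, WeierstrassCurve.b₆]; ring

lemma P4 (W : WeierstrassCurve A) :
    W.a₄ * W.c₄^2 - 2 * rho W * W.a₂ * W.c₄ + tau W * W.a₁ * W.c₄ + 3 * (rho W)^2 = -36 * W.Δ := by
  simp only [rho, tau, WeierstrassCurve.Δ, WeierstrassCurve.c₄, WeierstrassCurve.b₂,
    WeierstrassCurve.b₄, WeierstrassCurve.b₆, WeierstrassCurve.b₈]; ring

lemma P6 (W : WeierstrassCurve A) :
    W.a₆ * W.c₄^3 - rho W * W.a₄ * W.c₄^2 + (rho W)^2 * W.a₂ * W.c₄ - (rho W)^3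
      + tau W * W.a₃ * W.c₄^2 - (tau W)^2 * W.c₄ - rho W * tau W * W.a₁ * W.c₄ = W.c₆ * W.Δ := by
  simp only [rho, tau, WeierstrassCurve.Δ, WeierstrassCurve.c₆, WeierstrassCurve.c₄,
    WeierstrassCurve.b₂, WeierstrassCurve.b₄, WeierstrassCurve.b₆, WeierstrassCurve.b₈]; ring

section alg

variable (W : WeierstrassCurve A) (κ γ : A)

/-- the `r` of the change of variables -/
def rr : A := -(rho W) * κ
/-- the `t` of the change of variables -/
def tt : A := -(tau W) * κ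
/-- constant coefficient of the quadratic -/
def mu : A := -W.a₂ + 3 * rho W * κ
/-- discriminant of the quadratic -/
def lam : A := W.a₁ ^ 2 - 4 * mu W κ

variable {W κ γ}

lemma E2 : W.a₂ + mu W κ + 3 * rr W κ = 0 := by
  simp only [mu, rr]; ring

lemma E3 (hκ : κ * W.c₄ = 1) : W.a₃ + rr W κ * W.a₁ + 2 * tt W κ = 0 := by
  simp only [rr, tt]
  linear_combination κ * P3 W - W.a₃ * hκ

lemma lam_eq (hκ : κ * W.c₄ = 1) : lam W κ = - W.c₆ * κ := by
  have h1 := P1 W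
  have hb : W.b₂ = W.a₁ ^ 2 + 4 * W.a₂ := rfl
  simp only [lam, mu]
  linear_combination κ * h1 - W.b₂ * hκ - hb

lemma lam_mul (hκ : κ * W.c₄ = 1) (hγ : γ * W.c₆ = 1) : lam W κ * (-(W.c₄ * γ)) = 1 := by
  rw [lam_eq hκ]
  linear_combination (γ * W.c₆) * hκ + hγ

lemma E4 (hκ : κ * W.c₄ = 1) :
    W.a₄ + 2 * rr W κ * W.a₂ - tt W κ * W.a₁ + 3 * (rr W κ) ^ 2 = -36 * W.Δ * κ ^ 2 := by
  simp only [rr, tt]
  linear_combination κ^2 * P4 W
    - (W.a₄ * (κ * W.c₄ + 1) - 2 * rho W * W.a₂ * κ + tau W * W.a₁ * κ) * hκ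

lemma E6 (hκ : κ * W.c₄ = 1) :
    W.a₆ + rr W κ * W.a₄ + (rr W κ) ^ 2 * W.a₂ + (rr W κ) ^ 3 - tt W κ * W.a₃ - (tt W κ) ^ 2
      - rr W κ * tt W κ * W.a₁ = W.c₆ * W.Δ * κ ^ 3 := by
  simp only [rr, tt]
  linear_combination κ^3 * P6 W
    - (W.a₆ * (3 + 3 * (κ * W.c₄ - 1) + (κ * W.c₄ - 1)^2) - rho W * W.a₄ * κ * (2 + (κ * W.c₄ - 1))
        + (rho W)^2 * W.a₂ * κ^2 + tau W * W.a₃ * κ * (2 + (κ * W.c₄ - 1)) - (tau W)^2 * κ^2
        - rho W * tau W * W.a₁ * κ^2) * hκ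

end alg


section etale

variable (W : WeierstrassCurve A) (κ γ : A)

/-- the quadratic polynomial whose root is the `s` of the change of variables -/
noncomputable def quad : A[X] := X ^ 2 + C W.a₁ * X + C (mu W κ)

lemma quad_monic : (quad W κ).Monic := by
  unfold quad
  monicity!

lemma derivative_quad : derivative (quad W κ) = 2 * X + C W.a₁ := by
  simp [quad]
  ring

variable {W κ γ}

lemma quad_cond (hκ : κ * W.c₄ = 1) (hγ : γ * W.c₆ = 1) :
    derivative (quad W κ) * (C (-(W.c₄ * γ)) * derivative (quad W κ))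
      + quad W κ * (-4 * C (-(W.c₄ * γ))) = 1 := by
  have h := congrArg (C : A → A[X]) (lam_mul hκ hγ)
  simp only [lam, map_mul, map_sub, map_pow, map_one, map_ofNat, C_neg] at h
  rw [derivative_quad]
  simp only [quad, C_neg, C_mul]
  linear_combination h

/-- the standard étale pair -/
noncomputable def pair (hκ : κ * W.c₄ = 1) (hγ : γ * W.c₆ = 1) : StandardEtalePair A where
  f := quad W κ
  monic_f := quad_monic W κ
  g := 1
  cond := ⟨_, _, 0, by rw [pow_zero]; exact quad_cond hκ hγ⟩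

end etale


section main

variable {W : WeierstrassCurve A} {κ γ : A}

lemma units_aux {B : Type*} [CommRing B] (u : Bˣ) (k : ℕ) (X Y : B) (h : X = (u : B) ^ k * Y) :
    ((u⁻¹ : Bˣ) : B) ^ k * X = Y := by
  rw [h, ← mul_assoc, ← mul_pow, Units.inv_mul, one_pow, one_mul]

lemma vinv_eq [W.IsElliptic] (hγ : γ * W.c₆ = 1) (v : Aˣ) (hv : (v : A) = W.j - 1728) :
    ((v⁻¹ : Aˣ) : A) = W.Δ * γ ^ 2 := by
  apply Units.inv_eq_of_mul_eq_one_right
  have hδ : ((W.Δ'⁻¹ : Aˣ) : A) * W.Δ = 1 := by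
    rw [← W.coe_Δ']; exact Units.inv_mul _
  have hc := W.c_relation
  rw [hv, WeierstrassCurve.j]
  linear_combination (γ^2 * W.c₆^2 + 1728 * W.Δ * γ^2) * hδ - ↑W.Δ'⁻¹ * W.Δ * γ^2 * hc
    + (γ * W.c₆ + 1) * hγ


lemma F4 (hκ : κ * W.c₄ = 1) (hγ : γ * W.c₆ = 1) :
    lam W κ ^ 2 * (-36 * (W.Δ * γ ^ 2)) = -36 * W.Δ * κ ^ 2 := by
  rw [lam_eq hκ]
  linear_combination (-36 * W.Δ * κ^2 * (γ * W.c₆ + 1)) * hγ

lemma F6 (hκ : κ * W.c₄ = 1) (hγ : γ * W.c₆ = 1) :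
    lam W κ ^ 3 * (-(W.Δ * γ ^ 2)) = W.c₆ * W.Δ * κ ^ 3 := by
  rw [lam_eq hκ]
  linear_combination (W.c₆ * W.Δ * κ^3 * (γ * W.c₆ + 1)) * hγ

lemma G4A [W.IsElliptic] (hκ : κ * W.c₄ = 1) (hγ : γ * W.c₆ = 1) (v : Aˣ)
    (hv : (v : A) = W.j - 1728) :
    W.a₄ + 2 * rr W κ * W.a₂ - tt W κ * W.a₁ + 3 * (rr W κ) ^ 2
      = lam W κ ^ 2 * (-36 * ((v⁻¹ : Aˣ) : A)) := by
  rw [vinv_eq hγ v hv, F4 hκ hγ, E4 hκ]

lemma G6A [W.IsElliptic] (hκ : κ * W.c₄ = 1) (hγ : γ * W.c₆ = 1) (v : Aˣ)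
    (hv : (v : A) = W.j - 1728) :
    W.a₆ + rr W κ * W.a₄ + (rr W κ) ^ 2 * W.a₂ + (rr W κ) ^ 3 - tt W κ * W.a₃ - (tt W κ) ^ 2
      - rr W κ * tt W κ * W.a₁ = lam W κ ^ 3 * (-((v⁻¹ : Aˣ) : A)) := by
  rw [vinv_eq hγ v hv, F6 hκ hγ, E6 hκ]

theorem change_eq [W.IsElliptic] {B : Type*} [CommRing B] (φ : A →+* B) (x : B)
    (hκ : κ * W.c₄ = 1) (hγ : γ * W.c₆ = 1) (v : Aˣ) (hv : (v : A) = W.j - 1728)
    (hx : x ^ 2 + φ W.a₁ * x + φ (mu W κ) = 0) :
    ∃ C : VariableChange B, C • (W.map φ) = (nf v).map φ := by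
  have hU2 : (φ W.a₁ + 2 * x) ^ 2 = φ (lam W κ) := by
    simp only [lam, map_sub, map_mul, map_pow, map_ofNat]
    linear_combination 4 * hx
  have hUinv : (φ W.a₁ + 2 * x) * ((φ W.a₁ + 2 * x) * φ (-(W.c₄ * γ))) = 1 := by
    have := congrArg φ (lam_mul hκ hγ)
    rw [map_mul, map_one] at this
    linear_combination φ (-(W.c₄ * γ)) * hU2 + this
  have h2 := congrArg φ (E2 (W := W) (κ := κ))
  have h3 := congrArg φ (E3 hκ)
  have h4 := congrArg φ (G4A hκ hγ v hv)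
  have h6 := congrArg φ (G6A hκ hγ v hv)
  simp only [map_add, map_sub, map_mul, map_pow, map_ofNat, map_neg, map_zero] at h2 h3 h4 h6
  refine ⟨⟨Units.mkOfMulEqOne _ _ hUinv, φ (rr W κ), x, φ (tt W κ)⟩, ?_⟩
  ext
  · rw [variableChange_a₁]
    simp only [WeierstrassCurve.map_a₁, nf, map_one]
    rw [← pow_one ((Units.mkOfMulEqOne _ _ hUinv)⁻¹ : Bˣ).val]
    apply units_aux
    simp
  · rw [variableChange_a₂]
    simp only [WeierstrassCurve.map_a₁, WeierstrassCurve.map_a₂, nf, map_zero]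
    apply units_aux
    simp only [mul_zero]
    linear_combination h2 - hx
  · rw [variableChange_a₃]
    simp only [WeierstrassCurve.map_a₁, WeierstrassCurve.map_a₃, nf, map_zero]
    apply units_aux
    simp only [mul_zero]
    linear_combination h3
  · rw [variableChange_a₄]
    simp only [WeierstrassCurve.map_a₁, WeierstrassCurve.map_a₂, WeierstrassCurve.map_a₃,
      WeierstrassCurve.map_a₄, nf, map_mul, map_neg, map_ofNat]
    apply units_aux
    simp only [Units.val_mkOfMulEqOne]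
    linear_combination h4 - x * h3
      - (-(36 * φ ((v⁻¹ : Aˣ) : A))) * ((φ W.a₁ + 2 * x) ^ 2 + φ (lam W κ)) * hU2
  · rw [variableChange_a₆]
    simp only [WeierstrassCurve.map_a₁, WeierstrassCurve.map_a₂, WeierstrassCurve.map_a₃,
      WeierstrassCurve.map_a₄, WeierstrassCurve.map_a₆, nf, map_neg]
    apply units_aux
    simp only [Units.val_mkOfMulEqOne]
    linear_combination h6
      - (-(φ ((v⁻¹ : Aˣ) : A))) * ((φ W.a₁ + 2 * x) ^ 4 + (φ W.a₁ + 2 * x) ^ 2 * φ (lam W κ)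
          + φ (lam W κ) ^ 2) * hU2


lemma isUnit_c₄ [W.IsElliptic] (h0 : IsUnit W.j) : IsUnit W.c₄ := by
  have h3 : IsUnit (W.c₄ ^ 3) := by
    have h := h0
    rw [WeierstrassCurve.j] at h
    exact (Units.isUnit_units_mul _ _).mp h
  exact (isUnit_pow_iff (by norm_num)).mp h3

lemma isUnit_c₆ [W.IsElliptic] (v : Aˣ) (hv : (v : A) = W.j - 1728) : IsUnit W.c₆ := by
  have hδ : ((W.Δ'⁻¹ : Aˣ) : A) * W.Δ = 1 := by
    rw [← W.coe_Δ']; exact Units.inv_mul _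
  have hc := W.c_relation
  have h1 : (v : A) = ((W.Δ'⁻¹ : Aˣ) : A) * W.c₆ ^ 2 := by
    rw [hv, WeierstrassCurve.j]
    linear_combination -((W.Δ'⁻¹ : Aˣ) : A) * hc + 1728 * hδ
  have h2 : IsUnit (W.c₆ ^ 2) := by
    have h := v.isUnit
    rw [h1] at h
    exact (Units.isUnit_units_mul _ _).mp h
  exact (isUnit_pow_iff (by norm_num)).mp h2

theorem exists_etale_nf (W : WeierstrassCurve A) [W.IsElliptic] (v : Aˣ)
    (hv : (v : A) = W.j - 1728) (h0 : IsUnit W.j) :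
    ∃ (B : Type u) (_ : CommRing B) (_ : Algebra A B), Algebra.Etale A B ∧
      Function.Surjective (PrimeSpectrum.comap (algebraMap A B)) ∧
      ∃ C : VariableChange B, C • (W.map (algebraMap A B)) = (nf v).map (algebraMap A B) := by
  obtain ⟨κ, hκ⟩ := (isUnit_c₄ h0).exists_left_inv
  obtain ⟨γ, hγ⟩ := (isUnit_c₆ v hv).exists_left_inv
  let P := pair hκ hγ
  refine ⟨P.Ring, inferInstance, inferInstance, inferInstance, ?_, ?_⟩
  · intro p
    let k := p.asIdeal.ResidueField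
    let L := AlgebraicClosure k
    haveI : Nontrivial A := p.nontrivial
    have hdeg : ((quad W κ).map (algebraMap A L)).degree ≠ 0 := by
      rw [(quad_monic W κ).degree_map]
      have : (quad W κ).natDegree = 2 := by
        unfold quad
        compute_degree!
      rw [degree_eq_natDegree (quad_monic W κ).ne_zero, this]
      norm_num
    obtain ⟨x, hx⟩ := IsAlgClosed.exists_root _ hdeg
    have hx' : aeval x (quad W κ) = 0 := by
      rw [aeval_def, eval₂_eq_eval_map]; exact hx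
    let φL : P.Ring →ₐ[A] L := P.lift x ⟨hx', by simp [P, pair]⟩
    refine ⟨⟨RingHom.ker φL.toRingHom, RingHom.ker_isPrime _⟩, ?_⟩
    ext a
    simp only [PrimeSpectrum.comap_asIdeal, Ideal.mem_comap, RingHom.mem_ker, AlgHom.toRingHom_eq_coe,
      RingHom.coe_coe, AlgHom.commutes]
    rw [IsScalarTower.algebraMap_apply A k L, map_eq_zero_iff _ (algebraMap k L).injective,
      ← RingHom.mem_ker, Ideal.ker_algebraMap_residueField]
  · have hx : (P.X) ^ 2 + algebraMap A P.Ring W.a₁ * P.X + algebraMap A P.Ring (mu W κ) = 0 := by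
      have h1 : aeval P.X (quad W κ) = 0 := (StandardEtalePair.hasMap_X (P := P)).1
      simpa only [quad, map_add, map_mul, map_pow, aeval_X, aeval_C] using h1
    exact change_eq (algebraMap A P.Ring) P.X hκ hγ v hv hx


theorem main14292 (A : Type u) [CommRing A]
    (W₁ W₂ : WeierstrassCurve A) [W₁.IsElliptic] [W₂.IsElliptic] (hj : W₁.j = W₂.j)
    (h0 : IsUnit W₁.j) (h1728 : IsUnit (W₁.j - 1728)) (p : PrimeSpectrum A) :
    ∃ (B : Type u) (_ : CommRing B) (_ : Algebra A B), Algebra.Etale A B ∧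
      p ∈ Set.range (PrimeSpectrum.comap (algebraMap A B)) ∧
      ∃ C : WeierstrassCurve.VariableChange B,
        C • (W₁.map (algebraMap A B)) = W₂.map (algebraMap A B) := by
  let v : Aˣ := h1728.unit
  have hv : (v : A) = W₁.j - 1728 := rfl
  obtain ⟨B₁, _, _, het₁, hs₁, C₁, hC₁⟩ := exists_etale_nf W₁ v hv h0
  let v' : B₁ˣ := Units.map ((algebraMap A B₁ : A →+* B₁) : A →* B₁) v
  have hv' : (v' : B₁) = (W₂.map (algebraMap A B₁)).j - 1728 := by
    rw [WeierstrassCurve.map_j, ← hj]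
    simp only [v', Units.coe_map, MonoidHom.coe_coe, hv, map_sub, map_ofNat]
  have h0' : IsUnit (W₂.map (algebraMap A B₁)).j := by
    rw [WeierstrassCurve.map_j, ← hj]; exact h0.map _
  obtain ⟨B₂, _, _, het₂, hs₂, C₂, hC₂⟩ := exists_etale_nf (W₂.map (algebraMap A B₁)) v' hv' h0'
  letI : Algebra A B₂ := ((algebraMap B₁ B₂).comp (algebraMap A B₁)).toAlgebra
  haveI : IsScalarTower A B₁ B₂ := IsScalarTower.of_algebraMap_eq (fun _ => rfl)
  refine ⟨B₂, inferInstance, inferInstance, Algebra.Etale.comp A B₁ B₂, ?_, ?_⟩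
  · obtain ⟨q₁, hq₁⟩ := hs₁ p
    obtain ⟨q₂, hq₂⟩ := hs₂ q₁
    refine ⟨q₂, ?_⟩
    rw [← hq₁, ← hq₂]
    rfl
  · refine ⟨C₂⁻¹ * C₁.map (algebraMap B₁ B₂), ?_⟩
    have e1 : W₁.map (algebraMap A B₂) = (W₁.map (algebraMap A B₁)).map (algebraMap B₁ B₂) := by
      rw [WeierstrassCurve.map_map]; rfl
    have e2 : W₂.map (algebraMap A B₂) = (W₂.map (algebraMap A B₁)).map (algebraMap B₁ B₂) := by
      rw [WeierstrassCurve.map_map]; rfl
    rw [mul_smul, e1, WeierstrassCurve.map_variableChange, hC₁, nf_map, e2]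
    rw [inv_smul_eq_iff, hC₂]

end main

end Groth.Agent.Lib.EllJH8
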