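import Mathlib
import Groth.Prelude
import Groth.Agent.Lib.DvrFibre_helper4

set_option autoImplicit false
set_option linter.style.haveILetI false
set_option linter.unusedVariables false
set_option backward.isDefEq.respectTransparency false
set_option maxHeartbeats 800000

universe u

open CategoryTheory CategoryTheory.Limits AlgebraicGeometry TopologicalSpace
open Groth.Agent.Lib.DvrFibreH4

namespace Groth.Agent.Lib.FlatArtinH0H4

section Alg

/-- Flatness and colon ideals: if `t b ∈ J B` then `b ∈ (J : t) B`. -/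
theorem mem_map_colon_of_flat {C B : Type u} [CommRing C] [CommRing B] [Algebra C B]
    [Module.Flat C B] (J K : Ideal C) (t : C) (hK : ∀ c, c * t ∈ J → c ∈ K) (b : B)
    (h : algebraMap C B t * b ∈ J.map (algebraMap C B)) : b ∈ K.map (algebraMap C B) := by
  classical
  have h' : algebraMap C B t * b ∈ Submodule.span B ((algebraMap C B) '' (J : Set C)) := h
  obtain ⟨l, hl, hsum⟩ := (Finsupp.mem_span_image_iff_linearCombination B).1 h'
  rw [Finsupp.linearCombination_apply, Finsupp.sum] at hsum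
  have hsupp : ∀ c ∈ l.support, c ∈ J := fun c hc => (Finsupp.mem_supported B l).1 hl hc
  let f : Option l.support → C := fun o => Option.elim o t (fun c => - (c : C))
  let x : Option l.support → B := fun o => Option.elim o b (fun c => l (c : C))
  have hrel : ∑ o, f o • x o = 0 := by
    rw [Fintype.sum_option]
    show t • b + ∑ c : l.support, (-(c : C)) • l (c : C) = 0
    have e1 : ∑ c : l.support, (-(c : C)) • l (c : C) = ∑ c ∈ l.support, (-c) • l c :=
      Finset.sum_coe_sort l.support (fun c => (-c) • l c)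
    have e2 : ∑ c ∈ l.support, (-c) • l c = - (algebraMap C B t * b) := by
      rw [← hsum, ← Finset.sum_neg_distrib]
      refine Finset.sum_congr rfl fun c _ => ?_
      rw [smul_eq_mul, neg_smul, Algebra.smul_def, mul_comm]
    rw [e1, e2, Algebra.smul_def, add_neg_cancel]
  obtain ⟨k, a, y, hxy, hfa⟩ :=
    Module.Flat.isTrivialRelation_of_sum_smul_eq_zero (R := C) (M := B) (f := f) (x := x) hrel
  have hb : b = ∑ j, a none j • y j := hxy none
  rw [hb]
  refine Ideal.sum_mem _ fun j _ => ?_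
  rw [Algebra.smul_def]
  refine Ideal.mul_mem_right _ _ (Ideal.mem_map_of_mem _ (hK _ ?_))
  have h1 := hfa j
  rw [Fintype.sum_option] at h1
  have h1' : t * a none j + ∑ c : l.support, (-(c : C)) * a (some c) j = 0 := h1
  simp only [neg_mul, Finset.sum_neg_distrib] at h1'
  have h2 : a none j * t = ∑ c : l.support, (c : C) * a (some c) j := by
    linear_combination h1'
  rw [h2]
  exact Ideal.sum_mem _ fun c _ => Ideal.mul_mem_right _ _ (hsupp c c.2)

end Alg

section Sch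

variable {R : Type u} [CommRing R]

lemma phi_flat' {X : Scheme.{u}} (g : X ⟶ Spec (CommRingCat.of R)) [Flat g] {V : X.Opens}
    (hV : IsAffineOpen V) : (phi g V).Flat :=
  (RingHom.Flat.respectsIso.cancel_left_isIso (Scheme.ΓSpecIso (CommRingCat.of R)).inv
    (g.appLE ⊤ V le_top)).mpr (g.flat_appLE (isAffineOpen_top _) hV le_top)

lemma res_res {X : Scheme.{u}} {U V W : X.Opens} (a : V ⟶ U) (b : W ⟶ V) (s : Γ(X, U)) :
    (X.presheaf.map b.op).hom ((X.presheaf.map a.op).hom s) =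
      (X.presheaf.map (homOfLE (b.le.trans a.le)).op).hom s := by
  have h : X.presheaf.map a.op ≫ X.presheaf.map b.op =
      X.presheaf.map (homOfLE (b.le.trans a.le)).op := by
    rw [← X.presheaf.map_comp]; rfl
  rw [← h]; rfl

lemma map_phi {X : Scheme.{u}} (g : X ⟶ Spec (CommRingCat.of R)) {U V : X.Opens} (h : V ≤ U)
    (c : R) : (X.presheaf.map (homOfLE h).op).hom (phi g U c) = phi g V c := by
  have h1 : g.appLE ⊤ U le_top ≫ X.presheaf.map (homOfLE h).op = g.appLE ⊤ V le_top :=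
    Scheme.Hom.appLE_map g le_top (homOfLE h).op
  show (X.presheaf.map (homOfLE h).op).hom ((g.appLE ⊤ U le_top).hom
    ((Scheme.ΓSpecIso (CommRingCat.of R)).inv.hom c)) =
    (g.appLE ⊤ V le_top).hom ((Scheme.ΓSpecIso (CommRingCat.of R)).inv.hom c)
  rw [← h1]; rfl

lemma app_phi {X₀ X : Scheme.{u}} (i : X₀ ⟶ X) (g : X ⟶ Spec (CommRingCat.of R)) (U : X.Opens)
    (c : R) : (i.app U).hom (phi g U c) = phi (i ≫ g) (i ⁻¹ᵁ U) c := by
  have h : g.appLE ⊤ U le_top ≫ i.app U = (i ≫ g).appLE ⊤ (i ⁻¹ᵁ U) le_top := by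
    rw [← Scheme.Hom.appLE_eq_app, Scheme.Hom.appLE_comp_appLE]
  show (i.app U).hom ((g.appLE ⊤ U le_top).hom ((Scheme.ΓSpecIso (CommRingCat.of R)).inv.hom c)) =
    ((i ≫ g).appLE ⊤ (i ⁻¹ᵁ U) le_top).hom ((Scheme.ΓSpecIso (CommRingCat.of R)).inv.hom c)
  rw [← h]; rfl

lemma phi_specMap {R' : Type u} [CommRing R'] (φ : R →+* R') {Y : Scheme.{u}}
    (f : Y ⟶ Spec (CommRingCat.of R')) (W : Y.Opens) (c : R) :
    phi (f ≫ Spec.map (CommRingCat.ofHom φ)) W c = phi f W (φ c) := by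
  have h1 : (f ≫ Spec.map (CommRingCat.ofHom φ)).appLE ⊤ W le_top =
      (Spec.map (CommRingCat.ofHom φ)).appTop ≫ f.appLE ⊤ W le_top := by
    rw [Scheme.Hom.comp_appLE]; rfl
  have h2 := Scheme.ΓSpecIso_inv_naturality (CommRingCat.ofHom φ)
  have h3 : (Scheme.ΓSpecIso (CommRingCat.of R')).inv.hom (φ c) =
      (Spec.map (CommRingCat.ofHom φ)).appTop.hom
        ((Scheme.ΓSpecIso (CommRingCat.of R)).inv.hom c) :=
    congrArg (fun ψ => ψ.hom c) h2
  show ((f ≫ Spec.map (CommRingCat.ofHom φ)).appLE ⊤ W le_top).hom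
      ((Scheme.ΓSpecIso (CommRingCat.of R)).inv.hom c) =
    (f.appLE ⊤ W le_top).hom ((Scheme.ΓSpecIso (CommRingCat.of R')).inv.hom (φ c))
  rw [h1, h3]; rfl

lemma phi_top {X : Scheme.{u}} (g : X ⟶ Spec (CommRingCat.of R)) (c : R) :
    phi g ⊤ c = ((Scheme.ΓSpecIso (CommRingCat.of R)).inv ≫ g.appTop).hom c := by
  have h : g.appLE ⊤ ⊤ le_top = g.appTop := Scheme.Hom.appLE_eq_app g
  show (g.appLE ⊤ ⊤ le_top).hom ((Scheme.ΓSpecIso (CommRingCat.of R)).inv.hom c) = _
  rw [h]; rfl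

lemma res_mem_map {X : Scheme.{u}} (g : X ⟶ Spec (CommRingCat.of R))
    {U V : X.Opens} (h : V ≤ U) (J : Ideal R) (x : Γ(X, U)) (hx : x ∈ J.map (phi g U)) :
    (X.presheaf.map (homOfLE h).op).hom x ∈ J.map (phi g V) := by
  have h1 := Ideal.mem_map_of_mem (X.presheaf.map (homOfLE h).op).hom hx
  rw [Ideal.map_map] at h1
  have hcomp : (X.presheaf.map (homOfLE h).op).hom.comp (phi g U) = phi g V :=
    RingHom.ext fun c => map_phi g h c
  rw [hcomp] at h1
  exact h1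

lemma colon_app {X : Scheme.{u}} (g : X ⟶ Spec (CommRingCat.of R)) [Flat g]
    {V : X.Opens} (hV : IsAffineOpen V) (J K : Ideal R) (t : R) (hK : ∀ c, c * t ∈ J → c ∈ K)
    (x : Γ(X, V)) (h : phi g V t * x ∈ J.map (phi g V)) : x ∈ K.map (phi g V) := by
  letI : Algebra R Γ(X, V) := (phi g V).toAlgebra
  haveI : Module.Flat R Γ(X, V) := phi_flat' g hV
  exact mem_map_colon_of_flat J K t hK x h

lemma app_eq_zero_of_mem (m : Ideal R) {X X₀ : Scheme.{u}}
    (g : X ⟶ Spec (CommRingCat.of R)) (i : X₀ ⟶ X) (f₀ : X₀ ⟶ Spec (CommRingCat.of (R ⧸ m)))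
    (hw : i ≫ g = f₀ ≫ Spec.map (CommRingCat.ofHom (Ideal.Quotient.mk m)))
    (U : X.Opens) (x : Γ(X, U)) (hx : x ∈ m.map (phi g U)) : (i.app U).hom x = 0 := by
  have hle : m.map (phi g U) ≤ RingHom.ker (i.app U).hom := by
    rw [Ideal.map_le_iff_le_comap]
    intro c hc
    rw [Ideal.mem_comap, RingHom.mem_ker, app_phi, hw, phi_specMap,
      Ideal.Quotient.eq_zero_iff_mem.mpr hc, map_zero]
  exact hle hx

lemma appLE_of_comp {Y X₀ X : Scheme.{u}} (l : Y ⟶ X₀) (i : X₀ ⟶ X) (q : Y ⟶ X) (h : l ≫ i = q)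
    (U : X.Opens) (hle : (⊤ : Y.Opens) ≤ q ⁻¹ᵁ U) (x : Γ(X, U)) (hx : (i.app U).hom x = 0) :
    (q.appLE U ⊤ hle).hom x = 0 := by
  subst h
  rw [Scheme.Hom.comp_appLE]
  show (l.appLE (i ⁻¹ᵁ U) ⊤ hle).hom ((i.app U).hom x) = 0
  rw [hx, map_zero]

lemma appLE_quot {X : Scheme.{u}} {U : X.Opens} (hU : IsAffineOpen U) (J : Ideal Γ(X, U))
    (hle : (⊤ : (Spec (CommRingCat.of (Γ(X, U) ⧸ J))).Opens) ≤
      (Spec.map (CommRingCat.ofHom (Ideal.Quotient.mk J)) ≫ hU.fromSpec) ⁻¹ᵁ U) :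
    (Spec.map (CommRingCat.ofHom (Ideal.Quotient.mk J)) ≫ hU.fromSpec).appLE U ⊤ hle =
      CommRingCat.ofHom (Ideal.Quotient.mk J) ≫
        (Scheme.ΓSpecIso (CommRingCat.of (Γ(X, U) ⧸ J))).inv := by
  apply Spec.map_injective
  rw [← cancel_mono hU.fromSpec,
    IsAffineOpen.SpecMap_appLE_fromSpec _ hU (isAffineOpen_top _) hle,
    IsAffineOpen.fromSpec_top, Scheme.isoSpec_Spec_inv, Spec.map_comp, Category.assoc]

/-- The kernel of restriction to the closed fibre is `m Γ(X, U)` on affine opens. -/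
theorem mem_map_of_app_eq_zero (m : Ideal R) {X X₀ : Scheme.{u}}
    (g : X ⟶ Spec (CommRingCat.of R)) (i : X₀ ⟶ X) (f₀ : X₀ ⟶ Spec (CommRingCat.of (R ⧸ m)))
    (hsq : IsPullback i f₀ g (Spec.map (CommRingCat.ofHom (Ideal.Quotient.mk m))))
    {U : X.Opens} (hU : IsAffineOpen U) (x : Γ(X, U)) (hx : (i.app U).hom x = 0) :
    x ∈ m.map (phi g U) := by
  obtain ⟨J, hJ⟩ : ∃ J : Ideal Γ(X, U), J = m.map (phi g U) := ⟨_, rfl⟩
  rw [← hJ]
  let κ' : R ⧸ m →+* Γ(X, U) ⧸ J :=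
    Ideal.quotientMap J (phi g U) (by rw [hJ]; exact Ideal.le_comap_map)
  have hcompat : (Spec.map (CommRingCat.ofHom (Ideal.Quotient.mk J)) ≫ hU.fromSpec) ≫ g =
      Spec.map (CommRingCat.ofHom κ') ≫
        Spec.map (CommRingCat.ofHom (Ideal.Quotient.mk m)) := by
    rw [Category.assoc, fromSpec_comp g hU, ← Spec.map_comp, ← Spec.map_comp]
    congr 1
  have hl := hsq.lift_fst _ _ hcompat
  have hle : (⊤ : (Spec (CommRingCat.of (Γ(X, U) ⧸ J))).Opens) ≤
      (Spec.map (CommRingCat.ofHom (Ideal.Quotient.mk J)) ≫ hU.fromSpec) ⁻¹ᵁ U := by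
    rw [Scheme.Hom.comp_preimage, hU.fromSpec_preimage_self]
    exact fun _ _ => trivial
  have h1 : ((Spec.map (CommRingCat.ofHom (Ideal.Quotient.mk J)) ≫ hU.fromSpec).appLE U ⊤
      hle).hom x = 0 := appLE_of_comp _ i _ hl U hle x hx
  rw [appLE_quot hU J hle] at h1
  have h2 : (Scheme.ΓSpecIso (CommRingCat.of (Γ(X, U) ⧸ J))).inv.hom (Ideal.Quotient.mk J x) = 0 :=
    h1
  have hinj : Function.Injective (Scheme.ΓSpecIso (CommRingCat.of (Γ(X, U) ⧸ J))).inv.hom :=
    (ConcreteCategory.bijective_of_isIso (Scheme.ΓSpecIso (CommRingCat.of (Γ(X, U) ⧸ J))).inv).1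
  have h3 : Ideal.Quotient.mk J x = 0 := hinj (h2.trans (map_zero _).symm)
  exact Ideal.Quotient.eq_zero_iff_mem.mp h3

/-- Gluing sections on `X₀` given on preimages of the affine opens of `X`. -/
theorem exists_glue {X₀ X : Scheme.{u}} (i : X₀ ⟶ X)
    (β : ∀ U : X.affineOpens, Γ(X₀, i ⁻¹ᵁ U.1))
    (hβ : ∀ (U V : X.affineOpens) (h : i ⁻¹ᵁ V.1 ≤ i ⁻¹ᵁ U.1), V.1 ≤ U.1 →
      (X₀.presheaf.map (homOfLE h).op).hom (β U) = β V) :
    ∃ s : Γ(X₀, ⊤), ∀ U : X.affineOpens,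
      (X₀.presheaf.map (homOfLE (le_top : i ⁻¹ᵁ U.1 ≤ ⊤)).op).hom s = β U := by
  have hcover : (⊤ : X₀.Opens) ≤ ⨆ U : X.affineOpens, i ⁻¹ᵁ U.1 := by
    intro x _
    obtain ⟨_, ⟨W, hW, rfl⟩, hxW, -⟩ := (Scheme.isBasis_affineOpens X).exists_subset_of_mem_open
      (Set.mem_univ (i x)) isOpen_univ
    exact Opens.mem_iSup.mpr ⟨⟨W, hW⟩, hxW⟩
  have hcompat : TopCat.Presheaf.IsCompatible X₀.presheaf
      (fun U : X.affineOpens => i ⁻¹ᵁ U.1) β := by
    intro U V
    have hle : ∀ W : {W : X.affineOpens // W.1 ≤ U.1 ⊓ V.1},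
        i ⁻¹ᵁ W.1.1 ≤ i ⁻¹ᵁ U.1 ⊓ i ⁻¹ᵁ V.1 :=
      fun W x hx => ⟨(W.2 hx).1, (W.2 hx).2⟩
    refine X₀.sheaf.eq_of_locally_eq'
      (fun W : {W : X.affineOpens // W.1 ≤ U.1 ⊓ V.1} => i ⁻¹ᵁ W.1.1)
      (i ⁻¹ᵁ U.1 ⊓ i ⁻¹ᵁ V.1) (fun W => homOfLE (hle W)) ?_ _ _ ?_
    · intro x hx
      obtain ⟨_, ⟨W, hW, rfl⟩, hxW, hWUV⟩ :=
        (Scheme.isBasis_affineOpens X).exists_subset_of_mem_open
          (show i x ∈ ((U.1 ⊓ V.1 : X.Opens) : Set X) from ⟨hx.1, hx.2⟩) (U.1 ⊓ V.1).2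
      exact Opens.mem_iSup.mpr ⟨⟨⟨W, hW⟩, hWUV⟩, hxW⟩
    · intro W
      have hWU : W.1.1 ≤ U.1 := W.2.trans inf_le_left
      have hWV : W.1.1 ≤ V.1 := W.2.trans inf_le_right
      have e1 := hβ U W.1 (fun x hx => hWU hx) hWU
      have e2 := hβ V W.1 (fun x hx => hWV hx) hWV
      show (X₀.presheaf.map (homOfLE (hle W)).op).hom
          ((X₀.presheaf.map (Opens.infLELeft _ _).op).hom (β U)) =
        (X₀.presheaf.map (homOfLE (hle W)).op).hom
          ((X₀.presheaf.map (Opens.infLERight _ _).op).hom (β V))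
      rw [res_res, res_res, e1, e2]
  obtain ⟨s, hs, -⟩ := X₀.sheaf.existsUnique_gluing' (fun U : X.affineOpens => i ⁻¹ᵁ U.1) ⊤
    (fun U => homOfLE le_top) hcover β hcompat
  exact ⟨s, hs⟩

end Sch

section Main

variable (C : Type u) [CommRing C] [IsLocalRing C] [IsArtinianRing C] {X X₀ : Scheme.{u}}
  (g : X ⟶ Spec (CommRingCat.of C)) [Flat g] (i : X₀ ⟶ X)
  (f₀ : X₀ ⟶ Spec (CommRingCat.of (C ⧸ IsLocalRing.maximalIdeal C)))
  (hsq : IsPullback i f₀ g
    (Spec.map (CommRingCat.ofHom (Ideal.Quotient.mk (IsLocalRing.maximalIdeal C)))))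

include hsq in
theorem key_claim
    (h0 : Function.Surjective
      ((Scheme.ΓSpecIso (CommRingCat.of (C ⧸ IsLocalRing.maximalIdeal C))).inv ≫ f₀.appTop))
    (I : Ideal C) :
    ∀ σ : Γ(X, ⊤), (∀ U : X.affineOpens,
      (X.presheaf.map (homOfLE (le_top : U.1 ≤ ⊤)).op).hom σ ∈ Ideal.map (phi g U.1) I) →
      ∃ c ∈ I, phi g ⊤ c = σ := by
  refine IsArtinian.induction (R := C) (M := C) (P := fun I : Submodule C C => ∀ σ : Γ(X, ⊤),
    (∀ U : X.affineOpens,
      (X.presheaf.map (homOfLE (le_top : U.1 ≤ ⊤)).op).hom σ ∈ Ideal.map (phi g U.1) I) →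
      ∃ c ∈ I, phi g ⊤ c = σ) ?_ I
  intro I IH σ hσ
  by_cases hI : I = ⊥
  · refine ⟨0, I.zero_mem, ?_⟩
    rw [map_zero]
    symm
    refine X.sheaf.eq_of_locally_eq' (fun U : X.affineOpens => U.1) ⊤
      (fun U => homOfLE le_top) ?_ σ 0 ?_
    · intro x _
      obtain ⟨_, ⟨W, hW, rfl⟩, hxW, -⟩ := (Scheme.isBasis_affineOpens X).exists_subset_of_mem_open
        (Set.mem_univ x) isOpen_univ
      exact Opens.mem_iSup.mpr ⟨⟨W, hW⟩, hxW⟩
    · intro U
      have h1 := hσ U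
      rw [hI, Ideal.map_bot] at h1
      show (X.presheaf.map (homOfLE le_top).op).hom σ = (X.presheaf.map (homOfLE le_top).op).hom 0
      rw [map_zero]
      exact (Ideal.mem_bot).1 h1
  · have hne : ({J : Submodule C C | J < I}).Nonempty := ⟨⊥, bot_lt_iff_ne_bot.mpr hI⟩
    obtain ⟨I', hI'I, hmax⟩ :=
      (set_has_maximal_iff_noetherian (R := C) (M := C)).mpr inferInstance _ hne
    have hI'I' : I' < I := hI'I
    obtain ⟨t, htI, htI'⟩ := SetLike.exists_of_lt hI'I'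
    have hsup : ∀ u ∈ I, u ∉ I' → I' ⊔ Ideal.span {u} = I := by
      intro u hu hu'
      have hle : I' ⊔ Ideal.span {u} ≤ I :=
        sup_le hI'I'.le (Ideal.span_le.mpr (Set.singleton_subset_iff.mpr hu))
      by_contra hne'
      have hlt : I' ⊔ Ideal.span {u} < I := lt_of_le_of_ne hle hne'
      refine hmax _ hlt (lt_of_le_of_ne le_sup_left fun heq => hu' ?_)
      rw [heq]
      exact (le_sup_right : Ideal.span {u} ≤ I' ⊔ Ideal.span {u}) (Ideal.mem_span_singleton_self u)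
    have hmt : ∀ c ∈ IsLocalRing.maximalIdeal C, c * t ∈ I' := by
      intro c hc
      by_contra hct
      have h1 := hsup (c * t) (Ideal.mul_mem_left I c htI) hct
      have h2 : t ∈ I' ⊔ Ideal.span {c * t} := by rw [h1]; exact htI
      obtain ⟨y, hy, z, hz, hyz⟩ := Submodule.mem_sup.mp h2
      obtain ⟨a, rfl⟩ := Ideal.mem_span_singleton'.mp hz
      have hu : IsUnit (1 - a * c) := IsLocalRing.isUnit_one_sub_self_of_mem_nonunits _
        ((IsLocalRing.mem_maximalIdeal _).mp ((IsLocalRing.maximalIdeal C).mul_mem_left a hc))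
      have h3 : (1 - a * c) * t = y := by linear_combination (-1 : C) * hyz
      obtain ⟨v, hv⟩ := hu
      have h4 : t = ↑v⁻¹ * y := by rw [← h3, ← hv, ← mul_assoc, Units.inv_mul, one_mul]
      exact htI' (by rw [h4]; exact Ideal.mul_mem_left I' _ hy)
    have hcolon : ∀ c, c * t ∈ I' → c ∈ IsLocalRing.maximalIdeal C := by
      intro c hc
      by_contra hcm
      obtain ⟨v, hv⟩ := IsLocalRing.notMem_maximalIdeal.mp hcm
      have h4 : t = ↑v⁻¹ * (c * t) := by rw [← hv, ← mul_assoc, Units.inv_mul, one_mul]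
      exact htI' (by rw [h4]; exact Ideal.mul_mem_left I' _ hc)
    have hdecomp : ∀ U : X.affineOpens, ∃ b : Γ(X, U.1),
        (X.presheaf.map (homOfLE (le_top : U.1 ≤ ⊤)).op).hom σ - phi g U.1 t * b ∈
          Ideal.map (phi g U.1) I' := by
      intro U
      have h1 := hσ U
      rw [← hsup t htI htI', Ideal.map_sup, Ideal.map_span, Set.image_singleton] at h1
      obtain ⟨y, hy, z, hz, hyz⟩ := Submodule.mem_sup.mp h1
      obtain ⟨a, rfl⟩ := Ideal.mem_span_singleton'.mp hz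
      refine ⟨a, ?_⟩
      rw [← hyz, mul_comm, add_sub_cancel_right]
      exact hy
    choose b hb using hdecomp
    have hker : ∀ (U : X.Opens) (x : Γ(X, U)),
        x ∈ Ideal.map (phi g U) (IsLocalRing.maximalIdeal C) → (i.app U).hom x = 0 :=
      fun U x hx => app_eq_zero_of_mem _ g i f₀ hsq.w U x hx
    have hβ : ∀ (U V : X.affineOpens) (h : i ⁻¹ᵁ V.1 ≤ i ⁻¹ᵁ U.1), V.1 ≤ U.1 →
        (X₀.presheaf.map (homOfLE h).op).hom ((i.app U.1).hom (b U)) = (i.app V.1).hom (b V) := by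
      intro U V h hVU
      have hnat : (X₀.presheaf.map (homOfLE h).op).hom ((i.app U.1).hom (b U)) =
          (i.app V.1).hom ((X.presheaf.map (homOfLE hVU).op).hom (b U)) := by
        have h9 := congrArg (fun ψ => ψ.hom (b U)) (i.naturality (homOfLE hVU).op)
        exact h9.symm
      rw [hnat]
      have h1 := res_mem_map g hVU I' _ (hb U)
      have hσV : (X.presheaf.map (homOfLE hVU).op).hom
          ((X.presheaf.map (homOfLE (le_top : U.1 ≤ ⊤)).op).hom σ) =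
          (X.presheaf.map (homOfLE (le_top : V.1 ≤ ⊤)).op).hom σ := res_res _ _ σ
      rw [map_sub, map_mul, hσV, map_phi] at h1
      have h2 := hb V
      have h3 : phi g V.1 t * (b V - (X.presheaf.map (homOfLE hVU).op).hom (b U)) ∈
          Ideal.map (phi g V.1) I' := by
        have h8 := Ideal.sub_mem _ h1 h2
        convert h8 using 1; ring
      have h4 := colon_app g V.2 I' (IsLocalRing.maximalIdeal C) t hcolon _ h3
      have h5 := hker V.1 _ h4
      rw [map_sub, sub_eq_zero] at h5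
      exact h5.symm
    obtain ⟨s₀, hs₀⟩ := exists_glue i (fun U => (i.app U.1).hom (b U)) hβ
    have hs₀'' : ∀ U : X.affineOpens,
        (X₀.presheaf.map (homOfLE (le_top : i ⁻¹ᵁ U.1 ≤ ⊤)).op).hom s₀ = (i.app U.1).hom (b U) :=
      hs₀
    obtain ⟨cbar, hcbar⟩ := h0 s₀
    obtain ⟨c₀, rfl⟩ := Ideal.Quotient.mk_surjective cbar
    have hs₀' : s₀ = phi (i ≫ g) ⊤ c₀ := by
      rw [hsq.w, phi_specMap, phi_top]; exact hcbar.symm
    have hbU : ∀ U : X.affineOpens, b U - phi g U.1 c₀ ∈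
        Ideal.map (phi g U.1) (IsLocalRing.maximalIdeal C) := by
      intro U
      refine mem_map_of_app_eq_zero _ g i f₀ hsq U.2 _ ?_
      rw [map_sub, app_phi, sub_eq_zero, ← hs₀'' U, hs₀', map_phi]
    have hσ' : ∀ U : X.affineOpens,
        (X.presheaf.map (homOfLE (le_top : U.1 ≤ ⊤)).op).hom (σ - phi g ⊤ (t * c₀)) ∈
          Ideal.map (phi g U.1) I' := by
      intro U
      rw [map_sub, map_phi, map_mul]
      have h1 := hb U
      have h2 : phi g U.1 t * (b U - phi g U.1 c₀) ∈ Ideal.map (phi g U.1) I' := by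
        have h3 : Ideal.span {t} * IsLocalRing.maximalIdeal C ≤ I' := by
          rw [Ideal.span_singleton_mul_le_iff]
          intro z hz; rw [mul_comm]; exact hmt z hz
        have h4 : phi g U.1 t * (b U - phi g U.1 c₀) ∈
            Ideal.map (phi g U.1) (Ideal.span {t} * IsLocalRing.maximalIdeal C) := by
          rw [Ideal.map_mul]
          exact Ideal.mul_mem_mul (Ideal.mem_map_of_mem _ (Ideal.mem_span_singleton_self t))
            (hbU U)
        exact Ideal.map_mono h3 h4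
      have h5 := Ideal.add_mem _ h1 h2
      convert h5 using 1; ring
    obtain ⟨c', hc'I', hc'⟩ := IH I' hI'I' _ hσ'
    refine ⟨c' + t * c₀, I.add_mem (hI'I'.le hc'I') (Ideal.mul_mem_right _ I htI), ?_⟩
    rw [map_add, hc', sub_add_cancel]

include hsq in
theorem main11468
    (h0 : Function.Bijective
      ((Scheme.ΓSpecIso (CommRingCat.of (C ⧸ IsLocalRing.maximalIdeal C))).inv ≫ f₀.appTop)) :
    Function.Bijective ((Scheme.ΓSpecIso (CommRingCat.of C)).inv ≫ g.appTop) := by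
  have hker : ∀ (U : X.Opens) (x : Γ(X, U)),
      x ∈ Ideal.map (phi g U) (IsLocalRing.maximalIdeal C) → (i.app U).hom x = 0 :=
    fun U x hx => app_eq_zero_of_mem _ g i f₀ hsq.w U x hx
  constructor
  · refine (injective_iff_map_eq_zero
      ((Scheme.ΓSpecIso (CommRingCat.of C)).inv ≫ g.appTop).hom).mpr ?_
    intro c hc
    have hphi : phi g ⊤ c = 0 := by rw [phi_top]; exact hc
    haveI : Nontrivial (C ⧸ IsLocalRing.maximalIdeal C) :=
      Ideal.Quotient.nontrivial_iff.mpr (IsLocalRing.maximalIdeal.isMaximal C).ne_top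
    have hne : Nonempty X₀ := by
      by_contra hemp
      have htop : (⊤ : X₀.Opens) = ⊥ := by
        ext x; exact (hemp ⟨x⟩).elim
      haveI : Subsingleton Γ(X₀, ⊤) := by rw [htop]; infer_instance
      have h01 := h0.1 (Subsingleton.elim
        (((Scheme.ΓSpecIso (CommRingCat.of (C ⧸ IsLocalRing.maximalIdeal C))).inv ≫ f₀.appTop) 0)
        (((Scheme.ΓSpecIso (CommRingCat.of (C ⧸ IsLocalRing.maximalIdeal C))).inv ≫ f₀.appTop) 1))
      exact zero_ne_one h01
    obtain ⟨x₀⟩ := hne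
    obtain ⟨_, ⟨U, hU, rfl⟩, hxU, -⟩ := (Scheme.isBasis_affineOpens X).exists_subset_of_mem_open
      (Set.mem_univ (i x₀)) isOpen_univ
    by_contra hc0
    have h1 : phi g U c = 0 := by
      rw [← map_phi g (le_top : U ≤ ⊤) c, hphi, map_zero]
    have h2 : (1 : Γ(X, U)) ∈ Ideal.map (phi g U) (IsLocalRing.maximalIdeal C) := by
      refine colon_app g hU ⊥ (IsLocalRing.maximalIdeal C) c ?_ 1 ?_
      · intro a ha
        by_contra ham
        obtain ⟨v, hv⟩ := IsLocalRing.notMem_maximalIdeal.mp ham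
        apply hc0
        have ha' : a * c = 0 := (Ideal.mem_bot).1 ha
        rw [← hv] at ha'
        exact (Units.mul_right_eq_zero v).mp ha'
      · rw [h1, zero_mul]; exact Ideal.zero_mem _
    have h3 := hker U 1 h2
    rw [map_one] at h3
    have hgerm := congrArg (X₀.presheaf.germ (i ⁻¹ᵁ U) x₀ hxU).hom h3
    rw [map_one, map_zero] at hgerm
    exact one_ne_zero hgerm
  · intro σ
    obtain ⟨c, -, hc⟩ := key_claim C g i f₀ hsq h0.2 ⊤ σ
      (fun U => by rw [Ideal.map_top]; trivial)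
    exact ⟨c, by rw [← hc, phi_top]⟩

end Main

end Groth.Agent.Lib.FlatArtinH0H4
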