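import Mathlib
import Groth.Prelude
import Groth.Agent.S11468
import Groth.Agent.Lib.FFGamma2_helper8

/-!
# S14285 (lead): `R → Γ(X, O_X)` is bijective for `X` proper and flat over a Noetherian local ring
`R` whose closed fibre has `Γ(X₀, O) = k`.

Ingredients: helper8's Γ-level consequence of the theorem on formal functions (`exists_levels`:
a global function vanishing on a high infinitesimal neighbourhood of the closed fibre lies in
`𝔪 Γ(X, O_X)`), helper4's Artinian case `S11468` applied to all `R/𝔪^j`, Nakayama and Krull's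
intersection theorem. (Completeness of `R` is not needed.)
-/

set_option autoImplicit false
set_option maxHeartbeats 1600000
set_option linter.style.haveILetI false
universe u
open CategoryTheory CategoryTheory.Limits AlgebraicGeometry

namespace Groth.Agent.Lib.EllLiftH0L

open Groth.Agent.Lib.FFGammaH8

section Res

variable (R : Type u) [CommRing R] [IsLocalRing R]

theorem pow_ne_top {j : ℕ} (hj : j ≠ 0) : IsLocalRing.maximalIdeal R ^ j ≠ ⊤ :=
  ne_top_of_le_ne_top (IsLocalRing.maximalIdeal.isMaximal R).ne_top (Ideal.pow_le_self hj)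

theorem isLocalRing_quot {j : ℕ} (hj : j ≠ 0) :
    IsLocalRing (R ⧸ IsLocalRing.maximalIdeal R ^ j) := by
  haveI : Nontrivial (R ⧸ IsLocalRing.maximalIdeal R ^ j) :=
    Ideal.Quotient.nontrivial_iff.mpr (pow_ne_top R hj)
  exact IsLocalRing.of_surjective' (Ideal.Quotient.mk _) Ideal.Quotient.mk_surjective

variable (I : Ideal R) [IsLocalRing (R ⧸ I)]

theorem mk_mem_maximalIdeal_iff (hI : I ≤ IsLocalRing.maximalIdeal R) (r : R) :
    Ideal.Quotient.mk I r ∈ IsLocalRing.maximalIdeal (R ⧸ I) ↔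
      r ∈ IsLocalRing.maximalIdeal R := by
  rw [IsLocalRing.mem_maximalIdeal, IsLocalRing.mem_maximalIdeal, mem_nonunits_iff,
    mem_nonunits_iff, not_iff_not]
  constructor
  · intro h
    obtain ⟨c, hc⟩ := h.exists_right_inv
    obtain ⟨s, rfl⟩ := Ideal.Quotient.mk_surjective c
    rw [← map_mul, ← map_one (Ideal.Quotient.mk I), Ideal.Quotient.eq] at hc
    by_contra hr
    have hr' : r ∈ IsLocalRing.maximalIdeal R := by
      rwa [IsLocalRing.mem_maximalIdeal, mem_nonunits_iff]
    have h1 : r * s - 1 ∈ IsLocalRing.maximalIdeal R := hI hc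
    have h2 : (1 : R) ∈ IsLocalRing.maximalIdeal R := by
      have := Ideal.sub_mem _ (Ideal.mul_mem_right s _ hr') h1
      simpa using this
    exact (IsLocalRing.maximalIdeal.isMaximal R).ne_top ((Ideal.eq_top_iff_one _).mpr h2)
  · intro h
    exact h.map _

/-- the comparison of residue fields `(R/I)/𝔪_{R/I} → R/𝔪` -/
noncomputable def resHom (hI : I ≤ IsLocalRing.maximalIdeal R) :
    (R ⧸ I) ⧸ IsLocalRing.maximalIdeal (R ⧸ I) →+* R ⧸ IsLocalRing.maximalIdeal R :=
  Ideal.Quotient.lift _ (Ideal.Quotient.factor hI) (by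
    intro a ha
    obtain ⟨r, rfl⟩ := Ideal.Quotient.mk_surjective a
    rw [Ideal.Quotient.factor_mk, Ideal.Quotient.eq_zero_iff_mem]
    exact (mk_mem_maximalIdeal_iff R I hI r).mp ha)

theorem resHom_mk_mk (hI : I ≤ IsLocalRing.maximalIdeal R) (r : R) :
    resHom R I hI (Ideal.Quotient.mk _ (Ideal.Quotient.mk I r)) =
      Ideal.Quotient.mk (IsLocalRing.maximalIdeal R) r := rfl

theorem resHom_bijective (hI : I ≤ IsLocalRing.maximalIdeal R) :
    Function.Bijective (resHom R I hI) := by
  constructor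
  · rw [injective_iff_map_eq_zero]
    intro x hx
    obtain ⟨a, rfl⟩ := Ideal.Quotient.mk_surjective x
    obtain ⟨r, rfl⟩ := Ideal.Quotient.mk_surjective a
    rw [resHom_mk_mk, Ideal.Quotient.eq_zero_iff_mem] at hx
    rw [Ideal.Quotient.eq_zero_iff_mem]
    exact (mk_mem_maximalIdeal_iff R I hI r).mpr hx
  · intro y
    obtain ⟨r, rfl⟩ := Ideal.Quotient.mk_surjective y
    exact ⟨_, resHom_mk_mk R I hI r⟩

/-- `Spec (R/𝔪) ⟶ Spec ((R/I)/𝔪_{R/I})` -/
noncomputable def resSpec (hI : I ≤ IsLocalRing.maximalIdeal R) :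
    Spec (CommRingCat.of (R ⧸ IsLocalRing.maximalIdeal R)) ⟶
      Spec (CommRingCat.of ((R ⧸ I) ⧸ IsLocalRing.maximalIdeal (R ⧸ I))) :=
  Spec.map (CommRingCat.ofHom (resHom R I hI))

instance isIso_resSpec (hI : I ≤ IsLocalRing.maximalIdeal R) : IsIso (resSpec R I hI) := by
  haveI : IsIso (CommRingCat.ofHom (resHom R I hI)) :=
    (ConcreteCategory.isIso_iff_bijective _).mpr (resHom_bijective R I hI)
  unfold resSpec
  infer_instance

theorem resSpec_comp (hI : I ≤ IsLocalRing.maximalIdeal R) :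
    resSpec R I hI ≫
      Spec.map (CommRingCat.ofHom (Ideal.Quotient.mk (IsLocalRing.maximalIdeal (R ⧸ I)))) ≫
        Spec.map (CommRingCat.ofHom (Ideal.Quotient.mk I)) =
      Spec.map (CommRingCat.ofHom (Ideal.Quotient.mk (IsLocalRing.maximalIdeal R))) := by
  unfold resSpec
  rw [← Spec.map_comp, ← Spec.map_comp]
  congr 1

end Res

section Art

variable (R : Type u) [CommRing R] [IsLocalRing R] [IsNoetherianRing R]

theorem isArtinianRing_quot {j : ℕ} (hj : j ≠ 0) :
    IsArtinianRing (R ⧸ IsLocalRing.maximalIdeal R ^ j) := by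
  haveI := isLocalRing_quot R hj
  rw [isArtinianRing_iff_isNilpotent_maximalIdeal]
  refine ⟨j, ?_⟩
  rw [Ideal.zero_eq_bot, eq_bot_iff]
  have h1 : IsLocalRing.maximalIdeal (R ⧸ IsLocalRing.maximalIdeal R ^ j) ≤
      (IsLocalRing.maximalIdeal R).map (Ideal.Quotient.mk (IsLocalRing.maximalIdeal R ^ j)) := by
    intro a ha
    obtain ⟨r, rfl⟩ := Ideal.Quotient.mk_surjective a
    exact Ideal.mem_map_of_mem _
      ((mk_mem_maximalIdeal_iff R _ (Ideal.pow_le_self hj) r).mp ha)
  calc IsLocalRing.maximalIdeal (R ⧸ IsLocalRing.maximalIdeal R ^ j) ^ j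
      ≤ ((IsLocalRing.maximalIdeal R).map
          (Ideal.Quotient.mk (IsLocalRing.maximalIdeal R ^ j))) ^ j := Ideal.pow_right_mono h1 j
    _ = (IsLocalRing.maximalIdeal R ^ j).map
          (Ideal.Quotient.mk (IsLocalRing.maximalIdeal R ^ j)) := (Ideal.map_pow _ _ _).symm
    _ = ⊥ := Ideal.map_quotient_self _

end Art

section Main

variable (R : Type u) [CommRing R] [IsLocalRing R] [IsNoetherianRing R]
  {X X₀ : Scheme.{u}} (g : X ⟶ Spec (CommRingCat.of R))

theorem compat (I : Ideal R) :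
    ((Scheme.ΓSpecIso (CommRingCat.of R)).inv ≫ g.appTop) ≫ (iK g I).appTop =
      CommRingCat.ofHom (Ideal.Quotient.mk I) ≫
        (Scheme.ΓSpecIso (CommRingCat.of (R ⧸ I))).inv ≫
          (pullback.snd g (Spec.map (CommRingCat.ofHom (Ideal.Quotient.mk I)))).appTop := by
  rw [Category.assoc, ← Scheme.Hom.comp_appTop,
    show iK g I ≫ g = pullback.snd g (Spec.map (CommRingCat.ofHom (Ideal.Quotient.mk I))) ≫
      Spec.map (CommRingCat.ofHom (Ideal.Quotient.mk I)) from pullback.condition,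
    Scheme.Hom.comp_appTop, Scheme.ΓSpecIso_inv_naturality_assoc]

variable [IsProper g] [Flat g]
  (i : X₀ ⟶ X) (f₀ : X₀ ⟶ Spec (CommRingCat.of (R ⧸ IsLocalRing.maximalIdeal R)))
  (hsq : IsPullback i f₀ g
    (Spec.map (CommRingCat.ofHom (Ideal.Quotient.mk (IsLocalRing.maximalIdeal R)))))
  (h0 : Function.Bijective
    ((Scheme.ΓSpecIso (CommRingCat.of (R ⧸ IsLocalRing.maximalIdeal R))).inv ≫ f₀.appTop))

include hsq h0 in
theorem level_bijective {j : ℕ} (hj : j ≠ 0) :
    Function.Bijective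
      ((Scheme.ΓSpecIso (CommRingCat.of (R ⧸ IsLocalRing.maximalIdeal R ^ j))).inv ≫
        (pullback.snd g (Spec.map (CommRingCat.ofHom
          (Ideal.Quotient.mk (IsLocalRing.maximalIdeal R ^ j))))).appTop) := by
  have hI : IsLocalRing.maximalIdeal R ^ j ≤ IsLocalRing.maximalIdeal R := Ideal.pow_le_self hj
  haveI := isLocalRing_quot R hj
  haveI := isArtinianRing_quot R hj
  have s : IsPullback i (f₀ ≫ resSpec R _ hI) g
      (Spec.map (CommRingCat.ofHom (Ideal.Quotient.mk
          (IsLocalRing.maximalIdeal (R ⧸ IsLocalRing.maximalIdeal R ^ j)))) ≫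
        Spec.map (CommRingCat.ofHom (Ideal.Quotient.mk (IsLocalRing.maximalIdeal R ^ j)))) :=
    hsq.of_iso (Iso.refl _) (Iso.refl _) (asIso (resSpec R _ hI)) (Iso.refl _)
      (by simp) (by simp) (by simp)
      (by rw [Iso.refl_hom, Category.comp_id, asIso_hom]; exact (resSpec_comp R _ hI).symm)
  have t := IsPullback.of_hasPullback g
    (Spec.map (CommRingCat.ofHom (Ideal.Quotient.mk (IsLocalRing.maximalIdeal R ^ j))))
  have hsq' := IsPullback.of_right' s t
  haveI : IsIso ((Scheme.ΓSpecIso (CommRingCat.of (R ⧸ IsLocalRing.maximalIdeal R))).inv ≫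
      f₀.appTop) := (ConcreteCategory.isIso_iff_bijective _).mpr h0
  haveI : IsIso f₀.appTop := IsIso.of_isIso_comp_left
    (Scheme.ΓSpecIso (CommRingCat.of (R ⧸ IsLocalRing.maximalIdeal R))).inv f₀.appTop
  have h0' : Function.Bijective
      ((Scheme.ΓSpecIso (CommRingCat.of ((R ⧸ IsLocalRing.maximalIdeal R ^ j) ⧸
        IsLocalRing.maximalIdeal (R ⧸ IsLocalRing.maximalIdeal R ^ j)))).inv ≫
        (f₀ ≫ resSpec R _ hI).appTop) := by
    rw [← ConcreteCategory.isIso_iff_bijective, Scheme.Hom.comp_appTop]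
    haveI : IsIso (resSpec R _ hI).appTop := by
      show IsIso ((resSpec R _ hI).app ⊤)
      infer_instance
    infer_instance
  exact Groth.Agent.S11468.result (R ⧸ IsLocalRing.maximalIdeal R ^ j) _ X₀
    (pullback.snd g _) _ (f₀ ≫ resSpec R _ hI) hsq' h0'

include hsq h0 in
/-- **S14285** (completeness of `R` is not needed) -/
theorem main14285 :
    Function.Bijective ((Scheme.ΓSpecIso (CommRingCat.of R)).inv ≫ g.appTop) := by
  obtain ⟨n, n', hnn', hn1, ha, -⟩ := exists_levels R (IsLocalRing.maximalIdeal R) g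
  have hn0 : n ≠ 0 := by omega
  have hcompat : ∀ (j : ℕ) (r : R), (iK g (IsLocalRing.maximalIdeal R ^ j)).appTop.hom (tG R g r) =
      ((Scheme.ΓSpecIso (CommRingCat.of (R ⧸ IsLocalRing.maximalIdeal R ^ j))).inv ≫
        (pullback.snd g (Spec.map (CommRingCat.ofHom
          (Ideal.Quotient.mk (IsLocalRing.maximalIdeal R ^ j))))).appTop)
        (Ideal.Quotient.mk (IsLocalRing.maximalIdeal R ^ j) r) := by
    intro j r
    have := congrArg (fun F => F.hom r) (compat R g (IsLocalRing.maximalIdeal R ^ j))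
    exact this
  constructor
  · show Function.Injective (tG R g)
    rw [injective_iff_map_eq_zero]
    intro r hr
    have hmem : ∀ j : ℕ, r ∈ IsLocalRing.maximalIdeal R ^ j := by
      intro j
      rcases Nat.eq_zero_or_pos j with rfl | hj
      · simp
      · have h1 := hcompat j r
        rw [hr, map_zero] at h1
        have h2 := (level_bijective R g i f₀ hsq h0 (Nat.pos_iff_ne_zero.mp hj)).1
        have h3 : Ideal.Quotient.mk (IsLocalRing.maximalIdeal R ^ j) r = 0 :=
          h2 (h1.symm.trans (map_zero _).symm)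
        exact Ideal.Quotient.eq_zero_iff_mem.mp h3
    have h4 : r ∈ ⨅ j : ℕ, IsLocalRing.maximalIdeal R ^ j := Ideal.mem_iInf.mpr hmem
    rw [Ideal.iInf_pow_eq_bot_of_isLocalRing (IsLocalRing.maximalIdeal R)
      (IsLocalRing.maximalIdeal.isMaximal R).ne_top] at h4
    exact h4
  · show Function.Surjective (tG R g)
    letI : Algebra R Γ(X, ⊤) := (tG R g).toAlgebra
    haveI : Module.Finite R Γ(X, ⊤) := SteinFinH3.finite_comp_of_isProper R g
    have hsurj := (level_bijective R g i f₀ hsq h0 hn0).2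
    have key : (⊤ : Submodule R Γ(X, ⊤)) ≤ LinearMap.range (Algebra.linearMap R Γ(X, ⊤)) := by
      apply Submodule.le_of_le_smul_of_le_jacobson_bot (I := IsLocalRing.maximalIdeal R)
        Module.Finite.fg_top (IsLocalRing.maximalIdeal_le_jacobson ⊥)
      intro c _
      obtain ⟨a, hac⟩ := hsurj ((iK g (IsLocalRing.maximalIdeal R ^ n)).appTop.hom c)
      obtain ⟨r, rfl⟩ := Ideal.Quotient.mk_surjective a
      have h1 : (iK g (IsLocalRing.maximalIdeal R ^ n)).appTop.hom (c - tG R g r) = 0 := by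
        rw [map_sub, hcompat n r, hac, sub_self]
      have h2 := ha (c - tG R g r) h1
      have h3 : c - tG R g r ∈ (IsLocalRing.maximalIdeal R • ⊤ : Submodule R Γ(X, ⊤)) := by
        rw [Ideal.smul_top_eq_map]
        exact h2
      have h5 : c = tG R g r + (c - tG R g r) := by ring
      rw [h5]
      exact Submodule.add_mem_sup (LinearMap.mem_range.mpr ⟨r, rfl⟩) h3
    intro c
    obtain ⟨r, hr⟩ := LinearMap.mem_range.mp (key (Submodule.mem_top : c ∈ ⊤))
    exact ⟨r, hr⟩

end Main

end Groth.Agent.Lib.EllLiftH0L
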