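import Mathlib
import Groth.Prelude
import Groth.Agent.Lib.EllPic3_helper9
import Groth.Agent.Lib.VBCurve3_helper9

/-!
# Degree-zero invertible modules on a genus-one curve are `O(P - O)` for a unique rational point
(helper9).  APPEND-ONLY once landed.
-/

set_option autoImplicit false
universe u
open CategoryTheory CategoryTheory.Limits AlgebraicGeometry Opposite TopologicalSpace

namespace EllPic

section Main

variable (k : Type u) [Field k] (X : Scheme.{u}) [X.Over (Spec (CommRingCat.of k))]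
  [IsIntegral X] [IsProper (X ↘ Spec (CommRingCat.of k))]

theorem main (hdim : topologicalKrullDim X = 1) (hg : Curv2.genus k X = 1)
    (hreg : ∀ x : X, IsClosed ({x} : Set X) → IsRegularLocalRing (X.presheaf.stalk x))
    (O : X) (hOc : IsClosed ({O} : Set X)) (hO : Function.Bijective (Curv2.resMap k X O))
    (L : X.Modules) (hL : PicF.IsInvertible L) (hdeg : Curv2.deg k X L 1 = 0) :
    ∃! P : {x : X // IsClosed ({x} : Set X) ∧ Function.Bijective (Curv2.resMap k X x)},
      Nonempty (CohB1.tensorMod L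
        (ClSub.idealMod (Scheme.IdealSheafData.vanishingIdeal ⟨{P.1}, P.2.1⟩)) ≅
        ClSub.idealMod (Scheme.IdealSheafData.vanishingIdeal ⟨{O}, hOc⟩)) := by
  obtain ⟨q, hq, hqrat, ⟨eq⟩⟩ := exists_point k X hdim hg hreg O hOc hO.2 L hL hdeg
  refine ⟨⟨q, hq, hqrat⟩, ⟨eq⟩, ?_⟩
  rintro ⟨q', hq', hq'rat⟩ ⟨eq'⟩
  have h0 := EllPt.finrank_HH0_structureModule k X O hO.2
  obtain ⟨L', -, ⟨eL⟩⟩ := Groth.Agent.InvTensP.exists_inverse L hL
  haveI : (Groth.Agent.TensInv.tL L).IsEquivalence := Groth.Agent.TensInv.isEquivalence_tL ⟨eL⟩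
  have φ : ClSub.idealMod (Scheme.IdealSheafData.vanishingIdeal ⟨{q}, hq⟩) ≅
      ClSub.idealMod (Scheme.IdealSheafData.vanishingIdeal ⟨{q'}, hq'⟩) :=
    (Groth.Agent.TensInv.tL L).preimageIso (eq ≪≫ eq'.symm)
  have hq1 : ptDeg k X q hq = 1 :=
    ptDeg_eq_one_of_rational k X hdim hq (hreg q hq) hqrat.2
  have := point_eq_of_iso k X hdim hg h0 hreg hq hq' hq1 φ
  subst this
  rfl

end Main

end EllPic
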