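import Mathlib
import Groth.Prelude
import Groth.Agent.Lib.P1Split1_helper9

/-!
# Splitting type of vector bundles on `P^1_k`: existence and uniqueness (helper9)
APPEND-ONLY once landed.
-/

set_option autoImplicit false
universe u
open CategoryTheory CategoryTheory.Limits AlgebraicGeometry TopologicalSpace Opposite Abelian

namespace Groth.Agent.P1Split

open Groth.Agent.HHVan Groth.Agent.CMReg Groth.Agent.ProjTens Groth.Agent.TensInv
  Groth.Agent.ExtDual Groth.Agent.ProjFin Groth.Agent.ProjInt Groth.Agent.ProjDual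
  Groth.Agent.ProjCech

section Comb

variable {r : ℕ}

/-- the number of entries `≥ c` -/
def cnt (d : Fin r → ℤ) (c : ℤ) : ℕ := (Finset.univ.filter (fun j => c ≤ d j)).card

lemma cnt_eq (d : Fin r → ℤ) (c : ℤ) :
    (cnt d c : ℤ) = (∑ j, ((d j + (-c) + 1).toNat : ℤ)) -
      ∑ j, ((d j + (-c - 1) + 1).toNat : ℤ) := by
  unfold cnt
  rw [Finset.card_filter, ← Finset.sum_sub_distrib]
  push_cast
  apply Finset.sum_congr rfl
  intro j _
  split_ifs <;> omega

lemma not_lt_of_cnt {d d' : Fin r → ℤ} (hd : Antitone d) (hd' : Antitone d')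
    (h : ∀ c, cnt d c = cnt d' c) (i : Fin r) : ¬ (d' i < d i) := by
  intro hlt
  have h1 : (i : ℕ) + 1 ≤ cnt d (d i) := by
    unfold cnt
    rw [← Fin.card_Iic]
    apply Finset.card_le_card
    intro j hj
    rw [Finset.mem_filter]
    exact ⟨Finset.mem_univ _, hd (Finset.mem_Iic.mp hj)⟩
  have h2 : cnt d' (d i) ≤ (i : ℕ) := by
    unfold cnt
    rw [← Fin.card_Iio]
    apply Finset.card_le_card
    intro j hj
    rw [Finset.mem_filter] at hj
    rw [Finset.mem_Iio]
    by_contra hji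
    have h3 := hd' (not_lt.mp hji)
    omega
  rw [h] at h1
  omega

theorem eq_of_sums {d d' : Fin r → ℤ} (hd : Antitone d) (hd' : Antitone d')
    (h : ∀ t : ℤ, ∑ j, (d j + t + 1).toNat = ∑ j, (d' j + t + 1).toNat) : d = d' := by
  have hc : ∀ c, cnt d c = cnt d' c := fun c => by
    have h1 := h (-c)
    have h2 := h (-c - 1)
    have h3 := cnt_eq d c
    have h4 := cnt_eq d' c
    zify at h1 h2
    rw [h1, h2] at h3
    have h5 : (cnt d c : ℤ) = cnt d' c := h3.trans h4.symm
    exact_mod_cast h5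
  funext i
  exact le_antisymm (not_lt.mp (not_lt_of_cnt hd hd' hc i))
    (not_lt.mp (not_lt_of_cnt hd' hd (fun c => (hc c).symm) i))

end Comb

section P1

variable (k : Type u) [Field k]

/-- `h^0(P^1, O(m)) = max(m + 1, 0)` -/
theorem finrank_h0_OO (m : ℤ) :
    Module.finrank k (Coh.HH (CohB1.ProjSpace 1 k) (OO 1 k m) 0) = (m + 1).toNat := by
  rcases lt_or_ge m 0 with hm | hm
  · haveI : Subsingleton (Coh.HH (CohB1.ProjSpace 1 k) (OO 1 k m) 0) :=
      subsingleton_HH_twist (n := 1) (R := k) m 0 (by omega) (by omega)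
    rw [Module.finrank_zero_of_subsingleton]
    omega
  · obtain ⟨t, rfl⟩ := Int.eq_ofNat_of_zero_le hm
    have h : Module.finrank k (Coh.HH (CohB1.ProjSpace 1 k) (OO 1 k (t : ℤ)) 0) =
        (t + 1).choose 1 := Groth.Agent.ProjEuler.finrank_HH_zero k 1 t
    rw [Nat.choose_one_right] at h
    rw [h]
    omega

/-- `h^0` of a twisted sum of twisting sheaves on `P^1` -/
theorem finrank_h0_sum_twists {r : ℕ} (d : Fin r → ℤ) (t : ℤ) :
    Module.finrank k (Coh.HH (CohB1.ProjSpace 1 k)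
      (CohB1.tensorMod (∐ fun j => OO 1 k (d j)) (OO 1 k t)) 0) =
      ∑ j, (d j + t + 1).toNat := by
  haveI : ∀ j, Module.Finite k (Coh.HH (CohB1.ProjSpace 1 k)
      ((tR (OO 1 k t)).obj (OO 1 k (d j))) 0) := fun j =>
    finite_HH k 1 _ (Groth.Agent.RegZero.isCoh_twistBy 1 k _
      (Groth.Agent.Horrocks.isCoh_OO 1 k (d j)) t) 0
  have h := finrank_HH_sigma k (tR (OO 1 k t)) (fun j => OO 1 k (d j)) 0
  refine h.trans (Finset.sum_congr rfl (fun j _ => ?_))
  obtain ⟨e⟩ := twist_add' 1 k (d j) t (d j + t) rfl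
  exact (finrank_HH_of_iso k e 0).trans (finrank_h0_OO k (d j + t))

/-- **Grothendieck's theorem**: a finite locally free module of rank `r` on `P^1_k` is a direct
sum of twisting sheaves `O(d_1) ⊕ ⋯ ⊕ O(d_r)` for a unique non-increasing sequence `d`. -/
theorem existsUnique_splitting (r : ℕ) (E : (CohB1.ProjSpace 1 k).Modules)
    (hE : FlatMod.IsFinLocFreeOfRank r E) :
    ∃! d : Fin r → ℤ, Antitone d ∧ Nonempty (E ≅ ∐ fun i : Fin r => OO 1 k (d i)) := by
  obtain ⟨a, ⟨e⟩⟩ := (Groth.Agent.Horrocks.horrocks_flf 1 k r E hE).mpr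
    (fun i d hi hin => by omega)
  have hmono := Tuple.monotone_sort (fun j => - a j)
  have hanti : Antitone (a ∘ Tuple.sort (fun j => - a j)) := by
    intro i j hij
    have h1 := hmono hij
    simp only [Function.comp] at h1 ⊢
    omega
  have e₂ : E ≅ ∐ fun i : Fin r => OO 1 k ((a ∘ Tuple.sort (fun j => - a j)) i) :=
    e ≪≫ (Sigma.reindex (Tuple.sort (fun j => - a j)) (fun j => OO 1 k (a j))).symm
  refine ⟨a ∘ Tuple.sort (fun j => - a j), ⟨hanti, ⟨e₂⟩⟩, ?_⟩
  rintro d' ⟨hd', ⟨e'⟩⟩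
  apply eq_of_sums hd' hanti
  intro t
  rw [← finrank_h0_sum_twists k d' t, ← finrank_h0_sum_twists k _ t]
  exact finrank_HH_of_iso k ((tR (OO 1 k t)).mapIso (e'.symm ≪≫ e₂)) 0

end P1

end Groth.Agent.P1Split
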