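import Mathlib
import Groth.Prelude
import Groth.Agent.Lib.DiscDeg4_helper9
import Groth.Agent.Lib.CycLen3_helper8
import Groth.Agent.Lib.SecOrd1_helper8
import Groth.Agent.Lib.CohDev11_helper8
import Groth.Agent.Lib.PForm3_helper9

/-!
# Direct images of invertible modules under finite dominant morphisms to normal curves are finite
locally free (helper9). APPEND-ONLY once landed.
-/

set_option autoImplicit false
universe u
open CategoryTheory CategoryTheory.Limits AlgebraicGeometry Opposite TopologicalSpace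

namespace PushLF

open QcqsLoc QCohExtn FLFH8 SerreCrit

section TF

variable {X : Scheme.{u}} [IsIntegral X]

open Groth.Agent.Lib.QCohLoc_helper4 in
/-- sections of an invertible module on an integral scheme are torsion-free -/
theorem sections_torsionFree {L : X.Modules} (hL : PicF.IsInvertible L) (U : X.Opens)
    (a : Γ(X, U)) (s : Γ(L, U)) (h : a • s = 0) (ha : a ≠ 0) : s = 0 := by
  apply CycLenH8.eq_zero_of_germ_eq_zero
  intro x hx
  obtain ⟨t, ht⟩ := SecOrdH8.exists_isFreeGen hL x
  obtain ⟨b, hb⟩ := ht.1 (L.presheaf.germ U x hx s)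
  have h1 : X.presheaf.germ U x hx a • L.presheaf.germ U x hx s = 0 := by
    rw [← germ_smul, h, map_zero]
  rw [hb, smul_smul] at h1
  have h2 := ht.2 _ h1
  haveI : Nonempty U := ⟨⟨x, hx⟩⟩
  have h3 : X.presheaf.germ U x hx a ≠ 0 := by
    intro h0
    apply ha
    apply germ_injective_of_isIntegral X x hx
    rw [h0, map_zero]
  have h4 : b = 0 := (mul_eq_zero.mp h2).resolve_left h3
  rw [hb, h4, zero_smul]

end TF

section Push

variable {X Y : Scheme.{u}} [IsIntegral X] [IsIntegral Y] (f : X ⟶ Y)
  (e : f (genericPoint X) = genericPoint Y)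

open Groth.Agent.Lib.QCohLoc_helper4 in
include e in
/-- the stalks of the direct image of a module with torsion-free sections under a dominant
morphism of integral schemes are torsion-free -/
theorem stalk_torsionFree_push (F : X.Modules)
    (hF : ∀ (U : X.Opens) (a : Γ(X, U)) (s : Γ(F, U)), a • s = 0 → a ≠ 0 → s = 0) (y : Y) :
    Module.IsTorsionFree (Y.presheaf.stalk y)
      (((Scheme.Modules.pushforward f).obj F).presheaf.stalk y) := by
  refine Module.IsTorsionFree.of_smul_eq_zero (fun r m hrm => ?_)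
  by_cases hr : r = 0
  · exact Or.inl hr
  right
  obtain ⟨V₁, hy₁, a₀, rfl⟩ := TopCat.Presheaf.exists_germ_eq Y.presheaf r
  obtain ⟨V₂, hy₂, b₀, rfl⟩ := TopCat.Presheaf.exists_germ_eq
    ((Scheme.Modules.pushforward f).obj F).presheaf m
  have hyV : y ∈ V₁ ⊓ V₂ := ⟨hy₁, hy₂⟩
  have ha : Y.presheaf.germ (V₁ ⊓ V₂) y hyV (rX inf_le_left a₀) = Y.presheaf.germ V₁ y hy₁ a₀ :=
    TopCat.Presheaf.germ_res_apply Y.presheaf (homOfLE inf_le_left) y hyV a₀
  have hb : ((Scheme.Modules.pushforward f).obj F).presheaf.germ (V₁ ⊓ V₂) y hyV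
      (rF ((Scheme.Modules.pushforward f).obj F) inf_le_right b₀) =
      ((Scheme.Modules.pushforward f).obj F).presheaf.germ V₂ y hy₂ b₀ :=
    SecOrdH8.germ_rF ((Scheme.Modules.pushforward f).obj F) inf_le_right y hyV b₀
  rw [← ha, ← hb, ← germ_smul] at hrm
  obtain ⟨W, hW, hyW, h0⟩ :=
    (RefHullH8.germ_eq_zero_iff ((Scheme.Modules.pushforward f).obj F) y hyV _).mp hrm
  rw [rF_smul, rF_rF, rX_rX] at h0
  rw [← hb, ← SecOrdH8.germ_rF ((Scheme.Modules.pushforward f).obj F) hW y hyW, rF_rF]
  have hWne : (W : Set Y).Nonempty := ⟨y, hyW⟩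
  have ha0 : rX (hW.trans inf_le_left) a₀ ≠ 0 := by
    intro h
    apply hr
    rw [← TopCat.Presheaf.germ_res_apply Y.presheaf (homOfLE (hW.trans inf_le_left)) y hyW a₀]
    show (Y.presheaf.germ W y hyW) (rX (hW.trans inf_le_left) a₀) = 0
    rw [h, map_zero]
  have h2 : (f.app W).hom (rX (hW.trans inf_le_left) a₀) ≠ 0 := fun h =>
    ha0 (DiscDeg.app_injective f e W hWne (by rw [h, map_zero]))
  have h1 : ((f.app W).hom (rX (hW.trans inf_le_left) a₀) •
      (show Γ(F, f ⁻¹ᵁ W) from rF ((Scheme.Modules.pushforward f).obj F)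
        (hW.trans inf_le_right) b₀) : Γ(F, f ⁻¹ᵁ W)) = 0 := h0
  have h3 := hF _ _ _ h1 h2
  have h4 : rF ((Scheme.Modules.pushforward f).obj F) (hW.trans inf_le_right) b₀ = 0 := h3
  rw [h4, map_zero]

end Push

section LocFree

variable {X Y : Scheme.{u}} [IsIntegral X] [IsIntegral Y] [IsLocallyNoetherian Y] (f : X ⟶ Y)
  [IsFinite f] (e : f (genericPoint X) = genericPoint Y)

include e in
/-- over a normal integral scheme of dimension at most one, the direct image of a coherent module
with torsion-free sections under a finite dominant morphism is finite locally free of constant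
rank -/
theorem exists_rank_push (hn : Pi1.IsNormalScheme Y) (hdim : topologicalKrullDim Y ≤ 1)
    (F : X.Modules) (hFc : Coh.IsCoh F)
    (hF : ∀ (U : X.Opens) (a : Γ(X, U)) (s : Γ(F, U)), a • s = 0 → a ≠ 0 → s = 0) :
    ∃ n : ℕ, FlatMod.IsFinLocFreeOfRank n ((Scheme.Modules.pushforward f).obj F) := by
  have hEc : Coh.IsCoh ((Scheme.Modules.pushforward f).obj F) :=
    CohDevH8.isCoh_pushforward_of_isFinite f hFc
  haveI := hEc.1
  haveI := hEc.2
  have hfree : ∀ y : Y, Module.Free (Y.presheaf.stalk y)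
      (((Scheme.Modules.pushforward f).obj F).presheaf.stalk y) := by
    intro y
    refine FreeLocH8.free_stalk_of_coheight_le_one hn _ hEc y ?_
      (stalk_torsionFree_push f e F hF y)
    apply FreeLocH8.coheight_le_one_of_not_two_le
    intro h2
    have h1 := BirCurve.ringKrullDim_stalk_le hdim y
    have h3 : (2 : WithBot ℕ∞) ≤ 1 := h2.trans h1
    exact absurd h3 (by decide)
  haveI : SheafOfModules.IsFinitePresentation (R := Y.ringCatSheaf)
      ((Scheme.Modules.pushforward f).obj F) :=
    QCohFP2.isFinitePresentation_of_sections_cover _ (fun W : Y.affineOpens => W.1)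
      (fun W => W.2) (iSup_affineOpens_eq_top Y) (fun W => by
        haveI : IsNoetherianRing Γ(Y, W.1) := IsLocallyNoetherian.component_noetherian W
        haveI : Module.Finite Γ(Y, W.1) Γ((Scheme.Modules.pushforward f).obj F, W.1) :=
          QCohFT.finite_of_isFiniteType _ W.2
        exact Module.finitePresentation_of_finite _ _)
  have hlf : FlatMod.IsFinLocFree ((Scheme.Modules.pushforward f).obj F) := fun y => by
    obtain ⟨U, n, hyU, hα⟩ := FLFH8.exists_free_nhd _ y (hfree y)
    exact ⟨U, n, hyU, hα⟩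
  exact VBCurve.exists_rank hlf

end LocFree

end PushLF
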