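import Mathlib
import Groth.Prelude
import Groth.Agent.Lib.PushLF1_helper9
import Groth.Agent.Lib.DegPull3_helper9
import Groth.Agent.Lib.CoverRank_helper4

/-!
# The generic degree of a finite flat morphism of integral schemes (helper9)
APPEND-ONLY once landed.
-/

set_option autoImplicit false
universe u
open CategoryTheory CategoryTheory.Limits AlgebraicGeometry Opposite TopologicalSpace

namespace PushLF

open QcqsLoc QCohExtn FLFH8 SerreCrit

section Gen

variable {X Y : Scheme.{u}} [IsIntegral X] [IsIntegral Y] (f : X ⟶ Y)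

/-- a surjective morphism of integral schemes maps the generic point to the generic point -/
theorem generic_of_surjective [Surjective f] : f (genericPoint X) = genericPoint Y := by
  obtain ⟨x, hx⟩ := f.surjective (genericPoint Y)
  have h1 : genericPoint X ⤳ x := genericPoint_specializes x
  have h2 : f (genericPoint X) ⤳ f x := h1.map f.continuous
  rw [hx] at h2
  have h3 : genericPoint Y ⤳ f (genericPoint X) := genericPoint_specializes _
  exact (h2.antisymm h3).eq

omit [IsIntegral X] [IsIntegral Y] in
/-- a finite flat morphism of everywhere positive rank is surjective -/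
theorem surjective_of_finrank [IsFinite f] [Flat f] {d : ℕ} (hd : 0 < d)
    (hrk : ∀ y : Y, f.finrank y = d) : Surjective f := by
  rw [← Scheme.Hom.one_le_finrank_iff_surjective]
  intro y
  show 1 ≤ f.finrank y
  rw [hrk y]
  exact hd

/-- the degree of the function field extension is the rank at the generic point -/
theorem residueDegree_eq_finrank [IsLocallyNoetherian Y] [IsFinite f] [Flat f]
    (hξ : f (genericPoint X) = genericPoint Y) :
    f.residueDegree (genericPoint X) = f.finrank (genericPoint Y) := by
  have hAc := BirCurve.isCoh_push_OO f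
  haveI := hAc.1
  haveI : SheafOfModules.IsFiniteType (R := Y.ringCatSheaf)
    ((Scheme.Modules.pushforward f).obj (OO X)) := hAc.2
  obtain ⟨_, ⟨U₀, hU₀ : IsAffineOpen U₀, rfl⟩, hηU₀, -⟩ :=
    (Y.isBasis_affineOpens).exists_subset_of_mem_open (Set.mem_univ (genericPoint Y)) isOpen_univ
  have hηU₀' : genericPoint Y ∈ U₀ := hηU₀
  haveI : IsNoetherianRing Γ(Y, U₀) := IsLocallyNoetherian.component_noetherian ⟨U₀, hU₀⟩
  haveI : Module.Finite Γ(Y, U₀) Γ((Scheme.Modules.pushforward f).obj (OO X), U₀) :=
    QCohFT.finite_of_isFiniteType _ hU₀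
  haveI : Module.FinitePresentation Γ(Y, U₀) Γ((Scheme.Modules.pushforward f).obj (OO X), U₀) :=
    Module.finitePresentation_of_finite _ _
  letI : Field (Y.presheaf.stalk (genericPoint Y)) := inferInstanceAs (Field Y.functionField)
  have hfree : Module.Free (Y.presheaf.stalk (genericPoint Y))
      (((Scheme.Modules.pushforward f).obj (OO X)).presheaf.stalk (genericPoint Y)) :=
    Module.Free.of_divisionRing _ _
  obtain ⟨r, hηr, d, g, hg, hli⟩ := FLFH8.exists_basis_basicOpen
    ((Scheme.Modules.pushforward f).obj (OO X)) hU₀ hηU₀' hfree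
  have hW : IsAffineOpen (Y.basicOpen r) := hU₀.basicOpen r
  have hW' : IsAffineOpen (f ⁻¹ᵁ (Y.basicOpen r)) := hW.preimage f
  have hd : f.residueDegree (genericPoint X) = d := by
    letI := (f.app (Y.basicOpen r)).hom.toAlgebra
    let e := BirCurve.pushSecEquiv f (Y.basicOpen r)
    refine DegPull.residueDegree_eq f hξ (Y.basicOpen r) hW hW' hηr d (fun i => e.symm (g i)) ?_ ?_
    · have h1 : Set.range (fun i => e.symm (g i)) = e.symm '' Set.range g := by
        rw [← Set.range_comp]
        rfl
      change Submodule.span Γ(Y, Y.basicOpen r) (Set.range (fun i => e.symm (g i))) = ⊤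
      have h2 := Submodule.map_span e.symm.toLinearMap (Set.range g)
      rw [hg, Submodule.map_top, LinearMap.range_eq_top.mpr e.symm.surjective] at h2
      rw [h1]
      exact h2.symm
    · exact hli.map' e.symm.toLinearMap (LinearEquiv.ker e.symm)
  have h2 := Groth.Agent.Lib.CoverRankH4.finrank_eq_rankAtStalk f hW (genericPoint Y) hηr
  rw [hd, h2]
  let b : Module.Basis (Fin d) Γ(Y, Y.basicOpen r)
      Γ((Scheme.Modules.pushforward f).obj (OO X), Y.basicOpen r) := Module.Basis.mk hli hg.ge
  haveI : Module.Free Γ(Y, Y.basicOpen r)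
      Γ((Scheme.Modules.pushforward f).obj (OO X), Y.basicOpen r) := Module.Free.of_basis b
  haveI : Nonempty ↥((Y.basicOpen r : Y.Opens) : Scheme.{u}) := ⟨⟨genericPoint Y, hηr⟩⟩
  haveI : IsDomain Γ(Y, Y.basicOpen r) := IsIntegral.component_integral _
  have h3 : Module.finrank Γ(Y, Y.basicOpen r)
      Γ((Scheme.Modules.pushforward f).obj (OO X), Y.basicOpen r) = d := by
    rw [Module.finrank_eq_card_basis b, Fintype.card_fin]
  have h4 := Module.rankAtStalk_eq_finrank_of_free (R := Γ(Y, Y.basicOpen r))
    (M := Γ((Scheme.Modules.pushforward f).obj (OO X), Y.basicOpen r))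
  have h5 := congrFun h4 (hW.primeIdealOf ⟨genericPoint Y, hηr⟩)
  rw [h3] at h5
  exact h5.symm

end Gen

end PushLF
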