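import Mathlib
import Groth.Prelude
import Groth.Agent.Lib.PushLF2_helper9
import Groth.Agent.Lib.P1Split2_helper9
import Groth.Agent.Lib.BirCurve3_helper9
import Groth.Agent.Lib.MumReg4_helper9

/-!
# Direct images of invertible modules under finite morphisms to `P^1`: sections of twists (helper9)
APPEND-ONLY once landed.
-/

set_option autoImplicit false
universe u
open CategoryTheory CategoryTheory.Limits AlgebraicGeometry Opposite TopologicalSpace

namespace EllPush

open Groth.Agent.TensInv Groth.Agent.ProjTens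

section Twist

variable (k : Type u) [Field k] {X : Scheme.{u}} [X.Over (Spec (CommRingCat.of k))]
  (π : X ⟶ CohB1.ProjSpace 1 k)
  (hπ : π ≫ CohB1.ProjSpace.toSpec 1 k = X ↘ Spec (CommRingCat.of k)) [IsAffineHom π]

theorem isFinLocFree_OO (t : ℤ) : FlatMod.IsFinLocFree (OO 1 k t) :=
  FLFH8.IsFinLocFreeOfRank.isFinLocFree _
    (FLFH8.finLocFreeOfRank_one_of_isInvertible (Groth.Agent.Horrocks.isInvertible_OO 1 k t))

include hπ in
/-- if `π_* L ≅ ⨁ O(d_j)` then `h⁰(π^* O(t) ⊗ L) = Σ_j max (d_j + t + 1, 0)` -/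
theorem finrank_h0_pull_twist (L : X.Modules) {n : ℕ} (d : Fin n → ℤ)
    (e : (Scheme.Modules.pushforward π).obj L ≅ ∐ fun j => OO 1 k (d j)) (t : ℤ)
    [(CohB1.tensorMod ((Scheme.Modules.pullback π).obj (OO 1 k t)) L).IsQuasicoherent] :
    Module.finrank k
      (Coh.HH X (CohB1.tensorMod ((Scheme.Modules.pullback π).obj (OO 1 k t)) L) 0) =
      ∑ j, (d j + t + 1).toNat := by
  rw [← Groth.Agent.P1Split.finrank_h0_sum_twists k d t]
  rw [← (Groth.Agent.PushEdgeNat.pushEdgeEquiv π hπ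
    (CohB1.tensorMod ((Scheme.Modules.pullback π).obj (OO 1 k t)) L) 0).finrank_eq]
  refine (Groth.Agent.HypConn.hhEquivOfIso (A := k) ?_ 0).finrank_eq
  refine ((PFormH9.projIso π (OO 1 k t) (isFinLocFree_OO k t)).app L).symm ≪≫ ?_
  refine comm _ _ ≪≫ ?_
  exact (tR (OO 1 k t)).mapIso e

/-- the degree of `O(t)` on the projective line -/
theorem deg_OO (t : ℤ) : Curv2.deg k (CohB1.ProjSpace 1 k) (OO 1 k t) 1 = t := by
  unfold Curv2.deg
  obtain ⟨e0⟩ := Groth.Agent.ProjTens.twist_zero 1 k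
  rw [← CurveTens.euler_of_iso k _ e0, Groth.Agent.MumReg.euler_OO k 1 Nat.one_pos t,
    Groth.Agent.MumReg.euler_OO k 1 Nat.one_pos 0]
  simp

end Twist

end EllPush
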