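import Mathlib
import Groth.Prelude
import Groth.Agent.Lib.EllPush1_helper9
import Groth.Agent.Lib.CurveSD4_helper9
import Groth.Agent.Lib.VBCurve5_helper9
import Groth.Agent.Lib.CurveSpec1_helper9
import Groth.Agent.Lib.CurveRR1_helper9
import Groth.Agent.Lib.CurveAmple5_helper9

/-!
# Sections of invertible modules on a curve of genus one (helper9)
APPEND-ONLY once landed.
-/

set_option autoImplicit false
universe u
open CategoryTheory CategoryTheory.Limits AlgebraicGeometry Opposite TopologicalSpace

namespace EllPush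

section Ell

variable (k : Type u) [Field k] [IsAlgClosed k] (X : Scheme.{u}) [X.Over (Spec (CommRingCat.of k))]
  [IsIntegral X] [IsProper (X ↘ Spec (CommRingCat.of k))]

/-- `χ(O) = 0` in genus one -/
theorem euler_structure_of_genus_one (hdim : topologicalKrullDim X = 1)
    (hg : Curv2.genus k X = 1) : Curv2.euler k X (Coh.structureModule X) = 0 := by
  haveI : IsLocallyNoetherian X :=
    LocallyOfFiniteType.isLocallyNoetherian (X ↘ Spec (CommRingCat.of k))
  haveI := (CohDevH8.isCoh_structureModule X).1
  have h := CurveRR.euler_eq_sub k X hdim.le (Coh.structureModule X)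
  have h0 := CurveSpec.finrank_HH0_structureModule k X hdim
  have h1 : Module.finrank k (Coh.HH X (Coh.structureModule X) 1) = 1 := hg
  rw [h0, h1] at h
  simpa using h

/-- `h⁰(M) = deg M` for `deg M ≥ 1` in genus one -/
theorem finrank_HH0_of_deg_pos (hdim : topologicalKrullDim X = 1) (hg : Curv2.genus k X = 1)
    {M : X.Modules} (hM : PicF.IsInvertible M) (hd : 1 ≤ Curv2.deg k X M 1) :
    (Module.finrank k (Coh.HH X M 0) : ℤ) = Curv2.deg k X M 1 := by
  haveI : IsLocallyNoetherian X :=
    LocallyOfFiniteType.isLocallyNoetherian (X ↘ Spec (CommRingCat.of k))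
  haveI := (ProperFinH9.isCoh_of_isInvertible hM).1
  haveI : Subsingleton (Coh.HH X M 1) :=
    CurveAmple.HH1_subsingleton_of_deg_ge k X hdim.le hM (by rw [hg]; simpa using hd)
  have h := CurveRR.euler_eq_sub k X hdim.le M
  rw [Module.finrank_zero_of_subsingleton (M := Coh.HH X M 1)] at h
  unfold Curv2.deg
  rw [euler_structure_of_genus_one k X hdim hg, h]
  simp

/-- in degree zero, `h⁰(M) ≠ 0` exactly when `M` is trivial, and then `h⁰(M) = 1` -/
theorem finrank_HH0_of_deg_zero (hdim : topologicalKrullDim X = 1)
    {M : X.Modules} (hM : PicF.IsInvertible M) (hd : Curv2.deg k X M 1 = 0) :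
    (Module.finrank k (Coh.HH X M 0) ≠ 0 → Nonempty (Coh.structureModule X ≅ M)) ∧
    (Nonempty (Coh.structureModule X ≅ M) → Module.finrank k (Coh.HH X M 0) = 1) := by
  haveI : IsLocallyNoetherian X :=
    LocallyOfFiniteType.isLocallyNoetherian (X ↘ Spec (CommRingCat.of k))
  constructor
  · intro hne
    haveI : Nontrivial (Coh.HH X M 0) := by
      by_contra hnt
      rw [not_nontrivial_iff_subsingleton] at hnt
      exact hne Module.finrank_zero_of_subsingleton
    obtain ⟨v, hv⟩ := exists_ne (0 : Coh.HH X M 0)
    have hs : (CurveIdeal.thetaEquiv k M).symm v ≠ 0 := by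
      intro h0
      apply hv
      have := congrArg (CurveIdeal.thetaEquiv k M) h0
      rwa [LinearEquiv.apply_symm_apply, map_zero] at this
    rcases VBCurve.line_hom_cases k X hdim (TensH8.isInvertible_structureModule (X := X)) hM
      ((CurveIdeal.thetaEquiv k M).symm v) with h | ⟨-, -, h⟩
    · exact absurd h hs
    · haveI := h (by rw [CurveDeg.deg_structureModule, hd])
      exact ⟨asIso ((CurveIdeal.thetaEquiv k M).symm v)⟩
  · rintro ⟨e⟩
    rw [← (Groth.Agent.HypConn.hhEquivOfIso (A := k) e 0).finrank_eq]
    exact CurveSpec.finrank_HH0_structureModule k X hdim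

end Ell

end EllPush
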