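import Mathlib
import Groth.Prelude
import Groth.Agent.Lib.EllPush2_helper9
import Groth.Agent.Lib.VBCurve3_helper9
import Groth.Agent.Lib.P1Lur1_helper9
import Groth.Agent.Lib.P1Iso2_helper9
import Groth.Agent.Lib.PullTens1_helper9
import Groth.Agent.Lib.CMMul1_helper9

/-!
# The direct image of an invertible module under a double cover of `P^1` by a curve of genus one
(helper9). APPEND-ONLY once landed.
-/

set_option autoImplicit false
universe u
open CategoryTheory CategoryTheory.Limits AlgebraicGeometry Opposite TopologicalSpace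

namespace EllPush

open Groth.Agent.TensInv Groth.Agent.ProjTens

section Comb

/-- the section counts of the twists determine the rank and the sum of the splitting type -/
theorem comb_rank {n : ℕ} (dd : Fin n → ℤ) (d : ℤ) (φ : ℤ → ℕ)
    (hφ : ∀ t, φ t = ∑ j, (dd j + t + 1).toNat)
    (hpos : ∀ t, 1 ≤ 2 * t + d → (φ t : ℤ) = 2 * t + d) : n = 2 ∧ ∑ j, dd j + 2 = d := by
  set T : ℤ := |d| + ∑ j, |dd j| + 1 with hT
  have hbd : ∀ j, |dd j| ≤ ∑ i, |dd i| := fun j =>
    Finset.single_le_sum (f := fun i => |dd i|) (fun i _ => abs_nonneg _) (Finset.mem_univ j)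
  have hsum0 : 0 ≤ ∑ i, |dd i| := Finset.sum_nonneg (fun i _ => abs_nonneg _)
  have key : ∀ t, T ≤ t → (φ t : ℤ) = ∑ j, dd j + (n : ℤ) * (t + 1) := by
    intro t ht
    rw [hφ t]
    push_cast
    have h1 : ∀ j ∈ Finset.univ, ((dd j + t + 1).toNat : ℤ) = dd j + (t + 1) := by
      intro j _
      have h2 := hbd j
      have h3 := neg_abs_le (dd j)
      have h4 := abs_nonneg d
      rw [Int.toNat_of_nonneg (by linarith)]
      ring
    rw [Finset.sum_congr rfl h1, Finset.sum_add_distrib, Finset.sum_const, Finset.card_univ,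
      Fintype.card_fin]
    simp
  have hd1 := neg_abs_le d
  have hd2 := abs_nonneg d
  have e1 := hpos T (by linarith)
  have e2 := hpos (T + 1) (by linarith)
  rw [key T le_rfl] at e1
  rw [key (T + 1) (by linarith)] at e2
  have hn : (n : ℤ) = 2 := by linarith
  refine ⟨by exact_mod_cast hn, ?_⟩
  rw [hn] at e1
  linarith

/-- the splitting type in rank two -/
theorem comb_two (dd : Fin 2 → ℤ) (hanti : Antitone dd) (d : ℤ) (φ : ℤ → ℕ)
    (hφ : ∀ t, φ t = ∑ j, (dd j + t + 1).toNat) (hsum : dd 0 + dd 1 + 2 = d)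
    (hneg : ∀ t, 2 * t + d < 0 → φ t = 0) :
    (∀ e, d = 2 * e + 1 → dd = ![e, e - 1]) ∧
    (∀ e, d = 2 * e → φ (-e) ≠ 0 → dd = ![e, e - 2]) ∧
    (∀ e, d = 2 * e → φ (-e) = 0 → dd = ![e - 1, e - 1]) := by
  have hba : dd 1 ≤ dd 0 := hanti (Fin.zero_le 1)
  have hφ2 : ∀ t, φ t = (dd 0 + t + 1).toNat + (dd 1 + t + 1).toNat := fun t => by
    rw [hφ t, Fin.sum_univ_two]
  refine ⟨fun e he => ?_, fun e he hne => ?_, fun e he h0 => ?_⟩
  · have h1 := hneg (-e - 1) (by omega)
    rw [hφ2] at h1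
    funext j
    fin_cases j
    · show dd 0 = e
      omega
    · show dd 1 = e - 1
      omega
  · have h1 := hneg (-e - 1) (by omega)
    rw [hφ2] at h1
    rw [hφ2] at hne
    funext j
    fin_cases j
    · show dd 0 = e
      omega
    · show dd 1 = e - 2
      omega
  · have h1 := hneg (-e - 1) (by omega)
    rw [hφ2] at h1
    rw [hφ2] at h0
    funext j
    fin_cases j
    · show dd 0 = e - 1
      omega
    · show dd 1 = e - 1
      omega

end Comb

section PullTwist

variable (k : Type u) [Field k] {X : Scheme.{u}} (π : X ⟶ CohB1.ProjSpace 1 k)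

theorem pull_twist_inv (a b : ℤ) (h : a + b = 0) :
    Nonempty (CohB1.tensorMod ((Scheme.Modules.pullback π).obj (OO 1 k a))
      ((Scheme.Modules.pullback π).obj (OO 1 k b)) ≅ Coh.structureModule X) := by
  obtain ⟨e⟩ := twist_inv 1 k a b h
  exact ⟨(PullTensH9.pullTensIso π (Groth.Agent.Horrocks.isInvertible_OO 1 k a)
    (Groth.Agent.Horrocks.isInvertible_OO 1 k b)).symm ≪≫
    (Scheme.Modules.pullback π).mapIso e ≪≫ PBH8.pullbackUnitIso π⟩

/-- `L ≅ π^* O(e)` iff `π^* O(-e) ⊗ L` is trivial -/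
theorem trivial_iff (L : X.Modules) (e : ℤ) :
    Nonempty (Coh.structureModule X ≅
      CohB1.tensorMod ((Scheme.Modules.pullback π).obj (OO 1 k (-e))) L) ↔
    Nonempty (L ≅ (Scheme.Modules.pullback π).obj (OO 1 k e)) := by
  constructor
  · rintro ⟨i⟩
    obtain ⟨i1⟩ := pull_twist_inv k π e (-e) (by omega)
    exact ⟨(Groth.Agent.CMMul.unitorL L).symm ≪≫ mapR i1.symm L ≪≫ assoc _ _ _ ≪≫
      mapL _ i.symm ≪≫ rightUnit _⟩
  · rintro ⟨j⟩
    obtain ⟨i0⟩ := pull_twist_inv k π (-e) e (by omega)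
    exact ⟨(mapL _ j ≪≫ i0).symm⟩

end PullTwist

section Main

/-- **statement of S16520** -/
theorem main16520 (k : Type u) [Field k]
    [IsAlgClosed k] [CharZero k] (E : Scheme.{u}) [E.Over (Spec (CommRingCat.of k))]
    [IsProper (E ↘ Spec (CommRingCat.of k))]
    [Smooth (E ↘ Spec (CommRingCat.of k))] [GeometricallyConnected (E ↘ Spec (CommRingCat.of k))]
    (hE : topologicalKrullDim E = 1) (hg : Curv2.genus k E = 1)
    (π : E ⟶ CohB1.ProjSpace 1 k)
    (hπ : π ≫ CohB1.ProjSpace.toSpec 1 k = E ↘ Spec (CommRingCat.of k))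
    [IsFinite π] [Flat π] (hrk : ∀ y : ↥(CohB1.ProjSpace 1 k), Scheme.Hom.finrank π y = 2)
    (L : E.Modules) (hL : PicF.IsInvertible L) (d : ℤ) (hd : Curv2.deg k E L 1 = d) :
    (∀ e : ℤ, d = 2 * e + 1 → Nonempty ((Scheme.Modules.pushforward π).obj L ≅
        ∐ fun j : Fin 2 => Twist.twistProjSpace 1 k (![e, e - 1] j))) ∧
    (∀ e : ℤ, d = 2 * e →
        Nonempty (L ≅ (Scheme.Modules.pullback π).obj (Twist.twistProjSpace 1 k e)) →
        Nonempty ((Scheme.Modules.pushforward π).obj L ≅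
          ∐ fun j : Fin 2 => Twist.twistProjSpace 1 k (![e, e - 2] j))) ∧
    (∀ e : ℤ, d = 2 * e →
        IsEmpty (L ≅ (Scheme.Modules.pullback π).obj (Twist.twistProjSpace 1 k e)) →
        Nonempty ((Scheme.Modules.pushforward π).obj L ≅
          ∐ fun j : Fin 2 => Twist.twistProjSpace 1 k (![e - 1, e - 1] j))) := by
  haveI := VBCurve.isIntegral_of_smooth_geomConn k E
  haveI : IsLocallyNoetherian E :=
    LocallyOfFiniteType.isLocallyNoetherian (E ↘ Spec (CommRingCat.of k))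
  haveI : IsIntegral (CohB1.ProjSpace 1 k) := P1Iso.isIntegral_P1 k
  haveI : IsProper (CohB1.ProjSpace.toSpec 1 k) :=
    Groth.Agent.Lib.ProjSpaceProperH4.isProper_toSpec 1 k
  haveI : IsProper (CohB1.ProjSpace 1 k ↘ Spec (CommRingCat.of k)) :=
    Groth.Agent.Lib.ProjSpaceProperH4.isProper_toSpec 1 k
  haveI : IsLocallyNoetherian (CohB1.ProjSpace 1 k) :=
    LocallyOfFiniteType.isLocallyNoetherian (CohB1.ProjSpace.toSpec 1 k)
  haveI : Surjective π := PushLF.surjective_of_finrank π two_pos hrk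
  have hξ := PushLF.generic_of_surjective π
  have hres : π.residueDegree (genericPoint E) = 2 := by
    rw [PushLF.residueDegree_eq_finrank π hξ, hrk]
  have hLc := ProperFinH9.isCoh_of_isInvertible hL
  obtain ⟨n, hn⟩ := PushLF.exists_rank_push π hξ (P1Lur9.isNormal_PP k) (P1Iso.dim_P1 k).le L hLc
    (PushLF.sections_torsionFree hL)
  obtain ⟨dd, ⟨hanti, ⟨e⟩⟩, -⟩ := Groth.Agent.P1Split.existsUnique_splitting k n _ hn
  have hMinv : ∀ t : ℤ, PicF.IsInvertible
      (CohB1.tensorMod ((Scheme.Modules.pullback π).obj (OO 1 k t)) L) := fun t =>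
    TensH8.isInvertible_tensorMod
      (TensH8.isInvertible_pullback π (Groth.Agent.Horrocks.isInvertible_OO 1 k t)) hL
  have hMdeg : ∀ t : ℤ, Curv2.deg k E
      (CohB1.tensorMod ((Scheme.Modules.pullback π).obj (OO 1 k t)) L) 1 = 2 * t + d := by
    intro t
    rw [CurveTens.deg_tensorMod k E hE.le
      (TensH8.isInvertible_pullback π (Groth.Agent.Horrocks.isInvertible_OO 1 k t)) hL, hd]
    have h1 := DegPull.deg_pullback k hE (P1Iso.dim_P1 k) π hπ hξ 1 (OO 1 k t)
      (FLFH8.finLocFreeOfRank_one_of_isInvertible (Groth.Agent.Horrocks.isInvertible_OO 1 k t))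
    rw [h1, hres, deg_OO]
    push_cast
    ring
  let φ : ℤ → ℕ := fun t => Module.finrank k
    (Coh.HH E (CohB1.tensorMod ((Scheme.Modules.pullback π).obj (OO 1 k t)) L) 0)
  have hφ : ∀ t, φ t = ∑ j, (dd j + t + 1).toNat := fun t => by
    haveI := (ProperFinH9.isCoh_of_isInvertible (hMinv t)).1
    exact finrank_h0_pull_twist k π hπ L dd e t
  have hpos : ∀ t, 1 ≤ 2 * t + d → (φ t : ℤ) = 2 * t + d := fun t ht => by
    rw [← hMdeg t]
    exact finrank_HH0_of_deg_pos k E hE hg (hMinv t) (by rw [hMdeg]; exact ht)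
  have hneg : ∀ t, 2 * t + d < 0 → φ t = 0 := fun t ht =>
    CurveSD.finrank_HH0_eq_zero_of_deg_neg hE (hMinv t) (by rw [hMdeg]; exact ht)
  obtain ⟨rfl, hsum⟩ := comb_rank dd d φ hφ hpos
  rw [Fin.sum_univ_two] at hsum
  obtain ⟨c1, c2, c3⟩ := comb_two dd hanti d φ hφ hsum hneg
  refine ⟨fun e0 he0 => ?_, fun e0 he0 hiso => ?_, fun e0 he0 hiso => ?_⟩
  · rw [← c1 e0 he0]
    exact ⟨e⟩
  · have hne : φ (-e0) ≠ 0 := by
      have h1 := (finrank_HH0_of_deg_zero k E hE (hMinv (-e0))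
        (by rw [hMdeg, he0]; ring)).2 ((trivial_iff k π L e0).mpr hiso)
      show Module.finrank k (Coh.HH E
        (CohB1.tensorMod ((Scheme.Modules.pullback π).obj (OO 1 k (-e0))) L) 0) ≠ 0
      rw [h1]
      exact one_ne_zero
    rw [← c2 e0 he0 hne]
    exact ⟨e⟩
  · have h0 : φ (-e0) = 0 := by
      by_contra hne
      have h1 := (finrank_HH0_of_deg_zero k E hE (hMinv (-e0))
        (by rw [hMdeg, he0]; ring)).1 hne
      obtain ⟨i⟩ := (trivial_iff k π L e0).mp h1
      exact hiso.false i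
    rw [← c3 e0 he0 h0]
    exact ⟨e⟩

end Main

end EllPush
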