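import Mathlib
import Groth.Prelude
import Groth.Agent.Lib.Snap15_helper9
import Groth.Agent.Lib.Snap8_helper9
import Groth.Agent.Lib.EulerField_helper9
import Groth.Agent.Lib.CohKer_helper8
import Groth.Agent.Lib.CurveTens4_helper9
import Groth.Agent.Lib.CurveTens1_helper9
import Groth.Agent.Lib.WeilCohG3_helper9
import Groth.Agent.Lib.InvTensP2_helper5
import Groth.Agent.Lib.CohDev3_helper8

/-!
# Hilbert polynomial calculus for coherent modules on projective schemes (helper6)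

Built on helper9's Snapper libraries.  `k` a field, `X` proper over `k`, `L` invertible (ample for
positivity).
* `binomPoly`, `eval_binomPoly`, `alpha_binomPoly`: polynomials in the basis `C(m+i-1,i)`.
* `redLE_quot`, `redLE_trans`, `redLT_of_lt_of_le`, …: calculus of the eventual inequalities of
  `StabCat`.
* `exists_isHilbPoly`: existence of the Hilbert polynomial of a coherent module, of degree at most
  the dimension of the support, with `alpha r = (L^r · F)`.
* `isHilbPoly_unique`, `isHilbPoly_of_iso`, `isHilbPoly_add` (additivity in short exact sequences).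
* `alpha_pos`: `0 < alpha r P` when `dim Supp F = r` and `L` is ample.
* `isZero_of_isHilbPoly_zero`.
APPEND-ONLY once landed.
-/

set_option autoImplicit false
set_option linter.all false
set_option maxHeartbeats 1600000

universe u
open Polynomial StabCat
open CategoryTheory CategoryTheory.Limits AlgebraicGeometry TopologicalSpace

namespace Groth.Agent.Lib.HilbCalc

/-- polynomial with prescribed expansion in the basis `m ↦ C(m+i-1, i)`. -/
noncomputable def binomPoly (r : ℕ) (a : ℕ → ℚ) : ℚ[X] :=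
  ∑ i ∈ Finset.range (r + 1), C (a i / (i.factorial : ℚ)) * ascPochhammer ℚ i

theorem eval_binomPoly (r : ℕ) (a : ℕ → ℚ) (m : ℕ) :
    (binomPoly r a).eval (m : ℚ) =
      ∑ i ∈ Finset.range (r + 1), ((m + i - 1).choose i : ℚ) * a i := by
  unfold binomPoly
  rw [eval_finset_sum]
  apply Finset.sum_congr rfl
  intro i _
  rw [eval_mul, eval_C, ascPochhammer_nat_eq_natCast_ascFactorial,
    Nat.ascFactorial_eq_factorial_mul_choose']
  have hi : (i.factorial : ℚ) ≠ 0 := by exact_mod_cast Nat.factorial_ne_zero i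
  push_cast
  field_simp

theorem natDegree_binomPoly_le (r : ℕ) (a : ℕ → ℚ) : (binomPoly r a).natDegree ≤ r := by
  unfold binomPoly
  apply natDegree_sum_le_of_forall_le
  intro i hi
  have h1 : i ≤ r := by
    have := Finset.mem_range.1 hi
    omega
  calc (C (a i / (i.factorial : ℚ)) * ascPochhammer ℚ i).natDegree
      ≤ (ascPochhammer ℚ i).natDegree := natDegree_C_mul_le _ _
    _ = i := ascPochhammer_natDegree ℚ i
    _ ≤ r := h1

theorem coeff_binomPoly (r : ℕ) (a : ℕ → ℚ) :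
    (binomPoly r a).coeff r = a r / (r.factorial : ℚ) := by
  unfold binomPoly
  rw [finset_sum_coeff, Finset.sum_range_succ]
  have h0 : ∑ i ∈ Finset.range r, (C (a i / (i.factorial : ℚ)) * ascPochhammer ℚ i).coeff r = 0 := by
    apply Finset.sum_eq_zero
    intro i hi
    apply coeff_eq_zero_of_natDegree_lt
    calc (C (a i / (i.factorial : ℚ)) * ascPochhammer ℚ i).natDegree
        ≤ (ascPochhammer ℚ i).natDegree := natDegree_C_mul_le _ _
      _ = i := ascPochhammer_natDegree ℚ i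
      _ < r := Finset.mem_range.1 hi
  rw [h0, zero_add, coeff_C_mul]
  have h1 : (ascPochhammer ℚ r).coeff r = 1 := by
    have := (monic_ascPochhammer ℚ r)
    rw [Monic, leadingCoeff, ascPochhammer_natDegree ℚ] at this
    exact this
  rw [h1, mul_one]

theorem alpha_binomPoly (r : ℕ) (a : ℕ → ℚ) : alpha r (binomPoly r a) = a r := by
  unfold alpha
  rw [coeff_binomPoly]
  have hi : (r.factorial : ℚ) ≠ 0 := by exact_mod_cast Nat.factorial_ne_zero r
  field_simp

theorem eq_of_eval_nat {P Q : ℚ[X]} (h : ∀ m : ℕ, P.eval (m : ℚ) = Q.eval (m : ℚ)) : P = Q := by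
  apply Polynomial.eq_of_infinite_eval_eq
  apply Set.infinite_of_injective_forall_mem (f := fun m : ℕ => (m : ℚ)) Nat.cast_injective
  intro m
  exact h m

/-! ### eventual inequalities -/

theorem alpha_add (d : ℕ) (P Q : ℚ[X]) : alpha d (P + Q) = alpha d P + alpha d Q := by
  unfold alpha
  rw [coeff_add, mul_add]

theorem alpha_zero (d : ℕ) : alpha d (0 : ℚ[X]) = 0 := by
  unfold alpha
  rw [coeff_zero, mul_zero]

theorem alpha_eq_zero_of_natDegree_lt {d : ℕ} {P : ℚ[X]} (h : P.natDegree < d) : alpha d P = 0 := by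
  unfold alpha
  rw [coeff_eq_zero_of_natDegree_lt h, mul_zero]

theorem redLE_refl (d : ℕ) (P : ℚ[X]) : RedLE d P P := ⟨0, fun m _ => le_rfl⟩

theorem redLE_of_redEq {d : ℕ} {P Q : ℚ[X]} (h : RedEq d P Q) : RedLE d P Q := by
  refine ⟨0, fun m _ => ?_⟩
  have h1 : alpha d Q • P = alpha d P • Q := h
  rw [h1]

theorem redLE_of_redEq' {d : ℕ} {P Q : ℚ[X]} (h : RedEq d P Q) : RedLE d Q P := by
  refine ⟨0, fun m _ => ?_⟩
  have h1 : alpha d Q • P = alpha d P • Q := h
  rw [h1]

theorem redLE_of_redLT {d : ℕ} {P Q : ℚ[X]} (h : RedLT d P Q) : RedLE d P Q := by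
  obtain ⟨N, hN⟩ := h
  exact ⟨N, fun m hm => (hN m hm).le⟩

/-- the quotient form of the (semi)stability inequality -/
theorem redLE_quot {d : ℕ} {pF pK pI : ℚ[X]} (h : pF = pK + pI) (hle : RedLE d pK pF) :
    RedLE d pF pI := by
  obtain ⟨N, hN⟩ := hle
  refine ⟨N, fun m hm => ?_⟩
  have h1 := hN m hm
  have hα : alpha d pF = alpha d pK + alpha d pI := by rw [h, alpha_add]
  simp only [eval_smul, smul_eq_mul] at h1 ⊢
  have h2 : pF.eval (m : ℚ) = pK.eval (m : ℚ) + pI.eval (m : ℚ) := by rw [h, eval_add]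
  rw [hα, h2] at h1 ⊢
  nlinarith

theorem redLT_quot {d : ℕ} {pF pK pI : ℚ[X]} (h : pF = pK + pI) (hlt : RedLT d pK pF) :
    RedLT d pF pI := by
  obtain ⟨N, hN⟩ := hlt
  refine ⟨N, fun m hm => ?_⟩
  have h1 := hN m hm
  have hα : alpha d pF = alpha d pK + alpha d pI := by rw [h, alpha_add]
  simp only [eval_smul, smul_eq_mul] at h1 ⊢
  have h2 : pF.eval (m : ℚ) = pK.eval (m : ℚ) + pI.eval (m : ℚ) := by rw [h, eval_add]
  rw [hα, h2] at h1 ⊢
  nlinarith

/-- the sub form from the quotient form -/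
theorem redLE_sub_of_quot {d : ℕ} {pF pK pI : ℚ[X]} (h : pF = pK + pI) (hle : RedLE d pF pI) :
    RedLE d pK pF := by
  obtain ⟨N, hN⟩ := hle
  refine ⟨N, fun m hm => ?_⟩
  have h1 := hN m hm
  have hα : alpha d pF = alpha d pK + alpha d pI := by rw [h, alpha_add]
  simp only [eval_smul, smul_eq_mul] at h1 ⊢
  have h2 : pF.eval (m : ℚ) = pK.eval (m : ℚ) + pI.eval (m : ℚ) := by rw [h, eval_add]
  rw [hα, h2] at h1 ⊢
  nlinarith

theorem redLE_trans {d : ℕ} {P Q R : ℚ[X]} (hP : 0 ≤ alpha d P) (hQ : 0 < alpha d Q)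
    (hR : 0 ≤ alpha d R) (h1 : RedLE d P Q) (h2 : RedLE d Q R) : RedLE d P R := by
  obtain ⟨N1, hN1⟩ := h1
  obtain ⟨N2, hN2⟩ := h2
  refine ⟨max N1 N2, fun m hm => ?_⟩
  have a1 := hN1 m (le_trans (le_max_left _ _) hm)
  have a2 := hN2 m (le_trans (le_max_right _ _) hm)
  simp only [eval_smul, smul_eq_mul] at a1 a2 ⊢
  -- α(Q) P ≤ α(P) Q ; α(R) Q ≤ α(Q) R ⊢ α(R) P ≤ α(P) R
  have b1 : alpha d R * (alpha d Q * P.eval (m : ℚ)) ≤ alpha d R * (alpha d P * Q.eval (m : ℚ)) :=
    mul_le_mul_of_nonneg_left a1 hR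
  have b2 : alpha d P * (alpha d R * Q.eval (m : ℚ)) ≤ alpha d P * (alpha d Q * R.eval (m : ℚ)) :=
    mul_le_mul_of_nonneg_left a2 hP
  have b3 : alpha d Q * (alpha d R * P.eval (m : ℚ)) ≤ alpha d Q * (alpha d P * R.eval (m : ℚ)) := by
    nlinarith
  exact le_of_mul_le_mul_left b3 hQ

theorem redLT_of_lt_of_le {d : ℕ} {P Q R : ℚ[X]} (hP : 0 ≤ alpha d P) (hQ : 0 < alpha d Q)
    (hR : 0 < alpha d R) (h1 : RedLT d P Q) (h2 : RedLE d Q R) : RedLT d P R := by
  obtain ⟨N1, hN1⟩ := h1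
  obtain ⟨N2, hN2⟩ := h2
  refine ⟨max N1 N2, fun m hm => ?_⟩
  have a1 := hN1 m (le_trans (le_max_left _ _) hm)
  have a2 := hN2 m (le_trans (le_max_right _ _) hm)
  simp only [eval_smul, smul_eq_mul] at a1 a2 ⊢
  have b1 : alpha d R * (alpha d Q * P.eval (m : ℚ)) < alpha d R * (alpha d P * Q.eval (m : ℚ)) :=
    mul_lt_mul_of_pos_left a1 hR
  have b2 : alpha d P * (alpha d R * Q.eval (m : ℚ)) ≤ alpha d P * (alpha d Q * R.eval (m : ℚ)) :=
    mul_le_mul_of_nonneg_left a2 hP
  have b3 : alpha d Q * (alpha d R * P.eval (m : ℚ)) < alpha d Q * (alpha d P * R.eval (m : ℚ)) := by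
    nlinarith
  exact lt_of_mul_lt_mul_left b3 hQ.le

theorem redLT_of_le_of_lt {d : ℕ} {P Q R : ℚ[X]} (hP : 0 < alpha d P) (hQ : 0 < alpha d Q)
    (hR : 0 ≤ alpha d R) (h1 : RedLE d P Q) (h2 : RedLT d Q R) : RedLT d P R := by
  obtain ⟨N1, hN1⟩ := h1
  obtain ⟨N2, hN2⟩ := h2
  refine ⟨max N1 N2, fun m hm => ?_⟩
  have a1 := hN1 m (le_trans (le_max_left _ _) hm)
  have a2 := hN2 m (le_trans (le_max_right _ _) hm)
  simp only [eval_smul, smul_eq_mul] at a1 a2 ⊢
  have b1 : alpha d R * (alpha d Q * P.eval (m : ℚ)) ≤ alpha d R * (alpha d P * Q.eval (m : ℚ)) :=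
    mul_le_mul_of_nonneg_left a1 hR
  have b2 : alpha d P * (alpha d R * Q.eval (m : ℚ)) < alpha d P * (alpha d Q * R.eval (m : ℚ)) :=
    mul_lt_mul_of_pos_left a2 hP
  have b3 : alpha d Q * (alpha d R * P.eval (m : ℚ)) < alpha d Q * (alpha d P * R.eval (m : ℚ)) := by
    nlinarith
  exact lt_of_mul_lt_mul_left b3 hQ.le

theorem not_redLT_of_redLE {d : ℕ} {P Q : ℚ[X]} (h : RedLE d P Q) : ¬ RedLT d Q P := by
  rintro ⟨N2, hN2⟩
  obtain ⟨N1, hN1⟩ := h
  have a1 := hN1 (max N1 N2) (le_max_left _ _)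
  have a2 := hN2 (max N1 N2) (le_max_right _ _)
  simp only [eval_smul, smul_eq_mul] at a1 a2
  exact absurd a2 (not_lt.mpr a1)

theorem topDim_nonneg {T : Type*} [TopologicalSpace T] [hT : Nonempty T] :
    0 ≤ topologicalKrullDim T := by
  obtain ⟨x⟩ := hT
  haveI : Nonempty (TopologicalSpace.IrreducibleCloseds T) :=
    ⟨⟨closure {x}, isIrreducible_singleton.closure, isClosed_closure⟩⟩
  exact Order.krullDim_nonneg

theorem topDim_eq_bot_of_isEmpty {T : Type*} [TopologicalSpace T] [hT : IsEmpty T] :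
    topologicalKrullDim T = ⊥ := by
  haveI : IsEmpty (TopologicalSpace.IrreducibleCloseds T) :=
    ⟨fun Z => by obtain ⟨x, -⟩ := Z.2.nonempty; exact hT.false x⟩
  exact Order.krullDim_eq_bot

/-! ### Hilbert polynomials of coherent modules -/

section Sheaf

open Groth.Agent.TensInv

variable (k : Type u) [Field k] (X : Scheme.{u}) [X.Over (Spec (CommRingCat.of k))]
  [IsProper (X ↘ Spec (CommRingCat.of k))]

include k in
theorem exists_dim_le : ∃ d : ℕ, topologicalKrullDim X ≤ d := by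
  haveI : CompactSpace X :=
    QuasiCompact.compactSpace_of_compactSpace (X ↘ Spec (CommRingCat.of k))
  have hfin := Groth.Agent.WCF9.topDim_lt_top X (X ↘ Spec (CommRingCat.of k))
  by_cases hb : topologicalKrullDim X = ⊥
  · exact ⟨0, by rw [hb]; exact bot_le⟩
  · obtain ⟨a, ha⟩ := WithBot.ne_bot_iff_exists.mp hb
    have h2 : a ≠ ⊤ := by
      rintro rfl
      rw [← ha] at hfin
      exact lt_irrefl _ hfin
    obtain ⟨d, rfl⟩ := ENat.ne_top_iff_exists.mp h2
    exact ⟨d, by rw [← ha]; rfl⟩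

variable {X}

theorem isHilbPoly_unique {L F : X.Modules} {P Q : ℚ[X]} (hP : ShStab.IsHilbPoly k X L F P)
    (hQ : ShStab.IsHilbPoly k X L F Q) : P = Q :=
  eq_of_eval_nat (fun m => (hP m).symm.trans (hQ m))

theorem isHilbPoly_of_iso {L F G : X.Modules} (e : F ≅ G) {P : ℚ[X]}
    (hP : ShStab.IsHilbPoly k X L F P) : ShStab.IsHilbPoly k X L G P := by
  intro m
  rw [← hP m]
  unfold ShStab.twist
  rw [CurveTens.euler_of_iso k X (mapR e (CohB1.tensorPow L m))]

/-- existence of the Hilbert polynomial with explicit top coefficient. -/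
theorem exists_isHilbPoly {L M : X.Modules} (hL : PicF.IsInvertible L)
    (ε : Nonempty (CohB1.tensorMod L M ≅ Coh.structureModule X)) (F : X.Modules)
    (hF : Coh.IsCoh F) (r : ℕ) (hr : topologicalKrullDim (CohB1.support F) ≤ r) (d : ℕ)
    (hd : topologicalKrullDim X ≤ d) :
    ∃ P : ℚ[X], ShStab.IsHilbPoly k X L F P ∧ P.natDegree ≤ r ∧
      alpha r P = (FGA.intNum k X d (fun _ : Fin r => M) F : ℚ) := by
  refine ⟨binomPoly r (fun i => (FGA.intNum k X d (fun _ : Fin i => M) F : ℚ)), ?_,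
    natDegree_binomPoly_le _ _, alpha_binomPoly _ _⟩
  intro m
  rw [eval_binomPoly]
  unfold ShStab.twist
  rw [CurveTens.euler_of_iso k X (comm F (CohB1.tensorPow L m)),
    Snap9.euler_eq_eulerCharLE k X d hd, Snap9.main11753 k X d hd L M hL ε F hF r hr m]
  push_cast
  rfl

theorem natDegree_le {L : X.Modules} (hL : PicF.IsInvertible L) {F : X.Modules}
    (hF : Coh.IsCoh F) (r : ℕ) (hr : topologicalKrullDim (CohB1.support F) ≤ r) {P : ℚ[X]}
    (hP : ShStab.IsHilbPoly k X L F P) : P.natDegree ≤ r := by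
  obtain ⟨M, -, ε⟩ := Groth.Agent.InvTensP.exists_inverse L hL
  obtain ⟨d, hd⟩ := exists_dim_le k X
  obtain ⟨Q, hQ, hdeg, -⟩ := exists_isHilbPoly k hL ε F hF r hr d hd
  rw [isHilbPoly_unique k hP hQ]
  exact hdeg

theorem alpha_pos {L : X.Modules} (hL : CohB1.IsAmple L) {F : X.Modules}
    (hF : Coh.IsCoh F) (r : ℕ) (hr : topologicalKrullDim (CohB1.support F) = r) {P : ℚ[X]}
    (hP : ShStab.IsHilbPoly k X L F P) : 0 < alpha r P := by
  obtain ⟨M, -, ε⟩ := Groth.Agent.InvTensP.exists_inverse L hL.1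
  obtain ⟨d, hd⟩ := exists_dim_le k X
  obtain ⟨Q, hQ, -, hα⟩ := exists_isHilbPoly k hL.1 ε F hF r hr.le d hd
  rw [isHilbPoly_unique k hP hQ, hα]
  have := Snap9.main3233 k X d hd (fun _ : Fin r => L) (fun _ : Fin r => M) (fun _ => hL)
    (fun _ => ε) F hF hr
  exact_mod_cast this

theorem exists_hilbPoly {L : X.Modules} (hL : PicF.IsInvertible L) (F : X.Modules)
    (hF : Coh.IsCoh F) : ∃ P : ℚ[X], ShStab.IsHilbPoly k X L F P := by
  obtain ⟨M, -, ε⟩ := Groth.Agent.InvTensP.exists_inverse L hL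
  obtain ⟨d, hd⟩ := exists_dim_le k X
  obtain ⟨Q, hQ, -, -⟩ := exists_isHilbPoly k hL ε F hF d
    ((topologicalKrullDim_subspace_le X _).trans hd) d hd
  exact ⟨Q, hQ⟩

/-- additivity of Hilbert polynomials in short exact sequences of coherent modules. -/
theorem isHilbPoly_add {L : X.Modules} (hL : PicF.IsInvertible L) (S : ShortComplex X.Modules)
    (hS : S.ShortExact) (h₁ : Coh.IsCoh S.X₁) (h₂ : Coh.IsCoh S.X₂) (h₃ : Coh.IsCoh S.X₃)
    {P₁ P₃ : ℚ[X]} (hP₁ : ShStab.IsHilbPoly k X L S.X₁ P₁)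
    (hP₃ : ShStab.IsHilbPoly k X L S.X₃ P₃) : ShStab.IsHilbPoly k X L S.X₂ (P₁ + P₃) := by
  haveI : IsLocallyNoetherian X :=
    LocallyOfFiniteType.isLocallyNoetherian (X ↘ Spec (CommRingCat.of k))
  intro m
  have hN := TensH8.isInvertible_tensorPow hL m
  have hS' := CurveTens.shortExact_tR hN S hS
  have hadd := EulerField.euler_additive k X (S.map (tR (CohB1.tensorPow L m))) hS'
    (Snap9.isCoh_tensorMod h₁ hN) (Snap9.isCoh_tensorMod h₂ hN) (Snap9.isCoh_tensorMod h₃ hN)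
  rw [eval_add, ← hP₁ m, ← hP₃ m]
  unfold ShStab.twist
  have h2 : Curv2.euler k X (CohB1.tensorMod S.X₂ (CohB1.tensorPow L m)) =
      Curv2.euler k X (CohB1.tensorMod S.X₁ (CohB1.tensorPow L m)) +
        Curv2.euler k X (CohB1.tensorMod S.X₃ (CohB1.tensorPow L m)) := hadd
  rw [h2]
  push_cast
  rfl

include k in
/-- a nonzero coherent module has a support of some finite dimension `r : ℕ`. -/
theorem exists_dim_support {F : X.Modules} (hF : ¬ IsZero F) :
    ∃ r : ℕ, topologicalKrullDim (CohB1.support F) = r := by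
  obtain ⟨d, hd⟩ := exists_dim_le k X
  have hne : (CohB1.support F).Nonempty := by
    by_contra h
    exact hF (CohDevH8.isZero_of_support_eq_empty F (Set.not_nonempty_iff_eq_empty.mp h))
  haveI : Nonempty (CohB1.support F) := hne.to_subtype
  have h0 : (0 : WithBot ℕ∞) ≤ topologicalKrullDim (CohB1.support F) :=
    topDim_nonneg
  have h1 : topologicalKrullDim (CohB1.support F) ≤ d :=
    (topologicalKrullDim_subspace_le X _).trans hd
  have hnb : topologicalKrullDim (CohB1.support F) ≠ ⊥ := by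
    intro hb
    rw [hb] at h0
    exact absurd h0 (by simp)
  obtain ⟨a, ha⟩ := WithBot.ne_bot_iff_exists.mp hnb
  have h2 : a ≠ ⊤ := by
    rintro rfl
    rw [← ha] at h1
    have h3 : ((⊤ : ℕ∞) : WithBot ℕ∞) ≤ ((d : ℕ∞) : WithBot ℕ∞) := h1
    have h4 := WithBot.coe_le_coe.mp h3
    exact absurd (top_le_iff.mp h4) (ENat.coe_ne_top d)
  obtain ⟨r, rfl⟩ := ENat.ne_top_iff_exists.mp h2
  exact ⟨r, ha.symm⟩

theorem isZero_of_isHilbPoly_zero {L : X.Modules} (hL : CohB1.IsAmple L) {F : X.Modules}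
    (hF : Coh.IsCoh F) (hP : ShStab.IsHilbPoly k X L F 0) : IsZero F := by
  by_contra h
  obtain ⟨r, hr⟩ := exists_dim_support k h
  have := alpha_pos k hL hF r hr hP
  rw [alpha_zero] at this
  exact lt_irrefl _ this

theorem eq_zero_of_isZero {L : X.Modules} (hL : PicF.IsInvertible L) {F : X.Modules}
    (hF : Coh.IsCoh F) (hz : IsZero F) {P : ℚ[X]} (hP : ShStab.IsHilbPoly k X L F P) :
    P = 0 := by
  let S : ShortComplex X.Modules := ShortComplex.mk (𝟙 F) (0 : F ⟶ F) (by simp)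
  have hS : S.ShortExact := by
    haveI : Mono S.f := by dsimp [S]; infer_instance
    haveI : Epi S.g := ⟨fun a b _ => hz.eq_of_src a b⟩
    exact ShortComplex.ShortExact.mk (ShortComplex.exact_of_isZero_X₂ S hz)
  have h2 := isHilbPoly_add k hL S hS hF hF hF hP hP
  have h3 := isHilbPoly_unique k hP h2
  have h4 : P + P = P + 0 := by rw [add_zero]; exact h3.symm
  exact add_left_cancel h4

end Sheaf

end Groth.Agent.Lib.HilbCalc
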