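import Mathlib
import Groth.Prelude
import Groth.Agent.Lib.HilbCalc_helper6

/-!
# Morphisms between semistable sheaves (helper6)

`key`: for a nonzero morphism `φ : F ⟶ G` of semistable sheaves of dimension `d`, the Hilbert
polynomials of kernel and image and the chain `p(F) ≤ p(im φ) ≤ p(G)` (strict under stability).
`main15192`, `main15193`, `main15194`, `main15195`, `main15204`.
APPEND-ONLY once landed.
-/

set_option autoImplicit false
set_option linter.all false
set_option maxHeartbeats 1600000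

universe u
open Polynomial StabCat
open CategoryTheory CategoryTheory.Limits AlgebraicGeometry TopologicalSpace

namespace Groth.Agent.Lib.ShStabH6

open Groth.Agent.Lib.HilbCalc

variable (k : Type u) [Field k] {X : Scheme.{u}} [X.Over (Spec (CommRingCat.of k))]
  [IsProper (X ↘ Spec (CommRingCat.of k))]

theorem dim_support_of_isPure {E : X.Modules} {d : ℕ} (hE : ShStab.IsPure X E d)
    (hc : Coh.IsCoh E) (hne : ¬ IsZero E) :
    topologicalKrullDim (CohB1.support E) = (d : WithBot ℕ∞) :=
  hE E (𝟙 E) inferInstance hc hne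

theorem isSemistable_of_isStable {L E : X.Modules} {d : ℕ} (h : ShStab.IsStable k X L E d) :
    ShStab.IsSemistable k X L E d :=
  ⟨h.1, h.2.1, h.2.2.1, fun F ι hι hF hne hni pF pE hpF hpE =>
    redLE_of_redLT (h.2.2.2 F ι hι hF hne hni pF pE hpF hpE)⟩

/-- the kernel–image short exact sequence. -/
noncomputable def kerImSC {E F : X.Modules} (f : E ⟶ F) : ShortComplex X.Modules :=
  ShortComplex.mk (kernel.ι (Abelian.factorThruImage f)) (Abelian.factorThruImage f)
    (kernel.condition _)

theorem kerImSC_shortExact {E F : X.Modules} (f : E ⟶ F) : (kerImSC f).ShortExact :=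
  ShortComplex.ShortExact.mk' ((kerImSC f).exact_of_f_is_kernel (kernelIsKernel _))
    (inferInstanceAs (Mono (kernel.ι (Abelian.factorThruImage f))))
    (inferInstanceAs (Epi (Abelian.factorThruImage f)))

/-- the cokernel short exact sequence of a monomorphism. -/
noncomputable def cokerSC {E F : X.Modules} (f : E ⟶ F) : ShortComplex X.Modules :=
  ShortComplex.mk f (cokernel.π f) (cokernel.condition f)

theorem cokerSC_shortExact {E F : X.Modules} (f : E ⟶ F) [Mono f] : (cokerSC f).ShortExact :=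
  ShortComplex.ShortExact.mk' ((cokerSC f).exact_of_g_is_cokernel (cokernelIsCokernel _))
    (inferInstanceAs (Mono f)) (inferInstanceAs (Epi (cokernel.π f)))

section Key

variable {L : X.Modules} (hL : CohB1.IsAmple L) {d : ℕ} {F G : X.Modules}

include hL in
theorem key (hF : ShStab.IsSemistable k X L F d) (hG : ShStab.IsSemistable k X L G d)
    {pF pG : ℚ[X]} (hpF : ShStab.IsHilbPoly k X L F pF) (hpG : ShStab.IsHilbPoly k X L G pG)
    (φ : F ⟶ G) (hφ : φ ≠ 0) :
    ∃ pI pK : ℚ[X], ShStab.IsHilbPoly k X L (Abelian.image φ) pI ∧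
      ShStab.IsHilbPoly k X L (kernel (Abelian.factorThruImage φ)) pK ∧ pF = pK + pI ∧
      Coh.IsCoh (Abelian.image φ) ∧ Coh.IsCoh (kernel (Abelian.factorThruImage φ)) ∧
      0 < alpha d pI ∧ 0 < alpha d pF ∧ 0 < alpha d pG ∧ RedLE d pF pI ∧ RedLE d pI pG ∧
      (ShStab.IsStable k X L F d → ¬ IsZero (kernel (Abelian.factorThruImage φ)) →
        RedLT d pF pI) ∧
      (ShStab.IsStable k X L G d → ¬ IsIso (Abelian.image.ι φ) → RedLT d pI pG) := by
  haveI : IsLocallyNoetherian X :=
    LocallyOfFiniteType.isLocallyNoetherian (X ↘ Spec (CommRingCat.of k))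
  have hfac : Abelian.factorThruImage φ ≫ Abelian.image.ι φ = φ := Abelian.image.fac φ
  have hIcoh : Coh.IsCoh (Abelian.image φ) :=
    CohKerH8.isCoh_kernel hG.1 (CohKerH8.isCoh_cokernel hF.1 hG.1 φ) _
  have hKcoh : Coh.IsCoh (kernel (Abelian.factorThruImage φ)) :=
    CohKerH8.isCoh_kernel hF.1 hIcoh _
  have hIne : ¬ IsZero (Abelian.image φ) := by
    intro h
    apply hφ
    rw [← hfac, h.eq_of_tgt (Abelian.factorThruImage φ) 0, Limits.zero_comp]
  have hIdim : topologicalKrullDim (CohB1.support (Abelian.image φ)) = (d : WithBot ℕ∞) :=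
    hG.2.2.1 _ (Abelian.image.ι φ) inferInstance hIcoh hIne
  obtain ⟨pI, hpI⟩ := exists_hilbPoly k hL.1 _ hIcoh
  obtain ⟨pK, hpK⟩ := exists_hilbPoly k hL.1 _ hKcoh
  have hsum : pF = pK + pI :=
    isHilbPoly_unique k hpF
      (isHilbPoly_add k hL.1 (kerImSC φ) (kerImSC_shortExact φ) hKcoh hF.1 hIcoh hpK hpI)
  have hαI := alpha_pos k hL hIcoh d hIdim hpI
  have hαF := alpha_pos k hL hF.1 d (dim_support_of_isPure hF.2.2.1 hF.1 hF.2.1) hpF
  have hαG := alpha_pos k hL hG.1 d (dim_support_of_isPure hG.2.2.1 hG.1 hG.2.1) hpG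
  have hni : ¬ IsIso (kernel.ι (Abelian.factorThruImage φ)) := by
    intro h
    apply hφ
    have h0 : Abelian.factorThruImage φ = 0 := by
      rw [← cancel_epi (kernel.ι (Abelian.factorThruImage φ)), kernel.condition, Limits.comp_zero]
    rw [← hfac, h0, Limits.zero_comp]
  refine ⟨pI, pK, hpI, hpK, hsum, hIcoh, hKcoh, hαI, hαF, hαG, ?_, ?_, ?_, ?_⟩
  · by_cases hK0 : IsZero (kernel (Abelian.factorThruImage φ))
    · haveI : Mono (Abelian.factorThruImage φ) :=
        Preadditive.mono_of_kernel_zero (hK0.eq_of_src _ _)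
      haveI : IsIso (Abelian.factorThruImage φ) := isIso_of_mono_of_epi _
      have : pI = pF := isHilbPoly_unique k hpI
        (isHilbPoly_of_iso k (asIso (Abelian.factorThruImage φ)) hpF)
      rw [this]
      exact redLE_refl d pF
    · exact redLE_quot hsum
        (hF.2.2.2 _ (kernel.ι (Abelian.factorThruImage φ)) inferInstance hKcoh hK0 hni pK pF
          hpK hpF)
  · by_cases hiso : IsIso (Abelian.image.ι φ)
    · have : pG = pI := isHilbPoly_unique k hpG
        (isHilbPoly_of_iso k (asIso (Abelian.image.ι φ)) hpI)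
      rw [this]
      exact redLE_refl d pI
    · exact hG.2.2.2 _ (Abelian.image.ι φ) inferInstance hIcoh hIne hiso pI pG hpI hpG
  · intro hFs hK0
    exact redLT_quot hsum
      (hFs.2.2.2 _ (kernel.ι (Abelian.factorThruImage φ)) inferInstance hKcoh hK0 hni pK pF
        hpK hpF)
  · intro hGs hiso
    exact hGs.2.2.2 _ (Abelian.image.ι φ) inferInstance hIcoh hIne hiso pI pG hpI hpG

include hL in
/-- **S15192**. -/
theorem main15192 (hF : ShStab.IsSemistable k X L F d) (hG : ShStab.IsSemistable k X L G d)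
    (pF pG : ℚ[X]) (hpF : ShStab.IsHilbPoly k X L F pF) (hpG : ShStab.IsHilbPoly k X L G pG)
    (hlt : StabCat.RedLT d pG pF) (φ : F ⟶ G) : φ = 0 := by
  by_contra hφ
  obtain ⟨pI, pK, -, -, -, -, -, hαI, hαF, hαG, h1, h2, -, -⟩ := key k hL hF hG hpF hpG φ hφ
  exact not_redLT_of_redLE (redLE_trans hαF.le hαI hαG.le h1 h2) hlt

include hL in
/-- **S15193**. -/
theorem main15193 (hF : ShStab.IsStable k X L F d) (hG : ShStab.IsSemistable k X L G d)
    (pF pG : ℚ[X]) (hpF : ShStab.IsHilbPoly k X L F pF) (hpG : ShStab.IsHilbPoly k X L G pG)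
    (heq : StabCat.RedEq d pF pG) (φ : F ⟶ G) (hφ : φ ≠ 0) : Mono φ := by
  by_contra hmono
  obtain ⟨pI, pK, -, -, -, -, -, hαI, hαF, hαG, h1, h2, h3, -⟩ :=
    key k hL (isSemistable_of_isStable k hF) hG hpF hpG φ hφ
  have hK0 : ¬ IsZero (kernel (Abelian.factorThruImage φ)) := by
    intro hK0
    apply hmono
    haveI : Mono (Abelian.factorThruImage φ) :=
      Preadditive.mono_of_kernel_zero (hK0.eq_of_src _ _)
    rw [← Abelian.image.fac φ]
    exact mono_comp _ _
  have hlt := redLT_of_lt_of_le hαF.le hαI hαG (h3 hF hK0) h2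
  exact not_redLT_of_redLE (redLE_of_redEq' heq) hlt

include hL in
/-- **S15194**. -/
theorem main15194 (hF : ShStab.IsSemistable k X L F d) (hG : ShStab.IsStable k X L G d)
    (pF pG : ℚ[X]) (hpF : ShStab.IsHilbPoly k X L F pF) (hpG : ShStab.IsHilbPoly k X L G pG)
    (heq : StabCat.RedEq d pF pG) (φ : F ⟶ G) (hφ : φ ≠ 0) : Epi φ := by
  by_contra hepi
  obtain ⟨pI, pK, -, -, -, -, -, hαI, hαF, hαG, h1, h2, -, h4⟩ :=
    key k hL hF (isSemistable_of_isStable k hG) hpF hpG φ hφ
  have hiso : ¬ IsIso (Abelian.image.ι φ) := by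
    intro hiso
    apply hepi
    rw [← Abelian.image.fac φ]
    exact epi_comp _ _
  have hlt := redLT_of_le_of_lt hαF hαI hαG.le h1 (h4 hG hiso)
  exact not_redLT_of_redLE (redLE_of_redEq' heq) hlt

include hL in
/-- **S15195**. -/
theorem main15195 (hF : ShStab.IsSemistable k X L F d) (hG : ShStab.IsSemistable k X L G d)
    (hst : ShStab.IsStable k X L F d ∨ ShStab.IsStable k X L G d)
    (P : ℚ[X]) (hpF : ShStab.IsHilbPoly k X L F P) (hpG : ShStab.IsHilbPoly k X L G P)
    (φ : F ⟶ G) (hφ : φ ≠ 0) : IsIso φ := by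
  haveI : IsLocallyNoetherian X :=
    LocallyOfFiniteType.isLocallyNoetherian (X ↘ Spec (CommRingCat.of k))
  obtain ⟨pI, pK, hpI, hpK, hsum, hIcoh, hKcoh, hαI, hαF, hαG, h1, h2, h3, h4⟩ :=
    key k hL hF hG hpF hpG φ hφ
  have heq : StabCat.RedEq d P P := rfl
  rcases hst with hFs | hGs
  · haveI hm : Mono φ := main15193 k hL hFs hG P P hpF hpG heq φ hφ
    -- the kernel vanishes, so `pI = P`
    haveI : Mono (Abelian.factorThruImage φ) := by
      have : Mono (Abelian.factorThruImage φ ≫ Abelian.image.ι φ) := by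
        rw [Abelian.image.fac]; exact hm
      exact mono_of_mono _ (Abelian.image.ι φ)
    haveI : IsIso (Abelian.factorThruImage φ) := isIso_of_mono_of_epi _
    have hpIP : pI = P := isHilbPoly_unique k hpI
      (isHilbPoly_of_iso k (asIso (Abelian.factorThruImage φ)) hpF)
    -- the cokernel of the image has Hilbert polynomial zero
    have hCcoh : Coh.IsCoh (cokernel (Abelian.image.ι φ)) :=
      CohKerH8.isCoh_cokernel hIcoh hG.1 _
    obtain ⟨pC, hpC⟩ := exists_hilbPoly k hL.1 _ hCcoh
    have hsum2 : P = pI + pC := isHilbPoly_unique k hpG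
      (isHilbPoly_add k hL.1 (cokerSC (Abelian.image.ι φ)) (cokerSC_shortExact _) hIcoh hG.1
        hCcoh hpI hpC)
    have hpC0 : pC = 0 := by
      rw [hpIP] at hsum2
      exact (add_eq_left.mp hsum2.symm)
    rw [hpC0] at hpC
    have hC0 : IsZero (cokernel (Abelian.image.ι φ)) := isZero_of_isHilbPoly_zero k hL hCcoh hpC
    haveI : Epi (Abelian.image.ι φ) :=
      Preadditive.epi_of_cokernel_zero (hC0.eq_of_tgt _ _)
    haveI : Epi φ := by
      rw [← Abelian.image.fac φ]; exact epi_comp _ _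
    exact isIso_of_mono_of_epi φ
  · haveI he : Epi φ := main15194 k hL hF hGs P P hpF hpG heq φ hφ
    haveI : Epi (Abelian.image.ι φ) := by
      have : Epi (Abelian.factorThruImage φ ≫ Abelian.image.ι φ) := by
        rw [Abelian.image.fac]; exact he
      exact epi_of_epi (Abelian.factorThruImage φ) _
    haveI : IsIso (Abelian.image.ι φ) := isIso_of_mono_of_epi _
    have hpIP : P = pI := isHilbPoly_unique k hpG
      (isHilbPoly_of_iso k (asIso (Abelian.image.ι φ)) hpI)
    have hpK0 : pK = 0 := by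
      rw [← hpIP] at hsum
      exact (add_eq_right.mp hsum.symm)
    rw [hpK0] at hpK
    have hK0 : IsZero (kernel (Abelian.factorThruImage φ)) :=
      isZero_of_isHilbPoly_zero k hL hKcoh hpK
    haveI : Mono (Abelian.factorThruImage φ) :=
      Preadditive.mono_of_kernel_zero (hK0.eq_of_src _ _)
    haveI : Mono φ := by
      rw [← Abelian.image.fac φ]; exact mono_comp _ _
    exact isIso_of_mono_of_epi φ

include hL in
/-- **S15204**. -/
theorem main15204 {E : X.Modules} (hE : ShStab.IsStable k X L E d) (φ : E ⟶ E) (hφ : φ ≠ 0) :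
    IsIso φ := by
  obtain ⟨P, hP⟩ := exists_hilbPoly k hL.1 E hE.1
  exact main15195 k hL (isSemistable_of_isStable k hE) (isSemistable_of_isStable k hE)
    (Or.inl hE) P hP hP φ hφ

end Key

end Groth.Agent.Lib.ShStabH6
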