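import Mathlib
import Groth.Prelude
import Groth.Agent.Lib.ShStab1_helper6
import Groth.Agent.Lib.CohDev2_helper8

/-!
# Semistability: purity, truncations and slope (helper6)

* `HilbCalc2`: eventual sign of polynomials, the truncations `topPart`.
* `main15201` (uniqueness of the maximal destabilising submodule), `main15213`, `main15214`
  (purity from the cross-multiplied inequalities), `main15222`, `main15217`, `main15218`
  (`ℓ`-(semi)stability), `main15210` (slope semistability).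
APPEND-ONLY once landed.
-/

set_option autoImplicit false
set_option linter.all false
set_option maxHeartbeats 1600000

universe u
open Polynomial StabCat Filter
open CategoryTheory CategoryTheory.Limits AlgebraicGeometry TopologicalSpace

namespace Groth.Agent.Lib.HilbCalc2

theorem eventually_pos_of_leadingCoeff_pos {P : ℚ[X]} (h : 0 < P.leadingCoeff) :
    ∃ N : ℕ, ∀ m : ℕ, N ≤ m → 0 < P.eval (m : ℚ) := by
  by_cases hdeg : 0 < P.degree
  · have h1 := Polynomial.tendsto_atTop_of_leadingCoeff_nonneg P hdeg h.le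
    have h2 : Tendsto (fun m : ℕ => P.eval (m : ℚ)) atTop atTop :=
      h1.comp tendsto_natCast_atTop_atTop
    have h3 := h2.eventually_gt_atTop 0
    obtain ⟨N, hN⟩ := Filter.eventually_atTop.1 h3
    exact ⟨N, hN⟩
  · have h1 : P.degree ≤ 0 := not_lt.mp hdeg
    have h2 := eq_C_of_degree_le_zero h1
    refine ⟨0, fun m _ => ?_⟩
    rw [h2, eval_C]
    rw [h2, leadingCoeff_C] at h
    exact h

theorem eventually_pos_of_coeff_pos {P : ℚ[X]} {r : ℕ} (hdeg : P.natDegree ≤ r)
    (h : 0 < P.coeff r) : ∃ N : ℕ, ∀ m : ℕ, N ≤ m → 0 < P.eval (m : ℚ) := by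
  apply eventually_pos_of_leadingCoeff_pos
  have h1 : P.natDegree = r := by
    apply le_antisymm hdeg
    exact le_natDegree_of_ne_zero h.ne'
  rw [leadingCoeff, h1]
  exact h

theorem eq_zero_or_leadingCoeff_neg {P : ℚ[X]}
    (h : ∃ N : ℕ, ∀ m : ℕ, N ≤ m → P.eval (m : ℚ) ≤ 0) : P = 0 ∨ P.leadingCoeff < 0 := by
  by_cases h0 : P = 0
  · exact Or.inl h0
  · right
    by_contra hneg
    have hpos : 0 < P.leadingCoeff :=
      lt_of_le_of_ne (not_lt.mp hneg) (Ne.symm (leadingCoeff_ne_zero.mpr h0))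
    obtain ⟨N1, hN1⟩ := eventually_pos_of_leadingCoeff_pos hpos
    obtain ⟨N2, hN2⟩ := h
    have a1 := hN1 (max N1 N2) (le_max_left _ _)
    have a2 := hN2 (max N1 N2) (le_max_right _ _)
    exact absurd a1 (not_lt.mpr a2)

theorem eventually_neg_of_leadingCoeff_neg {P : ℚ[X]} (h : P.leadingCoeff < 0) :
    ∃ N : ℕ, ∀ m : ℕ, N ≤ m → P.eval (m : ℚ) < 0 := by
  have h1 : 0 < (-P).leadingCoeff := by rw [leadingCoeff_neg]; linarith
  obtain ⟨N, hN⟩ := eventually_pos_of_leadingCoeff_pos h1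
  refine ⟨N, fun m hm => ?_⟩
  have := hN m hm
  rw [eval_neg] at this
  linarith

/-! ### truncations -/

theorem coeff_topPart (ℓ d : ℕ) (P : ℚ[X]) (j : ℕ) :
    (topPart ℓ d P).coeff j = if j ∈ Finset.Icc (d - ℓ) d then P.coeff j else 0 := by
  unfold topPart
  rw [finset_sum_coeff]
  simp only [coeff_monomial]
  split_ifs with h
  · rw [Finset.sum_eq_single j]
    · simp
    · intro b _ hb; simp [hb]
    · intro hj; exact absurd h hj
  · apply Finset.sum_eq_zero
    intro b hb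
    rw [if_neg]
    rintro rfl
    exact h hb

theorem alpha_topPart (ℓ d : ℕ) (P : ℚ[X]) : alpha d (topPart ℓ d P) = alpha d P := by
  unfold alpha
  rw [coeff_topPart, if_pos]
  exact Finset.mem_Icc.2 ⟨Nat.sub_le d ℓ, le_rfl⟩

theorem topPart_smul (ℓ d : ℕ) (c : ℚ) (P : ℚ[X]) : topPart ℓ d (c • P) = c • topPart ℓ d P := by
  ext j
  rw [coeff_smul, coeff_topPart, coeff_topPart, coeff_smul]
  split_ifs <;> simp

theorem topPart_sub (ℓ d : ℕ) (P Q : ℚ[X]) : topPart ℓ d (P - Q) = topPart ℓ d P - topPart ℓ d Q := by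
  ext j
  rw [coeff_sub, coeff_topPart, coeff_topPart, coeff_topPart, coeff_sub]
  split_ifs <;> simp

theorem topPart_eq_self {d : ℕ} {P : ℚ[X]} (h : P.natDegree ≤ d) (ℓ : ℕ) (hℓ : d ≤ ℓ) :
    topPart ℓ d P = P := by
  ext j
  rw [coeff_topPart]
  split_ifs with hj
  · rfl
  · symm
    apply coeff_eq_zero_of_natDegree_lt
    rw [Finset.mem_Icc, not_and_or] at hj
    rcases hj with hj | hj
    · exfalso; apply hj; rw [Nat.sub_eq_zero_of_le hℓ]; exact Nat.zero_le _
    · omega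

/-- truncation preserves eventual non-positivity (lexicographic order). -/
theorem topPart_eventually_nonpos {d : ℕ} {Q : ℚ[X]} (hdeg : Q.natDegree ≤ d) (ℓ : ℕ)
    (h : ∃ N : ℕ, ∀ m : ℕ, N ≤ m → Q.eval (m : ℚ) ≤ 0) :
    ∃ N : ℕ, ∀ m : ℕ, N ≤ m → (topPart ℓ d Q).eval (m : ℚ) ≤ 0 := by
  by_cases hT : topPart ℓ d Q = 0
  · exact ⟨0, fun m _ => by rw [hT, eval_zero]⟩
  · set j := (topPart ℓ d Q).natDegree with hj
    have hcj : (topPart ℓ d Q).coeff j ≠ 0 := by
      rw [hj]; exact leadingCoeff_ne_zero.mpr hT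
    have hjmem : j ∈ Finset.Icc (d - ℓ) d := by
      by_contra hn
      apply hcj
      rw [coeff_topPart, if_neg hn]
    have hcoeff : (topPart ℓ d Q).coeff j = Q.coeff j := by
      rw [coeff_topPart, if_pos hjmem]
    have hQdeg : Q.natDegree = j := by
      apply le_antisymm
      · rw [natDegree_le_iff_coeff_eq_zero]
        intro i hi
        by_cases hid : i ≤ d
        · have himem : i ∈ Finset.Icc (d - ℓ) d :=
            Finset.mem_Icc.2 ⟨le_trans (Finset.mem_Icc.1 hjmem).1 hi.le, hid⟩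
          have : (topPart ℓ d Q).coeff i = 0 := coeff_eq_zero_of_natDegree_lt (hj ▸ hi)
          rwa [coeff_topPart, if_pos himem] at this
        · exact coeff_eq_zero_of_natDegree_lt (by omega)
      · apply le_natDegree_of_ne_zero
        rw [← hcoeff]; exact hcj
    have hQ0 : Q ≠ 0 := by
      intro h0
      apply hcj
      rw [hcoeff, h0, coeff_zero]
    rcases eq_zero_or_leadingCoeff_neg h with h0 | hneg
    · exact absurd h0 hQ0
    · have hT' : (topPart ℓ d Q).leadingCoeff < 0 := by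
        rw [leadingCoeff, ← hj, hcoeff]
        rw [leadingCoeff, hQdeg] at hneg
        exact hneg
      obtain ⟨N, hN⟩ := eventually_neg_of_leadingCoeff_neg hT'
      exact ⟨N, fun m hm => (hN m hm).le⟩

/-- two mutual eventual inequalities give equality of the cross-multiplied polynomials. -/
theorem redEq_of_redLE_of_redLE {d : ℕ} {P Q : ℚ[X]} (h1 : RedLE d P Q) (h2 : RedLE d Q P) :
    RedEq d P Q := by
  obtain ⟨N1, hN1⟩ := h1
  obtain ⟨N2, hN2⟩ := h2
  show alpha d Q • P = alpha d P • Q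
  apply Polynomial.eq_of_infinite_eval_eq
  apply Set.infinite_of_injective_forall_mem (f := fun m : ℕ => ((m + max N1 N2 : ℕ) : ℚ))
  · intro a b hab
    have h0 : ((a + max N1 N2 : ℕ) : ℚ) = ((b + max N1 N2 : ℕ) : ℚ) := hab
    have : (a + max N1 N2 : ℕ) = b + max N1 N2 := Nat.cast_injective h0
    omega
  · intro m
    have a1 := hN1 (m + max N1 N2) (le_trans (le_max_left _ _) (Nat.le_add_left _ _))
    have a2 := hN2 (m + max N1 N2) (le_trans (le_max_right _ _) (Nat.le_add_left _ _))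
    exact le_antisymm a1 a2

end Groth.Agent.Lib.HilbCalc2

namespace Groth.Agent.Lib.ShStabH6

open Groth.Agent.Lib.HilbCalc Groth.Agent.Lib.HilbCalc2

variable (k : Type u) [Field k] {X : Scheme.{u}} [X.Over (Spec (CommRingCat.of k))]
  [IsProper (X ↘ Spec (CommRingCat.of k))]

section

variable {L : X.Modules} (hL : CohB1.IsAmple L) {d : ℕ}

include hL in
/-- **S15201**. -/
theorem main15201 {E : X.Modules} (F₁ F₂ : X.Modules) (ι₁ : F₁ ⟶ E) (ι₂ : F₂ ⟶ E)
    (h₁ : ShStab.IsMaxDestab k X L E d F₁ ι₁) (h₂ : ShStab.IsMaxDestab k X L E d F₂ ι₂) :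
    ∃ e : F₁ ≅ F₂, e.hom ≫ ι₂ = ι₁ := by
  obtain ⟨hm₁, hc₁, hn₁, hmax₁⟩ := h₁
  obtain ⟨hm₂, hc₂, hn₂, hmax₂⟩ := h₂
  haveI := hm₁
  haveI := hm₂
  obtain ⟨p₁, hp₁⟩ := exists_hilbPoly k hL.1 F₁ hc₁
  obtain ⟨p₂, hp₂⟩ := exists_hilbPoly k hL.1 F₂ hc₂
  obtain ⟨a1, b1⟩ := hmax₁ F₂ ι₂ hm₂ hc₂ hn₂ p₁ p₂ hp₁ hp₂
  obtain ⟨a2, b2⟩ := hmax₂ F₁ ι₁ hm₁ hc₁ hn₁ p₂ p₁ hp₂ hp₁
  obtain ⟨φ₂₁, hφ₂₁⟩ := b1 (redEq_of_redLE_of_redLE a1 a2)
  obtain ⟨φ₁₂, hφ₁₂⟩ := b2 (redEq_of_redLE_of_redLE a2 a1)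
  refine ⟨⟨φ₁₂, φ₂₁, ?_, ?_⟩, hφ₁₂⟩
  · rw [← cancel_mono ι₁, Category.assoc, hφ₂₁, hφ₁₂, Category.id_comp]
  · rw [← cancel_mono ι₂, Category.assoc, hφ₁₂, hφ₂₁, Category.id_comp]

omit [X.Over (Spec (CommRingCat.of k))] [IsProper (X ↘ Spec (CommRingCat.of k))] in
theorem support_eq_empty_of_isZero {F : X.Modules} (hz : IsZero F) : CohB1.support F = ∅ := by
  ext x
  simp only [Set.mem_empty_iff_false, iff_false]
  intro hx
  apply hx
  rw [SupportCoh.subsingleton_stalk_iff]
  intro U hxU s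
  have h1 : (𝟙 F : F ⟶ F) = 0 := hz.eq_of_src _ _
  have h2 : s = 0 := by
    have : (𝟙 F : F ⟶ F).app U s = (0 : F ⟶ F).app U s := by rw [h1]
    simpa using this
  rw [h2, map_zero]

/-- dimension of the support of a submodule. -/
theorem dim_support_le_of_mono {F E : X.Modules} (ι : F ⟶ E) [Mono ι] :
    topologicalKrullDim (CohB1.support F) ≤ topologicalKrullDim (CohB1.support E) :=
  (Topology.IsEmbedding.inclusion (CohDevH8.support_subset_of_mono ι)).isInducing.topologicalKrullDim_le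

include hL in
/-- the Hilbert polynomial of a nonzero coherent module is eventually positive. -/
theorem eventually_pos {F : X.Modules} (hF : Coh.IsCoh F) (hne : ¬ IsZero F) {P : ℚ[X]}
    (hP : ShStab.IsHilbPoly k X L F P) : ∃ N : ℕ, ∀ m : ℕ, N ≤ m → 0 < P.eval (m : ℚ) := by
  obtain ⟨r, hr⟩ := exists_dim_support k hne
  have h1 := alpha_pos k hL hF r hr hP
  have h2 := natDegree_le k hL.1 hF r hr.le hP
  apply eventually_pos_of_coeff_pos h2
  unfold alpha at h1
  have hf : (0 : ℚ) < (r.factorial : ℚ) := by exact_mod_cast Nat.factorial_pos r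
  rcases (mul_pos_iff.mp h1) with ⟨_, h⟩ | ⟨h', _⟩
  · exact h
  · exact absurd h' (not_lt.mpr hf.le)

include hL in
/-- purity from the cross-multiplied inequality. -/
theorem isPure_of_isSS {E : X.Modules} (hE : Coh.IsCoh E) (h0 : ¬ IsZero E)
    (hdim : topologicalKrullDim (CohB1.support E) = (d : WithBot ℕ∞))
    (hSS : StabCat.IsSS Coh.IsCoh (ShStab.IsHilbPoly k X L) d E) : ShStab.IsPure X E d := by
  intro F ι hι hF hne
  haveI := hι
  by_cases hiso : IsIso ι
  · have h1 := dim_support_le_of_mono ι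
    have h2 := dim_support_le_of_mono (inv ι)
    rw [← hdim]
    exact le_antisymm h1 h2
  · obtain ⟨r, hr⟩ := exists_dim_support k hne
    have hle : (r : WithBot ℕ∞) ≤ d := by
      rw [← hr, ← hdim]; exact dim_support_le_of_mono ι
    have hrd : r ≤ d := by exact_mod_cast hle
    rw [hr]
    by_contra hne'
    have hlt : r < d := lt_of_le_of_ne hrd (fun h => hne' (by rw [h]))
    obtain ⟨pF, hpF⟩ := exists_hilbPoly k hL.1 F hF
    obtain ⟨pE, hpE⟩ := exists_hilbPoly k hL.1 E hE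
    have hαE := alpha_pos k hL hE d hdim hpE
    have hαF : alpha d pF = 0 :=
      alpha_eq_zero_of_natDegree_lt (lt_of_le_of_lt (natDegree_le k hL.1 hF r hr.le hpF) hlt)
    obtain ⟨N1, hN1⟩ := hSS F ι hι hF hne hiso pF pE hpF hpE
    obtain ⟨N2, hN2⟩ := eventually_pos k hL hF hne hpF
    have a1 := hN1 (max N1 N2) (le_max_left _ _)
    have a2 := hN2 (max N1 N2) (le_max_right _ _)
    simp only [eval_smul, smul_eq_mul, hαF, zero_mul] at a1
    exact absurd (mul_pos hαE a2) (not_lt.mpr a1)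

include hL in
/-- **S15213**. -/
theorem main15213 {E : X.Modules} (hE : Coh.IsCoh E) (h0 : ¬ IsZero E)
    (hdim : topologicalKrullDim (CohB1.support E) = (d : WithBot ℕ∞)) :
    ShStab.IsSemistable k X L E d ↔ StabCat.IsSS Coh.IsCoh (ShStab.IsHilbPoly k X L) d E :=
  ⟨fun h => h.2.2.2, fun h => ⟨hE, h0, isPure_of_isSS k hL hE h0 hdim h, h⟩⟩

include hL in
/-- **S15214**. -/
theorem main15214 {E : X.Modules} (hE : Coh.IsCoh E) (h0 : ¬ IsZero E)
    (hdim : topologicalKrullDim (CohB1.support E) = (d : WithBot ℕ∞)) :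
    ShStab.IsStable k X L E d ↔ StabCat.IsSt Coh.IsCoh (ShStab.IsHilbPoly k X L) d E :=
  ⟨fun h => h.2.2.2, fun h => ⟨hE, h0, isPure_of_isSS k hL hE h0 hdim
    (fun F ι hι hF hne hni pF pE hpF hpE => redLE_of_redLT (h F ι hι hF hne hni pF pE hpF hpE)),
    h⟩⟩

/-- the reduced comparison of truncations from the full comparison. -/
theorem redLE_topPart {pF pE : ℚ[X]} (hF : pF.natDegree ≤ d) (hE : pE.natDegree ≤ d) (ℓ : ℕ)
    (h : RedLE d pF pE) : RedLE d (topPart ℓ d pF) (topPart ℓ d pE) := by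
  have hQdeg : (alpha d pE • pF - alpha d pF • pE).natDegree ≤ d :=
    (natDegree_sub_le _ _).trans (max_le ((natDegree_smul_le _ _).trans hF)
      ((natDegree_smul_le _ _).trans hE))
  have hQ : ∃ N : ℕ, ∀ m : ℕ, N ≤ m → (alpha d pE • pF - alpha d pF • pE).eval (m : ℚ) ≤ 0 := by
    obtain ⟨N, hN⟩ := h
    exact ⟨N, fun m hm => by rw [eval_sub]; exact sub_nonpos.mpr (hN m hm)⟩
  obtain ⟨N, hN⟩ := topPart_eventually_nonpos hQdeg ℓ hQ
  refine ⟨N, fun m hm => ?_⟩
  have := hN m hm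
  rw [topPart_sub, topPart_smul, topPart_smul, eval_sub] at this
  rw [alpha_topPart, alpha_topPart]
  exact sub_nonpos.mp this

/-- a subobject with positive multiplicity smaller than that of `E` is nonzero and proper. -/
theorem ne_zero_of_alpha_pos {F : X.Modules} (hLi : PicF.IsInvertible L) (hF : Coh.IsCoh F)
    {pF : ℚ[X]} (hpF : ShStab.IsHilbPoly k X L F pF) (hα : 0 < alpha d pF) : ¬ IsZero F := by
  intro hz
  rw [eq_zero_of_isZero k hLi hF hz hpF, alpha_zero] at hα
  exact lt_irrefl _ hα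

theorem not_isIso_of_alpha_lt {F E : X.Modules} (ι : F ⟶ E) {pF pE : ℚ[X]}
    (hpF : ShStab.IsHilbPoly k X L F pF) (hpE : ShStab.IsHilbPoly k X L E pE)
    (hα : alpha d pF < alpha d pE) : ¬ IsIso ι := by
  intro hiso
  rw [isHilbPoly_unique k hpE (isHilbPoly_of_iso k (asIso ι) hpF)] at hα
  exact lt_irrefl _ hα

include hL in
/-- the full reduced comparison for the subobjects tested by the `ℓ`-conditions. -/
theorem redLE_of_isSemistable {E : X.Modules} (hE : ShStab.IsSemistable k X L E d)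
    {F : X.Modules} (ι : F ⟶ E) (hι : Mono ι) (hF : Coh.IsCoh F) {pF pE : ℚ[X]}
    (hpF : ShStab.IsHilbPoly k X L F pF) (hpE : ShStab.IsHilbPoly k X L E pE)
    (hα1 : 0 < alpha d pF) (hα2 : alpha d pF < alpha d pE) :
    RedLE d pF pE ∧ pF.natDegree ≤ d ∧ pE.natDegree ≤ d := by
  have hne := ne_zero_of_alpha_pos k hL.1 hF hpF hα1
  have hni := not_isIso_of_alpha_lt k ι hpF hpE hα2
  refine ⟨hE.2.2.2 F ι hι hF hne hni pF pE hpF hpE, ?_, ?_⟩
  · exact natDegree_le k hL.1 hF d (hE.2.2.1 F ι hι hF hne).le hpF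
  · exact natDegree_le k hL.1 hE.1 d (dim_support_of_isPure hE.2.2.1 hE.1 hE.2.1).le hpE

include hL in
/-- **S15222**. -/
theorem main15222 (ℓ : ℕ) {E : X.Modules} (hE : ShStab.IsSemistable k X L E d) :
    ShStab.IsEllSemistable k X L E d ℓ := by
  refine ⟨hE.1, hE.2.1, hE.2.2.1, ?_⟩
  intro F ι hι hF pF pE hpF hpE hα1 hα2
  obtain ⟨h1, h2, h3⟩ := redLE_of_isSemistable k hL hE ι hι hF hpF hpE hα1 hα2
  exact redLE_topPart h2 h3 ℓ h1

include hL in
/-- the cokernel of a proper subobject: Hilbert polynomial data. -/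
theorem coker_data {E F : X.Modules} (hE : Coh.IsCoh E) (hEdim :
    topologicalKrullDim (CohB1.support E) = (d : WithBot ℕ∞)) (ι : F ⟶ E) [Mono ι]
    (hF : Coh.IsCoh F) (hni : ¬ IsIso ι) {pF pE : ℚ[X]}
    (hpF : ShStab.IsHilbPoly k X L F pF) (hpE : ShStab.IsHilbPoly k X L E pE) :
    ∃ pQ : ℚ[X], pE = pF + pQ ∧ pQ.natDegree ≤ d ∧ 0 ≤ alpha d pQ ∧
      ∃ N : ℕ, ∀ m : ℕ, N ≤ m → 0 < pQ.eval (m : ℚ) := by
  haveI : IsLocallyNoetherian X :=
    LocallyOfFiniteType.isLocallyNoetherian (X ↘ Spec (CommRingCat.of k))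
  have hQcoh : Coh.IsCoh (cokernel ι) := CohKerH8.isCoh_cokernel hF hE ι
  have hQne : ¬ IsZero (cokernel ι) := by
    intro hz
    apply hni
    haveI : Epi ι := Preadditive.epi_of_cokernel_zero (hz.eq_of_tgt _ _)
    exact isIso_of_mono_of_epi ι
  obtain ⟨pQ, hpQ⟩ := exists_hilbPoly k hL.1 _ hQcoh
  have hsum : pE = pF + pQ := isHilbPoly_unique k hpE
    (isHilbPoly_add k hL.1 (cokerSC ι) (cokerSC_shortExact ι) hF hE hQcoh hpF hpQ)
  haveI := hE.1
  haveI := hQcoh.1
  have hQdim : topologicalKrullDim (CohB1.support (cokernel ι)) ≤ (d : WithBot ℕ∞) := by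
    rw [← hEdim]
    exact (Topology.IsEmbedding.inclusion
      (CohDevH8.support_subset_of_epi (cokernel.π ι))).isInducing.topologicalKrullDim_le
  have hdeg := natDegree_le k hL.1 hQcoh d hQdim hpQ
  obtain ⟨N, hN⟩ := eventually_pos k hL hQcoh hQne hpQ
  refine ⟨pQ, hsum, hdeg, ?_, N, hN⟩
  by_contra hneg
  have hneg' : alpha d pQ < 0 := not_le.mp hneg
  have hc : pQ.coeff d < 0 := by
    unfold alpha at hneg'
    have hf : (0 : ℚ) < (d.factorial : ℚ) := by exact_mod_cast Nat.factorial_pos d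
    by_contra h
    have : 0 ≤ (d.factorial : ℚ) * pQ.coeff d := mul_nonneg hf.le (not_lt.mp h)
    exact absurd hneg' (not_lt.mpr this)
  have hnd : pQ.natDegree = d := le_antisymm hdeg (le_natDegree_of_ne_zero hc.ne)
  have hlc : pQ.leadingCoeff < 0 := by rw [leadingCoeff, hnd]; exact hc
  obtain ⟨N', hN'⟩ := eventually_neg_of_leadingCoeff_neg hlc
  have a1 := hN (max N N') (le_max_left _ _)
  have a2 := hN' (max N N') (le_max_right _ _)
  exact absurd a1 (not_lt.mpr a2.le)

include hL in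
/-- **S15217**. -/
theorem main15217 (E : X.Modules) :
    ShStab.IsSemistable k X L E d ↔ ShStab.IsEllSemistable k X L E d d := by
  constructor
  · exact main15222 k hL d
  · rintro ⟨hE, h0, hp, hell⟩
    refine ⟨hE, h0, hp, ?_⟩
    intro F ι hι hF hne hni pF pE hpF hpE
    haveI := hι
    have hEdim := dim_support_of_isPure hp hE h0
    have hFdim := hp F ι hι hF hne
    obtain ⟨pQ, hsum, hQdeg, hαQ, N, hN⟩ := coker_data k hL hE hEdim ι hF hni hpF hpE
    have hαF := alpha_pos k hL hF d hFdim hpF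
    have hαE := alpha_pos k hL hE d hEdim hpE
    have hαsum : alpha d pE = alpha d pF + alpha d pQ := by rw [hsum, alpha_add]
    by_cases hlt : alpha d pF < alpha d pE
    · have h1 := hell F ι hι hF pF pE hpF hpE hαF hlt
      rwa [topPart_eq_self (natDegree_le k hL.1 hF d hFdim.le hpF) d le_rfl,
        topPart_eq_self (natDegree_le k hL.1 hE d hEdim.le hpE) d le_rfl] at h1
    · have hαQ0 : alpha d pQ = 0 := by linarith
      refine ⟨N, fun m hm => ?_⟩
      have := hN m hm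
      simp only [eval_smul, smul_eq_mul]
      rw [hαsum, hαQ0, add_zero, hsum, eval_add]
      nlinarith

include hL in
/-- **S15218**. -/
theorem main15218 (E : X.Modules) :
    ShStab.IsStable k X L E d ↔ ShStab.IsEllStable k X L E d d := by
  constructor
  · intro hE
    refine ⟨hE.1, hE.2.1, hE.2.2.1, ?_⟩
    intro F ι hι hF pF pE hpF hpE hα1 hα2
    have hne := ne_zero_of_alpha_pos k hL.1 hF hpF hα1
    have hni := not_isIso_of_alpha_lt k ι hpF hpE hα2
    have h1 := hE.2.2.2 F ι hι hF hne hni pF pE hpF hpE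
    rwa [topPart_eq_self (natDegree_le k hL.1 hF d (hE.2.2.1 F ι hι hF hne).le hpF) d le_rfl,
      topPart_eq_self (natDegree_le k hL.1 hE.1 d
        (dim_support_of_isPure hE.2.2.1 hE.1 hE.2.1).le hpE) d le_rfl]
  · rintro ⟨hE, h0, hp, hell⟩
    refine ⟨hE, h0, hp, ?_⟩
    intro F ι hι hF hne hni pF pE hpF hpE
    haveI := hι
    have hEdim := dim_support_of_isPure hp hE h0
    have hFdim := hp F ι hι hF hne
    obtain ⟨pQ, hsum, hQdeg, hαQ, N, hN⟩ := coker_data k hL hE hEdim ι hF hni hpF hpE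
    have hαF := alpha_pos k hL hF d hFdim hpF
    have hαE := alpha_pos k hL hE d hEdim hpE
    have hαsum : alpha d pE = alpha d pF + alpha d pQ := by rw [hsum, alpha_add]
    by_cases hlt : alpha d pF < alpha d pE
    · have h1 := hell F ι hι hF pF pE hpF hpE hαF hlt
      rwa [topPart_eq_self (natDegree_le k hL.1 hF d hFdim.le hpF) d le_rfl,
        topPart_eq_self (natDegree_le k hL.1 hE d hEdim.le hpE) d le_rfl] at h1
    · have hαQ0 : alpha d pQ = 0 := by linarith
      refine ⟨N, fun m hm => ?_⟩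
      have := hN m hm
      simp only [eval_smul, smul_eq_mul]
      rw [hαsum, hαQ0, add_zero, hsum, eval_add]
      nlinarith

include hL in
/-- **S15210**. -/
theorem main15210 (hd : 1 ≤ d) {E : X.Modules} (hE : ShStab.IsSemistable k X L E d) :
    ShStab.IsMuSemistable k X L E d := by
  refine ⟨hE.1, hE.2.1, dim_support_of_isPure hE.2.2.1 hE.1 hE.2.1, ?_, ?_⟩
  · intro F ι hι hF
    by_cases hz : IsZero F
    · have h0 : CohB1.support F = ∅ := support_eq_empty_of_isZero hz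
      haveI : IsEmpty (CohB1.support F) := Set.isEmpty_coe_sort.mpr h0
      rw [topDim_eq_bot_of_isEmpty]
      simp
    · rw [hE.2.2.1 F ι hι hF hz]
      intro h
      have : ((d + 1 : ℕ) : WithBot ℕ∞) = (d : WithBot ℕ∞) := by exact_mod_cast h
      have h2 : d + 1 = d := by exact_mod_cast this
      omega
  · intro F ι hι hF pF pE hpF hpE hα1 hα2
    obtain ⟨h1, h2, h3⟩ := redLE_of_isSemistable k hL hE ι hι hF hpF hpE hα1 hα2
    have hαE : 0 < alpha d pE := lt_trans hα1 hα2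
    -- the difference polynomial
    set Q := alpha d pE • pF - alpha d pF • pE with hQ
    have hQdeg : Q.natDegree ≤ d :=
      (natDegree_sub_le _ _).trans (max_le ((natDegree_smul_le _ _).trans h2)
        ((natDegree_smul_le _ _).trans h3))
    have hQd : Q.coeff d = 0 := by
      rw [hQ, coeff_sub, coeff_smul, coeff_smul, smul_eq_mul, smul_eq_mul]
      unfold alpha
      ring
    have hQdeg' : Q.natDegree ≤ d - 1 := by
      rw [natDegree_le_iff_coeff_eq_zero]
      intro i hi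
      by_cases hid : i = d
      · rw [hid]; exact hQd
      · exact coeff_eq_zero_of_natDegree_lt (by omega)
    have hQle : ∃ N : ℕ, ∀ m : ℕ, N ≤ m → Q.eval (m : ℚ) ≤ 0 := by
      obtain ⟨N, hN⟩ := h1
      exact ⟨N, fun m hm => by rw [hQ, eval_sub]; exact sub_nonpos.mpr (hN m hm)⟩
    have hc : Q.coeff (d - 1) ≤ 0 := by
      by_contra hpos
      obtain ⟨N1, hN1⟩ := eventually_pos_of_coeff_pos hQdeg' (not_le.mp hpos)
      obtain ⟨N2, hN2⟩ := hQle
      have a1 := hN1 (max N1 N2) (le_max_left _ _)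
      have a2 := hN2 (max N1 N2) (le_max_right _ _)
      exact absurd a1 (not_lt.mpr a2)
    unfold hatSlope
    rw [div_le_div_iff₀ hα1 hαE]
    rw [hQ, coeff_sub, coeff_smul, coeff_smul, smul_eq_mul, smul_eq_mul] at hc
    have hf : (0 : ℚ) < ((d - 1).factorial : ℚ) := by exact_mod_cast Nat.factorial_pos (d - 1)
    unfold alpha at hα1 hαE hc ⊢
    have h5 := mul_nonpos_of_nonneg_of_nonpos hf.le hc
    linarith [h5]

end

end Groth.Agent.Lib.ShStabH6
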