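import Mathlib
import Groth.Prelude
import Groth.Agent.Lib.HilbCalc_helper6
import Groth.Agent.Lib.ShStab2_helper6
import Groth.Agent.Lib.ProjTens1_helper9
import Groth.Agent.Lib.ProjTwAmple_helper5
import Groth.Agent.Lib.ProjSpaceProper_helper4

/-!
# Hilbert polynomials on projective space via the twisting sheaves `O(m)`, `m ∈ ℤ` (helper6)

* `wRedLE_iff`, `wRedLT_iff`: the quotient form of the reduced comparisons
  (`W4c2simpsonmod1.RedLE/RedLT`) against the cross-multiplied form of `StabCat`.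
* `isAmple_one`, `isProper`: `O(1)` is ample on `P^n_k`, which is proper over `k`.
* `isHilbPoly_iff`: Hilbert polynomial w.r.t. `O(1)^{⊗ m}` against twisting by `O(m)`, `m ∈ ℕ`.
* `euler_twist_int`: the Hilbert polynomial computes `χ(F(m))` for all integers `m`.
APPEND-ONLY once landed.
-/

set_option autoImplicit false
set_option linter.all false
set_option maxHeartbeats 1600000

universe u
open Polynomial StabCat
open CategoryTheory CategoryTheory.Limits AlgebraicGeometry TopologicalSpace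

namespace Groth.Agent.Lib.TwistHilb

open Groth.Agent.ProjTens Groth.Agent.TensInv Groth.Agent.Lib.HilbCalc
open Groth.Agent.ProjCech Groth.Agent.ProjFin

section Poly

theorem rankOf_eq (d : ℕ) (φ : ℚ[X]) : W4c2simpsonmod1.rankOf d φ = alpha d φ := rfl

theorem wRedLE_iff {d : ℕ} {ψ φ : ℚ[X]} (hψ : 0 < alpha d ψ) (hφ : 0 < alpha d φ) :
    W4c2simpsonmod1.RedLE d ψ φ ↔ StabCat.RedLE d ψ φ := by
  unfold W4c2simpsonmod1.RedLE StabCat.RedLE StabCat.PolyLE
  rw [rankOf_eq, rankOf_eq]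
  constructor
  · rintro ⟨N, hN⟩
    refine ⟨N.toNat, fun m hm => ?_⟩
    have h := hN (m : ℤ) (by omega)
    rw [div_le_div_iff₀ hψ hφ] at h
    simp only [eval_smul, smul_eq_mul]
    push_cast at h
    linarith
  · rintro ⟨N, hN⟩
    refine ⟨N, fun m hm => ?_⟩
    have hm0 : 0 ≤ m := le_trans (by positivity) hm
    obtain ⟨j, rfl⟩ := Int.eq_ofNat_of_zero_le hm0
    have h := hN j (by exact_mod_cast hm)
    rw [div_le_div_iff₀ hψ hφ]
    simp only [eval_smul, smul_eq_mul] at h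
    push_cast
    linarith

theorem wRedLT_iff {d : ℕ} {ψ φ : ℚ[X]} (hψ : 0 < alpha d ψ) (hφ : 0 < alpha d φ) :
    W4c2simpsonmod1.RedLT d ψ φ ↔ StabCat.RedLT d ψ φ := by
  unfold W4c2simpsonmod1.RedLT StabCat.RedLT StabCat.PolyLT
  rw [rankOf_eq, rankOf_eq]
  constructor
  · rintro ⟨N, hN⟩
    refine ⟨N.toNat, fun m hm => ?_⟩
    have h := hN (m : ℤ) (by omega)
    rw [div_lt_div_iff₀ hψ hφ] at h
    simp only [eval_smul, smul_eq_mul]
    push_cast at h
    linarith
  · rintro ⟨N, hN⟩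
    refine ⟨N, fun m hm => ?_⟩
    have hm0 : 0 ≤ m := le_trans (by positivity) hm
    obtain ⟨j, rfl⟩ := Int.eq_ofNat_of_zero_le hm0
    have h := hN j (by exact_mod_cast hm)
    rw [div_lt_div_iff₀ hψ hφ]
    simp only [eval_smul, smul_eq_mul] at h
    push_cast
    linarith

/-- two polynomials agreeing at all large natural numbers are equal. -/
theorem eq_of_eval_nat_ge {P Q : ℚ[X]} (N : ℕ)
    (h : ∀ m : ℕ, N ≤ m → P.eval (m : ℚ) = Q.eval (m : ℚ)) : P = Q := by
  have h2 : P.comp (X + C (N : ℚ)) = Q.comp (X + C (N : ℚ)) := by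
    apply eq_of_eval_nat
    intro m
    rw [eval_comp, eval_comp, eval_add, eval_X, eval_C]
    have := h (m + N) (by omega)
    push_cast at this
    exact this
  have h3 := congrArg (fun R : ℚ[X] => R.comp (X - C (N : ℚ))) h2
  simp only [comp_assoc, add_comp, X_comp, C_comp, sub_add_cancel, comp_X] at h3
  exact h3

end Poly

section General

variable (k : Type u) [Field k] {X : Scheme.{u}} [X.Over (Spec (CommRingCat.of k))]
  [IsProper (X ↘ Spec (CommRingCat.of k))]

/-- Hilbert polynomials with respect to `L` through a family `T m ≅ L^{⊗ m}`, `m ∈ ℕ`. -/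
theorem isHilbPoly_iff_of_family {L : X.Modules} (T : ℤ → X.Modules)
    (hpow : ∀ m : ℕ, Nonempty (T (m : ℤ) ≅ CohB1.tensorPow L m)) (F : X.Modules) (P : ℚ[X]) :
    ShStab.IsHilbPoly k X L F P ↔
      ∀ m : ℕ, (Curv2.euler k X (CohB1.tensorMod F (T (m : ℤ))) : ℚ) = P.eval (m : ℚ) := by
  have key : ∀ m : ℕ, Curv2.euler k X (ShStab.twist X L F m) =
      Curv2.euler k X (CohB1.tensorMod F (T (m : ℤ))) := by
    intro m
    obtain ⟨e⟩ := hpow m
    exact CurveTens.euler_of_iso k _ (mapL F e.symm)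
  constructor
  · intro h m
    rw [← key]
    exact h m
  · intro h m
    rw [key]
    exact h m

/-- the Hilbert polynomial computes `χ(F ⊗ T m)` for all integers `m`, for a family of invertible
modules `T m`, `m ∈ ℤ`, with `T a ⊗ T b ≅ T (a + b)` and `T m ≅ L^{⊗ m}` for `m ∈ ℕ`. -/
theorem euler_twist_int_of_family {L : X.Modules} (hL : PicF.IsInvertible L) (T : ℤ → X.Modules)
    (hTinv : ∀ m, PicF.IsInvertible (T m))
    (hadd : ∀ a b : ℤ, Nonempty (CohB1.tensorMod (T a) (T b) ≅ T (a + b)))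
    (hpow : ∀ m : ℕ, Nonempty (T (m : ℤ) ≅ CohB1.tensorPow L m))
    (F : X.Modules) (hF : Coh.IsCoh F) (P : ℚ[X]) (hP : ShStab.IsHilbPoly k X L F P) (m : ℤ) :
    (Curv2.euler k X (CohB1.tensorMod F (T m)) : ℚ) = P.eval (m : ℚ) := by
  haveI : IsLocallyNoetherian X :=
    LocallyOfFiniteType.isLocallyNoetherian (X ↘ Spec (CommRingCat.of k))
  have hP' := (isHilbPoly_iff_of_family k T hpow F P).mp hP
  have hF' : Coh.IsCoh (CohB1.tensorMod F (T m)) := Snap9.isCoh_tensorMod hF (hTinv m)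
  obtain ⟨P', hQ⟩ := exists_hilbPoly k hL _ hF'
  have hQ' := (isHilbPoly_iff_of_family k T hpow _ P').mp hQ
  have key : ∀ j : ℕ, (Curv2.euler k X (CohB1.tensorMod F (T (m + j))) : ℚ) =
      P'.eval (j : ℚ) := by
    intro j
    rw [← hQ' j]
    obtain ⟨e⟩ := hadd m (j : ℤ)
    rw [CurveTens.euler_of_iso k _ (assoc F (T m) (T (j : ℤ)) ≪≫ mapL F e)]
  have hcomp : P' = P.comp (Polynomial.X + C (m : ℚ)) := by
    apply eq_of_eval_nat_ge m.natAbs
    intro j hj
    rw [← key j, eval_comp, eval_add, eval_X, eval_C]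
    have hnn : 0 ≤ m + j := by omega
    obtain ⟨i, hi⟩ := Int.eq_ofNat_of_zero_le hnn
    rw [hi, hP' i]
    have : ((i : ℕ) : ℚ) = (j : ℚ) + (m : ℚ) := by
      have h2 : ((i : ℤ) : ℚ) = ((m + j : ℤ) : ℚ) := by rw [hi]
      push_cast at h2
      rw [h2]; ring
    rw [this]
  have h0 := key 0
  rw [hcomp, eval_comp, eval_add, eval_X, eval_C] at h0
  simp only [Nat.cast_zero, add_zero, zero_add] at h0
  exact h0

/-- a polynomial computing `χ(F ⊗ T m)` for all integers `m` is a Hilbert polynomial. -/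
theorem isHilbPoly_of_int_of_family {L : X.Modules} (T : ℤ → X.Modules)
    (hpow : ∀ m : ℕ, Nonempty (T (m : ℤ) ≅ CohB1.tensorPow L m)) (F : X.Modules) (P : ℚ[X])
    (h : ∀ m : ℤ, (Curv2.euler k X (CohB1.tensorMod F (T m)) : ℚ) = P.eval (m : ℚ)) :
    ShStab.IsHilbPoly k X L F P := by
  rw [isHilbPoly_iff_of_family k T hpow]
  intro m
  have := h (m : ℤ)
  push_cast at this
  exact this

end General

section Proj

variable (n : ℕ) (k : Type u) [Field k]

theorem isProper : IsProper (CohB1.ProjSpace n k ↘ Spec (CommRingCat.of k)) :=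
  Groth.Agent.Lib.ProjSpaceProperH4.isProper_toSpec n k

theorem isAmple_one : CohB1.IsAmple (OO n k 1) := by
  classical
  exact Groth.Agent.ProjTw.isAmple_twist_one (CohB1.polyGrading n k) _
    (Groth.Agent.ProjFin.hs1_X n k) (Groth.Agent.ProjFin.hcov_X n k)

theorem isInvertible_OO (m : ℤ) : PicF.IsInvertible (OO n k m) :=
  Groth.Agent.ProjTw.isInvertible_twist (𝒜 n k) (hcov' n k) m

theorem euler_twist_nat (F : (CohB1.ProjSpace n k).Modules) (m : ℕ) :
    Curv2.euler k (CohB1.ProjSpace n k) (ShStab.twist (CohB1.ProjSpace n k) (OO n k 1) F m) =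
      Curv2.euler k (CohB1.ProjSpace n k) (CohB1.tensorMod F (OO n k (m : ℤ))) := by
  obtain ⟨e⟩ := Groth.Agent.ProjTw.tensorPow_iso (𝒜 n k) (hcov' n k) m
  exact CurveTens.euler_of_iso k _ (mapL F e)

theorem isHilbPoly_iff (F : (CohB1.ProjSpace n k).Modules) (P : ℚ[X]) :
    ShStab.IsHilbPoly k (CohB1.ProjSpace n k) (OO n k 1) F P ↔
      ∀ m : ℕ, (Curv2.euler k (CohB1.ProjSpace n k)
        (CohB1.tensorMod F (OO n k (m : ℤ))) : ℚ) = P.eval (m : ℚ) := by
  constructor
  · intro h m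
    rw [← euler_twist_nat]
    exact h m
  · intro h m
    rw [euler_twist_nat]
    exact h m

/-- the Hilbert polynomial computes `χ(F(m))` for all integers `m`. -/
theorem euler_twist_int (F : (CohB1.ProjSpace n k).Modules) (hF : Coh.IsCoh F) (P : ℚ[X])
    (hP : ShStab.IsHilbPoly k (CohB1.ProjSpace n k) (OO n k 1) F P) (m : ℤ) :
    (Curv2.euler k (CohB1.ProjSpace n k) (CohB1.tensorMod F (OO n k m)) : ℚ) =
      P.eval (m : ℚ) := by
  haveI := isProper n k
  haveI : IsLocallyNoetherian (CohB1.ProjSpace n k) :=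
    LocallyOfFiniteType.isLocallyNoetherian (CohB1.ProjSpace n k ↘ Spec (CommRingCat.of k))
  have hP' := (isHilbPoly_iff n k F P).mp hP
  -- the twisted module
  have hF' : Coh.IsCoh (CohB1.tensorMod F (OO n k m)) :=
    Snap9.isCoh_tensorMod hF (isInvertible_OO n k m)
  obtain ⟨P', hQ⟩ := exists_hilbPoly k (isAmple_one n k).1 _ hF'
  have hQ' := (isHilbPoly_iff n k _ P').mp hQ
  -- `χ(F(m)(j)) = χ(F(m + j))`
  have key : ∀ j : ℕ, (Curv2.euler k (CohB1.ProjSpace n k)
      (CohB1.tensorMod F (OO n k (m + j))) : ℚ) = P'.eval (j : ℚ) := by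
    intro j
    rw [← hQ' j]
    obtain ⟨e⟩ := twist_twist n k F m (j : ℤ) (m + j) rfl
    rw [CurveTens.euler_of_iso k _ e]
  -- `P' = P(X + m)`
  have hcomp : P' = P.comp (X + C (m : ℚ)) := by
    apply eq_of_eval_nat_ge m.natAbs
    intro j hj
    rw [← key j, eval_comp, eval_add, eval_X, eval_C]
    have hnn : 0 ≤ m + j := by omega
    obtain ⟨i, hi⟩ := Int.eq_ofNat_of_zero_le hnn
    rw [hi, hP' i]
    have : ((i : ℕ) : ℚ) = (j : ℚ) + (m : ℚ) := by
      have h2 : ((i : ℤ) : ℚ) = ((m + j : ℤ) : ℚ) := by rw [hi]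
      push_cast at h2
      rw [h2]; ring
    rw [this]
  have h0 := key 0
  rw [hcomp, eval_comp, eval_add, eval_X, eval_C] at h0
  simp only [Nat.cast_zero, add_zero, zero_add] at h0
  exact h0

/-- uniqueness of polynomials computing `χ(F(m))`, `m ∈ ℤ`. -/
theorem poly_unique {a : ℤ → ℚ} {P Q : ℚ[X]} (hP : ∀ m : ℤ, a m = P.eval (m : ℚ))
    (hQ : ∀ m : ℤ, a m = Q.eval (m : ℚ)) : P = Q := by
  apply eq_of_eval_nat
  intro m
  have h1 := hP (m : ℤ)
  have h2 := hQ (m : ℤ)
  push_cast at h1 h2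
  rw [← h1, ← h2]

/-- a polynomial computing `χ(F(m))` for all integers `m` is a Hilbert polynomial. -/
theorem isHilbPoly_of_int (F : (CohB1.ProjSpace n k).Modules) (P : ℚ[X])
    (h : ∀ m : ℤ, (Curv2.euler k (CohB1.ProjSpace n k) (CohB1.tensorMod F (OO n k m)) : ℚ) =
      P.eval (m : ℚ)) : ShStab.IsHilbPoly k (CohB1.ProjSpace n k) (OO n k 1) F P := by
  rw [isHilbPoly_iff]
  intro m
  have := h (m : ℤ)
  push_cast at this
  exact this

end Proj

end Groth.Agent.Lib.TwistHilb
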