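import Mathlib
import Groth.Prelude
import Groth.Agent.Lib.ShStabSimple_helper6
import Groth.Agent.Lib.TwistHilb_helper6
import Groth.Agent.Lib.Snap18_helper9

/-!
# Simplicity of `ℓ`-stable pure sheaves on projective schemes (helper6)

* `not_both_lt`: the vector of normalised coefficients of `Q₁ + Q₂` is a convex combination of
  those of `Q₁` and `Q₂`, so it cannot be lexicographically greater than both.
* `isIso_of_ne_zero_of_lexStable`: nonzero endomorphisms of a pure `ℓ`-stable sheaf are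
  isomorphisms.
* `main15002`: such sheaves are simple over an algebraically closed field.
APPEND-ONLY once landed.
-/

set_option autoImplicit false
set_option linter.all false
set_option maxHeartbeats 1600000

universe u
open Polynomial StabCat
open CategoryTheory CategoryTheory.Limits AlgebraicGeometry TopologicalSpace

namespace Groth.Agent.Lib.EllSimple

open Groth.Agent.Lib.HilbCalc Groth.Agent.Lib.ShStabH6 Groth.Agent.Lib.TwistHilb

section Lex

/-- the vector `(α_{d-1}/α_d, …, α_{d-ℓ}/α_d)`. -/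
def vec (d ℓ : ℕ) (R : ℚ[X]) : Fin ℓ → ℚ := fun j =>
  (R.coeff (d - 1 - (j : ℕ)) * (Nat.factorial (d - 1 - (j : ℕ)) : ℚ)) /
    (R.coeff d * (Nat.factorial d : ℚ))

theorem vec_add_le {d ℓ : ℕ} {Q₁ Q₂ : ℚ[X]} (h1 : 0 < Q₁.coeff d) (h2 : 0 < Q₂.coeff d)
    (i : Fin ℓ) :
    (vec d ℓ Q₁ i ≤ vec d ℓ (Q₁ + Q₂) i ↔
      Q₁.coeff (d - 1 - (i : ℕ)) * Q₂.coeff d ≤ Q₂.coeff (d - 1 - (i : ℕ)) * Q₁.coeff d) ∧
    (vec d ℓ Q₁ i < vec d ℓ (Q₁ + Q₂) i ↔
      Q₁.coeff (d - 1 - (i : ℕ)) * Q₂.coeff d < Q₂.coeff (d - 1 - (i : ℕ)) * Q₁.coeff d) ∧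
    (vec d ℓ Q₁ i = vec d ℓ (Q₁ + Q₂) i ↔
      Q₁.coeff (d - 1 - (i : ℕ)) * Q₂.coeff d = Q₂.coeff (d - 1 - (i : ℕ)) * Q₁.coeff d) := by
  have hd : (0 : ℚ) < (Nat.factorial d : ℚ) := by exact_mod_cast Nat.factorial_pos d
  have hc : (0 : ℚ) < (Nat.factorial (d - 1 - (i : ℕ)) : ℚ) := by
    exact_mod_cast Nat.factorial_pos _
  have hA : 0 < Q₁.coeff d * (Nat.factorial d : ℚ) := mul_pos h1 hd
  have hB : 0 < (Q₁ + Q₂).coeff d * (Nat.factorial d : ℚ) := by
    rw [coeff_add]; exact mul_pos (add_pos h1 h2) hd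
  unfold vec
  simp only [coeff_add]
  refine ⟨?_, ?_, ?_⟩
  · rw [div_le_div_iff₀ hA (by rw [coeff_add] at hB; exact hB)]
    constructor
    · intro h
      have h3 : 0 ≤ (Q₂.coeff (d - 1 - (i : ℕ)) * Q₁.coeff d -
          Q₁.coeff (d - 1 - (i : ℕ)) * Q₂.coeff d) * ((Nat.factorial (d - 1 - (i : ℕ)) : ℚ) *
            (Nat.factorial d : ℚ)) := by nlinarith
      have h4 := nonneg_of_mul_nonneg_left h3 (mul_pos hc hd)
      linarith
    · intro h
      have h3 : 0 ≤ (Q₂.coeff (d - 1 - (i : ℕ)) * Q₁.coeff d -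
          Q₁.coeff (d - 1 - (i : ℕ)) * Q₂.coeff d) * ((Nat.factorial (d - 1 - (i : ℕ)) : ℚ) *
            (Nat.factorial d : ℚ)) :=
        mul_nonneg (by linarith) (mul_pos hc hd).le
      nlinarith
  · rw [div_lt_div_iff₀ hA (by rw [coeff_add] at hB; exact hB)]
    constructor
    · intro h
      have h3 : 0 < (Q₂.coeff (d - 1 - (i : ℕ)) * Q₁.coeff d -
          Q₁.coeff (d - 1 - (i : ℕ)) * Q₂.coeff d) * ((Nat.factorial (d - 1 - (i : ℕ)) : ℚ) *
            (Nat.factorial d : ℚ)) := by nlinarith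
      have h4 := pos_of_mul_pos_left h3 (mul_pos hc hd).le
      linarith
    · intro h
      have h3 : 0 < (Q₂.coeff (d - 1 - (i : ℕ)) * Q₁.coeff d -
          Q₁.coeff (d - 1 - (i : ℕ)) * Q₂.coeff d) * ((Nat.factorial (d - 1 - (i : ℕ)) : ℚ) *
            (Nat.factorial d : ℚ)) :=
        mul_pos (by linarith) (mul_pos hc hd)
      nlinarith
  · rw [div_eq_div_iff hA.ne' (by rw [coeff_add] at hB; exact hB.ne')]
    constructor
    · intro h
      have h3 : (Q₂.coeff (d - 1 - (i : ℕ)) * Q₁.coeff d -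
          Q₁.coeff (d - 1 - (i : ℕ)) * Q₂.coeff d) * ((Nat.factorial (d - 1 - (i : ℕ)) : ℚ) *
            (Nat.factorial d : ℚ)) = 0 := by linear_combination (-1 : ℚ) * h
      rcases mul_eq_zero.mp h3 with h4 | h4
      · linarith
      · exact absurd h4 (mul_pos hc hd).ne'
    · intro h
      linear_combination ((Nat.factorial (d - 1 - (i : ℕ)) : ℚ) * (Nat.factorial d : ℚ)) * h

/-- the normalised coefficient vector of a sum cannot dominate both summands strictly. -/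
theorem not_both_lt {d ℓ : ℕ} {P Q₁ Q₂ : ℚ[X]} (hsum : P = Q₁ + Q₂) (h1 : 0 < Q₁.coeff d)
    (h2 : 0 < Q₂.coeff d) (hlt1 : toLex (vec d ℓ Q₁) < toLex (vec d ℓ P))
    (hlt2 : toLex (vec d ℓ Q₂) < toLex (vec d ℓ P)) : False := by
  subst hsum
  obtain ⟨i₁, he1, hl1⟩ := hlt1
  obtain ⟨i₂, he2, hl2⟩ := hlt2
  have hl2' : vec d ℓ Q₂ i₂ < vec d ℓ (Q₂ + Q₁) i₂ := by rw [add_comm]; exact hl2
  have he2' : ∀ j, j < i₂ → vec d ℓ Q₂ j = vec d ℓ (Q₂ + Q₁) j := by
    intro j hj; rw [add_comm]; exact he2 j hj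
  rcases lt_trichotomy i₁ i₂ with h | h | h
  · have a1 := (vec_add_le h1 h2 i₁).2.1.mp hl1
    have a2 := (vec_add_le h2 h1 i₁).2.2.mp (he2' i₁ h)
    linarith
  · subst h
    have a1 := (vec_add_le h1 h2 i₁).2.1.mp hl1
    have a2 := (vec_add_le h2 h1 i₁).2.1.mp hl2'
    linarith
  · have a1 := (vec_add_le h1 h2 i₂).2.2.mp (he1 i₂ h)
    have a2 := (vec_add_le h2 h1 i₂).2.1.mp hl2'
    linarith

end Lex

section Sheaf

variable (k : Type u) [Field k] {X : Scheme.{u}} [X.Over (Spec (CommRingCat.of k))]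
  [IsProper (X ↘ Spec (CommRingCat.of k))]

/-- nonzero endomorphisms of a pure sheaf which is stable in the lexicographic sense are
isomorphisms. -/
theorem isIso_of_ne_zero_of_lexStable {L : X.Modules} (hL : CohB1.IsAmple L) (d ℓ : ℕ)
    (E : X.Modules) (hE : Coh.IsCoh E) (P : ℚ[X]) (hP : ShStab.IsHilbPoly k X L E P)
    (hpure : ShStab.IsPure X E d)
    (hst : ∀ (F : X.Modules) (j : F ⟶ E), Mono j → Coh.IsCoh F → ∀ Q : ℚ[X],
      ShStab.IsHilbPoly k X L F Q → 0 < Q.coeff d → Q.coeff d < P.coeff d →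
        toLex (vec d ℓ Q) < toLex (vec d ℓ P))
    (ψ : E ⟶ E) (hψ : ψ ≠ 0) : IsIso ψ := by
  haveI : IsLocallyNoetherian X :=
    LocallyOfFiniteType.isLocallyNoetherian (X ↘ Spec (CommRingCat.of k))
  have hfac : Abelian.factorThruImage ψ ≫ Abelian.image.ι ψ = ψ := Abelian.image.fac ψ
  have hIcoh : Coh.IsCoh (Abelian.image ψ) :=
    CohKerH8.isCoh_kernel hE (CohKerH8.isCoh_cokernel hE hE ψ) _
  have hKcoh : Coh.IsCoh (kernel (Abelian.factorThruImage ψ)) :=
    CohKerH8.isCoh_kernel hE hIcoh _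
  have hIne : ¬ IsZero (Abelian.image ψ) := by
    intro h
    apply hψ
    rw [← hfac, h.eq_of_tgt (Abelian.factorThruImage ψ) 0, Limits.zero_comp]
  have hIdim := hpure _ (Abelian.image.ι ψ) inferInstance hIcoh hIne
  obtain ⟨pI, hpI⟩ := exists_hilbPoly k hL.1 _ hIcoh
  obtain ⟨pK, hpK⟩ := exists_hilbPoly k hL.1 _ hKcoh
  have hsum : P = pK + pI :=
    isHilbPoly_unique k hP
      (isHilbPoly_add k hL.1 (kerImSC ψ) (kerImSC_shortExact ψ) hKcoh hE hIcoh hpK hpI)
  have hαI := alpha_pos k hL hIcoh d hIdim hpI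
  have hd : (0 : ℚ) < (Nat.factorial d : ℚ) := by exact_mod_cast Nat.factorial_pos d
  have hcI : 0 < pI.coeff d := by
    unfold alpha at hαI
    exact pos_of_mul_pos_left (by rw [mul_comm]; exact hαI) hd.le
  -- the kernel vanishes
  have hK0 : IsZero (kernel (Abelian.factorThruImage ψ)) := by
    by_contra hK0
    have hKdim := hpure _ (kernel.ι (Abelian.factorThruImage ψ)) inferInstance hKcoh hK0
    have hαK := alpha_pos k hL hKcoh d hKdim hpK
    have hcK : 0 < pK.coeff d := by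
      unfold alpha at hαK
      exact pos_of_mul_pos_left (by rw [mul_comm]; exact hαK) hd.le
    have hPc : P.coeff d = pK.coeff d + pI.coeff d := by rw [hsum, coeff_add]
    exact not_both_lt hsum hcK hcI
      (hst _ (kernel.ι (Abelian.factorThruImage ψ)) inferInstance hKcoh pK hpK hcK
        (by rw [hPc]; linarith))
      (hst _ (Abelian.image.ι ψ) inferInstance hIcoh pI hpI hcI (by rw [hPc]; linarith))
  haveI : Mono (Abelian.factorThruImage ψ) :=
    Preadditive.mono_of_kernel_zero (hK0.eq_of_src _ _)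
  haveI : Mono ψ := by rw [← hfac]; exact mono_comp _ _
  -- the cokernel vanishes
  have hQcoh : Coh.IsCoh (cokernel ψ) := CohKerH8.isCoh_cokernel hE hE ψ
  obtain ⟨pQ, hpQ⟩ := exists_hilbPoly k hL.1 _ hQcoh
  have hsum2 : P = P + pQ := isHilbPoly_unique k hP
    (isHilbPoly_add k hL.1 (cokerSC ψ) (cokerSC_shortExact ψ) hE hE hQcoh hP hpQ)
  have hpQ0 : pQ = 0 := by
    have := hsum2
    exact (add_eq_left.mp this.symm)
  rw [hpQ0] at hpQ
  have hQ0 : IsZero (cokernel ψ) := isZero_of_isHilbPoly_zero k hL hQcoh hpQ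
  haveI : Epi ψ := Preadditive.epi_of_cokernel_zero (hQ0.eq_of_tgt _ _)
  exact isIso_of_mono_of_epi ψ

/-- pure sheaves which are stable in the lexicographic sense are simple over an algebraically closed
field. -/
theorem endo_eq_smul_of_lexStable [IsAlgClosed k] {L : X.Modules} (hL : CohB1.IsAmple L)
    (d ℓ : ℕ) (E : X.Modules) (hE : Coh.IsCoh E) (hE0 : ¬ IsZero E) (P : ℚ[X])
    (hP : ShStab.IsHilbPoly k X L E P) (hpure : ShStab.IsPure X E d)
    (hst : ∀ (F : X.Modules) (j : F ⟶ E), Mono j → Coh.IsCoh F → ∀ Q : ℚ[X],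
      ShStab.IsHilbPoly k X L F Q → 0 < Q.coeff d → Q.coeff d < P.coeff d →
        toLex (vec d ℓ Q) < toLex (vec d ℓ P))
    (φ : E ⟶ E) : ∃ c : k, φ = c • 𝟙 E := by
  obtain ⟨N, hN⟩ := eventually_pos k hL hE hE0 hP
  have h1 := hN N le_rfl
  rw [← hP N] at h1
  have h2 : 0 < Curv2.euler k X (ShStab.twist X L E N) := by exact_mod_cast h1
  unfold ShStab.twist at h2
  rw [CurveTens.euler_of_iso k X (Groth.Agent.TensInv.comm E (CohB1.tensorPow L N))] at h2
  obtain ⟨i, hi⟩ := exists_finrank_pos_of_euler_pos k _ h2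
  exact endo_eq_smul_of_forall_isIso k E (CohB1.tensorPow L N) i hi
    (fun ψ hψ => isIso_of_ne_zero_of_lexStable k hL d ℓ E hE P hP hpure hst ψ hψ) φ

end Sheaf

end Groth.Agent.Lib.EllSimple

namespace Groth.Agent.Lib.EllSimple

open Groth.Agent.Lib.HilbCalc Groth.Agent.Lib.ShStabH6 Groth.Agent.Lib.TwistHilb Snap9

section Proj

variable (k : Type u) [Field k] {X : Scheme.{u}} [X.Over (Spec (CommRingCat.of k))]
  [IsProper (X ↘ Spec (CommRingCat.of k))] (N : ℕ) (ι : X ⟶ CohB1.ProjSpace N k)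

theorem nonempty_HX_add (a b : ℤ) :
    Nonempty (CohB1.tensorMod (HX k N ι a) (HX k N ι b) ≅ HX k N ι (a + b)) := by
  obtain ⟨e⟩ := Groth.Agent.ProjTens.twist_add N k a b
  exact ⟨(PullTensH9.pullTensIso ι (isInvertible_twist k N a) (isInvertible_twist k N b)).symm ≪≫
    (Scheme.Modules.pullback ι).mapIso e⟩

/-- **S15002**. -/
theorem main15002 [IsAlgClosed k] [IsClosedImmersion ι] (d ℓ : ℕ)
    (E : X.Modules) (hE : Coh.IsCoh E) (P : ℚ[X]) (hP0 : P ≠ 0)
    (hP : ∀ m : ℤ, (Curv2.euler k X (Pic13.twistOn k ι E m) : ℚ) = P.eval (m : ℚ))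
    (hpure : ∀ (F : X.Modules) (j : F ⟶ E), Mono j → Coh.IsCoh F → ¬ IsZero F →
      topologicalKrullDim (CohB1.support F) = (d : WithBot ℕ∞))
    (hst : ∀ (F : X.Modules) (j : F ⟶ E), Mono j → Coh.IsCoh F → ∀ Q : ℚ[X],
      (∀ m : ℤ, (Curv2.euler k X (Pic13.twistOn k ι F m) : ℚ) = Q.eval (m : ℚ)) →
        0 < Q.coeff d → Q.coeff d < P.coeff d →
          toLex (vec d ℓ Q) < toLex (vec d ℓ P))
    (φ : E ⟶ E) : ∃ c : k, φ = c • 𝟙 E := by
  haveI : CompactSpace X :=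
    QuasiCompact.compactSpace_of_compactSpace (X ↘ Spec (CommRingCat.of k))
  have hL : CohB1.IsAmple (HX k N ι 1) :=
    TensH8.isAmple_pullback_of_isAffineHom ι (isAmple_one N k)
  have hpow := nonempty_HX_pow k N ι
  have hHilb : ShStab.IsHilbPoly k X (HX k N ι 1) E P :=
    isHilbPoly_of_int_of_family k (HX k N ι) hpow E P hP
  have hE0 : ¬ IsZero E := fun hz => hP0 (eq_zero_of_isZero k hL.1 hE hz hHilb)
  refine endo_eq_smul_of_lexStable k hL d ℓ E hE hE0 P hHilb hpure ?_ φ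
  intro F j hj hF Q hQ h1 h2
  exact hst F j hj hF Q (fun m => euler_twist_int_of_family k hL.1 (HX k N ι)
    (isInvertible_HX k N ι) (nonempty_HX_add k N ι) hpow F hF Q hQ m) h1 h2

end Proj

end Groth.Agent.Lib.EllSimple
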