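import Mathlib
import Groth.Agent.Lib.AlgSpLqfField_helper6

/-!
# Monomorphisms into locally Artinian schemes; local quasi-finiteness over a field passes to
the source of a monomorphism (helper6)
-/

set_option autoImplicit false
universe u
open CategoryTheory CategoryTheory.Limits AlgebraicGeometry Opposite TopologicalSpace TensorProduct

namespace Groth.Agent.Lib.EpiArtinH6

open AlgSp Groth.Agent.Lib.AlgSpPoints_helper7 Groth.Agent.Lib.AlgSpOpenSub_helper7
  Groth.Agent.Lib.AlgSpPullback_helper7 Groth.Agent.Lib.AlgSpIso_helper7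
  Groth.Agent.Lib.AlgSpBasic_helper7 Groth.Agent.Lib.AlgSpMonoDiscH6
  Groth.Agent.Lib.AlgSpLqfFieldH6


/-- An epimorphic algebra over a field is a quotient of the field. -/
theorem surjective_algebraMap_of_isEpi_field (K C : Type*) [Field K] [CommRing C] [Algebra K C]
    [Algebra.IsEpi K C] : Function.Surjective (algebraMap K C) := by
  intro c
  by_cases h1 : (1 : C) = 0
  · haveI : Subsingleton C := subsingleton_of_zero_eq_one h1.symm
    exact ⟨0, Subsingleton.elim _ _⟩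
  · obtain ⟨f, hf⟩ : ∃ f : Module.Dual K C, f 1 ≠ 0 := by
      by_contra hcon
      push_neg at hcon
      exact h1 ((Module.forall_dual_apply_eq_zero_iff K (1 : C)).1 hcon)
    have key : (1 : C) ⊗ₜ[K] c = c ⊗ₜ[K] 1 :=
      (Algebra.isEpi_iff_forall_one_tmul_eq K C).1 inferInstance c
    let Ψ : C ⊗[K] C →ₗ[K] C := TensorProduct.lift ((LinearMap.lsmul K C).comp f)
    have h2 : f 1 • c = f c • (1 : C) := by
      have := congrArg Ψ key
      simpa [Ψ] using this
    refine ⟨f c / f 1, ?_⟩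
    rw [Algebra.algebraMap_eq_smul_one]
    calc (f c / f 1) • (1 : C) = (f 1)⁻¹ • (f c • (1 : C)) := by
          rw [div_eq_inv_mul, mul_smul]
      _ = (f 1)⁻¹ • (f 1 • c) := by rw [h2]
      _ = c := by rw [smul_smul, inv_mul_cancel₀ hf, one_smul]

/-- Nakayama's lemma for a nilpotent ideal (no finiteness needed). -/
theorem eq_top_of_sup_smul_top_of_isNilpotent {A M : Type*} [CommRing A] [AddCommGroup M]
    [Module A M] (I : Ideal A) (hI : IsNilpotent I) (N : Submodule A M)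
    (h : N ⊔ I • (⊤ : Submodule A M) = ⊤) : N = ⊤ := by
  obtain ⟨n, hn⟩ := hI
  have key : ∀ k : ℕ, N ⊔ (I ^ k) • (⊤ : Submodule A M) = ⊤ := by
    intro k
    induction k with
    | zero => simp
    | succ k ih =>
      refine eq_top_iff.2 ?_
      have h4 : I ^ k • (⊤ : Submodule A M) ≤ N ⊔ I ^ (k + 1) • (⊤ : Submodule A M) :=
        calc I ^ k • (⊤ : Submodule A M) = I ^ k • (N ⊔ I • (⊤ : Submodule A M)) := by rw [h]
          _ = I ^ k • N ⊔ I ^ k • (I • (⊤ : Submodule A M)) := Submodule.smul_sup _ _ _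
          _ ≤ N ⊔ I ^ (k + 1) • (⊤ : Submodule A M) :=
            sup_le_sup Submodule.smul_le_right (by rw [← Submodule.mul_smul, ← pow_succ])
      calc (⊤ : Submodule A M) = N ⊔ I ^ k • (⊤ : Submodule A M) := ih.symm
        _ ≤ N ⊔ I ^ (k + 1) • (⊤ : Submodule A M) := sup_le le_sup_left h4
  have h3 := key n
  rw [hn, Ideal.zero_eq_bot, Submodule.bot_smul, sup_bot_eq] at h3
  exact h3

/-- An epimorphism of commutative rings out of an Artinian local ring is surjective. -/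
theorem surjective_of_epi_of_isArtinian_isLocal {A B : CommRingCat.{u}} (φ : A ⟶ B) [Epi φ]
    [IsLocalRing A] [IsArtinianRing A] : Function.Surjective φ.hom := by
  obtain ⟨m, hm⟩ : ∃ m : Ideal A, m = IsLocalRing.maximalIdeal A := ⟨_, rfl⟩
  haveI : m.IsMaximal := by rw [hm]; infer_instance
  obtain ⟨q, hq⟩ : ∃ q : A ⧸ m →+* B ⧸ m.map φ.hom,
      q = Ideal.quotientMap (m.map φ.hom) φ.hom Ideal.le_comap_map := ⟨_, rfl⟩
  have hcomm : CommRingCat.ofHom (Ideal.Quotient.mk m) ≫ CommRingCat.ofHom q =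
      φ ≫ CommRingCat.ofHom (Ideal.Quotient.mk (m.map φ.hom)) := by
    ext a
    rw [hq]
    rfl
  haveI : Epi (CommRingCat.ofHom (Ideal.Quotient.mk (m.map φ.hom))) :=
    ConcreteCategory.epi_of_surjective _ Ideal.Quotient.mk_surjective
  haveI : Epi (CommRingCat.ofHom (Ideal.Quotient.mk m) ≫ CommRingCat.ofHom q) := by
    rw [hcomm]
    infer_instance
  haveI hqe : Epi (CommRingCat.ofHom q) := epi_of_epi (CommRingCat.ofHom (Ideal.Quotient.mk m)) _
  letI : Field (A ⧸ m) := Ideal.Quotient.field m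
  letI : Algebra (A ⧸ m) (B ⧸ m.map φ.hom) := q.toAlgebra
  haveI : Algebra.IsEpi (A ⧸ m) (B ⧸ m.map φ.hom) := CommRingCat.epi_iff_epi.1 hqe
  have hqs : Function.Surjective q :=
    surjective_algebraMap_of_isEpi_field (A ⧸ m) (B ⧸ m.map φ.hom)
  have hdiff : ∀ b : B, ∃ a : A, b - φ.hom a ∈ m.map φ.hom := by
    intro b
    obtain ⟨k, hk⟩ := hqs (Ideal.Quotient.mk _ b)
    obtain ⟨a, rfl⟩ := Ideal.Quotient.mk_surjective k
    refine ⟨a, ?_⟩
    rw [← Ideal.Quotient.eq, ← hk, hq]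
    rfl
  letI : Algebra A B := φ.hom.toAlgebra
  have hN : LinearMap.range (Algebra.linearMap A B) ⊔ m • (⊤ : Submodule A B) = ⊤ := by
    rw [eq_top_iff]
    intro b _
    obtain ⟨a, ha⟩ := hdiff b
    have hb : b = φ.hom a + (b - φ.hom a) := by ring
    rw [hb]
    refine Submodule.add_mem_sup ⟨a, rfl⟩ ?_
    rw [Ideal.smul_top_eq_map]
    exact ha
  have hnil : IsNilpotent m := by
    rw [hm, ← IsLocalRing.jacobson_eq_maximalIdeal (⊥ : Ideal A) bot_ne_top]
    exact IsArtinianRing.isNilpotent_jacobson_bot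
  have htop := eq_top_of_sup_smul_top_of_isNilpotent m hnil _ hN
  intro b
  have hb : b ∈ LinearMap.range (Algebra.linearMap A B) := by rw [htop]; trivial
  obtain ⟨a, ha⟩ := hb
  exact ⟨a, ha⟩


/-! ## Geometry -/

/-- A monomorphism of affine schemes induces an epimorphism on global sections. -/
theorem epi_appTop_of_mono {X Y : Scheme.{u}} [IsAffine X] [IsAffine Y] (k : X ⟶ Y) [Mono k] :
    Epi k.appTop := by
  refine ⟨fun {T} α β hαβ => ?_⟩
  apply Spec.map_injective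
  have hnat : ∀ γ : Γ(X, ⊤) ⟶ T,
      (Spec.map γ ≫ X.isoSpec.inv) ≫ k = Spec.map (k.appTop ≫ γ) ≫ Y.isoSpec.inv := by
    intro γ
    rw [Spec.map_comp, Category.assoc, Category.assoc, Scheme.isoSpec_inv_naturality]
  have h1 : (Spec.map α ≫ X.isoSpec.inv) ≫ k = (Spec.map β ≫ X.isoSpec.inv) ≫ k := by
    rw [hnat, hnat, hαβ]
  have h2 := (cancel_mono k).1 h1
  exact (cancel_mono X.isoSpec.inv).1 h2

/-- The ring of global sections of an affine scheme with exactly one point is local. -/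
theorem isLocalRing_of_subsingleton (Y : Scheme.{u}) [IsAffine Y] [Subsingleton ↥Y]
    [Nonempty ↥Y] : IsLocalRing ↥Γ(Y, ⊤) := by
  haveI hsub : Subsingleton (PrimeSpectrum ↥Γ(Y, ⊤)) :=
    (Y.isoSpec.inv.homeomorph.injective).subsingleton
  obtain ⟨y⟩ := ‹Nonempty ↥Y›
  obtain ⟨q, -⟩ : ∃ q : PrimeSpectrum ↥Γ(Y, ⊤), q = Y.isoSpec.hom y := ⟨_, rfl⟩
  obtain ⟨m, hm, -⟩ := Ideal.exists_le_maximal q.asIdeal q.2.ne_top
  refine IsLocalRing.of_unique_max_ideal ⟨m, hm, fun m' hm' => ?_⟩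
  exact congrArg PrimeSpectrum.asIdeal
    (Subsingleton.elim (⟨m', hm'.isPrime⟩ : PrimeSpectrum ↥Γ(Y, ⊤)) ⟨m, hm.isPrime⟩)

/-- A monomorphism into a locally Artinian scheme is, near every point of the source, a closed
immersion onto a one-point open of the target. -/
theorem exists_closedImmersion_nbhd_of_mono {Z' Z : Scheme.{u}} (g : Z' ⟶ Z) [Mono g]
    [IsLocallyArtinian Z] (z' : ↥Z') :
    ∃ (V : Z.Opens) (V' : Z'.Opens) (k : (V' : Scheme.{u}) ⟶ (V : Scheme.{u})), z' ∈ V' ∧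
      (V : Set ↥Z) = {g z'} ∧ k ≫ V.ι = V'.ι ≫ g ∧ IsClosedImmersion k := by
  haveI : DiscreteTopology ↥Z := inferInstance
  obtain ⟨V, hVdef⟩ : ∃ V : Z.Opens, (V : Set ↥Z) = {g z'} :=
    ⟨⟨{g z'}, isOpen_discrete _⟩, rfl⟩
  obtain ⟨V', hV'def⟩ : ∃ V' : Z'.Opens, V' = g ⁻¹ᵁ V := ⟨_, rfl⟩
  have hinj : Function.Injective g := g.injective
  have hmemV : ∀ a : ↥Z', a ∈ V' → g a = g z' := by
    intro a ha
    rw [hV'def] at ha
    have ha' : g a ∈ (V : Set ↥Z) := ha
    rw [hVdef] at ha'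
    exact ha'
  have hz' : z' ∈ V' := by
    rw [hV'def]
    change g z' ∈ (V : Set ↥Z)
    rw [hVdef]
    rfl
  have hV'sub : (V' : Set ↥Z').Subsingleton := fun a ha b hb =>
    hinj ((hmemV a ha).trans (hmemV b hb).symm)
  have hVsub : (V : Set ↥Z).Subsingleton := by
    rw [hVdef]
    exact Set.subsingleton_singleton
  have hV : IsAffineOpen V := IsAffineOpen.of_subsingleton hVsub
  have hV' : IsAffineOpen V' := IsAffineOpen.of_subsingleton hV'sub
  haveI : IsAffine (V : Scheme.{u}) := hV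
  haveI : IsAffine (V' : Scheme.{u}) := hV'
  have hr : Set.range (V'.ι ≫ g) ⊆ Set.range V.ι := by
    rw [Scheme.Opens.range_ι]
    rintro _ ⟨a, rfl⟩
    change g (V'.ι a) ∈ (V : Set ↥Z)
    rw [hVdef]
    exact hmemV (V'.ι a) a.2
  obtain ⟨k, hk⟩ : ∃ k, k = IsOpenImmersion.lift V.ι (V'.ι ≫ g) hr := ⟨_, rfl⟩
  have hkf : k ≫ V.ι = V'.ι ≫ g := by
    rw [hk]
    exact IsOpenImmersion.lift_fac _ _ _
  haveI : Mono (k ≫ V.ι) := by
    rw [hkf]
    infer_instance
  haveI : Mono k := mono_of_mono k V.ι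
  haveI : Subsingleton ↥(V : Scheme.{u}) := hVsub.coe_sort
  haveI : Nonempty ↥(V : Scheme.{u}) := ⟨⟨g z', by
    change g z' ∈ (V : Set ↥Z)
    rw [hVdef]
    rfl⟩⟩
  haveI : IsLocalRing ↥Γ((V : Scheme.{u}), ⊤) := isLocalRing_of_subsingleton _
  haveI : IsArtinianRing ↥Γ((V : Scheme.{u}), ⊤) := inferInstance
  haveI : Epi k.appTop := epi_appTop_of_mono k
  have hsurj : Function.Surjective k.appTop.hom :=
    surjective_of_epi_of_isArtinian_isLocal k.appTop
  haveI : IsClosedImmersion k := IsClosedImmersion.of_surjective_of_isAffine k hsurj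
  exact ⟨V, V', k, hz', hVdef, hkf, ‹_›⟩

variable {S : Scheme.{u}}

/-- Local quasi-finiteness over a locally Artinian base passes to the source of a
monomorphism. -/
theorem locP_of_mono [IsLocallyArtinian S] [QuasiSeparatedSpace ↥S] {X Y : Space S} (f : X ⟶ Y)
    [Mono f.hom] (q : Y.obj ⟶ (yon S).obj (Over.mk (𝟙 S)))
    (hq : LocP (@LocallyQuasiFinite ⊓ @LocallyOfFiniteType : MorphismProperty Scheme.{u}) q) :
    LocP (@LocallyQuasiFinite ⊓ @LocallyOfFiniteType : MorphismProperty Scheme.{u})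
      (f.hom ≫ q) := by
  obtain ⟨Z, e, h1, h2⟩ := exists_iso_of_locP Y q hq
  haveI := h1
  haveI : IsLocallyArtinian Z.left := IsLocallyArtinian.of_locallyQuasiFinite Z.hom
  haveI : DiscreteTopology ↥Z.left := inferInstance
  haveI : Mono (f.hom ≫ e.inv) := mono_comp _ _
  obtain ⟨Z', ⟨e'⟩⟩ := exists_iso_of_mono_to_discrete Z X (f.hom ≫ e.inv)
  obtain ⟨g, hg⟩ := (yon S).map_surjective (e'.hom ≫ f.hom ≫ e.inv)
  haveI : Mono ((yon S).map g) := by
    rw [hg]
    exact mono_comp _ _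
  haveI : Mono g := (yon S).mono_of_mono_map ‹_›
  haveI : Mono g.left := inferInstance
  obtain ⟨h1', h2'⟩ := lqf_lft_of_forall_finite_nbhd Z' (fun u => by
    obtain ⟨V, V', k, hu, hVdef, hkf, hk⟩ := exists_closedImmersion_nbhd_of_mono g.left u
    haveI := hk
    have hVsub : (V : Set ↥Z.left).Subsingleton := by
      rw [hVdef]
      exact Set.subsingleton_singleton
    have hV : IsAffineOpen V := IsAffineOpen.of_subsingleton hVsub
    haveI : IsAffine (V : Scheme.{u}) := hV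
    haveI : CompactSpace ↥(V : Scheme.{u}) := inferInstance
    haveI : QuasiCompact (V.ι ≫ Z.hom) := inferInstance
    haveI : IsFinite (V.ι ≫ Z.hom) := IsFinite.of_locallyQuasiFinite (V.ι ≫ Z.hom)
    have hcomp : V'.ι ≫ Z'.hom = k ≫ V.ι ≫ Z.hom := by
      rw [← Over.w g, ← Category.assoc, ← hkf, Category.assoc]
    refine ⟨V', hu, ?_⟩
    rw [hcomp]
    infer_instance)
  exact locP_of_iso Z' e' h1' h2' (f.hom ≫ q)

end Groth.Agent.Lib.EpiArtinH6
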