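import Mathlib

/-!
# Ring epimorphisms: cardinality bound (zigzag data)
-/

set_option autoImplicit false

open TensorProduct

namespace Groth.Agent.Lib.EpiCard_helper3

universe u

variable (R S : Type u) [CommRing R] [CommRing S] [Algebra R S]

/-- index type of the data of shape `(k, l)` -/
abbrev Idx (kl : ℕ × ℕ) : Type := Fin kl.1 ⊕ (Fin kl.1 × Fin kl.2) ⊕ Fin kl.1

/-- `g` admits the zigzag data `d` -/
def HasData (kl : ℕ × ℕ) (g : S) (d : Idx kl → R) : Prop :=
  ∃ (m : Fin kl.1 → S) (y : Fin kl.2 → S),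
    (∑ i, d (Sum.inl i) • m i = 1) ∧
    (∀ j, ∑ i, d (Sum.inr (Sum.inl (i, j))) • m i = 0) ∧
    ∀ i, d (Sum.inl i) • g - ∑ j, d (Sum.inr (Sum.inl (i, j))) • y j =
      algebraMap R S (d (Sum.inr (Sum.inr i)))

variable {R S}

lemma hasData_unique {kl : ℕ × ℕ} {g g' : S} {d : Idx kl → R}
    (h : HasData R S kl g d) (h' : HasData R S kl g' d) : g = g' := by
  obtain ⟨m, y, h1, h2, h3⟩ := h
  obtain ⟨m', y', h1', h2', h3'⟩ := h'
  have key : ∀ (y'' : Fin kl.2 → S) (g'' : S),
      (∀ i, d (Sum.inl i) • g'' - ∑ j, d (Sum.inr (Sum.inl (i, j))) • y'' j =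
        algebraMap R S (d (Sum.inr (Sum.inr i)))) →
      g'' = ∑ i, m i * algebraMap R S (d (Sum.inr (Sum.inr i))) := by
    intro y'' g'' h3''
    have e1 : ∑ i, m i * (d (Sum.inl i) • g'' - ∑ j, d (Sum.inr (Sum.inl (i, j))) • y'' j) =
        (∑ i, d (Sum.inl i) • m i) * g'' -
          ∑ j, (∑ i, d (Sum.inr (Sum.inl (i, j))) • m i) * y'' j := by
      simp only [mul_sub, Finset.sum_sub_distrib, Finset.mul_sum, Finset.sum_mul]
      congr 1
      · exact Finset.sum_congr rfl fun i _ => by rw [smul_mul_assoc, mul_smul_comm]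
      · rw [Finset.sum_comm]
        exact Finset.sum_congr rfl fun j _ => Finset.sum_congr rfl fun i _ => by
          rw [smul_mul_assoc, mul_smul_comm]
    have e2 : ∑ i, m i * (d (Sum.inl i) • g'' - ∑ j, d (Sum.inr (Sum.inl (i, j))) • y'' j) =
        ∑ i, m i * algebraMap R S (d (Sum.inr (Sum.inr i))) :=
      Finset.sum_congr rfl fun i _ => by rw [h3'' i]
    rw [← e2, e1, h1, one_mul]
    simp [h2]
  rw [key y g h3, key y' g' h3']

variable (R S)

lemma exists_hasData [Algebra.IsEpi R S] (g : S) : ∃ (kl : ℕ × ℕ) (d : Idx kl → R),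
    HasData R S kl g d := by
  classical
  let R' : Submodule R S := LinearMap.range (Algebra.linearMap R S)
  have h0 : (1 : S) ⊗ₜ[R] (R'.mkQ g) = 0 := by
    have h1 := (Algebra.isEpi_iff_forall_one_tmul_eq R S).1 inferInstance g
    have h2 := congrArg (LinearMap.lTensor S R'.mkQ) h1
    rw [LinearMap.lTensor_tmul, LinearMap.lTensor_tmul] at h2
    have h3 : R'.mkQ (1 : S) = 0 := by
      rw [Submodule.mkQ_apply, Submodule.Quotient.mk_eq_zero]
      exact ⟨1, by simp⟩
    rw [h2, h3, TensorProduct.tmul_zero]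
  have hP : (Submodule.span R {(1 : S)}).FG := Submodule.fg_span_singleton 1
  have h1mem : (1 : S) ∈ Submodule.span R {(1 : S)} := Submodule.mem_span_singleton_self 1
  obtain ⟨Q, hPQ, hQ, hQt⟩ := TensorProduct.eq_zero_of_fg_of_subtype_eq_zero hP
    (N := S ⧸ R') (t := (⟨1, h1mem⟩ : Submodule.span R {(1 : S)}) ⊗ₜ[R] (R'.mkQ g))
    (by rw [LinearMap.rTensor_tmul]; exact h0)
  rw [LinearMap.rTensor_tmul] at hQt
  haveI : Module.Finite R Q := Module.Finite.iff_fg.2 hQ
  obtain ⟨k, m', hm'⟩ := Module.Finite.exists_fin (R := R) (M := Q)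
  have h1Q : (Submodule.inclusion hPQ ⟨1, h1mem⟩ : Q) ∈ Submodule.span R (Set.range m') := by
    rw [hm']; trivial
  obtain ⟨c, hc⟩ := (Submodule.mem_span_range_iff_exists_fun R).1 h1Q
  have hsum : ∑ i, m' i ⊗ₜ[R] (c i • R'.mkQ g) = (0 : Q ⊗[R] (S ⧸ R')) := by
    rw [← hQt, ← hc, TensorProduct.sum_tmul]
    exact Finset.sum_congr rfl fun i _ => by rw [TensorProduct.smul_tmul]
  obtain ⟨l, a, ybar, hy1, hy2⟩ :=
    TensorProduct.vanishesTrivially_of_sum_tmul_eq_zero R hm' hsum
  choose y hy using fun j => R'.mkQ_surjective (ybar j)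
  have hr : ∀ i, ∃ r : R, algebraMap R S r = c i • g - ∑ j, a i j • y j := by
    intro i
    have hmem : c i • g - ∑ j, a i j • y j ∈ R' := by
      rw [← Submodule.Quotient.mk_eq_zero, ← Submodule.mkQ_apply, map_sub, map_smul, map_sum]
      simp only [map_smul, hy]
      have := hy1 i
      simp only at this
      rw [this, sub_self]
    obtain ⟨r, hr⟩ := hmem
    exact ⟨r, hr⟩
  choose r hr using hr
  refine ⟨(k, l), fun x => Sum.elim c (Sum.elim (fun p => a p.1 p.2) r) x,
    fun i => (m' i : S), y, ?_, ?_, ?_⟩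
  · have := congrArg (fun q : Q => (q : S)) hc
    simpa using this
  · intro j
    have := congrArg (fun q : Q => (q : S)) (hy2 j)
    simpa using this
  · intro i
    exact (hr i).symm

/-- An epimorphism out of an infinite ring does not increase the cardinality. -/
theorem card_le [Algebra.IsEpi R S] [Infinite R] : Cardinal.mk S ≤ Cardinal.mk R := by
  classical
  choose kl d hd using exists_hasData R S
  let enc : ∀ kl : ℕ × ℕ, (Idx kl → R) → List R := fun kl d =>
    List.ofFn (d ∘ (Fintype.equivFin (Idx kl)).symm)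
  have henc : ∀ kl : ℕ × ℕ, Function.Injective (enc kl) := by
    intro kl d₁ d₂ h
    have := List.ofFn_injective h
    funext x
    have := congrFun this (Fintype.equivFin (Idx kl) x)
    simpa using this
  have hgen : ∀ (kl kl' : ℕ × ℕ) (d₁ : Idx kl → R) (d₂ : Idx kl' → R), kl = kl' →
      enc kl d₁ = enc kl' d₂ → ∀ g g' : S, HasData R S kl g d₁ → HasData R S kl' g' d₂ →
        g = g' := by
    rintro kl _ d₁ d₂ rfl he g g' h h'
    have : d₁ = d₂ := henc kl he
    subst this
    exact hasData_unique h h'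
  let F : S → (ℕ × ℕ) × List R := fun g => (kl g, enc (kl g) (d g))
  have hF : Function.Injective F := by
    intro g g' h
    have h1 : kl g = kl g' := congrArg Prod.fst h
    have h2 : enc (kl g) (d g) = enc (kl g') (d g') := congrArg Prod.snd h
    exact hgen _ _ _ _ h1 h2 g g' (hd g) (hd g')
  have h1 := Cardinal.mk_le_of_injective hF
  have h2 : Cardinal.mk ((ℕ × ℕ) × List R) = Cardinal.mk R := by
    rw [Cardinal.mk_prod, Cardinal.mk_list_eq_mk]
    simp only [Cardinal.mk_prod, Cardinal.mk_eq_aleph0, Cardinal.lift_aleph0, Cardinal.lift_id,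
      Cardinal.lift_uzero, Cardinal.aleph0_mul_aleph0]
    exact Cardinal.aleph0_mul_eq (Cardinal.aleph0_le_mk R)
  exact h1.trans h2.le

end Groth.Agent.Lib.EpiCard_helper3
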