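import Mathlib
import Groth.Prelude
import Groth.Agent.Lib.PB10_helper8
import Groth.Agent.Lib.SuppStalk2_helper8
import Groth.Agent.Lib.SuppFT_helper9
import Groth.Agent.Lib.BMod2_helper6
import Groth.Agent.Lib.SerreFT2_helper9
import Groth.Agent.Lib.CohDev3_helper8

/-!
# The open locus where a homomorphism into a finite type module is surjective (helper8)

For `v : E ⟶ F` of quasi-coherent modules with `F` of finite type, the open complement `U` of the
support of `coker v` represents "`f^* v` is an epimorphism".
APPEND-ONLY once landed.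
-/

set_option autoImplicit false

universe u

open CategoryTheory CategoryTheory.Limits AlgebraicGeometry Opposite TopologicalSpace
open QcqsLoc QCohExtn

namespace Groth.Agent.Lib.EpiLocusH8

section Alg

open TensorProduct

/-- Nakayama for a local homomorphism: a finite module which dies after base change is zero. -/
theorem subsingleton_of_subsingleton_baseChange {A B : Type u} [CommRing A] [CommRing B]
    [IsLocalRing A] [IsLocalRing B] [Algebra A B] [IsLocalHom (algebraMap A B)]
    (M : Type u) [AddCommGroup M] [Module A M] [Module.Finite A M]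
    (h : Subsingleton (B ⊗[A] M)) : Subsingleton M := by
  let kA := IsLocalRing.ResidueField A
  let kB := IsLocalRing.ResidueField B
  have h1 : Subsingleton (kB ⊗[B] (B ⊗[A] M)) := inferInstance
  have e1 : kB ⊗[B] (B ⊗[A] M) ≃ₗ[B] kB ⊗[A] M :=
    AlgebraTensorModule.cancelBaseChange A B B kB M
  have h2 : Subsingleton (kB ⊗[A] M) := e1.symm.toEquiv.subsingleton
  have e2 : kB ⊗[kA] (kA ⊗[A] M) ≃ₗ[kA] kB ⊗[A] M :=
    AlgebraTensorModule.cancelBaseChange A kA kA kB M
  have h3 : Subsingleton (kB ⊗[kA] (kA ⊗[A] M)) := e2.toEquiv.subsingleton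
  have h4 : Subsingleton (kA ⊗[A] M) :=
    (Module.FaithfullyFlat.subsingleton_tensorProduct_iff_right kA kB).mp h3
  exact IsLocalRing.subsingleton_tensorProduct.mp h4

end Alg


section Sheaf

variable {S T : Scheme.{u}} (f : T ⟶ S)

/-- a stalk all of whose germs vanish on a smaller neighbourhood is trivial (copy of helper9's
`CurveVan.subsingleton_stalk_of_locally_zero`) -/
theorem subsingleton_stalk_of_locally_zero (M : T.Modules) (x : T)
    (h : ∀ (V : T.Opens) (_ : x ∈ V) (s : Γ(M, V)),
      ∃ (V' : T.Opens) (hV' : V' ≤ V), x ∈ V' ∧ rF M hV' s = 0) :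
    Subsingleton (M.presheaf.stalk x) := by
  have key : ∀ g : M.presheaf.stalk x, g = 0 := by
    intro g
    obtain ⟨V, hxV, s, rfl⟩ := TopCat.Presheaf.exists_germ_eq M.presheaf g
    obtain ⟨V', hV', hxV', hs⟩ := h V hxV s
    have h1 := TopCat.Presheaf.germ_res_apply M.presheaf (homOfLE hV') x hxV' s
    rw [← h1]
    have h2 : (M.presheaf.map (homOfLE hV').op) s = 0 := hs
    rw [h2, map_zero]
  exact ⟨fun a b => by rw [key a, key b]⟩

theorem subsingleton_stalk_of_isZero (M : T.Modules) (hM : IsZero M) (x : T) :
    Subsingleton (M.presheaf.stalk x) := by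
  refine subsingleton_stalk_of_locally_zero M x (fun V hxV s => ⟨V, le_rfl, hxV, ?_⟩)
  have h1 : (𝟙 M : M ⟶ M) = 0 := (IsZero.iff_id_eq_zero M).mp hM
  have h2 : ap (𝟙 M) V s = ap (0 : M ⟶ M) V s := by rw [h1]
  have h3 : s = 0 := h2
  rw [h3, map_zero]

variable (Q : S.Modules) [Q.IsQuasicoherent] [SheafOfModules.IsFiniteType (R := S.ringCatSheaf) Q]

open TensorProduct in
/-- the stalk of the pullback of a quasi-coherent module of finite type vanishes iff the stalk
downstairs does. -/
theorem subsingleton_stalk_pullback_iff (t : T) :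
    Subsingleton (((Scheme.Modules.pullback f).obj Q).presheaf.stalk t) ↔
      Subsingleton (Q.presheaf.stalk (f t)) := by
  letI alg : Algebra (S.presheaf.stalk (f t)) (T.presheaf.stalk t) :=
    (f.stalkMap t).hom.toAlgebra
  letI : Module (S.presheaf.stalk (f t))
      (((Scheme.Modules.pullback f).obj Q).presheaf.stalk t) :=
    Module.compHom _ (f.stalkMap t).hom
  haveI : IsScalarTower (S.presheaf.stalk (f t)) (T.presheaf.stalk t)
      (((Scheme.Modules.pullback f).obj Q).presheaf.stalk t) :=
    IsScalarTower.of_algebraMap_smul fun _ _ => rfl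
  have hbc : IsBaseChange (T.presheaf.stalk t) (PBH8.cStalkLin f Q t) :=
    PBH8.isBaseChange_cStalk f Q t
  haveI : IsLocalHom (algebraMap (S.presheaf.stalk (f t)) (T.presheaf.stalk t)) := by
    rw [RingHom.algebraMap_toAlgebra]
    infer_instance
  haveI : Module.Finite (S.presheaf.stalk (f t)) (Q.presheaf.stalk (f t)) :=
    SuppStalkH8.finite_stalk Q (f t)
  constructor
  · intro h
    haveI : Subsingleton (T.presheaf.stalk t ⊗[S.presheaf.stalk (f t)] Q.presheaf.stalk (f t)) :=
      hbc.equiv.toEquiv.subsingleton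
    exact subsingleton_of_subsingleton_baseChange (A := S.presheaf.stalk (f t))
      (B := T.presheaf.stalk t) (Q.presheaf.stalk (f t)) inferInstance
  · intro h
    haveI : Subsingleton (T.presheaf.stalk t ⊗[S.presheaf.stalk (f t)] Q.presheaf.stalk (f t)) :=
      inferInstance
    exact hbc.equiv.symm.toEquiv.subsingleton

/-- `f^* Q = 0` iff the image of `f` misses the support of `Q`. -/
theorem isZero_pullback_iff :
    IsZero ((Scheme.Modules.pullback f).obj Q) ↔
      Set.range f.base ⊆ (CohB1.support Q)ᶜ := by
  constructor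
  · rintro h _ ⟨t, rfl⟩ hmem
    exact hmem ((subsingleton_stalk_pullback_iff f Q t).mp
      (subsingleton_stalk_of_isZero _ h t))
  · intro h
    apply CohDevH8.isZero_of_support_eq_empty
    rw [Set.eq_empty_iff_forall_notMem]
    intro t ht
    apply ht
    rw [subsingleton_stalk_pullback_iff f Q t]
    have h1 : f t ∈ (CohB1.support Q)ᶜ := h ⟨t, rfl⟩
    by_contra h2
    exact h1 h2

end Sheaf

section Main

variable {S : Scheme.{u}} {E F : S.Modules} [E.IsQuasicoherent] [F.IsQuasicoherent]
  (hF : CohB1.IsFT F) (v : E ⟶ F)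

include hF in
/-- **The open locus where `v` is (universally) surjective.** -/
theorem exists_epi_locus :
    ∃ U : S.Opens, ∀ (T : Scheme.{u}) (f : T ⟶ S),
      Set.range f.base ⊆ (U : Set S) ↔ Epi ((Scheme.Modules.pullback f).map v) := by
  haveI : (cokernel v).IsQuasicoherent := Groth.Agent.Lib.BModH6.isQuasicoherent_cokernel v
  haveI : Epi (cokernel.π v) := coequalizer.π_epi
  haveI hQ : CohB1.IsFT (cokernel v) := SerreFT.isFT_of_epi (cokernel.π v) hF
  have hcl : IsClosed (CohB1.support (cokernel v)) := SuppFT.isClosed_support (cokernel v)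
  refine ⟨⟨(CohB1.support (cokernel v))ᶜ, hcl.isOpen_compl⟩, fun T f => ?_⟩
  show Set.range f.base ⊆ (CohB1.support (cokernel v))ᶜ ↔ _
  rw [← isZero_pullback_iff f (cokernel v), Preadditive.epi_iff_isZero_cokernel]
  haveI : PreservesColimit (parallelPair v 0) (Scheme.Modules.pullback f) :=
    (Scheme.Modules.pullbackPushforwardAdjunction f).leftAdjoint_preservesColimits.preservesColimitsOfShape.preservesColimit
  exact (PreservesCokernel.iso (Scheme.Modules.pullback f) v).isZero_iff

end Main

end Groth.Agent.Lib.EpiLocusH8
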