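import Mathlib
import Groth.Prelude.Def_EtRam

/-!
# Miscellaneous lemmas for the Artin–Schreier weak solution (helper8)
-/

set_option autoImplicit false
universe u

namespace Groth.Agent.Lib.EppH8

open IsLocalRing

/-- Elementwise criterion for weak unramifiedness of `W ∩ K₁ → W`. -/
theorem isWeaklyUnramified_comap_of_forall {K₁ Ω : Type u} [Field K₁] [Field Ω] (f : K₁ →+* Ω)
    (W : ValuationSubring Ω) (t : K₁) (ht1 : W.valuation (f t) < 1)
    (h : ∀ x ∈ W, W.valuation x < 1 → ∃ y ∈ W, x = f t * y) :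
    letI : Algebra (W.comap f) W := (EtRam.inclOfComap W f).toAlgebra
    EtRam.IsWeaklyUnramified (W.comap f) W := by
  letI : Algebra (W.comap f) W := (EtRam.inclOfComap W f).toAlgebra
  show Ideal.map (algebraMap (W.comap f) W) (maximalIdeal _) = maximalIdeal W
  apply le_antisymm
  · rw [Ideal.map_le_iff_le_comap]
    intro v hv
    show algebraMap (W.comap f) W v ∈ maximalIdeal W
    rw [mem_maximalIdeal] at hv ⊢
    intro hu
    exact hv (isUnit_of_map_unit (EtRam.inclOfComap W f) v hu)
  · intro x hx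
    have hxv : W.valuation (x : Ω) < 1 := (ValuationSubring.valuation_lt_one_iff W x).mp hx
    obtain ⟨y, hy, hxy⟩ := h (x : Ω) x.2 hxv
    have htW : f t ∈ W := (W.valuation_le_one_iff _).mp ht1.le
    have htm : (⟨t, htW⟩ : W.comap f) ∈ maximalIdeal (W.comap f) := by
      rw [ValuationSubring.valuation_lt_one_iff]
      rw [← ValuationSubring.mem_nonunits_iff, ValuationSubring.mem_nonunits_iff_or,
        ValuationSubring.mem_comap, map_inv₀]
      have h1 : f t ∈ W.nonunits := (W.mem_nonunits_iff).mpr ht1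
      rw [ValuationSubring.mem_nonunits_iff_or] at h1
      rcases h1 with h1 | h1
      · left; exact (map_eq_zero f).mp h1
      · right; exact h1
    have : x = algebraMap (W.comap f) W ⟨t, htW⟩ * ⟨y, hy⟩ := Subtype.ext hxy
    rw [this]
    exact Ideal.mul_mem_right _ _ (Ideal.mem_map_of_mem _ htm)

/-- If `M = L(z)` and `Ω` is generated over `M` by the image of `K₁`, then an intermediate field of
`Ω / L` containing `z` and the image of `K₁` is everything. -/
theorem eq_top_of_gen {L M K₁ Ω : Type u} [Field L] [Field M] [Field K₁] [Field Ω] [Algebra L M]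
    [Algebra M Ω] [Algebra L Ω] [IsScalarTower L M Ω] [Algebra K₁ Ω] (z : M)
    (hgenM : IntermediateField.adjoin L {z} = ⊤)
    (hgen : Algebra.adjoin M (Set.range (algebraMap K₁ Ω)) = ⊤)
    (F : IntermediateField L Ω) (hz : algebraMap M Ω z ∈ F) (hK₁ : ∀ x : K₁, algebraMap K₁ Ω x ∈ F) :
    F = ⊤ := by
  have h1 : ∀ x : M, algebraMap M Ω x ∈ F := by
    have h2 : IntermediateField.adjoin L {z} ≤ F.comap (IsScalarTower.toAlgHom L M Ω) := by
      rw [IntermediateField.adjoin_le_iff, Set.singleton_subset_iff]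
      exact hz
    rw [hgenM] at h2
    intro x
    exact h2 (IntermediateField.mem_top (x := x))
  let F' : Subalgebra M Ω :=
    { carrier := F
      mul_mem' := fun ha hb => F.mul_mem ha hb
      add_mem' := fun ha hb => F.add_mem ha hb
      algebraMap_mem' := h1 }
  have h3 : Algebra.adjoin M (Set.range (algebraMap K₁ Ω)) ≤ F' := by
    apply Algebra.adjoin_le
    rintro _ ⟨x, rfl⟩
    exact hK₁ x
  rw [hgen] at h3
  rw [eq_top_iff]
  intro x _
  exact h3 (Algebra.mem_top (x := x))

section alpha

variable {p : ℕ} [hp : Fact p.Prime] {A K : Type u} [CommRing A] [IsDomain A]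
  [IsDiscreteValuationRing A] [Field K] [Algebra A K] [IsFractionRing A K] [CharP K p]

/-- Reduction of an element of `K` modulo `℘(K)` when the residue field is perfect. -/
theorem alpha_reduce (π : A) (hπ : maximalIdeal A = Ideal.span {π})
    (hperf : ∀ a : A, ∃ c a' : A, a = c ^ p + π * a') :
    ∀ (n : ℕ) (a : A), ∃ (c α' : K), algebraMap A K a / (algebraMap A K π) ^ n = c ^ p - c + α' ∧
      ((∃ a₀ : A, α' = algebraMap A K a₀) ∨
        ∃ (m : ℕ) (u : Aˣ), 0 < m ∧ ¬ p ∣ m ∧ α' * (algebraMap A K π) ^ m = algebraMap A K u) := by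
  have hπ0 : π ≠ 0 := by
    rintro rfl
    apply IsDiscreteValuationRing.not_a_field A
    rw [hπ, Ideal.span_singleton_eq_bot]
  have hw0 : algebraMap A K π ≠ 0 := by
    intro h0
    exact hπ0 (IsFractionRing.injective A K (h0.trans (map_zero _).symm))
  obtain ⟨w, hwdef⟩ : ∃ w : K, w = algebraMap A K π := ⟨_, rfl⟩
  rw [← hwdef] at hw0 ⊢
  intro n
  induction n using Nat.strong_induction_on with
  | _ n ih =>
    intro a
    rcases Nat.eq_zero_or_pos n with rfl | hn
    · exact ⟨0, algebraMap A K a, by simp [zero_pow hp.out.ne_zero], Or.inl ⟨a, rfl⟩⟩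
    by_cases hau : IsUnit a
    swap
    · have ham : a ∈ maximalIdeal A := (mem_maximalIdeal a).mpr hau
      rw [hπ, Ideal.mem_span_singleton'] at ham
      obtain ⟨a', rfl⟩ := ham
      obtain ⟨c, α', h1, h2⟩ := ih (n - 1) (by omega) a'
      refine ⟨c, α', ?_, h2⟩
      rw [← h1, map_mul, ← hwdef]
      have : w ^ n = w ^ (n - 1) * w := by rw [← pow_succ, Nat.sub_add_cancel hn]
      rw [this]
      field_simp
    by_cases hpn : p ∣ n
    swap
    · refine ⟨0, algebraMap A K a / w ^ n, by simp [zero_pow hp.out.ne_zero], Or.inr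
        ⟨n, hau.unit, hn, hpn, ?_⟩⟩
      rw [IsUnit.unit_spec, div_mul_cancel₀ _ (pow_ne_zero _ hw0)]
    · obtain ⟨k, rfl⟩ := hpn
      have hk : 0 < k := Nat.pos_of_mul_pos_left hn
      have hp2 : 2 ≤ p := hp.out.two_le
      have hkn : k ≤ p * k - 1 := by
        have h3 : 2 * k ≤ p * k := Nat.mul_le_mul_right k hp2
        omega
      obtain ⟨c₀, a', rfl⟩ := hperf a
      obtain ⟨c, α', h1, h2⟩ := ih (p * k - 1) (by omega) (c₀ * π ^ (p * k - 1 - k) + a')
      refine ⟨algebraMap A K c₀ / w ^ k + c, α', ?_, h2⟩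
      rw [add_pow_char, div_pow, ← pow_mul]
      have e1 : algebraMap A K (c₀ * π ^ (p * k - 1 - k) + a') / w ^ (p * k - 1) =
          algebraMap A K c₀ / w ^ k + algebraMap A K a' / w ^ (p * k - 1) := by
        rw [map_add, map_mul, map_pow, ← hwdef, add_div]
        congr 1
        have : w ^ (p * k - 1) = w ^ (p * k - 1 - k) * w ^ k := by
          rw [← pow_add, Nat.sub_add_cancel hkn]
        rw [this, mul_comm (algebraMap A K c₀), mul_div_mul_left _ _ (pow_ne_zero _ hw0)]
      rw [e1] at h1
      have e2 : algebraMap A K (c₀ ^ p + π * a') / w ^ (p * k) =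
          (algebraMap A K c₀) ^ p / w ^ (k * p) + algebraMap A K a' / w ^ (p * k - 1) := by
        rw [map_add, map_mul, map_pow, ← hwdef, add_div, mul_comm k p]
        congr 1
        have : w ^ (p * k) = w * w ^ (p * k - 1) := by
          rw [← pow_succ', Nat.sub_add_cancel hn]
        rw [this, mul_div_mul_left _ _ hw0]
      rw [e2]
      linear_combination h1

end alpha

end Groth.Agent.Lib.EppH8
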