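import Mathlib

/-!
# Perfect residue field and heights (helper8)
-/

set_option autoImplicit false
universe u

namespace Groth.Agent.Lib.EppH8

open IsLocalRing

section heights

variable {A B : Type u} [CommRing A] [IsLocalRing A] [CommRing B] [IsLocalRing B] [Algebra A B]
  [IsLocalHom (algebraMap A B)] (p : ℕ) [hp : Fact p.Prime] [CharP (ResidueField B) p]
  (hk : ∀ x : ResidueField B, (∀ n : ℕ, ∃ y : ResidueField B, y ^ (p ^ n) = x) ↔
      x ∈ Set.range (algebraMap (ResidueField A) (ResidueField B)))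

/-- `m` is not a `p`-th power modulo the maximal ideal. -/
def Prim (m : B) : Prop := ∀ r : B, residue B m ≠ residue B r ^ p

include hk in
theorem exists_root_in_range (x : ResidueField B)
    (hx : x ∈ Set.range (algebraMap (ResidueField A) (ResidueField B))) :
    ∃ y ∈ Set.range (algebraMap (ResidueField A) (ResidueField B)), y ^ p = x := by
  have h1 := (hk x).mpr hx
  obtain ⟨y₁, hy₁⟩ := h1 1
  rw [pow_one] at hy₁
  refine ⟨y₁, (hk y₁).mp (fun n => ?_), hy₁⟩
  obtain ⟨y, hy⟩ := h1 (n + 1)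
  refine ⟨y, ?_⟩
  apply frobenius_inj (ResidueField B) p
  show (y ^ p ^ n) ^ p = y₁ ^ p
  rw [← pow_mul, ← pow_succ, hy, hy₁]

include hk in
/-- the residue field of `A` is perfect: every element of `A` is a `p`-th power modulo the
maximal ideal -/
theorem exists_pow_add (a : A) : ∃ c : A, a - c ^ p ∈ maximalIdeal A := by
  obtain ⟨y, ⟨y₀, rfl⟩, hy⟩ := exists_root_in_range p hk
    (algebraMap (ResidueField A) (ResidueField B) (residue A a)) ⟨_, rfl⟩
  obtain ⟨c, rfl⟩ := residue_surjective y₀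
  refine ⟨c, ?_⟩
  rw [← residue_eq_zero_iff, map_sub, map_pow, sub_eq_zero]
  apply (algebraMap (ResidueField A) (ResidueField B)).injective
  rw [map_pow, hy]

include hk in
theorem exists_pow_pow_add (r : ℕ) (a : A) : ∃ c : A, a - c ^ (p ^ r) ∈ maximalIdeal A := by
  induction r generalizing a with
  | zero => exact ⟨a, by simp⟩
  | succ r ih =>
    obtain ⟨c, hc⟩ := exists_pow_add p hk a
    obtain ⟨d, hd⟩ := ih c
    refine ⟨d, ?_⟩
    rw [← residue_eq_zero_iff, map_sub, sub_eq_zero] at hc hd ⊢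
    rw [hc, map_pow, hd, map_pow, map_pow, ← pow_mul, ← pow_succ]

include hk in
/-- finite height of an element whose residue is not in the residue field of `A` -/
theorem exists_height (b : B)
    (hb : residue B b ∉ Set.range (algebraMap (ResidueField A) (ResidueField B))) :
    ∃ (h : ℕ) (m : B), Prim p m ∧ b - m ^ (p ^ h) ∈ maximalIdeal B := by
  classical
  have h1 : ∃ n : ℕ, ∀ y : ResidueField B, y ^ (p ^ n) ≠ residue B b := by
    by_contra hcon
    push Not at hcon
    exact hb ((hk _).mp hcon)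
  obtain ⟨n, hn⟩ : ∃ n, n = Nat.find h1 := ⟨_, rfl⟩
  have hn1 : ∀ y : ResidueField B, y ^ (p ^ n) ≠ residue B b := hn ▸ Nat.find_spec h1
  have hn0 : n ≠ 0 := by
    rintro rfl
    exact hn1 (residue B b) (by rw [pow_zero, pow_one])
  obtain ⟨h, rfl⟩ : ∃ h, n = h + 1 := ⟨n - 1, by omega⟩
  have h2 : ¬ ∀ y : ResidueField B, y ^ (p ^ h) ≠ residue B b := by
    intro hcon
    have := Nat.find_min' h1 hcon
    omega
  push Not at h2
  obtain ⟨μ, hμ⟩ := h2
  obtain ⟨m, rfl⟩ := residue_surjective μ
  refine ⟨h, m, ?_, ?_⟩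
  · intro r hr
    apply hn1 (residue B r)
    rw [pow_succ, pow_mul', ← hr, hμ]
  · rw [← residue_eq_zero_iff, map_sub, map_pow, hμ, sub_self]

omit hp [CharP (ResidueField B) p] in
theorem exists_of_mem_range (b : B)
    (hb : residue B b ∈ Set.range (algebraMap (ResidueField A) (ResidueField B))) :
    ∃ a : A, b - algebraMap A B a ∈ maximalIdeal B := by
  obtain ⟨y, hy⟩ := hb
  obtain ⟨a, rfl⟩ := residue_surjective y
  refine ⟨a, ?_⟩
  rw [← residue_eq_zero_iff, map_sub, ← hy, sub_eq_zero]
  rfl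

end heights

end Groth.Agent.Lib.EppH8
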