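import Mathlib
import Groth.Prelude.Def_EtRam
import Groth.Agent.Lib.TotRamCrit3_helper8

/-!
# Local structure of a valuation ring with `t ^ e ~ π` (helper8)
-/

set_option autoImplicit false
universe u

namespace Groth.Agent.Lib.EppH8

open IsLocalRing Groth.Agent.Lib.TotRamCritH8

section loc

variable {A : Type u} [CommRing A] [IsDomain A] [IsDiscreteValuationRing A]
  {K L : Type u} [Field K] [Field L] [Algebra A K] [IsFractionRing A K] [Algebra K L] [Algebra A L]
  [IsScalarTower A K L]

/-- If `[L : K] ≤ e` and `t ∈ L` satisfies `v(t ^ e) = v(π)` at a valuation subring `V` dominating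
the DVR `A`, then `t` is a uniformizer of `V` and `A → V` induces a surjection on residue
fields. -/
theorem local_structure_of_pow_eq (π : A) (hπ : maximalIdeal A = Ideal.span {π}) (e : ℕ)
    (he : 0 < e) [FiniteDimensional K L] (hfin : Module.finrank K L ≤ e) (t : L)
    (V : ValuationSubring L) (hV : EtRam.Dominates A (algebraMap A L) V)
    (hte : V.valuation (t ^ e) = V.valuation (algebraMap A L π)) :
    (∀ x ∈ V, V.valuation x < 1 → V.valuation x ≤ V.valuation t) ∧
      (∀ x ∈ V, ∃ a : A, V.valuation (x - algebraMap A L a) < 1) := by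
  classical
  have hli := linearIndependent_pow (K := K) π hπ V hV e t hte
  have hcard : Fintype.card (Fin e) = Module.finrank K L := by
    apply le_antisymm hli.fintype_card_le_finrank
    rw [Fintype.card_fin]; exact hfin
  have hspan := hli.span_eq_top_of_card_eq_finrank' hcard
  have hrep : ∀ x : L, ∃ c : Fin e → K, (∑ j : Fin e, algebraMap K L (c j) * t ^ (j : ℕ)) = x := by
    intro x
    have hx : x ∈ Submodule.span K (Set.range (fun i : Fin e => t ^ (i : ℕ))) := by
      rw [hspan]; trivial
    rw [Submodule.mem_span_range_iff_exists_fun] at hx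
    obtain ⟨c, hc⟩ := hx
    refine ⟨c, ?_⟩
    rw [← hc]
    exact Finset.sum_congr rfl (fun j _ => (Algebra.smul_def _ _).symm)
  have hτ1 := val_t_lt_one π hπ V hV e t hte he
  -- the key decomposition
  have key : ∀ x ∈ V, ∃ a : A, V.valuation (x - algebraMap A L a) ≤ V.valuation t := by
    intro x hx
    obtain ⟨c, hc⟩ := hrep x
    have hmem : (∑ j : Fin e, algebraMap K L (c j) * t ^ (j : ℕ)) ∈ V := by rw [hc]; exact hx
    rw [sum_mem_iff π hπ V hV e t hte c] at hmem
    choose a ha using hmem
    refine ⟨a ⟨0, he⟩, ?_⟩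
    have h1 : x - algebraMap A L (a ⟨0, he⟩) =
        ∑ j ∈ Finset.univ.erase (⟨0, he⟩ : Fin e), algebraMap K L (c j) * t ^ (j : ℕ) := by
      rw [← hc, ← Finset.add_sum_erase Finset.univ _ (Finset.mem_univ (⟨0, he⟩ : Fin e)),
        ← ha ⟨0, he⟩, ← IsScalarTower.algebraMap_apply]
      simp
    rw [h1]
    apply Valuation.map_sum_le
    intro j hj
    have hj0 : (j : ℕ) ≠ 0 := by
      intro h0
      exact Finset.ne_of_mem_erase hj (Fin.ext h0)
    rw [map_mul, map_pow]
    have h3 : V.valuation (algebraMap K L (c j)) ≤ 1 := by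
      rw [V.valuation_le_one_iff, ← ha j, ← IsScalarTower.algebraMap_apply]
      exact hV.1 _
    have h4 : V.valuation t ^ (j : ℕ) ≤ V.valuation t := by
      calc V.valuation t ^ (j : ℕ) ≤ V.valuation t ^ 1 :=
            pow_le_pow_of_le_one zero_le hτ1.le (by omega)
        _ = V.valuation t := pow_one _
    calc V.valuation (algebraMap K L (c j)) * V.valuation t ^ (j : ℕ)
        ≤ 1 * V.valuation t := mul_le_mul' h3 h4
      _ = V.valuation t := one_mul _
  constructor
  · intro x hx hx1
    obtain ⟨a, ha⟩ := key x hx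
    have h1 : V.valuation (algebraMap A L a) < 1 := by
      have h2 : algebraMap A L a = x - (x - algebraMap A L a) := by ring
      rw [h2]
      exact lt_of_le_of_lt (Valuation.map_sub _ _ _) (max_lt hx1 (lt_of_le_of_lt ha hτ1))
    have ham : a ∈ maximalIdeal A := by
      rw [mem_maximalIdeal]
      intro hu
      have := val_unit V hV hu.unit
      rw [IsUnit.unit_spec] at this
      rw [this] at h1
      exact lt_irrefl _ h1
    rw [hπ, Ideal.mem_span_singleton'] at ham
    obtain ⟨a', rfl⟩ := ham
    have h3 : V.valuation (algebraMap A L (a' * π)) ≤ V.valuation t := by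
      rw [map_mul, map_mul, ← hte, map_pow]
      have h4 : V.valuation (algebraMap A L a') ≤ 1 := (V.valuation_le_one_iff _).mpr (hV.1 _)
      have h5 : V.valuation t ^ e ≤ V.valuation t := by
        calc V.valuation t ^ e ≤ V.valuation t ^ 1 :=
              pow_le_pow_of_le_one zero_le hτ1.le (by omega)
          _ = V.valuation t := pow_one _
      calc V.valuation (algebraMap A L a') * V.valuation t ^ e ≤ 1 * V.valuation t :=
            mul_le_mul' h4 h5
        _ = V.valuation t := one_mul _
    have h6 : x = (x - algebraMap A L (a' * π)) + algebraMap A L (a' * π) := by ring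
    rw [h6]
    exact le_trans (Valuation.map_add _ _ _) (max_le ha h3)
  · intro x hx
    obtain ⟨a, ha⟩ := key x hx
    exact ⟨a, lt_of_le_of_lt ha hτ1⟩

end loc

end Groth.Agent.Lib.EppH8
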