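import Mathlib
import Groth.Prelude.Def_EtRam
import Groth.Agent.Lib.Epp2_helper8
import Groth.Agent.Lib.Epp6_helper8
import Groth.Agent.Lib.ASDvr5_helper8
import Groth.Agent.Lib.DvrExt4_helper8
import Groth.Agent.Lib.DvrExt3_helper8
import Groth.Agent.Lib.DvrExt1_helper8

/-!
# Weak unramifiedness from an Artin–Schreier normal form (helper8)
-/

set_option autoImplicit false
universe u

namespace Groth.Agent.Lib.EppH8

open IsLocalRing Groth.Agent.Lib.TotRamCritH8 Groth.Agent.Lib.ASDvrH8 DvrExtH8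

theorem val_le_iff_div_mem {F : Type*} [Field F] (V : ValuationSubring F) (x y : F) (hy : y ≠ 0) :
    V.valuation x ≤ V.valuation y ↔ x / y ∈ V := by
  rw [← V.valuation_le_one_iff, map_div₀]
  have h0 : V.valuation y ≠ 0 := (Valuation.ne_zero_iff _).mpr hy
  rw [div_le_one₀ (zero_lt_iff.mpr h0)]

theorem comap_val_le_iff {F M : Type*} [Field F] [Field M] (f : F →+* M) (W : ValuationSubring M)
    (x y : F) : (W.comap f).valuation x ≤ (W.comap f).valuation y ↔
      W.valuation (f x) ≤ W.valuation (f y) := by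
  by_cases hy : y = 0
  · subst hy
    rw [map_zero, map_zero, map_zero, le_zero_iff, le_zero_iff, Valuation.zero_iff,
      Valuation.zero_iff, map_eq_zero]
  · have hfy : f y ≠ 0 := fun h => hy ((map_eq_zero f).mp h)
    rw [val_le_iff_div_mem _ _ _ hy, val_le_iff_div_mem _ _ _ hfy, ValuationSubring.mem_comap,
      map_div₀]

theorem comap_val_eq_iff {F M : Type*} [Field F] [Field M] (f : F →+* M) (W : ValuationSubring M)
    (x y : F) : (W.comap f).valuation x = (W.comap f).valuation y ↔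
      W.valuation (f x) = W.valuation (f y) := by
  rw [le_antisymm_iff, le_antisymm_iff, comap_val_le_iff, comap_val_le_iff]

section mt

variable {p : ℕ} [hp : Fact p.Prime] {B L Ω : Type u} [CommRing B] [IsDomain B]
  [IsDiscreteValuationRing B] [Field L] [Algebra B L] [IsFractionRing B L] [CharP L p]
  [Field Ω] [Algebra L Ω] [Algebra B Ω] [IsScalarTower B L Ω]

set_option maxHeartbeats 1600000 in
/-- **Main technical theorem.** -/
theorem weak_of_as (π : B) (hπ : maximalIdeal B = Ideal.span {π}) (W : ValuationSubring Ω)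
    (hW : EtRam.Dominates B (algebraMap B Ω) W)
    (L₁ : IntermediateField L Ω) [FiniteDimensional L L₁] [Algebra.IsSeparable L L₁] (e : ℕ)
    (he : 0 < e) (hfin : Module.finrank L L₁ ≤ e)
    (t : Ω) (ht : t ∈ L₁) (hte : W.valuation (t ^ e) = W.valuation (algebraMap B Ω π))
    (z₁ ξ₁ : Ω) (hξ₁ : ξ₁ ∈ L₁) (hz : z₁ ^ p - z₁ = ξ₁)
    (hgen : IntermediateField.adjoin L₁ {z₁} = ⊤)
    (hcase : ξ₁ ∈ W ∨ ∃ (m' : ℕ) (m₀ : B), 0 < m' ∧ p ∣ m' ∧ Prim p m₀ ∧
      W.valuation (ξ₁ * t ^ m' - algebraMap B Ω m₀) < 1) :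
    ∀ x ∈ W, W.valuation x < 1 → ∃ y ∈ W, x = t * y := by
  classical
  haveI : IsScalarTower B L₁ Ω := IsScalarTower.of_algebraMap_eq (fun b => by
    rw [IsScalarTower.algebraMap_apply B L Ω, IsScalarTower.algebraMap_apply B L L₁]
    rfl)
  obtain ⟨B₁, hB₁def⟩ : ∃ B₁ : ValuationSubring L₁, B₁ = W.comap (algebraMap L₁ Ω) := ⟨_, rfl⟩
  have hmemB₁ : ∀ x : L₁, x ∈ B₁ ↔ (x : Ω) ∈ W := by
    intro x; rw [hB₁def]; rfl
  have hvalB₁ : ∀ x : L₁, B₁.valuation x < 1 ↔ W.valuation (x : Ω) < 1 := by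
    intro x; rw [hB₁def]; exact comap_valuation_lt_one_iff _ _ _
  have hdB₁ : EtRam.Dominates B (algebraMap B L₁) B₁ := by
    refine ⟨fun b => ?_, fun b hb => ?_⟩
    · rw [hmemB₁, ← IntermediateField.algebraMap_apply, ← IsScalarTower.algebraMap_apply]
      exact hW.1 b
    · rw [hvalB₁, ← IntermediateField.algebraMap_apply, ← IsScalarTower.algebraMap_apply]
      exact hW.2 b hb
  have hdB₁' : EtRam.Dominates B ((algebraMap L L₁).comp (algebraMap B L)) B₁ := by
    rw [← IsScalarTower.algebraMap_eq]; exact hdB₁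
  haveI : IsDiscreteValuationRing B₁ := isDVR_of_dominates (A := B) (K := L) (L := L₁) B₁ hdB₁'
  -- local structure
  have hte' : B₁.valuation ((⟨t, ht⟩ : L₁) ^ e) = B₁.valuation (algebraMap B L₁ π) := by
    rw [hB₁def, comap_val_eq_iff, map_pow, ← IsScalarTower.algebraMap_apply]
    exact hte
  obtain ⟨hunif, hres⟩ := local_structure_of_pow_eq (K := L) π hπ e he hfin (⟨t, ht⟩ : L₁) B₁ hdB₁ hte'
  have hπ1 : W.valuation (algebraMap B Ω π) < 1 :=
    hW.2 π (by rw [hπ]; exact Ideal.mem_span_singleton_self π)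
  have hτ1 : W.valuation t < 1 := by
    have h1 := hπ1
    rw [← hte, map_pow] at h1
    by_contra h2
    push Not at h2
    exact absurd (one_le_pow₀ h2 : 1 ≤ W.valuation t ^ e) (not_le.mpr h1)
  have hπ0 : algebraMap B Ω π ≠ 0 := by
    rw [IsScalarTower.algebraMap_apply B L Ω]
    intro h0
    have h1 := (algebraMap L Ω).injective (h0.trans (map_zero _).symm)
    have h2 := IsFractionRing.injective B L (h1.trans (map_zero _).symm)
    exact TotRamCritH8.pi_ne_zero π hπ h2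
  have ht0 : t ≠ 0 := by
    rintro rfl
    rw [zero_pow he.ne', map_zero] at hte
    exact hπ0 ((Valuation.zero_iff _).mp hte.symm)
  have htW : t ∈ W := (W.valuation_le_one_iff _).mp hτ1.le
  obtain ⟨t₁, ht₁⟩ : ∃ t₁ : B₁, ((t₁ : L₁) : Ω) = t := ⟨⟨⟨t, ht⟩, (hmemB₁ _).mpr htW⟩, rfl⟩
  have ht₁' : (t₁ : L₁) = ⟨t, ht⟩ := Subtype.ext ht₁
  have ht₁0 : (t₁ : L₁) ≠ 0 := by
    rw [ht₁']
    intro h0
    exact ht0 (congrArg Subtype.val h0)
  have hmaxB₁ : maximalIdeal B₁ = Ideal.span {t₁} := by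
    apply le_antisymm
    · intro x hx
      rw [ValuationSubring.valuation_lt_one_iff] at hx
      have h1 := hunif (x : L₁) x.2 hx
      rw [← ht₁', val_le_iff_div_mem _ _ _ ht₁0] at h1
      rw [Ideal.mem_span_singleton']
      refine ⟨⟨(x : L₁) / (t₁ : L₁), h1⟩, Subtype.ext ?_⟩
      show (x : L₁) / (t₁ : L₁) * (t₁ : L₁) = x
      rw [div_mul_cancel₀ _ ht₁0]
    · rw [Ideal.span_le, Set.singleton_subset_iff, SetLike.mem_coe,
        ValuationSubring.valuation_lt_one_iff, hvalB₁, ht₁]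
      exact hτ1
  -- `W` over `B₁`
  letI algB₁Ω : Algebra B₁ Ω := ((algebraMap L₁ Ω).comp (algebraMap B₁ L₁)).toAlgebra
  haveI : IsScalarTower B₁ L₁ Ω := IsScalarTower.of_algebraMap_eq (fun _ => rfl)
  haveI : CharP L₁ p := charP_of_injective_algebraMap (algebraMap L L₁).injective p
  have hWB₁ : EtRam.Dominates B₁ (algebraMap B₁ Ω) W := by
    refine ⟨fun b => ?_, fun b hb => ?_⟩
    · exact (hmemB₁ _).mp b.2
    · rw [ValuationSubring.valuation_lt_one_iff, hvalB₁] at hb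
      exact hb
  letI algB₁W : Algebra B₁ W := (RingHom.codRestrict (algebraMap B₁ Ω) W hWB₁.1).toAlgebra
  haveI : IsLocalHom (algebraMap B₁ W) := isLocalHom_of_dominates (algebraMap B₁ Ω) W hWB₁
  have hwu : EtRam.IsWeaklyUnramified B₁ W := by
    rcases hcase with hξW | ⟨m', m₀, hm', hpm', hprim, hval⟩
    · obtain ⟨a₀, ha₀⟩ : ∃ a₀ : B₁, ((a₀ : L₁) : Ω) = ξ₁ := ⟨⟨⟨ξ₁, hξ₁⟩, (hmemB₁ _).mpr hξW⟩, rfl⟩
      have hz' : z₁ ^ p - z₁ = algebraMap L₁ Ω (algebraMap B₁ L₁ a₀) := by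
        rw [hz, ← ha₀]; rfl
      have h1 := caseA (p := p) (A := B₁) (K := L₁) (L := Ω) t₁ hmaxB₁ a₀ z₁ hz' hgen
      have h2 := h1 W hWB₁
      exact h2.1
    · haveI : CharP Ω p := charP_of_injective_algebraMap (algebraMap L Ω).injective p
      have haW : ξ₁ * t ^ m' ∈ W := by
        have h1 : ξ₁ * t ^ m' = (ξ₁ * t ^ m' - algebraMap B Ω m₀) + algebraMap B Ω m₀ := by ring
        rw [h1]
        exact W.add_mem _ _ ((W.valuation_le_one_iff _).mp hval.le) (hW.1 m₀)
      obtain ⟨a, ha⟩ : ∃ a : B₁, ((a : L₁) : Ω) = ξ₁ * t ^ m' :=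
        ⟨⟨⟨ξ₁ * t ^ m', mul_mem hξ₁ (pow_mem ht _)⟩, (hmemB₁ _).mpr haW⟩, rfl⟩
      have hz' : z₁ ^ p - z₁ = algebraMap L₁ Ω (⟨ξ₁, hξ₁⟩ : L₁) := by
        rw [hz]; rfl
      have hξa : (⟨ξ₁, hξ₁⟩ : L₁) * algebraMap B₁ L₁ t₁ ^ m' = algebraMap B₁ L₁ a := by
        apply Subtype.ext
        show ξ₁ * ((t₁ : L₁) : Ω) ^ m' = ((a : L₁) : Ω)
        rw [ht₁, ha]
      have hnotp : ∀ r : B₁, residue B₁ a ≠ residue B₁ r ^ p := by
        intro r hr
        have h1 : a - r ^ p ∈ maximalIdeal B₁ := by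
          rw [← residue_eq_zero_iff, map_sub, map_pow, hr, sub_self]
        rw [ValuationSubring.valuation_lt_one_iff, hvalB₁] at h1
        have h1' : W.valuation (ξ₁ * t ^ m' - ((r : L₁) : Ω) ^ p) < 1 := by
          rw [← ha]; exact h1
        obtain ⟨b₀, hb₀⟩ := hres (r : L₁) r.2
        rw [hvalB₁] at hb₀
        have hb₀' : W.valuation (((r : L₁) : Ω) - algebraMap B Ω b₀) < 1 := by
          have h2 : (((r : L₁) - algebraMap B L₁ b₀ : L₁) : Ω) =
              ((r : L₁) : Ω) - algebraMap B Ω b₀ := by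
            rw [IsScalarTower.algebraMap_apply B L₁ Ω]; rfl
          rw [← h2]; exact hb₀
        have h3 : W.valuation (((r : L₁) : Ω) ^ p - algebraMap B Ω b₀ ^ p) < 1 := by
          rw [← sub_pow_char, map_pow]
          exact pow_lt_one₀ zero_le hb₀' hp.out.ne_zero
        have h4 : W.valuation (algebraMap B Ω (m₀ - b₀ ^ p)) < 1 := by
          have h5 : algebraMap B Ω (m₀ - b₀ ^ p) =
              -(ξ₁ * t ^ m' - algebraMap B Ω m₀) + (ξ₁ * t ^ m' - ((r : L₁) : Ω) ^ p) +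
                (((r : L₁) : Ω) ^ p - algebraMap B Ω b₀ ^ p) := by
            rw [map_sub, map_pow]; ring
          rw [h5]
          refine lt_of_le_of_lt (Valuation.map_add _ _ _) (max_lt ?_ h3)
          refine lt_of_le_of_lt (Valuation.map_add _ _ _) (max_lt ?_ h1')
          rw [Valuation.map_neg]; exact hval
        have h6 : m₀ - b₀ ^ p ∈ maximalIdeal B := by
          rw [mem_maximalIdeal]
          intro hu
          have := val_unit W hW hu.unit
          rw [IsUnit.unit_spec] at this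
          rw [this] at h4
          exact lt_irrefl _ h4
        apply hprim b₀
        rw [← residue_eq_zero_iff, map_sub, map_pow, sub_eq_zero] at h6
        exact h6
      have h1 := caseC (p := p) (A := B₁) (K := L₁) (L := Ω) t₁ hmaxB₁ (⟨ξ₁, hξ₁⟩ : L₁) z₁ hz' hgen
        m' a hm' hpm' hnotp hξa
      have h2 := h1.2.2 W hWB₁
      exact h2.1
  intro x hxW hx1
  have hx : (⟨x, hxW⟩ : W) ∈ maximalIdeal W := (ValuationSubring.valuation_lt_one_iff W _).mpr hx1
  unfold EtRam.IsWeaklyUnramified at hwu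
  rw [← hwu, hmaxB₁, Ideal.map_span, Set.image_singleton, Ideal.mem_span_singleton'] at hx
  obtain ⟨y, hy⟩ := hx
  refine ⟨y, y.2, ?_⟩
  have h1 := congrArg Subtype.val hy
  have h2 : ((algebraMap B₁ W t₁ : W) : Ω) = t := ht₁
  rw [← h2, mul_comm]
  exact h1.symm

end mt

end Groth.Agent.Lib.EppH8
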