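import Mathlib
import Groth.Prelude.Def_EtRam
import Groth.Agent.Lib.Epp7_helper8

/-!
# Weak unramifiedness from Artin–Schreier data in a composite field (helper8)
-/

set_option autoImplicit false
universe u

namespace Groth.Agent.Lib.EppH8

open IsLocalRing IntermediateField

section data

variable {p : ℕ} [hp : Fact p.Prime] {B K L K₁ Ω : Type u} [CommRing B] [IsDomain B]
  [IsDiscreteValuationRing B] [Field K] [Field L] [Field K₁] [Field Ω]
  [Algebra B L] [IsFractionRing B L] [Algebra K L] [CharP L p]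
  [Algebra K K₁] [Algebra K Ω] [Algebra L Ω] [Algebra K₁ Ω] [IsScalarTower K L Ω]
  [IsScalarTower K K₁ Ω] [Algebra B Ω] [IsScalarTower B L Ω]
  [FiniteDimensional K K₁] [Algebra.IsSeparable K K₁]

set_option maxHeartbeats 1600000 in
theorem wu_of_data (πB : B) (hπB : maximalIdeal B = Ideal.span {πB})
    (W : ValuationSubring Ω) (hW : EtRam.Dominates B (algebraMap B Ω) W)
    (e : ℕ) (he : 0 < e) (hdeg : Module.finrank K K₁ ≤ e)
    (t : K₁) (hte : W.valuation (algebraMap K₁ Ω t ^ e) = W.valuation (algebraMap B Ω πB))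
    (zΩ : Ω) (ξ : L) (hz : zΩ ^ p - zΩ = algebraMap L Ω ξ)
    (hgenΩ : ∀ F : IntermediateField L Ω, zΩ ∈ F → (∀ x : K₁, algebraMap K₁ Ω x ∈ F) → F = ⊤)
    (hdata : ∀ F : IntermediateField L Ω, (∀ x : K₁, algebraMap K₁ Ω x ∈ F) →
      ∃ c' ∈ F, (algebraMap L Ω ξ - (c' ^ p - c')) ∈ F ∧
        ((algebraMap L Ω ξ - (c' ^ p - c')) ∈ W ∨
          ∃ (m' : ℕ) (m₀ : B), 0 < m' ∧ p ∣ m' ∧ Prim p m₀ ∧
            W.valuation ((algebraMap L Ω ξ - (c' ^ p - c')) * (algebraMap K₁ Ω t) ^ m' -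
              algebraMap B Ω m₀) < 1)) :
    ∀ x ∈ W, W.valuation x < 1 → ∃ y ∈ W, x = algebraMap K₁ Ω t * y := by
  classical
  haveI : CharP Ω p := charP_of_injective_algebraMap (algebraMap L Ω).injective p
  obtain ⟨θ, hθ⟩ := Field.exists_primitive_element K K₁
  obtain ⟨θ', hθ'def⟩ : ∃ θ' : Ω, θ' = algebraMap K₁ Ω θ := ⟨_, rfl⟩
  have hθint : IsIntegral K θ := Algebra.IsIntegral.isIntegral θ
  have hθ'intK : IsIntegral K θ' := by
    rw [hθ'def]; exact hθint.map (IsScalarTower.toAlgHom K K₁ Ω)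
  have hθ'int : IsIntegral L θ' := hθ'intK.tower_top
  have hθsep : IsSeparable K θ := Algebra.IsSeparable.isSeparable K θ
  have hθ'sepK : IsSeparable K θ' := by
    rw [hθ'def]
    exact hθsep.map (IsScalarTower.toAlgHom K K₁ Ω) (algebraMap K₁ Ω).injective
  have hθ'sep : IsSeparable L θ' := hθ'sepK.tower_top L
  obtain ⟨L₁, hL₁def⟩ : ∃ L₁ : IntermediateField L Ω, L₁ = L⟮θ'⟯ := ⟨_, rfl⟩
  haveI : FiniteDimensional L L₁ := by rw [hL₁def]; exact adjoin.finiteDimensional hθ'int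
  haveI : Algebra.IsSeparable L L₁ := by
    rw [hL₁def]; exact (isSeparable_adjoin_simple_iff_isSeparable L Ω).mpr hθ'sep
  have hfin : Module.finrank L L₁ ≤ e := by
    rw [hL₁def, adjoin.finrank hθ'int]
    have h1 : minpoly L θ' ∣ (minpoly K θ').map (algebraMap K L) :=
      minpoly.dvd_map_of_isScalarTower K L θ'
    have h2 : ((minpoly K θ').map (algebraMap K L)) ≠ 0 :=
      ((minpoly.monic hθ'intK).map _).ne_zero
    have h3 := Polynomial.natDegree_le_of_dvd h1 h2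
    rw [Polynomial.natDegree_map] at h3
    have h4 : minpoly K θ' = minpoly K θ := by
      rw [hθ'def]; exact minpoly.algebraMap_eq (algebraMap K₁ Ω).injective θ
    have h5 : Module.finrank K K₁ = (minpoly K θ).natDegree := by
      rw [← adjoin.finrank hθint, hθ, IntermediateField.finrank_top']
    rw [h4, ← h5] at h3
    exact h3.trans hdeg
  have hK₁L₁ : ∀ x : K₁, algebraMap K₁ Ω x ∈ L₁ := by
    have h2 : K⟮θ⟯ ≤ (L₁.restrictScalars K).comap (IsScalarTower.toAlgHom K K₁ Ω) := by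
      rw [adjoin_le_iff, Set.singleton_subset_iff]
      show algebraMap K₁ Ω θ ∈ L₁
      rw [hL₁def, ← hθ'def]
      exact mem_adjoin_simple_self L θ'
    rw [hθ] at h2
    intro x
    exact h2 (IntermediateField.mem_top (x := x))
  obtain ⟨c', hc'F, hξ₁F, hcase⟩ := hdata L₁ hK₁L₁
  obtain ⟨z₁, hz₁def⟩ : ∃ z₁ : Ω, z₁ = zΩ - c' := ⟨_, rfl⟩
  have hz₁ : z₁ ^ p - z₁ = algebraMap L Ω ξ - (c' ^ p - c') := by
    rw [hz₁def, sub_pow_char, ← hz]; ring
  have hgen₁ : IntermediateField.adjoin L₁ {z₁} = ⊤ := by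
    have h1 := hgenΩ ((IntermediateField.adjoin L₁ {z₁}).restrictScalars L) ?_ ?_
    · rw [eq_top_iff]
      intro x _
      have h2 : x ∈ (IntermediateField.adjoin L₁ {z₁}).restrictScalars L := by
        rw [h1]; exact IntermediateField.mem_top
      exact h2
    · show zΩ ∈ IntermediateField.adjoin L₁ {z₁}
      have h3 : zΩ = z₁ + c' := by rw [hz₁def]; ring
      rw [h3]
      exact add_mem (mem_adjoin_simple_self L₁ z₁)
        ((IntermediateField.adjoin L₁ {z₁}).algebraMap_mem ⟨c', hc'F⟩)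
    · intro x
      show algebraMap K₁ Ω x ∈ IntermediateField.adjoin L₁ {z₁}
      exact (IntermediateField.adjoin L₁ {z₁}).algebraMap_mem ⟨_, hK₁L₁ x⟩
  exact weak_of_as (p := p) πB hπB W hW L₁ e he hfin (algebraMap K₁ Ω t) (hK₁L₁ t) hte z₁ _ hξ₁F
    hz₁ hgen₁ hcase

end data

end Groth.Agent.Lib.EppH8
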