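import Mathlib
import Groth.Prelude.Def_EtRam
import Groth.Agent.Lib.Epp10_helper8
import Groth.Agent.Lib.Epp11_helper8

/-!
# Packaging a weak solution from Artin–Schreier data (helper8)
-/

set_option autoImplicit false
universe u

namespace Groth.Agent.Lib.EppH8

open IsLocalRing IntermediateField

section sol

variable {p : ℕ} [hp : Fact p.Prime] {B C K L M : Type u}
  [CommRing B] [IsDomain B] [IsDiscreteValuationRing B]
  [CommRing C] [IsLocalRing C]
  [Algebra B C] [IsLocalHom (algebraMap B C)]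
  [Field K] [Field L] [Field M] [Algebra B L] [IsFractionRing B L]
  [Algebra C M] [Algebra K L] [Algebra L M] [Algebra K M] [IsScalarTower K L M]
  [Algebra B M] [IsScalarTower B L M] [IsScalarTower B C M] [CharP L p]

set_option maxHeartbeats 1600000 in
theorem solution_of_data (πB : B) (hπB : maximalIdeal B = Ideal.span {πB})
    (z : M) (ξ : L) (hz : z ^ p - z = algebraMap L M ξ)
    (hgenM : IntermediateField.adjoin L {z} = ⊤)
    (K₁ : Type u) [Field K₁] [Algebra K K₁] [FiniteDimensional K K₁] [Algebra.IsSeparable K K₁]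
    (e : ℕ) (he : 0 < e) (hdeg : Module.finrank K K₁ ≤ e) (t : K₁)
    (H : ∀ (Ω : Type u) [Field Ω] [Algebra K Ω] [Algebra L Ω] [Algebra K₁ Ω] [IsScalarTower K L Ω]
      [IsScalarTower K K₁ Ω] [Algebra B Ω] [IsScalarTower B L Ω] (W : ValuationSubring Ω),
      EtRam.Dominates B (algebraMap B Ω) W →
      W.valuation (algebraMap K₁ Ω t ^ e) = W.valuation (algebraMap B Ω πB) ∧
      ∀ F : IntermediateField L Ω, (∀ x : K₁, algebraMap K₁ Ω x ∈ F) →
        ∃ c' ∈ F, (algebraMap L Ω ξ - (c' ^ p - c')) ∈ F ∧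
          ((algebraMap L Ω ξ - (c' ^ p - c')) ∈ W ∨
            ∃ (m' : ℕ) (m₀ : B), 0 < m' ∧ p ∣ m' ∧ Prim p m₀ ∧
              W.valuation ((algebraMap L Ω ξ - (c' ^ p - c')) * (algebraMap K₁ Ω t) ^ m' -
                algebraMap B Ω m₀) < 1)) :
    EtRam.IsWeakSolution C K M K₁ := by
  intro Ω _ _ _ _ _ _ hgen W hdW
  letI algLΩ : Algebra L Ω := ((algebraMap M Ω).comp (algebraMap L M)).toAlgebra
  haveI : IsScalarTower L M Ω := IsScalarTower.of_algebraMap_eq (fun _ => rfl)
  haveI : IsScalarTower K L Ω := IsScalarTower.of_algebraMap_eq (fun x => by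
    show algebraMap K Ω x = algebraMap M Ω (algebraMap L M (algebraMap K L x))
    rw [← IsScalarTower.algebraMap_apply K L M, ← IsScalarTower.algebraMap_apply K M Ω])
  letI algBΩ : Algebra B Ω := ((algebraMap L Ω).comp (algebraMap B L)).toAlgebra
  haveI : IsScalarTower B L Ω := IsScalarTower.of_algebraMap_eq (fun _ => rfl)
  have hBΩ : ∀ b : B, algebraMap B Ω b = algebraMap M Ω (algebraMap C M (algebraMap B C b)) := by
    intro b
    show algebraMap M Ω (algebraMap L M (algebraMap B L b)) = _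
    rw [← IsScalarTower.algebraMap_apply B L M, ← IsScalarTower.algebraMap_apply B C M]
  have hW : EtRam.Dominates B (algebraMap B Ω) W := by
    refine ⟨fun b => ?_, fun b hb => ?_⟩
    · rw [hBΩ]; exact hdW.1 _
    · rw [hBΩ]
      apply hdW.2
      rw [mem_maximalIdeal] at hb ⊢
      intro hu
      exact hb (isUnit_of_map_unit (algebraMap B C) b hu)
  obtain ⟨hte, hdata⟩ := H Ω W hW
  have hzΩ : (algebraMap M Ω z) ^ p - algebraMap M Ω z = algebraMap L Ω ξ := by
    rw [← map_pow, ← map_sub, hz]; rfl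
  have hgenΩ : ∀ F : IntermediateField L Ω, algebraMap M Ω z ∈ F →
      (∀ x : K₁, algebraMap K₁ Ω x ∈ F) → F = ⊤ :=
    fun F h1 h2 => eq_top_of_gen z hgenM hgen F h1 h2
  have hmain := wu_of_data (p := p) (K := K) πB hπB W hW e he hdeg t hte (algebraMap M Ω z) ξ hzΩ
    hgenΩ hdata
  have hπ1 : W.valuation (algebraMap B Ω πB) < 1 :=
    hW.2 πB (by rw [hπB]; exact Ideal.mem_span_singleton_self πB)
  have ht1 : W.valuation (algebraMap K₁ Ω t) < 1 := by
    rw [← hte, map_pow] at hπ1
    by_contra h2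
    push Not at h2
    exact absurd (one_le_pow₀ h2 : 1 ≤ W.valuation (algebraMap K₁ Ω t) ^ e) (not_le.mpr hπ1)
  exact isWeaklyUnramified_comap_of_forall (algebraMap K₁ Ω) W t ht1 hmain

end sol

end Groth.Agent.Lib.EppH8
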