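import Mathlib
import Groth.Prelude.Def_EtRam
import Groth.Agent.Lib.ASDvr5_helper8

/-!
# Artin–Schreier extensions as types, and the uniformizer of a totally ramified one (helper8)
-/

set_option autoImplicit false
universe u

namespace Groth.Agent.Lib.EppH8

open IsLocalRing Polynomial Groth.Agent.Lib.TotRamCritH8 Groth.Agent.Lib.ASExtH8

section asext

variable {p : ℕ} [hp : Fact p.Prime] {K : Type u} [Field K] [CharP K p]

/-- An Artin–Schreier extension `K(w)`, `w ^ p - w = α`, as a type. -/
theorem exists_as_ext (α : K) :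
    ∃ (K₁ : Type u) (_ : Field K₁) (_ : Algebra K K₁) (w : K₁),
      w ^ p - w = algebraMap K K₁ α ∧ IntermediateField.adjoin K {w} = ⊤ := by
  haveI := Polynomial.fact_irreducible_factor (asPoly p α)
  refine ⟨AdjoinRoot (factor (asPoly p α)), inferInstance, inferInstance,
    AdjoinRoot.root (factor (asPoly p α)), ?_, ?_⟩
  · have hdvd : factor (asPoly p α) ∣ asPoly p α :=
      factor_dvd_of_natDegree_ne_zero (by rw [asPoly_natDegree]; exact hp.out.ne_zero)
    obtain ⟨g, hg⟩ := hdvd
    have h1 : aeval (AdjoinRoot.root (factor (asPoly p α))) (asPoly p α) = 0 := by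
      have h2 : aeval (AdjoinRoot.root (factor (asPoly p α))) (factor (asPoly p α) * g) = 0 := by
        rw [map_mul, AdjoinRoot.aeval_eq, AdjoinRoot.mk_self, zero_mul]
      rwa [← hg] at h2
    haveI : CharP (AdjoinRoot (factor (asPoly p α))) p := charP_top p K
    rw [aeval_asPoly] at h1
    exact sub_eq_zero.mp h1
  · exact IntermediateField.adjoin_eq_top_of_algebra _ _ (AdjoinRoot.adjoinRoot_eq_top)

end asext

section unif

variable {p : ℕ} [hp : Fact p.Prime] {A : Type u} [CommRing A] [IsDomain A]
  [IsDiscreteValuationRing A]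
  {K L : Type u} [Field K] [Field L] [Algebra A K] [IsFractionRing A K] [Algebra K L] [Algebra A L]
  [IsScalarTower A K L]

/-- The valuation of the standard uniformizer of a totally ramified Artin–Schreier extension. -/
theorem val_as_unif (π : A) (hπ : maximalIdeal A = Ideal.span {π}) (ξ : K) (z : L)
    (hz : z ^ p - z = algebraMap K L ξ) (n : ℕ) (a : Aˣ) (hn : 0 < n)
    (hξ : ξ * algebraMap A K π ^ n = algebraMap A K a) (u w : ℕ) (hw : n * u = p * w + 1)
    (V : ValuationSubring L) (hV : EtRam.Dominates A (algebraMap A L) V) :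
    V.valuation (((z ^ u)⁻¹ * (algebraMap A L π ^ w)⁻¹) ^ p) = V.valuation (algebraMap A L π) := by
  have hϖ0 := val_pi_ne_zero π hπ V (algebraMap_injective' A K L)
  have hϖ1 := val_pi_lt_one π hπ V hV
  have hξL : algebraMap K L ξ * algebraMap A L π ^ n = algebraMap A L a := by
    have := congrArg (algebraMap K L) hξ
    rwa [map_mul, map_pow, ← IsScalarTower.algebraMap_apply, ← IsScalarTower.algebraMap_apply]
      at this
  have hvξ : V.valuation (algebraMap K L ξ) * V.valuation (algebraMap A L π) ^ n = 1 := by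
    rw [← map_pow, ← map_mul, hξL, val_unit V hV a]
  have hz1 : 1 < V.valuation z := by
    by_contra hle
    push Not at hle
    have hzV : z ∈ V := (V.valuation_le_one_iff _).mp hle
    have h1 : z ^ p - z ∈ V := V.toSubring.sub_mem (V.toSubring.pow_mem hzV p) hzV
    rw [hz] at h1
    have h2 : V.valuation (algebraMap K L ξ) ≤ 1 := (V.valuation_le_one_iff _).mpr h1
    have h3 : V.valuation (algebraMap A L π) ^ n < 1 := pow_lt_one₀ zero_le hϖ1 hn.ne'
    have h4 : V.valuation (algebraMap K L ξ) * V.valuation (algebraMap A L π) ^ n < 1 :=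
      mul_lt_one_of_nonneg_of_lt_one_right h2 zero_le h3
    rw [hvξ] at h4
    exact lt_irrefl _ h4
  have hzp : V.valuation z ^ p = V.valuation (algebraMap K L ξ) := by
    have h1 : V.valuation z < V.valuation (z ^ p) := by
      rw [map_pow]
      have hp1 : p = (p - 1) + 1 := by have := hp.out.one_lt; omega
      rw [hp1, pow_succ]
      have h2 : 1 < V.valuation z ^ (p - 1) :=
        one_lt_pow₀ hz1 (by have := hp.out.one_lt; omega)
      have h3 : (0 : V.ValueGroup) < V.valuation z := lt_trans zero_lt_one hz1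
      calc V.valuation z = 1 * V.valuation z := (one_mul _).symm
        _ < V.valuation z ^ (p - 1) * V.valuation z := by
          exact mul_lt_mul_of_pos_right h2 h3
    have h2 := Valuation.map_sub_eq_of_lt_left V.valuation h1
    rw [hz, map_pow] at h2
    exact h2.symm
  have hvξ0 : V.valuation (algebraMap K L ξ) ≠ 0 := by
    intro h0
    rw [h0, zero_mul] at hvξ
    exact zero_ne_one hvξ
  obtain ⟨X, hX⟩ : ∃ X, X = V.valuation (algebraMap K L ξ) ^ u *
      V.valuation (algebraMap A L π) ^ (w * p) := ⟨_, rfl⟩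
  have hX0 : X ≠ 0 := by
    rw [hX]; exact mul_ne_zero (pow_ne_zero _ hvξ0) (pow_ne_zero _ hϖ0)
  have e1 : V.valuation (((z ^ u)⁻¹ * (algebraMap A L π ^ w)⁻¹) ^ p) * X = 1 := by
    rw [map_pow, map_mul, map_inv₀, map_inv₀, map_pow, map_pow, mul_pow, inv_pow, inv_pow,
      ← pow_mul, mul_comm u p, pow_mul, hzp, ← pow_mul, hX, ← mul_inv,
      inv_mul_cancel₀]
    exact mul_ne_zero (pow_ne_zero _ hvξ0) (pow_ne_zero _ hϖ0)
  have e2 : V.valuation (algebraMap A L π) * X = 1 := by
    rw [hX, mul_comm, mul_assoc, ← pow_succ, mul_comm w p, ← hw, pow_mul, ← mul_pow,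
      hvξ, one_pow]
  exact mul_right_cancel₀ hX0 (e1.trans e2.symm)

end unif

end Groth.Agent.Lib.EppH8
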