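import Mathlib

/-!
# The Artin–Schreier subgroup `℘(F)` (helper8)
-/

set_option autoImplicit false
universe u

namespace Groth.Agent.Lib.EppH8

section asGrp

variable {Ω : Type*} [CommRing Ω] (p : ℕ) [hp : Fact p.Prime] [CharP Ω p]
  {S : Type*} [SetLike S Ω] [SubringClass S Ω] (F : S)

/-- The additive subgroup `{c ^ p - c | c ∈ F}`. -/
def asGrp : AddSubgroup Ω where
  carrier := {x | ∃ c ∈ F, x = c ^ p - c}
  zero_mem' := ⟨0, zero_mem F, by rw [zero_pow hp.out.ne_zero, sub_zero]⟩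
  add_mem' := by
    rintro _ _ ⟨c, hc, rfl⟩ ⟨d, hd, rfl⟩
    exact ⟨c + d, add_mem hc hd, by rw [add_pow_char]; ring⟩
  neg_mem' := by
    rintro _ ⟨c, hc, rfl⟩
    refine ⟨-c, neg_mem hc, ?_⟩
    rw [neg_pow, neg_one_pow_char]
    ring

theorem mem_asGrp {x : Ω} : x ∈ asGrp p F ↔ ∃ c ∈ F, x = c ^ p - c := Iff.rfl

theorem pow_sub_mem_asGrp {y : Ω} (hy : y ∈ F) : y ^ p - y ∈ asGrp p F := ⟨y, hy, rfl⟩

theorem pow_pow_sub_mem_asGrp {y : Ω} (hy : y ∈ F) (s : ℕ) : y ^ (p ^ s) - y ∈ asGrp p F := by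
  induction s with
  | zero => rw [pow_zero, pow_one, sub_self]; exact zero_mem _
  | succ s ih =>
    have h1 : y ^ (p ^ (s + 1)) - y = ((y ^ (p ^ s)) ^ p - y ^ (p ^ s)) + (y ^ (p ^ s) - y) := by
      rw [← pow_mul, ← pow_succ]; ring
    rw [h1]
    exact add_mem (pow_sub_mem_asGrp p F (pow_mem hy _)) ih

end asGrp

end Groth.Agent.Lib.EppH8
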