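import Mathlib
import Groth.Agent.Lib.Epp2_helper8
import Groth.Agent.Lib.Epp3_helper8

/-!
# Phase 1: renormalisation of Artin–Schreier data over `L` (helper8)
-/

set_option autoImplicit false
universe u

namespace Groth.Agent.Lib.EppH8

open IsLocalRing

section phase1

variable {p : ℕ} [hp : Fact p.Prime] {A B : Type u} [CommRing A] [IsLocalRing A] [CommRing B]
  [IsLocalRing B] [Algebra A B] [IsLocalHom (algebraMap A B)]
  {L : Type u} [Field L] [Algebra B L] [CharP L p] [Algebra A L] [IsScalarTower A B L]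
  [CharP (ResidueField B) p]
  (π : A)

/-- the term `m ^ (p ^ h) / π ^ j` attached to `(j, h, m)` -/
noncomputable def term (L : Type u) [Field L] [Algebra B L] [Algebra A L] (p : ℕ) (π : A)
    (t : ℕ × ℕ × B) : L :=
  (algebraMap B L t.2.2) ^ (p ^ t.2.1) / (algebraMap A L π) ^ t.1

/-- the sum of the terms of a list -/
noncomputable def tsum (L : Type u) [Field L] [Algebra B L] [Algebra A L] (p : ℕ) (π : A)
    (T : List (ℕ × ℕ × B)) : L :=
  (T.map (term L p π)).sum

/-- the measure of a list of terms -/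
def meas (T : List (ℕ × ℕ × B)) : ℕ := (T.map (fun t => 2 ^ t.1)).sum

/-- all terms have pole order in `[1, k]` and primitive coefficient -/
def Proper (p : ℕ) (k : ℕ) (T : List (ℕ × ℕ × B)) : Prop :=
  ∀ t ∈ T, 1 ≤ t.1 ∧ t.1 ≤ k ∧ Prim p t.2.2

omit [IsLocalRing A] [IsLocalHom (algebraMap A B)] [IsScalarTower A B L] [CharP L p]
  [CharP (ResidueField B) p] hp in
@[simp] theorem tsum_nil : tsum L p π ([] : List (ℕ × ℕ × B)) = 0 := rfl

omit [IsLocalRing A] [IsLocalHom (algebraMap A B)] [IsScalarTower A B L] [CharP L p]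
  [CharP (ResidueField B) p] hp in
@[simp] theorem tsum_cons (t : ℕ × ℕ × B) (T : List (ℕ × ℕ × B)) :
    tsum L p π (t :: T) = term L p π t + tsum L p π T := by
  simp [tsum]

omit [IsLocalRing A] [IsLocalHom (algebraMap A B)] [IsScalarTower A B L] [CharP L p]
  [CharP (ResidueField B) p] hp in
theorem tsum_append (T T' : List (ℕ × ℕ × B)) :
    tsum L p π (T ++ T') = tsum L p π T + tsum L p π T' := by
  simp [tsum]

omit [IsLocalRing A] [IsLocalHom (algebraMap A B)] [IsScalarTower A B L] [CharP L p]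
  [CharP (ResidueField B) p] hp in
theorem tsum_perm {T T' : List (ℕ × ℕ × B)} (h : T.Perm T') :
    tsum L p π T = tsum L p π T' :=
  (h.map _).sum_eq

@[simp] theorem meas_nil : meas ([] : List (ℕ × ℕ × B)) = 0 := rfl

@[simp] theorem meas_cons (t : ℕ × ℕ × B) (T : List (ℕ × ℕ × B)) :
    meas (t :: T) = 2 ^ t.1 + meas T := by
  simp [meas]

theorem meas_append (T T' : List (ℕ × ℕ × B)) : meas (T ++ T') = meas T + meas T' := by
  simp [meas]

theorem meas_perm {T T' : List (ℕ × ℕ × B)} (h : T.Perm T') : meas T = meas T' :=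
  (h.map _).sum_eq

theorem Proper.mono {k k' : ℕ} (hkk : k ≤ k') {T : List (ℕ × ℕ × B)} (h : Proper p k T) :
    Proper p k' T := fun t ht => ⟨(h t ht).1, (h t ht).2.1.trans hkk, (h t ht).2.2⟩

theorem Proper.nil (k : ℕ) : Proper p k ([] : List (ℕ × ℕ × B)) := fun t ht => by simp at ht

theorem Proper.append {k : ℕ} {T T' : List (ℕ × ℕ × B)} (h : Proper p k T) (h' : Proper p k T') :
    Proper p k (T ++ T') := by
  intro t ht
  rcases List.mem_append.mp ht with h1 | h1
  · exact h t h1
  · exact h' t h1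

theorem Proper.perm {k : ℕ} {T T' : List (ℕ × ℕ × B)} (hperm : T.Perm T') (h : Proper p k T) :
    Proper p k T' := fun t ht => h t (hperm.mem_iff.mpr ht)

variable (hπB : maximalIdeal B = Ideal.span {algebraMap A B π}) (hπ0 : algebraMap A L π ≠ 0)
  (hk : ∀ x : ResidueField B, (∀ n : ℕ, ∃ y : ResidueField B, y ^ (p ^ n) = x) ↔
      x ∈ Set.range (algebraMap (ResidueField A) (ResidueField B)))
  (n : ℕ)

include hπB hπ0 hk in
/-- Renormalisation of `x ^ (p ^ h) / π ^ j`. -/
theorem renorm : ∀ (j : ℕ), 1 ≤ j → j ≤ n → ∀ (x : B) (h : ℕ),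
    ∃ (a : A) (T : List (ℕ × ℕ × B)) (b : B), Proper p j T ∧ meas T < 2 ^ (j + 1) ∧
      (algebraMap B L x) ^ (p ^ h) / (algebraMap A L π) ^ j =
        algebraMap A L a / (algebraMap A L π) ^ n + tsum L p π T + algebraMap B L b := by
  intro j
  induction j using Nat.strong_induction_on with
  | _ j ih =>
    intro hj1 hjn x h
    obtain ⟨w, hwdef⟩ : ∃ w : L, w = algebraMap A L π := ⟨_, rfl⟩
    have hwB : algebraMap B L (algebraMap A B π) = w := by
      rw [hwdef, ← IsScalarTower.algebraMap_apply]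
    rw [← hwdef] at hπ0
    simp only [← hwdef] at ih ⊢
    -- the junk term
    have junk : ∀ (b'' : B), ∃ (a : A) (T : List (ℕ × ℕ × B)) (b : B), Proper p (j - 1) T ∧
        meas T < 2 ^ j ∧ w ^ (p ^ h) * (algebraMap B L b'') ^ (p ^ h) / w ^ j =
          algebraMap A L a / w ^ n + tsum L p π T + algebraMap B L b := by
      intro b''
      rcases le_or_gt j (p ^ h) with hle | hlt
      · refine ⟨0, [], b'' ^ (p ^ h) * (algebraMap A B π) ^ (p ^ h - j), Proper.nil _, by simp, ?_⟩
        rw [map_zero, zero_div, zero_add, tsum_nil, zero_add, map_mul, map_pow, map_pow, hwB]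
        have h1 : w ^ (p ^ h) = w ^ (p ^ h - j) * w ^ j := by
          rw [← pow_add, Nat.sub_add_cancel hle]
        rw [h1]
        field_simp
      · have hpos : 0 < p ^ h := pow_pos hp.out.pos h
        obtain ⟨a, T, b, hT, hm, heq⟩ := ih (j - p ^ h) (by omega) (by omega) (by omega) b'' h
        refine ⟨a, T, b, hT.mono (by omega), ?_, ?_⟩
        · refine lt_of_lt_of_le hm (Nat.pow_le_pow_right (by norm_num) (by omega))
        · rw [← heq]
          have h1 : w ^ j = w ^ (j - p ^ h) * w ^ (p ^ h) := by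
            rw [← pow_add, Nat.sub_add_cancel hlt.le]
          rw [h1]
          field_simp
    have hwjn : w ^ n = w ^ (n - j) * w ^ j := by
      rw [← pow_add, Nat.sub_add_cancel hjn]
    by_cases hx : residue B x ∈ Set.range (algebraMap (ResidueField A) (ResidueField B))
    · obtain ⟨a₀, ha₀⟩ := exists_of_mem_range x hx
      rw [hπB, Ideal.mem_span_singleton'] at ha₀
      obtain ⟨b'', hb''⟩ := ha₀
      obtain ⟨a', T, b, hT, hm, heq⟩ := junk b''
      refine ⟨a₀ ^ (p ^ h) * π ^ (n - j) + a', T, b, hT.mono (by omega), ?_, ?_⟩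
      · exact lt_of_lt_of_le hm (Nat.pow_le_pow_right (by norm_num) (by omega))
      · have hx' : algebraMap B L x = algebraMap A L a₀ + w * algebraMap B L b'' := by
          have h1 : x = algebraMap A B a₀ + b'' * algebraMap A B π := by rw [hb'']; ring
          rw [h1, map_add, map_mul, hwB, ← IsScalarTower.algebraMap_apply]; ring
        have h3 : (algebraMap A L a₀) ^ (p ^ h) / w ^ j =
            (algebraMap A L a₀) ^ (p ^ h) * w ^ (n - j) / w ^ n := by
          rw [hwjn, mul_comm (w ^ (n - j)) (w ^ j), mul_div_mul_right _ _ (pow_ne_zero _ hπ0)]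
        rw [hx', add_pow_char_pow, mul_pow, add_div, heq, map_add, map_mul, map_pow,
          map_pow, ← hwdef, add_div, h3]
        ring
    · obtain ⟨h'', m, hm, hxm⟩ := exists_height p hk x hx
      rw [hπB, Ideal.mem_span_singleton'] at hxm
      obtain ⟨b'', hb''⟩ := hxm
      obtain ⟨a', T, b, hT, hmeas, heq⟩ := junk b''
      refine ⟨a', (j, h'' + h, m) :: T, b, ?_, ?_, ?_⟩
      · intro t ht
        rcases List.mem_cons.mp ht with rfl | ht
        · exact ⟨hj1, le_refl _, hm⟩
        · exact (hT.mono (by omega)) t ht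
      · rw [meas_cons, pow_succ]
        show 2 ^ j + meas T < 2 ^ j * 2
        omega
      · have hx' : algebraMap B L x = (algebraMap B L m) ^ (p ^ h'') + w * algebraMap B L b'' := by
          have h1 : x = m ^ (p ^ h'') + b'' * algebraMap A B π := by rw [hb'']; ring
          rw [h1, map_add, map_mul, hwB, map_pow]; ring
        rw [hx', add_pow_char_pow, mul_pow, add_div, heq, tsum_cons]
        have h2 : term L p π (j, h'' + h, m) =
            ((algebraMap B L m) ^ (p ^ h'')) ^ (p ^ h) / w ^ j := by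
          unfold term
          rw [← hwdef, ← pow_mul, ← pow_add]
        rw [h2]
        ring

include hπB hπ0 hk in
/-- Merging two terms of equal weight. -/
theorem merge (t t' : ℕ × ℕ × B) (ht1 : 1 ≤ t.1) (htt : t.1 ≤ t'.1) (htn : t.1 ≤ n)
    (hwt : t.1 * p ^ t'.2.1 = t'.1 * p ^ t.2.1) :
    ∃ (c : L) (a : A) (T : List (ℕ × ℕ × B)) (b : B), Proper p t.1 T ∧ meas T < 2 ^ (t.1 + 1) ∧
      term L p π t + term L p π t' =
        (c ^ p - c) + algebraMap A L a / (algebraMap A L π) ^ n + tsum L p π T +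
          algebraMap B L b := by
  obtain ⟨j, h, m⟩ := t
  obtain ⟨j', h', m'⟩ := t'
  simp only at ht1 htt htn hwt ⊢
  have hp1 : 1 < p := hp.out.one_lt
  have hhh : h ≤ h' := by
    by_contra hcon
    push Not at hcon
    obtain ⟨d, rfl⟩ : ∃ d, h = h' + (d + 1) := ⟨h - h' - 1, by omega⟩
    rw [pow_add, ← mul_assoc] at hwt
    have h1 : j = j' * p ^ (d + 1) := by
      have h2 : j * p ^ h' = (j' * p ^ (d + 1)) * p ^ h' := by rw [hwt]; ring
      exact Nat.eq_of_mul_eq_mul_right (pow_pos hp.out.pos _) h2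
    have h3 : 2 ≤ p ^ (d + 1) := by
      calc 2 ≤ p := hp1
        _ = p ^ 1 := (pow_one p).symm
        _ ≤ p ^ (d + 1) := Nat.pow_le_pow_right hp.out.pos (by omega)
    nlinarith
  obtain ⟨d, rfl⟩ : ∃ d, h' = h + d := ⟨h' - h, by omega⟩
  have hj' : j' = j * p ^ d := by
    rw [pow_add] at hwt
    have h2 : j' * p ^ h = (j * p ^ d) * p ^ h := by rw [← hwt]; ring
    exact Nat.eq_of_mul_eq_mul_right (pow_pos hp.out.pos _) h2
  obtain ⟨w, hwdef⟩ : ∃ w : L, w = algebraMap A L π := ⟨_, rfl⟩
  obtain ⟨Y, hYdef⟩ : ∃ Y : L, Y = (algebraMap B L m') ^ (p ^ h) / w ^ j := ⟨_, rfl⟩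
  have hY : term L p π (j', h + d, m') = Y ^ (p ^ d) := by
    unfold term
    simp only
    rw [hYdef, div_pow, ← pow_mul, ← pow_mul, ← pow_add, hj', ← hwdef]
  obtain ⟨c, -, hc⟩ := (mem_asGrp p (⊤ : Subring L)).mp
    (pow_pow_sub_mem_asGrp p (⊤ : Subring L) (Subring.mem_top Y) d)
  obtain ⟨a, T, b, hT, hmeas, heq⟩ := renorm (L := L) π hπB hπ0 hk n j ht1 htn (m + m') h
  refine ⟨c, a, T, b, hT, hmeas, ?_⟩
  have h1 : term L p π (j, h, m) + Y = (algebraMap B L (m + m')) ^ (p ^ h) / w ^ j := by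
    unfold term
    simp only
    rw [hYdef, map_add, add_pow_char_pow, add_div, ← hwdef]
  rw [hY]
  rw [← hwdef] at heq ⊢
  rw [← h1] at heq
  linear_combination hc + heq

end phase1

end Groth.Agent.Lib.EppH8
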