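import Mathlib
import Groth.Agent.Lib.Epp3_helper8

/-!
# Phase 2: computations in a totally ramified extension with `π₁ ^ q ≈ π` (helper8)
-/

set_option autoImplicit false
universe u

namespace Groth.Agent.Lib.EppH8

section polGrp

variable {Ω : Type*} [Field Ω] {S : Type*} [SetLike S Ω] [SubfieldClass S Ω] (F : S)
  (W : ValuationSubring Ω) (π₁ : Ω)

/-- elements of `F` with pole order at most `k` with respect to `π₁` -/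
def polGrp (k : ℕ) : AddSubgroup Ω where
  carrier := {x | x ∈ F ∧ x * π₁ ^ k ∈ W}
  zero_mem' := ⟨zero_mem F, by rw [zero_mul]; exact W.zero_mem⟩
  add_mem' := by
    rintro x y ⟨hx, hx'⟩ ⟨hy, hy'⟩
    exact ⟨add_mem hx hy, by rw [add_mul]; exact W.add_mem _ _ hx' hy'⟩
  neg_mem' := by
    rintro x ⟨hx, hx'⟩
    exact ⟨neg_mem hx, by rw [neg_mul]; exact W.neg_mem _ hx'⟩

theorem mem_polGrp {k : ℕ} {x : Ω} : x ∈ polGrp F W π₁ k ↔ x ∈ F ∧ x * π₁ ^ k ∈ W := Iff.rfl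

theorem polGrp_mono (hπ₁ : π₁ ∈ W) {k k' : ℕ} (h : k ≤ k') : polGrp F W π₁ k ≤ polGrp F W π₁ k' := by
  rintro x ⟨hx, hx'⟩
  refine ⟨hx, ?_⟩
  obtain ⟨d, rfl⟩ := Nat.exists_eq_add_of_le h
  rw [pow_add, ← mul_assoc]
  exact W.mul_mem _ _ hx' (W.toSubring.pow_mem hπ₁ d)

theorem int_mem_polGrp (hπ₁ : π₁ ∈ W) {x : Ω} (hx : x ∈ F) (hxW : x ∈ W) (k : ℕ) :
    x ∈ polGrp F W π₁ k :=
  ⟨hx, W.mul_mem _ _ hxW (W.toSubring.pow_mem hπ₁ k)⟩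

theorem mul_mem_polGrp {r x : Ω} (hr : r ∈ F) (hrW : r ∈ W) {k : ℕ} (hx : x ∈ polGrp F W π₁ k) :
    r * x ∈ polGrp F W π₁ k :=
  ⟨mul_mem hr hx.1, by rw [mul_assoc]; exact W.mul_mem _ _ hrW hx.2⟩

theorem div_pow_mem_polGrp (hπ₁F : π₁ ∈ F) (hπ₁0 : π₁ ≠ 0) {y : Ω} (hy : y ∈ F) (hyW : y ∈ W)
    (k : ℕ) : y / π₁ ^ k ∈ polGrp F W π₁ k :=
  ⟨div_mem hy (pow_mem hπ₁F k), by
    rw [div_mul_cancel₀ _ (pow_ne_zero _ hπ₁0)]; exact hyW⟩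

end polGrp

section phase2

variable {Ω : Type*} [Field Ω] {p : ℕ} [hp : Fact p.Prime] [CharP Ω p]
  {S : Type*} [SetLike S Ω] [SubfieldClass S Ω] (F : S)
  (W : ValuationSubring Ω) (ϖ π₁ β : Ω) (q N : ℕ)
  (hϖF : ϖ ∈ F) (hϖ1 : W.valuation ϖ < 1) (hϖ0 : ϖ ≠ 0)
  (hπ₁F : π₁ ∈ F) (hβF : β ∈ F) (hβW : β ∈ W) (hN : 2 ≤ N)
  (hrel : π₁ ^ q = ϖ + ϖ ^ N * β)

include hϖ1 hϖ0 hβW hN hrel in
theorem pi1_facts (hq : 0 < q) : π₁ ≠ 0 ∧ W.valuation π₁ < 1 ∧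
    W.valuation (1 + ϖ ^ (N - 1) * β) = 1 ∧ π₁ ^ q = ϖ * (1 + ϖ ^ (N - 1) * β) := by
  have hrel' : π₁ ^ q = ϖ * (1 + ϖ ^ (N - 1) * β) := by
    rw [hrel]
    obtain ⟨N', rfl⟩ : ∃ N', N = N' + 1 := ⟨N - 1, by omega⟩
    rw [Nat.add_sub_cancel, pow_succ]; ring
  have hsmall : W.valuation (ϖ ^ (N - 1) * β) < 1 := by
    rw [map_mul, map_pow]
    have h1 : W.valuation ϖ ^ (N - 1) < 1 := pow_lt_one₀ zero_le hϖ1 (by omega)
    have h2 : W.valuation β ≤ 1 := (W.valuation_le_one_iff _).mpr hβW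
    calc W.valuation ϖ ^ (N - 1) * W.valuation β ≤ W.valuation ϖ ^ (N - 1) * 1 :=
          mul_le_mul_right h2 _
      _ < 1 := by rw [mul_one]; exact h1
  have hu : W.valuation (1 + ϖ ^ (N - 1) * β) = 1 := by
    rw [add_comm]
    have := Valuation.map_add_eq_of_lt_right W.valuation (x := ϖ ^ (N - 1) * β) (y := 1)
      (by rw [map_one]; exact hsmall)
    rw [this, map_one]
  have hu0 : (1 + ϖ ^ (N - 1) * β) ≠ 0 := by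
    intro h0
    rw [h0, map_zero] at hu
    exact zero_ne_one hu
  have hπ₁0 : π₁ ≠ 0 := by
    rintro rfl
    rw [zero_pow hq.ne'] at hrel'
    exact mul_ne_zero hϖ0 hu0 hrel'.symm
  refine ⟨hπ₁0, ?_, hu, hrel'⟩
  by_contra hcon
  push Not at hcon
  have h1 : 1 ≤ W.valuation (π₁ ^ q) := by rw [map_pow]; exact one_le_pow₀ hcon
  rw [hrel', map_mul, hu, mul_one] at h1
  exact absurd h1 (not_le.mpr hϖ1)

include hϖF hϖ1 hϖ0 hβF hβW hN hrel in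
/-- `1 / ϖ ^ j - 1 / π₁ ^ (q j)` is integral for `j < N`. -/
theorem delta_mem (hq : 0 < q) (j : ℕ) (hj : j + 1 ≤ N) :
    1 / ϖ ^ j - 1 / π₁ ^ (q * j) ∈ polGrp F W π₁ 0 := by
  obtain ⟨hπ₁0, hπ₁1, hu, hrel'⟩ := pi1_facts W ϖ π₁ β q N hϖ1 hϖ0 hβW hN hrel hq
  obtain ⟨u, hudef⟩ : ∃ u, u = 1 + ϖ ^ (N - 1) * β := ⟨_, rfl⟩
  rw [← hudef] at hu hrel'
  have hu0 : u ≠ 0 := by
    intro h0
    rw [h0, map_zero] at hu
    exact zero_ne_one hu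
  have huF : u ∈ F := by
    rw [hudef]
    exact add_mem (one_mem F) (mul_mem (pow_mem hϖF _) hβF)
  have huW : u ∈ W := (W.valuation_le_one_iff _).mp hu.le
  have huinvW : u⁻¹ ∈ W := by
    rw [← W.valuation_le_one_iff, map_inv₀, hu, inv_one]
  have hϖW : ϖ ∈ W := (W.valuation_le_one_iff _).mp hϖ1.le
  obtain ⟨g, hgdef⟩ : ∃ g, g = ∑ i ∈ Finset.range j, u ^ i := ⟨_, rfl⟩
  have hgF : g ∈ F := by
    rw [hgdef]; exact sum_mem (fun i _ => pow_mem huF i)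
  have hgW : g ∈ W := by
    rw [hgdef]; exact W.toSubring.sum_mem (fun i _ => W.toSubring.pow_mem huW i)
  have hgeom : u ^ j - 1 = g * (ϖ ^ (N - 1) * β) := by
    rw [hgdef, ← geom_sum_mul, hudef]; ring
  have key : 1 / ϖ ^ j - 1 / π₁ ^ (q * j) = ϖ ^ (N - 1 - j) * β * g * (u⁻¹) ^ j := by
    rw [pow_mul, hrel', mul_pow]
    have h1 : ϖ ^ (N - 1) = ϖ ^ (N - 1 - j) * ϖ ^ j := by
      rw [← pow_add, Nat.sub_add_cancel (by omega)]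
    have h2 : 1 / ϖ ^ j - 1 / (ϖ ^ j * u ^ j) = (u ^ j - 1) / (ϖ ^ j * u ^ j) := by
      field_simp
    rw [h2, hgeom, h1, inv_pow]
    field_simp
  rw [key, mem_polGrp, pow_zero, mul_one]
  refine ⟨?_, ?_⟩
  · exact mul_mem (mul_mem (mul_mem (pow_mem hϖF _) hβF) hgF) (pow_mem (inv_mem huF) _)
  · exact W.mul_mem _ _ (W.mul_mem _ _ (W.mul_mem _ _ (W.toSubring.pow_mem hϖW _) hβW) hgW)
      (W.toSubring.pow_mem huinvW _)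

include hϖF hϖ1 hϖ0 hπ₁F hβF hβW hN hrel in
/-- reduction of a term `m ^ (p ^ h) / ϖ ^ j` -/
theorem term_red (r : ℕ) (hq : q = p ^ r) (m : Ω) (hmF : m ∈ F) (hmW : m ∈ W) (j h s : ℕ)
    (hj : j + 1 ≤ N) (hsh : s ≤ h) (hsr : s ≤ r) :
    m ^ (p ^ h) / ϖ ^ j - m ^ (p ^ (h - s)) / π₁ ^ (p ^ (r - s) * j) ∈
      asGrp p F ⊔ polGrp F W π₁ 0 := by
  have hq0 : 0 < q := by rw [hq]; exact pow_pos hp.out.pos r
  obtain ⟨Y, hYdef⟩ : ∃ Y, Y = m ^ (p ^ (h - s)) / π₁ ^ (p ^ (r - s) * j) := ⟨_, rfl⟩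
  have hYF : Y ∈ F := by
    rw [hYdef]; exact div_mem (pow_mem hmF _) (pow_mem hπ₁F _)
  have hYpow : Y ^ (p ^ s) = m ^ (p ^ h) / π₁ ^ (q * j) := by
    rw [hYdef, div_pow, ← pow_mul, ← pow_mul, ← pow_add, Nat.sub_add_cancel hsh, hq]
    congr 2
    rw [mul_comm (p ^ (r - s)) j, mul_assoc, ← pow_add, Nat.sub_add_cancel hsr, mul_comm]
  have hδ := delta_mem F W ϖ π₁ β q N hϖF hϖ1 hϖ0 hβF hβW hN hrel hq0 j hj
  have h1 : m ^ (p ^ h) / ϖ ^ j - Y =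
      (Y ^ (p ^ s) - Y) + m ^ (p ^ h) * (1 / ϖ ^ j - 1 / π₁ ^ (q * j)) := by
    rw [hYpow]; ring
  rw [← hYdef, h1]
  exact AddSubgroup.add_mem_sup (pow_pow_sub_mem_asGrp p F hYF s)
    (mul_mem_polGrp F W π₁ (pow_mem hmF _) (W.toSubring.pow_mem hmW _) hδ)

include hϖF hϖ1 hϖ0 hπ₁F hβF hβW hN hrel in
/-- reduction of the `K`-part -/
theorem alpha_red (r : ℕ) (hq : q = p ^ r) {A : Type*} [CommRing A] (ιA : A →+* Ω) (π : A)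
    (hπ : ιA π = ϖ) (hAF : ∀ a, ιA a ∈ F) (hAW : ∀ a, ιA a ∈ W)
    (hperf : ∀ a : A, ∃ c a' : A, a = c ^ q + π * a') :
    ∀ j, j + 1 ≤ N → ∀ a : A, ιA a / ϖ ^ j ∈ asGrp p F ⊔ polGrp F W π₁ j := by
  have hq0 : 0 < q := by rw [hq]; exact pow_pos hp.out.pos r
  obtain ⟨hπ₁0, hπ₁1, -, -⟩ := pi1_facts W ϖ π₁ β q N hϖ1 hϖ0 hβW hN hrel hq0
  have hπ₁W : π₁ ∈ W := (W.valuation_le_one_iff _).mp hπ₁1.le
  intro j
  induction j with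
  | zero =>
    intro _ a
    rw [pow_zero, div_one]
    exact AddSubgroup.mem_sup_right (int_mem_polGrp F W π₁ hπ₁W (hAF a) (hAW a) 0)
  | succ j ih =>
    intro hj a
    obtain ⟨c, a', rfl⟩ := hperf a
    have ih' := ih (by omega) a'
    have hmono : asGrp p F ⊔ polGrp F W π₁ j ≤ asGrp p F ⊔ polGrp F W π₁ (j + 1) :=
      sup_le_sup_left (polGrp_mono F W π₁ hπ₁W (by omega)) _
    obtain ⟨Y, hYdef⟩ : ∃ Y, Y = ιA c / π₁ ^ (j + 1) := ⟨_, rfl⟩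
    have hYF : Y ∈ F := by rw [hYdef]; exact div_mem (hAF c) (pow_mem hπ₁F _)
    have hYpol : Y ∈ polGrp F W π₁ (j + 1) := by
      rw [hYdef]; exact div_pow_mem_polGrp F W π₁ hπ₁F hπ₁0 (hAF c) (hAW c) _
    have hYq : Y ^ q = ιA c ^ q / π₁ ^ (q * (j + 1)) := by
      rw [hYdef, div_pow, ← pow_mul, mul_comm]
    have hδ := delta_mem F W ϖ π₁ β q N hϖF hϖ1 hϖ0 hβF hβW hN hrel hq0 (j + 1) hj
    have h1 : ιA (c ^ q + π * a') / ϖ ^ (j + 1) =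
        (Y ^ q - Y) + (Y + ιA c ^ q * (1 / ϖ ^ (j + 1) - 1 / π₁ ^ (q * (j + 1)))) +
          ιA a' / ϖ ^ j := by
      rw [hYq, map_add, map_mul, map_pow, hπ, pow_succ]
      field_simp
      ring
    rw [h1]
    refine add_mem (AddSubgroup.add_mem_sup ?_ (add_mem hYpol ?_)) (hmono ih')
    · rw [hq]; exact pow_pow_sub_mem_asGrp p F hYF r
    · exact polGrp_mono F W π₁ hπ₁W (Nat.zero_le _)
        (mul_mem_polGrp F W π₁ (pow_mem (hAF c) _) (W.toSubring.pow_mem (hAW c) _) hδ)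

end phase2

end Groth.Agent.Lib.EppH8
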