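import Mathlib
import Groth.Agent.Lib.Epp4_helper8
import Groth.Agent.Lib.Epp8_helper8

/-!
# Phase 2: assembling the normal form in the extension (helper8)
-/

set_option autoImplicit false
universe u

namespace Groth.Agent.Lib.EppH8

section assemble

variable {p : ℕ} [hp : Fact p.Prime] {A B L Ω : Type u} [CommRing A] [CommRing B] [Field L] [Field Ω]
  [Algebra A B] [Algebra B L] [Algebra A L] [IsScalarTower A B L] [Algebra L Ω] [CharP L p]

set_option maxHeartbeats 1600000 in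
theorem phase2_main (F : IntermediateField L Ω) (W : ValuationSubring Ω)
    (hWB : ∀ b : B, algebraMap L Ω (algebraMap B L b) ∈ W)
    (π : A) (hϖ1 : W.valuation (algebraMap L Ω (algebraMap A L π)) < 1)
    (hϖ0 : algebraMap A L π ≠ 0)
    (n : ℕ) (t₀ : ℕ × ℕ × B) (T₁ : List (ℕ × ℕ × B))
    (hprop : ∀ t ∈ t₀ :: T₁, 1 ≤ t.1 ∧ t.1 ≤ n)
    (hlt : ∀ t ∈ T₁, t.1 * p ^ t₀.2.1 < t₀.1 * p ^ t.2.1)
    (ξ c : L) (a : A) (b : B)
    (hξ : ξ = (c ^ p - c) + algebraMap A L a / (algebraMap A L π) ^ n + term L p π t₀ +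
      tsum L p π T₁ + algebraMap B L b)
    (r q N : ℕ) (hr : r = t₀.2.1 + n + 1) (hq : q = p ^ r) (hN : N = n + 2)
    (π₁ β : Ω) (hπ₁F : π₁ ∈ F) (hβF : β ∈ F) (hβW : β ∈ W)
    (hrel : π₁ ^ q = algebraMap L Ω (algebraMap A L π) +
      algebraMap L Ω (algebraMap A L π) ^ N * β)
    (hperf : ∀ a : A, ∃ c a' : A, a = c ^ q + π * a') :
    ∃ c' ∈ F, (algebraMap L Ω ξ - (c' ^ p - c')) ∈ F ∧
      W.valuation ((algebraMap L Ω ξ - (c' ^ p - c')) * π₁ ^ (p ^ (n + 1) * t₀.1) -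
        algebraMap L Ω (algebraMap B L t₀.2.2)) < 1 := by
  haveI : CharP Ω p := charP_of_injective_algebraMap (algebraMap L Ω).injective p
  obtain ⟨ϖ, hϖdef⟩ : ∃ ϖ : Ω, ϖ = algebraMap L Ω (algebraMap A L π) := ⟨_, rfl⟩
  rw [← hϖdef] at hϖ1 hrel
  have hϖ0' : ϖ ≠ 0 := by
    rw [hϖdef]
    intro h0
    exact hϖ0 ((algebraMap L Ω).injective (h0.trans (map_zero _).symm))
  have hϖF : ϖ ∈ F := by rw [hϖdef]; exact F.algebraMap_mem _
  have hN2 : 2 ≤ N := by omega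
  have hq0 : 0 < q := by rw [hq]; exact pow_pos hp.out.pos r
  obtain ⟨hπ₁0, hπ₁1, -, -⟩ := pi1_facts W ϖ π₁ β q N hϖ1 hϖ0' hβW hN2 hrel hq0
  have hπ₁W : π₁ ∈ W := (W.valuation_le_one_iff _).mp hπ₁1.le
  obtain ⟨j₀, h₀, m₀⟩ := t₀
  simp only at hr hlt ⊢
  have hj₀ : 1 ≤ j₀ ∧ j₀ ≤ n := hprop (j₀, h₀, m₀) (by simp)
  obtain ⟨m', hm'def⟩ : ∃ m', m' = p ^ (n + 1) * j₀ := ⟨_, rfl⟩
  have hpn : n < p ^ (n + 1) := by
    calc n < 2 ^ (n + 1) := by
          calc n < n + 1 := Nat.lt_succ_self n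
            _ < 2 ^ (n + 1) := Nat.lt_two_pow_self
      _ ≤ p ^ (n + 1) := Nat.pow_le_pow_left hp.out.two_le _
  have hm'n : n + 1 ≤ m' := by
    rw [hm'def]
    calc n + 1 ≤ p ^ (n + 1) := hpn
      _ = p ^ (n + 1) * 1 := (mul_one _).symm
      _ ≤ p ^ (n + 1) * j₀ := Nat.mul_le_mul_left _ hj₀.1
  have hAF : ∀ a : A, algebraMap L Ω (algebraMap A L a) ∈ F := fun a => F.algebraMap_mem _
  have hBF : ∀ b : B, algebraMap L Ω (algebraMap B L b) ∈ F := fun b => F.algebraMap_mem _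
  have hAW : ∀ a : A, algebraMap L Ω (algebraMap A L a) ∈ W := fun a => by
    rw [IsScalarTower.algebraMap_apply A B L]; exact hWB _
  -- the subgroup `H`
  obtain ⟨H, hHdef⟩ : ∃ H : AddSubgroup Ω, H = asGrp p F ⊔ polGrp F W π₁ (m' - 1) := ⟨_, rfl⟩
  have hH0 : asGrp p F ⊔ polGrp F W π₁ 0 ≤ H := by
    rw [hHdef]; exact sup_le_sup_left (polGrp_mono F W π₁ hπ₁W (Nat.zero_le _)) _
  have hHn : asGrp p F ⊔ polGrp F W π₁ n ≤ H := by
    rw [hHdef]; exact sup_le_sup_left (polGrp_mono F W π₁ hπ₁W (by omega)) _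
  have hHas : asGrp p F ≤ H := by rw [hHdef]; exact le_sup_left
  have hHpol : ∀ k, k ≤ m' - 1 → polGrp F W π₁ k ≤ H := fun k hk => by
    rw [hHdef]; exact le_trans (polGrp_mono F W π₁ hπ₁W hk) le_sup_right
  have hterm : ∀ t : ℕ × ℕ × B, algebraMap L Ω (term L p π t) =
      (algebraMap L Ω (algebraMap B L t.2.2)) ^ (p ^ t.2.1) / ϖ ^ t.1 := by
    intro t
    unfold term
    rw [map_div₀, map_pow, map_pow, hϖdef]
  -- (1)
  have h1 : algebraMap L Ω (c ^ p - c) ∈ H := by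
    rw [map_sub, map_pow]
    exact hHas (pow_sub_mem_asGrp p F (F.algebraMap_mem c))
  -- (2)
  have h2 : algebraMap L Ω (algebraMap A L a / (algebraMap A L π) ^ n) ∈ H := by
    rw [map_div₀, map_pow, ← hϖdef]
    exact hHn (alpha_red F W ϖ π₁ β q N hϖF hϖ1 hϖ0' hπ₁F hβF hβW hN2 hrel r hq
      ((algebraMap L Ω).comp (algebraMap A L)) π hϖdef.symm hAF hAW hperf n (by omega) a)
  -- (3)
  have h3 : algebraMap L Ω (term L p π (j₀, h₀, m₀)) -
      algebraMap L Ω (algebraMap B L m₀) / π₁ ^ m' ∈ H := by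
    rw [hterm]
    have := term_red F W ϖ π₁ β q N hϖF hϖ1 hϖ0' hπ₁F hβF hβW hN2 hrel r hq
      (algebraMap L Ω (algebraMap B L m₀)) (hBF m₀) (hWB m₀) j₀ h₀ h₀ (by omega) le_rfl (by omega)
    rw [Nat.sub_self, pow_zero, pow_one] at this
    have hrh : r - h₀ = n + 1 := by omega
    rw [hrh, ← hm'def] at this
    exact hH0 this
  -- (4)
  have h4 : ∀ t ∈ T₁, algebraMap L Ω (term L p π t) ∈ H := by
    intro t ht
    obtain ⟨j, h, m⟩ := t
    have hj : 1 ≤ j ∧ j ≤ n := hprop (j, h, m) (by simp [ht])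
    have hwt := hlt (j, h, m) ht
    simp only at hwt
    rw [hterm]
    simp only
    obtain ⟨s, hsdef⟩ : ∃ s, s = min h r := ⟨_, rfl⟩
    have hsh : s ≤ h := hsdef ▸ min_le_left _ _
    have hsr : s ≤ r := hsdef ▸ min_le_right _ _
    have hred := term_red F W ϖ π₁ β q N hϖF hϖ1 hϖ0' hπ₁F hβF hβW hN2 hrel r hq
      (algebraMap L Ω (algebraMap B L m)) (hBF m) (hWB m) j h s (by omega) hsh hsr
    have hY : (algebraMap L Ω (algebraMap B L m)) ^ (p ^ (h - s)) / π₁ ^ (p ^ (r - s) * j) ∈ H := by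
      apply hHpol (p ^ (r - s) * j) _ (div_pow_mem_polGrp F W π₁ hπ₁F hπ₁0
        (pow_mem (hBF m) _) (W.toSubring.pow_mem (hWB m) _) _)
      -- arithmetic
      have hlt' : p ^ (r - s) * j < m' := by
        rw [hm'def]
        rcases le_or_gt h r with hhr | hhr
        · have hs : s = h := by rw [hsdef]; exact min_eq_left hhr
          rw [hs]
          apply Nat.lt_of_mul_lt_mul_right (a := p ^ h * p ^ h₀)
          have e1 : p ^ (r - h) * j * (p ^ h * p ^ h₀) = p ^ r * (j * p ^ h₀) := by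
            have : p ^ r = p ^ (r - h) * p ^ h := by rw [← pow_add, Nat.sub_add_cancel hhr]
            rw [this]; ring
          have e2 : p ^ (n + 1) * j₀ * (p ^ h * p ^ h₀) = p ^ r * (j₀ * p ^ h) := by
            have : p ^ r = p ^ (n + 1) * p ^ h₀ := by rw [← pow_add, hr]; congr 1; omega
            rw [this]; ring
          rw [e1, e2]
          exact Nat.mul_lt_mul_of_pos_left hwt (pow_pos hp.out.pos r)
        · have hs : s = r := by rw [hsdef]; exact min_eq_right hhr.le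
          rw [hs, Nat.sub_self, pow_zero, one_mul]
          calc j ≤ n := hj.2
            _ < p ^ (n + 1) := hpn
            _ = p ^ (n + 1) * 1 := (mul_one _).symm
            _ ≤ p ^ (n + 1) * j₀ := Nat.mul_le_mul_left _ hj₀.1
      omega
    have := add_mem (hH0 hred) hY
    rwa [sub_add_cancel] at this
  have h4' : algebraMap L Ω (tsum L p π T₁) ∈ H := by
    unfold tsum
    rw [map_list_sum]
    apply AddSubgroup.list_sum_mem
    intro x hx
    rw [List.mem_map] at hx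
    obtain ⟨y, hy, rfl⟩ := hx
    rw [List.mem_map] at hy
    obtain ⟨t, ht, rfl⟩ := hy
    exact h4 t ht
  -- (5)
  have h5 : algebraMap L Ω (algebraMap B L b) ∈ H :=
    hHpol 0 (Nat.zero_le _) (int_mem_polGrp F W π₁ hπ₁W (hBF b) (hWB b) 0)
  have key : algebraMap L Ω ξ - algebraMap L Ω (algebraMap B L m₀) / π₁ ^ m' ∈ H := by
    have e : algebraMap L Ω ξ - algebraMap L Ω (algebraMap B L m₀) / π₁ ^ m' =
        algebraMap L Ω (c ^ p - c) + algebraMap L Ω (algebraMap A L a / (algebraMap A L π) ^ n) +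
          (algebraMap L Ω (term L p π (j₀, h₀, m₀)) -
            algebraMap L Ω (algebraMap B L m₀) / π₁ ^ m') +
          algebraMap L Ω (tsum L p π T₁) + algebraMap L Ω (algebraMap B L b) := by
      rw [hξ, map_add, map_add, map_add, map_add]; ring
    rw [e]
    exact add_mem (add_mem (add_mem (add_mem h1 h2) h3) h4') h5
  rw [hHdef, AddSubgroup.mem_sup] at key
  obtain ⟨y, hy, g, hg, hyg⟩ := key
  obtain ⟨c', hc'F, rfl⟩ := (mem_asGrp p F).mp hy
  have hξ₁ : algebraMap L Ω ξ - (c' ^ p - c') =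
      algebraMap L Ω (algebraMap B L m₀) / π₁ ^ m' + g := by
    linear_combination -hyg
  refine ⟨c', hc'F, ?_, ?_⟩
  · rw [hξ₁]
    exact add_mem (div_mem (hBF m₀) (pow_mem hπ₁F _)) hg.1
  · rw [hξ₁, ← hm'def]
    have e : (algebraMap L Ω (algebraMap B L m₀) / π₁ ^ m' + g) * π₁ ^ m' -
        algebraMap L Ω (algebraMap B L m₀) = g * π₁ ^ (m' - 1) * π₁ := by
      have : π₁ ^ m' = π₁ ^ (m' - 1) * π₁ := by
        rw [← pow_succ, Nat.sub_add_cancel (by omega)]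
      rw [add_mul, div_mul_cancel₀ _ (pow_ne_zero _ hπ₁0), this]; ring
    rw [e, map_mul]
    have h6 : W.valuation (g * π₁ ^ (m' - 1)) ≤ 1 := (W.valuation_le_one_iff _).mpr hg.2
    calc W.valuation (g * π₁ ^ (m' - 1)) * W.valuation π₁ ≤ 1 * W.valuation π₁ :=
          mul_le_mul_left h6 _
      _ < 1 := by rw [one_mul]; exact hπ₁1

end assemble

end Groth.Agent.Lib.EppH8
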