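import Mathlib
import Groth.Prelude.Def_EtRam
import Groth.Agent.Lib.Epp9_helper8
import Groth.Agent.Lib.Epp12_helper8
import Groth.Agent.Lib.EisExt2_helper8
import Groth.Agent.S7157

/-!
# Case II: a coefficient outside the residue field of `A` (helper8)
-/

set_option autoImplicit false
universe u

namespace Groth.Agent.Lib.EppH8

open IsLocalRing IntermediateField Groth.Agent.Lib.ASExtH8 Groth.Agent.Lib.ASDvrH8

section caseII

variable {p : ℕ} [hp : Fact p.Prime] {A B C K L M : Type u}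
  [CommRing A] [IsDomain A] [IsDiscreteValuationRing A]
  [CommRing B] [IsDomain B] [IsDiscreteValuationRing B]
  [CommRing C] [IsLocalRing C]
  [Algebra A B] [Algebra B C] [IsLocalHom (algebraMap A B)] [IsLocalHom (algebraMap B C)]
  [Field K] [Field L] [Field M] [Algebra A K] [IsFractionRing A K] [Algebra B L] [IsFractionRing B L]
  [Algebra C M] [Algebra K L] [Algebra L M] [Algebra K M] [IsScalarTower K L M]
  [Algebra A L] [IsScalarTower A K L] [IsScalarTower A B L] [Algebra B M] [IsScalarTower B L M]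
  [IsScalarTower B C M] [CharP K p]

set_option maxHeartbeats 1600000 in
theorem caseII (π : A) (hπ : maximalIdeal A = Ideal.span {π})
    (hπB : maximalIdeal B = Ideal.span {algebraMap A B π})
    (z : M) (ξ : L) (hz : z ^ p - z = algebraMap L M ξ)
    (hgenM : IntermediateField.adjoin L {z} = ⊤)
    (hperf : ∀ (r : ℕ) (a : A), ∃ c a' : A, a = c ^ (p ^ r) + π * a')
    (n : ℕ) (t₀ : ℕ × ℕ × B) (T₁ : List (ℕ × ℕ × B)) (hprop : Proper p n (t₀ :: T₁))
    (hlt : ∀ t ∈ T₁, t.1 * p ^ t₀.2.1 < t₀.1 * p ^ t.2.1)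
    (c : L) (a : A) (b : B)
    (hξ : ξ = (c ^ p - c) + algebraMap A L a / (algebraMap A L π) ^ n + term L p π t₀ +
      tsum L p π T₁ + algebraMap B L b) :
    ∃ (K₁ : Type u) (_ : Field K₁) (_ : Algebra K K₁), FiniteDimensional K K₁ ∧
      Algebra.IsSeparable K K₁ ∧
      EtRam.IsTotallyRamified A ((algebraMap K K₁).comp (algebraMap A K)) ∧
      EtRam.IsWeakSolution C K M K₁ := by
  haveI : CharP L p := charP_top p K
  haveI : CharP (ResidueField A) p := charP_residue p (A := A) (K := K)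
  obtain ⟨r, hrdef⟩ : ∃ r, r = t₀.2.1 + n + 1 := ⟨_, rfl⟩
  obtain ⟨q, hqdef⟩ : ∃ q, q = p ^ r := ⟨_, rfl⟩
  obtain ⟨N, hNdef⟩ : ∃ N, N = n + 2 := ⟨_, rfl⟩
  obtain ⟨K₁, fK₁, aKK₁, aAK₁, tAKK₁, hfinrank, hsep, htot, π₁, bb, bb', hπ₁int, hbbint, -, hrel, -⟩ :=
    Groth.Agent.S7157.result p hp.out A K π hπ N (by omega) r
  have hq0 : 0 < q := by rw [hqdef]; exact pow_pos hp.out.pos r
  haveI : FiniteDimensional K K₁ :=
    Module.finite_of_finrank_pos (by rw [hfinrank]; exact pow_pos hp.out.pos r)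
  refine ⟨K₁, fK₁, aKK₁, inferInstance, hsep, ?_, ?_⟩
  · rw [← IsScalarTower.algebraMap_eq]; exact htot
  have hπ0 : algebraMap A L π ≠ 0 := by
    intro h0
    exact TotRamCritH8.pi_ne_zero π hπ
      (TotRamCritH8.algebraMap_injective' A K L (h0.trans (map_zero _).symm))
  refine solution_of_data (p := p) (K := K) (algebraMap A B π) hπB z ξ hz hgenM K₁ q hq0
    (by rw [hfinrank, hqdef]) π₁ ?_
  intro Ω _ _ _ _ _ _ _ _ W hW
  have hchain : ∀ x : A, algebraMap K₁ Ω (algebraMap A K₁ x) = algebraMap L Ω (algebraMap A L x) := by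
    intro x
    rw [IsScalarTower.algebraMap_apply A K K₁, ← IsScalarTower.algebraMap_apply K K₁ Ω,
      IsScalarTower.algebraMap_apply K L Ω, ← IsScalarTower.algebraMap_apply A K L]
  have hAB : ∀ x : A, algebraMap L Ω (algebraMap A L x) = algebraMap B Ω (algebraMap A B x) := by
    intro x
    rw [IsScalarTower.algebraMap_apply A B L, ← IsScalarTower.algebraMap_apply B L Ω]
  have hWB : ∀ y : B, algebraMap L Ω (algebraMap B L y) ∈ W := by
    intro y
    rw [← IsScalarTower.algebraMap_apply B L Ω]; exact hW.1 y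
  have hϖ1 : W.valuation (algebraMap L Ω (algebraMap A L π)) < 1 := by
    rw [hAB]
    exact hW.2 _ (by rw [hπB]; exact Ideal.mem_span_singleton_self _)
  have hϖ0Ω : algebraMap L Ω (algebraMap A L π) ≠ 0 := by
    intro h0
    exact hπ0 ((algebraMap L Ω).injective (h0.trans (map_zero _).symm))
  -- `β ∈ W`
  have hβW : algebraMap K₁ Ω bb ∈ W := by
    apply EisExtH8.mem_of_isIntegral_of_dominates (A := B) W hW
    obtain ⟨P, hPm, hP0⟩ := hbbint
    refine ⟨P.map (algebraMap A B), hPm.map _, ?_⟩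
    rw [Polynomial.eval₂_map]
    have h1 : (algebraMap B Ω).comp (algebraMap A B) =
        (algebraMap K₁ Ω).comp (algebraMap A K₁) := by
      ext x
      simp only [RingHom.comp_apply]
      rw [hchain, hAB]
    rw [h1, ← Polynomial.hom_eval₂, hP0, map_zero]
  have hrelΩ : (algebraMap K₁ Ω π₁) ^ q = algebraMap L Ω (algebraMap A L π) +
      algebraMap L Ω (algebraMap A L π) ^ N * algebraMap K₁ Ω bb := by
    rw [← hchain, ← map_pow, ← map_pow, ← map_mul, ← map_add, hqdef, hrel]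
  constructor
  · obtain ⟨-, -, hu, hrel'⟩ := pi1_facts W _ _ _ q N hϖ1 hϖ0Ω hβW (by omega) hrelΩ hq0
    rw [hrel', map_mul, hu, mul_one, hAB]
  · intro F hF
    obtain ⟨c', hc'F, hξ₁F, hval⟩ := phase2_main (p := p) F W hWB π hϖ1 hπ0 n t₀ T₁
      (fun t ht => ⟨(hprop t ht).1, (hprop t ht).2.1⟩) hlt ξ c a b hξ r q N hrdef hqdef hNdef
      (algebraMap K₁ Ω π₁) (algebraMap K₁ Ω bb) (hF _) (hF _) hβW hrelΩ (hperf r |> fun h => by
        rw [hqdef]; exact h)
    refine ⟨c', hc'F, hξ₁F, Or.inr ⟨p ^ (n + 1) * t₀.1, t₀.2.2, ?_, ?_, ?_, ?_⟩⟩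
    · exact Nat.mul_pos (pow_pos hp.out.pos _) (hprop t₀ (by simp)).1
    · exact Dvd.dvd.mul_right (dvd_pow_self p (by omega)) _
    · exact (hprop t₀ (by simp)).2.2
    · rw [IsScalarTower.algebraMap_apply B L Ω]
      exact hval

end caseII

end Groth.Agent.Lib.EppH8
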