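import Mathlib
import Groth.Prelude.Def_EtRam
import Groth.Agent.Lib.Epp14_helper8
import Groth.Agent.Lib.Epp13_helper8

/-!
# Case I: all polar coefficients come from `A` (helper8)
-/

set_option autoImplicit false
universe u

namespace Groth.Agent.Lib.EppH8

open IsLocalRing IntermediateField Groth.Agent.Lib.ASExtH8 Groth.Agent.Lib.ASDvrH8

section caseI

variable {p : ℕ} [hp : Fact p.Prime] {A B C K L M : Type u}
  [CommRing A] [IsDomain A] [IsDiscreteValuationRing A]
  [CommRing B] [IsDomain B] [IsDiscreteValuationRing B]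
  [CommRing C] [IsLocalRing C]
  [Algebra A B] [Algebra B C] [IsLocalHom (algebraMap A B)] [IsLocalHom (algebraMap B C)]
  [Field K] [Field L] [Field M] [Algebra A K] [IsFractionRing A K] [Algebra B L] [IsFractionRing B L]
  [Algebra C M] [Algebra K L] [Algebra L M] [Algebra K M] [IsScalarTower K L M]
  [Algebra A L] [IsScalarTower A K L] [IsScalarTower A B L] [Algebra B M] [IsScalarTower B L M]
  [IsScalarTower B C M] [CharP K p]

set_option maxHeartbeats 1600000 in
/-- Case I-a: `ξ` is integral modulo `℘(L)`. -/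
theorem caseIa (π : A) (hπ : maximalIdeal A = Ideal.span {π})
    (hπB : maximalIdeal B = Ideal.span {algebraMap A B π})
    (z : M) (ξ : L) (hz : z ^ p - z = algebraMap L M ξ)
    (hgenM : IntermediateField.adjoin L {z} = ⊤)
    (c : L) (b : B) (hξ : ξ = (c ^ p - c) + algebraMap B L b) :
    ∃ (K₁ : Type u) (_ : Field K₁) (_ : Algebra K K₁), FiniteDimensional K K₁ ∧
      Algebra.IsSeparable K K₁ ∧
      EtRam.IsTotallyRamified A ((algebraMap K K₁).comp (algebraMap A K)) ∧
      EtRam.IsWeakSolution C K M K₁ := by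
  haveI : CharP L p := charP_top p K
  haveI : CharP (ResidueField A) p := charP_residue p (A := A) (K := K)
  obtain ⟨K₁, fK₁, aKK₁, aAK₁, tAKK₁, hfinrank, hsep, htot, π₁, bb, bb', hπ₁int, hbbint, -, hrel, -⟩ :=
    Groth.Agent.S7157.result p hp.out A K π hπ 2 (by omega) 1
  rw [pow_one] at hfinrank hrel
  haveI : FiniteDimensional K K₁ :=
    Module.finite_of_finrank_pos (by rw [hfinrank]; exact hp.out.pos)
  refine ⟨K₁, fK₁, aKK₁, inferInstance, hsep, ?_, ?_⟩
  · rw [← IsScalarTower.algebraMap_eq]; exact htot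
  have hπ0 : algebraMap A L π ≠ 0 := by
    intro h0
    exact TotRamCritH8.pi_ne_zero π hπ
      (TotRamCritH8.algebraMap_injective' A K L (h0.trans (map_zero _).symm))
  refine solution_of_data (p := p) (K := K) (algebraMap A B π) hπB z ξ hz hgenM K₁ p hp.out.pos
    (by rw [hfinrank]) π₁ ?_
  intro Ω _ _ _ _ _ _ _ _ W hW
  haveI : CharP Ω p := charP_of_injective_algebraMap (algebraMap L Ω).injective p
  have hchain : ∀ x : A, algebraMap K₁ Ω (algebraMap A K₁ x) = algebraMap L Ω (algebraMap A L x) := by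
    intro x
    rw [IsScalarTower.algebraMap_apply A K K₁, ← IsScalarTower.algebraMap_apply K K₁ Ω,
      IsScalarTower.algebraMap_apply K L Ω, ← IsScalarTower.algebraMap_apply A K L]
  have hAB : ∀ x : A, algebraMap L Ω (algebraMap A L x) = algebraMap B Ω (algebraMap A B x) := by
    intro x
    rw [IsScalarTower.algebraMap_apply A B L, ← IsScalarTower.algebraMap_apply B L Ω]
  have hϖ1 : W.valuation (algebraMap L Ω (algebraMap A L π)) < 1 := by
    rw [hAB]
    exact hW.2 _ (by rw [hπB]; exact Ideal.mem_span_singleton_self _)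
  have hϖ0Ω : algebraMap L Ω (algebraMap A L π) ≠ 0 := by
    intro h0
    exact hπ0 ((algebraMap L Ω).injective (h0.trans (map_zero _).symm))
  have hβW : algebraMap K₁ Ω bb ∈ W := by
    apply EisExtH8.mem_of_isIntegral_of_dominates (A := B) W hW
    obtain ⟨P, hPm, hP0⟩ := hbbint
    refine ⟨P.map (algebraMap A B), hPm.map _, ?_⟩
    rw [Polynomial.eval₂_map]
    have h1 : (algebraMap B Ω).comp (algebraMap A B) =
        (algebraMap K₁ Ω).comp (algebraMap A K₁) := by
      ext x
      simp only [RingHom.comp_apply]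
      rw [hchain, hAB]
    rw [h1, ← Polynomial.hom_eval₂, hP0, map_zero]
  have hrelΩ : (algebraMap K₁ Ω π₁) ^ p = algebraMap L Ω (algebraMap A L π) +
      algebraMap L Ω (algebraMap A L π) ^ 2 * algebraMap K₁ Ω bb := by
    rw [← hchain, ← map_pow, ← map_pow, ← map_mul, ← map_add, hrel]
  constructor
  · obtain ⟨-, -, hu, hrel'⟩ := pi1_facts W _ _ _ p 2 hϖ1 hϖ0Ω hβW (by omega) hrelΩ hp.out.pos
    rw [hrel', map_mul, hu, mul_one, hAB]
  · intro F hF
    refine ⟨algebraMap L Ω c, F.algebraMap_mem c, ?_, Or.inl ?_⟩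
    · have e : algebraMap L Ω ξ - ((algebraMap L Ω c) ^ p - algebraMap L Ω c) =
          algebraMap L Ω (algebraMap B L b) := by
        rw [hξ, map_add, map_sub, map_pow]; ring
      rw [e]; exact F.algebraMap_mem _
    · have e : algebraMap L Ω ξ - ((algebraMap L Ω c) ^ p - algebraMap L Ω c) =
          algebraMap B Ω b := by
        rw [hξ, map_add, map_sub, map_pow, IsScalarTower.algebraMap_apply B L Ω]; ring
      rw [e]; exact hW.1 b

set_option maxHeartbeats 1600000 in
/-- Case I-b: `ξ ≡ α'` modulo `℘(L) + B` with `α' ∈ K` having a pole of order prime to `p`. -/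
theorem caseIb (π : A) (hπ : maximalIdeal A = Ideal.span {π})
    (hπB : maximalIdeal B = Ideal.span {algebraMap A B π})
    (z : M) (ξ : L) (hz : z ^ p - z = algebraMap L M ξ)
    (hgenM : IntermediateField.adjoin L {z} = ⊤)
    (c : L) (b : B) (α' : K) (hξ : ξ = (c ^ p - c) + algebraMap K L α' + algebraMap B L b)
    (m : ℕ) (u : Aˣ) (hm : 0 < m) (hpm : ¬ p ∣ m)
    (hα' : α' * (algebraMap A K π) ^ m = algebraMap A K u) :
    ∃ (K₁ : Type u) (_ : Field K₁) (_ : Algebra K K₁), FiniteDimensional K K₁ ∧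
      Algebra.IsSeparable K K₁ ∧
      EtRam.IsTotallyRamified A ((algebraMap K K₁).comp (algebraMap A K)) ∧
      EtRam.IsWeakSolution C K M K₁ := by
  haveI : CharP L p := charP_top p K
  obtain ⟨K₁, fK₁, aKK₁, w, hw, hgenw⟩ := exists_as_ext (p := p) α'
  haveI : CharP K₁ p := charP_top p K
  letI aAK₁ : Algebra A K₁ := ((algebraMap K K₁).comp (algebraMap A K)).toAlgebra
  haveI : IsScalarTower A K K₁ := IsScalarTower.of_algebraMap_eq (fun _ => rfl)
  obtain ⟨htot, hfinrank⟩ := caseB (p := p) π hπ α' w hw hgenw m u hm hpm hα'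
  haveI : FiniteDimensional K K₁ := finiteDimensional_of_as α' w hw hgenw
  haveI : IsGalois K K₁ := isGalois_of_as α' w hw hgenw
  have hcop : Nat.Coprime m p := ((Nat.Prime.coprime_iff_not_dvd hp.out).mpr hpm).symm
  obtain ⟨u', -, hu'⟩ := Nat.exists_mul_mod_eq_one_of_coprime hcop hp.out.one_lt
  obtain ⟨v', hv'⟩ : ∃ v', m * u' = p * v' + 1 := ⟨m * u' / p, by
    have := Nat.div_add_mod (m * u') p; omega⟩
  refine ⟨K₁, fK₁, aKK₁, inferInstance, inferInstance, htot, ?_⟩
  refine solution_of_data (p := p) (K := K) (algebraMap A B π) hπB z ξ hz hgenM K₁ p hp.out.pos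
    (by rw [hfinrank]) ((w ^ u')⁻¹ * ((algebraMap K K₁ (algebraMap A K π)) ^ v')⁻¹) ?_
  intro Ω _ _ _ _ _ _ _ _ W hW
  haveI : CharP Ω p := charP_of_injective_algebraMap (algebraMap L Ω).injective p
  have hKΩ : ∀ x : K, algebraMap K₁ Ω (algebraMap K K₁ x) = algebraMap L Ω (algebraMap K L x) := by
    intro x
    rw [← IsScalarTower.algebraMap_apply K K₁ Ω, IsScalarTower.algebraMap_apply K L Ω]
  have hKA : ∀ x : A, algebraMap K L (algebraMap A K x) = algebraMap B L (algebraMap A B x) := by
    intro x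
    rw [← IsScalarTower.algebraMap_apply A K L, IsScalarTower.algebraMap_apply A B L]
  have hzΩ : (algebraMap K₁ Ω w) ^ p - algebraMap K₁ Ω w = algebraMap L Ω (algebraMap K L α') := by
    rw [← map_pow, ← map_sub, hw, hKΩ]
  have hξB : algebraMap K L α' * algebraMap B L (algebraMap A B π) ^ m =
      algebraMap B L ((Units.map (algebraMap A B).toMonoidHom u : Bˣ) : B) := by
    have := congrArg (algebraMap K L) hα'
    rw [map_mul, map_pow, hKA, hKA] at this
    exact this
  have hval := val_as_unif (p := p) (A := B) (K := L) (L := Ω) (algebraMap A B π) hπB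
    (algebraMap K L α') (algebraMap K₁ Ω w) hzΩ m (Units.map (algebraMap A B).toMonoidHom u) hm
    hξB u' v' hv' W hW
  have ht : algebraMap K₁ Ω ((w ^ u')⁻¹ * ((algebraMap K K₁ (algebraMap A K π)) ^ v')⁻¹) =
      ((algebraMap K₁ Ω w) ^ u')⁻¹ * (algebraMap B Ω (algebraMap A B π) ^ v')⁻¹ := by
    rw [map_mul, map_inv₀, map_inv₀, map_pow, map_pow, hKΩ, hKA,
      ← IsScalarTower.algebraMap_apply B L Ω]
  constructor
  · rw [ht]; exact hval
  · intro F hF
    have hc'F : algebraMap L Ω c + algebraMap K₁ Ω w ∈ F := add_mem (F.algebraMap_mem c) (hF w)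
    have e : algebraMap L Ω ξ -
        ((algebraMap L Ω c + algebraMap K₁ Ω w) ^ p - (algebraMap L Ω c + algebraMap K₁ Ω w)) =
          algebraMap L Ω (algebraMap B L b) := by
      rw [add_pow_char, hξ, map_add, map_add, map_sub, map_pow]
      linear_combination -hzΩ
    refine ⟨_, hc'F, ?_, Or.inl ?_⟩
    · rw [e]; exact F.algebraMap_mem _
    · rw [e, ← IsScalarTower.algebraMap_apply B L Ω]; exact hW.1 b

end caseI

end Groth.Agent.Lib.EppH8
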