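import Mathlib

/-!
# Artin–Schreier generators for Galois extensions of degree `p` in characteristic `p` (helper8)
-/

set_option autoImplicit false
universe u

namespace Groth.Agent.Lib.EppH8

open Polynomial

/-- A nonzero nilpotent endomorphism has a vector `x` with `N x ≠ 0` and `N (N x) = 0`. -/
theorem exists_ker_sq {R M : Type*} [CommRing R] [AddCommGroup M] [Module R M]
    (N : Module.End R M) (hN : N ≠ 0) (k : ℕ) (hk : N ^ k = 0) :
    ∃ x : M, N x ≠ 0 ∧ N (N x) = 0 := by
  classical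
  have hex : ∃ n, N ^ n = 0 := ⟨k, hk⟩
  obtain ⟨n, hn⟩ : ∃ n, n = Nat.find hex := ⟨_, rfl⟩
  have hn0 : N ^ n = 0 := hn ▸ Nat.find_spec hex
  have hn1 : n ≠ 0 := by
    rintro rfl
    rw [pow_zero] at hn0
    apply hN
    rw [← mul_one N, hn0, mul_zero]
  have hn2 : n ≠ 1 := by
    rintro rfl
    rw [pow_one] at hn0
    exact hN hn0
  obtain ⟨j, rfl⟩ : ∃ j, n = j + 2 := ⟨n - 2, by omega⟩
  have hj : N ^ (j + 1) ≠ 0 := by
    intro h0
    have := Nat.find_min' hex h0
    omega
  obtain ⟨y, hy⟩ : ∃ y, (N ^ (j + 1)) y ≠ 0 := by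
    by_contra hcon
    push Not at hcon
    exact hj (LinearMap.ext hcon)
  refine ⟨(N ^ j) y, ?_, ?_⟩
  · rw [← Module.End.mul_apply, ← pow_succ']
    exact hy
  · rw [← Module.End.mul_apply, ← Module.End.mul_apply, mul_assoc, ← pow_succ', ← pow_succ', hn0]
    rfl

variable {p : ℕ} [hp : Fact p.Prime] {L M : Type*} [Field L] [Field M] [Algebra L M]

/-- **Artin–Schreier**: a Galois extension of degree `p` in characteristic `p` is generated by a
root of `z ^ p - z = ξ`. -/
theorem exists_as_generator [CharP L p] [IsGalois L M] (hdeg : Module.finrank L M = p) :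
    ∃ z : M, (∃ ξ : L, z ^ p - z = algebraMap L M ξ) ∧ IntermediateField.adjoin L {z} = ⊤ := by
  classical
  haveI : FiniteDimensional L M := Module.finite_of_finrank_pos (by rw [hdeg]; exact hp.out.pos)
  haveI : CharP M p := charP_of_injective_algebraMap (algebraMap L M).injective p
  have hcard : Nat.card (M ≃ₐ[L] M) = p := by rw [IsGalois.card_aut_eq_finrank, hdeg]
  haveI : Finite (M ≃ₐ[L] M) := Nat.finite_of_card_ne_zero (hcard ▸ hp.out.ne_zero)
  haveI : Nontrivial (M ≃ₐ[L] M) := Finite.one_lt_card_iff_nontrivial.mp (hcard ▸ hp.out.one_lt)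
  obtain ⟨σ, hσ⟩ : ∃ σ : M ≃ₐ[L] M, σ ≠ 1 := exists_ne 1
  have hσp : σ ^ p = 1 := by
    rw [← hcard]; exact pow_card_eq_one'
  have hgenσ : ∀ τ : M ≃ₐ[L] M, τ ∈ Subgroup.zpowers σ := fun τ =>
    mem_zpowers_of_prime_card hcard hσ
  -- the nilpotent operator `σ - 1`
  haveI : CharP (Module.End L M) p :=
    charP_of_injective_algebraMap (algebraMap L (Module.End L M)).injective p
  obtain ⟨N, hNdef⟩ : ∃ N : Module.End L M, N = σ.toLinearMap - 1 := ⟨_, rfl⟩
  have hNapp : ∀ x, N x = σ x - x := by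
    intro x; rw [hNdef]; rfl
  have hpow : ∀ k : ℕ, ∀ x, ((σ.toLinearMap : Module.End L M) ^ k) x = (σ ^ k) x := by
    intro k
    induction k with
    | zero => intro x; rfl
    | succ k ih =>
      intro x
      rw [pow_succ, Module.End.mul_apply, ih, pow_succ]
      rfl
  have hNp : N ^ p = 0 := by
    rw [hNdef, sub_pow_char_of_commute _ (Commute.one_right _), one_pow]
    ext x
    rw [LinearMap.sub_apply, hpow, hσp]
    simp
  have hN0 : N ≠ 0 := by
    intro h0
    apply hσ
    ext x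
    have := hNapp x
    rw [h0, LinearMap.zero_apply] at this
    rw [AlgEquiv.one_apply]
    exact (sub_eq_zero.mp this.symm)
  obtain ⟨x, hx1, hx2⟩ := exists_ker_sq N hN0 p hNp
  obtain ⟨a, hadef⟩ : ∃ a, a = N x := ⟨_, rfl⟩
  rw [← hadef] at hx1 hx2
  have hσa : σ a = a := by
    have := hNapp a
    rw [hx2] at this
    exact (sub_eq_zero.mp this.symm)
  have hσx : σ x = x + a := by
    have := hNapp x
    rw [← hadef] at this
    rw [this]; ring
  have hfix : ∀ y : M, σ y = y → ∀ τ : M ≃ₐ[L] M, τ y = y := by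
    intro y hy τ
    obtain ⟨k, rfl⟩ := Subgroup.mem_zpowers_iff.mp (hgenσ τ)
    have h1 : ∀ n : ℕ, (σ ^ n) y = y := by
      intro n
      induction n with
      | zero => rfl
      | succ n ih => rw [pow_succ, AlgEquiv.mul_apply, hy, ih]
    cases k with
    | ofNat n => exact h1 n
    | negSucc n =>
      rw [zpow_negSucc]
      have h2 := h1 (n + 1)
      calc (σ ^ (n + 1))⁻¹ y = (σ ^ (n + 1))⁻¹ ((σ ^ (n + 1)) y) := by rw [h2]
        _ = y := by rw [← AlgEquiv.mul_apply, inv_mul_cancel]; rfl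
  obtain ⟨z, hzdef⟩ : ∃ z, z = x / a := ⟨_, rfl⟩
  have hσz : σ z = z + 1 := by
    rw [hzdef, map_div₀, hσx, hσa, add_div, div_self hx1]
  have hσξ : σ (z ^ p - z) = z ^ p - z := by
    rw [map_sub, map_pow, hσz, add_pow_char, one_pow]; ring
  have hξ : z ^ p - z ∈ Set.range (algebraMap L M) :=
    (IsGalois.mem_range_algebraMap_iff_fixed _).mpr (hfix _ hσξ)
  obtain ⟨ξ, hξ⟩ := hξ
  refine ⟨z, ⟨ξ, hξ.symm⟩, ?_⟩
  -- `L(z)` has degree dividing `p` and is not `L`
  have hdvd : Module.finrank L (IntermediateField.adjoin L {z}) ∣ p := by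
    rw [← hdeg]
    exact IntermediateField.finrank_dvd_of_le_right le_top |>.trans (by
      rw [IntermediateField.finrank_top']) 
  rcases (Nat.dvd_prime hp.out).mp hdvd with h1 | h1
  · exfalso
    rw [IntermediateField.finrank_eq_one_iff] at h1
    have hz : z ∈ (⊥ : IntermediateField L M) := by
      rw [← h1]; exact IntermediateField.mem_adjoin_simple_self L z
    rw [IntermediateField.mem_bot] at hz
    obtain ⟨c, rfl⟩ := hz
    rw [AlgEquiv.commutes] at hσz
    have : (1 : M) = 0 := by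
      have h2 := hσz
      nth_rewrite 1 [← add_zero (algebraMap L M c)] at h2
      exact (add_left_cancel h2).symm
    exact one_ne_zero this
  · apply IntermediateField.eq_of_le_of_finrank_eq le_top
    rw [h1, IntermediateField.finrank_top', hdeg]

end Groth.Agent.Lib.EppH8
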