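import Mathlib
import Groth.Agent.Lib.Epp4_helper8

/-!
# Phase 1: top-heavy normal form (helper8)
-/

set_option autoImplicit false
universe u

namespace Groth.Agent.Lib.EppH8

open IsLocalRing

section nf

variable {p : ℕ} [hp : Fact p.Prime] {A B : Type u} [CommRing A] [IsLocalRing A] [CommRing B]
  [IsLocalRing B] [Algebra A B] [IsLocalHom (algebraMap A B)]
  {L : Type u} [Field L] [Algebra B L] [CharP L p] [Algebra A L] [IsScalarTower A B L]
  [CharP (ResidueField B) p]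
  (π : A)
  (hπB : maximalIdeal B = Ideal.span {algebraMap A B π}) (hπ0 : algebraMap A L π ≠ 0)
  (hk : ∀ x : ResidueField B, (∀ n : ℕ, ∃ y : ResidueField B, y ^ (p ^ n) = x) ↔
      x ∈ Set.range (algebraMap (ResidueField A) (ResidueField B)))
  (n : ℕ)

/-- the weight `j / p ^ h` of a term -/
noncomputable def wt (p : ℕ) (t : ℕ × ℕ × B) : ℚ := (t.1 : ℚ) / (p : ℚ) ^ t.2.1

omit [IsLocalRing B] in
theorem wt_lt_iff (hp0 : 0 < p) (t t' : ℕ × ℕ × B) :
    wt p t < wt p t' ↔ t.1 * p ^ t'.2.1 < t'.1 * p ^ t.2.1 := by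
  unfold wt
  have h1 : (0 : ℚ) < (p : ℚ) ^ t.2.1 := by positivity
  have h2 : (0 : ℚ) < (p : ℚ) ^ t'.2.1 := by positivity
  rw [div_lt_div_iff₀ h1 h2]
  exact_mod_cast Iff.rfl

omit [IsLocalRing B] in
theorem wt_eq_iff (hp0 : 0 < p) (t t' : ℕ × ℕ × B) :
    wt p t = wt p t' ↔ t.1 * p ^ t'.2.1 = t'.1 * p ^ t.2.1 := by
  unfold wt
  have h1 : ((p : ℚ) ^ t.2.1) ≠ 0 := by positivity
  have h2 : ((p : ℚ) ^ t'.2.1) ≠ 0 := by positivity
  rw [div_eq_div_iff h1 h2]
  exact_mod_cast Iff.rfl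

include hπB hπ0 hk in
/-- **Top-heavy normal form** of a sum of proper terms modulo `℘(L)`, `K` and `B`. -/
theorem exists_nf : ∀ (N : ℕ) (T : List (ℕ × ℕ × B)), meas T ≤ N → Proper p n T →
    ∃ (c : L) (a : A) (b : B),
      (tsum L p π T = (c ^ p - c) + algebraMap A L a / (algebraMap A L π) ^ n +
        algebraMap B L b) ∨
      ∃ (t₀ : ℕ × ℕ × B) (T₁ : List (ℕ × ℕ × B)), Proper p n (t₀ :: T₁) ∧
        (∀ t ∈ T₁, t.1 * p ^ t₀.2.1 < t₀.1 * p ^ t.2.1) ∧
        tsum L p π T = (c ^ p - c) + algebraMap A L a / (algebraMap A L π) ^ n +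
          term L p π t₀ + tsum L p π T₁ + algebraMap B L b := by
  classical
  intro N
  induction N using Nat.strong_induction_on with
  | _ N ih =>
    intro T hN hT
    rcases T.eq_nil_or_concat with rfl | hne
    · exact ⟨0, 0, 0, Or.inl (by simp [zero_pow hp.out.ne_zero])⟩
    have hTne : T.toFinset.Nonempty := by
      obtain ⟨l, x, rfl⟩ := hne
      exact ⟨x, by simp⟩
    obtain ⟨t₀, ht₀, hmax⟩ := T.toFinset.exists_max_image (wt p) hTne
    rw [List.mem_toFinset] at ht₀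
    have hperm0 : T.Perm (t₀ :: T.erase t₀) := List.perm_cons_erase ht₀
    by_cases hall : ∀ t ∈ T.erase t₀, wt p t < wt p t₀
    · refine ⟨0, 0, 0, Or.inr ⟨t₀, T.erase t₀, hT.perm hperm0, fun t ht => ?_, ?_⟩⟩
      · exact (wt_lt_iff hp.out.pos t t₀).mp (hall t ht)
      · rw [tsum_perm π hperm0, tsum_cons]
        simp [zero_pow hp.out.ne_zero]
    · push Not at hall
      obtain ⟨t₁, ht₁, hle⟩ := hall
      have ht₁T : t₁ ∈ T := List.mem_of_mem_erase ht₁
      have heqw : wt p t₁ = wt p t₀ :=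
        le_antisymm (hmax t₁ (List.mem_toFinset.mpr ht₁T)) hle
      have hperm1 : (T.erase t₀).Perm (t₁ :: (T.erase t₀).erase t₁) := List.perm_cons_erase ht₁
      obtain ⟨T₂, hT₂⟩ : ∃ T₂, T₂ = (T.erase t₀).erase t₁ := ⟨_, rfl⟩
      rw [← hT₂] at hperm1
      have hperm : T.Perm (t₀ :: t₁ :: T₂) := hperm0.trans (List.Perm.cons t₀ hperm1)
      have hT' := hT.perm hperm
      have hp0 : 1 ≤ t₀.1 ∧ t₀.1 ≤ n := ⟨(hT' t₀ (by simp)).1, (hT' t₀ (by simp)).2.1⟩
      have hp1 : 1 ≤ t₁.1 ∧ t₁.1 ≤ n := ⟨(hT' t₁ (by simp)).1, (hT' t₁ (by simp)).2.1⟩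
      have hT₂p : Proper p n T₂ := fun t ht => hT' t (by simp [ht])
      have hmeasT : meas T = 2 ^ t₀.1 + (2 ^ t₁.1 + meas T₂) := by
        rw [meas_perm hperm, meas_cons, meas_cons]
      have hsumT : tsum L p π T = term L p π t₀ + (term L p π t₁ + tsum L p π T₂) := by
        rw [tsum_perm π hperm, tsum_cons, tsum_cons]
      -- merge the two terms
      obtain ⟨c₁, a₁, T', b₁, hT'p, hmeas', heq'⟩ : ∃ (c : L) (a : A) (T' : List (ℕ × ℕ × B))
          (b : B), Proper p n T' ∧ meas T' < 2 ^ t₀.1 + 2 ^ t₁.1 ∧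
          term L p π t₀ + term L p π t₁ =
            (c ^ p - c) + algebraMap A L a / (algebraMap A L π) ^ n + tsum L p π T' +
              algebraMap B L b := by
        rcases le_total t₀.1 t₁.1 with hle01 | hle10
        · obtain ⟨c, a, T', b, h1, h2, h3⟩ := merge (L := L) π hπB hπ0 hk n t₀ t₁ hp0.1 hle01 hp0.2
            ((wt_eq_iff hp.out.pos t₀ t₁).mp heqw.symm)
          refine ⟨c, a, T', b, h1.mono hp0.2, ?_, h3⟩
          have h4 : 2 ^ t₀.1 ≤ 2 ^ t₁.1 := Nat.pow_le_pow_right (by norm_num) hle01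
          rw [pow_succ] at h2
          omega
        · obtain ⟨c, a, T', b, h1, h2, h3⟩ := merge (L := L) π hπB hπ0 hk n t₁ t₀ hp1.1 hle10 hp1.2
            ((wt_eq_iff hp.out.pos t₁ t₀).mp heqw)
          refine ⟨c, a, T', b, h1.mono hp1.2, ?_, by rw [add_comm]; exact h3⟩
          have h4 : 2 ^ t₁.1 ≤ 2 ^ t₀.1 := Nat.pow_le_pow_right (by norm_num) hle10
          rw [pow_succ] at h2
          omega
      have hlt : meas (T' ++ T₂) < N := by
        rw [meas_append]; omega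
      obtain ⟨c₂, a₂, b₂, hres⟩ := ih _ hlt (T' ++ T₂) le_rfl (hT'p.append hT₂p)
      have hcc : (c₁ + c₂) ^ p - (c₁ + c₂) = (c₁ ^ p - c₁) + (c₂ ^ p - c₂) := by
        rw [add_pow_char]; ring
      refine ⟨c₁ + c₂, a₁ + a₂, b₁ + b₂, ?_⟩
      rw [tsum_append] at hres
      rcases hres with hres | ⟨s₀, S₁, hS, hlt', hres⟩
      · left
        rw [hsumT, hcc, map_add, map_add, add_div]
        linear_combination heq' + hres
      · right
        refine ⟨s₀, S₁, hS, hlt', ?_⟩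
        rw [hsumT, hcc, map_add, map_add, add_div]
        linear_combination heq' + hres

include hπB hπ0 hk in
/-- Normal form of an element of `L` with pole order at most `n`. -/
theorem exists_nf_of_elem (hn : 1 ≤ n) (ξ : L) (b₀ : B)
    (hξ : ξ * (algebraMap A L π) ^ n = algebraMap B L b₀) :
    ∃ (c : L) (a : A) (b : B),
      (ξ = (c ^ p - c) + algebraMap A L a / (algebraMap A L π) ^ n + algebraMap B L b) ∨
      ∃ (t₀ : ℕ × ℕ × B) (T₁ : List (ℕ × ℕ × B)), Proper p n (t₀ :: T₁) ∧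
        (∀ t ∈ T₁, t.1 * p ^ t₀.2.1 < t₀.1 * p ^ t.2.1) ∧
        ξ = (c ^ p - c) + algebraMap A L a / (algebraMap A L π) ^ n +
          term L p π t₀ + tsum L p π T₁ + algebraMap B L b := by
  obtain ⟨a₁, T, b₁, hT, -, heq⟩ := renorm (L := L) π hπB hπ0 hk n n hn le_rfl b₀ 0
  rw [pow_zero, pow_one] at heq
  have hξ' : ξ = algebraMap B L b₀ / (algebraMap A L π) ^ n := by
    rw [eq_div_iff (pow_ne_zero _ hπ0), hξ]
  obtain ⟨c, a₂, b₂, hres⟩ := exists_nf (L := L) π hπB hπ0 hk n _ T le_rfl hT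
  refine ⟨c, a₁ + a₂, b₁ + b₂, ?_⟩
  rcases hres with hres | ⟨t₀, T₁, hT₁, hlt, hres⟩
  · left
    rw [hξ', heq, hres, map_add, map_add, add_div]; ring
  · right
    refine ⟨t₀, T₁, hT₁, hlt, ?_⟩
    rw [hξ', heq, hres, map_add, map_add, add_div]; ring

end nf

end Groth.Agent.Lib.EppH8
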