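import Mathlib
import Groth.Prelude.Def_EtRam
import Groth.Agent.Lib.Epp1_helper8
import Groth.Agent.Lib.Epp5_helper8
import Groth.Agent.Lib.Epp15_helper8

/-!
# Artin–Schreier step of Epp's theorem: a separable totally ramified weak solution (helper8)
-/

set_option autoImplicit false
universe u

namespace Groth.Agent.Lib.EppH8

open IsLocalRing IntermediateField Groth.Agent.Lib.ASExtH8 Groth.Agent.Lib.ASDvrH8

section main

variable {p : ℕ} [hp : Fact p.Prime] {A B C K L M : Type u}
  [CommRing A] [IsDomain A] [IsDiscreteValuationRing A]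
  [CommRing B] [IsDomain B] [IsDiscreteValuationRing B]
  [CommRing C] [IsLocalRing C]
  [Algebra A B] [Algebra B C] [IsLocalHom (algebraMap A B)] [IsLocalHom (algebraMap B C)]
  [Field K] [Field L] [Field M] [Algebra A K] [IsFractionRing A K] [Algebra B L] [IsFractionRing B L]
  [Algebra C M] [Algebra K L] [Algebra L M] [Algebra K M] [IsScalarTower K L M]
  [Algebra A L] [IsScalarTower A K L] [IsScalarTower A B L] [Algebra B M] [IsScalarTower B L M]
  [IsScalarTower B C M] [CharP K p]

set_option maxHeartbeats 1600000 in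
theorem epp_as_main (hw : EtRam.IsWeaklyUnramified A B) [IsGalois L M]
    (hdeg : Module.finrank L M = p)
    (hk : ∀ x : ResidueField B, (∀ n : ℕ, ∃ y : ResidueField B, y ^ (p ^ n) = x) ↔
      x ∈ Set.range (algebraMap (ResidueField A) (ResidueField B))) :
    ∃ (K₁ : Type u) (_ : Field K₁) (_ : Algebra K K₁), FiniteDimensional K K₁ ∧
      Algebra.IsSeparable K K₁ ∧
      EtRam.IsTotallyRamified A ((algebraMap K K₁).comp (algebraMap A K)) ∧
      EtRam.IsWeakSolution C K M K₁ := by
  haveI : CharP L p := charP_top p K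
  haveI : CharP (ResidueField B) p := charP_residue p (A := B) (K := L)
  obtain ⟨π, hπirr⟩ := IsDiscreteValuationRing.exists_irreducible A
  have hπ : maximalIdeal A = Ideal.span {π} :=
    (IsDiscreteValuationRing.irreducible_iff_uniformizer π).mp hπirr
  have hπB : maximalIdeal B = Ideal.span {algebraMap A B π} := by
    unfold EtRam.IsWeaklyUnramified at hw
    rw [hπ, Ideal.map_span, Set.image_singleton] at hw
    exact hw.symm
  have hπ0 : algebraMap A L π ≠ 0 := by
    intro h0
    exact TotRamCritH8.pi_ne_zero π hπ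
      (TotRamCritH8.algebraMap_injective' A K L (h0.trans (map_zero _).symm))
  have hAB : algebraMap B L (algebraMap A B π) = algebraMap A L π :=
    (IsScalarTower.algebraMap_apply A B L π).symm
  -- Artin–Schreier generator
  obtain ⟨z, ⟨ξ, hz⟩, hgenM⟩ := exists_as_generator (p := p) (L := L) (M := M) hdeg
  -- pole order
  obtain ⟨n₀, b₀, hξb⟩ := exists_pole_order (A := B) (K := L) (algebraMap A B π) hπB ξ
  have hξb' : ξ * (algebraMap A L π) ^ (n₀ + 1) = algebraMap B L (b₀ * algebraMap A B π) := by
    rw [pow_succ, ← mul_assoc, ← hAB, hξb, map_mul]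
  -- perfect residue field
  have hperf : ∀ (r : ℕ) (a : A), ∃ c a' : A, a = c ^ (p ^ r) + π * a' := by
    intro r a
    obtain ⟨c, hc⟩ := exists_pow_pow_add p hk r a
    rw [hπ, Ideal.mem_span_singleton'] at hc
    obtain ⟨a', ha'⟩ := hc
    exact ⟨c, a', by rw [mul_comm, ha']; ring⟩
  -- normal form
  obtain ⟨c, a, b, hnf⟩ := exists_nf_of_elem (L := L) π hπB hπ0 hk (n₀ + 1) (by omega) ξ _ hξb'
  rcases hnf with hnf | ⟨t₀, T₁, hprop, hlt, hnf⟩
  · -- case I
    have hperf1 : ∀ a : A, ∃ c a' : A, a = c ^ p + π * a' := by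
      intro a
      have := hperf 1 a
      rwa [pow_one] at this
    obtain ⟨cα, α', h1, h2⟩ := alpha_reduce (p := p) (K := K) π hπ hperf1 (n₀ + 1) a
    have h1L : algebraMap A L a / (algebraMap A L π) ^ (n₀ + 1) =
        (algebraMap K L cα) ^ p - algebraMap K L cα + algebraMap K L α' := by
      have := congrArg (algebraMap K L) h1
      rw [map_div₀, map_pow, ← IsScalarTower.algebraMap_apply, ← IsScalarTower.algebraMap_apply,
        map_add, map_sub, map_pow] at this
      exact this
    have hcc : (c + algebraMap K L cα) ^ p - (c + algebraMap K L cα) =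
        (c ^ p - c) + ((algebraMap K L cα) ^ p - algebraMap K L cα) := by
      rw [add_pow_char]; ring
    rcases h2 with ⟨a₀, rfl⟩ | ⟨m, u, hm, hpm, hα'⟩
    · refine caseIa (p := p) (C := C) (K := K) (M := M) π hπ hπB z ξ hz hgenM
        (c + algebraMap K L cα) (algebraMap A B a₀ + b) ?_
      rw [hnf, h1L, hcc, map_add, ← IsScalarTower.algebraMap_apply A B L,
        ← IsScalarTower.algebraMap_apply A K L]
      ring
    · refine caseIb (p := p) (C := C) (K := K) (M := M) π hπ hπB z ξ hz hgenM
        (c + algebraMap K L cα) b α' ?_ m u hm hpm hα'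
      rw [hnf, h1L, hcc]
      ring
  · exact caseII (p := p) (C := C) (K := K) (M := M) π hπ hπB z ξ hz hgenM hperf (n₀ + 1) t₀ T₁
      hprop hlt c a b hnf

end main

end Groth.Agent.Lib.EppH8
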