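import Mathlib

/-!
# Valuation-theoretic basics in a big valued field (helper8)

`WU V S₀ S`: the value group of `S` is generated by the valuation of an element of `S₀`.
Distinct-coset and residue-basis computations of valuations of sums.
-/

set_option autoImplicit false
universe u

namespace Groth.Agent.Lib.EppFinH8

variable {Ω : Type u} [Field Ω] (V : ValuationSubring Ω)

/-- The values of the nonzero elements of `S` are integral powers of the value of some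
`ϖ ∈ S₀` with `0 < v ϖ < 1`. -/
def WU (S₀ S : Set Ω) : Prop :=
  ∃ ϖ ∈ S₀, ϖ ≠ 0 ∧ V.valuation ϖ < 1 ∧
    ∀ x ∈ S, x ≠ 0 → ∃ n : ℤ, V.valuation x = V.valuation ϖ ^ n

/-- Every element of `T` of value `≤ 1` is congruent to an element of `S`. -/
def ResEq (S T : Set Ω) : Prop :=
  ∀ x ∈ T, V.valuation x ≤ 1 → ∃ y ∈ S, V.valuation (x - y) < 1

variable {V}

theorem WU.mono {S₀ S₀' S S' : Set Ω} (h : WU V S₀ S) (h0 : S₀ ⊆ S₀') (h1 : S' ⊆ S) :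
    WU V S₀' S' := by
  obtain ⟨ϖ, hϖ, h0', h1', h2⟩ := h
  exact ⟨ϖ, h0 hϖ, h0', h1', fun x hx hx0 => h2 x (h1 hx) hx0⟩

theorem val_pos_of_ne {x : Ω} (hx : x ≠ 0) : 0 < V.valuation x :=
  zero_lt_iff.mpr ((Valuation.ne_zero_iff _).mpr hx)

theorem zpow_inj_of_lt_one {g : V.ValueGroup} (h0 : 0 < g) (h1 : g < 1) {a b : ℤ}
    (h : g ^ a = g ^ b) : a = b := by
  rcases lt_trichotomy a b with hab | hab | hab
  · exact absurd h (ne_of_gt (zpow_lt_zpow_right_of_lt_one₀ h0 h1 hab))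
  · exact hab
  · exact absurd h (ne_of_lt (zpow_lt_zpow_right_of_lt_one₀ h0 h1 hab))

/-- Two generators `< 1` of the same value group have the same value. -/
theorem WU.gen_eq {S₀ S : Set Ω} (hS : S₀ ⊆ S) {ϖ ϖ₁ : Ω} (hϖ : ϖ ∈ S₀) (hϖ0 : ϖ ≠ 0)
    (hϖ1 : V.valuation ϖ < 1)
    (hgen : ∀ x ∈ S, x ≠ 0 → ∃ n : ℤ, V.valuation x = V.valuation ϖ ^ n)
    (hϖ₁ : ϖ₁ ∈ S₀) (hϖ₁0 : ϖ₁ ≠ 0) (hϖ₁1 : V.valuation ϖ₁ < 1)
    (hgen₁ : ∀ x ∈ S₀, x ≠ 0 → ∃ n : ℤ, V.valuation x = V.valuation ϖ₁ ^ n) :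
    V.valuation ϖ₁ = V.valuation ϖ := by
  obtain ⟨a, ha⟩ := hgen₁ ϖ hϖ hϖ0
  obtain ⟨b, hb⟩ := hgen ϖ₁ (hS hϖ₁) hϖ₁0
  have hg0 := val_pos_of_ne (V := V) hϖ0
  have hg₁0 := val_pos_of_ne (V := V) hϖ₁0
  have h1 : V.valuation ϖ ^ (1 : ℤ) = V.valuation ϖ ^ (b * a) := by
    rw [zpow_one, zpow_mul, ← hb, ← ha]
  have hba : b * a = 1 := (zpow_inj_of_lt_one hg0 hϖ1 h1).symm
  -- b ≥ 1
  have hbpos : 0 < b := by
    by_contra hcon
    push Not at hcon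
    have : (1 : V.ValueGroup) ≤ V.valuation ϖ ^ b := by
      rcases hcon.eq_or_lt with h | h
      · rw [h, zpow_zero]
      · exact (one_lt_zpow_of_neg₀ hg0 hϖ1 h).le
    rw [← hb] at this
    exact absurd hϖ₁1 (not_lt.mpr this)
  have hb1 : b = 1 := by
    rcases Int.eq_one_or_neg_one_of_mul_eq_one hba with h | h
    · exact h
    · omega
  rw [hb, hb1, zpow_one]

theorem WU.of_gen {S₀ S : Set Ω} (h : WU V S₀ S) (hS : S₀ ⊆ S) {ϖ₁ : Ω}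
    (hϖ₁ : ϖ₁ ∈ S₀) (hϖ₁0 : ϖ₁ ≠ 0) (hϖ₁1 : V.valuation ϖ₁ < 1)
    (hgen₁ : ∀ x ∈ S₀, x ≠ 0 → ∃ n : ℤ, V.valuation x = V.valuation ϖ₁ ^ n) :
    ∀ x ∈ S, x ≠ 0 → ∃ n : ℤ, V.valuation x = V.valuation ϖ₁ ^ n := by
  obtain ⟨ϖ, hϖ, hϖ0, hϖ1, hgen⟩ := h
  rw [WU.gen_eq hS hϖ hϖ0 hϖ1 hgen hϖ₁ hϖ₁0 hϖ₁1 hgen₁]
  exact hgen

/-- A sum with a strictly dominant term has the value of that term. -/
theorem val_sum_eq_of_dominant {ι : Type*} [DecidableEq ι] (s : Finset ι) (f : ι → Ω) (i₀ : ι)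
    (hi₀ : i₀ ∈ s) (hdom : ∀ j ∈ s, j ≠ i₀ → V.valuation (f j) < V.valuation (f i₀)) :
    V.valuation (∑ i ∈ s, f i) = V.valuation (f i₀) := by
  rw [← Finset.add_sum_erase s f hi₀]
  by_cases hne : (s.erase i₀).Nonempty
  · obtain ⟨j, hj⟩ := hne
    have hj' := Finset.mem_erase.mp hj
    have h0 : V.valuation (f i₀) ≠ 0 :=
      ne_of_gt (lt_of_le_of_lt zero_le (hdom j hj'.2 hj'.1))
    have hlt : V.valuation (∑ i ∈ s.erase i₀, f i) < V.valuation (f i₀) := by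
      apply Valuation.map_sum_lt _ h0
      intro i hi
      have hi' := Finset.mem_erase.mp hi
      exact hdom i hi'.2 hi'.1
    exact Valuation.map_add_eq_of_lt_left _ hlt
  · rw [Finset.not_nonempty_iff_eq_empty] at hne
    rw [hne, Finset.sum_empty, add_zero]


section DC

variable {F : Set Ω} {ϖF : Ω} (hϖF0 : ϖF ≠ 0) (hϖF1 : V.valuation ϖF < 1)
  (hgen : ∀ x ∈ F, x ≠ 0 → ∃ n : ℤ, V.valuation x = V.valuation ϖF ^ n) {ϖ₂ : Ω} {m : ℕ}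
  (hm : 0 < m) (h2 : V.valuation ϖ₂ ^ m = V.valuation ϖF)

include hϖF0 hm h2 in
theorem DC_pos : 0 < V.valuation ϖ₂ := by
  apply val_pos_of_ne
  rintro rfl
  rw [map_zero, zero_pow hm.ne'] at h2
  exact (val_pos_of_ne (V := V) hϖF0).ne h2

include hϖF1 hm h2 in
theorem DC_lt_one : V.valuation ϖ₂ < 1 := by
  by_contra hcon
  push Not at hcon
  have : (1 : V.ValueGroup) ≤ V.valuation ϖ₂ ^ m := one_le_pow₀ hcon
  rw [h2] at this
  exact absurd hϖF1 (not_lt.mpr this)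

include hgen h2 hϖF0 hm in
theorem DC_term {a : Ω} (ha : a ∈ F) (ha0 : a ≠ 0) (i : ℕ) :
    ∃ n : ℤ, V.valuation (a * ϖ₂ ^ i) = V.valuation ϖ₂ ^ ((m : ℤ) * n + i) := by
  obtain ⟨n, hn⟩ := hgen a ha ha0
  refine ⟨n, ?_⟩
  have hg0 := (DC_pos hϖF0 hm h2).ne'
  rw [map_mul, map_pow, hn, ← h2, zpow_add₀ hg0, zpow_mul, zpow_natCast, zpow_natCast]

include hϖF0 hϖF1 hgen hm h2 in
/-- Distinct-coset computation of the value of a sum. -/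
theorem val_sum_DC {d : ℕ} (hd : d ≤ m) (a : Fin d → Ω) (ha : ∀ i, a i ∈ F)
    (hne : ∃ i, a i ≠ 0) :
    ∃ i₀, a i₀ ≠ 0 ∧
      V.valuation (∑ i, a i * ϖ₂ ^ (i : ℕ)) = V.valuation (a i₀ * ϖ₂ ^ (i₀ : ℕ)) ∧
      ∀ j, j ≠ i₀ → V.valuation (a j * ϖ₂ ^ (j : ℕ)) < V.valuation (a i₀ * ϖ₂ ^ (i₀ : ℕ)) := by
  classical
  have hg0 := DC_pos hϖF0 hm h2
  have hg1 := DC_lt_one hϖF1 hm h2
  obtain ⟨i₁, hi₁⟩ := hne
  obtain ⟨i₀, -, hmax⟩ := Finset.exists_max_image Finset.univ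
    (fun i => V.valuation (a i * ϖ₂ ^ (i : ℕ))) ⟨i₁, Finset.mem_univ _⟩
  have hϖ₂0 : ϖ₂ ≠ 0 := (Valuation.ne_zero_iff _).mp hg0.ne'
  have hi₀ : a i₀ ≠ 0 := by
    intro h0
    have h1 := hmax i₁ (Finset.mem_univ _)
    simp only [h0, zero_mul, map_zero] at h1
    have h3 : 0 < V.valuation (a i₁ * ϖ₂ ^ (i₁ : ℕ)) :=
      val_pos_of_ne (mul_ne_zero hi₁ (pow_ne_zero _ hϖ₂0))
    exact absurd h3 (not_lt.mpr h1)
  have hlt : ∀ j, j ≠ i₀ →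
      V.valuation (a j * ϖ₂ ^ (j : ℕ)) < V.valuation (a i₀ * ϖ₂ ^ (i₀ : ℕ)) := by
    intro j hj
    by_cases hj0 : a j = 0
    · rw [hj0, zero_mul, map_zero]
      exact val_pos_of_ne (mul_ne_zero hi₀ (pow_ne_zero _ hϖ₂0))
    · apply lt_of_le_of_ne (hmax j (Finset.mem_univ _))
      intro heq
      obtain ⟨n₁, hn₁⟩ := DC_term hϖF0 hgen hm h2 (ha j) hj0 (j : ℕ)
      obtain ⟨n₂, hn₂⟩ := DC_term hϖF0 hgen hm h2 (ha i₀) hi₀ (i₀ : ℕ)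
      rw [hn₁, hn₂] at heq
      have hexp := zpow_inj_of_lt_one hg0 hg1 heq
      apply hj
      apply Fin.ext
      have hjm : ((j : ℕ) : ℤ) < m := by have := j.2; omega
      have him : ((i₀ : ℕ) : ℤ) < m := by have := i₀.2; omega
      have h5 : ((j : ℕ) : ℤ) % m = ((i₀ : ℕ) : ℤ) % m := by
        have := congrArg (· % (m : ℤ)) hexp
        simpa [Int.add_mul_emod_self_left] using this
      rw [Int.emod_eq_of_lt (by positivity) hjm, Int.emod_eq_of_lt (by positivity) him] at h5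
      exact_mod_cast h5
  refine ⟨i₀, hi₀, ?_, hlt⟩
  exact val_sum_eq_of_dominant Finset.univ _ i₀ (Finset.mem_univ _) (fun j _ hj => hlt j hj)

end DC

/-- Residue-basis computation of the value of a sum. -/
theorem val_sum_RB (F : Subfield Ω) (t : Ω) (d : ℕ)
    (hind : ∀ a : Fin d → Ω, (∀ i, a i ∈ F) → (∀ i, V.valuation (a i) ≤ 1) →
      (∃ i, V.valuation (a i) = 1) → V.valuation (∑ i, a i * t ^ (i : ℕ)) = 1)
    (a : Fin d → Ω) (ha : ∀ i, a i ∈ F) (hne : ∃ i, a i ≠ 0) :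
    ∃ i₀, a i₀ ≠ 0 ∧ V.valuation (∑ i, a i * t ^ (i : ℕ)) = V.valuation (a i₀) := by
  classical
  obtain ⟨i₁, hi₁⟩ := hne
  obtain ⟨i₀, -, hmax⟩ := Finset.exists_max_image Finset.univ
    (fun i => V.valuation (a i)) ⟨i₁, Finset.mem_univ _⟩
  have hi₀ : a i₀ ≠ 0 := by
    intro h0
    have h1 := hmax i₁ (Finset.mem_univ _)
    simp only [h0, map_zero] at h1
    exact absurd (val_pos_of_ne (V := V) hi₁) (not_lt.mpr h1)
  refine ⟨i₀, hi₀, ?_⟩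
  have hc0 : V.valuation (a i₀) ≠ 0 := (Valuation.ne_zero_iff _).mpr hi₀
  have h1 := hind (fun i => a i / a i₀) (fun i => F.div_mem (ha i) (ha i₀))
    (fun i => by
      rw [map_div₀]
      exact div_le_one_of_le₀ (hmax i (Finset.mem_univ _)) zero_le)
    ⟨i₀, by rw [div_self hi₀, map_one]⟩
  have h2 : ∑ i, a i * t ^ (i : ℕ) = a i₀ * ∑ i, a i / a i₀ * t ^ (i : ℕ) := by
    rw [Finset.mul_sum]
    apply Finset.sum_congr rfl
    intro i _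
    field_simp
  rw [h2, map_mul, h1, mul_one]

end Groth.Agent.Lib.EppFinH8
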