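import Mathlib
import Groth.Agent.Lib.EppW1_helper8

/-!
# Simple extensions inside a big valued field: totally ramified and residue-basis cases (helper8)
-/

set_option autoImplicit false
universe u

namespace Groth.Agent.Lib.EppFinH8

open Polynomial

/-- Elements of a simple algebraic extension are polynomial expressions of bounded degree. -/
theorem exists_sum_of_mem_adjoin {F Ω : Type u} [Field F] [Field Ω] [Algebra F Ω] (θ : Ω)
    (g : F[X]) (hg : g.Monic) (hroot : aeval θ g = 0) {x : Ω}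
    (hx : x ∈ IntermediateField.adjoin F {θ}) :
    ∃ a : Fin g.natDegree → F, x = ∑ i, algebraMap F Ω (a i) * θ ^ (i : ℕ) := by
  have hint : IsIntegral F θ := ⟨g, hg, hroot⟩
  have h1 : x ∈ (IntermediateField.adjoin F {θ}).toSubalgebra := hx
  rw [IntermediateField.adjoin_simple_toSubalgebra_of_isAlgebraic hint.isAlgebraic,
    Algebra.adjoin_singleton_eq_range_aeval] at h1
  obtain ⟨f, hf⟩ := h1
  replace hf : aeval θ f = x := hf
  have hg1 : g ≠ 1 := by
    rintro rfl
    simp at hroot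
  have hr : aeval θ (f %ₘ g) = x := by
    have := Polynomial.modByMonic_add_div f g
    rw [← hf]
    conv_rhs => rw [← this]
    rw [map_add, map_mul, hroot, zero_mul, add_zero]
  have hdeg : (f %ₘ g).natDegree < g.natDegree := Polynomial.natDegree_modByMonic_lt f hg hg1
  refine ⟨fun i => (f %ₘ g).coeff i, ?_⟩
  rw [← hr, Polynomial.aeval_eq_sum_range' hdeg, Finset.sum_range]
  apply Finset.sum_congr rfl
  intro i _
  rw [Algebra.smul_def]


section ext

variable {F Ω : Type u} [Field F] [Field Ω] [Algebra F Ω] {V : ValuationSubring Ω}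

/-- Totally ramified simple extension: the value group of `F(ϖ₂)` is generated by `v ϖ₂` and the
residue field does not grow. -/
theorem ext_DC {ϖF : F} (hϖF0 : ϖF ≠ 0) (hϖF1 : V.valuation (algebraMap F Ω ϖF) < 1)
    (hgen : ∀ x : F, x ≠ 0 → ∃ n : ℤ,
      V.valuation (algebraMap F Ω x) = V.valuation (algebraMap F Ω ϖF) ^ n)
    {ϖ₂ : Ω} {m : ℕ} (hm : 0 < m)
    (h2 : V.valuation ϖ₂ ^ m = V.valuation (algebraMap F Ω ϖF))
    (g : F[X]) (hg : g.Monic) (hdeg : g.natDegree ≤ m) (hroot : aeval ϖ₂ g = 0) :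
    (∀ x ∈ IntermediateField.adjoin F {ϖ₂}, x ≠ 0 →
      ∃ n : ℤ, V.valuation x = V.valuation ϖ₂ ^ n) ∧
    (∀ x ∈ IntermediateField.adjoin F {ϖ₂}, V.valuation x ≤ 1 →
      ∃ y : F, V.valuation (x - algebraMap F Ω y) < 1) := by
  classical
  have hϖF0' : algebraMap F Ω ϖF ≠ 0 := (_root_.map_ne_zero _).mpr hϖF0
  have hgen' : ∀ x ∈ Set.range (algebraMap F Ω), x ≠ 0 → ∃ n : ℤ,
      V.valuation x = V.valuation (algebraMap F Ω ϖF) ^ n := by
    rintro _ ⟨x, rfl⟩ hx
    exact hgen x ((_root_.map_ne_zero _).mp hx)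
  have hg0 := DC_pos hϖF0' hm h2
  have hg1 := DC_lt_one hϖF1 hm h2
  have hϖ₂0 : ϖ₂ ≠ 0 := (Valuation.ne_zero_iff _).mp hg0.ne'
  constructor
  · intro x hx hx0
    obtain ⟨a, rfl⟩ := exists_sum_of_mem_adjoin ϖ₂ g hg hroot hx
    have hne : ∃ i, algebraMap F Ω (a i) ≠ 0 := by
      by_contra hcon
      push Not at hcon
      apply hx0
      apply Finset.sum_eq_zero
      intro i _
      rw [hcon i, zero_mul]
    obtain ⟨i₀, hi₀, hval, -⟩ := val_sum_DC hϖF0' hϖF1 hgen' hm h2 hdeg
      (fun i => algebraMap F Ω (a i)) (fun i => ⟨_, rfl⟩) hne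
    obtain ⟨n, hn⟩ := DC_term hϖF0' hgen' hm h2 (Set.mem_range_self (a i₀)) hi₀ (i₀ : ℕ)
    exact ⟨_, hval.trans hn⟩
  · intro x hx hx1
    obtain ⟨a, rfl⟩ := exists_sum_of_mem_adjoin ϖ₂ g hg hroot hx
    by_cases hne : ∃ i, algebraMap F Ω (a i) ≠ 0
    · obtain ⟨i₀, hi₀, hval, hlt⟩ := val_sum_DC hϖF0' hϖF1 hgen' hm h2 hdeg
        (fun i => algebraMap F Ω (a i)) (fun i => ⟨_, rfl⟩) hne
      have hterm : ∀ i : Fin g.natDegree, (i : ℕ) ≠ 0 →
          V.valuation (algebraMap F Ω (a i) * ϖ₂ ^ (i : ℕ)) < 1 := by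
        intro i hi
        by_cases hai : algebraMap F Ω (a i) = 0
        · rw [hai, zero_mul, map_zero]; exact zero_lt_one
        · have hle : V.valuation (algebraMap F Ω (a i) * ϖ₂ ^ (i : ℕ)) ≤ 1 := by
            by_cases hii : i = i₀
            · rw [hii, ← hval]; exact hx1
            · exact ((hlt i hii).le.trans (le_of_eq hval.symm)).trans hx1
          apply lt_of_le_of_ne hle
          intro heq
          obtain ⟨n, hn⟩ := DC_term hϖF0' hgen' hm h2 (Set.mem_range_self (a i)) hai (i : ℕ)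
          rw [hn] at heq
          have h0 : (m : ℤ) * n + (i : ℕ) = 0 := by
            apply zpow_inj_of_lt_one hg0 hg1
            rw [heq, zpow_zero]
          have him : ((i : ℕ) : ℤ) < m := by have := i.2; omega
          have hi' : (0 : ℤ) < ((i : ℕ) : ℤ) := by omega
          have h5 : ((i : ℕ) : ℤ) % m = 0 := by
            have := congrArg (· % (m : ℤ)) h0
            simpa [Int.add_mul_emod_self_left] using this
          rw [Int.emod_eq_of_lt hi'.le him] at h5
          omega
      by_cases hd0 : g.natDegree = 0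
      · refine ⟨0, ?_⟩
        have : IsEmpty (Fin g.natDegree) := by rw [hd0]; infer_instance
        simp
      · let i0 : Fin g.natDegree := ⟨0, Nat.pos_of_ne_zero hd0⟩
        refine ⟨a i0, ?_⟩
        have hsplit : (∑ i, algebraMap F Ω (a i) * ϖ₂ ^ (i : ℕ)) - algebraMap F Ω (a i0) =
            ∑ i ∈ Finset.univ.erase i0, algebraMap F Ω (a i) * ϖ₂ ^ (i : ℕ) := by
          rw [← Finset.add_sum_erase Finset.univ _ (Finset.mem_univ i0)]
          simp [i0]
        rw [hsplit]
        apply Valuation.map_sum_lt _ one_ne_zero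
        intro i hi
        apply hterm
        intro h0
        exact (Finset.mem_erase.mp hi).1 (Fin.ext h0)
    · push Not at hne
      refine ⟨0, ?_⟩
      rw [map_zero, sub_zero]
      have : ∑ i, algebraMap F Ω (a i) * ϖ₂ ^ (i : ℕ) = 0 := by
        apply Finset.sum_eq_zero
        intro i _
        rw [hne i, zero_mul]
      rw [this, map_zero]
      exact zero_lt_one

/-- Residue-basis simple extension: the value group does not grow. -/
theorem ext_RB (t : Ω) (g : F[X]) (hg : g.Monic) (hroot : aeval t g = 0)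
    (hind : ∀ a : Fin g.natDegree → F, (∀ i, V.valuation (algebraMap F Ω (a i)) ≤ 1) →
      (∃ i, V.valuation (algebraMap F Ω (a i)) = 1) →
      V.valuation (∑ i, algebraMap F Ω (a i) * t ^ (i : ℕ)) = 1) :
    ∀ x ∈ IntermediateField.adjoin F {t}, x ≠ 0 →
      ∃ y : F, y ≠ 0 ∧ V.valuation x = V.valuation (algebraMap F Ω y) := by
  intro x hx hx0
  obtain ⟨a, rfl⟩ := exists_sum_of_mem_adjoin t g hg hroot hx
  have hne : ∃ i, algebraMap F Ω (a i) ≠ 0 := by
    by_contra hcon
    push Not at hcon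
    apply hx0
    apply Finset.sum_eq_zero
    intro i _
    rw [hcon i, zero_mul]
  have hind' : ∀ a' : Fin g.natDegree → Ω, (∀ i, a' i ∈ (algebraMap F Ω).fieldRange) →
      (∀ i, V.valuation (a' i) ≤ 1) → (∃ i, V.valuation (a' i) = 1) →
      V.valuation (∑ i, a' i * t ^ (i : ℕ)) = 1 := by
    intro a' ha' h1 h2
    choose b hb using ha'
    have : a' = fun i => algebraMap F Ω (b i) := funext (fun i => (hb i).symm)
    subst this
    exact hind b h1 h2
  obtain ⟨i₀, hi₀, hval⟩ := val_sum_RB (algebraMap F Ω).fieldRange t g.natDegree hind'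
    (fun i => algebraMap F Ω (a i)) (fun i => ⟨_, rfl⟩) hne
  exact ⟨a i₀, (_root_.map_ne_zero _).mp hi₀, hval⟩

end ext

end Groth.Agent.Lib.EppFinH8
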