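import Mathlib
import Groth.Prelude.Def_EtRam
import Groth.Agent.Lib.DvrExt4_helper8
import Groth.Agent.Lib.EppW2_helper8

/-!
# Valuation rings of subfields of a big valued field (helper8)

For a field `X` with an algebra structure to the big field `Ω`, `OO V X` is the valuation subring
`V ∩ X` of `X`.
-/

set_option autoImplicit false
universe u

namespace Groth.Agent.Lib.EppFinH8

open IsLocalRing

variable {Ω : Type u} [Field Ω] (V : ValuationSubring Ω)

/-- The valuation ring `V ∩ X`. -/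
abbrev OO (X : Type u) [Field X] [Algebra X Ω] : ValuationSubring X :=
  V.comap (algebraMap X Ω)

section basic

variable (X : Type u) [Field X] [Algebra X Ω]

/-- the inclusion `V ∩ X → Ω` -/
def OOι : OO V X →+* Ω := (algebraMap X Ω).comp (OO V X).subtype

@[simp] theorem OOι_apply (x : OO V X) : OOι V X x = algebraMap X Ω (x : X) := rfl

theorem OOι_injective : Function.Injective (OOι V X) :=
  (algebraMap X Ω).injective.comp Subtype.val_injective

variable {X}

theorem mem_OO_iff (y : X) : y ∈ OO V X ↔ V.valuation (algebraMap X Ω y) ≤ 1 := by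
  rw [ValuationSubring.mem_comap, ValuationSubring.valuation_le_one_iff]

theorem OO_val_le_one (x : OO V X) : V.valuation (OOι V X x) ≤ 1 :=
  (mem_OO_iff V (x : X)).mp x.2

theorem mem_maximalIdeal_OO_iff (x : OO V X) :
    x ∈ maximalIdeal (OO V X) ↔ V.valuation (OOι V X x) < 1 := by
  rw [ValuationSubring.valuation_lt_one_iff, DvrExtH8.comap_valuation_lt_one_iff]
  rfl

theorem isUnit_OO_iff (x : OO V X) : IsUnit x ↔ V.valuation (OOι V X x) = 1 := by
  constructor
  · intro hu
    apply le_antisymm (OO_val_le_one V x)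
    by_contra hlt
    push Not at hlt
    exact (mem_maximalIdeal (R := OO V X) x).mp ((mem_maximalIdeal_OO_iff V x).mpr hlt) hu
  · intro h1
    by_contra hnu
    have := (mem_maximalIdeal_OO_iff V x).mp ((mem_maximalIdeal (R := OO V X) x).mpr hnu)
    rw [h1] at this
    exact lt_irrefl _ this

/-- lifting an element of `X` of value `≤ 1` -/
def OOmk (y : X) (hy : V.valuation (algebraMap X Ω y) ≤ 1) : OO V X :=
  ⟨y, (mem_OO_iff V y).mpr hy⟩

@[simp] theorem OOι_OOmk (y : X) (hy : V.valuation (algebraMap X Ω y) ≤ 1) :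
    OOι V X (OOmk V y hy) = algebraMap X Ω y := rfl

theorem dvd_OO_iff (a b : OO V X) (hb : b ≠ 0) :
    b ∣ a ↔ V.valuation (OOι V X a) ≤ V.valuation (OOι V X b) := by
  have hb0 : OOι V X b ≠ 0 := fun h => hb (OOι_injective V X (by rw [h, map_zero]))
  have hbX : (b : X) ≠ 0 := fun h => hb (Subtype.ext h)
  constructor
  · rintro ⟨c, rfl⟩
    rw [map_mul]
    calc V.valuation (OOι V X b) * V.valuation (OOι V X c)
        ≤ V.valuation (OOι V X b) * 1 := mul_le_mul_right (OO_val_le_one V c) _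
      _ = _ := mul_one _
  · intro hle
    have hc : V.valuation (algebraMap X Ω ((a : X) / (b : X))) ≤ 1 := by
      rw [map_div₀, map_div₀]
      exact div_le_one_of_le₀ hle zero_le
    refine ⟨OOmk V _ hc, ?_⟩
    apply Subtype.ext
    show (a : X) = (b : X) * ((a : X) / (b : X))
    field_simp

theorem mem_span_OO_iff (a b : OO V X) (hb : b ≠ 0) :
    a ∈ Ideal.span {b} ↔ V.valuation (OOι V X a) ≤ V.valuation (OOι V X b) := by
  rw [Ideal.mem_span_singleton, dvd_OO_iff V a b hb]


theorem OOι_ne_zero {x : OO V X} (hx : x ≠ 0) : OOι V X x ≠ 0 :=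
  fun h => hx (OOι_injective V X (by rw [h, map_zero]))

/-- In a DVR `V ∩ X`, the value group of `X` is generated by the value of a uniformizer. -/
theorem gen_of_irreducible [IsDiscreteValuationRing (OO V X)] {ϖ : OO V X} (hϖ : Irreducible ϖ) :
    ∀ y : X, y ≠ 0 → ∃ n : ℤ,
      V.valuation (algebraMap X Ω y) = V.valuation (OOι V X ϖ) ^ n := by
  have hunit : ∀ u : (OO V X)ˣ, V.valuation (OOι V X (u : OO V X)) = 1 :=
    fun u => (isUnit_OO_iff V _).mp u.isUnit
  have key : ∀ y : X, y ≠ 0 → y ∈ OO V X → ∃ n : ℕ,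
      V.valuation (algebraMap X Ω y) = V.valuation (OOι V X ϖ) ^ n := by
    intro y hy0 hy
    have hy0' : (⟨y, hy⟩ : OO V X) ≠ 0 := fun h => hy0 (congrArg Subtype.val h)
    obtain ⟨n, u, hn⟩ := IsDiscreteValuationRing.eq_unit_mul_pow_irreducible hy0' hϖ
    refine ⟨n, ?_⟩
    have := congrArg (OOι V X) hn
    rw [map_mul, map_pow] at this
    have h2 : OOι V X ⟨y, hy⟩ = algebraMap X Ω y := rfl
    rw [h2] at this
    rw [this, map_mul, map_pow, hunit, one_mul]
  intro y hy0
  rcases (OO V X).mem_or_inv_mem y with hy | hy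
  · obtain ⟨n, hn⟩ := key y hy0 hy
    exact ⟨n, by rw [hn, zpow_natCast]⟩
  · obtain ⟨n, hn⟩ := key y⁻¹ (inv_ne_zero hy0) hy
    refine ⟨-n, ?_⟩
    rw [map_inv₀, map_inv₀] at hn
    rw [zpow_neg, zpow_natCast, ← hn, inv_inv]

theorem irreducible_val_lt_one [IsDiscreteValuationRing (OO V X)] {ϖ : OO V X}
    (hϖ : Irreducible ϖ) : V.valuation (OOι V X ϖ) < 1 :=
  (mem_maximalIdeal_OO_iff V ϖ).mp ((mem_maximalIdeal (R := OO V X) ϖ).mpr hϖ.not_isUnit)

/-- If the value group of `X` is generated by `v ϖ`, `ϖ` generates the maximal ideal. -/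
theorem maximalIdeal_eq_span_of_gen (ϖ : OO V X) (hϖ0 : ϖ ≠ 0)
    (hϖ1 : V.valuation (OOι V X ϖ) < 1)
    (hgen : ∀ y : X, y ≠ 0 → ∃ n : ℤ,
      V.valuation (algebraMap X Ω y) = V.valuation (OOι V X ϖ) ^ n) :
    maximalIdeal (OO V X) = Ideal.span {ϖ} := by
  have hg0 : 0 < V.valuation (OOι V X ϖ) := val_pos_of_ne (OOι_ne_zero V hϖ0)
  apply le_antisymm
  · intro x hx
    rw [mem_span_OO_iff V x ϖ hϖ0]
    by_cases hx0 : x = 0
    · rw [hx0, map_zero]; exact zero_le
    have hx1 := (mem_maximalIdeal_OO_iff V x).mp hx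
    obtain ⟨n, hn⟩ := hgen (x : X) (fun h => hx0 (Subtype.ext h))
    have hn' : V.valuation (OOι V X x) = V.valuation (OOι V X ϖ) ^ n := hn
    rw [hn'] at hx1 ⊢
    have hn1 : 1 ≤ n := by
      by_contra hcon
      push Not at hcon
      have : (1 : V.ValueGroup) ≤ V.valuation (OOι V X ϖ) ^ n := by
        rcases (show n ≤ 0 by omega).eq_or_lt with h | h
        · rw [h, zpow_zero]
        · exact (one_lt_zpow_of_neg₀ hg0 hϖ1 h).le
      exact absurd hx1 (not_lt.mpr this)
    calc V.valuation (OOι V X ϖ) ^ n ≤ V.valuation (OOι V X ϖ) ^ (1 : ℤ) :=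
          zpow_le_zpow_right_of_le_one₀ hg0 hϖ1.le hn1
      _ = _ := zpow_one _
  · rw [Ideal.span_le, Set.singleton_subset_iff]
    exact (mem_maximalIdeal_OO_iff V ϖ).mpr hϖ1

end basic

end Groth.Agent.Lib.EppFinH8
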