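import Mathlib
import Groth.Prelude.Def_EtRam
import Groth.Agent.Lib.DvrExt4_helper8
import Groth.Agent.Lib.GRedDvr5_helper8

/-!
# Purely inseparable degree-p step for solutions: the compositum attached to an embedding (helper8)
-/

set_option autoImplicit false
universe u

namespace Groth.Agent.Lib.InsepSolH8

open IsLocalRing

section comp

variable {K L K₂ Λ : Type u} [Field K] [Field L] [Field K₂] [Field Λ] [Algebra K L]
  [Algebra K K₂] [Algebra K Λ] [Algebra L Λ] [IsScalarTower K L Λ] [Algebra.IsAlgebraic L Λ]
  (σ : K₂ →ₐ[K] Λ)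

/-- the `K₂`-algebra structure on the compositum `L(σ K₂)` -/
noncomputable abbrev compAlgebra : Algebra K₂ (IntermediateField.adjoin L (Set.range σ)) :=
  (σ.toRingHom.codRestrict (IntermediateField.adjoin L (Set.range σ))
    (fun k => IntermediateField.subset_adjoin L _ ⟨k, rfl⟩)).toAlgebra

theorem compAlgebra_isScalarTower :
    letI := compAlgebra (L := L) σ
    IsScalarTower K K₂ (IntermediateField.adjoin L (Set.range σ)) := by
  letI := compAlgebra (L := L) σ
  apply IsScalarTower.of_algebraMap_eq
  intro k
  apply Subtype.ext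
  show algebraMap K Λ k = σ (algebraMap K K₂ k)
  rw [σ.commutes]

theorem compAlgebra_adjoin_eq_top :
    letI := compAlgebra (L := L) σ
    Algebra.adjoin L (Set.range (algebraMap K₂ (IntermediateField.adjoin L (Set.range σ)))) = ⊤ := by
  letI := compAlgebra (L := L) σ
  apply Subalgebra.map_injective (f := (IntermediateField.adjoin L (Set.range σ)).val)
    Subtype.val_injective
  rw [AlgHom.map_adjoin, Algebra.map_top, IntermediateField.range_val,
    IntermediateField.adjoin_toSubalgebra, ← Set.range_comp]
  rfl

end comp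

section sol

variable (B K L K₂ : Type u) [CommRing B] [IsLocalRing B] [Field K] [Field L] [Field K₂]
  [Algebra K L] [Algebra K K₂] [Algebra B L]
  {Λ : Type u} [Field Λ] [Algebra K Λ] [Algebra L Λ] [IsScalarTower K L Λ]
  [Algebra.IsAlgebraic L Λ]

set_option maxHeartbeats 1600000 in
/-- Evaluate the solution property at the compositum attached to an embedding `σ : K₂ → Λ`. -/
theorem solution_at_embedding (hsol : EtRam.IsSolution B K L K₂) (σ : K₂ →ₐ[K] Λ)
    (W : ValuationSubring Λ)
    (hW : EtRam.Dominates B ((algebraMap L Λ).comp (algebraMap B L)) W) :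
    ∃ (M₂ : Type u) (_ : Field M₂) (f₂ : K₂ →+* M₂) (m₂ : M₂ →+* Λ),
      (∀ k, m₂ (f₂ k) = σ k) ∧
      (∀ x : Λ, x ∈ IntermediateField.adjoin L (Set.range σ) ↔ ∃ y : M₂, m₂ y = x) ∧
      (letI : Algebra ((W.comap m₂).comap f₂) (W.comap m₂) :=
          (EtRam.inclOfComap (W.comap m₂) f₂).toAlgebra;
        EtRam.IsWeaklyUnramified ((W.comap m₂).comap f₂) (W.comap m₂)) ∧
      @Algebra.IsGeometricallyReduced (ResidueField ((W.comap m₂).comap f₂))
        (ResidueField (W.comap m₂)) _ _
        (ResidueField.map (EtRam.inclOfComap (W.comap m₂) f₂)).toAlgebra := by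
  letI := compAlgebra (L := L) σ
  haveI := compAlgebra_isScalarTower (L := L) σ
  have hgen := compAlgebra_adjoin_eq_top (L := L) σ
  have hdom : EtRam.Dominates B
      ((algebraMap L (IntermediateField.adjoin L (Set.range σ))).comp (algebraMap B L))
      (W.comap (algebraMap (IntermediateField.adjoin L (Set.range σ)) Λ)) :=
    DvrExtH8.dominates_of_comap _ (algebraMap (IntermediateField.adjoin L (Set.range σ)) Λ) W
      ((algebraMap L Λ).comp (algebraMap B L)) (fun a => rfl) hW
  have h := hsol (IntermediateField.adjoin L (Set.range σ)) hgen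
    (W.comap (algebraMap (IntermediateField.adjoin L (Set.range σ)) Λ)) hdom
  refine ⟨IntermediateField.adjoin L (Set.range σ), inferInstance,
    algebraMap K₂ (IntermediateField.adjoin L (Set.range σ)),
    algebraMap (IntermediateField.adjoin L (Set.range σ)) Λ, fun k => rfl, fun x => ⟨?_, ?_⟩,
    h.1, h.2⟩
  · intro hx
    exact ⟨⟨x, hx⟩, rfl⟩
  · rintro ⟨y, rfl⟩
    exact y.2

end sol

section fin

variable (B K L K₂ : Type u) [CommRing B] [Field K] [Field L] [Field K₂]
  [Algebra K L] [Algebra K K₂] [Algebra B L] [FiniteDimensional K K₂]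
  {Λ : Type u} [Field Λ] [Algebra K Λ] [Algebra L Λ] [IsScalarTower K L Λ]
  [Algebra.IsAlgebraic L Λ] [Algebra B Λ] [IsScalarTower B L Λ]

set_option maxHeartbeats 1600000 in
/-- Finite generation of the integral elements of the compositum (from the Nagata property). -/
theorem exists_finite_generators
    (hN : ∀ (M' : Type u) [Field M'] [Algebra B M'] [Algebra L M'] [IsScalarTower B L M'],
      FiniteDimensional L M' → Module.Finite B (integralClosure B M'))
    (σ : K₂ →ₐ[K] Λ) :
    ∃ T : Finset Λ, (∀ t ∈ T, t ∈ IntermediateField.adjoin L (Set.range σ)) ∧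
      ∀ y ∈ IntermediateField.adjoin L (Set.range σ), IsIntegral B y →
        y ∈ Submodule.span B (T : Set Λ) := by
  classical
  letI := compAlgebra (L := L) σ
  haveI := compAlgebra_isScalarTower (L := L) σ
  have hgen := compAlgebra_adjoin_eq_top (L := L) σ
  have hfd : FiniteDimensional L (IntermediateField.adjoin L (Set.range σ)) :=
    GRedH8.finiteDimensional_of_adjoin K L K₂ _ hgen
  haveI hfin : Module.Finite B (integralClosure B (IntermediateField.adjoin L (Set.range σ))) :=
    hN _ hfd
  obtain ⟨S, hS⟩ := (Module.Finite.fg_top (R := B)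
    (M := integralClosure B (IntermediateField.adjoin L (Set.range σ))))
  haveI : IsScalarTower B (IntermediateField.adjoin L (Set.range σ)) Λ :=
    IsScalarTower.of_algebraMap_eq (fun _ => rfl)
  obtain ⟨ψ, hψ⟩ : ∃ ψ : integralClosure B (IntermediateField.adjoin L (Set.range σ)) →ₗ[B] Λ,
      ∀ x, ψ x = ((x : IntermediateField.adjoin L (Set.range σ)) : Λ) :=
    ⟨((IsScalarTower.toAlgHom B (IntermediateField.adjoin L (Set.range σ)) Λ).toLinearMap).comp
      (integralClosure B (IntermediateField.adjoin L (Set.range σ))).val.toLinearMap,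
      fun x => rfl⟩
  refine ⟨S.image ψ, ?_, ?_⟩
  · intro t ht
    obtain ⟨s, -, rfl⟩ := Finset.mem_image.mp ht
    rw [hψ]
    exact (s : IntermediateField.adjoin L (Set.range σ)).2
  · intro y hy hyint
    have hy' : IsIntegral B (⟨y, hy⟩ : IntermediateField.adjoin L (Set.range σ)) := by
      rw [← isIntegral_algebraMap_iff (B := Λ)
        (algebraMap (IntermediateField.adjoin L (Set.range σ)) Λ).injective]
      exact hyint
    have h1 : (⟨⟨y, hy⟩, hy'⟩ : integralClosure B (IntermediateField.adjoin L (Set.range σ))) ∈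
        Submodule.span B (S : Set _) := by
      rw [hS]
      exact Submodule.mem_top
    have h2 := Submodule.apply_mem_span_image_of_mem_span ψ h1
    rw [hψ] at h2
    rw [Finset.coe_image]
    exact h2

end fin

end Groth.Agent.Lib.InsepSolH8
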