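import Mathlib
import Groth.Prelude.Def_EtRam
import Groth.Agent.Lib.GRedDvr8_helper8
import Groth.Agent.Lib.InsepSol8_helper8

/-!
# Valuation subrings of finite extensions are DVRs; solutions are preserved by enlarging (helper8)
-/

set_option autoImplicit false
universe u

namespace Groth.Agent.Lib.SHDvrH8

open IsLocalRing

/-- A valuation subring of a finite extension of the fraction field of a DVR `A`, dominating `A`,
is a discrete valuation ring. -/
theorem isDVR_of_dominates (A K : Type u) [CommRing A] [IsDomain A] [IsDiscreteValuationRing A]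
    [Field K] [Algebra A K] [IsFractionRing A K] (E : Type u) [Field E] [Algebra K E]
    [FiniteDimensional K E] (V : ValuationSubring E)
    (h : EtRam.Dominates A ((algebraMap K E).comp (algebraMap A K)) V) :
    IsDiscreteValuationRing V := by
  haveI : IsNoetherianRing V := GRedH8.isNoetherianRing_valuationSubring K E V h.1
  obtain ⟨ϖ, hirr⟩ := IsDiscreteValuationRing.exists_irreducible A
  have hϖm : ϖ ∈ maximalIdeal A := by
    rw [hirr.maximalIdeal_eq]; exact Ideal.mem_span_singleton_self ϖ
  have hlt := h.2 ϖ hϖm
  have hne : ((algebraMap K E).comp (algebraMap A K)) ϖ ≠ 0 := by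
    rw [RingHom.comp_apply]
    exact (map_ne_zero _).mpr ((map_ne_zero_iff _ (IsFractionRing.injective A K)).mpr hirr.ne_zero)
  have hnf : ¬ IsField V := by
    intro hf
    have hmem : ((algebraMap K E).comp (algebraMap A K)) ϖ ∈ V := h.1 ϖ
    have hx0 : (⟨_, hmem⟩ : V) ≠ 0 := fun h0 => hne (congrArg Subtype.val h0)
    obtain ⟨y, hy⟩ := hf.mul_inv_cancel hx0
    have hu : IsUnit (⟨_, hmem⟩ : V) := IsUnit.of_mul_eq_one _ hy
    have := (V.valuation_eq_one_iff _).mp hu
    exact absurd this (ne_of_lt hlt)
  exact ((IsDiscreteValuationRing.TFAE V hnf).out 0 1).mpr (inferInstance : ValuationRing V)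


set_option maxHeartbeats 1600000 in
/-- Solutions are preserved by enlarging the finite extension. -/
theorem isSolution_of_algHom (A B K L : Type u) [CommRing A] [IsDomain A]
    [IsDiscreteValuationRing A] [CommRing B] [IsDomain B] [IsDiscreteValuationRing B]
    [Algebra A B] [IsLocalHom (algebraMap A B)]
    [Field K] [Field L] [Algebra A K] [IsFractionRing A K] [Algebra B L] [IsFractionRing B L]
    [Algebra K L] [Algebra A L] [IsScalarTower A K L] [IsScalarTower A B L]
    (K₁ K₂ : Type u) [Field K₁] [Field K₂] [Algebra K K₁] [Algebra K K₂]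
    [FiniteDimensional K K₁] [FiniteDimensional K K₂]
    (σ : K₁ →ₐ[K] K₂) (hsol : EtRam.IsSolution B K L K₁) : EtRam.IsSolution B K L K₂ := by
  intro M₂ _ _ _ _ _ _ hgen W₂ hdW
  haveI : FiniteDimensional L M₂ := GRedH8.finiteDimensional_of_adjoin K L K₂ M₂ hgen
  let σ' : K₁ →ₐ[K] M₂ := (IsScalarTower.toAlgHom K K₂ M₂).comp σ
  letI := InsepSolH8.compAlgebra (L := L) σ'
  haveI := InsepSolH8.compAlgebra_isScalarTower (L := L) σ'
  have hgenN := InsepSolH8.compAlgebra_adjoin_eq_top (L := L) σ'
  obtain ⟨N, hN⟩ : ∃ N : IntermediateField L M₂, N = IntermediateField.adjoin L (Set.range σ') :=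
    ⟨_, rfl⟩
  obtain ⟨WN, hWN⟩ : ∃ WN : ValuationSubring (IntermediateField.adjoin L (Set.range σ')),
      WN = W₂.comap (algebraMap (IntermediateField.adjoin L (Set.range σ')) M₂) := ⟨_, rfl⟩
  have hdom : EtRam.Dominates B
      ((algebraMap L (IntermediateField.adjoin L (Set.range σ'))).comp (algebraMap B L)) WN := by
    rw [hWN]
    exact DvrExtH8.dominates_of_comap _
      (algebraMap (IntermediateField.adjoin L (Set.range σ')) M₂) W₂
      ((algebraMap L M₂).comp (algebraMap B L)) (fun a => rfl) hdW
  have h := hsol (IntermediateField.adjoin L (Set.range σ')) hgenN WN hdom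
  dsimp only at h
  obtain ⟨hwu, hgr⟩ := h
  -- DVR instances
  haveI : FiniteDimensional L (IntermediateField.adjoin L (Set.range σ')) :=
    inferInstance
  haveI dvrWN : IsDiscreteValuationRing WN :=
    isDVR_of_dominates B L (IntermediateField.adjoin L (Set.range σ')) WN hdom
  have hdomA : EtRam.Dominates A ((algebraMap K K₁).comp (algebraMap A K))
      (WN.comap (algebraMap K₁ (IntermediateField.adjoin L (Set.range σ')))) := by
    refine DvrExtH8.dominates_of_comap _
      (algebraMap K₁ (IntermediateField.adjoin L (Set.range σ'))) WN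
      (((algebraMap L (IntermediateField.adjoin L (Set.range σ'))).comp (algebraMap B L)).comp
        (algebraMap A B)) (fun a => ?_) ?_
    · apply Subtype.ext
      show algebraMap L M₂ (algebraMap B L (algebraMap A B a)) =
        σ' (algebraMap K K₁ (algebraMap A K a))
      rw [σ'.commutes, ← IsScalarTower.algebraMap_apply A B L,
        IsScalarTower.algebraMap_apply A K L, ← IsScalarTower.algebraMap_apply K L M₂]
    · have hle : (maximalIdeal A).map (algebraMap A B) ≤ maximalIdeal B :=
        ((local_hom_TFAE (algebraMap A B)).out 0 2).mp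
          (inferInstance : IsLocalHom (algebraMap A B))
      exact ⟨fun a => hdom.1 _, fun a ha => hdom.2 _ (hle (Ideal.mem_map_of_mem _ ha))⟩
  haveI dvrV₁ : IsDiscreteValuationRing
      (WN.comap (algebraMap K₁ (IntermediateField.adjoin L (Set.range σ')))) :=
    isDVR_of_dominates A K K₁ _ hdomA
  letI algVW : Algebra (WN.comap (algebraMap K₁ (IntermediateField.adjoin L (Set.range σ')))) WN :=
    (EtRam.inclOfComap WN
      (algebraMap K₁ (IntermediateField.adjoin L (Set.range σ')))).toAlgebra
  haveI locVW : IsLocalHom (algebraMap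
      (WN.comap (algebraMap K₁ (IntermediateField.adjoin L (Set.range σ')))) WN) :=
    EtRam.isLocalHom_inclOfComap WN _
  haveI hgr' : Algebra.IsGeometricallyReduced
      (ResidueField (WN.comap (algebraMap K₁ (IntermediateField.adjoin L (Set.range σ')))))
      (ResidueField WN) := by
    have hinst : (ResidueField.map (EtRam.inclOfComap WN
        (algebraMap K₁ (IntermediateField.adjoin L (Set.range σ'))))).toAlgebra =
        (ResidueField.instAlgebra : Algebra
          (ResidueField (WN.comap (algebraMap K₁ (IntermediateField.adjoin L (Set.range σ')))))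
          (ResidueField WN)) := by
      apply Algebra.algebra_ext
      intro x
      obtain ⟨r, rfl⟩ := residue_surjective x
      rfl
    rw [← hinst]
    exact hgr
  letI algK₁K₂ : Algebra K₁ K₂ := σ.toRingHom.toAlgebra
  haveI : IsScalarTower K K₁ K₂ := IsScalarTower.of_algebraMap_eq (fun x => (σ.commutes x).symm)
  haveI : FiniteDimensional K₁ K₂ := FiniteDimensional.right K K₁ K₂
  letI algK₁M₂ : Algebra K₁ M₂ := σ'.toRingHom.toAlgebra
  haveI : IsScalarTower K₁ (IntermediateField.adjoin L (Set.range σ')) M₂ :=
    IsScalarTower.of_algebraMap_eq (fun x => rfl)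
  haveI : IsScalarTower K₁ K₂ M₂ := IsScalarTower.of_algebraMap_eq (fun x => rfl)
  letI algVN : Algebra (WN.comap (algebraMap K₁ (IntermediateField.adjoin L (Set.range σ'))))
      (IntermediateField.adjoin L (Set.range σ')) :=
    ((algebraMap K₁ (IntermediateField.adjoin L (Set.range σ'))).comp
      (algebraMap (WN.comap (algebraMap K₁ (IntermediateField.adjoin L (Set.range σ')))) K₁)).toAlgebra
  haveI : IsScalarTower (WN.comap (algebraMap K₁ (IntermediateField.adjoin L (Set.range σ')))) K₁
      (IntermediateField.adjoin L (Set.range σ')) := IsScalarTower.of_algebraMap_eq (fun _ => rfl)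
  haveI : IsScalarTower (WN.comap (algebraMap K₁ (IntermediateField.adjoin L (Set.range σ')))) WN
      (IntermediateField.adjoin L (Set.range σ')) := IsScalarTower.of_algebraMap_eq (fun _ => rfl)
  have hgen' : Algebra.adjoin (IntermediateField.adjoin L (Set.range σ'))
      (Set.range (algebraMap K₂ M₂)) = ⊤ := by
    rw [eq_top_iff]
    intro x _
    have hx : x ∈ Algebra.adjoin L (Set.range (algebraMap K₂ M₂)) := by rw [hgen]; trivial
    have hle : Algebra.adjoin L (Set.range (algebraMap K₂ M₂)) ≤
        (Algebra.adjoin (IntermediateField.adjoin L (Set.range σ'))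
          (Set.range (algebraMap K₂ M₂))).restrictScalars L :=
      Algebra.adjoin_le (fun y hy => Algebra.subset_adjoin hy)
    exact hle hx
  have hdW' : EtRam.Dominates WN
      ((algebraMap (IntermediateField.adjoin L (Set.range σ')) M₂).comp
        (algebraMap WN (IntermediateField.adjoin L (Set.range σ')))) W₂ := by
    subst hWN
    exact DvrExtH8.dominates_comap _ W₂
  exact GRedH8.solution_local
    (WN.comap (algebraMap K₁ (IntermediateField.adjoin L (Set.range σ')))) WN K₁
    (IntermediateField.adjoin L (Set.range σ')) hwu K₂ M₂ hgen' W₂ hdW'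

end Groth.Agent.Lib.SHDvrH8
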