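import Mathlib
import Groth.Prelude.Def_EtRam
import Groth.Agent.Lib.EppB1_helper8
import Groth.Agent.Lib.SHDvr6_helper8

/-!
# Maps between the valuation rings `V ∩ X → V ∩ Y` (helper8)
-/

set_option autoImplicit false
universe u

namespace Groth.Agent.Lib.EppFinH8

open IsLocalRing

variable {Ω : Type u} [Field Ω] (V : ValuationSubring Ω)

section pair

variable (X Y : Type u) [Field X] [Field Y] [Algebra X Y] [Algebra X Ω] [Algebra Y Ω]
  [IsScalarTower X Y Ω]

/-- The inclusion `V ∩ X → V ∩ Y`. -/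
def OOmap : OO V X →+* OO V Y :=
  RingHom.codRestrict ((algebraMap X Y).comp (OO V X).subtype) (OO V Y) (fun x => by
    rw [mem_OO_iff, RingHom.comp_apply, ← IsScalarTower.algebraMap_apply]
    exact OO_val_le_one V x)

@[simp] theorem OOmap_coe (x : OO V X) : ((OOmap V X Y x : OO V Y) : Y) = algebraMap X Y (x : X) :=
  rfl

theorem OOι_OOmap (x : OO V X) : OOι V Y (OOmap V X Y x) = OOι V X x := by
  simp only [OOι_apply, OOmap_coe, ← IsScalarTower.algebraMap_apply]

theorem OOmap_injective : Function.Injective (OOmap V X Y) := by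
  intro a b hab
  apply OOι_injective V X
  rw [← OOι_OOmap V X Y, ← OOι_OOmap V X Y, hab]

instance isLocalHom_OOmap : IsLocalHom (OOmap V X Y) := by
  constructor
  intro a ha
  rw [isUnit_OO_iff] at ha ⊢
  rwa [OOι_OOmap] at ha

theorem dominates_OO :
    EtRam.Dominates (OO V X) ((algebraMap X Y).comp (algebraMap (OO V X) X)) (OO V Y) := by
  refine ⟨fun a => (OOmap V X Y a).2, fun a ha => ?_⟩
  rw [DvrExtH8.comap_valuation_lt_one_iff]
  have := (mem_maximalIdeal_OO_iff V a).mp ha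
  rw [RingHom.comp_apply, ← IsScalarTower.algebraMap_apply]
  exact this

/-- `V ∩ Y` is a DVR when `Y / X` is finite and `V ∩ X` is a DVR. -/
theorem isDVR_OO_of_finite [IsDiscreteValuationRing (OO V X)] [FiniteDimensional X Y] :
    IsDiscreteValuationRing (OO V Y) :=
  Groth.Agent.Lib.SHDvrH8.isDVR_of_dominates (OO V X) X Y (OO V Y) (dominates_OO V X Y)

variable {X Y}

/-- weak unramifiedness from the value-group statement -/
theorem isWeaklyUnramified_of_WU
    (h : WU V (Set.range (algebraMap X Ω)) (Set.range (algebraMap Y Ω))) :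
    letI : Algebra (OO V X) (OO V Y) := (OOmap V X Y).toAlgebra
    EtRam.IsWeaklyUnramified (OO V X) (OO V Y) := by
  letI : Algebra (OO V X) (OO V Y) := (OOmap V X Y).toAlgebra
  obtain ⟨_, ⟨ϖ', rfl⟩, hϖ0, hϖ1, hgen⟩ := h
  have hϖ'0 : ϖ' ≠ 0 := (map_ne_zero _).mp hϖ0
  obtain ⟨ϖ, hϖdef⟩ : ∃ ϖ : OO V X, ϖ = OOmk V ϖ' hϖ1.le := ⟨_, rfl⟩
  have hιϖ : OOι V X ϖ = algebraMap X Ω ϖ' := by rw [hϖdef]; rfl
  have hϖne : ϖ ≠ 0 := by
    intro h0
    apply hϖ'0
    have := congrArg Subtype.val h0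
    rw [hϖdef] at this
    exact this
  have hX : maximalIdeal (OO V X) = Ideal.span {ϖ} := by
    apply maximalIdeal_eq_span_of_gen V ϖ hϖne (by rw [hιϖ]; exact hϖ1)
    intro y hy
    rw [hιϖ]
    have := hgen (algebraMap Y Ω (algebraMap X Y y)) ⟨_, rfl⟩
      ((map_ne_zero _).mpr ((map_ne_zero _).mpr hy))
    rwa [← IsScalarTower.algebraMap_apply] at this
  have hY : maximalIdeal (OO V Y) = Ideal.span {OOmap V X Y ϖ} := by
    apply maximalIdeal_eq_span_of_gen V _ ((map_ne_zero_iff _ (OOmap_injective V X Y)).mpr hϖne)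
      (by rw [OOι_OOmap, hιϖ]; exact hϖ1)
    intro y hy
    rw [OOι_OOmap, hιϖ]
    exact hgen _ ⟨y, rfl⟩ ((map_ne_zero _).mpr hy)
  show Ideal.map (algebraMap (OO V X) (OO V Y)) (maximalIdeal (OO V X)) = maximalIdeal (OO V Y)
  rw [hX, hY, Ideal.map_span, Set.image_singleton]
  rfl

/-- the value-group statement from weak unramifiedness -/
theorem WU_of_isWeaklyUnramified [IsDiscreteValuationRing (OO V X)]
    [IsDiscreteValuationRing (OO V Y)]
    (h : letI : Algebra (OO V X) (OO V Y) := (OOmap V X Y).toAlgebra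
      EtRam.IsWeaklyUnramified (OO V X) (OO V Y)) :
    WU V (Set.range (algebraMap X Ω)) (Set.range (algebraMap Y Ω)) := by
  letI : Algebra (OO V X) (OO V Y) := (OOmap V X Y).toAlgebra
  obtain ⟨ϖ, hϖ⟩ := IsDiscreteValuationRing.exists_irreducible (OO V X)
  have h' : Ideal.map (algebraMap (OO V X) (OO V Y)) (maximalIdeal (OO V X)) =
      maximalIdeal (OO V Y) := h
  rw [hϖ.maximalIdeal_eq, Ideal.map_span, Set.image_singleton] at h'
  have hirr : Irreducible (OOmap V X Y ϖ) :=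
    (IsDiscreteValuationRing.irreducible_iff_uniformizer _).mpr h'.symm
  refine ⟨OOι V X ϖ, ⟨_, rfl⟩, OOι_ne_zero V hϖ.ne_zero, irreducible_val_lt_one V hϖ, ?_⟩
  rintro _ ⟨y, rfl⟩ hy
  have := gen_of_irreducible V hirr y ((map_ne_zero _).mp hy)
  rwa [OOι_OOmap] at this

end pair

end Groth.Agent.Lib.EppFinH8
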