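import Mathlib
import Groth.Agent.Lib.GRedDvr5_helper8

/-!
# Elements of a valuation subring lying in the fraction field of a smaller valuation ring;
the compositum of a finite extension with an arbitrary extension (helper8)
-/

set_option autoImplicit false
universe u

namespace Groth.Agent.Lib.SHDvrH8

open IsLocalRing

/-- Let `θ : S₁ → Λ` be an injective map from a valuation ring into a field with a valuation
subring `V` such that `θ` reflects `V.valuation < 1` into the maximal ideal. An element of `V`
lying in the subfield generated by `θ(S₁)` comes from `S₁`. -/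
theorem exists_of_mem_closure {S₁ Λ : Type u} [CommRing S₁] [IsDomain S₁] [ValuationRing S₁]
    [Field Λ] (θ : S₁ →+* Λ) (hθ : Function.Injective θ) (V : ValuationSubring Λ)
    (hm : ∀ s, V.valuation (θ s) < 1 ↔ s ∈ maximalIdeal S₁)
    (x : Λ) (hxV : x ∈ V) (hx : x ∈ Subfield.closure (Set.range θ)) : ∃ s, θ s = x := by
  rw [Subfield.mem_closure_iff] at hx
  obtain ⟨y, hy, z, hz, rfl⟩ := hx
  have hcl : Subring.closure (Set.range θ) = θ.range := by
    rw [← RingHom.coe_range]; exact Subring.closure_eq _
  rw [hcl] at hy hz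
  obtain ⟨a, rfl⟩ := hy
  obtain ⟨b, rfl⟩ := hz
  by_cases hb : b = 0
  · refine ⟨0, ?_⟩
    simp [hb]
  have hθb : θ b ≠ 0 := fun h0 => hb (hθ (by rw [h0, map_zero]))
  obtain ⟨c, hc | hc⟩ := ValuationRing.cond a b
  · -- a * c = b
    by_cases ha : a = 0
    · refine ⟨0, ?_⟩
      simp [ha]
    have hθa : θ a ≠ 0 := fun h0 => ha (hθ (by rw [h0, map_zero]))
    by_cases hcu : IsUnit c
    · obtain ⟨u, rfl⟩ := hcu
      refine ⟨((u⁻¹ : S₁ˣ) : S₁), ?_⟩
      rw [eq_div_iff hθb, ← hc, map_mul, mul_comm (θ a), ← mul_assoc, ← map_mul, Units.inv_mul,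
        map_one, one_mul]
    · exfalso
      have hcm : c ∈ maximalIdeal S₁ := hcu
      have h1 : V.valuation (θ c) < 1 := (hm c).mpr hcm
      have hθc : θ c ≠ 0 := by
        intro h0
        apply hθb
        rw [← hc, map_mul, h0, mul_zero]
      have h2 : θ a / θ b * θ c = 1 := by
        rw [← hc, map_mul]
        field_simp
      have h3 : V.valuation (θ a / θ b) ≤ 1 := (V.valuation_le_one_iff _).mpr hxV
      have h4 : V.valuation (θ a / θ b) * V.valuation (θ c) = 1 := by
        rw [← map_mul, h2, map_one]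
      have h5 : V.valuation (θ a / θ b) * V.valuation (θ c) < 1 := by
        rw [mul_comm]
        exact mul_lt_one_of_lt_of_le h1 h3
      exact absurd h4 (ne_of_lt h5)
  · -- b * c = a
    refine ⟨c, ?_⟩
    rw [eq_div_iff hθb, ← hc, map_mul, mul_comm]

section comp

variable (K K' K₁ Λ : Type u) [Field K] [Field K'] [Field K₁] [Field Λ]
  [Algebra K K'] [Algebra K K₁] [Algebra K Λ] [Algebra K' Λ] [Algebra K₁ Λ]
  [IsScalarTower K K' Λ] [IsScalarTower K K₁ Λ]

/-- the `K₁`-algebra structure on the compositum `K'(K₁)` inside `Λ` -/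
noncomputable abbrev compAlg :
    Algebra K₁ (IntermediateField.adjoin K' (Set.range (algebraMap K₁ Λ))) :=
  ((algebraMap K₁ Λ).codRestrict (IntermediateField.adjoin K' (Set.range (algebraMap K₁ Λ)))
    (fun k => IntermediateField.subset_adjoin K' _ ⟨k, rfl⟩)).toAlgebra

theorem compAlg_isScalarTower :
    letI := compAlg K' K₁ Λ
    IsScalarTower K K₁ (IntermediateField.adjoin K' (Set.range (algebraMap K₁ Λ))) := by
  letI := compAlg K' K₁ Λ
  apply IsScalarTower.of_algebraMap_eq
  intro k
  apply Subtype.ext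
  show algebraMap K Λ k = algebraMap K₁ Λ (algebraMap K K₁ k)
  rw [← IsScalarTower.algebraMap_apply]

theorem compAlg_finiteDimensional [FiniteDimensional K K₁] :
    FiniteDimensional K' (IntermediateField.adjoin K' (Set.range (algebraMap K₁ Λ))) := by
  letI := compAlg K' K₁ Λ
  haveI := compAlg_isScalarTower K K' K₁ Λ
  apply GRedH8.finiteDimensional_of_adjoin K K' K₁
  have halg : ∀ x ∈ Set.range (algebraMap K₁ Λ), IsAlgebraic K' x := by
    rintro _ ⟨k, rfl⟩
    have h1 : IsAlgebraic K k := Algebra.IsAlgebraic.isAlgebraic k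
    have h2 : IsAlgebraic K (algebraMap K₁ Λ k) := h1.algebraMap
    exact h2.tower_top K'
  apply Subalgebra.map_injective
    (f := (IntermediateField.adjoin K' (Set.range (algebraMap K₁ Λ))).val) Subtype.val_injective
  rw [AlgHom.map_adjoin, Algebra.map_top, IntermediateField.range_val,
    IntermediateField.adjoin_toSubalgebra_of_isAlgebraic halg, ← Set.range_comp]
  rfl

end comp

end Groth.Agent.Lib.SHDvrH8
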