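import Mathlib
import Groth.Prelude.Def_EtRam
import Groth.Agent.Lib.EppB2_helper8
import Groth.Agent.Lib.SHDvr10_helper8

/-!
# From an abstract weak solution to the value-group statement inside `Ω` (helper8)
-/

set_option autoImplicit false
universe u

namespace Groth.Agent.Lib.EppFinH8

open IsLocalRing

variable {Ω : Type u} [Field Ω] [IsAlgClosed Ω] (V : ValuationSubring Ω)

set_option maxHeartbeats 1600000 in
theorem WU_of_isWeakSolution (X F : Type u) [Field X] [Field F] [Algebra X F] [Algebra X Ω]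
    [Algebra F Ω] [IsScalarTower X F Ω] [IsDiscreteValuationRing (OO V X)]
    [IsDiscreteValuationRing (OO V F)] (K₁ : Type u) [Field K₁] [Algebra X K₁]
    [FiniteDimensional X K₁] (hws : EtRam.IsWeakSolution (OO V F) X F K₁) :
    ∃ K₁' : IntermediateField X Ω, FiniteDimensional X K₁' ∧
      WU V (K₁' : Set Ω) (IntermediateField.adjoin F (K₁' : Set Ω) : Set Ω) := by
  obtain ⟨σ⟩ : Nonempty (K₁ →ₐ[X] Ω) := ⟨IsAlgClosed.lift⟩
  letI aK₁Ω : Algebra K₁ Ω := σ.toRingHom.toAlgebra
  haveI : IsScalarTower X K₁ Ω := IsScalarTower.of_algebraMap_eq (fun x => (σ.commutes x).symm)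
  refine ⟨σ.fieldRange, ?_, ?_⟩
  · exact (AlgEquiv.ofInjectiveField σ).toLinearEquiv.finiteDimensional
  have hrange : ((σ.fieldRange : IntermediateField X Ω) : Set Ω) = Set.range (algebraMap K₁ Ω) :=
    AlgHom.coe_fieldRange σ
  rw [hrange]
  -- the compositum
  letI aK₁M := Groth.Agent.Lib.SHDvrH8.compAlg F K₁ Ω
  haveI tXK₁M := Groth.Agent.Lib.SHDvrH8.compAlg_isScalarTower X F K₁ Ω
  haveI fdM := Groth.Agent.Lib.SHDvrH8.compAlg_finiteDimensional X F K₁ Ω
  have hgen : Algebra.adjoin F (Set.range (algebraMap K₁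
      (IntermediateField.adjoin F (Set.range (algebraMap K₁ Ω))))) = ⊤ := by
    have halg : ∀ x ∈ Set.range (algebraMap K₁ Ω), IsAlgebraic F x := by
      rintro _ ⟨k, rfl⟩
      have h1 : IsAlgebraic X k := Algebra.IsAlgebraic.isAlgebraic k
      have h2 : IsAlgebraic X (algebraMap K₁ Ω k) := h1.algebraMap
      exact h2.tower_top F
    apply Subalgebra.map_injective
      (f := (IntermediateField.adjoin F (Set.range (algebraMap K₁ Ω))).val) Subtype.val_injective
    rw [AlgHom.map_adjoin, Algebra.map_top, IntermediateField.range_val,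
      IntermediateField.adjoin_toSubalgebra_of_isAlgebraic halg, ← Set.range_comp]
    rfl
  -- the valuation subring of the compositum
  have hdomW := dominates_OO V F (IntermediateField.adjoin F (Set.range (algebraMap K₁ Ω)))
  have h := hws (IntermediateField.adjoin F (Set.range (algebraMap K₁ Ω))) hgen
    (OO V (IntermediateField.adjoin F (Set.range (algebraMap K₁ Ω)))) hdomW
  haveI hdvrW : IsDiscreteValuationRing
      (OO V (IntermediateField.adjoin F (Set.range (algebraMap K₁ Ω)))) :=
    isDVR_OO_of_finite V F _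
  -- the valuation subring of K₁
  obtain ⟨W, hW⟩ : ∃ W, W = OO V (IntermediateField.adjoin F (Set.range (algebraMap K₁ Ω))) :=
    ⟨_, rfl⟩
  obtain ⟨f, hf⟩ : ∃ f : K₁ →+* (IntermediateField.adjoin F (Set.range (algebraMap K₁ Ω))),
      f = algebraMap K₁ _ := ⟨_, rfl⟩
  rw [← hW, ← hf] at h
  rw [← hW] at hdvrW
  have hfΩ : ∀ k : K₁, algebraMap (IntermediateField.adjoin F (Set.range (algebraMap K₁ Ω))) Ω
      (f k) = algebraMap K₁ Ω k := by
    intro k; rw [hf]; rfl
  have hdom₁ : EtRam.Dominates (OO V X) ((algebraMap X K₁).comp (algebraMap (OO V X) X))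
      (W.comap f) := by
    refine ⟨fun a => ?_, fun a ha => ?_⟩
    · rw [ValuationSubring.mem_comap, hW, mem_OO_iff, hfΩ, RingHom.comp_apply,
        ← IsScalarTower.algebraMap_apply]
      exact OO_val_le_one V a
    · rw [DvrExtH8.comap_valuation_lt_one_iff, hW, DvrExtH8.comap_valuation_lt_one_iff, hfΩ,
        RingHom.comp_apply, ← IsScalarTower.algebraMap_apply]
      exact (mem_maximalIdeal_OO_iff V a).mp ha
  haveI hdvr₁ : IsDiscreteValuationRing (W.comap f) :=
    Groth.Agent.Lib.SHDvrH8.isDVR_of_dominates (OO V X) X K₁ (W.comap f) hdom₁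
  obtain ⟨ϖ, hϖ⟩ := IsDiscreteValuationRing.exists_irreducible (W.comap f)
  letI : Algebra (W.comap f) W := (EtRam.inclOfComap W f).toAlgebra
  have h' : Ideal.map (algebraMap (W.comap f) W) (maximalIdeal (W.comap f)) = maximalIdeal W := h
  rw [hϖ.maximalIdeal_eq, Ideal.map_span, Set.image_singleton] at h'
  have hirr : Irreducible (algebraMap (W.comap f) W ϖ) :=
    (IsDiscreteValuationRing.irreducible_iff_uniformizer _).mpr h'.symm
  subst hW
  have hval : OOι V (IntermediateField.adjoin F (Set.range (algebraMap K₁ Ω)))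
      (algebraMap ((OO V (IntermediateField.adjoin F (Set.range (algebraMap K₁ Ω)))).comap f)
        (OO V (IntermediateField.adjoin F (Set.range (algebraMap K₁ Ω)))) ϖ) =
      algebraMap K₁ Ω (ϖ : K₁) := hfΩ (ϖ : K₁)
  refine ⟨algebraMap K₁ Ω (ϖ : K₁), ⟨_, rfl⟩, ?_, ?_, ?_⟩
  · rw [← hval]; exact OOι_ne_zero V hirr.ne_zero
  · rw [← hval]; exact irreducible_val_lt_one V hirr
  · intro y hy hy0
    have := gen_of_irreducible V hirr ⟨y, hy⟩ (fun h0 => hy0 (congrArg Subtype.val h0))
    rw [hval] at this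
    exact this

end Groth.Agent.Lib.EppFinH8
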