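import Mathlib
import Groth.Agent.Lib.HensIntDom_lead
import Groth.Agent.Lib.NormVal_helper1

/-!
# Totally tamely ramified extensions of a complete DVR (helper1, S11089)
-/

open IsLocalRing

universe u

attribute [local instance] FractionRing.liftAlgebra

namespace Groth.Agent.Lib.NormValH1

theorem map_eq_pow (A B : Type u) [CommRing A] [IsDomain A] [IsDiscreteValuationRing A]
    [IsAdicComplete (IsLocalRing.maximalIdeal A) A]
    [CommRing B] [IsDedekindDomain B] [Algebra A B] [Module.Finite A B] [Module.IsTorsionFree A B]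
    (M : Ideal B) [M.IsMaximal] :
    (maximalIdeal A).map (algebraMap A B) = M ^ (M.ramificationIdx A) := by
  obtain ⟨hlo, hM0, hset, hpow⟩ := local_structure A B M
  obtain ⟨m, hm⟩ : ∃ m, m = maximalIdeal A := ⟨_, rfl⟩
  rw [← hm] at hlo hset ⊢
  haveI : m.IsMaximal := by rw [hm]; infer_instance
  haveI := hlo
  have hm0 : m ≠ ⊥ := by rw [hm]; exact IsDiscreteValuationRing.not_a_field A
  have hmap0 : m.map (algebraMap A B) ≠ ⊥ := Ideal.map_ne_bot_of_ne_bot hm0
  have hMunit : ¬ IsUnit M := by
    rw [Ideal.isUnit_iff]; exact Ideal.IsMaximal.ne_top inferInstance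
  obtain ⟨e, he⟩ := hpow (m.map (algebraMap A B)) hmap0
  have hram : M.ramificationIdx A = e := by
    rw [Ideal.IsDedekindDomain.ramificationIdx_eq_multiplicity m M hmap0, he]
    exact multiplicity_pow_self hM0 hMunit e
  rw [hram, he]

theorem sum_formula (A B : Type u) [CommRing A] [IsDomain A] [IsDiscreteValuationRing A]
    [IsAdicComplete (IsLocalRing.maximalIdeal A) A]
    [CommRing B] [IsDedekindDomain B] [Algebra A B] [Module.Finite A B] [Module.IsTorsionFree A B]
    (M : Ideal B) [M.IsMaximal] :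
    M.ramificationIdx A * M.inertiaDeg A = Module.finrank A B := by
  obtain ⟨hlo, hM0, hset, hpow⟩ := local_structure A B M
  obtain ⟨m, hm⟩ : ∃ m, m = maximalIdeal A := ⟨_, rfl⟩
  rw [← hm] at hlo hset
  haveI : m.IsMaximal := by rw [hm]; infer_instance
  classical
  have hMmem : M ∈ m.primesOver B := by rw [hset]; exact Set.mem_singleton M
  haveI : Fintype (m.primesOver B) :=
    Set.Finite.fintype (by rw [hset]; exact Set.finite_singleton M)
  have h1 := Ideal.sum_ramification_inertia_eq_finrank m B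
  rw [Fintype.sum_eq_single (⟨M, hMmem⟩ : m.primesOver B)] at h1
  · exact h1
  · intro q hq
    exfalso; apply hq
    apply Subtype.ext
    have h2 : (q : Ideal B) ∈ ({M} : Set (Ideal B)) := hset ▸ q.2
    exact h2

theorem residue_surj (A B : Type u) [CommRing A] [IsLocalRing A]
    [CommRing B] [Algebra A B] (M : Ideal B) [M.IsMaximal] [M.LiesOver (maximalIdeal A)]
    (hf1 : M.inertiaDeg A = 1) (y : B) : ∃ a : A, y - algebraMap A B a ∈ M := by
  letI : Field (A ⧸ maximalIdeal A) := Ideal.Quotient.field _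
  letI : Field (B ⧸ M) := Ideal.Quotient.field M
  have h1 : Module.finrank (A ⧸ maximalIdeal A) (B ⧸ M) = 1 := by
    rw [← Ideal.inertiaDeg_eq_of_isMaximal (maximalIdeal A) M]; exact hf1
  have h2 := Subalgebra.bot_eq_top_of_finrank_eq_one h1
  have h3 : Ideal.Quotient.mk M y ∈ (⊥ : Subalgebra (A ⧸ maximalIdeal A) (B ⧸ M)) := by
    rw [h2]; exact Algebra.mem_top
  rw [Algebra.mem_bot] at h3
  obtain ⟨abar, ha⟩ := h3
  obtain ⟨a, rfl⟩ := Ideal.Quotient.mk_surjective abar
  refine ⟨a, ?_⟩
  rw [← Ideal.Quotient.eq, ← ha]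
  rfl

theorem main11089 (A B : Type u)
    [CommRing A] [IsDomain A] [IsDiscreteValuationRing A]
    [IsAdicComplete (IsLocalRing.maximalIdeal A) A]
    [CommRing B] [IsDedekindDomain B] [Algebra A B] [Module.Finite A B] [Module.IsTorsionFree A B]
    (M : Ideal B) [M.IsMaximal] (hram : M.ramificationIdx A = Module.finrank A B)
    (hm : IsUnit ((Module.finrank A B : ℕ) : A)) :
    ∃ u : B, u ∈ M ∧ u ∉ M ^ 2 ∧ u ^ Module.finrank A B ∈ (algebraMap A B).range ∧
      (minpoly A u).natDegree = Module.finrank A B := by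
  obtain ⟨hlo, hM0, hset, hpow⟩ := local_structure A B M
  haveI := hlo
  haveI : HenselianLocalRing A := henselian_of_complete A
  haveI : IsLocalRing B := Groth.Agent.Lib.HensIntDom.isLocalRing_of_finite_domain A B
  haveI hBh : HenselianLocalRing B :=
    Groth.Agent.Lib.HensIntDom.henselian_of_integral_domain A B
  have hsum := sum_formula A B M
  have hmapp := map_eq_pow A B M
  obtain ⟨n, hn⟩ : ∃ n, n = Module.finrank A B := ⟨_, rfl⟩
  rw [← hn] at hram hm hsum ⊢
  have hMmax : M = maximalIdeal B := IsLocalRing.eq_maximalIdeal inferInstance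
  have hnf : ¬ IsField B := Ring.not_isField_iff_exists_prime.mpr ⟨M, hM0, inferInstance⟩
  haveI : IsDiscreteValuationRing B :=
    ((IsDiscreteValuationRing.TFAE B hnf).out 2 0).mp (inferInstance : IsDedekindDomain B)
  obtain ⟨ϖ, hϖ⟩ := IsDiscreteValuationRing.exists_irreducible B
  obtain ⟨π, hπ⟩ := IsDiscreteValuationRing.exists_irreducible A
  have hMϖ : M = Ideal.span {ϖ} := by rw [hMmax]; exact hϖ.maximalIdeal_eq
  have hmπ : maximalIdeal A = Ideal.span {π} := hπ.maximalIdeal_eq
  have hn0 : 0 < n := by rw [← hram]; exact Ideal.ramificationIdx_pos M A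
  rw [hram] at hmapp hsum
  have hmap : Ideal.span {algebraMap A B π} = Ideal.span {ϖ ^ n} := by
    rw [← Ideal.span_singleton_pow, ← hMϖ, ← hmapp, hmπ, Ideal.map_span, Set.image_singleton]
  obtain ⟨v, hv⟩ := Ideal.span_singleton_eq_span_singleton.mp hmap.symm
  have hf1 : M.inertiaDeg A = 1 :=
    Nat.eq_of_mul_eq_mul_left hn0 (by rw [hsum, mul_one])
  obtain ⟨a, ha⟩ := residue_surj A B M hf1 (v : B)
  have haunit : IsUnit a := by
    by_contra hna
    have ham : a ∈ maximalIdeal A := (IsLocalRing.mem_maximalIdeal a).mpr hna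
    have haM : algebraMap A B a ∈ M := by
      have h1 : a ∈ M.under A := by rw [← hlo.over]; exact ham
      exact h1
    have hvM : (v : B) ∈ M := by
      have h1 := Ideal.add_mem _ ha haM
      rwa [sub_add_cancel] at h1
    exact (Ideal.IsMaximal.ne_top inferInstance) (Ideal.eq_top_of_isUnit_mem _ hvM v.isUnit)
  obtain ⟨a', ha'⟩ := haunit.exists_right_inv
  obtain ⟨w, hw⟩ : ∃ w : B, w = (v : B) * algebraMap A B a' := ⟨_, rfl⟩
  have h2 : algebraMap A B a * algebraMap A B a' = 1 := by rw [← map_mul, ha', map_one]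
  have hw1 : 1 - w ∈ M := by
    have h1 : (1 : B) - w = -((v : B) - algebraMap A B a) * algebraMap A B a' := by
      rw [hw]
      linear_combination (-1 : B) * h2
    rw [h1]
    exact Ideal.mul_mem_right _ _ (Ideal.neg_mem_iff _ |>.mpr ha)
  have hnB : IsUnit ((n : ℕ) : B) := by
    have h1 := hm.map (algebraMap A B)
    rwa [map_natCast] at h1
  obtain ⟨z, hz, hz1⟩ := HenselianLocalRing.is_henselian (Polynomial.X ^ n - Polynomial.C w)
    (Polynomial.monic_X_pow_sub_C w hn0.ne') 1
    (by
      rw [← hMmax]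
      simpa using hw1)
    (by
      simp only [Polynomial.derivative_sub, Polynomial.derivative_X_pow, Polynomial.derivative_C,
        sub_zero, Polynomial.eval_mul, Polynomial.eval_C, Polynomial.eval_pow, Polynomial.eval_X,
        one_pow, mul_one, Polynomial.eval_natCast]
      exact hnB)
  have hzn : z ^ n = w := by
    have h1 := hz
    simp only [Polynomial.IsRoot.def, Polynomial.eval_sub, Polynomial.eval_pow, Polynomial.eval_X,
      Polynomial.eval_C] at h1
    exact sub_eq_zero.mp h1
  have hzunit : IsUnit z := by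
    by_contra hnz
    have hzM : z ∈ maximalIdeal B := (IsLocalRing.mem_maximalIdeal z).mpr hnz
    have h1 : (1 : B) ∈ maximalIdeal B := by
      have h3 := Ideal.sub_mem _ hzM hz1
      rwa [sub_sub_cancel] at h3
    exact (IsLocalRing.maximalIdeal.isMaximal B).ne_top ((Ideal.eq_top_iff_one _).mpr h1)
  have hroot : (ϖ * z) ^ n = algebraMap A B (π * a') := by
    rw [mul_pow, hzn, hw, ← mul_assoc, hv, map_mul]
  have ha'unit : IsUnit a' := IsUnit.of_mul_eq_one a (by rw [mul_comm]; exact ha')
  refine ⟨ϖ * z, ?_, ?_, ⟨π * a', hroot.symm⟩, ?_⟩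
  · rw [hMϖ]; exact Ideal.mul_mem_right _ _ (Ideal.mem_span_singleton_self ϖ)
  · rw [hMϖ, Ideal.span_singleton_pow, Ideal.mem_span_singleton]
    rintro ⟨c, hc⟩
    have hϖ0 : ϖ ≠ 0 := hϖ.ne_zero
    have h1 : z = ϖ * c := by
      apply mul_left_cancel₀ hϖ0
      rw [hc]; ring
    rw [h1] at hzunit
    exact hϖ.not_isUnit (isUnit_of_mul_isUnit_left hzunit)
  · obtain ⟨c, hc⟩ : ∃ c : A, c = π * a' := ⟨_, rfl⟩
    rw [← hc] at hroot
    have hcm : c ∈ maximalIdeal A := by
      rw [hc, hmπ]; exact Ideal.mul_mem_right _ _ (Ideal.mem_span_singleton_self π)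
    have hcm2 : c ∉ maximalIdeal A ^ 2 := by
      rw [hmπ, Ideal.span_singleton_pow, Ideal.mem_span_singleton]
      rintro ⟨d, hd⟩
      have h1 : a' = π * d := by
        apply mul_left_cancel₀ hπ.ne_zero
        rw [← hc, hd]; ring
      rw [h1] at ha'unit
      exact hπ.not_isUnit (isUnit_of_mul_isUnit_left ha'unit)
    have hint : IsIntegral A (ϖ * z) := Algebra.IsIntegral.isIntegral _
    have haev : Polynomial.aeval (ϖ * z) (Polynomial.X ^ n - Polynomial.C c : Polynomial A) = 0 := by
      simp only [map_sub, map_pow, Polynomial.aeval_X, Polynomial.aeval_C]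
      rw [hroot, sub_self]
    have hirr : Irreducible (Polynomial.X ^ n - Polynomial.C c : Polynomial A) := by
      apply Polynomial.irreducible_of_eisenstein_criterion (P := maximalIdeal A) inferInstance
      · rw [Polynomial.leadingCoeff_X_pow_sub_C hn0]
        exact fun h => (IsLocalRing.maximalIdeal.isMaximal A).ne_top
          ((Ideal.eq_top_iff_one _).mpr h)
      · intro k hk
        rw [Polynomial.degree_X_pow_sub_C hn0 c] at hk
        have hk' : k < n := by exact_mod_cast hk
        rw [Polynomial.coeff_sub, Polynomial.coeff_X_pow, Polynomial.coeff_C, if_neg hk'.ne]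
        by_cases hk0 : k = 0
        · rw [if_pos hk0, zero_sub]; exact Ideal.neg_mem_iff _ |>.mpr hcm
        · rw [if_neg hk0, sub_zero]; exact Ideal.zero_mem _
      · rw [Polynomial.degree_X_pow_sub_C hn0 c]; exact_mod_cast hn0
      · rw [Polynomial.coeff_sub, Polynomial.coeff_X_pow, Polynomial.coeff_C, if_neg hn0.ne,
          if_pos rfl, zero_sub, Ideal.neg_mem_iff]
        exact hcm2
      · exact (Polynomial.monic_X_pow_sub_C c hn0.ne').isPrimitive
    obtain ⟨q, hq⟩ := minpoly.isIntegrallyClosed_dvd hint haev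
    rcases hirr.isUnit_or_isUnit hq with h1 | h1
    · exact absurd h1 (minpoly.not_isUnit A (ϖ * z))
    · have h3 : q.natDegree = 0 := Polynomial.natDegree_eq_zero_of_isUnit h1
      have h4 := congrArg Polynomial.natDegree hq
      rw [Polynomial.natDegree_X_pow_sub_C, Polynomial.natDegree_mul (minpoly.ne_zero hint)
        h1.ne_zero, h3, add_zero] at h4
      exact h4.symm

end Groth.Agent.Lib.NormValH1
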