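import Mathlib
import Groth.Prelude.Def_EtRam
import Groth.Agent.Lib.CompleteIC_helper3
import Groth.Agent.Lib.CompleteNagata_helper3
import Groth.Agent.Lib.HensIntDom_lead
import Groth.Agent.Lib.NormVal_helper1
import Groth.Agent.Lib.NormVal2_helper1
import Groth.Agent.Lib.EisExt2_helper8
import Groth.Agent.Lib.SHDvr6_helper8

/-!
# Valuation subrings of finite extensions of a complete DVR (helper8)

A valuation subring `W` of a finite extension `E` of the fraction field of a complete DVR `A`
dominating `A` is the integral closure of `A` in `E`; it is a finite `A`-module.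
-/

set_option autoImplicit false
universe u

namespace Groth.Agent.Lib.EppFinH8

open IsLocalRing

attribute [local instance] FractionRing.liftAlgebra

theorem algebraMap_injective_AE (A K E : Type u) [CommRing A] [IsDomain A]
    [Field K] [Algebra A K] [IsFractionRing A K] [Field E] [Algebra K E] [Algebra A E]
    [IsScalarTower A K E] : Function.Injective (algebraMap A E) := by
  rw [IsScalarTower.algebraMap_eq A K E]
  exact (algebraMap K E).injective.comp (IsFractionRing.injective A K)

/-- The integral closure of a complete DVR in a finite extension is a finite module. -/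
theorem finite_integralClosure (A K E : Type u) [CommRing A] [IsDomain A]
    [IsDiscreteValuationRing A] [IsAdicComplete (maximalIdeal A) A]
    [Field K] [Algebra A K] [IsFractionRing A K] [Field E] [Algebra K E] [Algebra A E]
    [IsScalarTower A K E] [FiniteDimensional K E] : Module.Finite A (integralClosure A E) := by
  haveI : Module.IsTorsionFree A E :=
    Module.isTorsionFree_iff_algebraMap_injective.mpr (algebraMap_injective_AE A K E)
  have hN2 := Groth.Agent.Lib.CompleteNagataH3.isN2_of_complete_local_domain A
  haveI : IsScalarTower A (FractionRing A) E := FractionRing.isScalarTower_liftAlgebra A E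
  apply hN2 E
  -- finite-dimensionality over `FractionRing A`
  let e : K ≃+* FractionRing A := (FractionRing.algEquiv A K).symm.toRingEquiv
  refine Module.Finite.of_equiv_equiv (A₁ := K) (B₁ := E) e (RingEquiv.refl E) ?_
  have h1 : ((algebraMap (FractionRing A) E).comp e.toRingHom).comp (algebraMap A K) =
      (algebraMap K E).comp (algebraMap A K) := by
    ext a
    simp only [RingHom.comp_apply]
    have : e.toRingHom (algebraMap A K a) = algebraMap A (FractionRing A) a := by
      show (FractionRing.algEquiv A K).symm (algebraMap A K a) = _
      exact (FractionRing.algEquiv A K).symm.commutes a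
    rw [this, ← IsScalarTower.algebraMap_apply, ← IsScalarTower.algebraMap_apply]
  have h2 := IsLocalization.ringHom_ext (nonZeroDivisors A) h1
  ext x
  have := DFunLike.congr_fun h2 x
  simpa using this


/-- The integral closure of a complete DVR in a finite extension of its fraction field is a DVR. -/
theorem integralClosure_isDVR (A K E : Type u) [CommRing A] [IsDomain A]
    [IsDiscreteValuationRing A] [IsAdicComplete (maximalIdeal A) A]
    [Field K] [Algebra A K] [IsFractionRing A K] [Field E] [Algebra K E] [Algebra A E]
    [IsScalarTower A K E] [FiniteDimensional K E] :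
    IsDiscreteValuationRing (integralClosure A E) := by
  haveI hfin := finite_integralClosure A K E
  haveI : HenselianLocalRing A := Groth.Agent.Lib.NormValH1.henselian_of_complete A
  haveI : IsLocalRing (integralClosure A E) :=
    Groth.Agent.Lib.HensIntDom.isLocalRing_of_finite_domain A (integralClosure A E)
  haveI : IsNoetherianRing (integralClosure A E) := IsNoetherianRing.of_finite A _
  haveI : IsIntegrallyClosed (integralClosure A E) :=
    integralClosure.isIntegrallyClosedOfFiniteExtension K
  haveI : IsDedekindDomain (integralClosure A E) :=
    { toIsDomain := inferInstance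
      toIsDedekindRing := { } }
  have hinj : Function.Injective (algebraMap A (integralClosure A E)) := by
    intro a b hab
    apply algebraMap_injective_AE A K E
    have := congrArg (algebraMap (integralClosure A E) E) hab
    rwa [← IsScalarTower.algebraMap_apply, ← IsScalarTower.algebraMap_apply] at this
  have hnf : ¬ IsField (integralClosure A E) := by
    intro hf
    exact IsDiscreteValuationRing.not_isField A (isField_of_isIntegral_of_isField hinj hf)
  exact ((IsDiscreteValuationRing.TFAE (integralClosure A E) hnf).out 2 0).mp
    (inferInstance : IsDedekindDomain (integralClosure A E))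

/-- A valuation subring of `E` dominating the complete DVR `A` consists of integral elements. -/
theorem isIntegral_of_mem_of_dominates (A K E : Type u) [CommRing A] [IsDomain A]
    [IsDiscreteValuationRing A] [IsAdicComplete (maximalIdeal A) A]
    [Field K] [Algebra A K] [IsFractionRing A K] [Field E] [Algebra K E] [Algebra A E]
    [IsScalarTower A K E] [FiniteDimensional K E] (W : ValuationSubring E)
    (hdom : EtRam.Dominates A (algebraMap A E) W) {x : E} (hx : x ∈ W) : IsIntegral A x := by
  haveI := integralClosure_isDVR A K E
  haveI : IsFractionRing (integralClosure A E) E :=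
    integralClosure.isFractionRing_of_finite_extension K E
  by_contra hni
  -- `x⁻¹` lies in the integral closure
  rcases ValuationRing.isInteger_or_isInteger (integralClosure A E) x with ⟨c, hc⟩ | ⟨c, hc⟩
  · exact hni (hc ▸ c.2)
  · have hx0 : x ≠ 0 := by
      rintro rfl
      exact hni isIntegral_zero
    -- c is a non-unit
    have hcnu : ¬ IsUnit c := by
      intro hu
      obtain ⟨c', hc'⟩ := hu.exists_right_inv
      apply hni
      have : x = (c' : E) := by
        have h1 : (c : E) * (c' : E) = 1 := by
          have := congrArg (algebraMap (integralClosure A E) E) hc'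
          simpa using this
        have h2 : (c : E) = x⁻¹ := hc
        rw [h2] at h1
        field_simp at h1
        exact h1.symm
      rw [this]; exact c'.2
    -- so a power of c is divisible by a uniformizer of A
    obtain ⟨π, hπ⟩ := IsDiscreteValuationRing.exists_irreducible A
    obtain ⟨ϖ, hϖ⟩ := IsDiscreteValuationRing.exists_irreducible (integralClosure A E)
    have hπ0 : algebraMap A (integralClosure A E) π ≠ 0 := by
      intro h0
      apply hπ.ne_zero
      apply algebraMap_injective_AE A K E
      have := congrArg (algebraMap (integralClosure A E) E) h0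
      rwa [← IsScalarTower.algebraMap_apply, map_zero, ← map_zero (algebraMap A E)] at this
    obtain ⟨n, u, hn⟩ := IsDiscreteValuationRing.eq_unit_mul_pow_irreducible hπ0 hϖ
    have hcm : c ∈ maximalIdeal (integralClosure A E) := (mem_maximalIdeal c).mpr hcnu
    rw [hϖ.maximalIdeal_eq, Ideal.mem_span_singleton] at hcm
    obtain ⟨d, hd⟩ := hcm
    -- valuations in W
    have hπW : W.valuation (algebraMap A E π) < 1 :=
      hdom.2 π (by rw [hπ.maximalIdeal_eq]; exact Ideal.mem_span_singleton_self π)
    have hmemW : ∀ y : integralClosure A E, (y : E) ∈ W := fun y =>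
      EisExtH8.mem_of_isIntegral_of_dominates W hdom y.2
    have hle : ∀ y : integralClosure A E, W.valuation (y : E) ≤ 1 := fun y =>
      (W.valuation_le_one_iff _).mpr (hmemW y)
    have hπeq : algebraMap A E π = (u : integralClosure A E) * (ϖ : E) ^ n := by
      have := congrArg (algebraMap (integralClosure A E) E) hn
      rw [← IsScalarTower.algebraMap_apply] at this
      simpa using this
    have hunit : ∀ u : (integralClosure A E)ˣ, W.valuation ((u : integralClosure A E) : E) = 1 := by
      intro u
      apply le_antisymm (hle _)
      have h2 := hle ((u⁻¹ : (integralClosure A E)ˣ) : integralClosure A E)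
      have h3 : ((u : integralClosure A E) : E) * (((u⁻¹ : (integralClosure A E)ˣ) :
          integralClosure A E) : E) = 1 := by
        rw [← Subalgebra.coe_mul, Units.mul_inv, Subalgebra.coe_one]
      have h4 := congrArg W.valuation h3
      rw [map_mul, map_one] at h4
      calc (1 : W.ValueGroup) = W.valuation _ * W.valuation _ := h4.symm
        _ ≤ W.valuation _ * 1 := mul_le_mul_right h2 _
        _ = _ := mul_one _
    have hn0 : n ≠ 0 := by
      rintro rfl
      rw [pow_zero, mul_one] at hπeq
      rw [hπeq, hunit u] at hπW
      exact lt_irrefl _ hπW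
    have hϖlt : W.valuation (ϖ : E) < 1 := by
      by_contra hcon
      push Not at hcon
      have h1 : W.valuation (ϖ : E) = 1 := le_antisymm (hle ϖ) hcon
      have h2 : W.valuation (algebraMap A E π) = W.valuation ((u : integralClosure A E) : E) := by
        rw [hπeq, map_mul, map_pow, h1, one_pow, mul_one]
      rw [h2, hunit u] at hπW
      exact lt_irrefl _ hπW
    have hclt : W.valuation (c : E) < 1 := by
      have : (c : E) = (ϖ : E) * (d : E) := by
        have := congrArg (algebraMap (integralClosure A E) E) hd
        simpa using this
      rw [this, map_mul]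
      calc W.valuation (ϖ : E) * W.valuation (d : E) ≤ W.valuation (ϖ : E) * 1 :=
            mul_le_mul_right (hle d) _
        _ = W.valuation (ϖ : E) := mul_one _
        _ < 1 := hϖlt
    have hxle : W.valuation x ≤ 1 := (W.valuation_le_one_iff _).mpr hx
    have hcx : (c : E) * x = 1 := by
      have : (c : E) = x⁻¹ := hc
      rw [this, inv_mul_cancel₀ hx0]
    have := congrArg W.valuation hcx
    rw [map_mul, map_one] at this
    have h5 : W.valuation (c : E) * W.valuation x < 1 := by
      calc W.valuation (c : E) * W.valuation x ≤ W.valuation (c : E) * 1 :=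
            mul_le_mul_right hxle _
        _ = W.valuation (c : E) := mul_one _
        _ < 1 := hclt
    rw [this] at h5
    exact lt_irrefl _ h5



/-- `W` is the integral closure of `A` in `E`. -/
theorem isIntegralClosure_of_dominates (A K E : Type u) [CommRing A] [IsDomain A]
    [IsDiscreteValuationRing A] [IsAdicComplete (maximalIdeal A) A]
    [Field K] [Algebra A K] [IsFractionRing A K] [Field E] [Algebra K E] [Algebra A E]
    [IsScalarTower A K E] [FiniteDimensional K E] (W : ValuationSubring E)
    (hdom : EtRam.Dominates A (algebraMap A E) W) :
    letI : Algebra A W := (RingHom.codRestrict (algebraMap A E) W hdom.1).toAlgebra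
    IsIntegralClosure W A E := by
  letI : Algebra A W := (RingHom.codRestrict (algebraMap A E) W hdom.1).toAlgebra
  refine ⟨Subtype.val_injective, ?_⟩
  intro x
  constructor
  · intro hx
    exact ⟨⟨x, EisExtH8.mem_of_isIntegral_of_dominates W hdom hx⟩, rfl⟩
  · rintro ⟨y, rfl⟩
    exact isIntegral_of_mem_of_dominates A K E W hdom y.2

theorem finite_of_dominates (A K E : Type u) [CommRing A] [IsDomain A]
    [IsDiscreteValuationRing A] [IsAdicComplete (maximalIdeal A) A]
    [Field K] [Algebra A K] [IsFractionRing A K] [Field E] [Algebra K E] [Algebra A E]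
    [IsScalarTower A K E] [FiniteDimensional K E] (W : ValuationSubring E)
    (hdom : EtRam.Dominates A (algebraMap A E) W) :
    letI : Algebra A W := (RingHom.codRestrict (algebraMap A E) W hdom.1).toAlgebra
    Module.Finite A W := by
  letI : Algebra A W := (RingHom.codRestrict (algebraMap A E) W hdom.1).toAlgebra
  haveI : IsScalarTower A W E := IsScalarTower.of_algebraMap_eq (fun _ => rfl)
  haveI := isIntegralClosure_of_dominates A K E W hdom
  haveI := finite_integralClosure A K E
  exact Module.Finite.equiv (IsIntegralClosure.equiv A (integralClosure A E) E W).toLinearEquiv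

theorem finrank_of_dominates (A K E : Type u) [CommRing A] [IsDomain A]
    [IsDiscreteValuationRing A] [IsAdicComplete (maximalIdeal A) A]
    [Field K] [Algebra A K] [IsFractionRing A K] [Field E] [Algebra K E] [Algebra A E]
    [IsScalarTower A K E] [FiniteDimensional K E] (W : ValuationSubring E)
    (hdom : EtRam.Dominates A (algebraMap A E) W) :
    letI : Algebra A W := (RingHom.codRestrict (algebraMap A E) W hdom.1).toAlgebra
    Module.finrank A W = Module.finrank K E := by
  letI : Algebra A W := (RingHom.codRestrict (algebraMap A E) W hdom.1).toAlgebra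
  haveI : IsScalarTower A W E := IsScalarTower.of_algebraMap_eq (fun _ => rfl)
  haveI := isIntegralClosure_of_dominates A K E W hdom
  haveI := finite_of_dominates A K E W hdom
  have hinj : Function.Injective (algebraMap A W) := by
    intro a b hab
    apply algebraMap_injective_AE A K E
    exact congrArg Subtype.val hab
  haveI : Module.IsTorsionFree A W := Module.isTorsionFree_iff_algebraMap_injective.mpr hinj
  haveI : Module.Free A W := inferInstance
  haveI : IsLocalization (Algebra.algebraMapSubmonoid W (nonZeroDivisors A)) E :=
    IsIntegralClosure.isLocalization A K E W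
  let b := Module.Basis.localizationLocalization K (nonZeroDivisors A) E (Module.Free.chooseBasis A W)
  rw [Module.finrank_eq_card_chooseBasisIndex, Module.finrank_eq_card_basis b]


theorem isDVR_of_dominates' (A K E : Type u) [CommRing A] [IsDomain A]
    [IsDiscreteValuationRing A] [IsAdicComplete (maximalIdeal A) A]
    [Field K] [Algebra A K] [IsFractionRing A K] [Field E] [Algebra K E] [Algebra A E]
    [IsScalarTower A K E] [FiniteDimensional K E] (W : ValuationSubring E)
    (hdom : EtRam.Dominates A (algebraMap A E) W) : IsDiscreteValuationRing W := by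
  apply Groth.Agent.Lib.SHDvrH8.isDVR_of_dominates A K E W
  rw [← IsScalarTower.algebraMap_eq A K E]
  exact hdom

/-- Ramification and residue degree: `m_A W = m_W ^ e` with `e * f = [E : K]`. -/
theorem ram_structure (A K E : Type u) [CommRing A] [IsDomain A]
    [IsDiscreteValuationRing A] [IsAdicComplete (maximalIdeal A) A]
    [Field K] [Algebra A K] [IsFractionRing A K] [Field E] [Algebra K E] [Algebra A E]
    [IsScalarTower A K E] [FiniteDimensional K E] (W : ValuationSubring E)
    (hdom : EtRam.Dominates A (algebraMap A E) W) :
    letI : Algebra A W := (RingHom.codRestrict (algebraMap A E) W hdom.1).toAlgebra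
    ∃ (e f : ℕ) (_ : (maximalIdeal W).LiesOver (maximalIdeal A)), 0 < e ∧
      e * f = Module.finrank K E ∧
      (maximalIdeal A).map (algebraMap A W) = maximalIdeal W ^ e ∧
      f = Module.finrank (A ⧸ maximalIdeal A) (W ⧸ maximalIdeal W) := by
  letI : Algebra A W := (RingHom.codRestrict (algebraMap A E) W hdom.1).toAlgebra
  haveI : IsScalarTower A W E := IsScalarTower.of_algebraMap_eq (fun _ => rfl)
  haveI := isDVR_of_dominates' A K E W hdom
  haveI := finite_of_dominates A K E W hdom
  have hinj : Function.Injective (algebraMap A W) := by
    intro a b hab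
    apply algebraMap_injective_AE A K E
    exact congrArg Subtype.val hab
  haveI : Module.IsTorsionFree A W := Module.isTorsionFree_iff_algebraMap_injective.mpr hinj
  obtain ⟨hlo, -, -, -⟩ := Groth.Agent.Lib.NormValH1.local_structure A W (maximalIdeal W)
  haveI := hlo
  refine ⟨(maximalIdeal W).ramificationIdx A, (maximalIdeal W).inertiaDeg A, hlo,
    Ideal.ramificationIdx_pos _ A, ?_, ?_, ?_⟩
  · rw [Groth.Agent.Lib.NormValH1.sum_formula A W (maximalIdeal W), finrank_of_dominates A K E W hdom]
  · exact Groth.Agent.Lib.NormValH1.map_eq_pow A W (maximalIdeal W)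
  · exact Ideal.inertiaDeg_eq_of_isMaximal (maximalIdeal A) (maximalIdeal W)

/-- If the residue field of `A` is algebraically closed, the extension is totally ramified. -/
theorem tot_of_algClosed (A K E : Type u) [CommRing A] [IsDomain A]
    [IsDiscreteValuationRing A] [IsAdicComplete (maximalIdeal A) A]
    [Field K] [Algebra A K] [IsFractionRing A K] [Field E] [Algebra K E] [Algebra A E]
    [IsScalarTower A K E] [FiniteDimensional K E] (W : ValuationSubring E)
    (hdom : EtRam.Dominates A (algebraMap A E) W) [IsAlgClosed (ResidueField A)] :
    letI : Algebra A W := (RingHom.codRestrict (algebraMap A E) W hdom.1).toAlgebra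
    (maximalIdeal A).map (algebraMap A W) = maximalIdeal W ^ (Module.finrank K E) ∧
      ∀ w : W, ∃ a : A, w - algebraMap A W a ∈ maximalIdeal W := by
  letI : Algebra A W := (RingHom.codRestrict (algebraMap A E) W hdom.1).toAlgebra
  obtain ⟨e, f, hlo, he, hef, hmap, hf⟩ := ram_structure A K E W hdom
  haveI := hlo
  haveI := finite_of_dominates A K E W hdom
  letI : Field (A ⧸ maximalIdeal A) := Ideal.Quotient.field _
  letI : Field (W ⧸ maximalIdeal W) := Ideal.Quotient.field _
  haveI : IsAlgClosed (A ⧸ maximalIdeal A) := (inferInstance : IsAlgClosed (ResidueField A))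
  haveI : Module.Finite (A ⧸ maximalIdeal A) (W ⧸ maximalIdeal W) :=
    Module.Finite.of_restrictScalars_finite A _ _
  haveI : Algebra.IsIntegral (A ⧸ maximalIdeal A) (W ⧸ maximalIdeal W) :=
    Algebra.IsIntegral.of_finite _ _
  have hbij := IsAlgClosed.algebraMap_bijective_of_isIntegral (k := A ⧸ maximalIdeal A)
    (K := W ⧸ maximalIdeal W)
  have hf1 : f = 1 := by
    rw [hf]
    exact finrank_eq_one_iff_of_nonzero' (1 : W ⧸ maximalIdeal W) one_ne_zero |>.mpr
      (fun w => by
        obtain ⟨c, hc⟩ := hbij.2 w
        exact ⟨c, by rw [Algebra.smul_def, mul_one, hc]⟩)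
  rw [hf1, mul_one] at hef
  refine ⟨by rw [← hef]; exact hmap, ?_⟩
  intro w
  obtain ⟨c, hc⟩ := hbij.2 (Ideal.Quotient.mk _ w)
  obtain ⟨a, rfl⟩ := Ideal.Quotient.mk_surjective c
  refine ⟨a, ?_⟩
  rw [← Ideal.Quotient.eq, ← hc]
  rfl


theorem complete_of_dominates (A K E : Type u) [CommRing A] [IsDomain A]
    [IsDiscreteValuationRing A] [IsAdicComplete (maximalIdeal A) A]
    [Field K] [Algebra A K] [IsFractionRing A K] [Field E] [Algebra K E] [Algebra A E]
    [IsScalarTower A K E] [FiniteDimensional K E] (W : ValuationSubring E)
    (hdom : EtRam.Dominates A (algebraMap A E) W) : IsAdicComplete (maximalIdeal W) W := by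
  letI : Algebra A W := (RingHom.codRestrict (algebraMap A E) W hdom.1).toAlgebra
  haveI := finite_of_dominates A K E W hdom
  exact Groth.Agent.Lib.CompleteICH3.isAdicComplete_of_finite_local A W

theorem henselian_of_dominates (A K E : Type u) [CommRing A] [IsDomain A]
    [IsDiscreteValuationRing A] [IsAdicComplete (maximalIdeal A) A]
    [Field K] [Algebra A K] [IsFractionRing A K] [Field E] [Algebra K E] [Algebra A E]
    [IsScalarTower A K E] [FiniteDimensional K E] (W : ValuationSubring E)
    (hdom : EtRam.Dominates A (algebraMap A E) W) : HenselianLocalRing W := by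
  haveI := complete_of_dominates A K E W hdom
  exact Groth.Agent.Lib.NormValH1.henselian_of_complete W

theorem nagata_of_dominates (A K E : Type u) [CommRing A] [IsDomain A]
    [IsDiscreteValuationRing A] [IsAdicComplete (maximalIdeal A) A]
    [Field K] [Algebra A K] [IsFractionRing A K] [Field E] [Algebra K E] [Algebra A E]
    [IsScalarTower A K E] [FiniteDimensional K E] (W : ValuationSubring E)
    (hdom : EtRam.Dominates A (algebraMap A E) W) : CAlg.IsNagata W := by
  haveI := complete_of_dominates A K E W hdom
  haveI := isDVR_of_dominates' A K E W hdom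
  exact Groth.Agent.Lib.CompleteNagataH3.isNagata_of_complete_local W

end Groth.Agent.Lib.EppFinH8
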