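import Mathlib

/-!
# Perfect core of a finite extension (helper8)

If `k ⊆ κ ⊆ κ'` with `k` algebraically closed of characteristic `p`, `κ'/κ` finite, and every
element of `κ` having all `p^n`-th roots lies in `k`, then the same holds for `κ'`.
-/

set_option autoImplicit false
universe u

namespace Groth.Agent.Lib.EppFinH8

open Polynomial Matrix

section charpoly

variable {n : Type*} [DecidableEq n] [Fintype n]

theorem charpoly_pow_char_pow {K : Type*} [Field K] (p : ℕ) [Fact p.Prime] [CharP K p]
    (M : Matrix n n K) (k : ℕ) :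
    (M ^ p ^ k).charpoly = M.charpoly.map (iterateFrobenius K p k) := by
  rcases isEmpty_or_nonempty n with hn | hn
  · simp [Matrix.charpoly, Matrix.det_isEmpty]
  apply Polynomial.expand_injective (R := K) (pow_pos (Fact.out : p.Prime).pos k)
  rw [← Polynomial.map_expand, Polynomial.map_iterateFrobenius_expand]
  unfold charpoly
  rw [AlgHom.map_det, ← coe_detMonoidHom, ← (detMonoidHom : Matrix n n K[X] →* K[X]).map_pow]
  apply congr_arg det
  refine matPolyEquiv.injective ?_
  rw [map_pow, matPolyEquiv_charmatrix, sub_pow_char_pow_of_commute, ← C_pow]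
  · exact (id (matPolyEquiv_eq_X_pow_sub_C (p ^ k) M) :)
  · exact (C M).commute_X

end charpoly

/-- The perfect core of a finite extension. -/
theorem perfectCore_finite (p : ℕ) [Fact p.Prime] (k κ κ' : Type u) [Field k] [Field κ] [Field κ']
    [Algebra k κ] [Algebra κ κ'] [Algebra k κ'] [IsScalarTower k κ κ'] [IsAlgClosed k]
    [CharP κ p] [FiniteDimensional κ κ']
    (hcore : ∀ x : κ, (∀ n : ℕ, ∃ y : κ, y ^ p ^ n = x) → x ∈ Set.range (algebraMap k κ))
    (x : κ') (hx : ∀ n : ℕ, ∃ y : κ', y ^ p ^ n = x) : x ∈ Set.range (algebraMap k κ') := by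
  classical
  let b := Module.finBasis κ κ'
  -- the characteristic polynomial of multiplication by x
  obtain ⟨χ, hχ⟩ : ∃ χ : κ[X], χ = (Algebra.leftMulMatrix b x).charpoly := ⟨_, rfl⟩
  have hcoeff : ∀ i, χ.coeff i ∈ Set.range (algebraMap k κ) := by
    intro i
    apply hcore
    intro m
    obtain ⟨y, hy⟩ := hx m
    refine ⟨(Algebra.leftMulMatrix b y).charpoly.coeff i, ?_⟩
    rw [hχ, ← hy, map_pow, charpoly_pow_char_pow p, Polynomial.coeff_map, iterateFrobenius_def]
  have hmonic : χ.Monic := by rw [hχ]; exact Matrix.charpoly_monic _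
  have hroot : aeval x χ = 0 := by
    apply Algebra.leftMulMatrix_injective b
    rw [map_zero, ← Polynomial.aeval_algHom_apply, hχ]
    exact Matrix.aeval_self_charpoly _
  -- lift χ to k[X]
  have hlift : χ ∈ Polynomial.lifts (algebraMap k κ) := by
    rw [Polynomial.lifts_iff_coeff_lifts]
    exact hcoeff
  obtain ⟨χ₀, hχ₀, -, hχ₀m⟩ := Polynomial.lifts_and_degree_eq_and_monic hlift hmonic
  have hint : IsIntegral k x := by
    refine ⟨χ₀, hχ₀m, ?_⟩
    rw [← Polynomial.aeval_def, ← Polynomial.aeval_map_algebraMap κ, hχ₀]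
    exact hroot
  have hdeg : (minpoly k x).degree = 1 :=
    IsAlgClosed.degree_eq_one_of_irreducible k (minpoly.irreducible hint)
  exact minpoly.mem_range_of_degree_eq_one k x hdeg

end Groth.Agent.Lib.EppFinH8
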