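import Mathlib
import Groth.Agent.Lib.EppC2_helper8

/-!
# Transfer of the perfect-core hypothesis along finite extensions (helper8)
-/

set_option autoImplicit false
universe u

namespace Groth.Agent.Lib.EppFinH8

open IsLocalRing

theorem hk_transfer (p : ℕ) [Fact p.Prime] (A B A' B' : Type u) [CommRing A] [IsLocalRing A]
    [CommRing B] [IsLocalRing B] [CommRing A'] [IsLocalRing A'] [CommRing B'] [IsLocalRing B']
    [Algebra A B] [Algebra A A'] [Algebra B B'] [Algebra A' B'] [Algebra A B']
    [IsScalarTower A B B'] [IsScalarTower A A' B']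
    [IsLocalHom (algebraMap A B)] [IsLocalHom (algebraMap A A')] [IsLocalHom (algebraMap B B')]
    [IsLocalHom (algebraMap A' B')] [IsLocalHom (algebraMap A B')]
    [IsAlgClosed (ResidueField A)] [CharP (ResidueField A) p] [Module.Finite B B']
    (hk : ∀ x : ResidueField B, (∀ n : ℕ, ∃ y : ResidueField B, y ^ (p ^ n) = x) →
      x ∈ Set.range (algebraMap (ResidueField A) (ResidueField B)))
    (hsurj : Function.Surjective (algebraMap (ResidueField A) (ResidueField A'))) :
    ∀ x : ResidueField B', (∀ n : ℕ, ∃ y : ResidueField B', y ^ (p ^ n) = x) ↔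
      x ∈ Set.range (algebraMap (ResidueField A') (ResidueField B')) := by
  haveI : CharP (ResidueField B) p :=
    charP_of_injective_algebraMap (algebraMap (ResidueField A) (ResidueField B)).injective p
  intro x
  constructor
  · intro hx
    obtain ⟨c, hc⟩ := perfectCore_finite p (ResidueField A) (ResidueField B) (ResidueField B')
      hk x hx
    refine ⟨algebraMap (ResidueField A) (ResidueField A') c, ?_⟩
    rw [← IsScalarTower.algebraMap_apply, hc]
  · rintro ⟨c', rfl⟩ n
    obtain ⟨c, rfl⟩ := hsurj c'
    obtain ⟨d, hd⟩ := IsAlgClosed.exists_pow_nat_eq c (pow_pos (Fact.out : p.Prime).pos n)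
    refine ⟨algebraMap (ResidueField A) (ResidueField B') d, ?_⟩
    rw [← map_pow, hd, ← IsScalarTower.algebraMap_apply]

end Groth.Agent.Lib.EppFinH8
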