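import Mathlib

/-!
# Frobenius-compatible extraction of `p`-th roots from `1 + z ^ p ^ h` (helper8)

In a local ring `R` with `p` in the maximal ideal, `1 + z ^ (p ^ h)` is, up to `p`-th powers and up
to a factor in `1 + p²R`, equal to `1 + P_h z ω` with `ω ≡ 1`, where `P_h` is a product of chosen
roots of `-p`.
-/

set_option autoImplicit false
universe u

namespace Groth.Agent.Lib.EppFinH8

open IsLocalRing Finset

section S

variable {R : Type u} [CommRing R]

/-- The polynomial `s` with `(z+1)^p = z^p + 1 + p z s(z)`. -/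
noncomputable def sP (p : ℕ) (z : R) : R :=
  ∑ k ∈ Ioo 0 p, z ^ (k - 1) * ((p.choose k / p : ℕ) : R)

theorem one_add_pow_eq {p : ℕ} (hp : p.Prime) (z : R) :
    (1 + z) ^ p = 1 + z ^ p + p * z * sP p z := by
  have h := add_pow_prime_eq hp z (1 : R)
  rw [add_comm 1 z, h]
  simp only [one_pow, mul_one, sP]
  ring

theorem map_sP {S : Type*} [CommRing S] (f : R →+* S) (p : ℕ) (z : R) :
    f (sP p z) = sP p (f z) := by
  simp only [sP, map_sum, map_mul, map_pow, map_natCast]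

theorem sP_zero {p : ℕ} (hp : p.Prime) : sP p (0 : R) = 1 := by
  unfold sP
  rw [Finset.sum_eq_single 1]
  · simp [Nat.choose_one_right, Nat.div_self hp.pos]
  · intro k hk hk1
    rw [Finset.mem_Ioo] at hk
    have : k - 1 ≠ 0 := by omega
    rw [zero_pow this, zero_mul]
  · intro h
    exfalso; apply h
    rw [Finset.mem_Ioo]
    exact ⟨Nat.one_pos, hp.one_lt⟩

end S

section Local

variable {R : Type u} [CommRing R] [IsLocalRing R] {p : ℕ} [hp : Fact p.Prime]

theorem isUnit_one_add {z : R} (hz : z ∈ maximalIdeal R) : IsUnit (1 + z) := by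
  have h : IsUnit (1 - (-z)) :=
    isUnit_one_sub_self_of_mem_nonunits (-z) (by
      have : -z ∈ maximalIdeal R := (maximalIdeal R).neg_mem hz
      exact this)
  rwa [sub_neg_eq_add] at h

theorem sP_sub_one_mem {z : R} (hz : z ∈ maximalIdeal R) : sP p z - 1 ∈ maximalIdeal R := by
  rw [← Ideal.Quotient.eq_zero_iff_mem, map_sub, map_one, map_sP,
    Ideal.Quotient.eq_zero_iff_mem.mpr hz, sP_zero hp.out, sub_self]

/-- Frobenius compatibility: for `w w'` inverse to `1+z`, `u'` inverse to `1 + z^q` (`q = p^h`),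
`z^q s(z^q) u'^p ≡ (z s(z) w'^p)^q` modulo `p`. -/
theorem frob_compat (hpm : (p : R) ∈ maximalIdeal R) (h : ℕ) (z w' u' : R)
    (hw : (1 + z) * w' = 1) (hu : (1 + z ^ p ^ h) * u' = 1) :
    ∃ Δ : R, z ^ p ^ h * sP p (z ^ p ^ h) * u' ^ p =
      (z * sP p z * w' ^ p) ^ p ^ h + p * Δ := by
  haveI : CharP (R ⧸ Ideal.span ({(p : R)} : Set R)) p := CharP.quotient R p hpm
  obtain ⟨φ, hφ⟩ : ∃ φ : R →+* R ⧸ Ideal.span ({(p : R)} : Set R), φ = Ideal.Quotient.mk _ := ⟨_, rfl⟩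
  have hsub : φ (z ^ p ^ h * sP p (z ^ p ^ h) * u' ^ p - (z * sP p z * w' ^ p) ^ p ^ h) = 0 := by
    have hw' : φ (1 + z) * φ w' = 1 := by rw [← map_mul, hw, map_one]
    have hu' : φ (1 + z ^ p ^ h) * φ u' = 1 := by rw [← map_mul, hu, map_one]
    have h1 : φ (1 + z ^ p ^ h) = φ (1 + z) ^ p ^ h := by
      rw [map_add, map_add, map_one, map_pow, add_pow_char_pow, one_pow]
    have h2 : φ u' = φ w' ^ p ^ h := by
      have h3 : φ (1 + z ^ p ^ h) * φ w' ^ p ^ h = 1 := by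
        rw [h1, ← mul_pow, hw', one_pow]
      calc φ u' = φ u' * (φ (1 + z ^ p ^ h) * φ w' ^ p ^ h) := by rw [h3, mul_one]
        _ = (φ (1 + z ^ p ^ h) * φ u') * φ w' ^ p ^ h := by ring
        _ = φ w' ^ p ^ h := by rw [hu', one_mul]
    have h4 : φ (sP p (z ^ p ^ h)) = φ (sP p z) ^ p ^ h := by
      rw [map_sP, map_sP]
      unfold sP
      rw [sum_pow_char_pow]
      apply Finset.sum_congr rfl
      intro k _
      rw [mul_pow, map_pow, ← pow_mul, ← pow_mul, mul_comm (p ^ h) (k - 1)]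
      congr 1
      have := map_natCast (iterateFrobenius (R ⧸ Ideal.span ({(p : R)} : Set R)) p h)
        (p.choose k / p)
      rw [iterateFrobenius_def] at this
      exact this.symm
    rw [map_sub, sub_eq_zero, map_mul, map_mul, map_pow, map_pow, h4, h2, map_pow, map_mul,
      map_mul, map_pow]
    ring
  rw [hφ, Ideal.Quotient.eq_zero_iff_mem, Ideal.mem_span_singleton] at hsub
  obtain ⟨Δ, hΔ⟩ := hsub
  exact ⟨Δ, by rw [← hΔ]; ring⟩

/-- The extraction lemma. `ρ r` is a chosen `p^r`-th root of `-p`. -/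
theorem extract (hpm : (p : R) ∈ maximalIdeal R) (ρ : ℕ → R) :
    ∀ h : ℕ, (∀ r, r < h → ρ r ^ p ^ r = -(p : R)) →
    ∀ z ∈ maximalIdeal R, ∃ c ω δ : R, IsUnit c ∧ ω - 1 ∈ maximalIdeal R ∧
      1 + z ^ p ^ h = c ^ p * (1 + (∏ r ∈ Finset.range h, ρ r) * z * ω) * (1 + (p : R) ^ 2 * δ) := by
  intro h
  induction h with
  | zero =>
    intro _ z _
    refine ⟨1, 1, 0, isUnit_one, by simp, ?_⟩
    simp
  | succ h ih =>
    intro hρ' z hz
    have hρ : ρ h ^ p ^ h = -(p : R) := hρ' h (Nat.lt_succ_self h)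
    replace ih := ih (fun r hr => hρ' r (Nat.lt_succ_of_lt hr))
    have hY : z ^ p ^ h ∈ maximalIdeal R :=
      Ideal.pow_mem_of_mem _ hz _ (pow_pos hp.out.pos h)
    obtain ⟨w', hw⟩ := (isUnit_one_add hz).exists_right_inv
    obtain ⟨u', hu⟩ := (isUnit_one_add hY).exists_right_inv
    obtain ⟨Δ, hΔ⟩ := frob_compat hpm h z w' u' hw hu
    -- the element G_z
    obtain ⟨G, hG⟩ : ∃ G, G = z * sP p z * w' ^ p := ⟨_, rfl⟩
    have hGm : G ∈ maximalIdeal R := by
      rw [hG, mul_assoc]; exact Ideal.mul_mem_right _ _ hz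
    -- b = 1 - p G^q
    have hbm : (p : R) * G ^ p ^ h ∈ maximalIdeal R := Ideal.mul_mem_right _ _ hpm
    have hbu : IsUnit (1 - (p : R) * G ^ p ^ h) := isUnit_one_sub_self_of_mem_nonunits _ hbm
    obtain ⟨b', hb⟩ := hbu.exists_right_inv
    -- IH for z₁ = ρ h * G
    have hz₁ : ρ h * G ∈ maximalIdeal R := Ideal.mul_mem_left _ _ hGm
    obtain ⟨c₁, ω₁, δ₂, hc₁, hω₁, heq⟩ := ih (ρ h * G) hz₁
    have hb1 : 1 + (ρ h * G) ^ p ^ h = 1 - (p : R) * G ^ p ^ h := by
      rw [mul_pow, hρ]; ring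
    refine ⟨(1 + z ^ p ^ h) * c₁, sP p z * w' ^ p * ω₁, -(Δ * b') + δ₂ + (p : R) ^ 2 * (-(Δ * b')) * δ₂,
      (isUnit_one_add hY).mul hc₁, ?_, ?_⟩
    · -- ω - 1 ∈ m
      have h1 : sP p z - 1 ∈ maximalIdeal R := sP_sub_one_mem hz
      have h2 : w' - 1 ∈ maximalIdeal R := by
        have : w' - 1 = -(z * w') := by linear_combination hw
        rw [this]
        exact (maximalIdeal R).neg_mem (Ideal.mul_mem_right _ _ hz)
      rw [← Ideal.Quotient.eq_zero_iff_mem] at h1 h2 hω₁ ⊢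
      rw [map_sub, map_one, sub_eq_zero] at h1 h2 hω₁ ⊢
      rw [map_mul, map_mul, map_pow, h1, h2, hω₁]
      simp
    · -- the identity
      have hmain : (1 : R) + (z ^ p ^ h) ^ p =
          (1 + z ^ p ^ h) ^ p * (1 - (p : R) * (z ^ p ^ h * sP p (z ^ p ^ h) * u' ^ p)) := by
        have h1 := one_add_pow_eq hp.out (z ^ p ^ h)
        have h2 : (1 + z ^ p ^ h) ^ p * u' ^ p = 1 := by rw [← mul_pow, hu, one_pow]
        calc (1 : R) + (z ^ p ^ h) ^ p
            = (1 + z ^ p ^ h) ^ p - p * (z ^ p ^ h) * sP p (z ^ p ^ h) := by rw [h1]; ring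
          _ = (1 + z ^ p ^ h) ^ p - p * (z ^ p ^ h) * sP p (z ^ p ^ h) *
                ((1 + z ^ p ^ h) ^ p * u' ^ p) := by rw [h2, mul_one]
          _ = _ := by ring
      have hfac : (1 : R) - (p : R) * (z ^ p ^ h * sP p (z ^ p ^ h) * u' ^ p) =
          (1 - (p : R) * G ^ p ^ h) * (1 + (p : R) ^ 2 * (-(Δ * b'))) := by
        rw [hΔ, ← hG]
        have : (1 - (p : R) * G ^ p ^ h) * (1 + (p : R) ^ 2 * (-(Δ * b'))) =
            (1 - (p : R) * G ^ p ^ h) - (p : R) ^ 2 * Δ * ((1 - (p : R) * G ^ p ^ h) * b') := by ring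
        rw [this, hb]; ring
      rw [pow_succ, pow_mul, hmain, hfac, ← hb1, heq, Finset.prod_range_succ, hG, mul_pow]
      generalize (1 + z ^ p ^ h) ^ p = U
      generalize c₁ ^ p = C₁
      generalize w' ^ p = W
      generalize ∏ r ∈ Finset.range h, ρ r = P
      ring

end Local

end Groth.Agent.Lib.EppFinH8
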