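import Mathlib
import Groth.Agent.Lib.EppS1_helper8

/-!
# The shifted Kummer equation (helper8)

If `p = x^(p-1) q` then `(1 + x t)^p = 1 + x^p (t^p + q t s(x t))`.  The polynomial
`shiftPoly p x q b = T^p + q T s(x T) - b` is monic of degree `p`.
-/

set_option autoImplicit false
universe u

namespace Groth.Agent.Lib.EppFinH8

open Polynomial Finset

section

variable {R : Type u} [CommRing R]

theorem kummer_shift {p : ℕ} (hp : p.Prime) (x q t : R) (hpq : (p : R) = x ^ (p - 1) * q) :
    (1 + x * t) ^ p = 1 + x ^ p * (t ^ p + q * t * sP p (x * t)) := by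
  rw [one_add_pow_eq hp, hpq]
  obtain ⟨p', rfl⟩ : ∃ p', p = p' + 1 := ⟨p - 1, by have := hp.pos; omega⟩
  rw [Nat.add_sub_cancel]
  ring

/-- The polynomial `s(x T)`. -/
noncomputable def sPpoly (p : ℕ) (x : R) : R[X] :=
  ∑ k ∈ Ioo 0 p, C (x ^ (k - 1) * ((p.choose k / p : ℕ) : R)) * X ^ (k - 1)

theorem eval_sPpoly (p : ℕ) (x t : R) : (sPpoly p x).eval t = sP p (x * t) := by
  unfold sPpoly sP
  rw [eval_finset_sum]
  apply Finset.sum_congr rfl
  intro k _
  rw [eval_mul, eval_C, eval_pow, eval_X, mul_pow]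
  ring

theorem map_sPpoly {S : Type*} [CommRing S] (f : R →+* S) (p : ℕ) (x : R) :
    (sPpoly p x).map f = sPpoly p (f x) := by
  unfold sPpoly
  rw [Polynomial.map_sum]
  apply Finset.sum_congr rfl
  intro k _
  rw [Polynomial.map_mul, Polynomial.map_pow, map_X, map_C, map_mul, map_pow, map_natCast]

theorem natDegree_sPpoly_le (p : ℕ) (x : R) : (sPpoly p x).natDegree ≤ p - 2 := by
  unfold sPpoly
  apply natDegree_sum_le_of_forall_le
  intro k hk
  rw [Finset.mem_Ioo] at hk
  refine (natDegree_C_mul_X_pow_le _ _).trans ?_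
  omega

theorem sPpoly_zero {p : ℕ} (hp : p.Prime) : sPpoly p (0 : R) = 1 := by
  unfold sPpoly
  rw [Finset.sum_eq_single 1]
  · simp [Nat.choose_one_right, Nat.div_self hp.pos]
  · intro k hk hk1
    rw [Finset.mem_Ioo] at hk
    have : k - 1 ≠ 0 := by omega
    rw [zero_pow this, zero_mul, map_zero, zero_mul]
  · intro h
    exfalso; apply h
    rw [Finset.mem_Ioo]
    exact ⟨Nat.one_pos, hp.one_lt⟩

/-- The shifted Kummer polynomial `T^p + q T s(x T) - b`. -/
noncomputable def shiftPoly (p : ℕ) (x q b : R) : R[X] :=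
  X ^ p + (C q * X * sPpoly p x - C b)

theorem eval_shiftPoly (p : ℕ) (x q b t : R) :
    (shiftPoly p x q b).eval t = t ^ p + q * t * sP p (x * t) - b := by
  unfold shiftPoly
  rw [eval_add, eval_sub, eval_mul, eval_mul, eval_pow, eval_X, eval_C, eval_C, eval_sPpoly]
  ring

theorem map_shiftPoly {S : Type*} [CommRing S] (f : R →+* S) (p : ℕ) (x q b : R) :
    (shiftPoly p x q b).map f = shiftPoly p (f x) (f q) (f b) := by
  unfold shiftPoly
  rw [Polynomial.map_add, Polynomial.map_sub, Polynomial.map_mul, Polynomial.map_mul,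
    Polynomial.map_pow, map_X, map_C, map_C, map_sPpoly]

theorem natDegree_shiftPoly_aux {p : ℕ} (hp : p.Prime) (x q b : R) :
    (C q * X * sPpoly p x - C b).natDegree < p := by
  have h2 := hp.two_le
  have h1 : (C q * X * sPpoly p x).natDegree ≤ p - 1 := by
    refine natDegree_mul_le.trans ?_
    have := natDegree_sPpoly_le p x
    have h3 : (C q * X).natDegree ≤ 1 := by
      refine natDegree_mul_le.trans ?_
      rw [natDegree_C, zero_add]
      exact natDegree_X_le
    omega
  have h3 : (C q * X * sPpoly p x - C b).natDegree ≤ p - 1 := by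
    refine (natDegree_sub_le _ _).trans ?_
    rw [natDegree_C]
    simpa using h1
  omega

theorem shiftPoly_monic [Nontrivial R] {p : ℕ} (hp : p.Prime) (x q b : R) :
    (shiftPoly p x q b).Monic := by
  unfold shiftPoly
  apply monic_X_pow_add
  exact lt_of_le_of_lt degree_le_natDegree (by exact_mod_cast natDegree_shiftPoly_aux hp x q b)

theorem natDegree_shiftPoly [Nontrivial R] {p : ℕ} (hp : p.Prime) (x q b : R) :
    (shiftPoly p x q b).natDegree = p := by
  unfold shiftPoly
  rw [natDegree_add_eq_left_of_natDegree_lt, natDegree_X_pow]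
  rw [natDegree_X_pow]
  exact natDegree_shiftPoly_aux hp x q b

/-- If `(1 + x t)^p = 1 + x^p b` and `x` is a nonzerodivisor, then `t` is a root of the shifted
polynomial. -/
theorem shiftPoly_root {p : ℕ} (hp : p.Prime) (x q b t : R) (hpq : (p : R) = x ^ (p - 1) * q)
    (hx : x ∈ nonZeroDivisors R) (h : (1 + x * t) ^ p = 1 + x ^ p * b) :
    (shiftPoly p x q b).eval t = 0 := by
  rw [eval_shiftPoly]
  rw [kummer_shift hp x q t hpq] at h
  have h1 : x ^ p * (t ^ p + q * t * sP p (x * t) - b) = 0 := by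
    rw [mul_sub]
    have := add_left_cancel h
    rw [this, sub_self]
  have hxp : x ^ p ∈ nonZeroDivisors R := pow_mem hx p
  exact (mul_left_mem_nonZeroDivisors_eq_zero_iff hxp).mp h1

/-- reduction when `q = 0`: `T^p - b` -/
theorem shiftPoly_q_zero (p : ℕ) (x b : R) : shiftPoly p x 0 b = X ^ p - C b := by
  unfold shiftPoly
  rw [map_zero, zero_mul, zero_mul, zero_sub, sub_eq_add_neg]

/-- reduction when `x = 0, q = -1`: `T^p - T - b` -/
theorem shiftPoly_x_zero {p : ℕ} (hp : p.Prime) (b : R) :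
    shiftPoly p 0 (-1) b = X ^ p - X - C b := by
  unfold shiftPoly
  rw [sPpoly_zero hp, map_neg, map_one]
  ring

end

end Groth.Agent.Lib.EppFinH8
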