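import Mathlib
import Groth.Prelude.Def_EtRam
import Groth.Agent.Lib.EppB1_helper8
import Groth.Agent.Lib.EppW2_helper8
import Groth.Agent.Lib.MonoLoc1_helper8

/-!
# Residue-basis independence from an irreducible reduction (helper8)
-/

set_option autoImplicit false
universe u

namespace Groth.Agent.Lib.EppFinH8

open IsLocalRing Polynomial

variable {Ω : Type u} [Field Ω] (V : ValuationSubring Ω)

theorem val_eval₂_le_one (F : Type u) [Field F] [Algebra F Ω] (Q : (OO V F)[X]) {t : Ω}
    (ht : V.valuation t ≤ 1) : V.valuation (eval₂ (OOι V F) t Q) ≤ 1 := by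
  rw [eval₂_eq_sum_range]
  apply Valuation.map_sum_le
  intro i _
  rw [map_mul, map_pow]
  exact mul_le_one' (OO_val_le_one V _) (pow_le_one' ht i)

theorem val_eval₂_lt_one (F : Type u) [Field F] [Algebra F Ω] (Q : (OO V F)[X]) {t : Ω}
    (ht : V.valuation t ≤ 1) (hQ : Q.map (residue (OO V F)) = 0) :
    V.valuation (eval₂ (OOι V F) t Q) < 1 := by
  rw [eval₂_eq_sum_range]
  apply Valuation.map_sum_lt _ one_ne_zero
  intro i _
  rw [map_mul, map_pow]
  have hc : Q.coeff i ∈ maximalIdeal (OO V F) := by
    have := congrArg (fun q => q.coeff i) hQ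
    simp only [coeff_map, coeff_zero] at this
    exact (residue_eq_zero_iff _).mp this
  have h1 := (mem_maximalIdeal_OO_iff V _).mp hc
  calc V.valuation (OOι V F (Q.coeff i)) * V.valuation t ^ i
      ≤ V.valuation (OOι V F (Q.coeff i)) * 1 := by
        gcongr
        exact pow_le_one' ht i
    _ < 1 := by rw [mul_one]; exact h1

/-- If the reduction of the monic polynomial `G` is irreducible, the powers `1, t, …, t^(d-1)` of a
root `t` are independent modulo the maximal ideal. -/
theorem hind_of_irreducible (F : Type u) [Field F] [Algebra F Ω] (G : (OO V F)[X]) (hG : G.Monic)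
    (hirr : Irreducible (G.map (residue (OO V F)))) (t : Ω) (hroot : eval₂ (OOι V F) t G = 0) :
    ∀ a : Fin G.natDegree → F, (∀ i, V.valuation (algebraMap F Ω (a i)) ≤ 1) →
      (∃ i, V.valuation (algebraMap F Ω (a i)) = 1) →
      V.valuation (∑ i, algebraMap F Ω (a i) * t ^ (i : ℕ)) = 1 := by
  classical
  intro a ha1 ⟨i₀, hi₀⟩
  have htV : t ∈ V := MonoLocH8.mem_of_eval₂_eq_zero V (OOι V F)
    (fun r => (V.valuation_le_one_iff _).mp (OO_val_le_one V r)) G hG t hroot
  have ht : V.valuation t ≤ 1 := (V.valuation_le_one_iff _).mpr htV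
  let a' : Fin G.natDegree → OO V F := fun i => OOmk V (a i) (ha1 i)
  let P : (OO V F)[X] := ∑ i : Fin G.natDegree, C (a' i) * X ^ (i : ℕ)
  have hPeval : eval₂ (OOι V F) t P = ∑ i, algebraMap F Ω (a i) * t ^ (i : ℕ) := by
    simp only [P, eval₂_finsetSum, eval₂_mul, eval₂_C, eval₂_pow, eval₂_X]
    rfl
  have hPcoeff : ∀ i : Fin G.natDegree, P.coeff i = a' i := by
    intro i
    simp only [P, finset_sum_coeff, coeff_C_mul, coeff_X_pow]
    rw [Finset.sum_eq_single i]
    · simp
    · intro j _ hji
      have : (i : ℕ) ≠ (j : ℕ) := fun h => hji (Fin.ext h.symm)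
      simp [this]
    · intro h; exact absurd (Finset.mem_univ i) h
  have hPdeg : P.natDegree < G.natDegree := by
    have hpos : 0 < G.natDegree := Fin.pos i₀
    have : P.natDegree ≤ G.natDegree - 1 := by
      apply natDegree_sum_le_of_forall_le
      intro i _
      refine (natDegree_C_mul_X_pow_le _ _).trans ?_
      have := i.2
      omega
    omega
  have hPbar0 : P.map (residue (OO V F)) ≠ 0 := by
    intro h0
    have := congrArg (fun q => q.coeff (i₀ : ℕ)) h0
    simp only [coeff_map, coeff_zero, hPcoeff] at this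
    have hm : a' i₀ ∈ maximalIdeal (OO V F) := (residue_eq_zero_iff _).mp this
    have := (mem_maximalIdeal_OO_iff V _).mp hm
    rw [show OOι V F (a' i₀) = algebraMap F Ω (a i₀) from rfl, hi₀] at this
    exact lt_irrefl _ this
  have hGdeg : (G.map (residue (OO V F))).natDegree = G.natDegree := hG.natDegree_map (residue (OO V F))
  have hndvd : ¬ G.map (residue (OO V F)) ∣ P.map (residue (OO V F)) := by
    apply not_dvd_of_natDegree_lt hPbar0
    rw [hGdeg]
    exact lt_of_le_of_lt natDegree_map_le hPdeg
  obtain ⟨Ubar, Wbar, hUW⟩ := (hirr.coprime_iff_not_dvd).mpr hndvd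
  obtain ⟨U, rfl⟩ := map_surjective (residue (OO V F)) residue_surjective Ubar
  obtain ⟨W, rfl⟩ := map_surjective (residue (OO V F)) residue_surjective Wbar
  have hD : (U * G + W * P - 1).map (residue (OO V F)) = 0 := by
    rw [Polynomial.map_sub, Polynomial.map_add, Polynomial.map_mul, Polynomial.map_mul,
      Polynomial.map_one, hUW, sub_self]
  have h1 := val_eval₂_lt_one V F _ ht hD
  rw [eval₂_sub, eval₂_add, eval₂_mul, eval₂_mul, hroot, mul_zero, zero_add, eval₂_one] at h1
  have hW := val_eval₂_le_one V F W ht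
  have hP := val_eval₂_le_one V F P ht
  rw [← hPeval]
  apply le_antisymm hP
  by_contra hlt
  push Not at hlt
  have h2 : V.valuation (eval₂ (OOι V F) t W * eval₂ (OOι V F) t P) < 1 := by
    rw [map_mul]
    calc _ ≤ 1 * V.valuation (eval₂ (OOι V F) t P) := by gcongr
      _ < 1 := by rw [one_mul]; exact hlt
  have h3 : V.valuation (1 : Ω) < 1 := by
    have : (1 : Ω) = eval₂ (OOι V F) t W * eval₂ (OOι V F) t P -
        (eval₂ (OOι V F) t W * eval₂ (OOι V F) t P - 1) := by ring
    rw [this]
    exact lt_of_le_of_lt (Valuation.map_sub _ _ _) (max_lt h2 h1)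
  rw [map_one] at h3
  exact lt_irrefl _ h3


/-- The value group does not grow when adjoining a root of a monic polynomial with irreducible
reduction. -/
theorem values_of_irreducible_reduction (F : Type u) [Field F] [Algebra F Ω] (G : (OO V F)[X])
    (hG : G.Monic) (hirr : Irreducible (G.map (residue (OO V F)))) (t : Ω)
    (hroot : eval₂ (OOι V F) t G = 0) :
    ∀ x ∈ IntermediateField.adjoin F {t}, x ≠ 0 →
      ∃ y : F, y ≠ 0 ∧ V.valuation x = V.valuation (algebraMap F Ω y) := by
  have hdeg : (G.map (algebraMap (OO V F) F)).natDegree = G.natDegree :=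
    hG.natDegree_map _
  have hroot' : aeval t (G.map (algebraMap (OO V F) F)) = 0 := by
    rw [aeval_def, eval₂_map]
    exact hroot
  have hind := hind_of_irreducible V F G hG hirr t hroot
  refine ext_RB (F := F) (V := V) t (G.map (algebraMap (OO V F) F)) (hG.map _) hroot' ?_
  rw [hdeg]
  exact hind

end Groth.Agent.Lib.EppFinH8
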