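import Mathlib
import Groth.Prelude.Def_EtRam
import Groth.Agent.Lib.ASDvr5_helper8

/-!
# Monogenic extensions of DVRs: general unramified / totally ramified / inseparable criteria
(helper8)
-/

set_option autoImplicit false
universe u

namespace Groth.Agent.Lib.MonoDvrH8

open IsLocalRing Polynomial Groth.Agent.Lib.MonoLocH8 Groth.Agent.Lib.ASDvrH8
  Groth.Agent.Lib.TotRamCritH8

section gen

variable {A : Type u} [CommRing A] [IsDomain A] [IsDiscreteValuationRing A]
  {K L : Type u} [Field K] [Field L] [Algebra A K] [IsFractionRing A K] [Algebra K L] [Algebra A L]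
  [IsScalarTower A K L]

omit [IsDomain A] [IsDiscreteValuationRing A] in
/-- the residue of a root is a root of the reduction -/
theorem aeval_residue_eq_zero [IsLocalRing A] (V : ValuationSubring L) [Algebra A V]
    [IsLocalHom (algebraMap A V)]
    (hcompat : ∀ a, ((algebraMap A V a : V) : L) = algebraMap A L a) (f : A[X]) (z : L)
    (hzV : z ∈ V) (hz : eval₂ (algebraMap A L) z f = 0) :
    aeval (residue V ⟨z, hzV⟩) (f.map (residue A)) = 0 := by
  have h1 : eval₂ (algebraMap A V) ⟨z, hzV⟩ f = 0 := by
    apply Subtype.ext
    have := Polynomial.hom_eval₂ f (algebraMap A V) V.subtype ⟨z, hzV⟩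
    refine this.trans ?_
    have h2 : V.subtype.comp (algebraMap A V) = algebraMap A L := by
      ext a; exact hcompat a
    rw [h2]
    exact hz
  have h3 := congrArg (residue V) h1
  rw [Polynomial.hom_eval₂, map_zero] at h3
  have h4 : (residue V).comp (algebraMap A V) =
      (algebraMap (ResidueField A) (ResidueField V)).comp (residue A) := by
    ext a; rfl
  rw [h4, ← Polynomial.eval₂_map] at h3
  rw [aeval_def]
  exact h3

/-- **Unramified criterion**: a root of a monic polynomial with separable reduction generates an
extension unramified with respect to `A`. -/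
theorem unramified_of_separable (π : A) (hπ : maximalIdeal A = Ideal.span {π}) (f : A[X])
    (hf : f.Monic) (hsep : (f.map (residue A)).Separable) (z : L)
    (hz : eval₂ (algebraMap A L) z f = 0)
    (hgen : IntermediateField.adjoin K {z} = ⊤) :
    EtRam.IsUnramifiedExt A (algebraMap A L) := by
  intro V hV
  letI : Algebra A V := (RingHom.codRestrict (algebraMap A L) V hV.1).toAlgebra
  intro hloc
  have hcompat : ∀ a, ((algebraMap A V a : V) : L) = algebraMap A L a := fun a => rfl
  have hcl : Subfield.closure (Set.range (algebraMap A L) ∪ {z}) = ⊤ :=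
    closure_eq_top (K := K) z hgen z (Subfield.subset_closure (Or.inr rfl))
  have hφt : V.valuation (algebraMap A L π) < 1 :=
    hV.2 π (by rw [hπ]; exact Ideal.mem_span_singleton_self π)
  obtain ⟨h1, h2⟩ := local_structure_of_squarefree π hπ V (algebraMap A L) hV.1 hφt
    f hf hsep.squarefree z hz hcl
  have hzV : z ∈ V := mem_of_eval₂_eq_zero V (algebraMap A L) hV.1 _ hf z hz
  refine ⟨isWeaklyUnramified_of_forall π hπ V hcompat h2, ?_⟩
  have hadj := residue_mem_adjoin V hcompat z hzV h1
  have hroot := aeval_residue_eq_zero V hcompat f z hzV hz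
  have hsep' : IsSeparable (ResidueField A) (residue V ⟨z, hzV⟩) := by
    unfold IsSeparable
    exact hsep.of_dvd (minpoly.dvd _ _ hroot)
  rw [← separableClosure.eq_top_iff, eq_top_iff]
  intro x _
  have hx := hadj x
  have hle : Algebra.adjoin (ResidueField A) {residue V ⟨z, hzV⟩} ≤
      (separableClosure (ResidueField A) (ResidueField V)).toSubalgebra := by
    apply Algebra.adjoin_le
    intro y hy
    rw [Set.mem_singleton_iff] at hy
    rw [hy]
    exact mem_separableClosure_iff.mpr hsep'
  exact hle hx

omit [IsDomain A] [IsDiscreteValuationRing A] [Algebra A K] [IsFractionRing A K] [Algebra K L]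
  [IsScalarTower A K L] [Field K] in
/-- the valuation of the value of a monic polynomial at an element of valuation `> 1` -/
theorem val_aeval_of_monic (V : ValuationSubring L) (hV : ∀ a, algebraMap A L a ∈ V) (P : A[X])
    (hP : P.Monic) (z : L) (hz1 : 1 < V.valuation z) :
    V.valuation (aeval z P) = V.valuation z ^ P.natDegree := by
  have h0 : (0 : V.ValueGroup) < V.valuation z := lt_trans zero_lt_one hz1
  conv_lhs => rw [hP.as_sum]
  rw [map_add, map_pow, aeval_X, map_sum]
  have hlt : V.valuation (∑ i ∈ Finset.range P.natDegree, aeval z (C (P.coeff i) * X ^ i)) <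
      V.valuation (z ^ P.natDegree) := by
    apply Valuation.map_sum_lt
    · rw [map_pow]; exact pow_ne_zero _ h0.ne'
    · intro i hi
      rw [Finset.mem_range] at hi
      rw [map_mul, map_pow, aeval_X, aeval_C, map_mul, map_pow, map_pow]
      have h1 : V.valuation (algebraMap A L (P.coeff i)) ≤ 1 :=
        (V.valuation_le_one_iff _).mpr (hV _)
      calc V.valuation (algebraMap A L (P.coeff i)) * V.valuation z ^ i
          ≤ 1 * V.valuation z ^ i := mul_le_mul_left h1 _
        _ = V.valuation z ^ i := one_mul _
        _ < V.valuation z ^ P.natDegree := pow_lt_pow_right₀ hz1 hi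
  rw [Valuation.map_add_eq_of_lt_left _ hlt, map_pow]

omit [IsDiscreteValuationRing A] in
/-- finiteness and degree bound for a simple extension generated by a root of `P - ξ` -/
theorem finite_of_monic (P : A[X]) (hP : P.Monic) (hdeg : 0 < P.natDegree) (ξ : K) (z : L)
    (hz : aeval z P = algebraMap K L ξ) (hgen : IntermediateField.adjoin K {z} = ⊤) :
    FiniteDimensional K L ∧ Module.finrank K L ≤ P.natDegree := by
  obtain ⟨Q, hQdef⟩ : ∃ Q : K[X], Q = P.map (algebraMap A K) - C ξ := ⟨_, rfl⟩
  have hPm : (P.map (algebraMap A K)).Monic := hP.map _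
  have hdegC : degree (C ξ : K[X]) < degree (P.map (algebraMap A K)) := by
    rw [hP.degree_map]
    refine lt_of_le_of_lt degree_C_le ?_
    rw [degree_eq_natDegree hP.ne_zero]
    exact_mod_cast hdeg
  have hQm : Q.Monic := by rw [hQdef]; exact hPm.sub_of_left hdegC
  have hQdeg : Q.natDegree = P.natDegree := by
    rw [hQdef, natDegree_sub_eq_left_of_natDegree_lt, hP.natDegree_map]
    rw [natDegree_C, hP.natDegree_map]
    exact hdeg
  have hQz : aeval z Q = 0 := by
    rw [hQdef, map_sub, aeval_C, aeval_map_algebraMap, hz, sub_self]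
  have hint : IsIntegral K z := ⟨Q, hQm, by rw [← aeval_def]; exact hQz⟩
  haveI h1 : FiniteDimensional K (IntermediateField.adjoin K {z}) :=
    IntermediateField.adjoin.finiteDimensional hint
  have h2 : Module.finrank K (IntermediateField.adjoin K {z}) = (minpoly K z).natDegree :=
    IntermediateField.adjoin.finrank hint
  rw [hgen] at h1 h2
  haveI := h1
  refine ⟨Module.Finite.equiv (IntermediateField.topEquiv (F := K) (E := L)).toLinearEquiv, ?_⟩
  rw [← IntermediateField.finrank_top', h2, ← hQdeg]
  exact natDegree_le_of_dvd (minpoly.dvd K z hQz) hQm.ne_zero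

end gen

end Groth.Agent.Lib.MonoDvrH8
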