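import Mathlib
import Groth.Prelude.Def_EtRam
import Groth.Agent.Lib.EppB2_helper8
import Groth.Agent.Lib.MonoDvr1_helper8

/-!
# The value group does not grow along a root of a polynomial with separable reduction (helper8)
-/

set_option autoImplicit false
universe u

namespace Groth.Agent.Lib.EppFinH8

open IsLocalRing Polynomial IntermediateField

variable {Ω : Type u} [Field Ω] (V : ValuationSubring Ω)

set_option maxHeartbeats 1600000 in
theorem WU_of_separable_reduction (F : Type u) [Field F] [Algebra F Ω]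
    [IsDiscreteValuationRing (OO V F)]
    (G : (OO V F)[X]) (hG : G.Monic) (hsep : (G.map (residue (OO V F))).Separable) (t : Ω)
    (hroot : eval₂ (OOι V F) t G = 0) :
    WU V (Set.range (algebraMap F Ω)) ((F⟮t⟯ : IntermediateField F Ω) : Set Ω) := by
  have hint : IsIntegral F t := by
    refine ⟨G.map (algebraMap (OO V F) F), hG.map _, ?_⟩
    rw [eval₂_map]
    exact hroot
  haveI : FiniteDimensional F F⟮t⟯ := adjoin.finiteDimensional hint
  haveI : IsDiscreteValuationRing (OO V F⟮t⟯) := isDVR_OO_of_finite V F F⟮t⟯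
  letI aAL : Algebra (OO V F) F⟮t⟯ :=
    ((algebraMap F F⟮t⟯).comp (algebraMap (OO V F) F)).toAlgebra
  haveI : IsScalarTower (OO V F) F F⟮t⟯ := IsScalarTower.of_algebraMap_eq (fun _ => rfl)
  obtain ⟨ϖ, hϖ⟩ := IsDiscreteValuationRing.exists_irreducible (OO V F)
  have hgen : IntermediateField.adjoin F {AdjoinSimple.gen F t} = ⊤ := by
    apply IntermediateField.map_injective (IntermediateField.val F⟮t⟯)
    rw [IntermediateField.adjoin_map, ← AlgHom.fieldRange_eq_map, IntermediateField.fieldRange_val]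
    simp
  have hz : eval₂ (algebraMap (OO V F) F⟮t⟯) (AdjoinSimple.gen F t) G = 0 := by
    apply (algebraMap F⟮t⟯ Ω).injective
    rw [map_zero, Polynomial.hom_eval₂]
    exact hroot
  have hunr := MonoDvrH8.unramified_of_separable (A := OO V F) (K := F) (L := F⟮t⟯) ϖ
    hϖ.maximalIdeal_eq G hG hsep (AdjoinSimple.gen F t) hz hgen
  have hdom := dominates_OO V F F⟮t⟯
  haveI : IsLocalHom (OOmap V F F⟮t⟯) := isLocalHom_OOmap V F F⟮t⟯
  have h1 := @hunr (OO V F⟮t⟯) hdom (isLocalHom_OOmap V F F⟮t⟯)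
  have hwu : WU V (Set.range (algebraMap F Ω)) (Set.range (algebraMap F⟮t⟯ Ω)) :=
    WU_of_isWeaklyUnramified V h1.1
  have hr : Set.range (algebraMap F⟮t⟯ Ω) = ((F⟮t⟯ : IntermediateField F Ω) : Set Ω) := by
    ext x
    constructor
    · rintro ⟨y, rfl⟩; exact y.2
    · intro hx; exact ⟨⟨x, hx⟩, rfl⟩
  rw [hr] at hwu
  exact hwu

end Groth.Agent.Lib.EppFinH8
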