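import Mathlib
import Groth.Prelude.Def_EtRam
import Groth.Agent.Lib.EppB2_helper8
import Groth.Agent.Lib.EppC1_helper8
import Groth.Agent.Lib.EppC2_helper8
import Groth.Agent.Lib.TotRamCrit1_helper8

/-!
# The global context for Epp's theorem over a complete DVR with algebraically closed residue field
(helper8)
-/

set_option autoImplicit false
universe u

namespace Groth.Agent.Lib.EppFinH8

open IsLocalRing

section ctx

variable (p : ℕ) (A B K L Ω : Type u)
  [CommRing A] [IsDomain A] [IsDiscreteValuationRing A]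
  [CommRing B] [IsDomain B] [IsDiscreteValuationRing B]
  [Algebra A B] [IsLocalHom (algebraMap A B)]
  [Field K] [Field L] [Algebra A K] [IsFractionRing A K] [Algebra B L] [IsFractionRing B L]
  [Algebra K L] [Algebra A L] [IsScalarTower A K L] [IsScalarTower A B L]
  [IsAlgClosed (ResidueField A)] [CharP (ResidueField A) p]
  [IsAdicComplete (maximalIdeal A) A] [IsAdicComplete (maximalIdeal B) B]
  [Field Ω] [Algebra K Ω] [Algebra L Ω] [IsScalarTower K L Ω]
  (V : ValuationSubring Ω)

/-- The standing hypotheses. -/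
structure EppCtx : Prop where
  hAB : Function.Injective (algebraMap A B)
  hw : EtRam.IsWeaklyUnramified A B
  hk : ∀ x : ResidueField B, (∀ n : ℕ, ∃ y : ResidueField B, y ^ (p ^ n) = x) ↔
    x ∈ Set.range (algebraMap (ResidueField A) (ResidueField B))
  hdom : EtRam.Dominates B ((algebraMap L Ω).comp (algebraMap B L)) V
  hKL : Function.Injective (algebraMap K L)

variable {p A B K L Ω V}

/-- the image of `a : A` in `Ω` -/
def aΩ (K Ω : Type u) {A : Type u} [CommRing A] [Field K] [Algebra A K] [Field Ω] [Algebra K Ω]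
    (a : A) : Ω := algebraMap K Ω (algebraMap A K a)

theorem aΩ_eq (H : EppCtx p A B K L Ω V) (a : A) :
    aΩ K Ω a = (algebraMap L Ω) (algebraMap B L (algebraMap A B a)) := by
  unfold aΩ
  rw [IsScalarTower.algebraMap_apply K L Ω, ← IsScalarTower.algebraMap_apply A K L,
    IsScalarTower.algebraMap_apply A B L]

theorem EppCtx.domA (H : EppCtx p A B K L Ω V) :
    EtRam.Dominates A ((algebraMap K Ω).comp (algebraMap A K)) V := by
  refine ⟨fun a => ?_, fun a ha => ?_⟩
  · have := H.hdom.1 (algebraMap A B a)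
    rw [RingHom.comp_apply] at this ⊢
    rw [← aΩ_eq H a] at this
    exact this
  · have hm : algebraMap A B a ∈ maximalIdeal B := by
      rw [mem_maximalIdeal, mem_nonunits_iff] at ha ⊢
      exact fun hu => ha (isUnit_of_map_unit (algebraMap A B) a hu)
    have := H.hdom.2 _ hm
    rw [RingHom.comp_apply] at this ⊢
    rw [← aΩ_eq H a] at this
    exact this


/-- the value group of `L` is generated by the value of a uniformizer of `A` -/
theorem EppCtx.genL (H : EppCtx p A B K L Ω V) {π : A} (hπ : Irreducible π) :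
    aΩ K Ω π ≠ 0 ∧ V.valuation (aΩ K Ω π) < 1 ∧
    ∀ y : L, y ≠ 0 → ∃ n : ℤ, V.valuation (algebraMap L Ω y) = V.valuation (aΩ K Ω π) ^ n := by
  letI : Algebra B Ω := ((algebraMap L Ω).comp (algebraMap B L)).toAlgebra
  haveI : IsScalarTower B L Ω := IsScalarTower.of_algebraMap_eq (fun _ => rfl)
  have hπB : maximalIdeal B = Ideal.span {algebraMap A B π} := by
    have := H.hw
    unfold EtRam.IsWeaklyUnramified at this
    rw [hπ.maximalIdeal_eq, Ideal.map_span, Set.image_singleton] at this
    exact this.symm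
  have hdom : EtRam.Dominates B (algebraMap B Ω) V := H.hdom
  have hinj : Function.Injective (algebraMap B Ω) :=
    (algebraMap L Ω).injective.comp (IsFractionRing.injective B L)
  have heq : aΩ K Ω π = algebraMap B Ω (algebraMap A B π) := aΩ_eq H π
  have h0 := TotRamCritH8.val_pi_ne_zero (algebraMap A B π) hπB V hinj
  have h1 := TotRamCritH8.val_pi_lt_one (algebraMap A B π) hπB V hdom
  refine ⟨?_, ?_, ?_⟩
  · rw [heq]; exact (Valuation.ne_zero_iff _).mp h0
  · rw [heq]; exact h1
  · intro y hy
    obtain ⟨k₁, k₂, hk⟩ := TotRamCritH8.val_frac (algebraMap A B π) hπB V hdom y hy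
    refine ⟨(k₁ : ℤ) - k₂, ?_⟩
    rw [heq, zpow_sub₀ h0, zpow_natCast, zpow_natCast, eq_div_iff (pow_ne_zero _ h0)]
    exact hk

theorem EppCtx.wuKL (H : EppCtx p A B K L Ω V) :
    WU V (Set.range (algebraMap K Ω)) (Set.range (algebraMap L Ω)) := by
  obtain ⟨π, hπ⟩ := IsDiscreteValuationRing.exists_irreducible A
  obtain ⟨h0, h1, hgen⟩ := H.genL hπ
  refine ⟨aΩ K Ω π, ⟨_, rfl⟩, h0, h1, ?_⟩
  rintro _ ⟨y, rfl⟩ hy
  exact hgen y ((map_ne_zero _).mp hy)

/-- Finite extensions of `K` inside `Ω` are totally ramified DVRs with the same residue field. -/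
theorem EppCtx.tot (H : EppCtx p A B K L Ω V) (X : Type u) [Field X] [Algebra K X] [Algebra X Ω]
    [IsScalarTower K X Ω] [FiniteDimensional K X] {π : A} (hπ : Irreducible π) :
    IsDiscreteValuationRing (OO V X) ∧ ∃ ϖ : OO V X, Irreducible ϖ ∧
      V.valuation (OOι V X ϖ) ^ (Module.finrank K X) = V.valuation (aΩ K Ω π) ∧
      ∀ x : OO V X, ∃ a : A, V.valuation (OOι V X x - aΩ K Ω a) < 1 := by
  letI : Algebra A X := ((algebraMap K X).comp (algebraMap A K)).toAlgebra
  haveI : IsScalarTower A K X := IsScalarTower.of_algebraMap_eq (fun _ => rfl)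
  have hcompat : ∀ a : A, algebraMap X Ω (algebraMap A X a) = aΩ K Ω a := by
    intro a
    show algebraMap X Ω (algebraMap K X (algebraMap A K a)) = _
    rw [← IsScalarTower.algebraMap_apply]
    rfl
  have hdom : EtRam.Dominates A (algebraMap A X) (OO V X) := by
    refine ⟨fun a => ?_, fun a ha => ?_⟩
    · rw [mem_OO_iff, hcompat]
      exact (V.valuation_le_one_iff _).mpr (H.domA.1 a)
    · rw [DvrExtH8.comap_valuation_lt_one_iff, hcompat]
      exact H.domA.2 a ha
  haveI hdvr := isDVR_of_dominates' A K X (OO V X) hdom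
  letI : Algebra A (OO V X) := (RingHom.codRestrict (algebraMap A X) (OO V X) hdom.1).toAlgebra
  obtain ⟨hmap, hres⟩ := tot_of_algClosed A K X (OO V X) hdom
  obtain ⟨ϖ, hϖ⟩ := IsDiscreteValuationRing.exists_irreducible (OO V X)
  refine ⟨hdvr, ϖ, hϖ, ?_, ?_⟩
  · have e1 : Ideal.map (algebraMap A (OO V X)) (maximalIdeal A) =
        Ideal.span {algebraMap A (OO V X) π} := by
      rw [hπ.maximalIdeal_eq, Ideal.map_span, Set.image_singleton]
    have e2 : maximalIdeal (OO V X) ^ (Module.finrank K X) =
        Ideal.span {ϖ ^ (Module.finrank K X)} := by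
      rw [hϖ.maximalIdeal_eq, Ideal.span_singleton_pow]
    have hmap' : Ideal.span {algebraMap A (OO V X) π} = Ideal.span {ϖ ^ (Module.finrank K X)} := by
      rw [← e1, hmap, e2]
    rw [Ideal.span_singleton_eq_span_singleton] at hmap'
    obtain ⟨u, hu⟩ := hmap'
    have h1 := congrArg (OOι V X) hu
    rw [map_mul, map_pow] at h1
    have h2 : OOι V X (algebraMap A (OO V X) π) = aΩ K Ω π := hcompat π
    have h3 : V.valuation (OOι V X (u : OO V X)) = 1 := (isUnit_OO_iff V _).mp u.isUnit
    have h4 := congrArg V.valuation h1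
    rw [map_mul, map_pow, h2, h3, mul_one] at h4
    exact h4.symm
  · intro x
    obtain ⟨a, ha⟩ := hres x
    refine ⟨a, ?_⟩
    have := (mem_maximalIdeal_OO_iff V _).mp ha
    rw [map_sub] at this
    have h2 : OOι V X (algebraMap A (OO V X) a) = aΩ K Ω a := hcompat a
    rwa [h2] at this

end ctx

end Groth.Agent.Lib.EppFinH8
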