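import Mathlib
import Groth.Prelude.Def_EtRam
import Groth.Agent.Lib.EppX1_helper8
import Groth.Agent.Lib.EppC3_helper8
import Groth.Agent.Lib.DvrExt3_helper8

/-!
# Hereditary facts in the Epp context: extensions of `L`, and the perfect-core hypothesis (helper8)
-/

set_option autoImplicit false
universe u

namespace Groth.Agent.Lib.EppFinH8

open IsLocalRing

section ctx

variable {p : ℕ} {A B K L Ω : Type u}
  [CommRing A] [IsDomain A] [IsDiscreteValuationRing A]
  [CommRing B] [IsDomain B] [IsDiscreteValuationRing B]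
  [Algebra A B] [IsLocalHom (algebraMap A B)]
  [Field K] [Field L] [Algebra A K] [IsFractionRing A K] [Algebra B L] [IsFractionRing B L]
  [Algebra K L] [Algebra A L] [IsScalarTower A K L] [IsScalarTower A B L]
  [IsAlgClosed (ResidueField A)] [CharP (ResidueField A) p]
  [IsAdicComplete (maximalIdeal A) A] [IsAdicComplete (maximalIdeal B) B]
  [Field Ω] [Algebra K Ω] [Algebra L Ω] [IsScalarTower K L Ω]
  {V : ValuationSubring Ω}

/-- domination of `B` by `V ∩ E` -/
theorem EppCtx.domBE (H : EppCtx p A B K L Ω V) (E : Type u) [Field E] [Algebra L E] [Algebra E Ω]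
    [IsScalarTower L E Ω] :
    EtRam.Dominates B ((algebraMap L E).comp (algebraMap B L)) (OO V E) := by
  have hcompat : ∀ b : B, algebraMap E Ω (algebraMap L E (algebraMap B L b)) =
      algebraMap L Ω (algebraMap B L b) := fun b => by rw [← IsScalarTower.algebraMap_apply]
  refine ⟨fun b => ?_, fun b hb => ?_⟩
  · rw [RingHom.comp_apply, mem_OO_iff, hcompat]
    exact (V.valuation_le_one_iff _).mpr (H.hdom.1 b)
  · rw [DvrExtH8.comap_valuation_lt_one_iff, RingHom.comp_apply, hcompat]
    exact H.hdom.2 b hb

/-- Structure of `V ∩ E` for a finite extension `E / L`. -/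
theorem EppCtx.extL (H : EppCtx p A B K L Ω V) (E : Type u) [Field E] [Algebra L E] [Algebra E Ω]
    [IsScalarTower L E Ω] [FiniteDimensional L E] :
    IsDiscreteValuationRing (OO V E) ∧ HenselianLocalRing (OO V E) ∧ CAlg.IsNagata (OO V E) ∧
      IsAdicComplete (maximalIdeal (OO V E)) (OO V E) := by
  letI : Algebra B E := ((algebraMap L E).comp (algebraMap B L)).toAlgebra
  haveI : IsScalarTower B L E := IsScalarTower.of_algebraMap_eq (fun _ => rfl)
  have hdom : EtRam.Dominates B (algebraMap B E) (OO V E) := H.domBE E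
  exact ⟨isDVR_of_dominates' B L E _ hdom, henselian_of_dominates B L E _ hdom,
    nagata_of_dominates B L E _ hdom, complete_of_dominates B L E _ hdom⟩

/-- The perfect-core hypothesis for `V ∩ X → V ∩ E`. -/
theorem EppCtx.hkXE [hp : Fact p.Prime] (H : EppCtx p A B K L Ω V)
    (X : Type u) [Field X] [Algebra K X] [Algebra X Ω] [IsScalarTower K X Ω]
    [FiniteDimensional K X]
    (E : Type u) [Field E] [Algebra L E] [Algebra E Ω] [IsScalarTower L E Ω]
    [FiniteDimensional L E] [Algebra X E] [IsScalarTower X E Ω] :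
    letI : Algebra (OO V X) (OO V E) := (OOmap V X E).toAlgebra
    haveI : IsLocalHom (algebraMap (OO V X) (OO V E)) := isLocalHom_OOmap V X E
    ∀ x : ResidueField (OO V E), (∀ n : ℕ, ∃ y : ResidueField (OO V E), y ^ (p ^ n) = x) ↔
      x ∈ Set.range (algebraMap (ResidueField (OO V X)) (ResidueField (OO V E))) := by
  letI : Algebra (OO V X) (OO V E) := (OOmap V X E).toAlgebra
  haveI : IsLocalHom (algebraMap (OO V X) (OO V E)) := isLocalHom_OOmap V X E
  -- A → V ∩ X
  obtain ⟨π, hπ⟩ := IsDiscreteValuationRing.exists_irreducible A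
  obtain ⟨hdvrX, ϖ, hϖ, -, hres⟩ := H.tot X hπ
  have hcompatX : ∀ a : A, algebraMap X Ω (algebraMap K X (algebraMap A K a)) = aΩ K Ω a := by
    intro a
    rw [← IsScalarTower.algebraMap_apply]
    rfl
  have hdomX : EtRam.Dominates A ((algebraMap K X).comp (algebraMap A K)) (OO V X) := by
    refine ⟨fun a => ?_, fun a ha => ?_⟩
    · rw [RingHom.comp_apply, mem_OO_iff, hcompatX]
      exact (V.valuation_le_one_iff _).mpr (H.domA.1 a)
    · rw [DvrExtH8.comap_valuation_lt_one_iff, RingHom.comp_apply, hcompatX]
      exact H.domA.2 a ha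
  letI algAX : Algebra A (OO V X) :=
    (RingHom.codRestrict ((algebraMap K X).comp (algebraMap A K)) (OO V X) hdomX.1).toAlgebra
  haveI : IsLocalHom (algebraMap A (OO V X)) := DvrExtH8.isLocalHom_of_dominates _ _ hdomX
  -- B → V ∩ E
  have hdomE := H.domBE E
  letI algBE : Algebra B (OO V E) :=
    (RingHom.codRestrict ((algebraMap L E).comp (algebraMap B L)) (OO V E) hdomE.1).toAlgebra
  haveI : IsLocalHom (algebraMap B (OO V E)) := DvrExtH8.isLocalHom_of_dominates _ _ hdomE
  letI algAE : Algebra A (OO V E) := ((algebraMap B (OO V E)).comp (algebraMap A B)).toAlgebra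
  haveI : IsScalarTower A B (OO V E) := IsScalarTower.of_algebraMap_eq (fun _ => rfl)
  haveI : IsLocalHom (algebraMap A (OO V E)) := by
    show IsLocalHom ((algebraMap B (OO V E)).comp (algebraMap A B))
    exact RingHom.isLocalHom_comp _ _
  haveI : IsScalarTower A (OO V X) (OO V E) := by
    apply IsScalarTower.of_algebraMap_eq
    intro a
    apply OOι_injective V E
    have h1 : OOι V E (algebraMap A (OO V E) a) = aΩ K Ω a := by
      show algebraMap E Ω (algebraMap L E (algebraMap B L (algebraMap A B a))) = _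
      rw [← IsScalarTower.algebraMap_apply L E Ω, aΩ_eq H a]
    have h2 : OOι V E (algebraMap (OO V X) (OO V E) (algebraMap A (OO V X) a)) = aΩ K Ω a := by
      show OOι V E (OOmap V X E (algebraMap A (OO V X) a)) = _
      rw [OOι_OOmap]
      exact hcompatX a
    rw [h1, h2]
  -- finiteness
  haveI : Module.Finite B (OO V E) := by
    letI : Algebra B E := ((algebraMap L E).comp (algebraMap B L)).toAlgebra
    haveI : IsScalarTower B L E := IsScalarTower.of_algebraMap_eq (fun _ => rfl)
    exact finite_of_dominates B L E (OO V E) hdomE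
  -- residue surjectivity
  have hsurj : Function.Surjective (algebraMap (ResidueField A) (ResidueField (OO V X))) := by
    intro x
    obtain ⟨x, rfl⟩ := residue_surjective x
    obtain ⟨a, ha⟩ := hres x
    refine ⟨residue A a, ?_⟩
    rw [ResidueField.algebraMap_residue]
    symm
    rw [← sub_eq_zero, ← map_sub, residue_eq_zero_iff, mem_maximalIdeal_OO_iff, map_sub]
    have : OOι V X (algebraMap A (OO V X) a) = aΩ K Ω a := hcompatX a
    rw [this]
    exact ha
  exact hk_transfer p A B (OO V X) (OO V E) (fun x hx => (H.hk x).mp hx) hsurj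

end ctx

end Groth.Agent.Lib.EppFinH8
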