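import Mathlib
import Groth.Prelude.Def_EtRam
import Groth.Agent.Lib.EppX2_helper8

/-!
# Base change of the Epp context along a finite extension of `K` (helper8)

For `K₁ / K` finite inside `Ω`, the value group of `L K₁` is generated by the value of a uniformizer of
`K₁`, and the residue field of `L K₁` is that of `L`.
-/

set_option autoImplicit false
universe u

namespace Groth.Agent.Lib.EppFinH8

open IsLocalRing Polynomial

section ctx

variable {p : ℕ} {A B K L Ω : Type u}
  [CommRing A] [IsDomain A] [IsDiscreteValuationRing A]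
  [CommRing B] [IsDomain B] [IsDiscreteValuationRing B]
  [Algebra A B] [IsLocalHom (algebraMap A B)]
  [Field K] [Field L] [Algebra A K] [IsFractionRing A K] [Algebra B L] [IsFractionRing B L]
  [Algebra K L] [Algebra A L] [IsScalarTower A K L] [IsScalarTower A B L]
  [IsAlgClosed (ResidueField A)] [CharP (ResidueField A) p]
  [IsAdicComplete (maximalIdeal A) A] [IsAdicComplete (maximalIdeal B) B]
  [Field Ω] [Algebra K Ω] [Algebra L Ω] [IsScalarTower K L Ω]
  {V : ValuationSubring Ω}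

/-- The compositum `L K₁`. -/
abbrev LK (L : Type u) {K Ω : Type u} [Field K] [Field L] [Field Ω] [Algebra K Ω] [Algebra L Ω]
    (K₁ : IntermediateField K Ω) : IntermediateField L Ω :=
  IntermediateField.adjoin L (K₁ : Set Ω)

set_option maxHeartbeats 1600000 in
theorem EppCtx.totBC (H : EppCtx p A B K L Ω V) (K₁ : IntermediateField K Ω)
    [FiniteDimensional K K₁] :
    WU V (K₁ : Set Ω) (LK L K₁ : Set Ω) ∧
      ResEq V (Set.range (algebraMap L Ω)) (LK L K₁ : Set Ω) := by
  classical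
  obtain ⟨π, hπ⟩ := IsDiscreteValuationRing.exists_irreducible A
  obtain ⟨hdvr, ϖ₁, hirr, hpow, -⟩ := H.tot K₁ hπ
  obtain ⟨hπ0, hπ1, hgenL⟩ := H.genL hπ
  obtain ⟨n, hn⟩ : ∃ n, n = Module.finrank K K₁ := ⟨_, rfl⟩
  rw [← hn] at hpow
  have hnpos : 0 < n := by rw [hn]; exact Module.finrank_pos
  obtain ⟨θ, hθ⟩ : ∃ θ : Ω, θ = OOι V K₁ ϖ₁ := ⟨_, rfl⟩
  rw [← hθ] at hpow
  have hθK₁ : θ ∈ K₁ := by rw [hθ]; exact (ϖ₁ : K₁).2
  have hθ1 : V.valuation θ < 1 := by rw [hθ]; exact irreducible_val_lt_one V hirr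
  have hθ0 : θ ≠ 0 := by rw [hθ]; exact OOι_ne_zero V hirr.ne_zero
  -- value group of K generated by v π
  have hgenK : ∀ x ∈ Set.range (algebraMap K Ω), x ≠ 0 → ∃ m : ℤ,
      V.valuation x = V.valuation (aΩ K Ω π) ^ m := by
    rintro _ ⟨x, rfl⟩ hx
    have := hgenL (algebraMap K L x) (by
      intro h0
      apply hx
      rw [IsScalarTower.algebraMap_apply K L Ω, h0, map_zero])
    rwa [← IsScalarTower.algebraMap_apply] at this
  -- the minimal polynomial of ϖ₁ over K has degree n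
  have hint : IsIntegral K (ϖ₁ : K₁) := Algebra.IsIntegral.isIntegral _
  obtain ⟨f, hf⟩ : ∃ f, f = minpoly K (ϖ₁ : K₁) := ⟨_, rfl⟩
  have hfmonic : f.Monic := by rw [hf]; exact minpoly.monic hint
  have hfroot : aeval θ f = 0 := by
    have h1 : aeval (ϖ₁ : K₁) f = 0 := by rw [hf]; exact minpoly.aeval _ _
    have h2 := congrArg (algebraMap K₁ Ω) h1
    rw [map_zero, ← Polynomial.aeval_algebraMap_apply] at h2
    rw [hθ]; exact h2
  have hfle : f.natDegree ≤ n := by rw [hf, hn]; exact minpoly.natDegree_le _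
  have hfge : n ≤ f.natDegree := by
    by_contra hlt
    push Not at hlt
    have hsum := Polynomial.aeval_eq_sum_range (R := K) (S := Ω) (p := f) θ
    rw [hfroot, Finset.sum_range] at hsum
    obtain ⟨i₀, hi₀, hval, -⟩ := val_sum_DC (V := V) hπ0 hπ1 hgenK hnpos hpow
      (d := f.natDegree + 1) (by omega) (fun i => algebraMap K Ω (f.coeff i))
      (fun i => ⟨_, rfl⟩) ⟨⟨f.natDegree, by omega⟩, by
        show algebraMap K Ω (f.coeff f.natDegree) ≠ 0
        rw [Polynomial.coeff_natDegree, hfmonic.leadingCoeff, map_one]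
        exact one_ne_zero⟩
    have h0 : (∑ i : Fin (f.natDegree + 1), algebraMap K Ω (f.coeff i) * θ ^ (i : ℕ)) = 0 := by
      rw [hsum]
      apply Finset.sum_congr rfl
      intro i _
      rw [Algebra.smul_def]
    rw [h0, map_zero] at hval
    exact (val_pos_of_ne (V := V) (mul_ne_zero hi₀ (pow_ne_zero _ hθ0))).ne hval
  have hfdeg : f.natDegree = n := le_antisymm hfle hfge
  -- K₁ = K(ϖ₁)
  have htop : IntermediateField.adjoin K {(ϖ₁ : K₁)} = ⊤ := by
    apply IntermediateField.eq_of_le_of_finrank_le le_top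
    rw [IntermediateField.finrank_top', IntermediateField.adjoin.finrank hint, ← hf, hfdeg, hn]
  have hK₁le : ∀ x ∈ K₁, x ∈ IntermediateField.adjoin L {θ} := by
    intro x hx
    have h1 : (⟨x, hx⟩ : K₁) ∈ (IntermediateField.adjoin K {(ϖ₁ : K₁)}).toSubalgebra := by
      rw [htop]; exact Algebra.mem_top
    rw [IntermediateField.adjoin_simple_toSubalgebra_of_isAlgebraic hint.isAlgebraic,
      Algebra.adjoin_singleton_eq_range_aeval] at h1
    obtain ⟨q, hq⟩ := h1
    replace hq : aeval (ϖ₁ : K₁) q = ⟨x, hx⟩ := hq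
    have h2 := congrArg (algebraMap K₁ Ω) hq
    rw [← Polynomial.aeval_algebraMap_apply] at h2
    have h3 : aeval θ q = x := by rw [hθ]; exact h2
    rw [← h3, ← Polynomial.aeval_map_algebraMap L]
    have h4 : aeval θ (q.map (algebraMap K L)) ∈ Algebra.adjoin L {θ} :=
      Polynomial.aeval_mem_adjoin_singleton L θ
    exact IntermediateField.algebra_adjoin_le_adjoin L _ h4
  have hLK : LK L K₁ = IntermediateField.adjoin L {θ} := by
    apply le_antisymm
    · rw [IntermediateField.adjoin_le_iff]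
      exact hK₁le
    · apply IntermediateField.adjoin.mono
      rw [Set.singleton_subset_iff]
      exact hθK₁
  -- apply the distinct-coset extension lemma over L
  obtain ⟨ϖL, hϖL⟩ : ∃ ϖL : L, ϖL = algebraMap K L (algebraMap A K π) := ⟨_, rfl⟩
  have hϖLΩ : algebraMap L Ω ϖL = aΩ K Ω π := by
    rw [hϖL, ← IsScalarTower.algebraMap_apply]; rfl
  have hϖL0 : ϖL ≠ 0 := by
    intro h0
    apply hπ0
    rw [← hϖLΩ, h0, map_zero]
  obtain ⟨hgen, hres⟩ := ext_DC (F := L) (V := V) (ϖF := ϖL) hϖL0 (by rw [hϖLΩ]; exact hπ1)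
    (by intro x hx; rw [hϖLΩ]; exact hgenL x hx) hnpos (by rw [hϖLΩ]; exact hpow)
    (f.map (algebraMap K L)) (hfmonic.map _) (by rw [hfmonic.natDegree_map]; exact hfle)
    (by rw [Polynomial.aeval_map_algebraMap]; exact hfroot)
  constructor
  · refine ⟨θ, hθK₁, hθ0, hθ1, ?_⟩
    intro x hx hx0
    rw [SetLike.mem_coe, hLK] at hx
    exact hgen x hx hx0
  · intro x hx hx1
    rw [SetLike.mem_coe, hLK] at hx
    obtain ⟨y, hy⟩ := hres x hx hx1
    exact ⟨_, ⟨y, rfl⟩, hy⟩

end ctx

end Groth.Agent.Lib.EppFinH8
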