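import Mathlib
import Groth.Prelude.Def_EtRam
import Groth.Agent.Lib.EppX2_helper8
import Groth.Agent.Lib.EppX4_helper8

/-!
# Re-basing the Epp context (helper8)
-/

set_option autoImplicit false
universe u

namespace Groth.Agent.Lib.EppFinH8

open IsLocalRing

section ctx

variable {p : ℕ} {A B K L Ω : Type u}
  [CommRing A] [IsDomain A] [IsDiscreteValuationRing A]
  [CommRing B] [IsDomain B] [IsDiscreteValuationRing B]
  [Algebra A B] [IsLocalHom (algebraMap A B)]
  [Field K] [Field L] [Algebra A K] [IsFractionRing A K] [Algebra B L] [IsFractionRing B L]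
  [Algebra K L] [Algebra A L] [IsScalarTower A K L] [IsScalarTower A B L]
  [IsAlgClosed (ResidueField A)] [CharP (ResidueField A) p]
  [IsAdicComplete (maximalIdeal A) A] [IsAdicComplete (maximalIdeal B) B]
  [Field Ω] [Algebra K Ω] [Algebra L Ω] [IsScalarTower K L Ω]
  {V : ValuationSubring Ω}

set_option maxHeartbeats 1600000 in
/-- The context `(V ∩ X, V ∩ E, X, E)` for `X / K` and `E / L` finite with `E` weakly
unramified over `X`. -/
theorem EppCtx.rebase [hp : Fact p.Prime] (H : EppCtx p A B K L Ω V)
    (X : Type u) [Field X] [Algebra K X] [Algebra X Ω] [IsScalarTower K X Ω]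
    [FiniteDimensional K X]
    (E : Type u) [Field E] [Algebra L E] [Algebra E Ω] [IsScalarTower L E Ω]
    [FiniteDimensional L E] [Algebra X E] [IsScalarTower X E Ω]
    (hwu : WU V (Set.range (algebraMap X Ω)) (Set.range (algebraMap E Ω))) :
    letI a1 : Algebra (OO V X) (OO V E) := (OOmap V X E).toAlgebra
    letI a2 : Algebra (OO V X) E := ((algebraMap X E).comp (algebraMap (OO V X) X)).toAlgebra
    ∃ (_ : IsDiscreteValuationRing (OO V X)) (_ : IsDiscreteValuationRing (OO V E))
      (_ : IsLocalHom (algebraMap (OO V X) (OO V E)))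
      (_ : IsScalarTower (OO V X) X E) (_ : IsScalarTower (OO V X) (OO V E) E)
      (_ : IsAlgClosed (ResidueField (OO V X))) (_ : CharP (ResidueField (OO V X)) p)
      (_ : IsAdicComplete (maximalIdeal (OO V X)) (OO V X))
      (_ : IsAdicComplete (maximalIdeal (OO V E)) (OO V E)),
      EppCtx p (OO V X) (OO V E) X E Ω V := by
  letI a1 : Algebra (OO V X) (OO V E) := (OOmap V X E).toAlgebra
  letI a2 : Algebra (OO V X) E := ((algebraMap X E).comp (algebraMap (OO V X) X)).toAlgebra
  obtain ⟨π, hπ⟩ := IsDiscreteValuationRing.exists_irreducible A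
  obtain ⟨hdvrX, ϖ, hϖ, -, hres⟩ := H.tot X hπ
  obtain ⟨hdvrE, -, -, hcomplE⟩ := H.extL E
  haveI := hdvrX
  haveI := hdvrE
  haveI lAB : IsLocalHom (algebraMap (OO V X) (OO V E)) := isLocalHom_OOmap V X E
  haveI t1 : IsScalarTower (OO V X) X E := IsScalarTower.of_algebraMap_eq (fun _ => rfl)
  haveI t2 : IsScalarTower (OO V X) (OO V E) E := IsScalarTower.of_algebraMap_eq (fun _ => rfl)
  -- A → V ∩ X
  have hcompatX : ∀ a : A, algebraMap X Ω (algebraMap K X (algebraMap A K a)) = aΩ K Ω a := by
    intro a
    rw [← IsScalarTower.algebraMap_apply]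
    rfl
  letI : Algebra A X := ((algebraMap K X).comp (algebraMap A K)).toAlgebra
  haveI : IsScalarTower A K X := IsScalarTower.of_algebraMap_eq (fun _ => rfl)
  have hdomX : EtRam.Dominates A (algebraMap A X) (OO V X) := by
    refine ⟨fun a => ?_, fun a ha => ?_⟩
    · rw [mem_OO_iff]
      show V.valuation (algebraMap X Ω (algebraMap K X (algebraMap A K a))) ≤ 1
      rw [hcompatX]
      exact (V.valuation_le_one_iff _).mpr (H.domA.1 a)
    · rw [DvrExtH8.comap_valuation_lt_one_iff]
      show V.valuation (algebraMap X Ω (algebraMap K X (algebraMap A K a))) < 1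
      rw [hcompatX]
      exact H.domA.2 a ha
  haveI hcomplX : IsAdicComplete (maximalIdeal (OO V X)) (OO V X) :=
    complete_of_dominates A K X (OO V X) hdomX
  letI algAX : Algebra A (OO V X) :=
    (RingHom.codRestrict (algebraMap A X) (OO V X) hdomX.1).toAlgebra
  haveI : IsLocalHom (algebraMap A (OO V X)) := DvrExtH8.isLocalHom_of_dominates _ _ hdomX
  -- residue field
  have hsurj : Function.Surjective (algebraMap (ResidueField A) (ResidueField (OO V X))) := by
    intro x
    obtain ⟨x, rfl⟩ := residue_surjective x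
    obtain ⟨a, ha⟩ := hres x
    refine ⟨residue A a, ?_⟩
    rw [ResidueField.algebraMap_residue]
    symm
    rw [← sub_eq_zero, ← map_sub, residue_eq_zero_iff, mem_maximalIdeal_OO_iff, map_sub]
    have : OOι V X (algebraMap A (OO V X) a) = aΩ K Ω a := hcompatX a
    rw [this]
    exact ha
  let e : ResidueField A ≃+* ResidueField (OO V X) :=
    RingEquiv.ofBijective (algebraMap (ResidueField A) (ResidueField (OO V X)))
      ⟨(algebraMap (ResidueField A) (ResidueField (OO V X))).injective, hsurj⟩
  haveI hac : IsAlgClosed (ResidueField (OO V X)) := IsAlgClosed.of_ringEquiv _ _ e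
  haveI hch : CharP (ResidueField (OO V X)) p :=
    charP_of_injective_algebraMap (algebraMap (ResidueField A) (ResidueField (OO V X))).injective p
  refine ⟨hdvrX, hdvrE, lAB, t1, t2, hac, hch, hcomplX, hcomplE, ?_⟩
  refine ⟨OOmap_injective V X E, isWeaklyUnramified_of_WU V hwu, H.hkXE X E, ?_, ?_⟩
  · refine ⟨fun b => ?_, fun b hb => ?_⟩
    · rw [RingHom.comp_apply, ← ValuationSubring.valuation_le_one_iff]
      exact OO_val_le_one V b
    · rw [RingHom.comp_apply]
      exact (mem_maximalIdeal_OO_iff V b).mp hb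
  · exact (algebraMap X E).injective

end ctx

end Groth.Agent.Lib.EppFinH8
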