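import Mathlib
import Groth.Prelude.Def_EtRam
import Groth.Agent.Lib.EppX5_helper8

/-!
# The main induction for Epp's theorem in the complete / algebraically closed residue case (helper8)

`Solvable K L V Z`: there is a finite extension `K₁ / K` inside `Ω` such that the value group of
`L K₁ (Z)` is generated by the value of an element of `K₁`.
-/

set_option autoImplicit false
universe u

namespace Groth.Agent.Lib.EppFinH8

open IsLocalRing IntermediateField

section basic

variable {K L Ω : Type u} [Field K] [Field L] [Field Ω] [Algebra K Ω] [Algebra L Ω]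

theorem fg_of_finite' (K₁ : IntermediateField K Ω) [FiniteDimensional K K₁] : K₁.FG := by
  apply fg_of_fg_toSubalgebra
  apply Subalgebra.fg_of_fg_toSubmodule
  exact Module.Finite.iff_fg.mp ‹FiniteDimensional K K₁›

theorem isIntegral_of_mem_finite (K₁ : IntermediateField K Ω) [FiniteDimensional K K₁] {x : Ω}
    (hx : x ∈ K₁) : IsIntegral K x := by
  have : IsIntegral K (⟨x, hx⟩ : K₁) := Algebra.IsIntegral.isIntegral _
  exact this.map (IsScalarTower.toAlgHom K K₁ Ω)

theorem finiteDimensional_LK [Algebra K L] [IsScalarTower K L Ω] (K₁ : IntermediateField K Ω)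
    [FiniteDimensional K K₁] : FiniteDimensional L (LK L K₁) := by
  obtain ⟨t, ht, h⟩ := fg_def.mp (fg_of_finite' K₁)
  have : LK L K₁ = adjoin L t := by
    apply le_antisymm
    · rw [adjoin_le_iff]
      intro x hx
      rw [SetLike.mem_coe, ← h] at hx
      have : adjoin K t ≤ (adjoin L t).restrictScalars K := by
        rw [adjoin_le_iff]
        exact subset_adjoin L t
      exact this hx
    · apply adjoin.mono
      rw [← h]
      exact subset_adjoin K t
  rw [this]
  haveI := ht.to_subtype
  apply finiteDimensional_adjoin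
  intro x hx
  have hx' : x ∈ K₁ := by rw [← h]; exact subset_adjoin K t hx
  exact (isIntegral_of_mem_finite K₁ hx').tower_top

/-- The compositum `L K₁ (Z)`. -/
abbrev LKZ (L : Type u) {K Ω : Type u} [Field K] [Field L] [Field Ω] [Algebra K Ω] [Algebra L Ω]
    (K₁ : IntermediateField K Ω) (Z : Set Ω) : IntermediateField L Ω :=
  adjoin L ((K₁ : Set Ω) ∪ Z)

theorem finiteDimensional_LKZ [Algebra K L] [IsScalarTower K L Ω] (K₁ : IntermediateField K Ω)
    [FiniteDimensional K K₁] (Z : Set Ω) (hZ : Z.Finite) (hint : ∀ z ∈ Z, IsIntegral L z) :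
    FiniteDimensional L (LKZ L K₁ Z) := by
  unfold LKZ
  rw [adjoin_union]
  haveI : FiniteDimensional L (adjoin L (K₁ : Set Ω)) := finiteDimensional_LK K₁
  haveI := hZ.to_subtype
  haveI : FiniteDimensional L (adjoin L Z) := finiteDimensional_adjoin hint
  exact finiteDimensional_sup _ _

/-- The inclusion of an intermediate field over `K` into one over `L`. -/
@[reducible] def inclAlg (K₁ : IntermediateField K Ω) (E : IntermediateField L Ω)
    (h : (K₁ : Set Ω) ⊆ E) : Algebra K₁ E :=
  (RingHom.codRestrict (algebraMap K₁ Ω) E (fun x => h x.2)).toAlgebra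

theorem inclAlg_tower (K₁ : IntermediateField K Ω) (E : IntermediateField L Ω)
    (h : (K₁ : Set Ω) ⊆ E) :
    letI := inclAlg K₁ E h
    IsScalarTower K₁ E Ω := by
  letI := inclAlg K₁ E h
  exact IsScalarTower.of_algebraMap_eq (fun _ => rfl)

theorem range_algebraMap_IF (K₁ : IntermediateField K Ω) :
    Set.range (algebraMap K₁ Ω) = (K₁ : Set Ω) := by
  ext x
  constructor
  · rintro ⟨y, rfl⟩
    exact y.2
  · intro hx
    exact ⟨⟨x, hx⟩, rfl⟩

variable (K L) in
/-- The problem `Z` is solvable over `(K, L)`. -/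
def Solvable (V : ValuationSubring Ω) (Z : Set Ω) : Prop :=
  ∃ K₁ : IntermediateField K Ω, FiniteDimensional K K₁ ∧
    WU V (K₁ : Set Ω) (LKZ L K₁ Z : Set Ω)

theorem Solvable.of_rebase {V : ValuationSubring Ω} (K₁ : IntermediateField K Ω)
    [FiniteDimensional K K₁] (E : IntermediateField L Ω) (Z Z' : Set Ω)
    (hZ : Z ⊆ (E : Set Ω) ∪ Z')
    (h : Solvable (↥K₁) (↥E) V Z') : Solvable K L V Z := by
  obtain ⟨K₂, hfin, hwu⟩ := h
  refine ⟨K₂.restrictScalars K, ?_, ?_⟩
  · haveI := hfin
    show Module.Finite K K₂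
    exact Module.Finite.trans K₁ K₂
  · refine hwu.mono (fun x hx => hx) ?_
    have : adjoin L (((K₂.restrictScalars K : IntermediateField K Ω) : Set Ω) ∪ Z) ≤
        (adjoin (↥E) ((K₂ : Set Ω) ∪ Z')).restrictScalars L := by
      apply adjoin_le_iff.mpr
      rintro x (hx | hx)
      · show x ∈ adjoin (↥E) ((K₂ : Set Ω) ∪ Z')
        have hx' : x ∈ (K₂ : Set Ω) := hx
        exact subset_adjoin (↥E) ((K₂ : Set Ω) ∪ Z') (Or.inl hx')
      · show x ∈ adjoin (↥E) ((K₂ : Set Ω) ∪ Z')
        rcases hZ hx with hxE | hxZ'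
        · exact (adjoin (↥E) ((K₂ : Set Ω) ∪ Z')).algebraMap_mem ⟨x, hxE⟩
        · exact subset_adjoin (↥E) ((K₂ : Set Ω) ∪ Z') (Or.inr hxZ')
    exact this

end basic

end Groth.Agent.Lib.EppFinH8
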