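import Mathlib
import Groth.Agent.Lib.EppS1_helper8

/-!
# Phase 1: multiplicative normal form of one-units in a weakly unramified DVR extension (helper8)
-/

set_option autoImplicit false
universe u

namespace Groth.Agent.Lib.EppFinH8

open IsLocalRing

section Phase1

variable {A B : Type u} [CommRing A] [CommRing B] [IsLocalRing B] [Algebra A B]
  (p : ℕ) [hp : Fact p.Prime]

/-- `μ` is not a `p`-th power modulo the maximal ideal. -/
def Prim (μ : B) : Prop := ∀ c : B, μ - c ^ p ∉ maximalIdeal B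

/-- The basic factor `1 + ϖ^i μ^(p^h)`. -/
def fac (ϖ : B) (t : ℕ × B × ℕ) : B := 1 + ϖ ^ t.1 * t.2.1 ^ (p ^ t.2.2)

variable {p}

theorem exists_eq_add_mul {ϖ : B} (hϖ : maximalIdeal B = Ideal.span {ϖ}) {x y : B}
    (h : x - y ∈ maximalIdeal B) : ∃ a', x = y + ϖ * a' := by
  rw [hϖ, Ideal.mem_span_singleton] at h
  obtain ⟨a', ha'⟩ := h
  exact ⟨a', by rw [← ha']; ring⟩

/-- Phase 1 normal form. -/
theorem phase1 (ϖA : A) (hϖ : maximalIdeal B = Ideal.span {algebraMap A B ϖA}) (l : ℕ)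
    (hpl : ∀ j', j' < l → (algebraMap A B ϖA) ^ (p * j' + 1) ∣ (p : B) * (algebraMap A B ϖA) ^ j')
    (hcp : ∀ b : B, IsUnit b → (∃ a : A, b - algebraMap A B a ∈ maximalIdeal B) ∨
      (∃ (μ : B) (h : ℕ), b - μ ^ p ^ h ∈ maximalIdeal B ∧ Prim p μ))
    (d : ℕ) : ∀ j, 1 ≤ j → p * l ≤ j + d → ∀ u : B, u - 1 ∈ Ideal.span {(algebraMap A B ϖA) ^ j} →
      ∃ (c : B) (α : A) (T : List (ℕ × B × ℕ)) (r : B), IsUnit c ∧ IsUnit (algebraMap A B α) ∧
        u = c ^ p * algebraMap A B α * (T.map (fac p (algebraMap A B ϖA))).prod * r ∧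
        r - 1 ∈ Ideal.span {(algebraMap A B ϖA) ^ (p * l)} ∧
        (∀ t ∈ T, j ≤ t.1 ∧ t.1 < p * l ∧ Prim p t.2.1 ∧ (¬ p ∣ t.1 ∨ t.2.2 = 0)) ∧
        (T.map Prod.fst).Pairwise (· < ·) := by
  obtain ⟨ϖ, hϖdef⟩ : ∃ ϖ, ϖ = algebraMap A B ϖA := ⟨_, rfl⟩
  rw [← hϖdef] at hϖ hpl ⊢
  have hϖm : ϖ ∈ maximalIdeal B := by rw [hϖ]; exact Ideal.mem_span_singleton_self ϖ
  -- base case helper
  have hbase : ∀ j, p * l ≤ j → ∀ u : B, u - 1 ∈ Ideal.span {ϖ ^ j} →
      ∃ (c : B) (α : A) (T : List (ℕ × B × ℕ)) (r : B), IsUnit c ∧ IsUnit (algebraMap A B α) ∧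
        u = c ^ p * algebraMap A B α * (T.map (fac p ϖ)).prod * r ∧
        r - 1 ∈ Ideal.span {ϖ ^ (p * l)} ∧
        (∀ t ∈ T, j ≤ t.1 ∧ t.1 < p * l ∧ Prim p t.2.1 ∧ (¬ p ∣ t.1 ∨ t.2.2 = 0)) ∧
        (T.map Prod.fst).Pairwise (· < ·) := by
    intro j hj u hu
    refine ⟨1, 1, [], u, isUnit_one, by rw [map_one]; exact isUnit_one, by simp, ?_, by simp, by simp⟩
    rw [Ideal.mem_span_singleton] at hu ⊢
    exact (pow_dvd_pow ϖ hj).trans hu
  induction d with
  | zero =>
    intro j _ hjd u hu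
    exact hbase j (by simpa using hjd) u hu
  | succ d ih =>
    intro j hj1 hjd u hu
    by_cases hjN : p * l ≤ j
    · exact hbase j hjN u hu
    push Not at hjN
    have hj0 : j ≠ 0 := by omega
    have hϖj : ϖ ^ j ∈ maximalIdeal B := Ideal.pow_mem_of_mem _ hϖm _ (by omega)
    -- the reduction step: if u = f * u' with u' at level j+1
    have hstep : ∀ (f : B), IsUnit f → u - f ∈ Ideal.span {ϖ ^ (j + 1)} →
        ∃ u', u = f * u' ∧ u' - 1 ∈ Ideal.span {ϖ ^ (j + 1)} := by
      intro f hf hmem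
      obtain ⟨f', hf'⟩ := hf.exists_right_inv
      refine ⟨u * f', by rw [mul_comm u, ← mul_assoc, hf', one_mul], ?_⟩
      have : u * f' - 1 = (u - f) * f' := by rw [sub_mul, hf']
      rw [this]
      exact Ideal.mul_mem_right _ _ hmem
    rw [Ideal.mem_span_singleton] at hu
    obtain ⟨a, ha⟩ := hu
    have hu' : u = 1 + ϖ ^ j * a := by rw [← ha]; ring
    by_cases hau : IsUnit a
    · rcases hcp a hau with ⟨a₀, ha₀⟩ | ⟨μ, h, hμ, hprim⟩
      · -- constant leading coefficient
        obtain ⟨a', ha'⟩ := exists_eq_add_mul hϖ ha₀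
        have hfm : ϖ ^ j * algebraMap A B a₀ ∈ maximalIdeal B := Ideal.mul_mem_right _ _ hϖj
        have hfu : IsUnit (1 + ϖ ^ j * algebraMap A B a₀) := isUnit_one_add hfm
        obtain ⟨u', huu', hu'1⟩ := hstep (1 + ϖ ^ j * algebraMap A B a₀) hfu (by
          rw [Ideal.mem_span_singleton]
          exact ⟨a', by rw [hu', ha']; ring⟩)
        obtain ⟨c, α, T, r, hc, hα, heq, hr, hT, hsort⟩ := ih (j + 1) (by omega) (by omega) u' hu'1
        refine ⟨c, (1 + ϖA ^ j * a₀) * α, T, r, hc, ?_, ?_, hr, ?_, hsort⟩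
        · rw [map_mul, map_add, map_one, map_mul, map_pow, ← hϖdef]
          exact hfu.mul hα
        · rw [huu', heq, map_mul, map_add, map_one, map_mul, map_pow, ← hϖdef]
          ring
        · intro t ht
          obtain ⟨h1, h2⟩ := hT t ht
          exact ⟨by omega, h2⟩
      · -- non-constant leading coefficient
        obtain ⟨a', ha'⟩ := exists_eq_add_mul hϖ hμ
        by_cases hcase : ¬ p ∣ j ∨ h = 0
        · have hfm : ϖ ^ j * μ ^ p ^ h ∈ maximalIdeal B := Ideal.mul_mem_right _ _ hϖj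
          have hfu : IsUnit (1 + ϖ ^ j * μ ^ p ^ h) := isUnit_one_add hfm
          obtain ⟨u', huu', hu'1⟩ := hstep (1 + ϖ ^ j * μ ^ p ^ h) hfu (by
            rw [Ideal.mem_span_singleton]
            exact ⟨a', by rw [hu', ha']; ring⟩)
          obtain ⟨c, α, T, r, hc, hα, heq, hr, hT, hsort⟩ :=
            ih (j + 1) (by omega) (by omega) u' hu'1
          refine ⟨c, α, (j, μ, h) :: T, r, hc, hα, ?_, hr, ?_, ?_⟩
          · rw [huu', heq, List.map_cons, List.prod_cons]
            show _ = c ^ p * algebraMap A B α * ((1 + ϖ ^ j * μ ^ p ^ h) * _) * r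
            ring
          · intro t ht
            rw [List.mem_cons] at ht
            rcases ht with rfl | ht
            · exact ⟨le_rfl, hjN, hprim, hcase⟩
            · obtain ⟨h1, h2⟩ := hT t ht
              exact ⟨by omega, h2⟩
          · rw [List.map_cons, List.pairwise_cons]
            refine ⟨?_, hsort⟩
            intro i hi
            rw [List.mem_map] at hi
            obtain ⟨t, ht, rfl⟩ := hi
            have := (hT t ht).1
            show j < t.1
            omega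
        · push Not at hcase
          obtain ⟨⟨j', rfl⟩, hh0⟩ := hcase
          obtain ⟨h', rfl⟩ : ∃ h', h = h' + 1 := ⟨h - 1, by omega⟩
          have hj'0 : j' ≠ 0 := by rintro rfl; simp at hj0
          have hj'l : j' < l := by
            by_contra hcon
            push Not at hcon
            have := Nat.mul_le_mul_left p hcon
            omega
          obtain ⟨y, hy⟩ : ∃ y, y = ϖ ^ j' * μ ^ p ^ h' := ⟨_, rfl⟩
          have hym : y ∈ maximalIdeal B := by
            rw [hy]
            exact Ideal.mul_mem_right _ _ (Ideal.pow_mem_of_mem _ hϖm _ (by omega))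
          have hgu : IsUnit (1 + y) := isUnit_one_add hym
          have hgp := one_add_pow_eq hp.out y
          have hyp : y ^ p = ϖ ^ (p * j') * μ ^ p ^ (h' + 1) := by
            rw [hy, mul_pow, ← pow_mul, ← pow_mul, pow_succ, mul_comm j' p]
          obtain ⟨q, hq⟩ := hpl j' hj'l
          obtain ⟨u', huu', hu'1⟩ := hstep ((1 + y) ^ p) (hgu.pow p) (by
            rw [Ideal.mem_span_singleton]
            refine ⟨a' - q * μ ^ p ^ h' * sP p y, ?_⟩
            rw [hu', ha', hgp, hyp]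
            have : (p : B) * y * sP p y = (p : B) * ϖ ^ j' * (μ ^ p ^ h' * sP p y) := by
              rw [hy]; ring
            rw [this, hq]
            ring)
          obtain ⟨c, α, T, r, hc, hα, heq, hr, hT, hsort⟩ :=
            ih (p * j' + 1) (by omega) (by omega) u' hu'1
          refine ⟨(1 + y) * c, α, T, r, hgu.mul hc, hα, ?_, hr, ?_, hsort⟩
          · rw [huu', heq, mul_pow]; ring
          · intro t ht
            obtain ⟨h1, h2⟩ := hT t ht
            exact ⟨by omega, h2⟩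
    · -- a is a non-unit: move to the next level
      have ham : a ∈ maximalIdeal B := (mem_maximalIdeal a).mpr hau
      rw [hϖ, Ideal.mem_span_singleton] at ham
      obtain ⟨a', ha'⟩ := ham
      have hu'1 : u - 1 ∈ Ideal.span {ϖ ^ (j + 1)} := by
        rw [Ideal.mem_span_singleton]
        exact ⟨a', by rw [hu', ha']; ring⟩
      obtain ⟨c, α, T, r, hc, hα, heq, hr, hT, hsort⟩ := ih (j + 1) (by omega) (by omega) u hu'1
      refine ⟨c, α, T, r, hc, hα, heq, hr, ?_, hsort⟩
      intro t ht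
      obtain ⟨h1, h2⟩ := hT t ht
      exact ⟨by omega, h2⟩

end Phase1

end Groth.Agent.Lib.EppFinH8
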