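import Mathlib
import Groth.Prelude.Def_EtRam
import Groth.Agent.Lib.EppM1_helper8
import Groth.Agent.Lib.EppD1_helper8
import Groth.Agent.Lib.EppD2_helper8
import Groth.Agent.Lib.EppD3_helper8
import Groth.Agent.Lib.EppS2_helper8
import Groth.Agent.Lib.ASExt1_helper8

/-!
# The two final forms of the Kummer step (helper8)
-/

set_option autoImplicit false
universe u

namespace Groth.Agent.Lib.EppFinH8

open IsLocalRing IntermediateField

theorem WU.trans {Ω : Type u} [Field Ω] {V : ValuationSubring Ω} {S₀ S₁ S₂ : Set Ω}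
    (h01 : WU V S₀ S₁) (h12 : WU V S₁ S₂) (hS : S₁ ⊆ S₂) (hS0 : S₀ ⊆ S₁) : WU V S₀ S₂ := by
  obtain ⟨ϖ, hϖ, hϖ0, hϖ1, hgen⟩ := h01
  exact ⟨ϖ, hϖ, hϖ0, hϖ1, h12.of_gen hS (hS0 hϖ) hϖ0 hϖ1 hgen⟩


theorem val_pow_sub_pow_lt {Ω : Type u} [Field Ω] {V : ValuationSubring Ω} {a y : Ω}
    (ha : V.valuation a ≤ 1) (hy : V.valuation y ≤ 1) (h : V.valuation (a - y) < 1) (n : ℕ) :
    V.valuation (a ^ n - y ^ n) < 1 ∨ n = 0 := by
  by_cases hn : n = 0
  · exact Or.inr hn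
  left
  rw [← (Commute.all a y).mul_geom_sum₂ n, map_mul]
  have h1 : V.valuation (∑ i ∈ Finset.range n, a ^ i * y ^ (n - 1 - i)) ≤ 1 := by
    apply Valuation.map_sum_le
    intro i _
    rw [map_mul, map_pow, map_pow]
    exact mul_le_one' (pow_le_one' ha i) (pow_le_one' hy _)
  calc _ ≤ V.valuation (a - y) * 1 := by gcongr
    _ < 1 := by rw [mul_one]; exact h

section ctx

variable {p : ℕ} {A B K L Ω : Type u}
  [CommRing A] [IsDomain A] [IsDiscreteValuationRing A]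
  [CommRing B] [IsDomain B] [IsDiscreteValuationRing B]
  [Algebra A B] [IsLocalHom (algebraMap A B)]
  [Field K] [Field L] [Algebra A K] [IsFractionRing A K] [Algebra B L] [IsFractionRing B L]
  [Algebra K L] [Algebra A L] [IsScalarTower A K L] [IsScalarTower A B L]
  [IsAlgClosed (ResidueField A)] [CharP (ResidueField A) p]
  [IsAdicComplete (maximalIdeal A) A] [IsAdicComplete (maximalIdeal B) B]
  [Field Ω] [Algebra K Ω] [Algebra L Ω] [IsScalarTower K L Ω]
  {V : ValuationSubring Ω}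

/-- the image of `b : B` in `Ω` -/
def bΩ (L Ω : Type u) {B : Type u} [CommRing B] [Field L] [Algebra B L] [Field Ω] [Algebra L Ω]
    (b : B) : Ω := algebraMap L Ω (algebraMap B L b)

theorem EppCtx.val_bΩ_le (H : EppCtx p A B K L Ω V) (b : B) : V.valuation (bΩ L Ω b) ≤ 1 :=
  (V.valuation_le_one_iff _).mpr (H.hdom.1 b)

theorem EppCtx.mem_maximalIdeal_B_iff (H : EppCtx p A B K L Ω V) (b : B) :
    b ∈ maximalIdeal B ↔ V.valuation (bΩ L Ω b) < 1 := by
  constructor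
  · exact fun hb => H.hdom.2 b hb
  · intro hb
    rw [mem_maximalIdeal, mem_nonunits_iff]
    intro hu
    obtain ⟨u, rfl⟩ := hu
    have h1 : bΩ L Ω (u : B) * bΩ L Ω ((u⁻¹ : Bˣ) : B) = 1 := by
      unfold bΩ
      rw [← map_mul, ← map_mul, Units.mul_inv, map_one, map_one]
    have h2 := congrArg V.valuation h1
    rw [map_mul, map_one] at h2
    have h3 := H.val_bΩ_le ((u⁻¹ : Bˣ) : B)
    have : V.valuation (bΩ L Ω (u : B)) * V.valuation (bΩ L Ω ((u⁻¹ : Bˣ) : B)) < 1 := by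
      calc _ ≤ V.valuation (bΩ L Ω (u : B)) * 1 := by gcongr
        _ < 1 := by rw [mul_one]; exact hb
    rw [h2] at this
    exact lt_irrefl _ this

theorem EppCtx.exists_B_of_val_le_one (H : EppCtx p A B K L Ω V) (y : L)
    (hy : V.valuation (algebraMap L Ω y) ≤ 1) : ∃ b : B, algebraMap B L b = y := by
  rcases ValuationRing.isInteger_or_isInteger B y with ⟨b, hb⟩ | ⟨b, hb⟩
  · exact ⟨b, hb⟩
  · by_cases hy0 : y = 0
    · exact ⟨0, by rw [hy0, map_zero]⟩
    by_cases hbm : b ∈ maximalIdeal B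
    · exfalso
      have h1 := (H.mem_maximalIdeal_B_iff b).mp hbm
      unfold bΩ at h1
      rw [hb, map_inv₀, map_inv₀] at h1
      have h0 : V.valuation (algebraMap L Ω y) ≠ 0 :=
        (Valuation.ne_zero_iff _).mpr ((map_ne_zero _).mpr hy0)
      have h2 : 1 < V.valuation (algebraMap L Ω y) := by
        rwa [inv_lt_one₀ (zero_lt_iff.mpr h0)] at h1
      exact absurd hy (not_le.mpr h2)
    · rw [mem_maximalIdeal, mem_nonunits_iff, not_not] at hbm
      obtain ⟨u, rfl⟩ := hbm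
      refine ⟨((u⁻¹ : Bˣ) : B), ?_⟩
      have h1 : algebraMap B L (u : B) * algebraMap B L ((u⁻¹ : Bˣ) : B) = 1 := by
        rw [← map_mul, Units.mul_inv, map_one]
      rw [hb] at h1
      have := eq_inv_of_mul_eq_one_right h1
      rw [this, inv_inv]


open Polynomial in
set_option maxHeartbeats 3200000 in
/-- Final form A of the Kummer step: `z^p = C^p (1 + x₁^p b)` with `b` not a `p`-th power in the
residue field and `v(p) < v(x₁)^(p-1)`: the residue field grows by a purely inseparable extension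
of degree `p`, hence the value group does not grow. -/
theorem EppCtx.kummer_final_insep [hp : Fact p.Prime] (H : EppCtx p A B K L Ω V)
    (K₁ : IntermediateField K Ω) [FiniteDimensional K K₁]
    (x₁ : Ω) (hx₁ : x₁ ∈ K₁) (hx1 : V.valuation x₁ ≤ 1)
    (hval : V.valuation (p : Ω) < V.valuation x₁ ^ (p - 1))
    (μ : B) (hμ : Prim p μ) (b : Ω) (hb : b ∈ LK L K₁) (hbμ : V.valuation (b - bΩ L Ω μ) < 1)
    (C₀ : Ω) (hC : C₀ ∈ LK L K₁) (hC0 : C₀ ≠ 0) (z : Ω)
    (hz : z ^ p = C₀ ^ p * (1 + x₁ ^ p * b)) :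
    WU V (K₁ : Set Ω) (LKZ L K₁ {z} : Set Ω) := by
  classical
  obtain ⟨hwuF, hres⟩ := H.totBC K₁
  obtain ⟨F, hF⟩ : ∃ F : IntermediateField L Ω, F = LK L K₁ := ⟨_, rfl⟩
  rw [← hF] at hwuF hres hb hC
  have hK₁F : (K₁ : Set Ω) ⊆ F := by rw [hF]; exact subset_adjoin L _
  have hp1 : p - 1 ≠ 0 := by have := hp.out.two_le; omega
  have hx₁0 : x₁ ≠ 0 := by
    rintro rfl
    rw [map_zero, zero_pow hp1] at hval
    exact not_lt_zero' hval
  have hx₁F : x₁ ∈ F := hK₁F hx₁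
  obtain ⟨q, hq⟩ : ∃ q : Ω, q = (p : Ω) / x₁ ^ (p - 1) := ⟨_, rfl⟩
  have hpq : (p : Ω) = x₁ ^ (p - 1) * q := by
    rw [hq]; field_simp
  have hqF : q ∈ F := by rw [hq]; exact div_mem (_root_.natCast_mem F p) (pow_mem hx₁F _)
  have hq1 : V.valuation q < 1 := by
    rw [hq, map_div₀, map_pow]
    exact (div_lt_one₀ (pow_pos (val_pos_of_ne hx₁0) _)).mpr hval
  obtain ⟨t, ht⟩ : ∃ t : Ω, t = (z / C₀ - 1) / x₁ := ⟨_, rfl⟩
  have h1t : 1 + x₁ * t = z / C₀ := by
    rw [ht]; field_simp; ring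
  have hpow : (1 + x₁ * t) ^ p = 1 + x₁ ^ p * b := by
    rw [h1t, div_pow, hz]; field_simp
  have hroot : (shiftPoly p x₁ q b).eval t = 0 :=
    shiftPoly_root hp.out x₁ q b t hpq (mem_nonZeroDivisors_of_ne_zero hx₁0) hpow
  have hμ1 : V.valuation (bΩ L Ω μ) ≤ 1 := H.val_bΩ_le μ
  have hb1 : V.valuation b ≤ 1 := by
    have : b = (b - bΩ L Ω μ) + bΩ L Ω μ := by ring
    rw [this]
    exact (Valuation.map_add _ _ _).trans (max_le hbμ.le hμ1)
  obtain ⟨x₁', hx₁'⟩ : ∃ x' : OO V F, OOι V F x' = x₁ := ⟨OOmk V ⟨x₁, hx₁F⟩ hx1, rfl⟩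
  obtain ⟨q', hq'⟩ : ∃ x' : OO V F, OOι V F x' = q := ⟨OOmk V ⟨q, hqF⟩ hq1.le, rfl⟩
  obtain ⟨b', hb'⟩ : ∃ x' : OO V F, OOι V F x' = b := ⟨OOmk V ⟨b, hb⟩ hb1, rfl⟩
  obtain ⟨G, hGdef⟩ : ∃ G : (OO V F)[X], G = shiftPoly p x₁' q' b' := ⟨_, rfl⟩
  have hGmonic : G.Monic := by rw [hGdef]; exact shiftPoly_monic hp.out _ _ _
  have hGroot : eval₂ (OOι V F) t G = 0 := by
    rw [← Polynomial.eval_map, hGdef, map_shiftPoly, hx₁', hq', hb']
    exact hroot
  have hq'm : residue (OO V F) q' = 0 := by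
    rw [residue_eq_zero_iff, mem_maximalIdeal_OO_iff, hq']
    exact hq1
  have hGred : G.map (residue (OO V F)) = X ^ p - C (residue _ b') := by
    rw [hGdef, map_shiftPoly, hq'm, shiftPoly_q_zero]
  have hirr : Irreducible (G.map (residue (OO V F))) := by
    rw [hGred]
    apply X_pow_sub_C_irreducible_of_prime hp.out
    intro ebar he
    obtain ⟨e, rfl⟩ := residue_surjective ebar
    have h1 : e ^ p - b' ∈ maximalIdeal (OO V F) := by
      rw [← residue_eq_zero_iff, map_sub, map_pow, he, sub_self]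
    have h2 := (mem_maximalIdeal_OO_iff V _).mp h1
    rw [map_sub, map_pow, hb'] at h2
    have he1 : V.valuation (OOι V F e) ≤ 1 := OO_val_le_one V e
    obtain ⟨y, ⟨y', rfl⟩, hy⟩ := hres (OOι V F e) (e : F).2 he1
    have hy1 : V.valuation (algebraMap L Ω y') ≤ 1 := by
      have : algebraMap L Ω y' = OOι V F e - (OOι V F e - algebraMap L Ω y') := by ring
      rw [this]
      exact (Valuation.map_sub _ _ _).trans (max_le he1 hy.le)
    obtain ⟨c, rfl⟩ := H.exists_B_of_val_le_one y' hy1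
    apply hμ c
    rw [H.mem_maximalIdeal_B_iff]
    have h3 : bΩ L Ω (μ - c ^ p) = -(b - bΩ L Ω μ) + (-(OOι V F e ^ p - b) +
        (OOι V F e ^ p - (algebraMap L Ω (algebraMap B L c)) ^ p)) := by
      unfold bΩ
      rw [map_sub, map_sub, map_pow, map_pow]
      ring
    rw [h3]
    have h4 : V.valuation (OOι V F e ^ p - (algebraMap L Ω (algebraMap B L c)) ^ p) < 1 := by
      rcases val_pow_sub_pow_lt he1 hy1 hy p with h | h
      · exact h
      · exact absurd h hp.out.ne_zero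
    refine lt_of_le_of_lt (Valuation.map_add _ _ _) (max_lt ?_ ?_)
    · rw [Valuation.map_neg]; exact hbμ
    · refine lt_of_le_of_lt (Valuation.map_add _ _ _) (max_lt ?_ h4)
      rw [Valuation.map_neg]; exact h2
  have hvals := values_of_irreducible_reduction V F G hGmonic hirr t hGroot
  have hzt : z = C₀ * (1 + x₁ * t) := by
    rw [h1t]; field_simp
  have hle : adjoin L ((K₁ : Set Ω) ∪ {z}) ≤ (adjoin (↥F) ({t} : Set Ω)).restrictScalars L := by
    apply adjoin_le_iff.mpr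
    rintro x (hx | hx)
    · show x ∈ adjoin (↥F) ({t} : Set Ω)
      exact (adjoin (↥F) ({t} : Set Ω)).algebraMap_mem ⟨x, hK₁F hx⟩
    · show x ∈ adjoin (↥F) ({t} : Set Ω)
      rw [Set.mem_singleton_iff] at hx
      rw [hx, hzt]
      have htm : t ∈ adjoin (↥F) ({t} : Set Ω) := subset_adjoin (↥F) _ rfl
      have hCm : C₀ ∈ adjoin (↥F) ({t} : Set Ω) :=
        (adjoin (↥F) ({t} : Set Ω)).algebraMap_mem ⟨C₀, hC⟩
      have hxm : x₁ ∈ adjoin (↥F) ({t} : Set Ω) :=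
        (adjoin (↥F) ({t} : Set Ω)).algebraMap_mem ⟨x₁, hx₁F⟩
      exact mul_mem hCm (add_mem (one_mem _) (mul_mem hxm htm))
  obtain ⟨ϖ, hϖ, hϖ0, hϖ1, hgen⟩ := hwuF
  refine ⟨ϖ, hϖ, hϖ0, hϖ1, ?_⟩
  intro x hx hx0
  obtain ⟨y, hy0, hy⟩ := hvals x (hle hx) hx0
  rw [hy]
  exact hgen _ y.2 ((_root_.map_ne_zero _).mpr hy0)


theorem EppCtx.val_p_lt_one (H : EppCtx p A B K L Ω V) : V.valuation (p : Ω) < 1 := by
  have hm : (p : A) ∈ maximalIdeal A := by
    rw [← residue_eq_zero_iff, map_natCast]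
    exact CharP.cast_eq_zero _ p
  have := H.domA.2 _ hm
  rwa [RingHom.comp_apply, map_natCast, map_natCast] at this

open Polynomial in
set_option maxHeartbeats 3200000 in
/-- Final form B of the Kummer step: `z^p = C^p r` with `r ≡ 1` modulo `λ^p`: the extension is
unramified (Artin–Schreier reduction). -/
theorem EppCtx.kummer_final_unram [hp : Fact p.Prime] (H : EppCtx p A B K L Ω V)
    (K₁ : IntermediateField K Ω) [FiniteDimensional K K₁]
    (lam : Ω) (hlam : lam ∈ K₁) (hlamp : lam ^ (p - 1) = -(p : Ω)) (hp0 : (p : Ω) ≠ 0)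
    (r : Ω) (hr : r ∈ LK L K₁) (hr1 : V.valuation (r - 1) ≤ V.valuation lam ^ p)
    (C₀ : Ω) (hC : C₀ ∈ LK L K₁) (hC0 : C₀ ≠ 0) (z : Ω) (hz : z ^ p = C₀ ^ p * r) :
    WU V (K₁ : Set Ω) (LKZ L K₁ {z} : Set Ω) := by
  classical
  obtain ⟨hwuF, -⟩ := H.totBC K₁
  haveI hfinF : FiniteDimensional L (LK L K₁) := finiteDimensional_LK K₁
  obtain ⟨F, hF⟩ : ∃ F : IntermediateField L Ω, F = LK L K₁ := ⟨_, rfl⟩
  rw [← hF] at hwuF hr hC hfinF
  have hK₁F : (K₁ : Set Ω) ⊆ F := by rw [hF]; exact subset_adjoin L _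
  have hp1 : p - 1 ≠ 0 := by have := hp.out.two_le; omega
  have hlam0 : lam ≠ 0 := by
    rintro rfl
    rw [zero_pow hp1] at hlamp
    exact hp0 (neg_eq_zero.mp hlamp.symm)
  have hlamF : lam ∈ F := hK₁F hlam
  have hvp := H.val_p_lt_one
  have hlam1 : V.valuation lam < 1 := by
    by_contra hcon
    push Not at hcon
    have h1 : (1 : V.ValueGroup) ≤ V.valuation lam ^ (p - 1) := one_le_pow₀ hcon
    rw [← map_pow, hlamp, Valuation.map_neg] at h1
    exact absurd hvp (not_lt.mpr h1)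
  have hpq : (p : Ω) = lam ^ (p - 1) * (-1) := by rw [hlamp]; ring
  obtain ⟨ε, hε⟩ : ∃ ε : Ω, ε = (r - 1) / lam ^ p := ⟨_, rfl⟩
  have hεF : ε ∈ F := by
    rw [hε]; exact div_mem (sub_mem hr (one_mem F)) (pow_mem hlamF _)
  have hε1 : V.valuation ε ≤ 1 := by
    rw [hε, map_div₀, map_pow]
    exact (div_le_one₀ (pow_pos (val_pos_of_ne hlam0) _)).mpr hr1
  have hrε : r = 1 + lam ^ p * ε := by
    rw [hε]; field_simp; ring
  obtain ⟨t, ht⟩ : ∃ t : Ω, t = (z / C₀ - 1) / lam := ⟨_, rfl⟩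
  have h1t : 1 + lam * t = z / C₀ := by
    rw [ht]; field_simp; ring
  have hpow : (1 + lam * t) ^ p = 1 + lam ^ p * ε := by
    rw [h1t, div_pow, hz, ← hrε]; field_simp
  have hroot : (shiftPoly p lam (-1) ε).eval t = 0 :=
    shiftPoly_root hp.out lam (-1) ε t hpq (mem_nonZeroDivisors_of_ne_zero hlam0) hpow
  obtain ⟨lam', hlam'⟩ : ∃ x' : OO V F, OOι V F x' = lam := ⟨OOmk V ⟨lam, hlamF⟩ hlam1.le, rfl⟩
  obtain ⟨ε', hε'⟩ : ∃ x' : OO V F, OOι V F x' = ε := ⟨OOmk V ⟨ε, hεF⟩ hε1, rfl⟩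
  obtain ⟨G, hGdef⟩ : ∃ G : (OO V F)[X], G = shiftPoly p lam' (-1) ε' := ⟨_, rfl⟩
  have hGmonic : G.Monic := by rw [hGdef]; exact shiftPoly_monic hp.out _ _ _
  have hGroot : eval₂ (OOι V F) t G = 0 := by
    rw [← Polynomial.eval_map, hGdef, map_shiftPoly, hlam', hε', map_neg, map_one]
    exact hroot
  have hlam'm : residue (OO V F) lam' = 0 := by
    rw [residue_eq_zero_iff, mem_maximalIdeal_OO_iff, hlam']
    exact hlam1
  haveI : CharP (ResidueField (OO V F)) p := by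
    rw [CharP.charP_iff_prime_eq_zero hp.out]
    have hm : (p : OO V F) ∈ maximalIdeal (OO V F) := by
      rw [mem_maximalIdeal_OO_iff, map_natCast]
      exact hvp
    rw [← map_natCast (residue (OO V F))]
    exact (residue_eq_zero_iff _).mpr hm
  have hGred : G.map (residue (OO V F)) = ASExtH8.asPoly p (residue _ ε') := by
    rw [hGdef, map_shiftPoly, hlam'm, map_neg, map_one, shiftPoly_x_zero hp.out]
    rfl
  have hsep : (G.map (residue (OO V F))).Separable := by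
    rw [hGred]
    exact ASExtH8.asPoly_separable p _
  haveI : IsDiscreteValuationRing (OO V F) := (H.extL F).1
  have hwu2 := WU_of_separable_reduction V F G hGmonic hsep t hGroot
  rw [range_algebraMap_IF] at hwu2
  have hFt : (F : Set Ω) ⊆ ((adjoin (↥F) ({t} : Set Ω) : IntermediateField F Ω) : Set Ω) :=
    fun x hx => (adjoin (↥F) ({t} : Set Ω)).algebraMap_mem ⟨x, hx⟩
  have hwu3 : WU V (K₁ : Set Ω) ((adjoin (↥F) ({t} : Set Ω) : IntermediateField F Ω) : Set Ω) :=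
    hwuF.trans hwu2 hFt hK₁F
  have hzt : z = C₀ * (1 + lam * t) := by
    rw [h1t]; field_simp
  have hle : adjoin L ((K₁ : Set Ω) ∪ {z}) ≤ (adjoin (↥F) ({t} : Set Ω)).restrictScalars L := by
    apply adjoin_le_iff.mpr
    rintro x (hx | hx)
    · show x ∈ adjoin (↥F) ({t} : Set Ω)
      exact (adjoin (↥F) ({t} : Set Ω)).algebraMap_mem ⟨x, hK₁F hx⟩
    · show x ∈ adjoin (↥F) ({t} : Set Ω)
      rw [Set.mem_singleton_iff] at hx
      rw [hx, hzt]
      have htm : t ∈ adjoin (↥F) ({t} : Set Ω) := subset_adjoin (↥F) _ rfl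
      have hCm : C₀ ∈ adjoin (↥F) ({t} : Set Ω) :=
        (adjoin (↥F) ({t} : Set Ω)).algebraMap_mem ⟨C₀, hC⟩
      have hxm : lam ∈ adjoin (↥F) ({t} : Set Ω) :=
        (adjoin (↥F) ({t} : Set Ω)).algebraMap_mem ⟨lam, hlamF⟩
      exact mul_mem hCm (add_mem (one_mem _) (mul_mem hxm htm))
  exact hwu3.mono (fun _ hx => hx) hle

end ctx

end Groth.Agent.Lib.EppFinH8
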