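import Mathlib
import Groth.Prelude.Def_EtRam
import Groth.Agent.Lib.EppD4_helper8
import Groth.Agent.Lib.EppS1_helper8

/-!
# Extraction of a factor `1 + ϖ^i μ^(p^h)` after adjoining roots (helper8)
-/

set_option autoImplicit false
universe u

namespace Groth.Agent.Lib.EppFinH8

open IsLocalRing IntermediateField

/-- the exponent identity `(p-1)(p^N + … + p^(N-h+1)) + p^(N+1-h) = p^(N+1)` -/
theorem sum_exponent (p N : ℕ) (hp : 1 ≤ p) : ∀ h, h ≤ N →
    (∑ r ∈ Finset.range h, (p - 1) * p ^ (N - r)) + p ^ (N + 1 - h) = p ^ (N + 1) := by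
  intro h
  induction h with
  | zero => intro _; simp
  | succ h ih =>
    intro hh
    have ih' := ih (by omega)
    rw [Finset.sum_range_succ, ← ih']
    have e1 : N + 1 - h = (N - h) + 1 := by omega
    have e2 : N + 1 - (h + 1) = N - h := by omega
    rw [e1, e2, pow_succ]
    obtain ⟨p', rfl⟩ : ∃ p', p = p' + 1 := ⟨p - 1, by omega⟩
    rw [Nat.add_sub_cancel]
    ring

/-- distinctness of the gaps -/
theorem gap_ne (p l N : ℕ) (hp : p.Prime) {i₁ h₁ i₂ h₂ : ℕ} (hi : i₁ ≠ i₂)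
    (hi₁ : i₁ < p * l) (hi₂ : i₂ < p * l) (hh₁ : h₁ ≤ N) (hh₂ : h₂ ≤ N)
    (hc₁ : ¬ p ∣ i₁ ∨ h₁ = 0) (hc₂ : ¬ p ∣ i₂ ∨ h₂ = 0) :
    p ^ (N - h₁) * (p * l - i₁) ≠ p ^ (N - h₂) * (p * l - i₂) := by
  have key : ∀ {i₁ h₁ i₂ h₂ : ℕ}, i₁ ≠ i₂ → i₁ < p * l → i₂ < p * l → h₁ ≤ N → h₂ ≤ N →
      (¬ p ∣ i₂ ∨ h₂ = 0) → h₁ ≤ h₂ →
      p ^ (N - h₁) * (p * l - i₁) ≠ p ^ (N - h₂) * (p * l - i₂) := by
    intro i₁ h₁ i₂ h₂ hi hi₁ hi₂ hh₁ hh₂ hc₂ hle heq
    have e1 : N - h₁ = (N - h₂) + (h₂ - h₁) := by omega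
    rw [e1, pow_add, mul_assoc] at heq
    have hpos : 0 < p ^ (N - h₂) := pow_pos hp.pos _
    have heq' := Nat.eq_of_mul_eq_mul_left hpos heq
    rcases Nat.eq_or_lt_of_le hle with h | h
    · rw [h, Nat.sub_self, pow_zero, one_mul] at heq'
      omega
    · have h2 : h₂ ≠ 0 := by omega
      have hnd : ¬ p ∣ i₂ := by
        rcases hc₂ with h' | h'
        · exact h'
        · exact absurd h' h2
      apply hnd
      have hd : p ∣ p * l - i₂ := by
        rw [← heq']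
        exact Dvd.dvd.mul_right (dvd_pow_self p (by omega)) _
      have : i₂ = p * l - (p * l - i₂) := by omega
      rw [this]
      exact Nat.dvd_sub (Dvd.intro l rfl) hd
  rcases le_total h₁ h₂ with hle | hle
  · exact key hi hi₁ hi₂ hh₁ hh₂ hc₂ hle
  · exact (key hi.symm hi₂ hi₁ hh₂ hh₁ hc₁ hle).symm


section ctx

variable {p : ℕ} {A B K L Ω : Type u}
  [CommRing A] [IsDomain A] [IsDiscreteValuationRing A]
  [CommRing B] [IsDomain B] [IsDiscreteValuationRing B]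
  [Algebra A B] [IsLocalHom (algebraMap A B)]
  [Field K] [Field L] [Algebra A K] [IsFractionRing A K] [Algebra B L] [IsFractionRing B L]
  [Algebra K L] [Algebra A L] [IsScalarTower A K L] [IsScalarTower A B L]
  [IsAlgClosed (ResidueField A)] [CharP (ResidueField A) p]
  [IsAdicComplete (maximalIdeal A) A] [IsAdicComplete (maximalIdeal B) B]
  [Field Ω] [Algebra K Ω] [Algebra L Ω] [IsScalarTower K L Ω]
  {V : ValuationSubring Ω}

set_option maxHeartbeats 3200000 in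
theorem EppCtx.extract_fac [hp : Fact p.Prime] (H : EppCtx p A B K L Ω V)
    (K₁ : IntermediateField K Ω) [FiniteDimensional K K₁]
    (π : A) (Lam Pi : Ω) (hLam : Lam ∈ K₁) (hPi : Pi ∈ K₁) (N l : ℕ)
    (hp0 : (p : Ω) ≠ 0)
    (hLamN : (Lam ^ p ^ N) ^ (p - 1) = -(p : Ω))
    (hPiN : Pi ^ p ^ N = aΩ K Ω π) (hPi1 : V.valuation Pi < 1) (hPi0 : Pi ≠ 0)
    (hLamv : V.valuation Lam = V.valuation Pi ^ l)
    (i : ℕ) (μ : B) (h : ℕ) (hi : 1 ≤ i) (hil : i ≤ p * l) (hh : h < N) :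
    ∃ (c x x' b E : Ω), c ∈ LK L K₁ ∧ c ≠ 0 ∧ x ∈ K₁ ∧ x' ∈ K₁ ∧ x' ^ p = x ∧ x ≠ 0 ∧
      V.valuation x < 1 ∧ b ∈ LK L K₁ ∧ E ∈ LK L K₁ ∧
      bΩ L Ω (fac p (algebraMap A B π) (i, μ, h)) = c ^ p * (1 + x * b) * (1 + E) ∧
      V.valuation (b - bΩ L Ω μ) < 1 ∧ V.valuation E ≤ V.valuation (p : Ω) ^ 2 ∧
      V.valuation x * V.valuation Pi ^ (p ^ (N - h) * (p * l - i)) =
        V.valuation Lam ^ p ^ (N + 1) := by
  classical
  obtain ⟨F, hF⟩ : ∃ F : IntermediateField L Ω, F = LK L K₁ := ⟨_, rfl⟩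
  rw [← hF]
  have hK₁F : (K₁ : Set Ω) ⊆ F := by rw [hF]; exact subset_adjoin L _
  have hp1 : p - 1 ≠ 0 := by have := hp.out.two_le; omega
  have hLam1 : V.valuation Lam ≤ 1 := by rw [hLamv]; exact pow_le_one' hPi1.le l
  have hLam0 : Lam ≠ 0 := by
    rintro rfl
    rw [zero_pow (pow_pos hp.out.pos N).ne', zero_pow hp1] at hLamN
    exact hp0 (neg_eq_zero.mp hLamN.symm)
  have hμ1 : V.valuation (bΩ L Ω μ) ≤ 1 := H.val_bΩ_le μ
  have hμF : bΩ L Ω μ ∈ F := F.algebraMap_mem _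
  -- y and ζ
  obtain ⟨y, hy⟩ : ∃ y : Ω, y = Pi ^ (i * p ^ (N - h)) := ⟨_, rfl⟩
  have hyK : y ∈ K₁ := by rw [hy]; exact pow_mem hPi _
  have hy1 : V.valuation y < 1 := by
    rw [hy, map_pow]
    exact pow_lt_one' hPi1 (Nat.mul_ne_zero (by omega) (pow_pos hp.out.pos _).ne')
  have hy0 : y ≠ 0 := by rw [hy]; exact pow_ne_zero _ hPi0
  obtain ⟨ζ, hζ⟩ : ∃ ζ : Ω, ζ = y * bΩ L Ω μ := ⟨_, rfl⟩
  have hζF : ζ ∈ F := by rw [hζ]; exact mul_mem (hK₁F hyK) hμF
  have hζ1 : V.valuation ζ < 1 := by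
    rw [hζ, map_mul]
    calc _ ≤ V.valuation y * 1 := by gcongr
      _ < 1 := by rw [mul_one]; exact hy1
  obtain ⟨ζ', hζ'⟩ : ∃ ζ' : OO V F, OOι V F ζ' = ζ := ⟨OOmk V ⟨ζ, hζF⟩ hζ1.le, rfl⟩
  have hζ'm : ζ' ∈ maximalIdeal (OO V F) := by
    rw [mem_maximalIdeal_OO_iff, hζ']; exact hζ1
  -- ρ
  have hρex : ∀ r : ℕ, ∃ ρ : OO V F, OOι V F ρ = Lam ^ ((p - 1) * p ^ (N - r)) := fun r =>
    ⟨OOmk V ⟨Lam ^ ((p - 1) * p ^ (N - r)), pow_mem (hK₁F hLam) _⟩
      (by show V.valuation (Lam ^ _) ≤ 1; rw [map_pow]; exact pow_le_one' hLam1 _), rfl⟩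
  choose ρ hρ using hρex
  have hρpow : ∀ r, r < h → ρ r ^ p ^ r = -(p : OO V F) := by
    intro r hr
    apply OOι_injective V F
    rw [map_pow, hρ, map_neg, map_natCast, ← pow_mul, mul_assoc, ← pow_add,
      show N - r + r = N by omega, mul_comm, pow_mul, hLamN]
  have hpm : (p : OO V F) ∈ maximalIdeal (OO V F) := by
    rw [mem_maximalIdeal_OO_iff, map_natCast]; exact H.val_p_lt_one
  obtain ⟨c, ω, δ, hc, hω, heq⟩ := extract (R := OO V F) (p := p) hpm ρ h hρpow ζ' hζ'm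
  have heqΩ := congrArg (OOι V F) heq
  simp only [map_add, map_one, map_mul, map_pow, map_prod, hρ, hζ', map_natCast] at heqΩ
  have hω1 : V.valuation (OOι V F ω - 1) < 1 := by
    have := (mem_maximalIdeal_OO_iff V _).mp hω
    rwa [map_sub, map_one] at this
  refine ⟨OOι V F c, (∏ r ∈ Finset.range h, Lam ^ ((p - 1) * p ^ (N - r))) * y,
    (∏ r ∈ Finset.range h, Lam ^ ((p - 1) * p ^ (N - r - 1))) * Pi ^ (i * p ^ (N - h - 1)),
    bΩ L Ω μ * OOι V F ω, (p : Ω) ^ 2 * OOι V F δ, (c : F).2, OOι_ne_zero V hc.ne_zero,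
    mul_mem (prod_mem (fun r _ => pow_mem hLam _)) hyK,
    mul_mem (prod_mem (fun r _ => pow_mem hLam _)) (pow_mem hPi _), ?_, ?_, ?_,
    mul_mem hμF (ω : F).2, mul_mem (pow_mem (_root_.natCast_mem F p) 2) (δ : F).2, ?_, ?_, ?_, ?_⟩
  · -- x' ^ p = x
    rw [mul_pow, ← Finset.prod_pow, hy, ← pow_mul]
    congr 1
    · apply Finset.prod_congr rfl
      intro r hr
      rw [Finset.mem_range] at hr
      rw [← pow_mul, mul_assoc, ← pow_succ, show N - r - 1 + 1 = N - r by omega]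
    · rw [mul_assoc, ← pow_succ, show N - h - 1 + 1 = N - h by omega]
  · exact mul_ne_zero (Finset.prod_ne_zero_iff.mpr (fun r _ => pow_ne_zero _ hLam0)) hy0
  · rw [map_mul]
    have : V.valuation (∏ r ∈ Finset.range h, Lam ^ ((p - 1) * p ^ (N - r))) ≤ 1 := by
      rw [map_prod]
      apply Finset.prod_le_one'
      intro r _
      rw [map_pow]
      exact pow_le_one' hLam1 _
    calc _ ≤ 1 * V.valuation y := by gcongr
      _ < 1 := by rw [one_mul]; exact hy1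
  · -- the identity
    have h1 : bΩ L Ω (fac p (algebraMap A B π) (i, μ, h)) = 1 + ζ ^ p ^ h := by
      unfold fac bΩ
      simp only [map_add, map_one, map_mul, map_pow]
      have : algebraMap L Ω (algebraMap B L (algebraMap A B π)) = aΩ K Ω π := (aΩ_eq H π).symm
      rw [this, hζ, mul_pow, hy, ← pow_mul, mul_assoc, ← pow_add,
        show N - h + h = N by omega, mul_comm i, pow_mul, hPiN]
      rfl
    rw [h1, heqΩ, hζ]
    ring
  · have : bΩ L Ω μ * OOι V F ω - bΩ L Ω μ = bΩ L Ω μ * (OOι V F ω - 1) := by ring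
    rw [this, map_mul]
    calc _ ≤ 1 * V.valuation (OOι V F ω - 1) := by gcongr
      _ < 1 := by rw [one_mul]; exact hω1
  · rw [map_mul, map_pow]
    calc _ ≤ V.valuation (p : Ω) ^ 2 * 1 := by
          gcongr
          exact OO_val_le_one V δ
      _ = _ := mul_one _
  · -- valuations
    rw [map_mul, map_prod, hy, map_pow]
    simp only [map_pow]
    rw [Finset.prod_pow_eq_pow_sum, hLamv, ← pow_mul, ← pow_mul, ← pow_add, ← pow_add]
    congr 1
    have e := sum_exponent p N hp.out.one_le h hh.le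
    have e2 : p ^ (N + 1 - h) = p * p ^ (N - h) := by
      rw [show N + 1 - h = (N - h) + 1 by omega, pow_succ]; ring
    have e3 : i * p ^ (N - h) + p ^ (N - h) * (p * l - i) = p ^ (N - h) * (p * l) := by
      rw [mul_comm i, ← mul_add]
      congr 1
      omega
    calc l * (∑ r ∈ Finset.range h, (p - 1) * p ^ (N - r)) + i * p ^ (N - h) +
          p ^ (N - h) * (p * l - i)
        = l * (∑ r ∈ Finset.range h, (p - 1) * p ^ (N - r)) + p ^ (N - h) * (p * l) := by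
          rw [add_assoc, e3]
      _ = l * ((∑ r ∈ Finset.range h, (p - 1) * p ^ (N - r)) + p * p ^ (N - h)) := by ring
      _ = l * p ^ (N + 1) := by rw [← e2, e]

end ctx

end Groth.Agent.Lib.EppFinH8
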