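import Mathlib
import Groth.Prelude.Def_EtRam
import Groth.Agent.Lib.EppD5_helper8

/-!
# Extraction for a product of factors: the dominant term (helper8)
-/

set_option autoImplicit false
universe u

namespace Groth.Agent.Lib.EppFinH8

open IsLocalRing IntermediateField

/-- the gap of a factor -/
def gap (p l N : ℕ) {B : Type u} (t : ℕ × B × ℕ) : ℕ := p ^ (N - t.2.2) * (p * l - t.1)

theorem combine_step {Ω : Type u} [Field Ω] {V : ValuationSubring Ω} {x x' b b' m m' : Ω}
    (hx0 : x' ≠ 0) (hxx : V.valuation x < V.valuation x') (hx'1 : V.valuation x' < 1)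
    (hb : V.valuation (b - m) < 1) (hm : V.valuation m ≤ 1)
    (hb' : V.valuation (b' - m') < 1) (hm' : V.valuation m' ≤ 1) :
    (1 + x * b) * (1 + x' * b') = 1 + x' * (b' + (x / x') * b + x * b * b') ∧
      V.valuation ((b' + (x / x') * b + x * b * b') - m') < 1 := by
  have hb1 : V.valuation b ≤ 1 := by
    have : b = (b - m) + m := by ring
    rw [this]
    exact (Valuation.map_add _ _ _).trans (max_le hb.le hm)
  have hb'1 : V.valuation b' ≤ 1 := by
    have : b' = (b' - m') + m' := by ring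
    rw [this]
    exact (Valuation.map_add _ _ _).trans (max_le hb'.le hm')
  have hx1 : V.valuation x < 1 := hxx.trans hx'1
  constructor
  · field_simp
    ring
  · have : (b' + (x / x') * b + x * b * b') - m' = (b' - m') + ((x / x') * b + x * b * b') := by
      ring
    rw [this]
    refine lt_of_le_of_lt (Valuation.map_add _ _ _) (max_lt hb' ?_)
    refine lt_of_le_of_lt (Valuation.map_add _ _ _) (max_lt ?_ ?_)
    · rw [map_mul, map_div₀]
      have h1 : V.valuation x / V.valuation x' < 1 :=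
        (div_lt_one₀ (val_pos_of_ne hx0)).mpr hxx
      calc _ ≤ V.valuation x / V.valuation x' * 1 := by gcongr
        _ < 1 := by rw [mul_one]; exact h1
    · rw [map_mul, map_mul]
      calc _ ≤ V.valuation x * 1 * 1 := by gcongr
        _ < 1 := by rw [mul_one, mul_one]; exact hx1

theorem val_lt_of_gap_lt {Ω : Type u} [Field Ω] {V : ValuationSubring Ω} {x x' Pi : Ω}
    (hx0 : x ≠ 0) (hPi0 : Pi ≠ 0) (hPi1 : V.valuation Pi < 1) {g g' : ℕ} (hg : g < g')
    (h : V.valuation x * V.valuation Pi ^ g = V.valuation x' * V.valuation Pi ^ g') :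
    V.valuation x < V.valuation x' := by
  by_contra hcon
  push Not at hcon
  have hG0 : 0 < V.valuation Pi := val_pos_of_ne hPi0
  have h1 : V.valuation Pi ^ g' < V.valuation Pi ^ g := pow_lt_pow_right_of_lt_one₀ hG0 hPi1 hg
  have h2 : V.valuation x' * V.valuation Pi ^ g' ≤ V.valuation x * V.valuation Pi ^ g' := by
    gcongr
  have h3 : V.valuation x * V.valuation Pi ^ g' < V.valuation x * V.valuation Pi ^ g := by
    gcongr
    exact val_pos_of_ne hx0
  rw [h] at h3
  exact absurd h2 (not_le.mpr h3)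


section ctx

variable {p : ℕ} {A B K L Ω : Type u}
  [CommRing A] [IsDomain A] [IsDiscreteValuationRing A]
  [CommRing B] [IsDomain B] [IsDiscreteValuationRing B]
  [Algebra A B] [IsLocalHom (algebraMap A B)]
  [Field K] [Field L] [Algebra A K] [IsFractionRing A K] [Algebra B L] [IsFractionRing B L]
  [Algebra K L] [Algebra A L] [IsScalarTower A K L] [IsScalarTower A B L]
  [IsAlgClosed (ResidueField A)] [CharP (ResidueField A) p]
  [IsAdicComplete (maximalIdeal A) A] [IsAdicComplete (maximalIdeal B) B]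
  [Field Ω] [Algebra K Ω] [Algebra L Ω] [IsScalarTower K L Ω]
  {V : ValuationSubring Ω}

set_option maxHeartbeats 3200000 in
theorem EppCtx.extract_prod [hp : Fact p.Prime] (H : EppCtx p A B K L Ω V)
    (K₁ : IntermediateField K Ω) [FiniteDimensional K K₁]
    (π : A) (Lam Pi : Ω) (hLam : Lam ∈ K₁) (hPi : Pi ∈ K₁) (N l : ℕ)
    (hp0 : (p : Ω) ≠ 0)
    (hLamN : (Lam ^ p ^ N) ^ (p - 1) = -(p : Ω))
    (hPiN : Pi ^ p ^ N = aΩ K Ω π) (hPi1 : V.valuation Pi < 1) (hPi0 : Pi ≠ 0)
    (hLamv : V.valuation Lam = V.valuation Pi ^ l) :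
    ∀ T : List (ℕ × B × ℕ), T ≠ [] → (∀ t ∈ T, 1 ≤ t.1 ∧ t.1 ≤ p * l ∧ t.2.2 < N) →
      T.Pairwise (fun s t => gap p l N s ≠ gap p l N t) →
      ∃ t₀ ∈ T, ∃ (c x x' b E : Ω), c ∈ LK L K₁ ∧ c ≠ 0 ∧ x ∈ K₁ ∧ x' ∈ K₁ ∧ x' ^ p = x ∧ x ≠ 0 ∧
        V.valuation x < 1 ∧ b ∈ LK L K₁ ∧ E ∈ LK L K₁ ∧
        bΩ L Ω ((T.map (fac p (algebraMap A B π))).prod) = c ^ p * (1 + x * b) * (1 + E) ∧
        V.valuation (b - bΩ L Ω t₀.2.1) < 1 ∧ V.valuation E ≤ V.valuation (p : Ω) ^ 2 ∧
        V.valuation x * V.valuation Pi ^ (gap p l N t₀) = V.valuation Lam ^ p ^ (N + 1) := by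
  intro T
  induction T with
  | nil => intro h; exact absurd rfl h
  | cons t T' ih =>
    intro _ hT hpair
    obtain ⟨ht1, ht2, ht3⟩ := hT t List.mem_cons_self
    obtain ⟨c, x, xr, b, E, hc, hc0, hx, hxr, hxrp, hx0, hx1, hb, hE, heq, hbμ, hEv, hval⟩ :=
      H.extract_fac K₁ π Lam Pi hLam hPi N l hp0 hLamN hPiN hPi1 hPi0 hLamv t.1 t.2.1 t.2.2
        ht1 ht2 ht3
    by_cases hT' : T' = []
    · subst hT'
      refine ⟨t, List.mem_cons_self, c, x, xr, b, E, hc, hc0, hx, hxr, hxrp, hx0, hx1, hb, hE,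
        ?_, hbμ, hEv, hval⟩
      rw [List.map_cons, List.map_nil, List.prod_cons, List.prod_nil, mul_one]
      exact heq
    · obtain ⟨t₀, ht₀, c', x', xr', b', E', hc', hc0', hx', hxr', hxrp', hx0', hx1', hb', hE',
        heq', hbμ', hEv', hval'⟩ := ih hT' (fun s hs => hT s (List.mem_cons_of_mem _ hs))
          (List.pairwise_cons.mp hpair).2
      have hgne : gap p l N t ≠ gap p l N t₀ := (List.pairwise_cons.mp hpair).1 t₀ ht₀
      have hprod : bΩ L Ω (((t :: T').map (fac p (algebraMap A B π))).prod) =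
          (c * c') ^ p * ((1 + x * b) * (1 + x' * b')) * (1 + (E + E' + E * E')) := by
        rw [List.map_cons, List.prod_cons]
        unfold bΩ at heq heq' ⊢
        rw [map_mul, map_mul, heq']
        have : (fac p (algebraMap A B π) t) = fac p (algebraMap A B π) (t.1, t.2.1, t.2.2) := rfl
        rw [this, heq]
        ring
      have hvp : V.valuation (p : Ω) ^ 2 ≤ 1 := pow_le_one' H.val_p_lt_one.le 2
      have hEn : V.valuation (E + E' + E * E') ≤ V.valuation (p : Ω) ^ 2 := by
        refine (Valuation.map_add _ _ _).trans (max_le ?_ ?_)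
        · exact (Valuation.map_add _ _ _).trans (max_le hEv hEv')
        · rw [map_mul]
          calc _ ≤ V.valuation (p : Ω) ^ 2 * 1 := by
                gcongr
                exact hEv'.trans hvp
            _ = _ := mul_one _
      have hEmem : E + E' + E * E' ∈ LK L K₁ := add_mem (add_mem hE hE') (mul_mem hE hE')
      have hK₁F : (K₁ : Set Ω) ⊆ LK L K₁ := subset_adjoin L _
      rcases Nat.lt_or_gt_of_ne hgne with hlt | hgt
      · -- x is smaller, keep t₀
        have hxx : V.valuation x < V.valuation x' :=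
          val_lt_of_gap_lt hx0 hPi0 hPi1 hlt (hval.trans hval'.symm)
        obtain ⟨e1, e2⟩ := combine_step hx0' hxx hx1' hbμ (H.val_bΩ_le _) hbμ' (H.val_bΩ_le _)
        refine ⟨t₀, List.mem_cons_of_mem _ ht₀, c * c', x', xr', b' + (x / x') * b + x * b * b',
          E + E' + E * E', mul_mem hc hc', mul_ne_zero hc0 hc0', hx', hxr', hxrp', hx0', hx1',
          ?_, hEmem, ?_, e2, hEn, hval'⟩
        · exact add_mem (add_mem hb' (mul_mem (div_mem (hK₁F hx) (hK₁F hx')) hb))
            (mul_mem (mul_mem (hK₁F hx) hb) hb')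
        · rw [hprod, e1]
      · -- x' is smaller, new dominant t
        have hxx : V.valuation x' < V.valuation x :=
          val_lt_of_gap_lt hx0' hPi0 hPi1 hgt (hval'.trans hval.symm)
        obtain ⟨e1, e2⟩ := combine_step hx0 hxx hx1 hbμ' (H.val_bΩ_le _) hbμ (H.val_bΩ_le _)
        refine ⟨t, List.mem_cons_self, c * c', x, xr, b + (x' / x) * b' + x' * b' * b,
          E + E' + E * E', mul_mem hc hc', mul_ne_zero hc0 hc0', hx, hxr, hxrp, hx0, hx1,
          ?_, hEmem, ?_, e2, hEn, hval⟩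
        · exact add_mem (add_mem hb (mul_mem (div_mem (hK₁F hx') (hK₁F hx)) hb'))
            (mul_mem (mul_mem (hK₁F hx') hb') hb)
        · rw [hprod, mul_comm (1 + x * b) (1 + x' * b'), e1]

end ctx

end Groth.Agent.Lib.EppFinH8
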