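import Mathlib
import Groth.Prelude.Def_EtRam
import Groth.Agent.Lib.EppM1_helper8

/-!
# The main induction (helper8)
-/

set_option autoImplicit false
universe u

namespace Groth.Agent.Lib.EppFinH8

open IsLocalRing IntermediateField

/-- Bundled Epp contexts inside a fixed valued field `(Ω, V)`. -/
structure EppData (p : ℕ) (Ω : Type u) [Field Ω] (V : ValuationSubring Ω) where
  A : Type u
  B : Type u
  K : Type u
  L : Type u
  [cA : CommRing A] [dA : IsDomain A] [vA : IsDiscreteValuationRing A]
  [cB : CommRing B] [dB : IsDomain B] [vB : IsDiscreteValuationRing B]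
  [aAB : Algebra A B] [lAB : IsLocalHom (algebraMap A B)]
  [fK : Field K] [fL : Field L] [aAK : Algebra A K] [frA : IsFractionRing A K]
  [aBL : Algebra B L] [frB : IsFractionRing B L]
  [aKL : Algebra K L] [aAL : Algebra A L] [tAKL : IsScalarTower A K L] [tABL : IsScalarTower A B L]
  [acl : IsAlgClosed (ResidueField A)] [chp : CharP (ResidueField A) p]
  [cpA : IsAdicComplete (maximalIdeal A) A] [cpB : IsAdicComplete (maximalIdeal B) B]
  [aKΩ : Algebra K Ω] [aLΩ : Algebra L Ω] [tKLΩ : IsScalarTower K L Ω]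
  ctx : EppCtx p A B K L Ω V

attribute [instance] EppData.cA EppData.dA EppData.vA EppData.cB EppData.dB EppData.vB
  EppData.aAB EppData.lAB EppData.fK EppData.fL EppData.aAK EppData.frA EppData.aBL EppData.frB
  EppData.aKL EppData.aAL EppData.tAKL EppData.tABL EppData.acl EppData.chp EppData.cpA EppData.cpB
  EppData.aKΩ EppData.aLΩ EppData.tKLΩ

section tower

variable {Ω : Type u} [Field Ω]

/-- A step of the tower: a `p`-th root or an Artin–Schreier root. -/
def Step (p : ℕ) (F : Subfield Ω) (z : Ω) : Prop :=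
  z ^ p ∈ F ∨ (CharP Ω p ∧ z ^ p - z ∈ F)

/-- A tower of steps over `F`. -/
def Tower (p : ℕ) : Subfield Ω → List Ω → Prop
  | _, [] => True
  | F, z :: zs => Step p F z ∧ Tower p (F ⊔ Subfield.closure {z}) zs

theorem Step.mono {p : ℕ} {F F' : Subfield Ω} (h : F ≤ F') {z : Ω} (hz : Step p F z) :
    Step p F' z := by
  rcases hz with hz | ⟨hc, hz⟩
  · exact Or.inl (h hz)
  · exact Or.inr ⟨hc, h hz⟩

theorem Tower.mono {p : ℕ} {zs : List Ω} : ∀ {F F' : Subfield Ω}, F ≤ F' → Tower p F zs →
    Tower p F' zs := by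
  induction zs with
  | nil => intro F F' _ _; trivial
  | cons z zs ih =>
    intro F F' h ht
    exact ⟨ht.1.mono h, ih (sup_le_sup_right h _) ht.2⟩

theorem Step.isIntegral {p : ℕ} (hp : p.Prime) {L : Type u} [Field L] [Algebra L Ω] {z : Ω}
    (hz : Step p (algebraMap L Ω).fieldRange z) : IsIntegral L z := by
  open Polynomial in
  rcases hz with ⟨c, hc⟩ | ⟨_, ⟨c, hc⟩⟩
  · refine ⟨X ^ p - C c, monic_X_pow_sub_C c hp.ne_zero, ?_⟩
    rw [eval₂_sub, eval₂_pow, eval₂_X, eval₂_C, hc, sub_self]
  · refine ⟨X ^ p - X - C c, ?_, ?_⟩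
    · have : (X ^ p - X - C c : L[X]) = X ^ p - (X + C c) := by ring
      rw [this]
      apply monic_X_pow_sub
      rw [degree_X_add_C]
      exact_mod_cast hp.one_lt
    · rw [eval₂_sub, eval₂_sub, eval₂_pow, eval₂_X, eval₂_C, hc, sub_self]

end tower

section main

variable {p : ℕ} [hp : Fact p.Prime] {Ω : Type u} [Field Ω] {V : ValuationSubring Ω}

theorem fieldRange_IF {L : Type u} [Field L] [Algebra L Ω] (E : IntermediateField L Ω) :
    (algebraMap E Ω).fieldRange = E.toSubfield := by
  ext x
  constructor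
  · rintro ⟨y, rfl⟩
    exact y.2
  · intro hx
    exact ⟨⟨x, hx⟩, rfl⟩

set_option maxHeartbeats 1600000 in
/-- The main induction: if single steps are solvable in every context, so are towers. -/
theorem main_induction
    (hstep : ∀ (D : EppData p Ω V) (z : Ω), Step p (algebraMap D.L Ω).fieldRange z →
      Solvable D.K D.L V {z}) :
    ∀ (zs : List Ω) (D : EppData p Ω V), Tower p (algebraMap D.L Ω).fieldRange zs →
      Solvable D.K D.L V {z | z ∈ zs} := by
  intro zs
  induction zs with
  | nil =>
    intro D _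
    refine ⟨⊥, inferInstance, ?_⟩
    have h := D.ctx.wuKL
    obtain ⟨ϖ, ⟨ϖ', rfl⟩, h0, h1, hgen⟩ := h
    refine ⟨_, (⊥ : IntermediateField D.K Ω).algebraMap_mem ϖ', h0, h1, ?_⟩
    intro x hx hx0
    apply hgen x _ hx0
    have h2 : LKZ D.L (⊥ : IntermediateField D.K Ω) {z | z ∈ ([] : List Ω)} = ⊥ := by
      unfold LKZ
      rw [adjoin_eq_bot_iff]
      rintro y (hy | hy)
      · obtain ⟨c, rfl⟩ := IntermediateField.mem_bot.mp hy
        rw [IsScalarTower.algebraMap_apply D.K D.L Ω]
        exact (⊥ : IntermediateField D.L Ω).algebraMap_mem _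
      · simp at hy
    rw [SetLike.mem_coe, h2] at hx
    exact IntermediateField.mem_bot.mp hx
  | cons z zs ih =>
    intro D ht
    obtain ⟨K₁, hfin, hwu⟩ := hstep D z ht.1
    haveI := hfin
    obtain ⟨E, hE⟩ : ∃ E : IntermediateField D.L Ω, E = LKZ D.L K₁ {z} := ⟨_, rfl⟩
    rw [← hE] at hwu
    have hzint : IsIntegral D.L z := ht.1.isIntegral hp.out
    haveI : FiniteDimensional D.L E := by
      rw [hE]
      exact finiteDimensional_LKZ K₁ {z} (Set.finite_singleton z)
        (fun y hy => by rw [Set.mem_singleton_iff] at hy; rw [hy]; exact hzint)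
    have hKE : (K₁ : Set Ω) ⊆ E := by
      rw [hE]
      exact fun x hx => subset_adjoin _ _ (Or.inl hx)
    have hzE : z ∈ E := by
      rw [hE]
      exact subset_adjoin _ _ (Or.inr rfl)
    letI := inclAlg K₁ E hKE
    haveI := inclAlg_tower K₁ E hKE
    have hwu' : WU V (Set.range (algebraMap K₁ Ω)) (Set.range (algebraMap E Ω)) := by
      rw [range_algebraMap_IF, range_algebraMap_IF]
      exact hwu
    obtain ⟨i1, i2, i3, i4, i5, i6, i7, i8, i9, H'⟩ := D.ctx.rebase K₁ E hwu'
    have hsol := ih
      { A := OO V K₁, B := OO V E, K := K₁, L := E,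
        aAB := (OOmap V K₁ E).toAlgebra,
        aAL := ((algebraMap K₁ E).comp (algebraMap (OO V K₁) K₁)).toAlgebra,
        ctx := H' } (by
        show Tower p (algebraMap E Ω).fieldRange zs
        rw [fieldRange_IF]
        refine ht.2.mono ?_
        apply sup_le
        · rintro _ ⟨y, rfl⟩
          exact E.algebraMap_mem y
        · rw [Subfield.closure_le]
          intro y hy
          rw [Set.mem_singleton_iff] at hy
          rw [hy]
          exact hzE)
    refine Solvable.of_rebase K₁ E _ _ ?_ hsol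
    intro y hy
    rcases List.mem_cons.mp hy with rfl | hy
    · exact Or.inl hzE
    · exact Or.inr hy

end main

end Groth.Agent.Lib.EppFinH8
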