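import Mathlib
import Groth.Prelude.Def_EtRam

set_option autoImplicit false
universe u

namespace InsepStepH8

open IsLocalRing Polynomial

section basic

variable {B C L M : Type u} [CommRing B] [IsDomain B] [IsDiscreteValuationRing B]
  [CommRing C] [IsDomain C] [IsDiscreteValuationRing C] [Algebra B C] [IsLocalHom (algebraMap B C)]
  [Field L] [Field M] [Algebra B L] [IsFractionRing B L] [Algebra C M] [IsFractionRing C M]
  [Algebra L M] [Algebra B M] [IsScalarTower B L M] [IsScalarTower B C M]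

/-- `C ∩ L = B`. -/
theorem mem_B_of_mem_C (l : L) (c : C) (h : algebraMap C M c = algebraMap L M l) :
    ∃ b : B, algebraMap B L b = l := by
  rcases ValuationRing.isInteger_or_isInteger B l with ⟨b, hb⟩ | ⟨b, hb⟩
  · exact ⟨b, hb⟩
  · by_cases hl : l = 0
    · exact ⟨0, by rw [hl, map_zero]⟩
    have h1 : c * algebraMap B C b = 1 := by
      apply IsFractionRing.injective C M
      rw [map_mul, h, ← IsScalarTower.algebraMap_apply B C M, IsScalarTower.algebraMap_apply B L M,
        hb, map_inv₀, map_one]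
      exact mul_inv_cancel₀ (fun h0 => hl ((algebraMap L M).injective (by rw [h0, map_zero])))
    have h2 : IsUnit (algebraMap B C b) := IsUnit.of_mul_eq_one _ (by rw [mul_comm]; exact h1)
    have h3 : IsUnit b := isUnit_of_map_unit (algebraMap B C) b h2
    obtain ⟨b', hb'⟩ := h3.exists_right_inv
    refine ⟨b', ?_⟩
    have h4 : l⁻¹ * algebraMap B L b' = 1 := by rw [← hb, ← map_mul, hb', map_one]
    have h5 : l⁻¹ ≠ 0 := inv_ne_zero hl
    field_simp at h4
    exact h4

theorem charP_and_pow_mem (p : ℕ) (hp : p.Prime) [IsPurelyInseparable L M]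
    (hdeg : Module.finrank L M = p) :
    CharP L p ∧ ∀ x : M, ∃ l : L, algebraMap L M l = x ^ p := by
  haveI : FiniteDimensional L M := Module.finite_of_finrank_pos (hdeg ▸ hp.pos)
  obtain ⟨q, hq⟩ := ExpChar.exists L
  haveI := hq
  obtain ⟨k, hk⟩ := IsPurelyInseparable.finrank_eq_pow (F := L) M q
  rw [hdeg] at hk
  have hk0 : k ≠ 0 := by
    rintro rfl
    rw [pow_zero] at hk
    exact hp.one_lt.ne' hk
  have hqp : q = p := by
    have h1 : q ∣ p := hk ▸ dvd_pow_self q hk0
    rcases (Nat.dvd_prime hp).mp h1 with h | h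
    · rw [h, one_pow] at hk
      exact absurd hk hp.one_lt.ne'
    · exact h
  subst hqp
  have hchar : CharP L q := by
    cases hq with
    | zero => exact absurd rfl hp.one_lt.ne'
    | prime hprime => infer_instance
  refine ⟨hchar, fun x => ?_⟩
  obtain ⟨n, y, hxy⟩ := IsPurelyInseparable.minpoly_eq_X_pow_sub_C L q x
  have hint : IsIntegral L x := Algebra.IsIntegral.isIntegral x
  have h1 : (minpoly L x).natDegree ∣ Module.finrank L M := minpoly.degree_dvd hint
  rw [hxy, natDegree_X_pow_sub_C, hdeg] at h1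
  have h2 : n ≤ 1 := by
    have : q ^ n ∣ q ^ 1 := by rwa [pow_one]
    exact (Nat.pow_dvd_pow_iff_le_right hp.one_lt).mp this
  have h3 : aeval x (minpoly L x) = 0 := minpoly.aeval L x
  rw [hxy] at h3
  simp only [map_sub, map_pow, aeval_X, aeval_C, sub_eq_zero] at h3
  interval_cases n
  · rw [pow_zero, pow_one] at h3
    exact ⟨y ^ q, by rw [map_pow, ← h3]⟩
  · rw [pow_one] at h3
    exact ⟨y, h3.symm⟩

theorem pow_mem_B (p : ℕ) (hp : p.Prime) [IsPurelyInseparable L M]
    (hdeg : Module.finrank L M = p) (c : C) : ∃ b : B, algebraMap B C b = c ^ p := by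
  obtain ⟨-, h⟩ := charP_and_pow_mem (L := L) (M := M) p hp hdeg
  obtain ⟨l, hl⟩ := h (algebraMap C M c)
  have hcl : algebraMap C M (c ^ p) = algebraMap L M l := by rw [map_pow, hl]
  obtain ⟨b, hb⟩ := mem_B_of_mem_C (B := B) (M := M) l (c ^ p) hcl
  refine ⟨b, ?_⟩
  apply IsFractionRing.injective C M
  rw [← IsScalarTower.algebraMap_apply B C M, IsScalarTower.algebraMap_apply B L M, hb, hl, map_pow]

theorem dichotomy (p : ℕ) (hp : p.Prime) [IsPurelyInseparable L M]
    (hdeg : Module.finrank L M = p) (πB : B) (hπB : Irreducible πB)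
    (hBC : Function.Injective (algebraMap B C)) :
    Irreducible (algebraMap B C πB) ∨
      ∃ (πC : C) (u : B), Irreducible πC ∧ IsUnit u ∧ πC ^ p = algebraMap B C (u * πB) := by
  obtain ⟨πC, hπC⟩ := IsDiscreteValuationRing.exists_irreducible C
  obtain ⟨b₀, hb₀⟩ := pow_mem_B (B := B) (L := L) (M := M) p hp hdeg πC
  have hb₀0 : b₀ ≠ 0 := by
    rintro rfl
    rw [map_zero] at hb₀
    exact pow_ne_zero p hπC.ne_zero hb₀.symm
  obtain ⟨k, u₀, hu₀⟩ := IsDiscreteValuationRing.eq_unit_mul_pow_irreducible hb₀0 hπB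
  have hπB0 : algebraMap B C πB ≠ 0 := by
    intro h0
    exact hπB.ne_zero (hBC (by rw [h0, map_zero]))
  obtain ⟨e, w, hw⟩ := IsDiscreteValuationRing.eq_unit_mul_pow_irreducible hπB0 hπC
  have h1 : ((1 : Cˣ) : C) * πC ^ p =
      ((Units.map (algebraMap B C).toMonoidHom u₀ * w ^ k : Cˣ) : C) * πC ^ (e * k) := by
    rw [Units.val_one, one_mul, ← hb₀, hu₀, map_mul, map_pow, hw]
    simp only [Units.val_mul, Units.coe_map, MonoidHom.coe_coe, Units.val_pow_eq_pow_val,
      RingHom.toMonoidHom_eq_coe]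
    ring
  have h2 : p = e * k := IsDiscreteValuationRing.unit_mul_pow_congr_pow hπC hπC _ _ _ _ h1
  have h3 : e ∣ p := ⟨k, h2⟩
  rcases (Nat.dvd_prime hp).mp h3 with he | he
  · left
    rw [hw, he, pow_one]
    exact (associated_unit_mul_left πC (w : C) w.isUnit).symm.irreducible hπC
  · right
    have hk : k = 1 := by
      rw [he] at h2
      have : p * 1 = p * k := by rw [mul_one]; exact h2
      exact (Nat.eq_of_mul_eq_mul_left hp.pos this).symm
    refine ⟨πC, u₀, hπC, u₀.isUnit, ?_⟩
    rw [← hb₀, hu₀, hk, pow_one]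

end basic

section split

variable {B : Type u} [CommRing B] [IsLocalRing B]

theorem split (πB u : B) (hπB : maximalIdeal B = Ideal.span {πB}) (p : ℕ) :
    (∃ (m : ℕ) (b : ℕ → B) (c : B), u = ∑ i ∈ Finset.range m, b i ^ p * πB ^ i + c * πB ^ m ∧
        ∀ y : ResidueField B, y ^ p ≠ residue B c) ∨
    ∀ m : ℕ, ∃ (b : ℕ → B) (c : B), u = ∑ i ∈ Finset.range m, b i ^ p * πB ^ i + c * πB ^ m := by
  classical
  by_cases h : ∃ (m : ℕ) (b : ℕ → B) (c : B),
      u = ∑ i ∈ Finset.range m, b i ^ p * πB ^ i + c * πB ^ m ∧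
        ∀ y : ResidueField B, y ^ p ≠ residue B c
  · exact Or.inl h
  · right
    push Not at h
    intro m
    induction m with
    | zero => exact ⟨fun _ => 0, u, by simp⟩
    | succ m ih =>
      obtain ⟨b, c, hbc⟩ := ih
      obtain ⟨y, hy⟩ := h m b c hbc
      obtain ⟨b', rfl⟩ := residue_surjective y
      have h1 : c - b' ^ p ∈ maximalIdeal B := by
        rw [← residue_eq_zero_iff, map_sub, map_pow, hy, sub_self]
      rw [hπB] at h1
      obtain ⟨c', hc'⟩ := Ideal.mem_span_singleton'.mp h1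
      refine ⟨Function.update b m b', c', ?_⟩
      rw [Finset.sum_range_succ, Function.update_self]
      have h2 : ∑ i ∈ Finset.range m, Function.update b m b' i ^ p * πB ^ i =
          ∑ i ∈ Finset.range m, b i ^ p * πB ^ i := by
        apply Finset.sum_congr rfl
        intro i hi
        rw [Function.update_of_ne (Finset.mem_range.mp hi).ne]
      rw [h2, hbc]
      have h3 : c = b' ^ p + c' * πB := by rw [hc']; ring
      rw [h3]
      ring

end split

end InsepStepH8
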