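import Mathlib
import Groth.Prelude.Def_EtRam

set_option autoImplicit false
universe u

namespace InsepStepH8

open IsLocalRing Polynomial

section root

variable {B C L M : Type u} [CommRing B] [IsDomain B] [IsDiscreteValuationRing B]
  [CommRing C] [IsDomain C] [IsDiscreteValuationRing C] [Algebra B C] [IsLocalHom (algebraMap B C)]
  [Field L] [Field M] [Algebra B L] [IsFractionRing B L] [Algebra C M] [IsFractionRing C M]
  [Algebra L M] [Algebra B M] [IsScalarTower B L M] [IsScalarTower B C M]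

omit [IsLocalHom (algebraMap B C)] in
/-- `πC - β` is never divisible by `πC ^ 2` for `β ∈ B`, when `πC ^ p = u * πB`. -/
theorem not_sq_dvd (p : ℕ) (hp : 2 ≤ p) (πB u : B) (hπB : maximalIdeal B = Ideal.span {πB})
    (πC : C) (hπC : Irreducible πC) (hπCp : πC ^ p = algebraMap B C (u * πB)) (hu : IsUnit u)
    (β : B) : ¬ πC ^ 2 ∣ πC - algebraMap B C β := by
  rintro ⟨t, ht⟩
  have h1 : πC ∣ algebraMap B C β := ⟨1 - πC * t, by linear_combination -ht⟩
  have hβnu : ¬ IsUnit β := by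
    intro hβ
    exact hπC.not_isUnit (isUnit_of_dvd_unit h1 (hβ.map _))
  have hβm : β ∈ maximalIdeal B := (mem_maximalIdeal _).mpr hβnu
  rw [hπB] at hβm
  obtain ⟨β', rfl⟩ := Ideal.mem_span_singleton'.mp hβm
  obtain ⟨u', hu'⟩ := hu.exists_left_inv
  have h2 : algebraMap B C πB = algebraMap B C u' * πC ^ p := by
    rw [hπCp, ← map_mul, ← mul_assoc, hu', one_mul]
  have h3 : πC ^ 2 ∣ algebraMap B C (β' * πB) := by
    rw [map_mul, h2]
    exact Dvd.dvd.mul_left (Dvd.dvd.mul_left (pow_dvd_pow πC hp) _) _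
  have h4 : πC ^ 2 ∣ πC := by
    have h := dvd_add (⟨t, ht⟩ : πC ^ 2 ∣ πC - algebraMap B C (β' * πB)) h3
    rwa [sub_add_cancel] at h
  obtain ⟨s, hs⟩ := h4
  have h5 : πC * 1 = πC * (πC * s) := by
    rw [mul_one]
    nth_rewrite 1 [hs]
    ring
  have h6 : 1 = πC * s := mul_left_cancel₀ hπC.ne_zero h5
  exact hπC.not_isUnit (IsUnit.of_mul_eq_one _ h6.symm)

set_option maxHeartbeats 1600000 in
theorem exists_root_of_forall (p : ℕ) (hp : p.Prime) [CharP L p] [FiniteDimensional L M]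
    (hN : ∀ (M' : Type u) [Field M'] [Algebra B M'] [Algebra L M'] [IsScalarTower B L M'],
      FiniteDimensional L M' → Module.Finite B (integralClosure B M'))
    (πB u : B) (hπB : maximalIdeal B = Ideal.span {πB})
    (πC : C) (hπC : Irreducible πC) (hu : IsUnit u) (hπCp : πC ^ p = algebraMap B C (u * πB))
    (hall : ∀ m : ℕ, ∃ (b : ℕ → B) (c : B),
      u = ∑ i ∈ Finset.range m, b i ^ p * πB ^ i + c * πB ^ m) :
    ∃ c₀ : M, c₀ ^ p = algebraMap B M πB := by
  classical
  by_contra hno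
  push Not at hno
  haveI : Fact p.Prime := ⟨hp⟩
  obtain ⟨a, ha⟩ : ∃ a : M, a = algebraMap B M πB := ⟨_, rfl⟩
  rw [← ha] at hno
  have hirr : Irreducible (X ^ p - Polynomial.C a : M[X]) := X_pow_sub_C_irreducible_of_prime hp hno
  haveI : Fact (Irreducible (X ^ p - Polynomial.C a : M[X])) := ⟨hirr⟩
  have hmonic : (X ^ p - Polynomial.C a : M[X]).Monic := monic_X_pow_sub_C a hp.ne_zero
  have hdegf : (X ^ p - Polynomial.C a : M[X]).degree = p := degree_X_pow_sub_C hp.pos a
  haveI : FiniteDimensional M (AdjoinRoot (X ^ p - Polynomial.C a : M[X])) :=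
    (AdjoinRoot.powerBasis hmonic.ne_zero).finite
  haveI : FiniteDimensional L (AdjoinRoot (X ^ p - Polynomial.C a : M[X])) := Module.Finite.trans M _
  have hfin : Module.Finite B (integralClosure B (AdjoinRoot (X ^ p - Polynomial.C a : M[X]))) :=
    hN (AdjoinRoot (X ^ p - Polynomial.C a : M[X])) inferInstance
  haveI : CharP (AdjoinRoot (X ^ p - Polynomial.C a : M[X])) p :=
    charP_of_injective_algebraMap (algebraMap L (AdjoinRoot (X ^ p - Polynomial.C a : M[X]))).injective p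
  set ϖ : AdjoinRoot (X ^ p - Polynomial.C a : M[X]) := AdjoinRoot.root _ with hϖdef
  have hϖp : ϖ ^ p = algebraMap B (AdjoinRoot (X ^ p - Polynomial.C a : M[X])) πB := by
    have h0 : AdjoinRoot.mk (X ^ p - Polynomial.C a : M[X]) (X ^ p - Polynomial.C a) = 0 := AdjoinRoot.mk_self
    rw [map_sub, map_pow, AdjoinRoot.mk_X, AdjoinRoot.mk_C, sub_eq_zero] at h0
    rw [h0, IsScalarTower.algebraMap_apply B M (AdjoinRoot (X ^ p - Polynomial.C a : M[X])) πB,
      ← ha]
    rfl
  -- the functional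
  let ψ : AdjoinRoot (X ^ p - Polynomial.C a : M[X]) →ₗ[M] M :=
    (Polynomial.lcoeff M 0).comp (AdjoinRoot.modByMonicHom hmonic)
  have hψmk : ∀ h : M[X], ψ (AdjoinRoot.mk _ h) = (h %ₘ (X ^ p - Polynomial.C a)).coeff 0 := fun h => rfl
  have hψof : ∀ m : M, ψ (algebraMap M _ m) = m := by
    intro m
    have : algebraMap M (AdjoinRoot (X ^ p - Polynomial.C a : M[X])) m = AdjoinRoot.mk _ (Polynomial.C m) := rfl
    rw [this, hψmk, (modByMonic_eq_self_iff hmonic).mpr, coeff_C_zero]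
    rw [hdegf]
    exact lt_of_le_of_lt degree_C_le (by exact_mod_cast hp.pos)
  have hψpow : ∀ j : ℕ, 0 < j → j < p → ψ (ϖ ^ j) = 0 := by
    intro j hj0 hjp
    have : ϖ ^ j = AdjoinRoot.mk (X ^ p - Polynomial.C a : M[X]) (X ^ j) := by
      rw [map_pow, AdjoinRoot.mk_X]
    rw [this, hψmk, (modByMonic_eq_self_iff hmonic).mpr, coeff_X_pow, if_neg hj0.ne]
    rw [hdegf, degree_X_pow]
    exact_mod_cast hjp
  -- the `B`-submodule spanned by the powers of `ϖ`
  let S : Submodule B (AdjoinRoot (X ^ p - Polynomial.C a : M[X])) :=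
    Submodule.span B (Set.range fun j : Fin p => ϖ ^ (j : ℕ))
  have hSmul : ∀ s ∈ S, ϖ * s ∈ S := by
    intro s hs
    induction hs using Submodule.span_induction with
    | mem x hx =>
      obtain ⟨j, rfl⟩ := hx
      show ϖ * ϖ ^ (j : ℕ) ∈ S
      by_cases hj : (j : ℕ) + 1 < p
      · have : ϖ * ϖ ^ (j : ℕ) = ϖ ^ ((⟨(j : ℕ) + 1, hj⟩ : Fin p) : ℕ) := by
          simp only; rw [pow_succ']
        rw [this]
        exact Submodule.subset_span ⟨_, rfl⟩
      · have hj' : (j : ℕ) + 1 = p := by have := j.2; omega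
        have : ϖ * ϖ ^ (j : ℕ) = πB • ϖ ^ ((⟨0, hp.pos⟩ : Fin p) : ℕ) := by
          rw [← pow_succ', hj', hϖp]
          simp only [pow_zero]
          rw [Algebra.algebraMap_eq_smul_one]
        rw [this]
        exact Submodule.smul_mem _ _ (Submodule.subset_span ⟨_, rfl⟩)
    | zero => rw [mul_zero]; exact Submodule.zero_mem _
    | add x y _ _ hx hy => rw [mul_add]; exact Submodule.add_mem _ hx hy
    | smul b x _ hx => rw [mul_smul_comm]; exact Submodule.smul_mem _ _ hx
  have hSpow : ∀ n : ℕ, ϖ ^ n ∈ S := by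
    intro n
    induction n with
    | zero => exact Submodule.subset_span ⟨⟨0, hp.pos⟩, rfl⟩
    | succ n ih => rw [pow_succ']; exact hSmul _ ih
  have hψS : ∀ s ∈ S, ∃ β : B, ψ s = algebraMap B M β := by
    intro s hs
    induction hs using Submodule.span_induction with
    | mem x hx =>
      obtain ⟨j, rfl⟩ := hx
      show ∃ β : B, ψ (ϖ ^ (j : ℕ)) = algebraMap B M β
      by_cases hj : (j : ℕ) = 0
      · refine ⟨1, ?_⟩
        rw [hj, pow_zero, map_one (algebraMap B M)]
        have h1 : (1 : AdjoinRoot (X ^ p - Polynomial.C a : M[X])) =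
            algebraMap M (AdjoinRoot (X ^ p - Polynomial.C a : M[X])) 1 := (map_one _).symm
        rw [h1, hψof]
      · refine ⟨0, ?_⟩
        rw [map_zero]
        exact hψpow _ (Nat.pos_of_ne_zero hj) j.2
    | zero => exact ⟨0, by rw [map_zero, map_zero]⟩
    | add x y _ _ hx hy =>
      obtain ⟨β₁, h₁⟩ := hx
      obtain ⟨β₂, h₂⟩ := hy
      exact ⟨β₁ + β₂, by rw [map_add, h₁, h₂, map_add]⟩
    | smul b x _ hx =>
      obtain ⟨β, hβ⟩ := hx
      refine ⟨b * β, ?_⟩
      rw [← algebraMap_smul M b x, map_smul, hβ, smul_eq_mul, map_mul]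
  -- the finitely generated module `N`
  have hfg : (Subalgebra.toSubmodule (integralClosure B (AdjoinRoot (X ^ p - Polynomial.C a : M[X])))).FG :=
    (Module.Finite.iff_fg (N := Subalgebra.toSubmodule
      (integralClosure B (AdjoinRoot (X ^ p - Polynomial.C a : M[X]))))).mp hfin
  have hNfg : (Submodule.map (ψ.restrictScalars B) (Subalgebra.toSubmodule
      (integralClosure B (AdjoinRoot (X ^ p - Polynomial.C a : M[X]))))).FG := hfg.map _
  obtain ⟨s, hs⟩ := hNfg
  obtain ⟨d, hd⟩ := IsLocalization.exist_integer_multiples_of_finset (nonZeroDivisors C) s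
  have hdN : ∀ x ∈ Submodule.map (ψ.restrictScalars B) (Subalgebra.toSubmodule
      (integralClosure B (AdjoinRoot (X ^ p - Polynomial.C a : M[X])))),
      ∃ c' : C, algebraMap C M c' = algebraMap C M d * x := by
    intro x hx
    rw [← hs] at hx
    induction hx using Submodule.span_induction with
    | mem x hx =>
      obtain ⟨c', hc'⟩ := hd x hx
      exact ⟨c', by rw [hc', Algebra.smul_def]⟩
    | zero => exact ⟨0, by rw [map_zero, mul_zero]⟩
    | add x y _ _ hx hy =>
      obtain ⟨c₁, h₁⟩ := hx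
      obtain ⟨c₂, h₂⟩ := hy
      exact ⟨c₁ + c₂, by rw [map_add, h₁, h₂, mul_add]⟩
    | smul b x _ hx =>
      obtain ⟨c₁, h₁⟩ := hx
      refine ⟨algebraMap B C b * c₁, ?_⟩
      rw [map_mul, h₁, ← IsScalarTower.algebraMap_apply B C M, Algebra.smul_def]
      ring
  have hd0 : (d : C) ≠ 0 := nonZeroDivisors.ne_zero d.2
  obtain ⟨N₀, v, hv⟩ := IsDiscreteValuationRing.eq_unit_mul_pow_irreducible hd0 hπC
  -- choose `q`
  obtain ⟨q, hq⟩ : ∃ q : ℕ, q = N₀ + 2 := ⟨_, rfl⟩
  have hpq : N₀ + 2 ≤ p * q := by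
    have := hp.two_le
    calc N₀ + 2 = 1 * q := by rw [hq, one_mul]
      _ ≤ p * q := Nat.mul_le_mul_right q (by omega)
  obtain ⟨m, hm⟩ : ∃ m : ℕ, m + 1 = p * q := ⟨p * q - 1, by omega⟩
  obtain ⟨b, c, hbc⟩ := hall m
  -- the element `z`
  set zC : AdjoinRoot (X ^ p - Polynomial.C a : M[X]) := algebraMap M _ (algebraMap C M πC) with hzC
  set θ : AdjoinRoot (X ^ p - Polynomial.C a : M[X]) := ∑ i ∈ Finset.range m, b i • ϖ ^ (i + 1) with hθ
  have hzCp : zC ^ p = algebraMap B (AdjoinRoot (X ^ p - Polynomial.C a : M[X])) (u * πB) := by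
    rw [hzC, ← map_pow, ← map_pow, hπCp, ← IsScalarTower.algebraMap_apply B C M,
      ← IsScalarTower.algebraMap_apply B M]
  have hθp : θ ^ p = algebraMap B (AdjoinRoot (X ^ p - Polynomial.C a : M[X]))
      (∑ i ∈ Finset.range m, b i ^ p * πB ^ (i + 1)) := by
    rw [hθ, sum_pow_char, map_sum]
    apply Finset.sum_congr rfl
    intro i _
    rw [_root_.smul_pow, ← pow_mul, mul_comm (i + 1) p, pow_mul, hϖp, Algebra.smul_def, map_mul,
      map_pow, map_pow]
  have hzp : (zC - θ) ^ p = algebraMap B (AdjoinRoot (X ^ p - Polynomial.C a : M[X])) (c * πB ^ (p * q)) := by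
    rw [sub_pow_char, hzCp, hθp, ← map_sub]
    congr 1
    rw [← hm]
    have : ∑ i ∈ Finset.range m, b i ^ p * πB ^ (i + 1) =
        πB * ∑ i ∈ Finset.range m, b i ^ p * πB ^ i := by
      rw [Finset.mul_sum]
      apply Finset.sum_congr rfl
      intro i _
      ring
    rw [this]
    conv_lhs => rw [hbc]
    ring
  set ϖq : M := algebraMap B M (πB ^ q) with hϖq
  have hπB0 : πB ≠ 0 := by
    rintro rfl
    apply IsDiscreteValuationRing.not_a_field B
    rw [hπB, Ideal.span_singleton_eq_bot]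
  have hBM : Function.Injective (algebraMap B M) := by
    rw [IsScalarTower.algebraMap_eq B L M]
    exact (algebraMap L M).injective.comp (IsFractionRing.injective B L)
  have hϖq0 : ϖq ≠ 0 := by
    rw [hϖq]
    intro h0
    exact pow_ne_zero q hπB0 (hBM (by rw [h0, map_zero]))
  set y : AdjoinRoot (X ^ p - Polynomial.C a : M[X]) := ϖq⁻¹ • (zC - θ) with hy
  have hyp : y ^ p = algebraMap B (AdjoinRoot (X ^ p - Polynomial.C a : M[X])) c := by
    have hthis : ϖq⁻¹ ^ p * algebraMap B M (πB ^ (p * q)) = 1 := by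
      rw [mul_comm p q, pow_mul, map_pow, ← hϖq, inv_pow, inv_mul_cancel₀ (pow_ne_zero p hϖq0)]
    rw [hy, _root_.smul_pow, hzp, map_mul,
      IsScalarTower.algebraMap_apply B M (AdjoinRoot (X ^ p - Polynomial.C a : M[X])) (πB ^ (p * q)),
      mul_comm, ← Algebra.smul_def, smul_smul, hthis, one_smul]
  have hyint : IsIntegral B y := IsIntegral.of_pow hp.pos (hyp ▸ isIntegral_algebraMap)
  have hθS : θ ∈ S := by
    rw [hθ]
    exact Submodule.sum_mem _ fun i _ => Submodule.smul_mem _ _ (hSpow _)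
  obtain ⟨β, hβ⟩ := hψS θ hθS
  have hψy : ψ y = ϖq⁻¹ * (algebraMap C M πC - algebraMap B M β) := by
    rw [hy, map_smul, map_sub, hzC, hψof, hβ, smul_eq_mul]
  obtain ⟨c', hc'⟩ := hdN (ψ y) ⟨y, hyint, rfl⟩
  -- back to `C`
  have h1 : c' * algebraMap B C πB ^ q = (d : C) * (πC - algebraMap B C β) := by
    apply IsFractionRing.injective C M
    rw [map_mul, hc', hψy, map_mul, map_sub, map_pow, ← IsScalarTower.algebraMap_apply B C M,
      ← IsScalarTower.algebraMap_apply B C M, ← map_pow, ← hϖq]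
    field_simp
  have h2 : algebraMap B C πB ^ q * algebraMap B C u ^ q = πC ^ (p * q) := by
    rw [← mul_pow, ← map_mul, mul_comm πB u, ← hπCp, ← pow_mul]
  have h3 : c' * πC ^ (p * q) = algebraMap B C u ^ q * ((v : C) * πC ^ N₀ *
      (πC - algebraMap B C β)) := by
    rw [← h2, ← hv]
    linear_combination (algebraMap B C u ^ q) * h1
  have h4 : πC ^ N₀ * (c' * πC ^ (p * q - N₀)) = πC ^ N₀ * (algebraMap B C u ^ q * (v : C) *
      (πC - algebraMap B C β)) := by
    have : p * q = N₀ + (p * q - N₀) := by omega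
    conv_lhs => rw [mul_left_comm, ← pow_add, ← this]
    rw [h3]
    ring
  have h5 := mul_left_cancel₀ (pow_ne_zero N₀ hπC.ne_zero) h4
  have hunit : IsUnit (algebraMap B C u ^ q * (v : C)) := ((hu.map _).pow q).mul v.isUnit
  have h6 : πC ^ 2 ∣ algebraMap B C u ^ q * (v : C) * (πC - algebraMap B C β) := by
    rw [← h5]
    exact Dvd.dvd.mul_left (pow_dvd_pow πC (by omega)) _
  have h7 : πC ^ 2 ∣ πC - algebraMap B C β := (hunit.dvd_mul_left).mp h6
  exact not_sq_dvd p hp.two_le πB u hπB πC hπC hπCp hu β h7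

end root

end InsepStepH8
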