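import Mathlib
import Groth.Prelude.Def_EtRam
import Groth.Agent.Lib.InsepStep2_helper8

set_option autoImplicit false
universe u

namespace InsepStepH8

open IsLocalRing Polynomial

theorem dvd_of_sum_dvd {B : Type u} [CommRing B] [IsDomain B] (p : ℕ) (ϖ : B) (hϖ : Prime ϖ)
    (β : ℕ → B) (h : ϖ ^ p ∣ ∑ j ∈ Finset.range p, β j ^ p * ϖ ^ j) : ∀ j < p, ϖ ∣ β j := by
  classical
  intro j
  induction j using Nat.strong_induction_on with
  | _ j ih =>
    intro hj
    have hjm : j ∈ Finset.range p := Finset.mem_range.mpr hj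
    have hsplit := Finset.add_sum_erase (Finset.range p) (fun i => β i ^ p * ϖ ^ i) hjm
    have h1 : ϖ ^ (j + 1) ∣ ∑ i ∈ (Finset.range p).erase j, β i ^ p * ϖ ^ i := by
      apply Finset.dvd_sum
      intro i hi
      rw [Finset.mem_erase, Finset.mem_range] at hi
      rcases Nat.lt_or_gt_of_ne hi.1 with hlt | hgt
      · have h2 : ϖ ∣ β i := ih i hlt hi.2
        have h3 : ϖ ^ p ∣ β i ^ p := pow_dvd_pow_of_dvd h2 p
        exact Dvd.dvd.mul_right ((pow_dvd_pow ϖ (by omega)).trans h3) _
      · exact Dvd.dvd.mul_left (pow_dvd_pow ϖ (by omega)) _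
    have h2 : ϖ ^ (j + 1) ∣ ∑ j ∈ Finset.range p, β j ^ p * ϖ ^ j :=
      (pow_dvd_pow ϖ (by omega)).trans h
    rw [← hsplit] at h2
    have h3 : ϖ ^ (j + 1) ∣ β j ^ p * ϖ ^ j := (dvd_add_left h1).mp h2
    rw [pow_succ, mul_comm (β j ^ p)] at h3
    have h4 : ϖ ∣ β j ^ p := (mul_dvd_mul_iff_left (pow_ne_zero j hϖ.ne_zero)).mp h3
    exact hϖ.dvd_of_dvd_pow h4

theorem coeff_mem_of_sum_mem {B L : Type u} [CommRing B] [IsDomain B] [IsDiscreteValuationRing B]
    [Field L] [Algebra B L] [IsFractionRing B L] (p : ℕ) (πB : B) (hπB : Irreducible πB)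
    (l : ℕ → L) (b₀ : B)
    (h : ∑ j ∈ Finset.range p, l j ^ p * algebraMap B L πB ^ j = algebraMap B L b₀) :
    ∀ j < p, ∃ β : B, algebraMap B L β = l j := by
  classical
  have hinj : Function.Injective (algebraMap B L) := IsFractionRing.injective B L
  have hprime : Prime πB := hπB.prime
  have hπ0 : πB ≠ 0 := hπB.ne_zero
  have hπL0 : algebraMap B L πB ≠ 0 := fun h0 => hπ0 (hinj (by rw [h0, map_zero]))
  have hex : ∃ n : ℕ, ∀ j < p, ∃ β : B, algebraMap B L β = algebraMap B L (πB ^ n) * l j := by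
    obtain ⟨d, hd⟩ := IsLocalization.exist_integer_multiples_of_finset (nonZeroDivisors B)
      ((Finset.range p).image l)
    have hd0 : (d : B) ≠ 0 := nonZeroDivisors.ne_zero d.2
    obtain ⟨n, v, hv⟩ := IsDiscreteValuationRing.eq_unit_mul_pow_irreducible hd0 hπB
    refine ⟨n, fun j hj => ?_⟩
    obtain ⟨β, hβ⟩ := hd (l j) (Finset.mem_image_of_mem l (Finset.mem_range.mpr hj))
    refine ⟨(↑v⁻¹ : B) * β, ?_⟩
    rw [map_mul, hβ, Algebra.smul_def, hv, map_mul, ← mul_assoc, ← mul_assoc, ← map_mul,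
      Units.inv_mul, map_one, one_mul]
  rcases Nat.eq_zero_or_pos (Nat.find hex) with h0 | hpos
  · have := Nat.find_spec hex
    rw [h0] at this
    intro j hj
    obtain ⟨β, hβ⟩ := this j hj
    exact ⟨β, by rw [hβ, pow_zero, map_one, one_mul]⟩
  · exfalso
    obtain ⟨k, hk⟩ : ∃ k, Nat.find hex = k + 1 := ⟨Nat.find hex - 1, by omega⟩
    have hspec := Nat.find_spec hex
    rw [hk] at hspec
    have hβex : ∀ j : ℕ, ∃ β : B, j < p → algebraMap B L β = algebraMap B L (πB ^ (k + 1)) * l j := by
      intro j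
      by_cases hj : j < p
      · obtain ⟨β, hβ⟩ := hspec j hj
        exact ⟨β, fun _ => hβ⟩
      · exact ⟨0, fun h' => absurd h' hj⟩
    choose β hβ using hβex
    have hsum : ∑ j ∈ Finset.range p, β j ^ p * πB ^ j = πB ^ ((k + 1) * p) * b₀ := by
      apply hinj
      rw [map_sum, map_mul, ← h, Finset.mul_sum]
      apply Finset.sum_congr rfl
      intro j hj
      rw [map_mul, map_pow, hβ j (Finset.mem_range.mp hj), map_pow, map_pow, map_pow]
      ring
    have hdvd : πB ^ p ∣ ∑ j ∈ Finset.range p, β j ^ p * πB ^ j := by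
      rw [hsum]
      exact Dvd.dvd.mul_right (pow_dvd_pow πB (by nlinarith)) _
    have hall := dvd_of_sum_dvd p πB hprime β hdvd
    apply Nat.find_min hex (m := k) (by omega)
    intro j hj
    obtain ⟨β', hβ'⟩ := hall j hj
    refine ⟨β', ?_⟩
    have h1 := hβ j hj
    rw [hβ', map_mul, pow_succ', map_mul, mul_assoc] at h1
    exact mul_left_cancel₀ hπL0 h1

section top

variable {B C L M : Type u} [CommRing B] [IsDomain B] [IsDiscreteValuationRing B]
  [CommRing C] [IsDomain C] [IsDiscreteValuationRing C] [Algebra B C] [IsLocalHom (algebraMap B C)]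
  [Field L] [Field M] [Algebra B L] [IsFractionRing B L] [Algebra C M] [IsFractionRing C M]
  [Algebra L M] [Algebra B M] [IsScalarTower B L M] [IsScalarTower B C M]

set_option maxHeartbeats 1600000 in
theorem adjoin_eq_top (p : ℕ) (hp : p.Prime) [IsPurelyInseparable L M]
    (hdeg : Module.finrank L M = p) (πB : B) (hπB : Irreducible πB)
    (c₀ : M) (hc₀ : c₀ ^ p = algebraMap B M πB) :
    ∃ c : C, c ^ p = algebraMap B C πB ∧ Algebra.adjoin B {c} = ⊤ := by
  classical
  haveI : Fact p.Prime := ⟨hp⟩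
  obtain ⟨hchar, -⟩ := charP_and_pow_mem (L := L) (M := M) p hp hdeg
  haveI := hchar
  haveI : CharP M p := charP_of_injective_algebraMap (algebraMap L M).injective p
  haveI : FiniteDimensional L M := Module.finite_of_finrank_pos (hdeg ▸ hp.pos)
  have hCM : Function.Injective (algebraMap C M) := IsFractionRing.injective C M
  have hBL : Function.Injective (algebraMap B L) := IsFractionRing.injective B L
  -- `c₀ ∈ C`
  have hint : IsIntegral C c₀ := by
    apply IsIntegral.of_pow hp.pos
    rw [hc₀, IsScalarTower.algebraMap_apply B C M]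
    exact isIntegral_algebraMap
  obtain ⟨c, hc⟩ := IsIntegrallyClosed.algebraMap_eq_of_integral hint
  have hcp : c ^ p = algebraMap B C πB := by
    apply hCM
    rw [map_pow, hc, hc₀, ← IsScalarTower.algebraMap_apply B C M]
  refine ⟨c, hcp, ?_⟩
  -- `c₀ ∉ L`
  have hnotL : c₀ ∉ (algebraMap L M).range := by
    rintro ⟨l, hl⟩
    obtain ⟨b, hb⟩ := mem_B_of_mem_C (B := B) (M := M) l c (by rw [hc, hl])
    have h1 : b ^ p = πB := by
      apply hBL
      apply (algebraMap L M).injective
      rw [map_pow, map_pow, hb, hl, hc₀, ← IsScalarTower.algebraMap_apply B L M]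
    have h2 : πB = b * b ^ (p - 1) := by
      rw [← pow_succ', Nat.sub_add_cancel hp.pos, h1]
    rcases hπB.isUnit_or_isUnit h2 with hu | hu
    · exact hπB.not_isUnit (h1 ▸ hu.pow p)
    · have hp1 : p - 1 ≠ 0 := by have := hp.two_le; omega
      exact hπB.not_isUnit (h1 ▸ ((isUnit_pow_iff hp1).mp hu).pow p)
  -- `L(c₀) = M`
  have hintL : IsIntegral L c₀ := Algebra.IsIntegral.isIntegral c₀
  have hadj : Algebra.adjoin L {c₀} = ⊤ := by
    haveI : IsSimpleOrder (IntermediateField L M) :=
      IntermediateField.isSimpleOrder_of_finrank_prime L M (hdeg.symm ▸ hp)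
    rcases eq_bot_or_eq_top (IntermediateField.adjoin L {c₀}) with h | h
    · exfalso
      apply hnotL
      have h1 : c₀ ∈ IntermediateField.adjoin L {c₀} :=
        IntermediateField.mem_adjoin_simple_self L c₀
      rw [h, IntermediateField.mem_bot] at h1
      exact h1
    · rw [← IntermediateField.adjoin_simple_toSubalgebra_of_isAlgebraic hintL.isAlgebraic, h,
        IntermediateField.top_toSubalgebra]
  -- main
  rw [eq_top_iff]
  intro x _
  have hx : algebraMap C M x ∈ Algebra.adjoin L {c₀} := by rw [hadj]; trivial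
  rw [Algebra.adjoin_singleton_eq_range_aeval] at hx
  obtain ⟨h, hh⟩ := hx
  set πL : L := algebraMap B L πB with hπL
  have hmonic : (X ^ p - Polynomial.C πL : L[X]).Monic := monic_X_pow_sub_C πL hp.ne_zero
  have haevalf : aeval c₀ (X ^ p - Polynomial.C πL : L[X]) = 0 := by
    rw [map_sub, map_pow, aeval_X, aeval_C, hc₀, hπL, ← IsScalarTower.algebraMap_apply B L M,
      sub_self]
  set r : L[X] := h %ₘ (X ^ p - Polynomial.C πL) with hr
  have hrh : aeval c₀ r = algebraMap C M x := by
    have h1 := Polynomial.modByMonic_add_div h (X ^ p - Polynomial.C πL)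
    have h2 := congrArg (aeval c₀) h1
    rw [map_add, map_mul, haevalf, zero_mul, add_zero] at h2
    rw [hr, h2]
    exact hh
  have hrdeg : r.natDegree < p := by
    have h1 : (X ^ p - Polynomial.C πL : L[X]) ≠ 1 := by
      intro h1
      have := congrArg natDegree h1
      rw [natDegree_X_pow_sub_C, natDegree_one] at this
      exact hp.ne_zero this
    have := natDegree_modByMonic_lt h hmonic h1
    rwa [natDegree_X_pow_sub_C] at this
  have hsum : algebraMap C M x = ∑ j ∈ Finset.range p, algebraMap L M (r.coeff j) * c₀ ^ j := by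
    rw [← hrh, aeval_eq_sum_range' hrdeg]
    apply Finset.sum_congr rfl
    intro j _
    rw [Algebra.smul_def]
  -- `x ^ p ∈ B`
  obtain ⟨bx, hbx⟩ := pow_mem_B (B := B) (L := L) (M := M) p hp hdeg x
  have hkey : ∑ j ∈ Finset.range p, (r.coeff j) ^ p * algebraMap B L πB ^ j = algebraMap B L bx := by
    apply (algebraMap L M).injective
    rw [← IsScalarTower.algebraMap_apply B L M, IsScalarTower.algebraMap_apply B C M, hbx, map_pow,
      hsum, sum_pow_char, map_sum]
    apply Finset.sum_congr rfl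
    intro j _
    rw [mul_pow, ← pow_mul, mul_comm j p, pow_mul, hc₀, map_mul, map_pow, map_pow,
      ← IsScalarTower.algebraMap_apply B L M]
  have hcoef := coeff_mem_of_sum_mem p πB hπB (fun j => r.coeff j) bx hkey
  have hβex : ∀ j : ℕ, ∃ β : B, j < p → algebraMap B L β = r.coeff j := by
    intro j
    by_cases hj : j < p
    · obtain ⟨β, hβ⟩ := hcoef j hj
      exact ⟨β, fun _ => hβ⟩
    · exact ⟨0, fun h' => absurd h' hj⟩
  choose β hβ using hβex
  have hx' : x = ∑ j ∈ Finset.range p, algebraMap B C (β j) * c ^ j := by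
    apply hCM
    rw [hsum, map_sum]
    apply Finset.sum_congr rfl
    intro j hj
    rw [map_mul, map_pow, hc, ← IsScalarTower.algebraMap_apply B C M,
      IsScalarTower.algebraMap_apply B L M, hβ j (Finset.mem_range.mp hj)]
  rw [hx']
  refine Subalgebra.sum_mem _ fun j _ => ?_
  exact Subalgebra.mul_mem _ (Subalgebra.algebraMap_mem _ _)
    (Subalgebra.pow_mem _ (Algebra.self_mem_adjoin_singleton B c) j)

end top

end InsepStepH8
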