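import Mathlib
import Groth.Prelude.Def_EtRam

set_option autoImplicit false
universe u

namespace InsepStepH8

open IsLocalRing Polynomial TensorProduct

/-- the key ring computation in `B[x]`, `x` a root of `X^p + π^n X - π`. -/
theorem exists_gamma {T : Type u} [CommRing T] (p : ℕ) [Fact p.Prime] [CharP T p]
    (π x ε : T) (n m : ℕ) (hn : n = m + 2)
    (hx : x ^ p = π - π ^ n * x) (hε : π = x ^ p * ε)
    (b : ℕ → T) (c u : T) (hu : u = ∑ i ∈ Finset.range m, b i ^ p * π ^ i + c * π ^ m) :
    ∃ R : T, u * π = (∑ i ∈ Finset.range m, b i * x ^ (i + 1)) ^ p +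
      x ^ (p * (m + 1)) * (c + x * R) := by
  have hD : π - x ^ p = π ^ n * x := by rw [hx]; ring
  have hθ : (∑ i ∈ Finset.range m, b i * x ^ (i + 1)) ^ p =
      ∑ i ∈ Finset.range m, b i ^ p * (x ^ p) ^ (i + 1) := by
    rw [sum_pow_char]
    apply Finset.sum_congr rfl
    intro i _
    rw [mul_pow, ← pow_mul, ← pow_mul, mul_comm (i + 1) p]
  have huπ : u * π = ∑ i ∈ Finset.range m, b i ^ p * π ^ (i + 1) + c * π ^ (m + 1) := by
    rw [hu, add_mul, Finset.sum_mul]
    congr 1
    · apply Finset.sum_congr rfl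
      intro i _
      ring
    · ring
  have hdvd : π - x ^ p ∣ u * π - (∑ i ∈ Finset.range m, b i * x ^ (i + 1)) ^ p -
      c * (x ^ p) ^ (m + 1) := by
    have : u * π - (∑ i ∈ Finset.range m, b i * x ^ (i + 1)) ^ p - c * (x ^ p) ^ (m + 1) =
        ∑ i ∈ Finset.range m, b i ^ p * (π ^ (i + 1) - (x ^ p) ^ (i + 1)) +
          c * (π ^ (m + 1) - (x ^ p) ^ (m + 1)) := by
      rw [huπ, hθ]
      simp only [mul_sub, Finset.sum_sub_distrib]
      ring
    rw [this]
    apply dvd_add
    · apply Finset.dvd_sum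
      intro i _
      exact Dvd.dvd.mul_left (sub_dvd_pow_sub_pow _ _ _) _
    · exact Dvd.dvd.mul_left (sub_dvd_pow_sub_pow _ _ _) _
  obtain ⟨R₀, hR₀⟩ := hdvd
  refine ⟨x ^ p * ε ^ n * R₀, ?_⟩
  have hπn : π ^ n = x ^ (p * (m + 1)) * (x ^ p * ε ^ n) := by
    conv_lhs => rw [hε]
    rw [mul_pow, ← pow_mul, hn]
    ring
  have h1 : u * π = (∑ i ∈ Finset.range m, b i * x ^ (i + 1)) ^ p + c * (x ^ p) ^ (m + 1) +
      (π - x ^ p) * R₀ := by rw [← hR₀]; ring
  rw [h1, hD, hπn, ← pow_mul]
  ring

/-- a purely algebraic field lemma: an element outside `L` generates `M` when `[M:L]` is prime. -/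
theorem adjoin_eq_top_of_not_mem {L M : Type u} [Field L] [Field M] [Algebra L M]
    [FiniteDimensional L M] (hprime : (Module.finrank L M).Prime) (x : M)
    (hx : x ∉ (algebraMap L M).range) : Algebra.adjoin L {x} = ⊤ := by
  have hintL : IsIntegral L x := Algebra.IsIntegral.isIntegral x
  haveI : IsSimpleOrder (IntermediateField L M) :=
    IntermediateField.isSimpleOrder_of_finrank_prime L M hprime
  rcases eq_bot_or_eq_top (IntermediateField.adjoin L {x}) with h | h
  · exfalso
    apply hx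
    have h1 : x ∈ IntermediateField.adjoin L {x} := IntermediateField.mem_adjoin_simple_self L x
    rw [h, IntermediateField.mem_bot] at h1
    exact h1
  · rw [← IntermediateField.adjoin_simple_toSubalgebra_of_isAlgebraic hintL.isAlgebraic, h,
      IntermediateField.top_toSubalgebra]

/-- `M ⊗[K] K[X]/(f)` is a field when `f` stays irreducible over `M`. -/
theorem isField_tensor_adjoinRoot {K M : Type u} [Field K] [Field M] [Algebra K M] (f : K[X])
    (hf0 : f ≠ 0) (hf : Irreducible (f.map (algebraMap K M))) :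
    IsField (M ⊗[K] AdjoinRoot f) := by
  classical
  haveI : Fact (Irreducible (f.map (algebraMap K M))) := ⟨hf⟩
  have hfM0 : f.map (algebraMap K M) ≠ 0 := hf.ne_zero
  have hdvd : f.map (algebraMap K M) ∣ f.map ((Algebra.ofId K M : K →ₐ[K] M) : K →+* M) :=
    dvd_of_eq rfl
  let g : AdjoinRoot f →ₐ[K] AdjoinRoot (f.map (algebraMap K M)) :=
    AdjoinRoot.mapAlgHom (Algebra.ofId K M) f (f.map (algebraMap K M)) hdvd
  have hgroot : g (AdjoinRoot.root f) = AdjoinRoot.root _ := by
    show AdjoinRoot.map _ _ _ hdvd (AdjoinRoot.root f) = _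
    rw [AdjoinRoot.map_root]
  let φ : M ⊗[K] AdjoinRoot f →ₐ[M] AdjoinRoot (f.map (algebraMap K M)) :=
    Algebra.TensorProduct.lift (Algebra.ofId M _) g (fun _ _ => Commute.all _ _)
  have hφ : ∀ (m : M) (y : AdjoinRoot f), φ (m ⊗ₜ y) = algebraMap M _ m * g y := by
    intro m y
    rw [Algebra.TensorProduct.lift_tmul]
    rfl
  have hsurj : Function.Surjective φ := by
    intro z
    induction z using AdjoinRoot.induction_on with
    | ih h =>
      induction h using Polynomial.induction_on' with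
      | add h₁ h₂ ih₁ ih₂ =>
        obtain ⟨t₁, ht₁⟩ := ih₁
        obtain ⟨t₂, ht₂⟩ := ih₂
        exact ⟨t₁ + t₂, by rw [map_add, map_add, ht₁, ht₂]⟩
      | monomial k m =>
        refine ⟨m ⊗ₜ ((AdjoinRoot.root f) ^ k), ?_⟩
        have h1 := hφ m (AdjoinRoot.root f ^ k)
        rw [h1, map_pow, hgroot, ← C_mul_X_pow_eq_monomial, map_mul, map_pow, AdjoinRoot.mk_X,
          AdjoinRoot.mk_C]
        rfl
  have hfin1 : Module.finrank M (M ⊗[K] AdjoinRoot f) = f.natDegree := by
    haveI : Module.Finite K (AdjoinRoot f) := (AdjoinRoot.powerBasis hf0).finite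
    haveI : Module.Free K (AdjoinRoot f) := Module.Free.of_divisionRing K _
    rw [Module.finrank_baseChange, (AdjoinRoot.powerBasis hf0).finrank, AdjoinRoot.powerBasis_dim]
  have hfin2 : Module.finrank M (AdjoinRoot (f.map (algebraMap K M))) = f.natDegree := by
    rw [(AdjoinRoot.powerBasis hfM0).finrank, AdjoinRoot.powerBasis_dim, natDegree_map]
  haveI : Module.Finite K (AdjoinRoot f) := (AdjoinRoot.powerBasis hf0).finite
  haveI : FiniteDimensional M (M ⊗[K] AdjoinRoot f) := Module.Finite.base_change K M _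
  haveI : FiniteDimensional M (AdjoinRoot (f.map (algebraMap K M))) :=
    (AdjoinRoot.powerBasis hfM0).finite
  have hinj : Function.Injective φ :=
    (LinearMap.injective_iff_surjective_of_finrank_eq_finrank (f := φ.toLinearMap)
      (hfin1.trans hfin2.symm)).mpr hsurj
  exact (RingEquiv.ofBijective φ ⟨hinj, hsurj⟩).toMulEquiv.isField (Field.toIsField _)

end InsepStepH8
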