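import Mathlib
import Groth.Prelude.Def_EtRam
import Groth.Agent.Lib.EisExt1_helper8
import Groth.Agent.Lib.EisExt2_helper8
import Groth.Agent.Lib.InsepStep1_helper8
import Groth.Agent.Lib.InsepStep2_helper8
import Groth.Agent.Lib.InsepStep5_helper8

set_option autoImplicit false
universe u

namespace InsepStepH8

open IsLocalRing Polynomial EisExtH8

set_option maxHeartbeats 6400000 in
theorem weakSolution_C (p : ℕ) (hp : p.Prime) (B C K L M : Type u)
    [CommRing B] [IsDomain B] [IsDiscreteValuationRing B]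
    [CommRing C] [IsDomain C] [IsDiscreteValuationRing C]
    [Algebra B C] (hBC : Function.Injective (algebraMap B C)) [IsLocalHom (algebraMap B C)]
    [Field K] [Field L] [Field M] [Algebra B L] [IsFractionRing B L]
    [Algebra C M] [IsFractionRing C M] [Algebra K L] [Algebra L M] [Algebra K M]
    [IsScalarTower K L M] [Algebra B M] [IsScalarTower B L M] [IsScalarTower B C M]
    (πB : B) (hπB : maximalIdeal B = Ideal.span {πB}) (πK : K)
    (hcompat : algebraMap K M πK = algebraMap B M πB)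
    [IsPurelyInseparable L M] (hdeg : Module.finrank L M = p)
    (πC : C) (u : B) (hu : IsUnit u)
    (hπCp : πC ^ p = algebraMap B C (u * πB))
    (m : ℕ) (b : ℕ → B) (c : B)
    (hbc : u = ∑ i ∈ Finset.range m, b i ^ p * πB ^ i + c * πB ^ m)
    (hc : ∀ y : ResidueField B, y ^ p ≠ residue B c)
    (K₁ : Type u) [Field K₁] [Algebra K K₁] (ρ : K₁)
    (hρ : ρ ^ p + (algebraMap K K₁ πK ^ (m + 2) * ρ - algebraMap K K₁ πK) = 0)
    (hK₁ : Algebra.adjoin K {ρ} = ⊤) :
    EtRam.IsWeakSolution C K M K₁ := by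
  classical
  intro M₁ _ _ _ _ _ _ hgen W hdW
  haveI : Fact p.Prime := ⟨hp⟩
  have hq : 2 ≤ p := hp.two_le
  have hn : 2 ≤ m + 2 := by omega
  have hπBirr : Irreducible πB := (IsDiscreteValuationRing.irreducible_iff_uniformizer πB).mpr hπB
  -- local algebra instances
  letI : Algebra C M₁ := ((algebraMap M M₁).comp (algebraMap C M)).toAlgebra
  haveI : IsScalarTower C M M₁ := IsScalarTower.of_algebraMap_eq (fun _ => rfl)
  letI : Algebra B M₁ := ((algebraMap M M₁).comp (algebraMap B M)).toAlgebra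
  haveI : IsScalarTower B M M₁ := IsScalarTower.of_algebraMap_eq (fun _ => rfl)
  haveI : IsScalarTower B C M₁ := IsScalarTower.of_algebraMap_eq (fun x => by
    show algebraMap M M₁ (algebraMap B M x) = algebraMap M M₁ (algebraMap C M (algebraMap B C x))
    rw [← IsScalarTower.algebraMap_apply B C M])
  have hdW' : EtRam.Dominates C (algebraMap C M₁) W := hdW
  have hBM₁ : Function.Injective (algebraMap B M₁) := by
    show Function.Injective ((algebraMap M M₁).comp (algebraMap B M))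
    rw [IsScalarTower.algebraMap_eq B L M]
    exact (algebraMap M M₁).injective.comp
      ((algebraMap L M).injective.comp (IsFractionRing.injective B L))
  obtain ⟨π₁, hπ₁⟩ : ∃ π₁ : M₁, π₁ = algebraMap K₁ M₁ ρ := ⟨_, rfl⟩
  have hπK₁ : algebraMap K₁ M₁ (algebraMap K K₁ πK) = algebraMap B M₁ πB := by
    rw [← IsScalarTower.algebraMap_apply K K₁ M₁, IsScalarTower.algebraMap_apply K M M₁, hcompat]
    rfl
  have hx : π₁ ^ p + (algebraMap B M₁ πB ^ (m + 2) * π₁ - algebraMap B M₁ πB) = 0 := by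
    have h1 := congrArg (algebraMap K₁ M₁) hρ
    rw [map_add, map_sub, map_mul, map_pow, map_pow, hπK₁, map_zero, ← hπ₁] at h1
    exact h1
  -- the ring `T_B = B[π₁]`
  haveI hloc := isLocalRing_adjoin πB hπB π₁ p (m + 2) hq hn hx
  have hmaxT := maximalIdeal_adjoin πB hπB π₁ p (m + 2) hq hn hx
  haveI := finite_adjoin πB π₁ p (m + 2) hq hx
  haveI : IsNoetherianRing (Algebra.adjoin B {π₁}) :=
    Algebra.FiniteType.isNoetherianRing B (Algebra.adjoin B {π₁})
  obtain ⟨ε, hεmem, hε⟩ := exists_unit_factor πB hπB π₁ p (m + 2) hq hn hx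
  -- characteristic `p`
  obtain ⟨hchar, -⟩ := charP_and_pow_mem (L := L) (M := M) p hp hdeg
  haveI := hchar
  haveI : CharP M₁ p :=
    charP_of_injective_ringHom ((algebraMap M M₁).comp (algebraMap L M)).injective p
  haveI : CharP (Algebra.adjoin B {π₁}) p := by
    refine ⟨fun k => ?_⟩
    rw [← CharP.cast_eq_zero_iff M₁ p k]
    constructor
    · intro h
      have := congrArg (Subtype.val : Algebra.adjoin B {π₁} → M₁) h
      simpa using this
    · intro h
      apply Subtype.ext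
      simpa using h
  -- the element `γ₀`
  let φ : Algebra.adjoin B {π₁} →+* M₁ := (Algebra.adjoin B {π₁}).val.toRingHom
  have hφalg : ∀ x : B, φ (algebraMap B (Algebra.adjoin B {π₁}) x) = algebraMap B M₁ x :=
    fun x => rfl
  have hφxt : φ (xt π₁) = π₁ := rfl
  obtain ⟨R, hR⟩ := exists_gamma (T := Algebra.adjoin B {π₁}) p
    (algebraMap B (Algebra.adjoin B {π₁}) πB) (xt π₁) ⟨ε, hεmem⟩ (m + 2) m rfl
    (xt_pow πB π₁ p (m + 2) hx) (Subtype.ext hε)
    (fun i => algebraMap B (Algebra.adjoin B {π₁}) (b i))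
    (algebraMap B (Algebra.adjoin B {π₁}) c) (algebraMap B (Algebra.adjoin B {π₁}) u)
    (by rw [hbc]; simp only [map_add, map_sum, map_mul, map_pow])
  obtain ⟨γ₀, hγ₀⟩ : ∃ γ₀ : Algebra.adjoin B {π₁},
      γ₀ = algebraMap B (Algebra.adjoin B {π₁}) c + xt π₁ * R := ⟨_, rfl⟩
  obtain ⟨θ₀, hθ₀⟩ : ∃ θ₀ : Algebra.adjoin B {π₁}, θ₀ = ∑ i ∈ Finset.range m,
      algebraMap B (Algebra.adjoin B {π₁}) (b i) * xt π₁ ^ (i + 1) := ⟨_, rfl⟩
  rw [← hγ₀, ← hθ₀] at hR
  have hγ : ∀ y : ResidueField (Algebra.adjoin B {π₁}), y ^ p ≠ residue _ γ₀ := by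
    intro y hy
    obtain ⟨t, rfl⟩ := residue_surjective y
    obtain ⟨b', hb'⟩ := exists_sub_mem_span (A := B) π₁ t
    have h1 : residue _ t = residue _ (algebraMap B (Algebra.adjoin B {π₁}) b') := by
      rw [← sub_eq_zero, ← map_sub, residue_eq_zero_iff, hmaxT]
      exact hb'
    have h2 : residue _ γ₀ = residue _ (algebraMap B (Algebra.adjoin B {π₁}) c) := by
      rw [← sub_eq_zero, ← map_sub, residue_eq_zero_iff, hmaxT, hγ₀, add_sub_cancel_left]
      exact Ideal.mul_mem_right _ _ (Ideal.mem_span_singleton_self _)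
    rw [h1, h2, ← map_pow, ← map_pow, ← sub_eq_zero, ← map_sub, ← map_sub,
      residue_eq_zero_iff] at hy
    have h3 : b' ^ p - c ∈ maximalIdeal B := by
      rw [mem_maximalIdeal]
      intro hunit
      exact (mem_maximalIdeal _).mp hy (hunit.map _)
    apply hc (residue B b')
    rw [← map_pow, ← sub_eq_zero, ← map_sub, residue_eq_zero_iff]
    exact h3
  -- `π₁ ≠ 0`
  have hπ₁0 : π₁ ≠ 0 := by
    intro h0
    rw [h0, zero_pow hp.ne_zero, mul_zero, zero_sub, zero_add, neg_eq_zero] at hx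
    exact hπBirr.ne_zero (hBM₁ (by rw [hx, map_zero]))
  -- the element `ζ`
  obtain ⟨πC₁, hπC₁⟩ : ∃ πC₁ : M₁, πC₁ = algebraMap C M₁ πC := ⟨_, rfl⟩
  obtain ⟨ζ, hζdef⟩ : ∃ ζ : M₁, ζ = (πC₁ - φ θ₀) / π₁ ^ (m + 1) := ⟨_, rfl⟩
  have hπC₁p : πC₁ ^ p = algebraMap B M₁ u * algebraMap B M₁ πB := by
    rw [hπC₁, ← map_pow, hπCp, ← IsScalarTower.algebraMap_apply B C M₁, map_mul]
  have hR' : algebraMap B M₁ u * algebraMap B M₁ πB =
      φ θ₀ ^ p + π₁ ^ (p * (m + 1)) * φ γ₀ := by
    have h1 := congrArg φ hR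
    rw [map_mul, map_add, map_pow, map_mul, map_pow, hφalg, hφalg, hφxt] at h1
    exact h1
  have hζ : ζ ^ p = φ γ₀ := by
    rw [hζdef, div_pow, sub_pow_char, hπC₁p, hR', add_sub_cancel_left, ← pow_mul,
      mul_comm (m + 1) p]
    exact mul_div_cancel_left₀ _ (pow_ne_zero _ hπ₁0)
  -- `φ` lands in `W`
  have hπ₁int : IsIntegral C π₁ := (isIntegral_x πB π₁ p (m + 2) hq hx).tower_top
  have hπ₁W : π₁ ∈ W := mem_of_isIntegral_of_dominates W hdW' hπ₁int
  have hBW : ∀ x : B, algebraMap B M₁ x ∈ W := by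
    intro x
    rw [IsScalarTower.algebraMap_apply B C M₁]
    exact hdW'.1 _
  have hφW : ∀ r : Algebra.adjoin B {π₁}, φ r ∈ W := by
    rintro ⟨r, hr⟩
    show r ∈ W
    induction hr using Algebra.adjoin_induction with
    | mem x hx' =>
      rw [Set.mem_singleton_iff] at hx'
      rw [hx']
      exact hπ₁W
    | algebraMap x => exact hBW x
    | add x y _ _ hx' hy' => exact W.add_mem _ _ hx' hy'
    | mul x y _ _ hx' hy' => exact W.mul_mem _ _ hx' hy'
  -- `π₁` is in the maximal ideal of `W`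
  have hπBW : W.valuation (algebraMap B M₁ πB) < 1 := by
    rw [IsScalarTower.algebraMap_apply B C M₁]
    apply hdW'.2
    rw [mem_maximalIdeal]
    intro hunit
    exact hπBirr.not_isUnit (isUnit_of_map_unit (algebraMap B C) πB hunit)
  have hφt : W.valuation (φ (xt π₁)) < 1 := by
    rw [hφxt]
    have h1 : (⟨algebraMap B M₁ πB, hBW πB⟩ : W) ∈ maximalIdeal W :=
      (ValuationSubring.valuation_lt_one_iff W _).mpr hπBW
    have h2 : (⟨π₁, hπ₁W⟩ : W) ^ p ∈ maximalIdeal W := by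
      have h3 : (⟨π₁, hπ₁W⟩ : W) ^ p = ⟨algebraMap B M₁ πB, hBW πB⟩ -
          ⟨algebraMap B M₁ πB, hBW πB⟩ ^ (m + 2) * ⟨π₁, hπ₁W⟩ := by
        apply Subtype.ext
        simp only [SubmonoidClass.coe_pow, AddSubgroupClass.coe_sub, MulMemClass.coe_mul]
        linear_combination hx
      rw [h3]
      exact Ideal.sub_mem _ h1 (Ideal.mul_mem_right _ _ (Ideal.pow_mem_of_mem _ h1 _ (by omega)))
    have h4 : (⟨π₁, hπ₁W⟩ : W) ∈ maximalIdeal W :=
      (maximalIdeal.isMaximal W).isPrime.mem_of_pow_mem p h2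
    exact (ValuationSubring.valuation_lt_one_iff W _).mp h4
  -- generation
  obtain ⟨F, hF⟩ : ∃ F : Subfield M₁, F = Subfield.closure (Set.range φ ∪ {ζ}) := ⟨_, rfl⟩
  have hF_φ : ∀ r, φ r ∈ F := fun r => hF ▸ Subfield.subset_closure (Or.inl ⟨r, rfl⟩)
  have hF_ζ : ζ ∈ F := hF ▸ Subfield.subset_closure (Or.inr rfl)
  have hF_B : ∀ x : B, algebraMap B M₁ x ∈ F := fun x => hF_φ (algebraMap B _ x)
  have hF_π₁ : π₁ ∈ F := hF_φ (xt π₁)
  have hF_L : ∀ l : L, algebraMap M M₁ (algebraMap L M l) ∈ F := by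
    intro l
    obtain ⟨b₁, b₂, -, rfl⟩ := IsFractionRing.div_surjective (A := B) l
    rw [map_div₀, map_div₀, ← IsScalarTower.algebraMap_apply B L M,
      ← IsScalarTower.algebraMap_apply B L M]
    exact F.div_mem (hF_B b₁) (hF_B b₂)
  have hF_πC : πC₁ ∈ F := by
    have h1 : πC₁ = φ θ₀ + π₁ ^ (m + 1) * ζ := by
      rw [hζdef, mul_div_cancel₀ _ (pow_ne_zero _ hπ₁0)]
      ring
    rw [h1]
    exact F.add_mem (hF_φ θ₀) (F.mul_mem (F.pow_mem hF_π₁ _) hF_ζ)
  have hCM : Function.Injective (algebraMap C M) := IsFractionRing.injective C M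
  have hnotL : algebraMap C M πC ∉ (algebraMap L M).range := by
    rintro ⟨l, hl⟩
    obtain ⟨b₀, hb₀⟩ := mem_B_of_mem_C (B := B) (M := M) l πC hl.symm
    have h1 : algebraMap B C b₀ = πC := by
      apply hCM
      rw [← IsScalarTower.algebraMap_apply B C M, IsScalarTower.algebraMap_apply B L M, hb₀, hl]
    have h2 : b₀ ^ p = u * πB := hBC (by rw [map_pow, h1, hπCp])
    have h3 : πB ∣ b₀ := hπBirr.prime.dvd_of_dvd_pow (h2 ▸ Dvd.intro_left u rfl)
    obtain ⟨b', rfl⟩ := h3
    have hpp : πB ^ p = πB * πB ^ (p - 1) := by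
      rw [← pow_succ', Nat.sub_add_cancel hp.pos]
    have h4 : πB * (πB ^ (p - 1) * b' ^ p) = πB * u := by
      rw [mul_comm πB u, ← h2, mul_pow, hpp]
      ring
    have h5 := mul_left_cancel₀ hπBirr.ne_zero h4
    have h6 : πB ∣ u := by
      rw [← h5]
      exact Dvd.dvd.mul_right (dvd_pow_self πB (by have := hp.two_le; omega)) _
    exact hπBirr.not_isUnit (isUnit_of_dvd_unit h6 hu)
  haveI : FiniteDimensional L M := Module.finite_of_finrank_pos (hdeg ▸ hp.pos)
  have hadjM : Algebra.adjoin L {algebraMap C M πC} = ⊤ :=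
    adjoin_eq_top_of_not_mem (hdeg.symm ▸ hp) _ hnotL
  have hF_M : ∀ x : M, algebraMap M M₁ x ∈ F := by
    intro x
    have hx' : x ∈ Algebra.adjoin L {algebraMap C M πC} := by rw [hadjM]; trivial
    induction hx' using Algebra.adjoin_induction with
    | mem y hy =>
      rw [Set.mem_singleton_iff] at hy
      rw [hy]
      have : algebraMap M M₁ (algebraMap C M πC) = πC₁ := by rw [hπC₁]; rfl
      rw [this]
      exact hF_πC
    | algebraMap l => exact hF_L l
    | add x y _ _ hx' hy' => rw [map_add]; exact F.add_mem hx' hy'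
    | mul x y _ _ hx' hy' => rw [map_mul]; exact F.mul_mem hx' hy'
  have hF_K₁ : ∀ y : K₁, algebraMap K₁ M₁ y ∈ F := by
    intro y
    have hy : y ∈ Algebra.adjoin K {ρ} := by rw [hK₁]; trivial
    induction hy using Algebra.adjoin_induction with
    | mem z hz =>
      rw [Set.mem_singleton_iff] at hz
      rw [hz, ← hπ₁]
      exact hF_π₁
    | algebraMap k =>
      rw [← IsScalarTower.algebraMap_apply K K₁ M₁, IsScalarTower.algebraMap_apply K M M₁]
      exact hF_M _
    | add x y _ _ hx' hy' => rw [map_add]; exact F.add_mem hx' hy'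
    | mul x y _ _ hx' hy' => rw [map_mul]; exact F.mul_mem hx' hy'
  have hgen' : Subfield.closure (Set.range φ ∪ {ζ}) = ⊤ := by
    rw [← hF, eq_top_iff]
    rintro x -
    have hx' : x ∈ Algebra.adjoin M (Set.range (algebraMap K₁ M₁)) := by rw [hgen]; trivial
    induction hx' using Algebra.adjoin_induction with
    | mem y hy =>
      obtain ⟨k, rfl⟩ := hy
      exact hF_K₁ k
    | algebraMap x => exact hF_M x
    | add x y _ _ hx' hy' => exact F.add_mem hx' hy'
    | mul x y _ _ hx' hy' => exact F.mul_mem hx' hy'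
  -- apply stage 2
  have hmain := stage2 (xt π₁) hmaxT p hp W φ hφW hφt γ₀ hγ ζ hζ hgen'
  letI : Algebra (W.comap (algebraMap K₁ M₁)) W :=
    (EtRam.inclOfComap W (algebraMap K₁ M₁)).toAlgebra
  show Ideal.map (algebraMap (W.comap (algebraMap K₁ M₁)) W) (maximalIdeal _) = maximalIdeal W
  apply le_antisymm
  · rw [Ideal.map_le_iff_le_comap]
    intro v hv
    show algebraMap (W.comap (algebraMap K₁ M₁)) W v ∈ maximalIdeal W
    rw [mem_maximalIdeal] at hv ⊢
    intro hunit
    exact hv (isUnit_of_map_unit (EtRam.inclOfComap W (algebraMap K₁ M₁)) v hunit)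
  · intro x hxm
    have hxv : W.valuation (x : M₁) < 1 := (ValuationSubring.valuation_lt_one_iff W x).mp hxm
    obtain ⟨y, hy, hxy⟩ := hmain (x : M₁) x.2 hxv
    rw [hφxt] at hxy
    have hρmem : ρ ∈ W.comap (algebraMap K₁ M₁) := by
      show algebraMap K₁ M₁ ρ ∈ W
      rw [← hπ₁]
      exact hπ₁W
    have hρmax : (⟨ρ, hρmem⟩ : W.comap (algebraMap K₁ M₁)) ∈ maximalIdeal _ := by
      rw [mem_maximalIdeal]
      intro hunit
      have h1 : IsUnit (EtRam.inclOfComap W (algebraMap K₁ M₁) ⟨ρ, hρmem⟩) := hunit.map _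
      have h2 : (EtRam.inclOfComap W (algebraMap K₁ M₁) ⟨ρ, hρmem⟩ : W) ∈ maximalIdeal W := by
        rw [ValuationSubring.valuation_lt_one_iff]
        show W.valuation (algebraMap K₁ M₁ ρ) < 1
        rw [← hπ₁]
        exact hφt
      exact (mem_maximalIdeal _).mp h2 h1
    have hxeq : x = algebraMap (W.comap (algebraMap K₁ M₁)) W ⟨ρ, hρmem⟩ * ⟨y, hy⟩ := by
      apply Subtype.ext
      rw [hxy, hπ₁]
      rfl
    rw [hxeq]
    exact Ideal.mul_mem_right _ _ (Ideal.mem_map_of_mem _ hρmax)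

end InsepStepH8
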