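import Mathlib
import Groth.Prelude.Def_EtRam
import Groth.Agent.Lib.DvrExt5_helper8

set_option autoImplicit false
universe u

namespace TameExtH8

open IsLocalRing Polynomial

section adjoinRoot

variable {A : Type u} [CommRing A] [IsLocalRing A] (π : A) (hπ : maximalIdeal A = Ideal.span {π})
  (e : ℕ) (he : e ≠ 0)

/-- the canonical map `A[z]/(z^e - π) → κ(A)` killing `z`. -/
noncomputable def chi (hπm : π ∈ maximalIdeal A) (he : e ≠ 0) :
    AdjoinRoot (X ^ e - C π : A[X]) →+* ResidueField A :=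
  AdjoinRoot.lift (residue A) 0 (by
    rw [eval₂_sub, eval₂_pow, eval₂_X, eval₂_C, zero_pow he, zero_sub, neg_eq_zero]
    exact (residue_eq_zero_iff _).mpr hπm)

theorem chi_of (hπm : π ∈ maximalIdeal A) (he : e ≠ 0) (a : A) :
    chi π e hπm he (AdjoinRoot.of _ a) = residue A a := by
  unfold chi
  rw [AdjoinRoot.lift_of]

theorem chi_root (hπm : π ∈ maximalIdeal A) (he : e ≠ 0) :
    chi π e hπm he (AdjoinRoot.root _) = 0 := by
  unfold chi
  rw [AdjoinRoot.lift_root]

theorem root_pow_eq : (AdjoinRoot.root (X ^ e - C π : A[X])) ^ e = AdjoinRoot.of _ π := by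
  have h0 : AdjoinRoot.mk (X ^ e - C π : A[X]) (X ^ e - C π) = 0 := AdjoinRoot.mk_self
  rw [map_sub, map_pow, AdjoinRoot.mk_X, AdjoinRoot.mk_C, sub_eq_zero] at h0
  exact h0

/-- every element of `A[z]/(z^e - π)` is a constant plus a multiple of `z`. -/
theorem exists_eq_of_add_root_mul (x : AdjoinRoot (X ^ e - C π : A[X])) :
    ∃ (a : A) (y : AdjoinRoot (X ^ e - C π : A[X])),
      x = AdjoinRoot.of _ a + AdjoinRoot.root _ * y := by
  induction x using AdjoinRoot.induction_on with
  | ih p =>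
    refine ⟨p.coeff 0, AdjoinRoot.mk _ p.divX, ?_⟩
    conv_lhs => rw [← Polynomial.divX_mul_X_add p]
    rw [map_add, map_mul, AdjoinRoot.mk_X, AdjoinRoot.mk_C]
    ring

include hπ in
theorem maximalIdeal_adjoinRoot [IsLocalRing (AdjoinRoot (X ^ e - C π : A[X]))] (he : e ≠ 0) :
    maximalIdeal (AdjoinRoot (X ^ e - C π : A[X])) = Ideal.span {AdjoinRoot.root _} := by
  have hπm : π ∈ maximalIdeal A := by
    rw [hπ]
    exact Ideal.mem_span_singleton_self _
  have hsurj : Function.Surjective (chi π e hπm he) := by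
    intro x
    obtain ⟨a, rfl⟩ := residue_surjective x
    exact ⟨AdjoinRoot.of _ a, chi_of π e hπm he a⟩
  have hker : RingHom.ker (chi π e hπm he) = maximalIdeal _ := by
    haveI : (RingHom.ker (chi π e hπm he)).IsMaximal := RingHom.ker_isMaximal_of_surjective _ hsurj
    exact IsLocalRing.eq_maximalIdeal inferInstance
  apply le_antisymm
  · intro x hx
    rw [← hker, RingHom.mem_ker] at hx
    obtain ⟨a, y, rfl⟩ := exists_eq_of_add_root_mul π e x
    rw [map_add, map_mul, chi_root, zero_mul, add_zero, chi_of, residue_eq_zero_iff, hπ] at hx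
    obtain ⟨b, rfl⟩ := Ideal.mem_span_singleton'.mp hx
    have hpow : (AdjoinRoot.root (X ^ e - C π : A[X])) ^ e =
        AdjoinRoot.root _ * AdjoinRoot.root _ ^ (e - 1) := by
      rw [← pow_succ', Nat.sub_add_cancel (Nat.one_le_iff_ne_zero.mpr he)]
    rw [map_mul, ← root_pow_eq, hpow]
    apply Ideal.mem_span_singleton'.mpr
    exact ⟨AdjoinRoot.of _ b * AdjoinRoot.root _ ^ (e - 1) + y, by ring⟩
  · rw [Ideal.span_le, Set.singleton_subset_iff, SetLike.mem_coe, ← hker, RingHom.mem_ker]
    exact chi_root π e hπm he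

include hπ in
theorem isLocalHom_of_adjoinRoot [IsLocalRing (AdjoinRoot (X ^ e - C π : A[X]))] (he : e ≠ 0) :
    IsLocalHom (algebraMap A (AdjoinRoot (X ^ e - C π : A[X]))) := by
  have hπm : π ∈ maximalIdeal A := by
    rw [hπ]
    exact Ideal.mem_span_singleton_self _
  constructor
  intro a ha
  have h1 : IsUnit (chi π e hπm he (algebraMap A _ a)) := ha.map _
  rw [AdjoinRoot.algebraMap_eq, chi_of] at h1
  exact (residue_ne_zero_iff_isUnit a).mp h1.ne_zero

include hπ in
theorem residue_adjoinRoot_surjective [IsLocalRing (AdjoinRoot (X ^ e - C π : A[X]))]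
    (he : e ≠ 0) (x : AdjoinRoot (X ^ e - C π : A[X])) :
    ∃ a : A, residue _ x = residue _ (AdjoinRoot.of (X ^ e - C π : A[X]) a) := by
  obtain ⟨a, y, rfl⟩ := exists_eq_of_add_root_mul π e x
  refine ⟨a, ?_⟩
  rw [map_add, add_eq_left, residue_eq_zero_iff, maximalIdeal_adjoinRoot π hπ e he]
  exact Ideal.mul_mem_right _ _ (Ideal.mem_span_singleton_self _)

end adjoinRoot

end TameExtH8
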