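import Mathlib
import Groth.Prelude.Def_EtRam
import Groth.Agent.Lib.DvrExt5_helper8

set_option autoImplicit false
universe u

namespace TameExtH8

open IsLocalRing

section fin

variable {A K : Type u} [CommRing A] [IsDomain A] [IsDiscreteValuationRing A] [Field K]
  [Algebra A K] [IsFractionRing A K] {L : Type u} [Field L] [Algebra K L]
  [Algebra A L] [IsScalarTower A K L]

theorem integral_mem_of_dominates (V : ValuationSubring L)
    (h : EtRam.Dominates A (algebraMap A L) V) (c : L) (hc : IsIntegral A c) : c ∈ V := by
  letI : Algebra A V := (RingHom.codRestrict (algebraMap A L) V h.1).toAlgebra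
  haveI : IsScalarTower A V L := IsScalarTower.of_algebraMap_eq (fun _ => rfl)
  have hx'' : IsIntegral V c := hc.tower_top
  obtain ⟨y, hy⟩ := IsIntegrallyClosed.algebraMap_eq_of_integral hx''
  rw [← hy]
  exact y.2

/-- Only finitely many valuation subrings of a finite separable extension dominate a DVR. -/
theorem finite_dominating [FiniteDimensional K L] [Algebra.IsSeparable K L] :
    {V : ValuationSubring L | EtRam.Dominates A (algebraMap A L) V}.Finite := by
  classical
  haveI : IsDedekindDomain (integralClosure A L) := integralClosure.isDedekindDomain A K L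
  obtain ⟨π, hπ⟩ := IsDiscreteValuationRing.exists_irreducible A
  have hinj : Function.Injective (algebraMap A L) := by
    rw [IsScalarTower.algebraMap_eq A K L]
    exact (algebraMap K L).injective.comp (IsFractionRing.injective A K)
  let πC : integralClosure A L := algebraMap A (integralClosure A L) π
  have hπC0 : πC ≠ 0 := by
    intro h0
    have : algebraMap A L π = 0 := congrArg Subtype.val h0
    exact hπ.ne_zero (hinj (by rw [this, map_zero]))
  have ht : (Ideal.span {πC}).minimalPrimes.Finite :=
    Ideal.finite_minimalPrimes_of_isNoetherianRing _ _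
  let F : ValuationSubring L → Set L := fun V => {c | IsIntegral A c ∧ V.valuation c < 1}
  let G : Ideal (integralClosure A L) → Set L :=
    fun P => (fun c : integralClosure A L => (c : L)) '' (P : Set (integralClosure A L))
  apply Set.Finite.of_injOn (f := F) (t := G '' (Ideal.span {πC}).minimalPrimes) ?_ ?_ (ht.image G)
  · intro V hV
    have hCV : ∀ c : integralClosure A L, (c : L) ∈ V :=
      fun c => integral_mem_of_dominates V hV c.1 c.2
    let ι : integralClosure A L →+* V :=
      RingHom.codRestrict (integralClosure A L).val.toRingHom V hCV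
    let P : Ideal (integralClosure A L) := (maximalIdeal V).comap ι
    haveI hPp : P.IsPrime := Ideal.comap_isPrime _ _
    have hmemP : ∀ c : integralClosure A L, c ∈ P ↔ V.valuation (c : L) < 1 := by
      intro c
      show ι c ∈ maximalIdeal V ↔ _
      rw [ValuationSubring.valuation_lt_one_iff]
      rfl
    have hπP : πC ∈ P := by
      rw [hmemP]
      exact hV.2 π ((mem_maximalIdeal _).mpr hπ.not_isUnit)
    refine ⟨P, ?_, ?_⟩
    · refine ⟨⟨hPp, (Ideal.span_singleton_le_iff_mem _).mpr hπP⟩, ?_⟩
      rintro Q ⟨hQ, hQle⟩ hQP
      have hQ0 : Q ≠ ⊥ := by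
        intro hbot
        have : πC ∈ Q := (Ideal.span_singleton_le_iff_mem _).mp hQle
        rw [hbot, Ideal.mem_bot] at this
        exact hπC0 this
      have hQmax : Q.IsMaximal := hQ.isMaximal hQ0
      rw [hQmax.eq_of_le hPp.ne_top hQP]
    · ext c
      constructor
      · rintro ⟨x, hx, rfl⟩
        exact ⟨x.2, (hmemP x).mp hx⟩
      · rintro ⟨hc, hv⟩
        exact ⟨⟨c, hc⟩, (hmemP ⟨c, hc⟩).mpr hv, rfl⟩
  · have key : ∀ V V' : ValuationSubring L, EtRam.Dominates A (algebraMap A L) V →
        EtRam.Dominates A (algebraMap A L) V' → F V = F V' → V ≤ V' := by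
      intro V V' hV hV' hF x hx
      obtain ⟨c, s, hc, hs, hvs, hxs⟩ := DvrExtH8.exists_integral_frac (K := K) V hV x hx
      have hsV' : s ∈ V' := integral_mem_of_dominates V' hV' s hs
      have hcV' : c ∈ V' := integral_mem_of_dominates V' hV' c hc
      have hvs' : V'.valuation s = 1 := by
        apply le_antisymm ((V'.valuation_le_one_iff _).mpr hsV')
        by_contra hlt
        push Not at hlt
        have : s ∈ F V' := ⟨hs, hlt⟩
        rw [← hF] at this
        exact absurd this.2 (by rw [hvs]; exact lt_irrefl _)
      have hs0 : s ≠ 0 := by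
        rintro rfl
        rw [map_zero] at hvs'
        exact zero_ne_one hvs'
      have hxeq : x = c * s⁻¹ := by
        rw [← hxs, mul_assoc, mul_inv_cancel₀ hs0, mul_one]
      rw [← ValuationSubring.valuation_le_one_iff, hxeq, map_mul, map_inv₀, hvs', inv_one, mul_one]
      exact (V'.valuation_le_one_iff _).mpr hcV'
    intro V hV V' hV' hF
    exact le_antisymm (key V V' hV hV' hF) (key V' V hV' hV hF.symm)

end fin

end TameExtH8
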