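import Mathlib

set_option autoImplicit false
universe u

namespace TameExtH8

open IsLocalRing

theorem principal_of_formallyUnramified {B T₀ k' : Type u} [CommRing B] [IsLocalRing B]
    [CommRing T₀] [Algebra B T₀] [Algebra.EssFiniteType B T₀] [Field k'] [Algebra B k']
    (ϖ : T₀) (ρ : T₀ →ₐ[B] k') (hρ : ρ ϖ = 0)
    [hFU : Algebra.FormallyUnramified B (T₀ ⧸ Ideal.span {ϖ})]
    (hloc : ∀ b : B, ¬ IsUnit b → algebraMap B T₀ b ∈ Ideal.span {ϖ}) :
    (∀ a : T₀, ρ a = 0 → ∃ s : T₀, ρ s ≠ 0 ∧ s * a ∈ Ideal.span {ϖ}) ∧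
    ((∀ x : k', ∃ a s : T₀, ρ s ≠ 0 ∧ x * ρ s = ρ a) →
      Algebra.FormallyUnramified B k' ∧ Algebra.EssFiniteType B k') := by
  classical
  have hker : ∀ a ∈ Ideal.span {ϖ}, ρ a = 0 := by
    intro a ha
    obtain ⟨c, rfl⟩ := Ideal.mem_span_singleton'.mp ha
    rw [map_mul, hρ, mul_zero]
  let ρ' : (T₀ ⧸ Ideal.span {ϖ}) →ₐ[B] k' := Ideal.Quotient.liftₐ (Ideal.span {ϖ}) ρ hker
  have hρ' : ∀ a : T₀, ρ' (Ideal.Quotient.mk _ a) = ρ a := fun a => rfl
  let 𝔑 : Ideal (T₀ ⧸ Ideal.span {ϖ}) := RingHom.ker ρ'.toRingHom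
  haveI : 𝔑.IsPrime := RingHom.ker_isPrime ρ'.toRingHom
  haveI : Algebra.EssFiniteType B (T₀ ⧸ Ideal.span {ϖ}) :=
    Algebra.EssFiniteType.of_surjective (Ideal.Quotient.mkₐ B (Ideal.span {ϖ}))
      Ideal.Quotient.mk_surjective
  haveI : Algebra.FormallyUnramified (T₀ ⧸ Ideal.span {ϖ}) (Localization.AtPrime 𝔑) :=
    Algebra.FormallyUnramified.of_isLocalization 𝔑.primeCompl
  haveI : Algebra.FormallyUnramified B (Localization.AtPrime 𝔑) :=
    Algebra.FormallyUnramified.comp B (T₀ ⧸ Ideal.span {ϖ}) (Localization.AtPrime 𝔑)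
  haveI : Algebra.EssFiniteType B (Localization.AtPrime 𝔑) :=
    Algebra.EssFiniteType.comp B (T₀ ⧸ Ideal.span {ϖ}) (Localization.AtPrime 𝔑)
  have hzero : ∀ b : B, ¬ IsUnit b → algebraMap B (Localization.AtPrime 𝔑) b = 0 := by
    intro b hb
    rw [IsScalarTower.algebraMap_apply B (T₀ ⧸ Ideal.span {ϖ}) (Localization.AtPrime 𝔑),
      IsScalarTower.algebraMap_apply B T₀ (T₀ ⧸ Ideal.span {ϖ})]
    have : algebraMap T₀ (T₀ ⧸ Ideal.span {ϖ}) (algebraMap B T₀ b) = 0 :=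
      Ideal.Quotient.eq_zero_iff_mem.mpr (hloc b hb)
    rw [this, map_zero]
  haveI : IsLocalHom (algebraMap B (Localization.AtPrime 𝔑)) := by
    constructor
    intro b hb
    by_contra hnu
    rw [hzero b hnu] at hb
    exact not_isUnit_zero hb
  have hmax : maximalIdeal (Localization.AtPrime 𝔑) = ⊥ := by
    rw [← Algebra.FormallyUnramified.map_maximalIdeal (R := B) (S := Localization.AtPrime 𝔑),
      Ideal.map_eq_bot_iff_le_ker]
    intro b hb
    exact hzero b ((mem_maximalIdeal b).mp hb)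
  refine ⟨?_, ?_⟩
  · intro a ha
    have hmem : Ideal.Quotient.mk (Ideal.span {ϖ}) a ∈ 𝔑 := by
      show ρ' _ = 0
      rw [hρ', ha]
    have h1 : algebraMap _ (Localization.AtPrime 𝔑) (Ideal.Quotient.mk (Ideal.span {ϖ}) a) ∈
        maximalIdeal (Localization.AtPrime 𝔑) :=
      (IsLocalization.AtPrime.to_map_mem_maximal_iff (Localization.AtPrime 𝔑) 𝔑 _).mpr hmem
    rw [hmax, Ideal.mem_bot, IsLocalization.map_eq_zero_iff 𝔑.primeCompl] at h1
    obtain ⟨c, hc⟩ := h1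
    obtain ⟨s, hs⟩ := Ideal.Quotient.mk_surjective (c : T₀ ⧸ Ideal.span {ϖ})
    refine ⟨s, ?_, ?_⟩
    · intro h0
      apply c.2
      show ρ' _ = 0
      rw [← hs, hρ', h0]
    · rw [← Ideal.Quotient.eq_zero_iff_mem, map_mul, hs]
      exact hc
  · intro hx
    have hunits : ∀ y : 𝔑.primeCompl, IsUnit (ρ' y) := by
      intro y
      have : ρ' (y : T₀ ⧸ Ideal.span {ϖ}) ≠ 0 := fun h0 => y.2 h0
      exact this.isUnit
    let lam : Localization.AtPrime 𝔑 →ₐ[B] k' :=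
      IsLocalization.liftAlgHom (M := 𝔑.primeCompl) (f := ρ') hunits
    have hlam : ∀ t, lam (algebraMap _ (Localization.AtPrime 𝔑) t) = ρ' t :=
      fun t => IsLocalization.lift_eq _ t
    have hsurj : Function.Surjective lam := by
      intro x
      obtain ⟨a, s, hs, hxs⟩ := hx x
      have hsmem : Ideal.Quotient.mk (Ideal.span {ϖ}) s ∈ 𝔑.primeCompl := by
        intro hmem
        apply hs
        have : ρ' (Ideal.Quotient.mk (Ideal.span {ϖ}) s) = 0 := hmem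
        rw [hρ'] at this
        exact this
      refine ⟨IsLocalization.mk' (Localization.AtPrime 𝔑) (Ideal.Quotient.mk (Ideal.span {ϖ}) a)
        ⟨_, hsmem⟩, ?_⟩
      apply mul_right_cancel₀ hs
      rw [hxs, ← hρ' s, ← hlam, ← map_mul, IsLocalization.mk'_spec, hlam, hρ']
    exact ⟨Algebra.FormallyUnramified.of_surjective lam hsurj,
      Algebra.EssFiniteType.of_surjective lam hsurj⟩

end TameExtH8
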