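import Mathlib
import Groth.Agent.Lib.TameExt1_helper8

set_option autoImplicit false
universe u

namespace TameExtH8

open IsLocalRing

set_option maxHeartbeats 800000 in
theorem formallyUnramified_quotient {A B V' T₀ : Type u} [CommRing A] [CommRing B] [Algebra A B]
    [CommRing V'] [IsLocalRing V'] [Algebra A V']
    [Algebra.FormallyUnramified A (ResidueField V')]
    [CommRing T₀] [Algebra B T₀] (fV : V' →+* T₀)
    (hcompat : ∀ a : A, fV (algebraMap A V' a) = algebraMap B T₀ (algebraMap A B a))
    (ϖ η : T₀) (e : ℕ) (he : IsUnit ((e : B))) (he0 : e ≠ 0) (u : V') (w : B) (hw : IsUnit w)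
    (hrel : fV u * η ^ e = algebraMap B T₀ w)
    (hmax : ∀ v ∈ maximalIdeal V', fV v ∈ Ideal.span {ϖ})
    (hgen : Algebra.adjoin B (Set.range fV ∪ {ϖ, η}) = ⊤) :
    Algebra.FormallyUnramified B (T₀ ⧸ Ideal.span {ϖ}) := by
  classical
  let S₀ := T₀ ⧸ Ideal.span {ϖ}
  let mk : T₀ →ₐ[B] S₀ := Ideal.Quotient.mkₐ B (Ideal.span {ϖ})
  have hmk : Function.Surjective mk := Ideal.Quotient.mk_surjective
  let χ : V' →+* S₀ := mk.toRingHom.comp fV
  have hχ : ∀ v ∈ maximalIdeal V', χ v = 0 := by
    intro v hv
    exact Ideal.Quotient.eq_zero_iff_mem.mpr (hmax v hv)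
  let χ' : ResidueField V' →+* S₀ := Ideal.Quotient.lift (maximalIdeal V') χ hχ
  have hχ' : ∀ v : V', χ' (residue V' v) = χ v := fun v => rfl
  letI : Algebra A S₀ := ((algebraMap B S₀).comp (algebraMap A B)).toAlgebra
  haveI : IsScalarTower A B S₀ := IsScalarTower.of_algebraMap_eq (fun _ => rfl)
  letI : Algebra (ResidueField V') S₀ := χ'.toAlgebra
  haveI : IsScalarTower A (ResidueField V') S₀ := by
    apply IsScalarTower.of_algebraMap_eq
    intro a
    show algebraMap B S₀ (algebraMap A B a) = χ' (algebraMap A (ResidueField V') a)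
    rw [IsScalarTower.algebraMap_apply A V' (ResidueField V')]
    show _ = χ' (residue V' (algebraMap A V' a))
    rw [hχ']
    show _ = mk (fV (algebraMap A V' a))
    rw [hcompat, AlgHom.commutes]
  haveI : SMulCommClass B (ResidueField V') S₀ := by
    constructor
    intro b k s
    simp only [Algebra.smul_def]
    ring
  have hDχ : ∀ v : V', KaehlerDifferential.D B S₀ (χ v) = 0 := by
    intro v
    have h1 := KaehlerDifferential.map_D A B (ResidueField V') S₀ (residue V' v)
    have h2 : KaehlerDifferential.D A (ResidueField V') (residue V' v) = 0 :=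
      Subsingleton.elim _ _
    rw [h2, map_zero] at h1
    rw [← hχ']
    exact h1.symm
  apply formallyUnramified_of_adjoin (mk '' (Set.range fV ∪ {ϖ, η}))
  · rw [← AlgHom.map_adjoin, hgen, Algebra.map_top, AlgHom.range_eq_top]
    exact hmk
  · rintro _ ⟨g, hg, rfl⟩
    rcases hg with ⟨v, rfl⟩ | hg
    · exact hDχ v
    · rcases hg with rfl | hg
      · have : mk g = 0 := Ideal.Quotient.eq_zero_iff_mem.mpr (Ideal.mem_span_singleton_self g)
        rw [this, map_zero]
      · rw [Set.mem_singleton_iff] at hg
        subst hg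
        -- the relation
        have hrel' : χ u * mk g ^ e = algebraMap B S₀ w := by
          have := congrArg mk hrel
          rw [map_mul, map_pow, AlgHom.commutes] at this
          exact this
        have hwu : IsUnit (algebraMap B S₀ w) := hw.map _
        obtain ⟨e', rfl⟩ := Nat.exists_eq_succ_of_ne_zero he0
        have hunit1 : IsUnit (χ u * mk g ^ e') := by
          apply isUnit_of_mul_isUnit_left (y := mk g)
          rw [mul_assoc, ← pow_succ, hrel']
          exact hwu
        have heS : IsUnit (((e'.succ : ℕ) : S₀)) := by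
          have := he.map (algebraMap B S₀)
          rwa [map_natCast] at this
        have hD := congrArg (KaehlerDifferential.D B S₀) hrel'
        rw [Derivation.leibniz, Derivation.leibniz_pow, hDχ u, smul_zero, add_zero,
          Derivation.map_algebraMap, Nat.succ_sub_one, ← Nat.cast_smul_eq_nsmul S₀,
          smul_smul, smul_smul] at hD
        have hc : IsUnit (χ u * (((e'.succ : ℕ) : S₀)) * mk g ^ e') := by
          have : χ u * (((e'.succ : ℕ) : S₀)) * mk g ^ e' =
              (χ u * mk g ^ e') * (((e'.succ : ℕ) : S₀)) := by ring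
          rw [this]
          exact hunit1.mul heS
        exact (hc.smul_eq_zero).mp hD

end TameExtH8
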