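import Mathlib
import Groth.Prelude.Def_EtRam
import Groth.Agent.Lib.DvrExt2_helper8
import Groth.Agent.Lib.TameExt1_helper8
import Groth.Agent.Lib.TameExt2_helper8
import Groth.Agent.Lib.TameExt3_helper8
import Groth.Agent.Lib.TameExt5_helper8

set_option autoImplicit false
universe u

namespace TameExtH8

open IsLocalRing TensorProduct

set_option maxHeartbeats 1600000 in
theorem tame_gen {A B : Type u} [CommRing A] [IsDomain A] [IsDiscreteValuationRing A]
    [CommRing B] [IsLocalRing B] [IsNoetherianRing B] [Algebra A B]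
    [IsLocalHom (algebraMap A B)]
    (V' : Type u) [CommRing V'] [IsDomain V'] [IsDiscreteValuationRing V'] [Algebra A V']
    [IsLocalHom (algebraMap A V')] (hAV : Function.Injective (algebraMap A V'))
    [Algebra.EssFiniteType A V']
    [Algebra.IsSeparable (ResidueField A) (ResidueField V')]
    (he : ∀ p : ℕ, p.Prime → CharP (ResidueField A) p →
        ¬ p ∣ Ideal.ramificationIdx' (maximalIdeal A) (maximalIdeal V'))
    {E : Type u} [Field E] (gE : B →+* E)
    (W : ValuationSubring E) (hd : EtRam.Dominates B gE W)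
    (Φ : B ⊗[A] V' →+* E) (hΦB : ∀ b, Φ (b ⊗ₜ 1) = gE b) (hΦW : ∀ t, Φ t ∈ W)
    (πA : A) (hπA : Irreducible πA)
    (πB : B) (hmB : maximalIdeal B = Ideal.span {πB}) (ϖ : E) (hϖ0 : ϖ ≠ 0)
    (e' : ℕ) (he' : e' ≠ 0) (hϖ : ϖ ^ e' = gE πB)
    (w : B) (hwu : IsUnit w) (k : ℕ) (hk : k ≠ 0)
    (hrel : gE (algebraMap A B πA) =
      gE w * ϖ ^ (Ideal.ramificationIdx' (maximalIdeal A) (maximalIdeal V') * k))
    (hfrac : ∀ x : E, ∃ a b : E, a ∈ Subring.closure (Set.range Φ ∪ {ϖ}) ∧
      b ∈ Subring.closure (Set.range Φ ∪ {ϖ}) ∧ b ≠ 0 ∧ x * b = a) :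
    letI : Algebra B W := (RingHom.codRestrict gE W hd.1).toAlgebra
    ∀ [IsLocalHom (algebraMap B W)],
      IsDiscreteValuationRing W ∧
      (∃ hϖW : ϖ ∈ W, maximalIdeal W = Ideal.span {(⟨ϖ, hϖW⟩ : W)}) ∧
      Algebra.IsSeparable (ResidueField B) (ResidueField W) := by
  classical
  letI : Algebra B W := (RingHom.codRestrict gE W hd.1).toAlgebra
  intro _
  obtain ⟨e, hedef⟩ : ∃ e : ℕ, e = Ideal.ramificationIdx' (maximalIdeal A) (maximalIdeal V') :=
    ⟨_, rfl⟩
  rw [← hedef] at he hrel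
  have he0 : e ≠ 0 := hedef ▸ DvrExtH8.ramificationIdx'_ne_zero hAV
  have heB : IsUnit ((e : B)) := isUnit_natCast_of_tame e he0 he
  -- uniformizers
  obtain ⟨πV, hπV⟩ := IsDiscreteValuationRing.exists_irreducible V'
  have hmapV : Ideal.span {algebraMap A V' πA} = Ideal.span {πV ^ e} := by
    have h1 := DvrExtH8.map_maximalIdeal_eq_pow hAV
    rw [← hedef, hπA.maximalIdeal_eq, hπV.maximalIdeal_eq, Ideal.map_span, Set.image_singleton,
      Ideal.span_singleton_pow] at h1
    exact h1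
  obtain ⟨c, hc⟩ := Ideal.span_singleton_eq_span_singleton.mp hmapV
  -- the map from `V'`
  let fV : V' →+* E := Φ.comp (Algebra.TensorProduct.includeRight : V' →ₐ[A] B ⊗[A] V').toRingHom
  have hfV : ∀ v, fV v = Φ (1 ⊗ₜ v) := fun v => rfl
  have hΦ : ∀ (b : B) (v : V'), Φ (b ⊗ₜ v) = gE b * fV v := by
    intro b v
    rw [hfV, ← hΦB, ← map_mul, Algebra.TensorProduct.tmul_mul_tmul, mul_one, one_mul]
  have hcompatE : ∀ a : A, fV (algebraMap A V' a) = gE (algebraMap A B a) := by
    intro a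
    rw [hfV, ← hΦB]
    congr 1
    rw [Algebra.algebraMap_eq_smul_one, Algebra.algebraMap_eq_smul_one, TensorProduct.smul_tmul]
  obtain ⟨η, hηdef⟩ : ∃ η : E, η = fV πV / ϖ ^ k := ⟨_, rfl⟩
  have hfVc : fV ((c⁻¹ : V'ˣ) : V') * fV (c : V') = 1 := by
    rw [← map_mul, Units.inv_mul, map_one]
  have hηe : η ^ e = gE (w : B) * fV (c : V') := by
    have h1 : fV πV ^ e = gE w * ϖ ^ (e * k) * fV (c : V') := by
      rw [← map_pow, ← hc, map_mul, hcompatE, hrel]
    rw [hηdef, div_pow, h1, ← pow_mul, mul_comm k e]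
    have : ϖ ^ (e * k) ≠ 0 := pow_ne_zero _ hϖ0
    field_simp
  have hrelE : fV ((c⁻¹ : V'ˣ) : V') * η ^ e = gE (w : B) := by
    rw [hηe, mul_comm (gE (w : B)), ← mul_assoc, hfVc, one_mul]
  have hπVE : fV πV = η * ϖ ^ k := by
    rw [hηdef, div_mul_cancel₀ _ (pow_ne_zero _ hϖ0)]
  -- valuations
  let gW : B →+* W := RingHom.codRestrict gE W hd.1
  let fVW : V' →+* W := RingHom.codRestrict fV W (fun v => hΦW _)
  have hπBm : πB ∈ maximalIdeal B := by
    rw [hmB]
    exact Ideal.mem_span_singleton_self _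
  have hvϖ : W.valuation ϖ < 1 := by
    have h1 : W.valuation ϖ ^ e' < 1 := by
      rw [← map_pow, hϖ]
      exact hd.2 πB hπBm
    exact (pow_lt_one_iff he').mp h1
  have hϖW : ϖ ∈ W := (W.valuation_le_one_iff _).mp hvϖ.le
  have hvη : W.valuation η = 1 := by
    have h1 : W.valuation η ^ e = 1 := by
      rw [← map_pow, hηe, map_mul]
      have h2 : W.valuation (gE (w : B)) = 1 :=
        (W.valuation_eq_one_iff (gW (w : B))).mp (hwu.map gW)
      have h3 : W.valuation (fV (c : V')) = 1 :=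
        (W.valuation_eq_one_iff (fVW (c : V'))).mp (c.isUnit.map fVW)
      rw [h2, h3, mul_one]
    exact (pow_eq_one_iff.mp h1).resolve_right he0
  have hηW : η ∈ W := (W.valuation_le_one_iff _).mp hvη.le
  -- algebra structures on `E`
  letI : Algebra (B ⊗[A] V') E := Φ.toAlgebra
  letI : Algebra B E := gE.toAlgebra
  haveI : IsScalarTower B (B ⊗[A] V') E := IsScalarTower.of_algebraMap_eq (fun b => (hΦB b).symm)
  let T₀ : Subalgebra (B ⊗[A] V') E := Algebra.adjoin (B ⊗[A] V') {ϖ, η}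
  have hϖT : ϖ ∈ T₀ := Algebra.subset_adjoin (by simp)
  have hηT : η ∈ T₀ := Algebra.subset_adjoin (by simp)
  let Wsub : Subalgebra (B ⊗[A] V') E :=
    { W.toSubring.toSubsemiring with algebraMap_mem' := fun r => hΦW r }
  have hT₀W : ∀ x ∈ T₀, x ∈ W := by
    have hle : T₀ ≤ Wsub := Algebra.adjoin_le (by
      rintro x (rfl | hx)
      · exact hϖW
      · rw [Set.mem_singleton_iff] at hx
        subst hx
        exact hηW)
    exact fun x hx => hle hx
  haveI : Algebra.FiniteType (B ⊗[A] V') T₀ := by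
    rw [← Subalgebra.fg_iff_finiteType]
    have : ({ϖ, η} : Set E) = ((({ϖ, η} : Finset E)) : Set E) := by simp
    show (Algebra.adjoin (B ⊗[A] V') ({ϖ, η} : Set E)).FG
    rw [this]
    exact Subalgebra.fg_adjoin_finset _
  haveI : Algebra.EssFiniteType B T₀ := Algebra.EssFiniteType.comp B (B ⊗[A] V') T₀
  -- elements of `T₀`
  let ϖT : T₀ := ⟨ϖ, hϖT⟩
  let ηT : T₀ := ⟨η, hηT⟩
  let fVT : V' →+* T₀ := (algebraMap (B ⊗[A] V') T₀).comp
    (Algebra.TensorProduct.includeRight : V' →ₐ[A] B ⊗[A] V').toRingHom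
  have hfVT : ∀ v, ((fVT v : T₀) : E) = fV v := fun v => rfl
  have hBT : ∀ b : B, ((algebraMap B T₀ b : T₀) : E) = gE b := fun b => rfl
  have hcompatT : ∀ a : A, fVT (algebraMap A V' a) = algebraMap B T₀ (algebraMap A B a) := by
    intro a
    apply Subtype.ext
    rw [hfVT, hBT, hcompatE]
  have hrelT : fVT ((c⁻¹ : V'ˣ) : V') * ηT ^ e = algebraMap B T₀ (w : B) := by
    apply Subtype.ext
    rw [hBT, ← hrelE]
    rfl
  have hπVT : fVT πV = ηT * ϖT ^ k := by
    apply Subtype.ext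
    rw [hfVT, hπVE]
    rfl
  have hmaxT : ∀ v ∈ maximalIdeal V', fVT v ∈ Ideal.span {ϖT} := by
    intro v hv
    rw [hπV.maximalIdeal_eq] at hv
    obtain ⟨d, rfl⟩ := Ideal.mem_span_singleton'.mp hv
    rw [map_mul, hπVT]
    obtain ⟨m', rfl⟩ := Nat.exists_eq_succ_of_ne_zero hk
    rw [pow_succ]
    apply Ideal.mem_span_singleton'.mpr
    exact ⟨fVT d * (ηT * ϖT ^ m'), by ring⟩
  have hgen : Algebra.adjoin B (Set.range fVT ∪ {ϖT, ηT}) = ⊤ := by
    rw [eq_top_iff]
    have key : ∀ (x : E) (hx : x ∈ Algebra.adjoin (B ⊗[A] V') ({ϖ, η} : Set E)),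
        (⟨x, hx⟩ : T₀) ∈ Algebra.adjoin B (Set.range fVT ∪ {ϖT, ηT}) := by
      intro x hx
      induction hx using Algebra.adjoin_induction with
      | mem x hx =>
        rcases hx with rfl | hx
        · exact Algebra.subset_adjoin (Or.inr (Or.inl rfl))
        · rw [Set.mem_singleton_iff] at hx
          subst hx
          exact Algebra.subset_adjoin (Or.inr (Or.inr rfl))
      | algebraMap r =>
        show algebraMap (B ⊗[A] V') T₀ r ∈ _
        induction r using TensorProduct.induction_on with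
        | zero => rw [map_zero]; exact Subalgebra.zero_mem _
        | tmul b v =>
          have : algebraMap (B ⊗[A] V') T₀ (b ⊗ₜ v) = algebraMap B T₀ b * fVT v := by
            apply Subtype.ext
            show Φ (b ⊗ₜ v) = gE b * fV v
            exact hΦ b v
          rw [this]
          exact Subalgebra.mul_mem _ (Subalgebra.algebraMap_mem _ b)
            (Algebra.subset_adjoin (Or.inl ⟨v, rfl⟩))
        | add x y hx hy => rw [map_add]; exact Subalgebra.add_mem _ hx hy
      | add x y hx hy hx' hy' => exact Subalgebra.add_mem _ hx' hy'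
      | mul x y hx hy hx' hy' => exact Subalgebra.mul_mem _ hx' hy'
    intro t _
    exact key t.1 t.2
  haveI : Algebra.FormallyUnramified (ResidueField A) (ResidueField V') :=
    Algebra.FormallyUnramified.of_isSeparable _ _
  haveI : Algebra.FormallyUnramified A (ResidueField A) :=
    Algebra.FormallyUnramified.of_surjective (Algebra.ofId A (ResidueField A)) residue_surjective
  haveI : Algebra.FormallyUnramified A (ResidueField V') :=
    Algebra.FormallyUnramified.comp A (ResidueField A) (ResidueField V')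
  haveI hFU : Algebra.FormallyUnramified B (T₀ ⧸ Ideal.span {ϖT}) :=
    formallyUnramified_quotient (A := A) (B := B) (V' := V') fVT hcompatT ϖT ηT e heB he0
      ((c⁻¹ : V'ˣ) : V') (w : B) hwu hrelT hmaxT hgen
  -- the map to `W` and its residue field
  let φr : T₀ →+* W := RingHom.codRestrict T₀.val.toRingHom W (fun t => hT₀W t.1 t.2)
  have hφr : ∀ t : T₀, ((φr t : W) : E) = (t : E) := fun t => rfl
  let ρ₀ : T₀ →ₐ[B] ResidueField W :=
    { (residue W).comp φr with
      commutes' := fun b => rfl }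
  have hρ₀ : ∀ t : T₀, ρ₀ t = residue W (φr t) := fun t => rfl
  have hρϖ : ρ₀ ϖT = 0 := by
    rw [hρ₀, residue_eq_zero_iff, ValuationSubring.valuation_lt_one_iff]
    exact hvϖ
  have hϖTe : algebraMap B T₀ πB = ϖT ^ e' := by
    apply Subtype.ext
    rw [hBT, ← hϖ]
    rfl
  have hloc : ∀ b : B, ¬ IsUnit b → algebraMap B T₀ b ∈ Ideal.span {ϖT} := by
    intro b hb
    have hb' : b ∈ maximalIdeal B := (mem_maximalIdeal _).mpr hb
    rw [hmB] at hb'
    obtain ⟨d, rfl⟩ := Ideal.mem_span_singleton'.mp hb'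
    rw [map_mul, hϖTe]
    obtain ⟨e'', rfl⟩ := Nat.exists_eq_succ_of_ne_zero he'
    rw [pow_succ]
    apply Ideal.mem_span_singleton'.mpr
    exact ⟨algebraMap B T₀ d * ϖT ^ e'', by ring⟩
  obtain ⟨hP1, hP2⟩ := principal_of_formallyUnramified (B := B) (T₀ := T₀)
    (k' := ResidueField W) ϖT ρ₀ hρϖ hloc
  -- the localization
  let 𝔑 : Ideal T₀ := RingHom.ker ρ₀.toRingHom
  haveI : 𝔑.IsPrime := RingHom.ker_isPrime ρ₀.toRingHom
  have hmem𝔑 : ∀ t : T₀, t ∈ 𝔑 ↔ ρ₀ t = 0 := fun t => Iff.rfl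
  have hunits : ∀ s : 𝔑.primeCompl, IsUnit (φr s) := by
    intro s
    by_contra hnu
    apply s.2
    show (s : T₀) ∈ 𝔑
    rw [hmem𝔑, hρ₀, residue_eq_zero_iff]
    exact (mem_maximalIdeal _).mpr hnu
  let T := Localization.AtPrime 𝔑
  let ψ : T →+* W := IsLocalization.lift (M := 𝔑.primeCompl) (g := φr) hunits
  have hψ : ∀ t : T₀, ψ (algebraMap T₀ T t) = φr t := fun t => IsLocalization.lift_eq _ t
  have hmT : maximalIdeal T = Ideal.span {algebraMap T₀ T ϖT} := by
    apply le_antisymm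
    · rw [← Localization.AtPrime.map_eq_maximalIdeal, Ideal.map_le_iff_le_comap]
      intro a ha
      obtain ⟨s, hs, hsa⟩ := hP1 a ((hmem𝔑 a).mp ha)
      obtain ⟨d, hd'⟩ := Ideal.mem_span_singleton'.mp hsa
      have hsu : IsUnit (algebraMap T₀ T s) :=
        IsLocalization.map_units T (⟨s, fun h => hs ((hmem𝔑 s).mp h)⟩ : 𝔑.primeCompl)
      show algebraMap T₀ T a ∈ Ideal.span {algebraMap T₀ T ϖT}
      rw [← Ideal.unit_mul_mem_iff_mem _ hsu, ← map_mul, ← hd', map_mul]
      exact Ideal.mul_mem_left _ _ (Ideal.mem_span_singleton_self _)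
    · rw [Ideal.span_le, Set.singleton_subset_iff]
      exact (IsLocalization.AtPrime.to_map_mem_maximal_iff T 𝔑 ϖT).mpr ((hmem𝔑 ϖT).mpr hρϖ)
  haveI : Algebra.EssFiniteType B T := Algebra.EssFiniteType.comp B T₀ T
  haveI : IsNoetherianRing T := Algebra.EssFiniteType.isNoetherianRing B T
  have hclos : Subring.closure (Set.range Φ ∪ {ϖ}) ≤ T₀.toSubring := by
    rw [Subring.closure_le]
    rintro x (⟨r, rfl⟩ | hx)
    · exact Subalgebra.algebraMap_mem T₀ r
    · rw [Set.mem_singleton_iff] at hx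
      subst hx
      exact hϖT
  have hfracT : ∀ x : E, ∃ a b : T, ((ψ b : W) : E) ≠ 0 ∧
      x * ((ψ b : W) : E) = ((ψ a : W) : E) := by
    intro x
    obtain ⟨a, b, ha, hb, hb0, hab⟩ := hfrac x
    refine ⟨algebraMap T₀ T ⟨a, hclos ha⟩, algebraMap T₀ T ⟨b, hclos hb⟩, ?_, ?_⟩
    · rw [hψ, hφr]
      exact hb0
    · rw [hψ, hψ, hφr, hφr]
      exact hab
  have hvψ : W.valuation ((ψ (algebraMap T₀ T ϖT) : W) : E) < 1 := by
    rw [hψ, hφr]
    exact hvϖ
  have hsurj : Function.Surjective ψ :=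
    core_surjective (algebraMap T₀ T ϖT) hmT W ψ hvψ hfracT
  -- `W` is a DVR with uniformizer `ϖ`
  haveI : IsNoetherianRing W := isNoetherianRing_of_surjective T W ψ hsurj
  let ϖW : W := φr ϖT
  have hϖWm : ϖW ∈ maximalIdeal W := by
    rw [ValuationSubring.valuation_lt_one_iff]
    exact hvϖ
  have hϖW0 : ϖW ≠ 0 := by
    intro h0
    apply hϖ0
    have := congrArg (fun z : W => (z : E)) h0
    exact this
  have hnf : ¬ IsField W := by
    rw [isField_iff_maximalIdeal_eq]
    intro hbot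
    rw [hbot, Ideal.mem_bot] at hϖWm
    exact hϖW0 hϖWm
  have hDVR : IsDiscreteValuationRing W :=
    ((IsDiscreteValuationRing.TFAE W hnf).out 0 1).mpr (inferInstance : ValuationRing W)
  have hmW : maximalIdeal W = Ideal.span {ϖW} := by
    apply le_antisymm
    · intro x hx
      obtain ⟨y, rfl⟩ := hsurj x
      have hy : y ∈ maximalIdeal T := by
        rw [mem_maximalIdeal]
        intro hyu
        exact ((mem_maximalIdeal _).mp hx) (hyu.map ψ)
      rw [hmT] at hy
      obtain ⟨d, rfl⟩ := Ideal.mem_span_singleton'.mp hy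
      rw [map_mul, hψ]
      exact Ideal.mul_mem_left _ _ (Ideal.mem_span_singleton_self _)
    · rw [Ideal.span_le, Set.singleton_subset_iff]
      exact hϖWm
  refine ⟨hDVR, ⟨hϖW, hmW⟩, ?_⟩
  -- the residue field
  have hfracκ : ∀ x : ResidueField W, ∃ a s : T₀, ρ₀ s ≠ 0 ∧ x * ρ₀ s = ρ₀ a := by
    intro x
    obtain ⟨y, rfl⟩ := residue_surjective x
    obtain ⟨z, rfl⟩ := hsurj y
    obtain ⟨a, s, rfl⟩ := IsLocalization.exists_mk'_eq 𝔑.primeCompl z
    refine ⟨a, s, fun h0 => s.2 ((hmem𝔑 _).mpr h0), ?_⟩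
    rw [hρ₀, hρ₀, ← map_mul, ← hψ, ← hψ, ← map_mul, IsLocalization.mk'_spec]
  obtain ⟨hFUκ, hEFTκ⟩ := hP2 hfracκ
  haveI := hFUκ
  haveI := hEFTκ
  haveI : Algebra.FormallyUnramified (ResidueField B) (ResidueField W) :=
    Algebra.FormallyUnramified.of_restrictScalars B (ResidueField B) (ResidueField W)
  haveI : Algebra.EssFiniteType (ResidueField B) (ResidueField W) :=
    Algebra.EssFiniteType.of_comp B (ResidueField B) (ResidueField W)
  exact Algebra.FormallyUnramified.isSeparable _ _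

end TameExtH8
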