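import Mathlib
import Groth.Prelude.Def_EtRam
import Groth.Agent.Lib.DvrExt1_helper8
import Groth.Agent.Lib.DvrExt3_helper8
import Groth.Agent.Lib.DvrExt4_helper8
import Groth.Agent.Lib.DvrExt5_helper8
import Groth.Agent.Lib.TameGen1_helper8

set_option autoImplicit false
universe u

namespace TameExtH8

open IsLocalRing TensorProduct DvrExtH8

set_option maxHeartbeats 1600000 in
theorem abhyankar_at {A K L : Type u} [CommRing A] [IsDomain A] [IsDiscreteValuationRing A]
    [Field K] [Algebra A K] [IsFractionRing A K] [Field L] [Algebra K L] [Algebra A L]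
    [IsScalarTower A K L] [FiniteDimensional K L] [Algebra.IsSeparable K L]
    (π : A) (hπ : maximalIdeal A = Ideal.span {π})
    (h : EtRam.IsTamelyRamified A (algebraMap A L))
    (B : Type u) [CommRing B] [IsLocalRing B] [IsNoetherianRing B] [Algebra A B]
    [IsLocalHom (algebraMap A B)] (z : B) (hmB : maximalIdeal B = Ideal.span {z})
    (e : ℕ) (he0 : e ≠ 0) (hz : algebraMap A B π = z ^ e)
    (hdiv : ∀ (V : ValuationSubring L) (hV : EtRam.Dominates A (algebraMap A L) V),
      letI : Algebra A V := (RingHom.codRestrict (algebraMap A L) V hV.1).toAlgebra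
      Ideal.ramificationIdx' (maximalIdeal A) (maximalIdeal V) ∣ e)
    (L' : Type u) [Field L'] [Algebra L L'] [Algebra B L']
    (hcompat : ∀ a : A, algebraMap B L' (algebraMap A B a) = algebraMap L L' (algebraMap A L a))
    (hgen : Algebra.adjoin L {algebraMap B L' z} = ⊤)
    (W : ValuationSubring L') (hdW : EtRam.Dominates B (algebraMap B L') W) :
    letI : Algebra B W := (RingHom.codRestrict (algebraMap B L') W hdW.1).toAlgebra
    ∀ [IsLocalHom (algebraMap B W)],
      EtRam.IsWeaklyUnramified B W ∧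
      Algebra.IsSeparable (ResidueField B) (ResidueField W) := by
  classical
  have hπirr : Irreducible π := (IsDiscreteValuationRing.irreducible_iff_uniformizer π).mpr hπ
  have hinjAL : Function.Injective (algebraMap A L) := by
    rw [IsScalarTower.algebraMap_eq A K L]
    exact (algebraMap K L).injective.comp (IsFractionRing.injective A K)
  have halg : algebraMap A L = (algebraMap K L).comp (algebraMap A K) :=
    IsScalarTower.algebraMap_eq A K L
  -- domination of `A`
  have hdA : EtRam.Dominates A ((algebraMap B L').comp (algebraMap A B)) W := by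
    refine ⟨fun a => hdW.1 _, fun a ha => hdW.2 _ ?_⟩
    rw [mem_maximalIdeal] at ha ⊢
    intro hu
    exact ha (isUnit_of_map_unit (algebraMap A B) a hu)
  obtain ⟨V', hV'⟩ : ∃ V' : ValuationSubring L, V' = W.comap (algebraMap L L') := ⟨_, rfl⟩
  have hdV' : EtRam.Dominates A (algebraMap A L) V' := by
    rw [hV']
    exact dominates_of_comap (algebraMap A L) (algebraMap L L') W
      ((algebraMap B L').comp (algebraMap A B)) (fun a => hcompat a) hdA
  have hdV'' : EtRam.Dominates A ((algebraMap K L).comp (algebraMap A K)) V' := halg ▸ hdV'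
  letI : Algebra A V' := (RingHom.codRestrict (algebraMap A L) V' hdV'.1).toAlgebra
  haveI : IsLocalHom (algebraMap A V') := isLocalHom_of_dominates (algebraMap A L) V' hdV'
  haveI : Algebra.EssFiniteType A V' := essFiniteType_of_dominates (K := K) V' hdV'
  haveI : IsDiscreteValuationRing V' := isDVR_of_dominates (A := A) (K := K) (L := L) V' hdV''
  obtain ⟨hsep, he⟩ := h V' hdV'
  haveI := hsep
  have hAV : Function.Injective (algebraMap A V') := by
    intro x y hxy
    apply hinjAL
    exact congrArg (fun z : V' => (z : L)) hxy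
  have hdvd := hdiv V' hdV'
  -- the map `Φ`
  letI : Algebra A L' := ((algebraMap B L').comp (algebraMap A B)).toAlgebra
  haveI : IsScalarTower A B L' := IsScalarTower.of_algebraMap_eq (fun _ => rfl)
  have hV'mem' : ∀ x ∈ V', algebraMap L L' x ∈ W := by
    intro x hx
    rw [hV'] at hx
    exact hx
  have hV'mem : ∀ v : V', algebraMap L L' (v : L) ∈ W := fun v => hV'mem' _ v.2
  let fV' : V' →ₐ[A] L' :=
    { (algebraMap L L').comp V'.subtype with
      commutes' := fun a => (hcompat a).symm }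
  let Φ : B ⊗[A] V' →ₐ[B] L' :=
    Algebra.TensorProduct.lift (Algebra.ofId B L') fV' (fun _ _ => Commute.all _ _)
  have hΦ : ∀ (b : B) (v : V'), Φ (b ⊗ₜ v) = algebraMap B L' b * algebraMap L L' (v : L) := by
    intro b v
    rw [Algebra.TensorProduct.lift_tmul]
    rfl
  have hΦB : ∀ b, Φ.toRingHom (b ⊗ₜ (1 : V')) = algebraMap B L' b := by
    intro b
    show Φ (b ⊗ₜ (1 : V')) = _
    rw [hΦ]
    simp
  have hΦW : ∀ t, Φ.toRingHom t ∈ W := by
    intro t
    show Φ t ∈ W
    induction t using TensorProduct.induction_on with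
    | zero => rw [map_zero]; exact W.zero_mem
    | add x y hx hy => rw [map_add]; exact W.add_mem _ _ hx hy
    | tmul b v => rw [hΦ]; exact W.mul_mem _ _ (hdW.1 b) (hV'mem v)
  -- the element `ϖ`
  obtain ⟨ϖ, hϖdef⟩ : ∃ ϖ : L', ϖ = algebraMap B L' z := ⟨_, rfl⟩
  have hϖe : ϖ ^ e = algebraMap L L' (algebraMap A L π) := by
    rw [hϖdef, ← map_pow, ← hz, hcompat]
  have hϖ0 : ϖ ≠ 0 := by
    intro h0
    rw [h0, zero_pow he0] at hϖe
    have : algebraMap A L π = 0 := by
      apply (algebraMap L L').injective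
      rw [← hϖe, map_zero]
    exact hπirr.ne_zero (hinjAL (by rw [this, map_zero]))
  obtain ⟨k, hk⟩ := hdvd
  have hk0 : k ≠ 0 := by
    rintro rfl
    rw [mul_zero] at hk
    exact he0 hk
  have hrel : algebraMap B L' (algebraMap A B π) = algebraMap B L' 1 *
      ϖ ^ (Ideal.ramificationIdx' (maximalIdeal A) (maximalIdeal V') * k) := by
    rw [← hk, map_one, one_mul, hz, map_pow, hϖdef]
  -- fractions
  have hfrac : ∀ x : L', ∃ a b : L', a ∈ Subring.closure (Set.range Φ.toRingHom ∪ {ϖ}) ∧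
      b ∈ Subring.closure (Set.range Φ.toRingHom ∪ {ϖ}) ∧ b ≠ 0 ∧ x * b = a := by
    intro x
    have hx : x ∈ Algebra.adjoin L {algebraMap B L' z} := by
      rw [hgen]
      exact Algebra.mem_top
    induction hx using Algebra.adjoin_induction with
    | mem x hx =>
      rw [Set.mem_singleton_iff] at hx
      subst hx
      exact ⟨ϖ, 1, Subring.subset_closure (Or.inr rfl), Subring.one_mem _, one_ne_zero,
        by rw [mul_one, hϖdef]⟩
    | algebraMap y =>
      rcases V'.mem_or_inv_mem y with hy | hy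
      · refine ⟨Φ.toRingHom (1 ⊗ₜ ⟨y, hy⟩), 1,
          Subring.subset_closure (Or.inl ⟨_, rfl⟩), Subring.one_mem _, one_ne_zero, ?_⟩
        show _ = Φ (1 ⊗ₜ ⟨y, hy⟩)
        rw [hΦ, map_one, one_mul, mul_one]
      · by_cases hy0 : y = 0
        · exact ⟨0, 1, Subring.zero_mem _, Subring.one_mem _, one_ne_zero,
            by rw [hy0, map_zero, zero_mul]⟩
        · refine ⟨1, Φ.toRingHom (1 ⊗ₜ ⟨y⁻¹, hy⟩), Subring.one_mem _,
            Subring.subset_closure (Or.inl ⟨_, rfl⟩), ?_, ?_⟩
          · show Φ (1 ⊗ₜ ⟨y⁻¹, hy⟩) ≠ 0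
            rw [hΦ, map_one, one_mul]
            simp only [ne_eq, map_eq_zero, inv_eq_zero]
            exact hy0
          · show _ * Φ (1 ⊗ₜ ⟨y⁻¹, hy⟩) = 1
            rw [hΦ, map_one, one_mul, ← map_mul]
            simp only
            rw [mul_inv_cancel₀ hy0, map_one]
    | add x y _ _ hx hy =>
      obtain ⟨a₁, b₁, ha₁, hb₁, hb₁0, e₁⟩ := hx
      obtain ⟨a₂, b₂, ha₂, hb₂, hb₂0, e₂⟩ := hy
      refine ⟨a₁ * b₂ + a₂ * b₁, b₁ * b₂,
        Subring.add_mem _ (Subring.mul_mem _ ha₁ hb₂) (Subring.mul_mem _ ha₂ hb₁),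
        Subring.mul_mem _ hb₁ hb₂, mul_ne_zero hb₁0 hb₂0, ?_⟩
      rw [← e₁, ← e₂]
      ring
    | mul x y _ _ hx hy =>
      obtain ⟨a₁, b₁, ha₁, hb₁, hb₁0, e₁⟩ := hx
      obtain ⟨a₂, b₂, ha₂, hb₂, hb₂0, e₂⟩ := hy
      refine ⟨a₁ * a₂, b₁ * b₂, Subring.mul_mem _ ha₁ ha₂, Subring.mul_mem _ hb₁ hb₂,
        mul_ne_zero hb₁0 hb₂0, ?_⟩
      rw [← e₁, ← e₂]
      ring
  letI : Algebra B W := (RingHom.codRestrict (algebraMap B L') W hdW.1).toAlgebra
  intro _
  obtain ⟨hDVR, ⟨hϖW, hmW⟩, hsepW⟩ := tame_gen (A := A) (B := B) V' hAV he (E := L')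
    (algebraMap B L') W hdW Φ.toRingHom hΦB hΦW π hπirr z hmB ϖ hϖ0 1 one_ne_zero
    (by rw [pow_one, hϖdef]) 1 isUnit_one k hk0 hrel hfrac
  refine ⟨?_, hsepW⟩
  unfold EtRam.IsWeaklyUnramified
  have h1 : (maximalIdeal B).map (algebraMap B W) = (Ideal.span {z}).map (algebraMap B W) :=
    congrArg (Ideal.map (algebraMap B W)) hmB
  rw [h1, Ideal.map_span, Set.image_singleton, hmW]
  congr 2
  apply Subtype.ext
  exact hϖdef.symm

end TameExtH8
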