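import Mathlib
import Groth.Prelude.Def_EtRam
import Groth.Agent.Lib.DvrExt1_helper8
import Groth.Agent.Lib.DvrExt2_helper8
import Groth.Agent.Lib.DvrExt3_helper8
import Groth.Agent.Lib.TameGen2_helper8
import Groth.Agent.Lib.TameGen3_helper8
import Groth.Agent.Lib.TameGen4_helper8

set_option autoImplicit false
universe u

namespace TameExtH8

open IsLocalRing Polynomial DvrExtH8

theorem isSeparable_adjoinRoot {L : Type u} [Field L] (h : L[X]) [Fact (Irreducible h)]
    (hsep : h.Separable) : Algebra.IsSeparable L (AdjoinRoot h) := by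
  rw [← separableClosure.eq_top_iff]
  have hroot : AdjoinRoot.root h ∈ separableClosure L (AdjoinRoot h) := by
    rw [mem_separableClosure_iff]
    apply Polynomial.Separable.of_dvd hsep
    apply minpoly.dvd
    rw [AdjoinRoot.aeval_eq, AdjoinRoot.mk_self]
  have hle : Algebra.adjoin L ({AdjoinRoot.root h} : Set (AdjoinRoot h)) ≤
      (separableClosure L (AdjoinRoot h)).toSubalgebra := by
    apply Algebra.adjoin_le
    rintro x hx
    rw [Set.mem_singleton_iff] at hx
    subst hx
    exact hroot
  rw [eq_top_iff]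
  intro x _
  have : x ∈ Algebra.adjoin L ({AdjoinRoot.root h} : Set (AdjoinRoot h)) := by
    rw [AdjoinRoot.adjoinRoot_eq_top]
    exact Algebra.mem_top
  exact hle this

theorem natCast_ne_zero_of_tame (κ : Type u) [Field κ] (e : ℕ) (he0 : e ≠ 0)
    (he : ∀ p : ℕ, p.Prime → CharP κ p → ¬ p ∣ e) : (e : κ) ≠ 0 := by
  intro h2
  obtain ⟨p, hp⟩ := CharP.exists κ
  have hdvd : p ∣ e := (CharP.cast_eq_zero_iff κ p e).mp h2
  rcases CharP.char_is_prime_or_zero κ p with hpp | hp0
  · exact he p hpp hp hdvd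
  · rw [hp0, zero_dvd_iff] at hdvd
    exact he0 hdvd

end TameExtH8

namespace TameExtH8

open IsLocalRing Polynomial DvrExtH8

set_option maxHeartbeats 1600000 in
theorem abhyankar_exists
    {A K L : Type u} [CommRing A] [IsDomain A]
    [IsDiscreteValuationRing A] [Field K] [Algebra A K] [IsFractionRing A K] [Field L] [Algebra K L]
    [Algebra A L] [IsScalarTower A K L] [FiniteDimensional K L] [Algebra.IsSeparable K L]
    (π : A) (hπ : maximalIdeal A = Ideal.span {π}) (h : EtRam.IsTamelyRamified A (algebraMap A L)) :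
    ∃ e₀ : ℕ, 0 < e₀ ∧ (e₀ : ResidueField A) ≠ 0 ∧
      ∀ d : ℕ, 0 < d → (d : ResidueField A) ≠ 0 →
        ∃ (L' : Type u) (_ : Field L') (_ : Algebra K L')
          (_ : Algebra (AdjoinRoot (X ^ (d * e₀) - C π : A[X])) L') (_ : L →ₐ[K] L'),
          FiniteDimensional K L' ∧ Algebra.IsSeparable K L' ∧
          (algebraMap (AdjoinRoot (X ^ (d * e₀) - C π : A[X])) L').comp (AdjoinRoot.of (X ^ (d * e₀) - C π)) =
            (algebraMap K L').comp (algebraMap A K) ∧
          ∀ [IsLocalRing (AdjoinRoot (X ^ (d * e₀) - C π : A[X]))],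
            EtRam.IsUnramifiedExt (AdjoinRoot (X ^ (d * e₀) - C π : A[X]))
              (algebraMap (AdjoinRoot (X ^ (d * e₀) - C π : A[X])) L') := by
  classical
  have hπirr : Irreducible π := (IsDiscreteValuationRing.irreducible_iff_uniformizer π).mpr hπ
  have hinjAL : Function.Injective (algebraMap A L) := by
    rw [IsScalarTower.algebraMap_eq A K L]
    exact (algebraMap K L).injective.comp (IsFractionRing.injective A K)
  have halg : algebraMap A L = (algebraMap K L).comp (algebraMap A K) :=
    IsScalarTower.algebraMap_eq A K L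
  have hfin : {V : ValuationSubring L | EtRam.Dominates A (algebraMap A L) V}.Finite :=
    finite_dominating (K := K)
  let eFun : ValuationSubring L → ℕ := fun V =>
    if hV : EtRam.Dominates A (algebraMap A L) V then
      (letI : Algebra A V := (RingHom.codRestrict (algebraMap A L) V hV.1).toAlgebra
       Ideal.ramificationIdx' (maximalIdeal A) (maximalIdeal V))
    else 1
  have heFun : ∀ (V : ValuationSubring L) (hV : EtRam.Dominates A (algebraMap A L) V),
      eFun V = (letI : Algebra A V := (RingHom.codRestrict (algebraMap A L) V hV.1).toAlgebra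
       Ideal.ramificationIdx' (maximalIdeal A) (maximalIdeal V)) := fun V hV => dif_pos hV
  -- properties at each `V`
  have hV1 : ∀ (V : ValuationSubring L), EtRam.Dominates A (algebraMap A L) V →
      eFun V ≠ 0 ∧ (eFun V : ResidueField A) ≠ 0 := by
    intro V hV
    rw [heFun V hV]
    have hV'' : EtRam.Dominates A ((algebraMap K L).comp (algebraMap A K)) V := halg ▸ hV
    letI : Algebra A V := (RingHom.codRestrict (algebraMap A L) V hV.1).toAlgebra
    haveI : IsLocalHom (algebraMap A V) := isLocalHom_of_dominates (algebraMap A L) V hV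
    haveI : IsDiscreteValuationRing V := isDVR_of_dominates (A := A) (K := K) (L := L) V hV''
    have hAV : Function.Injective (algebraMap A V) := by
      intro x y hxy
      apply hinjAL
      exact congrArg (fun z : V => (z : L)) hxy
    obtain ⟨_, he⟩ := h V hV
    have h0 := ramificationIdx'_ne_zero hAV
    exact ⟨h0, natCast_ne_zero_of_tame _ _ h0 he⟩
  refine ⟨∏ V ∈ hfin.toFinset, eFun V, ?_, ?_, ?_⟩
  · apply Finset.prod_pos
    intro V hV
    exact Nat.pos_of_ne_zero (hV1 V (hfin.mem_toFinset.mp hV)).1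
  · rw [Nat.cast_prod, Finset.prod_ne_zero_iff]
    intro V hV
    exact (hV1 V (hfin.mem_toFinset.mp hV)).2
  intro d hd hdκ
  obtain ⟨e₀, he₀def⟩ : ∃ e₀ : ℕ, e₀ = ∏ V ∈ hfin.toFinset, eFun V := ⟨_, rfl⟩
  rw [← he₀def]
  have he₀κ : (e₀ : ResidueField A) ≠ 0 := by
    rw [he₀def, Nat.cast_prod, Finset.prod_ne_zero_iff]
    intro V hV
    exact (hV1 V (hfin.mem_toFinset.mp hV)).2
  have hdvd₀ : ∀ (V : ValuationSubring L) (hV : EtRam.Dominates A (algebraMap A L) V),
      (letI : Algebra A V := (RingHom.codRestrict (algebraMap A L) V hV.1).toAlgebra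
       Ideal.ramificationIdx' (maximalIdeal A) (maximalIdeal V)) ∣ d * e₀ := by
    intro V hV
    rw [← heFun V hV, he₀def]
    exact Dvd.dvd.mul_left (Finset.dvd_prod_of_mem eFun (hfin.mem_toFinset.mpr hV)) d
  obtain ⟨e, hedef⟩ : ∃ e : ℕ, e = d * e₀ := ⟨_, rfl⟩
  rw [← hedef] at hdvd₀ ⊢
  have heκ : (e : ResidueField A) ≠ 0 := by
    rw [hedef, Nat.cast_mul]
    exact mul_ne_zero hdκ he₀κ
  have he0 : e ≠ 0 := by
    rintro rfl
    exact heκ Nat.cast_zero
  have heL : (e : L) ≠ 0 := by
    have hu : IsUnit ((e : A)) := by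
      rw [← residue_ne_zero_iff_isUnit, map_natCast]
      exact heκ
    have := (hu.map (algebraMap A L)).ne_zero
    rwa [map_natCast] at this
  have hπL0 : algebraMap A L π ≠ 0 := fun h0 => hπirr.ne_zero (hinjAL (by rw [h0, map_zero]))
  -- the field `L'`
  have hqsep : (X ^ e - C (algebraMap A L π) : L[X]).Separable :=
    separable_X_pow_sub_C _ heL hπL0
  have hdeg : (X ^ e - C (algebraMap A L π) : L[X]).natDegree = e := natDegree_X_pow_sub_C
  obtain ⟨g, hirr, hgdvd⟩ := Polynomial.exists_irreducible_of_natDegree_pos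
    (f := (X ^ e - C (algebraMap A L π) : L[X])) (by rw [hdeg]; exact Nat.pos_of_ne_zero he0)
  haveI : Fact (Irreducible g) := ⟨hirr⟩
  have hgsep : g.Separable := hqsep.of_dvd hgdvd
  let L' := AdjoinRoot g
  let ϖ : L' := AdjoinRoot.root g
  have hϖe : ϖ ^ e = algebraMap L L' (algebraMap A L π) := by
    have h0 : AdjoinRoot.mk g (X ^ e - C (algebraMap A L π)) = 0 := AdjoinRoot.mk_eq_zero.mpr hgdvd
    rw [map_sub, map_pow, AdjoinRoot.mk_X, AdjoinRoot.mk_C, sub_eq_zero] at h0
    exact h0
  let i : A →+* L' := (algebraMap K L').comp (algebraMap A K)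
  have hi : ∀ a, i a = algebraMap L L' (algebraMap A L a) := by
    intro a
    show algebraMap K L' (algebraMap A K a) = _
    rw [IsScalarTower.algebraMap_apply K L L', ← IsScalarTower.algebraMap_apply A K L]
  have hroot : eval₂ i ϖ (X ^ e - C π : A[X]) = 0 := by
    rw [eval₂_sub, eval₂_pow, eval₂_X, eval₂_C, hi, hϖe, sub_self]
  letI algA'L' : Algebra (AdjoinRoot (X ^ e - C π : A[X])) L' :=
    (AdjoinRoot.lift i ϖ hroot).toAlgebra
  have halgA' : ∀ x, algebraMap (AdjoinRoot (X ^ e - C π : A[X])) L' x =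
      AdjoinRoot.lift i ϖ hroot x := fun x => rfl
  haveI : FiniteDimensional L L' := (AdjoinRoot.powerBasis hirr.ne_zero).finite
  haveI : Algebra.IsSeparable L L' := isSeparable_adjoinRoot g hgsep
  refine ⟨L', inferInstance, inferInstance, algA'L', IsScalarTower.toAlgHom K L L',
    Module.Finite.trans L L', Algebra.IsSeparable.trans K L L', ?_, ?_⟩
  · exact AdjoinRoot.lift_comp_of hroot
  · intro _
    haveI : IsNoetherianRing (AdjoinRoot (X ^ e - C π : A[X])) :=
      Ideal.Quotient.isNoetherianRing _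
    haveI : IsLocalHom (algebraMap A (AdjoinRoot (X ^ e - C π : A[X]))) :=
      isLocalHom_of_adjoinRoot π hπ e he0
    intro W hdW
    exact abhyankar_at (K := K) π hπ h (AdjoinRoot (X ^ e - C π : A[X])) (AdjoinRoot.root _)
      (maximalIdeal_adjoinRoot π hπ e he0) e he0
      (by rw [AdjoinRoot.algebraMap_eq]; exact (root_pow_eq π e).symm) hdvd₀ L'
      (by
        intro a
        rw [halgA', AdjoinRoot.algebraMap_eq, AdjoinRoot.lift_of, hi])
      (by
        rw [halgA', AdjoinRoot.lift_root]
        exact AdjoinRoot.adjoinRoot_eq_top)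
      W hdW

end TameExtH8
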