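import Mathlib
import Groth.Prelude.Def_EtRam
import Groth.Agent.Lib.EisExt1_helper8
import Groth.Agent.Lib.EisExt2_helper8
import Groth.Agent.Lib.EisExt4_helper8
import Groth.Agent.Lib.TotRam2_helper8
import Groth.Agent.Lib.TameGen5_helper8
import Groth.Agent.Lib.InsepStep5_helper8
import Groth.Agent.Lib.InsepStep6_helper8

set_option autoImplicit false
universe u

namespace InsepStepH8

open IsLocalRing Polynomial EisExtH8 TensorProduct

theorem eisPoly_map {A B : Type u} [CommRing A] [CommRing B] (f : A →+* B) (π : A) (q n : ℕ) :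
    (eisPoly π q n).map f = eisPoly (f π) q n := by
  simp [eisPoly]

set_option maxHeartbeats 3200000 in
theorem third_case (p : ℕ) (hp : p.Prime) (A B C K L M : Type u)
    [CommRing A] [IsDomain A] [IsDiscreteValuationRing A] [CommRing B] [IsDomain B]
    [IsDiscreteValuationRing B]
    [CommRing C] [IsDomain C] [IsDiscreteValuationRing C]
    [Algebra A B] [Algebra B C] [Algebra A C] [IsScalarTower A B C]
    (hBC : Function.Injective (algebraMap B C))
    [IsLocalHom (algebraMap A B)] [IsLocalHom (algebraMap B C)]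
    [Field K] [Field L] [Field M] [Algebra A K] [IsFractionRing A K] [Algebra B L]
    [IsFractionRing B L]
    [Algebra C M] [IsFractionRing C M] [Algebra K L] [Algebra L M] [Algebra K M]
    [IsScalarTower K L M]
    [Algebra A L] [IsScalarTower A K L] [IsScalarTower A B L] [Algebra B M] [IsScalarTower B L M]
    [IsScalarTower B C M]
    [Algebra A M] [IsScalarTower A K M] [IsScalarTower A C M]
    (π : A) (hπ : maximalIdeal A = Ideal.span {π})
    (hw : EtRam.IsWeaklyUnramified A B) [IsPurelyInseparable L M]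
    (hdeg : Module.finrank L M = p)
    (πC : C) (u : B) (hu : IsUnit u)
    (hπCp : πC ^ p = algebraMap B C (u * algebraMap A B π))
    (m : ℕ) (b : ℕ → B) (c : B)
    (hbc : u = ∑ i ∈ Finset.range m, b i ^ p * (algebraMap A B π) ^ i +
      c * (algebraMap A B π) ^ m)
    (hc : ∀ y : ResidueField B, y ^ p ≠ residue B c) :
    ∃ (K₁ : Type u) (_ : Field K₁) (_ : Algebra K K₁),
        Module.finrank K K₁ = p ∧ Algebra.IsSeparable K K₁ ∧
          EtRam.IsTotallyRamified A ((algebraMap K K₁).comp (algebraMap A K)) ∧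
          IsField (L ⊗[K] K₁) ∧ IsField (M ⊗[K] K₁) ∧
          EtRam.IsWeakSolution B K L K₁ ∧ EtRam.IsWeakSolution C K M K₁ := by
  classical
  have hq : 2 ≤ p := hp.two_le
  obtain ⟨n, hndef⟩ : ∃ n, n = m + 2 := ⟨_, rfl⟩
  have hn : 2 ≤ n := by omega
  have hinjK : Function.Injective (algebraMap A K) := IsFractionRing.injective A K
  have hπB : maximalIdeal B = Ideal.span {algebraMap A B π} := by
    unfold EtRam.IsWeaklyUnramified at hw
    rw [← hw, hπ, Ideal.map_span, Set.image_singleton]
  have hmonic := eisPoly_monic π p n hq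
  have hdegP := eisPoly_natDegree π p n hq
  haveI hirr : Fact (Irreducible ((eisPoly π p n).map (algebraMap A K))) :=
    ⟨eisPoly_map_irreducible π hπ p n hq hn⟩
  obtain ⟨PK, hPK⟩ : ∃ PK : Polynomial K, PK = (eisPoly π p n).map (algebraMap A K) := ⟨_, rfl⟩
  rw [← hPK] at hirr
  have hPKmonic : PK.Monic := hPK ▸ hmonic.map _
  have hPKdeg : PK.natDegree = p := by rw [hPK, hmonic.natDegree_map, hdegP]
  have hPKsep : PK.Separable := hPK ▸ eisPoly_map_separable π hπ p n hq hn
  have hPK0 : PK ≠ 0 := hPKmonic.ne_zero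
  have hxeq : (AdjoinRoot.root PK) ^ p + (algebraMap A (AdjoinRoot PK) π ^ n * AdjoinRoot.root PK
      - algebraMap A (AdjoinRoot PK) π) = 0 := by
    have h1 : Polynomial.aeval (AdjoinRoot.root PK) (eisPoly π p n) = 0 := by
      rw [← Polynomial.aeval_map_algebraMap K, ← hPK, AdjoinRoot.aeval_eq, AdjoinRoot.mk_self]
    rw [aeval_eisPoly] at h1
    exact h1
  have hinjL : Function.Injective (algebraMap A (AdjoinRoot PK)) := by
    rw [IsScalarTower.algebraMap_eq A K (AdjoinRoot PK)]
    exact (algebraMap K (AdjoinRoot PK)).injective.comp hinjK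
  have hfrac : ∀ y : AdjoinRoot PK, ∃ a : A, a ≠ 0 ∧
      algebraMap A (AdjoinRoot PK) a * y ∈ Algebra.adjoin A {AdjoinRoot.root PK} := by
    intro y
    obtain ⟨Q, rfl⟩ := AdjoinRoot.mk_surjective y
    obtain ⟨b, hb⟩ := IsLocalization.integerNormalization_map_to_map (nonZeroDivisors A) Q
    refine ⟨b, nonZeroDivisors.ne_zero b.2, ?_⟩
    have h1 : algebraMap A (AdjoinRoot PK) b * AdjoinRoot.mk PK Q =
        Polynomial.aeval (AdjoinRoot.root PK)
          (IsLocalization.integerNormalization (nonZeroDivisors A) Q) := by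
      rw [← Polynomial.aeval_map_algebraMap K, hb, AdjoinRoot.aeval_eq, ← Algebra.smul_def,
        AdjoinRoot.smul_mk]
    rw [h1, Algebra.adjoin_singleton_eq_range_aeval]
    exact ⟨_, rfl⟩
  have ht0 : EtRam.IsTotallyRamified A (algebraMap A (AdjoinRoot PK)) :=
    isTotallyRamified_adjoin π hπ (AdjoinRoot.root PK) p n hq hn hxeq hinjL hfrac
  have ht : EtRam.IsTotallyRamified A ((algebraMap K (AdjoinRoot PK)).comp (algebraMap A K)) := by
    rw [← IsScalarTower.algebraMap_eq A K (AdjoinRoot PK)]
    exact ht0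
  haveI : FiniteDimensional K (AdjoinRoot PK) := (AdjoinRoot.powerBasis hPK0).finite
  haveI hsepK₁ : Algebra.IsSeparable K (AdjoinRoot PK) := TameExtH8.isSeparable_adjoinRoot PK hPKsep
  -- irreducibility over `M`
  have hmapM : PK.map (algebraMap K M) =
      ((eisPoly (algebraMap A B π) p n).map (algebraMap B L)).map (algebraMap L M) := by
    rw [hPK, ← eisPoly_map (algebraMap A B) π p n, Polynomial.map_map, Polynomial.map_map,
      Polynomial.map_map]
    congr 1
    ext a
    simp only [RingHom.comp_apply]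
    rw [← IsScalarTower.algebraMap_apply A B L, IsScalarTower.algebraMap_apply A K L,
      ← IsScalarTower.algebraMap_apply K L M]
  have hirrM : Irreducible (PK.map (algebraMap K M)) := by
    rw [hmapM]
    exact Polynomial.Separable.map_irreducible_of_isPurelyInseparable M
      (eisPoly_map_separable (algebraMap A B π) hπB p n hq hn)
      (eisPoly_map_irreducible (algebraMap A B π) hπB p n hq hn)
  have hABM : ∀ a : A, algebraMap A M a = algebraMap B M (algebraMap A B a) := by
    intro a
    rw [IsScalarTower.algebraMap_apply A C M, IsScalarTower.algebraMap_apply A B C,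
      ← IsScalarTower.algebraMap_apply B C M]
  refine ⟨AdjoinRoot PK, inferInstance, inferInstance, ?_, hsepK₁, ht, ?_, ?_, ?_, ?_⟩
  · rw [(AdjoinRoot.powerBasis hPK0).finrank, AdjoinRoot.powerBasis_dim, hPKdeg]
  · exact TotRamH8.isField_of_totRam A B K L hw (AdjoinRoot PK) ht
  · exact isField_tensor_adjoinRoot PK hPK0 hirrM
  · exact TotRamH8.weakSolution_of_totRam A B K L hw (AdjoinRoot PK) ht
  · refine weakSolution_C p hp B C K L M hBC (algebraMap A B π) hπB (algebraMap A K π) ?_ hdeg
      πC u hu hπCp m b c hbc hc (AdjoinRoot PK) (AdjoinRoot.root PK) ?_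
      AdjoinRoot.adjoinRoot_eq_top
    · rw [← IsScalarTower.algebraMap_apply A K M, hABM]
    · rw [← IsScalarTower.algebraMap_apply A K (AdjoinRoot PK), ← hndef]
      exact hxeq

end InsepStepH8
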