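import Mathlib
import Groth.Prelude.Def_EtRam
import Groth.Agent.Lib.EppX2_helper8
import Groth.Agent.Lib.Epp16_helper8
import Groth.Agent.S7156

/-!
# Applying the Artin–Schreier and purely inseparable steps in the Epp context (helper8)
-/

set_option autoImplicit false
universe u

namespace Groth.Agent.Lib.EppFinH8

open IsLocalRing

section ctx

variable {p : ℕ} {A B K L Ω : Type u}
  [CommRing A] [IsDomain A] [IsDiscreteValuationRing A]
  [CommRing B] [IsDomain B] [IsDiscreteValuationRing B]
  [Algebra A B] [IsLocalHom (algebraMap A B)]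
  [Field K] [Field L] [Algebra A K] [IsFractionRing A K] [Algebra B L] [IsFractionRing B L]
  [Algebra K L] [Algebra A L] [IsScalarTower A K L] [IsScalarTower A B L]
  [IsAlgClosed (ResidueField A)] [CharP (ResidueField A) p]
  [IsAdicComplete (maximalIdeal A) A] [IsAdicComplete (maximalIdeal B) B]
  [Field Ω] [Algebra K Ω] [Algebra L Ω] [IsScalarTower K L Ω]
  {V : ValuationSubring Ω}

set_option maxHeartbeats 1600000 in
/-- The Artin–Schreier step (characteristic `p`, Galois of degree `p`). -/
theorem EppCtx.step_AS [hp : Fact p.Prime] (H : EppCtx p A B K L Ω V)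
    (X : Type u) [Field X] [Algebra K X] [Algebra X Ω] [IsScalarTower K X Ω]
    [FiniteDimensional K X]
    (E : Type u) [Field E] [Algebra L E] [Algebra E Ω] [IsScalarTower L E Ω]
    [FiniteDimensional L E] [Algebra X E] [IsScalarTower X E Ω]
    (F : Type u) [Field F] [Algebra E F] [Algebra F Ω] [IsScalarTower E F Ω]
    [Algebra X F] [IsScalarTower X E F]
    (hwu : WU V (Set.range (algebraMap X Ω)) (Set.range (algebraMap E Ω)))
    [CharP X p] [IsGalois E F] (hdeg : Module.finrank E F = p) :
    ∃ (K₁ : Type u) (_ : Field K₁) (_ : Algebra X K₁), FiniteDimensional X K₁ ∧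
      EtRam.IsWeakSolution (OO V F) X F K₁ := by
  haveI : FiniteDimensional E F := Module.finite_of_finrank_pos (hdeg ▸ hp.out.pos)
  haveI : IsScalarTower X F Ω := by
    apply IsScalarTower.of_algebraMap_eq
    intro x
    rw [IsScalarTower.algebraMap_apply X E F, ← IsScalarTower.algebraMap_apply E F Ω,
      ← IsScalarTower.algebraMap_apply X E Ω]
  obtain ⟨π, hπ⟩ := IsDiscreteValuationRing.exists_irreducible A
  obtain ⟨hdvrX, -⟩ := H.tot X hπ
  obtain ⟨hdvrE, -⟩ := H.extL E
  haveI := hdvrX
  haveI := hdvrE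
  haveI hdvrF : IsDiscreteValuationRing (OO V F) := isDVR_OO_of_finite V E F
  -- algebra structures
  letI aAB : Algebra (OO V X) (OO V E) := (OOmap V X E).toAlgebra
  letI aBC : Algebra (OO V E) (OO V F) := (OOmap V E F).toAlgebra
  letI aAC : Algebra (OO V X) (OO V F) := (OOmap V X F).toAlgebra
  haveI : IsScalarTower (OO V X) (OO V E) (OO V F) := by
    apply IsScalarTower.of_algebraMap_eq
    intro x
    apply Subtype.ext
    exact IsScalarTower.algebraMap_apply X E F (x : X)
  haveI lAB : IsLocalHom (algebraMap (OO V X) (OO V E)) := isLocalHom_OOmap V X E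
  haveI lBC : IsLocalHom (algebraMap (OO V E) (OO V F)) := isLocalHom_OOmap V E F
  letI aAL : Algebra (OO V X) E := ((algebraMap X E).comp (algebraMap (OO V X) X)).toAlgebra
  haveI : IsScalarTower (OO V X) X E := IsScalarTower.of_algebraMap_eq (fun _ => rfl)
  haveI : IsScalarTower (OO V X) (OO V E) E := IsScalarTower.of_algebraMap_eq (fun _ => rfl)
  letI aBM : Algebra (OO V E) F := ((algebraMap E F).comp (algebraMap (OO V E) E)).toAlgebra
  haveI : IsScalarTower (OO V E) E F := IsScalarTower.of_algebraMap_eq (fun _ => rfl)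
  haveI : IsScalarTower (OO V E) (OO V F) F := IsScalarTower.of_algebraMap_eq (fun _ => rfl)
  letI aAM : Algebra (OO V X) F := ((algebraMap X F).comp (algebraMap (OO V X) X)).toAlgebra
  haveI : IsScalarTower (OO V X) X F := IsScalarTower.of_algebraMap_eq (fun _ => rfl)
  haveI : IsScalarTower (OO V X) (OO V F) F := IsScalarTower.of_algebraMap_eq (fun _ => rfl)
  have hw : EtRam.IsWeaklyUnramified (OO V X) (OO V E) := isWeaklyUnramified_of_WU V hwu
  have hk := H.hkXE X E
  obtain ⟨K₁, f1, a1, fd, -, -, hws⟩ := Groth.Agent.Lib.EppH8.epp_as_main (p := p)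
    (A := OO V X) (B := OO V E) (C := OO V F) (K := X) (L := E) (M := F) hw hdeg hk
  exact ⟨K₁, f1, a1, fd, hws⟩

end ctx

end Groth.Agent.Lib.EppFinH8
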