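import Mathlib
import Groth.Prelude.Def_EtRam
import Groth.Agent.Lib.EppM2_helper8
import Groth.Agent.Lib.EppX3_helper8
import Groth.Agent.Lib.EppB3_helper8
import Groth.Agent.Lib.ASExt2_helper8

/-!
# The Artin–Schreier step inside `Ω` (helper8)
-/

set_option autoImplicit false
universe u

namespace Groth.Agent.Lib.EppFinH8

open IsLocalRing IntermediateField

section ctx

variable {p : ℕ} {A B K L Ω : Type u}
  [CommRing A] [IsDomain A] [IsDiscreteValuationRing A]
  [CommRing B] [IsDomain B] [IsDiscreteValuationRing B]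
  [Algebra A B] [IsLocalHom (algebraMap A B)]
  [Field K] [Field L] [Algebra A K] [IsFractionRing A K] [Algebra B L] [IsFractionRing B L]
  [Algebra K L] [Algebra A L] [IsScalarTower A K L] [IsScalarTower A B L]
  [IsAlgClosed (ResidueField A)] [CharP (ResidueField A) p]
  [IsAdicComplete (maximalIdeal A) A] [IsAdicComplete (maximalIdeal B) B]
  [Field Ω] [Algebra K Ω] [Algebra L Ω] [IsScalarTower K L Ω]
  {V : ValuationSubring Ω}

/-- A problem all of whose members already lie in `L` is solved by `K₁ = K`. -/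
theorem EppCtx.solvable_of_subset (H : EppCtx p A B K L Ω V) (Z : Set Ω)
    (hZ : Z ⊆ Set.range (algebraMap L Ω)) : Solvable K L V Z := by
  refine ⟨⊥, inferInstance, ?_⟩
  obtain ⟨ϖ, ⟨ϖ', rfl⟩, h0, h1, hgen⟩ := H.wuKL
  refine ⟨_, (⊥ : IntermediateField K Ω).algebraMap_mem ϖ', h0, h1, ?_⟩
  intro x hx hx0
  apply hgen x _ hx0
  have h2 : LKZ L (⊥ : IntermediateField K Ω) Z = ⊥ := by
    unfold LKZ
    rw [adjoin_eq_bot_iff]
    rintro y (hy | hy)
    · obtain ⟨c, rfl⟩ := IntermediateField.mem_bot.mp hy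
      rw [IsScalarTower.algebraMap_apply K L Ω]
      exact (⊥ : IntermediateField L Ω).algebraMap_mem _
    · obtain ⟨c, rfl⟩ := hZ hy
      exact (⊥ : IntermediateField L Ω).algebraMap_mem _
  rw [SetLike.mem_coe, h2] at hx
  exact IntermediateField.mem_bot.mp hx

/-- From a solution for the field `F ∋ z` to a solution of the problem `{z}`. -/
theorem solvable_of_WU_adjoin (F : IntermediateField L Ω) (Z : Set Ω) (hZ : Z ⊆ F)
    (K₁ : IntermediateField K Ω) [FiniteDimensional K K₁]
    (h : WU V (K₁ : Set Ω) (adjoin F (K₁ : Set Ω) : Set Ω)) : Solvable K L V Z := by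
  refine ⟨K₁, inferInstance, h.mono (fun _ hx => hx) ?_⟩
  have : adjoin L ((K₁ : Set Ω) ∪ Z) ≤ (adjoin (↥F) (K₁ : Set Ω)).restrictScalars L := by
    apply adjoin_le_iff.mpr
    rintro x (hx | hx)
    · show x ∈ adjoin (↥F) (K₁ : Set Ω)
      exact subset_adjoin (↥F) (K₁ : Set Ω) hx
    · show x ∈ adjoin (↥F) (K₁ : Set Ω)
      exact (adjoin (↥F) (K₁ : Set Ω)).algebraMap_mem ⟨x, hZ hx⟩
  exact this

set_option maxHeartbeats 1600000 in
theorem EppCtx.solvable_AS [IsAlgClosed Ω] [hp : Fact p.Prime] (H : EppCtx p A B K L Ω V)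
    [CharP Ω p] (z : Ω) (hz : z ^ p - z ∈ (algebraMap L Ω).fieldRange) : Solvable K L V {z} := by
  by_cases hzL : z ∈ Set.range (algebraMap L Ω)
  · exact H.solvable_of_subset _ (by rw [Set.singleton_subset_iff]; exact hzL)
  obtain ⟨ξ, hξ⟩ := hz
  haveI : CharP L p := RingHom.charP (algebraMap L Ω) (algebraMap L Ω).injective p
  haveI : CharP K p := RingHom.charP (algebraMap K Ω) (algebraMap K Ω).injective p
  let F : IntermediateField L Ω := L⟮z⟯
  have hzF : z ∈ F := mem_adjoin_simple_self L z
  let g : F := AdjoinSimple.gen L z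
  haveI : CharP F p := charP_of_injective_algebraMap (algebraMap L F).injective p
  have hgeq : g ^ p - g = algebraMap L F ξ := by
    apply Subtype.ext
    show z ^ p - z = algebraMap L Ω ξ
    exact hξ.symm
  have hgen : IntermediateField.adjoin L {g} = ⊤ := by
    apply IntermediateField.map_injective (IntermediateField.val F)
    rw [IntermediateField.adjoin_map, ← AlgHom.fieldRange_eq_map, IntermediateField.fieldRange_val]
    simp [g, F]
  haveI : IsScalarTower K F Ω := IsScalarTower.of_algebraMap_eq (fun _ => rfl)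
  haveI : IsGalois L F := ASExtH8.isGalois_of_as ξ g hgeq hgen
  haveI : FiniteDimensional L F := ASExtH8.finiteDimensional_of_as ξ g hgeq hgen
  have hdeg : Module.finrank L F = p := by
    rcases ASExtH8.finrank_of_as ξ g hgeq hgen with h1 | h1
    · exfalso
      apply hzL
      rw [IntermediateField.finrank_eq_one_iff] at h1
      rw [h1] at hzF
      exact IntermediateField.mem_bot.mp hzF
    · exact h1
  obtain ⟨K₁, _, _, hfin, hws⟩ := H.step_AS K L F H.wuKL hdeg
  haveI := hfin
  obtain ⟨π, hπ⟩ := IsDiscreteValuationRing.exists_irreducible A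
  haveI : IsDiscreteValuationRing (OO V K) := (H.tot K hπ).1
  haveI : IsDiscreteValuationRing (OO V F) := (H.extL F).1
  obtain ⟨K₁', hfin', hwu⟩ := WU_of_isWeakSolution V K F K₁ hws
  haveI := hfin'
  exact solvable_of_WU_adjoin F {z} (by rw [Set.singleton_subset_iff]; exact hzF) K₁' hwu

end ctx

end Groth.Agent.Lib.EppFinH8
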