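import Mathlib
import Groth.Prelude.Def_EtRam
import Groth.Agent.Lib.EppD6_helper8
import Groth.Agent.Lib.EppM3_helper8

/-!
# The Kummer step for a unit: preparations (helper8)
-/

set_option autoImplicit false
universe u

namespace Groth.Agent.Lib.EppFinH8

open IsLocalRing IntermediateField

section ctx

variable {p : ℕ} {A B K L Ω : Type u}
  [CommRing A] [IsDomain A] [IsDiscreteValuationRing A]
  [CommRing B] [IsDomain B] [IsDiscreteValuationRing B]
  [Algebra A B] [IsLocalHom (algebraMap A B)]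
  [Field K] [Field L] [Algebra A K] [IsFractionRing A K] [Algebra B L] [IsFractionRing B L]
  [Algebra K L] [Algebra A L] [IsScalarTower A K L] [IsScalarTower A B L]
  [IsAlgClosed (ResidueField A)] [CharP (ResidueField A) p]
  [IsAdicComplete (maximalIdeal A) A] [IsAdicComplete (maximalIdeal B) B]
  [Field Ω] [Algebra K Ω] [Algebra L Ω] [IsScalarTower K L Ω]
  {V : ValuationSubring Ω}

theorem EppCtx.val_aΩ_le (H : EppCtx p A B K L Ω V) (a : A) : V.valuation (aΩ K Ω a) ≤ 1 :=
  (V.valuation_le_one_iff _).mpr (H.domA.1 a)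

theorem EppCtx.mem_maximalIdeal_A_iff (H : EppCtx p A B K L Ω V) (a : A) :
    a ∈ maximalIdeal A ↔ V.valuation (aΩ K Ω a) < 1 := by
  constructor
  · exact fun ha => H.domA.2 a ha
  · intro ha
    rw [mem_maximalIdeal, mem_nonunits_iff]
    intro hu
    obtain ⟨u, rfl⟩ := hu
    have h1 : aΩ K Ω (u : A) * aΩ K Ω ((u⁻¹ : Aˣ) : A) = 1 := by
      unfold aΩ
      rw [← map_mul, ← map_mul, Units.mul_inv, map_one, map_one]
    have h2 := congrArg V.valuation h1
    rw [map_mul, map_one] at h2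
    have h3 := H.val_aΩ_le ((u⁻¹ : Aˣ) : A)
    have : V.valuation (aΩ K Ω (u : A)) * V.valuation (aΩ K Ω ((u⁻¹ : Aˣ) : A)) < 1 := by
      calc _ ≤ V.valuation (aΩ K Ω (u : A)) * 1 := by gcongr
        _ < 1 := by rw [mul_one]; exact ha
    rw [h2] at this
    exact lt_irrefl _ this

theorem EppCtx.val_aΩ_unit (H : EppCtx p A B K L Ω V) {a : A} (ha : IsUnit a) :
    V.valuation (aΩ K Ω a) = 1 := by
  apply le_antisymm (H.val_aΩ_le a)
  by_contra hlt
  push Not at hlt
  have := (H.mem_maximalIdeal_A_iff a).mpr hlt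
  rw [mem_maximalIdeal, mem_nonunits_iff] at this
  exact this ha

theorem EppCtx.exists_A_of_val_le_one (H : EppCtx p A B K L Ω V) (y : K)
    (hy : V.valuation (algebraMap K Ω y) ≤ 1) : ∃ a : A, algebraMap A K a = y := by
  rcases ValuationRing.isInteger_or_isInteger A y with ⟨b, hb⟩ | ⟨b, hb⟩
  · exact ⟨b, hb⟩
  · by_cases hy0 : y = 0
    · exact ⟨0, by rw [hy0, map_zero]⟩
    by_cases hbm : b ∈ maximalIdeal A
    · exfalso
      have h1 := (H.mem_maximalIdeal_A_iff b).mp hbm
      unfold aΩ at h1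
      rw [hb, map_inv₀, map_inv₀] at h1
      have h0 : V.valuation (algebraMap K Ω y) ≠ 0 :=
        (Valuation.ne_zero_iff _).mpr ((map_ne_zero _).mpr hy0)
      have h2 : 1 < V.valuation (algebraMap K Ω y) := by
        rwa [inv_lt_one₀ (zero_lt_iff.mpr h0)] at h1
      exact absurd hy (not_le.mpr h2)
    · rw [mem_maximalIdeal, mem_nonunits_iff, not_not] at hbm
      obtain ⟨u, rfl⟩ := hbm
      refine ⟨((u⁻¹ : Aˣ) : A), ?_⟩
      have h1 : algebraMap A K (u : A) * algebraMap A K ((u⁻¹ : Aˣ) : A) = 1 := by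
        rw [← map_mul, Units.mul_inv, map_one]
      rw [hb] at h1
      have := eq_inv_of_mul_eq_one_right h1
      rw [this, inv_inv]

theorem EppCtx.natCast_mem_maximalIdeal_B (H : EppCtx p A B K L Ω V) :
    (p : B) ∈ maximalIdeal B := by
  rw [H.mem_maximalIdeal_B_iff]
  unfold bΩ
  rw [map_natCast, map_natCast]
  exact H.val_p_lt_one

/-- the dichotomy for units of `B` coming from the perfect-core hypothesis -/
theorem EppCtx.hcp [hp : Fact p.Prime] (H : EppCtx p A B K L Ω V) (b : B) :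
    (∃ a : A, b - algebraMap A B a ∈ maximalIdeal B) ∨
      (∃ (μ : B) (h : ℕ), b - μ ^ p ^ h ∈ maximalIdeal B ∧ Prim p μ) := by
  classical
  by_cases hx : residue B b ∈ Set.range (algebraMap (ResidueField A) (ResidueField B))
  · left
    obtain ⟨abar, ha⟩ := hx
    obtain ⟨a, rfl⟩ := residue_surjective abar
    refine ⟨a, ?_⟩
    rw [← residue_eq_zero_iff, map_sub, ← ha, ResidueField.algebraMap_residue, sub_self]
  · right
    have hn : ∃ n : ℕ, ¬ ∃ y : ResidueField B, y ^ p ^ n = residue B b := by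
      by_contra hcon
      push Not at hcon
      exact hx ((H.hk _).mp hcon)
    have hfind := Nat.find_spec hn
    have hmin := fun m => Nat.find_min hn (m := m)
    obtain ⟨n₀, hn₀⟩ : ∃ n₀, n₀ = Nat.find hn := ⟨_, rfl⟩
    rw [← hn₀] at hfind hmin
    have hn₀pos : n₀ ≠ 0 := by
      rintro rfl
      apply hfind
      exact ⟨residue B b, by simp⟩
    obtain ⟨h, rfl⟩ : ∃ h, n₀ = h + 1 := ⟨n₀ - 1, by omega⟩
    have := hmin h (Nat.lt_succ_self h)
    rw [not_not] at this
    obtain ⟨ybar, hy⟩ := this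
    obtain ⟨μ, rfl⟩ := residue_surjective ybar
    refine ⟨μ, h, ?_, ?_⟩
    · rw [← residue_eq_zero_iff, map_sub, map_pow, hy, sub_self]
    · intro c hc
      apply hfind
      refine ⟨residue B c, ?_⟩
      rw [← residue_eq_zero_iff, map_sub, map_pow, sub_eq_zero] at hc
      rw [pow_succ', pow_mul, ← hc, hy]

theorem EppCtx.prim_sub_one [hp : Fact p.Prime] (H : EppCtx p A B K L Ω V) {u : B}
    (hu : Prim p u) : Prim p (u - 1) := by
  intro c hc
  apply hu (c + 1)
  have h1 : (c + 1) ^ p - c ^ p - 1 ∈ maximalIdeal B := by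
    have := add_pow_prime_eq hp.out c 1
    rw [this]
    have hpm := H.natCast_mem_maximalIdeal_B
    have : c ^ p + 1 ^ p + (p : B) * c * 1 * ∑ k ∈ Finset.Ioo 0 p,
        c ^ (k - 1) * 1 ^ (p - k - 1) * ((p.choose k / p : ℕ) : B) - c ^ p - 1 =
        (p : B) * (c * ∑ k ∈ Finset.Ioo 0 p,
        c ^ (k - 1) * 1 ^ (p - k - 1) * ((p.choose k / p : ℕ) : B)) := by ring
    rw [this]
    exact Ideal.mul_mem_right _ _ hpm
  have : u - (c + 1) ^ p = (u - 1 - c ^ p) - ((c + 1) ^ p - c ^ p - 1) := by ring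
  rw [this]
  exact Ideal.sub_mem _ hc h1

set_option maxHeartbeats 1600000 in
/-- The Kummer step for a unit whose residue is not a `p`-th power. -/
theorem EppCtx.solvable_kummer_prim [hp : Fact p.Prime] (H : EppCtx p A B K L Ω V)
    (u : B) (hu : Prim p u) (z : Ω) (hz : z ^ p = bΩ L Ω u) : Solvable K L V {z} := by
  refine ⟨⊥, inferInstance, ?_⟩
  have hμ := H.prim_sub_one hu
  apply H.kummer_final_insep ⊥ 1 (one_mem _) (by rw [map_one]) (by
      rw [map_one, one_pow]; exact H.val_p_lt_one) (u - 1) hμ (bΩ L Ω (u - 1))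
    ((LK L (⊥ : IntermediateField K Ω)).algebraMap_mem _) (by rw [sub_self, map_zero]; exact zero_lt_one)
    1 (one_mem _) one_ne_zero z
  rw [hz]
  unfold bΩ
  rw [map_sub, map_sub, map_one, map_one]
  ring

end ctx

end Groth.Agent.Lib.EppFinH8
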