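import Mathlib
import Groth.Prelude.Def_EtRam
import Groth.Agent.Lib.EppD7_helper8

/-!
# The Kummer step for a unit: conclusion from the phase-1 normal form (helper8)
-/

set_option autoImplicit false
universe u

namespace Groth.Agent.Lib.EppFinH8

open IsLocalRing IntermediateField

theorem isIntegral_of_pow_eq {K Ω : Type u} [Field K] [Field Ω] [Algebra K Ω] {x : Ω} {n : ℕ}
    (hn : n ≠ 0) {c : K} (h : x ^ n = algebraMap K Ω c) : IsIntegral K x := by
  refine ⟨Polynomial.X ^ n - Polynomial.C c, Polynomial.monic_X_pow_sub_C c hn, ?_⟩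
  rw [Polynomial.eval₂_sub, Polynomial.eval₂_pow, Polynomial.eval₂_X, Polynomial.eval₂_C, h,
    sub_self]

section ctx

variable {p : ℕ} {A B K L Ω : Type u}
  [CommRing A] [IsDomain A] [IsDiscreteValuationRing A]
  [CommRing B] [IsDomain B] [IsDiscreteValuationRing B]
  [Algebra A B] [IsLocalHom (algebraMap A B)]
  [Field K] [Field L] [Algebra A K] [IsFractionRing A K] [Algebra B L] [IsFractionRing B L]
  [Algebra K L] [Algebra A L] [IsScalarTower A K L] [IsScalarTower A B L]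
  [IsAlgClosed (ResidueField A)] [CharP (ResidueField A) p]
  [IsAdicComplete (maximalIdeal A) A] [IsAdicComplete (maximalIdeal B) B]
  [Field Ω] [Algebra K Ω] [Algebra L Ω] [IsScalarTower K L Ω]
  {V : ValuationSubring Ω}

theorem EppCtx.bΩ_algebraMap (H : EppCtx p A B K L Ω V) (a : A) :
    bΩ L Ω (algebraMap A B a) = aΩ K Ω a := (aΩ_eq H a).symm

theorem EppCtx.bΩ_injective (_H : EppCtx p A B K L Ω V) : Function.Injective (bΩ L Ω (B := B)) :=
  (algebraMap L Ω).injective.comp (IsFractionRing.injective B L)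

theorem EppCtx.aΩ_injective (_H : EppCtx p A B K L Ω V) :
    Function.Injective (aΩ K Ω (A := A)) :=
  (algebraMap K Ω).injective.comp (IsFractionRing.injective A K)

set_option maxHeartbeats 3200000 in
theorem EppCtx.solvable_kummer_of_phase1 [IsAlgClosed Ω] [hp : Fact p.Prime]
    (H : EppCtx p A B K L Ω V) (hp0 : (p : Ω) ≠ 0) (π : A) (hπ : Irreducible π)
    (al : A) (l : ℕ) (w : Aˣ) (hal : al = w * π ^ l) (halp : al ^ (p - 1) = -(p : A))
    (c₀ : B) (hc₀ : c₀ ≠ 0) (α : A) (hα0 : α ≠ 0) (T : List (ℕ × B × ℕ)) (r : B)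
    (hr : r - 1 ∈ Ideal.span {(algebraMap A B π) ^ (p * l)})
    (hT : ∀ t ∈ T, 1 ≤ t.1 ∧ t.1 < p * l ∧ Prim p t.2.1 ∧ (¬ p ∣ t.1 ∨ t.2.2 = 0))
    (hsorted : (T.map Prod.fst).Pairwise (· < ·)) (z : Ω)
    (hz : z ^ p = bΩ L Ω (c₀ ^ p * algebraMap A B α *
      (T.map (fac p (algebraMap A B π))).prod * r)) :
    Solvable K L V {z} := by
  classical
  have hp1 : p - 1 ≠ 0 := by have := hp.out.two_le; omega
  obtain ⟨hπ0, hπ1, -⟩ := H.genL hπ
  -- λ in Ω
  obtain ⟨lam, hlamdef⟩ : ∃ lam : Ω, lam = aΩ K Ω al := ⟨_, rfl⟩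
  have hlamp : lam ^ (p - 1) = -(p : Ω) := by
    rw [hlamdef]
    have := congrArg (aΩ K Ω) halp
    unfold aΩ at this ⊢
    rwa [map_pow, map_pow, map_neg, map_neg, map_natCast, map_natCast] at this
  have hlamv : V.valuation lam = V.valuation (aΩ K Ω π) ^ l := by
    rw [hlamdef, hal]
    unfold aΩ
    rw [map_mul, map_mul, map_pow, map_pow, map_mul, map_pow]
    have := H.val_aΩ_unit w.isUnit
    unfold aΩ at this
    rw [this, one_mul]
  -- the exponent `N`
  obtain ⟨N, hN⟩ : ∃ N : ℕ, N = (T.map (fun t => t.2.2)).sum + 1 := ⟨_, rfl⟩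
  have hNT : ∀ t ∈ T, t.2.2 < N := by
    intro t ht
    have : t.2.2 ≤ (T.map (fun t => t.2.2)).sum :=
      List.le_sum_of_mem (List.mem_map_of_mem ht)
    omega
  have hpN : p ^ N ≠ 0 := (pow_pos hp.out.pos N).ne'
  -- roots
  obtain ⟨Lam, hLam⟩ := IsAlgClosed.exists_pow_nat_eq lam (pow_pos hp.out.pos N)
  obtain ⟨Pi, hPi⟩ := IsAlgClosed.exists_pow_nat_eq (aΩ K Ω π) (pow_pos hp.out.pos N)
  obtain ⟨a₁, ha₁⟩ := IsAlgClosed.exists_pow_nat_eq (aΩ K Ω α) hp.out.pos
  obtain ⟨K₁, hK₁⟩ : ∃ K₁ : IntermediateField K Ω, K₁ = adjoin K {Lam, Pi, a₁} := ⟨_, rfl⟩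
  have hLamK : Lam ∈ K₁ := by rw [hK₁]; exact subset_adjoin K _ (by simp)
  have hPiK : Pi ∈ K₁ := by rw [hK₁]; exact subset_adjoin K _ (by simp)
  have ha₁K : a₁ ∈ K₁ := by rw [hK₁]; exact subset_adjoin K _ (by simp)
  haveI : FiniteDimensional K K₁ := by
    rw [hK₁]
    apply finiteDimensional_adjoin
    intro x hx
    rcases hx with rfl | rfl | rfl
    · exact isIntegral_of_pow_eq hpN (by rw [hLam, hlamdef]; rfl)
    · exact isIntegral_of_pow_eq hpN (by rw [hPi]; rfl)
    · exact isIntegral_of_pow_eq hp.out.ne_zero (by rw [ha₁]; rfl)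
  have hlamK : lam ∈ K₁ := by rw [hlamdef]; exact K₁.algebraMap_mem _
  -- basic valuation facts
  have hPi0 : Pi ≠ 0 := by
    rintro rfl
    rw [zero_pow hpN] at hPi
    exact hπ0 hPi.symm
  have hPi1 : V.valuation Pi < 1 := by
    by_contra hcon
    push Not at hcon
    have : (1 : V.ValueGroup) ≤ V.valuation Pi ^ p ^ N := one_le_pow₀ hcon
    rw [← map_pow, hPi] at this
    exact absurd hπ1 (not_lt.mpr this)
  have hLamv : V.valuation Lam = V.valuation Pi ^ l := by
    have h1 : V.valuation Lam ^ p ^ N = (V.valuation Pi ^ l) ^ p ^ N := by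
      rw [← map_pow, hLam, hlamv, ← hPi, map_pow, ← pow_mul, ← pow_mul, mul_comm]
    exact (pow_left_inj₀ zero_le zero_le hpN).mp h1
  have hLamN : (Lam ^ p ^ N) ^ (p - 1) = -(p : Ω) := by rw [hLam]; exact hlamp
  have hc₀Ω : bΩ L Ω c₀ ≠ 0 := fun h => hc₀ (H.bΩ_injective (by rw [h]; unfold bΩ; simp))
  have hLF : ∀ b : B, bΩ L Ω b ∈ LK L K₁ := fun b => (LK L K₁).algebraMap_mem _
  have hK₁F : (K₁ : Set Ω) ⊆ LK L K₁ := subset_adjoin L _
  -- the residual `r`
  have hr1 : V.valuation (bΩ L Ω r - 1) ≤ V.valuation lam ^ p := by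
    rw [Ideal.mem_span_singleton] at hr
    obtain ⟨s, hs⟩ := hr
    have : bΩ L Ω r - 1 = bΩ L Ω (r - 1) := by unfold bΩ; simp
    rw [this, hs]
    unfold bΩ
    rw [map_mul, map_mul, map_pow, map_pow, map_mul, map_pow]
    have h2 : algebraMap L Ω (algebraMap B L (algebraMap A B π)) = aΩ K Ω π := H.bΩ_algebraMap π
    rw [h2, hlamv, ← pow_mul, mul_comm l p]
    calc _ ≤ V.valuation (aΩ K Ω π) ^ (p * l) * 1 := by
          gcongr
          exact H.val_bΩ_le s
      _ = _ := mul_one _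
  have hα : bΩ L Ω (algebraMap A B α) = a₁ ^ p := by rw [H.bΩ_algebraMap, ha₁]
  have hzexp : z ^ p = (bΩ L Ω c₀ * a₁) ^ p *
      (bΩ L Ω ((T.map (fac p (algebraMap A B π))).prod) * bΩ L Ω r) := by
    rw [hz, mul_pow, ← hα]
    unfold bΩ
    simp only [map_mul, map_pow]
    ring
  have ha₁F : a₁ ∈ LK L K₁ := hK₁F ha₁K
  by_cases hTnil : T = []
  · -- unramified case
    subst hTnil
    rw [List.map_nil, List.prod_nil] at hzexp
    have h1 : bΩ L Ω (1 : B) = 1 := by unfold bΩ; simp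
    rw [h1, one_mul] at hzexp
    refine ⟨K₁, inferInstance, ?_⟩
    exact H.kummer_final_unram K₁ lam hlamK hlamp hp0 (bΩ L Ω r) (hLF r) hr1
      (bΩ L Ω c₀ * a₁) (mul_mem (hLF c₀) ha₁F)
      (mul_ne_zero hc₀Ω (by
        intro h0
        rw [h0, zero_pow hp.out.ne_zero] at ha₁
        exact hα0 (H.aΩ_injective (by rw [← ha₁]; unfold aΩ; simp)))) z hzexp
  · have hTc : ∀ t ∈ T, 1 ≤ t.1 ∧ t.1 ≤ p * l ∧ t.2.2 < N :=
      fun t ht => ⟨(hT t ht).1, (hT t ht).2.1.le, hNT t ht⟩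
    have hpair : T.Pairwise (fun s t => gap p l N s ≠ gap p l N t) := by
      rw [List.pairwise_map] at hsorted
      refine hsorted.imp_of_mem ?_
      intro s t hs ht hst
      exact gap_ne p l N hp.out (ne_of_lt hst) (hT s hs).2.1 (hT t ht).2.1 (hNT s hs).le
        (hNT t ht).le (hT s hs).2.2.2 (hT t ht).2.2.2
    obtain ⟨t₀, ht₀, c₂, x, xr, b, E, hc₂, hc₂0, hx, hxr, hxrp, hx0, hx1, hb, hE, heq, hbμ, hEv,
      hval⟩ := H.extract_prod K₁ π Lam Pi hLamK hPiK N l hp0 hLamN hPi hPi1 hPi0 hLamv T hTnil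
        hTc hpair
    have hlam1 : V.valuation lam ≤ 1 := by
      rw [hlamv]; exact pow_le_one' hπ1.le l
    have hvp2 : V.valuation (p : Ω) ^ 2 ≤ V.valuation lam ^ p := by
      have : V.valuation (p : Ω) = V.valuation lam ^ (p - 1) := by
        rw [← map_pow, hlamp, Valuation.map_neg]
      rw [this, ← pow_mul]
      apply pow_le_pow_of_le_one zero_le hlam1
      have := hp.out.two_le
      omega
    obtain ⟨W, hW⟩ : ∃ W : Ω, W = (1 + E) * bΩ L Ω r := ⟨_, rfl⟩
    have hE1 : V.valuation E ≤ 1 := hEv.trans (pow_le_one' H.val_p_lt_one.le 2)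
    have hW1 : V.valuation (W - 1) ≤ V.valuation lam ^ p := by
      have : W - 1 = E + (bΩ L Ω r - 1) + E * (bΩ L Ω r - 1) := by rw [hW]; ring
      rw [this]
      refine (Valuation.map_add _ _ _).trans (max_le
        ((Valuation.map_add _ _ _).trans (max_le (hEv.trans hvp2) hr1)) ?_)
      rw [map_mul]
      calc _ ≤ 1 * V.valuation (bΩ L Ω r - 1) := by gcongr
        _ ≤ _ := by rw [one_mul]; exact hr1
    have hlamLam : V.valuation lam ^ p = V.valuation Lam ^ p ^ (N + 1) := by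
      rw [← hLam, map_pow, ← pow_mul, pow_succ]
    have hgap : gap p l N t₀ ≠ 0 := by
      unfold gap
      have := (hT t₀ ht₀).2.1
      exact Nat.mul_ne_zero (pow_pos hp.out.pos _).ne' (by omega)
    have hxpos : 0 < V.valuation x := val_pos_of_ne hx0
    have hlamx : V.valuation lam ^ p < V.valuation x := by
      calc V.valuation lam ^ p = V.valuation x * V.valuation Pi ^ gap p l N t₀ := by
            rw [hlamLam, hval]
        _ < V.valuation x * 1 := by
            gcongr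
            exact pow_lt_one' hPi1 hgap
        _ = _ := mul_one _
    have hWx : V.valuation (W - 1) < V.valuation x := lt_of_le_of_lt hW1 hlamx
    have hμ₀1 : V.valuation (bΩ L Ω t₀.2.1) ≤ 1 := H.val_bΩ_le _
    have hb1 : V.valuation b ≤ 1 := by
      have : b = (b - bΩ L Ω t₀.2.1) + bΩ L Ω t₀.2.1 := by ring
      rw [this]
      exact (Valuation.map_add _ _ _).trans (max_le hbμ.le hμ₀1)
    obtain ⟨b2, hb2⟩ : ∃ b2 : Ω, b2 = b + (1 + x * b) * ((W - 1) / x) := ⟨_, rfl⟩
    have hb2μ : V.valuation (b2 - bΩ L Ω t₀.2.1) < 1 := by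
      have : b2 - bΩ L Ω t₀.2.1 = (b - bΩ L Ω t₀.2.1) + (1 + x * b) * ((W - 1) / x) := by
        rw [hb2]; ring
      rw [this]
      refine lt_of_le_of_lt (Valuation.map_add _ _ _) (max_lt hbμ ?_)
      rw [map_mul, map_div₀]
      have h1 : V.valuation (1 + x * b) ≤ 1 := by
        refine (Valuation.map_add _ _ _).trans (max_le (by rw [map_one]) ?_)
        rw [map_mul]
        exact mul_le_one' hx1.le hb1
      have h2 : V.valuation (W - 1) / V.valuation x < 1 := (div_lt_one₀ hxpos).mpr hWx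
      calc _ ≤ 1 * (V.valuation (W - 1) / V.valuation x) := by gcongr
        _ < 1 := by rw [one_mul]; exact h2
    have hident : (1 + x * b) * W = 1 + x * b2 := by
      rw [hb2]; field_simp; ring
    have hxF : x ∈ LK L K₁ := hK₁F hx
    have hWF : W ∈ LK L K₁ := by
      rw [hW]; exact mul_mem (add_mem (one_mem _) hE) (hLF r)
    have hb2F : b2 ∈ LK L K₁ := by
      rw [hb2]
      exact add_mem hb (mul_mem (add_mem (one_mem _) (mul_mem hxF hb))
        (div_mem (sub_mem hWF (one_mem _)) hxF))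
    have hxr1 : V.valuation xr ≤ 1 := by
      by_contra hcon
      push Not at hcon
      have : (1 : V.ValueGroup) ≤ V.valuation xr ^ p := one_le_pow₀ hcon.le
      rw [← map_pow, hxrp] at this
      exact absurd hx1 (not_lt.mpr this)
    have hvalxr : V.valuation (p : Ω) < V.valuation xr ^ (p - 1) := by
      have h1 : V.valuation lam < V.valuation xr := by
        rw [← hxrp, map_pow] at hlamx
        exact (pow_lt_pow_iff_left₀ zero_le zero_le hp.out.ne_zero).mp hlamx
      have : V.valuation (p : Ω) = V.valuation lam ^ (p - 1) := by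
        rw [← map_pow, hlamp, Valuation.map_neg]
      rw [this]
      exact pow_lt_pow_left₀ h1 zero_le hp1
    refine ⟨K₁, inferInstance, ?_⟩
    apply H.kummer_final_insep K₁ xr hxr hxr1 hvalxr t₀.2.1 (hT t₀ ht₀).2.2.1 b2 hb2F hb2μ
      (bΩ L Ω c₀ * a₁ * c₂) (mul_mem (mul_mem (hLF c₀) ha₁F) hc₂)
      (mul_ne_zero (mul_ne_zero hc₀Ω (by
        intro h0
        rw [h0, zero_pow hp.out.ne_zero] at ha₁
        exact hα0 (H.aΩ_injective (by rw [← ha₁]; unfold aΩ; simp)))) hc₂0) z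
    rw [hzexp, heq, hxrp, ← hident, hW]
    ring

end ctx

end Groth.Agent.Lib.EppFinH8
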