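import Mathlib
import Groth.Prelude.Def_EtRam
import Groth.Agent.Lib.EppD8_helper8

/-!
# The Kummer step for a unit (helper8)
-/

set_option autoImplicit false
universe u

namespace Groth.Agent.Lib.EppFinH8

open IsLocalRing IntermediateField

section ctx

variable {p : ℕ} {A B K L Ω : Type u}
  [CommRing A] [IsDomain A] [IsDiscreteValuationRing A]
  [CommRing B] [IsDomain B] [IsDiscreteValuationRing B]
  [Algebra A B] [IsLocalHom (algebraMap A B)]
  [Field K] [Field L] [Algebra A K] [IsFractionRing A K] [Algebra B L] [IsFractionRing B L]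
  [Algebra K L] [Algebra A L] [IsScalarTower A K L] [IsScalarTower A B L]
  [IsAlgClosed (ResidueField A)] [CharP (ResidueField A) p]
  [IsAdicComplete (maximalIdeal A) A] [IsAdicComplete (maximalIdeal B) B]
  [Field Ω] [Algebra K Ω] [Algebra L Ω] [IsScalarTower K L Ω]
  {V : ValuationSubring Ω}

set_option maxHeartbeats 3200000 in
theorem EppCtx.solvable_kummer_unit [IsAlgClosed Ω] [hp : Fact p.Prime]
    (H : EppCtx p A B K L Ω V) (hp0 : (p : Ω) ≠ 0) (lam : K)
    (hlam : (algebraMap K Ω lam) ^ (p - 1) = -(p : Ω))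
    (u : B) (hu : IsUnit u) (z : Ω) (hz : z ^ p = bΩ L Ω u) : Solvable K L V {z} := by
  classical
  by_cases hprim : Prim p u
  · exact H.solvable_kummer_prim u hprim z hz
  unfold Prim at hprim
  push Not at hprim
  obtain ⟨c, hc⟩ := hprim
  have hp1 : p - 1 ≠ 0 := by have := hp.out.two_le; omega
  have hcu : IsUnit c := by
    by_contra hcon
    have hcm : c ∈ maximalIdeal B := (mem_maximalIdeal c).mpr hcon
    have : u ∈ maximalIdeal B := by
      have h1 : u = (u - c ^ p) + c ^ p := by ring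
      rw [h1]
      exact Ideal.add_mem _ hc (Ideal.pow_mem_of_mem _ hcm p hp.out.pos)
    exact (mem_maximalIdeal u).mp this hu
  obtain ⟨cu, rfl⟩ := hcu
  obtain ⟨u₁, hu₁def⟩ : ∃ u₁ : B, u₁ = u * ((cu⁻¹ : Bˣ) : B) ^ p := ⟨_, rfl⟩
  have hinv : (cu : B) ^ p * ((cu⁻¹ : Bˣ) : B) ^ p = 1 := by
    rw [← mul_pow, Units.mul_inv, one_pow]
  have hu₁ : u₁ - 1 ∈ maximalIdeal B := by
    have : u₁ - 1 = (u - (cu : B) ^ p) * ((cu⁻¹ : Bˣ) : B) ^ p := by
      rw [hu₁def, sub_mul, hinv]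
    rw [this]
    exact Ideal.mul_mem_right _ _ hc
  have huu₁ : u = u₁ * (cu : B) ^ p := by
    rw [hu₁def, mul_assoc, mul_comm (((cu⁻¹ : Bˣ) : B) ^ p), hinv, mul_one]
  obtain ⟨π, hπ⟩ := IsDiscreteValuationRing.exists_irreducible A
  have hϖ : maximalIdeal B = Ideal.span {algebraMap A B π} := by
    have := H.hw
    unfold EtRam.IsWeaklyUnramified at this
    rw [hπ.maximalIdeal_eq, Ideal.map_span, Set.image_singleton] at this
    exact this.symm
  -- λ
  have hvp := H.val_p_lt_one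
  have hlam1 : V.valuation (algebraMap K Ω lam) < 1 := by
    by_contra hcon
    push Not at hcon
    have h1 : (1 : V.ValueGroup) ≤ V.valuation (algebraMap K Ω lam) ^ (p - 1) := one_le_pow₀ hcon
    rw [← map_pow, hlam, Valuation.map_neg] at h1
    exact absurd hvp (not_lt.mpr h1)
  obtain ⟨al, hal⟩ := H.exists_A_of_val_le_one lam hlam1.le
  have halΩ : aΩ K Ω al = algebraMap K Ω lam := by unfold aΩ; rw [hal]
  have hal0 : al ≠ 0 := by
    rintro rfl
    unfold aΩ at halΩ
    rw [map_zero, map_zero] at halΩ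
    rw [← halΩ, zero_pow hp1] at hlam
    exact hp0 (neg_eq_zero.mp hlam.symm)
  obtain ⟨l, w, halw⟩ := IsDiscreteValuationRing.eq_unit_mul_pow_irreducible hal0 hπ
  have halp : al ^ (p - 1) = -(p : A) := by
    apply H.aΩ_injective
    have h1 : aΩ K Ω (al ^ (p - 1)) = (aΩ K Ω al) ^ (p - 1) := by unfold aΩ; simp
    have h2 : aΩ K Ω (-(p : A)) = -(p : Ω) := by unfold aΩ; simp
    rw [h1, h2, halΩ, hlam]
  have hpB : (p : B) = -(algebraMap A B al) ^ (p - 1) := by
    rw [← map_pow, halp, map_neg, map_natCast, neg_neg]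
  have hpl : ∀ j', j' < l → (algebraMap A B π) ^ (p * j' + 1) ∣
      (p : B) * (algebraMap A B π) ^ j' := by
    intro j' hj'
    rw [hpB, halw, map_mul, map_pow, mul_pow, ← pow_mul]
    have hle : p * j' + 1 ≤ l * (p - 1) + j' := by
      obtain ⟨k, rfl⟩ : ∃ k, l = j' + 1 + k := ⟨l - j' - 1, by omega⟩
      obtain ⟨p', rfl⟩ : ∃ p', p = p' + 2 := ⟨p - 2, by have := hp.out.two_le; omega⟩
      have : p' + 2 - 1 = p' + 1 := by omega
      rw [this]
      nlinarith [Nat.zero_le (k * p'), Nat.zero_le (j' * p'), Nat.zero_le k]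
    have : -(algebraMap A B (w : A) ^ (p - 1) * algebraMap A B π ^ (l * (p - 1))) *
        algebraMap A B π ^ j' = -(algebraMap A B (w : A) ^ (p - 1)) *
        algebraMap A B π ^ (l * (p - 1) + j') := by
      rw [pow_add]; ring
    rw [this]
    exact Dvd.dvd.mul_left (pow_dvd_pow _ hle) _
  have hcp : ∀ b : B, IsUnit b → (∃ a : A, b - algebraMap A B a ∈ maximalIdeal B) ∨
      (∃ (μ : B) (h : ℕ), b - μ ^ p ^ h ∈ maximalIdeal B ∧ Prim p μ) := fun b _ => H.hcp b
  have hu₁' : u₁ - 1 ∈ Ideal.span {(algebraMap A B π) ^ 1} := by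
    rw [pow_one, ← hϖ]; exact hu₁
  obtain ⟨c', α, T, r, hc', hα, hu₁eq, hr, hT, hsorted⟩ :=
    phase1 (p := p) π hϖ l hpl hcp (p * l) 1 le_rfl (by omega) u₁ hu₁'
  have hα0 : α ≠ 0 := by
    rintro rfl
    rw [map_zero] at hα
    exact not_isUnit_zero hα
  apply H.solvable_kummer_of_phase1 hp0 π hπ al l w halw halp ((cu : B) * c')
    (mul_ne_zero cu.ne_zero hc'.ne_zero) α hα0 T r hr hT hsorted z
  rw [hz, huu₁, hu₁eq]
  congr 1
  ring

end ctx

end Groth.Agent.Lib.EppFinH8
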