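import Mathlib
import Groth.Prelude.Def_EtRam
import Groth.Agent.Lib.EppD9_helper8
import Groth.Agent.Lib.EppX5_helper8

/-!
# The Kummer step in mixed characteristic (helper8)
-/

set_option autoImplicit false
universe u

namespace Groth.Agent.Lib.EppFinH8

open IsLocalRing IntermediateField

theorem Solvable.of_rebase' {K L Ω : Type u} [Field K] [Field L] [Field Ω] [Algebra K Ω]
    [Algebra L Ω] {V : ValuationSubring Ω} (K₁ : IntermediateField K Ω)
    [FiniteDimensional K K₁] (E : IntermediateField L Ω) (Z Z' : Set Ω)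
    (hZ : ∀ z ∈ Z, z ∈ adjoin (↥E) Z')
    (h : Solvable (↥K₁) (↥E) V Z') : Solvable K L V Z := by
  obtain ⟨K₂, hfin, hwu⟩ := h
  refine ⟨K₂.restrictScalars K, ?_, ?_⟩
  · haveI := hfin
    show Module.Finite K K₂
    exact Module.Finite.trans K₁ K₂
  · refine hwu.mono (fun x hx => hx) ?_
    have : adjoin L (((K₂.restrictScalars K : IntermediateField K Ω) : Set Ω) ∪ Z) ≤
        (adjoin (↥E) ((K₂ : Set Ω) ∪ Z')).restrictScalars L := by
      apply adjoin_le_iff.mpr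
      rintro x (hx | hx)
      · show x ∈ adjoin (↥E) ((K₂ : Set Ω) ∪ Z')
        have hx' : x ∈ (K₂ : Set Ω) := hx
        exact subset_adjoin (↥E) ((K₂ : Set Ω) ∪ Z') (Or.inl hx')
      · show x ∈ adjoin (↥E) ((K₂ : Set Ω) ∪ Z')
        exact adjoin.mono (↥E) Z' _ Set.subset_union_right (hZ x hx)
    exact this

section ctx

variable {p : ℕ} {A B K L Ω : Type u}
  [CommRing A] [IsDomain A] [IsDiscreteValuationRing A]
  [CommRing B] [IsDomain B] [IsDiscreteValuationRing B]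
  [Algebra A B] [IsLocalHom (algebraMap A B)]
  [Field K] [Field L] [Algebra A K] [IsFractionRing A K] [Algebra B L] [IsFractionRing B L]
  [Algebra K L] [Algebra A L] [IsScalarTower A K L] [IsScalarTower A B L]
  [IsAlgClosed (ResidueField A)] [CharP (ResidueField A) p]
  [IsAdicComplete (maximalIdeal A) A] [IsAdicComplete (maximalIdeal B) B]
  [Field Ω] [Algebra K Ω] [Algebra L Ω] [IsScalarTower K L Ω]
  {V : ValuationSubring Ω}

set_option maxHeartbeats 3200000 in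
theorem EppCtx.solvable_kummer [IsAlgClosed Ω] [hp : Fact p.Prime]
    (H : EppCtx p A B K L Ω V) (hp0 : (p : Ω) ≠ 0) (z : Ω)
    (hz : z ^ p ∈ (algebraMap L Ω).fieldRange) : Solvable K L V {z} := by
  classical
  obtain ⟨u, hu⟩ := hz
  by_cases hu0 : u = 0
  · apply H.solvable_of_subset
    rw [Set.singleton_subset_iff]
    rw [hu0, map_zero] at hu
    have : z = 0 := pow_eq_zero_iff (hp.out.ne_zero) |>.mp hu.symm
    exact ⟨0, by rw [this, map_zero]⟩
  obtain ⟨π, hπ⟩ := IsDiscreteValuationRing.exists_irreducible A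
  obtain ⟨hπ0, hπ1, hgenL⟩ := H.genL hπ
  obtain ⟨a, ha⟩ := hgenL u hu0
  -- roots
  obtain ⟨lamΩ, hlamΩ⟩ := IsAlgClosed.exists_pow_nat_eq (-(p : Ω))
    (show 0 < p - 1 by have := hp.out.two_le; omega)
  obtain ⟨ϖ', hϖ'⟩ := IsAlgClosed.exists_pow_nat_eq (aΩ K Ω π) hp.out.pos
  have hp1 : p - 1 ≠ 0 := by have := hp.out.two_le; omega
  obtain ⟨K', hK'⟩ : ∃ K' : IntermediateField K Ω, K' = adjoin K {lamΩ, ϖ'} := ⟨_, rfl⟩
  have hlamK : lamΩ ∈ K' := by rw [hK']; exact subset_adjoin K _ (by simp)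
  have hϖK : ϖ' ∈ K' := by rw [hK']; exact subset_adjoin K _ (by simp)
  haveI : FiniteDimensional K K' := by
    rw [hK']
    apply finiteDimensional_adjoin
    intro x hx
    rcases hx with rfl | rfl
    · exact isIntegral_of_pow_eq (c := -(p : K)) hp1 (by rw [hlamΩ]; simp)
    · exact isIntegral_of_pow_eq hp.out.ne_zero (by rw [hϖ']; rfl)
  obtain ⟨E, hE⟩ : ∃ E : IntermediateField L Ω, E = LK L K' := ⟨_, rfl⟩
  haveI : FiniteDimensional L E := by rw [hE]; exact finiteDimensional_LK K'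
  have hKE : (K' : Set Ω) ⊆ E := by rw [hE]; exact subset_adjoin L _
  -- the unit
  have hϖ'0 : ϖ' ≠ 0 := by
    rintro rfl
    rw [zero_pow hp.out.ne_zero] at hϖ'
    exact hπ0 hϖ'.symm
  obtain ⟨πL, hπL⟩ : ∃ πL : L, πL = algebraMap K L (algebraMap A K π) := ⟨_, rfl⟩
  have hπLΩ : algebraMap L Ω πL = aΩ K Ω π := by
    rw [hπL, ← IsScalarTower.algebraMap_apply]; rfl
  have hπL0 : πL ≠ 0 := by
    intro h0
    apply hπ0
    rw [← hπLΩ, h0, map_zero]
  have hv1 : V.valuation (algebraMap L Ω (u / πL ^ a)) = 1 := by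
    rw [map_div₀, map_zpow₀, map_div₀, map_zpow₀, hπLΩ, ha]
    exact div_self (zpow_ne_zero _ ((Valuation.ne_zero_iff _).mpr hπ0))
  obtain ⟨uB, huB⟩ := H.exists_B_of_val_le_one (u / πL ^ a) hv1.le
  obtain ⟨z', hz'⟩ : ∃ z' : Ω, z' = z / ϖ' ^ a := ⟨_, rfl⟩
  have hz'p : z' ^ p = bΩ L Ω uB := by
    unfold bΩ
    rw [huB, hz', div_pow, ← hu, map_div₀, map_zpow₀, hπLΩ, ← hϖ', ← zpow_natCast (ϖ' ^ a),
      ← zpow_mul, mul_comm a, zpow_mul, zpow_natCast]
  -- the rebased context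
  letI := inclAlg K' E hKE
  haveI := inclAlg_tower K' E hKE
  have hwu' : WU V (Set.range (algebraMap K' Ω)) (Set.range (algebraMap E Ω)) := by
    rw [range_algebraMap_IF, range_algebraMap_IF, hE]
    exact (H.totBC K').1
  letI a1 : Algebra (OO V K') (OO V E) := (OOmap V K' E).toAlgebra
  letI a2 : Algebra (OO V K') E := ((algebraMap K' E).comp (algebraMap (OO V K') K')).toAlgebra
  obtain ⟨i1, i2, i3, i4, i5, i6, i7, i8, i9, H'⟩ := H.rebase K' E hwu'
  obtain ⟨uE, huE⟩ : ∃ uE : OO V E, OOι V E uE = bΩ L Ω uB :=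
    ⟨OOmk V ⟨bΩ L Ω uB, E.algebraMap_mem _⟩ (H.val_bΩ_le uB), rfl⟩
  have huEunit : IsUnit uE := by
    rw [isUnit_OO_iff, huE]
    unfold bΩ
    rw [huB]
    exact hv1
  have hsol : Solvable (↥K') (↥E) V {z'} := by
    apply H'.solvable_kummer_unit hp0 ⟨lamΩ, hlamK⟩ hlamΩ uE huEunit z'
    rw [hz'p, ← huE]
    rfl
  refine Solvable.of_rebase' K' E {z} {z'} ?_ hsol
  intro x hx
  rw [Set.mem_singleton_iff] at hx
  have hzz' : z = z' * ϖ' ^ a := by
    rw [hz']; field_simp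
  rw [hx, hzz']
  have h1 : z' ∈ adjoin (↥E) ({z'} : Set Ω) := subset_adjoin (↥E) _ rfl
  have h2 : ϖ' ∈ adjoin (↥E) ({z'} : Set Ω) :=
    (adjoin (↥E) ({z'} : Set Ω)).algebraMap_mem ⟨ϖ', hKE hϖK⟩
  exact mul_mem h1 (zpow_mem h2 a)

end ctx

end Groth.Agent.Lib.EppFinH8
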