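import Mathlib
import Groth.Prelude.Def_EtRam
import Groth.Agent.Lib.EppM2_helper8

/-!
# Towers of `p`-steps: generation lemmas (helper8)
-/

set_option autoImplicit false
universe u

namespace Groth.Agent.Lib.EppFinH8

section tower

variable {Ω : Type u} [Field Ω] {p : ℕ}

/-- The field generated by `F` and the members of a list. -/
def Tgen (F : Subfield Ω) (zs : List Ω) : Subfield Ω := F ⊔ Subfield.closure {z | z ∈ zs}

theorem le_Tgen (F : Subfield Ω) (zs : List Ω) : F ≤ Tgen F zs := le_sup_left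

theorem mem_Tgen_of_mem (F : Subfield Ω) {zs : List Ω} {z : Ω} (hz : z ∈ zs) : z ∈ Tgen F zs :=
  (le_sup_right : Subfield.closure {z | z ∈ zs} ≤ Tgen F zs) (Subfield.subset_closure hz)

theorem Tgen_nil (F : Subfield Ω) : Tgen F [] = F := by
  unfold Tgen
  have : {z : Ω | z ∈ ([] : List Ω)} = ∅ := by ext; simp
  rw [this, Subfield.closure_empty, sup_bot_eq]

theorem Tgen_cons (F : Subfield Ω) (z : Ω) (zs : List Ω) :
    Tgen F (z :: zs) = Tgen (F ⊔ Subfield.closure {z}) zs := by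
  unfold Tgen
  have : {x : Ω | x ∈ z :: zs} = {z} ∪ {x | x ∈ zs} := by
    ext x; simp
  rw [this, Subfield.closure_union, sup_assoc]

theorem Tgen_append (F : Subfield Ω) (zs zs' : List Ω) :
    Tgen F (zs ++ zs') = Tgen (Tgen F zs) zs' := by
  unfold Tgen
  have : {x : Ω | x ∈ zs ++ zs'} = {x | x ∈ zs} ∪ {x | x ∈ zs'} := by
    ext x; simp
  rw [this, Subfield.closure_union, sup_assoc]

theorem Tgen_mono {F F' : Subfield Ω} (h : F ≤ F') (zs : List Ω) : Tgen F zs ≤ Tgen F' zs :=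
  sup_le_sup_right h _

theorem Tower.append {zs : List Ω} : ∀ {F : Subfield Ω} {zs' : List Ω}, Tower p F zs →
    Tower p (Tgen F zs) zs' → Tower p F (zs ++ zs') := by
  induction zs with
  | nil =>
    intro F zs' _ h
    rw [Tgen_nil] at h
    exact h
  | cons z zs ih =>
    intro F zs' h h'
    rw [Tgen_cons] at h'
    exact ⟨h.1, ih h.2 h'⟩

/-- the chain `x^(p^(k-1)), …, x^p, x` -/
theorem chain_tower : ∀ (k : ℕ) (F : Subfield Ω) (x : Ω), x ^ p ^ k ∈ F →
    ∃ zs : List Ω, Tower p F zs ∧ x ∈ Tgen F zs := by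
  intro k
  induction k with
  | zero =>
    intro F x hx
    refine ⟨[], trivial, ?_⟩
    rw [Tgen_nil]
    simpa using hx
  | succ k ih =>
    intro F x hx
    have hy : (x ^ p ^ k) ^ p ∈ F := by rw [← pow_mul, ← pow_succ]; exact hx
    have hx' : x ^ p ^ k ∈ F ⊔ Subfield.closure {x ^ p ^ k} :=
      (le_sup_right : Subfield.closure {x ^ p ^ k} ≤ _) (Subfield.subset_closure rfl)
    obtain ⟨zs, hzs, hxz⟩ := ih (F ⊔ Subfield.closure {x ^ p ^ k}) x hx'
    refine ⟨x ^ p ^ k :: zs, ⟨Or.inl hy, hzs⟩, ?_⟩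
    rw [Tgen_cons]
    exact hxz

/-- towers for a finite list of radical elements -/
theorem insep_tower : ∀ (xs : List Ω) (F : Subfield Ω), (∀ x ∈ xs, ∃ k : ℕ, x ^ p ^ k ∈ F) →
    ∃ zs : List Ω, Tower p F zs ∧ ∀ x ∈ xs, x ∈ Tgen F zs := by
  intro xs
  induction xs with
  | nil =>
    intro F _
    exact ⟨[], trivial, fun x hx => by simp at hx⟩
  | cons x xs ih =>
    intro F h
    obtain ⟨k, hk⟩ := h x List.mem_cons_self
    obtain ⟨zs, hzs, hxz⟩ := chain_tower k F x hk
    obtain ⟨zs', hzs', hxs⟩ := ih (Tgen F zs) (fun y hy => by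
      obtain ⟨k', hk'⟩ := h y (List.mem_cons_of_mem _ hy)
      exact ⟨k', le_Tgen F zs hk'⟩)
    refine ⟨zs ++ zs', hzs.append hzs', ?_⟩
    intro y hy
    rw [Tgen_append]
    rcases List.mem_cons.mp hy with rfl | hy
    · exact le_Tgen _ _ hxz
    · exact hxs y hy

end tower

end Groth.Agent.Lib.EppFinH8
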