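import Mathlib
import Groth.Prelude.Def_EtRam
import Groth.Agent.Lib.EppG1_helper8
import Groth.Agent.Lib.Epp1_helper8

/-!
# Galois `p`-extensions are towers of Kummer / Artin–Schreier steps (helper8)
-/

set_option autoImplicit false
universe u

namespace Groth.Agent.Lib.EppFinH8

open IntermediateField

section

variable {Ω : Type u} [Field Ω] {p : ℕ} [hp : Fact p.Prime]

omit hp in
theorem fieldRange_le_of_adjoin_eq_top {F F' : Type u} [Field F] [Field F'] [Algebra F F']
    (φ : F' →+* Ω) (z : F') (h : IntermediateField.adjoin F {z} = ⊤) :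
    φ.fieldRange ≤ (φ.comp (algebraMap F F')).fieldRange ⊔ Subfield.closure {φ z} := by
  rintro _ ⟨y, rfl⟩
  have hy : y ∈ (IntermediateField.adjoin F {z}).toSubfield := by rw [h]; trivial
  rw [IntermediateField.adjoin_toSubfield] at hy
  have h1 : φ y ∈ (Subfield.closure (Set.range (algebraMap F F') ∪ {z})).map φ :=
    Subfield.mem_map.mpr ⟨y, hy, rfl⟩
  rw [RingHom.map_field_closure] at h1
  refine (Subfield.closure_le.mpr ?_) h1
  rintro _ ⟨x, hx | hx, rfl⟩
  · obtain ⟨a, rfl⟩ := hx
    exact (le_sup_left : (φ.comp (algebraMap F F')).fieldRange ≤ _) ⟨a, rfl⟩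
  · rw [Set.mem_singleton_iff] at hx
    rw [hx]
    exact (le_sup_right : Subfield.closure {φ z} ≤ _) (Subfield.subset_closure rfl)

set_option maxHeartbeats 1600000 in
theorem ptower_galois : ∀ (n : ℕ) (F E : Type u) [Field F] [Field E] [Algebra F E] [Algebra F Ω]
    [Algebra E Ω] [IsScalarTower F E Ω] [FiniteDimensional F E] [IsGalois F E],
    Module.finrank F E = p ^ n → ((p : Ω) ≠ 0 → (primitiveRoots p F).Nonempty) →
    ∃ zs : List Ω, Tower p (algebraMap F Ω).fieldRange zs ∧
      (algebraMap E Ω).fieldRange ≤ Tgen (algebraMap F Ω).fieldRange zs := by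
  intro n
  induction n with
  | zero =>
    intro F E _ _ _ _ _ _ _ _ hdeg _
    rw [pow_zero] at hdeg
    refine ⟨[], trivial, ?_⟩
    rw [Tgen_nil]
    rintro _ ⟨x, rfl⟩
    have hx : x ∈ (⊥ : Subalgebra F E) := by
      rw [Subalgebra.bot_eq_top_of_finrank_eq_one hdeg]; exact Algebra.mem_top
    obtain ⟨a, rfl⟩ := Algebra.mem_bot.mp hx
    exact ⟨a, IsScalarTower.algebraMap_apply F E Ω a⟩
  | succ n ih =>
    intro F E _ _ _ _ _ _ _ _ hdeg hζ
    classical
    have hcard : Nat.card (E ≃ₐ[F] E) = p ^ (n + 1) := by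
      rw [IsGalois.card_aut_eq_finrank, hdeg]
    obtain ⟨H, hH⟩ := Sylow.exists_subgroup_card_pow_prime (G := E ≃ₐ[F] E) p (n := n)
      (by rw [hcard]; exact pow_dvd_pow p (Nat.le_succ n))
    have hidx : H.index = p := by
      have := H.card_mul_index
      rw [hH, hcard, pow_succ] at this
      exact Nat.eq_of_mul_eq_mul_left (pow_pos hp.out.pos n) this
    haveI : H.Normal := Subgroup.normal_of_index_eq_minFac_card (by
      rw [hidx, hcard, Nat.pow_minFac (Nat.succ_ne_zero n), hp.out.minFac_eq])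
    obtain ⟨F', hF'⟩ : ∃ F' : IntermediateField F E, F' = IntermediateField.fixedField H :=
      ⟨_, rfl⟩
    haveI : IsGalois F F' := by rw [hF']; exact IsGalois.of_fixedField_normal_subgroup H
    have hdeg2 : Module.finrank F' E = p ^ n := by
      rw [hF', IntermediateField.finrank_fixedField_eq_card, hH]
    have hdeg1 : Module.finrank F F' = p := by
      have := Module.finrank_mul_finrank F F' E
      rw [hdeg, hdeg2, pow_succ, mul_comm] at this
      exact Nat.eq_of_mul_eq_mul_left (pow_pos hp.out.pos n) this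
    haveI : IsScalarTower F' E Ω := inferInstance
    haveI : IsScalarTower F F' Ω := IsScalarTower.of_algebraMap_eq (fun a => by
      show algebraMap F Ω a = algebraMap E Ω (algebraMap F' E (algebraMap F F' a))
      rw [← IsScalarTower.algebraMap_apply F F' E, ← IsScalarTower.algebraMap_apply F E Ω])
    -- the generator
    have hgen : ∃ z : F', Step p (algebraMap F Ω).fieldRange (algebraMap F' Ω z) ∧
        IntermediateField.adjoin F {z} = ⊤ := by
      by_cases hp0 : (p : Ω) = 0
      · haveI : CharP Ω p := (CharP.charP_iff_prime_eq_zero hp.out).mpr hp0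
        haveI : CharP F p := RingHom.charP (algebraMap F Ω) (algebraMap F Ω).injective p
        obtain ⟨z, ⟨ξ, hz⟩, hg⟩ := EppH8.exists_as_generator (p := p) (L := F) (M := F') hdeg1
        refine ⟨z, Or.inr ⟨inferInstance, ξ, ?_⟩, hg⟩
        rw [← map_pow, ← map_sub, hz, ← IsScalarTower.algebraMap_apply]
      · obtain ⟨ζ, hζ'⟩ := hζ hp0
        haveI : IsCyclic (F' ≃ₐ[F] F') :=
          isCyclic_of_prime_card (p := p) (by rw [IsGalois.card_aut_eq_finrank, hdeg1])
        obtain ⟨α, ⟨c, hc⟩, hg⟩ := exists_root_adjoin_eq_top_of_isCyclic F F'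
          (by rw [hdeg1]; exact ⟨ζ, hζ'⟩)
        rw [hdeg1] at hc
        refine ⟨α, Or.inl ⟨c, ?_⟩, hg⟩
        rw [← map_pow, ← hc, ← IsScalarTower.algebraMap_apply]
    obtain ⟨z, hstep, hg⟩ := hgen
    obtain ⟨zs', hzs', hE⟩ := ih F' E hdeg2 (fun h0 => by
      obtain ⟨ζ, hζ'⟩ := hζ h0
      rw [mem_primitiveRoots hp.out.pos] at hζ'
      exact ⟨algebraMap F F' ζ, (mem_primitiveRoots hp.out.pos).mpr
        (hζ'.map_of_injective (algebraMap F F').injective)⟩)
    have hle : (algebraMap F' Ω).fieldRange ≤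
        (algebraMap F Ω).fieldRange ⊔ Subfield.closure {algebraMap F' Ω z} := by
      have := fieldRange_le_of_adjoin_eq_top (F := F) (algebraMap F' Ω) z hg
      have h2 : (algebraMap F' Ω).comp (algebraMap F F') = algebraMap F Ω := by
        ext a; exact (IsScalarTower.algebraMap_apply F F' Ω a).symm
      rwa [h2] at this
    refine ⟨algebraMap F' Ω z :: zs', ⟨hstep, hzs'.mono hle⟩, ?_⟩
    rw [Tgen_cons]
    exact hE.trans (Tgen_mono hle zs')

end

end Groth.Agent.Lib.EppFinH8
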