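import Mathlib
import Groth.Prelude.Def_EtRam
import Groth.Agent.Lib.EppX3_helper8
import Groth.Agent.Lib.EppB3_helper8
import Groth.Agent.S7156

/-!
# The purely inseparable step in the Epp context (helper8)
-/

set_option autoImplicit false
universe u

namespace Groth.Agent.Lib.EppFinH8

open IsLocalRing IntermediateField

section ctx

variable {p : ℕ} {A B K L Ω : Type u}
  [CommRing A] [IsDomain A] [IsDiscreteValuationRing A]
  [CommRing B] [IsDomain B] [IsDiscreteValuationRing B]
  [Algebra A B] [IsLocalHom (algebraMap A B)]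
  [Field K] [Field L] [Algebra A K] [IsFractionRing A K] [Algebra B L] [IsFractionRing B L]
  [Algebra K L] [Algebra A L] [IsScalarTower A K L] [IsScalarTower A B L]
  [IsAlgClosed (ResidueField A)] [CharP (ResidueField A) p]
  [IsAdicComplete (maximalIdeal A) A] [IsAdicComplete (maximalIdeal B) B]
  [Field Ω] [Algebra K Ω] [Algebra L Ω] [IsScalarTower K L Ω]
  {V : ValuationSubring Ω}

set_option maxHeartbeats 3200000 in
/-- The purely inseparable step (degree `p`). -/
theorem EppCtx.step_PI [IsAlgClosed Ω] [hp : Fact p.Prime] (H : EppCtx p A B K L Ω V)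
    (X : Type u) [Field X] [Algebra K X] [Algebra X Ω] [IsScalarTower K X Ω]
    [FiniteDimensional K X]
    (E : Type u) [Field E] [Algebra L E] [Algebra E Ω] [IsScalarTower L E Ω]
    [FiniteDimensional L E] [Algebra X E] [IsScalarTower X E Ω]
    (F : Type u) [Field F] [Algebra E F] [Algebra F Ω] [IsScalarTower E F Ω]
    [Algebra X F] [IsScalarTower X E F]
    (hwu : WU V (Set.range (algebraMap X Ω)) (Set.range (algebraMap E Ω)))
    [IsPurelyInseparable E F] (hdeg : Module.finrank E F = p) :
    ∃ K₁' : IntermediateField X Ω, FiniteDimensional X K₁' ∧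
      WU V (K₁' : Set Ω) (IntermediateField.adjoin F (K₁' : Set Ω) : Set Ω) := by
  haveI : FiniteDimensional E F := Module.finite_of_finrank_pos (hdeg ▸ hp.out.pos)
  haveI : IsScalarTower X F Ω := by
    apply IsScalarTower.of_algebraMap_eq
    intro x
    rw [IsScalarTower.algebraMap_apply X E F, ← IsScalarTower.algebraMap_apply E F Ω,
      ← IsScalarTower.algebraMap_apply X E Ω]
  obtain ⟨π, hπ⟩ := IsDiscreteValuationRing.exists_irreducible A
  obtain ⟨hdvrX, -⟩ := H.tot X hπ
  obtain ⟨hdvrE, -, hnag, -⟩ := H.extL E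
  haveI := hdvrX
  haveI := hdvrE
  haveI hdvrF : IsDiscreteValuationRing (OO V F) := isDVR_OO_of_finite V E F
  -- algebra structures
  letI aAB : Algebra (OO V X) (OO V E) := (OOmap V X E).toAlgebra
  letI aBC : Algebra (OO V E) (OO V F) := (OOmap V E F).toAlgebra
  letI aAC : Algebra (OO V X) (OO V F) := (OOmap V X F).toAlgebra
  haveI : IsScalarTower (OO V X) (OO V E) (OO V F) := by
    apply IsScalarTower.of_algebraMap_eq
    intro x
    apply Subtype.ext
    exact IsScalarTower.algebraMap_apply X E F (x : X)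
  haveI lAB : IsLocalHom (algebraMap (OO V X) (OO V E)) := isLocalHom_OOmap V X E
  haveI lBC : IsLocalHom (algebraMap (OO V E) (OO V F)) := isLocalHom_OOmap V E F
  haveI lAC : IsLocalHom (algebraMap (OO V X) (OO V F)) := isLocalHom_OOmap V X F
  letI aAL : Algebra (OO V X) E := ((algebraMap X E).comp (algebraMap (OO V X) X)).toAlgebra
  haveI : IsScalarTower (OO V X) X E := IsScalarTower.of_algebraMap_eq (fun _ => rfl)
  haveI : IsScalarTower (OO V X) (OO V E) E := IsScalarTower.of_algebraMap_eq (fun _ => rfl)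
  letI aBM : Algebra (OO V E) F := ((algebraMap E F).comp (algebraMap (OO V E) E)).toAlgebra
  haveI : IsScalarTower (OO V E) E F := IsScalarTower.of_algebraMap_eq (fun _ => rfl)
  haveI : IsScalarTower (OO V E) (OO V F) F := IsScalarTower.of_algebraMap_eq (fun _ => rfl)
  letI aAM : Algebra (OO V X) F := ((algebraMap X F).comp (algebraMap (OO V X) X)).toAlgebra
  haveI : IsScalarTower (OO V X) X F := IsScalarTower.of_algebraMap_eq (fun _ => rfl)
  haveI : IsScalarTower (OO V X) (OO V F) F := IsScalarTower.of_algebraMap_eq (fun _ => rfl)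
  have hw : EtRam.IsWeaklyUnramified (OO V X) (OO V E) := isWeaklyUnramified_of_WU V hwu
  obtain ⟨ϖ, hϖ⟩ := IsDiscreteValuationRing.exists_irreducible (OO V X)
  have hϖm : maximalIdeal (OO V X) = Ideal.span {ϖ} := hϖ.maximalIdeal_eq
  rcases Groth.Agent.S7156.result p hp.out (OO V X) (OO V E) (OO V F) X E F
    (OOmap_injective V X E) (OOmap_injective V E F) ϖ hϖm hnag hw hdeg with h1 | h2 | h3
  · -- weakly unramified
    refine ⟨⊥, inferInstance, ?_⟩
    have hwuF : WU V (Set.range (algebraMap X Ω)) (Set.range (algebraMap F Ω)) :=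
      WU_of_isWeaklyUnramified V h1
    obtain ⟨ϖ₁, ⟨ϖ', rfl⟩, h0, h1', hgen⟩ := hwuF
    refine ⟨_, (⊥ : IntermediateField X Ω).algebraMap_mem ϖ', h0, h1', ?_⟩
    intro x hx hx0
    apply hgen x _ hx0
    have h2 : adjoin F (((⊥ : IntermediateField X Ω)) : Set Ω) = ⊥ := by
      rw [adjoin_eq_bot_iff]
      intro y hy
      obtain ⟨c, rfl⟩ := IntermediateField.mem_bot.mp hy
      rw [IsScalarTower.algebraMap_apply X F Ω]
      exact (⊥ : IntermediateField F Ω).algebraMap_mem _
    rw [SetLike.mem_coe, h2] at hx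
    exact IntermediateField.mem_bot.mp hx
  · -- `C = B[c]`, `c ^ p = ϖ`
    obtain ⟨c, hc, hadj⟩ := h2
    have hϖC : algebraMap (OO V X) (OO V F) ϖ ∈ maximalIdeal (OO V F) := by
      rw [mem_maximalIdeal, mem_nonunits_iff]
      intro hu
      exact hϖ.not_isUnit (isUnit_of_map_unit (algebraMap (OO V X) (OO V F)) ϖ hu)
    have hcm : c ∈ maximalIdeal (OO V F) := by
      rw [← hc] at hϖC
      exact Ideal.IsPrime.mem_of_pow_mem (maximalIdeal.isMaximal _).isPrime p hϖC
    have hmE : maximalIdeal (OO V E) = Ideal.span {algebraMap (OO V X) (OO V E) ϖ} := by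
      have := hw
      unfold EtRam.IsWeaklyUnramified at this
      rw [hϖm, Ideal.map_span, Set.image_singleton] at this
      exact this.symm
    have hmax : maximalIdeal (OO V F) = Ideal.span {c} := by
      apply le_antisymm
      · intro x hx
        have hxa : x ∈ Algebra.adjoin (OO V E) {c} := by rw [hadj]; exact Algebra.mem_top
        rw [Algebra.adjoin_singleton_eq_range_aeval] at hxa
        obtain ⟨q, hq⟩ := hxa
        replace hq : Polynomial.aeval c q = x := hq
        have hdecomp : Polynomial.aeval c q =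
            Polynomial.aeval c q.divX * c + algebraMap (OO V E) (OO V F) (q.coeff 0) := by
          conv_lhs => rw [← Polynomial.divX_mul_X_add q]
          rw [map_add, map_mul, Polynomial.aeval_X, Polynomial.aeval_C]
        have h0m : algebraMap (OO V E) (OO V F) (q.coeff 0) ∈ maximalIdeal (OO V F) := by
          have : algebraMap (OO V E) (OO V F) (q.coeff 0) =
              x - Polynomial.aeval c q.divX * c := by
            rw [← hq, hdecomp]; ring
          rw [this]
          exact Ideal.sub_mem _ hx (Ideal.mul_mem_left _ _ hcm)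
        have h0E : q.coeff 0 ∈ maximalIdeal (OO V E) := by
          rw [mem_maximalIdeal, mem_nonunits_iff] at h0m ⊢
          exact fun hu => h0m (hu.map _)
        rw [hmE, Ideal.mem_span_singleton] at h0E
        obtain ⟨b, hb⟩ := h0E
        rw [Ideal.mem_span_singleton]
        refine ⟨Polynomial.aeval c q.divX + c ^ (p - 1) * algebraMap (OO V E) (OO V F) b, ?_⟩
        rw [← hq, hdecomp, hb, map_mul, ← IsScalarTower.algebraMap_apply, ← hc]
        obtain ⟨p', rfl⟩ : ∃ p', p = p' + 1 := ⟨p - 1, by have := hp.out.pos; omega⟩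
        rw [Nat.add_sub_cancel]
        ring
      · rw [Ideal.span_le, Set.singleton_subset_iff]
        exact hcm
    have hcirr : Irreducible c := (IsDiscreteValuationRing.irreducible_iff_uniformizer c).mpr hmax
    obtain ⟨θ, hθ⟩ : ∃ θ : Ω, θ = OOι V F c := ⟨_, rfl⟩
    have hθ0 : θ ≠ 0 := by rw [hθ]; exact OOι_ne_zero V hcirr.ne_zero
    have hθ1 : V.valuation θ < 1 := by rw [hθ]; exact irreducible_val_lt_one V hcirr
    have hθp : θ ^ p = algebraMap X Ω (ϖ : X) := by
      rw [hθ, ← map_pow, hc]
      exact OOι_OOmap V X F ϖ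
    have hθint : IsIntegral X θ := by
      refine ⟨Polynomial.X ^ p - Polynomial.C (ϖ : X),
        Polynomial.monic_X_pow_sub_C _ hp.out.ne_zero, ?_⟩
      rw [Polynomial.eval₂_sub, Polynomial.eval₂_pow, Polynomial.eval₂_X, Polynomial.eval₂_C, hθp,
        sub_self]
    refine ⟨X⟮θ⟯, adjoin.finiteDimensional hθint, ?_⟩
    refine ⟨θ, mem_adjoin_simple_self X θ, hθ0, hθ1, ?_⟩
    have hle : X⟮θ⟯ ≤ (⊥ : IntermediateField F Ω).restrictScalars X := by
      apply adjoin_le_iff.mpr
      intro y hy
      rw [Set.mem_singleton_iff] at hy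
      rw [hy, hθ]
      exact (⊥ : IntermediateField F Ω).algebraMap_mem _
    have h2 : adjoin F ((X⟮θ⟯ : IntermediateField X Ω) : Set Ω) = ⊥ := by
      rw [adjoin_eq_bot_iff]
      intro y hy
      exact hle hy
    intro x hx hx0
    rw [SetLike.mem_coe, h2] at hx
    obtain ⟨y, rfl⟩ := IntermediateField.mem_bot.mp hx
    rw [hθ]
    exact gen_of_irreducible V hcirr y ((map_ne_zero _).mp hx0)
  · obtain ⟨K₁, f1, a1, hfr, -, -, -, -, -, hws⟩ := h3
    haveI : FiniteDimensional X K₁ := Module.finite_of_finrank_pos (hfr ▸ hp.out.pos)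
    exact WU_of_isWeakSolution V X F K₁ hws

end ctx

end Groth.Agent.Lib.EppFinH8
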