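import Mathlib
import Groth.Prelude.Def_EtRam
import Groth.Agent.Lib.EppM3_helper8
import Groth.Agent.Lib.EppX6_helper8

/-!
# The purely inseparable step inside `Ω` (helper8)
-/

set_option autoImplicit false
universe u

namespace Groth.Agent.Lib.EppFinH8

open IsLocalRing IntermediateField

section ctx

variable {p : ℕ} {A B K L Ω : Type u}
  [CommRing A] [IsDomain A] [IsDiscreteValuationRing A]
  [CommRing B] [IsDomain B] [IsDiscreteValuationRing B]
  [Algebra A B] [IsLocalHom (algebraMap A B)]
  [Field K] [Field L] [Algebra A K] [IsFractionRing A K] [Algebra B L] [IsFractionRing B L]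
  [Algebra K L] [Algebra A L] [IsScalarTower A K L] [IsScalarTower A B L]
  [IsAlgClosed (ResidueField A)] [CharP (ResidueField A) p]
  [IsAdicComplete (maximalIdeal A) A] [IsAdicComplete (maximalIdeal B) B]
  [Field Ω] [Algebra K Ω] [Algebra L Ω] [IsScalarTower K L Ω]
  {V : ValuationSubring Ω}

set_option maxHeartbeats 1600000 in
theorem EppCtx.solvable_PI [IsAlgClosed Ω] [hp : Fact p.Prime] (H : EppCtx p A B K L Ω V)
    [CharP Ω p] (z : Ω) (hz : z ^ p ∈ (algebraMap L Ω).fieldRange) : Solvable K L V {z} := by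
  by_cases hzL : z ∈ Set.range (algebraMap L Ω)
  · exact H.solvable_of_subset _ (by rw [Set.singleton_subset_iff]; exact hzL)
  obtain ⟨ξ, hξ⟩ := hz
  haveI : CharP L p := RingHom.charP (algebraMap L Ω) (algebraMap L Ω).injective p
  haveI : ExpChar L p := ExpChar.prime hp.out
  let F : IntermediateField L Ω := L⟮z⟯
  have hzF : z ∈ F := mem_adjoin_simple_self L z
  haveI : IsScalarTower K F Ω := IsScalarTower.of_algebraMap_eq (fun _ => rfl)
  haveI : IsPurelyInseparable L F :=
    (isPurelyInseparable_adjoin_simple_iff_pow_mem L Ω p).mpr ⟨1, ξ, by rw [pow_one]; exact hξ⟩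
  have hirr : Irreducible (Polynomial.X ^ p - Polynomial.C ξ : Polynomial L) := by
    apply X_pow_sub_C_irreducible_of_prime hp.out
    intro b hb
    apply hzL
    refine ⟨b, ?_⟩
    have h1 : (algebraMap L Ω b) ^ p = z ^ p := by rw [← map_pow, hb, hξ]
    exact frobenius_inj Ω p h1
  have hroot : Polynomial.aeval z (Polynomial.X ^ p - Polynomial.C ξ : Polynomial L) = 0 := by
    rw [map_sub, map_pow, Polynomial.aeval_X, Polynomial.aeval_C, hξ, sub_self]
  have hmin : minpoly L z = Polynomial.X ^ p - Polynomial.C ξ :=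
    (minpoly.eq_of_irreducible_of_monic hirr hroot
      (Polynomial.monic_X_pow_sub_C _ hp.out.ne_zero)).symm
  have hzint : IsIntegral L z := ⟨_, Polynomial.monic_X_pow_sub_C ξ hp.out.ne_zero, hroot⟩
  have hdeg : Module.finrank L F = p := by
    rw [IntermediateField.adjoin.finrank hzint, hmin, Polynomial.natDegree_X_pow_sub_C]
  haveI : FiniteDimensional L F := adjoin.finiteDimensional hzint
  obtain ⟨K₁', hfin', hwu⟩ := H.step_PI K L F H.wuKL hdeg
  haveI := hfin'
  exact solvable_of_WU_adjoin F {z} (by rw [Set.singleton_subset_iff]; exact hzF) K₁' hwu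

end ctx

end Groth.Agent.Lib.EppFinH8
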