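import Mathlib
import Groth.Prelude.Def_EtRam
import Groth.Agent.Lib.EppD10_helper8
import Groth.Agent.Lib.EppM4_helper8

/-!
# Towers of `p`-steps are solvable (helper8)
-/

set_option autoImplicit false
universe u

namespace Groth.Agent.Lib.EppFinH8

open IsLocalRing IntermediateField

variable {p : ℕ} [hp : Fact p.Prime] {Ω : Type u} [Field Ω] [IsAlgClosed Ω] {V : ValuationSubring Ω}

theorem EppData.solvable_step (D : EppData p Ω V) (z : Ω)
    (hz : Step p (algebraMap D.L Ω).fieldRange z) : Solvable D.K D.L V {z} := by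
  rcases hz with hz | ⟨hc, hz⟩
  · by_cases hp0 : (p : Ω) = 0
    · haveI : CharP Ω p := (CharP.charP_iff_prime_eq_zero hp.out).mpr hp0
      exact D.ctx.solvable_PI z hz
    · exact D.ctx.solvable_kummer hp0 z hz
  · haveI := hc
    exact D.ctx.solvable_AS z hz

theorem EppData.solvable_tower (D : EppData p Ω V) (zs : List Ω)
    (h : Tower p (algebraMap D.L Ω).fieldRange zs) : Solvable D.K D.L V {z | z ∈ zs} :=
  main_induction (fun D z hz => D.solvable_step z hz) zs D h

end Groth.Agent.Lib.EppFinH8
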