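import Mathlib
import Groth.Prelude.Def_EtRam
import Groth.Agent.Lib.EppD8_helper8
import Groth.Agent.Lib.EppX2_helper8

/-!
# The tame step: extensions of degree prime to `p` (helper8)
-/

set_option autoImplicit false
universe u

namespace Groth.Agent.Lib.EppFinH8

open IsLocalRing IntermediateField

section ctx

variable {p : ℕ} {A B K L Ω : Type u}
  [CommRing A] [IsDomain A] [IsDiscreteValuationRing A]
  [CommRing B] [IsDomain B] [IsDiscreteValuationRing B]
  [Algebra A B] [IsLocalHom (algebraMap A B)]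
  [Field K] [Field L] [Algebra A K] [IsFractionRing A K] [Algebra B L] [IsFractionRing B L]
  [Algebra K L] [Algebra A L] [IsScalarTower A K L] [IsScalarTower A B L]
  [IsAlgClosed (ResidueField A)] [CharP (ResidueField A) p]
  [IsAdicComplete (maximalIdeal A) A] [IsAdicComplete (maximalIdeal B) B]
  [Field Ω] [Algebra K Ω] [Algebra L Ω] [IsScalarTower K L Ω]
  {V : ValuationSubring Ω}

open Polynomial in
set_option maxHeartbeats 3200000 in
theorem EppCtx.solvable_tame [IsAlgClosed Ω] [hp : Fact p.Prime] (H : EppCtx p A B K L Ω V)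
    (T : Type u) [Field T] [Algebra L T] [Algebra T Ω] [IsScalarTower L T Ω]
    [FiniteDimensional L T] (hdeg : ¬ p ∣ Module.finrank L T) :
    Solvable K L V (Set.range (algebraMap T Ω)) := by
  classical
  obtain ⟨π, hπ⟩ := IsDiscreteValuationRing.exists_irreducible A
  obtain ⟨hπ0, hπ1, -⟩ := H.genL hπ
  letI aBT : Algebra B T := ((algebraMap L T).comp (algebraMap B L)).toAlgebra
  haveI : IsScalarTower B L T := IsScalarTower.of_algebraMap_eq (fun _ => rfl)
  have hdom : EtRam.Dominates B (algebraMap B T) (OO V T) := H.domBE T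
  obtain ⟨hdvr, -, -, -⟩ := H.extL T
  haveI := hdvr
  letI aBW : Algebra B (OO V T) :=
    (RingHom.codRestrict (algebraMap B T) (OO V T) hdom.1).toAlgebra
  obtain ⟨e, f, hlo, he, hef, hmap, -⟩ := ram_structure B L T (OO V T) hdom
  have hpe : ¬ p ∣ e := fun h => hdeg (hef ▸ Dvd.dvd.mul_right h f)
  obtain ⟨Pi, hPi⟩ := IsDiscreteValuationRing.exists_irreducible (OO V T)
  have hπB : maximalIdeal B = Ideal.span {algebraMap A B π} := by
    have := H.hw
    unfold EtRam.IsWeaklyUnramified at this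
    rw [hπ.maximalIdeal_eq, Ideal.map_span, Set.image_singleton] at this
    exact this.symm
  have hmap' : Ideal.map (algebraMap B (OO V T)) (Ideal.span {algebraMap A B π}) =
      maximalIdeal (OO V T) ^ e := by
    rw [← hπB]; exact hmap
  rw [Ideal.map_span, Set.image_singleton, hPi.maximalIdeal_eq, Ideal.span_singleton_pow,
    Ideal.span_singleton_eq_span_singleton] at hmap'
  obtain ⟨w, hw⟩ := hmap'
  have hcompat : ∀ b : B, OOι V T (algebraMap B (OO V T) b) = bΩ L Ω b := by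
    intro b
    show algebraMap T Ω (algebraMap L T (algebraMap B L b)) = _
    rw [← IsScalarTower.algebraMap_apply L T Ω]
    rfl
  have h1 := congrArg (OOι V T) hw
  rw [map_mul, map_pow, hcompat, H.bΩ_algebraMap] at h1
  obtain ⟨PiΩ, hPiΩ⟩ : ∃ x : Ω, x = OOι V T Pi := ⟨_, rfl⟩
  obtain ⟨wΩ, hwΩ⟩ : ∃ x : Ω, x = OOι V T (w : OO V T) := ⟨_, rfl⟩
  rw [← hPiΩ, ← hwΩ] at h1
  have hwv : V.valuation wΩ = 1 := by rw [hwΩ]; exact (isUnit_OO_iff V _).mp w.isUnit
  have hPi0 : PiΩ ≠ 0 := by rw [hPiΩ]; exact OOι_ne_zero V hPi.ne_zero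
  have hPi1 : V.valuation PiΩ < 1 := by rw [hPiΩ]; exact irreducible_val_lt_one V hPi
  -- the root
  obtain ⟨ϖ₁, hϖ₁⟩ := IsAlgClosed.exists_pow_nat_eq (aΩ K Ω π) he
  have hϖ₁0 : ϖ₁ ≠ 0 := by
    rintro rfl
    rw [zero_pow he.ne'] at hϖ₁
    exact hπ0 hϖ₁.symm
  have hvϖ : V.valuation ϖ₁ = V.valuation PiΩ := by
    have : V.valuation ϖ₁ ^ e = V.valuation PiΩ ^ e := by
      rw [← map_pow, ← map_pow, hϖ₁, ← h1, map_mul, hwv, mul_one]
    exact (pow_left_inj₀ zero_le zero_le he.ne').mp this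
  have hϖint : IsIntegral K ϖ₁ := isIntegral_of_pow_eq he.ne' (by rw [hϖ₁]; rfl)
  obtain ⟨y, hy⟩ : ∃ y : Ω, y = PiΩ / ϖ₁ := ⟨_, rfl⟩
  have hye : y ^ e = wΩ := by
    rw [hy, div_pow, hϖ₁, ← h1]
    field_simp
  have hy0 : y ≠ 0 := by rw [hy]; exact div_ne_zero hPi0 hϖ₁0
  -- the polynomial
  obtain ⟨G, hG⟩ : ∃ G : (OO V T)[X], G = X ^ e - C (w : OO V T) := ⟨_, rfl⟩
  have hGmonic : G.Monic := by rw [hG]; exact monic_X_pow_sub_C _ he.ne'
  have hGroot : eval₂ (OOι V T) y G = 0 := by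
    rw [hG, eval₂_sub, eval₂_pow, eval₂_X, eval₂_C, hye, hwΩ, sub_self]
  haveI : CharP (ResidueField (OO V T)) p := by
    rw [CharP.charP_iff_prime_eq_zero hp.out]
    have hm : (p : OO V T) ∈ maximalIdeal (OO V T) := by
      rw [mem_maximalIdeal_OO_iff, map_natCast]
      exact H.val_p_lt_one
    rw [← map_natCast (residue (OO V T))]
    exact (residue_eq_zero_iff _).mpr hm
  have hsep : (G.map (residue (OO V T))).Separable := by
    rw [hG, Polynomial.map_sub, Polynomial.map_pow, map_X, map_C]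
    apply separable_X_pow_sub_C' p e _ hpe
    intro h0
    have := (residue_eq_zero_iff _).mp h0
    exact (mem_maximalIdeal _).mp this w.isUnit
  have hwu2 := WU_of_separable_reduction V T G hGmonic hsep y hGroot
  have hgenT := gen_of_irreducible V hPi
  have hST : Set.range (algebraMap T Ω) ⊆ ((T⟮y⟯ : IntermediateField T Ω) : Set Ω) := by
    rintro _ ⟨t, rfl⟩
    exact (T⟮y⟯).algebraMap_mem t
  have hvals := hwu2.of_gen hST (ϖ₁ := PiΩ) ⟨(Pi : T), by rw [hPiΩ]; rfl⟩ hPi0 hPi1 (by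
    rintro _ ⟨t, rfl⟩ ht0
    rw [hPiΩ]
    exact hgenT t ((_root_.map_ne_zero _).mp ht0))
  -- conclusion
  refine ⟨K⟮ϖ₁⟯, adjoin.finiteDimensional hϖint, ϖ₁, mem_adjoin_simple_self K ϖ₁, hϖ₁0,
    by rw [hvϖ]; exact hPi1, ?_⟩
  letI aKT : Algebra K T := ((algebraMap L T).comp (algebraMap K L)).toAlgebra
  haveI : IsScalarTower K L T := IsScalarTower.of_algebraMap_eq (fun _ => rfl)
  haveI : IsScalarTower K T Ω := by
    apply IsScalarTower.of_algebraMap_eq
    intro k
    rw [IsScalarTower.algebraMap_apply K L T, ← IsScalarTower.algebraMap_apply L T Ω,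
      ← IsScalarTower.algebraMap_apply K L Ω]
  have hϖmem : ϖ₁ ∈ (T⟮y⟯ : IntermediateField T Ω) := by
    have : ϖ₁ = PiΩ / y := by rw [hy]; field_simp
    rw [this]
    refine div_mem ?_ (mem_adjoin_simple_self T y)
    rw [hPiΩ]
    exact (T⟮y⟯).algebraMap_mem (Pi : T)
  have hK₁ : K⟮ϖ₁⟯ ≤ (T⟮y⟯ : IntermediateField T Ω).restrictScalars K := by
    apply adjoin_le_iff.mpr
    intro x hx
    rw [Set.mem_singleton_iff] at hx
    rw [hx]
    exact hϖmem
  have hle : adjoin L (((K⟮ϖ₁⟯ : IntermediateField K Ω) : Set Ω) ∪ Set.range (algebraMap T Ω)) ≤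
      (T⟮y⟯ : IntermediateField T Ω).restrictScalars L := by
    apply adjoin_le_iff.mpr
    rintro x (hx | hx)
    · exact hK₁ hx
    · exact hST hx
  intro x hx hx0
  rw [hvϖ]
  exact hvals x (hle hx) hx0

end ctx

end Groth.Agent.Lib.EppFinH8
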