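import Mathlib
import Groth.Prelude.Def_EtRam
import Groth.Agent.Lib.EppG2_helper8
import Groth.Agent.Lib.EppM5_helper8
import Groth.Agent.Lib.EppT1_helper8

/-!
# Finite extensions are solvable, assuming enough roots of unity (helper8)
-/

set_option autoImplicit false
universe u

namespace Groth.Agent.Lib.EppFinH8

open IsLocalRing IntermediateField

section ctx

variable {p : ℕ} {A B K L Ω : Type u}
  [CommRing A] [IsDomain A] [IsDiscreteValuationRing A]
  [CommRing B] [IsDomain B] [IsDiscreteValuationRing B]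
  [Algebra A B] [IsLocalHom (algebraMap A B)]
  [Field K] [Field L] [Algebra A K] [IsFractionRing A K] [Algebra B L] [IsFractionRing B L]
  [Algebra K L] [Algebra A L] [IsScalarTower A K L] [IsScalarTower A B L]
  [IsAlgClosed (ResidueField A)] [CharP (ResidueField A) p]
  [IsAdicComplete (maximalIdeal A) A] [IsAdicComplete (maximalIdeal B) B]
  [Field Ω] [Algebra K Ω] [Algebra L Ω] [IsScalarTower K L Ω]
  {V : ValuationSubring Ω}

theorem EppCtx.charZero_of_ne [hp : Fact p.Prime] (H : EppCtx p A B K L Ω V)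
    (hp0 : (p : Ω) ≠ 0) : CharZero Ω := by
  obtain ⟨c, hc⟩ := CharP.exists Ω
  by_cases hc0 : c = 0
  · subst hc0
    exact CharP.charP_to_charZero Ω
  exfalso
  have hcΩ : (c : Ω) = 0 := CharP.cast_eq_zero Ω c
  have hcA : (c : A) = 0 := by
    apply H.aΩ_injective
    unfold aΩ
    rw [map_natCast, map_natCast, hcΩ, map_zero, map_zero]
  have hcres : (c : ResidueField A) = 0 := by
    rw [← map_natCast (residue A), hcA, map_zero]
  have hpc : p ∣ c := (CharP.cast_eq_zero_iff (ResidueField A) p c).mp hcres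
  have hcprime : c.Prime := (CharP.char_is_prime_or_zero Ω c).resolve_right hc0
  have : p = c := (Nat.prime_dvd_prime_iff_eq hp.out hcprime).mp hpc
  exact hp0 (this ▸ hcΩ)


set_option maxHeartbeats 3200000 in
theorem EppCtx.solvable_finite_of_roots [IsAlgClosed Ω] [hp : Fact p.Prime]
    (H : EppCtx p A B K L Ω V) (hζ : (p : Ω) ≠ 0 → (primitiveRoots p L).Nonempty)
    (M₀ : IntermediateField L Ω) [FiniteDimensional L M₀] : Solvable K L V (M₀ : Set Ω) := by
  classical
  -- the normal closure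
  obtain ⟨N, hN⟩ : ∃ N : IntermediateField L Ω, N = IntermediateField.normalClosure L M₀ Ω :=
    ⟨_, rfl⟩
  haveI : Normal L N := by
    rw [hN]
    exact ((inferInstance : Algebra.IsAlgebraic L M₀).isNormalClosure_normalClosure
      (fun x => IsAlgClosed.splits _)).normal
  haveI : FiniteDimensional L N := by rw [hN]; infer_instance
  have hMN : M₀ ≤ N := by rw [hN]; exact IntermediateField.le_normalClosure M₀
  -- separable closure
  obtain ⟨S, hS⟩ : ∃ S : IntermediateField L N, S = separableClosure L N := ⟨_, rfl⟩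
  haveI : IsGalois L S := by rw [hS]; infer_instance
  haveI : IsPurelyInseparable S N := by rw [hS]; exact separableClosure.isPurelyInseparable L N
  -- Sylow subgroup
  obtain ⟨P⟩ : Nonempty (Sylow p (S ≃ₐ[L] S)) := inferInstance
  obtain ⟨T₀, hT₀⟩ : ∃ T₀ : IntermediateField L S,
    T₀ = IntermediateField.fixedField (P : Subgroup (S ≃ₐ[L] S)) := ⟨_, rfl⟩
  obtain ⟨n, hn⟩ := IsPGroup.iff_card.mp P.isPGroup'
  have hdeg2 : Module.finrank T₀ S = p ^ n := by
    rw [hT₀, IntermediateField.finrank_fixedField_eq_card, hn]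
  have hdeg1 : ¬ p ∣ Module.finrank L T₀ := by
    have h1 := Module.finrank_mul_finrank L T₀ S
    have h2 : Module.finrank L S = Nat.card (S ≃ₐ[L] S) := (IsGalois.card_aut_eq_finrank L S).symm
    have h3 := (P : Subgroup (S ≃ₐ[L] S)).card_mul_index
    have : Module.finrank L T₀ = (P : Subgroup (S ≃ₐ[L] S)).index := by
      apply Nat.eq_of_mul_eq_mul_right (pow_pos hp.out.pos n)
      rw [← hdeg2, h1, h2, ← h3, hn, hdeg2, mul_comm]
    rw [this]
    exact P.not_dvd_index
  -- scalar towers into Ω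
  haveI : IsScalarTower L S Ω := IsScalarTower.of_algebraMap_eq (fun _ => rfl)
  haveI : IsScalarTower L T₀ Ω := IsScalarTower.of_algebraMap_eq (fun _ => rfl)
  haveI : IsScalarTower T₀ S Ω := IsScalarTower.of_algebraMap_eq (fun _ => rfl)
  -- tame step
  obtain ⟨K₁, hfin, hwu⟩ := H.solvable_tame T₀ hdeg1
  haveI := hfin
  obtain ⟨E, hE⟩ : ∃ E : IntermediateField L Ω,
    E = LKZ L K₁ (Set.range (algebraMap T₀ Ω)) := ⟨_, rfl⟩
  rw [← hE] at hwu
  haveI : FiniteDimensional L E := by
    rw [hE]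
    unfold LKZ
    rw [adjoin_union]
    haveI : FiniteDimensional L (adjoin L (K₁ : Set Ω)) := finiteDimensional_LK K₁
    haveI : FiniteDimensional L (adjoin L (Set.range (algebraMap T₀ Ω))) := by
      have h1 : Set.range (algebraMap T₀ Ω) =
          ((IsScalarTower.toAlgHom L T₀ Ω).fieldRange : Set Ω) := by
        rw [AlgHom.coe_fieldRange]; rfl
      rw [h1, adjoin_self]
      exact (AlgEquiv.ofInjectiveField (IsScalarTower.toAlgHom L T₀ Ω)).toLinearEquiv.finiteDimensional
    exact finiteDimensional_sup _ _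
  have hKE : (K₁ : Set Ω) ⊆ E := by
    rw [hE]; exact fun x hx => subset_adjoin _ _ (Or.inl hx)
  have hTE : ∀ t : T₀, algebraMap T₀ Ω t ∈ E := by
    intro t
    rw [hE]; exact subset_adjoin _ _ (Or.inr ⟨t, rfl⟩)
  -- the Galois tower
  obtain ⟨zs₁, hzs₁, hSle⟩ := ptower_galois (Ω := Ω) (p := p) n T₀ S hdeg2 (fun h0 => by
    obtain ⟨ζ, hζ'⟩ := hζ h0
    rw [mem_primitiveRoots hp.out.pos] at hζ'
    exact ⟨algebraMap L T₀ ζ, (mem_primitiveRoots hp.out.pos).mpr
      (hζ'.map_of_injective (algebraMap L T₀).injective)⟩)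
  -- generators of `N`
  obtain ⟨t, ht, hNt⟩ := fg_def.mp (fg_of_finite' N)
  have hrad : ∀ x ∈ ht.toFinset.toList, ∃ k : ℕ,
      x ^ p ^ k ∈ Tgen (algebraMap T₀ Ω).fieldRange zs₁ := by
    intro x hx
    rw [Finset.mem_toList, Set.Finite.mem_toFinset] at hx
    have hxN : x ∈ N := by rw [← hNt]; exact subset_adjoin L t hx
    have key : ∀ (q : ℕ) [ExpChar S q] , ∃ k : ℕ,
        (⟨x, hxN⟩ : N) ^ q ^ k ∈ (algebraMap S N).range := fun q _ =>
      IsPurelyInseparable.pow_mem S q (⟨x, hxN⟩ : N)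
    have hpush : ∀ m : ℕ, (⟨x, hxN⟩ : N) ^ m ∈ (algebraMap S N).range →
        x ^ m ∈ Tgen (algebraMap T₀ Ω).fieldRange zs₁ := by
      rintro m ⟨s, hs⟩
      apply hSle
      refine ⟨s, ?_⟩
      have := congrArg (algebraMap N Ω) hs
      rw [map_pow] at this
      rw [IsScalarTower.algebraMap_apply S N Ω, this]
      rfl
    by_cases hp0 : (p : Ω) = 0
    · haveI : CharP Ω p := (CharP.charP_iff_prime_eq_zero hp.out).mpr hp0
      haveI : CharP S p := RingHom.charP (algebraMap S Ω) (algebraMap S Ω).injective p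
      haveI : ExpChar S p := ExpChar.prime hp.out
      obtain ⟨k, hk⟩ := key p
      exact ⟨k, hpush _ hk⟩
    · haveI : CharZero Ω := H.charZero_of_ne hp0
      haveI : CharZero S := (algebraMap S Ω).charZero
      haveI : ExpChar S 1 := ExpChar.zero
      obtain ⟨k, hk⟩ := key 1
      rw [one_pow] at hk
      exact ⟨0, by rw [pow_zero]; exact hpush _ hk⟩
  obtain ⟨zs₂, hzs₂, hx₂⟩ := insep_tower (p := p) ht.toFinset.toList
    (Tgen (algebraMap T₀ Ω).fieldRange zs₁) hrad
  have htower : Tower p (algebraMap T₀ Ω).fieldRange (zs₁ ++ zs₂) := hzs₁.append hzs₂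
  have hNle : ∀ x ∈ N, x ∈ Tgen (algebraMap T₀ Ω).fieldRange (zs₁ ++ zs₂) := by
    intro x hx
    have hx' : x ∈ (adjoin L t).toSubfield := by rw [hNt]; exact hx
    rw [adjoin_toSubfield] at hx'
    refine (Subfield.closure_le.mpr ?_) hx'
    rw [Tgen_append]
    rintro x (⟨a, rfl⟩ | hx)
    · apply le_Tgen
      apply le_Tgen
      exact ⟨algebraMap L T₀ a, (IsScalarTower.algebraMap_apply L T₀ Ω a).symm⟩
    · exact hx₂ x (by rw [Finset.mem_toList, Set.Finite.mem_toFinset]; exact hx)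
  -- rebase
  letI := inclAlg K₁ E hKE
  haveI := inclAlg_tower K₁ E hKE
  have hwu' : WU V (Set.range (algebraMap K₁ Ω)) (Set.range (algebraMap E Ω)) := by
    rw [range_algebraMap_IF, range_algebraMap_IF]
    exact hwu
  letI a1 : Algebra (OO V K₁) (OO V E) := (OOmap V K₁ E).toAlgebra
  letI a2 : Algebra (OO V K₁) E := ((algebraMap K₁ E).comp (algebraMap (OO V K₁) K₁)).toAlgebra
  obtain ⟨i1, i2, i3, i4, i5, i6, i7, i8, i9, H'⟩ := H.rebase K₁ E hwu'
  have hTEle : (algebraMap T₀ Ω).fieldRange ≤ (algebraMap E Ω).fieldRange := by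
    rintro _ ⟨t, rfl⟩
    rw [fieldRange_IF]
    exact hTE t
  have hsol := EppData.solvable_tower (p := p) (Ω := Ω) (V := V)
    { A := OO V K₁, B := OO V E, K := K₁, L := E, aAB := a1, aAL := a2, ctx := H' }
    (zs₁ ++ zs₂) (htower.mono hTEle)
  refine Solvable.of_rebase' K₁ E _ _ ?_ hsol
  intro x hx
  have hx' := hNle x (hMN hx)
  have hle : Tgen (algebraMap T₀ Ω).fieldRange (zs₁ ++ zs₂) ≤
      (adjoin (↥E) {z | z ∈ zs₁ ++ zs₂}).toSubfield := by
    apply sup_le
    · rintro _ ⟨t, rfl⟩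
      exact (adjoin (↥E) {z | z ∈ zs₁ ++ zs₂}).algebraMap_mem ⟨_, hTE t⟩
    · rw [Subfield.closure_le]
      intro y hy
      exact subset_adjoin (↥E) _ hy
  exact hle hx'

end ctx

end Groth.Agent.Lib.EppFinH8
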