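import Mathlib
import Groth.Prelude.Def_EtRam
import Groth.Agent.Lib.EppG3_helper8

/-!
# Finite extensions are solvable (helper8)
-/

set_option autoImplicit false
universe u

namespace Groth.Agent.Lib.EppFinH8

open IsLocalRing IntermediateField

section ctx

variable {p : ℕ} {A B K L Ω : Type u}
  [CommRing A] [IsDomain A] [IsDiscreteValuationRing A]
  [CommRing B] [IsDomain B] [IsDiscreteValuationRing B]
  [Algebra A B] [IsLocalHom (algebraMap A B)]
  [Field K] [Field L] [Algebra A K] [IsFractionRing A K] [Algebra B L] [IsFractionRing B L]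
  [Algebra K L] [Algebra A L] [IsScalarTower A K L] [IsScalarTower A B L]
  [IsAlgClosed (ResidueField A)] [CharP (ResidueField A) p]
  [IsAdicComplete (maximalIdeal A) A] [IsAdicComplete (maximalIdeal B) B]
  [Field Ω] [Algebra K Ω] [Algebra L Ω] [IsScalarTower K L Ω]
  {V : ValuationSubring Ω}

set_option maxHeartbeats 3200000 in
theorem EppCtx.solvable_finite [IsAlgClosed Ω] [hp : Fact p.Prime]
    (H : EppCtx p A B K L Ω V)
    (M₀ : IntermediateField L Ω) [FiniteDimensional L M₀] : Solvable K L V (M₀ : Set Ω) := by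
  classical
  by_cases hp0 : (p : Ω) = 0
  · exact H.solvable_finite_of_roots (fun h => absurd hp0 h) M₀
  haveI : NeZero (p : Ω) := ⟨hp0⟩
  obtain ⟨ζ, hζ⟩ := HasEnoughRootsOfUnity.exists_primitiveRoot Ω p
  have hζint : IsIntegral K ζ :=
    isIntegral_of_pow_eq (c := (1 : K)) hp.out.ne_zero (by rw [hζ.pow_eq_one, map_one])
  obtain ⟨K', hK'⟩ : ∃ K' : IntermediateField K Ω, K' = K⟮ζ⟯ := ⟨_, rfl⟩
  haveI : FiniteDimensional K K' := by rw [hK']; exact adjoin.finiteDimensional hζint
  have hζK : ζ ∈ K' := by rw [hK']; exact mem_adjoin_simple_self K ζ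
  obtain ⟨E, hE⟩ : ∃ E : IntermediateField L Ω, E = LK L K' := ⟨_, rfl⟩
  haveI : FiniteDimensional L E := by rw [hE]; exact finiteDimensional_LK K'
  have hKE : (K' : Set Ω) ⊆ E := by rw [hE]; exact subset_adjoin L _
  letI := inclAlg K' E hKE
  haveI := inclAlg_tower K' E hKE
  have hwu' : WU V (Set.range (algebraMap K' Ω)) (Set.range (algebraMap E Ω)) := by
    rw [range_algebraMap_IF, range_algebraMap_IF, hE]
    exact (H.totBC K').1
  letI a1 : Algebra (OO V K') (OO V E) := (OOmap V K' E).toAlgebra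
  letI a2 : Algebra (OO V K') E := ((algebraMap K' E).comp (algebraMap (OO V K') K')).toAlgebra
  obtain ⟨i1, i2, i3, i4, i5, i6, i7, i8, i9, H'⟩ := H.rebase K' E hwu'
  obtain ⟨M₀', hM₀'⟩ : ∃ M₀' : IntermediateField E Ω, M₀' = LK (↥E) M₀ := ⟨_, rfl⟩
  haveI : FiniteDimensional E M₀' := by rw [hM₀']; exact finiteDimensional_LK M₀
  have hζE : IsPrimitiveRoot (⟨ζ, hKE hζK⟩ : E) p :=
    IsPrimitiveRoot.of_map_of_injective (f := algebraMap E Ω) hζ (algebraMap E Ω).injective
  have hsol : Solvable (↥K') (↥E) V (M₀' : Set Ω) :=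
    H'.solvable_finite_of_roots (fun _ => ⟨_, (mem_primitiveRoots hp.out.pos).mpr hζE⟩) M₀'
  refine Solvable.of_rebase' K' E _ _ ?_ hsol
  intro z hz
  apply subset_adjoin
  rw [hM₀']
  exact subset_adjoin (↥E) _ hz

end ctx

end Groth.Agent.Lib.EppFinH8
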