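import Mathlib
import Groth.Prelude.Def_EtRam
import Groth.Agent.Lib.EppG4_helper8
import Groth.Agent.Lib.Epp10_helper8
import Groth.Agent.Lib.GRedDvr5_helper8

/-!
# From solvability inside `Ω` to a weak solution (helper8)
-/

set_option autoImplicit false
universe u

namespace Groth.Agent.Lib.EppFinH8

open IsLocalRing IntermediateField

section ctx

variable {p : ℕ} {A B K L Ω : Type u}
  [CommRing A] [IsDomain A] [IsDiscreteValuationRing A]
  [CommRing B] [IsDomain B] [IsDiscreteValuationRing B]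
  [Algebra A B] [IsLocalHom (algebraMap A B)]
  [Field K] [Field L] [Algebra A K] [IsFractionRing A K] [Algebra B L] [IsFractionRing B L]
  [Algebra K L] [Algebra A L] [IsScalarTower A K L] [IsScalarTower A B L]
  [IsAlgClosed (ResidueField A)] [CharP (ResidueField A) p]
  [IsAdicComplete (maximalIdeal A) A] [IsAdicComplete (maximalIdeal B) B]
  [Field Ω] [Algebra K Ω] [Algebra L Ω] [IsScalarTower K L Ω]
  {V : ValuationSubring Ω}

set_option maxHeartbeats 1600000 in
/-- Enlarging the solving extension. -/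
theorem EppCtx.WU_enlarge [hp : Fact p.Prime] (H : EppCtx p A B K L Ω V)
    (K₁ K₂ : IntermediateField K Ω) [FiniteDimensional K K₁] [FiniteDimensional K K₂]
    (h12 : K₁ ≤ K₂) (Z : Set Ω) [hfin : FiniteDimensional L (LKZ L K₁ Z)]
    (hwu : WU V (K₁ : Set Ω) (LKZ L K₁ Z : Set Ω)) :
    WU V (K₂ : Set Ω) (LKZ L K₂ Z : Set Ω) := by
  obtain ⟨E, hE⟩ : ∃ E : IntermediateField L Ω, E = LKZ L K₁ Z := ⟨_, rfl⟩
  rw [← hE] at hwu hfin
  have hKE : (K₁ : Set Ω) ⊆ E := by
    rw [hE]; exact fun x hx => subset_adjoin _ _ (Or.inl hx)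
  have hZE : Z ⊆ E := by
    rw [hE]; exact fun x hx => subset_adjoin _ _ (Or.inr hx)
  letI := inclAlg K₁ E hKE
  haveI := inclAlg_tower K₁ E hKE
  have hwu' : WU V (Set.range (algebraMap K₁ Ω)) (Set.range (algebraMap E Ω)) := by
    rw [range_algebraMap_IF, range_algebraMap_IF]
    exact hwu
  letI a1 : Algebra (OO V K₁) (OO V E) := (OOmap V K₁ E).toAlgebra
  letI a2 : Algebra (OO V K₁) E := ((algebraMap K₁ E).comp (algebraMap (OO V K₁) K₁)).toAlgebra
  obtain ⟨i1, i2, i3, i4, i5, i6, i7, i8, i9, H'⟩ := H.rebase K₁ E hwu'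
  obtain ⟨K₂', hK₂'⟩ : ∃ K₂' : IntermediateField K₁ Ω, K₂' = IntermediateField.extendScalars h12 :=
    ⟨_, rfl⟩
  have hcoe : (K₂' : Set Ω) = (K₂ : Set Ω) := by rw [hK₂']; rfl
  haveI : FiniteDimensional K₁ K₂' := by
    haveI : Module.Finite K K₂' := by
      rw [hK₂']
      exact (inferInstance : Module.Finite K K₂)
    exact Module.Finite.of_restrictScalars_finite K K₁ K₂'
  obtain ⟨hw, -⟩ := H'.totBC K₂'
  rw [hcoe] at hw
  refine hw.mono (fun _ hx => hx) ?_
  have : adjoin L ((K₂ : Set Ω) ∪ Z) ≤ (adjoin (↥E) (K₂' : Set Ω)).restrictScalars L := by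
    apply adjoin_le_iff.mpr
    rintro x (hx | hx)
    · show x ∈ adjoin (↥E) (K₂' : Set Ω)
      apply subset_adjoin
      rw [hcoe]; exact hx
    · show x ∈ adjoin (↥E) (K₂' : Set Ω)
      exact (adjoin (↥E) (K₂' : Set Ω)).algebraMap_mem ⟨x, hZE hx⟩
  exact this


set_option maxHeartbeats 3200000 in
/-- The bridge: from solvability inside `Ω` to a weak solution. -/
theorem EppCtx.exists_weakSolution [IsAlgClosed Ω] [hp : Fact p.Prime]
    (H : EppCtx p A B K L Ω V)
    (C M : Type u) [CommRing C] [IsLocalRing C] [Field M]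
    [Algebra C M] [Algebra B C] [IsLocalHom (algebraMap B C)]
    [Algebra L M] [Algebra K M] [IsScalarTower K L M] [FiniteDimensional L M]
    [Algebra B M] [IsScalarTower B L M] [IsScalarTower B C M]
    [Algebra M Ω] [IsScalarTower L M Ω] [IsScalarTower K M Ω] :
    ∃ (K₁ : Type u) (_ : Field K₁) (_ : Algebra K K₁), FiniteDimensional K K₁ ∧
      EtRam.IsWeakSolution C K M K₁ := by
  classical
  obtain ⟨M₀, hM₀⟩ : ∃ M₀ : IntermediateField L Ω,
    M₀ = (IsScalarTower.toAlgHom L M Ω).fieldRange := ⟨_, rfl⟩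
  haveI : FiniteDimensional L M₀ := by
    rw [hM₀]
    exact (AlgEquiv.ofInjectiveField (IsScalarTower.toAlgHom L M Ω)).toLinearEquiv.finiteDimensional
  have hMM₀ : ∀ m : M, algebraMap M Ω m ∈ M₀ := by
    intro m; rw [hM₀]; exact ⟨m, rfl⟩
  obtain ⟨K₁', hfin, hwu⟩ := H.solvable_finite M₀
  haveI := hfin
  obtain ⟨K₂, hK₂⟩ : ∃ K₂ : IntermediateField K Ω, K₂ = IntermediateField.normalClosure K K₁' Ω :=
    ⟨_, rfl⟩
  haveI : Normal K K₂ := by
    rw [hK₂]
    exact ((inferInstance : Algebra.IsAlgebraic K K₁').isNormalClosure_normalClosure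
      (fun x => IsAlgClosed.splits _)).normal
  haveI : FiniteDimensional K K₂ := by rw [hK₂]; infer_instance
  have h12 : K₁' ≤ K₂ := by rw [hK₂]; exact IntermediateField.le_normalClosure K₁'
  haveI : FiniteDimensional L (LKZ L K₁' (M₀ : Set Ω)) := by
    unfold LKZ
    rw [adjoin_union, adjoin_self]
    haveI : FiniteDimensional L (adjoin L (K₁' : Set Ω)) := finiteDimensional_LK K₁'
    exact finiteDimensional_sup _ _
  obtain ⟨ϖ, hϖK, hϖ0, hϖ1, hgen⟩ := H.WU_enlarge K₁' K₂ h12 (M₀ : Set Ω) hwu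
  refine ⟨↥K₂, inferInstance, inferInstance, inferInstance, ?_⟩
  intro M' _ _ _ _ _ _ hgenM' W hW
  haveI : FiniteDimensional M M' := GRedH8.finiteDimensional_of_adjoin K M K₂ M' hgenM'
  haveI : Algebra.IsAlgebraic M M' := Algebra.IsAlgebraic.of_finite M M'
  obtain ⟨ι⟩ : Nonempty (M' →ₐ[M] Ω) := ⟨IsAlgClosed.lift⟩
  obtain ⟨σ, hσdef⟩ : ∃ σ : K₂ →ₐ[K] Ω,
    σ = (ι.restrictScalars K).comp (IsScalarTower.toAlgHom K K₂ M') := ⟨_, rfl⟩
  have hσapp : ∀ k : K₂, σ k = ι (algebraMap K₂ M' k) := by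
    intro k; rw [hσdef]; rfl
  have hσ : σ.fieldRange = K₂ := AlgHom.fieldRange_of_normal σ
  obtain ⟨t, ht⟩ : ϖ ∈ σ.fieldRange := by rw [hσ]; exact hϖK
  replace ht : ι (algebraMap K₂ M' t) = ϖ := by rw [← hσapp]; exact ht
  -- the image of `M'` lies in the compositum
  have hC1 : ∀ x : M', ι x ∈ LKZ L K₂ (M₀ : Set Ω) := by
    intro x
    have hx : x ∈ Algebra.adjoin M (Set.range (algebraMap K₂ M')) := by
      rw [hgenM']; exact Algebra.mem_top
    induction hx using Algebra.adjoin_induction with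
    | mem y hy =>
      obtain ⟨k, rfl⟩ := hy
      apply subset_adjoin
      left
      have : σ k ∈ σ.fieldRange := ⟨k, rfl⟩
      rw [hσ, hσapp] at this
      exact this
    | algebraMap m =>
      apply subset_adjoin
      right
      rw [ι.commutes]
      exact hMM₀ m
    | add y z _ _ hy hz => rw [map_add]; exact add_mem hy hz
    | mul y z _ _ hy hz => rw [map_mul]; exact mul_mem hy hz
  -- uniqueness of the valuation ring
  letI aLM' : Algebra L M' := ((algebraMap M M').comp (algebraMap L M)).toAlgebra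
  haveI : IsScalarTower L M M' := IsScalarTower.of_algebraMap_eq (fun _ => rfl)
  letI aBM' : Algebra B M' := ((algebraMap L M').comp (algebraMap B L)).toAlgebra
  haveI : IsScalarTower B L M' := IsScalarTower.of_algebraMap_eq (fun _ => rfl)
  haveI : FiniteDimensional L M' := Module.Finite.trans M M'
  have hBM' : ∀ b : B, algebraMap B M' b = algebraMap M M' (algebraMap C M (algebraMap B C b)) := by
    intro b
    show algebraMap M M' (algebraMap L M (algebraMap B L b)) = _
    rw [← IsScalarTower.algebraMap_apply B L M, IsScalarTower.algebraMap_apply B C M]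
  have hιB : ∀ b : B, ι (algebraMap B M' b) = bΩ L Ω b := by
    intro b
    show ι (algebraMap M M' (algebraMap L M (algebraMap B L b))) = _
    rw [ι.commutes, ← IsScalarTower.algebraMap_apply L M Ω]
    rfl
  have hdomW : EtRam.Dominates B (algebraMap B M') W := by
    refine ⟨fun b => ?_, fun b hb => ?_⟩
    · rw [hBM']; exact hW.1 _
    · rw [hBM']
      apply hW.2
      rw [mem_maximalIdeal, mem_nonunits_iff] at hb ⊢
      exact fun hu => hb (isUnit_of_map_unit (algebraMap B C) b hu)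
  have hdomW' : EtRam.Dominates B (algebraMap B M') (V.comap (ι : M' →+* Ω)) := by
    refine ⟨fun b => ?_, fun b hb => ?_⟩
    · rw [ValuationSubring.mem_comap]
      show ι (algebraMap B M' b) ∈ V
      rw [hιB]
      exact H.hdom.1 b
    · rw [DvrExtH8.comap_valuation_lt_one_iff]
      show V.valuation (ι (algebraMap B M' b)) < 1
      rw [hιB]
      exact H.hdom.2 b hb
  have hint : ∀ (W₁ W₂ : ValuationSubring M'), EtRam.Dominates B (algebraMap B M') W₁ →
      EtRam.Dominates B (algebraMap B M') W₂ → ∀ x ∈ W₁, x ∈ W₂ := by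
    intro W₁ W₂ h1 h2 x hx
    obtain ⟨f, hf, hroot⟩ := isIntegral_of_mem_of_dominates B L M' W₁ h1 hx
    exact MonoLocH8.mem_of_eval₂_eq_zero W₂ (algebraMap B M') h2.1 f hf x hroot
  obtain rfl : W = V.comap (ι : M' →+* Ω) := by
    ext x
    exact ⟨hint _ _ hdomW hdomW' x, hint _ _ hdomW' hdomW x⟩
  -- the criterion
  apply EppH8.isWeaklyUnramified_comap_of_forall (algebraMap K₂ M') _ t
  · rw [DvrExtH8.comap_valuation_lt_one_iff]
    show V.valuation (ι (algebraMap K₂ M' t)) < 1
    rw [ht]; exact hϖ1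
  · intro x hx hx1
    by_cases hx0 : x = 0
    · exact ⟨0, zero_mem _, by rw [hx0, mul_zero]⟩
    rw [DvrExtH8.comap_valuation_lt_one_iff] at hx1
    replace hx1 : V.valuation (ι x) < 1 := hx1
    have hιx0 : ι x ≠ 0 := (map_ne_zero _).mpr hx0
    obtain ⟨n, hn⟩ := hgen (ι x) (hC1 x) hιx0
    have hg0 : 0 < V.valuation ϖ := val_pos_of_ne hϖ0
    have hnpos : 0 < n := by
      by_contra hcon
      push Not at hcon
      have : (1 : V.ValueGroup) ≤ V.valuation ϖ ^ n := by
        rcases hcon.eq_or_lt with h | h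
        · rw [h, zpow_zero]
        · exact (one_lt_zpow_of_neg₀ hg0 hϖ1 h).le
      rw [← hn] at this
      exact absurd hx1 (not_lt.mpr this)
    obtain ⟨m, rfl⟩ : ∃ m : ℕ, n = (m : ℤ) + 1 := ⟨(n - 1).toNat, by omega⟩
    have ht0 : algebraMap K₂ M' t ≠ 0 := by
      intro h0
      rw [h0, map_zero] at ht
      exact hϖ0 ht.symm
    refine ⟨x / algebraMap K₂ M' t, ?_, by field_simp⟩
    rw [ValuationSubring.mem_comap]
    show ι (x / algebraMap K₂ M' t) ∈ V
    rw [map_div₀, ht, ← ValuationSubring.valuation_le_one_iff, map_div₀, hn, zpow_add_one₀ hg0.ne',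
      zpow_natCast, mul_div_assoc, div_self hg0.ne', mul_one]
    exact pow_le_one' hϖ1.le m

end ctx

end Groth.Agent.Lib.EppFinH8
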