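import Mathlib
import Groth.Prelude.Def_CohCx
import Groth.Prelude.Def_WeakSerre
import Groth.Agent.Lib.TruncTower_helper7
import Groth.Agent.Lib.WayOut_helper4

/-!
# Vanishing of `Hom(Z[0], X[m])` from vanishing of `Ext^k(Z, H^q X)`, `k + q = m` (helper7)

and the consequence: a map of bounded below complexes with cohomology in a weak Serre subcategory
`P`, which is an isomorphism on cohomology in the range `[m - d - 1, m + 1]`, induces a bijection on
`Hom(Z[0], -[m])` as soon as `Ext^k(Z, F) = 0` for `F ∈ P` and `k > d`.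
-/

set_option backward.isDefEq.respectTransparency false
set_option backward.isDefEq.respectTransparency.types false
set_option linter.style.haveILetI false
set_option linter.unusedSectionVars false
set_option linter.unusedVariables false
set_option autoImplicit false
set_option maxHeartbeats 1600000
universe w'' w v' u' u
open CategoryTheory CategoryTheory.Limits Opposite DerivedCategory Pretriangulated

namespace Groth.Agent.Lib.ExtVanishH7

open Groth.Agent.Lib Groth.Agent.Lib.TruncTower_helper7

section types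

/-- in an eventually surjective inverse system every element lifts to a compatible family -/
theorem exists_compatible : ∀ (n₀ : ℕ) (A : ℕ → Type u) (f : ∀ n, A (n + 1) → A n),
    (∀ n, n₀ ≤ n → Function.Surjective (f n)) → ∀ x : A n₀,
    ∃ w : ∀ n, A n, (∀ n, f n (w (n + 1)) = w n) ∧ w n₀ = x := by
  intro n₀
  induction n₀ with
  | zero =>
    intro A f hs x
    choose pre hpre using fun n => hs n (Nat.zero_le n)
    let w : ∀ n, A n := fun n =>
      Nat.rec (motive := fun n => A n) x (fun n an => pre n an) n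
    refine ⟨w, fun n => ?_, rfl⟩
    have h1 : w (n + 1) = pre n (w n) := rfl
    rw [h1, hpre]
  | succ n₀ ih =>
    intro A f hs x
    obtain ⟨w', hw', hx'⟩ := ih (fun n => A (n + 1)) (fun n => f (n + 1))
      (fun n hn => hs (n + 1) (by omega)) x
    let w : ∀ n, A n := fun n =>
      Nat.rec (motive := fun n => A n) (f 0 (w' 0)) (fun n _ => w' n) n
    refine ⟨w, fun n => ?_, hx'⟩
    cases n with
    | zero => rfl
    | succ n => exact hw' n

end types

section tri

variable {T : Type u'} [Category.{v'} T] [Preadditive T] [HasZeroObject T] [HasShift T ℤ]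
  [∀ n : ℤ, (shiftFunctor T n).Additive] [Pretriangulated T]

/-- the map induced on `Hom(G, -[m])` by the first map of a distinguished triangle is bijective when
`Hom(G, -)` of the cone vanishes in degrees `m - 1` and `m` -/
theorem bijective_of_cone_vanish (G : T) {K' K Cn : T} (t : K' ⟶ K) (f₂ : K ⟶ Cn)
    (f₃ : Cn ⟶ K'⟦(1 : ℤ)⟧) (hT : Triangle.mk t f₂ f₃ ∈ distTriang T) (m : ℤ)
    (h1 : Subsingleton (G ⟶ Cn⟦m - 1⟧)) (h2 : Subsingleton (G ⟶ Cn⟦m⟧)) :
    Function.Bijective (fun σ : G ⟶ K'⟦m⟧ => σ ≫ t⟦m⟧') := by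
  constructor
  · intro σ σ' hσ
    have hσ' : σ ≫ t⟦m⟧' = σ' ≫ t⟦m⟧' := hσ
    have hd : (σ - σ') ≫ t⟦m⟧' = 0 := by
      rw [Preadditive.sub_comp]
      exact sub_eq_zero.2 hσ'
    have hex := (preadditiveCoyoneda.obj (op G)).homologySequence_exact₁
      _ hT (m - 1) m (by omega)
    rw [ShortComplex.ab_exact_iff] at hex
    obtain ⟨y, hy⟩ := hex (σ - σ') hd
    have hy0 : y = 0 := by
      let y' : G ⟶ Cn⟦m - 1⟧ := y
      have : y' = 0 := h1.elim _ _
      exact this
    have h3 : σ - σ' = 0 := by
      rw [← hy, hy0, map_zero]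
    exact sub_eq_zero.1 h3
  · intro τ
    have hex := (preadditiveCoyoneda.obj (op G)).homologySequence_exact₂ _ hT m
    rw [ShortComplex.ab_exact_iff] at hex
    have hτ : τ ≫ f₂⟦m⟧' = 0 := h2.elim _ _
    obtain ⟨y, hy⟩ := hex τ hτ
    exact ⟨y, hy⟩

end tri

section derived

variable {A : Type (u + 1)} [Category.{u} A] [Abelian A] [HasDerivedCategory.{w} A]

lemma subsingleton_hom_of_isZero {G X : DerivedCategory A} (hX : IsZero X) :
    Subsingleton (G ⟶ X) := ⟨fun f g => hX.eq_of_tgt f g⟩

lemma subsingleton_ext_of_isZero [HasExt.{w''} A] (Z H : A) (k : ℕ) (hH : IsZero H) :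
    Subsingleton (Abelian.Ext.{w''} Z H k) := by
  have h0 : IsZero ((singleFunctor A 0).obj H) := (singleFunctor A 0).map_isZero hH
  have h1 : IsZero (((singleFunctor A 0).obj H)⟦(k : ℤ)⟧) :=
    (shiftFunctor (DerivedCategory A) (k : ℤ)).map_isZero h0
  haveI : Subsingleton ((singleFunctor A 0).obj Z ⟶ ((singleFunctor A 0).obj H)⟦(k : ℤ)⟧) :=
    subsingleton_hom_of_isZero h1
  exact (Abelian.Ext.homEquiv (X := Z) (Y := H) (n := k)).subsingleton

lemma subsingleton_ext_of_iso_right [HasExt.{w''} A] (Z : A) {H H' : A} (e : H ≅ H') (k : ℕ)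
    (h : Subsingleton (Abelian.Ext.{w''} Z H' k)) : Subsingleton (Abelian.Ext.{w''} Z H k) := by
  haveI := h
  have h0 : Subsingleton ((singleFunctor A 0).obj Z ⟶ ((singleFunctor A 0).obj H')⟦(k : ℤ)⟧) :=
    (Abelian.Ext.homEquiv (X := Z) (Y := H') (n := k)).symm.subsingleton
  haveI h1 : Subsingleton ((singleFunctor A 0).obj Z ⟶ ((singleFunctor A 0).obj H)⟦(k : ℤ)⟧) :=
    subsingleton_hom_of_iso
      ((shiftFunctor (DerivedCategory A) (k : ℤ)).mapIso ((singleFunctor A 0).mapIso e)) h0
  exact (Abelian.Ext.homEquiv (X := Z) (Y := H) (n := k)).subsingleton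

/-- maps from an object in degree `0` to the `m`-th shift of an object which is `≥ m + 1` vanish -/
lemma subsingleton_hom_of_isGE (Z : A) (X : DerivedCategory A) (m : ℤ) (hX : X.IsGE (m + 1)) :
    Subsingleton ((singleFunctor A 0).obj Z ⟶ X⟦m⟧) := by
  haveI := hX
  haveI : tS.IsGE (X⟦m⟧) 1 := tS.isGE_shift X (m + 1) m 1 (by omega)
  exact ⟨fun f g => (tS.zero f 0 1 (by omega)).trans (tS.zero g 0 1 (by omega)).symm⟩

/-- the hypercohomology vanishing: if `Ext^k(Z, H^q X) = 0` whenever `q + k = m` and `X` is bounded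
below, then `Hom(Z[0], X[m]) = 0` -/
theorem subsingleton_hom_of_ext [HasExt.{w''} A] (Z : A) (m : ℤ) :
    ∀ (N : ℕ) (X : DerivedCategory A) (a : ℤ), X.IsGE a → m + 1 - a ≤ (N : ℤ) →
      (∀ (q : ℤ) (k : ℕ), q + (k : ℤ) = m →
        Subsingleton (Abelian.Ext.{w''} Z ((homologyFunctor A q).obj X) k)) →
      Subsingleton ((singleFunctor A 0).obj Z ⟶ X⟦m⟧) := by
  intro N
  induction N with
  | zero =>
    intro X a hXa hN _
    haveI := hXa
    exact subsingleton_hom_of_isGE Z X m (tS.isGE_of_ge X (m + 1) a (by omega))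
  | succ N ih =>
    intro X a hXa hN hX
    haveI := hXa
    by_cases ham : m + 1 ≤ a
    · exact subsingleton_hom_of_isGE Z X m (tS.isGE_of_ge X (m + 1) a ham)
    · have ham' : a ≤ m := by omega
      have hT := (tS (A := A)).triangleLTGE_distinguished (a + 1) X
      -- the truncation above
      have hGsub : Subsingleton ((singleFunctor A 0).obj Z ⟶ ((tS.truncGE (a + 1)).obj X)⟦m⟧) := by
        apply ih ((tS.truncGE (a + 1)).obj X) (a + 1) inferInstance (by push_cast at hN; omega)
        intro q k hqk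
        by_cases hq : a + 1 ≤ q
        · haveI := isIso_homology_truncGEπ X (a + 1) q hq
          exact subsingleton_ext_of_iso_right Z
            (asIso ((homologyFunctor A q).map ((tS.truncGEπ (a + 1)).app X))).symm k (hX q k hqk)
        · exact subsingleton_ext_of_isZero Z _ k
            (DerivedCategory.isZero_of_isGE ((tS.truncGE (a + 1)).obj X) (a + 1) q (by omega))
      -- the truncation below is concentrated in degree `a`
      have hzG : ∀ i : ℤ, i < a + 1 →
          IsZero ((homologyFunctor A i).obj ((tS.truncGE (a + 1)).obj X)) := fun i hi =>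
        DerivedCategory.isZero_of_isGE ((tS.truncGE (a + 1)).obj X) (a + 1) i hi
      have hzX : ∀ i : ℤ, i < a → IsZero ((homologyFunctor A i).obj X) := fun i hi =>
        DerivedCategory.isZero_of_isGE X a i hi
      have hmono : ∀ i : ℤ, i ≤ a →
          Mono ((homologyFunctor A i).map ((tS.truncLTι (a + 1)).app X)) := by
        intro i hi
        refine (HomologySequence.mono_homologyMap_mor₁_iff _ hT (i - 1) i (by omega)).2 ?_
        exact (hzG (i - 1) (by omega)).eq_of_src _ _
      haveI hLE : ((tS.truncLT (a + 1)).obj X).IsLE a := by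
        haveI h1 : (tS (A := A)).IsLE ((tS.truncLT (a + 1)).obj X) (a + 1 - 1) := inferInstance
        exact tS.isLE_of_le _ (a + 1 - 1) a (by omega)
      haveI hGE : ((tS.truncLT (a + 1)).obj X).IsGE a := by
        refine (DerivedCategory.isGE_iff _ _).2 (fun i hi => ?_)
        haveI := hmono i (by omega)
        exact IsZero.of_mono ((homologyFunctor A i).map ((tS.truncLTι (a + 1)).app X)) (hzX i hi)
      obtain ⟨Y, ⟨eF⟩⟩ :=
        DerivedCategory.exists_iso_singleFunctor_obj_of_isGE_of_isLE ((tS.truncLT (a + 1)).obj X) a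
      let e1 : (homologyFunctor A a).obj ((singleFunctor A a).obj Y) ≅ Y :=
        (homologyFunctorFactors A a).app
          ((HomologicalComplex.single A (ComplexShape.up ℤ) a).obj Y) ≪≫
        HomologicalComplex.singleObjHomologySelfIso (ComplexShape.up ℤ) a Y
      let e2 := (homologyFunctor A a).mapIso eF
      haveI := hmono a le_rfl
      haveI : Epi ((homologyFunctor A a).map ((tS.truncLTι (a + 1)).app X)) :=
        (HomologySequence.epi_homologyMap_mor₁_iff _ hT a).2
          ((hzG a (by omega)).eq_of_tgt _ _)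
      haveI : IsIso ((homologyFunctor A a).map ((tS.truncLTι (a + 1)).app X)) :=
        isIso_of_mono_of_epi _
      let e3 := asIso ((homologyFunctor A a).map ((tS.truncLTι (a + 1)).app X))
      have hk : (((m - a).toNat : ℕ) : ℤ) = m - a := Int.toNat_of_nonneg (by omega)
      have hFsub : Subsingleton ((singleFunctor A 0).obj Z ⟶ ((tS.truncLT (a + 1)).obj X)⟦m⟧) :=
        subsingleton_hom_fiber Z ((homologyFunctor A a).obj X) Y (e1.symm ≪≫ e2.symm ≪≫ e3)
          ((tS.truncLT (a + 1)).obj X) a (-a) m (m - a).toNat (by omega) (by omega) eF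
          (hX a (m - a).toNat (by omega))
      refine ⟨fun f g => ?_⟩
      have key : ∀ f : (singleFunctor A 0).obj Z ⟶ X⟦m⟧, f = 0 := by
        intro f
        have hex := (preadditiveCoyoneda.obj (op ((singleFunctor A 0).obj Z))).homologySequence_exact₂
          _ hT m
        rw [ShortComplex.ab_exact_iff] at hex
        have hf : f ≫ ((tS.truncGEπ (a + 1)).app X)⟦m⟧' = 0 := hGsub.elim _ _
        obtain ⟨y, hy⟩ := hex f hf
        let y' : (singleFunctor A 0).obj Z ⟶ ((tS.truncLT (a + 1)).obj X)⟦m⟧ := y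
        have hy' : y' ≫ ((tS.truncLTι (a + 1)).app X)⟦m⟧' = f := hy
        have hy0 : y' = 0 := hFsub.elim _ _
        exact hy'.symm.trans ((congrArg (fun z => z ≫ ((tS.truncLTι (a + 1)).app X)⟦m⟧') hy0).trans
          zero_comp)
      exact (key f).trans (key g).symm

/-- Step 2: bijectivity on `Hom(Z[0], -[m])` from isomorphisms on cohomology in a range -/
theorem bijective_rightComp_of_isIso_homology [HasExt.{w''} A] (P : ObjectProperty A)
    [WSerre.IsWeakSerre P] (Z : A) (d : ℕ)
    (hZ : ∀ F : A, P F → ∀ k : ℕ, d < k → Subsingleton (Abelian.Ext.{w''} Z F k))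
    {K' K : DerivedCategory A} (t : K' ⟶ K) (hK' : WSerre.cohInPlus P K')
    (hK : WSerre.cohInPlus P K) (m : ℤ)
    (hiso : ∀ q : ℤ, m - d - 1 ≤ q → q ≤ m + 1 → IsIso ((homologyFunctor A q).map t)) :
    Function.Bijective (fun σ : (singleFunctor A 0).obj Z ⟶ K'⟦m⟧ => σ ≫ t⟦m⟧') := by
  obtain ⟨Cn, f₂, f₃, hT⟩ := distinguished_cocone_triangle t
  have hCn : WSerre.cohIn P Cn :=
    (WSerre.cohIn P).ext_of_isTriangulatedClosed₃ _ hT hK'.1 hK.1
  obtain ⟨a', ha'⟩ := hK'.2
  obtain ⟨a, ha⟩ := hK.2
  haveI := ha'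
  haveI := ha
  -- the cone is bounded below
  have hzero : ∀ q : ℤ, (homologyFunctor A q).map f₂ = 0 →
      HomologySequence.δ (Triangle.mk t f₂ f₃) q (q + 1) rfl = 0 →
      IsZero ((homologyFunctor A q).obj Cn) := by
    intro q h1 h2
    exact (HomologySequence.exact₃ _ hT q (q + 1) rfl).isZero_of_both_zeros h1 h2
  haveI hCnGE : Cn.IsGE (min a (a' - 1)) := by
    refine (DerivedCategory.isGE_iff _ _).2 (fun i hi => ?_)
    apply hzero i
    · exact (DerivedCategory.isZero_of_isGE K a i (lt_of_lt_of_le hi (min_le_left _ _))).eq_of_src _ _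
    · exact (DerivedCategory.isZero_of_isGE K' a' (i + 1)
        (by have := lt_of_lt_of_le hi (min_le_right _ _); omega)).eq_of_tgt _ _
  -- vanishing of the cohomology of the cone in the range
  have hvan : ∀ q : ℤ, m - d - 1 ≤ q → q ≤ m → IsZero ((homologyFunctor A q).obj Cn) := by
    intro q hq1 hq2
    apply hzero q
    · haveI := hiso q hq1 (by omega)
      exact (HomologySequence.epi_homologyMap_mor₁_iff _ hT q).1
        (inferInstance : Epi ((homologyFunctor A q).map t))
    · haveI := hiso (q + 1) (by omega) (by omega)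
      exact (HomologySequence.mono_homologyMap_mor₁_iff _ hT q (q + 1) rfl).1
        (inferInstance : Mono ((homologyFunctor A (q + 1)).map t))
  have hsub : ∀ m' : ℤ, m - 1 ≤ m' → m' ≤ m →
      Subsingleton ((singleFunctor A 0).obj Z ⟶ Cn⟦m'⟧) := by
    intro m' hm1 hm2
    apply subsingleton_hom_of_ext Z m' (m' + 1 - min a (a' - 1)).toNat Cn (min a (a' - 1)) hCnGE
      (Int.self_le_toNat _)
    intro q k hqk
    by_cases hk : d < k
    · exact hZ _ (hCn q) k hk
    · exact subsingleton_ext_of_isZero Z _ k (hvan q (by omega) (by omega))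
  exact bijective_of_cone_vanish ((singleFunctor A 0).obj Z) t f₂ f₃ hT m
    (hsub (m - 1) le_rfl (by omega)) (hsub m (by omega) le_rfl)

end derived

end Groth.Agent.Lib.ExtVanishH7
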