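import Mathlib
import Groth.Agent.Lib.ModTest_helper7
import Groth.Agent.Lib.HDSheaf_helper7

/-!
# Sections of the cohomology sheaves of a complex of sheaves of modules, through test objects (helper7)

For `L` in the derived category of sheaves of modules on a small ringed site, every section of
`H⁰(L)` over `U` is locally of the form `etaApp σ` for `σ : PM R V [0] ⟶ L`, and `σ` with
`etaApp σ = 0` vanishes locally.
-/

set_option backward.isDefEq.respectTransparency false
set_option backward.isDefEq.respectTransparency.types false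
set_option linter.style.haveILetI false
set_option linter.unusedSectionVars false
set_option linter.unusedVariables false
set_option autoImplicit false
set_option maxHeartbeats 1600000
universe w u
open CategoryTheory Limits Opposite

namespace Groth.Agent.Lib.ModHDH7

open Groth.Agent.Lib Groth.Agent.Lib.ModTestH7 Groth.Agent.Lib.HDSheaf_helper7

section Gen

variable {A : Type*} [Category A] [Abelian A] [HasDerivedCategory.{w} A]

open DerivedCategory

/-- `H⁰(X[0]) ≅ X` -/
noncomputable def sigG (X : A) :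
    (homologyFunctor A 0).obj ((singleFunctor A 0).obj X) ≅ X :=
  (homologyFunctorFactors A 0).app ((CochainComplex.singleFunctor A 0).obj X) ≪≫
    HomologicalComplex.singleObjHomologySelfIso (ComplexShape.up ℤ) 0 X

lemma sigG_hom_naturality {X Y : A} (g : X ⟶ Y) :
    (homologyFunctor A 0).map ((singleFunctor A 0).map g) ≫ (sigG Y).hom = (sigG X).hom ≫ g := by
  have h1 := homologyFunctorFactors_hom_naturality
    ((CochainComplex.singleFunctor A 0).map g) 0
  have h2 := HomologicalComplex.singleObjHomologySelfIso_hom_naturality (ComplexShape.up ℤ) 0 g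
  show (homologyFunctor A 0).map (Q.map ((CochainComplex.singleFunctor A 0).map g)) ≫
    ((homologyFunctorFactors A 0).hom.app ((CochainComplex.singleFunctor A 0).obj Y) ≫
      (HomologicalComplex.singleObjHomologySelfIso (ComplexShape.up ℤ) 0 Y).hom) =
    ((homologyFunctorFactors A 0).hom.app ((CochainComplex.singleFunctor A 0).obj X) ≫
      (HomologicalComplex.singleObjHomologySelfIso (ComplexShape.up ℤ) 0 X).hom) ≫ g
  refine (Category.assoc _ _ _).symm.trans ?_
  refine (congrArg (fun t => t ≫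
    (HomologicalComplex.singleObjHomologySelfIso (ComplexShape.up ℤ) 0 Y).hom) h1).trans ?_
  refine (Category.assoc _ _ _).trans ?_
  refine (congrArg (fun t => (homologyFunctorFactors A 0).hom.app
    ((CochainComplex.singleFunctor A 0).obj X) ≫ t) h2).trans ?_
  exact (Category.assoc _ _ _).symm

lemma sigG_inv_factors (X : A) :
    (sigG X).inv ≫ (homologyFunctorFactors A 0).hom.app
      ((CochainComplex.singleFunctor A 0).obj X) =
    (HomologicalComplex.singleObjHomologySelfIso (ComplexShape.up ℤ) 0 X).inv := by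
  show ((HomologicalComplex.singleObjHomologySelfIso (ComplexShape.up ℤ) 0 X).inv ≫
    ((homologyFunctorFactors A 0).app
      ((CochainComplex.singleFunctor A 0).obj X)).inv) ≫
    ((homologyFunctorFactors A 0).app
      ((CochainComplex.singleFunctor A 0).obj X)).hom = _
  exact (Category.assoc _ _ _).trans ((congrArg
    (fun t => (HomologicalComplex.singleObjHomologySelfIso (ComplexShape.up ℤ) 0 X).inv ≫ t)
    (((homologyFunctorFactors A 0).app
      ((CochainComplex.singleFunctor A 0).obj X)).inv_hom_id)).trans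
    (Category.comp_id _))

lemma sigG_inv_naturality {X Y : A} (g : X ⟶ Y) :
    (sigG X).inv ≫ (homologyFunctor A 0).map ((singleFunctor A 0).map g) = g ≫ (sigG Y).inv := by
  rw [Iso.inv_comp_eq, ← Category.assoc, Iso.eq_comp_inv, sigG_hom_naturality]

end Gen

section Der

variable {C : Type u} [SmallCategory C] {J : GrothendieckTopology C} (R : Sheaf J RingCat.{u})
  [HasDerivedCategory.{w} (SheafOfModules.{u} R)]

open DerivedCategory

/-- the test object in degree zero of the derived category -/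
noncomputable abbrev TD (U : C) : DerivedCategory (SheafOfModules.{u} R) :=
  (singleFunctor (SheafOfModules.{u} R) 0).obj ((PM R).obj U)

/-- the transition maps of the test objects -/
noncomputable abbrev TDmap {U V : C} (g : V ⟶ U) : TD R V ⟶ TD R U :=
  (singleFunctor (SheafOfModules.{u} R) 0).map ((PM R).map g)

lemma TDmap_comp {U V W : C} (g' : W ⟶ V) (g : V ⟶ U) :
    TDmap R (g' ≫ g) = TDmap R g' ≫ TDmap R g := by
  show (singleFunctor (SheafOfModules.{u} R) 0).map ((PM R).map (g' ≫ g)) = _
  rw [(PM R).map_comp, ((singleFunctor (SheafOfModules.{u} R) 0)).map_comp]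

/-- the `0`-th cohomology sheaf, as an abelian sheaf -/
noncomputable abbrev H0ab (L : DerivedCategory (SheafOfModules.{u} R)) :
    Sheaf J AddCommGrpCat.{u} :=
  ab R ((homologyFunctor (SheafOfModules.{u} R) 0).obj L)

noncomputable def etaApp (L : DerivedCategory (SheafOfModules.{u} R)) (U : C) :
    (TD R U ⟶ L) →+ (H0ab R L).obj.obj (op U) :=
  (evM R U _).toAddMonoidHom.comp ((Preadditive.leftComp _ (sigG ((PM R).obj U)).inv).comp
    ((homologyFunctor (SheafOfModules.{u} R) 0).mapAddHom))

lemma etaApp_apply (L : DerivedCategory (SheafOfModules.{u} R)) (U : C) (φ : TD R U ⟶ L) :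
    etaApp R L U φ = evM R U _
      ((sigG ((PM R).obj U)).inv ≫ (homologyFunctor (SheafOfModules.{u} R) 0).map φ) := rfl

lemma etaApp_naturality (L : DerivedCategory (SheafOfModules.{u} R)) {U V : C} (g : V ⟶ U)
    (φ : TD R U ⟶ L) :
    etaApp R L V (TDmap R g ≫ φ) = ((H0ab R L).obj.map g.op).hom (etaApp R L U φ) := by
  rw [etaApp_apply, etaApp_apply]
  have h := sigG_inv_naturality ((PM R).map g)
  have h' : (sigG ((PM R).obj V)).inv ≫ (homologyFunctor (SheafOfModules.{u} R) 0).map
      (TDmap R g ≫ φ) =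
      (PM R).map g ≫ ((sigG ((PM R).obj U)).inv ≫
        (homologyFunctor (SheafOfModules.{u} R) 0).map φ) :=
    (congrArg (fun t => (sigG ((PM R).obj V)).inv ≫ t)
      ((homologyFunctor (SheafOfModules.{u} R) 0).map_comp (TDmap R g) φ)).trans
      ((Category.assoc _ _ _).symm.trans ((congrArg (fun t => t ≫
        (homologyFunctor (SheafOfModules.{u} R) 0).map φ) h).trans (Category.assoc _ _ _)))
  refine (congrArg (evM R V _) h').trans ?_
  exact evM_map_comp R g _ _

lemma etaApp_comp {M M' : DerivedCategory (SheafOfModules.{u} R)} (β : M ⟶ M') (U : C)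
    (φ : TD R U ⟶ M) :
    etaApp R M' U (φ ≫ β) =
      (((SheafOfModules.toSheaf R).map
        ((homologyFunctor (SheafOfModules.{u} R) 0).map β)).hom.app (op U)).hom
        (etaApp R M U φ) := by
  rw [etaApp_apply, etaApp_apply]
  have h' : (sigG ((PM R).obj U)).inv ≫ (homologyFunctor (SheafOfModules.{u} R) 0).map (φ ≫ β) =
      ((sigG ((PM R).obj U)).inv ≫ (homologyFunctor (SheafOfModules.{u} R) 0).map φ) ≫
        (homologyFunctor (SheafOfModules.{u} R) 0).map β :=
    (congrArg (fun t => (sigG ((PM R).obj U)).inv ≫ t)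
      ((homologyFunctor (SheafOfModules.{u} R) 0).map_comp φ β)).trans
      (Category.assoc _ _ _).symm
  refine (congrArg (evM R U _) h').trans ?_
  exact evM_comp R U _ _

theorem eta_locSurj (L' : CochainComplex (SheafOfModules.{u} R) ℤ) (U : C)
    (s : (H0ab R (Q.obj L')).obj.obj (op U)) :
    ∃ S ∈ J U, ∀ ⦃V : C⦄ (i : V ⟶ U), S i →
      ∃ σ : TD R V ⟶ Q.obj L',
        etaApp R (Q.obj L') V σ = ((H0ab R (Q.obj L')).obj.map i.op).hom s := by
  obtain ⟨s₀, hs₀⟩ : ∃ s₀ : (PM R).obj U ⟶
      (homologyFunctor (SheafOfModules.{u} R) 0).obj (Q.obj L'), evM R U _ s₀ = s :=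
    ⟨ofSectM R U _ s, evM_ofSectM R U _ s⟩
  let τ := (homologyFunctorFactors (SheafOfModules.{u} R) 0).app L'
  obtain ⟨S, hS, hS'⟩ := locLiftM R (L'.homologyπ 0) (s₀ ≫ τ.hom)
  refine ⟨S, hS, fun V i hi => ?_⟩
  obtain ⟨t, ht⟩ := hS' i hi
  have hc : (t ≫ L'.iCycles 0) ≫ L'.d 0 1 = 0 := by simp
  obtain ⟨gg, hgg⟩ : ∃ gg, gg = fromSingle (t ≫ L'.iCycles 0) hc := ⟨_, rfl⟩
  refine ⟨Q.map gg, ?_⟩
  refine (etaApp_apply R _ V _).trans ?_
  have hres : evM R V _ ((PM R).map i ≫ s₀) =
      ((H0ab R (Q.obj L')).obj.map i.op).hom s := by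
    rw [evM_map_comp, hs₀]
  refine Eq.trans ?_ hres
  have h1 := homologyFunctorFactors_hom_naturality gg 0
  have h2 : (HomologicalComplex.singleObjHomologySelfIso (ComplexShape.up ℤ) 0
      ((PM R).obj V)).inv ≫
      HomologicalComplex.homologyMap gg 0 = t ≫ L'.homologyπ 0 := by
    rw [hgg, homologyMap_fromSingle]
    congr 1
    rw [← cancel_mono (L'.iCycles 0), HomologicalComplex.liftCycles_i]
  have key : ((sigG ((PM R).obj V)).inv ≫
      (homologyFunctor (SheafOfModules.{u} R) 0).map (Q.map gg)) ≫ τ.hom =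
      ((PM R).map i ≫ s₀) ≫ τ.hom := by
    refine (Category.assoc _ _ _).trans ?_
    refine (congrArg (fun x => (sigG ((PM R).obj V)).inv ≫ x) h1).trans ?_
    refine (Category.assoc _ _ _).symm.trans ?_
    refine (congrArg (fun x => x ≫ HomologicalComplex.homologyMap gg 0)
      (sigG_inv_factors ((PM R).obj V))).trans ?_
    refine h2.trans ?_
    exact ht.symm.trans (Category.assoc _ _ _).symm
  exact congrArg (evM R V _) ((cancel_mono τ.hom).1 key)

theorem eta_ker (L' : CochainComplex (SheafOfModules.{u} R) ℤ) (U : C)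
    (φ : TD R U ⟶ Q.obj L') (hφ : etaApp R (Q.obj L') U φ = 0) :
    ∃ S ∈ J U, ∀ ⦃V : C⦄ (i : V ⟶ U), S i → TDmap R i ≫ φ = 0 := by
  have h1 : (homologyFunctor (SheafOfModules.{u} R) 0).map φ = 0 := by
    have h0 : (sigG ((PM R).obj U)).inv ≫
        (homologyFunctor (SheafOfModules.{u} R) 0).map φ = 0 := by
      apply hom_ext_evM
      rw [map_zero]
      exact hφ
    rw [← cancel_epi (sigG ((PM R).obj U)).inv, h0, comp_zero]
  obtain ⟨L'', g, s, hs, rfl⟩ := DerivedCategory.left_fac
    (X := (CochainComplex.singleFunctor (SheafOfModules.{u} R) 0).obj ((PM R).obj U)) (Y := L') φ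
  haveI := hs
  have h2 : (homologyFunctor (SheafOfModules.{u} R) 0).map (Q.map g) = 0 := by
    have h1' := ((homologyFunctor (SheafOfModules.{u} R) 0).map_comp (Q.map g)
      (inv (Q.map s))).symm.trans h1
    exact (cancel_mono ((homologyFunctor (SheafOfModules.{u} R) 0).map (inv (Q.map s)))).1
      (h1'.trans zero_comp.symm)
  have h3 : HomologicalComplex.homologyMap g 0 = 0 := by
    have h := homologyFunctorFactors_hom_naturality g 0
    rw [h2, zero_comp] at h
    exact (cancel_epi ((homologyFunctorFactors (SheafOfModules.{u} R) 0).hom.app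
      ((CochainComplex.singleFunctor (SheafOfModules.{u} R) 0).obj ((PM R).obj U)))).1
      (h.symm.trans comp_zero.symm)
  let c : (PM R).obj U ⟶ L''.X 0 :=
    (HomologicalComplex.singleObjXSelf (ComplexShape.up ℤ) 0 ((PM R).obj U)).inv ≫ g.f 0
  have hc : c ≫ L''.d 0 1 = 0 := by
    have h : g.f 0 ≫ L''.d 0 1 = 0 :=
      (g.comm 0 1).trans ((congrArg (fun x => x ≫ g.f 1)
        (HomologicalComplex.single_obj_d (c := ComplexShape.up ℤ) 0 ((PM R).obj U) 0 1)).trans
          zero_comp)
    show ((HomologicalComplex.singleObjXSelf (ComplexShape.up ℤ) 0 ((PM R).obj U)).inv ≫ g.f 0) ≫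
      L''.d 0 1 = 0
    exact (Category.assoc _ _ _).trans ((congrArg (fun t =>
      (HomologicalComplex.singleObjXSelf (ComplexShape.up ℤ) 0 ((PM R).obj U)).inv ≫ t) h).trans
        comp_zero)
  have hg : g = fromSingle c hc := by
    apply HomologicalComplex.from_single_hom_ext
    rw [HomologicalComplex.mkHomFromSingle_f]
    simp [c]
  have h4 : L''.liftCycles c 1 (by simp) hc ≫ L''.homologyπ 0 = 0 := by
    refine (homologyMap_fromSingle c hc).symm.trans ?_
    rw [← hg]
    exact (congrArg (fun x => _ ≫ x) h3).trans comp_zero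
  let T : ShortComplex (SheafOfModules.{u} R) :=
    ShortComplex.mk (L''.toCycles (-1) 0) (L''.homologyπ 0) (by simp)
  have hT : T.Exact :=
    ShortComplex.exact_of_g_is_cokernel _ (L''.homologyIsCokernel (-1) 0 (by simp))
  obtain ⟨A', π', hπ', x₁, fac⟩ :=
    hT.exact_up_to_refinements (L''.liftCycles c 1 (by simp) hc) h4
  haveI : Epi π' := hπ'
  obtain ⟨S, hS, hS'⟩ := locLiftM R π' (𝟙 ((PM R).obj U))
  refine ⟨S, hS, fun V i hi => ?_⟩
  obtain ⟨t, ht⟩ := hS' i hi
  rw [Category.comp_id] at ht
  have hw : (t ≫ x₁) ≫ L''.d (-1) 0 = (PM R).map i ≫ c := by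
    have fac' : π' ≫ L''.liftCycles c 1 (by simp) hc = x₁ ≫ L''.toCycles (-1) 0 := fac
    have e2 : x₁ ≫ L''.d (-1) 0 = π' ≫ c := by
      rw [← HomologicalComplex.toCycles_i L'' (-1) 0, ← Category.assoc]
      refine (congrArg (fun x => x ≫ L''.iCycles 0) fac'.symm).trans ?_
      rw [Category.assoc, HomologicalComplex.liftCycles_i]
    rw [Category.assoc, e2, ← Category.assoc, ← ht]
  have h5 : (CochainComplex.singleFunctor (SheafOfModules.{u} R) 0).map
      ((PM R).map i) ≫ g = fromSingle ((t ≫ x₁) ≫ L''.d (-1) 0) (by simp) := by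
    apply HomologicalComplex.from_single_hom_ext
    rw [HomologicalComplex.mkHomFromSingle_f, hw, HomologicalComplex.comp_f]
    erw [HomologicalComplex.single_map_f_self]
    simp only [c]
    exact (Category.assoc _ _ _).trans (congrArg (fun t => _ ≫ t) (Category.assoc _ _ _))
  have h6 : Q.map (fromSingle ((t ≫ x₁) ≫ L''.d (-1) 0) (by simp)) = 0 :=
    (DerivedCategory.Q_map_eq_of_homotopy _ (nullHomotopyFromSingle (t ≫ x₁))).trans
      (Functor.map_zero _ _ _)
  show Q.map ((CochainComplex.singleFunctor (SheafOfModules.{u} R) 0).map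
      ((PM R).map i)) ≫ Q.map g ≫ inv (Q.map s) = 0
  refine (Category.assoc _ _ _).symm.trans ?_
  exact (congrArg (fun x => x ≫ inv (Q.map s)) ((Q.map_comp _ _).symm.trans
    ((congrArg (fun x => Q.map x) h5).trans h6))).trans zero_comp

/-- sections of `H⁰(M)` are locally of the form `etaApp σ` -/
lemma locSurj (M : DerivedCategory (SheafOfModules.{u} R)) (U : C)
    (s : (H0ab R M).obj.obj (op U)) :
    ∃ S ∈ J U, ∀ ⦃V : C⦄ (i : V ⟶ U), S i →
      ∃ σ : TD R V ⟶ M, etaApp R M V σ = ((H0ab R M).obj.map i.op).hom s := by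
  let L' := (Q : CochainComplex (SheafOfModules.{u} R) ℤ ⥤ _).objPreimage M
  let e : Q.obj L' ≅ M := Q.objObjPreimageIso M
  let s₀ := (((SheafOfModules.toSheaf R).map
    ((homologyFunctor (SheafOfModules.{u} R) 0).map e.inv)).hom.app (op U)).hom s
  obtain ⟨S, hS, hS'⟩ := eta_locSurj R L' U s₀
  refine ⟨S, hS, fun V i hi => ?_⟩
  obtain ⟨σ₀, hσ₀⟩ := hS' i hi
  refine ⟨σ₀ ≫ e.hom, ?_⟩
  rw [etaApp_comp, hσ₀]
  have hnat := ConcreteCategory.congr_hom
    (((SheafOfModules.toSheaf R).map
      ((homologyFunctor (SheafOfModules.{u} R) 0).map e.hom)).hom.naturality i.op) s₀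
  refine hnat.trans ?_
  have hid : (SheafOfModules.toSheaf R).map
        ((homologyFunctor (SheafOfModules.{u} R) 0).map e.inv) ≫
      (SheafOfModules.toSheaf R).map
        ((homologyFunctor (SheafOfModules.{u} R) 0).map e.hom) = 𝟙 _ := by
    rw [← CategoryTheory.Functor.map_comp, ← CategoryTheory.Functor.map_comp, e.inv_hom_id,
      CategoryTheory.Functor.map_id, CategoryTheory.Functor.map_id]
  have hid' := congrArg (fun κ : H0ab R M ⟶ H0ab R M => (κ.hom.app (op U)).hom s) hid
  exact congrArg ((H0ab R M).obj.map i.op).hom hid'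

/-- a map from a test object inducing the zero section vanishes locally -/
lemma locKer (M : DerivedCategory (SheafOfModules.{u} R)) (U : C)
    (σ : TD R U ⟶ M) (h : etaApp R M U σ = 0) :
    ∃ S ∈ J U, ∀ ⦃V : C⦄ (i : V ⟶ U), S i → TDmap R i ≫ σ = 0 := by
  let L' := (Q : CochainComplex (SheafOfModules.{u} R) ℤ ⥤ _).objPreimage M
  let e : Q.obj L' ≅ M := Q.objObjPreimageIso M
  have h0 : etaApp R (Q.obj L') U (σ ≫ e.inv) = 0 := by
    rw [etaApp_comp, h, map_zero]
  obtain ⟨S, hS, hS'⟩ := eta_ker R L' U (σ ≫ e.inv) h0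
  refine ⟨S, hS, fun V i hi => ?_⟩
  have h1 := hS' i hi
  have h2 : TDmap R i ≫ σ = (TDmap R i ≫ σ ≫ e.inv) ≫ e.hom := by simp
  rw [h2, h1, zero_comp]

end Der

end Groth.Agent.Lib.ModHDH7
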