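import Mathlib
import Groth.Agent.Lib.ModHD_helper7
import Groth.Agent.Lib.RlimInj_helper7
import Groth.Agent.Lib.TruncRlim_helper7

/-!
# Local criteria for maps of cohomology sheaves of complexes of modules on a ringed site (helper7)
-/

set_option backward.isDefEq.respectTransparency false
set_option backward.isDefEq.respectTransparency.types false
set_option linter.style.haveILetI false
set_option linter.unusedSectionVars false
set_option linter.unusedVariables false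
set_option autoImplicit false
set_option maxHeartbeats 1600000
universe w u
open CategoryTheory CategoryTheory.Limits Opposite DerivedCategory Pretriangulated

namespace Groth.Agent.Lib.ModRlimInjH7

open Groth.Agent.Lib Groth.Agent.Lib.ModTestH7 Groth.Agent.Lib.ModHDH7

variable {C : Type u} [SmallCategory C] {J : GrothendieckTopology C}

/-! ### A criterion for abelian sheaves -/

lemma eq_zero_of_cover' (F : Sheaf J AddCommGrpCat.{u}) {V : C} (S : Sieve V) (hS : S ∈ J V)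
    (s : F.obj.obj (op V))
    (h : ∀ ⦃W : C⦄ (g : W ⟶ V), S g → (F.obj.map g.op).hom s = 0) : s = 0 := by
  have h1 : Presheaf.IsSheaf J (F.obj ⋙ forget AddCommGrpCat.{u}) :=
    (Presheaf.isSheaf_iff_isSheaf_forget J F.obj (forget AddCommGrpCat.{u})).1 F.property
  have h2 : Presieve.IsSheaf J (F.obj ⋙ forget AddCommGrpCat.{u}) :=
    (isSheaf_iff_isSheaf_of_type _ _).1 h1
  refine (h2 S hS).isSeparatedFor.ext (fun W g hg => ?_)
  exact (h g hg).trans (map_zero (F.obj.map g.op).hom).symm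

theorem isIso_of_inj_locSurj {P Q : Sheaf J AddCommGrpCat.{u}} (ψ : P ⟶ Q) (B : Set C)
    (hB : ∀ U : C, ∃ (ι : Type u) (Y : ι → C) (f : ∀ i, Y i ⟶ U),
      Sieve.ofArrows Y f ∈ J U ∧ ∀ i, Y i ∈ B)
    (hinj : ∀ V ∈ B, ∀ s : P.obj.obj (op V), (ψ.hom.app (op V)).hom s = 0 → s = 0)
    (hsurj : ∀ V ∈ B, ∀ s' : Q.obj.obj (op V), ∃ S ∈ J V, ∀ ⦃W : C⦄ (g : W ⟶ V), S g →
      ∃ x : P.obj.obj (op W), (ψ.hom.app (op W)).hom x = (Q.obj.map g.op).hom s') :
    IsIso ψ := by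
  have hinj' : ∀ U : C, Function.Injective (ψ.hom.app (op U)).hom := by
    intro U
    refine (injective_iff_map_eq_zero (ψ.hom.app (op U)).hom).2 (fun s hs => ?_)
    obtain ⟨ι, Y, f, hcov, hY⟩ := hB U
    apply eq_zero_of_cover' P (Sieve.ofArrows Y f) hcov s
    intro W g hg
    obtain ⟨i, b, rfl⟩ := (Sieve.mem_ofArrows_iff _ _ g).1 hg
    have h1 : (P.obj.map (f i).op).hom s = 0 := by
      apply hinj (Y i) (hY i)
      have hnat := ConcreteCategory.congr_hom (ψ.hom.naturality (f i).op) s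
      refine hnat.trans ?_
      exact (congrArg (Q.obj.map (f i).op).hom hs).trans (map_zero _)
    have h2 := ConcreteCategory.congr_hom (P.obj.map_comp (f i).op b.op) s
    refine h2.trans ?_
    exact (congrArg (P.obj.map b.op).hom h1).trans (map_zero _)
  haveI : Mono ψ := by
    haveI : ∀ X : Cᵒᵖ, Mono (ψ.hom.app X) := fun X =>
      (AddCommGrpCat.mono_iff_injective _).2 (hinj' X.unop)
    haveI : Mono ψ.hom := NatTrans.mono_of_mono_app _
    exact Sheaf.Hom.mono_of_presheaf_mono J _ ψ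
  haveI : Presheaf.IsLocallySurjective J ψ.hom := by
    refine ⟨fun {U} s => ?_⟩
    obtain ⟨ι, Y, fY, hcov, hYB⟩ := hB U
    refine J.transitive hcov _ (fun W g hg => ?_)
    obtain ⟨i, a, rfl⟩ := (Sieve.mem_ofArrows_iff _ _ g).1 hg
    obtain ⟨S, hS, hS'⟩ := hsurj (Y i) (hYB i) ((Q.obj.map (fY i).op).hom s)
    have hS2 : S.pullback a ∈ J W := J.pullback_stable a hS
    refine J.superset_covering ?_ hS2
    intro W' g' hg'
    obtain ⟨x, hx⟩ := hS' (g' ≫ a) hg'
    refine ⟨x, ?_⟩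
    refine hx.trans ?_
    have e1 := ConcreteCategory.congr_hom (Q.obj.map_comp (fY i).op (g' ≫ a).op) s
    refine e1.symm.trans ?_
    have e2 : (fY i).op ≫ (g' ≫ a).op = (g' ≫ a ≫ fY i).op := by
      rw [← op_comp, Category.assoc]
    rw [e2]
  haveI : Epi ψ := (Sheaf.isLocallySurjective_iff_epi' _ ψ).1 inferInstance
  exact isIso_of_mono_of_epi ψ

variable (R : Sheaf J RingCat.{u}) [HasDerivedCategory.{w} (SheafOfModules.{u} R)]

/-- the map induced on the `0`-th cohomology sheaves, as a map of abelian sheaves -/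
noncomputable abbrev H0map {M M' : DerivedCategory (SheafOfModules.{u} R)} (α : M ⟶ M') :
    H0ab R M ⟶ H0ab R M' :=
  (SheafOfModules.toSheaf R).map ((homologyFunctor (SheafOfModules.{u} R) 0).map α)

/-- the key injectivity statement for `H⁰` -/
theorem inj_H0 {M M' : DerivedCategory (SheafOfModules.{u} R)} (α : M ⟶ M') (V : C)
    (hkey : ∀ T ∈ J V, ∃ (ι : Type u) (Y : ι → C) (f : ∀ i, Y i ⟶ V), (∀ i, T.arrows (f i)) ∧
      Sieve.ofArrows Y f ∈ J V ∧ ∀ i, ∀ σ : TD R (Y i) ⟶ M, σ ≫ α = 0 → σ = 0)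
    (s : (H0ab R M).obj.obj (op V))
    (hs : ((H0map R α).hom.app (op V)).hom s = 0) : s = 0 := by
  let T : Sieve V :=
    { arrows := fun W g => ∃ σ : TD R W ⟶ M,
        etaApp R M W σ = ((H0ab R M).obj.map g.op).hom s ∧ σ ≫ α = 0
      downward_closed := by
        rintro W W' g ⟨σ, h1, h2⟩ g'
        refine ⟨TDmap R g' ≫ σ, ?_, ?_⟩
        · rw [etaApp_naturality, h1]
          exact (ConcreteCategory.congr_hom ((H0ab R M).obj.map_comp g.op g'.op) s).symm
        · rw [Category.assoc, h2, comp_zero] }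
  have hT : T ∈ J V := by
    obtain ⟨S₁, hS₁, hS₁'⟩ := locSurj R M V s
    refine J.transitive hS₁ T (fun W g hg => ?_)
    obtain ⟨σ, hσ⟩ := hS₁' g hg
    have h0 : etaApp R M' W (σ ≫ α) = 0 := by
      rw [etaApp_comp, hσ]
      have hnat := ConcreteCategory.congr_hom ((H0map R α).hom.naturality g.op) s
      refine hnat.trans ?_
      exact (congrArg ((H0ab R M').obj.map g.op).hom hs).trans (map_zero _)
    obtain ⟨S₂, hS₂, hS₂'⟩ := locKer R M' W (σ ≫ α) h0
    refine J.superset_covering ?_ hS₂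
    intro W' g' hg'
    refine ⟨TDmap R g' ≫ σ, ?_, ?_⟩
    · rw [etaApp_naturality, hσ]
      exact (ConcreteCategory.congr_hom ((H0ab R M).obj.map_comp g.op g'.op) s).symm
    · rw [Category.assoc]
      exact hS₂' g' hg'
  obtain ⟨ι, Y, f, hfT, hcov, hY⟩ := hkey T hT
  apply eq_zero_of_cover' _ (Sieve.ofArrows Y f) hcov s
  intro W g hg
  obtain ⟨i, b, rfl⟩ := (Sieve.mem_ofArrows_iff _ _ g).1 hg
  obtain ⟨σ, hσ1, hσ2⟩ := hfT i
  have hσ0 : σ = 0 := hY i σ hσ2
  have h1 : ((H0ab R M).obj.map (f i).op).hom s = 0 := by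
    rw [← hσ1, hσ0, map_zero]
  have h2 := ConcreteCategory.congr_hom ((H0ab R M).obj.map_comp (f i).op b.op) s
  refine h2.trans ?_
  exact (congrArg ((H0ab R M).obj.map b.op).hom h1).trans (map_zero _)

/-- the key local surjectivity statement for `H⁰` -/
theorem locSurj_H0 {M M' : DerivedCategory (SheafOfModules.{u} R)} (α : M ⟶ M') (V : C)
    (hkey : ∀ T ∈ J V, ∃ (ι : Type u) (Y : ι → C) (f : ∀ i, Y i ⟶ V), (∀ i, T.arrows (f i)) ∧
      Sieve.ofArrows Y f ∈ J V ∧ ∀ i, ∀ σ' : TD R (Y i) ⟶ M', ∃ σ : TD R (Y i) ⟶ M, σ ≫ α = σ')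
    (s' : (H0ab R M').obj.obj (op V)) :
    ∃ S ∈ J V, ∀ ⦃W : C⦄ (g : W ⟶ V), S g →
      ∃ x : (H0ab R M).obj.obj (op W),
        ((H0map R α).hom.app (op W)).hom x = ((H0ab R M').obj.map g.op).hom s' := by
  let T : Sieve V :=
    { arrows := fun W g => ∃ σ' : TD R W ⟶ M',
        etaApp R M' W σ' = ((H0ab R M').obj.map g.op).hom s'
      downward_closed := by
        rintro W W' g ⟨σ, h1⟩ g'
        refine ⟨TDmap R g' ≫ σ, ?_⟩
        rw [etaApp_naturality, h1]
        exact (ConcreteCategory.congr_hom ((H0ab R M').obj.map_comp g.op g'.op) s').symm }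
  have hT : T ∈ J V := by
    obtain ⟨S₁, hS₁, hS₁'⟩ := locSurj R M' V s'
    refine J.superset_covering ?_ hS₁
    intro W g hg
    exact hS₁' g hg
  obtain ⟨ι, Y, f, hfT, hcov, hY⟩ := hkey T hT
  refine ⟨Sieve.ofArrows Y f, hcov, fun W g hg => ?_⟩
  obtain ⟨i, b, rfl⟩ := (Sieve.mem_ofArrows_iff _ _ g).1 hg
  obtain ⟨σ', hσ'⟩ := hfT i
  obtain ⟨σ, hσ⟩ := hY i σ'
  refine ⟨((H0ab R M).obj.map b.op).hom (etaApp R M (Y i) σ), ?_⟩
  have hnat := ConcreteCategory.congr_hom ((H0map R α).hom.naturality b.op)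
    (etaApp R M (Y i) σ)
  refine hnat.trans ?_
  have h1 : ((H0map R α).hom.app (op (Y i))).hom (etaApp R M (Y i) σ) =
      ((H0ab R M').obj.map (f i).op).hom s' := by
    rw [← etaApp_comp, hσ, hσ']
  refine (congrArg ((H0ab R M').obj.map b.op).hom h1).trans ?_
  exact (ConcreteCategory.congr_hom ((H0ab R M').obj.map_comp (f i).op b.op) s').symm

/-- iso criterion for `H⁰` -/
theorem isIso_H0 {M M' : DerivedCategory (SheafOfModules.{u} R)} (α : M ⟶ M') (B : Set C)
    (hB : ∀ U : C, ∃ (ι : Type u) (Y : ι → C) (f : ∀ i, Y i ⟶ U),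
      Sieve.ofArrows Y f ∈ J U ∧ ∀ i, Y i ∈ B)
    (hkey : ∀ V ∈ B, ∀ T ∈ J V, ∃ (ι : Type u) (Y : ι → C) (f : ∀ i, Y i ⟶ V),
      (∀ i, T.arrows (f i)) ∧ Sieve.ofArrows Y f ∈ J V ∧
      ∀ i, Function.Bijective (fun σ : TD R (Y i) ⟶ M => σ ≫ α)) :
    IsIso ((homologyFunctor (SheafOfModules.{u} R) 0).map α) := by
  haveI : IsIso (H0map R α) := by
    apply isIso_of_inj_locSurj _ B hB
    · intro V hV s hs
      apply inj_H0 R α V ?_ s hs
      intro T hT
      obtain ⟨ι, Y, f, h1, h2, h3⟩ := hkey V hV T hT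
      refine ⟨ι, Y, f, h1, h2, fun i σ hσ => ?_⟩
      apply (h3 i).1
      show σ ≫ α = 0 ≫ α
      rw [hσ, zero_comp]
    · intro V hV s'
      apply locSurj_H0 R α V ?_ s'
      intro T hT
      obtain ⟨ι, Y, f, h1, h2, h3⟩ := hkey V hV T hT
      exact ⟨ι, Y, f, h1, h2, fun i σ' => (h3 i).2 σ'⟩
  exact isIso_of_reflects_iso _ (SheafOfModules.toSheaf R)

/-- iso criterion for `H^m` -/
theorem isIso_Hm {M M' : DerivedCategory (SheafOfModules.{u} R)} (α : M ⟶ M') (m : ℤ)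
    (B : Set C)
    (hB : ∀ U : C, ∃ (ι : Type u) (Y : ι → C) (f : ∀ i, Y i ⟶ U),
      Sieve.ofArrows Y f ∈ J U ∧ ∀ i, Y i ∈ B)
    (hkey : ∀ V ∈ B, ∀ T ∈ J V, ∃ (ι : Type u) (Y : ι → C) (f : ∀ i, Y i ⟶ V),
      (∀ i, T.arrows (f i)) ∧ Sieve.ofArrows Y f ∈ J V ∧
      ∀ i, Function.Bijective (fun σ : TD R (Y i) ⟶ M⟦m⟧ => σ ≫ α⟦m⟧')) :
    IsIso ((homologyFunctor (SheafOfModules.{u} R) m).map α) := by
  let E := (homologyFunctor (SheafOfModules.{u} R) 0).shiftIso m 0 m (add_zero m)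
  haveI h0 : IsIso ((homologyFunctor (SheafOfModules.{u} R) 0).map (α⟦m⟧')) :=
    isIso_H0 R (α⟦m⟧') B hB hkey
  have hnat : (homologyFunctor (SheafOfModules.{u} R) 0).map (α⟦m⟧') ≫ E.hom.app M' =
      E.hom.app M ≫ (homologyFunctor (SheafOfModules.{u} R) m).map α :=
    E.hom.naturality α
  have e : (homologyFunctor (SheafOfModules.{u} R) m).map α =
      E.inv.app M ≫ (homologyFunctor (SheafOfModules.{u} R) 0).map (α⟦m⟧') ≫ E.hom.app M' := by
    rw [hnat, ← Category.assoc, E.inv_hom_id_app, Category.id_comp]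
  rw [e]
  infer_instance

/-- injectivity of `H^m(R lim K_n) → H^m(K_{n₀})` on sections -/
theorem main0880M
    (K : ℕ → DerivedCategory (SheafOfModules.{u} R)) (t : ∀ n, K (n + 1) ⟶ K n) [HasProduct K]
    (L : DerivedCategory (SheafOfModules.{u} R)) (a : ∀ n, L ⟶ K n)
    (hL : CohCx.IsRlimVia K t L a)
    (V : C) (m : ℤ) (nV : ℕ)
    (h : ∀ T ∈ J V, ∃ (ι : Type u) (Y : ι → C) (f : ∀ i, Y i ⟶ V), (∀ i, T.arrows (f i)) ∧
      Sieve.ofArrows Y f ∈ J V ∧ ∀ i,
        CohCx.LimOneIsZero (fun n => TD R (Y i) ⟶ (K n)⟦m - 1⟧)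
          (fun n => Preadditive.rightComp _ ((shiftFunctor _ (m - 1)).map (t n))) ∧
        ∀ k : ℕ, Function.Injective
          (Preadditive.rightComp _ ((shiftFunctor _ m).map (CohCx.transition K t nV k)) :
            (TD R (Y i) ⟶ (K (nV + k))⟦m⟧) → (TD R (Y i) ⟶ (K nV)⟦m⟧))) :
    Function.Injective (((SheafOfModules.toSheaf R).map
      ((homologyFunctor (SheafOfModules.{u} R) m).map (a nV))).hom.app (op V)).hom := by
  let E := (homologyFunctor (SheafOfModules.{u} R) 0).shiftIso m 0 m (add_zero m)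
  have hkey : ∀ T ∈ J V, ∃ (ι : Type u) (Y : ι → C) (f : ∀ i, Y i ⟶ V), (∀ i, T.arrows (f i)) ∧
      Sieve.ofArrows Y f ∈ J V ∧ ∀ i,
        ∀ σ : TD R (Y i) ⟶ L⟦m⟧, σ ≫ (a nV)⟦m⟧' = 0 → σ = 0 := by
    intro T hT
    obtain ⟨ι, Y, f, h1, h2, h3⟩ := h T hT
    exact ⟨ι, Y, f, h1, h2, fun i σ hσ =>
      RlimInj_helper7.core K t L a hL _ m nV (h3 i).1 (h3 i).2 σ hσ⟩
  have hnat : (homologyFunctor (SheafOfModules.{u} R) 0).map ((a nV)⟦m⟧') ≫ E.hom.app (K nV) =
      E.hom.app L ≫ (homologyFunctor (SheafOfModules.{u} R) m).map (a nV) :=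
    E.hom.naturality (a nV)
  have hnat' : H0map R ((a nV)⟦m⟧') ≫ (SheafOfModules.toSheaf R).map (E.hom.app (K nV)) =
      (SheafOfModules.toSheaf R).map (E.hom.app L) ≫
        (SheafOfModules.toSheaf R).map
          ((homologyFunctor (SheafOfModules.{u} R) m).map (a nV)) := by
    rw [← CategoryTheory.Functor.map_comp, hnat, CategoryTheory.Functor.map_comp]
  refine (injective_iff_map_eq_zero _).2 ?_
  intro x hx
  -- transport x to H⁰ of the shift
  let eL := (SheafOfModules.toSheaf R).mapIso (E.app L)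
  let eK := (SheafOfModules.toSheaf R).mapIso (E.app (K nV))
  let y := ((eL.inv).hom.app (op V)).hom x
  have hxy : ((eL.hom).hom.app (op V)).hom y = x :=
    congrArg (fun κ : ab R ((homologyFunctor (SheafOfModules.{u} R) m).obj L) ⟶
      ab R ((homologyFunctor (SheafOfModules.{u} R) m).obj L) => (κ.hom.app (op V)).hom x)
      eL.inv_hom_id
  have hy0 : ((H0map R ((a nV)⟦m⟧')).hom.app (op V)).hom y = 0 := by
    have h1 := congrArg (fun κ => (κ.hom.app (op V)).hom y) hnat'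
    have h2 : ((eK.hom).hom.app (op V)).hom
        (((H0map R ((a nV)⟦m⟧')).hom.app (op V)).hom y) = 0 := by
      refine h1.trans ?_
      show (((SheafOfModules.toSheaf R).map
        ((homologyFunctor (SheafOfModules.{u} R) m).map (a nV))).hom.app (op V)).hom
          (((eL.hom).hom.app (op V)).hom y) = 0
      rw [hxy]
      exact hx
    have h3 := congrArg ((eK.inv).hom.app (op V)).hom h2
    have h4 : ((eK.inv).hom.app (op V)).hom (((eK.hom).hom.app (op V)).hom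
        (((H0map R ((a nV)⟦m⟧')).hom.app (op V)).hom y)) =
        ((H0map R ((a nV)⟦m⟧')).hom.app (op V)).hom y :=
      congrArg (fun κ : H0ab R ((K nV)⟦m⟧) ⟶ H0ab R ((K nV)⟦m⟧) => (κ.hom.app (op V)).hom
        (((H0map R ((a nV)⟦m⟧')).hom.app (op V)).hom y)) eK.hom_inv_id
    exact h4.symm.trans (h3.trans (map_zero _))
  have hy : y = 0 := inj_H0 R ((a nV)⟦m⟧') V hkey y hy0
  rw [← hxy, hy, map_zero]

end Groth.Agent.Lib.ModRlimInjH7
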