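import Mathlib
import Groth.Agent.Lib.ModRlimInj_helper7
import Groth.Agent.Lib.TruncTower_helper7

/-!
# `E ≅ R lim τ_{≥ -n} E` for complexes of modules on a ringed site (helper7)
-/

set_option backward.isDefEq.respectTransparency false
set_option backward.isDefEq.respectTransparency.types false
set_option linter.style.haveILetI false
set_option linter.unusedSectionVars false
set_option linter.unusedVariables false
set_option autoImplicit false
set_option maxHeartbeats 1600000
universe w v' u' u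
open CategoryTheory CategoryTheory.Limits Opposite DerivedCategory Pretriangulated

namespace Groth.Agent.Lib.ModTruncRlimH7

open Groth.Agent.Lib Groth.Agent.Lib.ModTestH7 Groth.Agent.Lib.ModHDH7
  Groth.Agent.Lib.ModRlimInjH7 Groth.Agent.Lib.TruncTower_helper7

section gen

variable {T : Type u'} [Category.{v'} T] [Preadditive T] [HasShift T ℤ]
  [∀ n : ℤ, (shiftFunctor T n).Additive]

/-- conditions (1), (2) of the injectivity lemma from a tower step -/
lemma conditions_of_step (K : ℕ → T) (t : ∀ n, K (n + 1) ⟶ K n) (G : T) (m : ℤ) (nV : ℕ)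
    (hstep : ∀ n, nV ≤ n →
      Function.Injective (Preadditive.rightComp G ((t n)⟦m⟧')) ∧
      Function.Surjective (Preadditive.rightComp G ((t n)⟦m - 1⟧'))) :
    CohCx.LimOneIsZero (fun n => G ⟶ (K n)⟦m - 1⟧)
      (fun n => Preadditive.rightComp G ((shiftFunctor T (m - 1)).map (t n))) ∧
    ∀ k : ℕ, Function.Injective
      (Preadditive.rightComp G ((shiftFunctor T m).map (CohCx.transition K t nV k)) :
        (G ⟶ (K (nV + k))⟦m⟧) → (G ⟶ (K nV)⟦m⟧)) := by
  constructor
  · apply limOne_of_eventually_surj nV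
    intro n hn
    exact (hstep n hn).2
  · intro k
    induction k with
    | zero =>
      intro σ σ' hσ
      have h0 : ∀ ρ : G ⟶ (K (nV + 0))⟦m⟧,
          (Preadditive.rightComp G ((shiftFunctor T m).map
            (CohCx.transition K t nV 0))) ρ = ρ := by
        intro ρ
        have e : (𝟙 (K nV))⟦m⟧' = 𝟙 _ := CategoryTheory.Functor.map_id _ _
        show ρ ≫ (𝟙 (K nV))⟦m⟧' = ρ
        exact (congrArg (fun z => ρ ≫ z) e).trans (Category.comp_id ρ)
      exact (h0 σ).symm.trans (hσ.trans (h0 σ'))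
    | succ k ih =>
      intro σ σ' hσ
      have hcomp : ∀ ρ : G ⟶ (K (nV + (k + 1)))⟦m⟧,
          (Preadditive.rightComp G ((shiftFunctor T m).map
            (CohCx.transition K t nV (k + 1)))) ρ =
          (Preadditive.rightComp G ((shiftFunctor T m).map
            (CohCx.transition K t nV k)))
            (ρ ≫ (t (nV + k))⟦m⟧') := by
        intro ρ
        show ρ ≫ (t (nV + k) ≫ CohCx.transition K t nV k)⟦m⟧' =
          (ρ ≫ (t (nV + k))⟦m⟧') ≫ (CohCx.transition K t nV k)⟦m⟧'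
        rw [CategoryTheory.Functor.map_comp, Category.assoc]
      have h1 := (hcomp σ).symm.trans (hσ.trans (hcomp σ'))
      exact (hstep (nV + k) (by omega)).1 (ih h1)

end gen

variable {C : Type u} [SmallCategory C] {J : GrothendieckTopology C}

/-- a covering sieve contains a covering family by members of a basis -/
lemma exists_family_in_sieve (B : Set C)
    (hB : ∀ U : C, ∃ (ι : Type u) (Y : ι → C) (f : ∀ i, Y i ⟶ U),
      Sieve.ofArrows Y f ∈ J U ∧ ∀ i, Y i ∈ B)
    (V : C) (T : Sieve V) (hT : T ∈ J V) :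
    ∃ (ι : Type u) (Y : ι → C) (f : ∀ i, Y i ⟶ V), (∀ i, T.arrows (f i)) ∧
      Sieve.ofArrows Y f ∈ J V ∧ ∀ i, Y i ∈ B := by
  classical
  choose ιU YU fU hcov hmem using hB
  refine ⟨Σ (W : C) (g : {g : W ⟶ V // T.arrows g}), ιU W, fun i => YU i.1 i.2.2,
    fun i => fU i.1 i.2.2 ≫ i.2.1.1, fun i => T.downward_closed i.2.1.2 _, ?_,
    fun i => hmem _ _⟩
  refine J.transitive hT _ (fun W g hg => ?_)
  refine J.superset_covering ?_ (hcov W)
  intro W' a ha
  obtain ⟨j, b, rfl⟩ := (Sieve.mem_ofArrows_iff _ _ a).1 ha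
  show (Sieve.ofArrows _ _).arrows ((b ≫ fU W j) ≫ g)
  refine (Sieve.mem_ofArrows_iff _ _ _).2 ⟨⟨W, ⟨g, hg⟩, j⟩, b, ?_⟩
  exact Category.assoc _ _ _

/-- a map of abelian sheaves which is bijective on sections over a basis is an isomorphism -/
theorem isIso_of_bijective_on' {P Q : Sheaf J AddCommGrpCat.{u}} (ψ : P ⟶ Q) (B : Set C)
    (hB : ∀ U : C, ∃ (ι : Type u) (Y : ι → C) (f : ∀ i, Y i ⟶ U),
      Sieve.ofArrows Y f ∈ J U ∧ ∀ i, Y i ∈ B)
    (h : ∀ V ∈ B, Function.Bijective (ψ.hom.app (op V)).hom) : IsIso ψ := by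
  apply isIso_of_inj_locSurj ψ B hB
  · intro V hV s hs
    apply (h V hV).1
    exact hs.trans (map_zero _).symm
  · intro V hV s'
    refine ⟨⊤, J.top_mem V, fun W g _ => ?_⟩
    obtain ⟨x, hx⟩ := (h V hV).2 s'
    refine ⟨(P.obj.map g.op).hom x, ?_⟩
    have hnat := ConcreteCategory.congr_hom (ψ.hom.naturality g.op) x
    exact hnat.trans (congrArg (Q.obj.map g.op).hom hx)

lemma bijective_of_isIso' {P Q : Sheaf J AddCommGrpCat.{u}} (θ : P ⟶ Q) [IsIso θ] (V : C) :
    Function.Bijective (θ.hom.app (op V)).hom := by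
  refine Function.bijective_iff_has_inverse.2 ⟨((inv θ).hom.app (op V)).hom, fun x => ?_, fun x => ?_⟩
  · exact congrArg (fun κ : P ⟶ P => (κ.hom.app (op V)).hom x) (IsIso.hom_inv_id θ)
  · exact congrArg (fun κ : Q ⟶ Q => (κ.hom.app (op V)).hom x) (IsIso.inv_hom_id θ)

variable (R : Sheaf J RingCat.{u}) [HasDerivedCategory.{w} (SheafOfModules.{u} R)]

/-- the tower step for modules: consequences of the vanishing of `H^k(W, H^{-n-1}E)` -/
lemma site_stepM (E : DerivedCategory (SheafOfModules.{u} R)) (W : C) (m : ℤ) (n : ℕ) (k : ℕ)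
    (hk : (k : ℤ) = n + 1 + m) (q : ℤ) (hq : q = -(n : ℤ) - 1)
    (hW : Subsingleton (CohSite.HU
      (ab R ((homologyFunctor (SheafOfModules.{u} R) q).obj E)) k W)) :
    Function.Injective (Preadditive.rightComp (TD R W) ((CohCx.truncTowerMap E n)⟦m⟧')) ∧
    Function.Surjective (Preadditive.rightComp (TD R W) ((CohCx.truncTowerMap E n)⟦m - 1⟧')) := by
  haveI := Groth.Agent.Lib.FunctorialInjective.isGrothendieckAbelian_sheafOfModules J R
  haveI : HasExt.{u} (SheafOfModules.{u} R) := inferInstance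
  exact tower_step E n ((PM R).obj W) m k hk q hq (subsingleton_ext_of_HU R W _ k hW)

/-- the general form: vanishing at the members of a cofinal system of coverings of the members of a
basis, above a bound depending on the member of the basis and the degree -/
theorem main_gen
    (E : DerivedCategory (SheafOfModules.{u} R)) [HasProduct (CohCx.truncTower E)] (B : Set C)
    (hB : ∀ U : C, ∃ (ι : Type u) (Y : ι → C) (f : ∀ i, Y i ⟶ U),
      Sieve.ofArrows Y f ∈ J U ∧ ∀ i, Y i ∈ B)
    (h : ∀ V ∈ B, ∀ m : ℤ, ∃ nV : ℕ, -m ≤ (nV : ℤ) ∧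
      ∀ T ∈ J V, ∃ (ι : Type u) (Y : ι → C) (f : ∀ i, Y i ⟶ V),
      (∀ i, T.arrows (f i)) ∧ Sieve.ofArrows Y f ∈ J V ∧
      ∀ (i : ι) (n : ℕ) (k : ℕ), nV ≤ n → (k : ℤ) = n + 1 + m →
        Subsingleton (CohSite.HU
          (ab R ((homologyFunctor (SheafOfModules.{u} R) (-(n : ℤ) - 1)).obj E)) k (Y i))) :
    CohCx.IsRlimVia (CohCx.truncTower E) (CohCx.truncTowerMap E) E (CohCx.toTruncTower E) := by
  apply isRlimVia_of_forall_isIso
  intro R' a' hR φ hφ
  rw [DerivedCategory.isIso_iff]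
  intro m
  suffices hsuff : IsIso ((SheafOfModules.toSheaf R).map
      ((homologyFunctor (SheafOfModules.{u} R) m).map φ)) from
    isIso_of_reflects_iso _ (SheafOfModules.toSheaf R)
  apply isIso_of_bijective_on' _ B hB
  intro V hV
  obtain ⟨nV, hn1, hfam⟩ := h V hV m
  have hinj : Function.Injective (((SheafOfModules.toSheaf R).map
      ((homologyFunctor (SheafOfModules.{u} R) m).map (a' nV))).hom.app (op V)).hom := by
    apply main0880M R (CohCx.truncTower E) (CohCx.truncTowerMap E) R' a' hR V m nV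
    intro T hT
    obtain ⟨ι, Y, f, hf, hcov, hvan⟩ := hfam T hT
    refine ⟨ι, Y, f, hf, hcov, fun i => ?_⟩
    refine conditions_of_step (CohCx.truncTower E) (CohCx.truncTowerMap E) (TD R (Y i)) m nV
      (fun n hn => ?_)
    have hk : ((((n : ℤ) + 1 + m).toNat : ℕ) : ℤ) = n + 1 + m :=
      Int.toNat_of_nonneg (by omega)
    exact site_stepM R E (Y i) m n ((n : ℤ) + 1 + m).toNat hk (-(n : ℤ) - 1) rfl
      (hvan i n _ hn hk)
  have hcomp : (SheafOfModules.toSheaf R).map
        ((homologyFunctor (SheafOfModules.{u} R) m).map φ) ≫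
      (SheafOfModules.toSheaf R).map
        ((homologyFunctor (SheafOfModules.{u} R) m).map (a' nV)) =
      (SheafOfModules.toSheaf R).map
        ((homologyFunctor (SheafOfModules.{u} R) m).map (CohCx.toTruncTower E nV)) := by
    rw [← CategoryTheory.Functor.map_comp, ← CategoryTheory.Functor.map_comp, hφ]
  haveI hisoπ : IsIso ((homologyFunctor (SheafOfModules.{u} R) m).map
      (CohCx.toTruncTower E nV)) :=
    isIso_homology_truncGEπ E (-(nV : ℤ)) m (by omega)
  have hbij := bijective_of_isIso' ((SheafOfModules.toSheaf R).map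
      ((homologyFunctor (SheafOfModules.{u} R) m).map (CohCx.toTruncTower E nV))) V
  have hcompV : ∀ x, (((SheafOfModules.toSheaf R).map
        ((homologyFunctor (SheafOfModules.{u} R) m).map (a' nV))).hom.app (op V)).hom
      ((((SheafOfModules.toSheaf R).map
        ((homologyFunctor (SheafOfModules.{u} R) m).map φ)).hom.app (op V)).hom x) =
      (((SheafOfModules.toSheaf R).map
        ((homologyFunctor (SheafOfModules.{u} R) m).map (CohCx.toTruncTower E nV))).hom.app
          (op V)).hom x :=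
    fun x => congrArg (fun κ : ab R ((homologyFunctor (SheafOfModules.{u} R) m).obj E) ⟶
      ab R ((homologyFunctor (SheafOfModules.{u} R) m).obj (CohCx.truncTower E nV)) =>
        (κ.hom.app (op V)).hom x) hcomp
  constructor
  · intro x y hxy
    have h1 := congrArg (((SheafOfModules.toSheaf R).map
      ((homologyFunctor (SheafOfModules.{u} R) m).map (a' nV))).hom.app (op V)).hom hxy
    exact hbij.1 ((hcompV x).symm.trans (h1.trans (hcompV y)))
  · intro y
    obtain ⟨x, hx⟩ := hbij.2 ((((SheafOfModules.toSheaf R).map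
      ((homologyFunctor (SheafOfModules.{u} R) m).map (a' nV))).hom.app (op V)).hom y)
    refine ⟨x, hinj ?_⟩
    exact (hcompV x).trans hx

theorem main9042
    (E : DerivedCategory (SheafOfModules.{u} R)) [HasProduct (CohCx.truncTower E)] (B : Set C)
    (hB : ∀ U : C, ∃ (ι : Type u) (Y : ι → C) (f : ∀ i, Y i ⟶ U),
      Sieve.ofArrows Y f ∈ J U ∧ ∀ i, Y i ∈ B)
    (p : ℤ → ℤ)
    (h : ∀ V ∈ B, ∀ (m : ℤ) (k : ℕ), p m < k →
      Subsingleton (CohSite.HU
        (ab R ((homologyFunctor (SheafOfModules.{u} R) (m - k)).obj E)) k V)) :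
    CohCx.IsRlimVia (CohCx.truncTower E) (CohCx.truncTowerMap E) E (CohCx.toTruncTower E) := by
  apply main_gen R E B hB
  intro V hV m
  obtain ⟨nV, hn1, hn2⟩ : ∃ nV : ℕ, -m ≤ (nV : ℤ) ∧ p m - m ≤ (nV : ℤ) :=
    ⟨(max (-m) (p m - m)).toNat, (le_max_left _ _).trans (Int.self_le_toNat _),
      (le_max_right _ _).trans (Int.self_le_toNat _)⟩
  refine ⟨nV, hn1, fun T hT => ?_⟩
  obtain ⟨ι, Y, f, hf, hcov, hYB⟩ := exists_family_in_sieve B hB V T hT
  refine ⟨ι, Y, f, hf, hcov, fun i n k hn hk => ?_⟩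
  have hq : m - (k : ℤ) = -(n : ℤ) - 1 := by omega
  have h0 := h (Y i) (hYB i) m k (by omega)
  rw [hq] at h0
  exact h0

theorem main9043
    (E : DerivedCategory (SheafOfModules.{u} R)) [HasProduct (CohCx.truncTower E)] (B : Set C)
    (hB : ∀ U : C, ∃ (ι : Type u) (Y : ι → C) (f : ∀ i, Y i ⟶ U),
      Sieve.ofArrows Y f ∈ J U ∧ ∀ i, Y i ∈ B)
    (h : ∀ V ∈ B, ∃ d : ℕ, ∀ T ∈ J V, ∃ (ι : Type u) (Y : ι → C) (f : ∀ i, Y i ⟶ V),
      (∀ i, T.arrows (f i)) ∧ Sieve.ofArrows Y f ∈ J V ∧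
      ∀ (i : ι) (q : ℤ) (k : ℕ), q < 0 → d < k →
        Subsingleton (CohSite.HU
          (ab R ((homologyFunctor (SheafOfModules.{u} R) q).obj E)) k (Y i))) :
    CohCx.IsRlimVia (CohCx.truncTower E) (CohCx.truncTowerMap E) E (CohCx.toTruncTower E) := by
  apply main_gen R E B hB
  intro V hV m
  obtain ⟨d, hd⟩ := h V hV
  obtain ⟨nV, hn1, hn2⟩ : ∃ nV : ℕ, -m ≤ (nV : ℤ) ∧ (d : ℤ) - m ≤ (nV : ℤ) :=
    ⟨(max (-m) ((d : ℤ) - m)).toNat, (le_max_left _ _).trans (Int.self_le_toNat _),
      (le_max_right _ _).trans (Int.self_le_toNat _)⟩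
  refine ⟨nV, hn1, fun T hT => ?_⟩
  obtain ⟨ι, Y, f, hf, hcov, hvan⟩ := hd T hT
  refine ⟨ι, Y, f, hf, hcov, fun i n k hn hk => ?_⟩
  exact hvan i (-(n : ℤ) - 1) k (by omega) (by omega)

end Groth.Agent.Lib.ModTruncRlimH7
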