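import Mathlib
import Groth.Prelude.Def_WeakSerre
import Groth.Agent.Lib.ModTruncRlim_helper7
import Groth.Agent.Lib.ExtVanish_helper7

/-!
# Cohomology sheaves of a derived limit of an essentially constant system of complexes of modules
(helper7)
-/

set_option backward.isDefEq.respectTransparency false
set_option backward.isDefEq.respectTransparency.types false
set_option linter.style.haveILetI false
set_option linter.unusedSectionVars false
set_option linter.unusedVariables false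
set_option autoImplicit false
set_option maxHeartbeats 1600000
universe w v' u' u
open CategoryTheory CategoryTheory.Limits Opposite DerivedCategory Pretriangulated

namespace Groth.Agent.Lib.ModRlimConstH7

open Groth.Agent.Lib Groth.Agent.Lib.ModTestH7 Groth.Agent.Lib.ModHDH7
  Groth.Agent.Lib.ModRlimInjH7 Groth.Agent.Lib.ModTruncRlimH7 Groth.Agent.Lib.ExtVanishH7

/-! ### Step 3: the Milnor sequence for an eventually constant system -/

section tri

variable {T : Type u'} [Category.{v'} T] [Preadditive T] [HasZeroObject T] [HasShift T ℤ]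
  [∀ n : ℤ, (shiftFunctor T n).Additive] [Pretriangulated T]
  (K : ℕ → T) (t : ∀ n, K (n + 1) ⟶ K n) [HasProduct K] (L : T) (a : ∀ n, L ⟶ K n)

theorem bijective_of_eventually (hL : CohCx.IsRlimVia K t L a) (G : T) (m : ℤ) (n : ℕ)
    (hstep : ∀ n', n ≤ n' →
      Function.Bijective (fun σ : G ⟶ (K (n' + 1))⟦m⟧ => σ ≫ (t n')⟦m⟧') ∧
      Function.Surjective (fun σ : G ⟶ (K (n' + 1))⟦m - 1⟧ => σ ≫ (t n')⟦m - 1⟧')) :
    Function.Bijective (fun σ : G ⟶ L⟦m⟧ => σ ≫ (a n)⟦m⟧') := by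
  obtain ⟨h1, h2⟩ := conditions_of_step K t G m n
    (fun n' hn' => ⟨(hstep n' hn').1.1, (hstep n' hn').2⟩)
  constructor
  · intro σ σ' hσ
    have hσ' : σ ≫ (a n)⟦m⟧' = σ' ≫ (a n)⟦m⟧' := hσ
    have hd : (σ - σ') ≫ (a n)⟦m⟧' = 0 := by
      rw [Preadditive.sub_comp]
      exact sub_eq_zero.2 hσ'
    have h3 : σ - σ' = 0 := RlimInj_helper7.core K t L a hL G m n h1 h2 (σ - σ') hd
    exact sub_eq_zero.1 h3
  · intro x
    obtain ⟨w, hw, hwx⟩ := exists_compatible n (fun i => G ⟶ (K i)⟦m⟧)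
      (fun i σ => σ ≫ (t i)⟦m⟧') (fun n' hn' => (hstep n' hn').1.2) x
    obtain ⟨y, hy⟩ := (Groth.Agent.Lib.RlimHom.main K t L a hL G m).1 w hw
    exact ⟨y, (hy n).trans hwx⟩

end tri

variable {C : Type u} [SmallCategory C] {J : GrothendieckTopology C}

/-! ### Injectivity and local surjectivity at an object, for maps of abelian sheaves -/

/-- injectivity on sections over `V` -/
def InjAt {P Q : Sheaf J AddCommGrpCat.{u}} (ψ : P ⟶ Q) (V : C) : Prop :=
  ∀ s : P.obj.obj (op V), (ψ.hom.app (op V)).hom s = 0 → s = 0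

/-- local surjectivity on sections over `V` -/
def LocSurjAt {P Q : Sheaf J AddCommGrpCat.{u}} (ψ : P ⟶ Q) (V : C) : Prop :=
  ∀ s' : Q.obj.obj (op V), ∃ S ∈ J V, ∀ ⦃W : C⦄ (g : W ⟶ V), S g →
    ∃ x : P.obj.obj (op W), (ψ.hom.app (op W)).hom x = (Q.obj.map g.op).hom s'

lemma iso_hom_inv_apply {P Q : Sheaf J AddCommGrpCat.{u}} (e : P ≅ Q) (V : C)
    (s : P.obj.obj (op V)) :
    (e.inv.hom.app (op V)).hom ((e.hom.hom.app (op V)).hom s) = s :=
  congrArg (fun κ : P ⟶ P => (κ.hom.app (op V)).hom s) e.hom_inv_id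

lemma iso_inv_hom_apply {P Q : Sheaf J AddCommGrpCat.{u}} (e : P ≅ Q) (V : C)
    (s : Q.obj.obj (op V)) :
    (e.hom.hom.app (op V)).hom ((e.inv.hom.app (op V)).hom s) = s :=
  congrArg (fun κ : Q ⟶ Q => (κ.hom.app (op V)).hom s) e.inv_hom_id

lemma comp_apply' {P Q R : Sheaf J AddCommGrpCat.{u}} (ψ₁ : P ⟶ Q) (ψ₂ : Q ⟶ R) (V : C)
    (s : P.obj.obj (op V)) :
    ((ψ₁ ≫ ψ₂).hom.app (op V)).hom s = (ψ₂.hom.app (op V)).hom ((ψ₁.hom.app (op V)).hom s) := rfl

lemma InjAt.comp_iso {P Q R : Sheaf J AddCommGrpCat.{u}} {ψ : P ⟶ Q} {V : C}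
    (h : InjAt ψ V) (e : Q ≅ R) : InjAt (ψ ≫ e.hom) V := by
  intro s hs
  apply h s
  rw [comp_apply'] at hs
  have h1 := congrArg (e.inv.hom.app (op V)).hom hs
  rw [iso_hom_inv_apply, map_zero] at h1
  exact h1

lemma InjAt.iso_comp {P' P Q : Sheaf J AddCommGrpCat.{u}} {ψ : P ⟶ Q} {V : C}
    (h : InjAt ψ V) (e : P' ≅ P) : InjAt (e.hom ≫ ψ) V := by
  intro s hs
  rw [comp_apply'] at hs
  have h1 := h _ hs
  have h2 := congrArg (e.inv.hom.app (op V)).hom h1
  rw [iso_hom_inv_apply, map_zero] at h2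
  exact h2

lemma LocSurjAt.comp_iso {P Q R : Sheaf J AddCommGrpCat.{u}} {ψ : P ⟶ Q} {V : C}
    (h : LocSurjAt ψ V) (e : Q ≅ R) : LocSurjAt (ψ ≫ e.hom) V := by
  intro s'
  obtain ⟨S, hS, hS'⟩ := h ((e.inv.hom.app (op V)).hom s')
  refine ⟨S, hS, fun W g hg => ?_⟩
  obtain ⟨x, hx⟩ := hS' g hg
  refine ⟨x, ?_⟩
  rw [comp_apply', hx]
  have hnat := ConcreteCategory.congr_hom (e.hom.hom.naturality g.op)
    ((e.inv.hom.app (op V)).hom s')
  refine hnat.trans ?_
  exact congrArg (R.obj.map g.op).hom (iso_inv_hom_apply e V s')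

lemma LocSurjAt.iso_comp {P' P Q : Sheaf J AddCommGrpCat.{u}} {ψ : P ⟶ Q} {V : C}
    (h : LocSurjAt ψ V) (e : P' ≅ P) : LocSurjAt (e.hom ≫ ψ) V := by
  intro s'
  obtain ⟨S, hS, hS'⟩ := h s'
  refine ⟨S, hS, fun W g hg => ?_⟩
  obtain ⟨x, hx⟩ := hS' g hg
  refine ⟨(e.inv.hom.app (op W)).hom x, ?_⟩
  rw [comp_apply', iso_inv_hom_apply]
  exact hx

variable (R : Sheaf J RingCat.{u}) [HasDerivedCategory.{w} (SheafOfModules.{u} R)]

/-- the map induced on the `m`-th cohomology sheaves, as a map of abelian sheaves -/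
noncomputable abbrev Hmmap {M M' : DerivedCategory (SheafOfModules.{u} R)} (α : M ⟶ M') (m : ℤ) :
    ab R ((homologyFunctor (SheafOfModules.{u} R) m).obj M) ⟶
      ab R ((homologyFunctor (SheafOfModules.{u} R) m).obj M') :=
  (SheafOfModules.toSheaf R).map ((homologyFunctor (SheafOfModules.{u} R) m).map α)

/-- the shift isomorphism `H⁰(M[m]) ≅ H^m(M)` on underlying abelian sheaves -/
noncomputable def shIso (M : DerivedCategory (SheafOfModules.{u} R)) (m : ℤ) :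
    H0ab R (M⟦m⟧) ≅ ab R ((homologyFunctor (SheafOfModules.{u} R) m).obj M) :=
  (SheafOfModules.toSheaf R).mapIso
    (((homologyFunctor (SheafOfModules.{u} R) 0).shiftIso m 0 m (add_zero m)).app M)

lemma Hmmap_eq {M M' : DerivedCategory (SheafOfModules.{u} R)} (α : M ⟶ M') (m : ℤ) :
    Hmmap R α m = (shIso R M m).inv ≫ H0map R (α⟦m⟧') ≫ (shIso R M' m).hom := by
  have hnat : (homologyFunctor (SheafOfModules.{u} R) 0).map (α⟦m⟧') ≫
      ((homologyFunctor (SheafOfModules.{u} R) 0).shiftIso m 0 m (add_zero m)).hom.app M' =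
      ((homologyFunctor (SheafOfModules.{u} R) 0).shiftIso m 0 m (add_zero m)).hom.app M ≫
        (homologyFunctor (SheafOfModules.{u} R) m).map α :=
    ((homologyFunctor (SheafOfModules.{u} R) 0).shiftIso m 0 m (add_zero m)).hom.naturality α
  have h1 : H0map R (α⟦m⟧') ≫ (shIso R M' m).hom = (shIso R M m).hom ≫ Hmmap R α m := by
    show (SheafOfModules.toSheaf R).map _ ≫ (SheafOfModules.toSheaf R).map _ =
      (SheafOfModules.toSheaf R).map _ ≫ (SheafOfModules.toSheaf R).map _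
    rw [← CategoryTheory.Functor.map_comp, ← CategoryTheory.Functor.map_comp]
    exact congrArg (SheafOfModules.toSheaf R).map hnat
  rw [h1, Iso.inv_hom_id_assoc]

theorem injAt_Hm {M M' : DerivedCategory (SheafOfModules.{u} R)} (α : M ⟶ M') (m : ℤ) (V : C)
    (hkey : ∀ T ∈ J V, ∃ (ι : Type u) (Y : ι → C) (f : ∀ i, Y i ⟶ V), (∀ i, T.arrows (f i)) ∧
      Sieve.ofArrows Y f ∈ J V ∧ ∀ i, ∀ σ : TD R (Y i) ⟶ M⟦m⟧, σ ≫ α⟦m⟧' = 0 → σ = 0) :
    InjAt (Hmmap R α m) V := by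
  rw [Hmmap_eq]
  have h0 : InjAt (H0map R (α⟦m⟧')) V := fun s hs => inj_H0 R (α⟦m⟧') V hkey s hs
  exact (h0.comp_iso (shIso R M' m)).iso_comp (shIso R M m).symm

theorem locSurjAt_Hm {M M' : DerivedCategory (SheafOfModules.{u} R)} (α : M ⟶ M') (m : ℤ) (V : C)
    (hkey : ∀ T ∈ J V, ∃ (ι : Type u) (Y : ι → C) (f : ∀ i, Y i ⟶ V), (∀ i, T.arrows (f i)) ∧
      Sieve.ofArrows Y f ∈ J V ∧
      ∀ i, ∀ σ' : TD R (Y i) ⟶ M'⟦m⟧, ∃ σ : TD R (Y i) ⟶ M⟦m⟧, σ ≫ α⟦m⟧' = σ') :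
    LocSurjAt (Hmmap R α m) V := by
  rw [Hmmap_eq]
  have h0 : LocSurjAt (H0map R (α⟦m⟧')) V := fun s' => locSurj_H0 R (α⟦m⟧') V hkey s'
  exact (h0.comp_iso (shIso R M' m)).iso_comp (shIso R M m).symm

/-! ### Step 4 -/

lemma exists_bound (f : ℤ → ℕ) (lo hi : ℤ) : ∃ N : ℕ, ∀ q : ℤ, lo ≤ q → q ≤ hi → f q ≤ N :=
  ⟨(Finset.Icc lo hi).sup f, fun q h1 h2 => Finset.le_sup (Finset.mem_Icc.2 ⟨h1, h2⟩)⟩

lemma isIso_homology_transition (K : ℕ → DerivedCategory (SheafOfModules.{u} R))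
    (t : ∀ n, K (n + 1) ⟶ K n) (j : ℤ) (n : ℕ)
    (h : ∀ n', n ≤ n' → IsIso ((homologyFunctor (SheafOfModules.{u} R) j).map (t n'))) :
    ∀ k : ℕ, IsIso ((homologyFunctor (SheafOfModules.{u} R) j).map (CohCx.transition K t n k))
  | 0 => by
    show IsIso ((homologyFunctor (SheafOfModules.{u} R) j).map (𝟙 (K n)))
    rw [CategoryTheory.Functor.map_id]
    infer_instance
  | k + 1 => by
    show IsIso ((homologyFunctor (SheafOfModules.{u} R) j).map
      (t (n + k) ≫ CohCx.transition K t n k))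
    rw [CategoryTheory.Functor.map_comp]
    haveI := h (n + k) (by omega)
    haveI := isIso_homology_transition K t j n h k
    infer_instance

theorem main9064 (P : ObjectProperty (SheafOfModules.{u} R)) [WSerre.IsWeakSerre P] (B : Set C)
    (hB : ∀ U : C, ∃ (ι : Type u) (Y : ι → C) (g : ∀ i, Y i ⟶ U),
      Sieve.ofArrows Y g ∈ J U ∧ ∀ i, Y i ∈ B)
    (hA : ∀ V ∈ B, ∃ d : ℕ, ∀ T ∈ J V, ∃ (ι : Type u) (Y : ι → C) (g : ∀ i, Y i ⟶ V),
      (∀ i, T.arrows (g i)) ∧ Sieve.ofArrows Y g ∈ J V ∧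
      ∀ (i : ι) (F : SheafOfModules.{u} R), P F → ∀ k : ℕ, d < k →
        Subsingleton (CohSite.HU (ab R F) k (Y i)))
    (K : ℕ → DerivedCategory (SheafOfModules.{u} R)) (t : ∀ n, K (n + 1) ⟶ K n) [HasProduct K]
    (hK : ∀ n, WSerre.cohInPlus P (K n))
    (hconst : ∀ j : ℤ, ∃ n₀ : ℕ, ∀ n, n₀ ≤ n →
      IsIso ((homologyFunctor (SheafOfModules.{u} R) j).map (t n)))
    (L : DerivedCategory (SheafOfModules.{u} R)) (a : ∀ n, L ⟶ K n)
    (hL : CohCx.IsRlimVia K t L a) (j : ℤ) :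
    ∃ n₀ : ℕ, ∀ n, n₀ ≤ n →
      IsIso ((homologyFunctor (SheafOfModules.{u} R) j).map (a n)) := by
  haveI := Groth.Agent.Lib.FunctorialInjective.isGrothendieckAbelian_sheafOfModules J R
  haveI : HasExt.{u} (SheafOfModules.{u} R) := inferInstance
  choose n₀ hn₀ using hconst
  refine ⟨n₀ j, fun n hn => ?_⟩
  suffices hsuff : IsIso (Hmmap R (a n) j) from
    isIso_of_reflects_iso _ (SheafOfModules.toSheaf R)
  -- the local statement
  have hloc : ∀ V ∈ B, InjAt (Hmmap R (a n) j) V ∧ LocSurjAt (Hmmap R (a n) j) V := by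
    intro V hV
    obtain ⟨d, hd⟩ := hA V hV
    obtain ⟨N₁, hN₁⟩ := exists_bound n₀ (j - d - 2) (j + 1)
    have hfac : a (n + N₁) ≫ CohCx.transition K t n N₁ = a n :=
      RlimInj_helper7.a_transition K t L a hL n N₁
    haveI hτ : IsIso ((homologyFunctor (SheafOfModules.{u} R) j).map
        (CohCx.transition K t n N₁)) :=
      isIso_homology_transition R K t j n (fun n' hn' => hn₀ j n' (by omega)) N₁
    let τ : ab R ((homologyFunctor (SheafOfModules.{u} R) j).obj (K (n + N₁))) ≅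
        ab R ((homologyFunctor (SheafOfModules.{u} R) j).obj (K n)) :=
      (SheafOfModules.toSheaf R).mapIso
        (asIso ((homologyFunctor (SheafOfModules.{u} R) j).map (CohCx.transition K t n N₁)))
    have hψ : Hmmap R (a n) j = Hmmap R (a (n + N₁)) j ≫ τ.hom := by
      have e1 : (homologyFunctor (SheafOfModules.{u} R) j).map (a n) =
          (homologyFunctor (SheafOfModules.{u} R) j).map (a (n + N₁)) ≫
            (homologyFunctor (SheafOfModules.{u} R) j).map (CohCx.transition K t n N₁) := by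
        rw [← CategoryTheory.Functor.map_comp, hfac]
      show (SheafOfModules.toSheaf R).map _ =
        (SheafOfModules.toSheaf R).map _ ≫ (SheafOfModules.toSheaf R).map _
      rw [← CategoryTheory.Functor.map_comp]
      exact congrArg (SheafOfModules.toSheaf R).map e1
    have hkey : ∀ T ∈ J V, ∃ (ι : Type u) (Y : ι → C) (f : ∀ i, Y i ⟶ V),
        (∀ i, T.arrows (f i)) ∧ Sieve.ofArrows Y f ∈ J V ∧
        ∀ i, Function.Bijective (fun σ : TD R (Y i) ⟶ L⟦j⟧ => σ ≫ (a (n + N₁))⟦j⟧') := by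
      intro T hT
      obtain ⟨ι, Y, f, hf, hcov, hvan⟩ := hd T hT
      refine ⟨ι, Y, f, hf, hcov, fun i => ?_⟩
      have hZ : ∀ F : SheafOfModules.{u} R, P F → ∀ k : ℕ, d < k →
          Subsingleton (Abelian.Ext.{u} ((PM R).obj (Y i)) F k) :=
        fun F hF k hk => subsingleton_ext_of_HU R (Y i) F k (hvan i F hF k hk)
      apply bijective_of_eventually K t L a hL (TD R (Y i)) j (n + N₁)
      intro n' hn'
      have hiso : ∀ q : ℤ, j - d - 2 ≤ q → q ≤ j + 1 →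
          IsIso ((homologyFunctor (SheafOfModules.{u} R) q).map (t n')) :=
        fun q h1 h2 => hn₀ q n' (le_trans (hN₁ q h1 h2) (by omega))
      refine ⟨?_, ?_⟩
      · exact bijective_rightComp_of_isIso_homology P ((PM R).obj (Y i)) d hZ (t n')
          (hK (n' + 1)) (hK n') j (fun q h1 h2 => hiso q (by omega) (by omega))
      · exact (bijective_rightComp_of_isIso_homology P ((PM R).obj (Y i)) d hZ (t n')
          (hK (n' + 1)) (hK n') (j - 1) (fun q h1 h2 => hiso q (by omega) (by omega))).2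
    rw [hψ]
    constructor
    · apply InjAt.comp_iso
      apply injAt_Hm R (a (n + N₁)) j V
      intro T hT
      obtain ⟨ι, Y, f, h1, h2, h3⟩ := hkey T hT
      refine ⟨ι, Y, f, h1, h2, fun i σ hσ => ?_⟩
      apply (h3 i).1
      show σ ≫ (a (n + N₁))⟦j⟧' = 0 ≫ (a (n + N₁))⟦j⟧'
      rw [hσ, zero_comp]
    · apply LocSurjAt.comp_iso
      apply locSurjAt_Hm R (a (n + N₁)) j V
      intro T hT
      obtain ⟨ι, Y, f, h1, h2, h3⟩ := hkey T hT
      exact ⟨ι, Y, f, h1, h2, fun i σ' => (h3 i).2 σ'⟩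
  exact isIso_of_inj_locSurj _ B hB (fun V hV => (hloc V hV).1) (fun V hV => (hloc V hV).2)

end Groth.Agent.Lib.ModRlimConstH7
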