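import Mathlib
import Groth.Prelude.Def_CohCx
import Groth.Prelude.Def_WeakSerre
import Groth.Agent.Lib.ModTest_helper7
import Groth.Agent.Lib.TruncTower_helper7

/-!
# Pullback of the free module on a representable; transfer of cohomology vanishing (helper7)

* `pullPMIso`: for a continuous functor `uu : D ⥤ C` and a ring map `φ : R_D ⟶ uu_* R_C`, the module
  pullback of the free `R_D`-module on (the sheafification of) `h_V` is the free `R_C`-module on
  `h_{uu V}`.
* `subsingleton_HU_of_adj`: given an adjunction `F.mapDerivedCategory ⊣ Rf` (`F` exact), an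
  isomorphism `F (R_D[h_V]) ≅ R_C[h_W]` and a module `F'` with `F' ≅ Rf F F'`,
  `H^k(W, F F') = 0` implies `H^k(V, F') = 0`.
-/

set_option backward.isDefEq.respectTransparency false
set_option backward.isDefEq.respectTransparency.types false
set_option linter.style.haveILetI false
set_option linter.unusedSectionVars false
set_option linter.unusedVariables false
set_option autoImplicit false
set_option maxHeartbeats 1600000
universe w₁ w₂ u
open CategoryTheory CategoryTheory.Limits Opposite DerivedCategory Pretriangulated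

namespace Groth.Agent.Lib.PullRepH7

open Groth.Agent.Lib Groth.Agent.Lib.ModTestH7 Groth.Agent.Lib.TruncTower_helper7

variable {C : Type u} [SmallCategory C] {J : GrothendieckTopology C} (R_C : Sheaf J RingCat.{u})
  {D : Type u} [SmallCategory D] {K : GrothendieckTopology D} (R_D : Sheaf K RingCat.{u})

section Rep

variable (uu : D ⥤ C) [uu.IsContinuous K J]
  (φ : R_D ⟶ (uu.sheafPushforwardContinuous RingCat.{u} K J).obj R_C)
  [(SheafOfModules.pushforward.{u} φ).IsRightAdjoint]

/-- the universal section of `f_* f^* R_D[h_V]` over `V`, as a map out of `R_C[h_{uV}]` -/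
noncomputable def alpha (V : D) :
    (PM R_C).obj (uu.obj V) ⟶ (SheafOfModules.pullback.{u} φ).obj ((PM R_D).obj V) :=
  ofSectM R_C (uu.obj V) ((SheafOfModules.pullback.{u} φ).obj ((PM R_D).obj V))
    (evM R_D V ((SheafOfModules.pushforward.{u} φ).obj
        ((SheafOfModules.pullback.{u} φ).obj ((PM R_D).obj V)))
      ((SheafOfModules.pullbackPushforwardAdjunction.{u} φ).unit.app ((PM R_D).obj V)))

/-- the map `R_D[h_V] ⟶ f_* R_C[h_{uV}]` given by the universal section -/
noncomputable def beta₀ (V : D) :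
    (PM R_D).obj V ⟶ (SheafOfModules.pushforward.{u} φ).obj ((PM R_C).obj (uu.obj V)) :=
  ofSectM R_D V ((SheafOfModules.pushforward.{u} φ).obj ((PM R_C).obj (uu.obj V)))
    (evM R_C (uu.obj V) ((PM R_C).obj (uu.obj V)) (𝟙 _))

/-- its adjoint -/
noncomputable def beta (V : D) :
    (SheafOfModules.pullback.{u} φ).obj ((PM R_D).obj V) ⟶ (PM R_C).obj (uu.obj V) :=
  ((SheafOfModules.pullbackPushforwardAdjunction.{u} φ).homEquiv _ _).symm (beta₀ R_C R_D uu φ V)

lemma unit_beta (V : D) :
    (SheafOfModules.pullbackPushforwardAdjunction.{u} φ).unit.app ((PM R_D).obj V) ≫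
      (SheafOfModules.pushforward.{u} φ).map (beta R_C R_D uu φ V) = beta₀ R_C R_D uu φ V := by
  have h := (SheafOfModules.pullbackPushforwardAdjunction.{u} φ).homEquiv_unit
    (f := beta R_C R_D uu φ V)
  exact h.symm.trans (Equiv.apply_symm_apply _ _)

lemma evM_alpha (V : D) :
    evM R_C (uu.obj V) ((SheafOfModules.pullback.{u} φ).obj ((PM R_D).obj V))
      (alpha R_C R_D uu φ V) =
    evM R_D V ((SheafOfModules.pushforward.{u} φ).obj
        ((SheafOfModules.pullback.{u} φ).obj ((PM R_D).obj V)))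
      ((SheafOfModules.pullbackPushforwardAdjunction.{u} φ).unit.app ((PM R_D).obj V)) :=
  evM_ofSectM R_C (uu.obj V) _ _

lemma evM_beta₀ (V : D) :
    evM R_D V ((SheafOfModules.pushforward.{u} φ).obj ((PM R_C).obj (uu.obj V)))
      (beta₀ R_C R_D uu φ V) =
    evM R_C (uu.obj V) ((PM R_C).obj (uu.obj V)) (𝟙 _) :=
  evM_ofSectM R_D V _ _

lemma alpha_beta (V : D) : alpha R_C R_D uu φ V ≫ beta R_C R_D uu φ V = 𝟙 _ := by
  apply hom_ext_evM
  have h0 := evM_comp R_C (uu.obj V) (alpha R_C R_D uu φ V) (beta R_C R_D uu φ V)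
  rw [evM_alpha] at h0
  have h1 := evM_comp R_D V
    ((SheafOfModules.pullbackPushforwardAdjunction.{u} φ).unit.app ((PM R_D).obj V))
    ((SheafOfModules.pushforward.{u} φ).map (beta R_C R_D uu φ V))
  rw [unit_beta, evM_beta₀] at h1
  exact h0.trans h1.symm

lemma beta₀_alpha (V : D) :
    beta₀ R_C R_D uu φ V ≫ (SheafOfModules.pushforward.{u} φ).map (alpha R_C R_D uu φ V) =
      (SheafOfModules.pullbackPushforwardAdjunction.{u} φ).unit.app ((PM R_D).obj V) := by
  apply hom_ext_evM
  have h0 := evM_comp R_D V (beta₀ R_C R_D uu φ V)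
    ((SheafOfModules.pushforward.{u} φ).map (alpha R_C R_D uu φ V))
  rw [evM_beta₀] at h0
  have h3 := evM_comp R_C (uu.obj V) (𝟙 ((PM R_C).obj (uu.obj V))) (alpha R_C R_D uu φ V)
  rw [Category.id_comp, evM_alpha] at h3
  exact h0.trans h3.symm

lemma beta_alpha (V : D) : beta R_C R_D uu φ V ≫ alpha R_C R_D uu φ V = 𝟙 _ := by
  apply ((SheafOfModules.pullbackPushforwardAdjunction.{u} φ).homEquiv _ _).injective
  have hL := (SheafOfModules.pullbackPushforwardAdjunction.{u} φ).homEquiv_unit
    (f := beta R_C R_D uu φ V ≫ alpha R_C R_D uu φ V)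
  have hR := (SheafOfModules.pullbackPushforwardAdjunction.{u} φ).homEquiv_unit
    (f := 𝟙 ((SheafOfModules.pullback.{u} φ).obj ((PM R_D).obj V)))
  refine hL.trans (Eq.trans ?_ hR.symm)
  have e1 : (SheafOfModules.pullbackPushforwardAdjunction.{u} φ).unit.app ((PM R_D).obj V) ≫
      (SheafOfModules.pushforward.{u} φ).map (beta R_C R_D uu φ V ≫ alpha R_C R_D uu φ V) =
      ((SheafOfModules.pullbackPushforwardAdjunction.{u} φ).unit.app ((PM R_D).obj V) ≫
        (SheafOfModules.pushforward.{u} φ).map (beta R_C R_D uu φ V)) ≫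
        (SheafOfModules.pushforward.{u} φ).map (alpha R_C R_D uu φ V) := by
    rw [CategoryTheory.Functor.map_comp, Category.assoc]
  have e2 : (SheafOfModules.pullbackPushforwardAdjunction.{u} φ).unit.app ((PM R_D).obj V) ≫
      (SheafOfModules.pushforward.{u} φ).map
        (𝟙 ((SheafOfModules.pullback.{u} φ).obj ((PM R_D).obj V))) =
      (SheafOfModules.pullbackPushforwardAdjunction.{u} φ).unit.app ((PM R_D).obj V) := by
    rw [CategoryTheory.Functor.map_id]
    exact Category.comp_id _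
  rw [e1, e2, unit_beta]
  exact beta₀_alpha R_C R_D uu φ V

/-- `f^* R_D[h_V] ≅ R_C[h_{uV}]` -/
noncomputable def pullPMIso (V : D) :
    (SheafOfModules.pullback.{u} φ).obj ((PM R_D).obj V) ≅ (PM R_C).obj (uu.obj V) where
  hom := beta R_C R_D uu φ V
  inv := alpha R_C R_D uu φ V
  hom_inv_id := beta_alpha R_C R_D uu φ V
  inv_hom_id := alpha_beta R_C R_D uu φ V

end Rep

section Transfer

variable [HasDerivedCategory.{w₁} (SheafOfModules.{u} R_D)]
  [HasDerivedCategory.{w₂} (SheafOfModules.{u} R_C)]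
  (F : SheafOfModules.{u} R_D ⥤ SheafOfModules.{u} R_C) [F.Additive] [PreservesFiniteLimits F]
  [PreservesFiniteColimits F]
  {Rf : DerivedCategory (SheafOfModules.{u} R_C) ⥤ DerivedCategory (SheafOfModules.{u} R_D)}
  (adj : F.mapDerivedCategory ⊣ Rf)

include adj in
theorem subsingleton_HU_of_adj (F' : SheafOfModules.{u} R_D)
    (h3 : IsIso (adj.unit.app ((singleFunctor (SheafOfModules.{u} R_D) 0).obj F')))
    (V : D) (W : C) (e : F.obj ((PM R_D).obj V) ≅ (PM R_C).obj W) (k : ℕ)
    (h : Subsingleton (CohSite.HU (ab R_C (F.obj F')) k W)) :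
    Subsingleton (CohSite.HU (ab R_D F') k V) := by
  haveI := Groth.Agent.Lib.FunctorialInjective.isGrothendieckAbelian_sheafOfModules J R_C
  haveI := Groth.Agent.Lib.FunctorialInjective.isGrothendieckAbelian_sheafOfModules K R_D
  haveI : HasExt.{u} (SheafOfModules.{u} R_C) := inferInstance
  haveI : HasExt.{u} (SheafOfModules.{u} R_D) := inferInstance
  letI := adj.rightAdjointCommShift ℤ
  haveI := h3
  obtain ⟨eC⟩ := ext_rep_addEquiv R_C W (F.obj F') k
  obtain ⟨eD⟩ := ext_rep_addEquiv R_D V F' k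
  haveI := h
  haveI s1 : Subsingleton (Abelian.Ext.{u} ((PM R_C).obj W) (F.obj F') k) :=
    eC.toEquiv.subsingleton
  haveI s2 : Subsingleton ((singleFunctor (SheafOfModules.{u} R_C) 0).obj ((PM R_C).obj W) ⟶
      ((singleFunctor (SheafOfModules.{u} R_C) 0).obj (F.obj F'))⟦(k : ℤ)⟧) :=
    (Abelian.Ext.homEquiv (X := (PM R_C).obj W) (Y := F.obj F') (n := k)).symm.subsingleton
  let i1 : F.mapDerivedCategory.obj
      ((singleFunctor (SheafOfModules.{u} R_D) 0).obj ((PM R_D).obj V)) ≅
      (singleFunctor (SheafOfModules.{u} R_C) 0).obj ((PM R_C).obj W) :=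
    (F.mapDerivedCategorySingleFunctor 0).app ((PM R_D).obj V) ≪≫
      (singleFunctor (SheafOfModules.{u} R_C) 0).mapIso e
  let i2 : F.mapDerivedCategory.obj ((singleFunctor (SheafOfModules.{u} R_D) 0).obj F') ≅
      (singleFunctor (SheafOfModules.{u} R_C) 0).obj (F.obj F') :=
    (F.mapDerivedCategorySingleFunctor 0).app F'
  haveI s3 : Subsingleton (F.mapDerivedCategory.obj
      ((singleFunctor (SheafOfModules.{u} R_D) 0).obj ((PM R_D).obj V)) ⟶
      (F.mapDerivedCategory.obj
        ((singleFunctor (SheafOfModules.{u} R_D) 0).obj F'))⟦(k : ℤ)⟧) :=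
    ⟨fun a b => by
      have h1 : i1.inv ≫ a ≫ i2.hom⟦(k : ℤ)⟧' = i1.inv ≫ b ≫ i2.hom⟦(k : ℤ)⟧' :=
        Subsingleton.elim _ _
      have h2 := (cancel_epi i1.inv).1 h1
      exact (cancel_mono (i2.hom⟦(k : ℤ)⟧')).1 h2⟩
  haveI s4 : Subsingleton
      ((singleFunctor (SheafOfModules.{u} R_D) 0).obj ((PM R_D).obj V) ⟶
        Rf.obj ((F.mapDerivedCategory.obj
          ((singleFunctor (SheafOfModules.{u} R_D) 0).obj F'))⟦(k : ℤ)⟧)) :=
    (adj.homEquiv _ _).symm.subsingleton
  have s5 : Subsingleton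
      ((singleFunctor (SheafOfModules.{u} R_D) 0).obj ((PM R_D).obj V) ⟶
        (Rf.obj (F.mapDerivedCategory.obj
          ((singleFunctor (SheafOfModules.{u} R_D) 0).obj F')))⟦(k : ℤ)⟧) :=
    subsingleton_hom_of_iso ((Rf.commShiftIso (k : ℤ)).app _).symm s4
  have s6 : Subsingleton
      ((singleFunctor (SheafOfModules.{u} R_D) 0).obj ((PM R_D).obj V) ⟶
        ((singleFunctor (SheafOfModules.{u} R_D) 0).obj F')⟦(k : ℤ)⟧) :=
    subsingleton_hom_of_iso ((shiftFunctor (DerivedCategory (SheafOfModules.{u} R_D))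
      (k : ℤ)).mapIso (asIso (adj.unit.app
        ((singleFunctor (SheafOfModules.{u} R_D) 0).obj F')))) s5
  haveI := s6
  haveI s7 : Subsingleton (Abelian.Ext.{u} ((PM R_D).obj V) F' k) :=
    (Abelian.Ext.homEquiv (X := (PM R_D).obj V) (Y := F') (n := k)).subsingleton
  exact eD.symm.toEquiv.subsingleton

end Transfer

end Groth.Agent.Lib.PullRepH7
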