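import Mathlib
import Groth.Prelude.Def_CohCx
import Groth.Prelude.Def_WeakSerre
import Groth.Agent.Lib.PullRep_helper7
import Groth.Agent.Lib.ModRlimConst_helper7
import Groth.Agent.Lib.WayOut_helper4

/-!
# `Rf_*` of a module with vanishing higher cohomology on a basis; exactness of `f_*` (helper7)

* `subsingleton_hom_R_single`: `Hom(R_D[h_V], Rf_* N[k]) = 0` when `H^k(W, N) = 0` and
  `f^* R_D[h_V] ≅ R_C[h_W]`.
* `isLE_R_single`: if `H^k(u V, N) = 0` for `k > 0` and `V` in a basis, then `Rf_* N` has no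
  cohomology in positive degrees.
* `epi_push_map_g`: if `H^1(u V, S.X₁) = 0` for `V` in a basis then `f_* S.X₂ ⟶ f_* S.X₃` is an
  epimorphism.
-/

set_option backward.isDefEq.respectTransparency false
set_option backward.isDefEq.respectTransparency.types false
set_option linter.style.haveILetI false
set_option linter.unusedSectionVars false
set_option linter.unusedVariables false
set_option autoImplicit false
set_option maxHeartbeats 1600000
universe w₁ w₂ u
open CategoryTheory CategoryTheory.Limits Opposite DerivedCategory Pretriangulated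

namespace Groth.Agent.Lib.EpsSiteH7

open Groth.Agent.Lib Groth.Agent.Lib.ModTestH7 Groth.Agent.Lib.TruncTower_helper7
  Groth.Agent.Lib.ModHDH7 Groth.Agent.Lib.WayOutH4

variable {C : Type u} [SmallCategory C] {J : GrothendieckTopology C} (R_C : Sheaf J RingCat.{u})
  {D : Type u} [SmallCategory D] {K : GrothendieckTopology D} (R_D : Sheaf K RingCat.{u})

/-- a sheaf of modules all of whose sections vanish is zero -/
lemma isZero_of_sections_zeroM (N' : SheafOfModules.{u} R_C)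
    (h : ∀ (T : C) (s : (ab R_C N').obj.obj (op T)), s = 0) : IsZero N' := by
  rw [IsZero.iff_id_eq_zero]
  apply (SheafOfModules.toSheaf R_C).map_injective
  have hz : IsZero (ab R_C N') := by
    rw [IsZero.iff_id_eq_zero]
    ext T s
    exact (h T.unop _).trans (h T.unop _).symm
  exact hz.eq_of_src _ _

section Transfer

variable [HasDerivedCategory.{w₁} (SheafOfModules.{u} R_D)]
  [HasDerivedCategory.{w₂} (SheafOfModules.{u} R_C)]
  (F : SheafOfModules.{u} R_D ⥤ SheafOfModules.{u} R_C) [F.Additive] [PreservesFiniteLimits F]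
  [PreservesFiniteColimits F]
  {Rf : DerivedCategory (SheafOfModules.{u} R_C) ⥤ DerivedCategory (SheafOfModules.{u} R_D)}
  (adj : F.mapDerivedCategory ⊣ Rf)

include adj in
theorem subsingleton_hom_R_single (N : SheafOfModules.{u} R_C) (V : D) (W : C)
    (e : F.obj ((PM R_D).obj V) ≅ (PM R_C).obj W) (k : ℕ)
    (h : Subsingleton (CohSite.HU (ab R_C N) k W)) :
    Subsingleton (TD R_D V ⟶
      (Rf.obj ((singleFunctor (SheafOfModules.{u} R_C) 0).obj N))⟦(k : ℤ)⟧) := by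
  haveI := Groth.Agent.Lib.FunctorialInjective.isGrothendieckAbelian_sheafOfModules J R_C
  haveI : HasExt.{u} (SheafOfModules.{u} R_C) := inferInstance
  letI := adj.rightAdjointCommShift ℤ
  obtain ⟨eC⟩ := ext_rep_addEquiv R_C W N k
  haveI := h
  haveI s1 : Subsingleton (Abelian.Ext.{u} ((PM R_C).obj W) N k) :=
    eC.toEquiv.subsingleton
  haveI s2 : Subsingleton ((singleFunctor (SheafOfModules.{u} R_C) 0).obj ((PM R_C).obj W) ⟶
      ((singleFunctor (SheafOfModules.{u} R_C) 0).obj N)⟦(k : ℤ)⟧) :=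
    (Abelian.Ext.homEquiv (X := (PM R_C).obj W) (Y := N) (n := k)).symm.subsingleton
  let i1 : F.mapDerivedCategory.obj
      ((singleFunctor (SheafOfModules.{u} R_D) 0).obj ((PM R_D).obj V)) ≅
      (singleFunctor (SheafOfModules.{u} R_C) 0).obj ((PM R_C).obj W) :=
    (F.mapDerivedCategorySingleFunctor 0).app ((PM R_D).obj V) ≪≫
      (singleFunctor (SheafOfModules.{u} R_C) 0).mapIso e
  haveI s3 : Subsingleton (F.mapDerivedCategory.obj
      ((singleFunctor (SheafOfModules.{u} R_D) 0).obj ((PM R_D).obj V)) ⟶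
      ((singleFunctor (SheafOfModules.{u} R_C) 0).obj N)⟦(k : ℤ)⟧) :=
    ⟨fun a b => by
      have h1 : i1.inv ≫ a = i1.inv ≫ b := Subsingleton.elim _ _
      exact (cancel_epi i1.inv).1 h1⟩
  haveI s4 : Subsingleton
      ((singleFunctor (SheafOfModules.{u} R_D) 0).obj ((PM R_D).obj V) ⟶
        Rf.obj (((singleFunctor (SheafOfModules.{u} R_C) 0).obj N)⟦(k : ℤ)⟧)) :=
    (adj.homEquiv _ _).symm.subsingleton
  exact subsingleton_hom_of_iso ((Rf.commShiftIso (k : ℤ)).app _).symm s4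

include adj in
theorem isLE_R_single (uu : D → C)
    (hrep : ∀ V : D, Nonempty (F.obj ((PM R_D).obj V) ≅ (PM R_C).obj (uu V)))
    (B' : Set D)
    (hB' : ∀ U : D, ∃ (ι : Type u) (Y : ι → D) (g : ∀ i, Y i ⟶ U),
      Sieve.ofArrows Y g ∈ K U ∧ ∀ i, Y i ∈ B')
    (N : SheafOfModules.{u} R_C)
    (hN : ∀ V ∈ B', ∀ k : ℕ, 0 < k → Subsingleton (CohSite.HU (ab R_C N) k (uu V))) :
    (Rf.obj ((singleFunctor (SheafOfModules.{u} R_C) 0).obj N)).IsLE 0 := by
  refine (isLE_iff _ 0).2 (fun i hi => ?_)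
  obtain ⟨k, rfl⟩ : ∃ k : ℕ, i = (k : ℤ) := ⟨i.toNat, (Int.toNat_of_nonneg (by omega)).symm⟩
  have hk : 0 < k := by omega
  set M := Rf.obj ((singleFunctor (SheafOfModules.{u} R_C) 0).obj N) with hM
  suffices hz : IsZero ((homologyFunctor (SheafOfModules.{u} R_D) 0).obj (M⟦(k : ℤ)⟧)) from
    hz.of_iso (((homologyFunctor (SheafOfModules.{u} R_D) 0).shiftIso (k : ℤ) 0 (k : ℤ)
      (add_zero _)).app M).symm
  apply isZero_of_sections_zeroM
  intro T s
  obtain ⟨S, hS, hS'⟩ := locSurj R_D (M⟦(k : ℤ)⟧) T s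
  refine eq_zero_of_coverM R_D _ S hS s (fun V i hi => ?_)
  obtain ⟨σ, hσ⟩ := hS' i hi
  rw [← hσ]
  obtain ⟨ι, Y, g, hcov, hYB⟩ := hB' V
  refine eq_zero_of_coverM R_D _ (Sieve.ofArrows Y g) hcov _ (fun W j hj => ?_)
  obtain ⟨i0, b, rfl⟩ := (Sieve.mem_ofArrows_iff _ _ j).1 hj
  obtain ⟨e⟩ := hrep (Y i0)
  haveI : Subsingleton (TD R_D (Y i0) ⟶ M⟦(k : ℤ)⟧) :=
    subsingleton_hom_R_single R_C R_D F adj N (Y i0) (uu (Y i0)) e k (hN _ (hYB i0) k hk)
  have hz : TDmap R_D (g i0) ≫ σ = 0 := Subsingleton.elim _ _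
  rw [← etaApp_naturality, TDmap_comp, Category.assoc, hz, comp_zero, map_zero]

end Transfer

section Push

variable (uu : D ⥤ C) [uu.IsContinuous K J]
  (φ : R_D ⟶ (uu.sheafPushforwardContinuous RingCat.{u} K J).obj R_C)

theorem epi_push_map_g (S : ShortComplex (SheafOfModules.{u} R_C)) (hS : S.ShortExact)
    (B' : Set D)
    (hB' : ∀ U : D, ∃ (ι : Type u) (Y : ι → D) (g : ∀ i, Y i ⟶ U),
      Sieve.ofArrows Y g ∈ K U ∧ ∀ i, Y i ∈ B')
    (hv : ∀ V ∈ B', Subsingleton (CohSite.HU (ab R_C S.X₁) 1 (uu.obj V))) :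
    Epi ((SheafOfModules.pushforward.{u} φ).map S.g) := by
  haveI := Groth.Agent.Lib.FunctorialInjective.isGrothendieckAbelian_sheafOfModules J R_C
  haveI : HasExt.{u} (SheafOfModules.{u} R_C) := inferInstance
  haveI hfaith : (SheafOfModules.toSheaf.{u} R_D).Faithful := inferInstance
  haveI : (SheafOfModules.toSheaf.{u} R_D).ReflectsEpimorphisms :=
    CategoryTheory.Functor.reflectsEpimorphisms_of_faithful _
  apply (SheafOfModules.toSheaf R_D).epi_of_epi_map
  rw [← Sheaf.isLocallySurjective_iff_epi']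
  refine ⟨fun {U} s => ?_⟩
  obtain ⟨ι, Y, g, hcov, hYB⟩ := hB' U
  refine K.superset_covering ?_ hcov
  intro W j hj
  obtain ⟨i, b, rfl⟩ := (Sieve.mem_ofArrows_iff _ _ j).1 hj
  refine Sieve.downward_closed _ ?_ b
  -- lift over `Y i`
  let sᵢ : (ab R_C S.X₃).obj.obj (op (uu.obj (Y i))) :=
    ((ab R_D ((SheafOfModules.pushforward.{u} φ).obj S.X₃)).obj.map (g i).op).hom s
  let σ : (PM R_C).obj (uu.obj (Y i)) ⟶ S.X₃ := ofSectM R_C (uu.obj (Y i)) S.X₃ sᵢ
  obtain ⟨eC⟩ := ext_rep_addEquiv R_C (uu.obj (Y i)) S.X₁ 1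
  haveI := hv (Y i) (hYB i)
  haveI s1 : Subsingleton (Abelian.Ext.{u} ((PM R_C).obj (uu.obj (Y i))) S.X₁ 1) :=
    eC.toEquiv.subsingleton
  obtain ⟨x₂, hx₂⟩ := Abelian.Ext.covariant_sequence_exact₃ ((PM R_C).obj (uu.obj (Y i))) hS
    (Abelian.Ext.mk₀ σ) (rfl : 0 + 1 = 1) (Subsingleton.elim _ _)
  obtain ⟨σ₂, rfl⟩ := (Abelian.Ext.mk₀_bijective _ _).2 x₂
  rw [Abelian.Ext.mk₀_comp_mk₀] at hx₂
  have hσ₂ : σ₂ ≫ S.g = σ := (Abelian.Ext.mk₀_bijective _ _).1 hx₂
  have h1 := evM_comp R_C (uu.obj (Y i)) σ₂ S.g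
  rw [hσ₂, evM_ofSectM] at h1
  exact ⟨evM R_C (uu.obj (Y i)) S.X₂ σ₂, h1.symm⟩

end Push

end Groth.Agent.Lib.EpsSiteH7
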