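import Mathlib
import Groth.Prelude.Def_WeakSerre
import Groth.Agent.Lib.AdjHeart_helper7

/-!
# The essential image of a weak Serre subcategory under a fully faithful right adjoint with exact
left adjoint, exact on the subcategory, is weak Serre (helper7)
-/

set_option backward.isDefEq.respectTransparency false
set_option backward.isDefEq.respectTransparency.types false
set_option linter.style.haveILetI false
set_option linter.unusedSectionVars false
set_option linter.unusedVariables false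
set_option autoImplicit false
set_option maxHeartbeats 1600000
universe v v' u u'
open CategoryTheory CategoryTheory.Limits ZeroObject

namespace Groth.Agent.Lib.PushWSH7

open Groth.Agent.Lib.AdjHeartH7

variable {𝒜 : Type u} [Category.{v} 𝒜] [Abelian 𝒜] {𝒜' : Type u'} [Category.{v'} 𝒜'] [Abelian 𝒜']
  {pull : 𝒜' ⥤ 𝒜} {push : 𝒜 ⥤ 𝒜'} (adj : pull ⊣ push)
  [push.Additive] [pull.Additive] [PreservesFiniteLimits pull] [PreservesFiniteColimits pull]
  [push.Full] [push.Faithful]
  (P : ObjectProperty 𝒜) [WSerre.IsWeakSerre P]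
  (hX : ∀ S : ShortComplex 𝒜, S.ShortExact → P S.X₁ → Epi (push.map S.g))

include adj in
lemma preservesFiniteLimits_push : PreservesFiniteLimits push := by
  haveI : PreservesLimitsOfSize.{0, 0} push := adj.rightAdjoint_preservesLimits
  exact PreservesLimitsOfSize.preservesFiniteLimits _

include adj hX in
lemma shortExact_map_push (S : ShortComplex 𝒜) (hS : S.ShortExact) (h₁ : P S.X₁) :
    (S.map push).ShortExact := by
  haveI := preservesFiniteLimits_push adj
  have hex := (Functor.preservesFiniteLimits_iff_forall_exact_map_and_mono push).1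
    inferInstance S hS
  have hepi : Epi (push.map S.g) := hX S hS h₁
  exact ShortComplex.ShortExact.mk' hex.1 hex.2 hepi

include adj hX in
lemma cokerIso_mono {N₁ N₂ : 𝒜} (i : N₁ ⟶ N₂) [Mono i] (h₁ : P N₁) :
    Nonempty (push.obj (cokernel i) ≅ cokernel (push.map i)) := by
  let S : ShortComplex 𝒜 := ShortComplex.mk i (cokernel.π i) (cokernel.condition i)
  have hS : S.ShortExact := { exact := ShortComplex.exact_cokernel i }
  have hRS := shortExact_map_push adj P hX S hS h₁
  exact ⟨IsColimit.coconePointUniqueUpToIso hRS.gIsCokernel (colimit.isColimit _)⟩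

include adj hX in
lemma cokerIso {N₁ N₂ : 𝒜} (f : N₁ ⟶ N₂) (h₁ : P N₁) (h₂ : P N₂) :
    Nonempty (push.obj (cokernel f) ≅ cokernel (push.map f)) := by
  have hK : P (kernel f) := P.prop_kernel f h₁ h₂
  have hCo : P (Abelian.coimage f) := P.prop_cokernel (kernel.ι f) hK h₁
  let e1 : cokernel f ≅ cokernel (Abelian.factorThruCoimage f) :=
    cokernelIsoOfEq (Abelian.coimage.fac f).symm ≪≫ cokernelEpiComp _ _
  obtain ⟨e2⟩ := cokerIso_mono adj P hX (Abelian.factorThruCoimage f) hCo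
  let S₁ : ShortComplex 𝒜 := ShortComplex.mk (kernel.ι f) (cokernel.π (kernel.ι f))
    (cokernel.condition _)
  have hS₁ : S₁.ShortExact := { exact := ShortComplex.exact_cokernel (kernel.ι f) }
  haveI hepi : Epi (push.map (Abelian.coimage.π f)) := hX S₁ hS₁ hK
  have hfac : push.map f = push.map (Abelian.coimage.π f) ≫
      push.map (Abelian.factorThruCoimage f) := by
    rw [← push.map_comp, Abelian.coimage.fac]
  let e3 : cokernel (push.map f) ≅ cokernel (push.map (Abelian.factorThruCoimage f)) :=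
    cokernelIsoOfEq hfac ≪≫ cokernelEpiComp _ _
  exact ⟨push.mapIso e1 ≪≫ e2 ≪≫ e3.symm⟩

include adj hX in
theorem weakSerre_map : WSerre.IsWeakSerre (P.map push) where
  exists_zero := ⟨push.obj 0, push.map_isZero (isZero_zero _),
    P.prop_map_obj push (P.prop_of_isZero (isZero_zero 𝒜))⟩
  kernels_le := by
    rintro _ ⟨f, k, hk, hf⟩
    obtain ⟨N₁, hN₁, ⟨e₁⟩⟩ := hf.1
    obtain ⟨N₂, hN₂, ⟨e₂⟩⟩ := hf.2
    haveI := preservesFiniteLimits_push adj
    let f₀ : N₁ ⟶ N₂ := push.preimage (e₁.hom ≫ f ≫ e₂.inv)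
    have hf₀ : push.map f₀ = e₁.hom ≫ f ≫ e₂.inv := push.map_preimage _
    let i1 : push.obj (kernel f₀) ≅ kernel (push.map f₀) := PreservesKernel.iso push f₀
    let i2 : kernel (push.map f₀) ≅ kernel f := kernel.mapIso (push.map f₀) f e₁ e₂ (by
      rw [hf₀, Category.assoc, Category.assoc, Iso.inv_hom_id, Category.comp_id])
    let i3 : kernel f ≅ k.pt := IsLimit.conePointUniqueUpToIso (limit.isLimit (parallelPair f 0)) hk
    exact ⟨kernel f₀, P.prop_kernel f₀ hN₁ hN₂, ⟨i1 ≪≫ i2 ≪≫ i3⟩⟩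
  cokernels_le := by
    rintro _ ⟨f, k, hk, hf⟩
    obtain ⟨N₁, hN₁, ⟨e₁⟩⟩ := hf.1
    obtain ⟨N₂, hN₂, ⟨e₂⟩⟩ := hf.2
    let f₀ : N₁ ⟶ N₂ := push.preimage (e₁.hom ≫ f ≫ e₂.inv)
    have hf₀ : push.map f₀ = e₁.hom ≫ f ≫ e₂.inv := push.map_preimage _
    obtain ⟨i1⟩ := cokerIso adj P hX f₀ hN₁ hN₂
    let i2 : cokernel (push.map f₀) ≅ cokernel f := cokernel.mapIso (push.map f₀) f e₁ e₂ (by
      rw [hf₀, Category.assoc, Category.assoc, Iso.inv_hom_id, Category.comp_id])
    let i3 : cokernel f ≅ k.pt := IsColimit.coconePointUniqueUpToIso (colimit.isColimit (parallelPair f 0)) hk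
    exact ⟨cokernel f₀, P.prop_cokernel f₀ hN₁ hN₂, ⟨i1 ≪≫ i2 ≪≫ i3⟩⟩
  prop_X₂_of_shortExact := by
    intro S hS h₁ h₃
    obtain ⟨N₁, hN₁, ⟨e₁⟩⟩ := h₁
    obtain ⟨N₃, hN₃, ⟨e₃⟩⟩ := h₃
    have hS' : (S.map pull).ShortExact := hS.map_of_exact pull
    have hp₁ : P (pull.obj S.X₁) :=
      P.prop_of_iso ((asIso (adj.counit.app N₁)).symm ≪≫ pull.mapIso e₁) hN₁
    have hp₃ : P (pull.obj S.X₃) :=
      P.prop_of_iso ((asIso (adj.counit.app N₃)).symm ≪≫ pull.mapIso e₃) hN₃
    have hp₂ : P (pull.obj S.X₂) := P.prop_X₂_of_shortExact hS' hp₁ hp₃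
    have hS'' : ((S.map pull).map push).ShortExact :=
      shortExact_map_push adj P hX _ hS' hp₁
    let φ : S ⟶ (S.map pull).map push :=
      { τ₁ := adj.unit.app S.X₁
        τ₂ := adj.unit.app S.X₂
        τ₃ := adj.unit.app S.X₃
        comm₁₂ := (adj.unit.naturality S.f).symm
        comm₂₃ := (adj.unit.naturality S.g).symm }
    haveI i₁ : IsIso φ.τ₁ := (NatTrans.isIso_app_iff_of_iso adj.unit e₁).1
      (isIso_unit_of_isIso_counit adj N₁ inferInstance)
    haveI i₃ : IsIso φ.τ₃ := (NatTrans.isIso_app_iff_of_iso adj.unit e₃).1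
      (isIso_unit_of_isIso_counit adj N₃ inferInstance)
    haveI i₂ : IsIso φ.τ₂ := ShortComplex.isIso₂_of_shortExact_of_isIso₁₃ φ hS hS''
    haveI : IsIso (adj.unit.app S.X₂) := i₂
    exact ⟨pull.obj S.X₂, hp₂, ⟨(asIso (adj.unit.app S.X₂)).symm⟩⟩

end Groth.Agent.Lib.PushWSH7
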