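import Mathlib
import Groth.Prelude.Def_CohCx
import Groth.Prelude.Def_WeakSerre
import Groth.Agent.Lib.DerEquivGen_helper7
import Groth.Agent.Lib.ModRlimConst_helper7

/-!
# Equivalence `D_{A'}(O_D) ≃ D_A(O_C)` on unbounded derived categories of modules on sites,
under finite cohomological dimension hypotheses (helper7)

Generic form: `F : Mod R_D ⥤ Mod R_C` exact, `adj : F.mapDerivedCategory ⊣ Rf`.
-/

set_option backward.isDefEq.respectTransparency false
set_option backward.isDefEq.respectTransparency.types false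
set_option linter.style.haveILetI false
set_option linter.unusedSectionVars false
set_option linter.unusedVariables false
set_option autoImplicit false
set_option maxHeartbeats 1600000
universe w₁ w₂ u
open CategoryTheory CategoryTheory.Limits Opposite DerivedCategory Pretriangulated

namespace Groth.Agent.Lib.SiteEquivH7

open Groth.Agent.Lib Groth.Agent.Lib.ModTestH7 Groth.Agent.Lib.ModTruncRlimH7
  Groth.Agent.Lib.ModRlimConstH7 Groth.Agent.Lib.DerEquivGenH7 Groth.Agent.Lib.WayOutH4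
  Groth.Agent.Lib.TruncTower_helper7

variable {C : Type u} [SmallCategory C] {J : GrothendieckTopology C} (R_C : Sheaf J RingCat.{u})
  {D : Type u} [SmallCategory D] {K : GrothendieckTopology D} (R_D : Sheaf K RingCat.{u})
  [HasDerivedCategory.{w₁} (SheafOfModules.{u} R_D)]
  [HasDerivedCategory.{w₂} (SheafOfModules.{u} R_C)]
  (F : SheafOfModules.{u} R_D ⥤ SheafOfModules.{u} R_C) [F.Additive] [PreservesFiniteLimits F]
  [PreservesFiniteColimits F]
  {Rf : DerivedCategory (SheafOfModules.{u} R_C) ⥤ DerivedCategory (SheafOfModules.{u} R_D)}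
  (adj : F.mapDerivedCategory ⊣ Rf)
  (P_A : ObjectProperty (SheafOfModules.{u} R_C)) [WSerre.IsWeakSerre P_A]
  (P_B : ObjectProperty (SheafOfModules.{u} R_D)) [WSerre.IsWeakSerre P_B]

include adj in
theorem exists_isIso_R_toTruncTower
    (h2a : ∀ M' : SheafOfModules.{u} R_D, P_B M' → P_A (F.obj M'))
    (h2c : ∀ M : SheafOfModules.{u} R_C, P_A M →
      ∃ M' : SheafOfModules.{u} R_D, P_B M' ∧ Nonempty (F.obj M' ≅ M))
    (h3 : ∀ M' : SheafOfModules.{u} R_D, P_B M' →
      IsIso (adj.unit.app ((singleFunctor (SheafOfModules.{u} R_D) 0).obj M')))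
    (B : Set C) (B' : Set D)
    (hB : ∀ U : C, ∃ (ι : Type u) (Y : ι → C) (g : ∀ i, Y i ⟶ U),
      Sieve.ofArrows Y g ∈ J U ∧ ∀ i, Y i ∈ B)
    (hA : ∀ V ∈ B, ∃ d : ℕ, ∀ T ∈ J V, ∃ (ι : Type u) (Y : ι → C) (g : ∀ i, Y i ⟶ V),
      (∀ i, T.arrows (g i)) ∧ Sieve.ofArrows Y g ∈ J V ∧
      ∀ (i : ι) (M : SheafOfModules.{u} R_C), P_A M → ∀ k : ℕ, d < k →
        Subsingleton (CohSite.HU (ab R_C M) k (Y i)))
    (hB' : ∀ U : D, ∃ (ι : Type u) (Y : ι → D) (g : ∀ i, Y i ⟶ U),
      Sieve.ofArrows Y g ∈ K U ∧ ∀ i, Y i ∈ B')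
    (hA' : ∀ V ∈ B', ∃ d : ℕ, ∀ T ∈ K V, ∃ (ι : Type u) (Y : ι → D) (g : ∀ i, Y i ⟶ V),
      (∀ i, T.arrows (g i)) ∧ Sieve.ofArrows Y g ∈ K V ∧
      ∀ (i : ι) (M : SheafOfModules.{u} R_D), P_B M → ∀ k : ℕ, d < k →
        Subsingleton (CohSite.HU (ab R_D M) k (Y i)))
    (X : DerivedCategory (SheafOfModules.{u} R_C)) (hX : WSerre.cohIn P_A X) (j : ℤ) :
    ∃ n₁ : ℕ, ∀ n, n₁ ≤ n →
      IsIso ((homologyFunctor (SheafOfModules.{u} R_D) j).map
        (Rf.map (CohCx.toTruncTower X n))) := by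
  haveI := Groth.Agent.Lib.FunctorialInjective.isGrothendieckAbelian_sheafOfModules J R_C
  haveI := Groth.Agent.Lib.FunctorialInjective.isGrothendieckAbelian_sheafOfModules K R_D
  letI := adj.rightAdjointCommShift ℤ
  haveI := adj.commShift_of_leftAdjoint ℤ
  haveI : Rf.IsTriangulated := adj.isTriangulated_rightAdjoint
  haveI : Rf.Additive := adj.right_adjoint_additive
  haveI hP1 : HasProduct (CohCx.truncTower X) := hasProduct_derived _
  haveI hP2 : HasProduct (fun n => Rf.obj (CohCx.truncTower X n)) := hasProduct_derived _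
  haveI : PreservesLimitsOfSize.{0, 0} Rf := adj.rightAdjoint_preservesLimits
  haveI : PreservesLimit (Discrete.functor (CohCx.truncTower X)) Rf := inferInstance
  have hL : CohCx.IsRlimVia (CohCx.truncTower X) (CohCx.truncTowerMap X) X
      (CohCx.toTruncTower X) :=
    main9043 R_C X B hB (fun V hV => by
      obtain ⟨d, hd⟩ := hA V hV
      refine ⟨d, fun T hT => ?_⟩
      obtain ⟨ι, Y, g, hg, hcov, hvan⟩ := hd T hT
      exact ⟨ι, Y, g, hg, hcov, fun i q k _ hk => hvan i _ (hX q) k hk⟩)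
  have hL' := rlimVia_map Rf (CohCx.truncTower X) (CohCx.truncTowerMap X) X
    (CohCx.toTruncTower X) hL
  have h69 := main9069 F adj P_A P_B h2a h2c h3
  have hK : ∀ n, WSerre.cohInPlus P_B (Rf.obj (CohCx.truncTower X n)) := fun n =>
    (h69.2 _ (cohInPlus_truncTower P_A X hX n)).1
  have hconst : ∀ j : ℤ, ∃ n₀ : ℕ, ∀ n, n₀ ≤ n →
      IsIso ((homologyFunctor (SheafOfModules.{u} R_D) j).map
        (Rf.map (CohCx.truncTowerMap X n))) := fun j =>
    ⟨(-j).toNat, fun n hn =>
      isIso_homology_R_towerMap F adj P_A P_B h2c h3 X hX n j (by omega) (by omega)⟩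
  exact main9064 R_D P_B B' hB' hA' (fun n => Rf.obj (CohCx.truncTower X n))
    (fun n => Rf.map (CohCx.truncTowerMap X n)) hK hconst (Rf.obj X)
    (fun n => Rf.map (CohCx.toTruncTower X n)) hL' j

include adj in
theorem main_gen
    (h2a : ∀ M' : SheafOfModules.{u} R_D, P_B M' → P_A (F.obj M'))
    (h2c : ∀ M : SheafOfModules.{u} R_C, P_A M →
      ∃ M' : SheafOfModules.{u} R_D, P_B M' ∧ Nonempty (F.obj M' ≅ M))
    (h3 : ∀ M' : SheafOfModules.{u} R_D, P_B M' →
      IsIso (adj.unit.app ((singleFunctor (SheafOfModules.{u} R_D) 0).obj M')))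
    (B : Set C) (B' : Set D)
    (hB : ∀ U : C, ∃ (ι : Type u) (Y : ι → C) (g : ∀ i, Y i ⟶ U),
      Sieve.ofArrows Y g ∈ J U ∧ ∀ i, Y i ∈ B)
    (hA : ∀ V ∈ B, ∃ d : ℕ, ∀ T ∈ J V, ∃ (ι : Type u) (Y : ι → C) (g : ∀ i, Y i ⟶ V),
      (∀ i, T.arrows (g i)) ∧ Sieve.ofArrows Y g ∈ J V ∧
      ∀ (i : ι) (M : SheafOfModules.{u} R_C), P_A M → ∀ k : ℕ, d < k →
        Subsingleton (CohSite.HU (ab R_C M) k (Y i)))
    (hB' : ∀ U : D, ∃ (ι : Type u) (Y : ι → D) (g : ∀ i, Y i ⟶ U),
      Sieve.ofArrows Y g ∈ K U ∧ ∀ i, Y i ∈ B')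
    (hA' : ∀ V ∈ B', ∃ d : ℕ, ∀ T ∈ K V, ∃ (ι : Type u) (Y : ι → D) (g : ∀ i, Y i ⟶ V),
      (∀ i, T.arrows (g i)) ∧ Sieve.ofArrows Y g ∈ K V ∧
      ∀ (i : ι) (M : SheafOfModules.{u} R_D), P_B M → ∀ k : ℕ, d < k →
        Subsingleton (CohSite.HU (ab R_D M) k (Y i))) :
    (∀ Y : DerivedCategory (SheafOfModules.{u} R_D), WSerre.cohIn P_B Y →
      WSerre.cohIn P_A (F.mapDerivedCategory.obj Y) ∧ IsIso (adj.unit.app Y)) ∧
    (∀ X : DerivedCategory (SheafOfModules.{u} R_C), WSerre.cohIn P_A X →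
      WSerre.cohIn P_B (Rf.obj X) ∧ IsIso (adj.counit.app X)) := by
  have key := exists_isIso_R_toTruncTower R_C R_D F adj P_A P_B h2a h2c h3 B B' hB hA hB' hA'
  have h69 := main9069 F adj P_A P_B h2a h2c h3
  have hbig : ∀ (n₁ : ℕ) (j : ℤ), ∃ n : ℕ, n₁ ≤ n ∧ -(n : ℤ) ≤ j := fun n₁ j =>
    ⟨n₁ + (-j).toNat, Nat.le_add_right _ _, by
      have := Int.self_le_toNat (-j)
      push_cast
      omega⟩
  constructor
  · intro Y hY
    have hcoh : WSerre.cohIn P_A (F.mapDerivedCategory.obj Y) := by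
      intro q
      obtain ⟨e⟩ := nonempty_homologyIso F Y q
      exact P_A.prop_of_iso e.symm (h2a _ (hY q))
    refine ⟨hcoh, ?_⟩
    rw [DerivedCategory.isIso_iff]
    intro j
    obtain ⟨n₁, hn₁⟩ := key (F.mapDerivedCategory.obj Y) hcoh j
    obtain ⟨n, hn1, hn2⟩ := hbig n₁ j
    obtain ⟨c, hc⟩ := exists_trunc_comparison F Y n
    haveI h1 : IsIso ((homologyFunctor (SheafOfModules.{u} R_D) j).map
        (Rf.map (CohCx.toTruncTower (F.mapDerivedCategory.obj Y) n))) := hn₁ n hn1
    haveI h2 : IsIso (adj.unit.app (CohCx.truncTower Y n)) :=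
      (h69.1 _ (cohInPlus_truncTower P_B Y hY n)).2
    haveI h4 : IsIso ((homologyFunctor (SheafOfModules.{u} R_D) j).map
        (CohCx.toTruncTower Y n)) :=
      isIso_homology_truncGEπ Y (-(n : ℤ)) j hn2
    have hnat : adj.unit.app Y ≫ Rf.map (F.mapDerivedCategory.map (CohCx.toTruncTower Y n)) =
        CohCx.toTruncTower Y n ≫ adj.unit.app (CohCx.truncTower Y n) :=
      (adj.unit.naturality (CohCx.toTruncTower Y n)).symm
    have hfac : Rf.map (F.mapDerivedCategory.map (CohCx.toTruncTower Y n)) =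
        Rf.map (CohCx.toTruncTower (F.mapDerivedCategory.obj Y) n) ≫ Rf.map c.hom := by
      rw [← Rf.map_comp, hc]
    haveI h5 : IsIso ((homologyFunctor (SheafOfModules.{u} R_D) j).map
        (Rf.map (F.mapDerivedCategory.map (CohCx.toTruncTower Y n)))) := by
      rw [hfac, CategoryTheory.Functor.map_comp]
      infer_instance
    have e : (homologyFunctor (SheafOfModules.{u} R_D) j).map (adj.unit.app Y) ≫
        (homologyFunctor (SheafOfModules.{u} R_D) j).map
          (Rf.map (F.mapDerivedCategory.map (CohCx.toTruncTower Y n))) =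
        (homologyFunctor (SheafOfModules.{u} R_D) j).map (CohCx.toTruncTower Y n) ≫
          (homologyFunctor (SheafOfModules.{u} R_D) j).map
            (adj.unit.app (CohCx.truncTower Y n)) := by
      rw [← CategoryTheory.Functor.map_comp, ← CategoryTheory.Functor.map_comp, hnat]
    haveI h6 : IsIso ((homologyFunctor (SheafOfModules.{u} R_D) j).map (adj.unit.app Y) ≫
        (homologyFunctor (SheafOfModules.{u} R_D) j).map
          (Rf.map (F.mapDerivedCategory.map (CohCx.toTruncTower Y n)))) := by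
      rw [e]
      infer_instance
    exact IsIso.of_isIso_comp_right _ ((homologyFunctor (SheafOfModules.{u} R_D) j).map
      (Rf.map (F.mapDerivedCategory.map (CohCx.toTruncTower Y n))))
  · intro X hX
    constructor
    · intro j
      obtain ⟨n₁, hn₁⟩ := key X hX j
      haveI := hn₁ n₁ le_rfl
      have hK := (h69.2 _ (cohInPlus_truncTower P_A X hX n₁)).1
      exact P_B.prop_of_iso (asIso ((homologyFunctor (SheafOfModules.{u} R_D) j).map
        (Rf.map (CohCx.toTruncTower X n₁)))).symm (hK.1 j)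
    · rw [DerivedCategory.isIso_iff]
      intro j
      obtain ⟨n₁, hn₁⟩ := key X hX j
      obtain ⟨n, hn1, hn2⟩ := hbig n₁ j
      have h1 : IsIso ((homologyFunctor (SheafOfModules.{u} R_D) j).map
          (Rf.map (CohCx.toTruncTower X n))) := hn₁ n hn1
      haveI h2 : IsIso ((homologyFunctor (SheafOfModules.{u} R_C) j).map
          (F.mapDerivedCategory.map (Rf.map (CohCx.toTruncTower X n)))) :=
        isIso_homology_map F j _ h1
      haveI h3' : IsIso (adj.counit.app (CohCx.truncTower X n)) :=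
        (h69.2 _ (cohInPlus_truncTower P_A X hX n)).2
      haveI h4 : IsIso ((homologyFunctor (SheafOfModules.{u} R_C) j).map
          (CohCx.toTruncTower X n)) :=
        isIso_homology_truncGEπ X (-(n : ℤ)) j hn2
      have hnat : F.mapDerivedCategory.map (Rf.map (CohCx.toTruncTower X n)) ≫
          adj.counit.app (CohCx.truncTower X n) =
          adj.counit.app X ≫ CohCx.toTruncTower X n :=
        adj.counit.naturality (CohCx.toTruncTower X n)
      have e : (homologyFunctor (SheafOfModules.{u} R_C) j).map (adj.counit.app X) ≫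
          (homologyFunctor (SheafOfModules.{u} R_C) j).map (CohCx.toTruncTower X n) =
          (homologyFunctor (SheafOfModules.{u} R_C) j).map
            (F.mapDerivedCategory.map (Rf.map (CohCx.toTruncTower X n))) ≫
          (homologyFunctor (SheafOfModules.{u} R_C) j).map
            (adj.counit.app (CohCx.truncTower X n)) := by
        rw [← CategoryTheory.Functor.map_comp, ← CategoryTheory.Functor.map_comp, hnat]
      haveI h6 : IsIso ((homologyFunctor (SheafOfModules.{u} R_C) j).map (adj.counit.app X) ≫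
          (homologyFunctor (SheafOfModules.{u} R_C) j).map (CohCx.toTruncTower X n)) := by
        rw [e]
        infer_instance
      exact IsIso.of_isIso_comp_right _
        ((homologyFunctor (SheafOfModules.{u} R_C) j).map (CohCx.toTruncTower X n))

end Groth.Agent.Lib.SiteEquivH7
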