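import Mathlib
import Groth.Prelude.Def_CohCx
import Groth.Prelude.Def_WeakSerre
import Groth.Agent.Lib.SiteEquiv_helper7
import Groth.Agent.Lib.PullRep_helper7

/-!
# Variant of `SiteEquivH7.main_gen` with the vanishing hypothesis on the target site stated upstairs
(helper7)
-/

set_option backward.isDefEq.respectTransparency false
set_option backward.isDefEq.respectTransparency.types false
set_option linter.style.haveILetI false
set_option linter.unusedSectionVars false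
set_option linter.unusedVariables false
set_option autoImplicit false
set_option maxHeartbeats 1600000
universe w₁ w₂ u
open CategoryTheory CategoryTheory.Limits Opposite DerivedCategory Pretriangulated

namespace Groth.Agent.Lib.SiteEquivH7

open Groth.Agent.Lib Groth.Agent.Lib.ModTestH7 Groth.Agent.Lib.PullRepH7

variable {C : Type u} [SmallCategory C] {J : GrothendieckTopology C} (R_C : Sheaf J RingCat.{u})
  {D : Type u} [SmallCategory D] {K : GrothendieckTopology D} (R_D : Sheaf K RingCat.{u})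
  [HasDerivedCategory.{w₁} (SheafOfModules.{u} R_D)]
  [HasDerivedCategory.{w₂} (SheafOfModules.{u} R_C)]
  (F : SheafOfModules.{u} R_D ⥤ SheafOfModules.{u} R_C) [F.Additive] [PreservesFiniteLimits F]
  [PreservesFiniteColimits F]
  {Rf : DerivedCategory (SheafOfModules.{u} R_C) ⥤ DerivedCategory (SheafOfModules.{u} R_D)}
  (adj : F.mapDerivedCategory ⊣ Rf)
  (P_A : ObjectProperty (SheafOfModules.{u} R_C)) [WSerre.IsWeakSerre P_A]
  (P_B : ObjectProperty (SheafOfModules.{u} R_D)) [WSerre.IsWeakSerre P_B]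

include adj in
theorem main_gen_upstairs (uu : D ⥤ C)
    (hrep : ∀ V : D, Nonempty (F.obj ((PM R_D).obj V) ≅ (PM R_C).obj (uu.obj V)))
    (h2a : ∀ M' : SheafOfModules.{u} R_D, P_B M' → P_A (F.obj M'))
    (h2c : ∀ M : SheafOfModules.{u} R_C, P_A M →
      ∃ M' : SheafOfModules.{u} R_D, P_B M' ∧ Nonempty (F.obj M' ≅ M))
    (h3 : ∀ M' : SheafOfModules.{u} R_D, P_B M' →
      IsIso (adj.unit.app ((singleFunctor (SheafOfModules.{u} R_D) 0).obj M')))
    (B : Set C) (B' : Set D)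
    (hB : ∀ U : C, ∃ (ι : Type u) (Y : ι → C) (g : ∀ i, Y i ⟶ U),
      Sieve.ofArrows Y g ∈ J U ∧ ∀ i, Y i ∈ B)
    (hA : ∀ V ∈ B, ∃ d : ℕ, ∀ T ∈ J V, ∃ (ι : Type u) (Y : ι → C) (g : ∀ i, Y i ⟶ V),
      (∀ i, T.arrows (g i)) ∧ Sieve.ofArrows Y g ∈ J V ∧
      ∀ (i : ι) (M : SheafOfModules.{u} R_C), P_A M → ∀ k : ℕ, d < k →
        Subsingleton (CohSite.HU (ab R_C M) k (Y i)))
    (hB' : ∀ U : D, ∃ (ι : Type u) (Y : ι → D) (g : ∀ i, Y i ⟶ U),
      Sieve.ofArrows Y g ∈ K U ∧ ∀ i, Y i ∈ B')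
    (hA' : ∀ V ∈ B', ∃ d : ℕ, ∀ T ∈ K V, ∃ (ι : Type u) (Y : ι → D) (g : ∀ i, Y i ⟶ V),
      (∀ i, T.arrows (g i)) ∧ Sieve.ofArrows Y g ∈ K V ∧
      ∀ (i : ι) (M : SheafOfModules.{u} R_C), P_A M → ∀ k : ℕ, d < k →
        Subsingleton (CohSite.HU (ab R_C M) k (uu.obj (Y i)))) :
    (∀ Y : DerivedCategory (SheafOfModules.{u} R_D), WSerre.cohIn P_B Y →
      WSerre.cohIn P_A (F.mapDerivedCategory.obj Y) ∧ IsIso (adj.unit.app Y)) ∧
    (∀ X : DerivedCategory (SheafOfModules.{u} R_C), WSerre.cohIn P_A X →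
      WSerre.cohIn P_B (Rf.obj X) ∧ IsIso (adj.counit.app X)) := by
  refine main_gen R_C R_D F adj P_A P_B h2a h2c h3 B B' hB hA hB' ?_
  intro V hV
  obtain ⟨d, hd⟩ := hA' V hV
  refine ⟨d, fun T hT => ?_⟩
  obtain ⟨ι, Y, g, hg, hcov, hvan⟩ := hd T hT
  refine ⟨ι, Y, g, hg, hcov, fun i M hM k hk => ?_⟩
  obtain ⟨e⟩ := hrep (Y i)
  exact subsingleton_HU_of_adj R_C R_D F adj M (h3 M hM) (Y i) (uu.obj (Y i)) e k
    (hvan i (F.obj M) (h2a M hM) k hk)

end Groth.Agent.Lib.SiteEquivH7
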