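import Mathlib
import Groth.Prelude.Def_SiteCmp
import Groth.Prelude.Def_CohCx
import Groth.Prelude.Def_WeakSerre
import Groth.Agent.Lib.EpsSite1_helper7
import Groth.Agent.Lib.PushWS_helper7
import Groth.Agent.Lib.SiteEquiv2_helper7

/-!
# Comparison of two topologies: `ε^*`, `Rε_*` are quasi-inverse equivalences between `D_A(O_τ')` and
`D_A(O_τ)` (helper7)
-/

set_option backward.isDefEq.respectTransparency false
set_option backward.isDefEq.respectTransparency.types false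
set_option linter.style.haveILetI false
set_option linter.unusedSectionVars false
set_option linter.unusedVariables false
set_option autoImplicit false
set_option maxHeartbeats 1600000
universe u
open CategoryTheory CategoryTheory.Limits Opposite DerivedCategory

namespace Groth.Agent.Lib.EpsSiteH7

open Groth.Agent.Lib Groth.Agent.Lib.ModTestH7 Groth.Agent.Lib.PullRepH7
  Groth.Agent.Lib.AdjHeartH7 Groth.Agent.Lib.PushWSH7 Groth.Agent.Lib.SiteEquivH7

section FF

variable {C : Type u} [SmallCategory C] {J J' : GrothendieckTopology C} (h : J' ≤ J)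
  (O : Sheaf J CommRingCat.{u})

/-- preimage of a map between direct images along the comparison morphism -/
noncomputable def pre {N₁ N₂ : ModSite.Mod O}
    (k : (SiteCmp.eps h O).push.obj N₁ ⟶ (SiteCmp.eps h O).push.obj N₂) : N₁ ⟶ N₂ where
  val := PresheafOfModules.homMk
    { app := fun X => (forget₂ _ AddCommGrpCat).map (k.val.app X)
      naturality := fun X Y f => by
        have := k.val.naturality f
        ext x
        exact congrArg (fun κ => κ.hom x) this }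
    (fun X r m => by
      exact (k.val.app X).hom.map_smul r m)

lemma push_pre {N₁ N₂ : ModSite.Mod O}
    (k : (SiteCmp.eps h O).push.obj N₁ ⟶ (SiteCmp.eps h O).push.obj N₂) :
    (SiteCmp.eps h O).push.map (pre h O k) = k := by
  apply SheafOfModules.Hom.ext
  apply PresheafOfModules.hom_ext
  intro X
  rfl

lemma pre_push {N₁ N₂ : ModSite.Mod O} (g : N₁ ⟶ N₂) :
    pre h O ((SiteCmp.eps h O).push.map g) = g := by
  apply SheafOfModules.Hom.ext
  apply PresheafOfModules.hom_ext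
  intro X
  rfl

instance full_push : (SiteCmp.eps h O).push.Full :=
  ⟨fun k => ⟨pre h O k, push_pre h O k⟩⟩

instance faithful_push : (SiteCmp.eps h O).push.Faithful :=
  ⟨fun {N₁ N₂} g g' hg => by
    have h1 := congrArg (pre h O) hg
    rw [pre_push, pre_push] at h1
    exact h1⟩

end FF

section Cover

variable {C : Type u} [SmallCategory C]

lemma exists_refinement (K' : GrothendieckTopology C) (B : Set C)
    (hB : ∀ U : C, ∃ (ι : Type u) (Y : ι → C) (g : ∀ i, Y i ⟶ U),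
      Sieve.ofArrows Y g ∈ K' U ∧ ∀ i, Y i ∈ B)
    (V : C) (T : Sieve V) (hT : T ∈ K' V) :
    ∃ (ι : Type u) (Y : ι → C) (g : ∀ i, Y i ⟶ V),
      (∀ i, T.arrows (g i)) ∧ Sieve.ofArrows Y g ∈ K' V ∧ ∀ i, Y i ∈ B := by
  choose ιU YU gU hcovU hBU using hB
  refine ⟨Σ (W : C) (a : {a : W ⟶ V // T.arrows a}), ιU W, fun x => YU x.1 x.2.2,
    fun x => gU x.1 x.2.2 ≫ x.2.1.1, ?_, ?_, ?_⟩
  · intro x
    exact T.downward_closed x.2.1.2 _
  · refine K'.transitive hT _ (fun W a ha => ?_)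
    refine K'.superset_covering ?_ (hcovU W)
    intro W' j hj
    obtain ⟨i, b, rfl⟩ := (Sieve.mem_ofArrows_iff _ _ j).1 hj
    show (Sieve.ofArrows (fun x : Σ (W : C) (a : {a : W ⟶ V // T.arrows a}), ιU W =>
        YU x.1 x.2.2) (fun x => gU x.1 x.2.2 ≫ x.2.1.1)).arrows ((b ≫ gU W i) ≫ a)
    rw [Category.assoc]
    exact Sieve.downward_closed _ (Sieve.ofArrows_mk
      (fun x : Σ (W : C) (a : {a : W ⟶ V // T.arrows a}), ιU W => YU x.1 x.2.2)
      (fun x => gU x.1 x.2.2 ≫ x.2.1.1) ⟨W, ⟨a, ha⟩, i⟩) b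
  · intro x
    exact hBU _ _

end Cover

section Main

attribute [local instance] HasDerivedCategory.standard

variable {C : Type u} [SmallCategory C] {J J' : GrothendieckTopology C}

theorem main9071 (h : J' ≤ J) (O : Sheaf J CommRingCat.{u})
    [PreservesFiniteLimits (SiteCmp.eps h O).pull] [SiteCmp.HasRpushD (SiteCmp.eps h O)]
    (adj : SiteCmp.pullD (SiteCmp.eps h O) ⊣ SiteCmp.RpushD (SiteCmp.eps h O))
    (A : ObjectProperty (ModSite.Mod O)) [WSerre.IsWeakSerre A] (B : Set C)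
    (h3 : ∀ U : C, ∃ (ι : Type u) (Y : ι → C) (g : ∀ i, Y i ⟶ U),
      Sieve.ofArrows Y g ∈ J' U ∧ ∀ i, Y i ∈ B)
    (h4 : ∀ U ∈ B, ∀ F : ModSite.Mod O, A F → ∀ p : ℕ, 0 < p →
      Subsingleton (ModSite.HU O F p U)) :
    WSerre.IsWeakSerre (A.map (SiteCmp.eps h O).push) ∧
    (∀ Y : DerivedCategory (ModSite.Mod (SiteCmp.epsRing h O)),
      WSerre.cohIn (A.map (SiteCmp.eps h O).push) Y →
      WSerre.cohIn A ((SiteCmp.pullD (SiteCmp.eps h O)).obj Y) ∧ IsIso (adj.unit.app Y)) ∧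
    (∀ X : DerivedCategory (ModSite.Mod O), WSerre.cohIn A X →
      WSerre.cohIn (A.map (SiteCmp.eps h O).push)
        ((SiteCmp.RpushD (SiteCmp.eps h O)).obj X) ∧
      IsIso (adj.counit.app X)) := by
  have hX : ∀ S : ShortComplex (ModSite.Mod O), S.ShortExact → A S.X₁ →
      Epi ((SiteCmp.eps h O).push.map S.g) := fun S hS hA₁ =>
    epi_push_map_g (ModSite.ringSh O) (ModSite.ringSh (SiteCmp.epsRing h O))
      (SiteCmp.eps h O).fn (SiteCmp.eps h O).sharpR S hS B h3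
      (fun V hV => h4 V hV S.X₁ hA₁ 1 one_pos)
  have hWS : WSerre.IsWeakSerre (A.map (SiteCmp.eps h O).push) :=
    weakSerre_map (SiteCmp.eps h O).adj A hX
  haveI := hWS
  have hcounit : ∀ N : ModSite.Mod O, IsIso ((SiteCmp.eps h O).adj.counit.app N) :=
    fun N => inferInstance
  have h2a : ∀ M' : ModSite.Mod (SiteCmp.epsRing h O), (A.map (SiteCmp.eps h O).push) M' →
      A ((SiteCmp.eps h O).pull.obj M') := by
    rintro M' ⟨N, hN, ⟨e⟩⟩
    haveI := hcounit N
    exact A.prop_of_iso ((asIso ((SiteCmp.eps h O).adj.counit.app N)).symm ≪≫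
      (SiteCmp.eps h O).pull.mapIso e) hN
  have h2c : ∀ N : ModSite.Mod O, A N → ∃ M' : ModSite.Mod (SiteCmp.epsRing h O),
      (A.map (SiteCmp.eps h O).push) M' ∧ Nonempty ((SiteCmp.eps h O).pull.obj M' ≅ N) :=
    fun N hN => by
      haveI := hcounit N
      exact ⟨(SiteCmp.eps h O).push.obj N, A.prop_map_obj _ hN,
        ⟨asIso ((SiteCmp.eps h O).adj.counit.app N)⟩⟩
  have hrep : ∀ V : C, Nonempty ((SiteCmp.eps h O).pull.obj
      ((PM (ModSite.ringSh (SiteCmp.epsRing h O))).obj V) ≅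
      (PM (ModSite.ringSh O)).obj ((SiteCmp.eps h O).fn.obj V)) := fun V =>
    ⟨pullPMIso (ModSite.ringSh O) (ModSite.ringSh (SiteCmp.epsRing h O))
      (SiteCmp.eps h O).fn (SiteCmp.eps h O).sharpR V⟩
  have h3' : ∀ M' : ModSite.Mod (SiteCmp.epsRing h O), (A.map (SiteCmp.eps h O).push) M' →
      IsIso (adj.unit.app ((singleFunctor (ModSite.Mod (SiteCmp.epsRing h O)) 0).obj M')) := by
    rintro M' ⟨N, hN, ⟨e⟩⟩
    haveI := hcounit N
    have hLE0 : ((SiteCmp.RpushD (SiteCmp.eps h O)).obj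
        ((singleFunctor (ModSite.Mod O) 0).obj N)).IsLE 0 :=
      isLE_R_single (ModSite.ringSh O) (ModSite.ringSh (SiteCmp.epsRing h O))
        (SiteCmp.eps h O).pull adj (fun V => (SiteCmp.eps h O).fn.obj V) hrep B h3 N
        (fun V hV k hk => h4 V hV N hN k hk)
    let i0 : (SiteCmp.pullD (SiteCmp.eps h O)).obj
        ((singleFunctor (ModSite.Mod (SiteCmp.epsRing h O)) 0).obj
          ((SiteCmp.eps h O).push.obj N)) ≅ (singleFunctor (ModSite.Mod O) 0).obj N :=
      ((SiteCmp.eps h O).pull.mapDerivedCategorySingleFunctor 0).app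
          ((SiteCmp.eps h O).push.obj N) ≪≫
        (singleFunctor (ModSite.Mod O) 0).mapIso (asIso ((SiteCmp.eps h O).adj.counit.app N))
    have hLE : ((SiteCmp.RpushD (SiteCmp.eps h O)).obj
        ((SiteCmp.eps h O).pull.mapDerivedCategory.obj
          ((singleFunctor (ModSite.Mod (SiteCmp.epsRing h O)) 0).obj
            ((SiteCmp.eps h O).push.obj N)))).IsLE 0 := by
      haveI := hLE0
      exact TStructure.t.isLE_of_iso ((SiteCmp.RpushD (SiteCmp.eps h O)).mapIso i0.symm) 0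
    have hiso : IsIso (adj.unit.app ((singleFunctor (ModSite.Mod (SiteCmp.epsRing h O)) 0).obj
        ((SiteCmp.eps h O).push.obj N))) :=
      isIso_unit_single (SiteCmp.eps h O).pull adj ((SiteCmp.eps h O).push.obj N) hLE
        (fun L => bijective_map_of_isIso_counit (SiteCmp.eps h O).adj N (hcounit N) L)
    exact (NatTrans.isIso_app_iff_of_iso adj.unit
      ((singleFunctor (ModSite.Mod (SiteCmp.epsRing h O)) 0).mapIso e)).1 hiso
  have hBJ : ∀ U : C, ∃ (ι : Type u) (Y : ι → C) (g : ∀ i, Y i ⟶ U),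
      Sieve.ofArrows Y g ∈ J U ∧ ∀ i, Y i ∈ B := fun U => by
    obtain ⟨ι, Y, g, hcov, hYB⟩ := h3 U
    exact ⟨ι, Y, g, h _ hcov, hYB⟩
  have hA : ∀ V ∈ B, ∃ d : ℕ, ∀ T ∈ J V, ∃ (ι : Type u) (Y : ι → C) (g : ∀ i, Y i ⟶ V),
      (∀ i, T.arrows (g i)) ∧ Sieve.ofArrows Y g ∈ J V ∧
      ∀ (i : ι) (M : ModSite.Mod O), A M → ∀ k : ℕ, d < k →
        Subsingleton (CohSite.HU (ab (ModSite.ringSh O) M) k (Y i)) := fun V hV =>
    ⟨0, fun T hT => by
      obtain ⟨ι, Y, g, hgT, hcov, hYB⟩ := exists_refinement J B hBJ V T hT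
      exact ⟨ι, Y, g, hgT, hcov, fun i M hM k hk => h4 (Y i) (hYB i) M hM k hk⟩⟩
  have hA' : ∀ V ∈ B, ∃ d : ℕ, ∀ T ∈ J' V, ∃ (ι : Type u) (Y : ι → C) (g : ∀ i, Y i ⟶ V),
      (∀ i, T.arrows (g i)) ∧ Sieve.ofArrows Y g ∈ J' V ∧
      ∀ (i : ι) (M : ModSite.Mod O), A M → ∀ k : ℕ, d < k →
        Subsingleton (CohSite.HU (ab (ModSite.ringSh O) M) k
          ((SiteCmp.eps h O).fn.obj (Y i))) := fun V hV =>
    ⟨0, fun T hT => by
      obtain ⟨ι, Y, g, hgT, hcov, hYB⟩ := exists_refinement J' B h3 V T hT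
      exact ⟨ι, Y, g, hgT, hcov, fun i M hM k hk => h4 (Y i) (hYB i) M hM k hk⟩⟩
  have hmain := main_gen_upstairs (ModSite.ringSh O) (ModSite.ringSh (SiteCmp.epsRing h O))
    (SiteCmp.eps h O).pull adj A (A.map (SiteCmp.eps h O).push) (SiteCmp.eps h O).fn hrep
    h2a h2c h3' B B hBJ hA h3 hA'
  exact ⟨hWS, hmain.1, hmain.2⟩

end Main

end Groth.Agent.Lib.EpsSiteH7
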