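import Mathlib

set_option autoImplicit false
set_option maxHeartbeats 1000000

/-!
# Descent of a bialgebra isomorphism along a finite equalizer system of algebras over a field (helper1)
-/

namespace EqDescentH1

open TensorProduct

universe u

section general

variable (K : Type u) [Field K] (ιv ιe : Type u) [Finite ιv]
  (Kv : ιv → Type u) [∀ i, CommRing (Kv i)] [∀ i, Algebra K (Kv i)]
  (Ke : ιe → Type u) [∀ k, CommRing (Ke k)] [∀ k, Algebra K (Ke k)]
  (l r : ιe → ιv) (ρl : ∀ k, Kv (l k) →ₐ[K] Ke k) (ρr : ∀ k, Kv (r k) →ₐ[K] Ke k)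
  (hlim : ∀ x : (∀ i, Kv i), (∀ k, ρl k (x (l k)) = ρr k (x (r k))) →
    ∃! a : K, ∀ i, algebraMap K (Kv i) a = x i)

include hlim in
theorem uniq0 (c : K) (hc : ∀ i, algebraMap K (Kv i) c = 0) : c = 0 := by
  have h := hlim (fun _ => 0) (fun k => by rw [map_zero, map_zero])
  exact h.unique hc (fun i => map_zero _)

include hlim in
theorem exists_nontrivial : ∃ i0 : ιv, Nontrivial (Kv i0) := by
  by_contra hcon
  push_neg at hcon
  have h1 : (1 : K) = 0 := by
    apply uniq0 K ιv ιe Kv Ke l r ρl ρr hlim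
    intro i
    haveI : Subsingleton (Kv i) := hcon i
    exact Subsingleton.elim _ _
  exact one_ne_zero h1

section module

variable (M : Type u) [AddCommGroup M] [Module K M]

include hlim in
theorem joint_inj (m : M) (h : ∀ i, (1 : Kv i) ⊗ₜ[K] m = 0) : m = 0 := by
  obtain ⟨J, ⟨b⟩⟩ : ∃ J : Type u, Nonempty (Module.Basis J K M) :=
    ⟨_, ⟨Module.Free.chooseBasis K M⟩⟩
  apply (LinearEquiv.map_eq_zero_iff b.repr).mp
  ext j
  rw [Finsupp.zero_apply]
  apply uniq0 K ιv ιe Kv Ke l r ρl ρr hlim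
  intro i
  have h1 := congrArg (fun y => (Algebra.TensorProduct.basis (Kv i) b).repr y j) (h i)
  simp only [Algebra.TensorProduct.basis_repr_tmul, map_zero, Finsupp.zero_apply,
    Finsupp.smul_apply, Finsupp.mapRange_apply, smul_eq_mul, one_mul] at h1
  exact h1

include hlim in
theorem eq_of_forall (m m' : M) (h : ∀ i, (1 : Kv i) ⊗ₜ[K] m = 1 ⊗ₜ[K] m') : m = m' := by
  rw [← sub_eq_zero]
  apply joint_inj K ιv ιe Kv Ke l r ρl ρr hlim M
  intro i
  rw [TensorProduct.tmul_sub, h i, sub_self]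

/-- the canonical map `M ⊗ M → (S ⊗ M) ⊗[S] (S ⊗ M)` -/
noncomputable def JJ (i : ιv) (t : M ⊗[K] M) : (Kv i ⊗[K] M) ⊗[Kv i] (Kv i ⊗[K] M) :=
  TensorProduct.AlgebraTensorModule.tensorTensorTensorComm K (Kv i) K (Kv i) (Kv i) (Kv i) M M
    (((1 : Kv i) ⊗ₜ[Kv i] (1 : Kv i)) ⊗ₜ[K] t)

theorem JJ_tmul (i : ιv) (m m' : M) :
    JJ K ιv Kv M i (m ⊗ₜ[K] m') = ((1 : Kv i) ⊗ₜ[K] m) ⊗ₜ[Kv i] ((1 : Kv i) ⊗ₜ[K] m') := rfl

theorem JJ_add (i : ιv) (t t' : M ⊗[K] M) :
    JJ K ιv Kv M i (t + t') = JJ K ιv Kv M i t + JJ K ιv Kv M i t' := by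
  unfold JJ
  rw [TensorProduct.tmul_add, map_add]

theorem JJ_zero (i : ιv) : JJ K ιv Kv M i 0 = 0 := by
  unfold JJ
  rw [TensorProduct.tmul_zero, map_zero]

theorem repr_JJ {J : Type u} (b : Module.Basis J K M) (i : ιv) (t : M ⊗[K] M) (j j' : J) :
    ((Algebra.TensorProduct.basis (Kv i) b).tensorProduct
      (Algebra.TensorProduct.basis (Kv i) b)).repr (JJ K ιv Kv M i t) (j, j') =
      algebraMap K (Kv i) ((b.tensorProduct b).repr t (j, j')) := by
  induction t using TensorProduct.induction_on with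
  | zero => rw [JJ_zero, map_zero, map_zero, Finsupp.zero_apply, Finsupp.zero_apply, map_zero]
  | add t t' ht ht' =>
    rw [JJ_add, map_add, map_add, Finsupp.add_apply, Finsupp.add_apply, ht, ht', map_add]
  | tmul m m' =>
    rw [JJ_tmul, Module.Basis.tensorProduct_repr_tmul_apply,
      Module.Basis.tensorProduct_repr_tmul_apply]
    simp only [Algebra.TensorProduct.basis_repr_tmul, Finsupp.smul_apply,
      Finsupp.mapRange_apply, smul_eq_mul, one_mul, map_mul]

include hlim in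
theorem JJ_inj (t t' : M ⊗[K] M) (h : ∀ i, JJ K ιv Kv M i t = JJ K ιv Kv M i t') : t = t' := by
  obtain ⟨J, ⟨b⟩⟩ : ∃ J : Type u, Nonempty (Module.Basis J K M) :=
    ⟨_, ⟨Module.Free.chooseBasis K M⟩⟩
  apply (b.tensorProduct b).repr.injective
  ext ⟨j, j'⟩
  rw [← sub_eq_zero]
  apply uniq0 K ιv ιe Kv Ke l r ρl ρr hlim
  intro i
  rw [map_sub, ← repr_JJ K ιv Kv M b i t j j', ← repr_JJ K ιv Kv M b i t' j j', h i, sub_self]

end module

section algebra

variable (A : Type u) [CommRing A] [Algebra K A]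

theorem repr_map {S T : Type u} [CommRing S] [CommRing T] [Algebra K S] [Algebra K T]
    (ρ : S →ₐ[K] T) {J : Type u} (b : Module.Basis J K A) (y : S ⊗[K] A) (j : J) :
    (Algebra.TensorProduct.basis T b).repr
      (Algebra.TensorProduct.map ρ (AlgHom.id K A) y) j =
      ρ ((Algebra.TensorProduct.basis S b).repr y j) := by
  induction y using TensorProduct.induction_on with
  | zero => simp
  | add y y' hy hy' =>
    rw [map_add, map_add, map_add, Finsupp.add_apply, Finsupp.add_apply, hy, hy', map_add]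
  | tmul s a =>
    rw [Algebra.TensorProduct.map_tmul, Algebra.TensorProduct.basis_repr_tmul,
      Algebra.TensorProduct.basis_repr_tmul]
    simp only [Finsupp.smul_apply, Finsupp.mapRange_apply, smul_eq_mul, map_mul, AlgHom.commutes,
      AlgHom.id_apply]

include hlim in
theorem descend (y : ∀ i, Kv i ⊗[K] A)
    (hy : ∀ k, Algebra.TensorProduct.map (ρl k) (AlgHom.id K A) (y (l k)) =
      Algebra.TensorProduct.map (ρr k) (AlgHom.id K A) (y (r k))) :
    ∃ a : A, ∀ i, y i = (1 : Kv i) ⊗ₜ[K] a := by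
  classical
  obtain ⟨J, ⟨b⟩⟩ : ∃ J : Type u, Nonempty (Module.Basis J K A) :=
    ⟨_, ⟨Module.Free.chooseBasis K A⟩⟩
  haveI : Fintype ιv := Fintype.ofFinite ιv
  have hcompat : ∀ (j : J) (k : ιe),
      ρl k ((Algebra.TensorProduct.basis (Kv (l k)) b).repr (y (l k)) j) =
        ρr k ((Algebra.TensorProduct.basis (Kv (r k)) b).repr (y (r k)) j) := by
    intro j k
    rw [← repr_map K A (ρl k) b, ← repr_map K A (ρr k) b, hy k]
  have hex : ∀ j : J, ∃ c : K, ∀ i,
      algebraMap K (Kv i) c = (Algebra.TensorProduct.basis (Kv i) b).repr (y i) j := by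
    intro j
    exact (hlim (fun i => (Algebra.TensorProduct.basis (Kv i) b).repr (y i) j)
      (hcompat j)).exists
  choose c hc using hex
  obtain ⟨S, hS⟩ : ∃ S : Finset J, ∀ i,
      ((Algebra.TensorProduct.basis (Kv i) b).repr (y i)).support ⊆ S :=
    ⟨Finset.univ.biUnion (fun i => ((Algebra.TensorProduct.basis (Kv i) b).repr (y i)).support),
      fun i => Finset.subset_biUnion_of_mem
        (fun i => ((Algebra.TensorProduct.basis (Kv i) b).repr (y i)).support)
        (Finset.mem_univ i)⟩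
  refine ⟨∑ j ∈ S, c j • b j, fun i => ?_⟩
  have e1 : y i = ∑ j ∈ S, ((Algebra.TensorProduct.basis (Kv i) b).repr (y i) j) •
      (Algebra.TensorProduct.basis (Kv i) b) j := by
    conv_lhs => rw [← (Algebra.TensorProduct.basis (Kv i) b).linearCombination_repr (y i),
      Finsupp.linearCombination_apply]
    exact Finsupp.sum_of_support_subset _ (hS i) _ (fun j _ => zero_smul _ _)
  rw [e1, TensorProduct.tmul_sum]
  refine Finset.sum_congr rfl (fun j _ => ?_)
  rw [TensorProduct.tmul_smul, algebra_compatible_smul (Kv i) (c j), hc j i,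
    Algebra.TensorProduct.basis_apply]

end algebra

end general

section main

variable (K : Type u) [Field K] (ιv ιe : Type u) [Finite ιv] [Finite ιe]
  (Kv : ιv → Type u) [∀ i, CommRing (Kv i)] [∀ i, Algebra K (Kv i)]
  (Ke : ιe → Type u) [∀ k, CommRing (Ke k)] [∀ k, Algebra K (Ke k)]
  (l r : ιe → ιv) (ρl : ∀ k, Kv (l k) →ₐ[K] Ke k) (ρr : ∀ k, Kv (r k) →ₐ[K] Ke k)
  (hlim : ∀ x : (∀ i, Kv i), (∀ k, ρl k (x (l k)) = ρr k (x (r k))) →
    ∃! a : K, ∀ i, algebraMap K (Kv i) a = x i)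
  (A B : Type u) [CommRing A] [CommRing B] [Bialgebra K A] [Bialgebra K B]
  (u : ∀ i, (Kv i ⊗[K] B) ≃ₐc[Kv i] (Kv i ⊗[K] A))
  (hu : ∀ (k : ιe) (b : B),
    Algebra.TensorProduct.map (ρl k) (AlgHom.id K A) (u (l k) (1 ⊗ₜ[K] b)) =
      Algebra.TensorProduct.map (ρr k) (AlgHom.id K A) (u (r k) (1 ⊗ₜ[K] b)))

theorem comul_one_tmul (M : Type u) [CommRing M] [Bialgebra K M] (i : ιv) (m : M) :
    Coalgebra.comul (R := Kv i) ((1 : Kv i) ⊗ₜ[K] m) =
      JJ K ιv Kv M i (Coalgebra.comul (R := K) m) := by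
  rw [TensorProduct.comul_tmul]
  rfl

theorem JJ_map (v : B →ₐ[K] A) (i : ιv)
    (U : (Kv i ⊗[K] B) →ₗ[Kv i] (Kv i ⊗[K] A))
    (hU : ∀ b : B, U ((1 : Kv i) ⊗ₜ[K] b) = (1 : Kv i) ⊗ₜ[K] v b) (t : B ⊗[K] B) :
    TensorProduct.map U U (JJ K ιv Kv B i t) =
      JJ K ιv Kv A i (Algebra.TensorProduct.map v v t) := by
  induction t using TensorProduct.induction_on with
  | zero => rw [JJ_zero, map_zero, map_zero, JJ_zero]
  | add t t' ht ht' => rw [JJ_add, map_add, ht, ht', map_add, JJ_add]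
  | tmul b b' =>
    rw [JJ_tmul, TensorProduct.map_tmul, hU, hU, Algebra.TensorProduct.map_tmul, JJ_tmul]

include hlim hu in
theorem main : ∃! v : B ≃ₐc[K] A, ∀ (i : ιv) (b : B), u i (1 ⊗ₜ[K] b) = 1 ⊗ₜ[K] v b := by
  have hex : ∀ b : B, ∃ a : A, ∀ i, u i ((1 : Kv i) ⊗ₜ[K] b) = (1 : Kv i) ⊗ₜ[K] a := by
    intro b
    exact descend K ιv ιe Kv Ke l r ρl ρr hlim A (fun i => u i ((1 : Kv i) ⊗ₜ[K] b))
      (fun k => hu k b)
  choose v hv using hex
  have heq : ∀ a a' : A, (∀ i, (1 : Kv i) ⊗ₜ[K] a = 1 ⊗ₜ[K] a') → a = a' :=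
    eq_of_forall K ιv ιe Kv Ke l r ρl ρr hlim A
  have hadd : ∀ b b', v (b + b') = v b + v b' := by
    intro b b'
    apply heq
    intro i
    rw [← hv, TensorProduct.tmul_add, map_add, hv, hv, TensorProduct.tmul_add]
  have hsmul : ∀ (c : K) (b : B), v (c • b) = c • v b := by
    intro c b
    apply heq
    intro i
    rw [← hv, TensorProduct.tmul_smul, algebra_compatible_smul (Kv i) c, map_smul, hv,
      ← algebra_compatible_smul (Kv i) c, TensorProduct.tmul_smul]
  have hone : v 1 = 1 := by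
    apply heq
    intro i
    rw [← hv, ← Algebra.TensorProduct.one_def, map_one, Algebra.TensorProduct.one_def]
  have hmul : ∀ b b', v (b * b') = v b * v b' := by
    intro b b'
    apply heq
    intro i
    have e1 : ((1 : Kv i) ⊗ₜ[K] (b * b')) = ((1 : Kv i) ⊗ₜ[K] b) * ((1 : Kv i) ⊗ₜ[K] b') := by
      rw [Algebra.TensorProduct.tmul_mul_tmul, one_mul]
    rw [← hv, e1, map_mul, hv, hv, Algebra.TensorProduct.tmul_mul_tmul, one_mul]
  obtain ⟨vAlg, hvAlg⟩ : ∃ vAlg : B →ₐ[K] A, ∀ b, vAlg b = v b :=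
    ⟨AlgHom.ofLinearMap { toFun := v, map_add' := hadd, map_smul' := hsmul } hone hmul,
      fun _ => rfl⟩
  have hcounit : ∀ b : B, Coalgebra.counit (R := K) (vAlg b) = Coalgebra.counit (R := K) b := by
    intro b
    rw [← sub_eq_zero]
    apply uniq0 K ιv ιe Kv Ke l r ρl ρr hlim
    intro i
    have h1 := CoalgHomClass.counit_comp_apply (u i) ((1 : Kv i) ⊗ₜ[K] b)
    rw [hv, TensorProduct.counit_tmul, TensorProduct.counit_tmul] at h1
    have h2 : Coalgebra.counit (R := K) (v b) • (1 : Kv i) =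
        Coalgebra.counit (R := K) b • (1 : Kv i) := h1
    rw [map_sub, Algebra.algebraMap_eq_smul_one, Algebra.algebraMap_eq_smul_one, hvAlg, h2,
      sub_self]
  have hcomul : ∀ b : B, Algebra.TensorProduct.map vAlg vAlg (Coalgebra.comul (R := K) b) =
      Coalgebra.comul (R := K) (vAlg b) := by
    intro b
    apply JJ_inj K ιv ιe Kv Ke l r ρl ρr hlim A
    intro i
    have h1 := CoalgHomClass.map_comp_comul_apply (u i) ((1 : Kv i) ⊗ₜ[K] b)
    rw [hv, comul_one_tmul, comul_one_tmul, JJ_map K ιv Kv A B vAlg i _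
      (fun b => by rw [hvAlg]; exact hv b i)] at h1
    rw [h1, hvAlg]
  obtain ⟨vB, hvB⟩ : ∃ vB : B →ₐc[K] A, ∀ b, vB b = v b := by
    refine ⟨BialgHom.ofAlgHom vAlg ?_ ?_, fun b => hvAlg b⟩
    · apply AlgHom.ext
      intro b
      exact hcounit b
    · apply AlgHom.ext
      intro b
      exact hcomul b
  have hinj : Function.Injective vB := by
    rw [injective_iff_map_eq_zero]
    intro b hb
    apply joint_inj K ιv ιe Kv Ke l r ρl ρr hlim B
    intro i
    apply EquivLike.injective (u i)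
    rw [hv, ← hvB, hb, TensorProduct.tmul_zero, map_zero]
  have hsurj : Function.Surjective vB := by
    obtain ⟨i0, hi0⟩ := exists_nontrivial K ιv ιe Kv Ke l r ρl ρr hlim
    intro a
    by_contra hcon
    have ha : a ∉ LinearMap.range vAlg.toLinearMap := by
      rintro ⟨b, hb⟩
      exact hcon ⟨b, by rw [hvB, ← hvAlg]; exact hb⟩
    obtain ⟨f, hfa, hf⟩ := Submodule.exists_dual_map_eq_bot_of_notMem ha inferInstance
    have hfv : ∀ b, f (v b) = 0 := by
      intro b
      have : f (v b) ∈ (LinearMap.range vAlg.toLinearMap).map f :=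
        Submodule.mem_map_of_mem ⟨b, hvAlg b⟩
      rw [hf] at this
      exact (Submodule.mem_bot K).mp this
    have hL : ∀ y : Kv i0 ⊗[K] B, (LinearMap.baseChange (Kv i0) (f : A →ₗ[K] K)) (u i0 y) = 0 := by
      intro y
      induction y using TensorProduct.induction_on with
      | zero => rw [map_zero, map_zero]
      | add y y' hy hy' => rw [map_add, map_add, hy, hy', add_zero]
      | tmul s b =>
        have e1 : s ⊗ₜ[K] b = s • ((1 : Kv i0) ⊗ₜ[K] b) := by
          rw [TensorProduct.smul_tmul', smul_eq_mul, mul_one]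
        rw [e1, map_smul, map_smul, hv, LinearMap.baseChange_tmul, hfv, TensorProduct.tmul_zero,
          smul_zero]
    have h1 := hL ((u i0).symm ((1 : Kv i0) ⊗ₜ[K] a))
    rw [BialgEquiv.apply_symm_apply, LinearMap.baseChange_tmul] at h1
    have h2 := congrArg (TensorProduct.rid K (Kv i0)) h1
    rw [TensorProduct.rid_tmul, map_zero, ← Algebra.algebraMap_eq_smul_one] at h2
    exact hfa ((algebraMap K (Kv i0)).injective (by rw [h2, map_zero]))
  refine ⟨BialgEquiv.ofBijective vB ⟨hinj, hsurj⟩, ?_, ?_⟩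
  · intro i b
    show u i (1 ⊗ₜ[K] b) = 1 ⊗ₜ[K] vB b
    rw [hvB, hv]
  · intro v' hv'
    apply BialgEquiv.ext
    intro b
    show v' b = vB b
    apply heq
    intro i
    rw [← hv' i b, hvB, hv]

end main

end EqDescentH1
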