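import Mathlib
import Groth.Agent.Lib.EquidimAt2_helper8
import Groth.Agent.Lib.GeomConnM_helper8

set_option autoImplicit false
universe u

namespace Groth.Agent.Lib.EquiFlatH8

open AlgebraicGeometry CategoryTheory

/-- transport of the equidimensionality hypothesis along a homeomorphism. -/
theorem equidim_of_homeomorph {α β : Type*} [TopologicalSpace α] [TopologicalSpace β] (φ : α ≃ₜ β)
    (r : WithBot ℕ∞) (h : ∀ Z ∈ irreducibleComponents β, topologicalKrullDim ↥Z = r) :
    ∀ Z ∈ irreducibleComponents α, topologicalKrullDim ↥Z = r := by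
  intro Z hZ
  have h1 := h _ (GeomConnH8.image_mem_irreducibleComponents φ hZ)
  rw [← h1]
  exact IsHomeomorph.topologicalKrullDim_eq _ (φ.image Z).isHomeomorph

/-- fibre dimension from equidimensionality of the set-theoretic fibres. -/
theorem fibreDimAt_of_equidim_preimage {X Y : Scheme.{u}} (f : X ⟶ Y) [LocallyOfFiniteType f]
    (r : ℕ)
    (hfib : ∀ y : Y, ∀ Z ∈ irreducibleComponents ↥(f.base ⁻¹' {y}),
      topologicalKrullDim ↥Z = (r : WithBot ℕ∞)) (x : X) :
    FlatMor.fibreDimAt f x = (r : WithBot ℕ∞) := by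
  apply Groth.Agent.Lib.EquidimAtH8.fibreDimAt_of_equidim_fibres f r
  intro x'
  exact equidim_of_homeomorph (f.fiberHomeo (f x')) _ (hfib (f x'))

/-- fibre dimension of an equidimensional scheme over a field. -/
theorem fibreDimAt_of_equidim_field (k : Type u) [Field k] {T : Scheme.{u}}
    (π : T ⟶ Spec (CommRingCat.of k)) [LocallyOfFiniteType π] (r : ℕ)
    (h : ∀ Z ∈ irreducibleComponents ↥T, topologicalKrullDim ↥Z = (r : WithBot ℕ∞)) (t : T) :
    FlatMor.fibreDimAt π t = (r : WithBot ℕ∞) := by
  apply fibreDimAt_of_equidim_preimage π r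
  intro y
  have huniv : (π.base ⁻¹' {y} : Set T) = Set.univ := by
    ext z
    simp only [Set.mem_preimage, Set.mem_singleton_iff, Set.mem_univ, iff_true]
    exact Subsingleton.elim _ _
  exact equidim_of_homeomorph ((Homeomorph.setCongr huniv).trans (Homeomorph.Set.univ T)) _ h

end Groth.Agent.Lib.EquiFlatH8

namespace Groth.Agent.Lib.EquiFlatH8

open AlgebraicGeometry CategoryTheory

/-- over a field the "coheight in the fibre" is the coheight. -/
theorem fibCoh_field (k : Type u) [Field k] {T : Scheme.{u}}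
    (π : T ⟶ Spec (CommRingCat.of k)) (t : T) :
    FibCohH8.fibCoh π t = Order.coheight t := by
  unfold FibCohH8.fibCoh
  let φ : {u' : T // π u' = π t} ≃o T :=
    { toFun := Subtype.val
      invFun := fun u => ⟨u, Subsingleton.elim _ _⟩
      left_inv := fun u => rfl
      right_inv := fun u => rfl
      map_rel_iff' := Iff.rfl }
  exact (Order.coheight_orderIso φ ⟨t, rfl⟩).symm

/-- dimension formula on an equidimensional scheme locally of finite type over a field. -/
theorem dim_stalk_add_resTrdeg (k : Type u) [Field k] {T : Scheme.{u}}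
    (π : T ⟶ Spec (CommRingCat.of k)) [LocallyOfFiniteType π] (r : ℕ)
    (h : ∀ Z ∈ irreducibleComponents ↥T, topologicalKrullDim ↥Z = (r : WithBot ℕ∞)) (t : T) :
    ringKrullDim (T.presheaf.stalk t) +
      ((Cardinal.toENat (Dual3.resTrdeg π t) : ℕ∞) : WithBot ℕ∞) = (r : WithBot ℕ∞) := by
  rw [← fibreDimAt_of_equidim_field k π r h t, FibCohH8.fibreDimAt_eq π t, fibCoh_field,
    AlgebraicGeometry.ringKrullDim_stalk_eq_coheight]

end Groth.Agent.Lib.EquiFlatH8
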