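import Mathlib
import Groth.Agent.Lib.EquiFlat1_helper8
import Groth.Agent.Lib.CMMor10_helper8
import Groth.Agent.Lib.ResTrdeg1_helper8

set_option autoImplicit false
universe u

namespace Groth.Agent.Lib.EquiFlatH8

open AlgebraicGeometry CategoryTheory

theorem exists_nat_of_add_eq (x : WithBot ℕ∞) (n m : ℕ)
    (h : x + ((n : ℕ∞) : WithBot ℕ∞) = (m : WithBot ℕ∞)) : ∃ a : ℕ, x = (a : WithBot ℕ∞) ∧ a + n = m := by
  induction x using WithBot.recBotCoe with
  | bot => simp at h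
  | coe x =>
    induction x using ENat.recTopCoe with
    | top =>
      exfalso
      have h1 : (((⊤ : ℕ∞) + (n : ℕ∞) : ℕ∞) : WithBot ℕ∞) = ((m : ℕ∞) : WithBot ℕ∞) := by
        exact_mod_cast h
      rw [WithBot.coe_inj, top_add] at h1
      exact ENat.top_ne_natCast m h1
    | coe a =>
      refine ⟨a, rfl, ?_⟩
      have h1 : (((a : ℕ∞) + (n : ℕ∞) : ℕ∞) : WithBot ℕ∞) = ((m : ℕ∞) : WithBot ℕ∞) := by
        exact_mod_cast h
      rw [WithBot.coe_inj] at h1
      exact_mod_cast h1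

set_option maxHeartbeats 800000 in
theorem main10882 (k : Type u) [Field k] {X Y : Scheme.{u}}
    (q : Y ⟶ Spec (CommRingCat.of k)) [LocallyOfFiniteType q] (f : X ⟶ Y)
    [LocallyOfFiniteType (f ≫ q)]
    (hY : ∀ y : Y, IsRegularLocalRing (Y.presheaf.stalk y))
    (hX : ∀ x : X, LocCoh.IsCohenMacaulayLocalRing (X.presheaf.stalk x))
    (e d : ℕ) (hde : d ≤ e)
    (hXe : ∀ Z ∈ irreducibleComponents (X : Type u), topologicalKrullDim Z = e)
    (hYd : ∀ Z ∈ irreducibleComponents (Y : Type u), topologicalKrullDim Z = d)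
    (hfib : ∀ y : Y, ∀ Z ∈ irreducibleComponents (f.base ⁻¹' {y}),
      topologicalKrullDim Z = (e - d : ℕ)) :
    Flat f := by
  haveI : LocallyOfFiniteType f := locallyOfFiniteType_of_comp f q
  haveI : IsLocallyNoetherian Y := LocallyOfFiniteType.isLocallyNoetherian q
  rw [Flat.iff_flat_stalkMap]
  intro x
  have hX1 := dim_stalk_add_resTrdeg k (f ≫ q) e hXe x
  have hY1 := dim_stalk_add_resTrdeg k q d hYd (f x)
  have hF1 : FlatMor.fibreDimAt f x = ((e - d : ℕ) : WithBot ℕ∞) :=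
    fibreDimAt_of_equidim_preimage f (e - d) hfib x
  rw [FibCohH8.fibreDimAt_eq f x, ← FibCohH8.stalk_fiber_eq_fibCoh] at hF1
  have hcomp := ResTrdegH8.resTrdeg_comp f q x
  obtain ⟨nF, hnF⟩ := Groth.Agent.ResQuot2H8.exists_trdeg_nat f x
  obtain ⟨nY, hnY⟩ := Groth.Agent.ResQuot2H8.exists_trdeg_nat q (f x)
  have hnF' : Dual3.resTrdeg f x = nF := hnF
  have hnY' : Dual3.resTrdeg q (f x) = nY := hnY
  rw [hnF', hnY'] at hcomp
  have hnX' : Dual3.resTrdeg (f ≫ q) x = ((nY + nF : ℕ) : Cardinal) := by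
    rw [hcomp]; push_cast; rfl
  rw [hnX', Cardinal.toENat_nat] at hX1
  rw [hnY', Cardinal.toENat_nat] at hY1
  rw [hnF', Cardinal.toENat_nat] at hF1
  obtain ⟨a, ha, ha'⟩ := exists_nat_of_add_eq _ _ _ hX1
  obtain ⟨b, hb, hb'⟩ := exists_nat_of_add_eq _ _ _ hY1
  obtain ⟨c, hc, hc'⟩ := exists_nat_of_add_eq _ _ _ hF1
  have := (Groth.Agent.Lib.CMMorH8.tfae_flat_of_regular_cm f x (hY (f x)) (hX x)).out 4 1
  apply this.mp
  rw [ha, hb, hc]
  have : a = b + c := by omega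
  rw [this]
  push_cast
  rfl

end Groth.Agent.Lib.EquiFlatH8
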