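import Mathlib

/-!
# Finite maps from equidimensional algebras onto affine space are surjective on each component
-/

namespace Groth.Agent.Lib.EquidimFinite

universe u

theorem not_succ_le (r : ℕ) : ¬ ((r : WithBot ℕ∞) + 1 ≤ (r : WithBot ℕ∞)) := by
  intro h
  have h' : ((r + 1 : ℕ) : WithBot ℕ∞) ≤ ((r : ℕ) : WithBot ℕ∞) := by
    rw [Nat.cast_add, Nat.cast_one]; exact h
  have := Nat.cast_le.mp h'
  omega

theorem main (k : Type u) [Field k] (r : ℕ)
    (A : Type u) [CommRing A] [Algebra k A] (φ : MvPolynomial (Fin r) k →ₐ[k] A)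
    (hφ : φ.toRingHom.Finite)
    (hdim : ∀ p ∈ minimalPrimes A, ringKrullDim (A ⧸ p) = r)
    (p : Ideal A) (hp : p ∈ minimalPrimes A)
    (q : Ideal (MvPolynomial (Fin r) k)) [q.IsPrime] :
    ∃ P : Ideal A, P.IsPrime ∧ p ≤ P ∧ P.comap φ.toRingHom = q := by
  letI alg : Algebra (MvPolynomial (Fin r) k) A := φ.toRingHom.toAlgebra
  haveI hfin : Module.Finite (MvPolynomial (Fin r) k) A := hφ
  haveI hint : Algebra.IsIntegral (MvPolynomial (Fin r) k) A := Algebra.IsIntegral.of_finite _ _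
  haveI hpp : p.IsPrime := hp.1.1
  have hbot : p.comap (algebraMap (MvPolynomial (Fin r) k) A) = ⊥ := by
    by_contra hne
    obtain ⟨f, hf, hf0⟩ := Submodule.exists_mem_ne_zero_of_ne_bot hne
    obtain ⟨𝔠, h𝔠⟩ : ∃ 𝔠 : Ideal (MvPolynomial (Fin r) k),
        𝔠 = p.comap (algebraMap (MvPolynomial (Fin r) k) A) := ⟨_, rfl⟩
    rw [← h𝔠] at hf
    have h1 : ringKrullDim (MvPolynomial (Fin r) k ⧸ 𝔠) + 1 ≤
        ringKrullDim (MvPolynomial (Fin r) k) :=
      ringKrullDim_succ_le_of_surjective (Ideal.Quotient.mk 𝔠) Ideal.Quotient.mk_surjective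
        (mem_nonZeroDivisors_of_ne_zero hf0) (Ideal.Quotient.eq_zero_iff_mem.mpr hf)
    have h2 : ringKrullDim (MvPolynomial (Fin r) k) = r := by
      rw [MvPolynomial.ringKrullDim_of_isNoetherianRing, ringKrullDim_eq_zero_of_field]; simp
    have h3 : ringKrullDim (A ⧸ p) ≤ ringKrullDim (MvPolynomial (Fin r) k ⧸ 𝔠) := by
      rw [ringKrullDim_quotient, ringKrullDim_quotient]
      let F : PrimeSpectrum.zeroLocus (R := A) (p : Set A) →
          PrimeSpectrum.zeroLocus (R := MvPolynomial (Fin r) k) (𝔠 : Set _) :=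
        fun P => ⟨PrimeSpectrum.comap (algebraMap (MvPolynomial (Fin r) k) A) P.1, by
          have hP : (p : Set A) ⊆ P.1.asIdeal := P.2
          intro x hx
          rw [h𝔠] at hx
          exact hP hx⟩
      refine Order.krullDim_le_of_strictMono F ?_
      intro P Q hPQ
      have h4 : P.1.asIdeal < Q.1.asIdeal := hPQ
      exact Ideal.IsIntegral.comap_lt_comap h4
    rw [hdim p hp] at h3
    rw [h2] at h1
    exact not_succ_le r (le_trans (add_le_add h3 le_rfl) h1)
  obtain ⟨Q, hQ, hQp, hQc⟩ :=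
    Ideal.exists_ideal_over_prime_of_isIntegral q p (by rw [hbot]; exact bot_le)
  exact ⟨Q, hQp, hQ, hQc⟩

end Groth.Agent.Lib.EquidimFinite
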