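import Groth.Agent.Lib.QuotSec_lead
import Groth.Agent.Lib.AlgSpQuotEff_helper7
import Mathlib.CategoryTheory.EquivalenceRelation
import Mathlib.CategoryTheory.Limits.Shapes.KernelPair
import Mathlib.AlgebraicGeometry.Morphisms.Etale
import Mathlib.AlgebraicGeometry.Sites.Etale
import Mathlib.AlgebraicGeometry.Morphisms.LocalFlatDescent
import Mathlib.RingTheory.RingHom.Flat
import Mathlib.RingTheory.RingHom.FaithfullyFlat

/-! # Effective quotients: `q` is an fppf quotient with kernel pair `R` iff `h_Y = U/R` (lead) -/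

set_option backward.isDefEq.respectTransparency false
set_option backward.isDefEq.respectTransparency.types false
set_option linter.unusedSimpArgs false
set_option linter.unusedVariables false
set_option linter.unusedSectionVars false
set_option linter.style.longLine false
set_option maxHeartbeats 800000

universe u

open CategoryTheory CategoryTheory.Limits AlgebraicGeometry Opposite

namespace Groth.Agent.Lib.QuotEff

open Groth.Agent.Lib.QuotSec

variable {S : Scheme.{u}}

section general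

variable (K : Precoverage Scheme.{u})

/-- descent of a section along a covering morphism -/
theorem descend {U Y : Over S} (q : U ⟶ Y) (hq : Presieve.singleton q.left ∈ K Y.left)
    (F : QuotSh.Sh K S) (x : QuotSh.rep K U ⟶ F)
    (hx : ∀ (T' : Over S) (z₁ z₂ : T' ⟶ U), z₁ ≫ q = z₂ ≫ q →
      QuotSh.repMap K z₁ ≫ x = QuotSh.repMap K z₂ ≫ x) :
    ∃! σ : QuotSh.rep K Y ⟶ F, QuotSh.repMap K q ≫ σ = x := by
  have hcov : Sieve.generate (Presieve.singleton q) ∈ QuotSh.J K S Y :=
    Groth.Agent.Lib.CGrpShExact.generate_singleton_mem_J K q hq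
  have hsh : Presieve.IsSheafFor F.obj (Presieve.singleton q) := by
    rw [Presieve.isSheafFor_iff_generate]
    exact ((isSheaf_iff_isSheaf_of_type _ _).1 F.property) _ hcov
  rw [Presieve.isSheafFor_singleton] at hsh
  have hcompat : ∀ {T' : Over S} (z₁ z₂ : T' ⟶ U), z₁ ≫ q = z₂ ≫ q →
      F.obj.map z₁.op (secEquiv K U F x) = F.obj.map z₂.op (secEquiv K U F x) := by
    intro T' z₁ z₂ h
    rw [← secEquiv_repMap, ← secEquiv_repMap, hx T' z₁ z₂ h]
  obtain ⟨y, hy, hyuniq⟩ := hsh _ hcompat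
  refine ⟨(secEquiv K Y F).symm y, ?_, ?_⟩
  · apply (secEquiv K U F).injective
    rw [secEquiv_repMap K q, Equiv.apply_symm_apply]
    exact hy
  · intro σ' hσ'
    apply (secEquiv K Y F).injective
    rw [Equiv.apply_symm_apply]
    apply hyuniq
    rw [← secEquiv_repMap, hσ']

theorem quotπ_quotDesc {R U Y : Over S} {s t : R ⟶ U} (q : U ⟶ Y) (w : s ≫ q = t ≫ q) :
    QuotSh.quotπ K s t ≫ QuotSh.quotDesc K q w = QuotSh.repMap K q := by
  unfold QuotSh.quotπ QuotSh.quotDesc
  exact coequalizer.π_desc _ _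

instance epi_quotπ {R U : Over S} (s t : R ⟶ U) : Epi (QuotSh.quotπ K s t) := by
  unfold QuotSh.quotπ QuotSh.quot
  exact coequalizer.π_epi

theorem isIso_quotDesc {R U Y : Over S} {s t : R ⟶ U} (q : U ⟶ Y)
    (hq : Presieve.singleton q.left ∈ K Y.left) (hkp : IsKernelPair q s t) :
    IsIso (QuotSh.quotDesc K q hkp.w) := by
  have key : ∀ (F : QuotSh.Sh K S) (x : QuotSh.rep K U ⟶ F),
      QuotSh.repMap K s ≫ x = QuotSh.repMap K t ≫ x →
      ∃! σ : QuotSh.rep K Y ⟶ F, QuotSh.repMap K q ≫ σ = x := by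
    intro F x hx
    refine descend K q hq F x (fun T' z₁ z₂ h => ?_)
    have e1 : IsPullback.lift hkp z₁ z₂ h ≫ s = z₁ := IsPullback.lift_fst _ _ _ _
    have e2 : IsPullback.lift hkp z₁ z₂ h ≫ t = z₂ := IsPullback.lift_snd _ _ _ _
    calc QuotSh.repMap K z₁ ≫ x
        = QuotSh.repMap K (IsPullback.lift hkp z₁ z₂ h ≫ s) ≫ x := by rw [e1]
      _ = QuotSh.repMap K (IsPullback.lift hkp z₁ z₂ h) ≫ QuotSh.repMap K s ≫ x := by
          rw [repMap_comp, Category.assoc]
      _ = QuotSh.repMap K (IsPullback.lift hkp z₁ z₂ h) ≫ QuotSh.repMap K t ≫ x := by rw [hx]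
      _ = QuotSh.repMap K (IsPullback.lift hkp z₁ z₂ h ≫ t) ≫ x := by
          rw [repMap_comp, Category.assoc]
      _ = QuotSh.repMap K z₂ ≫ x := by rw [e2]
  obtain ⟨ψ, hψ, -⟩ := key (QuotSh.quot K s t) (QuotSh.quotπ K s t) (QuotSh.quot_condition K s t)
  obtain ⟨σ₀, -, huniq⟩ := key (QuotSh.rep K Y) (QuotSh.repMap K q) (by
    rw [← repMap_comp, ← repMap_comp, hkp.w])
  refine ⟨⟨ψ, ?_, ?_⟩⟩
  · rw [← cancel_epi (QuotSh.quotπ K s t), ← Category.assoc, quotπ_quotDesc, hψ, Category.comp_id]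
  · have h1 : ψ ≫ QuotSh.quotDesc K q hkp.w = σ₀ := by
      apply huniq
      rw [← Category.assoc, hψ, quotπ_quotDesc]
    have h2 : 𝟙 (QuotSh.rep K Y) = σ₀ := by
      apply huniq
      exact Category.comp_id _
    rw [h1, h2]

end general

section fppf

open AlgSp Groth.Agent.Lib.AlgSpQuotEffH7

theorem isEqvRel_of_isEquivalenceRelation {R U : Over S} (s t : R ⟶ U)
    [h : IsEquivalenceRelation s t] : IsEqvRel s t := by
  obtain ⟨⟨E⟩⟩ := h
  refine ⟨fun T r r' ht hs => E.right_cancellation r r' hs ht, fun T => ⟨?_, ?_, ?_⟩⟩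
  · intro a
    exact ⟨a ≫ E.r, by rw [Category.assoc, E.reflexivity₂, Category.comp_id],
      by rw [Category.assoc, E.reflexivity₁, Category.comp_id]⟩
  · rintro a b ⟨r, h1, h2⟩
    exact ⟨r ≫ E.s, by rw [Category.assoc, E.symmetry₂, h2],
      by rw [Category.assoc, E.symmetry₁, h1]⟩
  · rintro a b c ⟨r₁, h1, h2⟩ ⟨r₂, h3, h4⟩
    have hc : r₂ ≫ t = r₁ ≫ s := by rw [h3, h2]
    have hl1 : PullbackCone.IsLimit.lift E.isLimit r₂ r₁ hc ≫ E.c.fst = r₂ :=
      PullbackCone.IsLimit.lift_fst _ _ _ _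
    have hl2 : PullbackCone.IsLimit.lift E.isLimit r₂ r₁ hc ≫ E.c.snd = r₁ :=
      PullbackCone.IsLimit.lift_snd _ _ _ _
    refine ⟨PullbackCone.IsLimit.lift E.isLimit r₂ r₁ hc ≫ E.t, ?_, ?_⟩
    · rw [Category.assoc, E.transitivity₂, ← Category.assoc, hl2, h1]
    · rw [Category.assoc, E.transitivity₁, ← Category.assoc, hl1, h4]

theorem flat_descendsAlong' :
    MorphismProperty.DescendsAlong @Flat.{u} (@Surjective ⊓ @Flat ⊓ @QuasiCompact) :=
  HasRingHomProperty.descendsAlong_flat (by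
    refine .mk _ RingHom.Flat.respectsIso fun R S T _ _ _ _ _ h h' ↦ ?_
    rw [RingHom.flat_algebraMap_iff] at h' ⊢
    rw [RingHom.faithfullyFlat_algebraMap_iff] at h
    exact Module.Flat.of_flat_tensorProduct R T S)

theorem quotP_comp {R U Y : Over S} (s t : R ⟶ U) (q : U ⟶ Y) (w : s ≫ q = t ≫ q) :
    quotP s t ≫ QuotSh.quotDesc Scheme.fppfPrecoverage q w ≫
      (QuotSh.repIsoUliftYoneda Scheme.fppfPrecoverage Y).hom = (yon S).map q := by
  unfold quotP
  rw [Category.assoc, ← Category.assoc (QuotSh.quotπ _ s t), quotπ_quotDesc,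
    repMap_comp_repIso_hom, Iso.inv_hom_id_assoc]

theorem isKernelPair_of_isIso {R U Y : Over S} (s t : R ⟶ U) [IsEquivalenceRelation s t]
    (q : U ⟶ Y) (w : s ≫ q = t ≫ q) [IsIso (QuotSh.quotDesc Scheme.fppfPrecoverage q w)] :
    IsKernelPair q s t := by
  have hR := isEqvRel_of_isEquivalenceRelation s t
  have hp := isPullback_quot s t hR
  let θ : QuotSh.quot Scheme.fppfPrecoverage s t ≅ (yon S).obj Y :=
    asIso (QuotSh.quotDesc Scheme.fppfPrecoverage q w) ≪≫
      QuotSh.repIsoUliftYoneda Scheme.fppfPrecoverage Y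
  have hθ : quotP s t ≫ θ.hom = (yon S).map q := quotP_comp s t q w
  have hp' : IsPullback ((yon S).map t) ((yon S).map s) ((yon S).map q) ((yon S).map q) :=
    hp.of_iso (Iso.refl _) (Iso.refl _) (Iso.refl _) θ (by simp) (by simp)
      (by simpa using hθ) (by simpa using hθ)
  exact (IsPullback.of_map_of_faithful (yon S) hp').flip

theorem exists_cover_of_isIso {R U Y : Over S} (s t : R ⟶ U) [IsEquivalenceRelation s t]
    (q : U ⟶ Y)
    (w : s ≫ q = t ≫ q) [IsIso (QuotSh.quotDesc Scheme.fppfPrecoverage q w)] :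
    ∃ (Y' : Scheme.{u}) (F : Y' ⟶ Y.left) (L : Y' ⟶ U.left), Flat F ∧ Surjective F ∧
      LocallyOfFinitePresentation F ∧
      IsPullback (pullback.fst L s.left) (pullback.snd L s.left ≫ t.left) F q.left := by
  have hkp : IsKernelPair q s t := isKernelPair_of_isIso s t q w
  have hθ := quotP_comp s t q w
  haveI : Epi (quotP s t) :=
    (Sheaf.isLocallySurjective_iff_epi _).1 (isLocallySurjective_quotP s t)
  haveI : Epi ((yon S).map q) := by
    rw [← hθ]
    infer_instance
  haveI hLS : Sheaf.IsLocallySurjective ((yon S).map q) :=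
    (Sheaf.isLocallySurjective_iff_epi _).2 inferInstance
  have hmem := Presheaf.imageSieve_mem (J S) ((yon S).map q).hom (U := op Y)
    (ULift.up (𝟙 Y) : ULift.{u + 1} (Y ⟶ Y))
  rw [GrothendieckTopology.mem_over_iff] at hmem
  haveI : Scheme.fppfPrecoverage.{u}.HasIsos := by
    have h1 : (@Flat ⊓ @LocallyOfFinitePresentation :
        MorphismProperty Scheme.{u}).ContainsIdentities :=
      ⟨fun X => ⟨inferInstance, inferInstance⟩⟩
    have h2 : (@Flat ⊓ @LocallyOfFinitePresentation : MorphismProperty Scheme.{u}).RespectsIso :=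
      MorphismProperty.RespectsIso.inf _ _
    unfold Scheme.fppfPrecoverage
    infer_instance
  obtain ⟨Rc, hRc, hle⟩ :=
    Precoverage.mem_toGrothendieck_iff_of_isStableUnderComposition.1 hmem
  have hRc' : Rc ∈ Scheme.precoverage (@Flat ⊓ @LocallyOfFinitePresentation) Y.left := hRc
  have hjs := (Presieve.mem_comap_jointlySurjectivePrecoverage_iff Scheme.forget).1 hRc'.1
  have hex : ∀ y : Y.left, ∃ (V : Scheme.{u}) (f : V ⟶ Y.left) (l : V ⟶ U.left) (v : V),
      Flat f ∧ LocallyOfFinitePresentation f ∧ l ≫ q.left = f ∧ f v = y := by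
    intro y
    obtain ⟨V, f, hRf, v, hv⟩ := hjs y
    have hP := hRc'.2 hRf
    have hS : (Sieve.overEquiv Y (Presheaf.imageSieve ((yon S).map q).hom
        (ULift.up (𝟙 Y) : ULift.{u + 1} (Y ⟶ Y)))).arrows f := by
      apply hle
      exact hRf
    rw [Sieve.overEquiv_iff] at hS
    obtain ⟨tt, htt⟩ := hS
    let tt₀ : ULift.{u + 1} (Over.mk (f ≫ Y.hom) ⟶ U) := tt
    have h1 : tt₀.down ≫ q = (Over.homMk f rfl : Over.mk (f ≫ Y.hom) ⟶ Y) ≫ 𝟙 Y :=
      congrArg (fun z : ULift.{u + 1} (Over.mk (f ≫ Y.hom) ⟶ Y) => z.down) htt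
    refine ⟨V, f, tt₀.down.left, v, hP.1, hP.2, ?_, hv⟩
    have := congrArg (fun m => m.left) h1
    simpa using this
  choose V f l v hfl hlfp hlq hfv using hex
  let F : (∐ V) ⟶ Y.left := Sigma.desc f
  let L : (∐ V) ⟶ U.left := Sigma.desc l
  have hιF : ∀ y, Sigma.ι V y ≫ F = f y := fun y => Sigma.ι_desc f y
  have hιL : ∀ y, Sigma.ι V y ≫ L = l y := fun y => Sigma.ι_desc l y
  have hLq : L ≫ q.left = F := by
    apply Sigma.hom_ext
    intro y
    rw [← Category.assoc, hιL, hιF, hlq]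
  haveI : Flat F := IsZariskiLocalAtSource.sigmaDesc (P := @Flat) hfl
  haveI : LocallyOfFinitePresentation F :=
    IsZariskiLocalAtSource.sigmaDesc (P := @LocallyOfFinitePresentation) hlfp
  haveI : Surjective F := ⟨fun y => ⟨(Sigma.ι V y) (v y), by
    rw [← Scheme.Hom.comp_apply, hιF]
    exact hfv y⟩⟩
  have hkpS : IsPullback s.left t.left q.left q.left := hkp.map (Over.forget S)
  have sq1 : IsPullback (pullback.snd L s.left) (pullback.fst L s.left) s.left L :=
    (IsPullback.of_hasPullback L s.left).flip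
  have sq : IsPullback (pullback.fst L s.left) (pullback.snd L s.left ≫ t.left) F q.left := by
    have := (sq1.paste_horiz hkpS.flip).flip
    rwa [hLq] at this
  exact ⟨∐ V, F, L, inferInstance, inferInstance, inferInstance, sq⟩

theorem fppf_of_isIso {R U Y : Over S} (s t : R ⟶ U) [IsEquivalenceRelation s t]
    [Flat s.left] [Surjective s.left] [LocallyOfFinitePresentation s.left] (q : U ⟶ Y)
    (w : s ≫ q = t ≫ q) [IsIso (QuotSh.quotDesc Scheme.fppfPrecoverage q w)] :
    Flat q.left ∧ Surjective q.left ∧ LocallyOfFinitePresentation q.left := by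
  obtain ⟨Y', F, L, hF1, hF2, hF3, sq⟩ := exists_cover_of_isIso s t q w
  have hQ : (@Surjective ⊓ @Flat ⊓ @LocallyOfFinitePresentation :
      MorphismProperty Scheme.{u}) F := ⟨⟨hF2, hF1⟩, hF3⟩
  haveI := flat_descendsAlong'.{u}
  refine ⟨?_, ?_, ?_⟩
  · exact MorphismProperty.of_isPullback_of_descendsAlong (P := @Flat)
      (Q := @Surjective ⊓ @Flat ⊓ @LocallyOfFinitePresentation) sq hQ
      (MorphismProperty.pullback_fst (P := @Flat) _ _ inferInstance)
  · exact MorphismProperty.of_isPullback_of_descendsAlong (P := @Surjective)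
      (Q := @Surjective ⊓ @Flat ⊓ @LocallyOfFinitePresentation) sq hQ
      (MorphismProperty.pullback_fst (P := @Surjective) _ _ inferInstance)
  · exact MorphismProperty.of_isPullback_of_descendsAlong (P := @LocallyOfFinitePresentation)
      (Q := @Surjective ⊓ @Flat ⊓ @LocallyOfFinitePresentation) sq hQ
      (MorphismProperty.pullback_fst (P := @LocallyOfFinitePresentation) _ _ inferInstance)

theorem main_fppf {R U Y : Over S} (s t : R ⟶ U) [IsEquivalenceRelation s t]
    [Flat s.left] [Surjective s.left] [LocallyOfFinitePresentation s.left] (q : U ⟶ Y) :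
    (IsKernelPair q s t ∧ Flat q.left ∧ Surjective q.left ∧
        LocallyOfFinitePresentation q.left) ↔
      QuotSh.IsQuotient Scheme.fppfPrecoverage s t q := by
  constructor
  · rintro ⟨hkp, h1, h2, h3⟩
    haveI := h1
    haveI := h2
    haveI := h3
    exact (show ∃ w : s ≫ q = t ≫ q, IsIso (QuotSh.quotDesc Scheme.fppfPrecoverage q w) from
      ⟨hkp.w, isIso_quotDesc Scheme.fppfPrecoverage q
        (Scheme.Hom.singleton_mem_fppfPrecoverage q.left) hkp⟩)
  · intro h
    obtain ⟨w, hiso⟩ :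
        ∃ w : s ≫ q = t ≫ q, IsIso (QuotSh.quotDesc Scheme.fppfPrecoverage q w) := h
    haveI := hiso
    exact ⟨isKernelPair_of_isIso s t q w, fppf_of_isIso s t q w⟩

theorem etale_of_isIso {R U Y : Over S} (s t : R ⟶ U) [IsEquivalenceRelation s t]
    [Etale s.left] (q : U ⟶ Y)
    (w : s ≫ q = t ≫ q) [IsIso (QuotSh.quotDesc Scheme.fppfPrecoverage q w)] :
    Etale q.left := by
  obtain ⟨Y', F, L, hF1, hF2, hF3, sq⟩ := exists_cover_of_isIso s t q w
  have hQ : (@Surjective ⊓ @Flat ⊓ @LocallyOfFinitePresentation :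
      MorphismProperty Scheme.{u}) F := ⟨⟨hF2, hF1⟩, hF3⟩
  exact MorphismProperty.of_isPullback_of_descendsAlong (P := @Etale)
    (Q := @Surjective ⊓ @Flat ⊓ @LocallyOfFinitePresentation) sq hQ
    (MorphismProperty.pullback_fst (P := @Etale) _ _ inferInstance)

end fppf

section etale

/-- section-level coequalizer property -/
def Sec (K : Precoverage Scheme.{u}) {R U Y : Over S} (s t : R ⟶ U) (q : U ⟶ Y) : Prop :=
  ∀ (F : QuotSh.Sh K S) (x : F.obj.obj (op U)), F.obj.map s.op x = F.obj.map t.op x →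
    ∃! y : F.obj.obj (op Y), F.obj.map q.op y = x

theorem sec_of_isIso (K : Precoverage Scheme.{u}) {R U Y : Over S} {s t : R ⟶ U} (q : U ⟶ Y)
    (w : s ≫ q = t ≫ q) [IsIso (QuotSh.quotDesc K q w)] : Sec K s t q := by
  intro F x hx
  obtain ⟨x', hx'def⟩ : ∃ x' : QuotSh.rep K U ⟶ F, secEquiv K U F x' = x :=
    ⟨(secEquiv K U F).symm x, Equiv.apply_symm_apply _ _⟩
  have hx' : QuotSh.repMap K s ≫ x' = QuotSh.repMap K t ≫ x' := by
    apply (secEquiv K R F).injective
    rw [secEquiv_repMap, secEquiv_repMap, hx'def, hx]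
  obtain ⟨d, hd⟩ : ∃ d : QuotSh.quot K s t ⟶ F, QuotSh.quotπ K s t ≫ d = x' :=
    ⟨(coequalizer.desc x' hx' : QuotSh.quot K s t ⟶ F), by
      unfold QuotSh.quotπ
      exact coequalizer.π_desc _ _⟩
  refine ⟨secEquiv K Y F (inv (QuotSh.quotDesc K q w) ≫ d), ?_, ?_⟩
  · show F.obj.map q.op (secEquiv K Y F (inv (QuotSh.quotDesc K q w) ≫ d)) = x
    rw [← secEquiv_repMap, ← quotπ_quotDesc K q w, Category.assoc, IsIso.hom_inv_id_assoc, hd,
      hx'def]
  · intro y' hy'
    have h1 : QuotSh.repMap K q ≫ (secEquiv K Y F).symm y' = x' := by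
      apply (secEquiv K U F).injective
      rw [secEquiv_repMap, Equiv.apply_symm_apply, hx'def, hy']
    have h2 : QuotSh.quotDesc K q w ≫ (secEquiv K Y F).symm y' = d := by
      rw [← cancel_epi (QuotSh.quotπ K s t), ← Category.assoc, quotπ_quotDesc, h1, hd]
    rw [← h2, IsIso.inv_hom_id_assoc, Equiv.apply_symm_apply]

theorem isIso_of_sec (K : Precoverage Scheme.{u}) {R U Y : Over S} {s t : R ⟶ U} (q : U ⟶ Y)
    (w : s ≫ q = t ≫ q) (hsec : Sec K s t q) : IsIso (QuotSh.quotDesc K q w) := by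
  have key : ∀ (F : QuotSh.Sh K S) (x : QuotSh.rep K U ⟶ F),
      QuotSh.repMap K s ≫ x = QuotSh.repMap K t ≫ x →
      ∃! σ : QuotSh.rep K Y ⟶ F, QuotSh.repMap K q ≫ σ = x := by
    intro F x hx
    obtain ⟨y, hy, hyuniq⟩ := hsec F (secEquiv K U F x) (by
      rw [← secEquiv_repMap, ← secEquiv_repMap, hx])
    refine ⟨(secEquiv K Y F).symm y, ?_, ?_⟩
    · apply (secEquiv K U F).injective
      rw [secEquiv_repMap K q, Equiv.apply_symm_apply]
      exact hy
    · intro σ' hσ'
      apply (secEquiv K Y F).injective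
      rw [Equiv.apply_symm_apply]
      apply hyuniq
      rw [← secEquiv_repMap, hσ']
  obtain ⟨ψ, hψ, -⟩ := key (QuotSh.quot K s t) (QuotSh.quotπ K s t) (QuotSh.quot_condition K s t)
  obtain ⟨σ₀, -, huniq⟩ := key (QuotSh.rep K Y) (QuotSh.repMap K q) (by
    rw [← repMap_comp, ← repMap_comp, w])
  refine ⟨⟨ψ, ?_, ?_⟩⟩
  · rw [← cancel_epi (QuotSh.quotπ K s t), ← Category.assoc, quotπ_quotDesc, hψ, Category.comp_id]
  · have h1 : ψ ≫ QuotSh.quotDesc K q w = σ₀ := by
      apply huniq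
      rw [← Category.assoc, hψ, quotπ_quotDesc]
    have h2 : 𝟙 (QuotSh.rep K Y) = σ₀ := by
      apply huniq
      exact Category.comp_id _
    rw [h1, h2]

theorem et_le_fppf : Scheme.etalePrecoverage.{u} ≤ Scheme.fppfPrecoverage := by
  unfold Scheme.etalePrecoverage Scheme.fppfPrecoverage
  exact Scheme.precoverage_mono (fun X Y f hf => by
    haveI : Etale f := hf
    exact ⟨inferInstance, inferInstance⟩)

theorem J_et_le_fppf :
    QuotSh.J Scheme.etalePrecoverage S ≤ QuotSh.J Scheme.fppfPrecoverage S := by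
  intro T Sv hSv
  rw [GrothendieckTopology.mem_over_iff] at hSv ⊢
  exact Precoverage.toGrothendieck_mono et_le_fppf _ hSv

theorem sec_fppf_of_sec_et {R U Y : Over S} {s t : R ⟶ U} (q : U ⟶ Y)
    (h : Sec Scheme.etalePrecoverage s t q) : Sec Scheme.fppfPrecoverage s t q := by
  intro F x hx
  have hF : Presheaf.IsSheaf (QuotSh.J Scheme.etalePrecoverage S) F.obj := by
    rw [isSheaf_iff_isSheaf_of_type]
    exact Presieve.isSheaf_of_le _ J_et_le_fppf ((isSheaf_iff_isSheaf_of_type _ _).1 F.property)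
  exact h ⟨F.obj, hF⟩ x hx

lemma singleton_mem_etale {X Y : Scheme.{u}} (f : X ⟶ Y) [Etale f] [Surjective f] :
    Presieve.singleton f ∈ Scheme.etalePrecoverage Y := by
  rw [← Presieve.ofArrows_pUnit.{0}]
  exact (f.cover (P := @Etale) ‹_›).mem₀

theorem main_et {R U Y : Over S} (s t : R ⟶ U) [IsEquivalenceRelation s t]
    [Etale s.left] [Surjective s.left] (q : U ⟶ Y) :
    (IsKernelPair q s t ∧ Etale q.left ∧ Surjective q.left) ↔
      QuotSh.IsQuotient Scheme.etalePrecoverage s t q := by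
  constructor
  · rintro ⟨hkp, h1, h2⟩
    haveI := h1
    haveI := h2
    exact (show ∃ w : s ≫ q = t ≫ q, IsIso (QuotSh.quotDesc Scheme.etalePrecoverage q w) from
      ⟨hkp.w, isIso_quotDesc Scheme.etalePrecoverage q (singleton_mem_etale q.left) hkp⟩)
  · intro h
    obtain ⟨w, hiso⟩ :
        ∃ w : s ≫ q = t ≫ q, IsIso (QuotSh.quotDesc Scheme.etalePrecoverage q w) := h
    haveI := hiso
    have hsec := sec_fppf_of_sec_et q (sec_of_isIso Scheme.etalePrecoverage q w)
    haveI : IsIso (QuotSh.quotDesc Scheme.fppfPrecoverage q w) :=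
      isIso_of_sec Scheme.fppfPrecoverage q w hsec
    haveI : Flat s.left := inferInstance
    haveI : LocallyOfFinitePresentation s.left := inferInstance
    exact ⟨isKernelPair_of_isIso s t q w, etale_of_isIso s t q w, (fppf_of_isIso s t q w).2.1⟩

end etale

end Groth.Agent.Lib.QuotEff
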