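import Groth.Statements.S18510
import Groth.Agent.Lib.GeomQuotSep_lead
import Groth.Agent.Lib.QuotEff_lead

/-! # Equivariant maps of principal bundles are cartesian; descent of properties (lead) -/

set_option backward.isDefEq.respectTransparency false
set_option backward.isDefEq.respectTransparency.types false
set_option linter.unusedSimpArgs false
set_option linter.unusedVariables false
set_option linter.unusedSectionVars false
set_option linter.style.longLine false
set_option linter.style.haveILetI false
set_option maxHeartbeats 800000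

universe u

open CategoryTheory CategoryTheory.Limits MonoidalCategory CartesianMonoidalCategory MonObj GrpObj
  AlgebraicGeometry Opposite Topology

namespace Groth.Agent.Lib.EquivDescent

open Groth.Agent.Lib.AssocBundle Groth.Agent.Lib.GeomQuotSep Groth.Agent.Lib.BundleStages
  Groth.Agent.Lib.TorsorSeq SchFpqcCovH7

variable {S : Scheme.{u}}

/-- An equivariant morphism of principal bundles lying over a morphism of the bases is cartesian. -/
theorem cart_general {H A A' Q Q' : Over S} [GrpObj H] (b : AlgGrp.Action H A)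
    (c : AlgGrp.Action H A') (i' : A ⟶ A')
    (hi' : b.act ≫ i' = (H ◁ i') ≫ c.act)
    (q : A ⟶ Q) (hA : IsPB b q) (q' : A' ⟶ Q') (hPB' : IsPullback c.act (snd H A') q' q')
    (m : Q ⟶ Q') (hm : q ≫ m = i' ≫ q') :
    IsPullback i' q q' m := by
  have huniq : ∀ (T : Over S) (l l' : T ⟶ A), l ≫ i' = l' ≫ i' → l ≫ q = l' ≫ q → l = l' := by
    intro T l l' h1 h2
    obtain ⟨h, hh⟩ := exists_of_pb b.act q hA.pb l l' h2
    have e1 : lift h (l' ≫ i') ≫ c.act = lift (1 : T ⟶ H) (l' ≫ i') ≫ c.act := by
      calc lift h (l' ≫ i') ≫ c.act = lift h l' ≫ (H ◁ i') ≫ c.act := by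
            rw [← Category.assoc, lift_whiskerLeft]
        _ = (lift h l' ≫ b.act) ≫ i' := by rw [Category.assoc, hi']
        _ = l ≫ i' := by rw [hh]
        _ = l' ≫ i' := h1
        _ = lift (1 : T ⟶ H) (l' ≫ i') ≫ c.act := (act_one' c _).symm
    have h1' : h = 1 := cancel_of_pb c.act q' hPB' h 1 (l' ≫ i') e1
    rw [← hh, h1', act_one']
  apply isPullback_of_exists_unique _ _ _ _ hm.symm
  · intro T v u huv
    obtain ⟨T₁, P1, P2, hcov, hsurj, e1⟩ := exists_lift_cover q hA.cov u
    have e2 : (P1 ≫ v) ≫ q' = (P2 ≫ i') ≫ q' := by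
      rw [Category.assoc, huv, ← Category.assoc, e1, Category.assoc, hm, Category.assoc]
    obtain ⟨h, hh⟩ := exists_of_pb c.act q' hPB' (P1 ≫ v) (P2 ≫ i') e2
    obtain ⟨w₁, hw₁⟩ : ∃ w₁ : T₁ ⟶ A, w₁ = lift h P2 ≫ b.act := ⟨_, rfl⟩
    have hw' : w₁ ≫ i' = P1 ≫ v := by
      rw [hw₁, Category.assoc, hi', ← Category.assoc, lift_whiskerLeft, hh]
    have hw'q : w₁ ≫ q = P1 ≫ u := by
      rw [hw₁, hA.act_q, e1]
    obtain ⟨w, hw⟩ := desc_of_isCov P1 hcov w₁ (by
      intro T' a₁ a₂ ha
      apply huniq
      · exact comp_eq_of_cover a₁ a₂ P1 w₁ i' v hw' ha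
      · exact comp_eq_of_cover a₁ a₂ P1 w₁ q u hw'q ha)
    haveI := epi_of_isCov P1 hcov
    refine ⟨w, ?_, ?_⟩
    · rw [← cancel_epi P1, ← Category.assoc, hw, hw']
    · rw [← cancel_epi P1, ← Category.assoc, hw, hw'q]
  · intro T l l' h1 h2
    exact huniq T l l' h1 h2

/-- Separatedness descends along fpqc base change. -/
theorem sep_descent {X' Y' X Y : Scheme.{u}} {g' : X' ⟶ Y'} {p : X' ⟶ X} {q : Y' ⟶ Y} {g : X ⟶ Y}
    (hpb : IsPullback g' p q g) [Flat q] [Surjective q] [QuasiCompact q] [IsSeparated g'] :
    IsSeparated g := by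
  rw [sep_iff]
  have hcl : IsClosed (Set.range (pullback.diagonal g').base) := (sep_iff g').mp inferInstance
  obtain ⟨r, hr1, hr2⟩ : ∃ r : pullback g' g' ⟶ pullback g g,
      r ≫ pullback.fst g g = pullback.fst g' g' ≫ p ∧
      r ≫ pullback.snd g g = pullback.snd g' g' ≫ p :=
    ⟨pullback.map g' g' g g p p q hpb.w hpb.w, pullback.lift_fst _ _ _, pullback.lift_snd _ _ _⟩
  have hw : r ≫ (pullback.fst g g ≫ g) = (pullback.fst g' g' ≫ g') ≫ q := by
    rw [← Category.assoc, hr1, Category.assoc, ← hpb.w, Category.assoc]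
  have hsq : IsPullback r (pullback.fst g' g' ≫ g') (pullback.fst g g ≫ g) q := by
    refine isPullback_of_exists_unique _ _ _ _ hw ?_ ?_
    · intro T z y' hz
      have hz1 : y' ≫ q = (z ≫ pullback.fst g g) ≫ g := by rw [Category.assoc, hz]
      have hz2 : y' ≫ q = (z ≫ pullback.snd g g) ≫ g := by
        rw [Category.assoc, ← pullback.condition, hz]
      obtain ⟨x₁, hx₁a, hx₁b⟩ : ∃ x₁ : T ⟶ X', x₁ ≫ g' = y' ∧ x₁ ≫ p = z ≫ pullback.fst g g :=
        ⟨hpb.lift _ _ hz1, hpb.lift_fst _ _ _, hpb.lift_snd _ _ _⟩
      obtain ⟨x₂, hx₂a, hx₂b⟩ : ∃ x₂ : T ⟶ X', x₂ ≫ g' = y' ∧ x₂ ≫ p = z ≫ pullback.snd g g :=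
        ⟨hpb.lift _ _ hz2, hpb.lift_fst _ _ _, hpb.lift_snd _ _ _⟩
      obtain ⟨l, hl1, hl2⟩ : ∃ l : T ⟶ pullback g' g', l ≫ pullback.fst g' g' = x₁ ∧
          l ≫ pullback.snd g' g' = x₂ :=
        ⟨pullback.lift x₁ x₂ (hx₁a.trans hx₂a.symm), pullback.lift_fst _ _ _,
          pullback.lift_snd _ _ _⟩
      refine ⟨l, ?_, ?_⟩
      · apply pullback.hom_ext
        · rw [Category.assoc, hr1, ← Category.assoc, hl1, hx₁b]
        · rw [Category.assoc, hr2, ← Category.assoc, hl2, hx₂b]
      · rw [← Category.assoc, hl1, hx₁a]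
    · intro T l l' h1 h2
      have hf : l ≫ pullback.fst g' g' = l' ≫ pullback.fst g' g' := by
        apply hpb.hom_ext
        · rw [Category.assoc, Category.assoc]; exact h2
        · rw [Category.assoc, Category.assoc, ← hr1, ← Category.assoc, ← Category.assoc, h1]
      apply pullback.hom_ext hf
      apply hpb.hom_ext
      · rw [Category.assoc, Category.assoc, ← pullback.condition, ← Category.assoc,
          ← Category.assoc, hf]
      · rw [Category.assoc, Category.assoc, ← hr2, ← Category.assoc, ← Category.assoc, h1]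
  haveI : Flat r := MorphismProperty.of_isPullback (P := @Flat) hsq.flip inferInstance
  haveI : Surjective r := MorphismProperty.of_isPullback (P := @Surjective) hsq.flip inferInstance
  haveI : QuasiCompact r :=
    MorphismProperty.of_isPullback (P := @QuasiCompact) hsq.flip inferInstance
  have hq : IsQuotientMap r.base := Flat.isQuotientMap_of_surjective r
  have hset : r.base ⁻¹' Set.range (pullback.diagonal g).base =
      Set.range (pullback.diagonal g').base := by
    ext z'
    constructor
    · rintro ⟨x, hx⟩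
      obtain ⟨pt, hp1, hp2⟩ := Scheme.Pullback.exists_preimage_pullback (f := r)
        (g := pullback.diagonal g) z' x hx.symm
      have e : pullback.fst r (pullback.diagonal g) ≫ pullback.fst g' g' =
          pullback.fst r (pullback.diagonal g) ≫ pullback.snd g' g' := by
        apply hpb.hom_ext
        · rw [Category.assoc, Category.assoc, pullback.condition]
        · calc (pullback.fst r (pullback.diagonal g) ≫ pullback.fst g' g') ≫ p
              = (pullback.fst r (pullback.diagonal g) ≫ r) ≫ pullback.fst g g := by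
                rw [Category.assoc, Category.assoc, hr1]
            _ = (pullback.snd r (pullback.diagonal g) ≫ pullback.diagonal g) ≫ pullback.fst g g := by
                rw [pullback.condition]
            _ = pullback.snd r (pullback.diagonal g) := by
                rw [Category.assoc, pullback.diagonal_fst, Category.comp_id]
            _ = (pullback.snd r (pullback.diagonal g) ≫ pullback.diagonal g) ≫ pullback.snd g g := by
                rw [Category.assoc, pullback.diagonal_snd, Category.comp_id]
            _ = (pullback.fst r (pullback.diagonal g) ≫ r) ≫ pullback.snd g g := by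
                rw [pullback.condition]
            _ = (pullback.fst r (pullback.diagonal g) ≫ pullback.snd g' g') ≫ p := by
                rw [Category.assoc, Category.assoc, hr2]
      have e' : pullback.fst r (pullback.diagonal g) =
          (pullback.fst r (pullback.diagonal g) ≫ pullback.fst g' g') ≫ pullback.diagonal g' := by
        apply pullback.hom_ext
        · rw [Category.assoc, pullback.diagonal_fst, Category.comp_id]
        · rw [Category.assoc, pullback.diagonal_snd, Category.comp_id, e]
      refine ⟨(pullback.fst r (pullback.diagonal g) ≫ pullback.fst g' g').base pt, ?_⟩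
      calc (pullback.diagonal g').base
            ((pullback.fst r (pullback.diagonal g) ≫ pullback.fst g' g').base pt)
          = ((pullback.fst r (pullback.diagonal g) ≫ pullback.fst g' g') ≫
              pullback.diagonal g').base pt := (Scheme.Hom.comp_apply _ _ pt).symm
        _ = (pullback.fst r (pullback.diagonal g)).base pt := by rw [← e']
        _ = z' := hp1
    · rintro ⟨x', rfl⟩
      have e : pullback.diagonal g' ≫ r = p ≫ pullback.diagonal g := by
        apply pullback.hom_ext
        · rw [Category.assoc, hr1, ← Category.assoc, pullback.diagonal_fst, Category.id_comp,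
            Category.assoc, pullback.diagonal_fst, Category.comp_id]
        · rw [Category.assoc, hr2, ← Category.assoc, pullback.diagonal_snd, Category.id_comp,
            Category.assoc, pullback.diagonal_snd, Category.comp_id]
      refine ⟨p.base x', ?_⟩
      calc (pullback.diagonal g).base (p.base x') = (p ≫ pullback.diagonal g).base x' :=
            (Scheme.Hom.comp_apply _ _ x').symm
        _ = (pullback.diagonal g' ≫ r).base x' := by rw [e]
        _ = r.base ((pullback.diagonal g').base x') := Scheme.Hom.comp_apply _ _ x'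
  rw [← hq.isClosed_preimage, hset]
  exact hcl

theorem prod_equivariant {G X Y U : Over S} [GrpObj G] (a : AlgGrp.Action G X)
    (aY : AlgGrp.Action G Y) (b : AlgGrp.Action G U) (f : X ⟶ Y)
    (hf : AlgGrp.Action.IsEquivariant a aY f) :
    (a.prod b).act ≫ (f ▷ U) = (G ◁ (f ▷ U)) ≫ (aY.prod b).act := by
  have hf' : a.act ≫ f = (G ◁ f) ≫ aY.act := hf
  apply CartesianMonoidalCategory.hom_ext
  · simp only [Category.assoc, whiskerRight_fst, AlgGrp.Action.prod_act, lift_fst, lift_fst_assoc]
    rw [hf', ← MonoidalCategory.whiskerLeft_comp_assoc, ← MonoidalCategory.whiskerLeft_comp_assoc,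
      whiskerRight_fst]
  · simp only [Category.assoc, whiskerRight_snd, AlgGrp.Action.prod_act, lift_snd, lift_snd_assoc]
    rw [← MonoidalCategory.whiskerLeft_comp_assoc, whiskerRight_snd]

theorem main (k : Type u) [Field k]
    (G X Y U XG YG : Over (Spec (CommRingCat.of k))) [GrpObj G]
    [QuasiCompact X.hom] [QuasiCompact Y.hom] [QuasiCompact U.hom]
    [LocallyOfFiniteType XG.hom] [QuasiSeparated XG.hom] [QuasiSeparated YG.hom]
    (a : AlgGrp.Action G X) (aY : AlgGrp.Action G Y) (b : AlgGrp.Action G U)
    (f : X ⟶ Y) (hf : AlgGrp.Action.IsEquivariant a aY f)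
    (qX : X ⊗ U ⟶ XG) (hqX : GIT.IsInvariant (a.prod b) qX) [Flat qX.left] [Surjective qX.left]
    (hcX : IsIso (GIT.PsiY (a.prod b) qX hqX))
    (qY : Y ⊗ U ⟶ YG) (hqY : GIT.IsInvariant (aY.prod b) qY) [Flat qY.left] [Surjective qY.left]
    (hcY : IsIso (GIT.PsiY (aY.prod b) qY hqY))
    (fG : XG ⟶ YG) (hfG : qX ≫ fG = (f ▷ U) ≫ qY) :
    (IsProper f.left → IsProper fG.left) ∧ (Flat f.left → Flat fG.left) ∧
      (Smooth f.left → Smooth fG.left) := by
  have hPX : IsPB (a.prod b) qX :=
    IsPB.of (a.prod b) qX hqX (‹Surjective qX.left›).surj hcX ‹Flat qX.left›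
  have hPY : IsPB (aY.prod b) qY :=
    IsPB.of (aY.prod b) qY hqY (‹Surjective qY.left›).surj hcY ‹Flat qY.left›
  have hcart : IsPullback (f ▷ U) qX qY fG :=
    cart_general (a.prod b) (aY.prod b) (f ▷ U) (prod_equivariant a aY b f hf) qX hPX qY hPY.pb
      fG hfG
  have hcartS : IsPullback (f ▷ U).left qX.left qY.left fG.left := hcart.map (Over.forget _)
  obtain ⟨h1, h2, h3⟩ := hPY.cov
  have hQ : (@Surjective ⊓ @Flat ⊓ @QuasiCompact : MorphismProperty Scheme.{u}) qY.left :=
    ⟨⟨h2, h1⟩, h3⟩
  have hbc : IsPullback (f ▷ U).left (fst X U).left (fst Y U).left f.left :=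
    isPullback_whiskerRight U f
  haveI := Groth.Agent.Lib.QuotEff.flat_descendsAlong'.{u}
  refine ⟨fun hp => ?_, fun hfl => ?_, fun hsm => ?_⟩
  · haveI : IsProper (f ▷ U).left :=
      MorphismProperty.of_isPullback (P := @IsProper) hbc.flip hp
    haveI : UniversallyClosed fG.left :=
      MorphismProperty.of_isPullback_of_descendsAlong (P := @UniversallyClosed)
        (Q := @Surjective ⊓ @Flat ⊓ @QuasiCompact) hcartS hQ inferInstance
    haveI : IsSeparated fG.left := sep_descent hcartS
    haveI : LocallyOfFiniteType fG.left := by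
      haveI : LocallyOfFiniteType (fG.left ≫ YG.hom) := by rw [Over.w fG]; infer_instance
      exact locallyOfFiniteType_of_comp fG.left YG.hom
    exact (isProper_iff _).mpr ⟨inferInstance, inferInstance, inferInstance⟩
  · exact MorphismProperty.of_isPullback_of_descendsAlong (P := @Flat)
      (Q := @Surjective ⊓ @Flat ⊓ @QuasiCompact) hcartS hQ
      (MorphismProperty.of_isPullback (P := @Flat) hbc.flip hfl)
  · exact MorphismProperty.of_isPullback_of_descendsAlong (P := @Smooth)
      (Q := @Surjective ⊓ @Flat ⊓ @QuasiCompact) hcartS hQ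
      (MorphismProperty.of_isPullback (P := @Smooth) hbc.flip hsm)

end Groth.Agent.Lib.EquivDescent
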