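import Mathlib
import Groth.Prelude.Def_AlgGrp
import Groth.Agent.Lib.GrpShear_helper7
set_option autoImplicit false
set_option linter.style.haveILetI false

universe v u

open CategoryTheory CategoryTheory.Limits AlgebraicGeometry MonoidalCategory
  CartesianMonoidalCategory MonObj

namespace EquivLargestH4

open Groth.Agent.Lib.GrpShearH7

section abstract

variable {C : Type u} [Category.{v} C] [CartesianMonoidalCategory C] {G X Y : C} [GrpObj G]

lemma isPullback_whiskerLeft_snd (f : X ⟶ Y) :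
    IsPullback (snd G X) (G ◁ f) f (snd G Y) := by
  have w : snd G X ≫ f = (G ◁ f) ≫ snd G Y := (whiskerLeft_snd G f).symm
  refine ⟨⟨w⟩, ⟨PullbackCone.IsLimit.mk w (fun s => lift (s.snd ≫ fst G Y) s.fst) ?_ ?_ ?_⟩⟩
  · intro s
    exact lift_snd _ _
  · intro s
    apply CartesianMonoidalCategory.hom_ext
    · rw [Category.assoc, whiskerLeft_fst, lift_fst]
    · rw [Category.assoc, whiskerLeft_snd, ← Category.assoc, lift_snd, s.condition]
  · intro s m h1 h2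
    apply CartesianMonoidalCategory.hom_ext
    · rw [lift_fst, ← h2, Category.assoc, whiskerLeft_fst]
    · rw [lift_snd, h1]

section act

variable (actX : G ⊗ X ⟶ X) (one_actX : (η[G] ▷ X) ≫ actX = (λ_ X).hom)
  (mul_actX : (μ[G] ▷ X) ≫ actX = (α_ G G X).hom ≫ (G ◁ actX) ≫ actX)

include one_actX mul_actX in
lemma act_act_inv {T : C} (g : T ⟶ G) (x : T ⟶ X) :
    lift g (lift g⁻¹ x ≫ actX) ≫ actX = x := by
  rw [← act_mul actX mul_actX, mul_inv_cancel, act_one actX one_actX]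

include one_actX mul_actX in
lemma isPullback_fst_act : IsPullback (fst G X) actX (toUnit G) (toUnit X) := by
  have w : fst G X ≫ toUnit G = actX ≫ toUnit X := toUnit_unique _ _
  refine ⟨⟨w⟩, ⟨PullbackCone.IsLimit.mk w
    (fun s => lift s.fst (lift s.fst⁻¹ s.snd ≫ actX)) ?_ ?_ ?_⟩⟩
  · intro s
    exact lift_fst _ _
  · intro s
    exact act_act_inv actX one_actX mul_actX s.fst s.snd
  · intro s m h1 h2
    apply CartesianMonoidalCategory.hom_ext
    · rw [lift_fst, h1]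
    · rw [lift_snd, ← h2, ← h1]
      have e : m = lift (m ≫ fst G X) (m ≫ snd G X) := by
        apply CartesianMonoidalCategory.hom_ext
        · rw [lift_fst]
        · rw [lift_snd]
      have h9 := act_inv_act actX one_actX mul_actX (m ≫ fst G X) (m ≫ snd G X)
      rw [← e] at h9
      exact h9.symm

variable (actY : G ⊗ Y ⟶ Y) (one_actY : (η[G] ▷ Y) ≫ actY = (λ_ Y).hom)
  (mul_actY : (μ[G] ▷ Y) ≫ actY = (α_ G G Y).hom ≫ (G ◁ actY) ≫ actY)
  (f : X ⟶ Y) (hf : (G ◁ f) ≫ actY = actX ≫ f)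

include hf in
lemma equivariant_pt {T : C} (g : T ⟶ G) (x : T ⟶ X) :
    (lift g x ≫ actX) ≫ f = lift g (x ≫ f) ≫ actY := by
  rw [Category.assoc, ← hf, ← Category.assoc, lift_whiskerLeft]

include one_actX mul_actX in
lemma ipa_aux1 {T : C} (g : T ⟶ G) (x' : T ⟶ X) :
    lift g (lift g⁻¹ x' ≫ actX) ≫ actX = x' := act_act_inv actX one_actX mul_actX g x'

include one_actY mul_actY hf in
lemma ipa_aux2 {T : C} (x' : T ⟶ X) (z : T ⟶ G ⊗ Y) (hc : x' ≫ f = z ≫ actY) :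
    lift (z ≫ fst G Y) (lift (z ≫ fst G Y)⁻¹ x' ≫ actX) ≫ (G ◁ f) = z := by
  apply CartesianMonoidalCategory.hom_ext
  · rw [Category.assoc, whiskerLeft_fst, lift_fst]
  · rw [Category.assoc, whiskerLeft_snd, ← Category.assoc, lift_snd,
      equivariant_pt actX actY f hf, hc]
    have e : z = lift (z ≫ fst G Y) (z ≫ snd G Y) := by
      apply CartesianMonoidalCategory.hom_ext
      · rw [lift_fst]
      · rw [lift_snd]
    conv_lhs => rw [e]
    simp only [lift_fst]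
    exact act_inv_act actY one_actY mul_actY (z ≫ fst G Y) (z ≫ snd G Y)

include one_actX mul_actX in
lemma ipa_aux3 {T : C} (x' : T ⟶ X) (z : T ⟶ G ⊗ Y) (m : T ⟶ G ⊗ X)
    (h1 : m ≫ actX = x') (h2 : m ≫ (G ◁ f) = z) :
    m = lift (z ≫ fst G Y) (lift (z ≫ fst G Y)⁻¹ x' ≫ actX) := by
  have h3 : m ≫ fst G X = z ≫ fst G Y := by rw [← h2, Category.assoc, whiskerLeft_fst]
  have e : m = lift (m ≫ fst G X) (m ≫ snd G X) := by
    apply CartesianMonoidalCategory.hom_ext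
    · rw [lift_fst]
    · rw [lift_snd]
  apply CartesianMonoidalCategory.hom_ext
  · rw [lift_fst, h3]
  · rw [lift_snd, ← h3, ← h1]
    have h9 := act_inv_act actX one_actX mul_actX (m ≫ fst G X) (m ≫ snd G X)
    rw [← e] at h9
    exact h9.symm

include one_actX mul_actX one_actY mul_actY hf in
lemma isPullback_act : IsPullback actX (G ◁ f) f actY := by
  refine ⟨⟨hf.symm⟩, ⟨PullbackCone.IsLimit.mk hf.symm
    (fun s => lift (s.snd ≫ fst G Y) (lift (s.snd ≫ fst G Y)⁻¹ s.fst ≫ actX)) ?_ ?_ ?_⟩⟩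
  · intro s
    exact ipa_aux1 actX one_actX mul_actX _ _
  · intro s
    exact ipa_aux2 actX actY one_actY mul_actY f hf s.fst s.snd s.condition
  · intro s m h1 h2
    exact ipa_aux3 actX one_actX mul_actX f s.fst s.snd m h1 h2

end act

end abstract

lemma exists_largest (P : MorphismProperty Scheme.{u}) [IsZariskiLocalAtTarget P]
    {X Y : Scheme.{u}} (f : X ⟶ Y) :
    ∃ V : Y.Opens, P (f ∣_ V) ∧ ∀ V' : Y.Opens, P (f ∣_ V') → V' ≤ V := by
  refine ⟨sSup {V' | P (f ∣_ V')}, ?_, fun V' h => le_sSup h⟩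
  apply IsZariskiLocalAtTarget.of_forall_exists_morphismRestrict
  intro x
  have hx : (sSup {V' | P (f ∣_ V')}).ι x ∈ sSup {V' | P (f ∣_ V')} := by
    have h0 : (sSup {V' | P (f ∣_ V')}).ι x ∈ Set.range (sSup {V' | P (f ∣_ V')}).ι :=
      Set.mem_range_self x
    rw [Scheme.Opens.range_ι] at h0
    exact h0
  obtain ⟨V', hV', hxV'⟩ := TopologicalSpace.Opens.mem_sSup.mp hx
  refine ⟨(sSup {V' | P (f ∣_ V')}).ι ⁻¹ᵁ V', hxV', ?_⟩
  rw [P.arrow_mk_iso_iff (morphismRestrictRestrict f _ _)]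
  have e : (sSup {V' | P (f ∣_ V')}).ι ''ᵁ ((sSup {V' | P (f ∣_ V')}).ι ⁻¹ᵁ V') = V' := by
    rw [Scheme.Hom.image_preimage_eq_opensRange_inf, Scheme.Opens.opensRange_ι]
    exact inf_eq_right.mpr (le_sSup hV')
  rw [P.arrow_mk_iso_iff (morphismRestrictEq f e)]
  exact hV'

set_option maxHeartbeats 1600000 in
theorem stable_of_largest {S : Scheme.{u}} (G X Y : Over S) [GrpObj G] [Flat G.hom]
    [UniversallyOpen G.hom]
    (aX : AlgGrp.Action G X) (aY : AlgGrp.Action G Y) (f : X ⟶ Y)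
    (hf : (G ◁ f) ≫ aY.act = aX.act ≫ f)
    (P : MorphismProperty Scheme.{u}) [P.IsStableUnderBaseChange]
    [P.DescendsAlong (@Flat ⊓ @Surjective ⊓ @UniversallyOpen)]
    (V : Y.left.Opens) (hV : P (f.left ∣_ V))
    (hmax : ∀ V' : Y.left.Opens, P (f.left ∣_ V') → V' ≤ V) :
    (CartesianMonoidalCategory.snd G Y).left ⁻¹ᵁ V ≤ aY.act.left ⁻¹ᵁ V := by
  have sqact : IsPullback aX.act.left (G ◁ f).left f.left aY.act.left :=
    (isPullback_act aX.act aX.one_act aX.mul_act aY.act aY.one_act aY.mul_act f hf).map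
      (Over.forget S)
  have sqsnd : IsPullback (snd G X).left (G ◁ f).left f.left (snd G Y).left :=
    (isPullback_whiskerLeft_snd (G := G) f).map (Over.forget S)
  have sqB : IsPullback (fst G Y).left aY.act.left (toUnit G).left (toUnit Y).left :=
    (isPullback_fst_act aY.act aY.one_act aY.mul_act).map (Over.forget S)
  obtain ⟨ψH, hψH⟩ : ∃ ψH : (G ⊗ Y).left ⟶ Y.left, ψH = aY.act.left := ⟨_, rfl⟩
  obtain ⟨uV, huV⟩ : ∃ uV : (G ⊗ X).left ⟶ (G ⊗ Y).left, uV = (G ◁ f).left := ⟨_, rfl⟩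
  rw [← hψH] at sqact sqB ⊢
  rw [← huV] at sqact sqsnd
  haveI hBf : Flat (toUnit G).left := by rw [Over.toUnit_left]; infer_instance
  haveI hBo : UniversallyOpen (toUnit G).left := by rw [Over.toUnit_left]; infer_instance
  haveI : Flat ψH := MorphismProperty.of_isPullback (P := @Flat) sqB hBf
  haveI : UniversallyOpen ψH :=
    MorphismProperty.of_isPullback (P := @UniversallyOpen) sqB hBo
  obtain ⟨O, hO⟩ : ∃ O : (G ⊗ Y).left.Opens, O = (snd G Y).left ⁻¹ᵁ V := ⟨_, rfl⟩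
  let N : Y.left.Opens := ⟨ψH '' (O : Set _), ψH.isOpenMap _ O.2⟩
  have hrψ : Set.range (O.ι ≫ ψH) ⊆ Set.range N.ι := by
    rw [Scheme.Opens.range_ι, Scheme.Hom.comp_base, TopCat.coe_comp, Set.range_comp,
      Scheme.Opens.range_ι]
    exact subset_rfl
  obtain ⟨ψ₀, hψ₀⟩ : ∃ ψ₀ : O.toScheme ⟶ N.toScheme, ψ₀ ≫ N.ι = O.ι ≫ ψH :=
    ⟨IsOpenImmersion.lift N.ι (O.ι ≫ ψH) hrψ, IsOpenImmersion.lift_fac _ _ _⟩
  obtain ⟨p₀, hp₀⟩ : ∃ p₀ : O.toScheme ⟶ V.toScheme, p₀ ≫ V.ι = O.ι ≫ (snd G Y).left := by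
    subst hO
    exact ⟨(snd G Y).left ∣_ V, morphismRestrict_ι _ _⟩
  have hψ₀_flat : Flat ψ₀ := by
    apply MorphismProperty.of_postcomp @Flat (W' := @IsOpenImmersion) ψ₀ N.ι inferInstance
    rw [hψ₀]; infer_instance
  have hψ₀_uo : UniversallyOpen ψ₀ := by
    apply MorphismProperty.of_postcomp @UniversallyOpen (W' := @IsOpenImmersion) ψ₀ N.ι
      inferInstance
    rw [hψ₀]; infer_instance
  have hψ₀_surj : Surjective ψ₀ := by
    refine ⟨fun w => ?_⟩
    obtain ⟨r, hr, hrw⟩ : N.ι w ∈ ψH '' (O : Set _) := by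
      have h0 : N.ι w ∈ Set.range N.ι := Set.mem_range_self w
      rw [Scheme.Opens.range_ι] at h0
      exact h0
    refine ⟨⟨r, hr⟩, ?_⟩
    apply N.ι.isOpenEmbedding.injective
    rw [← Scheme.Hom.comp_apply, hψ₀, Scheme.Hom.comp_apply]
    exact hrw
  have sqR : IsPullback (uV ⁻¹ᵁ O).ι (uV ∣_ O) uV O.ι :=
    (isPullback_morphismRestrict _ O).flip
  have sq1 : IsPullback ((uV ⁻¹ᵁ O).ι ≫ (snd G X).left) (uV ∣_ O) f.left
      (O.ι ≫ (snd G Y).left) := sqR.paste_horiz sqsnd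
  have sq1' : IsPullback ((uV ⁻¹ᵁ O).ι ≫ (snd G X).left) (uV ∣_ O) f.left (p₀ ≫ V.ι) := by
    rw [hp₀]; exact sq1
  have sq1'' := IsPullback.of_right' sq1' (isPullback_morphismRestrict f.left V).flip
  have hP0 : P (uV ∣_ O) := P.of_isPullback sq1'' hV
  have sq2 : IsPullback ((uV ⁻¹ᵁ O).ι ≫ aX.act.left) (uV ∣_ O) f.left (O.ι ≫ ψH) :=
    sqR.paste_horiz sqact
  have sq2' : IsPullback ((uV ⁻¹ᵁ O).ι ≫ aX.act.left) (uV ∣_ O) f.left (ψ₀ ≫ N.ι) := by
    rw [hψ₀]; exact sq2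
  have sq2'' := IsPullback.of_right' sq2' (isPullback_morphismRestrict f.left N).flip
  have hPN : P (f.left ∣_ N) :=
    MorphismProperty.DescendsAlong.of_isPullback (Q := @Flat ⊓ @Surjective ⊓ @UniversallyOpen)
      sq2''.flip ⟨⟨hψ₀_flat, hψ₀_surj⟩, hψ₀_uo⟩ hP0
  have hle := hmax N hPN
  intro z hz
  exact hle ⟨z, by rw [hO]; exact hz, rfl⟩

theorem main18826 (k : Type u) [Field k]
    (G X Y : Over (Spec (CommRingCat.of k))) [GrpObj G] [LocallyOfFiniteType G.hom]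
    (aX : AlgGrp.Action G X) (aY : AlgGrp.Action G Y) (f : X ⟶ Y)
    (hf : (G ◁ f) ≫ aY.act = aX.act ≫ f)
    (P : MorphismProperty Scheme.{u}) [IsZariskiLocalAtTarget P] [P.IsStableUnderBaseChange]
    [P.DescendsAlong (@Flat ⊓ @Surjective ⊓ @UniversallyOpen)] :
    ∃ V : Y.left.Opens, P (f.left ∣_ V) ∧ (∀ V' : Y.left.Opens, P (f.left ∣_ V') → V' ≤ V) ∧
      (CartesianMonoidalCategory.snd G Y).left ⁻¹ᵁ V ≤ aY.act.left ⁻¹ᵁ V := by
  obtain ⟨V, hV, hmax⟩ := exists_largest P f.left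
  haveI : Subsingleton ↥(Spec (CommRingCat.of k)) :=
    inferInstanceAs (Subsingleton (PrimeSpectrum k))
  exact ⟨V, hV, hmax, stable_of_largest G X Y aX aY f hf P V hV hmax⟩

end EquivLargestH4
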