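import Groth.Prelude.Def_Magnet3
import Groth.Prelude.Def_QuotSh
import Mathlib.CategoryTheory.Sites.SubcanonicalOver
import Mathlib.AlgebraicGeometry.Sites.Fpqc
import Mathlib.AlgebraicGeometry.Sites.BigZariski

/-! # The functor of equivariant maps out of `B ⊗ T` is a sheaf for a subcanonical topology (lead) -/

set_option backward.isDefEq.respectTransparency false
set_option backward.isDefEq.respectTransparency.types false
set_option linter.unusedSimpArgs false
set_option linter.unusedVariables false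
set_option linter.unusedSectionVars false
set_option linter.style.longLine false
set_option maxHeartbeats 800000

universe v₁ u₁ u

open CategoryTheory CategoryTheory.Limits MonoidalCategory CartesianMonoidalCategory MonObj
  AlgebraicGeometry Opposite

namespace Groth.Agent.Lib.EqvHomSheaf

open Magnet Magnet.MonAct

theorem isSheaf_eqvHom {C : Type u₁} [Category.{v₁} C] [CartesianMonoidalCategory C]
    (J : GrothendieckTopology C) [J.Subcanonical] {A B X : C} [MonObj A]
    (ρ : MonAct A B) (a : MonAct A X) : Presheaf.IsSheaf J (MonAct.eqvHom ρ a) := by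
  rw [isSheaf_iff_isSheaf_of_type]
  have hX : Presieve.IsSheaf J (yoneda.obj X) :=
    GrothendieckTopology.Subcanonical.isSheaf_of_isRepresentable (yoneda.obj X)
  intro T R hR x hx
  have hxs := (Presieve.compatible_iff_sieveCompatible x).1 hx
  have F1 : ∀ {T' T'' : C} (t : T' ⟶ T) (n : T'' ⟶ T') (ht : R t) (t' : T'' ⟶ T) (ht' : R t')
      (e : t' = n ≫ t), (x t' ht').1 = (B ◁ n) ≫ (x t ht).1 := by
    intro T' T'' t n ht t' ht' e
    subst e
    exact congrArg Subtype.val (hxs t n ht)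
  have hR' : R.pullback (snd B T) ∈ J (B ⊗ T) := J.pullback_stable _ hR
  have hsh := hX _ hR'
  let y : Presieve.FamilyOfElements (yoneda.obj X) (R.pullback (snd B T)).arrows :=
    fun W m hm => lift (m ≫ fst B T) (𝟙 W) ≫ (x (m ≫ snd B T) hm).1
  have hy : y.Compatible := by
    rw [Presieve.compatible_iff_sieveCompatible]
    intro W W' m n hm
    show lift ((n ≫ m) ≫ fst B T) (𝟙 W') ≫ (x ((n ≫ m) ≫ snd B T) _).1 =
      n ≫ lift (m ≫ fst B T) (𝟙 W) ≫ (x (m ≫ snd B T) hm).1
    rw [F1 (m ≫ snd B T) n hm ((n ≫ m) ≫ snd B T) _ (Category.assoc _ _ _),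
      lift_whiskerLeft_assoc, comp_lift_assoc, Category.id_comp, Category.comp_id, Category.assoc]
  have glue : ∀ {W : C} (m : W ⟶ B ⊗ T) (t₀ : W ⟶ T) (h₀ : R t₀) (e : m ≫ snd B T = t₀),
      m ≫ hsh.amalgamate y hy = lift (m ≫ fst B T) (𝟙 W) ≫ (x t₀ h₀).1 := by
    intro W m t₀ h₀ e
    subst e
    exact hsh.valid_glue hy m h₀
  generalize hsh.amalgamate y hy = ψ at glue
  have hψ : IsEquivariant (ρ.prod (MonAct.trivial A T)) a ψ := by
    rw [mem_eqvHom_iff]
    intro T' g b t
    apply (hX _ (J.pullback_stable t hR)).isSeparatedFor.ext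
    intro T'' n hn
    have hφ := (mem_eqvHom_iff (x (n ≫ t) hn).1).1 (x (n ≫ t) hn).2
    show n ≫ lift (lift g b ≫ ρ.act) t ≫ ψ = n ≫ lift g (lift b t ≫ ψ) ≫ a.act
    simp only [comp_lift_assoc]
    rw [glue (lift (lift (n ≫ g) (n ≫ b) ≫ ρ.act) (n ≫ t)) (n ≫ t) hn (lift_snd _ _),
      glue (lift (n ≫ b) (n ≫ t)) (n ≫ t) hn (lift_snd _ _), lift_fst, lift_fst, hφ]
  have hres : ∀ {T' : C} (t : T' ⟶ T) (ht : R t), (B ◁ t) ≫ ψ = (x t ht).1 := by
    intro T' t ht
    have e : (B ◁ t) ≫ snd B T = snd B T' ≫ t := whiskerLeft_snd _ _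
    rw [glue (B ◁ t) (snd B T' ≫ t) (R.downward_closed ht _) e,
      F1 t (snd B T') ht (snd B T' ≫ t) _ rfl, lift_whiskerLeft_assoc, whiskerLeft_fst,
      Category.id_comp, lift_fst_snd, Category.id_comp]
  refine ⟨⟨ψ, hψ⟩, ?_, ?_⟩
  · intro T' t ht
    exact Subtype.ext (hres t ht)
  · intro ψ' hψ'
    apply Subtype.ext
    apply hsh.isSeparatedFor.ext
    intro W m hm
    have h1 : (x (m ≫ snd B T) hm).1 = (B ◁ (m ≫ snd B T)) ≫ ψ'.1 :=
      (congrArg Subtype.val (hψ' (m ≫ snd B T) hm)).symm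
    show m ≫ ψ'.1 = m ≫ ψ
    rw [glue m (m ≫ snd B T) hm rfl, h1, lift_whiskerLeft_assoc, Category.id_comp,
      lift_comp_fst_snd]

theorem main (S : Scheme.{u}) (A B X : Over S) [MonObj A] (ρ : Magnet.MonAct A B)
    (a : Magnet.MonAct A X) :
    Presheaf.IsSheaf (QuotSh.J Scheme.fppfPrecoverage S) (Magnet.MonAct.eqvHom ρ a) :=
  isSheaf_eqvHom _ ρ a

theorem isSheaf_fixedPsh {C : Type u₁} [Category.{v₁} C] [CartesianMonoidalCategory C]
    (J : GrothendieckTopology C) [J.Subcanonical] {A X : C} [MonObj A]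
    (a : MonAct A X) : Presheaf.IsSheaf J (MonAct.fixedPsh a) := by
  rw [isSheaf_iff_isSheaf_of_type]
  have hX : Presieve.IsSheaf J (yoneda.obj X) :=
    GrothendieckTopology.Subcanonical.isSheaf_of_isRepresentable (yoneda.obj X)
  intro T R hR x hx
  have hxs := (Presieve.compatible_iff_sieveCompatible x).1 hx
  have hsh := hX _ hR
  let y : Presieve.FamilyOfElements (yoneda.obj X) R.arrows := fun W t ht => (x t ht).1
  have hy : y.Compatible := by
    rw [Presieve.compatible_iff_sieveCompatible]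
    intro W W' t n ht
    exact congrArg Subtype.val (hxs t n ht)
  have glue : ∀ {W : C} (t : W ⟶ T) (ht : R t), t ≫ hsh.amalgamate y hy = (x t ht).1 :=
    fun t ht => hsh.valid_glue hy t ht
  generalize hsh.amalgamate y hy = ψ at glue
  have hψ : ∀ (T' : C) (t : T' ⟶ T) (g : T' ⟶ A), lift g (t ≫ ψ) ≫ a.act = t ≫ ψ := by
    intro T' t g
    apply (hX _ (J.pullback_stable t hR)).isSeparatedFor.ext
    intro T'' n hn
    show n ≫ lift g (t ≫ ψ) ≫ a.act = n ≫ t ≫ ψ
    have h2 := (x (n ≫ t) hn).2 T'' (𝟙 T'') (n ≫ g)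
    rw [Category.id_comp] at h2
    rw [comp_lift_assoc, ← Category.assoc n t ψ, glue (n ≫ t) hn]
    exact h2
  refine ⟨⟨ψ, hψ⟩, ?_, ?_⟩
  · intro T' t ht
    exact Subtype.ext (glue t ht)
  · intro ψ' hψ'
    apply Subtype.ext
    apply hsh.isSeparatedFor.ext
    intro W t ht
    show t ≫ ψ'.1 = t ≫ ψ
    rw [glue t ht]
    exact congrArg Subtype.val (hψ' t ht)

theorem main_fixed (k : Type u) [CommRing k]
    (M X : Over (Spec (CommRingCat.of k))) [MonObj M] (a : Magnet.MonAct M X) :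
    Presheaf.IsSheaf (Scheme.zariskiTopology.over (Spec (CommRingCat.of k)))
      (Magnet.MonAct.fixedPsh a) :=
  isSheaf_fixedPsh _ a

end Groth.Agent.Lib.EqvHomSheaf
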