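import Mathlib
import Groth.Prelude.Def_ARSys
import Groth.Prelude.Def_DerCA
import Groth.Prelude.Def_Wider
import Groth.Agent.Lib.LocCohArt2_helper7

/-!
# Inverse systems of Artinian modules whose limit is Artinian are essentially constant (helper7, S8799)
-/

open CategoryTheory CategoryTheory.Limits Opposite

namespace Groth.Agent.Lib.EssConstArtH7

universe u

variable {A : Type u} [CommRing A] (X : ℕᵒᵖ ⥤ ModuleCat.{u} A)

/-- transition map as a linear map -/
noncomputable def T {n m : ℕ} (h : n ≤ m) : X.obj (op m) →ₗ[A] X.obj (op n) :=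
  (X.map (homOfLE h).op).hom

lemma T_comp {n m k : ℕ} (h : n ≤ m) (h' : m ≤ k) (z : X.obj (op k)) :
    T X h (T X h' z) = T X (h.trans h') z := by
  have h1 : X.map (homOfLE h').op ≫ X.map (homOfLE h).op = X.map (homOfLE (h.trans h')).op := by
    rw [← X.map_comp]
    exact congrArg X.map (Quiver.Hom.unop_inj (Subsingleton.elim _ _))
  have h2 := congrArg (fun φ => φ.hom z) h1
  exact h2

lemma T_refl (n : ℕ) (z : X.obj (op n)) : T X (le_refl n) z = z := by
  have h1 : X.map (homOfLE (le_refl n)).op = 𝟙 _ := by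
    rw [← X.map_id]
    exact congrArg X.map (Quiver.Hom.unop_inj (Subsingleton.elim _ _))
  have h2 := congrArg (fun φ => φ.hom z) h1
  exact h2

/-- stable images -/
noncomputable def St (n : ℕ) : Submodule A (X.obj (op n)) := ⨅ (m : ℕ) (h : n ≤ m), LinearMap.range (T X h)

lemma range_anti {n m k : ℕ} (h : n ≤ m) (h' : m ≤ k) :
    LinearMap.range (T X (h.trans h')) ≤ LinearMap.range (T X h) := by
  rintro _ ⟨z, rfl⟩
  exact ⟨T X h' z, T_comp X h h' z⟩

lemma exists_St_eq (hX : ∀ n : ℕ, IsArtinian A (X.obj (op n))) (n : ℕ) :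
    ∃ r, ∃ h : n ≤ r, St X n = LinearMap.range (T X h) := by
  haveI := hX n
  let f : ℕ →o (Submodule A (X.obj (op n)))ᵒᵈ :=
    ⟨fun s => OrderDual.toDual (LinearMap.range (T X (Nat.le_add_right n s))),
      fun s s' hss' => by
        show LinearMap.range (T X (Nat.le_add_right n s')) ≤
          LinearMap.range (T X (Nat.le_add_right n s))
        exact range_anti X (Nat.le_add_right n s) (Nat.add_le_add_left hss' n)⟩
  obtain ⟨s₀, hs₀⟩ := IsArtinian.monotone_stabilizes f
  refine ⟨n + s₀, Nat.le_add_right n s₀, le_antisymm (iInf₂_le _ _) ?_⟩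
  refine le_iInf₂ fun m hm => ?_
  have hs : s₀ ≤ (m - n) + s₀ := Nat.le_add_left _ _
  have heq : LinearMap.range (T X (Nat.le_add_right n ((m - n) + s₀))) =
      LinearMap.range (T X (Nat.le_add_right n s₀)) :=
    (congrArg OrderDual.ofDual (hs₀ _ hs)).symm
  rw [← heq]
  have hmk : m ≤ n + ((m - n) + s₀) := by omega
  exact range_anti X hm hmk

lemma T_mem_St {n m : ℕ} (h : n ≤ m) {z : X.obj (op m)} (hz : z ∈ St X m) :
    T X h z ∈ St X n := by
  simp only [St, Submodule.mem_iInf] at hz ⊢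
  intro k hk
  obtain ⟨w, rfl⟩ := hz (max k m) (le_max_right k m)
  refine ⟨T X (le_max_left k m) w, ?_⟩
  rw [T_comp, T_comp]

lemma exists_preimage_St (hX : ∀ n : ℕ, IsArtinian A (X.obj (op n))) {n m : ℕ} (h : n ≤ m)
    {y : X.obj (op n)} (hy : y ∈ St X n) : ∃ z ∈ St X m, T X h z = y := by
  obtain ⟨r, hr, hSt⟩ := exists_St_eq X hX m
  have hy' : y ∈ LinearMap.range (T X (h.trans hr)) := by
    have := hy
    simp only [St, Submodule.mem_iInf] at this
    exact this r (h.trans hr)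
  obtain ⟨u, rfl⟩ := hy'
  refine ⟨T X hr u, ?_, T_comp X h hr u⟩
  rw [hSt]
  exact ⟨u, rfl⟩

/-- a compatible sequence of lifts in the stable images -/
noncomputable def lift (hX : ∀ n : ℕ, IsArtinian A (X.obj (op n))) (n : ℕ) (y : St X n) :
    ∀ k : ℕ, St X (n + k)
  | 0 => y
  | k + 1 => ⟨(exists_preimage_St X hX (Nat.le_succ (n + k)) (lift hX n y k).2).choose,
      (exists_preimage_St X hX (Nat.le_succ (n + k)) (lift hX n y k).2).choose_spec.1⟩

lemma lift_succ (hX : ∀ n : ℕ, IsArtinian A (X.obj (op n))) (n : ℕ) (y : St X n) (k : ℕ) :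
    T X (Nat.le_succ (n + k)) (lift X hX n y (k + 1)).1 = (lift X hX n y k).1 :=
  (exists_preimage_St X hX (Nat.le_succ (n + k)) (lift X hX n y k).2).choose_spec.2

lemma lift_compat (hX : ∀ n : ℕ, IsArtinian A (X.obj (op n))) (n : ℕ) (y : St X n) (k k' : ℕ)
    (hkk' : k ≤ k') :
    T X (Nat.add_le_add_left hkk' n) (lift X hX n y k').1 = (lift X hX n y k).1 := by
  induction k', hkk' using Nat.le_induction with
  | base => exact T_refl X _ _
  | succ k' hk' ih =>
    have h1 := T_comp X (Nat.add_le_add_left hk' n) (Nat.le_succ (n + k'))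
      (lift X hX n y (k' + 1)).1
    rw [lift_succ] at h1
    exact h1.symm.trans ih

variable (H : ModuleCat.{u} A) (c : (Functor.const ℕᵒᵖ).obj H ⟶ X)

lemma T_c {n m : ℕ} (h : n ≤ m) (x : H) :
    T X h ((c.app (op m)).hom x) = (c.app (op n)).hom x := by
  have h1 := c.naturality (homOfLE h).op
  have h2 := congrArg (fun φ => φ.hom x) h1
  exact h2.symm

lemma surj_St (hX : ∀ n : ℕ, IsArtinian A (X.obj (op n)))
    (hsurj : ∀ y : (∀ n : ℕ, X.obj (op n)), (∀ (n m : ℕ) (h : n ≤ m), T X h (y m) = y n) →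
      ∃ x : H, ∀ n : ℕ, (c.app (op n)).hom x = y n)
    (n : ℕ) (y : X.obj (op n)) (hy : y ∈ St X n) : ∃ x : H, (c.app (op n)).hom x = y := by
  have hz : ∀ (m m' : ℕ) (h : m ≤ m'),
      T X h (T X (Nat.le_add_left m' n) (lift X hX n ⟨y, hy⟩ m').1) =
        T X (Nat.le_add_left m n) (lift X hX n ⟨y, hy⟩ m).1 := by
    intro m m' h
    rw [T_comp, ← lift_compat X hX n ⟨y, hy⟩ m m' h, T_comp]
  obtain ⟨x, hx⟩ := hsurj (fun m => T X (Nat.le_add_left m n) (lift X hX n ⟨y, hy⟩ m).1) hz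
  refine ⟨x, ?_⟩
  rw [hx n]
  exact lift_compat X hX n ⟨y, hy⟩ 0 n (Nat.zero_le n)

lemma exists_injective [IsArtinian A H]
    (hinj : ∀ x : H, (∀ n : ℕ, (c.app (op n)).hom x = 0) → x = 0) :
    ∃ n₀ : ℕ, Function.Injective (c.app (op n₀)).hom := by
  let K : ℕ →o (Submodule A H)ᵒᵈ :=
    ⟨fun n => OrderDual.toDual (LinearMap.ker (c.app (op n)).hom), fun n m h => by
      show LinearMap.ker (c.app (op m)).hom ≤ LinearMap.ker (c.app (op n)).hom
      intro x hx
      rw [LinearMap.mem_ker] at hx ⊢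
      rw [← T_c X H c h x, hx, map_zero]⟩
  obtain ⟨n₀, hn₀⟩ := IsArtinian.monotone_stabilizes K
  refine ⟨n₀, ?_⟩
  rw [← LinearMap.ker_eq_bot, eq_bot_iff]
  intro x hx
  rw [Submodule.mem_bot]
  apply hinj
  intro n
  rcases le_total n₀ n with h | h
  · have hk : LinearMap.ker (c.app (op n₀)).hom = LinearMap.ker (c.app (op n)).hom :=
      congrArg OrderDual.ofDual (hn₀ n h)
    rw [hk] at hx
    exact hx
  · rw [← T_c X H c h x, LinearMap.mem_ker.mp hx, map_zero]

theorem isEssConstant_of_artinian (hX : ∀ n : ℕ, IsArtinian A (X.obj (op n))) [IsArtinian A H]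
    (hinj : ∀ x : H, (∀ n : ℕ, (c.app (op n)).hom x = 0) → x = 0)
    (hsurj : ∀ y : (∀ n : ℕ, X.obj (op n)), (∀ (n m : ℕ) (h : n ≤ m), T X h (y m) = y n) →
      ∃ x : H, ∀ n : ℕ, (c.app (op n)).hom x = y n) :
    DerCA.IsEssConstant X H c := by
  have h3 := surj_St X H c hX hsurj
  obtain ⟨n₀, hci⟩ := exists_injective X H c hinj
  obtain ⟨r, hr, hSt⟩ := exists_St_eq X hX n₀
  have hrange : ∀ z : X.obj (op r), T X hr z ∈ LinearMap.range (c.app (op n₀)).hom := fun z => by
    obtain ⟨x, hx⟩ := h3 n₀ (T X hr z) (by rw [hSt]; exact ⟨z, rfl⟩)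
    exact ⟨x, hx⟩
  obtain ⟨s, hs⟩ : ∃ s : X.obj (op r) →ₗ[A] H,
      ∀ z, (c.app (op n₀)).hom (s z) = T X hr z := by
    refine ⟨(LinearEquiv.ofInjective (c.app (op n₀)).hom hci).symm.toLinearMap ∘ₗ
      LinearMap.codRestrict (LinearMap.range (c.app (op n₀)).hom) (T X hr) hrange, fun z => ?_⟩
    have := (LinearEquiv.ofInjective (c.app (op n₀)).hom hci).apply_symm_apply
      (LinearMap.codRestrict (LinearMap.range (c.app (op n₀)).hom) (T X hr) hrange z)
    exact congrArg Subtype.val this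
  refine ⟨r, ModuleCat.ofHom s, ?_, ?_⟩
  · refine ModuleCat.hom_ext (LinearMap.ext fun x => ?_)
    show s ((c.app (op r)).hom x) = x
    apply hci
    rw [hs, T_c]
  · intro j
    obtain ⟨r', hr', hSt'⟩ := exists_St_eq X hX (max j n₀)
    have hJk : max j n₀ ≤ max r' r := hr'.trans (le_max_left _ _)
    refine ⟨max r' r, le_max_right _ _, (le_max_left j n₀).trans hJk, ?_⟩
    refine ModuleCat.hom_ext (LinearMap.ext fun y => ?_)
    show T X _ y = (c.app (op j)).hom (s (T X _ y))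
    obtain ⟨x', hx'⟩ := h3 (max j n₀) (T X hJk y) (by
      rw [hSt']; exact ⟨T X (le_max_left r' r) y, T_comp X hr' (le_max_left r' r) y⟩)
    have hxx : x' = s (T X (le_max_right r' r) y) := by
      apply hci
      rw [hs, T_comp, ← T_c X H c (le_max_right j n₀) x', hx', T_comp]
    rw [← hxx, ← T_c X H c (le_max_left j n₀) x', hx', T_comp]

theorem main [IsNoetherianRing A] [IsLocalRing A] (Msys : ℕᵒᵖ ⥤ ModuleCat.{u} A)
    (hfin : ∀ n : ℕᵒᵖ, Module.Finite A (Msys.obj n)) (M : Type u) [AddCommGroup M] [Module A M]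
    [Module.Finite A M] (i : ℕ)
    (Hc : (Functor.const ℕᵒᵖ).obj ((localCohomology (IsLocalRing.maximalIdeal A) i).obj
      (ModuleCat.of A M)) ⟶ Msys ⋙ localCohomology (IsLocalRing.maximalIdeal A) i)
    (hinj : ∀ x : (localCohomology (IsLocalRing.maximalIdeal A) i).obj (ModuleCat.of A M),
      (∀ n : ℕᵒᵖ, (Hc.app n) x = 0) → x = 0)
    (hsurj : ∀ y : (∀ n : ℕ, (localCohomology (IsLocalRing.maximalIdeal A) i).obj
        (Msys.obj (op n))),
      (∀ (n m : ℕ) (h : n ≤ m), ((localCohomology (IsLocalRing.maximalIdeal A) i).map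
        (Msys.map (homOfLE h).op)) (y m) = y n) →
      ∃ x : (localCohomology (IsLocalRing.maximalIdeal A) i).obj (ModuleCat.of A M),
        ∀ n : ℕ, (Hc.app (op n)) x = y n) :
    DerCA.IsEssConstant (Msys ⋙ localCohomology (IsLocalRing.maximalIdeal A) i)
      ((localCohomology (IsLocalRing.maximalIdeal A) i).obj (ModuleCat.of A M)) Hc := by
  haveI : IsArtinian A ((localCohomology (IsLocalRing.maximalIdeal A) i).obj (ModuleCat.of A M)) :=
    Groth.Agent.Lib.LocCohArtH7.main817 A i M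
  refine isEssConstant_of_artinian _ _ Hc (fun n => ?_)
    (fun x hx => hinj x (fun n => hx n.unop)) (fun y hy => hsurj y hy)
  haveI := hfin (op n)
  exact Groth.Agent.Lib.LocCohArtH7.main817 A i (Msys.obj (op n))

end Groth.Agent.Lib.EssConstArtH7
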