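import Mathlib
import Groth.Agent.Lib.FinEtLift_lead
import Groth.Agent.Lib.HensFinLift_lead
import Groth.Agent.Lib.HenselQF2_helper3
import Groth.Agent.Lib.CompleteFinite_helper3
import Groth.Prelude.Def_EssEt

/-!
# Essentially étale local algebras over a complete local ring come from a coefficient ring (helper3)

If `R → A` is a local homomorphism of henselian local rings inducing an isomorphism of residue
fields, then every finite étale local `A`-algebra is of the form `A ⊗[R] S` for a finite étale
local `R`-algebra `S`.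
-/

set_option autoImplicit false
set_option maxSynthPendingDepth 3
universe u

namespace Groth.Agent.Lib.EssEtCoeffH3

open IsLocalRing TensorProduct

/-- Two finite étale algebras over a henselian local ring with isomorphic closed fibres are
isomorphic. -/
theorem algEquiv_of_residue (A : Type u) [CommRing A] [HenselianLocalRing A] (T E : Type u)
    [CommRing T] [CommRing E] [Algebra A T] [Algebra A E] [Algebra.Etale A T] [Algebra.Etale A E]
    [Module.Finite A T] [Module.Finite A E]
    (σ : (ResidueField A ⊗[A] T) ≃ₐ[ResidueField A] (ResidueField A ⊗[A] E)) :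
    Nonempty (T ≃ₐ[A] E) := by
  obtain ⟨φ, hφ⟩ := (Groth.Agent.Lib.HensFinLift.tensor_residue_bijective A T E).2 σ.toAlgHom
  obtain ⟨ψ, hψ⟩ := (Groth.Agent.Lib.HensFinLift.tensor_residue_bijective A E T).2 σ.symm.toAlgHom
  simp only at hφ hψ
  have h1 : ψ.comp φ = AlgHom.id A T := by
    apply (Groth.Agent.Lib.HensFinLift.tensor_residue_bijective A T T).1
    show Algebra.TensorProduct.map (AlgHom.id _ _) (ψ.comp φ) =
      Algebra.TensorProduct.map (AlgHom.id _ _) (AlgHom.id A T)
    rw [Algebra.TensorProduct.map_id, Algebra.TensorProduct.map_id_comp, hφ, hψ]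
    ext x
    simp
  have h2 : φ.comp ψ = AlgHom.id A E := by
    apply (Groth.Agent.Lib.HensFinLift.tensor_residue_bijective A E E).1
    show Algebra.TensorProduct.map (AlgHom.id _ _) (φ.comp ψ) =
      Algebra.TensorProduct.map (AlgHom.id _ _) (AlgHom.id A E)
    rw [Algebra.TensorProduct.map_id, Algebra.TensorProduct.map_id_comp, hφ, hψ]
    ext x
    simp
  exact ⟨AlgEquiv.ofAlgHom φ ψ h2 h1⟩

/-- A ring mapping onto a local ring with kernel in the Jacobson radical is local. -/
theorem isLocalRing_of_surjective_of_ker_le_jacobson {S K : Type*} [CommRing S] [CommRing K]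
    [IsLocalRing K] (f : S →+* K) (hf : Function.Surjective f)
    (hker : RingHom.ker f ≤ Ideal.jacobson ⊥) : IsLocalRing S := by
  haveI : IsLocalHom f := by
    refine ⟨fun s hs => ?_⟩
    obtain ⟨u, hu⟩ := hs
    obtain ⟨t, ht⟩ := hf (↑u⁻¹ : K)
    have hmem : s * t - 1 ∈ Ideal.jacobson (⊥ : Ideal S) := by
      apply hker
      rw [RingHom.mem_ker, map_sub, map_mul, map_one, ht, ← hu, Units.mul_inv, sub_self]
    have := Ideal.isUnit_of_sub_one_mem_jacobson_bot _ hmem
    exact isUnit_of_mul_isUnit_left this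
  exact RingHom.domain_isLocalRing f

theorem mem_map_of_one_tmul_eq_zero {R : Type*} [CommRing R] [IsLocalRing R] {S : Type*}
    [CommRing S] [Algebra R S] (x : S) (h : (1 : ResidueField R) ⊗ₜ[R] x = 0) :
    x ∈ Ideal.map (algebraMap R S) (maximalIdeal R) := by
  have h1 : TensorProduct.quotTensorEquivQuotSMul S (maximalIdeal R)
      ((1 : R ⧸ maximalIdeal R) ⊗ₜ[R] x) = 0 := by
    have : ((1 : R ⧸ maximalIdeal R) ⊗ₜ[R] x) = 0 := h
    rw [this, map_zero]
  rw [TensorProduct.quotTensorEquivQuotSMul_mk_one_tmul, Submodule.Quotient.mk_eq_zero,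
    Ideal.smul_top_eq_map] at h1
  exact h1

set_option backward.isDefEq.respectTransparency false in
theorem exists_finite_etale_lift' (R : Type u) [CommRing R] [HenselianLocalRing R] (K : Type u)
    [CommRing K] [iK : Algebra (ResidueField R) K] [eK : Algebra.Etale (ResidueField R) K] :
    ∃ (S : Type u) (_ : CommRing S) (_ : Algebra R S), Module.Finite R S ∧ Algebra.Etale R S ∧
      Nonempty ((ResidueField R ⊗[R] S) ≃ₐ[ResidueField R] K) :=
  @Groth.Agent.Lib.FinEtLift.exists_finite_etale_lift R _ _ K _ iK eK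

theorem core (R A : Type u) [CommRing R] [CommRing A] [HenselianLocalRing R]
    [HenselianLocalRing A] [Algebra R A] [IsLocalHom (algebraMap R A)]
    (hres : Function.Bijective (algebraMap (ResidueField R) (ResidueField A)))
    (E : Type u) [CommRing E] [IsLocalRing E] [Algebra A E] [IsLocalHom (algebraMap A E)]
    [Module.Finite A E] [Algebra.Etale A E] :
    ∃ (S : Type u) (_ : CommRing S) (_ : IsLocalRing S) (_ : Algebra R S),
      Module.Finite R S ∧ Algebra.Etale R S ∧ Nonempty (E ≃ₐ[A] A ⊗[R] S) := by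
  let ekk : ResidueField R ≃ₐ[ResidueField R] ResidueField A :=
    AlgEquiv.ofBijective (Algebra.ofId (ResidueField R) (ResidueField A)) hres
  haveI etkA : Algebra.Etale (ResidueField R) (ResidueField A) := Algebra.Etale.of_equiv ekk
  haveI etκ : Algebra.Etale (ResidueField R) (ResidueField A ⊗[A] E) :=
    Algebra.Etale.comp (ResidueField R) (ResidueField A) (ResidueField A ⊗[A] E)
  obtain ⟨S, _, _, hfin, het, ⟨e₀'⟩⟩ := exists_finite_etale_lift' R (ResidueField A ⊗[A] E)
  haveI := hfin
  haveI := het
  let e₀ : (ResidueField R ⊗[R] S) ≃ₐ[ResidueField R] (ResidueField A ⊗[A] E) := e₀'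
  -- the map `S → κ`
  let g : S →ₐ[R] (ResidueField A ⊗[A] E) :=
    ((e₀ : (ResidueField R ⊗[R] S) →ₐ[ResidueField R] (ResidueField A ⊗[A] E)).restrictScalars
      R).comp Algebra.TensorProduct.includeRight
  have hg : ∀ s : S, g s = e₀ (1 ⊗ₜ s) := fun s => rfl
  let τ : (ResidueField A ⊗[R] S) →ₐ[ResidueField A] (ResidueField A ⊗[A] E) :=
    Algebra.TensorProduct.lift (Algebra.ofId (ResidueField A) (ResidueField A ⊗[A] E)) g
      (fun _ _ => Commute.all _ _)
  let θ : (ResidueField A ⊗[R] S) ≃ₐ[ResidueField R] (ResidueField R ⊗[R] S) :=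
    Algebra.TensorProduct.congr ekk.symm (AlgEquiv.refl : S ≃ₐ[R] S)
  have hτθ : ∀ x, τ x = e₀ (θ x) := by
    intro x
    induction x using TensorProduct.induction_on with
    | zero => simp
    | add x y hx hy => rw [map_add, map_add, map_add, hx, hy]
    | tmul a s =>
      rw [Algebra.TensorProduct.lift_tmul, hg]
      have h1 : θ (a ⊗ₜ[R] s) = (ekk.symm a) ⊗ₜ[R] s := by
        simp [θ]
      have h2 : (ekk.symm a) ⊗ₜ[R] s = (ekk.symm a) • ((1 : ResidueField R) ⊗ₜ[R] s) := by
        rw [TensorProduct.smul_tmul', smul_eq_mul, mul_one]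
      rw [h1, h2, map_smul, Algebra.smul_def,
        IsScalarTower.algebraMap_apply (ResidueField R) (ResidueField A) (ResidueField A ⊗[A] E)]
      have h3 : algebraMap (ResidueField R) (ResidueField A) (ekk.symm a) = a :=
        ekk.apply_symm_apply a
      rw [h3]
      rfl
  have hτ : Function.Bijective τ := by
    have : (τ : (ResidueField A ⊗[R] S) → (ResidueField A ⊗[A] E)) = e₀ ∘ θ := funext hτθ
    rw [this]
    exact e₀.bijective.comp θ.bijective
  let σ : (ResidueField A ⊗[A] (A ⊗[R] S)) ≃ₐ[ResidueField A] (ResidueField A ⊗[A] E) :=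
    (Algebra.TensorProduct.cancelBaseChange R A (ResidueField A) (ResidueField A) S).trans
      (AlgEquiv.ofBijective τ hτ)
  obtain ⟨eTE⟩ := algEquiv_of_residue A (A ⊗[R] S) E σ
  -- `κ` is local
  have hEκ : Function.Surjective
      (Algebra.TensorProduct.includeRight : E →ₐ[A] ResidueField A ⊗[A] E) :=
    Algebra.TensorProduct.includeRight_surjective _ residue_surjective
  haveI : Nontrivial (ResidueField A ⊗[A] E) := by
    let π : (ResidueField A ⊗[A] E) →ₐ[A] ResidueField E :=
      Algebra.TensorProduct.productMap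
        (IsScalarTower.toAlgHom A (ResidueField A) (ResidueField E))
        (IsScalarTower.toAlgHom A E (ResidueField E))
    exact RingHom.domain_nontrivial π.toRingHom
  haveI : IsLocalRing (ResidueField A ⊗[A] E) :=
    IsLocalRing.of_surjective'
      (Algebra.TensorProduct.includeRight : E →ₐ[A] ResidueField A ⊗[A] E).toRingHom hEκ
  -- `S` is local
  have hgsurj : Function.Surjective g.toRingHom := by
    intro y
    obtain ⟨x, rfl⟩ := e₀.surjective y
    obtain ⟨s, rfl⟩ := Algebra.TensorProduct.includeRight_surjective (R := R)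
      (S := ResidueField R) S residue_surjective x
    exact ⟨s, rfl⟩
  have hgker : RingHom.ker g.toRingHom ≤ Ideal.jacobson ⊥ := by
    intro s hs
    rw [RingHom.mem_ker] at hs
    have h1 : (1 : ResidueField R) ⊗ₜ[R] s = 0 := e₀.injective (by rw [map_zero]; exact hs)
    exact Groth.Agent.Lib.HensFinLift.map_maximalIdeal_le_jacobson (A := R)
      (mem_map_of_one_tmul_eq_zero s h1)
  haveI : IsLocalRing S := isLocalRing_of_surjective_of_ker_le_jacobson g.toRingHom hgsurj hgker
  exact ⟨S, _, inferInstance, _, hfin, het, ⟨eTE.symm⟩⟩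


/-- `S16444`: over a complete local ring `A` with a henselian local ring `R` of coefficients
(same residue field), every essentially étale local `A`-algebra is `A ⊗[R] S` with `S` finite étale
local over `R`. -/
theorem main (R A E : Type u) [CommRing R] [HenselianLocalRing R]
    [CommRing A] [IsLocalRing A] [IsAdicComplete (maximalIdeal A) A]
    [Algebra R A] [IsLocalHom (algebraMap R A)]
    (hres : Function.Bijective (ResidueField.map (algebraMap R A)))
    [CommRing E] [IsLocalRing E] [Algebra A E] [IsLocalHom (algebraMap A E)]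
    (hE : EGA4loc.IsEssentiallyEtale A E) :
    ∃ (S : Type u) (_ : CommRing S) (_ : IsLocalRing S) (_ : Algebra R S),
      Module.Finite R S ∧ Algebra.Etale R S ∧ Nonempty (E ≃ₐ[A] A ⊗[R] S) := by
  haveI : HenselianLocalRing A :=
    Groth.Agent.Lib.CompleteFiniteH3.henselianLocalRing_of_isAdicComplete A
  obtain ⟨C, _, _, q, hq, hC, hqm, ⟨e₁⟩⟩ := hE
  haveI := hq
  haveI := hC
  haveI : q.LiesOver (maximalIdeal A) := ⟨hqm.symm⟩
  haveI : Algebra.FiniteType A C := inferInstance
  obtain ⟨ε, hid, hε, hfin, huniq⟩ :=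
    Groth.Agent.Lib.HenselFiniteH3.exists_idem_finite_unique A C q
  haveI := Groth.Agent.Lib.HenselFiniteH3.isLocalization_quotient A C q ε hε hid hfin huniq
  let e₂ : (C ⧸ Ideal.span ({1 - ε} : Set C)) ≃ₐ[C] Localization.AtPrime q :=
    IsLocalization.algEquiv q.primeCompl _ _
  haveI : IsLocalization.Away ε (C ⧸ Ideal.span ({1 - ε} : Set C)) :=
    IsLocalization.away_of_isIdempotentElem hid (by
      rw [Ideal.Quotient.algebraMap_eq, Ideal.mk_ker]) Ideal.Quotient.mk_surjective
  haveI : Algebra.Etale C (C ⧸ Ideal.span ({1 - ε} : Set C)) :=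
    Algebra.Etale.of_isLocalizationAway ε
  haveI : Algebra.Etale A (C ⧸ Ideal.span ({1 - ε} : Set C)) := Algebra.Etale.comp A C _
  let e₃ : (C ⧸ Ideal.span ({1 - ε} : Set C)) ≃ₐ[A] E := (e₂.restrictScalars A).trans e₁.symm
  haveI : Module.Finite A E := Module.Finite.equiv e₃.toLinearEquiv
  haveI : Algebra.Etale A E := Algebra.Etale.of_equiv e₃
  have hres' : Function.Bijective (algebraMap (ResidueField R) (ResidueField A)) := hres
  exact core R A hres' E

end Groth.Agent.Lib.EssEtCoeffH3
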