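import Mathlib
import Groth.Prelude.Def_EssFT

set_option autoImplicit false
universe u
open CategoryTheory CategoryTheory.Limits AlgebraicGeometry TopologicalSpace

namespace Groth.Agent.Lib.EssFT_helper6

/-- the "every affine open" form over a fixed affine open `U`. -/
def AffForm {X Y : Scheme.{u}} (f : X ⟶ Y) (U : Y.affineOpens) : Prop :=
  ∃ T : Set X.affineOpens, (⋃ V ∈ T, ((V : X.Opens) : Set ↥X)) = ((f ⁻¹ᵁ (U : Y.Opens)) : Set ↥X) ∧
    ∀ V ∈ T, ∃ e : (V : X.Opens) ≤ f ⁻¹ᵁ (U : Y.Opens),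
      (f.appLE (U : Y.Opens) (V : X.Opens) e).hom.EssFiniteType

theorem affForm_of_locallyEssFiniteType {X Y : Scheme.{u}} (f : X ⟶ Y)
    (hf : EssFT.LocallyEssFiniteType f) (U : Y.affineOpens) : AffForm f U := by
  have H := (HasRingHomProperty.iff_appLE (P := @EssFT.LocallyEssFiniteType)).mp hf
  refine ⟨{W : X.affineOpens | ∃ e : W.1 ≤ f ⁻¹ᵁ U.1, (f.appLE U.1 W.1 e).hom.EssFiniteType},
    ?_, fun V hV => hV⟩
  apply Set.Subset.antisymm
  · intro x hx
    simp only [Set.mem_iUnion] at hx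
    obtain ⟨W, ⟨e, _⟩, hxW⟩ := hx
    exact e hxW
  · intro x hx
    obtain ⟨_, ⟨V, hV, rfl⟩, hxV, hVU⟩ :=
      X.isBasis_affineOpens.exists_subset_of_mem_open hx (f ⁻¹ᵁ U.1).2
    obtain ⟨s, hs, hP⟩ := H U ⟨V, hV⟩ hVU
    have hcov := iSup_basicOpen_of_span_eq_top V s hs
    have hxV' : x ∈ (⨆ i ∈ s, X.basicOpen i : X.Opens) := by rw [hcov]; exact hxV
    simp only [Opens.mem_iSup] at hxV'
    obtain ⟨t, ht, hxt⟩ := hxV'
    have hle : X.basicOpen t ≤ f ⁻¹ᵁ U.1 := (X.basicOpen_le t).trans hVU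
    simp only [Set.mem_iUnion]
    refine ⟨⟨X.basicOpen t, hV.basicOpen t⟩, ⟨hle, ?_⟩, hxt⟩
    have hloc := hV.isLocalization_basicOpen t
    have h1 := hP t ht
    let e' : Localization.Away t ≃ₐ[Γ(X, V)] Γ(X, X.basicOpen t) :=
      IsLocalization.algEquiv (Submonoid.powers t) _ _
    have h2 := RingHom.EssFiniteType.respectsIso.1 _ e'.toRingEquiv h1
    convert h2 using 1
    rw [← Scheme.Hom.appLE_map f hVU (homOfLE (X.basicOpen_le t)).op]
    ext a
    simp only [CommRingCat.hom_comp, RingHom.coe_comp, Function.comp_apply]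
    exact (e'.commutes _).symm

theorem locallyEssFiniteType_of_cover {X Y : Scheme.{u}} (f : X ⟶ Y)
    (h : ∃ S : Set Y.affineOpens, (⋃ U ∈ S, ((U : Y.Opens) : Set ↥Y)) = Set.univ ∧
      ∀ U ∈ S, AffForm f U) : EssFT.LocallyEssFiniteType f := by
  obtain ⟨S, hS, hT⟩ := h
  refine ⟨fun x => ?_⟩
  have hx : f x ∈ (⋃ U ∈ S, ((U : Y.Opens) : Set ↥Y)) := by rw [hS]; trivial
  simp only [Set.mem_iUnion] at hx
  obtain ⟨U, hU, hxU⟩ := hx
  obtain ⟨T, hTc, hTe⟩ := hT U hU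
  have hx' : x ∈ (⋃ V ∈ T, ((V : X.Opens) : Set ↥X)) := by rw [hTc]; exact hxU
  simp only [Set.mem_iUnion] at hx'
  obtain ⟨V, hV, hxV⟩ := hx'
  obtain ⟨e, he⟩ := hTe V hV
  exact ⟨U, V, hxV, e, he⟩

theorem iUnion_affineOpens_univ (Y : Scheme.{u}) :
    (⋃ U ∈ (Set.univ : Set Y.affineOpens), ((U : Y.Opens) : Set ↥Y)) = Set.univ := by
  apply Set.eq_univ_of_forall
  intro y
  obtain ⟨_, ⟨U, hU, rfl⟩, hyU, -⟩ :=
    Y.isBasis_affineOpens.exists_subset_of_mem_open (Set.mem_univ y) isOpen_univ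
  simp only [Set.mem_iUnion]
  exact ⟨⟨U, hU⟩, Set.mem_univ _, hyU⟩

theorem cover_iff_forall {X Y : Scheme.{u}} (f : X ⟶ Y) :
    (∃ S : Set Y.affineOpens, (⋃ U ∈ S, ((U : Y.Opens) : Set ↥Y)) = Set.univ ∧
      ∀ U ∈ S, AffForm f U) ↔ ∀ U : Y.affineOpens, AffForm f U := by
  constructor
  · intro h U
    exact affForm_of_locallyEssFiniteType f (locallyEssFiniteType_of_cover f h) U
  · intro h
    exact ⟨Set.univ, iUnion_affineOpens_univ Y, fun U _ => h U⟩

theorem cover_qc_iff_forall_finite {X Y : Scheme.{u}} (f : X ⟶ Y) :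
    ((∃ S : Set Y.affineOpens, (⋃ U ∈ S, ((U : Y.Opens) : Set ↥Y)) = Set.univ ∧
      ∀ U ∈ S, AffForm f U) ∧ QuasiCompact f) ↔
    ∀ U : Y.affineOpens, ∃ T : Set X.affineOpens, T.Finite ∧
      (⋃ V ∈ T, ((V : X.Opens) : Set ↥X)) = ((f ⁻¹ᵁ (U : Y.Opens)) : Set ↥X) ∧
        ∀ V ∈ T, ∃ e : (V : X.Opens) ≤ f ⁻¹ᵁ (U : Y.Opens),
          (f.appLE (U : Y.Opens) (V : X.Opens) e).hom.EssFiniteType := by
  constructor
  · rintro ⟨h, hqc⟩ U
    obtain ⟨T, hTc, hTe⟩ := (cover_iff_forall f).mp h U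
    have hcomp : IsCompact ((f ⁻¹ᵁ (U : Y.Opens)) : Set ↥X) :=
      quasiCompact_iff_forall_isAffineOpen.mp hqc U.1 U.2
    obtain ⟨T', hT'T, hT'fin, hT'cov⟩ := hcomp.elim_finite_subcover_image
      (b := T) (c := fun V => ((V : X.Opens) : Set ↥X)) (fun V _ => V.1.2) hTc.ge
    refine ⟨T', hT'fin, Set.Subset.antisymm ?_ hT'cov, fun V hV => hTe V (hT'T hV)⟩
    rw [← hTc]
    exact Set.biUnion_subset_biUnion_left hT'T
  · intro h
    refine ⟨(cover_iff_forall f).mpr (fun U => ?_), ?_⟩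
    · obtain ⟨T, _, hTc, hTe⟩ := h U
      exact ⟨T, hTc, hTe⟩
    · rw [quasiCompact_iff_forall_isAffineOpen]
      intro U hU
      obtain ⟨T, hTfin, hTc, hTe⟩ := h ⟨U, hU⟩
      have : IsCompact (⋃ V ∈ T, ((V : X.Opens) : Set ↥X)) :=
        hTfin.isCompact_biUnion (fun V _ => V.2.isCompact)
      rw [hTc] at this
      exact this

theorem isStableUnderBaseChange :
    MorphismProperty.IsStableUnderBaseChange (@EssFT.LocallyEssFiniteType : MorphismProperty Scheme.{u}) :=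
  HasRingHomProperty.isStableUnderBaseChange
    (RingHom.locally_isStableUnderBaseChange RingHom.EssFiniteType.respectsIso
      RingHom.EssFiniteType.isStableUnderBaseChange)

theorem affForm_pullback_snd {X Y Y' : Scheme.{u}} (f : X ⟶ Y) (g : Y' ⟶ Y)
    (hf : ∀ U : Y.affineOpens, AffForm f U) (U : Y'.affineOpens) :
    AffForm (pullback.snd f g) U := by
  have h1 : EssFT.LocallyEssFiniteType f :=
    locallyEssFiniteType_of_cover f ((cover_iff_forall f).mpr hf)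
  haveI : MorphismProperty.IsStableUnderBaseChange
      (@EssFT.LocallyEssFiniteType : MorphismProperty Scheme.{u}) := isStableUnderBaseChange
  have h2 : EssFT.LocallyEssFiniteType (pullback.snd f g) :=
    MorphismProperty.pullback_snd (P := @EssFT.LocallyEssFiniteType) f g h1
  exact affForm_of_locallyEssFiniteType _ h2 U

end Groth.Agent.Lib.EssFT_helper6
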