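import Mathlib

/-!
# An essentially finite type local domain over a field is a localization of a finite type
algebra over a bigger field at a maximal ideal
-/

set_option autoImplicit false
universe u

namespace Groth.Agent.Lib.EssFinLocalH3

open IsLocalRing

theorem main (k : Type u) [Field k] (S : Type u) [CommRing S] [IsDomain S] [IsLocalRing S]
    [Algebra k S] [Algebra.EssFiniteType k S] :
    ∃ (K : Type u) (_ : Field K) (_ : Algebra k K) (A : Type u) (_ : CommRing A)
      (_ : Algebra K A) (_ : Algebra k A) (_ : IsScalarTower k K A)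
      (_ : Algebra.FiniteType K A) (m : Ideal A) (_ : m.IsMaximal),
      Nonempty (S ≃ₐ[k] Localization.AtPrime m) := by
  classical
  set κ := ResidueField S with hκ
  obtain ⟨u, hu⟩ := exists_isTranscendenceBasis k κ
  -- lifts of the transcendence basis
  have hlift : ∀ i : u, ∃ y : S, IsLocalRing.residue S y = (i : κ) :=
    fun i => IsLocalRing.residue_surjective _
  choose x hx using hlift
  set P := MvPolynomial u k with hP
  set K := FractionRing P with hK
  set φ : P →ₐ[k] S := MvPolynomial.aeval x with hφ
  have hres : ∀ p : P, IsLocalRing.residue S (φ p) = MvPolynomial.aeval (Subtype.val : u → κ) p := by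
    intro p
    have h1 := MvPolynomial.comp_aeval_apply (f := x) (IsScalarTower.toAlgHom k S κ) p
    rw [IsScalarTower.coe_toAlgHom'] at h1
    rw [hφ]
    change algebraMap S κ _ = _
    rw [h1]
    have h2 : (fun i => algebraMap S κ (x i)) = (Subtype.val : u → κ) := by
      funext i
      exact hx i
    rw [h2]
  have hunit : ∀ p : nonZeroDivisors P, IsUnit (φ.toRingHom (p : P)) := by
    intro p
    have hp0 : (p : P) ≠ 0 := nonZeroDivisors.coe_ne_zero p
    rw [← IsLocalRing.notMem_maximalIdeal, ← IsLocalRing.residue_eq_zero_iff]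
    change ¬ IsLocalRing.residue S (φ (p : P)) = 0
    rw [hres]
    intro h0
    apply hp0
    apply hu.1
    rw [h0, map_zero]
  set ψ : K →+* S := IsLocalization.lift (M := nonZeroDivisors P) (g := φ.toRingHom) hunit with hψ
  letI algKS : Algebra K S := ψ.toAlgebra
  have hψP : ∀ p : P, algebraMap K S (algebraMap P K p) = φ p := by
    intro p
    change ψ _ = _
    rw [hψ, IsLocalization.lift_eq]
    rfl
  haveI towerkKS : IsScalarTower k K S := IsScalarTower.of_algebraMap_eq fun c => by
    rw [IsScalarTower.algebraMap_apply k P K, hψP, AlgHom.commutes]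
  letI algKκ : Algebra K κ := ((IsLocalRing.residue S).comp (algebraMap K S)).toAlgebra
  haveI towerKSκ : IsScalarTower K S κ := IsScalarTower.of_algebraMap_eq fun _ => rfl
  haveI towerkKκ : IsScalarTower k K κ := IsScalarTower.of_algebraMap_eq fun c => by
    rw [IsScalarTower.algebraMap_apply K S κ, ← IsScalarTower.algebraMap_apply k K S,
      IsScalarTower.algebraMap_apply k S κ]
  haveI algκ : Algebra.IsAlgebraic K κ := by
    rw [hu.isAlgebraic_iff (S := K)]
    intro i
    have h1 : (i : κ) = algebraMap K κ (algebraMap P K (MvPolynomial.X i)) := by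
      rw [IsScalarTower.algebraMap_apply K S κ, hψP, hφ, MvPolynomial.aeval_X]
      exact (hx i).symm
    rw [h1]
    exact isAlgebraic_algebraMap _
  -- the finite type subalgebra
  set σ := Algebra.EssFiniteType.finset k S with hσ
  have hcond : ∀ s : S, ∃ t ∈ Algebra.adjoin k (σ : Set S),
      IsUnit t ∧ s * t ∈ Algebra.adjoin k (σ : Set S) :=
    (Algebra.essFiniteType_cond_iff k S σ).mp (Algebra.EssFiniteType.cond (R := k) (S := S)).choose_spec
  set A : Subalgebra K S := Algebra.adjoin K (σ : Set S) with hA
  have hBA : Algebra.adjoin k (σ : Set S) ≤ A.restrictScalars k :=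
    Algebra.adjoin_le (fun y hy => Algebra.subset_adjoin hy)
  letI algkA : Algebra k A := ((algebraMap K A).comp (algebraMap k K)).toAlgebra
  haveI towerkKA : IsScalarTower k K A := IsScalarTower.of_algebraMap_eq fun _ => rfl
  haveI towerkAS : IsScalarTower k A S := IsScalarTower.of_algebraMap_eq fun c => by
    rw [IsScalarTower.algebraMap_apply k K S]
    rfl
  haveI ftA : Algebra.FiniteType K A :=
    (Subalgebra.fg_iff_finiteType A).mp (Subalgebra.fg_adjoin_finset σ)
  set ρ : A →ₐ[K] κ := (IsScalarTower.toAlgHom K S κ).comp A.val with hρ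
  set m : Ideal A := RingHom.ker ρ with hm
  have hmem : ∀ a : A, a ∈ m ↔ (a : S) ∈ maximalIdeal S := by
    intro a
    rw [hm, RingHom.mem_ker, ← IsLocalRing.residue_eq_zero_iff]
    rfl
  haveI hmprime : m.IsPrime := RingHom.ker_isPrime ρ
  haveI : Algebra.IsAlgebraic K (A ⧸ m) :=
    Algebra.IsAlgebraic.of_injective (Ideal.kerLiftAlg ρ) (Ideal.kerLiftAlg_injective ρ)
  haveI hmmax : m.IsMaximal := by
    apply Ideal.Quotient.maximal_of_isField
    exact isField_of_isIntegral_of_isField' (R := K) (S := A ⧸ m) (Field.toIsField K)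
  haveI : IsLocalization.AtPrime S m := by
    refine ⟨?_, ?_, ?_⟩
    · rintro ⟨y, hy⟩
      have hy' : (y : S) ∉ maximalIdeal S := fun h => hy ((hmem y).mpr h)
      exact (IsLocalRing.notMem_maximalIdeal.mp hy')
    · intro z
      obtain ⟨t, ht, htu, hzt⟩ := hcond z
      have htm : (⟨t, hBA ht⟩ : A) ∈ m.primeCompl := by
        intro h
        have h' : (⟨t, hBA ht⟩ : A) ∈ m := h
        rw [hmem] at h'
        exact (IsLocalRing.notMem_maximalIdeal.mpr htu) h'
      exact ⟨(⟨z * t, hBA hzt⟩, ⟨⟨t, hBA ht⟩, htm⟩), rfl⟩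
    · intro a a' h
      exact ⟨1, by rw [Subtype.ext h]⟩
  refine ⟨K, inferInstance, inferInstance, A, inferInstance, inferInstance, algkA, towerkKA, ftA,
    m, hmmax, ?_⟩
  let e₁ : Localization.AtPrime m ≃ₐ[A] S :=
    IsLocalization.algEquiv m.primeCompl (Localization.AtPrime m) S
  exact ⟨(e₁.restrictScalars k).symm⟩

end Groth.Agent.Lib.EssFinLocalH3
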