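import Mathlib
import Groth.Prelude

/-!
# Coefficient ideals in free algebras; idempotent finitely generated ideals (helper4)
-/

set_option backward.isDefEq.respectTransparency.types false
set_option autoImplicit false
set_option linter.unusedVariables false
set_option linter.unusedTactic false
set_option linter.unreachableTactic false
set_option linter.unusedSectionVars false
set_option linter.style.haveILetI false
set_option linter.deprecated false
set_option linter.unusedSimpArgs false
set_option linter.style.longLine false
set_option maxHeartbeats 1600000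

universe u

open TensorProduct

namespace Groth.Agent.Lib.KerTrivH4

/-- For a free `R`-algebra `B` and a finitely generated ideal `J` of `B` there is a finitely
generated ideal `I` of `R` (generated by the coefficients of generators of `J`) such that `J` dies
in `B ⊗ C` exactly when `I` dies in `C`. -/
theorem coeff_ideal (R : Type u) [CommRing R] (B : Type u) [CommRing B] [Algebra R B]
    [Module.Free R B] (J : Ideal B) (hJ : J.FG) :
    ∃ I : Ideal R, I.FG ∧ ∀ (C : Type u) [CommRing C] [Algebra R C],
      (J ≤ RingHom.ker (Algebra.TensorProduct.includeLeftRingHom : B →+* B ⊗[R] C)) ↔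
        I ≤ RingHom.ker (algebraMap R C) := by
  classical
  obtain ⟨s, hs⟩ := hJ
  obtain ⟨b, -⟩ : ∃ b : Module.Basis (Module.Free.ChooseBasisIndex R B) R B, b = b :=
    ⟨Module.Free.chooseBasis R B, rfl⟩
  obtain ⟨cs, hcs⟩ : ∃ cs : Finset R, ∀ r, r ∈ cs ↔
      ∃ j ∈ s, ∃ i ∈ (b.repr j).support, b.repr j i = r := by
    refine ⟨s.biUnion (fun j => (b.repr j).support.image (fun i => b.repr j i)), ?_⟩
    intro r
    simp only [Finset.mem_biUnion, Finset.mem_image]
  refine ⟨Ideal.span (cs : Set R), ⟨cs, rfl⟩, ?_⟩
  intro C _ _
  constructor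
  · intro hle
    rw [Ideal.span_le]
    intro r hr
    obtain ⟨j, hj, i, hi, rfl⟩ := (hcs r).mp (Finset.mem_coe.mp hr)
    have hjJ : j ∈ J := by
      rw [← hs]
      exact Submodule.subset_span (Finset.mem_coe.mpr hj)
    have h0 : (j ⊗ₜ[R] (1 : C) : B ⊗[R] C) = 0 := by
      have h00 := RingHom.mem_ker.mp (hle hjJ)
      rwa [Algebra.TensorProduct.includeLeftRingHom_apply] at h00
    have h1 := congrArg
      (fun t => TensorProduct.lid R C (LinearMap.rTensor C (b.coord i) t)) h0
    simp only [LinearMap.rTensor_tmul, TensorProduct.lid_tmul, map_zero,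
      Module.Basis.coord_apply] at h1
    rw [SetLike.mem_coe, RingHom.mem_ker, Algebra.algebraMap_eq_smul_one]
    exact h1
  · intro hI
    rw [← hs]
    apply Submodule.span_le.mpr
    intro x hx
    have hxs : x ∈ s := Finset.mem_coe.mp hx
    rw [SetLike.mem_coe, RingHom.mem_ker, Algebra.TensorProduct.includeLeftRingHom_apply]
    have hx' : (b.repr x).sum (fun i c => c • b i) = x := by
      rw [← Finsupp.linearCombination_apply, b.linearCombination_repr]
    calc (x ⊗ₜ[R] (1 : C) : B ⊗[R] C)
        = ((b.repr x).sum (fun i c => c • b i)) ⊗ₜ[R] (1 : C) := by rw [hx']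
      _ = 0 := by
        rw [Finsupp.sum, TensorProduct.sum_tmul]
        apply Finset.sum_eq_zero
        intro i hi
        have hmem : b.repr x i ∈ cs := (hcs _).mpr ⟨x, hxs, i, hi, rfl⟩
        have hz : algebraMap R C (b.repr x i) = 0 :=
          RingHom.mem_ker.mp (hI (Ideal.subset_span (Finset.mem_coe.mpr hmem)))
        rw [TensorProduct.smul_tmul, ← Algebra.algebraMap_eq_smul_one, hz,
          TensorProduct.tmul_zero]

/-- A finitely generated ideal with `I ≤ I * I` is generated by an idempotent. -/
theorem idem_of_fg_sq (R : Type u) [CommRing R] (I : Ideal R) (hfg : I.FG) (hsq : I ≤ I * I) :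
    ∃ e : R, IsIdempotentElem e ∧ I = Ideal.span {e} := by
  have h1 : IsIdempotentElem I := le_antisymm Ideal.mul_le_right hsq
  obtain ⟨e, he, hI⟩ := (Ideal.isIdempotentElem_iff_of_fg I hfg).mp h1
  exact ⟨e, he, hI⟩

/-- An idempotent lying in every prime ideal is zero. -/
theorem idem_eq_zero {C : Type u} [CommRing C] (x : C) (hx : IsIdempotentElem x)
    (h : ∀ q : Ideal C, q.IsPrime → x ∈ q) : x = 0 := by
  obtain ⟨n, hn⟩ := nilpotent_iff_mem_prime.mpr h
  have h1 : x ^ (n + 1) = x := IsIdempotentElem.pow_succ_eq n hx
  rw [← h1, pow_succ, hn, zero_mul]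

/-- A surjection which is of finite presentation has finitely generated kernel. -/
theorem fg_of_fp_quot {B : Type u} [CommRing B] (J : Ideal B)
    (h : (Ideal.Quotient.mk J).FinitePresentation) : J.FG := by
  have h' : Algebra.FinitePresentation B (B ⧸ J) := by
    have h0 : (algebraMap B (B ⧸ J)).FinitePresentation := h
    exact RingHom.finitePresentation_algebraMap.mp h0
  have h2 := Algebra.FinitePresentation.ker_fG_of_surjective (Ideal.Quotient.mkₐ B J)
    (Ideal.Quotient.mkₐ_surjective B J)
  have e : RingHom.ker (Ideal.Quotient.mkₐ B J).toRingHom = J := by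
    ext x
    rw [RingHom.mem_ker]
    exact Ideal.Quotient.eq_zero_iff_mem
  rwa [e] at h2

end Groth.Agent.Lib.KerTrivH4
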