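import Mathlib

/-! fppf-local lifting and descent of factorizations through monomorphisms, in `Over S`. -/

set_option autoImplicit false
universe u
open CategoryTheory CategoryTheory.Limits AlgebraicGeometry

namespace GrpSchFppfH7

variable {S : Scheme.{u}}

/-- An fppf morphism (in `Over S`) is an epimorphism. -/
theorem epi_of_fppf {T' T : Over S} (c : T' ⟶ T) [Flat c.left] [Surjective c.left]
    [LocallyOfFinitePresentation c.left] : Epi c := by
  haveI : EffectiveEpi c.left := inferInstance
  haveI : Epi c.left := inferInstance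
  exact (Over.forget S).epi_of_epi_map (by exact ‹Epi c.left›)

/-- A morphism that factors through a monomorphism fppf-locally factors through it. -/
theorem factor_of_cover {T' T H G : Over S} (c : T' ⟶ T) [Flat c.left] [Surjective c.left]
    [LocallyOfFinitePresentation c.left] (iH : H ⟶ G) [Mono iH] (g : T ⟶ G) (h' : T' ⟶ H)
    (hh : h' ≫ iH = c ≫ g) : ∃ h : T ⟶ H, h ≫ iH = g := by
  haveI : EffectiveEpi c.left := inferInstance
  haveI : Epi c.left := inferInstance
  haveI : Mono iH.left := CategoryTheory.Over.mono_left_of_mono iH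
  haveI : Epi c := epi_of_fppf c
  have hh' : h'.left ≫ iH.left = c.left ≫ g.left := congrArg (fun f => f.left) hh
  have hcoeq : ∀ {Z : Scheme.{u}} (g₁ g₂ : Z ⟶ T'.left), g₁ ≫ c.left = g₂ ≫ c.left →
      g₁ ≫ h'.left = g₂ ≫ h'.left := by
    intro Z g₁ g₂ e
    rw [← cancel_mono iH.left, Category.assoc, Category.assoc, hh', ← Category.assoc, e,
      Category.assoc]
  let ψ : T.left ⟶ H.left := EffectiveEpi.desc c.left h'.left hcoeq
  have hψ : c.left ≫ ψ = h'.left := EffectiveEpi.fac c.left h'.left hcoeq
  have hψw : ψ ≫ H.hom = T.hom := by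
    rw [← cancel_epi c.left, ← Category.assoc, hψ, Over.w h', Over.w c]
  refine ⟨Over.homMk ψ hψw, ?_⟩
  rw [← cancel_epi c, ← hh]
  ext
  show c.left ≫ ψ ≫ iH.left = h'.left ≫ iH.left
  rw [← Category.assoc, hψ]

/-- Points lift fppf-locally along an fppf morphism. -/
theorem exists_local_lift {H Hb T : Over S} (p : H ⟶ Hb) [Flat p.left] [Surjective p.left]
    [LocallyOfFinitePresentation p.left] (b : T ⟶ Hb) :
    ∃ (T' : Over S) (c : T' ⟶ T) (h : T' ⟶ H), Flat c.left ∧ Surjective c.left ∧
      LocallyOfFinitePresentation c.left ∧ h ≫ p = c ≫ b := by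
  have hpb := (IsPullback.of_hasPullback b p).map (Over.forget S)
  refine ⟨pullback b p, pullback.fst b p, pullback.snd b p, ?_, ?_, ?_, pullback.condition.symm⟩
  · exact MorphismProperty.of_isPullback (P := @Flat) hpb.flip ‹Flat p.left›
  · exact MorphismProperty.of_isPullback (P := @Surjective) hpb.flip ‹Surjective p.left›
  · exact MorphismProperty.of_isPullback (P := @LocallyOfFinitePresentation) hpb.flip
      ‹LocallyOfFinitePresentation p.left›

/-- A flat surjective morphism between schemes locally of finite type over a locally noetherian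
base is locally of finite presentation. -/
theorem lfp_of_lft [IsLocallyNoetherian S] {A B : Over S} [LocallyOfFiniteType B.hom]
    (hA : LocallyOfFiniteType A.hom) (q : A ⟶ B) : LocallyOfFinitePresentation q.left := by
  haveI : IsLocallyNoetherian B.left := LocallyOfFiniteType.isLocallyNoetherian B.hom
  haveI h1 : LocallyOfFiniteType (q.left ≫ B.hom) := by rw [Over.w q]; exact hA
  haveI : LocallyOfFiniteType q.left := locallyOfFiniteType_of_comp q.left B.hom
  infer_instance

end GrpSchFppfH7
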