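import Mathlib
import Groth.Agent.Lib.GrpSchFppf_helper7

/-! Descent of morphisms along fppf covers in `Over S`, and fppf-ness of tensor products of covers. -/

set_option autoImplicit false
universe u
open CategoryTheory CategoryTheory.Limits AlgebraicGeometry MonoidalCategory CartesianMonoidalCategory

namespace GrpSchFppfH7

variable {S : Scheme.{u}}

/-- A morphism out of the source of an fppf cover which coequalizes all pairs of `T`-points with
the same image descends along the cover. -/
theorem desc_of_fppf {A B X : Over S} (c : A ⟶ B) [Flat c.left] [Surjective c.left]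
    [LocallyOfFinitePresentation c.left] (f : A ⟶ X)
    (hf : ∀ (T : Over S) (a₁ a₂ : T ⟶ A), a₁ ≫ c = a₂ ≫ c → a₁ ≫ f = a₂ ≫ f) :
    ∃ f' : B ⟶ X, c ≫ f' = f := by
  haveI : EffectiveEpi c.left := inferInstance
  haveI : Epi c.left := inferInstance
  have hcoeq : ∀ {Z : Scheme.{u}} (g₁ g₂ : Z ⟶ A.left), g₁ ≫ c.left = g₂ ≫ c.left →
      g₁ ≫ f.left = g₂ ≫ f.left := by
    intro Z g₁ g₂ h
    have hA : g₁ ≫ A.hom = g₂ ≫ A.hom := by
      rw [← Over.w c, ← Category.assoc, h, Category.assoc]
    let T : Over S := Over.mk (g₁ ≫ A.hom)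
    let t₁ : T ⟶ A := Over.homMk g₁ rfl
    let t₂ : T ⟶ A := Over.homMk g₂ hA.symm
    have ht : t₁ ≫ c = t₂ ≫ c := by ext; exact h
    exact congrArg (fun k => k.left) (hf T t₁ t₂ ht)
  let ψ : B.left ⟶ X.left := EffectiveEpi.desc c.left f.left hcoeq
  have hψ : c.left ≫ ψ = f.left := EffectiveEpi.fac c.left f.left hcoeq
  have hψw : ψ ≫ X.hom = B.hom := by
    rw [← cancel_epi c.left, ← Category.assoc, hψ, Over.w f, Over.w c]
  refine ⟨Over.homMk ψ hψw, ?_⟩
  ext
  exact hψ

/-- The tensor product (fibre product over `S`) of two fppf morphisms is fppf. -/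
theorem fppf_tensorHom {A B A' B' : Over S} (c : A ⟶ B) (c' : A' ⟶ B')
    [Flat c.left] [Surjective c.left] [LocallyOfFinitePresentation c.left]
    [Flat c'.left] [Surjective c'.left] [LocallyOfFinitePresentation c'.left] :
    Flat (c ⊗ₘ c').left ∧ Surjective (c ⊗ₘ c').left ∧
      LocallyOfFinitePresentation (c ⊗ₘ c').left := by
  have e₁ : A.hom = c.left ≫ B.hom := (Over.w c).symm
  have e₂ : A'.hom = c'.left ≫ B'.hom := (Over.w c').symm
  refine ⟨?_, ?_, ?_⟩
  · exact MorphismProperty.pullbackMap (P := @Flat) (f := A.hom) (g := A'.hom) (f' := B.hom)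
      (g' := B'.hom) ‹Flat c.left› ‹Flat c'.left› e₁ e₂
  · exact MorphismProperty.pullbackMap (P := @Surjective) (f := A.hom) (g := A'.hom) (f' := B.hom)
      (g' := B'.hom) ‹Surjective c.left› ‹Surjective c'.left› e₁ e₂
  · exact MorphismProperty.pullbackMap (P := @LocallyOfFinitePresentation) (f := A.hom)
      (g := A'.hom) (f' := B.hom) (g' := B'.hom) ‹LocallyOfFinitePresentation c.left›
      ‹LocallyOfFinitePresentation c'.left› e₁ e₂

theorem epi_tensorHom {A B A' B' : Over S} (c : A ⟶ B) (c' : A' ⟶ B')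
    [Flat c.left] [Surjective c.left] [LocallyOfFinitePresentation c.left]
    [Flat c'.left] [Surjective c'.left] [LocallyOfFinitePresentation c'.left] :
    Epi (c ⊗ₘ c') := by
  obtain ⟨h1, h2, h3⟩ := fppf_tensorHom c c'
  exact epi_of_fppf (c ⊗ₘ c')

theorem fppf_id (A : Over S) : Flat (𝟙 A : A ⟶ A).left ∧ Surjective (𝟙 A : A ⟶ A).left ∧
    LocallyOfFinitePresentation (𝟙 A : A ⟶ A).left := by
  refine ⟨?_, ?_, ?_⟩
  · show Flat (𝟙 A.left); infer_instance
  · show Surjective (𝟙 A.left); infer_instance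
  · show LocallyOfFinitePresentation (𝟙 A.left); infer_instance

theorem epi_whiskerLeft (G : Over S) {A B : Over S} (c : A ⟶ B)
    [Flat c.left] [Surjective c.left] [LocallyOfFinitePresentation c.left] : Epi (G ◁ c) := by
  obtain ⟨h1, h2, h3⟩ := fppf_id G
  rw [← MonoidalCategory.id_tensorHom]
  exact epi_tensorHom (𝟙 G) c

theorem epi_whiskerRight {A B : Over S} (c : A ⟶ B) (G : Over S)
    [Flat c.left] [Surjective c.left] [LocallyOfFinitePresentation c.left] : Epi (c ▷ G) := by
  obtain ⟨h1, h2, h3⟩ := fppf_id G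
  rw [← MonoidalCategory.tensorHom_id]
  exact epi_tensorHom c (𝟙 G)

end GrpSchFppfH7
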