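import Mathlib
import Groth.Agent.Lib.ConnActAlg_helper4

/-!
# Natural multiplicative endomorphisms of a character functor are locally constant (helper4)

Continuing `ConnActAlg_helper4`: at a prime `p` of the base ring the group-like elements `γ_g(m)`
single out a group endomorphism `θ` of `G`, and over every algebra in which the coefficients
`e_{m, θ m}` become invertible the natural endomorphism is `ψ ↦ ψ ∘ θ`.
-/

set_option autoImplicit false
set_option linter.unusedVariables false
set_option linter.unusedTactic false
set_option linter.unreachableTactic false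
set_option linter.unusedSectionVars false
set_option linter.style.haveILetI false
set_option linter.deprecated false
set_option linter.unusedSimpArgs false
set_option linter.style.longLine false
set_option maxHeartbeats 1600000

universe u

namespace Groth.Agent.Lib.MTHomH4

open Groth.Agent.Lib.MultTrivH4 Groth.Agent.Lib.ConnActH4

section Alg

variable {R' : Type u} [CommRing R'] {G : Type} [CommGroup G]
  {KK : ∀ (C : Type u) [CommRing C] [Algebra R' C], Type u}
  {push : ∀ (C C' : Type u) [CommRing C] [CommRing C'] [Algebra R' C] [Algebra R' C'],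
    (C →ₐ[R'] C') → KK C → KK C'}
  {Ph : ∀ (C : Type u) [CommRing C] [Algebra R' C], KK C → (G →* C) → (G →* C)}

theorem Ph_one_apply (H : IsNatAct KK push Ph) (C : Type u) [CommRing C] [Algebra R' C] (g : KK C)
    (m : G) : Ph C g 1 m = 1 := by
  have h1 : Ph C g 1 = Ph C g 1 * Ph C g 1 := by
    have h := H.mul C g 1 1
    rwa [one_mul] at h
  have h2 : Ph C g 1 m = Ph C g 1 m * Ph C g 1 m := by
    have h := congrArg (fun f : G →* C => f m) h1
    simpa only [MonoidHom.mul_apply] using h
  have h3 : Ph C g 1 m * Ph C g 1 m⁻¹ = 1 := by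
    rw [← map_mul, mul_inv_cancel, map_one]
  calc Ph C g 1 m = Ph C g 1 m * (Ph C g 1 m * Ph C g 1 m⁻¹) := by rw [h3, mul_one]
    _ = (Ph C g 1 m * Ph C g 1 m) * Ph C g 1 m⁻¹ := by rw [mul_assoc]
    _ = Ph C g 1 m * Ph C g 1 m⁻¹ := by rw [← h2]
    _ = 1 := h3

theorem lft_one_gam (H : IsNatAct KK push Ph) (C : Type u) [CommRing C] [Algebra R' C] (g : KK C)
    (m : G) : lft (1 : G →* C) (AlgHom.id R' C) (gam KK push Ph C g m) = 1 := by
  rw [← Ph_eq H C g 1 m]
  exact Ph_one_apply H C g m

/-- Over a field the group-like elements are monomials. -/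
theorem gam_field (H : IsNatAct KK push Ph) (F : Type u) [Field F] [Algebra R' F] (g : KK F)
    (m : G) : ∃ b : G, gam KK push Ph F g m = MonoidAlgebra.single b 1 := by
  classical
  obtain ⟨γ, hγ⟩ : ∃ γ : MonoidAlgebra F G, γ = gam KK push Ph F g m := ⟨_, rfl⟩
  have hne : γ ≠ 0 := by
    intro h0
    have h1 := lft_one_gam H F g m
    rw [← hγ, h0, map_zero] at h1
    exact zero_ne_one h1
  have hee : ∀ a, ee KK push Ph F g m a = γ.coeff a := fun a => by rw [hγ]; rfl
  obtain ⟨b, hb⟩ : ∃ b, γ.coeff b ≠ 0 := by
    by_contra hcon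
    push_neg at hcon
    apply hne
    apply MonoidAlgebra.coeff_injective
    ext b
    rw [hcon b]
    rfl
  have hidem : γ.coeff b * γ.coeff b = γ.coeff b := by
    have h := ee_mul H F g m b b
    rw [if_pos rfl, hee] at h
    exact h
  have hb1 : γ.coeff b = 1 := by
    have h1 : γ.coeff b * (γ.coeff b - 1) = 0 := by rw [mul_sub, mul_one, hidem, sub_self]
    rcases mul_eq_zero.mp h1 with h2 | h2
    · exact absurd h2 hb
    · exact sub_eq_zero.mp h2
  refine ⟨b, ?_⟩
  rw [← hγ]
  apply MonoidAlgebra.coeff_injective
  ext a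
  rw [MonoidAlgebra.coeff_single, Finsupp.single_apply]
  by_cases hab : b = a
  · subst hab
    rw [if_pos rfl]
    exact hb1
  · rw [if_neg hab]
    have h := ee_mul H F g m b a
    rw [if_neg hab, hee, hee, hb1, one_mul] at h
    exact h

/-- **Local constancy.** -/
theorem exists_theta (H : IsNatAct KK push Ph) (C : Type u) [CommRing C] [Algebra R' C] (g : KK C)
    (p : Ideal C) [p.IsPrime] :
    ∃ θ : G →* G, (∀ m, ee KK push Ph C g m (θ m) ∉ p) ∧
      ∀ (C' : Type u) [CommRing C'] [Algebra R' C'] (ξ : C →ₐ[R'] C') (m : G),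
        IsUnit (ξ (ee KK push Ph C g m (θ m))) →
        ∀ ψ : G →* C', Ph C' (push C C' ξ g) ψ m = ψ (θ m) := by
  classical
  letI : Algebra R' p.ResidueField :=
    ((algebraMap C p.ResidueField).comp (algebraMap R' C)).toAlgebra
  let θF : C →ₐ[R'] p.ResidueField :=
    { toRingHom := algebraMap C p.ResidueField
      commutes' := fun r => rfl }
  obtain ⟨gF, hgF⟩ : ∃ gF : KK p.ResidueField, gF = push C p.ResidueField θF g := ⟨_, rfl⟩
  choose t ht using (fun m => gam_field H p.ResidueField gF m)
  have hof : ∀ m, Ph (MonoidAlgebra p.ResidueField G)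
      (push p.ResidueField (MonoidAlgebra p.ResidueField G)
        (MonoidAlgebra.singleOneAlgHom :
          p.ResidueField →ₐ[R'] MonoidAlgebra p.ResidueField G) gF)
      (MonoidAlgebra.of p.ResidueField G) m = MonoidAlgebra.of p.ResidueField G (t m) := by
    intro m
    rw [Ph_eq H, gam_nat H, ht m, MonoidAlgebra.mapAlgHom_single, map_one, lft_single, map_one]
    exact one_mul _
  have hinj : Function.Injective (MonoidAlgebra.of p.ResidueField G) := MonoidAlgebra.of_injective
  have tmul : ∀ m m', t (m * m') = t m * t m' := by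
    intro m m'
    have h1 := hof (m * m')
    rw [map_mul, hof m, hof m', ← map_mul] at h1
    exact hinj h1.symm
  have tone : t 1 = 1 := by
    have h1 := hof 1
    rw [map_one] at h1
    apply hinj
    rw [← h1, map_one]
  refine ⟨{ toFun := t, map_one' := tone, map_mul' := tmul }, ?_, ?_⟩
  · intro m hmem
    have hmem' : ee KK push Ph C g m (t m) ∈ p := hmem
    have h1 : ee KK push Ph p.ResidueField gF m (t m) = θF (ee KK push Ph C g m (t m)) := by
      rw [hgF]
      exact ee_nat H C p.ResidueField θF g m (t m)
    have h2 : ee KK push Ph p.ResidueField gF m (t m) = 1 := by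
      unfold ee
      rw [ht m, MonoidAlgebra.coeff_single, Finsupp.single_eq_same]
    have h3 : algebraMap C p.ResidueField (ee KK push Ph C g m (t m)) = 0 :=
      Ideal.algebraMap_residueField_eq_zero.mpr hmem'
    have h4 : θF (ee KK push Ph C g m (t m)) =
        algebraMap C p.ResidueField (ee KK push Ph C g m (t m)) := rfl
    rw [h1, h4, h3] at h2
    exact zero_ne_one h2
  · intro C' _ _ ξ m hunit ψ
    have hunit' : IsUnit (ξ (ee KK push Ph C g m (t m))) := hunit
    obtain ⟨e, he⟩ : ∃ e : C', e = ee KK push Ph C' (push C C' ξ g) m (t m) := ⟨_, rfl⟩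
    have he' : e = ξ (ee KK push Ph C g m (t m)) := by
      rw [he]
      exact ee_nat H C C' ξ g m (t m)
    have hidem : e * e = e := by
      have h := ee_mul H C' (push C C' ξ g) m (t m) (t m)
      rw [if_pos rfl, ← he] at h
      exact h
    have heu : IsUnit e := by
      rw [he']
      exact hunit'
    have he1 : e = 1 := heu.mul_left_cancel (by rw [hidem, mul_one])
    have hγ : gam KK push Ph C' (push C C' ξ g) m = MonoidAlgebra.single (t m) 1 := by
      apply MonoidAlgebra.coeff_injective
      ext b
      rw [MonoidAlgebra.coeff_single, Finsupp.single_apply]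
      by_cases hb : t m = b
      · subst hb
        rw [if_pos rfl]
        have h5 : (gam KK push Ph C' (push C C' ξ g) m).coeff (t m) = e := by
          rw [he]
          rfl
        rw [h5, he1]
      · rw [if_neg hb]
        have h1 := ee_mul H C' (push C C' ξ g) m (t m) b
        rw [if_neg hb, ← he, he1, one_mul] at h1
        exact h1
    show Ph C' (push C C' ξ g) ψ m = ψ (t m)
    rw [Ph_eq H C' (push C C' ξ g) ψ m, hγ, lft_single, map_one, one_mul]

end Alg

end Groth.Agent.Lib.MTHomH4
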