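import Mathlib
import Groth.Prelude
import Groth.Agent.Lib.ConnHom_helper4
import Groth.Agent.Lib.MTHomAlg_helper4

/-!
# Homomorphisms between diagonalisable groups are locally constant (helper4)

A natural multiplicative map `nu` from the points of `D_B(M)` to the points of `D_B(N)` (`N` finitely
generated) is, Zariski-locally on `B`, composition with `D(φ)` for a homomorphism `φ : N → M`.
Over a field, `D(φ)` is injective (bijective) on points iff `φ` is surjective (bijective).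
-/

set_option autoImplicit false
set_option linter.unusedVariables false
set_option linter.unusedTactic false
set_option linter.unreachableTactic false
set_option linter.unusedSectionVars false
set_option linter.style.haveILetI false
set_option linter.deprecated false
set_option linter.unusedSimpArgs false
set_option linter.style.longLine false
set_option maxHeartbeats 1600000

universe u

open CategoryTheory CategoryTheory.Limits MonoidalCategory CartesianMonoidalCategory MonObj GrpObj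
  AlgebraicGeometry Opposite

namespace Groth.Agent.Lib.MTHomH4

open Groth.Agent.Lib.RedDictH8 Groth.Agent.Lib.DSDict Groth.Agent.Lib.MultGa
  Groth.Agent.Lib.MultTrivH4 Groth.Agent.Lib.ConnActH4

/-! ### Composition with `D(φ)` on points -/

section Dphi

variable {B : Scheme.{u}} {M N : Type} [AddCommGroup M] [AddCommGroup N]

theorem comp_DSmap_injective (φ : N →+ M) (hφ : Function.Surjective φ) (Z : Over B)
    (d d' : Z ⟶ Red.DS B M) (h : d ≫ Red.DSmap B φ = d' ≫ Red.DSmap B φ) : d = d' := by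
  apply chr_injective
  intro m
  obtain ⟨n, rfl⟩ := hφ m
  rw [← chr_DSmap φ d n, ← chr_DSmap φ d' n, h]

theorem comp_DSmap_surjective (φ : N →+ M) (hφ : Function.Bijective φ) (Z : Over B)
    (e : Z ⟶ Red.DS B N) : ∃ d : Z ⟶ Red.DS B M, d ≫ Red.DSmap B φ = e := by
  obtain ⟨ψ, hψ⟩ : ∃ ψ : M →+ N, ∀ n, ψ (φ n) = n :=
    ⟨(AddEquiv.ofBijective φ hφ).symm.toAddMonoidHom,
      fun n => (AddEquiv.ofBijective φ hφ).symm_apply_apply n⟩
  refine ⟨e ≫ Red.DSmap B ψ, ?_⟩
  apply chr_injective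
  intro n
  rw [chr_DSmap, chr_DSmap, hψ]

variable {F : Type u} [Field F] (z : Spec (CommRingCat.of F) ⟶ B)

theorem surjective_of_inj (φ : N →+ M)
    (h : ∀ (C : Type u) [CommRing C] [Algebra F C] (d d' : TB z C ⟶ Red.DS B M),
      d ≫ Red.DSmap B φ = d' ≫ Red.DSmap B φ → d = d') : Function.Surjective φ := by
  intro m
  obtain ⟨ψ₁, hψ₁⟩ : ∃ ψ₁ : Multiplicative M →* MonoidAlgebra F (Multiplicative (M ⧸ φ.range)),
      ∀ x : M, ψ₁ (Multiplicative.ofAdd x) =
        MonoidAlgebra.of F (Multiplicative (M ⧸ φ.range))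
          (Multiplicative.ofAdd (QuotientAddGroup.mk' φ.range x)) :=
    ⟨(MonoidAlgebra.of F (Multiplicative (M ⧸ φ.range))).comp
      (AddMonoidHom.toMultiplicative (QuotientAddGroup.mk' φ.range)), fun x => rfl⟩
  have hd : pt z ψ₁ ≫ Red.DSmap B φ =
      pt z (1 : Multiplicative M →* MonoidAlgebra F (Multiplicative (M ⧸ φ.range))) ≫
        Red.DSmap B φ := by
    apply chr_injective
    intro n
    rw [chr_DSmap, chr_DSmap, chr_pt, chr_pt, hψ₁]
    have h0 : QuotientAddGroup.mk' φ.range (φ n) = 0 :=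
      (QuotientAddGroup.eq_zero_iff (φ n)).mpr ⟨n, rfl⟩
    rw [h0, ofAdd_zero, map_one]
    rfl
  have h2 := pt_injective z ψ₁ 1 (h _ _ _ hd)
  have h3 : ψ₁ (Multiplicative.ofAdd m) = 1 := by
    rw [h2]
    rfl
  rw [hψ₁] at h3
  have h4 : MonoidAlgebra.of F (Multiplicative (M ⧸ φ.range))
      (Multiplicative.ofAdd (QuotientAddGroup.mk' φ.range m)) =
      MonoidAlgebra.of F (Multiplicative (M ⧸ φ.range)) 1 := by
    rw [map_one]
    exact h3
  have h5 : Multiplicative.ofAdd (QuotientAddGroup.mk' φ.range m) = 1 :=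
    MonoidAlgebra.of_injective h4
  have h6 : QuotientAddGroup.mk' φ.range m = 0 := ofAdd_eq_one.mp h5
  exact AddMonoidHom.mem_range.mp ((QuotientAddGroup.eq_zero_iff m).mp h6)

theorem injective_of_surj (φ : N →+ M)
    (h : ∀ (C : Type u) [CommRing C] [Algebra F C] (e : TB z C ⟶ Red.DS B N),
      ∃ d : TB z C ⟶ Red.DS B M, d ≫ Red.DSmap B φ = e) : Function.Injective φ := by
  intro n n' hnn
  obtain ⟨d, hd⟩ := h (MonoidAlgebra F (Multiplicative N))
    (pt z (MonoidAlgebra.of F (Multiplicative N)))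
  have h1 : chr (pt z (MonoidAlgebra.of F (Multiplicative N))) n =
      chr (pt z (MonoidAlgebra.of F (Multiplicative N))) n' := by
    rw [← hd, chr_DSmap, chr_DSmap, hnn]
  rw [chr_pt, chr_pt] at h1
  have h2 := congrArg (fun w =>
    (Scheme.ΓSpecIso (CommRingCat.of (MonoidAlgebra F (Multiplicative N)))).hom w) h1
  have e1 := Iso.inv_hom_id_apply
    (Scheme.ΓSpecIso (CommRingCat.of (MonoidAlgebra F (Multiplicative N))))
    (MonoidAlgebra.of F (Multiplicative N) (Multiplicative.ofAdd n))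
  have e2 := Iso.inv_hom_id_apply
    (Scheme.ΓSpecIso (CommRingCat.of (MonoidAlgebra F (Multiplicative N))))
    (MonoidAlgebra.of F (Multiplicative N) (Multiplicative.ofAdd n'))
  have h3 : MonoidAlgebra.of F (Multiplicative N) (Multiplicative.ofAdd n) =
      MonoidAlgebra.of F (Multiplicative N) (Multiplicative.ofAdd n') :=
    e1.symm.trans (h2.trans e2)
  exact Multiplicative.ofAdd.injective (MonoidAlgebra.of_injective h3)

end Dphi

/-! ### The shearing trick -/

section Loc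

variable {B : Scheme.{u}} {M N : Type} [AddCommGroup M] [AddCommGroup N]
  (nu : ∀ (T' : Over B), (T' ⟶ Red.DS B M) → (T' ⟶ Red.DS B N))
  (hnat : ∀ (T'' T' : Over B) (c : T'' ⟶ T') (x : T' ⟶ Red.DS B M),
    c ≫ nu T' x = nu T'' (c ≫ x))
  (hhom : ∀ (T' : Over B) (x x' : T' ⟶ Red.DS B M), nu T' (x * x') = nu T' x * nu T' x')

/-- the shearing self-map of `D(M × N)` attached to `nu`. -/
noncomputable def bulOf (T' : Over B) (g : T' ⟶ Red.DS B (M × N)) (y : T' ⟶ Red.DS B (M × N)) :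
    T' ⟶ Red.DS B (M × N) :=
  y * (nu T' (y ≫ Red.DSmap B (AddMonoidHom.inl M N)) ≫ Red.DSmap B (AddMonoidHom.snd M N))

include hnat in
theorem bulOf_nat (T'' T' : Over B) (c : T'' ⟶ T') (g : T' ⟶ Red.DS B (M × N))
    (y : T' ⟶ Red.DS B (M × N)) :
    c ≫ bulOf nu T' g y = bulOf nu T'' (c ≫ g) (c ≫ y) := by
  show c ≫ (y * (nu T' (y ≫ Red.DSmap B (AddMonoidHom.inl M N)) ≫
      Red.DSmap B (AddMonoidHom.snd M N))) =
    (c ≫ y) * (nu T'' ((c ≫ y) ≫ Red.DSmap B (AddMonoidHom.inl M N)) ≫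
      Red.DSmap B (AddMonoidHom.snd M N))
  rw [MonObj.comp_mul, ← Category.assoc c, hnat, Category.assoc c y]

include hhom in
theorem bulOf_hom (T' : Over B) (g : T' ⟶ Red.DS B (M × N)) (y y' : T' ⟶ Red.DS B (M × N)) :
    bulOf nu T' g (y * y') = bulOf nu T' g y * bulOf nu T' g y' := by
  show (y * y') * (nu T' ((y * y') ≫ Red.DSmap B (AddMonoidHom.inl M N)) ≫
      Red.DSmap B (AddMonoidHom.snd M N)) =
    (y * (nu T' (y ≫ Red.DSmap B (AddMonoidHom.inl M N)) ≫
      Red.DSmap B (AddMonoidHom.snd M N))) *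
    (y' * (nu T' (y' ≫ Red.DSmap B (AddMonoidHom.inl M N)) ≫
      Red.DSmap B (AddMonoidHom.snd M N)))
  rw [MonObj.mul_comp y y' (Red.DSmap B (AddMonoidHom.inl M N)), hhom, MonObj.mul_comp]
  obtain ⟨b, hb⟩ : ∃ b : T' ⟶ Red.DS B (M × N),
      b = nu T' (y ≫ Red.DSmap B (AddMonoidHom.inl M N)) ≫
        Red.DSmap B (AddMonoidHom.snd M N) := ⟨_, rfl⟩
  obtain ⟨b', hb'⟩ : ∃ b' : T' ⟶ Red.DS B (M × N),
      b' = nu T' (y' ≫ Red.DSmap B (AddMonoidHom.inl M N)) ≫
        Red.DSmap B (AddMonoidHom.snd M N) := ⟨_, rfl⟩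
  rw [← hb, ← hb']
  calc (y * y') * (b * b') = y * ((y' * b) * b') := by simp only [_root_.mul_assoc]
    _ = y * ((b * y') * b') := by rw [DS_comm y' b]
    _ = (y * b) * (y' * b') := by simp only [_root_.mul_assoc]

variable {R' : Type u} [CommRing R'] (k : Spec (CommRingCat.of R') ⟶ B)

theorem PhiG_bulOf (C : Type u) [CommRing C] [Algebra R' C]
    (g : TB k C ⟶ Red.DS B (M × N)) (ψ : Multiplicative M →* C) (n : N) :
    PhiG (Red.DS B (M × N)) (bulOf nu) k C g
      (ψ.comp (AddMonoidHom.toMultiplicative (AddMonoidHom.fst M N)))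
      (Multiplicative.ofAdd ((0 : M), n)) =
    chC k (nu (TB k C) (pt k ψ)) (Multiplicative.ofAdd n) := by
  obtain ⟨Ψ, hΨ⟩ : ∃ Ψ : Multiplicative (M × N) →* C,
      Ψ = ψ.comp (AddMonoidHom.toMultiplicative (AddMonoidHom.fst M N)) := ⟨_, rfl⟩
  rw [← hΨ]
  have e1 : pt k Ψ ≫ Red.DSmap B (AddMonoidHom.inl M N) = pt k ψ := by
    apply chr_injective
    intro m
    rw [chr_DSmap, chr_pt, chr_pt, hΨ]
    rfl
  show (Scheme.ΓSpecIso (CommRingCat.of C)).hom
      (chr (bulOf nu (TB k C) g (pt k Ψ)) ((0 : M), n)) =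
    (Scheme.ΓSpecIso (CommRingCat.of C)).hom (chr (nu (TB k C) (pt k ψ)) n)
  congr 1
  show chr (pt k Ψ * (nu (TB k C) (pt k Ψ ≫ Red.DSmap B (AddMonoidHom.inl M N)) ≫
      Red.DSmap B (AddMonoidHom.snd M N))) ((0 : M), n) = chr (nu (TB k C) (pt k ψ)) n
  rw [chr_mul, chr_DSmap, e1, chr_pt, hΨ]
  have h0 : (ψ.comp (AddMonoidHom.toMultiplicative (AddMonoidHom.fst M N)))
      (Multiplicative.ofAdd ((0 : M), n)) = 1 := by
    show ψ (Multiplicative.ofAdd (0 : M)) = 1
    exact map_one ψ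
  rw [h0, map_one, _root_.one_mul]
  rfl

include hnat hhom in
/-- **Affine local constancy.** -/
theorem local_affine (hN : AddGroup.FG N) (p : Ideal R') [p.IsPrime] :
    ∃ (f : R') (φ : N →+ M), f ∉ p ∧
      ∀ (C : Type u) [CommRing C] [Algebra R' C], IsUnit (algebraMap R' C f) →
        ∀ d : TB k C ⟶ Red.DS B M, nu (TB k C) d = d ≫ Red.DSmap B φ := by
  classical
  have H := isNatAct (Red.DS B (M × N)) (bulOf nu) (bulOf_nat nu hnat) (bulOf_hom nu hhom) k
  obtain ⟨g₀, hg₀⟩ : ∃ g₀ : KKg (Red.DS B (M × N)) k R', g₀ = 1 := ⟨_, rfl⟩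
  obtain ⟨θ, hθ1, hθ2⟩ := exists_theta H R' g₀ p
  obtain ⟨Sg, hSg⟩ := AddGroup.fg_def.mp hN
  obtain ⟨θ', hθ'⟩ : ∃ θ' : Multiplicative N →* Multiplicative M,
      ∀ n : N, θ' (Multiplicative.ofAdd n) =
        (AddMonoidHom.toMultiplicative (AddMonoidHom.fst M N))
          (θ (Multiplicative.ofAdd ((0 : M), n))) :=
    ⟨(AddMonoidHom.toMultiplicative (AddMonoidHom.fst M N)).comp
      (θ.comp (AddMonoidHom.toMultiplicative (AddMonoidHom.inr M N))), fun n => rfl⟩
  obtain ⟨φ, hφ⟩ : ∃ φ : N →+ M, ∀ n : N, Multiplicative.ofAdd (φ n) =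
      θ' (Multiplicative.ofAdd n) :=
    ⟨AddMonoidHom.toMultiplicative.symm θ', fun n => rfl⟩
  refine ⟨∏ n ∈ Sg, ee (KKg (Red.DS B (M × N)) k) (pushg (Red.DS B (M × N)) k)
      (PhiG (Red.DS B (M × N)) (bulOf nu) k) R' g₀ (Multiplicative.ofAdd ((0 : M), n))
      (θ (Multiplicative.ofAdd ((0 : M), n))), φ, ?_, ?_⟩
  · intro hmem
    obtain ⟨n, hn, hnp⟩ := Ideal.IsPrime.prod_mem_iff.mp hmem
    exact hθ1 _ hnp
  · intro C _ _ hunit d
    obtain ⟨ξ, hξ⟩ : ∃ ξ : R' →ₐ[R'] C, ∀ r, ξ r = algebraMap R' C r :=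
      ⟨Algebra.ofId R' C, fun r => rfl⟩
    rw [map_prod] at hunit
    have hun : ∀ n ∈ Sg, IsUnit (ξ (ee (KKg (Red.DS B (M × N)) k)
        (pushg (Red.DS B (M × N)) k) (PhiG (Red.DS B (M × N)) (bulOf nu) k) R' g₀
        (Multiplicative.ofAdd ((0 : M), n)) (θ (Multiplicative.ofAdd ((0 : M), n))))) := by
      intro n hn
      rw [hξ]
      exact isUnit_of_dvd_unit (Finset.dvd_prod_of_mem
        (fun n => algebraMap R' C (ee (KKg (Red.DS B (M × N)) k)
          (pushg (Red.DS B (M × N)) k) (PhiG (Red.DS B (M × N)) (bulOf nu) k) R' g₀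
          (Multiplicative.ofAdd ((0 : M), n)) (θ (Multiplicative.ofAdd ((0 : M), n))))) hn) hunit
    obtain ⟨ψ, hψ⟩ : ∃ ψ : Multiplicative M →* C, ψ = chC k d := ⟨_, rfl⟩
    have hd : pt k ψ = d := by
      rw [hψ]
      exact pt_chC k d
    have hgen : ∀ n ∈ Sg, chC k (nu (TB k C) (pt k ψ)) (Multiplicative.ofAdd n) =
        ψ (θ' (Multiplicative.ofAdd n)) := by
      intro n hn
      rw [← PhiG_bulOf nu k C (pushg (Red.DS B (M × N)) k R' C ξ g₀) ψ n,
        hθ2 C ξ (Multiplicative.ofAdd ((0 : M), n)) (hun n hn), hθ']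
      rfl
    have key : ∀ n : N, chC k (nu (TB k C) (pt k ψ)) (Multiplicative.ofAdd n) =
        ψ (θ' (Multiplicative.ofAdd n)) := by
      intro n
      have hn : n ∈ AddSubgroup.closure (Sg : Set N) := by
        rw [hSg]
        exact AddSubgroup.mem_top n
      refine AddSubgroup.closure_induction
        (p := fun n _ => chC k (nu (TB k C) (pt k ψ)) (Multiplicative.ofAdd n) =
          ψ (θ' (Multiplicative.ofAdd n))) ?_ ?_ ?_ ?_ hn
      · intro x hx
        exact hgen x hx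
      · rw [ofAdd_zero, map_one, map_one, map_one]
      · intro x y _ _ hx hy
        rw [ofAdd_add, map_mul, map_mul, map_mul, hx, hy]
      · intro x _ hx
        have a1 : chC k (nu (TB k C) (pt k ψ)) (Multiplicative.ofAdd (-x)) *
            chC k (nu (TB k C) (pt k ψ)) (Multiplicative.ofAdd x) = 1 := by
          rw [← map_mul, ← ofAdd_add, neg_add_cancel, ofAdd_zero, map_one]
        have a2 : ψ (θ' (Multiplicative.ofAdd x)) * ψ (θ' (Multiplicative.ofAdd (-x))) = 1 := by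
          rw [← map_mul, ← map_mul, ← ofAdd_add, add_neg_cancel, ofAdd_zero, map_one, map_one]
        calc chC k (nu (TB k C) (pt k ψ)) (Multiplicative.ofAdd (-x))
            = chC k (nu (TB k C) (pt k ψ)) (Multiplicative.ofAdd (-x)) *
              (ψ (θ' (Multiplicative.ofAdd x)) * ψ (θ' (Multiplicative.ofAdd (-x)))) := by
                rw [a2, _root_.mul_one]
          _ = (chC k (nu (TB k C) (pt k ψ)) (Multiplicative.ofAdd (-x)) *
              chC k (nu (TB k C) (pt k ψ)) (Multiplicative.ofAdd x)) *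
              ψ (θ' (Multiplicative.ofAdd (-x))) := by rw [← hx, _root_.mul_assoc]
          _ = ψ (θ' (Multiplicative.ofAdd (-x))) := by rw [a1, _root_.one_mul]
    rw [hd] at key
    apply chr_injective
    intro n
    rw [chr_DSmap]
    have h1 : (Scheme.ΓSpecIso (CommRingCat.of C)).hom (chr (nu (TB k C) d) n) =
        (Scheme.ΓSpecIso (CommRingCat.of C)).hom (chr d (φ n)) := by
      have h2 := key n
      rw [← hφ, hψ] at h2
      exact h2
    have h3 := congrArg (fun w => (Scheme.ΓSpecIso (CommRingCat.of C)).inv w) h1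
    have e1 := Iso.hom_inv_id_apply (Scheme.ΓSpecIso (CommRingCat.of C)) (chr (nu (TB k C) d) n)
    have e2 := Iso.hom_inv_id_apply (Scheme.ΓSpecIso (CommRingCat.of C)) (chr d (φ n))
    exact e1.symm.trans (h3.trans e2)

end Loc

/-! ### Zariski-local constancy -/

section Glob

variable {B : Scheme.{u}} {M N : Type} [AddCommGroup M] [AddCommGroup N]
  (nu : ∀ (T' : Over B), (T' ⟶ Red.DS B M) → (T' ⟶ Red.DS B N))
  (hnat : ∀ (T'' T' : Over B) (c : T'' ⟶ T') (x : T' ⟶ Red.DS B M),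
    c ≫ nu T' x = nu T'' (c ≫ x))
  (hhom : ∀ (T' : Over B) (x x' : T' ⟶ Red.DS B M), nu T' (x * x') = nu T' x * nu T' x')

include hnat hhom in
/-- **Local constancy.** -/
theorem local_const (hN : AddGroup.FG N) (b : B) :
    ∃ (W₀ : B.Opens) (φ : N →+ M), b ∈ W₀ ∧
      ∀ (T' : Over B), (∀ z : T'.left, T'.hom.base z ∈ W₀) →
        ∀ d : T' ⟶ Red.DS B M, nu T' d = d ≫ Red.DSmap B φ := by
  obtain ⟨U', hU', hbU', -⟩ := exists_isAffineOpen_mem_and_subset
    (x := b) (U := (⊤ : B.Opens)) trivial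
  obtain ⟨q, hq⟩ : ∃ q : Spec Γ(B, U'), hU'.fromSpec.base q = b := by
    have h : b ∈ Set.range hU'.fromSpec.base := by
      rw [hU'.range_fromSpec]
      exact hbU'
    exact h
  haveI : q.asIdeal.IsPrime := q.isPrime
  obtain ⟨f, φ, hf, hloc⟩ := local_affine nu hnat hhom hU'.fromSpec hN q.asIdeal
  have hmem_iff : ∀ q' : Spec Γ(B, U'),
      hU'.fromSpec.base q' ∈ B.basicOpen f ↔ f ∉ q'.asIdeal := by
    intro q'
    have h1 : q' ∈ hU'.fromSpec ⁻¹ᵁ B.basicOpen f ↔ f ∉ q'.asIdeal := by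
      rw [hU'.fromSpec_preimage_basicOpen f]
      exact PrimeSpectrum.mem_basicOpen f q'
    exact h1
  refine ⟨B.basicOpen f, φ, ?_, ?_⟩
  · rw [← hq]
    exact (hmem_iff q).mpr hf
  · intro T' hT d
    apply Over.OverMorphism.ext
    apply hom_ext_of_flat_cover
    intro z
    have hzU' : T'.hom.base z ∈ U' := B.basicOpen_le f (hT z)
    obtain ⟨Nz, hNz, hzN, hNU'⟩ := exists_isAffineOpen_mem_and_subset
      (x := z) (U := T'.hom ⁻¹ᵁ U') hzU'
    letI : Algebra Γ(B, U') Γ(T'.left, Nz) := (T'.hom.appLE U' Nz hNU').hom.toAlgebra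
    have hv : hNz.fromSpec ≫ T'.hom =
        Spec.map (CommRingCat.ofHom (algebraMap Γ(B, U') Γ(T'.left, Nz))) ≫ hU'.fromSpec :=
      (hU'.SpecMap_appLE_fromSpec T'.hom hNz hNU').symm
    obtain ⟨cN, hcN⟩ : ∃ cN : TB hU'.fromSpec Γ(T'.left, Nz) ⟶ T', cN.left = hNz.fromSpec :=
      ⟨Over.homMk hNz.fromSpec hv, rfl⟩
    refine ⟨Spec Γ(T'.left, Nz), hNz.fromSpec, inferInstance, ?_, ?_⟩
    · rw [hNz.range_fromSpec]
      exact hzN
    · have hunit : IsUnit (algebraMap Γ(B, U') Γ(T'.left, Nz) f) := by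
        by_contra hne
        obtain ⟨I, hI, heI⟩ := exists_max_ideal_of_mem_nonunits
          (show algebraMap Γ(B, U') Γ(T'.left, Nz) f ∈ nonunits _ from hne)
        haveI : I.IsPrime := hI.isPrime
        obtain ⟨qI, hqI⟩ : ∃ qI : Spec Γ(T'.left, Nz), qI.asIdeal = I :=
          ⟨⟨I, inferInstance⟩, rfl⟩
        have h1 : T'.hom.base (hNz.fromSpec.base qI) ∈ B.basicOpen f := hT _
        have h2 : T'.hom.base (hNz.fromSpec.base qI) = hU'.fromSpec.base
            ((Spec.map (CommRingCat.ofHom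
              (algebraMap Γ(B, U') Γ(T'.left, Nz)))).base qI) := by
          have h := congrArg (fun g => g.base qI) hv
          exact h
        rw [h2] at h1
        have h4 := (hmem_iff _).mp h1
        apply h4
        show algebraMap Γ(B, U') Γ(T'.left, Nz) f ∈ qI.asIdeal
        rw [hqI]
        exact heI
      have h1 := hnat _ T' cN d
      rw [hloc Γ(T'.left, Nz) hunit (cN ≫ d)] at h1
      have h2 := congrArg (fun g => g.left) h1
      simp only [Over.comp_left, hcN] at h2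
      rw [Over.comp_left, ← Category.assoc]
      exact h2

end Glob

end Groth.Agent.Lib.MTHomH4
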