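import Mathlib

set_option autoImplicit false
universe u
open CategoryTheory AlgebraicGeometry Limits

namespace SigmaFinH8

/-- comparison `∐_{Option α} Y ⟶ (∐_α Y ∘ some) ⨿ Y none` -/
noncomputable def optTo {α : Type u} (Y : Option α → Scheme.{u}) :
    (∐ Y) ⟶ (∐ fun a : α => Y (some a)) ⨿ Y none :=
  Sigma.desc (fun o => match o with
    | none => coprod.inr
    | some a => Sigma.ι (fun a : α => Y (some a)) a ≫ coprod.inl)

noncomputable def optFrom {α : Type u} (Y : Option α → Scheme.{u}) :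
    (∐ fun a : α => Y (some a)) ⨿ Y none ⟶ (∐ Y) :=
  coprod.desc (Sigma.desc (fun a => Sigma.ι Y (some a))) (Sigma.ι Y none)

theorem optTo_optFrom {α : Type u} (Y : Option α → Scheme.{u}) :
    optTo Y ≫ optFrom Y = 𝟙 _ := by
  apply Sigma.hom_ext
  rintro (_ | a)
  · rw [optTo, optFrom, Category.comp_id, ← Category.assoc, Sigma.ι_desc]
    exact coprod.inr_desc _ _
  · rw [optTo, optFrom, Category.comp_id, ← Category.assoc, Sigma.ι_desc]
    show (Sigma.ι (fun a : α => Y (some a)) a ≫ coprod.inl) ≫ _ = _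
    rw [Category.assoc, coprod.inl_desc, Sigma.ι_desc]

theorem optFrom_optTo {α : Type u} (Y : Option α → Scheme.{u}) :
    optFrom Y ≫ optTo Y = 𝟙 _ := by
  apply coprod.hom_ext
  · apply Sigma.hom_ext
    intro a
    rw [optFrom, optTo, Category.comp_id, ← Category.assoc coprod.inl, coprod.inl_desc,
      ← Category.assoc, Sigma.ι_desc, Sigma.ι_desc]
  · rw [optFrom, optTo, Category.comp_id, ← Category.assoc, coprod.inr_desc, Sigma.ι_desc]

instance {α : Type u} (Y : Option α → Scheme.{u}) : IsIso (optTo Y) :=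
  ⟨optFrom Y, optTo_optFrom Y, optFrom_optTo Y⟩

theorem sigmaDesc_option {α : Type u} {X : Scheme.{u}} (Y : Option α → Scheme.{u})
    (F : ∀ o, Y o ⟶ X) :
    Sigma.desc F = optTo Y ≫ coprod.desc (Sigma.desc (fun a => F (some a))) (F none) := by
  apply Sigma.hom_ext
  rintro (_ | a)
  · rw [optTo, ← Category.assoc, Sigma.ι_desc, Sigma.ι_desc]
    exact (coprod.inr_desc _ _).symm
  · rw [optTo, ← Category.assoc, Sigma.ι_desc, Sigma.ι_desc]
    show _ = (Sigma.ι (fun a : α => Y (some a)) a ≫ coprod.inl) ≫ _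
    rw [Category.assoc, coprod.inl_desc, Sigma.ι_desc]

theorem isFinite_sigmaDesc (ι : Type u) [Finite ι] :
    ∀ {X : Scheme.{u}} (Y : ι → Scheme.{u}) (F : ∀ i, Y i ⟶ X),
      (∀ i, IsFinite (F i)) → IsFinite (Sigma.desc F) := by
  refine Finite.induction_empty_option (P := fun ι : Type u =>
    ∀ {X : Scheme.{u}} (Y : ι → Scheme.{u}) (F : ∀ i, Y i ⟶ X),
      (∀ i, IsFinite (F i)) → IsFinite (Sigma.desc F)) ?_ ?_ ?_ ι
  · intro α β e hα X Y F hF
    have h1 : Sigma.desc F = (Sigma.reindex e Y).inv ≫ Sigma.desc (fun a => F (e a)) := by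
      apply Sigma.hom_ext
      intro b
      obtain ⟨a, rfl⟩ := e.surjective b
      simp
    rw [h1]
    have := hα (fun a => Y (e a)) (fun a => F (e a)) (fun a => hF (e a))
    exact MorphismProperty.comp_mem _ _ _ (inferInstance : IsFinite (Sigma.reindex e Y).inv) this
  · intro X Y F _
    have : IsEmpty ↥(∐ Y) := by
      rw [← (sigmaMk Y).isEmpty_congr]   
      infer_instance
    infer_instance
  · intro α _ hα X Y F hF
    rw [sigmaDesc_option]
    have h1 : IsFinite (Sigma.desc (fun a => F (some a))) :=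
      hα (fun a => Y (some a)) (fun a => F (some a)) (fun a => hF (some a))
    have h2 : IsFinite (F none) := hF none
    infer_instance

end SigmaFinH8
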