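import Mathlib
import Groth.Prelude
import Groth.Agent.Lib.SchDescent_helper6
import Groth.Agent.Lib.SigmaFin1_helper8

/-!
# Quasi-compact closed subschemes of twisted constant schemes are finite (helper4)

A closed subscheme of a constant scheme `∐_I U` which is quasi-compact over `U` is finite over `U`
(locally on `U` it meets only finitely many copies, and is a closed subscheme of each).  The twisted
case follows by fpqc descent of finiteness.
-/

set_option autoImplicit false
set_option linter.unusedVariables false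
set_option linter.unusedTactic false
set_option linter.unreachableTactic false
set_option linter.unusedSectionVars false
set_option linter.style.haveILetI false
set_option linter.deprecated false
set_option linter.unusedSimpArgs false
set_option linter.style.longLine false
set_option maxHeartbeats 1600000
set_option backward.isDefEq.respectTransparency.types false

universe u

open CategoryTheory CategoryTheory.Limits AlgebraicGeometry Opposite TopologicalSpace

namespace Groth.Agent.Lib.TwConstFinH4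

/-! ### Pullback bookkeeping -/

theorem prop_iff_of_isPullback {P : MorphismProperty Scheme.{u}} [P.RespectsIso]
    {A X Y Z : Scheme.{u}} {a : A ⟶ X} {b : A ⟶ Y} {g : X ⟶ Z} {t : Y ⟶ Z}
    (sq : IsPullback a b g t) : P b ↔ P (pullback.snd g t) := by
  have e : sq.isoPullback.hom ≫ pullback.snd g t = b := sq.isoPullback_hom_snd
  constructor
  · intro h
    rw [← e] at h
    exact (P.cancel_left_of_respectsIso _ _).mp h
  · intro h
    rw [← e]
    exact (P.cancel_left_of_respectsIso _ _).mpr h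

theorem snd_comp_of {P : MorphismProperty Scheme.{u}} [P.IsStableUnderBaseChange]
    {Z S S' W : Scheme.{u}} (g : Z ⟶ S) (f : S' ⟶ S) (w : W ⟶ S')
    (h : P (pullback.snd g f)) : P (pullback.snd g (w ≫ f)) := by
  have s := (IsPullback.of_hasPullback (pullback.snd g f) w).paste_horiz
    (IsPullback.of_hasPullback g f)
  exact (prop_iff_of_isPullback s).mp (P.pullback_snd _ _ h)

/-! ### The constant case -/

section Const

variable {U : Scheme.{u}} (I : Type u)

theorem isFinite_pullback_const {V Y : Scheme.{u}}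
    (ζ : Y ⟶ ∐ (fun _ : I => U)) [IsClosedImmersion ζ]
    (h : Y ⟶ U) (hh : ζ ≫ Sigma.desc (fun _ : I => 𝟙 U) = h) [QuasiCompact h]
    (v : V ⟶ U) [CompactSpace V] : IsFinite (pullback.snd h v) := by
  classical
  -- each copy meets `Y` in a closed subscheme of `U`
  have hci : ∀ i : I, IsClosedImmersion
      ((ζ ⁻¹ᵁ (Sigma.ι (fun _ : I => U) i).opensRange).ι ≫ h) := by
    intro i
    have e1 : (ζ ⁻¹ᵁ (Sigma.ι (fun _ : I => U) i).opensRange).ι ≫ ζ =
        (ζ ∣_ (Sigma.ι (fun _ : I => U) i).opensRange) ≫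
          (Sigma.ι (fun _ : I => U) i).opensRange.ι :=
      (morphismRestrict_ι ζ _).symm
    have e2 : (Sigma.ι (fun _ : I => U) i).opensRange.ι ≫ Sigma.desc (fun _ : I => 𝟙 U) =
        (Sigma.ι (fun _ : I => U) i).isoOpensRange.inv := by
      rw [← cancel_epi (Sigma.ι (fun _ : I => U) i).isoOpensRange.hom, Iso.hom_inv_id,
        ← Category.assoc, Scheme.Hom.isoOpensRange_hom_ι, Sigma.ι_desc]
    have e3 : (ζ ⁻¹ᵁ (Sigma.ι (fun _ : I => U) i).opensRange).ι ≫ h =
        (ζ ∣_ (Sigma.ι (fun _ : I => U) i).opensRange) ≫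
          (Sigma.ι (fun _ : I => U) i).isoOpensRange.inv := by
      rw [← hh, ← Category.assoc, e1, Category.assoc, e2]
    rw [e3]
    haveI : IsClosedImmersion (ζ ∣_ (Sigma.ι (fun _ : I => U) i).opensRange) :=
      MorphismProperty.of_isPullback (P := @IsClosedImmersion)
        (isPullback_morphismRestrict ζ _).flip ‹IsClosedImmersion ζ›
    infer_instance
  obtain ⟨π, hπ⟩ : ∃ π : pullback h v ⟶ Y, π = pullback.fst h v := ⟨_, rfl⟩
  obtain ⟨hV, hhV⟩ : ∃ hV : pullback h v ⟶ V, hV = pullback.snd h v := ⟨_, rfl⟩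
  have sq : IsPullback π hV h v := by
    rw [hπ, hhV]
    exact IsPullback.of_hasPullback h v
  haveI : QuasiCompact hV := by
    rw [hhV]
    infer_instance
  haveI : CompactSpace ↥(pullback h v) := QuasiCompact.compactSpace_of_compactSpace hV
  rw [← hhV]
  -- the open and closed pieces
  obtain ⟨Pi, hPi⟩ : ∃ Pi : I → (pullback h v).Opens,
      Pi = fun i => π ⁻¹ᵁ (ζ ⁻¹ᵁ (Sigma.ι (fun _ : I => U) i).opensRange) := ⟨_, rfl⟩
  have hmem : ∀ (i : I) (x : ↥(pullback h v)),
      x ∈ Pi i ↔ ζ (π x) ∈ Set.range (Sigma.ι (fun _ : I => U) i) := by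
    intro i x
    rw [hPi]
    exact Iff.rfl
  have hcl : ∀ i, IsClosedImmersion ((Pi i).ι ≫ hV) := by
    intro i
    rw [hPi]
    have s1 := isPullback_morphismRestrict π (ζ ⁻¹ᵁ (Sigma.ι (fun _ : I => U) i).opensRange)
    have s2 := s1.paste_vert sq
    exact MorphismProperty.of_isPullback (P := @IsClosedImmersion) s2 (hci i)
  have hcov : ∀ x : ↥(pullback h v), ∃ i, x ∈ Pi i := by
    intro x
    obtain ⟨⟨i, y⟩, hy⟩ := (sigmaMk (fun _ : I => U)).surjective (ζ (π x))
    refine ⟨i, (hmem i x).mpr ⟨y, ?_⟩⟩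
    rw [← hy, sigmaMk_mk]
  have hdis : ∀ (i j : I) (x : ↥(pullback h v)), x ∈ Pi i → x ∈ Pi j → i = j := by
    intro i j x hi hj
    by_contra hij
    have hd := disjoint_opensRange_sigmaι (fun _ : I => U) i j hij
    have hd' := TopologicalSpace.Opens.coe_disjoint.mpr hd
    exact Set.disjoint_left.mp hd' ((hmem i x).mp hi) ((hmem j x).mp hj)
  -- finitely many pieces suffice
  obtain ⟨t, ht⟩ := isCompact_univ.elim_finite_subcover (fun i => ((Pi i : (pullback h v).Opens) :
    Set ↥(pullback h v))) (fun i => (Pi i).isOpen) (by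
      intro x _
      obtain ⟨i, hi⟩ := hcov x
      exact Set.mem_iUnion.mpr ⟨i, hi⟩)
  have hcov' : ⨆ i : ↥t, ((Pi i.1).ι).opensRange = ⊤ := by
    rw [eq_top_iff]
    intro x _
    obtain ⟨i, hit, hxi⟩ := Set.mem_iUnion₂.mp (ht (Set.mem_univ x))
    refine TopologicalSpace.Opens.mem_iSup.mpr ⟨⟨i, hit⟩, ?_⟩
    rw [Scheme.Opens.opensRange_ι]
    exact hxi
  have hdisj' : Pairwise (Function.onFun Disjoint (fun i : ↥t => ((Pi i.1).ι).opensRange)) := by
    intro a b hab
    show Disjoint ((Pi a.1).ι).opensRange ((Pi b.1).ι).opensRange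
    rw [Scheme.Opens.opensRange_ι, Scheme.Opens.opensRange_ι]
    exact TopologicalSpace.Opens.coe_disjoint.mp (Set.disjoint_left.mpr
      (fun x hxa hxb => hab (Subtype.ext (hdis a.1 b.1 x hxa hxb))))
  obtain ⟨hc⟩ := nonempty_isColimit_cofanMk_of (fun i : ↥t => (Pi i.1).ι) hcov' hdisj'
  haveI : IsIso (Sigma.desc (fun i : ↥t => (Pi i.1).ι)) :=
    (Cofan.nonempty_isColimit_iff_isIso_sigmaDesc
      (Cofan.mk (pullback h v) (fun i : ↥t => (Pi i.1).ι))).mp ⟨hc⟩
  have e : Sigma.desc (fun i : ↥t => (Pi i.1).ι) ≫ hV =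
      Sigma.desc (fun i : ↥t => (Pi i.1).ι ≫ hV) := by
    apply Sigma.hom_ext
    intro i
    calc Sigma.ι _ i ≫ Sigma.desc (fun i : ↥t => (Pi i.1).ι) ≫ hV
        = (Sigma.ι _ i ≫ Sigma.desc (fun i : ↥t => (Pi i.1).ι)) ≫ hV :=
          (Category.assoc _ _ _).symm
      _ = (Pi i.1).ι ≫ hV := by rw [Sigma.ι_desc]
      _ = Sigma.ι _ i ≫ Sigma.desc (fun i : ↥t => (Pi i.1).ι ≫ hV) :=
          (Sigma.ι_desc (fun i : ↥t => (Pi i.1).ι ≫ hV) i).symm
  have hfin : IsFinite (Sigma.desc (fun i : ↥t => (Pi i.1).ι ≫ hV)) :=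
    SigmaFinH8.isFinite_sigmaDesc (↥t) (fun i : ↥t => ((Pi i.1).toScheme))
      (fun i : ↥t => (Pi i.1).ι ≫ hV) (fun i => by
        haveI := hcl i.1
        infer_instance)
  rw [← e] at hfin
  exact (MorphismProperty.cancel_left_of_respectsIso @IsFinite _ _).mp hfin

end Const

/-! ### A trivialised piece -/

theorem isFinite_over_trivialising {S U : Scheme.{u}} (R : Over S) {Z : Scheme.{u}}
    (z : Z ⟶ R.left) [IsClosedImmersion z] [QuasiCompact (z ≫ R.hom)] (j : U ⟶ S) (I : Type u)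
    (e : Red.bc j R ≅ TwC.const U I) : IsFinite (pullback.snd (z ≫ R.hom) j) := by
  obtain ⟨zj, hz1, hz2⟩ : ∃ zj : pullback (z ≫ R.hom) j ⟶ pullback R.hom j,
      zj ≫ pullback.fst R.hom j = pullback.fst (z ≫ R.hom) j ≫ z ∧
      zj ≫ pullback.snd R.hom j = pullback.snd (z ≫ R.hom) j :=
    ⟨pullback.lift (pullback.fst (z ≫ R.hom) j ≫ z) (pullback.snd (z ≫ R.hom) j)
      (by rw [Category.assoc, pullback.condition]), pullback.lift_fst _ _ _,
      pullback.lift_snd _ _ _⟩
  have sq : IsPullback (pullback.fst (z ≫ R.hom) j) zj z (pullback.fst R.hom j) := by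
    refine IsPullback.of_bot ?_ hz1.symm (IsPullback.of_hasPullback R.hom j)
    rw [hz2]
    exact IsPullback.of_hasPullback (z ≫ R.hom) j
  haveI : IsClosedImmersion zj :=
    MorphismProperty.of_isPullback (P := @IsClosedImmersion) sq ‹IsClosedImmersion z›
  haveI : IsIso e.hom.left := (inferInstance : IsIso ((Over.forget U).mapIso e).hom)
  obtain ⟨ζ, hζ⟩ : ∃ ζ : pullback (z ≫ R.hom) j ⟶ ∐ (fun _ : I => U), ζ = zj ≫ e.hom.left :=
    ⟨_, rfl⟩
  haveI : IsClosedImmersion ζ := by
    rw [hζ]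
    infer_instance
  have hw : e.hom.left ≫ Sigma.desc (fun _ : I => 𝟙 U) = pullback.snd R.hom j := Over.w e.hom
  have hh : ζ ≫ Sigma.desc (fun _ : I => 𝟙 U) = pullback.snd (z ≫ R.hom) j := by
    rw [hζ, Category.assoc, hw, hz2]
  refine IsZariskiLocalAtTarget.of_openCover (P := @IsFinite) U.affineCover (fun k => ?_)
  exact isFinite_pullback_const I ζ (pullback.snd (z ≫ R.hom) j) hh (U.affineCover.f k)

/-! ### The twisted case -/

/-- S5266. -/
theorem main5266 {S : Scheme.{u}} (R : Over S) (hR : TwC.IsTwConst TwC.Topology.fpqc R)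
    {Z : Scheme.{u}} (z : Z ⟶ R.left) [IsClosedImmersion z] [QuasiCompact (z ≫ R.hom)] :
    IsFinite (z ≫ R.hom) := by
  have hR' : ∃ (S' : Scheme.{u}) (f : S' ⟶ S), Flat f ∧ Surjective f ∧
      (∀ V : S.Opens, IsAffineOpen V → ∃ W : S'.Opens, IsCompact (W : Set S') ∧
        f.base '' (W : Set S') = (V : Set S)) ∧
      ∀ s' : S', ∃ U : S'.Opens, s' ∈ U ∧
        ∃ I : Type u, Nonempty (Red.bc (U.ι ≫ f) R ≅ TwC.const U I) := hR
  obtain ⟨S', f, hflat, hsurj, hcovq, hloc⟩ := hR'
  haveI := hflat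
  haveI := hsurj
  choose U hU I hI using hloc
  haveI := Groth.Agent.Lib.SchDescent_helper6.descendsAlong_isFinite.{u}
  obtain ⟨g, hg⟩ : ∃ g : Z ⟶ S, g = z ≫ R.hom := ⟨_, rfl⟩
  have ha : ∀ s' : S', IsFinite (pullback.snd g ((U s').ι ≫ f)) := by
    intro s'
    obtain ⟨e⟩ := hI s'
    rw [hg]
    exact isFinite_over_trivialising R z ((U s').ι ≫ f) (I s') e
  have hcovU : iSup (fun s' : S' => U s') = ⊤ :=
    eq_top_iff.mpr (fun x _ => TopologicalSpace.Opens.mem_iSup.mpr ⟨x, hU x⟩)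
  have hb : IsFinite (pullback.snd g f) := by
    refine IsZariskiLocalAtTarget.of_iSup_eq_top (P := @IsFinite) (fun s' : S' => U s') hcovU
      (fun s' => ?_)
    have s1 := isPullback_morphismRestrict (pullback.snd g f) (U s')
    have s2 := s1.flip.paste_horiz (IsPullback.of_hasPullback g f)
    exact (prop_iff_of_isPullback s2).mpr (ha s')
  have hd : ∀ V : S.Opens, IsAffineOpen V → IsFinite (pullback.snd g V.ι) := by
    intro V hV
    obtain ⟨W, hWc, hWV⟩ := hcovq V hV
    have hrange : Set.range (W.ι ≫ f) ⊆ Set.range V.ι := by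
      rintro _ ⟨⟨x, hx⟩, rfl⟩
      have hx' : f.base x ∈ (V : Set S) := by
        rw [← hWV]
        exact ⟨x, hx, rfl⟩
      exact ⟨⟨f.base x, hx'⟩, rfl⟩
    obtain ⟨fW, hfW⟩ : ∃ fW : (W : Scheme.{u}) ⟶ (V : Scheme.{u}), fW ≫ V.ι = W.ι ≫ f :=
      ⟨IsOpenImmersion.lift V.ι (W.ι ≫ f) hrange, IsOpenImmersion.lift_fac _ _ _⟩
    haveI : IsAffine (V : Scheme.{u}) := hV
    haveI : CompactSpace ↥(W : Scheme.{u}) := isCompact_iff_compactSpace.mp hWc
    haveI : QuasiCompact fW := (quasiCompact_iff_compactSpace fW).mpr inferInstance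
    haveI : Flat fW := by
      have sqW : IsPullback (𝟙 (W : Scheme.{u})) fW (W.ι ≫ f) V.ι :=
        IsPullback.of_horiz_isIso_mono ⟨by rw [Category.id_comp, hfW]⟩
      exact MorphismProperty.of_isPullback (P := @Flat) sqW inferInstance
    haveI : Surjective fW := ⟨fun y => by
      obtain ⟨y, hy⟩ := y
      have hy' : y ∈ f.base '' (W : Set S') := by
        rw [hWV]
        exact hy
      obtain ⟨x, hx, hxy⟩ := hy'
      refine ⟨⟨x, hx⟩, ?_⟩
      have e1 : (fW ≫ V.ι) ⟨x, hx⟩ = (W.ι ≫ f) ⟨x, hx⟩ := by rw [hfW]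
      exact Subtype.ext (e1.trans hxy)⟩
    have sqA := IsPullback.of_hasPullback fW (pullback.snd g V.ι)
    refine MorphismProperty.of_isPullback_of_descendsAlong (P := @IsFinite)
      (Q := (@Surjective ⊓ @Flat ⊓ @QuasiCompact : MorphismProperty Scheme.{u})) sqA
      ⟨⟨‹Surjective fW›, ‹Flat fW›⟩, ‹QuasiCompact fW›⟩ ?_
    have s3 := sqA.flip.paste_horiz (IsPullback.of_hasPullback g V.ι)
    rw [hfW] at s3
    exact (prop_iff_of_isPullback s3).mpr (snd_comp_of g f W.ι hb)
  rw [← hg]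
  refine IsZariskiLocalAtTarget.of_iSup_eq_top (P := @IsFinite)
    (fun V : S.affineOpens => (V : S.Opens)) (iSup_affineOpens_eq_top S) (fun V => ?_)
  exact (prop_iff_of_isPullback (isPullback_morphismRestrict g V.1).flip).mpr (hd V.1 V.2)

end Groth.Agent.Lib.TwConstFinH4
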