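import Mathlib
import Groth.Prelude
import Groth.Agent.Lib.MTHomLoc_helper4
import Groth.Agent.Lib.TwConstFin_helper4

/-!
# Homomorphisms of groups of multiplicative type: points, charts and base-change squares (helper4)
-/

set_option backward.isDefEq.respectTransparency.types false
set_option autoImplicit false
set_option linter.unusedVariables false
set_option linter.unusedTactic false
set_option linter.unreachableTactic false
set_option linter.unusedSectionVars false
set_option linter.style.haveILetI false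
set_option linter.deprecated false
set_option linter.unusedSimpArgs false
set_option linter.style.longLine false
set_option maxHeartbeats 1600000

universe u

open CategoryTheory CategoryTheory.Limits MonoidalCategory CartesianMonoidalCategory MonObj GrpObj
  AlgebraicGeometry Opposite

namespace Groth.Agent.Lib.MTHomH4

open Groth.Agent.Lib.RedDictH8 Groth.Agent.Lib.DSDict Groth.Agent.Lib.MultGa
  Groth.Agent.Lib.MultTrivH4 Groth.Agent.Lib.ConnActH4 Groth.Agent.Lib.TwConstFinH4

/-! ### Conjugating by bijections -/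

theorem conj_bij {α β α' β' : Type*} (EA : α ≃ α') (EB : β ≃ β') (f : α → β) (f' : α' → β')
    (h : ∀ x, EB (f x) = f' (EA x)) :
    (Function.Injective f ↔ Function.Injective f') ∧
      (Function.Surjective f ↔ Function.Surjective f') := by
  have hf : f = EB.symm ∘ f' ∘ EA := by
    funext x
    show f x = EB.symm (f' (EA x))
    rw [← h x, Equiv.symm_apply_apply]
  have hf' : f' = EB ∘ f ∘ EA.symm := by
    funext y
    show f' y = EB (f (EA.symm y))
    rw [h (EA.symm y), Equiv.apply_symm_apply]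
  constructor
  · constructor
    · intro hi
      rw [hf']
      exact EB.injective.comp (hi.comp EA.symm.injective)
    · intro hi
      rw [hf]
      exact EB.symm.injective.comp (hi.comp EA.injective)
  · constructor
    · intro hs
      rw [hf']
      exact EB.surjective.comp (hs.comp EA.symm.surjective)
    · intro hs
      rw [hf]
      exact EB.symm.surjective.comp (hs.comp EA.surjective)

/-! ### Monomorphisms and isomorphisms on points -/

section Points

variable {S : Scheme.{u}} {G H : Over S} (u : G ⟶ H)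

/-- `u` is injective on points with values in `T`-schemes. -/
def InjOn {T : Scheme.{u}} (g : T ⟶ S) : Prop :=
  ∀ T'' : Over T, Function.Injective (fun x : (Over.map g).obj T'' ⟶ G => x ≫ u)

/-- `u` is surjective on points with values in `T`-schemes. -/
def SurjOn {T : Scheme.{u}} (g : T ⟶ S) : Prop :=
  ∀ T'' : Over T, Function.Surjective (fun x : (Over.map g).obj T'' ⟶ G => x ≫ u)

theorem mono_iff_injOn {T : Scheme.{u}} (g : T ⟶ S) :
    Mono ((Over.pullback g).map u) ↔ InjOn u g := by
  constructor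
  · intro hm T'' x x' hxx
    have hxx' : x ≫ u = x' ≫ u := hxx
    have h1 : chk g (unchk g x ≫ (Over.pullback g).map u) =
        chk g (unchk g x' ≫ (Over.pullback g).map u) := by
      rw [chk_postcomp, chk_postcomp, chk_unchk, chk_unchk]
      exact hxx'
    have h2 := congrArg (fun w => unchk g w) h1
    simp only [unchk_chk] at h2
    have h3 : unchk g x = unchk g x' := (cancel_mono _).mp h2
    have h4 := congrArg (fun w => chk g w) h3
    simp only [chk_unchk] at h4
    exact h4
  · intro hi
    constructor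
    intro Z a b hab
    have h1 : chk g a ≫ u = chk g b ≫ u := by
      rw [← chk_postcomp, ← chk_postcomp, hab]
    have h2 : chk g a = chk g b := hi Z h1
    have h3 := congrArg (fun w => unchk g w) h2
    simp only [unchk_chk] at h3
    exact h3

theorem isIso_iff_injOn_surjOn {T : Scheme.{u}} (g : T ⟶ S) :
    IsIso ((Over.pullback g).map u) ↔ InjOn u g ∧ SurjOn u g := by
  constructor
  · intro hiso
    haveI := hiso
    refine ⟨(mono_iff_injOn u g).mp inferInstance, ?_⟩
    intro T'' y
    refine ⟨chk g (unchk g y ≫ inv ((Over.pullback g).map u)), ?_⟩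
    show chk g (unchk g y ≫ inv ((Over.pullback g).map u)) ≫ u = y
    rw [← chk_postcomp, Category.assoc, IsIso.inv_hom_id, Category.comp_id, chk_unchk]
  · rintro ⟨hi, hs⟩
    haveI : Mono ((Over.pullback g).map u) := (mono_iff_injOn u g).mpr hi
    obtain ⟨w0, hw0⟩ := hs ((Over.pullback g).obj H) (chk g (𝟙 _))
    have hw0' : w0 ≫ u = chk g (𝟙 ((Over.pullback g).obj H)) := hw0
    have h1 : unchk g w0 ≫ (Over.pullback g).map u = 𝟙 _ := by
      have h2 : chk g (unchk g w0 ≫ (Over.pullback g).map u) =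
          chk g (𝟙 ((Over.pullback g).obj H)) := by
        rw [chk_postcomp, chk_unchk, hw0']
      have h3 := congrArg (fun w => unchk g w) h2
      simp only [unchk_chk] at h3
      exact h3
    have h4 : (Over.pullback g).map u ≫ unchk g w0 = 𝟙 _ := by
      rw [← cancel_mono ((Over.pullback g).map u), Category.assoc, h1, Category.comp_id,
        Category.id_comp]
    exact ⟨⟨unchk g w0, h4, h1⟩⟩

theorem isIso_left_iff {T : Scheme.{u}} {A A' : Over T} (v : A ⟶ A') :
    IsIso v.left ↔ IsIso v := by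
  constructor
  · intro h
    haveI : IsIso ((Over.forget T).map v) := h
    exact isIso_of_reflects_iso v (Over.forget T)
  · intro h
    haveI := h
    exact inferInstanceAs (IsIso ((Over.forget T).map v))

theorem mono_left_iff {T : Scheme.{u}} {A A' : Over T} (v : A ⟶ A') :
    Mono v.left ↔ Mono v := by
  constructor
  · intro h
    haveI := h
    exact Over.mono_of_mono_left v
  · intro h
    haveI := h
    exact Over.mono_left_of_mono v

end Points

/-! ### Charts -/

section Chart

variable {S B : Scheme.{u}} {G H : Over S} [GrpObj G] [GrpObj H] (u : G ⟶ H) [IsMonHom u]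
  (jj : B ⟶ S) {M N : Type} [AddCommGroup M] [AddCommGroup N]
  (eG : PtIso G jj M) (eH : PtIso H jj N)

/-- the homomorphism `u` read in the charts. -/
noncomputable def nuOf (T' : Over B) (d : T' ⟶ Red.DS B M) : T' ⟶ Red.DS B N :=
  eH.toD T' (eG.ofD T' d ≫ u)

theorem nuOf_nat (T'' T' : Over B) (c : T'' ⟶ T') (x : T' ⟶ Red.DS B M) :
    c ≫ nuOf u jj eG eH T' x = nuOf u jj eG eH T'' (c ≫ x) := by
  show c ≫ eH.toD T' (eG.ofD T' x ≫ u) = eH.toD T'' (eG.ofD T'' (c ≫ x) ≫ u)
  rw [← eH.to_nat, ← Category.assoc, eG.of_nat]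

theorem nuOf_hom (T' : Over B) (x x' : T' ⟶ Red.DS B M) :
    nuOf u jj eG eH T' (x * x') = nuOf u jj eG eH T' x * nuOf u jj eG eH T' x' := by
  show eH.toD T' (eG.ofD T' (x * x') ≫ u) =
    eH.toD T' (eG.ofD T' x ≫ u) * eH.toD T' (eG.ofD T' x' ≫ u)
  rw [eG.of_mul, MonObj.mul_comp, eH.to_mul]

/-- points of `X` over `T`-schemes, read in a chart. -/
noncomputable def ptEquiv {X : Over S} [GrpObj X] {L : Type} [AddCommGroup L] (e : PtIso X jj L)
    {T : Scheme.{u}} (r : T ⟶ B) (T'' : Over T) :
    ((Over.map (r ≫ jj)).obj T'' ⟶ X) ≃ ((Over.map r).obj T'' ⟶ Red.DS B L) where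
  toFun x := e.toD ((Over.map r).obj T'') (sig jj r T'' ≫ x)
  invFun d := tau jj r T'' ≫ e.ofD ((Over.map r).obj T'') d
  left_inv x := by
    show tau jj r T'' ≫ e.ofD _ (e.toD _ (sig jj r T'' ≫ x)) = x
    rw [e.of_to, ← Category.assoc, tau_sig, Category.id_comp]
  right_inv d := by
    show e.toD _ (sig jj r T'' ≫ tau jj r T'' ≫ e.ofD _ d) = d
    rw [← Category.assoc, sig_tau, Category.id_comp, e.to_of]

theorem ptEquiv_comm {T : Scheme.{u}} (r : T ⟶ B) (T'' : Over T)
    (x : (Over.map (r ≫ jj)).obj T'' ⟶ G) :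
    ptEquiv jj eH r T'' (x ≫ u) =
      nuOf u jj eG eH ((Over.map r).obj T'') (ptEquiv jj eG r T'' x) := by
  show eH.toD _ (sig jj r T'' ≫ x ≫ u) =
    eH.toD _ (eG.ofD _ (eG.toD _ (sig jj r T'' ≫ x)) ≫ u)
  rw [eG.of_to, Category.assoc]

include eG eH in
/-- **Chart theorem.** -/
theorem chart_main (hN : AddGroup.FG N) (b : B) :
    ∃ (W₀ : B.Opens) (φ : N →+ M), b ∈ W₀ ∧
      (∀ {T : Scheme.{u}} (r : T ⟶ B), (∀ t : T, r.base t ∈ W₀) →
        (Function.Surjective φ → InjOn u (r ≫ jj)) ∧
        (Function.Bijective φ → SurjOn u (r ≫ jj))) ∧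
      (∀ (F : Type u) [Field F] (z : Spec (CommRingCat.of F) ⟶ B), (∀ t, z.base t ∈ W₀) →
        (InjOn u (z ≫ jj) → Function.Surjective φ) ∧
        (SurjOn u (z ≫ jj) → Function.Injective φ)) := by
  obtain ⟨W₀, φ, hb, hloc⟩ := local_const (nuOf u jj eG eH) (nuOf_nat u jj eG eH)
    (nuOf_hom u jj eG eH) hN b
  refine ⟨W₀, φ, hb, ?_, ?_⟩
  · intro T r hr
    have hZ : ∀ (T'' : Over T) (d : (Over.map r).obj T'' ⟶ Red.DS B M),
        nuOf u jj eG eH ((Over.map r).obj T'') d = d ≫ Red.DSmap B φ := fun T'' d =>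
      hloc ((Over.map r).obj T'') (fun z => hr _) d
    constructor
    · intro hφ T''
      have hc := conj_bij (ptEquiv jj eG r T'') (ptEquiv jj eH r T'') (fun x => x ≫ u)
        (nuOf u jj eG eH ((Over.map r).obj T'')) (ptEquiv_comm u jj eG eH r T'')
      refine hc.1.mpr ?_
      intro d d' hdd
      have hdd' : nuOf u jj eG eH ((Over.map r).obj T'') d =
          nuOf u jj eG eH ((Over.map r).obj T'') d' := hdd
      rw [hZ, hZ] at hdd'
      exact comp_DSmap_injective φ hφ _ d d' hdd'
    · intro hφ T''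
      have hc := conj_bij (ptEquiv jj eG r T'') (ptEquiv jj eH r T'') (fun x => x ≫ u)
        (nuOf u jj eG eH ((Over.map r).obj T'')) (ptEquiv_comm u jj eG eH r T'')
      refine hc.2.mpr ?_
      intro e
      obtain ⟨d, hd⟩ := comp_DSmap_surjective φ hφ ((Over.map r).obj T'') e
      refine ⟨d, ?_⟩
      rw [hZ]
      exact hd
  · intro F _ z hz
    have hZ : ∀ (C : Type u) [CommRing C] [Algebra F C] (d : TB z C ⟶ Red.DS B M),
        nuOf u jj eG eH (TB z C) d = d ≫ Red.DSmap B φ := fun C _ _ d =>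
      hloc (TB z C) (fun t => hz _) d
    constructor
    · intro hi
      apply surjective_of_inj z φ
      intro C _ _ d d' hdd
      have hc := conj_bij
        (ptEquiv jj eG z (Over.mk (Spec.map (CommRingCat.ofHom (algebraMap F C)))))
        (ptEquiv jj eH z (Over.mk (Spec.map (CommRingCat.ofHom (algebraMap F C)))))
        (fun x => x ≫ u)
        (nuOf u jj eG eH ((Over.map z).obj
          (Over.mk (Spec.map (CommRingCat.ofHom (algebraMap F C))))))
        (ptEquiv_comm u jj eG eH z _)
      have hinj : Function.Injective (nuOf u jj eG eH (TB z C)) :=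
        hc.1.mp (hi (Over.mk (Spec.map (CommRingCat.ofHom (algebraMap F C)))))
      apply hinj
      rw [hZ, hZ]
      exact hdd
    · intro hs
      apply injective_of_surj z φ
      intro C _ _ e
      have hc := conj_bij
        (ptEquiv jj eG z (Over.mk (Spec.map (CommRingCat.ofHom (algebraMap F C)))))
        (ptEquiv jj eH z (Over.mk (Spec.map (CommRingCat.ofHom (algebraMap F C)))))
        (fun x => x ≫ u)
        (nuOf u jj eG eH ((Over.map z).obj
          (Over.mk (Spec.map (CommRingCat.ofHom (algebraMap F C))))))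
        (ptEquiv_comm u jj eG eH z _)
      have hsurj : Function.Surjective (nuOf u jj eG eH (TB z C)) :=
        hc.2.mp (hs (Over.mk (Spec.map (CommRingCat.ofHom (algebraMap F C)))))
      obtain ⟨d, hd⟩ := hsurj e
      refine ⟨d, ?_⟩
      rw [← hZ]
      exact hd

end Chart

/-! ### Base change squares -/

section Squares

variable {S : Scheme.{u}} {G H : Over S} (u : G ⟶ H)

/-- the base change of `u` along `g`, on underlying schemes. -/
noncomputable abbrev bcL {T : Scheme.{u}} (g : T ⟶ S) : pullback G.hom g ⟶ pullback H.hom g :=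
  ((Over.pullback g).map u).left

theorem bcL_fst {T : Scheme.{u}} (g : T ⟶ S) :
    bcL u g ≫ pullback.fst H.hom g = pullback.fst G.hom g ≫ u.left :=
  pullback.lift_fst _ _ _

theorem bcL_snd {T : Scheme.{u}} (g : T ⟶ S) :
    bcL u g ≫ pullback.snd H.hom g = pullback.snd G.hom g :=
  pullback.lift_snd _ _ _

theorem sqL {T : Scheme.{u}} (g : T ⟶ S) :
    IsPullback (pullback.fst G.hom g) (bcL u g) u.left (pullback.fst H.hom g) := by
  have hbig : IsPullback (pullback.fst G.hom g) (bcL u g ≫ pullback.snd H.hom g)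
      (u.left ≫ H.hom) g := by
    rw [bcL_snd, Over.w u]
    exact IsPullback.of_hasPullback G.hom g
  exact IsPullback.of_bot hbig (bcL_fst u g).symm (IsPullback.of_hasPullback H.hom g)

/-- the canonical map `X ×_S T' ⟶ X ×_S T`. -/
noncomputable def qMap (X : Over S) {T T' : Scheme.{u}} (g : T ⟶ S) (h : T' ⟶ T) :
    pullback X.hom (h ≫ g) ⟶ pullback X.hom g :=
  pullback.lift (pullback.fst X.hom (h ≫ g)) (pullback.snd X.hom (h ≫ g) ≫ h)
    (by rw [pullback.condition, Category.assoc])

theorem qMap_fst (X : Over S) {T T' : Scheme.{u}} (g : T ⟶ S) (h : T' ⟶ T) :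
    qMap X g h ≫ pullback.fst X.hom g = pullback.fst X.hom (h ≫ g) :=
  pullback.lift_fst _ _ _

theorem qMap_snd (X : Over S) {T T' : Scheme.{u}} (g : T ⟶ S) (h : T' ⟶ T) :
    qMap X g h ≫ pullback.snd X.hom g = pullback.snd X.hom (h ≫ g) ≫ h :=
  pullback.lift_snd _ _ _

theorem sqQ (X : Over S) {T T' : Scheme.{u}} (g : T ⟶ S) (h : T' ⟶ T) :
    IsPullback (qMap X g h) (pullback.snd X.hom (h ≫ g)) (pullback.snd X.hom g) h := by
  have hbig : IsPullback (qMap X g h ≫ pullback.fst X.hom g) (pullback.snd X.hom (h ≫ g))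
      X.hom (h ≫ g) := by
    rw [qMap_fst]
    exact IsPullback.of_hasPullback X.hom (h ≫ g)
  exact IsPullback.of_right hbig (qMap_snd X g h) (IsPullback.of_hasPullback X.hom g)

theorem sqB {T T' : Scheme.{u}} (g : T ⟶ S) (h : T' ⟶ T) :
    IsPullback (qMap G g h) (bcL u (h ≫ g)) (bcL u g) (qMap H g h) := by
  have hcomm : qMap G g h ≫ bcL u g = bcL u (h ≫ g) ≫ qMap H g h := by
    apply pullback.hom_ext
    · rw [Category.assoc, bcL_fst, ← Category.assoc, qMap_fst, Category.assoc, qMap_fst, bcL_fst]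
    · rw [Category.assoc, bcL_snd, qMap_snd, Category.assoc, qMap_snd, ← Category.assoc, bcL_snd]
  have hbig : IsPullback (qMap G g h ≫ pullback.fst G.hom g) (bcL u (h ≫ g)) u.left
      (qMap H g h ≫ pullback.fst H.hom g) := by
    rw [qMap_fst, qMap_fst]
    exact sqL u (h ≫ g)
  exact IsPullback.of_right hbig hcomm (sqL u g)

theorem P_bc {P : MorphismProperty Scheme.{u}} [P.IsStableUnderBaseChange]
    {T T' : Scheme.{u}} (g : T ⟶ S) (h : T' ⟶ T) (hP : P (bcL u g)) : P (bcL u (h ≫ g)) :=
  MorphismProperty.of_isPullback (P := P) (sqB u g h) hP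

theorem P_desc {P : MorphismProperty Scheme.{u}}
    [P.DescendsAlong (@Surjective ⊓ @Flat ⊓ @QuasiCompact : MorphismProperty Scheme.{u})]
    {T T' : Scheme.{u}} (g : T ⟶ S) (h : T' ⟶ T) [Surjective h] [Flat h] [QuasiCompact h]
    (hP : P (bcL u (h ≫ g))) : P (bcL u g) := by
  have hq : (@Surjective ⊓ @Flat ⊓ @QuasiCompact : MorphismProperty Scheme.{u}) (qMap H g h) :=
    MorphismProperty.of_isPullback
      (P := (@Surjective ⊓ @Flat ⊓ @QuasiCompact : MorphismProperty Scheme.{u}))
      (sqQ H g h).flip ⟨⟨inferInstance, inferInstance⟩, inferInstance⟩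
  exact MorphismProperty.of_isPullback_of_descendsAlong (P := P)
    (Q := (@Surjective ⊓ @Flat ⊓ @QuasiCompact : MorphismProperty Scheme.{u}))
    (sqB u g h).flip hq hP

theorem P_local {P : MorphismProperty Scheme.{u}} [IsZariskiLocalAtTarget P]
    {T : Scheme.{u}} (g : T ⟶ S) {I : Type*} (V : I → T.Opens) (hV : iSup V = ⊤)
    (hP : ∀ i, P (bcL u ((V i).ι ≫ g))) : P (bcL u g) := by
  refine IsZariskiLocalAtTarget.of_iSup_eq_top (P := P)
    (fun i => pullback.snd H.hom g ⁻¹ᵁ V i) ?_ (fun i => ?_)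
  · refine eq_top_iff.mpr (fun x _ => ?_)
    have hx : (pullback.snd H.hom g).base x ∈ iSup V := by
      rw [hV]
      trivial
    obtain ⟨i, hi⟩ := TopologicalSpace.Opens.mem_iSup.mp hx
    exact TopologicalSpace.Opens.mem_iSup.mpr ⟨i, hi⟩
  · have A := sqQ H g (V i).ι
    have B' := (isPullback_morphismRestrict (pullback.snd H.hom g) (V i)).flip
    have he : (A.isoIsPullback _ _ B').hom ≫ (pullback.snd H.hom g ⁻¹ᵁ V i).ι =
        qMap H g (V i).ι := IsPullback.isoIsPullback_hom_fst _ _ A B'
    obtain ⟨e, hee⟩ : ∃ e : pullback H.hom ((V i).ι ≫ g) ≅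
        ((pullback.snd H.hom g ⁻¹ᵁ V i : (pullback H.hom g).Opens) : Scheme.{u}),
        e.hom ≫ (pullback.snd H.hom g ⁻¹ᵁ V i).ι = qMap H g (V i).ι := ⟨_, he⟩
    have D := (sqB u g (V i).ι).flip
    have D' : IsPullback (bcL u ((V i).ι ≫ g) ≫ e.hom) (qMap G g (V i).ι)
        (pullback.snd H.hom g ⁻¹ᵁ V i).ι (bcL u g) :=
      IsPullback.of_iso D (Iso.refl _) e (Iso.refl _) (Iso.refl _)
        (by simp) (by simp) (by simp [hee]) (by simp)
    have C := isPullback_morphismRestrict (bcL u g) (pullback.snd H.hom g ⁻¹ᵁ V i)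
    have h1 : P (bcL u ((V i).ι ≫ g) ≫ e.hom) :=
      (P.cancel_right_of_respectsIso _ _).mpr (hP i)
    exact (prop_iff_of_isPullback C.flip).mpr ((prop_iff_of_isPullback D'.flip).mp h1)

end Squares

end Groth.Agent.Lib.MTHomH4
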