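import Mathlib
import Groth.Prelude
import Groth.Agent.Lib.MTHomPts_helper4

/-!
# Homomorphisms of groups of multiplicative type: the loci where `u_s` is a monomorphism / an
isomorphism are open and closed (helper4)
-/

set_option backward.isDefEq.respectTransparency.types false
set_option autoImplicit false
set_option linter.unusedVariables false
set_option linter.unusedTactic false
set_option linter.unreachableTactic false
set_option linter.unusedSectionVars false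
set_option linter.style.haveILetI false
set_option linter.deprecated false
set_option linter.unusedSimpArgs false
set_option linter.style.longLine false
set_option maxHeartbeats 1600000

universe u

open CategoryTheory CategoryTheory.Limits MonoidalCategory CartesianMonoidalCategory MonObj GrpObj
  AlgebraicGeometry Opposite

namespace Groth.Agent.Lib.MTHomH4

open Groth.Agent.Lib.RedDictH8 Groth.Agent.Lib.DSDict Groth.Agent.Lib.MultGa
  Groth.Agent.Lib.MultTrivH4 Groth.Agent.Lib.ConnActH4 Groth.Agent.Lib.TwConstFinH4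

/-! ### Field extensions are fpqc -/

theorem flat_surj_qc_SpecMap_field {K L : Type u} [Field K] [Field L]
    (φ : CommRingCat.of K ⟶ CommRingCat.of L) :
    Flat (Spec.map φ) ∧ Surjective (Spec.map φ) ∧ QuasiCompact (Spec.map φ) := by
  refine ⟨?_, ?_, inferInstance⟩
  · rw [HasRingHomProperty.Spec_iff (P := @Flat)]
    letI : Algebra K L := φ.hom.toAlgebra
    exact (inferInstance : Module.Flat K L)
  · constructor
    intro y
    haveI : Subsingleton (PrimeSpectrum K) := inferInstance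
    refine ⟨(⟨⊥, Ideal.bot_prime⟩ : Spec (CommRingCat.of L)), ?_⟩
    exact Subsingleton.elim (α := PrimeSpectrum K) _ _

section FieldPt

variable {S : Scheme.{u}} {G H : Over S} (u : G ⟶ H)

theorem P_field_iff {P : MorphismProperty Scheme.{u}} [P.IsStableUnderBaseChange]
    [P.DescendsAlong (@Surjective ⊓ @Flat ⊓ @QuasiCompact : MorphismProperty Scheme.{u})]
    {X : Scheme.{u}} (F : X ⟶ S) (x : X) :
    P (bcL u (X.fromSpecResidueField x ≫ F)) ↔
      P (bcL u (S.fromSpecResidueField (F.base x))) := by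
  have e : X.fromSpecResidueField x ≫ F =
      Spec.map (F.residueFieldMap x) ≫ S.fromSpecResidueField (F.base x) :=
    (Scheme.Hom.SpecMap_residueFieldMap_fromSpecResidueField F x).symm
  rw [e]
  obtain ⟨h1, h2, h3⟩ := flat_surj_qc_SpecMap_field (K := S.residueField (F.base x))
    (L := X.residueField x) (F.residueFieldMap x)
  haveI := h1
  haveI := h2
  haveI := h3
  exact ⟨P_desc u _ _, P_bc u _ _⟩

end FieldPt

/-! ### Descent of open sets -/

theorem isOpen_of_cov {X S : Scheme.{u}} (F : X ⟶ S)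
    (hcov : ∀ V : S.Opens, IsAffineOpen V → ∃ (P' : Scheme.{u}) (p : P' ⟶ (V : Scheme.{u}))
      (m : P' ⟶ X), Flat p ∧ Surjective p ∧ QuasiCompact p ∧ m ≫ F = p ≫ V.ι)
    (A : Set S) (hA : IsOpen (F.base ⁻¹' A)) : IsOpen A := by
  rw [isOpen_iff_forall_mem_open]
  intro a ha
  obtain ⟨V, hV, haV, -⟩ := exists_isAffineOpen_mem_and_subset
    (x := a) (U := (⊤ : S.Opens)) trivial
  obtain ⟨P', p, m, hp1, hp2, hp3, hpm⟩ := hcov V hV
  haveI := hp1
  haveI := hp2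
  haveI := hp3
  have hq : Topology.IsQuotientMap p.base := Flat.isQuotientMap_of_surjective p
  have h1 : IsOpen (p.base ⁻¹' (V.ι.base ⁻¹' A)) := by
    have h2 : p.base ⁻¹' (V.ι.base ⁻¹' A) = m.base ⁻¹' (F.base ⁻¹' A) := by
      ext y
      show V.ι.base (p.base y) ∈ A ↔ F.base (m.base y) ∈ A
      have h3 : F.base (m.base y) = V.ι.base (p.base y) :=
        congrArg (fun g => g.base y) hpm
      rw [h3]
    rw [h2]
    exact hA.preimage m.continuous
  have h5 : IsOpen (V.ι.base ⁻¹' A) := hq.isOpen_preimage.mp h1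
  refine ⟨V.ι.base '' (V.ι.base ⁻¹' A), ?_, ?_, ?_⟩
  · rintro _ ⟨y, hy, rfl⟩
    exact hy
  · exact V.ι.isOpenEmbedding.isOpenMap _ h5
  · exact ⟨⟨a, haV⟩, ha, rfl⟩

/-! ### The core argument -/

theorem core {S : Scheme.{u}} {G H : Over S} (u : G ⟶ H) (P : MorphismProperty Scheme.{u})
    [P.IsStableUnderBaseChange] [IsZariskiLocalAtTarget P]
    [P.DescendsAlong (@Surjective ⊓ @Flat ⊓ @QuasiCompact : MorphismProperty Scheme.{u})]
    {X : Scheme.{u}} (F : X ⟶ S)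
    (hcov : ∀ V : S.Opens, IsAffineOpen V → ∃ (P' : Scheme.{u}) (p : P' ⟶ (V : Scheme.{u}))
      (m : P' ⟶ X), Flat p ∧ Surjective p ∧ QuasiCompact p ∧ m ≫ F = p ≫ V.ι)
    (hchart : ∀ x : X, ∃ O : X.Opens, x ∈ O ∧ ∃ Q : Prop,
      (Q → ∀ {T : Scheme.{u}} (r : T ⟶ X), (∀ t : T, r.base t ∈ O) → P (bcL u (r ≫ F))) ∧
      (∀ (K : Type u) [Field K] (z : Spec (CommRingCat.of K) ⟶ X), (∀ t, z.base t ∈ O) →
        P (bcL u (z ≫ F)) → Q)) :
    ∃ U : S.Opens, IsClosed (U : Set S) ∧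
      (∀ s : S, s ∈ U ↔ P (bcL u (S.fromSpecResidueField s))) ∧ P (bcL u U.ι) := by
  choose O hxO Q hQ1 hQ2 using hchart
  obtain ⟨A, hAdef⟩ : ∃ A : Set S, A = {s | P (bcL u (S.fromSpecResidueField s))} := ⟨_, rfl⟩
  have key : ∀ x x' : X, x' ∈ O x → (F.base x' ∈ A ↔ Q x) := by
    intro x x' hx'
    have hz : ∀ t, (X.fromSpecResidueField x').base t ∈ O x := by
      intro t
      have h1 : (X.fromSpecResidueField x').base t ∈ ({x'} : Set X) := by
        rw [← Scheme.range_fromSpecResidueField]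
        exact ⟨t, rfl⟩
      rw [Set.mem_singleton_iff.mp h1]
      exact hx'
    have hA' : F.base x' ∈ A ↔ P (bcL u (S.fromSpecResidueField (F.base x'))) := by
      rw [hAdef]
      exact Iff.rfl
    rw [hA', ← P_field_iff (P := P) u F x']
    constructor
    · intro h
      exact hQ2 x (X.residueField x') (X.fromSpecResidueField x') hz h
    · intro hq
      exact hQ1 x hq (X.fromSpecResidueField x') hz
  have hopen1 : IsOpen (F.base ⁻¹' A) := by
    rw [isOpen_iff_forall_mem_open]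
    intro x hx
    refine ⟨(O x : Set X), ?_, (O x).isOpen, hxO x⟩
    intro x' hx'
    have hq : Q x := (key x x (hxO x)).mp hx
    exact (key x x' hx').mpr hq
  have hopen2 : IsOpen (F.base ⁻¹' Aᶜ) := by
    rw [isOpen_iff_forall_mem_open]
    intro x hx
    refine ⟨(O x : Set X), ?_, (O x).isOpen, hxO x⟩
    intro x' hx' hx'A
    exact hx ((key x x (hxO x)).mpr ((key x x' hx').mp hx'A))
  have hAopen : IsOpen A := isOpen_of_cov F hcov A hopen1
  have hAclosed : IsClosed A := ⟨isOpen_of_cov F hcov Aᶜ hopen2⟩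
  obtain ⟨U, hU⟩ : ∃ U : S.Opens, (U : Set S) = A := ⟨⟨A, hAopen⟩, rfl⟩
  have hV : ∀ V : S.Opens, IsAffineOpen V → V ≤ U → P (bcL u V.ι) := by
    intro V hVaff hVU
    obtain ⟨P', p, m, hp1, hp2, hp3, hpm⟩ := hcov V hVaff
    haveI := hp1
    haveI := hp2
    haveI := hp3
    apply P_desc u V.ι p
    rw [← hpm]
    refine P_local u (m ≫ F) (fun y : P' => m ⁻¹ᵁ O (m.base y)) ?_ (fun y => ?_)
    · exact eq_top_iff.mpr (fun y _ =>
        TopologicalSpace.Opens.mem_iSup.mpr ⟨y, hxO (m.base y)⟩)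
    · rw [← Category.assoc]
      have hq : Q (m.base y) := by
        refine (key (m.base y) (m.base y) (hxO _)).mp ?_
        have h3 : F.base (m.base y) = V.ι.base (p.base y) :=
          congrArg (fun g => g.base y) hpm
        rw [h3, ← hU]
        exact hVU (p.base y).2
      exact hQ1 (m.base y) hq ((m ⁻¹ᵁ O (m.base y)).ι ≫ m) (fun t => t.2)
  refine ⟨U, ?_, ?_, ?_⟩
  · rw [hU]
    exact hAclosed
  · intro s
    have h1 : s ∈ U ↔ s ∈ A := by
      rw [← hU]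
      exact Iff.rfl
    rw [h1, hAdef]
    exact Iff.rfl
  · refine P_local u U.ι
      (fun V : {V : S.affineOpens // (V : S.Opens) ≤ U} => U.ι ⁻¹ᵁ (V.1 : S.Opens)) ?_
      (fun V => ?_)
    · refine eq_top_iff.mpr (fun y _ => ?_)
      obtain ⟨V, hVaff, hyV, hVU⟩ := exists_isAffineOpen_mem_and_subset (x := y.1) (U := U) y.2
      exact TopologicalSpace.Opens.mem_iSup.mpr ⟨⟨⟨V, hVaff⟩, hVU⟩, hyV⟩
    · rw [← morphismRestrict_ι]
      exact P_bc u (V.1 : S.Opens).ι (U.ι ∣_ (V.1 : S.Opens)) (hV V.1.1 V.1.2 V.2)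

/-! ### Pieces of fpqc coverings -/

theorem exists_fpqc_piece {X S : Scheme.{u}} (F : X ⟶ S) [Flat F] (V : S.Opens)
    (hV : IsAffineOpen V) (W : X.Opens) (hWc : IsCompact (W : Set X))
    (hWV : F.base '' (W : Set X) = (V : Set S)) :
    ∃ fW : (W : Scheme.{u}) ⟶ (V : Scheme.{u}), fW ≫ V.ι = W.ι ≫ F ∧ Flat fW ∧ Surjective fW ∧
      QuasiCompact fW := by
  have hrange : Set.range (W.ι ≫ F) ⊆ Set.range V.ι := by
    rintro _ ⟨⟨x, hx⟩, rfl⟩
    have hx' : F.base x ∈ (V : Set S) := by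
      rw [← hWV]
      exact ⟨x, hx, rfl⟩
    exact ⟨⟨F.base x, hx'⟩, rfl⟩
  obtain ⟨fW, hfW⟩ : ∃ fW : (W : Scheme.{u}) ⟶ (V : Scheme.{u}), fW ≫ V.ι = W.ι ≫ F :=
    ⟨IsOpenImmersion.lift V.ι (W.ι ≫ F) hrange, IsOpenImmersion.lift_fac _ _ _⟩
  haveI : IsAffine (V : Scheme.{u}) := hV
  haveI : CompactSpace ↥(W : Scheme.{u}) := isCompact_iff_compactSpace.mp hWc
  have hqc : QuasiCompact fW := (quasiCompact_iff_compactSpace fW).mpr inferInstance
  have hflat : Flat fW := by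
    have sqW : IsPullback (𝟙 (W : Scheme.{u})) fW (W.ι ≫ F) V.ι :=
      IsPullback.of_horiz_isIso_mono ⟨by rw [Category.id_comp, hfW]⟩
    exact MorphismProperty.of_isPullback (P := @Flat) sqW inferInstance
  have hsurj : Surjective fW := ⟨fun y => by
    obtain ⟨y, hy⟩ := y
    have hy' : y ∈ F.base '' (W : Set X) := by
      rw [hWV]
      exact hy
    obtain ⟨x, hx, hxy⟩ := hy'
    refine ⟨⟨x, hx⟩, ?_⟩
    have e1 : (fW ≫ V.ι) ⟨x, hx⟩ = (W.ι ≫ F) ⟨x, hx⟩ := by rw [hfW]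
    exact Subtype.ext (e1.trans hxy)⟩
  exact ⟨fW, hfW, hflat, hsurj, hqc⟩

/-! ### Charts for a homomorphism of groups of multiplicative type -/

theorem setup {S : Scheme.{u}} (G H : Over S) [GrpObj G] [GrpObj H]
    (hG : SGA3x.IsMultTypeFT G) (hH : SGA3x.IsMultTypeFT H) (u : G ⟶ H) [IsMonHom u] :
    ∃ (X : Scheme.{u}) (F : X ⟶ S),
      (∀ V : S.Opens, IsAffineOpen V → ∃ (P' : Scheme.{u}) (p : P' ⟶ (V : Scheme.{u}))
        (m : P' ⟶ X), Flat p ∧ Surjective p ∧ QuasiCompact p ∧ m ≫ F = p ≫ V.ι) ∧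
      ∀ x : X, ∃ O : X.Opens, x ∈ O ∧
        ∃ (M N : Type) (_ : AddCommGroup M) (_ : AddCommGroup N) (φ : N →+ M),
        (∀ {T : Scheme.{u}} (r : T ⟶ X), (∀ t : T, r.base t ∈ O) →
          (Function.Surjective φ → InjOn u (r ≫ F)) ∧
          (Function.Bijective φ → SurjOn u (r ≫ F))) ∧
        (∀ (K : Type u) [Field K] (z : Spec (CommRingCat.of K) ⟶ X), (∀ t, z.base t ∈ O) →
          (InjOn u (z ≫ F) → Function.Surjective φ) ∧
          (SurjOn u (z ≫ F) → Function.Injective φ)) := by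
  obtain ⟨S₁, f₁, hflat₁, hsurj₁, hcov₁, hloc₁⟩ := hG
  obtain ⟨S₂, f₂, hflat₂, hsurj₂, hcov₂, hloc₂⟩ := hH
  haveI := hflat₁
  haveI := hflat₂
  haveI := hsurj₁
  haveI := hsurj₂
  obtain ⟨F, hF⟩ : ∃ F : pullback f₁ f₂ ⟶ S, F = pullback.fst f₁ f₂ ≫ f₁ := ⟨_, rfl⟩
  refine ⟨pullback f₁ f₂, F, ?_, ?_⟩
  · intro V hV
    obtain ⟨W₁, hW₁c, hW₁V⟩ := hcov₁ V hV
    obtain ⟨W₂, hW₂c, hW₂V⟩ := hcov₂ V hV
    obtain ⟨fW₁, e₁, hfl₁, hsu₁, hqc₁⟩ := exists_fpqc_piece f₁ V hV W₁ hW₁c hW₁V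
    obtain ⟨fW₂, e₂, hfl₂, hsu₂, hqc₂⟩ := exists_fpqc_piece f₂ V hV W₂ hW₂c hW₂V
    haveI := hfl₁
    haveI := hsu₁
    haveI := hqc₁
    haveI := hfl₂
    haveI := hsu₂
    haveI := hqc₂
    obtain ⟨m, hm1, hm2⟩ : ∃ m : pullback fW₁ fW₂ ⟶ pullback f₁ f₂,
        m ≫ pullback.fst f₁ f₂ = pullback.fst fW₁ fW₂ ≫ W₁.ι ∧
        m ≫ pullback.snd f₁ f₂ = pullback.snd fW₁ fW₂ ≫ W₂.ι :=
      ⟨pullback.lift (pullback.fst fW₁ fW₂ ≫ W₁.ι) (pullback.snd fW₁ fW₂ ≫ W₂.ι) (by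
        rw [Category.assoc, Category.assoc, ← e₁, ← e₂, ← Category.assoc, ← Category.assoc,
          pullback.condition]), pullback.lift_fst _ _ _, pullback.lift_snd _ _ _⟩
    refine ⟨pullback fW₁ fW₂, pullback.fst fW₁ fW₂ ≫ fW₁, m, inferInstance, inferInstance,
      inferInstance, ?_⟩
    rw [hF, ← Category.assoc, hm1, Category.assoc, ← e₁, Category.assoc]
  · intro x
    obtain ⟨U₁, hs₁U, M, instM, hMfg, ⟨eA⟩⟩ := hloc₁ ((pullback.fst f₁ f₂).base x)
    obtain ⟨U₂, hs₂U, N, instN, hNfg, ⟨eB⟩⟩ := hloc₂ ((pullback.snd f₁ f₂).base x)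
    obtain ⟨a1, ainv, ha1, hainv, h1, h2⟩ := Groth.Agent.Lib.DiagHom.iso_data eA
    obtain ⟨b1, binv, hb1, hbinv, h1', h2'⟩ := Groth.Agent.Lib.DiagHom.iso_data eB
    haveI := ha1
    haveI := hainv
    haveI := hb1
    haveI := hbinv
    obtain ⟨B, hB⟩ : ∃ B : (pullback f₁ f₂).Opens,
        B = (pullback.fst f₁ f₂ ⁻¹ᵁ U₁) ⊓ (pullback.snd f₁ f₂ ⁻¹ᵁ U₂) := ⟨_, rfl⟩
    have hxB : x ∈ B := by
      rw [hB]
      exact ⟨hs₁U, hs₂U⟩
    have hB1 : ∀ y : ↥(pullback f₁ f₂), y ∈ B → (pullback.fst f₁ f₂).base y ∈ U₁ := by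
      intro y hy
      rw [hB] at hy
      exact hy.1
    have hB2 : ∀ y : ↥(pullback f₁ f₂), y ∈ B → (pullback.snd f₁ f₂).base y ∈ U₂ := by
      intro y hy
      rw [hB] at hy
      exact hy.2
    have hrange₁ : Set.range (B.ι ≫ pullback.fst f₁ f₂) ⊆ Set.range U₁.ι := by
      rintro _ ⟨⟨y, hy⟩, rfl⟩
      exact ⟨⟨(pullback.fst f₁ f₂).base y, hB1 y hy⟩, rfl⟩
    have hrange₂ : Set.range (B.ι ≫ pullback.snd f₁ f₂) ⊆ Set.range U₂.ι := by
      rintro _ ⟨⟨y, hy⟩, rfl⟩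
      exact ⟨⟨(pullback.snd f₁ f₂).base y, hB2 y hy⟩, rfl⟩
    obtain ⟨r₁, hr₁⟩ : ∃ r₁ : (B : Scheme.{u}) ⟶ (U₁ : Scheme.{u}),
        r₁ ≫ U₁.ι = B.ι ≫ pullback.fst f₁ f₂ :=
      ⟨IsOpenImmersion.lift U₁.ι (B.ι ≫ pullback.fst f₁ f₂) hrange₁,
        IsOpenImmersion.lift_fac _ _ _⟩
    obtain ⟨r₂, hr₂⟩ : ∃ r₂ : (B : Scheme.{u}) ⟶ (U₂ : Scheme.{u}),
        r₂ ≫ U₂.ι = B.ι ≫ pullback.snd f₁ f₂ :=
      ⟨IsOpenImmersion.lift U₂.ι (B.ι ≫ pullback.snd f₁ f₂) hrange₂,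
        IsOpenImmersion.lift_fac _ _ _⟩
    obtain ⟨jj, hjj⟩ : ∃ jj : (B : Scheme.{u}) ⟶ S, jj = B.ι ≫ F := ⟨_, rfl⟩
    obtain ⟨pG⟩ := exists_transport G (U₁.ι ≫ f₁) a1 ainv h1 h2 r₁ jj (by
      rw [hjj, hF, ← Category.assoc, hr₁, Category.assoc])
    obtain ⟨pH⟩ := exists_transport H (U₂.ι ≫ f₂) b1 binv h1' h2' r₂ jj (by
      rw [hjj, hF, ← Category.assoc, hr₂, Category.assoc, pullback.condition])
    obtain ⟨W₀, φ, hb, hc1, hc2⟩ := chart_main u jj pG pH hNfg (⟨x, hxB⟩ : B)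
    refine ⟨⟨B.ι.base '' (W₀ : Set B), B.ι.isOpenEmbedding.isOpenMap _ W₀.isOpen⟩,
      ⟨⟨x, hxB⟩, hb, rfl⟩, M, N, instM, instN, φ, ?_, ?_⟩
    · intro T r hr
      have hrange : Set.range r ⊆ Set.range B.ι := by
        rintro _ ⟨t, rfl⟩
        obtain ⟨w, -, hw⟩ := hr t
        exact ⟨w, hw⟩
      obtain ⟨r', hr'⟩ : ∃ r' : T ⟶ (B : Scheme.{u}), r' ≫ B.ι = r :=
        ⟨IsOpenImmersion.lift B.ι r hrange, IsOpenImmersion.lift_fac _ _ _⟩
      have hr'W : ∀ t : T, r'.base t ∈ W₀ := by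
        intro t
        obtain ⟨w, hwW, hw⟩ := hr t
        have h3 : B.ι.base (r'.base t) = r.base t := congrArg (fun g => g.base t) hr'
        have h4 : w = r'.base t := B.ι.isOpenEmbedding.injective (hw.trans h3.symm)
        rw [← h4]
        exact hwW
      have e : r' ≫ jj = r ≫ F := by
        rw [hjj, ← Category.assoc, hr']
      rw [← e]
      exact hc1 r' hr'W
    · intro K _ z hz
      have hrange : Set.range z ⊆ Set.range B.ι := by
        rintro _ ⟨t, rfl⟩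
        obtain ⟨w, -, hw⟩ := hz t
        exact ⟨w, hw⟩
      obtain ⟨z', hz'⟩ : ∃ z' : Spec (CommRingCat.of K) ⟶ (B : Scheme.{u}), z' ≫ B.ι = z :=
        ⟨IsOpenImmersion.lift B.ι z hrange, IsOpenImmersion.lift_fac _ _ _⟩
      have hz'W : ∀ t, z'.base t ∈ W₀ := by
        intro t
        obtain ⟨w, hwW, hw⟩ := hz t
        have h3 : B.ι.base (z'.base t) = z.base t := congrArg (fun g => g.base t) hz'
        have h4 : w = z'.base t := B.ι.isOpenEmbedding.injective (hw.trans h3.symm)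
        rw [← h4]
        exact hwW
      have e : z' ≫ jj = z ≫ F := by
        rw [hjj, ← Category.assoc, hz']
      rw [← e]
      exact hc2 K z' hz'W

/-! ### The main theorems -/

theorem main5275 {S : Scheme.{u}} (G H : Over S) [GrpObj G] [GrpObj H]
    (hG : SGA3x.IsMultTypeFT G) (hH : SGA3x.IsMultTypeFT H) (u : G ⟶ H) [IsMonHom u] :
    ∃ U : S.Opens, IsClosed (U : Set S) ∧
      (∀ s : S, s ∈ U ↔ IsIso ((Over.pullback (S.fromSpecResidueField s)).map u).left) ∧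
      IsIso ((Over.pullback U.ι).map u).left := by
  obtain ⟨X, F, hcov, hchart⟩ := setup G H hG hH u
  have hP : ∀ {T : Scheme.{u}} (g : T ⟶ S),
      (MorphismProperty.isomorphisms Scheme.{u}) (bcL u g) ↔ InjOn u g ∧ SurjOn u g := by
    intro T g
    rw [MorphismProperty.isomorphisms.iff]
    exact (isIso_left_iff _).trans (isIso_iff_injOn_surjOn u g)
  obtain ⟨U, hUc, hUmem, hUP⟩ := core u (MorphismProperty.isomorphisms Scheme.{u}) F hcov (by
    intro x
    obtain ⟨O, hxO, M, N, iM, iN, φ, h1, h2⟩ := hchart x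
    refine ⟨O, hxO, Function.Bijective φ, ?_, ?_⟩
    · intro hφ T r hr
      exact (hP _).mpr ⟨(h1 r hr).1 hφ.surjective, (h1 r hr).2 hφ⟩
    · intro K _ z hz hPz
      obtain ⟨hi, hs⟩ := (hP _).mp hPz
      exact ⟨(h2 K z hz).2 hs, (h2 K z hz).1 hi⟩)
  refine ⟨U, hUc, ?_, ?_⟩
  · intro s
    rw [hUmem s, MorphismProperty.isomorphisms.iff]
  · rw [MorphismProperty.isomorphisms.iff] at hUP
    exact hUP

theorem main5274 {S : Scheme.{u}} (G H : Over S) [GrpObj G] [GrpObj H]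
    (hG : SGA3x.IsMultTypeFT G) (hH : SGA3x.IsMultTypeFT H) (u : G ⟶ H) [IsMonHom u] :
    ∃ U : S.Opens, IsClosed (U : Set S) ∧
      (∀ s : S, s ∈ U ↔ Mono ((Over.pullback (S.fromSpecResidueField s)).map u).left) ∧
      Mono ((Over.pullback U.ι).map u).left := by
  obtain ⟨X, F, hcov, hchart⟩ := setup G H hG hH u
  haveI : (MorphismProperty.monomorphisms Scheme.{u}).DescendsAlong
      (@Surjective ⊓ @Flat ⊓ @QuasiCompact : MorphismProperty Scheme.{u}) := by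
    rw [← MorphismProperty.diagonal_isomorphisms]
    infer_instance
  have hP : ∀ {T : Scheme.{u}} (g : T ⟶ S),
      (MorphismProperty.monomorphisms Scheme.{u}) (bcL u g) ↔ InjOn u g := by
    intro T g
    rw [MorphismProperty.monomorphisms.iff]
    exact (mono_left_iff _).trans (mono_iff_injOn u g)
  obtain ⟨U, hUc, hUmem, hUP⟩ := core u (MorphismProperty.monomorphisms Scheme.{u}) F hcov (by
    intro x
    obtain ⟨O, hxO, M, N, iM, iN, φ, h1, h2⟩ := hchart x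
    refine ⟨O, hxO, Function.Surjective φ, ?_, ?_⟩
    · intro hφ T r hr
      exact (hP _).mpr ((h1 r hr).1 hφ)
    · intro K _ z hz hPz
      exact (h2 K z hz).1 ((hP _).mp hPz))
  refine ⟨U, hUc, ?_, ?_⟩
  · intro s
    rw [hUmem s, MorphismProperty.monomorphisms.iff]
  · rw [MorphismProperty.monomorphisms.iff] at hUP
    exact hUP

end Groth.Agent.Lib.MTHomH4
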