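import Mathlib
import Groth.Prelude
import Groth.Agent.Lib.MTHomMain_helper4

/-!
# Homomorphisms of groups of multiplicative type: the locus where `u_s` is faithfully flat is
open and closed (helper4)
-/

set_option backward.isDefEq.respectTransparency.types false
set_option autoImplicit false
set_option linter.unusedVariables false
set_option linter.unusedTactic false
set_option linter.unreachableTactic false
set_option linter.unusedSectionVars false
set_option linter.style.haveILetI false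
set_option linter.deprecated false
set_option linter.unusedSimpArgs false
set_option linter.style.longLine false
set_option maxHeartbeats 1600000

universe u

open CategoryTheory CategoryTheory.Limits MonoidalCategory CartesianMonoidalCategory MonObj GrpObj
  AlgebraicGeometry Opposite

namespace Groth.Agent.Lib.MTHomH4

open Groth.Agent.Lib.RedDictH8 Groth.Agent.Lib.DSDict Groth.Agent.Lib.MultGa
  Groth.Agent.Lib.MultTrivH4 Groth.Agent.Lib.ConnActH4 Groth.Agent.Lib.TwConstFinH4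

/-! ### Algebra: `R[M]` is faithfully flat over `R[N]` for `N ↪ M` -/

section Alg

variable {N M : Type} [AddCommGroup N] [AddCommGroup M]

theorem exists_coset_equiv (φ : N →+ M) (hφ : Function.Injective φ) :
    ∃ (Q : Type) (_ : Nonempty Q) (e : Q × N ≃ M),
      ∀ (q : Q) (n : N), e (q, n) = φ n + e (q, 0) := by
  obtain ⟨σ, hσ⟩ : ∃ σ : M ⧸ φ.range → M, ∀ q, QuotientAddGroup.mk' φ.range (σ q) = q :=
    ⟨Function.surjInv (QuotientAddGroup.mk'_surjective φ.range), Function.surjInv_eq _⟩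
  have hmem : ∀ m : M, ∃ n : N, φ n = m - σ (QuotientAddGroup.mk' φ.range m) := by
    intro m
    have h1 : QuotientAddGroup.mk' φ.range (m - σ (QuotientAddGroup.mk' φ.range m)) = 0 := by
      rw [map_sub, hσ, sub_self]
    exact AddMonoidHom.mem_range.mp ((QuotientAddGroup.eq_zero_iff _).mp h1)
  choose ν hν using hmem
  have hker : ∀ n : N, QuotientAddGroup.mk' φ.range (φ n) = 0 := fun n =>
    (QuotientAddGroup.eq_zero_iff (φ n)).mpr ⟨n, rfl⟩
  refine ⟨M ⧸ φ.range, ⟨0⟩,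
    ⟨fun p => σ p.1 + φ p.2, fun m => (QuotientAddGroup.mk' φ.range m, ν m), ?_, ?_⟩, ?_⟩
  · rintro ⟨q, n⟩
    have h1 : QuotientAddGroup.mk' φ.range (σ q + φ n) = q := by
      rw [map_add, hσ, hker, add_zero]
    have h2 : ν (σ q + φ n) = n := by
      apply hφ
      rw [hν, h1]
      abel
    show (QuotientAddGroup.mk' φ.range (σ q + φ n), ν (σ q + φ n)) = (q, n)
    exact Prod.ext h1 h2
  · intro m
    show σ (QuotientAddGroup.mk' φ.range m) + φ (ν m) = m
    rw [hν]
    abel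
  · intro q n
    show σ q + φ n = φ n + (σ q + φ 0)
    rw [map_zero, add_zero, add_comm]

/-- the auxiliary family of additive maps. -/
noncomputable def thetaFun (R : Type u) [CommRing R] {Q : Type} (e : Q × N ≃ M)
    (m' : Multiplicative M) : R →+ (Q →₀ MonoidAlgebra R (Multiplicative N)) :=
  (Finsupp.singleAddHom (e.symm (Multiplicative.toAdd m')).1).comp
    (MonoidAlgebra.singleAddHom (Multiplicative.ofAdd (e.symm (Multiplicative.toAdd m')).2))

/-- the inverse of the basis map. -/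
noncomputable def thetaHom (R : Type u) [CommRing R] {Q : Type} (e : Q × N ≃ M) :
    MonoidAlgebra R (Multiplicative M) →+ (Q →₀ MonoidAlgebra R (Multiplicative N)) :=
  (Finsupp.liftAddHom (thetaFun R e)).comp
    (MonoidAlgebra.coeffAddEquiv :
      MonoidAlgebra R (Multiplicative M) ≃+ (Multiplicative M →₀ R)).toAddMonoidHom

theorem thetaHom_single (R : Type u) [CommRing R] {Q : Type} (e : Q × N ≃ M) (q : Q) (n : N)
    (r : R) :
    thetaHom R e (MonoidAlgebra.single (Multiplicative.ofAdd (e (q, n))) r) =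
      Finsupp.single q (MonoidAlgebra.single (Multiplicative.ofAdd n) r) := by
  have h0 : e.symm (e (q, n)) = (q, n) := e.symm_apply_apply _
  have h1 : thetaHom R e (MonoidAlgebra.single (Multiplicative.ofAdd (e (q, n))) r) =
      Finsupp.single (e.symm (e (q, n))).1
        (MonoidAlgebra.single (Multiplicative.ofAdd (e.symm (e (q, n))).2) r) := by
    show Finsupp.liftAddHom (thetaFun R e)
      (Finsupp.single (Multiplicative.ofAdd (e (q, n))) r) = _
    rw [Finsupp.liftAddHom_apply_single]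
    rfl
  simp only [h1, h0]

theorem mapDomain_faithfullyFlat (R : Type u) [CommRing R] (φ : N →+ M)
    (hφ : Function.Injective φ) :
    (MonoidAlgebra.mapDomainAlgHom R R (AddMonoidHom.toMultiplicative φ)).toRingHom.FaithfullyFlat := by
  obtain ⟨Q, hQ, e, he⟩ := exists_coset_equiv φ hφ
  haveI := hQ
  obtain ⟨f, hf⟩ : ∃ f : MonoidAlgebra R (Multiplicative N) →+* MonoidAlgebra R (Multiplicative M),
      f = (MonoidAlgebra.mapDomainAlgHom R R (AddMonoidHom.toMultiplicative φ)).toRingHom :=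
    ⟨_, rfl⟩
  rw [← hf]
  have hfs : ∀ (n : N) (r : R), f (MonoidAlgebra.single (Multiplicative.ofAdd n) r) =
      MonoidAlgebra.single (Multiplicative.ofAdd (φ n)) r := by
    intro n r
    rw [hf]
    exact MonoidAlgebra.mapDomain_single
  letI : Algebra (MonoidAlgebra R (Multiplicative N)) (MonoidAlgebra R (Multiplicative M)) :=
    f.toAlgebra
  show Module.FaithfullyFlat (MonoidAlgebra R (Multiplicative N))
    (MonoidAlgebra R (Multiplicative M))
  obtain ⟨Ψ, hΨ⟩ : ∃ Ψ : (Q →₀ MonoidAlgebra R (Multiplicative N)) →ₗ[MonoidAlgebra R (Multiplicative N)]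
      MonoidAlgebra R (Multiplicative M),
      ∀ (q : Q) (a : MonoidAlgebra R (Multiplicative N)), Ψ (Finsupp.single q a) =
        f a * MonoidAlgebra.single (Multiplicative.ofAdd (e (q, 0))) 1 :=
    ⟨Finsupp.linearCombination (MonoidAlgebra R (Multiplicative N))
      (fun q => MonoidAlgebra.single (Multiplicative.ofAdd (e (q, 0))) (1 : R)), fun q a => by
      refine (Finsupp.linearCombination_single _ _ _).trans ?_
      rfl⟩
  have hΨs : ∀ (q : Q) (n : N) (r : R),
      Ψ (Finsupp.single q (MonoidAlgebra.single (Multiplicative.ofAdd n) r)) =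
        MonoidAlgebra.single (Multiplicative.ofAdd (e (q, n))) r := by
    intro q n r
    have h1 : Ψ (Finsupp.single q (MonoidAlgebra.single (Multiplicative.ofAdd n) r)) =
        MonoidAlgebra.single (Multiplicative.ofAdd (φ n)) r *
          MonoidAlgebra.single (Multiplicative.ofAdd (e (q, 0))) 1 := by
      rw [hΨ, hfs]
    have h2 : Multiplicative.ofAdd (φ n) * Multiplicative.ofAdd (e (q, 0)) =
        Multiplicative.ofAdd (e (q, n)) := by
      rw [he q n]
      rfl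
    rw [h1, MonoidAlgebra.single_mul_single, _root_.mul_one, h2]
  have hΘ : ∀ (q : Q) (n : N) (r : R),
      thetaHom R e (MonoidAlgebra.single (Multiplicative.ofAdd (e (q, n))) r) =
        Finsupp.single q (MonoidAlgebra.single (Multiplicative.ofAdd n) r) :=
    thetaHom_single R e
  have h1 : ∀ y : Q →₀ MonoidAlgebra R (Multiplicative N), thetaHom R e (Ψ y) = y := by
    intro y
    refine Finsupp.induction_linear (motive := fun y => thetaHom R e (Ψ y) = y) y ?_ ?_ ?_
    · show thetaHom R e (Ψ 0) = 0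
      rw [map_zero, map_zero]
    · intro y y' hy hy'
      show thetaHom R e (Ψ (y + y')) = y + y'
      rw [map_add, map_add, hy, hy']
    · intro q a
      refine MonoidAlgebra.induction_linear
        (motive := fun a => thetaHom R e (Ψ (Finsupp.single q a)) = Finsupp.single q a) a ?_ ?_ ?_
      · show thetaHom R e (Ψ (Finsupp.single q 0)) = Finsupp.single q 0
        rw [Finsupp.single_zero, map_zero, map_zero]
      · intro a a' ha ha'
        show thetaHom R e (Ψ (Finsupp.single q (a + a'))) = Finsupp.single q (a + a')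
        rw [Finsupp.single_add, map_add, map_add, ha, ha']
      · intro n' r
        show thetaHom R e (Ψ (Finsupp.single q (MonoidAlgebra.single n' r))) =
          Finsupp.single q (MonoidAlgebra.single n' r)
        exact (congrArg (thetaHom R e) (hΨs q (Multiplicative.toAdd n') r)).trans
          (hΘ q (Multiplicative.toAdd n') r)
  have h2 : ∀ x : MonoidAlgebra R (Multiplicative M), Ψ (thetaHom R e x) = x := by
    intro x
    refine MonoidAlgebra.induction_linear (motive := fun x => Ψ (thetaHom R e x) = x) x ?_ ?_ ?_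
    · show Ψ (thetaHom R e 0) = 0
      rw [map_zero, map_zero]
    · intro x x' hx hx'
      show Ψ (thetaHom R e (x + x')) = x + x'
      rw [map_add, map_add, hx, hx']
    · intro m' r
      obtain ⟨⟨q, n⟩, hqn⟩ : ∃ p : Q × N, e p = Multiplicative.toAdd m' :=
        ⟨e.symm _, e.apply_symm_apply _⟩
      have e0 : m' = Multiplicative.ofAdd (e (q, n)) :=
        (congrArg Multiplicative.ofAdd hqn).symm
      show Ψ (thetaHom R e (MonoidAlgebra.single m' r)) = MonoidAlgebra.single m' r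
      rw [e0]
      exact (congrArg Ψ (hΘ q n r)).trans (hΨs q n r)
  have hbij : Function.Bijective Ψ :=
    ⟨Function.LeftInverse.injective (g := thetaHom R e) h1,
      Function.RightInverse.surjective (g := thetaHom R e) h2⟩
  exact Module.FaithfullyFlat.of_linearEquiv _ _ (LinearEquiv.ofBijective Ψ hbij).symm

end Alg

/-! ### `D(φ)` is faithfully flat for injective `φ` -/

section DFlat

variable {N M : Type} [AddCommGroup N] [AddCommGroup M]

theorem P_diagMap (φ : N →+ M) (hφ : Function.Injective φ) :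
    (@Flat ⊓ @Surjective : MorphismProperty Scheme.{u}) (Red.diagMap (ULift.{u} ℤ) φ).left := by
  have h := (flat_and_surjective_SpecMap_iff (CommRingCat.ofHom
    (MonoidAlgebra.mapDomainAlgHom (ULift.{u} ℤ) (ULift.{u} ℤ)
      (AddMonoidHom.toMultiplicative φ)).toRingHom)).mpr
    (mapDomain_faithfullyFlat (ULift.{u} ℤ) φ hφ)
  exact h

theorem P_DSmap (B : Scheme.{u}) (φ : N →+ M) (hφ : Function.Injective φ) :
    (@Flat ⊓ @Surjective : MorphismProperty Scheme.{u}) (Red.DSmap B φ).left :=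
  MorphismProperty.of_isPullback (P := (@Flat ⊓ @Surjective : MorphismProperty Scheme.{u}))
    (sqL (Red.diagMap (ULift.{u} ℤ) φ) (Limits.IsTerminal.from specULiftZIsTerminal B))
    (P_diagMap φ hφ)

end DFlat

/-! ### Yoneda -/

section Yoneda

theorem yoneda_iso' {C : Type*} [Category C] {X Y : C} (Φ : ∀ T : C, (T ⟶ X) ≃ (T ⟶ Y))
    (hnat : ∀ (T' T : C) (c : T' ⟶ T) (x : T ⟶ X), Φ T' (c ≫ x) = c ≫ Φ T x) :
    ∃ a : X ≅ Y, ∀ (T : C) (x : T ⟶ X), Φ T x = x ≫ a.hom := by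
  have hpt : ∀ (T : C) (x : T ⟶ X), Φ T x = x ≫ Φ X (𝟙 X) := by
    intro T x
    rw [← hnat, Category.comp_id]
  have h1 : Φ X (𝟙 X) ≫ (Φ Y).symm (𝟙 Y) = 𝟙 X := by
    apply (Φ X).injective
    rw [hnat, Equiv.apply_symm_apply, Category.comp_id]
  have h2 : (Φ Y).symm (𝟙 Y) ≫ Φ X (𝟙 X) = 𝟙 Y := by
    rw [← hpt, Equiv.apply_symm_apply]
  exact ⟨⟨Φ X (𝟙 X), (Φ Y).symm (𝟙 Y), h1, h2⟩, hpt⟩

theorem unchk_postcomp {S U : Scheme.{u}} (jj : U ⟶ S) {X Y : Over S} (v : X ⟶ Y) {T' : Over U}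
    (x : (Over.map jj).obj T' ⟶ X) :
    unchk jj (x ≫ v) = unchk jj x ≫ (Over.pullback jj).map v := by
  have h : chk jj (unchk jj x ≫ (Over.pullback jj).map v) = chk jj (unchk jj (x ≫ v)) := by
    rw [chk_postcomp, chk_unchk, chk_unchk]
  have h2 := congrArg (fun w => unchk jj w) h
  simp only [unchk_chk] at h2
  exact h2.symm

theorem P_of_sq {T : Scheme.{u}} {A A' D D' : Over T} (v : A ⟶ A') (δ : D ⟶ D') (aG : A ≅ D)
    (aH : A' ≅ D') (h : v ≫ aH.hom = aG.hom ≫ δ) (P : MorphismProperty Scheme.{u})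
    [P.RespectsIso] : P v.left ↔ P δ.left := by
  haveI : IsIso aG.hom.left := inferInstanceAs (IsIso ((Over.forget T).map aG.hom))
  haveI : IsIso aH.hom.left := inferInstanceAs (IsIso ((Over.forget T).map aH.hom))
  have h' : v.left ≫ aH.hom.left = aG.hom.left ≫ δ.left := congrArg (fun w => w.left) h
  have hmid : P (v.left ≫ aH.hom.left) ↔ P (aG.hom.left ≫ δ.left) := by rw [h']
  exact ((P.cancel_right_of_respectsIso v.left aH.hom.left).symm.trans hmid).trans
    (P.cancel_left_of_respectsIso aG.hom.left δ.left)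

end Yoneda

/-! ### Charts, on the level of schemes -/

section Chart2

variable {S B : Scheme.{u}} {G H : Over S} [GrpObj G] [GrpObj H] (u : G ⟶ H) [IsMonHom u]
  (jj : B ⟶ S) {M N : Type} [AddCommGroup M] [AddCommGroup N]
  (eG : PtIso G jj M) (eH : PtIso H jj N)

theorem ptEquiv_nat {X : Over S} [GrpObj X] {L : Type} [AddCommGroup L] (e : PtIso X jj L)
    {T : Scheme.{u}} (r : T ⟶ B) {T''' T'' : Over T} (c : T''' ⟶ T'')
    (y : (Over.map (r ≫ jj)).obj T'' ⟶ X) :
    ptEquiv jj e r T''' ((Over.map (r ≫ jj)).map c ≫ y) =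
      (Over.map r).map c ≫ ptEquiv jj e r T'' y := by
  show e.toD ((Over.map r).obj T''') (sig jj r T''' ≫ (Over.map (r ≫ jj)).map c ≫ y) =
    (Over.map r).map c ≫ e.toD ((Over.map r).obj T'') (sig jj r T'' ≫ y)
  rw [← Category.assoc, sig_nat, Category.assoc, e.to_nat]

/-- points of the base change of `X`, read in a chart, as points of the base change of
`D_B(L)`. -/
noncomputable def ptE {X : Over S} [GrpObj X] {L : Type} [AddCommGroup L] (e : PtIso X jj L)
    {T : Scheme.{u}} (r : T ⟶ B) (T'' : Over T) :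
    (T'' ⟶ (Over.pullback (r ≫ jj)).obj X) ≃ (T'' ⟶ (Over.pullback r).obj (Red.DS B L)) where
  toFun x := unchk r (ptEquiv jj e r T'' (chk (r ≫ jj) x))
  invFun d := unchk (r ≫ jj) ((ptEquiv jj e r T'').symm (chk r d))
  left_inv x := by
    show unchk (r ≫ jj) ((ptEquiv jj e r T'').symm
      (chk r (unchk r (ptEquiv jj e r T'' (chk (r ≫ jj) x))))) = x
    rw [chk_unchk, Equiv.symm_apply_apply, unchk_chk]
  right_inv d := by
    show unchk r (ptEquiv jj e r T''
      (chk (r ≫ jj) (unchk (r ≫ jj) ((ptEquiv jj e r T'').symm (chk r d))))) = d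
    rw [chk_unchk, Equiv.apply_symm_apply, unchk_chk]

theorem ptE_nat {X : Over S} [GrpObj X] {L : Type} [AddCommGroup L] (e : PtIso X jj L)
    {T : Scheme.{u}} (r : T ⟶ B) (T''' T'' : Over T) (c : T''' ⟶ T'')
    (x : T'' ⟶ (Over.pullback (r ≫ jj)).obj X) :
    ptE jj e r T''' (c ≫ x) = c ≫ ptE jj e r T'' x := by
  show unchk r (ptEquiv jj e r T''' (chk (r ≫ jj) (c ≫ x))) =
    c ≫ unchk r (ptEquiv jj e r T'' (chk (r ≫ jj) x))
  rw [chk_comp, ptEquiv_nat, unchk_comp]

theorem ptE_comm {T : Scheme.{u}} (r : T ⟶ B) (φ : N →+ M)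
    (hZ : ∀ (T'' : Over T) (d : (Over.map r).obj T'' ⟶ Red.DS B M),
      nuOf u jj eG eH ((Over.map r).obj T'') d = d ≫ Red.DSmap B φ)
    (T'' : Over T) (x : T'' ⟶ (Over.pullback (r ≫ jj)).obj G) :
    ptE jj eH r T'' (x ≫ (Over.pullback (r ≫ jj)).map u) =
      ptE jj eG r T'' x ≫ (Over.pullback r).map (Red.DSmap B φ) := by
  show unchk r (ptEquiv jj eH r T'' (chk (r ≫ jj) (x ≫ (Over.pullback (r ≫ jj)).map u))) =
    unchk r (ptEquiv jj eG r T'' (chk (r ≫ jj) x)) ≫ (Over.pullback r).map (Red.DSmap B φ)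
  rw [chk_postcomp, ptEquiv_comm u jj eG eH r T'', hZ, unchk_postcomp]

include eG eH in
/-- **Chart theorem, scheme version.** -/
theorem chart_iso (hN : AddGroup.FG N) (b : B) :
    ∃ (W₀ : B.Opens) (φ : N →+ M), b ∈ W₀ ∧
      ∀ {T : Scheme.{u}} (r : T ⟶ B), (∀ t : T, r.base t ∈ W₀) →
        ∃ (aG : (Over.pullback (r ≫ jj)).obj G ≅ (Over.pullback r).obj (Red.DS B M))
          (aH : (Over.pullback (r ≫ jj)).obj H ≅ (Over.pullback r).obj (Red.DS B N)),
          (Over.pullback (r ≫ jj)).map u ≫ aH.hom =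
            aG.hom ≫ (Over.pullback r).map (Red.DSmap B φ) := by
  obtain ⟨W₀, φ, hb, hloc⟩ := local_const (nuOf u jj eG eH) (nuOf_nat u jj eG eH)
    (nuOf_hom u jj eG eH) hN b
  refine ⟨W₀, φ, hb, ?_⟩
  intro T r hr
  have hZ : ∀ (T'' : Over T) (d : (Over.map r).obj T'' ⟶ Red.DS B M),
      nuOf u jj eG eH ((Over.map r).obj T'') d = d ≫ Red.DSmap B φ := fun T'' d =>
    hloc ((Over.map r).obj T'') (fun z => hr _) d
  obtain ⟨aG, haG⟩ := yoneda_iso' (ptE jj eG r) (ptE_nat jj eG r)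
  obtain ⟨aH, haH⟩ := yoneda_iso' (ptE jj eH r) (ptE_nat jj eH r)
  refine ⟨aG, aH, ?_⟩
  have e1 : (Over.pullback (r ≫ jj)).map u ≫ aH.hom =
      ptE jj eH r _ (𝟙 _ ≫ (Over.pullback (r ≫ jj)).map u) := by
    rw [Category.id_comp, haH]
  have e2 : ptE jj eG r _ (𝟙 ((Over.pullback (r ≫ jj)).obj G)) = aG.hom := by
    rw [haG, Category.id_comp]
  rw [e1, ptE_comm u jj eG eH r φ hZ, e2]

include eG eH in
theorem chart_P (hN : AddGroup.FG N) (b : B) :
    ∃ (W₀ : B.Opens) (φ : N →+ M), b ∈ W₀ ∧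
      ∀ {T : Scheme.{u}} (r : T ⟶ B), (∀ t : T, r.base t ∈ W₀) →
        ∀ (P : MorphismProperty Scheme.{u}) [P.RespectsIso],
          P (bcL u (r ≫ jj)) ↔ P (bcL (Red.DSmap B φ) r) := by
  obtain ⟨W₀, φ, hb, hch⟩ := chart_iso u jj eG eH hN b
  refine ⟨W₀, φ, hb, ?_⟩
  intro T r hr P _
  obtain ⟨aG, aH, hsq⟩ := hch r hr
  exact P_of_sq _ _ aG aH hsq P

end Chart2

/-! ### Field points: faithfully flat implies injective on characters -/

section FieldInj

variable {B : Scheme.{u}} {M N : Type} [AddCommGroup M] [AddCommGroup N]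

theorem DSmap_comp_eq (φ : N →+ M) (ψ₁ ψ₂ : ℤ →+ N) (h : ∀ k, φ (ψ₁ k) = φ (ψ₂ k)) :
    Red.DSmap B φ ≫ Red.DSmap B ψ₁ = Red.DSmap B φ ≫ Red.DSmap B ψ₂ := by
  have key : ∀ (ψ : ℤ →+ N) (k : ℤ), chr (Red.DSmap B φ ≫ Red.DSmap B ψ) k =
      chr (𝟙 (Red.DS B M)) (φ (ψ k)) := by
    intro ψ k
    rw [chr_DSmap ψ (Red.DSmap B φ) k, ← chr_DSmap φ (𝟙 (Red.DS B M)) (ψ k), Category.id_comp]
  apply chr_injective
  intro k
  rw [key, key, h]

variable {F : Type u} [Field F] (z : Spec (CommRingCat.of F) ⟶ B)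

theorem injective_of_epi (φ : N →+ M) (hepi : Epi (bcL (Red.DSmap B φ) z)) :
    Function.Injective φ := by
  intro n n' hnn
  have hψ : ∀ k : ℤ, φ (zmultiplesHom N n k) = φ (zmultiplesHom N n' k) := by
    intro k
    rw [zmultiplesHom_apply, zmultiplesHom_apply, map_zsmul, map_zsmul, hnn]
  have h1 : Red.DSmap B φ ≫ Red.DSmap B (zmultiplesHom N n) =
      Red.DSmap B φ ≫ Red.DSmap B (zmultiplesHom N n') := DSmap_comp_eq φ _ _ hψ
  have h2 : (Over.pullback z).map (Red.DSmap B φ) ≫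
        (Over.pullback z).map (Red.DSmap B (zmultiplesHom N n)) =
      (Over.pullback z).map (Red.DSmap B φ) ≫
        (Over.pullback z).map (Red.DSmap B (zmultiplesHom N n')) := by
    rw [← Functor.map_comp, ← Functor.map_comp, h1]
  haveI : Epi ((Over.pullback z).map (Red.DSmap B φ)).left := hepi
  haveI : Epi ((Over.pullback z).map (Red.DSmap B φ)) := Over.epi_of_epi_left _
  have h3 : (Over.pullback z).map (Red.DSmap B (zmultiplesHom N n)) =
      (Over.pullback z).map (Red.DSmap B (zmultiplesHom N n')) := (cancel_epi _).mp h2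
  obtain ⟨E, hE⟩ : ∃ E : (Over.map z).obj (Over.mk (Spec.map
      (CommRingCat.ofHom (algebraMap F (MonoidAlgebra F (Multiplicative N)))))) ⟶ Red.DS B N,
      ∀ m : N, chr E m = (Scheme.ΓSpecIso (CommRingCat.of (MonoidAlgebra F (Multiplicative N)))).inv
        (MonoidAlgebra.of F (Multiplicative N) (Multiplicative.ofAdd m)) :=
    ⟨pt z (MonoidAlgebra.of F (Multiplicative N)), fun m => chr_pt z _ m⟩
  have h4 : E ≫ Red.DSmap B (zmultiplesHom N n) = E ≫ Red.DSmap B (zmultiplesHom N n') := by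
    have h5 : unchk z (E ≫ Red.DSmap B (zmultiplesHom N n)) =
        unchk z (E ≫ Red.DSmap B (zmultiplesHom N n')) := by
      rw [unchk_postcomp, unchk_postcomp, h3]
    have h6 := congrArg (fun w => chk z w) h5
    simp only [chk_unchk] at h6
    exact h6
  have h7 : chr E n = chr E n' := by
    have e1 := chr_DSmap (zmultiplesHom N n) E 1
    have e2 := chr_DSmap (zmultiplesHom N n') E 1
    rw [zmultiplesHom_apply, one_zsmul] at e1 e2
    rw [← e1, ← e2, h4]
  rw [hE, hE] at h7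
  have h8 := congrArg (fun w =>
    (Scheme.ΓSpecIso (CommRingCat.of (MonoidAlgebra F (Multiplicative N)))).hom w) h7
  have e1 := Iso.inv_hom_id_apply
    (Scheme.ΓSpecIso (CommRingCat.of (MonoidAlgebra F (Multiplicative N))))
    (MonoidAlgebra.of F (Multiplicative N) (Multiplicative.ofAdd n))
  have e2 := Iso.inv_hom_id_apply
    (Scheme.ΓSpecIso (CommRingCat.of (MonoidAlgebra F (Multiplicative N))))
    (MonoidAlgebra.of F (Multiplicative N) (Multiplicative.ofAdd n'))
  have h9 : MonoidAlgebra.of F (Multiplicative N) (Multiplicative.ofAdd n) =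
      MonoidAlgebra.of F (Multiplicative N) (Multiplicative.ofAdd n') :=
    e1.symm.trans (h8.trans e2)
  exact Multiplicative.ofAdd.injective (MonoidAlgebra.of_injective h9)

end FieldInj

/-! ### Descent of flatness -/

lemma ringHom_flat_codescendsAlong_faithfullyFlat' :
    RingHom.CodescendsAlong RingHom.Flat RingHom.FaithfullyFlat := by
  refine .mk _ RingHom.Flat.respectsIso fun R S T _ _ _ _ _ h h' ↦ ?_
  rw [RingHom.flat_algebraMap_iff] at h' ⊢
  rw [RingHom.faithfullyFlat_algebraMap_iff] at h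
  exact Module.Flat.of_flat_tensorProduct R T S

theorem flat_descendsAlong' : MorphismProperty.DescendsAlong (@Flat : MorphismProperty Scheme.{u})
    (@Surjective ⊓ @Flat ⊓ @QuasiCompact) :=
  HasRingHomProperty.descendsAlong_flat ringHom_flat_codescendsAlong_faithfullyFlat'

/-! ### Charts for groups of multiplicative type -/

theorem setup_raw {S : Scheme.{u}} (G H : Over S) [GrpObj G] [GrpObj H]
    (hG : SGA3x.IsMultTypeFT G) (hH : SGA3x.IsMultTypeFT H) :
    ∃ (X : Scheme.{u}) (F : X ⟶ S),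
      (∀ V : S.Opens, IsAffineOpen V → ∃ (P' : Scheme.{u}) (p : P' ⟶ (V : Scheme.{u}))
        (m : P' ⟶ X), Flat p ∧ Surjective p ∧ QuasiCompact p ∧ m ≫ F = p ≫ V.ι) ∧
      ∀ x : X, ∃ Bo : X.Opens, x ∈ Bo ∧
        ∃ (M N : Type) (_ : AddCommGroup M) (_ : AddCommGroup N), AddGroup.FG N ∧
          Nonempty (PtIso G (Bo.ι ≫ F) M) ∧ Nonempty (PtIso H (Bo.ι ≫ F) N) := by
  obtain ⟨S₁, f₁, hflat₁, hsurj₁, hcov₁, hloc₁⟩ := hG
  obtain ⟨S₂, f₂, hflat₂, hsurj₂, hcov₂, hloc₂⟩ := hH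
  haveI := hflat₁
  haveI := hflat₂
  haveI := hsurj₁
  haveI := hsurj₂
  obtain ⟨F, hF⟩ : ∃ F : pullback f₁ f₂ ⟶ S, F = pullback.fst f₁ f₂ ≫ f₁ := ⟨_, rfl⟩
  refine ⟨pullback f₁ f₂, F, ?_, ?_⟩
  · intro V hV
    obtain ⟨W₁, hW₁c, hW₁V⟩ := hcov₁ V hV
    obtain ⟨W₂, hW₂c, hW₂V⟩ := hcov₂ V hV
    obtain ⟨fW₁, e₁, hfl₁, hsu₁, hqc₁⟩ := exists_fpqc_piece f₁ V hV W₁ hW₁c hW₁V
    obtain ⟨fW₂, e₂, hfl₂, hsu₂, hqc₂⟩ := exists_fpqc_piece f₂ V hV W₂ hW₂c hW₂V
    haveI := hfl₁
    haveI := hsu₁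
    haveI := hqc₁
    haveI := hfl₂
    haveI := hsu₂
    haveI := hqc₂
    obtain ⟨m, hm1, hm2⟩ : ∃ m : pullback fW₁ fW₂ ⟶ pullback f₁ f₂,
        m ≫ pullback.fst f₁ f₂ = pullback.fst fW₁ fW₂ ≫ W₁.ι ∧
        m ≫ pullback.snd f₁ f₂ = pullback.snd fW₁ fW₂ ≫ W₂.ι :=
      ⟨pullback.lift (pullback.fst fW₁ fW₂ ≫ W₁.ι) (pullback.snd fW₁ fW₂ ≫ W₂.ι) (by
        rw [Category.assoc, Category.assoc, ← e₁, ← e₂, ← Category.assoc, ← Category.assoc,
          pullback.condition]), pullback.lift_fst _ _ _, pullback.lift_snd _ _ _⟩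
    refine ⟨pullback fW₁ fW₂, pullback.fst fW₁ fW₂ ≫ fW₁, m, inferInstance, inferInstance,
      inferInstance, ?_⟩
    rw [hF, ← Category.assoc, hm1, Category.assoc, ← e₁, Category.assoc]
  · intro x
    obtain ⟨U₁, hs₁U, M, instM, hMfg, ⟨eA⟩⟩ := hloc₁ ((pullback.fst f₁ f₂).base x)
    obtain ⟨U₂, hs₂U, N, instN, hNfg, ⟨eB⟩⟩ := hloc₂ ((pullback.snd f₁ f₂).base x)
    obtain ⟨a1, ainv, ha1, hainv, h1, h2⟩ := Groth.Agent.Lib.DiagHom.iso_data eA
    obtain ⟨b1, binv, hb1, hbinv, h1', h2'⟩ := Groth.Agent.Lib.DiagHom.iso_data eB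
    haveI := ha1
    haveI := hainv
    haveI := hb1
    haveI := hbinv
    obtain ⟨B, hB⟩ : ∃ B : (pullback f₁ f₂).Opens,
        B = (pullback.fst f₁ f₂ ⁻¹ᵁ U₁) ⊓ (pullback.snd f₁ f₂ ⁻¹ᵁ U₂) := ⟨_, rfl⟩
    have hxB : x ∈ B := by
      rw [hB]
      exact ⟨hs₁U, hs₂U⟩
    have hB1 : ∀ y : ↥(pullback f₁ f₂), y ∈ B → (pullback.fst f₁ f₂).base y ∈ U₁ := by
      intro y hy
      rw [hB] at hy
      exact hy.1
    have hB2 : ∀ y : ↥(pullback f₁ f₂), y ∈ B → (pullback.snd f₁ f₂).base y ∈ U₂ := by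
      intro y hy
      rw [hB] at hy
      exact hy.2
    have hrange₁ : Set.range (B.ι ≫ pullback.fst f₁ f₂) ⊆ Set.range U₁.ι := by
      rintro _ ⟨⟨y, hy⟩, rfl⟩
      exact ⟨⟨(pullback.fst f₁ f₂).base y, hB1 y hy⟩, rfl⟩
    have hrange₂ : Set.range (B.ι ≫ pullback.snd f₁ f₂) ⊆ Set.range U₂.ι := by
      rintro _ ⟨⟨y, hy⟩, rfl⟩
      exact ⟨⟨(pullback.snd f₁ f₂).base y, hB2 y hy⟩, rfl⟩
    obtain ⟨r₁, hr₁⟩ : ∃ r₁ : (B : Scheme.{u}) ⟶ (U₁ : Scheme.{u}),
        r₁ ≫ U₁.ι = B.ι ≫ pullback.fst f₁ f₂ :=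
      ⟨IsOpenImmersion.lift U₁.ι (B.ι ≫ pullback.fst f₁ f₂) hrange₁,
        IsOpenImmersion.lift_fac _ _ _⟩
    obtain ⟨r₂, hr₂⟩ : ∃ r₂ : (B : Scheme.{u}) ⟶ (U₂ : Scheme.{u}),
        r₂ ≫ U₂.ι = B.ι ≫ pullback.snd f₁ f₂ :=
      ⟨IsOpenImmersion.lift U₂.ι (B.ι ≫ pullback.snd f₁ f₂) hrange₂,
        IsOpenImmersion.lift_fac _ _ _⟩
    obtain ⟨pG⟩ := exists_transport G (U₁.ι ≫ f₁) a1 ainv h1 h2 r₁ (B.ι ≫ F) (by
      rw [hF, ← Category.assoc, hr₁, Category.assoc])
    obtain ⟨pH⟩ := exists_transport H (U₂.ι ≫ f₂) b1 binv h1' h2' r₂ (B.ι ≫ F) (by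
      rw [hF, ← Category.assoc, hr₂, Category.assoc, pullback.condition])
    exact ⟨B, hxB, M, N, instM, instN, hNfg, ⟨pG⟩, ⟨pH⟩⟩

/-! ### The main theorem -/

theorem main5276 {S : Scheme.{u}} (G H : Over S) [GrpObj G] [GrpObj H]
    (hG : SGA3x.IsMultTypeFT G) (hH : SGA3x.IsMultTypeFT H) (u : G ⟶ H) [IsMonHom u] :
    ∃ U : S.Opens, IsClosed (U : Set S) ∧
      (∀ s : S, s ∈ U ↔
        (Flat ((Over.pullback (S.fromSpecResidueField s)).map u).left ∧
          Surjective ((Over.pullback (S.fromSpecResidueField s)).map u).left)) ∧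
      (Flat ((Over.pullback U.ι).map u).left ∧ Surjective ((Over.pullback U.ι).map u).left) := by
  obtain ⟨X, F, hcov, hraw⟩ := setup_raw G H hG hH
  haveI : MorphismProperty.DescendsAlong (@Flat : MorphismProperty Scheme.{u})
      (@Surjective ⊓ @Flat ⊓ @QuasiCompact) := flat_descendsAlong'
  obtain ⟨U, hUc, hUmem, hUP⟩ := core u (@Flat ⊓ @Surjective : MorphismProperty Scheme.{u}) F
    hcov (by
    intro x
    obtain ⟨Bo, hxB, M, N, iM, iN, hNfg, ⟨eG⟩, ⟨eH⟩⟩ := hraw x
    obtain ⟨W₀, φ, hb, hch⟩ := chart_P u (Bo.ι ≫ F) eG eH hNfg (⟨x, hxB⟩ : Bo)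
    refine ⟨⟨Bo.ι.base '' (W₀ : Set Bo), Bo.ι.isOpenEmbedding.isOpenMap _ W₀.isOpen⟩,
      ⟨⟨x, hxB⟩, hb, rfl⟩, Function.Injective φ, ?_, ?_⟩
    · intro hφ T r hr
      have hrange : Set.range r ⊆ Set.range Bo.ι := by
        rintro _ ⟨t, rfl⟩
        obtain ⟨w, -, hw⟩ := hr t
        exact ⟨w, hw⟩
      obtain ⟨r', hr'⟩ : ∃ r' : T ⟶ (Bo : Scheme.{u}), r' ≫ Bo.ι = r :=
        ⟨IsOpenImmersion.lift Bo.ι r hrange, IsOpenImmersion.lift_fac _ _ _⟩
      have hr'W : ∀ t : T, r'.base t ∈ W₀ := by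
        intro t
        obtain ⟨w, hwW, hw⟩ := hr t
        have h3 : Bo.ι.base (r'.base t) = r.base t := congrArg (fun g => g.base t) hr'
        have h4 : w = r'.base t := Bo.ι.isOpenEmbedding.injective (hw.trans h3.symm)
        rw [← h4]
        exact hwW
      have e : r' ≫ (Bo.ι ≫ F) = r ≫ F := by
        rw [← Category.assoc, hr']
      rw [← e]
      refine (hch r' hr'W (@Flat ⊓ @Surjective : MorphismProperty Scheme.{u})).mpr ?_
      exact MorphismProperty.of_isPullback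
        (P := (@Flat ⊓ @Surjective : MorphismProperty Scheme.{u}))
        (sqL (Red.DSmap (Bo : Scheme.{u}) φ) r') (P_DSmap (Bo : Scheme.{u}) φ hφ)
    · intro K _ z hz hPz
      have hrange : Set.range z ⊆ Set.range Bo.ι := by
        rintro _ ⟨t, rfl⟩
        obtain ⟨w, -, hw⟩ := hz t
        exact ⟨w, hw⟩
      obtain ⟨z', hz'⟩ : ∃ z' : Spec (CommRingCat.of K) ⟶ (Bo : Scheme.{u}), z' ≫ Bo.ι = z :=
        ⟨IsOpenImmersion.lift Bo.ι z hrange, IsOpenImmersion.lift_fac _ _ _⟩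
      have hz'W : ∀ t, z'.base t ∈ W₀ := by
        intro t
        obtain ⟨w, hwW, hw⟩ := hz t
        have h3 : Bo.ι.base (z'.base t) = z.base t := congrArg (fun g => g.base t) hz'
        have h4 : w = z'.base t := Bo.ι.isOpenEmbedding.injective (hw.trans h3.symm)
        rw [← h4]
        exact hwW
      have e : z' ≫ (Bo.ι ≫ F) = z ≫ F := by
        rw [← Category.assoc, hz']
      rw [← e] at hPz
      have hD := (hch z' hz'W (@Flat ⊓ @Surjective : MorphismProperty Scheme.{u})).mp hPz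
      haveI : Flat (bcL (Red.DSmap (Bo : Scheme.{u}) φ) z') := hD.1
      haveI : Surjective (bcL (Red.DSmap (Bo : Scheme.{u}) φ) z') := hD.2
      exact injective_of_epi z' φ (Flat.epi_of_flat_of_surjective _))
  exact ⟨U, hUc, hUmem, hUP⟩

end Groth.Agent.Lib.MTHomH4
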