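import Mathlib
import Groth.Prelude
import Groth.Agent.Lib.MTHomFlat_helper4

/-!
# Tori: ranks, and monomorphisms of tori of the same rank (helper4)
-/

set_option backward.isDefEq.respectTransparency.types false
set_option autoImplicit false
set_option linter.unusedVariables false
set_option linter.unusedTactic false
set_option linter.unreachableTactic false
set_option linter.unusedSectionVars false
set_option linter.style.haveILetI false
set_option linter.deprecated false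
set_option linter.unusedSimpArgs false
set_option linter.style.longLine false
set_option maxHeartbeats 1600000

universe u

open CategoryTheory CategoryTheory.Limits MonoidalCategory CartesianMonoidalCategory MonObj GrpObj
  AlgebraicGeometry Opposite

namespace Groth.Agent.Lib.MTHomH4

open Groth.Agent.Lib.RedDictH8 Groth.Agent.Lib.DSDict Groth.Agent.Lib.MultGa
  Groth.Agent.Lib.MultTrivH4 Groth.Agent.Lib.ConnActH4 Groth.Agent.Lib.TwConstFinH4

/-! ### Free abelian groups of finite rank -/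

section Rank

theorem fg_fin (r : ℕ) : AddGroup.FG (Fin r → ℤ) :=
  Module.Finite.iff_addGroup_fg.mp inferInstance

theorem fin_rank_eq {a b : ℕ} (e : (Fin a → ℤ) ≃+ (Fin b → ℤ)) : a = b := by
  have h := LinearEquiv.finrank_eq e.toIntLinearEquiv
  rwa [Module.finrank_fin_fun, Module.finrank_fin_fun] at h

theorem rank_le_of_surj {a b : ℕ} {N M : Type} [AddCommGroup N] [AddCommGroup M]
    (eN : N ≃+ (Fin a → ℤ)) (eM : M ≃+ (Fin b → ℤ)) (φ : N →+ M)
    (hφ : Function.Surjective φ) : b ≤ a := by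
  obtain ⟨ψ, hψ⟩ : ∃ ψ : (Fin a → ℤ) →+ (Fin b → ℤ), ∀ v, ψ v = eM (φ (eN.symm v)) :=
    ⟨(eM.toAddMonoidHom.comp φ).comp eN.symm.toAddMonoidHom, fun v => rfl⟩
  have hs : Function.Surjective ψ.toIntLinearMap := by
    intro w
    obtain ⟨n, hn⟩ := hφ (eM.symm w)
    refine ⟨eN n, ?_⟩
    show ψ (eN n) = w
    rw [hψ, eN.symm_apply_apply, hn, eM.apply_symm_apply]
  have h := LinearMap.finrank_le_finrank_of_surjective hs
  rwa [Module.finrank_fin_fun, Module.finrank_fin_fun] at h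

theorem bij_of_surj_of_rank (a : ℕ) {N M : Type} [AddCommGroup N] [AddCommGroup M]
    (eN : N ≃+ (Fin a → ℤ)) (eM : M ≃+ (Fin a → ℤ)) (φ : N →+ M)
    (hφ : Function.Surjective φ) : Function.Bijective φ := by
  obtain ⟨ψ, hψ⟩ : ∃ ψ : (Fin a → ℤ) →+ (Fin a → ℤ), ∀ v, ψ v = eM (φ (eN.symm v)) :=
    ⟨(eM.toAddMonoidHom.comp φ).comp eN.symm.toAddMonoidHom, fun v => rfl⟩
  have hs : Function.Surjective ψ.toIntLinearMap := by
    intro w
    obtain ⟨n, hn⟩ := hφ (eM.symm w)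
    refine ⟨eN n, ?_⟩
    show ψ (eN n) = w
    rw [hψ, eN.symm_apply_apply, hn, eM.apply_symm_apply]
  have hi : Function.Injective ψ.toIntLinearMap :=
    OrzechProperty.injective_of_surjective_endomorphism _ hs
  refine ⟨?_, hφ⟩
  intro n n' hnn
  have h1 : ψ.toIntLinearMap (eN n) = ψ.toIntLinearMap (eN n') := by
    show ψ (eN n) = ψ (eN n')
    rw [hψ, hψ, eN.symm_apply_apply, eN.symm_apply_apply, hnn]
  exact eN.injective (hi h1)

end Rank

/-! ### Pulling back trivialisations of the functor of points -/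

section Pull

variable {S W W' : Scheme.{u}}

theorem ptIso_pull {X : Over S} [GrpObj X] {jjW : W ⟶ S} {M : Type} [AddCommGroup M]
    (e : PtIso X jjW M) (h : W' ⟶ W) : Nonempty (PtIso X (h ≫ jjW) M) := by
  refine ⟨{
    toD := fun T'' x => trDown h (e.toD ((Over.map h).obj T'') (sig jjW h T'' ≫ x))
    ofD := fun T'' d => tau jjW h T'' ≫ e.ofD ((Over.map h).obj T'') (trUp h d)
    of_to := ?_
    to_of := ?_
    to_mul := ?_
    to_nat := ?_ }⟩
  · intro T'' x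
    show tau jjW h T'' ≫ e.ofD ((Over.map h).obj T'')
      (trUp h (trDown h (e.toD ((Over.map h).obj T'') (sig jjW h T'' ≫ x)))) = x
    rw [trUp_trDown, e.of_to, ← Category.assoc, tau_sig, Category.id_comp]
  · intro T'' d
    show trDown h (e.toD ((Over.map h).obj T'')
      (sig jjW h T'' ≫ tau jjW h T'' ≫ e.ofD ((Over.map h).obj T'') (trUp h d))) = d
    rw [← Category.assoc, sig_tau, Category.id_comp, e.to_of, trDown_trUp]
  · intro T'' x y
    show trDown h (e.toD ((Over.map h).obj T'') (sig jjW h T'' ≫ (x * y))) =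
      trDown h (e.toD ((Over.map h).obj T'') (sig jjW h T'' ≫ x)) *
        trDown h (e.toD ((Over.map h).obj T'') (sig jjW h T'' ≫ y))
    rw [MonObj.comp_mul, e.to_mul, trDown_mul]
  · intro T''' T'' c x
    show trDown h (e.toD ((Over.map h).obj T''')
      (sig jjW h T''' ≫ (Over.map (h ≫ jjW)).map c ≫ x)) =
      c ≫ trDown h (e.toD ((Over.map h).obj T'') (sig jjW h T'' ≫ x))
    rw [← Category.assoc, sig_nat, Category.assoc, e.to_nat, trDown_comp]

/-- over a field, the character group is determined by the functor of points. -/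
theorem addEquiv_of_ptIso {X : Over S} [GrpObj X] {K : Type u} [Field K]
    (jjW : Spec (CommRingCat.of K) ⟶ S) {M M' : Type} [AddCommGroup M] [AddCommGroup M']
    (hM' : AddGroup.FG M') (e : PtIso X jjW M) (e' : PtIso X jjW M') : Nonempty (M' ≃+ M) := by
  obtain ⟨b, -⟩ : ∃ b : Spec (CommRingCat.of K), b = b :=
    ⟨(⟨⊥, Ideal.bot_prime⟩ : Spec (CommRingCat.of K)), rfl⟩
  obtain ⟨W₀, φ, hbW, hc1, hc2⟩ := chart_main (𝟙 X) jjW e e' hM' b
  obtain ⟨idK, -⟩ : ∃ idK : Spec (CommRingCat.of K) ⟶ Spec (CommRingCat.of K), idK = idK :=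
    ⟨𝟙 _, rfl⟩
  have hz : ∀ t, idK.base t ∈ W₀ := by
    intro t
    haveI : Subsingleton (PrimeSpectrum K) := inferInstance
    have ht : idK.base t = b := Subsingleton.elim (α := PrimeSpectrum K) _ _
    rw [ht]
    exact hbW
  obtain ⟨h1, h2⟩ := hc2 K idK hz
  have hi : InjOn (𝟙 X) (idK ≫ jjW) := fun T'' x x' hxx => by
    have h : x ≫ 𝟙 X = x' ≫ 𝟙 X := hxx
    rwa [Category.comp_id, Category.comp_id] at h
  have hs : SurjOn (𝟙 X) (idK ≫ jjW) := fun T'' y =>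
    ⟨y, Category.comp_id y⟩
  exact ⟨AddEquiv.ofBijective φ ⟨h2 hs, h1 hi⟩⟩

end Pull

/-! ### Tori -/

section Torus

theorem isMultTypeFT_of_isTorus {S : Scheme.{u}} (T : Over S) [GrpObj T] (hT : Red.IsTorus T) :
    SGA3x.IsMultTypeFT T := by
  obtain ⟨S', f, hfl, hsu, hcov, hloc⟩ := hT
  refine ⟨S', f, hfl, hsu, hcov, fun s' => ?_⟩
  obtain ⟨U, hsU, r, hsplit⟩ := hloc s'
  exact ⟨U, hsU, Fin r → ℤ, inferInstance, fg_fin r, hsplit⟩

theorem setup_raw_torus {S : Scheme.{u}} (G H : Over S) [GrpObj G] [GrpObj H]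
    (hG : Red.IsTorus G) (hH : Red.IsTorus H) :
    ∃ (X : Scheme.{u}) (F : X ⟶ S), Surjective F ∧
      ∀ x : X, ∃ Bo : X.Opens, x ∈ Bo ∧
        ∃ (r r' : ℕ), Nonempty (PtIso G (Bo.ι ≫ F) (Fin r → ℤ)) ∧
          Nonempty (PtIso H (Bo.ι ≫ F) (Fin r' → ℤ)) := by
  obtain ⟨S₁, f₁, hflat₁, hsurj₁, hcov₁, hloc₁⟩ := hG
  obtain ⟨S₂, f₂, hflat₂, hsurj₂, hcov₂, hloc₂⟩ := hH
  haveI := hflat₁
  haveI := hflat₂
  haveI := hsurj₁
  haveI := hsurj₂
  obtain ⟨F, hF⟩ : ∃ F : pullback f₁ f₂ ⟶ S, F = pullback.fst f₁ f₂ ≫ f₁ := ⟨_, rfl⟩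
  refine ⟨pullback f₁ f₂, F, ?_, ?_⟩
  · rw [hF]
    infer_instance
  · intro x
    obtain ⟨U₁, hs₁U, r, ⟨eA⟩⟩ := hloc₁ ((pullback.fst f₁ f₂).base x)
    obtain ⟨U₂, hs₂U, r', ⟨eB⟩⟩ := hloc₂ ((pullback.snd f₁ f₂).base x)
    obtain ⟨a1, ainv, ha1, hainv, h1, h2⟩ := Groth.Agent.Lib.DiagHom.iso_data eA
    obtain ⟨b1, binv, hb1, hbinv, h1', h2'⟩ := Groth.Agent.Lib.DiagHom.iso_data eB
    haveI := ha1
    haveI := hainv
    haveI := hb1
    haveI := hbinv
    obtain ⟨B, hB⟩ : ∃ B : (pullback f₁ f₂).Opens,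
        B = (pullback.fst f₁ f₂ ⁻¹ᵁ U₁) ⊓ (pullback.snd f₁ f₂ ⁻¹ᵁ U₂) := ⟨_, rfl⟩
    have hxB : x ∈ B := by
      rw [hB]
      exact ⟨hs₁U, hs₂U⟩
    have hB1 : ∀ y : ↥(pullback f₁ f₂), y ∈ B → (pullback.fst f₁ f₂).base y ∈ U₁ := by
      intro y hy
      rw [hB] at hy
      exact hy.1
    have hB2 : ∀ y : ↥(pullback f₁ f₂), y ∈ B → (pullback.snd f₁ f₂).base y ∈ U₂ := by
      intro y hy
      rw [hB] at hy
      exact hy.2
    have hrange₁ : Set.range (B.ι ≫ pullback.fst f₁ f₂) ⊆ Set.range U₁.ι := by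
      rintro _ ⟨⟨y, hy⟩, rfl⟩
      exact ⟨⟨(pullback.fst f₁ f₂).base y, hB1 y hy⟩, rfl⟩
    have hrange₂ : Set.range (B.ι ≫ pullback.snd f₁ f₂) ⊆ Set.range U₂.ι := by
      rintro _ ⟨⟨y, hy⟩, rfl⟩
      exact ⟨⟨(pullback.snd f₁ f₂).base y, hB2 y hy⟩, rfl⟩
    obtain ⟨r₁, hr₁⟩ : ∃ r₁ : (B : Scheme.{u}) ⟶ (U₁ : Scheme.{u}),
        r₁ ≫ U₁.ι = B.ι ≫ pullback.fst f₁ f₂ :=
      ⟨IsOpenImmersion.lift U₁.ι (B.ι ≫ pullback.fst f₁ f₂) hrange₁,
        IsOpenImmersion.lift_fac _ _ _⟩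
    obtain ⟨r₂, hr₂⟩ : ∃ r₂ : (B : Scheme.{u}) ⟶ (U₂ : Scheme.{u}),
        r₂ ≫ U₂.ι = B.ι ≫ pullback.snd f₁ f₂ :=
      ⟨IsOpenImmersion.lift U₂.ι (B.ι ≫ pullback.snd f₁ f₂) hrange₂,
        IsOpenImmersion.lift_fac _ _ _⟩
    obtain ⟨pG⟩ := exists_transport G (U₁.ι ≫ f₁) a1 ainv h1 h2 r₁ (B.ι ≫ F) (by
      rw [hF, ← Category.assoc, hr₁, Category.assoc])
    obtain ⟨pH⟩ := exists_transport H (U₂.ι ≫ f₂) b1 binv h1' h2' r₂ (B.ι ≫ F) (by
      rw [hF, ← Category.assoc, hr₂, Category.assoc, pullback.condition])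
    exact ⟨B, hxB, r, r', ⟨pG⟩, ⟨pH⟩⟩

/-- the rank of a torus in a chart is the rank of the geometric fibre. -/
theorem rank_eq_geom {S : Scheme.{u}} (T : Over S) [GrpObj T] (s : S) (r₀ : ℕ)
    (hs : Red.IsSplitTorusWith (Fin r₀ → ℤ) (Red.geomFibre s T))
    {K : Type u} [Field K] (w : Spec (CommRingCat.of K) ⟶ S)
    (b : Spec (CommRingCat.of K) ⟶ Spec (CommRingCat.of (AlgebraicClosure (S.residueField s))))
    (hb : b ≫ Red.geomPt s = w) (r : ℕ) (e : PtIso T w (Fin r → ℤ)) : r₀ = r := by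
  obtain ⟨eT⟩ := hs
  obtain ⟨a1, ainv, ha1, hainv, h1, h2⟩ := Groth.Agent.Lib.DiagHom.iso_data eT
  haveI := ha1
  haveI := hainv
  obtain ⟨e'⟩ := exists_transport T (Red.geomPt s) a1 ainv h1 h2 b w hb
  obtain ⟨E⟩ := addEquiv_of_ptIso w (fg_fin r₀) e e'
  exact fin_rank_eq E

theorem main16611 {S : Scheme.{u}} {T T' : Over S} [GrpObj T] [GrpObj T']
    (hT : Red.IsTorus T) (hT' : Red.IsTorus T') (f : T ⟶ T') [IsMonHom f] [Mono f]
    (hrk : ∀ s : ↥S, ∃ r : ℕ, Red.IsSplitTorusWith (Fin r → ℤ) (Red.geomFibre s T) ∧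
      Red.IsSplitTorusWith (Fin r → ℤ) (Red.geomFibre s T')) : IsIso f := by
  obtain ⟨U, hUc, hUmem, hUiso⟩ := main5275 T T' (isMultTypeFT_of_isTorus T hT)
    (isMultTypeFT_of_isTorus T' hT') f
  obtain ⟨X, F, hFsurj, hraw⟩ := setup_raw_torus T T' hT hT'
  have key : ∀ t s : S, t = s → IsIso (bcL f (S.fromSpecResidueField t)) →
      IsIso (bcL f (S.fromSpecResidueField s)) := by
    intro t s ht h
    subst ht
    exact h
  have hall : ∀ s : S, IsIso (bcL f (S.fromSpecResidueField s)) := by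
    intro s
    obtain ⟨r₀, hsT, hsT'⟩ := hrk s
    obtain ⟨x₀, hx₀⟩ := hFsurj.surj s
    obtain ⟨sb, -⟩ : ∃ sb : Spec (CommRingCat.of (AlgebraicClosure (S.residueField s))), sb = sb :=
      ⟨(⟨⊥, Ideal.bot_prime⟩ : Spec (CommRingCat.of (AlgebraicClosure (S.residueField s)))), rfl⟩
    have hsb : (Red.geomPt s).base sb = s := by
      have h1 : (S.fromSpecResidueField s).base ((Spec.map (CommRingCat.ofHom
          (algebraMap (S.residueField s) (AlgebraicClosure (S.residueField s))))).base sb) ∈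
          ({s} : Set S) := by
        rw [← Scheme.range_fromSpecResidueField]
        exact ⟨_, rfl⟩
      exact Set.mem_singleton_iff.mp h1
    obtain ⟨y, hy1, hy2⟩ := Scheme.Pullback.exists_preimage_pullback (f := F)
      (g := Red.geomPt s) x₀ sb (hx₀.trans hsb.symm)
    obtain ⟨zK, hzK⟩ : ∃ zK : Spec (CommRingCat.of ((pullback F (Red.geomPt s)).residueField y)) ⟶
        pullback F (Red.geomPt s), zK = (pullback F (Red.geomPt s)).fromSpecResidueField y :=
      ⟨_, rfl⟩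
    have hzKy : ∀ t, zK.base t = y := by
      intro t
      have h1 : zK.base t ∈ ({y} : Set ↥(pullback F (Red.geomPt s))) := by
        rw [hzK, ← Scheme.range_fromSpecResidueField]
        exact ⟨t, rfl⟩
      exact Set.mem_singleton_iff.mp h1
    obtain ⟨Bo, hxB, r, r', ⟨pG⟩, ⟨pH⟩⟩ := hraw x₀
    have ha0 : ∀ t, (zK ≫ pullback.fst F (Red.geomPt s)).base t = x₀ := by
      intro t
      show (pullback.fst F (Red.geomPt s)).base (zK.base t) = x₀
      rw [hzKy]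
      exact hy1
    have hrange : Set.range (zK ≫ pullback.fst F (Red.geomPt s)) ⊆ Set.range Bo.ι := by
      rintro _ ⟨t, rfl⟩
      exact ⟨⟨x₀, hxB⟩, (ha0 t).symm⟩
    obtain ⟨a', ha'⟩ : ∃ a' : Spec (CommRingCat.of ((pullback F (Red.geomPt s)).residueField y)) ⟶
        (Bo : Scheme.{u}), a' ≫ Bo.ι = zK ≫ pullback.fst F (Red.geomPt s) :=
      ⟨IsOpenImmersion.lift Bo.ι _ hrange, IsOpenImmersion.lift_fac _ _ _⟩
    obtain ⟨W₀, φ, hbW, hc1, hc2⟩ := chart_main f (Bo.ι ≫ F) pG pH (fg_fin r') (⟨x₀, hxB⟩ : Bo)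
    have ha'W : ∀ t, a'.base t ∈ W₀ := by
      intro t
      have h3 : Bo.ι.base (a'.base t) = x₀ := by
        have h4 : Bo.ι.base (a'.base t) = (zK ≫ pullback.fst F (Red.geomPt s)).base t :=
          congrArg (fun g => g.base t) ha'
        rw [h4]
        exact ha0 t
      have h5 : a'.base t = (⟨x₀, hxB⟩ : Bo) := Bo.ι.isOpenEmbedding.injective h3
      rw [h5]
      exact hbW
    -- the comparison of ranks
    have hcomm : (zK ≫ pullback.snd F (Red.geomPt s)) ≫ Red.geomPt s = a' ≫ Bo.ι ≫ F := by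
      rw [Category.assoc, ← pullback.condition, ← Category.assoc, ← ha', Category.assoc]
    obtain ⟨qG⟩ := ptIso_pull pG a'
    obtain ⟨qH⟩ := ptIso_pull pH a'
    have hr : r₀ = r := rank_eq_geom T s r₀ hsT _ _ hcomm r qG
    have hr' : r₀ = r' := rank_eq_geom T' s r₀ hsT' _ _ hcomm r' qH
    subst hr
    subst hr'
    have hinj : InjOn f (a' ≫ Bo.ι ≫ F) := fun T'' x x' hxx => (cancel_mono f).mp hxx
    have hφs : Function.Surjective φ := (hc2 _ a' ha'W).1 hinj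
    have hφb : Function.Bijective φ :=
      bij_of_surj_of_rank r₀ (AddEquiv.refl _) (AddEquiv.refl _) φ hφs
    have hiso : IsIso (bcL f (a' ≫ Bo.ι ≫ F)) :=
      (isIso_left_iff _).mpr ((isIso_iff_injOn_surjOn f _).mpr
        ⟨(hc1 a' ha'W).1 hφs, (hc1 a' ha'W).2 hφb⟩)
    have e1 : a' ≫ Bo.ι ≫ F = zK ≫ (pullback.fst F (Red.geomPt s) ≫ F) := by
      rw [← Category.assoc, ha', Category.assoc]
    rw [e1, hzK] at hiso
    have hP := (P_field_iff (P := MorphismProperty.isomorphisms Scheme.{u}) f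
      (pullback.fst F (Red.geomPt s) ≫ F) y).mp hiso
    have hys : (pullback.fst F (Red.geomPt s) ≫ F).base y = s := by
      show F.base ((pullback.fst F (Red.geomPt s)).base y) = s
      rw [hy1]
      exact hx₀
    exact key _ s hys hP
  have hU : U = ⊤ := by
    apply top_unique
    intro s _
    exact (hUmem s).mpr (hall s)
  subst hU
  haveI : IsIso (⊤ : S.Opens).ι := inferInstanceAs (IsIso S.topIso.hom)
  haveI : IsIso (pullback.fst T.hom (⊤ : S.Opens).ι) := inferInstance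
  haveI : IsIso (pullback.fst T'.hom (⊤ : S.Opens).ι) := inferInstance
  haveI : IsIso (bcL f (⊤ : S.Opens).ι) := hUiso
  have e : f.left = inv (pullback.fst T.hom (⊤ : S.Opens).ι) ≫ bcL f (⊤ : S.Opens).ι ≫
      pullback.fst T'.hom (⊤ : S.Opens).ι := by
    rw [bcL_fst, IsIso.inv_hom_id_assoc]
  haveI : IsIso f.left := by
    rw [e]
    infer_instance
  exact (isIso_left_iff f).mp inferInstance

end Torus

end Groth.Agent.Lib.MTHomH4
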