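import Mathlib
import Groth.Prelude
import Groth.Agent.Lib.TorusRank_helper4

/-!
# Maximal split subtori of groups of multiplicative type (helper4)
-/

set_option backward.isDefEq.respectTransparency.types false
set_option autoImplicit false
set_option linter.unusedVariables false
set_option linter.unusedTactic false
set_option linter.unreachableTactic false
set_option linter.unusedSectionVars false
set_option linter.style.haveILetI false
set_option linter.deprecated false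
set_option linter.unusedSimpArgs false
set_option linter.style.longLine false
set_option maxHeartbeats 1600000

universe u

open CategoryTheory CategoryTheory.Limits MonoidalCategory CartesianMonoidalCategory MonObj GrpObj
  AlgebraicGeometry Opposite

namespace Groth.Agent.Lib.MTHomH4

open Groth.Agent.Lib.RedDictH8 Groth.Agent.Lib.DSDict Groth.Agent.Lib.MultGa
  Groth.Agent.Lib.MultTrivH4 Groth.Agent.Lib.ConnActH4 Groth.Agent.Lib.TwConstFinH4

section Split

variable {S : Scheme.{u}}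

/-- a split group has its functor of points trivialised over every `S`-scheme. -/
theorem ptIso_of_split {W : Scheme.{u}} {T : Over S} [GrpObj T] {M : Type} [AddCommGroup M]
    (hs : Red.IsSplitTorusWith M T) (jjW : W ⟶ S) : Nonempty (PtIso T jjW M) := by
  obtain ⟨e⟩ := hs
  obtain ⟨a, ainv, ha, hainv, h1, h2⟩ := Groth.Agent.Lib.DiagHom.iso_data e
  haveI := ha
  haveI := hainv
  refine ⟨{
    toD := fun T'' x => trDown jjW (x ≫ a)
    ofD := fun T'' d => trUp jjW d ≫ ainv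
    of_to := ?_
    to_of := ?_
    to_mul := ?_
    to_nat := ?_ }⟩
  · intro T'' x
    show trUp jjW (trDown jjW (x ≫ a)) ≫ ainv = x
    rw [trUp_trDown, Category.assoc, h1, Category.comp_id]
  · intro T'' d
    show trDown jjW ((trUp jjW d ≫ ainv) ≫ a) = d
    rw [Category.assoc, h2, Category.comp_id, trDown_trUp]
  · intro T'' x y
    show trDown jjW ((x * y) ≫ a) = trDown jjW (x ≫ a) * trDown jjW (y ≫ a)
    rw [MonObj.mul_comp, trDown_mul]
  · intro T''' T'' c x
    show trDown jjW (((Over.map jjW).map c ≫ x) ≫ a) = c ≫ trDown jjW (x ≫ a)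
    rw [Category.assoc, trDown_comp]

theorem isIso_of_bcL_id {G H : Over S} (u : G ⟶ H) (h : IsIso (bcL u (𝟙 S))) : IsIso u := by
  haveI := h
  haveI : IsIso (pullback.fst G.hom (𝟙 S)) := inferInstance
  haveI : IsIso (pullback.fst H.hom (𝟙 S)) := inferInstance
  have e : u.left = inv (pullback.fst G.hom (𝟙 S)) ≫ bcL u (𝟙 S) ≫ pullback.fst H.hom (𝟙 S) := by
    rw [bcL_fst, IsIso.inv_hom_id_assoc]
  haveI : IsIso u.left := by
    rw [e]
    infer_instance
  exact (isIso_left_iff u).mp inferInstance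

theorem pt_unique_rank0 {Z : Over S} (x y : Z ⟶ Red.DS S (Fin 0 → ℤ)) : x = y := by
  apply chr_injective
  intro m
  have hm : m = 0 := Subsingleton.elim _ _
  rw [hm, chr_zero, chr_zero]

theorem isSub_zero (G : Over S) [GrpObj G] :
    ∃ (T : Over S) (_ : GrpObj T) (j : T ⟶ G), IsMonHom j ∧ Mono j ∧
      Red.IsSplitTorusWith (Fin 0 → ℤ) T := by
  refine ⟨Red.DS S (Fin 0 → ℤ), inferInstance, 1, ?_, ?_, ⟨Iso.refl _⟩⟩
  · apply isMonHom_of_pointwise
    intro Z x y
    rw [MonObj.comp_one, MonObj.comp_one, MonObj.comp_one, _root_.mul_one]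
  · constructor
    intro Z x y _
    exact pt_unique_rank0 x y

/-- the ranks of split subtori of a group of multiplicative type over a nonempty base are
bounded. -/
theorem split_rank_bound [Nonempty S] (G : Over S) [GrpObj G] (hG : SGA3x.IsMultTypeFT G) :
    ∃ n : ℕ, ∀ (T : Over S) [GrpObj T] (j : T ⟶ G) [IsMonHom j] [Mono j] (r : ℕ),
      Red.IsSplitTorusWith (Fin r → ℤ) T → r ≤ n := by
  obtain ⟨S', f₁, hfl, hsu, hcov, hloc⟩ := hG
  obtain ⟨s₀⟩ := (inferInstance : Nonempty S)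
  obtain ⟨s', hs'⟩ := hsu.surj s₀
  obtain ⟨U, hsU, M, iM, hMfg, ⟨eA⟩⟩ := hloc s'
  obtain ⟨a1, ainv, ha1, hainv, h1, h2⟩ := Groth.Agent.Lib.DiagHom.iso_data eA
  haveI := ha1
  haveI := hainv
  obtain ⟨pG⟩ := exists_transport G (U.ι ≫ f₁) a1 ainv h1 h2 (𝟙 (U : Scheme.{u})) (U.ι ≫ f₁)
    (Category.id_comp _)
  haveI : Module.Finite ℤ M := Module.Finite.iff_addGroup_fg.mpr hMfg
  obtain ⟨n, fn, hfn⟩ := Module.Finite.exists_fin' ℤ M
  refine ⟨n, ?_⟩
  intro T _ j _ _ r hs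
  obtain ⟨pT⟩ := ptIso_of_split hs (U.ι ≫ f₁)
  obtain ⟨pU, -⟩ : ∃ pU : (U : Scheme.{u}), pU = pU := ⟨⟨s', hsU⟩, rfl⟩
  obtain ⟨W₀, φ, hbW, hc1, hc2⟩ := chart_main j (U.ι ≫ f₁) pT pG hMfg pU
  have hz : ∀ t, ((U : Scheme.{u}).fromSpecResidueField pU).base t ∈ W₀ := by
    intro t
    have h1 : ((U : Scheme.{u}).fromSpecResidueField pU).base t ∈
        Set.range ((U : Scheme.{u}).fromSpecResidueField pU) := ⟨t, rfl⟩
    rw [Scheme.range_fromSpecResidueField] at h1
    rw [Set.mem_singleton_iff.mp h1]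
    exact hbW
  have hinj : InjOn j ((U : Scheme.{u}).fromSpecResidueField pU ≫ U.ι ≫ f₁) :=
    fun T'' x x' hxx => (cancel_mono j).mp hxx
  have hφs : Function.Surjective φ :=
    (hc2 _ ((U : Scheme.{u}).fromSpecResidueField pU) hz).1 hinj
  obtain ⟨ψ, hψ⟩ : ∃ ψ : (Fin n → ℤ) →+ (Fin r → ℤ), ∀ v, ψ v = φ (fn v) :=
    ⟨φ.comp fn.toAddMonoidHom, fun v => rfl⟩
  have hψs : Function.Surjective ψ := by
    intro w
    obtain ⟨m, hm⟩ := hφs w
    obtain ⟨v, hv⟩ := hfn m
    exact ⟨v, by rw [hψ, hv, hm]⟩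
  exact rank_le_of_surj (AddEquiv.refl _) (AddEquiv.refl _) ψ hψs

theorem main16614 {G : Over S} [GrpObj G] (hG : SGA3x.IsMultTypeFT G) :
    ∃ (T : Over S) (_ : GrpObj T) (j : T ⟶ G) (r : ℕ), IsMonHom j ∧ Mono j ∧
      Red.IsSplitTorusWith (Fin r → ℤ) T ∧
      ∀ (T' : Over S) [GrpObj T'] (j' : T' ⟶ G) [IsMonHom j'] [Mono j'] (r' : ℕ) (g : T ⟶ T'),
        Red.IsSplitTorusWith (Fin r' → ℤ) T' → g ≫ j' = j → IsIso g := by
  classical
  obtain ⟨IsSub, hIsSub⟩ : ∃ IsSub : ℕ → Prop, ∀ r, IsSub r ↔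
      ∃ (T : Over S) (_ : GrpObj T) (j : T ⟶ G), IsMonHom j ∧ Mono j ∧
        Red.IsSplitTorusWith (Fin r → ℤ) T := ⟨_, fun r => Iff.rfl⟩
  have h0 : IsSub 0 := (hIsSub 0).mpr (isSub_zero G)
  obtain ⟨r, hr, hmax⟩ : ∃ r, IsSub r ∧ (Nonempty S → ∀ r', IsSub r' → r' ≤ r) := by
    by_cases hS : Nonempty S
    · haveI := hS
      obtain ⟨n, hn⟩ := split_rank_bound G hG
      have hb : ∀ r', IsSub r' → r' ≤ n := by
        intro r' hr'
        obtain ⟨T, iT, j, hj1, hj2, hs⟩ := (hIsSub r').mp hr'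
        exact @hn T iT j hj1 hj2 r' hs
      exact ⟨Nat.findGreatest IsSub n, Nat.findGreatest_spec (Nat.zero_le n) h0,
        fun _ r' hr' => Nat.le_findGreatest (hb r' hr') hr'⟩
    · exact ⟨0, h0, fun h => absurd h hS⟩
  obtain ⟨T, iT, j, hj1, hj2, hs⟩ := (hIsSub r).mp hr
  refine ⟨T, iT, j, r, hj1, hj2, hs, ?_⟩
  intro T' _ j' _ _ r' g hs' hg
  haveI := hj1
  haveI := hj2
  haveI hgm : Mono g := by
    haveI : Mono (g ≫ j') := by
      rw [hg]
      infer_instance
    exact mono_of_mono g j'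
  haveI hgh : IsMonHom g := by
    apply isMonHom_of_pointwise
    intro Z x y
    apply (cancel_mono j').mp
    rw [Category.assoc, hg, MonObj.mul_comp, MonObj.mul_comp, Category.assoc, Category.assoc, hg]
  obtain ⟨pT⟩ := ptIso_of_split hs (𝟙 S)
  obtain ⟨pT'⟩ := ptIso_of_split hs' (𝟙 S)
  have hloc : ∀ b : S, ∃ W : S.Opens, b ∈ W ∧ IsIso (bcL g (W.ι ≫ 𝟙 S)) := by
    intro b
    have hle : r' ≤ r := hmax ⟨b⟩ r' ((hIsSub r').mpr
      ⟨T', inferInstance, j', inferInstance, inferInstance, hs'⟩)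
    obtain ⟨W₀, φ, hbW, hc1, hc2⟩ := chart_main g (𝟙 S) pT pT' (fg_fin r') b
    have hz : ∀ t, (S.fromSpecResidueField b).base t ∈ W₀ := by
      intro t
      have h1 : (S.fromSpecResidueField b).base t ∈ ({b} : Set S) := by
        rw [← Scheme.range_fromSpecResidueField]
        exact ⟨t, rfl⟩
      rw [Set.mem_singleton_iff.mp h1]
      exact hbW
    have hinj : InjOn g (S.fromSpecResidueField b ≫ 𝟙 S) :=
      fun T'' x x' hxx => (cancel_mono g).mp hxx
    have hφs : Function.Surjective φ := (hc2 _ (S.fromSpecResidueField b) hz).1 hinj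
    have hle' : r ≤ r' := rank_le_of_surj (AddEquiv.refl _) (AddEquiv.refl _) φ hφs
    obtain rfl : r = r' := le_antisymm hle' hle
    have hφb : Function.Bijective φ :=
      bij_of_surj_of_rank r (AddEquiv.refl _) (AddEquiv.refl _) φ hφs
    have hW : ∀ t : (W₀ : Scheme.{u}), W₀.ι.base t ∈ W₀ := by
      intro t
      have h1 : W₀.ι.base t ∈ Set.range W₀.ι := ⟨t, rfl⟩
      rw [Scheme.Opens.range_ι] at h1
      exact h1
    exact ⟨W₀, hbW, (isIso_left_iff _).mpr ((isIso_iff_injOn_surjOn g _).mpr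
      ⟨(hc1 W₀.ι hW).1 hφs, (hc1 W₀.ι hW).2 hφb⟩)⟩
  choose W hbW hWiso using hloc
  have hP : (MorphismProperty.isomorphisms Scheme.{u}) (bcL g (𝟙 S)) :=
    P_local g (𝟙 S) W (eq_top_iff.mpr (fun x _ =>
      TopologicalSpace.Opens.mem_iSup.mpr ⟨x, hbW x⟩)) (fun b => hWiso b)
  exact isIso_of_bcL_id g hP

end Split

end Groth.Agent.Lib.MTHomH4
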