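import Mathlib
import Groth.Prelude
import Groth.Agent.Lib.SplitSub_helper4

/-!
# Characters of tori: non-trivial on geometric fibres iff faithfully flat (helper4)
-/

set_option backward.isDefEq.respectTransparency.types false
set_option autoImplicit false
set_option linter.unusedVariables false
set_option linter.unusedTactic false
set_option linter.unreachableTactic false
set_option linter.unusedSectionVars false
set_option linter.style.haveILetI false
set_option linter.deprecated false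
set_option linter.unusedSimpArgs false
set_option linter.style.longLine false
set_option maxHeartbeats 1600000

universe u

open CategoryTheory CategoryTheory.Limits MonoidalCategory CartesianMonoidalCategory MonObj GrpObj
  AlgebraicGeometry Opposite

namespace Groth.Agent.Lib.MTHomH4

open Groth.Agent.Lib.RedDictH8 Groth.Agent.Lib.DSDict Groth.Agent.Lib.MultGa
  Groth.Agent.Lib.MultTrivH4 Groth.Agent.Lib.ConnActH4 Groth.Agent.Lib.TwConstFinH4

/-! ### Trivial homomorphisms and base change -/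

section Triv

variable {S : Scheme.{u}} {G H : Over S} [GrpObj G] [GrpObj H] (u : G ⟶ H)

theorem triv_iff_pts {S' : Scheme.{u}} (g : S' ⟶ S) :
    (Over.pullback g).map u = 1 ↔
      ∀ (T'' : Over S') (x : (Over.map g).obj T'' ⟶ G), x ≫ u = 1 := by
  constructor
  · intro h T'' x
    have e1 : chk g (unchk g x ≫ (Over.pullback g).map u) = x ≫ u := by
      rw [chk_postcomp, chk_unchk]
    rw [← e1, h, MonObj.comp_one]
    exact chk_one' g _
  · intro h
    have e1 : chk g (𝟙 (Red.bc g G) ≫ (Over.pullback g).map u) =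
        chk g (1 : Red.bc g G ⟶ Red.bc g H) := by
      rw [chk_postcomp, h]
      exact (chk_one' g _).symm
    have e2 := congrArg (fun w => unchk g w) e1
    simp only [unchk_chk] at e2
    rw [Category.id_comp] at e2
    exact e2

theorem triv_comp {S' S'' : Scheme.{u}} (g : S' ⟶ S) (h : S'' ⟶ S')
    (ht : (Over.pullback g).map u = 1) : (Over.pullback (h ≫ g)).map u = 1 := by
  rw [triv_iff_pts] at ht ⊢
  intro T'' x
  have h1 := ht ((Over.map h).obj T'') (sig g h T'' ≫ x)
  have h2 : x ≫ u = tau g h T'' ≫ (sig g h T'' ≫ x) ≫ u := by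
    rw [Category.assoc, ← Category.assoc (tau g h T''), tau_sig, Category.id_comp]
  rw [h2, h1, MonObj.comp_one]

theorem triv_desc {S' S'' : Scheme.{u}} (g : S' ⟶ S) (h : S'' ⟶ S') [Flat h] [Surjective h]
    (ht : (Over.pullback (h ≫ g)).map u = 1) : (Over.pullback g).map u = 1 := by
  rw [triv_iff_pts] at ht ⊢
  intro T'' x
  obtain ⟨c, hc⟩ : ∃ c : (Over.map (h ≫ g)).obj (Over.mk (pullback.snd T''.hom h)) ⟶
      (Over.map g).obj T'', c.left = pullback.fst T''.hom h :=
    ⟨Over.homMk (pullback.fst T''.hom h) (by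
      show pullback.fst T''.hom h ≫ (T''.hom ≫ g) = pullback.snd T''.hom h ≫ h ≫ g
      rw [← Category.assoc, pullback.condition, Category.assoc]), rfl⟩
  haveI : Epi c.left := by
    rw [hc]
    exact Flat.epi_of_flat_of_surjective _
  haveI : Epi c := Over.epi_of_epi_left c
  have h1 := ht (Over.mk (pullback.snd T''.hom h)) (c ≫ x)
  rw [Category.assoc] at h1
  rw [← cancel_epi c, h1, MonObj.comp_one]

theorem geomPt_base {s : S}
    (sb : Spec (CommRingCat.of (AlgebraicClosure (S.residueField s)))) :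
    (Red.geomPt s).base sb = s := by
  have h1 : (S.fromSpecResidueField s).base ((Spec.map (CommRingCat.ofHom
      (algebraMap (S.residueField s) (AlgebraicClosure (S.residueField s))))).base sb) ∈
      ({s} : Set S) := by
    rw [← Scheme.range_fromSpecResidueField]
    exact ⟨_, rfl⟩
  exact Set.mem_singleton_iff.mp h1

theorem triv_geomPt_of_triv {K : Type u} [Field K]
    (w : Spec (CommRingCat.of K) ⟶ S) (s : S) (hw : ∀ t, w.base t = s)
    (ht : (Over.pullback w).map u = 1) : (Over.pullback (Red.geomPt s)).map u = 1 := by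
  obtain ⟨p1, -⟩ : ∃ p1 : Spec (CommRingCat.of K), p1 = p1 :=
    ⟨(⟨⊥, Ideal.bot_prime⟩ : Spec (CommRingCat.of K)), rfl⟩
  obtain ⟨sb, -⟩ : ∃ sb : Spec (CommRingCat.of (AlgebraicClosure (S.residueField s))), sb = sb :=
    ⟨(⟨⊥, Ideal.bot_prime⟩ : Spec (CommRingCat.of (AlgebraicClosure (S.residueField s)))), rfl⟩
  obtain ⟨y, hy1, hy2⟩ := Scheme.Pullback.exists_preimage_pullback (f := w)
    (g := Red.geomPt s) p1 sb ((hw p1).trans (geomPt_base sb).symm)
  obtain ⟨a, ha⟩ : ∃ a : Spec ((pullback w (Red.geomPt s)).residueField y) ⟶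
      Spec (CommRingCat.of K),
      a = (pullback w (Red.geomPt s)).fromSpecResidueField y ≫ pullback.fst w (Red.geomPt s) :=
    ⟨_, rfl⟩
  obtain ⟨b, hb⟩ : ∃ b : Spec ((pullback w (Red.geomPt s)).residueField y) ⟶
      Spec (CommRingCat.of (AlgebraicClosure (S.residueField s))),
      b = (pullback w (Red.geomPt s)).fromSpecResidueField y ≫ pullback.snd w (Red.geomPt s) :=
    ⟨_, rfl⟩
  have hab : a ≫ w = b ≫ Red.geomPt s := by
    rw [ha, hb, Category.assoc, Category.assoc, pullback.condition]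
  obtain ⟨hb1, hb2, -⟩ := flat_surj_qc_SpecMap_field
    (K := AlgebraicClosure (S.residueField s))
    (L := (pullback w (Red.geomPt s)).residueField y) (Spec.preimage b)
  rw [Spec.map_preimage] at hb1 hb2
  haveI := hb1
  haveI := hb2
  have h1 := triv_comp u w a ht
  rw [hab] at h1
  exact triv_desc u (Red.geomPt s) b h1

end Triv

/-! ### A faithfully flat character is non-trivial -/

section NonTriv

variable {S : Scheme.{u}} {T : Over S} [GrpObj T]

theorem not_triv_of_epi (α : T ⟶ Red.Gm S) {R' : Type u} [CommRing R'] [Nontrivial R']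
    (g : Spec (CommRingCat.of R') ⟶ S) (hepi : Epi (bcL α g)) :
    (Over.pullback g).map α ≠ 1 := by
  intro ht
  haveI : Epi ((Over.pullback g).map α).left := hepi
  haveI : Epi ((Over.pullback g).map α) := Over.epi_of_epi_left _
  have hid : 𝟙 (Red.bc g (Red.Gm S)) = 1 := by
    apply (cancel_epi ((Over.pullback g).map α)).mp
    rw [Category.comp_id, MonObj.comp_one]
    exact ht
  obtain ⟨E, hE⟩ : ∃ E : (Over.map g).obj (Over.mk (Spec.map
      (CommRingCat.ofHom (algebraMap R' (MonoidAlgebra R' (Multiplicative ℤ)))))) ⟶ Red.DS S ℤ,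
      ∀ m : ℤ, chr E m =
        (Scheme.ΓSpecIso (CommRingCat.of (MonoidAlgebra R' (Multiplicative ℤ)))).inv
          (MonoidAlgebra.of R' (Multiplicative ℤ) (Multiplicative.ofAdd m)) :=
    ⟨pt g (MonoidAlgebra.of R' (Multiplicative ℤ)), fun m => chr_pt g _ m⟩
  have hE1 : E = 1 := by
    have h1 : unchk g E = 1 :=
      calc unchk g E = unchk g E ≫ 𝟙 (Red.bc g (Red.Gm S)) := (Category.comp_id _).symm
        _ = unchk g E ≫ 1 := by rw [hid]
        _ = 1 := MonObj.comp_one _
    have h3 := congrArg (fun w => chk g w) h1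
    simp only [chk_unchk] at h3
    rw [h3]
    exact chk_one' g _
  have h7 : chr E (1 : ℤ) = chr E (0 : ℤ) := by
    rw [hE1, chr_one, chr_one]
  rw [hE, hE] at h7
  have h8 := congrArg (fun w =>
    (Scheme.ΓSpecIso (CommRingCat.of (MonoidAlgebra R' (Multiplicative ℤ)))).hom w) h7
  have e1 := Iso.inv_hom_id_apply
    (Scheme.ΓSpecIso (CommRingCat.of (MonoidAlgebra R' (Multiplicative ℤ))))
    (MonoidAlgebra.of R' (Multiplicative ℤ) (Multiplicative.ofAdd (1 : ℤ)))
  have e2 := Iso.inv_hom_id_apply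
    (Scheme.ΓSpecIso (CommRingCat.of (MonoidAlgebra R' (Multiplicative ℤ))))
    (MonoidAlgebra.of R' (Multiplicative ℤ) (Multiplicative.ofAdd (0 : ℤ)))
  have h9 : MonoidAlgebra.of R' (Multiplicative ℤ) (Multiplicative.ofAdd (1 : ℤ)) =
      MonoidAlgebra.of R' (Multiplicative ℤ) (Multiplicative.ofAdd (0 : ℤ)) :=
    e1.symm.trans (h8.trans e2)
  exact absurd (Multiplicative.ofAdd.injective (MonoidAlgebra.of_injective h9)) one_ne_zero

end NonTriv

/-! ### Charts for characters -/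

section ChartChar

theorem fg_int : AddGroup.FG ℤ := Module.Finite.iff_addGroup_fg.mp inferInstance

theorem inj_of_ne_zero {r : ℕ} (φ : ℤ →+ (Fin r → ℤ)) (h : φ ≠ 0) : Function.Injective φ := by
  have h1 : φ 1 ≠ 0 := by
    intro h0
    exact h (AddMonoidHom.ext_int (h0.trans (AddMonoidHom.zero_apply _).symm))
  rw [injective_iff_map_eq_zero]
  intro k hk
  have e : φ k = k • φ 1 := by rw [← map_zsmul, smul_eq_mul, _root_.mul_one]
  rw [e] at hk
  rcases smul_eq_zero.mp hk with h2 | h2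
  · exact h2
  · exact absurd h2 h1

theorem iso_of_hZ {S B : Scheme.{u}} {G H : Over S} [GrpObj G] [GrpObj H] (u : G ⟶ H)
    [IsMonHom u] (jj : B ⟶ S) {M N : Type} [AddCommGroup M] [AddCommGroup N]
    (eG : PtIso G jj M) (eH : PtIso H jj N) {T : Scheme.{u}} (r : T ⟶ B) (φ : N →+ M)
    (hZ : ∀ (T'' : Over T) (d : (Over.map r).obj T'' ⟶ Red.DS B M),
      nuOf u jj eG eH ((Over.map r).obj T'') d = d ≫ Red.DSmap B φ)
    (P : MorphismProperty Scheme.{u}) [P.RespectsIso] :
    P (bcL u (r ≫ jj)) ↔ P (bcL (Red.DSmap B φ) r) := by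
  obtain ⟨aG, haG⟩ := yoneda_iso' (ptE jj eG r) (ptE_nat jj eG r)
  obtain ⟨aH, haH⟩ := yoneda_iso' (ptE jj eH r) (ptE_nat jj eH r)
  have e1 : (Over.pullback (r ≫ jj)).map u ≫ aH.hom =
      ptE jj eH r _ (𝟙 _ ≫ (Over.pullback (r ≫ jj)).map u) := by
    rw [Category.id_comp, haH]
  have e2 : ptE jj eG r _ (𝟙 ((Over.pullback (r ≫ jj)).obj G)) = aG.hom := by
    rw [haG, Category.id_comp]
  have hsq : (Over.pullback (r ≫ jj)).map u ≫ aH.hom =
      aG.hom ≫ (Over.pullback r).map (Red.DSmap B φ) := by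
    rw [e1, ptE_comm u jj eG eH r φ hZ, e2]
  exact P_of_sq _ _ aG aH hsq P

theorem chart_char {S B : Scheme.{u}} {T : Over S} [GrpObj T] (α : T ⟶ Red.Gm S) [IsMonHom α]
    (jj : B ⟶ S) {M : Type} [AddCommGroup M] (eT : PtIso T jj M) (b : B) :
    ∃ (W₀ : B.Opens) (φ : ℤ →+ M), b ∈ W₀ ∧
      (∀ {T₁ : Scheme.{u}} (r : T₁ ⟶ B), (∀ t : T₁, r.base t ∈ W₀) → φ = 0 →
        (Over.pullback (r ≫ jj)).map α = 1) ∧
      (∀ {T₁ : Scheme.{u}} (r : T₁ ⟶ B), (∀ t : T₁, r.base t ∈ W₀) →
        ∀ (P : MorphismProperty Scheme.{u}) [P.RespectsIso],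
          P (bcL α (r ≫ jj)) ↔ P (bcL (Red.DSmap B φ) r)) := by
  obtain ⟨eH⟩ := ptIso_of_split (T := Red.Gm S) (M := ℤ) ⟨Iso.refl _⟩ jj
  obtain ⟨W₀, φ, hb, hloc⟩ := local_const (nuOf α jj eT eH) (nuOf_nat α jj eT eH)
    (nuOf_hom α jj eT eH) fg_int b
  refine ⟨W₀, φ, hb, ?_, ?_⟩
  · intro T₁ r hr hφ
    have hZ : ∀ (T'' : Over T₁) (d : (Over.map r).obj T'' ⟶ Red.DS B M),
        nuOf α jj eT eH ((Over.map r).obj T'') d = d ≫ Red.DSmap B φ := fun T'' d =>
      hloc ((Over.map r).obj T'') (fun z => hr _) d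
    rw [triv_iff_pts]
    intro T'' x
    apply (ptEquiv jj eH r T'').injective
    have e1 : ptEquiv jj eH r T'' (1 : (Over.map (r ≫ jj)).obj T'' ⟶ Red.Gm S) = 1 := by
      show eH.toD ((Over.map r).obj T'') (sig jj r T'' ≫ 1) = 1
      rw [MonObj.comp_one, eH.to_one]
    rw [ptEquiv_comm α jj eT eH r T'' x, hZ, hφ, Groth.Agent.Lib.DiagHom.DSmap_zero,
      MonObj.comp_one, e1]
  · intro T₁ r hr P _
    have hZ : ∀ (T'' : Over T₁) (d : (Over.map r).obj T'' ⟶ Red.DS B M),
        nuOf α jj eT eH ((Over.map r).obj T'') d = d ≫ Red.DSmap B φ := fun T'' d =>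
      hloc ((Over.map r).obj T'') (fun z => hr _) d
    exact iso_of_hZ α jj eT eH r φ hZ P

theorem lift_into {X : Scheme.{u}} (Bo : X.Opens) (W₀ : (Bo : Scheme.{u}).Opens)
    {T₁ : Scheme.{u}} (rr : T₁ ⟶ X)
    (hr : ∀ t : T₁, rr.base t ∈ (Bo.ι.base '' (W₀ : Set Bo))) :
    ∃ rr' : T₁ ⟶ (Bo : Scheme.{u}), rr' ≫ Bo.ι = rr ∧ ∀ t : T₁, rr'.base t ∈ W₀ := by
  have hrange : Set.range rr ⊆ Set.range Bo.ι := by
    rintro _ ⟨t, rfl⟩
    obtain ⟨w, -, hw⟩ := hr t
    exact ⟨w, hw⟩
  obtain ⟨r', hr'⟩ : ∃ r' : T₁ ⟶ (Bo : Scheme.{u}), r' ≫ Bo.ι = rr :=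
    ⟨IsOpenImmersion.lift Bo.ι rr hrange, IsOpenImmersion.lift_fac _ _ _⟩
  refine ⟨r', hr', ?_⟩
  intro t
  obtain ⟨w, hwW, hw⟩ := hr t
  have h3 : Bo.ι.base (r'.base t) = rr.base t := congrArg (fun g => g.base t) hr'
  have h4 : w = r'.base t := Bo.ι.isOpenEmbedding.injective (hw.trans h3.symm)
  rw [← h4]
  exact hwW

end ChartChar

/-! ### The main theorem -/

theorem main5421 (S : Scheme.{u}) (T : Over S) [GrpObj T] (hT : Red.IsTorus T)
    (α : T ⟶ Red.Gm S) [IsMonHom α] :
    ((∀ s : S, (Over.pullback (Red.geomPt s)).map α ≠ 1) ↔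
      (∀ (S' : Scheme.{u}) (g : S' ⟶ S), Nonempty ↥S' → (Over.pullback g).map α ≠ 1)) ∧
    ((∀ s : S, (Over.pullback (Red.geomPt s)).map α ≠ 1) ↔
      (Flat α.left ∧ Surjective α.left)) := by
  refine ⟨⟨?_, ?_⟩, ⟨?_, ?_⟩⟩
  · intro hi S' g hS' ht
    obtain ⟨s'⟩ := hS'
    have h1 := triv_comp α g (S'.fromSpecResidueField s') ht
    have hw : ∀ t, (S'.fromSpecResidueField s' ≫ g).base t = g.base s' := by
      intro t
      have h2 : (S'.fromSpecResidueField s').base t ∈ ({s'} : Set S') := by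
        rw [← Scheme.range_fromSpecResidueField]
        exact ⟨t, rfl⟩
      show g.base ((S'.fromSpecResidueField s').base t) = g.base s'
      rw [Set.mem_singleton_iff.mp h2]
    exact hi (g.base s') (triv_geomPt_of_triv α (K := S'.residueField s')
      (S'.fromSpecResidueField s' ≫ g) (g.base s') hw h1)
  · intro hii s
    exact hii _ (Red.geomPt s)
      ⟨(⟨⊥, Ideal.bot_prime⟩ : Spec (CommRingCat.of (AlgebraicClosure (S.residueField s))))⟩
  · intro hi
    obtain ⟨S', f, hfl, hsu, hcov, hloc⟩ := hT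
    haveI := hfl
    haveI := hsu
    haveI : MorphismProperty.DescendsAlong (@Flat : MorphismProperty Scheme.{u})
        (@Surjective ⊓ @Flat ⊓ @QuasiCompact) := flat_descendsAlong'
    have hcov' : ∀ V : S.Opens, IsAffineOpen V → ∃ (P' : Scheme.{u})
        (p : P' ⟶ (V : Scheme.{u})) (m : P' ⟶ S'), Flat p ∧ Surjective p ∧ QuasiCompact p ∧
          m ≫ f = p ≫ V.ι := by
      intro V hV
      obtain ⟨W, hWc, hWV⟩ := hcov V hV
      obtain ⟨fW, e, h1, h2, h3⟩ := exists_fpqc_piece f V hV W hWc hWV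
      exact ⟨W, fW, W.ι, h1, h2, h3, e.symm⟩
    have hchart : ∀ x : S', ∃ O : S'.Opens, x ∈ O ∧ ∃ Q : Prop,
        (Q → ∀ {T₁ : Scheme.{u}} (rr : T₁ ⟶ S'), (∀ t : T₁, rr.base t ∈ O) →
          (@Flat ⊓ @Surjective : MorphismProperty Scheme.{u}) (bcL α (rr ≫ f))) ∧
        (∀ (K : Type u) [Field K] (z : Spec (CommRingCat.of K) ⟶ S'), (∀ t, z.base t ∈ O) →
          (@Flat ⊓ @Surjective : MorphismProperty Scheme.{u}) (bcL α (z ≫ f)) → Q) ∧
        (¬ Q → ∀ {T₁ : Scheme.{u}} (rr : T₁ ⟶ S'), (∀ t : T₁, rr.base t ∈ O) →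
          (Over.pullback (rr ≫ f)).map α = 1) := by
      intro x
      obtain ⟨U₁, hxU, r, ⟨eA⟩⟩ := hloc x
      obtain ⟨a1, ainv, ha1, hainv, h1, h2⟩ := Groth.Agent.Lib.DiagHom.iso_data eA
      haveI := ha1
      haveI := hainv
      obtain ⟨pT⟩ := exists_transport T (U₁.ι ≫ f) a1 ainv h1 h2 (𝟙 (U₁ : Scheme.{u}))
        (U₁.ι ≫ f) (Category.id_comp _)
      obtain ⟨pU, hpU⟩ : ∃ pU : (U₁ : Scheme.{u}), U₁.ι.base pU = x := ⟨⟨x, hxU⟩, rfl⟩
      obtain ⟨W₀, φ, hbW, hc1, hc2⟩ := chart_char α (U₁.ι ≫ f) pT pU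
      refine ⟨⟨U₁.ι.base '' (W₀ : Set U₁), U₁.ι.isOpenEmbedding.isOpenMap _ W₀.isOpen⟩,
        ⟨pU, hbW, hpU⟩, Function.Injective φ, ?_, ?_, ?_⟩
      · intro hφ T₁ rr hr
        obtain ⟨rr', hrr', hr'W⟩ := lift_into U₁ W₀ rr hr
        have e : rr' ≫ (U₁.ι ≫ f) = rr ≫ f := by
          rw [← Category.assoc, hrr']
        rw [← e]
        refine (hc2 rr' hr'W (@Flat ⊓ @Surjective : MorphismProperty Scheme.{u})).mpr ?_
        exact MorphismProperty.of_isPullback
          (P := (@Flat ⊓ @Surjective : MorphismProperty Scheme.{u}))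
          (sqL (Red.DSmap (U₁ : Scheme.{u}) φ) rr') (P_DSmap (U₁ : Scheme.{u}) φ hφ)
      · intro K _ z hz hPz
        obtain ⟨z', hzz', hz'W⟩ := lift_into U₁ W₀ z hz
        have e : z' ≫ (U₁.ι ≫ f) = z ≫ f := by
          rw [← Category.assoc, hzz']
        rw [← e] at hPz
        have hD := (hc2 z' hz'W (@Flat ⊓ @Surjective : MorphismProperty Scheme.{u})).mp hPz
        haveI : Flat (bcL (Red.DSmap (U₁ : Scheme.{u}) φ) z') := hD.1
        haveI : Surjective (bcL (Red.DSmap (U₁ : Scheme.{u}) φ) z') := hD.2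
        exact injective_of_epi z' φ (Flat.epi_of_flat_of_surjective _)
      · intro hQ T₁ rr hr
        obtain ⟨rr', hrr', hr'W⟩ := lift_into U₁ W₀ rr hr
        have e : rr' ≫ (U₁.ι ≫ f) = rr ≫ f := by
          rw [← Category.assoc, hrr']
        have hφ0 : φ = 0 := by
          by_contra h0
          exact hQ (inj_of_ne_zero φ h0)
        rw [← e]
        exact hc1 rr' hr'W hφ0
    choose O hxO Q hQ1 hQ2 hQ3 using hchart
    obtain ⟨U, hUc, hUmem, hUP⟩ := core α (@Flat ⊓ @Surjective : MorphismProperty Scheme.{u}) f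
      hcov' (fun x => ⟨O x, hxO x, Q x, hQ1 x, hQ2 x⟩)
    have key : ∀ t s : S, t = s →
        (@Flat ⊓ @Surjective : MorphismProperty Scheme.{u}) (bcL α (S.fromSpecResidueField t)) →
        (@Flat ⊓ @Surjective : MorphismProperty Scheme.{u})
          (bcL α (S.fromSpecResidueField s)) := by
      intro t s hts h
      subst hts
      exact h
    have hU : U = ⊤ := by
      apply top_unique
      intro s _
      obtain ⟨x, hx⟩ := hsu.surj s
      have hz : ∀ t, (S'.fromSpecResidueField x).base t ∈ O x := by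
        intro t
        have h2 : (S'.fromSpecResidueField x).base t ∈ ({x} : Set S') := by
          rw [← Scheme.range_fromSpecResidueField]
          exact ⟨t, rfl⟩
        rw [Set.mem_singleton_iff.mp h2]
        exact hxO x
      have hw : ∀ t, (S'.fromSpecResidueField x ≫ f).base t = s := by
        intro t
        have h2 : (S'.fromSpecResidueField x).base t ∈ ({x} : Set S') := by
          rw [← Scheme.range_fromSpecResidueField]
          exact ⟨t, rfl⟩
        show f.base ((S'.fromSpecResidueField x).base t) = s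
        rw [Set.mem_singleton_iff.mp h2]
        exact hx
      have hQx : Q x := by
        by_contra hQ
        have h3 := hQ3 x hQ (S'.fromSpecResidueField x) hz
        exact hi s (triv_geomPt_of_triv α (K := S'.residueField x)
          (S'.fromSpecResidueField x ≫ f) s hw h3)
      have h4 := hQ1 x hQx (S'.fromSpecResidueField x) hz
      have h5 := (P_field_iff (P := (@Flat ⊓ @Surjective : MorphismProperty Scheme.{u})) α f x).mp h4
      exact (hUmem s).mpr (key _ s hx h5)
    subst hU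
    haveI : IsIso (⊤ : S.Opens).ι := inferInstanceAs (IsIso S.topIso.hom)
    haveI : IsIso (pullback.fst T.hom (⊤ : S.Opens).ι) := inferInstance
    haveI : IsIso (pullback.fst (Red.Gm S).hom (⊤ : S.Opens).ι) := inferInstance
    have e : α.left = inv (pullback.fst T.hom (⊤ : S.Opens).ι) ≫ bcL α (⊤ : S.Opens).ι ≫
        pullback.fst (Red.Gm S).hom (⊤ : S.Opens).ι := by
      rw [bcL_fst, IsIso.inv_hom_id_assoc]
    have h6 : (@Flat ⊓ @Surjective : MorphismProperty Scheme.{u}) α.left := by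
      rw [e]
      exact ((@Flat ⊓ @Surjective : MorphismProperty Scheme.{u}).cancel_left_of_respectsIso
        (inv (pullback.fst T.hom (⊤ : S.Opens).ι)) _).mpr
        (((@Flat ⊓ @Surjective : MorphismProperty Scheme.{u}).cancel_right_of_respectsIso
          (bcL α (⊤ : S.Opens).ι) (pullback.fst (Red.Gm S).hom (⊤ : S.Opens).ι)).mpr hUP)
    exact ⟨h6.1, h6.2⟩
  · rintro ⟨hfl, hsu⟩ s
    have hP : (@Flat ⊓ @Surjective : MorphismProperty Scheme.{u}) (bcL α (Red.geomPt s)) :=
      MorphismProperty.of_isPullback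
        (P := (@Flat ⊓ @Surjective : MorphismProperty Scheme.{u}))
        (sqL α (Red.geomPt s)) ⟨hfl, hsu⟩
    haveI : Flat (bcL α (Red.geomPt s)) := hP.1
    haveI : Surjective (bcL α (Red.geomPt s)) := hP.2
    exact not_triv_of_epi α (Red.geomPt s) (Flat.epi_of_flat_of_surjective _)

end Groth.Agent.Lib.MTHomH4
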