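import Mathlib
import Groth.Prelude
import Groth.Agent.Lib.TorusChar_helper4
import Groth.Agent.Lib.GrpSchFppf2_helper7

/-!
# The quotient of a split torus by a subgroup of multiplicative type is a split torus (helper4)

Over a connected base `S`, let `T ≅ D_S(ℤ^r)`, `i : H ⟶ T` a monomorphism from a group of
multiplicative type of finite type.  The characters of `T` which are trivial on `H` form a subgroup
`K ⊆ ℤ^r`; by local constancy of homomorphisms between diagonalisable groups and connectedness of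
`S`, `H ≅ D_S(ℤ^r / K)` and `T / H ≅ D_S(K)`.
-/

set_option backward.isDefEq.respectTransparency.types false
set_option autoImplicit false
set_option linter.unusedVariables false
set_option linter.unusedTactic false
set_option linter.unreachableTactic false
set_option linter.unusedSectionVars false
set_option linter.style.haveILetI false
set_option linter.deprecated false
set_option linter.unusedSimpArgs false
set_option linter.style.longLine false
set_option maxHeartbeats 1600000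

universe u

open CategoryTheory CategoryTheory.Limits MonoidalCategory CartesianMonoidalCategory MonObj GrpObj
  AlgebraicGeometry Opposite

namespace Groth.Agent.Lib.TorusQuotH4

open Groth.Agent.Lib.RedDictH8 Groth.Agent.Lib.DSDict Groth.Agent.Lib.MultGa
  Groth.Agent.Lib.MultTrivH4 Groth.Agent.Lib.ConnActH4 Groth.Agent.Lib.TwConstFinH4
  Groth.Agent.Lib.MTHomH4

/-! ### Algebra -/

section Alg

theorem exists_rank_le (r : ℕ) (K : AddSubgroup (Fin r → ℤ)) :
    ∃ (r' : ℕ) (κ : (Fin r' → ℤ) →+ (Fin r → ℤ)), r' ≤ r ∧ Function.Injective κ ∧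
      (∀ l, κ l ∈ K) ∧ (∀ k ∈ K, ∃ l, κ l = k) := by
  obtain ⟨N, hN⟩ : ∃ N : Submodule ℤ (Fin r → ℤ), N = AddSubgroup.toIntSubmodule K := ⟨_, rfl⟩
  have hmem : ∀ x, x ∈ N ↔ x ∈ K := by
    intro x
    rw [hN]
    exact Iff.rfl
  haveI : Module.Finite ℤ N := inferInstance
  haveI : Module.Free ℤ N := inferInstance
  have hle : Module.finrank ℤ N ≤ r := by
    have h := Submodule.finrank_le N
    rw [Module.finrank_fin_fun] at h
    exact h
  obtain ⟨b⟩ : Nonempty (Module.Basis (Fin (Module.finrank ℤ N)) ℤ N) := ⟨Module.finBasis ℤ N⟩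
  obtain ⟨κ, hκ⟩ : ∃ κ : (Fin (Module.finrank ℤ N) → ℤ) →+ (Fin r → ℤ),
      ∀ l, κ l = ((b.equivFun.symm l : N) : Fin r → ℤ) :=
    ⟨(N.subtype.comp b.equivFun.symm.toLinearMap).toAddMonoidHom, fun l => rfl⟩
  refine ⟨Module.finrank ℤ N, κ, hle, ?_, ?_, ?_⟩
  · intro l l' h
    rw [hκ, hκ] at h
    exact b.equivFun.symm.injective (Subtype.ext h)
  · intro l
    rw [hκ]
    exact (hmem _).mp (b.equivFun.symm l).2
  · intro k hk
    refine ⟨b.equivFun ⟨k, (hmem k).mpr hk⟩, ?_⟩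
    rw [hκ, LinearEquiv.symm_apply_apply]

variable {S : Scheme.{u}}

theorem exists_lift_quot {M : Type} [AddCommGroup M] (K : AddSubgroup M) {Z : Over S}
    (ζ : Z ⟶ Red.DS S M) (h : ∀ k ∈ K, chr ζ k = 1) :
    ∃ ζ' : Z ⟶ Red.DS S (M ⧸ K), ζ' ≫ Red.DSmap S (QuotientAddGroup.mk' K) = ζ := by
  obtain ⟨φ, hφ⟩ : ∃ φ : M →+ Additive Γ(Z.left, ⊤), ∀ m, φ m = Additive.ofMul (chr ζ m) :=
    ⟨{ toFun := fun m => Additive.ofMul (chr ζ m)
       map_zero' := congrArg Additive.ofMul (chr_zero ζ)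
       map_add' := fun m m' => congrArg Additive.ofMul (chr_add ζ m m') }, fun m => rfl⟩
  have hker : K ≤ φ.ker := by
    intro k hk
    rw [AddMonoidHom.mem_ker, hφ, h k hk]
    rfl
  obtain ⟨φb, hφb⟩ : ∃ φb : M ⧸ K →+ Additive Γ(Z.left, ⊤),
      ∀ m, φb (QuotientAddGroup.mk' K m) = φ m :=
    ⟨QuotientAddGroup.lift K φ hker, fun m => rfl⟩
  obtain ⟨ψ, hψ⟩ : ∃ ψ : Multiplicative (M ⧸ K) →* Γ(Z.left, ⊤),
      ∀ q, ψ (Multiplicative.ofAdd q) = Additive.toMul (φb q) :=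
    ⟨{ toFun := fun x => Additive.toMul (φb (Multiplicative.toAdd x))
       map_one' := congrArg Additive.toMul (map_zero φb)
       map_mul' := fun a b => congrArg Additive.toMul
         (map_add φb (Multiplicative.toAdd a) (Multiplicative.toAdd b)) }, fun q => rfl⟩
  obtain ⟨ζ', hζ'⟩ := exists_chr_eq (S := S) (M := M ⧸ K) (T := Z) ψ
  refine ⟨ζ', ?_⟩
  apply chr_injective
  intro m
  rw [chr_DSmap, hζ', hψ, hφb, hφ]
  rfl

theorem isMonHom_of_comp_mono {H D D' : Over S} [GrpObj H] [GrpObj D] [GrpObj D']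
    (w : H ⟶ D) (j : D ⟶ D') [IsMonHom j] (hwj : IsMonHom (w ≫ j))
    (hj : ∀ (Z : Over S) (a b : Z ⟶ D), a ≫ j = b ≫ j → a = b) : IsMonHom w := by
  haveI := hwj
  apply isMonHom_of_pointwise
  intro Z x y
  apply hj
  calc ((x * y) ≫ w) ≫ j = (x * y) ≫ (w ≫ j) := Category.assoc _ _ _
    _ = (x ≫ (w ≫ j)) * (y ≫ (w ≫ j)) := MonObj.mul_comp x y (w ≫ j)
    _ = ((x ≫ w) ≫ j) * ((y ≫ w) ≫ j) := by rw [Category.assoc, Category.assoc]
    _ = ((x ≫ w) * (y ≫ w)) ≫ j := (MonObj.mul_comp (x ≫ w) (y ≫ w) j).symm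

end Alg

/-! ### Trivial homomorphisms -/

section Triv

variable {S : Scheme.{u}} {G H : Over S} [GrpObj G] [GrpObj H] (u : G ⟶ H)

theorem triv_congr {S' : Scheme.{u}} {g g' : S' ⟶ S} (e : g = g')
    (h : (Over.pullback g).map u = 1) : (Over.pullback g').map u = 1 := by
  subst e
  exact h

theorem triv_of_one {S' : Scheme.{u}} (g : S' ⟶ S) (h : u = 1) :
    (Over.pullback g).map u = 1 := by
  rw [triv_iff_pts]
  intro T'' x
  rw [h, MonObj.comp_one]

theorem triv_of_id (h : (Over.pullback (𝟙 S)).map u = 1) : u = 1 := by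
  rw [triv_iff_pts] at h
  obtain ⟨x₁, hx₁⟩ : ∃ x₁ : (Over.map (𝟙 S)).obj G ⟶ G, x₁.left = 𝟙 G.left :=
    ⟨Over.homMk (𝟙 G.left) (by
      show 𝟙 G.left ≫ G.hom = G.hom ≫ 𝟙 S
      rw [Category.id_comp, Category.comp_id]), rfl⟩
  obtain ⟨y₁, hy₁⟩ : ∃ y₁ : G ⟶ (Over.map (𝟙 S)).obj G, y₁.left = 𝟙 G.left :=
    ⟨Over.homMk (𝟙 G.left) (by
      show 𝟙 G.left ≫ (G.hom ≫ 𝟙 S) = G.hom
      rw [Category.id_comp, Category.comp_id]), rfl⟩
  have hyx : y₁ ≫ x₁ = 𝟙 G := by
    apply Over.OverMorphism.ext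
    show y₁.left ≫ x₁.left = 𝟙 G.left
    rw [hx₁, hy₁, Category.id_comp]
  calc u = (y₁ ≫ x₁) ≫ u := by rw [hyx, Category.id_comp]
    _ = y₁ ≫ (x₁ ≫ u) := Category.assoc _ _ _
    _ = y₁ ≫ 1 := by rw [h G x₁]
    _ = 1 := MonObj.comp_one _

theorem triv_local {T : Scheme.{u}} (g : T ⟶ S) {I : Type*} (V : I → T.Opens)
    (hV : ∀ t : T, ∃ i, t ∈ V i) (h : ∀ i, (Over.pullback ((V i).ι ≫ g)).map u = 1) :
    (Over.pullback g).map u = 1 := by
  rw [triv_iff_pts]
  intro T'' x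
  apply Over.OverMorphism.ext
  apply hom_ext_of_flat_cover
  intro z
  obtain ⟨i, hi⟩ := hV (T''.hom.base (z : T''.left))
  obtain ⟨ρ, hρ⟩ : ∃ ρ : ((T''.hom ⁻¹ᵁ V i : T''.left.Opens) : Scheme.{u}) ⟶ (V i : Scheme.{u}),
      ρ ≫ (V i).ι = (T''.hom ⁻¹ᵁ V i).ι ≫ T''.hom :=
    ⟨T''.hom ∣_ V i, morphismRestrict_ι _ _⟩
  obtain ⟨cc, hcc⟩ : ∃ cc : (Over.map ((V i).ι ≫ g)).obj (Over.mk ρ) ⟶ (Over.map g).obj T'',
      cc.left = (T''.hom ⁻¹ᵁ V i).ι :=
    ⟨Over.homMk (T''.hom ⁻¹ᵁ V i).ι (by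
      show (T''.hom ⁻¹ᵁ V i).ι ≫ (T''.hom ≫ g) = ρ ≫ (V i).ι ≫ g
      rw [← Category.assoc, ← hρ, Category.assoc]), rfl⟩
  refine ⟨((T''.hom ⁻¹ᵁ V i : T''.left.Opens) : Scheme.{u}), (T''.hom ⁻¹ᵁ V i).ι, inferInstance,
    ⟨⟨z, hi⟩, rfl⟩, ?_⟩
  have h1 := (triv_iff_pts u ((V i).ι ≫ g)).mp (h i) (Over.mk ρ) (cc ≫ x)
  have h2 : cc ≫ (x ≫ u) = cc ≫ 1 := by
    rw [← Category.assoc, h1, MonObj.comp_one]
  rw [← hcc]
  exact congrArg (fun w => w.left) h2

theorem isIso_bcL_congr {T : Scheme.{u}} {g g' : T ⟶ S} (e : g = g') (h : IsIso (bcL u g)) :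
    IsIso (bcL u g') := by
  subst e
  exact h

end Triv

/-! ### The standard chart of `D_S(M)` -/

section PtDS

theorem trDown_DSmap {U W : Scheme.{u}} (r : W ⟶ U) {M M' : Type} [AddCommGroup M]
    [AddCommGroup M'] (ψ : M' →+ M) {T'' : Over W} (x' : (Over.map r).obj T'' ⟶ Red.DS U M) :
    trDown r (x' ≫ Red.DSmap U ψ) = trDown r x' ≫ Red.DSmap W ψ := by
  apply chr_injective
  intro m'
  have e1 : chr (trDown r (x' ≫ Red.DSmap U ψ)) m' = chrU r (x' ≫ Red.DSmap U ψ) m' :=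
    chr_trDown r _ m'
  have e2 : chrU r (x' ≫ Red.DSmap U ψ) m' = chrU r x' (ψ m') :=
    chr_DSmap (S := U) (T := (Over.map r).obj T'') ψ x' m'
  have e3 : chr (trDown r x' ≫ Red.DSmap W ψ) m' = chr (trDown r x') (ψ m') :=
    chr_DSmap ψ _ m'
  have e4 : chr (trDown r x') (ψ m') = chrU r x' (ψ m') := chr_trDown r _ _
  rw [e1, e2, e3, e4]

/-- the tautological chart of `D_S(M)`. -/
noncomputable def ptDS {S W : Scheme.{u}} (jjW : W ⟶ S) (M : Type) [AddCommGroup M] :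
    PtIso (Red.DS S M) jjW M where
  toD := fun T'' x => trDown jjW x
  ofD := fun T'' d => trUp jjW d
  of_to := fun T'' x => trUp_trDown jjW x
  to_of := fun T'' d => trDown_trUp jjW d
  to_mul := fun T'' x y => trDown_mul jjW x y
  to_nat := fun T''' T'' c x => trDown_comp jjW c x

end PtDS

/-! ### Charts and triviality of characters -/

section ChartTriv

theorem nu_triv {S B : Scheme.{u}} {T : Over S} [GrpObj T] (α : T ⟶ Red.Gm S) [IsMonHom α]
    (jj : B ⟶ S) {M : Type} [AddCommGroup M] (eT : PtIso T jj M) (eH : PtIso (Red.Gm S) jj ℤ)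
    {T₁ : Scheme.{u}} (r : T₁ ⟶ B)
    (ht : ∀ (T'' : Over T₁) (x : (Over.map (r ≫ jj)).obj T'' ⟶ T), x ≫ α = 1)
    (T'' : Over T₁) (d : (Over.map r).obj T'' ⟶ Red.DS B M) :
    nuOf α jj eT eH ((Over.map r).obj T'') d = 1 := by
  show eH.toD ((Over.map r).obj T'') (eT.ofD ((Over.map r).obj T'') d ≫ α) = 1
  have h1 := ht T'' (tau jj r T'' ≫ eT.ofD ((Over.map r).obj T'') d)
  have h2 : eT.ofD ((Over.map r).obj T'') d ≫ α =
      sig jj r T'' ≫ (tau jj r T'' ≫ eT.ofD ((Over.map r).obj T'') d) ≫ α := by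
    rw [Category.assoc, ← Category.assoc (sig jj r T''), sig_tau, Category.id_comp]
  rw [h2, h1, MonObj.comp_one, eH.to_one]

theorem chart_triv' {S B : Scheme.{u}} {T : Over S} [GrpObj T] (α : T ⟶ Red.Gm S) [IsMonHom α]
    (jj : B ⟶ S) {M : Type} [AddCommGroup M] (eT : PtIso T jj M) (eH : PtIso (Red.Gm S) jj ℤ)
    (W₀ : B.Opens) (φ : ℤ →+ M)
    (hloc : ∀ (T' : Over B), (∀ z : T'.left, T'.hom.base z ∈ W₀) →
      ∀ d : T' ⟶ Red.DS B M, nuOf α jj eT eH T' d = d ≫ Red.DSmap B φ) :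
    (φ = 0 → ∀ {T₁ : Scheme.{u}} (r : T₁ ⟶ B), (∀ t : T₁, r.base t ∈ W₀) →
        (Over.pullback (r ≫ jj)).map α = 1) ∧
      (∀ (F' : Type u) [Field F'] (z : Spec (CommRingCat.of F') ⟶ B), (∀ t, z.base t ∈ W₀) →
        (Over.pullback (z ≫ jj)).map α = 1 → φ = 0) := by
  constructor
  · intro hφ T₁ r hr
    have hZ : ∀ (T'' : Over T₁) (d : (Over.map r).obj T'' ⟶ Red.DS B M),
        nuOf α jj eT eH ((Over.map r).obj T'') d = d ≫ Red.DSmap B φ := fun T'' d =>
      hloc ((Over.map r).obj T'') (fun z => hr _) d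
    rw [triv_iff_pts]
    intro T'' x
    apply (ptEquiv jj eH r T'').injective
    have e1 : ptEquiv jj eH r T'' (1 : (Over.map (r ≫ jj)).obj T'' ⟶ Red.Gm S) = 1 := by
      show eH.toD ((Over.map r).obj T'') (sig jj r T'' ≫ 1) = 1
      rw [MonObj.comp_one, eH.to_one]
    rw [ptEquiv_comm α jj eT eH r T'' x, hZ, hφ, Groth.Agent.Lib.DiagHom.DSmap_zero,
      MonObj.comp_one, e1]
  · intro F' _ z hz ht
    rw [triv_iff_pts] at ht
    obtain ⟨d, hd0⟩ : ∃ d : TB z (MonoidAlgebra F' (Multiplicative M)) ⟶ Red.DS B M,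
        ∀ m, chr d m = (Scheme.ΓSpecIso (CommRingCat.of (MonoidAlgebra F' (Multiplicative M)))).inv
          (MonoidAlgebra.of F' (Multiplicative M) (Multiplicative.ofAdd m)) :=
      ⟨pt z (MonoidAlgebra.of F' (Multiplicative M)), fun m => chr_pt z _ m⟩
    have hd := hloc (TB z (MonoidAlgebra F' (Multiplicative M))) (fun t => hz _) d
    have hnu : nuOf α jj eT eH (TB z (MonoidAlgebra F' (Multiplicative M))) d = 1 :=
      nu_triv α jj eT eH z ht (Over.mk (Spec.map (CommRingCat.ofHom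
        (algebraMap F' (MonoidAlgebra F' (Multiplicative M)))))) d
    have h3 : d ≫ Red.DSmap B φ = 1 := hd.symm.trans hnu
    have h4 : chr (d ≫ Red.DSmap B φ) (1 : ℤ) = 1 := by rw [h3, chr_one]
    rw [chr_DSmap, hd0] at h4
    have h5 := congrArg (fun w =>
      (Scheme.ΓSpecIso (CommRingCat.of (MonoidAlgebra F' (Multiplicative M)))).hom w) h4
    have e1 := Iso.inv_hom_id_apply
      (Scheme.ΓSpecIso (CommRingCat.of (MonoidAlgebra F' (Multiplicative M))))
      (MonoidAlgebra.of F' (Multiplicative M) (Multiplicative.ofAdd (φ 1)))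
    have e2 : (Scheme.ΓSpecIso (CommRingCat.of (MonoidAlgebra F' (Multiplicative M)))).hom 1 = 1 := by
      rw [map_one]
    have h6 : MonoidAlgebra.of F' (Multiplicative M) (Multiplicative.ofAdd (φ 1)) =
        MonoidAlgebra.of F' (Multiplicative M) 1 :=
      (e1.symm.trans (h5.trans e2)).trans (map_one (MonoidAlgebra.of F' (Multiplicative M))).symm
    have h7 : Multiplicative.ofAdd (φ 1) = 1 := MonoidAlgebra.of_injective h6
    have h8 : φ 1 = 0 := ofAdd_eq_one.mp h7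
    exact AddMonoidHom.ext_int (h8.trans (AddMonoidHom.zero_apply _).symm)

end ChartTriv

/-! ### Propagation of triviality over a connected base -/

theorem triv_propagate {S : Scheme.{u}} [ConnectedSpace ↥S] {H : Over S} [GrpObj H]
    (α : H ⟶ Red.Gm S) {X : Scheme.{u}} (F : X ⟶ S) [Flat F] [Surjective F]
    (hcov : ∀ V : S.Opens, IsAffineOpen V → ∃ (P' : Scheme.{u}) (p : P' ⟶ (V : Scheme.{u}))
      (m : P' ⟶ X), Flat p ∧ Surjective p ∧ QuasiCompact p ∧ m ≫ F = p ≫ V.ι)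
    (O : X → X.Opens) (hxO : ∀ x, x ∈ O x) (Q : X → Prop)
    (hQ1 : ∀ x, Q x → ∀ {T₁ : Scheme.{u}} (r : T₁ ⟶ X), (∀ t : T₁, r.base t ∈ O x) →
      (Over.pullback (r ≫ F)).map α = 1)
    (hQ2 : ∀ x (K : Type u) [Field K] (z : Spec (CommRingCat.of K) ⟶ X),
      (∀ t, z.base t ∈ O x) → (Over.pullback (z ≫ F)).map α = 1 → Q x)
    (x₀ : X) (h₀ : Q x₀) : α = 1 := by
  obtain ⟨A, hAdef⟩ : ∃ A : Set S,
      A = {s | (Over.pullback (S.fromSpecResidueField s)).map α = 1} := ⟨_, rfl⟩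
  have key : ∀ x x' : X, x' ∈ O x → (F.base x' ∈ A ↔ Q x) := by
    intro x x' hx'
    have hz : ∀ t, (X.fromSpecResidueField x').base t ∈ O x := by
      intro t
      have h1 : (X.fromSpecResidueField x').base t ∈ ({x'} : Set X) := by
        rw [← Scheme.range_fromSpecResidueField]
        exact ⟨t, rfl⟩
      rw [Set.mem_singleton_iff.mp h1]
      exact hx'
    have e : X.fromSpecResidueField x' ≫ F =
        Spec.map (F.residueFieldMap x') ≫ S.fromSpecResidueField (F.base x') :=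
      (Scheme.Hom.SpecMap_residueFieldMap_fromSpecResidueField F x').symm
    obtain ⟨h1, h2, h3⟩ := flat_surj_qc_SpecMap_field (K := S.residueField (F.base x'))
      (L := X.residueField x') (F.residueFieldMap x')
    haveI := h1
    haveI := h2
    have hA' : F.base x' ∈ A ↔
        (Over.pullback (S.fromSpecResidueField (F.base x'))).map α = 1 := by
      rw [hAdef]
      exact Iff.rfl
    rw [hA']
    constructor
    · intro h
      exact hQ2 x (X.residueField x') (X.fromSpecResidueField x') hz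
        (triv_congr α e.symm (triv_comp α _ (Spec.map (F.residueFieldMap x')) h))
    · intro hq
      exact triv_desc α _ (Spec.map (F.residueFieldMap x'))
        (triv_congr α e (hQ1 x hq (X.fromSpecResidueField x') hz))
  have hopen1 : IsOpen (F.base ⁻¹' A) := by
    rw [isOpen_iff_forall_mem_open]
    intro x hx
    refine ⟨(O x : Set X), ?_, (O x).isOpen, hxO x⟩
    intro x' hx'
    have hq : Q x := (key x x (hxO x)).mp hx
    exact (key x x' hx').mpr hq
  have hopen2 : IsOpen (F.base ⁻¹' Aᶜ) := by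
    rw [isOpen_iff_forall_mem_open]
    intro x hx
    refine ⟨(O x : Set X), ?_, (O x).isOpen, hxO x⟩
    intro x' hx' hx'A
    exact hx ((key x x (hxO x)).mpr ((key x x' hx').mp hx'A))
  have hAopen : IsOpen A := isOpen_of_cov F hcov A hopen1
  have hAclosed : IsClosed A := ⟨isOpen_of_cov F hcov Aᶜ hopen2⟩
  have hAuniv : A = Set.univ := by
    rcases isClopen_iff.mp (⟨hAclosed, hAopen⟩ : IsClopen A) with h | h
    · exfalso
      have h1 : F.base x₀ ∈ A := (key x₀ x₀ (hxO x₀)).mpr h₀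
      rw [h] at h1
      exact h1
    · exact h
  have hQall : ∀ x, Q x := by
    intro x
    refine (key x x (hxO x)).mp ?_
    rw [hAuniv]
    exact Set.mem_univ _
  have h1 : (Over.pullback F).map α = 1 :=
    triv_local α F O (fun t => ⟨t, hxO t⟩) (fun x => hQ1 x (hQall x) (O x).ι (fun t => t.2))
  have h2 : (Over.pullback (𝟙 S)).map α = 1 :=
    triv_desc α (𝟙 S) F (triv_congr α (Category.comp_id F).symm h1)
  exact triv_of_id α h2

end Groth.Agent.Lib.TorusQuotH4
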