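import Mathlib
import Groth.Prelude
import Groth.Agent.Lib.TorusQuot_helper4

/-!
# The quotient of a split torus by a subgroup of multiplicative type is a split torus, II (helper4)
-/

set_option backward.isDefEq.respectTransparency.types false
set_option autoImplicit false
set_option linter.unusedVariables false
set_option linter.unusedTactic false
set_option linter.unreachableTactic false
set_option linter.unusedSectionVars false
set_option linter.style.haveILetI false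
set_option linter.deprecated false
set_option linter.unusedSimpArgs false
set_option linter.style.longLine false
set_option maxHeartbeats 1600000

universe u

open CategoryTheory CategoryTheory.Limits MonoidalCategory CartesianMonoidalCategory MonObj GrpObj
  AlgebraicGeometry Opposite

namespace Groth.Agent.Lib.TorusQuotH4

open Groth.Agent.Lib.RedDictH8 Groth.Agent.Lib.DSDict Groth.Agent.Lib.MultGa
  Groth.Agent.Lib.MultTrivH4 Groth.Agent.Lib.ConnActH4 Groth.Agent.Lib.TwConstFinH4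
  Groth.Agent.Lib.MTHomH4

/-! ### Charts of a subgroup of multiplicative type of a diagonalisable group -/

theorem charts {S : Scheme.{u}} {H : Over S} [GrpObj H] (hH : SGA3x.IsMultTypeFT H) {M : Type}
    [AddCommGroup M] (hM : AddGroup.FG M) (i' : H ⟶ Red.DS S M) [IsMonHom i']
    (hmono : ∀ (Z : Over S) (x y : Z ⟶ H), x ≫ i' = y ≫ i' → x = y) :
    ∃ (X : Scheme.{u}) (F : X ⟶ S), Flat F ∧ Surjective F ∧
      (∀ V : S.Opens, IsAffineOpen V → ∃ (P' : Scheme.{u}) (p : P' ⟶ (V : Scheme.{u}))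
        (m : P' ⟶ X), Flat p ∧ Surjective p ∧ QuasiCompact p ∧ m ≫ F = p ≫ V.ι) ∧
      ∀ x : X, ∃ (O : X.Opens) (Kx : AddSubgroup M), x ∈ O ∧
        (∀ m ∈ Kx, ∀ {T₁ : Scheme.{u}} (r : T₁ ⟶ X), (∀ t : T₁, r.base t ∈ O) →
          (Over.pullback (r ≫ F)).map (i' ≫ Red.DSmap S (zmultiplesHom M m)) = 1) ∧
        (∀ (m : M) (K' : Type u) [Field K'] (z : Spec (CommRingCat.of K') ⟶ X),
          (∀ t, z.base t ∈ O) →
          (Over.pullback (z ≫ F)).map (i' ≫ Red.DSmap S (zmultiplesHom M m)) = 1 → m ∈ Kx) ∧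
        (∀ (K : AddSubgroup M), (∀ m, m ∈ K ↔ m ∈ Kx) → ∀ (w : H ⟶ Red.DS S (M ⧸ K)),
          w ≫ Red.DSmap S (QuotientAddGroup.mk' K) = i' →
          ∀ {T₁ : Scheme.{u}} (r : T₁ ⟶ X), (∀ t : T₁, r.base t ∈ O) → IsIso (bcL w (r ≫ F))) := by
  obtain ⟨S₁, f₁, hflat₁, hsurj₁, hcov₁, hloc₁⟩ := hH
  haveI := hflat₁
  haveI := hsurj₁
  refine ⟨S₁, f₁, hflat₁, hsurj₁, ?_, ?_⟩
  · intro V hV
    obtain ⟨W, hWc, hWV⟩ := hcov₁ V hV
    obtain ⟨fW, e, h1, h2, h3⟩ := exists_fpqc_piece f₁ V hV W hWc hWV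
    exact ⟨W, fW, W.ι, h1, h2, h3, e.symm⟩
  · intro x
    obtain ⟨U₁, hxU, N, instN, hNfg, ⟨eA⟩⟩ := hloc₁ x
    obtain ⟨a1, ainv, ha1, hainv, h1, h2⟩ := Groth.Agent.Lib.DiagHom.iso_data eA
    haveI := ha1
    haveI := hainv
    obtain ⟨jj, hjj⟩ : ∃ jj : (U₁ : Scheme.{u}) ⟶ S, jj = U₁.ι ≫ f₁ := ⟨_, rfl⟩
    obtain ⟨pH⟩ := exists_transport H (U₁.ι ≫ f₁) a1 ainv h1 h2 (𝟙 (U₁ : Scheme.{u})) jj (by
      rw [hjj, Category.id_comp])
    obtain ⟨W₀, φ, hb, hloc⟩ := local_const (nuOf i' jj pH (ptDS jj M))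
      (nuOf_nat i' jj pH (ptDS jj M)) (nuOf_hom i' jj pH (ptDS jj M)) hM (⟨x, hxU⟩ : U₁)
    -- the chart of the characters `i' ≫ χ_m`
    have hlocα : ∀ (m : M) (T' : Over (U₁ : Scheme.{u})), (∀ z : T'.left, T'.hom.base z ∈ W₀) →
        ∀ d : T' ⟶ Red.DS (U₁ : Scheme.{u}) N,
          nuOf (i' ≫ Red.DSmap S (zmultiplesHom M m)) jj pH (ptDS jj ℤ) T' d =
            d ≫ Red.DSmap (U₁ : Scheme.{u}) (φ.comp (zmultiplesHom M m)) := by
      intro m T' hT' d
      have h3 := hloc T' hT' d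
      have h4 : nuOf (i' ≫ Red.DSmap S (zmultiplesHom M m)) jj pH (ptDS jj ℤ) T' d =
          nuOf i' jj pH (ptDS jj M) T' d ≫ Red.DSmap (U₁ : Scheme.{u}) (zmultiplesHom M m) := by
        show trDown jj (pH.ofD T' d ≫ i' ≫ Red.DSmap S (zmultiplesHom M m)) =
          trDown jj (pH.ofD T' d ≫ i') ≫ Red.DSmap (U₁ : Scheme.{u}) (zmultiplesHom M m)
        rw [← Category.assoc, trDown_DSmap]
      rw [h4, h3, Category.assoc, Groth.Agent.Lib.DiagHom.DSmap_comp]
    -- `φ` is surjective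
    have hsurj_aux : ∀ (F' : Type u) [Field F'] (z : Spec (CommRingCat.of F') ⟶ (U₁ : Scheme.{u})),
        (∀ t, z.base t ∈ W₀) → Function.Surjective φ := by
      intro F' _ z hzb
      apply surjective_of_inj z φ
      intro C _ _ d d' hdd
      have h3 := hloc (TB z C) (fun t => hzb _) d
      have h4 := hloc (TB z C) (fun t => hzb _) d'
      have h5 : nuOf i' jj pH (ptDS jj M) _ d = nuOf i' jj pH (ptDS jj M) _ d' := by
        rw [h3, h4, hdd]
      have h6 : trDown jj (pH.ofD _ d ≫ i') = trDown jj (pH.ofD _ d' ≫ i') := h5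
      have h7 : pH.ofD _ d ≫ i' = pH.ofD _ d' ≫ i' := by
        rw [← trUp_trDown jj (pH.ofD _ d ≫ i'), h6, trUp_trDown]
      have h8 := hmono _ _ _ h7
      rw [← pH.to_of _ d, h8, pH.to_of]
    have hφsurj : Function.Surjective φ := by
      obtain ⟨b, hbdef⟩ : ∃ b : (U₁ : Scheme.{u}), b = ⟨x, hxU⟩ := ⟨_, rfl⟩
      have hzb : ∀ t, ((U₁ : Scheme.{u}).fromSpecResidueField b).base t ∈ W₀ := by
        intro t
        have h3 : ((U₁ : Scheme.{u}).fromSpecResidueField b).base t ∈ ({b} : Set U₁) := by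
          rw [← Scheme.range_fromSpecResidueField]
          exact ⟨t, rfl⟩
        rw [Set.mem_singleton_iff.mp h3, hbdef]
        exact hb
      exact hsurj_aux ((U₁ : Scheme.{u}).residueField b)
        ((U₁ : Scheme.{u}).fromSpecResidueField b) hzb
    refine ⟨⟨U₁.ι.base '' (W₀ : Set U₁), U₁.ι.isOpenEmbedding.isOpenMap _ W₀.isOpen⟩, φ.ker,
      ⟨⟨x, hxU⟩, hb, rfl⟩, ?_, ?_, ?_⟩
    · intro m hm T₁ r hr
      obtain ⟨r', hrr', hr'W⟩ := lift_into U₁ W₀ r hr
      have e : r' ≫ jj = r ≫ f₁ := by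
        rw [hjj, ← Category.assoc, hrr']
      have h0 : φ.comp (zmultiplesHom M m) = 0 := by
        apply AddMonoidHom.ext_int
        show φ (zmultiplesHom M m 1) = 0
        rw [zmultiplesHom_apply, one_zsmul]
        exact AddMonoidHom.mem_ker.mp hm
      exact triv_congr _ e ((chart_triv' (i' ≫ Red.DSmap S (zmultiplesHom M m)) jj pH
        (ptDS jj ℤ) W₀ _ (hlocα m)).1 h0 r' hr'W)
    · intro m K' _ z hz ht
      obtain ⟨z', hzz', hz'W⟩ := lift_into U₁ W₀ z hz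
      have e : z' ≫ jj = z ≫ f₁ := by
        rw [hjj, ← Category.assoc, hzz']
      have h0 := (chart_triv' (i' ≫ Red.DSmap S (zmultiplesHom M m)) jj pH
        (ptDS jj ℤ) W₀ _ (hlocα m)).2 K' z' hz'W (triv_congr _ e.symm ht)
      have h3 : (φ.comp (zmultiplesHom M m)) 1 = (0 : ℤ →+ N) 1 := by rw [h0]
      have h4 : φ (zmultiplesHom M m 1) = 0 := h3
      rw [zmultiplesHom_apply, one_zsmul] at h4
      exact AddMonoidHom.mem_ker.mpr h4
    · intro K hKK w hw T₁ r hr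
      obtain ⟨r', hrr', hr'W⟩ := lift_into U₁ W₀ r hr
      have e : r' ≫ jj = r ≫ f₁ := by
        rw [hjj, ← Category.assoc, hrr']
      have hjinj : ∀ (Z : Over S) (a b : Z ⟶ Red.DS S (M ⧸ K)),
          a ≫ Red.DSmap S (QuotientAddGroup.mk' K) = b ≫ Red.DSmap S (QuotientAddGroup.mk' K) →
            a = b := fun Z a b hab =>
        comp_DSmap_injective (QuotientAddGroup.mk' K) (QuotientAddGroup.mk'_surjective K) Z a b hab
      haveI : IsMonHom w := isMonHom_of_comp_mono w (Red.DSmap S (QuotientAddGroup.mk' K)) (by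
        rw [hw]
        infer_instance) hjinj
      have hle : K ≤ φ.ker := fun m hm => (hKK m).mp hm
      obtain ⟨φw, hφw⟩ : ∃ φw : M ⧸ K →+ N, ∀ m, φw (QuotientAddGroup.mk' K m) = φ m :=
        ⟨QuotientAddGroup.lift K φ hle, fun m => rfl⟩
      have hφwbij : Function.Bijective φw := by
        constructor
        · rw [injective_iff_map_eq_zero]
          intro qb hqb
          obtain ⟨m, rfl⟩ := QuotientAddGroup.mk'_surjective K qb
          rw [hφw] at hqb
          have hmK : m ∈ K := (hKK m).mpr (AddMonoidHom.mem_ker.mpr hqb)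
          exact (QuotientAddGroup.eq_zero_iff m).mpr hmK
        · intro n
          obtain ⟨m, hm⟩ := hφsurj n
          exact ⟨QuotientAddGroup.mk' K m, (hφw m).trans hm⟩
      have hZ : ∀ (T'' : Over T₁) (d : (Over.map r').obj T'' ⟶ Red.DS (U₁ : Scheme.{u}) N),
          nuOf w jj pH (ptDS jj (M ⧸ K)) ((Over.map r').obj T'') d =
            d ≫ Red.DSmap (U₁ : Scheme.{u}) φw := by
        intro T'' d
        apply chr_injective
        intro qb
        obtain ⟨m, rfl⟩ := QuotientAddGroup.mk'_surjective K qb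
        have h3 := hloc ((Over.map r').obj T'') (fun z => hr'W _) d
        have e1 : chr (nuOf w jj pH (ptDS jj (M ⧸ K)) ((Over.map r').obj T'') d)
            (QuotientAddGroup.mk' K m) =
            chr (pH.ofD ((Over.map r').obj T'') d ≫ w) (QuotientAddGroup.mk' K m) :=
          chr_trDown jj (pH.ofD ((Over.map r').obj T'') d ≫ w) _
        have e2 : chr (pH.ofD ((Over.map r').obj T'') d ≫ w) (QuotientAddGroup.mk' K m) =
            chr (pH.ofD ((Over.map r').obj T'') d ≫ i') m := by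
          rw [← hw, ← Category.assoc, chr_DSmap]
        have e3 : chr (nuOf i' jj pH (ptDS jj M) ((Over.map r').obj T'') d) m =
            chr (pH.ofD ((Over.map r').obj T'') d ≫ i') m :=
          chr_trDown jj (pH.ofD ((Over.map r').obj T'') d ≫ i') _
        rw [e1, e2, ← e3, h3, chr_DSmap, chr_DSmap, hφw]
      have hfin : IsIso (bcL (Red.DSmap (U₁ : Scheme.{u}) φw) r') := by
        obtain ⟨ψ, hψ1, hψ2⟩ : ∃ ψ : N →+ M ⧸ K, (∀ n, φw (ψ n) = n) ∧ (∀ q, ψ (φw q) = q) :=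
          ⟨(AddEquiv.ofBijective φw hφwbij).symm.toAddMonoidHom,
            fun n => (AddEquiv.ofBijective φw hφwbij).apply_symm_apply n,
            fun q => (AddEquiv.ofBijective φw hφwbij).symm_apply_apply q⟩
        have e1 : φw.comp ψ = AddMonoidHom.id N := AddMonoidHom.ext hψ1
        have e2 : ψ.comp φw = AddMonoidHom.id (M ⧸ K) := AddMonoidHom.ext hψ2
        haveI : IsIso (Red.DSmap (U₁ : Scheme.{u}) φw) :=
          ⟨⟨Red.DSmap (U₁ : Scheme.{u}) ψ,
            by rw [Groth.Agent.Lib.DiagHom.DSmap_comp, e1, Groth.Agent.Lib.DiagHom.DSmap_id],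
            by rw [Groth.Agent.Lib.DiagHom.DSmap_comp, e2, Groth.Agent.Lib.DiagHom.DSmap_id]⟩⟩
        haveI : IsIso ((Over.pullback r').map (Red.DSmap (U₁ : Scheme.{u}) φw)) := inferInstance
        exact (isIso_left_iff _).mpr inferInstance
      have hgoal := (iso_of_hZ w jj pH (ptDS jj (M ⧸ K)) r' φw hZ
        (MorphismProperty.isomorphisms Scheme.{u})).mpr
        ((MorphismProperty.isomorphisms.iff _).mpr hfin)
      have h9 : IsIso (bcL w (r' ≫ jj)) := (MorphismProperty.isomorphisms.iff _).mp hgoal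
      exact isIso_bcL_congr w e h9

/-! ### Uniqueness of quotients -/

section Quot

variable {S : Scheme.{u}}

theorem desc_of_effEpi {A B X : Over S} (c : A ⟶ B) [EffectiveEpi c.left] (f : A ⟶ X)
    (hf : ∀ (T : Over S) (a₁ a₂ : T ⟶ A), a₁ ≫ c = a₂ ≫ c → a₁ ≫ f = a₂ ≫ f) :
    ∃ f' : B ⟶ X, c ≫ f' = f := by
  haveI : Epi c.left := inferInstance
  have hcoeq : ∀ {Z : Scheme.{u}} (g₁ g₂ : Z ⟶ A.left), g₁ ≫ c.left = g₂ ≫ c.left →
      g₁ ≫ f.left = g₂ ≫ f.left := by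
    intro Z g₁ g₂ h
    have hA : g₁ ≫ A.hom = g₂ ≫ A.hom := by
      rw [← Over.w c, ← Category.assoc, h, Category.assoc]
    obtain ⟨t₁, ht₁⟩ : ∃ t₁ : Over.mk (g₁ ≫ A.hom) ⟶ A, t₁.left = g₁ := ⟨Over.homMk g₁ rfl, rfl⟩
    obtain ⟨t₂, ht₂⟩ : ∃ t₂ : Over.mk (g₁ ≫ A.hom) ⟶ A, t₂.left = g₂ :=
      ⟨Over.homMk g₂ hA.symm, rfl⟩
    have ht : t₁ ≫ c = t₂ ≫ c := by
      apply Over.OverMorphism.ext
      show t₁.left ≫ c.left = t₂.left ≫ c.left
      rw [ht₁, ht₂]
      exact h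
    have h3 := congrArg (fun k => k.left) (hf _ t₁ t₂ ht)
    have h4 : t₁.left ≫ f.left = t₂.left ≫ f.left := h3
    rw [ht₁, ht₂] at h4
    exact h4
  obtain ⟨ψ, hψ⟩ : ∃ ψ : B.left ⟶ X.left, c.left ≫ ψ = f.left :=
    ⟨EffectiveEpi.desc c.left f.left hcoeq, EffectiveEpi.fac c.left f.left hcoeq⟩
  have hψw : ψ ≫ X.hom = B.hom := by
    rw [← cancel_epi c.left, ← Category.assoc, hψ, Over.w f, Over.w c]
  refine ⟨Over.homMk ψ hψw, ?_⟩
  apply Over.OverMorphism.ext
  exact hψ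

theorem quot_map {T H Q D : Over S} [GrpObj T] [GrpObj H] (i : H ⟶ T) (q : T ⟶ Q) (q' : T ⟶ D)
    [EffectiveEpi q.left] (hpb : IsPullback (fst T H) ((T ◁ i) ≫ μ[T]) q q)
    (hw : fst T H ≫ q' = ((T ◁ i) ≫ μ[T]) ≫ q') : ∃ v : Q ⟶ D, q ≫ v = q' := by
  apply desc_of_effEpi q q'
  intro Z a₁ a₂ h
  obtain ⟨l, e1, e2⟩ : ∃ l : Z ⟶ T ⊗ H, l ≫ fst T H = a₁ ∧ l ≫ ((T ◁ i) ≫ μ[T]) = a₂ :=
    ⟨hpb.lift a₁ a₂ h, hpb.lift_fst _ _ _, hpb.lift_snd _ _ _⟩
  calc a₁ ≫ q' = (l ≫ fst T H) ≫ q' := by rw [e1]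
    _ = l ≫ (fst T H ≫ q') := Category.assoc _ _ _
    _ = l ≫ (((T ◁ i) ≫ μ[T]) ≫ q') := by rw [hw]
    _ = (l ≫ ((T ◁ i) ≫ μ[T])) ≫ q' := (Category.assoc _ _ _).symm
    _ = a₂ ≫ q' := by rw [e2]

theorem quot_unique {T H Q D : Over S} [GrpObj T] [GrpObj H] [GrpObj Q] [GrpObj D] (i : H ⟶ T)
    (q : T ⟶ Q) (q' : T ⟶ D) [IsMonHom q] [IsMonHom q'] [EffectiveEpi q.left]
    [EffectiveEpi q'.left] (hepi : Epi (q ⊗ₘ q))
    (hpb : IsPullback (fst T H) ((T ◁ i) ≫ μ[T]) q q)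
    (hpb' : IsPullback (fst T H) ((T ◁ i) ≫ μ[T]) q' q') :
    Nonempty (Grp.mk Q ≅ Grp.mk D) := by
  obtain ⟨v, hv⟩ := quot_map i q q' hpb hpb'.w
  obtain ⟨v', hv'⟩ := quot_map i q' q hpb' hpb.w
  haveI : Epi q.left := inferInstance
  haveI : Epi q'.left := inferInstance
  haveI : Epi q := Over.epi_of_epi_left q
  haveI : Epi q' := Over.epi_of_epi_left q'
  have h1 : v ≫ v' = 𝟙 Q := by
    apply (cancel_epi q).mp
    rw [← Category.assoc, hv, hv', Category.comp_id]
  have h2 : v' ≫ v = 𝟙 D := by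
    apply (cancel_epi q').mp
    rw [← Category.assoc, hv', hv, Category.comp_id]
  have hone : η[Q] ≫ v = η[D] := by
    rw [← IsMonHom.one_hom q, Category.assoc, hv, IsMonHom.one_hom q']
  have hmul : μ[Q] ≫ v = (v ⊗ₘ v) ≫ μ[D] := by
    haveI := hepi
    apply (cancel_epi (q ⊗ₘ q)).mp
    calc (q ⊗ₘ q) ≫ μ[Q] ≫ v = (μ[T] ≫ q) ≫ v := by
          rw [IsMonHom.mul_hom q, Category.assoc]
      _ = μ[T] ≫ q' := by rw [Category.assoc, hv]
      _ = (q' ⊗ₘ q') ≫ μ[D] := IsMonHom.mul_hom q'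
      _ = ((q ≫ v) ⊗ₘ (q ≫ v)) ≫ μ[D] := by rw [hv]
      _ = (q ⊗ₘ q) ≫ (v ⊗ₘ v) ≫ μ[D] := by
          rw [← MonoidalCategory.tensorHom_comp_tensorHom, Category.assoc]
  obtain ⟨e, he⟩ : ∃ e : Q ≅ D, e.hom = v := ⟨⟨v, v', h1, h2⟩, rfl⟩
  haveI : IsMonHom e.hom := by
    rw [he]
    exact ⟨hone, hmul⟩
  exact ⟨Grp.mkIso' e⟩

theorem qc_DSmap (B : Scheme.{u}) {N M : Type} [AddCommGroup N] [AddCommGroup M] (φ : N →+ M) :
    QuasiCompact (Red.DSmap B φ).left := by
  have h : QuasiCompact (Spec.map (CommRingCat.ofHom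
      (MonoidAlgebra.mapDomainAlgHom (ULift.{u} ℤ) (ULift.{u} ℤ)
        (AddMonoidHom.toMultiplicative φ)).toRingHom)) := inferInstance
  have h' : QuasiCompact (Red.diagMap (ULift.{u} ℤ) φ).left := h
  exact MorphismProperty.of_isPullback (P := @QuasiCompact)
    (sqL (Red.diagMap (ULift.{u} ℤ) φ) (Limits.IsTerminal.from specULiftZIsTerminal B)) h'

end Quot

/-! ### The main theorem -/

theorem main16617 {S : Scheme.{u}} [ConnectedSpace ↥S]
    {T H Q : Over S} [GrpObj T] [GrpObj H] [GrpObj Q] (r : ℕ)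
    (hT : Red.IsSplitTorusWith (Fin r → ℤ) T)
    (i : H ⟶ T) [IsMonHom i] [Mono i] (hH : SGA3x.IsMultTypeFT H) (q : T ⟶ Q) [IsMonHom q]
    (hq : RedSub.IsQuotient i q) :
    ∃ r' : ℕ, r' ≤ r ∧ Red.IsSplitTorusWith (Fin r' → ℤ) Q := by
  obtain ⟨eT⟩ := hT
  obtain ⟨a, ainv, ha, hainv, h1, h2⟩ := Groth.Agent.Lib.DiagHom.iso_data eT
  haveI := ha
  haveI := hainv
  have hMfg : AddGroup.FG (Fin r → ℤ) := Module.Finite.iff_addGroup_fg.mp inferInstance
  obtain ⟨i', hi'⟩ : ∃ i' : H ⟶ Red.DS S (Fin r → ℤ), i' = i ≫ a := ⟨_, rfl⟩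
  haveI : IsMonHom i' := by
    rw [hi']
    infer_instance
  have hmono : ∀ (Z : Over S) (x y : Z ⟶ H), x ≫ i' = y ≫ i' → x = y := by
    intro Z x y hxy
    have h3 : (x ≫ i') ≫ ainv = (y ≫ i') ≫ ainv := by rw [hxy]
    rw [hi'] at h3
    simp only [Category.assoc, h1, Category.comp_id] at h3
    exact (cancel_mono i).mp h3
  -- the subgroup of characters which are trivial on `H`
  obtain ⟨K, hK⟩ : ∃ K : AddSubgroup (Fin r → ℤ), ∀ m, m ∈ K ↔ chr i' m = 1 :=
    ⟨{ carrier := {m | chr i' m = 1}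
       zero_mem' := chr_zero i'
       add_mem' := fun {m m'} hm hm' => by
         show chr i' (m + m') = 1
         rw [chr_add, show chr i' m = 1 from hm, show chr i' m' = 1 from hm', _root_.mul_one]
       neg_mem' := fun {m} hm => by
         show chr i' (-m) = 1
         have h3 := chr_mul_neg i' m
         rw [show chr i' m = 1 from hm, _root_.one_mul] at h3
         exact h3 }, fun m => Iff.rfl⟩
  have hKα : ∀ m, m ∈ K ↔ i' ≫ Red.DSmap S (zmultiplesHom (Fin r → ℤ) m) = 1 := by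
    intro m
    constructor
    · intro hm
      apply chr_injective
      intro k
      rw [chr_DSmap, chr_one, zmultiplesHom_apply]
      exact (hK _).mp (K.zsmul_mem hm k)
    · intro h
      refine (hK m).mpr ?_
      have h3 : chr (i' ≫ Red.DSmap S (zmultiplesHom (Fin r → ℤ) m)) (1 : ℤ) = 1 := by
        rw [h, chr_one]
      rw [chr_DSmap, zmultiplesHom_apply, one_zsmul] at h3
      exact h3
  -- charts
  obtain ⟨X, F, hFfl, hFsu, hcov, hch⟩ := charts hH hMfg i' hmono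
  haveI := hFfl
  haveI := hFsu
  choose O Kx hxO hP1 hP2 hP3 using hch
  have hz : ∀ (x : X) t, (X.fromSpecResidueField x).base t ∈ O x := by
    intro x t
    have h3 : (X.fromSpecResidueField x).base t ∈ ({x} : Set X) := by
      rw [← Scheme.range_fromSpecResidueField]
      exact ⟨t, rfl⟩
    rw [Set.mem_singleton_iff.mp h3]
    exact hxO x
  have hK1 : ∀ x m, m ∈ K → m ∈ Kx x := by
    intro x m hm
    exact hP2 x m (X.residueField x) (X.fromSpecResidueField x) (hz x)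
      (triv_of_one _ _ ((hKα m).mp hm))
  have hK2 : ∀ x m, m ∈ Kx x → m ∈ K := by
    intro x m hm
    refine (hKα m).mpr ?_
    exact triv_propagate (i' ≫ Red.DSmap S (zmultiplesHom (Fin r → ℤ) m)) F hcov O hxO
      (fun x' => m ∈ Kx x') (fun x' hq {T₁} r hr => hP1 x' m hq r hr)
      (fun x' K' _ z hz' ht => hP2 x' m K' z hz' ht) x hm
  have hKx : ∀ x m, m ∈ K ↔ m ∈ Kx x := fun x m => ⟨hK1 x m, hK2 x m⟩
  -- `H ≅ D(M / K)`
  obtain ⟨w, hw⟩ := exists_lift_quot K i' (fun k hk => (hK k).mp hk)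
  have hjinj : ∀ (Z : Over S) (a b : Z ⟶ Red.DS S ((Fin r → ℤ) ⧸ K)),
      a ≫ Red.DSmap S (QuotientAddGroup.mk' K) = b ≫ Red.DSmap S (QuotientAddGroup.mk' K) →
        a = b := fun Z a b hab =>
    comp_DSmap_injective (QuotientAddGroup.mk' K) (QuotientAddGroup.mk'_surjective K) Z a b hab
  haveI : IsMonHom w := isMonHom_of_comp_mono w (Red.DSmap S (QuotientAddGroup.mk' K)) (by
    rw [hw]
    infer_instance) hjinj
  have hwiso : IsIso w := by
    obtain ⟨U, hUc, hUmem, hUP⟩ := core w (MorphismProperty.isomorphisms Scheme.{u}) F hcov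
      (fun x => ⟨O x, hxO x, True,
        fun _ {T₁} r hr => (MorphismProperty.isomorphisms.iff _).mpr (hP3 x K (hKx x) w hw r hr),
        fun _ _ _ _ _ => trivial⟩)
    have key : ∀ t s : S, t = s →
        (MorphismProperty.isomorphisms Scheme.{u}) (bcL w (S.fromSpecResidueField t)) →
        (MorphismProperty.isomorphisms Scheme.{u}) (bcL w (S.fromSpecResidueField s)) := by
      intro t s hts h
      subst hts
      exact h
    have hU : U = ⊤ := by
      apply top_unique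
      intro s _
      obtain ⟨x, hx⟩ := hFsu.surj s
      have h4 : (MorphismProperty.isomorphisms Scheme.{u})
          (bcL w (X.fromSpecResidueField x ≫ F)) :=
        (MorphismProperty.isomorphisms.iff _).mpr
          (hP3 x K (hKx x) w hw (X.fromSpecResidueField x) (hz x))
      have h5 := (P_field_iff (P := MorphismProperty.isomorphisms Scheme.{u}) w F x).mp h4
      exact (hUmem s).mpr (key _ s hx h5)
    subst hU
    haveI : IsIso (⊤ : S.Opens).ι := inferInstanceAs (IsIso S.topIso.hom)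
    haveI : IsIso (pullback.fst H.hom (⊤ : S.Opens).ι) := inferInstance
    haveI : IsIso (pullback.fst (Red.DS S ((Fin r → ℤ) ⧸ K)).hom (⊤ : S.Opens).ι) :=
      inferInstance
    have e : w.left = inv (pullback.fst H.hom (⊤ : S.Opens).ι) ≫ bcL w (⊤ : S.Opens).ι ≫
        pullback.fst (Red.DS S ((Fin r → ℤ) ⧸ K)).hom (⊤ : S.Opens).ι := by
      rw [bcL_fst, IsIso.inv_hom_id_assoc]
    haveI : IsIso (bcL w (⊤ : S.Opens).ι) := (MorphismProperty.isomorphisms.iff _).mp hUP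
    haveI : IsIso w.left := by
      rw [e]
      infer_instance
    exact (isIso_left_iff w).mp inferInstance
  haveI := hwiso
  -- the quotient `T ⟶ D(K)`
  obtain ⟨r', κ, hr', hκinj, hκK, hκsurj⟩ := exists_rank_le r K
  obtain ⟨q', hq'def⟩ : ∃ q' : T ⟶ Red.DS S (Fin r' → ℤ), q' = a ≫ Red.DSmap S κ := ⟨_, rfl⟩
  haveI : IsMonHom q' := by
    rw [hq'def]
    infer_instance
  have huv : i ≫ q' = 1 := by
    rw [hq'def, ← Category.assoc, ← hi']
    apply chr_injective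
    intro l
    rw [chr_DSmap, chr_one]
    exact (hK _).mp (hκK l)
  have hex : ∀ (Z : Over S) (ζ : Z ⟶ T), ζ ≫ q' = 1 → ∃ z : Z ⟶ H, z ≫ i = ζ := by
    intro Z ζ hζ
    have hζa : ∀ k ∈ K, chr (ζ ≫ a) k = 1 := by
      intro k hk
      obtain ⟨l, rfl⟩ := hκsurj k hk
      have h3 : (ζ ≫ a) ≫ Red.DSmap S κ = 1 := by
        rw [Category.assoc, ← hq'def]
        exact hζ
      rw [← chr_DSmap κ (ζ ≫ a) l, h3, chr_one]
    obtain ⟨ζ', hζ'⟩ := exists_lift_quot K (ζ ≫ a) hζa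
    refine ⟨ζ' ≫ inv w, ?_⟩
    have e1 : i = w ≫ Red.DSmap S (QuotientAddGroup.mk' K) ≫ ainv := by
      rw [← Category.assoc, hw, hi', Category.assoc, h1, Category.comp_id]
    rw [e1, Category.assoc, IsIso.inv_hom_id_assoc, ← Category.assoc, hζ', Category.assoc, h1,
      Category.comp_id]
  have hinj : ∀ (Z : Over S) (z z' : Z ⟶ H), z ≫ i = z' ≫ i → z = z' :=
    fun Z z z' h => (cancel_mono i).mp h
  have hpb' := isPullback_of_kernel_on_points i q' huv hex hinj
  -- `q'` is an fpqc covering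
  haveI : IsIso a := ⟨⟨ainv, h1, h2⟩⟩
  haveI : IsIso a.left := (isIso_left_iff a).mpr inferInstance
  have hq'L : q'.left = a.left ≫ (Red.DSmap S κ).left := by
    rw [hq'def]
    rfl
  have hPD := P_DSmap S κ hκinj
  haveI : Flat q'.left := by
    rw [hq'L]
    exact (MorphismProperty.cancel_left_of_respectsIso (@Flat : MorphismProperty Scheme.{u})
      a.left _).mpr hPD.1
  haveI : Surjective q'.left := by
    rw [hq'L]
    exact (MorphismProperty.cancel_left_of_respectsIso (@Surjective : MorphismProperty Scheme.{u})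
      a.left _).mpr hPD.2
  haveI : QuasiCompact q'.left := by
    rw [hq'L]
    exact (MorphismProperty.cancel_left_of_respectsIso (@QuasiCompact : MorphismProperty Scheme.{u})
      a.left _).mpr (qc_DSmap S κ)
  haveI : EffectiveEpi q'.left := inferInstance
  -- `q` is an fppf covering
  haveI : Surjective q.left := hq.1
  haveI : Flat q.left := hq.2.1
  haveI : LocallyOfFinitePresentation q.left := hq.2.2.1
  haveI : EffectiveEpi q.left := inferInstance
  have hepi : Epi (q ⊗ₘ q) := GrpSchFppfH7.epi_tensorHom q q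
  obtain ⟨e⟩ := quot_unique i q q' hepi hq.2.2.2 hpb'
  exact ⟨r', hr', Nonempty.intro e⟩

end Groth.Agent.Lib.TorusQuotH4
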