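import Mathlib
import Groth.Prelude
import Groth.Agent.Lib.TorusQuot2_helper4

/-!
# The quotient of a torus by a subgroup of multiplicative type is a torus (helper4)
-/

set_option backward.isDefEq.respectTransparency.types false
set_option autoImplicit false
set_option linter.unusedVariables false
set_option linter.unusedTactic false
set_option linter.unreachableTactic false
set_option linter.unusedSectionVars false
set_option linter.style.haveILetI false
set_option linter.deprecated false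
set_option linter.unusedSimpArgs false
set_option linter.style.longLine false
set_option maxHeartbeats 1600000

universe u

open CategoryTheory CategoryTheory.Limits MonoidalCategory CartesianMonoidalCategory MonObj GrpObj
  AlgebraicGeometry Opposite

namespace Groth.Agent.Lib.TorusQuotH4

open Groth.Agent.Lib.RedDictH8 Groth.Agent.Lib.DSDict Groth.Agent.Lib.MultGa
  Groth.Agent.Lib.MultTrivH4 Groth.Agent.Lib.ConnActH4 Groth.Agent.Lib.TwConstFinH4
  Groth.Agent.Lib.MTHomH4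

/-! ### From charts of the functor of points to isomorphisms of group schemes -/

section PtSplit

variable {S B : Scheme.{u}} {X : Over S} [GrpObj X] (jj : B ⟶ S) {M : Type} [AddCommGroup M]
  (e : PtIso X jj M)

/-- the bijection on points induced by a chart. -/
noncomputable def ptPhi (T'' : Over B) : (T'' ⟶ Red.bc jj X) ≃ (T'' ⟶ Red.DS B M) where
  toFun x := e.toD T'' (chk jj x)
  invFun d := unchk jj (e.ofD T'' d)
  left_inv x := by
    show unchk jj (e.ofD T'' (e.toD T'' (chk jj x))) = x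
    rw [e.of_to, unchk_chk]
  right_inv d := by
    show e.toD T'' (chk jj (unchk jj (e.ofD T'' d))) = d
    rw [chk_unchk, e.to_of]

theorem split_of_ptIso :
    ∃ (a : Red.bc jj X ⟶ Red.DS B M) (ainv : Red.DS B M ⟶ Red.bc jj X), IsMonHom a ∧
      IsMonHom ainv ∧ a ≫ ainv = 𝟙 _ ∧ ainv ≫ a = 𝟙 _ ∧
      (∀ (T'' : Over B) (x : T'' ⟶ Red.bc jj X), x ≫ a = e.toD T'' (chk jj x)) := by
  obtain ⟨A, hA⟩ := yoneda_iso' (ptPhi jj e) (by
    intro T' T'' c x
    show e.toD T' (chk jj (c ≫ x)) = c ≫ e.toD T'' (chk jj x)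
    rw [chk_comp, e.to_nat])
  have hA' : ∀ (T'' : Over B) (x : T'' ⟶ Red.bc jj X), x ≫ A.hom = e.toD T'' (chk jj x) :=
    fun T'' x => (hA T'' x).symm
  have hhom : IsMonHom A.hom :=
    isMonHom_of_pointwise A.hom (fun T'' x y => by
      rw [hA', hA', hA', chk_mul, e.to_mul])
  haveI := hhom
  have hinv : IsMonHom A.inv := isMonHom_of_pointwise A.inv (by
    intro T'' d d'
    apply (cancel_mono A.hom).mp
    have e1 : ((d * d') ≫ A.inv) ≫ A.hom = d * d' := by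
      rw [Category.assoc, Iso.inv_hom_id, Category.comp_id]
    have e2 : (d ≫ A.inv) ≫ A.hom = d := by
      rw [Category.assoc, Iso.inv_hom_id, Category.comp_id]
    have e3 : (d' ≫ A.inv) ≫ A.hom = d' := by
      rw [Category.assoc, Iso.inv_hom_id, Category.comp_id]
    rw [e1, MonObj.mul_comp, e2, e3])
  exact ⟨A.hom, A.inv, hhom, hinv, A.hom_inv_id, A.inv_hom_id, hA'⟩

/-- restriction of a chart along a morphism. -/
noncomputable def ptRestrict {W : Scheme.{u}} (r : W ⟶ B) : PtIso X (r ≫ jj) M where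
  toD := fun T'' x => trDown r (e.toD ((Over.map r).obj T'') (sig jj r T'' ≫ x))
  ofD := fun T'' d => tau jj r T'' ≫ e.ofD ((Over.map r).obj T'') (trUp r d)
  of_to := by
    intro T'' x
    show tau jj r T'' ≫ e.ofD ((Over.map r).obj T'')
      (trUp r (trDown r (e.toD ((Over.map r).obj T'') (sig jj r T'' ≫ x)))) = x
    rw [trUp_trDown, e.of_to, ← Category.assoc, tau_sig, Category.id_comp]
  to_of := by
    intro T'' d
    show trDown r (e.toD ((Over.map r).obj T'')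
      (sig jj r T'' ≫ tau jj r T'' ≫ e.ofD ((Over.map r).obj T'') (trUp r d))) = d
    rw [← Category.assoc, sig_tau, Category.id_comp, e.to_of, trDown_trUp]
  to_mul := by
    intro T'' x y
    show trDown r (e.toD ((Over.map r).obj T'') (sig jj r T'' ≫ (x * y))) =
      trDown r (e.toD ((Over.map r).obj T'') (sig jj r T'' ≫ x)) *
        trDown r (e.toD ((Over.map r).obj T'') (sig jj r T'' ≫ y))
    rw [MonObj.comp_mul, e.to_mul, trDown_mul]
  to_nat := by
    intro T''' T'' c x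
    show trDown r (e.toD ((Over.map r).obj T''')
      (sig jj r T''' ≫ (Over.map (r ≫ jj)).map c ≫ x)) =
      c ≫ trDown r (e.toD ((Over.map r).obj T'') (sig jj r T'' ≫ x))
    rw [← Category.assoc, sig_nat, Category.assoc, e.to_nat, trDown_comp]

end PtSplit

theorem nu_restrict {S B : Scheme.{u}} {G H : Over S} [GrpObj G] [GrpObj H] (u : G ⟶ H)
    [IsMonHom u] (jj : B ⟶ S) {M N : Type} [AddCommGroup M] [AddCommGroup N]
    (eG : PtIso G jj M) (eH : PtIso H jj N) (W₀ : B.Opens) (φ : N →+ M)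
    (hloc : ∀ (T' : Over B), (∀ z : T'.left, T'.hom.base z ∈ W₀) →
      ∀ d : T' ⟶ Red.DS B M, nuOf u jj eG eH T' d = d ≫ Red.DSmap B φ)
    {W : Scheme.{u}} (r : W ⟶ B) (hr : ∀ t : W, r.base t ∈ W₀) (T'' : Over W)
    (d : T'' ⟶ Red.DS W M) :
    nuOf u (r ≫ jj) (ptRestrict jj eG r) (ptRestrict jj eH r) T'' d = d ≫ Red.DSmap W φ := by
  show trDown r (eH.toD ((Over.map r).obj T'')
    (sig jj r T'' ≫ (tau jj r T'' ≫ eG.ofD ((Over.map r).obj T'') (trUp r d)) ≫ u)) =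
    d ≫ Red.DSmap W φ
  have h1 : sig jj r T'' ≫ (tau jj r T'' ≫ eG.ofD ((Over.map r).obj T'') (trUp r d)) ≫ u =
      eG.ofD ((Over.map r).obj T'') (trUp r d) ≫ u := by
    rw [Category.assoc, ← Category.assoc (sig jj r T''), sig_tau, Category.id_comp]
  have h2 := hloc ((Over.map r).obj T'') (fun z => hr _) (trUp r d)
  have h3 : eH.toD ((Over.map r).obj T'') (eG.ofD ((Over.map r).obj T'') (trUp r d) ≫ u) =
      trUp r d ≫ Red.DSmap B φ := h2
  rw [h1, h3, trDown_DSmap, trDown_trUp]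

/-! ### Base change of quotients -/

section QuotBC

variable {S : Scheme.{u}} {T H Q : Over S} [GrpObj T] [GrpObj H] [GrpObj Q] (i : H ⟶ T)
  (q : T ⟶ Q)

theorem act_pt {Z : Over S} (m : Z ⟶ T ⊗ H) :
    m ≫ (T ◁ i) ≫ μ[T] = (m ≫ fst T H) * (m ≫ snd T H ≫ i) := by
  rw [Hom.mul_def, ← Category.assoc]
  congr 1
  apply CartesianMonoidalCategory.hom_ext <;> simp

theorem ker_of_quot [IsMonHom q] (sq : IsPullback (fst T H) ((T ◁ i) ≫ μ[T]) q q) {Z : Over S}
    (ζ : Z ⟶ T) (hζ : ζ ≫ q = 1) : ∃ n : Z ⟶ H, n ≫ i = ζ := by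
  have h : (1 : Z ⟶ T) ≫ q = ζ ≫ q := by rw [MonObj.one_comp, hζ]
  obtain ⟨z, e1, e2⟩ : ∃ z : Z ⟶ T ⊗ H, z ≫ fst T H = 1 ∧ z ≫ (T ◁ i) ≫ μ[T] = ζ :=
    ⟨sq.lift 1 ζ h, sq.lift_fst _ _ _, sq.lift_snd _ _ _⟩
  refine ⟨z ≫ snd T H, ?_⟩
  have e3 := act_pt i z
  rw [e2, e1, _root_.one_mul, ← Category.assoc] at e3
  exact e3.symm

theorem comp_eq_one_of_quot [IsMonHom q] (sq : IsPullback (fst T H) ((T ◁ i) ≫ μ[T]) q q) :
    i ≫ q = 1 := by
  obtain ⟨m, hm1, hm2⟩ : ∃ m : H ⟶ T ⊗ H, m ≫ fst T H = 1 ∧ m ≫ snd T H = 𝟙 H :=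
    ⟨lift 1 (𝟙 H), lift_fst _ _, lift_snd _ _⟩
  have e3 := act_pt i m
  have e4 : m ≫ snd T H ≫ i = i := by rw [← Category.assoc, hm2, Category.id_comp]
  rw [hm1, e4, _root_.one_mul] at e3
  calc i ≫ q = (m ≫ (T ◁ i) ≫ μ[T]) ≫ q := by rw [e3]
    _ = m ≫ (((T ◁ i) ≫ μ[T]) ≫ q) := Category.assoc _ _ _
    _ = m ≫ (fst T H ≫ q) := by rw [sq.w]
    _ = (m ≫ fst T H) ≫ q := (Category.assoc _ _ _).symm
    _ = 1 := by rw [hm1, MonObj.one_comp]

theorem isQuot_bc [IsMonHom i] [Mono i] [IsMonHom q] (hq : RedSub.IsQuotient i q)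
    {W : Scheme.{u}} (g : W ⟶ S) :
    Mono ((Over.pullback g).map i) ∧
      RedSub.IsQuotient ((Over.pullback g).map i) ((Over.pullback g).map q) := by
  obtain ⟨hsu, hfl, hfp, sq⟩ := hq
  have hmono : Mono ((Over.pullback g).map i) :=
    (mono_iff_injOn i g).mpr (fun T'' x x' hxx => (cancel_mono i).mp hxx)
  haveI := hmono
  refine ⟨hmono, ?_, ?_, ?_, ?_⟩
  · exact MorphismProperty.of_isPullback (P := @Surjective) (sqL q g) hsu
  · exact MorphismProperty.of_isPullback (P := @Flat) (sqL q g) hfl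
  · exact MorphismProperty.of_isPullback (P := @LocallyOfFinitePresentation) (sqL q g) hfp
  · apply isPullback_of_kernel_on_points
    · rw [← Functor.map_comp, comp_eq_one_of_quot i q sq]
      exact triv_of_one _ g rfl
    · intro Z ζ hζ
      have h3 : chk g ζ ≫ q = 1 := by
        rw [← chk_postcomp, hζ]
        exact chk_one' g _
      obtain ⟨n, hn⟩ := ker_of_quot i q sq (chk g ζ) h3
      refine ⟨unchk g n, ?_⟩
      rw [← unchk_postcomp, hn, unchk_chk]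
    · intro Z z z' h
      exact (cancel_mono _).mp h

end QuotBC

/-! ### The core of the argument -/

theorem main_core' {S : Scheme.{u}} {T H Q : Over S} [GrpObj T] [GrpObj H] [GrpObj Q] (r : ℕ)
    (a : T ⟶ Red.DS S (Fin r → ℤ)) (ainv : Red.DS S (Fin r → ℤ) ⟶ T) [IsMonHom a] [IsMonHom ainv]
    (h1 : a ≫ ainv = 𝟙 _) (h2 : ainv ≫ a = 𝟙 _)
    (i : H ⟶ T) [IsMonHom i] [Mono i] (q : T ⟶ Q) [IsMonHom q] (hq : RedSub.IsQuotient i q)
    (K : AddSubgroup (Fin r → ℤ)) (hK : ∀ k ∈ K, chr (i ≫ a) k = 1)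
    (w : H ⟶ Red.DS S ((Fin r → ℤ) ⧸ K))
    (hw : w ≫ Red.DSmap S (QuotientAddGroup.mk' K) = i ≫ a) [IsIso w] :
    ∃ r' : ℕ, r' ≤ r ∧ Red.IsSplitTorusWith (Fin r' → ℤ) Q := by
  obtain ⟨r', κ, hr', hκinj, hκK, hκsurj⟩ := exists_rank_le r K
  obtain ⟨q', hq'def⟩ : ∃ q' : T ⟶ Red.DS S (Fin r' → ℤ), q' = a ≫ Red.DSmap S κ := ⟨_, rfl⟩
  haveI : IsMonHom q' := by
    rw [hq'def]
    infer_instance
  have huv : i ≫ q' = 1 := by
    rw [hq'def, ← Category.assoc]
    apply chr_injective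
    intro l
    rw [chr_DSmap, chr_one]
    exact hK _ (hκK l)
  have hex : ∀ (Z : Over S) (ζ : Z ⟶ T), ζ ≫ q' = 1 → ∃ z : Z ⟶ H, z ≫ i = ζ := by
    intro Z ζ hζ
    have hζa : ∀ k ∈ K, chr (ζ ≫ a) k = 1 := by
      intro k hk
      obtain ⟨l, rfl⟩ := hκsurj k hk
      have h3 : (ζ ≫ a) ≫ Red.DSmap S κ = 1 := by
        rw [Category.assoc, ← hq'def]
        exact hζ
      rw [← chr_DSmap κ (ζ ≫ a) l, h3, chr_one]
    obtain ⟨ζ', hζ'⟩ := exists_lift_quot K (ζ ≫ a) hζa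
    refine ⟨ζ' ≫ inv w, ?_⟩
    have e1 : i = w ≫ Red.DSmap S (QuotientAddGroup.mk' K) ≫ ainv := by
      rw [← Category.assoc, hw, Category.assoc, h1, Category.comp_id]
    rw [e1, Category.assoc, IsIso.inv_hom_id_assoc, ← Category.assoc, hζ', Category.assoc, h1,
      Category.comp_id]
  have hinj : ∀ (Z : Over S) (z z' : Z ⟶ H), z ≫ i = z' ≫ i → z = z' :=
    fun Z z z' h => (cancel_mono i).mp h
  have hpb' := isPullback_of_kernel_on_points i q' huv hex hinj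
  haveI : IsIso a := ⟨⟨ainv, h1, h2⟩⟩
  haveI : IsIso a.left := (isIso_left_iff a).mpr inferInstance
  have hq'L : q'.left = a.left ≫ (Red.DSmap S κ).left := by
    rw [hq'def]
    rfl
  have hPD := P_DSmap S κ hκinj
  haveI : Flat q'.left := by
    rw [hq'L]
    exact (MorphismProperty.cancel_left_of_respectsIso (@Flat : MorphismProperty Scheme.{u})
      a.left _).mpr hPD.1
  haveI : Surjective q'.left := by
    rw [hq'L]
    exact (MorphismProperty.cancel_left_of_respectsIso (@Surjective : MorphismProperty Scheme.{u})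
      a.left _).mpr hPD.2
  haveI : QuasiCompact q'.left := by
    rw [hq'L]
    exact (MorphismProperty.cancel_left_of_respectsIso (@QuasiCompact : MorphismProperty Scheme.{u})
      a.left _).mpr (qc_DSmap S κ)
  haveI : EffectiveEpi q'.left := inferInstance
  haveI : Surjective q.left := hq.1
  haveI : Flat q.left := hq.2.1
  haveI : LocallyOfFinitePresentation q.left := hq.2.2.1
  haveI : EffectiveEpi q.left := inferInstance
  have hepi : Epi (q ⊗ₘ q) := GrpSchFppfH7.epi_tensorHom q q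
  obtain ⟨e⟩ := quot_unique i q q' hepi hq.2.2.2 hpb'
  exact ⟨r', hr', Nonempty.intro e⟩

/-! ### Surjectivity of the chart homomorphism of a monomorphism -/

theorem phi_surj {S : Scheme.{u}} {T H : Over S} [GrpObj T] [GrpObj H] (i : H ⟶ T) [IsMonHom i]
    [Mono i] {B : Scheme.{u}} (jj : B ⟶ S) {M N : Type} [AddCommGroup M] [AddCommGroup N]
    (pT : PtIso T jj M) (pH : PtIso H jj N) (W₀ : B.Opens) (φ : M →+ N)
    (hloc : ∀ (T' : Over B), (∀ z : T'.left, T'.hom.base z ∈ W₀) →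
      ∀ d : T' ⟶ Red.DS B N, nuOf i jj pH pT T' d = d ≫ Red.DSmap B φ)
    (b : B) (hb : b ∈ W₀) : Function.Surjective φ := by
  have hsurj_aux : ∀ (F' : Type u) [Field F'] (z : Spec (CommRingCat.of F') ⟶ B),
      (∀ t, z.base t ∈ W₀) → Function.Surjective φ := by
    intro F' _ z hzb
    apply surjective_of_inj z φ
    intro C _ _ d d' hdd
    have h3 := hloc (TB z C) (fun t => hzb _) d
    have h4 := hloc (TB z C) (fun t => hzb _) d'
    have h5 : nuOf i jj pH pT _ d = nuOf i jj pH pT _ d' := by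
      rw [h3, h4, hdd]
    have h6 : pT.toD _ (pH.ofD _ d ≫ i) = pT.toD _ (pH.ofD _ d' ≫ i) := h5
    have h7 : pH.ofD _ d ≫ i = pH.ofD _ d' ≫ i := pT.to_inj _ _ _ h6
    have h8 := (cancel_mono i).mp h7
    rw [← pH.to_of _ d, h8, pH.to_of]
  have hzb : ∀ t, (B.fromSpecResidueField b).base t ∈ W₀ := by
    intro t
    have h3 : (B.fromSpecResidueField b).base t ∈ ({b} : Set B) := by
      rw [← Scheme.range_fromSpecResidueField]
      exact ⟨t, rfl⟩
    rw [Set.mem_singleton_iff.mp h3]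
    exact hb
  exact hsurj_aux (B.residueField b) (B.fromSpecResidueField b) hzb

/-! ### The local theorem -/

theorem local_quot {S : Scheme.{u}} {T H Q : Over S} [GrpObj T] [GrpObj H] [GrpObj Q] (r : ℕ)
    (i : H ⟶ T) [IsMonHom i] [Mono i] (q : T ⟶ Q) [IsMonHom q] (hq : RedSub.IsQuotient i q)
    {B : Scheme.{u}} (jj : B ⟶ S) (pT : PtIso T jj (Fin r → ℤ)) {N : Type} [AddCommGroup N]
    (pH : PtIso H jj N) (W₀ : B.Opens) (φ : (Fin r → ℤ) →+ N)
    (hloc : ∀ (T' : Over B), (∀ z : T'.left, T'.hom.base z ∈ W₀) →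
      ∀ d : T' ⟶ Red.DS B N, nuOf i jj pH pT T' d = d ≫ Red.DSmap B φ)
    (hφ : Function.Surjective φ)
    {W : Scheme.{u}} (ρ : W ⟶ B) (hρ : ∀ t : W, ρ.base t ∈ W₀) (jW : W ⟶ S)
    (hjW : ρ ≫ jj = jW) :
    ∃ r' : ℕ, r' ≤ r ∧ Red.IsSplitTorusWith (Fin r' → ℤ) (Red.bc jW Q) := by
  subst hjW
  obtain ⟨hmonoW, hqW⟩ := isQuot_bc i q hq (ρ ≫ jj)
  haveI := hmonoW
  obtain ⟨aT, aTinv, haT, haTinv, hT1, hT2, hTf⟩ := split_of_ptIso (ρ ≫ jj) (ptRestrict jj pT ρ)
  obtain ⟨aH, aHinv, haH, haHinv, hH1, hH2, hHf⟩ := split_of_ptIso (ρ ≫ jj) (ptRestrict jj pH ρ)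
  haveI := haT
  haveI := haTinv
  haveI := haH
  haveI := haHinv
  have hrel : (Over.pullback (ρ ≫ jj)).map i ≫ aT = aH ≫ Red.DSmap W φ := by
    have h3 : ∀ (T'' : Over W) (x : T'' ⟶ Red.bc (ρ ≫ jj) H),
        x ≫ (Over.pullback (ρ ≫ jj)).map i ≫ aT = x ≫ aH ≫ Red.DSmap W φ := by
      intro T'' x
      have h4 := nu_restrict i jj pH pT W₀ φ hloc ρ hρ T''
        ((ptRestrict jj pH ρ).toD T'' (chk (ρ ≫ jj) x))
      have h5 : nuOf i (ρ ≫ jj) (ptRestrict jj pH ρ) (ptRestrict jj pT ρ) T''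
          ((ptRestrict jj pH ρ).toD T'' (chk (ρ ≫ jj) x)) =
          (ptRestrict jj pT ρ).toD T'' (chk (ρ ≫ jj) x ≫ i) := by
        show (ptRestrict jj pT ρ).toD T'' ((ptRestrict jj pH ρ).ofD T''
          ((ptRestrict jj pH ρ).toD T'' (chk (ρ ≫ jj) x)) ≫ i) = _
        rw [(ptRestrict jj pH ρ).of_to]
      rw [← Category.assoc, hTf, chk_postcomp, ← Category.assoc x aH, hHf, ← h4, h5]
    have h6 := h3 _ (𝟙 _)
    rw [Category.id_comp, Category.id_comp] at h6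
    exact h6
  have hK : ∀ k ∈ φ.ker, chr ((Over.pullback (ρ ≫ jj)).map i ≫ aT) k = 1 := by
    intro k hk
    rw [hrel, chr_DSmap, AddMonoidHom.mem_ker.mp hk, chr_zero]
  obtain ⟨φw, hφw⟩ : ∃ φw : (Fin r → ℤ) ⧸ φ.ker →+ N,
      ∀ m, φw (QuotientAddGroup.mk' φ.ker m) = φ m :=
    ⟨QuotientAddGroup.lift φ.ker φ le_rfl, fun m => rfl⟩
  have hφwbij : Function.Bijective φw := by
    constructor
    · rw [injective_iff_map_eq_zero]
      intro qb hqb
      obtain ⟨m, rfl⟩ := QuotientAddGroup.mk'_surjective φ.ker qb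
      rw [hφw] at hqb
      exact (QuotientAddGroup.eq_zero_iff m).mpr (AddMonoidHom.mem_ker.mpr hqb)
    · intro n
      obtain ⟨m, hm⟩ := hφ n
      exact ⟨QuotientAddGroup.mk' φ.ker m, (hφw m).trans hm⟩
  obtain ⟨ψ, hψ1, hψ2⟩ : ∃ ψ : N →+ (Fin r → ℤ) ⧸ φ.ker,
      (∀ n, φw (ψ n) = n) ∧ (∀ q, ψ (φw q) = q) :=
    ⟨(AddEquiv.ofBijective φw hφwbij).symm.toAddMonoidHom,
      fun n => (AddEquiv.ofBijective φw hφwbij).apply_symm_apply n,
      fun q => (AddEquiv.ofBijective φw hφwbij).symm_apply_apply q⟩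
  have e1 : φw.comp ψ = AddMonoidHom.id N := AddMonoidHom.ext hψ1
  have e2 : ψ.comp φw = AddMonoidHom.id ((Fin r → ℤ) ⧸ φ.ker) := AddMonoidHom.ext hψ2
  haveI : IsIso (Red.DSmap W φw) :=
    ⟨⟨Red.DSmap W ψ,
      by rw [Groth.Agent.Lib.DiagHom.DSmap_comp, e1, Groth.Agent.Lib.DiagHom.DSmap_id],
      by rw [Groth.Agent.Lib.DiagHom.DSmap_comp, e2, Groth.Agent.Lib.DiagHom.DSmap_id]⟩⟩
  haveI : IsIso aH := ⟨⟨aHinv, hH1, hH2⟩⟩
  obtain ⟨w, hwdef⟩ : ∃ w : Red.bc (ρ ≫ jj) H ⟶ Red.DS W ((Fin r → ℤ) ⧸ φ.ker),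
      w = aH ≫ Red.DSmap W φw := ⟨_, rfl⟩
  haveI : IsIso w := by
    rw [hwdef]
    infer_instance
  have hw : w ≫ Red.DSmap W (QuotientAddGroup.mk' φ.ker) =
      (Over.pullback (ρ ≫ jj)).map i ≫ aT := by
    have e3 : φw.comp (QuotientAddGroup.mk' φ.ker) = φ := AddMonoidHom.ext (fun m => hφw m)
    rw [hwdef, hrel, Category.assoc, Groth.Agent.Lib.DiagHom.DSmap_comp, e3]
  exact main_core' r aT aTinv hT1 hT2 ((Over.pullback (ρ ≫ jj)).map i)
    ((Over.pullback (ρ ≫ jj)).map q) hqW φ.ker hK w hw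

end Groth.Agent.Lib.TorusQuotH4
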