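import Mathlib
import Groth.Prelude
import Groth.Agent.Lib.TorusQuot3_helper4

/-!
# Quotients of locally split tori: base change lemmas (helper4)
-/

set_option backward.isDefEq.respectTransparency.types false
set_option autoImplicit false
set_option linter.unusedVariables false
set_option linter.unusedTactic false
set_option linter.unreachableTactic false
set_option linter.unusedSectionVars false
set_option linter.style.haveILetI false
set_option linter.deprecated false
set_option linter.unusedSimpArgs false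
set_option linter.style.longLine false
set_option maxHeartbeats 1600000

universe u

open CategoryTheory CategoryTheory.Limits MonoidalCategory CartesianMonoidalCategory MonObj GrpObj
  AlgebraicGeometry Opposite

namespace Groth.Agent.Lib.TorusQuotH4

open Groth.Agent.Lib.RedDictH8 Groth.Agent.Lib.DSDict Groth.Agent.Lib.MultGa
  Groth.Agent.Lib.MultTrivH4 Groth.Agent.Lib.ConnActH4 Groth.Agent.Lib.TwConstFinH4
  Groth.Agent.Lib.MTHomH4


/-! ### Naturality of the transitivity isomorphisms -/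

theorem tau_nat {S U W : Scheme.{u}} (jj : U ⟶ S) (r : W ⟶ U) {T''' T'' : Over W} (c : T''' ⟶ T'') :
    tau jj r T''' ≫ (Over.map jj).map ((Over.map r).map c) =
      (Over.map (r ≫ jj)).map c ≫ tau jj r T'' := by
  apply Over.OverMorphism.ext
  show 𝟙 _ ≫ c.left = c.left ≫ 𝟙 _
  rw [Category.id_comp, Category.comp_id]

/-! ### Charts and iterated base change -/

/-- a chart of `X` over `h ≫ g` is a chart of `X ×_S U` over `h`. -/
noncomputable def ptIso_comp_bc {S U B : Scheme.{u}} (g : U ⟶ S) (h : B ⟶ U) {X : Over S} [GrpObj X]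
    {M : Type} [AddCommGroup M] (e : PtIso X (h ≫ g) M) : PtIso (Red.bc g X) h M where
  toD := fun T'' y => e.toD T'' (tau g h T'' ≫ chk g y)
  ofD := fun T'' d => unchk g (sig g h T'' ≫ e.ofD T'' d)
  of_to := by
    intro T'' y
    show unchk g (sig g h T'' ≫ e.ofD T'' (e.toD T'' (tau g h T'' ≫ chk g y))) = y
    rw [e.of_to, ← Category.assoc, sig_tau, Category.id_comp, unchk_chk]
  to_of := by
    intro T'' d
    show e.toD T'' (tau g h T'' ≫ chk g (unchk g (sig g h T'' ≫ e.ofD T'' d))) = d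
    rw [chk_unchk, ← Category.assoc, tau_sig, Category.id_comp, e.to_of]
  to_mul := by
    intro T'' y y'
    show e.toD T'' (tau g h T'' ≫ chk g (y * y')) =
      e.toD T'' (tau g h T'' ≫ chk g y) * e.toD T'' (tau g h T'' ≫ chk g y')
    rw [chk_mul, MonObj.comp_mul, e.to_mul]
  to_nat := by
    intro T''' T'' c y
    show e.toD T''' (tau g h T''' ≫ chk g ((Over.map h).map c ≫ y)) =
      c ≫ e.toD T'' (tau g h T'' ≫ chk g y)
    rw [chk_comp, ← Category.assoc, tau_nat, Category.assoc, e.to_nat]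

/-- a chart of `X ×_S U` over `h` is a chart of `X` over `h ≫ g`. -/
noncomputable def ptIso_bc_comp {S U B : Scheme.{u}} (g : U ⟶ S) (h : B ⟶ U) {X : Over S} [GrpObj X]
    {M : Type} [AddCommGroup M] (e : PtIso (Red.bc g X) h M) : PtIso X (h ≫ g) M where
  toD := fun T'' x => e.toD T'' (unchk g (sig g h T'' ≫ x))
  ofD := fun T'' d => tau g h T'' ≫ chk g (e.ofD T'' d)
  of_to := by
    intro T'' x
    show tau g h T'' ≫ chk g (e.ofD T'' (e.toD T'' (unchk g (sig g h T'' ≫ x)))) = x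
    rw [e.of_to, chk_unchk, ← Category.assoc, tau_sig, Category.id_comp]
  to_of := by
    intro T'' d
    show e.toD T'' (unchk g (sig g h T'' ≫ tau g h T'' ≫ chk g (e.ofD T'' d))) = d
    rw [← Category.assoc, sig_tau, Category.id_comp, unchk_chk, e.to_of]
  to_mul := by
    intro T'' x y
    show e.toD T'' (unchk g (sig g h T'' ≫ (x * y))) =
      e.toD T'' (unchk g (sig g h T'' ≫ x)) * e.toD T'' (unchk g (sig g h T'' ≫ y))
    rw [MonObj.comp_mul, unchk_mul, e.to_mul]
  to_nat := by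
    intro T''' T'' c x
    show e.toD T''' (unchk g (sig g h T''' ≫ (Over.map (h ≫ g)).map c ≫ x)) =
      c ≫ e.toD T'' (unchk g (sig g h T'' ≫ x))
    rw [← Category.assoc, sig_nat, Category.assoc, unchk_comp, e.to_nat]

/-- the chart of a split group given by a splitting. -/
noncomputable def ptOfIso {S W : Scheme.{u}} {X : Over S} [GrpObj X] {M : Type} [AddCommGroup M]
    (a : X ⟶ Red.DS S M) (ainv : Red.DS S M ⟶ X) [IsMonHom a] (h1 : a ≫ ainv = 𝟙 _)
    (h2 : ainv ≫ a = 𝟙 _) (jjW : W ⟶ S) : PtIso X jjW M where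
  toD := fun T'' x => trDown jjW (x ≫ a)
  ofD := fun T'' d => trUp jjW d ≫ ainv
  of_to := by
    intro T'' x
    show trUp jjW (trDown jjW (x ≫ a)) ≫ ainv = x
    rw [trUp_trDown, Category.assoc, h1, Category.comp_id]
  to_of := by
    intro T'' d
    show trDown jjW ((trUp jjW d ≫ ainv) ≫ a) = d
    rw [Category.assoc, h2, Category.comp_id, trDown_trUp]
  to_mul := by
    intro T'' x y
    show trDown jjW ((x * y) ≫ a) = trDown jjW (x ≫ a) * trDown jjW (y ≫ a)
    rw [MonObj.mul_comp, trDown_mul]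
  to_nat := by
    intro T''' T'' c x
    show trDown jjW (((Over.map jjW).map c ≫ x) ≫ a) = c ≫ trDown jjW (x ≫ a)
    rw [Category.assoc, trDown_comp]

/-- restriction of a chart gives a splitting. -/
theorem split_of_restrict {S B W : Scheme.{u}} {X : Over S} [GrpObj X] (jj : B ⟶ S) {M : Type}
    [AddCommGroup M] (e : PtIso X jj M) (ρ : W ⟶ B) (jW : W ⟶ S) (hjW : ρ ≫ jj = jW) :
    Red.IsSplitTorusWith M (Red.bc jW X) := by
  subst hjW
  obtain ⟨a, ainv, ha, hainv, h1, h2, -⟩ := split_of_ptIso (ρ ≫ jj) (ptRestrict jj e ρ)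
  obtain ⟨ee, hee⟩ : ∃ ee : Red.bc (ρ ≫ jj) X ≅ Red.DS W M, ee.hom = a :=
    ⟨⟨a, ainv, h1, h2⟩, rfl⟩
  haveI : IsMonHom ee.hom := by
    rw [hee]
    exact ha
  exact Nonempty.intro (Grp.mkIso' ee)

/-! ### Triviality at a point -/

theorem field_pt_desc {S : Scheme.{u}} {G' H' : Over S} [GrpObj G'] [GrpObj H'] (α : G' ⟶ H')
    {X' : Scheme.{u}} (G : X' ⟶ S) (x' : X') :
    (Over.pullback (X'.fromSpecResidueField x' ≫ G)).map α = 1 ↔
      (Over.pullback (S.fromSpecResidueField (G.base x'))).map α = 1 := by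
  have e : X'.fromSpecResidueField x' ≫ G =
      Spec.map (G.residueFieldMap x') ≫ S.fromSpecResidueField (G.base x') :=
    (Scheme.Hom.SpecMap_residueFieldMap_fromSpecResidueField G x').symm
  obtain ⟨h1, h2, h3⟩ := flat_surj_qc_SpecMap_field (K := S.residueField (G.base x'))
    (L := X'.residueField x') (G.residueFieldMap x')
  haveI := h1
  haveI := h2
  constructor
  · intro h
    exact triv_desc α _ (Spec.map (G.residueFieldMap x')) (triv_congr α e h)
  · intro h
    exact triv_congr α e.symm (triv_comp α _ (Spec.map (G.residueFieldMap x')) h)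

/-! ### Restriction of a group of multiplicative type to an open subscheme -/

theorem isMultTypeFT_bc_open {S : Scheme.{u}} {H : Over S} [GrpObj H]
    (hH : SGA3x.IsMultTypeFT H) (U : S.Opens) : SGA3x.IsMultTypeFT (Red.bc U.ι H) := by
  obtain ⟨S₂, f₂, hflat₂, hsurj₂, hcov₂, hloc₂⟩ := hH
  haveI := hflat₂
  haveI := hsurj₂
  refine ⟨pullback f₂ U.ι, pullback.snd f₂ U.ι, inferInstance, inferInstance, ?_, ?_⟩
  · intro V' hV'
    obtain ⟨V, hVdef⟩ : ∃ V : S.Opens, V = U.ι ''ᵁ V' := ⟨_, rfl⟩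
    have hV : IsAffineOpen V := by
      rw [hVdef]
      exact hV'.image_of_isOpenImmersion U.ι
    have hVmem : ∀ v : S, v ∈ V ↔ ∃ v' : U, v' ∈ V' ∧ U.ι.base v' = v := by
      intro v
      rw [hVdef]
      exact Iff.rfl
    obtain ⟨W, hWc, hWV⟩ := hcov₂ V hV
    obtain ⟨W', hW'mem⟩ : ∃ W' : (pullback f₂ U.ι).Opens,
        ∀ p, p ∈ W' ↔ (pullback.fst f₂ U.ι).base p ∈ W :=
      ⟨pullback.fst f₂ U.ι ⁻¹ᵁ W, fun p => Iff.rfl⟩
    have hcond : ∀ p : ↥(pullback f₂ U.ι), f₂.base ((pullback.fst f₂ U.ι).base p) =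
        U.ι.base ((pullback.snd f₂ U.ι).base p) := fun p =>
      congrArg (fun k => k.base p) (pullback.condition (f := f₂) (g := U.ι))
    refine ⟨W', ?_, ?_⟩
    · have hemb : Topology.IsInducing (pullback.fst f₂ U.ι).base :=
        (pullback.fst f₂ U.ι).isOpenEmbedding.isInducing
      have hsub : (W : Set S₂) ⊆ Set.range (pullback.fst f₂ U.ι).base := by
        intro w hw
        have h1 : f₂.base w ∈ (V : Set S) := by
          rw [← hWV]
          exact ⟨w, hw, rfl⟩
        obtain ⟨v', hv', hv'w⟩ := (hVmem _).mp h1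
        obtain ⟨p, hp1, hp2⟩ := Scheme.Pullback.exists_preimage_pullback (f := f₂) (g := U.ι)
          w v' hv'w.symm
        exact ⟨p, hp1⟩
      have h2 : IsCompact ((pullback.fst f₂ U.ι).base ⁻¹' (W : Set S₂)) :=
        hemb.isCompact_preimage' hWc hsub
      have h3 : (W' : Set ↥(pullback f₂ U.ι)) = (pullback.fst f₂ U.ι).base ⁻¹' (W : Set S₂) := by
        ext p
        exact hW'mem p
      rw [h3]
      exact h2
    · ext v'
      constructor
      · rintro ⟨p, hp, rfl⟩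
        have h1 : f₂.base ((pullback.fst f₂ U.ι).base p) ∈ (V : Set S) := by
          rw [← hWV]
          exact ⟨_, (hW'mem p).mp hp, rfl⟩
        obtain ⟨v'', hv'', hv''eq⟩ := (hVmem _).mp h1
        have h4 : v'' = (pullback.snd f₂ U.ι).base p :=
          U.ι.isOpenEmbedding.injective (hv''eq.trans (hcond p))
        have h5 : (pullback.snd f₂ U.ι).base p ∈ V' := by
          rw [← h4]
          exact hv''
        exact h5
      · intro hv'
        have h1 : U.ι.base v' ∈ (V : Set S) := (hVmem _).mpr ⟨v', hv', rfl⟩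
        rw [← hWV] at h1
        obtain ⟨w, hw, hwv⟩ := h1
        obtain ⟨p, hp1, hp2⟩ := Scheme.Pullback.exists_preimage_pullback (f := f₂) (g := U.ι)
          w v' hwv
        have hp1' : (pullback.fst f₂ U.ι).base p = w := hp1
        refine ⟨p, (hW'mem p).mpr ?_, hp2⟩
        rw [hp1']
        exact hw
  · intro p
    obtain ⟨U₂, hpU₂, N, instN, hNfg, ⟨eB⟩⟩ := hloc₂ ((pullback.fst f₂ U.ι).base p)
    obtain ⟨b1, binv, hb1, hbinv, h1', h2'⟩ := Groth.Agent.Lib.DiagHom.iso_data eB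
    haveI := hb1
    haveI := hbinv
    obtain ⟨U₂', hU₂'mem⟩ : ∃ U₂' : (pullback f₂ U.ι).Opens,
        ∀ y, y ∈ U₂' ↔ (pullback.fst f₂ U.ι).base y ∈ U₂ :=
      ⟨pullback.fst f₂ U.ι ⁻¹ᵁ U₂, fun y => Iff.rfl⟩
    have hpU₂' : p ∈ U₂' := (hU₂'mem p).mpr hpU₂
    have hrange : Set.range (U₂'.ι ≫ pullback.fst f₂ U.ι) ⊆ Set.range U₂.ι := by
      rintro _ ⟨⟨y, hy⟩, rfl⟩
      exact ⟨⟨(pullback.fst f₂ U.ι).base y, (hU₂'mem y).mp hy⟩, rfl⟩
    obtain ⟨ρ, hρ⟩ : ∃ ρ : (U₂' : Scheme.{u}) ⟶ (U₂ : Scheme.{u}),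
        ρ ≫ U₂.ι = U₂'.ι ≫ pullback.fst f₂ U.ι :=
      ⟨IsOpenImmersion.lift U₂.ι (U₂'.ι ≫ pullback.fst f₂ U.ι) hrange,
        IsOpenImmersion.lift_fac _ _ _⟩
    have hcomp : ρ ≫ (U₂.ι ≫ f₂) = (U₂'.ι ≫ pullback.snd f₂ U.ι) ≫ U.ι := by
      calc ρ ≫ (U₂.ι ≫ f₂) = (ρ ≫ U₂.ι) ≫ f₂ := (Category.assoc _ _ _).symm
        _ = (U₂'.ι ≫ pullback.fst f₂ U.ι) ≫ f₂ := by rw [hρ]
        _ = U₂'.ι ≫ (pullback.fst f₂ U.ι ≫ f₂) := Category.assoc _ _ _
        _ = U₂'.ι ≫ (pullback.snd f₂ U.ι ≫ U.ι) := by rw [pullback.condition]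
        _ = (U₂'.ι ≫ pullback.snd f₂ U.ι) ≫ U.ι := (Category.assoc _ _ _).symm
    obtain ⟨pH⟩ := exists_transport H (U₂.ι ≫ f₂) b1 binv h1' h2' ρ
      ((U₂'.ι ≫ pullback.snd f₂ U.ι) ≫ U.ι) hcomp
    obtain ⟨a, ainv, ha, hainv, hh1, hh2, -⟩ := split_of_ptIso (U₂'.ι ≫ pullback.snd f₂ U.ι)
      (ptIso_comp_bc U.ι (U₂'.ι ≫ pullback.snd f₂ U.ι) pH)
    obtain ⟨ee, hee⟩ : ∃ ee : Red.bc (U₂'.ι ≫ pullback.snd f₂ U.ι) (Red.bc U.ι H) ≅
        Red.DS (U₂' : Scheme.{u}) N, ee.hom = a := ⟨⟨a, ainv, hh1, hh2⟩, rfl⟩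
    haveI : IsMonHom ee.hom := by
      rw [hee]
      exact ha
    exact ⟨U₂', hpU₂', N, instN, hNfg, ⟨Grp.mkIso' ee⟩⟩

/-! ### The main theorem under a constancy hypothesis -/

theorem main_const {S : Scheme.{u}} {T H Q : Over S} [GrpObj T] [GrpObj H] [GrpObj Q] (r : ℕ)
    (a : T ⟶ Red.DS S (Fin r → ℤ)) (ainv : Red.DS S (Fin r → ℤ) ⟶ T) [IsMonHom a] [IsMonHom ainv]
    (h1 : a ≫ ainv = 𝟙 _) (h2 : ainv ≫ a = 𝟙 _)
    (i : H ⟶ T) [IsMonHom i] [Mono i] (hH : SGA3x.IsMultTypeFT H) (q : T ⟶ Q) [IsMonHom q]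
    (hq : RedSub.IsQuotient i q)
    (hconst : ∀ (m : Fin r → ℤ) (X' : Scheme.{u}) (G : X' ⟶ S) (x' : X'),
      (Over.pullback (X'.fromSpecResidueField x' ≫ G)).map
        ((i ≫ a) ≫ Red.DSmap S (zmultiplesHom (Fin r → ℤ) m)) = 1 →
      (i ≫ a) ≫ Red.DSmap S (zmultiplesHom (Fin r → ℤ) m) = 1) :
    ∃ r' : ℕ, r' ≤ r ∧ Red.IsSplitTorusWith (Fin r' → ℤ) Q := by
  have hMfg : AddGroup.FG (Fin r → ℤ) := Module.Finite.iff_addGroup_fg.mp inferInstance
  obtain ⟨i', hi'⟩ : ∃ i' : H ⟶ Red.DS S (Fin r → ℤ), i' = i ≫ a := ⟨_, rfl⟩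
  haveI : IsMonHom i' := by
    rw [hi']
    infer_instance
  have hmono : ∀ (Z : Over S) (x y : Z ⟶ H), x ≫ i' = y ≫ i' → x = y := by
    intro Z x y hxy
    have h3 : (x ≫ i') ≫ ainv = (y ≫ i') ≫ ainv := by rw [hxy]
    rw [hi'] at h3
    simp only [Category.assoc, h1, Category.comp_id] at h3
    exact (cancel_mono i).mp h3
  rw [← hi'] at hconst
  -- the subgroup of characters which are trivial on `H`
  obtain ⟨K, hK⟩ : ∃ K : AddSubgroup (Fin r → ℤ), ∀ m, m ∈ K ↔ chr i' m = 1 :=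
    ⟨{ carrier := {m | chr i' m = 1}
       zero_mem' := chr_zero i'
       add_mem' := fun {m m'} hm hm' => by
         show chr i' (m + m') = 1
         rw [chr_add, show chr i' m = 1 from hm, show chr i' m' = 1 from hm', _root_.mul_one]
       neg_mem' := fun {m} hm => by
         show chr i' (-m) = 1
         have h3 := chr_mul_neg i' m
         rw [show chr i' m = 1 from hm, _root_.one_mul] at h3
         exact h3 }, fun m => Iff.rfl⟩
  have hKα : ∀ m, m ∈ K ↔ i' ≫ Red.DSmap S (zmultiplesHom (Fin r → ℤ) m) = 1 := by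
    intro m
    constructor
    · intro hm
      apply chr_injective
      intro k
      rw [chr_DSmap, chr_one, zmultiplesHom_apply]
      exact (hK _).mp (K.zsmul_mem hm k)
    · intro h
      refine (hK m).mpr ?_
      have h3 : chr (i' ≫ Red.DSmap S (zmultiplesHom (Fin r → ℤ) m)) (1 : ℤ) = 1 := by
        rw [h, chr_one]
      rw [chr_DSmap, zmultiplesHom_apply, one_zsmul] at h3
      exact h3
  -- charts
  obtain ⟨X, F, hFfl, hFsu, hcov, hch⟩ := charts hH hMfg i' hmono
  haveI := hFfl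
  haveI := hFsu
  choose O Kx hxO hP1 hP2 hP3 using hch
  have hz : ∀ (x : X) t, (X.fromSpecResidueField x).base t ∈ O x := by
    intro x t
    have h3 : (X.fromSpecResidueField x).base t ∈ ({x} : Set X) := by
      rw [← Scheme.range_fromSpecResidueField]
      exact ⟨t, rfl⟩
    rw [Set.mem_singleton_iff.mp h3]
    exact hxO x
  have hK1 : ∀ x m, m ∈ K → m ∈ Kx x := by
    intro x m hm
    exact hP2 x m (X.residueField x) (X.fromSpecResidueField x) (hz x)
      (triv_of_one _ _ ((hKα m).mp hm))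
  have hK2 : ∀ x m, m ∈ Kx x → m ∈ K := by
    intro x m hm
    refine (hKα m).mpr ?_
    exact hconst m X F x (hP1 x m hm (X.fromSpecResidueField x) (hz x))
  have hKx : ∀ x m, m ∈ K ↔ m ∈ Kx x := fun x m => ⟨hK1 x m, hK2 x m⟩
  -- `H ≅ D(M / K)`
  obtain ⟨w, hw⟩ := exists_lift_quot K i' (fun k hk => (hK k).mp hk)
  have hjinj : ∀ (Z : Over S) (a b : Z ⟶ Red.DS S ((Fin r → ℤ) ⧸ K)),
      a ≫ Red.DSmap S (QuotientAddGroup.mk' K) = b ≫ Red.DSmap S (QuotientAddGroup.mk' K) →
        a = b := fun Z a b hab =>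
    comp_DSmap_injective (QuotientAddGroup.mk' K) (QuotientAddGroup.mk'_surjective K) Z a b hab
  haveI : IsMonHom w := isMonHom_of_comp_mono w (Red.DSmap S (QuotientAddGroup.mk' K)) (by
    rw [hw]
    infer_instance) hjinj
  have hwiso : IsIso w := by
    obtain ⟨U, hUc, hUmem, hUP⟩ := core w (MorphismProperty.isomorphisms Scheme.{u}) F hcov
      (fun x => ⟨O x, hxO x, True,
        fun _ {T₁} r hr => (MorphismProperty.isomorphisms.iff _).mpr (hP3 x K (hKx x) w hw r hr),
        fun _ _ _ _ _ => trivial⟩)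
    have key : ∀ t s : S, t = s →
        (MorphismProperty.isomorphisms Scheme.{u}) (bcL w (S.fromSpecResidueField t)) →
        (MorphismProperty.isomorphisms Scheme.{u}) (bcL w (S.fromSpecResidueField s)) := by
      intro t s hts h
      subst hts
      exact h
    have hU : U = ⊤ := by
      apply top_unique
      intro s _
      obtain ⟨x, hx⟩ := hFsu.surj s
      have h4 : (MorphismProperty.isomorphisms Scheme.{u})
          (bcL w (X.fromSpecResidueField x ≫ F)) :=
        (MorphismProperty.isomorphisms.iff _).mpr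
          (hP3 x K (hKx x) w hw (X.fromSpecResidueField x) (hz x))
      have h5 := (P_field_iff (P := MorphismProperty.isomorphisms Scheme.{u}) w F x).mp h4
      exact (hUmem s).mpr (key _ s hx h5)
    subst hU
    haveI : IsIso (⊤ : S.Opens).ι := inferInstanceAs (IsIso S.topIso.hom)
    haveI : IsIso (pullback.fst H.hom (⊤ : S.Opens).ι) := inferInstance
    haveI : IsIso (pullback.fst (Red.DS S ((Fin r → ℤ) ⧸ K)).hom (⊤ : S.Opens).ι) :=
      inferInstance
    have e : w.left = inv (pullback.fst H.hom (⊤ : S.Opens).ι) ≫ bcL w (⊤ : S.Opens).ι ≫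
        pullback.fst (Red.DS S ((Fin r → ℤ) ⧸ K)).hom (⊤ : S.Opens).ι := by
      rw [bcL_fst, IsIso.inv_hom_id_assoc]
    haveI : IsIso (bcL w (⊤ : S.Opens).ι) := (MorphismProperty.isomorphisms.iff _).mp hUP
    haveI : IsIso w.left := by
      rw [e]
      infer_instance
    exact (isIso_left_iff w).mp inferInstance
  haveI := hwiso
  have hK' : ∀ k ∈ K, chr (i ≫ a) k = 1 := by
    intro k hk
    rw [← hi']
    exact (hK k).mp hk
  have hw' : w ≫ Red.DSmap S (QuotientAddGroup.mk' K) = i ≫ a := by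
    rw [hw, hi']
  exact main_core' r a ainv h1 h2 i q hq K hK' w hw'

end Groth.Agent.Lib.TorusQuotH4
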