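import Mathlib
import Groth.Prelude
import Groth.Agent.Lib.TorusQuot5_helper4

/-!
# Quotients of locally split tori are locally split (helper4)
-/

set_option backward.isDefEq.respectTransparency.types false
set_option autoImplicit false
set_option linter.unusedVariables false
set_option linter.unusedTactic false
set_option linter.unreachableTactic false
set_option linter.unusedSectionVars false
set_option linter.style.haveILetI false
set_option linter.deprecated false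
set_option linter.unusedSimpArgs false
set_option linter.style.longLine false
set_option maxHeartbeats 1600000

universe u

open CategoryTheory CategoryTheory.Limits MonoidalCategory CartesianMonoidalCategory MonObj GrpObj
  AlgebraicGeometry Opposite

namespace Groth.Agent.Lib.TorusQuotH4

open Groth.Agent.Lib.RedDictH8 Groth.Agent.Lib.DSDict Groth.Agent.Lib.MultGa
  Groth.Agent.Lib.MultTrivH4 Groth.Agent.Lib.ConnActH4 Groth.Agent.Lib.TwConstFinH4
  Groth.Agent.Lib.MTHomH4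


/-! ### The local statement over a base on which the torus is split -/

theorem local16616 {S : Scheme.{u}} {T H Q : Over S} [GrpObj T] [GrpObj H] [GrpObj Q] (r : ℕ)
    (hT : Red.IsSplitTorusWith (Fin r → ℤ) T)
    (i : H ⟶ T) [IsMonHom i] [Mono i] (hH : SGA3x.IsMultTypeFT H) (q : T ⟶ Q) [IsMonHom q]
    (hq : RedSub.IsQuotient i q) (s : S) :
    ∃ V : S.Opens, s ∈ V ∧ ∃ r' : ℕ, Red.IsSplitTorusWith (Fin r' → ℤ) (Red.bc V.ι Q) := by
  obtain ⟨eT⟩ := hT
  obtain ⟨a, ainv, ha, hainv, h1, h2⟩ := Groth.Agent.Lib.DiagHom.iso_data eT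
  haveI := ha
  haveI := hainv
  have hMfg : AddGroup.FG (Fin r → ℤ) := Module.Finite.iff_addGroup_fg.mp inferInstance
  obtain ⟨i', hi'⟩ : ∃ i' : H ⟶ Red.DS S (Fin r → ℤ), i' = i ≫ a := ⟨_, rfl⟩
  haveI : IsMonHom i' := by
    rw [hi']
    infer_instance
  have hmono : ∀ (Z : Over S) (x y : Z ⟶ H), x ≫ i' = y ≫ i' → x = y := by
    intro Z x y hxy
    have h3 : (x ≫ i') ≫ ainv = (y ≫ i') ≫ ainv := by rw [hxy]
    rw [hi'] at h3
    simp only [Category.assoc, h1, Category.comp_id] at h3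
    exact (cancel_mono i).mp h3
  obtain ⟨α, hα⟩ : ∃ α : (Fin r → ℤ) → (H ⟶ Red.Gm S),
      ∀ m, α m = i' ≫ Red.DSmap S (zmultiplesHom (Fin r → ℤ) m) := ⟨_, fun m => rfl⟩
  -- charts
  obtain ⟨X, F, hFfl, hFsu, hcov, hch⟩ := charts hH hMfg i' hmono
  haveI := hFfl
  haveI := hFsu
  choose O Kx hxO hP1 hP2 hP3 using hch
  have hP1' : ∀ x m, m ∈ Kx x → ∀ {T₁ : Scheme.{u}} (ρ : T₁ ⟶ X), (∀ t : T₁, ρ.base t ∈ O x) →
      (Over.pullback (ρ ≫ F)).map (α m) = 1 := by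
    intro x m hm T₁ ρ hρ
    rw [hα]
    exact hP1 x m hm ρ hρ
  have hP2' : ∀ x (m : Fin r → ℤ) (K' : Type u) [Field K'] (z : Spec (CommRingCat.of K') ⟶ X),
      (∀ t, z.base t ∈ O x) → (Over.pullback (z ≫ F)).map (α m) = 1 → m ∈ Kx x := by
    intro x m K' _ z hz ht
    rw [hα] at ht
    exact hP2 x m K' z hz ht
  have hz : ∀ (x x' : X), x' ∈ O x → ∀ t, (X.fromSpecResidueField x').base t ∈ O x := by
    intro x x' hx' t
    have h3 : (X.fromSpecResidueField x').base t ∈ ({x'} : Set X) := by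
      rw [← Scheme.range_fromSpecResidueField]
      exact ⟨t, rfl⟩
    rw [Set.mem_singleton_iff.mp h3]
    exact hx'
  have key : ∀ (x x' : X) (m : Fin r → ℤ), x' ∈ O x →
      ((Over.pullback (S.fromSpecResidueField (F.base x'))).map (α m) = 1 ↔ m ∈ Kx x) := by
    intro x x' m hx'
    rw [← field_pt_desc (α m) F x']
    constructor
    · intro h
      exact hP2' x m (X.residueField x') (X.fromSpecResidueField x') (hz x x' hx') h
    · intro hm
      exact hP1' x m hm (X.fromSpecResidueField x') (hz x x' hx')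
  have htr : ∀ (m : Fin r → ℤ) (t s' : S), t = s' →
      ((Over.pullback (S.fromSpecResidueField t)).map (α m) = 1 ↔
        (Over.pullback (S.fromSpecResidueField s')).map (α m) = 1) := by
    intro m t s' h
    subst h
    exact Iff.rfl
  obtain ⟨x₀, hx₀⟩ := hFsu.surj s
  obtain ⟨K, hKdef⟩ : ∃ K : AddSubgroup (Fin r → ℤ), K = Kx x₀ := ⟨_, rfl⟩
  obtain ⟨Vset, hVset⟩ : ∃ Vset : Set S, ∀ v, v ∈ Vset ↔
      ∀ m, ((Over.pullback (S.fromSpecResidueField v)).map (α m) = 1 ↔ m ∈ K) :=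
    ⟨{v | ∀ m, ((Over.pullback (S.fromSpecResidueField v)).map (α m) = 1 ↔ m ∈ K)},
      fun v => Iff.rfl⟩
  have hopen : IsOpen (F.base ⁻¹' Vset) := by
    rw [isOpen_iff_forall_mem_open]
    intro x hx
    refine ⟨(O x : Set X), ?_, (O x).isOpen, hxO x⟩
    intro x' hx'
    have hx1 : F.base x ∈ Vset := hx
    have hgoal : F.base x' ∈ Vset := by
      rw [hVset] at hx1 ⊢
      intro m
      exact (key x x' m hx').trans ((key x x m (hxO x)).symm.trans (hx1 m))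
    exact hgoal
  have hVopen : IsOpen Vset := isOpen_of_cov F hcov Vset hopen
  have hsV : s ∈ Vset := by
    rw [hVset]
    intro m
    have h3 := key x₀ x₀ m (hxO x₀)
    rw [hKdef]
    exact (htr m _ s hx₀).symm.trans h3
  obtain ⟨V, hVmem⟩ : ∃ V : S.Opens, ∀ v, v ∈ V ↔ v ∈ Vset :=
    ⟨⟨Vset, hVopen⟩, fun v => Iff.rfl⟩
  refine ⟨V, (hVmem s).mpr hsV, ?_⟩
  have hVK : ∀ (x : X), F.base x ∈ Vset → ∀ m, m ∈ K → m ∈ Kx x := by
    intro x hx m hm
    exact (key x x m (hxO x)).mp (((hVset _).mp hx m).mpr hm)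
  have hVtriv : ∀ m, m ∈ K → (Over.pullback V.ι).map (α m) = 1 := by
    intro m hm
    apply triv_desc (α m) V.ι (pullback.snd F V.ι)
    apply triv_congr (α m) (pullback.condition (f := F) (g := V.ι))
    apply triv_local (α m) (pullback.fst F V.ι ≫ F)
      (fun p : ↥(pullback F V.ι) => pullback.fst F V.ι ⁻¹ᵁ O ((pullback.fst F V.ι).base p))
      (fun p => ⟨p, hxO ((pullback.fst F V.ι).base p)⟩)
    intro p
    have hFp : F.base ((pullback.fst F V.ι).base p) ∈ Vset := by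
      have e1 : F.base ((pullback.fst F V.ι).base p) =
          V.ι.base ((pullback.snd F V.ι).base p) :=
        congrArg (fun k => k.base p) (pullback.condition (f := F) (g := V.ι))
      rw [e1]
      exact (hVmem _).mp ((pullback.snd F V.ι).base p).2
    have h5 := hP1' _ m (hVK _ hFp m hm)
      ((pullback.fst F V.ι ⁻¹ᵁ O ((pullback.fst F V.ι).base p)).ι ≫ pullback.fst F V.ι)
      (fun t => t.2)
    exact triv_congr (α m) (Category.assoc _ _ _) h5
  -- base change to `V`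
  obtain ⟨hmonoV, hqV⟩ := isQuot_bc i q hq V.ι
  haveI := hmonoV
  have hHV := isMultTypeFT_bc_open hH V
  obtain ⟨pTV, hpTV⟩ : ∃ pTV : PtIso T V.ι (Fin r → ℤ),
      ∀ (T'' : Over (V : Scheme.{u})) (x : (Over.map V.ι).obj T'' ⟶ T),
        pTV.toD T'' x = trDown V.ι (x ≫ a) :=
    ⟨ptOfIso a ainv h1 h2 V.ι, fun T'' x => rfl⟩
  obtain ⟨aV, aVinv, haV, haVinv, hV1, hV2, hVf⟩ := split_of_ptIso V.ι pTV
  haveI := haV
  haveI := haVinv
  suffices hmain : ∃ r' : ℕ, r' ≤ r ∧ Red.IsSplitTorusWith (Fin r' → ℤ) (Red.bc V.ι Q) by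
    obtain ⟨r', -, hr'⟩ := hmain
    exact ⟨r', hr'⟩
  refine main_const r aV aVinv hV1 hV2 ((Over.pullback V.ι).map i) hHV
    ((Over.pullback V.ι).map q) hqV ?_
  intro m X' G x' htriv
  obtain ⟨αV, hαV⟩ : ∃ αV : Red.bc V.ι H ⟶ Red.Gm (V : Scheme.{u}),
      αV = ((Over.pullback V.ι).map i ≫ aV) ≫
        Red.DSmap (V : Scheme.{u}) (zmultiplesHom (Fin r → ℤ) m) := ⟨_, rfl⟩
  rw [← hαV] at htriv ⊢
  have hpt : ∀ (Y : Over (V : Scheme.{u})) (y : Y ⟶ Red.bc V.ι H),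
      y ≫ αV = trDown V.ι (chk V.ι y ≫ α m) := by
    intro Y y
    calc y ≫ αV
        = ((y ≫ (Over.pullback V.ι).map i) ≫ aV) ≫
            Red.DSmap (V : Scheme.{u}) (zmultiplesHom (Fin r → ℤ) m) := by
          rw [hαV]
          simp only [Category.assoc]
      _ = trDown V.ι (chk V.ι (y ≫ (Over.pullback V.ι).map i) ≫ a) ≫
            Red.DSmap (V : Scheme.{u}) (zmultiplesHom (Fin r → ℤ) m) := by
          rw [hVf, hpTV]
      _ = trDown V.ι ((chk V.ι y ≫ i) ≫ a) ≫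
            Red.DSmap (V : Scheme.{u}) (zmultiplesHom (Fin r → ℤ) m) := by
          rw [chk_postcomp]
      _ = trDown V.ι (((chk V.ι y ≫ i) ≫ a) ≫
            Red.DSmap S (zmultiplesHom (Fin r → ℤ) m)) :=
          (trDown_DSmap V.ι (zmultiplesHom (Fin r → ℤ) m) ((chk V.ι y ≫ i) ≫ a)).symm
      _ = trDown V.ι (chk V.ι y ≫ α m) := by
          rw [hα, hi']
          simp only [Category.assoc]
  have htr1 : ∀ (Y : Over (V : Scheme.{u})) (x : (Over.map V.ι).obj Y ⟶ Red.Gm S),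
      trDown V.ι x = 1 ↔ x = 1 := by
    intro Y x
    constructor
    · intro h
      apply (ptDS V.ι ℤ).to_inj Y x 1
      show trDown V.ι x = (ptDS V.ι ℤ).toD Y 1
      rw [(ptDS V.ι ℤ).to_one]
      exact h
    · intro h
      rw [h]
      exact (ptDS V.ι ℤ).to_one Y
  have hcompat : ∀ {Z : Scheme.{u}} (z : Z ⟶ (V : Scheme.{u})),
      (Over.pullback z).map αV = 1 ↔ (Over.pullback (z ≫ V.ι)).map (α m) = 1 := by
    intro Z z
    rw [triv_iff_pts, triv_iff_pts]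
    constructor
    · intro h T'' x
      have h3 := h T'' (unchk V.ι (sig V.ι z T'' ≫ x))
      rw [hpt, chk_unchk, htr1] at h3
      calc x ≫ α m = tau V.ι z T'' ≫ (sig V.ι z T'' ≫ x) ≫ α m := by
            rw [Category.assoc, ← Category.assoc (tau V.ι z T''), tau_sig, Category.id_comp]
        _ = 1 := by rw [h3, MonObj.comp_one]
    · intro h T'' y
      rw [hpt, htr1]
      have h3 := h T'' (tau V.ι z T'' ≫ chk V.ι y)
      calc chk V.ι y ≫ α m = sig V.ι z T'' ≫ (tau V.ι z T'' ≫ chk V.ι y) ≫ α m := by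
            rw [Category.assoc, ← Category.assoc (sig V.ι z T''), sig_tau, Category.id_comp]
        _ = 1 := by rw [h3, MonObj.comp_one]
  have h5 : (Over.pullback ((X'.fromSpecResidueField x' ≫ G) ≫ V.ι)).map (α m) = 1 :=
    (hcompat _).mp htriv
  have h6 : (Over.pullback (X'.fromSpecResidueField x' ≫ (G ≫ V.ι))).map (α m) = 1 :=
    triv_congr (α m) (Category.assoc _ _ _) h5
  have h7 := (field_pt_desc (α m) (G ≫ V.ι) x').mp h6
  have h8 : (G ≫ V.ι).base x' ∈ Vset := (hVmem _).mp (G.base x').2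
  have hmK : m ∈ K := ((hVset _).mp h8 m).mp h7
  have h9 : (Over.pullback V.ι).map (α m) = 1 := hVtriv m hmK
  have h10 : (Over.pullback (𝟙 (V : Scheme.{u}) ≫ V.ι)).map (α m) = 1 :=
    triv_congr (α m) (Category.id_comp _).symm h9
  have h11 := (hcompat (𝟙 (V : Scheme.{u}))).mpr h10
  exact triv_of_id αV h11

/-! ### The main theorem -/

/-- **SGA 3 (locally split case).**  The quotient of a Zariski-locally split torus by a subgroup
of multiplicative type and of finite type is a Zariski-locally split torus. -/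
theorem main16616 {S : Scheme.{u}} {T H Q : Over S} [GrpObj T] [GrpObj H] [GrpObj Q]
    (hT : ∀ s : ↥S, ∃ U : S.Opens, s ∈ U ∧ ∃ r : ℕ,
      Red.IsSplitTorusWith (Fin r → ℤ) (Red.bc U.ι T))
    (i : H ⟶ T) [IsMonHom i] [Mono i] (hH : SGA3x.IsMultTypeFT H) (q : T ⟶ Q) [IsMonHom q]
    (hq : RedSub.IsQuotient i q) :
    ∀ s : ↥S, ∃ U : S.Opens, s ∈ U ∧ ∃ r : ℕ,
      Red.IsSplitTorusWith (Fin r → ℤ) (Red.bc U.ι Q) := by
  intro s
  obtain ⟨U, hsU, r, hsplit⟩ := hT s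
  obtain ⟨hmonoU, hqU⟩ := isQuot_bc i q hq U.ι
  haveI := hmonoU
  have hHU := isMultTypeFT_bc_open hH U
  obtain ⟨V', hsV', r', hs'⟩ := local16616 r hsplit ((Over.pullback U.ι).map i) hHU
    ((Over.pullback U.ι).map q) hqU (⟨s, hsU⟩ : U)
  obtain ⟨eQ⟩ := hs'
  obtain ⟨c1, cinv, hc1, hcinv, hh1, hh2⟩ := Groth.Agent.Lib.DiagHom.iso_data eQ
  haveI := hc1
  haveI := hcinv
  obtain ⟨pQ'⟩ := exists_transport (Red.bc U.ι Q) V'.ι c1 cinv hh1 hh2 (𝟙 (V' : Scheme.{u})) V'.ι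
    (Category.id_comp _)
  obtain ⟨V, hVmem⟩ : ∃ V : S.Opens, ∀ v, v ∈ V ↔ v ∈ U.ι.base '' (V' : Set U) :=
    ⟨⟨U.ι.base '' (V' : Set U), U.ι.isOpenEmbedding.isOpenMap _ V'.isOpen⟩, fun v => Iff.rfl⟩
  obtain ⟨ρ, hρ1, hρ2⟩ := lift_into U V' V.ι (fun t => (hVmem _).mp t.2)
  obtain ⟨ρ', hρ'⟩ : ∃ ρ' : (V : Scheme.{u}) ⟶ (V' : Scheme.{u}), ρ' ≫ V'.ι = ρ :=
    ⟨IsOpenImmersion.lift V'.ι ρ (by
      rintro _ ⟨t, rfl⟩
      exact ⟨⟨ρ.base t, hρ2 t⟩, rfl⟩), IsOpenImmersion.lift_fac _ _ _⟩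
  have hsp := split_of_restrict (V'.ι ≫ U.ι) (ptIso_bc_comp U.ι V'.ι pQ') ρ' V.ι (by
    rw [← Category.assoc, hρ', hρ1])
  exact ⟨V, (hVmem s).mpr ⟨⟨s, hsU⟩, hsV', rfl⟩, r', hsp⟩

end Groth.Agent.Lib.TorusQuotH4
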