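import Mathlib
import Groth.Prelude
import Groth.Agent.Lib.TorusQuot6_helper4

/-!
# Images of homomorphisms from split tori: generalities (helper4)
-/

set_option backward.isDefEq.respectTransparency.types false
set_option autoImplicit false
set_option linter.unusedVariables false
set_option linter.unusedTactic false
set_option linter.unreachableTactic false
set_option linter.unusedSectionVars false
set_option linter.style.haveILetI false
set_option linter.deprecated false
set_option linter.unusedSimpArgs false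
set_option linter.style.longLine false
set_option maxHeartbeats 1600000

universe u

open CategoryTheory CategoryTheory.Limits MonoidalCategory CartesianMonoidalCategory MonObj GrpObj
  AlgebraicGeometry Opposite

namespace Groth.Agent.Lib.TorusQuotH4

open Groth.Agent.Lib.RedDictH8 Groth.Agent.Lib.DSDict Groth.Agent.Lib.MultGa
  Groth.Agent.Lib.MultTrivH4 Groth.Agent.Lib.ConnActH4 Groth.Agent.Lib.TwConstFinH4
  Groth.Agent.Lib.MTHomH4


/-! ### Generalities -/

theorem trUp_DSmap {U W : Scheme.{u}} (r : W ⟶ U) {M M' : Type} [AddCommGroup M]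
    [AddCommGroup M'] (ψ : M' →+ M) {T'' : Over W} (d : T'' ⟶ Red.DS W M) :
    trUp r (d ≫ Red.DSmap W ψ) = trUp r d ≫ Red.DSmap U ψ := by
  calc trUp r (d ≫ Red.DSmap W ψ)
      = trUp r (trDown r (trUp r d) ≫ Red.DSmap W ψ) := by rw [trDown_trUp]
    _ = trUp r (trDown r (trUp r d ≫ Red.DSmap U ψ)) := by rw [trDown_DSmap]
    _ = trUp r d ≫ Red.DSmap U ψ := trUp_trDown r _

theorem trDown_eq_one_iff {U W : Scheme.{u}} (r : W ⟶ U) {M : Type} [AddCommGroup M]
    {T'' : Over W} (x : (Over.map r).obj T'' ⟶ Red.DS U M) : trDown r x = 1 ↔ x = 1 := by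
  constructor
  · intro h
    apply (ptDS r M).to_inj T'' x 1
    show trDown r x = (ptDS r M).toD T'' 1
    rw [(ptDS r M).to_one]
    exact h
  · intro h
    rw [h]
    exact (ptDS r M).to_one T''

theorem fpqc_tensorHom {S : Scheme.{u}} {A B A' B' : Over S} (c : A ⟶ B) (c' : A' ⟶ B')
    [Flat c.left] [Surjective c.left] [QuasiCompact c.left]
    [Flat c'.left] [Surjective c'.left] [QuasiCompact c'.left] :
    Flat (c ⊗ₘ c').left ∧ Surjective (c ⊗ₘ c').left ∧ QuasiCompact (c ⊗ₘ c').left := by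
  have e₁ : A.hom = c.left ≫ B.hom := (Over.w c).symm
  have e₂ : A'.hom = c'.left ≫ B'.hom := (Over.w c').symm
  refine ⟨?_, ?_, ?_⟩
  · exact MorphismProperty.pullbackMap (P := @Flat) (f := A.hom) (g := A'.hom) (f' := B.hom)
      (g' := B'.hom) ‹Flat c.left› ‹Flat c'.left› e₁ e₂
  · exact MorphismProperty.pullbackMap (P := @Surjective) (f := A.hom) (g := A'.hom) (f' := B.hom)
      (g' := B'.hom) ‹Surjective c.left› ‹Surjective c'.left› e₁ e₂
  · exact MorphismProperty.pullbackMap (P := @QuasiCompact) (f := A.hom) (g := A'.hom)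
      (f' := B.hom) (g' := B'.hom) ‹QuasiCompact c.left› ‹QuasiCompact c'.left› e₁ e₂

theorem epi_tensorHom_fpqc {S : Scheme.{u}} {A B A' B' : Over S} (c : A ⟶ B) (c' : A' ⟶ B')
    [Flat c.left] [Surjective c.left] [QuasiCompact c.left]
    [Flat c'.left] [Surjective c'.left] [QuasiCompact c'.left] : Epi (c ⊗ₘ c') := by
  obtain ⟨h1, h2, h3⟩ := fpqc_tensorHom c c'
  haveI := h1
  haveI := h2
  haveI := h3
  haveI : EffectiveEpi (c ⊗ₘ c').left := inferInstance
  haveI : Epi (c ⊗ₘ c').left := inferInstance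
  exact Over.epi_of_epi_left _

theorem isMultTypeFT_DS (S : Scheme.{u}) (M : Type) [AddCommGroup M] (hM : AddGroup.FG M) :
    SGA3x.IsMultTypeFT (Red.DS S M) := by
  refine ⟨S, 𝟙 S, inferInstance, inferInstance, ?_, ?_⟩
  · intro V hV
    refine ⟨V, hV.isCompact, ?_⟩
    ext v
    constructor
    · rintro ⟨w, hw, rfl⟩
      exact hw
    · intro hv
      exact ⟨v, hv, rfl⟩
  · intro s
    refine ⟨⊤, trivial, M, inferInstance, hM, ?_⟩
    exact split_of_restrict (𝟙 S) (ptDS (𝟙 S) M) (⊤ : S.Opens).ι ((⊤ : S.Opens).ι ≫ 𝟙 S) rfl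

theorem isMultTypeFT_of_isTorus {S : Scheme.{u}} {T : Over S} [GrpObj T] (hT : Red.IsTorus T) :
    SGA3x.IsMultTypeFT T := by
  obtain ⟨S₁, f₁, hfl, hsu, hcov, hloc⟩ := hT
  refine ⟨S₁, f₁, hfl, hsu, hcov, ?_⟩
  intro s'
  obtain ⟨U, hsU, r, hs⟩ := hloc s'
  exact ⟨U, hsU, Fin r → ℤ, inferInstance, Module.Finite.iff_addGroup_fg.mp inferInstance, hs⟩

/-! ### Triviality of homomorphisms into a general target -/

theorem nu_triv' {S B : Scheme.{u}} {T G : Over S} [GrpObj T] [GrpObj G] (u : T ⟶ G) [IsMonHom u]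
    (jj : B ⟶ S) {M N : Type} [AddCommGroup M] [AddCommGroup N] (eT : PtIso T jj M)
    (eG : PtIso G jj N) {T₁ : Scheme.{u}} (r : T₁ ⟶ B)
    (ht : ∀ (T'' : Over T₁) (x : (Over.map (r ≫ jj)).obj T'' ⟶ T), x ≫ u = 1)
    (T'' : Over T₁) (d : (Over.map r).obj T'' ⟶ Red.DS B M) :
    nuOf u jj eT eG ((Over.map r).obj T'') d = 1 := by
  show eG.toD ((Over.map r).obj T'') (eT.ofD ((Over.map r).obj T'') d ≫ u) = 1
  have h1 := ht T'' (tau jj r T'' ≫ eT.ofD ((Over.map r).obj T'') d)
  have h2 : eT.ofD ((Over.map r).obj T'') d ≫ u =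
      sig jj r T'' ≫ (tau jj r T'' ≫ eT.ofD ((Over.map r).obj T'') d) ≫ u := by
    rw [Category.assoc, ← Category.assoc (sig jj r T''), sig_tau, Category.id_comp]
  rw [h2, h1, MonObj.comp_one, eG.to_one]

theorem chart_triv'' {S B : Scheme.{u}} {T G : Over S} [GrpObj T] [GrpObj G] (u : T ⟶ G)
    [IsMonHom u] (jj : B ⟶ S) {M N : Type} [AddCommGroup M] [AddCommGroup N] (eT : PtIso T jj M)
    (eG : PtIso G jj N) (W₀ : B.Opens) (φ : N →+ M)
    (hloc : ∀ (T' : Over B), (∀ z : T'.left, T'.hom.base z ∈ W₀) →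
      ∀ d : T' ⟶ Red.DS B M, nuOf u jj eT eG T' d = d ≫ Red.DSmap B φ) :
    (φ = 0 → ∀ {T₁ : Scheme.{u}} (r : T₁ ⟶ B), (∀ t : T₁, r.base t ∈ W₀) →
        (Over.pullback (r ≫ jj)).map u = 1) ∧
      (∀ (F' : Type u) [Field F'] (z : Spec (CommRingCat.of F') ⟶ B), (∀ t, z.base t ∈ W₀) →
        (Over.pullback (z ≫ jj)).map u = 1 → φ = 0) := by
  constructor
  · intro hφ T₁ r hr
    have hZ : ∀ (T'' : Over T₁) (d : (Over.map r).obj T'' ⟶ Red.DS B M),
        nuOf u jj eT eG ((Over.map r).obj T'') d = d ≫ Red.DSmap B φ := fun T'' d =>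
      hloc ((Over.map r).obj T'') (fun z => hr _) d
    rw [triv_iff_pts]
    intro T'' x
    apply (ptEquiv jj eG r T'').injective
    have e1 : ptEquiv jj eG r T'' (1 : (Over.map (r ≫ jj)).obj T'' ⟶ G) = 1 := by
      show eG.toD ((Over.map r).obj T'') (sig jj r T'' ≫ 1) = 1
      rw [MonObj.comp_one, eG.to_one]
    rw [ptEquiv_comm u jj eT eG r T'' x, hZ, hφ, Groth.Agent.Lib.DiagHom.DSmap_zero,
      MonObj.comp_one, e1]
  · intro F' _ z hz ht
    rw [triv_iff_pts] at ht
    obtain ⟨d, hd0⟩ : ∃ d : TB z (MonoidAlgebra F' (Multiplicative M)) ⟶ Red.DS B M,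
        ∀ m, chr d m = (Scheme.ΓSpecIso (CommRingCat.of (MonoidAlgebra F' (Multiplicative M)))).inv
          (MonoidAlgebra.of F' (Multiplicative M) (Multiplicative.ofAdd m)) :=
      ⟨pt z (MonoidAlgebra.of F' (Multiplicative M)), fun m => chr_pt z _ m⟩
    have hd := hloc (TB z (MonoidAlgebra F' (Multiplicative M))) (fun t => hz _) d
    have hnu : nuOf u jj eT eG (TB z (MonoidAlgebra F' (Multiplicative M))) d = 1 :=
      nu_triv' u jj eT eG z ht (Over.mk (Spec.map (CommRingCat.ofHom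
        (algebraMap F' (MonoidAlgebra F' (Multiplicative M)))))) d
    have h3 : d ≫ Red.DSmap B φ = 1 := hd.symm.trans hnu
    apply AddMonoidHom.ext
    intro n
    have h4 : chr (d ≫ Red.DSmap B φ) n = 1 := by rw [h3, chr_one]
    rw [chr_DSmap, hd0] at h4
    have h5 := congrArg (fun w =>
      (Scheme.ΓSpecIso (CommRingCat.of (MonoidAlgebra F' (Multiplicative M)))).hom w) h4
    have e1 := Iso.inv_hom_id_apply
      (Scheme.ΓSpecIso (CommRingCat.of (MonoidAlgebra F' (Multiplicative M))))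
      (MonoidAlgebra.of F' (Multiplicative M) (Multiplicative.ofAdd (φ n)))
    have e2 : (Scheme.ΓSpecIso (CommRingCat.of (MonoidAlgebra F' (Multiplicative M)))).hom 1 = 1 := by
      rw [map_one]
    have h6 : MonoidAlgebra.of F' (Multiplicative M) (Multiplicative.ofAdd (φ n)) =
        MonoidAlgebra.of F' (Multiplicative M) 1 :=
      (e1.symm.trans (h5.trans e2)).trans (map_one (MonoidAlgebra.of F' (Multiplicative M))).symm
    have h7 : Multiplicative.ofAdd (φ n) = 1 := MonoidAlgebra.of_injective h6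
    have h8 : φ n = 0 := ofAdd_eq_one.mp h7
    exact h8.trans (AddMonoidHom.zero_apply _).symm

theorem triv_propagate' {S : Scheme.{u}} [ConnectedSpace ↥S] {H G : Over S} [GrpObj H] [GrpObj G]
    (α : H ⟶ G) {X : Scheme.{u}} (F : X ⟶ S) [Flat F] [Surjective F]
    (hcov : ∀ V : S.Opens, IsAffineOpen V → ∃ (P' : Scheme.{u}) (p : P' ⟶ (V : Scheme.{u}))
      (m : P' ⟶ X), Flat p ∧ Surjective p ∧ QuasiCompact p ∧ m ≫ F = p ≫ V.ι)
    (O : X → X.Opens) (hxO : ∀ x, x ∈ O x) (Q : X → Prop)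
    (hQ1 : ∀ x, Q x → ∀ {T₁ : Scheme.{u}} (r : T₁ ⟶ X), (∀ t : T₁, r.base t ∈ O x) →
      (Over.pullback (r ≫ F)).map α = 1)
    (hQ2 : ∀ x (K : Type u) [Field K] (z : Spec (CommRingCat.of K) ⟶ X),
      (∀ t, z.base t ∈ O x) → (Over.pullback (z ≫ F)).map α = 1 → Q x)
    (x₀ : X) (h₀ : Q x₀) : α = 1 := by
  obtain ⟨A, hAdef⟩ : ∃ A : Set S,
      A = {s | (Over.pullback (S.fromSpecResidueField s)).map α = 1} := ⟨_, rfl⟩
  have hz : ∀ (x x' : X), x' ∈ O x → ∀ t, (X.fromSpecResidueField x').base t ∈ O x := by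
    intro x x' hx' t
    have h1 : (X.fromSpecResidueField x').base t ∈ ({x'} : Set X) := by
      rw [← Scheme.range_fromSpecResidueField]
      exact ⟨t, rfl⟩
    rw [Set.mem_singleton_iff.mp h1]
    exact hx'
  have key : ∀ x x' : X, x' ∈ O x → (F.base x' ∈ A ↔ Q x) := by
    intro x x' hx'
    have hA' : F.base x' ∈ A ↔
        (Over.pullback (S.fromSpecResidueField (F.base x'))).map α = 1 := by
      rw [hAdef]
      exact Iff.rfl
    rw [hA', ← field_pt_desc α F x']
    constructor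
    · intro h
      exact hQ2 x (X.residueField x') (X.fromSpecResidueField x') (hz x x' hx') h
    · intro hq
      exact hQ1 x hq (X.fromSpecResidueField x') (hz x x' hx')
  have hopen1 : IsOpen (F.base ⁻¹' A) := by
    rw [isOpen_iff_forall_mem_open]
    intro x hx
    refine ⟨(O x : Set X), ?_, (O x).isOpen, hxO x⟩
    intro x' hx'
    have hq : Q x := (key x x (hxO x)).mp hx
    exact (key x x' hx').mpr hq
  have hopen2 : IsOpen (F.base ⁻¹' Aᶜ) := by
    rw [isOpen_iff_forall_mem_open]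
    intro x hx
    refine ⟨(O x : Set X), ?_, (O x).isOpen, hxO x⟩
    intro x' hx' hx'A
    exact hx ((key x x (hxO x)).mpr ((key x x' hx').mp hx'A))
  have hAopen : IsOpen A := isOpen_of_cov F hcov A hopen1
  have hAclosed : IsClosed A := ⟨isOpen_of_cov F hcov Aᶜ hopen2⟩
  have hAuniv : A = Set.univ := by
    rcases isClopen_iff.mp (⟨hAclosed, hAopen⟩ : IsClopen A) with h | h
    · exfalso
      have h1 : F.base x₀ ∈ A := (key x₀ x₀ (hxO x₀)).mpr h₀
      rw [h] at h1
      exact h1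
    · exact h
  have hQall : ∀ x, Q x := by
    intro x
    refine (key x x (hxO x)).mp ?_
    rw [hAuniv]
    exact Set.mem_univ _
  have h1 : (Over.pullback F).map α = 1 :=
    triv_local α F O (fun t => ⟨t, hxO t⟩) (fun x => hQ1 x (hQall x) (O x).ι (fun t => t.2))
  have h2 : (Over.pullback (𝟙 S)).map α = 1 :=
    triv_desc α (𝟙 S) F (triv_congr α (Category.comp_id F).symm h1)
  exact triv_of_id α h2

end Groth.Agent.Lib.TorusQuotH4
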