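import Mathlib
import Groth.Prelude
import Groth.Agent.Lib.TorusImg1_helper4

/-!
# Images of homomorphisms from split tori (helper4)
-/

set_option backward.isDefEq.respectTransparency.types false
set_option autoImplicit false
set_option linter.unusedVariables false
set_option linter.unusedTactic false
set_option linter.unreachableTactic false
set_option linter.unusedSectionVars false
set_option linter.style.haveILetI false
set_option linter.deprecated false
set_option linter.unusedSimpArgs false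
set_option linter.style.longLine false
set_option maxHeartbeats 1600000

universe u

open CategoryTheory CategoryTheory.Limits MonoidalCategory CartesianMonoidalCategory MonObj GrpObj
  AlgebraicGeometry Opposite

namespace Groth.Agent.Lib.TorusQuotH4

open Groth.Agent.Lib.RedDictH8 Groth.Agent.Lib.DSDict Groth.Agent.Lib.MultGa
  Groth.Agent.Lib.MultTrivH4 Groth.Agent.Lib.ConnActH4 Groth.Agent.Lib.TwConstFinH4
  Groth.Agent.Lib.MTHomH4


/-! ### Charts of a homomorphism from a split group -/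

theorem img_charts {S : Scheme.{u}} {T G : Over S} [GrpObj T] [GrpObj G] {M : Type}
    [AddCommGroup M] (a : T ⟶ Red.DS S M) (ainv : Red.DS S M ⟶ T) [IsMonHom a] [IsMonHom ainv]
    (h1 : a ≫ ainv = 𝟙 _) (h2 : ainv ≫ a = 𝟙 _) (hG : SGA3x.IsMultTypeFT G)
    (lam : T ⟶ G) [IsMonHom lam] :
    ∃ (X : Scheme.{u}) (F : X ⟶ S), Flat F ∧ Surjective F ∧
      (∀ V : S.Opens, IsAffineOpen V → ∃ (P' : Scheme.{u}) (p : P' ⟶ (V : Scheme.{u}))
        (m : P' ⟶ X), Flat p ∧ Surjective p ∧ QuasiCompact p ∧ m ≫ F = p ≫ V.ι) ∧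
      ∀ x : X, ∃ (O : X.Opens) (Kx : AddSubgroup M), x ∈ O ∧
        (∀ K' : AddSubgroup M, Kx ≤ K' → ∀ {T₁ : Scheme.{u}} (r : T₁ ⟶ X),
          (∀ t : T₁, r.base t ∈ O) →
          (Over.pullback (r ≫ F)).map
            (Red.DSmap S (QuotientAddGroup.mk' K') ≫ ainv ≫ lam) = 1) ∧
        (∀ (K' : AddSubgroup M) (L : Type u) [Field L] (z : Spec (CommRingCat.of L) ⟶ X),
          (∀ t, z.base t ∈ O) →
          (Over.pullback (z ≫ F)).map
            (Red.DSmap S (QuotientAddGroup.mk' K') ≫ ainv ≫ lam) = 1 → Kx ≤ K') ∧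
        (∀ {T₁ : Scheme.{u}} (r : T₁ ⟶ X), (∀ t : T₁, r.base t ∈ O) → ∀ (T'' : Over T₁)
          (t : (Over.map (r ≫ F)).obj T'' ⟶ T), t ≫ lam = 1 →
          ∀ k ∈ Kx, (t ≫ a) ≫ Red.DSmap S (zmultiplesHom M k) = 1) := by
  obtain ⟨S₁, f₁, hflat₁, hsurj₁, hcov₁, hloc₁⟩ := hG
  haveI := hflat₁
  haveI := hsurj₁
  refine ⟨S₁, f₁, hflat₁, hsurj₁, ?_, ?_⟩
  · intro V hV
    obtain ⟨W, hWc, hWV⟩ := hcov₁ V hV
    obtain ⟨fW, e, h1', h2', h3'⟩ := exists_fpqc_piece f₁ V hV W hWc hWV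
    exact ⟨W, fW, W.ι, h1', h2', h3', e.symm⟩
  · intro x
    obtain ⟨U₁, hxU, N, instN, hNfg, ⟨eA⟩⟩ := hloc₁ x
    obtain ⟨g1, g1inv, hg1, hg1inv, hg11, hg12⟩ := Groth.Agent.Lib.DiagHom.iso_data eA
    haveI := hg1
    haveI := hg1inv
    obtain ⟨jj, hjj⟩ : ∃ jj : (U₁ : Scheme.{u}) ⟶ S, jj = U₁.ι ≫ f₁ := ⟨_, rfl⟩
    obtain ⟨pG⟩ := exists_transport G (U₁.ι ≫ f₁) g1 g1inv hg11 hg12 (𝟙 (U₁ : Scheme.{u})) jj (by
      rw [hjj, Category.id_comp])
    obtain ⟨pT, hpTto, hpTof⟩ : ∃ pT : PtIso T jj M,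
        (∀ (T'' : Over (U₁ : Scheme.{u})) (x : (Over.map jj).obj T'' ⟶ T),
          pT.toD T'' x = trDown jj (x ≫ a)) ∧
        (∀ (T'' : Over (U₁ : Scheme.{u})) (d : T'' ⟶ Red.DS (U₁ : Scheme.{u}) M),
          pT.ofD T'' d = trUp jj d ≫ ainv) :=
      ⟨ptOfIso a ainv h1 h2 jj, fun T'' x => rfl, fun T'' d => rfl⟩
    obtain ⟨W₀, φ, hb, hloc⟩ := local_const (nuOf lam jj pT pG) (nuOf_nat lam jj pT pG)
      (nuOf_hom lam jj pT pG) hNfg (⟨x, hxU⟩ : U₁)
    have hlocu : ∀ (K' : AddSubgroup M) (T' : Over (U₁ : Scheme.{u})),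
        (∀ z : T'.left, T'.hom.base z ∈ W₀) →
        ∀ d : T' ⟶ Red.DS (U₁ : Scheme.{u}) (M ⧸ K'),
          nuOf (Red.DSmap S (QuotientAddGroup.mk' K') ≫ ainv ≫ lam) jj (ptDS jj (M ⧸ K')) pG T' d =
            d ≫ Red.DSmap (U₁ : Scheme.{u}) ((QuotientAddGroup.mk' K').comp φ) := by
      intro K' T' hT' d
      have h3 := hloc T' hT' (d ≫ Red.DSmap (U₁ : Scheme.{u}) (QuotientAddGroup.mk' K'))
      have h4 : nuOf (Red.DSmap S (QuotientAddGroup.mk' K') ≫ ainv ≫ lam) jj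
          (ptDS jj (M ⧸ K')) pG T' d =
          nuOf lam jj pT pG T' (d ≫ Red.DSmap (U₁ : Scheme.{u}) (QuotientAddGroup.mk' K')) := by
        show pG.toD T' (trUp jj d ≫ Red.DSmap S (QuotientAddGroup.mk' K') ≫ ainv ≫ lam) =
          pG.toD T' (pT.ofD T' (d ≫ Red.DSmap (U₁ : Scheme.{u}) (QuotientAddGroup.mk' K')) ≫ lam)
        rw [hpTof, trUp_DSmap]
        simp only [Category.assoc]
      rw [h4, h3, Category.assoc, Groth.Agent.Lib.DiagHom.DSmap_comp]
    obtain ⟨O, hOmem⟩ : ∃ O : S₁.Opens, ∀ y, y ∈ O ↔ y ∈ U₁.ι.base '' (W₀ : Set U₁) :=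
      ⟨⟨U₁.ι.base '' (W₀ : Set U₁), U₁.ι.isOpenEmbedding.isOpenMap _ W₀.isOpen⟩,
        fun y => Iff.rfl⟩
    refine ⟨O, φ.range, (hOmem x).mpr ⟨⟨x, hxU⟩, hb, rfl⟩, ?_, ?_, ?_⟩
    · intro K' hK' T₁ r hr
      obtain ⟨r', hrr', hr'W⟩ := lift_into U₁ W₀ r (fun t => (hOmem _).mp (hr t))
      have e : r' ≫ jj = r ≫ f₁ := by
        rw [hjj, ← Category.assoc, hrr']
      have h0 : (QuotientAddGroup.mk' K').comp φ = 0 := by
        apply AddMonoidHom.ext
        intro n
        show QuotientAddGroup.mk' K' (φ n) = 0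
        exact (QuotientAddGroup.eq_zero_iff _).mpr (hK' ⟨n, rfl⟩)
      exact triv_congr _ e ((chart_triv'' _ jj (ptDS jj (M ⧸ K')) pG W₀ _ (hlocu K')).1 h0 r' hr'W)
    · intro K' L _ z hz ht
      obtain ⟨z', hzz', hz'W⟩ := lift_into U₁ W₀ z (fun t => (hOmem _).mp (hz t))
      have e : z' ≫ jj = z ≫ f₁ := by
        rw [hjj, ← Category.assoc, hzz']
      have h0 := (chart_triv'' _ jj (ptDS jj (M ⧸ K')) pG W₀ _ (hlocu K')).2 L z' hz'W
        (triv_congr _ e.symm ht)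
      rintro k ⟨n, rfl⟩
      have h3 : ((QuotientAddGroup.mk' K').comp φ) n = (0 : N →+ M ⧸ K') n := by rw [h0]
      exact (QuotientAddGroup.eq_zero_iff _).mp h3
    · intro T₁ r hr T'' t ht k hk
      obtain ⟨r', hrr', hr'W⟩ := lift_into U₁ W₀ r (fun t => (hOmem _).mp (hr t))
      have e : r' ≫ jj = r ≫ f₁ := by
        rw [hjj, ← Category.assoc, hrr']
      obtain ⟨n, rfl⟩ := hk
      have hcore : ∀ (t : (Over.map (r' ≫ jj)).obj T'' ⟶ T), t ≫ lam = 1 →
          (t ≫ a) ≫ Red.DSmap S (zmultiplesHom M (φ n)) = 1 := by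
        intro t ht
        obtain ⟨x₁, hx₁⟩ : ∃ x₁ : (Over.map jj).obj ((Over.map r').obj T'') ⟶ T,
            x₁ = sig jj r' T'' ≫ t := ⟨_, rfl⟩
        have hx₁lam : x₁ ≫ lam = 1 := by
          rw [hx₁, Category.assoc, ht, MonObj.comp_one]
        have h3 := hloc ((Over.map r').obj T'') (fun z => hr'W _)
          (pT.toD ((Over.map r').obj T'') x₁)
        have h4 : nuOf lam jj pT pG ((Over.map r').obj T'')
            (pT.toD ((Over.map r').obj T'') x₁) = 1 := by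
          show pG.toD ((Over.map r').obj T'')
            (pT.ofD ((Over.map r').obj T'') (pT.toD ((Over.map r').obj T'') x₁) ≫ lam) = 1
          rw [pT.of_to, hx₁lam, pG.to_one]
        have h5 : pT.toD ((Over.map r').obj T'') x₁ ≫ Red.DSmap (U₁ : Scheme.{u}) φ = 1 :=
          h3.symm.trans h4
        have e1 : zmultiplesHom M (φ n) = φ.comp (zmultiplesHom N n) := by
          apply AddMonoidHom.ext_int
          show zmultiplesHom M (φ n) 1 = φ (zmultiplesHom N n 1)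
          rw [zmultiplesHom_apply, zmultiplesHom_apply, one_zsmul, one_zsmul]
        have h6 : trDown jj ((x₁ ≫ a) ≫ Red.DSmap S (zmultiplesHom M (φ n))) = 1 := by
          rw [trDown_DSmap, ← hpTto, e1, ← Groth.Agent.Lib.DiagHom.DSmap_comp, ← Category.assoc,
            h5, MonObj.one_comp]
        have h7 : (x₁ ≫ a) ≫ Red.DSmap S (zmultiplesHom M (φ n)) = 1 :=
          (trDown_eq_one_iff jj _).mp h6
        calc (t ≫ a) ≫ Red.DSmap S (zmultiplesHom M (φ n))
            = tau jj r' T'' ≫ (x₁ ≫ a) ≫ Red.DSmap S (zmultiplesHom M (φ n)) := by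
              rw [hx₁]
              simp only [Category.assoc]
              rw [← Category.assoc (tau jj r' T''), tau_sig, Category.id_comp]
          _ = 1 := by rw [h7, MonObj.comp_one]
      have gen : ∀ (g : T₁ ⟶ S) (hg : r' ≫ jj = g) (t : (Over.map g).obj T'' ⟶ T),
          t ≫ lam = 1 → (t ≫ a) ≫ Red.DSmap S (zmultiplesHom M (φ n)) = 1 := by
        intro g hg
        subst hg
        exact hcore
      exact gen (r ≫ f₁) e t ht

/-! ### The image of a homomorphism from a split torus -/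

theorem image_split {S : Scheme.{u}} [ConnectedSpace ↥S] {T G : Over S} [GrpObj T] [GrpObj G]
    (r : ℕ) (a : T ⟶ Red.DS S (Fin r → ℤ)) (ainv : Red.DS S (Fin r → ℤ) ⟶ T) [IsMonHom a]
    [IsMonHom ainv] (h1 : a ≫ ainv = 𝟙 _) (h2 : ainv ≫ a = 𝟙 _) (hG : SGA3x.IsMultTypeFT G)
    (lam : T ⟶ G) [IsMonHom lam] :
    ∃ (r' : ℕ) (q' : T ⟶ Red.DS S (Fin r' → ℤ)) (lam' : Red.DS S (Fin r' → ℤ) ⟶ G),
      r' ≤ r ∧ IsMonHom q' ∧ IsMonHom lam' ∧ Mono lam' ∧ q' ≫ lam' = lam := by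
  obtain ⟨X, F, hFfl, hFsu, hcov, hch⟩ := img_charts a ainv h1 h2 hG lam
  haveI := hFfl
  haveI := hFsu
  choose O Kx hxO hQ1 hQ2 hQ4 using hch
  have hz : ∀ (x : X) t, (X.fromSpecResidueField x).base t ∈ O x := by
    intro x t
    have h3 : (X.fromSpecResidueField x).base t ∈ ({x} : Set X) := by
      rw [← Scheme.range_fromSpecResidueField]
      exact ⟨t, rfl⟩
    rw [Set.mem_singleton_iff.mp h3]
    exact hxO x
  obtain ⟨x₀⟩ : Nonempty X := by
    obtain ⟨s⟩ := (inferInstance : Nonempty ↥S)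
    obtain ⟨x, -⟩ := hFsu.surj s
    exact ⟨x⟩
  obtain ⟨K, hKdef⟩ : ∃ K : AddSubgroup (Fin r → ℤ), K = Kx x₀ := ⟨_, rfl⟩
  obtain ⟨i, hidef⟩ : ∃ i : Red.DS S ((Fin r → ℤ) ⧸ K) ⟶ T,
      i = Red.DSmap S (QuotientAddGroup.mk' K) ≫ ainv := ⟨_, rfl⟩
  haveI : IsMonHom i := by
    rw [hidef]
    infer_instance
  have hilam : i ≫ lam = 1 := by
    rw [hidef, Category.assoc]
    exact triv_propagate' _ F hcov O hxO (fun x => Kx x ≤ K)
      (fun x hq {T₁} ρ hρ => hQ1 x K hq ρ hρ)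
      (fun x L _ z hz' ht => hQ2 x K L z hz' ht) x₀ (le_of_eq hKdef.symm)
  obtain ⟨r', κ, hr', hκinj, hκK, hκsurj⟩ := exists_rank_le r K
  obtain ⟨q', hq'def⟩ : ∃ q' : T ⟶ Red.DS S (Fin r' → ℤ), q' = a ≫ Red.DSmap S κ := ⟨_, rfl⟩
  haveI : IsMonHom q' := by
    rw [hq'def]
    infer_instance
  have huv : i ≫ q' = 1 := by
    have h0 : (QuotientAddGroup.mk' K).comp κ = 0 := by
      apply AddMonoidHom.ext
      intro l
      show QuotientAddGroup.mk' K (κ l) = 0
      exact (QuotientAddGroup.eq_zero_iff _).mpr (hκK l)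
    rw [hidef, hq'def, Category.assoc, ← Category.assoc ainv, h2, Category.id_comp,
      Groth.Agent.Lib.DiagHom.DSmap_comp, h0, Groth.Agent.Lib.DiagHom.DSmap_zero]
  have hex : ∀ (Z : Over S) (ζ : Z ⟶ T), ζ ≫ q' = 1 →
      ∃ z : Z ⟶ Red.DS S ((Fin r → ℤ) ⧸ K), z ≫ i = ζ := by
    intro Z ζ hζ
    have hζa : ∀ k ∈ K, chr (ζ ≫ a) k = 1 := by
      intro k hk
      obtain ⟨l, rfl⟩ := hκsurj k hk
      have h3 : (ζ ≫ a) ≫ Red.DSmap S κ = 1 := by
        rw [Category.assoc, ← hq'def]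
        exact hζ
      rw [← chr_DSmap κ (ζ ≫ a) l, h3, chr_one]
    obtain ⟨ζ', hζ'⟩ := exists_lift_quot K (ζ ≫ a) hζa
    refine ⟨ζ', ?_⟩
    rw [hidef, ← Category.assoc, hζ', Category.assoc, h1, Category.comp_id]
  have hinj : ∀ (Z : Over S) (z z' : Z ⟶ Red.DS S ((Fin r → ℤ) ⧸ K)),
      z ≫ i = z' ≫ i → z = z' := by
    intro Z z z' h
    have h3 : (z ≫ i) ≫ a = (z' ≫ i) ≫ a := by rw [h]
    rw [hidef] at h3
    simp only [Category.assoc, h2, Category.comp_id] at h3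
    exact comp_DSmap_injective (QuotientAddGroup.mk' K) (QuotientAddGroup.mk'_surjective K) Z z z' h3
  have hpb' := isPullback_of_kernel_on_points i q' huv hex hinj
  -- `q'` is an fpqc covering
  haveI : IsIso a := ⟨⟨ainv, h1, h2⟩⟩
  haveI : IsIso a.left := (isIso_left_iff a).mpr inferInstance
  have hq'L : q'.left = a.left ≫ (Red.DSmap S κ).left := by
    rw [hq'def]
    rfl
  have hPD := P_DSmap S κ hκinj
  haveI : Flat q'.left := by
    rw [hq'L]
    exact (MorphismProperty.cancel_left_of_respectsIso (@Flat : MorphismProperty Scheme.{u})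
      a.left _).mpr hPD.1
  haveI : Surjective q'.left := by
    rw [hq'L]
    exact (MorphismProperty.cancel_left_of_respectsIso (@Surjective : MorphismProperty Scheme.{u})
      a.left _).mpr hPD.2
  haveI : QuasiCompact q'.left := by
    rw [hq'L]
    exact (MorphismProperty.cancel_left_of_respectsIso (@QuasiCompact : MorphismProperty Scheme.{u})
      a.left _).mpr (qc_DSmap S κ)
  haveI : EffectiveEpi q'.left := inferInstance
  have hw : fst T (Red.DS S ((Fin r → ℤ) ⧸ K)) ≫ lam =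
      ((T ◁ i) ≫ μ[T]) ≫ lam := by
    have h3 := act_pt i (𝟙 (T ⊗ Red.DS S ((Fin r → ℤ) ⧸ K)))
    rw [Category.id_comp, Category.id_comp, Category.id_comp] at h3
    rw [h3, MonObj.mul_comp, Category.assoc, hilam, MonObj.comp_one, _root_.mul_one]
  obtain ⟨lam', hlam'⟩ := quot_map i q' lam hpb' hw
  -- `lam'` is a homomorphism
  haveI : Epi q'.left := inferInstance
  haveI : Epi q' := Over.epi_of_epi_left q'
  have hepi : Epi (q' ⊗ₘ q') := epi_tensorHom_fpqc q' q'
  have hone : η[Red.DS S (Fin r' → ℤ)] ≫ lam' = η[G] := by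
    rw [← IsMonHom.one_hom q', Category.assoc, hlam', IsMonHom.one_hom lam]
  have hmul : μ[Red.DS S (Fin r' → ℤ)] ≫ lam' = (lam' ⊗ₘ lam') ≫ μ[G] := by
    haveI := hepi
    apply (cancel_epi (q' ⊗ₘ q')).mp
    calc (q' ⊗ₘ q') ≫ μ[Red.DS S (Fin r' → ℤ)] ≫ lam' = (μ[T] ≫ q') ≫ lam' := by
          rw [IsMonHom.mul_hom q', Category.assoc]
      _ = μ[T] ≫ lam := by rw [Category.assoc, hlam']
      _ = (lam ⊗ₘ lam) ≫ μ[G] := IsMonHom.mul_hom lam
      _ = ((q' ≫ lam') ⊗ₘ (q' ≫ lam')) ≫ μ[G] := by rw [hlam']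
      _ = (q' ⊗ₘ q') ≫ (lam' ⊗ₘ lam') ≫ μ[G] := by
          rw [← MonoidalCategory.tensorHom_comp_tensorHom, Category.assoc]
  haveI hlam'mon : IsMonHom lam' := ⟨hone, hmul⟩
  -- `lam'` is a monomorphism
  haveI hmonoP : (MorphismProperty.monomorphisms Scheme.{u}).DescendsAlong
      (@Surjective ⊓ @Flat ⊓ @QuasiCompact : MorphismProperty Scheme.{u}) := by
    rw [← MorphismProperty.diagonal_isomorphisms]
    infer_instance
  have hfg' : AddGroup.FG (Fin r' → ℤ) := Module.Finite.iff_addGroup_fg.mp inferInstance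
  obtain ⟨U, hUc, hUmem, hUP⟩ := main5274 (Red.DS S (Fin r' → ℤ)) G
    (isMultTypeFT_DS S _ hfg') hG lam'
  have hinjOn : InjOn lam' (X.fromSpecResidueField x₀ ≫ F) := by
    intro T'' y y' hyy
    have hyy' : y ≫ lam' = y' ≫ lam' := hyy
    have hker : ∀ w : (Over.map (X.fromSpecResidueField x₀ ≫ F)).obj T'' ⟶
        Red.DS S (Fin r' → ℤ), w ≫ lam' = 1 → w = 1 := by
      intro w hw1
      obtain ⟨c, hc⟩ : ∃ c : pullback w.left q'.left ⟶ T''.left,
          c = pullback.fst w.left q'.left := ⟨_, rfl⟩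
      haveI : Flat c := by
        rw [hc]
        infer_instance
      haveI : Surjective c := by
        rw [hc]
        infer_instance
      haveI : QuasiCompact c := by
        rw [hc]
        infer_instance
      haveI : EffectiveEpi c := inferInstance
      haveI : Epi c := inferInstance
      obtain ⟨cc, hcc⟩ : ∃ cc : Over.mk (c ≫ T''.hom) ⟶ T'', cc.left = c :=
        ⟨Over.homMk c rfl, rfl⟩
      have e1 : q'.left ≫ (Red.DS S (Fin r' → ℤ)).hom = T.hom := Over.w q'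
      have e2 : w.left ≫ (Red.DS S (Fin r' → ℤ)).hom =
          T''.hom ≫ (X.fromSpecResidueField x₀ ≫ F) := Over.w w
      obtain ⟨yt, hyt⟩ : ∃ yt : (Over.map (X.fromSpecResidueField x₀ ≫ F)).obj
          (Over.mk (c ≫ T''.hom)) ⟶ T, yt.left = pullback.snd w.left q'.left :=
        ⟨Over.homMk (pullback.snd w.left q'.left) (by
          show pullback.snd w.left q'.left ≫ T.hom =
            (c ≫ T''.hom) ≫ (X.fromSpecResidueField x₀ ≫ F)
          calc pullback.snd w.left q'.left ≫ T.hom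
              = pullback.snd w.left q'.left ≫ (q'.left ≫ (Red.DS S (Fin r' → ℤ)).hom) := by
                rw [e1]
            _ = (pullback.snd w.left q'.left ≫ q'.left) ≫ (Red.DS S (Fin r' → ℤ)).hom :=
                (Category.assoc _ _ _).symm
            _ = (pullback.fst w.left q'.left ≫ w.left) ≫ (Red.DS S (Fin r' → ℤ)).hom := by
                rw [pullback.condition]
            _ = pullback.fst w.left q'.left ≫ (w.left ≫ (Red.DS S (Fin r' → ℤ)).hom) :=
                Category.assoc _ _ _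
            _ = pullback.fst w.left q'.left ≫ (T''.hom ≫ (X.fromSpecResidueField x₀ ≫ F)) := by
                rw [e2]
            _ = (c ≫ T''.hom) ≫ (X.fromSpecResidueField x₀ ≫ F) := by
                rw [hc, Category.assoc]), rfl⟩
      have hytq : yt ≫ q' = (Over.map (X.fromSpecResidueField x₀ ≫ F)).map cc ≫ w := by
        apply Over.OverMorphism.ext
        show yt.left ≫ q'.left = cc.left ≫ w.left
        rw [hyt, hcc, hc]
        exact pullback.condition.symm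
      have hytlam : yt ≫ lam = 1 := by
        rw [← hlam', ← Category.assoc, hytq, Category.assoc, hw1, MonObj.comp_one]
      have hk1 : ∀ k ∈ K, (yt ≫ a) ≫ Red.DSmap S (zmultiplesHom (Fin r → ℤ) k) = 1 := by
        intro k hk
        rw [hKdef] at hk
        exact hQ4 x₀ (X.fromSpecResidueField x₀) (hz x₀) (Over.mk (c ≫ T''.hom)) yt hytlam k hk
      have hytq1 : yt ≫ q' = 1 := by
        refine (congrArg (fun k => yt ≫ k) hq'def).trans ?_
        refine (Category.assoc _ _ _).symm.trans ?_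
        apply chr_injective
        intro l
        rw [chr_DSmap, chr_one]
        have h3 := hk1 (κ l) (hκK l)
        have h4 : chr ((yt ≫ a) ≫ Red.DSmap S (zmultiplesHom (Fin r → ℤ) (κ l))) (1 : ℤ) = 1 := by
          rw [h3, chr_one]
        rw [chr_DSmap, zmultiplesHom_apply, one_zsmul] at h4
        exact h4
      have h5 : (Over.map (X.fromSpecResidueField x₀ ≫ F)).map cc ≫ w =
          (Over.map (X.fromSpecResidueField x₀ ≫ F)).map cc ≫ 1 := by
        rw [← hytq, hytq1, MonObj.comp_one]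
      haveI : Epi ((Over.map (X.fromSpecResidueField x₀ ≫ F)).map cc).left := by
        show Epi cc.left
        rw [hcc]
        infer_instance
      haveI : Epi ((Over.map (X.fromSpecResidueField x₀ ≫ F)).map cc) :=
        Over.epi_of_epi_left _
      exact (cancel_epi _).mp h5
    have h3 : (y * y'⁻¹) ≫ lam' = 1 := by
      rw [MonObj.mul_comp, GrpObj.inv_comp, hyy', _root_.mul_inv_cancel]
    exact _root_.mul_inv_eq_one.mp (hker _ h3)
  have hmono0 : Mono ((Over.pullback (S.fromSpecResidueField (F.base x₀))).map lam').left := by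
    have h3 : Mono ((Over.pullback (X.fromSpecResidueField x₀ ≫ F)).map lam') :=
      (mono_iff_injOn lam' _).mpr hinjOn
    have h4 : Mono ((Over.pullback (X.fromSpecResidueField x₀ ≫ F)).map lam').left :=
      (mono_left_iff _).mpr h3
    have h5 : (MorphismProperty.monomorphisms Scheme.{u})
        (bcL lam' (X.fromSpecResidueField x₀ ≫ F)) :=
      (MorphismProperty.monomorphisms.iff _).mpr h4
    have h6 := (P_field_iff (P := MorphismProperty.monomorphisms Scheme.{u}) lam' F x₀).mp h5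
    exact (MorphismProperty.monomorphisms.iff _).mp h6
  have hU : U = ⊤ := by
    have hclopen : IsClopen (U : Set S) := ⟨hUc, U.isOpen⟩
    rcases isClopen_iff.mp hclopen with h | h
    · exfalso
      have h3 : F.base x₀ ∈ (U : Set S) := (hUmem _).mpr hmono0
      rw [h] at h3
      exact h3
    · apply top_unique
      intro s _
      have h3 : s ∈ (U : Set S) := by
        rw [h]
        exact Set.mem_univ s
      exact h3
  subst hU
  haveI : IsIso (⊤ : S.Opens).ι := inferInstanceAs (IsIso S.topIso.hom)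
  haveI : IsIso (pullback.fst (Red.DS S (Fin r' → ℤ)).hom (⊤ : S.Opens).ι) := inferInstance
  haveI : IsIso (pullback.fst G.hom (⊤ : S.Opens).ι) := inferInstance
  have e : lam'.left = inv (pullback.fst (Red.DS S (Fin r' → ℤ)).hom (⊤ : S.Opens).ι) ≫
      bcL lam' (⊤ : S.Opens).ι ≫ pullback.fst G.hom (⊤ : S.Opens).ι := by
    rw [bcL_fst, IsIso.inv_hom_id_assoc]
  haveI : Mono (bcL lam' (⊤ : S.Opens).ι) := hUP
  haveI : Mono lam'.left := by
    rw [e]
    infer_instance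
  have hmono : Mono lam' := (mono_left_iff lam').mp inferInstance
  exact ⟨r', q', lam', hr', inferInstance, hlam'mon, hmono, hlam'⟩

/-! ### Cocharacters factor through the greatest split subtorus -/

theorem main16620 {S : Scheme.{u}} [ConnectedSpace ↥S] {T T₀ : Over S} [GrpObj T] [GrpObj T₀]
    (hT : Red.IsTorus T) (j₀ : T₀ ⟶ T) [IsMonHom j₀] [Mono j₀]
    (hmax : ∀ (T' : Over S) [GrpObj T'] (j' : T' ⟶ T) [IsMonHom j'] [Mono j'] (r' : ℕ),
      Red.IsSplitTorusWith (Fin r' → ℤ) T' → ∃ g : T' ⟶ T₀, g ≫ j₀ = j')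
    (lam : Red.Gm S ⟶ T) [IsMonHom lam] : ∃ mu : Red.Gm S ⟶ T₀, mu ≫ j₀ = lam := by
  have hTm := isMultTypeFT_of_isTorus hT
  obtain ⟨φ₁, hφ₁⟩ : ∃ φ₁ : (Fin 1 → ℤ) →+ ℤ, ∀ v, φ₁ v = v 0 :=
    ⟨{ toFun := fun v => v 0
       map_zero' := rfl
       map_add' := fun _ _ => rfl }, fun v => rfl⟩
  obtain ⟨φ₂, hφ₂⟩ : ∃ φ₂ : ℤ →+ (Fin 1 → ℤ), ∀ n i, φ₂ n i = n :=
    ⟨{ toFun := fun n _ => n
       map_zero' := rfl
       map_add' := fun _ _ => rfl }, fun n i => rfl⟩
  have e12 : φ₁.comp φ₂ = AddMonoidHom.id ℤ := by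
    apply AddMonoidHom.ext
    intro n
    show φ₁ (φ₂ n) = n
    rw [hφ₁, hφ₂]
  have e21 : φ₂.comp φ₁ = AddMonoidHom.id (Fin 1 → ℤ) := by
    apply AddMonoidHom.ext
    intro v
    funext i
    show φ₂ (φ₁ v) i = v i
    rw [hφ₂, hφ₁]
    exact congrArg v (Subsingleton.elim 0 i)
  have h1 : Red.DSmap S φ₁ ≫ Red.DSmap S φ₂ = 𝟙 (Red.DS S ℤ) := by
    rw [Groth.Agent.Lib.DiagHom.DSmap_comp, e12, Groth.Agent.Lib.DiagHom.DSmap_id]
  have h2 : Red.DSmap S φ₂ ≫ Red.DSmap S φ₁ = 𝟙 (Red.DS S (Fin 1 → ℤ)) := by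
    rw [Groth.Agent.Lib.DiagHom.DSmap_comp, e21, Groth.Agent.Lib.DiagHom.DSmap_id]
  obtain ⟨r', q', lam', hr', hq'mon, hlam'mon, hmono, hfac⟩ :=
    image_split (T := Red.Gm S) 1 (Red.DSmap S φ₁) (Red.DSmap S φ₂) h1 h2 hTm lam
  haveI := hlam'mon
  haveI := hmono
  obtain ⟨g, hg⟩ := hmax (Red.DS S (Fin r' → ℤ)) lam' r' (Nonempty.intro (Iso.refl _))
  exact ⟨q' ≫ g, by rw [Category.assoc, hg, hfac]⟩

end Groth.Agent.Lib.TorusQuotH4
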