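import Mathlib
import Groth.Prelude
import Groth.Agent.Lib.TorusQuot6_helper4
import Groth.Agent.Lib.TorusImg2_helper4

/-!
# Local images of homomorphisms from split tori, without connectedness (helper4)
-/

set_option backward.isDefEq.respectTransparency.types false
set_option autoImplicit false
set_option linter.unusedVariables false
set_option linter.unusedTactic false
set_option linter.unreachableTactic false
set_option linter.unusedSectionVars false
set_option linter.style.haveILetI false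
set_option linter.deprecated false
set_option linter.unusedSimpArgs false
set_option linter.style.longLine false
set_option maxHeartbeats 1600000

universe u

open CategoryTheory CategoryTheory.Limits MonoidalCategory CartesianMonoidalCategory MonObj GrpObj
  AlgebraicGeometry Opposite

namespace Groth.Agent.Lib.TorusQuotH4

open Groth.Agent.Lib.RedDictH8 Groth.Agent.Lib.DSDict Groth.Agent.Lib.MultGa
  Groth.Agent.Lib.MultTrivH4 Groth.Agent.Lib.ConnActH4 Groth.Agent.Lib.TwConstFinH4
  Groth.Agent.Lib.MTHomH4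

/-! ### The image of a homomorphism from a split torus with constant kernel lattice -/

theorem image_const {S : Scheme.{u}} {T G : Over S} [GrpObj T] [GrpObj G]
    (r : ℕ) (a : T ⟶ Red.DS S (Fin r → ℤ)) (ainv : Red.DS S (Fin r → ℤ) ⟶ T) [IsMonHom a]
    [IsMonHom ainv] (h1 : a ≫ ainv = 𝟙 _) (h2 : ainv ≫ a = 𝟙 _) (hG : SGA3x.IsMultTypeFT G)
    (lam : T ⟶ G) [IsMonHom lam] (K : AddSubgroup (Fin r → ℤ))
    (hconst : ∀ (K' : AddSubgroup (Fin r → ℤ)) (s : S),
      (Over.pullback (S.fromSpecResidueField s)).map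
        (Red.DSmap S (QuotientAddGroup.mk' K') ≫ ainv ≫ lam) = 1 ↔ K ≤ K') :
    ∃ (r' : ℕ) (q' : T ⟶ Red.DS S (Fin r' → ℤ)) (lam' : Red.DS S (Fin r' → ℤ) ⟶ G),
      r' ≤ r ∧ IsMonHom q' ∧ IsMonHom lam' ∧ Mono lam' ∧ q' ≫ lam' = lam ∧
      Flat q'.left ∧ Surjective q'.left ∧ QuasiCompact q'.left := by
  obtain ⟨X, F, hFfl, hFsu, hcov, hch⟩ := img_charts a ainv h1 h2 hG lam
  haveI := hFfl
  haveI := hFsu
  choose O Kx hxO hQ1 hQ2 hQ4 using hch
  have hz : ∀ (x : X) t, (X.fromSpecResidueField x).base t ∈ O x := by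
    intro x t
    have h3 : (X.fromSpecResidueField x).base t ∈ ({x} : Set X) := by
      rw [← Scheme.range_fromSpecResidueField]
      exact ⟨t, rfl⟩
    rw [Set.mem_singleton_iff.mp h3]
    exact hxO x
  have hKx : ∀ x : X, Kx x = K := by
    intro x
    have key : ∀ K' : AddSubgroup (Fin r → ℤ), Kx x ≤ K' ↔ K ≤ K' := by
      intro K'
      rw [← hconst K' (F.base x), ← field_pt_desc _ F x]
      constructor
      · intro h
        exact hQ1 x K' h (X.fromSpecResidueField x) (hz x)
      · intro h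
        exact hQ2 x K' (X.residueField x) (X.fromSpecResidueField x) (hz x) h
    exact le_antisymm ((key K).mpr le_rfl) ((key (Kx x)).mp le_rfl)
  obtain ⟨i, hidef⟩ : ∃ i : Red.DS S ((Fin r → ℤ) ⧸ K) ⟶ T,
      i = Red.DSmap S (QuotientAddGroup.mk' K) ≫ ainv := ⟨_, rfl⟩
  haveI : IsMonHom i := by
    rw [hidef]
    infer_instance
  have hilam : i ≫ lam = 1 := by
    obtain ⟨β, hβ⟩ : ∃ β : Red.DS S ((Fin r → ℤ) ⧸ K) ⟶ G,
        β = Red.DSmap S (QuotientAddGroup.mk' K) ≫ ainv ≫ lam := ⟨_, rfl⟩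
    rw [hidef, Category.assoc, ← hβ]
    apply triv_of_id β
    apply triv_desc β (𝟙 S) F
    apply triv_local β (F ≫ 𝟙 S) (fun x : X => O x) (fun x => ⟨x, hxO x⟩)
    intro x
    have h5 := hQ1 x K (le_of_eq (hKx x)) (O x).ι (fun t => t.2)
    rw [← hβ] at h5
    exact triv_congr β (by rw [Category.comp_id]) h5
  obtain ⟨r', κ, hr', hκinj, hκK, hκsurj⟩ := exists_rank_le r K
  obtain ⟨q', hq'def⟩ : ∃ q' : T ⟶ Red.DS S (Fin r' → ℤ), q' = a ≫ Red.DSmap S κ := ⟨_, rfl⟩
  haveI : IsMonHom q' := by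
    rw [hq'def]
    infer_instance
  have huv : i ≫ q' = 1 := by
    have h0 : (QuotientAddGroup.mk' K).comp κ = 0 := by
      apply AddMonoidHom.ext
      intro l
      show QuotientAddGroup.mk' K (κ l) = 0
      exact (QuotientAddGroup.eq_zero_iff _).mpr (hκK l)
    rw [hidef, hq'def, Category.assoc, ← Category.assoc ainv, h2, Category.id_comp,
      Groth.Agent.Lib.DiagHom.DSmap_comp, h0, Groth.Agent.Lib.DiagHom.DSmap_zero]
  have hex : ∀ (Z : Over S) (ζ : Z ⟶ T), ζ ≫ q' = 1 →
      ∃ z : Z ⟶ Red.DS S ((Fin r → ℤ) ⧸ K), z ≫ i = ζ := by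
    intro Z ζ hζ
    have hζa : ∀ k ∈ K, chr (ζ ≫ a) k = 1 := by
      intro k hk
      obtain ⟨l, rfl⟩ := hκsurj k hk
      have h3 : (ζ ≫ a) ≫ Red.DSmap S κ = 1 := by
        rw [Category.assoc, ← hq'def]
        exact hζ
      rw [← chr_DSmap κ (ζ ≫ a) l, h3, chr_one]
    obtain ⟨ζ', hζ'⟩ := exists_lift_quot K (ζ ≫ a) hζa
    refine ⟨ζ', ?_⟩
    rw [hidef, ← Category.assoc, hζ', Category.assoc, h1, Category.comp_id]
  have hinj : ∀ (Z : Over S) (z z' : Z ⟶ Red.DS S ((Fin r → ℤ) ⧸ K)),
      z ≫ i = z' ≫ i → z = z' := by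
    intro Z z z' h
    have h3 : (z ≫ i) ≫ a = (z' ≫ i) ≫ a := by rw [h]
    rw [hidef] at h3
    simp only [Category.assoc, h2, Category.comp_id] at h3
    exact comp_DSmap_injective (QuotientAddGroup.mk' K) (QuotientAddGroup.mk'_surjective K) Z z z' h3
  have hpb' := isPullback_of_kernel_on_points i q' huv hex hinj
  -- `q'` is an fpqc covering
  haveI : IsIso a := ⟨⟨ainv, h1, h2⟩⟩
  haveI : IsIso a.left := (isIso_left_iff a).mpr inferInstance
  have hq'L : q'.left = a.left ≫ (Red.DSmap S κ).left := by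
    rw [hq'def]
    rfl
  have hPD := P_DSmap S κ hκinj
  haveI : Flat q'.left := by
    rw [hq'L]
    exact (MorphismProperty.cancel_left_of_respectsIso (@Flat : MorphismProperty Scheme.{u})
      a.left _).mpr hPD.1
  haveI : Surjective q'.left := by
    rw [hq'L]
    exact (MorphismProperty.cancel_left_of_respectsIso (@Surjective : MorphismProperty Scheme.{u})
      a.left _).mpr hPD.2
  haveI : QuasiCompact q'.left := by
    rw [hq'L]
    exact (MorphismProperty.cancel_left_of_respectsIso (@QuasiCompact : MorphismProperty Scheme.{u})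
      a.left _).mpr (qc_DSmap S κ)
  haveI : EffectiveEpi q'.left := inferInstance
  have hw : fst T (Red.DS S ((Fin r → ℤ) ⧸ K)) ≫ lam =
      ((T ◁ i) ≫ μ[T]) ≫ lam := by
    have h3 := act_pt i (𝟙 (T ⊗ Red.DS S ((Fin r → ℤ) ⧸ K)))
    rw [Category.id_comp, Category.id_comp, Category.id_comp] at h3
    rw [h3, MonObj.mul_comp, Category.assoc, hilam, MonObj.comp_one, _root_.mul_one]
  obtain ⟨lam', hlam'⟩ := quot_map i q' lam hpb' hw
  -- `lam'` is a homomorphism
  haveI : Epi q'.left := inferInstance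
  haveI : Epi q' := Over.epi_of_epi_left q'
  have hepi : Epi (q' ⊗ₘ q') := epi_tensorHom_fpqc q' q'
  have hone : η[Red.DS S (Fin r' → ℤ)] ≫ lam' = η[G] := by
    rw [← IsMonHom.one_hom q', Category.assoc, hlam', IsMonHom.one_hom lam]
  have hmul : μ[Red.DS S (Fin r' → ℤ)] ≫ lam' = (lam' ⊗ₘ lam') ≫ μ[G] := by
    haveI := hepi
    apply (cancel_epi (q' ⊗ₘ q')).mp
    calc (q' ⊗ₘ q') ≫ μ[Red.DS S (Fin r' → ℤ)] ≫ lam' = (μ[T] ≫ q') ≫ lam' := by
          rw [IsMonHom.mul_hom q', Category.assoc]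
      _ = μ[T] ≫ lam := by rw [Category.assoc, hlam']
      _ = (lam ⊗ₘ lam) ≫ μ[G] := IsMonHom.mul_hom lam
      _ = ((q' ≫ lam') ⊗ₘ (q' ≫ lam')) ≫ μ[G] := by rw [hlam']
      _ = (q' ⊗ₘ q') ≫ (lam' ⊗ₘ lam') ≫ μ[G] := by
          rw [← MonoidalCategory.tensorHom_comp_tensorHom, Category.assoc]
  haveI hlam'mon : IsMonHom lam' := ⟨hone, hmul⟩
  -- `lam'` is a monomorphism
  haveI hmonoP : (MorphismProperty.monomorphisms Scheme.{u}).DescendsAlong
      (@Surjective ⊓ @Flat ⊓ @QuasiCompact : MorphismProperty Scheme.{u}) := by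
    rw [← MorphismProperty.diagonal_isomorphisms]
    infer_instance
  have hfg' : AddGroup.FG (Fin r' → ℤ) := Module.Finite.iff_addGroup_fg.mp inferInstance
  obtain ⟨U, hUc, hUmem, hUP⟩ := main5274 (Red.DS S (Fin r' → ℤ)) G
    (isMultTypeFT_DS S _ hfg') hG lam'
  have hmono0 : ∀ x₀ : X,
      Mono ((Over.pullback (S.fromSpecResidueField (F.base x₀))).map lam').left := by
    intro x₀
    have hinjOn : InjOn lam' (X.fromSpecResidueField x₀ ≫ F) := by
      intro T'' y y' hyy
      have hyy' : y ≫ lam' = y' ≫ lam' := hyy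
      have hker : ∀ w : (Over.map (X.fromSpecResidueField x₀ ≫ F)).obj T'' ⟶
          Red.DS S (Fin r' → ℤ), w ≫ lam' = 1 → w = 1 := by
        intro w hw1
        obtain ⟨c, hc⟩ : ∃ c : pullback w.left q'.left ⟶ T''.left,
            c = pullback.fst w.left q'.left := ⟨_, rfl⟩
        haveI : Flat c := by
          rw [hc]
          infer_instance
        haveI : Surjective c := by
          rw [hc]
          infer_instance
        haveI : QuasiCompact c := by
          rw [hc]
          infer_instance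
        haveI : EffectiveEpi c := inferInstance
        haveI : Epi c := inferInstance
        obtain ⟨cc, hcc⟩ : ∃ cc : Over.mk (c ≫ T''.hom) ⟶ T'', cc.left = c :=
          ⟨Over.homMk c rfl, rfl⟩
        have e1 : q'.left ≫ (Red.DS S (Fin r' → ℤ)).hom = T.hom := Over.w q'
        have e2 : w.left ≫ (Red.DS S (Fin r' → ℤ)).hom =
            T''.hom ≫ (X.fromSpecResidueField x₀ ≫ F) := Over.w w
        obtain ⟨yt, hyt⟩ : ∃ yt : (Over.map (X.fromSpecResidueField x₀ ≫ F)).obj
            (Over.mk (c ≫ T''.hom)) ⟶ T, yt.left = pullback.snd w.left q'.left :=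
          ⟨Over.homMk (pullback.snd w.left q'.left) (by
            show pullback.snd w.left q'.left ≫ T.hom =
              (c ≫ T''.hom) ≫ (X.fromSpecResidueField x₀ ≫ F)
            calc pullback.snd w.left q'.left ≫ T.hom
                = pullback.snd w.left q'.left ≫ (q'.left ≫ (Red.DS S (Fin r' → ℤ)).hom) := by
                  rw [e1]
              _ = (pullback.snd w.left q'.left ≫ q'.left) ≫ (Red.DS S (Fin r' → ℤ)).hom :=
                  (Category.assoc _ _ _).symm
              _ = (pullback.fst w.left q'.left ≫ w.left) ≫ (Red.DS S (Fin r' → ℤ)).hom := by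
                  rw [pullback.condition]
              _ = pullback.fst w.left q'.left ≫ (w.left ≫ (Red.DS S (Fin r' → ℤ)).hom) :=
                  Category.assoc _ _ _
              _ = pullback.fst w.left q'.left ≫ (T''.hom ≫ (X.fromSpecResidueField x₀ ≫ F)) := by
                  rw [e2]
              _ = (c ≫ T''.hom) ≫ (X.fromSpecResidueField x₀ ≫ F) := by
                  rw [hc, Category.assoc]), rfl⟩
        have hytq : yt ≫ q' = (Over.map (X.fromSpecResidueField x₀ ≫ F)).map cc ≫ w := by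
          apply Over.OverMorphism.ext
          show yt.left ≫ q'.left = cc.left ≫ w.left
          rw [hyt, hcc, hc]
          exact pullback.condition.symm
        have hytlam : yt ≫ lam = 1 := by
          rw [← hlam', ← Category.assoc, hytq, Category.assoc, hw1, MonObj.comp_one]
        have hk1 : ∀ k ∈ K, (yt ≫ a) ≫ Red.DSmap S (zmultiplesHom (Fin r → ℤ) k) = 1 := by
          intro k hk
          rw [← hKx x₀] at hk
          exact hQ4 x₀ (X.fromSpecResidueField x₀) (hz x₀) (Over.mk (c ≫ T''.hom)) yt hytlam k hk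
        have hytq1 : yt ≫ q' = 1 := by
          refine (congrArg (fun k => yt ≫ k) hq'def).trans ?_
          refine (Category.assoc _ _ _).symm.trans ?_
          apply chr_injective
          intro l
          rw [chr_DSmap, chr_one]
          have h3 := hk1 (κ l) (hκK l)
          have h4 : chr ((yt ≫ a) ≫ Red.DSmap S (zmultiplesHom (Fin r → ℤ) (κ l))) (1 : ℤ) = 1 := by
            rw [h3, chr_one]
          rw [chr_DSmap, zmultiplesHom_apply, one_zsmul] at h4
          exact h4
        have h5 : (Over.map (X.fromSpecResidueField x₀ ≫ F)).map cc ≫ w =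
            (Over.map (X.fromSpecResidueField x₀ ≫ F)).map cc ≫ 1 := by
          rw [← hytq, hytq1, MonObj.comp_one]
        haveI : Epi ((Over.map (X.fromSpecResidueField x₀ ≫ F)).map cc).left := by
          show Epi cc.left
          rw [hcc]
          infer_instance
        haveI : Epi ((Over.map (X.fromSpecResidueField x₀ ≫ F)).map cc) :=
          Over.epi_of_epi_left _
        exact (cancel_epi _).mp h5
      have h3 : (y * y'⁻¹) ≫ lam' = 1 := by
        rw [MonObj.mul_comp, GrpObj.inv_comp, hyy', _root_.mul_inv_cancel]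
      exact _root_.mul_inv_eq_one.mp (hker _ h3)
    have h3 : Mono ((Over.pullback (X.fromSpecResidueField x₀ ≫ F)).map lam') :=
      (mono_iff_injOn lam' _).mpr hinjOn
    have h4 : Mono ((Over.pullback (X.fromSpecResidueField x₀ ≫ F)).map lam').left :=
      (mono_left_iff _).mpr h3
    have h5 : (MorphismProperty.monomorphisms Scheme.{u})
        (bcL lam' (X.fromSpecResidueField x₀ ≫ F)) :=
      (MorphismProperty.monomorphisms.iff _).mpr h4
    have h6 := (P_field_iff (P := MorphismProperty.monomorphisms Scheme.{u}) lam' F x₀).mp h5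
    exact (MorphismProperty.monomorphisms.iff _).mp h6
  have hU : U = ⊤ := by
    apply top_unique
    intro s _
    obtain ⟨x₀, hx₀⟩ := hFsu.surj s
    have gen : ∀ t : S, F.base x₀ = t →
        Mono ((Over.pullback (S.fromSpecResidueField t)).map lam').left := by
      intro t ht
      subst ht
      exact hmono0 x₀
    have h3 : s ∈ (U : Set S) := (hUmem s).mpr (gen s hx₀)
    exact h3
  subst hU
  haveI : IsIso (⊤ : S.Opens).ι := inferInstanceAs (IsIso S.topIso.hom)
  haveI : IsIso (pullback.fst (Red.DS S (Fin r' → ℤ)).hom (⊤ : S.Opens).ι) := inferInstance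
  haveI : IsIso (pullback.fst G.hom (⊤ : S.Opens).ι) := inferInstance
  have e : lam'.left = inv (pullback.fst (Red.DS S (Fin r' → ℤ)).hom (⊤ : S.Opens).ι) ≫
      bcL lam' (⊤ : S.Opens).ι ≫ pullback.fst G.hom (⊤ : S.Opens).ι := by
    rw [bcL_fst, IsIso.inv_hom_id_assoc]
  haveI : Mono (bcL lam' (⊤ : S.Opens).ι) := hUP
  haveI : Mono lam'.left := by
    rw [e]
    infer_instance
  have hmono : Mono lam' := (mono_left_iff lam').mp inferInstance
  exact ⟨r', q', lam', hr', inferInstance, hlam'mon, hmono, hlam', inferInstance, inferInstance,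
    inferInstance⟩

/-! ### The local image at a point -/

theorem local_image {S : Scheme.{u}} {T G : Over S} [GrpObj T] [GrpObj G] (r : ℕ)
    (hT : Red.IsSplitTorusWith (Fin r → ℤ) T) (hG : SGA3x.IsMultTypeFT G)
    (lam : T ⟶ G) [IsMonHom lam] (s : S) :
    ∃ V : S.Opens, s ∈ V ∧ ∃ (r' : ℕ)
      (q' : Red.bc V.ι T ⟶ Red.DS (V : Scheme.{u}) (Fin r' → ℤ))
      (lam' : Red.DS (V : Scheme.{u}) (Fin r' → ℤ) ⟶ Red.bc V.ι G),
      IsMonHom q' ∧ IsMonHom lam' ∧ Mono lam' ∧ q' ≫ lam' = (Over.pullback V.ι).map lam ∧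
      Flat q'.left ∧ Surjective q'.left ∧ QuasiCompact q'.left := by
  obtain ⟨eT⟩ := hT
  obtain ⟨a, ainv, ha, hainv, h1, h2⟩ := Groth.Agent.Lib.DiagHom.iso_data eT
  haveI := ha
  haveI := hainv
  obtain ⟨β, hβ⟩ : ∃ β : ∀ K' : AddSubgroup (Fin r → ℤ), Red.DS S ((Fin r → ℤ) ⧸ K') ⟶ G,
      ∀ K', β K' = Red.DSmap S (QuotientAddGroup.mk' K') ≫ ainv ≫ lam := ⟨_, fun K' => rfl⟩
  obtain ⟨X, F, hFfl, hFsu, hcov, hch⟩ := img_charts a ainv h1 h2 hG lam
  haveI := hFfl
  haveI := hFsu
  choose O Kx hxO hQ1 hQ2 hQ4 using hch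
  have hz : ∀ (x x' : X), x' ∈ O x → ∀ t, (X.fromSpecResidueField x').base t ∈ O x := by
    intro x x' hx' t
    have h3 : (X.fromSpecResidueField x').base t ∈ ({x'} : Set X) := by
      rw [← Scheme.range_fromSpecResidueField]
      exact ⟨t, rfl⟩
    rw [Set.mem_singleton_iff.mp h3]
    exact hx'
  have key : ∀ (x x' : X) (K' : AddSubgroup (Fin r → ℤ)), x' ∈ O x →
      ((Over.pullback (S.fromSpecResidueField (F.base x'))).map (β K') = 1 ↔ Kx x ≤ K') := by
    intro x x' K' hx'
    rw [← field_pt_desc (β K') F x', hβ]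
    constructor
    · intro h
      exact hQ2 x K' (X.residueField x') (X.fromSpecResidueField x') (hz x x' hx') h
    · intro hle
      exact hQ1 x K' hle (X.fromSpecResidueField x') (hz x x' hx')
  have htr : ∀ (K' : AddSubgroup (Fin r → ℤ)) (t s' : S), t = s' →
      ((Over.pullback (S.fromSpecResidueField t)).map (β K') = 1 ↔
        (Over.pullback (S.fromSpecResidueField s')).map (β K') = 1) := by
    intro K' t s' h
    subst h
    exact Iff.rfl
  obtain ⟨x₀, hx₀⟩ := hFsu.surj s
  obtain ⟨K, hKdef⟩ : ∃ K : AddSubgroup (Fin r → ℤ), K = Kx x₀ := ⟨_, rfl⟩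
  obtain ⟨Vset, hVset⟩ : ∃ Vset : Set S, ∀ v, v ∈ Vset ↔
      ∀ K' : AddSubgroup (Fin r → ℤ),
        ((Over.pullback (S.fromSpecResidueField v)).map (β K') = 1 ↔ K ≤ K') :=
    ⟨{v | ∀ K' : AddSubgroup (Fin r → ℤ),
      ((Over.pullback (S.fromSpecResidueField v)).map (β K') = 1 ↔ K ≤ K')}, fun v => Iff.rfl⟩
  have hopen : IsOpen (F.base ⁻¹' Vset) := by
    rw [isOpen_iff_forall_mem_open]
    intro x hx
    refine ⟨(O x : Set X), ?_, (O x).isOpen, hxO x⟩
    intro x' hx'
    have hx1 : F.base x ∈ Vset := hx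
    have hgoal : F.base x' ∈ Vset := by
      rw [hVset] at hx1 ⊢
      intro K'
      exact (key x x' K' hx').trans ((key x x K' (hxO x)).symm.trans (hx1 K'))
    exact hgoal
  have hVopen : IsOpen Vset := isOpen_of_cov F hcov Vset hopen
  have hsV : s ∈ Vset := by
    rw [hVset]
    intro K'
    have h3 := key x₀ x₀ K' (hxO x₀)
    rw [hKdef]
    exact (htr K' _ s hx₀).symm.trans h3
  obtain ⟨V, hVmem⟩ : ∃ V : S.Opens, ∀ v, v ∈ V ↔ v ∈ Vset :=
    ⟨⟨Vset, hVopen⟩, fun v => Iff.rfl⟩
  refine ⟨V, (hVmem s).mpr hsV, ?_⟩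
  -- base change to `V`
  have hGV := isMultTypeFT_bc_open hG V
  obtain ⟨pTV, hpTV, hpTVof⟩ : ∃ pTV : PtIso T V.ι (Fin r → ℤ),
      (∀ (T'' : Over (V : Scheme.{u})) (x : (Over.map V.ι).obj T'' ⟶ T),
        pTV.toD T'' x = trDown V.ι (x ≫ a)) ∧
      (∀ (T'' : Over (V : Scheme.{u})) (d : T'' ⟶ Red.DS (V : Scheme.{u}) (Fin r → ℤ)),
        pTV.ofD T'' d = trUp V.ι d ≫ ainv) :=
    ⟨ptOfIso a ainv h1 h2 V.ι, fun T'' x => rfl, fun T'' d => rfl⟩
  obtain ⟨aV, aVinv, haV, haVinv, hV1, hV2, hVf⟩ := split_of_ptIso V.ι pTV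
  haveI := haV
  haveI := haVinv
  have hVinv : ∀ (Y : Over (V : Scheme.{u})) (d : Y ⟶ Red.DS (V : Scheme.{u}) (Fin r → ℤ)),
      chk V.ι (d ≫ aVinv) = trUp V.ι d ≫ ainv := by
    intro Y d
    have h3 := hVf Y (d ≫ aVinv)
    rw [Category.assoc, hV2, Category.comp_id] at h3
    have h4 := congrArg (pTV.ofD Y) h3
    rw [pTV.of_to, hpTVof] at h4
    exact h4.symm
  obtain ⟨lamV, hlamV⟩ : ∃ lamV : Red.bc V.ι T ⟶ Red.bc V.ι G,
      lamV = (Over.pullback V.ι).map lam := ⟨_, rfl⟩
  haveI : IsMonHom lamV := by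
    rw [hlamV]
    infer_instance
  obtain ⟨r', q', lam', hr', hq', hlam', hmono, hfac, hfl, hsu, hqc⟩ :=
    image_const r aV aVinv hV1 hV2 hGV lamV K (by
      intro K' v
      obtain ⟨βV, hβV⟩ : ∃ βV : Red.DS (V : Scheme.{u}) ((Fin r → ℤ) ⧸ K') ⟶ Red.bc V.ι G,
          βV = Red.DSmap (V : Scheme.{u}) (QuotientAddGroup.mk' K') ≫ aVinv ≫ lamV := ⟨_, rfl⟩
      rw [← hβV]
      have hpt : ∀ (Y : Over (V : Scheme.{u}))
          (y : Y ⟶ Red.DS (V : Scheme.{u}) ((Fin r → ℤ) ⧸ K')),
          chk V.ι (y ≫ βV) = trUp V.ι y ≫ β K' := by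
        intro Y y
        calc chk V.ι (y ≫ βV)
            = chk V.ι (((y ≫ Red.DSmap (V : Scheme.{u}) (QuotientAddGroup.mk' K')) ≫ aVinv) ≫
                (Over.pullback V.ι).map lam) := by
              rw [hβV, hlamV]
              simp only [Category.assoc]
          _ = chk V.ι ((y ≫ Red.DSmap (V : Scheme.{u}) (QuotientAddGroup.mk' K')) ≫ aVinv) ≫
                lam := chk_postcomp V.ι lam _
          _ = (trUp V.ι (y ≫ Red.DSmap (V : Scheme.{u}) (QuotientAddGroup.mk' K')) ≫ ainv) ≫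
                lam := by rw [hVinv]
          _ = ((trUp V.ι y ≫ Red.DSmap S (QuotientAddGroup.mk' K')) ≫ ainv) ≫ lam := by
              rw [trUp_DSmap]
          _ = trUp V.ι y ≫ β K' := by
              rw [hβ]
              simp only [Category.assoc]
      have hcompat : ∀ {Z : Scheme.{u}} (z : Z ⟶ (V : Scheme.{u})),
          (Over.pullback z).map βV = 1 ↔ (Over.pullback (z ≫ V.ι)).map (β K') = 1 := by
        intro Z z
        rw [triv_iff_pts, triv_iff_pts]
        constructor
        · intro h T'' x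
          have h3 := h T'' (trDown V.ι (sig V.ι z T'' ≫ x))
          have h4 : chk V.ι (trDown V.ι (sig V.ι z T'' ≫ x) ≫ βV) = 1 := by
            rw [h3]
            exact chk_one' V.ι _
          rw [hpt, trUp_trDown] at h4
          calc x ≫ β K' = tau V.ι z T'' ≫ (sig V.ι z T'' ≫ x) ≫ β K' := by
                rw [Category.assoc, ← Category.assoc (tau V.ι z T''), tau_sig, Category.id_comp]
            _ = 1 := by rw [h4, MonObj.comp_one]
        · intro h T'' y
          have h3 := h T'' (tau V.ι z T'' ≫ trUp V.ι y)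
          have h4 : trUp V.ι y ≫ β K' = 1 := by
            calc trUp V.ι y ≫ β K'
                = sig V.ι z T'' ≫ (tau V.ι z T'' ≫ trUp V.ι y) ≫ β K' := by
                  rw [Category.assoc, ← Category.assoc (sig V.ι z T''), sig_tau,
                    Category.id_comp]
              _ = 1 := by rw [h3, MonObj.comp_one]
          have h5 : chk V.ι (y ≫ βV) =
              chk V.ι (1 : (Over.map z).obj T'' ⟶ Red.bc V.ι G) := by
            rw [hpt, h4]
            exact (chk_one' V.ι _).symm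
          have h6 := congrArg (fun w => unchk V.ι w) h5
          simp only [unchk_chk] at h6
          exact h6
      have hv : V.ι.base v ∈ Vset := (hVmem _).mp v.2
      exact (hcompat ((V : Scheme.{u}).fromSpecResidueField v)).trans
        ((field_pt_desc (β K') V.ι v).trans ((hVset _).mp hv K')))
  exact ⟨r', q', lam', hq', hlam', hmono, by rw [hfac, hlamV], hfl, hsu, hqc⟩

end Groth.Agent.Lib.TorusQuotH4
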