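import Mathlib
import Groth.Prelude
import Groth.Agent.Lib.TorusImg1_helper4


/-!
# Zariski-locally split tori over an irreducible base: rigidity of charts (helper4)
-/

set_option backward.isDefEq.respectTransparency.types false
set_option autoImplicit false
set_option linter.unusedVariables false
set_option linter.unusedTactic false
set_option linter.unreachableTactic false
set_option linter.unusedSectionVars false
set_option linter.style.haveILetI false
set_option linter.deprecated false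
set_option linter.unusedSimpArgs false
set_option linter.style.longLine false
set_option maxHeartbeats 1600000

universe u

open CategoryTheory CategoryTheory.Limits MonoidalCategory CartesianMonoidalCategory MonObj GrpObj
  AlgebraicGeometry Opposite

namespace Groth.Agent.Lib.TorusQuotH4

open Groth.Agent.Lib.RedDictH8 Groth.Agent.Lib.DSDict Groth.Agent.Lib.MultGa
  Groth.Agent.Lib.MultTrivH4 Groth.Agent.Lib.ConnActH4 Groth.Agent.Lib.TwConstFinH4
  Groth.Agent.Lib.MTHomH4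

/-! ### Twisting a chart by an automorphism of the character lattice -/

section Twist

variable {S W : Scheme.{u}} {X : Over S} [GrpObj X] {jW : W ⟶ S} {M M' : Type}
  [AddCommGroup M] [AddCommGroup M']

/-- the chart `e` followed by the isomorphism `D(M) ≅ D(M')` induced by `φ`. -/
noncomputable def ptTwist (e : PtIso X jW M) (φ : M' →+ M) (ψ : M →+ M')
    (h1 : φ.comp ψ = AddMonoidHom.id M) (h2 : ψ.comp φ = AddMonoidHom.id M') :
    PtIso X jW M' where
  toD := fun T'' x => e.toD T'' x ≫ Red.DSmap W φ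
  ofD := fun T'' d => e.ofD T'' (d ≫ Red.DSmap W ψ)
  of_to := by
    intro T'' x
    show e.ofD T'' ((e.toD T'' x ≫ Red.DSmap W φ) ≫ Red.DSmap W ψ) = x
    rw [Category.assoc, Groth.Agent.Lib.DiagHom.DSmap_comp, h1,
      Groth.Agent.Lib.DiagHom.DSmap_id, Category.comp_id, e.of_to]
  to_of := by
    intro T'' d
    show e.toD T'' (e.ofD T'' (d ≫ Red.DSmap W ψ)) ≫ Red.DSmap W φ = d
    rw [e.to_of, Category.assoc, Groth.Agent.Lib.DiagHom.DSmap_comp, h2,
      Groth.Agent.Lib.DiagHom.DSmap_id, Category.comp_id]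
  to_mul := by
    intro T'' x y
    show e.toD T'' (x * y) ≫ Red.DSmap W φ =
      (e.toD T'' x ≫ Red.DSmap W φ) * (e.toD T'' y ≫ Red.DSmap W φ)
    rw [e.to_mul, MonObj.mul_comp]
  to_nat := by
    intro T''' T'' c x
    show e.toD T''' ((Over.map jW).map c ≫ x) ≫ Red.DSmap W φ =
      c ≫ e.toD T'' x ≫ Red.DSmap W φ
    rw [e.to_nat, Category.assoc]

/-- transport of a chart along an equality of structure morphisms. -/
noncomputable def ptCast {jW' : W ⟶ S} (e : PtIso X jW M) (h : jW = jW') : PtIso X jW' M :=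
  h ▸ e

end Twist

/-! ### The characters of a point read in a chart -/

section Chi

variable {S B : Scheme.{u}} {X : Over S} [GrpObj X] {jj : B ⟶ S} {M : Type} [AddCommGroup M]

/-- the characters of the point `x` of `X` read through the chart `P`. -/
noncomputable def chi (P : PtIso X jj M) {Z : Scheme.{u}} (α : Z ⟶ B) (x : Z ⟶ X.left)
    (hx : x ≫ X.hom = α ≫ jj) (m : M) : Γ(Z, ⊤) :=
  chr (P.toD (Over.mk α) (Over.homMk x hx)) m

theorem chi_congr (P : PtIso X jj M) {Z : Scheme.{u}} {α α' : Z ⟶ B} {x x' : Z ⟶ X.left}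
    (hα : α = α') (hxx : x = x') (hx : x ≫ X.hom = α ≫ jj) (hx' : x' ≫ X.hom = α' ≫ jj)
    (m : M) : chi P α x hx m = chi P α' x' hx' m := by
  subst hα
  subst hxx
  rfl

theorem chi_nat (P : PtIso X jj M) {Z Z' : Scheme.{u}} (c : Z' ⟶ Z) (α : Z ⟶ B)
    (x : Z ⟶ X.left) (hx : x ≫ X.hom = α ≫ jj) (hx' : (c ≫ x) ≫ X.hom = (c ≫ α) ≫ jj)
    (m : M) : chi P (c ≫ α) (c ≫ x) hx' m = c.appTop (chi P α x hx m) := by
  obtain ⟨c', hc'⟩ : ∃ c' : Over.mk (c ≫ α) ⟶ Over.mk α, c'.left = c :=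
    ⟨Over.homMk c rfl, rfl⟩
  have e1 : (Over.map jj).map c' ≫ Over.homMk x hx = Over.homMk (c ≫ x) hx' := by
    apply Over.OverMorphism.ext
    show c'.left ≫ x = c ≫ x
    rw [hc']
  have e2 := P.to_nat (Over.mk (c ≫ α)) (Over.mk α) c' (Over.homMk x hx)
  rw [e1] at e2
  unfold chi
  rw [e2, chr_comp, hc']

theorem chi_eq (P : PtIso X jj M) (T' : Over B) (x : (Over.map jj).obj T' ⟶ X) (m : M) :
    chr (P.toD T' x) m = chi P T'.hom x.left (Over.w x) m := by
  obtain ⟨l, ⟨⟨⟩⟩, h⟩ := T'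
  have e1 : x = Over.homMk x.left (Over.w x) := by
    apply Over.OverMorphism.ext
    rfl
  exact congrArg (fun y => chr (P.toD _ y) m) e1

theorem chi_twist {M' : Type} [AddCommGroup M'] (P : PtIso X jj M) (φ : M' →+ M) (ψ : M →+ M')
    (h1 : φ.comp ψ = AddMonoidHom.id M) (h2 : ψ.comp φ = AddMonoidHom.id M')
    {Z : Scheme.{u}} (α : Z ⟶ B) (x : Z ⟶ X.left) (hx : x ≫ X.hom = α ≫ jj) (m : M') :
    chi (ptTwist P φ ψ h1 h2) α x hx m = chi P α x hx (φ m) :=
  chr_DSmap φ (P.toD (Over.mk α) (Over.homMk x hx)) m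

theorem chi_ptCast {jj' : B ⟶ S} (P : PtIso X jj M) (h : jj = jj') {Z : Scheme.{u}}
    (α : Z ⟶ B) (x : Z ⟶ X.left) (hx : x ≫ X.hom = α ≫ jj') (hx' : x ≫ X.hom = α ≫ jj)
    (m : M) : chi (ptCast P h) α x hx m = chi P α x hx' m := by
  subst h
  rfl

theorem chi_restrict (P : PtIso X jj M) {W : Scheme.{u}} (ρ : W ⟶ B) {Z : Scheme.{u}}
    (gm : Z ⟶ W) (x : Z ⟶ X.left) (hx : x ≫ X.hom = gm ≫ ρ ≫ jj)
    (hx' : x ≫ X.hom = (gm ≫ ρ) ≫ jj) (m : M) :
    chi (ptRestrict jj P ρ) gm x hx m = chi P (gm ≫ ρ) x hx' m := by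
  have e1 : (ptRestrict jj P ρ).toD (Over.mk gm) (Over.homMk x hx) =
      trDown ρ (P.toD ((Over.map ρ).obj (Over.mk gm))
        (sig jj ρ (Over.mk gm) ≫ Over.homMk x hx)) := rfl
  have e2 : sig jj ρ (Over.mk gm) ≫ Over.homMk x hx =
      (Over.homMk x hx' : (Over.map jj).obj ((Over.map ρ).obj (Over.mk gm)) ⟶ X) := by
    apply Over.OverMorphism.ext
    exact Category.id_comp _
  unfold chi
  rw [e1, e2]
  exact chr_trDown ρ _ m

/-- two charts (over possibly different bases) read every point in the same way. -/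
def Agree {B' : Scheme.{u}} {jj' : B' ⟶ S} (P : PtIso X jj M) (P' : PtIso X jj' M) : Prop :=
  ∀ {Z : Scheme.{u}} (α : Z ⟶ B) (β : Z ⟶ B') (x : Z ⟶ X.left) (hx : x ≫ X.hom = α ≫ jj)
    (hx' : x ≫ X.hom = β ≫ jj') (m : M), chi P α x hx m = chi P' β x hx' m

end Chi

/-! ### Rigidity of charts over an irreducible base -/

theorem phi_unique {B : Scheme.{u}} {M N : Type} [AddCommGroup M] [AddCommGroup N]
    (F : Type u) [Field F] (z : Spec (CommRingCat.of F) ⟶ B) (φ φ' : N →+ M)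
    (h : ∀ (C : Type u) [CommRing C] [Algebra F C] (d : TB z C ⟶ Red.DS B M),
      d ≫ Red.DSmap B φ = d ≫ Red.DSmap B φ') : φ = φ' := by
  ext n
  have h0 := h (MonoidAlgebra F (Multiplicative M))
    (pt z (MonoidAlgebra.of F (Multiplicative M)))
  have h1 : chr (pt z (MonoidAlgebra.of F (Multiplicative M))) (φ n) =
      chr (pt z (MonoidAlgebra.of F (Multiplicative M))) (φ' n) := by
    rw [← chr_DSmap φ, ← chr_DSmap φ', h0]
  rw [chr_pt, chr_pt] at h1
  have h2 := congrArg (fun w =>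
    (Scheme.ΓSpecIso (CommRingCat.of (MonoidAlgebra F (Multiplicative M)))).hom w) h1
  have e1 := Iso.inv_hom_id_apply
    (Scheme.ΓSpecIso (CommRingCat.of (MonoidAlgebra F (Multiplicative M))))
    (MonoidAlgebra.of F (Multiplicative M) (Multiplicative.ofAdd (φ n)))
  have e2 := Iso.inv_hom_id_apply
    (Scheme.ΓSpecIso (CommRingCat.of (MonoidAlgebra F (Multiplicative M))))
    (MonoidAlgebra.of F (Multiplicative M) (Multiplicative.ofAdd (φ' n)))
  have h3 : MonoidAlgebra.of F (Multiplicative M) (Multiplicative.ofAdd (φ n)) =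
      MonoidAlgebra.of F (Multiplicative M) (Multiplicative.ofAdd (φ' n)) :=
    e1.symm.trans (h2.trans e2)
  exact Multiplicative.ofAdd.injective (MonoidAlgebra.of_injective h3)

theorem mem_of_residue_pt {B : Scheme.{u}} (c : B) (W' : B.Opens) (hc : c ∈ W') (t) :
    (B.fromSpecResidueField c).base t ∈ W' := by
  have h3 : (B.fromSpecResidueField c).base t ∈ ({c} : Set B) := by
    rw [← Scheme.range_fromSpecResidueField]
    exact ⟨t, rfl⟩
  rw [Set.mem_singleton_iff.mp h3]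
  exact hc

theorem agree_local {S B : Scheme.{u}} {X : Over S} [GrpObj X] (jj : B ⟶ S) {M M' : Type}
    [AddCommGroup M] [AddCommGroup M'] (e : PtIso X jj M) (e' : PtIso X jj M')
    (hM' : AddGroup.FG M') (b : B) :
    ∃ (W₀ : B.Opens) (φ : M' →+ M), b ∈ W₀ ∧
      ∀ (T' : Over B), (∀ z : T'.left, T'.hom.base z ∈ W₀) →
        ∀ x : (Over.map jj).obj T' ⟶ X, e'.toD T' x = e.toD T' x ≫ Red.DSmap B φ := by
  obtain ⟨W₀, φ, hb, hloc⟩ := local_const (nuOf (𝟙 X) jj e e') (nuOf_nat (𝟙 X) jj e e')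
    (nuOf_hom (𝟙 X) jj e e') hM' b
  refine ⟨W₀, φ, hb, ?_⟩
  intro T' hT' x
  have h1 := hloc T' hT' (e.toD T' x)
  have h2 : nuOf (𝟙 X) jj e e' T' (e.toD T' x) =
      e'.toD T' (e.ofD T' (e.toD T' x) ≫ 𝟙 X) := rfl
  rw [h2, e.of_to, Category.comp_id] at h1
  exact h1

theorem agree_of_dense {S B : Scheme.{u}} [IrreducibleSpace ↥B] {X : Over S} [GrpObj X]
    (jj : B ⟶ S) {M : Type} [AddCommGroup M] (hM : AddGroup.FG M) (e e' : PtIso X jj M)
    (W₁ : B.Opens) (hW₁ : (W₁ : Set B).Nonempty)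
    (hag : ∀ (T' : Over B), (∀ z : T'.left, T'.hom.base z ∈ W₁) →
      ∀ x : (Over.map jj).obj T' ⟶ X, e'.toD T' x = e.toD T' x)
    (T' : Over B) (x : (Over.map jj).obj T' ⟶ X) : e'.toD T' x = e.toD T' x := by
  apply Over.OverMorphism.ext
  apply hom_ext_of_flat_cover
  intro z
  obtain ⟨W₀, φ, hb, hloc⟩ := agree_local jj e e' hM (T'.hom.base z)
  obtain ⟨c, hc0, hc1⟩ : ∃ c : B, c ∈ W₀ ∧ c ∈ W₁ := by
    obtain ⟨c, hc⟩ := nonempty_preirreducible_inter W₀.isOpen W₁.isOpen ⟨_, hb⟩ hW₁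
    exact ⟨c, hc.1, hc.2⟩
  have hφ_aux : ∀ (F : Type u) [Field F] (zc : Spec (CommRingCat.of F) ⟶ B),
      (∀ t, zc.base t ∈ W₀) → (∀ t, zc.base t ∈ W₁) → φ = AddMonoidHom.id M := by
    intro F _ zc hz0 hz1
    apply phi_unique F zc
    intro C _ _ d
    have h4 := hloc (TB zc C) (fun t => hz0 _) (e.ofD _ d)
    have h5 := hag (TB zc C) (fun t => hz1 _) (e.ofD _ d)
    rw [h5, e.to_of] at h4
    rw [← h4, Groth.Agent.Lib.DiagHom.DSmap_id, Category.comp_id]
  have hφ : φ = AddMonoidHom.id M :=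
    hφ_aux (B.residueField c) (B.fromSpecResidueField c) (mem_of_residue_pt c W₀ hc0)
      (mem_of_residue_pt c W₁ hc1)
  obtain ⟨c', hc'⟩ : ∃ c' : Over.mk ((T'.hom ⁻¹ᵁ W₀).ι ≫ T'.hom) ⟶ T',
      c'.left = (T'.hom ⁻¹ᵁ W₀).ι := ⟨Over.homMk (T'.hom ⁻¹ᵁ W₀).ι rfl, rfl⟩
  have hQW : ∀ t : (Over.mk ((T'.hom ⁻¹ᵁ W₀).ι ≫ T'.hom)).left,
      (Over.mk ((T'.hom ⁻¹ᵁ W₀).ι ≫ T'.hom)).hom.base t ∈ W₀ := by
    intro t
    exact ι_mem' (T'.hom ⁻¹ᵁ W₀) t
  refine ⟨((T'.hom ⁻¹ᵁ W₀ : T'.left.Opens) : Scheme.{u}), (T'.hom ⁻¹ᵁ W₀).ι, inferInstance,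
    ⟨⟨z, hb⟩, rfl⟩, ?_⟩
  have h7 := hloc _ hQW ((Over.map jj).map c' ≫ x)
  rw [hφ, Groth.Agent.Lib.DiagHom.DSmap_id, Category.comp_id, e'.to_nat, e.to_nat] at h7
  have h8 : c'.left ≫ (e'.toD T' x).left = c'.left ≫ (e.toD T' x).left :=
    congrArg (fun k => k.left) h7
  rw [hc'] at h8
  exact h8

theorem exists_twist {S B : Scheme.{u}} [IrreducibleSpace ↥B] {X : Over S} [GrpObj X]
    (jj : B ⟶ S) {M M' : Type} [AddCommGroup M] [AddCommGroup M'] (hM : AddGroup.FG M)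
    (hM' : AddGroup.FG M') (e : PtIso X jj M) (e' : PtIso X jj M') :
    ∃ (φ : M' →+ M) (ψ : M →+ M') (h1 : φ.comp ψ = AddMonoidHom.id M)
      (h2 : ψ.comp φ = AddMonoidHom.id M'),
      ∀ (T' : Over B) (x : (Over.map jj).obj T' ⟶ X),
        e'.toD T' x = (ptTwist e φ ψ h1 h2).toD T' x := by
  obtain ⟨b₀⟩ : Nonempty ↥B := inferInstance
  obtain ⟨W₀, φ, hb, hloc⟩ := agree_local jj e e' hM' b₀
  obtain ⟨W₀', ψ, hb', hloc'⟩ := agree_local jj e' e hM b₀
  have h1_aux : ∀ (F : Type u) [Field F] (zc : Spec (CommRingCat.of F) ⟶ B),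
      (∀ t, zc.base t ∈ W₀) → (∀ t, zc.base t ∈ W₀') →
      φ.comp ψ = AddMonoidHom.id M ∧ ψ.comp φ = AddMonoidHom.id M' := by
    intro F _ zc hz0 hz1
    constructor
    · apply phi_unique F zc
      intro C _ _ d
      have h4 := hloc (TB zc C) (fun t => hz0 _) (e.ofD _ d)
      have h5 := hloc' (TB zc C) (fun t => hz1 _) (e.ofD _ d)
      rw [e.to_of] at h4 h5
      rw [h4, Category.assoc, Groth.Agent.Lib.DiagHom.DSmap_comp] at h5
      rw [← h5, Groth.Agent.Lib.DiagHom.DSmap_id, Category.comp_id]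
    · apply phi_unique F zc
      intro C _ _ d
      have h4 := hloc' (TB zc C) (fun t => hz1 _) (e'.ofD _ d)
      have h5 := hloc (TB zc C) (fun t => hz0 _) (e'.ofD _ d)
      rw [e'.to_of] at h4 h5
      rw [h4, Category.assoc, Groth.Agent.Lib.DiagHom.DSmap_comp] at h5
      rw [← h5, Groth.Agent.Lib.DiagHom.DSmap_id, Category.comp_id]
  obtain ⟨h1, h2⟩ := h1_aux (B.residueField b₀) (B.fromSpecResidueField b₀)
    (mem_of_residue_pt b₀ W₀ hb) (mem_of_residue_pt b₀ W₀' hb')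
  refine ⟨φ, ψ, h1, h2, ?_⟩
  intro T' x
  exact agree_of_dense jj hM' (ptTwist e φ ψ h1 h2) e' W₀ ⟨b₀, hb⟩
    (fun T'' hT'' y => hloc T'' hT'' y) T' x

end Groth.Agent.Lib.TorusQuotH4
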