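import Mathlib
import Groth.Prelude
import Groth.Agent.Lib.LocSplit1_helper4
import Groth.Agent.Lib.ConnIrr1_helper8


/-!
# Zariski-locally split tori over an irreducible base: gluing the charts (helper4)
-/

set_option backward.isDefEq.respectTransparency.types false
set_option autoImplicit false
set_option linter.unusedVariables false
set_option linter.unusedTactic false
set_option linter.unreachableTactic false
set_option linter.unusedSectionVars false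
set_option linter.style.haveILetI false
set_option linter.deprecated false
set_option linter.unusedSimpArgs false
set_option linter.style.longLine false
set_option maxHeartbeats 1600000

universe u

open CategoryTheory CategoryTheory.Limits MonoidalCategory CartesianMonoidalCategory MonObj GrpObj
  AlgebraicGeometry Opposite

namespace Groth.Agent.Lib.TorusQuotH4

open Groth.Agent.Lib.RedDictH8 Groth.Agent.Lib.DSDict Groth.Agent.Lib.MultGa
  Groth.Agent.Lib.MultTrivH4 Groth.Agent.Lib.ConnActH4 Groth.Agent.Lib.TwConstFinH4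
  Groth.Agent.Lib.MTHomH4

/-! ### Comparing charts over two opens of an irreducible base -/

section Compare

variable {S : Scheme.{u}} [IrreducibleSpace ↥S] {X : Over S} [GrpObj X]

theorem exists_lift_inf (U U' : S.Opens) {Z : Scheme.{u}} (α : Z ⟶ (U : Scheme.{u}))
    (β : Z ⟶ (U' : Scheme.{u})) (h : α ≫ U.ι = β ≫ U'.ι) :
    ∃ gm : Z ⟶ ((U ⊓ U' : S.Opens) : Scheme.{u}),
      gm ≫ S.homOfLE (inf_le_left : U ⊓ U' ≤ U) = α ∧
      gm ≫ S.homOfLE (inf_le_right : U ⊓ U' ≤ U') = β := by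
  have hrange : Set.range (α ≫ U.ι) ⊆ Set.range (U ⊓ U' : S.Opens).ι := by
    rintro _ ⟨z, rfl⟩
    rw [Scheme.Opens.range_ι]
    refine ⟨?_, ?_⟩
    · exact ι_mem' U (α.base z)
    · rw [h]
      exact ι_mem' U' (β.base z)
  obtain ⟨gm, hgm⟩ : ∃ gm : Z ⟶ ((U ⊓ U' : S.Opens) : Scheme.{u}),
      gm ≫ (U ⊓ U' : S.Opens).ι = α ≫ U.ι :=
    ⟨IsOpenImmersion.lift (U ⊓ U' : S.Opens).ι (α ≫ U.ι) hrange,
      IsOpenImmersion.lift_fac _ _ _⟩
  refine ⟨gm, ?_, ?_⟩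
  · apply (cancel_mono U.ι).mp
    rw [Category.assoc, Scheme.homOfLE_ι, hgm]
  · apply (cancel_mono U'.ι).mp
    rw [Category.assoc, Scheme.homOfLE_ι, hgm, h]

theorem norm_agree (U U' : S.Opens) (hne : ((U ⊓ U' : S.Opens) : Set S).Nonempty)
    {M M' : Type} [AddCommGroup M] [AddCommGroup M'] (hM : AddGroup.FG M)
    (hM' : AddGroup.FG M') (P : PtIso X U.ι M) (P' : PtIso X U'.ι M') :
    ∃ (φ : M' →+ M) (ψ : M →+ M') (h1 : φ.comp ψ = AddMonoidHom.id M)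
      (h2 : ψ.comp φ = AddMonoidHom.id M'), Agree (ptTwist P φ ψ h1 h2) P' := by
  obtain ⟨ρ, hρ⟩ : ∃ ρ : ((U ⊓ U' : S.Opens) : Scheme.{u}) ⟶ (U : Scheme.{u}),
      ρ = S.homOfLE (inf_le_left : U ⊓ U' ≤ U) := ⟨_, rfl⟩
  obtain ⟨ρ', hρ'⟩ : ∃ ρ' : ((U ⊓ U' : S.Opens) : Scheme.{u}) ⟶ (U' : Scheme.{u}),
      ρ' = S.homOfLE (inf_le_right : U ⊓ U' ≤ U') := ⟨_, rfl⟩
  have hρι : ρ ≫ U.ι = (U ⊓ U' : S.Opens).ι := by
    rw [hρ]
    exact Scheme.homOfLE_ι S _
  have hρι' : ρ' ≫ U'.ι = (U ⊓ U' : S.Opens).ι := by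
    rw [hρ']
    exact Scheme.homOfLE_ι S _
  haveI : Nonempty ↥((U ⊓ U' : S.Opens) : Scheme.{u}) := by
    obtain ⟨w, hw⟩ := hne
    exact ⟨⟨w, hw⟩⟩
  haveI : IrreducibleSpace ↥((U ⊓ U' : S.Opens) : Scheme.{u}) :=
    (U ⊓ U' : S.Opens).ι.isOpenEmbedding.irreducibleSpace
  have hjj : ρ' ≫ U'.ι = ρ ≫ U.ι := hρι'.trans hρι.symm
  obtain ⟨φ, ψ, h1, h2, hag⟩ := exists_twist (ρ ≫ U.ι) hM hM' (ptRestrict U.ι P ρ)
    (ptCast (ptRestrict U'.ι P' ρ') hjj)
  refine ⟨φ, ψ, h1, h2, ?_⟩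
  intro Z α β x hx hx' m
  obtain ⟨gm, hgm1, hgm2⟩ := exists_lift_inf U U' α β (hx.symm.trans hx')
  rw [← hρ] at hgm1
  rw [← hρ'] at hgm2
  have hxa : x ≫ X.hom = (gm ≫ ρ) ≫ U.ι := by rw [hgm1]; exact hx
  have hxb : x ≫ X.hom = gm ≫ ρ ≫ U.ι := by rw [← Category.assoc]; exact hxa
  have hxc : x ≫ X.hom = (gm ≫ ρ') ≫ U'.ι := by rw [hgm2]; exact hx'
  have hxd : x ≫ X.hom = gm ≫ ρ' ≫ U'.ι := by rw [← Category.assoc]; exact hxc
  have s1 : chi (ptTwist P φ ψ h1 h2) α x hx m = chi P α x hx (φ m) :=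
    chi_twist P φ ψ h1 h2 α x hx m
  have s2 : chi P α x hx (φ m) = chi P (gm ≫ ρ) x hxa (φ m) :=
    chi_congr P hgm1.symm rfl hx hxa (φ m)
  have s3 : chi (ptRestrict U.ι P ρ) gm x hxb (φ m) = chi P (gm ≫ ρ) x hxa (φ m) :=
    chi_restrict P ρ gm x hxb hxa (φ m)
  have s4 : chi (ptTwist (ptRestrict U.ι P ρ) φ ψ h1 h2) gm x hxb m =
      chi (ptRestrict U.ι P ρ) gm x hxb (φ m) :=
    chi_twist (ptRestrict U.ι P ρ) φ ψ h1 h2 gm x hxb m
  have s5 : chi (ptCast (ptRestrict U'.ι P' ρ') hjj) gm x hxb m =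
      chi (ptTwist (ptRestrict U.ι P ρ) φ ψ h1 h2) gm x hxb m :=
    congrArg (fun d => chr d m) (hag (Over.mk gm) (Over.homMk x hxb))
  have s6 : chi (ptCast (ptRestrict U'.ι P' ρ') hjj) gm x hxb m =
      chi (ptRestrict U'.ι P' ρ') gm x hxd m :=
    chi_ptCast (ptRestrict U'.ι P' ρ') hjj gm x hxb hxd m
  have s7 : chi (ptRestrict U'.ι P' ρ') gm x hxd m = chi P' (gm ≫ ρ') x hxc m :=
    chi_restrict P' ρ' gm x hxd hxc m
  have s8 : chi P' (gm ≫ ρ') x hxc m = chi P' β x hx' m :=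
    chi_congr P' hgm2 rfl hxc hx' m
  exact s1.trans (s2.trans (s3.symm.trans (s4.symm.trans (s5.symm.trans
    (s6.trans (s7.trans s8))))))

theorem agree_trans (U U' U₀ : S.Opens) (hne : ((U ⊓ U' ⊓ U₀ : S.Opens) : Set S).Nonempty)
    {M : Type} [AddCommGroup M] (hM : AddGroup.FG M) (P : PtIso X U.ι M) (P' : PtIso X U'.ι M)
    (P₀ : PtIso X U₀.ι M) (h : Agree P P₀) (h' : Agree P' P₀) : Agree P P' := by
  obtain ⟨c, hc⟩ := hne
  have hcU : c ∈ U := hc.1.1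
  have hcU' : c ∈ U' := hc.1.2
  have hcU₀ : c ∈ U₀ := hc.2
  obtain ⟨φ, ψ, h1, h2, hag⟩ := norm_agree U U' ⟨c, ⟨hcU, hcU'⟩⟩ hM hM P P'
  obtain ⟨cU, hcUdef⟩ : ∃ cU : ↥(U : Scheme.{u}), cU = ⟨c, hcU⟩ := ⟨_, rfl⟩
  have hφ_aux : ∀ (F : Type u) [Field F] (zc : Spec (CommRingCat.of F) ⟶ (U : Scheme.{u})),
      (∀ t, zc.base t = cU) → φ = AddMonoidHom.id M := by
    intro F _ zc hzc
    apply phi_unique F zc
    intro C _ _ d
    -- every point of the test scheme lies over `c`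
    have hpt : ∀ t : (TB zc C).left, ((TB zc C).hom ≫ U.ι).base t = c := by
      intro t
      have h4 : (TB zc C).hom.base t = cU := hzc _
      show U.ι.base ((TB zc C).hom.base t) = c
      rw [h4, hcUdef]
      rfl
    obtain ⟨β, hβ⟩ : ∃ β : (TB zc C).left ⟶ (U' : Scheme.{u}),
        β ≫ U'.ι = (TB zc C).hom ≫ U.ι :=
      ⟨IsOpenImmersion.lift U'.ι ((TB zc C).hom ≫ U.ι) (by
        rintro _ ⟨t, rfl⟩
        rw [Scheme.Opens.range_ι]
        show ((TB zc C).hom ≫ U.ι).base t ∈ U'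
        rw [hpt t]
        exact hcU'), IsOpenImmersion.lift_fac _ _ _⟩
    obtain ⟨β₀, hβ₀⟩ : ∃ β₀ : (TB zc C).left ⟶ (U₀ : Scheme.{u}),
        β₀ ≫ U₀.ι = (TB zc C).hom ≫ U.ι :=
      ⟨IsOpenImmersion.lift U₀.ι ((TB zc C).hom ≫ U.ι) (by
        rintro _ ⟨t, rfl⟩
        rw [Scheme.Opens.range_ι]
        show ((TB zc C).hom ≫ U.ι).base t ∈ U₀
        rw [hpt t]
        exact hcU₀), IsOpenImmersion.lift_fac _ _ _⟩
    obtain ⟨y, hy⟩ : ∃ y : (Over.map U.ι).obj (TB zc C) ⟶ X, y = P.ofD (TB zc C) d :=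
      ⟨_, rfl⟩
    have hyd : P.toD (TB zc C) y = d := by rw [hy, P.to_of]
    have hx' : y.left ≫ X.hom = β ≫ U'.ι := (Over.w y).trans hβ.symm
    have hx₀ : y.left ≫ X.hom = β₀ ≫ U₀.ι := (Over.w y).trans hβ₀.symm
    apply chr_injective
    intro m
    have s1 : chr (d ≫ Red.DSmap (U : Scheme.{u}) φ) m = chr d (φ m) := chr_DSmap φ d m
    have s2 : chr d (φ m) = chi P (TB zc C).hom y.left (Over.w y) (φ m) := by
      rw [← hyd]
      exact chi_eq P (TB zc C) y (φ m)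
    have s3 : chi (ptTwist P φ ψ h1 h2) (TB zc C).hom y.left (Over.w y) m =
        chi P (TB zc C).hom y.left (Over.w y) (φ m) := chi_twist P φ ψ h1 h2 _ _ _ m
    have s4 : chi (ptTwist P φ ψ h1 h2) (TB zc C).hom y.left (Over.w y) m =
        chi P' β y.left hx' m :=
      hag (TB zc C).hom β y.left (Over.w y) hx' m
    have s5 : chi P' β y.left hx' m = chi P₀ β₀ y.left hx₀ m := h' β β₀ y.left hx' hx₀ m
    have s6 : chi P (TB zc C).hom y.left (Over.w y) m = chi P₀ β₀ y.left hx₀ m :=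
      h (TB zc C).hom β₀ y.left (Over.w y) hx₀ m
    have s7 : chr d m = chi P (TB zc C).hom y.left (Over.w y) m := by
      rw [← hyd]
      exact chi_eq P (TB zc C) y m
    rw [Groth.Agent.Lib.DiagHom.DSmap_id, Category.comp_id]
    exact s1.trans (s2.trans (s3.symm.trans (s4.trans (s5.trans (s6.symm.trans s7.symm)))))
  have hφ : φ = AddMonoidHom.id M := by
    apply hφ_aux ((U : Scheme.{u}).residueField cU) ((U : Scheme.{u}).fromSpecResidueField cU)
    intro t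
    have h3 : ((U : Scheme.{u}).fromSpecResidueField cU).base t ∈ ({cU} : Set ↥(U : Scheme.{u})) := by
      rw [← Scheme.range_fromSpecResidueField]
      exact ⟨t, rfl⟩
    exact Set.mem_singleton_iff.mp h3
  intro Z α β x hx hx' m
  have h5 := hag α β x hx hx' m
  rw [chi_twist, hφ, AddMonoidHom.id_apply] at h5
  exact h5

end Compare

/-! ### Gluing morphisms into a diagonalisable group -/

section Glue

variable {S : Scheme.{u}} {M : Type} [AddCommGroup M]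

theorem DS_left_ext {Z : Scheme.{u}} (g₁ g₂ : Z ⟶ (Red.DS S M).left)
    (hw : g₂ ≫ (Red.DS S M).hom = g₁ ≫ (Red.DS S M).hom)
    (hc : ∀ m, chr (Over.homMk g₁ rfl : Over.mk (g₁ ≫ (Red.DS S M).hom) ⟶ Red.DS S M) m =
      chr (Over.homMk g₂ hw : Over.mk (g₁ ≫ (Red.DS S M).hom) ⟶ Red.DS S M) m) : g₁ = g₂ :=
  congrArg (fun k => k.left) (chr_injective _ _ hc)

theorem chr_homMk_comp {A : Over S} (Fm : A ⟶ Red.DS S M) {Z : Scheme.{u}} (p : Z ⟶ A.left)
    (h : Z ⟶ S) (hh : (p ≫ Fm.left) ≫ (Red.DS S M).hom = h) (m : M) :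
    chr (Over.homMk (p ≫ Fm.left) hh : Over.mk h ⟶ Red.DS S M) m = p.appTop (chr Fm m) := by
  obtain ⟨c, hc⟩ : ∃ c : Over.mk h ⟶ A, c.left = p :=
    ⟨Over.homMk p (by
      show p ≫ A.hom = h
      rw [← hh, Category.assoc, Over.w Fm]), rfl⟩
  have e1 : (Over.homMk (p ≫ Fm.left) hh : Over.mk h ⟶ Red.DS S M) = c ≫ Fm := by
    apply Over.OverMorphism.ext
    show p ≫ Fm.left = c.left ≫ Fm.left
    rw [hc]
  rw [e1, chr_comp, hc]

theorem glue_over_cover {Y Z : Scheme.{u}} {I : Type u} (V : I → Scheme.{u}) (v : ∀ i, V i ⟶ Y)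
    [∀ i, IsOpenImmersion (v i)] (hcov : ∀ x : Y, ∃ i y, (v i) y = x) (f : ∀ i, V i ⟶ Z)
    (hf : ∀ i j, pullback.fst (v i) (v j) ≫ f i = pullback.snd (v i) (v j) ≫ f j) :
    ∃ g : Y ⟶ Z, ∀ i, v i ≫ g = f i :=
  ⟨(Scheme.Cover.mkOfCovers (P := @IsOpenImmersion) I V v hcov).glueMorphisms f hf,
    fun i => (Scheme.Cover.mkOfCovers (P := @IsOpenImmersion) I V v hcov).ι_glueMorphisms f hf i⟩

theorem hom_ext_over_cover {Y Z : Scheme.{u}} {I : Type u} (V : I → Scheme.{u})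
    (v : ∀ i, V i ⟶ Y) [∀ i, IsOpenImmersion (v i)] (hcov : ∀ x : Y, ∃ i y, (v i) y = x)
    (g₁ g₂ : Y ⟶ Z) (h : ∀ i, v i ≫ g₁ = v i ≫ g₂) : g₁ = g₂ :=
  (Scheme.Cover.mkOfCovers (P := @IsOpenImmersion) I V v hcov).hom_ext g₁ g₂ h

theorem isIso_over_cover {Y Z : Scheme.{u}} {I : Type u} (V : I → Scheme.{u})
    (v : ∀ i, V i ⟶ Z) [∀ i, IsOpenImmersion (v i)] (hcov : ∀ x : Z, ∃ i y, (v i) y = x)
    (g : Y ⟶ Z) (h : ∀ i, IsIso (pullback.snd g (v i))) : IsIso g := by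
  have h1 := IsZariskiLocalAtTarget.of_openCover
    (P := MorphismProperty.isomorphisms Scheme.{u}) (f := g)
    (Scheme.Cover.mkOfCovers (P := @IsOpenImmersion) I V v hcov) (by
      intro i
      rw [MorphismProperty.isomorphisms.iff]
      exact h i)
  exact (MorphismProperty.isomorphisms.iff _).mp h1

theorem cover_of_base {S : Scheme.{u}} (Y : Over S) (U : ↥S → S.Opens) (hU : ∀ s, s ∈ U s)
    (x : Y.left) : ∃ (s : ↥S) (y : ↥(pullback Y.hom (U s).ι)),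
      (pullback.fst Y.hom (U s).ι) y = x := by
  have hx : x ∈ Set.range (pullback.fst Y.hom (U (Y.hom.base x)).ι) := by
    rw [Scheme.Pullback.range_fst]
    exact ⟨⟨Y.hom.base x, hU _⟩, rfl⟩
  obtain ⟨y, hy⟩ := hx
  exact ⟨_, y, hy⟩

end Glue

/-! ### The local pieces of the global chart -/

section Pieces

variable {S : Scheme.{u}} {X : Over S} [GrpObj X] {M : Type} [AddCommGroup M]

/-- the local piece of the global chart. -/
noncomputable def piece (U : S.Opens) (P : PtIso X U.ι M) :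
    (Over.map U.ι).obj (Red.bc U.ι X) ⟶ Red.DS S M :=
  trUp U.ι (P.toD (Red.bc U.ι X) (eps U.ι X))

theorem piece_chr (U : S.Opens) (P : PtIso X U.ι M) (m : M) :
    chr (piece U P) m = chi P (pullback.snd X.hom U.ι) (pullback.fst X.hom U.ι)
      pullback.condition m := by
  have e1 : chr (piece U P) m = chr (P.toD (Red.bc U.ι X) (eps U.ι X)) m :=
    chr_trUp U.ι _ m
  rw [e1, chi_eq]
  exact chi_congr P rfl (eps_left U.ι X) _ _ m

theorem piece_w (U : S.Opens) (P : PtIso X U.ι M) :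
    (piece U P).left ≫ (Red.DS S M).hom = pullback.fst X.hom U.ι ≫ X.hom := by
  rw [Over.w (piece U P)]
  exact pullback.condition.symm

theorem piece_compat (U U' : S.Opens) (P : PtIso X U.ι M) (P' : PtIso X U'.ι M)
    (hag : Agree P P') :
    pullback.fst (pullback.fst X.hom U.ι) (pullback.fst X.hom U'.ι) ≫ (piece U P).left =
    pullback.snd (pullback.fst X.hom U.ι) (pullback.fst X.hom U'.ι) ≫ (piece U' P').left := by
  have hw : (pullback.snd (pullback.fst X.hom U.ι) (pullback.fst X.hom U'.ι) ≫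
      (piece U' P').left) ≫ (Red.DS S M).hom =
      (pullback.fst (pullback.fst X.hom U.ι) (pullback.fst X.hom U'.ι) ≫
      (piece U P).left) ≫ (Red.DS S M).hom := by
    rw [Category.assoc, Category.assoc, piece_w, piece_w, ← Category.assoc, ← Category.assoc,
      pullback.condition]
  apply DS_left_ext _ _ hw
  intro m
  rw [chr_homMk_comp (piece U P) _ _ rfl m, chr_homMk_comp (piece U' P') _ _ hw m, piece_chr,
    piece_chr]
  have hxa : (pullback.fst (pullback.fst X.hom U.ι) (pullback.fst X.hom U'.ι) ≫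
      pullback.fst X.hom U.ι) ≫ X.hom =
      (pullback.fst (pullback.fst X.hom U.ι) (pullback.fst X.hom U'.ι) ≫
      pullback.snd X.hom U.ι) ≫ U.ι := by
    rw [Category.assoc, Category.assoc, pullback.condition]
  have hxb : (pullback.snd (pullback.fst X.hom U.ι) (pullback.fst X.hom U'.ι) ≫
      pullback.fst X.hom U'.ι) ≫ X.hom =
      (pullback.snd (pullback.fst X.hom U.ι) (pullback.fst X.hom U'.ι) ≫
      pullback.snd X.hom U'.ι) ≫ U'.ι := by
    rw [Category.assoc, Category.assoc, pullback.condition]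
  have hxc : (pullback.fst (pullback.fst X.hom U.ι) (pullback.fst X.hom U'.ι) ≫
      pullback.fst X.hom U.ι) ≫ X.hom =
      (pullback.snd (pullback.fst X.hom U.ι) (pullback.fst X.hom U'.ι) ≫
      pullback.snd X.hom U'.ι) ≫ U'.ι := by
    rw [pullback.condition]
    exact hxb
  rw [← chi_nat P _ _ _ pullback.condition hxa m, ← chi_nat P' _ _ _ pullback.condition hxb m]
  exact (hag _ _ _ hxa hxc m).trans (chi_congr P' rfl pullback.condition hxc hxb m)

end Pieces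

/-! ### Gluing compatible charts -/

section GlueCharts

variable {S : Scheme.{u}} {X : Over S} [GrpObj X] {M : Type} [AddCommGroup M]
  (U : ↥S → S.Opens) (hU : ∀ s, s ∈ U s) (P : ∀ s, PtIso X (U s).ι M)

include hU in
theorem glue_map (hag : ∀ s t, Agree (P s) (P t)) :
    ∃ a : X ⟶ Red.DS S M, ∀ s, eps (U s).ι X ≫ a = piece (U s) (P s) := by
  obtain ⟨a₀, ha₀⟩ := glue_over_cover (fun s : ↥S => pullback X.hom (U s).ι)
    (fun s => pullback.fst X.hom (U s).ι) (cover_of_base X U hU)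
    (fun s => (piece (U s) (P s)).left)
    (fun s t => piece_compat (U s) (U t) (P s) (P t) (hag s t))
  have ha₀w : a₀ ≫ (Red.DS S M).hom = X.hom := by
    apply hom_ext_over_cover (fun s : ↥S => pullback X.hom (U s).ι)
      (fun s => pullback.fst X.hom (U s).ι) (cover_of_base X U hU)
    intro s
    rw [← Category.assoc, ha₀, piece_w]
  obtain ⟨a, ha⟩ : ∃ a : X ⟶ Red.DS S M, a.left = a₀ := ⟨Over.homMk a₀ ha₀w, rfl⟩
  refine ⟨a, ?_⟩
  intro s
  apply Over.OverMorphism.ext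
  show (eps (U s).ι X).left ≫ a.left = (piece (U s) (P s)).left
  rw [eps_left, ha, ha₀]

variable (a : X ⟶ Red.DS S M) (hEa : ∀ s, eps (U s).ι X ≫ a = piece (U s) (P s))

include hEa in
theorem glue_LF (s : ↥S) {Z : Scheme.{u}} (α : Z ⟶ (U s : Scheme.{u})) (x : Z ⟶ X.left)
    (hx : x ≫ X.hom = α ≫ (U s).ι) (m : M) : x.appTop (chr a m) = chi (P s) α x hx m := by
  obtain ⟨l, hl1, hl2⟩ : ∃ l : Z ⟶ pullback X.hom (U s).ι,
      l ≫ pullback.fst X.hom (U s).ι = x ∧ l ≫ pullback.snd X.hom (U s).ι = α :=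
    ⟨pullback.lift x α hx, pullback.lift_fst _ _ _, pullback.lift_snd _ _ _⟩
  obtain ⟨lo, hlo⟩ : ∃ lo : Over.mk (x ≫ X.hom) ⟶
      (Over.map (U s).ι).obj (Red.bc (U s).ι X), lo.left = l :=
    ⟨Over.homMk l (by
      show l ≫ (pullback.snd X.hom (U s).ι ≫ (U s).ι) = x ≫ X.hom
      rw [← Category.assoc, hl2, hx]), rfl⟩
  obtain ⟨xo, hxo⟩ : ∃ xo : Over.mk (x ≫ X.hom) ⟶ X, xo.left = x := ⟨Over.homMk x rfl, rfl⟩
  have e0 : chr (xo ≫ a) m = x.appTop (chr a m) := by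
    rw [chr_comp, hxo]
  have e1 : xo ≫ a = lo ≫ piece (U s) (P s) := by
    rw [← hEa, ← Category.assoc]
    congr 1
    apply Over.OverMorphism.ext
    show xo.left = lo.left ≫ (eps (U s).ι X).left
    rw [hxo, hlo, eps_left, hl1]
  have hxl : (l ≫ pullback.fst X.hom (U s).ι) ≫ X.hom =
      (l ≫ pullback.snd X.hom (U s).ι) ≫ (U s).ι := by
    rw [Category.assoc, Category.assoc, pullback.condition]
  rw [← e0, e1, chr_comp, piece_chr, hlo, ← chi_nat (P s) l _ _ pullback.condition hxl m]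
  exact chi_congr (P s) hl2 hl1 hxl hx m

include hEa in
theorem glue_LFt (s : ↥S) (T'' : Over (U s : Scheme.{u}))
    (x : (Over.map (U s).ι).obj T'' ⟶ X) : trDown (U s).ι (x ≫ a) = (P s).toD T'' x := by
  apply chr_injective
  intro m
  have e1 : chr (trDown (U s).ι (x ≫ a)) m = chr (x ≫ a) m := chr_trDown (U s).ι (x ≫ a) m
  rw [e1, chi_eq, chr_comp]
  exact glue_LF U P a hEa s T''.hom x.left (Over.w x) m

include hU hEa in
theorem glue_mon : IsMonHom a := isMonHom_of_pointwise a (by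
  intro Z p q
  apply Over.OverMorphism.ext
  apply hom_ext_of_flat_cover
  intro z
  obtain ⟨s, hs⟩ : ∃ s : ↥S, s = Z.hom.base z := ⟨_, rfl⟩
  have hzs : Z.hom.base z ∈ U s := by
    rw [← hs]
    exact hU s
  obtain ⟨ρ, hρ⟩ : ∃ ρ : ((Z.hom ⁻¹ᵁ U s : Z.left.Opens) : Scheme.{u}) ⟶ (U s : Scheme.{u}),
      ρ ≫ (U s).ι = (Z.hom ⁻¹ᵁ U s).ι ≫ Z.hom := ⟨Z.hom ∣_ U s, morphismRestrict_ι _ _⟩
  obtain ⟨cc, hcc⟩ : ∃ cc : (Over.map (U s).ι).obj (Over.mk ρ) ⟶ Z,
      cc.left = (Z.hom ⁻¹ᵁ U s).ι :=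
    ⟨Over.homMk (Z.hom ⁻¹ᵁ U s).ι (by
      show (Z.hom ⁻¹ᵁ U s).ι ≫ Z.hom = ρ ≫ (U s).ι
      exact hρ.symm), rfl⟩
  refine ⟨((Z.hom ⁻¹ᵁ U s : Z.left.Opens) : Scheme.{u}), (Z.hom ⁻¹ᵁ U s).ι, inferInstance,
    ⟨⟨z, hzs⟩, rfl⟩, ?_⟩
  have hinj : ∀ y y' : (Over.map (U s).ι).obj (Over.mk ρ) ⟶ Red.DS S M,
      trDown (U s).ι y = trDown (U s).ι y' → y = y' := by
    intro y y' h
    rw [← trUp_trDown (U s).ι y, h, trUp_trDown]
  have h2 : cc ≫ ((p * q) ≫ a) = cc ≫ ((p ≫ a) * (q ≫ a)) := by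
    apply hinj
    rw [← Category.assoc, MonObj.comp_mul, glue_LFt U P a hEa, (P s).to_mul, MonObj.comp_mul,
      trDown_mul, ← Category.assoc, ← Category.assoc, glue_LFt U P a hEa, glue_LFt U P a hEa]
  rw [← hcc]
  exact congrArg (fun w => w.left) h2)

include hEa in
theorem glue_iso_loc [IsMonHom a] (s : ↥S) : IsIso (bcL a (U s).ι) := by
  have hZ : ∀ (T'' : Over (U s : Scheme.{u}))
      (d : (Over.map (𝟙 (U s : Scheme.{u}))).obj T'' ⟶ Red.DS (U s : Scheme.{u}) M),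
      nuOf a (U s).ι (P s) (ptDS (U s).ι M) ((Over.map (𝟙 (U s : Scheme.{u}))).obj T'') d =
        d ≫ Red.DSmap (U s : Scheme.{u}) (AddMonoidHom.id M) := by
    intro T'' d
    show trDown (U s).ι ((P s).ofD _ d ≫ a) = _
    rw [glue_LFt U P a hEa, (P s).to_of, Groth.Agent.Lib.DiagHom.DSmap_id, Category.comp_id]
  have h1 := iso_of_hZ a (U s).ι (P s) (ptDS (U s).ι M) (𝟙 (U s : Scheme.{u}))
    (AddMonoidHom.id M) hZ (MorphismProperty.isomorphisms Scheme.{u})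
  have h2 : IsIso (bcL (Red.DSmap (U s : Scheme.{u}) (AddMonoidHom.id M))
      (𝟙 (U s : Scheme.{u}))) := by
    haveI : IsIso ((Over.pullback (𝟙 (U s : Scheme.{u}))).map
        (Red.DSmap (U s : Scheme.{u}) (AddMonoidHom.id M))) := by
      rw [Groth.Agent.Lib.DiagHom.DSmap_id, CategoryTheory.Functor.map_id]
      infer_instance
    exact (isIso_left_iff _).mpr inferInstance
  have h3 : IsIso (bcL a (𝟙 (U s : Scheme.{u}) ≫ (U s).ι)) :=
    (MorphismProperty.isomorphisms.iff _).mp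
      (h1.mpr ((MorphismProperty.isomorphisms.iff _).mpr h2))
  exact isIso_bcL_congr a (Category.id_comp _) h3

include hU in
theorem glue_iso (hloc : ∀ s : ↥S, IsIso (bcL a (U s).ι)) : IsIso a := by
  have hiso : IsIso a.left := by
    apply isIso_over_cover (fun s : ↥S => pullback (Red.DS S M).hom (U s).ι)
      (fun s => pullback.fst (Red.DS S M).hom (U s).ι) (cover_of_base (Red.DS S M) U hU)
    intro s
    have sq := sqL a (U s).ι
    have e1 : sq.isoPullback.hom ≫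
        pullback.snd a.left (pullback.fst (Red.DS S M).hom (U s).ι) = bcL a (U s).ι :=
      sq.isoPullback_hom_snd
    have e2 : pullback.snd a.left (pullback.fst (Red.DS S M).hom (U s).ι) =
        sq.isoPullback.inv ≫ bcL a (U s).ι :=
      ((Iso.inv_comp_eq sq.isoPullback).mpr e1.symm).symm
    haveI := hloc s
    rw [e2]
    infer_instance
  exact (isIso_left_iff a).mp hiso

end GlueCharts

theorem glue_charts {S : Scheme.{u}} {X : Over S} [GrpObj X] {M : Type} [AddCommGroup M]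
    (U : ↥S → S.Opens) (hU : ∀ s, s ∈ U s) (P : ∀ s, PtIso X (U s).ι M)
    (hag : ∀ s t, Agree (P s) (P t)) :
    ∃ a : X ⟶ Red.DS S M, IsMonHom a ∧ IsIso a := by
  obtain ⟨a, hEa⟩ := glue_map U hU P hag
  have hmon : IsMonHom a := glue_mon U hU P a hEa
  haveI := hmon
  exact ⟨a, hmon, glue_iso U hU a (fun s => glue_iso_loc U P a hEa s)⟩

/-! ### The main theorems -/

theorem split_of_locally_split {S : Scheme.{u}} [IrreducibleSpace ↥S] {X : Over S} [GrpObj X]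
    (hloc : ∀ s : ↥S, ∃ U : S.Opens, s ∈ U ∧ ∃ r : ℕ,
      Red.IsSplitTorusWith (Fin r → ℤ) (Red.bc U.ι X)) :
    ∃ r : ℕ, Red.IsSplitTorusWith (Fin r → ℤ) X := by
  choose U hU r hs using hloc
  have hP : ∀ s, Nonempty (PtIso X (U s).ι (Fin (r s) → ℤ)) := by
    intro s
    obtain ⟨eA⟩ := hs s
    obtain ⟨a1, ainv, ha1, hainv, h1, h2⟩ := Groth.Agent.Lib.DiagHom.iso_data eA
    haveI := ha1
    haveI := hainv
    exact exists_transport X (U s).ι a1 ainv h1 h2 (𝟙 _) (U s).ι (Category.id_comp _)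
  obtain ⟨s₀⟩ : Nonempty ↥S := inferInstance
  have hfg : ∀ n : ℕ, AddGroup.FG (Fin n → ℤ) := fun n =>
    Module.Finite.iff_addGroup_fg.mp inferInstance
  have hne2 : ∀ s t : ↥S, ((U s ⊓ U t : S.Opens) : Set S).Nonempty := by
    intro s t
    exact nonempty_preirreducible_inter (U s).isOpen (U t).isOpen ⟨s, hU s⟩ ⟨t, hU t⟩
  have hne3 : ∀ s t : ↥S, ((U s ⊓ U t ⊓ U s₀ : S.Opens) : Set S).Nonempty := by
    intro s t
    exact nonempty_preirreducible_inter (U s ⊓ U t).isOpen (U s₀).isOpen (hne2 s t)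
      ⟨s₀, hU s₀⟩
  have hP' : ∀ s, ∃ P' : PtIso X (U s).ι (Fin (r s₀) → ℤ), Agree P' (hP s₀).some := by
    intro s
    obtain ⟨φ, ψ, h1, h2, hag⟩ := norm_agree (U s) (U s₀) (hne2 s s₀) (hfg _) (hfg _)
      (hP s).some (hP s₀).some
    exact ⟨ptTwist (hP s).some φ ψ h1 h2, hag⟩
  choose P' hP'ag using hP'
  have hag2 : ∀ s t, Agree (P' s) (P' t) := fun s t =>
    agree_trans (U s) (U t) (U s₀) (hne3 s t) (hfg _) (P' s) (P' t) (hP s₀).some
      (hP'ag s) (hP'ag t)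
  obtain ⟨a, ha, haiso⟩ := glue_charts U hU P' hag2
  haveI := ha
  haveI := haiso
  haveI : IsMonHom (asIso a).hom := ha
  exact ⟨r s₀, ⟨Grp.mkIso' (asIso a)⟩⟩

theorem main16621 {S : Scheme.{u}} [ConnectedSpace ↥S] [IsLocallyNoetherian S]
    (hnorm : ∀ x : ↥S, IsDomain (S.presheaf.stalk x) ∧ IsIntegrallyClosed (S.presheaf.stalk x))
    {T T₀ T₁ : Over S} [GrpObj T] [GrpObj T₀] [GrpObj T₁] (j₀ : T₀ ⟶ T) [IsMonHom j₀] [Mono j₀]
    (hmax : ∀ (T' : Over S) [GrpObj T'] (j' : T' ⟶ T) [IsMonHom j'] [Mono j'] (r' : ℕ),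
      Red.IsSplitTorusWith (Fin r' → ℤ) T' → ∃ g : T' ⟶ T₀, g ≫ j₀ = j')
    (j₁ : T₁ ⟶ T) [IsMonHom j₁] [Mono j₁]
    (hT₁ : ∀ s : ↥S, ∃ U : S.Opens, s ∈ U ∧ ∃ r : ℕ,
      Red.IsSplitTorusWith (Fin r → ℤ) (Red.bc U.ι T₁)) :
    ∃ g : T₁ ⟶ T₀, g ≫ j₀ = j₁ := by
  haveI : IrreducibleSpace ↥S :=
    ConnIrrH8.irreducibleSpace_of_connected S (fun x => (hnorm x).1)
  obtain ⟨r, hsplit⟩ := split_of_locally_split hT₁
  exact hmax T₁ j₁ r hsplit

end Groth.Agent.Lib.TorusQuotH4
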