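import Mathlib
import Groth.Prelude
import Groth.Agent.Lib.LocImg1_helper4
import Groth.Agent.Lib.LocSplit2_helper4
import Groth.Agent.Lib.SchDescent_helper6
import Groth.Agent.Lib.SchImGrp_helper4

/-!
# Monomorphisms of groups of multiplicative type are closed immersions; local structure of scheme-theoretic images (helper4)
-/

set_option backward.isDefEq.respectTransparency.types false
set_option autoImplicit false
set_option linter.unusedVariables false
set_option linter.unusedTactic false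
set_option linter.unreachableTactic false
set_option linter.unusedSectionVars false
set_option linter.style.haveILetI false
set_option linter.deprecated false
set_option linter.unusedSimpArgs false
set_option linter.style.longLine false
set_option maxHeartbeats 1600000

universe u

open CategoryTheory CategoryTheory.Limits MonoidalCategory CartesianMonoidalCategory MonObj GrpObj
  AlgebraicGeometry Opposite

namespace Groth.Agent.Lib.TorusQuotH4

open Groth.Agent.Lib.RedDictH8 Groth.Agent.Lib.DSDict Groth.Agent.Lib.MultGa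
  Groth.Agent.Lib.MultTrivH4 Groth.Agent.Lib.ConnActH4 Groth.Agent.Lib.TwConstFinH4
  Groth.Agent.Lib.MTHomH4

/-! ### `D(φ)` is a closed immersion for surjective `φ` -/

theorem closedImm_DSmap (B : Scheme.{u}) {N M : Type} [AddCommGroup N] [AddCommGroup M]
    (φ : N →+ M) (hφ : Function.Surjective φ) : IsClosedImmersion (Red.DSmap B φ).left := by
  have hsurj : Function.Surjective (MonoidAlgebra.mapDomainAlgHom (ULift.{u} ℤ) (ULift.{u} ℤ)
      (AddMonoidHom.toMultiplicative φ)) := by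
    intro y
    induction y using MonoidAlgebra.induction_on with
    | of g =>
      obtain ⟨n, hn⟩ := hφ (Multiplicative.toAdd g)
      have hg : (AddMonoidHom.toMultiplicative φ) (Multiplicative.ofAdd n) = g := by
        show Multiplicative.ofAdd (φ n) = g
        rw [hn]
        rfl
      refine ⟨MonoidAlgebra.single (Multiplicative.ofAdd n) 1, ?_⟩
      rw [MonoidAlgebra.mapDomainAlgHom_apply, MonoidAlgebra.mapDomain_single, hg,
        MonoidAlgebra.of_apply]
    | add a b ha hb =>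
      obtain ⟨x, rfl⟩ := ha
      obtain ⟨x', rfl⟩ := hb
      exact ⟨x + x', map_add _ _ _⟩
    | smul c a ha =>
      obtain ⟨x, rfl⟩ := ha
      exact ⟨c • x, map_smul _ _ _⟩
  have h : IsClosedImmersion (Spec.map (CommRingCat.ofHom
      (MonoidAlgebra.mapDomainAlgHom (ULift.{u} ℤ) (ULift.{u} ℤ)
        (AddMonoidHom.toMultiplicative φ)).toRingHom)) := by
    apply IsClosedImmersion.spec_of_surjective
    intro y
    obtain ⟨x, hx⟩ := hsurj y
    exact ⟨x, hx⟩
  have h' : IsClosedImmersion (Red.diagMap (ULift.{u} ℤ) φ).left := h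
  exact MorphismProperty.of_isPullback (P := @IsClosedImmersion)
    (sqL (Red.diagMap (ULift.{u} ℤ) φ) (Limits.IsTerminal.from specULiftZIsTerminal B)) h'

/-! ### Monomorphisms of groups of multiplicative type are closed immersions -/

theorem mono_closedImm {S : Scheme.{u}} (G H : Over S) [GrpObj G] [GrpObj H]
    (hG : SGA3x.IsMultTypeFT G) (hH : SGA3x.IsMultTypeFT H) (u : G ⟶ H) [IsMonHom u] [Mono u] :
    IsClosedImmersion u.left := by
  obtain ⟨X, F, hcov, hraw⟩ := setup_raw G H hG hH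
  haveI : MorphismProperty.DescendsAlong (@IsClosedImmersion : MorphismProperty Scheme.{u})
      (@Surjective ⊓ @Flat ⊓ @QuasiCompact) :=
    Groth.Agent.Lib.SchDescent_helper6.descendsAlong_isClosedImmersion
  have hmonoL : ∀ {T : Scheme.{u}} (g : T ⟶ S), Mono (bcL u g) := by
    intro T g
    have h3 : Mono ((Over.pullback g).map u) :=
      (mono_iff_injOn u g).mpr (fun T'' x x' hxx => (cancel_mono u).mp hxx)
    exact (mono_left_iff _).mpr h3
  have hchart : ∀ x : X, ∃ O : X.Opens, x ∈ O ∧ ∀ {T : Scheme.{u}} (r : T ⟶ X),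
      (∀ t : T, r.base t ∈ O) → IsClosedImmersion (bcL u (r ≫ F)) := by
    intro x
    obtain ⟨Bo, hxB, M, N, iM, iN, hNfg, ⟨eG⟩, ⟨eH⟩⟩ := hraw x
    obtain ⟨pU, hpU⟩ : ∃ pU : (Bo : Scheme.{u}), Bo.ι.base pU = x := ⟨⟨x, hxB⟩, rfl⟩
    obtain ⟨W₀, φ, hb, hch⟩ := chart_P u (Bo.ι ≫ F) eG eH hNfg pU
    have hφ_aux : ∀ (L : Type u) [Field L] (z' : Spec (CommRingCat.of L) ⟶ (Bo : Scheme.{u})),
        (∀ t, z'.base t ∈ W₀) → Function.Surjective φ := by
      intro L _ z' hz'W
      have h3 : (MorphismProperty.monomorphisms Scheme.{u}) (bcL u (z' ≫ Bo.ι ≫ F)) :=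
        (MorphismProperty.monomorphisms.iff _).mpr (hmonoL _)
      have h4 := (hch z' hz'W (MorphismProperty.monomorphisms Scheme.{u})).mp h3
      have h5 : Mono ((Over.pullback z').map (Red.DSmap (Bo : Scheme.{u}) φ)) :=
        (mono_left_iff _).mp ((MorphismProperty.monomorphisms.iff _).mp h4)
      have h6 : InjOn (Red.DSmap (Bo : Scheme.{u}) φ) z' := (mono_iff_injOn _ z').mp h5
      apply surjective_of_inj z' φ
      intro C _ _ d d' hdd
      exact h6 (Over.mk (Spec.map (CommRingCat.ofHom (algebraMap L C)))) hdd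
    have hφ : Function.Surjective φ :=
      hφ_aux ((Bo : Scheme.{u}).residueField pU)
        ((Bo : Scheme.{u}).fromSpecResidueField pU)
        (mem_of_residue_pt pU W₀ hb)
    refine ⟨⟨Bo.ι.base '' (W₀ : Set Bo), Bo.ι.isOpenEmbedding.isOpenMap _ W₀.isOpen⟩,
      ⟨pU, hb, hpU⟩, ?_⟩
    intro T r hr
    have hrange : Set.range r ⊆ Set.range Bo.ι := by
      rintro _ ⟨t, rfl⟩
      obtain ⟨w, -, hw⟩ := hr t
      exact ⟨w, hw⟩
    obtain ⟨r', hr'⟩ : ∃ r' : T ⟶ (Bo : Scheme.{u}), r' ≫ Bo.ι = r :=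
      ⟨IsOpenImmersion.lift Bo.ι r hrange, IsOpenImmersion.lift_fac _ _ _⟩
    have hr'W : ∀ t : T, r'.base t ∈ W₀ := by
      intro t
      obtain ⟨w, hwW, hw⟩ := hr t
      have h3 : Bo.ι.base (r'.base t) = r.base t := congrArg (fun g => g.base t) hr'
      have h4 : w = r'.base t := Bo.ι.isOpenEmbedding.injective (hw.trans h3.symm)
      rw [← h4]
      exact hwW
    have e : r' ≫ (Bo.ι ≫ F) = r ≫ F := by
      rw [← Category.assoc, hr']
    rw [← e]
    refine (hch r' hr'W (@IsClosedImmersion : MorphismProperty Scheme.{u})).mpr ?_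
    exact MorphismProperty.of_isPullback (P := (@IsClosedImmersion : MorphismProperty Scheme.{u}))
      (sqL (Red.DSmap (Bo : Scheme.{u}) φ) r') (closedImm_DSmap (Bo : Scheme.{u}) φ hφ)
  obtain ⟨U, hUc, hUmem, hUP⟩ := core u (@IsClosedImmersion : MorphismProperty Scheme.{u}) F
    hcov (by
    intro x
    obtain ⟨O, hxO, hO⟩ := hchart x
    exact ⟨O, hxO, True, fun _ {T} r hr => hO r hr, fun _ _ _ _ _ => trivial⟩)
  have hFsurj : ∀ s : S, ∃ x : X, F.base x = s := by
    intro s
    obtain ⟨V, hVaff, hsV, -⟩ := exists_isAffineOpen_mem_and_subset (x := s) (U := ⊤) trivial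
    obtain ⟨P', p, m, hp1, hp2, hp3, hpm⟩ := hcov V hVaff
    obtain ⟨y, hy⟩ := hp2.surj (⟨s, hsV⟩ : V)
    refine ⟨m.base y, ?_⟩
    have h3 : F.base (m.base y) = V.ι.base (p.base y) := congrArg (fun g => g.base y) hpm
    rw [h3]
    exact congrArg (fun t => V.ι.base t) hy
  have hU : U = ⊤ := by
    apply top_unique
    intro s _
    obtain ⟨x, hx⟩ := hFsurj s
    obtain ⟨O, hxO, hO⟩ := hchart x
    have h3 : IsClosedImmersion (bcL u (X.fromSpecResidueField x ≫ F)) :=
      hO (X.fromSpecResidueField x) (mem_of_residue_pt x O hxO)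
    have h4 := (P_field_iff (P := (@IsClosedImmersion : MorphismProperty Scheme.{u})) u F x).mp h3
    have gen : ∀ t : S, F.base x = t →
        IsClosedImmersion (bcL u (S.fromSpecResidueField t)) := by
      intro t ht
      subst ht
      exact h4
    have h5 : s ∈ (U : Set S) := (hUmem s).mpr (gen s hx)
    exact h5
  subst hU
  haveI : IsIso (⊤ : S.Opens).ι := inferInstanceAs (IsIso S.topIso.hom)
  haveI : IsIso (pullback.fst G.hom (⊤ : S.Opens).ι) := inferInstance
  haveI : IsIso (pullback.fst H.hom (⊤ : S.Opens).ι) := inferInstance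
  have e : u.left = inv (pullback.fst G.hom (⊤ : S.Opens).ι) ≫
      bcL u (⊤ : S.Opens).ι ≫ pullback.fst H.hom (⊤ : S.Opens).ι := by
    rw [bcL_fst, IsIso.inv_hom_id_assoc]
  haveI : IsClosedImmersion (bcL u (⊤ : S.Opens).ι) := hUP
  rw [e]
  infer_instance

/-! ### Faithfully flat quasi-compact morphisms are scheme-theoretically dominant -/

theorem app_injective_of_flat_surj {X Y : Scheme.{u}} (f : X ⟶ Y) [Flat f] [Surjective f]
    (U : Y.Opens) : Function.Injective (f.app U).hom := by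
  intro s t hst
  apply TopCat.Presheaf.section_ext Y.sheaf U s t
  intro y hy
  obtain ⟨x, rfl⟩ := f.surjective y
  have hinj : Function.Injective (f.stalkMap x).hom := by
    algebraize [(f.stalkMap x).hom]
    have : Module.FaithfullyFlat (Y.presheaf.stalk (f x)) (X.presheaf.stalk x) :=
      @Module.FaithfullyFlat.of_flat_of_isLocalHom _ _ _ _ _ _ _
        (Flat.stalkMap f x) (f.toLRSHom.prop x)
    exact ‹RingHom.FaithfullyFlat _›.injective
  apply hinj
  have e1 := Scheme.Hom.germ_stalkMap_apply f U x hy s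
  have e2 := Scheme.Hom.germ_stalkMap_apply f U x hy t
  exact e1.trans ((congrArg (fun w => X.presheaf.germ (f ⁻¹ᵁ U) x hy w) hst).trans e2.symm)

theorem ker_eq_bot_of_fpqc {X Y : Scheme.{u}} (f : X ⟶ Y) [Flat f] [Surjective f]
    [QuasiCompact f] : f.ker = ⊥ := by
  apply Scheme.IdealSheafData.ext
  funext U
  rw [Scheme.Hom.ker_apply, Scheme.IdealSheafData.ideal_bot, Pi.bot_apply]
  exact (RingHom.injective_iff_ker_eq_bot _).mp (app_injective_of_flat_surj f U.1)

/-! ### The scheme-theoretic image, locally -/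

theorem image_local_iso {X Y : Scheme.{u}} (f : X ⟶ Y) [QuasiCompact f]
    {X' Y' Z' D : Scheme.{u}} (gX : X' ⟶ X) (f' : X' ⟶ Y') (gY : Y' ⟶ Y) [Flat gY]
    (sq : IsPullback gX f' f gY) (gZ : Z' ⟶ f.image) (ι' : Z' ⟶ Y')
    (sqZ : IsPullback gZ ι' f.imageι gY) (α : X' ⟶ D) (β : D ⟶ Y') [IsClosedImmersion β]
    (hα : α.ker = ⊥) (hαβ : α ≫ β = f') :
    ∃ θ : Z' ⟶ D, IsIso θ ∧ θ ≫ β = ι' := by
  haveI : IsClosedImmersion ι' :=
    MorphismProperty.of_isPullback (P := @IsClosedImmersion) sqZ inferInstance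
  haveI : Flat gZ := MorphismProperty.of_isPullback (P := @Flat) sqZ.flip inferInstance
  obtain ⟨π', hπ1, hπ2⟩ : ∃ π' : X' ⟶ Z', π' ≫ gZ = gX ≫ f.toImage ∧ π' ≫ ι' = f' :=
    ⟨sqZ.lift (gX ≫ f.toImage) f' (by rw [Category.assoc, f.toImage_imageι, sq.w]),
      sqZ.lift_fst _ _ _, sqZ.lift_snd _ _ _⟩
  have sqπ : IsPullback gX π' f.toImage gZ := by
    have hbig : IsPullback gX (π' ≫ ι') (f.toImage ≫ f.imageι) gY := by
      rw [hπ2, f.toImage_imageι]
      exact sq
    exact IsPullback.of_bot hbig hπ1.symm sqZ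
  haveI : IsSchemeTheoreticallyDominant f.toImage := ⟨SchImGrpH4.ker_toImage_eq_bot f⟩
  haveI : IsSchemeTheoreticallyDominant π' := IsSchemeTheoreticallyDominant.of_isPullback sqπ
  have hker : β.ker = ι'.ker := by
    have e1 : (π' ≫ ι').ker = ι'.ker := by
      rw [Scheme.Hom.ker_comp, Scheme.Hom.ker_eq_bot, Scheme.IdealSheafData.map_bot]
    have e2 : (α ≫ β).ker = β.ker := by
      rw [Scheme.Hom.ker_comp, hα, Scheme.IdealSheafData.map_bot]
    rw [← e1, ← e2, hπ2, hαβ]
  exact ⟨IsClosedImmersion.lift β ι' hker.le, IsClosedImmersion.isIso_lift β ι' hker,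
    IsClosedImmersion.lift_fac β ι' hker.le⟩

/-! ### Zariski-local properties over a cover given by pullback squares -/

theorem P_over_cover (P : MorphismProperty Scheme.{u}) [IsZariskiLocalAtTarget P]
    {Y Z : Scheme.{u}} {I : Type u} (V : I → Scheme.{u}) (v : ∀ i, V i ⟶ Z)
    [∀ i, IsOpenImmersion (v i)] (hcov : ∀ x : Z, ∃ i y, (v i) y = x) (g : Y ⟶ Z)
    (W : I → Scheme.{u}) (w : ∀ i, W i ⟶ Y) (gW : ∀ i, W i ⟶ V i)
    (sq : ∀ i, IsPullback (w i) (gW i) g (v i)) (h : ∀ i, P (gW i)) : P g := by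
  refine IsZariskiLocalAtTarget.of_openCover (P := P)
    (Scheme.Cover.mkOfCovers (P := @IsOpenImmersion) I V v hcov) ?_
  intro i
  have e : pullback.snd g (v i) = (sq i).isoPullback.inv ≫ gW i := by
    rw [Iso.eq_inv_comp]
    exact (sq i).isoPullback_hom_snd
  show P (pullback.snd g (v i))
  rw [e]
  exact (MorphismProperty.cancel_left_of_respectsIso P _ _).mpr (h i)

/-! ### Nested base changes -/

theorem sqL2 {S U W : Scheme.{u}} {G H : Over S} (u : G ⟶ H) (g : U ⟶ S) (h : W ⟶ U) :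
    IsPullback (pullback.fst (Red.bc g G).hom h ≫ pullback.fst G.hom g)
      (bcL ((Over.pullback g).map u) h) u.left
      (pullback.fst (Red.bc g H).hom h ≫ pullback.fst H.hom g) :=
  (sqL ((Over.pullback g).map u) h).paste_horiz (sqL u g)

theorem cover_nested {S : Scheme.{u}} (Y : Over S) (U : S.Opens) (V' : (U : Scheme.{u}).Opens)
    (y : Y.left) (hyU : Y.hom.base y ∈ U) (hyV : (⟨Y.hom.base y, hyU⟩ : U) ∈ V') :
    ∃ w : ↥(pullback (Red.bc U.ι Y).hom V'.ι),
      (pullback.fst (Red.bc U.ι Y).hom V'.ι ≫ pullback.fst Y.hom U.ι).base w = y := by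
  have h1 : y ∈ Set.range (pullback.fst Y.hom U.ι) := by
    rw [Scheme.Pullback.range_fst]
    exact ⟨⟨Y.hom.base y, hyU⟩, rfl⟩
  obtain ⟨y₁, hy₁⟩ := h1
  have e1 : Y.hom.base ((pullback.fst Y.hom U.ι).base y₁) =
      U.ι.base ((pullback.snd Y.hom U.ι).base y₁) :=
    congrArg (fun k => k.base y₁) (pullback.condition (f := Y.hom) (g := U.ι))
  have e3 : U.ι.base ((pullback.snd Y.hom U.ι).base y₁) = Y.hom.base y := by
    rw [← e1]
    exact congrArg (fun t => Y.hom.base t) hy₁
  have e4 : U.ι.base (⟨Y.hom.base y, hyU⟩ : U) = Y.hom.base y := rfl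
  have e2 : (pullback.snd Y.hom U.ι).base y₁ = (⟨Y.hom.base y, hyU⟩ : U) :=
    U.ι.isOpenEmbedding.injective (e3.trans e4.symm)
  have h2 : y₁ ∈ Set.range (pullback.fst (Red.bc U.ι Y).hom V'.ι) := by
    rw [Scheme.Pullback.range_fst]
    exact ⟨⟨⟨Y.hom.base y, hyU⟩, hyV⟩, e2.symm⟩
  obtain ⟨w, hw⟩ := h2
  refine ⟨w, ?_⟩
  have h3 : (pullback.fst (Red.bc U.ι Y).hom V'.ι ≫ pullback.fst Y.hom U.ι).base w =
      (pullback.fst Y.hom U.ι).base ((pullback.fst (Red.bc U.ι Y).hom V'.ι).base w) := rfl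
  rw [h3]
  exact (congrArg (fun t => (pullback.fst Y.hom U.ι).base t) hw).trans hy₁

end Groth.Agent.Lib.TorusQuotH4
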