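import Mathlib
import Groth.Prelude
import Groth.Agent.Lib.LocImg2_helper4

/-!
# The image of a homomorphism from a locally split torus to a group of multiplicative type (helper4)
-/

set_option backward.isDefEq.respectTransparency.types false
set_option autoImplicit false
set_option linter.unusedVariables false
set_option linter.unusedTactic false
set_option linter.unreachableTactic false
set_option linter.unusedSectionVars false
set_option linter.style.haveILetI false
set_option linter.deprecated false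
set_option linter.unusedSimpArgs false
set_option linter.style.longLine false
set_option maxHeartbeats 1600000

universe u

open CategoryTheory CategoryTheory.Limits MonoidalCategory CartesianMonoidalCategory MonObj GrpObj
  AlgebraicGeometry Opposite

namespace Groth.Agent.Lib.TorusQuotH4

open Groth.Agent.Lib.RedDictH8 Groth.Agent.Lib.DSDict Groth.Agent.Lib.MultGa
  Groth.Agent.Lib.MultTrivH4 Groth.Agent.Lib.ConnActH4 Groth.Agent.Lib.TwConstFinH4
  Groth.Agent.Lib.MTHomH4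

/-! ### The scheme-theoretic image as an object over the base -/

section Img

variable {S : Scheme.{u}} {H G : Over S} (f : H ⟶ G)

/-- the scheme-theoretic image of `f`, over the base. -/
noncomputable abbrev imgObj : Over S := Over.mk (f.left.imageι ≫ G.hom)

/-- the inclusion of the scheme-theoretic image. -/
noncomputable abbrev imgι : imgObj f ⟶ G := Over.homMk f.left.imageι rfl

/-- the map to the scheme-theoretic image. -/
noncomputable abbrev imgπ : H ⟶ imgObj f := Over.homMk f.left.toImage (by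
  show f.left.toImage ≫ f.left.imageι ≫ G.hom = H.hom
  rw [Scheme.Hom.toImage_imageι_assoc, Over.w])

theorem imgπ_ι : imgπ f ≫ imgι f = f := by
  apply Over.OverMorphism.ext
  exact f.left.toImage_imageι

theorem mono_imgι : Mono (imgι f) := by
  haveI : Mono (imgι f).left := (inferInstance : Mono f.left.imageι)
  exact Over.mono_of_mono_left _

set_option maxHeartbeats 3200000 in
theorem image_group [GrpObj H] [GrpObj G] [IsMonHom f] [QuasiCompact f.left]
    (hfl : Flat f.left.toImage) (hsu : Surjective f.left.toImage) :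
    ∃ (_ : GrpObj (imgObj f)), IsMonHom (imgι f) ∧ IsMonHom (imgπ f) := by
  let H' : Over S := imgObj f
  let i : H' ⟶ G := imgι f
  let f' : H ⟶ H' := imgπ f
  have hfac : f' ≫ i = f := imgπ_ι f
  haveI hci : IsClosedImmersion i.left := (inferInstance : IsClosedImmersion f.left.imageι)
  haveI : Mono i.left := inferInstance
  haveI : Mono i := Over.mono_of_mono_left i
  haveI : Flat f'.left := hfl
  haveI : Surjective f'.left := hsu
  haveI hqc : QuasiCompact f'.left := (inferInstance : QuasiCompact f.left.toImage)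
  haveI hsd : IsSchemeTheoreticallyDominant f'.left := ⟨SchImGrpH4.ker_toImage_eq_bot f.left⟩
  have hker_i : i.left.ker = f.left.ker := Scheme.IdealSheafData.ker_subschemeι _
  obtain ⟨t1, t2, t3⟩ := fpqc_tensorHom f' f'
  haveI := t1
  haveI := t2
  haveI := t3
  haveI hd3 : IsSchemeTheoreticallyDominant (f' ⊗ₘ f').left := ⟨ker_eq_bot_of_fpqc _⟩
  -- multiplication
  have hmker : i.left.ker ≤ ((i ⊗ₘ i) ≫ μ[G]).left.ker := by
    have e : (f' ⊗ₘ f') ≫ (i ⊗ₘ i) ≫ μ[G] = μ[H] ≫ f := by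
      rw [tensorHom_comp_tensorHom_assoc, hfac]
      exact (IsMonHom.mul_hom f).symm
    have e' : (f' ⊗ₘ f').left ≫ ((i ⊗ₘ i) ≫ μ[G]).left = μ[H].left ≫ f.left := by
      rw [← Over.comp_left, e, Over.comp_left]
    calc i.left.ker = f.left.ker := hker_i
      _ ≤ (μ[H].left ≫ f.left).ker := Scheme.Hom.le_ker_comp _ _
      _ = ((f' ⊗ₘ f').left ≫ ((i ⊗ₘ i) ≫ μ[G]).left).ker := by rw [e']
      _ = ((i ⊗ₘ i) ≫ μ[G]).left.ker := by
          rw [Scheme.Hom.ker_comp, Scheme.Hom.ker_eq_bot, Scheme.IdealSheafData.map_bot]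
  let mul' : H' ⊗ H' ⟶ H' :=
    Over.homMk (IsClosedImmersion.lift i.left ((i ⊗ₘ i) ≫ μ[G]).left hmker) (by
      show _ ≫ i.left ≫ G.hom = _
      rw [IsClosedImmersion.lift_fac_assoc, Over.w])
  have hm : mul' ≫ i = (i ⊗ₘ i) ≫ μ[G] := by
    ext1
    exact IsClosedImmersion.lift_fac _ _ _
  -- inverse
  have hiker : i.left.ker ≤ (i ≫ ι[G]).left.ker := by
    have e : f' ≫ i ≫ ι[G] = ι[H] ≫ f := by
      rw [reassoc_of% hfac]
      exact (GrpObj.inv_hom f).symm
    have e' : f'.left ≫ (i ≫ ι[G]).left = ι[H].left ≫ f.left := by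
      rw [← Over.comp_left, e, Over.comp_left]
    calc i.left.ker = f.left.ker := hker_i
      _ ≤ (ι[H].left ≫ f.left).ker := Scheme.Hom.le_ker_comp _ _
      _ = (f'.left ≫ (i ≫ ι[G]).left).ker := by rw [e']
      _ = (i ≫ ι[G]).left.ker := by
          rw [Scheme.Hom.ker_comp, Scheme.Hom.ker_eq_bot, Scheme.IdealSheafData.map_bot]
  let inv' : H' ⟶ H' :=
    Over.homMk (IsClosedImmersion.lift i.left (i ≫ ι[G]).left hiker) (by
      show _ ≫ i.left ≫ G.hom = _
      rw [IsClosedImmersion.lift_fac_assoc, Over.w])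
  have hi : inv' ≫ i = i ≫ ι[G] := by
    ext1
    exact IsClosedImmersion.lift_fac _ _ _
  have h1 : (η[H] ≫ f') ≫ i = η[G] := by
    rw [Category.assoc, hfac]
    exact IsMonHom.one_hom f
  letI grp : GrpObj H' := SchImGrpH4.grpObjOfMono i (η[H] ≫ f') h1 mul' hm inv' hi
  have hf'mon : IsMonHom f' := by
    refine ⟨rfl, ?_⟩
    rw [← cancel_mono i, Category.assoc, hfac, Category.assoc]
    show μ[H] ≫ f = (f' ⊗ₘ f') ≫ mul' ≫ i
    rw [hm, tensorHom_comp_tensorHom_assoc, hfac]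
    exact IsMonHom.mul_hom f
  exact ⟨grp, ⟨h1, hm⟩, hf'mon⟩

end Img

/-! ### The local structure of the image -/

theorem local_iso_img {S : Scheme.{u}} {T G : Over S} (lam : T ⟶ G) [QuasiCompact lam.left]
    (U : S.Opens) (V' : (U : Scheme.{u}).Opens) {D : Over (V' : Scheme.{u})}
    (q' : Red.bc V'.ι (Red.bc U.ι T) ⟶ D) (lam' : D ⟶ Red.bc V'.ι (Red.bc U.ι G))
    (hfac : q' ≫ lam' = (Over.pullback V'.ι).map ((Over.pullback U.ι).map lam))
    [Flat q'.left] [Surjective q'.left] [QuasiCompact q'.left] [IsClosedImmersion lam'.left] :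
    ∃ θ : pullback (Red.bc U.ι (imgObj lam)).hom V'.ι ⟶ D.left, IsIso θ ∧
      θ ≫ lam'.left = bcL ((Over.pullback U.ι).map (imgι lam)) V'.ι :=
  image_local_iso lam.left
    (pullback.fst (Red.bc U.ι T).hom V'.ι ≫ pullback.fst T.hom U.ι)
    (bcL ((Over.pullback U.ι).map lam) V'.ι)
    (pullback.fst (Red.bc U.ι G).hom V'.ι ≫ pullback.fst G.hom U.ι)
    (sqL2 lam U.ι V'.ι)
    (pullback.fst (Red.bc U.ι (imgObj lam)).hom V'.ι ≫ pullback.fst (imgObj lam).hom U.ι)
    (bcL ((Over.pullback U.ι).map (imgι lam)) V'.ι)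
    (sqL2 (imgι lam) U.ι V'.ι) q'.left lam'.left (ker_eq_bot_of_fpqc q'.left) (by
      rw [← Over.comp_left, hfac])

theorem split_of_local_iso {S : Scheme.{u}} {E G : Over S} [GrpObj E] [GrpObj G] (j : E ⟶ G)
    [IsMonHom j] (U : S.Opens) (V' : (U : Scheme.{u}).Opens) (r' : ℕ)
    (lam' : Red.DS (V' : Scheme.{u}) (Fin r' → ℤ) ⟶ Red.bc V'.ι (Red.bc U.ι G)) [IsMonHom lam']
    [Mono lam']
    (θ : pullback (Red.bc U.ι E).hom V'.ι ⟶ (Red.DS (V' : Scheme.{u}) (Fin r' → ℤ)).left)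
    [IsIso θ] (hθ : θ ≫ lam'.left = bcL ((Over.pullback U.ι).map j) V'.ι)
    (s : S) (hsU : s ∈ U) (hsV' : (⟨s, hsU⟩ : U) ∈ V') :
    ∃ V : S.Opens, s ∈ V ∧ ∃ r : ℕ, Red.IsSplitTorusWith (Fin r → ℤ) (Red.bc V.ι E) := by
  obtain ⟨θ', hθ'⟩ : ∃ θ' : Red.bc V'.ι (Red.bc U.ι E) ⟶ Red.DS (V' : Scheme.{u}) (Fin r' → ℤ),
      θ'.left = θ :=
    ⟨Over.homMk θ (by
      have e1 : (Red.DS (V' : Scheme.{u}) (Fin r' → ℤ)).hom =
          lam'.left ≫ (Red.bc V'.ι (Red.bc U.ι G)).hom := (Over.w lam').symm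
      rw [e1, ← Category.assoc, hθ]
      exact bcL_snd ((Over.pullback U.ι).map j) V'.ι), rfl⟩
  have hfac : θ' ≫ lam' = (Over.pullback V'.ι).map ((Over.pullback U.ι).map j) := by
    apply Over.OverMorphism.ext
    show θ'.left ≫ lam'.left = bcL ((Over.pullback U.ι).map j) V'.ι
    rw [hθ', hθ]
  have hmon : IsMonHom θ' := by
    apply isMonHom_of_comp_mono θ' lam'
    · rw [hfac]
      infer_instance
    · intro Z a b hab
      exact (cancel_mono lam').mp hab
  haveI := hmon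
  haveI : IsIso θ'.left := by
    rw [hθ']
    infer_instance
  haveI : IsIso θ' := (isIso_left_iff θ').mp inferInstance
  haveI : IsMonHom (asIso θ').hom := hmon
  have hs' : Red.IsSplitTorusWith (Fin r' → ℤ) (Red.bc V'.ι (Red.bc U.ι E)) :=
    ⟨Grp.mkIso' (asIso θ')⟩
  obtain ⟨eQ⟩ := hs'
  obtain ⟨c1, cinv, hc1, hcinv, hh1, hh2⟩ := Groth.Agent.Lib.DiagHom.iso_data eQ
  haveI := hc1
  haveI := hcinv
  obtain ⟨pQ'⟩ := exists_transport (Red.bc U.ι E) V'.ι c1 cinv hh1 hh2 (𝟙 (V' : Scheme.{u})) V'.ι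
    (Category.id_comp _)
  obtain ⟨V, hVmem⟩ : ∃ V : S.Opens, ∀ v, v ∈ V ↔ v ∈ U.ι.base '' (V' : Set U) :=
    ⟨⟨U.ι.base '' (V' : Set U), U.ι.isOpenEmbedding.isOpenMap _ V'.isOpen⟩, fun v => Iff.rfl⟩
  obtain ⟨ρ, hρ1, hρ2⟩ := lift_into U V' V.ι (fun t => (hVmem _).mp t.2)
  obtain ⟨ρ', hρ'⟩ : ∃ ρ' : (V : Scheme.{u}) ⟶ (V' : Scheme.{u}), ρ' ≫ V'.ι = ρ :=
    ⟨IsOpenImmersion.lift V'.ι ρ (by
      rintro _ ⟨t, rfl⟩
      exact ⟨⟨ρ.base t, hρ2 t⟩, rfl⟩), IsOpenImmersion.lift_fac _ _ _⟩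
  have hsp := split_of_restrict (V'.ι ≫ U.ι) (ptIso_bc_comp U.ι V'.ι pQ') ρ' V.ι (by
    rw [← Category.assoc, hρ', hρ1])
  exact ⟨V, (hVmem s).mpr ⟨⟨s, hsU⟩, hsV', rfl⟩, r', hsp⟩

/-! ### The global image theorem -/

theorem global_image {S : Scheme.{u}} {T G : Over S} [GrpObj T] [GrpObj G]
    (hG : SGA3x.IsMultTypeFT G)
    (hT : ∀ s : ↥S, ∃ U : S.Opens, s ∈ U ∧ ∃ r : ℕ,
      Red.IsSplitTorusWith (Fin r → ℤ) (Red.bc U.ι T))
    (lam : T ⟶ G) [IsMonHom lam] :
    ∃ (E : Over S) (_ : GrpObj E) (q : T ⟶ E) (j : E ⟶ G), IsMonHom q ∧ IsMonHom j ∧ Mono j ∧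
      q ≫ j = lam ∧
      ∀ s : ↥S, ∃ U : S.Opens, s ∈ U ∧ ∃ r : ℕ,
        Red.IsSplitTorusWith (Fin r → ℤ) (Red.bc U.ι E) := by
  have hloc : ∀ s : S, ∃ (U : S.Opens) (hsU : s ∈ U) (V' : (U : Scheme.{u}).Opens),
      (⟨s, hsU⟩ : U) ∈ V' ∧
      ∃ (r' : ℕ) (q' : Red.bc V'.ι (Red.bc U.ι T) ⟶ Red.DS (V' : Scheme.{u}) (Fin r' → ℤ))
        (lam' : Red.DS (V' : Scheme.{u}) (Fin r' → ℤ) ⟶ Red.bc V'.ι (Red.bc U.ι G)),
        IsMonHom q' ∧ IsMonHom lam' ∧ Mono lam' ∧
        q' ≫ lam' = (Over.pullback V'.ι).map ((Over.pullback U.ι).map lam) ∧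
        Flat q'.left ∧ Surjective q'.left ∧ QuasiCompact q'.left ∧
        IsClosedImmersion lam'.left := by
    intro s
    obtain ⟨U, hsU, r, hsplit⟩ := hT s
    have hGU := isMultTypeFT_bc_open hG U
    obtain ⟨V', hsV', r', q', lam', h1, h2, h3, h4, h5, h6, h7⟩ :=
      local_image r hsplit hGU ((Over.pullback U.ι).map lam) (⟨s, hsU⟩ : U)
    haveI := h2
    haveI := h3
    have hGV := isMultTypeFT_bc_open hGU V'
    have hfg : AddGroup.FG (Fin r' → ℤ) := Module.Finite.iff_addGroup_fg.mp inferInstance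
    have hci := mono_closedImm _ _ (isMultTypeFT_DS (V' : Scheme.{u}) _ hfg) hGV lam'
    exact ⟨U, hsU, V', hsV', r', q', lam', h1, h2, h3, h4, h5, h6, h7, hci⟩
  choose U hsU V' hsV' r' q' lam' hq'mon hlam'mon hlam'mono hfac hq'fl hq'su hq'qc hlam'ci
    using hloc
  have hgW : ∀ s : ↥S, bcL ((Over.pullback (U s).ι).map lam) (V' s).ι =
      (q' s).left ≫ (lam' s).left := by
    intro s
    rw [← Over.comp_left, hfac s]
  haveI hlamqc : QuasiCompact lam.left := by
    refine P_over_cover (P := (@QuasiCompact : MorphismProperty Scheme.{u}))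
      (fun s : ↥S => pullback (Red.bc (U s).ι G).hom (V' s).ι)
      (fun s => pullback.fst (Red.bc (U s).ι G).hom (V' s).ι ≫ pullback.fst G.hom (U s).ι)
      (fun y => ?_) lam.left
      (fun s : ↥S => pullback (Red.bc (U s).ι T).hom (V' s).ι)
      (fun s => pullback.fst (Red.bc (U s).ι T).hom (V' s).ι ≫ pullback.fst T.hom (U s).ι)
      (fun s => bcL ((Over.pullback (U s).ι).map lam) (V' s).ι)
      (fun s => sqL2 lam (U s).ι (V' s).ι) (fun s => ?_)
    · obtain ⟨w, hw⟩ := cover_nested G (U (G.hom.base y)) (V' (G.hom.base y)) y (hsU _) (hsV' _)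
      exact ⟨G.hom.base y, w, hw⟩
    · rw [hgW s]
      haveI := hq'qc s
      haveI := hlam'ci s
      exact (inferInstance : QuasiCompact ((q' s).left ≫ (lam' s).left))
  have hθex : ∀ s : ↥S, ∃ θ : pullback (Red.bc (U s).ι (imgObj lam)).hom (V' s).ι ⟶
      (Red.DS ((V' s : (U s : Scheme.{u}).Opens) : Scheme.{u}) (Fin (r' s) → ℤ)).left,
      IsIso θ ∧ θ ≫ (lam' s).left = bcL ((Over.pullback (U s).ι).map (imgι lam)) (V' s).ι := by
    intro s
    haveI := hq'fl s
    haveI := hq'su s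
    haveI := hq'qc s
    haveI := hlam'ci s
    exact local_iso_img lam (U s) (V' s) (q' s) (lam' s) (hfac s)
  choose θ hθiso hθ using hθex
  -- the map to the image is faithfully flat
  have hqP : (@Flat ⊓ @Surjective : MorphismProperty Scheme.{u}) (imgπ lam).left := by
    refine P_over_cover (P := (@Flat ⊓ @Surjective : MorphismProperty Scheme.{u}))
      (fun s : ↥S => pullback (Red.bc (U s).ι (imgObj lam)).hom (V' s).ι)
      (fun s => pullback.fst (Red.bc (U s).ι (imgObj lam)).hom (V' s).ι ≫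
        pullback.fst (imgObj lam).hom (U s).ι)
      (fun y => ?_) (imgπ lam).left
      (fun s : ↥S => pullback (Red.bc (U s).ι T).hom (V' s).ι)
      (fun s => pullback.fst (Red.bc (U s).ι T).hom (V' s).ι ≫ pullback.fst T.hom (U s).ι)
      (fun s => bcL ((Over.pullback (U s).ι).map (imgπ lam)) (V' s).ι)
      (fun s => sqL2 (imgπ lam) (U s).ι (V' s).ι) (fun s => ?_)
    · obtain ⟨w, hw⟩ := cover_nested (imgObj lam) (U ((imgObj lam).hom.base y))
        (V' ((imgObj lam).hom.base y)) y (hsU _) (hsV' _)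
      exact ⟨(imgObj lam).hom.base y, w, hw⟩
    · haveI := hθiso s
      haveI := hlam'ci s
      haveI : Mono (lam' s).left := inferInstance
      have e1 : bcL ((Over.pullback (U s).ι).map (imgπ lam)) (V' s).ι ≫ θ s = (q' s).left := by
        apply (cancel_mono (lam' s).left).mp
        rw [Category.assoc, hθ s, ← hgW s, ← Over.comp_left, ← Functor.map_comp,
          ← Functor.map_comp, imgπ_ι]
      have e2 : bcL ((Over.pullback (U s).ι).map (imgπ lam)) (V' s).ι =
          (q' s).left ≫ inv (θ s) := by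
        rw [← e1, Category.assoc, IsIso.hom_inv_id, Category.comp_id]
      rw [e2]
      exact (MorphismProperty.cancel_right_of_respectsIso
        (@Flat ⊓ @Surjective : MorphismProperty Scheme.{u}) _ _).mpr ⟨hq'fl s, hq'su s⟩
  obtain ⟨grp, hjmon, hqmon⟩ := image_group lam hqP.1 hqP.2
  letI : GrpObj (imgObj lam) := grp
  haveI := hjmon
  refine ⟨imgObj lam, grp, imgπ lam, imgι lam, hqmon, hjmon, mono_imgι lam, imgπ_ι lam, ?_⟩
  intro s
  haveI := hlam'mon s
  haveI := hlam'mono s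
  haveI := hθiso s
  exact split_of_local_iso (imgι lam) (U s) (V' s) (r' s) (lam' s) (θ s) (hθ s) s (hsU s) (hsV' s)

end Groth.Agent.Lib.TorusQuotH4
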