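import Mathlib
import Groth.Prelude
import Groth.Agent.Lib.TorusImg2_helper4

/-!
# The greatest split subtorus of a group of multiplicative type (helper4)
-/

set_option backward.isDefEq.respectTransparency.types false
set_option autoImplicit false
set_option linter.unusedVariables false
set_option linter.unusedTactic false
set_option linter.unreachableTactic false
set_option linter.unusedSectionVars false
set_option linter.style.haveILetI false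
set_option linter.deprecated false
set_option linter.unusedSimpArgs false
set_option linter.style.longLine false
set_option maxHeartbeats 1600000

universe u

open CategoryTheory CategoryTheory.Limits MonoidalCategory CartesianMonoidalCategory MonObj GrpObj
  AlgebraicGeometry Opposite

namespace Groth.Agent.Lib.TorusQuotH4

open Groth.Agent.Lib.RedDictH8 Groth.Agent.Lib.DSDict Groth.Agent.Lib.MultGa
  Groth.Agent.Lib.MultTrivH4 Groth.Agent.Lib.ConnActH4 Groth.Agent.Lib.TwConstFinH4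
  Groth.Agent.Lib.MTHomH4


/-! ### The greatest split subtorus -/

theorem mul4 {Γ : Type*} [Monoid Γ] (A B C D : Γ) (h : B * C = C * B) :
    (A * B) * (C * D) = (A * C) * (B * D) := by
  rw [_root_.mul_assoc A B, ← _root_.mul_assoc B C D, h, _root_.mul_assoc C B D,
    ← _root_.mul_assoc A C]

theorem main16612 {S : Scheme.{u}} [ConnectedSpace ↥S] {G : Over S} [GrpObj G]
    (hG : SGA3x.IsMultTypeFT G) :
    ∃ (T : Over S) (_ : GrpObj T) (j : T ⟶ G) (r : ℕ), IsMonHom j ∧ Mono j ∧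
      Red.IsSplitTorusWith (Fin r → ℤ) T ∧
      ∀ (T' : Over S) [GrpObj T'] (j' : T' ⟶ G) [IsMonHom j'] [Mono j'] (r' : ℕ),
        Red.IsSplitTorusWith (Fin r' → ℤ) T' → ∃ g : T' ⟶ T, g ≫ j = j' := by
  obtain ⟨T, iT, j, r, hj1, hj2, hs, hmaxT⟩ := main16614 hG
  refine ⟨T, iT, j, r, hj1, hj2, hs, ?_⟩
  intro T' iT' j' hj'1 hj'2 r' hs'
  haveI := hj1
  haveI := hj2
  obtain ⟨eT⟩ := hs
  obtain ⟨a₁, a₁inv, ha₁, ha₁inv, h11, h12⟩ := Groth.Agent.Lib.DiagHom.iso_data eT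
  obtain ⟨eT'⟩ := hs'
  obtain ⟨a₂, a₂inv, ha₂, ha₂inv, h21, h22⟩ := Groth.Agent.Lib.DiagHom.iso_data eT'
  haveI := ha₁
  haveI := ha₁inv
  haveI := ha₂
  haveI := ha₂inv
  obtain ⟨n, E, Einv, hE1, hE2⟩ : ∃ (n : ℕ) (E : (Fin r → ℤ) × (Fin r' → ℤ) →+ (Fin n → ℤ))
      (Einv : (Fin n → ℤ) →+ (Fin r → ℤ) × (Fin r' → ℤ)),
      (∀ v, Einv (E v) = v) ∧ (∀ w, E (Einv w) = w) :=
    ⟨Module.finrank ℤ ((Fin r → ℤ) × (Fin r' → ℤ)),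
      (Module.finBasis ℤ ((Fin r → ℤ) × (Fin r' → ℤ))).equivFun.toLinearMap.toAddMonoidHom,
      (Module.finBasis ℤ ((Fin r → ℤ) × (Fin r' → ℤ))).equivFun.symm.toLinearMap.toAddMonoidHom,
      fun v => (Module.finBasis ℤ ((Fin r → ℤ) × (Fin r' → ℤ))).equivFun.symm_apply_apply v,
      fun w => (Module.finBasis ℤ ((Fin r → ℤ) × (Fin r' → ℤ))).equivFun.apply_symm_apply w⟩
  obtain ⟨ψ₁, hψ₁⟩ : ∃ ψ₁ : (Fin r → ℤ) →+ (Fin n → ℤ), ∀ m, ψ₁ m = E (m, 0) :=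
    ⟨E.comp (AddMonoidHom.inl (Fin r → ℤ) (Fin r' → ℤ)), fun m => rfl⟩
  obtain ⟨ψ₂, hψ₂⟩ : ∃ ψ₂ : (Fin r' → ℤ) →+ (Fin n → ℤ), ∀ m, ψ₂ m = E (0, m) :=
    ⟨E.comp (AddMonoidHom.inr (Fin r → ℤ) (Fin r' → ℤ)), fun m => rfl⟩
  obtain ⟨θ₁, hθ₁⟩ : ∃ θ₁ : (Fin n → ℤ) →+ (Fin r → ℤ), ∀ w, θ₁ w = (Einv w).1 :=
    ⟨(AddMonoidHom.fst (Fin r → ℤ) (Fin r' → ℤ)).comp Einv, fun w => rfl⟩
  obtain ⟨θ₂, hθ₂⟩ : ∃ θ₂ : (Fin n → ℤ) →+ (Fin r' → ℤ), ∀ w, θ₂ w = (Einv w).2 :=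
    ⟨(AddMonoidHom.snd (Fin r → ℤ) (Fin r' → ℤ)).comp Einv, fun w => rfl⟩
  have e11 : θ₁.comp ψ₁ = AddMonoidHom.id _ := by
    apply AddMonoidHom.ext
    intro m
    show θ₁ (ψ₁ m) = m
    rw [hθ₁, hψ₁, hE1]
  have e12 : θ₁.comp ψ₂ = 0 := by
    apply AddMonoidHom.ext
    intro m
    show θ₁ (ψ₂ m) = 0
    rw [hθ₁, hψ₂, hE1]
  have e22 : θ₂.comp ψ₂ = AddMonoidHom.id _ := by
    apply AddMonoidHom.ext
    intro m
    show θ₂ (ψ₂ m) = m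
    rw [hθ₂, hψ₂, hE1]
  have e21 : θ₂.comp ψ₁ = 0 := by
    apply AddMonoidHom.ext
    intro m
    show θ₂ (ψ₁ m) = 0
    rw [hθ₂, hψ₁, hE1]
  -- the homomorphism from the product
  have hιπ11 : Red.DSmap S θ₁ ≫ Red.DSmap S ψ₁ = 𝟙 (Red.DS S (Fin r → ℤ)) := by
    rw [Groth.Agent.Lib.DiagHom.DSmap_comp, e11, Groth.Agent.Lib.DiagHom.DSmap_id]
  have hιπ12 : Red.DSmap S θ₁ ≫ Red.DSmap S ψ₂ = 1 := by
    rw [Groth.Agent.Lib.DiagHom.DSmap_comp, e12, Groth.Agent.Lib.DiagHom.DSmap_zero]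
  have hιπ22 : Red.DSmap S θ₂ ≫ Red.DSmap S ψ₂ = 𝟙 (Red.DS S (Fin r' → ℤ)) := by
    rw [Groth.Agent.Lib.DiagHom.DSmap_comp, e22, Groth.Agent.Lib.DiagHom.DSmap_id]
  have hιπ21 : Red.DSmap S θ₂ ≫ Red.DSmap S ψ₁ = 1 := by
    rw [Groth.Agent.Lib.DiagHom.DSmap_comp, e21, Groth.Agent.Lib.DiagHom.DSmap_zero]
  obtain ⟨f₁, hf₁⟩ : ∃ f₁ : Red.DS S (Fin n → ℤ) ⟶ G, f₁ = Red.DSmap S ψ₁ ≫ a₁inv ≫ j :=
    ⟨_, rfl⟩
  obtain ⟨f₂, hf₂⟩ : ∃ f₂ : Red.DS S (Fin n → ℤ) ⟶ G, f₂ = Red.DSmap S ψ₂ ≫ a₂inv ≫ j' :=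
    ⟨_, rfl⟩
  haveI : IsMonHom f₁ := by
    rw [hf₁]
    infer_instance
  haveI : IsMonHom f₂ := by
    rw [hf₂]
    infer_instance
  obtain ⟨lam, hlam⟩ : ∃ lam : Red.DS S (Fin n → ℤ) ⟶ G, lam = f₁ * f₂ := ⟨_, rfl⟩
  haveI : IsMonHom lam := isMonHom_of_pointwise lam (fun Z x y => by
    rw [hlam, MonObj.comp_mul, MonObj.comp_mul, MonObj.comp_mul, MonObj.mul_comp,
      MonObj.mul_comp]
    exact mul4 _ _ _ _ (multType_comm G hG Z _ _))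
  have hι1lam : Red.DSmap S θ₁ ≫ lam = a₁inv ≫ j := by
    rw [hlam, MonObj.comp_mul, hf₁, hf₂, ← Category.assoc, hιπ11, Category.id_comp,
      ← Category.assoc (Red.DSmap S θ₁), hιπ12, MonObj.one_comp, _root_.mul_one]
  have hι2lam : Red.DSmap S θ₂ ≫ lam = a₂inv ≫ j' := by
    rw [hlam, MonObj.comp_mul, hf₁, hf₂, ← Category.assoc, hιπ21, MonObj.one_comp,
      ← Category.assoc (Red.DSmap S θ₂), hιπ22, Category.id_comp, _root_.one_mul]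
  obtain ⟨r'', q', lam', hr'', hq'mon, hlam'mon, hmono, hfac⟩ :=
    image_split (T := Red.DS S (Fin n → ℤ)) n (𝟙 _) (𝟙 _) (Category.id_comp _)
      (Category.id_comp _) hG lam
  haveI := hq'mon
  haveI := hlam'mon
  haveI := hmono
  obtain ⟨g₁, hg₁⟩ : ∃ g₁ : T ⟶ Red.DS S (Fin r'' → ℤ), g₁ = a₁ ≫ Red.DSmap S θ₁ ≫ q' :=
    ⟨_, rfl⟩
  obtain ⟨g₂, hg₂⟩ : ∃ g₂ : T' ⟶ Red.DS S (Fin r'' → ℤ), g₂ = a₂ ≫ Red.DSmap S θ₂ ≫ q' :=
    ⟨_, rfl⟩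
  have hg₁j : g₁ ≫ lam' = j := by
    rw [hg₁, Category.assoc, Category.assoc, hfac, hι1lam, ← Category.assoc, h11,
      Category.id_comp]
  have hg₂j : g₂ ≫ lam' = j' := by
    rw [hg₂, Category.assoc, Category.assoc, hfac, hι2lam, ← Category.assoc, h21,
      Category.id_comp]
  haveI : IsIso g₁ := hmaxT (Red.DS S (Fin r'' → ℤ)) lam' r'' g₁ (Nonempty.intro (Iso.refl _)) hg₁j
  refine ⟨g₂ ≫ inv g₁, ?_⟩
  have h3 : inv g₁ ≫ j = lam' := by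
    rw [← hg₁j, IsIso.inv_hom_id_assoc]
  rw [Category.assoc, h3, hg₂j]

end Groth.Agent.Lib.TorusQuotH4
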