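import Mathlib
import Groth.Prelude
import Groth.Agent.Lib.LocImg3_helper4
import Groth.Agent.Lib.TorusImg3_helper4

/-!
# Locally split subtori of a group of multiplicative type form a directed family (helper4)
-/

set_option backward.isDefEq.respectTransparency.types false
set_option autoImplicit false
set_option linter.unusedVariables false
set_option linter.unusedTactic false
set_option linter.unreachableTactic false
set_option linter.unusedSectionVars false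
set_option linter.style.haveILetI false
set_option linter.deprecated false
set_option linter.unusedSimpArgs false
set_option linter.style.longLine false
set_option maxHeartbeats 1600000

universe u

open CategoryTheory CategoryTheory.Limits MonoidalCategory CartesianMonoidalCategory MonObj GrpObj
  AlgebraicGeometry Opposite

namespace Groth.Agent.Lib.TorusQuotH4

open Groth.Agent.Lib.RedDictH8 Groth.Agent.Lib.DSDict Groth.Agent.Lib.MultGa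
  Groth.Agent.Lib.MultTrivH4 Groth.Agent.Lib.ConnActH4 Groth.Agent.Lib.TwConstFinH4
  Groth.Agent.Lib.MTHomH4

/-! ### Charts of a product -/

section Prod

variable {S W : Scheme.{u}} {E₁ E₂ : Over S} [GrpObj E₁] [GrpObj E₂] {jj : W ⟶ S}
  {M₁ M₂ : Type} [AddCommGroup M₁] [AddCommGroup M₂]
  (P₁ : PtIso E₁ jj M₁) (P₂ : PtIso E₂ jj M₂)

/-- the chart of a product: forward direction. -/
noncomputable def prodTo (T'' : Over W) (x : (Over.map jj).obj T'' ⟶ E₁ ⊗ E₂) :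
    T'' ⟶ Red.DS W (M₁ × M₂) :=
  (P₁.toD T'' (x ≫ fst E₁ E₂) ≫ Red.DSmap W (AddMonoidHom.fst M₁ M₂)) *
    (P₂.toD T'' (x ≫ snd E₁ E₂) ≫ Red.DSmap W (AddMonoidHom.snd M₁ M₂))

/-- the chart of a product: backward direction. -/
noncomputable def prodOf (T'' : Over W) (d : T'' ⟶ Red.DS W (M₁ × M₂)) :
    (Over.map jj).obj T'' ⟶ E₁ ⊗ E₂ :=
  lift (P₁.ofD T'' (d ≫ Red.DSmap W (AddMonoidHom.inl M₁ M₂)))
    (P₂.ofD T'' (d ≫ Red.DSmap W (AddMonoidHom.inr M₁ M₂)))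

theorem chr_prodTo (T'' : Over W) (x : (Over.map jj).obj T'' ⟶ E₁ ⊗ E₂) (m : M₁ × M₂) :
    chr (prodTo P₁ P₂ T'' x) m =
      chr (P₁.toD T'' (x ≫ fst E₁ E₂)) m.1 * chr (P₂.toD T'' (x ≫ snd E₁ E₂)) m.2 := by
  unfold prodTo
  rw [chr_mul, chr_DSmap, chr_DSmap]
  rfl

theorem prodTo_inl (T'' : Over W) (x : (Over.map jj).obj T'' ⟶ E₁ ⊗ E₂) :
    prodTo P₁ P₂ T'' x ≫ Red.DSmap W (AddMonoidHom.inl M₁ M₂) = P₁.toD T'' (x ≫ fst E₁ E₂) := by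
  apply chr_injective
  intro m
  rw [chr_DSmap, chr_prodTo]
  show chr (P₁.toD T'' (x ≫ fst E₁ E₂)) m * chr (P₂.toD T'' (x ≫ snd E₁ E₂)) 0 = _
  rw [chr_zero, _root_.mul_one]

theorem prodTo_inr (T'' : Over W) (x : (Over.map jj).obj T'' ⟶ E₁ ⊗ E₂) :
    prodTo P₁ P₂ T'' x ≫ Red.DSmap W (AddMonoidHom.inr M₁ M₂) = P₂.toD T'' (x ≫ snd E₁ E₂) := by
  apply chr_injective
  intro m
  rw [chr_DSmap, chr_prodTo]
  show chr (P₁.toD T'' (x ≫ fst E₁ E₂)) 0 * chr (P₂.toD T'' (x ≫ snd E₁ E₂)) m = _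
  rw [chr_zero, _root_.one_mul]

/-- the chart of a product of two groups with charts. -/
noncomputable def ptProd : PtIso (E₁ ⊗ E₂) jj (M₁ × M₂) where
  toD := prodTo P₁ P₂
  ofD := prodOf P₁ P₂
  of_to := by
    intro T'' x
    show lift (P₁.ofD T'' (prodTo P₁ P₂ T'' x ≫ Red.DSmap W (AddMonoidHom.inl M₁ M₂)))
      (P₂.ofD T'' (prodTo P₁ P₂ T'' x ≫ Red.DSmap W (AddMonoidHom.inr M₁ M₂))) = x
    rw [prodTo_inl, prodTo_inr, P₁.of_to, P₂.of_to]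
    apply CartesianMonoidalCategory.hom_ext
    · rw [lift_fst]
    · rw [lift_snd]
  to_of := by
    intro T'' d
    apply chr_injective
    intro m
    rw [chr_prodTo]
    unfold prodOf
    rw [lift_fst, lift_snd, P₁.to_of, P₂.to_of, chr_DSmap, chr_DSmap, ← chr_add]
    congr 1
    exact Prod.ext (by simp) (by simp)
  to_mul := by
    intro T'' x y
    apply chr_injective
    intro m
    rw [chr_mul, chr_prodTo, chr_prodTo, chr_prodTo, MonObj.mul_comp, MonObj.mul_comp,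
      P₁.to_mul, P₂.to_mul, chr_mul, chr_mul]
    exact mul_mul_mul_comm _ _ _ _
  to_nat := by
    intro T''' T'' c x
    show prodTo P₁ P₂ T''' ((Over.map jj).map c ≫ x) = c ≫ prodTo P₁ P₂ T'' x
    unfold prodTo
    rw [Category.assoc, Category.assoc, P₁.to_nat, P₂.to_nat, MonObj.comp_mul]
    simp only [Category.assoc]

end Prod

/-! ### Products of locally split tori are locally split -/

theorem prod_locally_split {S : Scheme.{u}} {E₁ E₂ : Over S} [GrpObj E₁] [GrpObj E₂]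
    (h₁ : ∀ s : ↥S, ∃ U : S.Opens, s ∈ U ∧ ∃ r : ℕ,
      Red.IsSplitTorusWith (Fin r → ℤ) (Red.bc U.ι E₁))
    (h₂ : ∀ s : ↥S, ∃ U : S.Opens, s ∈ U ∧ ∃ r : ℕ,
      Red.IsSplitTorusWith (Fin r → ℤ) (Red.bc U.ι E₂)) :
    ∀ s : ↥S, ∃ U : S.Opens, s ∈ U ∧ ∃ r : ℕ,
      Red.IsSplitTorusWith (Fin r → ℤ) (Red.bc U.ι (E₁ ⊗ E₂)) := by
  intro s
  obtain ⟨U₁, hs₁, r₁, ⟨eA⟩⟩ := h₁ s
  obtain ⟨U₂, hs₂, r₂, ⟨eB⟩⟩ := h₂ s
  obtain ⟨a1, ainv, ha1, hainv, h11, h12⟩ := Groth.Agent.Lib.DiagHom.iso_data eA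
  obtain ⟨b1, binv, hb1, hbinv, h21, h22⟩ := Groth.Agent.Lib.DiagHom.iso_data eB
  haveI := ha1
  haveI := hainv
  haveI := hb1
  haveI := hbinv
  obtain ⟨P₁⟩ := exists_transport E₁ U₁.ι a1 ainv h11 h12
    (S.homOfLE (inf_le_left : U₁ ⊓ U₂ ≤ U₁)) (U₁ ⊓ U₂).ι (S.homOfLE_ι _)
  obtain ⟨P₂⟩ := exists_transport E₂ U₂.ι b1 binv h21 h22
    (S.homOfLE (inf_le_right : U₁ ⊓ U₂ ≤ U₂)) (U₁ ⊓ U₂).ι (S.homOfLE_ι _)
  obtain ⟨n, E, Einv, hE1, hE2⟩ : ∃ (n : ℕ) (E : (Fin r₁ → ℤ) × (Fin r₂ → ℤ) →+ (Fin n → ℤ))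
      (Einv : (Fin n → ℤ) →+ (Fin r₁ → ℤ) × (Fin r₂ → ℤ)),
      (∀ v, Einv (E v) = v) ∧ (∀ w, E (Einv w) = w) :=
    ⟨Module.finrank ℤ ((Fin r₁ → ℤ) × (Fin r₂ → ℤ)),
      (Module.finBasis ℤ ((Fin r₁ → ℤ) × (Fin r₂ → ℤ))).equivFun.toLinearMap.toAddMonoidHom,
      (Module.finBasis ℤ ((Fin r₁ → ℤ) × (Fin r₂ → ℤ))).equivFun.symm.toLinearMap.toAddMonoidHom,
      fun v => (Module.finBasis ℤ ((Fin r₁ → ℤ) × (Fin r₂ → ℤ))).equivFun.symm_apply_apply v,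
      fun w => (Module.finBasis ℤ ((Fin r₁ → ℤ) × (Fin r₂ → ℤ))).equivFun.apply_symm_apply w⟩
  have e1 : Einv.comp E = AddMonoidHom.id _ := by
    apply AddMonoidHom.ext
    intro v
    exact hE1 v
  have e2 : E.comp Einv = AddMonoidHom.id _ := by
    apply AddMonoidHom.ext
    intro w
    exact hE2 w
  refine ⟨U₁ ⊓ U₂, ⟨hs₁, hs₂⟩, n, ?_⟩
  exact split_of_restrict (U₁ ⊓ U₂).ι (ptTwist (ptProd P₁ P₂) Einv E e1 e2) (𝟙 _) (U₁ ⊓ U₂).ι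
    (Category.id_comp _)

/-! ### Directedness -/

theorem main19792 {S : Scheme.{u}} {G : Over S} [GrpObj G]
    (hG : SGA3x.IsMultTypeFT G) {E₁ E₂ : Over S} [GrpObj E₁] [GrpObj E₂]
    (j₁ : E₁ ⟶ G) [IsMonHom j₁] [Mono j₁] (j₂ : E₂ ⟶ G) [IsMonHom j₂] [Mono j₂]
    (h₁ : ∀ s : ↥S, ∃ U : S.Opens, s ∈ U ∧ ∃ r : ℕ,
      Red.IsSplitTorusWith (Fin r → ℤ) (Red.bc U.ι E₁))
    (h₂ : ∀ s : ↥S, ∃ U : S.Opens, s ∈ U ∧ ∃ r : ℕ,
      Red.IsSplitTorusWith (Fin r → ℤ) (Red.bc U.ι E₂)) :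
    ∃ (E₃ : Over S) (_ : GrpObj E₃) (j₃ : E₃ ⟶ G) (g₁ : E₁ ⟶ E₃) (g₂ : E₂ ⟶ E₃),
      IsMonHom j₃ ∧ Mono j₃ ∧
      (∀ s : ↥S, ∃ U : S.Opens, s ∈ U ∧ ∃ r : ℕ,
        Red.IsSplitTorusWith (Fin r → ℤ) (Red.bc U.ι E₃)) ∧
      g₁ ≫ j₃ = j₁ ∧ g₂ ≫ j₃ = j₂ := by
  obtain ⟨f₁, hf₁⟩ : ∃ f₁ : E₁ ⊗ E₂ ⟶ G, f₁ = fst E₁ E₂ ≫ j₁ := ⟨_, rfl⟩
  obtain ⟨f₂, hf₂⟩ : ∃ f₂ : E₁ ⊗ E₂ ⟶ G, f₂ = snd E₁ E₂ ≫ j₂ := ⟨_, rfl⟩
  haveI : IsMonHom f₁ := by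
    rw [hf₁]
    infer_instance
  haveI : IsMonHom f₂ := by
    rw [hf₂]
    infer_instance
  obtain ⟨lam, hlam⟩ : ∃ lam : E₁ ⊗ E₂ ⟶ G, lam = f₁ * f₂ := ⟨_, rfl⟩
  haveI : IsMonHom lam := isMonHom_of_pointwise lam (fun Z x y => by
    rw [hlam, MonObj.comp_mul, MonObj.comp_mul, MonObj.comp_mul, MonObj.mul_comp,
      MonObj.mul_comp]
    exact mul4 _ _ _ _ (multType_comm G hG Z _ _))
  obtain ⟨E, grp, q, j, hq, hj, hmono, hfac, hloc⟩ :=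
    global_image hG (prod_locally_split h₁ h₂) lam
  refine ⟨E, grp, j, lift (𝟙 E₁) 1 ≫ q, lift 1 (𝟙 E₂) ≫ q, hj, hmono, hloc, ?_, ?_⟩
  · rw [Category.assoc, hfac, hlam, MonObj.comp_mul, hf₁, hf₂, ← Category.assoc, lift_fst,
      Category.id_comp, ← Category.assoc, lift_snd, MonObj.one_comp, _root_.mul_one]
  · rw [Category.assoc, hfac, hlam, MonObj.comp_mul, hf₁, hf₂, ← Category.assoc, lift_fst,
      MonObj.one_comp, ← Category.assoc, lift_snd, Category.id_comp, _root_.one_mul]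

theorem main19793 {S : Scheme.{u}} {G : Over S} [GrpObj G]
    (hG : SGA3x.IsMultTypeFT G) {E : Over S} [GrpObj E] (j : E ⟶ G) [IsMonHom j] [Mono j]
    (hE : ∀ s : ↥S, ∃ U : S.Opens, s ∈ U ∧ ∃ r : ℕ,
      Red.IsSplitTorusWith (Fin r → ℤ) (Red.bc U.ι E))
    (hmax : ∀ (E' : Over S) [GrpObj E'] (j' : E' ⟶ G) [IsMonHom j'] [Mono j'] (g : E ⟶ E'),
      (∀ s : ↥S, ∃ U : S.Opens, s ∈ U ∧ ∃ r : ℕ,
        Red.IsSplitTorusWith (Fin r → ℤ) (Red.bc U.ι E')) →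
      g ≫ j' = j → IsIso g)
    (E' : Over S) [GrpObj E'] (j' : E' ⟶ G) [IsMonHom j'] [Mono j']
    (hE' : ∀ s : ↥S, ∃ U : S.Opens, s ∈ U ∧ ∃ r : ℕ,
      Red.IsSplitTorusWith (Fin r → ℤ) (Red.bc U.ι E')) :
    ∃ g' : E' ⟶ E, g' ≫ j = j' := by
  obtain ⟨E₃, grp, j₃, g₁, g₂, hj₃, hmono₃, hloc₃, hg₁, hg₂⟩ := main19792 hG j j' hE hE'
  haveI : IsIso g₁ := @hmax E₃ grp j₃ hj₃ hmono₃ g₁ hloc₃ hg₁
  refine ⟨g₂ ≫ inv g₁, ?_⟩
  have h3 : inv g₁ ≫ j = j₃ := by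
    rw [← hg₁, IsIso.inv_hom_id_assoc]
  rw [Category.assoc, h3, hg₂]

end Groth.Agent.Lib.TorusQuotH4
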