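import Mathlib
import Groth.Prelude
import Groth.Agent.Lib.LocImg4_helper4
import Groth.Agent.Lib.SplitSub_helper4

/-!
# The greatest locally split subtorus of a group of multiplicative type over a connected base (helper4)
-/

set_option backward.isDefEq.respectTransparency.types false
set_option autoImplicit false
set_option linter.unusedVariables false
set_option linter.unusedTactic false
set_option linter.unreachableTactic false
set_option linter.unusedSectionVars false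
set_option linter.style.haveILetI false
set_option linter.deprecated false
set_option linter.unusedSimpArgs false
set_option linter.style.longLine false
set_option maxHeartbeats 1600000

universe u

open CategoryTheory CategoryTheory.Limits MonoidalCategory CartesianMonoidalCategory MonObj GrpObj
  AlgebraicGeometry Opposite

namespace Groth.Agent.Lib.TorusQuotH4

open Groth.Agent.Lib.RedDictH8 Groth.Agent.Lib.DSDict Groth.Agent.Lib.MultGa
  Groth.Agent.Lib.MultTrivH4 Groth.Agent.Lib.ConnActH4 Groth.Agent.Lib.TwConstFinH4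
  Groth.Agent.Lib.MTHomH4

/-! ### Ranks of locally split tori -/

section Rank

variable {S : Scheme.{u}}

theorem ptIso_at_pt (K : Type u) [Field K] (z : Spec (CommRingCat.of K) ⟶ S) {E : Over S}
    [GrpObj E] (U : S.Opens) (hz : ∀ t, z.base t ∈ U) {M : Type} [AddCommGroup M]
    (hs : Red.IsSplitTorusWith M (Red.bc U.ι E)) : Nonempty (PtIso E z M) := by
  obtain ⟨eA⟩ := hs
  obtain ⟨a1, ainv, ha1, hainv, h1, h2⟩ := Groth.Agent.Lib.DiagHom.iso_data eA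
  haveI := ha1
  haveI := hainv
  have hrange : Set.range z ⊆ Set.range U.ι := by
    rintro _ ⟨t, rfl⟩
    exact ⟨⟨z.base t, hz t⟩, rfl⟩
  exact exists_transport E U.ι a1 ainv h1 h2 (IsOpenImmersion.lift U.ι z hrange) z
    (IsOpenImmersion.lift_fac _ _ _)

theorem surj_of_mono_field {X Y : Over S} [GrpObj X] [GrpObj Y] (v : X ⟶ Y) [IsMonHom v]
    [Mono v] {K : Type u} [Field K] (jjW : Spec (CommRingCat.of K) ⟶ S) {M N : Type}
    [AddCommGroup M] [AddCommGroup N] (hN : AddGroup.FG N) (e : PtIso X jjW M)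
    (e' : PtIso Y jjW N) : ∃ φ : N →+ M, Function.Surjective φ := by
  obtain ⟨b, -⟩ : ∃ b : Spec (CommRingCat.of K), b = b :=
    ⟨(⟨⊥, Ideal.bot_prime⟩ : Spec (CommRingCat.of K)), rfl⟩
  obtain ⟨W₀, φ, hbW, hc1, hc2⟩ := chart_main v jjW e e' hN b
  obtain ⟨idK, -⟩ : ∃ idK : Spec (CommRingCat.of K) ⟶ Spec (CommRingCat.of K), idK = idK :=
    ⟨𝟙 _, rfl⟩
  have hz : ∀ t, idK.base t ∈ W₀ := by
    intro t
    haveI : Subsingleton (PrimeSpectrum K) := inferInstance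
    have ht : idK.base t = b := Subsingleton.elim (α := PrimeSpectrum K) _ _
    rw [ht]
    exact hbW
  obtain ⟨h1, h2⟩ := hc2 K idK hz
  have hi : InjOn v (idK ≫ jjW) := fun T'' x x' hxx => (cancel_mono v).mp hxx
  exact ⟨φ, h1 hi⟩

theorem rank_unique {E : Over S} [GrpObj E] (s : S) (U U' : S.Opens) (hs : s ∈ U)
    (hs' : s ∈ U') (r r' : ℕ) (h : Red.IsSplitTorusWith (Fin r → ℤ) (Red.bc U.ι E))
    (h' : Red.IsSplitTorusWith (Fin r' → ℤ) (Red.bc U'.ι E)) : r = r' := by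
  obtain ⟨P⟩ := ptIso_at_pt (S.residueField s) (S.fromSpecResidueField s) U
    (mem_of_residue_pt s U hs) h
  obtain ⟨P'⟩ := ptIso_at_pt (S.residueField s) (S.fromSpecResidueField s) U'
    (mem_of_residue_pt s U' hs') h'
  obtain ⟨e⟩ := addEquiv_of_ptIso (S.fromSpecResidueField s) (fg_fin r') P P'
  exact (fin_rank_eq e).symm

theorem rank_le_of_mono {E E' : Over S} [GrpObj E] [GrpObj E'] (g : E ⟶ E') [IsMonHom g]
    [Mono g] (s : S) (U U' : S.Opens) (hs : s ∈ U) (hs' : s ∈ U') (r r' : ℕ)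
    (h : Red.IsSplitTorusWith (Fin r → ℤ) (Red.bc U.ι E))
    (h' : Red.IsSplitTorusWith (Fin r' → ℤ) (Red.bc U'.ι E')) : r ≤ r' := by
  obtain ⟨P⟩ := ptIso_at_pt (S.residueField s) (S.fromSpecResidueField s) U
    (mem_of_residue_pt s U hs) h
  obtain ⟨P'⟩ := ptIso_at_pt (S.residueField s) (S.fromSpecResidueField s) U'
    (mem_of_residue_pt s U' hs') h'
  obtain ⟨φ, hφ⟩ := surj_of_mono_field g (S.fromSpecResidueField s) (fg_fin r') P P'
  exact rank_le_of_surj (AddEquiv.refl _) (AddEquiv.refl _) φ hφ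

theorem split_restrict_le {E : Over S} [GrpObj E] {U W : S.Opens} (hWU : W ≤ U) {M : Type}
    [AddCommGroup M] (hs : Red.IsSplitTorusWith M (Red.bc U.ι E)) :
    Red.IsSplitTorusWith M (Red.bc W.ι E) := by
  obtain ⟨eA⟩ := hs
  obtain ⟨a1, ainv, ha1, hainv, h1, h2⟩ := Groth.Agent.Lib.DiagHom.iso_data eA
  haveI := ha1
  haveI := hainv
  obtain ⟨P⟩ := exists_transport E U.ι a1 ainv h1 h2 (𝟙 _) U.ι (Category.id_comp _)
  exact split_of_restrict U.ι P (S.homOfLE hWU) W.ι (S.homOfLE_ι _)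

theorem split_bc_of_split {T : Over S} [GrpObj T] {M : Type} [AddCommGroup M]
    (hs : Red.IsSplitTorusWith M T) (U : S.Opens) : Red.IsSplitTorusWith M (Red.bc U.ι T) := by
  obtain ⟨P⟩ := ptIso_of_split hs U.ι
  exact split_of_restrict U.ι P (𝟙 _) U.ι (Category.id_comp _)

theorem rank_const [ConnectedSpace ↥S] {E : Over S} [GrpObj E]
    (hE : ∀ s : ↥S, ∃ U : S.Opens, s ∈ U ∧ ∃ r : ℕ,
      Red.IsSplitTorusWith (Fin r → ℤ) (Red.bc U.ι E))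
    (s₀ : S) (U₀ : S.Opens) (hs₀ : s₀ ∈ U₀) (r₀ : ℕ)
    (h₀ : Red.IsSplitTorusWith (Fin r₀ → ℤ) (Red.bc U₀.ι E)) :
    ∀ s : S, ∃ U : S.Opens, s ∈ U ∧ Red.IsSplitTorusWith (Fin r₀ → ℤ) (Red.bc U.ι E) := by
  obtain ⟨A, hA⟩ : ∃ A : Set S, ∀ s, s ∈ A ↔
      ∃ U : S.Opens, s ∈ U ∧ Red.IsSplitTorusWith (Fin r₀ → ℤ) (Red.bc U.ι E) :=
    ⟨{s | ∃ U : S.Opens, s ∈ U ∧ Red.IsSplitTorusWith (Fin r₀ → ℤ) (Red.bc U.ι E)},
      fun s => Iff.rfl⟩
  have hopen : IsOpen A := by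
    rw [isOpen_iff_forall_mem_open]
    intro s hs
    obtain ⟨U, hsU, hsp⟩ := (hA s).mp hs
    exact ⟨U, fun t ht => (hA t).mpr ⟨U, ht, hsp⟩, U.isOpen, hsU⟩
  have hclosed : IsClosed A := by
    rw [← isOpen_compl_iff, isOpen_iff_forall_mem_open]
    intro s hs
    obtain ⟨U, hsU, r, hsp⟩ := hE s
    refine ⟨U, ?_, U.isOpen, hsU⟩
    intro t ht htA
    obtain ⟨U', htU', hsp'⟩ := (hA t).mp htA
    have hr : r₀ = r := rank_unique t U' U htU' ht r₀ r hsp' hsp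
    subst hr
    exact hs ((hA s).mpr ⟨U, hsU, hsp⟩)
  have hclopen : IsClopen A := ⟨hclosed, hopen⟩
  rcases isClopen_iff.mp hclopen with h | h
  · exfalso
    have h3 : s₀ ∈ A := (hA s₀).mpr ⟨U₀, hs₀, h₀⟩
    rw [h] at h3
    exact h3
  · intro s
    have h3 : s ∈ A := by
      rw [h]
      exact Set.mem_univ s
    exact (hA s).mp h3

theorem ls_rank_bound_aux {G : Over S} [GrpObj G] (K : Type u) [Field K]
    (z : Spec (CommRingCat.of K) ⟶ S) (s₀ : S) (hz : ∀ t, z.base t = s₀) {M : Type}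
    [AddCommGroup M] (hM : AddGroup.FG M) (pG : PtIso G z M) :
    ∃ n : ℕ, ∀ (E : Over S) [GrpObj E] (j : E ⟶ G) [IsMonHom j] [Mono j] (r : ℕ)
      (V : S.Opens), s₀ ∈ V → Red.IsSplitTorusWith (Fin r → ℤ) (Red.bc V.ι E) → r ≤ n := by
  haveI : Module.Finite ℤ M := Module.Finite.iff_addGroup_fg.mpr hM
  obtain ⟨n, fn, hfn⟩ := Module.Finite.exists_fin' ℤ M
  refine ⟨n, ?_⟩
  intro E _ j _ _ r V hsV hsp
  obtain ⟨pE⟩ := ptIso_at_pt K z V (fun t => by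
    rw [hz t]
    exact hsV) hsp
  obtain ⟨φ, hφ⟩ := surj_of_mono_field j z hM pE pG
  obtain ⟨ψ, hψ⟩ : ∃ ψ : (Fin n → ℤ) →+ (Fin r → ℤ), ∀ v, ψ v = φ (fn v) :=
    ⟨φ.comp fn.toAddMonoidHom, fun v => rfl⟩
  have hψs : Function.Surjective ψ := by
    intro w
    obtain ⟨m, hm⟩ := hφ w
    obtain ⟨v, hv⟩ := hfn m
    exact ⟨v, by rw [hψ, hv, hm]⟩
  exact rank_le_of_surj (AddEquiv.refl _) (AddEquiv.refl _) ψ hψs

theorem ls_rank_bound (G : Over S) [GrpObj G] (hG : SGA3x.IsMultTypeFT G) (s₀ : S) :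
    ∃ n : ℕ, ∀ (E : Over S) [GrpObj E] (j : E ⟶ G) [IsMonHom j] [Mono j] (r : ℕ)
      (V : S.Opens), s₀ ∈ V → Red.IsSplitTorusWith (Fin r → ℤ) (Red.bc V.ι E) → r ≤ n := by
  obtain ⟨S', f₁, hfl, hsu, hcov, hloc⟩ := hG
  obtain ⟨s', hs'⟩ := hsu.surj s₀
  obtain ⟨U', hsU', M, iM, hMfg, ⟨eA⟩⟩ := hloc s'
  obtain ⟨a1, ainv, ha1, hainv, h1, h2⟩ := Groth.Agent.Lib.DiagHom.iso_data eA
  haveI := ha1
  haveI := hainv
  have hrange : Set.range (S'.fromSpecResidueField s') ⊆ Set.range U'.ι := by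
    rintro _ ⟨t, rfl⟩
    exact ⟨⟨_, mem_of_residue_pt s' U' hsU' t⟩, rfl⟩
  obtain ⟨pG⟩ := exists_transport G (U'.ι ≫ f₁) a1 ainv h1 h2
    (IsOpenImmersion.lift U'.ι (S'.fromSpecResidueField s') hrange)
    (S'.fromSpecResidueField s' ≫ f₁) (by
      rw [← Category.assoc, IsOpenImmersion.lift_fac])
  refine ls_rank_bound_aux (S'.residueField s') (S'.fromSpecResidueField s' ≫ f₁) s₀ ?_ hMfg pG
  intro t
  have h3 : (S'.fromSpecResidueField s').base t ∈ ({s'} : Set S') := by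
    rw [← Scheme.range_fromSpecResidueField]
    exact ⟨t, rfl⟩
  have h4 : (S'.fromSpecResidueField s').base t = s' := Set.mem_singleton_iff.mp h3
  show f₁.base ((S'.fromSpecResidueField s').base t) = s₀
  rw [h4]
  exact hs'

theorem iso_near_of_split {B : Scheme.{u}} {T T' : Over B} [GrpObj T] [GrpObj T'] (r : ℕ)
    (hs : Red.IsSplitTorusWith (Fin r → ℤ) T) (hs' : Red.IsSplitTorusWith (Fin r → ℤ) T')
    (g : T ⟶ T') [IsMonHom g] [Mono g] (b : B) :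
    ∃ W₀ : B.Opens, b ∈ W₀ ∧ IsIso (bcL g W₀.ι) := by
  obtain ⟨pT⟩ := ptIso_of_split hs (𝟙 B)
  obtain ⟨pT'⟩ := ptIso_of_split hs' (𝟙 B)
  obtain ⟨W₀, φ, hbW, hc1, hc2⟩ := chart_main g (𝟙 B) pT pT' (fg_fin r) b
  have hz : ∀ t, (B.fromSpecResidueField b).base t ∈ W₀ := mem_of_residue_pt b W₀ hbW
  have hinj : InjOn g (B.fromSpecResidueField b ≫ 𝟙 B) :=
    fun T'' x x' hxx => (cancel_mono g).mp hxx
  have hφs : Function.Surjective φ := (hc2 _ (B.fromSpecResidueField b) hz).1 hinj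
  have hφb : Function.Bijective φ :=
    bij_of_surj_of_rank r (AddEquiv.refl _) (AddEquiv.refl _) φ hφs
  have hW : ∀ t : (W₀ : Scheme.{u}), W₀.ι.base t ∈ W₀ := by
    intro t
    have h1 : W₀.ι.base t ∈ Set.range W₀.ι := ⟨t, rfl⟩
    rw [Scheme.Opens.range_ι] at h1
    exact h1
  have h3 : IsIso (bcL g (W₀.ι ≫ 𝟙 B)) :=
    (isIso_left_iff _).mpr ((isIso_iff_injOn_surjOn g _).mpr
      ⟨(hc1 W₀.ι hW).1 hφs, (hc1 W₀.ι hW).2 hφb⟩)
  exact ⟨W₀, hbW, isIso_bcL_congr g (Category.comp_id _) h3⟩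

end Rank

/-! ### The greatest locally split subtorus -/

theorem main16613 {S : Scheme.{u}} [ConnectedSpace ↥S] {G : Over S} [GrpObj G]
    (hG : SGA3x.IsMultTypeFT G) :
    ∃ (T : Over S) (_ : GrpObj T) (j : T ⟶ G), IsMonHom j ∧ Mono j ∧
      (∀ s : ↥S, ∃ U : S.Opens, s ∈ U ∧ ∃ r : ℕ,
        Red.IsSplitTorusWith (Fin r → ℤ) (Red.bc U.ι T)) ∧
      ∀ (T' : Over S) [GrpObj T'] (j' : T' ⟶ G) [IsMonHom j'] [Mono j'],
        (∀ s : ↥S, ∃ U : S.Opens, s ∈ U ∧ ∃ r : ℕ,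
          Red.IsSplitTorusWith (Fin r → ℤ) (Red.bc U.ι T')) → ∃ g : T' ⟶ T, g ≫ j = j' := by
  classical
  obtain ⟨s₀⟩ : Nonempty ↥S := inferInstance
  obtain ⟨n, hn⟩ := ls_rank_bound G hG s₀
  obtain ⟨IsSub, hIsSub⟩ : ∃ IsSub : ℕ → Prop, ∀ r, IsSub r ↔
      ∃ (T : Over S) (_ : GrpObj T) (j : T ⟶ G), IsMonHom j ∧ Mono j ∧
        (∀ s : ↥S, ∃ U : S.Opens, s ∈ U ∧ ∃ r : ℕ,
          Red.IsSplitTorusWith (Fin r → ℤ) (Red.bc U.ι T)) ∧
        ∃ U₀ : S.Opens, s₀ ∈ U₀ ∧ Red.IsSplitTorusWith (Fin r → ℤ) (Red.bc U₀.ι T) :=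
    ⟨_, fun r => Iff.rfl⟩
  have h0 : IsSub 0 := by
    obtain ⟨T, iT, j, hj1, hj2, hs⟩ := isSub_zero G
    exact (hIsSub 0).mpr ⟨T, iT, j, hj1, hj2,
      fun s => ⟨⊤, trivial, 0, split_bc_of_split hs ⊤⟩, ⊤, trivial, split_bc_of_split hs ⊤⟩
  have hb : ∀ r', IsSub r' → r' ≤ n := by
    intro r' hr'
    obtain ⟨T, iT, j, hj1, hj2, hls, U₀, hsU₀, hsp⟩ := (hIsSub r').mp hr'
    exact @hn T iT j hj1 hj2 r' U₀ hsU₀ hsp
  obtain ⟨r, hr, hmax⟩ : ∃ r, IsSub r ∧ ∀ r', IsSub r' → r' ≤ r :=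
    ⟨Nat.findGreatest IsSub n, Nat.findGreatest_spec (Nat.zero_le n) h0,
      fun r' hr' => Nat.le_findGreatest (hb r' hr') hr'⟩
  obtain ⟨T, iT, j, hj1, hj2, hls, U₀, hsU₀, hsp₀⟩ := (hIsSub r).mp hr
  refine ⟨T, iT, j, hj1, hj2, hls, ?_⟩
  intro T' _ j' _ _ hls'
  haveI := hj1
  haveI := hj2
  obtain ⟨E₃, grp, j₃, g₁, g₂, hj₃, hmono₃, hloc₃, hg₁, hg₂⟩ := main19792 hG j j' hls hls'
  haveI := hj₃
  haveI := hmono₃
  haveI hgm : Mono g₁ := by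
    haveI : Mono (g₁ ≫ j₃) := by
      rw [hg₁]
      infer_instance
    exact mono_of_mono g₁ j₃
  haveI hgh : IsMonHom g₁ := by
    apply isMonHom_of_pointwise
    intro Z x y
    apply (cancel_mono j₃).mp
    rw [Category.assoc, hg₁, MonObj.mul_comp, MonObj.mul_comp, Category.assoc, Category.assoc,
      hg₁]
  obtain ⟨U₃, hsU₃, r₃, hsp₃⟩ := hloc₃ s₀
  have hr₃ : r₃ ≤ r := hmax r₃ ((hIsSub r₃).mpr
    ⟨E₃, grp, j₃, hj₃, hmono₃, hloc₃, U₃, hsU₃, hsp₃⟩)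
  have hrr₃ : r ≤ r₃ := rank_le_of_mono g₁ s₀ U₀ U₃ hsU₀ hsU₃ r r₃ hsp₀ hsp₃
  have hreq : r = r₃ := le_antisymm hrr₃ hr₃
  subst hreq
  have hT := rank_const hls s₀ U₀ hsU₀ r hsp₀
  have hE := rank_const hloc₃ s₀ U₃ hsU₃ r hsp₃
  choose UT hbUT hspT using hT
  choose UE hbUE hspE using hE
  have hW : ∀ b : S, ∃ W₀ : ((UT b ⊓ UE b : S.Opens) : Scheme.{u}).Opens,
      (⟨b, ⟨hbUT b, hbUE b⟩⟩ : (UT b ⊓ UE b : S.Opens)) ∈ W₀ ∧
      IsIso (bcL ((Over.pullback (UT b ⊓ UE b).ι).map g₁) W₀.ι) := by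
    intro b
    haveI : Mono ((Over.pullback (UT b ⊓ UE b).ι).map g₁) :=
      (mono_iff_injOn g₁ _).mpr (fun T'' x x' hxx => (cancel_mono g₁).mp hxx)
    exact iso_near_of_split r (split_restrict_le inf_le_left (hspT b))
      (split_restrict_le inf_le_right (hspE b)) ((Over.pullback (UT b ⊓ UE b).ι).map g₁)
      ⟨b, ⟨hbUT b, hbUE b⟩⟩
  choose W₀ hbW₀ hiso using hW
  have hisoL : (MorphismProperty.isomorphisms Scheme.{u}) g₁.left := by
    refine P_over_cover (P := MorphismProperty.isomorphisms Scheme.{u})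
      (fun b : ↥S => pullback (Red.bc (UT b ⊓ UE b).ι E₃).hom (W₀ b).ι)
      (fun b => pullback.fst (Red.bc (UT b ⊓ UE b).ι E₃).hom (W₀ b).ι ≫
        pullback.fst E₃.hom (UT b ⊓ UE b).ι)
      (fun y => ?_) g₁.left
      (fun b : ↥S => pullback (Red.bc (UT b ⊓ UE b).ι T).hom (W₀ b).ι)
      (fun b => pullback.fst (Red.bc (UT b ⊓ UE b).ι T).hom (W₀ b).ι ≫
        pullback.fst T.hom (UT b ⊓ UE b).ι)
      (fun b => bcL ((Over.pullback (UT b ⊓ UE b).ι).map g₁) (W₀ b).ι)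
      (fun b => sqL2 g₁ (UT b ⊓ UE b).ι (W₀ b).ι)
      (fun b => (MorphismProperty.isomorphisms.iff _).mpr (hiso b))
    obtain ⟨w, hw⟩ := cover_nested E₃ (UT (E₃.hom.base y) ⊓ UE (E₃.hom.base y))
      (W₀ (E₃.hom.base y)) y ⟨hbUT _, hbUE _⟩ (hbW₀ _)
    exact ⟨E₃.hom.base y, w, hw⟩
  haveI : IsIso g₁.left := (MorphismProperty.isomorphisms.iff _).mp hisoL
  haveI : IsIso g₁ := (isIso_left_iff g₁).mp inferInstance
  refine ⟨g₂ ≫ inv g₁, ?_⟩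
  have h3 : inv g₁ ≫ j = j₃ := by
    rw [← hg₁, IsIso.inv_hom_id_assoc]
  rw [Category.assoc, h3, hg₂]

end Groth.Agent.Lib.TorusQuotH4
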