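import Mathlib
import Groth.Prelude
import Groth.Agent.Lib.LocImg5_helper4
import Groth.Agent.Lib.KerTriv1_helper4

/-!
# The kernel of a homomorphism as a closed subscheme, and triviality of base changes (helper4)
-/

set_option backward.isDefEq.respectTransparency.types false
set_option autoImplicit false
set_option linter.unusedVariables false
set_option linter.unusedTactic false
set_option linter.unreachableTactic false
set_option linter.unusedSectionVars false
set_option linter.style.haveILetI false
set_option linter.deprecated false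
set_option linter.unusedSimpArgs false
set_option linter.style.longLine false
set_option maxHeartbeats 1600000

universe u

open CategoryTheory CategoryTheory.Limits MonoidalCategory CartesianMonoidalCategory MonObj GrpObj
  AlgebraicGeometry Opposite TensorProduct

namespace Groth.Agent.Lib.KerTrivH4

open Groth.Agent.Lib.RedDictH8 Groth.Agent.Lib.DSDict Groth.Agent.Lib.MultGa
  Groth.Agent.Lib.MultTrivH4 Groth.Agent.Lib.ConnActH4 Groth.Agent.Lib.TwConstFinH4
  Groth.Agent.Lib.MTHomH4 Groth.Agent.Lib.TorusQuotH4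

/-! ### The unit section -/

section UnitSec

variable {S : Scheme.{u}}

/-- the unit section of an `S`-group, as a morphism of schemes. -/
noncomputable def unitSec (G : Over S) [GrpObj G] : S ⟶ G.left :=
  (η[G] : 𝟙_ (Over S) ⟶ G).left

theorem unitSec_hom (G : Over S) [GrpObj G] : unitSec G ≫ G.hom = 𝟙 S := by
  have h := Over.w (η[G] : 𝟙_ (Over S) ⟶ G)
  exact h

theorem one_left {X G : Over S} [GrpObj G] : ((1 : X ⟶ G)).left = X.hom ≫ unitSec G := by
  rw [Hom.one_def, Over.comp_left, Over.toUnit_left]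
  rfl

theorem mono_unitSec (G : Over S) [GrpObj G] : Mono (unitSec G) :=
  mono_of_mono_fac (unitSec_hom G)

theorem closedImm_unitSec (G : Over S) [GrpObj G] [IsSeparated G.hom] :
    IsClosedImmersion (unitSec G) := by
  haveI : IsClosedImmersion (unitSec G ≫ G.hom) := by
    rw [unitSec_hom]
    infer_instance
  exact IsClosedImmersion.of_comp (unitSec G) G.hom

end UnitSec

/-! ### Cancellation for local finite presentation (copied from the team library) -/

theorem lfp_of_comp' {X W Y : Scheme.{u}} (h : X ⟶ W) (g : W ⟶ Y)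
    [LocallyOfFinitePresentation (h ≫ g)] [LocallyOfFiniteType g] :
    LocallyOfFinitePresentation h := by
  rw [HasRingHomProperty.iff_exists_appLE (P := @LocallyOfFinitePresentation)
    (RingHom.finitePresentation_stableUnderComposition.stableUnderCompositionWithLocalizationAway
      RingHom.finitePresentation_holdsForLocalizationAway).left]
  intro x
  obtain ⟨Y₀, hY₀, hxY₀, -⟩ :=
    exists_isAffineOpen_mem_and_subset (x := (h ≫ g).base x) (U := ⊤) trivial
  obtain ⟨U, hU, hxU, hUle⟩ :=
    exists_isAffineOpen_mem_and_subset (x := h.base x) (U := g ⁻¹ᵁ Y₀) hxY₀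
  obtain ⟨V, hV, hxV, hVle⟩ :=
    exists_isAffineOpen_mem_and_subset (x := x) (U := h ⁻¹ᵁ U) hxU
  refine ⟨⟨U, hU⟩, ⟨V, hV⟩, hxV, hVle, ?_⟩
  have e := Scheme.Hom.appLE_comp_appLE h g Y₀ U V hUle hVle
  have h1 : ((h ≫ g).appLE Y₀ V
      (hVle.trans ((TopologicalSpace.Opens.map h.base).map (homOfLE hUle)).le)).hom.FinitePresentation :=
    HasRingHomProperty.appLE (P := @LocallyOfFinitePresentation) (h ≫ g) inferInstance
      ⟨Y₀, hY₀⟩ ⟨V, hV⟩ _
  have h2 : (g.appLE Y₀ U hUle).hom.FiniteType :=
    HasRingHomProperty.appLE (P := @LocallyOfFiniteType) g inferInstance ⟨Y₀, hY₀⟩ ⟨U, hU⟩ hUle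
  rw [← e, CommRingCat.hom_comp] at h1
  exact RingHom.FinitePresentation.of_comp_finiteType _ h1 h2

/-! ### The kernel -/

section Ker

variable {S : Scheme.{u}} {H G : Over S} [GrpObj H] [GrpObj G] (u : H ⟶ G)

/-- the kernel of `u`, as a scheme over `S`. -/
noncomputable def kerObj : Over S := Over.mk (pullback.fst u.left (unitSec G) ≫ H.hom)

/-- the inclusion of the kernel. -/
noncomputable def kerι : kerObj u ⟶ H := Over.homMk (pullback.fst u.left (unitSec G)) rfl

theorem kerι_left : (kerι u).left = pullback.fst u.left (unitSec G) := rfl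

theorem ker_snd :
    pullback.snd u.left (unitSec G) = pullback.fst u.left (unitSec G) ≫ H.hom := by
  have h1 := pullback.condition (f := u.left) (g := unitSec G)
  have h2 := congrArg (fun m => m ≫ G.hom) h1
  simp only [Category.assoc, unitSec_hom, Category.comp_id, Over.w] at h2
  exact h2.symm

theorem kerι_comp : kerι u ≫ u = 1 := by
  apply Over.OverMorphism.ext
  rw [Over.comp_left, one_left]
  show pullback.fst u.left (unitSec G) ≫ u.left =
    (pullback.fst u.left (unitSec G) ≫ H.hom) ≫ unitSec G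
  rw [pullback.condition, ker_snd]

theorem ker_iff {X : Over S} (x : X ⟶ H) :
    (∃ y : X ⟶ kerObj u, y ≫ kerι u = x) ↔ x ≫ u = 1 := by
  constructor
  · rintro ⟨y, rfl⟩
    rw [Category.assoc, kerι_comp, MonObj.comp_one]
  · intro h
    have hl : x.left ≫ u.left = X.hom ≫ unitSec G := by
      have h2 := congrArg (fun m => m.left) h
      simp only [Over.comp_left] at h2
      rw [h2, one_left]
    refine ⟨Over.homMk (pullback.lift x.left X.hom hl) ?_, ?_⟩
    · show pullback.lift x.left X.hom hl ≫ (pullback.fst u.left (unitSec G) ≫ H.hom) = X.hom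
      rw [← Category.assoc, pullback.lift_fst, Over.w]
    · apply Over.OverMorphism.ext
      show pullback.lift x.left X.hom hl ≫ pullback.fst u.left (unitSec G) = x.left
      exact pullback.lift_fst _ _ _

theorem mono_kerι : Mono (kerι u) := by
  haveI := mono_unitSec G
  haveI : Mono (kerι u).left := by
    show Mono (pullback.fst u.left (unitSec G))
    infer_instance
  exact Over.mono_of_mono_left _

/-- the base change of the kernel inclusion is an isomorphism exactly when the base change of
`u` is trivial. -/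
theorem isIso_ker_iff {T : Scheme.{u}} (g : T ⟶ S) :
    IsIso (bcL (kerι u) g) ↔ (Over.pullback g).map u = 1 := by
  haveI := mono_kerι u
  rw [isIso_left_iff, isIso_iff_injOn_surjOn, triv_iff_pts]
  constructor
  · rintro ⟨-, hs⟩ T'' x
    obtain ⟨y, hy⟩ := hs T'' x
    exact (ker_iff u x).mp ⟨y, hy⟩
  · intro h
    refine ⟨fun T'' y y' hyy => (cancel_mono (kerι u)).mp hyy, fun T'' x => ?_⟩
    obtain ⟨y, hy⟩ := (ker_iff u x).mpr (h T'' x)
    exact ⟨y, hy⟩

theorem isIso_bcL_congr {K₀ : Over S} (k : K₀ ⟶ H) {T : Scheme.{u}} {g g' : T ⟶ S} (e : g = g')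
    (h : IsIso (bcL k g)) : IsIso (bcL k g') := by
  subst e
  exact h

theorem closedImm_kerι [IsSeparated G.hom] : IsClosedImmersion (kerι u).left := by
  haveI := closedImm_unitSec G
  show IsClosedImmersion (pullback.fst u.left (unitSec G))
  infer_instance

theorem lfp_kerι_of_fp [LocallyOfFinitePresentation G.hom] :
    LocallyOfFinitePresentation (kerι u).left := by
  haveI : LocallyOfFinitePresentation (unitSec G ≫ G.hom) := by
    rw [unitSec_hom]
    infer_instance
  haveI : LocallyOfFinitePresentation (unitSec G) := lfp_of_comp' (unitSec G) G.hom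
  show LocallyOfFinitePresentation (pullback.fst u.left (unitSec G))
  infer_instance

end Ker

/-! ### Groups of multiplicative type and of finite type are locally of finite type -/

theorem lft_DS (B : Scheme.{u}) (N : Type) [AddCommGroup N] (hN : AddGroup.FG N) :
    LocallyOfFiniteType (Red.DS B N).hom := by
  haveI : Monoid.FG (Multiplicative N) :=
    Group.fg_iff_monoid_fg.mp (AddGroup.fg_iff_mul_fg.mp hN)
  haveI : LocallyOfFiniteType (Red.diag (ULift.{u} ℤ) N).hom := by
    show LocallyOfFiniteType (Spec.map (CommRingCat.ofHom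
      (algebraMap (ULift.{u} ℤ) (MonoidAlgebra (ULift.{u} ℤ) (Multiplicative N)))))
    rw [HasRingHomProperty.Spec_iff (P := @LocallyOfFiniteType)]
    exact RingHom.finiteType_algebraMap.mpr inferInstance
  show LocallyOfFiniteType (pullback.snd (Red.diag (ULift.{u} ℤ) N).hom
    (Limits.IsTerminal.from specULiftZIsTerminal B))
  infer_instance

theorem lft_of_multType {S : Scheme.{u}} {H : Over S} [GrpObj H] (hH : SGA3x.IsMultTypeFT H) :
    LocallyOfFiniteType H.hom := by
  obtain ⟨X, F, hcov, hraw⟩ := setup_raw H H hH hH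
  haveI : MorphismProperty.DescendsAlong (@LocallyOfFiniteType : MorphismProperty Scheme.{u})
      (@Surjective ⊓ @Flat ⊓ @QuasiCompact) :=
    Groth.Agent.Lib.SchDescent_helper6.descendsAlong_locallyOfFiniteType
  obtain ⟨π, hπ⟩ : ∃ π : H ⟶ 𝟙_ (Over S), π = toUnit H := ⟨_, rfl⟩
  have hkey : ∀ {T : Scheme.{u}} (g : T ⟶ S), LocallyOfFiniteType (pullback.snd H.hom g) →
      LocallyOfFiniteType (bcL π g) := by
    intro T g h
    haveI := h
    have e : bcL π g ≫ pullback.snd (𝟙_ (Over S)).hom g = pullback.snd H.hom g := bcL_snd π g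
    haveI : IsIso (pullback.snd (𝟙_ (Over S)).hom g) := by
      show IsIso (pullback.snd (𝟙 S) g)
      infer_instance
    have e' : bcL π g = pullback.snd H.hom g ≫ inv (pullback.snd (𝟙_ (Over S)).hom g) := by
      rw [← e, Category.assoc, IsIso.hom_inv_id, Category.comp_id]
    rw [e']
    infer_instance
  have hchart : ∀ x : X, ∃ O : X.Opens, x ∈ O ∧ ∀ {T : Scheme.{u}} (r : T ⟶ X),
      (∀ t : T, r.base t ∈ O) → LocallyOfFiniteType (bcL π (r ≫ F)) := by
    intro x
    obtain ⟨Bo, hxB, M, N, iM, iN, hNfg, -, ⟨eH⟩⟩ := hraw x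
    refine ⟨Bo, hxB, ?_⟩
    intro T r hr
    apply hkey
    have hrange : Set.range r ⊆ Set.range Bo.ι := by
      rintro _ ⟨t, rfl⟩
      exact ⟨⟨r.base t, hr t⟩, rfl⟩
    obtain ⟨r', hr'⟩ : ∃ r' : T ⟶ (Bo : Scheme.{u}), r' ≫ Bo.ι = r :=
      ⟨IsOpenImmersion.lift Bo.ι r hrange, IsOpenImmersion.lift_fac _ _ _⟩
    have hs : Red.IsSplitTorusWith N (Red.bc (r ≫ F) H) :=
      split_of_restrict (Bo.ι ≫ F) eH r' (r ≫ F) (by rw [← Category.assoc, hr'])
    obtain ⟨ee⟩ := hs
    obtain ⟨a1, ainv, ha1, hainv, h1, h2⟩ := Groth.Agent.Lib.DiagHom.iso_data ee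
    have e : pullback.snd H.hom (r ≫ F) = a1.left ≫ (Red.DS T N).hom := (Over.w a1).symm
    rw [e]
    haveI := lft_DS T N hNfg
    haveI : IsIso a1.left := ⟨ainv.left, by rw [← Over.comp_left, h1]; rfl,
      by rw [← Over.comp_left, h2]; rfl⟩
    infer_instance
  obtain ⟨U, hUc, hUmem, hUP⟩ := core π (@LocallyOfFiniteType : MorphismProperty Scheme.{u}) F
    hcov (by
    intro x
    obtain ⟨O, hxO, hO⟩ := hchart x
    exact ⟨O, hxO, True, fun _ {T} r hr => hO r hr, fun _ _ _ _ _ => trivial⟩)
  have hFsurj : ∀ s : S, ∃ x : X, F.base x = s := by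
    intro s
    obtain ⟨V, hVaff, hsV, -⟩ := exists_isAffineOpen_mem_and_subset (x := s) (U := ⊤) trivial
    obtain ⟨P', p, m, hp1, hp2, hp3, hpm⟩ := hcov V hVaff
    obtain ⟨y, hy⟩ := hp2.surj (⟨s, hsV⟩ : V)
    refine ⟨m.base y, ?_⟩
    have h3 : F.base (m.base y) = V.ι.base (p.base y) := congrArg (fun g => g.base y) hpm
    rw [h3]
    exact congrArg (fun t => V.ι.base t) hy
  have hU : U = ⊤ := by
    apply top_unique
    intro s _
    obtain ⟨x, hx⟩ := hFsurj s
    obtain ⟨O, hxO, hO⟩ := hchart x
    have h3 : LocallyOfFiniteType (bcL π (X.fromSpecResidueField x ≫ F)) :=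
      hO (X.fromSpecResidueField x) (mem_of_residue_pt x O hxO)
    have h4 := (P_field_iff (P := (@LocallyOfFiniteType : MorphismProperty Scheme.{u})) π F x).mp h3
    have gen : ∀ t : S, F.base x = t →
        LocallyOfFiniteType (bcL π (S.fromSpecResidueField t)) := by
      intro t ht
      subst ht
      exact h4
    have h5 : s ∈ (U : Set S) := (hUmem s).mpr (gen s hx)
    exact h5
  subst hU
  haveI : IsIso (⊤ : S.Opens).ι := inferInstanceAs (IsIso S.topIso.hom)
  haveI : IsIso (pullback.fst H.hom (⊤ : S.Opens).ι) := inferInstance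
  haveI : IsIso (pullback.snd (𝟙_ (Over S)).hom (⊤ : S.Opens).ι) := by
    show IsIso (pullback.snd (𝟙 S) (⊤ : S.Opens).ι)
    infer_instance
  haveI : LocallyOfFiniteType (bcL π (⊤ : S.Opens).ι) := hUP
  have e : H.hom = inv (pullback.fst H.hom (⊤ : S.Opens).ι) ≫
      bcL π (⊤ : S.Opens).ι ≫ pullback.snd (𝟙_ (Over S)).hom (⊤ : S.Opens).ι ≫
        (⊤ : S.Opens).ι := by
    rw [← Category.assoc (bcL π (⊤ : S.Opens).ι), bcL_snd, ← pullback.condition,
      IsIso.inv_hom_id_assoc]
  rw [e]
  infer_instance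

theorem lfp_kerι_of_noeth {S : Scheme.{u}} {H G : Over S} [GrpObj H] [GrpObj G] (u : H ⟶ G)
    [IsLocallyNoetherian S] [IsSeparated G.hom] (hH : SGA3x.IsMultTypeFT H) :
    LocallyOfFinitePresentation (kerι u).left := by
  haveI := lft_of_multType hH
  haveI : IsLocallyNoetherian H.left := LocallyOfFiniteType.isLocallyNoetherian H.hom
  haveI := closedImm_kerι u
  infer_instance

end Groth.Agent.Lib.KerTrivH4
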