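import Mathlib
import Groth.Prelude
import Groth.Agent.Lib.KerTriv2_helper4

/-!
# From base changes of a closed subscheme of a split group to ideals of a free algebra (helper4)
-/

set_option backward.isDefEq.respectTransparency.types false
set_option autoImplicit false
set_option linter.unusedVariables false
set_option linter.unusedTactic false
set_option linter.unreachableTactic false
set_option linter.unusedSectionVars false
set_option linter.style.haveILetI false
set_option linter.deprecated false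
set_option linter.unusedSimpArgs false
set_option linter.style.longLine false
set_option maxHeartbeats 1600000

universe u

open CategoryTheory CategoryTheory.Limits MonoidalCategory CartesianMonoidalCategory MonObj GrpObj
  AlgebraicGeometry Opposite TensorProduct

namespace Groth.Agent.Lib.KerTrivH4

open Groth.Agent.Lib.RedDictH8 Groth.Agent.Lib.DSDict Groth.Agent.Lib.MultGa
  Groth.Agent.Lib.MultTrivH4 Groth.Agent.Lib.ConnActH4 Groth.Agent.Lib.TwConstFinH4
  Groth.Agent.Lib.MTHomH4 Groth.Agent.Lib.TorusQuotH4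

/-! ### A base change of a monomorphism is an isomorphism iff the base factors -/

theorem factor_iff {C : Type*} [Category C] {P X Y Z : C} {p₁ : P ⟶ Y} {p₂ : P ⟶ X}
    {c : Y ⟶ Z} {q : X ⟶ Z} (sq : IsPullback p₁ p₂ c q) [Mono c] :
    IsIso p₂ ↔ ∃ l : X ⟶ Y, l ≫ c = q := by
  constructor
  · intro h
    haveI := h
    refine ⟨inv p₂ ≫ p₁, ?_⟩
    rw [Category.assoc, sq.w, IsIso.inv_hom_id_assoc]
  · rintro ⟨l, hl⟩
    obtain ⟨s, hs1, hs2⟩ : ∃ s : X ⟶ P, s ≫ p₁ = l ∧ s ≫ p₂ = 𝟙 X :=
      ⟨sq.lift l (𝟙 X) (by rw [hl, Category.id_comp]), sq.lift_fst _ _ _, sq.lift_snd _ _ _⟩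
    refine ⟨⟨s, ?_, hs2⟩⟩
    apply sq.hom_ext
    · rw [Category.assoc, hs1, Category.id_comp]
      apply (cancel_mono c).mp
      rw [Category.assoc, hl, sq.w]
    · rw [Category.assoc, hs2, Category.comp_id, Category.id_comp]

/-! ### The dictionary -/

theorem dict {S : Scheme.{u}} {K₀ H : Over S} (k : K₀ ⟶ H) [IsClosedImmersion k.left]
    [LocallyOfFinitePresentation k.left]
    (R B : Type u) [CommRing R] [CommRing B] [Algebra R B] (g : Spec (CommRingCat.of R) ⟶ S)
    (θ : pullback H.hom g ≅ Spec (CommRingCat.of B))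
    (hθ : θ.hom ≫ Spec.map (CommRingCat.ofHom (algebraMap R B)) = pullback.snd H.hom g) :
    ∃ J : Ideal B, J.FG ∧ ∀ (C : Type u) [CommRing C] [Algebra R C],
      IsIso (bcL k (Spec.map (CommRingCat.ofHom (algebraMap R C)) ≫ g)) ↔
        J ≤ RingHom.ker (Algebra.TensorProduct.includeLeftRingHom : B →+* B ⊗[R] C) := by
  haveI hc1 : IsClosedImmersion (bcL k g) :=
    MorphismProperty.of_isPullback (P := (@IsClosedImmersion : MorphismProperty Scheme.{u}))
      (sqL k g) inferInstance
  haveI hc2 : LocallyOfFinitePresentation (bcL k g) :=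
    MorphismProperty.of_isPullback
      (P := (@LocallyOfFinitePresentation : MorphismProperty Scheme.{u})) (sqL k g) inferInstance
  obtain ⟨c', hc'⟩ : ∃ c' : pullback K₀.hom g ⟶ Spec (CommRingCat.of B),
      c' = bcL k g ≫ θ.hom := ⟨_, rfl⟩
  haveI : IsClosedImmersion c' := by
    rw [hc']
    infer_instance
  haveI : LocallyOfFinitePresentation c' := by
    rw [hc']
    infer_instance
  obtain ⟨J, ε, hε⟩ := IsClosedImmersion.Spec_iff.mp (inferInstance : IsClosedImmersion c')
  have hJ : J.FG := by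
    apply fg_of_fp_quot
    have e1 : Spec.map (CommRingCat.ofHom (Ideal.Quotient.mk J)) = ε.inv ≫ c' := by
      rw [hε, Iso.inv_hom_id_assoc]
    have h1 : LocallyOfFinitePresentation
        (Spec.map (CommRingCat.ofHom (Ideal.Quotient.mk J))) := by
      rw [e1]
      infer_instance
    exact (LocallyOfFinitePresentation.SpecMap_iff _).mp h1
  refine ⟨J, hJ, ?_⟩
  intro C _ _
  obtain ⟨h, hh⟩ : ∃ h : Spec (CommRingCat.of C) ⟶ Spec (CommRingCat.of R),
      h = Spec.map (CommRingCat.ofHom (algebraMap R C)) := ⟨_, rfl⟩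
  rw [← hh]
  have sq1 : IsPullback (qMap H g h ≫ θ.hom) (pullback.snd H.hom (h ≫ g))
      (Spec.map (CommRingCat.ofHom (algebraMap R B))) h :=
    (sqQ H g h).of_iso (Iso.refl _) θ (Iso.refl _) (Iso.refl _)
      (by simp only [Iso.refl_hom, Category.id_comp])
      (by simp only [Iso.refl_hom, Category.id_comp, Category.comp_id])
      (by simp only [Iso.refl_hom, Category.comp_id]; exact hθ.symm)
      (by simp only [Iso.refl_hom, Category.id_comp, Category.comp_id])
  have sq2 : IsPullback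
      (Spec.map (CommRingCat.ofHom
        (Algebra.TensorProduct.includeLeftRingHom : B →+* B ⊗[R] C)))
      (Spec.map (CommRingCat.ofHom
        (Algebra.TensorProduct.includeRight.toRingHom : C →+* B ⊗[R] C)))
      (Spec.map (CommRingCat.ofHom (algebraMap R B))) h := by
    rw [hh]
    exact isPullback_SpecMap_of_isPushout _ _ _ _ (CommRingCat.isPushout_tensorProduct R B C)
  obtain ⟨ω, hω⟩ : ∃ ω : pullback H.hom (h ≫ g) ≅ Spec (CommRingCat.of (B ⊗[R] C)),
      ω.hom ≫ Spec.map (CommRingCat.ofHom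
        (Algebra.TensorProduct.includeLeftRingHom : B →+* B ⊗[R] C)) = qMap H g h ≫ θ.hom :=
    ⟨sq1.isoIsPullback _ _ sq2, IsPullback.isoIsPullback_hom_fst _ _ sq1 sq2⟩
  rw [factor_iff (sqB k g h)]
  constructor
  · rintro ⟨l, hl⟩
    obtain ⟨m, hm⟩ : ∃ m : Spec (CommRingCat.of (B ⊗[R] C)) ⟶ Spec (CommRingCat.of (B ⧸ J)),
        m = ω.inv ≫ l ≫ ε.hom := ⟨_, rfl⟩
    have hm2 : m ≫ Spec.map (CommRingCat.ofHom (Ideal.Quotient.mk J)) =
        Spec.map (CommRingCat.ofHom
          (Algebra.TensorProduct.includeLeftRingHom : B →+* B ⊗[R] C)) := by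
      rw [hm]
      simp only [Category.assoc]
      rw [← hε, hc', ← Category.assoc l, hl, ← hω, Iso.inv_hom_id_assoc]
    obtain ⟨ρ, hρ⟩ : ∃ ρ : CommRingCat.of (B ⧸ J) ⟶ CommRingCat.of (B ⊗[R] C), Spec.map ρ = m :=
      ⟨Spec.preimage m, Spec.map_preimage m⟩
    have heq : CommRingCat.ofHom (Ideal.Quotient.mk J) ≫ ρ =
        CommRingCat.ofHom (Algebra.TensorProduct.includeLeftRingHom : B →+* B ⊗[R] C) := by
      apply Spec.map_injective
      rw [Spec.map_comp, hρ, hm2]
    intro x hx
    rw [RingHom.mem_ker]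
    have h3 := congrArg (fun f => f.hom x) heq
    simp only [CommRingCat.hom_comp, CommRingCat.hom_ofHom, RingHom.comp_apply] at h3
    rw [← h3, Ideal.Quotient.eq_zero_iff_mem.mpr hx, map_zero]
  · intro hle
    obtain ⟨ρ, hρ⟩ : ∃ ρ : B ⧸ J →+* B ⊗[R] C, ∀ x, ρ (Ideal.Quotient.mk J x) =
        (Algebra.TensorProduct.includeLeftRingHom : B →+* B ⊗[R] C) x :=
      ⟨Ideal.Quotient.lift J _ (fun x hx => RingHom.mem_ker.mp (hle hx)),
        fun x => Ideal.Quotient.lift_mk J _ _⟩
    have heq : CommRingCat.ofHom (Ideal.Quotient.mk J) ≫ CommRingCat.ofHom ρ =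
        CommRingCat.ofHom (Algebra.TensorProduct.includeLeftRingHom : B →+* B ⊗[R] C) := by
      apply CommRingCat.hom_ext
      apply RingHom.ext
      intro x
      exact hρ x
    refine ⟨ω.hom ≫ Spec.map (CommRingCat.ofHom ρ) ≫ ε.inv, ?_⟩
    apply (cancel_mono θ.hom).mp
    simp only [Category.assoc]
    rw [← hc', hε, Iso.inv_hom_id_assoc, ← Spec.map_comp, heq, hω]

end Groth.Agent.Lib.KerTrivH4
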