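import Mathlib
import Groth.Prelude
import Groth.Agent.Lib.KerTriv3_helper4

/-!
# Coordinates on a diagonalisable group over an affine base (helper4)
-/

set_option backward.isDefEq.respectTransparency.types false
set_option autoImplicit false
set_option linter.unusedVariables false
set_option linter.unusedTactic false
set_option linter.unreachableTactic false
set_option linter.unusedSectionVars false
set_option linter.style.haveILetI false
set_option linter.deprecated false
set_option linter.unusedSimpArgs false
set_option linter.style.longLine false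
set_option maxHeartbeats 1600000

universe u

open CategoryTheory CategoryTheory.Limits MonoidalCategory CartesianMonoidalCategory MonObj GrpObj
  AlgebraicGeometry Opposite TensorProduct

namespace Groth.Agent.Lib.KerTrivH4

open Groth.Agent.Lib.RedDictH8 Groth.Agent.Lib.DSDict Groth.Agent.Lib.MultGa
  Groth.Agent.Lib.MultTrivH4 Groth.Agent.Lib.ConnActH4 Groth.Agent.Lib.TwConstFinH4
  Groth.Agent.Lib.MTHomH4 Groth.Agent.Lib.TorusQuotH4

theorem coord_aux (Z R A : Type u) [CommRing Z] [CommRing R] [CommRing A] [Algebra Z R]
    [Algebra Z A] [Module.Free Z A] (τ : Spec (CommRingCat.of R) ⟶ Spec (CommRingCat.of Z))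
    (hτ : τ = Spec.map (CommRingCat.ofHom (algebraMap Z R))) :
    ∃ (B : Type u) (_ : CommRing B) (_ : Algebra R B) (_ : Module.Free R B)
      (θ : pullback (Spec.map (CommRingCat.ofHom (algebraMap Z A))) τ ≅
        Spec (CommRingCat.of B)),
      θ.hom ≫ Spec.map (CommRingCat.ofHom (algebraMap R B)) =
        pullback.snd (Spec.map (CommRingCat.ofHom (algebraMap Z A))) τ := by
  subst hτ
  refine ⟨R ⊗[Z] A, inferInstance, inferInstance,
    Module.Free.of_basis (Algebra.TensorProduct.basis R (Module.Free.chooseBasis Z A)),
    pullbackSymmetry _ _ ≪≫ pullbackSpecIso Z R A, ?_⟩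
  rw [Iso.trans_hom, Category.assoc, pullbackSpecIso_hom_fst', pullbackSymmetry_hom_comp_fst]

/-- the coordinate ring of `D_{Spec R}(N)` is a free `R`-algebra. -/
theorem coord (R : Type u) [CommRing R] (N : Type) [AddCommGroup N] :
    ∃ (B : Type u) (_ : CommRing B) (_ : Algebra R B) (_ : Module.Free R B)
      (θ : (Red.DS (Spec (CommRingCat.of R)) N).left ≅ Spec (CommRingCat.of B)),
      θ.hom ≫ Spec.map (CommRingCat.ofHom (algebraMap R B)) =
        (Red.DS (Spec (CommRingCat.of R)) N).hom := by
  letI : Algebra (ULift.{u} ℤ) R :=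
    ((Int.castRingHom R).comp (ULift.ringEquiv : ULift.{u} ℤ ≃+* ℤ).toRingHom).toAlgebra
  exact coord_aux (ULift.{u} ℤ) R (MonoidAlgebra (ULift.{u} ℤ) (Multiplicative N))
    (Limits.IsTerminal.from specULiftZIsTerminal (Spec (CommRingCat.of R)))
    (specULiftZIsTerminal.hom_ext _ _)

end Groth.Agent.Lib.KerTrivH4
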