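import Mathlib
import Groth.Prelude
import Groth.Agent.Lib.KerTriv4_helper4

/-!
# Rigidity: a homomorphism from a split group which is trivial modulo a nilpotent ideal is
trivial (helper4)
-/

set_option backward.isDefEq.respectTransparency.types false
set_option autoImplicit false
set_option linter.unusedVariables false
set_option linter.unusedTactic false
set_option linter.unreachableTactic false
set_option linter.unusedSectionVars false
set_option linter.style.haveILetI false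
set_option linter.deprecated false
set_option linter.unusedSimpArgs false
set_option linter.style.longLine false
set_option maxHeartbeats 1600000

universe u

open CategoryTheory CategoryTheory.Limits MonoidalCategory CartesianMonoidalCategory MonObj GrpObj
  AlgebraicGeometry Opposite TensorProduct

namespace Groth.Agent.Lib.KerTrivH4

open Groth.Agent.Lib.RedDictH8 Groth.Agent.Lib.DSDict Groth.Agent.Lib.MultGa
  Groth.Agent.Lib.MultTrivH4 Groth.Agent.Lib.ConnActH4 Groth.Agent.Lib.TwConstFinH4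
  Groth.Agent.Lib.MTHomH4 Groth.Agent.Lib.TorusQuotH4

/-! ### The translation action -/

section TrAct

variable {C : Type*} [Category C] [CartesianMonoidalCategory C] {H G : C} [GrpObj H] [GrpObj G]
  (u : H ⟶ G) [IsMonHom u]

/-- the action `(h, g) ↦ u(h) g`. -/
noncomputable def trMor : H ⊗ G ⟶ G := (fst H G ≫ u) * snd H G

theorem comp_trMor {Z : C} (m : Z ⟶ H ⊗ G) :
    m ≫ trMor u = ((m ≫ fst H G) ≫ u) * (m ≫ snd H G) := by
  unfold trMor
  rw [MonObj.comp_mul, Category.assoc]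

theorem lift_trMor {Z : C} (h : Z ⟶ H) (x : Z ⟶ G) : lift h x ≫ trMor u = (h ≫ u) * x := by
  rw [comp_trMor, lift_fst, lift_snd]

theorem trMor_one : (η[H] ▷ G) ≫ trMor u = (λ_ G).hom := by
  rw [comp_trMor, whiskerRight_fst, whiskerRight_snd, leftUnitor_hom]
  have h1 : (fst (𝟙_ C) G ≫ η[H]) ≫ u = 1 := by
    rw [Category.assoc, IsMonHom.one_hom, toUnit_unique (fst (𝟙_ C) G) (toUnit _), ← Hom.one_def]
  rw [h1, _root_.one_mul]

theorem trMor_mul :
    (μ[H] ▷ G) ≫ trMor u = (α_ H H G).hom ≫ (H ◁ trMor u) ≫ trMor u := by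
  have hL : (μ[H] ▷ G) ≫ trMor u =
      ((fst (H ⊗ H) G ≫ fst H H ≫ u) * (fst (H ⊗ H) G ≫ snd H H ≫ u)) * snd (H ⊗ H) G := by
    rw [comp_trMor, whiskerRight_fst, whiskerRight_snd]
    have h1 : (fst (H ⊗ H) G ≫ μ[H]) ≫ u =
        (fst (H ⊗ H) G ≫ fst H H ≫ u) * (fst (H ⊗ H) G ≫ snd H H ≫ u) := by
      rw [MonObj.mul_eq_mul H, MonObj.comp_mul, MonObj.mul_comp, Category.assoc, Category.assoc]
    rw [h1]
  have hR : (α_ H H G).hom ≫ (H ◁ trMor u) ≫ trMor u =
      (fst (H ⊗ H) G ≫ fst H H ≫ u) *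
        ((fst (H ⊗ H) G ≫ snd H H ≫ u) * snd (H ⊗ H) G) := by
    have h2 : ((α_ H H G).hom ≫ (H ◁ trMor u)) ≫ fst H G = fst (H ⊗ H) G ≫ fst H H := by
      rw [Category.assoc, whiskerLeft_fst, associator_hom_fst]
    have h3 : ((α_ H H G).hom ≫ (H ◁ trMor u)) ≫ snd H G =
        ((α_ H H G).hom ≫ snd H (H ⊗ G)) ≫ trMor u := by
      rw [Category.assoc, whiskerLeft_snd, Category.assoc]
    have h4 : ((α_ H H G).hom ≫ snd H (H ⊗ G)) ≫ fst H G = fst (H ⊗ H) G ≫ snd H H := by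
      rw [Category.assoc, associator_hom_snd_fst]
    have h5 : ((α_ H H G).hom ≫ snd H (H ⊗ G)) ≫ snd H G = snd (H ⊗ H) G := by
      rw [Category.assoc, associator_hom_snd_snd]
    rw [← Category.assoc, comp_trMor u ((α_ H H G).hom ≫ (H ◁ trMor u)), h2, h3,
      comp_trMor u ((α_ H H G).hom ≫ snd H (H ⊗ G)), h4, h5]
    simp only [Category.assoc]
  rw [hL, hR, _root_.mul_assoc]

end TrAct

/-- the translation action as an `AlgGrp.Action`. -/
noncomputable def trAction {S : Scheme.{u}} {H G : Over S} [GrpObj H] [GrpObj G] (u : H ⟶ G)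
    [IsMonHom u] : AlgGrp.Action H G where
  act := trMor u
  one_act := trMor_one u
  mul_act := trMor_mul u

/-! ### Rigidity -/

theorem rig {S₂ S₁ : Scheme.{u}} (i₀ : S₁ ⟶ S₂) [IsClosedImmersion i₀]
    (hnil : ∀ x : S₂, ∃ U : S₂.affineOpens, x ∈ (U : S₂.Opens) ∧ IsNilpotent (i₀.ker.ideal U))
    (H₂ G₂ : Over S₂) [GrpObj H₂] [GrpObj G₂] {N : Type} [AddCommGroup N]
    (hs : Red.IsSplitTorusWith N H₂) (u₂ : H₂ ⟶ G₂) [IsMonHom u₂]
    (h0 : (Over.pullback i₀).map u₂ = 1) : u₂ = 1 := by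
  have hloc : TwC.Locally S₂ TwC.Topology.fpqc (fun S' f => ∃ (M : Type) (_ : AddCommGroup M),
      Nonempty (Grp.mk (Red.bc f H₂) ≅ Grp.mk (Red.DS S' M))) := by
    refine ⟨S₂, 𝟙 S₂, inferInstance, inferInstance, ?_, ?_⟩
    · intro V hV
      refine ⟨V, hV.isCompact, ?_⟩
      ext y
      constructor
      · rintro ⟨x, hx, rfl⟩
        exact hx
      · intro hy
        exact ⟨y, hy, rfl⟩
    · intro s'
      obtain ⟨P⟩ := ptIso_of_split hs ((⊤ : S₂.Opens).ι ≫ 𝟙 S₂)
      exact ⟨⊤, trivial, N, inferInstance,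
        split_of_restrict _ P (𝟙 _) _ (Category.id_comp _)⟩
  have h0' : ∀ (Y : Over S₂) (p : Y ⟶ Over.mk i₀) (g : Y ⟶ H₂) (x : Y ⟶ G₂),
      lift g x ≫ (trAction u₂).act = x := by
    intro Y p g x
    show lift g x ≫ trMor u₂ = x
    rw [lift_trMor]
    have hg : g ≫ u₂ = 1 := by
      rw [triv_iff_pts] at h0
      obtain ⟨κ, hκ⟩ : ∃ κ : (Over.map i₀).obj (Over.mk p.left) ⟶ Y, κ.left = 𝟙 Y.left :=
        ⟨Over.homMk (𝟙 Y.left) (by
          show 𝟙 Y.left ≫ Y.hom = p.left ≫ i₀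
          rw [Category.id_comp]
          exact (Over.w p).symm), rfl⟩
      obtain ⟨κ', hκ'⟩ : ∃ κ' : Y ⟶ (Over.map i₀).obj (Over.mk p.left), κ'.left = 𝟙 Y.left :=
        ⟨Over.homMk (𝟙 Y.left) (by
          show 𝟙 Y.left ≫ (p.left ≫ i₀) = Y.hom
          rw [Category.id_comp]
          exact Over.w p), rfl⟩
      have hkk : κ' ≫ κ = 𝟙 Y := by
        apply Over.OverMorphism.ext
        show κ'.left ≫ κ.left = 𝟙 Y.left
        rw [hκ, hκ', Category.id_comp]
      have h1 := h0 (Over.mk p.left) (κ ≫ g)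
      calc g ≫ u₂ = (κ' ≫ κ) ≫ g ≫ u₂ := by rw [hkk, Category.id_comp]
        _ = κ' ≫ ((κ ≫ g) ≫ u₂) := by simp only [Category.assoc]
        _ = 1 := by rw [h1, MonObj.comp_one]
    rw [hg, _root_.one_mul]
  have key := main5279 i₀ hnil H₂ G₂ hloc (trAction u₂) h0' H₂ (𝟙 H₂) 1
  have key' : lift (𝟙 H₂) (1 : H₂ ⟶ G₂) ≫ trMor u₂ = 1 := key
  rw [lift_trMor, Category.id_comp, _root_.mul_one] at key'
  exact key'

/-! ### Nested triviality -/

theorem triv_nest {S S' S'' : Scheme.{u}} {H G : Over S} [GrpObj H] [GrpObj G] (u : H ⟶ G)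
    (g : S' ⟶ S) (h : S'' ⟶ S') (ht : (Over.pullback (h ≫ g)).map u = 1) :
    (Over.pullback h).map ((Over.pullback g).map u) = 1 := by
  rw [triv_iff_pts] at ht ⊢
  intro T'' x
  have h1 := ht T'' (tau g h T'' ≫ chk g x)
  have h2 : chk g (x ≫ (Over.pullback g).map u) = 1 := by
    rw [chk_postcomp]
    calc chk g x ≫ u = (sig g h T'' ≫ tau g h T'') ≫ chk g x ≫ u := by
          rw [sig_tau, Category.id_comp]
      _ = sig g h T'' ≫ ((tau g h T'' ≫ chk g x) ≫ u) := by simp only [Category.assoc]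
      _ = 1 := by rw [h1, MonObj.comp_one]
  have h3 := congrArg (fun w => unchk g w) h2
  simp only [unchk_chk] at h3
  rw [h3, ← chk_one' g, unchk_chk]

/-! ### A square-zero thickening of affine schemes -/

theorem hnil_of_sq_zero {A₂ A₁ : CommRingCat.{u}} (π : A₂ ⟶ A₁)
    (hsq : ∀ a b : A₂, π.hom a = 0 → π.hom b = 0 → a * b = 0) :
    ∀ x : ↥(Spec A₂), ∃ U : (Spec A₂).affineOpens, x ∈ (U : (Spec A₂).Opens) ∧
      IsNilpotent ((Spec.map π).ker.ideal U) := by
  intro x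
  refine ⟨⟨⊤, isAffineOpen_top _⟩, trivial, 2, ?_⟩
  rw [Scheme.Hom.ker_apply, pow_two, Ideal.zero_eq_bot, eq_bot_iff, Ideal.mul_le]
  intro a ha b hb
  rw [RingHom.mem_ker] at ha hb
  rw [Ideal.mem_bot]
  have key : ∀ c : Γ(Spec A₂, ⊤), ((Spec.map π).app ⊤).hom c = 0 →
      π.hom ((Scheme.ΓSpecIso A₂).hom.hom c) = 0 := by
    intro c hc
    have h1 := congrArg (fun f => f.hom c) (Scheme.ΓSpecIso_naturality π)
    simp only [CommRingCat.hom_comp, RingHom.comp_apply] at h1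
    rw [← h1]
    have h2 : (Spec.map π).appTop.hom c = 0 := hc
    rw [h2, map_zero]
  have h2 := hsq _ _ (key a ha) (key b hb)
  have h3 : (Scheme.ΓSpecIso A₂).hom.hom (a * b) = 0 := by rw [map_mul, h2]
  have hinj : Function.Injective (Scheme.ΓSpecIso A₂).hom.hom :=
    (ConcreteCategory.bijective_of_isIso (Scheme.ΓSpecIso A₂).hom).1
  exact hinj (by rw [h3, map_zero])

theorem quot_sq (R : Type u) [CommRing R] (I : Ideal R) :
    ∃ π : CommRingCat.of (R ⧸ I * I) ⟶ CommRingCat.of (R ⧸ I),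
      CommRingCat.ofHom (algebraMap R (R ⧸ I * I)) ≫ π = CommRingCat.ofHom (algebraMap R (R ⧸ I)) ∧
      IsClosedImmersion (Spec.map π) ∧
      ∀ x : ↥(Spec (CommRingCat.of (R ⧸ I * I))),
        ∃ U : (Spec (CommRingCat.of (R ⧸ I * I))).affineOpens,
          x ∈ (U : (Spec (CommRingCat.of (R ⧸ I * I))).Opens) ∧
          IsNilpotent ((Spec.map π).ker.ideal U) := by
  have hle : I * I ≤ I := Ideal.mul_le_right
  refine ⟨CommRingCat.ofHom (Ideal.Quotient.factor hle), ?_, ?_, ?_⟩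
  · apply CommRingCat.hom_ext
    apply RingHom.ext
    intro x
    exact Ideal.Quotient.factor_mk hle x
  · exact IsClosedImmersion.spec_of_surjective _ (Ideal.Quotient.factor_surjective hle)
  · apply hnil_of_sq_zero
    intro a b ha hb
    obtain ⟨a', rfl⟩ := Ideal.Quotient.mk_surjective a
    obtain ⟨b', rfl⟩ := Ideal.Quotient.mk_surjective b
    have ha' : a' ∈ I := by
      have h1 : Ideal.Quotient.factor hle (Ideal.Quotient.mk (I * I) a') = 0 := ha
      rw [Ideal.Quotient.factor_mk] at h1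
      exact Ideal.Quotient.eq_zero_iff_mem.mp h1
    have hb' : b' ∈ I := by
      have h1 : Ideal.Quotient.factor hle (Ideal.Quotient.mk (I * I) b') = 0 := hb
      rw [Ideal.Quotient.factor_mk] at h1
      exact Ideal.Quotient.eq_zero_iff_mem.mp h1
    rw [← map_mul]
    exact Ideal.Quotient.eq_zero_iff_mem.mpr (Ideal.mul_mem_mul ha' hb')

end Groth.Agent.Lib.KerTrivH4
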