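import Mathlib
import Groth.Prelude
import Groth.Agent.Lib.KerTriv5_helper4

/-!
# The locus where a homomorphism from a group of multiplicative type is trivial is open and
closed (helper4)
-/

set_option backward.isDefEq.respectTransparency.types false
set_option autoImplicit false
set_option linter.unusedVariables false
set_option linter.unusedTactic false
set_option linter.unreachableTactic false
set_option linter.unusedSectionVars false
set_option linter.style.haveILetI false
set_option linter.deprecated false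
set_option linter.unusedSimpArgs false
set_option linter.style.longLine false
set_option maxHeartbeats 1600000

universe u

open CategoryTheory CategoryTheory.Limits MonoidalCategory CartesianMonoidalCategory MonObj GrpObj
  AlgebraicGeometry Opposite TensorProduct

namespace Groth.Agent.Lib.KerTrivH4

open Groth.Agent.Lib.RedDictH8 Groth.Agent.Lib.DSDict Groth.Agent.Lib.MultGa
  Groth.Agent.Lib.MultTrivH4 Groth.Agent.Lib.ConnActH4 Groth.Agent.Lib.TwConstFinH4
  Groth.Agent.Lib.MTHomH4 Groth.Agent.Lib.TorusQuotH4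

theorem bcL_congr {S : Scheme.{u}} {K₀ H : Over S} (k : K₀ ⟶ H) {T : Scheme.{u}} {g g' : T ⟶ S}
    (e : g = g') (h : IsIso (bcL k g)) : IsIso (bcL k g') := by
  subst e
  exact h

/-! ### The local statement on an affine chart, in terms of an idempotent -/

section LC

variable {S : Scheme.{u}} {K₀ H : Over S} (k : K₀ ⟶ H) (R : Type u) [CommRing R]
  (g : Spec (CommRingCat.of R) ⟶ S) (e : R)

theorem lc_affine (he : IsIdempotentElem e)
    (hstar : ∀ (C : Type u) [CommRing C] [Algebra R C],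
      IsIso (bcL k (Spec.map (CommRingCat.ofHom (algebraMap R C)) ≫ g)) ↔ algebraMap R C e = 0)
    (A : CommRingCat.{u}) (ρ : Spec A ⟶ Spec (CommRingCat.of R))
    (hρ : ∀ t, ρ.base t ∈ (PrimeSpectrum.basicOpen (1 - e) : (Spec (CommRingCat.of R)).Opens)) :
    IsIso (bcL k (ρ ≫ g)) := by
  obtain ⟨C, iC, rfl⟩ : ∃ (C : Type u) (_ : CommRing C), A = CommRingCat.of C :=
    ⟨A, inferInstance, rfl⟩
  obtain ⟨φ, hφ⟩ : ∃ φ : CommRingCat.of R ⟶ CommRingCat.of C, Spec.map φ = ρ :=
    ⟨Spec.preimage ρ, Spec.map_preimage ρ⟩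
  subst hφ
  letI : Algebra R C := φ.hom.toAlgebra
  have h0 : algebraMap R C e = 0 := by
    apply idem_eq_zero
    · exact he.map (algebraMap R C)
    · intro q hq
      have hmem := hρ (⟨q, hq⟩ : PrimeSpectrum C)
      rw [Spec.map_base] at hmem
      have h1 : (1 - e) ∉ Ideal.comap φ.hom q := (PrimeSpectrum.mem_basicOpen _ _).mp hmem
      have h2 : algebraMap R C (1 - e) ∉ q := fun h => h1 (Ideal.mem_comap.mpr h)
      have h3 : algebraMap R C e * algebraMap R C (1 - e) ∈ q := by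
        rw [← map_mul, mul_sub, _root_.mul_one, he.eq, sub_self, map_zero]
        exact q.zero_mem
      exact (hq.mem_or_mem h3).resolve_right h2
  exact (hstar C).mpr h0

theorem lc_field
    (hstar : ∀ (C : Type u) [CommRing C] [Algebra R C],
      IsIso (bcL k (Spec.map (CommRingCat.ofHom (algebraMap R C)) ≫ g)) ↔ algebraMap R C e = 0)
    (K : Type u) [Field K] (z : Spec (CommRingCat.of K) ⟶ Spec (CommRingCat.of R))
    (hz : IsIso (bcL k (z ≫ g))) :
    ∀ t, z.base t ∈ (PrimeSpectrum.basicOpen (1 - e) : (Spec (CommRingCat.of R)).Opens) := by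
  obtain ⟨φ, hφ⟩ : ∃ φ : CommRingCat.of R ⟶ CommRingCat.of K, Spec.map φ = z :=
    ⟨Spec.preimage z, Spec.map_preimage z⟩
  subst hφ
  letI : Algebra R K := φ.hom.toAlgebra
  have h0 : algebraMap R K e = 0 := (hstar K).mp hz
  intro t
  rw [Spec.map_base]
  apply (PrimeSpectrum.mem_basicOpen _ _).mpr
  intro hmem
  have h1 : algebraMap R K (1 - e) ∈ (show PrimeSpectrum K from t).asIdeal := hmem
  rw [map_sub, map_one, h0, sub_zero] at h1
  exact (show PrimeSpectrum K from t).isPrime.ne_top ((Ideal.eq_top_iff_one _).mpr h1)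

theorem lc_all (he : IsIdempotentElem e)
    (hstar : ∀ (C : Type u) [CommRing C] [Algebra R C],
      IsIso (bcL k (Spec.map (CommRingCat.ofHom (algebraMap R C)) ≫ g)) ↔ algebraMap R C e = 0)
    {T : Scheme.{u}} (r : T ⟶ Spec (CommRingCat.of R))
    (hr : ∀ t, r.base t ∈ (PrimeSpectrum.basicOpen (1 - e) : (Spec (CommRingCat.of R)).Opens)) :
    IsIso (bcL k (r ≫ g)) := by
  have hloc := P_local (P := MorphismProperty.isomorphisms Scheme.{u}) k (r ≫ g)
      (fun i : T.affineOpens => (i : T.Opens)) (iSup_affineOpens_eq_top T) (fun i => by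
    rw [MorphismProperty.isomorphisms.iff]
    have h1 : IsIso (bcL k ((i.2.fromSpec ≫ r) ≫ g)) :=
      lc_affine k R g e he hstar _ (i.2.fromSpec ≫ r) (fun t => by
        show r.base (i.2.fromSpec.base t) ∈ _
        exact hr _)
    have h2 := P_bc (P := MorphismProperty.isomorphisms Scheme.{u}) k
      ((i.2.fromSpec ≫ r) ≫ g) i.2.isoSpec.hom ((MorphismProperty.isomorphisms.iff _).mpr h1)
    rw [MorphismProperty.isomorphisms.iff] at h2
    have e2 : i.2.isoSpec.hom ≫ (i.2.fromSpec ≫ r) ≫ g = (i : T.Opens).ι ≫ r ≫ g := by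
      rw [← i.2.isoSpec_inv_ι]
      simp only [Category.assoc, Iso.hom_inv_id_assoc]
    exact bcL_congr k e2 h2)
  exact (MorphismProperty.isomorphisms.iff _).mp hloc

end LC

/-! ### The local statement -/

theorem local_clopen {S : Scheme.{u}} {H G : Over S} [GrpObj H] [GrpObj G] (u : H ⟶ G)
    [IsMonHom u] [IsClosedImmersion (kerι u).left] [LocallyOfFinitePresentation (kerι u).left]
    (R : Type u) [CommRing R] (g : Spec (CommRingCat.of R) ⟶ S) {N : Type} [AddCommGroup N]
    (P : PtIso H g N) :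
    ∃ W : (Spec (CommRingCat.of R)).Opens, IsClosed (W : Set ↥(Spec (CommRingCat.of R))) ∧
      (∀ {T : Scheme.{u}} (r : T ⟶ Spec (CommRingCat.of R)), (∀ t, r.base t ∈ W) →
        IsIso (bcL (kerι u) (r ≫ g))) ∧
      (∀ (K : Type u) [Field K] (z : Spec (CommRingCat.of K) ⟶ Spec (CommRingCat.of R)),
        IsIso (bcL (kerι u) (z ≫ g)) → ∀ t, z.base t ∈ W) := by
  obtain ⟨a, ainv, ha, hainv, h1, h2, -⟩ := split_of_ptIso g P
  obtain ⟨B, iB, iA, iF, θ₀, hθ₀⟩ := coord R N
  obtain ⟨θ, hθ⟩ : ∃ θ : pullback H.hom g ≅ Spec (CommRingCat.of B),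
      θ.hom ≫ Spec.map (CommRingCat.ofHom (algebraMap R B)) = pullback.snd H.hom g := by
    have e1 : a.left ≫ ainv.left = 𝟙 _ := by
      rw [← Over.comp_left, h1]
      rfl
    have e2 : ainv.left ≫ a.left = 𝟙 _ := by
      rw [← Over.comp_left, h2]
      rfl
    refine ⟨(⟨a.left, ainv.left, e1, e2⟩ :
      pullback H.hom g ≅ (Red.DS (Spec (CommRingCat.of R)) N).left) ≪≫ θ₀, ?_⟩
    rw [Iso.trans_hom, Category.assoc, hθ₀]
    exact Over.w a
  obtain ⟨J, hJ, hdict⟩ := dict (kerι u) R B g θ hθ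
  obtain ⟨I, hIfg, hI⟩ := coeff_ideal R B J hJ
  have star : ∀ (C : Type u) [CommRing C] [Algebra R C],
      IsIso (bcL (kerι u) (Spec.map (CommRingCat.ofHom (algebraMap R C)) ≫ g)) ↔
        I ≤ RingHom.ker (algebraMap R C) := fun C _ _ => (hdict C).trans (hI C)
  have hsq : I ≤ I * I := by
    obtain ⟨π, hπ1, hπ2, hπ3⟩ := quot_sq R I
    haveI := hπ2
    have hker : RingHom.ker (algebraMap R (R ⧸ I * I)) = I * I := by
      rw [Ideal.Quotient.algebraMap_eq, Ideal.mk_ker]
    have hker' : RingHom.ker (algebraMap R (R ⧸ I)) = I := by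
      rw [Ideal.Quotient.algebraMap_eq, Ideal.mk_ker]
    rw [← hker]
    apply (star (R ⧸ I * I)).mp
    rw [isIso_ker_iff]
    obtain ⟨g₂, hg₂⟩ : ∃ g₂ : Spec (CommRingCat.of (R ⧸ I * I)) ⟶ S,
        g₂ = Spec.map (CommRingCat.ofHom (algebraMap R (R ⧸ I * I))) ≫ g := ⟨_, rfl⟩
    rw [← hg₂]
    have hs : Red.IsSplitTorusWith N (Red.bc g₂ H) :=
      split_of_restrict g P (Spec.map (CommRingCat.ofHom (algebraMap R (R ⧸ I * I)))) g₂
        hg₂.symm
    have e : Spec.map π ≫ g₂ = Spec.map (CommRingCat.ofHom (algebraMap R (R ⧸ I))) ≫ g := by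
      rw [hg₂, ← Category.assoc, ← Spec.map_comp, hπ1]
    have h5 : (Over.pullback (Spec.map π ≫ g₂)).map u = 1 := by
      apply triv_congr u e.symm
      rw [← isIso_ker_iff]
      apply (star (R ⧸ I)).mpr
      exact hker'.ge
    exact rig (Spec.map π) hπ3 (Red.bc g₂ H) (Red.bc g₂ G) hs ((Over.pullback g₂).map u)
      (triv_nest u g₂ (Spec.map π) h5)
  obtain ⟨e, he, hIe⟩ := idem_of_fg_sq R I hIfg hsq
  have star' : ∀ (C : Type u) [CommRing C] [Algebra R C],
      IsIso (bcL (kerι u) (Spec.map (CommRingCat.ofHom (algebraMap R C)) ≫ g)) ↔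
        algebraMap R C e = 0 := by
    intro C _ _
    rw [star C, hIe, Ideal.span_singleton_le_iff_mem, RingHom.mem_ker]
  refine ⟨PrimeSpectrum.basicOpen (1 - e),
    (PrimeSpectrum.isClopen_iff.mpr ⟨1 - e, he.one_sub, rfl⟩).1, ?_, ?_⟩
  · intro T r hr
    exact lc_all (kerι u) R g e he star' r hr
  · intro K _ z hz
    exact lc_field (kerι u) R g e star' K z hz

/-! ### The global statement -/

theorem main5286_aux {S : Scheme.{u}} (H G : Over S) [GrpObj H] [GrpObj G]
    (hH : SGA3x.IsMultTypeFT H) (u : H ⟶ G) [IsMonHom u]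
    [IsClosedImmersion (kerι u).left] [LocallyOfFinitePresentation (kerι u).left] :
    ∃ U : S.Opens, IsClosed (U : Set S) ∧
      (∀ s : S, s ∈ U ↔ (Over.pullback (S.fromSpecResidueField s)).map u = 1) ∧
      (Over.pullback U.ι).map u = 1 := by
  obtain ⟨X, F, hcov, hraw⟩ := setup_raw H H hH hH
  obtain ⟨U, hUc, hUmem, hUP⟩ := core (kerι u) (MorphismProperty.isomorphisms Scheme.{u}) F
    hcov (by
    intro x
    obtain ⟨Bo, hxB, M, N, iM, iN, hNfg, -, ⟨eH⟩⟩ := hraw x
    obtain ⟨V, hVaff, hxV, hVB⟩ := exists_isAffineOpen_mem_and_subset (x := x) (U := Bo) hxB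
    obtain ⟨R, iR, j, hjo, hjr⟩ : ∃ (R : Type u) (_ : CommRing R)
        (j : Spec (CommRingCat.of R) ⟶ X), IsOpenImmersion j ∧
          Set.range j.base = (V : Set X) :=
      ⟨Γ(X, V), inferInstance, hVaff.fromSpec, inferInstance, hVaff.range_fromSpec⟩
    haveI := hjo
    have hjB : Set.range j ⊆ Set.range Bo.ι := by
      rintro _ ⟨t, rfl⟩
      have h1 : j.base t ∈ (V : Set X) := by
        rw [← hjr]
        exact ⟨t, rfl⟩
      exact ⟨⟨j.base t, hVB h1⟩, rfl⟩
    obtain ⟨ρ₀, hρ₀⟩ : ∃ ρ₀ : Spec (CommRingCat.of R) ⟶ (Bo : Scheme.{u}), ρ₀ ≫ Bo.ι = j :=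
      ⟨IsOpenImmersion.lift Bo.ι j hjB, IsOpenImmersion.lift_fac _ _ _⟩
    obtain ⟨P₀⟩ := ptIso_pull eH ρ₀
    have hcast : ρ₀ ≫ Bo.ι ≫ F = j ≫ F := by rw [← Category.assoc, hρ₀]
    obtain ⟨W, hWc, hW1, hW2⟩ := local_clopen u R (j ≫ F) (ptCast P₀ hcast)
    obtain ⟨x₀, hx₀⟩ : ∃ x₀ : ↥(Spec (CommRingCat.of R)), j.base x₀ = x := by
      have h1 : x ∈ Set.range j.base := by
        rw [hjr]
        exact hxV
      exact h1
    have hlift : ∀ {T : Scheme.{u}} (r : T ⟶ X) (A : Set ↥(Spec (CommRingCat.of R))),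
        (∀ t : T, r.base t ∈ j.base '' A) →
        ∃ r' : T ⟶ Spec (CommRingCat.of R), r' ≫ j = r ∧ ∀ t, r'.base t ∈ A := by
      intro T r A hr
      have hrange : Set.range r ⊆ Set.range j := by
        rintro _ ⟨t, rfl⟩
        obtain ⟨w, -, hw⟩ := hr t
        exact ⟨w, hw⟩
      refine ⟨IsOpenImmersion.lift j r hrange, IsOpenImmersion.lift_fac _ _ _, ?_⟩
      intro t
      obtain ⟨w, hwA, hw⟩ := hr t
      have h3 : j.base ((IsOpenImmersion.lift j r hrange).base t) = r.base t :=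
        congrArg (fun g => g.base t) (IsOpenImmersion.lift_fac j r hrange)
      have h4 : w = (IsOpenImmersion.lift j r hrange).base t :=
        j.isOpenEmbedding.injective (hw.trans h3.symm)
      rw [← h4]
      exact hwA
    by_cases hxW : x₀ ∈ W
    · refine ⟨⟨j.base '' (W : Set _), j.isOpenEmbedding.isOpenMap _ W.isOpen⟩,
        ⟨x₀, hxW, hx₀⟩, True, ?_, fun _ _ _ _ _ => trivial⟩
      intro _ T r hr
      obtain ⟨r', hr', hr'W⟩ := hlift r (W : Set _) hr
      rw [MorphismProperty.isomorphisms.iff]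
      have e : r' ≫ j ≫ F = r ≫ F := by rw [← Category.assoc, hr']
      exact bcL_congr (kerι u) e (hW1 r' hr'W)
    · refine ⟨⟨j.base '' ((W : Set _)ᶜ), j.isOpenEmbedding.isOpenMap _ hWc.isOpen_compl⟩,
        ⟨x₀, hxW, hx₀⟩, False, fun hf => hf.elim, ?_⟩
      intro K _ z hz hPz
      obtain ⟨z', hz', hz'W⟩ := hlift z ((W : Set _)ᶜ) hz
      rw [MorphismProperty.isomorphisms.iff] at hPz
      have e : z ≫ F = z' ≫ j ≫ F := by rw [← Category.assoc, hz']
      have h3 := hW2 K z' (bcL_congr (kerι u) e hPz)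
      obtain ⟨t⟩ : Nonempty (PrimeSpectrum K) := inferInstance
      exact hz'W t (h3 t))
  refine ⟨U, hUc, ?_, ?_⟩
  · intro s
    rw [hUmem s, MorphismProperty.isomorphisms.iff, isIso_ker_iff]
  · rw [MorphismProperty.isomorphisms.iff, isIso_ker_iff] at hUP
    exact hUP

theorem main5286 {S : Scheme.{u}} (H G : Over S) [GrpObj H] [GrpObj G]
    (hH : SGA3x.IsMultTypeFT H) [IsSeparated G.hom]
    (hG : IsLocallyNoetherian S ∨
      (LocallyOfFinitePresentation G.hom ∧ QuasiCompact G.hom ∧ QuasiSeparated G.hom))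
    (u : H ⟶ G) [IsMonHom u] :
    ∃ U : S.Opens, IsClosed (U : Set S) ∧
      (∀ s : S, s ∈ U ↔ (Over.pullback (S.fromSpecResidueField s)).map u = 1) ∧
      (Over.pullback U.ι).map u = 1 := by
  haveI := closedImm_kerι u
  rcases hG with hN | ⟨hfp, -, -⟩
  · haveI := hN
    haveI := lfp_kerι_of_noeth u hH
    exact main5286_aux H G hH u
  · haveI := hfp
    haveI := lfp_kerι_of_fp u
    exact main5286_aux H G hH u

end Groth.Agent.Lib.KerTrivH4
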