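import Mathlib
import Groth.Prelude
import Groth.Agent.Lib.KerTriv6_helper4

/-!
# Weil restriction of a closed subscheme of `H ×_S Y` along the projection to `Y`, for `H` a group
of multiplicative type: local theory (helper4)
-/

set_option backward.isDefEq.respectTransparency.types false
set_option autoImplicit false
set_option linter.unusedVariables false
set_option linter.unusedTactic false
set_option linter.unreachableTactic false
set_option linter.unusedSectionVars false
set_option linter.style.haveILetI false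
set_option linter.deprecated false
set_option linter.unusedSimpArgs false
set_option linter.style.longLine false
set_option maxHeartbeats 1600000

universe u

open CategoryTheory CategoryTheory.Limits MonoidalCategory CartesianMonoidalCategory MonObj GrpObj
  AlgebraicGeometry Opposite TensorProduct

namespace Groth.Agent.Lib.MTWeilH4

open Groth.Agent.Lib.RedDictH8 Groth.Agent.Lib.DSDict Groth.Agent.Lib.MultGa
  Groth.Agent.Lib.MultTrivH4 Groth.Agent.Lib.ConnActH4 Groth.Agent.Lib.TwConstFinH4
  Groth.Agent.Lib.MTHomH4 Groth.Agent.Lib.TorusQuotH4 Groth.Agent.Lib.KerTrivH4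

/-! ### The universal property of the closed subscheme cut out on an affine chart -/

section Chart

variable {S₀ : Scheme.{u}} {K H' : Over S₀} (k : K ⟶ H') (R : Type u) [CommRing R]
  (c : Spec (CommRingCat.of R) ⟶ S₀) (I : Ideal R)

theorem chart_affine
    (hstar : ∀ (C : Type u) [CommRing C] [Algebra R C],
      IsIso (bcL k (Spec.map (CommRingCat.ofHom (algebraMap R C)) ≫ c)) ↔
        I ≤ RingHom.ker (algebraMap R C))
    (A : CommRingCat.{u}) (ρ : Spec A ⟶ Spec (CommRingCat.of R))
    (h : IsIso (bcL k (ρ ≫ c))) :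
    ∃ l : Spec A ⟶ Spec (CommRingCat.of (R ⧸ I)),
      l ≫ Spec.map (CommRingCat.ofHom (Ideal.Quotient.mk I)) = ρ := by
  obtain ⟨C, iC, rfl⟩ : ∃ (C : Type u) (_ : CommRing C), A = CommRingCat.of C :=
    ⟨A, inferInstance, rfl⟩
  obtain ⟨φ, hφ⟩ : ∃ φ : CommRingCat.of R ⟶ CommRingCat.of C, Spec.map φ = ρ :=
    ⟨Spec.preimage ρ, Spec.map_preimage ρ⟩
  subst hφ
  letI : Algebra R C := φ.hom.toAlgebra
  have hI : I ≤ RingHom.ker φ.hom := (hstar C).mp h
  obtain ⟨ψ, hψ⟩ : ∃ ψ : R ⧸ I →+* C, ∀ x, ψ (Ideal.Quotient.mk I x) = φ.hom x :=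
    ⟨Ideal.Quotient.lift I φ.hom (fun x hx => RingHom.mem_ker.mp (hI hx)),
      fun x => Ideal.Quotient.lift_mk I _ _⟩
  refine ⟨Spec.map (CommRingCat.ofHom ψ), ?_⟩
  rw [← Spec.map_comp]
  congr 1
  apply CommRingCat.hom_ext
  apply RingHom.ext
  intro x
  exact hψ x

theorem chart_univ
    (hstar : ∀ (C : Type u) [CommRing C] [Algebra R C],
      IsIso (bcL k (Spec.map (CommRingCat.ofHom (algebraMap R C)) ≫ c)) ↔
        I ≤ RingHom.ker (algebraMap R C))
    {T : Scheme.{u}} (r : T ⟶ Spec (CommRingCat.of R)) :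
    IsIso (bcL k (r ≫ c)) ↔ ∃ l : T ⟶ Spec (CommRingCat.of (R ⧸ I)),
      l ≫ Spec.map (CommRingCat.ofHom (Ideal.Quotient.mk I)) = r := by
  obtain ⟨z, hz⟩ : ∃ z : Spec (CommRingCat.of (R ⧸ I)) ⟶ Spec (CommRingCat.of R),
      z = Spec.map (CommRingCat.ofHom (Ideal.Quotient.mk I)) := ⟨_, rfl⟩
  haveI hzc : IsClosedImmersion z := by
    rw [hz]
    exact IsClosedImmersion.spec_of_quotient_mk (R := CommRingCat.of R) I
  rw [← hz]
  constructor
  · intro h
    rw [← factor_iff (IsPullback.of_hasPullback z r)]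
    have hloc : (MorphismProperty.isomorphisms Scheme.{u}) (pullback.snd z r) := by
      rw [IsZariskiLocalAtTarget.iff_of_openCover
        (P := MorphismProperty.isomorphisms Scheme.{u}) T.affineCover]
      intro j
      show (MorphismProperty.isomorphisms Scheme.{u})
        (pullback.snd (pullback.snd z r) (T.affineCover.f j))
      rw [MorphismProperty.isomorphisms.iff]
      have h1 : IsIso (bcL k ((T.affineCover.f j ≫ r) ≫ c)) := by
        have h2 := P_bc (P := MorphismProperty.isomorphisms Scheme.{u}) k (r ≫ c)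
          (T.affineCover.f j) ((MorphismProperty.isomorphisms.iff _).mpr h)
        rw [MorphismProperty.isomorphisms.iff] at h2
        exact bcL_congr k (Category.assoc _ _ _).symm h2
      obtain ⟨l, hl⟩ := chart_affine k R c I hstar _ (T.affineCover.f j ≫ r) h1
      have h3 : IsIso (pullback.snd z (T.affineCover.f j ≫ r)) :=
        (factor_iff (IsPullback.of_hasPullback z (T.affineCover.f j ≫ r))).mpr
          ⟨l, by rw [hz]; exact hl⟩
      have h4 : (pullbackLeftPullbackSndIso z r (T.affineCover.f j)).hom ≫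
          pullback.snd z (T.affineCover.f j ≫ r) =
          pullback.snd (pullback.snd z r) (T.affineCover.f j) :=
        pullbackLeftPullbackSndIso_hom_snd z r (T.affineCover.f j)
      rw [← h4]
      infer_instance
    exact (MorphismProperty.isomorphisms.iff _).mp hloc
  · rintro ⟨l, rfl⟩
    have h1 : IsIso (bcL k (Spec.map (CommRingCat.ofHom (algebraMap R (R ⧸ I))) ≫ c)) :=
      (hstar (R ⧸ I)).mpr (by rw [Ideal.Quotient.algebraMap_eq, Ideal.mk_ker])
    have h2 := P_bc (P := MorphismProperty.isomorphisms Scheme.{u}) k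
      (Spec.map (CommRingCat.ofHom (algebraMap R (R ⧸ I))) ≫ c) l
      ((MorphismProperty.isomorphisms.iff _).mpr h1)
    rw [MorphismProperty.isomorphisms.iff] at h2
    refine bcL_congr k ?_ h2
    rw [hz, Category.assoc]

end Chart

/-! ### The set-up over `Y` -/

section Basic

variable {S : Scheme.{u}} {H Y K₀ : Over S} (k₀ : K₀ ⟶ H ⊗ Y)

/-- `H ×_S Y` as a scheme over `Y`. -/
noncomputable abbrev HB (H Y : Over S) : Over Y.left := Over.mk (snd H Y).left

/-- the closed subscheme, as a scheme over `Y`. -/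
noncomputable abbrev KB : Over Y.left := Over.mk (k₀.left ≫ (snd H Y).left)

/-- the inclusion, over `Y`. -/
noncomputable abbrev kB : KB k₀ ⟶ HB H Y := Over.homMk k₀.left rfl

theorem iso_iff_lift [Mono k₀.left] {T : Scheme.{u}} (t : T ⟶ Y.left) :
    IsIso (bcL (kB k₀) t) ↔ ∃ l : pullback (snd H Y).left t ⟶ K₀.left,
      l ≫ k₀.left = pullback.fst (snd H Y).left t := by
  haveI : Mono (kB k₀).left := (inferInstance : Mono k₀.left)
  exact factor_iff (sqL (kB k₀) t)

/-- the local ideal on an affine chart over which `H` is diagonalisable. -/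
theorem local_ideal [GrpObj H] [IsClosedImmersion k₀.left]
    [LocallyOfFinitePresentation k₀.left]
    (R : Type u) [CommRing R] (c : Spec (CommRingCat.of R) ⟶ Y.left) {N : Type} [AddCommGroup N]
    (P : PtIso H (c ≫ Y.hom) N) :
    ∃ I : Ideal R, I.FG ∧ ∀ (C : Type u) [CommRing C] [Algebra R C],
      IsIso (bcL (kB k₀) (Spec.map (CommRingCat.ofHom (algebraMap R C)) ≫ c)) ↔
        I ≤ RingHom.ker (algebraMap R C) := by
  obtain ⟨a, ainv, ha, hainv, h1, h2, -⟩ := split_of_ptIso (c ≫ Y.hom) P
  obtain ⟨B, iB, iA, iF, θ₀, hθ₀⟩ := coord R N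
  obtain ⟨θ, hθ⟩ : ∃ θ : pullback (HB H Y).hom c ≅ Spec (CommRingCat.of B),
      θ.hom ≫ Spec.map (CommRingCat.ofHom (algebraMap R B)) = pullback.snd (HB H Y).hom c := by
    have e1 : a.left ≫ ainv.left = 𝟙 _ := by
      rw [← Over.comp_left, h1]
      rfl
    have e2 : ainv.left ≫ a.left = 𝟙 _ := by
      rw [← Over.comp_left, h2]
      rfl
    refine ⟨pullbackLeftPullbackSndIso H.hom Y.hom c ≪≫ (⟨a.left, ainv.left, e1, e2⟩ :
      pullback H.hom (c ≫ Y.hom) ≅ (Red.DS (Spec (CommRingCat.of R)) N).left) ≪≫ θ₀, ?_⟩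
    rw [Iso.trans_hom, Iso.trans_hom, Category.assoc, Category.assoc, hθ₀]
    have h3 : a.left ≫ (Red.DS (Spec (CommRingCat.of R)) N).hom =
        pullback.snd H.hom (c ≫ Y.hom) := Over.w a
    rw [h3]
    exact pullbackLeftPullbackSndIso_hom_snd H.hom Y.hom c
  haveI : IsClosedImmersion (kB k₀).left := (inferInstance : IsClosedImmersion k₀.left)
  haveI : LocallyOfFinitePresentation (kB k₀).left :=
    (inferInstance : LocallyOfFinitePresentation k₀.left)
  obtain ⟨J, hJ, hdict⟩ := dict (kB k₀) R B c θ hθ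
  obtain ⟨I, hIfg, hI⟩ := coeff_ideal R B J hJ
  exact ⟨I, hIfg, fun C _ _ => (hdict C).trans (hI C)⟩

end Basic

end Groth.Agent.Lib.MTWeilH4
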