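import Mathlib
import Groth.Prelude
import Groth.Agent.Lib.MTWeil1_helper4
import Groth.Agent.Lib.ClosedDescentFam_helper7

/-!
# Weil restriction of a closed subscheme of `H ×_S Y` along the projection to `Y`, for `H` a group
of multiplicative type: globalisation by fpqc descent of closed subschemes (helper4)
-/

set_option backward.isDefEq.respectTransparency.types false
set_option autoImplicit false
set_option linter.unusedVariables false
set_option linter.unusedTactic false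
set_option linter.unreachableTactic false
set_option linter.unusedSectionVars false
set_option linter.style.haveILetI false
set_option linter.deprecated false
set_option linter.unusedSimpArgs false
set_option linter.style.longLine false
set_option maxHeartbeats 1600000

universe u

open CategoryTheory CategoryTheory.Limits MonoidalCategory CartesianMonoidalCategory MonObj GrpObj
  AlgebraicGeometry Opposite TensorProduct

namespace Groth.Agent.Lib.MTWeilH4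

open Groth.Agent.Lib.RedDictH8 Groth.Agent.Lib.DSDict Groth.Agent.Lib.MultGa
  Groth.Agent.Lib.MultTrivH4 Groth.Agent.Lib.ConnActH4 Groth.Agent.Lib.TwConstFinH4
  Groth.Agent.Lib.MTHomH4 Groth.Agent.Lib.TorusQuotH4 Groth.Agent.Lib.KerTrivH4

/-! ### The descent engine -/

section Engine

theorem P_congr {S₀ : Scheme.{u}} {G₁ H₁ : Over S₀} (u₁ : G₁ ⟶ H₁)
    (P : MorphismProperty Scheme.{u}) {T : Scheme.{u}} {g g' : T ⟶ S₀} (e : g = g')
    (h : P (bcL u₁ g)) : P (bcL u₁ g') := by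
  subst e
  exact h

theorem desc_imp {S₀ : Scheme.{u}} {G₁ H₁ G₂ H₂ : Over S₀} (u₁ : G₁ ⟶ H₁) (u₂ : G₂ ⟶ H₂)
    (P₁ P₂ : MorphismProperty Scheme.{u})
    [P₁.IsStableUnderBaseChange] [IsZariskiLocalAtTarget P₂]
    [P₂.DescendsAlong (@Surjective ⊓ @Flat ⊓ @QuasiCompact : MorphismProperty Scheme.{u})]
    {X : Scheme.{u}} (F : X ⟶ S₀)
    (hcov : ∀ b : S₀, ∃ V : S₀.Opens, b ∈ V ∧ ∃ (P' : Scheme.{u}) (p : P' ⟶ (V : Scheme.{u}))
      (m : P' ⟶ X), Flat p ∧ Surjective p ∧ QuasiCompact p ∧ m ≫ F = p ≫ V.ι)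
    (hchart : ∀ x : X, ∃ O : X.Opens, x ∈ O ∧ ∀ {T : Scheme.{u}} (r : T ⟶ X),
      (∀ t : T, r.base t ∈ O) → P₁ (bcL u₁ (r ≫ F)) → P₂ (bcL u₂ (r ≫ F)))
    {T : Scheme.{u}} (t : T ⟶ S₀) (h : P₁ (bcL u₁ t)) : P₂ (bcL u₂ t) := by
  choose V hbV P' p m hpf hps hpq hpm using hcov
  choose O hxO hO using hchart
  refine P_local (P := P₂) u₂ t (fun y : T => t ⁻¹ᵁ V (t.base y)) ?_ (fun y => ?_)
  · exact eq_top_iff.mpr (fun y _ =>
      TopologicalSpace.Opens.mem_iSup.mpr ⟨y, hbV (t.base y)⟩)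
  · obtain ⟨b, hb⟩ : ∃ b : S₀, b = t.base y := ⟨_, rfl⟩
    rw [← hb]
    haveI := hpf b
    haveI := hps b
    haveI := hpq b
    haveI : Flat (pullback.fst (t ∣_ V b) (p b)) :=
      MorphismProperty.pullback_fst (P := @Flat) _ _ inferInstance
    haveI : Surjective (pullback.fst (t ∣_ V b) (p b)) :=
      MorphismProperty.pullback_fst (P := @Surjective) _ _ inferInstance
    haveI : QuasiCompact (pullback.fst (t ∣_ V b) (p b)) :=
      MorphismProperty.pullback_fst (P := @QuasiCompact) _ _ inferInstance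
    apply P_desc u₂ ((t ⁻¹ᵁ V b).ι ≫ t) (pullback.fst (t ∣_ V b) (p b))
    have hkey : (pullback.snd (t ∣_ V b) (p b) ≫ m b) ≫ F =
        pullback.fst (t ∣_ V b) (p b) ≫ (t ⁻¹ᵁ V b).ι ≫ t := by
      calc (pullback.snd (t ∣_ V b) (p b) ≫ m b) ≫ F
          = pullback.snd (t ∣_ V b) (p b) ≫ (p b ≫ (V b).ι) := by rw [Category.assoc, hpm b]
        _ = (pullback.fst (t ∣_ V b) (p b) ≫ (t ∣_ V b)) ≫ (V b).ι := by
            rw [← Category.assoc, ← pullback.condition]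
        _ = pullback.fst (t ∣_ V b) (p b) ≫ (t ⁻¹ᵁ V b).ι ≫ t := by
            rw [Category.assoc, morphismRestrict_ι]
    refine P_congr u₂ P₂ hkey ?_
    obtain ⟨rr, hrr⟩ : ∃ rr : pullback (t ∣_ V b) (p b) ⟶ X,
        rr = pullback.snd (t ∣_ V b) (p b) ≫ m b := ⟨_, rfl⟩
    rw [← hrr]
    have h1 : P₁ (bcL u₁ (rr ≫ F)) := by
      refine P_congr u₁ P₁ ?_
        (P_bc u₁ t (pullback.fst (t ∣_ V b) (p b) ≫ (t ⁻¹ᵁ V b).ι) h)
      rw [Category.assoc, hrr, hkey]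
    refine P_local (P := P₂) u₂ (rr ≫ F)
      (fun z : ↥(pullback (t ∣_ V b) (p b)) => rr ⁻¹ᵁ O (rr.base z)) ?_ (fun z => ?_)
    · exact eq_top_iff.mpr (fun z _ =>
        TopologicalSpace.Opens.mem_iSup.mpr ⟨z, hxO (rr.base z)⟩)
    · rw [← Category.assoc]
      refine hO (rr.base z) ((rr ⁻¹ᵁ O (rr.base z)).ι ≫ rr) (fun w => w.2) ?_
      rw [Category.assoc]
      exact P_bc u₁ (rr ≫ F) (rr ⁻¹ᵁ O (rr.base z)).ι h1

theorem desc_iso {S₀ : Scheme.{u}} {G₁ H₁ G₂ H₂ : Over S₀} (u₁ : G₁ ⟶ H₁) (u₂ : G₂ ⟶ H₂)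
    {X : Scheme.{u}} (F : X ⟶ S₀)
    (hcov : ∀ b : S₀, ∃ V : S₀.Opens, b ∈ V ∧ ∃ (P' : Scheme.{u}) (p : P' ⟶ (V : Scheme.{u}))
      (m : P' ⟶ X), Flat p ∧ Surjective p ∧ QuasiCompact p ∧ m ≫ F = p ≫ V.ι)
    (hchart : ∀ x : X, ∃ O : X.Opens, x ∈ O ∧ ∀ {T : Scheme.{u}} (r : T ⟶ X),
      (∀ t : T, r.base t ∈ O) → IsIso (bcL u₁ (r ≫ F)) → IsIso (bcL u₂ (r ≫ F)))
    {T : Scheme.{u}} (t : T ⟶ S₀) (h : IsIso (bcL u₁ t)) : IsIso (bcL u₂ t) := by
  have h0 := desc_imp u₁ u₂ (MorphismProperty.isomorphisms Scheme.{u})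
    (MorphismProperty.isomorphisms Scheme.{u}) F hcov (by
      intro x
      obtain ⟨O, hxO, hO⟩ := hchart x
      exact ⟨O, hxO, fun r hr h' => (MorphismProperty.isomorphisms.iff _).mpr
        (hO r hr ((MorphismProperty.isomorphisms.iff _).mp h'))⟩) t
    ((MorphismProperty.isomorphisms.iff _).mpr h)
  exact (MorphismProperty.isomorphisms.iff _).mp h0

end Engine

/-! ### The closed subscheme on an affine chart, and compatibility of charts -/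

section Chart2

theorem chart_closed {S : Scheme.{u}} {H Y K₀ : Over S} (k₀ : K₀ ⟶ H ⊗ Y) [GrpObj H]
    [IsClosedImmersion k₀.left] [LocallyOfFinitePresentation k₀.left]
    (Q : Scheme.{u}) [IsAffine Q] (q : Q ⟶ Y.left) {N : Type} [AddCommGroup N]
    (P : PtIso H ((Q.isoSpec.inv ≫ q) ≫ Y.hom) N) :
    ∃ (Z : Scheme.{u}) (z : Z ⟶ Q), IsClosedImmersion z ∧ LocallyOfFinitePresentation z ∧
      ∀ {T : Scheme.{u}} (r : T ⟶ Q), IsIso (bcL (kB k₀) (r ≫ q)) ↔ ∃ l : T ⟶ Z, l ≫ z = r := by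
  obtain ⟨I, hIfg, hI⟩ := local_ideal k₀ Γ(Q, ⊤) (Q.isoSpec.inv ≫ q) P
  have huniv := fun {T : Scheme.{u}} (r : T ⟶ Spec (CommRingCat.of Γ(Q, ⊤))) =>
    chart_univ (kB k₀) Γ(Q, ⊤) (Q.isoSpec.inv ≫ q) I hI r
  haveI hzc : IsClosedImmersion (Spec.map (CommRingCat.ofHom (Ideal.Quotient.mk I))) :=
    IsClosedImmersion.spec_of_quotient_mk (R := CommRingCat.of Γ(Q, ⊤)) I
  haveI hzfp : LocallyOfFinitePresentation
      (Spec.map (CommRingCat.ofHom (Ideal.Quotient.mk I))) := by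
    rw [LocallyOfFinitePresentation.SpecMap_iff]
    refine RingHom.FinitePresentation.of_surjective _ Ideal.Quotient.mk_surjective ?_
    rw [CommRingCat.hom_ofHom, Ideal.mk_ker]
    exact hIfg
  refine ⟨Spec (CommRingCat.of (Γ(Q, ⊤) ⧸ I)),
    Spec.map (CommRingCat.ofHom (Ideal.Quotient.mk I)) ≫ Q.isoSpec.inv,
    inferInstance, inferInstance, ?_⟩
  intro T r
  have h1 := huniv (r ≫ Q.isoSpec.hom)
  have e1 : (r ≫ Q.isoSpec.hom) ≫ Q.isoSpec.inv ≫ q = r ≫ q := by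
    rw [Category.assoc, Iso.hom_inv_id_assoc]
  constructor
  · intro h
    obtain ⟨l, hl⟩ := h1.mp (bcL_congr (kB k₀) e1.symm h)
    refine ⟨l, ?_⟩
    rw [← Category.assoc, hl, Category.assoc, Iso.hom_inv_id, Category.comp_id]
  · rintro ⟨l, hl⟩
    refine bcL_congr (kB k₀) e1 (h1.mpr ⟨l, ?_⟩)
    rw [← hl, Category.assoc, Category.assoc, Iso.inv_hom_id, Category.comp_id]

theorem compat_le {S₀ : Scheme.{u}} {K H' : Over S₀} (k : K ⟶ H')
    {Q₁ Q₂ Z₁ Z₂ W : Scheme.{u}} (q₁ : Q₁ ⟶ S₀) (q₂ : Q₂ ⟶ S₀) (z₁ : Z₁ ⟶ Q₁) (z₂ : Z₂ ⟶ Q₂)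
    [IsClosedImmersion z₁] [IsClosedImmersion z₂]
    (p₁ : W ⟶ Q₁) (p₂ : W ⟶ Q₂) (hp : p₁ ≫ q₁ = p₂ ≫ q₂)
    (h₁ : ∀ {T : Scheme.{u}} (r : T ⟶ Q₁), IsIso (bcL k (r ≫ q₁)) ↔ ∃ l : T ⟶ Z₁, l ≫ z₁ = r)
    (h₂ : ∀ {T : Scheme.{u}} (r : T ⟶ Q₂), IsIso (bcL k (r ≫ q₂)) ↔ ∃ l : T ⟶ Z₂, l ≫ z₂ = r) :
    z₂.ker.comap p₂ ≤ z₁.ker.comap p₁ := by
  rw [← Scheme.IdealSheafData.ker_fst_of_isClosedImmersion z₁ p₁,
    ← Scheme.IdealSheafData.ker_fst_of_isClosedImmersion z₂ p₂]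
  have hiso : IsIso (bcL k ((pullback.fst p₁ z₁ ≫ p₂) ≫ q₂)) := by
    have h3 : IsIso (bcL k ((pullback.fst p₁ z₁ ≫ p₁) ≫ q₁)) :=
      (h₁ (pullback.fst p₁ z₁ ≫ p₁)).mpr ⟨pullback.snd p₁ z₁, pullback.condition.symm⟩
    refine bcL_congr k ?_ h3
    rw [Category.assoc, Category.assoc, hp]
  obtain ⟨l, hl⟩ := (h₂ (pullback.fst p₁ z₁ ≫ p₂)).mp hiso
  have h4 : pullback.lift (pullback.fst p₁ z₁) l hl.symm ≫ pullback.fst p₂ z₂ =
      pullback.fst p₁ z₁ := pullback.lift_fst _ _ _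
  calc (pullback.fst p₂ z₂).ker
      ≤ (pullback.lift (pullback.fst p₁ z₁) l hl.symm ≫ pullback.fst p₂ z₂).ker :=
        Scheme.Hom.le_ker_comp _ _
    _ = (pullback.fst p₁ z₁).ker := by rw [h4]

end Chart2

/-! ### A closed subscheme as a morphism over the base -/

section CB

/-- a scheme over `B`. -/
noncomputable abbrev CB {B C : Scheme.{u}} (cι : C ⟶ B) : Over B := Over.mk cι

/-- the base, over itself. -/
noncomputable abbrev oneB (B : Scheme.{u}) : Over B := Over.mk (𝟙 B)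

/-- a morphism to the base, as a morphism over the base. -/
noncomputable abbrev cB {B C : Scheme.{u}} (cι : C ⟶ B) : CB cι ⟶ oneB B :=
  Over.homMk cι (Category.comp_id cι)

theorem cB_iff {B C : Scheme.{u}} (cι : C ⟶ B) [Mono cι] {T : Scheme.{u}} (t : T ⟶ B) :
    IsIso (bcL (cB cι) t) ↔ ∃ l : T ⟶ C, l ≫ cι = t := by
  haveI : Mono (cB cι).left := (inferInstance : Mono cι)
  refine (factor_iff (sqL (cB cι) t)).trans ?_
  have hc : pullback.fst (oneB B).hom t = pullback.snd (oneB B).hom t ≫ t := by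
    have h0 := pullback.condition (f := (oneB B).hom) (g := t)
    rw [← h0]
    exact (Category.comp_id _).symm
  haveI : IsIso (pullback.snd (oneB B).hom t) := by
    show IsIso (pullback.snd (𝟙 B) t)
    infer_instance
  constructor
  · rintro ⟨l, hl⟩
    have hl' : l ≫ cι = pullback.fst (oneB B).hom t := hl
    refine ⟨inv (pullback.snd (oneB B).hom t) ≫ l, ?_⟩
    rw [Category.assoc, hl', hc, IsIso.inv_hom_id_assoc]
  · rintro ⟨l, hl⟩
    refine ⟨pullback.snd (oneB B).hom t ≫ l, ?_⟩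
    show (pullback.snd (oneB B).hom t ≫ l) ≫ cι = pullback.fst (oneB B).hom t
    rw [Category.assoc, hl, hc]

theorem factor_transfer {B C Q Z : Scheme.{u}} (q : Q ⟶ B) (cι : C ⟶ B) (z : Z ⟶ Q)
    [IsClosedImmersion cι] [IsClosedImmersion z] (hker : cι.ker.comap q = z.ker)
    {T : Scheme.{u}} (r : T ⟶ Q) :
    (∃ l : T ⟶ C, l ≫ cι = r ≫ q) ↔ ∃ l : T ⟶ Z, l ≫ z = r := by
  constructor
  · rintro ⟨l, hl⟩
    have h2 : pullback.lift r l hl.symm ≫ pullback.fst q cι = r := pullback.lift_fst _ _ _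
    have h1 : z.ker ≤ r.ker := by
      rw [← hker, ← Scheme.IdealSheafData.ker_fst_of_isClosedImmersion cι q]
      calc (pullback.fst q cι).ker
          ≤ (pullback.lift r l hl.symm ≫ pullback.fst q cι).ker := Scheme.Hom.le_ker_comp _ _
        _ = r.ker := by rw [h2]
    exact ⟨IsClosedImmersion.lift z r h1, IsClosedImmersion.lift_fac z r h1⟩
  · rintro ⟨l, rfl⟩
    have h1 : cι.ker ≤ (z ≫ q).ker := by
      rw [Scheme.Hom.ker_comp]
      exact Scheme.IdealSheafData.le_map_iff_comap_le.2 hker.le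
    refine ⟨l ≫ IsClosedImmersion.lift cι (z ≫ q) h1, ?_⟩
    rw [Category.assoc, IsClosedImmersion.lift_fac, Category.assoc]

theorem lfp_chart {B C Q Z : Scheme.{u}} (q : Q ⟶ B) (cι : C ⟶ B) (z : Z ⟶ Q)
    [IsClosedImmersion cι] [IsClosedImmersion z] [LocallyOfFinitePresentation z]
    (hker : cι.ker.comap q = z.ker) : LocallyOfFinitePresentation (bcL (cB cι) q) := by
  have hk : (pullback.snd cι q).ker = z.ker := by
    rw [Groth.Agent.Lib.ClosedDescent_helper7.ker_snd_of_isClosedImmersion cι q, hker]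
  obtain ⟨φ, hφ⟩ : ∃ φ : pullback cι q ⟶ Z, φ ≫ z = pullback.snd cι q :=
    ⟨IsClosedImmersion.lift z (pullback.snd cι q) hk.ge, IsClosedImmersion.lift_fac _ _ _⟩
  haveI : IsIso φ := IsClosedImmersion.isIso_of_ker_eq (pullback.snd cι q) z φ hφ hk
  haveI h1 : LocallyOfFinitePresentation (pullback.snd cι q) := by
    rw [← hφ]
    infer_instance
  have h2 : bcL (cB cι) q ≫ pullback.snd (oneB B).hom q = pullback.snd (CB cι).hom q :=
    bcL_snd (cB cι) q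
  haveI : IsIso (pullback.snd (oneB B).hom q) := by
    show IsIso (pullback.snd (𝟙 B) q)
    infer_instance
  have h3 : bcL (cB cι) q =
      pullback.snd (CB cι).hom q ≫ inv (pullback.snd (oneB B).hom q) := by
    rw [← h2, Category.assoc, IsIso.hom_inv_id, Category.comp_id]
  rw [h3]
  haveI : LocallyOfFinitePresentation (pullback.snd (CB cι).hom q) := h1
  infer_instance

theorem lfp_of_bcL_one {B C : Scheme.{u}} (cι : C ⟶ B)
    (h : LocallyOfFinitePresentation (bcL (cB cι) (𝟙 B))) : LocallyOfFinitePresentation cι := by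
  have sq := sqL (cB cι) (𝟙 B)
  haveI : IsIso (pullback.fst (CB cι).hom (𝟙 B)) := inferInstance
  haveI : IsIso (pullback.fst (oneB B).hom (𝟙 B)) := inferInstance
  have e : cι = inv (pullback.fst (CB cι).hom (𝟙 B)) ≫ bcL (cB cι) (𝟙 B) ≫
      pullback.fst (oneB B).hom (𝟙 B) := by
    rw [IsIso.eq_inv_comp]
    exact sq.w
  haveI := h
  have h5 : LocallyOfFinitePresentation (inv (pullback.fst (CB cι).hom (𝟙 B)) ≫
      bcL (cB cι) (𝟙 B) ≫ pullback.fst (oneB B).hom (𝟙 B)) := inferInstance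
  rw [← e] at h5
  exact h5

end CB

/-! ### The covering family of charts -/

section Family

theorem singleton_mem_fpqc_h4 {Z Y : Scheme.{u}} (q : Z ⟶ Y) (hfl : Flat q) (hs : Surjective q)
    (h : ∀ V : Y.Opens, IsAffineOpen V →
      ∃ W : Z.Opens, IsCompact (W : Set Z) ∧ q.base '' (W : Set Z) = (V : Set Y)) :
    Presieve.singleton q ∈ Scheme.fpqcPrecoverage Y := by
  haveI hqc : QuasiCompactCover (Scheme.Hom.cover.{u, u} (P := @Flat) q hfl).toPreZeroHypercover := by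
    refine ⟨fun {U} hU => ?_⟩
    obtain ⟨W, hWc, hWU⟩ := h U hU
    rw [IsCompactOpenCovered.iff_of_unique]
    exact ⟨W, hWc, hWU⟩
  have h2 : (Scheme.Hom.cover.{u, u} (P := @Flat) q hfl).toPreZeroHypercover.presieve₀ ∈
      Scheme.qcPrecoverage Y := Scheme.presieve₀_mem_qcPrecoverage_iff.2 hqc
  rw [Scheme.Hom.presieve₀_cover] at h2
  show Presieve.singleton q ∈ Scheme.propQCPrecoverage @Flat Y
  refine ⟨h2, ?_⟩
  rw [Scheme.singleton_mem_precoverage_iff]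
  exact ⟨q.surjective, hfl⟩

/-- the index type of the charts: an affine open of `P'` mapping into `U x`. -/
abbrev ChartIdx {S' P' : Scheme.{u}} (σ : P' ⟶ S') (U : S' → S'.Opens) : Type u :=
  Σ _ : PUnit.{u + 1}, {p : S' × P'.Opens // IsAffineOpen p.2 ∧ p.2 ≤ σ ⁻¹ᵁ (U p.1)}

theorem chart_exists {S' P' : Scheme.{u}} (σ : P' ⟶ S') (U : S' → S'.Opens)
    (hxU : ∀ x, x ∈ U x) (x : P') :
    ∃ O : P'.Opens, x ∈ O ∧ ∀ {T : Scheme.{u}} (r : T ⟶ P'), (∀ t : T, r.base t ∈ O) →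
      ∃ (i : ChartIdx σ U) (r₁ : T ⟶ (i.2.1.2 : Scheme.{u})), r₁ ≫ i.2.1.2.ι = r := by
  obtain ⟨V, hVaff, hxV, hVle⟩ := exists_isAffineOpen_mem_and_subset (x := x)
    (U := σ ⁻¹ᵁ U (σ.base x)) (hxU _)
  refine ⟨V, hxV, fun {T} r hr => ⟨⟨PUnit.unit, ⟨(σ.base x, V), hVaff, hVle⟩⟩, ?_⟩⟩
  have hrange : Set.range r ⊆ Set.range V.ι := by
    rintro _ ⟨t, rfl⟩
    exact ⟨⟨r.base t, hr t⟩, rfl⟩
  exact ⟨IsOpenImmersion.lift V.ι r hrange, IsOpenImmersion.lift_fac _ _ _⟩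

theorem chart_family_mem {S S' B P' : Scheme.{u}} (f : S' ⟶ S) (hflat : Flat f)
    (hsurj : Surjective f)
    (hqc : ∀ V : S.Opens, IsAffineOpen V →
      ∃ W : S'.Opens, IsCompact (W : Set S') ∧ f.base '' (W : Set S') = (V : Set S))
    (y : B ⟶ S) (π : P' ⟶ B) (σ : P' ⟶ S') (sq : IsPullback π σ y f)
    (U : S' → S'.Opens) (hxU : ∀ x, x ∈ U x) :
    Presieve.ofArrows (fun p : ChartIdx σ U => (p.2.1.2 : Scheme.{u}))
      (fun p => p.2.1.2.ι ≫ π) ∈ Scheme.fpqcPrecoverage B := by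
  have h1 : Presieve.ofArrows (fun _ : PUnit.{u + 1} => S') (fun _ => f) ∈
      Scheme.fpqcPrecoverage S := by
    rw [Presieve.ofArrows_pUnit]
    exact singleton_mem_fpqc_h4 f hflat hsurj hqc
  have h2 : Presieve.ofArrows (fun _ : PUnit.{u + 1} => P') (fun _ => π) ∈
      Scheme.fpqcPrecoverage B :=
    Precoverage.mem_coverings_of_isPullback (fun _ : PUnit.{u + 1} => f) h1 y
      (fun _ => π) (fun _ => σ) (fun _ => sq)
  have hcover : TopologicalSpace.IsOpenCover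
      (fun i : {p : S' × P'.Opens // IsAffineOpen p.2 ∧ p.2 ≤ σ ⁻¹ᵁ (U p.1)} => i.1.2) := by
    refine TopologicalSpace.IsOpenCover.mk (eq_top_iff.mpr (fun x _ => ?_))
    obtain ⟨V, hVaff, hxV, hVle⟩ := exists_isAffineOpen_mem_and_subset (x := x)
      (U := σ ⁻¹ᵁ U (σ.base x)) (hxU _)
    exact TopologicalSpace.Opens.mem_iSup.mpr ⟨⟨(σ.base x, V), hVaff, hVle⟩, hxV⟩
  have h3 : Presieve.ofArrows
      (fun i : {p : S' × P'.Opens // IsAffineOpen p.2 ∧ p.2 ≤ σ ⁻¹ᵁ (U p.1)} =>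
        (i.1.2 : Scheme.{u})) (fun i => i.1.2.ι) ∈ Scheme.fpqcPrecoverage P' :=
    Scheme.zariskiPrecoverage_le_fpqcPrecoverage _ (P'.openCoverOfIsOpenCover _ hcover).mem₀
  exact Precoverage.comp_mem_coverings (fun _ : PUnit.{u + 1} => π) h2
    (σ := fun _ => {p : S' × P'.Opens // IsAffineOpen p.2 ∧ p.2 ≤ σ ⁻¹ᵁ (U p.1)})
    (Y := fun _ i => (i.1.2 : Scheme.{u})) (fun _ i => i.1.2.ι) (fun _ => h3)

theorem cov_pieces {S S' B P' : Scheme.{u}} (f : S' ⟶ S) [Flat f]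
    (hqc : ∀ V : S.Opens, IsAffineOpen V →
      ∃ W : S'.Opens, IsCompact (W : Set S') ∧ f.base '' (W : Set S') = (V : Set S))
    (y : B ⟶ S) (π : P' ⟶ B) (σ : P' ⟶ S') (sq : IsPullback π σ y f) (b : B) :
    ∃ V : B.Opens, b ∈ V ∧ ∃ (P'' : Scheme.{u}) (p : P'' ⟶ (V : Scheme.{u})) (m : P'' ⟶ P'),
      Flat p ∧ Surjective p ∧ QuasiCompact p ∧ m ≫ π = p ≫ V.ι := by
  obtain ⟨O, hOaff, hbO, -⟩ := exists_isAffineOpen_mem_and_subset (x := y.base b)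
    (U := (⊤ : S.Opens)) (TopologicalSpace.Opens.mem_top _)
  obtain ⟨W, hWc, hWO⟩ := hqc O hOaff
  obtain ⟨fW, hfW, h1, h2, h3⟩ := exists_fpqc_piece f O hOaff W hWc hWO
  haveI := h1
  haveI := h2
  haveI := h3
  have hcomm : (pullback.fst (y ∣_ O) fW ≫ (y ⁻¹ᵁ O).ι) ≫ y =
      (pullback.snd (y ∣_ O) fW ≫ W.ι) ≫ f := by
    calc (pullback.fst (y ∣_ O) fW ≫ (y ⁻¹ᵁ O).ι) ≫ y
        = pullback.fst (y ∣_ O) fW ≫ ((y ∣_ O) ≫ O.ι) := by
          rw [Category.assoc, morphismRestrict_ι]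
      _ = (pullback.snd (y ∣_ O) fW ≫ fW) ≫ O.ι := by
          rw [← Category.assoc, pullback.condition]
      _ = (pullback.snd (y ∣_ O) fW ≫ W.ι) ≫ f := by
          rw [Category.assoc, hfW, Category.assoc]
  exact ⟨y ⁻¹ᵁ O, hbO, pullback (y ∣_ O) fW, pullback.fst (y ∣_ O) fW,
    sq.lift (pullback.fst (y ∣_ O) fW ≫ (y ⁻¹ᵁ O).ι) (pullback.snd (y ∣_ O) fW ≫ W.ι) hcomm,
    MorphismProperty.pullback_fst (P := @Flat) _ _ inferInstance,
    MorphismProperty.pullback_fst (P := @Surjective) _ _ inferInstance,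
    MorphismProperty.pullback_fst (P := @QuasiCompact) _ _ inferInstance, sq.lift_fst _ _ _⟩

end Family

/-! ### The main theorem -/

section Main

theorem chart_data {S : Scheme.{u}} {H Y K₀ : Over S} (k₀ : K₀ ⟶ H ⊗ Y) [GrpObj H]
    [IsClosedImmersion k₀.left] [LocallyOfFinitePresentation k₀.left]
    {S' P' : Scheme.{u}} (f : S' ⟶ S) (π : P' ⟶ Y.left) (σ : P' ⟶ S')
    (hw : π ≫ Y.hom = σ ≫ f)
    (U₀ : S'.Opens) {M₀ : Type} [AddCommGroup M₀]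
    (eA : Grp.mk (Red.bc (U₀.ι ≫ f) H) ≅ Grp.mk (Red.DS (U₀ : Scheme.{u}) M₀))
    (V : P'.Opens) (hVaff : IsAffineOpen V) (hVle : V ≤ σ ⁻¹ᵁ U₀) :
    ∃ (Z : Scheme.{u}) (z : Z ⟶ (V : Scheme.{u})), IsClosedImmersion z ∧
      LocallyOfFinitePresentation z ∧ ∀ {T : Scheme.{u}} (r : T ⟶ (V : Scheme.{u})),
        IsIso (bcL (kB k₀) (r ≫ V.ι ≫ π)) ↔ ∃ l : T ⟶ Z, l ≫ z = r := by
  haveI : IsAffine (V : Scheme.{u}) := hVaff
  obtain ⟨a1, ainv, ha1, hainv, h1, h2⟩ := Groth.Agent.Lib.DiagHom.iso_data eA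
  haveI := ha1
  haveI := hainv
  have hrange : Set.range (V.ι ≫ σ) ⊆ Set.range U₀.ι := by
    rintro _ ⟨⟨v, hv⟩, rfl⟩
    exact ⟨⟨σ.base v, hVle hv⟩, rfl⟩
  obtain ⟨r₀, hr₀⟩ : ∃ r₀ : (V : Scheme.{u}) ⟶ (U₀ : Scheme.{u}), r₀ ≫ U₀.ι = V.ι ≫ σ :=
    ⟨IsOpenImmersion.lift U₀.ι (V.ι ≫ σ) hrange, IsOpenImmersion.lift_fac _ _ _⟩
  obtain ⟨eP⟩ := exists_transport H (U₀.ι ≫ f) a1 ainv h1 h2
    ((V : Scheme.{u}).isoSpec.inv ≫ r₀)
    (((V : Scheme.{u}).isoSpec.inv ≫ V.ι ≫ π) ≫ Y.hom) (by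
      calc ((V : Scheme.{u}).isoSpec.inv ≫ r₀) ≫ U₀.ι ≫ f
          = (V : Scheme.{u}).isoSpec.inv ≫ (r₀ ≫ U₀.ι) ≫ f := by
            simp only [Category.assoc]
        _ = (V : Scheme.{u}).isoSpec.inv ≫ (V.ι ≫ σ) ≫ f := by rw [hr₀]
        _ = ((V : Scheme.{u}).isoSpec.inv ≫ V.ι ≫ π) ≫ Y.hom := by
            simp only [Category.assoc, hw])
  exact chart_closed k₀ (V : Scheme.{u}) (V.ι ≫ π) eP

/-- **Theorem W**: for `H` of multiplicative type and of finite type over `S`, and a closed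
subscheme `K₀` of `H ×_S Y` locally of finite presentation, the locus of `Y` over which `K₀` is
all of `H ×_S Y` is a closed subscheme of `Y`, locally of finite presentation over `Y`. -/
theorem weil_closed {S : Scheme.{u}} {H Y K₀ : Over S} [GrpObj H] (hH : SGA3x.IsMultTypeFT H)
    (k₀ : K₀ ⟶ H ⊗ Y) [IsClosedImmersion k₀.left] [LocallyOfFinitePresentation k₀.left] :
    ∃ (C : Scheme.{u}) (cι : C ⟶ Y.left), IsClosedImmersion cι ∧
      LocallyOfFinitePresentation cι ∧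
      ∀ {T : Scheme.{u}} (t : T ⟶ Y.left), (∃ l : T ⟶ C, l ≫ cι = t) ↔
        IsIso (bcL (kB k₀) t) := by
  obtain ⟨S', f, hflat, hsurj, hqc, hloc⟩ := hH
  haveI := hflat
  haveI := hsurj
  choose U hxU M iM hMfg eH using hloc
  obtain ⟨P', π, σ, sq⟩ : ∃ (P' : Scheme.{u}) (π : P' ⟶ Y.left) (σ : P' ⟶ S'),
      IsPullback π σ Y.hom f := ⟨_, _, _, IsPullback.of_hasPullback Y.hom f⟩
  have hmem := chart_family_mem f hflat hsurj hqc Y.hom π σ sq U hxU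
  have hcov := cov_pieces f hqc Y.hom π σ sq
  have hch := chart_exists σ U hxU
  have hchartdata : ∀ i : ChartIdx σ U, ∃ (Z : Scheme.{u}) (z : Z ⟶ (i.2.1.2 : Scheme.{u})),
      IsClosedImmersion z ∧ LocallyOfFinitePresentation z ∧
        ∀ {T : Scheme.{u}} (r : T ⟶ (i.2.1.2 : Scheme.{u})),
          IsIso (bcL (kB k₀) (r ≫ i.2.1.2.ι ≫ π)) ↔ ∃ l : T ⟶ Z, l ≫ z = r := by
    intro i
    letI := iM i.2.1.1
    obtain ⟨eA⟩ := eH i.2.1.1
    exact chart_data k₀ f π σ sq.w (U i.2.1.1) eA i.2.1.2 i.2.2.1 i.2.2.2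
  choose Z z hzc hzfp hzuniv using hchartdata
  haveI := hzc
  have hcompat : ∀ i j : ChartIdx σ U,
      ((z i).ker).comap (pullback.fst (i.2.1.2.ι ≫ π) (j.2.1.2.ι ≫ π)) =
        ((z j).ker).comap (pullback.snd (i.2.1.2.ι ≫ π) (j.2.1.2.ι ≫ π)) := by
    intro i j
    refine le_antisymm ?_ ?_
    · exact compat_le (kB k₀) (j.2.1.2.ι ≫ π) (i.2.1.2.ι ≫ π) (z j) (z i)
        (pullback.snd (i.2.1.2.ι ≫ π) (j.2.1.2.ι ≫ π))
        (pullback.fst (i.2.1.2.ι ≫ π) (j.2.1.2.ι ≫ π)) pullback.condition.symm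
        (fun {T} r => hzuniv j r) (fun {T} r => hzuniv i r)
    · exact compat_le (kB k₀) (i.2.1.2.ι ≫ π) (j.2.1.2.ι ≫ π) (z i) (z j)
        (pullback.fst (i.2.1.2.ι ≫ π) (j.2.1.2.ι ≫ π))
        (pullback.snd (i.2.1.2.ι ≫ π) (j.2.1.2.ι ≫ π)) pullback.condition
        (fun {T} r => hzuniv i r) (fun {T} r => hzuniv j r)
  obtain ⟨J, hJ, -⟩ := Groth.Agent.Lib.ClosedDescentFam_helper7.main
    (Q := fun p : ChartIdx σ U => (p.2.1.2 : Scheme.{u}))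
    (fun p : ChartIdx σ U => p.2.1.2.ι ≫ π) (fun p => (z p).ker) hmem hcompat
  have hker : ∀ i : ChartIdx σ U, (J.subschemeι).ker.comap (i.2.1.2.ι ≫ π) = (z i).ker := by
    intro i
    rw [Scheme.IdealSheafData.ker_subschemeι]
    exact hJ i
  have hequiv : ∀ (i : ChartIdx σ U) {T : Scheme.{u}} (r₁ : T ⟶ (i.2.1.2 : Scheme.{u})),
      IsIso (bcL (cB J.subschemeι) (r₁ ≫ i.2.1.2.ι ≫ π)) ↔
        IsIso (bcL (kB k₀) (r₁ ≫ i.2.1.2.ι ≫ π)) := by
    intro i T r₁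
    exact (cB_iff J.subschemeι _).trans
      ((factor_transfer (i.2.1.2.ι ≫ π) J.subschemeι (z i) (hker i) r₁).trans
        (hzuniv i r₁).symm)
  have hchart1 : ∀ x : P', ∃ O : P'.Opens, x ∈ O ∧ ∀ {T : Scheme.{u}} (r : T ⟶ P'),
      (∀ t : T, r.base t ∈ O) → IsIso (bcL (cB J.subschemeι) (r ≫ π)) →
        IsIso (bcL (kB k₀) (r ≫ π)) := by
    intro x
    obtain ⟨O, hxO, hO⟩ := hch x
    refine ⟨O, hxO, fun {T} r hr h => ?_⟩
    obtain ⟨i, r₁, hr₁⟩ := hO r hr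
    have e : r₁ ≫ i.2.1.2.ι ≫ π = r ≫ π := by rw [← Category.assoc, hr₁]
    exact bcL_congr (kB k₀) e ((hequiv i r₁).mp (bcL_congr (cB J.subschemeι) e.symm h))
  have hchart2 : ∀ x : P', ∃ O : P'.Opens, x ∈ O ∧ ∀ {T : Scheme.{u}} (r : T ⟶ P'),
      (∀ t : T, r.base t ∈ O) → IsIso (bcL (kB k₀) (r ≫ π)) →
        IsIso (bcL (cB J.subschemeι) (r ≫ π)) := by
    intro x
    obtain ⟨O, hxO, hO⟩ := hch x
    refine ⟨O, hxO, fun {T} r hr h => ?_⟩
    obtain ⟨i, r₁, hr₁⟩ := hO r hr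
    have e : r₁ ≫ i.2.1.2.ι ≫ π = r ≫ π := by rw [← Category.assoc, hr₁]
    exact bcL_congr (cB J.subschemeι) e ((hequiv i r₁).mpr (bcL_congr (kB k₀) e.symm h))
  have hlfp : LocallyOfFinitePresentation J.subschemeι := by
    apply lfp_of_bcL_one
    refine desc_imp (cB J.subschemeι) (cB J.subschemeι) ⊤ @LocallyOfFinitePresentation π hcov ?_
      (𝟙 Y.left) trivial
    intro x
    obtain ⟨O, hxO, hO⟩ := hch x
    refine ⟨O, hxO, fun {T} r hr _ => ?_⟩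
    obtain ⟨i, r₁, hr₁⟩ := hO r hr
    have e : r₁ ≫ i.2.1.2.ι ≫ π = r ≫ π := by rw [← Category.assoc, hr₁]
    haveI := hzfp i
    exact P_congr (cB J.subschemeι) @LocallyOfFinitePresentation e
      (P_bc (cB J.subschemeι) (i.2.1.2.ι ≫ π) r₁
        (lfp_chart (i.2.1.2.ι ≫ π) J.subschemeι (z i) (hker i)))
  refine ⟨J.subscheme, J.subschemeι, inferInstance, hlfp, ?_⟩
  intro T t
  constructor
  · rintro ⟨l, hl⟩
    exact desc_iso (cB J.subschemeι) (kB k₀) π hcov hchart1 t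
      ((cB_iff J.subschemeι t).mpr ⟨l, hl⟩)
  · intro h
    exact (cB_iff J.subschemeι t).mp (desc_iso (kB k₀) (cB J.subschemeι) π hcov hchart2 t h)

end Main

end Groth.Agent.Lib.MTWeilH4
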