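import Mathlib
import Groth.Prelude
import Groth.Agent.Lib.MTWeil2_helper4

/-!
# Centralisers and transporters of groups of multiplicative type are closed (helper4)
-/

set_option backward.isDefEq.respectTransparency.types false
set_option autoImplicit false
set_option linter.unusedVariables false
set_option linter.unusedTactic false
set_option linter.unreachableTactic false
set_option linter.unusedSectionVars false
set_option linter.style.haveILetI false
set_option linter.deprecated false
set_option linter.unusedSimpArgs false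
set_option linter.style.longLine false
set_option maxHeartbeats 1600000

universe u

open CategoryTheory CategoryTheory.Limits MonoidalCategory CartesianMonoidalCategory MonObj GrpObj
  AlgebraicGeometry Opposite TensorProduct

namespace Groth.Agent.Lib.MTWeilH4

open Groth.Agent.Lib.RedDictH8 Groth.Agent.Lib.DSDict Groth.Agent.Lib.MultGa
  Groth.Agent.Lib.MultTrivH4 Groth.Agent.Lib.ConnActH4 Groth.Agent.Lib.TwConstFinH4
  Groth.Agent.Lib.MTHomH4 Groth.Agent.Lib.TorusQuotH4 Groth.Agent.Lib.KerTrivH4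

/-! ### Points of `H ×_S X` -/

section Pts

variable {S : Scheme.{u}} {H G K₀ X : Over S} (k₀ : K₀ ⟶ H ⊗ G) (g : X ⟶ G)

theorem lift_iff_pts :
    (∃ l : pullback (snd H G).left g.left ⟶ K₀.left,
        l ≫ k₀.left = pullback.fst (snd H G).left g.left) ↔
      ∀ (X' : Over S) (x : X' ⟶ X) (a : X' ⟶ H), ∃ y : X' ⟶ K₀, y ≫ k₀ = lift a (x ≫ g) := by
  constructor
  · rintro ⟨l, hl⟩ X' x a
    have hm : (lift a (x ≫ g)).left ≫ (snd H G).left = x.left ≫ g.left := by
      rw [← Over.comp_left, lift_snd, Over.comp_left]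
    have h1 : l ≫ K₀.hom = pullback.fst (snd H G).left g.left ≫ (H ⊗ G).hom := by
      rw [← hl, Category.assoc, Over.w k₀]
    refine ⟨Over.homMk (pullback.lift (lift a (x ≫ g)).left x.left hm ≫ l) ?_, ?_⟩
    · rw [Category.assoc, h1, pullback.lift_fst_assoc, Over.w]
    · apply Over.OverMorphism.ext
      show (pullback.lift (lift a (x ≫ g)).left x.left hm ≫ l) ≫ k₀.left =
        (lift a (x ≫ g)).left
      rw [Category.assoc, hl, pullback.lift_fst]
  · intro h
    obtain ⟨XP, hXP⟩ : ∃ XP : Over S,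
        XP = Over.mk (pullback.fst (snd H G).left g.left ≫ (H ⊗ G).hom) := ⟨_, rfl⟩
    subst hXP
    obtain ⟨xP, hxP⟩ : ∃ xP : Over.mk (pullback.fst (snd H G).left g.left ≫ (H ⊗ G).hom) ⟶
        H ⊗ G, xP.left = pullback.fst (snd H G).left g.left := ⟨Over.homMk _ rfl, rfl⟩
    obtain ⟨x₂, hx₂⟩ : ∃ x₂ : Over.mk (pullback.fst (snd H G).left g.left ≫ (H ⊗ G).hom) ⟶ X,
        x₂.left = pullback.snd (snd H G).left g.left := by
      refine ⟨Over.homMk (pullback.snd (snd H G).left g.left) ?_, rfl⟩
      show pullback.snd (snd H G).left g.left ≫ X.hom =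
        pullback.fst (snd H G).left g.left ≫ (H ⊗ G).hom
      rw [← Over.w g, ← Category.assoc, ← pullback.condition, Category.assoc, Over.w (snd H G)]
    obtain ⟨y, hy⟩ := h _ x₂ (xP ≫ fst H G)
    have e1 : x₂ ≫ g = xP ≫ snd H G := by
      apply Over.OverMorphism.ext
      rw [Over.comp_left, Over.comp_left, hx₂, hxP]
      exact pullback.condition.symm
    have e2 : lift (xP ≫ fst H G) (x₂ ≫ g) = xP := by
      apply CartesianMonoidalCategory.hom_ext
      · rw [lift_fst]
      · rw [lift_snd, e1]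
    refine ⟨y.left, ?_⟩
    rw [← Over.comp_left, hy, e2, hxP]

end Pts

/-! ### Factoring through a closed subscheme, over `S` -/

theorem over_factor_iff {S : Scheme.{u}} {G X : Over S} {C : Scheme.{u}} (cι : C ⟶ G.left)
    (g : X ⟶ G) :
    (∃ z : X ⟶ Over.mk (cι ≫ G.hom),
        z ≫ (Over.homMk cι rfl : Over.mk (cι ≫ G.hom) ⟶ G) = g) ↔
      ∃ l : X.left ⟶ C, l ≫ cι = g.left := by
  constructor
  · rintro ⟨z, rfl⟩
    exact ⟨z.left, rfl⟩
  · rintro ⟨l, hl⟩
    refine ⟨Over.homMk l ?_, ?_⟩
    · show l ≫ cι ≫ G.hom = X.hom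
      rw [← Category.assoc, hl, Over.w]
    · apply Over.OverMorphism.ext
      exact hl

/-! ### Pullbacks over `S` -/

section PB

variable {S : Scheme.{u}} {A G Y' : Over S} (v : A ⟶ G) (y' : Y' ⟶ G)

/-- the pullback of `y'` along `v`, over `S`. -/
noncomputable def pbObj : Over S := Over.mk (pullback.fst v.left y'.left ≫ A.hom)

/-- the projection of the pullback. -/
noncomputable def pbι : pbObj v y' ⟶ A := Over.homMk (pullback.fst v.left y'.left) rfl

theorem pbι_left : (pbι v y').left = pullback.fst v.left y'.left := rfl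

theorem pb_iff {X' : Over S} (w : X' ⟶ A) :
    (∃ y : X' ⟶ pbObj v y', y ≫ pbι v y' = w) ↔ ∃ a' : X' ⟶ Y', w ≫ v = a' ≫ y' := by
  constructor
  · rintro ⟨y, rfl⟩
    have e : pullback.snd v.left y'.left ≫ Y'.hom = pullback.fst v.left y'.left ≫ A.hom := by
      rw [← Over.w y', ← Category.assoc, ← pullback.condition, Category.assoc, Over.w v]
    refine ⟨Over.homMk (y.left ≫ pullback.snd v.left y'.left) ?_, ?_⟩
    · show (y.left ≫ pullback.snd v.left y'.left) ≫ Y'.hom = X'.hom
      exact (Category.assoc _ _ _).trans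
        ((congrArg (fun t => y.left ≫ t) e).trans (Over.w y))
    · apply Over.OverMorphism.ext
      show (y.left ≫ pullback.fst v.left y'.left) ≫ v.left =
        (y.left ≫ pullback.snd v.left y'.left) ≫ y'.left
      exact (Category.assoc _ _ _).trans
        ((congrArg (fun t => y.left ≫ t) pullback.condition).trans (Category.assoc _ _ _).symm)
  · rintro ⟨a', ha'⟩
    have hl : w.left ≫ v.left = a'.left ≫ y'.left := by
      rw [← Over.comp_left, ha', Over.comp_left]
    refine ⟨Over.homMk (pullback.lift w.left a'.left hl) ?_, ?_⟩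
    · show pullback.lift w.left a'.left hl ≫ pullback.fst v.left y'.left ≫ A.hom = X'.hom
      rw [pullback.lift_fst_assoc, Over.w]
    · apply Over.OverMorphism.ext
      show pullback.lift w.left a'.left hl ≫ pullback.fst v.left y'.left = w.left
      exact pullback.lift_fst _ _ _

end PB

/-! ### The centraliser -/

section Cent

variable {S : Scheme.{u}} (G H : Over S) [GrpObj G] [GrpObj H] (i : H ⟶ G)

/-- the commutator map `(h, g) ↦ g i(h) g⁻¹ i(h)⁻¹`. -/
noncomputable def commMap : H ⊗ G ⟶ G :=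
  snd H G * (fst H G ≫ i) * (snd H G)⁻¹ * (fst H G ≫ i)⁻¹

/-- the conjugation map `(h, g) ↦ g i(h) g⁻¹`. -/
noncomputable def conjMap : H ⊗ G ⟶ G :=
  snd H G * (fst H G ≫ i) * (snd H G)⁻¹

theorem lift_commMap {X' : Over S} (a : X' ⟶ H) (b : X' ⟶ G) :
    lift a b ≫ commMap G H i = b * (a ≫ i) * b⁻¹ * (a ≫ i)⁻¹ := by
  unfold commMap
  rw [MonObj.comp_mul, MonObj.comp_mul, MonObj.comp_mul, GrpObj.comp_inv, GrpObj.comp_inv,
    lift_snd, ← Category.assoc, lift_fst]

theorem lift_conjMap {X' : Over S} (a : X' ⟶ H) (b : X' ⟶ G) :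
    lift a b ≫ conjMap G H i = b * (a ≫ i) * b⁻¹ := by
  unfold conjMap
  rw [MonObj.comp_mul, MonObj.comp_mul, GrpObj.comp_inv, lift_snd, ← Category.assoc, lift_fst]

theorem comm_iff {X' : Over S} (p q : X' ⟶ G) : p * q * p⁻¹ * q⁻¹ = 1 ↔ p * q = q * p := by
  rw [_root_.mul_assoc (p * q), ← _root_.mul_inv_rev, _root_.mul_inv_eq_one]

theorem main19599 (hGa : IsAffineHom G.hom) (hGfp : LocallyOfFinitePresentation G.hom)
    (hH : SGA3x.IsMultTypeFT H) :
    ∃ (C : Over S) (c : C ⟶ G), IsClosedImmersion c.left ∧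
      ∀ (X : Over S) (g : X ⟶ G), (∃ z : X ⟶ C, z ≫ c = g) ↔
        ∀ (X' : Over S) (x : X' ⟶ X) (a : X' ⟶ H),
          (x ≫ g) * (a ≫ i) = (a ≫ i) * (x ≫ g) := by
  haveI := hGa
  haveI := hGfp
  haveI : IsSeparated G.hom := inferInstance
  haveI hc : IsClosedImmersion (kerι (commMap G H i)).left := closedImm_kerι (commMap G H i)
  haveI hf : LocallyOfFinitePresentation (kerι (commMap G H i)).left :=
    lfp_kerι_of_fp (commMap G H i)
  haveI : Mono (kerι (commMap G H i)).left := inferInstance
  obtain ⟨C, cι, hcc, -, huniv⟩ := weil_closed hH (kerι (commMap G H i))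
  refine ⟨Over.mk (cι ≫ G.hom), Over.homMk cι rfl, hcc, ?_⟩
  intro X g
  refine (over_factor_iff cι g).trans ((huniv g.left).trans
    ((iso_iff_lift (kerι (commMap G H i)) g.left).trans
      ((lift_iff_pts (kerι (commMap G H i)) g).trans ?_)))
  refine forall_congr' (fun X' => forall_congr' (fun x => forall_congr' (fun a => ?_)))
  rw [ker_iff (commMap G H i) (lift a (x ≫ g)), lift_commMap, comm_iff]

theorem main16777 (Y' : Over S) (hGa : IsAffineHom G.hom)
    (hGfp : LocallyOfFinitePresentation G.hom) (hH : SGA3x.IsMultTypeFT H)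
    (y' : Y' ⟶ G) (hy' : IsClosedImmersion y'.left)
    (hY'fp : LocallyOfFinitePresentation Y'.hom) :
    ∃ (C : Over S) (c : C ⟶ G), IsClosedImmersion c.left ∧
      LocallyOfFinitePresentation C.hom ∧
      ∀ (X : Over S) (g : X ⟶ G), (∃ z : X ⟶ C, z ≫ c = g) ↔
        ∀ (X' : Over S) (x : X' ⟶ X) (h : X' ⟶ H), ∃ a' : X' ⟶ Y',
          (x ≫ g) * (h ≫ i) * (x ≫ g)⁻¹ = a' ≫ y' := by
  haveI := hGa
  haveI := hGfp
  haveI := hy'
  haveI := hY'fp
  haveI : LocallyOfFinitePresentation y'.left := by
    haveI : LocallyOfFinitePresentation (y'.left ≫ G.hom) := by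
      rw [Over.w y']
      exact hY'fp
    exact lfp_of_comp' y'.left G.hom
  haveI hc : IsClosedImmersion (pbι (conjMap G H i) y').left := by
    show IsClosedImmersion (pullback.fst (conjMap G H i).left y'.left)
    infer_instance
  haveI hf : LocallyOfFinitePresentation (pbι (conjMap G H i) y').left := by
    show LocallyOfFinitePresentation (pullback.fst (conjMap G H i).left y'.left)
    infer_instance
  haveI : Mono (pbι (conjMap G H i) y').left := inferInstance
  obtain ⟨C, cι, hcc, hcfp, huniv⟩ := weil_closed hH (pbι (conjMap G H i) y')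
  haveI := hcfp
  refine ⟨Over.mk (cι ≫ G.hom), Over.homMk cι rfl, hcc, ?_, ?_⟩
  · show LocallyOfFinitePresentation (cι ≫ G.hom)
    infer_instance
  · intro X g
    refine (over_factor_iff cι g).trans ((huniv g.left).trans
      ((iso_iff_lift (pbι (conjMap G H i) y') g.left).trans
        ((lift_iff_pts (pbι (conjMap G H i) y') g).trans ?_)))
    refine forall_congr' (fun X' => forall_congr' (fun x => forall_congr' (fun h => ?_)))
    rw [pb_iff (conjMap G H i) y' (lift h (x ≫ g)), lift_conjMap]

end Cent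

end Groth.Agent.Lib.MTWeilH4
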