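import Mathlib
import Groth.Prelude
import Groth.Agent.Lib.MTWeil3_helper4

/-!
# Weil restriction of a closed subscheme along `H ×_S Y → Y` for `H` affine with locally free
coordinate ring: the general (not finitely presented) local theory and the gluing (helper4)
-/

set_option backward.isDefEq.respectTransparency.types false
set_option autoImplicit false
set_option linter.unusedVariables false
set_option linter.unusedTactic false
set_option linter.unreachableTactic false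
set_option linter.unusedSectionVars false
set_option linter.style.haveILetI false
set_option linter.deprecated false
set_option linter.unusedSimpArgs false
set_option linter.style.longLine false
set_option maxHeartbeats 1600000

universe u

open CategoryTheory CategoryTheory.Limits MonoidalCategory CartesianMonoidalCategory MonObj GrpObj
  AlgebraicGeometry Opposite TensorProduct

namespace Groth.Agent.Lib.MTWeilH4

open Groth.Agent.Lib.RedDictH8 Groth.Agent.Lib.DSDict Groth.Agent.Lib.MultGa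
  Groth.Agent.Lib.MultTrivH4 Groth.Agent.Lib.ConnActH4 Groth.Agent.Lib.TwConstFinH4
  Groth.Agent.Lib.MTHomH4 Groth.Agent.Lib.TorusQuotH4 Groth.Agent.Lib.KerTrivH4

/-! ### The coefficient ideal of an arbitrary ideal -/

theorem coeff_ideal_gen (R : Type u) [CommRing R] (B : Type u) [CommRing B] [Algebra R B]
    [Module.Free R B] (J : Ideal B) :
    ∃ I : Ideal R, ∀ (C : Type u) [CommRing C] [Algebra R C],
      (J ≤ RingHom.ker (Algebra.TensorProduct.includeLeftRingHom : B →+* B ⊗[R] C)) ↔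
        I ≤ RingHom.ker (algebraMap R C) := by
  classical
  obtain ⟨b, -⟩ : ∃ b : Module.Basis (Module.Free.ChooseBasisIndex R B) R B, b = b :=
    ⟨Module.Free.chooseBasis R B, rfl⟩
  refine ⟨Ideal.span {r : R | ∃ j ∈ J, ∃ i, b.repr j i = r}, ?_⟩
  intro C _ _
  constructor
  · intro hle
    rw [Ideal.span_le]
    rintro r ⟨j, hjJ, i, rfl⟩
    have h0 : (j ⊗ₜ[R] (1 : C) : B ⊗[R] C) = 0 := by
      have h00 := RingHom.mem_ker.mp (hle hjJ)
      rwa [Algebra.TensorProduct.includeLeftRingHom_apply] at h00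
    have h1 := congrArg
      (fun t => TensorProduct.lid R C (LinearMap.rTensor C (b.coord i) t)) h0
    simp only [LinearMap.rTensor_tmul, TensorProduct.lid_tmul, map_zero,
      Module.Basis.coord_apply] at h1
    rw [SetLike.mem_coe, RingHom.mem_ker, Algebra.algebraMap_eq_smul_one]
    exact h1
  · intro hI x hx
    rw [RingHom.mem_ker, Algebra.TensorProduct.includeLeftRingHom_apply]
    have hx' : (b.repr x).sum (fun i c => c • b i) = x := by
      rw [← Finsupp.linearCombination_apply, b.linearCombination_repr]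
    calc (x ⊗ₜ[R] (1 : C) : B ⊗[R] C)
        = ((b.repr x).sum (fun i c => c • b i)) ⊗ₜ[R] (1 : C) := by rw [hx']
      _ = 0 := by
        rw [Finsupp.sum, TensorProduct.sum_tmul]
        apply Finset.sum_eq_zero
        intro i hi
        have hz : algebraMap R C (b.repr x i) = 0 :=
          RingHom.mem_ker.mp (hI (Ideal.subset_span ⟨x, hx, i, rfl⟩))
        rw [TensorProduct.smul_tmul, ← Algebra.algebraMap_eq_smul_one, hz,
          TensorProduct.tmul_zero]

/-! ### The dictionary, without finiteness -/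

theorem dict_gen {S : Scheme.{u}} {K₀ H : Over S} (k : K₀ ⟶ H) [IsClosedImmersion k.left]
    (R B : Type u) [CommRing R] [CommRing B] [Algebra R B] (g : Spec (CommRingCat.of R) ⟶ S)
    (θ : pullback H.hom g ≅ Spec (CommRingCat.of B))
    (hθ : θ.hom ≫ Spec.map (CommRingCat.ofHom (algebraMap R B)) = pullback.snd H.hom g) :
    ∃ J : Ideal B, ∀ (C : Type u) [CommRing C] [Algebra R C],
      IsIso (bcL k (Spec.map (CommRingCat.ofHom (algebraMap R C)) ≫ g)) ↔
        J ≤ RingHom.ker (Algebra.TensorProduct.includeLeftRingHom : B →+* B ⊗[R] C) := by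
  haveI hc1 : IsClosedImmersion (bcL k g) :=
    MorphismProperty.of_isPullback (P := (@IsClosedImmersion : MorphismProperty Scheme.{u}))
      (sqL k g) inferInstance
  obtain ⟨c', hc'⟩ : ∃ c' : pullback K₀.hom g ⟶ Spec (CommRingCat.of B),
      c' = bcL k g ≫ θ.hom := ⟨_, rfl⟩
  haveI : IsClosedImmersion c' := by
    rw [hc']
    infer_instance
  obtain ⟨J, ε, hε⟩ := IsClosedImmersion.Spec_iff.mp (inferInstance : IsClosedImmersion c')
  refine ⟨J, ?_⟩
  intro C _ _
  obtain ⟨h, hh⟩ : ∃ h : Spec (CommRingCat.of C) ⟶ Spec (CommRingCat.of R),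
      h = Spec.map (CommRingCat.ofHom (algebraMap R C)) := ⟨_, rfl⟩
  rw [← hh]
  have sq1 : IsPullback (qMap H g h ≫ θ.hom) (pullback.snd H.hom (h ≫ g))
      (Spec.map (CommRingCat.ofHom (algebraMap R B))) h :=
    (sqQ H g h).of_iso (Iso.refl _) θ (Iso.refl _) (Iso.refl _)
      (by simp only [Iso.refl_hom, Category.id_comp])
      (by simp only [Iso.refl_hom, Category.id_comp, Category.comp_id])
      (by simp only [Iso.refl_hom, Category.comp_id]; exact hθ.symm)
      (by simp only [Iso.refl_hom, Category.id_comp, Category.comp_id])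
  have sq2 : IsPullback
      (Spec.map (CommRingCat.ofHom
        (Algebra.TensorProduct.includeLeftRingHom : B →+* B ⊗[R] C)))
      (Spec.map (CommRingCat.ofHom
        (Algebra.TensorProduct.includeRight.toRingHom : C →+* B ⊗[R] C)))
      (Spec.map (CommRingCat.ofHom (algebraMap R B))) h := by
    rw [hh]
    exact isPullback_SpecMap_of_isPushout _ _ _ _ (CommRingCat.isPushout_tensorProduct R B C)
  obtain ⟨ω, hω⟩ : ∃ ω : pullback H.hom (h ≫ g) ≅ Spec (CommRingCat.of (B ⊗[R] C)),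
      ω.hom ≫ Spec.map (CommRingCat.ofHom
        (Algebra.TensorProduct.includeLeftRingHom : B →+* B ⊗[R] C)) = qMap H g h ≫ θ.hom :=
    ⟨sq1.isoIsPullback _ _ sq2, IsPullback.isoIsPullback_hom_fst _ _ sq1 sq2⟩
  rw [factor_iff (sqB k g h)]
  constructor
  · rintro ⟨l, hl⟩
    obtain ⟨m, hm⟩ : ∃ m : Spec (CommRingCat.of (B ⊗[R] C)) ⟶ Spec (CommRingCat.of (B ⧸ J)),
        m = ω.inv ≫ l ≫ ε.hom := ⟨_, rfl⟩
    have hm2 : m ≫ Spec.map (CommRingCat.ofHom (Ideal.Quotient.mk J)) =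
        Spec.map (CommRingCat.ofHom
          (Algebra.TensorProduct.includeLeftRingHom : B →+* B ⊗[R] C)) := by
      rw [hm]
      simp only [Category.assoc]
      rw [← hε, hc', ← Category.assoc l, hl, ← hω, Iso.inv_hom_id_assoc]
    obtain ⟨ρ, hρ⟩ : ∃ ρ : CommRingCat.of (B ⧸ J) ⟶ CommRingCat.of (B ⊗[R] C), Spec.map ρ = m :=
      ⟨Spec.preimage m, Spec.map_preimage m⟩
    have heq : CommRingCat.ofHom (Ideal.Quotient.mk J) ≫ ρ =
        CommRingCat.ofHom (Algebra.TensorProduct.includeLeftRingHom : B →+* B ⊗[R] C) := by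
      apply Spec.map_injective
      rw [Spec.map_comp, hρ, hm2]
    intro x hx
    rw [RingHom.mem_ker]
    have h3 := congrArg (fun f => f.hom x) heq
    simp only [CommRingCat.hom_comp, CommRingCat.hom_ofHom, RingHom.comp_apply] at h3
    rw [← h3, Ideal.Quotient.eq_zero_iff_mem.mpr hx, map_zero]
  · intro hle
    obtain ⟨ρ, hρ⟩ : ∃ ρ : B ⧸ J →+* B ⊗[R] C, ∀ x, ρ (Ideal.Quotient.mk J x) =
        (Algebra.TensorProduct.includeLeftRingHom : B →+* B ⊗[R] C) x :=
      ⟨Ideal.Quotient.lift J _ (fun x hx => RingHom.mem_ker.mp (hle hx)),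
        fun x => Ideal.Quotient.lift_mk J _ _⟩
    have heq : CommRingCat.ofHom (Ideal.Quotient.mk J) ≫ CommRingCat.ofHom ρ =
        CommRingCat.ofHom (Algebra.TensorProduct.includeLeftRingHom : B →+* B ⊗[R] C) := by
      apply CommRingCat.hom_ext
      apply RingHom.ext
      intro x
      exact hρ x
    refine ⟨ω.hom ≫ Spec.map (CommRingCat.ofHom ρ) ≫ ε.inv, ?_⟩
    apply (cancel_mono θ.hom).mp
    simp only [Category.assoc]
    rw [← hc', hε, Iso.inv_hom_id_assoc, ← Spec.map_comp, heq, hω]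

/-! ### The local ideal and the chart, for a free coordinate ring -/

theorem local_ideal_gen {S : Scheme.{u}} {H Y K₀ : Over S} (k₀ : K₀ ⟶ H ⊗ Y)
    [IsClosedImmersion k₀.left]
    (R : Type u) [CommRing R] (c : Spec (CommRingCat.of R) ⟶ Y.left)
    (B : Type u) [CommRing B] [Algebra R B] [Module.Free R B]
    (θ : pullback (HB H Y).hom c ≅ Spec (CommRingCat.of B))
    (hθ : θ.hom ≫ Spec.map (CommRingCat.ofHom (algebraMap R B)) =
      pullback.snd (HB H Y).hom c) :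
    ∃ I : Ideal R, ∀ (C : Type u) [CommRing C] [Algebra R C],
      IsIso (bcL (kB k₀) (Spec.map (CommRingCat.ofHom (algebraMap R C)) ≫ c)) ↔
        I ≤ RingHom.ker (algebraMap R C) := by
  haveI : IsClosedImmersion (kB k₀).left := (inferInstance : IsClosedImmersion k₀.left)
  obtain ⟨J, hdict⟩ := dict_gen (kB k₀) R B c θ hθ
  obtain ⟨I, hI⟩ := coeff_ideal_gen R B J
  exact ⟨I, fun C _ _ => (hdict C).trans (hI C)⟩

theorem chart_closed_gen {S : Scheme.{u}} {H Y K₀ : Over S} (k₀ : K₀ ⟶ H ⊗ Y)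
    [IsClosedImmersion k₀.left]
    (Q : Scheme.{u}) [IsAffine Q] (q : Q ⟶ Y.left)
    (B : Type u) [CommRing B] [Algebra Γ(Q, ⊤) B] [Module.Free Γ(Q, ⊤) B]
    (θ : pullback (HB H Y).hom (Q.isoSpec.inv ≫ q) ≅ Spec (CommRingCat.of B))
    (hθ : θ.hom ≫ Spec.map (CommRingCat.ofHom (algebraMap Γ(Q, ⊤) B)) =
      pullback.snd (HB H Y).hom (Q.isoSpec.inv ≫ q)) :
    ∃ (Z : Scheme.{u}) (z : Z ⟶ Q), IsClosedImmersion z ∧
      ∀ {T : Scheme.{u}} (r : T ⟶ Q), IsIso (bcL (kB k₀) (r ≫ q)) ↔ ∃ l : T ⟶ Z, l ≫ z = r := by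
  obtain ⟨I, hI⟩ := local_ideal_gen k₀ Γ(Q, ⊤) (Q.isoSpec.inv ≫ q) B θ hθ
  have huniv := fun {T : Scheme.{u}} (r : T ⟶ Spec (CommRingCat.of Γ(Q, ⊤))) =>
    chart_univ (kB k₀) Γ(Q, ⊤) (Q.isoSpec.inv ≫ q) I hI r
  haveI hzc : IsClosedImmersion (Spec.map (CommRingCat.ofHom (Ideal.Quotient.mk I))) :=
    IsClosedImmersion.spec_of_quotient_mk (R := CommRingCat.of Γ(Q, ⊤)) I
  refine ⟨Spec (CommRingCat.of (Γ(Q, ⊤) ⧸ I)),
    Spec.map (CommRingCat.ofHom (Ideal.Quotient.mk I)) ≫ Q.isoSpec.inv, inferInstance, ?_⟩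
  intro T r
  have h1 := huniv (r ≫ Q.isoSpec.hom)
  have e1 : (r ≫ Q.isoSpec.hom) ≫ Q.isoSpec.inv ≫ q = r ≫ q := by
    rw [Category.assoc, Iso.hom_inv_id_assoc]
  constructor
  · intro h
    obtain ⟨l, hl⟩ := h1.mp (bcL_congr (kB k₀) e1.symm h)
    refine ⟨l, ?_⟩
    rw [← Category.assoc, hl, Category.assoc, Iso.hom_inv_id, Category.comp_id]
  · rintro ⟨l, hl⟩
    refine bcL_congr (kB k₀) e1 (h1.mpr ⟨l, ?_⟩)
    rw [← hl, Category.assoc, Category.assoc, Iso.inv_hom_id, Category.comp_id]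

/-! ### Gluing the charts -/

theorem glue_closed {S S' B P' : Scheme.{u}} {K H' : Over B} (k : K ⟶ H')
    (f : S' ⟶ S) (hflat : Flat f) (hsurj : Surjective f)
    (hqc : ∀ V : S.Opens, IsAffineOpen V →
      ∃ W : S'.Opens, IsCompact (W : Set S') ∧ f.base '' (W : Set S') = (V : Set S))
    (y : B ⟶ S) (π : P' ⟶ B) (σ : P' ⟶ S') (sq : IsPullback π σ y f)
    (U : S' → S'.Opens) (hxU : ∀ x, x ∈ U x)
    (hchartdata : ∀ i : ChartIdx σ U, ∃ (Z : Scheme.{u}) (z : Z ⟶ (i.2.1.2 : Scheme.{u})),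
      IsClosedImmersion z ∧ ∀ {T : Scheme.{u}} (r : T ⟶ (i.2.1.2 : Scheme.{u})),
          IsIso (bcL k (r ≫ i.2.1.2.ι ≫ π)) ↔ ∃ l : T ⟶ Z, l ≫ z = r) :
    ∃ (C : Scheme.{u}) (cι : C ⟶ B), IsClosedImmersion cι ∧
      ∀ {T : Scheme.{u}} (t : T ⟶ B), (∃ l : T ⟶ C, l ≫ cι = t) ↔ IsIso (bcL k t) := by
  haveI := hflat
  haveI := hsurj
  have hmem := chart_family_mem f hflat hsurj hqc y π σ sq U hxU
  have hcov := cov_pieces f hqc y π σ sq
  have hch := chart_exists σ U hxU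
  choose Z z hzc hzuniv using hchartdata
  haveI := hzc
  have hcompat : ∀ i j : ChartIdx σ U,
      ((z i).ker).comap (pullback.fst (i.2.1.2.ι ≫ π) (j.2.1.2.ι ≫ π)) =
        ((z j).ker).comap (pullback.snd (i.2.1.2.ι ≫ π) (j.2.1.2.ι ≫ π)) := by
    intro i j
    refine le_antisymm ?_ ?_
    · exact compat_le k (j.2.1.2.ι ≫ π) (i.2.1.2.ι ≫ π) (z j) (z i)
        (pullback.snd (i.2.1.2.ι ≫ π) (j.2.1.2.ι ≫ π))
        (pullback.fst (i.2.1.2.ι ≫ π) (j.2.1.2.ι ≫ π)) pullback.condition.symm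
        (fun {T} r => hzuniv j r) (fun {T} r => hzuniv i r)
    · exact compat_le k (i.2.1.2.ι ≫ π) (j.2.1.2.ι ≫ π) (z i) (z j)
        (pullback.fst (i.2.1.2.ι ≫ π) (j.2.1.2.ι ≫ π))
        (pullback.snd (i.2.1.2.ι ≫ π) (j.2.1.2.ι ≫ π)) pullback.condition
        (fun {T} r => hzuniv i r) (fun {T} r => hzuniv j r)
  obtain ⟨J, hJ, -⟩ := Groth.Agent.Lib.ClosedDescentFam_helper7.main
    (Q := fun p : ChartIdx σ U => (p.2.1.2 : Scheme.{u}))
    (fun p : ChartIdx σ U => p.2.1.2.ι ≫ π) (fun p => (z p).ker) hmem hcompat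
  have hker : ∀ i : ChartIdx σ U, (J.subschemeι).ker.comap (i.2.1.2.ι ≫ π) = (z i).ker := by
    intro i
    rw [Scheme.IdealSheafData.ker_subschemeι]
    exact hJ i
  have hequiv : ∀ (i : ChartIdx σ U) {T : Scheme.{u}} (r₁ : T ⟶ (i.2.1.2 : Scheme.{u})),
      IsIso (bcL (cB J.subschemeι) (r₁ ≫ i.2.1.2.ι ≫ π)) ↔
        IsIso (bcL k (r₁ ≫ i.2.1.2.ι ≫ π)) := by
    intro i T r₁
    exact (cB_iff J.subschemeι _).trans
      ((factor_transfer (i.2.1.2.ι ≫ π) J.subschemeι (z i) (hker i) r₁).trans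
        (hzuniv i r₁).symm)
  have hchart1 : ∀ x : P', ∃ O : P'.Opens, x ∈ O ∧ ∀ {T : Scheme.{u}} (r : T ⟶ P'),
      (∀ t : T, r.base t ∈ O) → IsIso (bcL (cB J.subschemeι) (r ≫ π)) →
        IsIso (bcL k (r ≫ π)) := by
    intro x
    obtain ⟨O, hxO, hO⟩ := hch x
    refine ⟨O, hxO, fun {T} r hr h => ?_⟩
    obtain ⟨i, r₁, hr₁⟩ := hO r hr
    have e : r₁ ≫ i.2.1.2.ι ≫ π = r ≫ π := by rw [← Category.assoc, hr₁]
    exact bcL_congr k e ((hequiv i r₁).mp (bcL_congr (cB J.subschemeι) e.symm h))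
  have hchart2 : ∀ x : P', ∃ O : P'.Opens, x ∈ O ∧ ∀ {T : Scheme.{u}} (r : T ⟶ P'),
      (∀ t : T, r.base t ∈ O) → IsIso (bcL k (r ≫ π)) →
        IsIso (bcL (cB J.subschemeι) (r ≫ π)) := by
    intro x
    obtain ⟨O, hxO, hO⟩ := hch x
    refine ⟨O, hxO, fun {T} r hr h => ?_⟩
    obtain ⟨i, r₁, hr₁⟩ := hO r hr
    have e : r₁ ≫ i.2.1.2.ι ≫ π = r ≫ π := by rw [← Category.assoc, hr₁]
    exact bcL_congr (cB J.subschemeι) e ((hequiv i r₁).mpr (bcL_congr k e.symm h))
  refine ⟨J.subscheme, J.subschemeι, inferInstance, ?_⟩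
  intro T t
  constructor
  · rintro ⟨l, hl⟩
    exact desc_iso (cB J.subschemeι) k π hcov hchart1 t
      ((cB_iff J.subschemeι t).mpr ⟨l, hl⟩)
  · intro h
    exact (cB_iff J.subschemeι t).mp (desc_iso k (cB J.subschemeι) π hcov hchart2 t h)

end Groth.Agent.Lib.MTWeilH4
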