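import Mathlib
import Groth.Prelude
import Groth.Agent.Lib.MTWeil4_helper4

/-!
# Fixed points of an affine group scheme with locally free coordinate ring acting on a separated
scheme form a closed subscheme (helper4)
-/

set_option backward.isDefEq.respectTransparency.types false
set_option autoImplicit false
set_option linter.unusedVariables false
set_option linter.unusedTactic false
set_option linter.unreachableTactic false
set_option linter.unusedSectionVars false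
set_option linter.style.haveILetI false
set_option linter.deprecated false
set_option linter.unusedSimpArgs false
set_option linter.style.longLine false
set_option maxHeartbeats 1600000

universe u

open CategoryTheory CategoryTheory.Limits MonoidalCategory CartesianMonoidalCategory MonObj GrpObj
  AlgebraicGeometry Opposite TensorProduct

namespace Groth.Agent.Lib.MTWeilH4

open Groth.Agent.Lib.RedDictH8 Groth.Agent.Lib.DSDict Groth.Agent.Lib.MultGa
  Groth.Agent.Lib.MultTrivH4 Groth.Agent.Lib.ConnActH4 Groth.Agent.Lib.TwConstFinH4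
  Groth.Agent.Lib.MTHomH4 Groth.Agent.Lib.TorusQuotH4 Groth.Agent.Lib.KerTrivH4

/-! ### Coordinates of `G ×_S Spec R` over an affine open of `S` -/

section Coord

theorem affine_sq {S : Scheme.{u}} {G : Over S} [IsAffineHom G.hom] (U₀ : S.Opens)
    (hU : IsAffineOpen U₀) :
    IsPullback (hU.preimage G.hom).fromSpec (Spec.map (G.hom.app U₀)) G.hom hU.fromSpec := by
  have h0 := (isPullback_morphismRestrict G.hom U₀).flip
  refine h0.of_iso (hU.preimage G.hom).isoSpec (Iso.refl _) hU.isoSpec (Iso.refl _) ?_ ?_ ?_ ?_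
  · rw [Iso.refl_hom, Category.comp_id, IsAffineOpen.isoSpec_hom_fromSpec]
  · rw [IsAffineOpen.isoSpec_hom, IsAffineOpen.isoSpec_hom]
    exact (Scheme.Opens.toSpecΓ_naturality G.hom U₀).symm
  · rw [Iso.refl_hom, Iso.refl_hom, Category.comp_id, Category.id_comp]
  · rw [Iso.refl_hom, Category.comp_id, IsAffineOpen.isoSpec_hom_fromSpec]

theorem coord_gen {S : Scheme.{u}} {G : Over S} [IsAffineHom G.hom] (U₀ : S.Opens)
    (hU : IsAffineOpen U₀)
    (hfree : @Module.Free Γ(S, U₀) Γ(G.left, G.hom ⁻¹ᵁ U₀) _ _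
      (G.hom.app U₀).hom.toAlgebra.toModule)
    (R : Type u) [CommRing R] (c' : Spec (CommRingCat.of R) ⟶ S)
    (hc' : Set.range c' ⊆ (U₀ : Set S)) :
    ∃ (B : Type u) (_ : CommRing B) (_ : Algebra R B) (_ : Module.Free R B)
      (θ : pullback G.hom c' ≅ Spec (CommRingCat.of B)),
      θ.hom ≫ Spec.map (CommRingCat.ofHom (algebraMap R B)) = pullback.snd G.hom c' := by
  obtain ⟨ρ', hρ'⟩ : ∃ ρ' : Spec (CommRingCat.of R) ⟶ Spec Γ(S, U₀), ρ' ≫ hU.fromSpec = c' :=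
    ⟨IsOpenImmersion.lift hU.fromSpec c' (by rw [hU.range_fromSpec]; exact hc'),
      IsOpenImmersion.lift_fac _ _ _⟩
  letI : Algebra Γ(S, U₀) R := (Spec.preimage ρ').hom.toAlgebra
  letI : Algebra Γ(S, U₀) Γ(G.left, G.hom ⁻¹ᵁ U₀) := (G.hom.app U₀).hom.toAlgebra
  haveI : Module.Free Γ(S, U₀) Γ(G.left, G.hom ⁻¹ᵁ U₀) := hfree
  have hτ : ρ' = Spec.map (CommRingCat.ofHom (algebraMap Γ(S, U₀) R)) :=
    (Spec.map_preimage ρ').symm
  obtain ⟨B, iB, iA, iF, θ', hθ'⟩ := coord_aux Γ(S, U₀) R Γ(G.left, G.hom ⁻¹ᵁ U₀) ρ' hτ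
  have big := (IsPullback.of_hasPullback
    (Spec.map (CommRingCat.ofHom (algebraMap Γ(S, U₀) Γ(G.left, G.hom ⁻¹ᵁ U₀)))) ρ').paste_horiz
    (affine_sq U₀ hU)
  rw [hρ'] at big
  refine ⟨B, iB, iA, iF, big.isoPullback.symm ≪≫ θ', ?_⟩
  rw [Iso.trans_hom, Iso.symm_hom, Category.assoc, hθ', Iso.inv_comp_eq]
  exact big.isoPullback_hom_snd.symm

theorem chart_data_free {S : Scheme.{u}} {G Y K₀ : Over S} [IsAffineHom G.hom]
    (k₀ : K₀ ⟶ G ⊗ Y) [IsClosedImmersion k₀.left]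
    (U₀ : S.Opens) (hU : IsAffineOpen U₀)
    (hfree : @Module.Free Γ(S, U₀) Γ(G.left, G.hom ⁻¹ᵁ U₀) _ _
      (G.hom.app U₀).hom.toAlgebra.toModule)
    (V : Y.left.Opens) (hVaff : IsAffineOpen V) (hVle : V ≤ Y.hom ⁻¹ᵁ U₀) :
    ∃ (Z : Scheme.{u}) (z : Z ⟶ (V : Scheme.{u})), IsClosedImmersion z ∧
      ∀ {T : Scheme.{u}} (r : T ⟶ (V : Scheme.{u})),
        IsIso (bcL (kB k₀) (r ≫ V.ι)) ↔ ∃ l : T ⟶ Z, l ≫ z = r := by
  haveI : IsAffine (V : Scheme.{u}) := hVaff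
  have hrange : Set.range (((V : Scheme.{u}).isoSpec.inv ≫ V.ι) ≫ Y.hom) ⊆ (U₀ : Set S) := by
    rintro _ ⟨t, rfl⟩
    exact hVle (((V : Scheme.{u}).isoSpec.inv).base t).2
  obtain ⟨B, iB, iA, iF, θ₀, hθ₀⟩ := coord_gen U₀ hU hfree Γ((V : Scheme.{u}), ⊤)
    (((V : Scheme.{u}).isoSpec.inv ≫ V.ι) ≫ Y.hom) hrange
  letI iA' : Algebra Γ((V : Scheme.{u}), ⊤) B := iA
  haveI iF' : Module.Free Γ((V : Scheme.{u}), ⊤) B := iF
  refine chart_closed_gen k₀ (V : Scheme.{u}) V.ι B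
    (pullbackLeftPullbackSndIso G.hom Y.hom ((V : Scheme.{u}).isoSpec.inv ≫ V.ι) ≪≫ θ₀) ?_
  exact (Category.assoc _ _ _).trans
    ((congrArg (fun m => (pullbackLeftPullbackSndIso G.hom Y.hom
      ((V : Scheme.{u}).isoSpec.inv ≫ V.ι)).hom ≫ m) hθ₀).trans
      (pullbackLeftPullbackSndIso_hom_snd G.hom Y.hom ((V : Scheme.{u}).isoSpec.inv ≫ V.ι)))

end Coord

/-! ### The fixed points -/

section Fixed

theorem main14840 {S : Scheme.{u}} (G Y : Over S) [GrpObj G] (a : AlgGrp.Action G Y)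
    [IsAffineHom G.hom] [IsSeparated Y.hom]
    (hfree : ∀ s : S, ∃ U : S.affineOpens, s ∈ (U : S.Opens) ∧
      @Module.Free Γ(S, U) Γ(G.left, G.hom ⁻¹ᵁ U) _ _ (G.hom.app U).hom.toAlgebra.toModule) :
    ∃ (Z : Over S) (i : Z ⟶ Y), IsClosedImmersion i.left ∧
      ∀ (T : Over S) (y : T ⟶ Y),
        (∀ (T' : Over S) (t : T' ⟶ T) (g : T' ⟶ G), lift g (t ≫ y) ≫ a.act = t ≫ y) ↔
          ∃ z : T ⟶ Z, z ≫ i = y := by
  choose U₀ hsU hfreeU using hfree
  obtain ⟨v, hv⟩ : ∃ v : G ⊗ Y ⟶ Y ⊗ Y, v = lift a.act (snd G Y) := ⟨_, rfl⟩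
  obtain ⟨d, hd⟩ : ∃ d : Y ⟶ Y ⊗ Y, d = lift (𝟙 Y) (𝟙 Y) := ⟨_, rfl⟩
  haveI hdc : IsClosedImmersion d.left := by
    have e : d.left = pullback.diagonal Y.hom := by
      rw [hd]
      apply pullback.hom_ext
      · rw [pullback.diagonal_fst]
        exact congrArg (fun m => m.left) (lift_fst (𝟙 Y) (𝟙 Y))
      · rw [pullback.diagonal_snd]
        exact congrArg (fun m => m.left) (lift_snd (𝟙 Y) (𝟙 Y))
    rw [e]
    infer_instance
  haveI hc : IsClosedImmersion (pbι v d).left := by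
    show IsClosedImmersion (pullback.fst v.left d.left)
    infer_instance
  haveI : Mono (pbι v d).left := inferInstance
  have hqc : ∀ V : S.Opens, IsAffineOpen V →
      ∃ W : S.Opens, IsCompact (W : Set S) ∧ (𝟙 S : S ⟶ S).base '' (W : Set S) = (V : Set S) := by
    intro V hV
    refine ⟨V, hV.isCompact, ?_⟩
    ext x
    constructor
    · rintro ⟨w, hw, rfl⟩
      exact hw
    · intro hx
      exact ⟨x, hx, rfl⟩
  have hchart : ∀ i : ChartIdx Y.hom (fun s => (U₀ s).1),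
      ∃ (Z : Scheme.{u}) (z : Z ⟶ (i.2.1.2 : Scheme.{u})), IsClosedImmersion z ∧
        ∀ {T : Scheme.{u}} (r : T ⟶ (i.2.1.2 : Scheme.{u})),
          IsIso (bcL (kB (pbι v d)) (r ≫ i.2.1.2.ι ≫ 𝟙 Y.left)) ↔ ∃ l : T ⟶ Z, l ≫ z = r := by
    intro i
    obtain ⟨Z, z, hz, hzu⟩ := chart_data_free (pbι v d) (U₀ i.2.1.1).1 (U₀ i.2.1.1).2
      (hfreeU i.2.1.1) i.2.1.2 i.2.2.1 i.2.2.2
    refine ⟨Z, z, hz, fun {T} r => ?_⟩
    have e : r ≫ i.2.1.2.ι ≫ 𝟙 Y.left = r ≫ i.2.1.2.ι := by rw [Category.comp_id]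
    exact ⟨fun h => (hzu r).mp (bcL_congr _ e h), fun h => bcL_congr _ e.symm ((hzu r).mpr h)⟩
  obtain ⟨C, cι, hcc, huniv⟩ := glue_closed (kB (pbι v d)) (𝟙 S) inferInstance inferInstance hqc
    Y.hom (𝟙 Y.left) Y.hom (IsPullback.id_horiz Y.hom) (fun s => (U₀ s).1) hsU hchart
  refine ⟨Over.mk (cι ≫ Y.hom), Over.homMk cι rfl, hcc, ?_⟩
  intro T y
  refine Iff.symm ((over_factor_iff cι y).trans ((huniv y.left).trans
    ((iso_iff_lift (pbι v d) y.left).trans ((lift_iff_pts (pbι v d) y).trans ?_))))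
  refine forall_congr' (fun T' => forall_congr' (fun t => forall_congr' (fun g => ?_)))
  rw [pb_iff v d (lift g (t ≫ y))]
  have e1 : lift g (t ≫ y) ≫ v = lift (lift g (t ≫ y) ≫ a.act) (t ≫ y) := by
    rw [hv, comp_lift, lift_snd]
  have e2 : ∀ a' : T' ⟶ Y, a' ≫ d = lift a' a' := by
    intro a'
    rw [hd, comp_lift, Category.comp_id]
  constructor
  · rintro ⟨a', ha'⟩
    rw [e1, e2] at ha'
    have h1 := congrArg (fun m => m ≫ fst Y Y) ha'
    have h2 := congrArg (fun m => m ≫ snd Y Y) ha'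
    simp only [lift_fst, lift_snd] at h1 h2
    rw [h1, h2]
  · intro h
    refine ⟨t ≫ y, ?_⟩
    rw [e1, e2, h]

end Fixed

end Groth.Agent.Lib.MTWeilH4
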