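import Mathlib
import Groth.Prelude
import Groth.Agent.Lib.MTWeil5_helper4
import Groth.Agent.Lib.FlatNorm_helper4

/-!
# Fixed points of an action of an infinitesimal finite locally free pointed scheme form a closed
subscheme (helper4)
-/

set_option backward.isDefEq.respectTransparency.types false
set_option autoImplicit false
set_option linter.unusedVariables false
set_option linter.unusedTactic false
set_option linter.unreachableTactic false
set_option linter.unusedSectionVars false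
set_option linter.style.haveILetI false
set_option linter.deprecated false
set_option linter.unusedSimpArgs false
set_option linter.style.longLine false
set_option maxHeartbeats 1600000

universe u

open CategoryTheory CategoryTheory.Limits MonoidalCategory CartesianMonoidalCategory MonObj GrpObj
  AlgebraicGeometry Opposite TensorProduct

namespace Groth.Agent.Lib.MTWeilH4

open Groth.Agent.Lib.RedDictH8 Groth.Agent.Lib.DSDict Groth.Agent.Lib.MultGa
  Groth.Agent.Lib.MultTrivH4 Groth.Agent.Lib.ConnActH4 Groth.Agent.Lib.TwConstFinH4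
  Groth.Agent.Lib.MTHomH4 Groth.Agent.Lib.TorusQuotH4 Groth.Agent.Lib.KerTrivH4

/-! ### Charts given by an arbitrary affine scheme -/

theorem chart_data_free' {S : Scheme.{u}} {G Y K₀ : Over S} [IsAffineHom G.hom]
    (k₀ : K₀ ⟶ G ⊗ Y) [IsClosedImmersion k₀.left]
    (U₀ : S.Opens) (hU : IsAffineOpen U₀)
    (hfree : @Module.Free Γ(S, U₀) Γ(G.left, G.hom ⁻¹ᵁ U₀) _ _
      (G.hom.app U₀).hom.toAlgebra.toModule)
    (Q : Scheme.{u}) [IsAffine Q] (q : Q ⟶ Y.left)
    (hq : Set.range (q ≫ Y.hom) ⊆ (U₀ : Set S)) :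
    ∃ (Z : Scheme.{u}) (z : Z ⟶ Q), IsClosedImmersion z ∧
      ∀ {T : Scheme.{u}} (r : T ⟶ Q),
        IsIso (bcL (kB k₀) (r ≫ q)) ↔ ∃ l : T ⟶ Z, l ≫ z = r := by
  have hrange : Set.range ((Q.isoSpec.inv ≫ q) ≫ Y.hom) ⊆ (U₀ : Set S) := by
    rintro _ ⟨t, rfl⟩
    exact hq ⟨Q.isoSpec.inv.base t, rfl⟩
  obtain ⟨B, iB, iA, iF, θ₀, hθ₀⟩ := coord_gen U₀ hU hfree Γ(Q, ⊤)
    ((Q.isoSpec.inv ≫ q) ≫ Y.hom) hrange
  letI iA' : Algebra Γ(Q, ⊤) B := iA
  haveI iF' : Module.Free Γ(Q, ⊤) B := iF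
  refine chart_closed_gen k₀ Q q B
    (pullbackLeftPullbackSndIso G.hom Y.hom (Q.isoSpec.inv ≫ q) ≪≫ θ₀) ?_
  exact (Category.assoc _ _ _).trans
    ((congrArg (fun m => (pullbackLeftPullbackSndIso G.hom Y.hom
      (Q.isoSpec.inv ≫ q)).hom ≫ m) hθ₀).trans
      (pullbackLeftPullbackSndIso_hom_snd G.hom Y.hom (Q.isoSpec.inv ≫ q)))

/-! ### The fixed locus of a morphism `F ⊗ X ⟶ X` -/

section FixedGen

variable {S : Scheme.{u}} {F X : Over S} (act : F ⊗ X ⟶ X)

/-- the equaliser of the action and the projection. -/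
noncomputable def fixK : Over S := pbObj (lift act (snd F X)) (lift (𝟙 X) (𝟙 X))

/-- the inclusion of the equaliser. -/
noncomputable def fixk : fixK act ⟶ F ⊗ X := pbι (lift act (snd F X)) (lift (𝟙 X) (𝟙 X))

theorem fixk_left : (fixk act).left =
    pullback.fst (lift act (snd F X)).left (lift (𝟙 X) (𝟙 X)).left := rfl

theorem diag_left : (lift (𝟙 X) (𝟙 X) : X ⟶ X ⊗ X).left = pullback.diagonal X.hom := by
  apply pullback.hom_ext
  · rw [pullback.diagonal_fst]
    exact congrArg (fun m => m.left) (lift_fst (𝟙 X) (𝟙 X))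
  · rw [pullback.diagonal_snd]
    exact congrArg (fun m => m.left) (lift_snd (𝟙 X) (𝟙 X))

instance mono_fixk : Mono (fixk act).left := by
  haveI : Mono (lift (𝟙 X) (𝟙 X) : X ⟶ X ⊗ X).left := by
    rw [diag_left]
    infer_instance
  rw [fixk_left]
  exact pullback.fst_of_mono

theorem closedImm_fixk [IsSeparated X.hom] : IsClosedImmersion (fixk act).left := by
  haveI : IsClosedImmersion (lift (𝟙 X) (𝟙 X) : X ⟶ X ⊗ X).left := by
    rw [diag_left]
    infer_instance
  rw [fixk_left]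
  exact MorphismProperty.pullback_fst (P := @IsClosedImmersion) _ _ inferInstance

theorem fixk_pts {T' : Over S} (w : T' ⟶ F ⊗ X) :
    (∃ y' : T' ⟶ fixK act, y' ≫ fixk act = w) ↔ w ≫ act = w ≫ snd F X := by
  refine (pb_iff (lift act (snd F X)) (lift (𝟙 X) (𝟙 X)) w).trans ?_
  have e1 : w ≫ lift act (snd F X) = lift (w ≫ act) (w ≫ snd F X) := comp_lift _ _ _
  have e2 : ∀ a' : T' ⟶ X, a' ≫ lift (𝟙 X) (𝟙 X) = lift a' a' := by
    intro a'
    rw [comp_lift, Category.comp_id]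
  constructor
  · rintro ⟨a', ha'⟩
    rw [e1, e2] at ha'
    have h1 := congrArg (fun m => m ≫ fst X X) ha'
    have h2 := congrArg (fun m => m ≫ snd X X) ha'
    simp only [lift_fst, lift_snd] at h1 h2
    rw [h1, h2]
  · intro h
    refine ⟨w ≫ snd F X, ?_⟩
    rw [e1, e2, h]

theorem fixed_iff_iso {T : Over S} (y : T ⟶ X) :
    IsIso (bcL (kB (fixk act)) y.left) ↔
      ∀ (T' : Over S) (t : T' ⟶ T) (g : T' ⟶ F), lift g (t ≫ y) ≫ act = t ≫ y := by
  refine (iso_iff_lift (fixk act) y.left).trans ((lift_iff_pts (fixk act) y).trans ?_)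
  refine forall_congr' (fun T' => forall_congr' (fun t => forall_congr' (fun g => ?_)))
  rw [fixk_pts act (lift g (t ≫ y)), lift_snd]

end FixedGen

/-! ### The action of an infinitesimal pointed scheme preserves opens -/

section Infinitesimal

variable {S : Scheme.{u}} {F X : Over S} (act : F ⊗ X ⟶ X) (e : 𝟙_ (Over S) ⟶ F)
  (he : (e ▷ X) ≫ act = (λ_ X).hom)

include he in
theorem act_base_eq [Surjective e.left] (p : ↥(F ⊗ X).left) :
    act.left.base p = (snd F X).left.base p := by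
  obtain ⟨eX, heX⟩ : ∃ eX : X ⟶ F ⊗ X, eX = (λ_ X).inv ≫ (e ▷ X) := ⟨_, rfl⟩
  have h1 : eX ≫ act = 𝟙 X := by
    rw [heX, Category.assoc, he, Iso.inv_hom_id]
  have h2 : eX ≫ snd F X = 𝟙 X := by
    rw [heX, Category.assoc, whiskerRight_snd, leftUnitor_inv_snd]
  have h3 : eX ≫ fst F X = toUnit X ≫ e := by
    rw [heX, Category.assoc, whiskerRight_fst, ← Category.assoc, leftUnitor_inv_fst]
  have e1 : eX.left ≫ act.left = 𝟙 X.left := by
    rw [← Over.comp_left, h1]
    rfl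
  have e2 : eX.left ≫ pullback.snd F.hom X.hom = 𝟙 X.left := by
    have h := congrArg (fun m => m.left) h2
    exact h
  have e3 : eX.left ≫ pullback.fst F.hom X.hom = X.hom ≫ e.left := by
    have h := congrArg (fun m => m.left) h3
    exact h
  have hw : e.left ≫ F.hom = 𝟙 S := Over.w e
  have sqBig : IsPullback (eX.left ≫ pullback.snd F.hom X.hom) X.hom X.hom (e.left ≫ F.hom) := by
    rw [e2, hw]
    exact IsPullback.id_horiz X.hom
  have sqL' : IsPullback eX.left X.hom (pullback.fst F.hom X.hom) e.left :=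
    IsPullback.of_right sqBig e3 (IsPullback.of_hasPullback F.hom X.hom).flip
  haveI : Surjective eX.left :=
    MorphismProperty.of_isPullback (P := @Surjective) sqL'.flip inferInstance
  obtain ⟨x, rfl⟩ := eX.left.surjective p
  have a1 : act.left.base (eX.left.base x) = x := by
    have h := congrArg (fun m => m.base x) e1
    exact h
  have a2 : (snd F X).left.base (eX.left.base x) = x := by
    have h := congrArg (fun m => m.base x) e2
    exact h
  rw [a1, a2]

/-- an open of `X`, as a scheme over `S`. -/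
noncomputable abbrev XV (V : X.left.Opens) : Over S := Over.mk (V.ι ≫ X.hom)

/-- the inclusion of an open of `X`, over `S`. -/
noncomputable abbrev jV (V : X.left.Opens) : XV V ⟶ X := Over.homMk V.ι rfl

instance mono_jV (V : X.left.Opens) : Mono (jV V : XV V ⟶ X) := by
  refine ⟨fun {Z} a b h => ?_⟩
  apply Over.OverMorphism.ext
  have h' := congrArg (fun m => m.left) h
  exact (cancel_mono V.ι).mp h'

include he in
theorem exists_actV [Surjective e.left] (V : X.left.Opens) :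
    ∃ actV : F ⊗ XV V ⟶ XV V, actV ≫ jV V = (F ◁ jV V) ≫ act := by
  have hrange : Set.range ((F ◁ jV V) ≫ act).left ⊆ Set.range V.ι := by
    rintro _ ⟨p, rfl⟩
    have h1 : ((F ◁ jV V) ≫ act).left.base p =
        ((F ◁ jV V) ≫ snd F X).left.base p := act_base_eq act e he ((F ◁ jV V).left.base p)
    have h2 : (F ◁ jV V) ≫ snd F X = snd F (XV V) ≫ jV V := whiskerLeft_snd _ _
    rw [h2] at h1
    exact ⟨(snd F (XV V)).left.base p, h1.symm⟩
  refine ⟨Over.homMk (IsOpenImmersion.lift V.ι ((F ◁ jV V) ≫ act).left hrange) ?_, ?_⟩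
  · show IsOpenImmersion.lift V.ι ((F ◁ jV V) ≫ act).left hrange ≫ V.ι ≫ X.hom = _
    rw [← Category.assoc, IsOpenImmersion.lift_fac]
    exact Over.w ((F ◁ jV V) ≫ act)
  · apply Over.OverMorphism.ext
    show IsOpenImmersion.lift V.ι ((F ◁ jV V) ≫ act).left hrange ≫ V.ι = _
    exact IsOpenImmersion.lift_fac _ _ _

theorem fixed_transfer (V : X.left.Opens) (actV : F ⊗ XV V ⟶ XV V)
    (hactV : actV ≫ jV V = (F ◁ jV V) ≫ act) {T : Over S} (r : T ⟶ XV V) :
    (∀ (T' : Over S) (t : T' ⟶ T) (g : T' ⟶ F),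
        lift g (t ≫ r ≫ jV V) ≫ act = t ≫ r ≫ jV V) ↔
      ∀ (T' : Over S) (t : T' ⟶ T) (g : T' ⟶ F), lift g (t ≫ r) ≫ actV = t ≫ r := by
  refine forall_congr' (fun T' => forall_congr' (fun t => forall_congr' (fun g => ?_)))
  have h1 : lift g (t ≫ r ≫ jV V) ≫ act = (lift g (t ≫ r) ≫ actV) ≫ jV V := by
    calc lift g (t ≫ r ≫ jV V) ≫ act = lift g ((t ≫ r) ≫ jV V) ≫ act := by
          rw [Category.assoc]
      _ = (lift g (t ≫ r) ≫ (F ◁ jV V)) ≫ act := by rw [lift_whiskerLeft]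
      _ = lift g (t ≫ r) ≫ (actV ≫ jV V) := by rw [Category.assoc, hactV]
      _ = (lift g (t ≫ r) ≫ actV) ≫ jV V := (Category.assoc _ _ _).symm
  rw [h1, ← Category.assoc t r (jV V)]
  exact ⟨fun h => (cancel_mono (jV V)).mp h, fun h => by rw [h]⟩

end Infinitesimal

/-! ### The main theorem -/

section Main

theorem main17685 (S : Scheme.{u})
    (F X : Over S) (e : 𝟙_ (Over S) ⟶ F) (act : F ⊗ X ⟶ X) (he : (e ▷ X) ≫ act = (λ_ X).hom)
    [IsFinite F.hom] [Flat F.hom] [LocallyOfFinitePresentation F.hom]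
    [IsClosedImmersion e.left] [Surjective e.left] :
    ∃ (Z : Scheme.{u}) (i : Z ⟶ X.left), IsClosedImmersion i ∧
      ∀ (T : Over S) (x : T ⟶ X), (∃ y : T.left ⟶ Z, y ≫ i = x.left) ↔
        ∀ (T' : Over S) (t : T' ⟶ T) (g : T' ⟶ F), lift g (t ≫ x) ≫ act = t ≫ x := by
  have hfo : ∀ s : S, ∃ V : S.Opens, Groth.Agent.Lib.FlatNormH4.IsFreeOpen F.hom V ∧ s ∈ V ∧
      V ≤ ⊤ := fun s => Groth.Agent.Lib.FlatNormH4.exists_isFreeOpen F.hom ⊤ s trivial
  choose U₀ hU₀ hsU hle using hfo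
  have hqc : ∀ V : S.Opens, IsAffineOpen V →
      ∃ W : S.Opens, IsCompact (W : Set S) ∧ (𝟙 S : S ⟶ S).base '' (W : Set S) = (V : Set S) := by
    intro V hV
    refine ⟨V, hV.isCompact, ?_⟩
    ext x
    constructor
    · rintro ⟨w, hw, rfl⟩
      exact hw
    · intro hx
      exact ⟨x, hx, rfl⟩
  have hchart : ∀ i : ChartIdx X.hom U₀,
      ∃ (Z : Scheme.{u}) (z : Z ⟶ (i.2.1.2 : Scheme.{u})), IsClosedImmersion z ∧
        ∀ {T : Scheme.{u}} (r : T ⟶ (i.2.1.2 : Scheme.{u})),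
          IsIso (bcL (kB (fixk act)) (r ≫ i.2.1.2.ι ≫ 𝟙 X.left)) ↔ ∃ l : T ⟶ Z, l ≫ z = r := by
    intro i
    obtain ⟨V, hV⟩ : ∃ V : X.left.Opens, V = i.2.1.2 := ⟨_, rfl⟩
    have hVaff : IsAffineOpen V := hV ▸ i.2.2.1
    have hVle : V ≤ X.hom ⁻¹ᵁ U₀ i.2.1.1 := hV ▸ i.2.2.2
    rw [← hV]
    haveI : IsAffine (V : Scheme.{u}) := hVaff
    obtain ⟨actV, hactV⟩ := exists_actV act e he V
    haveI : IsSeparated (XV V).hom := by
      haveI : IsSeparated ((XV V).hom ≫ specULiftZIsTerminal.from S) := by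
        haveI : IsAffine (XV V).left := (inferInstance : IsAffine (V : Scheme.{u}))
        haveI : IsAffineHom ((XV V).hom ≫ specULiftZIsTerminal.from S) :=
          isAffineHom_of_isAffine _
        infer_instance
      exact IsSeparated.of_comp (XV V).hom (specULiftZIsTerminal.from S)
    haveI := closedImm_fixk actV
    have hq : Set.range ((𝟙 (V : Scheme.{u}) : (V : Scheme.{u}) ⟶ (XV V).left) ≫ (XV V).hom) ⊆
        (U₀ i.2.1.1 : Set S) := by
      rintro _ ⟨t, rfl⟩
      exact hVle t.2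
    obtain ⟨Z, z, hz, hzu⟩ := chart_data_free' (fixk actV) (U₀ i.2.1.1) (hU₀ i.2.1.1).1
      (hU₀ i.2.1.1).2 (V : Scheme.{u}) (𝟙 (V : Scheme.{u})) hq
    refine ⟨Z, z, hz, fun {T} r => ?_⟩
    obtain ⟨rt, hrt⟩ : ∃ rt : Over.mk (r ≫ (XV V).hom) ⟶ XV V, rt.left = r :=
      ⟨Over.homMk r rfl, rfl⟩
    have hA := fixed_iff_iso act (rt ≫ jV V)
    have hB := fixed_iff_iso actV rt
    have hC := fixed_transfer act V actV hactV rt
    have e1 : (rt ≫ jV V).left = r ≫ V.ι ≫ 𝟙 X.left := by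
      rw [Over.comp_left, hrt, Category.comp_id]
      rfl
    have e2 : rt.left = r ≫ 𝟙 (V : Scheme.{u}) := by
      rw [hrt, Category.comp_id]
    constructor
    · intro h
      have h1 : IsIso (bcL (kB (fixk act)) (rt ≫ jV V).left) := bcL_congr _ e1.symm h
      have h2 := hB.mpr (hC.mp (hA.mp h1))
      exact (hzu r).mp (bcL_congr _ e2 h2)
    · intro h
      have h1 : IsIso (bcL (kB (fixk actV)) rt.left) := bcL_congr _ e2.symm ((hzu r).mpr h)
      exact bcL_congr _ e1 (hA.mpr (hC.mpr (hB.mp h1)))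
  obtain ⟨C, cι, hcc, huniv⟩ := glue_closed (kB (fixk act)) (𝟙 S) inferInstance inferInstance hqc
    X.hom (𝟙 X.left) X.hom (IsPullback.id_horiz X.hom) U₀ hsU hchart
  refine ⟨C, cι, hcc, fun T x => ?_⟩
  exact (huniv x.left).trans (fixed_iff_iso act x)

end Main

end Groth.Agent.Lib.MTWeilH4
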