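import Mathlib
import Groth.Prelude
import Groth.Agent.Lib.MTWeil6_helper4

/-!
# Weil restriction of a closed, finitely presented subscheme along `H ×_S Y → Y` for `H` finite
locally free: a closed subscheme of `Y` of finite presentation (helper4)
-/

set_option backward.isDefEq.respectTransparency.types false
set_option autoImplicit false
set_option linter.unusedVariables false
set_option linter.unusedTactic false
set_option linter.unreachableTactic false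
set_option linter.unusedSectionVars false
set_option linter.style.haveILetI false
set_option linter.deprecated false
set_option linter.unusedSimpArgs false
set_option linter.style.longLine false
set_option maxHeartbeats 1600000

universe u

open CategoryTheory CategoryTheory.Limits MonoidalCategory CartesianMonoidalCategory MonObj GrpObj
  AlgebraicGeometry Opposite TensorProduct

namespace Groth.Agent.Lib.MTWeilH4

open Groth.Agent.Lib.RedDictH8 Groth.Agent.Lib.DSDict Groth.Agent.Lib.MultGa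
  Groth.Agent.Lib.MultTrivH4 Groth.Agent.Lib.ConnActH4 Groth.Agent.Lib.TwConstFinH4
  Groth.Agent.Lib.MTHomH4 Groth.Agent.Lib.TorusQuotH4 Groth.Agent.Lib.KerTrivH4

/-! ### Charts, finitely presented version -/

theorem local_ideal_free_fp {S : Scheme.{u}} {H Y K₀ : Over S} (k₀ : K₀ ⟶ H ⊗ Y)
    [IsClosedImmersion k₀.left] [LocallyOfFinitePresentation k₀.left]
    (R : Type u) [CommRing R] (c : Spec (CommRingCat.of R) ⟶ Y.left)
    (B : Type u) [CommRing B] [Algebra R B] [Module.Free R B]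
    (θ : pullback (HB H Y).hom c ≅ Spec (CommRingCat.of B))
    (hθ : θ.hom ≫ Spec.map (CommRingCat.ofHom (algebraMap R B)) =
      pullback.snd (HB H Y).hom c) :
    ∃ I : Ideal R, I.FG ∧ ∀ (C : Type u) [CommRing C] [Algebra R C],
      IsIso (bcL (kB k₀) (Spec.map (CommRingCat.ofHom (algebraMap R C)) ≫ c)) ↔
        I ≤ RingHom.ker (algebraMap R C) := by
  haveI : IsClosedImmersion (kB k₀).left := (inferInstance : IsClosedImmersion k₀.left)
  haveI : LocallyOfFinitePresentation (kB k₀).left :=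
    (inferInstance : LocallyOfFinitePresentation k₀.left)
  obtain ⟨J, hJ, hdict⟩ := dict (kB k₀) R B c θ hθ
  obtain ⟨I, hIfg, hI⟩ := coeff_ideal R B J hJ
  exact ⟨I, hIfg, fun C _ _ => (hdict C).trans (hI C)⟩

theorem chart_closed_free_fp {S : Scheme.{u}} {H Y K₀ : Over S} (k₀ : K₀ ⟶ H ⊗ Y)
    [IsClosedImmersion k₀.left] [LocallyOfFinitePresentation k₀.left]
    (Q : Scheme.{u}) [IsAffine Q] (q : Q ⟶ Y.left)
    (B : Type u) [CommRing B] [Algebra Γ(Q, ⊤) B] [Module.Free Γ(Q, ⊤) B]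
    (θ : pullback (HB H Y).hom (Q.isoSpec.inv ≫ q) ≅ Spec (CommRingCat.of B))
    (hθ : θ.hom ≫ Spec.map (CommRingCat.ofHom (algebraMap Γ(Q, ⊤) B)) =
      pullback.snd (HB H Y).hom (Q.isoSpec.inv ≫ q)) :
    ∃ (Z : Scheme.{u}) (z : Z ⟶ Q), IsClosedImmersion z ∧ LocallyOfFinitePresentation z ∧
      ∀ {T : Scheme.{u}} (r : T ⟶ Q), IsIso (bcL (kB k₀) (r ≫ q)) ↔ ∃ l : T ⟶ Z, l ≫ z = r := by
  obtain ⟨I, hIfg, hI⟩ := local_ideal_free_fp k₀ Γ(Q, ⊤) (Q.isoSpec.inv ≫ q) B θ hθ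
  have huniv := fun {T : Scheme.{u}} (r : T ⟶ Spec (CommRingCat.of Γ(Q, ⊤))) =>
    chart_univ (kB k₀) Γ(Q, ⊤) (Q.isoSpec.inv ≫ q) I hI r
  haveI hzc : IsClosedImmersion (Spec.map (CommRingCat.ofHom (Ideal.Quotient.mk I))) :=
    IsClosedImmersion.spec_of_quotient_mk (R := CommRingCat.of Γ(Q, ⊤)) I
  haveI hzfp : LocallyOfFinitePresentation
      (Spec.map (CommRingCat.ofHom (Ideal.Quotient.mk I))) := by
    rw [LocallyOfFinitePresentation.SpecMap_iff]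
    refine RingHom.FinitePresentation.of_surjective _ Ideal.Quotient.mk_surjective ?_
    rw [CommRingCat.hom_ofHom, Ideal.mk_ker]
    exact hIfg
  refine ⟨Spec (CommRingCat.of (Γ(Q, ⊤) ⧸ I)),
    Spec.map (CommRingCat.ofHom (Ideal.Quotient.mk I)) ≫ Q.isoSpec.inv,
    inferInstance, inferInstance, ?_⟩
  intro T r
  have h1 := huniv (r ≫ Q.isoSpec.hom)
  have e1 : (r ≫ Q.isoSpec.hom) ≫ Q.isoSpec.inv ≫ q = r ≫ q := by
    rw [Category.assoc, Iso.hom_inv_id_assoc]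
  constructor
  · intro h
    obtain ⟨l, hl⟩ := h1.mp (bcL_congr (kB k₀) e1.symm h)
    refine ⟨l, ?_⟩
    rw [← Category.assoc, hl, Category.assoc, Iso.hom_inv_id, Category.comp_id]
  · rintro ⟨l, hl⟩
    refine bcL_congr (kB k₀) e1 (h1.mpr ⟨l, ?_⟩)
    rw [← hl, Category.assoc, Category.assoc, Iso.inv_hom_id, Category.comp_id]

theorem chart_data_free_fp' {S : Scheme.{u}} {G Y K₀ : Over S} [IsAffineHom G.hom]
    (k₀ : K₀ ⟶ G ⊗ Y) [IsClosedImmersion k₀.left] [LocallyOfFinitePresentation k₀.left]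
    (U₀ : S.Opens) (hU : IsAffineOpen U₀)
    (hfree : @Module.Free Γ(S, U₀) Γ(G.left, G.hom ⁻¹ᵁ U₀) _ _
      (G.hom.app U₀).hom.toAlgebra.toModule)
    (Q : Scheme.{u}) [IsAffine Q] (q : Q ⟶ Y.left)
    (hq : Set.range (q ≫ Y.hom) ⊆ (U₀ : Set S)) :
    ∃ (Z : Scheme.{u}) (z : Z ⟶ Q), IsClosedImmersion z ∧ LocallyOfFinitePresentation z ∧
      ∀ {T : Scheme.{u}} (r : T ⟶ Q),
        IsIso (bcL (kB k₀) (r ≫ q)) ↔ ∃ l : T ⟶ Z, l ≫ z = r := by
  have hrange : Set.range ((Q.isoSpec.inv ≫ q) ≫ Y.hom) ⊆ (U₀ : Set S) := by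
    rintro _ ⟨t, rfl⟩
    exact hq ⟨Q.isoSpec.inv.base t, rfl⟩
  obtain ⟨B, iB, iA, iF, θ₀, hθ₀⟩ := coord_gen U₀ hU hfree Γ(Q, ⊤)
    ((Q.isoSpec.inv ≫ q) ≫ Y.hom) hrange
  letI iA' : Algebra Γ(Q, ⊤) B := iA
  haveI iF' : Module.Free Γ(Q, ⊤) B := iF
  refine chart_closed_free_fp k₀ Q q B
    (pullbackLeftPullbackSndIso G.hom Y.hom (Q.isoSpec.inv ≫ q) ≪≫ θ₀) ?_
  exact (Category.assoc _ _ _).trans
    ((congrArg (fun m => (pullbackLeftPullbackSndIso G.hom Y.hom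
      (Q.isoSpec.inv ≫ q)).hom ≫ m) hθ₀).trans
      (pullbackLeftPullbackSndIso_hom_snd G.hom Y.hom (Q.isoSpec.inv ≫ q)))

/-! ### Finite presentation of the glued closed subscheme -/

theorem ker_eq_of_univ {B C Q Z : Scheme.{u}} {K H' : Over B} (k : K ⟶ H')
    (cι : C ⟶ B) [IsClosedImmersion cι]
    (huniv : ∀ {T : Scheme.{u}} (t : T ⟶ B), (∃ l : T ⟶ C, l ≫ cι = t) ↔ IsIso (bcL k t))
    (q : Q ⟶ B) (z : Z ⟶ Q) [IsClosedImmersion z]
    (hz : ∀ {T : Scheme.{u}} (r : T ⟶ Q), IsIso (bcL k (r ≫ q)) ↔ ∃ l : T ⟶ Z, l ≫ z = r) :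
    cι.ker.comap q = z.ker := by
  rw [← Groth.Agent.Lib.ClosedDescent_helper7.ker_snd_of_isClosedImmersion cι q]
  apply le_antisymm
  · have h1 : IsIso (bcL k (z ≫ q)) := (hz z).mpr ⟨𝟙 _, Category.id_comp z⟩
    obtain ⟨l, hl⟩ := (huniv (z ≫ q)).mpr h1
    have h2 : pullback.lift l z hl ≫ pullback.snd cι q = z := pullback.lift_snd _ _ _
    calc (pullback.snd cι q).ker ≤ (pullback.lift l z hl ≫ pullback.snd cι q).ker :=
          Scheme.Hom.le_ker_comp _ _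
      _ = z.ker := by rw [h2]
  · have h1 : IsIso (bcL k (pullback.snd cι q ≫ q)) :=
      (huniv (pullback.snd cι q ≫ q)).mp ⟨pullback.fst cι q, pullback.condition⟩
    obtain ⟨l, hl⟩ := (hz (pullback.snd cι q)).mp h1
    calc z.ker ≤ (l ≫ z).ker := Scheme.Hom.le_ker_comp _ _
      _ = (pullback.snd cι q).ker := by rw [hl]

theorem lfp_of_univ {S S' B P' : Scheme.{u}} {K H' : Over B} (k : K ⟶ H')
    (f : S' ⟶ S) [Flat f]
    (hqc : ∀ V : S.Opens, IsAffineOpen V →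
      ∃ W : S'.Opens, IsCompact (W : Set S') ∧ f.base '' (W : Set S') = (V : Set S))
    (y : B ⟶ S) (π : P' ⟶ B) (σ : P' ⟶ S') (sq : IsPullback π σ y f)
    (U : S' → S'.Opens) (hxU : ∀ x, x ∈ U x)
    {C : Scheme.{u}} (cι : C ⟶ B) [IsClosedImmersion cι]
    (huniv : ∀ {T : Scheme.{u}} (t : T ⟶ B), (∃ l : T ⟶ C, l ≫ cι = t) ↔ IsIso (bcL k t))
    (hchartdata : ∀ i : ChartIdx σ U, ∃ (Z : Scheme.{u}) (z : Z ⟶ (i.2.1.2 : Scheme.{u})),
      IsClosedImmersion z ∧ LocallyOfFinitePresentation z ∧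
        ∀ {T : Scheme.{u}} (r : T ⟶ (i.2.1.2 : Scheme.{u})),
          IsIso (bcL k (r ≫ i.2.1.2.ι ≫ π)) ↔ ∃ l : T ⟶ Z, l ≫ z = r) :
    LocallyOfFinitePresentation cι := by
  have hcov := cov_pieces f hqc y π σ sq
  have hch := chart_exists σ U hxU
  choose Z z hzc hzfp hzuniv using hchartdata
  apply lfp_of_bcL_one
  refine desc_imp (cB cι) (cB cι) ⊤ @LocallyOfFinitePresentation π hcov ?_ (𝟙 B) trivial
  intro x
  obtain ⟨O, hxO, hO⟩ := hch x
  refine ⟨O, hxO, fun {T} r hr _ => ?_⟩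
  obtain ⟨i, r₁, hr₁⟩ := hO r hr
  have e : r₁ ≫ i.2.1.2.ι ≫ π = r ≫ π := by rw [← Category.assoc, hr₁]
  haveI := hzfp i
  haveI := hzc i
  have hker : cι.ker.comap (i.2.1.2.ι ≫ π) = (z i).ker :=
    ker_eq_of_univ k cι huniv (i.2.1.2.ι ≫ π) (z i) (fun {T} r => hzuniv i r)
  exact P_congr (cB cι) @LocallyOfFinitePresentation e
    (P_bc (cB cι) (i.2.1.2.ι ≫ π) r₁ (lfp_chart (i.2.1.2.ι ≫ π) cι (z i) hker))

/-! ### The theorem for a finite locally free `H` -/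

theorem weil_closed_ff {S : Scheme.{u}} {H Y K₀ : Over S}
    [IsFinite H.hom] [Flat H.hom] [LocallyOfFinitePresentation H.hom]
    (k₀ : K₀ ⟶ H ⊗ Y) [IsClosedImmersion k₀.left] [LocallyOfFinitePresentation k₀.left] :
    ∃ (C : Scheme.{u}) (cι : C ⟶ Y.left), IsClosedImmersion cι ∧
      LocallyOfFinitePresentation cι ∧
      ∀ {T : Scheme.{u}} (t : T ⟶ Y.left), (∃ l : T ⟶ C, l ≫ cι = t) ↔
        IsIso (bcL (kB k₀) t) := by
  have hfo : ∀ s : S, ∃ V : S.Opens, Groth.Agent.Lib.FlatNormH4.IsFreeOpen H.hom V ∧ s ∈ V ∧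
      V ≤ ⊤ := fun s => Groth.Agent.Lib.FlatNormH4.exists_isFreeOpen H.hom ⊤ s trivial
  choose U₀ hU₀ hsU hle using hfo
  have hqc : ∀ V : S.Opens, IsAffineOpen V →
      ∃ W : S.Opens, IsCompact (W : Set S) ∧ (𝟙 S : S ⟶ S).base '' (W : Set S) = (V : Set S) := by
    intro V hV
    refine ⟨V, hV.isCompact, ?_⟩
    ext x
    constructor
    · rintro ⟨w, hw, rfl⟩
      exact hw
    · intro hx
      exact ⟨x, hx, rfl⟩
  have hchart : ∀ i : ChartIdx Y.hom U₀,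
      ∃ (Z : Scheme.{u}) (z : Z ⟶ (i.2.1.2 : Scheme.{u})), IsClosedImmersion z ∧
        LocallyOfFinitePresentation z ∧
        ∀ {T : Scheme.{u}} (r : T ⟶ (i.2.1.2 : Scheme.{u})),
          IsIso (bcL (kB k₀) (r ≫ i.2.1.2.ι ≫ 𝟙 Y.left)) ↔ ∃ l : T ⟶ Z, l ≫ z = r := by
    intro i
    haveI : IsAffine (i.2.1.2 : Scheme.{u}) := i.2.2.1
    have hq : Set.range (i.2.1.2.ι ≫ Y.hom) ⊆ (U₀ i.2.1.1 : Set S) := by
      rintro _ ⟨t, rfl⟩
      exact i.2.2.2 t.2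
    obtain ⟨Z, z, hz, hzfp, hzu⟩ := chart_data_free_fp' k₀ (U₀ i.2.1.1) (hU₀ i.2.1.1).1
      (hU₀ i.2.1.1).2 (i.2.1.2 : Scheme.{u}) i.2.1.2.ι hq
    refine ⟨Z, z, hz, hzfp, fun {T} r => ?_⟩
    have e : r ≫ i.2.1.2.ι ≫ 𝟙 Y.left = r ≫ i.2.1.2.ι := by rw [Category.comp_id]
    exact ⟨fun h => (hzu r).mp (bcL_congr _ e h), fun h => bcL_congr _ e.symm ((hzu r).mpr h)⟩
  have hchart' : ∀ i : ChartIdx Y.hom U₀,
      ∃ (Z : Scheme.{u}) (z : Z ⟶ (i.2.1.2 : Scheme.{u})), IsClosedImmersion z ∧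
        ∀ {T : Scheme.{u}} (r : T ⟶ (i.2.1.2 : Scheme.{u})),
          IsIso (bcL (kB k₀) (r ≫ i.2.1.2.ι ≫ 𝟙 Y.left)) ↔ ∃ l : T ⟶ Z, l ≫ z = r := by
    intro i
    obtain ⟨Z, z, hz, -, hzu⟩ := hchart i
    exact ⟨Z, z, hz, fun {T} r => hzu r⟩
  obtain ⟨C, cι, hcc, huniv⟩ := glue_closed (kB k₀) (𝟙 S) inferInstance inferInstance hqc
    Y.hom (𝟙 Y.left) Y.hom (IsPullback.id_horiz Y.hom) U₀ hsU hchart'
  haveI := hcc
  have hlfp : LocallyOfFinitePresentation cι :=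
    lfp_of_univ (kB k₀) (𝟙 S) hqc Y.hom (𝟙 Y.left) Y.hom (IsPullback.id_horiz Y.hom) U₀ hsU cι
      (fun {T} t => huniv t) hchart
  exact ⟨C, cι, hcc, hlfp, fun {T} t => huniv t⟩

end Groth.Agent.Lib.MTWeilH4
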