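import Mathlib
import Groth.Prelude
import Groth.Agent.Lib.MTWeil7_helper4

/-!
# Transporters and stabilisers of finite locally free closed subschemes are closed (helper4)
-/

set_option backward.isDefEq.respectTransparency.types false
set_option autoImplicit false
set_option linter.unusedVariables false
set_option linter.unusedTactic false
set_option linter.unreachableTactic false
set_option linter.unusedSectionVars false
set_option linter.style.haveILetI false
set_option linter.deprecated false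
set_option linter.unusedSimpArgs false
set_option linter.style.longLine false
set_option maxHeartbeats 1600000

universe u

open CategoryTheory CategoryTheory.Limits MonoidalCategory CartesianMonoidalCategory MonObj GrpObj
  AlgebraicGeometry Opposite TensorProduct

namespace Groth.Agent.Lib.MTWeilH4

open Groth.Agent.Lib.RedDictH8 Groth.Agent.Lib.DSDict Groth.Agent.Lib.MultGa
  Groth.Agent.Lib.MultTrivH4 Groth.Agent.Lib.ConnActH4 Groth.Agent.Lib.TwConstFinH4
  Groth.Agent.Lib.MTHomH4 Groth.Agent.Lib.TorusQuotH4 Groth.Agent.Lib.KerTrivH4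

/-! ### Equalisers over `S` -/

section Eq

variable {S : Scheme.{u}} {A X : Over S} (m₁ m₂ : A ⟶ X)

/-- the equaliser of two maps, as a pullback of the diagonal. -/
noncomputable def eqK : Over S := pbObj (lift m₁ m₂) (lift (𝟙 X) (𝟙 X))

/-- the inclusion of the equaliser. -/
noncomputable def eqk : eqK m₁ m₂ ⟶ A := pbι (lift m₁ m₂) (lift (𝟙 X) (𝟙 X))

theorem eqk_left : (eqk m₁ m₂).left =
    pullback.fst (lift m₁ m₂).left (lift (𝟙 X) (𝟙 X)).left := rfl

instance mono_eqk : Mono (eqk m₁ m₂).left := by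
  haveI : Mono (lift (𝟙 X) (𝟙 X) : X ⟶ X ⊗ X).left := by
    rw [diag_left]
    infer_instance
  rw [eqk_left]
  exact pullback.fst_of_mono

theorem closedImm_eqk [IsSeparated X.hom] : IsClosedImmersion (eqk m₁ m₂).left := by
  haveI : IsClosedImmersion (lift (𝟙 X) (𝟙 X) : X ⟶ X ⊗ X).left := by
    rw [diag_left]
    infer_instance
  rw [eqk_left]
  exact MorphismProperty.pullback_fst (P := @IsClosedImmersion) _ _ inferInstance

theorem lfp_eqk [LocallyOfFiniteType X.hom] :
    LocallyOfFinitePresentation (eqk m₁ m₂).left := by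
  haveI h1 : LocallyOfFiniteType (pullback.fst X.hom X.hom) :=
    MorphismProperty.pullback_fst (P := @LocallyOfFiniteType) _ _ inferInstance
  haveI h2 : LocallyOfFinitePresentation
      (pullback.diagonal X.hom ≫ pullback.fst X.hom X.hom) := by
    rw [pullback.diagonal_fst]
    infer_instance
  haveI h3 : LocallyOfFinitePresentation (pullback.diagonal X.hom) :=
    lfp_of_comp' (pullback.diagonal X.hom) (pullback.fst X.hom X.hom)
  haveI : LocallyOfFinitePresentation (lift (𝟙 X) (𝟙 X) : X ⟶ X ⊗ X).left := by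
    rw [diag_left]
    exact h3
  rw [eqk_left]
  exact MorphismProperty.pullback_fst (P := @LocallyOfFinitePresentation) _ _ inferInstance

theorem eqk_pts {T' : Over S} (w : T' ⟶ A) :
    (∃ y' : T' ⟶ eqK m₁ m₂, y' ≫ eqk m₁ m₂ = w) ↔ w ≫ m₁ = w ≫ m₂ := by
  refine (pb_iff (lift m₁ m₂) (lift (𝟙 X) (𝟙 X)) w).trans ?_
  have e1 : w ≫ lift m₁ m₂ = lift (w ≫ m₁) (w ≫ m₂) := comp_lift _ _ _
  have e2 : ∀ a' : T' ⟶ X, a' ≫ lift (𝟙 X) (𝟙 X) = lift a' a' := by
    intro a'
    rw [comp_lift, Category.comp_id]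
  constructor
  · rintro ⟨a', ha'⟩
    rw [e1, e2] at ha'
    have h1 := congrArg (fun m => m ≫ fst X X) ha'
    have h2 := congrArg (fun m => m ≫ snd X X) ha'
    simp only [lift_fst, lift_snd] at h1 h2
    rw [h1, h2]
  · intro h
    refine ⟨w ≫ m₂, ?_⟩
    rw [e1, e2, h]

end Eq

/-! ### The transporter of a finite locally free closed subscheme -/

section Transp

variable {S : Scheme.{u}} (G Y : Over S) [GrpObj G] (y : Y ⟶ G)

/-- the conjugation map `(y, g) ↦ g y g⁻¹`, for a subscheme `Y` of `G`. -/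
noncomputable def conjMap' : Y ⊗ G ⟶ G :=
  snd Y G * (fst Y G ≫ y) * (snd Y G)⁻¹

theorem lift_conjMap' {X' : Over S} (a : X' ⟶ Y) (b : X' ⟶ G) :
    lift a b ≫ conjMap' G Y y = b * (a ≫ y) * b⁻¹ := by
  unfold conjMap'
  rw [MonObj.comp_mul, MonObj.comp_mul, GrpObj.comp_inv, lift_snd, ← Category.assoc, lift_fst]

theorem main16771 (Y' : Over S) (hGa : IsAffineHom G.hom)
    (hGfp : LocallyOfFinitePresentation G.hom)
    (hYf : IsFinite Y.hom) (hYfl : Flat Y.hom) (hYfp : LocallyOfFinitePresentation Y.hom)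
    (y' : Y' ⟶ G) (hy' : IsClosedImmersion y'.left)
    (hY'fp : LocallyOfFinitePresentation Y'.hom) :
    ∃ (C : Over S) (c : C ⟶ G), IsClosedImmersion c.left ∧
      LocallyOfFinitePresentation C.hom ∧
      ∀ (X : Over S) (g : X ⟶ G), (∃ z : X ⟶ C, z ≫ c = g) ↔
        ∀ (X' : Over S) (x : X' ⟶ X) (a : X' ⟶ Y), ∃ a' : X' ⟶ Y',
          (x ≫ g) * (a ≫ y) * (x ≫ g)⁻¹ = a' ≫ y' := by
  haveI := hGa
  haveI := hGfp
  haveI := hy'
  haveI := hY'fp
  haveI := hYf
  haveI := hYfl
  haveI := hYfp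
  haveI : LocallyOfFinitePresentation y'.left := by
    haveI : LocallyOfFinitePresentation (y'.left ≫ G.hom) := by
      rw [Over.w y']
      exact hY'fp
    exact lfp_of_comp' y'.left G.hom
  haveI hc : IsClosedImmersion (pbι (conjMap' G Y y) y').left := by
    show IsClosedImmersion (pullback.fst (conjMap' G Y y).left y'.left)
    infer_instance
  haveI hf : LocallyOfFinitePresentation (pbι (conjMap' G Y y) y').left := by
    show LocallyOfFinitePresentation (pullback.fst (conjMap' G Y y).left y'.left)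
    infer_instance
  haveI : Mono (pbι (conjMap' G Y y) y').left := inferInstance
  obtain ⟨C, cι, hcc, hcfp, huniv⟩ := weil_closed_ff (pbι (conjMap' G Y y) y')
  haveI := hcfp
  refine ⟨Over.mk (cι ≫ G.hom), Over.homMk cι rfl, hcc, ?_, ?_⟩
  · show LocallyOfFinitePresentation (cι ≫ G.hom)
    infer_instance
  · intro X g
    refine (over_factor_iff cι g).trans ((huniv g.left).trans
      ((iso_iff_lift (pbι (conjMap' G Y y) y') g.left).trans
        ((lift_iff_pts (pbι (conjMap' G Y y) y') g).trans ?_)))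
    refine forall_congr' (fun X' => forall_congr' (fun x => forall_congr' (fun a => ?_)))
    rw [pb_iff (conjMap' G Y y) y' (lift a (x ≫ g)), lift_conjMap']

end Transp

/-! ### The stabiliser of a finite locally free closed subscheme -/

section Stab

theorem main15837 (S : Scheme.{u}) (G X Y : Over S) [GrpObj G]
    [LocallyOfFinitePresentation G.hom] [QuasiCompact G.hom] [QuasiSeparated G.hom]
    [IsAffineHom X.hom] [LocallyOfFinitePresentation X.hom] (a : AlgGrp.Action G X)
    (i : Y ⟶ X) [IsClosedImmersion i.left] [IsFinite Y.hom] [Flat Y.hom]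
    [LocallyOfFinitePresentation Y.hom] :
    ∃ (Z : Over S) (j : Z ⟶ G), IsClosedImmersion j.left ∧ LocallyOfFinitePresentation j.left ∧
      ∀ (T : Over S) (g : T ⟶ G), (∃ z : T ⟶ Z, z ≫ j = g) ↔
        ∀ (T' : Over S) (t : T' ⟶ T) (y : T' ⟶ Y),
          lift (t ≫ g) (y ≫ i) ≫ a.act = y ≫ i := by
  haveI : IsSeparated X.hom := inferInstance
  haveI : LocallyOfFiniteType X.hom := inferInstance
  obtain ⟨m₁, hm₁⟩ : ∃ m₁ : Y ⊗ G ⟶ X, m₁ = lift (snd Y G) (fst Y G ≫ i) ≫ a.act := ⟨_, rfl⟩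
  obtain ⟨m₂, hm₂⟩ : ∃ m₂ : Y ⊗ G ⟶ X, m₂ = fst Y G ≫ i := ⟨_, rfl⟩
  haveI hc : IsClosedImmersion (eqk m₁ m₂).left := closedImm_eqk m₁ m₂
  haveI hf : LocallyOfFinitePresentation (eqk m₁ m₂).left := lfp_eqk m₁ m₂
  haveI : Mono (eqk m₁ m₂).left := inferInstance
  obtain ⟨C, cι, hcc, hcfp, huniv⟩ := weil_closed_ff (eqk m₁ m₂)
  refine ⟨Over.mk (cι ≫ G.hom), Over.homMk cι rfl, hcc, hcfp, ?_⟩
  intro T g
  refine (over_factor_iff cι g).trans ((huniv g.left).trans
    ((iso_iff_lift (eqk m₁ m₂) g.left).trans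
      ((lift_iff_pts (eqk m₁ m₂) g).trans ?_)))
  refine forall_congr' (fun T' => forall_congr' (fun t => forall_congr' (fun y => ?_)))
  have e0 : lift y (t ≫ g) ≫ lift (snd Y G) (fst Y G ≫ i) = lift (t ≫ g) (y ≫ i) := by
    apply CartesianMonoidalCategory.hom_ext
    · rw [Category.assoc, lift_fst, lift_fst, lift_snd]
    · rw [Category.assoc, lift_snd, lift_snd, ← Category.assoc, lift_fst]
  have e1 : lift y (t ≫ g) ≫ m₁ = lift (t ≫ g) (y ≫ i) ≫ a.act := by
    rw [hm₁, ← Category.assoc, e0]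
  have e2 : lift y (t ≫ g) ≫ m₂ = y ≫ i := by
    rw [hm₂, ← Category.assoc, lift_fst]
  rw [eqk_pts m₁ m₂ (lift y (t ≫ g)), e1, e2]

end Stab

end Groth.Agent.Lib.MTWeilH4
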