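import Mathlib
import Groth.Agent.Lib.WeilAlg_helper7

/-!
# Finite presentation of the Weil restriction algebra (helper7)
-/

set_option autoImplicit false
universe u
open TensorProduct

namespace Groth.Agent.Lib.WeilAlgH7

section ContentSpan

variable {R : Type u} [CommRing R] {B : Type u} [CommRing B] [Algebra R B]
  {ι : Type u} (b : Module.Basis ι R B)

lemma content_span {A : Type u} [CommRing A] [Algebra R A] (G : Set (A ⊗[R] B)) :
    content b (Ideal.span G) =
      Ideal.span {a | ∃ n ∈ G, ∃ i, (Algebra.TensorProduct.basis A b).repr n i = a} := by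
  apply le_antisymm
  · set J : Ideal A :=
      Ideal.span {a | ∃ n ∈ G, ∃ i, (Algebra.TensorProduct.basis A b).repr n i = a} with hJ
    let ρ : A →ₐ[R] A ⧸ J := Ideal.Quotient.mkₐ R J
    have hker : RingHom.ker (ρ : A →+* A ⧸ J) = J := Ideal.Quotient.mkₐ_ker R J
    have hle : Ideal.span G ≤ RingHom.ker (Algebra.TensorProduct.map ρ (AlgHom.id R B) :
        A ⊗[R] B →+* (A ⧸ J) ⊗[R] B) := by
      rw [Ideal.span_le]
      intro n hn
      rw [SetLike.mem_coe, RingHom.mem_ker]
      show Algebra.TensorProduct.map ρ (AlgHom.id R B) n = 0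
      rw [tmap_eq_zero_iff b]
      intro i
      have hmem : (Algebra.TensorProduct.basis A b).repr n i ∈ J :=
        Ideal.subset_span ⟨n, hn, i, rfl⟩
      exact Ideal.Quotient.eq_zero_iff_mem.mpr hmem
    have h2 : content b (Ideal.span G) ≤ RingHom.ker (ρ : A →+* A ⧸ J) :=
      (content_le_ker_iff b ρ (Ideal.span G)).mpr fun n hn => RingHom.mem_ker.mp (hle hn)
    rwa [hker] at h2
  · rw [Ideal.span_le]
    rintro _ ⟨n, hn, i, rfl⟩
    show _ ∈ content b (Ideal.span G)
    unfold content
    exact Ideal.subset_span ⟨n, Ideal.subset_span hn, i, rfl⟩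

end ContentSpan

section FP

variable (R : Type u) [CommRing R] (B : Type u) [CommRing B] [Algebra R B]
  {ι : Type u} [Fintype ι] (b : Module.Basis ι R B)
  {C : Type u} [CommRing C] [Algebra R C] {σ : Type u} (π : MvPolynomial σ R →ₐ[R] C)

lemma II_fg (hfg : (RingHom.ker (π : MvPolynomial σ R →+* C)).FG) : (II R B b π).FG := by
  obtain ⟨G, hG⟩ := hfg
  unfold II NN
  rw [← hG, Ideal.map_span, content_span]
  apply Submodule.fg_span
  have hfin : ((u₀ R B b) '' (G : Set (MvPolynomial σ R))).Finite := G.finite_toSet.image _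
  refine Set.Finite.subset ((hfin.prod (Set.finite_univ (α := ι))).image
    (fun p : (MvPolynomial (σ × ι) R ⊗[R] B) × ι =>
      (Algebra.TensorProduct.basis (MvPolynomial (σ × ι) R) b).repr p.1 p.2)) ?_
  rintro _ ⟨n, hn, i, rfl⟩
  exact ⟨(n, i), ⟨hn, Set.mem_univ i⟩, rfl⟩

theorem WR_finitePresentation [Finite σ]
    (hfg : (RingHom.ker (π : MvPolynomial σ R →+* C)).FG) :
    Algebra.FinitePresentation R (WR R B b π) := by
  have : Algebra.FinitePresentation R (MvPolynomial (σ × ι) R) := inferInstance
  exact Algebra.FinitePresentation.quotient (II_fg R B b π hfg)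

theorem WR_finiteType [Finite σ] : Algebra.FiniteType R (WR R B b π) := by
  have : Algebra.FiniteType R (MvPolynomial (σ × ι) R) := inferInstance
  exact Algebra.FiniteType.of_surjective (q R B b π) (q_surjective R B b π)

end FP

/-- Existence of the Weil restriction algebra, finitely presented if `C` is. -/
theorem exists_weilAlg_fp (R : Type u) [CommRing R] (B : Type u) [CommRing B] [Algebra R B]
    [Module.Finite R B] [Module.Free R B] (C : Type u) [CommRing C] [Algebra R C]
    [Algebra.FinitePresentation R C] :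
    ∃ (W : Type u) (_ : CommRing W) (_ : Algebra R W) (univ : C →ₐ[R] W ⊗[R] B),
      Algebra.FinitePresentation R W ∧
      ∀ (A : Type u) [CommRing A] [Algebra R A],
        Function.Bijective (fun ρ : W →ₐ[R] A =>
          (Algebra.TensorProduct.map ρ (AlgHom.id R B)).comp univ) := by
  obtain ⟨σ, hσ, π, hπ, hker⟩ : ∃ (σ : Type u) (_ : Fintype σ) (π : MvPolynomial σ R →ₐ[R] C),
      Function.Surjective π ∧ (RingHom.ker π.toRingHom).FG :=
    Algebra.FinitePresentation.iff_quotient_mvPolynomial'.mp inferInstance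
  let b := Module.Free.chooseBasis R B
  exact ⟨WR R B b π, inferInstance, inferInstance, univ R B b π hπ,
    WR_finitePresentation R B b π hker, fun A _ _ => Φ_bijective R B b π hπ A⟩

/-- Existence of the Weil restriction algebra, of finite type if `C` is. -/
theorem exists_weilAlg_ft (R : Type u) [CommRing R] (B : Type u) [CommRing B] [Algebra R B]
    [Module.Finite R B] [Module.Free R B] (C : Type u) [CommRing C] [Algebra R C]
    [Algebra.FiniteType R C] :
    ∃ (W : Type u) (_ : CommRing W) (_ : Algebra R W) (univ : C →ₐ[R] W ⊗[R] B),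
      Algebra.FiniteType R W ∧
      ∀ (A : Type u) [CommRing A] [Algebra R A],
        Function.Bijective (fun ρ : W →ₐ[R] A =>
          (Algebra.TensorProduct.map ρ (AlgHom.id R B)).comp univ) := by
  obtain ⟨σ, hσ, π, hπ⟩ : ∃ (σ : Type u) (_ : Fintype σ) (π : MvPolynomial σ R →ₐ[R] C),
      Function.Surjective π :=
    Algebra.FiniteType.iff_quotient_mvPolynomial'.mp inferInstance
  let b := Module.Free.chooseBasis R B
  exact ⟨WR R B b π, inferInstance, inferInstance, univ R B b π hπ,
    WR_finiteType R B b π, fun A _ _ => Φ_bijective R B b π hπ A⟩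

end Groth.Agent.Lib.WeilAlgH7
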