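import Mathlib
import Groth.Prelude.Def_Flatn

set_option autoImplicit false
set_option linter.style.haveILetI false
set_option linter.unusedSectionVars false

universe v₁ u₁ u

open CategoryTheory CategoryTheory.Limits AlgebraicGeometry

namespace Groth.Agent.Lib.MorSBCH4

section General

variable {C : Type u₁} [Category.{v₁} C] [HasPullbacks C]

noncomputable def pbIso {T' S' S Z : C} (t : T' ⟶ S') (h : S' ⟶ S) (g : Z ⟶ S) :
    pullback t (pullback.snd g h) ≅ pullback (t ≫ h) g :=
  ((IsPullback.paste_horiz (IsPullback.of_hasPullback t (pullback.snd g h)).flip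
    (IsPullback.of_hasPullback g h)).flip).isoPullback

@[reassoc (attr := simp)]
lemma pbIso_hom_fst {T' S' S Z : C} (t : T' ⟶ S') (h : S' ⟶ S) (g : Z ⟶ S) :
    (pbIso t h g).hom ≫ pullback.fst (t ≫ h) g = pullback.fst t (pullback.snd g h) :=
  IsPullback.isoPullback_hom_fst _

@[reassoc (attr := simp)]
lemma pbIso_hom_snd {T' S' S Z : C} (t : T' ⟶ S') (h : S' ⟶ S) (g : Z ⟶ S) :
    (pbIso t h g).hom ≫ pullback.snd (t ≫ h) g =
      pullback.snd t (pullback.snd g h) ≫ pullback.fst g h :=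
  IsPullback.isoPullback_hom_snd _

lemma pbIso_natural {T'' T' S' S Z : C} (t'' : T'' ⟶ S') (t' : T' ⟶ S') (φ : T'' ⟶ T')
    (h : S' ⟶ S) (g : Z ⟶ S)
    (h1 : (pullback.fst t'' (pullback.snd g h) ≫ φ) ≫ t' =
      pullback.snd t'' (pullback.snd g h) ≫ pullback.snd g h)
    (h2 : (pullback.fst (t'' ≫ h) g ≫ φ) ≫ (t' ≫ h) = pullback.snd (t'' ≫ h) g ≫ g) :
    pullback.lift (pullback.fst t'' (pullback.snd g h) ≫ φ) (pullback.snd t'' (pullback.snd g h)) h1 ≫
      (pbIso t' h g).hom =
    (pbIso t'' h g).hom ≫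
      pullback.lift (pullback.fst (t'' ≫ h) g ≫ φ) (pullback.snd (t'' ≫ h) g) h2 := by
  apply pullback.hom_ext
  · simp [pullback.lift_fst, pullback.lift_fst_assoc, pullback.lift_snd, pullback.lift_snd_assoc]
  · simp [pullback.lift_fst, pullback.lift_fst_assoc, pullback.lift_snd, pullback.lift_snd_assoc]

noncomputable def beta {S' S Z : C} (h : S' ⟶ S) (g : Z ⟶ S) :
    (Over.pullback (pullback.snd g h) ⋙ Over.map (pullback.snd g h)) ⋙ Over.map h ≅
      Over.map h ⋙ Over.pullback g ⋙ Over.map g :=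
  NatIso.ofComponents
    (fun T' => Over.isoMk (pbIso T'.hom h g) (by
      simp [pullback.condition]))
    (fun {T'' T'} φ => by
      ext
      dsimp
      exact pbIso_natural T''.hom T'.hom φ.left h g _ _)

end General

theorem main17079 {X Y S S' : Scheme.{u}} (gX : X ⟶ S) (gY : Y ⟶ S) (h : S' ⟶ S)
    (M : Over S) (e : (Flatn.morS gX gY).RepresentableBy M) :
    Nonempty ((Flatn.morS (pullback.snd gX h) (pullback.snd gY h)).RepresentableBy
      (Over.mk (pullback.snd M.hom h))) := by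
  let adj := Over.mapPullbackAdj h
  let r1 : ((Over.map h).op ⋙ yoneda.obj M).RepresentableBy ((Over.pullback h).obj M) :=
    adj.representableBy M
  let r2 : ((Over.map h).op ⋙ Flatn.morS gX gY).RepresentableBy ((Over.pullback h).obj M) :=
    r1.ofIso (Functor.isoWhiskerLeft (Over.map h).op e.toIso)
  let Ψ' := Over.pullback (pullback.snd gX h) ⋙ Over.map (pullback.snd gX h)
  let i1 : yoneda.obj ((Over.pullback h).obj (Over.mk gY)) ≅
      (Over.map h).op ⋙ yoneda.obj (Over.mk gY) := adj.compYonedaIso.app (Over.mk gY)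
  let α : (Over.map h).op ⋙ Flatn.morS gX gY ≅
      Flatn.morS (pullback.snd gX h) (pullback.snd gY h) :=
    (Functor.isoWhiskerRight (NatIso.op (beta h gX)) (yoneda.obj (Over.mk gY))) ≪≫
      (Functor.isoWhiskerLeft Ψ'.op i1).symm
  exact ⟨r2.ofIso α⟩

end Groth.Agent.Lib.MorSBCH4
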