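import Mathlib

/-!
# Gluing representability of a functor on `Over S` along an open cover of `S` (helper7)

For `F : (Over S)ᵒᵖ ⥤ Type u` we form the presheaf `sigF F` on all schemes,
`T ↦ Σ t : T ⟶ S, F (T, t)`, show that it is a Zariski sheaf as soon as `F` satisfies elementary
separation and gluing conditions, and deduce from Mathlib's local representability theorem that `F`
is representable as soon as its restrictions to the members of an open cover of `S` are.
-/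

set_option autoImplicit false
universe w u
open CategoryTheory CategoryTheory.Limits AlgebraicGeometry Opposite

namespace Groth.Agent.Lib.RelRepGlueH7

variable {S : Scheme.{u}} (F : (Over S)ᵒᵖ ⥤ Type u)

/-! ## Transport along equalities of structure morphisms -/

lemma F_map_congr {A B : Over S} {m m' : A ⟶ B} (h : m.left = m'.left) (a : F.obj (op B)) :
    F.map m.op a = F.map m'.op a := by
  rw [Over.OverMorphism.ext h]

lemma F_map_map {A B C : Over S} (m : A ⟶ B) (m' : B ⟶ C) (m'' : A ⟶ C)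
    (h : m.left ≫ m'.left = m''.left) (a : F.obj (op C)) :
    F.map m.op (F.map m'.op a) = F.map m''.op a := by
  have : m ≫ m' = m'' := Over.OverMorphism.ext h
  rw [← this, op_comp, Functor.map_comp_apply]

lemma F_map_one {A : Over S} (m : A ⟶ A) (h : m.left = 𝟙 _) (a : F.obj (op A)) :
    F.map m.op a = a := by
  have : m = 𝟙 A := Over.OverMorphism.ext h
  rw [this, op_id, Functor.map_id_apply]

/-- The identity of `T`, viewed as a morphism between two `S`-structures with equal structure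
morphisms. -/
def eqO {T : Scheme.{u}} {t t' : T ⟶ S} (h : t = t') : Over.mk t ⟶ Over.mk t' :=
  Over.homMk (𝟙 T) (by simp [h])

@[simp] lemma eqO_left {T : Scheme.{u}} {t t' : T ⟶ S} (h : t = t') : (eqO h).left = 𝟙 T := rfl

/-! ## The presheaf on all schemes -/

/-- Sections of `sigF F` over `T`. -/
def Sig (T : Scheme.{u}) : Type u := Σ t : T ⟶ S, F.obj (op (Over.mk t))

variable {F}

/-- Restriction of sections of `sigF F`. -/
def sigMap {T' T : Scheme.{u}} (k : T' ⟶ T) (x : Sig F T) : Sig F T' :=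
  ⟨k ≫ x.1, F.map (Over.homMk k rfl : Over.mk (k ≫ x.1) ⟶ Over.mk x.1).op x.2⟩

lemma sig_ext {T : Scheme.{u}} {t t' : T ⟶ S} (h : t = t') (a : F.obj (op (Over.mk t)))
    (a' : F.obj (op (Over.mk t'))) (ha : F.map (eqO h).op a' = a) :
    (⟨t, a⟩ : Sig F T) = ⟨t', a'⟩ := by
  subst h
  have : a' = a := by
    rw [← ha]
    exact (F_map_one F _ rfl a').symm
  rw [this]

lemma sig_ext_iff {T : Scheme.{u}} {t t' : T ⟶ S} (a : F.obj (op (Over.mk t)))
    (a' : F.obj (op (Over.mk t'))) :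
    (⟨t, a⟩ : Sig F T) = ⟨t', a'⟩ ↔ ∃ h : t = t', F.map (eqO h).op a' = a := by
  constructor
  · intro h
    cases h
    exact ⟨rfl, F_map_one F _ rfl a⟩
  · rintro ⟨h, ha⟩
    exact sig_ext h a a' ha

lemma sigMap_mk {T' T : Scheme.{u}} (k : T' ⟶ T) (t : T ⟶ S) (a : F.obj (op (Over.mk t))) :
    sigMap k (⟨t, a⟩ : Sig F T) =
      ⟨k ≫ t, F.map (Over.homMk k rfl : Over.mk (k ≫ t) ⟶ Over.mk t).op a⟩ := rfl

variable (F)

/-- The presheaf `T ↦ Σ t : T ⟶ S, F (T, t)` on all schemes. -/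
def sigF : Scheme.{u}ᵒᵖ ⥤ Type u where
  obj T := Sig F T.unop
  map k := ↾(sigMap k.unop)
  map_id T := by
    ext ⟨t, a⟩
    show sigMap (𝟙 T.unop) (⟨t, a⟩ : Sig F T.unop) = ⟨t, a⟩
    rw [sigMap_mk]
    exact sig_ext (Category.id_comp t) _ _ rfl
  map_comp {T₁ T₂ T₃} k k' := by
    ext ⟨t, a⟩
    show sigMap (k ≫ k').unop (⟨t, a⟩ : Sig F T₁.unop) = sigMap k'.unop (sigMap k.unop ⟨t, a⟩)
    rw [sigMap_mk, sigMap_mk, sigMap_mk]
    refine sig_ext (Category.assoc _ _ _) _ _ ?_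
    have e1 := F_map_map F
      (Over.homMk k'.unop rfl : Over.mk (k'.unop ≫ k.unop ≫ t) ⟶ Over.mk (k.unop ≫ t))
      (Over.homMk k.unop rfl : Over.mk (k.unop ≫ t) ⟶ Over.mk t)
      (Over.homMk (k'.unop ≫ k.unop) (by simp) : Over.mk (k'.unop ≫ k.unop ≫ t) ⟶ Over.mk t) rfl a
    rw [e1]
    exact F_map_map F _ _ _ (Category.id_comp _) a

lemma sigF_map_apply {T' T : Scheme.{u}} (k : T' ⟶ T) (x : Sig F T) :
    (sigF F).map k.op x = sigMap k x := rfl

/-- The projection `sigF F ⟶ h_S`. -/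
def pr : sigF F ⟶ yoneda.obj S where
  app T := ↾(fun x : Sig F T.unop => x.1)
  naturality T T' k := by
    ext x
    rfl

/-! ## The sheaf property -/

section Sheaf

/-- The members of an open cover of `T`, as `S`-schemes. -/
noncomputable abbrev Tι {T : Over S} (𝒰 : Scheme.OpenCover.{w} T.left) (i : 𝒰.I₀) : Over S :=
  Over.mk (𝒰.f i ≫ T.hom)

/-- The inclusions of the members of an open cover. -/
noncomputable abbrev ιO {T : Over S} (𝒰 : Scheme.OpenCover.{w} T.left) (i : 𝒰.I₀) : Tι 𝒰 i ⟶ T :=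
  Over.homMk (𝒰.f i) rfl

/-- The pairwise intersections of the members of an open cover, as `S`-schemes. -/
noncomputable abbrev Tij {T : Over S} (𝒰 : Scheme.OpenCover.{w} T.left) (i j : 𝒰.I₀) : Over S :=
  Over.mk (pullback.fst (𝒰.f i) (𝒰.f j) ≫ 𝒰.f i ≫ T.hom)

/-- First projection of an intersection. -/
noncomputable abbrev π₁ {T : Over S} (𝒰 : Scheme.OpenCover.{w} T.left) (i j : 𝒰.I₀) : Tij 𝒰 i j ⟶ Tι 𝒰 i :=
  Over.homMk (pullback.fst (𝒰.f i) (𝒰.f j)) rfl

/-- Second projection of an intersection. -/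
noncomputable abbrev π₂ {T : Over S} (𝒰 : Scheme.OpenCover.{w} T.left) (i j : 𝒰.I₀) : Tij 𝒰 i j ⟶ Tι 𝒰 j :=
  Over.homMk (pullback.snd (𝒰.f i) (𝒰.f j)) (by
    show pullback.snd (𝒰.f i) (𝒰.f j) ≫ 𝒰.f j ≫ T.hom =
      pullback.fst (𝒰.f i) (𝒰.f j) ≫ 𝒰.f i ≫ T.hom
    rw [← Category.assoc, ← pullback.condition, Category.assoc])

/-- Elementary Zariski sheaf condition for a presheaf on `Over S`. -/
structure IsZarSheafOver (F : (Over S)ᵒᵖ ⥤ Type u) : Prop where
  sep : ∀ (T : Over S) (𝒰 : Scheme.OpenCover.{w} T.left) (a a' : F.obj (op T)),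
    (∀ i, F.map (ιO 𝒰 i).op a = F.map (ιO 𝒰 i).op a') → a = a'
  glue : ∀ (T : Over S) (𝒰 : Scheme.OpenCover.{w} T.left) (x : ∀ i, F.obj (op (Tι 𝒰 i))),
    (∀ i j, F.map (π₁ 𝒰 i j).op (x i) = F.map (π₂ 𝒰 i j).op (x j)) →
      ∃ a : F.obj (op T), ∀ i, F.map (ιO 𝒰 i).op a = x i

variable {F}

theorem isSheaf_sigF (hF : IsZarSheafOver.{u + 1} F) :
    Presheaf.IsSheaf Scheme.zariskiTopology.{u} (sigF F) := by
  rw [isSheaf_iff_isSheaf_of_type, Scheme.zariskiTopology_eq, Presieve.isSheaf_pretopology]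
  intro T R hR
  obtain ⟨𝒰, rfl⟩ := Scheme.mem_pretopology_iff.mp hR
  rw [Presieve.isSheafFor_arrows_iff]
  intro x hx
  rw [Presieve.Arrows.pullbackCompatible_iff] at hx
  have hx' : ∀ i j, ∃ h : pullback.fst (𝒰.f i) (𝒰.f j) ≫ (x i).1 =
      pullback.snd (𝒰.f i) (𝒰.f j) ≫ (x j).1,
      F.map (eqO h).op (F.map (Over.homMk (pullback.snd (𝒰.f i) (𝒰.f j)) rfl :
        Over.mk (pullback.snd (𝒰.f i) (𝒰.f j) ≫ (x j).1) ⟶ Over.mk (x j).1).op (x j).2) =
      F.map (Over.homMk (pullback.fst (𝒰.f i) (𝒰.f j)) rfl :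
        Over.mk (pullback.fst (𝒰.f i) (𝒰.f j) ≫ (x i).1) ⟶ Over.mk (x i).1).op (x i).2 := by
    intro i j
    exact (sig_ext_iff _ _).mp (hx i j)
  let t : T ⟶ S := 𝒰.glueMorphisms (fun i => (x i).1) (fun i j => (hx' i j).1)
  have ht : ∀ i, 𝒰.f i ≫ t = (x i).1 := fun i => 𝒰.ι_glueMorphisms _ _ i
  let TO : Over S := Over.mk t
  let 𝒰' : Scheme.OpenCover.{u + 1} TO.left := 𝒰
  have compat : ∀ i j : 𝒰'.I₀,
      F.map (π₁ 𝒰' i j).op (F.map (eqO (ht i)).op (x i).2) =
        F.map (π₂ 𝒰' i j).op (F.map (eqO (ht j)).op (x j).2) := by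
    intro i j
    obtain ⟨h, hh⟩ := hx' i j
    have hA : 𝟙 _ ≫ pullback.fst (𝒰.f i) (𝒰.f j) ≫ (x i).1 =
        pullback.fst (𝒰.f i) (𝒰.f j) ≫ 𝒰.f i ≫ t := by rw [Category.id_comp, ht]
    let m₁ : Tij 𝒰' i j ⟶ Over.mk (pullback.fst (𝒰.f i) (𝒰.f j) ≫ (x i).1) :=
      Over.homMk (𝟙 _) hA
    have L1 : F.map (π₁ 𝒰' i j).op (F.map (eqO (ht i)).op (x i).2) =
        F.map m₁.op (F.map (Over.homMk (pullback.fst (𝒰.f i) (𝒰.f j)) rfl :
          Over.mk (pullback.fst (𝒰.f i) (𝒰.f j) ≫ (x i).1) ⟶ Over.mk (x i).1).op (x i).2) := by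
      rw [F_map_map F (π₁ 𝒰' i j) (eqO (ht i)) (π₁ 𝒰' i j ≫ eqO (ht i)) rfl,
        F_map_map F m₁ _ (π₁ 𝒰' i j ≫ eqO (ht i)) (by simp [m₁]; rfl)]
    rw [L1, ← hh]
    rw [F_map_map F (eqO h) _ (eqO h ≫ Over.homMk _ rfl) rfl,
      F_map_map F m₁ _ (m₁ ≫ eqO h ≫ Over.homMk _ rfl) rfl,
      F_map_map F (π₂ 𝒰' i j) (eqO (ht j)) (π₂ 𝒰' i j ≫ eqO (ht j)) rfl]
    exact F_map_congr F (by simp [m₁]; rfl) _
  obtain ⟨a, ha⟩ := hF.glue TO 𝒰' (fun i => F.map (eqO (ht i)).op (x i).2) compat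
  refine ⟨(⟨t, a⟩ : Sig F T), ?_, ?_⟩
  · intro i
    show sigMap (𝒰.f i) (⟨t, a⟩ : Sig F T) = ⟨(x i).1, (x i).2⟩
    rw [sigMap_mk]
    refine sig_ext (ht i) _ _ ?_
    exact (ha i).symm
  · rintro ⟨t', a'⟩ hy
    have hy' : ∀ i, ∃ h : 𝒰.f i ≫ t' = (x i).1, F.map (eqO h).op (x i).2 =
        F.map (Over.homMk (𝒰.f i) rfl : Over.mk (𝒰.f i ≫ t') ⟶ Over.mk t').op a' :=
      fun i => (sig_ext_iff (t := 𝒰.f i ≫ t') (t' := (x i).1) _ (x i).2).mp (hy i)
    have htt : t' = t := Scheme.Cover.hom_ext 𝒰 _ _ (fun i => by rw [(hy' i).1, ht i])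
    subst htt
    have haa : a' = a := by
      apply hF.sep TO 𝒰'
      intro i
      rw [ha i]
      obtain ⟨h, hh⟩ := hy' i
      exact hh.symm
    rw [haa]

end Sheaf

/-! ## Local representability -/

section Local

variable {F} {ι : Type u} (V : ι → S.Opens) (W : ∀ i, Over (V i : Scheme.{u}))
  (r : ∀ i, ((Over.map (V i).ι).op ⋙ F).RepresentableBy (W i))

/-- The structure morphism of `W i` to `S`. -/
noncomputable def wS (i : ι) : (W i).left ⟶ S := (W i).hom ≫ (V i).ι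

/-- The universal element over `W i`. -/
noncomputable def ξW (i : ι) : F.obj (op (Over.mk (wS V W i))) := (r i).homEquiv (𝟙 (W i))

/-- The universal element over `W i`, as a section of `sigF F`. -/
noncomputable def ηW (i : ι) : Sig F (W i).left := ⟨wS V W i, ξW V W r i⟩

/-- The open subfunctor defined by `W i`. -/
noncomputable def fY (i : ι) : yoneda.obj (W i).left ⟶ sigF F := yonedaEquiv.symm (ηW V W r i)

lemma fY_app (i : ι) {T : Scheme.{u}} (k : T ⟶ (W i).left) :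
    (fY V W r i).app (op T) k = sigMap k (ηW V W r i) := rfl

lemma homEquiv_eq_map (i : ι) {T' : Over (V i : Scheme.{u})} (κ : T' ⟶ W i) :
    (r i).homEquiv κ = F.map ((Over.map (V i).ι).map κ).op (ξW V W r i) :=
  (r i).homEquiv_eq κ

lemma exists_lift (i : ι) {T : Scheme.{u}} (u : T ⟶ (V i : Scheme.{u})) (t : T ⟶ S)
    (a : F.obj (op (Over.mk t))) (h : u ≫ (V i).ι = t) :
    ∃ k : T ⟶ (W i).left, k ≫ (W i).hom = u ∧ sigMap k (ηW V W r i) = ⟨t, a⟩ := by
  let T' : Over (V i : Scheme.{u}) := Over.mk u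
  let a' : ((Over.map (V i).ι).op ⋙ F).obj (op T') := F.map (eqO h).op a
  let κ : T' ⟶ W i := (r i).homEquiv.symm a'
  have hκ : (r i).homEquiv κ = a' := (r i).homEquiv.apply_symm_apply a'
  rw [homEquiv_eq_map] at hκ
  have hk1 : κ.left ≫ (W i).hom = u := Over.w κ
  have h2 : κ.left ≫ wS V W i = t := by
    rw [wS, ← Category.assoc, hk1, h]
  have h3 : κ.left ≫ wS V W i = u ≫ (V i).ι := h2.trans h.symm
  refine ⟨κ.left, hk1, ?_⟩
  show (⟨κ.left ≫ wS V W i, F.map (Over.homMk κ.left rfl :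
    Over.mk (κ.left ≫ wS V W i) ⟶ Over.mk (wS V W i)).op (ξW V W r i)⟩ : Sig F T) = ⟨t, a⟩
  refine sig_ext h2 _ _ ?_
  have e1 : F.map (Over.homMk κ.left rfl :
      Over.mk (κ.left ≫ wS V W i) ⟶ Over.mk (wS V W i)).op (ξW V W r i) =
      F.map (eqO h3).op (F.map ((Over.map (V i).ι).map κ).op (ξW V W r i)) :=
    (F_map_map F (eqO h3) ((Over.map (V i).ι).map κ) _ (Category.id_comp _) _).symm
  rw [e1, hκ]
  exact (F_map_map F (eqO h3) (eqO h) (eqO h2) (Category.id_comp _) a).symm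

lemma lift_unique (i : ι) {T : Scheme.{u}} (k k' : T ⟶ (W i).left)
    (h1 : k ≫ (W i).hom = k' ≫ (W i).hom)
    (h2 : sigMap k (ηW V W r i) = sigMap k' (ηW V W r i)) : k = k' := by
  let T' : Over (V i : Scheme.{u}) := Over.mk (k ≫ (W i).hom)
  let κ : T' ⟶ W i := Over.homMk k rfl
  let κ' : T' ⟶ W i := Over.homMk k' h1.symm
  obtain ⟨h, hh⟩ := (sig_ext_iff (F := F) (t := k ≫ wS V W i) (t' := k' ≫ wS V W i)
    (F.map (Over.homMk k rfl : Over.mk (k ≫ wS V W i) ⟶ Over.mk (wS V W i)).op (ξW V W r i))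
    (F.map (Over.homMk k' rfl : Over.mk (k' ≫ wS V W i) ⟶ Over.mk (wS V W i)).op
      (ξW V W r i))).mp h2
  have h3 : (k ≫ (W i).hom) ≫ (V i).ι = k ≫ wS V W i := Category.assoc _ _ _
  have hκκ' : (r i).homEquiv κ = (r i).homEquiv κ' := by
    rw [homEquiv_eq_map, homEquiv_eq_map]
    have e1 : F.map ((Over.map (V i).ι).map κ).op (ξW V W r i) =
        F.map (eqO h3).op (F.map (Over.homMk k rfl :
          Over.mk (k ≫ wS V W i) ⟶ Over.mk (wS V W i)).op (ξW V W r i)) :=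
      (F_map_map F (eqO h3) _ ((Over.map (V i).ι).map κ) (Category.id_comp _) _).symm
    rw [e1, ← hh]
    let mk' : Over.mk (k' ≫ wS V W i) ⟶ Over.mk (wS V W i) := Over.homMk k' rfl
    rw [F_map_map F (eqO h) mk' (eqO h ≫ mk') rfl,
      F_map_map F (eqO h3) _ (eqO h3 ≫ eqO h ≫ mk') rfl]
    exact F_map_congr F (by simp [κ', mk']) _
  have := (r i).homEquiv.injective hκκ'
  exact congrArg (fun m => m.left) this

theorem isPullback_fY (i : ι) :
    IsPullback (yoneda.map (W i).hom) (fY V W r i) (yoneda.map (V i).ι) (pr F) := by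
  refine IsPullback.of_forall_isPullback_app fun T => ?_
  rw [Types.isPullback_iff]
  refine ⟨?_, ?_, ?_⟩
  · ext k
    show (k ≫ (W i).hom) ≫ (V i).ι = k ≫ wS V W i
    rw [wS, Category.assoc]
  · rintro k k' ⟨h1, h2⟩
    exact lift_unique V W r i k k' h1 h2
  · intro u x h
    obtain ⟨k, hk1, hk2⟩ := exists_lift V W r i u x.1 x.2 h
    exact ⟨k, hk1, hk2⟩

theorem fY_isOpenImmersion (i : ι) : IsOpenImmersion.presheaf (fY V W r i) := by
  have h1 : IsOpenImmersion.presheaf (yoneda.map (V i).ι) :=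
    MorphismProperty.relative_map (inferInstance : IsOpenImmersion (V i).ι)
  have := MorphismProperty.relative_isStableUnderBaseChange
    (F := (yoneda : Scheme.{u} ⥤ _)) @IsOpenImmersion
  exact MorphismProperty.of_isPullback (isPullback_fY V W r i) h1

variable (hcov : ∀ s : S, ∃ i, s ∈ V i)

include hcov in
theorem isLocallySurjective_fY :
    Presheaf.IsLocallySurjective Scheme.zariskiTopology (Sigma.desc (fY V W r)) := by
  refine ⟨fun {T} x => ?_⟩
  let x' : Sig F T := x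
  have hV : TopologicalSpace.IsOpenCover V := TopologicalSpace.IsOpenCover.mk
    (top_le_iff.mp fun s _ => by
      obtain ⟨i, hi⟩ := hcov s
      exact TopologicalSpace.Opens.mem_iSup.mpr ⟨i, hi⟩)
  let 𝒱 : Scheme.OpenCover.{u} S := S.openCoverOfIsOpenCover V hV
  rw [Scheme.mem_grothendieckTopology_iff]
  refine ⟨𝒱.pullback₁ x'.1, ?_⟩
  rintro Y g ⟨i⟩
  obtain ⟨k, -, hk2⟩ := exists_lift V W r i (pullback.snd x'.1 (𝒱.f i))
    (pullback.fst x'.1 (𝒱.f i) ≫ x'.1)
    (F.map (Over.homMk (pullback.fst x'.1 (𝒱.f i)) rfl :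
      Over.mk (pullback.fst x'.1 (𝒱.f i) ≫ x'.1) ⟶ Over.mk x'.1).op x'.2)
    pullback.condition.symm
  refine ⟨(Sigma.ι (fun i => yoneda.obj (W i).left) i).app _ k, ?_⟩
  have h1 : Sigma.ι (fun i => yoneda.obj (W i).left) i ≫ Sigma.desc (fY V W r) = fY V W r i :=
    Sigma.ι_desc _ _
  refine (ConcreteCategory.congr_hom (NatTrans.congr_app h1
    (op (pullback x'.1 (𝒱.f i)))) k).trans ?_
  exact hk2

variable (hF : IsZarSheafOver.{u + 1} F)

include hF hcov r in
theorem exists_representable :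
    ∃ Wg : Over S, Nonempty (F.RepresentableBy Wg) ∧
      ∀ i, ∃ (j : (W i).left ⟶ Wg.left) (_ : IsOpenImmersion j),
        j.opensRange = Wg.hom ⁻¹ᵁ (V i) := by
  let 𝓕 : Sheaf Scheme.zariskiTopology.{u} (Type u) := ⟨sigF F, isSheaf_sigF hF⟩
  let f : ∀ i, yoneda.obj (W i).left ⟶ 𝓕.obj := fun i => fY V W r i
  have hf : ∀ i, IsOpenImmersion.presheaf (f i) := fun i => fY_isOpenImmersion V W r i
  have : Presheaf.IsLocallySurjective Scheme.zariskiTopology (Sigma.desc f) :=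
    isLocallySurjective_fY V W r hcov
  let Y : Scheme.{u} := (Scheme.LocalRepresentability.glueData hf).glued
  let e : (sigF F).RepresentableBy Y := Scheme.LocalRepresentability.representableBy hf
  let ηY : Sig F Y := e.homEquiv (𝟙 Y)
  let w : Y ⟶ S := ηY.1
  let ξY : F.obj (op (Over.mk w)) := ηY.2
  have he : ∀ {T : Scheme.{u}} (k : T ⟶ Y), e.homEquiv k =
      (⟨k ≫ w, F.map (Over.homMk k rfl : Over.mk (k ≫ w) ⟶ Over.mk w).op ξY⟩ : Sig F T) :=
    fun k => e.homEquiv_eq k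
  let Wg : Over S := Over.mk w
  -- the structure morphisms of the charts
  have hj : ∀ i, e.homEquiv (Scheme.LocalRepresentability.toGlued hf i) = ηW V W r i := by
    intro i
    have h1 := Scheme.LocalRepresentability.yonedaGluedToSheaf_app_toGlued hf (i := i)
    have h2 : yonedaEquiv (fY V W r i) = ηW V W r i := by
      unfold fY
      exact yonedaEquiv.apply_symm_apply _
    exact h1.trans h2
  refine ⟨Wg, ⟨?_⟩, ?_⟩
  · -- representability
    have hinj : ∀ T : Over S, Function.Injective (fun φ : T ⟶ Wg => F.map φ.op ξY) := by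
      intro T φ φ' h
      have h' : F.map φ.op ξY = F.map φ'.op ξY := h
      have h0 : φ.left ≫ w = φ'.left ≫ w := (Over.w φ).trans (Over.w φ').symm
      have hc : ∀ ψ : T ⟶ Wg, 𝟙 _ ≫ T.hom = ψ.left ≫ w := fun ψ => by
        rw [Category.id_comp]; exact (Over.w ψ).symm
      let cc : ∀ ψ : T ⟶ Wg, Over.mk (ψ.left ≫ w) ⟶ T := fun ψ => Over.homMk (𝟙 _) (hc ψ)
      have hk : ∀ ψ : T ⟶ Wg, F.map (Over.homMk ψ.left rfl :
          Over.mk (ψ.left ≫ w) ⟶ Over.mk w).op ξY = F.map (cc ψ).op (F.map ψ.op ξY) :=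
        fun ψ => (F_map_map F (cc ψ) ψ _ (Category.id_comp _) ξY).symm
      have hleft : φ.left = φ'.left := by
        apply e.homEquiv.injective
        rw [he, he]
        refine sig_ext h0 _ _ ?_
        rw [hk φ, hk φ', h']
        exact F_map_map F (eqO h0) (cc φ') (cc φ) (Category.id_comp _) _
      exact Over.OverMorphism.ext hleft
    have hsurj : ∀ T : Over S, Function.Surjective (fun φ : T ⟶ Wg => F.map φ.op ξY) := by
      intro T b
      let x : Sig F T.left := ⟨T.hom, b⟩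
      let k : T.left ⟶ Y := e.homEquiv.symm x
      have hk : e.homEquiv k = x := e.homEquiv.apply_symm_apply x
      rw [he] at hk
      obtain ⟨h, hh⟩ := (sig_ext_iff (F := F) (t := k ≫ w) (t' := T.hom) _ b).mp hk
      let φ : T ⟶ Wg := Over.homMk k h
      refine ⟨φ, ?_⟩
      have hd : 𝟙 _ ≫ k ≫ w = T.hom := by rw [Category.id_comp, h]
      let d : T ⟶ Over.mk (k ≫ w) := Over.homMk (𝟙 _) hd
      show F.map φ.op ξY = b
      have e1 : F.map φ.op ξY = F.map d.op (F.map (Over.homMk k rfl :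
          Over.mk (k ≫ w) ⟶ Over.mk w).op ξY) :=
        (F_map_map F d _ φ (Category.id_comp _) ξY).symm
      rw [e1, ← hh]
      have e2 := F_map_map F d (eqO h) (𝟙 T) (Category.id_comp _) b
      rw [e2]
      exact F_map_one F _ rfl b
    exact
      { homEquiv := fun {T} => Equiv.ofBijective _ ⟨hinj T, hsurj T⟩
        homEquiv_comp := fun {T T'} φ ψ => by
          show F.map (φ ≫ ψ).op ξY = F.map φ.op (F.map ψ.op ξY)
          rw [op_comp, Functor.map_comp_apply] }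
  · intro i
    let j : (W i).left ⟶ Y := Scheme.LocalRepresentability.toGlued hf i
    have : IsOpenImmersion j := inferInstanceAs (IsOpenImmersion
      (Scheme.LocalRepresentability.toGlued hf i))
    have hjw : j ≫ w = wS V W i := by
      have h1 := hj i
      rw [he] at h1
      exact ((sig_ext_iff (F := F) (t := j ≫ w) (t' := wS V W i) _ (ξW V W r i)).mp h1).1
    refine ⟨j, inferInstance, ?_⟩
    apply le_antisymm
    · rintro _ ⟨z, rfl⟩
      show w (j z) ∈ V i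
      rw [← Scheme.Hom.comp_apply, hjw, wS, Scheme.Hom.comp_apply]
      exact ((V i).range_ι ▸ Set.mem_range_self _ : (V i).ι ((W i).hom z) ∈ (V i : Set S))
    · intro y hy
      let U : Y.Opens := w ⁻¹ᵁ (V i)
      have hrange : Set.range (U.ι ≫ w) ⊆ Set.range (V i).ι := by
        rintro _ ⟨z, rfl⟩
        rw [(V i).range_ι]
        exact z.2
      let u : (U : Scheme.{u}) ⟶ (V i : Scheme.{u}) :=
        IsOpenImmersion.lift (V i).ι (U.ι ≫ w) hrange
      have hu : u ≫ (V i).ι = U.ι ≫ w := IsOpenImmersion.lift_fac _ _ _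
      obtain ⟨k, -, hk2⟩ := exists_lift V W r i u (U.ι ≫ w)
        (F.map (Over.homMk U.ι rfl : Over.mk (U.ι ≫ w) ⟶ Over.mk w).op ξY) hu
      have hkj : k ≫ j = U.ι := by
        apply e.homEquiv.injective
        rw [e.homEquiv_comp, hj i, he]
        exact hk2
      have : y = j (k ⟨y, hy⟩) := by
        rw [← Scheme.Hom.comp_apply, hkj]
        rfl
      rw [this]
      exact ⟨_, rfl⟩

end Local

end Groth.Agent.Lib.RelRepGlueH7
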