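import Mathlib
import Groth.Prelude
import Groth.Agent.Lib.WeilSch_helper7
import Groth.Agent.Lib.RelRepGlue_helper7
import Groth.Agent.Lib.MorSBC_helper4
import Groth.Agent.Lib.FlatNorm_helper4

/-!
# Weil restriction along a finite locally free morphism (helper7)

`g : Z ⟶ S` finite locally free, `f : X ⟶ S` affine: `T ↦ Hom_S(T ×_S Z, X)` is representable by a
scheme affine over `S`.  The local case is `WeilSch_helper7`; the gluing is `RelRepGlue_helper7`.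
-/

set_option autoImplicit false
universe w u
open CategoryTheory CategoryTheory.Limits AlgebraicGeometry Opposite TensorProduct

namespace Groth.Agent.Lib.WeilGlueH7

open Groth.Agent.Lib.MorSOpenH4 Groth.Agent.Lib.WeilSchH7 Groth.Agent.Lib.RelRepGlueH7

variable {S : Scheme.{u}} (ZO XO : Over S)

/-! ## The functor of morphisms is a Zariski sheaf -/

lemma FF_map {T' T : Over S} (φ : T' ⟶ T) (a : PX ZO.hom T ⟶ XO) :
    (FF ZO XO).map φ.op a = PXmap ZO.hom φ ≫ a := rfl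

lemma sep_FF {T : Over S} (𝒰 : Scheme.OpenCover.{w} T.left) (a a' : PX ZO.hom T ⟶ XO)
    (h : ∀ i, PXmap ZO.hom (RelRepGlueH7.ιO 𝒰 i) ≫ a = PXmap ZO.hom (RelRepGlueH7.ιO 𝒰 i) ≫ a') :
    a = a' := by
  apply Over.OverMorphism.ext
  refine Scheme.Cover.hom_ext (𝒰.pullback₁ (pullback.fst T.hom ZO.hom)) _ _ ?_
  intro (i : 𝒰.I₀)
  have H : IsPullback (PXmap ZO.hom (RelRepGlueH7.ιO 𝒰 i)).left
      (pullback.fst (RelRepGlueH7.Tι 𝒰 i).hom ZO.hom)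
      (pullback.fst T.hom ZO.hom) (𝒰.f i) := isPullback_PXmap ZO.hom (RelRepGlueH7.ιO 𝒰 i)
  show pullback.fst (pullback.fst T.hom ZO.hom) (𝒰.f i) ≫ a.left =
    pullback.fst (pullback.fst T.hom ZO.hom) (𝒰.f i) ≫ a'.left
  refine (cancel_epi H.isoPullback.hom).mp ?_
  have hk : (PXmap ZO.hom (RelRepGlueH7.ιO 𝒰 i)).left ≫ a.left =
      (PXmap ZO.hom (RelRepGlueH7.ιO 𝒰 i)).left ≫ a'.left :=
    congrArg (fun k => k.left) (h i)
  exact (H.isoPullback_hom_fst_assoc a.left).trans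
    (hk.trans (H.isoPullback_hom_fst_assoc a'.left).symm)

lemma glue_FF {T : Over S} (𝒰 : Scheme.OpenCover.{w} T.left)
    (x : ∀ i, PX ZO.hom (RelRepGlueH7.Tι 𝒰 i) ⟶ XO)
    (hx : ∀ i j, PXmap ZO.hom (RelRepGlueH7.π₁ 𝒰 i j) ≫ x i =
      PXmap ZO.hom (RelRepGlueH7.π₂ 𝒰 i j) ≫ x j) :
    ∃ a : PX ZO.hom T ⟶ XO, ∀ i, PXmap ZO.hom (RelRepGlueH7.ιO 𝒰 i) ≫ a = x i := by
  let p₁ : pullback T.hom ZO.hom ⟶ T.left := pullback.fst T.hom ZO.hom
  let p₂ : pullback T.hom ZO.hom ⟶ ZO.left := pullback.snd T.hom ZO.hom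
  let 𝒱 : Scheme.OpenCover.{w} (pullback T.hom ZO.hom) := 𝒰.pullback₁ p₁
  have H : ∀ i : 𝒰.I₀, IsPullback (PXmap ZO.hom (RelRepGlueH7.ιO 𝒰 i)).left
      (pullback.fst (RelRepGlueH7.Tι 𝒰 i).hom ZO.hom) p₁ (𝒰.f i) :=
    fun i => isPullback_PXmap ZO.hom (RelRepGlueH7.ιO 𝒰 i)
  -- the comparison isomorphisms
  let e : ∀ i : 𝒰.I₀, pullback (RelRepGlueH7.Tι 𝒰 i).hom ZO.hom ≅ pullback p₁ (𝒰.f i) :=
    fun i => (H i).isoPullback
  have e_inv_fst : ∀ i : 𝒰.I₀, (e i).inv ≫ (PXmap ZO.hom (RelRepGlueH7.ιO 𝒰 i)).left =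
      pullback.fst p₁ (𝒰.f i) := fun i => (H i).isoPullback_inv_fst
  have e_inv_snd : ∀ i : 𝒰.I₀, (e i).inv ≫ pullback.fst (RelRepGlueH7.Tι 𝒰 i).hom ZO.hom =
      pullback.snd p₁ (𝒰.f i) := fun i => (H i).isoPullback_inv_snd
  have e_hom_fst : ∀ i : 𝒰.I₀, (e i).hom ≫ pullback.fst p₁ (𝒰.f i) =
      (PXmap ZO.hom (RelRepGlueH7.ιO 𝒰 i)).left := fun i => (H i).isoPullback_hom_fst
  have snd_ι : ∀ i : 𝒰.I₀, (PXmap ZO.hom (RelRepGlueH7.ιO 𝒰 i)).left ≫ p₂ =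
      pullback.snd (RelRepGlueH7.Tι 𝒰 i).hom ZO.hom :=
    fun i => PXmap_left_snd ZO.hom (RelRepGlueH7.ιO 𝒰 i)
  have e_inv_snd' : ∀ i : 𝒰.I₀, (e i).inv ≫ pullback.snd (RelRepGlueH7.Tι 𝒰 i).hom ZO.hom =
      pullback.fst p₁ (𝒰.f i) ≫ p₂ := by
    intro i
    rw [← snd_ι i, ← Category.assoc, e_inv_fst]
  let b : ∀ i : 𝒰.I₀, pullback p₁ (𝒰.f i) ⟶ XO.left := fun i => (e i).inv ≫ (x i).left
  have compat : ∀ i j : 𝒰.I₀,
      pullback.fst (pullback.fst p₁ (𝒰.f i)) (pullback.fst p₁ (𝒰.f j)) ≫ b i =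
      pullback.snd (pullback.fst p₁ (𝒰.f i)) (pullback.fst p₁ (𝒰.f j)) ≫ b j := by
    intro i j
    let q₁ := pullback.fst (pullback.fst p₁ (𝒰.f i)) (pullback.fst p₁ (𝒰.f j))
    let q₂ := pullback.snd (pullback.fst p₁ (𝒰.f i)) (pullback.fst p₁ (𝒰.f j))
    have hq : q₁ ≫ pullback.fst p₁ (𝒰.f i) = q₂ ≫ pullback.fst p₁ (𝒰.f j) := pullback.condition
    have hU : (q₁ ≫ pullback.snd p₁ (𝒰.f i)) ≫ 𝒰.f i = (q₂ ≫ pullback.snd p₁ (𝒰.f j)) ≫ 𝒰.f j := by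
      rw [Category.assoc, Category.assoc, ← pullback.condition, ← pullback.condition,
        ← Category.assoc, ← Category.assoc, hq]
    let toU : pullback (pullback.fst p₁ (𝒰.f i)) (pullback.fst p₁ (𝒰.f j)) ⟶
        pullback (𝒰.f i) (𝒰.f j) :=
      pullback.lift (q₁ ≫ pullback.snd p₁ (𝒰.f i)) (q₂ ≫ pullback.snd p₁ (𝒰.f j)) hU
    let toZ : pullback (pullback.fst p₁ (𝒰.f i)) (pullback.fst p₁ (𝒰.f j)) ⟶ ZO.left :=
      q₁ ≫ pullback.fst p₁ (𝒰.f i) ≫ p₂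
    have hm : toU ≫ (RelRepGlueH7.Tij 𝒰 i j).hom = toZ ≫ ZO.hom := by
      show toU ≫ pullback.fst (𝒰.f i) (𝒰.f j) ≫ 𝒰.f i ≫ T.hom =
        (q₁ ≫ pullback.fst p₁ (𝒰.f i) ≫ p₂) ≫ ZO.hom
      rw [pullback.lift_fst_assoc]
      simp only [Category.assoc]
      rw [← pullback.condition_assoc]
      congr 2
      exact pullback.condition
    let m : pullback (pullback.fst p₁ (𝒰.f i)) (pullback.fst p₁ (𝒰.f j)) ⟶
        pullback (RelRepGlueH7.Tij 𝒰 i j).hom ZO.hom := pullback.lift toU toZ hm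
    have hm1 : m ≫ (PXmap ZO.hom (RelRepGlueH7.π₁ 𝒰 i j)).left = q₁ ≫ (e i).inv := by
      apply pullback.hom_ext
      · have h1 := PXmap_left_fst ZO.hom (RelRepGlueH7.π₁ 𝒰 i j)
        rw [Category.assoc, h1, ← Category.assoc, pullback.lift_fst, Category.assoc, e_inv_snd]
        exact pullback.lift_fst _ _ _
      · have h1 := PXmap_left_snd ZO.hom (RelRepGlueH7.π₁ 𝒰 i j)
        rw [Category.assoc, h1, pullback.lift_snd, Category.assoc, e_inv_snd']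
    have hm2 : m ≫ (PXmap ZO.hom (RelRepGlueH7.π₂ 𝒰 i j)).left = q₂ ≫ (e j).inv := by
      apply pullback.hom_ext
      · have h1 := PXmap_left_fst ZO.hom (RelRepGlueH7.π₂ 𝒰 i j)
        rw [Category.assoc, h1, ← Category.assoc, pullback.lift_fst, Category.assoc, e_inv_snd]
        exact pullback.lift_snd _ _ _
      · have h1 := PXmap_left_snd ZO.hom (RelRepGlueH7.π₂ 𝒰 i j)
        rw [Category.assoc, h1, pullback.lift_snd, Category.assoc, e_inv_snd']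
        show q₁ ≫ pullback.fst p₁ (𝒰.f i) ≫ p₂ = q₂ ≫ pullback.fst p₁ (𝒰.f j) ≫ p₂
        rw [← Category.assoc, hq, Category.assoc]
    have hxl : (PXmap ZO.hom (RelRepGlueH7.π₁ 𝒰 i j)).left ≫ (x i).left =
        (PXmap ZO.hom (RelRepGlueH7.π₂ 𝒰 i j)).left ≫ (x j).left :=
      congrArg (fun k => k.left) (hx i j)
    show q₁ ≫ (e i).inv ≫ (x i).left = q₂ ≫ (e j).inv ≫ (x j).left
    rw [← Category.assoc, ← hm1, ← Category.assoc q₂, ← hm2, Category.assoc, Category.assoc, hxl]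
  let a₀ : pullback T.hom ZO.hom ⟶ XO.left := 𝒱.glueMorphisms b compat
  have ha₀ : ∀ i : 𝒰.I₀, pullback.fst p₁ (𝒰.f i) ≫ a₀ = b i := fun i => 𝒱.ι_glueMorphisms b compat i
  have hw : a₀ ≫ XO.hom = p₂ ≫ ZO.hom := by
    refine Scheme.Cover.hom_ext 𝒱 _ _ ?_
    intro (i : 𝒰.I₀)
    show pullback.fst p₁ (𝒰.f i) ≫ a₀ ≫ XO.hom = pullback.fst p₁ (𝒰.f i) ≫ p₂ ≫ ZO.hom
    rw [← Category.assoc, ha₀]
    show ((e i).inv ≫ (x i).left) ≫ XO.hom = _
    have hxw : (x i).left ≫ XO.hom = pullback.snd (RelRepGlueH7.Tι 𝒰 i).hom ZO.hom ≫ ZO.hom :=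
      Over.w (x i)
    rw [Category.assoc, hxw, ← Category.assoc, e_inv_snd', Category.assoc]
  let a : PX ZO.hom T ⟶ XO := Over.homMk a₀ hw
  refine ⟨a, fun i => ?_⟩
  apply Over.OverMorphism.ext
  show (PXmap ZO.hom (RelRepGlueH7.ιO 𝒰 i)).left ≫ a₀ = (x i).left
  rw [← e_hom_fst i, Category.assoc, ha₀]
  show (e i).hom ≫ (e i).inv ≫ (x i).left = (x i).left
  rw [Iso.hom_inv_id_assoc]

theorem isZarSheafOver_FF : RelRepGlueH7.IsZarSheafOver.{w} (FF ZO XO) where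
  sep _ 𝒰 a a' h := sep_FF ZO XO 𝒰 a a' h
  glue _ 𝒰 x hx := glue_FF ZO XO 𝒰 x hx

/-! ## Transport of freeness along ring isomorphisms -/

section Transport

lemma transport_free_finite {R R' M M' : Type u} [CommRing R] [CommRing R'] [CommRing M]
    [CommRing M'] (φ : R →+* M) (φ' : R' →+* M') (e₁ : R ≃+* R') (e₂ : M ≃+* M')
    (hc : ∀ r, e₂ (φ r) = φ' (e₁ r)) :
    (@Module.Free R M _ _ φ.toAlgebra.toModule → @Module.Free R' M' _ _ φ'.toAlgebra.toModule) ∧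
    (@Module.Finite R M _ _ φ.toAlgebra.toModule →
      @Module.Finite R' M' _ _ φ'.toAlgebra.toModule) := by
  letI := φ.toAlgebra
  letI := φ'.toAlgebra
  letI : RingHomInvPair (e₁ : R →+* R') (e₁.symm : R' →+* R) := RingHomInvPair.of_ringEquiv e₁
  letI : RingHomInvPair (e₁.symm : R' →+* R) (e₁ : R →+* R') :=
    RingHomInvPair.symm (e₁ : R →+* R') (e₁.symm : R' →+* R)
  let e : M ≃ₛₗ[(e₁ : R →+* R')] M' :=
    { e₂.toAddEquiv with
      map_smul' := fun r m => by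
        show e₂ (r • m) = (e₁ r) • e₂ m
        rw [Algebra.smul_def, Algebra.smul_def, map_mul]
        show e₂ (φ r) * e₂ m = φ' (e₁ r) * e₂ m
        rw [hc] }
  exact ⟨fun h => Module.Free.of_equiv e,
    fun h => Module.Finite.of_surjective e.toLinearMap e.surjective⟩

lemma isIso_appLE_top {P X : Scheme.{u}} (j : P ⟶ X) [IsOpenImmersion j] (U : X.Opens)
    (hU : j ''ᵁ ⊤ = U) (e : (⊤ : P.Opens) ≤ j ⁻¹ᵁ U) : IsIso (j.appLE U ⊤ e) := by
  subst hU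
  have : j.appLE (j ''ᵁ ⊤) ⊤ e = (j.appIso ⊤).hom := (j.appIso_hom' ⊤).symm
  rw [this]
  infer_instance

lemma appLE_congr {P X : Scheme.{u}} {j j' : P ⟶ X} (h : j = j') (U : X.Opens) (V : P.Opens)
    (e : V ≤ j ⁻¹ᵁ U) (e' : V ≤ j' ⁻¹ᵁ U) : j.appLE U V e = j'.appLE U V e' := by
  subst h
  rfl

end Transport

/-! ## Base change of the functor of morphisms (after helper4) -/

/-- The functor of morphisms of the base change is the restriction of the functor of morphisms. -/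
noncomputable def αIso {X Y S S' : Scheme.{u}} (gX : X ⟶ S) (gY : Y ⟶ S) (h : S' ⟶ S) :
    (Over.map h).op ⋙ Flatn.morS gX gY ≅
      Flatn.morS (pullback.snd gX h) (pullback.snd gY h) :=
  let adj := Over.mapPullbackAdj h
  let Ψ' := Over.pullback (pullback.snd gX h) ⋙ Over.map (pullback.snd gX h)
  let i1 : yoneda.obj ((Over.pullback h).obj (Over.mk gY)) ≅
      (Over.map h).op ⋙ yoneda.obj (Over.mk gY) := adj.compYonedaIso.app (Over.mk gY)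
  (Functor.isoWhiskerRight (NatIso.op (MorSBCH4.beta h gX)) (yoneda.obj (Over.mk gY))) ≪≫
    (Functor.isoWhiskerLeft Ψ'.op i1).symm

/-! ## The local representing objects -/

theorem exists_local_rep {Z X S : Scheme.{u}} (g : Z ⟶ S) (f : X ⟶ S) [IsFinite g] [Flat g]
    [LocallyOfFinitePresentation g] [IsAffineHom f] (s : S) :
    ∃ (V : S.Opens) (_ : IsAffineOpen V) (_ : s ∈ V) (W₀ : Over (V : Scheme.{u}))
      (_ : IsAffine W₀.left),
      Nonempty (((Over.map V.ι).op ⋙ FF (Over.mk g) (Over.mk f)).RepresentableBy W₀) := by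
  obtain ⟨V, ⟨hVaff, hfree⟩, hsV, -⟩ := FlatNormH4.exists_isFreeOpen g ⊤ s trivial
  have hfin : (g.app V).hom.Finite := IsFinite.finite_app g V hVaff
  haveI : IsAffine (V : Scheme.{u}) := hVaff
  let gv : pullback g V.ι ⟶ (V : Scheme.{u}) := pullback.snd g V.ι
  let fv : pullback f V.ι ⟶ (V : Scheme.{u}) := pullback.snd f V.ι
  let j : pullback g V.ι ⟶ Z := pullback.fst g V.ι
  have hjU : j ''ᵁ ⊤ = g ⁻¹ᵁ V := by
    rw [Scheme.Hom.image_top_eq_opensRange]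
    apply TopologicalSpace.Opens.ext
    show Set.range j = g ⁻¹' (V : Set S)
    rw [Scheme.Pullback.range_fst, Scheme.Opens.range_ι]
  have hle₁ : (⊤ : (V : Scheme.{u}).Opens) ≤ V.ι ⁻¹ᵁ V := fun x _ => x.2
  have hle₂ : (⊤ : (pullback g V.ι).Opens) ≤ j ⁻¹ᵁ (g ⁻¹ᵁ V) := by
    intro z _
    show g (j z) ∈ V
    rw [← Scheme.Hom.comp_apply, pullback.condition, Scheme.Hom.comp_apply]
    exact (gv z).2
  haveI i₁ : IsIso (V.ι.appLE V ⊤ hle₁) := isIso_appLE_top V.ι V V.ι_image_top hle₁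
  haveI i₂ : IsIso (j.appLE (g ⁻¹ᵁ V) ⊤ hle₂) := isIso_appLE_top j _ hjU hle₂
  let e₁ : Γ(S, V) ≃+* Γ((V : Scheme.{u}), ⊤) :=
    (asIso (V.ι.appLE V ⊤ hle₁)).commRingCatIsoToRingEquiv
  let e₂ : Γ(Z, g ⁻¹ᵁ V) ≃+* Γ(pullback g V.ι, ⊤) :=
    (asIso (j.appLE (g ⁻¹ᵁ V) ⊤ hle₂)).commRingCatIsoToRingEquiv
  have htop : gv.appTop = gv.appLE ⊤ ⊤ le_top := by
    simp [Scheme.Hom.appLE]
  have hc : g.app V ≫ j.appLE (g ⁻¹ᵁ V) ⊤ hle₂ = V.ι.appLE V ⊤ hle₁ ≫ gv.appTop := by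
    rw [htop, Scheme.Hom.app_eq_appLE, Scheme.Hom.appLE_comp_appLE, Scheme.Hom.appLE_comp_appLE]
    exact appLE_congr pullback.condition _ _ _ _
  have hc' : ∀ r, e₂ ((g.app V).hom r) = gv.appTop.hom (e₁ r) := fun r =>
    congrArg (fun k => k.hom r) hc
  obtain ⟨tfree, tfin⟩ := transport_free_finite (g.app V).hom gv.appTop.hom e₁ e₂ hc'
  have hZ : IsAffine (Over.mk gv).left := (inferInstance : IsAffine (pullback g V.ι))
  have hX : IsAffine (Over.mk fv).left := (inferInstance : IsAffine (pullback f V.ι))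
  obtain ⟨W₀, hW₀, ⟨e₀⟩⟩ := main7193 (Over.mk gv) (Over.mk fv) hZ hX (tfin hfin) (tfree hfree)
  exact ⟨V, hVaff, hsV, W₀, hW₀, ⟨e₀.ofIso (αIso g f V.ι).symm⟩⟩

/-! ## The main theorem -/

theorem main7194 {Z X S : Scheme.{u}} (g : Z ⟶ S) (f : X ⟶ S) (hg : Mor2.IsFinLocFree g)
    [IsAffineHom f] :
    ∃ W : Over S, IsAffineHom W.hom ∧ Nonempty ((Flatn.morS g f).RepresentableBy W) := by
  obtain ⟨hfin, hflat, hfp⟩ := hg
  haveI := hfin
  haveI := hflat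
  haveI := hfp
  choose V hVaff hsV W₀ hW₀ hr using exists_local_rep g f
  obtain ⟨Wg, ⟨e⟩, hcharts⟩ := exists_representable (F := FF (Over.mk g) (Over.mk f)) V W₀
    (fun s => (hr s).some) (fun s => ⟨s, hsV s⟩) (isZarSheafOver_FF _ _)
  refine ⟨Wg, ?_, ⟨e⟩⟩
  apply isAffineHom_of_forall_exists_isAffineOpen
  intro s
  obtain ⟨j, hj, hrange⟩ := hcharts s
  refine ⟨V s, hsV s, hVaff s, ?_⟩
  rw [← hrange]
  haveI := hW₀ s
  exact isAffineOpen_opensRange j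

end Groth.Agent.Lib.WeilGlueH7
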