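import Mathlib
import Groth.Prelude
import Groth.Agent.Lib.WeilAlgFP_helper7
import Groth.Agent.Lib.WeilGlue_helper7

/-!
# Finite presentation of the scheme of morphisms `Mor_S(Z, X)` (helper7)

`g : Z ⟶ S` finite locally free, `f : X ⟶ S` affine and locally of finite presentation: the scheme
representing `T ↦ Hom_S(T ×_S Z, X)` is affine and locally of finite presentation over `S`.
-/

set_option autoImplicit false
set_option linter.style.haveILetI false
set_option linter.unusedVariables false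
universe u
open CategoryTheory CategoryTheory.Limits AlgebraicGeometry Opposite TensorProduct

namespace Groth.Agent.Lib.WeilFPH7

open Groth.Agent.Lib.MorSOpenH4 Groth.Agent.Lib.WeilSchH7 Groth.Agent.Lib.RelRepGlueH7
open Groth.Agent.Lib.WeilGlueH7 Groth.Agent.Lib.WeilAlgH7

attribute [local instance] algOver

variable {S : Scheme.{u}}

/-- The scheme of morphisms from a Weil restriction algebra. -/
theorem representable_of_weilAlg [IsAffine S] (ZO XO : Over S) (hZ : IsAffine ZO.left)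
    (hX : IsAffine XO.left) (WA : Type u) [CommRing WA] [Algebra Γ(S, ⊤) WA]
    (univ : Γ(XO.left, ⊤) →ₐ[Γ(S, ⊤)] WA ⊗[Γ(S, ⊤)] Γ(ZO.left, ⊤))
    (hbij : ∀ (A : Type u) [CommRing A] [Algebra Γ(S, ⊤) A],
      Function.Bijective (fun ρ : WA →ₐ[Γ(S, ⊤)] A =>
        (Algebra.TensorProduct.map ρ (AlgHom.id Γ(S, ⊤) Γ(ZO.left, ⊤))).comp univ)) :
    Nonempty ((FF ZO XO).RepresentableBy
      (Over.mk (Spec.map (CommRingCat.ofHom (algebraMap Γ(S, ⊤) WA)) ≫ S.isoSpec.inv))) := by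
  let α : Γ(S, ⊤) ⟶ CommRingCat.of WA := CommRingCat.ofHom (algebraMap Γ(S, ⊤) WA)
  let W : Over S := Over.mk (Spec.map α ≫ S.isoSpec.inv)
  have hW : IsAffine W.left := (inferInstance : IsAffine (Spec (CommRingCat.of WA)))
  have hWtop : W.hom.appTop = α ≫ (Scheme.ΓSpecIso (CommRingCat.of WA)).inv := by
    show (Spec.map α ≫ S.isoSpec.inv).appTop = _
    rw [Scheme.Hom.comp_appTop, isoSpec_inv_appTop, ← Scheme.ΓSpecIso_inv_naturality]
  let e₀ : WA ≃+* Γ(W.left, ⊤) :=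
    (Scheme.ΓSpecIso (CommRingCat.of WA)).symm.commRingCatIsoToRingEquiv
  have he₀ : ∀ r, e₀ (algebraMap Γ(S, ⊤) WA r) = algebraMap Γ(S, ⊤) Γ(W.left, ⊤) r := by
    intro r
    show _ = W.hom.appTop.hom r
    rw [hWtop]
    rfl
  let e : WA ≃ₐ[Γ(S, ⊤)] Γ(W.left, ⊤) := AlgEquiv.ofRingEquiv (f := e₀) he₀
  let univ' : Γ(XO.left, ⊤) →ₐ[Γ(S, ⊤)] Γ(W.left, ⊤) ⊗[Γ(S, ⊤)] Γ(ZO.left, ⊤) :=
    (Algebra.TensorProduct.map e.toAlgHom (AlgHom.id Γ(S, ⊤) Γ(ZO.left, ⊤))).comp univ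
  have hcomp : ∀ (A : Type u) [CommRing A] [Algebra Γ(S, ⊤) A]
      (ρ' : Γ(W.left, ⊤) →ₐ[Γ(S, ⊤)] A),
      (Algebra.TensorProduct.map ρ' (AlgHom.id Γ(S, ⊤) Γ(ZO.left, ⊤))).comp univ' =
        (Algebra.TensorProduct.map (ρ'.comp e.toAlgHom)
          (AlgHom.id Γ(S, ⊤) Γ(ZO.left, ⊤))).comp univ := by
    intro A _ _ ρ'
    apply AlgHom.ext
    intro c
    exact WeilAlgH7.map_map Γ(S, ⊤) Γ(ZO.left, ⊤) e.toAlgHom ρ' (univ c)
  have hbij' : ∀ (A : Type u) [CommRing A] [Algebra Γ(S, ⊤) A],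
      Function.Bijective (fun ρ' : Γ(W.left, ⊤) →ₐ[Γ(S, ⊤)] A =>
        (Algebra.TensorProduct.map ρ' (AlgHom.id Γ(S, ⊤) Γ(ZO.left, ⊤))).comp univ') := by
    intro A _ _
    constructor
    · intro ρ₁ ρ₂ h
      have h' : (Algebra.TensorProduct.map (ρ₁.comp e.toAlgHom)
          (AlgHom.id Γ(S, ⊤) Γ(ZO.left, ⊤))).comp univ =
          (Algebra.TensorProduct.map (ρ₂.comp e.toAlgHom)
            (AlgHom.id Γ(S, ⊤) Γ(ZO.left, ⊤))).comp univ := by
        rw [← hcomp A ρ₁, ← hcomp A ρ₂]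
        exact h
      have h2 : ρ₁.comp e.toAlgHom = ρ₂.comp e.toAlgHom := (hbij A).1 h'
      apply AlgHom.ext
      intro x
      have h3 := AlgHom.congr_fun h2 (e.symm x)
      simpa using h3
    · intro ψ
      obtain ⟨ρ, hρ⟩ := (hbij A).2 ψ
      refine ⟨ρ.comp e.symm.toAlgHom, ?_⟩
      show (Algebra.TensorProduct.map (ρ.comp e.symm.toAlgHom)
        (AlgHom.id Γ(S, ⊤) Γ(ZO.left, ⊤))).comp univ' = ψ
      rw [hcomp A]
      have h4 : (ρ.comp e.symm.toAlgHom).comp e.toAlgHom = ρ := by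
        apply AlgHom.ext
        intro x
        simp
      rw [h4]
      exact hρ
  exact representable ZO XO W univ' hbij' hZ hX hW

theorem main7193_fp [IsAffine S] (ZO XO : Over S) (hZ : IsAffine ZO.left) (hX : IsAffine XO.left)
    (hfin : Module.Finite Γ(S, ⊤) Γ(ZO.left, ⊤)) (hfree : Module.Free Γ(S, ⊤) Γ(ZO.left, ⊤))
    (hfp : Algebra.FinitePresentation Γ(S, ⊤) Γ(XO.left, ⊤)) :
    ∃ W : Over S, IsAffine W.left ∧ LocallyOfFinitePresentation W.hom ∧
      Nonempty ((FF ZO XO).RepresentableBy W) := by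
  obtain ⟨WA, iR, iA, univ, hWfp, hbij⟩ :=
    exists_weilAlg_fp Γ(S, ⊤) Γ(ZO.left, ⊤) Γ(XO.left, ⊤)
  let α : Γ(S, ⊤) ⟶ CommRingCat.of WA := CommRingCat.ofHom (algebraMap Γ(S, ⊤) WA)
  have hα : LocallyOfFinitePresentation (Spec.map α) := by
    rw [HasRingHomProperty.Spec_iff (P := @LocallyOfFinitePresentation)]
    exact RingHom.finitePresentation_algebraMap.mpr hWfp
  refine ⟨Over.mk (Spec.map α ≫ S.isoSpec.inv),
    (inferInstance : IsAffine (Spec (CommRingCat.of WA))),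
    (inferInstance : LocallyOfFinitePresentation (Spec.map α ≫ S.isoSpec.inv)),
    representable_of_weilAlg ZO XO hZ hX WA univ hbij⟩

/-! ## The local representing objects -/

theorem exists_local_rep_fp {Z X S : Scheme.{u}} (g : Z ⟶ S) (f : X ⟶ S) [IsFinite g] [Flat g]
    [LocallyOfFinitePresentation g] [IsAffineHom f] [LocallyOfFinitePresentation f] (s : S) :
    ∃ (V : S.Opens) (_ : IsAffineOpen V) (_ : s ∈ V) (W₀ : Over (V : Scheme.{u}))
      (_ : IsAffine W₀.left) (_ : LocallyOfFinitePresentation W₀.hom),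
      Nonempty (((Over.map V.ι).op ⋙ FF (Over.mk g) (Over.mk f)).RepresentableBy W₀) := by
  obtain ⟨V, ⟨hVaff, hfree⟩, hsV, -⟩ := FlatNormH4.exists_isFreeOpen g ⊤ s trivial
  have hfin : (g.app V).hom.Finite := IsFinite.finite_app g V hVaff
  haveI : IsAffine (V : Scheme.{u}) := hVaff
  let gv : pullback g V.ι ⟶ (V : Scheme.{u}) := pullback.snd g V.ι
  let fv : pullback f V.ι ⟶ (V : Scheme.{u}) := pullback.snd f V.ι
  let j : pullback g V.ι ⟶ Z := pullback.fst g V.ι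
  have hjU : j ''ᵁ ⊤ = g ⁻¹ᵁ V := by
    rw [Scheme.Hom.image_top_eq_opensRange]
    apply TopologicalSpace.Opens.ext
    show Set.range j = g ⁻¹' (V : Set S)
    rw [Scheme.Pullback.range_fst, Scheme.Opens.range_ι]
  have hle₁ : (⊤ : (V : Scheme.{u}).Opens) ≤ V.ι ⁻¹ᵁ V := fun x _ => x.2
  have hle₂ : (⊤ : (pullback g V.ι).Opens) ≤ j ⁻¹ᵁ (g ⁻¹ᵁ V) := by
    intro z _
    show g (j z) ∈ V
    rw [← Scheme.Hom.comp_apply, pullback.condition, Scheme.Hom.comp_apply]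
    exact (gv z).2
  haveI i₁ : IsIso (V.ι.appLE V ⊤ hle₁) := isIso_appLE_top V.ι V V.ι_image_top hle₁
  haveI i₂ : IsIso (j.appLE (g ⁻¹ᵁ V) ⊤ hle₂) := isIso_appLE_top j _ hjU hle₂
  let e₁ : Γ(S, V) ≃+* Γ((V : Scheme.{u}), ⊤) :=
    (asIso (V.ι.appLE V ⊤ hle₁)).commRingCatIsoToRingEquiv
  let e₂ : Γ(Z, g ⁻¹ᵁ V) ≃+* Γ(pullback g V.ι, ⊤) :=
    (asIso (j.appLE (g ⁻¹ᵁ V) ⊤ hle₂)).commRingCatIsoToRingEquiv
  have htop : gv.appTop = gv.appLE ⊤ ⊤ le_top := by
    simp [Scheme.Hom.appLE]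
  have hc : g.app V ≫ j.appLE (g ⁻¹ᵁ V) ⊤ hle₂ = V.ι.appLE V ⊤ hle₁ ≫ gv.appTop := by
    rw [htop, Scheme.Hom.app_eq_appLE, Scheme.Hom.appLE_comp_appLE, Scheme.Hom.appLE_comp_appLE]
    exact appLE_congr pullback.condition _ _ _ _
  have hc' : ∀ r, e₂ ((g.app V).hom r) = gv.appTop.hom (e₁ r) := fun r =>
    congrArg (fun k => k.hom r) hc
  obtain ⟨tfree, tfin⟩ := transport_free_finite (g.app V).hom gv.appTop.hom e₁ e₂ hc'
  have hZ : IsAffine (Over.mk gv).left := (inferInstance : IsAffine (pullback g V.ι))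
  have hX : IsAffine (Over.mk fv).left := (inferInstance : IsAffine (pullback f V.ι))
  have hfvfp : LocallyOfFinitePresentation fv := inferInstance
  have hfp : fv.appTop.hom.FinitePresentation :=
    (HasRingHomProperty.iff_of_isAffine (P := @LocallyOfFinitePresentation)).mp hfvfp
  obtain ⟨W₀, hW₀, hW₀fp, ⟨e₀⟩⟩ :=
    main7193_fp (Over.mk gv) (Over.mk fv) hZ hX (tfin hfin) (tfree hfree) hfp
  exact ⟨V, hVaff, hsV, W₀, hW₀, hW₀fp, ⟨e₀.ofIso (αIso g f V.ι).symm⟩⟩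

/-! ## Restriction of a representable functor to an open of the base -/

/-- The restriction of a representable functor along `Over.map h` is represented by the base
change. -/
noncomputable def repPullback {S S' : Scheme.{u}} (h : S' ⟶ S) (F : (Over S)ᵒᵖ ⥤ Type u)
    (Wg : Over S) (e : F.RepresentableBy Wg) :
    ((Over.map h).op ⋙ F).RepresentableBy ((Over.pullback h).obj Wg) where
  homEquiv {T} := ((Over.mapPullbackAdj h).homEquiv T Wg).symm.trans e.homEquiv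
  homEquiv_comp {T T'} φ ψ := by
    show e.homEquiv (((Over.mapPullbackAdj h).homEquiv T Wg).symm (φ ≫ ψ)) =
      F.map ((Over.map h).map φ).op (e.homEquiv (((Over.mapPullbackAdj h).homEquiv T' Wg).symm ψ))
    rw [Adjunction.homEquiv_naturality_left_symm, e.homEquiv_comp]

/-! ## The main theorem -/

theorem main16770_rep {Z X S : Scheme.{u}} (g : Z ⟶ S) (f : X ⟶ S) (hg : Mor2.IsFinLocFree g)
    [IsAffineHom f] [LocallyOfFinitePresentation f] :
    ∃ W : Over S, IsAffineHom W.hom ∧ LocallyOfFinitePresentation W.hom ∧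
      Nonempty ((Flatn.morS g f).RepresentableBy W) := by
  obtain ⟨W, hWaff, ⟨e⟩⟩ := main7194 g f hg
  refine ⟨W, hWaff, ?_, ⟨e⟩⟩
  obtain ⟨hfin, hflat, hfp⟩ := hg
  haveI := hfin
  haveI := hflat
  haveI := hfp
  choose V hVaff hsV W₀ hW₀ hW₀fp hr using exists_local_rep_fp g f
  have hloc : ∀ s, LocallyOfFinitePresentation (pullback.snd W.hom (V s).ι) := by
    intro s
    let e' := repPullback (V s).ι (FF (Over.mk g) (Over.mk f)) W e
    let i : W₀ s ≅ (Over.pullback (V s).ι).obj W := (hr s).some.uniqueUpToIso e'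
    have hi : pullback.snd W.hom (V s).ι = i.inv.left ≫ (W₀ s).hom := (Over.w i.inv).symm
    rw [hi]
    haveI := hW₀fp s
    infer_instance
  have hV : TopologicalSpace.IsOpenCover V := TopologicalSpace.IsOpenCover.mk
    (top_le_iff.mp fun s _ => TopologicalSpace.Opens.mem_iSup.mpr ⟨s, hsV s⟩)
  exact IsZariskiLocalAtTarget.of_openCover (P := @LocallyOfFinitePresentation)
    (S.openCoverOfIsOpenCover V hV) (fun s => hloc s)

end Groth.Agent.Lib.WeilFPH7
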