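import Mathlib
import Groth.Prelude
import Groth.Agent.Lib.WeilFP_helper7

/-!
# The scheme of morphisms in the cartesian monoidal language of `Over S` (helper7)
-/

set_option autoImplicit false
set_option linter.style.haveILetI false
set_option linter.unusedVariables false
universe u
open CategoryTheory CategoryTheory.Limits AlgebraicGeometry Opposite MonoidalCategory
  CartesianMonoidalCategory

namespace Groth.Agent.Lib.WeilMonH7

open Groth.Agent.Lib.MorSOpenH4 Groth.Agent.Lib.WeilFPH7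

variable {S : Scheme.{u}} (X : Over S)

/-- The comparison between the monoidal product `X ⊗ T` and `T ×_S X`. -/
noncomputable def σ (T : Over S) : X ⊗ T ≅ PX X.hom T :=
  Over.isoMk (show (X ⊗ T).left ≅ (PX X.hom T).left from pullbackSymmetry X.hom T.hom) (by
    show (pullbackSymmetry X.hom T.hom).hom ≫ pullback.snd T.hom X.hom ≫ X.hom =
      pullback.fst X.hom T.hom ≫ X.hom
    rw [← Category.assoc, pullbackSymmetry_hom_comp_snd])

lemma σ_hom_left (T : Over S) : (σ X T).hom.left = (pullbackSymmetry X.hom T.hom).hom := rfl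

lemma σ_nat {T M : Over S} (v : T ⟶ M) :
    (X ◁ v) ≫ (σ X M).hom = (σ X T).hom ≫ PXmap X.hom v := by
  apply Over.OverMorphism.ext
  show (X ◁ v).left ≫ (pullbackSymmetry X.hom M.hom).hom =
    (pullbackSymmetry X.hom T.hom).hom ≫ (PXmap X.hom v).left
  apply pullback.hom_ext
  · rw [Category.assoc, Category.assoc, pullbackSymmetry_hom_comp_fst, PXmap_left_fst,
      ← Category.assoc, pullbackSymmetry_hom_comp_fst]
    exact Over.whiskerLeft_left_snd v
  · rw [Category.assoc, Category.assoc, pullbackSymmetry_hom_comp_snd, PXmap_left_snd,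
      pullbackSymmetry_hom_comp_snd]
    exact Over.whiskerLeft_left_fst v

/-- Translation of representability of `Flatn.morS` into the universal property of an internal
hom-like object. -/
theorem universal_of_representable (Y M : Over S)
    (e : (Flatn.morS X.hom Y.hom).RepresentableBy M) :
    ∃ ev : X ⊗ M ⟶ Y, ∀ (T : Over S) (φ : X ⊗ T ⟶ Y), ∃! v : T ⟶ M, (X ◁ v) ≫ ev = φ := by
  let ζ : PX X.hom M ⟶ Y := e.homEquiv (𝟙 M)
  have hζ : ∀ {T : Over S} (v : T ⟶ M),
      (e.homEquiv v : PX X.hom T ⟶ Y) = PXmap X.hom v ≫ ζ := fun v => e.homEquiv_eq v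
  refine ⟨(σ X M).hom ≫ ζ, fun T φ => ?_⟩
  have hkey : ∀ v : T ⟶ M, (X ◁ v) ≫ (σ X M).hom ≫ ζ =
      (σ X T).hom ≫ (e.homEquiv v : PX X.hom T ⟶ Y) := by
    intro v
    rw [hζ, ← Category.assoc, σ_nat, Category.assoc]
  refine ⟨e.homEquiv.symm ((σ X T).inv ≫ φ : PX X.hom T ⟶ Y), ?_, ?_⟩
  · show (X ◁ _) ≫ (σ X M).hom ≫ ζ = φ
    rw [hkey, Equiv.apply_symm_apply, Iso.hom_inv_id_assoc]
  · intro v hv
    have hv' : (X ◁ v) ≫ (σ X M).hom ≫ ζ = φ := hv
    rw [hkey] at hv'
    rw [← hv', Iso.inv_hom_id_assoc]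
    exact (e.homEquiv.symm_apply_apply v).symm

theorem main16770 (Y : Over S)
    (hXf : IsFinite X.hom) (hXfl : Flat X.hom) (hXfp : LocallyOfFinitePresentation X.hom)
    (hYa : IsAffineHom Y.hom) (hYfp : LocallyOfFinitePresentation Y.hom) :
    ∃ (M : Over S) (ev : X ⊗ M ⟶ Y), IsAffineHom M.hom ∧ LocallyOfFinitePresentation M.hom ∧
      ∀ (T : Over S) (φ : X ⊗ T ⟶ Y), ∃! v : T ⟶ M, (X ◁ v) ≫ ev = φ := by
  haveI := hYa
  haveI := hYfp
  obtain ⟨M, hMa, hMfp, ⟨e⟩⟩ := main16770_rep X.hom Y.hom ⟨hXf, hXfl, hXfp⟩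
  obtain ⟨ev, hev⟩ := universal_of_representable X Y M e
  exact ⟨M, ev, hMa, hMfp, hev⟩

end Groth.Agent.Lib.WeilMonH7
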