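import Mathlib
import Groth.Prelude
import Groth.Agent.Lib.MTWeil8_helper4
import Groth.Agent.Lib.WeilMon_helper7

/-!
# The scheme of group homomorphisms from a finite locally free group scheme (helper4)
-/

set_option backward.isDefEq.respectTransparency.types false
set_option autoImplicit false
set_option linter.unusedVariables false
set_option linter.unusedTactic false
set_option linter.unreachableTactic false
set_option linter.unusedSectionVars false
set_option linter.style.haveILetI false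
set_option linter.deprecated false
set_option linter.unusedSimpArgs false
set_option linter.style.longLine false
set_option maxHeartbeats 1600000

universe u

open CategoryTheory CategoryTheory.Limits MonoidalCategory CartesianMonoidalCategory MonObj GrpObj
  AlgebraicGeometry Opposite TensorProduct

namespace Groth.Agent.Lib.MTWeilH4

open Groth.Agent.Lib.RedDictH8 Groth.Agent.Lib.DSDict Groth.Agent.Lib.MultGa
  Groth.Agent.Lib.MultTrivH4 Groth.Agent.Lib.ConnActH4 Groth.Agent.Lib.TwConstFinH4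
  Groth.Agent.Lib.MTHomH4 Groth.Agent.Lib.TorusQuotH4 Groth.Agent.Lib.KerTrivH4

section HomGp

variable {S : Scheme.{u}}

theorem mono_of_left_mono {A B : Over S} (c : A ⟶ B) [Mono c.left] : Mono c := by
  constructor
  intro Z g h hgh
  apply Over.OverMorphism.ext
  have h1 : g.left ≫ c.left = h.left ≫ c.left := by
    rw [← Over.comp_left, hgh, Over.comp_left]
  exact (cancel_mono c.left).mp h1

theorem main16790 (G G' : Over S) [GrpObj G] [GrpObj G']
    (hGf : IsFinite G.hom) (hGfl : Flat G.hom) (hGfp : LocallyOfFinitePresentation G.hom)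
    (hG'a : IsAffineHom G'.hom) (hG'fp : LocallyOfFinitePresentation G'.hom) :
    ∃ (M : Over S) (ev : G ⊗ M ⟶ G'), IsAffineHom M.hom ∧ LocallyOfFinitePresentation M.hom ∧
      (∀ (X : Over S) (a b : X ⟶ G) (m : X ⟶ M),
        lift (a * b) m ≫ ev = (lift a m ≫ ev) * (lift b m ≫ ev)) ∧
      ∀ (T : Over S) (φ : G ⊗ T ⟶ G'),
        (∀ (X : Over S) (a b : X ⟶ G) (t : X ⟶ T),
          lift (a * b) t ≫ φ = (lift a t ≫ φ) * (lift b t ≫ φ)) →
        ∃! v : T ⟶ M, (G ◁ v) ≫ ev = φ := by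
  haveI := hGf
  haveI := hGfl
  haveI := hGfp
  haveI := hG'a
  haveI := hG'fp
  obtain ⟨M₀, ev₀, hM₀a, hM₀fp, hM₀⟩ :=
    Groth.Agent.Lib.WeilMonH7.main16770 G G' hGf hGfl hGfp hG'a hG'fp
  haveI := hM₀a
  haveI := hM₀fp
  haveI hGGf : IsFinite (G ⊗ G).hom := by
    haveI : IsFinite (pullback.fst G.hom G.hom) :=
      MorphismProperty.pullback_fst (P := @IsFinite) _ _ hGf
    show IsFinite (pullback.fst G.hom G.hom ≫ G.hom)
    infer_instance
  haveI hGGfl : Flat (G ⊗ G).hom := by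
    haveI : Flat (pullback.fst G.hom G.hom) :=
      MorphismProperty.pullback_fst (P := @Flat) _ _ hGfl
    show Flat (pullback.fst G.hom G.hom ≫ G.hom)
    infer_instance
  haveI hGGfp : LocallyOfFinitePresentation (G ⊗ G).hom := by
    haveI : LocallyOfFinitePresentation (pullback.fst G.hom G.hom) :=
      MorphismProperty.pullback_fst (P := @LocallyOfFinitePresentation) _ _ hGfp
    show LocallyOfFinitePresentation (pullback.fst G.hom G.hom ≫ G.hom)
    infer_instance
  haveI : IsSeparated G'.hom := inferInstance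
  haveI : LocallyOfFiniteType G'.hom := inferInstance
  obtain ⟨m₁, hm₁⟩ : ∃ m₁ : (G ⊗ G) ⊗ M₀ ⟶ G', m₁ =
      lift ((fst (G ⊗ G) M₀ ≫ fst G G) * (fst (G ⊗ G) M₀ ≫ snd G G)) (snd (G ⊗ G) M₀) ≫ ev₀ :=
    ⟨_, rfl⟩
  obtain ⟨m₂, hm₂⟩ : ∃ m₂ : (G ⊗ G) ⊗ M₀ ⟶ G', m₂ =
      (lift (fst (G ⊗ G) M₀ ≫ fst G G) (snd (G ⊗ G) M₀) ≫ ev₀) *
        (lift (fst (G ⊗ G) M₀ ≫ snd G G) (snd (G ⊗ G) M₀) ≫ ev₀) := ⟨_, rfl⟩
  have e1 : ∀ {X : Over S} (a b : X ⟶ G) (n : X ⟶ M₀),
      lift (lift a b) n ≫ m₁ = lift (a * b) n ≫ ev₀ := by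
    intro X a b n
    have e : lift (lift a b) n ≫
        lift ((fst (G ⊗ G) M₀ ≫ fst G G) * (fst (G ⊗ G) M₀ ≫ snd G G)) (snd (G ⊗ G) M₀) =
        lift (a * b) n := by
      apply CartesianMonoidalCategory.hom_ext
      · simp only [Category.assoc, lift_fst, lift_snd, MonObj.comp_mul, lift_fst_assoc,
          lift_snd_assoc]
      · simp only [Category.assoc, lift_fst, lift_snd, MonObj.comp_mul, lift_fst_assoc,
          lift_snd_assoc]
    rw [hm₁, ← Category.assoc, e]
  have e2 : ∀ {X : Over S} (a b : X ⟶ G) (n : X ⟶ M₀),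
      lift (lift a b) n ≫ m₂ = (lift a n ≫ ev₀) * (lift b n ≫ ev₀) := by
    intro X a b n
    have ea : lift (lift a b) n ≫ lift (fst (G ⊗ G) M₀ ≫ fst G G) (snd (G ⊗ G) M₀) =
        lift a n := by
      apply CartesianMonoidalCategory.hom_ext
      · simp only [Category.assoc, lift_fst, lift_snd, lift_fst_assoc, lift_snd_assoc]
      · simp only [Category.assoc, lift_fst, lift_snd, lift_fst_assoc, lift_snd_assoc]
    have eb : lift (lift a b) n ≫ lift (fst (G ⊗ G) M₀ ≫ snd G G) (snd (G ⊗ G) M₀) =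
        lift b n := by
      apply CartesianMonoidalCategory.hom_ext
      · simp only [Category.assoc, lift_fst, lift_snd, lift_fst_assoc, lift_snd_assoc]
      · simp only [Category.assoc, lift_fst, lift_snd, lift_fst_assoc, lift_snd_assoc]
    rw [hm₂, MonObj.comp_mul]
    congr 1
    · rw [← Category.assoc, ea]
    · rw [← Category.assoc, eb]
  haveI hc : IsClosedImmersion (eqk m₁ m₂).left := closedImm_eqk m₁ m₂
  haveI hf : LocallyOfFinitePresentation (eqk m₁ m₂).left := lfp_eqk m₁ m₂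
  haveI : Mono (eqk m₁ m₂).left := inferInstance
  obtain ⟨C, cι, hcc, hcfp, huniv⟩ := weil_closed_ff (eqk m₁ m₂)
  haveI := hcc
  haveI := hcfp
  obtain ⟨c, hc'⟩ : ∃ c : Over.mk (cι ≫ M₀.hom) ⟶ M₀, c = Over.homMk cι rfl := ⟨_, rfl⟩
  haveI hcm : Mono c := by
    rw [hc']
    haveI : Mono (Over.homMk cι rfl : Over.mk (cι ≫ M₀.hom) ⟶ M₀).left := by
      show Mono cι
      infer_instance
    exact mono_of_left_mono _
  have hfac : ∀ {T : Over S} (g : T ⟶ M₀),
      (∃ z : T ⟶ Over.mk (cι ≫ M₀.hom), z ≫ c = g) ↔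
        ∀ (X' : Over S) (x : X' ⟶ T) (a b : X' ⟶ G),
          lift (a * b) (x ≫ g) ≫ ev₀ = (lift a (x ≫ g) ≫ ev₀) * (lift b (x ≫ g) ≫ ev₀) := by
    intro T g
    rw [hc']
    refine (over_factor_iff cι g).trans ((huniv g.left).trans
      ((iso_iff_lift (eqk m₁ m₂) g.left).trans
        ((lift_iff_pts (eqk m₁ m₂) g).trans ?_)))
    constructor
    · intro h X' x a b
      have h3 := (eqk_pts m₁ m₂ (lift (lift a b) (x ≫ g))).mp (h X' x (lift a b))
      rw [e1, e2] at h3
      exact h3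
    · intro h X' x ab
      apply (eqk_pts m₁ m₂ (lift ab (x ≫ g))).mpr
      have hab : lift (lift (ab ≫ fst G G) (ab ≫ snd G G)) (x ≫ g) = lift ab (x ≫ g) := by
        rw [lift_comp_fst_snd]
      rw [← hab, e1, e2]
      exact h X' x _ _
  refine ⟨Over.mk (cι ≫ M₀.hom), (G ◁ c) ≫ ev₀, ?_, ?_, ?_, ?_⟩
  · show IsAffineHom (cι ≫ M₀.hom)
    infer_instance
  · show LocallyOfFinitePresentation (cι ≫ M₀.hom)
    infer_instance
  · intro X a b m
    have h := (hfac c).mp ⟨𝟙 _, Category.id_comp c⟩ X m a b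
    have hw : ∀ (p : X ⟶ G), lift p m ≫ (G ◁ c) ≫ ev₀ = lift p (m ≫ c) ≫ ev₀ := by
      intro p
      rw [← Category.assoc, lift_whiskerLeft]
    rw [hw, hw, hw]
    exact h
  · intro T φ hφ
    obtain ⟨v₀, hv₀, hv₀u⟩ := hM₀ T φ
    have hv₀' : (G ◁ v₀) ≫ ev₀ = φ := hv₀
    have hz : ∃ z : T ⟶ Over.mk (cι ≫ M₀.hom), z ≫ c = v₀ := by
      apply (hfac v₀).mpr
      intro X' x a b
      have hw : ∀ (p : X' ⟶ G), lift p (x ≫ v₀) ≫ ev₀ = lift p x ≫ φ := by
        intro p
        rw [← hv₀', ← Category.assoc, lift_whiskerLeft]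
      rw [hw, hw, hw]
      exact hφ X' a b x
    obtain ⟨z, hz⟩ := hz
    refine ⟨z, ?_, ?_⟩
    · show (G ◁ z) ≫ (G ◁ c) ≫ ev₀ = φ
      rw [← Category.assoc, ← MonoidalCategory.whiskerLeft_comp, hz]
      exact hv₀'
    · intro z' hz'
      have hz'' : (G ◁ z') ≫ (G ◁ c) ≫ ev₀ = φ := hz'
      rw [← Category.assoc, ← MonoidalCategory.whiskerLeft_comp] at hz''
      have h5 := hv₀u (z' ≫ c) hz''
      apply (cancel_mono c).mp
      rw [h5, hz]

end HomGp

end Groth.Agent.Lib.MTWeilH4
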