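import Mathlib
import Groth.Prelude
import Groth.Agent.Lib.MTWeil9_helper4

/-!
# Fixed points of an affine flat group scheme with fpqc-locally projective coordinate ring (helper4)
-/

set_option backward.isDefEq.respectTransparency.types false
set_option autoImplicit false
set_option linter.unusedVariables false
set_option linter.unusedTactic false
set_option linter.unreachableTactic false
set_option linter.unusedSectionVars false
set_option linter.style.haveILetI false
set_option linter.deprecated false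
set_option linter.unusedSimpArgs false
set_option linter.style.longLine false
set_option maxHeartbeats 1600000

universe u

open CategoryTheory CategoryTheory.Limits MonoidalCategory CartesianMonoidalCategory MonObj GrpObj
  AlgebraicGeometry Opposite TensorProduct

namespace Groth.Agent.Lib.MTWeilH4

open Groth.Agent.Lib.RedDictH8 Groth.Agent.Lib.DSDict Groth.Agent.Lib.MultGa
  Groth.Agent.Lib.MultTrivH4 Groth.Agent.Lib.ConnActH4 Groth.Agent.Lib.TwConstFinH4
  Groth.Agent.Lib.MTHomH4 Groth.Agent.Lib.TorusQuotH4 Groth.Agent.Lib.KerTrivH4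

/-! ### The coefficient ideal, projective version -/

theorem coeff_ideal_proj (R : Type u) [CommRing R] (B : Type u) [CommRing B] [Algebra R B]
    [Module.Projective R B] (J : Ideal B) :
    ∃ I : Ideal R, ∀ (C : Type u) [CommRing C] [Algebra R C],
      (J ≤ RingHom.ker (Algebra.TensorProduct.includeLeftRingHom : B →+* B ⊗[R] C)) ↔
        I ≤ RingHom.ker (algebraMap R C) := by
  classical
  obtain ⟨s, hs⟩ := (inferInstance : Module.Projective R B).out
  refine ⟨Ideal.span {r : R | ∃ j ∈ J, ∃ i : B, s j i = r}, ?_⟩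
  intro C _ _
  constructor
  · intro hle
    rw [Ideal.span_le]
    rintro r ⟨j, hjJ, i, rfl⟩
    have h0 : (j ⊗ₜ[R] (1 : C) : B ⊗[R] C) = 0 := by
      have h00 := RingHom.mem_ker.mp (hle hjJ)
      rwa [Algebra.TensorProduct.includeLeftRingHom_apply] at h00
    have h1 := congrArg
      (fun t => TensorProduct.lid R C (LinearMap.rTensor C ((Finsupp.lapply i).comp s) t)) h0
    simp only [LinearMap.rTensor_tmul, TensorProduct.lid_tmul, map_zero,
      LinearMap.comp_apply, Finsupp.lapply_apply] at h1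
    rw [SetLike.mem_coe, RingHom.mem_ker, Algebra.algebraMap_eq_smul_one]
    exact h1
  · intro hI x hx
    rw [RingHom.mem_ker, Algebra.TensorProduct.includeLeftRingHom_apply]
    have hx' : (s x).sum (fun i c => c • i) = x := by
      have h2 := hs x
      rw [Finsupp.linearCombination_apply] at h2
      simpa only [id_eq] using h2
    calc (x ⊗ₜ[R] (1 : C) : B ⊗[R] C)
        = ((s x).sum (fun i c => c • i)) ⊗ₜ[R] (1 : C) := by rw [hx']
      _ = 0 := by
        rw [Finsupp.sum, TensorProduct.sum_tmul]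
        apply Finset.sum_eq_zero
        intro i hi
        have hz : algebraMap R C (s x i) = 0 :=
          RingHom.mem_ker.mp (hI (Ideal.subset_span ⟨x, hx, i, rfl⟩))
        rw [TensorProduct.smul_tmul, ← Algebra.algebraMap_eq_smul_one, hz,
          TensorProduct.tmul_zero]

/-! ### The local ideal and the chart, projective version -/

theorem local_ideal_proj {S : Scheme.{u}} {H Y K₀ : Over S} (k₀ : K₀ ⟶ H ⊗ Y)
    [IsClosedImmersion k₀.left]
    (R : Type u) [CommRing R] (c : Spec (CommRingCat.of R) ⟶ Y.left)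
    (B : Type u) [CommRing B] [Algebra R B] [Module.Projective R B]
    (θ : pullback (HB H Y).hom c ≅ Spec (CommRingCat.of B))
    (hθ : θ.hom ≫ Spec.map (CommRingCat.ofHom (algebraMap R B)) =
      pullback.snd (HB H Y).hom c) :
    ∃ I : Ideal R, ∀ (C : Type u) [CommRing C] [Algebra R C],
      IsIso (bcL (kB k₀) (Spec.map (CommRingCat.ofHom (algebraMap R C)) ≫ c)) ↔
        I ≤ RingHom.ker (algebraMap R C) := by
  haveI : IsClosedImmersion (kB k₀).left := (inferInstance : IsClosedImmersion k₀.left)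
  obtain ⟨J, hdict⟩ := dict_gen (kB k₀) R B c θ hθ
  obtain ⟨I, hI⟩ := coeff_ideal_proj R B J
  exact ⟨I, fun C _ _ => (hdict C).trans (hI C)⟩

theorem chart_closed_proj {S : Scheme.{u}} {H Y K₀ : Over S} (k₀ : K₀ ⟶ H ⊗ Y)
    [IsClosedImmersion k₀.left]
    (Q : Scheme.{u}) [IsAffine Q] (q : Q ⟶ Y.left)
    (B : Type u) [CommRing B] [Algebra Γ(Q, ⊤) B] [Module.Projective Γ(Q, ⊤) B]
    (θ : pullback (HB H Y).hom (Q.isoSpec.inv ≫ q) ≅ Spec (CommRingCat.of B))
    (hθ : θ.hom ≫ Spec.map (CommRingCat.ofHom (algebraMap Γ(Q, ⊤) B)) =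
      pullback.snd (HB H Y).hom (Q.isoSpec.inv ≫ q)) :
    ∃ (Z : Scheme.{u}) (z : Z ⟶ Q), IsClosedImmersion z ∧
      ∀ {T : Scheme.{u}} (r : T ⟶ Q), IsIso (bcL (kB k₀) (r ≫ q)) ↔ ∃ l : T ⟶ Z, l ≫ z = r := by
  obtain ⟨I, hI⟩ := local_ideal_proj k₀ Γ(Q, ⊤) (Q.isoSpec.inv ≫ q) B θ hθ
  have huniv := fun {T : Scheme.{u}} (r : T ⟶ Spec (CommRingCat.of Γ(Q, ⊤))) =>
    chart_univ (kB k₀) Γ(Q, ⊤) (Q.isoSpec.inv ≫ q) I hI r
  haveI hzc : IsClosedImmersion (Spec.map (CommRingCat.ofHom (Ideal.Quotient.mk I))) :=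
    IsClosedImmersion.spec_of_quotient_mk (R := CommRingCat.of Γ(Q, ⊤)) I
  refine ⟨Spec (CommRingCat.of (Γ(Q, ⊤) ⧸ I)),
    Spec.map (CommRingCat.ofHom (Ideal.Quotient.mk I)) ≫ Q.isoSpec.inv, inferInstance, ?_⟩
  intro T r
  have h1 := huniv (r ≫ Q.isoSpec.hom)
  have e1 : (r ≫ Q.isoSpec.hom) ≫ Q.isoSpec.inv ≫ q = r ≫ q := by
    rw [Category.assoc, Iso.hom_inv_id_assoc]
  constructor
  · intro h
    obtain ⟨l, hl⟩ := h1.mp (bcL_congr (kB k₀) e1.symm h)
    refine ⟨l, ?_⟩
    rw [← Category.assoc, hl, Category.assoc, Iso.hom_inv_id, Category.comp_id]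
  · rintro ⟨l, hl⟩
    refine bcL_congr (kB k₀) e1 (h1.mpr ⟨l, ?_⟩)
    rw [← hl, Category.assoc, Category.assoc, Iso.inv_hom_id, Category.comp_id]

/-! ### Coordinates -/

theorem coord_iso (Z R A : Type u) [CommRing Z] [CommRing R] [CommRing A] [Algebra Z R]
    [Algebra Z A] (τ : Spec (CommRingCat.of R) ⟶ Spec (CommRingCat.of Z))
    (hτ : τ = Spec.map (CommRingCat.ofHom (algebraMap Z R))) :
    ∃ θ : pullback (Spec.map (CommRingCat.ofHom (algebraMap Z A))) τ ≅
        Spec (CommRingCat.of (R ⊗[Z] A)),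
      θ.hom ≫ Spec.map (CommRingCat.ofHom (algebraMap R (R ⊗[Z] A))) =
        pullback.snd (Spec.map (CommRingCat.ofHom (algebraMap Z A))) τ := by
  subst hτ
  refine ⟨pullbackSymmetry _ _ ≪≫ pullbackSpecIso Z R A, ?_⟩
  rw [Iso.trans_hom, Category.assoc, pullbackSpecIso_hom_fst', pullbackSymmetry_hom_comp_fst]

theorem proj_baseChange (k k' A R : Type u) [CommRing k] [CommRing k'] [CommRing A] [CommRing R]
    [Algebra k k'] [Algebra k A] [Algebra k' R] [Algebra k R] [IsScalarTower k k' R]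
    [Module.Projective k' (k' ⊗[k] A)] : Module.Projective R (R ⊗[k] A) := by
  haveI : Module.Projective R (R ⊗[k'] (k' ⊗[k] A)) := inferInstance
  exact Module.Projective.of_equiv'
    (TensorProduct.AlgebraTensorModule.cancelBaseChange k k' R R A)

theorem coord_proj (k : Type u) [CommRing k] {H Y : Over (Spec (CommRingCat.of k))}
    (A : Type u) [CommRing A] [Algebra k A] (eA : H.left ≅ Spec (CommRingCat.of A))
    (heA : eA.hom ≫ Spec.map (CommRingCat.ofHom (algebraMap k A)) = H.hom)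
    (k' : Type u) [CommRing k'] [Algebra k k'] [Module.Projective k' (k' ⊗[k] A)]
    (R : Type u) [CommRing R] (c : Spec (CommRingCat.of R) ⟶ Y.left)
    (ρ' : Spec (CommRingCat.of R) ⟶ Spec (CommRingCat.of k'))
    (hρ' : ρ' ≫ Spec.map (CommRingCat.ofHom (algebraMap k k')) = c ≫ Y.hom) :
    ∃ (B : Type u) (_ : CommRing B) (_ : Algebra R B) (_ : Module.Projective R B)
      (θ : pullback (HB H Y).hom c ≅ Spec (CommRingCat.of B)),
      θ.hom ≫ Spec.map (CommRingCat.ofHom (algebraMap R B)) = pullback.snd (HB H Y).hom c := by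
  letI a1 : Algebra k' R := (Spec.preimage ρ').hom.toAlgebra
  letI a2 : Algebra k R := ((algebraMap k' R).comp (algebraMap k k')).toAlgebra
  haveI : IsScalarTower k k' R := IsScalarTower.of_algebraMap_eq (fun x => rfl)
  have hρ'' : ρ' = Spec.map (CommRingCat.ofHom (algebraMap k' R)) :=
    (Spec.map_preimage ρ').symm
  have hc' : c ≫ Y.hom = Spec.map (CommRingCat.ofHom (algebraMap k R)) := by
    have e1 : Spec.map (CommRingCat.ofHom (algebraMap k' R)) ≫
        Spec.map (CommRingCat.ofHom (algebraMap k k')) =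
        Spec.map (CommRingCat.ofHom (algebraMap k R)) := by
      rw [← Spec.map_comp]
      rfl
    exact hρ'.symm.trans ((congrArg
      (fun m => m ≫ Spec.map (CommRingCat.ofHom (algebraMap k k'))) hρ'').trans e1)
  obtain ⟨θ', hθ'⟩ := coord_iso k R A (c ≫ Y.hom) hc'
  have sqE : IsPullback (pullback.fst H.hom (c ≫ Y.hom) ≫ eA.hom)
      (pullback.snd H.hom (c ≫ Y.hom))
      (Spec.map (CommRingCat.ofHom (algebraMap k A))) (c ≫ Y.hom) :=
    (IsPullback.of_hasPullback H.hom (c ≫ Y.hom)).of_iso (Iso.refl _) eA (Iso.refl _) (Iso.refl _)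
      (by simp only [Iso.refl_hom, Category.id_comp])
      (by simp only [Iso.refl_hom, Category.id_comp, Category.comp_id])
      (by simp only [Iso.refl_hom, Category.comp_id]; exact heA.symm)
      (by simp only [Iso.refl_hom, Category.id_comp, Category.comp_id])
  refine ⟨R ⊗[k] A, inferInstance, inferInstance, proj_baseChange k k' A R,
    pullbackLeftPullbackSndIso H.hom Y.hom c ≪≫ sqE.isoPullback ≪≫ θ', ?_⟩
  rw [Iso.trans_hom, Iso.trans_hom, Category.assoc, Category.assoc, hθ',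
    IsPullback.isoPullback_hom_snd]
  exact pullbackLeftPullbackSndIso_hom_snd H.hom Y.hom c

theorem chart_data_proj (k : Type u) [CommRing k] {H Y K₀ : Over (Spec (CommRingCat.of k))}
    (k₀ : K₀ ⟶ H ⊗ Y) [IsClosedImmersion k₀.left]
    (A : Type u) [CommRing A] [Algebra k A] (eA : H.left ≅ Spec (CommRingCat.of A))
    (heA : eA.hom ≫ Spec.map (CommRingCat.ofHom (algebraMap k A)) = H.hom)
    (k' : Type u) [CommRing k'] [Algebra k k'] [Module.Projective k' (k' ⊗[k] A)]
    (Q : Scheme.{u}) [IsAffine Q] (q : Q ⟶ Y.left) (σq : Q ⟶ Spec (CommRingCat.of k'))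
    (hσq : σq ≫ Spec.map (CommRingCat.ofHom (algebraMap k k')) = q ≫ Y.hom) :
    ∃ (Z : Scheme.{u}) (z : Z ⟶ Q), IsClosedImmersion z ∧
      ∀ {T : Scheme.{u}} (r : T ⟶ Q), IsIso (bcL (kB k₀) (r ≫ q)) ↔ ∃ l : T ⟶ Z, l ≫ z = r := by
  have h1 : (Q.isoSpec.inv ≫ σq) ≫ Spec.map (CommRingCat.ofHom (algebraMap k k')) =
      (Q.isoSpec.inv ≫ q) ≫ Y.hom := by
    rw [Category.assoc, hσq, Category.assoc]
  obtain ⟨B, iB, iA, iF, θ₀, hθ₀⟩ := coord_proj k A eA heA k' Γ(Q, ⊤) (Q.isoSpec.inv ≫ q)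
    (Q.isoSpec.inv ≫ σq) h1
  letI iA' : Algebra Γ(Q, ⊤) B := iA
  haveI iF' : Module.Projective Γ(Q, ⊤) B := iF
  exact chart_closed_proj k₀ Q q B θ₀ hθ₀

/-! ### The Weil restriction is closed -/

theorem weil_closed_proj (k : Type u) [CommRing k] {H Y K₀ : Over (Spec (CommRingCat.of k))}
    (k₀ : K₀ ⟶ H ⊗ Y) [IsClosedImmersion k₀.left]
    (A : Type u) [CommRing A] [Algebra k A] (eA : H.left ≅ Spec (CommRingCat.of A))
    (heA : eA.hom ≫ Spec.map (CommRingCat.ofHom (algebraMap k A)) = H.hom)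
    (k' : Type u) [CommRing k'] [Algebra k k'] [Module.FaithfullyFlat k k']
    [Module.Projective k' (k' ⊗[k] A)] :
    ∃ (C : Scheme.{u}) (cι : C ⟶ Y.left), IsClosedImmersion cι ∧
      ∀ {T : Scheme.{u}} (t : T ⟶ Y.left), (∃ l : T ⟶ C, l ≫ cι = t) ↔
        IsIso (bcL (kB k₀) t) := by
  obtain ⟨f, hf⟩ : ∃ f : Spec (CommRingCat.of k') ⟶ Spec (CommRingCat.of k),
      f = Spec.map (CommRingCat.ofHom (algebraMap k k')) := ⟨_, rfl⟩
  have hff : (CommRingCat.ofHom (algebraMap k k')).hom.FaithfullyFlat := by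
    show (algebraMap k k').FaithfullyFlat
    exact RingHom.faithfullyFlat_algebraMap_iff.mpr inferInstance
  have hfs := (flat_and_surjective_SpecMap_iff (CommRingCat.ofHom (algebraMap k k'))).mpr hff
  have hflat : Flat f := by
    rw [hf]
    exact hfs.1
  have hsurj : Surjective f := by
    rw [hf]
    exact hfs.2
  haveI := hflat
  haveI := hsurj
  have hqc : ∀ V : (Spec (CommRingCat.of k)).Opens, IsAffineOpen V →
      ∃ W : (Spec (CommRingCat.of k')).Opens, IsCompact (W : Set (Spec (CommRingCat.of k'))) ∧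
        f.base '' (W : Set (Spec (CommRingCat.of k'))) = (V : Set (Spec (CommRingCat.of k))) := by
    intro V hV
    refine ⟨f ⁻¹ᵁ V, (hV.preimage f).isCompact, ?_⟩
    ext x
    constructor
    · rintro ⟨w, hw, rfl⟩
      exact hw
    · intro hx
      obtain ⟨w, rfl⟩ := f.surjective x
      exact ⟨w, hx, rfl⟩
  have hchart : ∀ i : ChartIdx (pullback.snd Y.hom f)
      (fun _ => (⊤ : (Spec (CommRingCat.of k')).Opens)),
      ∃ (Z : Scheme.{u}) (z : Z ⟶ (i.2.1.2 : Scheme.{u})), IsClosedImmersion z ∧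
        ∀ {T : Scheme.{u}} (r : T ⟶ (i.2.1.2 : Scheme.{u})),
          IsIso (bcL (kB k₀) (r ≫ i.2.1.2.ι ≫ pullback.fst Y.hom f)) ↔
            ∃ l : T ⟶ Z, l ≫ z = r := by
    intro i
    haveI : IsAffine (i.2.1.2 : Scheme.{u}) := i.2.2.1
    refine chart_data_proj k k₀ A eA heA k' (i.2.1.2 : Scheme.{u})
      (i.2.1.2.ι ≫ pullback.fst Y.hom f) (i.2.1.2.ι ≫ pullback.snd Y.hom f) ?_
    rw [Category.assoc, Category.assoc, ← hf, pullback.condition]
  exact glue_closed (kB k₀) f hflat hsurj hqc Y.hom (pullback.fst Y.hom f)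
    (pullback.snd Y.hom f) (IsPullback.of_hasPullback Y.hom f) (fun _ => ⊤) (fun _ => trivial)
    hchart

/-! ### The fixed points -/

theorem main8199 (k : Type u) [CommRing k]
    (H Y : Over (Spec (CommRingCat.of k))) [GrpObj H] [Flat H.hom] [IsSeparated Y.hom]
    (A : Type u) [CommRing A] [Algebra k A] (eA : H.left ≅ Spec (CommRingCat.of A))
    (heA : eA.hom ≫ Spec.map (CommRingCat.ofHom (algebraMap k A)) = H.hom)
    (a : AlgGrp.Action H Y)
    (hproj : ∃ (k' : Type u) (_ : CommRing k') (_ : Algebra k k'), Module.FaithfullyFlat k k' ∧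
      Module.Projective k' (k' ⊗[k] A)) :
    ∃ (Z : Over (Spec (CommRingCat.of k))) (z : Z ⟶ Y), IsClosedImmersion z.left ∧
      ∀ (X : Over (Spec (CommRingCat.of k))) (y : X ⟶ Y), (∃ w : X ⟶ Z, w ≫ z = y) ↔
        ∀ (X' : Over (Spec (CommRingCat.of k))) (x : X' ⟶ X) (h : X' ⟶ H),
          lift h (x ≫ y) ≫ a.act = x ≫ y := by
  obtain ⟨k', iR, iAlg, hff, hpr⟩ := hproj
  haveI := hff
  haveI := hpr
  haveI hc : IsClosedImmersion (fixk a.act).left := closedImm_fixk a.act
  obtain ⟨C, cι, hcc, huniv⟩ := weil_closed_proj k (fixk a.act) A eA heA k'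
  refine ⟨Over.mk (cι ≫ Y.hom), Over.homMk cι rfl, hcc, ?_⟩
  intro X y
  exact (over_factor_iff cι y).trans ((huniv y.left).trans (fixed_iff_iso a.act y))

end Groth.Agent.Lib.MTWeilH4
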