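import Mathlib
import Groth.Prelude
import Groth.Agent.Lib.MTWeil10_helper4

/-!
# Gluing closed subschemes along fpqc covering families (helper4)

Family versions of the descent engine of `MTWeil2_helper4` / `MTWeil4_helper4` / `MTWeil7_helper4`,
a lemma for gluing factorizations through a monomorphism, and the coefficient ideal of a finitely
generated ideal of a projective algebra.
-/

set_option backward.isDefEq.respectTransparency.types false
set_option autoImplicit false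
set_option linter.unusedVariables false
set_option linter.unusedTactic false
set_option linter.unreachableTactic false
set_option linter.unusedSectionVars false
set_option linter.style.haveILetI false
set_option linter.deprecated false
set_option linter.unusedSimpArgs false
set_option linter.style.longLine false
set_option maxHeartbeats 1600000

universe u

open CategoryTheory CategoryTheory.Limits MonoidalCategory CartesianMonoidalCategory MonObj GrpObj
  AlgebraicGeometry Opposite TensorProduct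

namespace Groth.Agent.Lib.MTWeilH4

open Groth.Agent.Lib.RedDictH8 Groth.Agent.Lib.DSDict Groth.Agent.Lib.MultGa
  Groth.Agent.Lib.MultTrivH4 Groth.Agent.Lib.ConnActH4 Groth.Agent.Lib.TwConstFinH4
  Groth.Agent.Lib.MTHomH4 Groth.Agent.Lib.TorusQuotH4 Groth.Agent.Lib.KerTrivH4

/-! ### The descent engine, for families -/

section EngineFam

theorem desc_imp_fam {S₀ : Scheme.{u}} {G₁ H₁ G₂ H₂ : Over S₀} (u₁ : G₁ ⟶ H₁) (u₂ : G₂ ⟶ H₂)
    (P₁ P₂ : MorphismProperty Scheme.{u})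
    [P₁.IsStableUnderBaseChange] [IsZariskiLocalAtTarget P₂]
    [P₂.DescendsAlong (@Surjective ⊓ @Flat ⊓ @QuasiCompact : MorphismProperty Scheme.{u})]
    {ix : Type u} (X : ix → Scheme.{u}) (F : ∀ i, X i ⟶ S₀)
    (hcov : ∀ b : S₀, ∃ V : S₀.Opens, b ∈ V ∧ ∃ (i : ix) (P' : Scheme.{u})
      (p : P' ⟶ (V : Scheme.{u})) (m : P' ⟶ X i),
      Flat p ∧ Surjective p ∧ QuasiCompact p ∧ m ≫ F i = p ≫ V.ι)
    (hchart : ∀ (i : ix) {T : Scheme.{u}} (r : T ⟶ X i),
      P₁ (bcL u₁ (r ≫ F i)) → P₂ (bcL u₂ (r ≫ F i)))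
    {T : Scheme.{u}} (t : T ⟶ S₀) (h : P₁ (bcL u₁ t)) : P₂ (bcL u₂ t) := by
  choose V hbV i P' p m hpf hps hpq hpm using hcov
  refine P_local (P := P₂) u₂ t (fun y : T => t ⁻¹ᵁ V (t.base y)) ?_ (fun y => ?_)
  · exact eq_top_iff.mpr (fun y _ =>
      TopologicalSpace.Opens.mem_iSup.mpr ⟨y, hbV (t.base y)⟩)
  · obtain ⟨b, hb⟩ : ∃ b : S₀, b = t.base y := ⟨_, rfl⟩
    rw [← hb]
    haveI := hpf b
    haveI := hps b
    haveI := hpq b
    haveI : Flat (pullback.fst (t ∣_ V b) (p b)) :=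
      MorphismProperty.pullback_fst (P := @Flat) _ _ inferInstance
    haveI : Surjective (pullback.fst (t ∣_ V b) (p b)) :=
      MorphismProperty.pullback_fst (P := @Surjective) _ _ inferInstance
    haveI : QuasiCompact (pullback.fst (t ∣_ V b) (p b)) :=
      MorphismProperty.pullback_fst (P := @QuasiCompact) _ _ inferInstance
    apply P_desc u₂ ((t ⁻¹ᵁ V b).ι ≫ t) (pullback.fst (t ∣_ V b) (p b))
    have hkey : (pullback.snd (t ∣_ V b) (p b) ≫ m b) ≫ F (i b) =
        pullback.fst (t ∣_ V b) (p b) ≫ (t ⁻¹ᵁ V b).ι ≫ t := by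
      calc (pullback.snd (t ∣_ V b) (p b) ≫ m b) ≫ F (i b)
          = pullback.snd (t ∣_ V b) (p b) ≫ (p b ≫ (V b).ι) := by rw [Category.assoc, hpm b]
        _ = (pullback.fst (t ∣_ V b) (p b) ≫ (t ∣_ V b)) ≫ (V b).ι := by
            rw [← Category.assoc, ← pullback.condition]
        _ = pullback.fst (t ∣_ V b) (p b) ≫ (t ⁻¹ᵁ V b).ι ≫ t := by
            rw [Category.assoc, morphismRestrict_ι]
    refine P_congr u₂ P₂ hkey ?_
    refine hchart (i b) (pullback.snd (t ∣_ V b) (p b) ≫ m b) ?_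
    refine P_congr u₁ P₁ ?_
      (P_bc u₁ t (pullback.fst (t ∣_ V b) (p b) ≫ (t ⁻¹ᵁ V b).ι) h)
    rw [Category.assoc, hkey]

theorem desc_iso_fam {S₀ : Scheme.{u}} {G₁ H₁ G₂ H₂ : Over S₀} (u₁ : G₁ ⟶ H₁) (u₂ : G₂ ⟶ H₂)
    {ix : Type u} (X : ix → Scheme.{u}) (F : ∀ i, X i ⟶ S₀)
    (hcov : ∀ b : S₀, ∃ V : S₀.Opens, b ∈ V ∧ ∃ (i : ix) (P' : Scheme.{u})
      (p : P' ⟶ (V : Scheme.{u})) (m : P' ⟶ X i),
      Flat p ∧ Surjective p ∧ QuasiCompact p ∧ m ≫ F i = p ≫ V.ι)
    (hchart : ∀ (i : ix) {T : Scheme.{u}} (r : T ⟶ X i),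
      IsIso (bcL u₁ (r ≫ F i)) → IsIso (bcL u₂ (r ≫ F i)))
    {T : Scheme.{u}} (t : T ⟶ S₀) (h : IsIso (bcL u₁ t)) : IsIso (bcL u₂ t) := by
  have h0 := desc_imp_fam u₁ u₂ (MorphismProperty.isomorphisms Scheme.{u})
    (MorphismProperty.isomorphisms Scheme.{u}) X F hcov (by
      intro i T r h'
      exact (MorphismProperty.isomorphisms.iff _).mpr
        (hchart i r ((MorphismProperty.isomorphisms.iff _).mp h'))) t
    ((MorphismProperty.isomorphisms.iff _).mpr h)
  exact (MorphismProperty.isomorphisms.iff _).mp h0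

end EngineFam

/-! ### Gluing the charts of a covering family -/

section GlueFam

theorem glue_closed_fam {B : Scheme.{u}} {K H' : Over B} (k : K ⟶ H')
    {ix : Type u} (Q : ix → Scheme.{u}) (q : ∀ i, Q i ⟶ B)
    (hmem : Presieve.ofArrows Q q ∈ Scheme.fpqcPrecoverage B)
    (hcov : ∀ b : B, ∃ V : B.Opens, b ∈ V ∧ ∃ (i : ix) (P' : Scheme.{u})
      (p : P' ⟶ (V : Scheme.{u})) (m : P' ⟶ Q i),
      Flat p ∧ Surjective p ∧ QuasiCompact p ∧ m ≫ q i = p ≫ V.ι)
    (hchartdata : ∀ i : ix, ∃ (Z : Scheme.{u}) (z : Z ⟶ Q i), IsClosedImmersion z ∧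
      ∀ {T : Scheme.{u}} (r : T ⟶ Q i), IsIso (bcL k (r ≫ q i)) ↔ ∃ l : T ⟶ Z, l ≫ z = r) :
    ∃ (C : Scheme.{u}) (cι : C ⟶ B), IsClosedImmersion cι ∧
      ∀ {T : Scheme.{u}} (t : T ⟶ B), (∃ l : T ⟶ C, l ≫ cι = t) ↔ IsIso (bcL k t) := by
  choose Z z hzc hzuniv using hchartdata
  haveI := hzc
  have hcompat : ∀ i j : ix,
      ((z i).ker).comap (pullback.fst (q i) (q j)) =
        ((z j).ker).comap (pullback.snd (q i) (q j)) := by
    intro i j
    refine le_antisymm ?_ ?_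
    · exact compat_le k (q j) (q i) (z j) (z i)
        (pullback.snd (q i) (q j)) (pullback.fst (q i) (q j)) pullback.condition.symm
        (fun {T} r => hzuniv j r) (fun {T} r => hzuniv i r)
    · exact compat_le k (q i) (q j) (z i) (z j)
        (pullback.fst (q i) (q j)) (pullback.snd (q i) (q j)) pullback.condition
        (fun {T} r => hzuniv i r) (fun {T} r => hzuniv j r)
  obtain ⟨J, hJ, -⟩ := Groth.Agent.Lib.ClosedDescentFam_helper7.main (Q := Q) q
    (fun i => (z i).ker) hmem hcompat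
  have hker : ∀ i : ix, (J.subschemeι).ker.comap (q i) = (z i).ker := by
    intro i
    rw [Scheme.IdealSheafData.ker_subschemeι]
    exact hJ i
  have hequiv : ∀ (i : ix) {T : Scheme.{u}} (r₁ : T ⟶ Q i),
      IsIso (bcL (cB J.subschemeι) (r₁ ≫ q i)) ↔ IsIso (bcL k (r₁ ≫ q i)) := by
    intro i T r₁
    exact (cB_iff J.subschemeι _).trans
      ((factor_transfer (q i) J.subschemeι (z i) (hker i) r₁).trans (hzuniv i r₁).symm)
  refine ⟨J.subscheme, J.subschemeι, inferInstance, ?_⟩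
  intro T t
  constructor
  · rintro ⟨l, hl⟩
    exact desc_iso_fam (cB J.subschemeι) k Q q hcov
      (fun i {T} r h => (hequiv i r).mp h) t ((cB_iff J.subschemeι t).mpr ⟨l, hl⟩)
  · intro h
    exact (cB_iff J.subschemeι t).mp
      (desc_iso_fam k (cB J.subschemeι) Q q hcov (fun i {T} r h => (hequiv i r).mpr h) t h)

theorem lfp_of_univ_fam {B : Scheme.{u}} {K H' : Over B} (k : K ⟶ H')
    {ix : Type u} (Q : ix → Scheme.{u}) (q : ∀ i, Q i ⟶ B)
    (hcov : ∀ b : B, ∃ V : B.Opens, b ∈ V ∧ ∃ (i : ix) (P' : Scheme.{u})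
      (p : P' ⟶ (V : Scheme.{u})) (m : P' ⟶ Q i),
      Flat p ∧ Surjective p ∧ QuasiCompact p ∧ m ≫ q i = p ≫ V.ι)
    {C : Scheme.{u}} (cι : C ⟶ B) [IsClosedImmersion cι]
    (huniv : ∀ {T : Scheme.{u}} (t : T ⟶ B), (∃ l : T ⟶ C, l ≫ cι = t) ↔ IsIso (bcL k t))
    (hchartdata : ∀ i : ix, ∃ (Z : Scheme.{u}) (z : Z ⟶ Q i), IsClosedImmersion z ∧
      LocallyOfFinitePresentation z ∧
        ∀ {T : Scheme.{u}} (r : T ⟶ Q i), IsIso (bcL k (r ≫ q i)) ↔ ∃ l : T ⟶ Z, l ≫ z = r) :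
    LocallyOfFinitePresentation cι := by
  choose Z z hzc hzfp hzuniv using hchartdata
  apply lfp_of_bcL_one
  refine desc_imp_fam (cB cι) (cB cι) ⊤ @LocallyOfFinitePresentation Q q hcov ?_ (𝟙 B) trivial
  intro i T r _
  haveI := hzfp i
  haveI := hzc i
  have hker : cι.ker.comap (q i) = (z i).ker :=
    ker_eq_of_univ k cι huniv (q i) (z i) (fun {T} r => hzuniv i r)
  exact P_bc (P := @LocallyOfFinitePresentation) (cB cι) (q i) r (lfp_chart (q i) cι (z i) hker)

end GlueFam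

/-! ### Gluing factorizations through a monomorphism -/

theorem factor_cover {W Yc Zc : Scheme.{u}} (c : Yc ⟶ Zc) [Mono c] (m : W ⟶ Zc)
    (𝒰 : W.OpenCover)
    (h : ∀ a : 𝒰.I₀, ∃ l : 𝒰.X a ⟶ Yc, l ≫ c = 𝒰.f a ≫ m) : ∃ l : W ⟶ Yc, l ≫ c = m := by
  choose l hl using h
  have hcompat : ∀ a b : 𝒰.I₀,
      pullback.fst (𝒰.f a) (𝒰.f b) ≫ l a = pullback.snd (𝒰.f a) (𝒰.f b) ≫ l b := by
    intro a b
    rw [← cancel_mono c, Category.assoc, Category.assoc, hl a, hl b, ← Category.assoc,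
      pullback.condition, Category.assoc]
  refine ⟨𝒰.glueMorphisms l hcompat, ?_⟩
  apply 𝒰.hom_ext
  intro a
  rw [← Category.assoc, Scheme.Cover.ι_glueMorphisms]
  exact hl a

theorem factor_local {W Yc Zc : Scheme.{u}} (c : Yc ⟶ Zc) [Mono c] (m : W ⟶ Zc) {𝒜 : Type u}
    (O : 𝒜 → W.Opens) (hO : iSup O = ⊤)
    (h : ∀ a, ∃ l : (O a : Scheme.{u}) ⟶ Yc, l ≫ c = (O a).ι ≫ m) :
    ∃ l : W ⟶ Yc, l ≫ c = m :=
  factor_cover c m (W.openCoverOfIsOpenCover O (TopologicalSpace.IsOpenCover.mk hO))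
    (fun a => h a)

/-! ### The coefficient ideal of a finitely generated ideal, projective version -/

theorem coeff_ideal_proj_fg (R : Type u) [CommRing R] (B : Type u) [CommRing B] [Algebra R B]
    [Module.Projective R B] (J : Ideal B) (hJ : J.FG) :
    ∃ I : Ideal R, I.FG ∧ ∀ (C : Type u) [CommRing C] [Algebra R C],
      (J ≤ RingHom.ker (Algebra.TensorProduct.includeLeftRingHom : B →+* B ⊗[R] C)) ↔
        I ≤ RingHom.ker (algebraMap R C) := by
  classical
  obtain ⟨s, hs⟩ := hJ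
  obtain ⟨sec, hsec⟩ := (inferInstance : Module.Projective R B).out
  obtain ⟨cs, hcs⟩ : ∃ cs : Finset R, ∀ r, r ∈ cs ↔
      ∃ j ∈ s, ∃ i ∈ (sec j).support, sec j i = r := by
    refine ⟨s.biUnion (fun j => (sec j).support.image (fun i => sec j i)), ?_⟩
    intro r
    simp only [Finset.mem_biUnion, Finset.mem_image]
  refine ⟨Ideal.span (cs : Set R), ⟨cs, rfl⟩, ?_⟩
  intro C _ _
  constructor
  · intro hle
    rw [Ideal.span_le]
    intro r hr
    obtain ⟨j, hj, i, hi, rfl⟩ := (hcs r).mp (Finset.mem_coe.mp hr)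
    have hjJ : j ∈ J := by
      rw [← hs]
      exact Submodule.subset_span (Finset.mem_coe.mpr hj)
    have h0 : (j ⊗ₜ[R] (1 : C) : B ⊗[R] C) = 0 := by
      have h00 := RingHom.mem_ker.mp (hle hjJ)
      rwa [Algebra.TensorProduct.includeLeftRingHom_apply] at h00
    have h1 := congrArg
      (fun t => TensorProduct.lid R C (LinearMap.rTensor C ((Finsupp.lapply i).comp sec) t)) h0
    simp only [LinearMap.rTensor_tmul, TensorProduct.lid_tmul, map_zero,
      LinearMap.comp_apply, Finsupp.lapply_apply] at h1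
    rw [SetLike.mem_coe, RingHom.mem_ker, Algebra.algebraMap_eq_smul_one]
    exact h1
  · intro hI
    rw [← hs]
    apply Submodule.span_le.mpr
    intro x hx
    have hxs : x ∈ s := Finset.mem_coe.mp hx
    rw [SetLike.mem_coe, RingHom.mem_ker, Algebra.TensorProduct.includeLeftRingHom_apply]
    have hx' : (sec x).sum (fun i c => c • i) = x := by
      have h2 := hsec x
      rw [Finsupp.linearCombination_apply] at h2
      simpa only [id_eq] using h2
    calc (x ⊗ₜ[R] (1 : C) : B ⊗[R] C)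
        = ((sec x).sum (fun i c => c • i)) ⊗ₜ[R] (1 : C) := by rw [hx']
      _ = 0 := by
        rw [Finsupp.sum, TensorProduct.sum_tmul]
        apply Finset.sum_eq_zero
        intro i hi
        have hz : algebraMap R C (sec x i) = 0 :=
          RingHom.mem_ker.mp (hI (Ideal.subset_span
            (Finset.mem_coe.mpr ((hcs _).mpr ⟨x, hxs, i, hi, rfl⟩))))
        rw [TensorProduct.smul_tmul, ← Algebra.algebraMap_eq_smul_one, hz,
          TensorProduct.tmul_zero]

end Groth.Agent.Lib.MTWeilH4
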