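import Mathlib
import Groth.Prelude
import Groth.Agent.Lib.EssFree1_helper4

/-!
# The chart of the Weil restriction of a closed subscheme along an essentially free morphism
(helper4)

`H' ×_{S₀} Q` is covered by affine opens whose coordinate rings are projective over `Γ(Q)`.
-/

set_option backward.isDefEq.respectTransparency.types false
set_option autoImplicit false
set_option linter.unusedVariables false
set_option linter.unusedTactic false
set_option linter.unreachableTactic false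
set_option linter.unusedSectionVars false
set_option linter.style.haveILetI false
set_option linter.deprecated false
set_option linter.unusedSimpArgs false
set_option linter.style.longLine false
set_option maxHeartbeats 1600000

universe u

open CategoryTheory CategoryTheory.Limits MonoidalCategory CartesianMonoidalCategory MonObj GrpObj
  AlgebraicGeometry Opposite TensorProduct

namespace Groth.Agent.Lib.MTWeilH4

open Groth.Agent.Lib.RedDictH8 Groth.Agent.Lib.DSDict Groth.Agent.Lib.MultGa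
  Groth.Agent.Lib.MultTrivH4 Groth.Agent.Lib.ConnActH4 Groth.Agent.Lib.TwConstFinH4
  Groth.Agent.Lib.MTHomH4 Groth.Agent.Lib.TorusQuotH4 Groth.Agent.Lib.KerTrivH4

section CoverChart

variable {S₀ : Scheme.{u}} {K H' : Over S₀} (k : K ⟶ H') {Q : Scheme.{u}} (q : Q ⟶ S₀)

/-- an open chart `V` of `H' ×_{S₀} Q`, as a scheme over `Q`. -/
noncomputable abbrev HV (V : (pullback H'.hom q).Opens) : Over Q :=
  Over.mk (V.ι ≫ pullback.snd H'.hom q)

/-- the part of the closed subscheme over the chart `V`, as a scheme over `Q`. -/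
noncomputable abbrev KV (V : (pullback H'.hom q).Opens) : Over Q :=
  Over.mk (pullback.snd (bcL k q) V.ι ≫ V.ι ≫ pullback.snd H'.hom q)

/-- the inclusion, over `Q`. -/
noncomputable abbrev kV (V : (pullback H'.hom q).Opens) : KV k q V ⟶ HV q V :=
  Over.homMk (pullback.snd (bcL k q) V.ι) rfl

theorem closedImm_bcL [IsClosedImmersion k.left] : IsClosedImmersion (bcL k q) :=
  MorphismProperty.of_isPullback (P := (@IsClosedImmersion : MorphismProperty Scheme.{u}))
    (sqL k q) inferInstance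

/-- the data attached to one chart and one test morphism. -/
theorem chart_sq (V : (pullback H'.hom q).Opens) {T : Scheme.{u}} (r : T ⟶ Q) :
    ∃ (n : pullback (HV q V).hom r ⟶ pullback H'.hom (r ≫ q))
      (e : pullback (HV q V).hom r ≅
        ((qMap H' q r ⁻¹ᵁ V : (pullback H'.hom (r ≫ q)).Opens) : Scheme.{u})),
      n ≫ qMap H' q r = pullback.fst (HV q V).hom r ≫ V.ι ∧
        e.hom ≫ (qMap H' q r ⁻¹ᵁ V).ι = n := by
  have hc' : pullback.fst (HV q V).hom r ≫ V.ι ≫ pullback.snd H'.hom q =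
      pullback.snd (HV q V).hom r ≫ r := pullback.condition
  have hw : (pullback.fst (HV q V).hom r ≫ V.ι ≫ pullback.fst H'.hom q) ≫ H'.hom =
      pullback.snd (HV q V).hom r ≫ r ≫ q := by
    calc (pullback.fst (HV q V).hom r ≫ V.ι ≫ pullback.fst H'.hom q) ≫ H'.hom
        = pullback.fst (HV q V).hom r ≫ V.ι ≫ (pullback.fst H'.hom q ≫ H'.hom) := by
          simp only [Category.assoc]
      _ = pullback.fst (HV q V).hom r ≫ V.ι ≫ (pullback.snd H'.hom q ≫ q) := by
          rw [pullback.condition]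
      _ = (pullback.fst (HV q V).hom r ≫ V.ι ≫ pullback.snd H'.hom q) ≫ q := by
          simp only [Category.assoc]
      _ = pullback.snd (HV q V).hom r ≫ r ≫ q := by
          rw [hc', Category.assoc]
  obtain ⟨n, hn⟩ : ∃ n : pullback (HV q V).hom r ⟶ pullback H'.hom (r ≫ q),
      n = pullback.lift (pullback.fst (HV q V).hom r ≫ V.ι ≫ pullback.fst H'.hom q)
        (pullback.snd (HV q V).hom r) hw := ⟨_, rfl⟩
  have hnf : n ≫ pullback.fst H'.hom (r ≫ q) =
      pullback.fst (HV q V).hom r ≫ V.ι ≫ pullback.fst H'.hom q := by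
    rw [hn, pullback.lift_fst]
  have hns : n ≫ pullback.snd H'.hom (r ≫ q) = pullback.snd (HV q V).hom r := by
    rw [hn, pullback.lift_snd]
  have hn1 : n ≫ qMap H' q r = pullback.fst (HV q V).hom r ≫ V.ι := by
    apply pullback.hom_ext
    · rw [Category.assoc, qMap_fst, hnf, Category.assoc]
    · rw [Category.assoc, qMap_snd, ← Category.assoc, hns, Category.assoc]
      exact hc'.symm
  have hbig : IsPullback (pullback.fst (HV q V).hom r) (n ≫ pullback.snd H'.hom (r ≫ q))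
      (V.ι ≫ pullback.snd H'.hom q) r := by
    rw [hns]
    exact IsPullback.of_hasPullback (V.ι ≫ pullback.snd H'.hom q) r
  have sqa : IsPullback (pullback.fst (HV q V).hom r) n V.ι (qMap H' q r) :=
    IsPullback.of_bot hbig hn1.symm (sqQ H' q r)
  have sqb := isPullback_morphismRestrict (qMap H' q r) V
  exact ⟨n, sqa.isoIsPullback _ _ sqb, hn1, IsPullback.isoIsPullback_hom_snd _ _ sqa sqb⟩

theorem cover_iso_iff [IsClosedImmersion k.left] {𝒜 : Type u}
    (V : 𝒜 → (pullback H'.hom q).Opens) (hV : iSup V = ⊤) {T : Scheme.{u}} (r : T ⟶ Q) :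
    IsIso (bcL k (r ≫ q)) ↔ ∀ a, IsIso (bcL (kV k q (V a)) r) := by
  haveI hci : IsClosedImmersion (bcL k q) := closedImm_bcL k q
  haveI hmono : Mono (bcL k q) := inferInstance
  have h0 : IsIso (bcL k (r ≫ q)) ↔
      ∃ l : pullback H'.hom (r ≫ q) ⟶ pullback K.hom q, l ≫ bcL k q = qMap H' q r :=
    factor_iff (sqB k q r)
  have hmonoV : ∀ a, Mono (kV k q (V a)).left := fun a =>
    (inferInstance : Mono (pullback.snd (bcL k q) (V a).ι))
  have h1 : ∀ a, IsIso (bcL (kV k q (V a)) r) ↔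
      ∃ l : pullback (HV q (V a)).hom r ⟶ pullback (bcL k q) (V a).ι,
        l ≫ pullback.snd (bcL k q) (V a).ι = pullback.fst (HV q (V a)).hom r := by
    intro a
    haveI := hmonoV a
    exact factor_iff (sqL (kV k q (V a)) r)
  constructor
  · intro hiso a
    obtain ⟨l, hl⟩ := h0.mp hiso
    obtain ⟨n, e, hn1, he⟩ := chart_sq q (V a) r
    rw [h1 a]
    refine ⟨pullback.lift (n ≫ l) (pullback.fst (HV q (V a)).hom r) ?_, ?_⟩
    · rw [Category.assoc, hl, hn1]
    · exact pullback.lift_snd _ _ _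
  · intro hall
    rw [h0]
    apply factor_local (bcL k q) (qMap H' q r) (fun a => qMap H' q r ⁻¹ᵁ V a)
      ((qMap H' q r).iSup_preimage_eq_top hV)
    intro a
    obtain ⟨n, e, hn1, he⟩ := chart_sq q (V a) r
    obtain ⟨l'', hl''⟩ := (h1 a).mp (hall a)
    refine ⟨e.inv ≫ l'' ≫ pullback.fst (bcL k q) (V a).ι, ?_⟩
    calc (e.inv ≫ l'' ≫ pullback.fst (bcL k q) (V a).ι) ≫ bcL k q
        = e.inv ≫ l'' ≫ (pullback.fst (bcL k q) (V a).ι ≫ bcL k q) := by
          simp only [Category.assoc]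
      _ = e.inv ≫ l'' ≫ (pullback.snd (bcL k q) (V a).ι ≫ (V a).ι) := by
          rw [pullback.condition]
      _ = e.inv ≫ (l'' ≫ pullback.snd (bcL k q) (V a).ι) ≫ (V a).ι := by
          simp only [Category.assoc]
      _ = e.inv ≫ n ≫ qMap H' q r := by rw [hl'', hn1]
      _ = (qMap H' q r ⁻¹ᵁ V a).ι ≫ qMap H' q r := by
          rw [← he, Category.assoc, Iso.inv_hom_id_assoc]

/-! ### Coordinates on one chart -/

theorem theta_chart [IsAffine Q] (V : (pullback H'.hom q).Opens) (hVaff : IsAffineOpen V)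
    [Algebra Γ(Q, ⊤) Γ(↑V, ⊤)]
    (halg : algebraMap Γ(Q, ⊤) Γ(↑V, ⊤) = (V.ι ≫ pullback.snd H'.hom q).appTop.hom) :
    ∃ θ : pullback (HV q V).hom Q.isoSpec.inv ≅ Spec (CommRingCat.of Γ(↑V, ⊤)),
      θ.hom ≫ Spec.map (CommRingCat.ofHom (algebraMap Γ(Q, ⊤) Γ(↑V, ⊤))) =
        pullback.snd (HV q V).hom Q.isoSpec.inv := by
  haveI : IsAffine (V : Scheme.{u}) := hVaff
  haveI : IsIso (pullback.fst (HV q V).hom Q.isoSpec.inv) := inferInstance
  refine ⟨asIso (pullback.fst (HV q V).hom Q.isoSpec.inv) ≪≫ (V : Scheme.{u}).isoSpec, ?_⟩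
  rw [halg, CommRingCat.ofHom_hom]
  have hnat := Scheme.isoSpec_hom_naturality (V.ι ≫ pullback.snd H'.hom q)
  have hc : pullback.fst (HV q V).hom Q.isoSpec.inv ≫ V.ι ≫ pullback.snd H'.hom q =
      pullback.snd (HV q V).hom Q.isoSpec.inv ≫ Q.isoSpec.inv := pullback.condition
  rw [Iso.trans_hom, asIso_hom, Category.assoc, hnat, ← Category.assoc, hc, Category.assoc,
    Iso.inv_hom_id, Category.comp_id]

/-- the local ideal attached to one chart. -/
theorem local_ideal_cover [IsClosedImmersion k.left] [IsAffine Q]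
    (V : (pullback H'.hom q).Opens) (hVaff : IsAffineOpen V)
    [Algebra Γ(Q, ⊤) Γ(↑V, ⊤)]
    (halg : algebraMap Γ(Q, ⊤) Γ(↑V, ⊤) = (V.ι ≫ pullback.snd H'.hom q).appTop.hom)
    [Module.Projective Γ(Q, ⊤) Γ(↑V, ⊤)] :
    ∃ I : Ideal Γ(Q, ⊤), (∀ (C : Type u) [CommRing C] [Algebra Γ(Q, ⊤) C],
      IsIso (bcL (kV k q V)
        (Spec.map (CommRingCat.ofHom (algebraMap Γ(Q, ⊤) C)) ≫ Q.isoSpec.inv)) ↔
        I ≤ RingHom.ker (algebraMap Γ(Q, ⊤) C)) ∧
      (LocallyOfFinitePresentation k.left → I.FG) := by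
  obtain ⟨θ, hθ⟩ := theta_chart q V hVaff halg
  haveI hci : IsClosedImmersion (bcL k q) := closedImm_bcL k q
  haveI hciV : IsClosedImmersion (kV k q V).left :=
    (inferInstance : IsClosedImmersion (pullback.snd (bcL k q) V.ι))
  obtain ⟨J, hdict⟩ := dict_gen (kV k q V) Γ(Q, ⊤) Γ(↑V, ⊤) Q.isoSpec.inv θ hθ
  obtain ⟨I, hI⟩ := coeff_ideal_proj Γ(Q, ⊤) Γ(↑V, ⊤) J
  refine ⟨I, fun C _ _ => (hdict C).trans (hI C), ?_⟩
  intro hfp
  haveI := hfp
  haveI hfp1 : LocallyOfFinitePresentation (bcL k q) :=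
    MorphismProperty.of_isPullback
      (P := (@LocallyOfFinitePresentation : MorphismProperty Scheme.{u})) (sqL k q) inferInstance
  haveI hfpV : LocallyOfFinitePresentation (kV k q V).left :=
    (inferInstance : LocallyOfFinitePresentation (pullback.snd (bcL k q) V.ι))
  obtain ⟨J', hJ'fg, hdict'⟩ := dict (kV k q V) Γ(Q, ⊤) Γ(↑V, ⊤) Q.isoSpec.inv θ hθ
  obtain ⟨I', hI'fg, hI'⟩ := coeff_ideal_proj_fg Γ(Q, ⊤) Γ(↑V, ⊤) J' hJ'fg
  have hchar : ∀ (C : Type u) [CommRing C] [Algebra Γ(Q, ⊤) C],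
      I ≤ RingHom.ker (algebraMap Γ(Q, ⊤) C) ↔ I' ≤ RingHom.ker (algebraMap Γ(Q, ⊤) C) :=
    fun C _ _ => ((hdict C).trans (hI C)).symm.trans ((hdict' C).trans (hI' C))
  have e : I = I' := by
    apply le_antisymm
    · have h1 := (hchar (Γ(Q, ⊤) ⧸ I')).mpr
        (by rw [Ideal.Quotient.algebraMap_eq, Ideal.mk_ker])
      rwa [Ideal.Quotient.algebraMap_eq, Ideal.mk_ker] at h1
    · have h1 := (hchar (Γ(Q, ⊤) ⧸ I)).mp
        (by rw [Ideal.Quotient.algebraMap_eq, Ideal.mk_ker])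
      rwa [Ideal.Quotient.algebraMap_eq, Ideal.mk_ker] at h1
  rw [e]
  exact hI'fg

/-! ### The closed subscheme on a chart of the base -/

theorem chart_closed_cover [IsClosedImmersion k.left] [IsAffine Q] {𝒜 : Type u}
    (V : 𝒜 → (pullback H'.hom q).Opens) (hV : iSup V = ⊤)
    (hVaff : ∀ a, IsAffineOpen (V a))
    (hproj : ∀ a, (letI := ((V a).ι ≫ pullback.snd H'.hom q).appTop.hom.toAlgebra
      Module.Projective Γ(Q, ⊤) Γ(↑(V a), ⊤))) :
    ∃ (Z : Scheme.{u}) (z : Z ⟶ Q), IsClosedImmersion z ∧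
      (LocallyOfFinitePresentation k.left → Finite 𝒜 → LocallyOfFinitePresentation z) ∧
      ∀ {T : Scheme.{u}} (r : T ⟶ Q), IsIso (bcL k (r ≫ q)) ↔ ∃ l : T ⟶ Z, l ≫ z = r := by
  have hloc : ∀ a, ∃ I : Ideal Γ(Q, ⊤), (∀ (C : Type u) [CommRing C] [Algebra Γ(Q, ⊤) C],
      IsIso (bcL (kV k q (V a))
        (Spec.map (CommRingCat.ofHom (algebraMap Γ(Q, ⊤) C)) ≫ Q.isoSpec.inv)) ↔
        I ≤ RingHom.ker (algebraMap Γ(Q, ⊤) C)) ∧
      (LocallyOfFinitePresentation k.left → I.FG) := by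
    intro a
    letI iA : Algebra Γ(Q, ⊤) Γ(↑(V a), ⊤) :=
      ((V a).ι ≫ pullback.snd H'.hom q).appTop.hom.toAlgebra
    haveI iP : Module.Projective Γ(Q, ⊤) Γ(↑(V a), ⊤) := hproj a
    exact local_ideal_cover k q (V a) (hVaff a) rfl
  choose I hI hIfg using hloc
  obtain ⟨I₀, hI₀⟩ : ∃ I₀ : Ideal Γ(Q, ⊤), I₀ = ⨆ a, I a := ⟨_, rfl⟩
  have hstar : ∀ (C : Type u) [CommRing C] [Algebra Γ(Q, ⊤) C],
      IsIso (bcL k (Spec.map (CommRingCat.ofHom (algebraMap Γ(Q, ⊤) C)) ≫ Q.isoSpec.inv ≫ q)) ↔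
        I₀ ≤ RingHom.ker (algebraMap Γ(Q, ⊤) C) := by
    intro C _ _
    have h1 := cover_iso_iff k q V hV
      (Spec.map (CommRingCat.ofHom (algebraMap Γ(Q, ⊤) C)) ≫ Q.isoSpec.inv)
    have e1 : (Spec.map (CommRingCat.ofHom (algebraMap Γ(Q, ⊤) C)) ≫ Q.isoSpec.inv) ≫ q =
        Spec.map (CommRingCat.ofHom (algebraMap Γ(Q, ⊤) C)) ≫ Q.isoSpec.inv ≫ q :=
      Category.assoc _ _ _
    rw [hI₀, iSup_le_iff]
    constructor
    · intro h a
      exact (hI a C).mp (h1.mp (bcL_congr k e1.symm h) a)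
    · intro h
      exact bcL_congr k e1 (h1.mpr (fun a => (hI a C).mpr (h a)))
  have huniv := fun {T : Scheme.{u}} (r : T ⟶ Spec (CommRingCat.of Γ(Q, ⊤))) =>
    chart_univ k Γ(Q, ⊤) (Q.isoSpec.inv ≫ q) I₀ hstar r
  haveI hzc : IsClosedImmersion (Spec.map (CommRingCat.ofHom (Ideal.Quotient.mk I₀))) :=
    IsClosedImmersion.spec_of_quotient_mk (R := CommRingCat.of Γ(Q, ⊤)) I₀
  refine ⟨Spec (CommRingCat.of (Γ(Q, ⊤) ⧸ I₀)),
    Spec.map (CommRingCat.ofHom (Ideal.Quotient.mk I₀)) ≫ Q.isoSpec.inv, inferInstance, ?_, ?_⟩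
  · intro hfp hfin
    haveI := hfin
    have hfg : I₀.FG := by
      rw [hI₀]
      exact Submodule.fg_iSup _ (fun a => hIfg a hfp)
    haveI hzfp : LocallyOfFinitePresentation
        (Spec.map (CommRingCat.ofHom (Ideal.Quotient.mk I₀))) := by
      rw [LocallyOfFinitePresentation.SpecMap_iff]
      refine RingHom.FinitePresentation.of_surjective _ Ideal.Quotient.mk_surjective ?_
      rw [CommRingCat.hom_ofHom, Ideal.mk_ker]
      exact hfg
    infer_instance
  · intro T r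
    have h1 := huniv (r ≫ Q.isoSpec.hom)
    have e1 : (r ≫ Q.isoSpec.hom) ≫ Q.isoSpec.inv ≫ q = r ≫ q := by
      rw [Category.assoc, Iso.hom_inv_id_assoc]
    constructor
    · intro h
      obtain ⟨l, hl⟩ := h1.mp (bcL_congr k e1.symm h)
      refine ⟨l, ?_⟩
      rw [← Category.assoc, hl, Category.assoc, Iso.hom_inv_id, Category.comp_id]
    · rintro ⟨l, hl⟩
      refine bcL_congr k e1 (h1.mpr ⟨l, ?_⟩)
      rw [← hl, Category.assoc, Category.assoc, Iso.inv_hom_id, Category.comp_id]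

end CoverChart

end Groth.Agent.Lib.MTWeilH4
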