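import Mathlib
import Groth.Prelude
import Groth.Agent.Lib.EssFree2_helper4

/-!
# The Weil restriction of a closed subscheme along an essentially free morphism is closed
(helper4)
-/

set_option backward.isDefEq.respectTransparency.types false
set_option autoImplicit false
set_option linter.unusedVariables false
set_option linter.unusedTactic false
set_option linter.unreachableTactic false
set_option linter.unusedSectionVars false
set_option linter.style.haveILetI false
set_option linter.deprecated false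
set_option linter.unusedSimpArgs false
set_option linter.style.longLine false
set_option maxHeartbeats 1600000

universe u

open CategoryTheory CategoryTheory.Limits MonoidalCategory CartesianMonoidalCategory MonObj GrpObj
  AlgebraicGeometry Opposite TensorProduct

namespace Groth.Agent.Lib.MTWeilH4

open Groth.Agent.Lib.RedDictH8 Groth.Agent.Lib.DSDict Groth.Agent.Lib.MultGa
  Groth.Agent.Lib.MultTrivH4 Groth.Agent.Lib.ConnActH4 Groth.Agent.Lib.TwConstFinH4
  Groth.Agent.Lib.MTHomH4 Groth.Agent.Lib.TorusQuotH4 Groth.Agent.Lib.KerTrivH4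

section Main4101

variable {S Z Y : Scheme.{u}} (f : Z ⟶ S) (j : Y ⟶ Z)

/-- the closed subscheme `Y ⟶ Z`, as a morphism over `S`. -/
noncomputable abbrev kZ : Over.mk (j ≫ f) ⟶ Over.mk f := Over.homMk j rfl

theorem bridge_iso [Mono j] {T : Scheme.{u}} (g : T ⟶ S) :
    IsIso (bcL (kZ f j) g) ↔ IsIso (pullback.snd j (pullback.fst f g)) := by
  haveI : Mono (kZ f j).left := (inferInstance : Mono j)
  have h1 : IsIso (bcL (kZ f j) g) ↔ ∃ l : pullback f g ⟶ Y, l ≫ j = pullback.fst f g :=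
    factor_iff (sqL (kZ f j) g)
  have h2 : IsIso (pullback.snd j (pullback.fst f g)) ↔
      ∃ l : pullback f g ⟶ Y, l ≫ j = pullback.fst f g :=
    factor_iff (IsPullback.of_hasPullback j (pullback.fst f g))
  exact h1.trans h2.symm

/-- the chart of the base attached to one point, for an essentially free morphism. -/
theorem chart_essFree [IsClosedImmersion j] (Q : Scheme.{u}) [IsAffine Q] (q : Q ⟶ S)
    (hV : ∀ x : ↥(pullback f q), ∃ V : (pullback f q).Opens, x ∈ V ∧ IsAffineOpen V ∧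
      (letI := (V.ι ≫ pullback.snd f q).appTop.hom.toAlgebra
       Module.Projective Γ(Q, ⊤) Γ(↑V, ⊤))) :
    (∃ (Z₁ : Scheme.{u}) (z : Z₁ ⟶ Q), IsClosedImmersion z ∧
      ∀ {T : Scheme.{u}} (r : T ⟶ Q), IsIso (bcL (kZ f j) (r ≫ q)) ↔ ∃ l : T ⟶ Z₁, l ≫ z = r) ∧
    (QuasiCompact f → LocallyOfFinitePresentation j →
      ∃ (Z₁ : Scheme.{u}) (z : Z₁ ⟶ Q), IsClosedImmersion z ∧ LocallyOfFinitePresentation z ∧
        ∀ {T : Scheme.{u}} (r : T ⟶ Q),
          IsIso (bcL (kZ f j) (r ≫ q)) ↔ ∃ l : T ⟶ Z₁, l ≫ z = r) := by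
  haveI hck : IsClosedImmersion (kZ f j).left := (inferInstance : IsClosedImmersion j)
  choose V hxV hVaff hVproj using hV
  constructor
  · have hcov : iSup V = ⊤ := eq_top_iff.mpr (fun x _ =>
      TopologicalSpace.Opens.mem_iSup.mpr ⟨x, hxV x⟩)
    obtain ⟨Z₁, z, hz, -, hu⟩ := chart_closed_cover (kZ f j) q V hcov hVaff hVproj
    exact ⟨Z₁, z, hz, fun {T} r => hu r⟩
  · intro hqc hfp
    haveI := hqc
    haveI : CompactSpace ↥(pullback f q) := inferInstance
    obtain ⟨t, ht⟩ := CompactSpace.elim_nhds_subcover (fun x => ((V x : (pullback f q).Opens) :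
      Set ↥(pullback f q))) (fun x => (V x).isOpen.mem_nhds (hxV x))
    have hcov : iSup (fun a : {x // x ∈ t} => V a.1) = ⊤ := by
      refine eq_top_iff.mpr (fun y _ => ?_)
      have hy : y ∈ ⋃ x ∈ t, ((V x : (pullback f q).Opens) : Set ↥(pullback f q)) := by
        rw [ht]
        trivial
      obtain ⟨x, hx⟩ := Set.mem_iUnion.mp hy
      obtain ⟨hxt, hyx⟩ := Set.mem_iUnion.mp hx
      exact TopologicalSpace.Opens.mem_iSup.mpr ⟨⟨x, hxt⟩, hyx⟩
    obtain ⟨Z₁, z, hz, hzfp, hu⟩ := chart_closed_cover (kZ f j) q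
      (fun a : {x // x ∈ t} => V a.1) hcov (fun a => hVaff a.1) (fun a => hVproj a.1)
    haveI hfpk : LocallyOfFinitePresentation (kZ f j).left := hfp
    exact ⟨Z₁, z, hz, hzfp hfpk inferInstance, fun {T} r => hu r⟩

theorem main4101 (S Z Y : Scheme.{u}) (f : Z ⟶ S)
    (hf : SGA3x.IsEssentiallyFree f) (j : Y ⟶ Z) [IsClosedImmersion j] :
    ∃ (T : Scheme.{u}) (t : T ⟶ S), IsClosedImmersion t ∧
      (∀ (S' : Scheme.{u}) (g : S' ⟶ S),
        (∃ g' : S' ⟶ T, g' ≫ t = g) ↔ IsIso (pullback.snd j (pullback.fst f g))) ∧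
      (QuasiCompact f → LocallyOfFinitePresentation j → LocallyOfFinitePresentation t) := by
  choose U hsU hUaff S' hS'aff g hgflat hgsurj hV using hf
  haveI := hS'aff
  haveI hUa : ∀ s : S, IsAffine ((U s : S.Opens) : Scheme.{u}) := hUaff
  -- the covering family
  have hcoverU : TopologicalSpace.IsOpenCover (fun s : S => U s) :=
    TopologicalSpace.IsOpenCover.mk (eq_top_iff.mpr (fun x _ =>
      TopologicalSpace.Opens.mem_iSup.mpr ⟨x, hsU x⟩))
  have h2 : Presieve.ofArrows (fun s : S => ((U s : S.Opens) : Scheme.{u})) (fun s => (U s).ι) ∈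
      Scheme.fpqcPrecoverage S :=
    Scheme.zariskiPrecoverage_le_fpqcPrecoverage _ (S.openCoverOfIsOpenCover _ hcoverU).mem₀
  have hqcg : ∀ (s : S) (W : ((U s : S.Opens) : Scheme.{u}).Opens), IsAffineOpen W →
      ∃ W' : (S' s).Opens, IsCompact (W' : Set (S' s)) ∧
        (g s).base '' (W' : Set (S' s)) = (W : Set ((U s : S.Opens) : Scheme.{u})) := by
    intro s W hW
    refine ⟨(g s) ⁻¹ᵁ W, (hW.preimage (g s)).isCompact, ?_⟩
    ext x
    constructor
    · rintro ⟨w, hw, rfl⟩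
      exact hw
    · intro hx
      obtain ⟨w, rfl⟩ := (hgsurj s).surj x
      exact ⟨w, hx, rfl⟩
  have h3 : ∀ s : S, Presieve.ofArrows (fun _ : PUnit.{u + 1} => S' s) (fun _ => g s) ∈
      Scheme.fpqcPrecoverage ((U s : S.Opens) : Scheme.{u}) := by
    intro s
    rw [Presieve.ofArrows_pUnit]
    exact singleton_mem_fpqc_h4 (g s) (hgflat s) (hgsurj s) (hqcg s)
  have hmem := Precoverage.comp_mem_coverings (fun s : S => (U s).ι) h2
    (σ := fun _ => PUnit.{u + 1}) (Y := fun s _ => S' s) (fun s _ => g s) h3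
  have hcov : ∀ b : S, ∃ V₀ : S.Opens, b ∈ V₀ ∧ ∃ (i : Σ _ : S, PUnit.{u + 1}) (P' : Scheme.{u})
      (p : P' ⟶ (V₀ : Scheme.{u})) (m : P' ⟶ S' i.1),
      Flat p ∧ Surjective p ∧ QuasiCompact p ∧ m ≫ (g i.1 ≫ (U i.1).ι) = p ≫ V₀.ι := by
    intro b
    refine ⟨U b, hsU b, ⟨b, PUnit.unit⟩, S' b, g b, 𝟙 _, hgflat b, hgsurj b, inferInstance, ?_⟩
    exact Category.id_comp _
  have hcharts : ∀ s : S, _ := fun s => chart_essFree f j (S' s) (g s ≫ (U s).ι) (hV s)
  obtain ⟨C, cι, hcc, huniv⟩ := glue_closed_fam (kZ f j)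
    (fun i : Σ _ : S, PUnit.{u + 1} => S' i.1) (fun i => g i.1 ≫ (U i.1).ι) hmem hcov
    (fun i => (hcharts i.1).1)
  haveI := hcc
  refine ⟨C, cι, hcc, ?_, ?_⟩
  · intro T₀ g₀
    exact (huniv g₀).trans (bridge_iso f j g₀)
  · intro hqc hfp
    exact lfp_of_univ_fam (kZ f j) (fun i : Σ _ : S, PUnit.{u + 1} => S' i.1)
      (fun i => g i.1 ≫ (U i.1).ι) hcov cι (fun {T} t => huniv t)
      (fun i => (hcharts i.1).2 hqc hfp)

end Main4101

end Groth.Agent.Lib.MTWeilH4
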