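import Mathlib

/-! Abelian groups with an element contained in every nonzero subgroup. -/

set_option autoImplicit false

namespace Groth.Agent.Lib.EssentialElt

variable {A : Type*} [AddCommGroup A]

/-- If `a ≠ 0` lies in every nonzero subgroup, any element killed by a prime is a multiple of `a`. -/
theorem mem_zmultiples_of_prime_nsmul_eq_zero (a : A) (ha : a ≠ 0)
    (h : ∀ B : AddSubgroup A, B ≠ ⊥ → a ∈ B) (p : ℕ) (hp : p.Prime) (x : A) (hx : p • x = 0) :
    x ∈ AddSubgroup.zmultiples a := by
  by_cases hx0 : x = 0
  · rw [hx0]; exact zero_mem _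
  have hne : AddSubgroup.zmultiples x ≠ ⊥ := by
    rw [Ne, AddSubgroup.zmultiples_eq_bot]; exact hx0
  obtain ⟨k, hk⟩ := AddSubgroup.mem_zmultiples_iff.1 (h _ hne)
  have hnd : ¬ (p : ℤ) ∣ k := by
    rintro ⟨m, rfl⟩
    apply ha
    rw [← hk, mul_comm, mul_smul, natCast_zsmul, hx, smul_zero]
  have hcop : IsCoprime (p : ℤ) k :=
    (Nat.prime_iff_prime_int.1 hp).irreducible.coprime_iff_not_dvd.2 hnd
  obtain ⟨u, v, huv⟩ := hcop
  refine AddSubgroup.mem_zmultiples_iff.2 ⟨v, ?_⟩
  calc v • a = v • (k • x) := by rw [hk]
    _ = (v * k) • x := by rw [mul_smul]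
    _ = (u * p + v * k) • x - (u * p) • x := by rw [add_smul]; abel
    _ = x := by rw [huv, one_smul, mul_smul, natCast_zsmul, hx, smul_zero, sub_zero]

/-- If all the `p`-torsion subsets are finite, every subgroup of bounded exponent is finite. -/
theorem finite_of_nsmul_eq_zero (H : ∀ p : ℕ, p.Prime → {x : A | p • x = 0}.Finite) :
    ∀ n : ℕ, 0 < n → ∀ S : AddSubgroup A, (∀ x ∈ S, n • x = 0) → (S : Set A).Finite := by
  intro n
  induction n using Nat.strong_induction_on with
  | _ n ih =>
    intro hn S hS
    by_cases h1 : n = 1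
    · subst h1
      apply (Set.finite_singleton (0 : A)).subset
      intro x hx
      have h2 := hS x hx
      rw [one_nsmul] at h2
      exact h2
    · obtain ⟨p, hp, hpn⟩ := Nat.exists_prime_and_dvd h1
      obtain ⟨m, rfl⟩ := hpn
      have hm : 0 < m := Nat.pos_of_mul_pos_left hn
      have hmlt : m < p * m := by nlinarith [hp.two_le]
      have hS' : ∀ y ∈ S.map (nsmulAddMonoidHom p : A →+ A), m • y = 0 := by
        rintro _ ⟨x, hx, rfl⟩
        show m • (p • x) = 0
        rw [← mul_nsmul]
        exact hS x hx
      have hfinS' := ih m hmlt hm (S.map (nsmulAddMonoidHom p : A →+ A)) hS'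
      have hfib : ∀ y : A, {x : A | p • x = y}.Finite := by
        intro y
        by_cases hne : ∃ x₀, p • x₀ = y
        · obtain ⟨x₀, hx₀⟩ := hne
          apply ((H p hp).image (fun z => x₀ + z)).subset
          intro x hx
          refine ⟨x - x₀, ?_, by abel⟩
          show p • (x - x₀) = 0
          have hx' : p • x = y := hx
          rw [nsmul_sub, hx', hx₀, sub_self]
        · apply Set.finite_empty.subset
          intro x hx
          exact (hne ⟨x, hx⟩).elim
      apply (hfinS'.biUnion (fun y _ => hfib y)).subset
      intro x hx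
      exact Set.mem_biUnion
        (show p • x ∈ ((S.map (nsmulAddMonoidHom p : A →+ A) : AddSubgroup A) : Set A) from
          ⟨x, hx, rfl⟩) rfl

/-- Cardinality version: if each `A[p]` has at most `p` elements then `A[n]` has at most `n`. -/
theorem card_nsmul_eq_zero_le [Fintype A] [DecidableEq A]
    (H : ∀ p : ℕ, p.Prime → (Finset.univ.filter (fun x : A => p • x = 0)).card ≤ p) :
    ∀ n : ℕ, 0 < n → (Finset.univ.filter (fun x : A => n • x = 0)).card ≤ n := by
  intro n
  induction n using Nat.strong_induction_on with
  | _ n ih =>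
    intro hn
    by_cases h1 : n = 1
    · subst h1
      apply Finset.card_le_one.2
      intro x hx y hy
      simp only [Finset.mem_filter, Finset.mem_univ, true_and, one_nsmul] at hx hy
      rw [hx, hy]
    · obtain ⟨p, hp, hpn⟩ := Nat.exists_prime_and_dvd h1
      obtain ⟨m, rfl⟩ := hpn
      have hm : 0 < m := Nat.pos_of_mul_pos_left hn
      have hmlt : m < p * m := by nlinarith [hp.two_le]
      have hIH := ih m hmlt hm
      have himg : ((Finset.univ.filter (fun x : A => (p * m) • x = 0)).image (fun x => p • x)).card
          ≤ m := by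
        refine le_trans (Finset.card_le_card ?_) hIH
        intro y hy
        obtain ⟨x, hx, rfl⟩ := Finset.mem_image.1 hy
        simp only [Finset.mem_filter, Finset.mem_univ, true_and] at hx ⊢
        rw [← mul_nsmul]
        exact hx
      have hfib : ∀ b ∈ (Finset.univ.filter (fun x : A => (p * m) • x = 0)).image (fun x => p • x),
          ((Finset.univ.filter (fun x : A => (p * m) • x = 0)).filter (fun x => p • x = b)).card
            ≤ p := by
        intro b hb
        obtain ⟨x₀, -, hx₀⟩ := Finset.mem_image.1 hb
        refine le_trans (Finset.card_le_card_of_injOn (fun x => x - x₀) ?_ ?_) (H p hp)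
        · intro x hx
          simp only [Finset.coe_filter, Finset.mem_filter, Finset.mem_univ, true_and,
            Set.mem_setOf_eq] at hx ⊢
          have hx₀' : p • x₀ = b := hx₀
          rw [nsmul_sub, hx.2, hx₀', sub_self]
        · intro x _ y _ hxy
          exact sub_left_injective hxy
      calc (Finset.univ.filter (fun x : A => (p * m) • x = 0)).card
          ≤ p * ((Finset.univ.filter (fun x : A => (p * m) • x = 0)).image
              (fun x => p • x)).card := Finset.card_le_mul_card_image _ p hfib
        _ ≤ p * m := Nat.mul_le_mul_left p himg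

end Groth.Agent.Lib.EssentialElt
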