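import Mathlib

namespace Groth.Agent.Lib.EsymmMod

open Polynomial

noncomputable def PF (a : ℕ) : (MvPolynomial (Fin a) ℤ)[X] :=
  ∏ i : Fin a, (X - C (MvPolynomial.X i))

noncomputable def cL (a : ℕ) : (MvPolynomial (Fin a) ℤ)[X] →ₗ[MvPolynomial (Fin a) ℤ]
    MvPolynomial (Fin a) ℤ :=
  (Polynomial.lcoeff (MvPolynomial (Fin a) ℤ) (a - 1)).comp (Polynomial.modByMonicHom (PF a))

theorem cL_apply (a : ℕ) (f : (MvPolynomial (Fin a) ℤ)[X]) :
    cL a f = (f %ₘ PF a).coeff (a - 1) := rfl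

noncomputable def coefF (a : ℕ) : ℤ → MvPolynomial (Fin a) ℤ := fun j =>
  if j < 0 then 0 else
    ((X : (MvPolynomial (Fin a) ℤ)[X]) ^ (a - 1 + j.toNat) %ₘ PF a).coeff (a - 1)

theorem PF_monic (a : ℕ) : (PF a).Monic :=
  monic_prod_of_monic _ _ fun i _ => monic_X_sub_C _

theorem PF_natDegree (a : ℕ) : (PF a).natDegree = a := by
  rw [PF, natDegree_prod_of_monic _ _ (fun i _ => monic_X_sub_C _)]; simp

theorem PF_eq (a : ℕ) : PF a = ∑ j ∈ Finset.range (a + 1),
    (-1) ^ j * (C (MvPolynomial.esymm (Fin a) ℤ j) * X ^ (a - j)) := by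
  have h := Multiset.prod_X_sub_X_eq_sum_esymm
    ((Finset.univ : Finset (Fin a)).val.map (MvPolynomial.X (R := ℤ)))
  have h0 : PF a = (((Finset.univ : Finset (Fin a)).val.map (MvPolynomial.X (R := ℤ))).map
      fun t => X - C t).prod := by
    rw [Multiset.map_map]; rfl
  rw [h0, h, Multiset.card_map, Finset.card_val, Finset.card_univ, Fintype.card_fin,
    MvPolynomial.esymm_eq_multiset_esymm]

theorem cL_small (a m : ℕ) (hm : m < a) :
    cL a (X ^ m) = if m = a - 1 then 1 else 0 := by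
  have h1 : (X : (MvPolynomial (Fin a) ℤ)[X]) ^ m %ₘ PF a = X ^ m := by
    rw [modByMonic_eq_self_iff (PF_monic a), degree_X_pow,
      degree_eq_natDegree (PF_monic a).ne_zero, PF_natDegree]
    exact_mod_cast hm
  rw [cL_apply, h1, coeff_X_pow]
  by_cases h : m = a - 1
  · rw [if_pos h, if_pos h.symm]
  · rw [if_neg h, if_neg (fun h' => h h'.symm)]

theorem coefF_eq (a i j : ℕ) (ha : 0 < a) (hi : i ≤ a) (hj : 0 < j) :
    coefF a ((j : ℤ) - i) = cL a (X ^ (a - i + (j - 1))) := by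
  unfold coefF
  split_ifs with hneg
  · have hji : j < i := by omega
    rw [cL_small a _ (by omega), if_neg (by omega)]
  · have hij : i ≤ j := by omega
    rw [Int.toNat_sub, cL_apply]
    congr 3
    omega

theorem main (a : ℕ) (ha : 0 < a) :
    coefF a 0 = 1 ∧ ∀ j : ℕ, 0 < j →
      (∑ i ∈ Finset.range (a + 1), (-1 : MvPolynomial (Fin a) ℤ) ^ i *
        MvPolynomial.esymm (Fin a) ℤ i * coefF a ((j : ℤ) - i)) = 0 := by
  constructor
  · have h := coefF_eq a 1 1 ha ha Nat.one_pos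
    have h' : coefF a 0 = cL a (X ^ (a - 1)) := by simpa using h
    rw [h', cL_small a _ (by omega), if_pos rfl]
  · intro j hj
    have h1 : cL a (X ^ (j - 1) * PF a) = 0 := by
      rw [cL_apply, (modByMonic_eq_zero_iff_dvd (PF_monic a)).mpr (Dvd.intro_left _ rfl)]
      simp
    have h2 : X ^ (j - 1) * PF a = ∑ i ∈ Finset.range (a + 1),
        ((-1 : MvPolynomial (Fin a) ℤ) ^ i * MvPolynomial.esymm (Fin a) ℤ i) •
          (X : (MvPolynomial (Fin a) ℤ)[X]) ^ (a - i + (j - 1)) := by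
      rw [PF_eq, Finset.mul_sum]
      refine Finset.sum_congr rfl fun i _ => ?_
      rw [smul_eq_C_mul, map_mul, map_pow, map_neg, map_one, pow_add]
      ring
    rw [h2, map_sum] at h1
    rw [← h1]
    refine Finset.sum_congr rfl fun i hi => ?_
    rw [map_smul, smul_eq_mul, coefF_eq a i j ha (by have := Finset.mem_range.mp hi; omega) hj]

end Groth.Agent.Lib.EsymmMod
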