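import Mathlib
import Groth.Prelude.Def_EtDual
import Groth.Agent.Lib.DerLES_helper9
import Groth.Agent.Lib.DerComp_helper9
import Groth.Agent.Lib.EtPullExact_helper9
import Groth.Agent.Lib.EtHpull0_helper7
import Groth.Agent.Lib.EtFlasquePush_helper7

/-!
# Étale local cohomology sheaves and higher direct images from the open complement (helper7)
-/

set_option autoImplicit false
set_option backward.isDefEq.respectTransparency false
universe u
open CategoryTheory CategoryTheory.Limits AlgebraicGeometry Opposite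

namespace Groth.Agent.Lib.EtLocCohIso_helper7

open Groth.Agent.Lib.EtFlasque_helper7 Groth.Agent.Lib.EtOpenShriek_helper7
  Groth.Agent.Lib.EtFlasquePush_helper7 Groth.Agent.Lib.EtJCont_helper7

variable {X U : Scheme.{u}} (j : U ⟶ X) [IsOpenImmersion j]

noncomputable def alpha : EtDual.secSupp j ⟶ 𝟭 (EtCoh.Ab X) where
  app F := kernel.ι (EtDual.unitApp j F)
  naturality F G φ := kernel.lift_ι _ _ _

noncomputable abbrev beta : 𝟭 (EtCoh.Ab X) ⟶ EtCoh.pull j ⋙ EtCoh.push j :=
  (EtCoh.pullPushAdj j).unit

theorem alpha_beta : alpha j ≫ beta j = 0 :=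
  NatTrans.ext (funext fun F => kernel.condition ((EtCoh.pullPushAdj j).unit.app F))

theorem unit_app_eq (G : EtCoh.Ab X) (A : X.Etale) (s : G.obj.obj (op A)) :
    ((EtCoh.pullPushAdj j).unit.app G).hom.app (op A) s =
      ((restrIsoPull j).hom.app G).hom.app (op ((EtCoh.bc j).obj A))
        (G.obj.map ((compBcAdj j).counit.app A).op s) := by
  have h1 : ((restrPushAdj j).unit.app G).hom.app (op A) s =
      G.obj.map ((compBcAdj j).counit.app A).op s := by
    simp [restrPushAdj, Adjunction.sheafPushforwardContinuous]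
    rfl
  have h := Adjunction.unit_leftAdjointUniq_hom_app (restrPushAdj j) (EtCoh.pullPushAdj j) G
  have h' := congrArg (fun (m : G ⟶ (EtCoh.push j).obj ((EtCoh.pull j).obj G)) =>
    m.hom.app (op A) s) h
  rw [← h1]
  exact h'.symm

theorem unit_sections_surjective (I : EtCoh.Ab X) [Injective I] (A : X.Etale) :
    Function.Surjective (((EtCoh.pullPushAdj j).unit.app I).hom.app (op A)) := by
  intro t
  haveI : Mono ((compBcAdj j).counit.app A) := by
    haveI : Mono ((compBcAdj j).counit.app A).left :=
      inferInstanceAs (Mono (pullback.fst A.hom j))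
    exact mono_of_left_mono _
  let e := (restrIsoPull j).app I
  let t' := e.inv.hom.app (op ((EtCoh.bc j).obj A)) t
  have ht' : e.hom.hom.app (op ((EtCoh.bc j).obj A)) t' = t := by
    have h0 := app_comp_apply e.inv e.hom ((EtCoh.bc j).obj A) t
    rw [e.inv_hom_id] at h0
    exact h0.symm
  obtain ⟨s, hs⟩ := injective_flasque I ((compBcAdj j).counit.app A) t'
  refine ⟨s, ?_⟩
  rw [unit_app_eq, hs]
  exact ht'

theorem sesOnInj : DerLES.SESOnInj (alpha j) (beta j) (alpha_beta j) := by
  intro I hI
  haveI := hI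
  refine ⟨inferInstanceAs (Mono (kernel.ι (EtDual.unitApp j I))), ?_, ?_⟩
  · exact epi_of_sections_surjective _ (unit_sections_surjective j I)
  · exact ShortComplex.exact_of_f_is_kernel _
      (kernelIsKernel ((EtCoh.pullPushAdj j).unit.app I))

theorem main (F : EtCoh.Ab X) :
    Nonempty (cokernel (EtDual.unitApp j F) ≅ (EtDual.locCoh j 1).obj F) ∧
      ∀ p : ℕ, 1 ≤ p →
        Nonempty ((EtCoh.Rpush j p).obj ((EtCoh.pull j).obj F) ≅
          (EtDual.locCoh j (p + 1)).obj F) := by
  constructor
  · have hβF := DerLES.exact_bdry (alpha j) (beta j) (alpha_beta j) (sesOnInj j) F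
    haveI := DerLES.epi_bdry (alpha j) (beta j) (alpha_beta j) (sesOnInj j) F
      (DerLES.isZero_rightDerived_id F 0)
    exact ⟨IsColimit.coconePointUniqueUpToIso (cokernelIsCokernel ((beta j).app F))
      hβF.gIsCokernel⟩
  · intro p hp
    obtain ⟨n, rfl⟩ : ∃ n, p = n + 1 := ⟨p - 1, by omega⟩
    have e1 := (DerLES.connIso (alpha j) (beta j) (alpha_beta j) (sesOnInj j) (n + 1)
      (fun F => DerLES.isZero_rightDerived_id F n)
      (fun F => DerLES.isZero_rightDerived_id F (n + 1))).app F
    have e2 := (DerComp.natIso (EtCoh.pull j)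
      (fun I hI => by haveI := hI; exact injective_pull_of_etale j I) (EtCoh.push j) (n + 1)).app F
    exact ⟨e2.symm ≪≫ e1⟩

end Groth.Agent.Lib.EtLocCohIso_helper7
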