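import Mathlib
import Groth.Prelude.Def_EtDepth
import Groth.Agent.Lib.EtLocCohIso_helper7
import Groth.Agent.Lib.Horseshoe0_helper9
import Groth.Agent.Lib.DerivedLES2_helper2

/-!
# Étale depth along a closed subset is monotone in the closed subset (helper7)

For open immersions `j : U ⟶ X`, `k : V ⟶ X` with `U ⊆ V` and an abelian sheaf `F` with
`H^p_{X-U}(F) = 0` for `p < n`, also `H^p_{X-V}(F) = 0` for `p < n`.  Induction on `n`, embedding
`F` into `j_* J` (`J` an injective hull of `j^* F`), which has no local cohomology along either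
closed subset.
-/

set_option autoImplicit false
set_option backward.isDefEq.respectTransparency false
set_option linter.style.haveILetI false
set_option linter.unusedSectionVars false
universe u
open CategoryTheory CategoryTheory.Limits AlgebraicGeometry Opposite

namespace Groth.Agent.Lib.EtDepthH7

open Groth.Agent.Lib.EtLocCohIso_helper7 Groth.Agent.Lib.EtJCont_helper7

section Basic

variable {X U : Scheme.{u}} (j : U ⟶ X) [IsOpenImmersion j]

theorem shortExact_onInj (I : EtCoh.Ab X) (hI : Injective I) :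
    (ShortComplex.mk ((alpha j).app I) ((beta j).app I)
      (Groth.Agent.Lib.DerivedLES.app_zero (alpha j) (beta j) (alpha_beta j) I)).ShortExact := by
  obtain ⟨h1, h2, h3⟩ := sesOnInj j I hI
  exact ShortComplex.ShortExact.mk' h3 h1 h2

/-- If `H^0_Y(F) = 0` then the unit `F ⟶ j_* j^* F` is a monomorphism. -/
theorem mono_unit_of_isZero (F : EtCoh.Ab X) (h0 : IsZero ((EtDual.locCoh j 0).obj F)) :
    Mono (EtDual.unitApp j F) := by
  obtain ⟨w', hex⟩ := Groth.Agent.Lib.DerivedLES.exact_αβ (alpha j) (beta j) (alpha_beta j)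
    (shortExact_onInj j) 0 F
  have hf : (NatTrans.rightDerived (alpha j) 0).app F = 0 := h0.eq_of_src _ _
  haveI : Mono ((NatTrans.rightDerived (beta j) 0).app F) := hex.mono_g hf
  have hnat := DerLES.toRightDerivedZero_naturality (beta j) F
  haveI : Mono ((beta j).app F ≫ (EtCoh.pull j ⋙ EtCoh.push j).toRightDerivedZero.app F) := by
    rw [← hnat]
    infer_instance
  exact mono_of_mono ((beta j).app F)
    ((EtCoh.pull j ⋙ EtCoh.push j).toRightDerivedZero.app F)

/-- An injective sheaf whose unit is a monomorphism has no local cohomology. -/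
theorem isZero_locCoh_of_injective (I : EtCoh.Ab X) [Injective I]
    (hm : Mono (EtDual.unitApp j I)) (p : ℕ) : IsZero ((EtDual.locCoh j p).obj I) := by
  cases p with
  | zero =>
    have h1 : IsZero ((EtDual.secSupp j).obj I) := by
      show IsZero (kernel (EtDual.unitApp j I))
      exact isZero_kernel_of_mono _
    exact IsZero.of_iso h1 (asIso ((EtDual.secSupp j).toRightDerivedZero.app I)).symm
  | succ p => exact Functor.isZero_rightDerived_obj_injective_succ _ p I

end Basic

section PushUnit

variable {X V : Scheme.{u}} (k : V ⟶ X)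

/-- The unit of `k_* G` is a (split) monomorphism. -/
theorem mono_unit_push (G : EtCoh.Ab V) :
    Mono (EtDual.unitApp k ((EtCoh.push k).obj G)) :=
  mono_of_mono_fac ((EtCoh.pullPushAdj k).right_triangle_components G)

theorem mono_unit_of_iso {A B : EtCoh.Ab X} (e : A ≅ B) (hB : Mono (EtDual.unitApp k B)) :
    Mono (EtDual.unitApp k A) := by
  have hnat := (EtCoh.pullPushAdj k).unit.naturality e.hom
  haveI : Mono (EtDual.unitApp k A ≫ (EtCoh.push k).map ((EtCoh.pull k).map e.hom)) := by
    have h1 : EtDual.unitApp k A ≫ (EtCoh.push k).map ((EtCoh.pull k).map e.hom) =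
        e.hom ≫ EtDual.unitApp k B := hnat.symm
    rw [h1]
    infer_instance
  exact mono_of_mono (EtDual.unitApp k A) ((EtCoh.push k).map ((EtCoh.pull k).map e.hom))

variable {U : Scheme.{u}} (j : U ⟶ X) [IsOpenImmersion k]

/-- For `U ⊆ V` the unit along `k` of `j_* G` is a monomorphism. -/
theorem mono_unit_push_of_le (hUV : Set.range j.base ⊆ Set.range k.base) (G : EtCoh.Ab U) :
    Mono (EtDual.unitApp k ((EtCoh.push j).obj G)) := by
  obtain ⟨j', hj'⟩ : ∃ j' : U ⟶ V, j' ≫ k = j :=
    ⟨IsOpenImmersion.lift k j hUV, IsOpenImmersion.lift_fac _ _ _⟩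
  have e : (EtCoh.push j).obj G ≅ (EtCoh.push k).obj ((EtCoh.push j').obj G) :=
    ((EtCoh.pushCongr hj'.symm).app G) ≪≫ ((EtCoh.pushComp k j').app G).symm
  exact mono_unit_of_iso k e (mono_unit_push k _)

end PushUnit

section Main

variable {X U V : Scheme.{u}} (j : U ⟶ X) [IsOpenImmersion j] (k : V ⟶ X) [IsOpenImmersion k]

theorem depthGE_mono_aux (hUV : Set.range j.base ⊆ Set.range k.base) :
    ∀ (n : ℕ) (F : EtCoh.Ab X), EtDepth.DepthGE j F n → EtDepth.DepthGE k F n := by
  intro n
  induction n with
  | zero =>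
    intro F _ p hp
    exact absurd hp (Nat.not_lt_zero p)
  | succ n ih =>
    intro F hF
    haveI : PreservesLimitsOfSize.{0, 0} (EtCoh.push j) :=
      (EtCoh.pullPushAdj j).rightAdjoint_preservesLimits
    haveI : PreservesFiniteLimits (EtCoh.push j) := PreservesLimitsOfSize.preservesFiniteLimits _
    haveI hm0 : Mono (EtDual.unitApp j F) := mono_unit_of_isZero j F (hF 0 (Nat.succ_pos n))
    obtain ⟨I, hI⟩ : ∃ I : EtCoh.Ab X,
        I = (EtCoh.push j).obj (Injective.under ((EtCoh.pull j).obj F)) := ⟨_, rfl⟩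
    obtain ⟨a, ha⟩ : ∃ a : F ⟶ (EtCoh.push j).obj (Injective.under ((EtCoh.pull j).obj F)),
        a = EtDual.unitApp j F ≫ (EtCoh.push j).map (Injective.ι ((EtCoh.pull j).obj F)) :=
      ⟨_, rfl⟩
    haveI : Mono a := by
      rw [ha]
      infer_instance
    haveI hinj : Injective ((EtCoh.push j).obj (Injective.under ((EtCoh.pull j).obj F))) :=
      injective_push j _
    obtain ⟨S, hS⟩ : ∃ S : ShortComplex (EtCoh.Ab X),
        S = ShortComplex.mk a (cokernel.π a) (cokernel.condition a) := ⟨_, rfl⟩
    have hSe : S.ShortExact := by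
      subst hS
      exact { exact := ShortComplex.exact_cokernel a }
    have hX₁ : S.X₁ = F := by subst hS; rfl
    have hX₂ : S.X₂ = (EtCoh.push j).obj (Injective.under ((EtCoh.pull j).obj F)) := by
      subst hS; rfl
    have hIj : ∀ p : ℕ, IsZero ((EtDual.locCoh j p).obj S.X₂) := by
      intro p
      rw [hX₂]
      exact isZero_locCoh_of_injective j _ (mono_unit_push j _) p
    have hIk : ∀ p : ℕ, IsZero ((EtDual.locCoh k p).obj S.X₂) := by
      intro p
      rw [hX₂]
      exact isZero_locCoh_of_injective k _ (mono_unit_push_of_le k j hUV _) p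
    have hFj : ∀ p : ℕ, p < n + 1 → IsZero ((EtDual.locCoh j p).obj S.X₁) := by
      intro p hp
      rw [hX₁]
      exact hF p hp
    -- the quotient has depth `≥ n` along `Y`
    have hQ : EtDepth.DepthGE j S.X₃ n := by
      intro p hp
      have hex := (Groth.Agent.Lib.Horseshoe0.derivedLES (EtDual.secSupp j)).exact₃ S hSe p (p + 1)
        rfl
      exact hex.isZero_X₂ ((hIj p).eq_of_src _ _) ((hFj (p + 1) (Nat.succ_lt_succ hp)).eq_of_tgt _ _)
    have hQk : EtDepth.DepthGE k S.X₃ n := ih S.X₃ hQ
    have hgoal : ∀ p : ℕ, p < n + 1 → IsZero ((EtDual.locCoh k p).obj S.X₁) := by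
      intro p hp
      cases p with
      | zero =>
        haveI := Groth.Agent.Lib.Horseshoe0.mono_rightDerivedZero_map (EtDual.secSupp k)
          (Groth.Agent.Lib.Horseshoe0.sesRes S hSe)
        exact IsZero.of_mono (((EtDual.secSupp k).rightDerived 0).map S.f) (hIk 0)
      | succ p =>
        have hex := (Groth.Agent.Lib.Horseshoe0.derivedLES (EtDual.secSupp k)).exact₁ S hSe p
          (p + 1) rfl
        exact hex.isZero_X₂ ((hQk p (Nat.lt_of_succ_lt_succ hp)).eq_of_src _ _)
          ((hIk (p + 1)).eq_of_tgt _ _)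
    intro p hp
    have h := hgoal p hp
    rw [hX₁] at h
    exact h

theorem main5176 (hUV : Set.range j.base ⊆ Set.range k.base) (F : EtCoh.Ab X) (n : ℕ)
    (h : EtDepth.DepthGE j F n) : EtDepth.DepthGE k F n :=
  depthGE_mono_aux j k hUV n F h

end Main

end Groth.Agent.Lib.EtDepthH7
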