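import Mathlib

/-!
# Bijectivity of the maps on `Ext` induced by an exact functor, by dimension shifting
-/

set_option autoImplicit false
universe w w' v v' u u'
open CategoryTheory Limits Abelian

namespace Groth.Agent.Lib.ExtMapBij

variable {A : Type u} [Category.{v} A] [Abelian A] [HasExt.{w} A]
  {B : Type u'} [Category.{v'} B] [Abelian B] [HasExt.{w'} B]
  (Φ : A ⥤ B) [Φ.Additive] [PreservesFiniteLimits Φ] [PreservesFiniteColimits Φ]
  {K : A} {K' : B} (c : K' ⟶ Φ.obj K)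

/-- the comparison map `Ext^i(K, F) → Ext^i(K', Φ F)` induced by `Φ` and `c : K' ⟶ Φ K` -/
noncomputable def cmp (F : A) (i : ℕ) : Ext K F i →+ Ext K' (Φ.obj F) i :=
  ((Ext.mk₀ c).precomp (Φ.obj F) (zero_add i)).comp (Φ.mapExtAddHom K F i)

lemma cmp_apply (F : A) (i : ℕ) (x : Ext K F i) :
    cmp Φ c F i x = (Ext.mk₀ c).comp (x.mapExactFunctor Φ) (zero_add i) := rfl

lemma cmp_comp_mk₀ {F G : A} (φ : F ⟶ G) (i : ℕ) (x : Ext K F i) :
    cmp Φ c G i (x.comp (Ext.mk₀ φ) (add_zero i)) =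
      (cmp Φ c F i x).comp (Ext.mk₀ (Φ.map φ)) (add_zero i) := by
  rw [cmp_apply, cmp_apply, Ext.mapExactFunctor_comp, Ext.mapExactFunctor_mk₀,
    Ext.comp_assoc_of_third_deg_zero]

lemma cmp_comp_extClass {S : ShortComplex A} (hS : S.ShortExact) (i : ℕ) (x : Ext K S.X₃ i) :
    cmp Φ c S.X₁ (i + 1) (x.comp hS.extClass rfl) =
      (cmp Φ c S.X₃ i x).comp (hS.map_of_exact Φ).extClass rfl := by
  rw [cmp_apply, cmp_apply, Ext.mapExactFunctor_comp, Ext.mapExactFunctor_extClass]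
  exact (Ext.comp_assoc _ _ _ (zero_add i) rfl (by omega)).symm

variable [EnoughInjectives A]

theorem cmp_bijective (h0 : ∀ F, Function.Bijective (cmp Φ c F 0))
    (hinj : ∀ (I : A), Injective I → ∀ (i : ℕ) (ξ : Ext K' (Φ.obj I) (i + 1)), ξ = 0) :
    ∀ (i : ℕ) (F : A), Function.Bijective (cmp Φ c F i) := by
  intro i
  induction i with
  | zero => exact h0
  | succ i ih =>
    intro F
    obtain ⟨S, hS⟩ : ∃ S : ShortComplex A, S = ShortComplex.mk (Injective.ι F) (cokernel.π _)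
      (cokernel.condition _) := ⟨_, rfl⟩
    have hSe : S.ShortExact := by
      subst hS
      exact { exact := ShortComplex.exact_cokernel _ }
    haveI : Injective S.X₂ := by
      subst hS
      exact inferInstanceAs (Injective (Injective.under F))
    have hX₁ : S.X₁ = F := by subst hS; rfl
    subst hX₁
    have hS' := hSe.map_of_exact Φ
    constructor
    · rw [injective_iff_map_eq_zero]
      intro x hx
      have h1 : x.comp (Ext.mk₀ S.f) (add_zero (i + 1)) = 0 := Ext.eq_zero_of_injective _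
      obtain ⟨x', rfl⟩ := Ext.covariant_sequence_exact₁ K hSe x h1 rfl
      rw [cmp_comp_extClass] at hx
      obtain ⟨w, hw⟩ := Ext.covariant_sequence_exact₃ K' hS' (cmp Φ c S.X₃ i x') rfl hx
      obtain ⟨v, rfl⟩ := (ih S.X₂).2 w
      have h2 : cmp Φ c S.X₃ i x' = cmp Φ c S.X₃ i (v.comp (Ext.mk₀ S.g) (add_zero i)) := by
        rw [cmp_comp_mk₀]
        exact hw.symm
      rw [(ih S.X₃).1 h2, Ext.comp_assoc_of_second_deg_zero, hSe.comp_extClass, Ext.comp_zero]
    · intro y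
      have h1 : y.comp (Ext.mk₀ (S.map Φ).f) (add_zero (i + 1)) = 0 :=
        hinj S.X₂ inferInstance i _
      obtain ⟨z, rfl⟩ := Ext.covariant_sequence_exact₁ K' hS' y h1 rfl
      obtain ⟨x, rfl⟩ := (ih S.X₃).2 z
      exact ⟨x.comp hSe.extClass rfl, cmp_comp_extClass Φ c hSe i x⟩

end Groth.Agent.Lib.ExtMapBij
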