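import Mathlib

/-!
# Truncated comparison of `Ext` groups along an exact functor, by dimension shifting

For an exact additive functor `Φ`, a family of comparison maps
`φ M p : Ext^p(K, M) → Ext^p(K', Φ M)` compatible with composition by morphisms and with connecting
classes, and a short exact sequence `0 → X₁ → X₂ → X₃ → 0` whose middle term is acyclic on both
sides and has bijective degree-zero comparison, the comparison maps of `X₃` are bijective below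
`n - 1` and injective in degree `n - 1` iff those of `X₁` are so with `n + 1` in place of `n`.
-/

set_option autoImplicit false
set_option linter.style.haveILetI false
set_option linter.unusedSectionVars false
universe w w' v v' u u'
open CategoryTheory Limits Abelian

namespace Groth.Agent.Lib.ExtTruncH7

variable {A : Type u} [Category.{v} A] [Abelian A] [HasExt.{w} A]
  {B : Type u'} [Category.{v'} B] [Abelian B] [HasExt.{w'} B]
  {Φ : A ⥤ B} [Φ.Additive] [PreservesFiniteLimits Φ] [PreservesFiniteColimits Φ]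
  {K : A} {K' : B}
  (φ : ∀ (M : A) (p : ℕ), Ext K M p →+ Ext K' (Φ.obj M) p)

/-- the comparison maps of `M` are bijective in degrees `< n - 1` and injective in degree `n - 1` -/
def Cond (M : A) (n : ℕ) : Prop :=
  (∀ p : ℕ, p + 1 < n → Function.Bijective (φ M p)) ∧
  (∀ p : ℕ, p + 1 = n → Function.Injective (φ M p))

lemma Cond.injective {M : A} {n : ℕ} (h : Cond φ M n) (p : ℕ) (hp : p + 1 ≤ n) :
    Function.Injective (φ M p) := by
  rcases Nat.lt_or_eq_of_le hp with h1 | h1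
  · exact (h.1 p h1).1
  · exact h.2 p h1

lemma Cond.zero (M : A) : Cond φ M 0 :=
  ⟨fun p hp => absurd hp (by omega), fun p hp => absurd hp (by omega)⟩

variable
  (hφ₀ : ∀ {F G : A} (g : F ⟶ G) (i : ℕ) (x : Ext K F i),
    φ G i (x.comp (Ext.mk₀ g) (add_zero i)) = (φ F i x).comp (Ext.mk₀ (Φ.map g)) (add_zero i))
  (hφ₁ : ∀ {S : ShortComplex A} (hS : S.ShortExact) (i : ℕ) (x : Ext K S.X₃ i),
    φ S.X₁ (i + 1) (x.comp hS.extClass rfl) =
      (φ S.X₃ i x).comp (hS.map_of_exact Φ).extClass rfl)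
  {S : ShortComplex A} (hS : S.ShortExact)
  (ha : ∀ (p : ℕ) (x : Ext K S.X₂ (p + 1)), x = 0)
  (hb : ∀ (p : ℕ) (y : Ext K' (Φ.obj S.X₂) (p + 1)), y = 0)
  (hc : Function.Bijective (φ S.X₂ 0))

include hb hc in
lemma surj₂ (p : ℕ) (w : Ext K' (Φ.obj S.X₂) p) : ∃ v : Ext K S.X₂ p, φ S.X₂ p v = w := by
  cases p with
  | zero => exact hc.2 w
  | succ p => exact ⟨0, (map_zero _).trans (hb p w).symm⟩

include ha hc in
lemma inj₂ (p : ℕ) : Function.Injective (φ S.X₂ p) := by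
  cases p with
  | zero => exact hc.1
  | succ p =>
    intro x y _
    exact (ha p x).trans (ha p y).symm

include hφ₀ hS hc in
lemma inj_X₁_zero : Function.Injective (φ S.X₁ 0) := by
  haveI := hS.mono_f
  rw [injective_iff_map_eq_zero]
  intro x hx
  have h1 : φ S.X₂ 0 (x.comp (Ext.mk₀ S.f) (add_zero 0)) = 0 := by
    rw [hφ₀, hx, Ext.zero_comp]
  have h2 : x.comp (Ext.mk₀ S.f) (add_zero 0) = 0 := hc.1 (h1.trans (map_zero _).symm)
  have h3 : (Ext.mk₀ S.f).postcomp K (add_zero 0) x = (Ext.mk₀ S.f).postcomp K (add_zero 0) 0 :=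
    h2.trans (map_zero _).symm
  exact Ext.postcomp_mk₀_injective_of_mono K S.f h3

include hφ₀ hS hc in
lemma surj_X₁_zero (h3 : Function.Injective (φ S.X₃ 0)) :
    Function.Surjective (φ S.X₁ 0) := by
  haveI := hS.mono_f
  haveI : Mono (Φ.map S.f) := (hS.map_of_exact Φ).mono_f
  intro y
  obtain ⟨x₂, hx₂⟩ := hc.2 (y.comp (Ext.mk₀ (Φ.map S.f)) (add_zero 0))
  have h4 : φ S.X₃ 0 (x₂.comp (Ext.mk₀ S.g) (add_zero 0)) = 0 := by
    rw [hφ₀, hx₂, Ext.comp_assoc_of_third_deg_zero, Ext.mk₀_comp_mk₀, ← Φ.map_comp,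
      S.zero, Φ.map_zero, Ext.mk₀_zero, Ext.comp_zero]
  have h5 : x₂.comp (Ext.mk₀ S.g) (add_zero 0) = 0 := h3 (h4.trans (map_zero _).symm)
  obtain ⟨x₁, hx₁⟩ := Ext.covariant_sequence_exact₂ K hS x₂ h5
  refine ⟨x₁, ?_⟩
  have h6 : (φ S.X₁ 0 x₁).comp (Ext.mk₀ (Φ.map S.f)) (add_zero 0) =
      y.comp (Ext.mk₀ (Φ.map S.f)) (add_zero 0) :=
    (hφ₀ S.f 0 x₁).symm.trans ((congrArg (φ S.X₂ 0) hx₁).trans hx₂)
  have h7 : (Ext.mk₀ (Φ.map S.f)).postcomp K' (add_zero 0) (φ S.X₁ 0 x₁) =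
      (Ext.mk₀ (Φ.map S.f)).postcomp K' (add_zero 0) y := h6
  exact Ext.postcomp_mk₀_injective_of_mono K' (Φ.map S.f) h7

include hφ₀ hφ₁ hS ha hb hc in
lemma inj_X₁_succ (p : ℕ) (h3 : Function.Injective (φ S.X₃ p)) :
    Function.Injective (φ S.X₁ (p + 1)) := by
  rw [injective_iff_map_eq_zero]
  intro x hx
  have h1 : x.comp (Ext.mk₀ S.f) (add_zero (p + 1)) = 0 := ha p _
  obtain ⟨x', rfl⟩ := Ext.covariant_sequence_exact₁ K hS x h1 rfl
  have hx' : (φ S.X₃ p x').comp (hS.map_of_exact Φ).extClass rfl = 0 :=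
    (hφ₁ hS p x').symm.trans hx
  obtain ⟨w, hw⟩ := Ext.covariant_sequence_exact₃ K' (hS.map_of_exact Φ)
    (φ S.X₃ p x') rfl hx'
  obtain ⟨v, rfl⟩ := surj₂ φ hb hc p w
  have h2 : φ S.X₃ p x' = φ S.X₃ p (v.comp (Ext.mk₀ S.g) (add_zero p)) :=
    hw.symm.trans (hφ₀ S.g p v).symm
  rw [h3 h2, Ext.comp_assoc_of_second_deg_zero, hS.comp_extClass, Ext.comp_zero]

include hφ₁ hS hb in
lemma surj_X₁_succ (p : ℕ) (h3 : Function.Surjective (φ S.X₃ p)) :
    Function.Surjective (φ S.X₁ (p + 1)) := by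
  intro y
  have h1 : y.comp (Ext.mk₀ (S.map Φ).f) (add_zero (p + 1)) = 0 := hb p _
  obtain ⟨z, rfl⟩ := Ext.covariant_sequence_exact₁ K' (hS.map_of_exact Φ) y h1 rfl
  obtain ⟨x, rfl⟩ := h3 z
  exact ⟨x.comp hS.extClass rfl, hφ₁ hS p x⟩

include hφ₀ hφ₁ hS ha hb hc in
/-- dimension shifting, first direction -/
theorem cond_X₁ (n : ℕ) (h : Cond φ S.X₃ n) : Cond φ S.X₁ (n + 1) := by
  constructor
  · intro p hp
    cases p with
    | zero =>
      exact ⟨inj_X₁_zero φ hφ₀ hS hc, surj_X₁_zero φ hφ₀ hS hc (h.injective φ 0 (by omega))⟩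
    | succ p =>
      exact ⟨inj_X₁_succ φ hφ₀ hφ₁ hS ha hb hc p (h.injective φ p (by omega)),
        surj_X₁_succ φ hφ₁ hS hb p (h.1 p (by omega)).2⟩
  · intro p hp
    cases p with
    | zero => exact inj_X₁_zero φ hφ₀ hS hc
    | succ p => exact inj_X₁_succ φ hφ₀ hφ₁ hS ha hb hc p (h.injective φ p (by omega))

include hφ₀ hφ₁ hS ha hc in
lemma inj_X₃ (p : ℕ) (i1 : Function.Injective (φ S.X₁ (p + 1)))
    (s1 : Function.Surjective (φ S.X₁ p)) : Function.Injective (φ S.X₃ p) := by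
  rw [injective_iff_map_eq_zero]
  intro x₃ hx
  have h1 : φ S.X₁ (p + 1) (x₃.comp hS.extClass rfl) = 0 :=
    (hφ₁ hS p x₃).trans ((congrArg (fun t => t.comp (hS.map_of_exact Φ).extClass rfl) hx).trans
      (Ext.zero_comp _ _ _ _ _))
  have h2 : x₃.comp hS.extClass rfl = 0 := i1 (h1.trans (map_zero _).symm)
  obtain ⟨x₂, rfl⟩ := Ext.covariant_sequence_exact₃ K hS x₃ rfl h2
  have h3 : (φ S.X₂ p x₂).comp (Ext.mk₀ (S.map Φ).g) (add_zero p) = 0 :=
    (hφ₀ S.g p x₂).symm.trans hx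
  obtain ⟨y₁, hy₁⟩ := Ext.covariant_sequence_exact₂ K' (hS.map_of_exact Φ) _ h3
  obtain ⟨x₁, rfl⟩ := s1 y₁
  have h4 : φ S.X₂ p x₂ = φ S.X₂ p (x₁.comp (Ext.mk₀ S.f) (add_zero p)) :=
    hy₁.symm.trans (hφ₀ S.f p x₁).symm
  rw [inj₂ φ ha hc p h4, Ext.comp_assoc_of_third_deg_zero, Ext.mk₀_comp_mk₀, S.zero,
    Ext.mk₀_zero, Ext.comp_zero]

include hφ₀ hφ₁ hS ha hb hc in
lemma surj_X₃ (p : ℕ) (s1 : Function.Surjective (φ S.X₁ (p + 1))) :
    Function.Surjective (φ S.X₃ p) := by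
  intro y₃
  obtain ⟨x₁, hx₁⟩ := s1 (y₃.comp (hS.map_of_exact Φ).extClass rfl)
  have h1 : x₁.comp (Ext.mk₀ S.f) (add_zero (p + 1)) = 0 := ha p _
  obtain ⟨x₃, rfl⟩ := Ext.covariant_sequence_exact₁ K hS x₁ h1 rfl
  have e1 : (φ S.X₃ p x₃).comp (hS.map_of_exact Φ).extClass rfl =
      y₃.comp (hS.map_of_exact Φ).extClass rfl :=
    (hφ₁ hS p x₃).symm.trans hx₁
  have h2 : (y₃ - φ S.X₃ p x₃).comp (hS.map_of_exact Φ).extClass rfl = 0 := by
    rw [sub_eq_add_neg, Ext.add_comp, Ext.neg_comp, e1, add_neg_cancel]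
  obtain ⟨w, hw⟩ := Ext.covariant_sequence_exact₃ K' (hS.map_of_exact Φ) _ rfl h2
  obtain ⟨v, rfl⟩ := surj₂ φ hb hc p w
  refine ⟨x₃ + v.comp (Ext.mk₀ S.g) (add_zero p), ?_⟩
  have e2 : φ S.X₃ p (v.comp (Ext.mk₀ S.g) (add_zero p)) = y₃ - φ S.X₃ p x₃ :=
    (hφ₀ S.g p v).trans hw
  rw [map_add, e2]
  abel

include hφ₀ hφ₁ hS ha hb hc in
/-- dimension shifting, second direction -/
theorem cond_X₃ (n : ℕ) (h : Cond φ S.X₁ (n + 1)) : Cond φ S.X₃ n := by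
  constructor
  · intro p hp
    exact ⟨inj_X₃ φ hφ₀ hφ₁ hS ha hc p (h.injective φ (p + 1) (by omega)) (h.1 p (by omega)).2,
      surj_X₃ φ hφ₀ hφ₁ hS ha hb hc p (h.1 (p + 1) (by omega)).2⟩
  · intro p hp
    exact inj_X₃ φ hφ₀ hφ₁ hS ha hc p (h.injective φ (p + 1) (by omega)) (h.1 p (by omega)).2

end Groth.Agent.Lib.ExtTruncH7
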