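import Mathlib
import Groth.Prelude.Def_EtDepth
import Groth.Agent.Lib.EtDepthMono_helper7
import Groth.Agent.Lib.ExtTrunc_helper7
import Groth.Agent.Lib.ExtMapBij_helper2

/-!
# Étale depth along a closed subset and restriction maps on étale schemes (helper7)

`H^p_Y(F) = 0` for `p < n` iff for every étale `X' → X` the restriction maps
`H^p(X', F) → H^p(X' ×_X U, F)` are bijective for `p < n - 1` and injective for `p = n - 1`.
Both directions by induction on `n`, embedding `F` into `j_* J` with `J` injective, and an abstract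
dimension shifting argument (`ExtTrunc_helper7`).  The degree zero comparison map is identified with
a restriction map of sections.
-/

set_option autoImplicit false
set_option backward.isDefEq.respectTransparency false
set_option linter.style.haveILetI false
set_option linter.unusedSectionVars false
universe u
open CategoryTheory CategoryTheory.Limits AlgebraicGeometry Opposite

namespace Groth.Agent.Lib.EtDepthEtH7

open Groth.Agent.Lib.EtLocCohIso_helper7 Groth.Agent.Lib.EtJCont_helper7
  Groth.Agent.Lib.EtFlasque_helper7 Groth.Agent.Lib.EtOpenShriek_helper7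
  Groth.Agent.Lib.EtExtFr_helper7 Groth.Agent.Lib.EtHpull0_helper7
  Groth.Agent.Lib.ExtMapBij Groth.Agent.Lib.ExtTruncH7 Groth.Agent.Lib.EtSchSite_helper7
  Groth.Agent.Lib.EtDepthH7

section Generic

theorem sq_iff {α β α' β' : Type*} {f : α → β} {f' : α' → β'} {a : α → α'} {b : β → β'}
    (ha : Function.Bijective a) (hb : Function.Bijective b) (h : ∀ x, b (f x) = f' (a x)) :
    (Function.Injective f ↔ Function.Injective f') ∧
      (Function.Surjective f ↔ Function.Surjective f') := by
  have hc : b ∘ f = f' ∘ a := funext h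
  constructor
  · rw [← Function.Injective.of_comp_iff hb.injective f, hc,
      Function.Injective.of_comp_iff' f' ha]
  · rw [← Function.Surjective.of_comp_iff' hb f, hc,
      Function.Surjective.of_comp_iff f' ha.surjective]

end Generic

section Sheaf

variable {X : Scheme.{u}}

theorem map_iso_bijective (M : EtCoh.Ab X) {A B : X.Etale} (e : A ≅ B) :
    Function.Bijective (M.obj.map e.hom.op) := by
  refine Function.bijective_iff_has_inverse.2 ⟨M.obj.map e.inv.op, ?_, ?_⟩
  · intro x
    exact (map_comp_apply M e.inv e.hom x).symm.trans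
      ((congrArg (fun m => M.obj.map (Quiver.Hom.op m) x) e.inv_hom_id).trans
        (map_id_apply M B x))
  · intro x
    exact (map_comp_apply M e.hom e.inv x).symm.trans
      ((congrArg (fun m => M.obj.map (Quiver.Hom.op m) x) e.hom_inv_id).trans
        (map_id_apply M A x))

theorem app_iso_bijective {F G : EtCoh.Ab X} (e : F ≅ G) (A : X.Etale) :
    Function.Bijective (e.hom.hom.app (op A)) := by
  refine Function.bijective_iff_has_inverse.2 ⟨e.inv.hom.app (op A), ?_, ?_⟩
  · intro x
    exact (app_comp_apply e.hom e.inv A x).symm.trans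
      (congrArg (fun (m : F ⟶ F) => m.hom.app (op A) x) e.hom_inv_id)
  · intro x
    exact (app_comp_apply e.inv e.hom A x).symm.trans
      (congrArg (fun (m : G ⟶ G) => m.hom.app (op A) x) e.inv_hom_id)

theorem mono_of_sections_injective {B C : EtCoh.Ab X} (β : B ⟶ C)
    (h : ∀ A : X.Etale, Function.Injective (β.hom.app (op A))) : Mono β := by
  apply Preadditive.mono_of_cancel_zero
  intro G γ hγ
  have key : ∀ (A : X.Etale) (c : G.obj.obj (op A)), γ.hom.app (op A) c = 0 := by
    intro A c
    apply h A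
    have := congrArg (fun (m : G ⟶ C) => m.hom.app (op A) c) hγ
    exact this.trans (map_zero (β.hom.app (op A)).hom).symm
  ext A c
  exact key A.unop c

end Sheaf

section Squares

theorem Hpull_apply {Y X' : Scheme.{u}} (f : Y ⟶ X') [PreservesFiniteLimits (EtCoh.pull f)]
    (G : EtCoh.Ab X') (n : ℕ) (x : EtCoh.H X' G n) :
    EtCore.Hpull f G n x = (Abelian.Ext.mk₀ (EtCore.pullConst f ℤ).inv).comp
      (Abelian.Ext.mapExactFunctor (EtCoh.pull f) x) (zero_add n) := rfl

theorem Hpull_eq_cmp {Y X' : Scheme.{u}} (f : Y ⟶ X') [PreservesFiniteLimits (EtCoh.pull f)]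
    (G : EtCoh.Ab X') (n : ℕ) (x : EtCoh.H X' G n) :
    EtCore.Hpull f G n x = cmp (EtCoh.pull f) (EtCore.pullConst f ℤ).inv G n x :=
  (Hpull_apply f G n x).trans (cmp_apply (EtCoh.pull f) (EtCore.pullConst f ℤ).inv G n x).symm

theorem Hpull_comp_mk₀ {Y X' : Scheme.{u}} (f : Y ⟶ X') [PreservesFiniteLimits (EtCoh.pull f)]
    {F G : EtCoh.Ab X'} (g : F ⟶ G) (i : ℕ) (x : EtCoh.H X' F i) :
    EtCore.Hpull f G i (x.comp (Abelian.Ext.mk₀ g) (add_zero i)) =
      (EtCore.Hpull f F i x).comp (Abelian.Ext.mk₀ ((EtCoh.pull f).map g)) (add_zero i) :=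
  (Hpull_eq_cmp f G i _).trans
    ((cmp_comp_mk₀ (EtCoh.pull f) (EtCore.pullConst f ℤ).inv g i x).trans
      (congrArg (fun t => t.comp (Abelian.Ext.mk₀ ((EtCoh.pull f).map g)) (add_zero i))
        (Hpull_eq_cmp f F i x).symm))

theorem Hpull_comp_extClass {Y X' : Scheme.{u}} (f : Y ⟶ X')
    [PreservesFiniteLimits (EtCoh.pull f)]
    {S : ShortComplex (EtCoh.Ab X')} (hS : S.ShortExact) (i : ℕ) (x : EtCoh.H X' S.X₃ i) :
    EtCore.Hpull f S.X₁ (i + 1) (x.comp hS.extClass rfl) =
      (EtCore.Hpull f S.X₃ i x).comp (hS.map_of_exact (EtCoh.pull f)).extClass rfl :=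
  (Hpull_eq_cmp f S.X₁ (i + 1) _).trans
    ((cmp_comp_extClass (EtCoh.pull f) (EtCore.pullConst f ℤ).inv hS i x).trans
      (congrArg (fun t => t.comp (hS.map_of_exact (EtCoh.pull f)).extClass rfl)
        (Hpull_eq_cmp f S.X₃ i x).symm))

theorem Hpull_mk₀ {Y X' : Scheme.{u}} (f : Y ⟶ X') [PreservesFiniteLimits (EtCoh.pull f)]
    (G : EtCoh.Ab X') (χ : EtCoh.const X' ℤ ⟶ G) :
    EtCore.Hpull f G 0 (Abelian.Ext.mk₀ χ) =
      Abelian.Ext.mk₀ ((EtCore.pullConst f ℤ).inv ≫ (EtCoh.pull f).map χ) := by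
  rw [Hpull_apply, Abelian.Ext.mapExactFunctor_mk₀, Abelian.Ext.mk₀_comp_mk₀]

theorem sq1 {Y X' : Scheme.{u}} (f : Y ⟶ X') [PreservesFiniteLimits (EtCoh.pull f)]
    (G : EtCoh.Ab X') :
    (Function.Injective (fun χ : EtCoh.const X' ℤ ⟶ G =>
        (EtCore.pullConst f ℤ).inv ≫ (EtCoh.pull f).map χ) ↔
      Function.Injective (EtCore.Hpull f G 0)) ∧
    (Function.Surjective (fun χ : EtCoh.const X' ℤ ⟶ G =>
        (EtCore.pullConst f ℤ).inv ≫ (EtCoh.pull f).map χ) ↔
      Function.Surjective (EtCore.Hpull f G 0)) := by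
  refine sq_iff (a := fun χ : EtCoh.const X' ℤ ⟶ G => (Abelian.Ext.mk₀ χ : EtCoh.H X' G 0))
    (b := fun ψ : EtCoh.const Y ℤ ⟶ (EtCoh.pull f).obj G =>
      (Abelian.Ext.mk₀ ψ : EtCoh.H Y ((EtCoh.pull f).obj G) 0))
    (Abelian.Ext.mk₀_bijective _ _) (Abelian.Ext.mk₀_bijective _ _) ?_
  intro χ
  exact (Hpull_mk₀ f G χ).symm

theorem sq2 {X' : Scheme.{u}} (W' : X'.Etale) (G : EtCoh.Ab X') :
    (Function.Injective (fun χ : EtCoh.const X' ℤ ⟶ G =>
        (EtCore.pullConst W'.hom ℤ).inv ≫ (EtCoh.pull W'.hom).map χ) ↔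
      Function.Injective (G.obj.map (toTop W').op)) ∧
    (Function.Surjective (fun χ : EtCoh.const X' ℤ ⟶ G =>
        (EtCore.pullConst W'.hom ℤ).inv ≫ (EtCoh.pull W'.hom).map χ) ↔
      Function.Surjective (G.obj.map (toTop W').op)) := by
  have hb : Function.Bijective
      (fun ψ : EtCoh.const W'.left ℤ ⟶ (EtCoh.pull W'.hom).obj G => secInv W' G (Γhom _ ψ)) :=
    (Function.bijective_iff_has_inverse.2
      ⟨secIso W' G, secIso_secInv W' G, secInv_secIso W' G⟩).comp (Γhom _).bijective
  refine sq_iff (a := fun χ : EtCoh.const X' ℤ ⟶ G => Γhom G χ)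
    (b := fun ψ : EtCoh.const W'.left ℤ ⟶ (EtCoh.pull W'.hom).obj G => secInv W' G (Γhom _ ψ))
    (Γhom G).bijective hb ?_
  intro χ
  exact (congrArg (secInv W' G) (Γhom_pullConst_inv_comp' W' G χ)).trans (secInv_secIso W' G _)

variable {X : Scheme.{u}}

theorem sq3 (W : X.Etale) (M : EtCoh.Ab X) {A B : W.left.Etale} (m : A ⟶ B) :
    (Function.Injective (((EtCoh.pull W.hom).obj M).obj.map m.op) ↔
      Function.Injective (M.obj.map ((EtShriek.compEtale W.hom).map m).op)) ∧
    (Function.Surjective (((EtCoh.pull W.hom).obj M).obj.map m.op) ↔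
      Function.Surjective (M.obj.map ((EtShriek.compEtale W.hom).map m).op)) := by
  obtain ⟨e, he⟩ : ∃ e : (EtShriek.restrAlong W.hom).obj M ≅ (EtCoh.pull W.hom).obj M,
      e = (restrIsoPull W.hom).app M := ⟨_, rfl⟩
  refine sq_iff (a := e.inv.hom.app (op B)) (b := e.inv.hom.app (op A))
    (app_iso_bijective e.symm B) (app_iso_bijective e.symm A) ?_
  intro x
  exact app_map_apply e.inv m x

theorem sq4 (M : EtCoh.Ab X) {A B A' B' : X.Etale} (m : A ⟶ B) (m' : A' ⟶ B') (eA : A ≅ A')
    (eB : B ≅ B') (h : eA.hom ≫ m' = m ≫ eB.hom) :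
    (Function.Injective (M.obj.map m.op) ↔ Function.Injective (M.obj.map m'.op)) ∧
    (Function.Surjective (M.obj.map m.op) ↔ Function.Surjective (M.obj.map m'.op)) := by
  have h' : eA.inv ≫ m = m' ≫ eB.inv := by
    rw [Iso.inv_comp_eq, ← Category.assoc, Iso.eq_comp_inv]
    exact h.symm
  refine sq_iff (a := M.obj.map eB.inv.op) (b := M.obj.map eA.inv.op)
    (map_iso_bijective M eB.symm) (map_iso_bijective M eA.symm) ?_
  intro x
  exact (map_comp_apply M eA.inv m x).symm.trans
    ((congrArg (fun k => M.obj.map (Quiver.Hom.op k) x) h').trans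
      (map_comp_apply M m' eB.inv x))

end Squares

section DegreeZero

variable {X U : Scheme.{u}} (j : U ⟶ X) [IsOpenImmersion j]

/-- the open subscheme `W ×_X U` of an étale `X`-scheme `W`, as an object of the small étale site
of `W` -/
noncomputable abbrev Wj (W : X.Etale) : W.left.Etale := Scheme.Etale.mk (pullback.snd j W.hom)

/-- the two descriptions of `W ×_X U` as an étale `X`-scheme -/
noncomputable def theta (W : X.Etale) :
    (EtShriek.compEtale W.hom).obj (Wj j W) ≅ (EtShriek.compEtale j).obj ((EtCoh.bc j).obj W) :=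
  MorphismProperty.Over.isoMk (pullbackSymmetry j W.hom) (by
    show (pullbackSymmetry j W.hom).hom ≫ (pullback.snd W.hom j ≫ j) =
      pullback.snd j W.hom ≫ W.hom
    rw [← Category.assoc, pullbackSymmetry_hom_comp_snd]
    exact pullback.condition)

theorem theta_comm (W : X.Etale) :
    (theta j W).hom ≫ (compBcAdj j).counit.app W =
      (EtShriek.compEtale W.hom).map (toTop (Wj j W)) ≫ (eW W).hom := by
  refine MorphismProperty.Over.Hom.ext ?_
  have h1 : (toTop (Wj j W)).left = pullback.snd j W.hom := by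
    have := MorphismProperty.Over.w (toTop (Wj j W))
    exact (Category.comp_id _).symm.trans this
  show (pullbackSymmetry j W.hom).hom ≫ pullback.fst W.hom j = (toTop (Wj j W)).left ≫ 𝟙 _
  rw [pullbackSymmetry_hom_comp_fst, h1, Category.comp_id]

/-- the degree zero restriction map to `W ×_X U` is the restriction of sections -/
theorem p0 (W : X.Etale) (M : EtCoh.Ab X) :
    (Function.Injective (EtCore.Hpull (pullback.snd j W.hom) ((EtCoh.pull W.hom).obj M) 0) ↔
      Function.Injective (M.obj.map ((compBcAdj j).counit.app W).op)) ∧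
    (Function.Surjective (EtCore.Hpull (pullback.snd j W.hom) ((EtCoh.pull W.hom).obj M) 0) ↔
      Function.Surjective (M.obj.map ((compBcAdj j).counit.app W).op)) := by
  have s1 := sq1 (Wj j W).hom ((EtCoh.pull W.hom).obj M)
  have s2 := sq2 (Wj j W) ((EtCoh.pull W.hom).obj M)
  have s3 := sq3 W M (toTop (Wj j W))
  have s4 := sq4 M ((EtShriek.compEtale W.hom).map (toTop (Wj j W)))
    ((compBcAdj j).counit.app W) (theta j W) (eW W) (theta_comm j W)
  exact ⟨s1.1.symm.trans (s2.1.trans (s3.1.trans s4.1)),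
    s1.2.symm.trans (s2.2.trans (s3.2.trans s4.2))⟩

theorem isIso_unit_push (J : EtCoh.Ab U) :
    IsIso ((EtCoh.pullPushAdj j).unit.app ((EtCoh.push j).obj J)) := by
  haveI : IsIso ((EtCoh.pullPushAdj j).counit.app J) := isIso_counit_ab j J
  have h : (EtCoh.pullPushAdj j).unit.app ((EtCoh.push j).obj J) ≫
      (EtCoh.push j).map ((EtCoh.pullPushAdj j).counit.app J) = 𝟙 _ :=
    (EtCoh.pullPushAdj j).right_triangle_components J
  haveI : IsIso ((EtCoh.pullPushAdj j).unit.app ((EtCoh.push j).obj J) ≫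
      (EtCoh.push j).map ((EtCoh.pullPushAdj j).counit.app J)) := by
    rw [h]
    infer_instance
  exact IsIso.of_isIso_comp_right ((EtCoh.pullPushAdj j).unit.app ((EtCoh.push j).obj J))
    ((EtCoh.push j).map ((EtCoh.pullPushAdj j).counit.app J))

/-- sections of `j_* J` restrict bijectively to the part over `U` -/
theorem bij_push (J : EtCoh.Ab U) (W : X.Etale) :
    Function.Bijective (((EtCoh.push j).obj J).obj.map ((compBcAdj j).counit.app W).op) := by
  haveI := isIso_unit_push j J
  have h1 : Function.Bijective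
      (((EtCoh.pullPushAdj j).unit.app ((EtCoh.push j).obj J)).hom.app (op W)) :=
    app_iso_bijective (asIso ((EtCoh.pullPushAdj j).unit.app ((EtCoh.push j).obj J))) W
  have h2 : Function.Bijective (((restrIsoPull j).hom.app ((EtCoh.push j).obj J)).hom.app
      (op ((EtCoh.bc j).obj W))) :=
    app_iso_bijective ((restrIsoPull j).app ((EtCoh.push j).obj J)) _
  constructor
  · intro x y hxy
    exact h1.1 ((unit_app_eq j _ W x).trans
      ((congrArg (fun t => ((restrIsoPull j).hom.app ((EtCoh.push j).obj J)).hom.app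
        (op ((EtCoh.bc j).obj W)) t) hxy).trans (unit_app_eq j _ W y).symm))
  · intro t
    obtain ⟨s, hs⟩ := h1.2 (((restrIsoPull j).hom.app ((EtCoh.push j).obj J)).hom.app
      (op ((EtCoh.bc j).obj W)) t)
    exact ⟨s, h2.1 ((unit_app_eq j _ W s).symm.trans hs)⟩

theorem mono_unit_of_inj (F : EtCoh.Ab X)
    (h : ∀ W : X.Etale, Function.Injective (F.obj.map ((compBcAdj j).counit.app W).op)) :
    Mono (EtDual.unitApp j F) := by
  apply mono_of_sections_injective
  intro W x y hxy
  have h2 : Function.Bijective (((restrIsoPull j).hom.app F).hom.app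
      (op ((EtCoh.bc j).obj W))) :=
    app_iso_bijective ((restrIsoPull j).app F) _
  apply h W
  apply h2.1
  exact (unit_app_eq j F W x).symm.trans (hxy.trans (unit_app_eq j F W y))

end DegreeZero

end Groth.Agent.Lib.EtDepthEtH7
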