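import Mathlib
import Groth.Prelude.Def_EtCore
import Groth.Agent.Lib.ExtNat_helper7
import Groth.Agent.Lib.EtPullConstComp_helper7
import Groth.Agent.Lib.EtDepthEt0_helper7
import Groth.Agent.Lib.EtExtFr_helper7
import Groth.Agent.Lib.EtDescentSec_helper7
import Groth.Agent.Lib.EtPullExact_helper9

/-!
# Pullback on étale cohomology: composition, identity, isomorphisms (helper7)
-/

set_option autoImplicit false
set_option backward.isDefEq.respectTransparency false
set_option backward.isDefEq.respectTransparency.types false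
set_option linter.style.haveILetI false
set_option linter.unusedSectionVars false
universe u
open CategoryTheory CategoryTheory.Limits AlgebraicGeometry Opposite Abelian

namespace Groth.Agent.Lib.EtHpullCompH7

open Groth.Agent.Lib.ExtNat_helper7 Groth.Agent.Lib.EtPullConstComp_helper7
  Groth.Agent.Lib.EtDepthEtH7 Groth.Agent.Lib.EtExtFr_helper7

variable {X₁ X₂ X₃ : Scheme.{u}}

/-- pullback on cohomology along a composite -/
theorem Hpull_comp (f : X₁ ⟶ X₂) (t : X₂ ⟶ X₃) (F : EtCoh.Ab X₃) (q : ℕ) (x : EtCoh.H X₃ F q) :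
    (EtCore.Hpull f ((EtCoh.pull t).obj F) q (EtCore.Hpull t F q x)).comp
      (Ext.mk₀ ((EtCore.pullComp f t).inv.app F)) (add_zero q) =
    EtCore.Hpull (f ≫ t) F q x := by
  have nat := ext_naturality (EtCoh.pull t) (EtCoh.pull f) (EtCoh.pull (f ≫ t))
    (EtCore.pullComp f t).inv q F x
  rw [Hpull_apply, Hpull_apply, Hpull_apply, Ext.mapExactFunctor_comp, Ext.mapExactFunctor_mk₀,
    Ext.mk₀_comp_mk₀_assoc, Ext.comp_assoc_of_third_deg_zero]
  refine (congrArg (fun e => (Ext.mk₀ ((EtCore.pullConst f ℤ).inv ≫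
    (EtCoh.pull f).map (EtCore.pullConst t ℤ).inv)).comp e (zero_add q)) nat).trans ?_
  refine (Ext.mk₀_comp_mk₀_assoc _ _ _).trans ?_
  have h := pullConst_inv_comp f t
  have h' : ((EtCore.pullConst f ℤ).inv ≫ (EtCoh.pull f).map (EtCore.pullConst t ℤ).inv) ≫
      (EtCore.pullComp f t).inv.app (EtCoh.const X₃ ℤ) = (EtCore.pullConst (f ≫ t) ℤ).inv := by
    rw [h, Category.assoc]
  rw [h']

/-- postcomposition with an isomorphism in degree zero is bijective -/
theorem comp_mk₀_iso_bijective {X : Scheme.{u}} {A F F' : EtCoh.Ab X} (φ : F ⟶ F') [IsIso φ]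
    (q : ℕ) : Function.Bijective (fun e : Ext A F q => e.comp (Ext.mk₀ φ) (add_zero q)) := by
  constructor
  · intro a b hab
    have h2 := congrArg (fun t => t.comp (Ext.mk₀ (inv φ)) (add_zero q)) hab
    simp only [Ext.comp_assoc_of_third_deg_zero, Ext.mk₀_comp_mk₀, IsIso.hom_inv_id,
      Ext.comp_mk₀_id] at h2
    exact h2
  · intro b
    refine ⟨b.comp (Ext.mk₀ (inv φ)) (add_zero q), ?_⟩
    show (b.comp (Ext.mk₀ (inv φ)) (add_zero q)).comp (Ext.mk₀ φ) (add_zero q) = b
    rw [Ext.comp_assoc_of_third_deg_zero, Ext.mk₀_comp_mk₀, IsIso.inv_hom_id, Ext.comp_mk₀_id]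

/-- the composition formula, as an equality of functions -/
theorem Hpull_comp_fun (f : X₁ ⟶ X₂) (t : X₂ ⟶ X₃) (F : EtCoh.Ab X₃) (q : ℕ) :
    (fun e : EtCoh.H X₁ ((EtCoh.pull f).obj ((EtCoh.pull t).obj F)) q =>
        e.comp (Ext.mk₀ ((EtCore.pullComp f t).inv.app F)) (add_zero q)) ∘
      (EtCore.Hpull f ((EtCoh.pull t).obj F) q) ∘ (EtCore.Hpull t F q) =
    EtCore.Hpull (f ≫ t) F q :=
  funext (fun x => Hpull_comp f t F q x)

/-- `Hpull (f ≫ t)` is bijective iff the composite of `Hpull t` and `Hpull f` is -/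
theorem Hpull_comp_bijective_iff (f : X₁ ⟶ X₂) (t : X₂ ⟶ X₃) (F : EtCoh.Ab X₃) (q : ℕ) :
    Function.Bijective (EtCore.Hpull (f ≫ t) F q) ↔
      Function.Bijective ((EtCore.Hpull f ((EtCoh.pull t).obj F) q) ∘ (EtCore.Hpull t F q)) := by
  rw [← Hpull_comp_fun f t F q]
  exact Function.Bijective.of_comp_iff'
    (comp_mk₀_iso_bijective ((EtCore.pullComp f t).inv.app F) q) _

theorem Hpull_comp_injective_iff (f : X₁ ⟶ X₂) (t : X₂ ⟶ X₃) (F : EtCoh.Ab X₃) (q : ℕ) :
    Function.Injective (EtCore.Hpull (f ≫ t) F q) ↔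
      Function.Injective ((EtCore.Hpull f ((EtCoh.pull t).obj F) q) ∘ (EtCore.Hpull t F q)) := by
  rw [← Hpull_comp_fun f t F q]
  exact Function.Injective.of_comp_iff
    (comp_mk₀_iso_bijective ((EtCore.pullComp f t).inv.app F) q).1 _

/-- pullback along the identity is bijective -/
theorem Hpull_id_bijective (X : Scheme.{u}) (F : EtCoh.Ab X) (q : ℕ) :
    Function.Bijective (EtCore.Hpull (𝟙 X) F q) := by
  obtain ⟨ν, -⟩ : ∃ ν : EtCoh.pull (𝟙 X) ≅ 𝟭 (EtCoh.Ab X), ν = ν :=
    ⟨Groth.Agent.Lib.EtDescentSec_helper7.pullId X, rfl⟩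
  have hb := Ψ_bijective (EtCoh.pull (𝟙 X)) (EtCore.pullConst (𝟙 X) ℤ).inv
    (fun I hI => Injective.of_iso (ν.app I).symm hI)
    (fun G => by
      have e : (fun φ : EtCoh.const X ℤ ⟶ G =>
          (EtCore.pullConst (𝟙 X) ℤ).inv ≫ (EtCoh.pull (𝟙 X)).map φ) =
          fun φ => ((EtCore.pullConst (𝟙 X) ℤ).inv ≫ ν.hom.app (EtCoh.const X ℤ)) ≫ φ ≫
            ν.inv.app G := by
        funext φ
        have hn : (EtCoh.pull (𝟙 X)).map φ =
            ν.hom.app (EtCoh.const X ℤ) ≫ φ ≫ ν.inv.app G := by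
          have h3 : (EtCoh.pull (𝟙 X)).map φ ≫ ν.hom.app G =
              ν.hom.app (EtCoh.const X ℤ) ≫ φ := ν.hom.naturality φ
          calc (EtCoh.pull (𝟙 X)).map φ
              = ((EtCoh.pull (𝟙 X)).map φ ≫ ν.hom.app G) ≫ ν.inv.app G := by
                rw [Category.assoc, Iso.hom_inv_id_app, Category.comp_id]
            _ = ν.hom.app (EtCoh.const X ℤ) ≫ φ ≫ ν.inv.app G := by
                rw [h3, Category.assoc]
        rw [hn, Category.assoc]
      rw [e]
      constructor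
      · intro a b hab
        have h1 : a ≫ ν.inv.app G = b ≫ ν.inv.app G :=
          (cancel_epi ((EtCore.pullConst (𝟙 X) ℤ).inv ≫ ν.hom.app (EtCoh.const X ℤ))).1 hab
        exact (cancel_mono (ν.inv.app G)).1 h1
      · intro b
        refine ⟨inv ((EtCore.pullConst (𝟙 X) ℤ).inv ≫ ν.hom.app (EtCoh.const X ℤ)) ≫ b ≫
          ν.hom.app G, ?_⟩
        simp) q F
  exact hb

theorem Hpull_bijective_of_eq_id {X : Scheme.{u}} (f : X ⟶ X) (hf : f = 𝟙 X) (F : EtCoh.Ab X)
    (q : ℕ) : Function.Bijective (EtCore.Hpull f F q) := by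
  subst hf
  exact Hpull_id_bijective X F q

theorem Hpull_iso_injective (ε : X₁ ≅ X₂) (F : EtCoh.Ab X₂) (q : ℕ) :
    Function.Injective (EtCore.Hpull ε.hom F q) := by
  have h1 := (Hpull_comp_bijective_iff ε.inv ε.hom F q).1
    (Hpull_bijective_of_eq_id _ ε.inv_hom_id F q)
  exact Function.Injective.of_comp h1.1

/-- pullback along an isomorphism of schemes is bijective on cohomology -/
theorem Hpull_iso_bijective (ε : X₁ ≅ X₂) (F : EtCoh.Ab X₂) (q : ℕ) :
    Function.Bijective (EtCore.Hpull ε.hom F q) := by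
  have h1 := (Hpull_comp_bijective_iff ε.inv ε.hom F q).1
    (Hpull_bijective_of_eq_id _ ε.inv_hom_id F q)
  have h2 : Function.Bijective (EtCore.Hpull ε.inv ((EtCoh.pull ε.hom).obj F) q) :=
    ⟨Hpull_iso_injective ε.symm _ q, Function.Surjective.of_comp h1.2⟩
  exact (Function.Bijective.of_comp_iff' h2 _).1 h1

theorem Hpull_isIso_bijective (f : X₁ ⟶ X₂) [IsIso f] (F : EtCoh.Ab X₂) (q : ℕ) :
    Function.Bijective (EtCore.Hpull f F q) :=
  Hpull_iso_bijective (asIso f) F q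

end Groth.Agent.Lib.EtHpullCompH7
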