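import Mathlib
import Groth.Prelude.Def_EtAcyc
import Groth.Agent.Lib.EtSchStalk_helper7
import Groth.Agent.Lib.EtSchExact_helper7

/-!
# `L`-torsion sheaves via geometric stalks (helper7)
-/

set_option autoImplicit false
set_option backward.isDefEq.respectTransparency false
universe u
open CategoryTheory CategoryTheory.Limits AlgebraicGeometry Opposite

namespace Groth.Agent.Lib.EtLTorsion_helper7

open Groth.Agent.Lib.EtSchStalk_helper7 Groth.Agent.Lib.EtSchExact_helper7

theorem isLTorsion_iff {X : Scheme.{u}} (L : Set ℕ) (F : EtCoh.Ab X) :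
    EtAcyc.IsLTorsion L F ↔
      ∀ (Ω : Type u) [Field Ω] [IsSepClosed Ω] (ξ : Spec (CommRingCat.of Ω) ⟶ X)
        (t : (EtCoh.stalk ξ).obj F), ∃ m : ℕ, EtAcyc.PrimesIn L m ∧ m • t = 0 := by
  constructor
  · intro h Ω _ _ ξ t
    obtain ⟨U, l, s, rfl⟩ := (Scheme.pointSmallEtale ξ).toPresheafFiber_jointly_surjective
      (P := F.obj) t
    obtain ⟨ll, hll⟩ : ∃ ll : Spec (CommRingCat.of Ω) ⟶ U.left, ll = l.left := ⟨l.left, rfl⟩
    obtain ⟨V, g, m, ⟨v, hv⟩, hm, hms⟩ := h U s (ll (default : ↥(Spec (CommRingCat.of Ω))))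
    obtain ⟨l', hl1, hl2⟩ := Scheme.exists_fac_of_etale_of_isSepClosed g.left ll v hv
    have hl3 : l' ≫ V.hom = ξ := by
      rw [← MorphismProperty.Over.w g, ← Category.assoc, hl1, hll]
      exact Over.w l
    obtain ⟨y', hy'⟩ : ∃ y' : (Scheme.pointSmallEtale ξ).fiber.obj V, y'.left = l' :=
      ⟨Over.homMk l' hl3, rfl⟩
    have hfib : (Scheme.pointSmallEtale ξ).fiber.map g y' = l := by
      apply Over.OverMorphism.ext
      show y'.left ≫ g.left = l.left
      rw [hy']
      exact hl1.trans hll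
    refine ⟨m, hm, ?_⟩
    have e1 := (Scheme.pointSmallEtale ξ).toPresheafFiber_w_apply g y' F.obj s
    rw [hfib] at e1
    exact (congrArg (fun q => m • q) e1.symm).trans
      ((map_nsmul ((Scheme.pointSmallEtale ξ).toPresheafFiber V y' F.obj).hom m _).symm.trans
        ((congrArg ((Scheme.pointSmallEtale ξ).toPresheafFiber V y' F.obj).hom hms).trans
          (map_zero _)))
  · intro h U s x
    obtain ⟨K, _, _, ξ, l, hl⟩ := exists_geometric_lift U x
    obtain ⟨m, hm, hmt⟩ := h K ξ ((Scheme.pointSmallEtale ξ).toPresheafFiber U l F.obj s)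
    have h1 : (Scheme.pointSmallEtale ξ).toPresheafFiber U l F.obj (m • s) =
        (Scheme.pointSmallEtale ξ).toPresheafFiber U l F.obj 0 := by
      rw [map_nsmul, map_zero]
      exact hmt
    obtain ⟨V, g, y, hy, heq⟩ :=
      ((Scheme.pointSmallEtale ξ).toPresheafFiber_eq_iff' U l (m • s) 0).1 h1
    refine ⟨V, g, m, ?_, hm, ?_⟩
    · have := mem_range_of_map_eq g y l hy
      rw [hl] at this
      exact this
    · rw [← map_nsmul]
      exact heq.trans (map_zero _)

end Groth.Agent.Lib.EtLTorsion_helper7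

namespace Groth.Agent.Lib.EtLTorsion_helper7

open Groth.Agent.Lib.EtSchSite_helper7

theorem exists_kill_of_compact {X : Scheme.{u}} (L : Set ℕ) (F : EtCoh.Ab X)
    (hF : EtAcyc.IsLTorsion L F) (U : X.Etale) [CompactSpace U.left] (s : EtCoh.sect F U) :
    ∃ m : ℕ, EtAcyc.PrimesIn L m ∧ m • s = 0 := by
  choose V g m hv hm hms using fun x => hF U s x
  have hopen : ∀ x, IsOpen (Set.range (g x).left) := fun x => (g x).left.isOpenMap.isOpen_range
  have hcov : (Set.univ : Set U.left) ⊆ ⋃ x, Set.range (g x).left := fun x _ =>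
    Set.mem_iUnion.2 ⟨x, hv x⟩
  obtain ⟨t, ht⟩ := isCompact_univ.elim_finite_subcover _ hopen hcov
  refine ⟨∏ x ∈ t, m x, ⟨Finset.prod_pos (fun x _ => (hm x).1), ?_⟩, ?_⟩
  · intro p hp hdvd
    obtain ⟨x, hx, hpx⟩ := (Prime.dvd_finset_prod_iff hp.prime _).1 hdvd
    exact (hm x).2 p hp hpx
  · refine Sheaf.isSeparated F U (Presheaf.equalizerSieve (F := F.obj) (X := op U)
      ((∏ x ∈ t, m x) • s) 0) ?_ _ _ (fun Y f hf => hf)
    apply sieve_mem_of_forall_exists
    intro w
    obtain ⟨x, hx, hw⟩ : ∃ x ∈ t, w ∈ Set.range (g x).left := by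
      have := ht (Set.mem_univ w)
      simpa using this
    refine ⟨V x, g x, ?_, hw⟩
    show F.obj.map (g x).op ((∏ x ∈ t, m x) • s) = F.obj.map (g x).op 0
    obtain ⟨c, hc⟩ := Finset.dvd_prod_of_mem m hx
    rw [map_nsmul, map_zero, hc, mul_nsmul, hms x, nsmul_zero]

end Groth.Agent.Lib.EtLTorsion_helper7
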