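import Mathlib
import Groth.Prelude.Def_EtAcyc
import Groth.Agent.Lib.EtHpullComp_helper7
import Groth.Agent.Lib.EtLTorsion_helper7
import Groth.Agent.Lib.EtStalkPull_helper9
import Groth.Agent.Lib.EtDescentSec_helper7

/-!
# Acyclicity of a composite `g ≫ h` when `g` is acyclic (helper7)
-/

set_option autoImplicit false
set_option backward.isDefEq.respectTransparency false
set_option backward.isDefEq.respectTransparency.types false
set_option linter.style.haveILetI false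
set_option linter.unusedSectionVars false
universe u
open CategoryTheory CategoryTheory.Limits AlgebraicGeometry Opposite Abelian

namespace Groth.Agent.Lib.EtAcycCompH7

open Groth.Agent.Lib.EtHpullCompH7

/-! ### `L`-torsion is preserved by pullback -/

theorem isLTorsion_pull {X Y : Scheme.{u}} (g : X ⟶ Y) (L : Set ℕ) (G : EtCoh.Ab Y)
    (hG : EtAcyc.IsLTorsion L G) : EtAcyc.IsLTorsion L ((EtCoh.pull g).obj G) := by
  rw [Groth.Agent.Lib.EtLTorsion_helper7.isLTorsion_iff] at hG ⊢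
  intro Ω _ _ ξ t
  obtain ⟨θ, -⟩ : ∃ θ : (EtCoh.stalk ξ).obj ((EtCoh.pull g).obj G) ≅
      (EtCoh.stalk (ξ ≫ g)).obj G, θ = θ := ⟨(EtStalkPull.stalkPullIso g ξ).app G, rfl⟩
  obtain ⟨m, hm, hmt⟩ := hG Ω (ξ ≫ g) (θ.hom t)
  refine ⟨m, hm, ?_⟩
  have hinj : Function.Injective θ.hom :=
    (AddCommGrpCat.mono_iff_injective θ.hom).1 inferInstance
  apply hinj
  rw [map_nsmul, map_zero]
  exact hmt

/-! ### The abelian comparison condition -/

theorem compN_of_isIso {A B : Scheme.{u}} (ε : A ⟶ B) [IsIso ε] (L : Set ℕ) (n : ℕ) :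
    EtAcyc.CompN ε L n := by
  intro F _ _
  exact ⟨fun q _ => Hpull_isIso_bijective ε F q, (Hpull_isIso_bijective ε F (n + 1)).1⟩

theorem compN_comp_iff {A B C : Scheme.{u}} (b : A ⟶ B) (a : B ⟶ C) (L : Set ℕ) (n : ℕ)
    (hb : EtAcyc.CompN b L n) : EtAcyc.CompN a L n ↔ EtAcyc.CompN (b ≫ a) L n := by
  constructor
  · intro ha F hF _
    have hF' := isLTorsion_pull a L F hF
    obtain ⟨ha1, ha2⟩ := ha F hF
    obtain ⟨hb1, hb2⟩ := hb ((EtCoh.pull a).obj F) hF'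
    refine ⟨fun q hq => ?_, ?_⟩
    · exact (Hpull_comp_bijective_iff b a F q).2 ((hb1 q hq).comp (ha1 q hq))
    · exact (Hpull_comp_injective_iff b a F (n + 1)).2 (hb2.comp ha2)
  · intro hc F hF _
    have hF' := isLTorsion_pull a L F hF
    obtain ⟨hc1, hc2⟩ := hc F hF
    obtain ⟨hb1, hb2⟩ := hb ((EtCoh.pull a).obj F) hF'
    refine ⟨fun q hq => ?_, ?_⟩
    · exact (Function.Bijective.of_comp_iff' (hb1 q hq) _).1
        ((Hpull_comp_bijective_iff b a F q).1 (hc1 q hq))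
    · exact Function.Injective.of_comp ((Hpull_comp_injective_iff b a F (n + 1)).1 hc2)

theorem prj_comp_eq {X Y Z : Scheme.{u}} (g : X ⟶ Y) (h : Y ⟶ Z) (W : Z.Etale) :
    EtAcyc.prj (g ≫ h) W =
      (pullbackLeftPullbackSndIso W.hom h g).inv ≫
        ((pullback.fst (pullback.snd W.hom h) g) ≫ (pullback.fst W.hom h)) :=
  (pullbackLeftPullbackSndIso_inv_fst W.hom h g).symm

theorem isAcyclicN_comp_iff {X Y Z : Scheme.{u}} (g : X ⟶ Y) (h : Y ⟶ Z) (L : Set ℕ) (n : ℕ)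
    (hg : EtAcyc.IsAcyclicN g L n) :
    EtAcyc.IsAcyclicN h L n ↔ EtAcyc.IsAcyclicN (g ≫ h) L n := by
  have key : ∀ W : Z.Etale,
      EtAcyc.CompN (EtAcyc.prj h W) L n ↔ EtAcyc.CompN (EtAcyc.prj (g ≫ h) W) L n := by
    intro W
    have hb : EtAcyc.CompN (pullback.fst (pullback.snd W.hom h) g) L n :=
      hg ((EtCoh.bc h).obj W)
    rw [prj_comp_eq g h W]
    exact (compN_comp_iff _ _ L n hb).trans (compN_comp_iff _ _ L n (compN_of_isIso _ L n))
  exact ⟨fun hh W => (key W).1 (hh W), fun hh W => (key W).2 (hh W)⟩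

/-! ### Abstract lemmas on units of adjunctions -/

section Abstract

universe v₁ v₂ v₃ u₁ u₂ u₃

variable {C : Type u₁} [Category.{v₁} C] {D : Type u₂} [Category.{v₂} D]
  {E : Type u₃} [Category.{v₃} E]

theorem isIso_unit_ofNatIsoRight_iff {F : C ⥤ D} {G H : D ⥤ C} (adj : F ⊣ G) (iso : G ≅ H)
    (x : C) : IsIso ((adj.ofNatIsoRight iso).unit.app x) ↔ IsIso (adj.unit.app x) := by
  have h : (adj.ofNatIsoRight iso).unit.app x = adj.unit.app x ≫ iso.hom.app (F.obj x) := by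
    simp
  rw [h]
  constructor
  · intro hh
    haveI := hh
    exact IsIso.of_isIso_comp_right (adj.unit.app x) (iso.hom.app (F.obj x))
  · intro hh
    haveI := hh
    infer_instance

theorem isIso_unit_iff_of_two_adj {F F' : C ⥤ D} {G : D ⥤ C} (adj1 : F ⊣ G) (adj2 : F' ⊣ G)
    (x : C) : IsIso (adj1.unit.app x) ↔ IsIso (adj2.unit.app x) := by
  have h := Adjunction.unit_leftAdjointUniq_hom_app adj1 adj2 x
  rw [← h]
  constructor
  · intro hh
    haveI := hh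
    infer_instance
  · intro hh
    haveI := hh
    exact IsIso.of_isIso_comp_right (adj1.unit.app x)
      (G.map ((Adjunction.leftAdjointUniq adj1 adj2).hom.app x))

theorem isIso_unit_comp_iff {F₁ : C ⥤ D} {G₁ : D ⥤ C} {F₂ : D ⥤ E} {G₂ : E ⥤ D}
    (adj₁ : F₁ ⊣ G₁) (adj₂ : F₂ ⊣ G₂) (x : C) (h2 : IsIso (adj₂.unit.app (F₁.obj x))) :
    IsIso ((adj₁.comp adj₂).unit.app x) ↔ IsIso (adj₁.unit.app x) := by
  have h : (adj₁.comp adj₂).unit.app x =
      adj₁.unit.app x ≫ G₁.map (adj₂.unit.app (F₁.obj x)) := Adjunction.comp_unit_app adj₁ adj₂ x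
  rw [h]
  haveI := h2
  constructor
  · intro hh
    haveI := hh
    exact IsIso.of_isIso_comp_right (adj₁.unit.app x) (G₁.map (adj₂.unit.app (F₁.obj x)))
  · intro hh
    haveI := hh
    infer_instance

end Abstract

/-! ### Sheaves of sets -/

theorem isIso_unit_adjSh_comp_iff {A B C : Scheme.{u}} (p : A ⟶ B) (q : B ⟶ C)
    (F : EtDesc.Sh C) (hp : IsIso ((EtDesc.adjSh p).unit.app ((EtDesc.pullSh q).obj F))) :
    IsIso ((EtDesc.adjSh (p ≫ q)).unit.app F) ↔ IsIso ((EtDesc.adjSh q).unit.app F) := by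
  refine (isIso_unit_iff_of_two_adj (EtDesc.adjSh (p ≫ q))
    (((EtDesc.adjSh q).comp (EtDesc.adjSh p)).ofNatIsoRight (EtDesc.pushCompSh q p)) F).trans ?_
  refine (isIso_unit_ofNatIsoRight_iff _ _ F).trans ?_
  exact isIso_unit_comp_iff (EtDesc.adjSh q) (EtDesc.adjSh p) F hp

noncomputable def pushIdSh (X : Scheme.{u}) : EtDesc.pushSh (𝟙 X) ≅ 𝟭 (EtDesc.Sh X) :=
  Functor.sheafPushforwardContinuousId' (Groth.Agent.Lib.EtDescentSec_helper7.bcId X)
    (Type (u + 1)) X.smallEtaleTopology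

noncomputable def pushCongrSh {X Y : Scheme.{u}} {f f' : X ⟶ Y} (h : f = f') :
    EtDesc.pushSh f ≅ EtDesc.pushSh f' :=
  eqToIso (by rw [h])

noncomputable def pushShEquiv {A B : Scheme.{u}} (ε : A ≅ B) : EtDesc.Sh A ≌ EtDesc.Sh B :=
  CategoryTheory.Equivalence.mk (EtDesc.pushSh ε.hom) (EtDesc.pushSh ε.inv)
    ((pushIdSh A).symm ≪≫ (pushCongrSh ε.hom_inv_id).symm ≪≫
      (EtDesc.pushCompSh ε.inv ε.hom).symm)
    (EtDesc.pushCompSh ε.hom ε.inv ≪≫ pushCongrSh ε.inv_hom_id ≪≫ pushIdSh B)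

theorem isIso_unit_adjSh_of_iso {A B : Scheme.{u}} (ε : A ≅ B) (F : EtDesc.Sh B) :
    IsIso ((EtDesc.adjSh ε.hom).unit.app F) := by
  haveI : (EtDesc.pushSh ε.hom).IsEquivalence := (pushShEquiv ε).isEquivalence_functor
  haveI : IsIso (EtDesc.adjSh ε.hom).unit := inferInstance
  infer_instance

theorem isIso_unit_adjSh_of_isIso {A B : Scheme.{u}} (ε : A ⟶ B) [IsIso ε] (F : EtDesc.Sh B) :
    IsIso ((EtDesc.adjSh ε).unit.app F) :=
  isIso_unit_adjSh_of_iso (asIso ε) F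

theorem isZeroAcyclic_comp_iff {X Y Z : Scheme.{u}} (g : X ⟶ Y) (h : Y ⟶ Z)
    (hg : EtAcyc.IsZeroAcyclic g) :
    EtAcyc.IsZeroAcyclic h ↔ EtAcyc.IsZeroAcyclic (g ≫ h) := by
  have key : ∀ (W : Z.Etale) (F : EtDesc.Sh W.left),
      IsIso ((EtDesc.adjSh (EtAcyc.prj (g ≫ h) W)).unit.app F) ↔
        IsIso ((EtDesc.adjSh (EtAcyc.prj h W)).unit.app F) := by
    intro W F
    rw [prj_comp_eq g h W]
    refine (isIso_unit_adjSh_comp_iff _ _ F (isIso_unit_adjSh_of_isIso _ _)).trans ?_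
    exact isIso_unit_adjSh_comp_iff _ _ F (hg ((EtCoh.bc h).obj W) _)
  exact ⟨fun hh W F => (key W F).2 (hh W F), fun hh W F => (key W F).1 (hh W F)⟩

theorem main3513 {X Y Z : Scheme.{u}} (g : X ⟶ Y) (h : Y ⟶ Z) (L : Set ℕ) (n : ℕ) :
    (EtAcyc.IsAcyclicN g L n → (EtAcyc.IsAcyclicN h L n ↔ EtAcyc.IsAcyclicN (g ≫ h) L n)) ∧
      (EtAcyc.IsZeroAcyclic g → (EtAcyc.IsZeroAcyclic h ↔ EtAcyc.IsZeroAcyclic (g ≫ h))) :=
  ⟨isAcyclicN_comp_iff g h L n, isZeroAcyclic_comp_iff g h⟩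

end Groth.Agent.Lib.EtAcycCompH7
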