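import Mathlib
import Groth.Prelude.Def_EtBase
import Groth.Prelude.Def_PBC
import Groth.Prelude.Def_EtRestW
import Groth.Prelude.Def_EtMod2

/-!
# Restriction to an étale `U` commutes with inverse image (lead)

Generic Beck–Chevalley for slice sites (via right adjoints `Over.star`), the inverse image of a
constant sheaf along a functor preserving the terminal object, and the étale specialisations:
inverse image preserves (finite) locally constant sheaves; composition of inverse images.
-/

set_option autoImplicit false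
set_option linter.unusedSimpArgs false
set_option linter.unusedVariables false
set_option linter.unusedSectionVars false
set_option linter.style.longLine false
set_option linter.unnecessarySimpa false
set_option maxHeartbeats 1600000
set_option backward.isDefEq.respectTransparency false
set_option backward.isDefEq.respectTransparency.types false
set_option backward.defeqAttrib.useBackward true

open CategoryTheory CategoryTheory.Limits AlgebraicGeometry Opposite

namespace Groth.Agent.Lib.EtPull

universe v₁ v₂ u₁ u₂ v' u' u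

noncomputable section

section Generic

variable {C : Type u₁} [Category.{v₁} C] {D : Type u₂} [Category.{v₂} D]
  (J : GrothendieckTopology C) (K : GrothendieckTopology D) (G : C ⥤ D)
  (A : Type u') [Category.{v'} A]

section Star

variable [HasBinaryProducts C] [HasBinaryProducts D]
  [PreservesLimitsOfShape (Discrete WalkingPair) G]

/-- `star_U ⋙ G/U ≅ G ⋙ star_{GU}` when `G` preserves binary products. -/
def starPostIso (U : C) : Over.star U ⋙ Over.post (X := U) G ≅ G ⋙ Over.star (G.obj U) :=
  NatIso.ofComponents (fun V => Over.isoMk (PreservesLimitPair.iso G U V) (by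
    dsimp
    exact (congrArg (prodComparison G U V ≫ ·) (prod.lift_fst _ _)).trans
      ((prodComparison_fst G U V).trans (congrArg G.map (prod.lift_fst _ _).symm))))
    (by
      intro V W f
      ext
      dsimp
      rw [← G.map_id U]
      exact prodComparison_natural G (𝟙 U) f)

variable [G.IsContinuous J K] (U : C)
  [(Over.post (X := U) G).IsContinuous (J.over U) (K.over (G.obj U))]

/-- `G_* ∘ (star_{GU})_* ≅ (star_U)_* ∘ (G/U)_*`. -/
def rightIso :
    (Over.star (G.obj U)).sheafPushforwardContinuous A K (K.over (G.obj U)) ⋙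
      G.sheafPushforwardContinuous A J K ≅
    (Over.post (X := U) G).sheafPushforwardContinuous A (J.over U) (K.over (G.obj U)) ⋙
      (Over.star U).sheafPushforwardContinuous A J (J.over U) := by
  haveI : (G ⋙ Over.star (G.obj U)).IsContinuous J (K.over (G.obj U)) :=
    Functor.isContinuous_comp G (Over.star (G.obj U)) J K (K.over (G.obj U))
  exact Functor.sheafPushforwardContinuousComp' (F := G) (G := Over.star (G.obj U))
      (FG := G ⋙ Over.star (G.obj U)) (Iso.refl _) A J K (K.over (G.obj U)) ≪≫
    (Functor.sheafPushforwardContinuousComp' (F := Over.star U) (G := Over.post (X := U) G)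
      (FG := G ⋙ Over.star (G.obj U)) (starPostIso G U) A J (J.over U) (K.over (G.obj U))).symm

variable [(G.sheafPushforwardContinuous A J K).IsRightAdjoint]
  [((Over.post (X := U) G).sheafPushforwardContinuous A (J.over U)
    (K.over (G.obj U))).IsRightAdjoint]

/-- Beck–Chevalley: restriction to `GU` of the inverse image is the inverse image of the
restriction to `U`. -/
def bcIso :
    G.sheafPullback A J K ⋙ K.overPullback A (G.obj U) ≅
      J.overPullback A U ⋙
        (Over.post (X := U) G).sheafPullback A (J.over U) (K.over (G.obj U)) :=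
  (((G.sheafAdjunctionContinuous A J K).comp
      ((Over.forgetAdjStar (G.obj U)).sheafPushforwardContinuous (E := A)
        (K.over (G.obj U)) K)).ofNatIsoRight (rightIso J K G A U)).leftAdjointUniq
    (((Over.forgetAdjStar U).sheafPushforwardContinuous (E := A) (J.over U) J).comp
      ((Over.post (X := U) G).sheafAdjunctionContinuous A (J.over U) (K.over (G.obj U))))

end Star

section Const

variable [G.IsContinuous J K] [(G.sheafPushforwardContinuous A J K).IsRightAdjoint]
  [HasWeakSheafify J A] [HasWeakSheafify K A]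

/-- The inverse image of a constant sheaf along a continuous functor preserving the terminal
object is the constant sheaf. -/
def pullConstIso {T : C} (hT : IsTerminal T) (hT' : IsTerminal (G.obj T)) :
    constantSheaf J A ⋙ G.sheafPullback A J K ≅ constantSheaf K A :=
  (((constantSheafAdj J A hT).comp (G.sheafAdjunctionContinuous A J K)).ofNatIsoRight
    (NatIso.ofComponents (fun H => Iso.refl _) (by
      intro H H' φ
      change φ.hom.app (op (G.obj T)) ≫ 𝟙 _ = 𝟙 _ ≫ φ.hom.app (op (G.obj T))
      rw [Category.comp_id, Category.id_comp]) :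
      G.sheafPushforwardContinuous A J K ⋙ (sheafSections J A).obj (op T) ≅
        (sheafSections K A).obj (op (G.obj T)))).leftAdjointUniq (constantSheafAdj K A hT')

end Const

end Generic

section Etale

variable {X Y : Scheme.{u}} (f : X ⟶ Y) (U : Y.Etale)

instance flat_post : RepresentablyFlat (Over.post (X := U) (EtCoh.bc f)) :=
  flat_of_preservesFiniteLimits _

instance continuous_post :
    (Over.post (X := U) (EtCoh.bc f)).IsContinuous (Y.smallEtaleTopology.over U)
      (X.smallEtaleTopology.over ((EtCoh.bc f).obj U)) :=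
  Functor.isContinuous_of_coverPreserving (compatiblePreservingOfFlat _ _)
    ((EtCoh.coverPreserving_bc f).overPost U)

def isTerminal_post : IsTerminal ((Over.post (X := U) (EtCoh.bc f)).obj (Over.mk (𝟙 U))) :=
  IsTerminal.ofIso Over.mkIdTerminal (Over.isoMk (Iso.refl _) (by simp))

variable (A : Type u') [Category.{v'} A]
  [((EtCoh.bc f).sheafPushforwardContinuous A Y.smallEtaleTopology
    X.smallEtaleTopology).IsRightAdjoint]
  [((Over.post (X := U) (EtCoh.bc f)).sheafPushforwardContinuous A (Y.smallEtaleTopology.over U)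
    (X.smallEtaleTopology.over ((EtCoh.bc f).obj U))).IsRightAdjoint]
  [HasWeakSheafify (Y.smallEtaleTopology.over U) A]
  [HasWeakSheafify (X.smallEtaleTopology.over ((EtCoh.bc f).obj U)) A]

/-- If `F|_U` is constant with value `M`, then `(f^* F)|_{U ×_Y X}` is constant with value `M`. -/
theorem restr_pull_const (F : Sheaf Y.smallEtaleTopology A) (M : A)
    (e : F.over U ≅ (constantSheaf (Y.smallEtaleTopology.over U) A).obj M) :
    Nonempty ((((EtCoh.bc f).sheafPullback A Y.smallEtaleTopology
        X.smallEtaleTopology).obj F).over ((EtCoh.bc f).obj U) ≅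
      (constantSheaf (X.smallEtaleTopology.over ((EtCoh.bc f).obj U)) A).obj M) :=
  ⟨(bcIso Y.smallEtaleTopology X.smallEtaleTopology (EtCoh.bc f) A U).app F ≪≫
    ((Over.post (X := U) (EtCoh.bc f)).sheafPullback A (Y.smallEtaleTopology.over U)
      (X.smallEtaleTopology.over ((EtCoh.bc f).obj U))).mapIso e ≪≫
    (pullConstIso (Y.smallEtaleTopology.over U) (X.smallEtaleTopology.over ((EtCoh.bc f).obj U))
      (Over.post (X := U) (EtCoh.bc f)) A Over.mkIdTerminal (isTerminal_post f U)).app M⟩

end Etale

section Covers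

variable {X Y : Scheme.{u}} (f : X ⟶ Y)

theorem covers_bc {ι : Type u} (U : ι → Y.Etale) (hU : EtCoh.Covers U) :
    EtCoh.Covers (fun i => (EtCoh.bc f).obj (U i)) := by
  intro x
  obtain ⟨i, y, hy⟩ := hU (f.base x)
  obtain ⟨z, hz1, hz2⟩ := Scheme.Pullback.exists_preimage_pullback
    (f := (U i).hom) (g := f) y x hy
  exact ⟨i, z, hz2⟩

end Covers

section Main

variable {X Y : Scheme.{u}} (f : X ⟶ Y)

theorem lc_pull (G : EtCoh.Ab Y) (hG : EtRest.IsLocallyConstant G) :
    EtRest.IsLocallyConstant ((EtCoh.pull f).obj G) := by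
  obtain ⟨ι, U, hU, h⟩ := hG
  refine ⟨ι, fun i => (EtCoh.bc f).obj (U i), covers_bc f U hU, fun i => ?_⟩
  obtain ⟨M, iM, ⟨e⟩⟩ := h i
  exact ⟨M, iM, restr_pull_const f (U i) AddCommGrpCat.{u + 1} G (AddCommGrpCat.of M) e⟩

theorem flc_pull (G : EtCoh.Ab Y) (hG : EtCoh.IsFiniteLocallyConstant G) :
    EtCoh.IsFiniteLocallyConstant ((EtCoh.pull f).obj G) := by
  obtain ⟨ι, U, hU, h⟩ := hG
  refine ⟨ι, fun i => (EtCoh.bc f).obj (U i), covers_bc f U hU, fun i => ?_⟩
  obtain ⟨M, iM, fM, ⟨e⟩⟩ := h i
  exact ⟨M, iM, fM, restr_pull_const f (U i) AddCommGrpCat.{u + 1} G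
    (AddCommGrpCat.of (ULift.{u + 1} M)) e⟩

theorem ftlc_pull (Λ : Type (u + 1)) [CommRing Λ] (G : EtModW.Mod Λ Y)
    (hG : EtModW.IsFTLocConst Λ G) : EtModW.IsFTLocConst Λ ((EtModW.pull Λ f).obj G) := by
  obtain ⟨ι, U, hU, h⟩ := hG
  refine ⟨ι, fun i => (EtCoh.bc f).obj (U i), covers_bc f U hU, fun i => ?_⟩
  obtain ⟨M, iM, mM, fM, ⟨e⟩⟩ := h i
  exact ⟨M, iM, mM, fM, restr_pull_const f (U i) (ModuleCat.{u + 1} Λ) G (ModuleCat.of Λ M) e⟩

theorem main42 :
    (∀ G : EtCoh.Ab Y, EtRest.IsLocallyConstant G →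
      EtRest.IsLocallyConstant ((EtCoh.pull f).obj G)) ∧
    (∀ G : EtCoh.Ab Y, EtCoh.IsFiniteLocallyConstant G →
      EtCoh.IsFiniteLocallyConstant ((EtCoh.pull f).obj G)) ∧
    (∀ (Λ : Type (u + 1)) [CommRing Λ] (G : EtModW.Mod Λ Y),
      EtModW.IsFTLocConst Λ G → EtModW.IsFTLocConst Λ ((EtModW.pull Λ f).obj G)) :=
  ⟨lc_pull f, flc_pull f, fun Λ _ G hG => ftlc_pull f Λ G hG⟩

/-- Inverse images compose. -/
def pullComp {Z : Scheme.{u}} (g : Z ⟶ X) : EtCoh.pull f ⋙ EtCoh.pull g ≅ EtCoh.pull (g ≫ f) :=
  (((EtCoh.pullPushAdj f).comp (EtCoh.pullPushAdj g)).ofNatIsoRight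
    (EtCoh.pushComp f g)).leftAdjointUniq (EtCoh.pullPushAdj (g ≫ f))

def pullCongr {f f' : X ⟶ Y} (h : f = f') : EtCoh.pull f ≅ EtCoh.pull f' := by
  subst h
  exact Iso.refl _

theorem flc_of_iso {F F' : EtCoh.Ab X} (e : F ≅ F') (hF : EtCoh.IsFiniteLocallyConstant F) :
    EtCoh.IsFiniteLocallyConstant F' := by
  obtain ⟨ι, U, hU, h⟩ := hF
  refine ⟨ι, U, hU, fun i => ?_⟩
  obtain ⟨M, iM, fM, ⟨α⟩⟩ := h i
  exact ⟨M, iM, fM, ⟨(X.smallEtaleTopology.overPullback AddCommGrpCat.{u + 1} (U i)).mapIso e.symm
    ≪≫ α⟩⟩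

/-- `P_F g`: the inverse image of `F` along `g` is finite locally constant. -/
theorem flc_pull_comp (F : EtCoh.Ab Y) {Z : Scheme.{u}} (g : Z ⟶ X)
    (h : EtCoh.IsFiniteLocallyConstant ((EtCoh.pull f).obj F)) :
    EtCoh.IsFiniteLocallyConstant ((EtCoh.pull (g ≫ f)).obj F) :=
  flc_of_iso ((pullComp f g).app F) (flc_pull g _ h)

theorem flc_pull_of_fac (F : EtCoh.Ab Y) {Z : Scheme.{u}} (g : Z ⟶ X) (k : Z ⟶ Y)
    (w : g ≫ f = k) (h : EtCoh.IsFiniteLocallyConstant ((EtCoh.pull f).obj F)) :
    EtCoh.IsFiniteLocallyConstant ((EtCoh.pull k).obj F) := by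
  subst w
  exact flc_pull_comp f F g h

end Main

end

end Groth.Agent.Lib.EtPull
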