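import Mathlib
import Groth.Prelude.Def_EtBase
import Groth.Prelude.Def_PBC
import Groth.Agent.Lib.EtPull_lead
import Groth.Agent.Lib.EtLocConstSerre_lead
import Groth.Agent.Lib.EtPullExact_helper9

/-!
# Constructible abelian étale sheaves: stratification toolkit (lead)
-/

set_option autoImplicit false
set_option linter.unusedSimpArgs false
set_option linter.unusedVariables false
set_option linter.unusedSectionVars false
set_option linter.style.longLine false
set_option linter.unnecessarySimpa false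
set_option maxHeartbeats 1600000
set_option backward.isDefEq.respectTransparency false
set_option backward.isDefEq.respectTransparency.types false
set_option backward.defeqAttrib.useBackward true

open CategoryTheory CategoryTheory.Limits AlgebraicGeometry Opposite Topology TopologicalSpace

namespace Groth.Agent.Lib.EtCons

open Groth.Agent.Lib.EtPull

universe u

section Top

variable {X : Type*} [TopologicalSpace X]

/-- `A` is constructible in the subspace `S`. -/
@[reducible] def CIn (S A : Set X) : Prop :=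
  Topology.IsConstructible ((Subtype.val : S → X) ⁻¹' A)

variable {S A B : Set X}

theorem CIn.inter (hA : CIn S A) (hB : CIn S B) : CIn S (A ∩ B) := by
  unfold CIn at *
  rw [Set.preimage_inter]
  exact Topology.IsConstructible.inter hA hB

theorem CIn.sdiff (hA : CIn S A) (hB : CIn S B) : CIn S (A \ B) := by
  unfold CIn at *
  rw [Set.preimage_diff]
  exact Topology.IsConstructible.sdiff hA hB

theorem CIn.biUnion {ι : Type*} {t : Set ι} (ht : t.Finite) {A : ι → Set X}
    (h : ∀ i ∈ t, CIn S (A i)) : CIn S (⋃ i ∈ t, A i) := by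
  unfold CIn at *
  rw [Set.preimage_iUnion₂]
  exact Topology.IsConstructible.biUnion ht h

theorem CIn.congr (h : A ∩ S = B ∩ S) (hA : CIn S A) : CIn S B := by
  unfold CIn at *
  have : (Subtype.val : S → X) ⁻¹' B = Subtype.val ⁻¹' A := by
    ext ⟨x, hx⟩
    have := Set.ext_iff.mp h x
    simp only [Set.mem_inter_iff, hx, and_true] at this
    simp only [Set.mem_preimage]
    exact this.symm
  rw [this]
  exact hA

theorem isCompact_val_preimage {W : Set X} (hWc : IsCompact W) (hWS : W ⊆ S) :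
    IsCompact ((Subtype.val : S → X) ⁻¹' W) := by
  rw [Topology.IsEmbedding.subtypeVal.isCompact_iff, Subtype.image_preimage_coe,
    Set.inter_eq_right.mpr hWS]
  exact hWc

theorem cin_of_isOpen_isCompact [QuasiSeparatedSpace S] {W : Set X} (hWo : IsOpen W)
    (hWc : IsCompact W) (hWS : W ⊆ S) : CIn S W :=
  (isCompact_val_preimage hWc hWS).isConstructible (hWo.preimage continuous_subtype_val)

theorem isOpenEmbedding_inclusion {S' : Set X} (hS'o : IsOpen S') (hS'S : S' ⊆ S) :
    IsOpenEmbedding (Set.inclusion hS'S) := by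
  refine ⟨Topology.IsEmbedding.inclusion hS'S, ?_⟩
  rw [Set.range_inclusion]
  exact hS'o.preimage continuous_subtype_val

theorem CIn.up [QuasiSeparatedSpace S] {S' : Set X} (hS'o : IsOpen S') (hS'c : IsCompact S')
    (hS'S : S' ⊆ S) (hA : A ⊆ S') (h : CIn S' A) : CIn S A := by
  unfold CIn at *
  have hr : IsRetrocompact (Set.range (Set.inclusion hS'S)) := by
    rw [Set.range_inclusion]
    exact (isCompact_val_preimage hS'c hS'S).isRetrocompact
      (hS'o.preimage continuous_subtype_val)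
  have := h.image_of_isOpenEmbedding (isOpenEmbedding_inclusion hS'o hS'S) hr
  convert this using 1
  ext z
  constructor
  · intro hz
    exact ⟨⟨z.1, hA hz⟩, hz, Subtype.ext rfl⟩
  · rintro ⟨y, hy, rfl⟩
    exact hy

theorem CIn.down {S' : Set X} (hS'o : IsOpen S') (hS'S : S' ⊆ S) (h : CIn S A) : CIn S' A := by
  unfold CIn at *
  have := Topology.IsConstructible.preimage_of_isOpenEmbedding (f := Set.inclusion hS'S)
    (isOpenEmbedding_inclusion hS'o hS'S) h
  exact this

theorem cin_univ_iff : CIn Set.univ A ↔ Topology.IsConstructible A := by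
  unfold CIn
  exact Topology.isConstructible_preimage_iff_of_isOpenEmbedding
    isOpen_univ.isOpenEmbedding_subtypeVal (by rw [Subtype.range_coe]; exact IsRetrocompact.univ)
    (by rw [Subtype.range_coe]; exact Set.subset_univ _)

theorem cin_image {Y : Type*} [TopologicalSpace Y] {f : Y → X} (hf : IsOpenEmbedding f)
    {S' A' : Set Y} (hS' : IsOpen S') (h : CIn S' A') : CIn (f '' S') (f '' A') := by
  unfold CIn at *
  have H : Set.MapsTo f S' (f '' S') := Set.mapsTo_image f S'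
  have he : IsOpenEmbedding H.restrict := hf.restrict H hS'
  have hrange : Set.range H.restrict = Set.univ := by
    rw [Set.MapsTo.range_restrict]
    ext ⟨x, hx⟩
    simp [hx]
  have := h.image_of_isOpenEmbedding he (by rw [hrange]; exact IsRetrocompact.univ)
  convert this using 1
  ext ⟨x, hx⟩
  constructor
  · rintro ⟨a, haA, hax⟩
    obtain ⟨s, hs, hsx⟩ := hx
    have : a = s := hf.injective (hax.trans hsx.symm)
    subst this
    exact ⟨⟨a, hs⟩, haA, Subtype.ext hax⟩
  · rintro ⟨⟨a, ha⟩, haA, heq⟩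
    exact ⟨a, haA, congrArg Subtype.val heq⟩

end Top

section Sch

variable {X : Scheme.{u}}

theorem range_comp_eq {A B : Scheme.{u}} (a : A ⟶ B) (b : B ⟶ X) :
    Set.range (a ≫ b) = b '' Set.range a := by
  ext x
  constructor
  · rintro ⟨y, rfl⟩
    exact ⟨a y, ⟨y, rfl⟩, (Scheme.Hom.comp_apply a b y).symm⟩
  · rintro ⟨_, ⟨y, rfl⟩, rfl⟩
    exact ⟨y, Scheme.Hom.comp_apply a b y⟩

theorem exists_immersion_of_isLocallyClosed (Z : Set X) (hZ : IsLocallyClosed Z) :
    ∃ (Z' : Scheme.{u}) (z : Z' ⟶ X), IsImmersion z ∧ Set.range z = Z := by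
  obtain ⟨U, C, hU, hC, rfl⟩ := hZ
  let Uo : X.Opens := ⟨U, hU⟩
  let C' : TopologicalSpace.Closeds Uo.toScheme :=
    ⟨Uo.ι ⁻¹' C, hC.preimage Uo.ι.continuous⟩
  refine ⟨(Scheme.IdealSheafData.vanishingIdeal C').subscheme,
    (Scheme.IdealSheafData.vanishingIdeal C').subschemeι ≫ Uo.ι, inferInstance, ?_⟩
  rw [range_comp_eq, Scheme.IdealSheafData.range_subschemeι,
    Scheme.IdealSheafData.coe_support_vanishingIdeal]
  show Uo.ι '' (Uo.ι ⁻¹' C) = U ∩ C
  rw [Set.image_preimage_eq_inter_range, Scheme.Opens.range_ι, Set.inter_comm]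
  rfl

theorem exists_affine_refinement {W : Set X} (hWc : IsCompact W) (hWo : IsOpen W) {J : Type*}
    (O : J → Set X) (hO : ∀ j, IsOpen (O j)) (hcov : W ⊆ ⋃ j, O j) :
    ∃ s : Finset {V : X.affineOpens // ((V : X.Opens) : Set X) ⊆ W ∧
        ∃ j, ((V : X.Opens) : Set X) ⊆ O j},
      W ⊆ ⋃ V ∈ s, ((V.1 : X.Opens) : Set X) := by
  apply hWc.elim_finite_subcover
    (fun V : {V : X.affineOpens // ((V : X.Opens) : Set X) ⊆ W ∧
        ∃ j, ((V : X.Opens) : Set X) ⊆ O j} => ((V.1 : X.Opens) : Set X))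
    (fun V => V.1.1.isOpen)
  intro x hx
  obtain ⟨j, hj⟩ := Set.mem_iUnion.mp (hcov hx)
  obtain ⟨_, ⟨V, hV, rfl⟩, hxV, hVsub⟩ := X.isBasis_affineOpens.exists_subset_of_mem_open
    (show x ∈ W ∩ O j from ⟨hx, hj⟩) (hWo.inter (hO j))
  exact Set.mem_iUnion.mpr ⟨⟨⟨V, hV⟩, hVsub.trans Set.inter_subset_left, j,
    hVsub.trans Set.inter_subset_right⟩, hxV⟩

/-- Stratification of `S` by finitely many immersions satisfying `P`. -/
def Strat (P : ∀ ⦃T : Scheme.{u}⦄, (T ⟶ X) → Prop) (S : Set X) : Prop :=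
  ∃ (ι : Type) (_ : Finite ι) (T : ι → Scheme.{u}) (g : ∀ i, T i ⟶ X),
    (∀ i, IsImmersion (g i)) ∧ (∀ i, CIn S (Set.range (g i))) ∧
    Pairwise (fun i j => Disjoint (Set.range (g i)) (Set.range (g j))) ∧
    (⋃ i, Set.range (g i)) = S ∧ ∀ i, P (g i)

def Stable (P : ∀ ⦃T : Scheme.{u}⦄, (T ⟶ X) → Prop) : Prop :=
  ∀ ⦃T T' : Scheme.{u}⦄ (g : T ⟶ X) (h : T' ⟶ T), P g → P (h ≫ g)

def PF (F : EtCoh.Ab X) : ∀ ⦃T : Scheme.{u}⦄, (T ⟶ X) → Prop :=
  fun T g => EtCoh.IsFiniteLocallyConstant ((EtCoh.pull g).obj F)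

theorem stable_PF (F : EtCoh.Ab X) : Stable (PF F) :=
  fun T T' g h hg => flc_pull_comp g F h hg

theorem adapted_iff (F : EtCoh.Ab X) (S : Set X) :
    EtPBC.AdaptedStrata F S ↔ Strat (PF F) S := by
  constructor
  · rintro ⟨n, T, g, h1, h2, h3, h4, h5⟩
    exact ⟨Fin n, inferInstance, T, g, h1, h2, h3, h4, fun i => h5 i⟩
  · rintro ⟨ι, hι, T, g, h1, h2, h3, h4, h5⟩
    obtain ⟨n, ⟨e⟩⟩ := Finite.exists_equiv_fin ι
    refine ⟨n, fun i => T (e.symm i), fun i => g (e.symm i), fun i => h1 _, fun i => h2 _,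
      ?_, ?_, fun i _ => h5 _⟩
    · intro i j hij
      exact h3 (e.symm.injective.ne hij)
    · rw [← h4]
      exact e.symm.surjective.iUnion_comp (fun i => Set.range (g i))

variable {P Q : ∀ ⦃T : Scheme.{u}⦄, (T ⟶ X) → Prop}

theorem Strat.mono (hPQ : ∀ ⦃T : Scheme.{u}⦄ (g : T ⟶ X), P g → Q g) {S : Set X}
    (h : Strat P S) : Strat Q S := by
  obtain ⟨ι, hι, T, g, h1, h2, h3, h4, h5⟩ := h
  exact ⟨ι, hι, T, g, h1, h2, h3, h4, fun i => hPQ _ (h5 i)⟩

theorem Strat.glue (hP : Stable P) (S : Set X) [QuasiSeparatedSpace S] {m : ℕ}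
    (W : Fin m → Set X) (hWo : ∀ k, IsOpen (W k)) (hWc : ∀ k, IsCompact (W k))
    (hWS : (⋃ k, W k) = S) (h : ∀ k, Strat P (W k)) : Strat P S := by
  classical
  have hWsub : ∀ k, W k ⊆ S := fun k => hWS ▸ Set.subset_iUnion W k
  let Z : Fin m → Set X := fun k => W k \ ⋃ j ∈ {j : Fin m | j < k}, W j
  have hZlc : ∀ k, IsLocallyClosed (Z k) := by
    intro k
    have : Z k = W k ∩ (⋃ j ∈ {j : Fin m | j < k}, W j)ᶜ := Set.sdiff_eq _ _
    rw [this]
    exact (hWo k).isLocallyClosed.inter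
      (isOpen_biUnion fun j _ => hWo j).isClosed_compl.isLocallyClosed
  have hZW : ∀ k, Z k ⊆ W k := fun k => Set.sdiff_subset
  have hZdisj : ∀ j k, j < k → Disjoint (W j) (Z k) := by
    intro j k hjk
    rw [Set.disjoint_left]
    intro x hxj hxk
    exact hxk.2 (Set.mem_biUnion (show j ∈ {j : Fin m | j < k} from hjk) hxj)
  have hZcov : (⋃ k, Z k) = S := by
    rw [← hWS]
    apply Set.Subset.antisymm
    · exact Set.iUnion_mono fun k => hZW k
    · intro x hx
      obtain ⟨k, hk⟩ := Set.mem_iUnion.mp hx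
      have hne : {k : Fin m | x ∈ W k}.Nonempty := ⟨k, hk⟩
      obtain ⟨k₀, hk₀, hmin⟩ := WellFounded.has_min (wellFounded_lt (α := Fin m)) _ hne
      refine Set.mem_iUnion.mpr ⟨k₀, hk₀, ?_⟩
      intro hx'
      obtain ⟨j, hj, hxj⟩ := Set.mem_iUnion₂.mp hx'
      exact hmin j hxj hj
  have hZc : ∀ k, CIn S (Z k) := fun k =>
    (cin_of_isOpen_isCompact (hWo k) (hWc k) (hWsub k)).sdiff
      (CIn.biUnion (Set.toFinite _) fun j _ =>
        cin_of_isOpen_isCompact (hWo j) (hWc j) (hWsub j))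
  choose Z' z hzi hzr using fun k => exists_immersion_of_isLocallyClosed (Z k) (hZlc k)
  unfold Strat at h
  choose ι hι T g hgi hgc hgd hgu hgP using h
  haveI := hι
  haveI : ∀ k, IsImmersion (z k) := hzi
  haveI : ∀ k i, IsImmersion (g k i) := hgi
  have hsubW : ∀ k i, Set.range (g k i) ⊆ W k := fun k i => by
    rw [← hgu k]
    exact Set.subset_iUnion (fun i => Set.range (g k i)) i
  have hr : ∀ p : (Σ k, ι k), Set.range (pullback.fst (g p.1 p.2) (z p.1) ≫ g p.1 p.2) =
      Set.range (g p.1 p.2) ∩ Z p.1 := fun p => by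
    rw [Scheme.Pullback.range_fst_comp, hzr]
  refine ⟨Σ k, ι k, inferInstance, fun p => pullback (g p.1 p.2) (z p.1),
    fun p => pullback.fst (g p.1 p.2) (z p.1) ≫ g p.1 p.2, fun p => inferInstance,
    ?_, ?_, ?_, fun p => hP _ _ (hgP p.1 p.2)⟩
  · intro p
    rw [hr]
    exact ((hgc p.1 p.2).up (hWo p.1) (hWc p.1) (hWsub p.1) (hsubW p.1 p.2)).inter (hZc p.1)
  · have key : ∀ p q : (Σ k, ι k), p ≠ q →
        Disjoint (Set.range (g p.1 p.2) ∩ Z p.1) (Set.range (g q.1 q.2) ∩ Z q.1) := by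
      rintro ⟨k, i⟩ ⟨k', i'⟩ hne
      show Disjoint (Set.range (g k i) ∩ Z k) (Set.range (g k' i') ∩ Z k')
      by_cases hk : k = k'
      · subst hk
        have hii : i ≠ i' := fun e => hne (by rw [e])
        exact (hgd k hii).mono Set.inter_subset_left Set.inter_subset_left
      · rcases lt_or_gt_of_ne hk with hlt | hgt
        · exact (hZdisj k k' hlt).mono (Set.inter_subset_left.trans (hsubW k i))
            Set.inter_subset_right
        · exact ((hZdisj k' k hgt).mono (Set.inter_subset_left.trans (hsubW k' i'))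
            Set.inter_subset_right).symm
    intro p q hpq
    have := key p q hpq
    rw [← hr p, ← hr q] at this
    exact this
  · rw [← hZcov]
    ext x
    simp only [Set.mem_iUnion]
    constructor
    · rintro ⟨p, hp⟩
      rw [hr p] at hp
      exact ⟨p.1, hp.2⟩
    · rintro ⟨k, hk⟩
      have hxW : x ∈ W k := hZW k hk
      rw [← hgu k] at hxW
      obtain ⟨i, hi⟩ := Set.mem_iUnion.mp hxW
      refine ⟨⟨k, i⟩, ?_⟩
      rw [hr ⟨k, i⟩]
      exact ⟨hi, hk⟩

theorem Strat.glue' (hP : Stable P) (S : Set X) [QuasiSeparatedSpace S] {κ : Type*} [Finite κ]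
    (W : κ → Set X) (hWo : ∀ k, IsOpen (W k)) (hWc : ∀ k, IsCompact (W k))
    (hWS : (⋃ k, W k) = S) (h : ∀ k, Strat P (W k)) : Strat P S := by
  obtain ⟨m, ⟨e⟩⟩ := Finite.exists_equiv_fin κ
  refine Strat.glue hP S (fun k => W (e.symm k)) (fun k => hWo _) (fun k => hWc _) ?_
    (fun k => h _)
  rw [← hWS]
  exact e.symm.surjective.iUnion_comp W

theorem Strat.restrict_open (hP : Stable P) {S : Set X} (h : Strat P S) (W : X.Opens)
    (hWS : (W : Set X) ⊆ S) : Strat P (W : Set X) := by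
  obtain ⟨ι, hι, T, g, hgi, hgc, hgd, hgu, hgP⟩ := h
  haveI := hι
  haveI : ∀ i, IsImmersion (g i) := hgi
  have hr : ∀ i, Set.range (pullback.fst (g i) W.ι ≫ g i) = Set.range (g i) ∩ (W : Set X) :=
    fun i => by rw [Scheme.Pullback.range_fst_comp, Scheme.Opens.range_ι]
  refine ⟨ι, inferInstance, fun i => pullback (g i) W.ι, fun i => pullback.fst (g i) W.ι ≫ g i,
    fun i => inferInstance, ?_, ?_, ?_, fun i => hP _ _ (hgP i)⟩
  · intro i
    rw [hr]
    exact ((hgc i).down W.isOpen hWS).congr (by rw [Set.inter_assoc, Set.inter_self])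
  · intro i j hij
    have := (hgd hij).mono (Set.inter_subset_left (t := (W : Set X)))
      (Set.inter_subset_left (t := (W : Set X)))
    rw [← hr i, ← hr j] at this
    exact this
  · rw [Set.iUnion_congr hr, ← Set.iUnion_inter, hgu]
    exact Set.inter_eq_right.mpr hWS

theorem Strat.inter2 (hP : Stable P) (hQ : Stable Q) {S : Set X} (h : Strat P S)
    (h' : Strat Q S) : Strat (fun T g => P g ∧ Q g) S := by
  obtain ⟨ι, hι, T, g, hgi, hgc, hgd, hgu, hgP⟩ := h
  obtain ⟨κ, hκ, T', g', hgi', hgc', hgd', hgu', hgQ⟩ := h'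
  haveI := hι
  haveI := hκ
  haveI : ∀ i, IsImmersion (g i) := hgi
  haveI : ∀ k, IsImmersion (g' k) := hgi'
  have hr : ∀ p : ι × κ, Set.range (pullback.fst (g p.1) (g' p.2) ≫ g p.1) =
      Set.range (g p.1) ∩ Set.range (g' p.2) := fun p => Scheme.Pullback.range_fst_comp _ _
  refine ⟨ι × κ, inferInstance, fun p => pullback (g p.1) (g' p.2),
    fun p => pullback.fst (g p.1) (g' p.2) ≫ g p.1, fun p => inferInstance, ?_, ?_, ?_, ?_⟩
  · intro p
    rw [hr]
    exact (hgc p.1).inter (hgc' p.2)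
  · intro p q hpq
    have key : Disjoint (Set.range (g p.1) ∩ Set.range (g' p.2))
        (Set.range (g q.1) ∩ Set.range (g' q.2)) := by
      by_cases h1 : p.1 = q.1
      · have h2 : p.2 ≠ q.2 := fun e => hpq (Prod.ext h1 e)
        exact (hgd' h2).mono Set.inter_subset_right Set.inter_subset_right
      · exact (hgd h1).mono Set.inter_subset_left Set.inter_subset_left
    rw [← hr p, ← hr q] at key
    exact key
  · ext x
    simp only [Set.mem_iUnion]
    constructor
    · rintro ⟨p, hp⟩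
      rw [hr p] at hp
      rw [← hgu]
      exact Set.mem_iUnion.mpr ⟨p.1, hp.1⟩
    · intro hx
      have hx1 := hx
      rw [← hgu] at hx1
      have hx2 := hx
      rw [← hgu'] at hx2
      obtain ⟨i, hi⟩ := Set.mem_iUnion.mp hx1
      obtain ⟨k, hk⟩ := Set.mem_iUnion.mp hx2
      refine ⟨(i, k), ?_⟩
      rw [hr (i, k)]
      exact ⟨hi, hk⟩
  · intro p
    refine ⟨hP _ _ (hgP p.1), ?_⟩
    have := hQ (g' p.2) (pullback.snd (g p.1) (g' p.2)) (hgQ p.2)
    rwa [← pullback.condition] at this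

theorem Strat.map_openImmersion {Y : Scheme.{u}} (j : Y ⟶ X) [IsOpenImmersion j]
    {Q' : ∀ ⦃T : Scheme.{u}⦄, (T ⟶ Y) → Prop}
    (hQP : ∀ ⦃T : Scheme.{u}⦄ (g : T ⟶ Y), Q' g → P (g ≫ j)) {S' : Set Y} (hS' : IsOpen S')
    (h : Strat Q' S') : Strat P (j '' S') := by
  obtain ⟨ι, hι, T, g, hgi, hgc, hgd, hgu, hgQ⟩ := h
  haveI := hι
  haveI : ∀ i, IsImmersion (g i) := hgi
  have hr : ∀ i, Set.range (g i ≫ j) = j '' Set.range (g i) := fun i => range_comp_eq _ _
  refine ⟨ι, inferInstance, T, fun i => g i ≫ j, fun i => inferInstance, ?_, ?_, ?_,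
    fun i => hQP _ (hgQ i)⟩
  · intro i
    rw [hr]
    exact cin_image j.isOpenEmbedding hS' (hgc i)
  · intro i k hik
    show Disjoint (Set.range (g i ≫ j)) (Set.range (g k ≫ j))
    rw [hr i, hr k]
    exact (Set.disjoint_image_iff j.isOpenEmbedding.injective).mpr (hgd hik)
  · rw [Set.iUnion_congr hr, ← Set.image_iUnion, hgu]

end Sch

section Mains

theorem main28 (X : Scheme.{u}) [CompactSpace X] [QuasiSeparatedSpace X] (F : EtCoh.Ab X) :
    EtPBC.IsConstructible F ↔ EtPBC.AdaptedStrata F (Set.univ : Set X) := by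
  constructor
  · intro hF
    rw [adapted_iff]
    haveI : QuasiSeparatedSpace (Set.univ : Set X) :=
      (isQuasiSeparated_iff_quasiSeparatedSpace _ isOpen_univ).mp isQuasiSeparated_univ
    obtain ⟨s, hs⟩ := exists_affine_refinement (X := X) isCompact_univ isOpen_univ
      (fun _ : Unit => Set.univ) (fun _ => isOpen_univ)
      (by intro x _; exact Set.mem_iUnion.mpr ⟨(), trivial⟩)
    refine Strat.glue' (stable_PF F) Set.univ (fun V : s => ((V.1.1 : X.Opens) : Set X))
      (fun V => V.1.1.1.isOpen) (fun V => V.1.1.2.isCompact) ?_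
      (fun V => (adapted_iff _ _).mp (hF V.1.1.1 V.1.1.2))
    apply Set.eq_univ_of_univ_subset
    intro x hx
    obtain ⟨V, hVs, hxV⟩ := Set.mem_iUnion₂.mp (hs hx)
    exact Set.mem_iUnion.mpr ⟨⟨V, hVs⟩, hxV⟩
  · intro h U hU
    rw [adapted_iff] at h ⊢
    exact h.restrict_open (stable_PF F) U (Set.subset_univ _)

theorem main29 {X : Scheme.{u}} (F : EtCoh.Ab X) {ι : Type u} (U : ι → X.Opens)
    (hU : ⨆ i, U i = ⊤) (h : ∀ i, EtPBC.IsConstructible ((EtCoh.pull (U i).ι).obj F)) :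
    EtPBC.IsConstructible F := by
  intro W hW
  rw [adapted_iff]
  haveI : QuasiSeparatedSpace (W : Set X) :=
    (isQuasiSeparated_iff_quasiSeparatedSpace _ W.isOpen).mp hW.isQuasiSeparated
  obtain ⟨s, hs⟩ := exists_affine_refinement hW.isCompact W.isOpen
    (fun i => ((U i : X.Opens) : Set X)) (fun i => (U i).isOpen) (by
      intro x _
      have : x ∈ (⨆ i, U i : X.Opens) := by rw [hU]; trivial
      obtain ⟨i, hi⟩ := TopologicalSpace.Opens.mem_iSup.mp this
      exact Set.mem_iUnion.mpr ⟨i, hi⟩)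
  refine Strat.glue' (stable_PF F) (W : Set X) (fun V : s => ((V.1.1 : X.Opens) : Set X))
    (fun V => V.1.1.1.isOpen) (fun V => V.1.1.2.isCompact) ?_ ?_
  · apply Set.Subset.antisymm
    · exact Set.iUnion_subset fun V => V.1.2.1
    · intro x hx
      obtain ⟨V, hVs, hxV⟩ := Set.mem_iUnion₂.mp (hs hx)
      exact Set.mem_iUnion.mpr ⟨⟨V, hVs⟩, hxV⟩
  · intro V
    obtain ⟨i, hi⟩ := V.1.2.2
    have hV' : IsAffineOpen ((U i).ι ⁻¹ᵁ V.1.1.1) :=
      V.1.1.2.preimage_of_isOpenImmersion (U i).ι (by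
        rw [Scheme.Opens.opensRange_ι]
        exact hi)
    have h1 := (adapted_iff _ _).mp (h i _ hV')
    have h2 := Strat.map_openImmersion (U i).ι (P := PF F)
      (fun T g hg => flc_of_iso ((pullComp (U i).ι g).app F) hg)
      ((U i).ι ⁻¹ᵁ V.1.1.1).isOpen h1
    convert h2 using 1
    show ((V.1.1 : X.Opens) : Set X) = (U i).ι '' ((U i).ι ⁻¹' ((V.1.1 : X.Opens) : Set X))
    rw [Set.image_preimage_eq_inter_range, Scheme.Opens.range_ι, Set.inter_eq_left.mpr hi]

theorem main31 {X : Scheme.{u}} {F G : EtCoh.Ab X} (φ : F ⟶ G)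
    (hF : EtPBC.IsConstructible F) (hG : EtPBC.IsConstructible G) :
    EtPBC.IsConstructible (kernel φ) ∧ EtPBC.IsConstructible (cokernel φ) := by
  have key : ∀ U : X.Opens, IsAffineOpen U →
      Strat (fun T g => PF F g ∧ PF G g) (U : Set X) := fun U hU =>
    Strat.inter2 (stable_PF F) (stable_PF G) ((adapted_iff _ _).mp (hF U hU))
      ((adapted_iff _ _).mp (hG U hU))
  constructor
  · intro U hU
    rw [adapted_iff]
    refine (key U hU).mono ?_
    rintro T g ⟨h1, h2⟩
    have := ((Groth.Agent.Lib.EtLocConst.main45 T).1 _ _ ((EtCoh.pull g).map φ) h1 h2).1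
    exact flc_of_iso (PreservesKernel.iso (EtCoh.pull g) φ).symm this
  · intro U hU
    rw [adapted_iff]
    refine (key U hU).mono ?_
    rintro T g ⟨h1, h2⟩
    have := ((Groth.Agent.Lib.EtLocConst.main45 T).1 _ _ ((EtCoh.pull g).map φ) h1 h2).2
    exact flc_of_iso (PreservesCokernel.iso (EtCoh.pull g) φ).symm this

theorem main32 {X : Scheme.{u}} (S : ShortComplex (EtCoh.Ab X)) (hS : S.ShortExact)
    (h1 : EtPBC.IsConstructible S.X₁) (h3 : EtPBC.IsConstructible S.X₃) :
    EtPBC.IsConstructible S.X₂ := by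
  intro U hU
  rw [adapted_iff]
  refine (Strat.inter2 (stable_PF _) (stable_PF _) ((adapted_iff _ _).mp (h1 U hU))
    ((adapted_iff _ _).mp (h3 U hU))).mono ?_
  rintro T g ⟨a, b⟩
  have hS' : (S.map (EtCoh.pull g)).ShortExact := hS.map_of_exact (EtCoh.pull g)
  exact (Groth.Agent.Lib.EtLocConst.main45 T).2.prop_X₂_of_shortExact hS' a b

end Mains

end Groth.Agent.Lib.EtCons
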