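import Mathlib
import Groth.Agent.Lib.EtCons_lead

/-!
# Constructible abelian étale sheaves on locally Noetherian schemes: pointwise criterion (lead)
-/

set_option autoImplicit false
set_option linter.unusedSimpArgs false
set_option linter.unusedVariables false
set_option linter.unusedSectionVars false
set_option linter.style.longLine false
set_option linter.unnecessarySimpa false
set_option maxHeartbeats 1600000
set_option backward.isDefEq.respectTransparency false
set_option backward.isDefEq.respectTransparency.types false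
set_option backward.defeqAttrib.useBackward true

open CategoryTheory CategoryTheory.Limits AlgebraicGeometry Opposite Topology TopologicalSpace

namespace Groth.Agent.Lib.EtCons

open Groth.Agent.Lib.EtPull

universe u

theorem isConstructible_of_isLocallyClosed_noetherian {Y : Type*} [TopologicalSpace Y]
    [NoetherianSpace Y] {A : Set Y} (hA : IsLocallyClosed A) : Topology.IsConstructible A := by
  obtain ⟨O, C, hO, hC, rfl⟩ := hA
  have hretro : ∀ s : Set Y, IsRetrocompact s := fun s U _ _ => NoetherianSpace.isCompact _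
  exact ((hretro O).isConstructible hO).inter
    (((hretro Cᶜ).isConstructible hC.isOpen_compl).of_compl)

section PStrat

variable {Y : Scheme.{u}} {P : ∀ ⦃T : Scheme.{u}⦄, (T ⟶ Y) → Prop}

/-- A finite partition of `Z` into ranges of immersions satisfying `P` (no constructibility). -/
def PStrat (P : ∀ ⦃T : Scheme.{u}⦄, (T ⟶ Y) → Prop) (Z : Set Y) : Prop :=
  ∃ (ι : Type) (_ : Finite ι) (T : ι → Scheme.{u}) (g : ∀ i, T i ⟶ Y),
    (∀ i, IsImmersion (g i)) ∧
    Pairwise (fun i j => Disjoint (Set.range (g i)) (Set.range (g j))) ∧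
    (⋃ i, Set.range (g i)) = Z ∧ ∀ i, P (g i)

theorem PStrat.empty : PStrat P (∅ : Set Y) :=
  ⟨Empty, inferInstance, fun i => Empty.elim i, fun i => Empty.elim i, fun i => Empty.elim i,
    fun i => Empty.elim i, by simp, fun i => Empty.elim i⟩

theorem PStrat.single {T : Scheme.{u}} (g : T ⟶ Y) [IsImmersion g] (hg : P g) :
    PStrat P (Set.range g) :=
  ⟨Unit, inferInstance, fun _ => T, fun _ => g, fun _ => inferInstance,
    fun i j hij => (hij (Subsingleton.elim i j)).elim, Set.iUnion_const _, fun _ => hg⟩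

theorem PStrat.union {A B : Set Y} (hA : PStrat P A) (hB : PStrat P B) (hAB : Disjoint A B) :
    PStrat P (A ∪ B) := by
  obtain ⟨ι, hι, T, g, hgi, hgd, hgu, hgP⟩ := hA
  obtain ⟨κ, hκ, T', g', hgi', hgd', hgu', hgP'⟩ := hB
  haveI := hι
  haveI := hκ
  have hsubA : ∀ i, Set.range (g i) ⊆ A := fun i => hgu ▸ Set.subset_iUnion (fun i => Set.range (g i)) i
  have hsubB : ∀ k, Set.range (g' k) ⊆ B := fun k => hgu' ▸ Set.subset_iUnion (fun k => Set.range (g' k)) k
  refine ⟨ι ⊕ κ, inferInstance, Sum.elim T T',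
    fun i => match i with
      | .inl i => g i
      | .inr k => g' k,
    fun i => match i with
      | .inl i => hgi i
      | .inr k => hgi' k, ?_, ?_,
    fun i => match i with
      | .inl i => hgP i
      | .inr k => hgP' k⟩
  · rintro (i | k) (j | l) hne
    · exact hgd (fun e => hne (by rw [e]))
    · exact hAB.mono (hsubA i) (hsubB l)
    · exact (hAB.mono (hsubA j) (hsubB k)).symm
    · exact hgd' (fun e => hne (by rw [e]))
  · rw [Set.iUnion_sum]
    show (⋃ i, Set.range (g i)) ∪ (⋃ k, Set.range (g' k)) = A ∪ B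
    rw [hgu, hgu']

theorem PStrat.inter_lc (hP : Stable P) {A L : Set Y} (hA : PStrat P A)
    (hL : IsLocallyClosed L) : PStrat P (A ∩ L) := by
  obtain ⟨ι, hι, T, g, hgi, hgd, hgu, hgP⟩ := hA
  obtain ⟨L', l, hli, hlr⟩ := exists_immersion_of_isLocallyClosed L hL
  haveI := hι
  haveI : ∀ i, IsImmersion (g i) := hgi
  haveI := hli
  have hr : ∀ i, Set.range (pullback.fst (g i) l ≫ g i) = Set.range (g i) ∩ L := fun i => by
    rw [Scheme.Pullback.range_fst_comp, hlr]
  refine ⟨ι, hι, fun i => pullback (g i) l, fun i => pullback.fst (g i) l ≫ g i,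
    fun i => inferInstance, ?_, ?_, fun i => hP _ _ (hgP i)⟩
  · intro i j hij
    have : Disjoint (Set.range (g i) ∩ L) (Set.range (g j) ∩ L) :=
      (hgd hij).mono Set.inter_subset_left Set.inter_subset_left
    rw [← hr i, ← hr j] at this
    exact this
  · rw [Set.iUnion_congr hr, ← Set.iUnion_inter, hgu]

theorem pstrat_of_pointwise [NoetherianSpace Y] (hP : Stable P)
    (H : ∀ y : Y, ∃ (V : Set Y) (T : Scheme.{u}) (g : T ⟶ Y), IsOpen V ∧ IsImmersion g ∧ y ∈ V ∧
      Set.range g = V ∩ closure {y} ∧ P g) (Z : Closeds Y) : PStrat P (Z : Set Y) := by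
  refine WellFoundedLT.induction (motive := fun Z : Closeds Y => PStrat P (Z : Set Y)) Z
    (fun Z ih => ?_)
  by_cases hne : (Z : Set Y) = ∅
  · rw [hne]
    exact PStrat.empty
  by_cases hirr : IsPreirreducible (Z : Set Y)
  · have hZirr : IsIrreducible (Z : Set Y) := ⟨Set.nonempty_iff_ne_empty.mpr hne, hirr⟩
    obtain ⟨y, hy⟩ : ∃ y : Y, closure {y} = (Z : Set Y) :=
      ⟨_, hZirr.closure_genericPoint Z.isClosed⟩
    obtain ⟨V, T, g, hV, hg, hyV, hr, hPg⟩ := H y
    haveI := hg
    have hyZ : y ∈ (Z : Set Y) := by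
      rw [← hy]
      exact subset_closure (Set.mem_singleton y)
    have hlt : (⟨(Z : Set Y) \ V, Z.isClosed.sdiff hV⟩ : Closeds Y) < Z := by
      refine lt_of_le_of_ne (SetLike.coe_subset_coe.mp (Set.sdiff_subset : (Z : Set Y) \ V ⊆ Z)) ?_
      intro heq
      have h1 : (Z : Set Y) \ V = (Z : Set Y) :=
        congrArg (fun W : Closeds Y => (W : Set Y)) heq
      have h2 : y ∈ (Z : Set Y) \ V := by
        rw [h1]
        exact hyZ
      exact h2.2 hyV
    have h1 : PStrat P ((Z : Set Y) \ V) := ih _ hlt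
    have h2 : PStrat P (Set.range g) := PStrat.single g hPg
    have heq : (Z : Set Y) = ((Z : Set Y) \ V) ∪ Set.range g := by
      rw [hr, hy]
      ext x
      simp only [Set.mem_union, Set.mem_sdiff, Set.mem_inter_iff]
      tauto
    rw [heq]
    refine h1.union h2 ?_
    rw [hr, hy, Set.disjoint_left]
    rintro x ⟨-, hxV⟩ ⟨hxV', -⟩
    exact hxV hxV'
  · rw [isPreirreducible_iff_isClosed_union_isClosed] at hirr
    push Not at hirr
    obtain ⟨z₁, z₂, hz₁, hz₂, hsub, hn1, hn2⟩ := hirr
    have hlt1 : (⟨(Z : Set Y) ∩ z₁, Z.isClosed.inter hz₁⟩ : Closeds Y) < Z := by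
      refine lt_of_le_of_ne
        (SetLike.coe_subset_coe.mp (Set.inter_subset_left : (Z : Set Y) ∩ z₁ ⊆ Z)) ?_
      intro heq
      have h1 : (Z : Set Y) ∩ z₁ = (Z : Set Y) :=
        congrArg (fun W : Closeds Y => (W : Set Y)) heq
      exact hn1 (Set.inter_eq_left.mp h1)
    have hlt2 : (⟨(Z : Set Y) ∩ z₂, Z.isClosed.inter hz₂⟩ : Closeds Y) < Z := by
      refine lt_of_le_of_ne
        (SetLike.coe_subset_coe.mp (Set.inter_subset_left : (Z : Set Y) ∩ z₂ ⊆ Z)) ?_
      intro heq
      have h1 : (Z : Set Y) ∩ z₂ = (Z : Set Y) :=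
        congrArg (fun W : Closeds Y => (W : Set Y)) heq
      exact hn2 (Set.inter_eq_left.mp h1)
    have h1 : PStrat P ((Z : Set Y) ∩ z₁) := ih _ hlt1
    have h2 : PStrat P ((Z : Set Y) ∩ z₂) := ih _ hlt2
    have h2' := h2.inter_lc hP (L := ((Z : Set Y) ∩ z₁)ᶜ)
      (Z.isClosed.inter hz₁).isOpen_compl.isLocallyClosed
    have heq : (Z : Set Y) = ((Z : Set Y) ∩ z₁) ∪ (((Z : Set Y) ∩ z₂) ∩ ((Z : Set Y) ∩ z₁)ᶜ) := by
      ext x
      simp only [Set.mem_union, Set.mem_inter_iff, Set.mem_compl_iff]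
      constructor
      · intro hx
        rcases hsub hx with h | h
        · exact Or.inl ⟨hx, h⟩
        · by_cases hx1 : x ∈ z₁
          · exact Or.inl ⟨hx, hx1⟩
          · exact Or.inr ⟨⟨hx, h⟩, fun hh => hx1 hh.2⟩
      · rintro (h | h)
        · exact h.1
        · exact h.1.1
    rw [heq]
    refine h1.union h2' ?_
    rw [Set.disjoint_left]
    rintro x hx ⟨-, hx'⟩
    exact hx' hx

end PStrat

theorem main8527 {X : Scheme.{u}} [IsLocallyNoetherian X] (F : EtCoh.Ab X) :
    EtPBC.IsConstructible F ↔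
      ∀ x : X, ∃ (V : X.Opens) (T : Scheme.{u}) (g : T ⟶ X), IsImmersion g ∧ x ∈ V ∧
        Set.range g.base = (V : Set X) ∩ closure {x} ∧
        EtCoh.IsFiniteLocallyConstant ((EtCoh.pull g).obj F) := by
  constructor
  · intro hF x
    obtain ⟨_, ⟨U, hU, rfl⟩, hxU, -⟩ := X.isBasis_affineOpens.exists_subset_of_mem_open
      (Set.mem_univ x) isOpen_univ
    obtain ⟨ι, hι, T, g, hgi, hgc, hgd, hgu, hgP⟩ := (adapted_iff _ _).mp (hF U hU)
    haveI : ∀ i, IsImmersion (g i) := hgi
    have hx' : x ∈ ⋃ i, Set.range (g i) := hgu ▸ hxU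
    obtain ⟨i, hi⟩ := Set.mem_iUnion.mp hx'
    obtain ⟨O, C, hO, hC, hOC⟩ := (g i).isLocallyClosed_range
    have hxOC : x ∈ O ∩ C := hOC ▸ hi
    have hcl : closure {x} ⊆ C := closure_minimal (Set.singleton_subset_iff.mpr hxOC.2) hC
    obtain ⟨Z', z, hzi, hzr⟩ := exists_immersion_of_isLocallyClosed (O ∩ closure {x})
      (hO.isLocallyClosed.inter isClosed_closure.isLocallyClosed)
    haveI := hzi
    refine ⟨⟨O, hO⟩, pullback z (g i), pullback.fst z (g i) ≫ z, inferInstance, hxOC.1, ?_, ?_⟩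
    · show Set.range (pullback.fst z (g i) ≫ z) = O ∩ closure {x}
      rw [Scheme.Pullback.range_fst_comp, hzr, hOC]
      exact Set.inter_eq_left.mpr (fun y hy => ⟨hy.1, hcl hy.2⟩)
    · have := stable_PF F (g i) (pullback.snd z (g i)) (hgP i)
      rw [← pullback.condition] at this
      exact this
  · intro hyp U hU
    rw [adapted_iff]
    haveI : IsNoetherianRing Γ(X, U) := IsLocallyNoetherian.component_noetherian ⟨U, hU⟩
    haveI : NoetherianSpace U.toScheme := noetherianSpace_of_isAffineOpen U hU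
    have H : ∀ y : U.toScheme, ∃ (V : Set U.toScheme) (T : Scheme.{u}) (g : T ⟶ U.toScheme),
        IsOpen V ∧ IsImmersion g ∧ y ∈ V ∧ Set.range g = V ∩ closure {y} ∧
        PF ((EtCoh.pull U.ι).obj F) g := by
      intro y
      obtain ⟨V, T, g, hg, hxV, hr, hflc⟩ := hyp (U.ι y)
      haveI := hg
      refine ⟨U.ι ⁻¹' (V : Set X), pullback g U.ι, pullback.snd g U.ι,
        V.isOpen.preimage U.ι.continuous, inferInstance, hxV, ?_, ?_⟩
      · rw [Scheme.Pullback.range_snd]
        have hr' : Set.range g = (V : Set X) ∩ closure {U.ι y} := hr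
        rw [hr', Set.preimage_inter, U.ι.isEmbedding.closure_eq_preimage_closure_image,
          Set.image_singleton]
      · exact flc_of_iso ((pullComp U.ι (pullback.snd g U.ι)).app F).symm
          (flc_pull_of_fac g F (pullback.fst g U.ι) (pullback.snd g U.ι ≫ U.ι)
            pullback.condition hflc)
    obtain ⟨ι, hι, T, g, hgi, hgd, hgu, hgP⟩ :=
      pstrat_of_pointwise (stable_PF _) H (⊤ : Closeds U.toScheme)
    haveI : ∀ i, IsImmersion (g i) := hgi
    have hS : Strat (PF ((EtCoh.pull U.ι).obj F)) (Set.univ : Set U.toScheme) :=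
      ⟨ι, hι, T, g, hgi, fun i => cin_univ_iff.mpr
        (isConstructible_of_isLocallyClosed_noetherian (g i).isLocallyClosed_range), hgd, hgu, hgP⟩
    have h2 := Strat.map_openImmersion U.ι (P := PF F)
      (fun T g hg => flc_of_iso ((pullComp U.ι g).app F) hg) isOpen_univ hS
    rw [Set.image_univ, Scheme.Opens.range_ι] at h2
    exact h2

end Groth.Agent.Lib.EtCons
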