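import Mathlib
import Groth.Agent.Lib.EtCons4_lead

/-!
# Subsheaves and quotients of constructible abelian étale sheaves on Noetherian schemes (lead)
-/

set_option autoImplicit false
set_option linter.unusedSimpArgs false
set_option linter.unusedVariables false
set_option linter.unusedSectionVars false
set_option linter.style.longLine false
set_option linter.unnecessarySimpa false
set_option maxHeartbeats 1600000
set_option backward.isDefEq.respectTransparency false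
set_option backward.isDefEq.respectTransparency.types false
set_option backward.defeqAttrib.useBackward true

open CategoryTheory CategoryTheory.Limits AlgebraicGeometry Opposite Topology TopologicalSpace

namespace Groth.Agent.Lib.EtSub

open Groth.Agent.Lib.EtPull Groth.Agent.Lib.EtCons Groth.Agent.Lib.EtLocConst
  Groth.Agent.Lib.EtSchSite_helper7

universe u

section Top

theorem exists_open_subset_closure_top {α : Type*} [TopologicalSpace α] [NoetherianSpace α]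
    [QuasiSober α] (y : α) (hmax : ∀ c : α, c ⤳ y → c = y) :
    ∃ O : Set α, IsOpen O ∧ y ∈ O ∧ O ⊆ closure {y} := by
  classical
  have hfin : {C ∈ irreducibleComponents α | y ∉ C}.Finite :=
    NoetherianSpace.finite_irreducibleComponents.subset (fun C hC => hC.1)
  have hB : IsClosed (⋃ C ∈ {C ∈ irreducibleComponents α | y ∉ C}, C) :=
    hfin.isClosed_biUnion (fun C hC => isClosed_of_mem_irreducibleComponents C hC.1)
  refine ⟨(⋃ C ∈ {C ∈ irreducibleComponents α | y ∉ C}, C)ᶜ, hB.isOpen_compl, ?_, ?_⟩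
  · intro hy
    obtain ⟨C, hC, hyC⟩ := Set.mem_iUnion₂.mp hy
    exact hC.2 hyC
  · intro v hv
    have hyC : y ∈ irreducibleComponent v := by
      by_contra h
      exact hv (Set.mem_iUnion₂.mpr ⟨irreducibleComponent v,
        ⟨irreducibleComponent_mem_irreducibleComponents v, h⟩, mem_irreducibleComponent⟩)
    obtain ⟨c, hc⟩ := QuasiSober.sober (isIrreducible_irreducibleComponent (x := v))
      isClosed_irreducibleComponent
    have h1 : c ⤳ y := by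
      rw [specializes_iff_mem_closure, hc.def]
      exact hyC
    have h2 := hmax c h1
    rw [← h2, hc.def]
    exact mem_irreducibleComponent

theorem exists_opens_subset_closure (Y : Scheme.{u}) [IsLocallyNoetherian Y] (y₀ : Y)
    (hmax : ∀ c : Y, c ⤳ y₀ → c = y₀) :
    ∃ O : Y.Opens, y₀ ∈ O ∧ (O : Set Y) ⊆ closure {y₀} := by
  obtain ⟨W, hW, hyW⟩ : ∃ W : Y.Opens, IsAffineOpen W ∧ y₀ ∈ W := by
    obtain ⟨_, ⟨W, hW, rfl⟩, hyW, -⟩ := Y.isBasis_affineOpens.exists_subset_of_mem_open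
      (Set.mem_univ y₀) isOpen_univ
    exact ⟨W, hW, hyW⟩
  haveI : IsNoetherianRing Γ(Y, W) := IsLocallyNoetherian.component_noetherian ⟨W, hW⟩
  haveI : NoetherianSpace W.toScheme := noetherianSpace_of_isAffineOpen W hW
  obtain ⟨y', hy'⟩ : ∃ y' : W.toScheme, W.ι y' = y₀ := ⟨⟨y₀, hyW⟩, rfl⟩
  have hmax' : ∀ c : W.toScheme, c ⤳ y' → c = y' := by
    intro c hc
    have h1 : W.ι c ⤳ W.ι y' := hc.map W.ι.continuous
    rw [hy'] at h1
    have h2 := hmax _ h1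
    exact W.ι.isOpenEmbedding.injective (h2.trans hy'.symm)
  obtain ⟨O, hO, hyO, hOcl⟩ := exists_open_subset_closure_top y' hmax'
  refine ⟨⟨W.ι '' O, W.ι.isOpenEmbedding.isOpenMap O hO⟩, ?_, ?_⟩
  · show y₀ ∈ W.ι '' O
    exact ⟨y', hyO, hy'⟩
  · intro v hv
    obtain ⟨w, hw, rfl⟩ : v ∈ W.ι '' O := hv
    have h3 : W.ι w ∈ W.ι '' closure {y'} := ⟨w, hOcl hw, rfl⟩
    have h4 := image_closure_subset_closure_image W.ι.continuous h3
    rw [Set.image_singleton, hy'] at h4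
    exact h4

theorem locallyQuasiFinite_of_etale {A B : Scheme.{u}} (g : A ⟶ B) [Etale g] :
    LocallyQuasiFinite g := by
  constructor
  intro U hU V hV e
  have h1 := LocallyOfFiniteType.finiteType_appLE (f := g) hU hV e
  have h2 := FormallyUnramified.formallyUnramified_appLE (f := g) hU hV e
  algebraize [(g.appLE U V e).hom]
  have : Algebra.EssFiniteType Γ(B, U) Γ(A, V) := inferInstance
  show Algebra.QuasiFinite _ _
  infer_instance

theorem eq_of_specializes_of_generic {T : Scheme.{u}} (Y : T.Etale) {t : T}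
    (ht : closure {t} = Set.univ) (y₀ : Y.left) (hy₀ : Y.hom.base y₀ = t) (c : Y.left)
    (hc : c ⤳ y₀) : c = y₀ := by
  haveI : LocallyQuasiFinite Y.hom := locallyQuasiFinite_of_etale Y.hom
  have h1 : Y.hom.base c ⤳ Y.hom.base y₀ := hc.map Y.hom.continuous
  rw [hy₀] at h1
  have h2 : t ⤳ Y.hom.base c := by
    rw [specializes_iff_mem_closure, ht]
    trivial
  have h3 : Y.hom.base c = t := (h1.antisymm h2).eq
  have hd : _root_.IsDiscrete (Y.hom ⁻¹' {t}) := Y.hom.isDiscrete_preimage_singleton t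
  haveI : DiscreteTopology (Y.hom ⁻¹' {t}) := hd.to_subtype
  have h4 : (⟨c, h3⟩ : Y.hom ⁻¹' {t}) ⤳ ⟨y₀, hy₀⟩ := (subtype_specializes_iff _ _).mpr hc
  exact congrArg Subtype.val h4.eq

theorem exists_irred_nbhd {T : Scheme.{u}} [IsLocallyNoetherian T] {t : T}
    (ht : closure {t} = Set.univ) (Y₀ : T.Etale) (y₀ : Y₀.left) (hy₀ : Y₀.hom.base y₀ = t) :
    ∃ (P : T.Etale) (q : P ⟶ Y₀) (z : P.left), q.left.base z = y₀ ∧
      ∀ p : P.left, q.left.base p ∈ closure {y₀} := by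
  haveI : IsLocallyNoetherian Y₀.left :=
    LocallyOfFiniteType.isLocallyNoetherian (X := Y₀.left) (Y := T) Y₀.hom
  obtain ⟨O, hyO, hO⟩ := exists_opens_subset_closure Y₀.left y₀
    (fun c hc => eq_of_specializes_of_generic Y₀ ht y₀ hy₀ c hc)
  haveI : Etale (O.ι ≫ Y₀.hom) := inferInstance
  refine ⟨Scheme.Etale.mk (O.ι ≫ Y₀.hom), MorphismProperty.Over.homMk O.ι rfl trivial,
    (⟨y₀, hyO⟩ : O.toScheme), rfl, ?_⟩
  intro p
  exact hO p.2

end Top

section Sub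

variable {T : Scheme.{u}} {F' : EtCoh.Ab T} (D : Triv F')

/-- the constants `n` whose constant section over `Y` lies in the subsheaf -/
noncomputable def Nsub {G : EtCoh.Ab T} (ι : G ⟶ F') {Y : T.Etale} (h : Y ⟶ D.U) : AddSubgroup D.N :=
  AddSubgroup.comap (D.θ h) (AddMonoidHom.range (ι.hom.app (op Y)).hom)

theorem mem_Nsub {G : EtCoh.Ab T} (ι : G ⟶ F') {Y : T.Etale} (h : Y ⟶ D.U) (n : D.N) :
    n ∈ Nsub D ι h ↔ ∃ s : G.obj.obj (op Y), (ι.hom.app (op Y)).hom s = D.θ h n := by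
  unfold Nsub
  rw [AddSubgroup.mem_comap, AddMonoidHom.mem_range]

theorem Nsub_mono {G : EtCoh.Ab T} (ι : G ⟶ F') {Y Y' : T.Etale} (h : Y ⟶ D.U) (g : Y' ⟶ Y) :
    Nsub D ι h ≤ Nsub D ι (g ≫ h) := by
  intro n hn
  rw [mem_Nsub] at hn ⊢
  obtain ⟨s, hs⟩ := hn
  exact ⟨(G.obj.map g.op).hom s, by rw [nat_apply ι g s, hs, D.θ_res]⟩

theorem Nsub_le_of_fac {G₁ G₂ : EtCoh.Ab T} (ι₁ : G₁ ⟶ F') (ι₂ : G₂ ⟶ F') (φ : G₁ ⟶ G₂)
    (hφ : φ ≫ ι₂ = ι₁) {Y : T.Etale} (h : Y ⟶ D.U) : Nsub D ι₁ h ≤ Nsub D ι₂ h := by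
  intro n hn
  rw [mem_Nsub] at hn ⊢
  obtain ⟨s, hs⟩ := hn
  exact ⟨(φ.hom.app (op Y)).hom s,
    (congrArg (fun m => (m.hom.app (op Y)).hom s) hφ).trans hs⟩

theorem exists_max {G : EtCoh.Ab T} (ι : G ⟶ F') (pt : D.U.left) [Finite D.N] :
    ∃ (Y₀ : T.Etale) (h₀ : Y₀ ⟶ D.U) (y₀ : Y₀.left), h₀.left.base y₀ = pt ∧
      ∀ (Z : T.Etale) (g : Z ⟶ D.U), pt ∈ Set.range g.left → Nsub D ι g ≤ Nsub D ι h₀ := by
  classical
  let A : Set D.N := {n | ∃ (Z : T.Etale) (g : Z ⟶ D.U), pt ∈ Set.range g.left ∧ n ∈ Nsub D ι g}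
  have hA : ∀ n : A, ∃ (Z : T.Etale) (g : Z ⟶ D.U), pt ∈ Set.range g.left ∧ n.1 ∈ Nsub D ι g :=
    fun n => n.2
  choose Zt g hu hn using hA
  haveI : Fintype A := Fintype.ofFinite A
  obtain ⟨P, q, ⟨z, hz⟩, hr⟩ := exists_common pt (Finset.univ : Finset A) Zt g hu
  refine ⟨P, q, z, hz, ?_⟩
  intro Z k hk n hnk
  have hnA : n ∈ A := ⟨Z, k, hk, hnk⟩
  obtain ⟨r, hr'⟩ := hr ⟨n, hnA⟩ (Finset.mem_univ _)
  have h1 := Nsub_mono D ι (g ⟨n, hnA⟩) r (hn ⟨n, hnA⟩)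
  rw [hr'] at h1
  exact h1

theorem local_mem {G₁ G₂ : EtCoh.Ab T} (ι₁ : G₁ ⟶ F') (ι₂ : G₂ ⟶ F') (pt : D.U.left)
    {Y₀ : T.Etale} (h₀ : Y₀ ⟶ D.U) (y₀ : Y₀.left) (hy₀ : h₀.left.base y₀ = pt)
    (hmax : ∀ (Z : T.Etale) (g : Z ⟶ D.U), pt ∈ Set.range g.left →
      Nsub D ι₂ g ≤ Nsub D ι₁ h₀)
    {P : T.Etale} (q : P ⟶ Y₀) (hq : ∀ p : P.left, q.left.base p ∈ closure {y₀})
    {Y : T.Etale} (h : Y ⟶ P) (s : G₂.obj.obj (op Y)) (y : Y.left) :
    ∃ (Z : T.Etale) (k : Z ⟶ Y) (n : D.N), y ∈ Set.range k.left ∧ n ∈ Nsub D ι₁ h₀ ∧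
      D.θ (k ≫ h ≫ q ≫ h₀) n = (ι₂.hom.app (op Z)).hom ((G₂.obj.map k.op).hom s) := by
  obtain ⟨Z, k, n, ⟨z, hz⟩, hn⟩ := D.exists_local (h ≫ q ≫ h₀) ((ι₂.hom.app (op Y)).hom s) y
  have hn' : D.θ (k ≫ h ≫ q ≫ h₀) n =
      (ι₂.hom.app (op Z)).hom ((G₂.obj.map k.op).hom s) := by
    rw [nat_apply ι₂ k s]
    exact hn
  refine ⟨Z, k, n, ⟨z, hz⟩, ?_, hn'⟩
  have hmemN : n ∈ Nsub D ι₂ (k ≫ h ≫ q ≫ h₀) := (mem_Nsub D ι₂ _ n).2 ⟨_, hn'.symm⟩
  refine hmax Z (k ≫ h ≫ q ≫ h₀) ?_ hmemN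
  have hopen : IsOpen (Set.range (k ≫ h ≫ q).left) := (k ≫ h ≫ q).left.isOpenMap.isOpen_range
  have hcl : (k ≫ h ≫ q).left.base z ∈ closure {y₀} := hq ((k ≫ h).left.base z)
  obtain ⟨v, hv1, hv2⟩ := mem_closure_iff.mp hcl _ hopen ⟨z, rfl⟩
  obtain ⟨z', hz'⟩ := hv1
  rw [Set.mem_singleton_iff.mp hv2] at hz'
  refine ⟨z', ?_⟩
  show h₀.left.base ((k ≫ h ≫ q).left.base z') = pt
  rw [hz', hy₀]

theorem lcdata_sub {G : EtCoh.Ab T} (ι : G ⟶ F') [Mono ι] (pt : D.U.left)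
    {Y₀ : T.Etale} (h₀ : Y₀ ⟶ D.U) (y₀ : Y₀.left) (hy₀ : h₀.left.base y₀ = pt)
    (hmax : ∀ (Z : T.Etale) (g : Z ⟶ D.U), pt ∈ Set.range g.left → Nsub D ι g ≤ Nsub D ι h₀)
    {P : T.Etale} (q : P ⟶ Y₀) (hq : ∀ p : P.left, q.left.base p ∈ closure {y₀}) :
    Nonempty (LCData G P (Nsub D ι h₀)) := by
  classical
  have hinj : ∀ Y : T.Etale, Function.Injective (ι.hom.app (op Y)).hom :=
    fun Y => sec_injective ι Y
  have hlift : ∀ (Y : T.Etale) (g : Y ⟶ P) (b : Nsub D ι h₀), ∃ t : G.obj.obj (op Y),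
      (ι.hom.app (op Y)).hom t = D.θ (g ≫ q ≫ h₀) b.1 := by
    intro Y g b
    have h1 := Nsub_mono D ι h₀ (g ≫ q) b.2
    rw [Category.assoc] at h1
    exact (mem_Nsub D ι _ _).1 h1
  choose τ hτ using hlift
  have hadd : ∀ (Y : T.Etale) (g : Y ⟶ P) (b b' : Nsub D ι h₀),
      τ Y g (b + b') = τ Y g b + τ Y g b' := by
    intro Y g b b'
    apply hinj Y
    rw [map_add, hτ, hτ, hτ]
    show D.θ (g ≫ q ≫ h₀) (b.1 + b'.1) = _
    rw [map_add]
  refine ⟨{ τ := fun {Y} g => AddMonoidHom.mk' (τ Y g) (hadd Y g),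
            res := ?_, inj := ?_, surj := ?_ }⟩
  · intro Y Y' g k b
    show (G.obj.map k.op).hom (τ Y g b) = τ Y' (k ≫ g) b
    apply hinj Y'
    rw [nat_apply ι k, hτ, hτ, D.θ_res, Category.assoc]
  · intro Y g y b b' hbb
    have hbb' : τ Y g b = τ Y g b' := hbb
    apply Subtype.ext
    apply D.θ_injective (g ≫ q ≫ h₀) y
    rw [← hτ Y g b, ← hτ Y g b', hbb']
  · intro Y g s y
    obtain ⟨Z, k, n, hy, hn, hθ⟩ := local_mem D ι ι pt h₀ y₀ hy₀ hmax q hq g s y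
    refine ⟨Z, k, ⟨n, hn⟩, hy, ?_⟩
    show τ Z (k ≫ g) ⟨n, hn⟩ = (G.obj.map k.op).hom s
    apply hinj Z
    rw [hτ, ← hθ, Category.assoc]

theorem exists_const_nbhd [IsLocallyNoetherian T] {t : T} (ht : closure {t} = Set.univ)
    (hF' : EtCoh.IsFiniteLocallyConstant F') {G : EtCoh.Ab T} (ι : G ⟶ F') [Mono ι] :
    ∃ (P : T.Etale) (z : P.left), P.hom.base z = t ∧
      ∃ (M : Type) (_ : AddCommGroup M) (_ : Finite M),
        Nonempty (EtCoh.restr G P ≅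
          (constantSheaf (T.smallEtaleTopology.over P) AddCommGrpCat.{u + 1}).obj
            (AddCommGrpCat.of (ULift.{u + 1} M))) := by
  classical
  obtain ⟨κ, U, hcov, hM⟩ := hF'
  obtain ⟨i, pt, hpt⟩ := hcov t
  obtain ⟨M, iM, fM, ⟨α⟩⟩ := hM i
  let D : Triv F' := ⟨U i, AddCommGrpCat.of (ULift.{u + 1} M), α⟩
  haveI : Finite D.N := (inferInstance : Finite (ULift.{u + 1} M))
  obtain ⟨Y₀, h₀, y₀, hy₀, hmax⟩ := exists_max D ι pt
  have hy₀t : Y₀.hom.base y₀ = t := by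
    calc Y₀.hom.base y₀ = (h₀.left ≫ D.U.hom).base y₀ :=
          congrArg (fun f => f.base y₀) (MorphismProperty.Over.w h₀).symm
      _ = t := by
          show (U i).hom.base (h₀.left.base y₀) = t
          rw [hy₀]
          exact hpt
  obtain ⟨P, q, z, hz, hq⟩ := exists_irred_nbhd ht Y₀ y₀ hy₀t
  obtain ⟨L⟩ := lcdata_sub D ι pt h₀ y₀ hy₀ hmax q hq
  haveI : Finite (Nsub D ι h₀) := inferInstance
  obtain ⟨M', iM', fM', ⟨e⟩⟩ := exists_small_model (Nsub D ι h₀)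
  obtain ⟨β⟩ := L.nonempty_iso
  refine ⟨P, z, ?_, M', iM', fM', ⟨β ≪≫ (constantSheaf (T.smallEtaleTopology.over P)
    AddCommGrpCat.{u + 1}).mapIso e.symm.toAddCommGrpIso⟩⟩
  calc P.hom.base z = (q.left ≫ Y₀.hom).base z :=
        congrArg (fun f => f.base z) (MorphismProperty.Over.w q).symm
    _ = t := by
        show Y₀.hom.base (q.left.base z) = t
        rw [hz, hy₀t]

end Sub

section Pull

theorem flc_pull_of_local {X Y : Scheme.{u}} (f : X ⟶ Y) (G : EtCoh.Ab Y)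
    (h : ∀ x : X, ∃ (P : Y.Etale) (z : P.left), P.hom.base z = f.base x ∧
      ∃ (M : Type) (_ : AddCommGroup M) (_ : Finite M),
        Nonempty (EtCoh.restr G P ≅
          (constantSheaf (Y.smallEtaleTopology.over P) AddCommGrpCat.{u + 1}).obj
            (AddCommGrpCat.of (ULift.{u + 1} M)))) :
    EtCoh.IsFiniteLocallyConstant ((EtCoh.pull f).obj G) := by
  choose P z hz M iM fM e using h
  refine ⟨X, fun x => (EtCoh.bc f).obj (P x), ?_, fun x => ?_⟩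
  · intro x
    obtain ⟨w, hw1, hw2⟩ := Scheme.Pullback.exists_preimage_pullback
      (f := (P x).hom) (g := f) (z x) x (hz x)
    exact ⟨x, w, hw2⟩
  · exact ⟨M x, iM x, fM x, restr_pull_const f (P x) AddCommGrpCat.{u + 1} G
      (AddCommGrpCat.of (ULift.{u + 1} (M x))) (e x).some⟩

end Pull

section Mains

theorem closure_eq_univ_of_range {T X : Scheme.{u}} (g : T ⟶ X) [IsImmersion g] {V : Set X}
    {x : X} (hr : Set.range g.base = V ∩ closure {x}) (t : T) (ht : g.base t = x) :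
    closure {t} = Set.univ := by
  rw [g.isEmbedding.closure_eq_preimage_closure_image, Set.image_singleton]
  apply Set.eq_univ_of_forall
  intro t'
  show g.base t' ∈ closure {g.base t}
  rw [ht]
  have h1 : g.base t' ∈ Set.range g.base := ⟨t', rfl⟩
  rw [hr] at h1
  exact h1.2

theorem main40 (X : Scheme.{u}) [IsNoetherian X] {F G : EtCoh.Ab X} (ι : G ⟶ F) [Mono ι]
    (hF : EtPBC.IsConstructible F) : EtPBC.IsConstructible G := by
  have hF' := (main8527 F).mp hF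
  refine (main8527 G).mpr ?_
  intro x
  obtain ⟨V, T, g, hg, hxV, hr, hflc⟩ := hF' x
  haveI := hg
  haveI : IsLocallyNoetherian T := LocallyOfFiniteType.isLocallyNoetherian g
  have hxr : x ∈ Set.range g.base := by
    rw [hr]
    exact ⟨hxV, subset_closure (Set.mem_singleton x)⟩
  obtain ⟨t, ht⟩ := hxr
  have hcl : closure {t} = Set.univ := closure_eq_univ_of_range g hr t ht
  haveI : Mono ((EtCoh.pull g).map ι) := inferInstance
  obtain ⟨P, z, hz, M, iM, fM, ⟨e⟩⟩ := exists_const_nbhd hcl hflc ((EtCoh.pull g).map ι)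
  have hOo : IsOpen (Set.range P.hom.base) := P.hom.isOpenMap.isOpen_range
  obtain ⟨W, hW, hWO⟩ := g.isEmbedding.isInducing.isOpen_iff.mp hOo
  obtain ⟨T₀, hT₀⟩ : ∃ T₀ : T.Opens, (T₀ : Set T) = Set.range P.hom.base := ⟨⟨_, hOo⟩, rfl⟩
  refine ⟨⟨W ∩ (V : Set X), hW.inter V.isOpen⟩, T₀.toScheme, T₀.ι ≫ g, inferInstance, ?_, ?_, ?_⟩
  · refine ⟨?_, hxV⟩
    have h1 : t ∈ g.base ⁻¹' W := by
      rw [hWO]
      exact ⟨z, hz⟩
    rw [← ht]
    exact h1
  · show Set.range (T₀.ι ≫ g) = (W ∩ (V : Set X)) ∩ closure {x}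
    rw [range_comp_eq, Scheme.Opens.range_ι, hT₀]
    show g.base '' Set.range P.hom.base = _
    rw [← hWO, Set.image_preimage_eq_inter_range, hr, Set.inter_assoc]
  · have h1 : EtCoh.IsFiniteLocallyConstant
        ((EtCoh.pull T₀.ι).obj ((EtCoh.pull g).obj G)) := by
      apply flc_pull_of_local
      intro x₀
      have hx₀ : T₀.ι.base x₀ ∈ (T₀ : Set T) := x₀.2
      rw [hT₀] at hx₀
      obtain ⟨p, hp⟩ := hx₀
      exact ⟨P, p, hp, M, iM, fM, ⟨e⟩⟩
    exact flc_of_iso ((pullComp g T₀.ι).app G) h1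

theorem isConstructible_of_iso {X : Scheme.{u}} {F F' : EtCoh.Ab X} (e : F ≅ F')
    (hF : EtPBC.IsConstructible F) : EtPBC.IsConstructible F' := by
  intro U hU
  rw [adapted_iff]
  refine ((adapted_iff _ _).mp (hF U hU)).mono ?_
  intro T g hg
  exact flc_of_iso ((EtCoh.pull g).mapIso e) hg

theorem main41 (X : Scheme.{u}) [IsNoetherian X] {F Q : EtCoh.Ab X} (π : F ⟶ Q) [Epi π]
    (hF : EtPBC.IsConstructible F) : EtPBC.IsConstructible Q := by
  have hK : EtPBC.IsConstructible (kernel π) := main40 X (kernel.ι π) hF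
  have hC := (main31 (kernel.ι π) hK hF).2
  let S : ShortComplex (EtCoh.Ab X) := ShortComplex.mk (kernel.ι π) π (kernel.condition π)
  have hS : S.Exact := ShortComplex.exact_of_f_is_kernel S (kernelIsKernel π)
  haveI : Epi S.g := (inferInstance : Epi π)
  have e : cokernel (kernel.ι π) ≅ Q :=
    IsColimit.coconePointUniqueUpToIso (cokernelIsCokernel (kernel.ι π)) hS.gIsCokernel
  exact isConstructible_of_iso e hC

end Mains

end Groth.Agent.Lib.EtSub
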