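import Mathlib
import Groth.Agent.Lib.EtSubA_lead
import Groth.Agent.Lib.EtSchExact_helper7
import Groth.Agent.Lib.EtStalkPull_helper9

/-!
# Ascending chain condition for subsheaves of constructible étale sheaves (lead)
-/

set_option autoImplicit false
set_option linter.unusedSimpArgs false
set_option linter.unusedVariables false
set_option linter.unusedSectionVars false
set_option linter.style.longLine false
set_option linter.unnecessarySimpa false
set_option maxHeartbeats 1600000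
set_option backward.isDefEq.respectTransparency false
set_option backward.isDefEq.respectTransparency.types false
set_option backward.defeqAttrib.useBackward true

open CategoryTheory CategoryTheory.Limits AlgebraicGeometry Opposite Topology TopologicalSpace

namespace Groth.Agent.Lib.EtSub

open Groth.Agent.Lib.EtPull Groth.Agent.Lib.EtCons Groth.Agent.Lib.EtLocConst
  Groth.Agent.Lib.EtSchSite_helper7 Groth.Agent.Lib.EtSchExact_helper7

universe u

section Stalk

theorem stalk_surjective_of_local {X : Scheme.{u}} {A B : EtCoh.Ab X} (φ : A ⟶ B)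
    {Ω : Type u} [Field Ω] [IsSepClosed Ω] (ξ : Spec (CommRingCat.of Ω) ⟶ X)
    (H : ∀ (Y : X.Etale) (s : B.obj.obj (op Y)) (y : Y.left),
      Y.hom.base y = ξ.base (default : ↥(Spec (CommRingCat.of Ω))) →
      ∃ (Z : X.Etale) (g : Z ⟶ Y) (a : A.obj.obj (op Z)), y ∈ Set.range g.left ∧
        (φ.hom.app (op Z)).hom a = (B.obj.map g.op).hom s) :
    Function.Surjective ((EtCoh.stalk ξ).map φ) := by
  intro t
  obtain ⟨U, x, z, rfl⟩ := (Scheme.pointSmallEtale ξ).toPresheafFiber_jointly_surjective t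
  have hxξ : x.left ≫ U.hom = ξ := Over.w x
  have hy : U.hom.base (x.left.base (default : ↥(Spec (CommRingCat.of Ω)))) =
      ξ.base (default : ↥(Spec (CommRingCat.of Ω))) :=
    congrArg (fun (m : Spec (CommRingCat.of Ω) ⟶ X) =>
      m.base (default : ↥(Spec (CommRingCat.of Ω)))) hxξ
  obtain ⟨Z, g, a, ⟨z₀, hz₀⟩, ha⟩ :=
    H U z (x.left.base (default : ↥(Spec (CommRingCat.of Ω)))) hy
  obtain ⟨l, hl₁, hl₂⟩ := Scheme.exists_fac_of_etale_of_isSepClosed g.left x.left z₀ hz₀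
  have hw : l ≫ Z.hom = ξ := by
    rw [← MorphismProperty.Over.w g, ← Category.assoc, hl₁, hxξ]
  let x' : (Scheme.pointSmallEtale ξ).fiber.obj Z := Over.homMk l hw
  have hx' : (Scheme.pointSmallEtale ξ).fiber.map g x' = x := by
    apply Over.OverMorphism.ext
    exact hl₁
  refine ⟨(Scheme.pointSmallEtale ξ).toPresheafFiber Z x' A.obj a, ?_⟩
  have e1 : (Scheme.pointSmallEtale ξ).toPresheafFiber Z x' B.obj (B.obj.map g.op z) =
      (Scheme.pointSmallEtale ξ).toPresheafFiber U ((Scheme.pointSmallEtale ξ).fiber.map g x')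
        B.obj z :=
    (Scheme.pointSmallEtale ξ).toPresheafFiber_w_apply g x' B.obj z
  have e2 : (Scheme.pointSmallEtale ξ).presheafFiber.map φ.hom
      ((Scheme.pointSmallEtale ξ).toPresheafFiber Z x' A.obj a) =
      (Scheme.pointSmallEtale ξ).toPresheafFiber Z x' B.obj (φ.hom.app (op Z) a) :=
    (Scheme.pointSmallEtale ξ).toPresheafFiber_naturality_apply φ.hom Z x' a
  have e3 : (Scheme.pointSmallEtale ξ).toPresheafFiber Z x' B.obj (φ.hom.app (op Z) a) =
      (Scheme.pointSmallEtale ξ).toPresheafFiber Z x' B.obj (B.obj.map g.op z) :=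
    congrArg (fun w => (Scheme.pointSmallEtale ξ).toPresheafFiber Z x' B.obj w) ha
  rw [hx'] at e1
  exact e2.trans (e3.trans e1)

theorem exists_lift_immersion {T X : Scheme.{u}} (g : T ⟶ X) [IsImmersion g] {Ω : Type u}
    [Field Ω] (ξ : Spec (CommRingCat.of Ω) ⟶ X)
    (h : ξ.base (default : ↥(Spec (CommRingCat.of Ω))) ∈ Set.range g.base) :
    ∃ ζ : Spec (CommRingCat.of Ω) ⟶ T, ζ ≫ g = ξ := by
  obtain ⟨t, ht⟩ := h
  have hfac : g.liftCoborder ≫ g.coborderRange.ι = g := g.liftCoborder_ι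
  have htj : g.coborderRange.ι.base (g.liftCoborder.base t) = g.base t :=
    congrArg (fun m => m.base t) hfac
  have hr : Set.range ξ ⊆ Set.range g.coborderRange.ι := by
    rintro _ ⟨a, rfl⟩
    rw [Subsingleton.elim a default]
    exact ⟨g.liftCoborder.base t, htj.trans ht⟩
  obtain ⟨v, hv⟩ : ∃ v : Spec (CommRingCat.of Ω) ⟶ g.coborderRange.toScheme,
      v ≫ g.coborderRange.ι = ξ :=
    ⟨IsOpenImmersion.lift g.coborderRange.ι ξ hr, IsOpenImmersion.lift_fac _ _ _⟩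
  have hvt : v.base default = g.liftCoborder.base t := by
    apply g.coborderRange.ι.isOpenEmbedding.injective
    have h1 : g.coborderRange.ι.base (v.base default) = ξ.base default :=
      congrArg (fun m => m.base default) hv
    exact h1.trans (ht.symm.trans htj.symm)
  haveI : IsClosedImmersion (pullback.fst v g.liftCoborder) := inferInstance
  obtain ⟨p, hp1, hp2⟩ := Scheme.Pullback.exists_preimage_pullback (f := v)
    (g := g.liftCoborder) (default : ↥(Spec (CommRingCat.of Ω))) t hvt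
  haveI : Surjective (pullback.fst v g.liftCoborder) :=
    ⟨fun a => ⟨p, Subsingleton.elim _ _⟩⟩
  haveI : IsIso (pullback.fst v g.liftCoborder) := isIso_of_isClosedImmersion_of_surjective _
  obtain ⟨ζ, hζ⟩ : ∃ ζ : Spec (CommRingCat.of Ω) ⟶ T, ζ ≫ g.liftCoborder = v :=
    ⟨inv (pullback.fst v g.liftCoborder) ≫ pullback.snd v g.liftCoborder, by
      rw [Category.assoc, ← pullback.condition, IsIso.inv_hom_id_assoc]⟩
  refine ⟨ζ, ?_⟩
  have h3 : ζ ≫ g = ζ ≫ g.liftCoborder ≫ g.coborderRange.ι := by rw [hfac]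
  rw [h3, ← Category.assoc, hζ, hv]

end Stalk

section Chain

variable {T : Scheme.{u}} {F' : EtCoh.Ab T}

theorem exists_stable_nbhd [IsLocallyNoetherian T] {t : T} (ht : closure {t} = Set.univ)
    (hF' : EtCoh.IsFiniteLocallyConstant F') (A : ℕ → EtCoh.Ab T) (ι : ∀ m, A m ⟶ F')
    [∀ m, Mono (ι m)] (φ : ∀ N m, N ≤ m → (A N ⟶ A m))
    (hφ : ∀ N m h, φ N m h ≫ ι m = ι N) :
    ∃ (m₀ : ℕ) (O : Set T), IsOpen O ∧ t ∈ O ∧ ∀ (m : ℕ) (h : m₀ ≤ m) (Ω : Type u) [Field Ω]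
      [IsSepClosed Ω] (ξ : Spec (CommRingCat.of Ω) ⟶ T),
      ξ.base (default : ↥(Spec (CommRingCat.of Ω))) ∈ O →
      Function.Surjective ((EtCoh.stalk ξ).map (φ m₀ m h)) := by
  classical
  obtain ⟨κ, U, hcov, hM⟩ := hF'
  obtain ⟨i, pt, hpt⟩ := hcov t
  obtain ⟨M, iM, fM, ⟨α⟩⟩ := hM i
  let D : Triv F' := ⟨U i, AddCommGrpCat.of (ULift.{u + 1} M), α⟩
  haveI : Finite D.N := (inferInstance : Finite (ULift.{u + 1} M))
  have hA : ∀ m, ∃ (Y₀ : T.Etale) (h₀ : Y₀ ⟶ D.U) (y₀ : Y₀.left), h₀.left.base y₀ = pt ∧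
      ∀ (Z : T.Etale) (g : Z ⟶ D.U), pt ∈ Set.range g.left →
        Nsub D (ι m) g ≤ Nsub D (ι m) h₀ :=
    fun m => exists_max D (ι m) pt
  choose Y₀ h₀ y₀ hy₀ hmax using hA
  have hmono : Monotone (fun m => Nsub D (ι m) (h₀ m)) := by
    intro m m' hmm
    exact (Nsub_le_of_fac D (ι m) (ι m') (φ m m' hmm) (hφ m m' hmm) (h₀ m)).trans
      (hmax m' (Y₀ m) (h₀ m) ⟨y₀ m, hy₀ m⟩)
  haveI : Finite (AddSubgroup D.N) :=
    Finite.of_injective (fun H : AddSubgroup D.N => (H : Set D.N)) SetLike.coe_injective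
  obtain ⟨m₀, hm₀⟩ := WellFoundedGT.monotone_chain_condition
    (⟨fun m => Nsub D (ι m) (h₀ m), hmono⟩ : ℕ →o AddSubgroup D.N)
  have hy₀t : (Y₀ m₀).hom.base (y₀ m₀) = t := by
    calc (Y₀ m₀).hom.base (y₀ m₀) = ((h₀ m₀).left ≫ D.U.hom).base (y₀ m₀) :=
          congrArg (fun f => f.base (y₀ m₀)) (MorphismProperty.Over.w (h₀ m₀)).symm
      _ = t := by
          show (U i).hom.base ((h₀ m₀).left.base (y₀ m₀)) = t
          rw [hy₀]
          exact hpt
  obtain ⟨P, q, z, hz, hq⟩ := exists_irred_nbhd ht (Y₀ m₀) (y₀ m₀) hy₀t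
  refine ⟨m₀, Set.range P.hom.base, P.hom.isOpenMap.isOpen_range, ⟨z, ?_⟩, ?_⟩
  · calc P.hom.base z = (q.left ≫ (Y₀ m₀).hom).base z :=
          congrArg (fun f => f.base z) (MorphismProperty.Over.w q).symm
      _ = t := by
          show (Y₀ m₀).hom.base (q.left.base z) = t
          rw [hz, hy₀t]
  · intro m hm Ω _ _ ξ hξ
    apply stalk_surjective_of_local
    intro Y' s y' hy'
    obtain ⟨p, hp⟩ := hξ
    let Tm : T.Etale := Scheme.Etale.mk (𝟙 T)
    let f₁ : Y' ⟶ Tm := MorphismProperty.Over.homMk Y'.hom (Category.comp_id _) trivial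
    let f₂ : P ⟶ Tm := MorphismProperty.Over.homMk P.hom (Category.comp_id _) trivial
    obtain ⟨W, a, b, w, -, ha, hb⟩ := exists_prod f₁ f₂ y' p (hy'.trans hp.symm)
    have hmax' : ∀ (Z : T.Etale) (g : Z ⟶ D.U), pt ∈ Set.range g.left →
        Nsub D (ι m) g ≤ Nsub D (ι m₀) (h₀ m₀) := by
      intro Z g hg
      have h1 := hmax m Z g hg
      have h2 : Nsub D (ι m₀) (h₀ m₀) = Nsub D (ι m) (h₀ m) := hm₀ m hm
      rw [h2]
      exact h1
    obtain ⟨Z, k, n, ⟨z', hz'⟩, hn, hθ⟩ := local_mem D (ι m₀) (ι m) pt (h₀ m₀) (y₀ m₀) (hy₀ m₀)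
      hmax' q hq b (((A m).obj.map a.op).hom s) w
    have hn2 := Nsub_mono D (ι m₀) (h₀ m₀) (k ≫ b ≫ q) hn
    simp only [Category.assoc] at hn2
    obtain ⟨a', ha'⟩ := (mem_Nsub D (ι m₀) _ n).1 hn2
    refine ⟨Z, k ≫ a, a', ⟨z', ?_⟩, ?_⟩
    · show a.left.base (k.left.base z') = y'
      rw [hz', ha]
    · apply sec_injective (ι m) Z
      have e1 : ((ι m).hom.app (op Z)).hom (((φ m₀ m hm).hom.app (op Z)).hom a') =
          ((ι m₀).hom.app (op Z)).hom a' :=
        congrArg (fun f => (f.hom.app (op Z)).hom a') (hφ m₀ m hm)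
      rw [e1, ha', hθ, map_comp_hom]

end Chain

section ACC

variable {X : Scheme.{u}} {F : EtCoh.Ab X} (A : ℕ → EtCoh.Ab X) (ι : ∀ m, A m ⟶ F)
  (φ : ∀ N m, N ≤ m → (A N ⟶ A m))

/-- stalkwise stabilisation of the chain at `x` from `N` on -/
def Good (N : ℕ) (x : X) : Prop :=
  ∀ (m : ℕ) (h : N ≤ m) (Ω : Type u) [Field Ω] [IsSepClosed Ω]
    (ξ : Spec (CommRingCat.of Ω) ⟶ X),
    ξ.base (default : ↥(Spec (CommRingCat.of Ω))) = x →
    Function.Surjective ((EtCoh.stalk ξ).map (φ N m h))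

include ι in
theorem good_mono [∀ m, Mono (ι m)] (hφ : ∀ N m h, φ N m h ≫ ι m = ι N) {N N' : ℕ}
    (hNN' : N ≤ N') {x : X} (hg : Good A φ N x) : Good A φ N' x := by
  intro m h Ω _ _ ξ hξ
  have hcomp : φ N N' hNN' ≫ φ N' m h = φ N m (hNN'.trans h) := by
    rw [← cancel_mono (ι m), Category.assoc, hφ, hφ, hφ]
  have h1 := hg m (hNN'.trans h) Ω ξ hξ
  rw [← hcomp, Functor.map_comp] at h1
  intro y
  obtain ⟨x', hx'⟩ := h1 y
  exact ⟨((EtCoh.stalk ξ).map (φ N N' hNN')) x',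
    (ConcreteCategory.comp_apply _ _ x').symm.trans hx'⟩

include ι in
theorem exists_good_nbhd [IsLocallyNoetherian X] (hF : EtPBC.IsConstructible F)
    [∀ m, Mono (ι m)] (hφ : ∀ N m h, φ N m h ≫ ι m = ι N) (x : X) :
    ∃ (V : Set X) (m₀ : ℕ), IsOpen V ∧ x ∈ V ∧ ∀ x' ∈ V ∩ closure {x}, Good A φ m₀ x' := by
  obtain ⟨V, T, g, hg, hxV, hr, hflc⟩ := (main8527 F).mp hF x
  haveI := hg
  haveI : IsLocallyNoetherian T := LocallyOfFiniteType.isLocallyNoetherian g
  have hxr : x ∈ Set.range g.base := by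
    rw [hr]
    exact ⟨hxV, subset_closure (Set.mem_singleton x)⟩
  obtain ⟨t, ht⟩ := hxr
  have hcl : closure {t} = Set.univ := closure_eq_univ_of_range g hr t ht
  haveI : ∀ m, Mono ((EtCoh.pull g).map (ι m)) := fun m => inferInstance
  obtain ⟨m₀, O, hO, htO, hsurj⟩ := exists_stable_nbhd hcl hflc
    (fun m => (EtCoh.pull g).obj (A m)) (fun m => (EtCoh.pull g).map (ι m))
    (fun N m h => (EtCoh.pull g).map (φ N m h))
    (fun N m h => by rw [← Functor.map_comp, hφ])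
  obtain ⟨W, hW, hWO⟩ := g.isEmbedding.isInducing.isOpen_iff.mp hO
  refine ⟨W ∩ (V : Set X), m₀, hW.inter V.isOpen, ⟨?_, hxV⟩, ?_⟩
  · have h1 : t ∈ g.base ⁻¹' W := by
      rw [hWO]
      exact htO
    rw [← ht]
    exact h1
  · rintro x' ⟨⟨hx'W, hx'V⟩, hx'cl⟩
    have hx'r : x' ∈ Set.range g.base := by
      rw [hr]
      exact ⟨hx'V, hx'cl⟩
    obtain ⟨t', ht'⟩ := hx'r
    have ht'O : t' ∈ O := by
      rw [← hWO]
      show g.base t' ∈ W
      rw [ht']
      exact hx'W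
    intro m h Ω _ _ ξ hξ
    obtain ⟨ζ, rfl⟩ := exists_lift_immersion g ξ (by rw [hξ]; exact ⟨t', ht'⟩)
    have hζ : ζ.base default = t' := by
      apply g.isEmbedding.injective
      exact hξ.trans ht'.symm
    have h1 : Function.Surjective
        ((EtCoh.stalk ζ).map ((EtCoh.pull g).map (φ m₀ m h))) :=
      hsurj m h Ω ζ (by rw [hζ]; exact ht'O)
    haveI : Epi ((EtCoh.stalk ζ).map ((EtCoh.pull g).map (φ m₀ m h))) :=
      (AddCommGrpCat.epi_iff_surjective _).2 h1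
    have nat := (EtStalkPull.stalkPullIso g ζ).hom.naturality (φ m₀ m h)
    haveI : Epi ((EtStalkPull.stalkPullIso g ζ).hom.app (A m₀) ≫
        (EtCoh.stalk (ζ ≫ g)).map (φ m₀ m h)) := by
      rw [← nat]
      show Epi ((EtCoh.stalk ζ).map ((EtCoh.pull g).map (φ m₀ m h)) ≫ _)
      infer_instance
    haveI : Epi ((EtCoh.stalk (ζ ≫ g)).map (φ m₀ m h)) :=
      epi_of_epi ((EtStalkPull.stalkPullIso g ζ).hom.app (A m₀)) _
    exact (AddCommGrpCat.epi_iff_surjective _).1 inferInstance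

include ι in
theorem exists_good_closed [IsNoetherian X] (hF : EtPBC.IsConstructible F)
    [∀ m, Mono (ι m)] (hφ : ∀ N m h, φ N m h ≫ ι m = ι N) (Z : Closeds X) :
    ∃ N, ∀ x ∈ (Z : Set X), Good A φ N x := by
  refine WellFoundedLT.induction
    (motive := fun Z : Closeds X => ∃ N, ∀ x ∈ (Z : Set X), Good A φ N x) Z (fun Z ih => ?_)
  by_cases hne : (Z : Set X) = ∅
  · exact ⟨0, fun x hx => by rw [hne] at hx; exact hx.elim⟩
  by_cases hirr : IsPreirreducible (Z : Set X)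
  · have hZirr : IsIrreducible (Z : Set X) := ⟨Set.nonempty_iff_ne_empty.mpr hne, hirr⟩
    obtain ⟨y, hy⟩ : ∃ y : X, closure {y} = (Z : Set X) :=
      ⟨_, hZirr.closure_genericPoint Z.isClosed⟩
    obtain ⟨V, m₀, hV, hyV, hgood⟩ := exists_good_nbhd A ι φ hF hφ y
    have hyZ : y ∈ (Z : Set X) := by
      rw [← hy]
      exact subset_closure (Set.mem_singleton y)
    have hlt : (⟨(Z : Set X) \ V, Z.isClosed.sdiff hV⟩ : Closeds X) < Z := by
      refine lt_of_le_of_ne (SetLike.coe_subset_coe.mp (Set.sdiff_subset : (Z : Set X) \ V ⊆ Z)) ?_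
      intro heq
      have h1 : (Z : Set X) \ V = (Z : Set X) :=
        congrArg (fun W : Closeds X => (W : Set X)) heq
      have h2 : y ∈ (Z : Set X) \ V := by
        rw [h1]
        exact hyZ
      exact h2.2 hyV
    obtain ⟨N', hN'⟩ := ih _ hlt
    refine ⟨max m₀ N', fun x hx => ?_⟩
    by_cases hxV : x ∈ V
    · exact good_mono A ι φ hφ (le_max_left _ _) (hgood x ⟨hxV, by rw [hy]; exact hx⟩)
    · exact good_mono A ι φ hφ (le_max_right _ _) (hN' x ⟨hx, hxV⟩)
  · rw [isPreirreducible_iff_isClosed_union_isClosed] at hirr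
    push Not at hirr
    obtain ⟨z₁, z₂, hz₁, hz₂, hsub, hn1, hn2⟩ := hirr
    have hlt1 : (⟨(Z : Set X) ∩ z₁, Z.isClosed.inter hz₁⟩ : Closeds X) < Z := by
      refine lt_of_le_of_ne
        (SetLike.coe_subset_coe.mp (Set.inter_subset_left : (Z : Set X) ∩ z₁ ⊆ Z)) ?_
      intro heq
      have h1 : (Z : Set X) ∩ z₁ = (Z : Set X) :=
        congrArg (fun W : Closeds X => (W : Set X)) heq
      exact hn1 (Set.inter_eq_left.mp h1)
    have hlt2 : (⟨(Z : Set X) ∩ z₂, Z.isClosed.inter hz₂⟩ : Closeds X) < Z := by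
      refine lt_of_le_of_ne
        (SetLike.coe_subset_coe.mp (Set.inter_subset_left : (Z : Set X) ∩ z₂ ⊆ Z)) ?_
      intro heq
      have h1 : (Z : Set X) ∩ z₂ = (Z : Set X) :=
        congrArg (fun W : Closeds X => (W : Set X)) heq
      exact hn2 (Set.inter_eq_left.mp h1)
    obtain ⟨N₁, h1⟩ := ih _ hlt1
    obtain ⟨N₂, h2⟩ := ih _ hlt2
    refine ⟨max N₁ N₂, fun x hx => ?_⟩
    rcases hsub hx with h | h
    · exact good_mono A ι φ hφ (le_max_left _ _) (h1 x ⟨hx, h⟩)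
    · exact good_mono A ι φ hφ (le_max_right _ _) (h2 x ⟨hx, h⟩)

include ι in
theorem acc_family [IsNoetherian X] (hF : EtPBC.IsConstructible F)
    [∀ m, Mono (ι m)] (hφ : ∀ N m h, φ N m h ≫ ι m = ι N) :
    ∃ N, ∀ m (h : N ≤ m), IsIso (φ N m h) := by
  obtain ⟨N, hN⟩ := exists_good_closed A ι φ hF hφ ⊤
  refine ⟨N, fun m h => ?_⟩
  haveI : Mono (φ N m h) := mono_of_mono_fac (hφ N m h)
  haveI : Epi (φ N m h) := (epi_iff _).2
    (fun Ω _ _ ξ => hN _ (Set.mem_univ _) m h Ω ξ rfl)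
  exact isIso_of_mono_of_epi _

end ACC

theorem main42 (X : Scheme.{u}) [IsNoetherian X] (F : EtCoh.Ab X)
    (hF : EtPBC.IsConstructible F) (c : ℕ →o Subobject F) :
    ∃ N, ∀ m, N ≤ m → c m = c N := by
  obtain ⟨N, hN⟩ := acc_family (fun m => ((c m : Subobject F) : EtCoh.Ab X))
    (fun m => (c m).arrow) (fun N m h => Subobject.ofLE (c N) (c m) (c.monotone h)) hF
    (fun N m h => Subobject.ofLE_arrow _)
  refine ⟨N, fun m h => ?_⟩
  haveI := hN m h
  refine le_antisymm ?_ (c.monotone h)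
  exact Subobject.le_of_comm (inv (Subobject.ofLE (c N) (c m) (c.monotone h)))
    (by rw [IsIso.inv_comp_eq, Subobject.ofLE_arrow])

end Groth.Agent.Lib.EtSub
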