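import Mathlib
import Groth.Prelude.Def_EtBase

/-!
# Base change of étale schemes along a closed immersion is "almost full" (helper7)
-/

set_option autoImplicit false
set_option backward.isDefEq.respectTransparency false
universe u
open CategoryTheory CategoryTheory.Limits AlgebraicGeometry Opposite

namespace Groth.Agent.Lib.EtAlmostFull_helper7

theorem almost_full {Z X : Scheme.{u}} (i : Z ⟶ X) [IsClosedImmersion i] (U U' : X.Etale)
    (h : (EtCoh.bc i).obj U ⟶ (EtCoh.bc i).obj U') :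
    ∃ (W : X.Etale) (a : W ⟶ U) (b : W ⟶ U'),
      IsIso ((EtCoh.bc i).map a) ∧ (EtCoh.bc i).map a ≫ h = (EtCoh.bc i).map b := by
  obtain ⟨hl, hhl⟩ : ∃ hl : pullback U.hom i ⟶ pullback U'.hom i, hl = h.left := ⟨_, rfl⟩
  have hw : hl ≫ pullback.snd U'.hom i = pullback.snd U.hom i := by
    rw [hhl]; exact MorphismProperty.Over.w h
  obtain ⟨η, hηdef⟩ : ∃ η : pullback U.hom i ⟶ U'.left, η = hl ≫ pullback.fst U'.hom i :=
    ⟨_, rfl⟩
  have hη : pullback.fst U.hom i ≫ U.hom = η ≫ U'.hom := by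
    have e1 : (hl ≫ pullback.fst U'.hom i) ≫ U'.hom = pullback.snd U.hom i ≫ i := by
      rw [Category.assoc, pullback.condition (f := U'.hom) (g := i), ← Category.assoc, hw]
    rw [hηdef, e1]; exact pullback.condition
  -- the fibre product and the graph
  obtain ⟨γ, hγdef⟩ : ∃ γ : pullback U.hom i ⟶ pullback U.hom U'.hom,
      γ = pullback.lift (pullback.fst U.hom i) η hη := ⟨_, rfl⟩
  have hγ1 : γ ≫ pullback.fst U.hom U'.hom = pullback.fst U.hom i := by
    rw [hγdef]; exact pullback.lift_fst _ _ _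
  have hγ2 : γ ≫ pullback.snd U.hom U'.hom = η := by
    rw [hγdef]; exact pullback.lift_snd _ _ _
  obtain ⟨π, hπ⟩ : ∃ π : pullback U.hom U'.hom ⟶ X, π = pullback.fst U.hom U'.hom ≫ U.hom :=
    ⟨_, rfl⟩
  haveI : Etale π := by rw [hπ]; infer_instance
  have hγπ : γ ≫ π = pullback.snd U.hom i ≫ i := by
    rw [hπ, ← Category.assoc, hγ1, pullback.condition]
  obtain ⟨γZ, hγZdef⟩ : ∃ γZ : pullback U.hom i ⟶ pullback π i,
      γZ = pullback.lift γ (pullback.snd U.hom i) hγπ := ⟨_, rfl⟩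
  have hγZ1 : γZ ≫ pullback.fst π i = γ := by rw [hγZdef]; exact pullback.lift_fst _ _ _
  have hγZ2 : γZ ≫ pullback.snd π i = pullback.snd U.hom i := by
    rw [hγZdef]; exact pullback.lift_snd _ _ _
  have hprc : (pullback.fst π i ≫ pullback.fst U.hom U'.hom) ≫ U.hom = pullback.snd π i ≫ i := by
    rw [Category.assoc, ← hπ, pullback.condition]
  obtain ⟨pr, hprdef⟩ : ∃ pr : pullback π i ⟶ pullback U.hom i,
      pr = pullback.lift (pullback.fst π i ≫ pullback.fst U.hom U'.hom) (pullback.snd π i) hprc :=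
    ⟨_, rfl⟩
  have hpr1 : pr ≫ pullback.fst U.hom i = pullback.fst π i ≫ pullback.fst U.hom U'.hom := by
    rw [hprdef]; exact pullback.lift_fst _ _ _
  have hpr2 : pr ≫ pullback.snd U.hom i = pullback.snd π i := by
    rw [hprdef]; exact pullback.lift_snd _ _ _
  have hsec : γZ ≫ pr = 𝟙 _ := by
    apply pullback.hom_ext
    · rw [Category.assoc, hpr1, ← Category.assoc, hγZ1, hγ1, Category.id_comp]
    · rw [Category.assoc, hpr2, hγZ2, Category.id_comp]
  haveI hEpr : Etale pr := by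
    refine MorphismProperty.HasOfPostcompProperty.of_postcomp (W := @Etale) pr
      (pullback.snd U.hom i) (inferInstance : Etale (pullback.snd U.hom i)) ?_
    rw [hpr2]; infer_instance
  haveI hEγZ : Etale γZ := by
    refine MorphismProperty.HasOfPostcompProperty.of_postcomp (W := @Etale) γZ pr hEpr ?_
    rw [hsec]; infer_instance
  haveI : Mono γZ := mono_of_mono_fac hsec
  haveI : IsOpenImmersion γZ := IsOpenImmersion.of_flat_of_mono γZ
  -- the open subscheme W₀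
  have hG : IsOpen (Set.range γZ) := γZ.isOpenMap.isOpen_range
  have hC : IsClosed ((pullback.fst π i) '' (Set.range γZ)ᶜ) :=
    (pullback.fst π i).isClosedEmbedding.isClosedMap _ hG.isClosed_compl
  obtain ⟨W₀, hW₀⟩ : ∃ W₀ : (pullback U.hom U'.hom).Opens,
      (W₀ : Set _) = ((pullback.fst π i) '' (Set.range γZ)ᶜ)ᶜ := ⟨⟨_, hC.isOpen_compl⟩, rfl⟩
  have hinj : Function.Injective (pullback.fst π i) :=
    (pullback.fst π i).isClosedEmbedding.injective
  haveI : Etale (W₀.ι ≫ π) := inferInstance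
  let W : X.Etale := Scheme.Etale.mk (W₀.ι ≫ π)
  have ha : (W₀.ι ≫ pullback.fst U.hom U'.hom) ≫ U.hom = W₀.ι ≫ π := by
    rw [Category.assoc, hπ]
  have hb : (W₀.ι ≫ pullback.snd U.hom U'.hom) ≫ U'.hom = W₀.ι ≫ π := by
    rw [Category.assoc, ← pullback.condition, hπ]
  let a : W ⟶ U := MorphismProperty.Over.homMk (W₀.ι ≫ pullback.fst U.hom U'.hom) ha trivial
  let b : W ⟶ U' := MorphismProperty.Over.homMk (W₀.ι ≫ pullback.snd U.hom U'.hom) hb trivial
  obtain ⟨aZ, haZdef⟩ : ∃ aZ : pullback (W₀.ι ≫ π) i ⟶ pullback U.hom i,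
      aZ = ((EtCoh.bc i).map a).left := ⟨_, rfl⟩
  obtain ⟨bZ, hbZdef⟩ : ∃ bZ : pullback (W₀.ι ≫ π) i ⟶ pullback U'.hom i,
      bZ = ((EtCoh.bc i).map b).left := ⟨_, rfl⟩
  have haZ1 : aZ ≫ pullback.fst U.hom i =
      pullback.fst (W₀.ι ≫ π) i ≫ W₀.ι ≫ pullback.fst U.hom U'.hom := by
    rw [haZdef]; exact pullback.lift_fst _ _ _
  have haZ2 : aZ ≫ pullback.snd U.hom i = pullback.snd (W₀.ι ≫ π) i := by
    rw [haZdef]; exact pullback.lift_snd _ _ _
  have hbZ1 : bZ ≫ pullback.fst U'.hom i =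
      pullback.fst (W₀.ι ≫ π) i ≫ W₀.ι ≫ pullback.snd U.hom U'.hom := by
    rw [hbZdef]; exact pullback.lift_fst _ _ _
  have hbZ2 : bZ ≫ pullback.snd U'.hom i = pullback.snd (W₀.ι ≫ π) i := by
    rw [hbZdef]; exact pullback.lift_snd _ _ _
  -- the graph lands in W₀
  have hrange : Set.range γ ⊆ Set.range W₀.ι := by
    rw [Scheme.Opens.range_ι, hW₀]
    rintro _ ⟨x, rfl⟩ ⟨y, hy, hyx⟩
    have h1 : γ x = pullback.fst π i (γZ x) := by
      rw [← Scheme.Hom.comp_apply, hγZ1]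
    rw [h1] at hyx
    exact hy ⟨x, (hinj hyx).symm⟩
  obtain ⟨γ', hγ'⟩ : ∃ γ' : pullback U.hom i ⟶ (W₀ : Scheme), γ' ≫ W₀.ι = γ :=
    ⟨IsOpenImmersion.lift W₀.ι γ hrange, IsOpenImmersion.lift_fac _ _ _⟩
  have hθc : γ' ≫ W₀.ι ≫ π = pullback.snd U.hom i ≫ i := by
    rw [← Category.assoc, hγ', hγπ]
  obtain ⟨θ, hθdef⟩ : ∃ θ : pullback U.hom i ⟶ pullback (W₀.ι ≫ π) i,
      θ = pullback.lift γ' (pullback.snd U.hom i) hθc := ⟨_, rfl⟩
  have hθ1 : θ ≫ pullback.fst (W₀.ι ≫ π) i = γ' := by rw [hθdef]; exact pullback.lift_fst _ _ _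
  have hθ2 : θ ≫ pullback.snd (W₀.ι ≫ π) i = pullback.snd U.hom i := by
    rw [hθdef]; exact pullback.lift_snd _ _ _
  -- W_Z lands in the graph
  have hωc : (pullback.fst (W₀.ι ≫ π) i ≫ W₀.ι) ≫ π = pullback.snd (W₀.ι ≫ π) i ≫ i := by
    rw [Category.assoc, pullback.condition]
  obtain ⟨ω, hωdef⟩ : ∃ ω : pullback (W₀.ι ≫ π) i ⟶ pullback π i,
      ω = pullback.lift (pullback.fst (W₀.ι ≫ π) i ≫ W₀.ι) (pullback.snd (W₀.ι ≫ π) i) hωc :=
    ⟨_, rfl⟩
  have hω1 : ω ≫ pullback.fst π i = pullback.fst (W₀.ι ≫ π) i ≫ W₀.ι := by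
    rw [hωdef]; exact pullback.lift_fst _ _ _
  have hω2 : ω ≫ pullback.snd π i = pullback.snd (W₀.ι ≫ π) i := by
    rw [hωdef]; exact pullback.lift_snd _ _ _
  have hωrange : Set.range ω ⊆ Set.range γZ := by
    rintro _ ⟨y, rfl⟩
    by_contra hcon
    have h1 : pullback.fst π i (ω y) = W₀.ι (pullback.fst (W₀.ι ≫ π) i y) := by
      rw [← Scheme.Hom.comp_apply, hω1, Scheme.Hom.comp_apply]
    have h2 : W₀.ι (pullback.fst (W₀.ι ≫ π) i y) ∈ (W₀ : Set _) :=
      (pullback.fst (W₀.ι ≫ π) i y).2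
    rw [hW₀] at h2
    exact h2 ⟨ω y, hcon, h1⟩
  obtain ⟨ω', hω'⟩ : ∃ ω' : pullback (W₀.ι ≫ π) i ⟶ pullback U.hom i, ω' ≫ γZ = ω :=
    ⟨IsOpenImmersion.lift γZ ω hωrange, IsOpenImmersion.lift_fac _ _ _⟩
  have hωpr : ω ≫ pr = aZ := by
    apply pullback.hom_ext
    · rw [Category.assoc, hpr1, ← Category.assoc, hω1, haZ1, Category.assoc]
    · rw [Category.assoc, hpr2, hω2, haZ2]
  have hω'a : ω' = aZ := by
    rw [← hωpr, ← hω', Category.assoc, hsec, Category.comp_id]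
  have crux : pullback.fst (W₀.ι ≫ π) i ≫ W₀.ι = aZ ≫ γ := by
    rw [← hω1, ← hω', hω'a, Category.assoc, hγZ1]
  -- conclusion
  have hθa : θ ≫ aZ = 𝟙 _ := by
    apply pullback.hom_ext
    · rw [Category.assoc, haZ1, ← Category.assoc, hθ1, ← Category.assoc, hγ', hγ1,
        Category.id_comp]
    · rw [Category.assoc, haZ2, hθ2, Category.id_comp]
  have haθ : aZ ≫ θ = 𝟙 _ := by
    apply pullback.hom_ext
    · rw [Category.assoc, hθ1, Category.id_comp, ← cancel_mono W₀.ι, Category.assoc, hγ', crux]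
    · rw [Category.assoc, hθ2, haZ2, Category.id_comp]
  refine ⟨W, a, b, ?_, ?_⟩
  · refine ⟨⟨MorphismProperty.Over.homMk θ hθ2 trivial, ?_, ?_⟩⟩
    · apply MorphismProperty.Over.Hom.ext
      show ((EtCoh.bc i).map a).left ≫ θ = 𝟙 _
      rw [← haZdef]; exact haθ
    · apply MorphismProperty.Over.Hom.ext
      show θ ≫ ((EtCoh.bc i).map a).left = 𝟙 _
      rw [← haZdef]; exact hθa
  · apply MorphismProperty.Over.Hom.ext
    show ((EtCoh.bc i).map a).left ≫ h.left = ((EtCoh.bc i).map b).left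
    rw [← haZdef, ← hbZdef, ← hhl]
    apply pullback.hom_ext
    · rw [Category.assoc, ← hηdef, hbZ1, ← Category.assoc, crux, Category.assoc, hγ2]
    · rw [Category.assoc, hw, haZ2, hbZ2]

end Groth.Agent.Lib.EtAlmostFull_helper7
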