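import Mathlib
import Groth.Agent.Lib.ArtinApx3_helper5
import Groth.Agent.Lib.Algz3_helper5

set_option autoImplicit false
set_option linter.style.haveILetI false
set_option linter.unusedVariables false
set_option linter.deprecated false
set_option maxHeartbeats 1600000

/-!
# Étale approximation of maps into completed local rings of schemes, part 1 (helper5)
Algebra: `etale_approx_loc` (étale approximation at a prime for any model of the local ring),
`approx_alg` (for a finitely presented algebra mapping to the completion), `isUnit_psi`,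
`mem_iff_of_local`, `approx_local` (the conclusion on the local ring of the étale neighbourhood).
-/

universe u

open TensorProduct IsLocalRing

namespace Groth.Agent.Lib.EtApxSchH5

open Groth.Agent.Lib.ArtinApxH5 Groth.Agent.Lib.AlgzH5

/-- **Étale approximation at a prime**, for an arbitrary model `K` of the localization which is a
G-ring, with values in the completion of `K`. -/
theorem etale_approx_loc {R K : Type u} [CommRing R] [IsNoetherianRing R] [CommRing K] [Algebra R K]
    (p : Ideal R) [p.IsPrime] [IsLocalization.AtPrime K p] [IsLocalRing K]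
    (hG : CAlg.IsGRing K) {n m : ℕ}
    (F : Fin m → MvPolynomial (Fin n) R)
    (a : Fin n → AdicCompletion (maximalIdeal K) K)
    (ha : ∀ j, MvPolynomial.aeval a (F j) = 0) (N : ℕ) :
    ∃ (R' : Type u) (_ : CommRing R') (_ : Algebra R R'), Algebra.Etale R R' ∧
      ∃ (ψ : R' →+* AdicCompletion (maximalIdeal K) K) (p' : Ideal R'), p'.IsPrime ∧
        (∀ r : R, ψ (algebraMap R R' r) =
          algebraMap K (AdicCompletion (maximalIdeal K) K) (algebraMap R K r)) ∧
        p'.comap (algebraMap R R') = p ∧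
        (∀ x : R', ∃ r s : R, s ∉ p ∧ algebraMap R R' s * x - algebraMap R R' r ∈ p') ∧
        (∀ x ∈ p', ψ x ∈ (maximalIdeal K).map
          (algebraMap K (AdicCompletion (maximalIdeal K) K))) ∧
        ∃ b : Fin n → R', (∀ j, MvPolynomial.aeval b (F j) = 0) ∧
          ∀ i, a i - ψ (b i) ∈ (maximalIdeal K ^ N).map
            (algebraMap K (AdicCompletion (maximalIdeal K) K)) := by
  classical
  haveI hKN : IsNoetherianRing K := hG.1
  have hreg : CAlg.IsRegularHom K (AdicCompletion (maximalIdeal K) K) :=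
    Groth.Agent.Lib.GRingIsoH3.isRegularHom_cpl_of_isGRing K hG
  haveI : IsNoetherianRing (AdicCompletion (maximalIdeal K) K) := Groth.Agent.S0543.result _ _
  haveI tw : IsScalarTower R K (AdicCompletion (maximalIdeal K) K) :=
    IsScalarTower.of_algebraMap_eq (fun _ => rfl)
  have hindK := Groth.Agent.Lib.PopescuH5.popescu hreg
  have hind := indSmooth_of_isLocalization p.primeCompl hindK
  haveI : IsAdicComplete ((maximalIdeal K).map
      (algebraMap K (AdicCompletion (maximalIdeal K) K))) (AdicCompletion (maximalIdeal K) K) :=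
    AdicCompletion.isAdicComplete_self _ (IsNoetherian.noetherian _)
  have hH : HenselianRing (AdicCompletion (maximalIdeal K) K)
      ((maximalIdeal K).map (algebraMap K (AdicCompletion (maximalIdeal K) K))) := inferInstance
  have hJ := Groth.Agent.Lib.HenselPairOpsLead.henselian_of_le
    (Ideal.map_mono (Ideal.pow_le_self (Nat.succ_ne_zero N))) hH
  obtain ⟨R', iR1, iR2, het, ψ, p', hp', hψ, hcomap, hfrac, hψp, b, hb, hab⟩ :=
    etale_approx_abs p N hind hJ (AdicCompletion.evalₐ (maximalIdeal K) (N + 1))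
      (mem_map_of_evalₐ_eq_zero _ (IsNoetherian.noetherian _) (N + 1)) F a ha
  refine ⟨R', iR1, iR2, het, ψ, p', hp', fun r => ?_, hcomap, hfrac, hψp, b, hb, fun i => ?_⟩
  · rw [hψ r]
    rfl
  · exact Ideal.map_mono (Ideal.pow_le_pow_right (Nat.le_succ N)) (hab i)


/-- **Étale approximation of a map from a finitely presented algebra into the completion of a local
ring of a finite type algebra.** -/
theorem approx_alg {Λ A B K : Type u} [CommRing Λ] [CommRing A] [IsNoetherianRing A] [CommRing B]
    [Algebra Λ A] [Algebra Λ B] [Algebra.FinitePresentation Λ B]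
    [CommRing K] [Algebra A K] (𝔭 : Ideal A) [𝔭.IsPrime] [IsLocalization.AtPrime K 𝔭]
    [IsLocalRing K] (hG : CAlg.IsGRing K)
    (φB : B →+* AdicCompletion (maximalIdeal K) K)
    (hφB : ∀ l : Λ, φB (algebraMap Λ B l) =
      algebraMap K (AdicCompletion (maximalIdeal K) K) (algebraMap A K (algebraMap Λ A l)))
    (N : ℕ) :
    ∃ (R' : Type u) (_ : CommRing R') (_ : Algebra A R'), Algebra.Etale A R' ∧
      ∃ (ψ : R' →+* AdicCompletion (maximalIdeal K) K) (p' : Ideal R'), p'.IsPrime ∧
        (∀ r : A, ψ (algebraMap A R' r) =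
          algebraMap K (AdicCompletion (maximalIdeal K) K) (algebraMap A K r)) ∧
        p'.comap (algebraMap A R') = 𝔭 ∧
        (∀ x : R', ∃ r s : A, s ∉ 𝔭 ∧ algebraMap A R' s * x - algebraMap A R' r ∈ p') ∧
        (∀ x ∈ p', ψ x ∈ (maximalIdeal K).map
          (algebraMap K (AdicCompletion (maximalIdeal K) K))) ∧
        ∃ t : B →+* R', (∀ l : Λ, t (algebraMap Λ B l) = algebraMap A R' (algebraMap Λ A l)) ∧
          ∀ β : B, φB β - ψ (t β) ∈ (maximalIdeal K ^ N).map
            (algebraMap K (AdicCompletion (maximalIdeal K) K)) := by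
  classical
  obtain ⟨n, f, hfs, hfg⟩ := Algebra.FinitePresentation.out (R := Λ) (A := B)
  obtain ⟨m, g, hg⟩ := (Submodule.fg_iff_exists_fin_generating_family).mp hfg
  have hgker : ∀ j, f (g j) = 0 := by
    intro j
    have : g j ∈ RingHom.ker f.toRingHom := by
      rw [← hg]
      exact Submodule.subset_span ⟨j, rfl⟩
    exact this
  let can : A →+* AdicCompletion (maximalIdeal K) K :=
    (algebraMap K (AdicCompletion (maximalIdeal K) K)).comp (algebraMap A K)
  let F : Fin m → MvPolynomial (Fin n) A := fun j => MvPolynomial.map (algebraMap Λ A) (g j)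
  let a : Fin n → AdicCompletion (maximalIdeal K) K := fun i => φB (f (MvPolynomial.X i))
  -- the two ring maps from the polynomial ring
  have hcomp : φB.comp f.toRingHom =
      MvPolynomial.eval₂Hom (can.comp (algebraMap Λ A)) a := by
    apply MvPolynomial.ringHom_ext
    · intro l
      show φB (f (MvPolynomial.C l)) = MvPolynomial.eval₂ _ _ (MvPolynomial.C l)
      rw [MvPolynomial.eval₂_C]
      have : f (MvPolynomial.C l) = algebraMap Λ B l := by
        rw [← MvPolynomial.algebraMap_eq, AlgHom.commutes]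
      rw [this, hφB]
      rfl
    · intro i
      show φB (f (MvPolynomial.X i)) = MvPolynomial.eval₂ _ _ (MvPolynomial.X i)
      rw [MvPolynomial.eval₂_X]
  have ha : ∀ j, MvPolynomial.aeval a (F j) = 0 := by
    intro j
    have h1 : MvPolynomial.aeval a (F j) =
        MvPolynomial.eval₂Hom (can.comp (algebraMap Λ A)) a (g j) := by
      show MvPolynomial.eval₂ (algebraMap A (AdicCompletion (maximalIdeal K) K)) a
        (MvPolynomial.map (algebraMap Λ A) (g j)) = _
      rw [MvPolynomial.eval₂_map]
      rfl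
    rw [h1, ← hcomp]
    show φB (f (g j)) = 0
    rw [hgker, map_zero]
  obtain ⟨R', iR1, iR2, het, ψ, p', hp', hψ, hcomap, hfrac, hψp, b, hb, hab⟩ :=
    etale_approx_loc 𝔭 hG F a ha N
  refine ⟨R', iR1, iR2, het, ψ, p', hp', hψ, hcomap, hfrac, hψp, ?_⟩
  let t₀ : MvPolynomial (Fin n) Λ →+* R' :=
    MvPolynomial.eval₂Hom ((algebraMap A R').comp (algebraMap Λ A)) b
  have ht₀g : ∀ j, t₀ (g j) = 0 := by
    intro j
    have h1 : MvPolynomial.aeval b (F j) = t₀ (g j) := by
      show MvPolynomial.eval₂ (algebraMap A R') b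
        (MvPolynomial.map (algebraMap Λ A) (g j)) = _
      rw [MvPolynomial.eval₂_map]
      rfl
    rw [← h1]
    exact hb j
  have hker : RingHom.ker f.toRingHom ≤ RingHom.ker t₀ := by
    rw [← hg]
    refine Ideal.span_le.mpr ?_
    rintro _ ⟨j, rfl⟩
    exact ht₀g j
  let t : B →+* R' := RingHom.liftOfSurjective f.toRingHom hfs ⟨t₀, hker⟩
  have htf : ∀ q, t (f q) = t₀ q := fun q =>
    RingHom.liftOfRightInverse_comp_apply _ _ _ ⟨t₀, hker⟩ q
  refine ⟨t, fun l => ?_, fun β => ?_⟩
  · have : algebraMap Λ B l = f (MvPolynomial.C l) := by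
      rw [← MvPolynomial.algebraMap_eq, AlgHom.commutes]
    rw [this, htf]
    show MvPolynomial.eval₂ _ _ (MvPolynomial.C l) = _
    rw [MvPolynomial.eval₂_C]
    rfl
  · obtain ⟨q, rfl⟩ := hfs β
    rw [htf]
    obtain ⟨J, hJ⟩ : ∃ J : Ideal (AdicCompletion (maximalIdeal K) K),
        J = (maximalIdeal K ^ N).map (algebraMap K (AdicCompletion (maximalIdeal K) K)) :=
      ⟨_, rfl⟩
    rw [← hJ]
    rw [← hJ] at hab
    have heq : (Ideal.Quotient.mk J).comp (φB.comp f.toRingHom) =
        (Ideal.Quotient.mk J).comp (ψ.comp t₀) := by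
      apply MvPolynomial.ringHom_ext
      · intro l
        show Ideal.Quotient.mk J (φB (f (MvPolynomial.C l))) =
          Ideal.Quotient.mk J (ψ (MvPolynomial.eval₂ _ _ (MvPolynomial.C l)))
        rw [MvPolynomial.eval₂_C]
        have : f (MvPolynomial.C l) = algebraMap Λ B l := by
          rw [← MvPolynomial.algebraMap_eq, AlgHom.commutes]
        rw [this, hφB]
        show _ = Ideal.Quotient.mk J (ψ (algebraMap A R' (algebraMap Λ A l)))
        rw [hψ]
      · intro i
        show Ideal.Quotient.mk J (φB (f (MvPolynomial.X i))) =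
          Ideal.Quotient.mk J (ψ (MvPolynomial.eval₂ _ _ (MvPolynomial.X i)))
        rw [MvPolynomial.eval₂_X]
        exact Ideal.Quotient.eq.mpr (hab i)
    have h2 := RingHom.congr_fun heq q
    exact Ideal.Quotient.eq.mp h2



/-- `ψ` maps the complement of `p'` to units of the completion -/
theorem isUnit_psi {A K R' : Type u} [CommRing A] [CommRing K] [CommRing R']
    [Algebra A K] [IsLocalRing K] [IsNoetherianRing K]
    (𝔭 : Ideal A) [𝔭.IsPrime] [IsLocalization.AtPrime K 𝔭]
    [Algebra A R']
    (ψ : R' →+* AdicCompletion (maximalIdeal K) K) (p' : Ideal R') [p'.IsPrime]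
    (hψ : ∀ r : A, ψ (algebraMap A R' r) =
      algebraMap K (AdicCompletion (maximalIdeal K) K) (algebraMap A K r))
    (hcomap : p'.comap (algebraMap A R') = 𝔭)
    (hfrac : ∀ x : R', ∃ r s : A, s ∉ 𝔭 ∧ algebraMap A R' s * x - algebraMap A R' r ∈ p')
    (hψp : ∀ x ∈ p', ψ x ∈ (maximalIdeal K).map
      (algebraMap K (AdicCompletion (maximalIdeal K) K))) :
    ∀ x : R', x ∉ p' → IsUnit (ψ x) := by
  have hmax : maximalIdeal (AdicCompletion (maximalIdeal K) K) =
      (maximalIdeal K).map (algebraMap K (AdicCompletion (maximalIdeal K) K)) :=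
    AdicCompletion.maximalIdeal_eq_map
  rw [← hmax] at hψp
  intro x hx
  obtain ⟨r, s, hs, hsx⟩ := hfrac x
  have hs' : algebraMap A R' s ∉ p' := by
    intro h
    apply hs
    rw [← hcomap]
    exact h
  have hr : r ∉ 𝔭 := by
    intro h
    have h1 : algebraMap A R' r ∈ p' := by
      have : r ∈ p'.comap (algebraMap A R') := by rw [hcomap]; exact h
      exact this
    have h2 : algebraMap A R' s * x ∈ p' := by
      have : algebraMap A R' s * x = (algebraMap A R' s * x - algebraMap A R' r) +
          algebraMap A R' r := by ring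
      rw [this]
      exact p'.add_mem hsx h1
    rcases (Ideal.IsPrime.mem_or_mem inferInstance h2) with h3 | h3
    · exact hs' h3
    · exact hx h3
  have hru : IsUnit (ψ (algebraMap A R' r)) := by
    rw [hψ]
    exact (IsLocalization.map_units K (⟨r, hr⟩ : 𝔭.primeCompl)).map _
  have h1 : ψ (algebraMap A R' s * x) = ψ (algebraMap A R' r) +
      ψ (algebraMap A R' s * x - algebraMap A R' r) := by
    rw [← map_add]
    congr 1
    ring
  have h2 : IsUnit (ψ (algebraMap A R' s * x)) := by
    by_contra hnu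
    have h3 : ψ (algebraMap A R' s * x) ∈ maximalIdeal (AdicCompletion (maximalIdeal K) K) :=
      hnu
    have h4 : ψ (algebraMap A R' r) ∈ maximalIdeal (AdicCompletion (maximalIdeal K) K) := by
      have : ψ (algebraMap A R' r) = ψ (algebraMap A R' s * x) -
          ψ (algebraMap A R' s * x - algebraMap A R' r) := by
        rw [h1]
        ring
      rw [this]
      exact Ideal.sub_mem _ h3 (hψp _ hsx)
    exact h4 hru
  rw [map_mul] at h2
  exact isUnit_of_mul_isUnit_right h2

/-- the prime `p'` contracts to the prime of `B` defined by the local map `φ` -/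
theorem mem_iff_of_local {A B K OY R' : Type u} [CommRing A] [CommRing B] [CommRing K]
    [CommRing OY] [CommRing R']
    [Algebra A K] [IsLocalRing K] [IsNoetherianRing K]
    (𝔭 : Ideal A) [𝔭.IsPrime] [IsLocalization.AtPrime K 𝔭]
    [Algebra B OY] (𝔮 : Ideal B) [𝔮.IsPrime] [IsLocalization.AtPrime OY 𝔮] [IsLocalRing OY]
    (φ : OY →+* AdicCompletion (maximalIdeal K) K)
    (hφloc : ∀ b ∈ maximalIdeal OY, φ b ∈ (maximalIdeal K).map
      (algebraMap K (AdicCompletion (maximalIdeal K) K)))
    [Algebra A R']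
    (ψ : R' →+* AdicCompletion (maximalIdeal K) K) (p' : Ideal R') [p'.IsPrime]
    (hψ : ∀ r : A, ψ (algebraMap A R' r) =
      algebraMap K (AdicCompletion (maximalIdeal K) K) (algebraMap A K r))
    (hcomap : p'.comap (algebraMap A R') = 𝔭)
    (hfrac : ∀ x : R', ∃ r s : A, s ∉ 𝔭 ∧ algebraMap A R' s * x - algebraMap A R' r ∈ p')
    (hψp : ∀ x ∈ p', ψ x ∈ (maximalIdeal K).map
      (algebraMap K (AdicCompletion (maximalIdeal K) K)))
    (t : B →+* R') (N : ℕ) (hN : 1 ≤ N)
    (ht : ∀ β : B, φ (algebraMap B OY β) - ψ (t β) ∈ (maximalIdeal K ^ N).map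
      (algebraMap K (AdicCompletion (maximalIdeal K) K))) (β : B) :
    t β ∈ p' ↔ β ∈ 𝔮 := by
  have hunit := isUnit_psi 𝔭 ψ p' hψ hcomap hfrac hψp
  have hmax : maximalIdeal (AdicCompletion (maximalIdeal K) K) =
      (maximalIdeal K).map (algebraMap K (AdicCompletion (maximalIdeal K) K)) :=
    AdicCompletion.maximalIdeal_eq_map
  rw [← hmax] at hψp hφloc
  have hJ : (maximalIdeal K ^ N).map (algebraMap K (AdicCompletion (maximalIdeal K) K)) ≤
      maximalIdeal (AdicCompletion (maximalIdeal K) K) := by
    rw [hmax]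
    exact Ideal.map_mono (Ideal.pow_le_self (by omega))
  rw [← IsLocalization.AtPrime.to_map_mem_maximal_iff OY 𝔮 β]
  constructor
  · intro h
    have h1 : φ (algebraMap B OY β) ∈ maximalIdeal (AdicCompletion (maximalIdeal K) K) := by
      have : φ (algebraMap B OY β) = (φ (algebraMap B OY β) - ψ (t β)) + ψ (t β) := by ring
      rw [this]
      exact Ideal.add_mem _ (hJ (ht β)) (hψp _ h)
    by_contra h2
    have hu : IsUnit (algebraMap B OY β) := by
      by_contra h'
      exact h2 h'
    exact h1 (hu.map φ)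
  · intro h
    have h1 : ψ (t β) ∈ maximalIdeal (AdicCompletion (maximalIdeal K) K) := by
      have : ψ (t β) = φ (algebraMap B OY β) - (φ (algebraMap B OY β) - ψ (t β)) := by ring
      rw [this]
      exact Ideal.sub_mem _ (hφloc _ h) (hJ (ht β))
    by_contra h2
    exact h1 (hunit _ h2)

/-- **The local conclusion of the étale approximation**: on the local ring `OU` of the étale
neighbourhood at the chosen prime, the approximating map agrees with the given map into the
completion modulo the `N`-th power of the maximal ideal; residue fields agree. -/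
theorem approx_local {A B K OY R' OU : Type u} [CommRing A] [CommRing B] [CommRing K] [CommRing OY]
    [CommRing R'] [CommRing OU]
    [Algebra A K] [IsLocalRing K] [IsNoetherianRing K]
    (𝔭 : Ideal A) [𝔭.IsPrime] [IsLocalization.AtPrime K 𝔭]
    [Algebra B OY] (𝔮 : Ideal B) [𝔮.IsPrime] [IsLocalization.AtPrime OY 𝔮]
    (φ : OY →+* AdicCompletion (maximalIdeal K) K)
    [Algebra A R'] [Algebra.Etale A R']
    (ψ : R' →+* AdicCompletion (maximalIdeal K) K) (p' : Ideal R') [p'.IsPrime]
    (hψ : ∀ r : A, ψ (algebraMap A R' r) =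
      algebraMap K (AdicCompletion (maximalIdeal K) K) (algebraMap A K r))
    (hcomap : p'.comap (algebraMap A R') = 𝔭)
    (hfrac : ∀ x : R', ∃ r s : A, s ∉ 𝔭 ∧ algebraMap A R' s * x - algebraMap A R' r ∈ p')
    (hψp : ∀ x ∈ p', ψ x ∈ (maximalIdeal K).map
      (algebraMap K (AdicCompletion (maximalIdeal K) K)))
    (t : B →+* R') (N : ℕ)
    (ht : ∀ β : B, φ (algebraMap B OY β) - ψ (t β) ∈ (maximalIdeal K ^ N).map
      (algebraMap K (AdicCompletion (maximalIdeal K) K)))
    [Algebra R' OU] [IsLocalization.AtPrime OU p'] [IsLocalRing OU]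
    (ε : K →+* OU) (hε : ∀ r : A, ε (algebraMap A K r) = algebraMap R' OU (algebraMap A R' r))
    (τ : OY →+* OU) (hτ : ∀ β : B, τ (algebraMap B OY β) = algebraMap R' OU (t β)) :
    (∀ w : OU, ∃ c : K, w - ε c ∈ maximalIdeal OU) ∧
    ∀ (b : OY) (c : K),
      AdicCompletion.evalₐ (maximalIdeal K) N (φ b) = Ideal.Quotient.mk (maximalIdeal K ^ N) c →
      Ideal.Quotient.mk (maximalIdeal OU ^ N) (τ b) =
        Ideal.Quotient.mk (maximalIdeal OU ^ N) (ε c) := by
  classical
  have hmax : maximalIdeal (AdicCompletion (maximalIdeal K) K) =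
      (maximalIdeal K).map (algebraMap K (AdicCompletion (maximalIdeal K) K)) :=
    AdicCompletion.maximalIdeal_eq_map
  have hunit := isUnit_psi 𝔭 ψ p' hψ hcomap hfrac hψp
  -- the localized map
  let ψl : OU →+* AdicCompletion (maximalIdeal K) K :=
    IsLocalization.lift (M := p'.primeCompl) (g := ψ) (fun y => hunit y.1 y.2)
  have hψl : ∀ x : R', ψl (algebraMap R' OU x) = ψ x := fun x => IsLocalization.lift_eq _ x
  have hψlε : ψl.comp ε = algebraMap K (AdicCompletion (maximalIdeal K) K) := by
    apply IsLocalization.ringHom_ext 𝔭.primeCompl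
    refine RingHom.ext fun r => ?_
    show ψl (ε (algebraMap A K r)) = _
    rw [hε, hψl, hψ]
    rfl
  have hψlε' : ∀ c, ψl (ε c) = algebraMap K (AdicCompletion (maximalIdeal K) K) c := fun c =>
    RingHom.congr_fun hψlε c
  -- nonunits
  have hnon : ∀ v : OU, ψl v ∈ maximalIdeal (AdicCompletion (maximalIdeal K) K) →
      v ∈ maximalIdeal OU := by
    intro v hv
    by_contra h
    have hu : IsUnit v := by
      by_contra h'
      exact h h'
    exact hv (hu.map ψl)
  -- residue fields
  have hres : ∀ w : OU, ∃ c : K, w - ε c ∈ maximalIdeal OU := by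
    intro w
    obtain ⟨c, hc⟩ := exists_of_sub_mem (maximalIdeal K) (ψl w) 1
    refine ⟨c, hnon _ ?_⟩
    rw [map_sub, hψlε', hmax]
    rw [pow_one] at hc
    exact hc
  refine ⟨hres, ?_⟩
  -- ε is local and unramified
  letI algKU : Algebra K OU := ε.toAlgebra
  letI algAU : Algebra A OU := ((algebraMap R' OU).comp (algebraMap A R')).toAlgebra
  haveI twARU : IsScalarTower A R' OU := IsScalarTower.of_algebraMap_eq (fun r => rfl)
  haveI twAKU : IsScalarTower A K OU := IsScalarTower.of_algebraMap_eq (fun r => by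
    show algebraMap R' OU (algebraMap A R' r) = ε (algebraMap A K r)
    rw [hε])
  haveI : IsLocalHom (algebraMap K OU) := by
    constructor
    intro c hc
    have h1 : IsUnit (ψl (ε c)) := hc.map ψl
    rw [hψlε'] at h1
    exact isUnit_of_map_unit (algebraMap K (AdicCompletion (maximalIdeal K) K)) c h1
  haveI : Algebra.FormallyUnramified R' OU :=
    Algebra.FormallyUnramified.of_isLocalization p'.primeCompl
  haveI : Algebra.EssFiniteType R' OU := Algebra.EssFiniteType.of_isLocalization OU p'.primeCompl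
  haveI : Algebra.FormallyUnramified A OU := Algebra.FormallyUnramified.comp A R' OU
  haveI : Algebra.EssFiniteType A OU := Algebra.EssFiniteType.comp A R' OU
  haveI : Algebra.FormallyUnramified K OU := Algebra.FormallyUnramified.of_restrictScalars A K OU
  haveI : Algebra.EssFiniteType K OU := Algebra.EssFiniteType.of_comp A K OU
  have hmU : (maximalIdeal K).map ε = maximalIdeal OU :=
    Algebra.FormallyUnramified.map_maximalIdeal (R := K) (S := OU)
  have hmUpow : ∀ n, (maximalIdeal K ^ n).map ε = maximalIdeal OU ^ n := fun n => by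
    rw [Ideal.map_pow, hmU]
  have hdense : ∀ (n : ℕ) (w : OU), ∃ c : K, w - ε c ∈ maximalIdeal OU ^ n := by
    intro n w
    have hs : ∀ x : OU, ∃ a : K, x - algebraMap K OU a ∈
        (maximalIdeal K).map (algebraMap K OU) := by
      intro x
      obtain ⟨c, hc⟩ := hres x
      refine ⟨c, ?_⟩
      show x - ε c ∈ (maximalIdeal K).map ε
      rw [hmU]
      exact hc
    obtain ⟨c, hc⟩ := surj_pow (J := maximalIdeal K) hs n w
    refine ⟨c, ?_⟩
    rw [← hmUpow n]
    exact hc
  obtain ⟨J, hJ⟩ : ∃ J : Ideal (AdicCompletion (maximalIdeal K) K),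
      J = (maximalIdeal K ^ N).map (algebraMap K (AdicCompletion (maximalIdeal K) K)) :=
    ⟨_, rfl⟩
  rw [← hJ] at ht
  -- step 4
  have hstep : ∀ b : OY, ψl (τ b) - φ b ∈ J := by
    intro b
    obtain ⟨β, σ, rfl⟩ := IsLocalization.exists_mk'_eq 𝔮.primeCompl b
    have hspec : IsLocalization.mk' OY β σ * algebraMap B OY σ = algebraMap B OY β :=
      IsLocalization.mk'_spec OY β σ
    have hσu : IsUnit (algebraMap B OY (σ : B)) := IsLocalization.map_units OY σ
    have hu : IsUnit (ψ (t σ)) := by
      have : ψ (t σ) = ψl (τ (algebraMap B OY σ)) := by rw [hτ, hψl]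
      rw [this]
      exact (hσu.map τ).map ψl
    have e1 : ψl (τ (IsLocalization.mk' OY β σ)) * ψ (t σ) = ψ (t β) := by
      have : ψ (t σ) = ψl (τ (algebraMap B OY σ)) := by rw [hτ, hψl]
      rw [this, ← map_mul, ← map_mul, hspec, hτ, hψl]
    have e2 : φ (IsLocalization.mk' OY β σ) * φ (algebraMap B OY σ) = φ (algebraMap B OY β) := by
      rw [← map_mul, hspec]
    have e3 : (ψl (τ (IsLocalization.mk' OY β σ)) - φ (IsLocalization.mk' OY β σ)) * ψ (t σ) =
        -(φ (algebraMap B OY β) - ψ (t β)) +
          φ (IsLocalization.mk' OY β σ) * (φ (algebraMap B OY σ) - ψ (t σ)) := by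
      rw [sub_mul, e1, mul_sub, e2]
      ring
    have e4 : (ψl (τ (IsLocalization.mk' OY β σ)) - φ (IsLocalization.mk' OY β σ)) * ψ (t σ) ∈
        J := by
      rw [e3]
      exact J.add_mem (neg_mem (ht β)) (J.mul_mem_left _ (ht σ))
    exact (Ideal.mul_unit_mem_iff_mem J hu).mp e4
  intro b c hbc
  apply Ideal.Quotient.eq.mpr
  -- ψl z ∈ J
  have h1 : φ b - algebraMap K (AdicCompletion (maximalIdeal K) K) c ∈ J := by
    rw [hJ]
    apply mem_map_of_evalₐ_eq_zero _ (IsNoetherian.noetherian _) N
    rw [map_sub, hbc]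
    have : AdicCompletion.evalₐ (maximalIdeal K) N
        (algebraMap K (AdicCompletion (maximalIdeal K) K) c) =
        Ideal.Quotient.mk (maximalIdeal K ^ N) c := AdicCompletion.evalₐ_of _ N c
    rw [this, sub_self]
  have h2 : ψl (τ b - ε c) ∈ J := by
    have : ψl (τ b - ε c) = (ψl (τ b) - φ b) +
        (φ b - algebraMap K (AdicCompletion (maximalIdeal K) K) c) := by
      rw [map_sub, hψlε']
      ring
    rw [this]
    exact J.add_mem (hstep b) h1
  obtain ⟨c', hc'⟩ := hdense N (τ b - ε c)
  have h3 : ψl (τ b - ε c - ε c') ∈ J := by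
    have h4 : τ b - ε c - ε c' ∈ (maximalIdeal K ^ N).map ε := by
      rw [hmUpow]
      exact hc'
    have h5 := Ideal.mem_map_of_mem ψl h4
    rw [Ideal.map_map, hψlε] at h5
    rw [hJ]
    exact h5
  have h6 : algebraMap K (AdicCompletion (maximalIdeal K) K) c' ∈ J := by
    have : algebraMap K (AdicCompletion (maximalIdeal K) K) c' =
        ψl (τ b - ε c) - ψl (τ b - ε c - ε c') := by
      rw [← map_sub, ← hψlε']
      congr 1
      ring
    rw [this]
    exact J.sub_mem h2 h3
  have h7 : c' ∈ maximalIdeal K ^ N := mem_pow_of_of_mem (maximalIdeal K) c' N (by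
    rw [← hJ]
    exact h6)
  have h8 : ε c' ∈ maximalIdeal OU ^ N := by
    rw [← hmUpow N]
    exact Ideal.mem_map_of_mem ε h7
  have : τ b - ε c = (τ b - ε c - ε c') + ε c' := by ring
  rw [this]
  exact Ideal.add_mem _ hc' h8

end Groth.Agent.Lib.EtApxSchH5
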