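import Mathlib

set_option autoImplicit false
set_option linter.style.haveILetI false
set_option linter.unusedVariables false
set_option linter.deprecated false
set_option maxHeartbeats 1600000

/-!
# Étale approximation of maps into completed local rings of schemes, part 2 (helper5)
Scheme plumbing: the morphism `specTo : Spec R' ⟶ X` attached to a ring map out of the sections of an
affine open, its stalk maps on germs, its image points, étaleness, compatibility with a base.
-/

universe u

open AlgebraicGeometry CategoryTheory Limits IsLocalRing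

namespace Groth.Agent.Lib.EtApxSchH5

section SpecTo

variable {X : Scheme.{u}} {U₀ : X.Opens} (hU₀ : IsAffineOpen U₀) {R' : CommRingCat.{u}}
  (θ : Γ(X, U₀) ⟶ R')

/-- the morphism `Spec R' ⟶ X` attached to a ring map out of the sections of an affine open -/
noncomputable def specTo : Spec R' ⟶ X := Spec.map θ ≫ hU₀.fromSpec

theorem specTo_mem (u : Spec R') : specTo hU₀ θ u ∈ U₀ := by
  have h1 : specTo hU₀ θ u = hU₀.fromSpec (Spec.map θ u) := rfl
  have h2 : hU₀.fromSpec (Spec.map θ u) ∈ hU₀.fromSpec.opensRange := ⟨_, rfl⟩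
  rw [hU₀.opensRange_fromSpec] at h2
  rw [h1]
  exact h2

theorem specTo_preimage : specTo hU₀ θ ⁻¹ᵁ U₀ = ⊤ := by
  ext u
  simp only [TopologicalSpace.Opens.coe_top, Set.mem_univ, iff_true]
  exact specTo_mem hU₀ θ u

theorem specTo_stalkMap_germ (u : Spec R') (r : Γ(X, U₀)) :
    ((specTo hU₀ θ).stalkMap u).hom (X.presheaf.germ U₀ (specTo hU₀ θ u) (specTo_mem hU₀ θ u) r) =
      (Spec R').presheaf.germ ⊤ u trivial ((Scheme.ΓSpecIso R').inv.hom (θ.hom r)) := by
  have h1 := Scheme.Hom.germ_stalkMap_apply (specTo hU₀ θ) U₀ u (specTo_mem hU₀ θ u) r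
  refine h1.trans ?_
  have h2 : (specTo hU₀ θ).app U₀ = θ ≫ (Scheme.ΓSpecIso R').inv ≫
      (Spec R').presheaf.map (eqToHom (specTo_preimage hU₀ θ)).op := by
    unfold specTo
    rw [Scheme.Hom.comp_app, hU₀.fromSpec_app_self, Category.assoc, Scheme.Hom.naturality,
      ← Category.assoc, ← Category.assoc]
    have h3 := Scheme.ΓSpecIso_inv_naturality θ
    change θ ≫ (Scheme.ΓSpecIso R').inv = (Scheme.ΓSpecIso Γ(X, U₀)).inv ≫ (Spec.map θ).app ⊤ at h3
    rw [Category.assoc θ, ← Category.assoc θ, h3]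
    simp only [Category.assoc]
    rfl
  rw [h2]
  simp only [CommRingCat.comp_apply]
  exact TopCat.Presheaf.germ_res_apply _ _ _ _ _

/-- the image of a point whose contraction is the prime of `x` -/
theorem specTo_apply_eq (x : X) (hx : x ∈ U₀) (u : Spec R')
    (hu : u.asIdeal.comap θ.hom = (hU₀.primeIdealOf ⟨x, hx⟩).asIdeal) :
    specTo hU₀ θ u = x := by
  have h1 : specTo hU₀ θ u = hU₀.fromSpec (Spec.map θ u) := rfl
  have h2 : Spec.map θ u = hU₀.primeIdealOf ⟨x, hx⟩ := by
    apply PrimeSpectrum.ext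
    exact hu
  rw [h1, h2]
  exact hU₀.fromSpec_primeIdealOf ⟨x, hx⟩

instance etale_specTo [hθ : Fact (θ.hom.Etale)] : Etale (specTo hU₀ θ) := by
  haveI : Etale (Spec.map θ) := HasRingHomProperty.Spec_iff.mpr hθ.out
  unfold specTo
  infer_instance

/-- compatibility with a morphism to a base, on affine opens -/
theorem specTo_comp {S : Scheme.{u}} (p : X ⟶ S) {W : S.Opens} (hW : IsAffineOpen W)
    (i : U₀ ≤ p ⁻¹ᵁ W) :
    specTo hU₀ θ ≫ p = specTo hW (p.appLE W U₀ i ≫ θ) := by
  unfold specTo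
  rw [Category.assoc, ← IsAffineOpen.SpecMap_appLE_fromSpec p hW hU₀ i, Spec.map_comp,
    Category.assoc]

end SpecTo

/-- germs of sections pulled back along `appLE` -/
theorem germ_appLE {X Y : Scheme.{u}} (f : X ⟶ Y) (W : Y.Opens) (U : X.Opens)
    (i : U ≤ f ⁻¹ᵁ W) (x : X) (hx : x ∈ U) (l : Γ(Y, W)) :
    X.presheaf.germ U x hx ((f.appLE W U i).hom l) =
      (f.stalkMap x).hom (Y.presheaf.germ W (f x) (i hx) l) := by
  rw [Scheme.Hom.germ_stalkMap_apply]
  unfold Scheme.Hom.appLE
  simp only [CommRingCat.comp_apply]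
  exact TopCat.Presheaf.germ_res_apply _ _ _ _ _

end Groth.Agent.Lib.EtApxSchH5
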