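import Mathlib
import Groth.Agent.Lib.EtApxSch1_helper5
import Groth.Agent.Lib.LocalCrit2_helper9

set_option autoImplicit false
set_option linter.style.haveILetI false
set_option linter.unusedVariables false
set_option linter.deprecated false
set_option maxHeartbeats 1600000

/-!
# Étale approximation of maps into completed local rings of schemes, part 4 (helper5)
`flat_of_completion_iso`: a local map `τ : OY → OU` which, through `ψl : OU → K^` and an isomorphism
`φ : OY^ ≃ K^`, agrees with the completion map modulo the square of the maximal ideal is flat,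
unramified, with trivial residue field extension (comparison of completions; surjective endomorphisms
of Noetherian rings are injective).
-/

universe u

open TensorProduct IsLocalRing

namespace Groth.Agent.Lib.EtApxSchH5

open Groth.Agent.Lib.ArtinApxH5 Groth.Agent.Lib.AlgzH5

/-- a surjective ring endomorphism of a Noetherian ring is injective -/
theorem injective_of_surjective_endo {R : Type*} [CommRing R] [IsNoetherianRing R] (f : R →+* R)
    (hf : Function.Surjective f) : Function.Injective f := by
  let I : ℕ →o Ideal R :=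
    ⟨fun k => RingHom.ker (f ^ k), by
      intro a b hab x hx
      rw [RingHom.mem_ker] at hx ⊢
      obtain ⟨c, rfl⟩ := Nat.exists_eq_add_of_le hab
      rw [add_comm, pow_add]
      show (f ^ c) ((f ^ a) x) = 0
      rw [hx, map_zero]⟩
  obtain ⟨n, hn⟩ := monotone_stabilizes_iff_noetherian.mpr (inferInstance : IsNoetherian R R) I
  have hsurj : Function.Surjective (f ^ n) := by
    rw [RingHom.coe_pow]
    exact hf.iterate n
  rw [injective_iff_map_eq_zero]
  intro x hx
  obtain ⟨y, rfl⟩ := hsurj x
  have h1 : y ∈ I (n + 1) := by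
    show y ∈ RingHom.ker (f ^ (n + 1))
    rw [RingHom.mem_ker, pow_succ']
    exact hx
  rw [← hn (n + 1) (Nat.le_succ n)] at h1
  exact h1


/-- a ring isomorphism of local rings preserves the powers of the maximal ideals -/
theorem map_mem_pow_of_equiv {R S : Type*} [CommRing R] [CommRing S] [IsLocalRing R]
    [IsLocalRing S] (e : R ≃+* S) (n : ℕ) (z : R) (hz : z ∈ maximalIdeal R ^ n) :
    e z ∈ maximalIdeal S ^ n := by
  have h1 : (maximalIdeal R).map e.toRingHom ≤ maximalIdeal S := by
    rw [Ideal.map_le_iff_le_comap]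
    intro x hx
    rw [Ideal.mem_comap, mem_maximalIdeal, mem_nonunits_iff]
    intro hu
    have : IsUnit x := by
      have h2 := hu.map e.symm.toRingHom
      simpa using h2
    exact hx this
  have h2 : e.toRingHom z ∈ (maximalIdeal R ^ n).map e.toRingHom := Ideal.mem_map_of_mem _ hz
  rw [Ideal.map_pow] at h2
  exact Ideal.pow_right_mono h1 n h2

section PsiLoc

variable {K OU : Type u} [CommRing K] [CommRing OU] [IsLocalRing K] [IsNoetherianRing K]
  [IsLocalRing OU] (ε : K →+* OU) (ψl : OU →+* AdicCompletion (maximalIdeal K) K)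
  (hψlε : ψl.comp ε = algebraMap K (AdicCompletion (maximalIdeal K) K))
  (hmU : (maximalIdeal K).map ε = maximalIdeal OU)
  (hres : ∀ w : OU, ∃ c : K, w - ε c ∈ maximalIdeal OU)

include hψlε hmU hres in
/-- `OU/m_U^n → K^/m^n` is injective -/
theorem mem_pow_of_psil_mem (n : ℕ) (v : OU)
    (hv : ψl v ∈ (maximalIdeal K ^ n).map (algebraMap K (AdicCompletion (maximalIdeal K) K))) :
    v ∈ maximalIdeal OU ^ n := by
  have hψlε' : ∀ c, ψl (ε c) = algebraMap K (AdicCompletion (maximalIdeal K) K) c := fun c =>
    RingHom.congr_fun hψlε c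
  have hmUpow : ∀ n, (maximalIdeal K ^ n).map ε = maximalIdeal OU ^ n := fun n => by
    rw [Ideal.map_pow, hmU]
  letI algKU : Algebra K OU := ε.toAlgebra
  have hs : ∀ x : OU, ∃ a : K, x - algebraMap K OU a ∈
      (maximalIdeal K).map (algebraMap K OU) := by
    intro x
    obtain ⟨c, hc⟩ := hres x
    refine ⟨c, ?_⟩
    show x - ε c ∈ (maximalIdeal K).map ε
    rw [hmU]
    exact hc
  obtain ⟨c', hc'⟩ := surj_pow (J := maximalIdeal K) hs n v
  have hc'' : v - ε c' ∈ (maximalIdeal K ^ n).map ε := hc'
  have h3 : ψl (v - ε c') ∈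
      (maximalIdeal K ^ n).map (algebraMap K (AdicCompletion (maximalIdeal K) K)) := by
    have h5 := Ideal.mem_map_of_mem ψl hc''
    rw [Ideal.map_map, hψlε] at h5
    exact h5
  have h6 : algebraMap K (AdicCompletion (maximalIdeal K) K) c' ∈
      (maximalIdeal K ^ n).map (algebraMap K (AdicCompletion (maximalIdeal K) K)) := by
    have : algebraMap K (AdicCompletion (maximalIdeal K) K) c' = ψl v - ψl (v - ε c') := by
      rw [← map_sub, ← hψlε']
      congr 1
      ring
    rw [this]
    exact Ideal.sub_mem _ hv h3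
  have h7 : c' ∈ maximalIdeal K ^ n := mem_pow_of_of_mem (maximalIdeal K) c' n h6
  have h8 : ε c' ∈ maximalIdeal OU ^ n := by
    rw [← hmUpow n]
    exact Ideal.mem_map_of_mem ε h7
  have : v = (v - ε c') + ε c' := by ring
  rw [this]
  rw [hmUpow] at hc''
  exact Ideal.add_mem _ hc'' h8

end PsiLoc


/-- the map from the completion of a local ring to a complete local ring induced by a local map -/
theorem exists_completion_map_local {A₁ R : Type u} [CommRing A₁] [IsNoetherianRing A₁]
    [IsLocalRing A₁] [CommRing R] [IsLocalRing R] [IsAdicComplete (maximalIdeal R) R]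
    (g₁ : A₁ →+* R) (hcomap : (maximalIdeal R).comap g₁ = maximalIdeal A₁)
    (hgen : maximalIdeal R ≤ (maximalIdeal A₁).map g₁)
    (hres : ∀ r : R, ∃ a : A₁, r - g₁ a ∈ maximalIdeal R) :
    ∃ ĝ : AdicCompletion (maximalIdeal A₁) A₁ →+* R,
      (∀ a, ĝ (algebraMap A₁ _ a) = g₁ a) ∧ Function.Surjective ĝ := by
  have key := exists_completion_map g₁ (by rw [hcomap]; exact hgen) hres
  rw [hcomap] at key
  exact key

/-- **Flatness from an isomorphism of completions.** -/
theorem flat_of_completion_iso {K OY OU : Type u} [CommRing K] [CommRing OY] [CommRing OU]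
    [IsLocalRing K] [IsNoetherianRing K] [IsLocalRing OY] [IsNoetherianRing OY]
    [IsLocalRing OU] [IsNoetherianRing OU]
    (ε : K →+* OU) (τ : OY →+* OU)
    (ψl : OU →+* AdicCompletion (maximalIdeal K) K)
    (hψlε : ψl.comp ε = algebraMap K (AdicCompletion (maximalIdeal K) K))
    (φ : AdicCompletion (maximalIdeal OY) OY ≃+* AdicCompletion (maximalIdeal K) K)
    (N : ℕ) (hN : 2 ≤ N)
    (H : ∀ b : OY, ψl (τ b) - φ (algebraMap OY (AdicCompletion (maximalIdeal OY) OY) b) ∈
      (maximalIdeal K ^ N).map (algebraMap K (AdicCompletion (maximalIdeal K) K)))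
    (hmU : (maximalIdeal K).map ε = maximalIdeal OU)
    (hres : ∀ w : OU, ∃ c : K, w - ε c ∈ maximalIdeal OU) :
    (∀ w : OU, ∃ b : OY, w - τ b ∈ maximalIdeal OU) ∧
      (maximalIdeal OY).map τ = maximalIdeal OU ∧
      (letI := τ.toAlgebra; Module.Flat OY OU) := by
  classical
  have hψlε' : ∀ c, ψl (ε c) = algebraMap K (AdicCompletion (maximalIdeal K) K) c := fun c =>
    RingHom.congr_fun hψlε c
  have hmaxK : maximalIdeal (AdicCompletion (maximalIdeal K) K) =
      (maximalIdeal K).map (algebraMap K (AdicCompletion (maximalIdeal K) K)) :=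
    AdicCompletion.maximalIdeal_eq_map
  have hmaxY : maximalIdeal (AdicCompletion (maximalIdeal OY) OY) =
      (maximalIdeal OY).map (algebraMap OY (AdicCompletion (maximalIdeal OY) OY)) :=
    AdicCompletion.maximalIdeal_eq_map
  have hmaxU : maximalIdeal (AdicCompletion (maximalIdeal OU) OU) =
      (maximalIdeal OU).map (algebraMap OU (AdicCompletion (maximalIdeal OU) OU)) :=
    AdicCompletion.maximalIdeal_eq_map
  have hpowK : ∀ n, (maximalIdeal K ^ n).map (algebraMap K (AdicCompletion (maximalIdeal K) K)) =
      maximalIdeal (AdicCompletion (maximalIdeal K) K) ^ n := fun n => by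
    rw [Ideal.map_pow, hmaxK]
  have hpowY : ∀ n, (maximalIdeal OY ^ n).map
      (algebraMap OY (AdicCompletion (maximalIdeal OY) OY)) =
      maximalIdeal (AdicCompletion (maximalIdeal OY) OY) ^ n := fun n => by
    rw [Ideal.map_pow, hmaxY]
  have hinj := mem_pow_of_psil_mem ε ψl hψlε hmU hres
  -- `H` in lower degrees
  have Hn : ∀ n, n ≤ N → ∀ b : OY,
      ψl (τ b) - φ (algebraMap OY (AdicCompletion (maximalIdeal OY) OY) b) ∈
        maximalIdeal (AdicCompletion (maximalIdeal K) K) ^ n := by
    intro n hn b
    rw [← hpowK]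
    exact Ideal.map_mono (Ideal.pow_le_pow_right hn) (H b)
  -- approximation of elements of `OU` by elements of `OY`
  have happ : ∀ (n : ℕ), n ≤ N → ∀ v : OU, ∃ b : OY, v - τ b ∈ maximalIdeal OU ^ n ∧
      (v ∈ maximalIdeal OU → 1 ≤ n → b ∈ maximalIdeal OY) := by
    intro n hn v
    obtain ⟨b, hb⟩ := exists_of_sub_mem (maximalIdeal OY) (φ.symm (ψl v)) n
    rw [hpowY] at hb
    have h1 := map_mem_pow_of_equiv φ n _ hb
    rw [map_sub, RingEquiv.apply_symm_apply] at h1
    refine ⟨b, ?_, ?_⟩
    · apply hinj
      rw [hpowK]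
      have : ψl (v - τ b) = (ψl v - φ (algebraMap OY _ b)) -
          (ψl (τ b) - φ (algebraMap OY _ b)) := by
        rw [map_sub]
        ring
      rw [this]
      exact Ideal.sub_mem _ h1 (Hn n hn b)
    · intro hv h1n
      by_contra hb'
      have hbu : IsUnit b := by
        by_contra h'
        exact hb' h'
      have h2 : IsUnit (φ (algebraMap OY (AdicCompletion (maximalIdeal OY) OY) b)) :=
        (hbu.map _).map φ
      have h3 : ψl v ∈ maximalIdeal (AdicCompletion (maximalIdeal K) K) := by
        have h4 : v ∈ (maximalIdeal K).map ε := by rw [hmU]; exact hv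
        have h5 := Ideal.mem_map_of_mem ψl h4
        rw [Ideal.map_map, hψlε, ← hmaxK] at h5
        exact h5
      have h6 : φ (algebraMap OY (AdicCompletion (maximalIdeal OY) OY) b) ∈
          maximalIdeal (AdicCompletion (maximalIdeal K) K) := by
        have : φ (algebraMap OY (AdicCompletion (maximalIdeal OY) OY) b) =
            ψl v - (ψl v - φ (algebraMap OY _ b)) := by ring
        rw [this]
        exact Ideal.sub_mem _ h3 (Ideal.pow_le_self (by omega) h1)
      exact h6 h2
  -- B1
  have hB1 : ∀ w : OU, ∃ b : OY, w - τ b ∈ maximalIdeal OU := by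
    intro w
    obtain ⟨b, hb, -⟩ := happ 1 (by omega) w
    rw [pow_one] at hb
    exact ⟨b, hb⟩
  -- τ is local
  have hτloc : ∀ b ∈ maximalIdeal OY, τ b ∈ maximalIdeal OU := by
    intro b hb
    have h1 : ψl (τ b) ∈ maximalIdeal (AdicCompletion (maximalIdeal K) K) := by
      have h2 : φ (algebraMap OY (AdicCompletion (maximalIdeal OY) OY) b) ∈
          maximalIdeal (AdicCompletion (maximalIdeal K) K) := by
        have h3 : algebraMap OY (AdicCompletion (maximalIdeal OY) OY) b ∈
            maximalIdeal (AdicCompletion (maximalIdeal OY) OY) ^ 1 := by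
          rw [pow_one, hmaxY]
          exact Ideal.mem_map_of_mem _ hb
        have := map_mem_pow_of_equiv φ 1 _ h3
        rw [pow_one] at this
        exact this
      have : ψl (τ b) = (ψl (τ b) - φ (algebraMap OY _ b)) + φ (algebraMap OY _ b) := by ring
      rw [this]
      have h4 := Hn 1 (by omega) b
      rw [pow_one] at h4
      exact Ideal.add_mem _ h4 h2
    have h5 := hinj 1 (τ b) (by rw [hpowK, pow_one]; exact h1)
    rw [pow_one] at h5
    exact h5
  -- B2
  have hB2 : (maximalIdeal OY).map τ = maximalIdeal OU := by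
    apply le_antisymm
    · rw [Ideal.map_le_iff_le_comap]
      intro b hb
      exact hτloc b hb
    · have hle : maximalIdeal OU ≤ (maximalIdeal OY).map τ ⊔ maximalIdeal OU • maximalIdeal OU := by
        intro v hv
        obtain ⟨b, hb, hbm⟩ := happ 2 hN v
        have hbm' := hbm hv (by omega)
        have : v = τ b + (v - τ b) := by ring
        rw [this]
        refine Ideal.add_mem _ (Ideal.mem_sup_left (Ideal.mem_map_of_mem τ hbm')) ?_
        refine Ideal.mem_sup_right ?_
        rw [smul_eq_mul, ← pow_two]
        exact hb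
      exact Submodule.le_of_le_smul_of_le_jacobson_bot (IsNoetherian.noetherian _)
        (IsLocalRing.maximalIdeal_le_jacobson _) hle
  refine ⟨hB1, hB2, ?_⟩
  -- completions
  haveI : IsNoetherianRing (AdicCompletion (maximalIdeal K) K) := Groth.Agent.S0543.result _ _
  haveI : IsNoetherianRing (AdicCompletion (maximalIdeal OY) OY) := Groth.Agent.S0543.result _ _
  haveI : IsNoetherianRing (AdicCompletion (maximalIdeal OU) OU) := Groth.Agent.S0543.result _ _
  have hcomap_of : ∀ {A₁ R : Type u} [CommRing A₁] [CommRing R] [IsLocalRing A₁] [IsLocalRing R]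
      (g : A₁ →+* R), (maximalIdeal A₁).map g ≤ maximalIdeal R →
      (maximalIdeal R).comap g = maximalIdeal A₁ := by
    intro A₁ R _ _ _ _ g hg
    exact ((IsLocalRing.local_hom_TFAE g).out 2 4).mp hg
  -- residues of the completion of `OU`
  have hresU : ∀ r : AdicCompletion (maximalIdeal OU) OU, ∃ w : OU,
      r - algebraMap OU (AdicCompletion (maximalIdeal OU) OU) w ∈
        maximalIdeal (AdicCompletion (maximalIdeal OU) OU) := by
    intro r
    obtain ⟨w, hw⟩ := exists_of_sub_mem (maximalIdeal OU) r 1
    rw [pow_one, ← hmaxU] at hw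
    exact ⟨w, hw⟩
  -- Step 1
  have hmap1 : (maximalIdeal K).map
      ((algebraMap OU (AdicCompletion (maximalIdeal OU) OU)).comp ε) =
      maximalIdeal (AdicCompletion (maximalIdeal OU) OU) := by
    rw [← Ideal.map_map, hmU, hmaxU]
  obtain ⟨εh, hεh, hεhs⟩ := exists_completion_map_local
    ((algebraMap OU (AdicCompletion (maximalIdeal OU) OU)).comp ε)
    (hcomap_of _ hmap1.le) hmap1.ge (by
      intro r
      obtain ⟨w, hw⟩ := hresU r
      obtain ⟨c, hc⟩ := hres w
      refine ⟨c, ?_⟩
      have h1 : algebraMap OU (AdicCompletion (maximalIdeal OU) OU) (w - ε c) ∈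
          maximalIdeal (AdicCompletion (maximalIdeal OU) OU) := by
        rw [hmaxU]
        exact Ideal.mem_map_of_mem _ hc
      have : r - ((algebraMap OU (AdicCompletion (maximalIdeal OU) OU)).comp ε) c =
          (r - algebraMap OU _ w) + algebraMap OU (AdicCompletion (maximalIdeal OU) OU)
            (w - ε c) := by
        rw [map_sub]
        show r - algebraMap OU _ (ε c) = _
        ring
      rw [this]
      exact Ideal.add_mem _ hw h1)
  -- Step 2
  have hmap2 : (maximalIdeal OU).map ψl = maximalIdeal (AdicCompletion (maximalIdeal K) K) := by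
    rw [← hmU, Ideal.map_map, hψlε, hmaxK]
  obtain ⟨ψh, hψh, hψhs⟩ := exists_completion_map_local ψl (hcomap_of _ hmap2.le) hmap2.ge (by
      intro r
      obtain ⟨c, hc⟩ := exists_of_sub_mem (maximalIdeal K) r 1
      rw [pow_one, ← hmaxK] at hc
      refine ⟨ε c, ?_⟩
      rw [hψlε']
      exact hc)
  -- Step 3
  have hinj1 : Function.Injective (ψh.comp εh) :=
    injective_of_surjective_endo _ (hψhs.comp hεhs)
  have hψhinj : Function.Injective ψh := by
    rw [injective_iff_map_eq_zero]
    intro z hz
    obtain ⟨z', rfl⟩ := hεhs z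
    have : z' = 0 := by
      apply hinj1
      rw [map_zero]
      exact hz
    rw [this, map_zero]
  -- Step 4
  have hmap4 : (maximalIdeal OY).map
      ((algebraMap OU (AdicCompletion (maximalIdeal OU) OU)).comp τ) =
      maximalIdeal (AdicCompletion (maximalIdeal OU) OU) := by
    rw [← Ideal.map_map, hB2, hmaxU]
  obtain ⟨τh, hτh, hτhs⟩ := exists_completion_map_local
    ((algebraMap OU (AdicCompletion (maximalIdeal OU) OU)).comp τ)
    (hcomap_of _ hmap4.le) hmap4.ge (by
      intro r
      obtain ⟨w, hw⟩ := hresU r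
      obtain ⟨b, hb⟩ := hB1 w
      refine ⟨b, ?_⟩
      have h1 : algebraMap OU (AdicCompletion (maximalIdeal OU) OU) (w - τ b) ∈
          maximalIdeal (AdicCompletion (maximalIdeal OU) OU) := by
        rw [hmaxU]
        exact Ideal.mem_map_of_mem _ hb
      have : r - ((algebraMap OU (AdicCompletion (maximalIdeal OU) OU)).comp τ) b =
          (r - algebraMap OU _ w) + algebraMap OU (AdicCompletion (maximalIdeal OU) OU)
            (w - τ b) := by
        rw [map_sub]
        show r - algebraMap OU _ (τ b) = _
        ring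
      rw [this]
      exact Ideal.add_mem _ hw h1)
  -- Step 5
  have hinj5 : Function.Injective ((φ.symm.toRingHom.comp ψh).comp τh) :=
    injective_of_surjective_endo _ ((φ.symm.surjective.comp hψhs).comp hτhs)
  have hτhinj : Function.Injective τh := by
    intro z₁ z₂ h
    apply hinj5
    show φ.symm (ψh (τh z₁)) = φ.symm (ψh (τh z₂))
    rw [h]
  -- Step 6
  letI algYU : Algebra OY OU := τ.toAlgebra
  letI algYUh : Algebra OY (AdicCompletion (maximalIdeal OU) OU) :=
    ((algebraMap OU (AdicCompletion (maximalIdeal OU) OU)).comp τ).toAlgebra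
  haveI tw : IsScalarTower OY OU (AdicCompletion (maximalIdeal OU) OU) :=
    IsScalarTower.of_algebraMap_eq (fun b => rfl)
  let eτ : AdicCompletion (maximalIdeal OY) OY ≃+* AdicCompletion (maximalIdeal OU) OU :=
    RingEquiv.ofBijective τh ⟨hτhinj, hτhs⟩
  let el : AdicCompletion (maximalIdeal OU) OU ≃ₗ[OY] AdicCompletion (maximalIdeal OY) OY :=
    { eτ.symm with
      map_smul' := fun b z => by
        show eτ.symm (algebraMap OY (AdicCompletion (maximalIdeal OU) OU) b * z) =
          algebraMap OY (AdicCompletion (maximalIdeal OY) OY) b * eτ.symm z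
        apply eτ.injective
        rw [RingEquiv.apply_symm_apply, map_mul, RingEquiv.apply_symm_apply]
        congr 1
        exact (hτh b).symm }
  haveI : Module.Flat OY (AdicCompletion (maximalIdeal OU) OU) := Module.Flat.of_linearEquiv el
  haveI : Module.FaithfullyFlat OU (AdicCompletion (maximalIdeal OU) OU) :=
    Module.FaithfullyFlat.of_flat_of_isLocalHom
  exact Groth.Agent.Lib.LocalCrit2.flat_of_faithfullyFlat_of_flat
    (A := OY) (B := OU) (M := AdicCompletion (maximalIdeal OU) OU)

end Groth.Agent.Lib.EtApxSchH5
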