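import Mathlib
import Groth.Agent.Lib.EtApxSch1_helper5
import Groth.Agent.Lib.EtApxSch4_helper5
import Groth.Agent.Lib.FlatUnramPt_helper4

set_option autoImplicit false
set_option linter.style.haveILetI false
set_option linter.unusedVariables false
set_option linter.deprecated false
set_option maxHeartbeats 1600000

/-!
# Étale approximation of maps into completed local rings of schemes, part 5 (helper5)
For an isomorphism of completed local rings: the approximating neighbourhood is étale over both
sides. `exists_psil` (the localized map to the completion), `isEtaleAt_of_local` (étaleness at a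
prime from flatness + unramifiedness of the local homomorphism), `shrink` (passing to a principal
open), `approx_alg_etale` (the algebraic statement).
-/

universe u

open TensorProduct IsLocalRing

namespace Groth.Agent.Lib.EtApxSchH5

open Groth.Agent.Lib.ArtinApxH5 Groth.Agent.Lib.AlgzH5

/-- the localized map `ψl : OU → K^` and its properties (the first half of `approx_local`) -/
theorem exists_psil {A B K OY R' OU : Type u} [CommRing A] [CommRing B] [CommRing K] [CommRing OY]
    [CommRing R'] [CommRing OU]
    [Algebra A K] [IsLocalRing K] [IsNoetherianRing K]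
    (𝔭 : Ideal A) [𝔭.IsPrime] [IsLocalization.AtPrime K 𝔭]
    [Algebra B OY] (𝔮 : Ideal B) [𝔮.IsPrime] [IsLocalization.AtPrime OY 𝔮]
    (φ : OY →+* AdicCompletion (maximalIdeal K) K)
    [Algebra A R'] [Algebra.Etale A R']
    (ψ : R' →+* AdicCompletion (maximalIdeal K) K) (p' : Ideal R') [p'.IsPrime]
    (hψ : ∀ r : A, ψ (algebraMap A R' r) =
      algebraMap K (AdicCompletion (maximalIdeal K) K) (algebraMap A K r))
    (hcomap : p'.comap (algebraMap A R') = 𝔭)
    (hfrac : ∀ x : R', ∃ r s : A, s ∉ 𝔭 ∧ algebraMap A R' s * x - algebraMap A R' r ∈ p')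
    (hψp : ∀ x ∈ p', ψ x ∈ (maximalIdeal K).map
      (algebraMap K (AdicCompletion (maximalIdeal K) K)))
    (t : B →+* R') (N : ℕ)
    (ht : ∀ β : B, φ (algebraMap B OY β) - ψ (t β) ∈ (maximalIdeal K ^ N).map
      (algebraMap K (AdicCompletion (maximalIdeal K) K)))
    [Algebra R' OU] [IsLocalization.AtPrime OU p'] [IsLocalRing OU]
    (ε : K →+* OU) (hε : ∀ r : A, ε (algebraMap A K r) = algebraMap R' OU (algebraMap A R' r))
    (τ : OY →+* OU) (hτ : ∀ β : B, τ (algebraMap B OY β) = algebraMap R' OU (t β)) :
    ∃ ψl : OU →+* AdicCompletion (maximalIdeal K) K,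
      (∀ x : R', ψl (algebraMap R' OU x) = ψ x) ∧
      ψl.comp ε = algebraMap K (AdicCompletion (maximalIdeal K) K) ∧
      (maximalIdeal K).map ε = maximalIdeal OU ∧
      (∀ w : OU, ∃ c : K, w - ε c ∈ maximalIdeal OU) ∧
      (∀ b : OY, ψl (τ b) - φ b ∈ (maximalIdeal K ^ N).map
        (algebraMap K (AdicCompletion (maximalIdeal K) K))) := by
  classical
  have hmax : maximalIdeal (AdicCompletion (maximalIdeal K) K) =
      (maximalIdeal K).map (algebraMap K (AdicCompletion (maximalIdeal K) K)) :=
    AdicCompletion.maximalIdeal_eq_map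
  have hunit := isUnit_psi 𝔭 ψ p' hψ hcomap hfrac hψp
  -- the localized map
  let ψl : OU →+* AdicCompletion (maximalIdeal K) K :=
    IsLocalization.lift (M := p'.primeCompl) (g := ψ) (fun y => hunit y.1 y.2)
  have hψl : ∀ x : R', ψl (algebraMap R' OU x) = ψ x := fun x => IsLocalization.lift_eq _ x
  have hψlε : ψl.comp ε = algebraMap K (AdicCompletion (maximalIdeal K) K) := by
    apply IsLocalization.ringHom_ext 𝔭.primeCompl
    refine RingHom.ext fun r => ?_
    show ψl (ε (algebraMap A K r)) = _
    rw [hε, hψl, hψ]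
    rfl
  have hψlε' : ∀ c, ψl (ε c) = algebraMap K (AdicCompletion (maximalIdeal K) K) c := fun c =>
    RingHom.congr_fun hψlε c
  -- nonunits
  have hnon : ∀ v : OU, ψl v ∈ maximalIdeal (AdicCompletion (maximalIdeal K) K) →
      v ∈ maximalIdeal OU := by
    intro v hv
    by_contra h
    have hu : IsUnit v := by
      by_contra h'
      exact h h'
    exact hv (hu.map ψl)
  -- residue fields
  have hres : ∀ w : OU, ∃ c : K, w - ε c ∈ maximalIdeal OU := by
    intro w
    obtain ⟨c, hc⟩ := exists_of_sub_mem (maximalIdeal K) (ψl w) 1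
    refine ⟨c, hnon _ ?_⟩
    rw [map_sub, hψlε', hmax]
    rw [pow_one] at hc
    exact hc
  -- ε is local and unramified
  letI algKU : Algebra K OU := ε.toAlgebra
  letI algAU : Algebra A OU := ((algebraMap R' OU).comp (algebraMap A R')).toAlgebra
  haveI twARU : IsScalarTower A R' OU := IsScalarTower.of_algebraMap_eq (fun r => rfl)
  haveI twAKU : IsScalarTower A K OU := IsScalarTower.of_algebraMap_eq (fun r => by
    show algebraMap R' OU (algebraMap A R' r) = ε (algebraMap A K r)
    rw [hε])
  haveI : IsLocalHom (algebraMap K OU) := by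
    constructor
    intro c hc
    have h1 : IsUnit (ψl (ε c)) := hc.map ψl
    rw [hψlε'] at h1
    exact isUnit_of_map_unit (algebraMap K (AdicCompletion (maximalIdeal K) K)) c h1
  haveI : Algebra.FormallyUnramified R' OU :=
    Algebra.FormallyUnramified.of_isLocalization p'.primeCompl
  haveI : Algebra.EssFiniteType R' OU := Algebra.EssFiniteType.of_isLocalization OU p'.primeCompl
  haveI : Algebra.FormallyUnramified A OU := Algebra.FormallyUnramified.comp A R' OU
  haveI : Algebra.EssFiniteType A OU := Algebra.EssFiniteType.comp A R' OU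
  haveI : Algebra.FormallyUnramified K OU := Algebra.FormallyUnramified.of_restrictScalars A K OU
  haveI : Algebra.EssFiniteType K OU := Algebra.EssFiniteType.of_comp A K OU
  have hmU : (maximalIdeal K).map ε = maximalIdeal OU :=
    Algebra.FormallyUnramified.map_maximalIdeal (R := K) (S := OU)
  obtain ⟨J, hJ⟩ : ∃ J : Ideal (AdicCompletion (maximalIdeal K) K),
      J = (maximalIdeal K ^ N).map (algebraMap K (AdicCompletion (maximalIdeal K) K)) :=
    ⟨_, rfl⟩
  rw [← hJ] at ht
  -- step 4
  have hstep : ∀ b : OY, ψl (τ b) - φ b ∈ J := by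
    intro b
    obtain ⟨β, σ, rfl⟩ := IsLocalization.exists_mk'_eq 𝔮.primeCompl b
    have hspec : IsLocalization.mk' OY β σ * algebraMap B OY σ = algebraMap B OY β :=
      IsLocalization.mk'_spec OY β σ
    have hσu : IsUnit (algebraMap B OY (σ : B)) := IsLocalization.map_units OY σ
    have hu : IsUnit (ψ (t σ)) := by
      have : ψ (t σ) = ψl (τ (algebraMap B OY σ)) := by rw [hτ, hψl]
      rw [this]
      exact (hσu.map τ).map ψl
    have e1 : ψl (τ (IsLocalization.mk' OY β σ)) * ψ (t σ) = ψ (t β) := by
      have : ψ (t σ) = ψl (τ (algebraMap B OY σ)) := by rw [hτ, hψl]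
      rw [this, ← map_mul, ← map_mul, hspec, hτ, hψl]
    have e2 : φ (IsLocalization.mk' OY β σ) * φ (algebraMap B OY σ) = φ (algebraMap B OY β) := by
      rw [← map_mul, hspec]
    have e3 : (ψl (τ (IsLocalization.mk' OY β σ)) - φ (IsLocalization.mk' OY β σ)) * ψ (t σ) =
        -(φ (algebraMap B OY β) - ψ (t β)) +
          φ (IsLocalization.mk' OY β σ) * (φ (algebraMap B OY σ) - ψ (t σ)) := by
      rw [sub_mul, e1, mul_sub, e2]
      ring
    have e4 : (ψl (τ (IsLocalization.mk' OY β σ)) - φ (IsLocalization.mk' OY β σ)) * ψ (t σ) ∈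
        J := by
      rw [e3]
      exact J.add_mem (neg_mem (ht β)) (J.mul_mem_left _ (ht σ))
    exact (Ideal.mul_unit_mem_iff_mem J hu).mp e4
  rw [← hJ]
  exact ⟨ψl, hψl, hψlε, hmU, hres, hstep⟩

/-- **Étaleness at a prime from the local criterion**: a finite type algebra over a Noetherian ring
is étale at a prime as soon as the local homomorphism of local rings is flat, the maximal ideal
generates the maximal ideal and the residue field extension is trivial. -/
theorem isEtaleAt_of_local {B R' OY : Type u} [CommRing B] [IsNoetherianRing B] [CommRing R']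
    [CommRing OY] [Algebra B R'] [Algebra.FiniteType B R']
    (𝔮 : Ideal B) [𝔮.IsPrime] (p' : Ideal R') [p'.IsPrime]
    (hpq : 𝔮 = p'.comap (algebraMap B R'))
    [Algebra B OY] [IsLocalization.AtPrime OY 𝔮] [IsLocalRing OY]
    (τ : OY →+* Localization.AtPrime p')
    (hτ : ∀ β : B, τ (algebraMap B OY β) =
      algebraMap R' (Localization.AtPrime p') (algebraMap B R' β))
    (hB1 : ∀ w : Localization.AtPrime p', ∃ b : OY,
      w - τ b ∈ maximalIdeal (Localization.AtPrime p'))
    (hB2 : (maximalIdeal OY).map τ = maximalIdeal (Localization.AtPrime p'))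
    (hflat : letI := τ.toAlgebra; Module.Flat OY (Localization.AtPrime p')) :
    Algebra.IsEtaleAt B p' := by
  classical
  haveI : Algebra.FinitePresentation B R' :=
    Algebra.FinitePresentation.of_finiteType.mp inferInstance
  letI algYU : Algebra OY (Localization.AtPrime p') := τ.toAlgebra
  haveI tw : IsScalarTower B OY (Localization.AtPrime p') :=
    IsScalarTower.of_algebraMap_eq (fun β => by
      rw [IsScalarTower.algebraMap_apply B R' (Localization.AtPrime p')]
      exact (hτ β).symm)
  haveI : Module.Flat OY (Localization.AtPrime p') := hflat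
  haveI hlocτ : IsLocalHom (algebraMap OY (Localization.AtPrime p')) :=
    ((IsLocalRing.local_hom_TFAE τ).out 0 2).mpr hB2.le
  -- unramified
  haveI : Algebra.EssFiniteType R' (Localization.AtPrime p') :=
    Algebra.EssFiniteType.of_isLocalization _ p'.primeCompl
  haveI : Algebra.EssFiniteType B (Localization.AtPrime p') :=
    Algebra.EssFiniteType.comp B R' _
  haveI : Algebra.EssFiniteType OY (Localization.AtPrime p') :=
    Algebra.EssFiniteType.of_comp B OY _
  haveI : Algebra.IsSeparable (ResidueField OY) (ResidueField (Localization.AtPrime p')) := by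
    constructor
    intro z
    obtain ⟨w, rfl⟩ := IsLocalRing.residue_surjective z
    obtain ⟨b, hb⟩ := hB1 w
    have : IsLocalRing.residue _ w = algebraMap (ResidueField OY)
        (ResidueField (Localization.AtPrime p')) (IsLocalRing.residue _ b) := by
      show _ = IsLocalRing.residue _ (τ b)
      rw [← sub_eq_zero, ← map_sub, IsLocalRing.residue_eq_zero_iff]
      exact hb
    rw [this]
    exact isSeparable_algebraMap _
  haveI hunrY : Algebra.FormallyUnramified OY (Localization.AtPrime p') :=
    Algebra.FormallyUnramified.of_map_maximalIdeal hB2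
  haveI : Algebra.FormallyUnramified B OY :=
    Algebra.FormallyUnramified.of_isLocalization 𝔮.primeCompl
  haveI hunrB : Algebra.FormallyUnramified B (Localization.AtPrime p') :=
    Algebra.FormallyUnramified.comp B OY _
  haveI : Module.Flat B OY := IsLocalization.flat OY 𝔮.primeCompl
  haveI hflatB : Module.Flat B (Localization.AtPrime p') := Module.Flat.trans B OY _
  -- the local ring hom
  have h1 : (Localization.localRingHom 𝔮 p' (algebraMap B R') hpq).Flat := by
    show @Module.Flat _ _ _ _ (Localization.localRingHom 𝔮 p' (algebraMap B R') hpq).toAlgebra.toModule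
    letI algL : Algebra (Localization.AtPrime 𝔮) (Localization.AtPrime p') :=
      (Localization.localRingHom 𝔮 p' (algebraMap B R') hpq).toAlgebra
    haveI : IsScalarTower B (Localization.AtPrime 𝔮) (Localization.AtPrime p') :=
      IsScalarTower.of_algebraMap_eq (fun β => by
        show _ = Localization.localRingHom 𝔮 p' (algebraMap B R') hpq (algebraMap B _ β)
        rw [Localization.localRingHom_to_map]
        rfl)
    exact (Module.flat_iff_of_isLocalization (Localization.AtPrime 𝔮) 𝔮.primeCompl _).mpr hflatB
  have h2 : (Localization.localRingHom 𝔮 p' (algebraMap B R') hpq).FormallyUnramified := by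
    show @Algebra.FormallyUnramified _ _ _ _
      (Localization.localRingHom 𝔮 p' (algebraMap B R') hpq).toAlgebra
    letI algL : Algebra (Localization.AtPrime 𝔮) (Localization.AtPrime p') :=
      (Localization.localRingHom 𝔮 p' (algebraMap B R') hpq).toAlgebra
    haveI : IsScalarTower B (Localization.AtPrime 𝔮) (Localization.AtPrime p') :=
      IsScalarTower.of_algebraMap_eq (fun β => by
        show _ = Localization.localRingHom 𝔮 p' (algebraMap B R') hpq (algebraMap B _ β)
        rw [Localization.localRingHom_to_map]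
        rfl)
    exact Algebra.FormallyUnramified.of_restrictScalars B _ _
  have h3 := Groth.Agent.Lib.FlatUnramPtH4.formallySmooth_localRingHom (algebraMap B R')
    (RingHom.finitePresentation_algebraMap.mpr inferInstance) 𝔮 p' hpq h1 h2
  letI algL : Algebra (Localization.AtPrime 𝔮) (Localization.AtPrime p') :=
    (Localization.localRingHom 𝔮 p' (algebraMap B R') hpq).toAlgebra
  haveI : IsScalarTower B (Localization.AtPrime 𝔮) (Localization.AtPrime p') :=
    IsScalarTower.of_algebraMap_eq (fun β => by
      show _ = Localization.localRingHom 𝔮 p' (algebraMap B R') hpq (algebraMap B _ β)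
      rw [Localization.localRingHom_to_map]
      rfl)
  haveI : Algebra.FormallySmooth (Localization.AtPrime 𝔮) (Localization.AtPrime p') := h3
  haveI : Algebra.FormallyEtale B (Localization.AtPrime 𝔮) :=
    Algebra.FormallyEtale.of_isLocalization 𝔮.primeCompl
  haveI : Algebra.FormallySmooth B (Localization.AtPrime p') :=
    Algebra.FormallySmooth.comp B (Localization.AtPrime 𝔮) _
  exact Algebra.FormallyEtale.iff_formallyUnramified_and_formallySmooth.mpr ⟨hunrB, inferInstance⟩

/-- shrinking the étale neighbourhood to a principal open containing the point -/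
theorem shrink {A K R' : Type u} [CommRing A] [CommRing K] [CommRing R']
    [Algebra A K] [IsLocalRing K] [IsNoetherianRing K]
    (𝔭 : Ideal A) [𝔭.IsPrime] [IsLocalization.AtPrime K 𝔭]
    [Algebra A R'] [Algebra.Etale A R']
    (ψ : R' →+* AdicCompletion (maximalIdeal K) K) (p' : Ideal R') [p'.IsPrime]
    (hψ : ∀ r : A, ψ (algebraMap A R' r) =
      algebraMap K (AdicCompletion (maximalIdeal K) K) (algebraMap A K r))
    (hcomap : p'.comap (algebraMap A R') = 𝔭)
    (hfrac : ∀ x : R', ∃ r s : A, s ∉ 𝔭 ∧ algebraMap A R' s * x - algebraMap A R' r ∈ p')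
    (hψp : ∀ x ∈ p', ψ x ∈ (maximalIdeal K).map
      (algebraMap K (AdicCompletion (maximalIdeal K) K)))
    (g : R') (hg : g ∉ p') :
    Algebra.Etale A (Localization.Away g) ∧
    ∃ (ψ' : Localization.Away g →+* AdicCompletion (maximalIdeal K) K)
      (p'' : Ideal (Localization.Away g)), p''.IsPrime ∧
      p''.comap (algebraMap R' (Localization.Away g)) = p' ∧
      (∀ x : R', ψ' (algebraMap R' (Localization.Away g) x) = ψ x) ∧
      (∀ r : A, ψ' (algebraMap A (Localization.Away g) r) =
        algebraMap K (AdicCompletion (maximalIdeal K) K) (algebraMap A K r)) ∧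
      p''.comap (algebraMap A (Localization.Away g)) = 𝔭 ∧
      (∀ x : Localization.Away g, ∃ r s : A, s ∉ 𝔭 ∧
        algebraMap A (Localization.Away g) s * x - algebraMap A (Localization.Away g) r ∈ p'') ∧
      (∀ x ∈ p'', ψ' x ∈ (maximalIdeal K).map
        (algebraMap K (AdicCompletion (maximalIdeal K) K))) := by
  classical
  have hunit := isUnit_psi 𝔭 ψ p' hψ hcomap hfrac hψp
  haveI : Algebra.Etale R' (Localization.Away g) := Algebra.Etale.of_isLocalizationAway g
  refine ⟨Algebra.Etale.comp A R' _, ?_⟩
  let ψ' : Localization.Away g →+* AdicCompletion (maximalIdeal K) K :=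
    IsLocalization.Away.lift g (hunit g hg)
  have hψ' : ∀ x : R', ψ' (algebraMap R' (Localization.Away g) x) = ψ x := fun x =>
    IsLocalization.Away.lift_eq g (hunit g hg) x
  have hdisj : Disjoint (Submonoid.powers g : Set R') (p' : Set R') := by
    rw [Set.disjoint_left]
    rintro _ ⟨k, rfl⟩ hk
    exact hg (Ideal.IsPrime.mem_of_pow_mem inferInstance k hk)
  have hp'' : (p'.map (algebraMap R' (Localization.Away g))).IsPrime :=
    IsLocalization.isPrime_of_isPrime_disjoint (Submonoid.powers g) _ p' inferInstance hdisj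
  have hcm : (p'.map (algebraMap R' (Localization.Away g))).comap
      (algebraMap R' (Localization.Away g)) = p' :=
    IsLocalization.comap_map_of_isPrime_disjoint (Submonoid.powers g) _ inferInstance hdisj
  have halg : ∀ r : A, algebraMap A (Localization.Away g) r =
      algebraMap R' (Localization.Away g) (algebraMap A R' r) := fun r =>
    IsScalarTower.algebraMap_apply A R' (Localization.Away g) r
  have hmemiff : ∀ z : R', algebraMap R' (Localization.Away g) z ∈
      p'.map (algebraMap R' (Localization.Away g)) ↔ z ∈ p' := by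
    intro z
    constructor
    · intro h
      have : z ∈ (p'.map (algebraMap R' (Localization.Away g))).comap
          (algebraMap R' (Localization.Away g)) := h
      rw [hcm] at this
      exact this
    · intro h
      exact Ideal.mem_map_of_mem _ h
  refine ⟨ψ', p'.map (algebraMap R' (Localization.Away g)), hp'', hcm, hψ', fun r => ?_, ?_,
    fun x => ?_, fun x hx => ?_⟩
  · rw [halg, hψ', hψ]
  · ext r
    rw [Ideal.mem_comap, halg, hmemiff, ← hcomap, Ideal.mem_comap]
  · -- fractions
    obtain ⟨x₀, ⟨_, ⟨k, rfl⟩⟩, rfl⟩ := IsLocalization.exists_mk'_eq (Submonoid.powers g) x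
    obtain ⟨r₀, s₀, hs₀, h₀⟩ := hfrac x₀
    obtain ⟨r₁, s₁, hs₁, h₁⟩ := hfrac (g ^ k)
    have hgk : g ^ k ∉ p' := fun h => hg (Ideal.IsPrime.mem_of_pow_mem inferInstance k h)
    have hs₁' : algebraMap A R' s₁ ∉ p' := by
      intro h
      apply hs₁
      rw [← hcomap]
      exact h
    have hr₁ : r₁ ∉ 𝔭 := by
      intro h
      have h1 : algebraMap A R' r₁ ∈ p' := by
        have : r₁ ∈ p'.comap (algebraMap A R') := by rw [hcomap]; exact h
        exact this
      have h2 : algebraMap A R' s₁ * g ^ k ∈ p' := by
        have : algebraMap A R' s₁ * g ^ k = (algebraMap A R' s₁ * g ^ k - algebraMap A R' r₁) +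
            algebraMap A R' r₁ := by ring
        rw [this]
        exact p'.add_mem h₁ h1
      rcases (Ideal.IsPrime.mem_or_mem inferInstance h2) with h3 | h3
      · exact hs₁' h3
      · exact hgk h3
    refine ⟨r₀ * s₁, s₀ * r₁, ?_, ?_⟩
    · intro h
      rcases (Ideal.IsPrime.mem_or_mem inferInstance h) with h3 | h3
      · exact hs₀ h3
      · exact hr₁ h3
    · have hu : IsUnit (algebraMap R' (Localization.Away g) (g ^ k)) :=
        IsLocalization.map_units (Localization.Away g)
          (⟨g ^ k, ⟨k, rfl⟩⟩ : Submonoid.powers g)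
      have hspec : IsLocalization.mk' (Localization.Away g) x₀
          (⟨g ^ k, ⟨k, rfl⟩⟩ : Submonoid.powers g) * algebraMap R' (Localization.Away g) (g ^ k) =
          algebraMap R' (Localization.Away g) x₀ :=
        IsLocalization.mk'_spec (Localization.Away g) x₀ (⟨g ^ k, ⟨k, rfl⟩⟩ : Submonoid.powers g)
      rw [← Ideal.mul_unit_mem_iff_mem _ hu]
      have e1 : (algebraMap A (Localization.Away g) (s₀ * r₁) *
          IsLocalization.mk' (Localization.Away g) x₀ (⟨g ^ k, ⟨k, rfl⟩⟩ : Submonoid.powers g) -
          algebraMap A (Localization.Away g) (r₀ * s₁)) *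
          algebraMap R' (Localization.Away g) (g ^ k) =
          algebraMap R' (Localization.Away g)
            (algebraMap A R' r₁ * (algebraMap A R' s₀ * x₀ - algebraMap A R' r₀) -
              algebraMap A R' r₀ * (algebraMap A R' s₁ * g ^ k - algebraMap A R' r₁)) := by
        rw [sub_mul, mul_assoc, hspec, halg, halg]
        simp only [map_mul, map_sub]
        ring
      rw [e1, hmemiff]
      exact p'.sub_mem (p'.mul_mem_left _ h₀) (p'.mul_mem_left _ h₁)
  · obtain ⟨⟨a, m⟩, ham⟩ := (IsLocalization.mem_map_algebraMap_iff (Submonoid.powers g)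
      (Localization.Away g)).mp hx
    have hmu : IsUnit (ψ (m : R')) := by
      apply hunit
      obtain ⟨_, ⟨k, rfl⟩⟩ := m
      exact fun h => hg (Ideal.IsPrime.mem_of_pow_mem inferInstance k h)
    have h1 : ψ' x * ψ (m : R') = ψ (a : R') := by
      rw [← hψ', ← hψ', ← map_mul]
      exact congrArg ψ' ham
    rw [← Ideal.mul_unit_mem_iff_mem _ hmu, h1]
    exact hψp _ a.2

/-- the composite of an isomorphism of completions with the canonical map is local -/
theorem equiv_comp_local {K OY : Type u} [CommRing K] [CommRing OY] [IsLocalRing K]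
    [IsNoetherianRing K] [IsLocalRing OY] [IsNoetherianRing OY]
    (φ : AdicCompletion (maximalIdeal OY) OY ≃+* AdicCompletion (maximalIdeal K) K)
    (b : OY) (hb : b ∈ maximalIdeal OY) :
    φ (algebraMap OY (AdicCompletion (maximalIdeal OY) OY) b) ∈ (maximalIdeal K).map
      (algebraMap K (AdicCompletion (maximalIdeal K) K)) := by
  have hmaxK : maximalIdeal (AdicCompletion (maximalIdeal K) K) =
      (maximalIdeal K).map (algebraMap K (AdicCompletion (maximalIdeal K) K)) :=
    AdicCompletion.maximalIdeal_eq_map
  have hmaxY : maximalIdeal (AdicCompletion (maximalIdeal OY) OY) =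
      (maximalIdeal OY).map (algebraMap OY (AdicCompletion (maximalIdeal OY) OY)) :=
    AdicCompletion.maximalIdeal_eq_map
  have h3 : algebraMap OY (AdicCompletion (maximalIdeal OY) OY) b ∈
      maximalIdeal (AdicCompletion (maximalIdeal OY) OY) ^ 1 := by
    rw [pow_one, hmaxY]
    exact Ideal.mem_map_of_mem _ hb
  have := map_mem_pow_of_equiv φ 1 _ h3
  rw [pow_one, hmaxK] at this
  exact this

/-- **Étale approximation of an isomorphism of completed local rings**: as `approx_alg`, with the
approximating map `t : B → R'` étale as well. -/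
theorem approx_alg_etale {Λ A B K OY : Type u} [CommRing Λ] [IsNoetherianRing Λ] [CommRing A]
    [CommRing B] [Algebra Λ A] [Algebra.FiniteType Λ A] [Algebra Λ B] [Algebra.FiniteType Λ B]
    [CommRing K] [Algebra A K] (𝔭 : Ideal A) [𝔭.IsPrime] [IsLocalization.AtPrime K 𝔭]
    [IsLocalRing K] (hG : CAlg.IsGRing K)
    [CommRing OY] [Algebra B OY] (𝔮 : Ideal B) [𝔮.IsPrime] [IsLocalization.AtPrime OY 𝔮]
    [IsLocalRing OY]
    (φ : AdicCompletion (maximalIdeal OY) OY ≃+* AdicCompletion (maximalIdeal K) K)
    (hφ : ∀ l : Λ, φ (algebraMap OY (AdicCompletion (maximalIdeal OY) OY)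
        (algebraMap B OY (algebraMap Λ B l))) =
      algebraMap K (AdicCompletion (maximalIdeal K) K) (algebraMap A K (algebraMap Λ A l)))
    (N : ℕ) (hN : 2 ≤ N) :
    ∃ (R' : Type u) (_ : CommRing R') (_ : Algebra A R'), Algebra.Etale A R' ∧
      ∃ (ψ : R' →+* AdicCompletion (maximalIdeal K) K) (p' : Ideal R'), p'.IsPrime ∧
        (∀ r : A, ψ (algebraMap A R' r) =
          algebraMap K (AdicCompletion (maximalIdeal K) K) (algebraMap A K r)) ∧
        p'.comap (algebraMap A R') = 𝔭 ∧
        (∀ x : R', ∃ r s : A, s ∉ 𝔭 ∧ algebraMap A R' s * x - algebraMap A R' r ∈ p') ∧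
        (∀ x ∈ p', ψ x ∈ (maximalIdeal K).map
          (algebraMap K (AdicCompletion (maximalIdeal K) K))) ∧
        ∃ t : B →+* R', t.Etale ∧
          (∀ l : Λ, t (algebraMap Λ B l) = algebraMap A R' (algebraMap Λ A l)) ∧
          ∀ β : B, φ (algebraMap OY (AdicCompletion (maximalIdeal OY) OY) (algebraMap B OY β)) -
            ψ (t β) ∈ (maximalIdeal K ^ N).map
              (algebraMap K (AdicCompletion (maximalIdeal K) K)) := by
  classical
  haveI : IsNoetherianRing K := hG.1
  haveI : IsNoetherianRing A := Algebra.FiniteType.isNoetherianRing Λ A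
  haveI : IsNoetherianRing B := Algebra.FiniteType.isNoetherianRing Λ B
  haveI : Algebra.FinitePresentation Λ B := Algebra.FinitePresentation.of_finiteType.mp inferInstance
  haveI : IsNoetherianRing OY := IsLocalization.isNoetherianRing 𝔮.primeCompl OY inferInstance
  let φ₀ : OY →+* AdicCompletion (maximalIdeal K) K :=
    φ.toRingHom.comp (algebraMap OY (AdicCompletion (maximalIdeal OY) OY))
  have hφ₀ : ∀ b, φ₀ b = φ (algebraMap OY (AdicCompletion (maximalIdeal OY) OY) b) := fun b => rfl
  have hφloc : ∀ b ∈ maximalIdeal OY, φ₀ b ∈ (maximalIdeal K).map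
      (algebraMap K (AdicCompletion (maximalIdeal K) K)) := fun b hb => equiv_comp_local φ b hb
  let φB : B →+* AdicCompletion (maximalIdeal K) K := φ₀.comp (algebraMap B OY)
  have hφB : ∀ l : Λ, φB (algebraMap Λ B l) =
      algebraMap K (AdicCompletion (maximalIdeal K) K) (algebraMap A K (algebraMap Λ A l)) :=
    fun l => hφ l
  obtain ⟨R', iR1, iR2, het, ψ, p', hp', hψ, hcomap, hfrac, hψp, t, htΛ, ht⟩ :=
    approx_alg 𝔭 hG φB hφB N
  have ht' : ∀ β : B, φ₀ (algebraMap B OY β) - ψ (t β) ∈ (maximalIdeal K ^ N).map
      (algebraMap K (AdicCompletion (maximalIdeal K) K)) := ht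
  have hmem : ∀ β : B, t β ∈ p' ↔ β ∈ 𝔮 :=
    mem_iff_of_local 𝔭 𝔮 φ₀ hφloc ψ p' hψ hcomap hfrac hψp t N (by omega) ht'
  -- Noetherianity
  haveI : IsNoetherianRing R' := Algebra.FiniteType.isNoetherianRing A R'
  haveI : IsNoetherianRing (Localization.AtPrime p') :=
    IsLocalization.isNoetherianRing p'.primeCompl _ inferInstance
  -- the maps to the local ring
  have hAunit : ∀ s : 𝔭.primeCompl, IsUnit ((algebraMap R' (Localization.AtPrime p')).comp
      (algebraMap A R') s) := by
    intro s
    apply IsLocalization.map_units (Localization.AtPrime p')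
      (⟨algebraMap A R' s, ?_⟩ : p'.primeCompl)
    intro h
    have h2 : (s : A) ∈ p'.comap (algebraMap A R') := h
    rw [hcomap] at h2
    exact s.2 h2
  let ε : K →+* Localization.AtPrime p' := IsLocalization.lift (M := 𝔭.primeCompl) hAunit
  have hε : ∀ r : A, ε (algebraMap A K r) =
      algebraMap R' (Localization.AtPrime p') (algebraMap A R' r) := fun r =>
    IsLocalization.lift_eq _ r
  have hBunit : ∀ s : 𝔮.primeCompl, IsUnit ((algebraMap R' (Localization.AtPrime p')).comp t s) := by
    intro s
    apply IsLocalization.map_units (Localization.AtPrime p') (⟨t s, ?_⟩ : p'.primeCompl)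
    intro h
    exact s.2 ((hmem _).mp h)
  let τ : OY →+* Localization.AtPrime p' := IsLocalization.lift (M := 𝔮.primeCompl) hBunit
  have hτ : ∀ β : B, τ (algebraMap B OY β) = algebraMap R' (Localization.AtPrime p') (t β) :=
    fun β => IsLocalization.lift_eq _ β
  obtain ⟨ψl, hψl, hψlε, hmU, hres, Hstep⟩ := exists_psil 𝔭 𝔮 φ₀ ψ p' hψ hcomap hfrac hψp t N ht'
    ε hε τ hτ
  obtain ⟨hB1, hB2, hflat⟩ := flat_of_completion_iso ε τ ψl hψlε φ N hN Hstep hmU hres
  -- étale at `p'`
  letI algBR : Algebra B R' := t.toAlgebra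
  letI algΛR : Algebra Λ R' := ((algebraMap A R').comp (algebraMap Λ A)).toAlgebra
  haveI : IsScalarTower Λ A R' := IsScalarTower.of_algebraMap_eq (fun _ => rfl)
  haveI : IsScalarTower Λ B R' := IsScalarTower.of_algebraMap_eq (fun l => (htΛ l).symm)
  haveI : Algebra.FiniteType Λ R' := Algebra.FiniteType.trans (S := A) inferInstance inferInstance
  haveI : Algebra.FiniteType B R' := Algebra.FiniteType.of_restrictScalars_finiteType Λ B R'
  have hpq : 𝔮 = p'.comap (algebraMap B R') := by
    ext β
    exact (hmem β).symm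
  haveI : Algebra.IsEtaleAt B p' := isEtaleAt_of_local 𝔮 p' hpq τ hτ hB1 hB2 hflat
  haveI : Algebra.FinitePresentation B R' :=
    Algebra.FinitePresentation.of_finiteType.mp inferInstance
  obtain ⟨g, hg, hget⟩ := Algebra.exists_etale_of_isEtaleAt (R := B) p'
  obtain ⟨het', ψ', p'', hp'', hcm, hψ', hψ'A, hcomap', hfrac', hψp'⟩ :=
    shrink 𝔭 ψ p' hψ hcomap hfrac hψp g hg
  refine ⟨Localization.Away g, inferInstance, inferInstance, het', ψ', p'', hp'', hψ'A, hcomap',
    hfrac', hψp', (algebraMap R' (Localization.Away g)).comp t, ?_, fun l => ?_, fun β => ?_⟩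
  · exact RingHom.etale_algebraMap.mpr hget
  · show algebraMap R' (Localization.Away g) (t (algebraMap Λ B l)) = _
    rw [htΛ]
    exact (IsScalarTower.algebraMap_apply A R' (Localization.Away g) _).symm
  · show _ - ψ' (algebraMap R' (Localization.Away g) (t β)) ∈ _
    rw [hψ']
    exact ht β

end Groth.Agent.Lib.EtApxSchH5
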