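import Mathlib
import Groth.Prelude.Def_Found
import Groth.Agent.Lib.EtApxSch1_helper5
import Groth.Agent.Lib.EtApxSch2_helper5
import Groth.Agent.Lib.EtApxSch3_helper5
import Groth.Agent.Lib.EtApxSch4_helper5
import Groth.Agent.Lib.EtApxSch5_helper5

set_option autoImplicit false
set_option linter.style.haveILetI false
set_option linter.unusedVariables false
set_option linter.deprecated false
set_option maxHeartbeats 1600000

/-!
# Étale approximation of maps into completed local rings of schemes, part 6 (helper5)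
`main7203`: the scheme-level statement for an isomorphism of completed local rings (Stacks 0CAV,
second half): the common neighbourhood is étale over both schemes with trivial residue field
extensions.
-/

universe u

open AlgebraicGeometry CategoryTheory Limits IsLocalRing

namespace Groth.Agent.Lib.EtApxSchH5

open Groth.Agent.Lib.ArtinApxH5 Groth.Agent.Lib.AlgzH5

/-- **Étale approximation of an isomorphism of completed local rings of schemes locally of finite
type over a base whose local ring is a G-ring** (form of S7203). -/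
theorem main7203 {X Y S : Scheme.{u}} [IsLocallyNoetherian S]
    (p : X ⟶ S) (q : Y ⟶ S) [LocallyOfFiniteType p] [LocallyOfFiniteType q] (x : X) (y : Y) (hxy : p x = q y)
    (hG : CAlg.IsGRing ↑(S.presheaf.stalk (p x)))
    (φ : (AdicCompletion (IsLocalRing.maximalIdeal ↑(Y.presheaf.stalk y)) ↑(Y.presheaf.stalk y)) ≃+* (AdicCompletion (IsLocalRing.maximalIdeal ↑(X.presheaf.stalk x)) ↑(X.presheaf.stalk x)))
    (hφ : φ.toRingHom.comp ((algebraMap ↑(Y.presheaf.stalk y) (AdicCompletion (IsLocalRing.maximalIdeal ↑(Y.presheaf.stalk y)) ↑(Y.presheaf.stalk y))).comp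
        ((q.stalkMap y).hom.comp (S.presheaf.stalkCongr (Inseparable.of_eq hxy)).hom.hom)) =
      (algebraMap ↑(X.presheaf.stalk x) (AdicCompletion (IsLocalRing.maximalIdeal ↑(X.presheaf.stalk x)) ↑(X.presheaf.stalk x))).comp (p.stalkMap x).hom)
    (N : ℕ) (hN : 1 ≤ N) :
    ∃ (U : Scheme.{u}) (u : U) (e : U ⟶ X) (heu : e u = x) (f : U ⟶ Y) (hfu : f u = y),
      Etale e ∧ Function.Bijective (e.residueFieldMap u) ∧ Etale f ∧ Function.Bijective (f.residueFieldMap u) ∧
      f ≫ q = e ≫ p ∧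
      ∀ (b : (AdicCompletion (IsLocalRing.maximalIdeal ↑(Y.presheaf.stalk y)) ↑(Y.presheaf.stalk y))) (cY : ↑(Y.presheaf.stalk y)) (cX : ↑(X.presheaf.stalk x)),
        AdicCompletion.evalₐ (IsLocalRing.maximalIdeal ↑(Y.presheaf.stalk y)) N b =
          Ideal.Quotient.mk (IsLocalRing.maximalIdeal ↑(Y.presheaf.stalk y) ^ N) cY →
        AdicCompletion.evalₐ (IsLocalRing.maximalIdeal ↑(X.presheaf.stalk x)) N (φ b) =
          Ideal.Quotient.mk (IsLocalRing.maximalIdeal ↑(X.presheaf.stalk x) ^ N) cX →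
        Ideal.Quotient.mk (IsLocalRing.maximalIdeal ↑(U.presheaf.stalk u) ^ N)
            ((f.stalkMap u).hom ((Y.presheaf.stalkCongr (Inseparable.of_eq hfu)).inv.hom cY)) =
          Ideal.Quotient.mk (IsLocalRing.maximalIdeal ↑(U.presheaf.stalk u) ^ N)
            ((e.stalkMap u).hom ((X.presheaf.stalkCongr (Inseparable.of_eq heu)).inv.hom cX)) := by
  classical
  -- affine opens
  obtain ⟨W, hW, hsW, -⟩ := exists_isAffineOpen_mem_and_subset (x := p x) (U := ⊤) trivial
  have hxW : x ∈ p ⁻¹ᵁ W := hsW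
  obtain ⟨U₀, hU₀, hxU₀, hU₀W⟩ := exists_isAffineOpen_mem_and_subset hxW
  have hyW : y ∈ q ⁻¹ᵁ W := by
    show q y ∈ W
    rw [← hxy]
    exact hsW
  obtain ⟨V, hV, hyV, hVW⟩ := exists_isAffineOpen_mem_and_subset hyW
  -- rings
  letI algΛA : Algebra Γ(S, W) Γ(X, U₀) := (p.appLE W U₀ hU₀W).hom.toAlgebra
  letI algΛB : Algebra Γ(S, W) Γ(Y, V) := (q.appLE W V hVW).hom.toAlgebra
  haveI : IsNoetherianRing Γ(S, W) := IsLocallyNoetherian.component_noetherian ⟨W, hW⟩
  haveI ftA : Algebra.FiniteType Γ(S, W) Γ(X, U₀) :=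
    LocallyOfFiniteType.finiteType_appLE p hW hU₀ hU₀W
  haveI ftB : Algebra.FiniteType Γ(S, W) Γ(Y, V) :=
    LocallyOfFiniteType.finiteType_appLE q hW hV hVW
  haveI : IsNoetherianRing Γ(X, U₀) := Algebra.FiniteType.isNoetherianRing Γ(S, W) Γ(X, U₀)
  haveI : IsNoetherianRing Γ(Y, V) := Algebra.FiniteType.isNoetherianRing Γ(S, W) Γ(Y, V)
  -- stalks
  letI algAK : Algebra Γ(X, U₀) (X.presheaf.stalk x) :=
    TopCat.Presheaf.algebra_section_stalk X.presheaf ⟨x, hxU₀⟩
  haveI locK : IsLocalization.AtPrime (X.presheaf.stalk x) (hU₀.primeIdealOf ⟨x, hxU₀⟩).asIdeal :=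
    hU₀.isLocalization_stalk ⟨x, hxU₀⟩
  letI algBY : Algebra Γ(Y, V) (Y.presheaf.stalk y) :=
    TopCat.Presheaf.algebra_section_stalk Y.presheaf ⟨y, hyV⟩
  haveI locY : IsLocalization.AtPrime (Y.presheaf.stalk y) (hV.primeIdealOf ⟨y, hyV⟩).asIdeal :=
    hV.isLocalization_stalk ⟨y, hyV⟩
  have halgAK : ∀ r : Γ(X, U₀), algebraMap Γ(X, U₀) (X.presheaf.stalk x) r =
      X.presheaf.germ U₀ x hxU₀ r := fun r => rfl
  have halgBY : ∀ r : Γ(Y, V), algebraMap Γ(Y, V) (Y.presheaf.stalk y) r =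
      Y.presheaf.germ V y hyV r := fun r => rfl
  -- the G-ring property
  have hGK : CAlg.IsGRing (X.presheaf.stalk x) := by
    letI := (p.stalkMap x).hom.toAlgebra
    haveI : Algebra.EssFiniteType (S.presheaf.stalk (p x)) (X.presheaf.stalk x) :=
      LocallyOfFiniteType.stalkMap p x
    exact isGRing_of_essFiniteType' _ hG _
  haveI : IsNoetherianRing (X.presheaf.stalk x) := hGK.1
  haveI : IsNoetherianRing (Y.presheaf.stalk y) :=
    IsLocalization.isNoetherianRing (hV.primeIdealOf ⟨y, hyV⟩).asIdeal.primeCompl _ inferInstance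
  -- the map from `B`
  let φ₀ : Y.presheaf.stalk y →+*
      AdicCompletion (maximalIdeal (X.presheaf.stalk x)) (X.presheaf.stalk x) :=
    φ.toRingHom.comp (algebraMap (Y.presheaf.stalk y)
      (AdicCompletion (maximalIdeal (Y.presheaf.stalk y)) (Y.presheaf.stalk y)))
  have hφ₀ : ∀ b, φ₀ b = φ (algebraMap (Y.presheaf.stalk y)
      (AdicCompletion (maximalIdeal (Y.presheaf.stalk y)) (Y.presheaf.stalk y)) b) := fun b => rfl
  have hloc : ∀ b ∈ maximalIdeal (Y.presheaf.stalk y), φ₀ b ∈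
      (maximalIdeal (X.presheaf.stalk x)).map (algebraMap (X.presheaf.stalk x)
        (AdicCompletion (maximalIdeal (X.presheaf.stalk x)) (X.presheaf.stalk x))) :=
    fun b hb => equiv_comp_local φ b hb
  have hφB : ∀ l : Γ(S, W), φ (algebraMap (Y.presheaf.stalk y)
        (AdicCompletion (maximalIdeal (Y.presheaf.stalk y)) (Y.presheaf.stalk y))
        (algebraMap Γ(Y, V) (Y.presheaf.stalk y) (algebraMap Γ(S, W) Γ(Y, V) l))) =
      algebraMap (X.presheaf.stalk x)
        (AdicCompletion (maximalIdeal (X.presheaf.stalk x)) (X.presheaf.stalk x))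
        (algebraMap Γ(X, U₀) (X.presheaf.stalk x) (algebraMap Γ(S, W) Γ(X, U₀) l)) := by
    intro l
    show φ (algebraMap _ _ (Y.presheaf.germ V y hyV ((q.appLE W V hVW).hom l))) =
      algebraMap _ _ (X.presheaf.germ U₀ x hxU₀ ((p.appLE W U₀ hU₀W).hom l))
    rw [germ_appLE, germ_appLE]
    have h1 : S.presheaf.germ W (q y) (hVW hyV) l =
        (S.presheaf.stalkCongr (Inseparable.of_eq hxy)).hom.hom (S.presheaf.germ W (p x) hsW l) := by
      exact (TopCat.Presheaf.germ_stalkSpecializes_apply S.presheaf hsW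
        (Inseparable.of_eq hxy).ge l).symm
    rw [h1]
    exact RingHom.congr_fun hφ (S.presheaf.germ W (p x) hsW l)
  obtain ⟨R', iR1, iR2, het, ψ, p', hp', hψ, hcomap, hfrac, hψp, t, htet, htΛ, ht1⟩ :=
    approx_alg_etale (hU₀.primeIdealOf ⟨x, hxU₀⟩).asIdeal hGK
      (hV.primeIdealOf ⟨y, hyV⟩).asIdeal φ hφB (N + 1) (by omega)
  have ht' : ∀ β : Γ(Y, V), φ₀ (algebraMap Γ(Y, V) (Y.presheaf.stalk y) β) - ψ (t β) ∈
      (maximalIdeal (X.presheaf.stalk x) ^ (N + 1)).map (algebraMap (X.presheaf.stalk x)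
        (AdicCompletion (maximalIdeal (X.presheaf.stalk x)) (X.presheaf.stalk x))) := ht1
  have ht : ∀ β : Γ(Y, V), φ₀ (algebraMap Γ(Y, V) (Y.presheaf.stalk y) β) - ψ (t β) ∈
      (maximalIdeal (X.presheaf.stalk x) ^ N).map (algebraMap (X.presheaf.stalk x)
        (AdicCompletion (maximalIdeal (X.presheaf.stalk x)) (X.presheaf.stalk x))) := fun β =>
    Ideal.map_mono (Ideal.pow_le_pow_right (Nat.le_succ N)) (ht' β)
  have hmem : ∀ β : Γ(Y, V), t β ∈ p' ↔ β ∈ (hV.primeIdealOf ⟨y, hyV⟩).asIdeal :=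
    mem_iff_of_local (hU₀.primeIdealOf ⟨x, hxU₀⟩).asIdeal (hV.primeIdealOf ⟨y, hyV⟩).asIdeal φ₀ hloc
      ψ p' hψ hcomap hfrac hψp t N hN ht
  -- the scheme
  let θA : Γ(X, U₀) ⟶ CommRingCat.of R' := CommRingCat.ofHom (algebraMap Γ(X, U₀) R')
  let θB : Γ(Y, V) ⟶ CommRingCat.of R' := CommRingCat.ofHom t
  let u : Spec (CommRingCat.of R') := ⟨p', hp'⟩
  have heu : specTo hU₀ θA u = x := specTo_apply_eq hU₀ θA x hxU₀ u hcomap
  have hfu : specTo hV θB u = y := by
    refine specTo_apply_eq hV θB y hyV u ?_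
    ext β
    exact hmem β
  haveI : Fact (θA.hom.Etale) := ⟨RingHom.etale_algebraMap.mpr het⟩
  haveI : Fact (θB.hom.Etale) := ⟨htet⟩
  -- the local ring of the neighbourhood
  letI algRU : Algebra R' ((Spec (CommRingCat.of R')).presheaf.stalk u) :=
    StructureSheaf.stalkAlgebra (CommRingCat.of R') u
  haveI locU : IsLocalization.AtPrime ((Spec (CommRingCat.of R')).presheaf.stalk u) p' :=
    StructureSheaf.IsLocalization.to_stalk (CommRingCat.of R') u
  haveI : IsNoetherianRing R' := Algebra.FiniteType.isNoetherianRing Γ(X, U₀) R'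
  haveI : IsNoetherianRing ((Spec (CommRingCat.of R')).presheaf.stalk u) :=
    IsLocalization.isNoetherianRing p'.primeCompl _ inferInstance
  have halgRU : ∀ r : R', algebraMap R' ((Spec (CommRingCat.of R')).presheaf.stalk u) r =
      (Spec (CommRingCat.of R')).presheaf.germ ⊤ u trivial
        ((Scheme.ΓSpecIso (CommRingCat.of R')).inv.hom r) := fun r => rfl
  let ε : X.presheaf.stalk x →+* (Spec (CommRingCat.of R')).presheaf.stalk u :=
    ((specTo hU₀ θA).stalkMap u).hom.comp (X.presheaf.stalkCongr (Inseparable.of_eq heu)).inv.hom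
  let τ : Y.presheaf.stalk y →+* (Spec (CommRingCat.of R')).presheaf.stalk u :=
    ((specTo hV θB).stalkMap u).hom.comp (Y.presheaf.stalkCongr (Inseparable.of_eq hfu)).inv.hom
  have hε : ∀ r : Γ(X, U₀), ε (algebraMap Γ(X, U₀) (X.presheaf.stalk x) r) =
      algebraMap R' ((Spec (CommRingCat.of R')).presheaf.stalk u) (algebraMap Γ(X, U₀) R' r) := by
    intro r
    rw [halgRU, halgAK]
    show ((specTo hU₀ θA).stalkMap u).hom
      ((X.presheaf.stalkCongr (Inseparable.of_eq heu)).inv.hom (X.presheaf.germ U₀ x hxU₀ r)) = _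
    have h1 : (X.presheaf.stalkCongr (Inseparable.of_eq heu)).inv.hom
        (X.presheaf.germ U₀ x hxU₀ r) =
        X.presheaf.germ U₀ (specTo hU₀ θA u) (specTo_mem hU₀ θA u) r :=
      TopCat.Presheaf.germ_stalkSpecializes_apply X.presheaf hxU₀
        (Inseparable.of_eq heu).le r
    rw [h1, specTo_stalkMap_germ]
    rfl
  have hτ : ∀ β : Γ(Y, V), τ (algebraMap Γ(Y, V) (Y.presheaf.stalk y) β) =
      algebraMap R' ((Spec (CommRingCat.of R')).presheaf.stalk u) (t β) := by
    intro β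
    rw [halgRU, halgBY]
    show ((specTo hV θB).stalkMap u).hom
      ((Y.presheaf.stalkCongr (Inseparable.of_eq hfu)).inv.hom (Y.presheaf.germ V y hyV β)) = _
    have h1 : (Y.presheaf.stalkCongr (Inseparable.of_eq hfu)).inv.hom
        (Y.presheaf.germ V y hyV β) =
        Y.presheaf.germ V (specTo hV θB u) (specTo_mem hV θB u) β :=
      TopCat.Presheaf.germ_stalkSpecializes_apply Y.presheaf hyV
        (Inseparable.of_eq hfu).le β
    rw [h1, specTo_stalkMap_germ]
    rfl
  obtain ⟨ψl, hψl, hψlε, hmU, hres0, Hstep⟩ := exists_psil (hU₀.primeIdealOf ⟨x, hxU₀⟩).asIdeal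
    (hV.primeIdealOf ⟨y, hyV⟩).asIdeal φ₀ ψ p' hψ hcomap hfrac hψp t (N + 1) ht' ε hε τ hτ
  obtain ⟨hB1, hB2, -⟩ := flat_of_completion_iso ε τ ψl hψlε φ (N + 1) (by omega) Hstep hmU hres0
  obtain ⟨hres, hfin⟩ := approx_local (hU₀.primeIdealOf ⟨x, hxU₀⟩).asIdeal
    (hV.primeIdealOf ⟨y, hyV⟩).asIdeal φ₀ ψ p' hψ hcomap hfrac hψp t N ht ε hε τ hτ
  refine ⟨Spec (CommRingCat.of R'), u, specTo hU₀ θA, heu, specTo hV θB, hfu, inferInstance,
    ?_, inferInstance, ?_, ?_, ?_⟩
  · constructor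
    · exact ((specTo hU₀ θA).residueFieldMap u).hom.injective
    · change Function.Surjective
        (IsLocalRing.ResidueField.map ((specTo hU₀ θA).stalkMap u).hom)
      intro z
      obtain ⟨w, rfl⟩ := IsLocalRing.residue_surjective z
      obtain ⟨c, hc⟩ := hres w
      refine ⟨IsLocalRing.residue _
        ((X.presheaf.stalkCongr (Inseparable.of_eq heu)).inv.hom c), ?_⟩
      rw [IsLocalRing.ResidueField.map_residue]
      symm
      rw [← sub_eq_zero, ← map_sub, IsLocalRing.residue_eq_zero_iff]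
      exact hc
  · constructor
    · exact ((specTo hV θB).residueFieldMap u).hom.injective
    · change Function.Surjective
        (IsLocalRing.ResidueField.map ((specTo hV θB).stalkMap u).hom)
      intro z
      obtain ⟨w, rfl⟩ := IsLocalRing.residue_surjective z
      obtain ⟨c, hc⟩ := hB1 w
      refine ⟨IsLocalRing.residue _
        ((Y.presheaf.stalkCongr (Inseparable.of_eq hfu)).inv.hom c), ?_⟩
      rw [IsLocalRing.ResidueField.map_residue]
      symm
      rw [← sub_eq_zero, ← map_sub, IsLocalRing.residue_eq_zero_iff]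
      exact hc
  · rw [specTo_comp hV θB q hW hVW, specTo_comp hU₀ θA p hW hU₀W]
    congr 1
    ext l
    exact htΛ l
  · intro b cY cX hb hφb
    refine hfin cY cX ?_
    rw [hφ₀]
    have hmaxK : maximalIdeal (AdicCompletion (maximalIdeal (X.presheaf.stalk x))
        (X.presheaf.stalk x)) = (maximalIdeal (X.presheaf.stalk x)).map
          (algebraMap (X.presheaf.stalk x)
            (AdicCompletion (maximalIdeal (X.presheaf.stalk x)) (X.presheaf.stalk x))) :=
      AdicCompletion.maximalIdeal_eq_map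
    have hmaxY : maximalIdeal (AdicCompletion (maximalIdeal (Y.presheaf.stalk y))
        (Y.presheaf.stalk y)) = (maximalIdeal (Y.presheaf.stalk y)).map
          (algebraMap (Y.presheaf.stalk y)
            (AdicCompletion (maximalIdeal (Y.presheaf.stalk y)) (Y.presheaf.stalk y))) :=
      AdicCompletion.maximalIdeal_eq_map
    have h1 : b - algebraMap (Y.presheaf.stalk y)
        (AdicCompletion (maximalIdeal (Y.presheaf.stalk y)) (Y.presheaf.stalk y)) cY ∈
        maximalIdeal (AdicCompletion (maximalIdeal (Y.presheaf.stalk y))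
          (Y.presheaf.stalk y)) ^ N := by
      rw [hmaxY, ← Ideal.map_pow]
      apply mem_map_of_evalₐ_eq_zero _ (IsNoetherian.noetherian _) N
      rw [map_sub, hb]
      have : AdicCompletion.evalₐ (maximalIdeal (Y.presheaf.stalk y)) N
          (algebraMap (Y.presheaf.stalk y)
            (AdicCompletion (maximalIdeal (Y.presheaf.stalk y)) (Y.presheaf.stalk y)) cY) =
          Ideal.Quotient.mk (maximalIdeal (Y.presheaf.stalk y) ^ N) cY :=
        AdicCompletion.evalₐ_of _ N cY
      rw [this, sub_self]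
    have h2 := map_mem_pow_of_equiv φ N _ h1
    rw [hmaxK, ← Ideal.map_pow] at h2
    have h3 := evalₐ_eq_zero_of_mem _ N _ h2
    rw [map_sub, map_sub, sub_eq_zero] at h3
    rw [← h3]
    exact hφb

end Groth.Agent.Lib.EtApxSchH5
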