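import Mathlib
import Groth.Prelude.Def_EtBase
import Groth.Prelude.Def_EtCech
import Groth.Agent.Lib.EtCechPush_helper2
import Groth.Agent.Lib.ExtAcyclicClass_helper2
import Groth.Agent.Lib.EtExtFr_helper7
import Groth.Agent.Lib.EtDescentSec_helper7

/-!
# Cartan's criterion on the small étale site of an arbitrary scheme (helper7)

Abelian étale sheaves all of whose Čech cohomology groups (for all jointly surjective families
over all objects) vanish in positive degrees have vanishing higher étale cohomology.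
Assembled from helper2's `EtCechPush`, `CechSiteInj`, `ExtAcyclicClass`.
-/

set_option autoImplicit false
set_option backward.isDefEq.respectTransparency false
set_option backward.isDefEq.respectTransparency.types false
set_option linter.style.haveILetI false
set_option linter.unusedSectionVars false
universe u
open CategoryTheory CategoryTheory.Limits AlgebraicGeometry Opposite Abelian

namespace Groth.Agent.Lib.EtCartanGenH7

open Groth.Agent.Lib.CechSite Groth.Agent.Lib.EtCechPush
  Groth.Agent.Lib.EtFlasque_helper7 Groth.Agent.Lib.EtExtFr_helper7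

variable {X : Scheme.{u}}

attribute [local instance] hasFiniteProducts_over

/-- Čech-flasque abelian sheaves -/
def CF (F : EtCoh.Ab X) : Prop :=
  ∀ (U : X.Etale) (ι : Type (u + 1)) (Uf : ι → Over U),
    (∀ x : ↥(U.left), ∃ (i : ι) (y : ↥((Uf i).left.left)), (Uf i).hom.left.base y = x) →
    ∀ p : ℕ, 0 < p → IsZero (EtCech.cechH Uf F.obj p)

theorem cf_of_injective (I : EtCoh.Ab X) [Injective I] : CF I := by
  intro U ι Uf hU p hp
  obtain ⟨q, rfl⟩ : ∃ q, p = q + 1 := ⟨p - 1, by omega⟩
  haveI := injective_obj_et I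
  exact isZero_cech_of_injective Uf I.obj q

theorem sections_surjective (S : ShortComplex (EtCoh.Ab X)) (hS : S.ShortExact) (h1 : CF S.X₁)
    (U : X.Etale) : Function.Surjective (S.g.hom.app (op U)).hom := by
  apply surjective_of_cechH1 S hS
  intro T hT
  obtain ⟨ι', Yf, hYT, hYs⟩ := exists_family_of_mem _ T hT
  exact ⟨ι', Yf, hYT, ofArrows_mem_of_surjective _ Yf hYs, h1 _ ι' Yf hYs 1 Nat.one_pos⟩

/-- Cartan's criterion -/
theorem ext_vanish (U₀ : X.Etale) (n : ℕ) (F : EtCoh.Ab X) (hF : CF F)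
    (ξ : Ext (fr U₀) F (n + 1)) : ξ = 0 := by
  refine Groth.Agent.Lib.ExtAcyclic.ext_eq_zero_of_class (fr U₀) CF ?_ ?_ ?_ n F hF ξ
  · intro I hI
    haveI := hI
    exact cf_of_injective I
  · intro S hS h1 h2 U ι Uf hU p hp
    exact isZero_cechH_X₃_et S hS h1 h2 U ι Uf hU p hp
  · intro S hS h1 φ
    obtain ⟨t, ht⟩ := sections_surjective S hS h1 U₀ (frEquiv U₀ S.X₃ φ)
    refine ⟨(frEquiv U₀ S.X₂).symm t, ?_⟩
    apply (frEquiv U₀ S.X₃).injective
    rw [frEquiv_comp, Equiv.apply_symm_apply]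
    exact ht

theorem subsingleton_H_of_cf (G : EtCoh.Ab X) (hG : CF G) (n : ℕ) :
    Subsingleton (EtCoh.H X G (n + 1)) := by
  have h1 : Subsingleton (Ext (fr (EtCoh.top X)) G (n + 1)) :=
    ⟨fun a b => (ext_vanish _ n G hG a).trans (ext_vanish _ n G hG b).symm⟩
  have h2 : Subsingleton (EtCoh.H X ((EtCoh.pull (𝟙 X)).obj G) (n + 1)) :=
    (subsingleton_ext_iff (EtCoh.top X) G (n + 1)).1 h1
  let e : (EtCoh.pull (𝟙 X)).obj G ≅ G :=
    (Groth.Agent.Lib.EtDescentSec_helper7.pullId X).app G
  let e' := ((EtCoh.HF X (n + 1)).mapIso e).addCommGroupIsoToAddEquiv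
  haveI : Subsingleton ↑((EtCoh.HF X (n + 1)).obj ((EtCoh.pull (𝟙 X)).obj G)) := h2
  exact e'.symm.toEquiv.subsingleton

theorem H_eq_zero_of_cf (G : EtCoh.Ab X) (hG : CF G) (n : ℕ) (x : EtCoh.H X G (n + 1)) : x = 0 :=
  @Subsingleton.elim _ (subsingleton_H_of_cf G hG n) _ _

end Groth.Agent.Lib.EtCartanGenH7
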