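import Mathlib

open CategoryTheory AlgebraicGeometry IsLocalRing

namespace Groth.Agent.FinUnr

universe u

/-- Nakayama: a finite local hom with `m_A B = m_B` and surjective residue field map is
surjective. -/
theorem surjective_of_finite_of_map_maximalIdeal {A B : Type*} [CommRing A] [CommRing B]
    [IsLocalRing A] [IsLocalRing B] [Algebra A B] [IsLocalHom (algebraMap A B)]
    [Module.Finite A B]
    (h : (maximalIdeal A).map (algebraMap A B) = maximalIdeal B)
    (hres : Function.Surjective (ResidueField.map (algebraMap A B))) :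
    Function.Surjective (algebraMap A B) := by
  change Function.Surjective (Algebra.linearMap A B)
  rw [← LinearMap.range_eq_top, ← top_le_iff]
  apply Submodule.le_of_le_smul_of_le_jacobson_bot Module.Finite.fg_top
    (maximalIdeal_le_jacobson _)
  rw [Ideal.smul_top_eq_map, h]
  rintro x -
  obtain ⟨a, ha⟩ := hres (residue B x)
  obtain ⟨a, rfl⟩ := residue_surjective a
  rw [ResidueField.map_residue, ← sub_eq_zero, ← map_sub, residue_eq_zero_iff] at ha
  rw [← sub_sub_self (algebraMap A B a) x]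
  exact sub_mem (Submodule.mem_sup_left ⟨_, rfl⟩) (Submodule.mem_sup_right ha)

open Localization in
/-- Spreading out surjectivity of the local ring hom at a prime with a unique prime above. -/
theorem exists_mul_mem_range_of_localRingHom_surjective {R S : Type*} [CommRing R] [CommRing S]
    [Algebra R S] {p : Ideal R} [p.IsPrime] {q : Ideal S} [q.IsPrime]
    (hq : p.primesOver S = {q}) [Module.Finite R S] [q.LiesOver p]
    (H : Function.Surjective (localRingHom p q (algebraMap R S) (q.over_def p))) :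
    ∃ r ∉ p, ∀ x : S, ∃ b : R, algebraMap R S b = algebraMap R S r * x := by
  classical
  obtain ⟨s, hs⟩ := Module.Finite.fg_top (R := R) (M := S)
  have key (x : S) : ∃ a, ∃ b ∉ p, algebraMap R S a = x * algebraMap R S b := by
    have := (IsLocalization.mk'_surjective p.primeCompl).exists.mp (H (algebraMap _ _ x))
    simp only [localRingHom_mk', Prod.exists, Subtype.exists, Ideal.mem_primeCompl_iff,
      IsLocalization.mk'_eq_iff_eq_mul, exists_prop, ← map_mul,
      IsLocalization.eq_iff_exists q.primeCompl] at this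
    obtain ⟨a, b, hbp, c, hcq, hc⟩ := this
    obtain ⟨d, hd, e, he⟩ := Ideal.exists_notMem_dvd_algebraMap_of_primesOver_eq_singleton hq _ hcq
    exact ⟨d * a, d * b, ‹p.IsPrime›.mul_notMem hd hbp, by grind⟩
  choose a b hbp e using key
  refine ⟨∏ i ∈ s, b i, ?_, ?_⟩
  · exact prod_mem (S := p.primeCompl) fun _ _ ↦ hbp _
  · intro x
    have hx : x ∈ Submodule.span R (s : Set S) := hs ▸ trivial
    induction hx using Submodule.span_induction with
    | mem i hi =>
      refine ⟨(∏ j ∈ s.erase i, b j) * a i, ?_⟩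
      rw [map_mul, e, ← Finset.mul_prod_erase s b hi, map_mul]
      ring
    | zero => exact ⟨0, by simp⟩
    | add x y _ _ hx hy =>
      obtain ⟨u, hu⟩ := hx
      obtain ⟨v, hv⟩ := hy
      exact ⟨u + v, by rw [map_add, hu, hv, mul_add]⟩
    | smul c x _ hx =>
      obtain ⟨u, hu⟩ := hx
      exact ⟨c * u, by rw [map_mul, hu, Algebra.smul_def]; ring⟩

/-- For an affine morphism `f`, a point `x` alone in its fibre, and an affine open `U ∋ f x`:
the prime of `x` is the unique prime over the prime of `f x`. -/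
theorem primesOver_eq_singleton {X Y : Scheme.{u}} (f : X ⟶ Y) [IsAffineHom f] (x : X)
    (hx : ∀ x' : X, f x' = f x → x' = x) (U : Y.Opens) (hU : IsAffineOpen U) (hxU : f x ∈ U) :
    letI := (f.appLE U (f ⁻¹ᵁ U) le_rfl).hom.toAlgebra
    (hU.primeIdealOf ⟨f x, hxU⟩).asIdeal.primesOver Γ(X, f ⁻¹ᵁ U) =
      {((hU.preimage f).primeIdealOf ⟨x, hxU⟩).asIdeal} := by
  letI := (f.appLE U (f ⁻¹ᵁ U) le_rfl).hom.toAlgebra
  have hV : IsAffineOpen (f ⁻¹ᵁ U) := hU.preimage f
  ext Q
  simp only [Ideal.primesOver, Set.mem_ofPred_eq, Set.mem_singleton_iff]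
  constructor
  · rintro ⟨hQ, hQp⟩
    let Q' : Spec Γ(X, f ⁻¹ᵁ U) := ⟨Q, hQ⟩
    have h1 : f (hV.fromSpec Q') = f x := by
      rw [← Scheme.Hom.comp_apply, ← IsAffineOpen.SpecMap_appLE_fromSpec f hU hV le_rfl,
        Scheme.Hom.comp_apply]
      have : Spec.map (f.appLE U (f ⁻¹ᵁ U) le_rfl) Q' = hU.primeIdealOf ⟨f x, hxU⟩ := by
        apply PrimeSpectrum.ext
        exact hQp.over.symm
      rw [this, hU.fromSpec_primeIdealOf]
    have h2 := hx _ h1
    have h3 : hV.fromSpec Q' = hV.fromSpec (hV.primeIdealOf ⟨x, hxU⟩) := by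
      rw [h2, hV.fromSpec_primeIdealOf]
    have h4 := hV.fromSpec.isOpenEmbedding.injective h3
    exact congrArg PrimeSpectrum.asIdeal h4
  · rintro rfl
    refine ⟨inferInstance, ⟨?_⟩⟩
    exact congr($(IsAffineOpen.comap_primeIdealOf_appLE U hU _ hV le_rfl hxU).1).symm


/-- S0443: the stalk map of a finite morphism at a point alone in its fibre is finite. -/
theorem stalkMap_finite {X Y : Scheme.{u}} (f : X ⟶ Y) [IsFinite f] (x : X)
    (hx : ∀ x' : X, f x' = f x → x' = x) : (f.stalkMap x).hom.Finite := by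
  obtain ⟨_, ⟨U, hU, rfl⟩, hxU, -⟩ := Y.isBasis_affineOpens.exists_subset_of_mem_open
    (Set.mem_univ (f x)) isOpen_univ
  have hV : IsAffineOpen (f ⁻¹ᵁ U) := hU.preimage f
  have hfin : (f.appLE U (f ⁻¹ᵁ U) le_rfl).hom.Finite := by
    rw [Scheme.Hom.appLE_eq_app]
    exact f.finite_app U hU
  have hq := primesOver_eq_singleton f x hx U hU hxU
  algebraize [(f.appLE U (f ⁻¹ᵁ U) le_rfl).hom]
  let p := (hU.primeIdealOf ⟨f x, hxU⟩).asIdeal
  let q := (hV.primeIdealOf ⟨x, hxU⟩).asIdeal
  have hlo : q.LiesOver p :=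
    ⟨congr($(IsAffineOpen.comap_primeIdealOf_appLE U hU _ hV le_rfl hxU).1).symm⟩
  let := Localization.AtPrime.algebraOfLiesOver p q
  have hfin2 := Localization.finite_of_primesOver_eq_singleton hq
  rw [RingHom.finite_respectsIso.arrow_mk_iso_iff
    (IsAffineOpen.arrowStalkMapIso f U hU _ hV le_rfl hxU)]
  rw [CommRingCat.hom_ofHom]
  have h5 : algebraMap (Localization.AtPrime p) (Localization.AtPrime q) = _ :=
    Localization.AtPrime.IsLiesOverAlgebra.algebraMap_eq
  have h6 := RingHom.finite_algebraMap.mpr hfin2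
  rw [h5] at h6
  exact h6

end Groth.Agent.FinUnr
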