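import Mathlib
import Groth.Agent.Lib.FinUnr_helper8

open CategoryTheory AlgebraicGeometry IsLocalRing

namespace Groth.Agent.FinUnr

universe u

/-- The stalk map of a finite unramified morphism at a point alone in its fibre with trivial
residue field extension is surjective. -/
theorem stalkMap_surjective {X S : Scheme.{u}} (f : X ⟶ S) [IsFinite f] [FormallyUnramified f]
    (x : X) (hx : ∀ x' : X, f x' = f x → x' = x)
    (hκ : Function.Surjective (f.residueFieldMap x)) :
    Function.Surjective (f.stalkMap x).hom := by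
  have hfin := stalkMap_finite f x hx
  algebraize [(f.stalkMap x).hom]
  have h1 : IsLocalHom (algebraMap (S.presheaf.stalk (f x)) (X.presheaf.stalk x)) :=
    inferInstanceAs <| IsLocalHom (f.stalkMap x).hom
  have h2 : Algebra.EssFiniteType (S.presheaf.stalk (f x)) (X.presheaf.stalk x) := by
    rw [← RingHom.essFiniteType_algebraMap, RingHom.algebraMap_toAlgebra]
    exact LocallyOfFiniteType.stalkMap f x
  have h3 : Algebra.FormallyUnramified (S.presheaf.stalk (f x)) (X.presheaf.stalk x) := by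
    rw [← RingHom.formallyUnramified_algebraMap, RingHom.algebraMap_toAlgebra]
    exact FormallyUnramified.stalkMap f x
  have h4 := Algebra.FormallyUnramified.map_maximalIdeal (R := S.presheaf.stalk (f x))
    (S := X.presheaf.stalk x)
  exact surjective_of_finite_of_map_maximalIdeal h4 hκ


theorem appLE_surjective_congr {X Y : Scheme.{u}} (f : X ⟶ Y) (U : Y.Opens) (V V' : X.Opens)
    (h : V = V') (e : V ≤ f ⁻¹ᵁ U) (H : Function.Surjective (f.appLE U V' (h ▸ e)).hom) :
    Function.Surjective (f.appLE U V e).hom := by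
  subst h
  exact H

theorem exists_isClosedImmersion {X S : Scheme.{u}} (f : X ⟶ S) [IsFinite f]
    [FormallyUnramified f] (x : X) (hx : ∀ x' : X, f x' = f x → x' = x)
    (hκ : Function.Surjective (f.residueFieldMap x)) :
    ∃ U : S.Opens, f x ∈ U ∧ IsClosedImmersion (f ∣_ U) := by
  have hsurj := stalkMap_surjective f x hx hκ
  obtain ⟨_, ⟨U, hU, rfl⟩, hxU, -⟩ := S.isBasis_affineOpens.exists_subset_of_mem_open
    (Set.mem_univ (f x)) isOpen_univ
  have hV : IsAffineOpen (f ⁻¹ᵁ U) := hU.preimage f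
  have hfin : (f.appLE U (f ⁻¹ᵁ U) le_rfl).hom.Finite := by
    rw [Scheme.Hom.appLE_eq_app]
    exact f.finite_app U hU
  have hq := primesOver_eq_singleton f x hx U hU hxU
  algebraize [(f.appLE U (f ⁻¹ᵁ U) le_rfl).hom]
  let p := (hU.primeIdealOf ⟨f x, hxU⟩).asIdeal
  let q := (hV.primeIdealOf ⟨x, hxU⟩).asIdeal
  have hlo : q.LiesOver p :=
    ⟨congr($(IsAffineOpen.comap_primeIdealOf_appLE U hU _ hV le_rfl hxU).1).symm⟩
  have hloc : Function.Surjective (Localization.localRingHom p q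
      (algebraMap Γ(S, U) Γ(X, f ⁻¹ᵁ U)) (q.over_def p)) := by
    have := (RingHom.surjective_respectsIso.arrow_mk_iso_iff
      (IsAffineOpen.arrowStalkMapIso f U hU _ hV le_rfl hxU)).mp hsurj
    exact this
  obtain ⟨r, hrp, hr⟩ := exists_mul_mem_range_of_localRingHom_surjective hq hloc
  refine ⟨S.basicOpen r, ?_, ?_⟩
  · have h7 : hU.primeIdealOf ⟨f x, hxU⟩ ∈ IsAffineOpen.fromSpec hU ⁻¹ᵁ S.basicOpen r := by
      rw [IsAffineOpen.fromSpec_preimage_basicOpen]
      exact hrp
    have h8 : IsAffineOpen.fromSpec hU (hU.primeIdealOf ⟨f x, hxU⟩) ∈ S.basicOpen r := h7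
    rwa [IsAffineOpen.fromSpec_primeIdealOf] at h8
  · have hW : IsAffineOpen (S.basicOpen r) := IsAffineOpen.basicOpen hU r
    have hW' : IsAffineOpen (f ⁻¹ᵁ S.basicOpen r) := hW.preimage f
    haveI : IsAffine (S.basicOpen r : Scheme.{u}) := hW
    haveI : IsAffine (f ⁻¹ᵁ S.basicOpen r : Scheme.{u}) := hW'
    apply IsClosedImmersion.of_surjective_of_isAffine
    rw [← Scheme.Hom.resLE_eq_morphismRestrict]
    apply (RingHom.surjective_respectsIso.arrow_mk_iso_iff
      (arrowResLEAppIso f (S.basicOpen r) (f ⁻¹ᵁ S.basicOpen r) le_rfl)).mpr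
    have hopen : f ⁻¹ᵁ S.basicOpen r = X.basicOpen (f.appLE U (f ⁻¹ᵁ U) le_rfl r) := by
      rw [Scheme.preimage_basicOpen, Scheme.Hom.appLE_eq_app]
    apply appLE_surjective_congr f _ _ _ hopen
    rw [IsAffineOpen.appLE_eq_away_map f hU hV le_rfl r, CommRingCat.hom_ofHom]
    letI := IsAffineOpen.isLocalization_basicOpen hU r
    letI := hV.isLocalization_basicOpen (f.appLE U (f ⁻¹ᵁ U) le_rfl r)
    rw [IsLocalization.Away.map_surjective_iff]
    intro a
    obtain ⟨b, hb⟩ := hr a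
    exact ⟨b, 1, by rw [pow_one]; exact hb⟩


theorem exists_isIso {X S : Scheme.{u}} (f : X ⟶ S) [IsFinite f] [Etale f] (x : X)
    (hx : ∀ x' : X, f x' = f x → x' = x)
    (hκ : Function.Surjective (f.residueFieldMap x)) :
    ∃ U : S.Opens, f x ∈ U ∧ IsIso (f ∣_ U) := by
  obtain ⟨U, hxU, hU⟩ := exists_isClosedImmersion f x hx hκ
  haveI : IsOpenImmersion (f ∣_ U) := IsOpenImmersion.of_flat_of_mono _
  let V : (U : Scheme.{u}).Opens := (f ∣_ U).opensRange
  refine ⟨U.ι ''ᵁ V, ?_, ?_⟩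
  · refine ⟨(f ∣_ U) ⟨x, hxU⟩, ⟨⟨x, hxU⟩, rfl⟩, ?_⟩
    exact morphismRestrict_base_coe f U ⟨x, hxU⟩
  · rw [← MorphismProperty.isomorphisms.iff,
      ← (MorphismProperty.isomorphisms Scheme).arrow_mk_iso_iff (morphismRestrictRestrict f U V),
      MorphismProperty.isomorphisms.iff, isIso_iff_isOpenImmersion_and_epi_base]
    refine ⟨inferInstance, ?_⟩
    rw [TopCat.epi_iff_surjective]
    rintro ⟨y, hy⟩
    obtain ⟨z, rfl⟩ := hy
    refine ⟨⟨z, ?_⟩, ?_⟩
    · show (f ∣_ U) z ∈ V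
      exact ⟨z, rfl⟩
    · apply Subtype.ext
      exact morphismRestrict_base_coe (f ∣_ U) V ⟨z, _⟩

end Groth.Agent.FinUnr
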