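import Mathlib
import Groth.Prelude.Def_EtBase
import Groth.Agent.Lib.EtNbhdFin7_helper4
import Groth.Agent.Lib.FinUnrB_helper8

/-!
# Geometric points and finite morphisms, part A (helper7)

Field-valued points of schemes (lifting along morphisms with finite residue field extensions,
uniqueness for purely inseparable residue field extensions), the geometric points of `U ×_Y X`
over a geometric point of `U`, for `f : X ⟶ Y` finite and `U` étale over `Y`.
-/

set_option autoImplicit false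
set_option backward.isDefEq.respectTransparency false
universe u
open CategoryTheory CategoryTheory.Limits AlgebraicGeometry Opposite

namespace Groth.Agent.Lib.EtFinGeomH7

open Groth.Agent.Lib.PurInsepH4 Groth.Agent.Lib.EtNbhdFinH4

section Fields

theorem PI_of_isPurelyInseparable {A B : Type*} [Field A] [Field B] (f : A →+* B)
    (h : letI := f.toAlgebra; IsPurelyInseparable A B) : PI f := by
  letI := f.toAlgebra
  exact fun y => (isPurelyInseparable_iff_pow_mem A (ringExpChar A)).1 h y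

theorem PI_of_comp_eq {A B C : Type*} [Field A] [Field B] [Field C] (f : A →+* C) (g : A →+* B)
    (k : B →+* C) (h : f = k.comp g) (hf : PI f) : PI k := by
  intro y
  obtain ⟨n, x, hx⟩ := hf y
  refine ⟨n, g x, ?_⟩
  rw [ringExpChar_eq_of_ringHom g, ← hx, h]
  rfl

theorem surjective_of_PI_of_isSeparable {B C : Type*} [Field B] [Field C] (k : B →+* C)
    (hk : PI k) (hs : letI := k.toAlgebra; Algebra.IsSeparable B C) : Function.Surjective k := by
  letI := k.toAlgebra
  haveI := hk.isPurelyInseparable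
  haveI : Algebra.IsSeparable B C := hs
  exact IsPurelyInseparable.surjective_algebraMap_of_isSeparable B C

end Fields

section Points

/-- A field-valued point located at `t` factors through the residue field at `t`. -/
theorem exists_eq_SpecMap {T : Scheme.{u}} {Ω : Type u} [Field Ω]
    (a : Spec (CommRingCat.of Ω) ⟶ T) (t : T) (ht : a default = t) :
    ∃ φ : T.residueField t ⟶ CommRingCat.of Ω, a = Spec.map φ ≫ T.fromSpecResidueField t := by
  have key : ∀ (t : T) (e : a (IsLocalRing.closedPoint Ω) = t),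
      ∃ φ : T.residueField t ⟶ CommRingCat.of Ω, a = Spec.map φ ≫ T.fromSpecResidueField t := by
    intro t e
    subst e
    exact ⟨_, (Scheme.descResidueField_stalkClosedPointTo_fromSpecResidueField Ω T a).symm⟩
  apply key t
  have h0 : (IsLocalRing.closedPoint Ω : ↥(Spec (CommRingCat.of Ω))) =
      (default : ↥(Spec (CommRingCat.of Ω))) := Subsingleton.elim _ _
  exact (congrArg (fun z => a z) h0).trans ht

/-- Lifting a geometric point along a morphism with finite residue field extension. -/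
theorem exists_lift_of_finite {P U : Scheme.{u}} (g : P ⟶ U) {Ω : Type u} [Field Ω]
    [IsAlgClosed Ω] (u : Spec (CommRingCat.of Ω) ⟶ U) (p : P) (hp : u default = g p)
    (hfin : (g.residueFieldMap p).hom.Finite) :
    ∃ l : Spec (CommRingCat.of Ω) ⟶ P, l ≫ g = u ∧ l default = p := by
  obtain ⟨φ, rfl⟩ := exists_eq_SpecMap u (g p) hp
  letI alg1 : Algebra (U.residueField (g p)) (P.residueField p) :=
    (g.residueFieldMap p).hom.toAlgebra
  letI alg2 : Algebra (U.residueField (g p)) Ω := φ.hom.toAlgebra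
  haveI : Module.Finite (U.residueField (g p)) (P.residueField p) := hfin
  haveI : Algebra.IsAlgebraic (U.residueField (g p)) (P.residueField p) :=
    Algebra.IsAlgebraic.of_finite _ _
  let b : P.residueField p →ₐ[U.residueField (g p)] Ω := IsAlgClosed.lift
  have hb : g.residueFieldMap p ≫ CommRingCat.ofHom b.toRingHom = φ := by
    ext1
    exact b.comp_algebraMap
  refine ⟨Spec.map (CommRingCat.ofHom b.toRingHom) ≫ P.fromSpecResidueField p, ?_,
    (Scheme.Hom.comp_apply _ _ _).trans (Scheme.fromSpecResidueField_apply _ _)⟩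
  rw [Category.assoc, ← Scheme.Hom.SpecMap_residueFieldMap_fromSpecResidueField,
    ← Spec.map_comp_assoc, hb]

/-- Two field-valued points at the same point `t`, with the same image under `g`, agree when the
residue field extension of `g` at `t` is purely inseparable. -/
theorem eq_of_PI {T U : Scheme.{u}} (g : T ⟶ U) (t : T) (hPI : PI (g.residueFieldMap t).hom)
    {Ω : Type u} [Field Ω] (a a' : Spec (CommRingCat.of Ω) ⟶ T) (ha : a default = t)
    (ha' : a' default = t) (h : a ≫ g = a' ≫ g) : a = a' := by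
  obtain ⟨φ, rfl⟩ := exists_eq_SpecMap a t ha
  obtain ⟨φ', rfl⟩ := exists_eq_SpecMap a' t ha'
  have key : ∀ ψ : T.residueField t ⟶ CommRingCat.of Ω,
      (Spec.map ψ ≫ T.fromSpecResidueField t) ≫ g =
        Spec.map (g.residueFieldMap t ≫ ψ) ≫ U.fromSpecResidueField (g t) := by
    intro ψ
    rw [Category.assoc, ← Scheme.Hom.SpecMap_residueFieldMap_fromSpecResidueField,
      ← Spec.map_comp_assoc]
  rw [key φ, key φ'] at h
  have h2 : g.residueFieldMap t ≫ φ = g.residueFieldMap t ≫ φ' :=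
    Spec.map_injective ((cancel_mono (U.fromSpecResidueField (g t))).1 h)
  have h3 : φ.hom = φ'.hom := by
    letI : Algebra (U.residueField (g t)) (T.residueField t) :=
      (g.residueFieldMap t).hom.toAlgebra
    haveI := hPI.isPurelyInseparable
    apply IsPurelyInseparable.injective_comp_algebraMap (U.residueField (g t))
      (T.residueField t) Ω
    exact congrArg (fun m => m.hom) h2
  have h4 : φ = φ' := CommRingCat.hom_ext h3
  rw [h4]

/-- An unramified morphism of schemes is locally quasi-finite. -/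
theorem locallyQuasiFinite_of_unramified {A B : Scheme.{u}} (g : A ⟶ B) [LocallyOfFiniteType g]
    [FormallyUnramified g] : LocallyQuasiFinite g := by
  constructor
  intro U hU V hV e
  have h1 := LocallyOfFiniteType.finiteType_appLE (f := g) hU hV e
  have h2 := FormallyUnramified.formallyUnramified_appLE (f := g) hU hV e
  algebraize [(g.appLE U V e).hom]
  have : Algebra.EssFiniteType Γ(B, U) Γ(A, V) := inferInstance
  show Algebra.QuasiFinite _ _
  infer_instance

/-- A section over `N` of a morphism which is an isomorphism over `N`, with uniqueness. -/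
theorem section_of_isIso_restrict {T P : Scheme.{u}} (q : T ⟶ P) (N : P.Opens)
    [IsIso (q ∣_ N)] :
    ∃ r : N.toScheme ⟶ T, r ≫ q = N.ι ∧
      ∀ {W : Scheme.{u}} (b : W ⟶ T) (c : W ⟶ N.toScheme), b ≫ q = c ≫ N.ι → b = c ≫ r := by
  refine ⟨inv (q ∣_ N) ≫ (q ⁻¹ᵁ N).ι, ?_, ?_⟩
  · rw [Category.assoc, ← morphismRestrict_ι, IsIso.inv_hom_id_assoc]
  · intro W b c hbc
    have hrange : Set.range b ⊆ Set.range (q ⁻¹ᵁ N).ι := by
      rintro _ ⟨w, rfl⟩
      rw [Scheme.Opens.range_ι]
      show q (b w) ∈ N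
      have h1 : q (b w) = N.ι (c w) :=
        (Scheme.Hom.comp_apply _ _ _).symm.trans
          ((congrArg (fun (m : W ⟶ P) => m w) hbc).trans (Scheme.Hom.comp_apply _ _ _))
      rw [h1]
      exact (c w).2
    obtain ⟨bN, hbN⟩ : ∃ bN : W ⟶ (q ⁻¹ᵁ N).toScheme, bN ≫ (q ⁻¹ᵁ N).ι = b :=
      ⟨IsOpenImmersion.lift (q ⁻¹ᵁ N).ι b hrange, IsOpenImmersion.lift_fac _ _ _⟩
    have h2 : bN ≫ (q ∣_ N) = c := by
      rw [← cancel_mono N.ι, Category.assoc, morphismRestrict_ι, ← Category.assoc, hbN, hbc]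
    rw [← hbN, ← h2, Category.assoc, IsIso.hom_inv_id_assoc]

end Points

section BaseChange

variable {X Y : Scheme.{u}} (f : X ⟶ Y)

/-- The first projection `U ×_Y X ⟶ U`. -/
noncomputable abbrev pr₁ (U : Y.Etale) : ((EtCoh.bc f).obj U).left ⟶ U.left :=
  pullback.fst U.hom f

theorem pr₁_hom (U : Y.Etale) : pr₁ f U ≫ U.hom = ((EtCoh.bc f).obj U).hom ≫ f :=
  pullback.condition

theorem map_pr₁ {U U' : Y.Etale} (t : U' ⟶ U) :
    ((EtCoh.bc f).map t).left ≫ pr₁ f U = pr₁ f U' ≫ t.left :=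
  (EtCoh.isPullback_bc_map f t).w

theorem map_hom {U U' : Y.Etale} (t : U' ⟶ U) :
    ((EtCoh.bc f).map t).left ≫ ((EtCoh.bc f).obj U).hom = ((EtCoh.bc f).obj U').hom :=
  MorphismProperty.Over.w ((EtCoh.bc f).map t)

theorem bc_hom_ext {W : Scheme.{u}} (U : Y.Etale) {a b : W ⟶ ((EtCoh.bc f).obj U).left}
    (h1 : a ≫ pr₁ f U = b ≫ pr₁ f U)
    (h2 : a ≫ ((EtCoh.bc f).obj U).hom = b ≫ ((EtCoh.bc f).obj U).hom) : a = b :=
  pullback.hom_ext h1 h2

instance isFinite_pr₁ [IsFinite f] (U : Y.Etale) : IsFinite (pr₁ f U) :=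
  inferInstanceAs (IsFinite (pullback.fst U.hom f))

variable {Ω : Type u} [Field Ω] [IsAlgClosed Ω]

/-- The morphism `Spec Ω ⟶ U` underlying an element of the fibre of a geometric point. -/
noncomputable abbrev ptLeft {S : Scheme.{u}} {η : Spec (CommRingCat.of Ω) ⟶ S} {U : S.Etale}
    (u : (Scheme.pointSmallEtale η).fiber.obj U) : Spec (CommRingCat.of Ω) ⟶ U.left := u.left

theorem ptLeft_hom {S : Scheme.{u}} {η : Spec (CommRingCat.of Ω) ⟶ S} {U : S.Etale}
    (u : (Scheme.pointSmallEtale η).fiber.obj U) : ptLeft u ≫ U.hom = η := Over.w u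

/-- The geometric point `(u, ξ)` of `U ×_Y X`. -/
noncomputable def liftPt {η : Spec (CommRingCat.of Ω) ⟶ Y} (ξ : Spec (CommRingCat.of Ω) ⟶ X)
    (hξ : ξ ≫ f = η) (U : Y.Etale) (u : (Scheme.pointSmallEtale η).fiber.obj U) :
    (Scheme.pointSmallEtale ξ).fiber.obj ((EtCoh.bc f).obj U) :=
  Over.homMk (pullback.lift u.left ξ ((Over.w u).trans hξ.symm) :
    Spec (CommRingCat.of Ω) ⟶ ((EtCoh.bc f).obj U).left) (pullback.lift_snd _ _ _)

theorem ptLeft_map {S : Scheme.{u}} {η : Spec (CommRingCat.of Ω) ⟶ S} {U U' : S.Etale}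
    (t : U' ⟶ U) (u' : (Scheme.pointSmallEtale η).fiber.obj U') :
    ptLeft ((Scheme.pointSmallEtale η).fiber.map t u') = ptLeft u' ≫ t.left := rfl

theorem ptLeft_ext {S : Scheme.{u}} {η : Spec (CommRingCat.of Ω) ⟶ S} {U : S.Etale}
    {u u' : (Scheme.pointSmallEtale η).fiber.obj U} (h : ptLeft u = ptLeft u') : u = u' :=
  Over.OverMorphism.ext h

theorem liftPt_pr₁ {η : Spec (CommRingCat.of Ω) ⟶ Y} (ξ : Spec (CommRingCat.of Ω) ⟶ X)
    (hξ : ξ ≫ f = η) (U : Y.Etale) (u : (Scheme.pointSmallEtale η).fiber.obj U) :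
    ptLeft (liftPt f ξ hξ U u) ≫ pr₁ f U = ptLeft u :=
  pullback.lift_fst _ _ _

theorem liftPt_hom {η : Spec (CommRingCat.of Ω) ⟶ Y} (ξ : Spec (CommRingCat.of Ω) ⟶ X)
    (hξ : ξ ≫ f = η) (U : Y.Etale) (u : (Scheme.pointSmallEtale η).fiber.obj U) :
    ptLeft (liftPt f ξ hξ U u) ≫ ((EtCoh.bc f).obj U).hom = ξ :=
  pullback.lift_snd _ _ _

theorem liftPt_map {η : Spec (CommRingCat.of Ω) ⟶ Y} (ξ : Spec (CommRingCat.of Ω) ⟶ X)
    (hξ : ξ ≫ f = η) {U U' : Y.Etale} (t : U' ⟶ U)
    (u' : (Scheme.pointSmallEtale η).fiber.obj U') :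
    (Scheme.pointSmallEtale ξ).fiber.map ((EtCoh.bc f).map t) (liftPt f ξ hξ U' u') =
      liftPt f ξ hξ U ((Scheme.pointSmallEtale η).fiber.map t u') := by
  apply ptLeft_ext
  apply bc_hom_ext f U
  · rw [ptLeft_map, Category.assoc, map_pr₁, ← Category.assoc, liftPt_pr₁, liftPt_pr₁,
      ptLeft_map]
  · rw [ptLeft_map, Category.assoc, map_hom, liftPt_hom, liftPt_hom]

/-- Every point of `U ×_Y X` over the image of `u` is the image of a geometric point `(u, ξ)`. -/
theorem exists_point_over [IsFinite f] {η : Spec (CommRingCat.of Ω) ⟶ Y} (U : Y.Etale)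
    (u : (Scheme.pointSmallEtale η).fiber.obj U) (p : ((EtCoh.bc f).obj U).left)
    (hp : pr₁ f U p = ptLeft u default) :
    ∃ (ξ : Spec (CommRingCat.of Ω) ⟶ X) (hξ : ξ ≫ f = η),
      ptLeft (liftPt f ξ hξ U u) default = p := by
  have hq : (pr₁ f U).QuasiFiniteAt p := Scheme.Hom.quasiFiniteAt (pr₁ f U) p
  obtain ⟨l, hl1, hl2⟩ := exists_lift_of_finite (pr₁ f U) (ptLeft u) p hp.symm
    (finite_residueFieldMap _ p hq)
  have hξ : (l ≫ ((EtCoh.bc f).obj U).hom) ≫ f = η := by
    rw [Category.assoc, ← pr₁_hom, ← Category.assoc, hl1]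
    exact Over.w u
  refine ⟨l ≫ ((EtCoh.bc f).obj U).hom, hξ, ?_⟩
  have h3 : ptLeft (liftPt f _ hξ U u) = l := by
    apply bc_hom_ext f U
    · rw [liftPt_pr₁, hl1]
    · rw [liftPt_hom]
  rw [h3]
  exact hl2

/-- Shrinking `U` so that `U' ×_Y X` lands in a given open neighbourhood of the fibre over `u`. -/
theorem exists_shrink [IsFinite f] {η : Spec (CommRingCat.of Ω) ⟶ Y} (U : Y.Etale)
    (u : (Scheme.pointSmallEtale η).fiber.obj U) (W : ((EtCoh.bc f).obj U).left.Opens)
    (hW : ∀ p : ((EtCoh.bc f).obj U).left, pr₁ f U p = ptLeft u default → p ∈ W) :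
    ∃ (U' : Y.Etale) (t : U' ⟶ U) (u' : (Scheme.pointSmallEtale η).fiber.obj U'),
      (Scheme.pointSmallEtale η).fiber.map t u' = u ∧
      Set.range ((EtCoh.bc f).map t).left ⊆ (W : Set ((EtCoh.bc f).obj U).left) := by
  have hcl : IsClosed ((pr₁ f U) '' (W : Set ((EtCoh.bc f).obj U).left)ᶜ) :=
    (pr₁ f U).isClosedMap _ W.isOpen.isClosed_compl
  let O' : U.left.Opens := ⟨((pr₁ f U) '' (W : Set ((EtCoh.bc f).obj U).left)ᶜ)ᶜ,
    hcl.isOpen_compl⟩
  haveI : Etale (O'.ι ≫ U.hom) := inferInstance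
  let U' : Y.Etale := Scheme.Etale.mk (O'.ι ≫ U.hom)
  let t : U' ⟶ U := MorphismProperty.Over.homMk O'.ι rfl trivial
  obtain ⟨ul, hul⟩ : ∃ ul : Spec (CommRingCat.of Ω) ⟶ U.left, ul = u.left := ⟨_, rfl⟩
  have hrange : Set.range ul ⊆ Set.range O'.ι := by
    rintro _ ⟨a, rfl⟩
    rw [Subsingleton.elim a default, Scheme.Opens.range_ι]
    rintro ⟨y, hy, hy'⟩
    exact hy (hW y (hy'.trans (by rw [hul])))
  have hw : IsOpenImmersion.lift O'.ι ul hrange ≫ (O'.ι ≫ U.hom) = η := by
    rw [← Category.assoc, IsOpenImmersion.lift_fac, hul]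
    exact Over.w u
  refine ⟨U', t, Over.homMk (IsOpenImmersion.lift O'.ι ul hrange) hw, ?_, ?_⟩
  · apply Over.OverMorphism.ext
    exact (IsOpenImmersion.lift_fac _ _ _).trans hul
  · rintro _ ⟨y, rfl⟩
    by_contra hy
    have h1 : pr₁ f U (((EtCoh.bc f).map t).left y) = O'.ι (pr₁ f U' y) :=
      (Scheme.Hom.comp_apply _ _ _).symm.trans
        ((congrArg (fun (m : ((EtCoh.bc f).obj U').left ⟶ U.left) => m y) (map_pr₁ f t)).trans
          (Scheme.Hom.comp_apply _ _ _))
    have h2 : O'.ι (pr₁ f U' y) ∈ Set.range O'.ι := ⟨_, rfl⟩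
    rw [Scheme.Opens.range_ι, ← h1] at h2
    exact h2 ⟨_, hy, rfl⟩

end BaseChange

end Groth.Agent.Lib.EtFinGeomH7
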