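import Mathlib
import Groth.Prelude.Def_EtBase
import Groth.Agent.Lib.EtFinGeomB_helper7
import Groth.Agent.Lib.EtSchExact_helper7

/-!
# Stalks of the direct image of an abelian étale sheaf along a finite morphism (helper7)

For `f : X ⟶ Y` finite and a geometric point `η : Spec Ω ⟶ Y` (`Ω` algebraically closed), the
maps `ψ_ξ : (f_* F)_η ⟶ F_ξ`, for the geometric points `ξ` over `η`, identify `(f_* F)_η` with the
product of the `F_ξ`.
-/

set_option autoImplicit false
set_option backward.isDefEq.respectTransparency false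
set_option linter.style.haveILetI false
universe u
open CategoryTheory CategoryTheory.Limits AlgebraicGeometry Opposite

namespace Groth.Agent.Lib.EtFinStalkH7

open Groth.Agent.Lib.EtFinGeomH7 Groth.Agent.Lib.EtSchSite_helper7
  Groth.Agent.Lib.EtSchExact_helper7

section Glue

variable {X : Scheme.{u}}

/-- An open subscheme of an étale `X`-scheme, as an object of the small étale site. -/
noncomputable abbrev subE (P : X.Etale) (V : P.left.Opens) : X.Etale :=
  Scheme.Etale.mk (V.ι ≫ P.hom)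

/-- The inclusion of an open subscheme, as a morphism of the small étale site. -/
noncomputable abbrev subι (P : X.Etale) (V : P.left.Opens) : subE P V ⟶ P :=
  MorphismProperty.Over.homMk V.ι rfl trivial

theorem mono_of_left_mono {A B : X.Etale} (g : A ⟶ B) [Mono g.left] : Mono g :=
  ⟨fun a b hab => MorphismProperty.Over.Hom.ext
    ((cancel_mono g.left).1 (congrArg (fun (m : _ ⟶ B) => m.left) hab))⟩

instance mono_subι (P : X.Etale) (V : P.left.Opens) : Mono (subι P V) :=
  haveI : Mono (subι P V).left := inferInstanceAs (Mono V.ι)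
  mono_of_left_mono _

theorem eq_zero_of_isEmpty (G : EtCoh.Ab X) (V : X.Etale) [IsEmpty V.left]
    (z : EtCoh.sect G V) : z = 0 := by
  refine Sheaf.isSeparated G V ⊥ ?_ z 0 (fun Y f hf => hf.elim)
  apply sieve_mem_of_forall_exists
  intro w
  exact isEmptyElim w

/-- the two-element family of opens -/
abbrev famO {P : X.Etale} (V Vc : P.left.Opens) (b : Bool) : P.left.Opens := cond b V Vc

/-- Gluing a section on `V` with the zero section on the complementary open `Vc`. -/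
theorem glue_clopen (F : EtCoh.Ab X) (P : X.Etale) (V Vc : P.left.Opens)
    (hcov : ∀ p : P.left, p ∈ V ∨ p ∈ Vc) (hdisj : ∀ p : P.left, p ∈ V → p ∈ Vc → False)
    (τ : F.obj.obj (op (subE P V))) :
    ∃ s : F.obj.obj (op P),
      F.obj.map (subι P V).op s = τ ∧ F.obj.map (subι P Vc).op s = 0 := by
  have hcovmem : Sieve.ofArrows (fun b => subE P (famO V Vc b))
      (fun b => subι P (famO V Vc b)) ∈ X.smallEtaleTopology P := by
    apply sieve_mem_of_forall_exists
    intro p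
    rcases hcov p with hp | hp
    · refine ⟨subE P V, subι P V,
        Sieve.ofArrows_mk (fun b => subE P (famO V Vc b)) (fun b => subι P (famO V Vc b)) true, ?_⟩
      show p ∈ Set.range V.ι
      rw [Scheme.Opens.range_ι]
      exact hp
    · refine ⟨subE P Vc, subι P Vc,
        Sieve.ofArrows_mk (fun b => subE P (famO V Vc b)) (fun b => subι P (famO V Vc b)) false,
        ?_⟩
      show p ∈ Set.range Vc.ι
      rw [Scheme.Opens.range_ι]
      exact hp
  have hQ : Presieve.IsSheaf X.smallEtaleTopology (F.obj ⋙ forget AddCommGrpCat.{u + 1}) :=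
    (isSheaf_iff_isSheaf_of_type _ _).1
      ((Presheaf.isSheaf_iff_isSheaf_forget _ F.obj (forget AddCommGrpCat.{u + 1})).1 F.2)
  have hsh : Presieve.IsSheafFor (F.obj ⋙ forget AddCommGrpCat.{u + 1})
      (Presieve.ofArrows (fun b => subE P (famO V Vc b)) (fun b => subι P (famO V Vc b))) :=
    (Presieve.isSheafFor_iff_generate _).2 (hQ _ hcovmem)
  rw [Presieve.isSheafFor_arrows_iff] at hsh
  have hempty : ∀ (Z : X.Etale) (gi : Z ⟶ subE P V) (gj : Z ⟶ subE P Vc),
      gi ≫ subι P V = gj ≫ subι P Vc → IsEmpty Z.left := by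
    intro Z gi gj hij
    refine ⟨fun z => ?_⟩
    have h1 : V.ι (gi.left z) = Vc.ι (gj.left z) :=
      congrArg (fun (m : Z ⟶ P) => m.left z) hij
    have h2 : V.ι (gi.left z) ∈ Vc := by
      rw [h1]
      exact (gj.left z).2
    exact hdisj (V.ι (gi.left z)) (gi.left z).2 h2
  obtain ⟨r, hr, -⟩ := hsh
    (fun b => match b with
      | true => τ
      | false => 0) (by
    rintro (_ | _) (_ | _) Z gi gj hij
    · have : gi = gj := (cancel_mono (subι P Vc)).1 hij
      rw [this]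
    · haveI := hempty Z gj gi hij.symm
      exact (eq_zero_of_isEmpty F Z _).trans (eq_zero_of_isEmpty F Z _).symm
    · haveI := hempty Z gi gj hij
      exact (eq_zero_of_isEmpty F Z _).trans (eq_zero_of_isEmpty F Z _).symm
    · have : gi = gj := (cancel_mono (subι P V)).1 hij
      rw [this])
  exact ⟨r, hr true, hr false⟩

end Glue

variable {X Y : Scheme.{u}} (f : X ⟶ Y) {Ω : Type u} [Field Ω] [IsAlgClosed Ω]

section Psi

variable (F : EtCoh.Ab X) {η : Spec (CommRingCat.of Ω) ⟶ Y}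

/-- The map `(f_* F)_η ⟶ F_ξ` for a geometric point `ξ` over `η`. -/
noncomputable def psi (ξ : Spec (CommRingCat.of Ω) ⟶ X) (hξ : ξ ≫ f = η) :
    (Scheme.pointSmallEtale η).presheafFiber.obj ((EtCoh.push f).obj F).obj ⟶
      (Scheme.pointSmallEtale ξ).presheafFiber.obj F.obj :=
  (Scheme.pointSmallEtale η).presheafFiberDesc (P := ((EtCoh.push f).obj F).obj)
    (fun U u => (Scheme.pointSmallEtale ξ).toPresheafFiber ((EtCoh.bc f).obj U)
      (liftPt f ξ hξ U u) F.obj)
    (by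
      intro U' U t u'
      rw [← liftPt_map]
      exact (Scheme.pointSmallEtale ξ).toPresheafFiber_w ((EtCoh.bc f).map t)
        (liftPt f ξ hξ U' u') F.obj)

theorem germ_psi (ξ : Spec (CommRingCat.of Ω) ⟶ X) (hξ : ξ ≫ f = η) (U : Y.Etale)
    (u : (Scheme.pointSmallEtale η).fiber.obj U) :
    (Scheme.pointSmallEtale η).toPresheafFiber U u ((EtCoh.push f).obj F).obj ≫ psi f F ξ hξ =
      (Scheme.pointSmallEtale ξ).toPresheafFiber ((EtCoh.bc f).obj U)
        (liftPt f ξ hξ U u) F.obj :=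
  (Scheme.pointSmallEtale η).toPresheafFiber_presheafFiberDesc _ _ U u

theorem psi_germ (ξ : Spec (CommRingCat.of Ω) ⟶ X) (hξ : ξ ≫ f = η) (U : Y.Etale)
    (u : (Scheme.pointSmallEtale η).fiber.obj U)
    (s : ToType (F.obj.obj (op ((EtCoh.bc f).obj U)))) :
    psi f F ξ hξ ((Scheme.pointSmallEtale η).toPresheafFiber U u
      ((EtCoh.push f).obj F).obj s) =
      (Scheme.pointSmallEtale ξ).toPresheafFiber ((EtCoh.bc f).obj U)
        (liftPt f ξ hξ U u) F.obj s :=
  (ConcreteCategory.comp_apply _ _ _).symm.trans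
    (congrArg (fun m => (ConcreteCategory.hom m) s) (germ_psi f F ξ hξ U u))

theorem psi_naturality {F G : EtCoh.Ab X} (a : F ⟶ G) (ξ : Spec (CommRingCat.of Ω) ⟶ X)
    (hξ : ξ ≫ f = η) :
    psi f F ξ hξ ≫ (Scheme.pointSmallEtale ξ).presheafFiber.map a.hom =
      (Scheme.pointSmallEtale η).presheafFiber.map ((EtCoh.push f).map a).hom ≫
        psi f G ξ hξ := by
  apply (Scheme.pointSmallEtale η).presheafFiber_hom_ext
  intro U u
  have h1 : (Scheme.pointSmallEtale η).toPresheafFiber U u ((EtCoh.push f).obj F).obj ≫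
      (Scheme.pointSmallEtale η).presheafFiber.map ((EtCoh.push f).map a).hom =
      ((EtCoh.push f).map a).hom.app (op U) ≫
        (Scheme.pointSmallEtale η).toPresheafFiber U u ((EtCoh.push f).obj G).obj :=
    (Scheme.pointSmallEtale η).toPresheafFiber_naturality ((EtCoh.push f).map a).hom U u
  have h2 : (Scheme.pointSmallEtale ξ).toPresheafFiber ((EtCoh.bc f).obj U)
      (liftPt f ξ hξ U u) F.obj ≫ (Scheme.pointSmallEtale ξ).presheafFiber.map a.hom =
      a.hom.app (op ((EtCoh.bc f).obj U)) ≫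
        (Scheme.pointSmallEtale ξ).toPresheafFiber ((EtCoh.bc f).obj U)
          (liftPt f ξ hξ U u) G.obj :=
    (Scheme.pointSmallEtale ξ).toPresheafFiber_naturality a.hom _ _
  rw [← Category.assoc, germ_psi, h2, ← Category.assoc, h1, Category.assoc, germ_psi]
  rfl

end Psi

section Inj

variable [IsFinite f] (F : EtCoh.Ab X) {η : Spec (CommRingCat.of Ω) ⟶ Y}

theorem eq_zero_of_psi_eq_zero
    (x : ToType ((Scheme.pointSmallEtale η).presheafFiber.obj ((EtCoh.push f).obj F).obj))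
    (hx : ∀ (ξ : Spec (CommRingCat.of Ω) ⟶ X) (hξ : ξ ≫ f = η), psi f F ξ hξ x = 0) :
    x = 0 := by
  obtain ⟨U, u, s, rfl⟩ := (Scheme.pointSmallEtale η).toPresheafFiber_jointly_surjective x
  obtain ⟨W, hW⟩ := exists_opens_vanishing F ((EtCoh.bc f).obj U) s
  have hWfib : ∀ p : ((EtCoh.bc f).obj U).left, pr₁ f U p = ptLeft u default → p ∈ W := by
    intro p hp
    obtain ⟨ξ, hξ, hpξ⟩ := exists_point_over f U u p hp
    have h0 := hx ξ hξ
    rw [psi_germ] at h0
    obtain ⟨V, g, v, hv, heq⟩ := ((Scheme.pointSmallEtale ξ).toPresheafFiber_eq_iff' _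
      (liftPt f ξ hξ U u) s 0).1 (h0.trans (map_zero _).symm)
    have hs0 : F.obj.map g.op s = 0 := heq.trans (map_zero _)
    have hsub := (hW V g).1 hs0
    rw [← hpξ, ← hv]
    exact hsub ⟨ptLeft v default, rfl⟩
  obtain ⟨U', t, u', hu', hrange⟩ := exists_shrink f U u W hWfib
  have hs' : F.obj.map ((EtCoh.bc f).map t).op s = 0 := (hW _ ((EtCoh.bc f).map t)).2 hrange
  have h1 := (Scheme.pointSmallEtale η).toPresheafFiber_w_apply t u'
    ((EtCoh.push f).obj F).obj s
  rw [hu'] at h1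
  rw [← h1]
  have h2 : ((EtCoh.push f).obj F).obj.map t.op s = 0 := hs'
  rw [h2, map_zero]

end Inj

section Surj

variable [IsFinite f] (F : EtCoh.Ab X) {η : Spec (CommRingCat.of Ω) ⟶ Y}

theorem exists_psi_single (ξ₀ : Spec (CommRingCat.of Ω) ⟶ X) (hξ₀ : ξ₀ ≫ f = η)
    (t₀ : ToType ((Scheme.pointSmallEtale ξ₀).presheafFiber.obj F.obj)) :
    ∃ x : ToType ((Scheme.pointSmallEtale η).presheafFiber.obj ((EtCoh.push f).obj F).obj),
      psi f F ξ₀ hξ₀ x = t₀ ∧
      ∀ (ξ : Spec (CommRingCat.of Ω) ⟶ X) (hξ : ξ ≫ f = η), ξ ≠ ξ₀ → psi f F ξ hξ x = 0 := by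
  obtain ⟨V', v', τ, rfl⟩ := (Scheme.pointSmallEtale ξ₀).toPresheafFiber_jointly_surjective t₀
  obtain ⟨U, u, V, hVclopen, hmem, huniq, h, hh1, hh2⟩ := key f V' ξ₀ hξ₀ v'
  obtain ⟨Vc, hVc⟩ : ∃ Vc : ((EtCoh.bc f).obj U).left.Opens,
      (Vc : Set ((EtCoh.bc f).obj U).left) = (V : Set ((EtCoh.bc f).obj U).left)ᶜ :=
    ⟨⟨(V : Set ((EtCoh.bc f).obj U).left)ᶜ, hVclopen.compl.isOpen⟩, rfl⟩
  have hmemVc : ∀ p : ((EtCoh.bc f).obj U).left, p ∈ Vc ↔ p ∉ V := by
    intro p
    have : p ∈ (Vc : Set ((EtCoh.bc f).obj U).left) ↔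
        p ∈ (V : Set ((EtCoh.bc f).obj U).left)ᶜ := by rw [hVc]
    exact this
  let hE : subE ((EtCoh.bc f).obj U) V ⟶ V' := MorphismProperty.Over.homMk h hh1 trivial
  obtain ⟨s, hs1, hs2⟩ := glue_clopen F ((EtCoh.bc f).obj U) V Vc
    (fun p => (em (p ∈ V)).imp id (fun hp => (hmemVc p).2 hp))
    (fun p hp hp' => (hmemVc p).1 hp' hp) (F.obj.map hE.op τ)
  refine ⟨(Scheme.pointSmallEtale η).toPresheafFiber U u ((EtCoh.push f).obj F).obj s, ?_, ?_⟩
  · rw [psi_germ]
    have hlrange : Set.range (ptLeft (liftPt f ξ₀ hξ₀ U u)) ⊆ Set.range V.ι := by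
      rintro _ ⟨z, rfl⟩
      rw [Subsingleton.elim z default, Scheme.Opens.range_ι]
      exact hmem
    obtain ⟨l, hl⟩ : ∃ l : Spec (CommRingCat.of Ω) ⟶ V.toScheme,
        l ≫ V.ι = ptLeft (liftPt f ξ₀ hξ₀ U u) :=
      ⟨IsOpenImmersion.lift V.ι _ hlrange, IsOpenImmersion.lift_fac _ _ _⟩
    have hlw : l ≫ (V.ι ≫ ((EtCoh.bc f).obj U).hom) = ξ₀ := by
      rw [← Category.assoc, hl, liftPt_hom]
    obtain ⟨w, hw⟩ : ∃ w : (Scheme.pointSmallEtale ξ₀).fiber.obj
        (subE ((EtCoh.bc f).obj U) V), ptLeft w = l := ⟨Over.homMk l hlw, rfl⟩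
    have hw1 : (Scheme.pointSmallEtale ξ₀).fiber.map (subι ((EtCoh.bc f).obj U) V) w =
        liftPt f ξ₀ hξ₀ U u := by
      apply ptLeft_ext
      rw [ptLeft_map, hw]
      exact hl
    have hw2 : (Scheme.pointSmallEtale ξ₀).fiber.map hE w = v' := by
      apply ptLeft_ext
      rw [ptLeft_map, hw]
      exact hh2 l hl
    rw [← hw1, ← (Scheme.pointSmallEtale ξ₀).toPresheafFiber_w_apply
      (subι ((EtCoh.bc f).obj U) V) w F.obj s, hs1,
      (Scheme.pointSmallEtale ξ₀).toPresheafFiber_w_apply hE w F.obj τ, hw2]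
  · intro ξ hξ hne
    rw [psi_germ]
    have hnotV : ptLeft (liftPt f ξ hξ U u) default ∉ V := fun hV => hne (huniq ξ hξ hV)
    have hlrange : Set.range (ptLeft (liftPt f ξ hξ U u)) ⊆ Set.range Vc.ι := by
      rintro _ ⟨z, rfl⟩
      rw [Subsingleton.elim z default, Scheme.Opens.range_ι]
      exact (hmemVc _).2 hnotV
    obtain ⟨l, hl⟩ : ∃ l : Spec (CommRingCat.of Ω) ⟶ Vc.toScheme,
        l ≫ Vc.ι = ptLeft (liftPt f ξ hξ U u) :=
      ⟨IsOpenImmersion.lift Vc.ι _ hlrange, IsOpenImmersion.lift_fac _ _ _⟩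
    have hlw : l ≫ (Vc.ι ≫ ((EtCoh.bc f).obj U).hom) = ξ := by
      rw [← Category.assoc, hl, liftPt_hom]
    obtain ⟨w, hw⟩ : ∃ w : (Scheme.pointSmallEtale ξ).fiber.obj
        (subE ((EtCoh.bc f).obj U) Vc), ptLeft w = l := ⟨Over.homMk l hlw, rfl⟩
    have hw1 : (Scheme.pointSmallEtale ξ).fiber.map (subι ((EtCoh.bc f).obj U) Vc) w =
        liftPt f ξ hξ U u := by
      apply ptLeft_ext
      rw [ptLeft_map, hw]
      exact hl
    rw [← hw1, ← (Scheme.pointSmallEtale ξ).toPresheafFiber_w_apply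
      (subι ((EtCoh.bc f).obj U) Vc) w F.obj s, hs2, map_zero]

end Surj

end Groth.Agent.Lib.EtFinStalkH7
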