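import Mathlib
import Groth.Prelude.Def_EtBase
import Groth.Agent.Lib.EtFinStalk_helper7

/-!
# Stalks of the direct image along a finite morphism: the isomorphism (helper7)
-/

set_option autoImplicit false
set_option backward.isDefEq.respectTransparency false
set_option linter.style.haveILetI false
universe u
open CategoryTheory CategoryTheory.Limits AlgebraicGeometry Opposite

namespace Groth.Agent.Lib.EtFinStalkH7

open Groth.Agent.Lib.EtFinGeomH7 Groth.Agent.Lib.EtSchSite_helper7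
  Groth.Agent.Lib.EtSchExact_helper7

variable {X Y : Scheme.{u}} (f : X ⟶ Y) {Ω : Type u} [Field Ω] [IsAlgClosed Ω]

/-- There are finitely many geometric points of `X` over a geometric point of `Y`. -/
theorem finite_points [IsFinite f] (η : Spec (CommRingCat.of Ω) ⟶ Y) :
    Finite {ξ : Spec (CommRingCat.of Ω) ⟶ X // ξ ≫ f = η} := by
  haveI : IsAffine (pullback f η) := isAffine_of_isAffineHom (pullback.snd f η)
  obtain ⟨φ, hφ⟩ : ∃ φ : CommRingCat.of Ω ⟶ Γ(pullback f η, ⊤),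
      φ = (Scheme.ΓSpecIso (CommRingCat.of Ω)).inv ≫ (pullback.snd f η).appTop := ⟨_, rfl⟩
  have hfin : φ.hom.Finite := by
    rw [hφ]
    exact RingHom.Finite.comp (Scheme.Hom.finite_appTop (pullback.snd f η))
      (RingHom.Finite.of_surjective _
        (ConcreteCategory.bijective_of_isIso (Scheme.ΓSpecIso (CommRingCat.of Ω)).inv).2)
  letI : Algebra Ω Γ(pullback f η, ⊤) := φ.hom.toAlgebra
  haveI : Module.Finite Ω Γ(pullback f η, ⊤) := hfin
  have hσ : ∀ ξ : {ξ : Spec (CommRingCat.of Ω) ⟶ X // ξ ≫ f = η},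
      ∃ σ : Spec (CommRingCat.of Ω) ⟶ pullback f η,
        σ ≫ pullback.fst f η = ξ.1 ∧ σ ≫ pullback.snd f η = 𝟙 _ := fun ξ =>
    ⟨pullback.lift ξ.1 (𝟙 _) (by rw [ξ.2, Category.id_comp]), pullback.lift_fst _ _ _,
      pullback.lift_snd _ _ _⟩
  choose σ hσ1 hσ2 using hσ
  have hcomm : ∀ ξ, φ ≫ (σ ξ).appTop ≫ (Scheme.ΓSpecIso (CommRingCat.of Ω)).hom = 𝟙 _ := by
    intro ξ
    have h1 : (pullback.snd f η).appTop ≫ (σ ξ).appTop = 𝟙 _ := by
      rw [← Scheme.Hom.comp_appTop, hσ2 ξ, Scheme.Hom.id_appTop]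
    rw [hφ, Category.assoc, ← Category.assoc (pullback.snd f η).appTop, h1, Category.id_comp,
      Iso.inv_hom_id]
  let Φ : {ξ : Spec (CommRingCat.of Ω) ⟶ X // ξ ≫ f = η} → (Γ(pullback f η, ⊤) →ₐ[Ω] Ω) :=
    fun ξ =>
    { toRingHom := ((σ ξ).appTop ≫ (Scheme.ΓSpecIso (CommRingCat.of Ω)).hom).hom
      commutes' := fun r => congrArg (fun m => m.hom r) (hcomm ξ) }
  apply Finite.of_injective Φ
  intro ξ ξ' h
  have h1 : ((σ ξ).appTop ≫ (Scheme.ΓSpecIso (CommRingCat.of Ω)).hom).hom =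
      ((σ ξ').appTop ≫ (Scheme.ΓSpecIso (CommRingCat.of Ω)).hom).hom :=
    congrArg (fun m : Γ(pullback f η, ⊤) →ₐ[Ω] Ω => m.toRingHom) h
  have h2 : (σ ξ).appTop = (σ ξ').appTop := by
    rw [← cancel_mono (Scheme.ΓSpecIso (CommRingCat.of Ω)).hom]
    exact CommRingCat.hom_ext h1
  have h3 : σ ξ = σ ξ' := ext_of_isAffine h2
  apply Subtype.ext
  rw [← hσ1 ξ, ← hσ1 ξ', h3]

section Iso

variable [IsFinite f] (F : EtCoh.Ab X) (η : Spec (CommRingCat.of Ω) ⟶ Y)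

/-- The joint map `(f_* F)_η → ∏_ξ F_ξ` as an additive map. -/
noncomputable def psiPi :
    ((Scheme.pointSmallEtale η).presheafFiber.obj ((EtCoh.push f).obj F).obj :
        AddCommGrpCat.{u + 1}) →+
      (∀ ξ : {ξ : Spec (CommRingCat.of Ω) ⟶ X // ξ ≫ f = η},
        ((Scheme.pointSmallEtale ξ.1).presheafFiber.obj F.obj : AddCommGrpCat.{u + 1})) :=
  AddMonoidHom.pi (fun ξ => (psi f F ξ.1 ξ.2).hom)

theorem psiPi_apply (x : ToType ((Scheme.pointSmallEtale η).presheafFiber.obj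
    ((EtCoh.push f).obj F).obj)) (ξ : {ξ : Spec (CommRingCat.of Ω) ⟶ X // ξ ≫ f = η}) :
    psiPi f F η x ξ = psi f F ξ.1 ξ.2 x := rfl

theorem psiPi_bijective : Function.Bijective (psiPi f F η) := by
  constructor
  · rw [injective_iff_map_eq_zero]
    intro x hx
    apply eq_zero_of_psi_eq_zero f F x
    intro ξ hξ
    exact congrFun hx ⟨ξ, hξ⟩
  · intro y
    haveI := finite_points f η
    letI := Fintype.ofFinite {ξ : Spec (CommRingCat.of Ω) ⟶ X // ξ ≫ f = η}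
    have hex : ∀ ξ : {ξ : Spec (CommRingCat.of Ω) ⟶ X // ξ ≫ f = η},
        ∃ x : ToType ((Scheme.pointSmallEtale η).presheafFiber.obj
          ((EtCoh.push f).obj F).obj),
          psi f F ξ.1 ξ.2 x = y ξ ∧
          ∀ (ξ' : Spec (CommRingCat.of Ω) ⟶ X) (hξ' : ξ' ≫ f = η), ξ' ≠ ξ.1 →
            psi f F ξ' hξ' x = 0 := fun ξ => exists_psi_single f F ξ.1 ξ.2 (y ξ)
    choose x hx1 hx2 using hex
    refine ⟨∑ ξ, x ξ, ?_⟩
    funext ξ'
    rw [map_sum, Finset.sum_apply, Finset.sum_eq_single ξ']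
    · exact hx1 ξ'
    · intro ξ _ hne
      exact hx2 ξ ξ'.1 ξ'.2 (fun h => hne (Subtype.ext h.symm))
    · intro h
      exact (h (Finset.mem_univ _)).elim

/-- `(f_* F)_η` is the product of the `F_ξ`. -/
theorem nonempty_iso_pi :
    Nonempty ((EtCoh.stalk η).obj ((EtCoh.push f).obj F) ≅
      AddCommGrpCat.of (∀ ξ : {ξ : Spec (CommRingCat.of Ω) ⟶ X // ξ ≫ f = η},
        ((EtCoh.stalk ξ.1).obj F : AddCommGrpCat.{u + 1}))) :=
  ⟨AddEquiv.toAddCommGrpIso
    (X := (Scheme.pointSmallEtale η).presheafFiber.obj ((EtCoh.push f).obj F).obj)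
    (Y := AddCommGrpCat.of (∀ ξ : {ξ : Spec (CommRingCat.of Ω) ⟶ X // ξ ≫ f = η},
        ((Scheme.pointSmallEtale ξ.1).presheafFiber.obj F.obj : AddCommGrpCat.{u + 1})))
    (AddEquiv.ofBijective (psiPi f F η) (psiPi_bijective f F η))⟩

/-- The stalk formula for a finite direct image. -/
theorem main72 :
    Nonempty ((EtCoh.stalk η).obj ((EtCoh.push f).obj F) ≅
      ∐ fun ξ : {ξ : Spec (CommRingCat.of Ω) ⟶ X // ξ ≫ f = η} => (EtCoh.stalk ξ.1).obj F) := by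
  haveI := finite_points f η
  obtain ⟨e1⟩ := nonempty_iso_pi f F η
  let g : {ξ : Spec (CommRingCat.of Ω) ⟶ X // ξ ≫ f = η} → AddCommGrpCat.{u + 1} :=
    fun ξ => (EtCoh.stalk ξ.1).obj F
  let e2 : ∏ᶜ g ≅ AddCommGrpCat.of (∀ ξ, g ξ) :=
    (limit.isLimit _).conePointUniqueUpToIso
      (AddCommGrpCat.HasLimit.productLimitCone.{u, u + 1} g).isLimit
  exact ⟨e1 ≪≫ e2.symm ≪≫ (biproduct.isoProduct g).symm ≪≫ biproduct.isoCoproduct g⟩

end Iso

end Groth.Agent.Lib.EtFinStalkH7
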