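import Mathlib
import Groth.Prelude.Def_EtBase
import Groth.Agent.Lib.EtFinStalk2_helper7

/-!
# The direct image along a finite morphism is exact; higher direct images vanish (helper7)
-/

set_option autoImplicit false
set_option backward.isDefEq.respectTransparency false
set_option linter.style.haveILetI false
universe u
open CategoryTheory CategoryTheory.Limits AlgebraicGeometry Opposite

namespace Groth.Agent.Lib.EtFinStalkH7

open Groth.Agent.Lib.EtFinGeomH7 Groth.Agent.Lib.EtSchSite_helper7
  Groth.Agent.Lib.EtSchExact_helper7 Groth.Agent.Lib.EtSchStalk_helper7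

section Derived

variable {A B : Type*} [Category A] [Abelian A] [Category B] [Abelian B]
  [HasInjectiveResolutions A]

/-- the higher right derived functors of an exact functor vanish -/
theorem isZero_rightDerived_of_exact (F : A ⥤ B) [F.Additive] [PreservesFiniteLimits F]
    [PreservesFiniteColimits F] (X : A) (q : ℕ) : IsZero ((F.rightDerived (q + 1)).obj X) := by
  refine IsZero.of_iso ?_ ((injectiveResolution X).isoRightDerivedObj F (q + 1))
  refine (HomologicalComplex.exactAt_iff_isZero_homology _ _).1 ?_
  have h := (injectiveResolution X).cocomplex_exactAt_succ q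
  have h' : ((injectiveResolution X).cocomplex.sc (q + 1)).Exact := h
  exact h'.map F

end Derived

variable {X Y : Scheme.{u}} (f : X ⟶ Y)

instance push_pfl : PreservesFiniteLimits (EtCoh.push f) := by
  haveI : PreservesLimitsOfSize.{0, 0} (EtCoh.push f) :=
    (EtCoh.pullPushAdj f).rightAdjoint_preservesLimits
  exact PreservesLimitsOfSize.preservesFiniteLimits _

theorem push_map_surjective_on_stalk [IsFinite f] {F G : EtCoh.Ab X} (a : F ⟶ G) [Epi a]
    {Ω : Type u} [Field Ω] [IsAlgClosed Ω] (η : Spec (CommRingCat.of Ω) ⟶ Y) :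
    Function.Surjective
      ((Scheme.pointSmallEtale η).presheafFiber.map ((EtCoh.push f).map a).hom) := by
  intro b
  have hsurj : ∀ ξ : {ξ : Spec (CommRingCat.of Ω) ⟶ X // ξ ≫ f = η},
      Function.Surjective ((Scheme.pointSmallEtale ξ.1).presheafFiber.map a.hom) :=
    fun ξ => (epi_iff a).1 inferInstance Ω ξ.1
  choose c hc using fun ξ : {ξ : Spec (CommRingCat.of Ω) ⟶ X // ξ ≫ f = η} =>
    hsurj ξ (psi f G ξ.1 ξ.2 b)
  obtain ⟨x, hx⟩ := (psiPi_bijective f F η).2 c
  refine ⟨x, ?_⟩
  apply (psiPi_bijective f G η).1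
  funext ξ
  rw [psiPi_apply, psiPi_apply]
  have hnat := congrArg (fun m => (ConcreteCategory.hom m) x) (psi_naturality f a ξ.1 ξ.2)
  have h1 : psi f F ξ.1 ξ.2 x = c ξ := by rw [← psiPi_apply, hx]
  exact (ConcreteCategory.comp_apply _ _ _).symm.trans (hnat.symm.trans
    ((ConcreteCategory.comp_apply _ _ _).trans ((congrArg _ h1).trans (hc ξ))))

theorem epi_push_map [IsFinite f] {F G : EtCoh.Ab X} (a : F ⟶ G) [Epi a] :
    Epi ((EtCoh.push f).map a) := by
  haveI : Sheaf.IsLocallySurjective ((EtCoh.push f).map a) :=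
    isLocallySurjective_of_stalks ((EtCoh.push f).map a).hom
      (fun K _ _ η => push_map_surjective_on_stalk f a η)
  infer_instance

instance push_pfc [IsFinite f] : PreservesFiniteColimits (EtCoh.push f) := by
  rw [Functor.preservesFiniteColimits_iff_forall_exact_map_and_epi]
  intro S hS
  have h := (Functor.preservesFiniteLimits_iff_forall_exact_map_and_mono (EtCoh.push f)).1
    inferInstance S hS
  haveI := hS.epi_g
  exact ⟨h.1, epi_push_map f S.g⟩

/-- Higher direct images along a finite morphism vanish. -/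
theorem main71 [IsFinite f] (F : EtCoh.Ab X) (q : ℕ) (hq : 1 ≤ q) :
    IsZero ((EtCoh.Rpush f q).obj F) := by
  obtain ⟨q, rfl⟩ := Nat.exists_eq_succ_of_ne_zero (by omega : q ≠ 0)
  exact isZero_rightDerived_of_exact (EtCoh.push f) F q

end Groth.Agent.Lib.EtFinStalkH7
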