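import Mathlib
import Groth.Agent.Lib.PointComapCounit_helper7

/-!
# Stalks of a morphism out of a pullback sheaf, in terms of its mate (helper7)

For a continuous, flat, cover preserving functor `F : C ⥤ D` of sites, a point `Φ` of `D`, and a
morphism `φ : F^* M ⟶ H` with mate `φ♭ : M ⟶ F_* H`, the composite
`M_{Φ.comap F} ≅ (F^* M)_Φ ⟶ H_Φ` sends the germ of `s ∈ M(U)` at `u` to the germ of
`φ♭(s) ∈ H(F U)` at `u`.
-/

set_option autoImplicit false
set_option backward.isDefEq.respectTransparency false
universe w v
open CategoryTheory CategoryTheory.Limits Opposite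

namespace Groth.Agent.Lib.PointComapCounit_helper7

open GrothendieckTopology

variable {C D : Type*} [Category C] [Category D] {K : GrothendieckTopology D}
  (Φ : Point.{w} K) (F : C ⥤ D) [RepresentablyFlat F] {J : GrothendieckTopology C}
  (hF : CoverPreserving J K F) [InitiallySmall (F ⋙ Φ.fiber).Elements]
  (A : Type*) [Category.{v} A] [HasProducts.{w} A] [Functor.IsContinuous F J K]
  [(F.sheafPushforwardContinuous A J K).IsRightAdjoint] [HasColimitsOfSize.{w, w} A]

theorem comapIso_comp_map (M : Sheaf J A) (H : Sheaf K A)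
    (φ : (F.sheafPullback A J K).obj M ⟶ H) :
    (Φ.sheafFiberComapIso F hF A).hom.app M ≫ Φ.sheafFiber.map φ =
      (Φ.comap F hF).sheafFiber.map ((F.sheafAdjunctionContinuous A J K).homEquiv M H φ) ≫
        comparison Φ F hF A H := by
  have h1 : φ = (F.sheafPullback A J K).map ((F.sheafAdjunctionContinuous A J K).homEquiv M H φ) ≫
      (F.sheafAdjunctionContinuous A J K).counit.app H := by
    have h := (F.sheafAdjunctionContinuous A J K).homEquiv_counit (X := M) (Y := H)
      (g := (F.sheafAdjunctionContinuous A J K).homEquiv M H φ)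
    rw [Equiv.symm_apply_apply] at h
    exact h
  have h2 := (Φ.sheafFiberComapIso F hF A).hom.naturality
    ((F.sheafAdjunctionContinuous A J K).homEquiv M H φ)
  have h3 : Φ.sheafFiber.map φ = Φ.sheafFiber.map ((F.sheafPullback A J K).map
      ((F.sheafAdjunctionContinuous A J K).homEquiv M H φ)) ≫
      Φ.sheafFiber.map ((F.sheafAdjunctionContinuous A J K).counit.app H) := by
    rw [← Functor.map_comp, ← h1]
  rw [h3, comparison, ← Category.assoc, ← Category.assoc]
  exact congrArg (fun m => m ≫ Φ.sheafFiber.map
    ((F.sheafAdjunctionContinuous A J K).counit.app H)) h2.symm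

section Concrete

variable {FC : A → A → Type*} {CC : A → Type*} [∀ (X Y : A), FunLike (FC X Y) (CC X) (CC Y)]
  [ConcreteCategory A FC]

theorem comapIso_map_germ (M : Sheaf J A) (H : Sheaf K A)
    (φ : (F.sheafPullback A J K).obj M ⟶ H) (U : C) (u : Φ.fiber.obj (F.obj U))
    (s : ToType (M.obj.obj (op U))) :
    Φ.sheafFiber.map φ ((Φ.sheafFiberComapIso F hF A).hom.app M
      ((Φ.comap F hF).toPresheafFiber U u M.obj s)) =
      Φ.toPresheafFiber (F.obj U) u H.obj
        (((F.sheafAdjunctionContinuous A J K).homEquiv M H φ).hom.app (op U) s) := by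
  have h1 := congrArg (fun m => (ConcreteCategory.hom m)
    ((Φ.comap F hF).toPresheafFiber U u M.obj s)) (comapIso_comp_map Φ F hF A M H φ)
  have h2 : (Φ.comap F hF).sheafFiber.map ((F.sheafAdjunctionContinuous A J K).homEquiv M H φ)
      ((Φ.comap F hF).toPresheafFiber U u M.obj s) =
      (Φ.comap F hF).toPresheafFiber U u ((F.sheafPushforwardContinuous A J K).obj H).obj
        (((F.sheafAdjunctionContinuous A J K).homEquiv M H φ).hom.app (op U) s) :=
    (Φ.comap F hF).toPresheafFiber_naturality_apply
      ((F.sheafAdjunctionContinuous A J K).homEquiv M H φ).hom U u s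
  have h3 := congrArg (fun m => (ConcreteCategory.hom m)
    (((F.sheafAdjunctionContinuous A J K).homEquiv M H φ).hom.app (op U) s))
    (toPresheafFiber_comparison Φ F hF A H U u)
  refine ((ConcreteCategory.comp_apply _ _ _).symm.trans h1).trans ?_
  refine (ConcreteCategory.comp_apply _ _ _).trans ?_
  refine (congrArg (fun z => (ConcreteCategory.hom (comparison Φ F hF A H)) z) h2).trans ?_
  exact (ConcreteCategory.comp_apply _ _ _).symm.trans h3

end Concrete

end Groth.Agent.Lib.PointComapCounit_helper7
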