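import Mathlib
import Groth.Prelude.Def_EtBase
import Groth.Agent.Lib.PointComapMate_helper7
import Groth.Agent.Lib.EtStalkPull_helper9
import Groth.Agent.Lib.EtFinGeomA_helper7
import Groth.Agent.Lib.EtSchExact_helper7

/-!
# Germs and the stalk of a pullback of étale sheaves (helper7)

For `g : X ⟶ Y`, a geometric point `ξ` of `X` and `φ : g^* G ⟶ H` with mate `φ♭ : G ⟶ g_* H`,
the composite `G_{g ξ} ≅ (g^* G)_ξ ⟶ H_ξ` sends the germ of `s ∈ G(U)` at `u₀` to the germ of
`φ♭(s) ∈ H(U ×_Y X)` at `(u₀, ξ)`.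
-/

set_option autoImplicit false
set_option backward.isDefEq.respectTransparency false
set_option linter.style.haveILetI false
universe u
open CategoryTheory CategoryTheory.Limits AlgebraicGeometry Opposite

namespace Groth.Agent.Lib.EtFinGeomH7

open Groth.Agent.Lib.PointComapCounit_helper7 Groth.Agent.Lib.EtSchExact_helper7

variable {X Y : Scheme.{u}} (g : X ⟶ Y) {Ω : Type u} [Field Ω] [IsAlgClosed Ω]
  (ξ : Spec (CommRingCat.of Ω) ⟶ X)

theorem homEquiv_left_fst {C : Type*} [Category C] {X Y : C} (g : X ⟶ Y) [HasPullbacksAlong g]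
    (x : Over X) (y : Over Y) (u : (Over.map g).obj x ⟶ y) :
    ((Over.mapPullbackAdj g).homEquiv x y u).left ≫ pullback.fst y.hom g = u.left := by
  simp only [Over.mapPullbackAdj, Adjunction.mkOfHomEquiv_homEquiv]
  exact pullback.lift_fst _ _ _

theorem homEquiv_left_snd {C : Type*} [Category C] {X Y : C} (g : X ⟶ Y) [HasPullbacksAlong g]
    (x : Over X) (y : Over Y) (u : (Over.map g).obj x ⟶ y) :
    ((Over.mapPullbackAdj g).homEquiv x y u).left ≫ pullback.snd y.hom g = x.hom := by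
  simp only [Over.mapPullbackAdj, Adjunction.mkOfHomEquiv_homEquiv]
  exact pullback.lift_snd _ _ _

theorem fiberIso_inv_app (U : Y.Etale) (u₀ : (Scheme.pointSmallEtale (ξ ≫ g)).fiber.obj U) :
    (EtStalkPull.fiberIso g ξ).inv.app U u₀ = liftPt g ξ rfl U u₀ := by
  apply ptLeft_ext
  apply bc_hom_ext g U
  · rw [liftPt_pr₁]
    exact homEquiv_left_fst g (Over.mk ξ) ((Scheme.Etale.forget Y).obj U) u₀
  · rw [liftPt_hom]
    exact homEquiv_left_snd g (Over.mk ξ) ((Scheme.Etale.forget Y).obj U) u₀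

theorem stalkPullIso_inv_germ (G : EtCoh.Ab Y) (H : EtCoh.Ab X)
    (φ : (EtCoh.pull g).obj G ⟶ H) (U : Y.Etale)
    (u₀ : (Scheme.pointSmallEtale (ξ ≫ g)).fiber.obj U) (s : ToType (G.obj.obj (op U))) :
    (EtCoh.stalk ξ).map φ ((EtStalkPull.stalkPullIso g ξ).inv.app G
      ((Scheme.pointSmallEtale (ξ ≫ g)).toPresheafFiber U u₀ G.obj s)) =
    (Scheme.pointSmallEtale ξ).toPresheafFiber ((EtCoh.bc g).obj U) (liftPt g ξ rfl U u₀) H.obj
      (((EtCoh.pullPushAdj g).homEquiv G H φ).hom.app (op U) s) := by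
  have e1 : (EtStalkPull.stalkPullIso g ξ).inv.app G =
      (EtStalkPull.sheafFiberIsoOfIso (EtStalkPull.pointIso g ξ)).hom.app G ≫
        ((Scheme.pointSmallEtale ξ).sheafFiberComapIso (EtCoh.bc g)
          (EtCoh.coverPreserving_bc g) AddCommGrpCat.{u + 1}).hom.app G := rfl
  have e2 : (EtStalkPull.sheafFiberIsoOfIso (EtStalkPull.pointIso g ξ)).hom.app G
      ((Scheme.pointSmallEtale (ξ ≫ g)).toPresheafFiber U u₀ G.obj s) =
      ((Scheme.pointSmallEtale ξ).comap (EtCoh.bc g)
        (EtCoh.coverPreserving_bc g)).toPresheafFiber U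
        ((EtStalkPull.fiberIso g ξ).inv.app U u₀) G.obj s := by
    have h := (Scheme.pointSmallEtale (ξ ≫ g)).toPresheafFiber_presheafFiberDesc
      (P := G.obj)
      (fun V v => ((Scheme.pointSmallEtale ξ).comap (EtCoh.bc g)
        (EtCoh.coverPreserving_bc g)).toPresheafFiber V
        ((EtStalkPull.fiberIso g ξ).inv.app V v) G.obj)
      (by
        intro V W t v
        have hn := NatTrans.naturality_apply (EtStalkPull.fiberIso g ξ).inv t v
        have hw := ((Scheme.pointSmallEtale ξ).comap (EtCoh.bc g)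
          (EtCoh.coverPreserving_bc g)).toPresheafFiber_w t
          ((EtStalkPull.fiberIso g ξ).inv.app V v) G.obj
        rw [hw]
        exact congrArg (fun z => ((Scheme.pointSmallEtale ξ).comap (EtCoh.bc g)
          (EtCoh.coverPreserving_bc g)).toPresheafFiber W z G.obj) hn.symm) U u₀
    exact (ConcreteCategory.comp_apply _ _ _).symm.trans
      (congrArg (fun m => (ConcreteCategory.hom m) s) h)
  rw [e1]
  rw [fiberIso_inv_app] at e2
  refine (congrArg (fun z => (EtCoh.stalk ξ).map φ z) (ConcreteCategory.comp_apply _ _ _)).trans ?_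
  refine (congrArg (fun z => (EtCoh.stalk ξ).map φ
    (((Scheme.pointSmallEtale ξ).sheafFiberComapIso (EtCoh.bc g)
      (EtCoh.coverPreserving_bc g) AddCommGrpCat.{u + 1}).hom.app G z)) e2).trans ?_
  have h4 := comapIso_map_germ (Scheme.pointSmallEtale ξ) (EtCoh.bc g)
    (EtCoh.coverPreserving_bc g) AddCommGrpCat.{u + 1} G H φ U
    ((EtStalkPull.fiberIso g ξ).inv.app U u₀) s
  rw [fiberIso_inv_app] at h4
  exact h4

end Groth.Agent.Lib.EtFinGeomH7
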