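import Mathlib
import Groth.Prelude.Def_PBC
import Groth.Agent.Lib.EtPullStalkGerm_helper7
import Groth.Agent.Lib.EtFinExact_helper7

/-!
# Base change for finite morphisms, part 1: the base change map on sections (helper7)
-/

set_option autoImplicit false
set_option backward.isDefEq.respectTransparency false
set_option linter.style.haveILetI false
universe u
open CategoryTheory CategoryTheory.Limits AlgebraicGeometry Opposite

namespace Groth.Agent.Lib.EtFinBCH7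

open Groth.Agent.Lib.EtFinGeomH7 Groth.Agent.Lib.EtSchSite_helper7
  Groth.Agent.Lib.EtSchExact_helper7 Groth.Agent.Lib.EtFinStalkH7

variable {X Y X' Y' : Scheme.{u}} (f : X ⟶ Y) (g : Y' ⟶ Y) (f' : X' ⟶ Y') (g' : X' ⟶ X)
  (w : g' ≫ f = f' ≫ g)

/-- `(U ×_Y X) ×_X X' ⟵ U ×_Y X'` (along `g' ≫ f`). -/
noncomputable abbrev c₁ (U : Y.Etale) :
    (EtCoh.bc (g' ≫ f)).obj U ⟶ (EtCoh.bc g').obj ((EtCoh.bc f).obj U) :=
  (MorphismProperty.Over.pullbackComp (P := EtCoh.etaleMP) (Q := ⊤) g' f).hom.app U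

/-- `U ×_Y X'` along `f' ≫ g` versus along `g' ≫ f`. -/
noncomputable abbrev c₂ (U : Y.Etale) :
    (EtCoh.bc (f' ≫ g)).obj U ⟶ (EtCoh.bc (g' ≫ f)).obj U :=
  (MorphismProperty.Over.pullbackCongr (P := EtCoh.etaleMP) (Q := ⊤) w).inv.app U

/-- `(U ×_Y Y') ×_{Y'} X' ⟶ U ×_Y X'` (along `f' ≫ g`). -/
noncomputable abbrev c₃ (U : Y.Etale) :
    (EtCoh.bc f').obj ((EtCoh.bc g).obj U) ⟶ (EtCoh.bc (f' ≫ g)).obj U :=
  (MorphismProperty.Over.pullbackComp (P := EtCoh.etaleMP) (Q := ⊤) f' g).inv.app U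

/-- The canonical isomorphism `(U ×_Y Y') ×_{Y'} X' ⟶ (U ×_Y X) ×_X X'`. -/
noncomputable def θ (U : Y.Etale) :
    (EtCoh.bc f').obj ((EtCoh.bc g).obj U) ⟶ (EtCoh.bc g').obj ((EtCoh.bc f).obj U) :=
  c₃ g f' U ≫ c₂ f g f' g' w U ≫ c₁ f g' U

theorem θ_hom (U : Y.Etale) :
    (θ f g f' g' w U).left ≫ ((EtCoh.bc g').obj ((EtCoh.bc f).obj U)).hom =
      ((EtCoh.bc f').obj ((EtCoh.bc g).obj U)).hom :=
  MorphismProperty.Over.w (θ f g f' g' w U)

theorem c₁_fst (U : Y.Etale) :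
    (c₁ f g' U).left ≫ pr₁ g' ((EtCoh.bc f).obj U) ≫ pr₁ f U = pr₁ (g' ≫ f) U :=
  MorphismProperty.Over.pullbackComp_left_fst_fst (P := EtCoh.etaleMP) (Q := ⊤) g' f U

theorem c₂_fst (U : Y.Etale) :
    (c₂ f g f' g' w U).left ≫ pr₁ (g' ≫ f) U = pr₁ (f' ≫ g) U := by
  have h1 := MorphismProperty.Over.pullbackCongr_hom_app_left_fst (P := EtCoh.etaleMP)
    (Q := ⊤) w U
  have h2 : (c₂ f g f' g' w U).left ≫
      ((MorphismProperty.Over.pullbackCongr (P := EtCoh.etaleMP) (Q := ⊤) w).hom.app U).left =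
      𝟙 _ := by
    have h3 := (MorphismProperty.Over.pullbackCongr (P := EtCoh.etaleMP)
      (Q := ⊤) w).inv_hom_id_app U
    exact congrArg (fun m => m.left) h3
  calc (c₂ f g f' g' w U).left ≫ pr₁ (g' ≫ f) U
      = (c₂ f g f' g' w U).left ≫
        ((MorphismProperty.Over.pullbackCongr (P := EtCoh.etaleMP) (Q := ⊤) w).hom.app U).left ≫
          pr₁ (f' ≫ g) U :=
        congrArg (fun m => (c₂ f g f' g' w U).left ≫ m) h1.symm
    _ = pr₁ (f' ≫ g) U := by rw [← Category.assoc, h2, Category.id_comp]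

theorem c₃_fst (U : Y.Etale) :
    (c₃ g f' U).left ≫ pr₁ (f' ≫ g) U = pr₁ f' ((EtCoh.bc g).obj U) ≫ pr₁ g U := by
  have h1 := MorphismProperty.Over.pullbackComp_left_fst_fst (P := EtCoh.etaleMP) (Q := ⊤)
    f' g U
  have h2 : (c₃ g f' U).left ≫
      ((MorphismProperty.Over.pullbackComp (P := EtCoh.etaleMP) (Q := ⊤) f' g).hom.app U).left =
      𝟙 _ := by
    have h3 := (MorphismProperty.Over.pullbackComp (P := EtCoh.etaleMP)
      (Q := ⊤) f' g).inv_hom_id_app U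
    exact congrArg (fun m => m.left) h3
  calc (c₃ g f' U).left ≫ pr₁ (f' ≫ g) U
      = (c₃ g f' U).left ≫
        ((MorphismProperty.Over.pullbackComp (P := EtCoh.etaleMP) (Q := ⊤) f' g).hom.app U).left ≫
          pr₁ f' ((EtCoh.bc g).obj U) ≫ pr₁ g U :=
        congrArg (fun m => (c₃ g f' U).left ≫ m) h1.symm
    _ = pr₁ f' ((EtCoh.bc g).obj U) ≫ pr₁ g U := by
      rw [← Category.assoc, h2, Category.id_comp]

theorem θ_fst (U : Y.Etale) :
    (θ f g f' g' w U).left ≫ pr₁ g' ((EtCoh.bc f).obj U) ≫ pr₁ f U =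
      pr₁ f' ((EtCoh.bc g).obj U) ≫ pr₁ g U := by
  have h0 : (θ f g f' g' w U).left =
      (c₃ g f' U).left ≫ (c₂ f g f' g' w U).left ≫ (c₁ f g' U).left := rfl
  rw [h0, Category.assoc, Category.assoc, c₁_fst, c₂_fst, c₃_fst]

variable (F : EtCoh.Ab X)

theorem gamma_app (U : Y.Etale) (s : ToType (F.obj.obj (op ((EtCoh.bc f).obj U)))) :
    (((EtCoh.pullPushAdj g).homEquiv ((EtCoh.push f).obj F)
      ((EtCoh.push f').obj ((EtCoh.pull g').obj F))
      (EtCoh.baseChange0 f g f' g' w F)).hom.app (op U)) s =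
    ((EtCoh.pull g').obj F).obj.map (θ f g f' g' w U).op
      (((EtCoh.pullPushAdj g').unit.app F).hom.app (op ((EtCoh.bc f).obj U)) s) := by
  have hβ : (EtCoh.pullPushAdj g).homEquiv ((EtCoh.push f).obj F)
      ((EtCoh.push f').obj ((EtCoh.pull g').obj F)) (EtCoh.baseChange0 f g f' g' w F) =
      (EtCoh.push f).map ((EtCoh.pullPushAdj g').unit.app F) ≫
        (EtCoh.pushComp f g').hom.app _ ≫ (EtCoh.pushCongr w).hom.app _ ≫
          (EtCoh.pushComp g f').inv.app _ := Equiv.apply_symm_apply _ _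
  rw [hβ]
  have h3 : ((EtCoh.pull g').obj F).obj.map (θ f g f' g' w U).op
      (((EtCoh.pullPushAdj g').unit.app F).hom.app (op ((EtCoh.bc f).obj U)) s) =
      ((EtCoh.pull g').obj F).obj.map (c₃ g f' U).op
        (((EtCoh.pull g').obj F).obj.map (c₂ f g f' g' w U).op
          (((EtCoh.pull g').obj F).obj.map (c₁ f g' U).op
            (((EtCoh.pullPushAdj g').unit.app F).hom.app (op ((EtCoh.bc f).obj U)) s))) := by
    have h0 : θ f g f' g' w U = c₃ g f' U ≫ c₂ f g f' g' w U ≫ c₁ f g' U := rfl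
    rw [h0, map_comp_apply, map_comp_apply]
  rw [h3]
  rfl

end Groth.Agent.Lib.EtFinBCH7
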