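import Mathlib
import Groth.Prelude.Def_PBC
import Groth.Agent.Lib.EtFinBC1_helper7

/-!
# Base change for finite morphisms, part 2: the base change map is an isomorphism (helper7)
-/

set_option autoImplicit false
set_option backward.isDefEq.respectTransparency false
set_option linter.style.haveILetI false
universe u
open CategoryTheory CategoryTheory.Limits AlgebraicGeometry Opposite

namespace Groth.Agent.Lib.EtFinBCH7

open Groth.Agent.Lib.EtFinGeomH7 Groth.Agent.Lib.EtSchSite_helper7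
  Groth.Agent.Lib.EtSchExact_helper7 Groth.Agent.Lib.EtFinStalkH7
  Groth.Agent.Lib.EtSchStalk_helper7

variable {X Y X' Y' : Scheme.{u}} (f : X ⟶ Y) (g : Y' ⟶ Y) (f' : X' ⟶ Y') (g' : X' ⟶ X)
  (w : g' ≫ f = f' ≫ g) {Ω : Type u} [Field Ω] [IsAlgClosed Ω] (F : EtCoh.Ab X)

theorem lift_θ (U : Y.Etale) (η' : Spec (CommRingCat.of Ω) ⟶ Y')
    (ξ' : Spec (CommRingCat.of Ω) ⟶ X') (hξ' : ξ' ≫ f' = η')
    (hρ : (ξ' ≫ g') ≫ f = η' ≫ g)
    (u₀ : (Scheme.pointSmallEtale (η' ≫ g)).fiber.obj U) :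
    (Scheme.pointSmallEtale ξ').fiber.map (θ f g f' g' w U)
      (liftPt f' ξ' hξ' ((EtCoh.bc g).obj U) (liftPt g η' rfl U u₀)) =
    liftPt g' ξ' rfl ((EtCoh.bc f).obj U) (liftPt f (ξ' ≫ g') hρ U u₀) := by
  apply ptLeft_ext
  apply bc_hom_ext g' ((EtCoh.bc f).obj U)
  · rw [liftPt_pr₁]
    apply bc_hom_ext f U
    · rw [liftPt_pr₁, ptLeft_map, Category.assoc, Category.assoc, θ_fst, ← Category.assoc,
        liftPt_pr₁, liftPt_pr₁]
    · rw [liftPt_hom, ptLeft_map, Category.assoc, Category.assoc, pr₁_hom,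
        ← Category.assoc (θ f g f' g' w U).left, θ_hom, ← Category.assoc, liftPt_hom]
  · rw [liftPt_hom, ptLeft_map, Category.assoc, θ_hom, liftPt_hom]

/-- The main compatibility between the base change map and the stalk maps `ψ`. -/
theorem mc (η' : Spec (CommRingCat.of Ω) ⟶ Y')
    (ξ' : Spec (CommRingCat.of Ω) ⟶ X') (hξ' : ξ' ≫ f' = η')
    (hρ : (ξ' ≫ g') ≫ f = η' ≫ g)
    (y : ToType ((Scheme.pointSmallEtale (η' ≫ g)).presheafFiber.obj
      ((EtCoh.push f).obj F).obj)) :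
    psi f' ((EtCoh.pull g').obj F) ξ' hξ'
      ((EtCoh.stalk η').map (EtCoh.baseChange0 f g f' g' w F)
        ((EtStalkPull.stalkPullIso g η').inv.app ((EtCoh.push f).obj F) y)) =
    (EtStalkPull.stalkPullIso g' ξ').inv.app F (psi f F (ξ' ≫ g') hρ y) := by
  obtain ⟨U, u₀, s, rfl⟩ :=
    (Scheme.pointSmallEtale (η' ≫ g)).toPresheafFiber_jointly_surjective y
  have h1 := stalkPullIso_inv_germ g η' ((EtCoh.push f).obj F)
    ((EtCoh.push f').obj ((EtCoh.pull g').obj F)) (EtCoh.baseChange0 f g f' g' w F) U u₀ s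
  have h2 := gamma_app f g f' g' w F U s
  have h3 := psi_germ f' ((EtCoh.pull g').obj F) ξ' hξ' ((EtCoh.bc g).obj U)
    (liftPt g η' rfl U u₀)
    (((EtCoh.pull g').obj F).obj.map (θ f g f' g' w U).op
      (((EtCoh.pullPushAdj g').unit.app F).hom.app (op ((EtCoh.bc f).obj U)) s))
  have h4 := (Scheme.pointSmallEtale ξ').toPresheafFiber_w_apply (θ f g f' g' w U)
    (liftPt f' ξ' hξ' ((EtCoh.bc g).obj U) (liftPt g η' rfl U u₀))
    ((EtCoh.pull g').obj F).obj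
    (((EtCoh.pullPushAdj g').unit.app F).hom.app (op ((EtCoh.bc f).obj U)) s)
  rw [lift_θ f g f' g' w U η' ξ' hξ' hρ u₀] at h4
  have h5 := psi_germ f F (ξ' ≫ g') hρ U u₀ s
  have hJ := stalkPullIso_inv_germ g' ξ' F ((EtCoh.pull g').obj F) (𝟙 _)
    ((EtCoh.bc f).obj U) (liftPt f (ξ' ≫ g') hρ U u₀) s
  rw [CategoryTheory.Functor.map_id, Adjunction.homEquiv_id] at hJ
  have hJ' : (EtStalkPull.stalkPullIso g' ξ').inv.app F
      ((Scheme.pointSmallEtale (ξ' ≫ g')).toPresheafFiber ((EtCoh.bc f).obj U)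
        (liftPt f (ξ' ≫ g') hρ U u₀) F.obj s) =
      (Scheme.pointSmallEtale ξ').toPresheafFiber
        ((EtCoh.bc g').obj ((EtCoh.bc f).obj U))
        (liftPt g' ξ' rfl ((EtCoh.bc f).obj U) (liftPt f (ξ' ≫ g') hρ U u₀))
        ((EtCoh.pull g').obj F).obj
        (((EtCoh.pullPushAdj g').unit.app F).hom.app (op ((EtCoh.bc f).obj U)) s) := hJ
  rw [h5, hJ']
  rw [h2] at h1
  exact ((congrArg (fun z => psi f' ((EtCoh.pull g').obj F) ξ' hξ' z) h1).trans h3).trans h4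

section Bij

variable [IsFinite f] (h : IsPullback g' f' f g)

include h in
theorem isFinite_of_isPullback : IsFinite f' :=
  MorphismProperty.of_isPullback (P := @IsFinite) h inferInstance

theorem bijective_stalk_map (η' : Spec (CommRingCat.of Ω) ⟶ Y') :
    Function.Bijective ((EtCoh.stalk η').map (EtCoh.baseChange0 f g f' g' h.w F)) := by
  haveI : IsFinite f' := isFinite_of_isPullback f g f' g' h
  have hiso : Function.Bijective
      ((EtStalkPull.stalkPullIso g η').inv.app ((EtCoh.push f).obj F)) :=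
    ConcreteCategory.bijective_of_isIso _
  refine (Function.Bijective.of_comp_iff _ hiso).1 ?_
  let ρ : {ξ' : Spec (CommRingCat.of Ω) ⟶ X' // ξ' ≫ f' = η'} →
      {ξ : Spec (CommRingCat.of Ω) ⟶ X // ξ ≫ f = η' ≫ g} :=
    fun ξ' => ⟨ξ'.1 ≫ g', by rw [Category.assoc, h.w, ← Category.assoc, ξ'.2]⟩
  have hρinj : Function.Injective ρ := fun a b hab =>
    Subtype.ext (h.hom_ext (congrArg Subtype.val hab) (a.2.trans b.2.symm))
  have hρsurj : Function.Surjective ρ := fun ξ =>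
    ⟨⟨h.lift ξ.1 η' ξ.2, h.lift_snd _ _ _⟩, Subtype.ext (h.lift_fst _ _ _)⟩
  have hJ : ∀ ξ' : {ξ' : Spec (CommRingCat.of Ω) ⟶ X' // ξ' ≫ f' = η'},
      Function.Bijective ((EtStalkPull.stalkPullIso g' ξ'.1).inv.app F) :=
    fun ξ' => ConcreteCategory.bijective_of_isIso _
  have hmc : ∀ (ξ' : {ξ' : Spec (CommRingCat.of Ω) ⟶ X' // ξ' ≫ f' = η'})
      (y : ToType ((Scheme.pointSmallEtale (η' ≫ g)).presheafFiber.obj
        ((EtCoh.push f).obj F).obj)),
      psiPi f' ((EtCoh.pull g').obj F) η'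
        ((EtCoh.stalk η').map (EtCoh.baseChange0 f g f' g' h.w F)
          ((EtStalkPull.stalkPullIso g η').inv.app ((EtCoh.push f).obj F) y)) ξ' =
      (EtStalkPull.stalkPullIso g' ξ'.1).inv.app F (psiPi f F (η' ≫ g) y (ρ ξ')) :=
    fun ξ' y => mc f g f' g' h.w F η' ξ'.1 ξ'.2 (ρ ξ').2 y
  constructor
  · intro y₁ y₂ hy
    apply (psiPi_bijective f F (η' ≫ g)).1
    funext ξ
    obtain ⟨ξ', rfl⟩ := hρsurj ξ
    apply (hJ ξ').1
    rw [← hmc ξ' y₁, ← hmc ξ' y₂]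
    exact congrArg (fun z => psiPi f' ((EtCoh.pull g').obj F) η' z ξ') hy
  · intro z
    choose d hd using fun ξ' : {ξ' : Spec (CommRingCat.of Ω) ⟶ X' // ξ' ≫ f' = η'} =>
      (hJ ξ').2 (psiPi f' ((EtCoh.pull g').obj F) η' z ξ')
    let e : {ξ' : Spec (CommRingCat.of Ω) ⟶ X' // ξ' ≫ f' = η'} ≃
        {ξ : Spec (CommRingCat.of Ω) ⟶ X // ξ ≫ f = η' ≫ g} :=
      Equiv.ofBijective ρ ⟨hρinj, hρsurj⟩
    let c := Equiv.piCongrLeft
      (fun ξ : {ξ : Spec (CommRingCat.of Ω) ⟶ X // ξ ≫ f = η' ≫ g} =>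
        ToType ((Scheme.pointSmallEtale ξ.1).presheafFiber.obj F.obj)) e d
    have hc : ∀ ξ', c (ρ ξ') = d ξ' := fun ξ' =>
      Equiv.piCongrLeft_apply_apply
        (fun ξ : {ξ : Spec (CommRingCat.of Ω) ⟶ X // ξ ≫ f = η' ≫ g} =>
          ToType ((Scheme.pointSmallEtale ξ.1).presheafFiber.obj F.obj)) e d ξ'
    obtain ⟨y, hy⟩ := (psiPi_bijective f F (η' ≫ g)).2 c
    refine ⟨y, ?_⟩
    apply (psiPi_bijective f' ((EtCoh.pull g').obj F) η').1
    funext ξ'
    refine (hmc ξ' y).trans ?_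
    rw [hy, hc ξ']
    exact hd ξ'

end Bij

end Groth.Agent.Lib.EtFinBCH7
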