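import Mathlib
import Groth.Prelude.Def_PBC
import Groth.Agent.Lib.EtFinBC2_helper7

/-!
# Base change for finite morphisms, part 3: cohomology commutes with base change (helper7)
-/

set_option autoImplicit false
set_option backward.isDefEq.respectTransparency false
set_option linter.style.haveILetI false
universe u
open CategoryTheory CategoryTheory.Limits AlgebraicGeometry Opposite

namespace Groth.Agent.Lib.EtFinBCH7

open Groth.Agent.Lib.EtFinGeomH7 Groth.Agent.Lib.EtSchSite_helper7
  Groth.Agent.Lib.EtSchExact_helper7 Groth.Agent.Lib.EtFinStalkH7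
  Groth.Agent.Lib.EtSchStalk_helper7

variable {X Y X' Y' : Scheme.{u}} (f : X ⟶ Y) (g : Y' ⟶ Y) (f' : X' ⟶ Y') (g' : X' ⟶ X)
  [IsFinite f] (h : IsPullback g' f' f g) (F : EtCoh.Ab X)

include h in
theorem isIso_baseChange0 : IsIso (EtCoh.baseChange0 f g f' g' h.w F) := by
  have hinj : Presheaf.IsLocallyInjective Y'.smallEtaleTopology
      (EtCoh.baseChange0 f g f' g' h.w F).hom :=
    isLocallyInjective_of_stalks _
      (fun K _ _ η' => (bijective_stalk_map f g f' g' F h η').1)
  have hsurj : Presheaf.IsLocallySurjective Y'.smallEtaleTopology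
      (EtCoh.baseChange0 f g f' g' h.w F).hom :=
    isLocallySurjective_of_stalks _
      (fun K _ _ η' => (bijective_stalk_map f g f' g' F h η').2)
  haveI : Sheaf.IsLocallyInjective (EtCoh.baseChange0 f g f' g' h.w F) := hinj
  haveI : Sheaf.IsLocallySurjective (EtCoh.baseChange0 f g f' g' h.w F) := hsurj
  haveI : Mono (EtCoh.baseChange0 f g f' g' h.w F) := Sheaf.mono_of_isLocallyInjective _
  haveI : Epi (EtCoh.baseChange0 f g f' g' h.w F) := inferInstance
  exact isIso_of_mono_of_epi _

include h in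
theorem main161 (q : ℕ) :
    Nonempty ((EtCoh.pull g).obj ((EtCoh.Rpush f q).obj F) ≅
      (EtCoh.Rpush f' q).obj ((EtCoh.pull g').obj F)) := by
  haveI : IsFinite f' := isFinite_of_isPullback f g f' g' h
  by_cases hq : q = 0
  · subst hq
    haveI := isIso_baseChange0 f g f' g' h F
    exact ⟨(EtCoh.pull g).mapIso ((EtCoh.push f).rightDerivedZeroIsoSelf.app F) ≪≫
      asIso (EtCoh.baseChange0 f g f' g' h.w F) ≪≫
      ((EtCoh.push f').rightDerivedZeroIsoSelf.app ((EtCoh.pull g').obj F)).symm⟩
  · have hq1 : 1 ≤ q := by omega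
    haveI : (EtCoh.pull g).IsLeftAdjoint := (EtCoh.pullPushAdj g).isLeftAdjoint
    exact ⟨IsZero.iso (Functor.map_isZero (EtCoh.pull g) (main71 f F q hq1))
      (main71 f' ((EtCoh.pull g').obj F) q hq1)⟩

end Groth.Agent.Lib.EtFinBCH7
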