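import Mathlib
import Groth.Prelude.Def_EtBase

/-!
# Descending an étale algebra over an integral algebra to a finite subalgebra (helper7)
-/

set_option autoImplicit false
set_option backward.isDefEq.respectTransparency false
set_option linter.style.haveILetI false
universe u
open CategoryTheory CategoryTheory.Limits AlgebraicGeometry Opposite TensorProduct

namespace Groth.Agent.Lib.EtIntH7

/-- Algebraic descent: an étale algebra over an integral `A`-algebra `B` comes from an étale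
algebra over a finite `A`-subalgebra of `B`. -/
theorem exists_finite_model (A B C : Type u) [CommRing A] [CommRing B] [CommRing C] [Algebra A B]
    [Algebra B C] [Algebra.IsIntegral A B] [Algebra.Etale B C] :
    ∃ (B₀ : Subalgebra A B) (C₀ : Type u) (_ : CommRing C₀) (_ : Algebra B₀ C₀),
      Module.Finite A B₀ ∧ Algebra.Etale B₀ C₀ ∧ Nonempty (C ≃ₐ[B] B ⊗[B₀] C₀) := by
  obtain ⟨B₀, C₀, i1, i2, hfg, hEt, he⟩ := Algebra.Etale.exists_subalgebra_fg A B C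
  refine ⟨B₀, C₀, i1, i2, ?_, hEt, he⟩
  haveI : Algebra.IsIntegral A B₀ := Algebra.IsIntegral.of_injective B₀.val Subtype.val_injective
  haveI : Algebra.FiniteType A B₀ := (Subalgebra.fg_iff_finiteType B₀).1 hfg
  exact Algebra.IsIntegral.finite

/-- The same for spectra. -/
theorem descend_Spec (A B C : Type u) [CommRing A] [CommRing B] [CommRing C] [Algebra A B]
    [Algebra B C] [Algebra.IsIntegral A B] [Algebra.Etale B C] :
    ∃ (P₀ W₀ : Scheme.{u}) (g₀ : P₀ ⟶ Spec (CommRingCat.of A))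
      (ρ : Spec (CommRingCat.of B) ⟶ P₀) (ω₀ : W₀ ⟶ P₀) (θ : Spec (CommRingCat.of C) ⟶ W₀),
      IsFinite g₀ ∧ Etale ω₀ ∧ ρ ≫ g₀ = Spec.map (CommRingCat.ofHom (algebraMap A B)) ∧
      Surjective ρ ∧
      θ ≫ ω₀ = Spec.map (CommRingCat.ofHom (algebraMap B C)) ≫ ρ ∧
      ∀ {Z : Scheme.{u}} (a : Z ⟶ W₀) (b : Z ⟶ Spec (CommRingCat.of B)), a ≫ ω₀ = b ≫ ρ →
        ∃ c : Z ⟶ Spec (CommRingCat.of C),
          c ≫ Spec.map (CommRingCat.ofHom (algebraMap B C)) = b := by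
  obtain ⟨B₀, C₀, _, _, hfin, hEt, ⟨e⟩⟩ := exists_finite_model A B C
  have hθ : ((e.symm : B ⊗[B₀] C₀ →+* C).comp
      (Algebra.TensorProduct.includeRight : C₀ →ₐ[B₀] B ⊗[B₀] C₀).toRingHom).comp
        (algebraMap B₀ C₀) = (algebraMap B C).comp (algebraMap B₀ B) := by
    ext x
    show e.symm ((Algebra.TensorProduct.includeRight : C₀ →ₐ[B₀] B ⊗[B₀] C₀)
      (algebraMap B₀ C₀ x)) = algebraMap B C (algebraMap B₀ B x)
    rw [AlgHom.commutes, IsScalarTower.algebraMap_apply B₀ B (B ⊗[B₀] C₀), AlgEquiv.commutes]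
  have he' : (e : C →+* B ⊗[B₀] C₀).comp (algebraMap B C) =
      (Algebra.TensorProduct.includeLeftRingHom : B →+* B ⊗[B₀] C₀) := by
    ext x
    show e (algebraMap B C x) = _
    rw [AlgEquiv.commutes]
    rfl
  refine ⟨Spec (CommRingCat.of B₀), Spec (CommRingCat.of C₀),
    Spec.map (CommRingCat.ofHom (algebraMap A B₀)),
    Spec.map (CommRingCat.ofHom (algebraMap B₀ B)),
    Spec.map (CommRingCat.ofHom (algebraMap B₀ C₀)),
    Spec.map (CommRingCat.ofHom ((e.symm : B ⊗[B₀] C₀ →+* C).comp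
      (Algebra.TensorProduct.includeRight : C₀ →ₐ[B₀] B ⊗[B₀] C₀).toRingHom)),
    ?_, ?_, ?_, ?_, ?_, ?_⟩
  · rw [IsFinite.SpecMap_iff]
    exact RingHom.finite_algebraMap.2 hfin
  · rw [HasRingHomProperty.Spec_iff (P := @Etale)]
    exact RingHom.etale_algebraMap.2 hEt
  · rw [← Spec.map_comp, ← CommRingCat.ofHom_comp]
    exact congrArg (fun m => Spec.map (CommRingCat.ofHom m))
      (IsScalarTower.algebraMap_eq A B₀ B).symm
  · haveI : Algebra.IsIntegral B₀ B := Algebra.IsIntegral.tower_top A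
    exact ⟨Algebra.IsIntegral.comap_surjective B₀ B⟩
  · rw [← Spec.map_comp, ← Spec.map_comp, ← CommRingCat.ofHom_comp, ← CommRingCat.ofHom_comp]
    exact congrArg (fun m => Spec.map (CommRingCat.ofHom m)) hθ
  · intro Z a b hab
    have hpb := isPullback_SpecMap_of_isPushout _ _ _ _
      (CommRingCat.isPushout_tensorProduct B₀ B C₀)
    refine ⟨hpb.lift b a hab.symm ≫ Spec.map (CommRingCat.ofHom (e : C →+* B ⊗[B₀] C₀)), ?_⟩
    rw [Category.assoc, ← Spec.map_comp, ← CommRingCat.ofHom_comp, he']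
    exact hpb.lift_fst _ _ _

/-- Descent for affine schemes. -/
theorem descend {T P W : Scheme.{u}} [IsAffine T] [IsAffine P] [IsAffine W] (g : P ⟶ T)
    [IsIntegralHom g] (ω : W ⟶ P) [Etale ω] :
    ∃ (P₀ W₀ : Scheme.{u}) (g₀ : P₀ ⟶ T) (ρ : P ⟶ P₀) (ω₀ : W₀ ⟶ P₀) (θ : W ⟶ W₀),
      IsFinite g₀ ∧ Etale ω₀ ∧ ρ ≫ g₀ = g ∧ Surjective ρ ∧ θ ≫ ω₀ = ω ≫ ρ ∧
      ∀ {Z : Scheme.{u}} (a : Z ⟶ W₀) (b : Z ⟶ P), a ≫ ω₀ = b ≫ ρ →
        ∃ c : Z ⟶ W, c ≫ ω = b := by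
  letI : Algebra Γ(T, ⊤) Γ(P, ⊤) := g.appTop.hom.toAlgebra
  letI : Algebra Γ(P, ⊤) Γ(W, ⊤) := ω.appTop.hom.toAlgebra
  haveI : Algebra.IsIntegral Γ(T, ⊤) Γ(P, ⊤) :=
    ⟨((HasAffineProperty.iff_of_isAffine (P := @IsIntegralHom)).1 ‹IsIntegralHom g›).2⟩
  haveI : Algebra.Etale Γ(P, ⊤) Γ(W, ⊤) :=
    (HasRingHomProperty.iff_of_isAffine (P := @Etale)).1 ‹Etale ω›
  obtain ⟨P₀, W₀, g₀, ρ, ω₀, θ, h1, h2, h3, h4, h5, h6⟩ :=
    descend_Spec Γ(T, ⊤) Γ(P, ⊤) Γ(W, ⊤)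
  have eg : CommRingCat.ofHom (algebraMap Γ(T, ⊤) Γ(P, ⊤)) = g.appTop := rfl
  have eω : CommRingCat.ofHom (algebraMap Γ(P, ⊤) Γ(W, ⊤)) = ω.appTop := rfl
  rw [eg] at h3
  rw [eω] at h5
  refine ⟨P₀, W₀, g₀ ≫ T.isoSpec.inv, P.isoSpec.hom ≫ ρ, ω₀, W.isoSpec.hom ≫ θ,
    inferInstance, h2, ?_, inferInstance, ?_, ?_⟩
  · rw [Category.assoc, ← Category.assoc ρ, h3, Scheme.isoSpec_inv_naturality,
      Iso.hom_inv_id_assoc]
  · rw [Category.assoc, h5, ← Category.assoc, ← Category.assoc, Scheme.isoSpec_hom_naturality]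
  · intro Z a b hab
    obtain ⟨c, hc⟩ := h6 a (b ≫ P.isoSpec.hom) (by rw [hab, Category.assoc])
    rw [eω] at hc
    refine ⟨c ≫ W.isoSpec.inv, ?_⟩
    rw [Category.assoc, ← Scheme.isoSpec_inv_naturality, ← Category.assoc, hc, Category.assoc,
      Iso.hom_inv_id, Category.comp_id]

end Groth.Agent.Lib.EtIntH7
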