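import Mathlib
import Groth.Prelude.Def_EtBase
import Groth.Agent.Lib.EtIntDescend_helper7

/-!
# Descending an étale algebra over an integral algebra to a finite subalgebra: cartesian form
(helper7)
-/

set_option autoImplicit false
set_option backward.isDefEq.respectTransparency false
set_option linter.style.haveILetI false
universe u
open CategoryTheory CategoryTheory.Limits AlgebraicGeometry Opposite TensorProduct

namespace Groth.Agent.Lib.EtIntH7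

/-- Descent for spectra, with a cartesian square. -/
theorem descend_Spec_pb (A B C : Type u) [CommRing A] [CommRing B] [CommRing C] [Algebra A B]
    [Algebra B C] [Algebra.IsIntegral A B] [Algebra.Etale B C] :
    ∃ (P₀ W₀ : Scheme.{u}) (g₀ : P₀ ⟶ Spec (CommRingCat.of A))
      (ρ : Spec (CommRingCat.of B) ⟶ P₀) (ω₀ : W₀ ⟶ P₀) (θ : Spec (CommRingCat.of C) ⟶ W₀),
      IsFinite g₀ ∧ Etale ω₀ ∧ ρ ≫ g₀ = Spec.map (CommRingCat.ofHom (algebraMap A B)) ∧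
      Surjective ρ ∧
      IsPullback θ (Spec.map (CommRingCat.ofHom (algebraMap B C))) ω₀ ρ := by
  obtain ⟨B₀, C₀, _, _, hfin, hEt, ⟨e⟩⟩ := exists_finite_model A B C
  have hθ : (e : C →+* B ⊗[B₀] C₀).comp ((e.symm : B ⊗[B₀] C₀ →+* C).comp
      (Algebra.TensorProduct.includeRight : C₀ →ₐ[B₀] B ⊗[B₀] C₀).toRingHom) =
      (Algebra.TensorProduct.includeRight : C₀ →ₐ[B₀] B ⊗[B₀] C₀).toRingHom := by
    ext x
    show e (e.symm ((Algebra.TensorProduct.includeRight : C₀ →ₐ[B₀] B ⊗[B₀] C₀) x)) = _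
    rw [AlgEquiv.apply_symm_apply]
    rfl
  have he' : (e : C →+* B ⊗[B₀] C₀).comp (algebraMap B C) =
      (Algebra.TensorProduct.includeLeftRingHom : B →+* B ⊗[B₀] C₀) := by
    ext x
    show e (algebraMap B C x) = _
    rw [AlgEquiv.commutes]
    rfl
  have hpb := isPullback_SpecMap_of_isPushout _ _ _ _
    (CommRingCat.isPushout_tensorProduct B₀ B C₀)
  refine ⟨Spec (CommRingCat.of B₀), Spec (CommRingCat.of C₀),
    Spec.map (CommRingCat.ofHom (algebraMap A B₀)),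
    Spec.map (CommRingCat.ofHom (algebraMap B₀ B)),
    Spec.map (CommRingCat.ofHom (algebraMap B₀ C₀)),
    Spec.map (CommRingCat.ofHom ((e.symm : B ⊗[B₀] C₀ →+* C).comp
      (Algebra.TensorProduct.includeRight : C₀ →ₐ[B₀] B ⊗[B₀] C₀).toRingHom)),
    ?_, ?_, ?_, ?_, ?_⟩
  · rw [IsFinite.SpecMap_iff]
    exact RingHom.finite_algebraMap.2 hfin
  · rw [HasRingHomProperty.Spec_iff (P := @Etale)]
    exact RingHom.etale_algebraMap.2 hEt
  · rw [← Spec.map_comp, ← CommRingCat.ofHom_comp]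
    exact congrArg (fun m => Spec.map (CommRingCat.ofHom m))
      (IsScalarTower.algebraMap_eq A B₀ B).symm
  · haveI : Algebra.IsIntegral B₀ B := Algebra.IsIntegral.tower_top A
    exact ⟨Algebra.IsIntegral.comap_surjective B₀ B⟩
  · refine IsPullback.of_iso hpb.flip
      (Scheme.Spec.mapIso (RingEquiv.toCommRingCatIso e.toRingEquiv).op)
      (Iso.refl _) (Iso.refl _) (Iso.refl _) ?_ ?_ ?_ ?_
    · show Spec.map _ ≫ 𝟙 _ = Spec.map (CommRingCat.ofHom (e : C →+* B ⊗[B₀] C₀)) ≫ Spec.map _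
      rw [Category.comp_id, ← Spec.map_comp, ← CommRingCat.ofHom_comp, hθ]
    · show Spec.map _ ≫ 𝟙 _ = Spec.map (CommRingCat.ofHom (e : C →+* B ⊗[B₀] C₀)) ≫ Spec.map _
      rw [Category.comp_id, ← Spec.map_comp, ← CommRingCat.ofHom_comp, he']
    · exact (Category.comp_id _).trans (Category.id_comp _).symm
    · exact (Category.comp_id _).trans (Category.id_comp _).symm

/-- Descent for affine schemes, with a cartesian square. -/
theorem descend_pb {T P W : Scheme.{u}} [IsAffine T] [IsAffine P] [IsAffine W] (g : P ⟶ T)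
    [IsIntegralHom g] (ω : W ⟶ P) [Etale ω] :
    ∃ (P₀ W₀ : Scheme.{u}) (g₀ : P₀ ⟶ T) (ρ : P ⟶ P₀) (ω₀ : W₀ ⟶ P₀) (θ : W ⟶ W₀),
      IsFinite g₀ ∧ Etale ω₀ ∧ ρ ≫ g₀ = g ∧ Surjective ρ ∧ IsPullback θ ω ω₀ ρ := by
  letI : Algebra Γ(T, ⊤) Γ(P, ⊤) := g.appTop.hom.toAlgebra
  letI : Algebra Γ(P, ⊤) Γ(W, ⊤) := ω.appTop.hom.toAlgebra
  haveI : Algebra.IsIntegral Γ(T, ⊤) Γ(P, ⊤) :=
    ⟨((HasAffineProperty.iff_of_isAffine (P := @IsIntegralHom)).1 ‹IsIntegralHom g›).2⟩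
  haveI : Algebra.Etale Γ(P, ⊤) Γ(W, ⊤) :=
    (HasRingHomProperty.iff_of_isAffine (P := @Etale)).1 ‹Etale ω›
  obtain ⟨P₀, W₀, g₀, ρ, ω₀, θ, h1, h2, h3, h4, h5⟩ :=
    descend_Spec_pb Γ(T, ⊤) Γ(P, ⊤) Γ(W, ⊤)
  have eg : CommRingCat.ofHom (algebraMap Γ(T, ⊤) Γ(P, ⊤)) = g.appTop := rfl
  have eω : CommRingCat.ofHom (algebraMap Γ(P, ⊤) Γ(W, ⊤)) = ω.appTop := rfl
  rw [eg] at h3
  rw [eω] at h5
  refine ⟨P₀, W₀, g₀ ≫ T.isoSpec.inv, P.isoSpec.hom ≫ ρ, ω₀, W.isoSpec.hom ≫ θ,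
    inferInstance, h2, ?_, inferInstance, ?_⟩
  · rw [Category.assoc, ← Category.assoc ρ, h3, Scheme.isoSpec_inv_naturality,
      Iso.hom_inv_id_assoc]
  · refine IsPullback.of_iso h5 W.isoSpec.symm (Iso.refl _) P.isoSpec.symm (Iso.refl _)
      ?_ ?_ ?_ ?_
    · show θ ≫ 𝟙 _ = W.isoSpec.inv ≫ W.isoSpec.hom ≫ θ
      rw [Category.comp_id, Iso.inv_hom_id_assoc]
    · show Spec.map ω.appTop ≫ P.isoSpec.inv = W.isoSpec.inv ≫ ω
      exact Scheme.isoSpec_inv_naturality ω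
    · exact (Category.comp_id _).trans (Category.id_comp _).symm
    · show ρ ≫ 𝟙 _ = P.isoSpec.inv ≫ P.isoSpec.hom ≫ ρ
      rw [Category.comp_id, Iso.inv_hom_id_assoc]

end Groth.Agent.Lib.EtIntH7
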