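import Mathlib
import Groth.Prelude.Def_EtBase
import Groth.Agent.Lib.EtIntDescend2_helper7
import Groth.Agent.Lib.EtFinGeomB_helper7

/-!
# The key lemma for integral morphisms (helper7)

For `f : X ⟶ Y` integral, a geometric point `ξ₀` of `X` over `η` and an étale neighbourhood `V'`
of `ξ₀`: after passing to an étale neighbourhood `U` of `η`, there is an open and closed subscheme
of `U ×_Y X` containing the point `(u, ξ₀)` which maps to `V'`.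
-/

set_option autoImplicit false
set_option backward.isDefEq.respectTransparency false
set_option linter.style.haveILetI false
universe u
open CategoryTheory CategoryTheory.Limits AlgebraicGeometry Opposite

namespace Groth.Agent.Lib.EtIntH7

open Groth.Agent.Lib.EtFinGeomH7

variable {X Y : Scheme.{u}} (f : X ⟶ Y) {Ω : Type u} [Field Ω] [IsAlgClosed Ω]

theorem int_key [IsIntegralHom f] {η : Spec (CommRingCat.of Ω) ⟶ Y} (V' : X.Etale)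
    (ξ₀ : Spec (CommRingCat.of Ω) ⟶ X) (hξ₀ : ξ₀ ≫ f = η)
    (v' : (Scheme.pointSmallEtale ξ₀).fiber.obj V') :
    ∃ (U : Y.Etale) (u : (Scheme.pointSmallEtale η).fiber.obj U)
      (V : ((EtCoh.bc f).obj U).left.Opens),
      IsClopen (V : Set ((EtCoh.bc f).obj U).left) ∧
      ptLeft (liftPt f ξ₀ hξ₀ U u) default ∈ V ∧
      ∃ h : V.toScheme ⟶ V'.left, h ≫ V'.hom = V.ι ≫ ((EtCoh.bc f).obj U).hom ∧
        ∀ l : Spec (CommRingCat.of Ω) ⟶ V.toScheme,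
          l ≫ V.ι = ptLeft (liftPt f ξ₀ hξ₀ U u) → l ≫ h = ptLeft v' := by
  haveI : Etale V'.hom := V'.prop
  -- an affine open neighbourhood of the image point
  obtain ⟨Y₁, hY₁, hηY₁, -⟩ := exists_isAffineOpen_mem_and_subset
    (x := η default) (U := (⊤ : Y.Opens)) trivial
  let U₁ : Y.Etale := Scheme.Etale.mk Y₁.ι
  haveI : IsAffine U₁.left := hY₁
  have hrange : Set.range η ⊆ Set.range Y₁.ι := by
    rintro _ ⟨a, rfl⟩
    rw [Subsingleton.elim a default, Scheme.Opens.range_ι]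
    exact hηY₁
  obtain ⟨u₁, hu₁⟩ : ∃ u₁ : (Scheme.pointSmallEtale η).fiber.obj U₁,
      ptLeft u₁ = IsOpenImmersion.lift Y₁.ι η hrange :=
    ⟨Over.homMk (IsOpenImmersion.lift Y₁.ι η hrange) (IsOpenImmersion.lift_fac _ _ _), rfl⟩
  haveI : IsIntegralHom (pr₁ f U₁) := inferInstanceAs (IsIntegralHom (pullback.fst U₁.hom f))
  haveI : IsAffine ((EtCoh.bc f).obj U₁).left := isAffine_of_isAffineHom (pr₁ f U₁)
  obtain ⟨ζ₁, hζ₁⟩ : ∃ ζ₁ : Spec (CommRingCat.of Ω) ⟶ ((EtCoh.bc f).obj U₁).left,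
      ζ₁ = ptLeft (liftPt f ξ₀ hξ₀ U₁ u₁) := ⟨_, rfl⟩
  have hζ₁pr : ζ₁ ≫ pr₁ f U₁ = ptLeft u₁ := by rw [hζ₁, liftPt_pr₁]
  have hζ₁hom : ζ₁ ≫ ((EtCoh.bc f).obj U₁).hom = ξ₀ := by rw [hζ₁, liftPt_hom]
  -- the étale neighbourhood over `U₁ ×_Y X`
  haveI : Etale ((EtCoh.bc f).obj U₁).hom := ((EtCoh.bc f).obj U₁).prop
  have hv₁c : ptLeft v' ≫ V'.hom = ζ₁ ≫ ((EtCoh.bc f).obj U₁).hom := by
    rw [ptLeft_hom, hζ₁hom]
  obtain ⟨v₁, hv₁1, hv₁2⟩ : ∃ v₁ : Spec (CommRingCat.of Ω) ⟶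
      pullback V'.hom ((EtCoh.bc f).obj U₁).hom,
      v₁ ≫ pullback.fst _ _ = ptLeft v' ∧ v₁ ≫ pullback.snd _ _ = ζ₁ :=
    ⟨pullback.lift (ptLeft v') ζ₁ hv₁c, pullback.lift_fst _ _ _, pullback.lift_snd _ _ _⟩
  obtain ⟨W, hW, hv₁W, -⟩ := exists_isAffineOpen_mem_and_subset
    (x := v₁ default) (U := (⊤ : (pullback V'.hom ((EtCoh.bc f).obj U₁).hom).Opens)) trivial
  haveI : IsAffine W.toScheme := hW
  have hrangeW : Set.range v₁ ⊆ Set.range W.ι := by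
    rintro _ ⟨a, rfl⟩
    rw [Subsingleton.elim a default, Scheme.Opens.range_ι]
    exact hv₁W
  obtain ⟨w, hw⟩ : ∃ w : Spec (CommRingCat.of Ω) ⟶ W.toScheme, w ≫ W.ι = v₁ :=
    ⟨IsOpenImmersion.lift W.ι v₁ hrangeW, IsOpenImmersion.lift_fac _ _ _⟩
  obtain ⟨ω, hω⟩ : ∃ ω : W.toScheme ⟶ ((EtCoh.bc f).obj U₁).left,
      ω = W.ι ≫ pullback.snd V'.hom ((EtCoh.bc f).obj U₁).hom := ⟨_, rfl⟩
  haveI : Etale ω := by rw [hω]; infer_instance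
  have hwω : w ≫ ω = ζ₁ := by rw [hω, ← Category.assoc, hw, hv₁2]
  -- descend to a finite level
  obtain ⟨P₀, W₀, g₀, ρ, ω₀, θ, hfin, het, hρg, -, hpb⟩ := descend_pb (pr₁ f U₁) ω
  haveI := hfin
  haveI := het
  obtain ⟨η₁, hη₁⟩ : ∃ η₁ : Spec (CommRingCat.of Ω) ⟶ U₁.left, η₁ = ptLeft u₁ := ⟨_, rfl⟩
  have hξ₁ : (ζ₁ ≫ ρ) ≫ g₀ = η₁ := by rw [Category.assoc, hρg, hζ₁pr, hη₁]
  have hwθ : (w ≫ θ) ≫ ω₀ = ζ₁ ≫ ρ := by
    rw [Category.assoc, hpb.w, ← Category.assoc, hwω]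
  obtain ⟨U'', u'', O₀, hclopen, hmem, -, h₀, hh1, hh2⟩ :=
    key g₀ (Scheme.Etale.mk ω₀) (ζ₁ ≫ ρ) hξ₁ (Over.homMk (w ≫ θ) hwθ)
  have hh1' : h₀ ≫ ω₀ = O₀.ι ≫ ((EtCoh.bc g₀).obj U'').hom := hh1
  have hh2' : ∀ l : Spec (CommRingCat.of Ω) ⟶ O₀.toScheme,
      l ≫ O₀.ι = ptLeft (liftPt g₀ (ζ₁ ≫ ρ) hξ₁ U'' u'') → l ≫ h₀ = w ≫ θ := hh2
  haveI : Etale U''.hom := U''.prop
  haveI : Etale U₁.hom := U₁.prop
  -- the étale neighbourhood of `η`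
  let U : Y.Etale := Scheme.Etale.mk (U''.hom ≫ U₁.hom)
  let t : U ⟶ U₁ := MorphismProperty.Over.homMk U''.hom rfl trivial
  have hu''1 : ptLeft u'' ≫ U''.hom = η₁ := ptLeft_hom u''
  have hu₁η : η₁ ≫ U₁.hom = η := by rw [hη₁]; exact ptLeft_hom u₁
  have huw : ptLeft u'' ≫ (U''.hom ≫ U₁.hom) = η := by
    rw [← Category.assoc, hu''1, hu₁η]
  obtain ⟨ul, hul⟩ : ∃ ul : Spec (CommRingCat.of Ω) ⟶ U.left, ul = ptLeft u'' := ⟨_, rfl⟩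
  have huw' : ul ≫ U.hom = η := by rw [hul]; exact huw
  obtain ⟨u, hu⟩ : ∃ u : (Scheme.pointSmallEtale η).fiber.obj U, ptLeft u = ptLeft u'' :=
    ⟨Over.homMk ul huw', hul⟩
  have hut : (Scheme.pointSmallEtale η).fiber.map t u = u₁ := by
    apply ptLeft_ext
    rw [ptLeft_map, hu]
    exact hu''1.trans hη₁
  have hcompat : pr₁ f U ≫ U''.hom = (((EtCoh.bc f).map t).left ≫ ρ) ≫ g₀ := by
    rw [Category.assoc, hρg, map_pr₁]
    rfl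
  obtain ⟨π, hπ1, hπ2⟩ : ∃ π : ((EtCoh.bc f).obj U).left ⟶ ((EtCoh.bc g₀).obj U'').left,
      π ≫ pr₁ g₀ U'' = pr₁ f U ∧
      π ≫ ((EtCoh.bc g₀).obj U'').hom = ((EtCoh.bc f).map t).left ≫ ρ :=
    ⟨pullback.lift (pr₁ f U) (((EtCoh.bc f).map t).left ≫ ρ) hcompat,
      pullback.lift_fst _ _ _, pullback.lift_snd _ _ _⟩
  obtain ⟨L, hL⟩ : ∃ L : Spec (CommRingCat.of Ω) ⟶ ((EtCoh.bc f).obj U).left,
      L = ptLeft (liftPt f ξ₀ hξ₀ U u) := ⟨_, rfl⟩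
  have hLt : L ≫ ((EtCoh.bc f).map t).left = ζ₁ := by
    rw [hL, ← ptLeft_map, liftPt_map, hut, hζ₁]
  have hLπ : L ≫ π = ptLeft (liftPt g₀ (ζ₁ ≫ ρ) hξ₁ U'' u'') := by
    apply bc_hom_ext g₀ U''
    · rw [Category.assoc, hπ1, liftPt_pr₁, hL, liftPt_pr₁, hu]
    · rw [Category.assoc, hπ2, liftPt_hom, ← Category.assoc, hLt]
  refine ⟨U, u, π ⁻¹ᵁ O₀, hclopen.preimage π.continuous, ?_, ?_⟩
  · rw [← hL]
    show π (L default) ∈ O₀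
    have h1 : π (L default) = (L ≫ π) default := (Scheme.Hom.comp_apply _ _ _).symm
    rw [h1, hLπ]
    exact hmem
  · have hab : ((π ∣_ O₀) ≫ h₀) ≫ ω₀ =
        ((π ⁻¹ᵁ O₀).ι ≫ ((EtCoh.bc f).map t).left) ≫ ρ := by
      rw [Category.assoc, hh1', ← Category.assoc, morphismRestrict_ι, Category.assoc, hπ2,
        Category.assoc]
    obtain ⟨c, hc1, hc2⟩ : ∃ c : (π ⁻¹ᵁ O₀).toScheme ⟶ W.toScheme,
        c ≫ θ = (π ∣_ O₀) ≫ h₀ ∧ c ≫ ω = (π ⁻¹ᵁ O₀).ι ≫ ((EtCoh.bc f).map t).left :=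
      ⟨hpb.lift _ _ hab, hpb.lift_fst _ _ _, hpb.lift_snd _ _ _⟩
    refine ⟨c ≫ W.ι ≫ pullback.fst V'.hom ((EtCoh.bc f).obj U₁).hom, ?_, ?_⟩
    · rw [Category.assoc, Category.assoc, pullback.condition, ← Category.assoc W.ι, ← hω,
        ← Category.assoc, hc2, Category.assoc, map_hom]
    · intro l hl
      rw [← hL] at hl
      have hlc : l ≫ c = w := by
        apply hpb.hom_ext
        · rw [Category.assoc, hc1, ← Category.assoc]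
          have h2 : (l ≫ (π ∣_ O₀)) ≫ O₀.ι =
              ptLeft (liftPt g₀ (ζ₁ ≫ ρ) hξ₁ U'' u'') := by
            rw [Category.assoc, morphismRestrict_ι, ← Category.assoc, hl, hLπ]
          exact hh2' _ h2
        · rw [Category.assoc, hc2, ← Category.assoc, hl, hLt, hwω]
      rw [← Category.assoc, hlc, ← Category.assoc, hw, hv₁1]

end Groth.Agent.Lib.EtIntH7
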