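import Mathlib
import Groth.Prelude.Def_EtBase
import Groth.Agent.Lib.EtIntKey2_helper7
import Groth.Agent.Lib.EtClosedStalk_helper7

/-!
# Stalks of the direct image along an integral universally injective morphism (helper7)
-/

set_option autoImplicit false
set_option backward.isDefEq.respectTransparency false
set_option linter.style.haveILetI false
universe u
open CategoryTheory CategoryTheory.Limits AlgebraicGeometry Opposite

namespace Groth.Agent.Lib.EtIntH7

open Groth.Agent.Lib.EtFinGeomH7 Groth.Agent.Lib.EtSchSite_helper7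
  Groth.Agent.Lib.PointComapCounit_helper7

variable {X Y : Scheme.{u}} (f : X ⟶ Y) {Ω : Type u} [Field Ω] [IsAlgClosed Ω]

/-- Shrinking `U` so that `U' ×_Y X` lands in a given open neighbourhood of the fibre over `u`. -/
theorem exists_shrink_int [IsIntegralHom f] {η : Spec (CommRingCat.of Ω) ⟶ Y} (U : Y.Etale)
    (u : (Scheme.pointSmallEtale η).fiber.obj U) (W : ((EtCoh.bc f).obj U).left.Opens)
    (hW : ∀ p : ((EtCoh.bc f).obj U).left, pr₁ f U p = ptLeft u default → p ∈ W) :
    ∃ (U' : Y.Etale) (t : U' ⟶ U) (u' : (Scheme.pointSmallEtale η).fiber.obj U'),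
      (Scheme.pointSmallEtale η).fiber.map t u' = u ∧
      Set.range ((EtCoh.bc f).map t).left ⊆ (W : Set ((EtCoh.bc f).obj U).left) := by
  haveI : IsIntegralHom (pr₁ f U) := inferInstanceAs (IsIntegralHom (pullback.fst U.hom f))
  have hcl : IsClosed ((pr₁ f U) '' (W : Set ((EtCoh.bc f).obj U).left)ᶜ) :=
    (pr₁ f U).isClosedMap _ W.isOpen.isClosed_compl
  let O' : U.left.Opens := ⟨((pr₁ f U) '' (W : Set ((EtCoh.bc f).obj U).left)ᶜ)ᶜ,
    hcl.isOpen_compl⟩
  haveI : Etale U.hom := U.prop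
  haveI : Etale (O'.ι ≫ U.hom) := inferInstance
  let U' : Y.Etale := Scheme.Etale.mk (O'.ι ≫ U.hom)
  let t : U' ⟶ U := MorphismProperty.Over.homMk O'.ι rfl trivial
  obtain ⟨ul, hul⟩ : ∃ ul : Spec (CommRingCat.of Ω) ⟶ U.left, ul = u.left := ⟨_, rfl⟩
  have hrange : Set.range ul ⊆ Set.range O'.ι := by
    rintro _ ⟨a, rfl⟩
    rw [Subsingleton.elim a default, Scheme.Opens.range_ι]
    rintro ⟨y, hy, hy'⟩
    exact hy (hW y (hy'.trans (by rw [hul])))
  have hw : IsOpenImmersion.lift O'.ι ul hrange ≫ (O'.ι ≫ U.hom) = η := by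
    rw [← Category.assoc, IsOpenImmersion.lift_fac, hul]
    exact Over.w u
  refine ⟨U', t, Over.homMk (IsOpenImmersion.lift O'.ι ul hrange) hw, ?_, ?_⟩
  · apply Over.OverMorphism.ext
    exact (IsOpenImmersion.lift_fac _ _ _).trans hul
  · rintro _ ⟨y, rfl⟩
    by_contra hy
    have h1 : pr₁ f U (((EtCoh.bc f).map t).left y) = O'.ι (pr₁ f U' y) :=
      (Scheme.Hom.comp_apply _ _ _).symm.trans
        ((congrArg (fun (m : ((EtCoh.bc f).obj U').left ⟶ U.left) => m y) (map_pr₁ f t)).trans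
          (Scheme.Hom.comp_apply _ _ _))
    have h2 : O'.ι (pr₁ f U' y) ∈ Set.range O'.ι := ⟨_, rfl⟩
    rw [Scheme.Opens.range_ι, ← h1] at h2
    exact h2 ⟨_, hy, rfl⟩

variable [IsIntegralHom f] [UniversallyInjective f] (ζ : Spec (CommRingCat.of Ω) ⟶ X)

theorem injective_pr₁ (U : Y.Etale) : Function.Injective (pr₁ f U) := by
  haveI : UniversallyInjective (pr₁ f U) :=
    MorphismProperty.pullback_fst (P := @UniversallyInjective) U.hom f ‹_›
  exact (pr₁ f U).injective

/-- Every étale neighbourhood of a geometric point of `X` is dominated by the base change of an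
étale neighbourhood in `Y`. -/
theorem exists_dom_int (V : X.Etale) (v : (Scheme.pointSmallEtale ζ).fiber.obj V) :
    ∃ (U : Y.Etale) (u : (Scheme.pointSmallEtale ζ).fiber.obj ((EtCoh.bc f).obj U))
      (s : (EtCoh.bc f).obj U ⟶ V), (Scheme.pointSmallEtale ζ).fiber.map s u = v := by
  obtain ⟨U, uY, Vo, -, hmem, h, hh1, hh2⟩ := int_key f V ζ rfl v
  obtain ⟨L, hL⟩ : ∃ L : Spec (CommRingCat.of Ω) ⟶ ((EtCoh.bc f).obj U).left,
      L = ptLeft (liftPt f ζ rfl U uY) := ⟨_, rfl⟩
  rw [← hL] at hmem hh2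
  have hLpr : L ≫ pr₁ f U = ptLeft uY := by rw [hL, liftPt_pr₁]
  have hW : ∀ p : ((EtCoh.bc f).obj U).left, pr₁ f U p = ptLeft uY default → p ∈ Vo := by
    intro p hp
    have h1 : pr₁ f U (L default) = ptLeft uY default :=
      (Scheme.Hom.comp_apply _ _ _).symm.trans
        (congrArg (fun (m : Spec (CommRingCat.of Ω) ⟶ U.left) => m default) hLpr)
    have h2 : p = L default := injective_pr₁ f U (hp.trans h1.symm)
    rw [h2]
    exact hmem
  obtain ⟨U', t, u', hu', hrange⟩ := exists_shrink_int f U uY Vo hW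
  have hrange' : Set.range ((EtCoh.bc f).map t).left ⊆ Set.range Vo.ι := by
    rw [Scheme.Opens.range_ι]
    exact hrange
  obtain ⟨c, hc⟩ : ∃ c : ((EtCoh.bc f).obj U').left ⟶ Vo.toScheme,
      c ≫ Vo.ι = ((EtCoh.bc f).map t).left :=
    ⟨IsOpenImmersion.lift Vo.ι _ hrange', IsOpenImmersion.lift_fac _ _ _⟩
  have hsw : (c ≫ h) ≫ V.hom = ((EtCoh.bc f).obj U').hom := by
    rw [Category.assoc, hh1, ← Category.assoc, hc, map_hom]
  obtain ⟨L', hL'⟩ : ∃ L' : Spec (CommRingCat.of Ω) ⟶ ((EtCoh.bc f).obj U').left,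
      L' = ptLeft (liftPt f ζ rfl U' u') := ⟨_, rfl⟩
  have hL't : L' ≫ ((EtCoh.bc f).map t).left = L := by
    rw [hL', ← ptLeft_map, liftPt_map, hu', hL]
  refine ⟨U', liftPt f ζ rfl U' u', MorphismProperty.Over.homMk (c ≫ h) hsw trivial, ?_⟩
  apply ptLeft_ext
  show ptLeft (liftPt f ζ rfl U' u') ≫ (c ≫ h) = ptLeft v
  rw [← hL', ← Category.assoc]
  apply hh2
  rw [Category.assoc, hc, hL't]

/-- Shrinking an étale neighbourhood in `Y` so that its base change lands in the image of a given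
étale neighbourhood in `X`. -/
theorem exists_refine_int (U : Y.Etale)
    (u : (Scheme.pointSmallEtale ζ).fiber.obj ((EtCoh.bc f).obj U))
    (W : X.Etale) (r : W ⟶ (EtCoh.bc f).obj U) (w : (Scheme.pointSmallEtale ζ).fiber.obj W)
    (hw : (Scheme.pointSmallEtale ζ).fiber.map r w = u) :
    ∃ (U' : Y.Etale) (t : U' ⟶ U)
      (u' : (Scheme.pointSmallEtale ζ).fiber.obj ((EtCoh.bc f).obj U')),
      (Scheme.pointSmallEtale ζ).fiber.map ((EtCoh.bc f).map t) u' = u ∧
      Set.range ((EtCoh.bc f).map t).left ⊆ Set.range r.left := by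
  obtain ⟨ul, hul⟩ : ∃ ul : Spec (CommRingCat.of Ω) ⟶ ((EtCoh.bc f).obj U).left, ul = u.left :=
    ⟨u.left, rfl⟩
  obtain ⟨wl, hwl⟩ : ∃ wl : Spec (CommRingCat.of Ω) ⟶ W.left, wl = w.left := ⟨w.left, rfl⟩
  have hwu : wl ≫ r.left = ul := by
    rw [hwl, hul, ← hw]
    rfl
  have hu_mem : ul (default : ↥(Spec (CommRingCat.of Ω))) ∈ Set.range r.left := by
    rw [← hwu]
    exact ⟨wl default, (Scheme.Hom.comp_apply _ _ _).symm⟩
  have hulζ : ul ≫ ((EtCoh.bc f).obj U).hom = ζ := by rw [hul]; exact Over.w u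
  have hη : (ul ≫ pr₁ f U) ≫ U.hom = ζ ≫ f := by
    rw [Category.assoc, pr₁_hom, ← Category.assoc, hulζ]
  obtain ⟨uY, huY⟩ : ∃ uY : (Scheme.pointSmallEtale (ζ ≫ f)).fiber.obj U,
      ptLeft uY = ul ≫ pr₁ f U := ⟨Over.homMk (ul ≫ pr₁ f U) hη, rfl⟩
  have hulL : ul = ptLeft (liftPt f ζ rfl U uY) := by
    apply bc_hom_ext f U
    · rw [liftPt_pr₁, huY]
    · rw [liftPt_hom, hulζ]
  let O : ((EtCoh.bc f).obj U).left.Opens := ⟨Set.range r.left, r.left.isOpenMap.isOpen_range⟩
  have hW : ∀ p : ((EtCoh.bc f).obj U).left, pr₁ f U p = ptLeft uY default → p ∈ O := by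
    intro p hp
    have h1 : pr₁ f U (ul default) = ptLeft uY default := by
      rw [huY]
      exact (Scheme.Hom.comp_apply _ _ _).symm
    have h2 : p = ul default := injective_pr₁ f U (hp.trans h1.symm)
    rw [h2]
    exact hu_mem
  obtain ⟨U', t, u', hu', hrange⟩ := exists_shrink_int f U uY O hW
  refine ⟨U', t, liftPt f ζ rfl U' u', ?_, hrange⟩
  rw [liftPt_map, hu']
  apply ptLeft_ext
  rw [← hulL, hul]

section Gen

variable {A : Type*} [Category A] [HasColimitsOfSize.{u, u} A] [HasProducts.{u} A]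
  {FC : A → A → Type*} {CC : A → Type*} [∀ (X Y : A), FunLike (FC X Y) (CC X) (CC Y)]
  [ConcreteCategory A FC] [PreservesFilteredColimitsOfSize.{u, u} (forget A)]
  [X.smallEtaleTopology.HasSheafCompose (forget A)]
  [((EtCoh.bc f).sheafPushforwardContinuous A Y.smallEtaleTopology
    X.smallEtaleTopology).IsRightAdjoint]

open Groth.Agent.Lib.EtClosedStalk_helper7 in
/-- The comparison `(f_* G)_{f ζ} ⟶ G_ζ` is bijective. -/
theorem bijective_comparison_int (G : Sheaf X.smallEtaleTopology A) :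
    Function.Bijective (comparison (Scheme.pointSmallEtale ζ) (EtCoh.bc f)
      (EtCoh.coverPreserving_bc f) A G) := by
  have hcmp : ∀ (U : Y.Etale) (u : (Scheme.pointSmallEtale ζ).fiber.obj ((EtCoh.bc f).obj U))
      (z : ToType (G.obj.obj (op ((EtCoh.bc f).obj U)))),
      comparison (Scheme.pointSmallEtale ζ) (EtCoh.bc f) (EtCoh.coverPreserving_bc f) A G
        (((Scheme.pointSmallEtale ζ).comap (EtCoh.bc f)
          (EtCoh.coverPreserving_bc f)).toPresheafFiber U u
          (((EtCoh.bc f).sheafPushforwardContinuous A Y.smallEtaleTopology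
            X.smallEtaleTopology).obj G).obj z) =
      (Scheme.pointSmallEtale ζ).toPresheafFiber ((EtCoh.bc f).obj U) u G.obj z :=
    fun U u z => (ConcreteCategory.comp_apply _ _ _).symm.trans
      (congrArg (fun m => (ConcreteCategory.hom m) z)
        (toPresheafFiber_comparison (Scheme.pointSmallEtale ζ) (EtCoh.bc f)
          (EtCoh.coverPreserving_bc f) A G U u))
  have key : ∀ (U : Y.Etale) (u : (Scheme.pointSmallEtale ζ).fiber.obj ((EtCoh.bc f).obj U))
      (z₁ z₂ : ToType (G.obj.obj (op ((EtCoh.bc f).obj U)))),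
      comparison (Scheme.pointSmallEtale ζ) (EtCoh.bc f) (EtCoh.coverPreserving_bc f) A G
        (((Scheme.pointSmallEtale ζ).comap (EtCoh.bc f)
          (EtCoh.coverPreserving_bc f)).toPresheafFiber U u
          (((EtCoh.bc f).sheafPushforwardContinuous A Y.smallEtaleTopology
            X.smallEtaleTopology).obj G).obj z₁) =
      comparison (Scheme.pointSmallEtale ζ) (EtCoh.bc f) (EtCoh.coverPreserving_bc f) A G
        (((Scheme.pointSmallEtale ζ).comap (EtCoh.bc f)
          (EtCoh.coverPreserving_bc f)).toPresheafFiber U u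
          (((EtCoh.bc f).sheafPushforwardContinuous A Y.smallEtaleTopology
            X.smallEtaleTopology).obj G).obj z₂) →
      ((Scheme.pointSmallEtale ζ).comap (EtCoh.bc f)
          (EtCoh.coverPreserving_bc f)).toPresheafFiber U u
          (((EtCoh.bc f).sheafPushforwardContinuous A Y.smallEtaleTopology
            X.smallEtaleTopology).obj G).obj z₁ =
      ((Scheme.pointSmallEtale ζ).comap (EtCoh.bc f)
          (EtCoh.coverPreserving_bc f)).toPresheafFiber U u
          (((EtCoh.bc f).sheafPushforwardContinuous A Y.smallEtaleTopology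
            X.smallEtaleTopology).obj G).obj z₂ := by
    intro U u z₁ z₂ hab
    have h1 : (Scheme.pointSmallEtale ζ).toPresheafFiber ((EtCoh.bc f).obj U) u G.obj z₁ =
        (Scheme.pointSmallEtale ζ).toPresheafFiber ((EtCoh.bc f).obj U) u G.obj z₂ :=
      (hcmp U u z₁).symm.trans (hab.trans (hcmp U u z₂))
    obtain ⟨W, r, w, hw, heq⟩ :=
      ((Scheme.pointSmallEtale ζ).toPresheafFiber_eq_iff' _ u z₁ z₂).1 h1
    obtain ⟨U', t, u', hu', hrange⟩ := exists_refine_int f ζ U u W r w hw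
    have hsep : G.obj.map ((EtCoh.bc f).map t).op z₁ = G.obj.map ((EtCoh.bc f).map t).op z₂ := by
      refine Sheaf.isSeparated G ((EtCoh.bc f).obj U')
        (Presheaf.equalizerSieve (F := G.obj) (X := op ((EtCoh.bc f).obj U'))
          (G.obj.map ((EtCoh.bc f).map t).op z₁) (G.obj.map ((EtCoh.bc f).map t).op z₂)) ?_ _ _
        (fun Y f hf => hf)
      apply sieve_mem_of_forall_exists
      intro y
      obtain ⟨w₀, hw₀⟩ := hrange ⟨y, rfl⟩
      obtain ⟨P', a, b, z, hab', -, hz⟩ := exists_prod r ((EtCoh.bc f).map t) w₀ y hw₀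
      refine ⟨P', b, ?_, ⟨z, hz⟩⟩
      have hmap : ∀ q : ToType (G.obj.obj (op ((EtCoh.bc f).obj U))),
          G.obj.map b.op (G.obj.map ((EtCoh.bc f).map t).op q) =
            G.obj.map a.op (G.obj.map r.op q) := fun q =>
        (map_map_apply G.obj ((EtCoh.bc f).map t) b q).trans
          ((congrArg (fun m => G.obj.map m.op q) hab'.symm).trans
            (map_map_apply G.obj r a q).symm)
      exact (hmap z₁).trans ((congrArg (fun q => G.obj.map a.op q) heq).trans (hmap z₂).symm)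
    have e1 := ((Scheme.pointSmallEtale ζ).comap (EtCoh.bc f)
      (EtCoh.coverPreserving_bc f)).toPresheafFiber_w_apply t u'
      (((EtCoh.bc f).sheafPushforwardContinuous A Y.smallEtaleTopology
        X.smallEtaleTopology).obj G).obj z₁
    have e2 := ((Scheme.pointSmallEtale ζ).comap (EtCoh.bc f)
      (EtCoh.coverPreserving_bc f)).toPresheafFiber_w_apply t u'
      (((EtCoh.bc f).sheafPushforwardContinuous A Y.smallEtaleTopology
        X.smallEtaleTopology).obj G).obj z₂
    have hu'' : ((Scheme.pointSmallEtale ζ).comap (EtCoh.bc f)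
      (EtCoh.coverPreserving_bc f)).fiber.map t u' = u := hu'
    rw [hu''] at e1 e2
    exact e1.symm.trans ((congrArg _ hsep).trans e2)
  constructor
  · intro a b hab
    obtain ⟨U, u, z₁, z₂, rfl, rfl⟩ := ((Scheme.pointSmallEtale ζ).comap (EtCoh.bc f)
      (EtCoh.coverPreserving_bc f)).toPresheafFiber_jointly_surjective₂ a b
    exact key U u z₁ z₂ hab
  · intro t
    obtain ⟨V, v, z, rfl⟩ := (Scheme.pointSmallEtale ζ).toPresheafFiber_jointly_surjective t
    obtain ⟨U, u, s, hs⟩ := exists_dom_int f ζ V v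
    refine ⟨((Scheme.pointSmallEtale ζ).comap (EtCoh.bc f)
      (EtCoh.coverPreserving_bc f)).toPresheafFiber U u
      (((EtCoh.bc f).sheafPushforwardContinuous A Y.smallEtaleTopology
        X.smallEtaleTopology).obj G).obj (G.obj.map s.op z), ?_⟩
    refine (hcmp U u (G.obj.map s.op z)).trans ?_
    rw [← hs]
    exact (Scheme.pointSmallEtale ζ).toPresheafFiber_w_apply s u G.obj z

end Gen

end Groth.Agent.Lib.EtIntH7
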