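import Mathlib
import Groth.Prelude.Def_PBC
import Groth.Agent.Lib.EtFinBC2_helper7
import Groth.Agent.Lib.EtIntStalk_helper7

/-!
# Base change for integral morphisms, part 1: injectivity on stalks (helper7)
-/

set_option autoImplicit false
set_option backward.isDefEq.respectTransparency false
set_option linter.style.haveILetI false
set_option linter.unusedSectionVars false
universe u
open CategoryTheory CategoryTheory.Limits AlgebraicGeometry Opposite

namespace Groth.Agent.Lib.EtIntH7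

open Groth.Agent.Lib.EtFinGeomH7 Groth.Agent.Lib.EtSchSite_helper7
  Groth.Agent.Lib.EtSchExact_helper7 Groth.Agent.Lib.EtFinStalkH7
  Groth.Agent.Lib.EtSchStalk_helper7 Groth.Agent.Lib.EtFinBCH7

/-- Lifting a geometric point through a given point of the fibre of an integral morphism. -/
theorem exists_lift_int {P U : Scheme.{u}} (g : P ⟶ U) [IsIntegralHom g] {Ω : Type u} [Field Ω]
    [IsAlgClosed Ω] (u : Spec (CommRingCat.of Ω) ⟶ U) (p : P) (hp : u default = g p) :
    ∃ l : Spec (CommRingCat.of Ω) ⟶ P, l ≫ g = u ∧ l default = p := by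
  obtain ⟨p', hp'1, hp'2⟩ := Scheme.Pullback.exists_preimage_pullback (f := u) (g := g)
    (default : ↥(Spec (CommRingCat.of Ω))) p hp
  haveI : IsIntegralHom (pullback.fst u g) := inferInstance
  haveI : IsAffine (pullback u g) := isAffine_of_isAffineHom (pullback.fst u g)
  obtain ⟨m, hm⟩ : ∃ m : Ideal Γ(pullback u g, ⊤),
      m = ((pullback u g).isoSpec.hom p').asIdeal := ⟨_, rfl⟩
  haveI hmprime : m.IsPrime := by rw [hm]; exact ((pullback u g).isoSpec.hom p').isPrime
  obtain ⟨c₀, hc₀⟩ : ∃ c₀ : Spec (CommRingCat.of (Γ(pullback u g, ⊤) ⧸ m)) ⟶ pullback u g,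
      c₀ = Spec.map (CommRingCat.ofHom (Ideal.Quotient.mk m)) ≫ (pullback u g).isoSpec.inv :=
    ⟨_, rfl⟩
  haveI : IsClosedImmersion (Spec.map (CommRingCat.ofHom (Ideal.Quotient.mk m))) :=
    IsClosedImmersion.spec_of_surjective _ Ideal.Quotient.mk_surjective
  haveI : IsIntegralHom c₀ := by rw [hc₀]; infer_instance
  obtain ⟨ψ, hψ⟩ := Spec.map_surjective (c₀ ≫ pullback.fst u g)
  have hint : ψ.hom.IsIntegral :=
    IsIntegralHom.SpecMap_iff.1 (by rw [hψ]; infer_instance)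
  letI : Algebra Ω (Γ(pullback u g, ⊤) ⧸ m) := ψ.hom.toAlgebra
  haveI : Algebra.IsIntegral Ω (Γ(pullback u g, ⊤) ⧸ m) := ⟨hint⟩
  haveI : IsDomain (Γ(pullback u g, ⊤) ⧸ m) := Ideal.Quotient.isDomain m
  have hfield : IsField (Γ(pullback u g, ⊤) ⧸ m) :=
    isField_of_isIntegral_of_isField' (Field.toIsField Ω)
  haveI hmax : m.IsMaximal := Ideal.Quotient.maximal_of_isField m hfield
  letI : Field (Γ(pullback u g, ⊤) ⧸ m) := Ideal.Quotient.field m
  have hbij : Function.Bijective ψ.hom :=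
    IsAlgClosed.algebraMap_bijective_of_isIntegral (k := Ω) (K := Γ(pullback u g, ⊤) ⧸ m)
  obtain ⟨e, he⟩ : ∃ e : Ω ≃+* (Γ(pullback u g, ⊤) ⧸ m), ∀ x, e x = ψ.hom x :=
    ⟨RingEquiv.ofBijective ψ.hom hbij, fun _ => rfl⟩
  have hσ : ψ ≫ CommRingCat.ofHom e.symm.toRingHom = 𝟙 (CommRingCat.of Ω) := by
    ext x
    show e.symm (ψ.hom x) = x
    rw [← he, RingEquiv.symm_apply_apply]
  have hσc : Spec.map (CommRingCat.ofHom e.symm.toRingHom) ≫ (c₀ ≫ pullback.fst u g) = 𝟙 _ := by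
    rw [← hψ, ← Spec.map_comp, hσ, Spec.map_id]
  obtain ⟨σ, hσdef⟩ : ∃ σ : Spec (CommRingCat.of Ω) ⟶
      Spec (CommRingCat.of (Γ(pullback u g, ⊤) ⧸ m)),
      σ = Spec.map (CommRingCat.ofHom e.symm.toRingHom) := ⟨_, rfl⟩
  rw [← hσdef] at hσc
  -- the image point
  have hpt : (σ ≫ c₀) default = p' := by
    have h1 : (σ ≫ c₀) default = c₀ (σ default) := Scheme.Hom.comp_apply _ _ _
    have h2 : c₀ (σ default) = (pullback u g).isoSpec.inv
        (Spec.map (CommRingCat.ofHom (Ideal.Quotient.mk m)) (σ default)) := by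
      rw [hc₀]
      exact Scheme.Hom.comp_apply _ _ _
    have h3 : Spec.map (CommRingCat.ofHom (Ideal.Quotient.mk m)) (σ default) =
        (pullback u g).isoSpec.hom p' := by
      apply PrimeSpectrum.ext
      have h4 : (σ default).asIdeal = ⊥ :=
        (Ideal.eq_bot_or_top _).resolve_right (σ default).isPrime.ne_top
      show Ideal.comap (Ideal.Quotient.mk m) (σ default).asIdeal = _
      rw [h4, ← RingHom.ker_eq_comap_bot, Ideal.mk_ker, hm]
    rw [h1, h2, h3]
    exact (Scheme.Hom.comp_apply _ _ _).symm.trans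
      (congrArg (fun (k : pullback u g ⟶ pullback u g) => k p')
        (pullback u g).isoSpec.hom_inv_id)
  refine ⟨σ ≫ c₀ ≫ pullback.snd u g, ?_, ?_⟩
  · rw [Category.assoc, Category.assoc, ← pullback.condition, ← Category.assoc c₀,
      ← Category.assoc, hσc, Category.id_comp]
  · have h5 : (σ ≫ c₀ ≫ pullback.snd u g) default = pullback.snd u g ((σ ≫ c₀) default) := by
      rw [← Category.assoc]
      exact Scheme.Hom.comp_apply _ _ _
    rw [h5, hpt]
    exact hp'2

variable {X Y : Scheme.{u}} (f : X ⟶ Y) {Ω : Type u} [Field Ω] [IsAlgClosed Ω]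

/-- Every point of `U ×_Y X` over the image of `u` is the image of a geometric point `(u, ξ)`. -/
theorem exists_point_over_int [IsIntegralHom f] {η : Spec (CommRingCat.of Ω) ⟶ Y} (U : Y.Etale)
    (u : (Scheme.pointSmallEtale η).fiber.obj U) (p : ((EtCoh.bc f).obj U).left)
    (hp : pr₁ f U p = ptLeft u default) :
    ∃ (ξ : Spec (CommRingCat.of Ω) ⟶ X) (hξ : ξ ≫ f = η),
      ptLeft (liftPt f ξ hξ U u) default = p := by
  haveI : IsIntegralHom (pr₁ f U) := inferInstanceAs (IsIntegralHom (pullback.fst U.hom f))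
  obtain ⟨l, hl1, hl2⟩ := exists_lift_int (pr₁ f U) (ptLeft u) p hp.symm
  have hξ : (l ≫ ((EtCoh.bc f).obj U).hom) ≫ f = η := by
    rw [Category.assoc, ← pr₁_hom, ← Category.assoc, hl1]
    exact Over.w u
  refine ⟨l ≫ ((EtCoh.bc f).obj U).hom, hξ, ?_⟩
  have h3 : ptLeft (liftPt f _ hξ U u) = l := by
    apply bc_hom_ext f U
    · rw [liftPt_pr₁, hl1]
    · rw [liftPt_hom]
  rw [h3]
  exact hl2

section Inj

variable [IsIntegralHom f] (F : EtCoh.Ab X) {η : Spec (CommRingCat.of Ω) ⟶ Y}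

theorem eq_zero_of_psi_eq_zero_int
    (x : ToType ((Scheme.pointSmallEtale η).presheafFiber.obj ((EtCoh.push f).obj F).obj))
    (hx : ∀ (ξ : Spec (CommRingCat.of Ω) ⟶ X) (hξ : ξ ≫ f = η), psi f F ξ hξ x = 0) :
    x = 0 := by
  obtain ⟨U, u, s, rfl⟩ := (Scheme.pointSmallEtale η).toPresheafFiber_jointly_surjective x
  obtain ⟨W, hW⟩ := exists_opens_vanishing F ((EtCoh.bc f).obj U) s
  have hWfib : ∀ p : ((EtCoh.bc f).obj U).left, pr₁ f U p = ptLeft u default → p ∈ W := by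
    intro p hp
    obtain ⟨ξ, hξ, hpξ⟩ := exists_point_over_int f U u p hp
    have h0 := hx ξ hξ
    rw [psi_germ] at h0
    obtain ⟨V, g, v, hv, heq⟩ := ((Scheme.pointSmallEtale ξ).toPresheafFiber_eq_iff' _
      (liftPt f ξ hξ U u) s 0).1 (h0.trans (map_zero _).symm)
    have hs0 : F.obj.map g.op s = 0 := heq.trans (map_zero _)
    have hsub := (hW V g).1 hs0
    rw [← hpξ, ← hv]
    exact hsub ⟨ptLeft v default, rfl⟩
  obtain ⟨U', t, u', hu', hrange⟩ := exists_shrink_int f U u W hWfib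
  have hs' : F.obj.map ((EtCoh.bc f).map t).op s = 0 := (hW _ ((EtCoh.bc f).map t)).2 hrange
  have h1 := (Scheme.pointSmallEtale η).toPresheafFiber_w_apply t u'
    ((EtCoh.push f).obj F).obj s
  rw [hu'] at h1
  rw [← h1]
  have h2 : ((EtCoh.push f).obj F).obj.map t.op s = 0 := hs'
  rw [h2, map_zero]

theorem psi_injective_int
    (x y : ToType ((Scheme.pointSmallEtale η).presheafFiber.obj ((EtCoh.push f).obj F).obj))
    (hxy : ∀ (ξ : Spec (CommRingCat.of Ω) ⟶ X) (hξ : ξ ≫ f = η),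
      psi f F ξ hξ x = psi f F ξ hξ y) : x = y := by
  have h0 : x - y = 0 := eq_zero_of_psi_eq_zero_int f F (x - y) (fun ξ hξ => by
    rw [map_sub, hxy ξ hξ, sub_self])
  exact sub_eq_zero.1 h0

end Inj

section BC

variable {X' Y' : Scheme.{u}} (g : Y' ⟶ Y) (f' : X' ⟶ Y') (g' : X' ⟶ X)
  [IsIntegralHom f] (h : IsPullback g' f' f g) (F : EtCoh.Ab X)

include h in
theorem isIntegralHom_of_isPullback : IsIntegralHom f' :=
  MorphismProperty.of_isPullback (P := @IsIntegralHom) h inferInstance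

theorem injective_stalk_map_int (η' : Spec (CommRingCat.of Ω) ⟶ Y') :
    Function.Injective ((EtCoh.stalk η').map (EtCoh.baseChange0 f g f' g' h.w F)) := by
  have hiso : Function.Bijective
      ((EtStalkPull.stalkPullIso g η').inv.app ((EtCoh.push f).obj F)) :=
    ConcreteCategory.bijective_of_isIso _
  refine (Function.Injective.of_comp_iff' _ hiso).1 ?_
  intro y₁ y₂ hy
  apply psi_injective_int f F
  intro ξ hξ
  obtain ⟨ξ', hξ'1, hξ'2⟩ : ∃ ξ' : Spec (CommRingCat.of Ω) ⟶ X', ξ' ≫ g' = ξ ∧ ξ' ≫ f' = η' :=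
    ⟨h.lift ξ η' hξ, h.lift_fst _ _ _, h.lift_snd _ _ _⟩
  subst hξ'1
  have h1 := mc f g f' g' h.w F η' ξ' hξ'2 hξ y₁
  have h2 := mc f g f' g' h.w F η' ξ' hξ'2 hξ y₂
  have hJ : Function.Bijective ((EtStalkPull.stalkPullIso g' ξ').inv.app F) :=
    ConcreteCategory.bijective_of_isIso _
  apply hJ.1
  rw [← h1, ← h2]
  exact congrArg (fun z => psi f' ((EtCoh.pull g').obj F) ξ' hξ'2 z) hy

end BC

end Groth.Agent.Lib.EtIntH7
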