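import Mathlib
import Groth.Prelude.Def_PBC
import Groth.Agent.Lib.EtIntBC1_helper7

/-!
# Base change for integral morphisms, part 2: separating geometric points of a fibre (helper7)

For an integral morphism `f : X ⟶ Y` and two distinct geometric points `ξ₀ ≠ ξ₁` of `X` over the
same geometric point `η` of `Y`, there is an étale neighbourhood `U` of `η` and an open and closed
subset of `U ×_Y X` containing `ξ₀` but not `ξ₁`.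
-/

set_option autoImplicit false
set_option backward.isDefEq.respectTransparency false
set_option linter.style.haveILetI false
set_option linter.unusedSectionVars false
universe u
open CategoryTheory CategoryTheory.Limits AlgebraicGeometry Opposite

namespace Groth.Agent.Lib.EtIntH7

open Groth.Agent.Lib.EtFinGeomH7 Groth.Agent.Lib.EtSchSite_helper7
  Groth.Agent.Lib.EtSchExact_helper7 Groth.Agent.Lib.EtFinStalkH7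
  Groth.Agent.Lib.EtSchStalk_helper7

theorem sep_Spec (A B : Type u) [CommRing A] [CommRing B] [Algebra A B]
    [Algebra.IsIntegral A B] (b : B) :
    ∃ (P₀ : Scheme.{u}) (g₀ : P₀ ⟶ Spec (CommRingCat.of A)) (ρ : Spec (CommRingCat.of B) ⟶ P₀),
      IsFinite g₀ ∧ ρ ≫ g₀ = Spec.map (CommRingCat.ofHom (algebraMap A B)) ∧
      ∀ {Ω : Type u} [Field Ω] (φ₀ φ₁ : B →+* Ω), φ₀ b ≠ φ₁ b →
        Spec.map (CommRingCat.ofHom φ₀) ≫ ρ ≠ Spec.map (CommRingCat.ofHom φ₁) ≫ ρ := by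
  obtain ⟨B₀, hB₀⟩ : ∃ B₀ : Subalgebra A B, B₀ = Algebra.adjoin A ({b} : Set B) := ⟨_, rfl⟩
  have hb : b ∈ B₀ := by rw [hB₀]; exact Algebra.subset_adjoin (Set.mem_singleton b)
  have hfg : B₀.FG := by
    rw [hB₀]
    have h := Subalgebra.fg_adjoin_finset (R := A) ({b} : Finset B)
    rwa [Finset.coe_singleton] at h
  haveI : Algebra.IsIntegral A B₀ := Algebra.IsIntegral.of_injective B₀.val Subtype.val_injective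
  haveI : Algebra.FiniteType A B₀ := (Subalgebra.fg_iff_finiteType B₀).1 hfg
  have hfin : Module.Finite A B₀ := Algebra.IsIntegral.finite
  refine ⟨Spec (CommRingCat.of B₀), Spec.map (CommRingCat.ofHom (algebraMap A B₀)),
    Spec.map (CommRingCat.ofHom (algebraMap B₀ B)), ?_, ?_, ?_⟩
  · rw [IsFinite.SpecMap_iff]
    exact RingHom.finite_algebraMap.2 hfin
  · rw [← Spec.map_comp, ← CommRingCat.ofHom_comp]
    exact congrArg (fun m => Spec.map (CommRingCat.ofHom m))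
      (IsScalarTower.algebraMap_eq A B₀ B).symm
  · intro Ω _ φ₀ φ₁ hne heq
    rw [← Spec.map_comp, ← Spec.map_comp, ← CommRingCat.ofHom_comp,
      ← CommRingCat.ofHom_comp] at heq
    have h1 := Spec.map_injective heq
    have h2 : φ₀.comp (algebraMap B₀ B) = φ₁.comp (algebraMap B₀ B) :=
      congrArg (fun m => CommRingCat.Hom.hom m) h1
    exact hne (congrArg (fun (m : B₀ →+* Ω) => m ⟨b, hb⟩) h2)

theorem sep_aff {T P : Scheme.{u}} [IsAffine T] [IsAffine P] (g : P ⟶ T) [IsIntegralHom g]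
    {Ω : Type u} [Field Ω] (ζ₀ ζ₁ : Spec (CommRingCat.of Ω) ⟶ P) (hne : ζ₀ ≠ ζ₁) :
    ∃ (P₀ : Scheme.{u}) (g₀ : P₀ ⟶ T) (ρ : P ⟶ P₀),
      IsFinite g₀ ∧ ρ ≫ g₀ = g ∧ ζ₀ ≫ ρ ≠ ζ₁ ≫ ρ := by
  letI : Algebra Γ(T, ⊤) Γ(P, ⊤) := g.appTop.hom.toAlgebra
  haveI : Algebra.IsIntegral Γ(T, ⊤) Γ(P, ⊤) :=
    ⟨((HasAffineProperty.iff_of_isAffine (P := @IsIntegralHom)).1 ‹IsIntegralHom g›).2⟩
  obtain ⟨ψ₀, hψ₀⟩ := Spec.map_surjective (ζ₀ ≫ P.isoSpec.hom)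
  obtain ⟨ψ₁, hψ₁⟩ := Spec.map_surjective (ζ₁ ≫ P.isoSpec.hom)
  have hψne : ψ₀ ≠ ψ₁ := by
    intro h
    apply hne
    have h2 : ζ₀ ≫ P.isoSpec.hom = ζ₁ ≫ P.isoSpec.hom := by rw [← hψ₀, ← hψ₁, h]
    exact (cancel_mono P.isoSpec.hom).1 h2
  obtain ⟨b, hb⟩ : ∃ b : Γ(P, ⊤), ψ₀.hom b ≠ ψ₁.hom b := by
    by_contra hcon
    push Not at hcon
    exact hψne (CommRingCat.hom_ext (RingHom.ext hcon))
  obtain ⟨P₀, g₀, ρ₀, h1, h2, h3⟩ := sep_Spec Γ(T, ⊤) Γ(P, ⊤) b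
  haveI := h1
  have eg : CommRingCat.ofHom (algebraMap Γ(T, ⊤) Γ(P, ⊤)) = g.appTop := rfl
  rw [eg] at h2
  refine ⟨P₀, g₀ ≫ T.isoSpec.inv, P.isoSpec.hom ≫ ρ₀, inferInstance, ?_, ?_⟩
  · rw [Category.assoc, ← Category.assoc ρ₀, h2, Scheme.isoSpec_inv_naturality,
      Iso.hom_inv_id_assoc]
  · rw [← Category.assoc, ← Category.assoc, ← hψ₀, ← hψ₁]
    exact h3 ψ₀.hom ψ₁.hom hb

variable {X Y : Scheme.{u}} (f : X ⟶ Y) {Ω : Type u} [Field Ω] [IsAlgClosed Ω]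

theorem sep_int [IsIntegralHom f] {η : Spec (CommRingCat.of Ω) ⟶ Y}
    (ξ₀ ξ₁ : Spec (CommRingCat.of Ω) ⟶ X) (hξ₀ : ξ₀ ≫ f = η) (hξ₁ : ξ₁ ≫ f = η)
    (hne : ξ₀ ≠ ξ₁) :
    ∃ (U : Y.Etale) (u : (Scheme.pointSmallEtale η).fiber.obj U)
      (V : ((EtCoh.bc f).obj U).left.Opens),
      IsClopen (V : Set ((EtCoh.bc f).obj U).left) ∧
      ptLeft (liftPt f ξ₀ hξ₀ U u) default ∈ V ∧
      ptLeft (liftPt f ξ₁ hξ₁ U u) default ∉ V := by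
  obtain ⟨Y₁, hY₁, hηY₁, -⟩ := exists_isAffineOpen_mem_and_subset
    (x := η default) (U := (⊤ : Y.Opens)) trivial
  let U₁ : Y.Etale := Scheme.Etale.mk Y₁.ι
  haveI : IsAffine U₁.left := hY₁
  have hrange : Set.range η ⊆ Set.range Y₁.ι := by
    rintro _ ⟨a, rfl⟩
    rw [Subsingleton.elim a default, Scheme.Opens.range_ι]
    exact hηY₁
  obtain ⟨u₁, hu₁⟩ : ∃ u₁ : (Scheme.pointSmallEtale η).fiber.obj U₁,
      ptLeft u₁ = IsOpenImmersion.lift Y₁.ι η hrange :=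
    ⟨Over.homMk (IsOpenImmersion.lift Y₁.ι η hrange) (IsOpenImmersion.lift_fac _ _ _), rfl⟩
  haveI : IsIntegralHom (pr₁ f U₁) := inferInstanceAs (IsIntegralHom (pullback.fst U₁.hom f))
  haveI : IsAffine ((EtCoh.bc f).obj U₁).left := isAffine_of_isAffineHom (pr₁ f U₁)
  obtain ⟨ζ₀, hζ₀⟩ : ∃ ζ₀ : Spec (CommRingCat.of Ω) ⟶ ((EtCoh.bc f).obj U₁).left,
      ζ₀ = ptLeft (liftPt f ξ₀ hξ₀ U₁ u₁) := ⟨_, rfl⟩
  obtain ⟨ζ₁, hζ₁⟩ : ∃ ζ₁ : Spec (CommRingCat.of Ω) ⟶ ((EtCoh.bc f).obj U₁).left,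
      ζ₁ = ptLeft (liftPt f ξ₁ hξ₁ U₁ u₁) := ⟨_, rfl⟩
  have hζ₀hom : ζ₀ ≫ ((EtCoh.bc f).obj U₁).hom = ξ₀ := by rw [hζ₀, liftPt_hom]
  have hζ₁hom : ζ₁ ≫ ((EtCoh.bc f).obj U₁).hom = ξ₁ := by rw [hζ₁, liftPt_hom]
  have hζ₀pr : ζ₀ ≫ pr₁ f U₁ = ptLeft u₁ := by rw [hζ₀, liftPt_pr₁]
  have hζ₁pr : ζ₁ ≫ pr₁ f U₁ = ptLeft u₁ := by rw [hζ₁, liftPt_pr₁]
  have hζne : ζ₀ ≠ ζ₁ := fun h => hne (by rw [← hζ₀hom, ← hζ₁hom, h])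
  obtain ⟨P₀, g₀, ρ, hfin, hρg, hρne⟩ := sep_aff (pr₁ f U₁) ζ₀ ζ₁ hζne
  haveI := hfin
  obtain ⟨η₁, hη₁⟩ : ∃ η₁ : Spec (CommRingCat.of Ω) ⟶ U₁.left, η₁ = ptLeft u₁ := ⟨_, rfl⟩
  have hρ₀ : (ζ₀ ≫ ρ) ≫ g₀ = η₁ := by rw [Category.assoc, hρg, hζ₀pr, hη₁]
  have hρ₁ : (ζ₁ ≫ ρ) ≫ g₀ = η₁ := by rw [Category.assoc, hρg, hζ₁pr, hη₁]
  obtain ⟨U'', u'', O₀, hclopen, hmem, huniq, -⟩ :=
    key g₀ (Scheme.Etale.mk (𝟙 P₀)) (ζ₀ ≫ ρ) hρ₀ (Over.homMk (ζ₀ ≫ ρ) (Category.comp_id _))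
  haveI : Etale U''.hom := U''.prop
  haveI : Etale U₁.hom := U₁.prop
  let U : Y.Etale := Scheme.Etale.mk (U''.hom ≫ U₁.hom)
  let t : U ⟶ U₁ := MorphismProperty.Over.homMk U''.hom rfl trivial
  have hu''1 : ptLeft u'' ≫ U''.hom = η₁ := ptLeft_hom u''
  have hu₁η : η₁ ≫ U₁.hom = η := by rw [hη₁]; exact ptLeft_hom u₁
  have huw : ptLeft u'' ≫ (U''.hom ≫ U₁.hom) = η := by
    rw [← Category.assoc, hu''1, hu₁η]
  obtain ⟨ul, hul⟩ : ∃ ul : Spec (CommRingCat.of Ω) ⟶ U.left, ul = ptLeft u'' := ⟨_, rfl⟩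
  have huw' : ul ≫ U.hom = η := by rw [hul]; exact huw
  obtain ⟨u, hu⟩ : ∃ u : (Scheme.pointSmallEtale η).fiber.obj U, ptLeft u = ptLeft u'' :=
    ⟨Over.homMk ul huw', hul⟩
  have hut : (Scheme.pointSmallEtale η).fiber.map t u = u₁ := by
    apply ptLeft_ext
    rw [ptLeft_map, hu]
    exact hu''1.trans hη₁
  have hcompat : pr₁ f U ≫ U''.hom = (((EtCoh.bc f).map t).left ≫ ρ) ≫ g₀ := by
    rw [Category.assoc, hρg, map_pr₁]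
    rfl
  obtain ⟨π, hπ1, hπ2⟩ : ∃ π : ((EtCoh.bc f).obj U).left ⟶ ((EtCoh.bc g₀).obj U'').left,
      π ≫ pr₁ g₀ U'' = pr₁ f U ∧
      π ≫ ((EtCoh.bc g₀).obj U'').hom = ((EtCoh.bc f).map t).left ≫ ρ :=
    ⟨pullback.lift (pr₁ f U) (((EtCoh.bc f).map t).left ≫ ρ) hcompat,
      pullback.lift_fst _ _ _, pullback.lift_snd _ _ _⟩
  have hLπ : ∀ (ξ : Spec (CommRingCat.of Ω) ⟶ X) (hξ : ξ ≫ f = η)
      (ζ : Spec (CommRingCat.of Ω) ⟶ ((EtCoh.bc f).obj U₁).left)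
      (_ : ζ = ptLeft (liftPt f ξ hξ U₁ u₁)) (hρζ : (ζ ≫ ρ) ≫ g₀ = η₁),
      ptLeft (liftPt f ξ hξ U u) ≫ π = ptLeft (liftPt g₀ (ζ ≫ ρ) hρζ U'' u'') := by
    intro ξ hξ ζ hζ hρζ
    have hLt : ptLeft (liftPt f ξ hξ U u) ≫ ((EtCoh.bc f).map t).left = ζ := by
      rw [← ptLeft_map, liftPt_map, hut, hζ]
    apply bc_hom_ext g₀ U''
    · rw [Category.assoc, hπ1, liftPt_pr₁, liftPt_pr₁, hu]
    · rw [Category.assoc, hπ2, liftPt_hom, ← Category.assoc, hLt]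
  obtain ⟨L₀, hL₀⟩ : ∃ L₀ : Spec (CommRingCat.of Ω) ⟶ ((EtCoh.bc f).obj U).left,
      L₀ = ptLeft (liftPt f ξ₀ hξ₀ U u) := ⟨_, rfl⟩
  obtain ⟨L₁, hL₁⟩ : ∃ L₁ : Spec (CommRingCat.of Ω) ⟶ ((EtCoh.bc f).obj U).left,
      L₁ = ptLeft (liftPt f ξ₁ hξ₁ U u) := ⟨_, rfl⟩
  have hL₀π : L₀ ≫ π = ptLeft (liftPt g₀ (ζ₀ ≫ ρ) hρ₀ U'' u'') := by
    rw [hL₀]; exact hLπ ξ₀ hξ₀ ζ₀ hζ₀ hρ₀
  have hL₁π : L₁ ≫ π = ptLeft (liftPt g₀ (ζ₁ ≫ ρ) hρ₁ U'' u'') := by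
    rw [hL₁]; exact hLπ ξ₁ hξ₁ ζ₁ hζ₁ hρ₁
  refine ⟨U, u, π ⁻¹ᵁ O₀, hclopen.preimage π.continuous, ?_, ?_⟩
  · rw [← hL₀]
    show π (L₀ default) ∈ O₀
    have h1 : π (L₀ default) = (L₀ ≫ π) default := (Scheme.Hom.comp_apply _ _ _).symm
    rw [h1, hL₀π]
    exact hmem
  · rw [← hL₁]
    intro hcon
    have hcon' : π (L₁ default) ∈ O₀ := hcon
    have h1 : π (L₁ default) = (L₁ ≫ π) default := (Scheme.Hom.comp_apply _ _ _).symm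
    rw [h1, hL₁π] at hcon'
    exact hρne (huniq (ζ₁ ≫ ρ) hρ₁ hcon').symm

end Groth.Agent.Lib.EtIntH7
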