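import Mathlib
import Groth.Prelude.Def_PBC
import Groth.Agent.Lib.EtIntBC2_helper7

/-!
# Base change for integral morphisms, part 3: neighbourhoods in the geometric fibre (helper7)

The topology of the geometric fibre of an integral morphism is generated by the traces of open
and closed subsets of `U ×_Y X`, for `U` running through the étale neighbourhoods of the
geometric point of the base.  We state this in a relative form, adapted to a base change.
-/

set_option autoImplicit false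
set_option backward.isDefEq.respectTransparency false
set_option linter.style.haveILetI false
set_option linter.unusedSectionVars false
universe u
open CategoryTheory CategoryTheory.Limits AlgebraicGeometry Opposite

namespace Groth.Agent.Lib.EtIntH7

open Groth.Agent.Lib.EtFinGeomH7 Groth.Agent.Lib.EtSchSite_helper7
  Groth.Agent.Lib.EtSchExact_helper7 Groth.Agent.Lib.EtFinStalkH7
  Groth.Agent.Lib.EtSchStalk_helper7

variable {Ω : Type u} [Field Ω] [IsAlgClosed Ω]

/-- Two étale neighbourhoods of a geometric point have a common refinement. -/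
theorem exists_common {S : Scheme.{u}} {η : Spec (CommRingCat.of Ω) ⟶ S} (U V : S.Etale)
    (u : (Scheme.pointSmallEtale η).fiber.obj U) (v : (Scheme.pointSmallEtale η).fiber.obj V) :
    ∃ (W : S.Etale) (w : (Scheme.pointSmallEtale η).fiber.obj W) (a : W ⟶ U) (b : W ⟶ V),
      (Scheme.pointSmallEtale η).fiber.map a w = u ∧
      (Scheme.pointSmallEtale η).fiber.map b w = v := by
  obtain ⟨e₁, he₁⟩ : ∃ e₁ : (Scheme.pointSmallEtale η).fiber.Elements,
      e₁ = (Scheme.pointSmallEtale η).fiber.elementsMk U u := ⟨_, rfl⟩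
  obtain ⟨e₂, he₂⟩ : ∃ e₂ : (Scheme.pointSmallEtale η).fiber.Elements,
      e₂ = (Scheme.pointSmallEtale η).fiber.elementsMk V v := ⟨_, rfl⟩
  have h1 := (IsCofiltered.minToLeft e₁ e₂).2
  have h2 := (IsCofiltered.minToRight e₁ e₂).2
  rw [he₁] at h1
  rw [he₂] at h2
  refine ⟨(IsCofiltered.min e₁ e₂).1, (IsCofiltered.min e₁ e₂).2,
    eqToHom rfl ≫ (IsCofiltered.minToLeft e₁ e₂).1 ≫ eqToHom (congrArg Sigma.fst he₁),
    eqToHom rfl ≫ (IsCofiltered.minToRight e₁ e₂).1 ≫ eqToHom (congrArg Sigma.fst he₂), ?_, ?_⟩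
  · subst he₁
    simpa using h1
  · subst he₂
    simpa using h2

section Fib

variable {X Y : Scheme.{u}} (f : X ⟶ Y)
  {η : Spec (CommRingCat.of Ω) ⟶ Y} {T : Scheme.{u}} (a : T ⟶ X)
  (b : T ⟶ Spec (CommRingCat.of Ω)) (hab : a ≫ f = b ≫ η)

/-- The map from a "geometric fibre" `T` to `U ×_Y X`. -/
noncomputable def toBC (U : Y.Etale) (u : (Scheme.pointSmallEtale η).fiber.obj U) :
    T ⟶ ((EtCoh.bc f).obj U).left :=
  pullback.lift (b ≫ ptLeft u) a (by rw [Category.assoc, ptLeft_hom, hab])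

theorem toBC_pr₁ (U : Y.Etale) (u : (Scheme.pointSmallEtale η).fiber.obj U) :
    toBC f a b hab U u ≫ pr₁ f U = b ≫ ptLeft u := pullback.lift_fst _ _ _

theorem toBC_hom (U : Y.Etale) (u : (Scheme.pointSmallEtale η).fiber.obj U) :
    toBC f a b hab U u ≫ ((EtCoh.bc f).obj U).hom = a := pullback.lift_snd _ _ _

theorem toBC_map {U U' : Y.Etale} (t : U' ⟶ U) (u' : (Scheme.pointSmallEtale η).fiber.obj U') :
    toBC f a b hab U' u' ≫ ((EtCoh.bc f).map t).left =
      toBC f a b hab U ((Scheme.pointSmallEtale η).fiber.map t u') := by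
  apply bc_hom_ext f U
  · rw [Category.assoc, map_pr₁, ← Category.assoc, toBC_pr₁, toBC_pr₁, Category.assoc,
      ptLeft_map]
  · rw [Category.assoc, map_hom, toBC_hom, toBC_hom]

theorem sec_toBC (U : Y.Etale) (u : (Scheme.pointSmallEtale η).fiber.obj U)
    (σ : Spec (CommRingCat.of Ω) ⟶ T) (hσ : σ ≫ b = 𝟙 _) (hξ : (σ ≫ a) ≫ f = η) :
    σ ≫ toBC f a b hab U u = ptLeft (liftPt f (σ ≫ a) hξ U u) := by
  apply bc_hom_ext f U
  · rw [Category.assoc, toBC_pr₁, ← Category.assoc, hσ, Category.id_comp, liftPt_pr₁]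
  · rw [Category.assoc, toBC_hom, liftPt_hom]

theorem sec_toBC_apply (U : Y.Etale) (u : (Scheme.pointSmallEtale η).fiber.obj U)
    (σ : Spec (CommRingCat.of Ω) ⟶ T) (hσ : σ ≫ b = 𝟙 _) (hξ : (σ ≫ a) ≫ f = η) :
    toBC f a b hab U u (σ default) = ptLeft (liftPt f (σ ≫ a) hξ U u) default :=
  (Scheme.Hom.comp_apply _ _ _).symm.trans
    (congrArg (fun (m : Spec (CommRingCat.of Ω) ⟶ ((EtCoh.bc f).obj U).left) => m default)
      (sec_toBC f a b hab U u σ hσ hξ))

end Fib

section Rel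

variable {X Y X' Y' : Scheme.{u}} (f : X ⟶ Y) (g : Y' ⟶ Y) (f' : X' ⟶ Y') (g' : X' ⟶ X)

/-- The abstract form of the neighbourhood lemma: `T` plays the role of the geometric fibre. -/
theorem nbhd_aux [IsIntegralHom f] (h : IsPullback g' f' f g)
    (η' : Spec (CommRingCat.of Ω) ⟶ Y') {T : Scheme.{u}} [CompactSpace T] (a' : T ⟶ X')
    (b : T ⟶ Spec (CommRingCat.of Ω)) (hab' : a' ≫ f' = b ≫ η')
    (hsec : ∀ t : T, ∃ σ : Spec (CommRingCat.of Ω) ⟶ T, σ ≫ b = 𝟙 _ ∧ σ default = t)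
    (U' : Y'.Etale) (u' : (Scheme.pointSmallEtale η').fiber.obj U')
    (O' : ((EtCoh.bc f').obj U').left.Opens) (p₀ : T)
    (hp₀ : toBC f' a' b hab' U' u' p₀ ∈ O') :
    ∃ (U : Y.Etale) (u : (Scheme.pointSmallEtale (η' ≫ g)).fiber.obj U)
      (O : ((EtCoh.bc f).obj U).left.Opens),
      IsClopen (O : Set ((EtCoh.bc f).obj U).left) ∧
      toBC f (a' ≫ g') b (by rw [Category.assoc, h.w, ← Category.assoc, hab', Category.assoc])
        U u p₀ ∈ O ∧
      ∀ p : T, toBC f (a' ≫ g') b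
        (by rw [Category.assoc, h.w, ← Category.assoc, hab', Category.assoc]) U u p ∈ O →
        toBC f' a' b hab' U' u' p ∈ O' := by
  have hab : (a' ≫ g') ≫ f = b ≫ (η' ≫ g) := by
    rw [Category.assoc, h.w, ← Category.assoc, hab', Category.assoc]
  -- sections
  choose σ hσb hσt using hsec
  have hσf' : ∀ t, (σ t ≫ a') ≫ f' = η' := fun t => by
    rw [Category.assoc, hab', ← Category.assoc, hσb, Category.id_comp]
  have hσf : ∀ t, (σ t ≫ (a' ≫ g')) ≫ f = η' ≫ g := fun t => by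
    rw [Category.assoc, hab, ← Category.assoc, hσb, Category.id_comp]
  -- the complement of the preimage of `O'`
  obtain ⟨K, hK⟩ : ∃ K : Set T, K = {p | toBC f' a' b hab' U' u' p ∉ O'} := ⟨_, rfl⟩
  have hKclosed : IsClosed K := by
    rw [hK]
    exact (O'.isOpen.preimage (toBC f' a' b hab' U' u').continuous).isClosed_compl
  have hKcompact : IsCompact K := hKclosed.isCompact
  -- separation
  have hsep : ∀ t : K, ∃ (U : Y.Etale) (u : (Scheme.pointSmallEtale (η' ≫ g)).fiber.obj U)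
      (V : ((EtCoh.bc f).obj U).left.Opens),
      IsClopen (V : Set ((EtCoh.bc f).obj U).left) ∧
      toBC f (a' ≫ g') b hab U u p₀ ∈ V ∧ toBC f (a' ≫ g') b hab U u t.1 ∉ V := by
    rintro ⟨t, ht⟩
    rw [hK] at ht
    have hne' : σ p₀ ≫ a' ≠ σ t ≫ a' := by
      intro heq
      apply ht
      have h1 := sec_toBC_apply f' a' b hab' U' u' (σ t) (hσb t) (hσf' t)
      have h2 := sec_toBC_apply f' a' b hab' U' u' (σ p₀) (hσb p₀) (hσf' p₀)
      rw [hσt] at h1 h2
      show toBC f' a' b hab' U' u' t ∈ O'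
      rw [h1]
      have h3 : ptLeft (liftPt f' (σ t ≫ a') (hσf' t) U' u') =
          ptLeft (liftPt f' (σ p₀ ≫ a') (hσf' p₀) U' u') := by
        apply bc_hom_ext f' U'
        · rw [liftPt_pr₁, liftPt_pr₁]
        · rw [liftPt_hom, liftPt_hom, heq]
      rw [h3, ← h2]
      exact hp₀
    have hne : σ p₀ ≫ (a' ≫ g') ≠ σ t ≫ (a' ≫ g') := by
      intro heq
      apply hne'
      apply h.hom_ext
      · rw [Category.assoc, Category.assoc]
        exact heq
      · rw [hσf' p₀, hσf' t]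
    obtain ⟨U, u, V, hV, hV0, hV1⟩ := sep_int f (σ p₀ ≫ (a' ≫ g')) (σ t ≫ (a' ≫ g'))
      (hσf p₀) (hσf t) hne
    refine ⟨U, u, V, hV, ?_, ?_⟩
    · have h2 := sec_toBC_apply f (a' ≫ g') b hab U u (σ p₀) (hσb p₀) (hσf p₀)
      rw [hσt] at h2
      rw [h2]
      exact hV0
    · have h1 := sec_toBC_apply f (a' ≫ g') b hab U u (σ t) (hσb t) (hσf t)
      rw [hσt] at h1
      show toBC f (a' ≫ g') b hab U u t ∉ V
      rw [h1]
      exact hV1
  choose Ut ut Vt hVclopen hV0 hV1 using hsep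
  -- finite subcover
  have hopen : ∀ t : K, IsOpen {p : T | toBC f (a' ≫ g') b hab (Ut t) (ut t) p ∉ Vt t} :=
    fun t => ((hVclopen t).compl.isOpen.preimage
      (toBC f (a' ≫ g') b hab (Ut t) (ut t)).continuous)
  have hcover : K ⊆ ⋃ t : K, {p : T | toBC f (a' ≫ g') b hab (Ut t) (ut t) p ∉ Vt t} := by
    intro p hp
    exact Set.mem_iUnion.2 ⟨⟨p, hp⟩, hV1 ⟨p, hp⟩⟩
  obtain ⟨S, hS⟩ := hKcompact.elim_finite_subcover _ hopen hcover
  -- induction
  have hind : ∀ S : Finset K, ∃ (U : Y.Etale)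
      (u : (Scheme.pointSmallEtale (η' ≫ g)).fiber.obj U)
      (O : ((EtCoh.bc f).obj U).left.Opens),
      IsClopen (O : Set ((EtCoh.bc f).obj U).left) ∧
      toBC f (a' ≫ g') b hab U u p₀ ∈ O ∧
      ∀ p : T, toBC f (a' ≫ g') b hab U u p ∈ O →
        ∀ t ∈ S, toBC f (a' ≫ g') b hab (Ut t) (ut t) p ∈ Vt t := by
    intro S
    classical
    induction S using Finset.induction_on with
    | empty =>
      refine ⟨Scheme.Etale.mk (𝟙 Y), Over.homMk (η' ≫ g) (Category.comp_id _), ⊤,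
        isClopen_univ, trivial, ?_⟩
      intro p _ t ht
      exact absurd ht (Finset.notMem_empty t)
    | insert t S _ ih =>
      obtain ⟨U, u, O, hO, hO0, hO1⟩ := ih
      obtain ⟨W, w, c, d, hc, hd⟩ := exists_common U (Ut t) u (ut t)
      have hmc := toBC_map f (a' ≫ g') b hab c w
      have hmd := toBC_map f (a' ≫ g') b hab d w
      rw [hc] at hmc
      rw [hd] at hmd
      have hmc' : ∀ p : T, ((EtCoh.bc f).map c).left (toBC f (a' ≫ g') b hab W w p) =
          toBC f (a' ≫ g') b hab U u p := fun p =>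
        (Scheme.Hom.comp_apply _ _ _).symm.trans
          (congrArg (fun (m : T ⟶ ((EtCoh.bc f).obj U).left) => m p) hmc)
      have hmd' : ∀ p : T, ((EtCoh.bc f).map d).left (toBC f (a' ≫ g') b hab W w p) =
          toBC f (a' ≫ g') b hab (Ut t) (ut t) p := fun p =>
        (Scheme.Hom.comp_apply _ _ _).symm.trans
          (congrArg (fun (m : T ⟶ ((EtCoh.bc f).obj (Ut t)).left) => m p) hmd)
      refine ⟨W, w, ((EtCoh.bc f).map c).left ⁻¹ᵁ O ⊓ ((EtCoh.bc f).map d).left ⁻¹ᵁ (Vt t),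
        (hO.preimage ((EtCoh.bc f).map c).left.continuous).inter
          ((hVclopen t).preimage ((EtCoh.bc f).map d).left.continuous), ?_, ?_⟩
      · refine ⟨?_, ?_⟩
        · show ((EtCoh.bc f).map c).left (toBC f (a' ≫ g') b hab W w p₀) ∈ O
          rw [hmc']
          exact hO0
        · show ((EtCoh.bc f).map d).left (toBC f (a' ≫ g') b hab W w p₀) ∈ Vt t
          rw [hmd']
          exact hV0 t
      · rintro p ⟨hp1, hp2⟩ t' ht'
        have hp1' : ((EtCoh.bc f).map c).left (toBC f (a' ≫ g') b hab W w p) ∈ O := hp1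
        have hp2' : ((EtCoh.bc f).map d).left (toBC f (a' ≫ g') b hab W w p) ∈ Vt t := hp2
        rw [hmc'] at hp1'
        rw [hmd'] at hp2'
        rcases Finset.mem_insert.1 ht' with rfl | hmem
        · exact hp2'
        · exact hO1 p hp1' t' hmem
  obtain ⟨U, u, O, hO, hO0, hO1⟩ := hind S
  refine ⟨U, u, O, hO, hO0, ?_⟩
  intro p hp
  by_contra hnot
  have hpK : p ∈ K := by rw [hK]; exact hnot
  obtain ⟨t, htS, hpt⟩ : ∃ t ∈ S, toBC f (a' ≫ g') b hab (Ut t) (ut t) p ∉ Vt t := by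
    have := hS hpK
    simp only [Set.mem_iUnion] at this
    obtain ⟨t, htS, hpt⟩ := this
    exact ⟨t, htS, hpt⟩
  exact hpt (hO1 p hp t htS)

end Rel

end Groth.Agent.Lib.EtIntH7
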