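import Mathlib
import Groth.Prelude.Def_SGA4b
import Groth.Agent.Lib.EtImmStalk_helper7
import Groth.Agent.Lib.EtClosedPush_helper7

/-!
# Direct image of étale sheaves of sets along a closed immersion (helper7)
-/

set_option autoImplicit false
set_option backward.isDefEq.respectTransparency false
universe u
open CategoryTheory CategoryTheory.Limits AlgebraicGeometry Opposite

namespace Groth.Agent.Lib.EtClosedPushSh_helper7

open Groth.Agent.Lib.EtSchSite_helper7 Groth.Agent.Lib.PointComapCounit_helper7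
  Groth.Agent.Lib.EtClosedStalk_helper7 Groth.Agent.Lib.EtSchPullConserv_helper7
  Groth.Agent.Lib.EtImmStalk_helper7 Groth.Agent.Lib.EtSchExact_helper7

/-- A morphism of sheaves of sets which is bijective on the stalks at the chosen geometric points
is an isomorphism. -/
theorem isIso_of_bijective_stalks {X : Scheme.{u}} {F G : EtDesc.Sh X} (φ : F ⟶ G)
    (h : ∀ x : X, Function.Bijective
      ((Scheme.pointSmallEtale (geomPt x)).presheafFiber.map φ.hom)) : IsIso φ := by
  obtain ⟨ξ, hξdef⟩ : ∃ ξ : ∀ z : X,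
      Spec (CommRingCat.of (AlgebraicClosure (X.residueField z))) ⟶ X, ξ = fun z => geomPt z :=
    ⟨_, rfl⟩
  have hs : ∀ z : X, ∃ z' : X, ξ z' default = z := by
    intro z
    exact ⟨z, by rw [hξdef]; exact geomPt_default z⟩
  have h' : ∀ x : X, Function.Bijective
      ((Scheme.pointSmallEtale (ξ x)).presheafFiber.map φ.hom) := by
    intro x; rw [hξdef]; exact h x
  haveI : Sheaf.IsLocallyInjective φ :=
    isLocallyInjective_of_family ξ hs φ.hom (fun z => (h' z).1)
  haveI : Sheaf.IsLocallySurjective φ :=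
    isLocallySurjective_of_family ξ hs φ.hom (fun z => (h' z).2)
  exact (Sheaf.isLocallyBijective_iff_isIso _).1 ⟨inferInstance, inferInstance⟩

/-- Sections of a sheaf of sets over an empty étale scheme form a singleton. -/
theorem unique_sections_of_isEmpty {Z : Scheme.{u}} (G : EtDesc.Sh Z) (V : Z.Etale)
    [IsEmpty V.left] : Nonempty (Unique (G.obj.obj (op V))) := by
  have hbot : (⊥ : Sieve V) ∈ Z.smallEtaleTopology V := by
    apply sieve_mem_of_forall_exists
    intro w
    exact isEmptyElim w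
  have hsh : Presieve.IsSheaf Z.smallEtaleTopology G.obj :=
    (isSheaf_iff_isSheaf_of_type _ _).1 G.2
  have h1 := hsh (⊥ : Sieve V) hbot
  let x : Presieve.FamilyOfElements G.obj (⊥ : Sieve V).arrows := fun Y f hf => hf.elim
  have hx : x.Compatible := fun Y₁ Y₂ W g₁ g₂ f₁ f₂ h₁ => h₁.elim
  refine ⟨⟨⟨h1.amalgamate x hx⟩, fun a => ?_⟩⟩
  exact h1.isSeparatedFor.ext (fun Y f hf => hf.elim)

variable {Z X : Scheme.{u}} (i : Z ⟶ X) [IsClosedImmersion i]

/-- The stalk of `i_* G` at a geometric point outside the closed subscheme is a singleton. -/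
theorem stalk_push_singleton (G : EtDesc.Sh Z) {Ω : Type u} [Field Ω] [IsSepClosed Ω]
    (ξ : Spec (CommRingCat.of Ω) ⟶ X)
    (hξ : Disjoint (Set.range ξ.base) (Set.range i.base)) :
    Subsingleton ((Scheme.pointSmallEtale ξ).presheafFiber.obj ((EtDesc.pushSh i).obj G).obj) ∧
    Nonempty ((Scheme.pointSmallEtale ξ).presheafFiber.obj ((EtDesc.pushSh i).obj G).obj) := by
  -- shrinking an étale neighbourhood away from the closed subscheme
  have shrink : ∀ (U : X.Etale) (x : (Scheme.pointSmallEtale ξ).fiber.obj U),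
      ∃ (U' : X.Etale) (f : U' ⟶ U) (x' : (Scheme.pointSmallEtale ξ).fiber.obj U'),
        (Scheme.pointSmallEtale ξ).fiber.map f x' = x ∧ IsEmpty ((EtCoh.bc i).obj U').left := by
    intro U x
    let W : U.left.Opens := ⟨(U.hom ⁻¹' (Set.range i))ᶜ,
      (i.isClosedEmbedding.isClosed_range.preimage U.hom.continuous).isOpen_compl⟩
    haveI : Etale (W.ι ≫ U.hom) := inferInstance
    let U' : X.Etale := Scheme.Etale.mk (W.ι ≫ U.hom)
    let f : U' ⟶ U := MorphismProperty.Over.homMk W.ι rfl trivial
    have hxξ : x.left ≫ U.hom = ξ := Over.w x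
    have hrange : Set.range x.left ⊆ Set.range W.ι := by
      rw [Scheme.Opens.range_ι]
      rintro _ ⟨a, rfl⟩
      intro (ha : U.hom (x.left a) ∈ Set.range i)
      have h1 : U.hom (x.left a) = ξ a :=
        congrArg (fun (m : Spec (CommRingCat.of Ω) ⟶ X) => m a) hxξ
      rw [h1] at ha
      exact Set.disjoint_left.1 hξ ⟨a, rfl⟩ ha
    have hw : IsOpenImmersion.lift W.ι x.left hrange ≫ (W.ι ≫ U.hom) = ξ := by
      rw [← Category.assoc, IsOpenImmersion.lift_fac, hxξ]
    refine ⟨U', f, Over.homMk (IsOpenImmersion.lift W.ι x.left hrange) hw, ?_, ?_⟩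
    · apply Over.OverMorphism.ext
      exact IsOpenImmersion.lift_fac _ _ _
    · show IsEmpty ↥(pullback (W.ι ≫ U.hom) i)
      rw [Scheme.isEmpty_pullback_iff, Set.disjoint_left]
      rintro _ ⟨w, rfl⟩ hw'
      have h2 : (W.ι ≫ U.hom) w = U.hom (W.ι w) := Scheme.Hom.comp_apply _ _ _
      rw [h2] at hw'
      exact w.2 hw'
  constructor
  · refine ⟨fun a b => ?_⟩
    obtain ⟨U, x, z₁, z₂, rfl, rfl⟩ :=
      (Scheme.pointSmallEtale ξ).toPresheafFiber_jointly_surjective₂
        (P := ((EtDesc.pushSh i).obj G).obj) a b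
    obtain ⟨U', f, x', hx', hempty⟩ := shrink U x
    obtain ⟨hun⟩ := unique_sections_of_isEmpty G ((EtCoh.bc i).obj U')
    have hz : ((EtDesc.pushSh i).obj G).obj.map f.op z₁ =
        ((EtDesc.pushSh i).obj G).obj.map f.op z₂ :=
      (hun.uniq _).trans (hun.uniq _).symm
    rw [← hx', ← (Scheme.pointSmallEtale ξ).toPresheafFiber_w_apply f x'
      ((EtDesc.pushSh i).obj G).obj z₁, ← (Scheme.pointSmallEtale ξ).toPresheafFiber_w_apply f x'
      ((EtDesc.pushSh i).obj G).obj z₂, hz]
  · obtain ⟨U', f, x', hx', hempty⟩ := shrink (EtCoh.top X) (Over.homMk ξ (Category.comp_id _))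
    obtain ⟨hun⟩ := unique_sections_of_isEmpty G ((EtCoh.bc i).obj U')
    exact ⟨(Scheme.pointSmallEtale ξ).toPresheafFiber U' x' ((EtDesc.pushSh i).obj G).obj
      hun.default⟩

/-- The stalk of the terminal sheaf is a singleton. -/
theorem unique_stalk_terminal {U : Scheme.{u}} {Ω : Type u} [Field Ω] [IsSepClosed Ω]
    (ξ : Spec (CommRingCat.of Ω) ⟶ U) :
    Nonempty (Unique (((Scheme.pointSmallEtale ξ).sheafFiber (A := Type (u + 1))).obj
      (⊤_ (EtDesc.Sh U)))) :=
  ⟨Types.isTerminalEquivUnique _ (IsTerminal.isTerminalObj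
    ((Scheme.pointSmallEtale ξ).sheafFiber (A := Type (u + 1))) _ terminalIsTerminal)⟩

theorem bijective_of_singletons {α β : Type*} (f : α → β) (h1 : Subsingleton α) (h2 : Nonempty α)
    (h3 : Subsingleton β) : Function.Bijective f :=
  ⟨fun a b _ => Subsingleton.elim a b, fun b => ⟨Classical.arbitrary α, Subsingleton.elim _ _⟩⟩

theorem full_faithful_sh : (EtDesc.pushSh i).Full ∧ (EtDesc.pushSh i).Faithful := by
  haveI : ∀ G, IsIso ((EtDesc.adjSh i).counit.app G) := isIso_counit_sh i
  haveI : IsIso (EtDesc.adjSh i).counit := NatIso.isIso_of_isIso_app _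
  have ff := (EtDesc.adjSh i).fullyFaithfulROfIsIsoCounit
  exact ⟨ff.full, ff.faithful⟩

variable {U : Scheme.{u}} (j : U ⟶ X) [IsOpenImmersion j]
  (hU : Set.range j.base = (Set.range i.base)ᶜ)

include hU in
theorem disjoint_of_comp {Ω : Type u} [Field Ω] (ξ' : Spec (CommRingCat.of Ω) ⟶ U) :
    Disjoint (Set.range (ξ' ≫ j).base) (Set.range i.base) := by
  rw [Set.disjoint_left]
  rintro _ ⟨a, rfl⟩ h
  have h1 : (ξ' ≫ j).base a ∈ Set.range j.base := ⟨ξ'.base a, rfl⟩
  rw [hU] at h1
  exact h1 h

include hU in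
theorem essImage_iff_sh (F : EtDesc.Sh X) :
    (EtDesc.pushSh i).essImage F ↔ IsIso (terminal.from ((EtDesc.pullSh j).obj F)) := by
  constructor
  · rintro ⟨G, ⟨e⟩⟩
    apply isIso_of_bijective_stalks
    intro y
    have hdis := disjoint_of_comp i j hU (geomPt y)
    obtain ⟨hs1, hs2⟩ := stalk_push_singleton i G (geomPt y ≫ j) hdis
    -- the source stalk is a singleton
    let e1 : ((Scheme.pointSmallEtale (geomPt y)).sheafFiber (A := Type (u + 1))).obj
        ((EtDesc.pullSh j).obj F) ≅
        ((Scheme.pointSmallEtale (geomPt y ≫ j)).sheafFiber (A := Type (u + 1))).obj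
          ((EtDesc.pushSh i).obj G) :=
      (stalkPullIsoSh j (geomPt y)).app F ≪≫
        ((Scheme.pointSmallEtale (geomPt y ≫ j)).sheafFiber (A := Type (u + 1))).mapIso e.symm
    have hs1' : Subsingleton (((Scheme.pointSmallEtale (geomPt y ≫ j)).sheafFiber
        (A := Type (u + 1))).obj ((EtDesc.pushSh i).obj G)) := hs1
    have hs2' : Nonempty (((Scheme.pointSmallEtale (geomPt y ≫ j)).sheafFiber
        (A := Type (u + 1))).obj ((EtDesc.pushSh i).obj G)) := hs2
    obtain ⟨hun⟩ := unique_stalk_terminal (geomPt y)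
    exact bijective_of_singletons _ (@Equiv.subsingleton _ _ e1.toEquiv hs1')
      (@Equiv.nonempty _ _ e1.toEquiv hs2') ⟨fun a b => (hun.uniq a).trans (hun.uniq b).symm⟩
  · intro hiso
    suffices h : IsIso ((EtDesc.adjSh i).unit.app F) from
      ⟨(EtDesc.pullSh i).obj F, ⟨(asIso ((EtDesc.adjSh i).unit.app F)).symm⟩⟩
    apply isIso_of_bijective_stalks
    intro x
    by_cases hmem : (geomPt x) (default : ↥(Spec (CommRingCat.of
        (AlgebraicClosure (X.residueField x))))) ∈ Set.range i
    · obtain ⟨ζ, hζ⟩ := EtClosedPush_helper7.exists_lift_of_mem_range i (geomPt x) hmem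
      rw [← hζ]
      haveI : IsIso ((EtDesc.pullSh i).map ((EtDesc.adjSh i).unit.app F)) := by
        have h4 := (EtDesc.adjSh i).left_triangle_components F
        haveI := isIso_counit_sh i ((EtDesc.pullSh i).obj F)
        haveI : IsIso ((EtDesc.pullSh i).map ((EtDesc.adjSh i).unit.app F) ≫
            (EtDesc.adjSh i).counit.app ((EtDesc.pullSh i).obj F)) := by
          rw [h4]; exact IsIso.id _
        exact IsIso.of_isIso_comp_right _
          ((EtDesc.adjSh i).counit.app ((EtDesc.pullSh i).obj F))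
      haveI : IsIso ((EtDesc.pullSh i ⋙
          (Scheme.pointSmallEtale ζ).sheafFiber (A := Type (u + 1))).map
          ((EtDesc.adjSh i).unit.app F)) := by
        show IsIso (((Scheme.pointSmallEtale ζ).sheafFiber (A := Type (u + 1))).map
          ((EtDesc.pullSh i).map ((EtDesc.adjSh i).unit.app F)))
        infer_instance
      haveI : IsIso (((Scheme.pointSmallEtale (ζ ≫ i)).sheafFiber (A := Type (u + 1))).map
          ((EtDesc.adjSh i).unit.app F)) :=
        (NatIso.isIso_map_iff (stalkPullIsoSh i ζ) _).1 inferInstance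
      exact (isIso_iff_bijective _).1 this
    · have hmem' : (geomPt x) (default : ↥(Spec (CommRingCat.of
          (AlgebraicClosure (X.residueField x))))) ∈ Set.range j := by
        have : (geomPt x) (default : ↥(Spec (CommRingCat.of
          (AlgebraicClosure (X.residueField x))))) ∈ (Set.range i.base)ᶜ := hmem
        rw [← hU] at this
        exact this
      have hrange : Set.range (geomPt x) ⊆ Set.range j := by
        rintro _ ⟨a, rfl⟩
        rwa [Subsingleton.elim a default]
      obtain ⟨ξ', hξ'⟩ : ∃ ξ' : Spec (CommRingCat.of (AlgebraicClosure (X.residueField x))) ⟶ U,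
          ξ' ≫ j = geomPt x := ⟨IsOpenImmersion.lift j (geomPt x) hrange,
            IsOpenImmersion.lift_fac _ _ _⟩
      rw [← hξ']
      have hdis := disjoint_of_comp i j hU ξ'
      obtain ⟨hs1, hs2⟩ := stalk_push_singleton i ((EtDesc.pullSh i).obj F) (ξ' ≫ j) hdis
      obtain ⟨hun⟩ := unique_stalk_terminal ξ'
      let e1 : ((Scheme.pointSmallEtale (ξ' ≫ j)).sheafFiber (A := Type (u + 1))).obj F ≅
          ((Scheme.pointSmallEtale ξ').sheafFiber (A := Type (u + 1))).obj (⊤_ (EtDesc.Sh U)) :=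
        ((stalkPullIsoSh j ξ').app F).symm ≪≫
          ((Scheme.pointSmallEtale ξ').sheafFiber (A := Type (u + 1))).mapIso
            (asIso (terminal.from ((EtDesc.pullSh j).obj F)))
      have ht1 : Subsingleton (((Scheme.pointSmallEtale ξ').sheafFiber (A := Type (u + 1))).obj
          (⊤_ (EtDesc.Sh U))) := ⟨fun a b => (hun.uniq a).trans (hun.uniq b).symm⟩
      have ht2 : Nonempty (((Scheme.pointSmallEtale ξ').sheafFiber (A := Type (u + 1))).obj
          (⊤_ (EtDesc.Sh U))) := ⟨hun.default⟩
      exact bijective_of_singletons _ (@Equiv.subsingleton _ _ e1.toEquiv ht1)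
        (@Equiv.nonempty _ _ e1.toEquiv ht2) hs1

end Groth.Agent.Lib.EtClosedPushSh_helper7
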