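import Mathlib
import Groth.Prelude.Def_SGA4b
import Groth.Agent.Lib.EtFinStalk2_helper7
import Groth.Agent.Lib.EtClosedPushSh_helper7

/-!
# Stalks of the direct image of an étale sheaf of sets along a finite morphism (helper7)
-/

set_option autoImplicit false
set_option backward.isDefEq.respectTransparency false
set_option linter.style.haveILetI false
universe u
open CategoryTheory CategoryTheory.Limits AlgebraicGeometry Opposite

namespace Groth.Agent.Lib.EtFinStalkShH7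

open Groth.Agent.Lib.EtFinGeomH7 Groth.Agent.Lib.EtSchSite_helper7
  Groth.Agent.Lib.EtSchExact_helper7 Groth.Agent.Lib.EtFinStalkH7
  Groth.Agent.Lib.EtClosedPushSh_helper7

section Glue

variable {X : Scheme.{u}}

theorem map_comp_applyS (F : EtDesc.Sh X) {A B C : X.Etale} (f : A ⟶ B) (g : B ⟶ C)
    (τ : F.obj.obj (op C)) :
    F.obj.map (f ≫ g).op τ = F.obj.map f.op (F.obj.map g.op τ) := by
  rw [op_comp, CategoryTheory.Functor.map_comp]
  rfl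

/-- Gluing sections along a disjoint open cover. -/
theorem glue_disjoint (F : EtDesc.Sh X) (P : X.Etale) {ι : Type*} (O : ι → P.left.Opens)
    (hcov : ∀ p : P.left, ∃ i, p ∈ O i)
    (hdisj : ∀ (i j : ι) (p : P.left), p ∈ O i → p ∈ O j → i = j)
    (τ : ∀ i, F.obj.obj (op (subE P (O i)))) :
    ∃ s : F.obj.obj (op P), ∀ i, F.obj.map (subι P (O i)).op s = τ i := by
  have hcovmem : Sieve.ofArrows (fun i => subE P (O i)) (fun i => subι P (O i)) ∈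
      X.smallEtaleTopology P := by
    apply sieve_mem_of_forall_exists
    intro p
    obtain ⟨i, hi⟩ := hcov p
    refine ⟨subE P (O i), subι P (O i),
      Sieve.ofArrows_mk (fun i => subE P (O i)) (fun i => subι P (O i)) i, ?_⟩
    show p ∈ Set.range (O i).ι
    rw [Scheme.Opens.range_ι]
    exact hi
  have hQ : Presieve.IsSheaf X.smallEtaleTopology F.obj :=
    (isSheaf_iff_isSheaf_of_type _ _).1 F.2
  have hsh : Presieve.IsSheafFor F.obj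
      (Presieve.ofArrows (fun i => subE P (O i)) (fun i => subι P (O i))) :=
    (Presieve.isSheafFor_iff_generate _).2 (hQ _ hcovmem)
  rw [Presieve.isSheafFor_arrows_iff] at hsh
  obtain ⟨r, hr, -⟩ := hsh τ (by
    intro i j Z gi gj hij
    by_cases h : i = j
    · subst h
      have : gi = gj := (cancel_mono (subι P (O i))).1 hij
      rw [this]
    · haveI : IsEmpty Z.left := ⟨fun z => h (hdisj i j ((O i).ι (gi.left z)) (gi.left z).2 (by
          have h1 : (O i).ι (gi.left z) = (O j).ι (gj.left z) :=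
            congrArg (fun (m : Z ⟶ P) => m.left z) hij
          rw [h1]
          exact (gj.left z).2))⟩
      obtain ⟨hu⟩ := unique_sections_of_isEmpty F Z
      exact (hu.uniq _).trans (hu.uniq _).symm)
  exact ⟨r, hr⟩

/-- The largest open on which two sections agree. -/
theorem exists_opens_agree (F : EtDesc.Sh X) (U : X.Etale) (σ σ' : F.obj.obj (op U)) :
    ∃ W : U.left.Opens, ∀ (V : X.Etale) (φ : V ⟶ U),
      F.obj.map φ.op σ = F.obj.map φ.op σ' ↔ Set.range φ.left.base ⊆ (W : Set U.left) := by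
  let Wset : Set U.left := {x | ∃ (V : X.Etale) (φ : V ⟶ U),
    F.obj.map φ.op σ = F.obj.map φ.op σ' ∧ x ∈ Set.range φ.left}
  have hopen : IsOpen Wset := by
    rw [isOpen_iff_forall_mem_open]
    rintro x ⟨V, φ, hφ, hx⟩
    exact ⟨Set.range φ.left, fun y hy => ⟨V, φ, hφ, hy⟩,
      φ.left.isOpenMap.isOpen_range, hx⟩
  refine ⟨⟨Wset, hopen⟩, fun V φ => ⟨?_, ?_⟩⟩
  · rintro h _ ⟨v, rfl⟩
    exact ⟨V, φ, h, v, rfl⟩
  · intro h
    have hQ : Presieve.IsSheaf X.smallEtaleTopology F.obj :=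
      (isSheaf_iff_isSheaf_of_type _ _).1 F.2
    let R : Sieve V :=
      { arrows := fun P a => F.obj.map a.op (F.obj.map φ.op σ) = F.obj.map a.op (F.obj.map φ.op σ')
        downward_closed := by
          intro P Q a ha b
          show F.obj.map (b ≫ a).op (F.obj.map φ.op σ) = F.obj.map (b ≫ a).op (F.obj.map φ.op σ')
          rw [map_comp_applyS, map_comp_applyS, ha] }
    have hR : R ∈ X.smallEtaleTopology V := by
      apply sieve_mem_of_forall_exists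
      intro v
      obtain ⟨V₁, φ₁, hφ₁, v₁, hv₁⟩ := h ⟨v, rfl⟩
      obtain ⟨P, a, b, z, hab, hz1, hz2⟩ := exists_prod φ φ₁ v v₁ hv₁.symm
      refine ⟨P, a, ?_, ⟨z, hz1⟩⟩
      show F.obj.map a.op (F.obj.map φ.op σ) = F.obj.map a.op (F.obj.map φ.op σ')
      rw [← map_comp_applyS, ← map_comp_applyS, hab, map_comp_applyS, map_comp_applyS, hφ₁]
    exact (hQ R hR).isSeparatedFor.ext (fun P a ha => ha)

end Glue

variable {X Y : Scheme.{u}} (f : X ⟶ Y) {Ω : Type u} [Field Ω] [IsAlgClosed Ω]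

section Psi

variable (F : EtDesc.Sh X) {η : Spec (CommRingCat.of Ω) ⟶ Y}

/-- The map `(f_* F)_η ⟶ F_ξ` for a geometric point `ξ` over `η`. -/
noncomputable def psiS (ξ : Spec (CommRingCat.of Ω) ⟶ X) (hξ : ξ ≫ f = η) :
    (Scheme.pointSmallEtale η).presheafFiber.obj ((EtDesc.pushSh f).obj F).obj ⟶
      (Scheme.pointSmallEtale ξ).presheafFiber.obj F.obj :=
  (Scheme.pointSmallEtale η).presheafFiberDesc (P := ((EtDesc.pushSh f).obj F).obj)
    (fun U u => (Scheme.pointSmallEtale ξ).toPresheafFiber ((EtCoh.bc f).obj U)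
      (liftPt f ξ hξ U u) F.obj)
    (by
      intro U' U t u'
      rw [← liftPt_map]
      exact (Scheme.pointSmallEtale ξ).toPresheafFiber_w ((EtCoh.bc f).map t)
        (liftPt f ξ hξ U' u') F.obj)

theorem germ_psiS (ξ : Spec (CommRingCat.of Ω) ⟶ X) (hξ : ξ ≫ f = η) (U : Y.Etale)
    (u : (Scheme.pointSmallEtale η).fiber.obj U) :
    (Scheme.pointSmallEtale η).toPresheafFiber U u ((EtDesc.pushSh f).obj F).obj ≫
      psiS f F ξ hξ =
      (Scheme.pointSmallEtale ξ).toPresheafFiber ((EtCoh.bc f).obj U)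
        (liftPt f ξ hξ U u) F.obj :=
  (Scheme.pointSmallEtale η).toPresheafFiber_presheafFiberDesc _ _ U u

theorem psiS_germ (ξ : Spec (CommRingCat.of Ω) ⟶ X) (hξ : ξ ≫ f = η) (U : Y.Etale)
    (u : (Scheme.pointSmallEtale η).fiber.obj U)
    (s : ToType (F.obj.obj (op ((EtCoh.bc f).obj U)))) :
    psiS f F ξ hξ ((Scheme.pointSmallEtale η).toPresheafFiber U u
      ((EtDesc.pushSh f).obj F).obj s) =
      (Scheme.pointSmallEtale ξ).toPresheafFiber ((EtCoh.bc f).obj U)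
        (liftPt f ξ hξ U u) F.obj s :=
  (ConcreteCategory.comp_apply _ _ _).symm.trans
    (congrArg (fun m => (ConcreteCategory.hom m) s) (germ_psiS f F ξ hξ U u))

theorem psiS_naturality {F G : EtDesc.Sh X} (a : F ⟶ G) (ξ : Spec (CommRingCat.of Ω) ⟶ X)
    (hξ : ξ ≫ f = η) :
    psiS f F ξ hξ ≫ (Scheme.pointSmallEtale ξ).presheafFiber.map a.hom =
      (Scheme.pointSmallEtale η).presheafFiber.map ((EtDesc.pushSh f).map a).hom ≫
        psiS f G ξ hξ := by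
  apply (Scheme.pointSmallEtale η).presheafFiber_hom_ext
  intro U u
  have h1 : (Scheme.pointSmallEtale η).toPresheafFiber U u ((EtDesc.pushSh f).obj F).obj ≫
      (Scheme.pointSmallEtale η).presheafFiber.map ((EtDesc.pushSh f).map a).hom =
      ((EtDesc.pushSh f).map a).hom.app (op U) ≫
        (Scheme.pointSmallEtale η).toPresheafFiber U u ((EtDesc.pushSh f).obj G).obj :=
    (Scheme.pointSmallEtale η).toPresheafFiber_naturality ((EtDesc.pushSh f).map a).hom U u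
  have h2 : (Scheme.pointSmallEtale ξ).toPresheafFiber ((EtCoh.bc f).obj U)
      (liftPt f ξ hξ U u) F.obj ≫ (Scheme.pointSmallEtale ξ).presheafFiber.map a.hom =
      a.hom.app (op ((EtCoh.bc f).obj U)) ≫
        (Scheme.pointSmallEtale ξ).toPresheafFiber ((EtCoh.bc f).obj U)
          (liftPt f ξ hξ U u) G.obj :=
    (Scheme.pointSmallEtale ξ).toPresheafFiber_naturality a.hom _ _
  rw [← Category.assoc, germ_psiS, h2, ← Category.assoc, h1, Category.assoc, germ_psiS]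
  rfl

end Psi

section Inj

variable [IsFinite f] (F : EtDesc.Sh X) {η : Spec (CommRingCat.of Ω) ⟶ Y}

theorem eq_of_psiS_eq
    (x x' : ToType ((Scheme.pointSmallEtale η).presheafFiber.obj
      ((EtDesc.pushSh f).obj F).obj))
    (hx : ∀ (ξ : Spec (CommRingCat.of Ω) ⟶ X) (hξ : ξ ≫ f = η),
      psiS f F ξ hξ x = psiS f F ξ hξ x') :
    x = x' := by
  obtain ⟨U, u, s, s', rfl, rfl⟩ :=
    (Scheme.pointSmallEtale η).toPresheafFiber_jointly_surjective₂ x x'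
  obtain ⟨W, hW⟩ := exists_opens_agree F ((EtCoh.bc f).obj U) s s'
  have hWfib : ∀ p : ((EtCoh.bc f).obj U).left, pr₁ f U p = ptLeft u default → p ∈ W := by
    intro p hp
    obtain ⟨ξ, hξ, hpξ⟩ := exists_point_over f U u p hp
    have h0 := hx ξ hξ
    rw [psiS_germ, psiS_germ] at h0
    obtain ⟨V, g, v, hv, heq⟩ := ((Scheme.pointSmallEtale ξ).toPresheafFiber_eq_iff' _
      (liftPt f ξ hξ U u) s s').1 h0
    have hsub := (hW V g).1 heq
    rw [← hpξ, ← hv]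
    exact hsub ⟨ptLeft v default, rfl⟩
  obtain ⟨U', t, u', hu', hrange⟩ := exists_shrink f U u W hWfib
  have hs' : F.obj.map ((EtCoh.bc f).map t).op s = F.obj.map ((EtCoh.bc f).map t).op s' :=
    (hW _ ((EtCoh.bc f).map t)).2 hrange
  have h1 := (Scheme.pointSmallEtale η).toPresheafFiber_w_apply t u'
    ((EtDesc.pushSh f).obj F).obj s
  have h1' := (Scheme.pointSmallEtale η).toPresheafFiber_w_apply t u'
    ((EtDesc.pushSh f).obj F).obj s'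
  rw [hu'] at h1 h1'
  rw [← h1, ← h1']
  have h2 : ((EtDesc.pushSh f).obj F).obj.map t.op s = ((EtDesc.pushSh f).obj F).obj.map t.op s' :=
    hs'
  rw [h2]

end Inj

section Surj

variable [IsFinite f] {η : Spec (CommRingCat.of Ω) ⟶ Y}

/-- Simultaneous splitting at all the geometric points over `η`. -/
theorem multi_key
    (W : {ξ : Spec (CommRingCat.of Ω) ⟶ X // ξ ≫ f = η} → X.Etale)
    (w : ∀ ξ : {ξ : Spec (CommRingCat.of Ω) ⟶ X // ξ ≫ f = η},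
      (Scheme.pointSmallEtale ξ.1).fiber.obj (W ξ)) :
    ∃ (U : Y.Etale) (u : (Scheme.pointSmallEtale η).fiber.obj U)
      (O : {ξ : Spec (CommRingCat.of Ω) ⟶ X // ξ ≫ f = η} → ((EtCoh.bc f).obj U).left.Opens),
      (∀ p : ((EtCoh.bc f).obj U).left, ∃ ξ, p ∈ O ξ) ∧
      (∀ ξ ξ' (p : ((EtCoh.bc f).obj U).left), p ∈ O ξ → p ∈ O ξ' → ξ = ξ') ∧
      ∀ ξ, ∃ (E : subE ((EtCoh.bc f).obj U) (O ξ) ⟶ W ξ)
        (w' : (Scheme.pointSmallEtale ξ.1).fiber.obj (subE ((EtCoh.bc f).obj U) (O ξ))),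
        (Scheme.pointSmallEtale ξ.1).fiber.map (subι ((EtCoh.bc f).obj U) (O ξ)) w' =
          liftPt f ξ.1 ξ.2 U u ∧
        (Scheme.pointSmallEtale ξ.1).fiber.map E w' = w ξ := by
  classical
  haveI := finite_points f η
  letI := Fintype.ofFinite {ξ : Spec (CommRingCat.of Ω) ⟶ X // ξ ≫ f = η}
  have hk := fun ξ : {ξ : Spec (CommRingCat.of Ω) ⟶ X // ξ ≫ f = η} =>
    key f (W ξ) ξ.1 ξ.2 (w ξ)
  choose U₁ u₁ V₁ hclopen hmem huniq h hh1 hh2 using hk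
  -- common refinement
  obtain ⟨U, u, t, ht⟩ : ∃ (U : Y.Etale) (u : (Scheme.pointSmallEtale η).fiber.obj U)
      (t : ∀ ξ, U ⟶ U₁ ξ), ∀ ξ, (Scheme.pointSmallEtale η).fiber.map (t ξ) u = u₁ ξ := by
    obtain ⟨S, hS⟩ := IsCofiltered.inf_objs_exists
      (Finset.univ.image (fun ξ : {ξ : Spec (CommRingCat.of Ω) ⟶ X // ξ ≫ f = η} =>
        ((Scheme.pointSmallEtale η).fiber.elementsMk (U₁ ξ) (u₁ ξ))))
    have hS' : ∀ ξ, Nonempty (S ⟶ (Scheme.pointSmallEtale η).fiber.elementsMk (U₁ ξ) (u₁ ξ)) :=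
      fun ξ => hS (Finset.mem_image_of_mem _ (Finset.mem_univ ξ))
    exact ⟨S.1, S.2, fun ξ => (hS' ξ).some.1, fun ξ => (hS' ξ).some.2⟩
  have F1 : ∀ (ξ ξ' : {ξ : Spec (CommRingCat.of Ω) ⟶ X // ξ ≫ f = η}),
      ((EtCoh.bc f).map (t ξ)).left (ptLeft (liftPt f ξ'.1 ξ'.2 U u) default) =
      ptLeft (liftPt f ξ'.1 ξ'.2 (U₁ ξ) (u₁ ξ)) default := by
    intro ξ ξ'
    have h1 := liftPt_map f ξ'.1 ξ'.2 (t ξ) u
    rw [ht ξ] at h1
    rw [← h1]
    exact (Scheme.Hom.comp_apply _ _ _).symm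
  obtain ⟨V₂, hV₂⟩ : ∃ V₂ : {ξ : Spec (CommRingCat.of Ω) ⟶ X // ξ ≫ f = η} →
      ((EtCoh.bc f).obj U).left.Opens, V₂ = fun ξ => ((EtCoh.bc f).map (t ξ)).left ⁻¹ᵁ V₁ ξ :=
    ⟨_, rfl⟩
  have hV₂iff : ∀ ξ (p : ((EtCoh.bc f).obj U).left),
      p ∈ V₂ ξ ↔ ((EtCoh.bc f).map (t ξ)).left p ∈ V₁ ξ := by
    intro ξ p
    rw [hV₂]
    exact Iff.rfl
  have hV₂clopen : ∀ ξ, IsClopen (V₂ ξ : Set ((EtCoh.bc f).obj U).left) := by
    intro ξ
    rw [hV₂]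
    exact (hclopen ξ).preimage ((EtCoh.bc f).map (t ξ)).left.continuous
  have hV₂mem : ∀ ξ, ptLeft (liftPt f ξ.1 ξ.2 U u) default ∈ V₂ ξ := by
    intro ξ
    rw [hV₂iff, F1]
    exact hmem ξ
  have hV₂uniq : ∀ ξ ξ' : {ξ : Spec (CommRingCat.of Ω) ⟶ X // ξ ≫ f = η},
      ptLeft (liftPt f ξ'.1 ξ'.2 U u) default ∈ V₂ ξ → ξ' = ξ := by
    intro ξ ξ' hp
    rw [hV₂iff, F1] at hp
    exact Subtype.ext (huniq ξ ξ'.1 ξ'.2 hp)
  -- the good open
  obtain ⟨W₀, hW₀⟩ : ∃ W₀ : ((EtCoh.bc f).obj U).left.Opens,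
      ∀ p, p ∈ W₀ ↔ ∃ ξ, p ∈ V₂ ξ ∧ ∀ ξ', p ∈ V₂ ξ' → ξ' = ξ := by
    have hopen : IsOpen {p : ((EtCoh.bc f).obj U).left |
        ∃ ξ, p ∈ V₂ ξ ∧ ∀ ξ', p ∈ V₂ ξ' → ξ' = ξ} := by
      have heq : {p : ((EtCoh.bc f).obj U).left |
          ∃ ξ, p ∈ V₂ ξ ∧ ∀ ξ', p ∈ V₂ ξ' → ξ' = ξ} =
          ⋃ ξ, ((V₂ ξ : Set ((EtCoh.bc f).obj U).left) ∩
            ⋂ ξ', {p | p ∈ V₂ ξ' → ξ' = ξ}) := by
        ext p
        simp only [Set.mem_ofPred_eq, Set.mem_iUnion, Set.mem_inter_iff, Set.mem_iInter,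
          SetLike.mem_coe]
      rw [heq]
      refine isOpen_iUnion (fun ξ => (V₂ ξ).isOpen.inter (isOpen_iInter_of_finite (fun ξ' => ?_)))
      by_cases hξ : ξ' = ξ
      · have : {p : ((EtCoh.bc f).obj U).left | p ∈ V₂ ξ' → ξ' = ξ} = Set.univ := by
          ext p
          simp [hξ]
        rw [this]
        exact isOpen_univ
      · have : {p : ((EtCoh.bc f).obj U).left | p ∈ V₂ ξ' → ξ' = ξ} =
            (V₂ ξ' : Set ((EtCoh.bc f).obj U).left)ᶜ := by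
          ext p
          simp [hξ]
        rw [this]
        exact (hV₂clopen ξ').compl.isOpen
    exact ⟨⟨_, hopen⟩, fun p => Iff.rfl⟩
  have hW₀fib : ∀ p : ((EtCoh.bc f).obj U).left, pr₁ f U p = ptLeft u default → p ∈ W₀ := by
    intro p hp
    obtain ⟨ξ₀, hξ₀, hpξ⟩ := exists_point_over f U u p hp
    rw [hW₀]
    refine ⟨⟨ξ₀, hξ₀⟩, ?_, ?_⟩
    · rw [← hpξ]
      exact hV₂mem ⟨ξ₀, hξ₀⟩
    · intro ξ' hp'
      rw [← hpξ] at hp'
      exact (hV₂uniq ξ' ⟨ξ₀, hξ₀⟩ hp').symm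
  obtain ⟨U', t', u', hu', hrange⟩ := exists_shrink f U u W₀ hW₀fib
  have F2 : ∀ (ξ' : {ξ : Spec (CommRingCat.of Ω) ⟶ X // ξ ≫ f = η}),
      ((EtCoh.bc f).map t').left (ptLeft (liftPt f ξ'.1 ξ'.2 U' u') default) =
      ptLeft (liftPt f ξ'.1 ξ'.2 U u) default := by
    intro ξ'
    have h1 := liftPt_map f ξ'.1 ξ'.2 t' u'
    rw [hu'] at h1
    rw [← h1]
    exact (Scheme.Hom.comp_apply _ _ _).symm
  obtain ⟨O, hO⟩ : ∃ O : {ξ : Spec (CommRingCat.of Ω) ⟶ X // ξ ≫ f = η} →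
      ((EtCoh.bc f).obj U').left.Opens, O = fun ξ => ((EtCoh.bc f).map t').left ⁻¹ᵁ V₂ ξ :=
    ⟨_, rfl⟩
  have hOiff : ∀ ξ (p : ((EtCoh.bc f).obj U').left),
      p ∈ O ξ ↔ ((EtCoh.bc f).map t').left p ∈ V₂ ξ := by
    intro ξ p
    rw [hO]
    exact Iff.rfl
  refine ⟨U', u', O, ?_, ?_, ?_⟩
  · intro p
    have hq : ((EtCoh.bc f).map t').left p ∈ W₀ := hrange ⟨p, rfl⟩
    obtain ⟨ξ, hξ, -⟩ := (hW₀ _).1 hq
    exact ⟨ξ, (hOiff ξ p).2 hξ⟩
  · intro ξ ξ' p hp hp'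
    have hq : ((EtCoh.bc f).map t').left p ∈ W₀ := hrange ⟨p, rfl⟩
    obtain ⟨ξ₁, -, hξ₁⟩ := (hW₀ _).1 hq
    exact (hξ₁ ξ ((hOiff ξ p).1 hp)).trans (hξ₁ ξ' ((hOiff ξ' p).1 hp')).symm
  · intro ξ
    subst hO
    subst hV₂
    -- the restricted maps
    obtain ⟨n, hn⟩ : ∃ n : (((EtCoh.bc f).map t').left ⁻¹ᵁ
        (((EtCoh.bc f).map (t ξ)).left ⁻¹ᵁ V₁ ξ)).toScheme ⟶
        (((EtCoh.bc f).map (t ξ)).left ⁻¹ᵁ V₁ ξ).toScheme,
        n ≫ (((EtCoh.bc f).map (t ξ)).left ⁻¹ᵁ V₁ ξ).ι =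
          (((EtCoh.bc f).map t').left ⁻¹ᵁ (((EtCoh.bc f).map (t ξ)).left ⁻¹ᵁ V₁ ξ)).ι ≫
            ((EtCoh.bc f).map t').left :=
      ⟨((EtCoh.bc f).map t').left ∣_ (((EtCoh.bc f).map (t ξ)).left ⁻¹ᵁ V₁ ξ),
        morphismRestrict_ι _ _⟩
    obtain ⟨m, hm⟩ : ∃ m : (((EtCoh.bc f).map (t ξ)).left ⁻¹ᵁ V₁ ξ).toScheme ⟶ (V₁ ξ).toScheme,
        m ≫ (V₁ ξ).ι = (((EtCoh.bc f).map (t ξ)).left ⁻¹ᵁ V₁ ξ).ι ≫
          ((EtCoh.bc f).map (t ξ)).left :=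
      ⟨((EtCoh.bc f).map (t ξ)).left ∣_ (V₁ ξ), morphismRestrict_ι _ _⟩
    have hover : (n ≫ m ≫ h ξ) ≫ (W ξ).hom =
        (((EtCoh.bc f).map t').left ⁻¹ᵁ (((EtCoh.bc f).map (t ξ)).left ⁻¹ᵁ V₁ ξ)).ι ≫
          ((EtCoh.bc f).obj U').hom := by
      rw [Category.assoc, Category.assoc, hh1 ξ, ← Category.assoc m, hm, Category.assoc,
        map_hom, ← Category.assoc, hn, Category.assoc, map_hom]
    obtain ⟨E, hE⟩ : ∃ E : subE ((EtCoh.bc f).obj U')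
        (((EtCoh.bc f).map t').left ⁻¹ᵁ (((EtCoh.bc f).map (t ξ)).left ⁻¹ᵁ V₁ ξ)) ⟶ W ξ,
        E.left = n ≫ m ≫ h ξ :=
      ⟨MorphismProperty.Over.homMk (n ≫ m ≫ h ξ) hover trivial, rfl⟩
    have hlmem : ptLeft (liftPt f ξ.1 ξ.2 U' u') default ∈
        ((EtCoh.bc f).map t').left ⁻¹ᵁ (((EtCoh.bc f).map (t ξ)).left ⁻¹ᵁ V₁ ξ) := by
      have := hV₂mem ξ
      rw [← F2 ξ] at this
      exact this
    have hlrange : Set.range (ptLeft (liftPt f ξ.1 ξ.2 U' u')) ⊆ Set.range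
        (((EtCoh.bc f).map t').left ⁻¹ᵁ (((EtCoh.bc f).map (t ξ)).left ⁻¹ᵁ V₁ ξ)).ι := by
      rintro _ ⟨z, rfl⟩
      rw [Subsingleton.elim z default, Scheme.Opens.range_ι]
      exact hlmem
    obtain ⟨l, hl⟩ : ∃ l : Spec (CommRingCat.of Ω) ⟶
        (((EtCoh.bc f).map t').left ⁻¹ᵁ (((EtCoh.bc f).map (t ξ)).left ⁻¹ᵁ V₁ ξ)).toScheme,
        l ≫ (((EtCoh.bc f).map t').left ⁻¹ᵁ (((EtCoh.bc f).map (t ξ)).left ⁻¹ᵁ V₁ ξ)).ι =
          ptLeft (liftPt f ξ.1 ξ.2 U' u') :=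
      ⟨IsOpenImmersion.lift _ _ hlrange, IsOpenImmersion.lift_fac _ _ _⟩
    have hlw : l ≫ ((((EtCoh.bc f).map t').left ⁻¹ᵁ
        (((EtCoh.bc f).map (t ξ)).left ⁻¹ᵁ V₁ ξ)).ι ≫ ((EtCoh.bc f).obj U').hom) = ξ.1 := by
      rw [← Category.assoc, hl, liftPt_hom]
    obtain ⟨w', hw'⟩ : ∃ w' : (Scheme.pointSmallEtale ξ.1).fiber.obj
        (subE ((EtCoh.bc f).obj U')
          (((EtCoh.bc f).map t').left ⁻¹ᵁ (((EtCoh.bc f).map (t ξ)).left ⁻¹ᵁ V₁ ξ))),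
        ptLeft w' = l := ⟨Over.homMk l hlw, rfl⟩
    refine ⟨E, w', ?_, ?_⟩
    · apply ptLeft_ext
      rw [ptLeft_map, hw']
      exact hl
    · apply ptLeft_ext
      rw [ptLeft_map, hw', hE, ← Category.assoc, ← Category.assoc]
      apply hh2 ξ
      have e1 := liftPt_map f ξ.1 ξ.2 t' u'
      rw [hu'] at e1
      have e2 := liftPt_map f ξ.1 ξ.2 (t ξ) u
      rw [ht ξ] at e2
      have e1' : ptLeft (liftPt f ξ.1 ξ.2 U' u') ≫ ((EtCoh.bc f).map t').left =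
          ptLeft (liftPt f ξ.1 ξ.2 U u) := congrArg ptLeft e1
      have e2' : ptLeft (liftPt f ξ.1 ξ.2 U u) ≫ ((EtCoh.bc f).map (t ξ)).left =
          ptLeft (liftPt f ξ.1 ξ.2 (U₁ ξ) (u₁ ξ)) := congrArg ptLeft e2
      rw [Category.assoc, Category.assoc, hm, ← Category.assoc n, hn, Category.assoc,
        ← Category.assoc l, hl, ← Category.assoc, e1', e2']

theorem exists_psiS_eq (F : EtDesc.Sh X)
    (y : ∀ ξ : {ξ : Spec (CommRingCat.of Ω) ⟶ X // ξ ≫ f = η},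
      ToType ((Scheme.pointSmallEtale ξ.1).presheafFiber.obj F.obj)) :
    ∃ x : ToType ((Scheme.pointSmallEtale η).presheafFiber.obj ((EtDesc.pushSh f).obj F).obj),
      ∀ ξ : {ξ : Spec (CommRingCat.of Ω) ⟶ X // ξ ≫ f = η}, psiS f F ξ.1 ξ.2 x = y ξ := by
  have hrep : ∀ ξ : {ξ : Spec (CommRingCat.of Ω) ⟶ X // ξ ≫ f = η},
      ∃ (W : X.Etale) (w : (Scheme.pointSmallEtale ξ.1).fiber.obj W)
        (τ : ToType (F.obj.obj (op W))),
        (Scheme.pointSmallEtale ξ.1).toPresheafFiber W w F.obj τ = y ξ :=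
    fun ξ => (Scheme.pointSmallEtale ξ.1).toPresheafFiber_jointly_surjective (y ξ)
  choose W w τ hτ using hrep
  obtain ⟨U, u, O, hcov, hdisj, hE⟩ := multi_key f W w
  choose E w' hw1 hw2 using hE
  obtain ⟨s, hs⟩ := glue_disjoint F ((EtCoh.bc f).obj U) O hcov hdisj
    (fun ξ => F.obj.map (E ξ).op (τ ξ))
  refine ⟨(Scheme.pointSmallEtale η).toPresheafFiber U u ((EtDesc.pushSh f).obj F).obj s,
    fun ξ => ?_⟩
  rw [psiS_germ, ← hw1 ξ, ← (Scheme.pointSmallEtale ξ.1).toPresheafFiber_w_apply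
    (subι ((EtCoh.bc f).obj U) (O ξ)) (w' ξ) F.obj s, hs ξ,
    (Scheme.pointSmallEtale ξ.1).toPresheafFiber_w_apply (E ξ) (w' ξ) F.obj (τ ξ), hw2 ξ, hτ ξ]

end Surj

end Groth.Agent.Lib.EtFinStalkShH7
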