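import Mathlib
import Groth.Prelude.Def_EtBase
import Groth.Agent.Lib.EtIntDescend_helper7
import Groth.Agent.Lib.EtFinStalkSh_helper7

/-!
# Étale coverings of `U ×_Y X` for `f : X ⟶ Y` integral split étale locally on `U` (helper7)
-/

set_option autoImplicit false
set_option backward.isDefEq.respectTransparency false
set_option linter.style.haveILetI false
universe u
open CategoryTheory CategoryTheory.Limits AlgebraicGeometry Opposite

namespace Groth.Agent.Lib.EtIntH7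

open Groth.Agent.Lib.EtFinGeomH7 Groth.Agent.Lib.EtSchSite_helper7
  Groth.Agent.Lib.EtSchExact_helper7 Groth.Agent.Lib.EtFinStalkH7
  Groth.Agent.Lib.EtFinStalkShH7 Groth.Agent.Lib.PurInsepH4 Groth.Agent.Lib.EtNbhdFinH4
  Groth.Agent.Lib.Kummer_helper7

/-- The finite case: a surjective étale `W₀ ⟶ P₀`, with `P₀` finite over `T`, has sections over
a disjoint open cover of `U ×_T P₀`, étale locally on `T`. -/
theorem fin_cover {T P₀ W₀ : Scheme.{u}} (g₀ : P₀ ⟶ T) [IsFinite g₀] (ω₀ : W₀ ⟶ P₀) [Etale ω₀]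
    [Surjective ω₀] {Ω : Type u} [Field Ω] [IsAlgClosed Ω] (η : Spec (CommRingCat.of Ω) ⟶ T) :
    ∃ (U : T.Etale) (_ : (Scheme.pointSmallEtale η).fiber.obj U) (ι : Type u)
      (O : ι → ((EtCoh.bc g₀).obj U).left.Opens),
      (∀ p, ∃ i, p ∈ O i) ∧ (∀ i j p, p ∈ O i → p ∈ O j → i = j) ∧
      ∀ i, ∃ E : (O i).toScheme ⟶ W₀, E ≫ ω₀ = (O i).ι ≫ ((EtCoh.bc g₀).obj U).hom := by
  haveI := locallyQuasiFinite_of_unramified ω₀
  have hlift : ∀ ξ : {ξ : Spec (CommRingCat.of Ω) ⟶ P₀ // ξ ≫ g₀ = η},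
      ∃ l : Spec (CommRingCat.of Ω) ⟶ W₀, l ≫ ω₀ = ξ.1 := by
    intro ξ
    obtain ⟨w, hw⟩ := (‹Surjective ω₀›).surj (ξ.1 default)
    obtain ⟨l, hl, -⟩ := exists_lift_of_finite ω₀ ξ.1 w hw.symm
      (finite_residueFieldMap ω₀ w (Scheme.Hom.quasiFiniteAt ω₀ w))
    exact ⟨l, hl⟩
  choose l hl using hlift
  obtain ⟨U, u, O, hcov, hdisj, hE⟩ := multi_key g₀ (fun _ => Scheme.Etale.mk ω₀)
    (fun ξ => Over.homMk (l ξ) (hl ξ))
  refine ⟨U, u, _, O, hcov, hdisj, fun ξ => ?_⟩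
  obtain ⟨E, -, -, -⟩ := hE ξ
  exact ⟨E.left, MorphismProperty.Over.w E⟩

/-- The integral case. -/
theorem int_cover {X Y : Scheme.{u}} (f : X ⟶ Y) [IsIntegralHom f] (U : Y.Etale)
    [IsAffine U.left] (Wt : X.Etale) [IsAffine Wt.left] (rt : Wt ⟶ (EtCoh.bc f).obj U)
    [Surjective rt.left] (u : U.left) :
    ∃ (U' : Y.Etale) (t : U' ⟶ U) (ι : Type u) (O : ι → ((EtCoh.bc f).obj U').left.Opens),
      u ∈ Set.range t.left ∧
      (∀ p, ∃ i, p ∈ O i) ∧ (∀ i j p, p ∈ O i → p ∈ O j → i = j) ∧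
      ∀ i, ∃ E : subE ((EtCoh.bc f).obj U') (O i) ⟶ Wt,
        E ≫ rt = subι ((EtCoh.bc f).obj U') (O i) ≫ (EtCoh.bc f).map t := by
  haveI : IsIntegralHom (pr₁ f U) := inferInstanceAs (IsIntegralHom (pullback.fst U.hom f))
  haveI : IsAffine ((EtCoh.bc f).obj U).left := isAffine_of_isAffineHom (pr₁ f U)
  obtain ⟨P₀, W₀, g₀, ρ, ω₀, θ, hfin, het, hρg, hρs, hθ, hlift⟩ := descend (pr₁ f U) rt.left
  haveI := hfin
  haveI := het
  haveI : Surjective ω₀ := ⟨fun x => by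
    obtain ⟨p, rfl⟩ := hρs.surj x
    obtain ⟨w, rfl⟩ := (‹Surjective rt.left›).surj p
    exact ⟨θ w, (Scheme.Hom.comp_apply _ _ _).symm.trans
      ((congrArg (fun (m : Wt.left ⟶ P₀) => m w) hθ).trans (Scheme.Hom.comp_apply _ _ _))⟩⟩
  obtain ⟨Ω, _, _, ζ, hζ⟩ := exists_geometric_point u
  obtain ⟨U'', u'', ι, O, hcov, hdisj, hE⟩ := fin_cover g₀ ω₀ ζ
  haveI : Etale U''.hom := U''.prop
  haveI : Etale U.hom := U.prop
  let U' : Y.Etale := Scheme.Etale.mk (U''.hom ≫ U.hom)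
  let t : U' ⟶ U := MorphismProperty.Over.homMk U''.hom rfl trivial
  have hcompat : pr₁ f U' ≫ U''.hom = (((EtCoh.bc f).map t).left ≫ ρ) ≫ g₀ := by
    rw [Category.assoc, hρg, map_pr₁]
    rfl
  let π : ((EtCoh.bc f).obj U').left ⟶ ((EtCoh.bc g₀).obj U'').left :=
    pullback.lift (pr₁ f U') (((EtCoh.bc f).map t).left ≫ ρ) hcompat
  have hπ2 : π ≫ ((EtCoh.bc g₀).obj U'').hom = ((EtCoh.bc f).map t).left ≫ ρ :=
    pullback.lift_snd _ _ _
  refine ⟨U', t, ι, fun i => π ⁻¹ᵁ O i, ?_, ?_, ?_, ?_⟩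
  · refine ⟨ptLeft u'' default, ?_⟩
    have h1 := congrArg (fun (m : Spec (CommRingCat.of Ω) ⟶ U.left) => m default)
      (ptLeft_hom u'')
    exact (Scheme.Hom.comp_apply _ _ _).symm.trans (h1.trans hζ)
  · intro p
    obtain ⟨i, hi⟩ := hcov (π p)
    exact ⟨i, hi⟩
  · intro i j p hi hj
    exact hdisj i j (π p) hi hj
  · intro i
    obtain ⟨E₀, hE₀⟩ := hE i
    have hab : ((π ∣_ O i) ≫ E₀) ≫ ω₀ =
        ((π ⁻¹ᵁ O i).ι ≫ ((EtCoh.bc f).map t).left) ≫ ρ := by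
      rw [Category.assoc, hE₀, ← Category.assoc, morphismRestrict_ι, Category.assoc, hπ2,
        Category.assoc]
    obtain ⟨c, hc⟩ := hlift ((π ∣_ O i) ≫ E₀)
      ((π ⁻¹ᵁ O i).ι ≫ ((EtCoh.bc f).map t).left) hab
    have hcw : c ≫ Wt.hom = (π ⁻¹ᵁ O i).ι ≫ ((EtCoh.bc f).obj U').hom := by
      rw [← MorphismProperty.Over.w rt, ← Category.assoc, hc, Category.assoc, map_hom]
    refine ⟨MorphismProperty.Over.homMk c hcw trivial, ?_⟩
    apply MorphismProperty.Over.Hom.ext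
    exact hc

end Groth.Agent.Lib.EtIntH7
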