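import Mathlib
import Groth.Prelude.Def_BigSite
import Groth.Agent.Lib.EtIntKey2_helper7
import Groth.Agent.Lib.EtIntKey_helper7

/-!
# Conditions (A) and (B) for integral morphisms (helper7)
-/

set_option autoImplicit false
set_option backward.isDefEq.respectTransparency false
set_option linter.style.haveILetI false
universe u
open CategoryTheory CategoryTheory.Limits AlgebraicGeometry Opposite

namespace Groth.Agent.Lib.EtIntH7

open Groth.Agent.Lib.EtFinGeomH7 Groth.Agent.Lib.EtFinStalkH7 Groth.Agent.Lib.Kummer_helper7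

section RefineSigma

/-- A morphism from an open subscheme to a coproduct splits the open into disjoint opens mapping
to the summands. -/
theorem refine_sigma {Q : Scheme.{u}} (O : Q.Opens) {σ : Type u} (B : σ → Scheme.{u})
    (φ : O.toScheme ⟶ ∐ B) :
    ∃ T : σ → Q.Opens, (∀ p ∈ O, ∃ k, p ∈ T k) ∧
      (∀ k l p, p ∈ T k → p ∈ T l → k = l) ∧
      ∀ k, ∃ (hk : T k ≤ O) (ψ : (T k).toScheme ⟶ B k),
        ψ ≫ Sigma.ι B k = Q.homOfLE hk ≫ φ := by
  have hmemT : ∀ (k : σ) (p : Q), p ∈ O.ι ''ᵁ (φ ⁻¹ᵁ (Sigma.ι B k).opensRange) ↔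
      ∃ q : O.toScheme, φ q ∈ Set.range (Sigma.ι B k) ∧ O.ι q = p := fun _ _ => Iff.rfl
  have hinj : Function.Injective O.ι := O.ι.isOpenEmbedding.injective
  refine ⟨fun k => O.ι ''ᵁ (φ ⁻¹ᵁ (Sigma.ι B k).opensRange), ?_, ?_, ?_⟩
  · intro p hp
    obtain ⟨k, y, hy⟩ := (sigmaOpenCover B).exists_eq (φ ⟨p, hp⟩)
    exact ⟨k, (hmemT k p).2 ⟨⟨p, hp⟩, ⟨y, hy⟩, rfl⟩⟩
  · intro k l p hk hl
    obtain ⟨q, hq, rfl⟩ := (hmemT k p).1 hk
    obtain ⟨q', hq', e⟩ := (hmemT l _).1 hl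
    obtain rfl : q' = q := hinj e
    by_contra hne
    have h1 := (disjoint_opensRange_sigmaι B k l hne).le_bot
      (show φ q' ∈ (Sigma.ι B k).opensRange ⊓ (Sigma.ι B l).opensRange from ⟨hq, hq'⟩)
    exact False.elim h1
  · intro k
    have hk : O.ι ''ᵁ (φ ⁻¹ᵁ (Sigma.ι B k).opensRange) ≤ O := by
      intro p hp
      obtain ⟨q, -, rfl⟩ := (hmemT k p).1 hp
      exact q.2
    have hrange : Set.range (Q.homOfLE hk ≫ φ) ⊆ Set.range (Sigma.ι B k) := by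
      rintro _ ⟨z, rfl⟩
      obtain ⟨q, hq, hqz⟩ := (hmemT k _).1 z.2
      have h1 : O.ι ((Q.homOfLE hk) z) = O.ι q := by
        rw [hqz]
        exact (Scheme.Hom.comp_apply _ _ _).symm.trans
          (congrArg (fun (m : _ ⟶ Q) => m z) (Q.homOfLE_ι hk))
      have h2 : (Q.homOfLE hk) z = q := hinj h1
      have h3 : (Q.homOfLE hk ≫ φ) z = φ q :=
        (Scheme.Hom.comp_apply _ _ _).trans (congrArg (fun w => φ w) h2)
      rw [h3]
      exact hq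
    exact ⟨hk, IsOpenImmersion.lift (Sigma.ι B k) (Q.homOfLE hk ≫ φ) hrange,
      IsOpenImmersion.lift_fac _ _ _⟩

/-- A quasi-compact scheme covered by étale maps is covered by finitely many affine opens of the
sources. -/
theorem affine_refinement {Q : Scheme.{u}} [CompactSpace Q] {ι : Type u} (U : ι → Scheme.{u})
    (g : ∀ i, U i ⟶ Q) (hg : ∀ i, Etale (g i))
    (hcov : ∀ x : Q, ∃ i, x ∈ Set.range (g i).base) :
    ∃ (σ : Type u) (_ : Finite σ) (B : σ → Scheme.{u}) (_ : ∀ k, IsAffine (B k)) (idx : σ → ι)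
      (b : ∀ k, B k ⟶ U (idx k)),
      (∀ k, Etale (b k ≫ g (idx k))) ∧ ∀ x : Q, ∃ k, x ∈ Set.range (b k ≫ g (idx k)).base := by
  have hpt : ∀ x : Q, ∃ (i : ι) (A : (U i).Opens), IsAffineOpen A ∧
      x ∈ (g i) '' (A : Set (U i)) := by
    intro x
    obtain ⟨i, u, hu⟩ := hcov x
    obtain ⟨A, hA, huA, -⟩ := exists_isAffineOpen_mem_and_subset (x := u)
      (U := (⊤ : (U i).Opens)) trivial
    exact ⟨i, A, hA, u, huA, hu⟩
  choose i A hA hx using hpt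
  have hopen : ∀ x, IsOpen ((g (i x)) '' (A x : Set (U (i x)))) := fun x =>
    haveI := hg (i x)
    (g (i x)).isOpenMap _ (A x).isOpen
  obtain ⟨S, hS⟩ := isCompact_univ.elim_finite_subcover
    (fun x => (g (i x)) '' (A x : Set (U (i x)))) hopen
    (fun q _ => Set.mem_iUnion.2 ⟨q, hx q⟩)
  refine ⟨{p // p ∈ S}, inferInstance, fun k => (A k.1).toScheme, fun k => hA k.1,
    fun k => i k.1, fun k => (A k.1).ι, fun k => ?_, fun x => ?_⟩
  · haveI := hg (i k.1)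
    infer_instance
  · have h1 := hS (Set.mem_univ x)
    simp only [Set.mem_iUnion] at h1
    obtain ⟨p, hpS, a, ha, hax⟩ := h1
    exact ⟨⟨p, hpS⟩, ⟨a, ha⟩, (Scheme.Hom.comp_apply _ _ _).trans hax⟩

end RefineSigma

variable {X Y : Scheme.{u}} (f : X ⟶ Y)

/-- Condition (A) from the key lemma. -/
theorem propA_of_key
    (hkey : ∀ (Ω : Type u) [Field Ω] [IsAlgClosed Ω] (V' : X.Etale)
      (ξ₀ : Spec (CommRingCat.of Ω) ⟶ X) (v' : (Scheme.pointSmallEtale ξ₀).fiber.obj V'),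
      ∃ (U : Y.Etale) (u : (Scheme.pointSmallEtale (ξ₀ ≫ f)).fiber.obj U)
        (V : ((EtCoh.bc f).obj U).left.Opens),
        IsClopen (V : Set ((EtCoh.bc f).obj U).left) ∧
        ptLeft (liftPt f ξ₀ rfl U u) default ∈ V ∧
        ∃ h : V.toScheme ⟶ V'.left, h ≫ V'.hom = V.ι ≫ ((EtCoh.bc f).obj U).hom ∧
          ∀ l : Spec (CommRingCat.of Ω) ⟶ V.toScheme,
            l ≫ V.ι = ptLeft (liftPt f ξ₀ rfl U u) → l ≫ h = ptLeft v') :
    BigSite.PropA f := by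
  intro U g _ u
  obtain ⟨Ω, _, _, ζ, hζ⟩ := exists_geometric_point u
  obtain ⟨v', hv'⟩ : ∃ v' : (Scheme.pointSmallEtale (ζ ≫ g)).fiber.obj (Scheme.Etale.mk g),
      ptLeft v' = ζ := ⟨Over.homMk ζ rfl, rfl⟩
  obtain ⟨UY, uy, Vo, hclopen, hmem, h, hh1, hh2⟩ := hkey Ω (Scheme.Etale.mk g) (ζ ≫ g) v'
  have hh1' : h ≫ g = Vo.ι ≫ ((EtCoh.bc f).obj UY).hom := hh1
  obtain ⟨L, hL⟩ : ∃ L : Spec (CommRingCat.of Ω) ⟶ ((EtCoh.bc f).obj UY).left,
      L = ptLeft (liftPt f (ζ ≫ g) rfl UY uy) := ⟨_, rfl⟩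
  rw [← hL] at hmem hh2
  haveI : Etale UY.hom := UY.prop
  obtain ⟨s, hs1, hs2⟩ : ∃ s : pullback f UY.hom ≅ ((EtCoh.bc f).obj UY).left,
      s.hom ≫ ((EtCoh.bc f).obj UY).hom = pullback.fst f UY.hom ∧
      s.hom ≫ pr₁ f UY = pullback.snd f UY.hom :=
    ⟨pullbackSymmetry f UY.hom, pullbackSymmetry_hom_comp_snd _ _,
      pullbackSymmetry_hom_comp_fst _ _⟩
  have hrange : Set.range (L ≫ s.inv) ⊆ Set.range (s.hom ⁻¹ᵁ Vo).ι := by
    rintro _ ⟨a, rfl⟩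
    rw [Subsingleton.elim a default, Scheme.Opens.range_ι]
    show s.hom ((L ≫ s.inv) default) ∈ Vo
    have h1 : s.hom ((L ≫ s.inv) default) = L default :=
      (Scheme.Hom.comp_apply _ _ _).symm.trans
        (congrArg (fun (m : Spec (CommRingCat.of Ω) ⟶ _) => m default)
          ((Category.assoc _ _ _).trans ((congrArg (fun m => L ≫ m) s.inv_hom_id).trans
            (Category.comp_id _))))
    rw [h1]
    exact hmem
  obtain ⟨l', hl'⟩ : ∃ l' : Spec (CommRingCat.of Ω) ⟶ (s.hom ⁻¹ᵁ Vo).toScheme,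
      l' ≫ (s.hom ⁻¹ᵁ Vo).ι = L ≫ s.inv :=
    ⟨IsOpenImmersion.lift (s.hom ⁻¹ᵁ Vo).ι (L ≫ s.inv) hrange, IsOpenImmersion.lift_fac _ _ _⟩
  refine ⟨UY.left, UY.hom, inferInstance, s.hom ⁻¹ᵁ Vo,
    hclopen.1.preimage s.hom.continuous, (s.hom ∣_ Vo) ≫ h, ?_, ?_⟩
  · rw [Category.assoc, hh1', ← Category.assoc, morphismRestrict_ι, Category.assoc, hs1]
  · refine ⟨l' default, ?_⟩
    have h2 : (l' ≫ (s.hom ∣_ Vo)) ≫ Vo.ι = L := by
      rw [Category.assoc, morphismRestrict_ι, ← Category.assoc, hl', Category.assoc,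
        s.inv_hom_id, Category.comp_id]
    have h3 : (l' ≫ (s.hom ∣_ Vo)) ≫ h = ζ := (hh2 _ h2).trans hv'
    have h4 : ((s.hom ∣_ Vo) ≫ h) (l' default) = (l' ≫ (s.hom ∣_ Vo) ≫ h) default :=
      (Scheme.Hom.comp_apply _ _ _).symm
    exact h4.trans ((congrArg (fun (m : Spec (CommRingCat.of Ω) ⟶ U) => m default)
      ((Category.assoc _ _ _).symm.trans h3)).trans hζ)

/-- Condition (A) for integral morphisms. -/
theorem propA_int [IsIntegralHom f] : BigSite.PropA f :=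
  propA_of_key f (fun _ _ _ V' ξ₀ v' => int_key f V' ξ₀ rfl v')

/-- Condition (A) for finite morphisms. -/
theorem propA_fin [IsFinite f] : BigSite.PropA f :=
  propA_of_key f (fun _ _ _ V' ξ₀ v' => by
    obtain ⟨U, u, V, h1, h2, -, h3⟩ := key f V' ξ₀ rfl v'
    exact ⟨U, u, V, h1, h2, h3⟩)

end Groth.Agent.Lib.EtIntH7
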