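import Mathlib
import Groth.Prelude.Def_PBC
import Groth.Agent.Lib.EtIntBC3_helper7
import Groth.Agent.Lib.EtIntProp_helper7

/-!
# Base change for integral morphisms, part 4: from local to global (helper7)

Given, for every geometric point `ξ` of the fibre of an integral morphism `f : X ⟶ Y` over a
geometric point `η`, an étale neighbourhood `U_ξ` of `η` and an open neighbourhood `O_ξ` of `ξ` in
`U_ξ ×_Y X`, there is a single étale neighbourhood `U` of `η` and a decomposition of `U ×_Y X` into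
disjoint open pieces each of which maps into one of the `O_ξ`.
-/

set_option autoImplicit false
set_option backward.isDefEq.respectTransparency false
set_option linter.style.haveILetI false
set_option linter.unusedSectionVars false
universe u
open CategoryTheory CategoryTheory.Limits AlgebraicGeometry Opposite

namespace Groth.Agent.Lib.EtIntH7

open Groth.Agent.Lib.EtFinGeomH7 Groth.Agent.Lib.EtSchSite_helper7
  Groth.Agent.Lib.EtSchExact_helper7 Groth.Agent.Lib.EtFinStalkH7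
  Groth.Agent.Lib.EtSchStalk_helper7 Groth.Agent.Lib.EtNbhdFinH4

variable {Ω : Type u} [Field Ω] [IsAlgClosed Ω]

/-- Refining an étale covering of `U ×_Y X` (with `U` affine) by a disjoint open covering, after
an étale localisation of `U` around a given point. -/
theorem cover_refine {X Y : Scheme.{u}} (f : X ⟶ Y) [IsIntegralHom f] (Ua : Y.Etale)
    [IsAffine Ua.left] {ι : Type u} (W : ι → Scheme.{u})
    (g : ∀ i, W i ⟶ ((EtCoh.bc f).obj Ua).left) (hg : ∀ i, Etale (g i))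
    (hcov : ∀ x : ((EtCoh.bc f).obj Ua).left, ∃ i, x ∈ Set.range (g i).base) (y : Ua.left) :
    ∃ (U' : Y.Etale) (t : U' ⟶ Ua) (κ : Type u) (P : κ → ((EtCoh.bc f).obj U').left.Opens),
      y ∈ Set.range t.left ∧ (∀ p, ∃ k, p ∈ P k) ∧ (∀ k l p, p ∈ P k → p ∈ P l → k = l) ∧
      ∀ k, ∃ (i : ι) (ψ : (P k).toScheme ⟶ W i),
        ψ ≫ g i = (P k).ι ≫ ((EtCoh.bc f).map t).left := by
  haveI : IsIntegralHom (pr₁ f Ua) := inferInstanceAs (IsIntegralHom (pullback.fst Ua.hom f))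
  haveI : IsAffine ((EtCoh.bc f).obj Ua).left := isAffine_of_isAffineHom (pr₁ f Ua)
  obtain ⟨σ, hσ, B, hB, idx, b, hbet, hbcov⟩ := affine_refinement W g hg hcov
  haveI := hσ
  haveI := hB
  let rk : ∀ k, B k ⟶ ((EtCoh.bc f).obj Ua).left := fun k => b k ≫ g (idx k)
  haveI : ∀ k, Etale (rk k) := hbet
  haveI : Etale (Sigma.desc rk) :=
    IsZariskiLocalAtSource.sigmaDesc (P := @Etale) (fun k => inferInstance)
  haveI : Etale ((EtCoh.bc f).obj Ua).hom := ((EtCoh.bc f).obj Ua).prop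
  haveI : Surjective (Sigma.desc rk) := by
    apply Surjective.sigmaDesc_of_union_range_eq_univ
    rw [Set.eq_univ_iff_forall]
    intro x
    obtain ⟨k, hk⟩ := hbcov x
    exact Set.mem_iUnion.2 ⟨k, hk⟩
  let Wt : X.Etale := Scheme.Etale.mk (Sigma.desc rk ≫ ((EtCoh.bc f).obj Ua).hom)
  let rt : Wt ⟶ (EtCoh.bc f).obj Ua := MorphismProperty.Over.homMk (Sigma.desc rk) rfl trivial
  haveI : IsAffine Wt.left := inferInstanceAs (IsAffine (∐ B))
  haveI : Surjective rt.left := inferInstanceAs (Surjective (Sigma.desc rk))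
  obtain ⟨U', t, ι', O, hy, hOcov, hOdisj, hE⟩ := int_cover f Ua Wt rt y
  choose E hE using hE
  have hEl : ∀ a, (E a).left ≫ Sigma.desc rk = (O a).ι ≫ ((EtCoh.bc f).map t).left :=
    fun a => congrArg (fun m => m.left) (hE a)
  have href := fun a => refine_sigma (O a) B (E a).left
  choose T hTcov hTdisj hT using href
  choose hTle ψ hψ using hT
  refine ⟨U', t, ι' × σ, fun a => T a.1 a.2, hy, ?_, ?_, ?_⟩
  · intro p
    obtain ⟨a, ha⟩ := hOcov p
    obtain ⟨k, hk⟩ := hTcov a p ha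
    exact ⟨(a, k), hk⟩
  · rintro ⟨a, k⟩ ⟨a', k'⟩ p h1 h2
    have e1 : a = a' := hOdisj a a' p (hTle a k h1) (hTle a' k' h2)
    subst e1
    have e2 : k = k' := hTdisj a k k' p h1 h2
    subst e2
    rfl
  · rintro ⟨a, k⟩
    refine ⟨idx k, ψ a k ≫ b k, ?_⟩
    have h2 : ψ a k ≫ rk k = (ψ a k ≫ Sigma.ι B k) ≫ Sigma.desc rk := by
      rw [Category.assoc, Sigma.ι_desc]
    have h1 : ψ a k ≫ rk k = (T a k).ι ≫ ((EtCoh.bc f).map t).left := by
      rw [h2, hψ a k, Category.assoc, hEl a, ← Category.assoc, Scheme.homOfLE_ι]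
    rw [Category.assoc]
    exact h1

/-- Lifting a geometric point along a morphism of étale neighbourhoods hitting it. -/
theorem exists_fiber_lift {S : Scheme.{u}} {η : Spec (CommRingCat.of Ω) ⟶ S} {U U' : S.Etale}
    (t : U' ⟶ U) (u : (Scheme.pointSmallEtale η).fiber.obj U)
    (hmem : ptLeft u default ∈ Set.range t.left) :
    ∃ u' : (Scheme.pointSmallEtale η).fiber.obj U',
      (Scheme.pointSmallEtale η).fiber.map t u' = u := by
  obtain ⟨p, hp⟩ := hmem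
  haveI : Etale t.left := inferInstance
  haveI := locallyQuasiFinite_of_unramified t.left
  obtain ⟨l, hl, -⟩ := exists_lift_of_finite t.left (ptLeft u) p hp.symm
    (finite_residueFieldMap t.left p (Scheme.Hom.quasiFiniteAt t.left p))
  have hw : l ≫ U'.hom = η := by
    rw [← MorphismProperty.Over.w t, ← Category.assoc, hl]
    exact ptLeft_hom u
  exact ⟨Over.homMk l hw, ptLeft_ext hl⟩

section L2

variable {X Y : Scheme.{u}} (f : X ⟶ Y)

theorem bc_map_comp_left {U U' U'' : Y.Etale} (s : U'' ⟶ U') (t : U' ⟶ U) :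
    ((EtCoh.bc f).map (s ≫ t)).left = ((EtCoh.bc f).map s).left ≫ ((EtCoh.bc f).map t).left := by
  rw [CategoryTheory.Functor.map_comp]
  rfl

theorem liftPt_map_apply {η : Spec (CommRingCat.of Ω) ⟶ Y} (ξ : Spec (CommRingCat.of Ω) ⟶ X)
    (hξ : ξ ≫ f = η) {U U' : Y.Etale} (t : U' ⟶ U)
    (u' : (Scheme.pointSmallEtale η).fiber.obj U') :
    ((EtCoh.bc f).map t).left (ptLeft (liftPt f ξ hξ U' u') default) =
      ptLeft (liftPt f ξ hξ U ((Scheme.pointSmallEtale η).fiber.map t u')) default := by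
  have h1 := congrArg (fun w => ptLeft w) (liftPt_map f ξ hξ t u')
  have h2 : ptLeft (liftPt f ξ hξ U' u') ≫ ((EtCoh.bc f).map t).left =
      ptLeft (liftPt f ξ hξ U ((Scheme.pointSmallEtale η).fiber.map t u')) := h1
  exact (Scheme.Hom.comp_apply _ _ _).symm.trans
    (congrArg (fun (m : Spec (CommRingCat.of Ω) ⟶ ((EtCoh.bc f).obj U).left) => m default) h2)

/-- The geometric fibre as an abstract package. -/
theorem exists_fib [IsIntegralHom f] (η : Spec (CommRingCat.of Ω) ⟶ Y) :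
    ∃ (T : Scheme.{u}) (_ : CompactSpace T) (a : T ⟶ X) (b : T ⟶ Spec (CommRingCat.of Ω))
      (_ : a ≫ f = b ≫ η),
      (∀ t : T, ∃ σ : Spec (CommRingCat.of Ω) ⟶ T, σ ≫ b = 𝟙 _ ∧ σ default = t) ∧
      (∀ ξ : Spec (CommRingCat.of Ω) ⟶ X, ξ ≫ f = η →
        ∃ σ : Spec (CommRingCat.of Ω) ⟶ T, σ ≫ b = 𝟙 _ ∧ σ ≫ a = ξ) := by
  haveI : IsIntegralHom (pullback.snd f η) := inferInstance
  haveI : IsAffine (pullback f η) := isAffine_of_isAffineHom (pullback.snd f η)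
  refine ⟨pullback f η, inferInstance, pullback.fst f η, pullback.snd f η, pullback.condition,
    ?_, ?_⟩
  · intro t
    obtain ⟨l, hl1, hl2⟩ := exists_lift_int (pullback.snd f η) (𝟙 _) t (Subsingleton.elim _ _)
    exact ⟨l, hl1, hl2⟩
  · intro ξ hξ
    exact ⟨pullback.lift ξ (𝟙 _) (by rw [hξ, Category.id_comp]), pullback.lift_snd _ _ _,
      pullback.lift_fst _ _ _⟩

set_option maxHeartbeats 1600000 in
theorem loc_to_glob [IsIntegralHom f] {η : Spec (CommRingCat.of Ω) ⟶ Y}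
    (Ud : {ξ : Spec (CommRingCat.of Ω) ⟶ X // ξ ≫ f = η} → Y.Etale)
    (ud : ∀ x, (Scheme.pointSmallEtale η).fiber.obj (Ud x))
    (Od : ∀ x, ((EtCoh.bc f).obj (Ud x)).left.Opens)
    (hmem : ∀ x : {ξ : Spec (CommRingCat.of Ω) ⟶ X // ξ ≫ f = η},
      ptLeft (liftPt f x.1 x.2 (Ud x) (ud x)) default ∈ Od x) :
    ∃ (U : Y.Etale) (u : (Scheme.pointSmallEtale η).fiber.obj U) (κ : Type u)
      (P : κ → ((EtCoh.bc f).obj U).left.Opens),
      (∀ p, ∃ k, p ∈ P k) ∧ (∀ k l p, p ∈ P k → p ∈ P l → k = l) ∧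
      ∀ k, ∃ (x : {ξ : Spec (CommRingCat.of Ω) ⟶ X // ξ ≫ f = η}) (τ : U ⟶ Ud x),
        (Scheme.pointSmallEtale η).fiber.map τ u = ud x ∧
        ∀ p ∈ P k, ((EtCoh.bc f).map τ).left p ∈ Od x := by
  classical
  obtain ⟨T, hT, a, b, hab, hsec, huniv⟩ := exists_fib f η
  haveI := hT
  choose σ hσb hσt using hsec
  have hσf : ∀ t, (σ t ≫ a) ≫ f = η := fun t => by
    rw [Category.assoc, hab, ← Category.assoc, hσb, Category.id_comp]
  obtain ⟨xt, hxt⟩ : ∃ xt : T → {ξ : Spec (CommRingCat.of Ω) ⟶ X // ξ ≫ f = η},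
      ∀ t, (xt t).1 = σ t ≫ a := ⟨fun t => ⟨σ t ≫ a, hσf t⟩, fun _ => rfl⟩
  -- the open cover of `T`
  have hopen : ∀ t : T, IsOpen {p : T | toBC f a b hab (Ud (xt t)) (ud (xt t)) p ∈ Od (xt t)} :=
    fun t => (Od (xt t)).isOpen.preimage (toBC f a b hab (Ud (xt t)) (ud (xt t))).continuous
  have hsecmem : ∀ (s : Spec (CommRingCat.of Ω) ⟶ T) (hs : s ≫ b = 𝟙 _)
      (x : {ξ : Spec (CommRingCat.of Ω) ⟶ X // ξ ≫ f = η}) (hx : x.1 = s ≫ a)
      (U : Y.Etale) (u : (Scheme.pointSmallEtale η).fiber.obj U),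
      toBC f a b hab U u (s default) = ptLeft (liftPt f x.1 x.2 U u) default := by
    intro s hs x hx U u
    obtain ⟨ξ, hξ⟩ := x
    change ξ = s ≫ a at hx
    subst hx
    exact sec_toBC_apply f a b hab U u s hs hξ
  have hself : ∀ t : T, t ∈ {p : T | toBC f a b hab (Ud (xt t)) (ud (xt t)) p ∈ Od (xt t)} := by
    intro t
    have h1 := hsecmem (σ t) (hσb t) (xt t) (hxt t) (Ud (xt t)) (ud (xt t))
    rw [hσt] at h1
    show toBC f a b hab (Ud (xt t)) (ud (xt t)) t ∈ Od (xt t)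
    rw [h1]
    exact hmem (xt t)
  obtain ⟨S, hS⟩ := isCompact_univ.elim_finite_subcover _ hopen
    (fun t _ => Set.mem_iUnion.2 ⟨t, hself t⟩)
  -- a common étale neighbourhood
  have hind : ∀ S : Finset T, ∃ (U₀ : Y.Etale) (u₀ : (Scheme.pointSmallEtale η).fiber.obj U₀),
      ∀ t ∈ S, ∃ τ : U₀ ⟶ Ud (xt t), (Scheme.pointSmallEtale η).fiber.map τ u₀ = ud (xt t) := by
    intro S
    induction S using Finset.induction_on with
    | empty =>
      exact ⟨Scheme.Etale.mk (𝟙 Y), Over.homMk η (Category.comp_id _),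
        fun t ht => absurd ht (Finset.notMem_empty t)⟩
    | insert t S _ ih =>
      obtain ⟨U₀, u₀, hτ⟩ := ih
      obtain ⟨W, w, c, d, hc, hd⟩ := exists_common U₀ (Ud (xt t)) u₀ (ud (xt t))
      refine ⟨W, w, fun t' ht' => ?_⟩
      rcases Finset.mem_insert.1 ht' with rfl | hmemS
      · exact ⟨d, hd⟩
      · obtain ⟨τ, hτ'⟩ := hτ t' hmemS
        refine ⟨c ≫ τ, ?_⟩
        rw [CategoryTheory.Functor.map_comp_apply, hc, hτ']
  obtain ⟨U₀, u₀, hτ⟩ := hind S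
  choose τ hτ using hτ
  -- the open neighbourhood of the fibre
  obtain ⟨W₀, hW₀⟩ : ∃ W₀ : ((EtCoh.bc f).obj U₀).left.Opens,
      ∀ p, p ∈ W₀ ↔ ∃ (t : T) (ht : t ∈ S), ((EtCoh.bc f).map (τ t ht)).left p ∈ Od (xt t) := by
    refine ⟨⨆ t : {t // t ∈ S}, ((EtCoh.bc f).map (τ t.1 t.2)).left ⁻¹ᵁ Od (xt t.1), fun p => ?_⟩
    rw [TopologicalSpace.Opens.mem_iSup]
    constructor
    · rintro ⟨⟨t, ht⟩, hp⟩
      exact ⟨t, ht, hp⟩
    · rintro ⟨t, ht, hp⟩
      exact ⟨⟨t, ht⟩, hp⟩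
  have hW : ∀ p : ((EtCoh.bc f).obj U₀).left, pr₁ f U₀ p = ptLeft u₀ default → p ∈ W₀ := by
    intro p hp
    obtain ⟨ξ, hξ, rfl⟩ := exists_point_over_int f U₀ u₀ p hp
    obtain ⟨s, hs1, hs2⟩ := huniv ξ hξ
    have h1 := hS (Set.mem_univ (s default))
    simp only [Set.mem_iUnion] at h1
    obtain ⟨t, htS, hpt⟩ := h1
    have hpt' : toBC f a b hab (Ud (xt t)) (ud (xt t)) (s default) ∈ Od (xt t) := hpt
    rw [hsecmem s hs1 ⟨ξ, hξ⟩ hs2.symm (Ud (xt t)) (ud (xt t))] at hpt'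
    rw [hW₀]
    refine ⟨t, htS, ?_⟩
    rw [liftPt_map_apply, hτ t htS]
    exact hpt'
  obtain ⟨U₁, t₁, u₁, hu₁, hrange⟩ := exists_shrink_int f U₀ u₀ W₀ hW
  -- an affine neighbourhood
  obtain ⟨A, hA, hmemA, -⟩ := exists_isAffineOpen_mem_and_subset
    (x := ptLeft u₁ default) (U := (⊤ : U₁.left.Opens)) trivial
  haveI : Etale U₁.hom := U₁.prop
  haveI : Etale (A.ι ≫ U₁.hom) := inferInstance
  let U₂ : Y.Etale := Scheme.Etale.mk (A.ι ≫ U₁.hom)
  haveI : IsAffine U₂.left := hA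
  let t₂ : U₂ ⟶ U₁ := MorphismProperty.Over.homMk A.ι rfl trivial
  have hrangeA : Set.range (ptLeft u₁) ⊆ Set.range A.ι := by
    rintro _ ⟨z, rfl⟩
    rw [Subsingleton.elim z default, Scheme.Opens.range_ι]
    exact hmemA
  obtain ⟨l₂, hl₂⟩ : ∃ l₂ : Spec (CommRingCat.of Ω) ⟶ A.toScheme, l₂ ≫ A.ι = ptLeft u₁ :=
    ⟨IsOpenImmersion.lift A.ι _ hrangeA, IsOpenImmersion.lift_fac _ _ _⟩
  have hl₂w : l₂ ≫ (A.ι ≫ U₁.hom) = η := by
    rw [← Category.assoc, hl₂]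
    exact ptLeft_hom u₁
  obtain ⟨u₂, hu₂⟩ : ∃ u₂ : (Scheme.pointSmallEtale η).fiber.obj U₂, ptLeft u₂ = l₂ :=
    ⟨Over.homMk l₂ hl₂w, rfl⟩
  have hu₂₁ : (Scheme.pointSmallEtale η).fiber.map t₂ u₂ = u₁ := by
    apply ptLeft_ext
    rw [ptLeft_map, hu₂]
    exact hl₂
  -- the covering of `U₂ ×_Y X`
  obtain ⟨Q, hQ⟩ : ∃ Q : {t // t ∈ S} → ((EtCoh.bc f).obj U₂).left.Opens,
      ∀ t p, p ∈ Q t ↔ ((EtCoh.bc f).map (τ t.1 t.2)).left
        (((EtCoh.bc f).map t₁).left (((EtCoh.bc f).map t₂).left p)) ∈ Od (xt t.1) :=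
    ⟨fun t => ((EtCoh.bc f).map t₂).left ⁻¹ᵁ (((EtCoh.bc f).map t₁).left ⁻¹ᵁ
      (((EtCoh.bc f).map (τ t.1 t.2)).left ⁻¹ᵁ Od (xt t.1))), fun _ _ => Iff.rfl⟩
  have hcovQ : ∀ x : ((EtCoh.bc f).obj U₂).left, ∃ t, x ∈ Set.range (Q t).ι.base := by
    intro x
    have h1 : ((EtCoh.bc f).map t₁).left (((EtCoh.bc f).map t₂).left x) ∈ W₀ :=
      hrange ⟨_, rfl⟩
    rw [hW₀] at h1
    obtain ⟨t, ht, hp⟩ := h1
    refine ⟨⟨t, ht⟩, ?_⟩
    have h2 : x ∈ Q ⟨t, ht⟩ := (hQ ⟨t, ht⟩ x).2 hp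
    have h3 : Set.range (Q ⟨t, ht⟩).ι = (Q ⟨t, ht⟩ : Set ((EtCoh.bc f).obj U₂).left) :=
      Scheme.Opens.range_ι _
    exact h3 ▸ h2
  obtain ⟨U', t', κ, P, hy, hcovP, hdisjP, hψ⟩ := cover_refine f U₂
    (fun t : {t // t ∈ S} => (Q t).toScheme) (fun t => (Q t).ι) (fun t => inferInstance) hcovQ
    (ptLeft u₂ default)
  obtain ⟨u', hu'⟩ := exists_fiber_lift t' u₂ hy
  refine ⟨U', u', κ, P, hcovP, hdisjP, fun k => ?_⟩
  obtain ⟨i, ψ, hψk⟩ := hψ k
  refine ⟨xt i.1, t' ≫ t₂ ≫ t₁ ≫ τ i.1 i.2, ?_, ?_⟩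
  · rw [CategoryTheory.Functor.map_comp_apply, CategoryTheory.Functor.map_comp_apply,
      CategoryTheory.Functor.map_comp_apply, hu', hu₂₁, hu₁, hτ]
  · intro p hp
    rw [bc_map_comp_left, bc_map_comp_left, bc_map_comp_left]
    have h1 : ((EtCoh.bc f).map t').left p = (Q i).ι (ψ ⟨p, hp⟩) := by
      have h2 := congrArg (fun (m : (P k).toScheme ⟶ ((EtCoh.bc f).obj U₂).left) => m ⟨p, hp⟩) hψk
      exact ((Scheme.Hom.comp_apply _ _ _).symm.trans h2.symm).trans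
        (Scheme.Hom.comp_apply _ _ _)
    have h3 : ((EtCoh.bc f).map t').left p ∈ Q i := by
      rw [h1]
      exact (ψ ⟨p, hp⟩).2
    have h4 := (hQ i _).1 h3
    have h5 : (((EtCoh.bc f).map t').left ≫ ((EtCoh.bc f).map t₂).left ≫
        ((EtCoh.bc f).map t₁).left ≫ ((EtCoh.bc f).map (τ i.1 i.2)).left) p =
        ((EtCoh.bc f).map (τ i.1 i.2)).left (((EtCoh.bc f).map t₁).left
          (((EtCoh.bc f).map t₂).left (((EtCoh.bc f).map t').left p))) := by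
      rw [Scheme.Hom.comp_apply, Scheme.Hom.comp_apply, Scheme.Hom.comp_apply]
    rw [h5]
    exact h4

end L2

end Groth.Agent.Lib.EtIntH7
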