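import Mathlib
import Groth.Prelude.Def_PBC
import Groth.Agent.Lib.EtIntBC4_helper7

/-!
# Base change for integral morphisms, part 5: the local datum (helper7)
-/

set_option autoImplicit false
set_option backward.isDefEq.respectTransparency false
set_option linter.style.haveILetI false
set_option linter.unusedSectionVars false
universe u
open CategoryTheory CategoryTheory.Limits AlgebraicGeometry Opposite

namespace Groth.Agent.Lib.EtIntH7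

open Groth.Agent.Lib.EtFinGeomH7 Groth.Agent.Lib.EtSchSite_helper7
  Groth.Agent.Lib.EtSchExact_helper7 Groth.Agent.Lib.EtFinStalkH7
  Groth.Agent.Lib.EtSchStalk_helper7 Groth.Agent.Lib.EtFinBCH7

variable {Ω : Type u} [Field Ω] [IsAlgClosed Ω]

section SubPt

variable {X : Scheme.{u}} {ξ : Spec (CommRingCat.of Ω) ⟶ X}

/-- A geometric point of an étale `X`-scheme lying in an open subset, as a point of the open
subscheme. -/
theorem exists_subPt (P : X.Etale) (V : P.left.Opens)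
    (w : (Scheme.pointSmallEtale ξ).fiber.obj P) (hw : ptLeft w default ∈ V) :
    ∃ w' : (Scheme.pointSmallEtale ξ).fiber.obj (subE P V),
      (Scheme.pointSmallEtale ξ).fiber.map (subι P V) w' = w := by
  have hlrange : Set.range (ptLeft w) ⊆ Set.range V.ι := by
    rintro _ ⟨z, rfl⟩
    rw [Subsingleton.elim z default, Scheme.Opens.range_ι]
    exact hw
  obtain ⟨l, hl⟩ : ∃ l : Spec (CommRingCat.of Ω) ⟶ V.toScheme, l ≫ V.ι = ptLeft w :=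
    ⟨IsOpenImmersion.lift V.ι _ hlrange, IsOpenImmersion.lift_fac _ _ _⟩
  have hlw : l ≫ (V.ι ≫ P.hom) = ξ := by
    rw [← Category.assoc, hl]
    exact ptLeft_hom w
  exact ⟨Over.homMk l hlw, ptLeft_ext hl⟩

end SubPt

section Fib

variable {X Y : Scheme.{u}} (f : X ⟶ Y)
  {η : Spec (CommRingCat.of Ω) ⟶ Y} {T : Scheme.{u}} (a : T ⟶ X)
  (b : T ⟶ Spec (CommRingCat.of Ω)) (hab : a ≫ f = b ≫ η)

theorem toBC_sec_eq (U : Y.Etale) (u : (Scheme.pointSmallEtale η).fiber.obj U)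
    (σ : Spec (CommRingCat.of Ω) ⟶ T) (hσ : σ ≫ b = 𝟙 _)
    (ξ : Spec (CommRingCat.of Ω) ⟶ X) (hx : σ ≫ a = ξ) (hξ : ξ ≫ f = η) :
    toBC f a b hab U u (σ default) = ptLeft (liftPt f ξ hξ U u) default := by
  subst hx
  exact sec_toBC_apply f a b hab U u σ hσ hξ

end Fib

section Psi

variable {X Y : Scheme.{u}} (f : X ⟶ Y) (F : EtCoh.Ab X) {η : Spec (CommRingCat.of Ω) ⟶ Y}

/-- Every germ of `F` at a geometric point `ξ₀` over `η` comes from the stalk of `f_* F` at `η`,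
for `f` integral. -/
theorem exists_psi_int [IsIntegralHom f] (ξ₀ : Spec (CommRingCat.of Ω) ⟶ X) (hξ₀ : ξ₀ ≫ f = η)
    (t₀ : ToType ((Scheme.pointSmallEtale ξ₀).presheafFiber.obj F.obj)) :
    ∃ x : ToType ((Scheme.pointSmallEtale η).presheafFiber.obj ((EtCoh.push f).obj F).obj),
      psi f F ξ₀ hξ₀ x = t₀ := by
  obtain ⟨V', v', τ, rfl⟩ := (Scheme.pointSmallEtale ξ₀).toPresheafFiber_jointly_surjective t₀
  obtain ⟨U, u, V, hVclopen, hmem, h, hh1, hh2⟩ := int_key f V' ξ₀ hξ₀ v'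
  obtain ⟨Vc, hVc⟩ : ∃ Vc : ((EtCoh.bc f).obj U).left.Opens,
      (Vc : Set ((EtCoh.bc f).obj U).left) = (V : Set ((EtCoh.bc f).obj U).left)ᶜ :=
    ⟨⟨(V : Set ((EtCoh.bc f).obj U).left)ᶜ, hVclopen.compl.isOpen⟩, rfl⟩
  have hmemVc : ∀ p : ((EtCoh.bc f).obj U).left, p ∈ Vc ↔ p ∉ V := by
    intro p
    have : p ∈ (Vc : Set ((EtCoh.bc f).obj U).left) ↔
        p ∈ (V : Set ((EtCoh.bc f).obj U).left)ᶜ := by rw [hVc]
    exact this
  let hE : subE ((EtCoh.bc f).obj U) V ⟶ V' := MorphismProperty.Over.homMk h hh1 trivial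
  obtain ⟨s, hs1, hs2⟩ := glue_clopen F ((EtCoh.bc f).obj U) V Vc
    (fun p => (em (p ∈ V)).imp id (fun hp => (hmemVc p).2 hp))
    (fun p hp hp' => (hmemVc p).1 hp' hp) (F.obj.map hE.op τ)
  refine ⟨(Scheme.pointSmallEtale η).toPresheafFiber U u ((EtCoh.push f).obj F).obj s, ?_⟩
  rw [psi_germ]
  have hlrange : Set.range (ptLeft (liftPt f ξ₀ hξ₀ U u)) ⊆ Set.range V.ι := by
    rintro _ ⟨z, rfl⟩
    rw [Subsingleton.elim z default, Scheme.Opens.range_ι]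
    exact hmem
  obtain ⟨l, hl⟩ : ∃ l : Spec (CommRingCat.of Ω) ⟶ V.toScheme,
      l ≫ V.ι = ptLeft (liftPt f ξ₀ hξ₀ U u) :=
    ⟨IsOpenImmersion.lift V.ι _ hlrange, IsOpenImmersion.lift_fac _ _ _⟩
  have hlw : l ≫ (V.ι ≫ ((EtCoh.bc f).obj U).hom) = ξ₀ := by
    rw [← Category.assoc, hl, liftPt_hom]
  obtain ⟨w, hw⟩ : ∃ w : (Scheme.pointSmallEtale ξ₀).fiber.obj
      (subE ((EtCoh.bc f).obj U) V), ptLeft w = l := ⟨Over.homMk l hlw, rfl⟩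
  have hw1 : (Scheme.pointSmallEtale ξ₀).fiber.map (subι ((EtCoh.bc f).obj U) V) w =
      liftPt f ξ₀ hξ₀ U u := by
    apply ptLeft_ext
    rw [ptLeft_map, hw]
    exact hl
  have hw2 : (Scheme.pointSmallEtale ξ₀).fiber.map hE w = v' := by
    apply ptLeft_ext
    rw [ptLeft_map, hw]
    exact hh2 l hl
  rw [← hw1, ← (Scheme.pointSmallEtale ξ₀).toPresheafFiber_w_apply
    (subι ((EtCoh.bc f).obj U) V) w F.obj s, hs1,
    (Scheme.pointSmallEtale ξ₀).toPresheafFiber_w_apply hE w F.obj τ, hw2]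

/-- If an element of the stalk of `f_* F` at `η` has zero germ at `ξ₀`, then it has zero germ at
all geometric points of a neighbourhood of `ξ₀` in `U ×_Y X`, for a suitable `U`. -/
theorem psi_vanish_nbhd
    (δ : ToType ((Scheme.pointSmallEtale η).presheafFiber.obj ((EtCoh.push f).obj F).obj))
    (ξ₀ : Spec (CommRingCat.of Ω) ⟶ X) (hξ₀ : ξ₀ ≫ f = η) (h0 : psi f F ξ₀ hξ₀ δ = 0) :
    ∃ (U : Y.Etale) (u : (Scheme.pointSmallEtale η).fiber.obj U)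
      (O : ((EtCoh.bc f).obj U).left.Opens),
      ptLeft (liftPt f ξ₀ hξ₀ U u) default ∈ O ∧
      ∀ (ξ₁ : Spec (CommRingCat.of Ω) ⟶ X) (hξ₁ : ξ₁ ≫ f = η),
        ptLeft (liftPt f ξ₁ hξ₁ U u) default ∈ O → psi f F ξ₁ hξ₁ δ = 0 := by
  obtain ⟨U, u, s, rfl⟩ := (Scheme.pointSmallEtale η).toPresheafFiber_jointly_surjective δ
  obtain ⟨W, hW⟩ := exists_opens_vanishing F ((EtCoh.bc f).obj U) s
  refine ⟨U, u, W, ?_, ?_⟩
  · rw [psi_germ] at h0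
    obtain ⟨V, g, v, hv, heq⟩ := ((Scheme.pointSmallEtale ξ₀).toPresheafFiber_eq_iff' _
      (liftPt f ξ₀ hξ₀ U u) s 0).1 (h0.trans (map_zero _).symm)
    have hs0 : F.obj.map g.op s = 0 := heq.trans (map_zero _)
    have hsub := (hW V g).1 hs0
    rw [← hv]
    exact hsub ⟨ptLeft v default, rfl⟩
  · intro ξ₁ hξ₁ hin
    rw [psi_germ]
    obtain ⟨w, hw⟩ := exists_subPt ((EtCoh.bc f).obj U) W (liftPt f ξ₁ hξ₁ U u) hin
    have hs' : F.obj.map (subι ((EtCoh.bc f).obj U) W).op s = 0 :=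
      (hW _ (subι ((EtCoh.bc f).obj U) W)).2 (by
        rintro _ ⟨p, rfl⟩
        exact p.2)
    rw [← hw, ← (Scheme.pointSmallEtale ξ₁).toPresheafFiber_w_apply
      (subι ((EtCoh.bc f).obj U) W) w F.obj s, hs', map_zero]

end Psi

section Rel

variable {X Y X' Y' : Scheme.{u}} (f : X ⟶ Y) (g : Y' ⟶ Y) (f' : X' ⟶ Y') (g' : X' ⟶ X)

/-- The neighbourhood lemma for the geometric fibres of an integral morphism and of its base
change. -/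
theorem nbhd_rel [IsIntegralHom f] (h : IsPullback g' f' f g)
    (η' : Spec (CommRingCat.of Ω) ⟶ Y') (U' : Y'.Etale)
    (u' : (Scheme.pointSmallEtale η').fiber.obj U') (O' : ((EtCoh.bc f').obj U').left.Opens)
    (ξ₀' : Spec (CommRingCat.of Ω) ⟶ X') (hξ₀' : ξ₀' ≫ f' = η')
    (hρ₀ : (ξ₀' ≫ g') ≫ f = η' ≫ g)
    (hmem : ptLeft (liftPt f' ξ₀' hξ₀' U' u') default ∈ O') :
    ∃ (U : Y.Etale) (u : (Scheme.pointSmallEtale (η' ≫ g)).fiber.obj U)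
      (O : ((EtCoh.bc f).obj U).left.Opens),
      ptLeft (liftPt f (ξ₀' ≫ g') hρ₀ U u) default ∈ O ∧
      ∀ (ξ₁' : Spec (CommRingCat.of Ω) ⟶ X') (hξ₁' : ξ₁' ≫ f' = η')
        (hρ₁ : (ξ₁' ≫ g') ≫ f = η' ≫ g),
        ptLeft (liftPt f (ξ₁' ≫ g') hρ₁ U u) default ∈ O →
          ptLeft (liftPt f' ξ₁' hξ₁' U' u') default ∈ O' := by
  haveI : IsIntegralHom f' := isIntegralHom_of_isPullback f g f' g' h
  obtain ⟨T, hT, a', b, hab', hsec, huniv⟩ := exists_fib f' η'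
  haveI := hT
  have hab : (a' ≫ g') ≫ f = b ≫ (η' ≫ g) := by
    rw [Category.assoc, h.w, ← Category.assoc, hab', Category.assoc]
  obtain ⟨σ₀, hσ₀b, hσ₀a⟩ := huniv ξ₀' hξ₀'
  have hp₀ : toBC f' a' b hab' U' u' (σ₀ default) ∈ O' := by
    rw [toBC_sec_eq f' a' b hab' U' u' σ₀ hσ₀b ξ₀' hσ₀a hξ₀']
    exact hmem
  obtain ⟨U, u, O, -, hO0, hO1⟩ := nbhd_aux f g f' g' h η' a' b hab' hsec U' u' O'
    (σ₀ default) hp₀
  refine ⟨U, u, O, ?_, ?_⟩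
  · have h1 := toBC_sec_eq f (a' ≫ g') b hab U u σ₀ hσ₀b (ξ₀' ≫ g')
      (by rw [← Category.assoc, hσ₀a]) hρ₀
    rw [← h1]
    exact hO0
  · intro ξ₁' hξ₁' hρ₁ hin
    obtain ⟨σ₁, hσ₁b, hσ₁a⟩ := huniv ξ₁' hξ₁'
    have h1 := toBC_sec_eq f (a' ≫ g') b hab U u σ₁ hσ₁b (ξ₁' ≫ g')
      (by rw [← Category.assoc, hσ₁a]) hρ₁
    have h2 := toBC_sec_eq f' a' b hab' U' u' σ₁ hσ₁b ξ₁' hσ₁a hξ₁'
    rw [← h2]
    apply hO1
    rw [h1]
    exact hin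

variable (F : EtCoh.Ab X)

set_option maxHeartbeats 1600000 in
/-- The local datum. -/
theorem local_datum [IsIntegralHom f] (h : IsPullback g' f' f g)
    (η' : Spec (CommRingCat.of Ω) ⟶ Y')
    (z : ToType ((Scheme.pointSmallEtale η').presheafFiber.obj
      ((EtCoh.push f').obj ((EtCoh.pull g').obj F)).obj))
    (ξ₀' : Spec (CommRingCat.of Ω) ⟶ X') (hξ₀' : ξ₀' ≫ f' = η')
    (hρ₀ : (ξ₀' ≫ g') ≫ f = η' ≫ g) :
    ∃ (U : Y.Etale) (u : (Scheme.pointSmallEtale (η' ≫ g)).fiber.obj U)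
      (O : ((EtCoh.bc f).obj U).left.Opens)
      (r : ToType (F.obj.obj (op ((EtCoh.bc f).obj U)))),
      ptLeft (liftPt f (ξ₀' ≫ g') hρ₀ U u) default ∈ O ∧
      ∀ (ξ₁' : Spec (CommRingCat.of Ω) ⟶ X') (hξ₁' : ξ₁' ≫ f' = η')
        (hρ₁ : (ξ₁' ≫ g') ≫ f = η' ≫ g),
        ptLeft (liftPt f (ξ₁' ≫ g') hρ₁ U u) default ∈ O →
        psi f' ((EtCoh.pull g').obj F) ξ₁' hξ₁' z =
          (EtStalkPull.stalkPullIso g' ξ₁').inv.app F
            ((Scheme.pointSmallEtale (ξ₁' ≫ g')).toPresheafFiber ((EtCoh.bc f).obj U)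
              (liftPt f (ξ₁' ≫ g') hρ₁ U u) F.obj r) := by
  haveI : IsIntegralHom f' := isIntegralHom_of_isPullback f g f' g' h
  have hJ : ∀ ξ' : Spec (CommRingCat.of Ω) ⟶ X',
      Function.Bijective ((EtStalkPull.stalkPullIso g' ξ').inv.app F) :=
    fun ξ' => ConcreteCategory.bijective_of_isIso _
  obtain ⟨e₀, he₀⟩ := (hJ ξ₀').2 (psi f' ((EtCoh.pull g').obj F) ξ₀' hξ₀' z)
  obtain ⟨y₀, hy₀⟩ := exists_psi_int f F (ξ₀' ≫ g') hρ₀ e₀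
  obtain ⟨zt, hzt⟩ : ∃ zt : ToType ((Scheme.pointSmallEtale η').presheafFiber.obj
      ((EtCoh.push f').obj ((EtCoh.pull g').obj F)).obj),
      zt = (EtCoh.stalk η').map (EtCoh.baseChange0 f g f' g' h.w F)
        ((EtStalkPull.stalkPullIso g η').inv.app ((EtCoh.push f).obj F) y₀) := ⟨_, rfl⟩
  have hmc : ∀ (ξ' : Spec (CommRingCat.of Ω) ⟶ X') (hξ' : ξ' ≫ f' = η')
      (hρ : (ξ' ≫ g') ≫ f = η' ≫ g),
      psi f' ((EtCoh.pull g').obj F) ξ' hξ' zt =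
        (EtStalkPull.stalkPullIso g' ξ').inv.app F (psi f F (ξ' ≫ g') hρ y₀) := by
    intro ξ' hξ' hρ
    rw [hzt]
    exact mc f g f' g' h.w F η' ξ' hξ' hρ y₀
  have hδ0 : psi f' ((EtCoh.pull g').obj F) ξ₀' hξ₀' (z - zt) = 0 := by
    rw [map_sub, hmc ξ₀' hξ₀' hρ₀, hy₀, he₀, sub_self]
  obtain ⟨U₃, u₃, O₃, hmem₃, hvan⟩ :=
    psi_vanish_nbhd f' ((EtCoh.pull g').obj F) (z - zt) ξ₀' hξ₀' hδ0
  obtain ⟨U₄, u₄, O₄, hmem₄, himp⟩ := nbhd_rel f g f' g' h η' U₃ u₃ O₃ ξ₀' hξ₀' hρ₀ hmem₃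
  obtain ⟨U₅, u₅, r₅, hr₅⟩ :=
    (Scheme.pointSmallEtale (η' ≫ g)).toPresheafFiber_jointly_surjective y₀
  obtain ⟨U, u, c₄, c₅, hc₄, hc₅⟩ := exists_common U₄ U₅ u₄ u₅
  refine ⟨U, u, ((EtCoh.bc f).map c₄).left ⁻¹ᵁ O₄, F.obj.map ((EtCoh.bc f).map c₅).op r₅, ?_, ?_⟩
  · show ((EtCoh.bc f).map c₄).left (ptLeft (liftPt f (ξ₀' ≫ g') hρ₀ U u) default) ∈ O₄
    rw [liftPt_map_apply, hc₄]
    exact hmem₄
  · intro ξ₁' hξ₁' hρ₁ hin
    have hin' : ((EtCoh.bc f).map c₄).left (ptLeft (liftPt f (ξ₁' ≫ g') hρ₁ U u) default) ∈ O₄ :=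
      hin
    rw [liftPt_map_apply, hc₄] at hin'
    have h3 := himp ξ₁' hξ₁' hρ₁ hin'
    have h4 := hvan ξ₁' hξ₁' h3
    rw [map_sub, sub_eq_zero] at h4
    rw [h4, hmc ξ₁' hξ₁' hρ₁, ← hr₅, psi_germ]
    have h5 := (Scheme.pointSmallEtale (ξ₁' ≫ g')).toPresheafFiber_w_apply
      ((EtCoh.bc f).map c₅) (liftPt f (ξ₁' ≫ g') hρ₁ U u) F.obj r₅
    rw [liftPt_map, hc₅] at h5
    rw [h5]

end Rel

end Groth.Agent.Lib.EtIntH7
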