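import Mathlib
import Groth.Prelude.Def_EtBase
import Groth.Agent.Lib.EtIntKey_helper7
import Groth.Agent.Lib.EtFinExact_helper7

/-!
# The direct image along an integral morphism is exact (helper7)
-/

set_option autoImplicit false
set_option backward.isDefEq.respectTransparency false
set_option linter.style.haveILetI false
universe u
open CategoryTheory CategoryTheory.Limits AlgebraicGeometry Opposite

namespace Groth.Agent.Lib.EtIntH7

open Groth.Agent.Lib.EtFinGeomH7 Groth.Agent.Lib.EtSchSite_helper7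
  Groth.Agent.Lib.EtSchExact_helper7 Groth.Agent.Lib.EtFinStalkH7

section Glue

variable {X : Scheme.{u}}

theorem mem_Jet_iff {W : X.Etale} (R : Sieve W) :
    R ∈ X.smallEtaleTopology W ↔ ∀ x : W.left, ∃ (Y : X.Etale) (f : Y ⟶ W) (y : Y.left),
        R f ∧ Etale f.left ∧ f.left y = x := by
  rw [Scheme.smallEtaleTopology,
    Scheme.smallGrothendieckTopology_eq_toGrothendieck_smallPretopology X le_rfl]
  exact Scheme.mem_toGrothendieck_smallPretopology W R

theorem cover_mem (P : X.Etale) {ι : Type*} (O : ι → P.left.Opens)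
    (hcov : ∀ p : P.left, ∃ i, p ∈ O i) :
    Sieve.ofArrows (fun i => subE P (O i)) (fun i => subι P (O i)) ∈
      X.smallEtaleTopology P := by
  apply sieve_mem_of_forall_exists
  intro p
  obtain ⟨i, hi⟩ := hcov p
  refine ⟨subE P (O i), subι P (O i),
    Sieve.ofArrows_mk (fun i => subE P (O i)) (fun i => subι P (O i)) i, ?_⟩
  show p ∈ Set.range (O i).ι
  rw [Scheme.Opens.range_ι]
  exact hi

theorem ext_of_cover (F : EtCoh.Ab X) (P : X.Etale) {ι : Type*} (O : ι → P.left.Opens)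
    (hcov : ∀ p : P.left, ∃ i, p ∈ O i) (s s' : F.obj.obj (op P))
    (h : ∀ i, F.obj.map (subι P (O i)).op s = F.obj.map (subι P (O i)).op s') : s = s' := by
  refine Sheaf.isSeparated F P _ (cover_mem P O hcov) s s' ?_
  rintro Z g ⟨V, k, m, ⟨i⟩, rfl⟩
  rw [map_comp_apply, map_comp_apply, h i]

/-- Gluing sections of an abelian sheaf along a disjoint open cover. -/
theorem glue_disjoint_ab (F : EtCoh.Ab X) (P : X.Etale) {ι : Type*} (O : ι → P.left.Opens)
    (hcov : ∀ p : P.left, ∃ i, p ∈ O i)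
    (hdisj : ∀ (i j : ι) (p : P.left), p ∈ O i → p ∈ O j → i = j)
    (τ : ∀ i, F.obj.obj (op (subE P (O i)))) :
    ∃ s : F.obj.obj (op P), ∀ i, F.obj.map (subι P (O i)).op s = τ i := by
  have hQ : Presieve.IsSheaf X.smallEtaleTopology (F.obj ⋙ forget AddCommGrpCat.{u + 1}) :=
    (isSheaf_iff_isSheaf_of_type _ _).1
      ((Presheaf.isSheaf_iff_isSheaf_forget _ F.obj (forget AddCommGrpCat.{u + 1})).1 F.2)
  have hsh : Presieve.IsSheafFor (F.obj ⋙ forget AddCommGrpCat.{u + 1})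
      (Presieve.ofArrows (fun i => subE P (O i)) (fun i => subι P (O i))) :=
    (Presieve.isSheafFor_iff_generate _).2 (hQ _ (cover_mem P O hcov))
  rw [Presieve.isSheafFor_arrows_iff] at hsh
  obtain ⟨r, hr, -⟩ := hsh τ (by
    intro i j Z gi gj hij
    by_cases h : i = j
    · subst h
      have : gi = gj := (cancel_mono (subι P (O i))).1 hij
      rw [this]
    · haveI : IsEmpty Z.left := ⟨fun z => h (hdisj i j ((O i).ι (gi.left z)) (gi.left z).2 (by
          have h1 : (O i).ι (gi.left z) = (O j).ι (gj.left z) :=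
            congrArg (fun (m : Z ⟶ P) => m.left z) hij
          rw [h1]
          exact (gj.left z).2))⟩
      exact (eq_zero_of_isEmpty F Z _).trans (eq_zero_of_isEmpty F Z _).symm)
  exact ⟨r, hr⟩

theorem nat_apply {F G : EtCoh.Ab X} (a : F ⟶ G) {A B : X.Etale} (h : A ⟶ B)
    (x : F.obj.obj (op B)) :
    a.hom.app (op A) (F.obj.map h.op x) = G.obj.map h.op (a.hom.app (op B) x) :=
  NatTrans.naturality_apply a.hom h.op x

/-- A section of the target of an epimorphism lifts over a surjective affine étale map. -/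
theorem exists_affine_lift {F G : EtCoh.Ab X} (a : F ⟶ G) [Epi a] (P : X.Etale)
    [CompactSpace P.left] (s : G.obj.obj (op P)) :
    ∃ (Wt : X.Etale) (_ : IsAffine Wt.left) (rt : Wt ⟶ P) (_ : Surjective rt.left)
      (τ : F.obj.obj (op Wt)), a.hom.app (op Wt) τ = G.obj.map rt.op s := by
  haveI : Sheaf.IsLocallySurjective a := (Sheaf.isLocallySurjective_iff_epi' AddCommGrpCat.{u + 1} a).2 inferInstance
  have hR : Presheaf.imageSieve a.hom s ∈ X.smallEtaleTopology P :=
    Presheaf.imageSieve_mem _ a.hom s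
  have hpt : ∀ p : P.left, ∃ (V : X.Etale) (g : V ⟶ P) (A : V.left.Opens), IsAffineOpen A ∧
      (∃ x : F.obj.obj (op V), a.hom.app (op V) x = G.obj.map g.op s) ∧
      p ∈ g.left '' (A : Set V.left) := by
    intro p
    obtain ⟨V, g, v, hg, -, hv⟩ := (mem_Jet_iff _).1 hR p
    obtain ⟨A, hA, hvA, -⟩ := exists_isAffineOpen_mem_and_subset (x := v)
      (U := (⊤ : V.left.Opens)) trivial
    exact ⟨V, g, A, hA, hg, v, hvA, hv⟩
  choose V g A hA hx hp using hpt
  choose x hx using hx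
  have hopen : ∀ p, IsOpen ((g p).left '' (A p : Set (V p).left)) :=
    fun p => (g p).left.isOpenMap _ (A p).isOpen
  obtain ⟨S, hS⟩ := isCompact_univ.elim_finite_subcover
    (fun p => (g p).left '' (A p : Set (V p).left)) hopen
    (fun q _ => Set.mem_iUnion.2 ⟨q, hp q⟩)
  -- the finite family
  obtain ⟨Wk, hWk⟩ : ∃ Wk : {p // p ∈ S} → Scheme.{u}, Wk = fun k => (A k.1).toScheme :=
    ⟨_, rfl⟩
  subst hWk
  let Wk : {p // p ∈ S} → Scheme.{u} := fun k => (A k.1).toScheme
  let rk : ∀ k : {p // p ∈ S}, Wk k ⟶ P.left := fun k => (A k.1).ι ≫ (g k.1).left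
  haveI : ∀ k, IsAffine (Wk k) := fun k => hA k.1
  haveI : ∀ k, Etale (rk k) := fun k => inferInstanceAs (Etale ((A k.1).ι ≫ (g k.1).left))
  haveI hω : Etale (Sigma.desc rk) :=
    IsZariskiLocalAtSource.sigmaDesc (P := @Etale) (fun k => inferInstance)
  haveI : Etale P.hom := P.prop
  haveI : Surjective (Sigma.desc rk) := by
    apply Surjective.sigmaDesc_of_union_range_eq_univ
    rw [Set.eq_univ_iff_forall]
    intro q
    obtain ⟨p, hpS, v, hv, hvq⟩ : ∃ p ∈ S, ∃ v ∈ (A p : Set (V p).left), (g p).left v = q := by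
      have := hS (Set.mem_univ q)
      simp only [Set.mem_iUnion] at this
      obtain ⟨p, hpS, v, hv, hvq⟩ := this
      exact ⟨p, hpS, v, hv, hvq⟩
    refine Set.mem_iUnion.2 ⟨⟨p, hpS⟩, ⟨v, hv⟩, ?_⟩
    exact (Scheme.Hom.comp_apply _ _ _).trans hvq
  let Wt : X.Etale := Scheme.Etale.mk (Sigma.desc rk ≫ P.hom)
  let rt : Wt ⟶ P := MorphismProperty.Over.homMk (Sigma.desc rk) rfl trivial
  haveI : IsAffine Wt.left := inferInstanceAs (IsAffine (∐ Wk))
  haveI : Surjective rt.left := inferInstanceAs (Surjective (Sigma.desc rk))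
  -- the disjoint open cover of the coproduct
  let Q : {p // p ∈ S} → Wt.left.Opens := fun k => (Sigma.ι Wk k).opensRange
  have hQcov : ∀ w : Wt.left, ∃ k, w ∈ Q k := by
    intro w
    obtain ⟨k, y, hy⟩ := (sigmaOpenCover Wk).exists_eq w
    exact ⟨k, y, hy⟩
  have hQdisj : ∀ (i j : {p // p ∈ S}) (w : Wt.left), w ∈ Q i → w ∈ Q j → i = j := by
    intro i j w hi hj
    by_contra hne
    have h1 := (disjoint_opensRange_sigmaι Wk i j hne).le_bot
      (show w ∈ (Sigma.ι Wk i).opensRange ⊓ (Sigma.ι Wk j).opensRange from ⟨hi, hj⟩)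
    exact False.elim h1
  have hmw : ∀ k : {p // p ∈ S}, (Sigma.ι Wk k).isoOpensRange.inv ≫ (subE (V k.1) (A k.1)).hom =
      (subE Wt (Q k)).hom := by
    intro k
    show (Sigma.ι Wk k).isoOpensRange.inv ≫ ((A k.1).ι ≫ (V k.1).hom) =
      (Sigma.ι Wk k).opensRange.ι ≫ (Sigma.desc rk ≫ P.hom)
    rw [← Scheme.Hom.isoOpensRange_inv_comp, Category.assoc, ← Category.assoc (Sigma.ι Wk k),
      Sigma.ι_desc]
    show _ = (Sigma.ι Wk k).isoOpensRange.inv ≫ ((A k.1).ι ≫ (g k.1).left) ≫ P.hom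
    rw [Category.assoc, MorphismProperty.Over.w (g k.1)]
  let m : ∀ k : {p // p ∈ S}, subE Wt (Q k) ⟶ subE (V k.1) (A k.1) :=
    fun k => MorphismProperty.Over.homMk ((Sigma.ι Wk k).isoOpensRange.inv) (hmw k) trivial
  have hm : ∀ k, (m k ≫ subι (V k.1) (A k.1)) ≫ g k.1 = subι Wt (Q k) ≫ rt := by
    intro k
    apply MorphismProperty.Over.Hom.ext
    show (Sigma.ι Wk k).isoOpensRange.inv ≫ (A k.1).ι ≫ (g k.1).left =
      (Sigma.ι Wk k).opensRange.ι ≫ Sigma.desc rk
    rw [← Scheme.Hom.isoOpensRange_inv_comp, Category.assoc, Sigma.ι_desc]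
  obtain ⟨τ, hτ⟩ := glue_disjoint_ab F Wt Q hQcov hQdisj
    (fun k => F.obj.map (m k).op (F.obj.map (subι (V k.1) (A k.1)).op (x k.1)))
  refine ⟨Wt, inferInstance, rt, inferInstance, τ, ?_⟩
  apply ext_of_cover G Wt Q hQcov
  intro k
  rw [← nat_apply, hτ k, nat_apply, nat_apply, hx k.1, ← map_comp_apply, ← map_comp_apply,
    ← map_comp_apply, hm k]

end Glue

variable {X Y : Scheme.{u}} (f : X ⟶ Y)

theorem locSurj_aux [IsIntegralHom f] {F G : EtCoh.Ab X} (a : F ⟶ G) [Epi a] (U : Y.Etale)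
    (s : G.obj.obj (op ((EtCoh.bc f).obj U))) (u : U.left) :
    ∃ (U' : Y.Etale) (t : U' ⟶ U),
      (∃ σ : F.obj.obj (op ((EtCoh.bc f).obj U')),
        a.hom.app (op ((EtCoh.bc f).obj U')) σ = G.obj.map ((EtCoh.bc f).map t).op s) ∧
      u ∈ Set.range t.left := by
  obtain ⟨A, hA, huA, -⟩ := exists_isAffineOpen_mem_and_subset (x := u)
    (U := (⊤ : U.left.Opens)) trivial
  haveI : IsAffine (subE U A).left := hA
  haveI : IsIntegralHom (pr₁ f (subE U A)) :=
    inferInstanceAs (IsIntegralHom (pullback.fst (subE U A).hom f))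
  haveI : IsAffine ((EtCoh.bc f).obj (subE U A)).left :=
    isAffine_of_isAffineHom (pr₁ f (subE U A))
  obtain ⟨sa, hsa⟩ : ∃ sa : G.obj.obj (op ((EtCoh.bc f).obj (subE U A))),
      sa = G.obj.map ((EtCoh.bc f).map (subι U A)).op s := ⟨_, rfl⟩
  obtain ⟨Wt, hWt, rt, hrt, τ, hτ⟩ := exists_affine_lift a ((EtCoh.bc f).obj (subE U A)) sa
  haveI := hWt
  haveI := hrt
  obtain ⟨U', t, ι, O, hu, hcov, hdisj, hE⟩ := int_cover f (subE U A) Wt rt ⟨u, huA⟩
  choose E hE using hE
  obtain ⟨σ, hσ⟩ := glue_disjoint_ab F ((EtCoh.bc f).obj U') O hcov hdisj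
    (fun i => F.obj.map (E i).op τ)
  refine ⟨U', t ≫ subι U A, ⟨σ, ?_⟩, ?_⟩
  · apply ext_of_cover G ((EtCoh.bc f).obj U') O hcov
    intro i
    have h1 : G.obj.map (subι ((EtCoh.bc f).obj U') (O i)).op
        (a.hom.app (op ((EtCoh.bc f).obj U')) σ) =
        G.obj.map (E i).op (G.obj.map rt.op sa) := by
      rw [← nat_apply, hσ i, nat_apply, hτ]
    rw [h1, ← map_comp_apply, hE i, map_comp_apply, hsa]
    refine congrArg _ ?_
    rw [CategoryTheory.Functor.map_comp, map_comp_apply]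
  · obtain ⟨u', hu'⟩ := hu
    refine ⟨u', ?_⟩
    have h2 : (t ≫ subι U A).left u' = A.ι (t.left u') := Scheme.Hom.comp_apply _ _ _
    rw [h2, hu']
    rfl

theorem locSurj_push [IsIntegralHom f] {F G : EtCoh.Ab X} (a : F ⟶ G) [Epi a] :
    Presheaf.IsLocallySurjective Y.smallEtaleTopology ((EtCoh.push f).map a).hom := by
  refine ⟨fun {U} s => ?_⟩
  apply sieve_mem_of_forall_exists
  intro u
  obtain ⟨U', t, ⟨σ, hσ⟩, hu⟩ := locSurj_aux f a U s u
  exact ⟨U', t, ⟨σ, hσ⟩, hu⟩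

theorem epi_push_map_int [IsIntegralHom f] {F G : EtCoh.Ab X} (a : F ⟶ G) [Epi a] :
    Epi ((EtCoh.push f).map a) := by
  haveI : Sheaf.IsLocallySurjective ((EtCoh.push f).map a) := locSurj_push f a
  infer_instance

theorem main6634 [IsIntegralHom f] : (EtCoh.push f).PreservesEpimorphisms :=
  ⟨fun a _ => epi_push_map_int f a⟩

theorem push_pfc_int [IsIntegralHom f] : PreservesFiniteColimits (EtCoh.push f) := by
  rw [Functor.preservesFiniteColimits_iff_forall_exact_map_and_epi]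
  intro S hS
  have h := (Functor.preservesFiniteLimits_iff_forall_exact_map_and_mono (EtCoh.push f)).1
    inferInstance S hS
  haveI := hS.epi_g
  exact ⟨h.1, epi_push_map_int f S.g⟩

/-- Higher direct images along an integral morphism vanish. -/
theorem main3054 [IsIntegralHom f] (F : EtCoh.Ab X) (q : ℕ) (hq : 0 < q) :
    IsZero ((EtCoh.Rpush f q).obj F) := by
  haveI := push_pfc_int f
  obtain ⟨q, rfl⟩ := Nat.exists_eq_succ_of_ne_zero (by omega : q ≠ 0)
  exact isZero_rightDerived_of_exact (EtCoh.push f) F q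

end Groth.Agent.Lib.EtIntH7
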