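import Mathlib
import Groth.Prelude.Def_PBC
import Groth.Agent.Lib.EtIntBC5_helper7
import Groth.Agent.Lib.EtIntExact_helper7
import Groth.Agent.Lib.EtFinBC3_helper7

/-!
# Base change for integral morphisms, part 6: the base change map is an isomorphism (helper7)
-/

set_option autoImplicit false
set_option backward.isDefEq.respectTransparency false
set_option linter.style.haveILetI false
set_option linter.unusedSectionVars false
universe u
open CategoryTheory CategoryTheory.Limits AlgebraicGeometry Opposite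

namespace Groth.Agent.Lib.EtIntH7

open Groth.Agent.Lib.EtFinGeomH7 Groth.Agent.Lib.EtSchSite_helper7
  Groth.Agent.Lib.EtSchExact_helper7 Groth.Agent.Lib.EtFinStalkH7
  Groth.Agent.Lib.EtSchStalk_helper7 Groth.Agent.Lib.EtFinBCH7

variable {Ω : Type u} [Field Ω] [IsAlgClosed Ω]

theorem liftPt_congr {X Y : Scheme.{u}} (f : X ⟶ Y) {η : Spec (CommRingCat.of Ω) ⟶ Y}
    {ξ ξ₂ : Spec (CommRingCat.of Ω) ⟶ X} (e : ξ = ξ₂) (hξ : ξ ≫ f = η) (hξ₂ : ξ₂ ≫ f = η)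
    (U : Y.Etale) (u : (Scheme.pointSmallEtale η).fiber.obj U) :
    ptLeft (liftPt f ξ hξ U u) = ptLeft (liftPt f ξ₂ hξ₂ U u) := by
  subst e
  rfl

variable {X Y X' Y' : Scheme.{u}} (f : X ⟶ Y) (g : Y' ⟶ Y) (f' : X' ⟶ Y') (g' : X' ⟶ X)
  (F : EtCoh.Ab X)

set_option maxHeartbeats 1600000 in
theorem surjective_stalk_map_int [IsIntegralHom f] (h : IsPullback g' f' f g)
    (η' : Spec (CommRingCat.of Ω) ⟶ Y') :
    Function.Surjective ((EtCoh.stalk η').map (EtCoh.baseChange0 f g f' g' h.w F)) := by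
  haveI : IsIntegralHom f' := isIntegralHom_of_isPullback f g f' g' h
  intro z
  have hlift : ∀ x : {ξ : Spec (CommRingCat.of Ω) ⟶ X // ξ ≫ f = η' ≫ g},
      ∃ ξ' : Spec (CommRingCat.of Ω) ⟶ X', ξ' ≫ g' = x.1 ∧ ξ' ≫ f' = η' :=
    fun x => ⟨h.lift x.1 η' x.2, h.lift_fst _ _ _, h.lift_snd _ _ _⟩
  choose lf hlf1 hlf2 using hlift
  have hdat : ∀ x : {ξ : Spec (CommRingCat.of Ω) ⟶ X // ξ ≫ f = η' ≫ g},
      ∃ (U : Y.Etale) (u : (Scheme.pointSmallEtale (η' ≫ g)).fiber.obj U)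
        (O : ((EtCoh.bc f).obj U).left.Opens)
        (r : ToType (F.obj.obj (op ((EtCoh.bc f).obj U)))),
        ptLeft (liftPt f x.1 x.2 U u) default ∈ O ∧
        ∀ (ξ₁' : Spec (CommRingCat.of Ω) ⟶ X') (hξ₁' : ξ₁' ≫ f' = η')
          (hρ₁ : (ξ₁' ≫ g') ≫ f = η' ≫ g),
          ptLeft (liftPt f (ξ₁' ≫ g') hρ₁ U u) default ∈ O →
          psi f' ((EtCoh.pull g').obj F) ξ₁' hξ₁' z =
            (EtStalkPull.stalkPullIso g' ξ₁').inv.app F
              ((Scheme.pointSmallEtale (ξ₁' ≫ g')).toPresheafFiber ((EtCoh.bc f).obj U)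
                (liftPt f (ξ₁' ≫ g') hρ₁ U u) F.obj r) := by
    intro x
    have hρ₀ : (lf x ≫ g') ≫ f = η' ≫ g := by rw [hlf1]; exact x.2
    obtain ⟨U, u, O, r, h1, h2⟩ := local_datum f g f' g' F h η' z (lf x) (hlf2 x) hρ₀
    refine ⟨U, u, O, r, ?_, h2⟩
    rw [← liftPt_congr f (hlf1 x) hρ₀ x.2 U u]
    exact h1
  choose Ud ud Od rd hmemd hdatd using hdat
  obtain ⟨U, u, κ, P, hcov, hdisj, hk⟩ := loc_to_glob f Ud ud Od hmemd
  choose xk τk hτk hPk using hk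
  obtain ⟨sk, hsk⟩ : ∃ sk : ∀ k, F.obj.obj (op (subE ((EtCoh.bc f).obj U) (P k))),
      ∀ k, sk k = F.obj.map (subι ((EtCoh.bc f).obj U) (P k) ≫ (EtCoh.bc f).map (τk k)).op
        (rd (xk k)) := ⟨fun k => _, fun _ => rfl⟩
  obtain ⟨s, hs⟩ := glue_disjoint_ab F ((EtCoh.bc f).obj U) P hcov hdisj sk
  refine ⟨(EtStalkPull.stalkPullIso g η').inv.app ((EtCoh.push f).obj F)
    ((Scheme.pointSmallEtale (η' ≫ g)).toPresheafFiber U u ((EtCoh.push f).obj F).obj s), ?_⟩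
  apply psi_injective_int f' ((EtCoh.pull g').obj F)
  intro ξ₁' hξ₁'
  have hρ₁ : (ξ₁' ≫ g') ≫ f = η' ≫ g := by
    rw [Category.assoc, h.w, ← Category.assoc, hξ₁']
  rw [mc f g f' g' h.w F η' ξ₁' hξ₁' hρ₁, psi_germ]
  obtain ⟨k, hkmem⟩ := hcov (ptLeft (liftPt f (ξ₁' ≫ g') hρ₁ U u) default)
  obtain ⟨w, hw⟩ := exists_subPt ((EtCoh.bc f).obj U) (P k) (liftPt f (ξ₁' ≫ g') hρ₁ U u) hkmem
  have e1 := (Scheme.pointSmallEtale (ξ₁' ≫ g')).toPresheafFiber_w_apply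
    (subι ((EtCoh.bc f).obj U) (P k)) w F.obj s
  rw [hw] at e1
  have e2 := (Scheme.pointSmallEtale (ξ₁' ≫ g')).toPresheafFiber_w_apply
    (subι ((EtCoh.bc f).obj U) (P k) ≫ (EtCoh.bc f).map (τk k)) w F.obj (rd (xk k))
  have e3 : (Scheme.pointSmallEtale (ξ₁' ≫ g')).fiber.map
      (subι ((EtCoh.bc f).obj U) (P k) ≫ (EtCoh.bc f).map (τk k)) w =
      liftPt f (ξ₁' ≫ g') hρ₁ (Ud (xk k)) (ud (xk k)) := by
    rw [CategoryTheory.Functor.map_comp_apply, hw, liftPt_map, hτk]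
  rw [e3] at e2
  have e4 : F.obj.map (subι ((EtCoh.bc f).obj U) (P k)).op s =
      F.obj.map (subι ((EtCoh.bc f).obj U) (P k) ≫ (EtCoh.bc f).map (τk k)).op (rd (xk k)) :=
    (hs k).trans (hsk k)
  have h1 : (Scheme.pointSmallEtale (ξ₁' ≫ g')).toPresheafFiber ((EtCoh.bc f).obj U)
      (liftPt f (ξ₁' ≫ g') hρ₁ U u) F.obj s =
      (Scheme.pointSmallEtale (ξ₁' ≫ g')).toPresheafFiber ((EtCoh.bc f).obj (Ud (xk k)))
        (liftPt f (ξ₁' ≫ g') hρ₁ (Ud (xk k)) (ud (xk k))) F.obj (rd (xk k)) :=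
    e1.symm.trans ((congrArg (fun q => (Scheme.pointSmallEtale (ξ₁' ≫ g')).toPresheafFiber
      (subE ((EtCoh.bc f).obj U) (P k)) w F.obj q) e4).trans e2)
  have hin : ptLeft (liftPt f (ξ₁' ≫ g') hρ₁ (Ud (xk k)) (ud (xk k))) default ∈ Od (xk k) := by
    have h2 := hPk k _ hkmem
    rwa [liftPt_map_apply, hτk] at h2
  rw [h1]
  exact (hdatd (xk k) ξ₁' hξ₁' hρ₁ hin).symm

variable [IsIntegralHom f] (h : IsPullback g' f' f g)

include h in
theorem isIso_baseChange0_int : IsIso (EtCoh.baseChange0 f g f' g' h.w F) := by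
  have hinj : Presheaf.IsLocallyInjective Y'.smallEtaleTopology
      (EtCoh.baseChange0 f g f' g' h.w F).hom :=
    isLocallyInjective_of_stalks _
      (fun K _ _ η' => injective_stalk_map_int f g f' g' h F η')
  have hsurj : Presheaf.IsLocallySurjective Y'.smallEtaleTopology
      (EtCoh.baseChange0 f g f' g' h.w F).hom :=
    isLocallySurjective_of_stalks _
      (fun K _ _ η' => surjective_stalk_map_int f g f' g' F h η')
  haveI : Sheaf.IsLocallyInjective (EtCoh.baseChange0 f g f' g' h.w F) := hinj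
  haveI : Sheaf.IsLocallySurjective (EtCoh.baseChange0 f g f' g' h.w F) := hsurj
  haveI : Mono (EtCoh.baseChange0 f g f' g' h.w F) := Sheaf.mono_of_isLocallyInjective _
  haveI : Epi (EtCoh.baseChange0 f g f' g' h.w F) := inferInstance
  exact isIso_of_mono_of_epi _

end Groth.Agent.Lib.EtIntH7
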