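import Mathlib
import Groth.Prelude.Def_EtBase
import Groth.Prelude.Def_PBC
import Groth.Prelude.Def_EtCore
import Groth.Agent.Lib.EtIntStalk_helper7
import Groth.Agent.Lib.EtClosedPush_helper7

/-!
# Direct image of abelian étale sheaves along an integral universally injective morphism
(helper7)

Full faithfulness, the essential image, and the comparison of cohomology for universal
homeomorphisms.
-/

set_option autoImplicit false
set_option backward.isDefEq.respectTransparency false
set_option linter.style.haveILetI false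
set_option linter.unusedSectionVars false
universe u
open CategoryTheory CategoryTheory.Limits AlgebraicGeometry Opposite

namespace Groth.Agent.Lib.EtIntH7

open Groth.Agent.Lib.EtSchSite_helper7 Groth.Agent.Lib.PointComapCounit_helper7
  Groth.Agent.Lib.EtSchExact_helper7 Groth.Agent.Lib.EtPushClosed_helper7
  Groth.Agent.Lib.EtSchStalk_helper7

variable {X Y : Scheme.{u}} (f : X ⟶ Y)

/-- A geometric point of `Y` lying in the image of an integral morphism lifts. -/
theorem exists_geometric_lift_int [IsIntegralHom f] {Ω : Type u} [Field Ω] [IsAlgClosed Ω]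
    (ξ : Spec (CommRingCat.of Ω) ⟶ Y)
    (h : ξ (default : ↥(Spec (CommRingCat.of Ω))) ∈ Set.range f) :
    ∃ ζ : Spec (CommRingCat.of Ω) ⟶ X, ζ ≫ f = ξ := by
  obtain ⟨x₀, hx₀⟩ := h
  obtain ⟨p, -, -⟩ := Scheme.Pullback.exists_preimage_pullback (f := ξ) (g := f)
    (default : ↥(Spec (CommRingCat.of Ω))) x₀ hx₀.symm
  haveI : IsIntegralHom (pullback.fst ξ f) := inferInstance
  haveI : IsAffine (pullback ξ f) := isAffine_of_isAffineHom (pullback.fst ξ f)
  haveI : Nonempty ↥(pullback ξ f) := ⟨p⟩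
  haveI : Nonempty ((⊤ : (pullback ξ f).Opens)) := ⟨⟨p, trivial⟩⟩
  haveI : Nontrivial Γ(pullback ξ f, ⊤) := inferInstance
  obtain ⟨m, hm⟩ := Ideal.exists_maximal Γ(pullback ξ f, ⊤)
  letI : Field (Γ(pullback ξ f, ⊤) ⧸ m) := Ideal.Quotient.field m
  obtain ⟨c₀, hc₀⟩ : ∃ c₀ : Spec (CommRingCat.of (Γ(pullback ξ f, ⊤) ⧸ m)) ⟶ pullback ξ f,
      c₀ = Spec.map (CommRingCat.ofHom (Ideal.Quotient.mk m)) ≫ (pullback ξ f).isoSpec.inv :=
    ⟨_, rfl⟩
  haveI : IsClosedImmersion (Spec.map (CommRingCat.ofHom (Ideal.Quotient.mk m))) :=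
    IsClosedImmersion.spec_of_surjective _ Ideal.Quotient.mk_surjective
  haveI : IsIntegralHom c₀ := by rw [hc₀]; infer_instance
  obtain ⟨ψ, hψ⟩ := Spec.map_surjective (c₀ ≫ pullback.fst ξ f)
  have hint : ψ.hom.IsIntegral :=
    IsIntegralHom.SpecMap_iff.1 (by rw [hψ]; infer_instance)
  letI : Algebra Ω (Γ(pullback ξ f, ⊤) ⧸ m) := ψ.hom.toAlgebra
  haveI : Algebra.IsIntegral Ω (Γ(pullback ξ f, ⊤) ⧸ m) := ⟨hint⟩
  have hbij : Function.Bijective ψ.hom :=
    IsAlgClosed.algebraMap_bijective_of_isIntegral (k := Ω) (K := Γ(pullback ξ f, ⊤) ⧸ m)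
  obtain ⟨e, he⟩ : ∃ e : Ω ≃+* (Γ(pullback ξ f, ⊤) ⧸ m), ∀ x, e x = ψ.hom x :=
    ⟨RingEquiv.ofBijective ψ.hom hbij, fun _ => rfl⟩
  have hσ : ψ ≫ CommRingCat.ofHom e.symm.toRingHom = 𝟙 (CommRingCat.of Ω) := by
    ext x
    show e.symm (ψ.hom x) = x
    rw [← he, RingEquiv.symm_apply_apply]
  have hσc : Spec.map (CommRingCat.ofHom e.symm.toRingHom) ≫ (c₀ ≫ pullback.fst ξ f) = 𝟙 _ := by
    rw [← hψ, ← Spec.map_comp, hσ, Spec.map_id]
  refine ⟨Spec.map (CommRingCat.ofHom e.symm.toRingHom) ≫ c₀ ≫ pullback.snd ξ f, ?_⟩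
  rw [Category.assoc, Category.assoc, ← pullback.condition, ← Category.assoc c₀,
    ← Category.assoc, hσc, Category.id_comp]

/-- The stalks of a direct image vanish away from the (closed) image. -/
theorem isZero_stalk_push_of_closed_range (hcl : IsClosed (Set.range f)) (G : EtCoh.Ab X)
    {Ω : Type u} [Field Ω] [IsSepClosed Ω] (ξ : Spec (CommRingCat.of Ω) ⟶ Y)
    (hξ : Disjoint (Set.range ξ.base) (Set.range f.base)) :
    IsZero ((EtCoh.stalk ξ).obj ((EtCoh.push f).obj G)) := by
  have key : ∀ t : ToType ((Scheme.pointSmallEtale ξ).presheafFiber.obj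
      ((EtCoh.push f).obj G).obj), t = 0 := by
    intro t
    obtain ⟨U, x, z, rfl⟩ := (Scheme.pointSmallEtale ξ).toPresheafFiber_jointly_surjective t
    let W : U.left.Opens := ⟨(U.hom ⁻¹' (Set.range f))ᶜ,
      (hcl.preimage U.hom.continuous).isOpen_compl⟩
    haveI : Etale U.hom := U.prop
    haveI : Etale (W.ι ≫ U.hom) := inferInstance
    let U' : Y.Etale := Scheme.Etale.mk (W.ι ≫ U.hom)
    let g : U' ⟶ U := MorphismProperty.Over.homMk W.ι rfl trivial
    have hxξ : x.left ≫ U.hom = ξ := Over.w x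
    have hrange : Set.range x.left ⊆ Set.range W.ι := by
      rw [Scheme.Opens.range_ι]
      rintro _ ⟨a, rfl⟩
      intro (ha : U.hom (x.left a) ∈ Set.range f)
      have h1 : U.hom (x.left a) = ξ a :=
        congrArg (fun (m : Spec (CommRingCat.of Ω) ⟶ Y) => m a) hxξ
      rw [h1] at ha
      exact Set.disjoint_left.1 hξ ⟨a, rfl⟩ ha
    have hw : IsOpenImmersion.lift W.ι x.left hrange ≫ (W.ι ≫ U.hom) = ξ := by
      rw [← Category.assoc, IsOpenImmersion.lift_fac, hxξ]
    let x' : (Scheme.pointSmallEtale ξ).fiber.obj U' :=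
      Over.homMk (IsOpenImmersion.lift W.ι x.left hrange) hw
    have hx' : (Scheme.pointSmallEtale ξ).fiber.map g x' = x := by
      apply Over.OverMorphism.ext
      exact IsOpenImmersion.lift_fac _ _ _
    haveI : IsEmpty ((EtCoh.bc f).obj U').left := by
      show IsEmpty ↥(pullback (W.ι ≫ U.hom) f)
      rw [Scheme.isEmpty_pullback_iff, Set.disjoint_left]
      rintro _ ⟨w, rfl⟩ hw'
      have h2 : (W.ι ≫ U.hom) w = U.hom (W.ι w) := Scheme.Hom.comp_apply _ _ _
      rw [h2] at hw'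
      exact w.2 hw'
    have hz : ((EtCoh.push f).obj G).obj.map g.op z = 0 :=
      eq_zero_of_isEmpty G ((EtCoh.bc f).obj U') _
    rw [← hx', ← (Scheme.pointSmallEtale ξ).toPresheafFiber_w_apply g x'
      ((EtCoh.push f).obj G).obj z, hz, map_zero]
  haveI : Subsingleton ((EtCoh.stalk ξ).obj ((EtCoh.push f).obj G)) :=
    ⟨fun a b => (key a).trans (key b).symm⟩
  exact AddCommGrpCat.isZero_of_subsingleton _

theorem mono_of_algClosed {F G : EtCoh.Ab Y} (a : F ⟶ G)
    (h : ∀ (K : Type u) [Field K] [IsAlgClosed K] (ξ : Spec (CommRingCat.of K) ⟶ Y),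
      Function.Injective ((EtCoh.stalk ξ).map a)) : Mono a := by
  haveI : Sheaf.IsLocallyInjective a :=
    isLocallyInjective_of_stalks a.hom (fun K _ _ ξ => h K ξ)
  exact Sheaf.mono_of_isLocallyInjective a

theorem epi_of_algClosed {F G : EtCoh.Ab Y} (a : F ⟶ G)
    (h : ∀ (K : Type u) [Field K] [IsAlgClosed K] (ξ : Spec (CommRingCat.of K) ⟶ Y),
      Function.Surjective ((EtCoh.stalk ξ).map a)) : Epi a := by
  haveI : Sheaf.IsLocallySurjective a :=
    isLocallySurjective_of_stalks a.hom (fun K _ _ ξ => h K ξ)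
  infer_instance

section UI

variable [IsIntegralHom f] [UniversallyInjective f]

theorem isIso_comparison_int (G : EtCoh.Ab X) {Ω : Type u} [Field Ω] [IsAlgClosed Ω]
    (ζ : Spec (CommRingCat.of Ω) ⟶ X) :
    IsIso (comparison (Scheme.pointSmallEtale ζ) (EtCoh.bc f) (EtCoh.coverPreserving_bc f)
      AddCommGrpCat.{u + 1} G) :=
  (ConcreteCategory.isIso_iff_bijective _).2 (bijective_comparison_int f ζ G)

theorem isIso_counit_int (G : EtCoh.Ab X) : IsIso ((EtCoh.pullPushAdj f).counit.app G) := by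
  have hbij : ∀ (Ω : Type u) [Field Ω] [IsAlgClosed Ω] (ζ : Spec (CommRingCat.of Ω) ⟶ X),
      IsIso ((EtCoh.stalk ζ).map ((EtCoh.pullPushAdj f).counit.app G)) := by
    intro Ω _ _ ζ
    have h1 : IsIso (((Scheme.pointSmallEtale ζ).sheafFiberComapIso (EtCoh.bc f)
        (EtCoh.coverPreserving_bc f) AddCommGrpCat.{u + 1}).hom.app ((EtCoh.push f).obj G) ≫
        (EtCoh.stalk ζ).map ((EtCoh.pullPushAdj f).counit.app G)) := isIso_comparison_int f G ζ
    exact IsIso.of_isIso_comp_left (((Scheme.pointSmallEtale ζ).sheafFiberComapIso (EtCoh.bc f)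
        (EtCoh.coverPreserving_bc f) AddCommGrpCat.{u + 1}).hom.app ((EtCoh.push f).obj G)) _
  haveI : Mono ((EtCoh.pullPushAdj f).counit.app G) := mono_of_algClosed _ (fun Ω _ _ ζ => by
    haveI := hbij Ω ζ
    exact (ConcreteCategory.bijective_of_isIso _).1)
  haveI : Epi ((EtCoh.pullPushAdj f).counit.app G) := epi_of_algClosed _ (fun Ω _ _ ζ => by
    haveI := hbij Ω ζ
    exact (ConcreteCategory.bijective_of_isIso _).2)
  exact isIso_of_mono_of_epi _

theorem full_faithful_int : (EtCoh.push f).Full ∧ (EtCoh.push f).Faithful := by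
  haveI : ∀ G, IsIso ((EtCoh.pullPushAdj f).counit.app G) := isIso_counit_int f
  haveI : IsIso (EtCoh.pullPushAdj f).counit := NatIso.isIso_of_isIso_app _
  have ff := (EtCoh.pullPushAdj f).fullyFaithfulROfIsIsoCounit
  exact ⟨ff.full, ff.faithful⟩

theorem isClosed_range_int : IsClosed (Set.range f) := f.isClosedMap.isClosed_range

theorem isIso_unit_of_supp (G : EtCoh.Ab Y) (hG : EtPBC.supp G ⊆ Set.range f.base) :
    IsIso ((EtCoh.pullPushAdj f).unit.app G) := by
  have hstalk : ∀ (Ω : Type u) [Field Ω] [IsAlgClosed Ω] (ξ : Spec (CommRingCat.of Ω) ⟶ Y),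
      Function.Bijective ((EtCoh.stalk ξ).map ((EtCoh.pullPushAdj f).unit.app G)) := by
    intro Ω _ _ ξ
    by_cases hmem : ξ (default : ↥(Spec (CommRingCat.of Ω))) ∈ Set.range f
    · obtain ⟨ζ, rfl⟩ := exists_geometric_lift_int f ξ hmem
      haveI : IsIso ((EtCoh.pull f).map ((EtCoh.pullPushAdj f).unit.app G)) := by
        have h4 := (EtCoh.pullPushAdj f).left_triangle_components G
        haveI := isIso_counit_int f ((EtCoh.pull f).obj G)
        haveI : IsIso ((EtCoh.pull f).map ((EtCoh.pullPushAdj f).unit.app G) ≫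
            (EtCoh.pullPushAdj f).counit.app ((EtCoh.pull f).obj G)) := by
          rw [h4]; exact IsIso.id _
        exact IsIso.of_isIso_comp_right _
          ((EtCoh.pullPushAdj f).counit.app ((EtCoh.pull f).obj G))
      haveI : IsIso ((EtCoh.pull f ⋙ EtCoh.stalk ζ).map ((EtCoh.pullPushAdj f).unit.app G)) := by
        show IsIso ((EtCoh.stalk ζ).map ((EtCoh.pull f).map ((EtCoh.pullPushAdj f).unit.app G)))
        infer_instance
      haveI : IsIso ((EtCoh.stalk (ζ ≫ f)).map ((EtCoh.pullPushAdj f).unit.app G)) :=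
        (NatIso.isIso_map_iff (EtStalkPull.stalkPullIso f ζ) _).1 inferInstance
      exact ConcreteCategory.bijective_of_isIso _
    · have hdis : Disjoint (Set.range ξ.base) (Set.range f.base) := by
        rw [Set.disjoint_left]
        rintro _ ⟨a, rfl⟩ h
        rw [Subsingleton.elim a default] at h
        exact hmem h
      have h1 : IsZero ((EtCoh.stalk ξ).obj G) := by
        by_contra hnz
        have hsupp : ξ (default : ↥(Spec (CommRingCat.of Ω))) ∈ EtPBC.supp G := by
          refine ⟨Ω, inferInstance, inferInstance, ξ, ?_, hnz⟩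
          ext y
          constructor
          · rintro ⟨a, rfl⟩
            rw [Subsingleton.elim a default]
            rfl
          · intro hy
            exact ⟨default, hy.symm⟩
        exact hmem (hG hsupp)
      have h2 := isZero_stalk_push_of_closed_range f (isClosed_range_int f)
        ((EtCoh.pull f).obj G) ξ hdis
      haveI s1 : Subsingleton ↑((EtCoh.stalk ξ).obj ((𝟭 (EtCoh.Ab Y)).obj G)) :=
        AddCommGrpCat.subsingleton_of_isZero h1
      haveI s2 : Subsingleton ↑((EtCoh.stalk ξ).obj ((EtCoh.pull f ⋙ EtCoh.push f).obj G)) :=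
        AddCommGrpCat.subsingleton_of_isZero h2
      exact ⟨fun a b _ => Subsingleton.elim a b, fun b => ⟨0, Subsingleton.elim _ _⟩⟩
  haveI : Mono ((EtCoh.pullPushAdj f).unit.app G) :=
    mono_of_algClosed _ (fun Ω _ _ ξ => (hstalk Ω ξ).1)
  haveI : Epi ((EtCoh.pullPushAdj f).unit.app G) :=
    epi_of_algClosed _ (fun Ω _ _ ξ => (hstalk Ω ξ).2)
  exact isIso_of_mono_of_epi _

theorem essImage_iff_int (G : EtCoh.Ab Y) :
    (EtCoh.push f).essImage G ↔ EtPBC.supp G ⊆ Set.range f.base := by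
  constructor
  · rintro ⟨F, ⟨e⟩⟩ y ⟨Ω, _, _, ξ, hξr, hnz⟩
    by_contra hy
    have hdis : Disjoint (Set.range ξ.base) (Set.range f.base) := by
      rw [Set.disjoint_left]
      rintro _ ⟨a, rfl⟩ h
      have h1 : ξ a ∈ Set.range ξ := ⟨a, rfl⟩
      rw [hξr] at h1
      have h2 : ξ a = y := h1
      exact hy (h2 ▸ h)
    have h0 := isZero_stalk_push_of_closed_range f (isClosed_range_int f) F ξ hdis
    exact hnz (h0.of_iso ((EtCoh.stalk ξ).mapIso e.symm))
  · intro hG
    haveI := isIso_unit_of_supp f G hG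
    exact ⟨(EtCoh.pull f).obj G, ⟨(asIso ((EtCoh.pullPushAdj f).unit.app G)).symm⟩⟩

theorem main631 :
    (EtCoh.push f).Full ∧ (EtCoh.push f).Faithful ∧
    (∀ G : EtCoh.Ab Y, (EtCoh.push f).essImage G ↔ EtPBC.supp G ⊆ Set.range f.base) ∧
    ∀ F : EtCoh.Ab X, IsIso ((EtCoh.pullPushAdj f).counit.app F) :=
  ⟨(full_faithful_int f).1, (full_faithful_int f).2, essImage_iff_int f, isIso_counit_int f⟩

end UI

end Groth.Agent.Lib.EtIntH7
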