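import Mathlib
import Groth.Prelude.Def_EtBase

/-!
# Directed colimits of abelian sheaves on the small étale site: local description of sections
(helper8)
APPEND-ONLY once landed.
-/

set_option autoImplicit false
set_option backward.isDefEq.respectTransparency false
universe u
open CategoryTheory CategoryTheory.Limits AlgebraicGeometry Opposite

namespace Groth.Agent.Lib.EtColimSecH8

variable {X : Scheme.{u}} {ι : Type (u + 1)} [Preorder ι] [IsDirected ι (· ≤ ·)] [Nonempty ι]
  (D : ι ⥤ EtCoh.Ab X) (c : Cocone D) (hc : IsColimit c)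

/-- the diagram of underlying presheaves -/
noncomputable abbrev Dp : ι ⥤ (X.Etaleᵒᵖ ⥤ AddCommGrpCat.{u + 1}) :=
  D ⋙ sheafToPresheaf _ _

/-- the presheaf colimit -/
noncomputable abbrev cP : Cocone (Dp D) := colimit.cocone (Dp D)

noncomputable abbrev hcP : IsColimit (cP D) := colimit.isColimit (Dp D)

/-- the comparison map from the presheaf colimit to the sheaf colimit -/
noncomputable def φ : (cP D).pt ⟶ c.pt.obj :=
  (hcP D).desc ((sheafToPresheaf _ _).mapCocone c)

lemma ι_φ (i : ι) : (cP D).ι.app i ≫ φ D c = (c.ι.app i).hom :=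
  (hcP D).fac _ i

include hc in
lemma W_φ : X.smallEtaleTopology.W (φ D c) := by
  intro Z hZ
  let Zs : EtCoh.Ab X := ⟨Z, hZ⟩
  constructor
  · intro g g' h
    have h' : φ D c ≫ g = φ D c ≫ g' := h
    let gs : c.pt ⟶ Zs := ⟨g⟩
    let gs' : c.pt ⟶ Zs := ⟨g'⟩
    have : gs = gs' := by
      apply hc.hom_ext
      intro i
      apply Sheaf.hom_ext
      show (c.ι.app i).hom ≫ g = (c.ι.app i).hom ≫ g'
      rw [← ι_φ D c i, Category.assoc, Category.assoc, h']
    exact congrArg (fun m => m.hom) this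
  · intro h
    let cc : Cocone D :=
      { pt := Zs
        ι := { app := fun i => ⟨(cP D).ι.app i ≫ h⟩
               naturality := fun i j f => by
                 apply Sheaf.hom_ext
                 show (D.map f).hom ≫ (cP D).ι.app j ≫ h = ((cP D).ι.app i ≫ h) ≫ 𝟙 _
                 rw [Category.comp_id, ← Category.assoc]
                 congr 1
                 exact (cP D).w f } }
    refine ⟨(hc.desc cc).hom, ?_⟩
    apply (hcP D).hom_ext
    intro i
    show (cP D).ι.app i ≫ φ D c ≫ (hc.desc cc).hom = (cP D).ι.app i ≫ h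
    rw [← Category.assoc, ι_φ]
    exact congrArg (fun m => m.hom) (hc.fac cc i)


section Concrete

variable (U : X.Etale)

/-- the diagram of sections over `U` -/
noncomputable abbrev DU : ι ⥤ AddCommGrpCat.{u + 1} :=
  Dp D ⋙ (evaluation X.Etaleᵒᵖ AddCommGrpCat.{u + 1}).obj (op U)

noncomputable def hcU : IsColimit (((evaluation X.Etaleᵒᵖ AddCommGrpCat.{u + 1}).obj
    (op U)).mapCocone (cP D)) :=
  isColimitOfPreserves _ (hcP D)

lemma P_rep (x : (cP D).pt.obj (op U)) :
    ∃ (i : ι) (s : (D.obj i).obj.obj (op U)), ((cP D).ι.app i).app (op U) s = x :=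
  Concrete.isColimit_exists_rep (DU D U) (hcU D U) x

lemma P_eq {i j : ι} (s : (D.obj i).obj.obj (op U)) (s' : (D.obj j).obj.obj (op U))
    (h : ((cP D).ι.app i).app (op U) s = ((cP D).ι.app j).app (op U) s') :
    ∃ (k : ι) (hi : i ≤ k) (hj : j ≤ k),
      (D.map (homOfLE hi)).hom.app (op U) s = (D.map (homOfLE hj)).hom.app (op U) s' := by
  obtain ⟨k, f, g, hfg⟩ := Concrete.isColimit_exists_of_rep_eq (DU D U) (hcU D U) s s' h
  exact ⟨k, f.le, g.le, hfg⟩

end Concrete


lemma ι_φ_app (i : ι) (W : X.Etale) (s : (D.obj i).obj.obj (op W)) :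
    (φ D c).app (op W) (((cP D).ι.app i).app (op W) s) = (c.ι.app i).hom.app (op W) s := by
  have h := congrArg (fun m => (m.app (op W)) s) (ι_φ D c i)
  exact h

include hc in
/-- a section of the colimit sheaf locally comes from a stage -/
lemma loc_rep (U : X.Etale) (t : c.pt.obj.obj (op U)) :
    ∃ R ∈ X.smallEtaleTopology U, ∀ {W : X.Etale} (f : W ⟶ U), R f →
      ∃ (i : ι) (s : (D.obj i).obj.obj (op W)),
        (c.ι.app i).hom.app (op W) s = c.pt.obj.map f.op t := by
  haveI := (W_φ D c hc).isLocallySurjective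
  refine ⟨Presheaf.imageSieve (φ D c) t, Presheaf.imageSieve_mem _ (φ D c) t, ?_⟩
  rintro W f ⟨x, hx⟩
  obtain ⟨i, s, rfl⟩ := P_rep D W x
  exact ⟨i, s, (ι_φ_app D c i W s).symm.trans hx⟩

include hc in
/-- a section of a stage dying in the colimit sheaf locally dies at a later stage -/
lemma loc_zero (U : X.Etale) (i : ι) (s : (D.obj i).obj.obj (op U))
    (h : (c.ι.app i).hom.app (op U) s = 0) :
    ∃ R ∈ X.smallEtaleTopology U, ∀ {W : X.Etale} (f : W ⟶ U), R f →
      ∃ (j : ι) (hij : i ≤ j),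
        (D.map (homOfLE hij)).hom.app (op W) ((D.obj i).obj.map f.op s) = 0 := by
  haveI := (W_φ D c hc).isLocallyInjective
  have h0 : (φ D c).app (op U) (((cP D).ι.app i).app (op U) s) = (φ D c).app (op U) 0 := by
    rw [ι_φ_app, h, map_zero]
  refine ⟨_, Presheaf.equalizerSieve_mem _ (φ D c) _ _ h0, ?_⟩
  intro W f hf
  have hf' : (cP D).pt.map f.op (((cP D).ι.app i).app (op U) s) = (cP D).pt.map f.op 0 := hf
  have h1 : ((cP D).ι.app i).app (op W) ((D.obj i).obj.map f.op s) =
      ((cP D).ι.app i).app (op W) 0 := by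
    rw [map_zero] at hf' ⊢
    rw [← hf']
    exact NatTrans.naturality_apply ((cP D).ι.app i) f.op s
  obtain ⟨k, hi, _, hk⟩ := P_eq D W _ _ h1
  exact ⟨k, hi, hk.trans (map_zero _)⟩


end Groth.Agent.Lib.EtColimSecH8
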