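import Mathlib
import Groth.Prelude.Def_EtBase
import Groth.Agent.Lib.EtCartan3_helper8
import Groth.Agent.Lib.EtColimSec1_helper8

/-!
# Directed colimits of abelian sheaves on the small étale site: sections over affine objects
(helper8)
APPEND-ONLY once landed.
-/

set_option autoImplicit false
set_option backward.isDefEq.respectTransparency false
universe u
open CategoryTheory CategoryTheory.Limits AlgebraicGeometry Opposite

namespace Groth.Agent.Lib.EtColimSecH8

open Groth.Agent.Lib.EtSchSite_helper7 Groth.Agent.Lib.EtZarAff_helper7 Groth.Agent.Lib.CechSite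
  Groth.Agent.Lib.EtCartanH8 Groth.Agent.Lib.GaCechH8 Groth.Agent.Lib.EtCechPush

variable {X : Scheme.{u}}

attribute [local instance] hasFiniteProducts_over

/-- finite version of `exists_affine_surj'` -/
theorem exists_affine_surj_fin {Z : X.Etale} [IsAffine Z.left] {R : Sieve Z}
    (hR : R ∈ X.smallEtaleTopology Z) :
    ∃ (V : X.Etale) (_ : IsAffine V.left) (d : V ⟶ Z) (_ : Surjective d.left) (ι : Type u)
      (_ : Finite ι) (Vj : ι → X.Etale) (ij : ∀ j, Vj j ⟶ V),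
      (∀ j, R (ij j ≫ d)) ∧
      ∀ (G : EtCoh.Ab X) (x : ∀ j, G.obj.obj (op (Vj j))),
        ∃! s : G.obj.obj (op V), ∀ j, G.obj.map (ij j).op s = x j := by
  rw [mem_Jet_iff] at hR
  choose Y f y hf hE hy using hR
  choose O hO hyO using fun z => exists_affine_nhd (Y z) (y z)
  let g : ∀ z : Z.left, (O z).toScheme ⟶ Z.left := fun z => (O z).ι ≫ (f z).left
  have hopen : ∀ z, IsOpen (Set.range (g z)) := fun z => (g z).isOpenMap.isOpen_range
  have hmem : ∀ z, z ∈ Set.range (g z) := by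
    intro z
    obtain ⟨a, ha⟩ := mem_range_ι (hyO z)
    refine ⟨a, ?_⟩
    have ha' : (O z).ι a = y z := ha
    calc g z a = (f z).left ((O z).ι a) := Scheme.Hom.comp_apply _ _ _
      _ = z := by rw [ha', hy]
  obtain ⟨t, ht⟩ := isCompact_univ.elim_finite_subcover (fun z => Set.range (g z)) hopen
    (fun z _ => Set.mem_iUnion.2 ⟨z, hmem z⟩)
  let A : t → Scheme.{u} := fun j => (O j.1).toScheme
  haveI : ∀ j, IsAffine (A j) := fun j => hO j.1
  let hA : ∀ j : t, A j ⟶ X := fun j => (O j.1).ι ≫ (Y j.1).hom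
  haveI : ∀ j, Etale (hA j) := fun j => inferInstance
  let dS : (∐ A) ⟶ Z.left := Sigma.desc (fun j : t => g j.1)
  have hd : dS ≫ Z.hom = Sigma.desc hA := by
    apply Sigma.hom_ext
    intro j
    have e1 : Sigma.ι A j ≫ dS = g j.1 := Sigma.ι_desc _ _
    have e2 : Sigma.ι A j ≫ Sigma.desc hA = (O j.1).ι ≫ (Y j.1).hom := Sigma.ι_desc _ _
    rw [← Category.assoc, e1, e2, Category.assoc, MorphismProperty.Over.w (f j.1)]
  let d : sigObj A hA ⟶ Z := MorphismProperty.Over.homMk dS hd trivial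
  have hR' : ∀ j : t, R (sigι A hA j ≫ d) := fun j => by
    have e : sigι A hA j ≫ d = opnι (Y j.1) (O j.1) ≫ f j.1 := by
      apply MorphismProperty.Over.Hom.ext
      show Sigma.ι A j ≫ dS = (O j.1).ι ≫ (f j.1).left
      exact Sigma.ι_desc _ _
    rw [e]
    exact R.downward_closed (hf j.1) _
  have hsurj : Surjective d.left := ⟨fun z => by
    obtain ⟨j, hj, a, ha⟩ : ∃ j ∈ t, ∃ a, g j a = z := by
      have := ht (Set.mem_univ z)
      simpa only [Set.mem_iUnion, Set.mem_range, exists_prop] using this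
    refine ⟨Sigma.ι A ⟨j, hj⟩ a, ?_⟩
    have e : Sigma.ι A ⟨j, hj⟩ ≫ dS = g j := Sigma.ι_desc _ _
    calc dS (Sigma.ι A ⟨j, hj⟩ a) = (Sigma.ι A ⟨j, hj⟩ ≫ dS) a :=
          (Scheme.Hom.comp_apply _ _ _).symm
      _ = g j a := by rw [e]
      _ = z := ha⟩
  exact ⟨sigObj A hA, inferInstanceAs (IsAffine (∐ A)), d, hsurj, t, inferInstance, sigPart A hA, sigι A hA,
    hR', fun G x => glue_sigma A hA G x⟩


section Dir

variable {ι : Type (u + 1)} [Preorder ι] [IsDirected ι (· ≤ ·)] [Nonempty ι]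
  (D : ι ⥤ EtCoh.Ab X) (c : Cocone D) (hc : IsColimit c)

/-- transition maps on sections -/
noncomputable abbrev tr {i j : ι} (h : i ≤ j) (W : X.Etale) :
    (D.obj i).obj.obj (op W) →+ (D.obj j).obj.obj (op W) :=
  ((D.map (homOfLE h)).hom.app (op W)).hom

/-- the cocone maps on sections -/
noncomputable abbrev ci (i : ι) (W : X.Etale) :
    (D.obj i).obj.obj (op W) →+ c.pt.obj.obj (op W) :=
  ((c.ι.app i).hom.app (op W)).hom

omit [IsDirected ι (· ≤ ·)] [Nonempty ι] in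
lemma tr_tr {i j k : ι} (h : i ≤ j) (h' : j ≤ k) (W : X.Etale) (s : (D.obj i).obj.obj (op W)) :
    tr D h' W (tr D h W s) = tr D (h.trans h') W s := by
  have e : D.map (homOfLE h) ≫ D.map (homOfLE h') = D.map (homOfLE (h.trans h')) :=
    (D.map_comp _ _).symm
  have := congrArg (fun m => (m.hom.app (op W)).hom s) e
  exact this

omit [IsDirected ι (· ≤ ·)] [Nonempty ι] in
lemma tr_rs {i j : ι} (h : i ≤ j) {W W' : X.Etale} (f : W' ⟶ W) (s : (D.obj i).obj.obj (op W)) :
    tr D h W' (rs (D.obj i).obj f s) = rs (D.obj j).obj f (tr D h W s) :=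
  rs_app (D.obj i).obj (D.map (homOfLE h)).hom f s

omit [IsDirected ι (· ≤ ·)] [Nonempty ι] in
lemma ci_rs (i : ι) {W W' : X.Etale} (f : W' ⟶ W) (s : (D.obj i).obj.obj (op W)) :
    ci D c i W' (rs (D.obj i).obj f s) = rs c.pt.obj f (ci D c i W s) :=
  rs_app (D.obj i).obj (c.ι.app i).hom f s

omit [IsDirected ι (· ≤ ·)] [Nonempty ι] in
lemma ci_tr {i j : ι} (h : i ≤ j) (W : X.Etale) (s : (D.obj i).obj.obj (op W)) :
    ci D c j W (tr D h W s) = ci D c i W s := by
  have e : D.map (homOfLE h) ≫ c.ι.app j = c.ι.app i := c.w (homOfLE h)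
  have := congrArg (fun m => (m.hom.app (op W)).hom s) e
  exact this

end Dir

section Aff

variable {ι : Type (u + 1)} [Preorder ι] [IsDirected ι (· ≤ ·)] [Nonempty ι]
  (D : ι ⥤ EtCoh.Ab X) (c : Cocone D) (hc : IsColimit c)

include hc in
/-- over an affine object, a section of a stage dying in the colimit dies at a later stage -/
theorem aff_inj (U : X.Etale) [IsAffine U.left] (i : ι) (s : (D.obj i).obj.obj (op U))
    (h : ci D c i U s = 0) : ∃ (j : ι) (hij : i ≤ j), tr D hij U s = 0 := by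
  obtain ⟨R, hR, hloc⟩ := loc_zero D c hc U i s h
  obtain ⟨V, hV, d, hd, κ, hκ, Vj, ij, hRj, hglue⟩ := exists_affine_surj_fin hR
  have hloc' : ∀ j : κ, ∃ (k : ι) (hik : i ≤ k),
      tr D hik (Vj j) (rs (D.obj i).obj (ij j ≫ d) s) = 0 := fun j => hloc _ (hRj j)
  choose k hik hk using hloc'
  obtain ⟨M, hM⟩ := Finite.exists_le k
  obtain ⟨m, hiM, hMm⟩ := exists_ge_ge i M
  have him : i ≤ m := hiM
  refine ⟨m, him, ?_⟩
  -- the restriction to `V` vanishes
  have hV0 : rs (D.obj m).obj d (tr D him U s) = 0 := by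
    apply (hglue (D.obj m) (fun _ => 0)).unique
    · intro j
      have hkm : k j ≤ m := (hM j).trans hMm
      show rs (D.obj m).obj (ij j) (rs (D.obj m).obj d (tr D him U s)) = 0
      rw [rs_rs, ← tr_rs, ← tr_tr D (hik j) hkm, hk j, map_zero]
    · intro j
      exact map_zero _
  -- `V ⟶ U` is a covering
  let V' : Over U := Over.mk d
  have hY : Sieve.ofArrows (fun a => ((Y1.{u + 1} V') a).left) (fun a => ((Y1.{u + 1} V') a).hom) ∈
      X.smallEtaleTopology U := by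
    apply ofArrows_mem_of_surjective
    intro x
    obtain ⟨v, hv⟩ := hd.surj x
    exact ⟨PUnit.unit, v, hv⟩
  apply ext_of_cover (Y1.{u + 1} V') (D.obj m) hY
  intro _
  show rs (D.obj m).obj d (tr D him U s) = rs (D.obj m).obj d 0
  rw [hV0, map_zero]

end Aff

section AffSurj

variable {ι : Type (u + 1)} [Preorder ι] [IsDirected ι (· ≤ ·)] [Nonempty ι]
  (D : ι ⥤ EtCoh.Ab X) (c : Cocone D) (hc : IsColimit c)

include hc in
/-- over an affine object, every section of the colimit comes from a stage -/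
theorem aff_surj (U : X.Etale) [IsAffine U.left] (t : c.pt.obj.obj (op U)) :
    ∃ (i : ι) (s : (D.obj i).obj.obj (op U)), ci D c i U s = t := by
  obtain ⟨R, hR, hloc⟩ := loc_rep D c hc U t
  obtain ⟨V, hV, d, hd, κ, hκ, Vj, ij, hRj, hglue⟩ := exists_affine_surj_fin hR
  have hloc' : ∀ j : κ, ∃ (k : ι) (sj : (D.obj k).obj.obj (op (Vj j))),
      ci D c k (Vj j) sj = rs c.pt.obj (ij j ≫ d) t := fun j => hloc _ (hRj j)
  choose k sj hsj using hloc'
  obtain ⟨M, hM⟩ := Finite.exists_le k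
  obtain ⟨sV, hsV, -⟩ := hglue (D.obj M) (fun j => tr D (hM j) (Vj j) (sj j))
  have hsV' : ∀ j, rs (D.obj M).obj (ij j) sV = tr D (hM j) (Vj j) (sj j) := hsV
  have hcV : ci D c M V sV = rs c.pt.obj d t := by
    apply (hglue c.pt (fun j => rs c.pt.obj (ij j ≫ d) t)).unique
    · intro j
      show rs c.pt.obj (ij j) (ci D c M V sV) = _
      rw [← ci_rs, hsV' j, ci_tr, hsj]
    · intro j
      exact rs_rs c.pt.obj (ij j) d t
  haveI := hV
  let V' : Over U := Over.mk d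
  have hY : Sieve.ofArrows (fun a => ((Y1.{u + 1} V') a).left) (fun a => ((Y1.{u + 1} V') a).hom) ∈
      X.smallEtaleTopology U := by
    apply ofArrows_mem_of_surjective
    intro x
    obtain ⟨v, hv⟩ := hd.surj x
    exact ⟨PUnit.unit, v, hv⟩
  let σ : Fin 2 → PUnit.{u + 2} := fun _ => PUnit.unit
  haveI : IsAffine V'.left.left := hV
  haveI : IsAffine (T (Y1.{u + 1} V') σ).left.left := isAffine_Pw U V' 1
  obtain ⟨p0, hp0⟩ : ∃ p0 : (T (Y1.{u + 1} V') σ).left ⟶ V, p0 = pr (Y1.{u + 1} V') σ 0 := ⟨_, rfl⟩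
  obtain ⟨p1, hp1⟩ : ∃ p1 : (T (Y1.{u + 1} V') σ).left ⟶ V, p1 = pr (Y1.{u + 1} V') σ 1 := ⟨_, rfl⟩
  have e0 : p0 ≫ d = (T (Y1.{u + 1} V') σ).hom := by rw [hp0]; exact pr_hom (Y1.{u + 1} V') σ 0
  have e1 : p1 ≫ d = (T (Y1.{u + 1} V') σ).hom := by rw [hp1]; exact pr_hom (Y1.{u + 1} V') σ 1
  have hz : ci D c M _ (rs (D.obj M).obj p0 sV - rs (D.obj M).obj p1 sV) = 0 := by
    rw [map_sub, ci_rs, ci_rs, hcV, rs_rs, rs_rs, e0, e1, sub_self]
  obtain ⟨m, hMm, hm⟩ := aff_inj D c hc (T (Y1.{u + 1} V') σ).left M _ hz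
  have hpair' : rs (D.obj m).obj p0 (tr D hMm V sV) = rs (D.obj m).obj p1 (tr D hMm V sV) := by
    rw [← tr_rs, ← tr_rs, ← sub_eq_zero, ← map_sub]
    exact hm
  have hpair : ∀ τ : Fin 2 → PUnit.{u + 2},
      rs (D.obj m).obj (pr (Y1.{u + 1} V') τ 0) (tr D hMm V sV) =
        rs (D.obj m).obj (pr (Y1.{u + 1} V') τ 1) (tr D hMm V sV) := by
    intro τ
    obtain rfl : τ = σ := Subsingleton.elim _ _
    rw [← hp0, ← hp1]
    exact hpair'
  obtain ⟨s', hs', -⟩ := existsUnique_glue (Y1.{u + 1} V') (D.obj m) hY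
    (fun _ => tr D hMm V sV) (compat_of_pair (Y1.{u + 1} V') (D.obj m).obj _ hpair)
  have hs'' : rs (D.obj m).obj d s' = tr D hMm V sV := hs' PUnit.unit
  refine ⟨m, s', ?_⟩
  apply ext_of_cover (Y1.{u + 1} V') c.pt hY
  intro _
  show rs c.pt.obj d (ci D c m U s') = rs c.pt.obj d t
  rw [← ci_rs, hs'', ci_tr, hcV]

end AffSurj

end Groth.Agent.Lib.EtColimSecH8
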