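import Mathlib
import Groth.Prelude.Def_EtBase
import Groth.Agent.Lib.EtColimSec2_helper8

/-!
# A directed colimit of Čech-acyclic étale sheaves is Čech-acyclic on affines (helper8)
APPEND-ONLY once landed.
-/

set_option autoImplicit false
set_option backward.isDefEq.respectTransparency false
universe u
open CategoryTheory CategoryTheory.Limits AlgebraicGeometry Opposite

namespace Groth.Agent.Lib.EtColimSecH8

open Groth.Agent.Lib.EtSchSite_helper7 Groth.Agent.Lib.EtZarAff_helper7 Groth.Agent.Lib.CechSite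
  Groth.Agent.Lib.EtCartanH8 Groth.Agent.Lib.GaCechH8 Groth.Agent.Lib.EtCechPush

variable {X : Scheme.{u}}

attribute [local instance] hasFiniteProducts_over

section Nat

variable {U : X.Etale} (V : Over U) {P P' : X.Etaleᵒᵖ ⥤ AddCommGrpCat.{u + 1}} (ψ : P ⟶ P')

lemma app_d1 (n : ℕ) (x : C1 V (Qr P) n) :
    (ψ.app (op (Pw V (n + 2)).left)).hom (d1 V (Qr P) n x) =
      d1 V (Qr P') n ((ψ.app (op (Pw V (n + 1)).left)).hom x) := by
  rw [d1_apply, d1_apply, map_sum]
  refine Finset.sum_congr rfl fun k _ => ?_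
  rw [map_zsmul]
  congr 1
  exact rs_app P ψ (fc V n k).left x

end Nat

section Single

variable {U : X.Etale} (V : Over U)

/-- Čech exactness of the single cover from vanishing of the Čech cohomology -/
lemma single_exact (P : X.Etaleᵒᵖ ⥤ AddCommGrpCat.{u + 1}) (p : ℕ)
    (h : IsZero (((cechComplexFunctor (Y1.{u + 1} V)).obj
      ((Over.forget U).op ⋙ P)).homology (p + 1)))
    (x : C1 V (Qr P) (p + 1)) (hx : d1 V (Qr P) (p + 1) x = 0) :
    ∃ y : C1 V (Qr P) p, d1 V (Qr P) p y = x := by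
  rw [isZero_homology_succ_iff] at h
  obtain ⟨β, hβ⟩ := h (fun _ => x) (by
    funext σ
    rw [Dd_single V (Qr P) (p + 1) (fun _ => x) σ (fun _ => PUnit.unit), hx]
    rfl)
  refine ⟨β (fun _ => PUnit.unit), ?_⟩
  have := congrFun hβ (fun _ => PUnit.unit)
  rw [Dd_single V (Qr P) p β (fun _ => PUnit.unit) (fun _ => PUnit.unit)] at this
  exact this

end Single

section Colim

variable {ι : Type (u + 1)} [Preorder ι] [IsDirected ι (· ≤ ·)] [Nonempty ι]
  (D : ι ⥤ EtCoh.Ab X) (c : Cocone D) (hc : IsColimit c)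

include hc in
/-- a directed colimit of Čech-acyclic sheaves is Čech-acyclic -/
theorem affCech_colim (hD : ∀ i, AffCech (D.obj i)) : AffCech c.pt := by
  intro U hU V hV hs p
  haveI := hU
  haveI := hV
  rw [isZero_homology_succ_iff]
  apply exact_of_single V (Qr c.pt.obj) p
  intro x hx
  haveI : IsAffine (Pw V (p + 2)).left.left := isAffine_Pw U V (p + 1)
  haveI : IsAffine (Pw V (p + 3)).left.left := isAffine_Pw U V (p + 2)
  obtain ⟨i, a, ha⟩ := aff_surj D c hc (Pw V (p + 2)).left x
  have h1 : ci D c i (Pw V (p + 3)).left (d1 V (Qr (D.obj i).obj) (p + 1) a) = 0 := by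
    have := app_d1 V (P' := c.pt.obj) (c.ι.app i).hom (p + 1) a
    refine this.trans ?_
    have ha' : ((c.ι.app i).hom.app (op (Pw V (p + 2)).left)).hom a = x := ha
    exact (congrArg (d1 V (Qr c.pt.obj) (p + 1)) ha').trans hx
  obtain ⟨j, hij, hj⟩ := aff_inj D c hc (Pw V (p + 3)).left i _ h1
  have h2 : d1 V (Qr (D.obj j).obj) (p + 1) (tr D hij (Pw V (p + 2)).left a) = 0 := by
    have := app_d1 V (D.map (homOfLE hij)).hom (p + 1) a
    exact this.symm.trans hj
  obtain ⟨y, hy⟩ := single_exact V (D.obj j).obj p (hD j U hU V hV hs p) _ h2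
  refine ⟨ci D c j (Pw V (p + 1)).left y, ?_⟩
  have := app_d1 V (P' := c.pt.obj) (c.ι.app j).hom p y
  refine this.symm.trans ?_
  rw [hy]
  exact (ci_tr D c hij _ a).trans ha

end Colim

end Groth.Agent.Lib.EtColimSecH8
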