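import Mathlib
import Groth.Prelude.Def_EtBase
import Groth.Prelude.Def_EtZar
import Groth.Agent.Lib.EtColimCech_helper8
import Groth.Agent.Lib.ZarCont_helper8

/-!
# Directed colimits of abelian étale sheaves: sections over quasi-compact opens (helper8)
APPEND-ONLY once landed.
-/

set_option autoImplicit false
set_option backward.isDefEq.respectTransparency false
universe u
open CategoryTheory CategoryTheory.Limits AlgebraicGeometry Opposite TopologicalSpace

namespace Groth.Agent.Lib.EtColimSecH8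

open Groth.Agent.Lib.EtSchSite_helper7 Groth.Agent.Lib.EtZarAff_helper7 Groth.Agent.Lib.CechSite
  Groth.Agent.Lib.EtCartanH8 Groth.Agent.Lib.GaCechH8 Groth.Agent.Lib.EtCechPush

variable {X : Scheme.{u}} [EtZar.ZarCont X]

/-- an open of `X` as an object of the small étale site -/
noncomputable abbrev EO (V : X.Opens) : X.Etale := (EtZar.zarToEt X).obj V

/-- the Zariski sheaf attached to an étale sheaf, as a `TopCat.Sheaf` -/
noncomputable abbrev Zr (G : EtCoh.Ab X) : TopCat.Sheaf AddCommGrpCat.{u + 1} X.carrier :=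
  (EtZar.resZar X).obj G

/-- separatedness for Zariski covers -/
lemma zar_ext (G : EtCoh.Ab X) {κ : Type u} (W : κ → X.Opens) (V : X.Opens) (hWV : ∀ a, W a ≤ V)
    (hcov : V ≤ iSup W) (s t : G.obj.obj (op (EO V)))
    (h : ∀ a, rs G.obj ((EtZar.zarToEt X).map (homOfLE (hWV a))) s =
      rs G.obj ((EtZar.zarToEt X).map (homOfLE (hWV a))) t) : s = t :=
  TopCat.Sheaf.eq_of_locally_eq' (Zr G) W V (fun a => homOfLE (hWV a)) hcov s t h

/-- finite affine covers of quasi-compact opens -/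
lemma exists_finite_affine_cover (V : X.Opens) (hV : IsCompact (V : Set X)) :
    ∃ (κ : Type u) (_ : Finite κ) (W : κ → X.Opens), (∀ a, IsAffineOpen (W a)) ∧
      (∀ a, W a ≤ V) ∧ V ≤ iSup W := by
  obtain ⟨S, hS, hVS⟩ := isCompact_iff_finite_and_eq_biUnion_affineOpens.mp hV
  refine ⟨S, hS.to_subtype, fun a => a.1.1, fun a => a.1.2, fun a => ?_, ?_⟩
  · rw [hVS]
    exact le_iSup₂_of_le a.1 a.2 le_rfl
  · rw [hVS]
    exact iSup₂_le fun b hb => le_iSup (fun a : S => (a.1.1 : X.Opens)) ⟨b, hb⟩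

section QC

variable {ι : Type (u + 1)} [Preorder ι] [IsDirected ι (· ≤ ·)] [Nonempty ι]
  (D : ι ⥤ EtCoh.Ab X) (c : Cocone D) (hc : IsColimit c)

include hc in
/-- over a quasi-compact open, a section of a stage dying in the colimit dies at a later stage -/
theorem qc_inj (V : X.Opens) (hV : IsCompact (V : Set X)) (i : ι)
    (s : (D.obj i).obj.obj (op (EO V))) (h : ci D c i (EO V) s = 0) :
    ∃ (j : ι) (hij : i ≤ j), tr D hij (EO V) s = 0 := by
  obtain ⟨κ, hκ, W, hWa, hWV, hcov⟩ := exists_finite_affine_cover V hV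
  have hloc : ∀ a : κ, ∃ (k : ι) (hik : i ≤ k), tr D hik (EO (W a))
      (rs (D.obj i).obj ((EtZar.zarToEt X).map (homOfLE (hWV a))) s) = 0 := by
    intro a
    haveI : IsAffine (EO (W a)).left := hWa a
    apply aff_inj D c hc (EO (W a)) i
    rw [ci_rs, h, map_zero]
  choose k hik hk using hloc
  obtain ⟨M, hM⟩ := Finite.exists_le k
  obtain ⟨m, hiM, hMm⟩ := exists_ge_ge i M
  have him : i ≤ m := hiM
  refine ⟨m, him, zar_ext (D.obj m) W V hWV hcov _ 0 (fun a => ?_)⟩
  have hkm : k a ≤ m := (hM a).trans hMm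
  rw [← tr_rs, ← tr_tr D (hik a) hkm, hk a, map_zero, map_zero]

end QC

section QCS

variable {ι : Type (u + 1)} [Preorder ι] [IsDirected ι (· ≤ ·)] [Nonempty ι]
  (D : ι ⥤ EtCoh.Ab X) (c : Cocone D) (hc : IsColimit c)

/-- inclusion of opens as a morphism of the small étale site -/
noncomputable abbrev EOm {V W : X.Opens} (h : V ≤ W) : EO V ⟶ EO W :=
  (EtZar.zarToEt X).map (homOfLE h)

omit [EtZar.ZarCont X] in
lemma EOm_comp {V W W' : X.Opens} (h : V ≤ W) (h' : W ≤ W') :
    EOm h ≫ EOm h' = EOm (h.trans h') :=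
  ((EtZar.zarToEt X).map_comp _ _).symm

include hc in
/-- over a quasi-compact open of a quasi-separated scheme, every section of the colimit comes
from a stage -/
theorem qc_surj [QuasiSeparatedSpace X] (V : X.Opens) (hV : IsCompact (V : Set X))
    (t : c.pt.obj.obj (op (EO V))) :
    ∃ (i : ι) (s : (D.obj i).obj.obj (op (EO V))), ci D c i (EO V) s = t := by
  obtain ⟨κ, hκ, W, hWa, hWV, hcov⟩ := exists_finite_affine_cover V hV
  have hloc : ∀ a, ∃ (k : ι) (sa : (D.obj k).obj.obj (op (EO (W a)))),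
      ci D c k (EO (W a)) sa = rs c.pt.obj (EOm (hWV a)) t := by
    intro a
    haveI : IsAffine (EO (W a)).left := hWa a
    exact aff_surj D c hc (EO (W a)) _
  choose k sa hsa using hloc
  obtain ⟨M, hM⟩ := Finite.exists_le k
  obtain ⟨sM, hsMdef⟩ : ∃ sM : ∀ a, (D.obj M).obj.obj (op (EO (W a))),
      sM = fun a => tr D (hM a) (EO (W a)) (sa a) := ⟨_, rfl⟩
  have hsM : ∀ a, ci D c M (EO (W a)) (sM a) = rs c.pt.obj (EOm (hWV a)) t := by
    intro a
    rw [hsMdef]
    exact (ci_tr D c (hM a) _ (sa a)).trans (hsa a)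
  have hov : ∀ p : κ × κ, ∃ (m : ι) (hMm : M ≤ m), tr D hMm (EO (W p.1 ⊓ W p.2))
      (rs (D.obj M).obj (EOm inf_le_left) (sM p.1) -
        rs (D.obj M).obj (EOm inf_le_right) (sM p.2)) = 0 := by
    intro p
    have hcpt : IsCompact ((W p.1 ⊓ W p.2 : X.Opens) : Set X) :=
      QuasiSeparatedSpace.inter_isCompact _ _ (W p.1).2 (hWa p.1).isCompact (W p.2).2
        (hWa p.2).isCompact
    apply qc_inj D c hc (W p.1 ⊓ W p.2) hcpt M
    rw [map_sub, ci_rs, ci_rs, hsM, hsM, rs_rs, rs_rs, EOm_comp, EOm_comp, sub_self]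
  choose m hMm hm using hov
  obtain ⟨N, hN⟩ := Finite.exists_le m
  obtain ⟨n, hMn, hNn⟩ := exists_ge_ge M N
  have hMn' : M ≤ n := hMn
  obtain ⟨sn, hsndef⟩ : ∃ sn : ∀ a, (Zr (D.obj n)).1.obj (op (W a)),
      sn = fun a => tr D hMn' (EO (W a)) (sM a) := ⟨_, rfl⟩
  have hcomp : TopCat.Presheaf.IsCompatible (Zr (D.obj n)).1 W sn := by
    intro a b
    show rs (D.obj n).obj (EOm inf_le_left) (sn a) = rs (D.obj n).obj (EOm inf_le_right) (sn b)
    rw [hsndef]
    show rs (D.obj n).obj (EOm inf_le_left) (tr D hMn' (EO (W a)) (sM a)) =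
      rs (D.obj n).obj (EOm inf_le_right) (tr D hMn' (EO (W b)) (sM b))
    rw [← tr_rs, ← tr_rs, ← sub_eq_zero, ← map_sub,
      ← tr_tr D (hMm (a, b)) ((hN (a, b)).trans hNn), hm (a, b), map_zero]
  obtain ⟨s, hs, -⟩ := TopCat.Sheaf.existsUnique_gluing' (Zr (D.obj n)) W V
    (fun a => homOfLE (hWV a)) hcov sn hcomp
  have hs' : ∀ a, rs (D.obj n).obj (EOm (hWV a)) s = tr D hMn' (EO (W a)) (sM a) := by
    intro a
    have := hs a
    rw [hsndef] at this
    exact this
  refine ⟨n, s, zar_ext c.pt W V hWV hcov _ _ (fun a => ?_)⟩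
  rw [← ci_rs, hs' a, ci_tr, hsM]

end QCS

section Flasque

variable {ι : Type (u + 1)} [Preorder ι] [IsDirected ι (· ≤ ·)] [Nonempty ι]
  (D : ι ⥤ EtCoh.Ab X) (c : Cocone D) (hc : IsColimit c)

include hc in
/-- restrictions of a directed colimit of injective sheaves onto quasi-compact opens are
surjective -/
theorem qc_flasque [QuasiSeparatedSpace X] (hD : ∀ i, Injective (D.obj i)) {V W : X.Opens}
    (hVW : V ≤ W) (hV : IsCompact (V : Set X)) :
    Function.Surjective (rs c.pt.obj (EOm hVW)) := by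
  intro t
  obtain ⟨i, s, hs⟩ := qc_surj D c hc V hV t
  haveI := hD i
  haveI : Mono (EOm hVW).left := inferInstanceAs (Mono (X.homOfLE hVW))
  haveI : Mono (EOm hVW) := Groth.Agent.Lib.EtFlasque_helper7.mono_of_left_mono _
  obtain ⟨s', hs'⟩ := Groth.Agent.Lib.EtFlasque_helper7.injective_flasque (D.obj i) (EOm hVW) s
  have hs'' : rs (D.obj i).obj (EOm hVW) s' = s := hs'
  exact ⟨ci D c i (EO W) s', by rw [← ci_rs, hs'', hs]⟩

end Flasque

end Groth.Agent.Lib.EtColimSecH8
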