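import Mathlib
import Groth.Prelude.Def_EtBase
import Groth.Prelude.Def_EtZar
import Groth.Agent.Lib.EtColimZar_helper8
import Groth.Agent.Lib.QCFlasque_helper8
import Groth.Agent.Lib.ULiftSh_helper8
import Groth.Agent.Lib.DiagInj_helper8
import Groth.Agent.Lib.ColimExt1_helper9
import Groth.Agent.Lib.ColimCoh4_helper9

/-!
# Étale cohomology of a qcqs scheme commutes with directed colimits (helper8)
APPEND-ONLY once landed.
-/

set_option autoImplicit false
set_option backward.isDefEq.respectTransparency false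
universe u
open CategoryTheory CategoryTheory.Limits AlgebraicGeometry Opposite Abelian TopologicalSpace

namespace Groth.Agent.Lib.EtColimSecH8

open Groth.Agent.Lib.EtSchSite_helper7 Groth.Agent.Lib.EtZarAff_helper7 Groth.Agent.Lib.CechSite
  Groth.Agent.Lib.EtCartanH8 Groth.Agent.Lib.GaCechH8 Groth.Agent.Lib.EtCechPush

variable {X : Scheme.{u}}

section Vanish

variable {ι : Type (u + 1)} [Preorder ι] [IsDirected ι (· ≤ ·)] [Nonempty ι]
  (D : ι ⥤ EtCoh.Ab X) (c : Cocone D) (hc : IsColimit c)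

lemma affCech_of_injective (I : EtCoh.Ab X) [Injective I] : AffCech I := by
  intro U hU V hV hs p
  haveI : Injective I.obj := injective_obj_et I
  exact isZero_cech_of_injective (Y1.{u + 1} V) I.obj p

include hc in
/-- a directed colimit of injective sheaves on a qcqs scheme has no higher cohomology -/
theorem vanish_colim_inj [CompactSpace X] [QuasiSeparatedSpace X]
    (hD : ∀ i, Injective (D.obj i)) (n : ℕ) (ξ : EtCoh.H X c.pt (n + 1)) : ξ = 0 := by
  haveI := Groth.Agent.Lib.ZarContH8.zarCont X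
  have hCech : AffCech c.pt :=
    affCech_colim D c hc (fun i => by haveI := hD i; exact affCech_of_injective (D.obj i))
  have hA : Groth.Agent.Lib.EtZarAcyc_helper7.AffAcy X c.pt := by
    intro W hW q hq x
    obtain ⟨q, rfl⟩ := Nat.exists_eq_succ_of_ne_zero hq.ne'
    exact Groth.Agent.Lib.EtCartanH8.ext_vanish q c.pt hCech W hW x
  refine Groth.Agent.Lib.ZarContH8.et_vanish_of_zar X c.pt hA n ?_ ξ
  refine Groth.Agent.Lib.ULiftShH8.vanish_of_lift X.carrier ((EtZar.resZar X).obj c.pt) n ?_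
  let X' : TopCat.{u + 1} := TopCat.of (ULift.{u + 1} X)
  let hom : ULift.{u + 1} X ≃ₜ X := Homeomorph.ulift
  haveI : SpectralSpace X := {}
  haveI : CompactSpace X' := hom.symm.compactSpace
  haveI : SpectralSpace X' := hom.isOpenEmbedding.spectralSpace
  intro x
  refine Groth.Agent.Lib.QCFlasqueH8.H_vanish (X := X') _ ?_ n x
  intro V W hVW hV t
  have hV' : IsCompact (((Groth.Agent.Lib.ULiftSiteH8.eOp X.carrier).inverse.obj V : X.Opens) :
      Set X) := by
    have h1 : (((Groth.Agent.Lib.ULiftSiteH8.eOp X.carrier).inverse.obj V : X.Opens) : Set X) =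
        hom.symm ⁻¹' (V : Set (ULift.{u + 1} X)) := rfl
    rw [h1, Homeomorph.isCompact_preimage]
    exact hV
  obtain ⟨s, hs⟩ := qc_flasque D c hc hD
    (V := (Groth.Agent.Lib.ULiftSiteH8.eOp X.carrier).inverse.obj V)
    (W := (Groth.Agent.Lib.ULiftSiteH8.eOp X.carrier).inverse.obj W)
    ((Groth.Agent.Lib.ULiftSiteH8.eOp X.carrier).inverse.map (homOfLE hVW)).le hV' t
  exact ⟨s, hs⟩

end Vanish

section Base

variable {ι : Type (u + 1)} [Preorder ι] [IsDirected ι (· ≤ ·)] [Nonempty ι]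
  (D : ι ⥤ EtCoh.Ab X) (c : Cocone D) (hc : IsColimit c)

/-- the constant sheaf `ℤ` on the small étale site -/
noncomputable abbrev ZZ (X : Scheme.{u}) : EtCoh.Ab X :=
  (constantSheaf X.smallEtaleTopology AddCommGrpCat.{u + 1}).obj (AddCommGrpCat.of (ULift ℤ))

include hc in
theorem surj_zero [CompactSpace X] [QuasiSeparatedSpace X] :
    ColimExt.Surj (ZZ X) 0 D c := by
  haveI := Groth.Agent.Lib.ZarContH8.zarCont X
  have hT : IsTerminal (EO (X := X) ⊤) :=
    IsTerminal.ofIso (EtCore.topIsTerminal X) (Groth.Agent.Lib.EtZarEquiv_helper7.jIso X)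
  intro y
  let y' : Sheaf.H c.pt 0 := y
  obtain ⟨i, s, hs⟩ := qc_surj D c hc (⊤ : X.Opens)
    (by simpa using (isCompact_univ : IsCompact (Set.univ : Set X)))
    (Sheaf.H.equiv₀ c.pt hT y')
  refine ⟨i, (Sheaf.H.equiv₀ (D.obj i) hT).symm s, ?_⟩
  have h1 := Sheaf.H.equiv₀_symm_naturality hT (c.ι.app i) s
  rw [Sheaf.H.map_apply] at h1
  refine h1.trans ?_
  have hs' : (c.ι.app i).hom.app (op (EO (X := X) ⊤)) s = Sheaf.H.equiv₀ c.pt hT y' := hs
  rw [hs']
  exact (Sheaf.H.equiv₀ c.pt hT).symm_apply_apply y'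

include hc in
theorem inj_zero [CompactSpace X] :
    ColimExt.Inj (ZZ X) 0 D c := by
  haveI := Groth.Agent.Lib.ZarContH8.zarCont X
  have hT : IsTerminal (EO (X := X) ⊤) :=
    IsTerminal.ofIso (EtCore.topIsTerminal X) (Groth.Agent.Lib.EtZarEquiv_helper7.jIso X)
  intro i x hx
  let x' : Sheaf.H (D.obj i) 0 := x
  have h1 := Sheaf.H.equiv₀_naturality hT (c.ι.app i) x'
  rw [Sheaf.H.map_apply] at h1
  have h2 : ci D c i (EO (X := X) ⊤) (Sheaf.H.equiv₀ (D.obj i) hT x') = 0 := by
    refine h1.trans ?_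
    have : x'.comp (Ext.mk₀ (c.ι.app i)) (add_zero 0) = 0 := hx
    rw [this, map_zero]
  obtain ⟨j, hij, hj⟩ := qc_inj D c hc (⊤ : X.Opens)
    (by simpa using (isCompact_univ : IsCompact (Set.univ : Set X))) i _ h2
  refine ⟨j, hij, ?_⟩
  have h3 := Sheaf.H.equiv₀_naturality hT (D.map (homOfLE hij)) x'
  rw [Sheaf.H.map_apply] at h3
  apply (Sheaf.H.equiv₀ (D.obj j) hT).injective
  rw [map_zero]
  exact h3.symm.trans hj

end Base

section Main

variable {ι : Type (u + 1)} [Preorder ι] [IsDirected ι (· ≤ ·)] [Nonempty ι]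

open Groth.Agent.Lib.DiagInjH8 in
theorem surj_inj [CompactSpace X] [QuasiSeparatedSpace X] (q : ℕ) :
    ∀ (D : ι ⥤ EtCoh.Ab X) (c : Cocone D) (_ : IsColimit c),
      ColimExt.Surj (ZZ X) q D c ∧ ColimExt.Inj (ZZ X) q D c := by
  induction q with
  | zero =>
    intro D c hc
    exact ⟨surj_zero D c hc, inj_zero D c hc⟩
  | succ q ih =>
    intro D c hc
    let S := SC D
    have hS : S.ShortExact := SC_shortExact D
    let c₂ := colimit.cocone S.X₂
    have hc₂ : IsColimit c₂ := colimit.isColimit _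
    let c₃ := colimit.cocone S.X₃
    have hc₃ : IsColimit c₃ := colimit.isColimit _
    have hI : ∀ i, Injective (S.X₂.obj i) := fun i =>
      inferInstanceAs (Injective ((E D).obj i))
    have h2 : ∀ (i : ι) (x : Abelian.Ext (ZZ X) (S.X₂.obj i) (q + 1)), x = 0 := by
      intro i x
      haveI := hI i
      exact Abelian.Ext.eq_zero_of_injective x
    have h2' : ∀ x : Abelian.Ext (ZZ X) c₂.pt (q + 1), x = 0 := by
      intro x
      exact vanish_colim_inj S.X₂ c₂ hc₂ hI q x
    have ih₂ := ih S.X₂ c₂ hc₂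
    have ih₃ := ih S.X₃ c₃ hc₃
    exact ⟨ColimExt.surj_succ _ q S hS (c₁ := c) hc hc₂ hc₃ h2' ih₃.1,
      ColimExt.inj_succ _ q S hS (c₁ := c) hc hc₂ hc₃ h2 ih₂.1 ih₃.2⟩

theorem preservesColimit_HF [CompactSpace X] [QuasiSeparatedSpace X] (q : ℕ)
    (D : ι ⥤ EtCoh.Ab X) : PreservesColimit D (EtCoh.HF X q) := by
  constructor
  intro c hc
  obtain ⟨h1, h2⟩ := surj_inj q D c hc
  exact ColimExt.isColimit_mapCocone h1 h2

end Main

section Filtered

instance isDirected_ulift {α : Type u} [Preorder α] [IsDirected α (· ≤ ·)] :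
    IsDirected (ULift.{u + 1} α) (· ≤ ·) :=
  ⟨fun a b => by
    obtain ⟨c, h1, h2⟩ := directed_of (· ≤ ·) a.down b.down
    exact ⟨⟨c⟩, h1, h2⟩⟩

/-- étale cohomology of a qcqs scheme commutes with small filtered colimits -/
theorem preservesColimitsOfShape_HF [CompactSpace X] [QuasiSeparatedSpace X] (n : ℕ)
    (J : Type u) [SmallCategory J] [IsFiltered J] :
    PreservesColimitsOfShape J (EtCoh.HF X n) := by
  constructor
  intro K
  obtain ⟨α, _, _, _, F, hF⟩ := IsFiltered.exists_directed J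
  let e : ULift.{u + 1} α ≌ α := (ULift.orderIso : ULift.{u + 1} α ≃o α).equivalence
  let G : ULift.{u + 1} α ⥤ J := e.functor ⋙ F
  haveI : G.Final := inferInstanceAs (e.functor ⋙ F).Final
  haveI : PreservesColimit (G ⋙ K) (EtCoh.HF X n) := preservesColimit_HF n (G ⋙ K)
  exact ColimCoh.preservesColimit_of_final G K _

end Filtered

end Groth.Agent.Lib.EtColimSecH8
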