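import Mathlib
import Groth.Prelude.Def_EtBase
import Groth.Agent.Lib.EtColimH_helper8
import Groth.Agent.Lib.EtSchSite_helper7

/-!
# Étale cohomology of torsion sheaves on qcqs schemes is torsion (helper8)
APPEND-ONLY once landed.
-/

set_option autoImplicit false
set_option backward.isDefEq.respectTransparency false
universe u
open CategoryTheory CategoryTheory.Limits AlgebraicGeometry Opposite Abelian ZeroObject

namespace Groth.Agent.Lib.EtTorsH8

open Groth.Agent.Lib.EtSchSite_helper7 Groth.Agent.Lib.EtColimSecH8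

variable {X : Scheme.{u}}

/-- a section of an étale sheaf vanishing étale-locally around every point vanishes -/
lemma sec_eq_zero_of_local (G : EtCoh.Ab X) (U : X.Etale) (t : EtCoh.sect G U)
    (h : ∀ x : U.left, ∃ (V : X.Etale) (g : V ⟶ U), x ∈ Set.range g.left ∧
      G.obj.map g.op t = 0) : t = 0 := by
  refine Sheaf.isSeparated G U (Presheaf.equalizerSieve (F := G.obj) (X := op U) t 0) ?_ _ 0
    (fun Y f hf => hf)
  apply sieve_mem_of_forall_exists
  intro x
  obtain ⟨V, g, hx, hg⟩ := h x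
  refine ⟨V, g, ?_, hx⟩
  show G.obj.map g.op t = G.obj.map g.op 0
  rw [hg, map_zero]

lemma nsmul_hom {F G : EtCoh.Ab X} (f : F ⟶ G) (n : ℕ) : (n • f).hom = n • f.hom :=
  (sheafToPresheaf _ _).map_nsmul (f := f) (n := n)

lemma nsmul_app {F G : EtCoh.Ab X} (f : F ⟶ G) (n : ℕ) (U : X.Etaleᵒᵖ) (t : F.obj.obj U) :
    (n • f).hom.app U t = n • f.hom.app U t := by
  rw [nsmul_hom]
  rfl

/-- the quotient `j! / i!` -/
def fac (i j : ℕ) : ℕ := Nat.factorial j / Nat.factorial i

lemma fac_self (i : ℕ) : fac i i = 1 := Nat.div_self (Nat.factorial_pos i)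

lemma fac_zero (j : ℕ) : fac 0 j = Nat.factorial j := by
  simp [fac]

lemma fac_mul {i j k : ℕ} (h : i ≤ j) (h' : j ≤ k) : fac i j * fac j k = fac i k := by
  obtain ⟨a, ha⟩ := Nat.factorial_dvd_factorial h
  obtain ⟨b, hb⟩ := Nat.factorial_dvd_factorial h'
  have h1 : fac i j = a := by
    unfold fac
    rw [ha]
    exact Nat.mul_div_cancel_left a (Nat.factorial_pos i)
  have h2 : fac j k = b := by
    unfold fac
    rw [hb]
    exact Nat.mul_div_cancel_left b (Nat.factorial_pos j)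
  have h3 : fac i k = a * b := by
    unfold fac
    rw [hb, ha, mul_assoc]
    exact Nat.mul_div_cancel_left (a * b) (Nat.factorial_pos i)
  rw [h1, h2, h3]

lemma dvd_fac (i m : ℕ) (hm : 0 < m) : m ∣ fac i (i + m) := by
  obtain ⟨c, hc⟩ := Nat.factorial_mul_factorial_dvd_factorial_add i m
  have h1 : fac i (i + m) = Nat.factorial m * c := by
    unfold fac
    rw [hc, mul_assoc]
    exact Nat.mul_div_cancel_left (Nat.factorial m * c) (Nat.factorial_pos i)
  rw [h1]
  exact Dvd.dvd.mul_right (Nat.dvd_factorial hm le_rfl) c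

/-- the diagram `F → F → F → ⋯` with transition maps multiplication by `j!/i!` -/
noncomputable def Dg (F : EtCoh.Ab X) : ULift.{u + 1} ℕ ⥤ EtCoh.Ab X where
  obj _ := F
  map {i j} _ := fac i.down j.down • 𝟙 F
  map_id i := by
    rw [fac_self, one_smul]
  map_comp {i j k} f g := by
    rw [Preadditive.nsmul_comp, Category.id_comp, ← mul_smul, fac_mul f.le g.le]

/-- the zero cocone -/
noncomputable def zc (F : EtCoh.Ab X) : Cocone (Dg F) where
  pt := 0
  ι := 0

lemma cocone_ι_zero (F : EtCoh.Ab X) (hF : EtCoh.IsTorsion F) (s : Cocone (Dg F))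
    (i : ULift.{u + 1} ℕ) : s.ι.app i = 0 := by
  have key : ∀ (U : X.Etale) (t : F.obj.obj (op U)), (s.ι.app i).hom.app (op U) t = 0 := by
    intro U t
    apply sec_eq_zero_of_local s.pt U
    intro x
    obtain ⟨V, g, ⟨v, hv⟩, hfin⟩ := hF U t x
    refine ⟨V, g, ⟨v, hv⟩, ?_⟩
    obtain ⟨m, hm, hmt⟩ := isOfFinAddOrder_iff_nsmul_eq_zero.mp hfin
    have hnat : s.pt.obj.map g.op ((s.ι.app i).hom.app (op U) t) =
        (s.ι.app i).hom.app (op V) (F.obj.map g.op t) :=
      (NatTrans.naturality_apply (s.ι.app i).hom g.op t).symm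
    rw [hnat]
    let j : ULift.{u + 1} ℕ := ⟨i.down + m⟩
    have hij : i ≤ j := Nat.le_add_right i.down m
    have hw := s.w (homOfLE hij)
    have hw' : (s.ι.app i).hom.app (op V) (F.obj.map g.op t) =
        (s.ι.app j).hom.app (op V)
          ((fac i.down j.down • 𝟙 F : F ⟶ F).hom.app (op V) (F.obj.map g.op t)) := by
      rw [← hw]
      rfl
    rw [hw', nsmul_app]
    obtain ⟨c, hc⟩ := dvd_fac i.down m hm
    have h0 : fac i.down j.down • (𝟙 F : F ⟶ F).hom.app (op V) (F.obj.map g.op t) = 0 := by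
      show fac i.down (i.down + m) • (F.obj.map g.op t) = 0
      rw [hc, mul_comm, mul_smul, hmt, smul_zero]
    rw [h0, map_zero]
  apply Sheaf.hom_ext
  apply NatTrans.ext
  funext U
  apply AddCommGrpCat.hom_ext
  apply AddMonoidHom.ext
  intro t
  exact key U.unop t

/-- for a torsion sheaf, the zero cocone is a colimit -/
noncomputable def zc_isColimit (F : EtCoh.Ab X) (hF : EtCoh.IsTorsion F) : IsColimit (zc F) where
  desc s := 0
  fac s i := by
    rw [cocone_ι_zero F hF s i, comp_zero]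
  uniq s m _ := (isZero_zero _).eq_of_src m 0

lemma comp_mk₀_nsmul {Z F : EtCoh.Ab X} {q : ℕ} (x : Ext Z F q) (n : ℕ) :
    x.comp (Ext.mk₀ (n • 𝟙 F)) (add_zero q) = n • x := by
  induction n with
  | zero => rw [zero_smul, Ext.mk₀_zero, Ext.comp_zero, zero_smul]
  | succ n ih => rw [succ_nsmul, Ext.mk₀_add, Ext.comp_add, ih, Ext.comp_mk₀_id, succ_nsmul]

/-- on a qcqs scheme, the étale cohomology of a torsion sheaf is torsion -/
theorem isAddTorsion_H [CompactSpace X] [QuasiSeparatedSpace X] (F : EtCoh.Ab X)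
    (hF : EtCoh.IsTorsion F) (n : ℕ) : IsAddTorsion (EtCoh.H X F n) := by
  intro x
  obtain ⟨-, hinj⟩ := surj_inj (X := X) n (Dg F) (zc F) (zc_isColimit F hF)
  let x' : Ext (ZZ X) ((Dg F).obj ⟨0⟩) n := x
  have h0 : x'.comp (Ext.mk₀ ((zc F).ι.app ⟨0⟩)) (add_zero n) = 0 := by
    have : (zc F).ι.app ⟨0⟩ = 0 := rfl
    rw [this, Ext.mk₀_zero, Ext.comp_zero]
  obtain ⟨j, hj, hx⟩ := hinj ⟨0⟩ x' h0
  have h1 : (Dg F).map (homOfLE hj) = (Nat.factorial j.down) • 𝟙 F := by
    show fac 0 j.down • 𝟙 F = _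
    rw [fac_zero]
  rw [h1] at hx
  have h2 : (Nat.factorial j.down) • x' = 0 := by
    rw [← comp_mk₀_nsmul]
    exact hx
  exact isOfFinAddOrder_iff_nsmul_eq_zero.mpr ⟨_, Nat.factorial_pos j.down, h2⟩

end Groth.Agent.Lib.EtTorsH8
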