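import Mathlib
import Groth.Prelude.Def_EtShriek2
import Groth.Prelude.Def_PBC
import Groth.Agent.Lib.EtSchExact_helper7

/-!
# Supports of sections and of sheaves on the small étale site of a scheme (helper7)
-/

set_option autoImplicit false
set_option backward.isDefEq.respectTransparency false
universe u
open CategoryTheory CategoryTheory.Limits AlgebraicGeometry Opposite

namespace Groth.Agent.Lib.EtSchSupp_helper7

open Groth.Agent.Lib.EtSchSite_helper7 Groth.Agent.Lib.Kummer_helper7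
  Groth.Agent.Lib.EtSchStalk_helper7 Groth.Agent.Lib.EtSchExact_helper7

theorem isClosed_support_ring {S : Scheme.{u}} (O : Sheaf S.smallEtaleTopology CommRingCat.{u}) :
    IsClosed {s : ↥S | ∃ (Ω : Type u) (_ : Field Ω) (_ : IsSepClosed Ω)
      (ξ : Spec (CommRingCat.of Ω) ⟶ S),
      ξ.base default = s ∧ Nontrivial ↑((Scheme.pointSmallEtale ξ).presheafFiber.obj O.obj)} := by
  rw [← isOpen_compl_iff, isOpen_iff_forall_mem_open]
  intro s hs
  obtain ⟨K, _, _, ξ, hξ⟩ := exists_geometric_point s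
  have htriv : ¬ Nontrivial ↑((Scheme.pointSmallEtale ξ).presheafFiber.obj O.obj) :=
    fun hn => hs ⟨K, inferInstance, inferInstance, ξ, hξ, hn⟩
  rw [not_nontrivial_iff_subsingleton] at htriv
  obtain ⟨ξ₀, hξ₀⟩ : ∃ ξ₀ : (Scheme.pointSmallEtale ξ).fiber.obj (EtCoh.top S),
      ξ₀ = Over.homMk ξ (Category.comp_id _) := ⟨_, rfl⟩
  have h10 : (Scheme.pointSmallEtale ξ).toPresheafFiber _ ξ₀ O.obj
      (1 : ↑(O.obj.obj (op (EtCoh.top S)))) =
      (Scheme.pointSmallEtale ξ).toPresheafFiber _ ξ₀ O.obj 0 := htriv.elim _ _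
  obtain ⟨V, g, y, hy, heq⟩ :=
    ((Scheme.pointSmallEtale ξ).toPresheafFiber_eq_iff' _ ξ₀ _ _).1 h10
  rw [map_one, map_zero] at heq
  refine ⟨Set.range V.hom, ?_, V.hom.isOpenMap.isOpen_range, ?_⟩
  · rintro _ ⟨v, rfl⟩ ⟨Ω, _, _, ξ', hξ', hn⟩
    obtain ⟨l, hl1, hl2⟩ := Scheme.exists_fac_of_etale_of_isSepClosed V.hom ξ' v hξ'.symm
    obtain ⟨l', hl'⟩ : ∃ l' : (Scheme.pointSmallEtale ξ').fiber.obj V, l' = Over.homMk l hl1 :=
      ⟨_, rfl⟩
    have h : (1 : ↑((Scheme.pointSmallEtale ξ').presheafFiber.obj O.obj)) = 0 := by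
      calc (1 : ↑((Scheme.pointSmallEtale ξ').presheafFiber.obj O.obj))
          = (Scheme.pointSmallEtale ξ').toPresheafFiber V l' O.obj 1 := (map_one _).symm
        _ = (Scheme.pointSmallEtale ξ').toPresheafFiber V l' O.obj 0 := by rw [heq]
        _ = 0 := map_zero _
    exact one_ne_zero h
  · refine ⟨y.left (default : ↥(Spec (CommRingCat.of K))), ?_⟩
    have h1 : V.hom (y.left (default : ↥(Spec (CommRingCat.of K)))) = ξ default :=
      congrArg (fun (m : Spec (CommRingCat.of K) ⟶ S) => m default) (Over.w y)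
    rw [h1, hξ]

theorem isClosed_sectSupp {S : Scheme.{u}} (F : EtCoh.Ab S) (U : S.Etale)
    (σ : EtCoh.sect F U) : IsClosed (EtShriek.sectSupp F U σ) := by
  rw [← isOpen_compl_iff, isOpen_iff_forall_mem_open]
  intro x hx
  have hx' : ∃ (W : S.Etale) (g : W ⟶ U), (∃ w : W.left, g.left.base w = x) ∧
      F.obj.map g.op σ = 0 := by
    by_contra hcon
    apply hx
    intro W g hw h0
    exact hcon ⟨W, g, hw, h0⟩
  obtain ⟨W, g, ⟨w, hw⟩, h0⟩ := hx'
  refine ⟨Set.range g.left, ?_, g.left.isOpenMap.isOpen_range, ⟨w, hw⟩⟩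
  rintro _ ⟨w', rfl⟩ hmem
  exact hmem W g ⟨w', rfl⟩ h0

theorem germ_zero {S : Scheme.{u}} (F : EtCoh.Ab S) {Ω : Type u} [Field Ω] [IsSepClosed Ω]
    (ξ : Spec (CommRingCat.of Ω) ⟶ S) (U : S.Etale)
    (l : (Scheme.pointSmallEtale ξ).fiber.obj U) :
    (Scheme.pointSmallEtale ξ).toPresheafFiber U l F.obj (0 : EtCoh.sect F U) = 0 :=
  map_zero _

theorem supp_eq {S : Scheme.{u}} (F : EtCoh.Ab S) :
    EtPBC.supp F = ⋃ (U : S.Etale) (σ : EtCoh.sect F U),
      U.hom.base '' EtShriek.sectSupp F U σ := by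
  ext x
  simp only [Set.mem_iUnion]
  constructor
  · rintro ⟨Ω, _, _, ξ, hξ, hnz⟩
    have hne : ∃ t : ToType ((Scheme.pointSmallEtale ξ).presheafFiber.obj F.obj), t ≠ 0 := by
      by_contra hcon
      push_neg at hcon
      apply hnz
      haveI : Subsingleton ((EtCoh.stalk ξ).obj F) :=
        ⟨fun a b => (hcon a).trans (hcon b).symm⟩
      exact AddCommGrpCat.isZero_of_subsingleton _
    obtain ⟨t, ht⟩ := hne
    obtain ⟨U, l, z, rfl⟩ := (Scheme.pointSmallEtale ξ).toPresheafFiber_jointly_surjective t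
    refine ⟨U, z, l.left (default : ↥(Spec (CommRingCat.of Ω))), ?_, ?_⟩
    · intro W g ⟨w, hw⟩ h0
      obtain ⟨l'', hl1, hl2⟩ := Scheme.exists_fac_of_etale_of_isSepClosed g.left l.left w hw
      have hw' : l'' ≫ W.hom = ξ := by
        rw [← MorphismProperty.Over.w g, ← Category.assoc, hl1]
        exact Over.w l
      obtain ⟨y, hy⟩ : ∃ y : (Scheme.pointSmallEtale ξ).fiber.obj W, y = Over.homMk l'' hw' :=
        ⟨_, rfl⟩
      have hyl : (Scheme.pointSmallEtale ξ).fiber.map g y = l := by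
        apply Over.OverMorphism.ext
        rw [hy]
        exact hl1
      apply ht
      rw [← hyl, ← (Scheme.pointSmallEtale ξ).toPresheafFiber_w_apply g y F.obj z, h0]
      exact map_zero _
    · have h1 : U.hom (l.left (default : ↥(Spec (CommRingCat.of Ω)))) = ξ default :=
        congrArg (fun (m : Spec (CommRingCat.of Ω) ⟶ S) => m default) (Over.w l)
      have h2 : ξ default ∈ Set.range ξ := ⟨default, rfl⟩
      rw [hξ] at h2
      exact h1.trans h2
  · rintro ⟨U, σ, x', hx', rfl⟩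
    obtain ⟨K, _, _, ζ, hζ⟩ := exists_geometric_point x'
    refine ⟨K, inferInstance, inferInstance, ζ ≫ U.hom, ?_, ?_⟩
    · ext y
      simp only [Set.mem_range, Set.mem_singleton_iff]
      constructor
      · rintro ⟨a, rfl⟩
        rw [Subsingleton.elim a default, Scheme.Hom.comp_apply, hζ]
        rfl
      · rintro rfl
        exact ⟨default, by rw [Scheme.Hom.comp_apply, hζ]; rfl⟩
    · intro hz
      obtain ⟨l, hl⟩ : ∃ l : (Scheme.pointSmallEtale (ζ ≫ U.hom)).fiber.obj U,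
          l = Over.homMk ζ rfl := ⟨_, rfl⟩
      haveI : Subsingleton (ToType ((Scheme.pointSmallEtale (ζ ≫ U.hom)).presheafFiber.obj
          F.obj)) := AddCommGrpCat.subsingleton_of_isZero hz
      have h0 : (Scheme.pointSmallEtale (ζ ≫ U.hom)).toPresheafFiber U l F.obj σ =
          (Scheme.pointSmallEtale (ζ ≫ U.hom)).toPresheafFiber U l F.obj 0 :=
        Subsingleton.elim _ _
      obtain ⟨V, g, y, hy, heq⟩ :=
        ((Scheme.pointSmallEtale (ζ ≫ U.hom)).toPresheafFiber_eq_iff' U l σ 0).1 h0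
      have hmem := mem_range_of_map_eq g y l hy
      obtain ⟨v, hv⟩ := hmem
      have hlx : l.left (default : ↥(Spec (CommRingCat.of K))) = x' := by
        rw [hl]; exact hζ
      refine hx' V g ⟨v, hv.trans hlx⟩ ?_
      rw [heq]
      exact map_zero _

end Groth.Agent.Lib.EtSchSupp_helper7
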