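import Mathlib
import Groth.Prelude.Def_EtShriek2
import Groth.Agent.Lib.EtShriekStalk_helper7

/-!
# Base change for restriction / extension by zero along étale morphisms (helper7)
-/

set_option autoImplicit false
set_option backward.isDefEq.respectTransparency false
universe u
open CategoryTheory CategoryTheory.Limits AlgebraicGeometry Opposite

namespace Groth.Agent.Lib.EtShriekBC_helper7

variable {V' V Y X : Scheme.{u}} (j : V ⟶ X) [hj : Etale j] (f : Y ⟶ X) (j' : V' ⟶ Y)
  [hj' : Etale j'] (f' : V' ⟶ V) (h : IsPullback j' f' f j)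

include h in
omit hj hj' in
theorem isPullback_paste (W : V.Etale) :
    IsPullback (pullback.fst W.hom f') (pullback.snd W.hom f' ≫ j') (W.hom ≫ j) f :=
  ((IsPullback.of_hasPullback W.hom f').flip.paste_horiz h).flip

/-- The comparison `W ×_V V' ≅ W ×_X Y` as objects of the small étale site of `Y`. -/
noncomputable def siteIsoApp (W : V.Etale) :
    (EtCoh.bc f' ⋙ EtShriek.compEtale j').obj W ≅ (EtShriek.compEtale j ⋙ EtCoh.bc f).obj W :=
  MorphismProperty.Over.isoMk (isPullback_paste j f j' f' h W).isoPullback
    (show (isPullback_paste j f j' f' h W).isoPullback.hom ≫ pullback.snd (W.hom ≫ j) f =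
      pullback.snd W.hom f' ≫ j' from (isPullback_paste j f j' f' h W).isoPullback_hom_snd)

/-- The two functors of sites `V_ét ⥤ Y_ét` agree. -/
noncomputable def siteIso :
    EtCoh.bc f' ⋙ EtShriek.compEtale j' ≅ EtShriek.compEtale j ⋙ EtCoh.bc f :=
  NatIso.ofComponents (siteIsoApp j f j' f' h) (by
    intro W W' g
    apply MorphismProperty.Over.Hom.ext
    show pullback.lift (pullback.fst W.hom f' ≫ g.left) (pullback.snd W.hom f') _ ≫
        (isPullback_paste j f j' f' h W').isoPullback.hom =
      (isPullback_paste j f j' f' h W).isoPullback.hom ≫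
        pullback.lift (pullback.fst (W.hom ≫ j) f ≫ g.left) (pullback.snd (W.hom ≫ j) f) _
    apply pullback.hom_ext
    · simp
    · simp)

variable [EtShriek.JCont j] [EtShriek.JCont j']

/-- Base change for restriction along étale morphisms: `(f_* G)|_V ≅ f'_* (G|_{V'})`. -/
noncomputable def pushRestrIso :
    EtCoh.push f ⋙ EtShriek.restrAlong j ≅ EtShriek.restrAlong j' ⋙ EtCoh.push f' := by
  haveI : (EtCoh.bc f' ⋙ EtShriek.compEtale j').IsContinuous V.smallEtaleTopology
      Y.smallEtaleTopology :=
    Functor.isContinuous_comp _ _ _ V'.smallEtaleTopology _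
  exact Functor.sheafPushforwardContinuousComp' (F := EtShriek.compEtale j) (G := EtCoh.bc f)
      (FG := EtCoh.bc f' ⋙ EtShriek.compEtale j') (siteIso j f j' f' h).symm
      AddCommGrpCat.{u + 1} V.smallEtaleTopology X.smallEtaleTopology Y.smallEtaleTopology ≪≫
    (Functor.sheafPushforwardContinuousComp (EtCoh.bc f') (EtShriek.compEtale j')
      AddCommGrpCat.{u + 1} V.smallEtaleTopology V'.smallEtaleTopology
      Y.smallEtaleTopology).symm

/-- Extension by zero commutes with pullback. -/
noncomputable def extZeroPullIso :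
    EtCoh.pull f' ⋙ EtShriek.extZero j' ≅ EtShriek.extZero j ⋙ EtCoh.pull f :=
  ((EtCoh.pullPushAdj f').comp (EtShriek.extZeroAdj j')).leftAdjointUniq
    (((EtShriek.extZeroAdj j).comp (EtCoh.pullPushAdj f)).ofNatIsoRight
      (pushRestrIso j f j' f' h))

end Groth.Agent.Lib.EtShriekBC_helper7
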