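import Mathlib
import Groth.Prelude.Def_EtShriek2
import Groth.Agent.Lib.EtShriekBC_helper7
import Groth.Agent.Lib.EtSchSupp_helper7

/-!
# Vanishing of stalks of direct images along universally closed morphisms (helper7)
-/

set_option autoImplicit false
set_option backward.isDefEq.respectTransparency false
universe u
open CategoryTheory CategoryTheory.Limits AlgebraicGeometry Opposite

namespace Groth.Agent.Lib.EtPushVanish_helper7

open Groth.Agent.Lib.EtSchSite_helper7 Groth.Agent.Lib.EtSchStalk_helper7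
  Groth.Agent.Lib.EtSchSupp_helper7 Groth.Agent.Lib.Kummer_helper7

section Germs

variable {X : Scheme.{u}} (H : EtCoh.Ab X) (T : X.Etale) (s : EtCoh.sect H T)

theorem germ_eq_zero_of_not_mem {K : Type u} [Field K] [IsSepClosed K]
    (η : Spec (CommRingCat.of K) ⟶ X) (l : (Scheme.pointSmallEtale η).fiber.obj T)
    (hl : l.left (default : ↥(Spec (CommRingCat.of K))) ∉ EtShriek.sectSupp H T s) :
    (Scheme.pointSmallEtale η).toPresheafFiber T l H.obj s = 0 := by
  have hx' : ∃ (W : X.Etale) (g : W ⟶ T),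
      (∃ w : W.left, g.left.base w = l.left (default : ↥(Spec (CommRingCat.of K)))) ∧
      H.obj.map g.op s = 0 := by
    by_contra hcon
    apply hl
    intro W g hw h0
    exact hcon ⟨W, g, hw, h0⟩
  obtain ⟨W, g, ⟨w, hw⟩, h0⟩ := hx'
  obtain ⟨l'', hl1, hl2⟩ := Scheme.exists_fac_of_etale_of_isSepClosed g.left l.left w hw
  have hw' : l'' ≫ W.hom = η := by
    rw [← MorphismProperty.Over.w g, ← Category.assoc, hl1]
    exact Over.w l
  obtain ⟨y, hy⟩ : ∃ y : (Scheme.pointSmallEtale η).fiber.obj W, y = Over.homMk l'' hw' :=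
    ⟨_, rfl⟩
  have hyl : (Scheme.pointSmallEtale η).fiber.map g y = l := by
    apply Over.OverMorphism.ext
    rw [hy]
    exact hl1
  rw [← hyl, ← (Scheme.pointSmallEtale η).toPresheafFiber_w_apply g y H.obj s, h0]
  exact map_zero _

theorem not_mem_of_germ_eq_zero {K : Type u} [Field K] [IsSepClosed K]
    (η : Spec (CommRingCat.of K) ⟶ X) (l : (Scheme.pointSmallEtale η).fiber.obj T)
    (h0 : (Scheme.pointSmallEtale η).toPresheafFiber T l H.obj s = 0) :
    l.left (default : ↥(Spec (CommRingCat.of K))) ∉ EtShriek.sectSupp H T s := by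
  intro hx'
  have h1 : (Scheme.pointSmallEtale η).toPresheafFiber T l H.obj s =
      (Scheme.pointSmallEtale η).toPresheafFiber T l H.obj 0 := h0.trans (map_zero _).symm
  obtain ⟨V, g, y, hy, heq⟩ := ((Scheme.pointSmallEtale η).toPresheafFiber_eq_iff' T l s 0).1 h1
  obtain ⟨v, hv⟩ := mem_range_of_map_eq g y l hy
  refine hx' V g ⟨v, hv⟩ ?_
  rw [heq]
  exact map_zero _

theorem eq_zero_of_germs
    (h : ∀ (K : Type u) [Field K] [IsSepClosed K] (η : Spec (CommRingCat.of K) ⟶ X)
      (l : (Scheme.pointSmallEtale η).fiber.obj T),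
      (Scheme.pointSmallEtale η).toPresheafFiber T l H.obj s = 0) : s = 0 := by
  let R : Sieve T :=
    { arrows := fun W g => H.obj.map g.op s = 0
      downward_closed := by
        intro W W' g hg k
        have e : H.obj.map (k ≫ g).op = H.obj.map g.op ≫ H.obj.map k.op := by
          rw [op_comp, Functor.map_comp]
        show H.obj.map (k ≫ g).op s = 0
        rw [e]
        show H.obj.map k.op (H.obj.map g.op s) = 0
        rw [hg, map_zero] }
  refine Sheaf.isSeparated H T R ?_ s 0 (fun W g hg => (show H.obj.map g.op s = 0 from hg).trans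
    (map_zero _).symm)
  apply sieve_mem_of_forall_exists
  intro w
  obtain ⟨K, _, _, η, l, hl⟩ := exists_geometric_lift T w
  have h1 := h K η l
  obtain ⟨V, g, y, hy, heq⟩ := ((Scheme.pointSmallEtale η).toPresheafFiber_eq_iff' T l s 0).1
    (h1.trans (map_zero _).symm)
  obtain ⟨v, hv⟩ := mem_range_of_map_eq g y l hy
  exact ⟨V, g, heq.trans (map_zero _), ⟨v, hv.trans hl⟩⟩

end Germs

theorem isZero_stalk_push_of_closed {X Y : Scheme.{u}} (f : X ⟶ Y) [UniversallyClosed f]
    (H : EtCoh.Ab X) (A : Set X)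
    (hA : ∀ (K : Type u) [Field K] [IsSepClosed K] (η : Spec (CommRingCat.of K) ⟶ X),
      η (default : ↥(Spec (CommRingCat.of K))) ∉ A → IsZero ((EtCoh.stalk η).obj H))
    {Ω : Type u} [Field Ω] [IsSepClosed Ω] (ξ : Spec (CommRingCat.of Ω) ⟶ Y)
    (hξ : ∀ x : X, f x = ξ (default : ↥(Spec (CommRingCat.of Ω))) → x ∉ A) :
    IsZero ((EtCoh.stalk ξ).obj ((EtCoh.push f).obj H)) := by
  have key : ∀ t : ToType ((Scheme.pointSmallEtale ξ).presheafFiber.obj
      ((EtCoh.push f).obj H).obj), t = 0 := by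
    intro t
    obtain ⟨W, w, s0, rfl⟩ := (Scheme.pointSmallEtale ξ).toPresheafFiber_jointly_surjective t
    obtain ⟨s, hs⟩ : ∃ s : EtCoh.sect H ((EtCoh.bc f).obj W), s = s0 := ⟨s0, rfl⟩
    have hZs : IsClosed (EtShriek.sectSupp H ((EtCoh.bc f).obj W) s) := isClosed_sectSupp H _ s
    have hA' : ∀ p ∈ EtShriek.sectSupp H ((EtCoh.bc f).obj W) s,
        (pullback.snd W.hom f) p ∈ A := by
      intro p hp
      by_contra hnot
      obtain ⟨K, _, _, η, rfl⟩ := exists_geometric_point p
      have hz : IsZero ((EtCoh.stalk (η ≫ pullback.snd W.hom f)).obj H) := by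
        apply hA K
        intro hmem
        exact hnot hmem
      obtain ⟨l, hl⟩ : ∃ l : (Scheme.pointSmallEtale (η ≫ pullback.snd W.hom f)).fiber.obj
          ((EtCoh.bc f).obj W), l = Over.homMk η rfl := ⟨_, rfl⟩
      haveI : Subsingleton (ToType ((Scheme.pointSmallEtale
          (η ≫ pullback.snd W.hom f)).presheafFiber.obj H.obj)) :=
        AddCommGrpCat.subsingleton_of_isZero hz
      have h0 : (Scheme.pointSmallEtale (η ≫ pullback.snd W.hom f)).toPresheafFiber
          ((EtCoh.bc f).obj W) l H.obj s = 0 := Subsingleton.elim _ _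
      have hnm := not_mem_of_germ_eq_zero H _ s _ l h0
      subst hl
      exact hnm hp
    have hC : IsClosed ((pullback.fst W.hom f) ''
        EtShriek.sectSupp H ((EtCoh.bc f).obj W) s) :=
      (pullback.fst W.hom f).isClosedMap _ hZs
    obtain ⟨wl, hwl⟩ : ∃ wl : Spec (CommRingCat.of Ω) ⟶ W.left, wl = w.left := ⟨w.left, rfl⟩
    have hwξ : wl ≫ W.hom = ξ := by rw [hwl]; exact Over.w w
    have hw0 : wl (default : ↥(Spec (CommRingCat.of Ω))) ∉ (pullback.fst W.hom f) ''
        EtShriek.sectSupp H ((EtCoh.bc f).obj W) s := by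
      rintro ⟨p, hp, hpw⟩
      refine hξ ((pullback.snd W.hom f) p) ?_ (hA' p hp)
      have h1 : f ((pullback.snd W.hom f) p) = W.hom ((pullback.fst W.hom f) p) :=
        (Scheme.Hom.comp_apply _ _ _).symm.trans
          ((congrArg (fun (m : pullback W.hom f ⟶ Y) => m p) pullback.condition.symm).trans
            (Scheme.Hom.comp_apply _ _ _))
      have h2 : W.hom (wl (default : ↥(Spec (CommRingCat.of Ω)))) =
          ξ (default : ↥(Spec (CommRingCat.of Ω))) :=
        (Scheme.Hom.comp_apply _ _ _).symm.trans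
          (congrArg (fun (m : Spec (CommRingCat.of Ω) ⟶ Y) =>
            m (default : ↥(Spec (CommRingCat.of Ω)))) hwξ)
      exact h1.trans ((congrArg (fun q => W.hom q) hpw).trans h2)
    let W'o : W.left.Opens := ⟨((pullback.fst W.hom f) ''
        EtShriek.sectSupp H ((EtCoh.bc f).obj W) s)ᶜ, hC.isOpen_compl⟩
    haveI : Etale (W'o.ι ≫ W.hom) := inferInstance
    let W' : Y.Etale := Scheme.Etale.mk (W'o.ι ≫ W.hom)
    let φ : W' ⟶ W := MorphismProperty.Over.homMk W'o.ι rfl trivial
    have hrange : Set.range wl ⊆ Set.range W'o.ι := by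
      rw [Scheme.Opens.range_ι]
      rintro _ ⟨a, rfl⟩
      rw [Subsingleton.elim a default]
      exact hw0
    have hw : IsOpenImmersion.lift W'o.ι wl hrange ≫ (W'o.ι ≫ W.hom) = ξ := by
      rw [← Category.assoc, IsOpenImmersion.lift_fac, hwξ]
    let w' : (Scheme.pointSmallEtale ξ).fiber.obj W' :=
      Over.homMk (IsOpenImmersion.lift W'o.ι wl hrange) hw
    have hw' : (Scheme.pointSmallEtale ξ).fiber.map φ w' = w := by
      apply Over.OverMorphism.ext
      exact (IsOpenImmersion.lift_fac _ _ _).trans hwl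
    have hs' : ((EtCoh.push f).obj H).obj.map φ.op s0 = 0 := by
      subst hs
      show H.obj.map ((EtCoh.bc f).map φ).op s = 0
      apply eq_zero_of_germs H ((EtCoh.bc f).obj W')
      intro K _ _ η l
      rw [(Scheme.pointSmallEtale η).toPresheafFiber_w_apply ((EtCoh.bc f).map φ) l H.obj s]
      apply germ_eq_zero_of_not_mem
      intro hmem
      have hmem' : ((EtCoh.bc f).map φ).left (l.left (default : ↥(Spec (CommRingCat.of K)))) ∈
          EtShriek.sectSupp H ((EtCoh.bc f).obj W) s := hmem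
      have e1 : ((EtCoh.bc f).map φ).left ≫ pullback.fst W.hom f =
          pullback.fst (W'o.ι ≫ W.hom) f ≫ W'o.ι := pullback.lift_fst _ _ _
      have e2 : (pullback.fst W.hom f) (((EtCoh.bc f).map φ).left
          (l.left (default : ↥(Spec (CommRingCat.of K))))) =
          W'o.ι ((pullback.fst (W'o.ι ≫ W.hom) f)
            (l.left (default : ↥(Spec (CommRingCat.of K))))) :=
        (Scheme.Hom.comp_apply _ _ _).symm.trans
          ((congrArg (fun (m : ((EtCoh.bc f).obj W').left ⟶ W.left) =>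
            m (l.left (default : ↥(Spec (CommRingCat.of K))))) e1).trans
            (Scheme.Hom.comp_apply _ _ _))
      exact ((pullback.fst (W'o.ι ≫ W.hom) f)
        (l.left (default : ↥(Spec (CommRingCat.of K))))).2 ⟨_, hmem', e2⟩
    rw [← hw', ← (Scheme.pointSmallEtale ξ).toPresheafFiber_w_apply φ w' _ s0, hs', map_zero]
  haveI : Subsingleton ((EtCoh.stalk ξ).obj ((EtCoh.push f).obj H)) :=
    ⟨fun a b => (key a).trans (key b).symm⟩
  exact AddCommGrpCat.isZero_of_subsingleton _

open Groth.Agent.Lib.EtOpenShriek_helper7 Groth.Agent.Lib.EtShriekBC_helper7 in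
theorem push_extZero_iso {U X V Y : Scheme.{u}} (f : X ⟶ Y) [IsFinite f] (j : V ⟶ Y)
    [IsOpenImmersion j] [Etale j] [EtShriek.JCont j] (j' : U ⟶ X) [IsOpenImmersion j']
    [Etale j'] [EtShriek.JCont j'] (g : U ⟶ V) (h : IsPullback j' g f j) (F : EtCoh.Ab U) :
    Nonempty ((EtCoh.push f).obj ((EtShriek.extZero j').obj F) ≅
      (EtShriek.extZero j).obj ((EtCoh.push g).obj F)) := by
  have hzero : ∀ (Ω : Type u) [Field Ω] [IsSepClosed Ω] (ξ : Spec (CommRingCat.of Ω) ⟶ Y),
      Set.range ξ.base ⊆ (Set.range j.base)ᶜ →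
      IsZero ((EtCoh.stalk ξ).obj ((EtCoh.push f).obj ((EtShriek.extZero j').obj F))) := by
    intro Ω _ _ ξ hξ
    apply isZero_stalk_push_of_closed f ((EtShriek.extZero j').obj F) (Set.range j'.base)
    · intro K _ _ η hη
      apply isZero_stalk_extZero j' F η
      rintro _ ⟨a, rfl⟩ hmem
      rw [Subsingleton.elim a default] at hmem
      exact hη hmem
    · rintro x hx ⟨v, hv⟩
      apply hξ ⟨default, rfl⟩
      refine ⟨g v, ?_⟩
      have e : j (g v) = f (j' v) := by
        rw [← Scheme.Hom.comp_apply, ← Scheme.Hom.comp_apply, h.w]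
      have hv' : j' v = x := hv
      rw [hv'] at e
      exact e.trans hx
  haveI := isIso_counit_of_vanish j ((EtCoh.push f).obj ((EtShriek.extZero j').obj F)) hzero
  haveI := isIso_unit_extZero j'
  have e1 : (EtShriek.restrAlong j).obj ((EtCoh.push f).obj ((EtShriek.extZero j').obj F)) ≅
      (EtCoh.push g).obj F :=
    (pushRestrIso j f j' g h).app ((EtShriek.extZero j').obj F) ≪≫
      (EtCoh.push g).mapIso (asIso ((EtShriek.extZeroAdj j').unit.app F)).symm
  exact ⟨(asIso ((EtShriek.extZeroAdj j).counit.app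
    ((EtCoh.push f).obj ((EtShriek.extZero j').obj F)))).symm ≪≫ (EtShriek.extZero j).mapIso e1⟩

end Groth.Agent.Lib.EtPushVanish_helper7
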