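import Mathlib
import Groth.Prelude.Def_EtDual
import Groth.Prelude.Def_EtShriek2
import Groth.Agent.Lib.EtIntExact_helper7

/-!
# Étale excision for sections with support (helper7)

Let `φ : A' ⟶ A` be a morphism of the small étale site of `X` and `O` an open of `A` such that
`φ` maps the complement of `φ⁻¹ O` bijectively onto the complement of `O`, with trivial residue
field extensions.  Then restriction along `φ` is a bijection from the sections of an abelian sheaf
over `A` vanishing on `O` to the sections over `A'` vanishing on `φ⁻¹ O`.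
-/

set_option autoImplicit false
set_option backward.isDefEq.respectTransparency false
set_option linter.style.haveILetI false
set_option linter.unusedSectionVars false
universe u
open CategoryTheory CategoryTheory.Limits AlgebraicGeometry Opposite

namespace Groth.Agent.Lib.EtExcisionH7

open Groth.Agent.Lib.EtSchSite_helper7 Groth.Agent.Lib.EtFinStalkH7 Groth.Agent.Lib.EtIntH7

section Points

theorem subsingleton_tensor {W Y : Scheme.{u}} (f : W ⟶ Y) (T : Scheme.Pullback.Triplet f f)
    (hs : Function.Surjective (f.residueFieldMap T.x)) : Subsingleton ↥(Spec T.tensor) := by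
  haveI : IsIso (f.residueFieldMap T.x) := by
    apply (ConcreteCategory.isIso_iff_bijective _).2
    exact ⟨(f.residueFieldMap T.x).hom.injective, hs⟩
  haveI : IsIso ((Y.residueFieldCongr T.hx).inv ≫ f.residueFieldMap T.x) := inferInstance
  have hpb := T.isPullback_SpecMap_tensor
  haveI : IsIso (Spec.map ((Y.residueFieldCongr T.hx).inv ≫ f.residueFieldMap T.x)) :=
    inferInstance
  haveI : IsIso (Spec.map T.tensorInr) := hpb.isIso_snd_of_isIso
  haveI : Subsingleton ↥(Spec (W.residueField T.y)) :=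
    inferInstanceAs (Subsingleton (PrimeSpectrum (W.residueField T.y)))
  constructor
  intro p q
  have h1 : (Spec.map T.tensorInr) p = (Spec.map T.tensorInr) q := Subsingleton.elim _ _
  have hp : (inv (Spec.map T.tensorInr)) ((Spec.map T.tensorInr) p) = p := by
    have := congrArg (fun (k : Spec T.tensor ⟶ Spec T.tensor) => k p)
      (IsIso.hom_inv_id (Spec.map T.tensorInr))
    exact this
  have hq : (inv (Spec.map T.tensorInr)) ((Spec.map T.tensorInr) q) = q := by
    have := congrArg (fun (k : Spec T.tensor ⟶ Spec T.tensor) => k q)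
      (IsIso.hom_inv_id (Spec.map T.tensorInr))
    exact this
  exact hp.symm.trans ((congrArg (fun z => (inv (Spec.map T.tensorInr)) z) h1).trans hq)

theorem eq_of_fst_snd {W Y : Scheme.{u}} (f : W ⟶ Y) (p p' : ↥(pullback f f))
    (h1 : pullback.fst f f p = pullback.fst f f p')
    (h2 : pullback.snd f f p = pullback.snd f f p')
    (hs : Function.Surjective (f.residueFieldMap (pullback.fst f f p'))) : p = p' := by
  apply Scheme.Pullback.carrierEquiv.injective
  apply Scheme.Pullback.carrierEquiv_eq_iff.2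
  have e : Scheme.Pullback.Triplet.ofPoint p = Scheme.Pullback.Triplet.ofPoint p' :=
    Scheme.Pullback.Triplet.ext h1 h2
  refine ⟨e, ?_⟩
  have hsub : Subsingleton ↥(Spec (Scheme.Pullback.Triplet.ofPoint p').tensor) :=
    subsingleton_tensor f (Scheme.Pullback.Triplet.ofPoint p') hs
  exact hsub.elim _ _

variable {Z W Y : Scheme.{u}} (f : W ⟶ Y) [Etale f] (a b : Z ⟶ W) (hab : a ≫ f = b ≫ f)

/-- the open locus where two `Y`-morphisms into an étale `Y`-scheme agree -/
noncomputable def eqOpen : Z.Opens :=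
  (pullback.lift a b hab) ⁻¹ᵁ (pullback.diagonal f).opensRange

theorem eqOpen_comp : (eqOpen f a b hab).ι ≫ a = (eqOpen f a b hab).ι ≫ b := by
  have hr : Set.range ((eqOpen f a b hab).ι ≫ pullback.lift a b hab) ⊆
      Set.range (pullback.diagonal f) := by
    rintro _ ⟨z, rfl⟩
    exact z.2
  obtain ⟨l, hl⟩ : ∃ l : (eqOpen f a b hab).toScheme ⟶ W,
      l ≫ pullback.diagonal f = (eqOpen f a b hab).ι ≫ pullback.lift a b hab :=
    ⟨IsOpenImmersion.lift _ _ hr, IsOpenImmersion.lift_fac _ _ _⟩
  have h1 := congrArg (fun k => k ≫ pullback.fst f f) hl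
  have h2 := congrArg (fun k => k ≫ pullback.snd f f) hl
  simp only [Category.assoc, pullback.diagonal_fst, pullback.diagonal_snd, pullback.lift_fst,
    pullback.lift_snd, Category.comp_id] at h1 h2
  exact h1.symm.trans h2

theorem mem_eqOpen_of (z : Z) (hz : a z = b z)
    (hs : ∀ w : W, w = a z → Function.Surjective (f.residueFieldMap w)) :
    z ∈ eqOpen f a b hab := by
  show (pullback.lift a b hab) z ∈ Set.range (pullback.diagonal f)
  refine ⟨a z, ?_⟩
  have d1 : pullback.fst f f ((pullback.diagonal f) (a z)) = a z :=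
    congrArg (fun (k : W ⟶ W) => k (a z)) (pullback.diagonal_fst f)
  have d2 : pullback.snd f f ((pullback.diagonal f) (a z)) = a z :=
    congrArg (fun (k : W ⟶ W) => k (a z)) (pullback.diagonal_snd f)
  have l1 : pullback.fst f f ((pullback.lift a b hab) z) = a z :=
    congrArg (fun (k : Z ⟶ W) => k z) (pullback.lift_fst a b hab)
  have l2 : pullback.snd f f ((pullback.lift a b hab) z) = b z :=
    congrArg (fun (k : Z ⟶ W) => k z) (pullback.lift_snd a b hab)
  refine (eq_of_fst_snd f _ _ (l1.trans d1.symm) (l2.trans (hz.symm.trans d2.symm))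
    (hs _ d1)).symm

end Points

section Core

variable {X : Scheme.{u}} (G : EtCoh.Ab X)

theorem factor_sub (P : X.Etale) (V : P.left.Opens) {Z : X.Etale} (g : Z ⟶ P)
    (h : ∀ z : Z.left, g.left z ∈ V) : ∃ k : Z ⟶ subE P V, k ≫ subι P V = g := by
  have hr : Set.range g.left ⊆ Set.range V.ι := by
    rw [Scheme.Opens.range_ι]
    rintro _ ⟨z, rfl⟩
    exact h z
  have hl : IsOpenImmersion.lift V.ι g.left hr ≫ V.ι = g.left := IsOpenImmersion.lift_fac _ _ _
  have hw : IsOpenImmersion.lift V.ι g.left hr ≫ (V.ι ≫ P.hom) = Z.hom := by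
    rw [← Category.assoc, hl]
    exact MorphismProperty.Over.w g
  exact ⟨MorphismProperty.Over.homMk (IsOpenImmersion.lift V.ι g.left hr) hw trivial,
    MorphismProperty.Over.Hom.ext hl⟩

theorem map_eq_zero_of_factor (P : X.Etale) (V : P.left.Opens) (t : G.obj.obj (op P))
    (ht : G.obj.map (subι P V).op t = 0) {Z : X.Etale} (g : Z ⟶ P)
    (h : ∀ z : Z.left, g.left z ∈ V) : G.obj.map g.op t = 0 := by
  obtain ⟨k, rfl⟩ := factor_sub P V g h
  rw [map_comp_apply, ht, map_zero]

variable {A' A : X.Etale} (φ : A' ⟶ A) (O : A.left.Opens)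

theorem core_mapsTo (s : G.obj.obj (op A)) (hs : G.obj.map (subι A O).op s = 0) :
    G.obj.map (subι A' (φ.left ⁻¹ᵁ O)).op (G.obj.map φ.op s) = 0 := by
  rw [← map_comp_apply]
  apply map_eq_zero_of_factor G A O s hs
  intro z
  exact z.2

/-- the two-element covering family -/
noncomputable def fam : Bool → X.Etale
  | true => A'
  | false => subE A O

/-- the two-element covering family -/
noncomputable def famπ : ∀ b, fam (A' := A') O b ⟶ A
  | true => φ
  | false => subι A O

theorem cover_mem (hsurj : ∀ y : A.left, y ∉ O → ∃ a : A'.left, φ.left a = y) :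
    Sieve.ofArrows (fam (A' := A') O) (famπ φ O) ∈ X.smallEtaleTopology A := by
  apply sieve_mem_of_forall_exists
  intro y
  by_cases hy : y ∈ O
  · refine ⟨subE A O, subι A O, Sieve.ofArrows_mk _ (famπ φ O) false, ?_⟩
    show y ∈ Set.range O.ι
    rw [Scheme.Opens.range_ι]
    exact hy
  · obtain ⟨a, ha⟩ := hsurj y hy
    exact ⟨A', φ, Sieve.ofArrows_mk _ (famπ φ O) true, ⟨a, ha⟩⟩

theorem core_injOn (hsurj : ∀ y : A.left, y ∉ O → ∃ a : A'.left, φ.left a = y)
    (s s' : G.obj.obj (op A)) (h1 : G.obj.map φ.op s = G.obj.map φ.op s')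
    (h2 : G.obj.map (subι A O).op s = G.obj.map (subι A O).op s') : s = s' := by
  refine Sheaf.isSeparated G A _ (cover_mem φ O hsurj) s s' ?_
  rintro Z g ⟨V, k, m, ⟨b⟩, rfl⟩
  cases b
  · rw [map_comp_apply, map_comp_apply]
    exact congrArg (fun z => G.obj.map k.op z) h2
  · rw [map_comp_apply, map_comp_apply]
    exact congrArg (fun z => G.obj.map k.op z) h1

theorem core_surjOn
    (hinj : ∀ a b : A'.left, a ∉ φ.left ⁻¹ᵁ O → b ∉ φ.left ⁻¹ᵁ O → φ.left a = φ.left b → a = b)
    (hsurj : ∀ y : A.left, y ∉ O → ∃ a : A'.left, φ.left a = y)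
    (hres : ∀ a : A'.left, a ∉ φ.left ⁻¹ᵁ O → Function.Surjective (φ.left.residueFieldMap a))
    (t : G.obj.obj (op A')) (ht : G.obj.map (subι A' (φ.left ⁻¹ᵁ O)).op t = 0) :
    ∃ s : G.obj.obj (op A), G.obj.map φ.op s = t ∧ G.obj.map (subι A O).op s = 0 := by
  have hQ : Presieve.IsSheaf X.smallEtaleTopology (G.obj ⋙ forget AddCommGrpCat.{u + 1}) :=
    (isSheaf_iff_isSheaf_of_type _ _).1
      ((Presheaf.isSheaf_iff_isSheaf_forget _ G.obj (forget AddCommGrpCat.{u + 1})).1 G.2)
  have hsh : Presieve.IsSheafFor (G.obj ⋙ forget AddCommGrpCat.{u + 1})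
      (Presieve.ofArrows (fam (A' := A') O) (famπ φ O)) :=
    (Presieve.isSheafFor_iff_generate _).2 (hQ _ (cover_mem φ O hsurj))
  rw [Presieve.isSheafFor_arrows_iff] at hsh
  -- sections over `A'` restricted along maps landing over `O` vanish
  have hzero : ∀ (Z : X.Etale) (g : Z ⟶ A'), (∀ z : Z.left, φ.left (g.left z) ∈ O) →
      G.obj.map g.op t = 0 := by
    intro Z g hg
    exact map_eq_zero_of_factor G A' (φ.left ⁻¹ᵁ O) t ht g hg
  -- the main compatibility
  have hmain : ∀ (Z : X.Etale) (gi gj : Z ⟶ A'), gi ≫ φ = gj ≫ φ →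
      G.obj.map gi.op t = G.obj.map gj.op t := by
    intro Z gi gj hij
    have hl : gi.left ≫ φ.left = gj.left ≫ φ.left :=
      congrArg (fun (m : Z ⟶ A) => m.left) hij
    obtain ⟨E, hE⟩ : ∃ E : Z.left.Opens, E = eqOpen φ.left gi.left gj.left hl := ⟨_, rfl⟩
    obtain ⟨ZO, hZO⟩ : ∃ ZO : Z.left.Opens, ZO = (gi.left ≫ φ.left) ⁻¹ᵁ O := ⟨_, rfl⟩
    refine ext_of_cover G Z (fun b : Bool => cond b E ZO) ?_ _ _ ?_
    · intro z
      by_cases hz : φ.left (gi.left z) ∈ O
      · refine ⟨false, ?_⟩
        show z ∈ ZO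
        rw [hZO]
        exact hz
      · refine ⟨true, ?_⟩
        show z ∈ E
        rw [hE]
        have hz' : φ.left (gj.left z) ∉ O := by
          have : φ.left (gi.left z) = φ.left (gj.left z) :=
            congrArg (fun (m : Z.left ⟶ A.left) => m z) hl
          rw [← this]
          exact hz
        have hab : gi.left z = gj.left z :=
          hinj _ _ hz hz' (congrArg (fun (m : Z.left ⟶ A.left) => m z) hl)
        refine mem_eqOpen_of φ.left gi.left gj.left hl z hab ?_
        intro w hw
        subst hw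
        exact hres _ hz
    · intro b
      cases b
      · -- over `O` both restrictions vanish
        show G.obj.map (subι Z ZO).op (G.obj.map gi.op t) =
          G.obj.map (subι Z ZO).op (G.obj.map gj.op t)
        rw [← map_comp_apply, ← map_comp_apply]
        have e1 : G.obj.map (subι Z ZO ≫ gi).op t = 0 := by
          apply hzero
          intro z
          have hz0 : ZO.ι z ∈ ZO := z.2
          have hz : ZO.ι z ∈ (gi.left ≫ φ.left) ⁻¹ᵁ O :=
            (congrArg (fun (T : Z.left.Opens) => ZO.ι z ∈ T) hZO).mp hz0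
          exact hz
        have e2 : G.obj.map (subι Z ZO ≫ gj).op t = 0 := by
          apply hzero
          intro z
          have hz0 : ZO.ι z ∈ ZO := z.2
          have hz : ZO.ι z ∈ (gi.left ≫ φ.left) ⁻¹ᵁ O :=
            (congrArg (fun (T : Z.left.Opens) => ZO.ι z ∈ T) hZO).mp hz0
          have : φ.left (gi.left (ZO.ι z)) = φ.left (gj.left (ZO.ι z)) :=
            congrArg (fun (m : Z.left ⟶ A.left) => m (ZO.ι z)) hl
          show φ.left (gj.left (ZO.ι z)) ∈ O
          rw [← this]
          exact hz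
        rw [e1, e2]
      · -- on the equalizer locus the two maps agree
        show G.obj.map (subι Z E).op (G.obj.map gi.op t) =
          G.obj.map (subι Z E).op (G.obj.map gj.op t)
        rw [← map_comp_apply, ← map_comp_apply]
        have e : subι Z E ≫ gi = subι Z E ≫ gj := by
          apply MorphismProperty.Over.Hom.ext
          show E.ι ≫ gi.left = E.ι ≫ gj.left
          rw [hE]
          exact eqOpen_comp φ.left gi.left gj.left hl
        rw [e]
  obtain ⟨r, hr, -⟩ := hsh
    (fun b => match b with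
      | true => t
      | false => (0 : G.obj.obj (op (subE A O)))) (by
    rintro (_ | _) (_ | _) Z gi gj hij
    · show G.obj.map gi.op (0 : G.obj.obj (op (subE A O))) =
        G.obj.map gj.op (0 : G.obj.obj (op (subE A O)))
      rw [map_zero, map_zero]
    · show G.obj.map gi.op (0 : G.obj.obj (op (subE A O))) = G.obj.map gj.op t
      rw [map_zero]
      symm
      apply hzero
      intro z
      have h1 : (gi ≫ subι A O).left z = (gj ≫ φ).left z :=
        congrArg (fun (m : Z ⟶ A) => m.left z) hij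
      have h2 : (gi ≫ subι A O).left z ∈ O := (gi.left z).2
      rw [h1] at h2
      exact h2
    · show G.obj.map gi.op t = G.obj.map gj.op (0 : G.obj.obj (op (subE A O)))
      rw [map_zero]
      apply hzero
      intro z
      have h1 : (gi ≫ φ).left z = (gj ≫ subι A O).left z :=
        congrArg (fun (m : Z ⟶ A) => m.left z) hij
      have h2 : (gj ≫ subι A O).left z ∈ O := (gj.left z).2
      rw [← h1] at h2
      exact h2
    · exact hmain Z gi gj hij)
  exact ⟨r, hr true, hr false⟩

end Core

section Supp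

variable {X : Scheme.{u}} (F : EtCoh.Ab X)

/-- the sieve of maps killing a section -/
def killSieve (P : X.Etale) (s : F.obj.obj (op P)) : Sieve P where
  arrows V g := F.obj.map g.op s = 0
  downward_closed := by
    intro Y Z f hf g
    have hf' : F.obj.map f.op s = 0 := hf
    show F.obj.map (g ≫ f).op s = 0
    rw [map_comp_apply, hf', map_zero]

theorem supp_subset_iff (U : X.Etale) (Z : Set U.left) (O : U.left.Opens)
    (hO : ∀ x : U.left, x ∈ O ↔ x ∉ Z) (s : F.obj.obj (op U)) :
    EtShriek.sectSupp F U s ⊆ Z ↔ F.obj.map (subι U O).op s = 0 := by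
  constructor
  · intro hsub
    have hR : killSieve F (subE U O) (F.obj.map (subι U O).op s) ∈
        X.smallEtaleTopology (subE U O) := by
      apply sieve_mem_of_forall_exists
      intro w
      have hw : O.ι w ∈ O := w.2
      have hwZ : O.ι w ∉ Z := (hO _).1 hw
      have hns : O.ι w ∉ EtShriek.sectSupp F U s := fun h => hwZ (hsub h)
      have hns' : ¬ ∀ (W : X.Etale) (g : W ⟶ U), (∃ w' : W.left, g.left.base w' = O.ι w) →
          F.obj.map g.op s ≠ 0 := hns
      push Not at hns'
      obtain ⟨W, g, ⟨w', hw'⟩, hg⟩ := hns'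
      obtain ⟨k, hk⟩ := factor_sub U O (subι W (g.left ⁻¹ᵁ O) ≫ g) (by
        intro z
        exact z.2)
      refine ⟨subE W (g.left ⁻¹ᵁ O), k, ?_, ?_⟩
      · show F.obj.map k.op (F.obj.map (subι U O).op s) = 0
        rw [← map_comp_apply, hk, map_comp_apply, hg, map_zero]
      · have hw'O : w' ∈ g.left ⁻¹ᵁ O := by
          show g.left.base w' ∈ O
          rw [hw']
          exact hw
        have hr : w' ∈ Set.range (g.left ⁻¹ᵁ O).ι := by
          rw [Scheme.Opens.range_ι]
          exact hw'O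
        obtain ⟨w'', hw''⟩ := hr
        refine ⟨w'', ?_⟩
        have hinj : Function.Injective O.ι := O.ι.isOpenEmbedding.injective
        apply hinj
        have e1 : (k ≫ subι U O).left w'' = (subι W (g.left ⁻¹ᵁ O) ≫ g).left w'' :=
          congrArg (fun (m : subE W (g.left ⁻¹ᵁ O) ⟶ U) => m.left w'') hk
        have e2 : (subι W (g.left ⁻¹ᵁ O) ≫ g).left w'' = g.left w' :=
          congrArg (fun z => g.left z) hw''
        exact e1.trans (e2.trans hw')
    refine Sheaf.isSeparated F (subE U O) _ hR (F.obj.map (subι U O).op s) 0 ?_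
    intro V g hg
    have hg' : F.obj.map g.op (F.obj.map (subι U O).op s) = 0 := hg
    rw [hg', map_zero]
  · intro h0 x hx
    by_contra hxZ
    have hxO : x ∈ O := (hO x).2 hxZ
    have hr : x ∈ Set.range O.ι := by
      rw [Scheme.Opens.range_ι]
      exact hxO
    obtain ⟨w, hw⟩ := hr
    exact hx (subE U O) (subι U O) ⟨w, hw⟩ h0

theorem main728 {U U' : X.Etale} (φ : U' ⟶ U) (Z : Set ↥U.left) (hZ : IsClosed Z)
    (hbij : Set.BijOn φ.left.base (φ.left.base ⁻¹' Z) Z)
    (hres : ∀ x ∈ φ.left.base ⁻¹' Z, Function.Bijective (φ.left.residueFieldMap x)) :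
    Set.BijOn (F.obj.map φ.op) {s | EtShriek.sectSupp F U s ⊆ Z}
      {s' | EtShriek.sectSupp F U' s' ⊆ φ.left.base ⁻¹' Z} := by
  obtain ⟨O, hO⟩ : ∃ O : U.left.Opens, ∀ x, x ∈ O ↔ x ∉ Z :=
    ⟨⟨Zᶜ, hZ.isOpen_compl⟩, fun x => Iff.rfl⟩
  have hO' : ∀ x : U'.left, x ∈ φ.left ⁻¹ᵁ O ↔ x ∉ φ.left.base ⁻¹' Z := fun x => hO (φ.left x)
  have h1 := fun s => supp_subset_iff F U Z O hO s
  have h2 := fun s' => supp_subset_iff F U' (φ.left.base ⁻¹' Z) (φ.left ⁻¹ᵁ O) hO' s'
  have hsurj : ∀ y : U.left, y ∉ O → ∃ a : U'.left, φ.left a = y := by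
    intro y hy
    have hyZ : y ∈ Z := by
      by_contra h
      exact hy ((hO y).2 h)
    obtain ⟨a, -, ha⟩ := hbij.surjOn hyZ
    exact ⟨a, ha⟩
  have hmem : ∀ a : U'.left, a ∉ φ.left ⁻¹ᵁ O → a ∈ φ.left.base ⁻¹' Z := by
    intro a ha
    by_contra h
    exact ha ((hO' a).2 h)
  have hinj : ∀ a b : U'.left, a ∉ φ.left ⁻¹ᵁ O → b ∉ φ.left ⁻¹ᵁ O →
      φ.left a = φ.left b → a = b := by
    intro a b ha hb hab
    exact hbij.injOn (hmem a ha) (hmem b hb) hab
  have hres' : ∀ a : U'.left, a ∉ φ.left ⁻¹ᵁ O →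
      Function.Surjective (φ.left.residueFieldMap a) := fun a ha => (hres a (hmem a ha)).2
  refine ⟨?_, ?_, ?_⟩
  · intro s hs
    exact (h2 _).2 (core_mapsTo F φ O s ((h1 s).1 hs))
  · intro s hs s' hs' hss
    exact core_injOn F φ O hsurj s s' hss (((h1 s).1 hs).trans ((h1 s').1 hs').symm)
  · intro t ht
    obtain ⟨s, hs1, hs2⟩ := core_surjOn F φ O hinj hsurj hres' t ((h2 t).1 ht)
    exact ⟨s, (h1 s).2 hs2, hs1⟩

end Supp

end Groth.Agent.Lib.EtExcisionH7
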