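import Mathlib
import Groth.Prelude.Def_EtDual
import Groth.Agent.Lib.EtExcision_helper7
import Groth.Agent.Lib.EtLocCohIso_helper7
import Groth.Agent.Lib.EtJCont_helper7
import Groth.Agent.Lib.DerComp_helper9
import Groth.Agent.Lib.ExtDer_helper9
import Groth.Agent.Lib.EtPullExact_helper9

/-!
# Étale excision for local cohomology groups (helper7)

For `f : X' ⟶ X` étale, `j`, `j'` open immersions with `range j' = f⁻¹ (range j)` such that `f`
maps the closed complements bijectively with trivial residue field extensions, restriction along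
`f` induces isomorphisms `H^r_Z(X, F) ≅ H^r_{Z'}(X', f⁻¹ F)`.
-/

set_option autoImplicit false
set_option backward.isDefEq.respectTransparency false
set_option linter.style.haveILetI false
set_option linter.unusedSectionVars false
universe u
open CategoryTheory CategoryTheory.Limits AlgebraicGeometry Opposite

namespace Groth.Agent.Lib.EtExcisionHH7

open Groth.Agent.Lib.EtSchSite_helper7 Groth.Agent.Lib.EtFinStalkH7 Groth.Agent.Lib.EtExcisionH7
  Groth.Agent.Lib.EtFlasque_helper7 Groth.Agent.Lib.EtOpenShriek_helper7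
  Groth.Agent.Lib.EtJCont_helper7 Groth.Agent.Lib.EtLocCohIso_helper7

section KerSec

variable {X : Scheme.{u}}

theorem hom_eq_zero_of_sections {A B : EtCoh.Ab X} (φ : A ⟶ B)
    (h : ∀ (V : X.Etale) (t : A.obj.obj (op V)), φ.hom.app (op V) t = 0) : φ = 0 := by
  ext V t
  exact h V.unop t

theorem ker_sections_inj {A B : EtCoh.Ab X} (φ : A ⟶ B) (V : X.Etale) :
    Function.Injective ((kernel.ι φ).hom.app (op V)) :=
  sections_injective_of_mono (kernel.ι φ) V

theorem ker_sections_zero {A B : EtCoh.Ab X} (φ : A ⟶ B) (V : X.Etale)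
    (a : (kernel φ).obj.obj (op V)) :
    φ.hom.app (op V) ((kernel.ι φ).hom.app (op V) a) = 0 := by
  have h := app_comp_apply (kernel.ι φ) φ V a
  have h2 : (kernel.ι φ ≫ φ).hom.app (op V) a = 0 :=
    (congrArg (fun (m : kernel φ ⟶ B) => m.hom.app (op V) a) (kernel.condition φ)).trans
      (zero_app_apply V a)
  exact h.symm.trans h2

theorem ker_sections_exists {A B : EtCoh.Ab X} (φ : A ⟶ B) (V : X.Etale)
    (r : A.obj.obj (op V)) (hr : φ.hom.app (op V) r = 0) :
    ∃ a : (kernel φ).obj.obj (op V), (kernel.ι φ).hom.app (op V) a = r := by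
  have hφ : (frEquiv V A).symm r ≫ φ = 0 := by
    apply (frEquiv V B).injective
    rw [frEquiv_comp, Equiv.apply_symm_apply, hr, frEquiv_zero]
  refine ⟨frEquiv V (kernel φ) (kernel.lift φ _ hφ), ?_⟩
  rw [← frEquiv_comp, kernel.lift_ι]
  exact Equiv.apply_symm_apply _ _

theorem factor_openImm {B A Z : X.Etale} (m : B ⟶ A) [IsOpenImmersion m.left] (g : Z ⟶ A)
    (h : Set.range g.left ⊆ Set.range m.left) : ∃ k : Z ⟶ B, k ≫ m = g := by
  have hl : IsOpenImmersion.lift m.left g.left h ≫ m.left = g.left :=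
    IsOpenImmersion.lift_fac _ _ _
  have hw : IsOpenImmersion.lift m.left g.left h ≫ B.hom = Z.hom := by
    have e1 : m.left ≫ A.hom = B.hom := MorphismProperty.Over.w m
    have e2 : g.left ≫ A.hom = Z.hom := MorphismProperty.Over.w g
    rw [← e1, ← Category.assoc, hl, e2]
  exact ⟨MorphismProperty.Over.homMk (IsOpenImmersion.lift m.left g.left h) hw trivial,
    MorphismProperty.Over.Hom.ext hl⟩

theorem map_zero_of_factor' (G : EtCoh.Ab X) {B A Z : X.Etale} (m : B ⟶ A)
    [IsOpenImmersion m.left] (t : G.obj.obj (op A)) (ht : G.obj.map m.op t = 0) (g : Z ⟶ A)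
    (h : Set.range g.left ⊆ Set.range m.left) : G.obj.map g.op t = 0 := by
  obtain ⟨k, rfl⟩ := factor_openImm m g h
  rw [map_comp_apply, ht, map_zero]

/-- the canonical map to the terminal object of the small étale site -/
noncomputable def tt (W : X.Etale) : W ⟶ EtCoh.top X :=
  MorphismProperty.Over.homMk W.hom (Category.comp_id _) trivial

/-- sections over `A` as a functor -/
noncomputable abbrev Gam (X : Scheme.{u}) (A : X.Etale) : EtCoh.Ab X ⥤ AddCommGrpCat.{u + 1} :=
  sheafToPresheaf X.smallEtaleTopology AddCommGrpCat.{u + 1} ⋙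
    (evaluation X.Etaleᵒᵖ AddCommGrpCat.{u + 1}).obj (op A)

end KerSec

section Unit

variable {X U : Scheme.{u}} (j : U ⟶ X) [IsOpenImmersion j]

theorem unit_zero_iff (G : EtCoh.Ab X) (A : X.Etale) (s : G.obj.obj (op A)) :
    (EtDual.unitApp j G).hom.app (op A) s = 0 ↔
      G.obj.map ((compBcAdj j).counit.app A).op s = 0 := by
  have e := unit_app_eq j G A s
  constructor
  · intro h
    have hinj := sections_injective_of_mono ((restrIsoPull j).hom.app G) ((EtCoh.bc j).obj A)
    apply hinj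
    refine (e.symm.trans h).trans ?_
    exact (map_zero (((restrIsoPull j).hom.app G).hom.app (op ((EtCoh.bc j).obj A))).hom).symm
  · intro h
    refine e.trans ?_
    refine (congrArg (fun z => ((restrIsoPull j).hom.app G).hom.app (op ((EtCoh.bc j).obj A)) z)
      h).trans ?_
    exact map_zero (((restrIsoPull j).hom.app G).hom.app (op ((EtCoh.bc j).obj A))).hom

theorem unit_zero_iff_sub (G : EtCoh.Ab X) (A : X.Etale) (O : A.left.Opens)
    (hO : ∀ a : A.left, a ∈ O ↔ A.hom a ∈ Set.range j) (s : G.obj.obj (op A)) :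
    (EtDual.unitApp j G).hom.app (op A) s = 0 ↔ G.obj.map (subι A O).op s = 0 := by
  haveI : IsOpenImmersion ((compBcAdj j).counit.app A).left :=
    inferInstanceAs (IsOpenImmersion (pullback.fst A.hom j))
  haveI : IsOpenImmersion (subι A O).left := inferInstanceAs (IsOpenImmersion O.ι)
  have hr1 : Set.range ((compBcAdj j).counit.app A).left = A.hom ⁻¹' Set.range j :=
    Scheme.Pullback.range_fst A.hom j
  have hr2 : Set.range (subι A O).left = (O : Set A.left) := Scheme.Opens.range_ι O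
  have hsub12 : Set.range ((compBcAdj j).counit.app A).left ⊆ Set.range (subι A O).left := by
    rw [hr1, hr2]
    intro a ha
    exact (hO a).2 ha
  have hsub21 : Set.range (subι A O).left ⊆ Set.range ((compBcAdj j).counit.app A).left := by
    rw [hr1, hr2]
    intro a ha
    exact (hO a).1 ha
  rw [unit_zero_iff]
  constructor
  · intro h
    exact map_zero_of_factor' G _ s h _ hsub21
  · intro h
    exact map_zero_of_factor' G _ s h _ hsub12

end Unit

section Sigma

variable {X X' U U' : Scheme.{u}} (f : X' ⟶ X) [Etale f] (j : U ⟶ X) [IsOpenImmersion j]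
  (j' : U' ⟶ X') [IsOpenImmersion j'] (hU' : Set.range j'.base ⊆ f.base ⁻¹' Set.range j.base)

include hU' in
theorem restr_vanish (G : EtCoh.Ab X) :
    (EtShriek.restrAlong f).map (kernel.ι (EtDual.unitApp j G)) ≫
      EtDual.unitApp j' ((EtShriek.restrAlong f).obj G) = 0 := by
  apply hom_eq_zero_of_sections
  intro V' t
  rw [app_comp_apply]
  obtain ⟨OW, hOW⟩ : ∃ OW : ((EtShriek.compEtale f).obj V').left.Opens,
      OW = ((EtShriek.compEtale f).obj V').hom ⁻¹ᵁ j.opensRange := ⟨_, rfl⟩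
  obtain ⟨O', hO'⟩ : ∃ O' : V'.left.Opens, O' = V'.hom ⁻¹ᵁ j'.opensRange := ⟨_, rfl⟩
  have hOWm : ∀ a : ((EtShriek.compEtale f).obj V').left,
      a ∈ OW ↔ ((EtShriek.compEtale f).obj V').hom a ∈ Set.range j := by
    intro a
    rw [hOW]
    exact Iff.rfl
  have hO'm : ∀ a : V'.left, a ∈ O' ↔ V'.hom a ∈ Set.range j' := by
    intro a
    rw [hO']
    exact Iff.rfl
  have hs0 : (EtDual.unitApp j G).hom.app (op ((EtShriek.compEtale f).obj V'))
      ((kernel.ι (EtDual.unitApp j G)).hom.app (op ((EtShriek.compEtale f).obj V')) t) = 0 :=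
    ker_sections_zero _ _ t
  have hs1 := (unit_zero_iff_sub j G _ OW hOWm _).1 hs0
  apply (unit_zero_iff_sub j' ((EtShriek.restrAlong f).obj G) V' O' hO'm _).2
  show G.obj.map ((EtShriek.compEtale f).map (subι V' O')).op
    ((kernel.ι (EtDual.unitApp j G)).hom.app (op ((EtShriek.compEtale f).obj V')) t) = 0
  refine map_eq_zero_of_factor G _ OW _ hs1 ((EtShriek.compEtale f).map (subι V' O')) ?_
  intro z
  have hz : O'.ι z ∈ O' := z.2
  have hz1 : V'.hom (O'.ι z) ∈ Set.range j' := (hO'm _).1 hz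
  have hz2 : f (V'.hom (O'.ι z)) ∈ Set.range j := hU' hz1
  apply (hOWm _).2
  exact hz2

/-- the comparison `(Γ_Z G)|_{X'} ⟶ Γ_{Z'} (G|_{X'})` -/
noncomputable def sigma :
    EtDual.secSupp j ⋙ EtShriek.restrAlong f ⟶ EtShriek.restrAlong f ⋙ EtDual.secSupp j' where
  app G := kernel.lift (EtDual.unitApp j' ((EtShriek.restrAlong f).obj G))
    ((EtShriek.restrAlong f).map (kernel.ι (EtDual.unitApp j G))) (restr_vanish f j j' hU' G)
  naturality G G' φ := by
    apply (cancel_mono (kernel.ι (EtDual.unitApp j' ((EtShriek.restrAlong f).obj G')))).1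
    have n1 : (EtDual.secSupp j).map φ ≫ kernel.ι (EtDual.unitApp j G') =
        kernel.ι (EtDual.unitApp j G) ≫ φ := kernel.lift_ι _ _ _
    have n2 : (EtDual.secSupp j').map ((EtShriek.restrAlong f).map φ) ≫
        kernel.ι (EtDual.unitApp j' ((EtShriek.restrAlong f).obj G')) =
        kernel.ι (EtDual.unitApp j' ((EtShriek.restrAlong f).obj G)) ≫
          (EtShriek.restrAlong f).map φ := kernel.lift_ι _ _ _
    have l1 : kernel.lift (EtDual.unitApp j' ((EtShriek.restrAlong f).obj G'))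
        ((EtShriek.restrAlong f).map (kernel.ι (EtDual.unitApp j G')))
        (restr_vanish f j j' hU' G') ≫
        kernel.ι (EtDual.unitApp j' ((EtShriek.restrAlong f).obj G')) =
        (EtShriek.restrAlong f).map (kernel.ι (EtDual.unitApp j G')) := kernel.lift_ι _ _ _
    have l2 : kernel.lift (EtDual.unitApp j' ((EtShriek.restrAlong f).obj G))
        ((EtShriek.restrAlong f).map (kernel.ι (EtDual.unitApp j G)))
        (restr_vanish f j j' hU' G) ≫
        kernel.ι (EtDual.unitApp j' ((EtShriek.restrAlong f).obj G)) =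
        (EtShriek.restrAlong f).map (kernel.ι (EtDual.unitApp j G)) := kernel.lift_ι _ _ _
    show ((EtShriek.restrAlong f).map ((EtDual.secSupp j).map φ) ≫ kernel.lift _ _ _) ≫
        kernel.ι _ = (kernel.lift _ _ _ ≫
          (EtDual.secSupp j').map ((EtShriek.restrAlong f).map φ)) ≫ kernel.ι _
    rw [Category.assoc, l1, Category.assoc, n2, ← Category.assoc, l2, ← Functor.map_comp,
      ← Functor.map_comp, n1]

theorem sigma_ι (G : EtCoh.Ab X) :
    (sigma f j j' hU').app G ≫ kernel.ι (EtDual.unitApp j' ((EtShriek.restrAlong f).obj G)) =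
      (EtShriek.restrAlong f).map (kernel.ι (EtDual.unitApp j G)) := kernel.lift_ι _ _ _

/-- restriction of global sections along `f` -/
noncomputable def rho0 :
    Gam X (EtCoh.top X) ⟶ EtShriek.restrAlong f ⋙ Gam X' (EtCoh.top X') where
  app G := G.obj.map (tt ((EtShriek.compEtale f).obj (EtCoh.top X'))).op
  naturality G G' φ := (φ.hom.naturality _).symm

/-- the excision comparison map -/
noncomputable def eta : EtDual.gammaSupp j ⟶ EtShriek.restrAlong f ⋙ EtDual.gammaSupp j' :=
  show EtDual.secSupp j ⋙ Gam X (EtCoh.top X) ⟶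
      (EtShriek.restrAlong f ⋙ EtDual.secSupp j') ⋙ Gam X' (EtCoh.top X') from
    (show EtDual.secSupp j ⋙ Gam X (EtCoh.top X) ⟶
        (EtDual.secSupp j ⋙ EtShriek.restrAlong f) ⋙ Gam X' (EtCoh.top X') from
      Functor.whiskerLeft (EtDual.secSupp j) (rho0 f)) ≫
    Functor.whiskerRight (sigma f j j' hU') (Gam X' (EtCoh.top X'))

theorem eta_spec (G : EtCoh.Ab X) (x : ((EtDual.secSupp j).obj G).obj.obj (op (EtCoh.top X))) :
    (kernel.ι (EtDual.unitApp j' ((EtShriek.restrAlong f).obj G))).hom.app (op (EtCoh.top X'))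
      ((eta f j j' hU').app G x) =
    G.obj.map (tt ((EtShriek.compEtale f).obj (EtCoh.top X'))).op
      ((kernel.ι (EtDual.unitApp j G)).hom.app (op (EtCoh.top X)) x) := by
  obtain ⟨y, hy⟩ : ∃ y : ((EtDual.secSupp j).obj G).obj.obj
      (op ((EtShriek.compEtale f).obj (EtCoh.top X'))),
      y = ((EtDual.secSupp j).obj G).obj.map
        (tt ((EtShriek.compEtale f).obj (EtCoh.top X'))).op x := ⟨_, rfl⟩
  have h1 : (eta f j j' hU').app G x =
      ((sigma f j j' hU').app G).hom.app (op (EtCoh.top X')) y := by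
    rw [hy]
    rfl
  have h2 := app_comp_apply ((sigma f j j' hU').app G)
    (kernel.ι (EtDual.unitApp j' ((EtShriek.restrAlong f).obj G))) (EtCoh.top X') y
  have h3 := congrArg (fun (m : (EtShriek.restrAlong f).obj ((EtDual.secSupp j).obj G) ⟶
    (EtShriek.restrAlong f).obj G) => m.hom.app (op (EtCoh.top X')) y) (sigma_ι f j j' hU' G)
  have h4 : ((EtShriek.restrAlong f).map (kernel.ι (EtDual.unitApp j G))).hom.app
      (op (EtCoh.top X')) y =
      (kernel.ι (EtDual.unitApp j G)).hom.app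
        (op ((EtShriek.compEtale f).obj (EtCoh.top X'))) y := rfl
  have h5 := app_map_apply (kernel.ι (EtDual.unitApp j G))
    (tt ((EtShriek.compEtale f).obj (EtCoh.top X'))) x
  rw [h1]
  refine h2.symm.trans (h3.trans (h4.trans ?_))
  rw [hy]
  exact h5

end Sigma

section Bij

variable {X X' U U' : Scheme.{u}} (f : X' ⟶ X) [Etale f] (j : U ⟶ X) [IsOpenImmersion j]
  (j' : U' ⟶ X') [IsOpenImmersion j'] (hU' : Set.range j'.base = f.base ⁻¹' Set.range j.base)
  (hZ : Set.BijOn f.base (Set.range j'.base)ᶜ (Set.range j.base)ᶜ)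
  (hκ : ∀ x' : ↥X', x' ∉ Set.range j'.base → Function.Surjective (f.residueFieldMap x'))

include hU' hZ hκ in
theorem hyps (g : X' ⟶ X) (hg : g = f) (O : X.Opens) (hO : ∀ a : X, a ∈ O ↔ a ∈ Set.range j) :
    (∀ a b : X', a ∉ g ⁻¹ᵁ O → b ∉ g ⁻¹ᵁ O → g a = g b → a = b) ∧
    (∀ y : X, y ∉ O → ∃ a : X', g a = y) ∧
    (∀ a : X', a ∉ g ⁻¹ᵁ O → Function.Surjective (g.residueFieldMap a)) ∧
    (∀ a : X', a ∈ g ⁻¹ᵁ O ↔ a ∈ Set.range j') := by
  subst hg
  have hm : ∀ a : X', a ∈ g ⁻¹ᵁ O ↔ a ∈ Set.range j' := by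
    intro a
    have h1 : a ∈ g ⁻¹ᵁ O ↔ g a ∈ Set.range j := hO (g a)
    have h2 : a ∈ Set.range j' ↔ g a ∈ Set.range j := by
      have := congrArg (fun (S : Set X') => a ∈ S) hU'
      exact iff_of_eq this
    exact h1.trans h2.symm
  refine ⟨?_, ?_, ?_, hm⟩
  · intro a b ha hb hab
    exact hZ.injOn (fun h => ha ((hm a).2 h)) (fun h => hb ((hm b).2 h)) hab
  · intro y hy
    obtain ⟨a, -, ha⟩ := hZ.surjOn (fun h => hy ((hO y).2 h))
    exact ⟨a, ha⟩
  · intro a ha
    exact hκ a (fun h => ha ((hm a).2 h))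

include hZ hκ in
theorem eta_bijective (G : EtCoh.Ab X) :
    Function.Bijective ((eta f j j' hU'.le).app G) := by
  obtain ⟨W₀, hW₀⟩ : ∃ W₀ : X.Etale, W₀ = (EtShriek.compEtale f).obj (EtCoh.top X') :=
    ⟨_, rfl⟩
  obtain ⟨φ, hφ⟩ : ∃ φ : (EtShriek.compEtale f).obj (EtCoh.top X') ⟶ EtCoh.top X,
      φ = tt ((EtShriek.compEtale f).obj (EtCoh.top X')) := ⟨_, rfl⟩
  have hφl : φ.left = f := by
    rw [hφ]
    exact Category.id_comp f
  obtain ⟨O, hO⟩ : ∃ O : (EtCoh.top X).left.Opens, O = j.opensRange := ⟨_, rfl⟩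
  have hOm : ∀ a : X, a ∈ O ↔ a ∈ Set.range j := by
    intro a
    rw [hO]
    exact Iff.rfl
  obtain ⟨hinj, hsurj, hres, hpre⟩ := hyps f j j' hU' hZ hκ φ.left hφl O hOm
  have hOm' : ∀ a : (EtCoh.top X).left, a ∈ O ↔ (EtCoh.top X).hom a ∈ Set.range j := hOm
  obtain ⟨O', hO'⟩ : ∃ O' : (EtCoh.top X').left.Opens, O' = j'.opensRange := ⟨_, rfl⟩
  have hO'm : ∀ a : (EtCoh.top X').left, a ∈ O' ↔ (EtCoh.top X').hom a ∈ Set.range j' := by
    intro a
    rw [hO']
    exact Iff.rfl
  have spec := fun x => eta_spec f j j' hU'.le G x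
  rw [← hφ] at spec
  constructor
  · intro x y hxy
    apply ker_sections_inj (EtDual.unitApp j G) (EtCoh.top X)
    have h1 : G.obj.map φ.op ((kernel.ι (EtDual.unitApp j G)).hom.app (op (EtCoh.top X)) x) =
        G.obj.map φ.op ((kernel.ι (EtDual.unitApp j G)).hom.app (op (EtCoh.top X)) y) := by
      rw [← spec x, ← spec y]
      exact congrArg (fun z => (kernel.ι (EtDual.unitApp j'
        ((EtShriek.restrAlong f).obj G))).hom.app (op (EtCoh.top X')) z) hxy
    have h2x := (unit_zero_iff_sub j G (EtCoh.top X) O hOm' _).1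
      (ker_sections_zero (EtDual.unitApp j G) (EtCoh.top X) x)
    have h2y := (unit_zero_iff_sub j G (EtCoh.top X) O hOm' _).1
      (ker_sections_zero (EtDual.unitApp j G) (EtCoh.top X) y)
    exact core_injOn G φ O hsurj _ _ h1 (h2x.trans h2y.symm)
  · intro y
    obtain ⟨t, ht⟩ : ∃ t : G.obj.obj (op ((EtShriek.compEtale f).obj (EtCoh.top X'))),
        t = (kernel.ι (EtDual.unitApp j' ((EtShriek.restrAlong f).obj G))).hom.app
          (op (EtCoh.top X')) y := ⟨_, rfl⟩
    have ht0 : (EtDual.unitApp j' ((EtShriek.restrAlong f).obj G)).hom.app (op (EtCoh.top X'))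
        ((kernel.ι (EtDual.unitApp j' ((EtShriek.restrAlong f).obj G))).hom.app
          (op (EtCoh.top X')) y) = 0 := ker_sections_zero _ _ y
    have ht1 := (unit_zero_iff_sub j' ((EtShriek.restrAlong f).obj G) (EtCoh.top X') O' hO'm
      _).1 ht0
    have ht2 : G.obj.map ((EtShriek.compEtale f).map (subι (EtCoh.top X') O')).op t = 0 := by
      rw [ht]
      exact ht1
    haveI : IsOpenImmersion ((EtShriek.compEtale f).map (subι (EtCoh.top X') O')).left :=
      inferInstanceAs (IsOpenImmersion O'.ι)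
    have ht3 : G.obj.map (subι ((EtShriek.compEtale f).obj (EtCoh.top X'))
        (φ.left ⁻¹ᵁ O)).op t = 0 := by
      refine map_zero_of_factor' G ((EtShriek.compEtale f).map (subι (EtCoh.top X') O')) t ht2
        _ ?_
      rintro _ ⟨z, rfl⟩
      have hz : (φ.left ⁻¹ᵁ O).ι z ∈ φ.left ⁻¹ᵁ O := z.2
      have ha' : (φ.left ⁻¹ᵁ O).ι z ∈ Set.range j' := (hpre _).1 hz
      have ha'' : (φ.left ⁻¹ᵁ O).ι z ∈ O' := (hO'm _).2 ha'
      show (φ.left ⁻¹ᵁ O).ι z ∈ Set.range O'.ι
      rw [Scheme.Opens.range_ι]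
      exact ha''
    obtain ⟨s, hs1, hs2⟩ := core_surjOn G φ O hinj hsurj hres t ht3
    have hs3 := (unit_zero_iff_sub j G (EtCoh.top X) O hOm' s).2 hs2
    obtain ⟨x, hx⟩ := ker_sections_exists (EtDual.unitApp j G) (EtCoh.top X) s hs3
    refine ⟨x, ?_⟩
    apply ker_sections_inj (EtDual.unitApp j' ((EtShriek.restrAlong f).obj G)) (EtCoh.top X')
    refine (spec x).trans ?_
    rw [hx, hs1]
    exact ht

include hU' hZ hκ in
theorem main14454 (F : EtCoh.Ab X) (r : ℕ) :
    Nonempty ((EtDual.HY j r).obj F ≅ (EtDual.HY j' r).obj ((EtCoh.pull f).obj F)) := by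
  haveI : ∀ G, IsIso ((eta f j j' hU'.le).app G) := fun G =>
    (ConcreteCategory.isIso_iff_bijective _).2 (eta_bijective f j j' hU' hZ hκ G)
  haveI : IsIso (eta f j j' hU'.le) := NatIso.isIso_of_isIso_app _
  have e1 : EtDual.gammaSupp j ≅ EtShriek.restrAlong f ⋙ EtDual.gammaSupp j' :=
    asIso (eta f j j' hU'.le)
  have e2 : EtShriek.restrAlong f ⋙ EtDual.gammaSupp j' ≅ EtCoh.pull f ⋙ EtDual.gammaSupp j' :=
    Functor.isoWhiskerRight (restrIsoPull f) _
  have e3 := (ExtDer.rightDerivedIso (e1 ≪≫ e2) r).app F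
  have e4 := (DerComp.natIso (EtCoh.pull f)
    (fun I hI => by haveI := hI; exact injective_pull_of_etale f I)
    (EtDual.gammaSupp j') r).app F
  exact ⟨e3 ≪≫ e4⟩

end Bij

end Groth.Agent.Lib.EtExcisionHH7
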