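import Mathlib
import Groth.Prelude.Def_EtShriek2
import Groth.Agent.Lib.EtExcisionH_helper7
import Groth.Agent.Lib.EtFinStalk_helper7
import Groth.Agent.Lib.EtShriekStalk_helper7

/-!
# The comparison `j_! ⟶ j_*` for a separated étale morphism (helper7)

For `j : U ⟶ X` separated étale and `V` étale over `U`, the graph `V ⟶ V ×_X U` is an open and
closed immersion; extension by zero along it gives `τ' : 𝟭 ⟶ j_* ⋙ j⁻¹`, whose adjoint is
`τ : j_! ⟶ j_*`.
-/

set_option autoImplicit false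
set_option backward.isDefEq.respectTransparency false
set_option linter.style.haveILetI false
set_option linter.unusedSectionVars false
universe u
open CategoryTheory CategoryTheory.Limits AlgebraicGeometry Opposite

namespace Groth.Agent.Lib.EtTraceH7

open Groth.Agent.Lib.EtSchSite_helper7 Groth.Agent.Lib.EtFinStalkH7 Groth.Agent.Lib.EtExcisionH7
  Groth.Agent.Lib.EtExcisionHH7 Groth.Agent.Lib.EtIntH7 Groth.Agent.Lib.EtOpenShriek_helper7
  Groth.Agent.Lib.EtJCont_helper7
open Groth.Agent.Lib.EtFlasque_helper7 (app_map_apply map_id_apply)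

section Ext0

variable {Y : Scheme.{u}} (G : EtCoh.Ab Y) {V B : Y.Etale} (γ : V ⟶ B) [IsOpenImmersion γ.left]
  (hcl : IsClosed (Set.range γ.left))

include hcl in
theorem ext0_exists (s : G.obj.obj (op V)) :
    ∃ t : G.obj.obj (op B), G.obj.map γ.op t = s ∧
      ∀ (Z : Y.Etale) (g : Z ⟶ B), (∀ z : Z.left, g.left z ∉ Set.range γ.left) →
        G.obj.map g.op t = 0 := by
  obtain ⟨O, hOm⟩ : ∃ O : B.left.Opens, ∀ p : B.left, p ∈ O ↔ p ∈ Set.range γ.left :=
    ⟨γ.left.opensRange, fun p => Iff.rfl⟩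
  obtain ⟨Oc, hOcm⟩ : ∃ Oc : B.left.Opens, ∀ p : B.left, p ∈ Oc ↔ p ∉ Set.range γ.left :=
    ⟨⟨(Set.range γ.left)ᶜ, hcl.isOpen_compl⟩, fun p => Iff.rfl⟩
  haveI : IsOpenImmersion (subι B O).left := inferInstanceAs (IsOpenImmersion O.ι)
  obtain ⟨k, hk⟩ := factor_openImm γ (subι B O) (by
    rintro _ ⟨z, rfl⟩
    have hz : O.ι z ∈ O := z.2
    exact (hOm _).1 hz)
  obtain ⟨k', hk'⟩ := factor_sub B O γ (fun z => (hOm _).2 ⟨z, rfl⟩)
  haveI : Mono γ.left := inferInstance
  haveI : Mono γ := Groth.Agent.Lib.EtFinStalkH7.mono_of_left_mono γ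
  have hkk : k' ≫ k = 𝟙 V := by
    apply (cancel_mono γ).1
    rw [Category.assoc, hk, hk', Category.id_comp]
  obtain ⟨t, ht1, ht2⟩ := glue_clopen G B O Oc
    (fun p => by
      by_cases h : p ∈ Set.range γ.left
      · exact Or.inl ((hOm p).2 h)
      · exact Or.inr ((hOcm p).2 h))
    (fun p h1 h2 => (hOcm p).1 h2 ((hOm p).1 h1)) (G.obj.map k.op s)
  refine ⟨t, ?_, ?_⟩
  · have e1 : G.obj.map γ.op t = G.obj.map k'.op (G.obj.map (subι B O).op t) := by
      rw [← map_comp_apply, hk']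
    rw [e1, ht1, ← map_comp_apply, hkk, map_id_apply]
  · intro Z g hg
    exact map_eq_zero_of_factor G B Oc t ht2 g (fun z => (hOcm _).2 (hg z))

include hcl in
theorem ext0_unique (t t' : G.obj.obj (op B)) (h1 : G.obj.map γ.op t = G.obj.map γ.op t')
    (h2 : ∀ (Z : Y.Etale) (g : Z ⟶ B), (∀ z : Z.left, g.left z ∉ Set.range γ.left) →
      G.obj.map g.op t = 0)
    (h2' : ∀ (Z : Y.Etale) (g : Z ⟶ B), (∀ z : Z.left, g.left z ∉ Set.range γ.left) →
      G.obj.map g.op t' = 0) : t = t' := by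
  obtain ⟨O, hOm⟩ : ∃ O : B.left.Opens, ∀ p : B.left, p ∈ O ↔ p ∈ Set.range γ.left :=
    ⟨γ.left.opensRange, fun p => Iff.rfl⟩
  obtain ⟨Oc, hOcm⟩ : ∃ Oc : B.left.Opens, ∀ p : B.left, p ∈ Oc ↔ p ∉ Set.range γ.left :=
    ⟨⟨(Set.range γ.left)ᶜ, hcl.isOpen_compl⟩, fun p => Iff.rfl⟩
  haveI : IsOpenImmersion (subι B O).left := inferInstanceAs (IsOpenImmersion O.ι)
  obtain ⟨k, hk⟩ := factor_openImm γ (subι B O) (by
    rintro _ ⟨z, rfl⟩
    have hz : O.ι z ∈ O := z.2
    exact (hOm _).1 hz)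
  refine ext_of_cover G B (fun b : Bool => cond b O Oc) ?_ t t' ?_
  · intro p
    by_cases h : p ∈ Set.range γ.left
    · exact ⟨true, (hOm p).2 h⟩
    · exact ⟨false, (hOcm p).2 h⟩
  · intro b
    cases b
    · show G.obj.map (subι B Oc).op t = G.obj.map (subι B Oc).op t'
      have hz : ∀ z : (subE B Oc).left, (subι B Oc).left z ∉ Set.range γ.left := by
        intro z
        have hz : Oc.ι z ∈ Oc := z.2
        exact (hOcm _).1 hz
      rw [h2 _ _ hz, h2' _ _ hz]
    · show G.obj.map (subι B O).op t = G.obj.map (subι B O).op t'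
      rw [← hk, map_comp_apply, map_comp_apply, h1]

/-- extension by zero of a section along an open and closed immersion -/
noncomputable def ext0 (s : G.obj.obj (op V)) : G.obj.obj (op B) :=
  (ext0_exists G γ hcl s).choose

theorem ext0_γ (s : G.obj.obj (op V)) : G.obj.map γ.op (ext0 G γ hcl s) = s :=
  (ext0_exists G γ hcl s).choose_spec.1

theorem ext0_off (s : G.obj.obj (op V)) (Z : Y.Etale) (g : Z ⟶ B)
    (hg : ∀ z : Z.left, g.left z ∉ Set.range γ.left) :
    G.obj.map g.op (ext0 G γ hcl s) = 0 :=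
  (ext0_exists G γ hcl s).choose_spec.2 Z g hg

theorem ext0_eq (s : G.obj.obj (op V)) (t : G.obj.obj (op B)) (h1 : G.obj.map γ.op t = s)
    (h2 : ∀ (Z : Y.Etale) (g : Z ⟶ B), (∀ z : Z.left, g.left z ∉ Set.range γ.left) →
      G.obj.map g.op t = 0) : t = ext0 G γ hcl s :=
  ext0_unique G γ hcl t _ (h1.trans (ext0_γ G γ hcl s).symm) h2 (ext0_off G γ hcl s)

theorem ext0_add (s s' : G.obj.obj (op V)) :
    ext0 G γ hcl (s + s') = ext0 G γ hcl s + ext0 G γ hcl s' := by
  symm
  apply ext0_eq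
  · rw [map_add, ext0_γ, ext0_γ]
  · intro Z g hg
    rw [map_add, ext0_off G γ hcl s Z g hg, ext0_off G γ hcl s' Z g hg, add_zero]

end Ext0

section Graph

variable {U X : Scheme.{u}} (j : U ⟶ X) [Etale j]

/-- `V ×_X U` as an étale `U`-scheme -/
noncomputable abbrev Bg (V : U.Etale) : U.Etale :=
  (EtCoh.bc j).obj ((EtShriek.compEtale j).obj V)

/-- the graph `V ⟶ V ×_X U` -/
noncomputable abbrev gam (V : U.Etale) : V ⟶ Bg j V := (compBcAdj j).unit.app V

/-- the map `V ×_X U ⟶ U ×_X U` -/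
noncomputable abbrev mapV (V : U.Etale) : (Bg j V).left ⟶ pullback j j :=
  pullback.map (V.hom ≫ j) j j j V.hom (𝟙 U) (𝟙 X) (by simp) (by simp)

theorem gam_left (V : U.Etale) :
    (gam j V).left = pullback.lift (𝟙 V.left) V.hom (by simp) := rfl

theorem gam_sq (V : U.Etale) :
    IsPullback V.hom (gam j V).left (pullback.diagonal j) (mapV j V) :=
  pullback_lift_diagonal_isPullback V.hom j

instance isOpenImmersion_gam (V : U.Etale) : IsOpenImmersion (gam j V).left :=
  MorphismProperty.of_isPullback (P := @IsOpenImmersion) (gam_sq j V) inferInstance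

theorem gam_fst (V : U.Etale) :
    (gam j V).left ≫ pullback.fst (V.hom ≫ j) j = 𝟙 V.left := pullback.lift_fst _ _ _

theorem gam_snd (V : U.Etale) :
    (gam j V).left ≫ pullback.snd (V.hom ≫ j) j = V.hom := pullback.lift_snd _ _ _

theorem isClosed_range_gam [IsSeparated j] (V : U.Etale) :
    IsClosed (Set.range (gam j V).left) := by
  haveI : IsSeparated (pullback.fst (V.hom ≫ j) j) := inferInstance
  haveI : IsClosedImmersion ((gam j V).left ≫ pullback.fst (V.hom ≫ j) j) := by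
    rw [gam_fst]
    infer_instance
  haveI : IsClosedImmersion (gam j V).left :=
    IsClosedImmersion.of_comp (gam j V).left (pullback.fst (V.hom ≫ j) j)
  exact (gam j V).left.isClosedEmbedding.isClosed_range

theorem range_gam (V : U.Etale) :
    Set.range (gam j V).left = (mapV j V) ⁻¹' Set.range (pullback.diagonal j) := by
  have sq := gam_sq j V
  rw [← Scheme.Pullback.range_snd]
  ext p
  constructor
  · rintro ⟨v, rfl⟩
    refine ⟨sq.isoPullback.hom v, ?_⟩
    exact congrArg (fun (m : V.left ⟶ (Bg j V).left) => m v) sq.isoPullback_hom_snd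
  · rintro ⟨q, rfl⟩
    refine ⟨sq.isoPullback.inv q, ?_⟩
    exact congrArg (fun (m : pullback (pullback.diagonal j) (mapV j V) ⟶ (Bg j V).left) => m q)
      sq.isoPullback_inv_snd

/-- the map `V₁ ×_X U ⟶ V₂ ×_X U` induced by `g : V₁ ⟶ V₂` -/
noncomputable abbrev Bmap {V₁ V₂ : U.Etale} (g : V₁ ⟶ V₂) : Bg j V₁ ⟶ Bg j V₂ :=
  (EtCoh.bc j).map ((EtShriek.compEtale j).map g)

theorem gam_naturality {V₁ V₂ : U.Etale} (g : V₁ ⟶ V₂) :
    gam j V₁ ≫ Bmap j g = g ≫ gam j V₂ :=
  ((compBcAdj j).unit.naturality g).symm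

theorem Bmap_mapV {V₁ V₂ : U.Etale} (g : V₁ ⟶ V₂) :
    (Bmap j g).left ≫ mapV j V₂ = mapV j V₁ := by
  have e1 : (Bmap j g).left ≫ pullback.fst (V₂.hom ≫ j) j =
      pullback.fst (V₁.hom ≫ j) j ≫ g.left :=
    (EtCoh.isPullback_bc_map j ((EtShriek.compEtale j).map g)).w
  have e2 : (Bmap j g).left ≫ pullback.snd (V₂.hom ≫ j) j = pullback.snd (V₁.hom ≫ j) j :=
    MorphismProperty.Over.w (Bmap j g)
  have e3 : g.left ≫ V₂.hom = V₁.hom := MorphismProperty.Over.w g
  apply pullback.hom_ext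
  · rw [Category.assoc, pullback.lift_fst, pullback.lift_fst, ← Category.assoc, e1,
      Category.assoc, e3]
  · rw [Category.assoc, pullback.lift_snd, pullback.lift_snd, ← Category.assoc, e2]

theorem not_mem_range_gam_of_Bmap {V₁ V₂ : U.Etale} (g : V₁ ⟶ V₂) (p : (Bg j V₁).left)
    (hp : p ∉ Set.range (gam j V₁).left) : (Bmap j g).left p ∉ Set.range (gam j V₂).left := by
  rw [range_gam] at hp ⊢
  intro h
  apply hp
  show (mapV j V₁) p ∈ Set.range (pullback.diagonal j)
  have e : (mapV j V₁) p = (mapV j V₂) ((Bmap j g).left p) :=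
    congrArg (fun (m : (Bg j V₁).left ⟶ pullback j j) => m p) (Bmap_mapV j g).symm
  rw [e]
  exact h

end Graph

section TauPrime

variable {U X : Scheme.{u}} (j : U ⟶ X) [Etale j] [IsSeparated j]

/-- the components of `τ'` on sections -/
noncomputable def tauSec (G : EtCoh.Ab U) (V : U.Etale) :
    G.obj.obj (op V) ⟶ G.obj.obj (op (Bg j V)) :=
  AddCommGrpCat.ofHom (AddMonoidHom.mk' (ext0 G (gam j V) (isClosed_range_gam j V))
    (ext0_add G (gam j V) (isClosed_range_gam j V)))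

theorem tauSec_apply (G : EtCoh.Ab U) (V : U.Etale) (s : G.obj.obj (op V)) :
    tauSec j G V s = ext0 G (gam j V) (isClosed_range_gam j V) s := rfl

theorem tauSec_naturality (G : EtCoh.Ab U) {V₁ V₂ : U.Etale} (g : V₁ ⟶ V₂)
    (s : G.obj.obj (op V₂)) :
    G.obj.map (Bmap j g).op (tauSec j G V₂ s) = tauSec j G V₁ (G.obj.map g.op s) := by
  rw [tauSec_apply, tauSec_apply]
  apply ext0_eq
  · rw [← map_comp_apply, gam_naturality, map_comp_apply, ext0_γ]
  · intro Z m hm
    rw [← map_comp_apply]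
    apply ext0_off
    intro z
    exact not_mem_range_gam_of_Bmap j g (m.left z) (hm z)

theorem tauSec_app {G G' : EtCoh.Ab U} (α : G ⟶ G') (V : U.Etale) (s : G.obj.obj (op V)) :
    α.hom.app (op (Bg j V)) (tauSec j G V s) = tauSec j G' V (α.hom.app (op V) s) := by
  rw [tauSec_apply, tauSec_apply]
  apply ext0_eq
  · rw [← app_map_apply, ext0_γ]
  · intro Z m hm
    rw [← app_map_apply, ext0_off G _ _ s Z m hm, map_zero]

/-- `τ'_G : G ⟶ j⁻¹ j_* G` -/
noncomputable def tauP (G : EtCoh.Ab U) :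
    G ⟶ (EtShriek.restrAlong j).obj ((EtCoh.push j).obj G) :=
  ⟨{ app := fun V => tauSec j G V.unop
     naturality := by
      intro V₂ V₁ g
      ext s
      exact (tauSec_naturality j G g.unop s).symm }⟩

theorem tauP_app (G : EtCoh.Ab U) (V : U.Etale) (s : G.obj.obj (op V)) :
    (tauP j G).hom.app (op V) s = tauSec j G V s := rfl

theorem tauP_naturality {G G' : EtCoh.Ab U} (α : G ⟶ G') :
    α ≫ tauP j G' = tauP j G ≫ (EtShriek.restrAlong j).map ((EtCoh.push j).map α) := by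
  ext V s
  exact (tauSec_app j α V.unop s).symm

/-- `τ : j_! ⟶ j_*` -/
noncomputable def tau : EtShriek.extZero j ⟶ EtCoh.push j where
  app G := ((EtShriek.extZeroAdj j).homEquiv G ((EtCoh.push j).obj G)).symm (tauP j G)
  naturality G G' α := by
    rw [← Adjunction.homEquiv_naturality_left_symm, ← Adjunction.homEquiv_naturality_right_symm,
      tauP_naturality]

theorem unit_tau (G : EtCoh.Ab U) :
    (EtShriek.extZeroAdj j).unit.app G ≫ (EtShriek.restrAlong j).map ((tau j).app G) =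
      tauP j G := by
  have h := (EtShriek.extZeroAdj j).homEquiv_unit (X := G) (Y := (EtCoh.push j).obj G)
    (f := (tau j).app G)
  rw [← h]
  exact Equiv.apply_symm_apply _ _

end TauPrime

end Groth.Agent.Lib.EtTraceH7
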