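import Mathlib
import Groth.Agent.Lib.EtTrace1_helper7
import Groth.Agent.Lib.EtFinStalk2_helper7
import Groth.Agent.Lib.EtIntPush_helper7

/-!
# Stalks of `τ : j_! ⟶ j_*` (helper7)

`(j_! G)_η = ∐_v G_v ⟶ (j_* G)_η ⟶ G_{v'}` is the Kronecker delta; `τ` is a monomorphism for
`j` separated étale, an isomorphism for `j` finite étale.
-/

set_option autoImplicit false
set_option backward.isDefEq.respectTransparency false
set_option linter.style.haveILetI false
set_option linter.unusedSectionVars false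
universe u
open CategoryTheory CategoryTheory.Limits AlgebraicGeometry Opposite

namespace Groth.Agent.Lib.EtTraceH7

open Groth.Agent.Lib.EtSchSite_helper7 Groth.Agent.Lib.EtFinStalkH7 Groth.Agent.Lib.EtExcisionH7
  Groth.Agent.Lib.EtExcisionHH7 Groth.Agent.Lib.EtOpenShriek_helper7
  Groth.Agent.Lib.EtJCont_helper7 Groth.Agent.Lib.EtShriekStalk_helper7
  Groth.Agent.Lib.EtFinGeomH7

section Cat

theorem chain_aux {C : Type*} [Category C] {A0 A1 A2 A3 A4 A5 A6 : C} (t : A0 ⟶ A1)
    (a : A1 ⟶ A2) (M : A2 ⟶ A3) (ψ : A3 ⟶ A4) (w : A0 ⟶ A5) (t' : A5 ⟶ A2) (τc : A5 ⟶ A6)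
    (t'' : A6 ⟶ A3) (t''' : A6 ⟶ A4) (T : A0 ⟶ A6)
    (h1 : t ≫ a = w ≫ t') (h3 : t' ≫ M = τc ≫ t'') (h4 : t'' ≫ ψ = t''') (h5 : w ≫ τc = T) :
    t ≫ a ≫ M ≫ ψ = T ≫ t''' := by
  rw [← Category.assoc, h1, Category.assoc, ← Category.assoc t', h3, Category.assoc, h4,
    ← Category.assoc, h5]

end Cat

section Coprod

open DirectSum

variable {ι : Type u} (A : ι → AddCommGrpCat.{u + 1})

/-- the direct sum cofan -/
noncomputable def dsCofan [DecidableEq ι] : Cofan A :=
  Cofan.mk (AddCommGrpCat.of (⨁ i, A i)) (fun i => AddCommGrpCat.ofHom (DirectSum.of (fun i => A i) i))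

/-- the direct sum is a coproduct -/
noncomputable def dsIsColimit [DecidableEq ι] : IsColimit (dsCofan A) :=
  Cofan.IsColimit.mk (dsCofan A)
    (fun s => AddCommGrpCat.ofHom (DirectSum.toAddMonoid (fun i => (s.inj i).hom)))
    (fun s i => by
      ext x
      exact DirectSum.toAddMonoid_of (fun i => (s.inj i).hom) i x)
    (fun s m hm => by
      ext x
      refine DFunLike.congr_fun (DirectSum.addHom_ext (f := m.hom)
        (g := DirectSum.toAddMonoid (fun i => (s.inj i).hom)) ?_) x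
      intro i y
      have h1 := congrArg (fun (k : A i ⟶ s.pt) => k y) (hm i)
      exact h1.trans (DirectSum.toAddMonoid_of (fun i => (s.inj i).hom) i y).symm)

open Classical in
/-- the projection of a coproduct onto a summand -/
noncomputable def sigmaProj (i₀ : ι) : (∐ A) ⟶ A i₀ :=
  Sigma.desc (fun i => if h : i = i₀ then eqToHom (congrArg A h) else 0)

open Classical in
theorem ι_sigmaProj_same (i₀ : ι) : Sigma.ι A i₀ ≫ sigmaProj A i₀ = 𝟙 _ := by
  rw [sigmaProj, Sigma.ι_desc, dif_pos rfl]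
  rfl

open Classical in
theorem ι_sigmaProj_diff (i i₀ : ι) (h : i ≠ i₀) : Sigma.ι A i ≫ sigmaProj A i₀ = 0 := by
  rw [sigmaProj, Sigma.ι_desc, dif_neg h]

open Classical in
theorem sigmaProj_jointly_injective (z : ToType (∐ A)) (hz : ∀ i₀, sigmaProj A i₀ z = 0) :
    z = 0 := by
  let e : ∐ A ≅ AddCommGrpCat.of (⨁ i, A i) :=
    (colimit.isColimit _).coconePointUniqueUpToIso (dsIsColimit A)
  have he : ∀ i, Sigma.ι A i ≫ e.hom = AddCommGrpCat.ofHom (DirectSum.of (fun i => A i) i) := by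
    intro i
    exact (colimit.isColimit _).comp_coconePointUniqueUpToIso_hom (dsIsColimit A) ⟨i⟩
  have hp : ∀ i₀, sigmaProj A i₀ = e.hom ≫
      AddCommGrpCat.ofHom (DFinsupp.evalAddMonoidHom (β := fun i => A i) i₀) := by
    intro i₀
    apply Sigma.hom_ext
    intro i
    rw [← Category.assoc, he]
    by_cases h : i = i₀
    · subst h
      rw [ι_sigmaProj_same]
      ext x
      exact (DirectSum.of_eq_same (β := fun i => A i) i x).symm
    · rw [ι_sigmaProj_diff A i i₀ h]
      ext x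
      exact (DirectSum.of_eq_of_ne (β := fun i => A i) i i₀ x (fun h' => h h'.symm)).symm
  have h0 : e.hom z = 0 := by
    apply DFinsupp.ext
    intro i₀
    have := hz i₀
    rw [hp i₀] at this
    exact this
  have h1 : e.inv (e.hom z) = z :=
    congrArg (fun (k : ∐ A ⟶ ∐ A) => k z) e.hom_inv_id
  rw [← h1, h0, map_zero]

end Coprod

section Stalk

variable {U X : Scheme.{u}} (j : U ⟶ X) [Etale j] [IsSeparated j]
  {Ω : Type u} [Field Ω] [IsAlgClosed Ω] (η : Spec (CommRingCat.of Ω) ⟶ X)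

theorem germ_chain (G : EtCoh.Ab U) (v v' : Lift j η) (V : U.Etale)
    (y : (Scheme.pointSmallEtale v.1).fiber.obj V) :
    (Scheme.pointSmallEtale v.1).toPresheafFiber V y G.obj ≫ a j η G v ≫
      (Scheme.pointSmallEtale η).presheafFiber.map ((tau j).app G).hom ≫ psi j G v'.1 v'.2 =
    tauSec j G V ≫ (Scheme.pointSmallEtale v'.1).toPresheafFiber (Bg j V)
      (liftPt j v'.1 v'.2 ((EtShriek.compEtale j).obj V) (incl j η v V y)) G.obj := by
  have h1 : (Scheme.pointSmallEtale v.1).toPresheafFiber V y G.obj ≫ a j η G v =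
      ((EtShriek.extZeroAdj j).unit.app G).hom.app (op V) ≫
        (Scheme.pointSmallEtale η).toPresheafFiber ((EtShriek.compEtale j).obj V)
          (incl j η v V y) ((EtShriek.extZero j).obj G).obj := toPF_a j η G v V y
  have h3 := (Scheme.pointSmallEtale η).toPresheafFiber_naturality ((tau j).app G).hom
    ((EtShriek.compEtale j).obj V) (incl j η v V y)
  have h4 := germ_psi j G v'.1 v'.2 ((EtShriek.compEtale j).obj V) (incl j η v V y)
  have h5 : ((EtShriek.extZeroAdj j).unit.app G).hom.app (op V) ≫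
      ((tau j).app G).hom.app (op ((EtShriek.compEtale j).obj V)) = tauSec j G V :=
    congrArg (fun (m : G ⟶ (EtShriek.restrAlong j).obj ((EtCoh.push j).obj G)) =>
      m.hom.app (op V)) (unit_tau j G)
  exact chain_aux _ _ _ _ _ _ _ _ _ _ h1 h3 h4 h5

theorem liftPt_incl_same (v : Lift j η) (V : U.Etale)
    (y : (Scheme.pointSmallEtale v.1).fiber.obj V) :
    liftPt j v.1 v.2 ((EtShriek.compEtale j).obj V) (incl j η v V y) =
      (Scheme.pointSmallEtale v.1).fiber.map (gam j V) y := by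
  apply ptLeft_ext
  apply bc_hom_ext j ((EtShriek.compEtale j).obj V)
  · rw [liftPt_pr₁]
    have e : ptLeft ((Scheme.pointSmallEtale v.1).fiber.map (gam j V) y) ≫
        pr₁ j ((EtShriek.compEtale j).obj V) = ptLeft y ≫ (gam j V).left ≫
          pullback.fst (V.hom ≫ j) j := Category.assoc _ _ _
    rw [e, gam_fst, Category.comp_id]
    rfl
  · rw [liftPt_hom]
    have e : ptLeft ((Scheme.pointSmallEtale v.1).fiber.map (gam j V) y) ≫
        ((EtCoh.bc j).obj ((EtShriek.compEtale j).obj V)).hom = ptLeft y ≫ (gam j V).left ≫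
          pullback.snd (V.hom ≫ j) j := Category.assoc _ _ _
    rw [e, gam_snd]
    exact (ptLeft_hom y).symm

theorem key_same (G : EtCoh.Ab U) (v : Lift j η) :
    a j η G v ≫ (Scheme.pointSmallEtale η).presheafFiber.map ((tau j).app G).hom ≫
      psi j G v.1 v.2 = 𝟙 _ := by
  apply (Scheme.pointSmallEtale v.1).presheafFiber_hom_ext
  intro V y
  refine (germ_chain j η G v v V y).trans ?_
  have h : tauSec j G V ≫ G.obj.map (gam j V).op = 𝟙 _ := by
    ext s
    exact ext0_γ G (gam j V) (isClosed_range_gam j V) s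
  have h2 : (Scheme.pointSmallEtale v.1).toPresheafFiber (Bg j V)
      (liftPt j v.1 v.2 ((EtShriek.compEtale j).obj V) (incl j η v V y)) G.obj =
      G.obj.map (gam j V).op ≫ (Scheme.pointSmallEtale v.1).toPresheafFiber V y G.obj := by
    rw [liftPt_incl_same]
    exact ((Scheme.pointSmallEtale v.1).toPresheafFiber_w (gam j V) y G.obj).symm
  rw [h2, ← Category.assoc, h, Category.id_comp]
  exact (Category.comp_id _).symm

theorem key_diff (G : EtCoh.Ab U) (v v' : Lift j η) (hv : v ≠ v') :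
    a j η G v ≫ (Scheme.pointSmallEtale η).presheafFiber.map ((tau j).app G).hom ≫
      psi j G v'.1 v'.2 = 0 := by
  apply (Scheme.pointSmallEtale v.1).presheafFiber_hom_ext
  intro V y
  refine (germ_chain j η G v v' V y).trans ?_
  refine Eq.trans ?_ comp_zero.symm
  obtain ⟨p, hp⟩ : ∃ p : (Scheme.pointSmallEtale v'.1).fiber.obj (Bg j V),
      p = liftPt j v'.1 v'.2 ((EtShriek.compEtale j).obj V) (incl j η v V y) := ⟨_, rfl⟩
  rw [← hp]
  have hp1 : ptLeft p ≫ pullback.fst (V.hom ≫ j) j = ptLeft y := by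
    rw [hp]
    exact liftPt_pr₁ j v'.1 v'.2 ((EtShriek.compEtale j).obj V) (incl j η v V y)
  have hp2 : ptLeft p ≫ pullback.snd (V.hom ≫ j) j = v'.1 := by
    rw [hp]
    exact liftPt_hom j v'.1 v'.2 ((EtShriek.compEtale j).obj V) (incl j η v V y)
  -- the point `p` does not lie on the graph
  have hnot : (ptLeft p) (default : ↥(Spec (CommRingCat.of Ω))) ∉ Set.range (gam j V).left := by
    intro hmem
    have hr : Set.range (ptLeft p) ⊆ Set.range (gam j V).left := by
      rintro _ ⟨pt, rfl⟩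
      rw [Subsingleton.elim pt default]
      exact hmem
    obtain ⟨q, hq⟩ : ∃ q : Spec (CommRingCat.of Ω) ⟶ V.left, q ≫ (gam j V).left = ptLeft p :=
      ⟨IsOpenImmersion.lift (gam j V).left (ptLeft p) hr, IsOpenImmersion.lift_fac _ _ _⟩
    have hq1 : q = ptLeft y := by
      have := congrArg (fun m => m ≫ pullback.fst (V.hom ≫ j) j) hq
      simp only [Category.assoc, gam_fst, Category.comp_id] at this
      exact this.trans hp1
    have hq2 : q ≫ V.hom = v'.1 := by
      have := congrArg (fun m => m ≫ pullback.snd (V.hom ≫ j) j) hq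
      simp only [Category.assoc, gam_snd] at this
      exact this.trans hp2
    apply hv
    apply Subtype.ext
    rw [← hq2, hq1]
    exact (ptLeft_hom y).symm
  obtain ⟨Oc, hOcm⟩ : ∃ Oc : (Bg j V).left.Opens,
      ∀ b : (Bg j V).left, b ∈ Oc ↔ b ∉ Set.range (gam j V).left :=
    ⟨⟨(Set.range (gam j V).left)ᶜ, (isClosed_range_gam j V).isOpen_compl⟩, fun b => Iff.rfl⟩
  have hr : Set.range (ptLeft p) ⊆ Set.range Oc.ι := by
    rintro _ ⟨pt, rfl⟩
    rw [Subsingleton.elim pt default, Scheme.Opens.range_ι]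
    exact (hOcm _).2 hnot
  obtain ⟨l, hl⟩ : ∃ l : Spec (CommRingCat.of Ω) ⟶ (subE (Bg j V) Oc).left,
      l ≫ Oc.ι = ptLeft p := ⟨IsOpenImmersion.lift Oc.ι (ptLeft p) hr, IsOpenImmersion.lift_fac _ _ _⟩
  have hlw : l ≫ (subE (Bg j V) Oc).hom = v'.1 := by
    show l ≫ Oc.ι ≫ (Bg j V).hom = v'.1
    rw [← Category.assoc, hl]
    exact ptLeft_hom p
  obtain ⟨p', hp'⟩ : ∃ p' : (Scheme.pointSmallEtale v'.1).fiber.obj (subE (Bg j V) Oc),
      ptLeft p' = l := ⟨Over.homMk l hlw, rfl⟩
  have hpp : (Scheme.pointSmallEtale v'.1).fiber.map (subι (Bg j V) Oc) p' = p := by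
    apply ptLeft_ext
    rw [ptLeft_map, hp']
    exact hl
  rw [← hpp, ← (Scheme.pointSmallEtale v'.1).toPresheafFiber_w (subι (Bg j V) Oc) p' G.obj,
    ← Category.assoc]
  have h : tauSec j G V ≫ G.obj.map (subι (Bg j V) Oc).op = 0 := by
    ext s
    refine ext0_off G (gam j V) (isClosed_range_gam j V) s _ (subι (Bg j V) Oc) ?_
    intro z
    have hz : Oc.ι z ∈ Oc := z.2
    exact (hOcm _).1 hz
  rw [h, zero_comp]

open Classical in
theorem sigma_tau_psi (G : EtCoh.Ab U) (v' : Lift j η) :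
    sigmaToStalk j η G ≫ (Scheme.pointSmallEtale η).presheafFiber.map ((tau j).app G).hom ≫
      psi j G v'.1 v'.2 = sigmaProj (fun v : Lift j η => (EtCoh.stalk v.1).obj G) v' := by
  apply Sigma.hom_ext
  intro v
  have h0 : Sigma.ι (fun v : Lift j η => (EtCoh.stalk v.1).obj G) v ≫ sigmaToStalk j η G =
      a j η G v := Sigma.ι_desc _ _
  rw [← Category.assoc, h0]
  by_cases h : v = v'
  · subst h
    rw [key_same, ι_sigmaProj_same]
  · rw [key_diff j η G v v' h, ι_sigmaProj_diff _ v v' h]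

theorem stalk_tau_injective (G : EtCoh.Ab U) :
    Function.Injective ((EtCoh.stalk η).map ((tau j).app G)) := by
  haveI := isIso_sigmaToStalk j η G
  rw [injective_iff_map_eq_zero]
  intro x hx
  obtain ⟨z, hz⟩ : ∃ z, sigmaToStalk j η G z = x :=
    (ConcreteCategory.bijective_of_isIso (sigmaToStalk j η G)).2 x
  have hz0 : z = 0 := by
    apply sigmaProj_jointly_injective
    intro v'
    rw [← sigma_tau_psi j η G v']
    show psi j G v'.1 v'.2 ((Scheme.pointSmallEtale η).presheafFiber.map ((tau j).app G).hom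
      (sigmaToStalk j η G z)) = 0
    rw [hz]
    have hx' : (Scheme.pointSmallEtale η).presheafFiber.map ((tau j).app G).hom x = 0 := hx
    rw [hx', map_zero]
  rw [← hz, hz0, map_zero]

end Stalk

section Mono

variable {U X : Scheme.{u}} (j : U ⟶ X) [Etale j] [IsSeparated j]

theorem mono_tau (G : EtCoh.Ab U) : Mono ((tau j).app G) :=
  Groth.Agent.Lib.EtIntH7.mono_of_algClosed _ (fun K _ _ η => stalk_tau_injective j η G)

theorem main650 : ∃ τ : EtShriek.extZero j ⟶ EtCoh.push j, ∀ F : EtCoh.Ab U, Mono (τ.app F) :=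
  ⟨tau j, mono_tau j⟩

end Mono

end Groth.Agent.Lib.EtTraceH7
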