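import Mathlib
import Groth.Agent.Lib.EtTrace2_helper7
import Groth.Agent.Lib.EtPushVanish_helper7

/-!
# The trace of a finite étale morphism (helper7)

For `j` finite étale, `τ : j_! ⟶ j_*` is an isomorphism, hence `j_* ⊣ j^*`, and the composite
`F ⟶ j_* j^* F ⟶ F` of the unit with the trace (the counit) is multiplication by the number of
geometric points in the fibres.
-/

set_option autoImplicit false
set_option backward.isDefEq.respectTransparency false
set_option linter.style.haveILetI false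
set_option linter.unusedSectionVars false
universe u
open CategoryTheory CategoryTheory.Limits AlgebraicGeometry Opposite

namespace Groth.Agent.Lib.EtTraceH7

open Groth.Agent.Lib.EtSchSite_helper7 Groth.Agent.Lib.EtFinStalkH7 Groth.Agent.Lib.EtExcisionH7
  Groth.Agent.Lib.EtExcisionHH7 Groth.Agent.Lib.EtOpenShriek_helper7
  Groth.Agent.Lib.EtJCont_helper7 Groth.Agent.Lib.EtShriekStalk_helper7
  Groth.Agent.Lib.EtFinGeomH7 Groth.Agent.Lib.EtSchStalk_helper7

section General

variable {X : Scheme.{u}}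

theorem eq_zero_of_germs_alg (H : EtCoh.Ab X) (T : X.Etale) (s : H.obj.obj (op T))
    (h : ∀ (K : Type u) [Field K] [IsAlgClosed K] (η : Spec (CommRingCat.of K) ⟶ X)
      (l : (Scheme.pointSmallEtale η).fiber.obj T),
      (Scheme.pointSmallEtale η).toPresheafFiber T l H.obj s = 0) : s = 0 := by
  let R : Sieve T :=
    { arrows := fun W g => H.obj.map g.op s = 0
      downward_closed := by
        intro W W' g hg k
        have e : H.obj.map (k ≫ g).op = H.obj.map g.op ≫ H.obj.map k.op := by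
          rw [op_comp, Functor.map_comp]
        show H.obj.map (k ≫ g).op s = 0
        rw [e]
        show H.obj.map k.op (H.obj.map g.op s) = 0
        rw [hg, map_zero] }
  refine Sheaf.isSeparated H T R ?_ s 0 (fun W g hg => (show H.obj.map g.op s = 0 from hg).trans
    (map_zero _).symm)
  apply sieve_mem_of_forall_exists
  intro w
  obtain ⟨K, _, _, η, l, hl⟩ := exists_geometric_lift T w
  have h1 := h K η l
  obtain ⟨V, g, y, hy, heq⟩ := ((Scheme.pointSmallEtale η).toPresheafFiber_eq_iff' T l s 0).1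
    (h1.trans (map_zero _).symm)
  obtain ⟨v, hv⟩ := mem_range_of_map_eq g y l hy
  exact ⟨V, g, heq.trans (map_zero _), ⟨v, hv.trans hl⟩⟩

theorem hom_ext_of_stalks {F G : EtCoh.Ab X} (f g : F ⟶ G)
    (h : ∀ (K : Type u) [Field K] [IsAlgClosed K] (η : Spec (CommRingCat.of K) ⟶ X)
      (x : ToType ((Scheme.pointSmallEtale η).presheafFiber.obj F.obj)),
      (Scheme.pointSmallEtale η).presheafFiber.map f.hom x =
        (Scheme.pointSmallEtale η).presheafFiber.map g.hom x) : f = g := by
  ext V s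
  apply sub_eq_zero.1
  apply eq_zero_of_germs_alg G V.unop
  intro K _ _ η l
  rw [map_sub, sub_eq_zero]
  have h1 := (Scheme.pointSmallEtale η).toPresheafFiber_naturality_apply f.hom V.unop l s
  have h2 := (Scheme.pointSmallEtale η).toPresheafFiber_naturality_apply g.hom V.unop l s
  exact h1.symm.trans ((h K η _).trans h2)

theorem hom_sum {A B : AddCommGrpCat.{u + 1}} (T : A ⟶ B) {ι : Type*} (s : Finset ι)
    (f : ι → A) : T (∑ i ∈ s, f i) = ∑ i ∈ s, T (f i) := map_sum T.hom f s

theorem chain_aux2 {C : Type*} [Category C] {A0 A1 A2 A3 A4 : C} (t : A0 ⟶ A1) (a : A1 ⟶ A2)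
    (M : A2 ⟶ A3) (w : A0 ⟶ A4) (t' : A4 ⟶ A2) (c : A4 ⟶ A0) (t'' : A0 ⟶ A3)
    (h1 : t ≫ a = w ≫ t') (h2 : t' ≫ M = c ≫ t'') (h3 : w ≫ c = 𝟙 _) :
    t ≫ a ≫ M = t'' := by
  rw [← Category.assoc, h1, Category.assoc, h2, ← Category.assoc, h3, Category.id_comp]

theorem chain_aux3 {C : Type*} [Category C] {A0 A1 A2 A3 A4 : C} (t : A0 ⟶ A1) (M1 : A1 ⟶ A2)
    (ψ : A2 ⟶ A3) (N : A3 ⟶ A1) (w : A0 ⟶ A4) (t1 : A4 ⟶ A2) (t2 : A4 ⟶ A3) (t3 : A4 ⟶ A1)
    (h1 : t ≫ M1 = w ≫ t1) (h2 : t1 ≫ ψ = t2) (h3 : t2 ≫ N = t3) (h4 : w ≫ t3 = t) :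
    t ≫ M1 ≫ ψ ≫ N = t ≫ 𝟙 _ := by
  rw [← Category.assoc, h1, Category.assoc, ← Category.assoc t1, h2, h3, h4, Category.comp_id]

instance additive_stalk {Ω : Type u} [Field Ω] [IsSepClosed Ω]
    (η : Spec (CommRingCat.of Ω) ⟶ X) : (EtCoh.stalk η).Additive := by
  haveI : PreservesBinaryBiproducts (EtCoh.stalk η) :=
    preservesBinaryBiproducts_of_preservesBinaryCoproducts _
  exact Functor.additive_of_preservesBinaryBiproducts _

end General

section Surj

variable {U X : Scheme.{u}} (j : U ⟶ X) [Etale j] [IsFinite j]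
  {Ω : Type u} [Field Ω] [IsAlgClosed Ω] (η : Spec (CommRingCat.of Ω) ⟶ X)

theorem tau_sum (G : EtCoh.Ab U) [Fintype (Lift j η)]
    (y : ToType ((Scheme.pointSmallEtale η).presheafFiber.obj ((EtCoh.push j).obj G).obj)) :
    (Scheme.pointSmallEtale η).presheafFiber.map ((tau j).app G).hom
      (∑ v : Lift j η, a j η G v (psi j G v.1 v.2 y)) = y := by
  classical
  apply (psiPi_bijective j G η).1
  funext v'
  rw [psiPi_apply, psiPi_apply, hom_sum, hom_sum, Finset.sum_eq_single v']
  · exact congrArg (fun k => k (psi j G v'.1 v'.2 y)) (key_same j η G v')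
  · intro v _ hv
    exact congrArg (fun k => k (psi j G v.1 v.2 y)) (key_diff j η G v v' hv)
  · intro h
    exact absurd (Finset.mem_univ _) h

theorem stalk_tau_surjective (G : EtCoh.Ab U) :
    Function.Surjective ((EtCoh.stalk η).map ((tau j).app G)) := by
  intro y
  haveI : Finite (Lift j η) := finite_points j η
  letI : Fintype (Lift j η) := Fintype.ofFinite _
  exact ⟨_, tau_sum j η G y⟩

end Surj

section Trace

variable {U X : Scheme.{u}} (j : U ⟶ X) [Etale j] [IsFinite j]

theorem epi_tau (G : EtCoh.Ab U) : Epi ((tau j).app G) :=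
  Groth.Agent.Lib.EtIntH7.epi_of_algClosed _ (fun _ _ _ η => stalk_tau_surjective j η G)

instance isIso_tau_app (G : EtCoh.Ab U) : IsIso ((tau j).app G) := by
  haveI := mono_tau j G
  haveI := epi_tau j G
  exact isIso_of_mono_of_epi _

instance isIso_tau : IsIso (tau j) := NatIso.isIso_of_isIso_app _

/-- `j_! ≅ j_*` for a finite étale morphism. -/
noncomputable def tauIso : EtShriek.extZero j ≅ EtCoh.push j := asIso (tau j)

/-- the trace `j_* j^* F ⟶ F` -/
noncomputable def tr (F : EtCoh.Ab X) :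
    (EtCoh.push j).obj ((EtShriek.restrAlong j).obj F) ⟶ F :=
  inv ((tau j).app ((EtShriek.restrAlong j).obj F)) ≫ (EtShriek.extZeroAdj j).counit.app F

theorem restrPush_unit_apply (F : EtCoh.Ab X) (A : X.Etale) (s : F.obj.obj (op A)) :
    ((restrPushAdj j).unit.app F).hom.app (op A) s =
      F.obj.map ((compBcAdj j).counit.app A).op s := by
  simp [restrPushAdj, Adjunction.sheafPushforwardContinuous]
  rfl

theorem restrPush_unit_app (F : EtCoh.Ab X) (A : X.Etale) :
    ((restrPushAdj j).unit.app F).hom.app (op A) =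
      F.obj.map ((compBcAdj j).counit.app A).op := by
  ext s
  exact restrPush_unit_apply j F A s

variable {Ω : Type u} [Field Ω] [IsAlgClosed Ω] (η : Spec (CommRingCat.of Ω) ⟶ X)

theorem toPF_cc (F : EtCoh.Ab X) (v : Lift j η) (V : U.Etale)
    (y : (Scheme.pointSmallEtale v.1).fiber.obj V) :
    (Scheme.pointSmallEtale v.1).toPresheafFiber V y ((EtShriek.restrAlong j).obj F).obj ≫
      a j η ((EtShriek.restrAlong j).obj F) v ≫
        (Scheme.pointSmallEtale η).presheafFiber.map
          ((EtShriek.extZeroAdj j).counit.app F).hom =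
    (Scheme.pointSmallEtale η).toPresheafFiber ((EtShriek.compEtale j).obj V)
      (incl j η v V y) F.obj := by
  have h1 : (Scheme.pointSmallEtale v.1).toPresheafFiber V y
      ((EtShriek.restrAlong j).obj F).obj ≫ a j η ((EtShriek.restrAlong j).obj F) v =
      ((EtShriek.extZeroAdj j).unit.app ((EtShriek.restrAlong j).obj F)).hom.app (op V) ≫
        (Scheme.pointSmallEtale η).toPresheafFiber ((EtShriek.compEtale j).obj V)
          (incl j η v V y)
          ((EtShriek.extZero j).obj ((EtShriek.restrAlong j).obj F)).obj :=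
    toPF_a j η ((EtShriek.restrAlong j).obj F) v V y
  have h2 := (Scheme.pointSmallEtale η).toPresheafFiber_naturality
    ((EtShriek.extZeroAdj j).counit.app F).hom ((EtShriek.compEtale j).obj V) (incl j η v V y)
  have h3 : ((EtShriek.extZeroAdj j).unit.app ((EtShriek.restrAlong j).obj F)).hom.app (op V) ≫
      ((EtShriek.extZeroAdj j).counit.app F).hom.app (op ((EtShriek.compEtale j).obj V)) =
      𝟙 _ :=
    congrArg (fun (m : (EtShriek.restrAlong j).obj F ⟶ (EtShriek.restrAlong j).obj F) =>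
      m.hom.app (op V)) ((EtShriek.extZeroAdj j).right_triangle_components F)
  exact chain_aux2 _ _ _ _ _ _ _ h1 h2 h3

theorem counit_incl_liftPt (v : Lift j η) (A : X.Etale)
    (l : (Scheme.pointSmallEtale η).fiber.obj A) :
    (Scheme.pointSmallEtale η).fiber.map ((compBcAdj j).counit.app A)
      (incl j η v ((EtCoh.bc j).obj A) (liftPt j v.1 v.2 A l)) = l := by
  apply ptLeft_ext
  exact liftPt_pr₁ j v.1 v.2 A l

theorem unit_psi_cc (F : EtCoh.Ab X) (v : Lift j η) :
    (Scheme.pointSmallEtale η).presheafFiber.map ((restrPushAdj j).unit.app F).hom ≫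
      psi j ((EtShriek.restrAlong j).obj F) v.1 v.2 ≫
        a j η ((EtShriek.restrAlong j).obj F) v ≫
          (Scheme.pointSmallEtale η).presheafFiber.map
            ((EtShriek.extZeroAdj j).counit.app F).hom = 𝟙 _ := by
  apply (Scheme.pointSmallEtale η).presheafFiber_hom_ext
  intro A l
  have h1 := (Scheme.pointSmallEtale η).toPresheafFiber_naturality
    ((restrPushAdj j).unit.app F).hom A l
  have h2 := germ_psi j ((EtShriek.restrAlong j).obj F) v.1 v.2 A l
  have h3 := toPF_cc j η F v ((EtCoh.bc j).obj A) (liftPt j v.1 v.2 A l)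
  have h4 : ((restrPushAdj j).unit.app F).hom.app (op A) ≫
      (Scheme.pointSmallEtale η).toPresheafFiber
        ((EtShriek.compEtale j).obj ((EtCoh.bc j).obj A))
        (incl j η v ((EtCoh.bc j).obj A) (liftPt j v.1 v.2 A l)) F.obj =
      (Scheme.pointSmallEtale η).toPresheafFiber A l F.obj := by
    rw [restrPush_unit_app]
    have h5 := (Scheme.pointSmallEtale η).toPresheafFiber_w ((compBcAdj j).counit.app A)
      (incl j η v ((EtCoh.bc j).obj A) (liftPt j v.1 v.2 A l)) F.obj
    rw [counit_incl_liftPt] at h5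
    exact h5
  exact chain_aux3 _ _ _ _ _ _ _ _ h1 h2 h3 h4

theorem stalk_unit_tr (F : EtCoh.Ab X) [Fintype (Lift j η)]
    (x : ToType ((Scheme.pointSmallEtale η).presheafFiber.obj F.obj)) :
    (Scheme.pointSmallEtale η).presheafFiber.map ((restrPushAdj j).unit.app F ≫ tr j F).hom x =
      Fintype.card (Lift j η) • x := by
  obtain ⟨G, hG⟩ : ∃ G : EtCoh.Ab U, G = (EtShriek.restrAlong j).obj F := ⟨_, rfl⟩
  have e1 : (Scheme.pointSmallEtale η).presheafFiber.map
      ((restrPushAdj j).unit.app F ≫ tr j F).hom =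
      (EtCoh.stalk η).map ((restrPushAdj j).unit.app F) ≫
        (EtCoh.stalk η).map (inv ((tau j).app ((EtShriek.restrAlong j).obj F))) ≫
          (EtCoh.stalk η).map ((EtShriek.extZeroAdj j).counit.app F) := by
    rw [← Functor.map_comp, ← Functor.map_comp]
    rfl
  have e2 : (EtCoh.stalk η).map ((tau j).app ((EtShriek.restrAlong j).obj F)) ≫
      (EtCoh.stalk η).map (inv ((tau j).app ((EtShriek.restrAlong j).obj F))) = 𝟙 _ := by
    rw [← Functor.map_comp, IsIso.hom_inv_id, CategoryTheory.Functor.map_id]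
  rw [e1]
  obtain ⟨y, hy⟩ : ∃ y, y = (EtCoh.stalk η).map ((restrPushAdj j).unit.app F) x := ⟨_, rfl⟩
  have e3 : (EtCoh.stalk η).map (inv ((tau j).app ((EtShriek.restrAlong j).obj F))) y =
      ∑ v : Lift j η, a j η ((EtShriek.restrAlong j).obj F) v
        (psi j ((EtShriek.restrAlong j).obj F) v.1 v.2 y) := by
    have h0 := tau_sum j η ((EtShriek.restrAlong j).obj F) y
    have h1 := congrArg (fun (k : (EtCoh.stalk η).obj ((EtShriek.extZero j).obj
      ((EtShriek.restrAlong j).obj F)) ⟶ (EtCoh.stalk η).obj ((EtShriek.extZero j).obj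
      ((EtShriek.restrAlong j).obj F))) => k (∑ v : Lift j η,
        a j η ((EtShriek.restrAlong j).obj F) v
        (psi j ((EtShriek.restrAlong j).obj F) v.1 v.2 y))) e2
    refine Eq.trans ?_ h1
    exact congrArg (fun z => (EtCoh.stalk η).map
      (inv ((tau j).app ((EtShriek.restrAlong j).obj F))) z) h0.symm
  show (EtCoh.stalk η).map ((EtShriek.extZeroAdj j).counit.app F)
    ((EtCoh.stalk η).map (inv ((tau j).app ((EtShriek.restrAlong j).obj F)))
      ((EtCoh.stalk η).map ((restrPushAdj j).unit.app F) x)) = _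
  rw [← hy, e3, hom_sum]
  have e4 : ∀ v : Lift j η, (EtCoh.stalk η).map ((EtShriek.extZeroAdj j).counit.app F)
      (a j η ((EtShriek.restrAlong j).obj F) v
        (psi j ((EtShriek.restrAlong j).obj F) v.1 v.2 y)) = x := by
    intro v
    rw [hy]
    exact congrArg (fun (k : (Scheme.pointSmallEtale η).presheafFiber.obj F.obj ⟶
      (Scheme.pointSmallEtale η).presheafFiber.obj F.obj) => k x) (unit_psi_cc j η F v)
  rw [Finset.sum_congr rfl (fun v _ => e4 v), Finset.sum_const, Finset.card_univ]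

theorem unit_tr (d : ℕ)
    (hd : ∀ (Ω : Type u) [Field Ω] [IsAlgClosed Ω] (η : Spec (CommRingCat.of Ω) ⟶ X),
      Nat.card (Lift j η) = d) (F : EtCoh.Ab X) :
    (restrPushAdj j).unit.app F ≫ tr j F = d • 𝟙 F := by
  apply hom_ext_of_stalks
  intro K _ _ η x
  haveI : Finite (Lift j η) := finite_points j η
  letI : Fintype (Lift j η) := Fintype.ofFinite _
  rw [stalk_unit_tr j η F x, ← Nat.card_eq_fintype_card, hd K η]
  have e : (Scheme.pointSmallEtale η).presheafFiber.map (d • 𝟙 F).hom =
      d • 𝟙 ((EtCoh.stalk η).obj F) := by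
    have := (EtCoh.stalk η).map_nsmul (f := 𝟙 F) (n := d)
    rw [CategoryTheory.Functor.map_id] at this
    exact this
  rw [e]
  rfl

/-- The adjunction `j_* ⊣ j^*` for a finite étale morphism. -/
noncomputable def adjPP : EtCoh.push j ⊣ EtCoh.pull j :=
  ((EtShriek.extZeroAdj j).ofNatIsoLeft (tauIso j)).ofNatIsoRight (restrIsoPull j)

theorem adjPP_counit (F : EtCoh.Ab X) :
    (adjPP j).counit.app F = (EtCoh.push j).map ((restrIsoPull j).inv.app F) ≫ tr j F := by
  simp [adjPP, tr, tauIso]

theorem unit_adjPP_counit (F : EtCoh.Ab X) :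
    (EtCoh.pullPushAdj j).unit.app F ≫ (adjPP j).counit.app F =
      (restrPushAdj j).unit.app F ≫ tr j F := by
  rw [adjPP_counit, ← Category.assoc]
  congr 1
  have h := Adjunction.unit_leftAdjointUniq_hom_app (restrPushAdj j) (EtCoh.pullPushAdj j) F
  have h2 : (EtCoh.push j).map ((restrIsoPull j).hom.app F) ≫
      (EtCoh.push j).map ((restrIsoPull j).inv.app F) = 𝟙 _ := by
    rw [← Functor.map_comp, Iso.hom_inv_id_app, CategoryTheory.Functor.map_id]
  have h3 : (restrPushAdj j).unit.app F ≫ (EtCoh.push j).map ((restrIsoPull j).hom.app F) =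
      (EtCoh.pullPushAdj j).unit.app F := h
  rw [← h3, Category.assoc, h2]
  exact Category.comp_id _

theorem main_trace (d : ℕ)
    (hd : ∀ (Ω : Type u) [Field Ω] [IsAlgClosed Ω] (η : Spec (CommRingCat.of Ω) ⟶ X),
      Nat.card (Lift j η) = d) :
    ∃ adj : EtCoh.push j ⊣ EtCoh.pull j,
      ∀ F : EtCoh.Ab X, (EtCoh.pullPushAdj j).unit.app F ≫ adj.counit.app F = d • 𝟙 F :=
  ⟨adjPP j, fun F => (unit_adjPP_counit j F).trans (unit_tr j d hd F)⟩

end Trace

end Groth.Agent.Lib.EtTraceH7
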