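import Mathlib
import Groth.Prelude.Def_EtShriek2
import Groth.Agent.Lib.EtTrace3_helper7
import Groth.Agent.Lib.ProperOver_helper9
import Groth.Agent.Lib.SchImage_helper9

/-!
# Sections with proper support, part 1 (helper7)

Supports of sections; `ShriekPred` is `HasProperSupport`; the group of germs of sections with
proper support of `j_* F` for `j` separated étale; the image of `τ_η : (j_! F)_η ⟶ (j_* F)_η`
contains those germs.
-/

set_option autoImplicit false
set_option backward.isDefEq.respectTransparency false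
set_option linter.style.haveILetI false
set_option linter.unusedSectionVars false
universe u
open CategoryTheory CategoryTheory.Limits AlgebraicGeometry Opposite

namespace Groth.Agent.Lib.EtShriekH7

open Groth.Agent.Lib.EtSchSite_helper7 Groth.Agent.Lib.EtFinStalkH7
  Groth.Agent.Lib.EtFinGeomH7 Groth.Agent.Lib.EtSchStalk_helper7 ProperOver
  Groth.Agent.Lib.EtPushVanish_helper7 Groth.Agent.Lib.EtSchSupp_helper7
  Groth.Agent.Lib.EtShriekStalk_helper7 Groth.Agent.Lib.EtTraceH7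
  Groth.Agent.Lib.EtNbhdFinH4
open Groth.Agent.Lib.EtFlasque_helper7 (app_map_apply map_id_apply)

section Alg

theorem comp2_apply {A B C : AddCommGrpCat.{u + 1}} (f : A ⟶ B) (g : B ⟶ C) (k : A ⟶ C)
    (e : f ≫ g = k) (s : A) : g (f s) = k s := by
  rw [← e]
  rfl

theorem comp3_apply {A B C D : AddCommGrpCat.{u + 1}} (f : A ⟶ B) (g : B ⟶ C) (h : C ⟶ D)
    (k : A ⟶ D) (e : f ≫ g ≫ h = k) (s : A) : h (g (f s)) = k s := by
  rw [← e]
  rfl

theorem zero_hom_apply {A B : AddCommGrpCat.{u + 1}} (s : A) : (0 : A ⟶ B) s = 0 := rfl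

theorem id_hom_apply {A : AddCommGrpCat.{u + 1}} (s : A) : (𝟙 A : A ⟶ A) s = s := rfl

end Alg

section Supp

variable {X : Scheme.{u}} (F : EtCoh.Ab X)

theorem not_mem_sectSupp_iff (U : X.Etale) (s : EtCoh.sect F U) (x : U.left) :
    x ∉ EtShriek.sectSupp F U s ↔
      ∃ (W : X.Etale) (g : W ⟶ U), x ∈ Set.range g.left ∧ F.obj.map g.op s = 0 := by
  constructor
  · intro hx
    by_contra hcon
    apply hx
    intro W g hw h0
    obtain ⟨w, hw⟩ := hw
    exact hcon ⟨W, g, ⟨w, hw⟩, h0⟩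
  · rintro ⟨W, g, ⟨w, hw⟩, h0⟩ hx
    exact hx W g ⟨w, hw⟩ h0

theorem sectSupp_zero (U : X.Etale) : EtShriek.sectSupp F U (0 : EtCoh.sect F U) = ∅ := by
  ext x
  simp only [Set.mem_empty_iff_false, iff_false]
  rw [not_mem_sectSupp_iff]
  exact ⟨U, 𝟙 U, ⟨x, rfl⟩, map_zero _⟩

theorem sectSupp_neg (U : X.Etale) (s : EtCoh.sect F U) :
    EtShriek.sectSupp F U (-s) = EtShriek.sectSupp F U s := by
  ext x
  rw [← not_iff_not, not_mem_sectSupp_iff, not_mem_sectSupp_iff]
  constructor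
  · rintro ⟨W, g, hx, h0⟩
    refine ⟨W, g, hx, ?_⟩
    rw [map_neg, neg_eq_zero] at h0
    exact h0
  · rintro ⟨W, g, hx, h0⟩
    exact ⟨W, g, hx, by rw [map_neg, h0, neg_zero]⟩

theorem sectSupp_add_subset (U : X.Etale) (s t : EtCoh.sect F U) :
    EtShriek.sectSupp F U (s + t) ⊆ EtShriek.sectSupp F U s ∪ EtShriek.sectSupp F U t := by
  intro x hx
  by_contra hcon
  rw [Set.mem_union, not_or] at hcon
  obtain ⟨h1, h2⟩ := hcon
  rw [not_mem_sectSupp_iff] at h1 h2
  obtain ⟨W₁, g₁, ⟨w₁, hw₁⟩, h01⟩ := h1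
  obtain ⟨W₂, g₂, ⟨w₂, hw₂⟩, h02⟩ := h2
  obtain ⟨P, a, b, z, hab, haz, hbz⟩ := exists_prod g₁ g₂ w₁ w₂ (hw₁.trans hw₂.symm)
  refine (not_mem_sectSupp_iff F U (s + t) x).2 ⟨P, a ≫ g₁, ⟨z, ?_⟩, ?_⟩ hx
  · show g₁.left (a.left z) = x
    rw [haz]
    exact hw₁
  · have e1 : F.obj.map (a ≫ g₁).op s = 0 := by
      rw [map_comp_apply, h01, map_zero]
    have e2 : F.obj.map (a ≫ g₁).op t = 0 := by
      rw [hab, map_comp_apply, h02, map_zero]
    rw [map_add, e1, e2, add_zero]

theorem sectSupp_map_subset_preimage {A B : X.Etale} (k : A ⟶ B) (t : EtCoh.sect F B) :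
    EtShriek.sectSupp F A (F.obj.map k.op t) ⊆ k.left ⁻¹' EtShriek.sectSupp F B t := by
  intro x hx
  by_contra hcon
  have h1 : k.left x ∉ EtShriek.sectSupp F B t := hcon
  rw [not_mem_sectSupp_iff] at h1
  obtain ⟨W, g, ⟨w, hw⟩, h0⟩ := h1
  obtain ⟨P, a, b, z, hab, haz, hbz⟩ := exists_prod k g x w hw.symm
  refine (not_mem_sectSupp_iff F A _ x).2 ⟨P, a, ⟨z, haz⟩, ?_⟩ hx
  rw [← map_comp_apply, hab, map_comp_apply, h0, map_zero]

end Supp

section Pred

variable {X Y : Scheme.{u}} (f : X ⟶ Y) [LocallyOfFiniteType f] (F : EtCoh.Ab X)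

theorem hasProperSupport_map {V V' : Y.Etale} (φ : V' ⟶ V)
    (t : EtCoh.sect F ((EtCoh.bc f).obj V))
    (h : EtShriek.HasProperSupport F ((EtCoh.bc f).obj V) t (EtShriek.prV f V)) :
    EtShriek.HasProperSupport F ((EtCoh.bc f).obj V')
      (F.obj.map ((EtCoh.bc f).map φ).op t) (EtShriek.prV f V') := by
  obtain ⟨Z, hZ, hp⟩ := h
  refine ⟨((EtCoh.bc f).map φ).left ⁻¹' Z, ?_, ?_⟩
  · exact (sectSupp_map_subset_preimage F _ t).trans (Set.preimage_mono hZ)
  · haveI : LocallyOfFiniteType (EtShriek.prV f V) :=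
      inferInstanceAs (LocallyOfFiniteType (pullback.fst V.hom f))
    exact isProperOver_preimage_of_isPullback (EtShriek.prV f V) φ.left
      ((EtCoh.bc f).map φ).left (EtShriek.prV f V') (EtCoh.isPullback_bc_map f φ) Z hp

theorem shriekPred_iff (V : Y.Etale) (t : EtCoh.sect F ((EtCoh.bc f).obj V)) :
    EtShriek.ShriekPred f F V t ↔
      EtShriek.HasProperSupport F ((EtCoh.bc f).obj V) t (EtShriek.prV f V) := by
  constructor
  · intro h
    have h1 := h V (𝟙 V)
    rw [CategoryTheory.Functor.map_id] at h1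
    rwa [map_id_apply] at h1
  · intro h V' φ
    exact hasProperSupport_map f F φ t h

theorem shriekPred_zero (V : Y.Etale) :
    EtShriek.ShriekPred f F V (0 : EtCoh.sect F ((EtCoh.bc f).obj V)) := by
  rw [shriekPred_iff]
  refine ⟨∅, ?_, isProperOver_empty _⟩
  rw [sectSupp_zero]

theorem shriekPred_neg (V : Y.Etale) (t : EtCoh.sect F ((EtCoh.bc f).obj V))
    (ht : EtShriek.ShriekPred f F V t) : EtShriek.ShriekPred f F V (-t) := by
  rw [shriekPred_iff] at ht ⊢
  obtain ⟨Z, hZ, hp⟩ := ht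
  refine ⟨Z, ?_, hp⟩
  rw [sectSupp_neg]
  exact hZ

theorem shriekPred_add (V : Y.Etale) (t t' : EtCoh.sect F ((EtCoh.bc f).obj V))
    (ht : EtShriek.ShriekPred f F V t) (ht' : EtShriek.ShriekPred f F V t') :
    EtShriek.ShriekPred f F V (t + t') := by
  rw [shriekPred_iff] at ht ht' ⊢
  obtain ⟨Z, hZ, hp⟩ := ht
  obtain ⟨Z', hZ', hp'⟩ := ht'
  haveI : LocallyOfFiniteType (EtShriek.prV f V) :=
    inferInstanceAs (LocallyOfFiniteType (pullback.fst V.hom f))
  refine ⟨Z ∪ Z', ?_, isProperOver_union _ hp hp'⟩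
  exact (sectSupp_add_subset F _ t t').trans (Set.union_subset_union hZ hZ')

theorem shriekPred_sub (V : Y.Etale) (t t' : EtCoh.sect F ((EtCoh.bc f).obj V))
    (ht : EtShriek.ShriekPred f F V t) (ht' : EtShriek.ShriekPred f F V t') :
    EtShriek.ShriekPred f F V (t - t') := by
  rw [sub_eq_add_neg]
  exact shriekPred_add f F V t (-t') ht (shriekPred_neg f F V t' ht')

/-- the sections with proper support form a subgroup -/
def predSubgroup (V : Y.Etale) : AddSubgroup (EtCoh.sect F ((EtCoh.bc f).obj V)) where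
  carrier := {t | EtShriek.ShriekPred f F V t}
  add_mem' := fun {a b} ha hb => shriekPred_add f F V a b ha hb
  zero_mem' := shriekPred_zero f F V
  neg_mem' := fun {a} ha => shriekPred_neg f F V a ha

theorem mem_shriekSubgroup_iff (V : Y.Etale) (t : EtCoh.sect F ((EtCoh.bc f).obj V)) :
    t ∈ EtShriek.shriekSubgroup f F V ↔ EtShriek.ShriekPred f F V t := by
  constructor
  · intro h
    have hle : EtShriek.shriekSubgroup f F V ≤ predSubgroup f F V :=
      (AddSubgroup.closure_le (predSubgroup f F V)).2 (fun t ht => ht)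
    exact hle h
  · intro h
    exact AddSubgroup.subset_closure h

end Pred

section K

variable {X Y : Scheme.{u}} (f : X ⟶ Y) {Ω : Type u} [Field Ω] [IsAlgClosed Ω]

/-- Every point of `U ×_Y X` over the image of `u` is the image of a geometric point `(u, ξ)`. -/
theorem exists_point_over' [LocallyQuasiFinite f] {η : Spec (CommRingCat.of Ω) ⟶ Y}
    (U : Y.Etale) (u : (Scheme.pointSmallEtale η).fiber.obj U) (p : ((EtCoh.bc f).obj U).left)
    (hp : pr₁ f U p = ptLeft u default) :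
    ∃ (ξ : Spec (CommRingCat.of Ω) ⟶ X) (hξ : ξ ≫ f = η),
      ptLeft (liftPt f ξ hξ U u) default = p := by
  haveI : LocallyQuasiFinite (pr₁ f U) :=
    inferInstanceAs (LocallyQuasiFinite (pullback.fst U.hom f))
  have hq : (pr₁ f U).QuasiFiniteAt p := Scheme.Hom.quasiFiniteAt (pr₁ f U) p
  obtain ⟨l, hl1, hl2⟩ := exists_lift_of_finite (pr₁ f U) (ptLeft u) p hp.symm
    (finite_residueFieldMap _ p hq)
  have hξ : (l ≫ ((EtCoh.bc f).obj U).hom) ≫ f = η := by
    rw [Category.assoc, ← pr₁_hom, ← Category.assoc, hl1]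
    exact Over.w u
  refine ⟨l ≫ ((EtCoh.bc f).obj U).hom, hξ, ?_⟩
  have h3 : ptLeft (liftPt f _ hξ U u) = l := by
    apply bc_hom_ext f U
    · rw [liftPt_pr₁, hl1]
    · rw [liftPt_hom]
  rw [h3]
  exact hl2

/-- Shrinking `U` so that `U' ×_Y X` lands in a given open neighbourhood of the fibre over `u`,
when the image of the complement is closed. -/
theorem exists_shrink' {η : Spec (CommRingCat.of Ω) ⟶ Y} (U : Y.Etale)
    (u : (Scheme.pointSmallEtale η).fiber.obj U) (W : ((EtCoh.bc f).obj U).left.Opens)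
    (hcl : IsClosed ((pr₁ f U) '' (W : Set ((EtCoh.bc f).obj U).left)ᶜ))
    (hW : ∀ p : ((EtCoh.bc f).obj U).left, pr₁ f U p = ptLeft u default → p ∈ W) :
    ∃ (U' : Y.Etale) (t : U' ⟶ U) (u' : (Scheme.pointSmallEtale η).fiber.obj U'),
      (Scheme.pointSmallEtale η).fiber.map t u' = u ∧
      Set.range ((EtCoh.bc f).map t).left ⊆ (W : Set ((EtCoh.bc f).obj U).left) := by
  let O' : U.left.Opens := ⟨((pr₁ f U) '' (W : Set ((EtCoh.bc f).obj U).left)ᶜ)ᶜ,
    hcl.isOpen_compl⟩
  haveI : Etale (O'.ι ≫ U.hom) := inferInstance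
  let U' : Y.Etale := Scheme.Etale.mk (O'.ι ≫ U.hom)
  let t : U' ⟶ U := MorphismProperty.Over.homMk O'.ι rfl trivial
  obtain ⟨ul, hul⟩ : ∃ ul : Spec (CommRingCat.of Ω) ⟶ U.left, ul = u.left := ⟨_, rfl⟩
  have hrange : Set.range ul ⊆ Set.range O'.ι := by
    rintro _ ⟨a, rfl⟩
    rw [Subsingleton.elim a default, Scheme.Opens.range_ι]
    rintro ⟨y, hy, hy'⟩
    exact hy (hW y (hy'.trans (by rw [hul])))
  have hw : IsOpenImmersion.lift O'.ι ul hrange ≫ (O'.ι ≫ U.hom) = η := by
    rw [← Category.assoc, IsOpenImmersion.lift_fac, hul]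
    exact Over.w u
  refine ⟨U', t, Over.homMk (IsOpenImmersion.lift O'.ι ul hrange) hw, ?_, ?_⟩
  · apply Over.OverMorphism.ext
    exact (IsOpenImmersion.lift_fac _ _ _).trans hul
  · rintro _ ⟨y, rfl⟩
    by_contra hy
    have h1 : pr₁ f U (((EtCoh.bc f).map t).left y) = O'.ι (pr₁ f U' y) :=
      (Scheme.Hom.comp_apply _ _ _).symm.trans
        ((congrArg (fun (m : ((EtCoh.bc f).obj U').left ⟶ U.left) => m y) (map_pr₁ f t)).trans
          (Scheme.Hom.comp_apply _ _ _))
    have h2 : O'.ι (pr₁ f U' y) ∈ Set.range O'.ι := ⟨_, rfl⟩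
    rw [Scheme.Opens.range_ι, ← h1] at h2
    exact h2 ⟨_, hy, rfl⟩

theorem germ_eq_zero_of_psi [LocallyQuasiFinite f] (F : EtCoh.Ab X)
    {η : Spec (CommRingCat.of Ω) ⟶ Y} (U : Y.Etale)
    (u : (Scheme.pointSmallEtale η).fiber.obj U)
    (s : ToType (F.obj.obj (op ((EtCoh.bc f).obj U))))
    (hcl : IsClosed ((pr₁ f U) '' (EtShriek.sectSupp F ((EtCoh.bc f).obj U) s)))
    (hx : ∀ (ξ : Spec (CommRingCat.of Ω) ⟶ X) (hξ : ξ ≫ f = η),
      psi f F ξ hξ ((Scheme.pointSmallEtale η).toPresheafFiber U u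
        ((EtCoh.push f).obj F).obj s) = 0) :
    (Scheme.pointSmallEtale η).toPresheafFiber U u ((EtCoh.push f).obj F).obj s = 0 := by
  obtain ⟨W, hW⟩ := exists_opens_vanishing F ((EtCoh.bc f).obj U) s
  have hsupp : EtShriek.sectSupp F ((EtCoh.bc f).obj U) s =
      (W : Set ((EtCoh.bc f).obj U).left)ᶜ := by
    ext x
    constructor
    · intro hxs hxW
      refine hxs (subE ((EtCoh.bc f).obj U) W) (subι ((EtCoh.bc f).obj U) W)
        ⟨(⟨x, hxW⟩ : W.toScheme), rfl⟩ ((hW _ _).2 ?_)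
      rintro _ ⟨z, rfl⟩
      exact z.2
    · intro hxW W' g hw h0
      obtain ⟨w, hw⟩ := hw
      apply hxW
      rw [← hw]
      exact (hW W' g).1 h0 ⟨w, rfl⟩
  have hWfib : ∀ p : ((EtCoh.bc f).obj U).left, pr₁ f U p = ptLeft u default → p ∈ W := by
    intro p hp
    obtain ⟨ξ, hξ, hpξ⟩ := exists_point_over' f U u p hp
    have h0 := hx ξ hξ
    rw [psi_germ] at h0
    obtain ⟨V, g, v, hv, heq⟩ := ((Scheme.pointSmallEtale ξ).toPresheafFiber_eq_iff' _
      (liftPt f ξ hξ U u) s 0).1 (h0.trans (map_zero _).symm)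
    have hs0 : F.obj.map g.op s = 0 := heq.trans (map_zero _)
    have hsub := (hW V g).1 hs0
    rw [← hpξ, ← hv]
    exact hsub ⟨ptLeft v default, rfl⟩
  obtain ⟨U', t, u', hu', hrange⟩ := exists_shrink' f U u W (by rw [← hsupp]; exact hcl) hWfib
  have hs' : F.obj.map ((EtCoh.bc f).map t).op s = 0 := (hW _ ((EtCoh.bc f).map t)).2 hrange
  have h1 := (Scheme.pointSmallEtale η).toPresheafFiber_w_apply t u'
    ((EtCoh.push f).obj F).obj s
  rw [hu'] at h1
  rw [← h1]
  have h2 : ((EtCoh.push f).obj F).obj.map t.op s = 0 := hs'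
  rw [h2, map_zero]

end K

section Red

theorem exists_lift_of_reduced' {T X : Scheme.{u}} [IsReduced T] (g : T ⟶ X) {C : Set X}
    (hC : IsClosed C) (h : Set.range g ⊆ C) :
    ∃ g' : T ⟶ red C hC, g' ≫ redι C hC = g := by
  have hle : (redι C hC).ker ≤ g.ker := by
    rw [Scheme.IdealSheafData.ker_subschemeι,
      Groth.Agent.Lib.SchImage_helper9.ker_eq_vanishingIdeal g]
    apply Scheme.IdealSheafData.vanishingIdeal_antimono
    intro z hz
    exact (hC.closure_subset_iff.mpr h) hz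
  exact ⟨IsClosedImmersion.lift (redι C hC) g hle, IsClosedImmersion.lift_fac _ _ _⟩

end Red

section Tau

variable {U X : Scheme.{u}} (j : U ⟶ X) [Etale j] [IsSeparated j] [EtShriek.JCont j]

theorem hasProperSupport_tauSec (F : EtCoh.Ab U) (V : U.Etale) (s : F.obj.obj (op V)) :
    EtShriek.HasProperSupport F (Bg j V) (tauSec j F V s)
      (EtShriek.prV j ((EtShriek.compEtale j).obj V)) := by
  haveI : IsSeparated (pullback.fst (V.hom ≫ j) j) := inferInstance
  haveI : IsClosedImmersion ((gam j V).left ≫ pullback.fst (V.hom ≫ j) j) := by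
    rw [gam_fst]
    infer_instance
  haveI : IsClosedImmersion (gam j V).left :=
    IsClosedImmersion.of_comp (gam j V).left (pullback.fst (V.hom ≫ j) j)
  refine ⟨Set.range (gam j V).left, ?_, ?_⟩
  · intro x hx
    by_contra hcon
    obtain ⟨Oc, hOcm⟩ : ∃ Oc : (Bg j V).left.Opens,
        ∀ b : (Bg j V).left, b ∈ Oc ↔ b ∉ Set.range (gam j V).left :=
      ⟨⟨(Set.range (gam j V).left)ᶜ, (isClosed_range_gam j V).isOpen_compl⟩, fun b => Iff.rfl⟩
    refine (not_mem_sectSupp_iff F _ _ x).2 ⟨subE (Bg j V) Oc, subι (Bg j V) Oc,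
      ⟨(⟨x, (hOcm x).2 hcon⟩ : Oc.toScheme), rfl⟩, ?_⟩ hx
    refine ext0_off F (gam j V) (isClosed_range_gam j V) s _ (subι (Bg j V) Oc) ?_
    intro z
    have hz : Oc.ι z ∈ Oc := z.2
    exact (hOcm _).1 hz
  · haveI : LocallyOfFiniteType (EtShriek.prV j ((EtShriek.compEtale j).obj V)) :=
      inferInstanceAs (LocallyOfFiniteType (pullback.fst (V.hom ≫ j) j))
    rw [isProperOver_iff_of_closedImmersion (EtShriek.prV j ((EtShriek.compEtale j).obj V))
      (gam j V).left rfl]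
    have e : (gam j V).left ≫ EtShriek.prV j ((EtShriek.compEtale j).obj V) = 𝟙 _ := gam_fst j V
    rw [e]
    infer_instance

variable {Ω : Type u} [Field Ω] [IsAlgClosed Ω] (η : Spec (CommRingCat.of Ω) ⟶ X)

theorem exists_common (V₁ V₂ : X.Etale) (y₁ : (Scheme.pointSmallEtale η).fiber.obj V₁)
    (y₂ : (Scheme.pointSmallEtale η).fiber.obj V₂) :
    ∃ (P : X.Etale) (p₁ : P ⟶ V₁) (p₂ : P ⟶ V₂) (y : (Scheme.pointSmallEtale η).fiber.obj P),
      (Scheme.pointSmallEtale η).fiber.map p₁ y = y₁ ∧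
        (Scheme.pointSmallEtale η).fiber.map p₂ y = y₂ := by
  let A : (Scheme.pointSmallEtale η).fiber.Elements := ⟨V₁, y₁⟩
  let B : (Scheme.pointSmallEtale η).fiber.Elements := ⟨V₂, y₂⟩
  exact ⟨(IsCofiltered.min A B).1, (IsCofiltered.minToLeft A B).1,
    (IsCofiltered.minToRight A B).1, (IsCofiltered.min A B).2,
    (IsCofiltered.minToLeft A B).2, (IsCofiltered.minToRight A B).2⟩

theorem germ_a_tau (F : EtCoh.Ab U) (v : Lift j η) (V : U.Etale)
    (y : (Scheme.pointSmallEtale v.1).fiber.obj V) :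
    (Scheme.pointSmallEtale v.1).toPresheafFiber V y F.obj ≫ a j η F v ≫
      (Scheme.pointSmallEtale η).presheafFiber.map ((tau j).app F).hom =
    tauSec j F V ≫ (Scheme.pointSmallEtale η).toPresheafFiber ((EtShriek.compEtale j).obj V)
      (incl j η v V y) ((EtCoh.push j).obj F).obj := by
  have h1 : (Scheme.pointSmallEtale v.1).toPresheafFiber V y F.obj ≫ a j η F v =
      ((EtShriek.extZeroAdj j).unit.app F).hom.app (op V) ≫
        (Scheme.pointSmallEtale η).toPresheafFiber ((EtShriek.compEtale j).obj V)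
          (incl j η v V y) ((EtShriek.extZero j).obj F).obj := toPF_a j η F v V y
  have h3 := (Scheme.pointSmallEtale η).toPresheafFiber_naturality ((tau j).app F).hom
    ((EtShriek.compEtale j).obj V) (incl j η v V y)
  have h5 : ((EtShriek.extZeroAdj j).unit.app F).hom.app (op V) ≫
      ((tau j).app F).hom.app (op ((EtShriek.compEtale j).obj V)) = tauSec j F V :=
    congrArg (fun (m : F ⟶ (EtShriek.restrAlong j).obj ((EtCoh.push j).obj F)) =>
      m.hom.app (op V)) (unit_tau j F)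
  refine (Category.assoc _ _ _).symm.trans ?_
  refine (congrArg (fun m => m ≫ (Scheme.pointSmallEtale η).presheafFiber.map
    ((tau j).app F).hom) h1).trans ?_
  refine (Category.assoc _ _ _).trans ?_
  refine (congrArg (fun m => ((EtShriek.extZeroAdj j).unit.app F).hom.app (op V) ≫ m) h3).trans ?_
  refine (Category.assoc _ _ _).symm.trans ?_
  exact congrArg (fun m => m ≫ (Scheme.pointSmallEtale η).toPresheafFiber
    ((EtShriek.compEtale j).obj V) (incl j η v V y) ((EtCoh.push j).obj F).obj) h5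

/-- germs at `η` of sections of `j_* F` with proper support -/
def IsGoodGerm (F : EtCoh.Ab U)
    (x : ToType ((Scheme.pointSmallEtale η).presheafFiber.obj ((EtCoh.push j).obj F).obj)) :
    Prop :=
  ∃ (V : X.Etale) (y : (Scheme.pointSmallEtale η).fiber.obj V)
    (t : EtCoh.sect F ((EtCoh.bc j).obj V)),
    EtShriek.ShriekPred j F V t ∧
      (Scheme.pointSmallEtale η).toPresheafFiber V y ((EtCoh.push j).obj F).obj t = x

theorem isGoodGerm_sub (F : EtCoh.Ab U)
    (x x' : ToType ((Scheme.pointSmallEtale η).presheafFiber.obj ((EtCoh.push j).obj F).obj))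
    (hx : IsGoodGerm j η F x) (hx' : IsGoodGerm j η F x') : IsGoodGerm j η F (x - x') := by
  obtain ⟨V₁, y₁, t₁, ht₁, rfl⟩ := hx
  obtain ⟨V₂, y₂, t₂, ht₂, rfl⟩ := hx'
  obtain ⟨P, p₁, p₂, yP, h1, h2⟩ := exists_common η V₁ V₂ y₁ y₂
  refine ⟨P, yP, F.obj.map ((EtCoh.bc j).map p₁).op t₁ - F.obj.map ((EtCoh.bc j).map p₂).op t₂,
    ?_, ?_⟩
  · exact shriekPred_sub j F P _ _ (EtShriek.shriekPred_map j F p₁ t₁ ht₁)
      (EtShriek.shriekPred_map j F p₂ t₂ ht₂)
  · have e1 := (Scheme.pointSmallEtale η).toPresheafFiber_w_apply p₁ yP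
      ((EtCoh.push j).obj F).obj t₁
    have e2 := (Scheme.pointSmallEtale η).toPresheafFiber_w_apply p₂ yP
      ((EtCoh.push j).obj F).obj t₂
    rw [h1] at e1
    rw [h2] at e2
    rw [map_sub]
    exact congrArg₂ (fun a b => a - b) e1 e2

theorem isGoodGerm_tau_a (F : EtCoh.Ab U) (v : Lift j η)
    (w : ToType ((Scheme.pointSmallEtale v.1).presheafFiber.obj F.obj)) :
    IsGoodGerm j η F ((Scheme.pointSmallEtale η).presheafFiber.map ((tau j).app F).hom
      (a j η F v w)) := by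
  obtain ⟨V, y, s, rfl⟩ := (Scheme.pointSmallEtale v.1).toPresheafFiber_jointly_surjective w
  refine ⟨(EtShriek.compEtale j).obj V, incl j η v V y, tauSec j F V s, ?_, ?_⟩
  · exact (shriekPred_iff j F _ _).2 (hasProperSupport_tauSec j F V s)
  · exact (comp3_apply _ _ _ _ (germ_a_tau j η F v V y) s).symm

theorem isGoodGerm_eq_zero (F : EtCoh.Ab U)
    (x : ToType ((Scheme.pointSmallEtale η).presheafFiber.obj ((EtCoh.push j).obj F).obj))
    (hx : IsGoodGerm j η F x) (h : ∀ v : Lift j η, psi j F v.1 v.2 x = 0) : x = 0 := by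
  obtain ⟨V, y, t, ht, rfl⟩ := hx
  haveI : LocallyQuasiFinite j := locallyQuasiFinite_of_unramified j
  refine germ_eq_zero_of_psi j F V y t ?_ (fun ξ hξ => h ⟨ξ, hξ⟩)
  obtain ⟨Z, hZ, hp⟩ := (shriekPred_iff j F V t).1 ht
  have hA : IsClosed (EtShriek.sectSupp F ((EtCoh.bc j).obj V) t) := isClosed_sectSupp F _ t
  obtain ⟨hA', hprop⟩ := isProperOver_of_subset (EtShriek.prV j V) hp hA hZ
  haveI := hprop
  have hr : Set.range (redι _ hA' ≫ EtShriek.prV j V) =
      pr₁ j V '' EtShriek.sectSupp F ((EtCoh.bc j).obj V) t := by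
    rw [range_comp', range_redι]
  rw [← hr]
  exact (Scheme.Hom.isClosedMap (redι _ hA' ≫ EtShriek.prV j V)).isClosed_range

theorem finite_lifts_in (V : X.Etale) (y : (Scheme.pointSmallEtale η).fiber.obj V)
    (Z : Set ((EtCoh.bc j).obj V).left) (hZ : ClSub.IsProperOver (EtShriek.prV j V) Z) :
    {v : Lift j η | ptLeft (liftPt j v.1 v.2 V y) default ∈ Z}.Finite := by
  obtain ⟨hcl, hprop⟩ := hZ
  haveI : IsProper (redι Z hcl ≫ EtShriek.prV j V) := hprop
  haveI : LocallyQuasiFinite j := locallyQuasiFinite_of_unramified j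
  haveI : LocallyQuasiFinite (EtShriek.prV j V) :=
    inferInstanceAs (LocallyQuasiFinite (pullback.fst V.hom j))
  haveI : LocallyQuasiFinite (redι Z hcl ≫ EtShriek.prV j V) := inferInstance
  haveI : IsFinite (redι Z hcl ≫ EtShriek.prV j V) :=
    IsFinite.of_isProper_of_locallyQuasiFinite _
  haveI := finite_points (redι Z hcl ≫ EtShriek.prV j V) (ptLeft y)
  have hfac : ∀ v : {v : Lift j η // ptLeft (liftPt j v.1 v.2 V y) default ∈ Z},
      ∃ g : Spec (CommRingCat.of Ω) ⟶ red Z hcl,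
        g ≫ redι Z hcl = ptLeft (liftPt j v.1.1 v.1.2 V y) := by
    intro v
    apply exists_lift_of_reduced' _ hcl
    rintro _ ⟨pt, rfl⟩
    rw [Subsingleton.elim pt default]
    exact v.2
  choose g hg using hfac
  let Φ : {v : Lift j η // ptLeft (liftPt j v.1 v.2 V y) default ∈ Z} →
      {ξ : Spec (CommRingCat.of Ω) ⟶ red Z hcl //
        ξ ≫ (redι Z hcl ≫ EtShriek.prV j V) = ptLeft y} :=
    fun v => ⟨g v, by
      rw [← Category.assoc, hg v]
      exact liftPt_pr₁ j v.1.1 v.1.2 V y⟩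
  have hinj : Function.Injective Φ := by
    intro v v' hvv
    have h1 : g v = g v' := congrArg Subtype.val hvv
    have h2 : ptLeft (liftPt j v.1.1 v.1.2 V y) = ptLeft (liftPt j v'.1.1 v'.1.2 V y) := by
      rw [← hg v, ← hg v', h1]
    apply Subtype.ext
    apply Subtype.ext
    have h3 := congrArg (fun m => m ≫ ((EtCoh.bc j).obj V).hom) h2
    exact (liftPt_hom j v.1.1 v.1.2 V y).symm.trans (h3.trans (liftPt_hom j v'.1.1 v'.1.2 V y))
  exact Set.finite_coe_iff.mp (Finite.of_injective Φ hinj)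

theorem psi_tau_a_same (F : EtCoh.Ab U) (v : Lift j η)
    (w : ToType ((Scheme.pointSmallEtale v.1).presheafFiber.obj F.obj)) :
    psi j F v.1 v.2 ((Scheme.pointSmallEtale η).presheafFiber.map ((tau j).app F).hom
      (a j η F v w)) = w :=
  comp3_apply _ _ _ _ (key_same j η F v) w

theorem psi_tau_a_diff (F : EtCoh.Ab U) (v v' : Lift j η) (hv : v ≠ v')
    (w : ToType ((Scheme.pointSmallEtale v.1).presheafFiber.obj F.obj)) :
    psi j F v'.1 v'.2 ((Scheme.pointSmallEtale η).presheafFiber.map ((tau j).app F).hom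
      (a j η F v w)) = 0 :=
  comp3_apply _ _ _ _ (key_diff j η F v v' hv) w

theorem exists_tau_eq (F : EtCoh.Ab U) (V : X.Etale)
    (y : (Scheme.pointSmallEtale η).fiber.obj V) (t : EtCoh.sect F ((EtCoh.bc j).obj V))
    (ht : EtShriek.ShriekPred j F V t) :
    ∃ z : ToType ((Scheme.pointSmallEtale η).presheafFiber.obj
        ((EtShriek.extZero j).obj F).obj),
      (Scheme.pointSmallEtale η).presheafFiber.map ((tau j).app F).hom z =
        (Scheme.pointSmallEtale η).toPresheafFiber V y ((EtCoh.push j).obj F).obj t := by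
  classical
  obtain ⟨Z, hZ, hp⟩ := (shriekPred_iff j F V t).1 ht
  have hfin := finite_lifts_in j η V y Z hp
  obtain ⟨x, hxdef⟩ : ∃ x, x = (Scheme.pointSmallEtale η).toPresheafFiber V y
    ((EtCoh.push j).obj F).obj t := ⟨_, rfl⟩
  have hxg : IsGoodGerm j η F x := ⟨V, y, t, ht, hxdef.symm⟩
  rw [← hxdef]
  obtain ⟨T, hT⟩ : ∃ T, T = (Scheme.pointSmallEtale η).presheafFiber.map ((tau j).app F).hom :=
    ⟨_, rfl⟩
  rw [← hT]
  obtain ⟨term, hterm⟩ : ∃ term : Lift j η → ToType ((Scheme.pointSmallEtale η).presheafFiber.obj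
      ((EtShriek.extZero j).obj F).obj), term = fun v => a j η F v (psi j F v.1 v.2 x) :=
    ⟨_, rfl⟩
  have hgood : ∀ S : Finset (Lift j η), IsGoodGerm j η F (x - T (∑ v ∈ S, term v)) := by
    intro S
    induction S using Finset.induction_on with
    | empty =>
      rw [Finset.sum_empty, map_zero, sub_zero]
      exact hxg
    | insert v₀ S hv₀ ih =>
      rw [Finset.sum_insert hv₀, map_add, sub_add_eq_sub_sub_swap]
      refine isGoodGerm_sub j η F _ _ ih ?_
      rw [hT, hterm]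
      exact isGoodGerm_tau_a j η F v₀ _
  refine ⟨∑ v ∈ hfin.toFinset, term v, ?_⟩
  have hzero := isGoodGerm_eq_zero j η F _ (hgood hfin.toFinset) ?_
  · exact (sub_eq_zero.1 hzero).symm
  · intro v₀
    rw [map_sub, map_sum, map_sum]
    have hkey : ∀ v : Lift j η, psi j F v₀.1 v₀.2 (T (term v)) =
        if v = v₀ then psi j F v₀.1 v₀.2 x else 0 := by
      intro v
      rw [hT, hterm]
      by_cases hv : v = v₀
      · subst hv
        rw [if_pos rfl]
        exact psi_tau_a_same j η F v _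
      · rw [if_neg hv]
        exact psi_tau_a_diff j η F v v₀ hv _
    rw [Finset.sum_congr rfl (fun v _ => hkey v), Finset.sum_ite_eq']
    by_cases hmem : v₀ ∈ hfin.toFinset
    · rw [if_pos hmem, sub_self]
    · rw [if_neg hmem, sub_zero, hxdef, psi_germ]
      apply germ_eq_zero_of_not_mem F ((EtCoh.bc j).obj V) t v₀.1 (liftPt j v₀.1 v₀.2 V y)
      intro hsupp
      apply hmem
      rw [Set.Finite.mem_toFinset]
      exact hZ hsupp

end Tau

end Groth.Agent.Lib.EtShriekH7
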