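import Mathlib
import Groth.Agent.Lib.EtShriek1_helper7

/-!
# `j_! ≅` direct image with proper support, for `j` separated étale (helper7)
-/

set_option autoImplicit false
set_option backward.isDefEq.respectTransparency false
set_option linter.style.haveILetI false
set_option linter.unusedSectionVars false
universe u
open CategoryTheory CategoryTheory.Limits AlgebraicGeometry Opposite

namespace Groth.Agent.Lib.EtShriekH7

open Groth.Agent.Lib.EtSchSite_helper7 Groth.Agent.Lib.EtFinStalkH7
  Groth.Agent.Lib.EtFinGeomH7 Groth.Agent.Lib.EtSchStalk_helper7 ProperOver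
  Groth.Agent.Lib.EtPushVanish_helper7 Groth.Agent.Lib.EtSchSupp_helper7
  Groth.Agent.Lib.EtShriekStalk_helper7 Groth.Agent.Lib.EtTraceH7
  Groth.Agent.Lib.EtNbhdFinH4 Groth.Agent.Lib.EtIntH7
open Groth.Agent.Lib.EtFlasque_helper7 (app_map_apply map_id_apply)

section ToPush

variable {X Y : Scheme.{u}} (f : X ⟶ Y) (F : EtCoh.Ab X)

/-- `toSheafify ≫ (f_! F ⟶ f_* F) = inclusion` -/
theorem toSheafify_toPush :
    toSheafify Y.smallEtaleTopology (EtShriek.lowerShriekPre f F) ≫
      (EtShriek.lowerShriekToPush f F).hom = EtShriek.lowerShriekPreι f F := by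
  have h := (sheafificationAdjunction Y.smallEtaleTopology AddCommGrpCat.{u + 1}).homEquiv_unit
    (X := EtShriek.lowerShriekPre f F) (Y := (EtCoh.push f).obj F)
    (f := EtShriek.lowerShriekToPush f F)
  exact h.symm.trans (Equiv.apply_symm_apply _ _)

instance isLocallyInjective_preι :
    Presheaf.IsLocallyInjective Y.smallEtaleTopology (EtShriek.lowerShriekPreι f F) :=
  Presheaf.isLocallyInjective_of_injective _ _ (fun V => by
    intro a b hab
    exact Subtype.ext hab)

instance isLocallyInjective_toPush :
    Presheaf.IsLocallyInjective Y.smallEtaleTopology (EtShriek.lowerShriekToPush f F).hom :=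
  Presheaf.isLocallyInjective_of_isLocallyInjective_of_isLocallySurjective_fac
    Y.smallEtaleTopology (EtShriek.lowerShriekPreι f F) (toSheafify_toPush f F)

instance mono_toPush : Mono (EtShriek.lowerShriekToPush f F) := by
  haveI : Sheaf.IsLocallyInjective (EtShriek.lowerShriekToPush f F) :=
    isLocallyInjective_toPush f F
  exact Sheaf.mono_of_isLocallyInjective _

theorem preι_naturality {F G : EtCoh.Ab X} (α : F ⟶ G) :
    (EtShriek.lowerShriekPreFunctor f).map α ≫ EtShriek.lowerShriekPreι f G =
      EtShriek.lowerShriekPreι f F ≫ ((EtCoh.push f).map α).hom := by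
  ext V s
  rfl

theorem toPush_naturality {F G : EtCoh.Ab X} (α : F ⟶ G) :
    (EtShriek.lowerShriek f).map α ≫ EtShriek.lowerShriekToPush f G =
      EtShriek.lowerShriekToPush f F ≫ (EtCoh.push f).map α := by
  have h1 := (sheafificationAdjunction Y.smallEtaleTopology
    AddCommGrpCat.{u + 1}).homEquiv_naturality_left_symm
    (X' := EtShriek.lowerShriekPre f F) (X := EtShriek.lowerShriekPre f G)
    (Y := (EtCoh.push f).obj G)
    ((EtShriek.lowerShriekPreFunctor f).map α) (EtShriek.lowerShriekPreι f G)
  have h2 := (sheafificationAdjunction Y.smallEtaleTopology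
    AddCommGrpCat.{u + 1}).homEquiv_naturality_right_symm
    (X := EtShriek.lowerShriekPre f F) (Y := (EtCoh.push f).obj F)
    (Y' := (EtCoh.push f).obj G)
    (EtShriek.lowerShriekPreι f F) ((EtCoh.push f).map α)
  refine h1.symm.trans (Eq.trans ?_ h2)
  exact congrArg _ (preι_naturality f α)

end ToPush

section Sigma

variable {U X : Scheme.{u}} (j : U ⟶ X) [Etale j] [IsSeparated j] [EtShriek.JCont j]

/-- sections of `F` over `V` give sections of `j_* F` over `V → U → X` with proper support -/
noncomputable def tauPreApp (F : EtCoh.Ab U) (V : U.Etale) :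
    F.obj.obj (op V) ⟶
      (EtShriek.lowerShriekPre j F).obj (op ((EtShriek.compEtale j).obj V)) :=
  AddCommGrpCat.ofHom ((tauSec j F V).hom.codRestrict
    (EtShriek.shriekSubgroup j F ((EtShriek.compEtale j).obj V))
    (fun s => (mem_shriekSubgroup_iff j F _ _).2
      ((shriekPred_iff j F _ _).2 (hasProperSupport_tauSec j F V s))))

theorem tauPreApp_naturality (F : EtCoh.Ab U) {V₁ V₂ : U.Etale} (g : V₁ ⟶ V₂) :
    tauPreApp j F V₂ ≫ (EtShriek.lowerShriekPre j F).map ((EtShriek.compEtale j).map g).op =
      F.obj.map g.op ≫ tauPreApp j F V₁ := by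
  ext s
  apply Subtype.ext
  exact tauSec_naturality j F g s

/-- `σ' : F ⟶ j⁻¹ (j_! F)` (proper support version) -/
noncomputable def sigmaP (F : EtCoh.Ab U) :
    F ⟶ (EtShriek.restrAlong j).obj ((EtShriek.lowerShriek j).obj F) :=
  ⟨{ app := fun V => tauPreApp j F V.unop ≫
        (toSheafify X.smallEtaleTopology (EtShriek.lowerShriekPre j F)).app
          (op ((EtShriek.compEtale j).obj V.unop))
     naturality := by
      intro V₂ V₁ g
      have h1 := tauPreApp_naturality j F g.unop
      have h2 := (toSheafify X.smallEtaleTopology (EtShriek.lowerShriekPre j F)).naturality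
        ((EtShriek.compEtale j).map g.unop).op
      refine (Category.assoc _ _ _).symm.trans ?_
      refine (congrArg (fun m => m ≫ (toSheafify X.smallEtaleTopology
        (EtShriek.lowerShriekPre j F)).app (op ((EtShriek.compEtale j).obj V₁.unop))) h1.symm).trans ?_
      refine (Category.assoc _ _ _).trans ?_
      refine (congrArg (fun m => tauPreApp j F V₂.unop ≫ m) h2).trans ?_
      exact (Category.assoc _ _ _).symm }⟩

/-- `σ : j_! F ⟶ j_!^{proper} F` -/
noncomputable def sigma (F : EtCoh.Ab U) :
    (EtShriek.extZero j).obj F ⟶ (EtShriek.lowerShriek j).obj F :=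
  ((EtShriek.extZeroAdj j).homEquiv F ((EtShriek.lowerShriek j).obj F)).symm (sigmaP j F)

theorem sigmaP_toPush (F : EtCoh.Ab U) :
    sigmaP j F ≫ (EtShriek.restrAlong j).map (EtShriek.lowerShriekToPush j F) = tauP j F := by
  ext V s
  have h := congrArg (fun (m : EtShriek.lowerShriekPre j F ⟶ ((EtCoh.push j).obj F).obj) =>
    m.app (op ((EtShriek.compEtale j).obj V.unop))) (toSheafify_toPush j F)
  exact comp2_apply _ _ _ h (tauPreApp j F V.unop s)

theorem sigma_toPush (F : EtCoh.Ab U) :
    sigma j F ≫ EtShriek.lowerShriekToPush j F = (tau j).app F := by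
  have h := (EtShriek.extZeroAdj j).homEquiv_naturality_right_symm (sigmaP j F)
    (EtShriek.lowerShriekToPush j F)
  refine h.symm.trans ?_
  exact congrArg _ (sigmaP_toPush j F)

instance mono_sigma (F : EtCoh.Ab U) : Mono (sigma j F) := by
  haveI : Mono (sigma j F ≫ EtShriek.lowerShriekToPush j F) := by
    rw [sigma_toPush]
    exact mono_tau j F
  exact mono_of_mono (sigma j F) (EtShriek.lowerShriekToPush j F)

theorem stalk_sigma_surjective (F : EtCoh.Ab U) {Ω : Type u} [Field Ω] [IsAlgClosed Ω]
    (η : Spec (CommRingCat.of Ω) ⟶ X) :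
    Function.Surjective ((EtCoh.stalk η).map (sigma j F)) := by
  intro x
  obtain ⟨x₀, hx₀⟩ := (Scheme.pointSmallEtale η).toPresheafFiber_map_surjective
    (toSheafify X.smallEtaleTopology (EtShriek.lowerShriekPre j F)) x
  obtain ⟨V, y, t₀, ht₀⟩ := (Scheme.pointSmallEtale η).toPresheafFiber_jointly_surjective x₀
  obtain ⟨t, htdef⟩ : ∃ t : EtShriek.shriekSubgroup j F V, t = t₀ := ⟨_, rfl⟩
  obtain ⟨z, hz⟩ := exists_tau_eq j η F V y t.1 ((mem_shriekSubgroup_iff j F V t.1).1 t.2)
  refine ⟨z, ?_⟩
  apply (Scheme.pointSmallEtale η).toPresheafFiber_map_injective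
    (EtShriek.lowerShriekToPush j F).hom
  -- left side
  have hL : (Scheme.pointSmallEtale η).presheafFiber.map (sigma j F).hom ≫
      (Scheme.pointSmallEtale η).presheafFiber.map (EtShriek.lowerShriekToPush j F).hom =
      (Scheme.pointSmallEtale η).presheafFiber.map ((tau j).app F).hom := by
    rw [← Functor.map_comp]
    exact congrArg (fun (m : (EtShriek.extZero j).obj F ⟶ (EtCoh.push j).obj F) =>
      (Scheme.pointSmallEtale η).presheafFiber.map m.hom) (sigma_toPush j F)
  have hR : (Scheme.pointSmallEtale η).presheafFiber.map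
      (toSheafify X.smallEtaleTopology (EtShriek.lowerShriekPre j F)) ≫
      (Scheme.pointSmallEtale η).presheafFiber.map (EtShriek.lowerShriekToPush j F).hom =
      (Scheme.pointSmallEtale η).presheafFiber.map (EtShriek.lowerShriekPreι j F) := by
    rw [← Functor.map_comp, toSheafify_toPush]
  have hN := (Scheme.pointSmallEtale η).toPresheafFiber_naturality
    (EtShriek.lowerShriekPreι j F) V y
  have e1 : (Scheme.pointSmallEtale η).presheafFiber.map (EtShriek.lowerShriekToPush j F).hom
      ((Scheme.pointSmallEtale η).presheafFiber.map (sigma j F).hom z) =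
      (Scheme.pointSmallEtale η).presheafFiber.map ((tau j).app F).hom z :=
    comp2_apply _ _ _ hL z
  have e2 : (Scheme.pointSmallEtale η).presheafFiber.map (EtShriek.lowerShriekToPush j F).hom
      ((Scheme.pointSmallEtale η).presheafFiber.map
        (toSheafify X.smallEtaleTopology (EtShriek.lowerShriekPre j F)) x₀) =
      (Scheme.pointSmallEtale η).presheafFiber.map (EtShriek.lowerShriekPreι j F) x₀ :=
    comp2_apply _ _ _ hR x₀
  have e3 : (Scheme.pointSmallEtale η).presheafFiber.map (EtShriek.lowerShriekPreι j F)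
      ((Scheme.pointSmallEtale η).toPresheafFiber V y (EtShriek.lowerShriekPre j F) t₀) =
      (Scheme.pointSmallEtale η).toPresheafFiber V y ((EtCoh.push j).obj F).obj
        ((EtShriek.lowerShriekPreι j F).app (op V) t₀) :=
    comp2_apply _ _ _ hN t₀
  refine e1.trans (hz.trans ?_)
  rw [← hx₀, e2, ← ht₀, e3, ← htdef]
  rfl

instance epi_sigma (F : EtCoh.Ab U) : Epi (sigma j F) :=
  epi_of_algClosed _ (fun _ _ _ η => stalk_sigma_surjective j F η)

instance isIso_sigma (F : EtCoh.Ab U) : IsIso (sigma j F) := isIso_of_mono_of_epi _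

theorem sigma_naturality {F G : EtCoh.Ab U} (α : F ⟶ G) :
    (EtShriek.extZero j).map α ≫ sigma j G = sigma j F ≫ (EtShriek.lowerShriek j).map α := by
  apply (cancel_mono (EtShriek.lowerShriekToPush j G)).1
  rw [Category.assoc, sigma_toPush, Category.assoc, toPush_naturality, ← Category.assoc,
    sigma_toPush]
  exact (tau j).naturality α

theorem main727 : Nonempty (EtShriek.extZero j ≅ EtShriek.lowerShriek j) :=
  ⟨NatIso.ofComponents (fun F => asIso (sigma j F)) (fun α => sigma_naturality j α)⟩

end Sigma

end Groth.Agent.Lib.EtShriekH7
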