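import Mathlib
import Groth.Agent.Lib.EtTrace3_helper7

/-!
# Counting geometric points in the fibres of a finite étale morphism (helper7)
-/

set_option autoImplicit false
set_option backward.isDefEq.respectTransparency false
set_option linter.style.haveILetI false
set_option linter.unusedSectionVars false
universe u
open CategoryTheory CategoryTheory.Limits AlgebraicGeometry Opposite

namespace Groth.Agent.Lib.EtTraceH7

open Groth.Agent.Lib.EtShriekStalk_helper7

section Sections

theorem isOpenImmersion_of_section {P S : Scheme.{u}} (g : P ⟶ S) [Etale g] (σ : S ⟶ P)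
    (h : σ ≫ g = 𝟙 S) : IsOpenImmersion σ := by
  have sq := pullback_lift_diagonal_isPullback σ g
  haveI : IsOpenImmersion (pullback.lift (𝟙 S) σ (by simp) : S ⟶ pullback (σ ≫ g) g) :=
    MorphismProperty.of_isPullback (P := @IsOpenImmersion) sq inferInstance
  haveI : IsIso (σ ≫ g) := by
    rw [h]
    infer_instance
  have e : σ = pullback.lift (𝟙 S) σ (by simp) ≫ pullback.snd (σ ≫ g) g :=
    (pullback.lift_snd _ _ _).symm
  rw [e]
  infer_instance

variable {Ω : Type u} [Field Ω] [IsSepClosed Ω]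

theorem section_unique {P : Scheme.{u}} (g : P ⟶ Spec (CommRingCat.of Ω)) [Etale g]
    (σ σ' : Spec (CommRingCat.of Ω) ⟶ P) (h : σ ≫ g = 𝟙 _) (h' : σ' ≫ g = 𝟙 _)
    (hp : σ default = σ' default) : σ = σ' := by
  haveI := isOpenImmersion_of_section g σ h
  have hr : Set.range σ' ⊆ Set.range σ := by
    rintro _ ⟨x, rfl⟩
    rw [Subsingleton.elim x default, ← hp]
    exact ⟨default, rfl⟩
  obtain ⟨e, he⟩ : ∃ e : Spec (CommRingCat.of Ω) ⟶ Spec (CommRingCat.of Ω), e ≫ σ = σ' :=
    ⟨IsOpenImmersion.lift σ σ' hr, IsOpenImmersion.lift_fac _ _ _⟩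
  have he1 : e = 𝟙 _ := by
    have h1 : (e ≫ σ) ≫ g = σ' ≫ g := congrArg (fun m => m ≫ g) he
    rw [Category.assoc, h, h'] at h1
    exact (Category.comp_id e).symm.trans h1
  rw [← he, he1, Category.id_comp]

variable {U X : Scheme.{u}} (j : U ⟶ X) [Etale j] (η : Spec (CommRingCat.of Ω) ⟶ X)

theorem card_lift_eq_card_fibre : Nat.card (Lift j η) = Nat.card ↥(pullback j η) := by
  apply Nat.card_congr
  refine Equiv.ofBijective (fun v => (pullback.lift v.1 (𝟙 _) (by rw [v.2, Category.id_comp]) :
    Spec (CommRingCat.of Ω) ⟶ pullback j η) default) ⟨?_, ?_⟩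
  · intro v v' hvv
    have h1 := section_unique (pullback.snd j η)
      (pullback.lift v.1 (𝟙 _) (by rw [v.2, Category.id_comp]))
      (pullback.lift v'.1 (𝟙 _) (by rw [v'.2, Category.id_comp]))
      (pullback.lift_snd _ _ _) (pullback.lift_snd _ _ _) hvv
    apply Subtype.ext
    have h2 := congrArg (fun m => m ≫ pullback.fst j η) h1
    simp only [pullback.lift_fst] at h2
    exact h2
  · intro p
    obtain ⟨l, hl1, hl2⟩ := Scheme.exists_fac_of_etale_of_isSepClosed (pullback.snd j η) (𝟙 _) p
      (Subsingleton.elim _ _)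
    have hv : (l ≫ pullback.fst j η) ≫ j = η := by
      rw [Category.assoc, pullback.condition, ← Category.assoc, hl1, Category.id_comp]
    refine ⟨⟨l ≫ pullback.fst j η, hv⟩, ?_⟩
    have h3 : pullback.lift (l ≫ pullback.fst j η) (𝟙 _) (by rw [hv, Category.id_comp]) = l := by
      apply pullback.hom_ext
      · rw [pullback.lift_fst]
      · rw [pullback.lift_snd, hl1]
    show (pullback.lift (l ≫ pullback.fst j η) (𝟙 _) _ :
      Spec (CommRingCat.of Ω) ⟶ pullback j η) default = p
    rw [h3]
    exact hl2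

theorem card_fibre_eq_finrank [IsFinite j] :
    Nat.card ↥(pullback j η) = j.finrank (η default) := by
  haveI : IsAffine (pullback j η) := isAffine_of_isAffineHom (pullback.snd j η)
  obtain ⟨φ, hφ⟩ : ∃ φ : CommRingCat.of Ω ⟶ Γ(pullback j η, ⊤),
      φ = (Scheme.ΓSpecIso (CommRingCat.of Ω)).inv ≫ (pullback.snd j η).appTop := ⟨_, rfl⟩
  have e1 : (pullback j η).isoSpec.inv ≫ pullback.snd j η = Spec.map φ := by
    rw [hφ, Spec.map_comp, ← Scheme.isoSpec_Spec_inv, Scheme.isoSpec_inv_naturality]
  have hfinite : IsFinite (Spec.map φ) := by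
    rw [← e1]
    infer_instance
  have hetale : Etale (Spec.map φ) := by
    rw [← e1]
    infer_instance
  have hflat' : Flat (Spec.map φ) := inferInstance
  have h1 : φ.hom.Finite := (IsFinite.SpecMap_iff φ).1 hfinite
  have h2 : φ.hom.Etale := HasRingHomProperty.Spec_iff.1 hetale
  have h3 : φ.hom.Flat := Flat.SpecMap_iff.1 hflat'
  letI : Algebra Ω Γ(pullback j η, ⊤) := φ.hom.toAlgebra
  haveI : Module.Finite Ω Γ(pullback j η, ⊤) := h1
  haveI : Algebra.Etale Ω Γ(pullback j η, ⊤) := h2
  have c1 : Nat.card ↥(pullback j η) = Nat.card (PrimeSpectrum Γ(pullback j η, ⊤)) :=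
    Nat.card_congr (Scheme.homeoOfIso (pullback j η).isoSpec).toEquiv
  have c2 : Module.finrank Ω Γ(pullback j η, ⊤) =
      Nat.card (PrimeSpectrum Γ(pullback j η, ⊤)) := by
    haveI : IsArtinianRing Γ(pullback j η, ⊤) := isArtinian_of_tower Ω inferInstance
    haveI : Finite (PrimeSpectrum Γ(pullback j η, ⊤)) := inferInstance
    letI := Fintype.ofFinite (PrimeSpectrum Γ(pullback j η, ⊤))
    rw [(Algebra.FormallyEtale.equivPiOfIsSepClosed Ω
      Γ(pullback j η, ⊤)).toLinearEquiv.finrank_eq, Module.finrank_pi,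
      Nat.card_eq_fintype_card]
  have c3 : j.finrank (η default) = Module.finrank Ω Γ(pullback j η, ⊤) := by
    rw [← Scheme.Hom.finrank_pullback_snd j η default,
      ← Scheme.Hom.finrank_comp_left_of_isIso (pullback j η).isoSpec.inv (pullback.snd j η), e1,
      Scheme.Hom.finrank_SpecMap_eq_finrank h1 h3]
    have e2 : φ.hom = algebraMap Ω Γ(pullback j η, ⊤) := rfl
    rw [e2, RingHom.finrank_algebraMap, Module.rankAtStalk_eq_finrank_of_free]
    rfl
  rw [c1, c3, c2]

theorem card_lift_eq_finrank [IsFinite j] : Nat.card (Lift j η) = j.finrank (η default) :=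
  (card_lift_eq_card_fibre j η).trans (card_fibre_eq_finrank j η)

end Sections

end Groth.Agent.Lib.EtTraceH7
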