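import Mathlib
import Groth.Agent.Lib.EtTrace4_helper7
import Groth.Agent.Lib.ExtNat_helper7
import Groth.Agent.Lib.EtFinExact_helper7
import Groth.Agent.Lib.EtPullExact_helper9

/-!
# Restriction–corestriction on étale cohomology for a finite étale morphism (helper7)

If a cohomology class dies after pullback along a finite étale morphism of degree `d`, it is
killed by `d`.
-/

set_option autoImplicit false
set_option backward.isDefEq.respectTransparency false
set_option linter.style.haveILetI false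
set_option linter.unusedSectionVars false
universe w w' v u v' u'
open CategoryTheory CategoryTheory.Limits AlgebraicGeometry Opposite

namespace Groth.Agent.Lib.EtTraceH7

open Groth.Agent.Lib.EtShriekStalk_helper7 Groth.Agent.Lib.ExtNat_helper7

section Abstract

open Abelian

variable {C : Type u} [Category.{v} C] [Abelian C] {D : Type u'} [Category.{v'} D] [Abelian D]
  [HasExt.{w} C] [HasExt.{w'} D] [EnoughInjectives C]
  (G₁ : C ⥤ D) [G₁.Additive] [PreservesFiniteLimits G₁] [PreservesFiniteColimits G₁]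
  (G₂ : D ⥤ C) [G₂.Additive] [PreservesFiniteLimits G₂] [PreservesFiniteColimits G₂]
  (τ : G₁ ⋙ G₂ ⟶ 𝟭 C)

theorem ext_naturality_id {A : C} (n : ℕ) : ∀ (F : C) (e : Ext.{w} A F n),
    ((e.mapExactFunctor G₁).mapExactFunctor G₂).comp (Ext.mk₀ (τ.app F)) (add_zero n) =
      (Ext.mk₀ (τ.app A)).comp e (zero_add n) := by
  induction n with
  | zero =>
    intro F e
    obtain ⟨φ, rfl⟩ := (Ext.mk₀_bijective _ _).2 e
    rw [Ext.mapExactFunctor_mk₀, Ext.mapExactFunctor_mk₀, Ext.mk₀_comp_mk₀, Ext.mk₀_comp_mk₀]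
    exact congrArg Ext.mk₀ (τ.naturality φ)
  | succ n ih =>
    intro F e
    let I : InjectivePresentation F := Classical.arbitrary _
    let S := ShortComplex.mk _ _ (cokernel.condition I.f)
    have hS : S.ShortExact := { exact := ShortComplex.exact_cokernel I.f }
    haveI : Injective S.X₂ := I.injective
    obtain ⟨y, hy⟩ : ∃ y : Ext.{w} A S.X₃ n, y.comp hS.extClass rfl = e :=
      Ext.covariant_sequence_exact₁ A hS e (Ext.eq_zero_of_injective _) rfl
    subst hy
    have hS₁ := hS.map_of_exact G₁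
    have hS₂ := hS₁.map_of_exact G₂
    let φ : (S.map G₁).map G₂ ⟶ S :=
      { τ₁ := τ.app S.X₁
        τ₂ := τ.app S.X₂
        τ₃ := τ.app S.X₃
        comm₁₂ := (τ.naturality S.f).symm
        comm₂₃ := (τ.naturality S.g).symm }
    have hnat : hS₂.extClass.comp (Ext.mk₀ (τ.app S.X₁)) (add_zero 1) =
        (Ext.mk₀ (τ.app S.X₃)).comp hS.extClass (zero_add 1) :=
      ShortComplex.ShortExact.extClass_naturality hS₂ hS φ
    have hδ : (hS.extClass.mapExactFunctor G₁).mapExactFunctor G₂ = hS₂.extClass :=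
      (congrArg (fun t => Ext.mapExactFunctor G₂ t) (Ext.mapExactFunctor_extClass G₁ hS)).trans
        (Ext.mapExactFunctor_extClass G₂ hS₁)
    have step1 : ((y.comp hS.extClass rfl).mapExactFunctor G₁).mapExactFunctor G₂ =
        ((y.mapExactFunctor G₁).mapExactFunctor G₂).comp hS₂.extClass rfl := by
      rw [Ext.mapExactFunctor_comp, Ext.mapExactFunctor_comp, hδ]
    refine (congrArg (fun t => t.comp (Ext.mk₀ (τ.app S.X₁)) (add_zero (n + 1))) step1).trans ?_
    refine (Ext.comp_assoc_of_third_deg_zero _ _ _ _).trans ?_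
    refine (congrArg (fun t => ((y.mapExactFunctor G₁).mapExactFunctor G₂).comp t rfl)
      hnat).trans ?_
    refine (Ext.comp_assoc_of_second_deg_zero _ _ _ _).symm.trans ?_
    refine (congrArg (fun t => t.comp hS.extClass rfl) (ih S.X₃ y)).trans ?_
    exact Ext.comp_assoc (Ext.mk₀ (τ.app A)) y hS.extClass (zero_add n) rfl (by omega)

theorem nsmul_comp {X Y Z : C} {n m p : ℕ} (d : ℕ) (α : Ext.{w} X Y n) (β : Ext.{w} Y Z m)
    (h : n + m = p) : (d • α).comp β h = d • α.comp β h := by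
  induction d with
  | zero => simp
  | succ k ih => rw [succ_nsmul, succ_nsmul, Ext.add_comp, ih]

theorem comp_nsmul {X Y Z : C} {n m p : ℕ} (d : ℕ) (α : Ext.{w} X Y n) (β : Ext.{w} Y Z m)
    (h : n + m = p) : α.comp (d • β) h = d • α.comp β h := by
  induction d with
  | zero => simp
  | succ k ih => rw [succ_nsmul, succ_nsmul, Ext.comp_add, ih]

theorem mk₀_nsmul {X Y : C} (d : ℕ) (f : X ⟶ Y) :
    (Ext.mk₀ (d • f) : Ext.{w} X Y 0) = d • Ext.mk₀ f := by
  induction d with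
  | zero => simp
  | succ k ih => rw [succ_nsmul, succ_nsmul, Ext.mk₀_add, ih]

theorem nsmul_eq_zero_of_map_eq_zero (η : 𝟭 C ⟶ G₁ ⋙ G₂) (d : ℕ)
    (hd : ∀ A : C, η.app A ≫ τ.app A = d • 𝟙 A) {A F : C} {n : ℕ} (e : Ext.{w} A F n)
    (he : e.mapExactFunctor G₁ = 0) : d • e = 0 := by
  have h := ext_naturality_id G₁ G₂ τ n F e
  rw [he, Ext.mapExactFunctor_zero, Ext.zero_comp] at h
  have h2 : (Ext.mk₀ (η.app A)).comp ((Ext.mk₀ (τ.app A)).comp e (zero_add n)) (zero_add n) =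
      0 := by
    rw [← h, Ext.comp_zero]
  rw [Ext.mk₀_comp_mk₀_assoc, hd, mk₀_nsmul, nsmul_comp] at h2
  exact (congrArg (fun t => d • t) (Ext.mk₀_id_comp e)).symm.trans h2

/-- postcomposition with `d • 𝟙`  -/
theorem comp_mk₀_nsmul_id {A F : C} {n : ℕ} (d : ℕ) (e : Ext.{w} A F n) :
    e.comp (Ext.mk₀ (d • 𝟙 F)) (add_zero n) = d • e := by
  rw [mk₀_nsmul, comp_nsmul, Ext.comp_mk₀_id]

theorem eq_zero_of_comp_mk₀_iso {A F F' : C} {n : ℕ} (φ : F ⟶ F') [IsIso φ] (e : Ext.{w} A F n)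
    (h : e.comp (Ext.mk₀ φ) (add_zero n) = 0) : e = 0 := by
  have h2 := congrArg (fun t => t.comp (Ext.mk₀ (inv φ)) (add_zero n)) h
  simp only [Ext.comp_assoc_of_third_deg_zero, Ext.mk₀_comp_mk₀, IsIso.hom_inv_id,
    Ext.comp_mk₀_id, Ext.zero_comp] at h2
  exact h2

theorem eq_zero_of_mk₀_iso_comp {A A' F : C} {n : ℕ} (φ : A' ⟶ A) [IsIso φ] (e : Ext.{w} A F n)
    (h : (Ext.mk₀ φ).comp e (zero_add n) = 0) : e = 0 := by
  have h2 := congrArg (fun t => (Ext.mk₀ (inv φ)).comp t (zero_add n)) h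
  simp only [Ext.mk₀_comp_mk₀_assoc, IsIso.inv_hom_id, Ext.mk₀_id_comp, Ext.comp_zero] at h2
  exact h2

end Abstract

section Et

open Abelian

variable {X' X : Scheme.{u}} (π : X' ⟶ X)

theorem mapExt_eq_zero_of_Hpull [PreservesFiniteLimits (EtCoh.pull π)] (F : EtCoh.Ab X) (q : ℕ)
    (α : EtCoh.H X F q) (h : EtCore.Hpull π F q α = 0) :
    Ext.mapExactFunctor (EtCoh.pull π) α = 0 := by
  have h1 : (Ext.mk₀ (EtCore.pullConst π ℤ).inv).comp
      (Ext.mapExactFunctor (EtCoh.pull π) α) (zero_add q) = 0 := h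
  exact eq_zero_of_mk₀_iso_comp _ _ h1

theorem Hpull_eq_zero_of_mapExt [PreservesFiniteLimits (EtCoh.pull π)] (F : EtCoh.Ab X) (q : ℕ)
    (α : EtCoh.H X F q) (h : Ext.mapExactFunctor (EtCoh.pull π) α = 0) :
    EtCore.Hpull π F q α = 0 := by
  show (Ext.mk₀ (EtCore.pullConst π ℤ).inv).comp
      (Ext.mapExactFunctor (EtCoh.pull π) α) (zero_add q) = 0
  rw [h, Ext.comp_zero]

theorem nsmul_eq_zero_of_Hpull [IsFinite π] [Etale π] [PreservesFiniteLimits (EtCoh.pull π)]
    (d : ℕ)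
    (hd : ∀ (Ω : Type u) [Field Ω] [IsAlgClosed Ω] (η : Spec (CommRingCat.of Ω) ⟶ X),
      Nat.card (Lift π η) = d) (F : EtCoh.Ab X) (q : ℕ) (α : EtCoh.H X F q)
    (h : EtCore.Hpull π F q α = 0) : d • α = 0 :=
  nsmul_eq_zero_of_map_eq_zero (EtCoh.pull π) (EtCoh.push π) (adjPP π).counit
    (EtCoh.pullPushAdj π).unit d
    (fun A => (unit_adjPP_counit π A).trans (unit_tr π d hd A)) α
    (mapExt_eq_zero_of_Hpull π F q α h)

theorem Hpull_comp_eq_zero {X'' : Scheme.{u}} (f : X'' ⟶ X') (g : X'' ⟶ X) (hg : f ≫ π = g)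
    [PreservesFiniteLimits (EtCoh.pull π)] [PreservesFiniteLimits (EtCoh.pull f)]
    [PreservesFiniteLimits (EtCoh.pull g)] (F : EtCoh.Ab X) (q : ℕ)
    (α : EtCoh.H X F q) (h : EtCore.Hpull π F q α = 0) : EtCore.Hpull g F q α = 0 := by
  subst hg
  apply Hpull_eq_zero_of_mapExt
  have h0 := mapExt_eq_zero_of_Hpull π F q α h
  have hn := ext_naturality (EtCoh.pull π) (EtCoh.pull f) (EtCoh.pull (f ≫ π))
    (EtCore.pullComp f π).inv q F α
  rw [h0, Ext.mapExactFunctor_zero, Ext.zero_comp] at hn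
  haveI : IsIso ((EtCore.pullComp f π).inv.app (EtCoh.const X ℤ)) := inferInstance
  exact eq_zero_of_mk₀_iso_comp _ _ hn.symm

end Et

end Groth.Agent.Lib.EtTraceH7
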