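import Mathlib
import Groth.Agent.Lib.EtTrace5_helper7
import Groth.Prelude.Def_EtAcyc
import Groth.Agent.Lib.EtDepthEt0_helper7

/-!
# Consequences of restriction–corestriction (helper7)
-/

set_option autoImplicit false
set_option backward.isDefEq.respectTransparency false
set_option linter.style.haveILetI false
set_option linter.unusedSectionVars false
universe u
open CategoryTheory CategoryTheory.Limits AlgebraicGeometry Opposite

namespace Groth.Agent.Lib.EtTraceH7

open Groth.Agent.Lib.EtShriekStalk_helper7 Groth.Agent.Lib.EtOpenShriek_helper7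
  Groth.Agent.Lib.EtFlasque_helper7 Groth.Agent.Lib.EtSchSite_helper7
  EtPullExact

section Torsion

variable {X : Scheme.{u}}

theorem add_app_apply {F G : EtCoh.Ab X} (φ ψ : F ⟶ G) (A : X.Etale) (s : F.obj.obj (op A)) :
    (φ + ψ).hom.app (op A) s = φ.hom.app (op A) s + ψ.hom.app (op A) s := rfl

theorem nsmul_id_app_apply (F : EtCoh.Ab X) (d : ℕ) (A : X.Etale) (s : F.obj.obj (op A)) :
    (d • 𝟙 F).hom.app (op A) s = d • s := by
  induction d with
  | zero =>
    rw [zero_nsmul, zero_nsmul]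
    exact zero_app_apply A s
  | succ k ih =>
    rw [succ_nsmul, succ_nsmul, add_app_apply, ih]
    rfl

theorem eq_zero_of_coprime_nsmul {M : Type*} [AddCommGroup M] (x : M) (a b : ℕ)
    (hab : Nat.Coprime a b) (ha : a • x = 0) (hb : b • x = 0) : x = 0 := by
  have h1 : addOrderOf x ∣ a := addOrderOf_dvd_of_nsmul_eq_zero ha
  have h2 : addOrderOf x ∣ b := addOrderOf_dvd_of_nsmul_eq_zero hb
  have h3 : addOrderOf x ∣ 1 := by
    have := Nat.dvd_gcd h1 h2
    rwa [hab] at this
  exact AddMonoid.addOrderOf_eq_one_iff.1 (Nat.dvd_one.1 h3)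

theorem exists_nsmul_of_coprime {M : Type*} [AddCommGroup M] (x : M) (m d : ℕ)
    (hmd : Nat.Coprime m d) (hm : m • x = 0) : ∃ b : ℤ, x = d • (b • x) := by
  refine ⟨Nat.gcdB m d, ?_⟩
  have h1 : (Nat.gcd m d : ℤ) = m * Nat.gcdA m d + d * Nat.gcdB m d := Nat.gcd_eq_gcd_ab m d
  rw [hmd] at h1
  have h2 : x = ((m : ℤ) * Nat.gcdA m d + (d : ℤ) * Nat.gcdB m d) • x := by
    rw [← h1]
    simp
  have h3 : ((m : ℤ) * Nat.gcdA m d) • x = 0 := by
    rw [mul_comm, mul_smul, natCast_zsmul, hm, smul_zero]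
  rw [add_smul, h3, zero_add, mul_smul, natCast_zsmul] at h2
  exact h2

theorem isIso_nsmul_id (F : EtCoh.Ab X) (d : ℕ)
    (hF : ∀ (U : X.Etale) (s : F.obj.obj (op U)) (x : U.left), ∃ (V : X.Etale) (g : V ⟶ U)
      (m : ℕ), (∃ v : V.left, g.left.base v = x) ∧ Nat.Coprime m d ∧
        m • F.obj.map g.op s = 0) : IsIso (d • 𝟙 F) := by
  haveI : Mono (d • 𝟙 F) := by
    apply Groth.Agent.Lib.EtDepthEtH7.mono_of_sections_injective
    intro A
    rw [injective_iff_map_eq_zero]
    intro s hs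
    rw [nsmul_id_app_apply] at hs
    -- `s` is locally zero
    let R : Sieve A :=
      { arrows := fun W g => F.obj.map g.op s = 0
        downward_closed := by
          intro W W' g hg k
          have e := map_comp_apply F k g s
          exact e.trans ((congrArg (fun z => F.obj.map k.op z) hg).trans (map_zero _)) }
    refine Sheaf.isSeparated F A R ?_ s 0 (fun W g hg =>
      (show F.obj.map g.op s = 0 from hg).trans (map_zero _).symm)
    apply sieve_mem_of_forall_exists
    intro w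
    obtain ⟨V, g, m, ⟨v, hv⟩, hmd, hm⟩ := hF A s w
    refine ⟨V, g, ?_, ⟨v, hv⟩⟩
    have hd0 : d • F.obj.map g.op s = 0 := by
      rw [← map_nsmul, hs, map_zero]
    exact eq_zero_of_coprime_nsmul _ m d hmd hm hd0
  haveI : Epi (d • 𝟙 F) := by
    haveI : Sheaf.IsLocallySurjective (d • 𝟙 F) := by
      refine ⟨fun {A} s => ?_⟩
      apply sieve_mem_of_forall_exists
      intro w
      obtain ⟨V, g, m, ⟨v, hv⟩, hmd, hm⟩ := hF A s w
      obtain ⟨b, hb⟩ := exists_nsmul_of_coprime (F.obj.map g.op s) m d hmd hm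
      refine ⟨V, g, ⟨b • F.obj.map g.op s, ?_⟩, ⟨v, hv⟩⟩
      exact (nsmul_id_app_apply F d V _).trans hb.symm
    infer_instance
  exact isIso_of_mono_of_epi _

end Torsion

section LTors

variable {X X' : Scheme.{u}} (f : X' ⟶ X) [IsFinite f] [Etale f]

theorem main8532 (d : ℕ)
    (hd : ∀ (Ω : Type u) [Field Ω] [IsSepClosed Ω] (ξ : Spec (CommRingCat.of Ω) ⟶ X),
      Nat.card ↥(pullback f ξ) = d)
    (L : Set ℕ) (hL : ∀ p : ℕ, p.Prime → p ∈ L → ¬ p ∣ d) (F : EtCoh.Ab X)
    (hF : EtAcyc.IsLTorsion L F)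
    [PreservesFiniteLimits (EtCoh.pull f)] (q : ℕ)
    (h : Subsingleton (EtCoh.H X' ((EtCoh.pull f).obj F) q)) :
    Subsingleton (EtCoh.H X F q) := by
  haveI : IsIso (d • 𝟙 F) := by
    apply isIso_nsmul_id
    intro U s x
    obtain ⟨V, g, m, hv, ⟨hm0, hmL⟩, hm⟩ := hF U s x
    refine ⟨V, g, m, hv, ?_, hm⟩
    exact Nat.coprime_of_dvd (fun p hp hpm => hL p hp (hmL p hp hpm))
  have key : ∀ α : EtCoh.H X F q, α = 0 := by
    intro α
    have h1 : d • α = 0 := nsmul_eq_zero_of_Hpull f d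
      (fun Ω _ _ η => (card_lift_eq_card_fibre f η).trans (hd Ω η)) F q α
      (Subsingleton.elim _ _)
    apply eq_zero_of_comp_mk₀_iso (d • 𝟙 F) α
    rw [comp_mk₀_nsmul_id]
    exact h1
  exact ⟨fun a b => (key a).trans (key b).symm⟩

end LTors

section Fields

variable (K : Type u) [Field K] (L : Type u) [Field L] [Algebra K L] [FiniteDimensional K L]
  [Algebra.IsSeparable K L]

instance isFinite_specMap :
    IsFinite (Spec.map (CommRingCat.ofHom (algebraMap K L))) :=
  (IsFinite.SpecMap_iff _).2 (RingHom.finite_algebraMap.2 inferInstance)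

instance etale_specMap :
    Etale (Spec.map (CommRingCat.ofHom (algebraMap K L))) := by
  apply HasRingHomProperty.Spec_iff.2
  apply (RingHom.etale_algebraMap).2
  haveI : Algebra.FormallyEtale K L := Algebra.FormallyEtale.of_isSeparable K L
  haveI : Algebra.FinitePresentation K L :=
    Algebra.FinitePresentation.of_finiteType.1 inferInstance
  exact {}

theorem card_lift_specMap {Ω : Type u} [Field Ω] [IsAlgClosed Ω]
    (η : Spec (CommRingCat.of Ω) ⟶ Spec (CommRingCat.of K)) :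
    Nat.card (Lift (Spec.map (CommRingCat.ofHom (algebraMap K L))) η) = Module.finrank K L := by
  rw [card_lift_eq_finrank, Scheme.Hom.finrank_SpecMap_algebraMap,
    Module.rankAtStalk_eq_finrank_of_free]
  rfl

theorem main13842 (F : EtCoh.Ab (Spec (CommRingCat.of K))) (i : ℕ)
    (α : EtCoh.H (Spec (CommRingCat.of K)) F i)
    [PreservesFiniteLimits (EtCoh.pull (Spec.map (CommRingCat.ofHom (algebraMap K L))))]
    (hα : EtCore.Hpull (Spec.map (CommRingCat.ofHom (algebraMap K L))) F i α = 0) :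
    Module.finrank K L • α = 0 :=
  nsmul_eq_zero_of_Hpull (Spec.map (CommRingCat.ofHom (algebraMap K L))) (Module.finrank K L)
    (fun _ _ _ η => card_lift_specMap K L η) F i α hα

end Fields

section PullTorsion

variable {U X : Scheme.{u}} (j : U ⟶ X) [Etale j]

theorem isTorsion_pull (F : EtCoh.Ab X) (hF : EtCoh.IsTorsion F) :
    EtCoh.IsTorsion ((EtCoh.pull j).obj F) := by
  intro V s x
  obtain ⟨e, he⟩ : ∃ e : (EtShriek.restrAlong j).obj F ≅ (EtCoh.pull j).obj F,
      e = (restrIsoPull j).app F := ⟨_, rfl⟩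
  obtain ⟨t, ht⟩ : ∃ t : F.obj.obj (op ((EtShriek.compEtale j).obj V)),
      t = e.inv.hom.app (op V) s := ⟨_, rfl⟩
  have hts : e.hom.hom.app (op V) t = s := by
    rw [ht]
    have h0 := app_comp_apply e.inv e.hom V s
    rw [e.inv_hom_id] at h0
    exact h0.symm.trans rfl
  obtain ⟨W, g, ⟨v, hv⟩, hfin⟩ := hF ((EtShriek.compEtale j).obj V) t x
  obtain ⟨V', e', g', hcomp, hv'⟩ : ∃ (V' : U.Etale) (e' : (EtShriek.compEtale j).obj V' ≅ W)
      (g' : V' ⟶ V), (EtShriek.compEtale j).map g' = e'.hom ≫ g ∧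
        (∃ v' : V'.left, g'.left.base v' = x) := by
    refine ⟨(EtShriek.compEtaleLift j g).1, (EtShriek.compEtaleLift j g).2,
      MorphismProperty.Over.homMk g.left rfl, ?_, ⟨v, hv⟩⟩
    apply MorphismProperty.Over.Hom.ext
    show g.left = 𝟙 _ ≫ g.left
    exact (Category.id_comp _).symm
  refine ⟨V', g', hv', ?_⟩
  · have hnat : ((EtCoh.pull j).obj F).obj.map g'.op s =
        e.hom.hom.app (op V') (F.obj.map ((EtShriek.compEtale j).map g').op t) := by
      rw [← hts]
      exact (app_map_apply e.hom g' t).symm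
    rw [hnat, hcomp]
    have h2 : F.obj.map (e'.hom ≫ g).op t = F.obj.map e'.hom.op (F.obj.map g.op t) :=
      map_comp_apply F e'.hom g t
    rw [h2]
    exact AddMonoidHom.isOfFinAddOrder (e.hom.hom.app (op V')).hom
      (AddMonoidHom.isOfFinAddOrder (F.obj.map e'.hom.op).hom hfin)

end PullTorsion

section CD

variable (k : Type u) [Field k] (K : Type u) [Field K] [Algebra k K]
  [FiniteDimensional k K] [Algebra.IsSeparable k K]

theorem main7736 (p : ℕ) [Fact p.Prime]
    (hdeg : ¬ p ∣ Module.finrank k K) (n : ℕ)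
    (hcd : ∀ (F : EtCoh.Ab (Spec (CommRingCat.of K))), EtCoh.IsTorsion F → ∀ q : ℕ, n < q →
        ∀ x : EtCoh.H (Spec (CommRingCat.of K)) F q, (∃ m : ℕ, p ^ m • x = 0) → x = 0) :
    ∀ (F : EtCoh.Ab (Spec (CommRingCat.of k))), EtCoh.IsTorsion F → ∀ q : ℕ, n < q →
        ∀ x : EtCoh.H (Spec (CommRingCat.of k)) F q, (∃ m : ℕ, p ^ m • x = 0) → x = 0 := by
  intro F hF q hq x ⟨m, hm⟩
  have h1 : EtCore.Hpull (Spec.map (CommRingCat.ofHom (algebraMap k K))) F q x = 0 := by
    apply hcd _ (isTorsion_pull _ F hF) q hq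
    refine ⟨m, ?_⟩
    rw [← map_nsmul, hm, map_zero]
  have h2 := main13842 k K F q x h1
  have hp : p.Prime := Fact.out
  have hcop : Nat.Coprime (Module.finrank k K) (p ^ m) :=
    Nat.Coprime.pow_right m ((Nat.Prime.coprime_iff_not_dvd hp).2 hdeg).symm
  exact eq_zero_of_coprime_nsmul x _ _ hcop h2 hm

end CD

end Groth.Agent.Lib.EtTraceH7
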