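import Mathlib
import Groth.Agent.Lib.EtTrace6_helper7
import Groth.Agent.Lib.EtHpull0_helper7

/-!
# Cohomology classes are étale-locally trivial; Galois cohomology is torsion (helper7)
-/

set_option autoImplicit false
set_option backward.isDefEq.respectTransparency false
set_option linter.style.haveILetI false
set_option linter.unusedSectionVars false
universe u
open CategoryTheory CategoryTheory.Limits AlgebraicGeometry Opposite Abelian

namespace Groth.Agent.Lib.EtTraceH7

open Groth.Agent.Lib.EtFlasque_helper7 Groth.Agent.Lib.EtExtFr_helper7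
  Groth.Agent.Lib.EtOpenShriek_helper7 Groth.Agent.Lib.EtSchSite_helper7
  Groth.Agent.Lib.EtHpull0_helper7 Groth.Agent.Lib.EtSchStalk_helper7 EtPullExact

section LocTriv

variable {X : Scheme.{u}}

theorem exists_of_mem_smallEtaleTopology {W : X.Etale} (R : Sieve W)
    (hR : R ∈ X.smallEtaleTopology W) (w : W.left) :
    ∃ (V : X.Etale) (f : V ⟶ W), R f ∧ w ∈ Set.range f.left := by
  obtain ⟨K, _, _, ξ, l, hl⟩ := exists_geometric_lift W w
  obtain ⟨Y, g, hg, y, hy⟩ := (Scheme.pointSmallEtale ξ).jointly_surjective R hR l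
  refine ⟨Y, g, hg, ?_⟩
  rw [← hl]
  exact mem_range_of_map_eq g y l hy

theorem loc_triv (i : ℕ) : ∀ (F : EtCoh.Ab X) (x : Ext (EtCoh.const X ℤ) F (i + 1)) (p : X),
    ∃ (W : X.Etale) (w : W.left), W.hom w = p ∧
      (Ext.mk₀ (aW W)).comp x (zero_add (i + 1)) = 0 := by
  induction i with
  | zero =>
    intro F x p
    let I : InjectivePresentation F := Classical.arbitrary _
    let S := ShortComplex.mk _ _ (cokernel.condition I.f)
    have hS : S.ShortExact := { exact := ShortComplex.exact_cokernel I.f }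
    haveI : Injective S.X₂ := I.injective
    obtain ⟨y, hy⟩ : ∃ y : Ext (EtCoh.const X ℤ) S.X₃ 0, y.comp hS.extClass rfl = x :=
      Ext.covariant_sequence_exact₁ _ hS x (Ext.eq_zero_of_injective _) rfl
    subst hy
    obtain ⟨χ, rfl⟩ := (Ext.mk₀_bijective _ _).2 y
    haveI : Epi S.g := hS.epi_g
    have hloc : Sheaf.IsLocallySurjective S.g :=
      (Sheaf.isLocallySurjective_iff_epi' _ S.g).2 inferInstance
    have hmem := hloc.imageSieve_mem (U := EtCoh.top X) (Γhom S.X₃ χ)
    obtain ⟨V, f, ⟨t, ht⟩, ⟨v, hv⟩⟩ := exists_of_mem_smallEtaleTopology _ hmem p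
    have hf : f = toTop V := (EtCore.topIsTerminal X).hom_ext _ _
    have hfl : f.left = V.hom := by
      have h1 : f.left ≫ (EtCoh.top X).hom = V.hom := MorphismProperty.Over.w f
      exact (Category.comp_id _).symm.trans h1
    refine ⟨V, v, ?_, ?_⟩
    · rw [← hfl]
      exact hv
    · have hlift : aW V ≫ χ = (frEquiv V S.X₂).symm t ≫ S.g := by
        apply (frEquiv V S.X₃).injective
        rw [frEquiv_aW_comp, frEquiv_comp, Equiv.apply_symm_apply, ← hf]
        exact ht.symm
      rw [Ext.mk₀_comp_mk₀_assoc, hlift, ← Ext.mk₀_comp_mk₀_assoc, hS.comp_extClass,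
        Ext.comp_zero]
  | succ i ih =>
    intro F x p
    let I : InjectivePresentation F := Classical.arbitrary _
    let S := ShortComplex.mk _ _ (cokernel.condition I.f)
    have hS : S.ShortExact := { exact := ShortComplex.exact_cokernel I.f }
    haveI : Injective S.X₂ := I.injective
    obtain ⟨y, hy⟩ : ∃ y : Ext (EtCoh.const X ℤ) S.X₃ (i + 1), y.comp hS.extClass rfl = x :=
      Ext.covariant_sequence_exact₁ _ hS x (Ext.eq_zero_of_injective _) rfl
    subst hy
    obtain ⟨W, w, hw, h0⟩ := ih S.X₃ y p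
    refine ⟨W, w, hw, ?_⟩
    have h1 := Ext.comp_assoc (Ext.mk₀ (aW W)) y hS.extClass (zero_add (i + 1)) rfl
      (show 0 + (i + 1) + 1 = i + 1 + 1 by omega)
    rw [← h1, h0, Ext.zero_comp]

theorem Hpull_loc_triv (i : ℕ) (F : EtCoh.Ab X) (x : EtCoh.H X F (i + 1)) (p : X) :
    ∃ (W : X.Etale) (w : W.left), W.hom w = p ∧ EtCore.Hpull W.hom F (i + 1) x = 0 := by
  obtain ⟨W, w, hw, h0⟩ := loc_triv i F x p
  refine ⟨W, w, hw, ?_⟩
  rw [← ΨW_precomp_aW W F (i + 1) x, h0, map_zero]

end LocTriv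

section Galois

theorem main7743 (k : Type u) [Field k]
    (F : EtCoh.Ab (Spec (CommRingCat.of k))) (i : ℕ) (hi : 0 < i)
    (x : EtCoh.H (Spec (CommRingCat.of k)) F i) : IsOfFinAddOrder x := by
  obtain ⟨i', rfl⟩ : ∃ i', i = i' + 1 := ⟨i - 1, by omega⟩
  obtain ⟨W, w, -, hW⟩ := Hpull_loc_triv i' F x default
  obtain ⟨R, ι, hι, y, hy⟩ := W.left.exists_Spec_apply_eq w
  obtain ⟨ψ, hψ⟩ := Spec.map_surjective (ι ≫ W.hom)
  haveI : Etale W.hom := W.prop
  haveI : IsOpenImmersion ι := hι
  have hE : Etale (Spec.map ψ) := by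
    rw [hψ]
    infer_instance
  have hψE : ψ.hom.Etale := HasRingHomProperty.Spec_iff.1 hE
  letI : Algebra k R := ψ.hom.toAlgebra
  haveI : Algebra.Etale k R := hψE
  haveI : Nontrivial R := (PrimeSpectrum.nonempty_iff_nontrivial).1 ⟨y⟩
  obtain ⟨I, _, Ai, _, _, e, hsep⟩ :=
    (Algebra.FormallyEtale.iff_exists_algEquiv_prod k R).1 inferInstance
  haveI : Nonempty I := by
    by_contra hI
    rw [not_nonempty_iff] at hI
    exact not_subsingleton R e.toEquiv.injective.subsingleton
  obtain ⟨i₀⟩ := ‹Nonempty I›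
  obtain ⟨g, hg⟩ : ∃ g : R →ₐ[k] Ai i₀, Function.Surjective g :=
    ⟨(Pi.evalAlgHom k Ai i₀).comp e.toAlgHom,
      (Function.surjective_eval i₀).comp e.surjective⟩
  haveI : Module.Finite k R := Algebra.FormallyUnramified.finite_of_free k R
  haveI : Module.Finite k (Ai i₀) := Module.Finite.of_surjective g.toLinearMap hg
  haveI := hsep i₀
  have hcomp : (Spec.map (CommRingCat.ofHom g.toRingHom) ≫ ι) ≫ W.hom =
      Spec.map (CommRingCat.ofHom (algebraMap k (Ai i₀))) := by
    rw [Category.assoc, ← hψ, ← Spec.map_comp]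
    congr 1
    ext r
    exact g.commutes r
  have h0 := Hpull_comp_eq_zero W.hom (Spec.map (CommRingCat.ofHom g.toRingHom) ≫ ι) _ hcomp F
    (i' + 1) x hW
  have h1 := main13842 k (Ai i₀) F (i' + 1) x h0
  rw [isOfFinAddOrder_iff_nsmul_eq_zero]
  exact ⟨Module.finrank k (Ai i₀), Module.finrank_pos, h1⟩

end Galois

end Groth.Agent.Lib.EtTraceH7
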