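import Mathlib
import Groth.Agent.Lib.EtShriek2_helper7
import Groth.Agent.Lib.EtFinBC1_helper7
import Groth.Agent.Lib.EtTrace7_helper7

/-!
# Direct image with proper support through a compactification (helper7)

For `j : X ⟶ Xb` an open immersion and `fb : Xb ⟶ Y` proper, `(j ≫ fb)_! ≅ fb_* j_!`.
-/

set_option autoImplicit false
set_option backward.isDefEq.respectTransparency false
set_option linter.style.haveILetI false
set_option linter.unusedSectionVars false
universe u
open CategoryTheory CategoryTheory.Limits AlgebraicGeometry Opposite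

namespace Groth.Agent.Lib.EtShriekH7

open Groth.Agent.Lib.EtSchSite_helper7 Groth.Agent.Lib.EtFinStalkH7
  Groth.Agent.Lib.EtFinGeomH7 Groth.Agent.Lib.EtSchStalk_helper7 ProperOver
  Groth.Agent.Lib.EtPushVanish_helper7 Groth.Agent.Lib.EtSchSupp_helper7
  Groth.Agent.Lib.EtShriekStalk_helper7 Groth.Agent.Lib.EtTraceH7
  Groth.Agent.Lib.EtNbhdFinH4 Groth.Agent.Lib.EtIntH7 Groth.Agent.Lib.EtFinBCH7
  Groth.Agent.Lib.EtOpenShriek_helper7
open Groth.Agent.Lib.EtFlasque_helper7 (app_map_apply map_id_apply app_comp_apply)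

section General

variable {X : Scheme.{u}}

theorem eq_zero_of_locally_zero (H : EtCoh.Ab X) (T : X.Etale) (s : H.obj.obj (op T))
    (h : ∀ v : T.left, ∃ (V : X.Etale) (g : V ⟶ T), v ∈ Set.range g.left ∧
      H.obj.map g.op s = 0) : s = 0 := by
  let R : Sieve T :=
    { arrows := fun W g => H.obj.map g.op s = 0
      downward_closed := by
        intro W W' g hg k
        show H.obj.map (k ≫ g).op s = 0
        rw [map_comp_apply, hg, map_zero] }
  refine Sheaf.isSeparated H T R ?_ s 0 (fun W g hg => (show H.obj.map g.op s = 0 from hg).trans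
    (map_zero _).symm)
  apply sieve_mem_of_forall_exists
  intro w
  obtain ⟨V, g, hv, h0⟩ := h w
  exact ⟨V, g, h0, hv⟩

/-- a morphism into `A` factors through a subobject if it does so locally on sections -/
theorem exists_factor_of_local {S₁ S₂ A : EtCoh.Ab X} (m₁ : S₁ ⟶ A) (m₂ : S₂ ⟶ A) [Mono m₂]
    (h : ∀ (V : X.Etale) (s : S₁.obj.obj (op V)) (v : V.left),
      ∃ (V' : X.Etale) (g : V' ⟶ V), v ∈ Set.range g.left ∧
        ∃ s' : S₂.obj.obj (op V'),
          m₂.hom.app (op V') s' = A.obj.map g.op (m₁.hom.app (op V) s)) :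
    ∃ k : S₁ ⟶ S₂, k ≫ m₂ = m₁ := by
  have h0 : m₁ ≫ cokernel.π m₂ = 0 := by
    ext V s
    refine Eq.trans ?_ (Groth.Agent.Lib.EtFlasque_helper7.zero_app_apply V.unop s).symm
    rw [app_comp_apply]
    apply eq_zero_of_locally_zero
    intro v
    obtain ⟨V', g, hv, s', hs'⟩ := h V.unop s v
    refine ⟨V', g, hv, ?_⟩
    rw [← app_map_apply, ← hs', ← app_comp_apply, cokernel.condition]
    exact Groth.Agent.Lib.EtFlasque_helper7.zero_app_apply V' s'
  exact ⟨Abelian.monoLift m₂ m₁ h0, Abelian.monoLift_comp m₂ m₁ h0⟩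

end General

section ProperOverAux

variable {A B S : Scheme.{u}}

theorem isProperOver_of_comp_sep (a : A ⟶ B) (b : B ⟶ S) [IsSeparated b] (Z : Set A)
    (h : ClSub.IsProperOver (a ≫ b) Z) : ClSub.IsProperOver a Z := by
  obtain ⟨hcl, hp⟩ := h
  refine ⟨hcl, ?_⟩
  haveI : IsProper ((redι Z hcl ≫ a) ≫ b) := by
    rw [Category.assoc]
    exact hp
  exact IsProper.of_comp (redι Z hcl ≫ a) b

theorem isProperOver_comp_proper (a : A ⟶ B) (b : B ⟶ S) [IsProper b] (Z : Set A)
    (h : ClSub.IsProperOver a Z) : ClSub.IsProperOver (a ≫ b) Z := by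
  obtain ⟨hcl, hp⟩ := h
  refine ⟨hcl, ?_⟩
  haveI : IsProper (redι Z hcl ≫ a) := hp
  show IsProper (redι Z hcl ≫ a ≫ b)
  rw [← Category.assoc]
  infer_instance

theorem isProperOver_of_openImmersion (a : A ⟶ B) [IsOpenImmersion a] (Z : Set A)
    (hZ : IsClosed Z) (hC : IsClosed (a '' Z)) : ClSub.IsProperOver a Z := by
  refine ⟨hZ, ?_⟩
  haveI : IsPreimmersion (redι Z hZ ≫ a) := inferInstance
  have hr : Set.range (redι Z hZ ≫ a) = a '' Z := by
    rw [range_comp', range_redι]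
  haveI : IsClosedImmersion (redι Z hZ ≫ a) :=
    IsClosedImmersion.of_isPreimmersion _ (hr ▸ hC)
  show IsProper (redι Z hZ ≫ a)
  infer_instance

end ProperOverAux

section Transport

variable {X Xb Y : Scheme.{u}} (j : X ⟶ Xb) (fb : Xb ⟶ Y)

theorem c₁_c₃ (V : Y.Etale) : c₁ fb j V ≫ c₃ fb j V = 𝟙 _ :=
  (MorphismProperty.Over.pullbackComp (P := EtCoh.etaleMP) (Q := ⊤) j fb).hom_inv_id_app V

theorem c₃_c₁ (V : Y.Etale) : c₃ fb j V ≫ c₁ fb j V = 𝟙 _ :=
  (MorphismProperty.Over.pullbackComp (P := EtCoh.etaleMP) (Q := ⊤) j fb).inv_hom_id_app V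

instance isIso_c₁_left (V : Y.Etale) : IsIso (c₁ fb j V).left :=
  ⟨⟨(c₃ fb j V).left, congrArg (fun m => m.left) (c₁_c₃ j fb V),
    congrArg (fun m => m.left) (c₃_c₁ j fb V)⟩⟩

instance isIso_c₃_left (V : Y.Etale) : IsIso (c₃ fb j V).left :=
  ⟨⟨(c₁ fb j V).left, congrArg (fun m => m.left) (c₃_c₁ j fb V),
    congrArg (fun m => m.left) (c₁_c₃ j fb V)⟩⟩

theorem pushComp_app_apply (F : EtCoh.Ab X) (V : Y.Etale)
    (t : F.obj.obj (op ((EtCoh.bc j).obj ((EtCoh.bc fb).obj V)))) :
    ((EtCoh.pushComp fb j).hom.app F).hom.app (op V) t = F.obj.map (c₁ fb j V).op t := rfl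

/-- transport of proper support from `X ×_Y V` to `X ×_Xb (Xb ×_Y V)` -/
theorem hasProperSupport_c₃ [LocallyOfFiniteType j] [LocallyOfFiniteType fb] [IsSeparated fb]
    (F : EtCoh.Ab X) (V : Y.Etale)
    (t : EtCoh.sect F ((EtCoh.bc (j ≫ fb)).obj V))
    (h : EtShriek.HasProperSupport F ((EtCoh.bc (j ≫ fb)).obj V) t
      (EtShriek.prV (j ≫ fb) V)) :
    EtShriek.HasProperSupport F ((EtCoh.bc j).obj ((EtCoh.bc fb).obj V))
      (F.obj.map (c₃ fb j V).op t) (EtShriek.prV j ((EtCoh.bc fb).obj V)) := by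
  obtain ⟨Z, hZ, hp⟩ := h
  refine ⟨(c₃ fb j V).left ⁻¹' Z, ?_, ?_⟩
  · exact (sectSupp_map_subset_preimage F _ t).trans (Set.preimage_mono hZ)
  · haveI : IsSeparated (pr₁ fb V) := inferInstanceAs (IsSeparated (pullback.fst V.hom fb))
    haveI : LocallyOfFiniteType (pr₁ j ((EtCoh.bc fb).obj V)) :=
      inferInstanceAs (LocallyOfFiniteType (pullback.fst ((EtCoh.bc fb).obj V).hom j))
    haveI : LocallyOfFiniteType (pr₁ fb V) :=
      inferInstanceAs (LocallyOfFiniteType (pullback.fst V.hom fb))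
    haveI : LocallyOfFiniteType (pr₁ j ((EtCoh.bc fb).obj V) ≫ pr₁ fb V) := inferInstance
    apply isProperOver_of_comp_sep (pr₁ j ((EtCoh.bc fb).obj V)) (pr₁ fb V)
    exact isProperOver_preimage_of_isProper (pr₁ j ((EtCoh.bc fb).obj V) ≫ pr₁ fb V)
      (EtShriek.prV (j ≫ fb) V) (c₃ fb j V).left (c₃_fst fb j V) Z hp

/-- transport of proper support from `X ×_Xb (Xb ×_Y V)` to `X ×_Y V` -/
theorem hasProperSupport_c₁ [LocallyOfFiniteType j] [IsProper fb]
    (F : EtCoh.Ab X) (V : Y.Etale)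
    (t : EtCoh.sect F ((EtCoh.bc j).obj ((EtCoh.bc fb).obj V)))
    (h : EtShriek.HasProperSupport F ((EtCoh.bc j).obj ((EtCoh.bc fb).obj V)) t
      (EtShriek.prV j ((EtCoh.bc fb).obj V))) :
    EtShriek.HasProperSupport F ((EtCoh.bc (j ≫ fb)).obj V)
      (F.obj.map (c₁ fb j V).op t) (EtShriek.prV (j ≫ fb) V) := by
  obtain ⟨Z, hZ, hp⟩ := h
  refine ⟨(c₁ fb j V).left ⁻¹' Z, ?_, ?_⟩
  · exact (sectSupp_map_subset_preimage F _ t).trans (Set.preimage_mono hZ)
  · haveI : IsProper (pr₁ fb V) := inferInstanceAs (IsProper (pullback.fst V.hom fb))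
    haveI : LocallyOfFiniteType (EtShriek.prV (j ≫ fb) V) :=
      inferInstanceAs (LocallyOfFiniteType (pullback.fst V.hom (j ≫ fb)))
    exact isProperOver_preimage_of_isProper (EtShriek.prV (j ≫ fb) V)
      (pr₁ j ((EtCoh.bc fb).obj V) ≫ pr₁ fb V) (c₁ fb j V).left (c₁_fst fb j V) Z
      (isProperOver_comp_proper _ _ Z hp)

end Transport

section Closed

variable {X Xb : Scheme.{u}} (j : X ⟶ Xb) [IsOpenImmersion j] [EtShriek.JCont j]

/-- the support of `τ z` is closed in the ambient étale `Xb`-scheme -/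
theorem isClosed_image_supp_tau (F : EtCoh.Ab X) (Wb : Xb.Etale)
    (z : ((EtShriek.extZero j).obj F).obj.obj (op Wb)) :
    IsClosed (pr₁ j Wb '' EtShriek.sectSupp F ((EtCoh.bc j).obj Wb)
      (((tau j).app F).hom.app (op Wb) z)) := by
  obtain ⟨t₀, ht₀⟩ : ∃ t₀ : EtCoh.sect F ((EtCoh.bc j).obj Wb),
      t₀ = ((tau j).app F).hom.app (op Wb) z := ⟨_, rfl⟩
  rw [← ht₀]
  have hcl : IsClosed (EtShriek.sectSupp ((EtCoh.push j).obj F) Wb t₀) :=
    isClosed_sectSupp ((EtCoh.push j).obj F) Wb t₀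
  have heq : pr₁ j Wb '' EtShriek.sectSupp F ((EtCoh.bc j).obj Wb) t₀ =
      EtShriek.sectSupp ((EtCoh.push j).obj F) Wb t₀ := by
    apply Set.Subset.antisymm
    · rintro _ ⟨p, hp, rfl⟩
      intro N g hn h0
      obtain ⟨n, hn⟩ := hn
      have sq := EtCoh.isPullback_bc_map j g
      obtain ⟨z', hz1, hz2⟩ := Scheme.Pullback.exists_preimage_pullback
        (f := (pullback.fst Wb.hom j : ((EtCoh.bc j).obj Wb).left ⟶ Wb.left)) (g := g.left)
        p n hn.symm
      refine hp ((EtCoh.bc j).obj N) ((EtCoh.bc j).map g) ⟨sq.isoPullback.inv z', ?_⟩ h0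
      rw [← hz1]
      exact congrArg (fun (m : pullback (pullback.fst Wb.hom j) g.left ⟶
        ((EtCoh.bc j).obj Wb).left) => m z') sq.isoPullback_inv_fst
    · intro q hq
      -- `q` lies in the image of `pr₁`
      have hqr : q ∈ Set.range (pr₁ j Wb) := by
        by_contra hcon
        obtain ⟨K, _, _, ξ, l, hl⟩ := exists_geometric_lift Wb q
        have hξ : Set.range ξ.base ⊆ (Set.range j.base)ᶜ := by
          rintro _ ⟨pt, rfl⟩ ⟨x, hx⟩
          apply hcon
          have e1 : ξ = l.left ≫ Wb.hom := (Over.w l).symm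
          have e2 : ξ pt = Wb.hom q := by
            rw [Subsingleton.elim pt default, e1]
            exact (Scheme.Hom.comp_apply _ _ _).trans (congrArg (fun y => Wb.hom y) hl)
          obtain ⟨z', hz1, hz2⟩ := Scheme.Pullback.exists_preimage_pullback
            (f := Wb.hom) (g := j) q x (e2.symm.trans hx.symm)
          exact ⟨z', hz1⟩
        have hz := isZero_stalk_extZero j F ξ hξ
        haveI : Subsingleton (ToType ((Scheme.pointSmallEtale ξ).presheafFiber.obj
            ((EtShriek.extZero j).obj F).obj)) :=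
          AddCommGrpCat.subsingleton_of_isZero hz
        have h1 : (Scheme.pointSmallEtale ξ).toPresheafFiber Wb l
            ((EtShriek.extZero j).obj F).obj z = 0 := Subsingleton.elim _ _
        have hN := (Scheme.pointSmallEtale ξ).toPresheafFiber_naturality
          ((tau j).app F).hom Wb l
        have h2 : (Scheme.pointSmallEtale ξ).toPresheafFiber Wb l
            ((EtCoh.push j).obj F).obj (((tau j).app F).hom.app (op Wb) z) =
            (Scheme.pointSmallEtale ξ).presheafFiber.map ((tau j).app F).hom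
              ((Scheme.pointSmallEtale ξ).toPresheafFiber Wb l
                ((EtShriek.extZero j).obj F).obj z) :=
          (comp2_apply _ _ _ hN z).symm
        rw [h1, map_zero, ← ht₀] at h2
        have h3 := not_mem_of_germ_eq_zero ((EtCoh.push j).obj F) Wb t₀ ξ l h2
        rw [hl] at h3
        exact h3 hq
      obtain ⟨p, rfl⟩ := hqr
      refine ⟨p, ?_, rfl⟩
      by_contra hcon
      rw [not_mem_sectSupp_iff] at hcon
      obtain ⟨M, m, ⟨pm, hpm⟩, h0⟩ := hcon
      -- the étale `Xb`-scheme `M → X → Xb` and its map to `Wb`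
      have hw : (m.left ≫ pr₁ j Wb) ≫ Wb.hom = ((EtShriek.compEtale j).obj M).hom := by
        rw [Category.assoc, pr₁_hom, ← Category.assoc]
        exact congrArg (fun k => k ≫ j) (MorphismProperty.Over.w m)
      let g' : (EtShriek.compEtale j).obj M ⟶ Wb :=
        MorphismProperty.Over.homMk (m.left ≫ pr₁ j Wb) hw trivial
      have hpr : pullback.fst ((EtShriek.compEtale j).obj M).hom j ≫ M.hom =
          ((EtCoh.bc j).obj ((EtShriek.compEtale j).obj M)).hom := by
        apply (cancel_mono j).1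
        rw [Category.assoc]
        exact pullback.condition
      let pr : (EtCoh.bc j).obj ((EtShriek.compEtale j).obj M) ⟶ M :=
        MorphismProperty.Over.homMk (pullback.fst ((EtShriek.compEtale j).obj M).hom j)
          hpr trivial
      have key : (EtCoh.bc j).map g' = pr ≫ m := by
        apply MorphismProperty.Over.Hom.ext
        apply bc_hom_ext j Wb
        · rw [map_pr₁]
          exact (Category.assoc _ _ _).symm
        · rw [map_hom]
          have e1 : (pr ≫ m).left ≫ ((EtCoh.bc j).obj Wb).hom =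
              pullback.fst ((EtShriek.compEtale j).obj M).hom j ≫ m.left ≫
                ((EtCoh.bc j).obj Wb).hom := Category.assoc _ _ _
          rw [e1, MorphismProperty.Over.w m]
          exact hpr.symm
      have h0' : ((EtCoh.push j).obj F).obj.map g'.op t₀ = 0 := by
        show F.obj.map ((EtCoh.bc j).map g').op t₀ = 0
        rw [key, map_comp_apply, h0, map_zero]
      refine hq ((EtShriek.compEtale j).obj M) g' ⟨pm, ?_⟩ h0'
      show (m.left ≫ pr₁ j Wb) pm = pr₁ j Wb p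
      rw [← hpm]
      exact Scheme.Hom.comp_apply _ _ _
  rw [heq]
  exact hcl

end Closed

section Main

variable {X Xb Y : Scheme.{u}} (j : X ⟶ Xb) [IsOpenImmersion j] [EtShriek.JCont j]
  (fb : Xb ⟶ Y) [IsProper fb]

/-- the inclusion `fb_* j_! F ⟶ (j ≫ fb)_* F` -/
noncomputable def m2 (F : EtCoh.Ab X) :
    (EtCoh.push fb).obj ((EtShriek.extZero j).obj F) ⟶ (EtCoh.push (j ≫ fb)).obj F :=
  (EtCoh.push fb).map ((tau j).app F) ≫ (EtCoh.pushComp fb j).hom.app F

theorem m2_app_apply (F : EtCoh.Ab X) (V : Y.Etale)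
    (z : ((EtShriek.extZero j).obj F).obj.obj (op ((EtCoh.bc fb).obj V))) :
    (m2 j fb F).hom.app (op V) z =
      F.obj.map (c₁ fb j V).op (((tau j).app F).hom.app (op ((EtCoh.bc fb).obj V)) z) := rfl

instance mono_m2 (F : EtCoh.Ab X) : Mono (m2 j fb F) := by
  haveI : (EtCoh.push fb).IsRightAdjoint := (EtCoh.pullPushAdj fb).isRightAdjoint
  haveI : Mono ((tau j).app F) := mono_tau j F
  haveI : Mono ((EtCoh.push fb).map ((tau j).app F)) := inferInstance
  exact mono_comp _ _

theorem m2_naturality {F G : EtCoh.Ab X} (α : F ⟶ G) :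
    (EtCoh.push fb).map ((EtShriek.extZero j).map α) ≫ m2 j fb G =
      m2 j fb F ≫ (EtCoh.push (j ≫ fb)).map α := by
  have h1 := (EtCoh.pushComp fb j).hom.naturality α
  have h2 := (tau j).naturality α
  have h3 : (EtCoh.push fb).map ((EtShriek.extZero j).map α) ≫
      (EtCoh.push fb).map ((tau j).app G) =
      (EtCoh.push fb).map ((tau j).app F) ≫ (EtCoh.push fb).map ((EtCoh.push j).map α) := by
    rw [← Functor.map_comp, ← Functor.map_comp, h2]
  unfold m2
  rw [← Category.assoc, h3, Category.assoc, Category.assoc]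
  exact congrArg (fun k => (EtCoh.push fb).map ((tau j).app F) ≫ k) h1

/-- sections of `j_* F` with proper support come from `j_! F` -/
theorem exists_tau_eq_section (F : EtCoh.Ab X) (Wb : Xb.Etale)
    (t : EtCoh.sect F ((EtCoh.bc j).obj Wb)) (ht : EtShriek.ShriekPred j F Wb t) :
    ∃ z : ((EtShriek.extZero j).obj F).obj.obj (op Wb),
      ((tau j).app F).hom.app (op Wb) z = t := by
  obtain ⟨x, hx⟩ : ∃ x : EtShriek.shriekSubgroup j F Wb, x.1 = t :=
    ⟨⟨t, (mem_shriekSubgroup_iff j F Wb t).2 ht⟩, rfl⟩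
  obtain ⟨y, hy⟩ : ∃ y : ((EtShriek.lowerShriek j).obj F).obj.obj (op Wb),
      y = (toSheafify Xb.smallEtaleTopology (EtShriek.lowerShriekPre j F)).app (op Wb) x :=
    ⟨_, rfl⟩
  refine ⟨(inv (sigma j F)).hom.app (op Wb) y, ?_⟩
  have h1 : inv (sigma j F) ≫ (tau j).app F = EtShriek.lowerShriekToPush j F := by
    rw [← sigma_toPush, IsIso.inv_hom_id_assoc]
  have h2 : ((tau j).app F).hom.app (op Wb) ((inv (sigma j F)).hom.app (op Wb) y) =
      (EtShriek.lowerShriekToPush j F).hom.app (op Wb) y := by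
    rw [← app_comp_apply, h1]
  rw [h2, hy]
  have h3 := congrArg (fun (m : EtShriek.lowerShriekPre j F ⟶ ((EtCoh.push j).obj F).obj) =>
    m.app (op Wb)) (toSheafify_toPush j F)
  exact (comp2_apply _ _ _ h3 x).trans hx

theorem exists_lift_A (F : EtCoh.Ab X) :
    ∃ k : (EtShriek.lowerShriek (j ≫ fb)).obj F ⟶
        (EtCoh.push fb).obj ((EtShriek.extZero j).obj F),
      k ≫ m2 j fb F = EtShriek.lowerShriekToPush (j ≫ fb) F := by
  apply exists_factor_of_local
  intro V s v
  have hmem := Presheaf.imageSieve_mem Y.smallEtaleTopology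
    (toSheafify Y.smallEtaleTopology (EtShriek.lowerShriekPre (j ≫ fb) F)) s
  obtain ⟨V', g, ⟨t, ht⟩, hv⟩ := exists_of_mem_smallEtaleTopology _ hmem v
  refine ⟨V', g, hv, ?_⟩
  obtain ⟨x, hx⟩ : ∃ x : EtShriek.shriekSubgroup (j ≫ fb) F V', x = t := ⟨_, rfl⟩
  have hpred : EtShriek.ShriekPred (j ≫ fb) F V' x.1 :=
    (mem_shriekSubgroup_iff (j ≫ fb) F V' x.1).1 x.2
  have hps := hasProperSupport_c₃ j fb F V' x.1 ((shriekPred_iff (j ≫ fb) F V' x.1).1 hpred)
  have hpred' : EtShriek.ShriekPred j F ((EtCoh.bc fb).obj V')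
      (F.obj.map (c₃ fb j V').op x.1) := (shriekPred_iff j F _ _).2 hps
  obtain ⟨z, hz⟩ := exists_tau_eq_section j F ((EtCoh.bc fb).obj V') _ hpred'
  refine ⟨z, ?_⟩
  rw [m2_app_apply, hz, ← map_comp_apply, c₁_c₃, map_id_apply, ← app_map_apply]
  have h3 := congrArg (fun (m : EtShriek.lowerShriekPre (j ≫ fb) F ⟶
    ((EtCoh.push (j ≫ fb)).obj F).obj) => m.app (op V')) (toSheafify_toPush (j ≫ fb) F)
  have h4 := comp2_apply _ _ _ h3 t
  rw [ht] at h4
  refine Eq.symm (h4.trans ?_)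
  rw [← hx]
  rfl

theorem exists_lift_B (F : EtCoh.Ab X) :
    ∃ k : (EtCoh.push fb).obj ((EtShriek.extZero j).obj F) ⟶
        (EtShriek.lowerShriek (j ≫ fb)).obj F,
      k ≫ EtShriek.lowerShriekToPush (j ≫ fb) F = m2 j fb F := by
  apply exists_factor_of_local
  intro V z v
  refine ⟨V, 𝟙 V, ⟨v, rfl⟩, ?_⟩
  obtain ⟨t₀, ht₀⟩ : ∃ t₀ : EtCoh.sect F ((EtCoh.bc j).obj ((EtCoh.bc fb).obj V)),
      t₀ = ((tau j).app F).hom.app (op ((EtCoh.bc fb).obj V)) z := ⟨_, rfl⟩
  have hcl := isClosed_image_supp_tau j F ((EtCoh.bc fb).obj V) z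
  rw [← ht₀] at hcl
  haveI : IsOpenImmersion (pr₁ j ((EtCoh.bc fb).obj V)) :=
    inferInstanceAs (IsOpenImmersion (pullback.fst ((EtCoh.bc fb).obj V).hom j))
  have hp0 : EtShriek.HasProperSupport F ((EtCoh.bc j).obj ((EtCoh.bc fb).obj V)) t₀
      (EtShriek.prV j ((EtCoh.bc fb).obj V)) :=
    ⟨_, subset_rfl, isProperOver_of_openImmersion (pr₁ j ((EtCoh.bc fb).obj V)) _
      (isClosed_sectSupp F _ t₀) hcl⟩
  have hps := hasProperSupport_c₁ j fb F V t₀ hp0
  have hpred : EtShriek.ShriekPred (j ≫ fb) F V (F.obj.map (c₁ fb j V).op t₀) :=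
    (shriekPred_iff (j ≫ fb) F V _).2 hps
  obtain ⟨x, hx⟩ : ∃ x : EtShriek.shriekSubgroup (j ≫ fb) F V,
      x.1 = F.obj.map (c₁ fb j V).op t₀ :=
    ⟨⟨_, (mem_shriekSubgroup_iff (j ≫ fb) F V _).2 hpred⟩, rfl⟩
  refine ⟨(toSheafify Y.smallEtaleTopology (EtShriek.lowerShriekPre (j ≫ fb) F)).app (op V) x, ?_⟩
  have h3 := congrArg (fun (m : EtShriek.lowerShriekPre (j ≫ fb) F ⟶
    ((EtCoh.push (j ≫ fb)).obj F).obj) => m.app (op V)) (toSheafify_toPush (j ≫ fb) F)
  rw [map_id_apply, m2_app_apply, ← ht₀]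
  exact (comp2_apply _ _ _ h3 x).trans hx

/-- the comparison isomorphism -/
noncomputable def compIso (F : EtCoh.Ab X) :
    (EtShriek.lowerShriek (j ≫ fb)).obj F ≅ (EtCoh.push fb).obj ((EtShriek.extZero j).obj F) where
  hom := (exists_lift_A j fb F).choose
  inv := (exists_lift_B j fb F).choose
  hom_inv_id := by
    apply (cancel_mono (EtShriek.lowerShriekToPush (j ≫ fb) F)).1
    rw [Category.assoc, (exists_lift_B j fb F).choose_spec, (exists_lift_A j fb F).choose_spec,
      Category.id_comp]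
  inv_hom_id := by
    apply (cancel_mono (m2 j fb F)).1
    rw [Category.assoc, (exists_lift_A j fb F).choose_spec, (exists_lift_B j fb F).choose_spec,
      Category.id_comp]

theorem compIso_hom_m2 (F : EtCoh.Ab X) :
    (compIso j fb F).hom ≫ m2 j fb F = EtShriek.lowerShriekToPush (j ≫ fb) F :=
  (exists_lift_A j fb F).choose_spec

theorem main686' :
    Nonempty (EtShriek.lowerShriek (j ≫ fb) ≅ EtShriek.extZero j ⋙ EtCoh.push fb) := by
  refine ⟨NatIso.ofComponents (fun F => compIso j fb F) ?_⟩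
  intro F G α
  apply (cancel_mono (m2 j fb G)).1
  rw [Category.assoc, compIso_hom_m2, toPush_naturality, Category.assoc]
  have h := m2_naturality j fb α
  have e : (EtShriek.extZero j ⋙ EtCoh.push fb).map α =
      (EtCoh.push fb).map ((EtShriek.extZero j).map α) := rfl
  rw [e, h, ← Category.assoc, compIso_hom_m2]

theorem main686 (f : X ⟶ Y) (hf : f = j ≫ fb) :
    Nonempty (EtShriek.lowerShriek f ≅ EtShriek.extZero j ⋙ EtCoh.push fb) := by
  subst hf
  exact main686' j fb

end Main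

end Groth.Agent.Lib.EtShriekH7
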