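import Mathlib
import Groth.Agent.Lib.TowerSmooth_lead

open TensorProduct KaehlerDifferential

namespace Groth.Agent.Lib.TowerSmooth

section general

variable {C T k M N : Type*} [CommRing C] [CommRing T] [CommRing k] [Algebra C T] [Algebra T k]
  [Algebra C k] [IsScalarTower C T k]
  [AddCommGroup M] [Module C M] [AddCommGroup N] [Module C N]

theorem lTensor_baseChange_injective_iff (φ : M →ₗ[C] N) :
    Function.Injective ((φ.baseChange T).lTensor k) ↔ Function.Injective (φ.lTensor k) := by
  let eM := AlgebraTensorModule.cancelBaseChange C T k k M
  let eN := AlgebraTensorModule.cancelBaseChange C T k k N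
  have hsq : ∀ z, eN ((φ.baseChange T).lTensor k z) = φ.lTensor k (eM z) := by
    intro z
    induction z using TensorProduct.induction_on with
    | zero => simp
    | add x y hx hy => simp only [map_add, hx, hy]
    | tmul x y =>
      induction y using TensorProduct.induction_on with
      | zero => simp
      | add a b ha hb => simp only [tmul_add, map_add, ha, hb]
      | tmul t m => simp [eM, eN]
  have hfun : ⇑eN ∘ ⇑((φ.baseChange T).lTensor k) = ⇑(φ.lTensor k) ∘ ⇑eM := funext hsq
  rw [← EquivLike.comp_injective _ eN, hfun, EquivLike.injective_comp]

end general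

section kaehler

variable (A B C : Type*) [CommRing A] [CommRing B] [CommRing C] [Algebra A B] [Algebra B C]
  [Algebra A C] [IsScalarTower A B C]
variable (T : Type*) [CommRing T] [Algebra C T] [Algebra B T] [Algebra A T] [IsScalarTower A C T]
  [IsScalarTower B C T] [IsScalarTower A B T]

theorem map_map (ω : Ω[B⁄A]) :
    KaehlerDifferential.map A A C T (KaehlerDifferential.map A A B C ω) =
      KaehlerDifferential.map A A B T ω := by
  have hω : ω ∈ Submodule.span B (Set.range (D A B)) := by
    rw [KaehlerDifferential.span_range_derivation]; trivial
  induction hω using Submodule.span_induction with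
  | mem x hx =>
    obtain ⟨b, rfl⟩ := hx
    rw [KaehlerDifferential.map_D, KaehlerDifferential.map_D, KaehlerDifferential.map_D,
      ← IsScalarTower.algebraMap_apply]
  | zero => simp
  | add x y _ _ hx hy => rw [map_add, map_add, map_add, hx, hy]
  | smul b x _ hx =>
    have e1 : KaehlerDifferential.map A A B C (b • x) =
        algebraMap B C b • KaehlerDifferential.map A A B C x := by
      rw [LinearMap.map_smul, algebraMap_smul]
    have e2 : KaehlerDifferential.map A A B T (b • x) =
        b • KaehlerDifferential.map A A B T x := LinearMap.map_smul _ _ _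
    rw [e1, e2, LinearMap.map_smul, hx, algebraMap_smul]

theorem square (z : T ⊗[C] (C ⊗[B] Ω[B⁄A])) :
    mapBaseChange A B T (AlgebraTensorModule.cancelBaseChange B C T T Ω[B⁄A] z) =
      mapBaseChange A C T ((mapBaseChange A B C).baseChange T z) := by
  induction z using TensorProduct.induction_on with
  | zero => simp
  | add x y hx hy => simp only [map_add, hx, hy]
  | tmul t y =>
    induction y using TensorProduct.induction_on with
    | zero => simp
    | add a b ha hb => simp only [tmul_add, map_add, ha, hb]
    | tmul c ω =>
      rw [AlgebraTensorModule.cancelBaseChange_tmul, LinearMap.baseChange_tmul, mapBaseChange_tmul,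
        mapBaseChange_tmul, mapBaseChange_tmul, map_smul, map_map, Algebra.smul_def, mul_comm,
        mul_smul, algebraMap_smul]

end kaehler

universe u

theorem isSmoothAt_iff (A B C : Type u) [CommRing A] [CommRing B]
    [CommRing C] [Algebra A B] [Algebra B C] [Algebra A C] [IsScalarTower A B C]
    [Algebra.FinitePresentation A B] [Algebra.FinitePresentation A C] (q : Ideal C) [q.IsPrime]
    (hC : Algebra.IsSmoothAt A q) :
    Algebra.IsSmoothAt B q ↔
      Function.Injective ((KaehlerDifferential.mapBaseChange A B C).lTensor q.ResidueField) := by
  haveI : Algebra.FormallySmooth A (Localization.AtPrime q) := hC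
  haveI : Algebra.FormallyEtale C (Localization.AtPrime q) :=
    Algebra.FormallyEtale.of_isLocalization q.primeCompl
  haveI : Module.Free (Localization.AtPrime q) Ω[Localization.AtPrime q⁄A] :=
    Module.free_of_flat_of_isLocalRing
  have h1 : Algebra.IsSmoothAt B q ↔
      ∃ r : Ω[Localization.AtPrime q⁄A] →ₗ[Localization.AtPrime q]
        Localization.AtPrime q ⊗[B] Ω[B⁄A],
        r ∘ₗ mapBaseChange A B (Localization.AtPrime q) = LinearMap.id := by
    have := smooth_tower_iff A B (Localization.AtPrime q)
    constructor
    · intro h; exact (this.mp ⟨h, hC⟩).2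
    · intro h; exact (this.mpr ⟨hC, h⟩).1
  rw [h1, IsLocalRing.split_injective_iff_lTensor_residueField_injective,
    ← lTensor_baseChange_injective_iff (T := Localization.AtPrime q) (k := q.ResidueField)
      (mapBaseChange A B C)]
  let iso₁ := AlgebraTensorModule.cancelBaseChange B C (Localization.AtPrime q)
    (Localization.AtPrime q) Ω[B⁄A]
  let iso₂ := tensorKaehlerEquivOfFormallyEtale A C (Localization.AtPrime q)
  have hsq : (mapBaseChange A B (Localization.AtPrime q)) ∘ₗ iso₁.toLinearMap =
      iso₂.toLinearMap ∘ₗ ((mapBaseChange A B C).baseChange (Localization.AtPrime q)) := by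
    apply LinearMap.ext; intro z
    exact square A B C (Localization.AtPrime q) z
  have hsq' : ⇑((mapBaseChange A B (Localization.AtPrime q)).lTensor q.ResidueField) ∘
        ⇑(iso₁.lTensor q.ResidueField) =
      ⇑(iso₂.lTensor q.ResidueField) ∘
        ⇑(((mapBaseChange A B C).baseChange (Localization.AtPrime q)).lTensor q.ResidueField) := by
    funext z
    have := congrArg (fun f => LinearMap.lTensor q.ResidueField f z) hsq
    simp only [LinearMap.lTensor_comp, LinearMap.comp_apply] at this
    exact this
  rw [← EquivLike.injective_comp (iso₁.lTensor q.ResidueField), hsq', EquivLike.comp_injective]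

end Groth.Agent.Lib.TowerSmooth
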