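import Mathlib
import Groth.Agent.Lib.TowerSmooth2_lead

/-!
# Étale coordinates at a smooth point from a basis of differentials (lead)
-/

set_option autoImplicit false
universe u

open TensorProduct KaehlerDifferential Module

namespace Groth.Agent.Lib.EtChart

section congr

variable {R : Type*} [CommRing R] {K K' M N : Type*} [AddCommGroup K] [Module R K]
  [AddCommGroup K'] [Module R K'] [AddCommGroup M] [Module R M] [AddCommGroup N] [Module R N]

theorem lTensor_injective_congr (e : K ≃ₗ[R] K') (f : M →ₗ[R] N) :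
    Function.Injective (f.lTensor K) ↔ Function.Injective (f.lTensor K') := by
  have hsq : ⇑(TensorProduct.congr e (LinearEquiv.refl R N)) ∘ ⇑(f.lTensor K) =
      ⇑(f.lTensor K') ∘ ⇑(TensorProduct.congr e (LinearEquiv.refl R M)) := by
    funext z
    induction z using TensorProduct.induction_on with
    | zero => simp
    | tmul a b => rfl
    | add a b ha hb =>
      simp only [Function.comp_apply, map_add] at ha hb ⊢
      rw [ha, hb]
  rw [← EquivLike.comp_injective _ (TensorProduct.congr e (LinearEquiv.refl R N)), hsq,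
    EquivLike.injective_comp]

theorem subsingleton_tensor_congr (e : K ≃ₗ[R] K') :
    Subsingleton (K ⊗[R] M) ↔ Subsingleton (K' ⊗[R] M) :=
  (TensorProduct.congr e (LinearEquiv.refl R M)).toEquiv.subsingleton_congr

end congr

/-- If `dx₁, …, dx_d` are linearly independent in `κ(m) ⊗ Ω_{R/k}`, with `d` the dimension of that
space, and `R` is smooth over `k` at the maximal ideal `m`, then `k[X₁..X_d] → R`, `Xᵢ ↦ xᵢ` is étale
on a principal open neighbourhood of `m`. -/
theorem exists_etale_of_linearIndependent (k R : Type u) [CommRing k] [CommRing R] [Algebra k R]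
    [Algebra.FinitePresentation k R] (m : Ideal R) [m.IsMaximal] [Algebra.IsSmoothAt k m] (d : ℕ)
    (hdim : Module.finrank (R ⧸ m) ((R ⧸ m) ⊗[R] Ω[R⁄k]) = d) (hd : 0 < d)
    (x : Fin d → R)
    (hx : LinearIndependent (R ⧸ m) (fun i => (1 : R ⧸ m) ⊗ₜ[R] D k R (x i))) :
    ∃ g : R, g ∉ m ∧
      (((IsScalarTower.toAlgHom k R (Localization.Away g)).comp
        (MvPolynomial.aeval x : MvPolynomial (Fin d) k →ₐ[k] R)).toRingHom).Etale := by
  classical
  letI : Field (R ⧸ m) := Ideal.Quotient.field m
  let φ₀ : MvPolynomial (Fin d) k →ₐ[k] R := MvPolynomial.aeval x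
  letI : Algebra (MvPolynomial (Fin d) k) R := φ₀.toRingHom.toAlgebra
  haveI : IsScalarTower k (MvPolynomial (Fin d) k) R :=
    IsScalarTower.of_algebraMap_eq (fun a => (φ₀.commutes a).symm)
  have halg : ∀ q : MvPolynomial (Fin d) k, algebraMap (MvPolynomial (Fin d) k) R q = φ₀ q :=
    fun _ => rfl
  haveI : Algebra.FinitePresentation (MvPolynomial (Fin d) k) R :=
    Algebra.FinitePresentation.of_restrict_scalars_finitePresentation k _ R
  haveI : Module.Finite (R ⧸ m) ((R ⧸ m) ⊗[R] Ω[R⁄k]) :=
    Module.finite_of_finrank_pos (by rw [hdim]; exact hd)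
  -- the `κ`-linear map and the basis of the source
  let L : (R ⧸ m) ⊗[R] (R ⊗[MvPolynomial (Fin d) k] Ω[MvPolynomial (Fin d) k⁄k]) →ₗ[R ⧸ m]
      (R ⧸ m) ⊗[R] Ω[R⁄k] := (mapBaseChange k (MvPolynomial (Fin d) k) R).baseChange (R ⧸ m)
  let b : Basis (Fin d) (R ⧸ m)
      ((R ⧸ m) ⊗[R] (R ⊗[MvPolynomial (Fin d) k] Ω[MvPolynomial (Fin d) k⁄k])) :=
    ((mvPolynomialBasis k (Fin d)).baseChange R).baseChange (R ⧸ m)
  have hLb : ∀ i, L (b i) = (1 : R ⧸ m) ⊗ₜ[R] D k R (x i) := by
    intro i
    simp only [b, L, Basis.baseChange_apply, LinearMap.baseChange_tmul, mvPolynomialBasis_apply,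
      mapBaseChange_tmul, one_smul, map_D]
    rw [halg]
    show (1 : R ⧸ m) ⊗ₜ[R] D k R (MvPolynomial.aeval x (MvPolynomial.X i)) = _
    rw [MvPolynomial.aeval_X]
  have hLinj : Function.Injective L := by
    rw [injective_iff_map_eq_zero]
    intro z hz
    rw [← b.sum_repr z, map_sum] at hz
    simp only [map_smul, hLb] at hz
    have h0 := Fintype.linearIndependent_iff.mp hx (fun i => b.repr z i) hz
    rw [← b.sum_repr z]
    exact Finset.sum_eq_zero fun i _ => by rw [h0 i, zero_smul]
  have hLsurj : Function.Surjective L := by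
    have hspan := hx.span_eq_top_of_card_eq_finrank' (by rw [Fintype.card_fin, hdim])
    rw [← LinearMap.range_eq_top, eq_top_iff, ← hspan, Submodule.span_le]
    rintro _ ⟨i, rfl⟩
    exact ⟨b i, hLb i⟩
  -- transfer to `m.ResidueField`
  let eκ : (R ⧸ m) ≃ₗ[R] m.ResidueField :=
    LinearEquiv.ofBijective ((Algebra.linearMap (R ⧸ m) m.ResidueField).restrictScalars R)
      m.bijective_algebraMap_quotient_residueField
  have hL' : ⇑L = ⇑((mapBaseChange k (MvPolynomial (Fin d) k) R).lTensor (R ⧸ m)) := rfl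
  -- smooth at `m`
  have hsm : Algebra.IsSmoothAt (MvPolynomial (Fin d) k) m := by
    rw [Groth.Agent.Lib.TowerSmooth.isSmoothAt_iff k (MvPolynomial (Fin d) k) R m inferInstance,
      ← lTensor_injective_congr eκ, ← hL']
    exact hLinj
  -- unramified at `m`
  have hsub : Subsingleton ((R ⧸ m) ⊗[R] Ω[R⁄MvPolynomial (Fin d) k]) := by
    have hex := KaehlerDifferential.exact_mapBaseChange_map k (MvPolynomial (Fin d) k) R
    have hsurj := KaehlerDifferential.map_surjective k (MvPolynomial (Fin d) k) R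
    have hex' := lTensor_exact (R ⧸ m) hex hsurj
    have hsurj' := LinearMap.lTensor_surjective (R ⧸ m) hsurj
    refine ⟨fun a c => ?_⟩
    suffices h : ∀ a : (R ⧸ m) ⊗[R] Ω[R⁄MvPolynomial (Fin d) k], a = 0 by rw [h a, h c]
    intro a
    obtain ⟨w, rfl⟩ := hsurj' a
    obtain ⟨u, rfl⟩ := hLsurj w
    exact (hex' _).mpr ⟨u, rfl⟩
  have hsub' : Subsingleton (m.ResidueField ⊗[R] Ω[R⁄MvPolynomial (Fin d) k]) :=
    (subsingleton_tensor_congr eκ).mp hsub
  haveI : Algebra.FormallyEtale R (Localization.AtPrime m) :=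
    Algebra.FormallyEtale.of_isLocalization m.primeCompl
  have hsub'' : Subsingleton (Localization.AtPrime m ⊗[R] Ω[R⁄MvPolynomial (Fin d) k]) := by
    rw [← IsLocalRing.subsingleton_tensorProduct (R := Localization.AtPrime m)]
    exact (AlgebraTensorModule.cancelBaseChange R (Localization.AtPrime m) (Localization.AtPrime m)
      m.ResidueField Ω[R⁄MvPolynomial (Fin d) k]).toEquiv.subsingleton_congr.mpr hsub'
  haveI : Subsingleton Ω[Localization.AtPrime m⁄MvPolynomial (Fin d) k] :=
    (tensorKaehlerEquivOfFormallyEtale (MvPolynomial (Fin d) k) R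
      (Localization.AtPrime m)).toEquiv.subsingleton_congr.mp hsub''
  haveI : Algebra.FormallyUnramified (MvPolynomial (Fin d) k) (Localization.AtPrime m) :=
    ⟨inferInstance⟩
  haveI : Algebra.FormallySmooth (MvPolynomial (Fin d) k) (Localization.AtPrime m) := hsm
  haveI : Algebra.IsEtaleAt (MvPolynomial (Fin d) k) m :=
    Algebra.FormallyEtale.iff_formallyUnramified_and_formallySmooth.mpr ⟨inferInstance, inferInstance⟩
  obtain ⟨g, hg, hstd⟩ := Algebra.IsEtaleAt.exists_isStandardEtale (R := MvPolynomial (Fin d) k) m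
  refine ⟨g, hg, ?_⟩
  have hφ : ((IsScalarTower.toAlgHom k R (Localization.Away g)).comp φ₀).toRingHom =
      algebraMap (MvPolynomial (Fin d) k) (Localization.Away g) := by
    refine RingHom.ext fun q => ?_
    show algebraMap R (Localization.Away g) (φ₀ q) = _
    rw [IsScalarTower.algebraMap_apply (MvPolynomial (Fin d) k) R (Localization.Away g), halg]
  show ((IsScalarTower.toAlgHom k R (Localization.Away g)).comp φ₀).toRingHom.Etale
  rw [hφ, RingHom.etale_algebraMap]
  infer_instance

end Groth.Agent.Lib.EtChart
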