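import Mathlib
import Groth.Agent.Lib.EtChart_lead

/-!
# Étale coordinates at a smooth point with finite residue field, inducing an isomorphism of residue
fields (lead)
-/

set_option autoImplicit false
universe u

open TensorProduct KaehlerDifferential Module

namespace Groth.Agent.Lib.EtChart

theorem exists_etale_chart_of_finite_residueField
    (k : Type u) [CommRing k] [IsLocalRing k] [Finite (IsLocalRing.ResidueField k)]
    (R : Type u) [CommRing R] [Algebra k R] [Algebra.FinitePresentation k R]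
    (m : Ideal R) [m.IsMaximal] (hm : m.comap (algebraMap k R) = IsLocalRing.maximalIdeal k)
    [Algebra.IsSmoothAt k m] (d : ℕ) (hd : 0 < d)
    (hdim : Module.finrank (R ⧸ m) ((R ⧸ m) ⊗[R] Ω[R⁄k]) = d) :
    ∃ g : R, g ∉ m ∧ ∃ φ : MvPolynomial (Fin d) k →ₐ[k] Localization.Away g,
      φ.toRingHom.Etale ∧
      Function.Surjective
        ((Ideal.Quotient.mk (m.map (algebraMap R (Localization.Away g)))).comp φ.toRingHom) := by
  classical
  letI : Field (R ⧸ m) := Ideal.Quotient.field m
  -- finiteness of the residue field of `m`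
  let ψ : IsLocalRing.ResidueField k →+* R ⧸ m :=
    Ideal.Quotient.lift (IsLocalRing.maximalIdeal k) ((Ideal.Quotient.mk m).comp (algebraMap k R))
      (fun a ha => by
        rw [← hm] at ha
        exact Ideal.Quotient.eq_zero_iff_mem.mpr ha)
  letI : Algebra (IsLocalRing.ResidueField k) (R ⧸ m) := ψ.toAlgebra
  haveI : IsScalarTower k (IsLocalRing.ResidueField k) (R ⧸ m) :=
    IsScalarTower.of_algebraMap_eq (fun a => rfl)
  haveI : Algebra.FiniteType k (R ⧸ m) :=
    Algebra.FiniteType.of_surjective (Ideal.Quotient.mkₐ k m) (Ideal.Quotient.mkₐ_surjective k m)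
  haveI : Algebra.FiniteType (IsLocalRing.ResidueField k) (R ⧸ m) :=
    Algebra.FiniteType.of_restrictScalars_finiteType k _ _
  haveI : Module.Finite (IsLocalRing.ResidueField k) (R ⧸ m) :=
    finite_of_finite_type_of_isJacobsonRing (IsLocalRing.ResidueField k) (R ⧸ m)
  haveI : Finite (R ⧸ m) := Module.finite_of_finite (IsLocalRing.ResidueField k)
  -- choose differentials forming a basis
  have hspan : Submodule.span (R ⧸ m)
      (TensorProduct.mk R (R ⧸ m) Ω[R⁄k] 1 '' Set.range (D k R)) = ⊤ := by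
    rw [← Submodule.baseChange_span, KaehlerDifferential.span_range_derivation,
      Submodule.baseChange_top]
  obtain ⟨f, hfs, -, hfli⟩ := Submodule.exists_fun_fin_finrank_span_eq (R ⧸ m)
    (TensorProduct.mk R (R ⧸ m) Ω[R⁄k] 1 '' Set.range (D k R))
  have hcard : Module.finrank (R ⧸ m) (Submodule.span (R ⧸ m)
      (TensorProduct.mk R (R ⧸ m) Ω[R⁄k] 1 '' Set.range (D k R))) = d := by
    rw [hspan, finrank_top, hdim]
  have hfli' : LinearIndependent (R ⧸ m) (f ∘ Fin.cast hcard.symm) :=
    hfli.comp _ (Fin.cast_injective _)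
  have hy : ∀ i : Fin d, ∃ r : R, (1 : R ⧸ m) ⊗ₜ[R] D k R r = f (Fin.cast hcard.symm i) := by
    intro i
    obtain ⟨ω, ⟨r, rfl⟩, hω⟩ := hfs (Fin.cast hcard.symm i)
    exact ⟨r, hω⟩
  choose y hy using hy
  -- finite field facts
  obtain ⟨p, hp⟩ := CharP.exists (R ⧸ m)
  haveI := hp
  haveI : Fact p.Prime := ⟨CharP.char_is_prime (R ⧸ m) p⟩
  haveI : ExpChar (R ⧸ m) p := ExpChar.prime Fact.out
  obtain ⟨θ, hθ⟩ := IsCyclic.exists_generator (α := (R ⧸ m)ˣ)
  let i₀ : Fin d := ⟨0, hd⟩
  obtain ⟨tbar, htbar⟩ := surjective_frobenius (R ⧸ m) p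
    ((θ : R ⧸ m) - Ideal.Quotient.mk m (y i₀))
  obtain ⟨t, rfl⟩ := Ideal.Quotient.mk_surjective tbar
  rw [frobenius_def] at htbar
  let x : Fin d → R := Function.update y i₀ (y i₀ + t ^ p)
  have hxi₀ : Ideal.Quotient.mk m (x i₀) = (θ : R ⧸ m) := by
    show Ideal.Quotient.mk m (Function.update y i₀ (y i₀ + t ^ p) i₀) = _
    rw [Function.update_self, map_add, map_pow, htbar]
    ring
  have hDx : ∀ i, (1 : R ⧸ m) ⊗ₜ[R] D k R (x i) = f (Fin.cast hcard.symm i) := by
    intro i
    rw [← hy i]
    by_cases hi : i = i₀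
    · subst hi
      show (1 : R ⧸ m) ⊗ₜ[R] D k R (Function.update y i₀ (y i₀ + t ^ p) i₀) = _
      rw [Function.update_self, map_add, tmul_add, Derivation.leibniz_pow,
        ← Nat.cast_smul_eq_nsmul R p, ← TensorProduct.smul_tmul, Algebra.smul_def, map_natCast,
        CharP.cast_eq_zero, zero_mul, zero_tmul, add_zero]
    · show (1 : R ⧸ m) ⊗ₜ[R] D k R (Function.update y i₀ (y i₀ + t ^ p) i) = _
      rw [Function.update_of_ne hi]
  have hx : LinearIndependent (R ⧸ m) (fun i => (1 : R ⧸ m) ⊗ₜ[R] D k R (x i)) := by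
    have : (fun i => (1 : R ⧸ m) ⊗ₜ[R] D k R (x i)) = f ∘ Fin.cast hcard.symm := funext hDx
    rw [this]
    exact hfli'
  obtain ⟨g, hg, het⟩ := exists_etale_of_linearIndependent k R m d hdim hd x hx
  refine ⟨g, hg, (IsScalarTower.toAlgHom k R (Localization.Away g)).comp (MvPolynomial.aeval x),
    het, ?_⟩
  -- surjectivity onto the residue field
  have claim1 : ∀ w : Localization.Away g, ∃ r : R,
      w - algebraMap R (Localization.Away g) r ∈ m.map (algebraMap R (Localization.Away g)) := by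
    intro w
    obtain ⟨a, ⟨_, n, rfl⟩, rfl⟩ := IsLocalization.exists_mk'_eq (Submonoid.powers g) w
    have hgn : Ideal.Quotient.mk m (g ^ n) ≠ 0 := by
      rw [Ne, Ideal.Quotient.eq_zero_iff_mem]
      exact fun h => hg (Ideal.IsPrime.mem_of_pow_mem inferInstance n h)
    obtain ⟨b, hb⟩ := Ideal.Quotient.mk_surjective (Ideal.Quotient.mk m (g ^ n))⁻¹
    have hb1 : g ^ n * b - 1 ∈ m := by
      rw [← Ideal.Quotient.eq_zero_iff_mem, map_sub, map_mul, hb, map_one,
        mul_inv_cancel₀ hgn, sub_self]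
    refine ⟨a * b, ?_⟩
    have hu : IsUnit (algebraMap R (Localization.Away g) (g ^ n)) := by
      rw [map_pow]
      exact (IsLocalization.Away.algebraMap_isUnit g).pow n
    have h1 : algebraMap R (Localization.Away g) (g ^ n) *
        (IsLocalization.mk' (Localization.Away g) a
          (⟨g ^ n, n, rfl⟩ : Submonoid.powers g) - algebraMap R (Localization.Away g) (a * b)) =
        algebraMap R (Localization.Away g) (-(a * (g ^ n * b - 1))) := by
      rw [mul_sub, mul_comm _ (IsLocalization.mk' _ _ _)]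
      have := IsLocalization.mk'_spec (Localization.Away g) a (⟨g ^ n, n, rfl⟩ : Submonoid.powers g)
      rw [this, ← map_mul, ← map_sub]
      congr 1
      ring
    have h2 : algebraMap R (Localization.Away g) (-(a * (g ^ n * b - 1))) ∈
        m.map (algebraMap R (Localization.Away g)) :=
      Ideal.mem_map_of_mem _ (neg_mem (Ideal.mul_mem_left _ _ hb1))
    rw [← h1] at h2
    have h3 := Ideal.mul_mem_left _ (↑hu.unit⁻¹ : Localization.Away g) h2
    rwa [← mul_assoc, IsUnit.val_inv_mul, one_mul] at h3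
  have claim2 : ∀ r : R, ∃ q : MvPolynomial (Fin d) k, r - MvPolynomial.aeval x q ∈ m := by
    intro r
    by_cases hr : Ideal.Quotient.mk m r = 0
    · exact ⟨0, by rw [map_zero, sub_zero]; exact Ideal.Quotient.eq_zero_iff_mem.mp hr⟩
    · have hmem : Units.mk0 _ hr ∈ Subgroup.zpowers θ := hθ _
      rw [← mem_powers_iff_mem_zpowers] at hmem
      obtain ⟨j, hj⟩ := hmem
      refine ⟨MvPolynomial.X i₀ ^ j, ?_⟩
      rw [← Ideal.Quotient.eq_zero_iff_mem, map_sub, map_pow, MvPolynomial.aeval_X, map_pow, hxi₀,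
        sub_eq_zero]
      have := congrArg (fun u : (R ⧸ m)ˣ => (u : R ⧸ m)) hj
      simp only [Units.val_pow_eq_pow_val, Units.val_mk0] at this
      exact this.symm
  intro z
  obtain ⟨w, rfl⟩ := Ideal.Quotient.mk_surjective z
  obtain ⟨r, hr⟩ := claim1 w
  obtain ⟨q, hq⟩ := claim2 r
  refine ⟨q, ?_⟩
  show Ideal.Quotient.mk _ (algebraMap R (Localization.Away g) (MvPolynomial.aeval x q)) = _
  rw [eq_comm, Ideal.Quotient.eq]
  have h4 : algebraMap R (Localization.Away g) (r - MvPolynomial.aeval x q) ∈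
      m.map (algebraMap R (Localization.Away g)) := Ideal.mem_map_of_mem _ hq
  have : w - algebraMap R (Localization.Away g) (MvPolynomial.aeval x q) =
      (w - algebraMap R (Localization.Away g) r) +
        algebraMap R (Localization.Away g) (r - MvPolynomial.aeval x q) := by
    rw [map_sub]; ring
  rw [this]
  exact add_mem hr h4

end Groth.Agent.Lib.EtChart
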