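import Mathlib
import Groth.Prelude.Def_EtShriek2
import Groth.Agent.Lib.EtPushVanish_helper7

/-!
# Sections with support in a closed subscheme of an injective sheaf (helper7)
-/

set_option autoImplicit false
set_option backward.isDefEq.respectTransparency false
universe u
open CategoryTheory CategoryTheory.Limits AlgebraicGeometry Opposite

namespace Groth.Agent.Lib.EtSuppInj_helper7

open Groth.Agent.Lib.EtSchExact_helper7 Groth.Agent.Lib.EtPushClosed_helper7
  Groth.Agent.Lib.EtClosedPush_helper7 Groth.Agent.Lib.EtOpenShriek_helper7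
  Groth.Agent.Lib.EtPushVanish_helper7

theorem isIso_stalk_unit_imm {Z X : Scheme.{u}} (i : Z ⟶ X) [IsImmersion i] (F : EtCoh.Ab X)
    {Ω : Type u} [Field Ω] [IsSepClosed Ω] (ζ : Spec (CommRingCat.of Ω) ⟶ Z) :
    IsIso ((EtCoh.stalk (ζ ≫ i)).map ((EtCoh.pullPushAdj i).unit.app F)) := by
  haveI : IsIso ((EtCoh.pull i).map ((EtCoh.pullPushAdj i).unit.app F)) := by
    have h4 := (EtCoh.pullPushAdj i).left_triangle_components F
    haveI := isIso_counit_ab i ((EtCoh.pull i).obj F)
    haveI : IsIso ((EtCoh.pull i).map ((EtCoh.pullPushAdj i).unit.app F) ≫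
        (EtCoh.pullPushAdj i).counit.app ((EtCoh.pull i).obj F)) := by
      rw [h4]; exact IsIso.id _
    exact IsIso.of_isIso_comp_right _
      ((EtCoh.pullPushAdj i).counit.app ((EtCoh.pull i).obj F))
  haveI : IsIso ((EtCoh.pull i ⋙ EtCoh.stalk ζ).map ((EtCoh.pullPushAdj i).unit.app F)) := by
    show IsIso ((EtCoh.stalk ζ).map ((EtCoh.pull i).map ((EtCoh.pullPushAdj i).unit.app F)))
    infer_instance
  exact (NatIso.isIso_map_iff (EtStalkPull.stalkPullIso i ζ) _).1 inferInstance

variable {Z X U : Scheme.{u}} (i : Z ⟶ X) [IsClosedImmersion i] (j : U ⟶ X) [IsOpenImmersion j]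
  (hZU : Set.range j.base = (Set.range i.base)ᶜ)

include hZU in
theorem isZero_pull_push (G : EtCoh.Ab Z) :
    IsZero ((EtCoh.pull j).obj ((EtCoh.push i).obj G)) := by
  apply isZero_of_stalks
  intro K _ _ v
  have hdis : Disjoint (Set.range (v ≫ j).base) (Set.range i.base) := by
    rw [Set.disjoint_left]
    rintro _ ⟨a, rfl⟩ h
    have hmem : (v ≫ j) a ∈ Set.range j.base := ⟨v a, (Scheme.Hom.comp_apply _ _ _).symm⟩
    rw [hZU] at hmem
    exact hmem h
  exact (isZero_stalk_push i G (v ≫ j) hdis).of_iso ((EtStalkPull.stalkPullIso j v).app _)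

include hZU in
theorem comp_unit_eq_zero {G : EtCoh.Ab Z} {I : EtCoh.Ab X} (b : (EtCoh.push i).obj G ⟶ I) :
    b ≫ (EtCoh.pullPushAdj j).unit.app I = 0 := by
  have hz := isZero_pull_push i j hZU G
  apply ((EtCoh.pullPushAdj j).homEquiv _ _).symm.injective
  exact hz.eq_of_src _ _

include hZU in
theorem isZero_sections_kernel (I : EtCoh.Ab X) (W : X.Etale)
    (hW : Disjoint (Set.range W.hom.base) (Set.range i.base)) :
    IsZero ((kernel ((EtCoh.pullPushAdj j).unit.app I)).obj.obj (op W)) := by
  have key : ∀ s : EtCoh.sect (kernel ((EtCoh.pullPushAdj j).unit.app I)) W, s = 0 := by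
    intro s
    apply eq_zero_of_germs
    intro K _ _ η l
    have hmem : η (default : ↥(Spec (CommRingCat.of K))) ∈ Set.range j := by
      show η (default : ↥(Spec (CommRingCat.of K))) ∈ Set.range j.base
      rw [hZU]
      intro h
      have h1 : W.hom (l.left (default : ↥(Spec (CommRingCat.of K)))) =
          η (default : ↥(Spec (CommRingCat.of K))) :=
        congrArg (fun (m : Spec (CommRingCat.of K) ⟶ X) =>
          m (default : ↥(Spec (CommRingCat.of K)))) (Over.w l)
      exact Set.disjoint_left.1 hW ⟨_, h1⟩ h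
    obtain ⟨v, rfl⟩ := exists_lift_open j η hmem
    haveI := isIso_stalk_unit_imm j I v
    have hinj1 : Function.Injective ((EtCoh.stalk (v ≫ j)).map
        ((EtCoh.pullPushAdj j).unit.app I)) := (ConcreteCategory.bijective_of_isIso _).1
    have hinj2 : Function.Injective ((EtCoh.stalk (v ≫ j)).map
        (kernel.ι ((EtCoh.pullPushAdj j).unit.app I))) :=
      (mono_iff _).1 inferInstance K (v ≫ j)
    apply hinj2
    apply hinj1
    have hcomp : (EtCoh.stalk (v ≫ j)).map (kernel.ι ((EtCoh.pullPushAdj j).unit.app I)) ≫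
        (EtCoh.stalk (v ≫ j)).map ((EtCoh.pullPushAdj j).unit.app I) = 0 := by
      rw [← Functor.map_comp, kernel.condition, Functor.map_zero]
    have h2 := congrArg (fun m => m ((Scheme.pointSmallEtale (v ≫ j)).toPresheafFiber W l
      (kernel ((EtCoh.pullPushAdj j).unit.app I)).obj s)) hcomp
    refine h2.trans ?_
    rw [map_zero, map_zero]
    rfl
  haveI : Subsingleton ((kernel ((EtCoh.pullPushAdj j).unit.app I)).obj.obj (op W)) :=
    ⟨fun a b => (key a).trans (key b).symm⟩
  exact AddCommGrpCat.isZero_of_subsingleton _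

include hZU in
theorem injective_pull_kernel (I : EtCoh.Ab X) [Injective I] :
    Injective ((EtCoh.pull i).obj (kernel ((EtCoh.pullPushAdj j).unit.app I))) := by
  haveI hη : IsIso ((EtCoh.pullPushAdj i).unit.app (kernel ((EtCoh.pullPushAdj j).unit.app I))) :=
    isIso_unit_of_vanish i _ (fun W hW => isZero_sections_kernel i j hZU I W hW)
  obtain ⟨hfull, hfaith⟩ := full_faithful i
  haveI := hfull
  haveI := hfaith
  haveI : (EtCoh.push i).IsRightAdjoint := (EtCoh.pullPushAdj i).isRightAdjoint
  constructor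
  intro G G' a m hm
  haveI : Mono ((EtCoh.push i).map m) := inferInstance
  obtain ⟨b', hb'⟩ := Injective.factors
    (((EtCoh.push i).map a ≫
      inv ((EtCoh.pullPushAdj i).unit.app (kernel ((EtCoh.pullPushAdj j).unit.app I)))) ≫
      kernel.ι ((EtCoh.pullPushAdj j).unit.app I)) ((EtCoh.push i).map m)
  have h4 : (EtCoh.push i).map m ≫ kernel.lift ((EtCoh.pullPushAdj j).unit.app I) b'
      (comp_unit_eq_zero i j hZU b') = (EtCoh.push i).map a ≫
      inv ((EtCoh.pullPushAdj i).unit.app (kernel ((EtCoh.pullPushAdj j).unit.app I))) := by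
    apply (cancel_mono (kernel.ι ((EtCoh.pullPushAdj j).unit.app I))).1
    rw [Category.assoc, kernel.lift_ι, hb']
  refine ⟨(EtCoh.push i).preimage (kernel.lift ((EtCoh.pullPushAdj j).unit.app I) b'
      (comp_unit_eq_zero i j hZU b') ≫
      (EtCoh.pullPushAdj i).unit.app (kernel ((EtCoh.pullPushAdj j).unit.app I))), ?_⟩
  apply (EtCoh.push i).map_injective
  rw [Functor.map_comp, Functor.map_preimage, ← Category.assoc, h4, Category.assoc,
    IsIso.inv_hom_id, Category.comp_id]

end Groth.Agent.Lib.EtSuppInj_helper7
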