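import Mathlib
import Groth.Prelude.Def_W4c1etweilhu916Glue
import Groth.Agent.Lib.EtSuppInj_helper7
import Groth.Agent.Lib.EtPullExact_helper9

/-!
# Recollement for abelian étale sheaves: gluing along a closed immersion and its open complement
(helper7)
-/

set_option autoImplicit false
set_option backward.isDefEq.respectTransparency false
universe u
open CategoryTheory CategoryTheory.Limits AlgebraicGeometry Opposite

namespace Groth.Agent.Lib.EtRecoll_helper7

open Groth.Agent.Lib.EtSchExact_helper7 Groth.Agent.Lib.EtPushClosed_helper7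
  Groth.Agent.Lib.EtClosedPush_helper7 Groth.Agent.Lib.EtOpenShriek_helper7
  Groth.Agent.Lib.EtSuppInj_helper7 EtPullExact

variable {X Z U : Scheme.{u}} (i : Z ⟶ X) [IsClosedImmersion i] (j : U ⟶ X) [IsOpenImmersion j]
  (hZU : Set.range j.base = (Set.range i.base)ᶜ)

include hZU in
theorem isIso_of_pull {F G : EtCoh.Ab X} (α : F ⟶ G) (h1 : IsIso ((EtCoh.pull i).map α))
    (h2 : IsIso ((EtCoh.pull j).map α)) : IsIso α := by
  have hstalk : ∀ (Ω : Type u) [Field Ω] [IsSepClosed Ω] (ξ : Spec (CommRingCat.of Ω) ⟶ X),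
      Function.Bijective ((EtCoh.stalk ξ).map α) := by
    intro Ω _ _ ξ
    by_cases hmem : ξ (default : ↥(Spec (CommRingCat.of Ω))) ∈ Set.range i
    · obtain ⟨ζ, rfl⟩ := exists_lift_of_mem_range i ξ hmem
      haveI : IsIso ((EtCoh.pull i ⋙ EtCoh.stalk ζ).map α) := by
        show IsIso ((EtCoh.stalk ζ).map ((EtCoh.pull i).map α))
        infer_instance
      haveI : IsIso ((EtCoh.stalk (ζ ≫ i)).map α) :=
        (NatIso.isIso_map_iff (EtStalkPull.stalkPullIso i ζ) _).1 inferInstance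
      exact ConcreteCategory.bijective_of_isIso _
    · have hmem' : ξ (default : ↥(Spec (CommRingCat.of Ω))) ∈ Set.range j := by
        show ξ (default : ↥(Spec (CommRingCat.of Ω))) ∈ Set.range j.base
        rw [hZU]
        exact hmem
      obtain ⟨v, rfl⟩ := exists_lift_open j ξ hmem'
      haveI : IsIso ((EtCoh.pull j ⋙ EtCoh.stalk v).map α) := by
        show IsIso ((EtCoh.stalk v).map ((EtCoh.pull j).map α))
        infer_instance
      haveI : IsIso ((EtCoh.stalk (v ≫ j)).map α) :=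
        (NatIso.isIso_map_iff (EtStalkPull.stalkPullIso j v) _).1 inferInstance
      exact ConcreteCategory.bijective_of_isIso _
  haveI : Mono α := (mono_iff _).2 (fun Ω _ _ ξ => (hstalk Ω ξ).1)
  haveI : Epi α := (epi_iff _).2 (fun Ω _ _ ξ => (hstalk Ω ξ).2)
  exact isIso_of_mono_of_epi _

omit [IsClosedImmersion i] in
theorem isIso_map_equalizer_ι {Y : Scheme.{u}} (f : Y ⟶ X) {F G : EtCoh.Ab X} (φ ψ : F ⟶ G)
    (h1 : (EtCoh.pull f).map φ = (EtCoh.pull f).map ψ) :
    IsIso ((EtCoh.pull f).map (equalizer.ι φ ψ)) := by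
  have h := PreservesEqualizer.iso_inv_ι (EtCoh.pull f) φ ψ
  haveI : IsIso (equalizer.ι ((EtCoh.pull f).map φ) ((EtCoh.pull f).map ψ)) :=
    equalizer.ι_of_eq h1
  have e : (EtCoh.pull f).map (equalizer.ι φ ψ) =
      (PreservesEqualizer.iso (EtCoh.pull f) φ ψ).hom ≫
        equalizer.ι ((EtCoh.pull f).map φ) ((EtCoh.pull f).map ψ) := by
    rw [← h, Iso.hom_inv_id_assoc]
  rw [e]
  infer_instance

include hZU in
theorem hom_ext_of_pull {F G : EtCoh.Ab X} (φ ψ : F ⟶ G)
    (h1 : (EtCoh.pull i).map φ = (EtCoh.pull i).map ψ)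
    (h2 : (EtCoh.pull j).map φ = (EtCoh.pull j).map ψ) : φ = ψ := by
  haveI : IsIso (equalizer.ι φ ψ) :=
    isIso_of_pull i j hZU _ (isIso_map_equalizer_ι i φ ψ h1) (isIso_map_equalizer_ι j φ ψ h2)
  exact (cancel_epi (equalizer.ι φ ψ)).1 (equalizer.condition φ ψ)

theorem isIso_pull_unit_i (F : EtCoh.Ab X) :
    IsIso ((EtCoh.pull i).map ((EtCoh.pullPushAdj i).unit.app F)) := by
  have h4 := (EtCoh.pullPushAdj i).left_triangle_components F
  haveI := isIso_counit i ((EtCoh.pull i).obj F)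
  haveI : IsIso ((EtCoh.pull i).map ((EtCoh.pullPushAdj i).unit.app F) ≫
      (EtCoh.pullPushAdj i).counit.app ((EtCoh.pull i).obj F)) := by
    rw [h4]; exact IsIso.id _
  exact IsIso.of_isIso_comp_right _ ((EtCoh.pullPushAdj i).counit.app ((EtCoh.pull i).obj F))

theorem isIso_pull_unit_j (F : EtCoh.Ab X) :
    IsIso ((EtCoh.pull j).map ((EtCoh.pullPushAdj j).unit.app F)) := by
  have h4 := (EtCoh.pullPushAdj j).left_triangle_components F
  haveI := isIso_counit_ab j ((EtCoh.pull j).obj F)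
  haveI : IsIso ((EtCoh.pull j).map ((EtCoh.pullPushAdj j).unit.app F) ≫
      (EtCoh.pullPushAdj j).counit.app ((EtCoh.pull j).obj F)) := by
    rw [h4]; exact IsIso.id _
  exact IsIso.of_isIso_comp_right _ ((EtCoh.pullPushAdj j).counit.app ((EtCoh.pull j).obj F))

section Glue

variable (A : EtCoh.Ab Z) (B : EtCoh.Ab U) (c : A ⟶ (EtCoh.pull i).obj ((EtCoh.push j).obj B))

/-- The sheaf on `X` glued from `A` on `Z`, `B` on `U` and `c : A ⟶ i⁻¹ j_* B`. -/
noncomputable def glue : EtCoh.Ab X :=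
  pullback ((EtCoh.push i).map c) ((EtCoh.pullPushAdj i).unit.app ((EtCoh.push j).obj B))

/-- First projection. -/
noncomputable def p1 : glue i j A B c ⟶ (EtCoh.push i).obj A := pullback.fst _ _

/-- Second projection. -/
noncomputable def p2 : glue i j A B c ⟶ (EtCoh.push j).obj B := pullback.snd _ _

theorem glue_isPullback : IsPullback (p1 i j A B c) (p2 i j A B c) ((EtCoh.push i).map c)
    ((EtCoh.pullPushAdj i).unit.app ((EtCoh.push j).obj B)) :=
  IsPullback.of_hasPullback _ _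

theorem isIso_pull_p1 : IsIso ((EtCoh.pull i).map (p1 i j A B c)) := by
  haveI := isIso_pull_unit_i i ((EtCoh.push j).obj B)
  exact ((glue_isPullback i j A B c).map (EtCoh.pull i)).isIso_fst_of_isIso

include hZU in
theorem isIso_pull_p2 : IsIso ((EtCoh.pull j).map (p2 i j A B c)) := by
  have hz1 := isZero_pull_push i j hZU A
  have hz2 := isZero_pull_push i j hZU ((EtCoh.pull i).obj ((EtCoh.push j).obj B))
  haveI : IsIso ((EtCoh.pull j).map ((EtCoh.push i).map c)) :=
    ⟨⟨0, hz1.eq_of_src _ _, hz2.eq_of_src _ _⟩⟩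
  exact ((glue_isPullback i j A B c).map (EtCoh.pull j)).isIso_snd_of_isIso

theorem glue_compat :
    ((EtCoh.pull i).map (p1 i j A B c) ≫ (EtCoh.pullPushAdj i).counit.app A) ≫ c =
      (EtCoh.pull i).map ((EtCoh.pullPushAdj j).unit.app (glue i j A B c)) ≫
        (EtCoh.pull i).map ((EtCoh.push j).map
          ((EtCoh.pull j).map (p2 i j A B c) ≫ (EtCoh.pullPushAdj j).counit.app B)) := by
  have hR : (EtCoh.pullPushAdj j).unit.app (glue i j A B c) ≫ (EtCoh.push j).map
      ((EtCoh.pull j).map (p2 i j A B c) ≫ (EtCoh.pullPushAdj j).counit.app B) =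
      p2 i j A B c := by
    have hn := (EtCoh.pullPushAdj j).unit.naturality (p2 i j A B c)
    have ht := (EtCoh.pullPushAdj j).right_triangle_components B
    refine (congrArg (fun m => (EtCoh.pullPushAdj j).unit.app (glue i j A B c) ≫ m)
      ((EtCoh.push j).map_comp _ _)).trans ((Category.assoc _ _ _).symm.trans ?_)
    exact (congrArg (fun m => m ≫ (EtCoh.push j).map ((EtCoh.pullPushAdj j).counit.app B))
      hn.symm).trans ((Category.assoc _ _ _).trans
        ((congrArg (fun m => p2 i j A B c ≫ m) ht).trans (Category.comp_id _)))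
  have hnat : (EtCoh.pull i).map ((EtCoh.push i).map c) ≫
      (EtCoh.pullPushAdj i).counit.app ((EtCoh.pull i).obj ((EtCoh.push j).obj B)) =
      (EtCoh.pullPushAdj i).counit.app A ≫ c :=
    (EtCoh.pullPushAdj i).counit.naturality c
  have htri := (EtCoh.pullPushAdj i).left_triangle_components ((EtCoh.push j).obj B)
  have hcond : p1 i j A B c ≫ (EtCoh.push i).map c =
      p2 i j A B c ≫ (EtCoh.pullPushAdj i).unit.app ((EtCoh.push j).obj B) :=
    pullback.condition
  calc ((EtCoh.pull i).map (p1 i j A B c) ≫ (EtCoh.pullPushAdj i).counit.app A) ≫ c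
      = (EtCoh.pull i).map (p1 i j A B c) ≫ ((EtCoh.pullPushAdj i).counit.app A ≫ c) :=
        Category.assoc _ _ _
    _ = (EtCoh.pull i).map (p1 i j A B c) ≫ ((EtCoh.pull i).map ((EtCoh.push i).map c) ≫
          (EtCoh.pullPushAdj i).counit.app ((EtCoh.pull i).obj ((EtCoh.push j).obj B))) := by
        rw [hnat]
    _ = (EtCoh.pull i).map (p1 i j A B c ≫ (EtCoh.push i).map c) ≫
          (EtCoh.pullPushAdj i).counit.app ((EtCoh.pull i).obj ((EtCoh.push j).obj B)) := by
        rw [Functor.map_comp, Category.assoc]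
    _ = (EtCoh.pull i).map (p2 i j A B c ≫
          (EtCoh.pullPushAdj i).unit.app ((EtCoh.push j).obj B)) ≫
          (EtCoh.pullPushAdj i).counit.app ((EtCoh.pull i).obj ((EtCoh.push j).obj B)) := by
        rw [hcond]
    _ = (EtCoh.pull i).map (p2 i j A B c) ≫
          ((EtCoh.pull i).map ((EtCoh.pullPushAdj i).unit.app ((EtCoh.push j).obj B)) ≫
          (EtCoh.pullPushAdj i).counit.app ((EtCoh.pull i).obj ((EtCoh.push j).obj B))) := by
        rw [Functor.map_comp, Category.assoc]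
    _ = (EtCoh.pull i).map (p2 i j A B c) := by
        rw [htri]; exact Category.comp_id _
    _ = _ := by
        rw [← Functor.map_comp, hR]

end Glue

include hZU in
theorem essSurj_aux (Y : Comma (𝟭 (EtCoh.Ab Z)) (EtCoh.push j ⋙ EtCoh.pull i)) :
    ∃ F : EtCoh.Ab X, Nonempty ((EtCore.recollTriple i j).obj F ≅ Y) := by
  haveI := isIso_pull_p1 i j Y.left Y.right Y.hom
  haveI := isIso_pull_p2 i j hZU Y.left Y.right Y.hom
  haveI := isIso_counit i Y.left
  haveI := isIso_counit_ab j Y.right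
  refine ⟨glue i j Y.left Y.right Y.hom, ⟨Comma.isoMk
    (asIso ((EtCoh.pull i).map (p1 i j Y.left Y.right Y.hom)) ≪≫
      asIso ((EtCoh.pullPushAdj i).counit.app Y.left))
    (asIso ((EtCoh.pull j).map (p2 i j Y.left Y.right Y.hom)) ≪≫
      asIso ((EtCoh.pullPushAdj j).counit.app Y.right)) ?_⟩⟩
  exact glue_compat i j Y.left Y.right Y.hom

include hZU in
theorem full_aux (F G : EtCoh.Ab X)
    (m : (EtCore.recollTriple i j).obj F ⟶ (EtCore.recollTriple i j).obj G) :
    ∃ φ : F ⟶ G, (EtCore.recollTriple i j).map φ = m := by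
  obtain ⟨a, ha⟩ : ∃ a : (EtCoh.pull i).obj F ⟶ (EtCoh.pull i).obj G, a = m.left := ⟨_, rfl⟩
  obtain ⟨b, hb⟩ : ∃ b : (EtCoh.pull j).obj F ⟶ (EtCoh.pull j).obj G, b = m.right := ⟨_, rfl⟩
  have hw : a ≫ (EtCoh.pull i).map ((EtCoh.pullPushAdj j).unit.app G) =
      (EtCoh.pull i).map ((EtCoh.pullPushAdj j).unit.app F) ≫
        (EtCoh.pull i).map ((EtCoh.push j).map b) := by
    rw [ha, hb]; exact m.w
  have hκw : (EtCoh.pullPushAdj i).unit.app G ≫
      (EtCoh.push i).map ((EtCoh.pull i).map ((EtCoh.pullPushAdj j).unit.app G)) =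
      (EtCoh.pullPushAdj j).unit.app G ≫
        (EtCoh.pullPushAdj i).unit.app ((EtCoh.push j).obj ((EtCoh.pull j).obj G)) :=
    ((EtCoh.pullPushAdj i).unit.naturality ((EtCoh.pullPushAdj j).unit.app G)).symm
  obtain ⟨κ, hκ1, hκ2⟩ : ∃ κ : G ⟶ glue i j ((EtCoh.pull i).obj G) ((EtCoh.pull j).obj G)
      ((EtCoh.pull i).map ((EtCoh.pullPushAdj j).unit.app G)),
      κ ≫ p1 i j _ _ _ = (EtCoh.pullPushAdj i).unit.app G ∧
      κ ≫ p2 i j _ _ _ = (EtCoh.pullPushAdj j).unit.app G :=
    ⟨pullback.lift _ _ hκw, pullback.lift_fst _ _ _, pullback.lift_snd _ _ _⟩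
  haveI : IsIso κ := by
    apply isIso_of_pull i j hZU
    · haveI := isIso_pull_p1 i j ((EtCoh.pull i).obj G) ((EtCoh.pull j).obj G)
        ((EtCoh.pull i).map ((EtCoh.pullPushAdj j).unit.app G))
      haveI := isIso_pull_unit_i i G
      have e : (EtCoh.pull i).map κ ≫ (EtCoh.pull i).map (p1 i j _ _ _) =
          (EtCoh.pull i).map ((EtCoh.pullPushAdj i).unit.app G) := by
        rw [← Functor.map_comp, hκ1]
      exact IsIso.of_isIso_fac_right e
    · haveI := isIso_pull_p2 i j hZU ((EtCoh.pull i).obj G) ((EtCoh.pull j).obj G)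
        ((EtCoh.pull i).map ((EtCoh.pullPushAdj j).unit.app G))
      haveI := isIso_pull_unit_j j G
      have e : (EtCoh.pull j).map κ ≫ (EtCoh.pull j).map (p2 i j _ _ _) =
          (EtCoh.pull j).map ((EtCoh.pullPushAdj j).unit.app G) := by
        rw [← Functor.map_comp, hκ2]
      exact IsIso.of_isIso_fac_right e
  have hψw : ((EtCoh.pullPushAdj i).unit.app F ≫ (EtCoh.push i).map a) ≫
      (EtCoh.push i).map ((EtCoh.pull i).map ((EtCoh.pullPushAdj j).unit.app G)) =
      ((EtCoh.pullPushAdj j).unit.app F ≫ (EtCoh.push j).map b) ≫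
        (EtCoh.pullPushAdj i).unit.app ((EtCoh.push j).obj ((EtCoh.pull j).obj G)) := by
    have hn := (EtCoh.pullPushAdj i).unit.naturality
      ((EtCoh.pullPushAdj j).unit.app F ≫ (EtCoh.push j).map b)
    have e : a ≫ (EtCoh.pull i).map ((EtCoh.pullPushAdj j).unit.app G) =
        (EtCoh.pull i).map ((EtCoh.pullPushAdj j).unit.app F ≫ (EtCoh.push j).map b) := by
      rw [hw, Functor.map_comp]
    rw [Category.assoc, ← Functor.map_comp, e]
    exact hn.symm
  obtain ⟨ψ, hψ1, hψ2⟩ : ∃ ψ : F ⟶ glue i j ((EtCoh.pull i).obj G) ((EtCoh.pull j).obj G)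
      ((EtCoh.pull i).map ((EtCoh.pullPushAdj j).unit.app G)),
      ψ ≫ p1 i j _ _ _ = (EtCoh.pullPushAdj i).unit.app F ≫ (EtCoh.push i).map a ∧
      ψ ≫ p2 i j _ _ _ = (EtCoh.pullPushAdj j).unit.app F ≫ (EtCoh.push j).map b :=
    ⟨pullback.lift _ _ hψw, pullback.lift_fst _ _ _, pullback.lift_snd _ _ _⟩
  refine ⟨ψ ≫ inv κ, ?_⟩
  have hφ1 : (ψ ≫ inv κ) ≫ (EtCoh.pullPushAdj i).unit.app G =
      (EtCoh.pullPushAdj i).unit.app F ≫ (EtCoh.push i).map a := by
    rw [← hκ1, Category.assoc, IsIso.inv_hom_id_assoc, hψ1]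
  have hφ2 : (ψ ≫ inv κ) ≫ (EtCoh.pullPushAdj j).unit.app G =
      (EtCoh.pullPushAdj j).unit.app F ≫ (EtCoh.push j).map b := by
    refine (congrArg (fun m => (ψ ≫ inv κ) ≫ m) hκ2.symm).trans ?_
    rw [Category.assoc, IsIso.inv_hom_id_assoc]
    exact hψ2
  apply CommaMorphism.ext
  · show (EtCoh.pull i).map (ψ ≫ inv κ) = m.left
    rw [← ha]
    apply ((EtCoh.pullPushAdj i).homEquiv _ _).injective
    rw [Adjunction.homEquiv_unit, Adjunction.homEquiv_unit, ← hφ1]
    exact ((EtCoh.pullPushAdj i).unit.naturality (ψ ≫ inv κ)).symm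
  · show (EtCoh.pull j).map (ψ ≫ inv κ) = m.right
    rw [← hb]
    apply ((EtCoh.pullPushAdj j).homEquiv _ _).injective
    rw [Adjunction.homEquiv_unit, Adjunction.homEquiv_unit, ← hφ2]
    exact ((EtCoh.pullPushAdj j).unit.naturality (ψ ≫ inv κ)).symm

include hZU in
theorem isEquivalence_recollTriple : (EtCore.recollTriple i j).IsEquivalence where
  faithful := ⟨fun {F G} φ ψ h => hom_ext_of_pull i j hZU φ ψ
    (congrArg (fun m => m.left) h) (congrArg (fun m => m.right) h)⟩
  full := ⟨fun {F G} m => full_aux i j hZU F G m⟩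
  essSurj := ⟨fun Y => essSurj_aux i j hZU Y⟩

end Groth.Agent.Lib.EtRecoll_helper7
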