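import Mathlib
import Groth.Prelude.Def_DCoh2
import Groth.Agent.Lib.DerFFEss_helper7
import Groth.Agent.Lib.EtRecoll_helper7

/-!
# Derived direct image along a closed immersion of étale sites: fully faithful, essential image
(helper7).  APPEND-ONLY once landed.
-/

set_option autoImplicit false
set_option backward.isDefEq.respectTransparency false
set_option linter.style.haveILetI false
set_option linter.unusedSectionVars false
universe u
open CategoryTheory CategoryTheory.Limits AlgebraicGeometry Opposite
attribute [local instance] HasDerivedCategory.standard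

namespace Groth.Agent.Lib.EtClosedDerH7

open Groth.Agent.Lib.EtSchExact_helper7 Groth.Agent.Lib.EtPushClosed_helper7
  Groth.Agent.Lib.EtClosedPush_helper7 Groth.Agent.Lib.EtOpenShriek_helper7
  Groth.Agent.Lib.EtSuppInj_helper7 Groth.Agent.Lib.EtRecoll_helper7 EtPullExact

variable {X Z U : Scheme.{u}} (i : Z ⟶ X) [IsClosedImmersion i] (j : U ⟶ X) [IsOpenImmersion j]
  (hZU : Set.range j.base = (Set.range i.base)ᶜ)

include hZU in
theorem isIso_unit_iff (G : EtCoh.Ab X) :
    IsIso ((EtCoh.pullPushAdj i).unit.app G) ↔ IsZero ((EtCoh.pull j).obj G) := by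
  constructor
  · intro h
    have hz := isZero_pull_push i j hZU ((EtCoh.pull i).obj G)
    exact hz.of_iso ((EtCoh.pull j).mapIso (asIso ((EtCoh.pullPushAdj i).unit.app G)))
  · intro hz
    apply isIso_of_pull i j hZU
    · exact isIso_pull_unit_i i G
    · have hz2 := isZero_pull_push i j hZU ((EtCoh.pull i).obj G)
      exact ⟨⟨0, hz.eq_of_src _ _, hz2.eq_of_src _ _⟩⟩

include hZU in
theorem main6659 [PreservesFiniteColimits (EtCoh.push i)] :
    ((EtCoh.push i).mapDerivedCategory.Full ∧ (EtCoh.push i).mapDerivedCategory.Faithful) ∧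
      ∀ K : DCoh.DEt X,
        (EtCoh.push i).mapDerivedCategory.essImage K ↔
          ∀ n : ℤ, IsZero ((EtCoh.pull j).obj (DCoh.HDEt K n)) := by
  have hc : ∀ M : EtCoh.Ab Z, IsIso ((EtCoh.pullPushAdj i).counit.app M) := isIso_counit i
  refine ⟨DerFFEssH7.full_faithful (EtCoh.pullPushAdj i) hc, fun K => ?_⟩
  rw [DerFFEssH7.essImage_iff (EtCoh.pullPushAdj i) hc K]
  exact forall_congr' (fun n => isIso_unit_iff i j hZU _)

end Groth.Agent.Lib.EtClosedDerH7
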