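import Mathlib
import Groth.Prelude.Def_PBC

/-!
# Closed points of schemes locally of finite type over a separably closed field (helper7)

* `isSepClosed_of_isAlgebraic`: an algebraic extension of a separably closed field is separably
  closed.
* `isSepClosed_residueField`: residue fields at closed points are separably closed.
* `isClosed_singleton_of_lqf`: a point of a locally quasi-finite scheme over a closed point is
  closed.
* `exists_open_isolating`: in a locally Noetherian scheme, a closed set all of whose points are
  closed is locally finite.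
-/

set_option autoImplicit false
set_option backward.isDefEq.respectTransparency false
set_option backward.isDefEq.respectTransparency.types false
set_option linter.style.haveILetI false
set_option linter.unusedSectionVars false
universe u
open CategoryTheory CategoryTheory.Limits AlgebraicGeometry Opposite TopologicalSpace

namespace Groth.Agent.Lib.EtClosedPtH7

section Field

theorem isSepClosed_of_isAlgebraic (K L : Type*) [Field K] [Field L] [Algebra K L]
    [IsSepClosed K] [Algebra.IsAlgebraic K L] : IsSepClosed L := by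
  apply IsSepClosed.of_exists_root
  intro p _ hirr hsep
  haveI : Algebra.IsAlgebraic K (AlgebraicClosure L) :=
    Algebra.IsAlgebraic.trans K L (AlgebraicClosure L)
  have hbot : separableClosure K (AlgebraicClosure L) = ⊥ :=
    IntermediateField.eq_bot_of_isSepClosed_of_isSeparable _
  haveI : IsPurelyInseparable K (AlgebraicClosure L) := separableClosure.eq_bot_iff.1 hbot
  haveI : IsPurelyInseparable L (AlgebraicClosure L) :=
    IsPurelyInseparable.tower_top K L (AlgebraicClosure L)
  obtain ⟨α, hα⟩ := IsAlgClosed.exists_aeval_eq_zero (AlgebraicClosure L) p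
    (Polynomial.degree_pos_of_irreducible hirr).ne'
  have hsepα : IsSeparable L α := hsep.of_dvd (minpoly.dvd L α hα)
  obtain ⟨x, hx⟩ := IsPurelyInseparable.inseparable L α hsepα
  refine ⟨x, ?_⟩
  have h1 : algebraMap L (AlgebraicClosure L) (p.eval x) = 0 := by
    rw [← Polynomial.aeval_algebraMap_apply_eq_algebraMap_eval, hx]
    exact hα
  exact (algebraMap L (AlgebraicClosure L)).injective (h1.trans (map_zero _).symm)

end Field

section Geom

theorem isSepClosed_residueField {K : Type u} [Field K] [IsSepClosed K] {X : Scheme.{u}}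
    (a : X ⟶ Spec (CommRingCat.of K)) [LocallyOfFiniteType a] (x : X)
    (hx : IsClosed ({x} : Set X)) : IsSepClosed (X.residueField x) := by
  haveI : IsClosedImmersion (X.fromSpecResidueField x) :=
    isClosed_singleton_iff_isClosedImmersion.mp hx
  haveI : IsFinite (X.fromSpecResidueField x ≫ a) := by
    rw [isFinite_iff_locallyOfFiniteType_of_jacobsonSpace]
    infer_instance
  obtain ⟨φ, hφ⟩ : ∃ φ : CommRingCat.of K ⟶ X.residueField x,
      Spec.map φ = X.fromSpecResidueField x ≫ a := ⟨Spec.preimage _, Spec.map_preimage _⟩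
  have hint : φ.hom.IsIntegral := by
    rw [← IsIntegralHom.SpecMap_iff, hφ]
    infer_instance
  letI : Algebra K (X.residueField x) := φ.hom.toAlgebra
  haveI : Algebra.IsIntegral K (X.residueField x) := ⟨hint⟩
  haveI : Algebra.IsAlgebraic K (X.residueField x) := Algebra.IsIntegral.isAlgebraic
  exact isSepClosed_of_isAlgebraic K (X.residueField x)

/-- An étale morphism is locally quasi-finite. -/
theorem lqf_of_etale' {A B : Scheme.{u}} (g : A ⟶ B) [Etale g] : LocallyQuasiFinite g := by
  constructor
  intro U hU V hV e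
  have h1 := LocallyOfFiniteType.finiteType_appLE (f := g) hU hV e
  have h2 := FormallyUnramified.formallyUnramified_appLE (f := g) hU hV e
  algebraize [(g.appLE U V e).hom]
  have : Algebra.EssFiniteType Γ(B, U) Γ(A, V) := inferInstance
  show Algebra.QuasiFinite _ _
  infer_instance

/-- No nontrivial specializations in the fibres of a locally quasi-finite morphism. -/
theorem eq_of_specializes_of_lqf' {W V : Scheme.{u}} (i : W ⟶ V) [LocallyQuasiFinite i]
    (w w' : W) (h : w ⤳ w') (he : i w = i w') : w = w' := by
  obtain ⟨O, hO, hOe⟩ := isDiscrete_iff_forall_mem_exists_isOpen.mp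
    (i.isDiscrete_preimage_singleton (i w')) w' rfl
  have hw'O : w' ∈ O := by
    have : w' ∈ O ∩ i ⁻¹' {i w'} := by rw [hOe]; rfl
    exact this.1
  have hwO : w ∈ O := h.mem_open hO hw'O
  have : w ∈ O ∩ i ⁻¹' {i w'} := ⟨hwO, he⟩
  rw [hOe] at this
  exact this

theorem isClosed_singleton_of_lqf {W V : Scheme.{u}} (i : W ⟶ V) [LocallyQuasiFinite i] (t : W)
    (h : IsClosed ({i t} : Set V)) : IsClosed ({t} : Set W) := by
  rw [← closure_subset_iff_isClosed]
  intro t' ht'
  have hs : t ⤳ t' := specializes_iff_mem_closure.2 ht'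
  have hs' : i t ⤳ i t' := hs.map i.continuous
  have he : i t' = i t := hs'.mem_closed h (Set.mem_singleton _)
  exact (eq_of_specializes_of_lqf' i t t' hs he.symm).symm

end Geom

section Top

theorem finite_of_isClosed_of_closed_points {V : Type*} [TopologicalSpace V] [NoetherianSpace V]
    [QuasiSober V] (T : Set V) (hT : IsClosed T) (h : ∀ t ∈ T, IsClosed ({t} : Set V)) :
    T.Finite := by
  obtain ⟨S, hSf, hSc, hSi, hSU⟩ := NoetherianSpace.exists_finite_set_isClosed_irreducible hT
  have hsing : ∀ Z ∈ S, Z.Finite := by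
    intro Z hZ
    obtain ⟨η, hη⟩ := QuasiSober.sober (hSi Z hZ) (hSc Z hZ)
    have hηT : η ∈ T := by
      rw [hSU]
      exact ⟨Z, hZ, hη.mem⟩
    have hZe : Z = {η} := by
      rw [← hη.def, (h η hηT).closure_eq]
    rw [hZe]
    exact Set.finite_singleton η
  rw [hSU]
  exact hSf.sUnion hsing

theorem exists_open_isolating {V : Scheme.{u}} [IsLocallyNoetherian V] (T : Set V)
    (hT : IsClosed T) (h : ∀ t ∈ T, IsClosed ({t} : Set V)) (v : V) :
    ∃ O : V.Opens, v ∈ O ∧ ∀ t ∈ T, t ∈ O → t = v := by
  obtain ⟨W, hW, hvW, -⟩ := exists_isAffineOpen_mem_and_subset (x := v) (U := ⊤) trivial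
  haveI : IsNoetherianRing Γ(V, W) := IsLocallyNoetherian.component_noetherian ⟨W, hW⟩
  haveI : NoetherianSpace W := noetherianSpace_of_isAffineOpen W hW
  haveI : QuasiSober W := W.2.isOpenEmbedding_subtypeVal.quasiSober
  have hTW : (Subtype.val ⁻¹' T : Set W).Finite := by
    apply finite_of_isClosed_of_closed_points
    · exact hT.preimage continuous_subtype_val
    · intro t ht
      have he : ({t} : Set W) = Subtype.val ⁻¹' {t.1} := by
        ext w
        simp only [Set.mem_singleton_iff, Set.mem_preimage]
        exact Subtype.ext_iff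
      rw [he]
      exact (h t.1 ht).preimage continuous_subtype_val
  obtain ⟨R, hR⟩ : ∃ R : Set V,
      R = (Subtype.val '' (Subtype.val ⁻¹' T : Set W)) \ {v} := ⟨_, rfl⟩
  have hRfin : R.Finite := by
    rw [hR]
    exact (hTW.image _).subset Set.sdiff_subset
  have hRT : ∀ t ∈ R, t ∈ T := by
    intro t ht
    rw [hR] at ht
    obtain ⟨⟨w, hwT, rfl⟩, -⟩ := ht
    exact hwT
  have hRclosed : IsClosed R := by
    have he : R = ⋃ t ∈ R, {t} := (Set.biUnion_of_singleton R).symm
    rw [he]
    exact hRfin.isClosed_biUnion (fun t ht => h t (hRT t ht))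
  refine ⟨W ⊓ ⟨Rᶜ, hRclosed.isOpen_compl⟩, ⟨hvW, ?_⟩, ?_⟩
  · show v ∉ R
    intro hv
    rw [hR] at hv
    exact hv.2 rfl
  · rintro t htT ⟨htW, htR⟩
    have htR' : t ∉ R := htR
    by_contra hne
    apply htR'
    rw [hR]
    exact ⟨⟨⟨t, htW⟩, htT, rfl⟩, hne⟩

end Top

end Groth.Agent.Lib.EtClosedPtH7
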