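import Mathlib
import Groth.Prelude.Def_EtBase
import Groth.Prelude.Def_EtCore
import Groth.Agent.Lib.EtTorsH_helper8
import Groth.Agent.Lib.EtCartan1_helper8
import Groth.Agent.Lib.CechSiteSheaf_helper2
import Groth.Agent.Lib.EtPullExact_helper9

/-!
# Pushforward from the spectrum of a separably closed field is exact and acyclic (helper8)
APPEND-ONLY once landed.
-/

set_option autoImplicit false
set_option backward.isDefEq.respectTransparency false
universe w₁ w₂ w v₁ v₂ u₁ u₂ u
open CategoryTheory CategoryTheory.Limits AlgebraicGeometry Opposite Abelian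

namespace Groth.Agent.Lib.EtSepPtH8

open Groth.Agent.Lib.EtSchSite_helper7 Groth.Agent.Lib.EtZarAff_helper7 Groth.Agent.Lib.EtTorsH8

section Generic

variable {C : Type u₁} [Category.{v₁} C] {J : GrothendieckTopology C}
  {D : Type u₂} [Category.{v₂} D] {K : GrothendieckTopology D}
  [HasSheafify J AddCommGrpCat.{w}] [HasSheafify K AddCommGrpCat.{w}]
  [HasExt.{w₁} (Sheaf J AddCommGrpCat.{w})] [HasExt.{w₂} (Sheaf K AddCommGrpCat.{w})]
  [EnoughInjectives (Sheaf J AddCommGrpCat.{w})]
  (Φ : Sheaf J AddCommGrpCat.{w} ⥤ Sheaf K AddCommGrpCat.{w}) [Φ.Additive]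
  [Φ.PreservesInjectiveObjects]
  {TD : D} (hTD : IsTerminal TD)
  (hex : ∀ (Sx : ShortComplex (Sheaf J AddCommGrpCat.{w})), Sx.ShortExact → Injective Sx.X₂ →
    (Sx.map Φ).ShortExact ∧ Function.Surjective ((Φ.map Sx.g).hom.app (op TD)))

include hTD hex in
/-- an exact, injective-preserving functor whose values have surjective global sections maps has
acyclic values -/
theorem vanish_of_exact (q : ℕ) : ∀ (G : Sheaf J AddCommGrpCat.{w})
    (x : Sheaf.H (Φ.obj G) (q + 1)), x = 0 := by
  induction q with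
  | zero =>
    intro G x
    let Sx : ShortComplex (Sheaf J AddCommGrpCat.{w}) :=
      ShortComplex.mk (Injective.ι G) (cokernel.π (Injective.ι G)) (cokernel.condition _)
    have hS : Sx.ShortExact := { exact := ShortComplex.exact_cokernel (Injective.ι G) }
    haveI hI : Injective Sx.X₂ := inferInstanceAs (Injective (Injective.under G))
    obtain ⟨hfS, hsurj⟩ := hex Sx hS hI
    haveI : Injective (Sx.map Φ).X₂ := Φ.injective_obj Sx.X₂
    obtain ⟨x₃, hx₃⟩ : ∃ x₃ : Sheaf.H (Sx.map Φ).X₃ 0, x₃.comp hfS.extClass (zero_add 1) = x :=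
      Ext.covariant_sequence_exact₁ _ hfS x (Ext.eq_zero_of_injective _) (zero_add 1)
    obtain ⟨b, hb⟩ := hsurj (Sheaf.H.equiv₀ (Sx.map Φ).X₃ hTD x₃)
    let x₂ : Sheaf.H (Sx.map Φ).X₂ 0 := (Sheaf.H.equiv₀ (Sx.map Φ).X₂ hTD).symm b
    have hx₂ : Sheaf.H.map (Sx.map Φ).g 0 x₂ = x₃ := by
      have h1 := Sheaf.H.equiv₀_symm_naturality (hT := hTD) (f := (Sx.map Φ).g) b
      refine h1.trans ?_
      have hb' : ((Sx.map Φ).g).hom.app (op TD) b = Sheaf.H.equiv₀ (Sx.map Φ).X₃ hTD x₃ := hb
      rw [hb', AddEquiv.symm_apply_apply]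
    rw [← hx₃, ← hx₂, Sheaf.H.map_apply]
    refine (Ext.comp_assoc_of_second_deg_zero x₂ (Ext.mk₀ (Sx.map Φ).g) hfS.extClass
      (zero_add 1)).trans ?_
    exact (congrArg (fun t => x₂.comp t (zero_add 1)) hfS.comp_extClass).trans
      (Ext.comp_zero _ _ _ _ _)
  | succ q ih =>
    intro G x
    let Sx : ShortComplex (Sheaf J AddCommGrpCat.{w}) :=
      ShortComplex.mk (Injective.ι G) (cokernel.π (Injective.ι G)) (cokernel.condition _)
    have hS : Sx.ShortExact := { exact := ShortComplex.exact_cokernel (Injective.ι G) }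
    haveI hI : Injective Sx.X₂ := inferInstanceAs (Injective (Injective.under G))
    obtain ⟨hfS, -⟩ := hex Sx hS hI
    haveI : Injective (Sx.map Φ).X₂ := Φ.injective_obj Sx.X₂
    obtain ⟨x₃, hx₃⟩ : ∃ x₃ : Sheaf.H (Sx.map Φ).X₃ (q + 1), x₃.comp hfS.extClass rfl = x :=
      Ext.covariant_sequence_exact₁ _ hfS x (Ext.eq_zero_of_injective _) rfl
    rw [← hx₃, ih Sx.X₃ x₃, Ext.zero_comp]

end Generic

section SepClosed

variable {Ω : Type u} [Field Ω] [IsSepClosed Ω]

/-- a section of an étale scheme over a separably closed field through a given point -/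
lemma exists_sec (V : (Spec (CommRingCat.of Ω)).Etale) (v : V.left) :
    ∃ r : EtCoh.top (Spec (CommRingCat.of Ω)) ⟶ V, v ∈ Set.range r.left := by
  haveI : Etale V.hom := V.prop
  let g : V.left ⟶ Spec (CommRingCat.of Ω) := V.hom
  haveI : Etale g := V.prop
  have hsub : g v = (𝟙 (Spec (CommRingCat.of Ω)) : _ ⟶ _) default := Subsingleton.elim _ _
  obtain ⟨l, hl1, hl2⟩ := Scheme.exists_fac_of_etale_of_isSepClosed g
    (𝟙 (Spec (CommRingCat.of Ω))) v hsub
  exact ⟨MorphismProperty.Over.homMk l hl1 trivial, ⟨(default : Spec (CommRingCat.of Ω)), hl2⟩⟩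

lemma top_hom_ext {Z : (Spec (CommRingCat.of Ω)).Etale}
    (g g' : Z ⟶ EtCoh.top (Spec (CommRingCat.of Ω))) : g = g' :=
  (EtCore.topIsTerminal _).hom_ext g g'

/-- over a separably closed field, epimorphisms of abelian étale sheaves are surjective on
sections over every object -/
theorem sections_surjective {I Q : EtCoh.Ab (Spec (CommRingCat.of Ω))} (φ : I ⟶ Q) [Epi φ]
    (V : (Spec (CommRingCat.of Ω)).Etale) : Function.Surjective (φ.hom.app (op V)).hom := by
  intro t
  -- the index type: sections of `V` along which `t` lifts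
  let ι : Type u := {r : EtCoh.top (Spec (CommRingCat.of Ω)) ⟶ V //
    ∃ a : I.obj.obj (op (EtCoh.top _)), φ.hom.app (op (EtCoh.top _)) a = Q.obj.map r.op t}
  have hpt : ∀ v : V.left, ∃ r : ι, v ∈ Set.range r.1.left := by
    intro v
    have hcov := Groth.Agent.Lib.CechSite.imageSieve_mem_of_epi φ V t
    rw [mem_Jet_iff] at hcov
    obtain ⟨W, g, w, ⟨b, hb⟩, -, hw⟩ := hcov v
    obtain ⟨σ, w', hw'⟩ := exists_sec W w
    refine ⟨⟨σ ≫ g, I.obj.map σ.op b, ?_⟩, ⟨w', ?_⟩⟩
    · have h1 : φ.hom.app (op (EtCoh.top _)) (I.obj.map σ.op b) =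
          Q.obj.map σ.op (φ.hom.app (op W) b) := NatTrans.naturality_apply φ.hom σ.op b
      rw [h1]
      have hb' : φ.hom.app (op W) b = Q.obj.map g.op t := hb
      rw [hb']
      exact (map_comp_apply Q σ g t).symm
    · have : (σ ≫ g).left = σ.left ≫ g.left := rfl
      rw [this, Scheme.Hom.comp_apply, hw']
      exact hw
  have hcov : Sieve.ofArrows (fun _ : ι => EtCoh.top (Spec (CommRingCat.of Ω))) (fun r => r.1) ∈
      (Spec (CommRingCat.of Ω)).smallEtaleTopology V := by
    apply sieve_mem_of_forall_exists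
    intro v
    obtain ⟨r, hr⟩ := hpt v
    exact ⟨_, r.1, Sieve.ofArrows_mk _ _ r, hr⟩
  choose x hx using fun r : ι => r.2
  have h1 := Groth.Agent.Lib.CechSite.isSheaf_forget (J := (Spec (CommRingCat.of Ω)).smallEtaleTopology) I
  have h2 : Presieve.IsSheafFor (I.obj ⋙ forget AddCommGrpCat.{u + 1})
      (Presieve.ofArrows (fun _ : ι => EtCoh.top (Spec (CommRingCat.of Ω))) (fun r => r.1)) :=
    (Presieve.isSheafFor_iff_generate _).2 (h1 _ hcov)
  have hcompat : Presieve.Arrows.Compatible (I.obj ⋙ forget AddCommGrpCat.{u + 1})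
      (fun r : ι => r.1) x := by
    intro r r' Z gi gj hg
    by_cases hZ : IsEmpty Z.left
    · haveI := hZ
      haveI := Groth.Agent.Lib.EtCartanH8.subsingleton_of_isEmpty I Z
      exact Subsingleton.elim _ _
    · rw [not_isEmpty_iff] at hZ
      obtain ⟨z⟩ := hZ
      obtain ⟨σ, -⟩ := exists_sec Z z
      have e1 : σ ≫ gi = 𝟙 _ := top_hom_ext _ _
      have e2 : σ ≫ gj = 𝟙 _ := top_hom_ext _ _
      have hrr : r.1 = r'.1 := by
        calc r.1 = (σ ≫ gi) ≫ r.1 := by rw [e1, Category.id_comp]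
          _ = σ ≫ gj ≫ r'.1 := by rw [Category.assoc, hg]
          _ = r'.1 := by rw [← Category.assoc, e2, Category.id_comp]
      have hrr' : r = r' := Subtype.ext hrr
      subst hrr'
      rw [top_hom_ext gi gj]
  obtain ⟨a, ha, -⟩ := (Presieve.isSheafFor_arrows_iff _ _).1 h2 x hcompat
  refine ⟨a, ?_⟩
  have hzero : (φ.hom.app (op V)).hom a - t = 0 := by
    apply sec_eq_zero_of_local Q V
    intro v
    obtain ⟨r, hr⟩ := hpt v
    refine ⟨_, r.1, hr, ?_⟩
    rw [map_sub]
    have h3 : Q.obj.map r.1.op ((φ.hom.app (op V)).hom a) =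
        φ.hom.app (op (EtCoh.top _)) (I.obj.map r.1.op a) :=
      (NatTrans.naturality_apply φ.hom r.1.op a).symm
    have h4 : I.obj.map r.1.op a = x r := ha r
    rw [h3, h4, hx r, sub_self]
  exact sub_eq_zero.mp hzero

end SepClosed

section Push

variable {X : Scheme.{u}} {Ω : Type u} [Field Ω] [IsSepClosed Ω] (i : Spec (CommRingCat.of Ω) ⟶ X)

open EtPullExact in
instance push_preservesInjectiveObjects : (EtCoh.push i).PreservesInjectiveObjects :=
  Functor.preservesInjectiveObjects_of_adjunction_of_preservesMonomorphisms (EtCoh.pullPushAdj i)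

lemma push_app_surjective {I Q : EtCoh.Ab (Spec (CommRingCat.of Ω))} (φ : I ⟶ Q) [Epi φ]
    (U : X.Etale) : Function.Surjective (((EtCoh.push i).map φ).hom.app (op U)).hom :=
  sections_surjective φ ((EtCoh.bc i).obj U)

lemma push_epi {I Q : EtCoh.Ab (Spec (CommRingCat.of Ω))} (φ : I ⟶ Q) [Epi φ] :
    Epi ((EtCoh.push i).map φ) := by
  haveI : ∀ U : X.Etaleᵒᵖ, Epi (((EtCoh.push i).map φ).hom.app U) := fun U =>
    (AddCommGrpCat.epi_iff_surjective _).mpr (push_app_surjective i φ U.unop)
  haveI : Epi ((EtCoh.push i).map φ).hom := NatTrans.epi_of_epi_app _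
  exact Sheaf.Hom.epi_of_presheaf_epi _ _ ((EtCoh.push i).map φ)

lemma push_shortExact (Sx : ShortComplex (EtCoh.Ab (Spec (CommRingCat.of Ω))))
    (hS : Sx.ShortExact) : (Sx.map (EtCoh.push i)).ShortExact := by
  haveI := hS.mono_f
  haveI := hS.epi_g
  haveI : (EtCoh.push i).IsRightAdjoint := (EtCoh.pullPushAdj i).isRightAdjoint
  haveI : Mono (Sx.map (EtCoh.push i)).f := inferInstanceAs (Mono ((EtCoh.push i).map Sx.f))
  haveI : Epi (Sx.map (EtCoh.push i)).g := push_epi i Sx.g
  exact ShortComplex.ShortExact.mk'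
    (hS.exact.map_of_mono_of_preservesKernel (EtCoh.push i) hS.mono_f inferInstance)
    inferInstance inferInstance

/-- the pushforward of any abelian sheaf from the spectrum of a separably closed field has no
higher cohomology -/
theorem vanish_push (G : EtCoh.Ab (Spec (CommRingCat.of Ω))) (q : ℕ)
    (x : EtCoh.H X ((EtCoh.push i).obj G) (q + 1)) : x = 0 := by
  refine vanish_of_exact (EtCoh.push i) (EtCore.topIsTerminal X) ?_ q G x
  intro Sx hS _
  haveI := hS.epi_g
  exact ⟨push_shortExact i Sx hS, push_app_surjective i Sx.g (EtCoh.top X)⟩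

end Push

section Coprod

variable {X : Scheme.{u}}

instance additive_HF' (q : ℕ) : (EtCoh.HF X q).Additive := by
  unfold EtCoh.HF
  infer_instance

lemma isZero_of_isColimit_cofan {A : Type*} [Category A] [HasZeroMorphisms A] {β : Type*}
    {g : β → A} (c : Cofan g) (hc : IsColimit c) (h : ∀ b, IsZero (g b)) : IsZero c.pt := by
  rw [IsZero.iff_id_eq_zero]
  apply Cofan.IsColimit.hom_ext hc
  intro b
  exact (h b).eq_of_src _ _

open CoproductsFromFiniteFiltered in
/-- on a qcqs scheme, étale cohomology of a coproduct of sheaves without degree-`q` cohomology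
vanishes in degree `q` -/
theorem subsingleton_H_coproduct [CompactSpace X] [QuasiSeparatedSpace X] {α : Type u}
    (f : α → EtCoh.Ab X) (q : ℕ) (h : ∀ a, Subsingleton (EtCoh.H X (f a) q))
    (c : Cofan f) (hc : IsColimit c) : Subsingleton (EtCoh.H X c.pt q) := by
  classical
  have hfin : ∀ S : Finset (Discrete α),
      Subsingleton (EtCoh.H X ((liftToFinsetObj (Discrete.functor f)).obj S) q) := by
    intro S
    let g : S → EtCoh.Ab X := fun x => (Discrete.functor f).obj x.1
    have hcol : IsColimit ((EtCoh.HF X q).mapCocone (Cofan.mk (∐ g) (Sigma.ι g))) :=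
      isColimitOfPreserves (EtCoh.HF X q) (coproductIsCoproduct g)
    have hz : IsZero ((EtCoh.HF X q).mapCocone (Cofan.mk (∐ g) (Sigma.ι g))).pt := by
      refine isZero_of_isColimit_cofan (g := fun x => (EtCoh.HF X q).obj (g x))
        (Cofan.mk _ (fun x => (EtCoh.HF X q).map (Sigma.ι g x))) ?_ ?_
      · exact (isColimitMapCoconeCofanMkEquiv _ _ _).1 hcol
      · intro x
        haveI : Subsingleton ((EtCoh.HF X q).obj (g x)) := h x.1.as
        exact AddCommGrpCat.isZero_of_subsingleton _
    exact AddCommGrpCat.subsingleton_of_isZero hz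
  haveI := Groth.Agent.Lib.EtColimSecH8.preservesColimitsOfShape_HF (X := X) q
    (Finset (Discrete α))
  have hcol : IsColimit ((EtCoh.HF X q).mapCocone (finiteSubcoproductsCocone f)) :=
    isColimitOfPreserves _ (isColimitFiniteSubproductsCocone f)
  have h1 : Subsingleton (EtCoh.H X (∐ f) q) := by
    refine ⟨fun a b => ?_⟩
    obtain ⟨S, a', ha⟩ := Concrete.isColimit_exists_rep _ hcol a
    obtain ⟨S', b', hb⟩ := Concrete.isColimit_exists_rep _ hcol b
    have ha0 : a' = 0 := @Subsingleton.elim _ (hfin S) _ _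
    have hb0 : b' = 0 := @Subsingleton.elim _ (hfin S') _ _
    rw [← ha, ← hb, ha0, hb0, map_zero, map_zero]
  let e : c.pt ≅ ∐ f := hc.coconePointUniqueUpToIso (coproductIsCoproduct f)
  refine ⟨fun a b => ?_⟩
  have hinj := ((EtCoh.HF X q).mapIso e).addCommGroupIsoToAddEquiv.injective
  apply hinj
  exact @Subsingleton.elim _ h1 _ _

end Coprod

section Main

variable {k : Type u} [Field k] [IsAlgClosed k] {X : Scheme.{u}}
  (f : X ⟶ Spec (CommRingCat.of k)) [LocallyOfFiniteType f]

include f in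
lemma isSepClosed_residueField (x : X) (hx : IsClosed ({x} : Set X)) :
    IsSepClosed (X.residueField x) := by
  haveI : IsAlgClosed (X.residueField x) :=
    IsAlgClosed.of_ringEquiv k (X.residueField x)
      (residueFieldIsoBase f x hx).symm.commRingCatIsoToRingEquiv
  infer_instance

include f in
/-- over an algebraically closed field, a coproduct of sheaves pushed forward from closed points
of a qcqs scheme locally of finite type has no higher étale cohomology -/
theorem vanish_closed_points [CompactSpace X] [QuasiSeparatedSpace X]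
    (G : ∀ x : {x : X // IsClosed ({x} : Set X)}, EtCoh.Ab (Spec (X.residueField x.1)))
    (c : Cofan fun x : {x : X // IsClosed ({x} : Set X)} =>
      (EtCoh.push (X.fromSpecResidueField x.1)).obj (G x))
    (hc : IsColimit c) (q : ℕ) (hq : 0 < q) : Subsingleton (EtCoh.H X c.pt q) := by
  obtain ⟨q, rfl⟩ := Nat.exists_eq_succ_of_ne_zero hq.ne'
  refine subsingleton_H_coproduct _ (q + 1) ?_ c hc
  intro x
  haveI := isSepClosed_residueField f x.1 x.2
  refine ⟨fun a b => ?_⟩
  have ha := vanish_push (Ω := X.residueField x.1) (X.fromSpecResidueField x.1) (G x) q a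
  have hb := vanish_push (Ω := X.residueField x.1) (X.fromSpecResidueField x.1) (G x) q b
  rw [ha, hb]

end Main

end Groth.Agent.Lib.EtSepPtH8
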