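import Mathlib
import Groth.Prelude.Def_PBC
import Groth.Prelude.Def_EtDual
import Groth.Agent.Lib.EtClosedPtA_helper7
import Groth.Agent.Lib.EtExcisionH_helper7
import Groth.Agent.Lib.EtIntBC5_helper7
import Groth.Agent.Lib.EtShriek1_helper7
import Groth.Agent.Lib.EtPushVanish_helper7
import Groth.Agent.Lib.EtSepPt_helper8
import Groth.Agent.Lib.EtIntPush_helper7
import Groth.Agent.Lib.EtSchSupp_helper7

/-!
# Sheaves supported in closed points (helper7)

For `X` of finite type over a separably closed field and `F` an abelian étale sheaf whose support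
consists of closed points, `F` is the direct sum of its subsheaves `Γ_z F` of sections supported
at the closed points `z`, each of which is a direct image from `Spec κ(z)`; hence `F` has no
higher cohomology.
-/

set_option autoImplicit false
set_option backward.isDefEq.respectTransparency false
set_option backward.isDefEq.respectTransparency.types false
set_option linter.style.haveILetI false
set_option linter.unusedSectionVars false
universe u
open CategoryTheory CategoryTheory.Limits AlgebraicGeometry Opposite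

namespace Groth.Agent.Lib.EtClosedPtH7

open Groth.Agent.Lib.EtFinStalkH7 Groth.Agent.Lib.EtFinGeomH7

section Gz

variable {X : Scheme.{u}} (F : EtCoh.Ab X)

/-- the open complement of a closed point -/
def cpl (z : X) (hz : IsClosed ({z} : Set X)) : X.Opens := ⟨{z}ᶜ, hz.isOpen_compl⟩

variable (z : X) (hz : IsClosed ({z} : Set X))

/-- the subsheaf of sections supported at the closed point `z` -/
noncomputable abbrev Gz : EtCoh.Ab X := kernel (EtDual.unitApp (cpl z hz).ι F)

/-- the inclusion of `Γ_z F` -/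
noncomputable abbrev iz : Gz F z hz ⟶ F := kernel.ι (EtDual.unitApp (cpl z hz).ι F)

/-- the open of `A` over the complement of `z` -/
noncomputable def cplA (A : X.Etale) : A.left.Opens := A.hom ⁻¹ᵁ (cpl z hz)

theorem unit_zero_iff_res (A : X.Etale) (s : F.obj.obj (op A)) :
    (EtDual.unitApp (cpl z hz).ι F).hom.app (op A) s = 0 ↔
      F.obj.map (subι A (cplA z hz A)).op s = 0 := by
  refine Groth.Agent.Lib.EtExcisionHH7.unit_zero_iff_sub (cpl z hz).ι F A (cplA z hz A) ?_ s
  intro a
  rw [Scheme.Opens.range_ι]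
  exact Iff.rfl

theorem res_zero_iff_supp (A : X.Etale) (s : F.obj.obj (op A)) :
    F.obj.map (subι A (cplA z hz A)).op s = 0 ↔
      EtShriek.sectSupp F A s ⊆ A.hom ⁻¹' {z} := by
  refine (Groth.Agent.Lib.EtExcisionH7.supp_subset_iff F A (A.hom ⁻¹' {z}) (cplA z hz A)
    ?_ s).symm
  intro a
  exact Iff.rfl

theorem iz_res_zero (A : X.Etale) (a : (Gz F z hz).obj.obj (op A)) :
    F.obj.map (subι A (cplA z hz A)).op ((iz F z hz).hom.app (op A) a) = 0 :=
  (unit_zero_iff_res F z hz A _).1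
    (Groth.Agent.Lib.EtExcisionHH7.ker_sections_zero (EtDual.unitApp (cpl z hz).ι F) A a)

theorem Gz_res_zero (A : X.Etale) (a : (Gz F z hz).obj.obj (op A)) :
    (Gz F z hz).obj.map (subι A (cplA z hz A)).op a = 0 := by
  apply Groth.Agent.Lib.EtExcisionHH7.ker_sections_inj (EtDual.unitApp (cpl z hz).ι F)
    (subE A (cplA z hz A))
  have h1 := Groth.Agent.Lib.EtFlasque_helper7.app_map_apply (iz F z hz)
    (subι A (cplA z hz A)) a
  exact h1.trans ((iz_res_zero F z hz A a).trans
    (map_zero ((iz F z hz).hom.app (op (subE A (cplA z hz A)))).hom).symm)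

theorem isZero_stalk_Gz {Ω : Type u} [Field Ω] [IsSepClosed Ω]
    (ξ : Spec (CommRingCat.of Ω) ⟶ X)
    (hne : ξ.base (default : ↥(Spec (CommRingCat.of Ω))) ≠ z) :
    IsZero ((EtCoh.stalk ξ).obj (Gz F z hz)) := by
  have key : ∀ t : ToType ((Scheme.pointSmallEtale ξ).presheafFiber.obj (Gz F z hz).obj),
      t = 0 := by
    intro t
    obtain ⟨A, l, a, rfl⟩ := (Scheme.pointSmallEtale ξ).toPresheafFiber_jointly_surjective t
    apply Groth.Agent.Lib.EtPushVanish_helper7.germ_eq_zero_of_not_mem (Gz F z hz) A a ξ l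
    rw [Groth.Agent.Lib.EtShriekH7.not_mem_sectSupp_iff]
    refine ⟨subE A (cplA z hz A), subι A (cplA z hz A), ?_, Gz_res_zero F z hz A a⟩
    have h1 : A.hom (l.left (default : ↥(Spec (CommRingCat.of Ω)))) = ξ default :=
      congrArg (fun (m : Spec (CommRingCat.of Ω) ⟶ X) => m default) (Over.w l)
    have h2 : l.left (default : ↥(Spec (CommRingCat.of Ω))) ∈ cplA z hz A := by
      show A.hom (l.left (default : ↥(Spec (CommRingCat.of Ω)))) ≠ z
      rw [h1]
      exact hne
    have hr : Set.range (subι A (cplA z hz A)).left = (cplA z hz A : Set A.left) :=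
      Scheme.Opens.range_ι _
    rw [hr]
    exact h2
  haveI : Subsingleton ((EtCoh.stalk ξ).obj (Gz F z hz)) :=
    ⟨fun a b => (key a).trans (key b).symm⟩
  exact AddCommGrpCat.isZero_of_subsingleton _

theorem supp_Gz_subset : EtPBC.supp (Gz F z hz) ⊆ {z} := by
  rintro y ⟨Ω, _, _, ξ, hξ, hnz⟩
  by_contra hy
  apply hnz
  apply isZero_stalk_Gz F z hz ξ
  have h1 : ξ.base (default : ↥(Spec (CommRingCat.of Ω))) ∈ Set.range ξ := ⟨default, rfl⟩
  rw [hξ] at h1
  rw [Set.mem_singleton_iff.mp h1]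
  exact hy

theorem mem_supp_of_mem_sectSupp (A : X.Etale) (s : F.obj.obj (op A)) (t : A.left)
    (ht : t ∈ EtShriek.sectSupp F A s) : A.hom.base t ∈ EtPBC.supp F := by
  rw [Groth.Agent.Lib.EtSchSupp_helper7.supp_eq]
  exact Set.mem_iUnion.2 ⟨A, Set.mem_iUnion.2 ⟨s, t, ht, rfl⟩⟩

end Gz

section Germ

variable {X : Scheme.{u}} (F : EtCoh.Ab X)

theorem exists_germ_Gz {K : Type u} [Field K] (a : X ⟶ Spec (CommRingCat.of K))
    [LocallyOfFiniteType a] (hF : ∀ x ∈ EtPBC.supp F, IsClosed ({x} : Set X))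
    {Ω : Type u} [Field Ω] [IsAlgClosed Ω] (ξ : Spec (CommRingCat.of Ω) ⟶ X)
    (hz : IsClosed ({ξ.base (default : ↥(Spec (CommRingCat.of Ω)))} : Set X))
    (t : ToType ((Scheme.pointSmallEtale ξ).presheafFiber.obj F.obj)) :
    ∃ t' : ToType ((Scheme.pointSmallEtale ξ).presheafFiber.obj (Gz F _ hz).obj),
      (Scheme.pointSmallEtale ξ).presheafFiber.map (iz F _ hz).hom t' = t := by
  obtain ⟨A, l, s, rfl⟩ := (Scheme.pointSmallEtale ξ).toPresheafFiber_jointly_surjective t
  haveI : Etale A.hom := A.prop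
  haveI : LocallyOfFiniteType (A.hom ≫ a) := inferInstance
  haveI : IsLocallyNoetherian A.left := LocallyOfFiniteType.isLocallyNoetherian (A.hom ≫ a)
  haveI : LocallyQuasiFinite A.hom := lqf_of_etale' A.hom
  have hT := Groth.Agent.Lib.EtSchSupp_helper7.isClosed_sectSupp F A s
  have hpts : ∀ t' ∈ EtShriek.sectSupp F A s, IsClosed ({t'} : Set A.left) := fun t' ht' =>
    isClosed_singleton_of_lqf A.hom t' (hF _ (mem_supp_of_mem_sectSupp F A s t' ht'))
  obtain ⟨O, hvO, hO⟩ := exists_open_isolating _ hT hpts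
    (ptLeft l (default : ↥(Spec (CommRingCat.of Ω))))
  obtain ⟨l', hl'⟩ := Groth.Agent.Lib.EtIntH7.exists_subPt A O l hvO
  have h1 : A.hom (ptLeft l (default : ↥(Spec (CommRingCat.of Ω)))) = ξ default :=
    congrArg (fun (m : Spec (CommRingCat.of Ω) ⟶ X) => m default) (Over.w l)
  have hsupp : EtShriek.sectSupp F (subE A O) (F.obj.map (subι A O).op s) ⊆
      (subE A O).hom ⁻¹' {ξ.base (default : ↥(Spec (CommRingCat.of Ω)))} := by
    intro w hw
    have hw1 : (subι A O).left w ∈ EtShriek.sectSupp F A s :=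
      Groth.Agent.Lib.EtShriekH7.sectSupp_map_subset_preimage F (subι A O) s hw
    have hw2 : (subι A O).left w ∈ O := w.2
    have hw3 : (subι A O).left w = ptLeft l (default : ↥(Spec (CommRingCat.of Ω))) :=
      hO _ hw1 hw2
    have hw4 : (subE A O).hom w = A.hom ((subι A O).left w) :=
      Scheme.Hom.comp_apply O.ι A.hom w
    show (subE A O).hom w = ξ default
    rw [hw4, hw3, h1]
  have hzero : (EtDual.unitApp (cpl _ hz).ι F).hom.app (op (subE A O))
      (F.obj.map (subι A O).op s) = 0 :=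
    (unit_zero_iff_res F _ hz _ _).2 ((res_zero_iff_supp F _ hz _ _).2 hsupp)
  obtain ⟨a', ha'⟩ := Groth.Agent.Lib.EtExcisionHH7.ker_sections_exists
    (EtDual.unitApp (cpl _ hz).ι F) (subE A O) _ hzero
  refine ⟨(Scheme.pointSmallEtale ξ).toPresheafFiber (subE A O) l' (Gz F _ hz).obj a', ?_⟩
  have n1 := (Scheme.pointSmallEtale ξ).toPresheafFiber_naturality_apply (iz F _ hz).hom
    (subE A O) l' a'
  have n2 := (Scheme.pointSmallEtale ξ).toPresheafFiber_w_apply (subι A O) l' F.obj s
  exact n1.trans ((congrArg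
    (fun q => (Scheme.pointSmallEtale ξ).toPresheafFiber (subE A O) l' F.obj q) ha').trans
    (n2.trans (congrArg
      (fun q => (Scheme.pointSmallEtale ξ).toPresheafFiber A q F.obj s) hl')))

end Germ

section Main

variable {X : Scheme.{u}} (F : EtCoh.Ab X)

/-- the closed points -/
abbrev CP (X : Scheme.{u}) : Type u := {z : X // IsClosed ({z} : Set X)}

/-- the family of subsheaves of sections supported at closed points -/
noncomputable abbrev GG (z : CP X) : EtCoh.Ab X := Gz F z.1 z.2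

/-- the sum of the inclusions -/
noncomputable def Phi : (∐ fun z : CP X => GG F z) ⟶ F :=
  Sigma.desc (fun z => iz F z.1 z.2)

theorem ι_Phi (z : CP X) :
    Sigma.ι (fun z : CP X => GG F z) z ≫ Phi F = iz F z.1 z.2 :=
  Sigma.ι_desc _ _

theorem range_geom' {Ω : Type u} [Field Ω] (ξ : Spec (CommRingCat.of Ω) ⟶ X) :
    Set.range ξ = {ξ.base (default : ↥(Spec (CommRingCat.of Ω)))} := by
  ext y
  constructor
  · rintro ⟨a, rfl⟩
    rw [Subsingleton.elim a default]
    exact Set.mem_singleton _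
  · intro hy
    rw [Set.mem_singleton_iff] at hy
    exact ⟨default, hy.symm⟩

theorem epi_inj_of_isZero {A : Type*} [Category A] [HasZeroMorphisms A] {β : Type*}
    {g : β → A} (c : Cofan g) (hc : IsColimit c) (b₀ : β)
    (h : ∀ b, b ≠ b₀ → IsZero (g b)) : Epi (c.inj b₀) := by
  constructor
  intro Z u v huv
  apply Cofan.IsColimit.hom_ext hc
  intro b
  by_cases hb : b = b₀
  · subst hb
    exact huv
  · exact (h b hb).eq_of_src _ _

theorem epi_Phi {K : Type u} [Field K] (a : X ⟶ Spec (CommRingCat.of K))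
    [LocallyOfFiniteType a] (hF : ∀ x ∈ EtPBC.supp F, IsClosed ({x} : Set X)) :
    Epi (Phi F) := by
  apply Groth.Agent.Lib.EtIntH7.epi_of_algClosed
  intro Ω _ _ ξ t
  by_cases hy : IsClosed ({ξ.base (default : ↥(Spec (CommRingCat.of Ω)))} : Set X)
  · obtain ⟨t', ht'⟩ := exists_germ_Gz F a hF ξ hy t
    refine ⟨(EtCoh.stalk ξ).map (Sigma.ι (fun z : CP X => GG F z) ⟨_, hy⟩) t', ?_⟩
    have e : (EtCoh.stalk ξ).map (Sigma.ι (fun z : CP X => GG F z) ⟨_, hy⟩) ≫
        (EtCoh.stalk ξ).map (Phi F) = (EtCoh.stalk ξ).map (iz F _ hy) := by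
      rw [← Functor.map_comp, ι_Phi]
    have e2 := congrArg (fun m => (ConcreteCategory.hom m) t') e
    exact e2.trans ht'
  · have hz0 : IsZero ((EtCoh.stalk ξ).obj F) := by
      by_contra hnz
      apply hy
      apply hF
      exact ⟨Ω, inferInstance, inferInstance, ξ, range_geom' ξ, hnz⟩
    haveI : Subsingleton ((EtCoh.stalk ξ).obj F) := AddCommGrpCat.subsingleton_of_isZero hz0
    exact ⟨0, Subsingleton.elim _ _⟩

theorem mono_Phi : Mono (Phi F) := by
  apply Groth.Agent.Lib.EtIntH7.mono_of_algClosed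
  intro Ω _ _ ξ
  have hcol : IsColimit (Cofan.mk ((EtCoh.stalk ξ).obj (∐ fun z : CP X => GG F z))
      (fun z => (EtCoh.stalk ξ).map (Sigma.ι (fun z : CP X => GG F z) z))) :=
    isColimitCofanMkObjOfIsColimit (EtCoh.stalk ξ) _ _ (coproductIsCoproduct _)
  have hzero : ∀ z : CP X, z.1 ≠ ξ.base (default : ↥(Spec (CommRingCat.of Ω))) →
      IsZero ((EtCoh.stalk ξ).obj (GG F z)) :=
    fun z hz => isZero_stalk_Gz F z.1 z.2 ξ (Ne.symm hz)
  refine (injective_iff_map_eq_zero ((EtCoh.stalk ξ).map (Phi F)).hom).2 ?_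
  intro u hu
  by_cases hy : IsClosed ({ξ.base (default : ↥(Spec (CommRingCat.of Ω)))} : Set X)
  · haveI : Epi ((EtCoh.stalk ξ).map (Sigma.ι (fun z : CP X => GG F z) ⟨_, hy⟩)) :=
      epi_inj_of_isZero _ hcol ⟨_, hy⟩ (fun z hz => hzero z (fun h => hz (Subtype.ext h)))
    obtain ⟨u', hu'⟩ := (AddCommGrpCat.epi_iff_surjective _).1 this u
    have e : (EtCoh.stalk ξ).map (Sigma.ι (fun z : CP X => GG F z) ⟨_, hy⟩) ≫
        (EtCoh.stalk ξ).map (Phi F) = (EtCoh.stalk ξ).map (iz F _ hy) := by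
      rw [← Functor.map_comp, ι_Phi]
    have e2 := congrArg (fun m => (ConcreteCategory.hom m) u') e
    have h3 : (EtCoh.stalk ξ).map (iz F _ hy) u' = 0 := by
      refine e2.symm.trans ?_
      refine (congrArg (fun q => (EtCoh.stalk ξ).map (Phi F) q) hu').trans hu
    have hinj := (Groth.Agent.Lib.EtSchExact_helper7.mono_iff (iz F _ hy)).1 inferInstance Ω ξ
    have h4 : u' = 0 := hinj (h3.trans (map_zero ((EtCoh.stalk ξ).map (iz F _ hy)).hom).symm)
    rw [← hu', h4]
    exact map_zero ((EtCoh.stalk ξ).map (Sigma.ι (fun z : CP X => GG F z) ⟨_, hy⟩)).hom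
  · have hz0 : IsZero ((EtCoh.stalk ξ).obj (∐ fun z : CP X => GG F z)) :=
      Groth.Agent.Lib.EtSepPtH8.isZero_of_isColimit_cofan _ hcol
        (fun z => hzero z (fun h => hy (h ▸ z.2)))
    haveI : Subsingleton ((EtCoh.stalk ξ).obj (∐ fun z : CP X => GG F z)) :=
      AddCommGrpCat.subsingleton_of_isZero hz0
    exact Subsingleton.elim _ _

theorem subsingleton_H_Gz {K : Type u} [Field K] [IsSepClosed K]
    (a : X ⟶ Spec (CommRingCat.of K)) [LocallyOfFiniteType a] (z : X)
    (hz : IsClosed ({z} : Set X)) (q : ℕ) :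
    Subsingleton (EtCoh.H X (Gz F z hz) (q + 1)) := by
  haveI : IsSepClosed (X.residueField z) := isSepClosed_residueField a z hz
  haveI : IsClosedImmersion (X.fromSpecResidueField z) :=
    isClosed_singleton_iff_isClosedImmersion.mp hz
  have hsupp : EtPBC.supp (Gz F z hz) ⊆ Set.range (X.fromSpecResidueField z).base := by
    rw [Scheme.range_fromSpecResidueField]
    exact supp_Gz_subset F z hz
  haveI := Groth.Agent.Lib.EtIntH7.isIso_unit_of_supp (X.fromSpecResidueField z) (Gz F z hz) hsupp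
  obtain ⟨e, -⟩ : ∃ e : (𝟭 (EtCoh.Ab X)).obj (Gz F z hz) ≅
      (EtCoh.pull (X.fromSpecResidueField z) ⋙ EtCoh.push (X.fromSpecResidueField z)).obj
        (Gz F z hz), True :=
    ⟨asIso ((EtCoh.pullPushAdj (X.fromSpecResidueField z)).unit.app (Gz F z hz)), trivial⟩
  have hv : ∀ w : EtCoh.H X ((EtCoh.push (X.fromSpecResidueField z)).obj
      ((EtCoh.pull (X.fromSpecResidueField z)).obj (Gz F z hz))) (q + 1), w = 0 :=
    Groth.Agent.Lib.EtSepPtH8.vanish_push (Ω := X.residueField z) (X.fromSpecResidueField z)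
      ((EtCoh.pull (X.fromSpecResidueField z)).obj (Gz F z hz)) q
  refine ⟨fun x y => ?_⟩
  have hinj := ((EtCoh.HF X (q + 1)).mapIso e).addCommGroupIsoToAddEquiv.injective
  apply hinj
  exact (hv _).trans (hv _).symm

theorem main171 {K : Type u} [Field K] [IsSepClosed K] (X : Scheme.{u})
    (a : X ⟶ Spec (CommRingCat.of K)) [LocallyOfFiniteType a] [QuasiCompact a]
    (F : EtCoh.Ab X) (hF : ∀ x ∈ EtPBC.supp F, IsClosed ({x} : Set X)) (q : ℕ) (hq : 0 < q) :
    Subsingleton (EtCoh.H X F q) := by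
  obtain ⟨q, rfl⟩ := Nat.exists_eq_succ_of_ne_zero hq.ne'
  haveI : CompactSpace X := QuasiCompact.compactSpace_of_compactSpace a
  haveI : IsLocallyNoetherian X := LocallyOfFiniteType.isLocallyNoetherian a
  haveI : QuasiSeparatedSpace X := inferInstance
  haveI := mono_Phi F
  haveI := epi_Phi F a hF
  haveI : IsIso (Phi F) := isIso_of_mono_of_epi _
  have hsum : Subsingleton (EtCoh.H X (∐ fun z : CP X => GG F z) (q + 1)) := by
    refine Groth.Agent.Lib.EtSepPtH8.subsingleton_H_coproduct (fun z : CP X => GG F z) (q + 1)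
      ?_ (Cofan.mk _ (Sigma.ι _)) (coproductIsCoproduct _)
    intro z
    exact subsingleton_H_Gz F a z.1 z.2 q
  refine ⟨fun x y => ?_⟩
  have hinj := ((EtCoh.HF X (q + 1)).mapIso
    (asIso (Phi F)).symm).addCommGroupIsoToAddEquiv.injective
  apply hinj
  exact @Subsingleton.elim _ hsum _ _

end Main

end Groth.Agent.Lib.EtClosedPtH7
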