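import Mathlib
import Groth.Prelude.Def_AlgSpCov
import Groth.Prelude.Def_AlgSpEt
import Groth.Agent.Lib.AlgSpSmST_helper7

/-!
# Cocontinuity of the functor from the small étale site to the big étale site of spaces (helper7)
-/

set_option autoImplicit false
set_option backward.isDefEq.respectTransparency false
universe u
open CategoryTheory CategoryTheory.Limits AlgebraicGeometry Opposite
open AlgSp Groth.Agent.Lib.AlgSpPoints_helper7 Groth.Agent.Lib.AlgSpPullback_helper7
  Groth.Agent.Lib.AlgSpSmST_helper7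

namespace Groth.Agent.Lib.EtCocont_helper7

variable {S : Scheme.{u}}

/-- Étale-local lifting of a scheme-valued point through an étale morphism of algebraic spaces. -/
theorem exists_etale_lift {Z Z' : Sp S} (hZ : IsAlgSpace Z) (hZ' : IsAlgSpace Z') (g : Z' ⟶ Z)
    (hg : IsEtaleMor g) {W : Over S} (a : (yon S).obj W ⟶ Z) (w : ↥W.left) (x' : Points Z')
    (hx : Points.map g x' = Points.ofPt a w) :
    ∃ (V : Over S) (e : V ⟶ W) (b : (yon S).obj V ⟶ Z') (v : ↥V.left),
      Etale e.left ∧ e.left v = w ∧ b ≫ g = (yon S).map e ≫ a := by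
  have sq := IsPullback.of_hasPullback a g
  have hP : IsAlgSpace (pullback a g) :=
    isAlgSpace_of_isPullback hZ.diag (IsAlgSpace.yon_obj W) hZ' sq
  have hfst : IsEtaleMor (pullback.fst a g) :=
    isEtaleMor_of_isPullback hZ' hZ (IsAlgSpace.yon_obj W) sq.flip hg
  obtain ⟨z, hz1, hz2⟩ := exists_of_isPullback sq (Points.ofScheme W w) x'
    (by rw [← Points.ofPt_eq_map_ofScheme, hx])
  obtain ⟨V, r, hre, hrs⟩ := hP.atlas
  obtain ⟨v, hv⟩ := ofPt_surjective r hrs z
  have h1 : RepWith @Etale (r ≫ pullback.fst a g) := hfst r hre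
  obtain ⟨e, he⟩ := (yon S).map_surjective (r ≫ pullback.fst a g)
  rw [← he] at h1
  have he' : Etale e.left := (repWith_yon_map_iff _ _).1 h1
  refine ⟨V, e, r ≫ pullback.snd a g, v, he', ?_, ?_⟩
  · apply ofScheme_injective W
    rw [← ofPt_yon_map, he, ← Points.map_ofPt, hv, hz1]
  · rw [Category.assoc, ← pullback.condition, ← Category.assoc, he]

/-- The sieve on an object `E` of the small étale site induced by a sieve on a space `Z` and a
morphism from the scheme underlying `E` to `Z`. -/
def pbSieve {Y : Sp S} (E : EtOver Y) {Z : Space S} (a : (ofScheme S).obj E.obj.left ⟶ Z)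
    (T : Sieve Z) : Sieve E where
  arrows E' g := T ((ofScheme S).map g.hom.left ≫ a)
  downward_closed {E₁ E₂ g} hg h := by
    have h1 : (ofScheme S).map (h ≫ g).hom.left ≫ a
        = (ofScheme S).map h.hom.left ≫ ((ofScheme S).map g.hom.left ≫ a) := by
      rw [← Category.assoc, ← Functor.map_comp]; rfl
    show T ((ofScheme S).map (h ≫ g).hom.left ≫ a)
    rw [h1]
    exact T.downward_closed hg _

theorem pbSieve_mem {Y : Sp S} {Z : Space S} {T : Sieve Z}
    (hT : (spacesPre S IsEtaleMor).Saturate Z T) :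
    ∀ (E : EtOver Y) (a : (ofScheme S).obj E.obj.left ⟶ Z), pbSieve E a T ∈ etTop Y E := by
  induction hT with
  | of Z R hR =>
    intro E a
    obtain ⟨hP, hcov⟩ := hR
    have key : ∀ w : ↥E.obj.left.left, ∃ (V : Over S) (e : V ⟶ E.obj.left) (v : ↥V.left),
        Etale e.left ∧ e.left v = w ∧ (Sieve.generate R) ((ofScheme S).map e ≫ a) := by
      intro w
      obtain ⟨Z', g, hg, x', hx'⟩ := hcov (Points.ofPt a.hom w)
      obtain ⟨V, e, b, v, he, hv, hb⟩ :=
        exists_etale_lift Z.property Z'.property g.hom (hP g hg) a.hom w x' hx'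
      refine ⟨V, e, v, he, hv, Z', ObjectProperty.homMk b, g, hg, ?_⟩
      exact ObjectProperty.hom_ext _ hb
    choose V e v he hv hmem using key
    let Ew : ↥E.obj.left.left → EtOver Y := fun w => EtOver.mk ((yon S).map (e w) ≫ E.obj.hom)
      ((repWith_isMultiplicative (S := S) @Etale).comp_mem _ _
        ((repWith_yon_map_iff _ _).2 (he w)) E.property)
    let gw : ∀ w, Ew w ⟶ E := fun w => EtOver.homMk (e w) rfl
    refine (etTop Y).superset_covering ((Sieve.generate_le_iff _ _).2 ?_)
      (ofArrows_mem_etTop Ew gw (fun w => ⟨w, v w, hv w⟩))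
    rintro _ _ ⟨w⟩
    exact hmem w
  | top Z =>
    intro E a
    exact (etTop Y).superset_covering (fun E' g _ => (show (⊤ : Sieve Z) _ from trivial))
      ((etTop Y).top_mem E)
  | pullback Z T hT Z' f ih =>
    intro E a
    refine (etTop Y).superset_covering (fun E' g hg => ?_) (ih E (a ≫ f))
    show T (((ofScheme S).map g.hom.left ≫ a) ≫ f)
    rw [Category.assoc]
    exact hg
  | transitive Z T T' hT hT' ih1 ih2 =>
    intro E a
    refine (etTop Y).transitive (ih1 E a) _ (fun E' g hg => ?_)
    refine (etTop Y).superset_covering (fun E'' h hh => ?_) (ih2 hg E' (𝟙 _))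
    have h1 : (ofScheme S).map (h ≫ g).hom.left ≫ a
        = ((ofScheme S).map h.hom.left ≫ 𝟙 _) ≫ (ofScheme S).map g.hom.left ≫ a := by
      rw [Category.comp_id, ← Category.assoc, ← Functor.map_comp]; rfl
    show T' ((ofScheme S).map (h ≫ g).hom.left ≫ a)
    rw [h1]
    exact hh

theorem main {X Y : Space S} (f : Y ⟶ X) :
    (EtOver.toEtSpOver Y ⋙ ObjectProperty.ι (fun E : Over Y => IsEtaleMor E.hom.hom) ⋙
        Over.map f).IsCocontinuous (etTop Y.obj) (spacesTopOver IsEtaleMor X) where
  cover_lift {E T} hT := by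
    rw [GrothendieckTopology.mem_over_iff] at hT
    have h1 := pbSieve_mem (Y := Y.obj) hT E (𝟙 _)
    refine (etTop Y.obj).superset_covering (fun E' g hg => ?_) h1
    have h2 : T = (Sieve.overEquiv _).symm (Sieve.overEquiv _ T) :=
      (OrderIso.symm_apply_apply _ _).symm
    show T.arrows ((EtOver.toEtSpOver Y ⋙ ObjectProperty.ι
      (fun E : Over Y => IsEtaleMor E.hom.hom) ⋙ Over.map f).map g)
    rw [h2, Sieve.overEquiv_symm_iff]
    have h3 : (Sieve.overEquiv _ T) ((ofScheme S).map g.hom.left ≫ 𝟙 _) := hg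
    rw [Category.comp_id] at h3
    exact h3

end Groth.Agent.Lib.EtCocont_helper7
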