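import Mathlib
import Groth.Prelude

/-!
# Ring theory for the degree-zero projection of an orbit map (helper4)

For a surjection `ι : R → R₀` with square-zero kernel and a commutative monoid `G`, the subring
`Rp ι G` of `R[G]` of the elements whose image in `R₀[G]` is constant, its projection `piR` to `R`
(coefficient of `1`), and the constant / coaction maps `Rp ι G → Rp (ι[G]) G`.
-/

set_option backward.isDefEq.respectTransparency.types false
set_option autoImplicit false
set_option linter.unusedVariables false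
set_option linter.unusedTactic false
set_option linter.unreachableTactic false
set_option linter.unusedSectionVars false
set_option linter.style.haveILetI false
set_option linter.deprecated false
set_option linter.unusedSimpArgs false
set_option linter.style.longLine false
set_option maxHeartbeats 1600000

universe u

namespace Groth.Agent.Lib.MTSmH4

section Ring

variable {R R₀ : Type u} [CommRing R] [CommRing R₀] (ι : R →+* R₀) (G : Type) [CommMonoid G]

/-- the elements of `R[G]` whose image in `R₀[G]` is constant. -/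
noncomputable def Rp : Subring (MonoidAlgebra R G) :=
  Subring.comap (MonoidAlgebra.mapRingHom G ι)
    (MonoidAlgebra.singleOneRingHom (R := R₀) (M := G)).range

theorem mem_Rp_iff (p : MonoidAlgebra R G) :
    p ∈ Rp ι G ↔ ∃ c : R₀, MonoidAlgebra.singleOneRingHom c = MonoidAlgebra.mapRingHom G ι p :=
  Iff.rfl

theorem coeff_ker_of_mem {p : MonoidAlgebra R G} (hp : p ∈ Rp ι G) {g : G} (hg : g ≠ 1) :
    ι (p.coeff g) = 0 := by
  classical
  obtain ⟨c, hc⟩ := (mem_Rp_iff ι G p).mp hp
  have h := congrArg (fun q => q.coeff g) hc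
  simp only [MonoidAlgebra.coeff_mapRingHom] at h
  rw [← h]
  show (MonoidAlgebra.single (1 : G) c).coeff g = 0
  rw [MonoidAlgebra.coeff_single, Finsupp.single_apply, if_neg (Ne.symm hg)]

theorem mem_of_coeff {p : MonoidAlgebra R G} (hp : ∀ g, g ≠ 1 → ι (p.coeff g) = 0) :
    p ∈ Rp ι G := by
  classical
  refine (mem_Rp_iff ι G p).mpr ⟨ι (p.coeff 1), ?_⟩
  apply MonoidAlgebra.ext
  ext g
  show (MonoidAlgebra.single (1 : G) (ι (p.coeff 1))).coeff g =
    (MonoidAlgebra.mapRingHom G ι p).coeff g
  rw [MonoidAlgebra.coeff_mapRingHom, MonoidAlgebra.coeff_single, Finsupp.single_apply]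
  by_cases h : (1 : G) = g
  · rw [if_pos h, h]
  · rw [if_neg h, hp g (Ne.symm h)]

theorem map_eq_single {p : MonoidAlgebra R G} (hp : p ∈ Rp ι G) :
    MonoidAlgebra.mapRingHom G ι p = MonoidAlgebra.single 1 (ι (p.coeff 1)) := by
  classical
  apply MonoidAlgebra.ext
  ext g
  rw [MonoidAlgebra.coeff_mapRingHom, MonoidAlgebra.coeff_single, Finsupp.single_apply]
  by_cases h : (1 : G) = g
  · rw [if_pos h, h]
  · rw [if_neg h, coeff_ker_of_mem ι G hp (Ne.symm h)]

variable (hι : ∀ x y : R, ι x = 0 → ι y = 0 → x * y = 0)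

include hι in
theorem mul_eq_zero_of_coeff (x y : MonoidAlgebra R G) (hx : ∀ g, ι (x.coeff g) = 0)
    (hy : ∀ g, ι (y.coeff g) = 0) : x * y = 0 := by
  rw [MonoidAlgebra.mul_def]
  simp only [Finsupp.sum]
  apply Finset.sum_eq_zero
  intro m₁ _
  apply Finset.sum_eq_zero
  intro m₂ _
  rw [hι _ _ (hx m₁) (hy m₂), MonoidAlgebra.single_zero]

theorem erase_coeff_ker {p : MonoidAlgebra R G} (hp : p ∈ Rp ι G) (g : G) :
    ι ((MonoidAlgebra.erase 1 p).coeff g) = 0 := by
  classical
  rw [MonoidAlgebra.coeff_erase]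
  by_cases h : g = 1
  · rw [h, Finsupp.erase_same, map_zero]
  · rw [Finsupp.erase_ne h]
    exact coeff_ker_of_mem ι G hp h

include hι in
theorem coeff_one_mul {p q : MonoidAlgebra R G} (hp : p ∈ Rp ι G) (hq : q ∈ Rp ι G) :
    (p * q).coeff 1 = p.coeff 1 * q.coeff 1 := by
  classical
  have hp' := MonoidAlgebra.single_add_erase (1 : G) p
  have hq' := MonoidAlgebra.single_add_erase (1 : G) q
  have h0 : MonoidAlgebra.erase 1 p * MonoidAlgebra.erase 1 q = 0 :=
    mul_eq_zero_of_coeff ι G hι _ _ (erase_coeff_ker ι G hp) (erase_coeff_ker ι G hq)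
  have he : (MonoidAlgebra.erase (1 : G) p).coeff 1 = 0 := by
    rw [MonoidAlgebra.coeff_erase, Finsupp.erase_same]
  calc (p * q).coeff 1
      = ((MonoidAlgebra.single 1 (p.coeff 1) + MonoidAlgebra.erase 1 p) * q).coeff 1 := by
        rw [hp']
    _ = (MonoidAlgebra.single 1 (p.coeff 1) * q).coeff 1 +
          (MonoidAlgebra.erase 1 p * q).coeff 1 := by
        rw [add_mul, MonoidAlgebra.coeff_add, Finsupp.add_apply]
    _ = p.coeff 1 * q.coeff 1 + (MonoidAlgebra.erase 1 p *
          (MonoidAlgebra.single 1 (q.coeff 1) + MonoidAlgebra.erase 1 q)).coeff 1 := by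
        rw [MonoidAlgebra.coeff_single_one_mul, hq']
    _ = p.coeff 1 * q.coeff 1 := by
        rw [mul_add, h0, add_zero, MonoidAlgebra.coeff_mul_single_one, he, zero_mul, add_zero]

/-- the coefficient of `1`, a ring homomorphism on `Rp`. -/
noncomputable def piR : Rp ι G →+* R where
  toFun p := p.1.coeff 1
  map_one' := by
    show (1 : MonoidAlgebra R G).coeff 1 = 1
    exact MonoidAlgebra.coeff_one_one
  map_mul' p q := by
    show (p.1 * q.1).coeff 1 = p.1.coeff 1 * q.1.coeff 1
    exact coeff_one_mul ι G hι p.2 q.2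
  map_zero' := by
    show (0 : MonoidAlgebra R G).coeff 1 = 0
    rw [MonoidAlgebra.coeff_zero, Finsupp.zero_apply]
  map_add' p q := by
    show (p.1 + q.1).coeff 1 = p.1.coeff 1 + q.1.coeff 1
    rw [MonoidAlgebra.coeff_add, Finsupp.add_apply]

theorem piR_apply (p : Rp ι G) : piR ι G hι p = p.1.coeff 1 := rfl

/-- the structure map `R → Rp`. -/
noncomputable def sRp : R →+* Rp ι G :=
  (MonoidAlgebra.singleOneRingHom (R := R) (M := G)).codRestrict (Rp ι G) (fun r => by
    classical
    apply mem_of_coeff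
    intro g hg
    show ι ((MonoidAlgebra.single (1 : G) r).coeff g) = 0
    rw [MonoidAlgebra.coeff_single, Finsupp.single_apply, if_neg (Ne.symm hg), map_zero])

theorem incl_comp_sRp : (Rp ι G).subtype.comp (sRp ι G) = MonoidAlgebra.singleOneRingHom := rfl

theorem piR_comp_sRp : (piR ι G hι).comp (sRp ι G) = RingHom.id R := by
  classical
  apply RingHom.ext
  intro r
  show (MonoidAlgebra.single (1 : G) r).coeff 1 = r
  rw [MonoidAlgebra.coeff_single, Finsupp.single_eq_same]

/-- a ring homomorphism into `R[G]` whose reduction is constant factors through `Rp`. -/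
theorem exists_factor {B : Type u} [CommRing B] (φ : B →+* MonoidAlgebra R G) (ψ : B →+* R₀)
    (h : ∀ b, MonoidAlgebra.mapRingHom G ι (φ b) = MonoidAlgebra.single 1 (ψ b)) :
    ∃ φ' : B →+* Rp ι G, (Rp ι G).subtype.comp φ' = φ ∧
      ∀ b, ι (piR ι G hι (φ' b)) = ψ b := by
  classical
  have hmem : ∀ b, φ b ∈ Rp ι G := fun b => (mem_Rp_iff ι G (φ b)).mpr ⟨ψ b, (h b).symm⟩
  refine ⟨φ.codRestrict (Rp ι G) hmem, rfl, fun b => ?_⟩
  show ι ((φ b).coeff 1) = ψ b
  have h1 := congrArg (fun q => q.coeff 1) (h b)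
  simp only [MonoidAlgebra.coeff_mapRingHom] at h1
  rw [h1, MonoidAlgebra.coeff_single, Finsupp.single_eq_same]

end Ring

section Two

variable {R R₀ : Type u} [CommRing R] [CommRing R₀] (ι : R →+* R₀) (G : Type) [CommMonoid G]
  (hι : ∀ x y : R, ι x = 0 → ι y = 0 → x * y = 0)

/-- the reduction `R[G] → R₀[G]`. -/
noncomputable abbrev red : MonoidAlgebra R G →+* MonoidAlgebra R₀ G := MonoidAlgebra.mapRingHom G ι

include hι in
theorem hred : ∀ x y : MonoidAlgebra R G, red ι G x = 0 → red ι G y = 0 → x * y = 0 := by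
  intro x y hx hy
  refine mul_eq_zero_of_coeff ι G hι x y (fun g => ?_) (fun g => ?_)
  · have := congrArg (fun q => q.coeff g) hx
    simpa only [MonoidAlgebra.coeff_mapRingHom, MonoidAlgebra.coeff_zero, Finsupp.zero_apply]
      using this
  · have := congrArg (fun q => q.coeff g) hy
    simpa only [MonoidAlgebra.coeff_mapRingHom, MonoidAlgebra.coeff_zero, Finsupp.zero_apply]
      using this

/-- constants in the inner variable: `R[G] → R[G][G]`. -/
noncomputable abbrev cst' : MonoidAlgebra R G →+* MonoidAlgebra (MonoidAlgebra R G) G :=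
  MonoidAlgebra.mapRingHom G (MonoidAlgebra.singleOneRingHom (R := R) (M := G))

/-- the monoid homomorphism `g ↦ e_g ⊗ e_g`. -/
noncomputable def coaF : G →* MonoidAlgebra (MonoidAlgebra R G) G where
  toFun g := MonoidAlgebra.single g (MonoidAlgebra.single g 1)
  map_one' := rfl
  map_mul' g h := by
    rw [MonoidAlgebra.single_mul_single, MonoidAlgebra.single_mul_single, mul_one]

/-- the comultiplication `R[G] → R[G][G]`, `e_g ↦ e_g ⊗ e_g`. -/
noncomputable def coa' : MonoidAlgebra R G →+* MonoidAlgebra (MonoidAlgebra R G) G :=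
  (MonoidAlgebra.lift R (MonoidAlgebra (MonoidAlgebra R G) G) G (coaF (R := R) G)).toRingHom

theorem coa'_single (m : G) (r : R) :
    coa' (R := R) G (MonoidAlgebra.single m r) =
      MonoidAlgebra.single m (MonoidAlgebra.single m r) := by
  show (MonoidAlgebra.lift R (MonoidAlgebra (MonoidAlgebra R G) G) G (coaF (R := R) G))
    (MonoidAlgebra.single m r) = _
  rw [MonoidAlgebra.lift_single]
  show r • MonoidAlgebra.single m (MonoidAlgebra.single m (1 : R)) = _
  rw [MonoidAlgebra.smul_single, MonoidAlgebra.smul_single, smul_eq_mul, mul_one]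

theorem coa'_coeff (p : MonoidAlgebra R G) (g : G) :
    (coa' (R := R) G p).coeff g = MonoidAlgebra.single g (p.coeff g) := by
  classical
  induction p using MonoidAlgebra.induction_linear with
  | zero =>
    simp only [map_zero, MonoidAlgebra.coeff_zero, Finsupp.zero_apply, MonoidAlgebra.single_zero]
  | add x y hx hy =>
    rw [map_add, MonoidAlgebra.coeff_add, Finsupp.add_apply, hx, hy, MonoidAlgebra.coeff_add,
      Finsupp.add_apply, MonoidAlgebra.single_add]
  | single m r =>
    rw [coa'_single, MonoidAlgebra.coeff_single, MonoidAlgebra.coeff_single,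
      Finsupp.single_apply, Finsupp.single_apply]
    by_cases h : m = g
    · rw [if_pos h, if_pos h, h]
    · rw [if_neg h, if_neg h, MonoidAlgebra.single_zero]

theorem cst'_coeff (p : MonoidAlgebra R G) (g : G) :
    (cst' (R := R) G p).coeff g = MonoidAlgebra.single 1 (p.coeff g) := by
  rw [MonoidAlgebra.coeff_mapRingHom]
  rfl

theorem red_single (g : G) (r : R) :
    red ι G (MonoidAlgebra.single g r) = MonoidAlgebra.single g (ι r) :=
  MonoidAlgebra.mapRingHom_single ι g r

/-- the second ring: `Rp` for the pair `(R[G], R₀[G])`. -/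
noncomputable abbrev Rp₂ : Subring (MonoidAlgebra (MonoidAlgebra R G) G) := Rp (red ι G) G

theorem cst'_mem {p : MonoidAlgebra R G} (hp : p ∈ Rp ι G) : cst' (R := R) G p ∈ Rp₂ ι G := by
  apply mem_of_coeff
  intro g hg
  rw [cst'_coeff, red_single, coeff_ker_of_mem ι G hp hg, MonoidAlgebra.single_zero]

theorem coa'_mem {p : MonoidAlgebra R G} (hp : p ∈ Rp ι G) : coa' (R := R) G p ∈ Rp₂ ι G := by
  apply mem_of_coeff
  intro g hg
  rw [coa'_coeff, red_single, coeff_ker_of_mem ι G hp hg, MonoidAlgebra.single_zero]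

/-- constants, on `Rp`. -/
noncomputable def cstR : Rp ι G →+* Rp₂ ι G :=
  ((cst' (R := R) G).comp (Rp ι G).subtype).codRestrict (Rp₂ ι G) (fun p => cst'_mem ι G p.2)

/-- the coaction, on `Rp`. -/
noncomputable def coaR : Rp ι G →+* Rp₂ ι G :=
  ((coa' (R := R) G).comp (Rp ι G).subtype).codRestrict (Rp₂ ι G) (fun p => coa'_mem ι G p.2)

theorem incl₂_comp_cstR :
    (Rp₂ ι G).subtype.comp (cstR ι G) = (cst' (R := R) G).comp (Rp ι G).subtype := rfl

theorem incl₂_comp_coaR :
    (Rp₂ ι G).subtype.comp (coaR ι G) = (coa' (R := R) G).comp (Rp ι G).subtype := rfl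

theorem pi₂_comp_cstR :
    (piR (red ι G) G (hred ι G hι)).comp (cstR ι G) =
      (MonoidAlgebra.singleOneRingHom (R := R) (M := G)).comp (piR ι G hι) := by
  apply RingHom.ext
  intro p
  show (cst' (R := R) G p.1).coeff 1 = MonoidAlgebra.single 1 (p.1.coeff 1)
  exact cst'_coeff G p.1 1

theorem pi₂_comp_coaR :
    (piR (red ι G) G (hred ι G hι)).comp (coaR ι G) =
      (MonoidAlgebra.singleOneRingHom (R := R) (M := G)).comp (piR ι G hι) := by
  apply RingHom.ext
  intro p
  show (coa' (R := R) G p.1).coeff 1 = MonoidAlgebra.single 1 (p.1.coeff 1)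
  exact coa'_coeff G p.1 1

theorem cst'_comp_s :
    (cst' (R := R) G).comp (MonoidAlgebra.singleOneRingHom (R := R) (M := G)) =
      (coa' (R := R) G).comp (MonoidAlgebra.singleOneRingHom (R := R) (M := G)) := by
  apply RingHom.ext
  intro r
  show cst' (R := R) G (MonoidAlgebra.single 1 r) = coa' (R := R) G (MonoidAlgebra.single 1 r)
  rw [coa'_single]
  exact MonoidAlgebra.mapRingHom_single _ 1 r

theorem cstR_comp_s : (cstR ι G).comp (sRp ι G) = (coaR ι G).comp (sRp ι G) := by
  apply RingHom.ext
  intro r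
  apply Subtype.ext
  exact congrArg (fun f => f r) (cst'_comp_s (R := R) G)

/-- the outer character, with values in `Rp₂`. -/
noncomputable def chi₂ : G →* Rp₂ ι G where
  toFun g := ⟨MonoidAlgebra.single 1 (MonoidAlgebra.single g 1), by
    classical
    apply mem_of_coeff
    intro h hh
    rw [MonoidAlgebra.coeff_single, Finsupp.single_apply, if_neg (Ne.symm hh), map_zero]⟩
  map_one' := rfl
  map_mul' g h := by
    apply Subtype.ext
    show MonoidAlgebra.single (1 : G) (MonoidAlgebra.single (g * h) (1 : R)) =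
      MonoidAlgebra.single 1 (MonoidAlgebra.single g 1) *
        MonoidAlgebra.single 1 (MonoidAlgebra.single h 1)
    rw [MonoidAlgebra.single_mul_single, MonoidAlgebra.single_mul_single, mul_one, mul_one]

theorem chi₂_mul_cst' (g : G) :
    ((chi₂ ι G g : Rp₂ ι G) : MonoidAlgebra (MonoidAlgebra R G) G) *
        cst' (R := R) G (MonoidAlgebra.of R G g) = coa' (R := R) G (MonoidAlgebra.of R G g) := by
  rw [MonoidAlgebra.of_apply, coa'_single]
  show MonoidAlgebra.single (1 : G) (MonoidAlgebra.single g (1 : R)) *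
    cst' (R := R) G (MonoidAlgebra.single g 1) = _
  have h1 : cst' (R := R) G (MonoidAlgebra.single g 1) =
      MonoidAlgebra.single g (MonoidAlgebra.single 1 1) :=
    MonoidAlgebra.mapRingHom_single _ g 1
  rw [h1, MonoidAlgebra.single_mul_single, one_mul, MonoidAlgebra.single_mul_single, mul_one,
    mul_one]

theorem pi₂_chi₂ (g : G) :
    piR (red ι G) G (hred ι G hι) (chi₂ ι G g) = MonoidAlgebra.of R G g := by
  classical
  rw [MonoidAlgebra.of_apply]
  show (MonoidAlgebra.single (1 : G) (MonoidAlgebra.single g (1 : R))).coeff 1 = _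
  rw [MonoidAlgebra.coeff_single, Finsupp.single_eq_same]

/-- `red ∘ s = s₀ ∘ ι`. -/
theorem red_comp_s :
    (red ι G).comp (MonoidAlgebra.singleOneRingHom (R := R) (M := G)) =
      (MonoidAlgebra.singleOneRingHom (R := R₀) (M := G)).comp ι := by
  apply RingHom.ext
  intro r
  exact red_single ι G 1 r

end Two

end Groth.Agent.Lib.MTSmH4
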