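import Mathlib
import Groth.Prelude
import Groth.Agent.Lib.MTSm1_helper4

/-!
# Monomorphisms from a diagonalisable group into an affine group: the coordinate ring map is
surjective (functor of points form) (helper4)

`D` is the coordinate ring of an affine group over `R`, given through its functor of points
`C ↦ Γ C ≃ (D →ₐ[R] C)` with values in groups; `j` is a homomorphism from the diagonalisable group
with character group `M`, injective on points.  Then the corresponding ring map `D → R[M]` is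
surjective.
-/

set_option backward.isDefEq.respectTransparency.types false
set_option autoImplicit false
set_option linter.unusedVariables false
set_option linter.unusedTactic false
set_option linter.unreachableTactic false
set_option linter.unusedSectionVars false
set_option linter.style.haveILetI false
set_option linter.deprecated false
set_option linter.unusedSimpArgs false
set_option linter.style.longLine false
set_option maxHeartbeats 1600000

universe u

namespace Groth.Agent.Lib.MTNormH4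

open Groth.Agent.Lib.MTSmH4

section Abstract

variable {R : Type u} [CommRing R] {D : Type u} [CommRing D] [Algebra R D] {M : Type}
  [CommGroup M]
  (Γ : ∀ (C : Type u) [CommRing C] [Algebra R C], Type u)
  [hgrp : ∀ (C : Type u) [CommRing C] [Algebra R C], Group (Γ C)]
  (pt : ∀ (C : Type u) [CommRing C] [Algebra R C], (D →ₐ[R] C) → Γ C)
  (hbij : ∀ (C : Type u) [CommRing C] [Algebra R C], Function.Bijective (pt C))
  (push : ∀ {C C' : Type u} [CommRing C] [CommRing C'] [Algebra R C] [Algebra R C'],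
    (C →ₐ[R] C') → (Γ C →* Γ C'))
  (hpush : ∀ {C C' : Type u} [CommRing C] [CommRing C'] [Algebra R C] [Algebra R C']
    (f : C →ₐ[R] C') (x : D →ₐ[R] C), push f (pt C x) = pt C' (f.comp x))
  (j : ∀ (C : Type u) [CommRing C] [Algebra R C], (M →* C) →* Γ C)
  (hj : ∀ {C C' : Type u} [CommRing C] [CommRing C'] [Algebra R C] [Algebra R C']
    (f : C →ₐ[R] C') (ψ : M →* C),
    push f (j C ψ) = j C' (f.toRingHom.toMonoidHom.comp ψ))
  (hinj : ∀ (C : Type u) [CommRing C] [Algebra R C], Function.Injective (j C))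

include hpush hj in
theorem pt_lift_comp (Φ : D →ₐ[R] MonoidAlgebra R M)
    (hΦ : pt (MonoidAlgebra R M) Φ = j (MonoidAlgebra R M) (MonoidAlgebra.of R M))
    (C : Type u) [CommRing C] [Algebra R C] (ψ : M →* C) :
    pt C ((MonoidAlgebra.lift R C M ψ).comp Φ) = j C ψ := by
  rw [← hpush, hΦ, hj]
  congr 1
  refine MonoidHom.ext (fun n => ?_)
  show (MonoidAlgebra.lift R C M ψ) (MonoidAlgebra.of R M n) = ψ n
  exact MonoidAlgebra.lift_of ψ n

include hbij hpush hj in
theorem exists_single_coeff (Φ : D →ₐ[R] MonoidAlgebra R M)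
    (hΦ : pt (MonoidAlgebra R M) Φ = j (MonoidAlgebra R M) (MonoidAlgebra.of R M))
    (c : D) (m : M) : ∃ y : D, Φ y = MonoidAlgebra.single m ((Φ c).coeff m) := by
  classical
  obtain ⟨ιD, hιD⟩ : ∃ ιD : D →ₐ[R] MonoidAlgebra D M, ιD = MonoidAlgebra.singleOneAlgHom :=
    ⟨_, rfl⟩
  obtain ⟨ιA, hιA⟩ : ∃ ιA : MonoidAlgebra R M →ₐ[R] MonoidAlgebra (MonoidAlgebra R M) M,
      ιA = MonoidAlgebra.singleOneAlgHom := ⟨_, rfl⟩
  obtain ⟨ΦM, hΦM⟩ : ∃ ΦM : MonoidAlgebra D M →ₐ[R] MonoidAlgebra (MonoidAlgebra R M) M,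
      ΦM = MonoidAlgebra.mapAlgHom M Φ := ⟨_, rfl⟩
  obtain ⟨ρ, hρ⟩ := (hbij (MonoidAlgebra D M)).2
    (push ιD (pt D (AlgHom.id R D)) * j (MonoidAlgebra D M) (MonoidAlgebra.of D M))
  obtain ⟨ψ₁, hψ₁⟩ : ∃ ψ₁ : M →* MonoidAlgebra (MonoidAlgebra R M) M,
      ψ₁ = ιA.toRingHom.toMonoidHom.comp (MonoidAlgebra.of R M) := ⟨_, rfl⟩
  obtain ⟨ψ₂, hψ₂⟩ : ∃ ψ₂ : M →* MonoidAlgebra (MonoidAlgebra R M) M,
      ψ₂ = MonoidAlgebra.of (MonoidAlgebra R M) M := ⟨_, rfl⟩
  have h1 : push ΦM (push ιD (pt D (AlgHom.id R D))) = j _ ψ₁ := by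
    rw [hpush, hpush]
    have e : ΦM.comp (ιD.comp (AlgHom.id R D)) = ιA.comp Φ := by
      apply AlgHom.ext
      intro d
      show ΦM (ιD d) = ιA (Φ d)
      rw [hΦM, hιD, hιA]
      show MonoidAlgebra.mapAlgHom M Φ (MonoidAlgebra.single 1 d) =
        MonoidAlgebra.single 1 (Φ d)
      exact MonoidAlgebra.mapAlgHom_single Φ 1 d
    rw [e, ← hpush, hΦ, hj, hψ₁]
  have h2 : push ΦM (j _ (MonoidAlgebra.of D M)) = j _ ψ₂ := by
    rw [hj]
    congr 1
    refine MonoidHom.ext (fun n => ?_)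
    show ΦM (MonoidAlgebra.of D M n) = ψ₂ n
    rw [hΦM, hψ₂, MonoidAlgebra.of_apply, MonoidAlgebra.of_apply,
      MonoidAlgebra.mapAlgHom_single, map_one]
  have hkey : pt _ (ΦM.comp ρ) = j _ (ψ₁ * ψ₂) := by
    rw [← hpush, hρ, map_mul (push ΦM), h1, h2, map_mul (j _)]
  obtain ⟨δ, hδ⟩ : ∃ δ : MonoidAlgebra R M →ₐ[R] MonoidAlgebra (MonoidAlgebra R M) M,
      δ = MonoidAlgebra.lift R (MonoidAlgebra (MonoidAlgebra R M) M) M (ψ₁ * ψ₂) := ⟨_, rfl⟩
  have hδpt : pt _ (δ.comp Φ) = j _ (ψ₁ * ψ₂) := by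
    rw [hδ]
    exact pt_lift_comp Γ pt push hpush j hj Φ hΦ _ (ψ₁ * ψ₂)
  have hcomp : ΦM.comp ρ = δ.comp Φ := (hbij _).1 (hkey.trans hδpt.symm)
  have hψ : ψ₁ * ψ₂ = coaF (R := R) M := by
    refine MonoidHom.ext (fun n => ?_)
    show ψ₁ n * ψ₂ n = MonoidAlgebra.single n (MonoidAlgebra.single n 1)
    rw [hψ₁, hψ₂]
    show ιA (MonoidAlgebra.of R M n) * MonoidAlgebra.of (MonoidAlgebra R M) M n = _
    rw [hιA, MonoidAlgebra.of_apply, MonoidAlgebra.of_apply]
    show MonoidAlgebra.single 1 (MonoidAlgebra.single n 1) * MonoidAlgebra.single n 1 = _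
    rw [MonoidAlgebra.single_mul_single, one_mul, mul_one]
  have hcoeff : ∀ a : MonoidAlgebra R M,
      (δ a).coeff m = MonoidAlgebra.single m (a.coeff m) := by
    intro a
    have e : δ a = coa' (R := R) M a := by
      rw [hδ, hψ]
      rfl
    rw [e]
    exact coa'_coeff M a m
  refine ⟨(ρ c).coeff m, ?_⟩
  have e1 : Φ ((ρ c).coeff m) = (ΦM (ρ c)).coeff m := by
    rw [hΦM]
    exact (MonoidAlgebra.coeff_mapAlgHom Φ (ρ c) m).symm
  have e2 : ΦM (ρ c) = δ (Φ c) := congrArg (fun f : D →ₐ[R] _ => f c) hcomp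
  rw [e1, e2, hcoeff]

include hbij hpush hj in
theorem exists_inv_coeff (Φ : D →ₐ[R] MonoidAlgebra R M)
    (hΦ : pt (MonoidAlgebra R M) Φ = j (MonoidAlgebra R M) (MonoidAlgebra.of R M))
    (c : D) (n : M) : ∃ c' : D, (Φ c').coeff n⁻¹ = (Φ c).coeff n := by
  classical
  obtain ⟨s, hs⟩ := (hbij D).2 ((pt D (AlgHom.id R D))⁻¹)
  obtain ⟨ψ', hψ'⟩ : ∃ ψ' : M →* MonoidAlgebra R M,
      ψ' = (MonoidAlgebra.of R M).comp invMonoidHom := ⟨_, rfl⟩
  have hmul : MonoidAlgebra.of R M * ψ' = 1 := by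
    refine MonoidHom.ext (fun k => ?_)
    show MonoidAlgebra.of R M k * ψ' k = 1
    rw [hψ']
    show MonoidAlgebra.of R M k * MonoidAlgebra.of R M k⁻¹ = 1
    rw [← map_mul, mul_inv_cancel, map_one]
  have hjinv : (j _ (MonoidAlgebra.of R M))⁻¹ = j _ ψ' := by
    apply inv_eq_of_mul_eq_one_right
    rw [← map_mul, hmul, map_one]
  have h1 : pt _ (Φ.comp s) = j _ ψ' := by
    rw [← hpush, hs, map_inv, hpush, AlgHom.comp_id, hΦ, hjinv]
  have h2 := pt_lift_comp Γ pt push hpush j hj Φ hΦ (MonoidAlgebra R M) ψ'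
  have hcomp : Φ.comp s = (MonoidAlgebra.lift R (MonoidAlgebra R M) M ψ').comp Φ :=
    (hbij _).1 (h1.trans h2.symm)
  have hcoeff : ∀ a : MonoidAlgebra R M,
      ((MonoidAlgebra.lift R (MonoidAlgebra R M) M ψ') a).coeff n⁻¹ = a.coeff n := by
    intro a
    induction a using MonoidAlgebra.induction_linear with
    | zero => simp only [map_zero, MonoidAlgebra.coeff_zero, Finsupp.zero_apply]
    | add x y hx hy =>
      rw [map_add, MonoidAlgebra.coeff_add, Finsupp.add_apply, hx, hy, MonoidAlgebra.coeff_add,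
        Finsupp.add_apply]
    | single k r =>
      rw [MonoidAlgebra.lift_single, hψ']
      show (r • MonoidAlgebra.of R M k⁻¹).coeff n⁻¹ = _
      rw [MonoidAlgebra.of_apply, MonoidAlgebra.smul_single, smul_eq_mul, mul_one,
        MonoidAlgebra.coeff_single, MonoidAlgebra.coeff_single, Finsupp.single_apply,
        Finsupp.single_apply]
      by_cases h : k = n
      · rw [if_pos h, if_pos (by rw [h])]
      · rw [if_neg h, if_neg (fun h' => h (inv_injective h'))]
  refine ⟨s c, ?_⟩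
  have e : Φ (s c) = (MonoidAlgebra.lift R (MonoidAlgebra R M) M ψ') (Φ c) :=
    congrArg (fun f : D →ₐ[R] _ => f c) hcomp
  rw [e, hcoeff]

include hbij hpush hj hinj in
/-- **Key algebraic lemma.** -/
theorem surj_of_mono_pts (Φ : D →ₐ[R] MonoidAlgebra R M)
    (hΦ : pt (MonoidAlgebra R M) Φ = j (MonoidAlgebra R M) (MonoidAlgebra.of R M)) :
    Function.Surjective Φ := by
  classical
  have E1 := exists_single_coeff Γ pt hbij push hpush j hj Φ hΦ
  have E2 := exists_inv_coeff Γ pt hbij push hpush j hj Φ hΦ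
  have F1 := pt_lift_comp Γ pt push hpush j hj Φ hΦ
  have key : ∀ m : M, ∃ y, Φ y = MonoidAlgebra.single m (1 : R) := by
    intro m
    by_cases h1 : ∃ c, (Φ c).coeff m = 1
    · obtain ⟨c, hc⟩ := h1
      obtain ⟨y, hy⟩ := E1 c m
      exact ⟨y, by rw [hy, hc]⟩
    · exfalso
      obtain ⟨𝔞, h𝔞⟩ : ∃ 𝔞 : Ideal R, ∀ r, r ∈ 𝔞 ↔ ∃ c, (Φ c).coeff m = r := by
        refine ⟨{ carrier := {r | ∃ c, (Φ c).coeff m = r}
                  add_mem' := ?_
                  zero_mem' := ?_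
                  smul_mem' := ?_ }, fun r => Iff.rfl⟩
        · rintro a b ⟨c, rfl⟩ ⟨d, rfl⟩
          exact ⟨c + d, by rw [map_add, MonoidAlgebra.coeff_add, Finsupp.add_apply]⟩
        · exact ⟨0, by rw [map_zero, MonoidAlgebra.coeff_zero, Finsupp.zero_apply]⟩
        · rintro r a ⟨c, rfl⟩
          exact ⟨r • c, by rw [map_smul, MonoidAlgebra.coeff_smul_apply]⟩
      have hne : 𝔞 ≠ ⊤ := by
        intro htop
        apply h1
        exact (h𝔞 1).mp (by rw [htop]; exact Submodule.mem_top)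
      obtain ⟨𝔫, h𝔫max, h𝔞𝔫⟩ := Ideal.exists_le_maximal 𝔞 hne
      have h𝔫prime : 𝔫.IsPrime := h𝔫max.isPrime
      have h1𝔫 : (1 : R) ∉ 𝔫 := (Ideal.ne_top_iff_one 𝔫).mp h𝔫max.ne_top
      have hm𝔫 : ∀ c, (Φ c).coeff m ∈ 𝔫 := fun c => h𝔞𝔫 ((h𝔞 _).mpr ⟨c, rfl⟩)
      let N : Subgroup M :=
        { carrier := {n | ∃ c, (Φ c).coeff n ∉ 𝔫}
          one_mem' := ⟨1, by
            rw [map_one Φ, MonoidAlgebra.one_def, MonoidAlgebra.coeff_single,
              Finsupp.single_eq_same]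
            exact h1𝔫⟩
          mul_mem' := by
            rintro a b ⟨c, hc⟩ ⟨d, hd⟩
            obtain ⟨y, hy⟩ := E1 c a
            obtain ⟨y', hy'⟩ := E1 d b
            refine ⟨y * y', ?_⟩
            rw [map_mul Φ, hy, hy', MonoidAlgebra.single_mul_single, MonoidAlgebra.coeff_single,
              Finsupp.single_eq_same]
            exact fun h => (h𝔫prime.mem_or_mem h).elim hc hd
          inv_mem' := by
            rintro a ⟨c, hc⟩
            obtain ⟨c', hc'⟩ := E2 c a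
            exact ⟨c', by rw [hc']; exact hc⟩ }
      have hmN : m ∉ N := fun ⟨c, hc⟩ => hc (hm𝔫 c)
      haveI : Nontrivial (R ⧸ 𝔫) := Ideal.Quotient.nontrivial_iff.mpr h𝔫max.ne_top
      let F : M →* MonoidAlgebra (R ⧸ 𝔫) (M ⧸ N) :=
        (MonoidAlgebra.of (R ⧸ 𝔫) (M ⧸ N)).comp (QuotientGroup.mk' N)
      have hcompeq : (MonoidAlgebra.lift R (MonoidAlgebra (R ⧸ 𝔫) (M ⧸ N)) M F).comp Φ =
          (MonoidAlgebra.lift R (MonoidAlgebra (R ⧸ 𝔫) (M ⧸ N)) M 1).comp Φ := by
        apply AlgHom.ext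
        intro c
        show MonoidAlgebra.lift R (MonoidAlgebra (R ⧸ 𝔫) (M ⧸ N)) M F (Φ c) =
          MonoidAlgebra.lift R (MonoidAlgebra (R ⧸ 𝔫) (M ⧸ N)) M 1 (Φ c)
        rw [MonoidAlgebra.lift_apply, MonoidAlgebra.lift_apply]
        apply Finsupp.sum_congr
        intro n _
        by_cases hn : n ∈ N
        · have hF : F n = 1 := by
            show MonoidAlgebra.of _ _ (QuotientGroup.mk' N n) = 1
            rw [QuotientGroup.mk'_apply, (QuotientGroup.eq_one_iff n).mpr hn, map_one]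
          rw [hF, MonoidHom.one_apply]
        · have hcn : (Φ c).coeff n ∈ 𝔫 := by
            by_contra hcon
            exact hn ⟨c, hcon⟩
          have hz : ∀ t : MonoidAlgebra (R ⧸ 𝔫) (M ⧸ N), (Φ c).coeff n • t = 0 := by
            intro t
            rw [Algebra.smul_def, MonoidAlgebra.coe_algebraMap, Function.comp_apply,
              Ideal.Quotient.algebraMap_eq, Ideal.Quotient.eq_zero_iff_mem.mpr hcn,
              MonoidAlgebra.single_zero, zero_mul]
          rw [hz, hz]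
      have hFone : F = 1 := by
        apply hinj (MonoidAlgebra (R ⧸ 𝔫) (M ⧸ N))
        rw [← F1 _ F, ← F1 _ 1, hcompeq]
      have h2 : F m = 1 := by
        rw [hFone]
        rfl
      have h3 : MonoidAlgebra.of (R ⧸ 𝔫) (M ⧸ N) (QuotientGroup.mk' N m) =
          MonoidAlgebra.of (R ⧸ 𝔫) (M ⧸ N) 1 := by
        rw [map_one]
        exact h2
      have h4 := MonoidAlgebra.of_injective h3
      exact hmN ((QuotientGroup.eq_one_iff m).mp h4)
  intro z
  induction z using MonoidAlgebra.induction_linear with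
  | zero => exact ⟨0, map_zero _⟩
  | add x y hx hy =>
    obtain ⟨a, ha⟩ := hx
    obtain ⟨b, hb⟩ := hy
    exact ⟨a + b, by rw [map_add, ha, hb]⟩
  | single n r =>
    obtain ⟨y, hy⟩ := key n
    exact ⟨r • y, by rw [map_smul, hy, MonoidAlgebra.smul_single, smul_eq_mul, mul_one]⟩

end Abstract

end Groth.Agent.Lib.MTNormH4
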