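import Mathlib
import Groth.Prelude
import Groth.Agent.Lib.MTWeil10_helper4
import Groth.Agent.Lib.MTSm1_helper4

/-!
# Points of a diagonalisable group with values in affine schemes, and their action (helper4)
-/

set_option backward.isDefEq.respectTransparency.types false
set_option autoImplicit false
set_option linter.unusedVariables false
set_option linter.unusedTactic false
set_option linter.unreachableTactic false
set_option linter.unusedSectionVars false
set_option linter.style.haveILetI false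
set_option linter.deprecated false
set_option linter.unusedSimpArgs false
set_option linter.style.longLine false
set_option maxHeartbeats 1600000

universe u

open CategoryTheory CategoryTheory.Limits MonoidalCategory CartesianMonoidalCategory MonObj GrpObj
  AlgebraicGeometry Opposite TensorProduct

namespace Groth.Agent.Lib.MTSmH4

open Groth.Agent.Lib.RedDictH8 Groth.Agent.Lib.DSDict Groth.Agent.Lib.MultGa
  Groth.Agent.Lib.MultTrivH4 Groth.Agent.Lib.ConnActH4 Groth.Agent.Lib.TwConstFinH4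
  Groth.Agent.Lib.MTHomH4 Groth.Agent.Lib.TorusQuotH4 Groth.Agent.Lib.KerTrivH4
  Groth.Agent.Lib.MTWeilH4

/-! ### Fixed points, at the level of schemes -/

section Fixed

variable {S : Scheme.{u}} {H X : Over S} (act : H ⊗ X ⟶ X)

/-- `x : T ⟶ X` is fixed by `H` (after every base change). -/
def FixedL {T : Scheme.{u}} (x : T ⟶ X.left) : Prop :=
  ∀ (T' : Over S) (t : T'.left ⟶ T) (ht : (t ≫ x) ≫ X.hom = T'.hom) (g : T' ⟶ H),
    lift g (Over.homMk (t ≫ x) ht : T' ⟶ X) ≫ act = Over.homMk (t ≫ x) ht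

theorem fixedL_comp {T T₂ : Scheme.{u}} (x : T ⟶ X.left) (h : FixedL act x) (m : T₂ ⟶ T) :
    FixedL act (m ≫ x) := by
  intro T' t ht g
  have ht' : ((t ≫ m) ≫ x) ≫ X.hom = T'.hom := by
    rw [Category.assoc t m x]
    exact ht
  have e : (Over.homMk (t ≫ m ≫ x) ht : T' ⟶ X) = Over.homMk ((t ≫ m) ≫ x) ht' := by
    apply Over.OverMorphism.ext
    exact (Category.assoc _ _ _).symm
  rw [e]
  exact h T' (t ≫ m) ht' g

theorem fixedL_iff {T : Over S} (y : T ⟶ X) :
    FixedL act y.left ↔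
      ∀ (T' : Over S) (t : T' ⟶ T) (g : T' ⟶ H), lift g (t ≫ y) ≫ act = t ≫ y := by
  constructor
  · intro h T' t g
    have ht : (t.left ≫ y.left) ≫ X.hom = T'.hom := by
      rw [Category.assoc, Over.w y, Over.w t]
    have e : (Over.homMk (t.left ≫ y.left) ht : T' ⟶ X) = t ≫ y := by
      apply Over.OverMorphism.ext
      rfl
    rw [← e]
    exact h T' t.left ht g
  · intro h T' t ht g
    have ht' : t ≫ T.hom = T'.hom := by
      rw [← Over.w y, ← Category.assoc]
      exact ht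
    have e : (Over.homMk (t ≫ y.left) ht : T' ⟶ X) = (Over.homMk t ht' : T' ⟶ T) ≫ y := by
      apply Over.OverMorphism.ext
      rfl
    rw [e]
    exact h T' _ g

theorem act_assoc_pt [GrpObj H] (a : AlgGrp.Action H X) {T : Over S} (g h : T ⟶ H)
    (y : T ⟶ X) : lift (g * h) y ≫ a.act = lift g (lift h y ≫ a.act) ≫ a.act := by
  have h1 := congrArg (fun m => lift (lift g h) y ≫ m) a.mul_act
  have e1 : lift (lift g h) y ≫ (μ[H] ▷ X) = lift (g * h) y := by
    rw [lift_whiskerRight]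
    rfl
  have e2 : lift (lift g h) y ≫ (α_ H H X).hom = lift g (lift h y) :=
    lift_lift_associator_hom g h y
  have h2 : (lift (lift g h) y ≫ (μ[H] ▷ X)) ≫ a.act =
      (lift (lift g h) y ≫ (α_ H H X).hom) ≫ (H ◁ a.act) ≫ a.act := by
    simpa only [Category.assoc] using h1
  rw [e1, e2, ← Category.assoc, lift_whiskerLeft] at h2
  exact h2

end Fixed

/-! ### `Spec C` as an `S`-scheme -/

section OC

variable {S : Scheme.{u}} {R : Type u} [CommRing R] (b : Spec (CommRingCat.of R) ⟶ S)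

/-- `Spec C`, over `S` through `σ : R → C` and `b : Spec R ⟶ S`. -/
noncomputable def OC {C : Type u} [CommRing C] (σ : R →+* C) : Over S :=
  Over.mk (Spec.map (CommRingCat.ofHom σ) ≫ b)

theorem spec_comp {C C₂ : Type u} [CommRing C] [CommRing C₂] (σ : R →+* C) (ρ : C →+* C₂) :
    Spec.map (CommRingCat.ofHom ρ) ≫ Spec.map (CommRingCat.ofHom σ) =
      Spec.map (CommRingCat.ofHom (ρ.comp σ)) := by
  rw [← Spec.map_comp]
  rfl

/-- the morphism `Spec C₂ ⟶ Spec C` over `S` induced by `ρ : C → C₂`. -/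
noncomputable def mapO {C C₂ : Type u} [CommRing C] [CommRing C₂] {σ : R →+* C} {σ₂ : R →+* C₂}
    (ρ : C →+* C₂) (h : ρ.comp σ = σ₂) : OC b σ₂ ⟶ OC b σ :=
  Over.homMk (Spec.map (CommRingCat.ofHom ρ)) (by
    show Spec.map (CommRingCat.ofHom ρ) ≫ Spec.map (CommRingCat.ofHom σ) ≫ b =
      Spec.map (CommRingCat.ofHom σ₂) ≫ b
    rw [← Category.assoc, spec_comp, h])

theorem mapO_left {C C₂ : Type u} [CommRing C] [CommRing C₂] {σ : R →+* C} {σ₂ : R →+* C₂}
    (ρ : C →+* C₂) (h : ρ.comp σ = σ₂) : (mapO b ρ h).left = Spec.map (CommRingCat.ofHom ρ) := rfl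

/-- `Spec C` over `Spec R`. -/
noncomputable def TC {C : Type u} [CommRing C] (σ : R →+* C) : Over (Spec (CommRingCat.of R)) :=
  Over.mk (Spec.map (CommRingCat.ofHom σ))

/-- global sections of `Spec C`. -/
noncomputable def gsec (C : Type u) [CommRing C] : C →+* Γ(Spec (CommRingCat.of C), ⊤) :=
  (Scheme.ΓSpecIso (CommRingCat.of C)).inv.hom

variable {M : Type} [AddCommGroup M]

theorem exists_dpt {C : Type u} [CommRing C] (σ : R →+* C) (χ : Multiplicative M →* C) :
    ∃ d : TC σ ⟶ Red.DS (Spec (CommRingCat.of R)) M,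
      ∀ m, chr d m = gsec C (χ (Multiplicative.ofAdd m)) :=
  exists_chr_eq (S := Spec (CommRingCat.of R)) (M := M) (T := TC σ)
    ((gsec C).toMonoidHom.comp χ)

/-- the point of `D(M)` with values in `Spec C` attached to a character. -/
noncomputable def dpt {C : Type u} [CommRing C] (σ : R →+* C) (χ : Multiplicative M →* C) :
    TC σ ⟶ Red.DS (Spec (CommRingCat.of R)) M := Classical.choose (exists_dpt σ χ)

theorem chr_dpt {C : Type u} [CommRing C] (σ : R →+* C) (χ : Multiplicative M →* C) (m : M) :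
    chr (dpt σ χ) m = gsec C (χ (Multiplicative.ofAdd m)) :=
  Classical.choose_spec (exists_dpt σ χ) m

variable {H : Over S} [GrpObj H] (P : PtIso H b M)

/-- the point of `H` with values in `Spec C` attached to a character. -/
noncomputable def hpt {C : Type u} [CommRing C] (σ : R →+* C) (χ : Multiplicative M →* C) :
    OC b σ ⟶ H := P.ofD (TC σ) (dpt σ χ)

theorem hpt_nat {C C₂ : Type u} [CommRing C] [CommRing C₂] {σ : R →+* C} {σ₂ : R →+* C₂}
    (ρ : C →+* C₂) (h : ρ.comp σ = σ₂) (χ : Multiplicative M →* C) :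
    mapO b ρ h ≫ hpt b P σ χ = hpt b P σ₂ (ρ.toMonoidHom.comp χ) := by
  subst h
  obtain ⟨c, hc⟩ : ∃ c : TC (ρ.comp σ) ⟶ TC σ, c.left = Spec.map (CommRingCat.ofHom ρ) :=
    ⟨Over.homMk (Spec.map (CommRingCat.ofHom ρ)) (spec_comp σ ρ), rfl⟩
  have e1 : mapO b ρ rfl = (Over.map b).map c := by
    apply Over.OverMorphism.ext
    exact hc.symm
  rw [e1]
  show (Over.map b).map c ≫ P.ofD (TC σ) (dpt σ χ) =
    P.ofD (TC (ρ.comp σ)) (dpt (ρ.comp σ) (ρ.toMonoidHom.comp χ))
  rw [P.of_nat]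
  congr 1
  apply chr_injective
  intro m
  rw [chr_comp, chr_dpt, chr_dpt, hc]
  exact (congrArg (fun f => f (χ (Multiplicative.ofAdd m)))
    (Scheme.ΓSpecIso_inv_naturality (CommRingCat.ofHom ρ))).symm

theorem hpt_mul {C : Type u} [CommRing C] (σ : R →+* C) (χ χ' : Multiplicative M →* C) :
    hpt b P σ (χ * χ') = hpt b P σ χ * hpt b P σ χ' := by
  show P.ofD (TC σ) (dpt σ (χ * χ')) = P.ofD (TC σ) (dpt σ χ) * P.ofD (TC σ) (dpt σ χ')
  rw [← P.of_mul]
  congr 1
  apply chr_injective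
  intro m
  rw [chr_mul, chr_dpt, chr_dpt, chr_dpt, MonoidHom.mul_apply, map_mul]
  rfl

theorem hpt_surj {C : Type u} [CommRing C] (σ : R →+* C) (g : OC b σ ⟶ H) :
    ∃ χ : Multiplicative M →* C, hpt b P σ χ = g := by
  obtain ⟨d, hd⟩ : ∃ d : TC σ ⟶ Red.DS (Spec (CommRingCat.of R)) M, d = P.toD (TC σ) g :=
    ⟨_, rfl⟩
  obtain ⟨hinv, hhinv⟩ : ∃ hinv : Γ(Spec (CommRingCat.of C), ⊤) →+* C,
      ∀ z, gsec C (hinv z) = z := by
    refine ⟨(Scheme.ΓSpecIso (CommRingCat.of C)).hom.hom, fun z => ?_⟩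
    exact congrArg (fun f => f z) (Scheme.ΓSpecIso (CommRingCat.of C)).hom_inv_id
  obtain ⟨χ, hχ⟩ : ∃ χ : Multiplicative M →* C, ∀ m, χ m = hinv (chr d m.toAdd) := by
    refine ⟨{ toFun := fun m => hinv (chr d m.toAdd), map_one' := ?_, map_mul' := ?_ },
      fun m => rfl⟩
    · show hinv (chr d 0) = 1
      rw [chr_zero]
      exact map_one hinv
    · intro m m'
      show hinv (chr d (m.toAdd + m'.toAdd)) = hinv (chr d m.toAdd) * hinv (chr d m'.toAdd)
      rw [chr_add]
      exact map_mul hinv _ _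
  refine ⟨χ, ?_⟩
  have e : dpt σ χ = d := by
    apply chr_injective
    intro m
    rw [chr_dpt, hχ]
    exact hhinv (chr d m)
  show P.ofD (TC σ) (dpt σ χ) = g
  rw [e, hd]
  exact P.of_to (TC σ) g

variable {X : Over S} (act : H ⊗ X ⟶ X)

/-- the action of the point of `H` attached to a character on a point of `X`. -/
noncomputable def actPt {C : Type u} [CommRing C] (σ : R →+* C) (χ : Multiplicative M →* C)
    (y : OC b σ ⟶ X) : OC b σ ⟶ X :=
  lift (hpt b P σ χ) y ≫ act

theorem actPt_nat {C C₂ : Type u} [CommRing C] [CommRing C₂] {σ : R →+* C} {σ₂ : R →+* C₂}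
    (ρ : C →+* C₂) (h : ρ.comp σ = σ₂) (χ : Multiplicative M →* C) (y : OC b σ ⟶ X) :
    mapO b ρ h ≫ actPt b P act σ χ y =
      actPt b P act σ₂ (ρ.toMonoidHom.comp χ) (mapO b ρ h ≫ y) := by
  unfold actPt
  rw [← Category.assoc, comp_lift, hpt_nat]

theorem actPt_mul
    (hassoc : ∀ (T : Over S) (g h : T ⟶ H) (y : T ⟶ X),
      lift (g * h) y ≫ act = lift g (lift h y ≫ act) ≫ act)
    {C : Type u} [CommRing C] (σ : R →+* C) (χ χ' : Multiplicative M →* C) (y : OC b σ ⟶ X) :
    actPt b P act σ χ (actPt b P act σ χ' y) = actPt b P act σ (χ * χ') y := by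
  unfold actPt
  rw [hpt_mul, hassoc]

theorem actPt_congr {C : Type u} [CommRing C] (σ : R →+* C) {χ χ' : Multiplicative M →* C}
    (hχ : ∀ m, χ m = χ' m) {y y' : OC b σ ⟶ X} (hy : y.left = y'.left) :
    actPt b P act σ χ y = actPt b P act σ χ' y' := by
  have e1 : χ = χ' := MonoidHom.ext hχ
  have e2 : y = y' := Over.OverMorphism.ext hy
  rw [e1, e2]

/-- the point of `X` with values in `Spec C` induced by a point with values in `Spec R`. -/
noncomputable def ptO {x : Spec (CommRingCat.of R) ⟶ X.left} (hx : x ≫ X.hom = b)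
    {C : Type u} [CommRing C] (σ : R →+* C) : OC b σ ⟶ X :=
  Over.homMk (Spec.map (CommRingCat.ofHom σ) ≫ x) (by
    show (Spec.map (CommRingCat.ofHom σ) ≫ x) ≫ X.hom = Spec.map (CommRingCat.ofHom σ) ≫ b
    rw [Category.assoc, hx])

theorem ptO_left {x : Spec (CommRingCat.of R) ⟶ X.left} (hx : x ≫ X.hom = b)
    {C : Type u} [CommRing C] (σ : R →+* C) :
    (ptO b hx σ).left = Spec.map (CommRingCat.ofHom σ) ≫ x := rfl

theorem mapO_ptO {x : Spec (CommRingCat.of R) ⟶ X.left} (hx : x ≫ X.hom = b)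
    {C C₂ : Type u} [CommRing C] [CommRing C₂] {σ : R →+* C} {σ₂ : R →+* C₂}
    (ρ : C →+* C₂) (h : ρ.comp σ = σ₂) : mapO b ρ h ≫ ptO b hx σ = ptO b hx σ₂ := by
  subst h
  apply Over.OverMorphism.ext
  show Spec.map (CommRingCat.ofHom ρ) ≫ Spec.map (CommRingCat.ofHom σ) ≫ x =
    Spec.map (CommRingCat.ofHom (ρ.comp σ)) ≫ x
  rw [← Category.assoc, spec_comp]

theorem hom_ext_affine {Y Z : Scheme.{u}} (u v : Y ⟶ Z)
    (h : ∀ (C : Type u) [CommRing C] (k : Spec (CommRingCat.of C) ⟶ Y), k ≫ u = k ≫ v) :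
    u = v := by
  refine Scheme.Cover.hom_ext Y.affineCover u v (fun j => ?_)
  exact h _ (Y.affineCover.f j)

/-- universal fixedness implies fixedness. -/
theorem fixedL_of_univ {x : Spec (CommRingCat.of R) ⟶ X.left} (hx : x ≫ X.hom = b)
    (huniv : actPt b P act (MonoidAlgebra.singleOneRingHom (R := R) (M := Multiplicative M))
      (MonoidAlgebra.of R (Multiplicative M)) (ptO b hx _) = ptO b hx _) :
    FixedL act x := by
  intro T' t ht g
  apply Over.OverMorphism.ext
  apply hom_ext_affine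
  intro C _ k
  obtain ⟨σ, hσ⟩ : ∃ σ : R →+* C, Spec.map (CommRingCat.ofHom σ) = k ≫ t :=
    ⟨(Spec.preimage (k ≫ t)).hom, Spec.map_preimage (k ≫ t)⟩
  have hk : k ≫ T'.hom = Spec.map (CommRingCat.ofHom σ) ≫ b := by
    rw [hσ, ← ht, ← hx]
    simp only [Category.assoc]
  obtain ⟨k₀, hk₀⟩ : ∃ k₀ : OC b σ ⟶ T', k₀.left = k := ⟨Over.homMk k hk, rfl⟩
  have e1 : k₀ ≫ (Over.homMk (t ≫ x) ht : T' ⟶ X) = ptO b hx σ := by
    apply Over.OverMorphism.ext
    show k₀.left ≫ t ≫ x = Spec.map (CommRingCat.ofHom σ) ≫ x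
    rw [hk₀, hσ, Category.assoc]
    rfl
  obtain ⟨χ, hχ⟩ := hpt_surj b P σ (k₀ ≫ g)
  letI : Algebra R C := σ.toAlgebra
  obtain ⟨ρ, hρ⟩ : ∃ ρ : MonoidAlgebra R (Multiplicative M) →+* C,
      ρ = (MonoidAlgebra.lift R C (Multiplicative M) χ).toRingHom := ⟨_, rfl⟩
  have hρ1 : ρ.comp (MonoidAlgebra.singleOneRingHom (R := R) (M := Multiplicative M)) = σ := by
    apply RingHom.ext
    intro r
    rw [hρ]
    show (MonoidAlgebra.lift R C (Multiplicative M) χ) (MonoidAlgebra.single 1 r) = σ r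
    rw [MonoidAlgebra.lift_single, map_one, Algebra.smul_def, _root_.mul_one]
    rfl
  have hρ2 : ∀ m, (ρ.toMonoidHom.comp (MonoidAlgebra.of R (Multiplicative M))) m = χ m := by
    intro m
    rw [hρ]
    show (MonoidAlgebra.lift R C (Multiplicative M) χ) (MonoidAlgebra.of R (Multiplicative M) m) =
      χ m
    rw [MonoidAlgebra.lift_of]
  have key : k₀ ≫ (lift g (Over.homMk (t ≫ x) ht : T' ⟶ X) ≫ act) =
      k₀ ≫ (Over.homMk (t ≫ x) ht : T' ⟶ X) := by
    calc k₀ ≫ (lift g (Over.homMk (t ≫ x) ht : T' ⟶ X) ≫ act)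
        = actPt b P act σ χ (ptO b hx σ) := by
          unfold actPt
          rw [← Category.assoc, comp_lift, e1, hχ]
      _ = actPt b P act σ (ρ.toMonoidHom.comp (MonoidAlgebra.of R (Multiplicative M)))
            (mapO b ρ hρ1 ≫ ptO b hx _) :=
          actPt_congr b P act σ (fun m => (hρ2 m).symm)
            (congrArg (fun z => z.left) (mapO_ptO b hx ρ hρ1).symm)
      _ = mapO b ρ hρ1 ≫ actPt b P act _ (MonoidAlgebra.of R (Multiplicative M))
            (ptO b hx _) := (actPt_nat b P act ρ hρ1 _ _).symm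
      _ = mapO b ρ hρ1 ≫ ptO b hx _ := by rw [huniv]
      _ = ptO b hx σ := mapO_ptO b hx ρ hρ1
      _ = k₀ ≫ (Over.homMk (t ≫ x) ht : T' ⟶ X) := e1.symm
  have key2 := congrArg (fun z => z.left) key
  simp only [Over.comp_left, hk₀] at key2
  exact key2

end OC

/-! ### Injective ring maps are epimorphisms towards separated schemes -/

theorem epi_of_injective {C₁ C₂ : Type u} [CommRing C₁] [CommRing C₂] (ρ : C₁ →+* C₂)
    (hρ : Function.Injective ρ) {Y Z : Scheme.{u}} (s : Y ⟶ Z) [IsSeparated s]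
    (f g : Spec (CommRingCat.of C₁) ⟶ Y) (h : f ≫ s = g ≫ s)
    (hfg : Spec.map (CommRingCat.ofHom ρ) ≫ f = Spec.map (CommRingCat.ofHom ρ) ≫ g) : f = g := by
  let X' : Over Z := Over.mk (f ≫ s)
  let Y' : Over Z := Over.mk s
  let U' : Over Z := Over.mk (Spec.map (CommRingCat.ofHom ρ) ≫ f ≫ s)
  let f' : X' ⟶ Y' := Over.homMk f rfl
  let g' : X' ⟶ Y' := Over.homMk g h.symm
  let ι' : U' ⟶ X' := Over.homMk (Spec.map (CommRingCat.ofHom ρ)) rfl
  have : IsSeparated Y'.hom := ‹_›
  have hι : ι' ≫ f' = ι' ≫ g' := Over.OverMorphism.ext hfg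
  have hl : (equalizer.lift ι' hι).left ≫ (equalizer.ι f' g').left =
      Spec.map (CommRingCat.ofHom ρ) := by
    rw [← Over.comp_left, equalizer.lift_ι]
    rfl
  have h1 : Function.Injective (Spec.map (CommRingCat.ofHom ρ)).appTop := by
    intro a a' haa
    have n := Scheme.ΓSpecIso_naturality (CommRingCat.ofHom ρ)
    have e1 : (Scheme.ΓSpecIso (CommRingCat.of C₂)).hom
        ((Spec.map (CommRingCat.ofHom ρ)).appTop a) =
        ρ ((Scheme.ΓSpecIso (CommRingCat.of C₁)).hom a) := congrArg (fun φ => φ a) n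
    have e2 : (Scheme.ΓSpecIso (CommRingCat.of C₂)).hom
        ((Spec.map (CommRingCat.ofHom ρ)).appTop a') =
        ρ ((Scheme.ΓSpecIso (CommRingCat.of C₁)).hom a') := congrArg (fun φ => φ a') n
    have e3 : (Scheme.ΓSpecIso (CommRingCat.of C₁)).hom a =
        (Scheme.ΓSpecIso (CommRingCat.of C₁)).hom a' := by
      apply hρ
      rw [← e1, ← e2, haa]
    have e4 := congrArg (fun z => (Scheme.ΓSpecIso (CommRingCat.of C₁)).inv z) e3
    have e5 : ∀ z, (Scheme.ΓSpecIso (CommRingCat.of C₁)).inv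
        ((Scheme.ΓSpecIso (CommRingCat.of C₁)).hom z) = z := fun z =>
      congrArg (fun f => f z) (Scheme.ΓSpecIso (CommRingCat.of C₁)).hom_inv_id
    simp only [e5] at e4
    exact e4
  have hinj : Function.Injective (equalizer.ι f' g').left.appTop := by
    rw [← hl, Scheme.Hom.comp_appTop] at h1
    exact Function.Injective.of_comp h1
  haveI : IsAffine X'.left := inferInstanceAs (IsAffine (Spec (CommRingCat.of C₁)))
  haveI : IsClosedImmersion (equalizer.ι f' g').left := isClosedImmersion_equalizer_ι_left f' g'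
  haveI := IsClosedImmersion.isIso_of_injective_of_isAffine hinj
  rw [← cancel_epi (equalizer.ι f' g').left]
  exact congrArg (fun z => z.left) (equalizer.condition f' g')

end Groth.Agent.Lib.MTSmH4
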