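import Mathlib
import Groth.Prelude
import Groth.Agent.Lib.MTSm2_helper4

/-!
# Lifting fixed points along square-zero thickenings of affine schemes (helper4)

The key lemma for the smoothness of the fixed point scheme of a diagonalisable group.
-/

set_option backward.isDefEq.respectTransparency.types false
set_option autoImplicit false
set_option linter.unusedVariables false
set_option linter.unusedTactic false
set_option linter.unreachableTactic false
set_option linter.unusedSectionVars false
set_option linter.style.haveILetI false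
set_option linter.deprecated false
set_option linter.unusedSimpArgs false
set_option linter.style.longLine false
set_option maxHeartbeats 1600000

universe u

open CategoryTheory CategoryTheory.Limits MonoidalCategory CartesianMonoidalCategory MonObj GrpObj
  AlgebraicGeometry Opposite TensorProduct

namespace Groth.Agent.Lib.MTSmH4

open Groth.Agent.Lib.RedDictH8 Groth.Agent.Lib.DSDict Groth.Agent.Lib.MultGa
  Groth.Agent.Lib.MultTrivH4 Groth.Agent.Lib.ConnActH4 Groth.Agent.Lib.TwConstFinH4
  Groth.Agent.Lib.MTHomH4 Groth.Agent.Lib.TorusQuotH4 Groth.Agent.Lib.KerTrivH4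
  Groth.Agent.Lib.MTWeilH4

/-! ### Small general lemmas -/

theorem spec_comp₂ {R C C₂ : Type u} [CommRing R] [CommRing C] [CommRing C₂] (σ : R →+* C)
    (ρ : C →+* C₂) {Y : Scheme.{u}} (f : Spec (CommRingCat.of R) ⟶ Y) :
    Spec.map (CommRingCat.ofHom ρ) ≫ Spec.map (CommRingCat.ofHom σ) ≫ f =
      Spec.map (CommRingCat.ofHom (ρ.comp σ)) ≫ f := by
  rw [← Category.assoc, spec_comp]

theorem exists_factor_open {Y : Scheme.{u}} {B C : Type u} [CommRing B] [CommRing C]
    (j : Spec (CommRingCat.of B) ⟶ Y) [IsOpenImmersion j] (g : Spec (CommRingCat.of C) ⟶ Y)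
    (h : Set.range g ⊆ Set.range j) :
    ∃ φ : B →+* C, Spec.map (CommRingCat.ofHom φ) ≫ j = g := by
  refine ⟨(Spec.preimage (IsOpenImmersion.lift j g h)).hom, ?_⟩
  have e : CommRingCat.ofHom (Spec.preimage (IsOpenImmersion.lift j g h)).hom =
      Spec.preimage (IsOpenImmersion.lift j g h) := rfl
  rw [e, Spec.map_preimage, IsOpenImmersion.lift_fac]

theorem comap_surj_of_sqzero {A A₀ : Type u} [CommRing A] [CommRing A₀] (f : A →+* A₀)
    (hf : Function.Surjective f) (hk : ∀ x y, f x = 0 → f y = 0 → x * y = 0)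
    (q : PrimeSpectrum A) : ∃ q₀ : PrimeSpectrum A₀, PrimeSpectrum.comap f q₀ = q := by
  have h1 : q ∈ Set.range (PrimeSpectrum.comap f) := by
    rw [range_comap_of_surjective _ f hf, PrimeSpectrum.mem_zeroLocus]
    intro x hx
    have hx0 : f x = 0 := (RingHom.mem_ker).mp hx
    have h2 : x * x ∈ q.asIdeal := by
      rw [hk x x hx0 hx0]
      exact Ideal.zero_mem _
    exact (q.isPrime.mem_or_mem h2).elim id id
  exact h1

theorem spec_surj_of_sqzero {A A₀ : Type u} [CommRing A] [CommRing A₀] (f : A →+* A₀)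
    (hf : Function.Surjective f) (hk : ∀ x y, f x = 0 → f y = 0 → x * y = 0)
    (q : Spec (CommRingCat.of A)) :
    ∃ q₀ : Spec (CommRingCat.of A₀), Spec.map (CommRingCat.ofHom f) q₀ = q :=
  comap_surj_of_sqzero f hf hk q

theorem red_surjective {R R₀ : Type u} [CommRing R] [CommRing R₀] (ir : R →+* R₀) (G : Type)
    [CommMonoid G] (hs : Function.Surjective ir) : Function.Surjective (red ir G) := by
  intro y
  induction y using MonoidAlgebra.induction_linear with
  | zero => exact ⟨0, map_zero _⟩
  | add y y' hy hy' =>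
    obtain ⟨x, hx⟩ := hy
    obtain ⟨x', hx'⟩ := hy'
    exact ⟨x + x', by rw [map_add, hx, hx']⟩
  | single g r₀ =>
    obtain ⟨r, hr⟩ := hs r₀
    exact ⟨MonoidAlgebra.single g r, by rw [red_single, hr]⟩

/-! ### The action of characters, at the level of schemes -/

section AL

variable {S : Scheme.{u}} {R : Type u} [CommRing R] (b : Spec (CommRingCat.of R) ⟶ S)
  {M : Type} [AddCommGroup M] {H : Over S} [GrpObj H] (P : PtIso H b M)
  {X : Over S} (act : H ⊗ X ⟶ X)

/-- the action of a character on a point, at the level of schemes. -/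
noncomputable def aL {C : Type u} [CommRing C] (σ : R →+* C) (χ : Multiplicative M →* C)
    (yl : Spec (CommRingCat.of C) ⟶ X.left)
    (hy : yl ≫ X.hom = Spec.map (CommRingCat.ofHom σ) ≫ b) :
    Spec (CommRingCat.of C) ⟶ X.left :=
  (actPt b P act σ χ (Over.homMk yl hy : OC b σ ⟶ X)).left

theorem aL_over {C : Type u} [CommRing C] (σ : R →+* C) (χ : Multiplicative M →* C)
    (yl : Spec (CommRingCat.of C) ⟶ X.left)
    (hy : yl ≫ X.hom = Spec.map (CommRingCat.ofHom σ) ≫ b) :
    aL b P act σ χ yl hy ≫ X.hom = Spec.map (CommRingCat.ofHom σ) ≫ b :=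
  Over.w (actPt b P act σ χ (Over.homMk yl hy : OC b σ ⟶ X))

theorem aL_congr {C : Type u} [CommRing C] (σ σ' : R →+* C) (hσ : σ = σ')
    {χ χ' : Multiplicative M →* C} (hχ : ∀ m, χ m = χ' m)
    {yl yl' : Spec (CommRingCat.of C) ⟶ X.left} (hyl : yl = yl')
    (hy : yl ≫ X.hom = Spec.map (CommRingCat.ofHom σ) ≫ b)
    (hy' : yl' ≫ X.hom = Spec.map (CommRingCat.ofHom σ') ≫ b) :
    aL b P act σ χ yl hy = aL b P act σ' χ' yl' hy' := by
  subst hσ
  subst hyl
  have e1 : χ = χ' := MonoidHom.ext hχ
  subst e1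
  rfl

omit [GrpObj H] in
theorem over_nat {C C₂ : Type u} [CommRing C] [CommRing C₂] (σ : R →+* C) (ρ : C →+* C₂)
    {yl : Spec (CommRingCat.of C) ⟶ X.left}
    (hy : yl ≫ X.hom = Spec.map (CommRingCat.ofHom σ) ≫ b) :
    (Spec.map (CommRingCat.ofHom ρ) ≫ yl) ≫ X.hom =
      Spec.map (CommRingCat.ofHom (ρ.comp σ)) ≫ b := by
  rw [Category.assoc, hy, spec_comp₂]

theorem aL_nat {C C₂ : Type u} [CommRing C] [CommRing C₂] (σ : R →+* C) (ρ : C →+* C₂)
    (χ : Multiplicative M →* C) (yl : Spec (CommRingCat.of C) ⟶ X.left)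
    (hy : yl ≫ X.hom = Spec.map (CommRingCat.ofHom σ) ≫ b)
    (hy₂ : (Spec.map (CommRingCat.ofHom ρ) ≫ yl) ≫ X.hom =
      Spec.map (CommRingCat.ofHom (ρ.comp σ)) ≫ b) :
    Spec.map (CommRingCat.ofHom ρ) ≫ aL b P act σ χ yl hy =
      aL b P act (ρ.comp σ) (ρ.toMonoidHom.comp χ) (Spec.map (CommRingCat.ofHom ρ) ≫ yl) hy₂ := by
  have h := actPt_nat b P act ρ (rfl : ρ.comp σ = ρ.comp σ) χ (Over.homMk yl hy : OC b σ ⟶ X)
  have h2 := congrArg (fun z => z.left) h
  refine h2.trans ?_
  exact congrArg (fun z => z.left)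
    (actPt_congr b P act (ρ.comp σ) (fun m => rfl) rfl)

theorem aL_mul
    (hassoc : ∀ (T : Over S) (g h : T ⟶ H) (y : T ⟶ X),
      lift (g * h) y ≫ act = lift g (lift h y ≫ act) ≫ act)
    {C : Type u} [CommRing C] (σ : R →+* C) (χ χ' : Multiplicative M →* C)
    (yl : Spec (CommRingCat.of C) ⟶ X.left)
    (hy : yl ≫ X.hom = Spec.map (CommRingCat.ofHom σ) ≫ b) :
    aL b P act σ χ (aL b P act σ χ' yl hy) (aL_over b P act σ χ' yl hy) =
      aL b P act σ (χ * χ') yl hy := by
  have e : (Over.homMk (aL b P act σ χ' yl hy) (aL_over b P act σ χ' yl hy) : OC b σ ⟶ X) =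
      actPt b P act σ χ' (Over.homMk yl hy : OC b σ ⟶ X) := Over.OverMorphism.ext rfl
  show (actPt b P act σ χ (Over.homMk (aL b P act σ χ' yl hy)
    (aL_over b P act σ χ' yl hy) : OC b σ ⟶ X)).left = _
  rw [e, actPt_mul b P act hassoc]
  rfl

end AL

/-! ### The key lemma -/

section KL

variable {S : Scheme.{u}} {R R₀ : Type u} [CommRing R] [CommRing R₀] (ir : R →+* R₀)
  (hι : ∀ x y : R, ir x = 0 → ir y = 0 → x * y = 0) (hs : Function.Surjective ir)
  (b : Spec (CommRingCat.of R) ⟶ S)
  {M : Type} [AddCommGroup M] {H : Over S} [GrpObj H] (P : PtIso H b M)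
  {X : Over S} (act : H ⊗ X ⟶ X)
  (hassoc : ∀ (T : Over S) (g h : T ⟶ H) (y : T ⟶ X),
    lift (g * h) y ≫ act = lift g (lift h y ≫ act) ≫ act)

include hι hs hassoc P in
/-- **Key lemma.** A point `x₁` of `X` with values in `Spec R` whose restriction to the closed
subscheme `Spec R₀` (defined by a square-zero ideal) is fixed by the diagonalisable group `H`
can be modified, without changing its restriction to `Spec R₀`, into a fixed point. -/
theorem exists_fixed_lift [IsSeparated X.hom]
    (x₁ : Spec (CommRingCat.of R) ⟶ X.left) (hx₁ : x₁ ≫ X.hom = b)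
    (hfix : FixedL act (Spec.map (CommRingCat.ofHom ir) ≫ x₁))
    {B BV : Type u} [CommRing B] [CommRing BV]
    (j : Spec (CommRingCat.of B) ⟶ X.left) [IsOpenImmersion j]
    (jV : Spec (CommRingCat.of BV) ⟶ S) [Mono jV]
    (ψ : BV →+* B) (hψ : j ≫ X.hom = Spec.map (CommRingCat.ofHom ψ) ≫ jV)
    (hj : Set.range x₁ ⊆ Set.range j) :
    ∃ x : Spec (CommRingCat.of R) ⟶ X.left, x ≫ X.hom = b ∧
      Spec.map (CommRingCat.ofHom ir) ≫ x = Spec.map (CommRingCat.ofHom ir) ≫ x₁ ∧
      FixedL act x := by
  obtain ⟨sA, hsA⟩ : ∃ sA : R →+* MonoidAlgebra R (Multiplicative M),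
      sA = MonoidAlgebra.singleOneRingHom := ⟨_, rfl⟩
  obtain ⟨sA₀, hsA₀⟩ : ∃ sA₀ : R₀ →+* MonoidAlgebra R₀ (Multiplicative M),
      sA₀ = MonoidAlgebra.singleOneRingHom := ⟨_, rfl⟩
  have hredsA : (red ir (Multiplicative M)).comp sA = sA₀.comp ir := by
    rw [hsA, hsA₀]
    exact red_comp_s ir (Multiplicative M)
  have hpt_over : ∀ {C : Type u} [CommRing C] (σ : R →+* C),
      (Spec.map (CommRingCat.ofHom σ) ≫ x₁) ≫ X.hom = Spec.map (CommRingCat.ofHom σ) ≫ b := by
    intro C _ σ
    rw [Category.assoc, hx₁]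
  -- step 0: `x₁` through the chart
  obtain ⟨ξ₁, hξ₁⟩ := exists_factor_open j x₁ hj
  -- step 1: the orbit map of the universal character
  obtain ⟨o, ho⟩ : ∃ o : Spec (CommRingCat.of (MonoidAlgebra R (Multiplicative M))) ⟶ X.left,
      o = aL b P act sA (MonoidAlgebra.of R (Multiplicative M))
        (Spec.map (CommRingCat.ofHom sA) ≫ x₁) (hpt_over sA) := ⟨_, rfl⟩
  have ho_over : o ≫ X.hom = Spec.map (CommRingCat.ofHom sA) ≫ b := by
    rw [ho]
    exact aL_over b P act sA _ _ _
  have hnat_o : ∀ {C₂ : Type u} [CommRing C₂] (ρ : MonoidAlgebra R (Multiplicative M) →+* C₂),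
      Spec.map (CommRingCat.ofHom ρ) ≫ o =
        aL b P act (ρ.comp sA) (ρ.toMonoidHom.comp (MonoidAlgebra.of R (Multiplicative M)))
          (Spec.map (CommRingCat.ofHom (ρ.comp sA)) ≫ x₁) (hpt_over (ρ.comp sA)) := by
    intro C₂ _ ρ
    rw [ho, aL_nat b P act sA ρ _ _ (hpt_over sA) (over_nat b sA ρ (hpt_over sA))]
    exact aL_congr b P act _ _ rfl (fun m => rfl) (spec_comp₂ sA ρ x₁) _ _
  -- step 2: the orbit map is constant modulo the ideal
  have hred_o : Spec.map (CommRingCat.ofHom (red ir (Multiplicative M))) ≫ o =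
      Spec.map (CommRingCat.ofHom (red ir (Multiplicative M))) ≫
        Spec.map (CommRingCat.ofHom sA) ≫ x₁ := by
    have e_pts : Spec.map (CommRingCat.ofHom ((red ir (Multiplicative M)).comp sA)) ≫ x₁ =
        Spec.map (CommRingCat.ofHom sA₀) ≫ Spec.map (CommRingCat.ofHom ir) ≫ x₁ := by
      rw [spec_comp₂, hredsA]
    have ht : (Spec.map (CommRingCat.ofHom sA₀) ≫ Spec.map (CommRingCat.ofHom ir) ≫ x₁) ≫ X.hom =
        (OC b ((red ir (Multiplicative M)).comp sA)).hom := by
      show _ = Spec.map (CommRingCat.ofHom ((red ir (Multiplicative M)).comp sA)) ≫ b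
      rw [← e_pts]
      exact hpt_over _
    have hf := hfix (OC b ((red ir (Multiplicative M)).comp sA))
      (Spec.map (CommRingCat.ofHom sA₀)) ht
      (hpt b P ((red ir (Multiplicative M)).comp sA)
        ((red ir (Multiplicative M)).toMonoidHom.comp (MonoidAlgebra.of R (Multiplicative M))))
    have hf2 : aL b P act ((red ir (Multiplicative M)).comp sA)
        ((red ir (Multiplicative M)).toMonoidHom.comp (MonoidAlgebra.of R (Multiplicative M)))
        (Spec.map (CommRingCat.ofHom sA₀) ≫ Spec.map (CommRingCat.ofHom ir) ≫ x₁) ht =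
        Spec.map (CommRingCat.ofHom sA₀) ≫ Spec.map (CommRingCat.ofHom ir) ≫ x₁ :=
      congrArg (fun z => z.left) hf
    rw [hnat_o (red ir (Multiplicative M)), spec_comp₂]
    refine Eq.trans ?_ (hf2.trans e_pts.symm)
    exact aL_congr b P act _ _ rfl (fun m => rfl) e_pts _ _
  -- step 3: the orbit map lands in the chart
  have hrange : Set.range o ⊆ Set.range j := by
    rintro _ ⟨q, rfl⟩
    obtain ⟨q₀, rfl⟩ := spec_surj_of_sqzero (red ir (Multiplicative M))
      (red_surjective ir (Multiplicative M) hs) (hred ir (Multiplicative M) hι) q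
    have h1 : o (Spec.map (CommRingCat.ofHom (red ir (Multiplicative M))) q₀) =
        x₁ (Spec.map (CommRingCat.ofHom sA)
          (Spec.map (CommRingCat.ofHom (red ir (Multiplicative M))) q₀)) :=
      congrArg (fun f : Spec (CommRingCat.of (MonoidAlgebra R₀ (Multiplicative M))) ⟶ X.left =>
        f q₀) hred_o
    rw [h1]
    exact hj ⟨_, rfl⟩
  obtain ⟨φ, hφ⟩ := exists_factor_open j o hrange
  -- step 4: the reduction of `φ` is constant
  have hφred : (red ir (Multiplicative M)).comp φ =
      ((red ir (Multiplicative M)).comp sA).comp ξ₁ := by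
    have h1 : Spec.map (CommRingCat.ofHom ((red ir (Multiplicative M)).comp φ)) ≫ j =
        Spec.map (CommRingCat.ofHom (((red ir (Multiplicative M)).comp sA).comp ξ₁)) ≫ j := by
      rw [← spec_comp₂ φ (red ir (Multiplicative M)) j, hφ, hred_o,
        ← spec_comp₂ ξ₁ ((red ir (Multiplicative M)).comp sA) j, hξ₁, spec_comp₂]
    exact congrArg (fun f => f.hom) (Spec.map_injective ((cancel_mono j).mp h1))
  have hfac : ∀ b', MonoidAlgebra.mapRingHom (Multiplicative M) ir (φ b') =
      MonoidAlgebra.single 1 ((ir.comp ξ₁) b') := by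
    intro b'
    have h1 := congrArg (fun f => f b') hφred
    refine h1.trans ?_
    show red ir (Multiplicative M) (sA (ξ₁ b')) = _
    rw [hsA]
    exact red_single ir (Multiplicative M) 1 (ξ₁ b')
  obtain ⟨φ', hφ'1, hφ'2⟩ := exists_factor ir (Multiplicative M) hι φ (ir.comp ξ₁) hfac
  -- step 5: the restricted orbit map is a morphism over `S`
  have hincl_s : (Rp ir (Multiplicative M)).subtype.comp (sRp ir (Multiplicative M)) = sA := by
    rw [hsA]
    rfl
  have hb : b = Spec.map (CommRingCat.ofHom (ξ₁.comp ψ)) ≫ jV := by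
    rw [← hx₁, ← hξ₁, Category.assoc, hψ, spec_comp₂]
  have hφψ : φ.comp ψ = sA.comp (ξ₁.comp ψ) := by
    have h1 : Spec.map (CommRingCat.ofHom (φ.comp ψ)) ≫ jV =
        Spec.map (CommRingCat.ofHom (sA.comp (ξ₁.comp ψ))) ≫ jV := by
      calc Spec.map (CommRingCat.ofHom (φ.comp ψ)) ≫ jV
          = Spec.map (CommRingCat.ofHom φ) ≫ Spec.map (CommRingCat.ofHom ψ) ≫ jV :=
            (spec_comp₂ ψ φ jV).symm
        _ = o ≫ X.hom := by rw [← hψ, ← Category.assoc, hφ]
        _ = Spec.map (CommRingCat.ofHom sA) ≫ b := ho_over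
        _ = Spec.map (CommRingCat.ofHom sA) ≫
              Spec.map (CommRingCat.ofHom (ξ₁.comp ψ)) ≫ jV := by rw [← hb]
        _ = Spec.map (CommRingCat.ofHom (sA.comp (ξ₁.comp ψ))) ≫ jV := spec_comp₂ _ _ _
    exact congrArg (fun f => f.hom) (Spec.map_injective ((cancel_mono jV).mp h1))
  have hφ'ψ : φ'.comp ψ = (sRp ir (Multiplicative M)).comp (ξ₁.comp ψ) := by
    apply RingHom.ext
    intro v
    apply Subtype.ext
    have h1 : φ (ψ v) = sA (ξ₁ (ψ v)) := congrArg (fun f => f v) hφψ
    have h2 : ((φ' (ψ v) : Rp ir (Multiplicative M)) : MonoidAlgebra R (Multiplicative M)) =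
        φ (ψ v) := congrArg (fun f => f (ψ v)) hφ'1
    have h3 : (((sRp ir (Multiplicative M)) (ξ₁ (ψ v)) : Rp ir (Multiplicative M)) :
        MonoidAlgebra R (Multiplicative M)) = sA (ξ₁ (ψ v)) :=
      congrArg (fun f => f (ξ₁ (ψ v))) hincl_s
    exact h2.trans (h1.trans h3.symm)
  obtain ⟨o', ho'⟩ : ∃ o' : Spec (CommRingCat.of (Rp ir (Multiplicative M))) ⟶ X.left,
      o' = Spec.map (CommRingCat.ofHom φ') ≫ j := ⟨_, rfl⟩
  have hincl_o' : Spec.map (CommRingCat.ofHom (Rp ir (Multiplicative M)).subtype) ≫ o' = o := by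
    rw [ho', spec_comp₂, hφ'1, hφ]
  have ho'_over : o' ≫ X.hom = Spec.map (CommRingCat.ofHom (sRp ir (Multiplicative M))) ≫ b := by
    rw [ho', Category.assoc, hψ, spec_comp₂, hφ'ψ, ← spec_comp₂, ← hb]
  -- step 6: the new point
  obtain ⟨x, hxdef⟩ : ∃ x : Spec (CommRingCat.of R) ⟶ X.left,
      x = Spec.map (CommRingCat.ofHom (piR ir (Multiplicative M) hι)) ≫ o' := ⟨_, rfl⟩
  have hx : x ≫ X.hom = b := by
    rw [hxdef, Category.assoc, ho'_over, spec_comp₂, piR_comp_sRp]
    show Spec.map (𝟙 (CommRingCat.of R)) ≫ b = b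
    rw [Spec.map_id, Category.id_comp]
  have hring : (ir.comp (piR ir (Multiplicative M) hι)).comp φ' = ir.comp ξ₁ := RingHom.ext hφ'2
  have hxι : Spec.map (CommRingCat.ofHom ir) ≫ x = Spec.map (CommRingCat.ofHom ir) ≫ x₁ := by
    rw [hxdef, ho', spec_comp₂, spec_comp₂, hring, ← hξ₁, spec_comp₂]
  refine ⟨x, hx, hxι, ?_⟩
  -- step 7: the orbit map of the new point, on `Rp₂`
  have hE : aL b P act ((cstR ir (Multiplicative M)).comp (sRp ir (Multiplicative M)))
      (chi₂ ir (Multiplicative M)) (Spec.map (CommRingCat.ofHom (cstR ir (Multiplicative M))) ≫ o')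
      (over_nat b (sRp ir (Multiplicative M)) (cstR ir (Multiplicative M)) ho'_over) =
      Spec.map (CommRingCat.ofHom (coaR ir (Multiplicative M))) ≫ o' := by
    apply epi_of_injective (Rp₂ ir (Multiplicative M)).subtype Subtype.val_injective X.hom
    · rw [aL_over, over_nat b (sRp ir (Multiplicative M)) (coaR ir (Multiplicative M)) ho'_over,
        cstR_comp_s]
    · have hτ₁ : (Rp₂ ir (Multiplicative M)).subtype.comp
          ((cstR ir (Multiplicative M)).comp (sRp ir (Multiplicative M))) =
          (cst' (R := R) (Multiplicative M)).comp sA := by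
        rw [hsA]
        rfl
      have hyl₁ : Spec.map (CommRingCat.ofHom (Rp₂ ir (Multiplicative M)).subtype) ≫
          Spec.map (CommRingCat.ofHom (cstR ir (Multiplicative M))) ≫ o' =
          Spec.map (CommRingCat.ofHom (cst' (R := R) (Multiplicative M))) ≫ o := by
        rw [← hincl_o', spec_comp₂, spec_comp₂, incl₂_comp_cstR]
      have hyl₂ : Spec.map (CommRingCat.ofHom (Rp₂ ir (Multiplicative M)).subtype) ≫
          Spec.map (CommRingCat.ofHom (coaR ir (Multiplicative M))) ≫ o' =
          Spec.map (CommRingCat.ofHom (coa' (R := R) (Multiplicative M))) ≫ o := by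
        rw [← hincl_o', spec_comp₂, spec_comp₂, incl₂_comp_coaR]
      have hcs : (coa' (R := R) (Multiplicative M)).comp sA =
          (cst' (R := R) (Multiplicative M)).comp sA := by
        rw [hsA]
        exact (cst'_comp_s (R := R) (Multiplicative M)).symm
      calc Spec.map (CommRingCat.ofHom (Rp₂ ir (Multiplicative M)).subtype) ≫
            aL b P act ((cstR ir (Multiplicative M)).comp (sRp ir (Multiplicative M)))
              (chi₂ ir (Multiplicative M))
              (Spec.map (CommRingCat.ofHom (cstR ir (Multiplicative M))) ≫ o')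
              (over_nat b (sRp ir (Multiplicative M)) (cstR ir (Multiplicative M)) ho'_over)
          = aL b P act ((Rp₂ ir (Multiplicative M)).subtype.comp
                ((cstR ir (Multiplicative M)).comp (sRp ir (Multiplicative M))))
              ((Rp₂ ir (Multiplicative M)).subtype.toMonoidHom.comp (chi₂ ir (Multiplicative M)))
              (Spec.map (CommRingCat.ofHom (Rp₂ ir (Multiplicative M)).subtype) ≫
                Spec.map (CommRingCat.ofHom (cstR ir (Multiplicative M))) ≫ o')
              (over_nat b _ (Rp₂ ir (Multiplicative M)).subtype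
                (over_nat b (sRp ir (Multiplicative M)) (cstR ir (Multiplicative M)) ho'_over)) :=
            aL_nat b P act _ _ _ _ _ _
        _ = aL b P act ((cst' (R := R) (Multiplicative M)).comp sA)
              ((Rp₂ ir (Multiplicative M)).subtype.toMonoidHom.comp (chi₂ ir (Multiplicative M)))
              (aL b P act ((cst' (R := R) (Multiplicative M)).comp sA)
                ((cst' (R := R) (Multiplicative M)).toMonoidHom.comp
                  (MonoidAlgebra.of R (Multiplicative M)))
                (Spec.map (CommRingCat.ofHom ((cst' (R := R) (Multiplicative M)).comp sA)) ≫ x₁)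
                (hpt_over _))
              (aL_over b P act _ _ _ _) :=
            aL_congr b P act _ _ hτ₁ (fun m => rfl)
              (hyl₁.trans (hnat_o (cst' (R := R) (Multiplicative M)))) _ _
        _ = aL b P act ((cst' (R := R) (Multiplicative M)).comp sA)
              (((Rp₂ ir (Multiplicative M)).subtype.toMonoidHom.comp (chi₂ ir (Multiplicative M))) *
                ((cst' (R := R) (Multiplicative M)).toMonoidHom.comp
                  (MonoidAlgebra.of R (Multiplicative M))))
              (Spec.map (CommRingCat.ofHom ((cst' (R := R) (Multiplicative M)).comp sA)) ≫ x₁)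
              (hpt_over _) := aL_mul b P act hassoc _ _ _ _ _
        _ = aL b P act ((coa' (R := R) (Multiplicative M)).comp sA)
              ((coa' (R := R) (Multiplicative M)).toMonoidHom.comp
                (MonoidAlgebra.of R (Multiplicative M)))
              (Spec.map (CommRingCat.ofHom ((coa' (R := R) (Multiplicative M)).comp sA)) ≫ x₁)
              (hpt_over _) :=
            aL_congr b P act _ _ hcs.symm (fun m => chi₂_mul_cst' ir (Multiplicative M) m)
              (by rw [hcs]) _ _
        _ = Spec.map (CommRingCat.ofHom (coa' (R := R) (Multiplicative M))) ≫ o :=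
            (hnat_o (coa' (R := R) (Multiplicative M))).symm
        _ = Spec.map (CommRingCat.ofHom (Rp₂ ir (Multiplicative M)).subtype) ≫
              Spec.map (CommRingCat.ofHom (coaR ir (Multiplicative M))) ≫ o' := hyl₂.symm
  -- step 8: conclusion
  have h_a : (Spec.map (CommRingCat.ofHom sA) ≫ x) ≫ X.hom =
      Spec.map (CommRingCat.ofHom sA) ≫ b := by
    rw [Category.assoc, hx]
  suffices hfinal : aL b P act sA (MonoidAlgebra.of R (Multiplicative M))
      (Spec.map (CommRingCat.ofHom sA) ≫ x) h_a = Spec.map (CommRingCat.ofHom sA) ≫ x by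
    subst hsA
    apply fixedL_of_univ b P act hx
    apply Over.OverMorphism.ext
    exact hfinal
  obtain ⟨pi₂, hpi₂⟩ : ∃ pi₂ : Rp₂ ir (Multiplicative M) →+* MonoidAlgebra R (Multiplicative M),
      pi₂ = piR (red ir (Multiplicative M)) (Multiplicative M) (hred ir (Multiplicative M) hι) :=
    ⟨_, rfl⟩
  have hpc : pi₂.comp (cstR ir (Multiplicative M)) = sA.comp (piR ir (Multiplicative M) hι) := by
    rw [hpi₂, hsA]
    exact pi₂_comp_cstR ir (Multiplicative M) hι
  have hpa : pi₂.comp (coaR ir (Multiplicative M)) = sA.comp (piR ir (Multiplicative M) hι) := by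
    rw [hpi₂, hsA]
    exact pi₂_comp_coaR ir (Multiplicative M) hι
  have hpi_σ : pi₂.comp ((cstR ir (Multiplicative M)).comp (sRp ir (Multiplicative M))) = sA := by
    have h1 : (pi₂.comp (cstR ir (Multiplicative M))).comp (sRp ir (Multiplicative M)) = sA := by
      rw [hpc, RingHom.comp_assoc, piR_comp_sRp, RingHom.comp_id]
    exact h1
  have hyl₃ : Spec.map (CommRingCat.ofHom pi₂) ≫
      Spec.map (CommRingCat.ofHom (cstR ir (Multiplicative M))) ≫ o' =
      Spec.map (CommRingCat.ofHom sA) ≫ x := by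
    rw [hxdef, spec_comp₂, spec_comp₂, hpc]
  have hyl₄ : Spec.map (CommRingCat.ofHom pi₂) ≫
      Spec.map (CommRingCat.ofHom (coaR ir (Multiplicative M))) ≫ o' =
      Spec.map (CommRingCat.ofHom sA) ≫ x := by
    rw [hxdef, spec_comp₂, spec_comp₂, hpa]
  have hchi : ∀ m, (pi₂.toMonoidHom.comp (chi₂ ir (Multiplicative M))) m =
      MonoidAlgebra.of R (Multiplicative M) m := by
    intro m
    rw [hpi₂]
    exact pi₂_chi₂ ir (Multiplicative M) hι m
  calc aL b P act sA (MonoidAlgebra.of R (Multiplicative M))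
        (Spec.map (CommRingCat.ofHom sA) ≫ x) h_a
      = aL b P act (pi₂.comp ((cstR ir (Multiplicative M)).comp (sRp ir (Multiplicative M))))
          (pi₂.toMonoidHom.comp (chi₂ ir (Multiplicative M)))
          (Spec.map (CommRingCat.ofHom pi₂) ≫
            Spec.map (CommRingCat.ofHom (cstR ir (Multiplicative M))) ≫ o')
          (over_nat b _ pi₂
            (over_nat b (sRp ir (Multiplicative M)) (cstR ir (Multiplicative M)) ho'_over)) :=
        aL_congr b P act _ _ hpi_σ.symm (fun m => (hchi m).symm) hyl₃.symm _ _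
    _ = Spec.map (CommRingCat.ofHom pi₂) ≫
          aL b P act ((cstR ir (Multiplicative M)).comp (sRp ir (Multiplicative M)))
            (chi₂ ir (Multiplicative M))
            (Spec.map (CommRingCat.ofHom (cstR ir (Multiplicative M))) ≫ o')
            (over_nat b (sRp ir (Multiplicative M)) (cstR ir (Multiplicative M)) ho'_over) :=
        (aL_nat b P act _ _ _ _ _ _).symm
    _ = Spec.map (CommRingCat.ofHom pi₂) ≫
          Spec.map (CommRingCat.ofHom (coaR ir (Multiplicative M))) ≫ o' := by rw [hE]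
    _ = Spec.map (CommRingCat.ofHom sA) ≫ x := hyl₄

end KL

end Groth.Agent.Lib.MTSmH4
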