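import Mathlib
import Groth.Prelude
import Groth.Agent.Lib.MTSm3_helper4
import Groth.Agent.Lib.FSmoothIff_helper7
import Groth.Agent.Lib.SmoothDesc_helper4

/-!
# Smoothness of the fixed point scheme of a group of multiplicative type (helper4)
-/

set_option backward.isDefEq.respectTransparency.types false
set_option autoImplicit false
set_option linter.unusedVariables false
set_option linter.unusedTactic false
set_option linter.unreachableTactic false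
set_option linter.unusedSectionVars false
set_option linter.style.haveILetI false
set_option linter.deprecated false
set_option linter.unusedSimpArgs false
set_option linter.style.longLine false
set_option maxHeartbeats 1600000

universe u

open CategoryTheory CategoryTheory.Limits MonoidalCategory CartesianMonoidalCategory MonObj GrpObj
  AlgebraicGeometry Opposite TensorProduct

namespace Groth.Agent.Lib.MTSmH4

open Groth.Agent.Lib.RedDictH8 Groth.Agent.Lib.DSDict Groth.Agent.Lib.MultGa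
  Groth.Agent.Lib.MultTrivH4 Groth.Agent.Lib.ConnActH4 Groth.Agent.Lib.TwConstFinH4
  Groth.Agent.Lib.MTHomH4 Groth.Agent.Lib.TorusQuotH4 Groth.Agent.Lib.KerTrivH4
  Groth.Agent.Lib.MTWeilH4 Groth.Agent.Lib.AffLiftH7 Groth.Agent.Lib.Thickening_helper7
  Groth.Agent.Lib.UnivThickSch1_helper7 Groth.Agent.Lib.FormalEtale_helper7

/-! ### The key lemma for thickenings of affine schemes -/

section Aff

variable {S : Scheme.{u}} {H X : Over S} [GrpObj H] (act : H ⊗ X ⟶ X)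
  (hassoc : ∀ (T : Over S) (g h : T ⟶ H) (y : T ⟶ X),
    lift (g * h) y ≫ act = lift g (lift h y ≫ act) ≫ act)

include hassoc in
theorem exists_fixed_lift_aff [IsSeparated X.hom] {T₀ T : Scheme.{u}} [IsAffine T₀] [IsAffine T]
    (i : T₀ ⟶ T) (hthick : IsThick i) (bT : T ⟶ S) {M : Type} [AddCommGroup M]
    (P : PtIso H (T.isoSpec.inv ≫ bT) M) (x₁ : T ⟶ X.left) (hx₁ : x₁ ≫ X.hom = bT)
    (hfix : FixedL act (i ≫ x₁))
    (W : X.left.Opens) (hW : IsAffineOpen W) (V : S.Opens) (hV : IsAffineOpen V)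
    (hWV : W ≤ X.hom ⁻¹ᵁ V) (hx₁W : ∀ t : T, x₁ t ∈ W) :
    ∃ x : T ⟶ X.left, x ≫ X.hom = bT ∧ i ≫ x = i ≫ x₁ ∧ FixedL act x := by
  have hjW : Set.range hW.fromSpec = (W : Set X.left) := hW.range_fromSpec
  have hjV : Set.range hV.fromSpec = (V : Set S) := hV.range_fromSpec
  have hr1 : Set.range (hW.fromSpec ≫ X.hom) ⊆ Set.range hV.fromSpec := by
    rintro _ ⟨q, rfl⟩
    rw [hjV]
    have h1 : hW.fromSpec q ∈ (W : Set X.left) := by
      rw [← hjW]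
      exact ⟨q, rfl⟩
    exact hWV h1
  obtain ⟨ψ, hψ⟩ := exists_factor_open (B := Γ(S, V)) (C := Γ(X.left, W)) hV.fromSpec
    (hW.fromSpec ≫ X.hom) hr1
  have hr2 : Set.range (T.isoSpec.inv ≫ x₁) ⊆ Set.range hW.fromSpec := by
    rintro _ ⟨q, rfl⟩
    rw [hjW]
    exact hx₁W (T.isoSpec.inv q)
  have hfix' : FixedL act
      (Spec.map (CommRingCat.ofHom i.appTop.hom) ≫ T.isoSpec.inv ≫ x₁) := by
    have e : Spec.map (CommRingCat.ofHom i.appTop.hom) ≫ T.isoSpec.inv ≫ x₁ =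
        T₀.isoSpec.inv ≫ i ≫ x₁ := by
      have n := Scheme.isoSpec_inv_naturality i
      rw [← Category.assoc, ← Category.assoc]
      exact congrArg (fun m => m ≫ x₁) n
    rw [e]
    exact fixedL_comp act _ hfix _
  obtain ⟨x', hx'1, hx'2, hx'3⟩ := exists_fixed_lift (R := Γ(T, ⊤)) (R₀ := Γ(T₀, ⊤))
    i.appTop.hom hthick.2 hthick.1 (T.isoSpec.inv ≫ bT) P act hassoc (T.isoSpec.inv ≫ x₁)
    (by rw [Category.assoc, hx₁]) hfix' hW.fromSpec hV.fromSpec ψ hψ.symm hr2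
  refine ⟨T.isoSpec.hom ≫ x', ?_, ?_, fixedL_comp act _ hx'3 _⟩
  · rw [Category.assoc, hx'1, Iso.hom_inv_id_assoc]
  · have n := Scheme.isoSpec_hom_naturality i
    calc i ≫ T.isoSpec.hom ≫ x' = (i ≫ T.isoSpec.hom) ≫ x' := (Category.assoc _ _ _).symm
      _ = (T₀.isoSpec.hom ≫ Spec.map i.appTop) ≫ x' := by rw [n]
      _ = T₀.isoSpec.hom ≫ Spec.map (CommRingCat.ofHom i.appTop.hom) ≫ x' :=
          Category.assoc _ _ _
      _ = T₀.isoSpec.hom ≫ Spec.map (CommRingCat.ofHom i.appTop.hom) ≫ T.isoSpec.inv ≫ x₁ := by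
          rw [hx'2]
      _ = (T₀.isoSpec.hom ≫ Spec.map i.appTop) ≫ T.isoSpec.inv ≫ x₁ :=
          (Category.assoc _ _ _).symm
      _ = (i ≫ T.isoSpec.hom) ≫ T.isoSpec.inv ≫ x₁ := by rw [n]
      _ = i ≫ x₁ := by rw [Category.assoc, Iso.hom_inv_id_assoc]

end Aff

/-! ### Fixed points and the Weil restriction criterion -/

theorem fixedL_iff_iso {S : Scheme.{u}} {H X : Over S} (act : H ⊗ X ⟶ X) {T : Scheme.{u}}
    (t : T ⟶ X.left) : IsIso (bcL (kB (fixk act)) t) ↔ FixedL act t := by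
  have h2 := fixed_iff_iso act (Over.homMk t rfl : Over.mk (t ≫ X.hom) ⟶ X)
  have h3 := fixedL_iff act (Over.homMk t rfl : Over.mk (t ≫ X.hom) ⟶ X)
  exact h2.trans h3.symm

/-! ### Lifting fixed points along first order thickenings -/

section Lift

variable {S : Scheme.{u}} {H X : Over S} [GrpObj H] (act : H ⊗ X ⟶ X)
  (hassoc : ∀ (T : Over S) (g h : T ⟶ H) (y : T ⟶ X),
    lift (g * h) y ≫ act = lift g (lift h y ≫ act) ≫ act)
  {F : Scheme.{u}} (f : F ⟶ X.left)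
  (hF : ∀ {T : Scheme.{u}} (x : T ⟶ X.left), (∃ y : T ⟶ F, y ≫ f = x) ↔ FixedL act x)

include hF in
/-- the fixed point scheme is locally of finite presentation over `X`. -/
theorem lfp_fixed (hH : SGA3x.IsMultTypeFT H) [IsSeparated X.hom] [LocallyOfFiniteType X.hom]
    [IsClosedImmersion f] : LocallyOfFinitePresentation f := by
  haveI hc : IsClosedImmersion (fixk act).left := closedImm_fixk act
  haveI hl : LocallyOfFinitePresentation (fixk act).left := lfp_eqk act (snd H X)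
  obtain ⟨C, cι, hcc, hcfp, huniv⟩ := weil_closed hH (fixk act)
  haveI := hcc
  haveI := hcfp
  have hC : ∀ {T : Scheme.{u}} (t : T ⟶ X.left), (∃ l : T ⟶ C, l ≫ cι = t) ↔ FixedL act t :=
    fun t => (huniv t).trans (fixedL_iff_iso act t)
  obtain ⟨l₁, hl₁⟩ := (hC f).mpr ((hF f).mp ⟨𝟙 F, Category.id_comp f⟩)
  obtain ⟨l₂, hl₂⟩ := (hF cι).mpr ((hC cι).mp ⟨𝟙 C, Category.id_comp cι⟩)
  have h12 : l₁ ≫ l₂ = 𝟙 F := by
    rw [← cancel_mono f, Category.assoc, hl₂, hl₁, Category.id_comp]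
  have h21 : l₂ ≫ l₁ = 𝟙 C := by
    rw [← cancel_mono cι, Category.assoc, hl₁, hl₂, Category.id_comp]
  haveI : IsIso l₁ := ⟨l₂, h12, h21⟩
  rw [← hl₁]
  infer_instance

include hassoc hF in
theorem fixed_lift_fot [Smooth X.hom] [IsSeparated X.hom] [IsClosedImmersion f]
    [LocallyOfFinitePresentation (f ≫ X.hom)] {T₀ T : Scheme.{u}} [IsAffine T₀] (i : T₀ ⟶ T)
    (hi : MoreMor.IsFirstOrderThickening i) (bT : T ⟶ S) (a₀ : T₀ ⟶ F)
    (hsq : a₀ ≫ f ≫ X.hom = i ≫ bT) {M : Type} [AddCommGroup M]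
    (htriv : ∀ (W' : Scheme.{u}) (c : W' ⟶ T) (jjW : W' ⟶ S), c ≫ bT = jjW →
      Nonempty (PtIso H jjW M)) :
    ∃ l : T ⟶ F, l ≫ f ≫ X.hom = bT ∧ i ≫ l = a₀ := by
  haveI := hi.1.1
  haveI := hi.1.2
  refine Groth.Agent.Lib.GLiftMainH7.exists_lift (f ≫ X.hom) i hi bT a₀ hsq (fun t => ?_)
  obtain ⟨t₀, rfl⟩ := i.surjective t
  obtain ⟨x₀, hx₀⟩ : ∃ x₀ : T₀ ⟶ X.left, x₀ = a₀ ≫ f := ⟨_, rfl⟩
  obtain ⟨_, ⟨(V : S.Opens), hV, rfl⟩, hxV, -⟩ :=
    S.isBasis_affineOpens.exists_subset_of_mem_open (Set.mem_univ (X.hom (x₀ t₀))) isOpen_univ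
  obtain ⟨_, ⟨(W : X.left.Opens), hW, rfl⟩, hxW, hWV : W ≤ X.hom ⁻¹ᵁ V⟩ :=
    X.left.isBasis_affineOpens.exists_subset_of_mem_open hxV (X.hom ⁻¹ᵁ V).isOpen
  obtain ⟨WT, hWT⟩ := exists_opens_preimage_eq i hi (x₀ ⁻¹ᵁ W)
  have htW : i t₀ ∈ WT := by
    have h1 : t₀ ∈ i ⁻¹ᵁ WT := by
      rw [hWT]
      exact hxW
    exact h1
  obtain ⟨_, ⟨(D : T.Opens), hD, rfl⟩, htD, hDW : D ≤ WT⟩ :=
    T.isBasis_affineOpens.exists_subset_of_mem_open htW WT.isOpen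
  have e' : i ⁻¹ᵁ D ≤ x₀ ⁻¹ᵁ W := by
    rw [← hWT]
    exact fun y hy => hDW hy
  haveI : IsAffine D.toScheme := hD
  haveI : IsAffine (i ⁻¹ᵁ D).toScheme := hD.preimage i
  have hfot := fot_morphismRestrict i hi D
  haveI : IsClosedImmersion (i ∣_ D) := hfot.1.1
  haveI : Surjective (i ∣_ D) := hfot.1.2
  have hthick : IsThick (i ∣_ D) := by
    refine ⟨(IsClosedImmersion.isAffine_surjective_of_isAffine (i ∣_ D)).2, fun x y hx hy => ?_⟩
    have hk : RingHom.ker ((i ∣_ D).app ⊤).hom ^ 2 = ⊥ :=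
      Groth.Agent.Lib.Thickening4_helper7.ker_app_pow_eq_bot (i ∣_ D)
        (by rw [pow_two]; exact hfot.2) ⊤
    have hx' : x ∈ RingHom.ker ((i ∣_ D).app ⊤).hom := (RingHom.mem_ker).mpr hx
    have hy' : y ∈ RingHom.ker ((i ∣_ D).app ⊤).hom := (RingHom.mem_ker).mpr hy
    have hxy : x * y ∈ RingHom.ker ((i ∣_ D).app ⊤).hom ^ 2 := by
      rw [pow_two]
      exact Ideal.mul_mem_mul hx' hy'
    rw [hk] at hxy
    exact (Ideal.mem_bot).mp hxy
  have comm : ((i ⁻¹ᵁ D).ι ≫ x₀) ≫ X.hom = (i ∣_ D) ≫ (D.ι ≫ bT) := by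
    calc ((i ⁻¹ᵁ D).ι ≫ x₀) ≫ X.hom = (i ⁻¹ᵁ D).ι ≫ (a₀ ≫ f ≫ X.hom) := by
          rw [hx₀]
          simp only [Category.assoc]
      _ = (i ⁻¹ᵁ D).ι ≫ i ≫ bT := by rw [hsq]
      _ = ((i ⁻¹ᵁ D).ι ≫ i) ≫ bT := (Category.assoc _ _ _).symm
      _ = ((i ∣_ D) ≫ D.ι) ≫ bT := by rw [morphismRestrict_ι]
      _ = (i ∣_ D) ≫ D.ι ≫ bT := Category.assoc _ _ _
  obtain ⟨x₁, hx₁1, hx₁2⟩ := Groth.Agent.Lib.FSmoothIffH7.smooth_lift X.hom (i ∣_ D) hfot
    (D.ι ≫ bT) ((i ⁻¹ᵁ D).ι ≫ x₀) comm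
  have hx₁W : ∀ d : D.toScheme, x₁ d ∈ W := by
    intro d
    obtain ⟨d₀, rfl⟩ := (i ∣_ D).surjective d
    have h1 : x₁ ((i ∣_ D) d₀) = x₀ ((i ⁻¹ᵁ D).ι d₀) :=
      congrArg (fun m : (i ⁻¹ᵁ D).toScheme ⟶ X.left => m d₀) hx₁2
    rw [h1]
    exact e' d₀.2
  have hfix : FixedL act ((i ∣_ D) ≫ x₁) := by
    rw [hx₁2, hx₀, ← Category.assoc]
    exact (hF _).mp ⟨_, rfl⟩
  obtain ⟨P⟩ := htriv _ (D.toScheme.isoSpec.inv ≫ D.ι) (D.toScheme.isoSpec.inv ≫ D.ι ≫ bT)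
    (Category.assoc _ _ _)
  obtain ⟨x, hx1, hx2, hx3⟩ := exists_fixed_lift_aff act hassoc (i ∣_ D) hthick (D.ι ≫ bT) P x₁
    hx₁1 hfix W hW V hV hWV hx₁W
  obtain ⟨y, hy⟩ := (hF x).mpr hx3
  refine ⟨D, y, htD, ?_, ?_⟩
  · rw [← Category.assoc, hy, hx1]
  · rw [← cancel_mono f, Category.assoc, hy, hx2, hx₁2, hx₀, Category.assoc]

include hassoc hF in
theorem fs_pullback [Smooth X.hom] [IsSeparated X.hom] [IsClosedImmersion f]
    [LocallyOfFinitePresentation (f ≫ X.hom)] {S' : Scheme.{u}} (g : S' ⟶ S) (U₁ : S'.Opens)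
    {M : Type} [AddCommGroup M]
    (htriv : ∀ (W' : Scheme.{u}) (r : W' ⟶ U₁) (jjW : W' ⟶ S), r ≫ U₁.ι ≫ g = jjW →
      Nonempty (PtIso H jjW M)) :
    MoreMor.IsFormallySmoothHom
      ((pullback.snd (f ≫ X.hom) g ⁻¹ᵁ U₁).ι ≫ pullback.snd (f ≫ X.hom) g) := by
  intro A _ I hI a b hab
  have hi := fot_thk I hI
  have hsurj : Function.Surjective (thk I) := thk_surjective I hI
  have hbU : Set.range b ⊆ Set.range U₁.ι := by
    rintro _ ⟨q, rfl⟩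
    obtain ⟨q₀, rfl⟩ := hsurj q
    have h1 : b (thk I q₀) = (pullback.snd (f ≫ X.hom) g)
        ((pullback.snd (f ≫ X.hom) g ⁻¹ᵁ U₁).ι (a q₀)) :=
      congrArg (fun m : Spec (CommRingCat.of (A ⧸ I)) ⟶ S' => m q₀) hab
    rw [h1, Scheme.Opens.range_ι]
    exact (a q₀).2
  obtain ⟨b₁, hb₁⟩ : ∃ b₁ : Spec (CommRingCat.of A) ⟶ U₁, b₁ ≫ U₁.ι = b :=
    ⟨IsOpenImmersion.lift U₁.ι b hbU, IsOpenImmersion.lift_fac _ _ _⟩
  obtain ⟨a₀, ha₀⟩ : ∃ a₀ : Spec (CommRingCat.of (A ⧸ I)) ⟶ F,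
      a₀ = a ≫ (pullback.snd (f ≫ X.hom) g ⁻¹ᵁ U₁).ι ≫ pullback.fst (f ≫ X.hom) g := ⟨_, rfl⟩
  have hsq : a₀ ≫ f ≫ X.hom = thk I ≫ (b ≫ g) := by
    calc a₀ ≫ f ≫ X.hom
        = a ≫ (pullback.snd (f ≫ X.hom) g ⁻¹ᵁ U₁).ι ≫
            (pullback.fst (f ≫ X.hom) g ≫ f ≫ X.hom) := by
          rw [ha₀]
          simp only [Category.assoc]
      _ = a ≫ (pullback.snd (f ≫ X.hom) g ⁻¹ᵁ U₁).ι ≫ (pullback.snd (f ≫ X.hom) g ≫ g) := by
          rw [pullback.condition]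
      _ = (a ≫ (pullback.snd (f ≫ X.hom) g ⁻¹ᵁ U₁).ι ≫ pullback.snd (f ≫ X.hom) g) ≫ g := by
          simp only [Category.assoc]
      _ = (thk I ≫ b) ≫ g := by rw [← hab]
      _ = thk I ≫ b ≫ g := Category.assoc _ _ _
  obtain ⟨lF, hl1, hl2⟩ := fixed_lift_fot act hassoc f hF (thk I) hi (b ≫ g) a₀ hsq
    (fun W' c jjW hc => htriv W' (c ≫ b₁) jjW (by
      rw [← hc, ← hb₁]
      simp only [Category.assoc]))
  obtain ⟨lP, hlP⟩ : ∃ lP : Spec (CommRingCat.of A) ⟶ pullback (f ≫ X.hom) g,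
      lP = pullback.lift lF b hl1 := ⟨_, rfl⟩
  have hlP1 : lP ≫ pullback.fst (f ≫ X.hom) g = lF := by rw [hlP, pullback.lift_fst]
  have hlP2 : lP ≫ pullback.snd (f ≫ X.hom) g = b := by rw [hlP, pullback.lift_snd]
  have hrange : Set.range lP ⊆ Set.range (pullback.snd (f ≫ X.hom) g ⁻¹ᵁ U₁).ι := by
    rintro _ ⟨q, rfl⟩
    rw [Scheme.Opens.range_ι]
    show pullback.snd (f ≫ X.hom) g (lP q) ∈ U₁
    have h1 : pullback.snd (f ≫ X.hom) g (lP q) = b q :=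
      congrArg (fun m : Spec (CommRingCat.of A) ⟶ S' => m q) hlP2
    have h2 : b q = U₁.ι (b₁ q) :=
      (congrArg (fun m : Spec (CommRingCat.of A) ⟶ S' => m q) hb₁).symm
    rw [h1, h2]
    exact (b₁ q).2
  refine ⟨IsOpenImmersion.lift (pullback.snd (f ≫ X.hom) g ⁻¹ᵁ U₁).ι lP hrange, ?_, ?_⟩
  · rw [← cancel_mono (pullback.snd (f ≫ X.hom) g ⁻¹ᵁ U₁).ι, Category.assoc,
      IsOpenImmersion.lift_fac]
    apply pullback.hom_ext
    · rw [Category.assoc, hlP1, hl2, ha₀, Category.assoc]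
    · rw [Category.assoc, hlP2, hab, Category.assoc]
  · rw [← Category.assoc, IsOpenImmersion.lift_fac, hlP2]

include hassoc hF in
/-- **Smoothness of fixed points.** If a group of multiplicative type `H` acts on a smooth separated
`S`-scheme `X`, the closed subscheme of fixed points is smooth over `S`. -/
theorem smooth_fixed (hH : SGA3x.IsMultTypeFT H) [Smooth X.hom] [IsSeparated X.hom]
    [IsClosedImmersion f] : Smooth (f ≫ X.hom) := by
  haveI : LocallyOfFinitePresentation f := lfp_fixed act f hF hH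
  haveI : LocallyOfFinitePresentation (f ≫ X.hom) := inferInstance
  obtain ⟨S', g, hflat, hsurj, hqc, hloc⟩ := hH
  haveI := hflat
  have hpt : ∀ y : F, ∃ U : F.Opens, y ∈ U ∧ Smooth (U.ι ≫ f ≫ X.hom) := by
    intro y
    obtain ⟨s', hs'⟩ := hsurj.surj ((f ≫ X.hom) y)
    obtain ⟨y', hy'1, hy'2⟩ :=
      AlgebraicGeometry.Scheme.Pullback.exists_preimage_pullback (f := f ≫ X.hom) (g := g)
        y s' hs'.symm
    obtain ⟨U₁, hs'U, M, instM, -, ⟨e⟩⟩ := hloc s'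
    letI := instM
    obtain ⟨a1, ainv, ha1, hainv, h1, h2⟩ := Groth.Agent.Lib.DiagHom.iso_data e
    haveI := ha1
    haveI := hainv
    have htriv : ∀ (W' : Scheme.{u}) (r : W' ⟶ U₁) (jjW : W' ⟶ S), r ≫ U₁.ι ≫ g = jjW →
        Nonempty (PtIso H jjW M) :=
      fun W' r jjW hr => exists_transport H (U₁.ι ≫ g) a1 ainv h1 h2 r jjW hr
    have hfs := fs_pullback act hassoc f hF g U₁ htriv
    haveI hsm : Smooth ((pullback.snd (f ≫ X.hom) g ⁻¹ᵁ U₁).ι ≫ pullback.snd (f ≫ X.hom) g) :=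
      Groth.Agent.Lib.FSmoothIffH7.smooth_of_lfp_fs _ hfs
    have hy'U : y' ∈ pullback.snd (f ≫ X.hom) g ⁻¹ᵁ U₁ := by
      show pullback.snd (f ≫ X.hom) g y' ∈ U₁
      rw [hy'2]
      exact hs'U
    obtain ⟨U, hU1, hU2⟩ := Groth.Agent.Lib.UnramLocH4.main2757 (f ≫ X.hom) g y'
      (Flat.stalkMap g _) ⟨_, hy'U, hsm⟩
    have hU1' : y ∈ U := by
      have e0 : (pullback.fst (f ≫ X.hom) g).base y' = y := hy'1
      rw [← e0]
      exact hU1
    exact ⟨U, hU1', hU2⟩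
  choose U hyU hsmU using hpt
  have hU : TopologicalSpace.IsOpenCover U := by
    show ⨆ y, U y = ⊤
    rw [eq_top_iff]
    intro t _
    rw [TopologicalSpace.Opens.mem_iSup]
    exact ⟨t, hyU t⟩
  apply IsZariskiLocalAtSource.of_openCover (P := @Smooth) (F.openCoverOfIsOpenCover U hU)
  intro y
  exact hsmU y

end Lift

end Groth.Agent.Lib.MTSmH4
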