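import Mathlib
import Groth.Prelude
import Groth.Agent.Lib.MTSm4_helper4
import Groth.Agent.Lib.SchImGrp_helper4
import Groth.Agent.Lib.MTWeil9_helper4

/-!
# Fixed points, centralisers and transporters for groups of multiplicative type are smooth (helper4)
-/

set_option backward.isDefEq.respectTransparency.types false
set_option autoImplicit false
set_option linter.unusedVariables false
set_option linter.unusedTactic false
set_option linter.unreachableTactic false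
set_option linter.unusedSectionVars false
set_option linter.style.haveILetI false
set_option linter.deprecated false
set_option linter.unusedSimpArgs false
set_option linter.style.longLine false
set_option maxHeartbeats 1600000

universe u

open CategoryTheory CategoryTheory.Limits MonoidalCategory CartesianMonoidalCategory MonObj GrpObj
  AlgebraicGeometry Opposite TensorProduct

namespace Groth.Agent.Lib.MTSmH4

open Groth.Agent.Lib.RedDictH8 Groth.Agent.Lib.DSDict Groth.Agent.Lib.MultGa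
  Groth.Agent.Lib.MultTrivH4 Groth.Agent.Lib.ConnActH4 Groth.Agent.Lib.TwConstFinH4
  Groth.Agent.Lib.MTHomH4 Groth.Agent.Lib.TorusQuotH4 Groth.Agent.Lib.KerTrivH4
  Groth.Agent.Lib.MTWeilH4

/-! ### Smoothness of the fixed point scheme -/

theorem main8416 (S : Scheme.{u}) (G : Over S) [GrpObj G]
    (hG : SGA3x.IsMultTypeFT G) (X : Over S) [Smooth X.hom] [IsSeparated X.hom]
    (a : AlgGrp.Action G X) (F : Scheme.{u}) (f : F ⟶ X.left) (hf : IsClosedImmersion f)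
    (hF : ∀ (T : Over S) (x : T ⟶ X), (∃ y : T.left ⟶ F, y ≫ f = x.left) ↔
        ∀ (T' : Over S) (t : T' ⟶ T) (g : T' ⟶ G), lift g (t ≫ x) ≫ a.act = t ≫ x) :
    Smooth (f ≫ X.hom) := by
  haveI := hf
  have hF' : ∀ {T : Scheme.{u}} (x : T ⟶ X.left), (∃ y : T ⟶ F, y ≫ f = x) ↔
      FixedL a.act x := by
    intro T x
    have h1 := hF (Over.mk (x ≫ X.hom)) (Over.homMk x rfl)
    have h3 := fixedL_iff a.act (Over.homMk x rfl : Over.mk (x ≫ X.hom) ⟶ X)
    exact h1.trans h3.symm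
  exact smooth_fixed a.act (fun T g h y => act_assoc_pt a g h y) f hF' hG

section Repr

variable {S : Scheme.{u}} {H X : Over S} [GrpObj H] (act : H ⊗ X ⟶ X)
  (hassoc : ∀ (T : Over S) (g h : T ⟶ H) (y : T ⟶ X),
    lift (g * h) y ≫ act = lift g (lift h y ≫ act) ≫ act)

include hassoc in
/-- the fixed points of an (associative) action of a group of multiplicative type on a smooth
separated scheme are represented by a smooth closed subscheme. -/
theorem fixed_repr (hH : SGA3x.IsMultTypeFT H) [Smooth X.hom] [IsSeparated X.hom] :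
    ∃ (Z : Over S) (z : Z ⟶ X), IsClosedImmersion z.left ∧ Smooth Z.hom ∧
      ∀ (T : Over S) (g : T ⟶ X), (∃ x : T ⟶ Z, x ≫ z = g) ↔
        ∀ (T' : Over S) (f : T' ⟶ T) (h : T' ⟶ H), lift h (f ≫ g) ≫ act = f ≫ g := by
  haveI hc : IsClosedImmersion (fixk act).left := closedImm_fixk act
  haveI hl : LocallyOfFinitePresentation (fixk act).left := lfp_eqk act (snd H X)
  obtain ⟨C, cι, hcc, hcfp, huniv⟩ := weil_closed hH (fixk act)
  haveI := hcc
  have hC : ∀ {T : Scheme.{u}} (t : T ⟶ X.left), (∃ l : T ⟶ C, l ≫ cι = t) ↔ FixedL act t :=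
    fun t => (huniv t).trans (fixedL_iff_iso act t)
  refine ⟨Over.mk (cι ≫ X.hom), Over.homMk cι rfl, hcc, ?_, ?_⟩
  · show Smooth (cι ≫ X.hom)
    exact smooth_fixed act hassoc cι hC hH
  · intro T g
    exact (over_factor_iff cι g).trans ((huniv g.left).trans (fixed_iff_iso act g))

end Repr

/-! ### Subgroups defined by a condition on points -/

section Sub

variable {S : Scheme.{u}} {G Z : Over S} [GrpObj G] (z : Z ⟶ G) [Mono z]
  (Pr : ∀ T : Over S, (T ⟶ G) → Prop)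
  (hz : ∀ (T : Over S) (g : T ⟶ G), (∃ x : T ⟶ Z, x ≫ z = g) ↔ Pr T g)
  (hone : ∀ T : Over S, Pr T 1)
  (hmul : ∀ (T : Over S) (g g' : T ⟶ G), Pr T g → Pr T g' → Pr T (g * g'))
  (hinv : ∀ (T : Over S) (g : T ⟶ G), Pr T g → Pr T g⁻¹)

include hz hone hmul hinv in
theorem exists_grpObj_of_pts : ∃ (_ : GrpObj Z), IsMonHom z := by
  have hη : (η[G] : 𝟙_ (Over S) ⟶ G) = 1 := by
    rw [Hom.one_def, toUnit_unique (toUnit _) (𝟙 _), Category.id_comp]
  obtain ⟨e, he⟩ := (hz _ η[G]).mpr (by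
    rw [hη]
    exact hone _)
  have hten : (z ⊗ₘ z) ≫ μ[G] = (fst Z Z ≫ z) * (snd Z Z ≫ z) := by
    rw [Hom.mul_def]
    congr 1
  obtain ⟨m, hm⟩ := (hz _ ((z ⊗ₘ z) ≫ μ[G])).mpr (by
    rw [hten]
    exact hmul _ _ _ ((hz _ _).mp ⟨_, rfl⟩) ((hz _ _).mp ⟨_, rfl⟩))
  obtain ⟨iv, hiv⟩ := (hz _ (z ≫ ι[G])).mpr (by
    rw [← Hom.inv_def]
    exact hinv _ _ ((hz _ _).mp ⟨𝟙 Z, Category.id_comp z⟩))
  letI grp : GrpObj Z := SchImGrpH4.grpObjOfMono z e he m hm iv hiv
  exact ⟨grp, ⟨he, hm⟩⟩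

end Sub

/-! ### Invariants of an action by group automorphisms -/

theorem main5442 (S : Scheme.{u}) (H G : Over S) [GrpObj H] [GrpObj G]
    (hH : SGA3x.IsMultTypeFT H) [IsSeparated G.hom] [Smooth G.hom] (a : AlgGrp.Action H G)
    (hmul : ∀ (X : Over S) (h : X ⟶ H) (g g' : X ⟶ G),
      lift h (g * g') ≫ a.act = (lift h g ≫ a.act) * (lift h g' ≫ a.act)) :
    ∃ (Z : Over S) (_ : GrpObj Z) (z : Z ⟶ G) (_ : IsMonHom z), IsClosedImmersion z.left ∧
      Smooth Z.hom ∧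
      ∀ (X : Over S) (g : X ⟶ G), (∃ x : X ⟶ Z, x ≫ z = g) ↔
        ∀ (X' : Over S) (f : X' ⟶ X) (h : X' ⟶ H), lift h (f ≫ g) ≫ a.act = f ≫ g := by
  obtain ⟨Z, z, hzc, hzs, hzu⟩ := fixed_repr a.act (fun T g h y => act_assoc_pt a g h y) hH
  haveI := hzc
  haveI : Mono z := mono_of_left_mono z
  have h1 : ∀ (T : Over S) (h : T ⟶ H), lift h (1 : T ⟶ G) ≫ a.act = 1 := by
    intro T h
    have e := hmul T h 1 1
    rw [_root_.mul_one] at e
    exact mul_left_cancel (e.symm.trans (_root_.mul_one _).symm)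
  have hinv' : ∀ (T : Over S) (h : T ⟶ H) (g : T ⟶ G),
      lift h g⁻¹ ≫ a.act = (lift h g ≫ a.act)⁻¹ := by
    intro T h g
    have e := hmul T h g g⁻¹
    rw [_root_.mul_inv_cancel, h1] at e
    exact eq_inv_of_mul_eq_one_right e.symm
  obtain ⟨grp, hmon⟩ := exists_grpObj_of_pts z
    (fun T g => ∀ (X' : Over S) (f : X' ⟶ T) (h : X' ⟶ H), lift h (f ≫ g) ≫ a.act = f ≫ g)
    hzu
    (by
      intro T X' f h
      rw [MonObj.comp_one, h1])
    (by
      intro T g g' hg hg' X' f h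
      rw [MonObj.comp_mul, hmul, hg, hg'])
    (by
      intro T g hg X' f h
      rw [GrpObj.comp_inv, hinv', hg])
  exact ⟨Z, grp, z, hmon, hzc, hzs, hzu⟩

/-! ### Transporters and centralisers -/

section Tr

variable {S : Scheme.{u}} {H G : Over S} [GrpObj H] [GrpObj G] (u₁ u₂ : H ⟶ G)

/-- the action `h · g = u₂(h) g u₁(h)⁻¹` of `H` on `G`. -/
noncomputable def trAct : H ⊗ G ⟶ G := (fst H G ≫ u₂) * snd H G * (fst H G ≫ u₁)⁻¹

theorem trAct_pt {T : Over S} (h : T ⟶ H) (g : T ⟶ G) :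
    lift h g ≫ trAct u₁ u₂ = (h ≫ u₂) * g * (h ≫ u₁)⁻¹ := by
  unfold trAct
  rw [MonObj.comp_mul, MonObj.comp_mul, GrpObj.comp_inv, lift_fst_assoc, lift_fst_assoc, lift_snd]

theorem trAct_assoc [IsMonHom u₁] [IsMonHom u₂] (T : Over S) (h h' : T ⟶ H) (y : T ⟶ G) :
    lift (h * h') y ≫ trAct u₁ u₂ = lift h (lift h' y ≫ trAct u₁ u₂) ≫ trAct u₁ u₂ := by
  rw [trAct_pt, trAct_pt, trAct_pt, MonObj.mul_comp, MonObj.mul_comp, _root_.mul_inv_rev]
  simp only [_root_.mul_assoc]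

theorem trAct_fixed_iff {T : Over S} (h : T ⟶ H) (g : T ⟶ G) :
    lift h g ≫ trAct u₁ u₂ = g ↔ g * (h ≫ u₁) * g⁻¹ = h ≫ u₂ := by
  rw [trAct_pt]
  constructor
  · intro e
    have e1 : (h ≫ u₂) * g = g * (h ≫ u₁) := mul_inv_eq_iff_eq_mul.mp e
    rw [← e1, _root_.mul_inv_cancel_right]
  · intro e
    rw [← e, _root_.inv_mul_cancel_right, _root_.mul_inv_cancel_right]

theorem main5257 (hH : SGA3x.IsMultTypeFT H) (hG : Smooth G.hom) (hGa : IsAffineHom G.hom)
    [IsMonHom u₁] [IsMonHom u₂] :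
    ∃ (T : Over S) (j : T ⟶ G), IsClosedImmersion j.left ∧ Smooth T.hom ∧
      ∀ (X : Over S) (g : X ⟶ G), (∃ t : X ⟶ T, t ≫ j = g) ↔
        ∀ (X' : Over S) (x : X' ⟶ X) (h : X' ⟶ H),
          (x ≫ g) * (h ≫ u₁) * (x ≫ g)⁻¹ = h ≫ u₂ := by
  haveI := hG
  haveI := hGa
  haveI : IsSeparated G.hom := inferInstance
  obtain ⟨Z, z, hzc, hzs, hzu⟩ := fixed_repr (trAct u₁ u₂) (trAct_assoc u₁ u₂) hH
  refine ⟨Z, z, hzc, hzs, fun X g => (hzu X g).trans ?_⟩
  refine forall_congr' (fun X' => forall_congr' (fun x => forall_congr' (fun h => ?_)))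
  exact trAct_fixed_iff u₁ u₂ h (x ≫ g)

theorem main5247 (hH : SGA3x.IsMultTypeFT H) (hG : Smooth G.hom) (hGa : IsAffineHom G.hom)
    (v : H ⟶ G) [IsMonHom v] :
    ∃ (Z : Over S) (_ : GrpObj Z) (j : Z ⟶ G), Red.IsCentralizerOf v j ∧
      IsClosedImmersion j.left ∧ Smooth Z.hom := by
  haveI := hG
  haveI := hGa
  haveI : IsSeparated G.hom := inferInstance
  obtain ⟨Z, z, hzc, hzs, hzu⟩ := fixed_repr (trAct v v) (trAct_assoc v v) hH
  haveI := hzc
  haveI hmono : Mono z := mono_of_left_mono z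
  have hzu' : ∀ (X : Over S) (g : X ⟶ G), (∃ x : X ⟶ Z, x ≫ z = g) ↔
      ∀ (X' : Over S) (x : X' ⟶ X) (h : X' ⟶ H), (x ≫ g) * (h ≫ v) = (h ≫ v) * (x ≫ g) := by
    intro X g
    refine (hzu X g).trans ?_
    refine forall_congr' (fun X' => forall_congr' (fun x => forall_congr' (fun h => ?_)))
    exact (trAct_fixed_iff v v h (x ≫ g)).trans mul_inv_eq_iff_eq_mul
  obtain ⟨grp, hmon⟩ := exists_grpObj_of_pts z
    (fun T g => ∀ (X' : Over S) (x : X' ⟶ T) (h : X' ⟶ H),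
      (x ≫ g) * (h ≫ v) = (h ≫ v) * (x ≫ g))
    hzu'
    (by
      intro T X' x h
      rw [MonObj.comp_one, _root_.one_mul, _root_.mul_one])
    (by
      intro T g g' hg hg' X' x h
      rw [MonObj.comp_mul, _root_.mul_assoc, hg', ← _root_.mul_assoc, hg, _root_.mul_assoc])
    (by
      intro T g hg X' x h
      rw [GrpObj.comp_inv]
      exact (Commute.inv_left (show Commute (x ≫ g) (h ≫ v) from hg X' x h)).eq)
  exact ⟨Z, grp, z, ⟨hmon, hmono, hzu'⟩, hzc, hzs⟩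

end Tr

end Groth.Agent.Lib.MTSmH4
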