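import Mathlib
import Groth.Prelude
import Groth.Agent.Lib.MTN1_helper4
import Groth.Agent.Lib.MTSm5_helper4
import Groth.Agent.Lib.LocImg2_helper4

/-!
# A monomorphism from a group of multiplicative type into an affine group scheme is a closed
immersion (helper4)
-/

set_option backward.isDefEq.respectTransparency.types false
set_option autoImplicit false
set_option linter.unusedVariables false
set_option linter.unusedTactic false
set_option linter.unreachableTactic false
set_option linter.unusedSectionVars false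
set_option linter.style.haveILetI false
set_option linter.deprecated false
set_option linter.unusedSimpArgs false
set_option linter.style.longLine false
set_option maxHeartbeats 1600000

universe u

open CategoryTheory CategoryTheory.Limits MonoidalCategory CartesianMonoidalCategory MonObj GrpObj
  AlgebraicGeometry Opposite TensorProduct

namespace Groth.Agent.Lib.MTNormH4

open Groth.Agent.Lib.RedDictH8 Groth.Agent.Lib.DSDict Groth.Agent.Lib.MultGa
  Groth.Agent.Lib.MultTrivH4 Groth.Agent.Lib.ConnActH4 Groth.Agent.Lib.TwConstFinH4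
  Groth.Agent.Lib.MTHomH4 Groth.Agent.Lib.TorusQuotH4 Groth.Agent.Lib.KerTrivH4
  Groth.Agent.Lib.MTWeilH4 Groth.Agent.Lib.MTSmH4

/-! ### A monomorphism with sections over affine schemes is an isomorphism -/

theorem isIso_of_mono_of_affine_sections {Z X : Scheme.{u}} (f : Z ⟶ X) [Mono f]
    (h : ∀ (C : CommRingCat.{u}) (c : Spec C ⟶ X), ∃ s : Spec C ⟶ Z, s ≫ f = c) : IsIso f := by
  have hloc : (MorphismProperty.isomorphisms Scheme.{u}) f := by
    rw [IsZariskiLocalAtTarget.iff_of_openCover
      (P := MorphismProperty.isomorphisms Scheme.{u}) X.affineCover]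
    intro j
    show (MorphismProperty.isomorphisms Scheme.{u}) (pullback.snd f (X.affineCover.f j))
    rw [MorphismProperty.isomorphisms.iff]
    exact (factor_iff (IsPullback.of_hasPullback f (X.affineCover.f j))).mpr
      (h _ (X.affineCover.f j))
  exact (MorphismProperty.isomorphisms.iff _).mp hloc

theorem ptIso_congr {S W : Scheme.{u}} {X : Over S} [GrpObj X] {M : Type} [AddCommGroup M]
    {jj jj' : W ⟶ S} (e : jj = jj') (P : PtIso X jj M) : Nonempty (PtIso X jj' M) := by
  subst e
  exact ⟨P⟩

/-! ### The functor of points of an affine group on an affine chart -/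

section Adapter

variable {S : Scheme.{u}} {G H : Over S} [GrpObj G] [GrpObj H] (i : H ⟶ G) [IsMonHom i] [Mono i]
  {R : Type u} [CommRing R] (b : Spec (CommRingCat.of R) ⟶ S) {M₀ : Type} [AddCommGroup M₀]
  (P : PtIso H b M₀) {D : Type u} [CommRing D] [Algebra R D]
  (θ : pullback G.hom b ≅ Spec (CommRingCat.of D))
  (hθ : θ.hom ≫ Spec.map (CommRingCat.ofHom (algebraMap R D)) = pullback.snd G.hom b)

include hθ in
theorem theta_inv_snd :
    θ.inv ≫ pullback.snd G.hom b = Spec.map (CommRingCat.ofHom (algebraMap R D)) := by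
  rw [← hθ, Iso.inv_hom_id_assoc]

/-- points of `G` with values in an `R`-algebra. -/
noncomputable def ptG (C : Type u) [CommRing C] [Algebra R C] (x : D →ₐ[R] C) :
    OC b (algebraMap R C) ⟶ G :=
  Over.homMk (Spec.map (CommRingCat.ofHom x.toRingHom) ≫ θ.inv ≫ pullback.fst G.hom b) (by
    show (Spec.map (CommRingCat.ofHom x.toRingHom) ≫ θ.inv ≫ pullback.fst G.hom b) ≫ G.hom =
      Spec.map (CommRingCat.ofHom (algebraMap R C)) ≫ b
    have h2 : x.toRingHom.comp (algebraMap R D) = algebraMap R C := x.comp_algebraMap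
    rw [Category.assoc, Category.assoc, pullback.condition, ← Category.assoc θ.inv,
      theta_inv_snd b θ hθ, ← Category.assoc, spec_comp, h2])

theorem ptG_left (C : Type u) [CommRing C] [Algebra R C] (x : D →ₐ[R] C) :
    (ptG b θ hθ C x).left =
      Spec.map (CommRingCat.ofHom x.toRingHom) ≫ θ.inv ≫ pullback.fst G.hom b := rfl

theorem ptG_bijective (C : Type u) [CommRing C] [Algebra R C] :
    Function.Bijective (ptG b θ hθ C) := by
  constructor
  · intro x x' hxx
    have h1 : Spec.map (CommRingCat.ofHom x.toRingHom) ≫ θ.inv ≫ pullback.fst G.hom b =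
        Spec.map (CommRingCat.ofHom x'.toRingHom) ≫ θ.inv ≫ pullback.fst G.hom b :=
      congrArg (fun g => g.left) hxx
    have hx : x.toRingHom.comp (algebraMap R D) = algebraMap R C := x.comp_algebraMap
    have hx' : x'.toRingHom.comp (algebraMap R D) = algebraMap R C := x'.comp_algebraMap
    have h2 : Spec.map (CommRingCat.ofHom x.toRingHom) ≫ θ.inv =
        Spec.map (CommRingCat.ofHom x'.toRingHom) ≫ θ.inv := by
      apply pullback.hom_ext
      · rw [Category.assoc, Category.assoc]
        exact h1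
      · rw [Category.assoc, Category.assoc, theta_inv_snd b θ hθ, spec_comp, spec_comp, hx, hx']
    have h3 : Spec.map (CommRingCat.ofHom x.toRingHom) =
        Spec.map (CommRingCat.ofHom x'.toRingHom) := (cancel_mono θ.inv).mp h2
    have h4 : CommRingCat.ofHom x.toRingHom = CommRingCat.ofHom x'.toRingHom :=
      Spec.map_injective h3
    have h5 : x.toRingHom = x'.toRingHom := congrArg CommRingCat.Hom.hom h4
    exact AlgHom.coe_ringHom_injective h5
  · intro g
    obtain ⟨gl, hgl⟩ : ∃ gl : Spec (CommRingCat.of C) ⟶ G.left, gl = g.left := ⟨g.left, rfl⟩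
    have hw : gl ≫ G.hom = Spec.map (CommRingCat.ofHom (algebraMap R C)) ≫ b := by
      rw [hgl]
      exact Over.w g
    obtain ⟨l, hl⟩ : ∃ l : Spec (CommRingCat.of C) ⟶ Spec (CommRingCat.of D),
        l = pullback.lift gl (Spec.map (CommRingCat.ofHom (algebraMap R C))) hw ≫ θ.hom :=
      ⟨_, rfl⟩
    obtain ⟨φ, hφ⟩ : ∃ φ : CommRingCat.of D ⟶ CommRingCat.of C, Spec.map φ = l :=
      ⟨Spec.preimage l, Spec.map_preimage l⟩
    have hcomm : CommRingCat.ofHom (algebraMap R D) ≫ φ = CommRingCat.ofHom (algebraMap R C) := by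
      apply Spec.map_injective
      rw [Spec.map_comp, hφ, hl, Category.assoc, hθ, pullback.lift_snd]
    have hcomm' : ∀ r : R, φ.hom (algebraMap R D r) = algebraMap R C r := fun r =>
      congrArg (fun f => f.hom r) hcomm
    refine ⟨{ φ.hom with commutes' := hcomm' }, ?_⟩
    apply Over.OverMorphism.ext
    have e : Spec.map (CommRingCat.ofHom
        ({ φ.hom with commutes' := hcomm' } : D →ₐ[R] C).toRingHom) = l := by
      rw [← hφ]
      rfl
    rw [ptG_left, e, hl, Category.assoc, Iso.hom_inv_id_assoc, pullback.lift_fst]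
    exact hgl

/-- pushforward of points along an algebra map. -/
noncomputable def pushG {C C' : Type u} [CommRing C] [CommRing C'] [Algebra R C] [Algebra R C']
    (f : C →ₐ[R] C') : (OC b (algebraMap R C) ⟶ G) →* (OC b (algebraMap R C') ⟶ G) :=
  MonoidHom.mk' (fun x => mapO b f.toRingHom f.comp_algebraMap ≫ x)
    (fun x y => MonObj.comp_mul _ _ _)

theorem pushG_apply {C C' : Type u} [CommRing C] [CommRing C'] [Algebra R C] [Algebra R C']
    (f : C →ₐ[R] C') (x : OC b (algebraMap R C) ⟶ G) :
    pushG (G := G) b f x = mapO b f.toRingHom f.comp_algebraMap ≫ x := rfl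

theorem pushG_ptG {C C' : Type u} [CommRing C] [CommRing C'] [Algebra R C] [Algebra R C']
    (f : C →ₐ[R] C') (x : D →ₐ[R] C) :
    pushG b f (ptG b θ hθ C x) = ptG b θ hθ C' (f.comp x) := by
  apply Over.OverMorphism.ext
  show Spec.map (CommRingCat.ofHom f.toRingHom) ≫ Spec.map (CommRingCat.ofHom x.toRingHom) ≫
    θ.inv ≫ pullback.fst G.hom b =
    Spec.map (CommRingCat.ofHom (f.comp x).toRingHom) ≫ θ.inv ≫ pullback.fst G.hom b
  rw [← Category.assoc, spec_comp]
  rfl

/-- the homomorphism on points. -/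
noncomputable def jH (C : Type u) [CommRing C] [Algebra R C] :
    (Multiplicative M₀ →* C) →* (OC b (algebraMap R C) ⟶ G) :=
  MonoidHom.mk' (fun χ => hpt b P (algebraMap R C) χ ≫ i)
    (fun χ χ' => by rw [hpt_mul, MonObj.mul_comp])

theorem jH_apply (C : Type u) [CommRing C] [Algebra R C] (χ : Multiplicative M₀ →* C) :
    jH i b P C χ = hpt b P (algebraMap R C) χ ≫ i := rfl

theorem pushG_jH {C C' : Type u} [CommRing C] [CommRing C'] [Algebra R C] [Algebra R C']
    (f : C →ₐ[R] C') (ψ : Multiplicative M₀ →* C) :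
    pushG b f (jH i b P C ψ) = jH i b P C' (f.toRingHom.toMonoidHom.comp ψ) := by
  rw [pushG_apply, jH_apply, jH_apply, ← Category.assoc, hpt_nat]

theorem gsec_injective (C : Type u) [CommRing C] : Function.Injective (gsec C) := by
  intro c c' h
  have h1 : ∀ z : C, (Scheme.ΓSpecIso (CommRingCat.of C)).hom.hom (gsec C z) = z := fun z =>
    congrArg (fun f => f z) (Scheme.ΓSpecIso (CommRingCat.of C)).inv_hom_id
  rw [← h1 c, ← h1 c', h]

theorem jH_injective (C : Type u) [CommRing C] [Algebra R C] :
    Function.Injective (jH i b P C) := by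
  intro χ χ' h
  have h1 : hpt b P (algebraMap R C) χ = hpt b P (algebraMap R C) χ' := by
    rw [jH_apply, jH_apply] at h
    exact (cancel_mono i).mp h
  have h2 : dpt (algebraMap R C) χ = dpt (algebraMap R C) χ' := by
    have h := congrArg (P.toD (TC (algebraMap R C))) h1
    change P.toD _ (P.ofD _ (dpt (algebraMap R C) χ)) =
      P.toD _ (P.ofD _ (dpt (algebraMap R C) χ')) at h
    rwa [P.to_of, P.to_of] at h
  refine MonoidHom.ext (fun m => ?_)
  have h3 := congrArg (fun d => chr d (Multiplicative.toAdd m)) h2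
  simp only [chr_dpt] at h3
  exact gsec_injective C h3

include hθ P in
/-- **The chart theorem.** -/
theorem closedImm_chart_core : IsClosedImmersion (bcL i b) := by
  obtain ⟨A, hA⟩ : ∃ A : Type u, A = MonoidAlgebra R (Multiplicative M₀) := ⟨_, rfl⟩
  obtain ⟨Φ, hΦ⟩ := (ptG_bijective b θ hθ (MonoidAlgebra R (Multiplicative M₀))).2
    (jH i b P (MonoidAlgebra R (Multiplicative M₀))
      (MonoidAlgebra.of R (Multiplicative M₀)))
  have hsurj : Function.Surjective Φ :=
    surj_of_mono_pts (R := R) (D := D) (M := Multiplicative M₀)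
      (fun (C : Type u) [CommRing C] [Algebra R C] => (OC b (algebraMap R C) ⟶ G))
      (fun (C : Type u) [CommRing C] [Algebra R C] => ptG b θ hθ C)
      (fun (C : Type u) [CommRing C] [Algebra R C] => ptG_bijective b θ hθ C)
      (fun {C C' : Type u} [CommRing C] [CommRing C'] [Algebra R C] [Algebra R C']
        (f : C →ₐ[R] C') => pushG b f)
      (fun {C C' : Type u} [CommRing C] [CommRing C'] [Algebra R C] [Algebra R C']
        (f : C →ₐ[R] C') (x : D →ₐ[R] C) => pushG_ptG b θ hθ f x)
      (fun (C : Type u) [CommRing C] [Algebra R C] => jH i b P C)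
      (fun {C C' : Type u} [CommRing C] [CommRing C'] [Algebra R C] [Algebra R C']
        (f : C →ₐ[R] C') (ψ : Multiplicative M₀ →* C) => pushG_jH i b P f ψ)
      (fun (C : Type u) [CommRing C] [Algebra R C] => jH_injective i b P C) Φ hΦ
  -- the universal point of `H`
  obtain ⟨hul, hhul⟩ : ∃ hul : Spec (CommRingCat.of (MonoidAlgebra R (Multiplicative M₀))) ⟶ H.left,
      hul = (hpt b P (algebraMap R (MonoidAlgebra R (Multiplicative M₀)))
        (MonoidAlgebra.of R (Multiplicative M₀))).left := ⟨_, rfl⟩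
  have hwu : hul ≫ H.hom = Spec.map (CommRingCat.ofHom
      (algebraMap R (MonoidAlgebra R (Multiplicative M₀)))) ≫ b := by
    rw [hhul]
    exact Over.w (hpt b P (algebraMap R (MonoidAlgebra R (Multiplicative M₀)))
      (MonoidAlgebra.of R (Multiplicative M₀)))
  obtain ⟨uH, huH⟩ : ∃ uH : Spec (CommRingCat.of (MonoidAlgebra R (Multiplicative M₀))) ⟶
      pullback H.hom b, uH = pullback.lift hul (Spec.map (CommRingCat.ofHom
        (algebraMap R (MonoidAlgebra R (Multiplicative M₀))))) hwu := ⟨_, rfl⟩
  have huH1 : uH ≫ pullback.fst H.hom b = hul := by rw [huH, pullback.lift_fst]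
  have huH2 : uH ≫ pullback.snd H.hom b = Spec.map (CommRingCat.ofHom
      (algebraMap R (MonoidAlgebra R (Multiplicative M₀)))) := by
    rw [huH, pullback.lift_snd]
  -- the fundamental relation
  have hΦl : Spec.map (CommRingCat.ofHom Φ.toRingHom) ≫ θ.inv ≫ pullback.fst G.hom b =
      hul ≫ i.left := by
    rw [hhul]
    exact congrArg (fun g => g.left) hΦ
  have hrel : uH ≫ bcL i b = Spec.map (CommRingCat.ofHom Φ.toRingHom) ≫ θ.inv := by
    apply pullback.hom_ext
    · have e1 : (uH ≫ bcL i b) ≫ pullback.fst G.hom b = hul ≫ i.left := by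
        rw [Category.assoc, bcL_fst, ← Category.assoc, huH1]
      have e2 : (Spec.map (CommRingCat.ofHom Φ.toRingHom) ≫ θ.inv) ≫ pullback.fst G.hom b =
          hul ≫ i.left := by
        rw [Category.assoc, hΦl]
      exact e1.trans e2.symm
    · have hx : Φ.toRingHom.comp (algebraMap R D) =
          algebraMap R (MonoidAlgebra R (Multiplicative M₀)) := Φ.comp_algebraMap
      have e1 : (uH ≫ bcL i b) ≫ pullback.snd G.hom b = Spec.map (CommRingCat.ofHom
          (algebraMap R (MonoidAlgebra R (Multiplicative M₀)))) := by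
        rw [Category.assoc, bcL_snd, huH2]
      have e2 : (Spec.map (CommRingCat.ofHom Φ.toRingHom) ≫ θ.inv) ≫ pullback.snd G.hom b =
          Spec.map (CommRingCat.ofHom
            (algebraMap R (MonoidAlgebra R (Multiplicative M₀)))) := by
        rw [Category.assoc, theta_inv_snd b θ hθ, spec_comp, hx]
      exact e1.trans e2.symm
  haveI hci : IsClosedImmersion (Spec.map (CommRingCat.ofHom Φ.toRingHom)) := by
    apply IsClosedImmersion.spec_of_surjective
    exact hsurj
  -- `uH` is a monomorphism
  haveI hmono : Mono uH := by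
    haveI : Mono (uH ≫ bcL i b) := by
      rw [hrel]
      infer_instance
    exact mono_of_mono uH (bcL i b)
  -- `uH` has sections over affine schemes
  haveI hiso : IsIso uH := by
    apply isIso_of_mono_of_affine_sections
    intro C c
    obtain ⟨φc, hφc⟩ : ∃ φc : CommRingCat.of R ⟶ C, Spec.map φc = c ≫ pullback.snd H.hom b :=
      ⟨Spec.preimage _, Spec.map_preimage _⟩
    obtain ⟨C₀, iC, rfl⟩ : ∃ (C₀ : Type u) (_ : CommRing C₀), C = CommRingCat.of C₀ :=
      ⟨C, inferInstance, rfl⟩
    obtain ⟨σc, hσc⟩ : ∃ σc : R →+* C₀, σc = φc.hom := ⟨_, rfl⟩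
    have hσc' : Spec.map (CommRingCat.ofHom σc) = c ≫ pullback.snd H.hom b := by
      rw [hσc]
      exact hφc
    obtain ⟨g, hg⟩ : ∃ g : OC b σc ⟶ H, g.left = c ≫ pullback.fst H.hom b :=
      ⟨Over.homMk (c ≫ pullback.fst H.hom b) (by
        show (c ≫ pullback.fst H.hom b) ≫ H.hom = Spec.map (CommRingCat.ofHom σc) ≫ b
        rw [Category.assoc, pullback.condition, ← Category.assoc, hσc']), rfl⟩
    obtain ⟨χ, hχ⟩ := hpt_surj b P σc g
    letI : Algebra R C₀ := σc.toAlgebra
    obtain ⟨lf, hlf⟩ : ∃ lf : MonoidAlgebra R (Multiplicative M₀) →ₐ[R] C₀,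
        lf = MonoidAlgebra.lift R C₀ (Multiplicative M₀) χ := ⟨_, rfl⟩
    have hlfσ : lf.toRingHom.comp (algebraMap R (MonoidAlgebra R (Multiplicative M₀))) = σc :=
      lf.comp_algebraMap
    have hlfχ : lf.toRingHom.toMonoidHom.comp (MonoidAlgebra.of R (Multiplicative M₀)) = χ := by
      refine MonoidHom.ext (fun n => ?_)
      show lf (MonoidAlgebra.of R (Multiplicative M₀) n) = χ n
      rw [hlf]
      exact MonoidAlgebra.lift_of χ n
    refine ⟨Spec.map (CommRingCat.ofHom lf.toRingHom), ?_⟩
    have h := hpt_nat b P lf.toRingHom hlfσ (MonoidAlgebra.of R (Multiplicative M₀))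
    rw [hlfχ, hχ] at h
    have h' : Spec.map (CommRingCat.ofHom lf.toRingHom) ≫ hul = c ≫ pullback.fst H.hom b := by
      rw [hhul]
      exact (congrArg (fun g => g.left) h).trans hg
    apply pullback.hom_ext
    · rw [Category.assoc, huH1]
      exact h'
    · rw [Category.assoc, huH2, spec_comp, hlfσ, hσc']
  have e : bcL i b = inv uH ≫ Spec.map (CommRingCat.ofHom Φ.toRingHom) ≫ θ.inv := by
    rw [← hrel, IsIso.inv_hom_id_assoc]
  rw [e]
  infer_instance

end Adapter

end Groth.Agent.Lib.MTNormH4
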