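import Mathlib
import Groth.Prelude
import Groth.Agent.Lib.MTN2_helper4

/-!
# Monomorphisms from groups of multiplicative type into affine groups are closed immersions;
groups of multiplicative type and of finite type are locally of finite presentation (helper4)
-/

set_option backward.isDefEq.respectTransparency.types false
set_option autoImplicit false
set_option linter.unusedVariables false
set_option linter.unusedTactic false
set_option linter.unreachableTactic false
set_option linter.unusedSectionVars false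
set_option linter.style.haveILetI false
set_option linter.deprecated false
set_option linter.unusedSimpArgs false
set_option linter.style.longLine false
set_option maxHeartbeats 1600000

universe u

open CategoryTheory CategoryTheory.Limits MonoidalCategory CartesianMonoidalCategory MonObj GrpObj
  AlgebraicGeometry Opposite TensorProduct

namespace Groth.Agent.Lib.MTNormH4

open Groth.Agent.Lib.RedDictH8 Groth.Agent.Lib.DSDict Groth.Agent.Lib.MultGa
  Groth.Agent.Lib.MultTrivH4 Groth.Agent.Lib.ConnActH4 Groth.Agent.Lib.TwConstFinH4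
  Groth.Agent.Lib.MTHomH4 Groth.Agent.Lib.TorusQuotH4 Groth.Agent.Lib.KerTrivH4
  Groth.Agent.Lib.MTWeilH4 Groth.Agent.Lib.MTSmH4

/-! ### Descent from charts -/

theorem P_of_charts {S : Scheme.{u}} {G H : Over S} (u : G ⟶ H) (P : MorphismProperty Scheme.{u})
    [P.IsStableUnderBaseChange] [IsZariskiLocalAtTarget P]
    [P.DescendsAlong (@Surjective ⊓ @Flat ⊓ @QuasiCompact : MorphismProperty Scheme.{u})]
    {X : Scheme.{u}} (F : X ⟶ S)
    (hcov : ∀ V : S.Opens, IsAffineOpen V → ∃ (P' : Scheme.{u}) (p : P' ⟶ (V : Scheme.{u}))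
      (m : P' ⟶ X), Flat p ∧ Surjective p ∧ QuasiCompact p ∧ m ≫ F = p ≫ V.ι)
    (hchart : ∀ x : X, ∃ O : X.Opens, x ∈ O ∧ ∀ {T : Scheme.{u}} (r : T ⟶ X),
      (∀ t : T, r.base t ∈ O) → P (bcL u (r ≫ F))) : P u.left := by
  obtain ⟨U, hUc, hUmem, hUP⟩ := core u P F hcov (by
    intro x
    obtain ⟨O, hxO, hO⟩ := hchart x
    exact ⟨O, hxO, True, fun _ {T} r hr => hO r hr, fun _ _ _ _ _ => trivial⟩)
  have hFsurj : ∀ s : S, ∃ x : X, F.base x = s := by
    intro s
    obtain ⟨V, hVaff, hsV, -⟩ := exists_isAffineOpen_mem_and_subset (x := s) (U := ⊤) trivial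
    obtain ⟨P', p, m, hp1, hp2, hp3, hpm⟩ := hcov V hVaff
    obtain ⟨y, hy⟩ := hp2.surj (⟨s, hsV⟩ : V)
    refine ⟨m.base y, ?_⟩
    have h3 : F.base (m.base y) = V.ι.base (p.base y) := congrArg (fun g => g.base y) hpm
    rw [h3]
    exact congrArg (fun t => V.ι.base t) hy
  have hU : U = ⊤ := by
    apply top_unique
    intro s _
    obtain ⟨x, hx⟩ := hFsurj s
    obtain ⟨O, hxO, hO⟩ := hchart x
    have h3 : P (bcL u (X.fromSpecResidueField x ≫ F)) :=
      hO (X.fromSpecResidueField x) (mem_of_residue_pt x O hxO)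
    have h4 := (P_field_iff (P := P) u F x).mp h3
    have gen : ∀ t : S, F.base x = t → P (bcL u (S.fromSpecResidueField t)) := by
      intro t ht
      subst ht
      exact h4
    have h5 : s ∈ (U : Set S) := (hUmem s).mpr (gen s hx)
    exact h5
  subst hU
  haveI : IsIso (⊤ : S.Opens).ι := inferInstanceAs (IsIso S.topIso.hom)
  haveI : IsIso (pullback.fst G.hom (⊤ : S.Opens).ι) := inferInstance
  haveI : IsIso (pullback.fst H.hom (⊤ : S.Opens).ι) := inferInstance
  have e : u.left = inv (pullback.fst G.hom (⊤ : S.Opens).ι) ≫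
      bcL u (⊤ : S.Opens).ι ≫ pullback.fst H.hom (⊤ : S.Opens).ι := by
    rw [bcL_fst, IsIso.inv_hom_id_assoc]
  rw [e]
  exact (P.cancel_left_of_respectsIso _ _).mpr ((P.cancel_right_of_respectsIso _ _).mpr hUP)

/-! ### The closed immersion theorem -/

theorem closedImm_chart {S : Scheme.{u}} {G H : Over S} [GrpObj G] [GrpObj H] (i : H ⟶ G)
    [IsMonHom i] [Mono i] [IsAffineHom G.hom] {R : Type u} [CommRing R]
    (b : Spec (CommRingCat.of R) ⟶ S) {M₀ : Type} [AddCommGroup M₀] (P : PtIso H b M₀) :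
    IsClosedImmersion (bcL i b) := by
  haveI : IsAffineHom (pullback.snd G.hom b) :=
    MorphismProperty.pullback_snd (P := @IsAffineHom) _ _ inferInstance
  haveI : IsAffine (pullback G.hom b) := isAffine_of_isAffineHom (pullback.snd G.hom b)
  obtain ⟨alg, halg⟩ : ∃ alg : R →+* Γ(pullback G.hom b, ⊤),
      alg = (pullback.snd G.hom b).appTop.hom.comp
        (Scheme.ΓSpecIso (CommRingCat.of R)).inv.hom := ⟨_, rfl⟩
  letI : Algebra R Γ(pullback G.hom b, ⊤) := alg.toAlgebra
  have hθ : (pullback G.hom b).isoSpec.hom ≫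
      Spec.map (CommRingCat.ofHom (algebraMap R Γ(pullback G.hom b, ⊤))) =
      pullback.snd G.hom b := by
    have e0 : CommRingCat.ofHom (algebraMap R Γ(pullback G.hom b, ⊤)) =
        (Scheme.ΓSpecIso (CommRingCat.of R)).inv ≫ (pullback.snd G.hom b).appTop := by
      show CommRingCat.ofHom alg = _
      rw [halg]
      rfl
    rw [e0, Spec.map_comp, ← Category.assoc, Scheme.isoSpec_hom_naturality, Category.assoc,
      Scheme.isoSpec_Spec_hom, ← Spec.map_comp, Iso.inv_hom_id, Spec.map_id, Category.comp_id]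
  exact closedImm_chart_core i b P (pullback G.hom b).isoSpec hθ

theorem closedImm_of_mono {S : Scheme.{u}} (H G : Over S) [GrpObj H] [GrpObj G]
    (hH : SGA3x.IsMultTypeFT H) (hGa : IsAffineHom G.hom) (i : H ⟶ G) [IsMonHom i] [Mono i] :
    IsClosedImmersion i.left := by
  haveI := hGa
  obtain ⟨X, F, hcov, hraw⟩ := setup_raw H H hH hH
  haveI : MorphismProperty.DescendsAlong (@IsClosedImmersion : MorphismProperty Scheme.{u})
      (@Surjective ⊓ @Flat ⊓ @QuasiCompact) :=
    Groth.Agent.Lib.SchDescent_helper6.descendsAlong_isClosedImmersion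
  refine P_of_charts i (@IsClosedImmersion : MorphismProperty Scheme.{u}) F hcov (fun x => ?_)
  obtain ⟨Bo, hxB, M, N, iM, iN, hNfg, ⟨eG⟩, -⟩ := hraw x
  refine ⟨Bo, hxB, ?_⟩
  intro T r hr
  have key : ∀ (Q : Scheme.{u}) [IsAffine Q] (q : Q ⟶ T),
      IsClosedImmersion (bcL i (q ≫ r ≫ F)) := by
    intro Q _ q
    have hrange : Set.range (Q.isoSpec.inv ≫ q ≫ r) ⊆ Set.range Bo.ι := by
      rintro _ ⟨t, rfl⟩
      exact ⟨⟨(Q.isoSpec.inv ≫ q ≫ r).base t, hr _⟩, rfl⟩
    obtain ⟨r', hr'⟩ : ∃ r' : Spec Γ(Q, ⊤) ⟶ (Bo : Scheme.{u}),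
        r' ≫ Bo.ι = Q.isoSpec.inv ≫ q ≫ r :=
      ⟨IsOpenImmersion.lift Bo.ι _ hrange, IsOpenImmersion.lift_fac _ _ _⟩
    have e1 : r' ≫ Bo.ι ≫ F = Q.isoSpec.inv ≫ q ≫ r ≫ F := by
      rw [← Category.assoc, hr']
      simp only [Category.assoc]
    obtain ⟨P⟩ := ptIso_congr e1 (ptRestrict (Bo.ι ≫ F) eG r')
    have h1 : IsClosedImmersion (bcL i (Q.isoSpec.inv ≫ q ≫ r ≫ F)) :=
      closedImm_chart (R := Γ(Q, ⊤)) i (Q.isoSpec.inv ≫ q ≫ r ≫ F) P
    have h2 := P_bc (P := (@IsClosedImmersion : MorphismProperty Scheme.{u})) i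
      (Q.isoSpec.inv ≫ q ≫ r ≫ F) Q.isoSpec.hom h1
    exact P_congr i (@IsClosedImmersion : MorphismProperty Scheme.{u})
      (Iso.hom_inv_id_assoc _ _) h2
  refine P_local i (r ≫ F) (fun V : T.affineOpens => (V : T.Opens)) ?_ (fun V => ?_)
  · refine eq_top_iff.mpr (fun y _ => ?_)
    obtain ⟨V, hVaff, hyV, -⟩ := exists_isAffineOpen_mem_and_subset (x := y) (U := ⊤) trivial
    exact TopologicalSpace.Opens.mem_iSup.mpr ⟨⟨V, hVaff⟩, hyV⟩
  · haveI : IsAffine ((V : T.Opens) : Scheme.{u}) := V.2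
    exact key ((V : T.Opens) : Scheme.{u}) (V : T.Opens).ι

/-! ### Finite presentation -/

theorem lfp_DS (B : Scheme.{u}) (N : Type) [AddCommGroup N] (hN : AddGroup.FG N) :
    LocallyOfFinitePresentation (Red.DS B N).hom := by
  haveI : Monoid.FG (Multiplicative N) :=
    Group.fg_iff_monoid_fg.mp (AddGroup.fg_iff_mul_fg.mp hN)
  haveI : IsNoetherianRing (ULift.{u} ℤ) := isNoetherianRing_of_ringEquiv ℤ ULift.ringEquiv.symm
  haveI : LocallyOfFinitePresentation (Red.diag (ULift.{u} ℤ) N).hom := by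
    show LocallyOfFinitePresentation (Spec.map (CommRingCat.ofHom
      (algebraMap (ULift.{u} ℤ) (MonoidAlgebra (ULift.{u} ℤ) (Multiplicative N)))))
    rw [HasRingHomProperty.Spec_iff (P := @LocallyOfFinitePresentation)]
    exact RingHom.FinitePresentation.of_finiteType.mp
      (RingHom.finiteType_algebraMap.mpr inferInstance)
  show LocallyOfFinitePresentation (pullback.snd (Red.diag (ULift.{u} ℤ) N).hom
    (Limits.IsTerminal.from specULiftZIsTerminal B))
  infer_instance

theorem lfp_of_multType {S : Scheme.{u}} {H : Over S} [GrpObj H] (hH : SGA3x.IsMultTypeFT H) :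
    LocallyOfFinitePresentation H.hom := by
  obtain ⟨X, F, hcov, hraw⟩ := setup_raw H H hH hH
  obtain ⟨π, hπ⟩ : ∃ π : H ⟶ 𝟙_ (Over S), π = toUnit H := ⟨_, rfl⟩
  have hkey : ∀ {T : Scheme.{u}} (g : T ⟶ S),
      LocallyOfFinitePresentation (pullback.snd H.hom g) →
      LocallyOfFinitePresentation (bcL π g) := by
    intro T g h
    haveI := h
    have e : bcL π g ≫ pullback.snd (𝟙_ (Over S)).hom g = pullback.snd H.hom g := bcL_snd π g
    haveI : IsIso (pullback.snd (𝟙_ (Over S)).hom g) := by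
      show IsIso (pullback.snd (𝟙 S) g)
      infer_instance
    have e' : bcL π g = pullback.snd H.hom g ≫ inv (pullback.snd (𝟙_ (Over S)).hom g) := by
      rw [← e, Category.assoc, IsIso.hom_inv_id, Category.comp_id]
    rw [e']
    infer_instance
  have hmain : LocallyOfFinitePresentation π.left := by
    refine P_of_charts π (@LocallyOfFinitePresentation : MorphismProperty Scheme.{u}) F hcov
      (fun x => ?_)
    obtain ⟨Bo, hxB, M, N, iM, iN, hNfg, -, ⟨eH⟩⟩ := hraw x
    refine ⟨Bo, hxB, ?_⟩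
    intro T r hr
    apply hkey
    have hrange : Set.range r ⊆ Set.range Bo.ι := by
      rintro _ ⟨t, rfl⟩
      exact ⟨⟨r.base t, hr t⟩, rfl⟩
    obtain ⟨r', hr'⟩ : ∃ r' : T ⟶ (Bo : Scheme.{u}), r' ≫ Bo.ι = r :=
      ⟨IsOpenImmersion.lift Bo.ι r hrange, IsOpenImmersion.lift_fac _ _ _⟩
    have hs : Red.IsSplitTorusWith N (Red.bc (r ≫ F) H) :=
      split_of_restrict (Bo.ι ≫ F) eH r' (r ≫ F) (by rw [← Category.assoc, hr'])
    obtain ⟨ee⟩ := hs
    obtain ⟨a1, ainv, ha1, hainv, h1, h2⟩ := Groth.Agent.Lib.DiagHom.iso_data ee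
    have e : pullback.snd H.hom (r ≫ F) = a1.left ≫ (Red.DS T N).hom := (Over.w a1).symm
    rw [e]
    haveI := lfp_DS T N hNfg
    haveI : IsIso a1.left := ⟨ainv.left, by rw [← Over.comp_left, h1]; rfl,
      by rw [← Over.comp_left, h2]; rfl⟩
    infer_instance
  have e : H.hom = π.left := by
    have h : π.left ≫ 𝟙 S = H.hom := Over.w π
    exact ((Category.comp_id π.left).symm.trans h).symm
  rw [e]
  exact hmain

end Groth.Agent.Lib.MTNormH4
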