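import Mathlib
import Groth.Prelude
import Groth.Agent.Lib.MTN3_helper4

/-!
# Transporters of diagonalisable subgroups of a smooth affine group: local structure (helper4)
-/

set_option backward.isDefEq.respectTransparency.types false
set_option autoImplicit false
set_option linter.unusedVariables false
set_option linter.unusedTactic false
set_option linter.unreachableTactic false
set_option linter.unusedSectionVars false
set_option linter.style.haveILetI false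
set_option linter.deprecated false
set_option linter.unusedSimpArgs false
set_option linter.style.longLine false
set_option maxHeartbeats 1600000

universe u

open CategoryTheory CategoryTheory.Limits MonoidalCategory CartesianMonoidalCategory MonObj GrpObj
  AlgebraicGeometry Opposite TensorProduct

namespace Groth.Agent.Lib.MTNormH4

open Groth.Agent.Lib.RedDictH8 Groth.Agent.Lib.DSDict Groth.Agent.Lib.MultGa
  Groth.Agent.Lib.MultTrivH4 Groth.Agent.Lib.ConnActH4 Groth.Agent.Lib.TwConstFinH4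
  Groth.Agent.Lib.MTHomH4 Groth.Agent.Lib.TorusQuotH4 Groth.Agent.Lib.KerTrivH4
  Groth.Agent.Lib.MTWeilH4 Groth.Agent.Lib.MTSmH4

/-! ### The transporter conditions -/

section Defs

variable {S : Scheme.{u}} {K₁ K₂ G : Over S} [GrpObj G] (v : K₁ ⟶ G) (w : K₂ ⟶ G)

/-- `g` conjugates `K₁` into `K₂`, universally. -/
def TrP {X : Over S} (g : X ⟶ G) : Prop :=
  ∀ (X' : Over S) (x : X' ⟶ X) (h : X' ⟶ K₁), ∃ h' : X' ⟶ K₂,
    (x ≫ g) * (h ≫ v) * (x ≫ g)⁻¹ = h' ≫ w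

/-- `g` conjugates `K₁` onto `K₂`, universally. -/
def TrS {X : Over S} (g : X ⟶ G) : Prop :=
  ∀ (X' : Over S) (x : X' ⟶ X),
    (∀ h₁ : X' ⟶ K₁, ∃ h₂ : X' ⟶ K₂, (x ≫ g) * (h₁ ≫ v) * (x ≫ g)⁻¹ = h₂ ≫ w) ∧
    (∀ h₂ : X' ⟶ K₂, ∃ h₁ : X' ⟶ K₁, (x ≫ g)⁻¹ * (h₂ ≫ w) * (x ≫ g) = h₁ ≫ v)

theorem trS_iff {X : Over S} (g : X ⟶ G) : TrS v w g ↔ TrP v w g ∧ TrP w v g⁻¹ := by
  constructor
  · intro H
    refine ⟨fun X' x h => (H X' x).1 h, fun X' x h => ?_⟩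
    obtain ⟨h₁, e⟩ := (H X' x).2 h
    refine ⟨h₁, ?_⟩
    rw [GrpObj.comp_inv, _root_.inv_inv]
    exact e
  · rintro ⟨H1, H2⟩ X' x
    refine ⟨fun h₁ => H1 X' x h₁, fun h₂ => ?_⟩
    obtain ⟨h₁, e⟩ := H2 X' x h₂
    refine ⟨h₁, ?_⟩
    rw [GrpObj.comp_inv, _root_.inv_inv] at e
    exact e

theorem conj_comp {X Y : Over S} (y : Y ⟶ X) (p q : X ⟶ G) :
    y ≫ (p * q * p⁻¹) = (y ≫ p) * (y ≫ q) * (y ≫ p)⁻¹ := by
  rw [MonObj.comp_mul, MonObj.comp_mul, GrpObj.comp_inv]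

theorem trP_iso {D₁ D₂ : Over S} (a₁ : K₁ ⟶ D₁) (b₁ : D₁ ⟶ K₁) (a₂ : K₂ ⟶ D₂) (b₂ : D₂ ⟶ K₂)
    (h₁ : a₁ ≫ b₁ = 𝟙 _) (h₂ : a₂ ≫ b₂ = 𝟙 _) {X : Over S} (g : X ⟶ G) :
    TrP v w g ↔ TrP (b₁ ≫ v) (b₂ ≫ w) g := by
  constructor
  · intro H X' x d
    obtain ⟨h', e⟩ := H X' x (d ≫ b₁)
    refine ⟨h' ≫ a₂, ?_⟩
    rw [Category.assoc] at e
    rw [e, Category.assoc, ← Category.assoc a₂, h₂, Category.id_comp]
  · intro H X' x h
    obtain ⟨e', e⟩ := H X' x (h ≫ a₁)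
    refine ⟨e' ≫ b₂, ?_⟩
    rw [Category.assoc, ← Category.assoc a₁, h₁, Category.id_comp] at e
    rw [e, Category.assoc]

end Defs

/-! ### Transport of points: complements -/

section TrUp

variable {U W : Scheme.{u}} (r : W ⟶ U) {M : Type} [AddCommGroup M]

theorem trUp_comp {T''' T'' : Over W} (c : T''' ⟶ T'') (d : T'' ⟶ Red.DS W M) :
    trUp r (c ≫ d) = (Over.map r).map c ≫ trUp r d := by
  have h := trDown_comp r c (trUp r d)
  rw [trDown_trUp] at h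
  rw [← h, trUp_trDown]

theorem trUp_mul {T'' : Over W} (d d' : T'' ⟶ Red.DS W M) :
    trUp r (d * d') = trUp r d * trUp r d' := by
  have h := trDown_mul r (trUp r d) (trUp r d')
  rw [trDown_trUp, trDown_trUp] at h
  rw [← h, trUp_trDown]

end TrUp

/-! ### An open subscheme which is a retract -/

theorem open_of_retract {Y T Z : Scheme.{u}} (W₀ : Y.Opens) (a : (W₀ : Scheme.{u}) ⟶ T) (b : T ⟶ Y)
    (j : T ⟶ Z) (k : Y ⟶ Z) [Mono j] (hab : a ≫ b = W₀.ι) (hbk : b ≫ k = j) :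
    ∃ (V₀ : T.Opens) (a₀ : (W₀ : Scheme.{u}) ⟶ (V₀ : Scheme.{u})), IsIso a₀ ∧ a₀ ≫ V₀.ι = a := by
  have hrange : Set.range a ⊆ Set.range (b ⁻¹ᵁ W₀).ι := by
    rintro _ ⟨z, rfl⟩
    rw [Scheme.Opens.range_ι]
    have hz : (a ≫ b) z ∈ W₀ := by
      rw [hab]
      exact z.2
    exact hz
  obtain ⟨a₀, ha₀⟩ : ∃ a₀ : (W₀ : Scheme.{u}) ⟶ ((b ⁻¹ᵁ W₀ : T.Opens) : Scheme.{u}),
      a₀ ≫ (b ⁻¹ᵁ W₀).ι = a :=
    ⟨IsOpenImmersion.lift (b ⁻¹ᵁ W₀).ι a hrange, IsOpenImmersion.lift_fac _ _ _⟩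
  have h12 : a₀ ≫ b ∣_ W₀ = 𝟙 _ := by
    apply (cancel_mono W₀.ι).mp
    rw [Category.assoc, morphismRestrict_ι, ← Category.assoc, ha₀, hab, Category.id_comp]
  have h21 : b ∣_ W₀ ≫ a₀ = 𝟙 _ := by
    apply (cancel_mono (b ⁻¹ᵁ W₀).ι).mp
    apply (cancel_mono j).mp
    have e1 : a ≫ j = W₀.ι ≫ k := by rw [← hbk, ← Category.assoc, hab]
    calc ((b ∣_ W₀ ≫ a₀) ≫ (b ⁻¹ᵁ W₀).ι) ≫ j
        = b ∣_ W₀ ≫ (a₀ ≫ (b ⁻¹ᵁ W₀).ι) ≫ j := by simp only [Category.assoc]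
      _ = b ∣_ W₀ ≫ W₀.ι ≫ k := by rw [ha₀, e1]
      _ = (b ∣_ W₀ ≫ W₀.ι) ≫ k := (Category.assoc _ _ _).symm
      _ = ((b ⁻¹ᵁ W₀).ι ≫ b) ≫ k := by rw [morphismRestrict_ι]
      _ = (b ⁻¹ᵁ W₀).ι ≫ j := by rw [Category.assoc, hbk]
      _ = (𝟙 _ ≫ (b ⁻¹ᵁ W₀).ι) ≫ j := by rw [Category.id_comp]
  exact ⟨b ⁻¹ᵁ W₀, a₀, ⟨⟨b ∣_ W₀, h12, h21⟩⟩, ha₀⟩

/-! ### The local structure of the transporter of diagonalisable subgroups -/

section Z1

variable {U : Scheme.{u}} {G : Over U} [GrpObj G] {M N : Type} [AddCommGroup M] [AddCommGroup N]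
  (v : Red.DS U M ⟶ G) (w : Red.DS U N ⟶ G)

/-- `g` conjugates `v` into `w ∘ D(φ)`. -/
def TrPhi (φ : N →+ M) {X : Over U} (g : X ⟶ G) : Prop :=
  ∀ (X' : Over U) (x : X' ⟶ X) (d : X' ⟶ Red.DS U M),
    (x ≫ g) * (d ≫ v) * (x ≫ g)⁻¹ = d ≫ Red.DSmap U φ ≫ w

theorem transfer_P (φ : N →+ M) {X : Over U} (g : X ⟶ G) (h : TrPhi v w φ g) : TrP v w g :=
  fun X' x d => ⟨d ≫ Red.DSmap U φ, by rw [h X' x d, Category.assoc]⟩

theorem phi_bijective [Mono v] [Mono w] (φ : N →+ M) {X₀ : Over U} (g₀ : X₀ ⟶ G)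
    (hne : Nonempty X₀.left) (hS : TrS v w g₀) (hφ : TrPhi v w φ g₀) : Function.Bijective φ := by
  obtain ⟨x₀⟩ := hne
  have aux : ∀ (L : Type u) [Field L] (z' : Spec (CommRingCat.of L) ⟶ X₀.left),
      Function.Bijective φ := by
    intro L _ z'
    constructor
    · apply injective_of_surj (z' ≫ X₀.hom) φ
      intro C _ _ e
      obtain ⟨x⟩ : Nonempty (TB (z' ≫ X₀.hom) C ⟶ X₀) :=
        ⟨Over.homMk (Spec.map (CommRingCat.ofHom (algebraMap L C)) ≫ z') (Category.assoc _ _ _)⟩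
      obtain ⟨d, hd⟩ := (hS _ x).2 e
      refine ⟨d, ?_⟩
      apply (cancel_mono w).mp
      have h1 := hφ _ x d
      rw [Category.assoc, ← h1, ← hd]
      group
    · apply surjective_of_inj (z' ≫ X₀.hom) φ
      intro C _ _ d d' hdd
      obtain ⟨x⟩ : Nonempty (TB (z' ≫ X₀.hom) C ⟶ X₀) :=
        ⟨Over.homMk (Spec.map (CommRingCat.ofHom (algebraMap L C)) ≫ z') (Category.assoc _ _ _)⟩
      have h1 := hφ _ x d
      have h2 := hφ _ x d'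
      apply (cancel_mono v).mp
      have h3 : (x ≫ g₀) * (d ≫ v) * (x ≫ g₀)⁻¹ = (x ≫ g₀) * (d' ≫ v) * (x ≫ g₀)⁻¹ := by
        rw [h1, h2, ← Category.assoc, hdd, Category.assoc]
      exact mul_left_cancel (mul_right_cancel h3)
  exact aux (X₀.left.residueField x₀) (X₀.left.fromSpecResidueField x₀)

theorem transfer_S [Mono v] [Mono w] (φ : N →+ M) {X₀ : Over U} (g₀ : X₀ ⟶ G)
    (hne : Nonempty X₀.left) (hS : TrS v w g₀) (hφ : TrPhi v w φ g₀) {X : Over U} (g : X ⟶ G)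
    (h : TrPhi v w φ g) : TrS v w g := by
  have hbij := phi_bijective v w φ g₀ hne hS hφ
  intro X' x
  refine ⟨fun d => ⟨d ≫ Red.DSmap U φ, by rw [h X' x d, Category.assoc]⟩, fun e => ?_⟩
  obtain ⟨d, hd⟩ := comp_DSmap_surjective φ hbij X' e
  refine ⟨d, ?_⟩
  have h1 := h X' x d
  rw [← Category.assoc, hd] at h1
  rw [← h1]
  group

/-- the tautological point of `B` with values in a `B`-scheme. -/
noncomputable def xT (B : Over U) (T' : Over B.left) : (Over.map B.hom).obj T' ⟶ B :=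
  Over.homMk T'.hom rfl

theorem xT_nat (B : Over U) {T'' T' : Over B.left} (c : T'' ⟶ T') :
    (Over.map B.hom).map c ≫ xT B T' = xT B T'' := by
  apply Over.OverMorphism.ext
  exact Over.w c

theorem exists_eps {B X' : Over U} (ω : X' ⟶ B) :
    ∃ (T' : Over B.left) (ε : X' ⟶ (Over.map B.hom).obj T') (εi : (Over.map B.hom).obj T' ⟶ X'),
      ε ≫ εi = 𝟙 _ ∧ εi ≫ ε = 𝟙 _ ∧ ε ≫ xT B T' = ω ∧
      ∀ z : T'.left, ∃ z' : X'.left, T'.hom.base z = ω.left.base z' := by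
  have hw : ω.left ≫ B.hom = X'.hom := Over.w ω
  refine ⟨Over.mk ω.left, Over.homMk (𝟙 X'.left) ?_, Over.homMk (𝟙 X'.left) ?_, ?_, ?_, ?_,
    fun z => ⟨z, rfl⟩⟩
  · show 𝟙 X'.left ≫ (ω.left ≫ B.hom) = X'.hom
    rw [Category.id_comp]
    exact hw
  · show 𝟙 X'.left ≫ X'.hom = ω.left ≫ B.hom
    rw [Category.id_comp]
    exact hw.symm
  · apply Over.OverMorphism.ext
    exact Category.id_comp _
  · apply Over.OverMorphism.ext
    exact Category.id_comp _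
  · apply Over.OverMorphism.ext
    exact Category.id_comp _

variable {B : Over U} (gu : B ⟶ G) (hTr : TrP v w gu)

/-- the image of a point of `D(M)` under conjugation by the universal point. -/
noncomputable def nuE (T' : Over B.left) (d : T' ⟶ Red.DS B.left M) :
    (Over.map B.hom).obj T' ⟶ Red.DS U N :=
  (hTr ((Over.map B.hom).obj T') (xT B T') (trUp B.hom d)).choose

theorem nuE_spec (T' : Over B.left) (d : T' ⟶ Red.DS B.left M) :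
    (xT B T' ≫ gu) * (trUp B.hom d ≫ v) * (xT B T' ≫ gu)⁻¹ = nuE v w gu hTr T' d ≫ w :=
  (hTr ((Over.map B.hom).obj T') (xT B T') (trUp B.hom d)).choose_spec

theorem nuE_nat [Mono w] {T'' T' : Over B.left} (c : T'' ⟶ T') (d : T' ⟶ Red.DS B.left M) :
    (Over.map B.hom).map c ≫ nuE v w gu hTr T' d = nuE v w gu hTr T'' (c ≫ d) := by
  apply (cancel_mono w).mp
  have e1 : (Over.map B.hom).map c ≫ xT B T' ≫ gu = xT B T'' ≫ gu := by
    rw [← Category.assoc, xT_nat]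
  have e2 : (Over.map B.hom).map c ≫ trUp B.hom d ≫ v = trUp B.hom (c ≫ d) ≫ v := by
    rw [trUp_comp, Category.assoc]
  rw [Category.assoc, ← nuE_spec v w gu hTr T' d, ← nuE_spec v w gu hTr T'' (c ≫ d), conj_comp,
    e1, e2]

theorem nuE_mul [IsMonHom v] [IsMonHom w] [Mono w] (T' : Over B.left)
    (d d' : T' ⟶ Red.DS B.left M) :
    nuE v w gu hTr T' (d * d') = nuE v w gu hTr T' d * nuE v w gu hTr T' d' := by
  apply (cancel_mono w).mp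
  rw [MonObj.mul_comp, ← nuE_spec v w gu hTr T' (d * d'), ← nuE_spec v w gu hTr T' d,
    ← nuE_spec v w gu hTr T' d', trUp_mul, MonObj.mul_comp]
  group

/-- the induced map on points of `D(M)` over `B`. -/
noncomputable def nuD (T' : Over B.left) (d : T' ⟶ Red.DS B.left M) : T' ⟶ Red.DS B.left N :=
  trDown B.hom (nuE v w gu hTr T' d)

theorem nuD_nat [Mono w] (T'' T' : Over B.left) (c : T'' ⟶ T') (d : T' ⟶ Red.DS B.left M) :
    c ≫ nuD v w gu hTr T' d = nuD v w gu hTr T'' (c ≫ d) := by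
  show c ≫ trDown B.hom (nuE v w gu hTr T' d) = trDown B.hom (nuE v w gu hTr T'' (c ≫ d))
  rw [← trDown_comp, nuE_nat]

theorem nuD_mul [IsMonHom v] [IsMonHom w] [Mono w] (T' : Over B.left)
    (d d' : T' ⟶ Red.DS B.left M) :
    nuD v w gu hTr T' (d * d') = nuD v w gu hTr T' d * nuD v w gu hTr T' d' := by
  show trDown B.hom (nuE v w gu hTr T' (d * d')) =
    trDown B.hom (nuE v w gu hTr T' d) * trDown B.hom (nuE v w gu hTr T' d')
  rw [← trDown_mul, nuE_mul]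

include hTr in
theorem z1_const [IsMonHom v] [IsMonHom w] [Mono w] (hN : AddGroup.FG N) (b₀ : B.left) :
    ∃ (W₀ : B.left.Opens) (φ : N →+ M), b₀ ∈ W₀ ∧
      ∀ (X' : Over U) (ω : X' ⟶ B), (∀ z : X'.left, ω.left.base z ∈ W₀) →
        ∀ d : X' ⟶ Red.DS U M, (ω ≫ gu) * (d ≫ v) * (ω ≫ gu)⁻¹ = d ≫ Red.DSmap U φ ≫ w := by
  obtain ⟨W₀, φ, hb, hloc⟩ := local_const (nuD v w gu hTr) (nuD_nat v w gu hTr)
    (nuD_mul v w gu hTr) hN b₀
  refine ⟨W₀, φ, hb, ?_⟩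
  have key : ∀ (T' : Over B.left), (∀ z : T'.left, T'.hom.base z ∈ W₀) →
      ∀ d' : (Over.map B.hom).obj T' ⟶ Red.DS U M,
        (xT B T' ≫ gu) * (d' ≫ v) * (xT B T' ≫ gu)⁻¹ = d' ≫ Red.DSmap U φ ≫ w := by
    intro T' hT d'
    have h1 := nuE_spec v w gu hTr T' (trDown B.hom d')
    rw [trUp_trDown] at h1
    have h2 : trDown B.hom (nuE v w gu hTr T' (trDown B.hom d')) =
        trDown B.hom d' ≫ Red.DSmap B.left φ := hloc T' hT (trDown B.hom d')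
    have h3 : nuE v w gu hTr T' (trDown B.hom d') = d' ≫ Red.DSmap U φ := by
      have h4 : trDown B.hom (nuE v w gu hTr T' (trDown B.hom d')) =
          trDown B.hom (d' ≫ Red.DSmap U φ) := by
        rw [trDown_DSmap]
        exact h2
      have h5 : trUp B.hom (trDown B.hom (nuE v w gu hTr T' (trDown B.hom d'))) =
          trUp B.hom (trDown B.hom (d' ≫ Red.DSmap U φ)) := by rw [h4]
      rw [trUp_trDown, trUp_trDown] at h5
      exact h5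
    rw [h1, h3, Category.assoc]
  intro X' ω hω d
  obtain ⟨T', ε, εi, h1, h2, hx, hz⟩ := exists_eps ω
  have hT : ∀ z : T'.left, T'.hom.base z ∈ W₀ := by
    intro z
    obtain ⟨z', hz'⟩ := hz z
    rw [hz']
    exact hω z'
  have E := key T' hT (εi ≫ d)
  have E' : ε ≫ ((xT B T' ≫ gu) * ((εi ≫ d) ≫ v) * (xT B T' ≫ gu)⁻¹) =
      ε ≫ (εi ≫ d) ≫ Red.DSmap U φ ≫ w := by rw [E]
  rw [conj_comp] at E'
  have e1 : ε ≫ xT B T' ≫ gu = ω ≫ gu := by rw [← Category.assoc, hx]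
  have e2 : ε ≫ (εi ≫ d) ≫ v = d ≫ v := by
    rw [← Category.assoc, ← Category.assoc, h1, Category.id_comp]
  have e3 : ε ≫ (εi ≫ d) ≫ Red.DSmap U φ ≫ w = d ≫ Red.DSmap U φ ≫ w := by
    have e4 : ε ≫ (εi ≫ d) = d := by rw [← Category.assoc, h1, Category.id_comp]
    rw [← Category.assoc ε, e4]
  rw [e1, e2, e3] at E'
  exact E'

omit hTr in
theorem z1_smooth [IsMonHom v] [IsMonHom w] [Mono w] [Mono gu]
    (hM : AddGroup.FG M) (hN : AddGroup.FG N) (hG : Smooth G.hom) (hGa : IsAffineHom G.hom)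
    (Q : ∀ X : Over U, (X ⟶ G) → Prop)
    (hrep : ∀ (X : Over U) (g : X ⟶ G), (∃ z : X ⟶ B, z ≫ gu = g) ↔ Q X g)
    (hQ1 : ∀ (X : Over U) (g : X ⟶ G), Q X g → TrP v w g)
    (hQ2 : ∀ (φ : N →+ M) (X₀ : Over U) (g₀ : X₀ ⟶ G), Nonempty X₀.left → Q X₀ g₀ →
      TrPhi v w φ g₀ → ∀ (X : Over U) (g : X ⟶ G), TrPhi v w φ g → Q X g)
    (b₀ : B.left) : ∃ W₀ : B.left.Opens, b₀ ∈ W₀ ∧ Smooth (W₀.ι ≫ B.hom) := by
  have hTr : TrP v w gu := hQ1 B gu ((hrep B gu).mp ⟨𝟙 B, Category.id_comp gu⟩)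
  obtain ⟨W₀, φ, hb, hout⟩ := z1_const v w gu hTr hN b₀
  refine ⟨W₀, hb, ?_⟩
  obtain ⟨Tφ, jφ, hjc, hTs, hTu⟩ := main5257 v (Red.DSmap U φ ≫ w) (isMultTypeFT_DS U M hM) hG hGa
  haveI := hjc
  haveI := hTs
  haveI : Mono jφ.left := inferInstance
  obtain ⟨ωW, hωW⟩ : ∃ ωW : Over.mk (W₀.ι ≫ B.hom) ⟶ B, ωW.left = W₀.ι :=
    ⟨Over.homMk W₀.ι rfl, rfl⟩
  have h1 : TrPhi v w φ (ωW ≫ gu) := by
    intro X' x d
    have hmem : ∀ z : X'.left, (x ≫ ωW).left.base z ∈ W₀ := by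
      intro z
      have e : (x ≫ ωW).left = x.left ≫ W₀.ι := by rw [Over.comp_left, hωW]
      have hz : (x.left ≫ W₀.ι).base z ∈ Set.range W₀.ι := ⟨x.left.base z, rfl⟩
      rw [Scheme.Opens.range_ι] at hz
      rw [e]
      exact hz
    have h := hout X' (x ≫ ωW) hmem d
    rw [Category.assoc] at h
    exact h
  obtain ⟨α, hα⟩ := (hTu _ (ωW ≫ gu)).mpr h1
  have hQφ : Q Tφ jφ := hQ2 φ _ (ωW ≫ gu) ⟨(⟨b₀, hb⟩ : W₀)⟩ ((hrep _ _).mp ⟨ωW, rfl⟩) h1 Tφ jφ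
    ((hTu Tφ jφ).mp ⟨𝟙 _, Category.id_comp _⟩)
  obtain ⟨β, hβ⟩ := (hrep Tφ jφ).mpr hQφ
  have hαβ : α ≫ β = ωW := by
    apply (cancel_mono gu).mp
    rw [Category.assoc, hβ, hα]
  obtain ⟨αl, hαl⟩ : ∃ αl : (W₀ : Scheme.{u}) ⟶ Tφ.left, αl = α.left := ⟨α.left, rfl⟩
  have hab : αl ≫ β.left = W₀.ι := by
    rw [hαl]
    have h3 := congrArg (fun t => t.left) hαβ
    exact h3.trans hωW
  have hbk : β.left ≫ gu.left = jφ.left := congrArg (fun t => t.left) hβ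
  obtain ⟨V₀, a₀, ha₀iso, ha₀⟩ := open_of_retract W₀ αl β.left jφ.left gu.left hab hbk
  haveI := ha₀iso
  have hfac : W₀.ι ≫ B.hom = a₀ ≫ V₀.ι ≫ Tφ.hom := by
    rw [← Category.assoc, ha₀, hαl]
    exact (Over.w α).symm
  rw [hfac]
  infer_instance

end Z1

end Groth.Agent.Lib.MTNormH4
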