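import Mathlib
import Groth.Prelude
import Groth.Agent.Lib.MTN4_helper4

/-!
# Transporters and normalisers of subgroups of multiplicative type of a smooth affine group
are closed and smooth (helper4)
-/

set_option backward.isDefEq.respectTransparency.types false
set_option autoImplicit false
set_option linter.unusedVariables false
set_option linter.unusedTactic false
set_option linter.unreachableTactic false
set_option linter.unusedSectionVars false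
set_option linter.style.haveILetI false
set_option linter.deprecated false
set_option linter.unusedSimpArgs false
set_option linter.style.longLine false
set_option maxHeartbeats 1600000

universe u

open CategoryTheory CategoryTheory.Limits MonoidalCategory CartesianMonoidalCategory MonObj GrpObj
  AlgebraicGeometry Opposite TensorProduct

namespace Groth.Agent.Lib.MTNormH4

open Groth.Agent.Lib.RedDictH8 Groth.Agent.Lib.DSDict Groth.Agent.Lib.MultGa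
  Groth.Agent.Lib.MultTrivH4 Groth.Agent.Lib.ConnActH4 Groth.Agent.Lib.TwConstFinH4
  Groth.Agent.Lib.MTHomH4 Groth.Agent.Lib.TorusQuotH4 Groth.Agent.Lib.KerTrivH4
  Groth.Agent.Lib.MTWeilH4 Groth.Agent.Lib.MTSmH4

/-! ### Base change of the transporter conditions -/

section BC

variable {S U : Scheme.{u}} (jj : U ⟶ S)

theorem chk_inj4 {X : Over S} {T' : Over U} (a b : T' ⟶ Red.bc jj X)
    (h : chk jj a = chk jj b) : a = b := by
  rw [← unchk_chk jj a, ← unchk_chk jj b, h]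

theorem chk_inv' {G : Over S} [GrpObj G] {X : Over U} (g : X ⟶ Red.bc jj G) :
    chk jj g⁻¹ = (chk jj g)⁻¹ := by
  apply eq_inv_of_mul_eq_one_left
  rw [← chk_mul, _root_.inv_mul_cancel, chk_one']

theorem chk_conj {G : Over S} [GrpObj G] {X : Over U} (p q : X ⟶ Red.bc jj G) :
    chk jj (p * q * p⁻¹) = chk jj p * chk jj q * (chk jj p)⁻¹ := by
  rw [chk_mul, chk_mul, chk_inv']

theorem exists_eps_S {X : Over U} {X'S : Over S} (xS : X'S ⟶ (Over.map jj).obj X) :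
    ∃ (X' : Over U) (x : X' ⟶ X) (ε : X'S ⟶ (Over.map jj).obj X')
      (εi : (Over.map jj).obj X' ⟶ X'S),
      ε ≫ εi = 𝟙 _ ∧ εi ≫ ε = 𝟙 _ ∧ ε ≫ (Over.map jj).map x = xS := by
  have hw : xS.left ≫ X.hom ≫ jj = X'S.hom := Over.w xS
  refine ⟨Over.mk (xS.left ≫ X.hom), Over.homMk xS.left rfl,
    Over.homMk (𝟙 X'S.left) ?_, Over.homMk (𝟙 X'S.left) ?_, ?_, ?_, ?_⟩
  · show 𝟙 X'S.left ≫ ((xS.left ≫ X.hom) ≫ jj) = X'S.hom
    rw [Category.id_comp, Category.assoc]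
    exact hw
  · show 𝟙 X'S.left ≫ X'S.hom = (xS.left ≫ X.hom) ≫ jj
    rw [Category.id_comp, Category.assoc]
    exact hw.symm
  · apply Over.OverMorphism.ext
    exact Category.id_comp _
  · apply Over.OverMorphism.ext
    exact Category.id_comp _
  · apply Over.OverMorphism.ext
    exact Category.id_comp _

variable {K₁ K₂ G : Over S} [GrpObj G] (v : K₁ ⟶ G) (w : K₂ ⟶ G)

theorem trP_bc_mp {X : Over U} (g : X ⟶ Red.bc jj G) (h : TrP v w (chk jj g)) :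
    TrP ((Over.pullback jj).map v) ((Over.pullback jj).map w) g := by
  intro X' x k
  obtain ⟨h', e⟩ := h ((Over.map jj).obj X') ((Over.map jj).map x) (chk jj k)
  refine ⟨unchk jj h', ?_⟩
  apply chk_inj4 jj
  rw [chk_conj, chk_comp, chk_postcomp, chk_postcomp, chk_unchk]
  exact e

theorem trP_bc_mpr {X : Over U} (g : X ⟶ Red.bc jj G)
    (h : TrP ((Over.pullback jj).map v) ((Over.pullback jj).map w) g) : TrP v w (chk jj g) := by
  intro X'S xS hS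
  obtain ⟨X', x, ε, εi, h1, h2, hx⟩ := exists_eps_S jj xS
  subst hx
  obtain ⟨k', e⟩ := h X' x (unchk jj (εi ≫ hS))
  refine ⟨ε ≫ chk jj k', ?_⟩
  have e' : ε ≫ chk jj ((x ≫ g) * (unchk jj (εi ≫ hS) ≫ (Over.pullback jj).map v) * (x ≫ g)⁻¹) =
      ε ≫ chk jj (k' ≫ (Over.pullback jj).map w) := by rw [e]
  rw [chk_conj, chk_comp, chk_postcomp, chk_postcomp, chk_unchk, conj_comp] at e'
  have e1 : ε ≫ (εi ≫ hS) ≫ v = hS ≫ v := by
    rw [← Category.assoc, ← Category.assoc, h1, Category.id_comp]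
  rw [e1] at e'
  rw [Category.assoc, Category.assoc]
  exact e'

theorem trP_bc {X : Over U} (g : X ⟶ Red.bc jj G) :
    TrP v w (chk jj g) ↔ TrP ((Over.pullback jj).map v) ((Over.pullback jj).map w) g :=
  ⟨trP_bc_mp jj v w g, trP_bc_mpr jj v w g⟩

theorem rep_bc {C : Over S} (c : C ⟶ G) {X : Over U} (g' : X ⟶ Red.bc jj G) :
    (∃ z : X ⟶ Red.bc jj C, z ≫ (Over.pullback jj).map c = g') ↔
      ∃ z₀ : (Over.map jj).obj X ⟶ C, z₀ ≫ c = chk jj g' := by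
  constructor
  · rintro ⟨z, rfl⟩
    exact ⟨chk jj z, (chk_postcomp jj c z).symm⟩
  · rintro ⟨z₀, h⟩
    refine ⟨unchk jj z₀, ?_⟩
    rw [← unchk_postcomp, h, unchk_chk]

end BC

/-! ### Smoothness from charts -/

theorem smooth_of_local {S : Scheme.{u}} (C : Over S) [LocallyOfFinitePresentation C.hom]
    {H₁ H₂ : Over S} [GrpObj H₁] [GrpObj H₂] (hH₁ : SGA3x.IsMultTypeFT H₁)
    (hH₂ : SGA3x.IsMultTypeFT H₂)
    (hloc : ∀ (Uo : Scheme.{u}) (jj : Uo ⟶ S) (M₁ M₂ : Type) [AddCommGroup M₁] [AddCommGroup M₂],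
      AddGroup.FG M₁ → AddGroup.FG M₂ → PtIso H₁ jj M₁ → PtIso H₂ jj M₂ →
      ∀ b₀ : ↑(pullback C.hom jj), ∃ W₀ : (pullback C.hom jj).Opens,
        b₀ ∈ W₀ ∧ Smooth (W₀.ι ≫ pullback.snd C.hom jj)) :
    Smooth C.hom := by
  obtain ⟨S₁, f₁, hflat₁, hsurj₁, hcov₁, hloc₁⟩ := hH₁
  obtain ⟨S₂, f₂, hflat₂, hsurj₂, hcov₂, hloc₂⟩ := hH₂
  haveI := hflat₁
  haveI := hflat₂
  obtain ⟨F, hF⟩ : ∃ F : pullback f₁ f₂ ⟶ S, F = pullback.fst f₁ f₂ ≫ f₁ := ⟨_, rfl⟩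
  haveI hFflat : Flat F := by
    rw [hF]
    infer_instance
  have hpt : ∀ y : C.left, ∃ V : C.left.Opens, y ∈ V ∧ Smooth (V.ι ≫ C.hom) := by
    intro y
    obtain ⟨s₁, hs₁⟩ := hsurj₁.surj (C.hom y)
    obtain ⟨s₂, hs₂⟩ := hsurj₂.surj (C.hom y)
    obtain ⟨x, hx1, hx2⟩ :=
      AlgebraicGeometry.Scheme.Pullback.exists_preimage_pullback (f := f₁) (g := f₂) s₁ s₂
        (hs₁.trans hs₂.symm)
    obtain ⟨U₁, hs₁U, M₁, iM₁, hM₁, ⟨eA⟩⟩ := hloc₁ s₁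
    obtain ⟨U₂, hs₂U, M₂, iM₂, hM₂, ⟨eB⟩⟩ := hloc₂ s₂
    obtain ⟨a1, ainv, ha1, hainv, h1, h2⟩ := Groth.Agent.Lib.DiagHom.iso_data eA
    obtain ⟨b1, binv, hb1, hbinv, h1', h2'⟩ := Groth.Agent.Lib.DiagHom.iso_data eB
    haveI := ha1
    haveI := hainv
    haveI := hb1
    haveI := hbinv
    obtain ⟨Bo, hBo⟩ : ∃ Bo : (pullback f₁ f₂).Opens,
        Bo = (pullback.fst f₁ f₂ ⁻¹ᵁ U₁) ⊓ (pullback.snd f₁ f₂ ⁻¹ᵁ U₂) := ⟨_, rfl⟩
    have hxB : x ∈ Bo := by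
      rw [hBo]
      refine ⟨?_, ?_⟩
      · show pullback.fst f₁ f₂ x ∈ U₁
        rw [hx1]
        exact hs₁U
      · show pullback.snd f₁ f₂ x ∈ U₂
        rw [hx2]
        exact hs₂U
    have hB1 : ∀ y : ↥(pullback f₁ f₂), y ∈ Bo → (pullback.fst f₁ f₂).base y ∈ U₁ := by
      intro y hy
      rw [hBo] at hy
      exact hy.1
    have hB2 : ∀ y : ↥(pullback f₁ f₂), y ∈ Bo → (pullback.snd f₁ f₂).base y ∈ U₂ := by
      intro y hy
      rw [hBo] at hy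
      exact hy.2
    have hrange₁ : Set.range (Bo.ι ≫ pullback.fst f₁ f₂) ⊆ Set.range U₁.ι := by
      rintro _ ⟨⟨y, hy⟩, rfl⟩
      exact ⟨⟨(pullback.fst f₁ f₂).base y, hB1 y hy⟩, rfl⟩
    have hrange₂ : Set.range (Bo.ι ≫ pullback.snd f₁ f₂) ⊆ Set.range U₂.ι := by
      rintro _ ⟨⟨y, hy⟩, rfl⟩
      exact ⟨⟨(pullback.snd f₁ f₂).base y, hB2 y hy⟩, rfl⟩
    obtain ⟨r₁, hr₁⟩ : ∃ r₁ : (Bo : Scheme.{u}) ⟶ (U₁ : Scheme.{u}),
        r₁ ≫ U₁.ι = Bo.ι ≫ pullback.fst f₁ f₂ :=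
      ⟨IsOpenImmersion.lift U₁.ι (Bo.ι ≫ pullback.fst f₁ f₂) hrange₁,
        IsOpenImmersion.lift_fac _ _ _⟩
    obtain ⟨r₂, hr₂⟩ : ∃ r₂ : (Bo : Scheme.{u}) ⟶ (U₂ : Scheme.{u}),
        r₂ ≫ U₂.ι = Bo.ι ≫ pullback.snd f₁ f₂ :=
      ⟨IsOpenImmersion.lift U₂.ι (Bo.ι ≫ pullback.snd f₁ f₂) hrange₂,
        IsOpenImmersion.lift_fac _ _ _⟩
    obtain ⟨pG⟩ := exists_transport H₁ (U₁.ι ≫ f₁) a1 ainv h1 h2 r₁ (Bo.ι ≫ F) (by
      rw [hF, ← Category.assoc, hr₁, Category.assoc])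
    obtain ⟨pH⟩ := exists_transport H₂ (U₂.ι ≫ f₂) b1 binv h1' h2' r₂ (Bo.ι ≫ F) (by
      rw [hF, ← Category.assoc, hr₂, Category.assoc, pullback.condition])
    haveI : Flat (Bo.ι ≫ F) := inferInstance
    have hFx : C.hom y = (Bo.ι ≫ F) ⟨x, hxB⟩ := by
      have e1 : (Bo.ι ≫ F) ⟨x, hxB⟩ = F x := rfl
      have e2 : F x = f₁ (pullback.fst f₁ f₂ x) := by
        rw [hF]
        rfl
      rw [e1, e2, hx1, hs₁]
    obtain ⟨y', hy'1, hy'2⟩ :=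
      AlgebraicGeometry.Scheme.Pullback.exists_preimage_pullback (f := C.hom) (g := Bo.ι ≫ F)
        y ⟨x, hxB⟩ hFx
    obtain ⟨W₀, hW₀, hsm⟩ := hloc _ (Bo.ι ≫ F) M₁ M₂ hM₁ hM₂ pG pH y'
    obtain ⟨V, hV1, hV2⟩ := Groth.Agent.Lib.UnramLocH4.main2757 C.hom (Bo.ι ≫ F) y'
      (Flat.stalkMap (Bo.ι ≫ F) _) ⟨W₀, hW₀, hsm⟩
    refine ⟨V, ?_, hV2⟩
    have e0 : (pullback.fst C.hom (Bo.ι ≫ F)).base y' = y := hy'1
    rw [← e0]
    exact hV1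
  choose V hyV hsmV using hpt
  have hV : TopologicalSpace.IsOpenCover V := by
    show ⨆ y, V y = ⊤
    rw [eq_top_iff]
    intro t _
    rw [TopologicalSpace.Opens.mem_iSup]
    exact ⟨t, hyV t⟩
  apply IsZariskiLocalAtSource.of_openCover (P := @Smooth) (C.left.openCoverOfIsOpenCover V hV)
  intro y
  exact hsmV y

/-! ### The chart-level statement -/

theorem chart_smooth {S Uo : Scheme.{u}} {H₁ H₂ G : Over S} [GrpObj H₁] [GrpObj H₂] [GrpObj G]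
    (i₁ : H₁ ⟶ G) (i₂ : H₂ ⟶ G) [IsMonHom i₁] [IsMonHom i₂] [Mono i₁] [Mono i₂]
    (hG : Smooth G.hom) (hGa : IsAffineHom G.hom) (jj : Uo ⟶ S)
    {M₁ M₂ : Type} [AddCommGroup M₁] [AddCommGroup M₂] (hM₁ : AddGroup.FG M₁)
    (hM₂ : AddGroup.FG M₂) (P₁ : PtIso H₁ jj M₁) (P₂ : PtIso H₂ jj M₂)
    {C : Over S} (c : C ⟶ G) (hc : IsClosedImmersion c.left)
    (hrep : (∀ (X : Over S) (g : X ⟶ G), (∃ z : X ⟶ C, z ≫ c = g) ↔ TrP i₁ i₂ g) ∨
      (∀ (X : Over S) (g : X ⟶ G), (∃ z : X ⟶ C, z ≫ c = g) ↔ TrS i₁ i₂ g))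
    (b₀ : ↑(pullback C.hom jj)) :
    ∃ W₀ : (pullback C.hom jj).Opens, b₀ ∈ W₀ ∧ Smooth (W₀.ι ≫ pullback.snd C.hom jj) := by
  haveI := hG
  haveI := hGa
  haveI := hc
  haveI : Mono c.left := inferInstance
  haveI : Mono c := mono_of_left_mono c
  obtain ⟨a₁, b₁, ha₁, hb₁, h₁ab, h₁ba, -⟩ := split_of_ptIso jj P₁
  obtain ⟨a₂, b₂, ha₂, hb₂, h₂ab, h₂ba, -⟩ := split_of_ptIso jj P₂
  haveI := ha₁
  haveI := hb₁
  haveI := ha₂
  haveI := hb₂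
  haveI : Mono b₁ := SplitMono.mono ⟨a₁, h₁ba⟩
  haveI : Mono b₂ := SplitMono.mono ⟨a₂, h₂ba⟩
  haveI : Mono ((Over.pullback jj).map i₁) :=
    (mono_iff_injOn i₁ jj).mpr (fun T'' x x' hxx => (cancel_mono i₁).mp hxx)
  haveI : Mono ((Over.pullback jj).map i₂) :=
    (mono_iff_injOn i₂ jj).mpr (fun T'' x x' hxx => (cancel_mono i₂).mp hxx)
  haveI : Mono ((Over.pullback jj).map c) :=
    (mono_iff_injOn c jj).mpr (fun T'' x x' hxx => (cancel_mono c).mp hxx)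
  haveI : IsMonHom ((Over.pullback jj).map i₁) := inferInstance
  haveI : IsMonHom ((Over.pullback jj).map i₂) := inferInstance
  have hG' : Smooth (Red.bc jj G).hom := by
    show Smooth (pullback.snd G.hom jj)
    infer_instance
  have hGa' : IsAffineHom (Red.bc jj G).hom := by
    show IsAffineHom (pullback.snd G.hom jj)
    exact MorphismProperty.pullback_snd (P := @IsAffineHom) _ _ hGa
  have hiso : ∀ {X : Over Uo} (g' : X ⟶ Red.bc jj G), TrP i₁ i₂ (chk jj g') ↔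
      TrP (b₁ ≫ (Over.pullback jj).map i₁) (b₂ ≫ (Over.pullback jj).map i₂) g' :=
    fun g' => (trP_bc jj i₁ i₂ g').trans
      (trP_iso ((Over.pullback jj).map i₁) ((Over.pullback jj).map i₂) a₁ b₁ a₂ b₂ h₁ab h₂ab g')
  have hiso' : ∀ {X : Over Uo} (g' : X ⟶ Red.bc jj G), TrP i₂ i₁ (chk jj g') ↔
      TrP (b₂ ≫ (Over.pullback jj).map i₂) (b₁ ≫ (Over.pullback jj).map i₁) g' :=
    fun g' => (trP_bc jj i₂ i₁ g').trans
      (trP_iso ((Over.pullback jj).map i₂) ((Over.pullback jj).map i₁) a₂ b₂ a₁ b₁ h₂ab h₁ab g')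
  rcases hrep with hP | hS
  · exact z1_smooth (b₁ ≫ (Over.pullback jj).map i₁) (b₂ ≫ (Over.pullback jj).map i₂)
      ((Over.pullback jj).map c) hM₁ hM₂ hG' hGa'
      (fun X g' => TrP (b₁ ≫ (Over.pullback jj).map i₁) (b₂ ≫ (Over.pullback jj).map i₂) g')
      (fun X g' => (rep_bc jj c g').trans ((hP _ (chk jj g')).trans (hiso g')))
      (fun X g' h => h)
      (fun φ X₀ g₀ _ _ _ X g h => transfer_P _ _ φ g h)
      b₀
  · have hisoS : ∀ {X : Over Uo} (g' : X ⟶ Red.bc jj G), TrS i₁ i₂ (chk jj g') ↔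
        TrS (b₁ ≫ (Over.pullback jj).map i₁) (b₂ ≫ (Over.pullback jj).map i₂) g' := by
      intro X g'
      rw [trS_iff, trS_iff, ← chk_inv']
      exact and_congr (hiso g') (hiso' g'⁻¹)
    exact z1_smooth (b₁ ≫ (Over.pullback jj).map i₁) (b₂ ≫ (Over.pullback jj).map i₂)
      ((Over.pullback jj).map c) hM₁ hM₂ hG' hGa'
      (fun X g' => TrS (b₁ ≫ (Over.pullback jj).map i₁) (b₂ ≫ (Over.pullback jj).map i₂) g')
      (fun X g' => (rep_bc jj c g').trans ((hS _ (chk jj g')).trans (hisoS g')))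
      (fun X g' h => ((trS_iff _ _ g').mp h).1)
      (fun φ X₀ g₀ hne hS₀ hφ₀ X g h => transfer_S _ _ φ g₀ hne hS₀ hφ₀ g h)
      b₀

/-! ### The main theorems -/

section Main

variable {S : Scheme.{u}} (H₁ H₂ G : Over S) [GrpObj H₁] [GrpObj H₂] [GrpObj G]

theorem transpP_closed (hH₁ : SGA3x.IsMultTypeFT H₁) (hH₂ : SGA3x.IsMultTypeFT H₂)
    (hG : Smooth G.hom) (hGa : IsAffineHom G.hom)
    (i₁ : H₁ ⟶ G) [IsMonHom i₁] [Mono i₁] (i₂ : H₂ ⟶ G) [IsMonHom i₂] [Mono i₂] :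
    ∃ (C : Over S) (c : C ⟶ G), IsClosedImmersion c.left ∧ LocallyOfFinitePresentation C.hom ∧
      ∀ (X : Over S) (g : X ⟶ G), (∃ z : X ⟶ C, z ≫ c = g) ↔ TrP i₁ i₂ g := by
  haveI := hG
  have hGfp : LocallyOfFinitePresentation G.hom := inferInstance
  have hcl : IsClosedImmersion i₂.left := closedImm_of_mono H₂ G hH₂ hGa i₂
  have hfp : LocallyOfFinitePresentation H₂.hom := lfp_of_multType hH₂
  exact MTWeilH4.main16777 G H₁ i₁ H₂ hGa hGfp hH₁ i₂ hcl hfp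

theorem main16788 (hH₁ : SGA3x.IsMultTypeFT H₁) (hH₂ : SGA3x.IsMultTypeFT H₂)
    (hG : Smooth G.hom) (hGa : IsAffineHom G.hom)
    (i₁ : H₁ ⟶ G) [IsMonHom i₁] [Mono i₁] (i₂ : H₂ ⟶ G) [IsMonHom i₂] [Mono i₂] :
    ∃ (C : Over S) (c : C ⟶ G), IsClosedImmersion c.left ∧ Smooth C.hom ∧
      ∀ (X : Over S) (g : X ⟶ G), (∃ z : X ⟶ C, z ≫ c = g) ↔ TrP i₁ i₂ g := by
  obtain ⟨C, c, hc, hCfp, huniv⟩ := transpP_closed H₁ H₂ G hH₁ hH₂ hG hGa i₁ i₂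
  refine ⟨C, c, hc, ?_, huniv⟩
  haveI := hCfp
  exact smooth_of_local C hH₁ hH₂ (fun Uo jj M₁ M₂ _ _ hM₁ hM₂ P₁ P₂ b₀ =>
    chart_smooth i₁ i₂ hG hGa jj hM₁ hM₂ P₁ P₂ c hc (Or.inl huniv) b₀)

theorem main5287 (hH₁ : SGA3x.IsMultTypeFT H₁) (hH₂ : SGA3x.IsMultTypeFT H₂)
    (hG : Smooth G.hom) (hGa : IsAffineHom G.hom)
    (i₁ : H₁ ⟶ G) [IsMonHom i₁] [Mono i₁] (i₂ : H₂ ⟶ G) [IsMonHom i₂] [Mono i₂] :
    ∃ (T : Over S) (j : T ⟶ G), IsClosedImmersion j.left ∧ Smooth T.hom ∧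
      ∀ (X : Over S) (g : X ⟶ G), (∃ t : X ⟶ T, t ≫ j = g) ↔ TrS i₁ i₂ g := by
  haveI := hG
  obtain ⟨C, c, hc, hCfp, huniv⟩ := transpP_closed H₁ H₂ G hH₁ hH₂ hG hGa i₁ i₂
  obtain ⟨C', c', hc', hCfp', huniv'⟩ := transpP_closed H₂ H₁ G hH₂ hH₁ hG hGa i₂ i₁
  haveI := hc
  haveI := hc'
  haveI := hCfp
  haveI := hCfp'
  haveI : LocallyOfFinitePresentation G.hom := inferInstance
  haveI : LocallyOfFinitePresentation c'.left := by
    haveI : LocallyOfFinitePresentation (c'.left ≫ G.hom) := by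
      rw [Over.w c']
      exact hCfp'
    exact lfp_of_comp' c'.left G.hom
  have hrep : ∀ (X : Over S) (g : X ⟶ G),
      (∃ t : X ⟶ pbObj c⁻¹ c', t ≫ (pbι c⁻¹ c' ≫ c) = g) ↔ TrS i₁ i₂ g := by
    intro X g
    rw [trS_iff]
    constructor
    · rintro ⟨t, rfl⟩
      refine ⟨(huniv _ _).mp ⟨t ≫ pbι c⁻¹ c', Category.assoc _ _ _⟩, ?_⟩
      obtain ⟨a', ha'⟩ := (pb_iff c⁻¹ c' (t ≫ pbι c⁻¹ c')).mp ⟨t, rfl⟩
      refine (huniv' _ _).mp ⟨a', ?_⟩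
      rw [← ha', GrpObj.comp_inv, Category.assoc]
    · rintro ⟨h1, h2⟩
      obtain ⟨z, hz⟩ := (huniv _ _).mpr h1
      obtain ⟨a', ha'⟩ := (huniv' _ _).mpr h2
      obtain ⟨t, ht⟩ := (pb_iff c⁻¹ c' z).mpr ⟨a', by rw [GrpObj.comp_inv, hz, ha']⟩
      exact ⟨t, by rw [← Category.assoc, ht, hz]⟩
  have hjc : IsClosedImmersion (pbι c⁻¹ c' ≫ c).left := by
    show IsClosedImmersion (pullback.fst (c⁻¹).left c'.left ≫ c.left)
    infer_instance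
  refine ⟨pbObj c⁻¹ c', pbι c⁻¹ c' ≫ c, hjc, ?_, hrep⟩
  haveI : LocallyOfFinitePresentation (pbObj c⁻¹ c').hom := by
    show LocallyOfFinitePresentation (pullback.fst (c⁻¹).left c'.left ≫ C.hom)
    infer_instance
  exact smooth_of_local _ hH₁ hH₂ (fun Uo jj M₁ M₂ _ _ hM₁ hM₂ P₁ P₂ b₀ =>
    chart_smooth i₁ i₂ hG hGa jj hM₁ hM₂ P₁ P₂ (pbι c⁻¹ c' ≫ c) hjc (Or.inr hrep) b₀)

end Main

theorem main5248 {S : Scheme.{u}} (H G : Over S) [GrpObj H] [GrpObj G]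
    (hH : SGA3x.IsMultTypeFT H) (hG : Smooth G.hom) (hGa : IsAffineHom G.hom) (i : H ⟶ G)
    [IsMonHom i] [Mono i] :
    ∃ (N : Over S) (_ : GrpObj N) (j : N ⟶ G), Red.IsNormalizerOf i j ∧
      IsClosedImmersion j.left ∧ Smooth N.hom := by
  obtain ⟨T, j, hjc, hTs, huniv⟩ := main5287 H H G hH hH hG hGa i i
  haveI := hjc
  haveI : Mono j.left := inferInstance
  haveI hmono : Mono j := mono_of_left_mono j
  have hz : ∀ (X : Over S) (g : X ⟶ G), (∃ z : X ⟶ T, z ≫ j = g) ↔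
      ∀ (X' : Over S) (x : X' ⟶ X) (h : X' ⟶ H),
        (∃ h' : X' ⟶ H, (x ≫ g) * (h ≫ i) * (x ≫ g)⁻¹ = h' ≫ i) ∧
        (∃ h' : X' ⟶ H, (x ≫ g)⁻¹ * (h ≫ i) * (x ≫ g) = h' ≫ i) := by
    intro X g
    refine (huniv X g).trans ?_
    constructor
    · intro H' X' x h
      exact ⟨(H' X' x).1 h, (H' X' x).2 h⟩
    · intro H' X' x
      exact ⟨fun h => (H' X' x h).1, fun h => (H' X' x h).2⟩
  obtain ⟨grp, hmon⟩ := exists_grpObj_of_pts j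
    (fun T g => ∀ (X' : Over S) (x : X' ⟶ T) (h : X' ⟶ H),
      (∃ h' : X' ⟶ H, (x ≫ g) * (h ≫ i) * (x ≫ g)⁻¹ = h' ≫ i) ∧
      (∃ h' : X' ⟶ H, (x ≫ g)⁻¹ * (h ≫ i) * (x ≫ g) = h' ≫ i))
    hz
    (by
      intro T X' x h
      rw [MonObj.comp_one]
      exact ⟨⟨h, by group⟩, ⟨h, by group⟩⟩)
    (by
      intro T g g' hg hg' X' x h
      rw [MonObj.comp_mul]
      constructor
      · obtain ⟨h₁, e₁⟩ := (hg' X' x h).1
        obtain ⟨h₂, e₂⟩ := (hg X' x h₁).1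
        refine ⟨h₂, ?_⟩
        rw [← e₂, ← e₁]
        group
      · obtain ⟨h₁, e₁⟩ := (hg X' x h).2
        obtain ⟨h₂, e₂⟩ := (hg' X' x h₁).2
        refine ⟨h₂, ?_⟩
        rw [← e₂, ← e₁]
        group)
    (by
      intro T g hg X' x h
      rw [GrpObj.comp_inv]
      constructor
      · obtain ⟨h', e⟩ := (hg X' x h).2
        exact ⟨h', by rw [_root_.inv_inv]; exact e⟩
      · obtain ⟨h', e⟩ := (hg X' x h).1
        exact ⟨h', by rw [_root_.inv_inv]; exact e⟩)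
  exact ⟨T, grp, j, ⟨hmon, hmono, hz⟩, hjc, hTs⟩

end Groth.Agent.Lib.MTNormH4
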