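import Mathlib
import Groth.Prelude
import Groth.Agent.Lib.MTN5_helper4

/-!
# Centralisers and normalisers of subgroups of multiplicative type in smooth separated groups
(helper4)

Generalisation of `MTN4`/`MTN5` from smooth affine groups to smooth separated groups, the subgroups
being assumed closed.
-/

set_option backward.isDefEq.respectTransparency.types false
set_option autoImplicit false
set_option linter.unusedVariables false
set_option linter.unusedTactic false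
set_option linter.unreachableTactic false
set_option linter.unusedSectionVars false
set_option linter.style.haveILetI false
set_option linter.deprecated false
set_option linter.unusedSimpArgs false
set_option linter.style.longLine false
set_option maxHeartbeats 1600000

universe u

open CategoryTheory CategoryTheory.Limits MonoidalCategory CartesianMonoidalCategory MonObj GrpObj
  AlgebraicGeometry Opposite TensorProduct

namespace Groth.Agent.Lib.MTNormH4

open Groth.Agent.Lib.RedDictH8 Groth.Agent.Lib.DSDict Groth.Agent.Lib.MultGa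
  Groth.Agent.Lib.MultTrivH4 Groth.Agent.Lib.ConnActH4 Groth.Agent.Lib.TwConstFinH4
  Groth.Agent.Lib.MTHomH4 Groth.Agent.Lib.TorusQuotH4 Groth.Agent.Lib.KerTrivH4
  Groth.Agent.Lib.MTWeilH4 Groth.Agent.Lib.MTSmH4

/-! ### A group scheme whose unit section is closed is separated -/

theorem isPullback_whiskerLeft4 {S : Scheme.{u}} (B : Over S) {A' B' : Over S} (c' : A' ⟶ B') :
    IsPullback (B ◁ c').left (snd B A').left (snd B B').left c'.left := by
  apply IsPullback.of_right (h₁₂ := (fst B B').left) (h₂₂ := B'.hom) (v₁₃ := B.hom)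
  · have h1 : (B ◁ c').left ≫ (fst B B').left = (fst B A').left := by simp
    rw [h1, Over.w c']
    exact IsPullback.of_hasPullback B.hom A'.hom
  · simp
  · exact IsPullback.of_hasPullback B.hom B'.hom

theorem sep_of_unit_closed {S : Scheme.{u}} (G : Over S) [GrpObj G]
    (h : IsClosedImmersion (η[G] : 𝟙_ (Over S) ⟶ G).left) : IsSeparated G.hom := by
  obtain ⟨σ, hσ⟩ : ∃ σ : G ⊗ G ⟶ G ⊗ G, σ = lift (fst G G) (fst G G * snd G G) := ⟨_, rfl⟩
  obtain ⟨τ, hτ⟩ : ∃ τ : G ⊗ G ⟶ G ⊗ G, τ = lift (fst G G) ((fst G G)⁻¹ * snd G G) := ⟨_, rfl⟩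
  have hστ : σ ≫ τ = 𝟙 _ := by
    rw [hσ, hτ]
    apply CartesianMonoidalCategory.hom_ext
    · rw [Category.assoc, lift_fst, lift_fst, Category.id_comp]
    · rw [Category.assoc, lift_snd, MonObj.comp_mul, GrpObj.comp_inv, lift_fst, lift_snd,
        Category.id_comp, _root_.inv_mul_cancel_left]
  have hτσ : τ ≫ σ = 𝟙 _ := by
    rw [hσ, hτ]
    apply CartesianMonoidalCategory.hom_ext
    · rw [Category.assoc, lift_fst, lift_fst, Category.id_comp]
    · rw [Category.assoc, lift_snd, MonObj.comp_mul, lift_fst, lift_snd,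
        Category.id_comp, _root_.mul_inv_cancel_left]
  haveI : IsIso σ := ⟨τ, hστ, hτσ⟩
  have hΔ : lift (𝟙 G) (𝟙 G) = lift (𝟙 G) (1 : G ⟶ G) ≫ σ := by
    rw [hσ]
    apply CartesianMonoidalCategory.hom_ext
    · rw [lift_fst, Category.assoc, lift_fst, lift_fst]
    · rw [lift_snd, Category.assoc, lift_snd, MonObj.comp_mul, lift_fst, lift_snd,
        _root_.mul_one]
  have hlift : (ρ_ G).inv ≫ (G ◁ η[G]) = lift (𝟙 G) (1 : G ⟶ G) := by
    apply CartesianMonoidalCategory.hom_ext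
    · rw [Category.assoc, whiskerLeft_fst, rightUnitor_inv_fst, lift_fst]
    · rw [Category.assoc, whiskerLeft_snd, rightUnitor_inv_snd_assoc, lift_snd, Hom.one_def]
  haveI hw : IsClosedImmersion (G ◁ η[G]).left :=
    MorphismProperty.of_isPullback (P := @IsClosedImmersion) (isPullback_whiskerLeft4 G η[G]).flip h
  haveI : IsIso ((ρ_ G).inv).left := inferInstanceAs (IsIso ((Over.forget S).map (ρ_ G).inv))
  haveI : IsIso σ.left := inferInstanceAs (IsIso ((Over.forget S).map σ))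
  have e : pullback.diagonal G.hom = (CartesianMonoidalCategory.lift (𝟙 G) (𝟙 G)).left := by
    apply pullback.hom_ext
    · rw [pullback.diagonal_fst]
      show 𝟙 _ = (CartesianMonoidalCategory.lift (𝟙 G) (𝟙 G) ≫ fst G G).left
      rw [lift_fst]
      rfl
    · rw [pullback.diagonal_snd]
      show 𝟙 _ = (CartesianMonoidalCategory.lift (𝟙 G) (𝟙 G) ≫ snd G G).left
      rw [lift_snd]
      rfl
  refine ⟨?_⟩
  rw [e, hΔ, ← hlift]
  show IsClosedImmersion ((((ρ_ G).inv).left ≫ (G ◁ η[G]).left) ≫ σ.left)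
  infer_instance

/-! ### Groups of multiplicative type are affine -/

theorem affine_DS (B : Scheme.{u}) (N : Type) [AddCommGroup N] :
    IsAffineHom (Red.DS B N).hom := by
  have h : IsAffineHom (Red.diag (ULift.{u} ℤ) N).hom := by
    show IsAffineHom (Spec.map (CommRingCat.ofHom
      (algebraMap (ULift.{u} ℤ) (MonoidAlgebra (ULift.{u} ℤ) (Multiplicative N)))))
    infer_instance
  show IsAffineHom (pullback.snd (Red.diag (ULift.{u} ℤ) N).hom
    (Limits.IsTerminal.from specULiftZIsTerminal B))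
  exact MorphismProperty.pullback_snd (P := @IsAffineHom) _ _ h

theorem affine_of_multType {S : Scheme.{u}} {H : Over S} [GrpObj H] (hH : SGA3x.IsMultTypeFT H) :
    IsAffineHom H.hom := by
  haveI : MorphismProperty.DescendsAlong (@IsAffineHom : MorphismProperty Scheme.{u})
      (@Surjective ⊓ @Flat ⊓ @QuasiCompact) :=
    Groth.Agent.Lib.SchDescent_helper6.descendsAlong_isAffineHom
  obtain ⟨X, F, hcov, hraw⟩ := setup_raw H H hH hH
  obtain ⟨π, hπ⟩ : ∃ π : H ⟶ 𝟙_ (Over S), π = toUnit H := ⟨_, rfl⟩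
  have hkey : ∀ {T : Scheme.{u}} (g : T ⟶ S),
      IsAffineHom (pullback.snd H.hom g) → IsAffineHom (bcL π g) := by
    intro T g h
    haveI := h
    have e : bcL π g ≫ pullback.snd (𝟙_ (Over S)).hom g = pullback.snd H.hom g := bcL_snd π g
    haveI : IsIso (pullback.snd (𝟙_ (Over S)).hom g) := by
      show IsIso (pullback.snd (𝟙 S) g)
      infer_instance
    have e' : bcL π g = pullback.snd H.hom g ≫ inv (pullback.snd (𝟙_ (Over S)).hom g) := by
      rw [← e, Category.assoc, IsIso.hom_inv_id, Category.comp_id]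
    rw [e']
    infer_instance
  have hmain : IsAffineHom π.left := by
    refine P_of_charts π (@IsAffineHom : MorphismProperty Scheme.{u}) F hcov (fun x => ?_)
    obtain ⟨Bo, hxB, M, N, iM, iN, hNfg, -, ⟨eH⟩⟩ := hraw x
    refine ⟨Bo, hxB, ?_⟩
    intro T r hr
    apply hkey
    have hrange : Set.range r ⊆ Set.range Bo.ι := by
      rintro _ ⟨t, rfl⟩
      exact ⟨⟨r.base t, hr t⟩, rfl⟩
    obtain ⟨r', hr'⟩ : ∃ r' : T ⟶ (Bo : Scheme.{u}), r' ≫ Bo.ι = r :=
      ⟨IsOpenImmersion.lift Bo.ι r hrange, IsOpenImmersion.lift_fac _ _ _⟩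
    have hs : Red.IsSplitTorusWith N (Red.bc (r ≫ F) H) :=
      split_of_restrict (Bo.ι ≫ F) eH r' (r ≫ F) (by rw [← Category.assoc, hr'])
    obtain ⟨ee⟩ := hs
    obtain ⟨a1, ainv, ha1, hainv, h1, h2⟩ := Groth.Agent.Lib.DiagHom.iso_data ee
    have e : pullback.snd H.hom (r ≫ F) = a1.left ≫ (Red.DS T N).hom := (Over.w a1).symm
    rw [e]
    haveI := affine_DS T N
    haveI : IsIso a1.left := ⟨ainv.left, by rw [← Over.comp_left, h1]; rfl,
      by rw [← Over.comp_left, h2]; rfl⟩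
    infer_instance
  have e : H.hom = π.left := by
    have h : π.left ≫ 𝟙 S = H.hom := Over.w π
    exact ((Category.comp_id π.left).symm.trans h).symm
  rw [e]
  exact hmain

/-! ### Transporters of homomorphisms and centralisers in a smooth separated group -/

section Tr

variable {S : Scheme.{u}} {H G : Over S} [GrpObj H] [GrpObj G]

theorem main5257' (u₁ u₂ : H ⟶ G) (hH : SGA3x.IsMultTypeFT H) [Smooth G.hom] [IsSeparated G.hom]
    [IsMonHom u₁] [IsMonHom u₂] :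
    ∃ (T : Over S) (j : T ⟶ G), IsClosedImmersion j.left ∧ Smooth T.hom ∧
      ∀ (X : Over S) (g : X ⟶ G), (∃ t : X ⟶ T, t ≫ j = g) ↔
        ∀ (X' : Over S) (x : X' ⟶ X) (h : X' ⟶ H),
          (x ≫ g) * (h ≫ u₁) * (x ≫ g)⁻¹ = h ≫ u₂ := by
  obtain ⟨Z, z, hzc, hzs, hzu⟩ := fixed_repr (trAct u₁ u₂) (trAct_assoc u₁ u₂) hH
  refine ⟨Z, z, hzc, hzs, fun X g => (hzu X g).trans ?_⟩
  refine forall_congr' (fun X' => forall_congr' (fun x => forall_congr' (fun h => ?_)))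
  exact trAct_fixed_iff u₁ u₂ h (x ≫ g)

theorem main5247' (hH : SGA3x.IsMultTypeFT H) [Smooth G.hom] [IsSeparated G.hom]
    (v : H ⟶ G) [IsMonHom v] :
    ∃ (Z : Over S) (_ : GrpObj Z) (j : Z ⟶ G), Red.IsCentralizerOf v j ∧
      IsClosedImmersion j.left ∧ Smooth Z.hom := by
  obtain ⟨Z, z, hzc, hzs, hzu⟩ := fixed_repr (trAct v v) (trAct_assoc v v) hH
  haveI := hzc
  haveI hmono : Mono z := mono_of_left_mono z
  have hzu' : ∀ (X : Over S) (g : X ⟶ G), (∃ x : X ⟶ Z, x ≫ z = g) ↔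
      ∀ (X' : Over S) (x : X' ⟶ X) (h : X' ⟶ H), (x ≫ g) * (h ≫ v) = (h ≫ v) * (x ≫ g) := by
    intro X g
    refine (hzu X g).trans ?_
    refine forall_congr' (fun X' => forall_congr' (fun x => forall_congr' (fun h => ?_)))
    exact (trAct_fixed_iff v v h (x ≫ g)).trans mul_inv_eq_iff_eq_mul
  obtain ⟨grp, hmon⟩ := exists_grpObj_of_pts z
    (fun T g => ∀ (X' : Over S) (x : X' ⟶ T) (h : X' ⟶ H),
      (x ≫ g) * (h ≫ v) = (h ≫ v) * (x ≫ g))
    hzu'
    (by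
      intro T X' x h
      rw [MonObj.comp_one, _root_.one_mul, _root_.mul_one])
    (by
      intro T g g' hg hg' X' x h
      rw [MonObj.comp_mul, _root_.mul_assoc, hg', ← _root_.mul_assoc, hg, _root_.mul_assoc])
    (by
      intro T g hg X' x h
      rw [GrpObj.comp_inv]
      exact (Commute.inv_left (show Commute (x ≫ g) (h ≫ v) from hg X' x h)).eq)
  exact ⟨Z, grp, z, ⟨hmon, hmono, hzu'⟩, hzc, hzs⟩

end Tr

/-! ### The local structure theorem, abstract form -/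

section Z1

variable {U : Scheme.{u}} {G : Over U} [GrpObj G] {M N : Type} [AddCommGroup M] [AddCommGroup N]
  (v : Red.DS U M ⟶ G) (w : Red.DS U N ⟶ G) {B : Over U} (gu : B ⟶ G)

theorem z1_smooth_core [IsMonHom v] [IsMonHom w] [Mono w] [Mono gu]
    (hN : AddGroup.FG N)
    (hT : ∀ φ : N →+ M, ∃ (T : Over U) (j : T ⟶ G), IsClosedImmersion j.left ∧ Smooth T.hom ∧
      ∀ (X : Over U) (g : X ⟶ G), (∃ t : X ⟶ T, t ≫ j = g) ↔ TrPhi v w φ g)
    (Q : ∀ X : Over U, (X ⟶ G) → Prop)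
    (hrep : ∀ (X : Over U) (g : X ⟶ G), (∃ z : X ⟶ B, z ≫ gu = g) ↔ Q X g)
    (hQ1 : ∀ (X : Over U) (g : X ⟶ G), Q X g → TrP v w g)
    (hQ2 : ∀ (φ : N →+ M) (X₀ : Over U) (g₀ : X₀ ⟶ G), Nonempty X₀.left → Q X₀ g₀ →
      TrPhi v w φ g₀ → ∀ (X : Over U) (g : X ⟶ G), TrPhi v w φ g → Q X g)
    (b₀ : B.left) : ∃ W₀ : B.left.Opens, b₀ ∈ W₀ ∧ Smooth (W₀.ι ≫ B.hom) := by
  have hTr : TrP v w gu := hQ1 B gu ((hrep B gu).mp ⟨𝟙 B, Category.id_comp gu⟩)
  obtain ⟨W₀, φ, hb, hout⟩ := z1_const v w gu hTr hN b₀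
  refine ⟨W₀, hb, ?_⟩
  obtain ⟨Tφ, jφ, hjc, hTs, hTu⟩ := hT φ
  haveI := hjc
  haveI := hTs
  haveI : Mono jφ.left := inferInstance
  obtain ⟨ωW, hωW⟩ : ∃ ωW : Over.mk (W₀.ι ≫ B.hom) ⟶ B, ωW.left = W₀.ι :=
    ⟨Over.homMk W₀.ι rfl, rfl⟩
  have h1 : TrPhi v w φ (ωW ≫ gu) := by
    intro X' x d
    have hmem : ∀ z : X'.left, (x ≫ ωW).left.base z ∈ W₀ := by
      intro z
      have e : (x ≫ ωW).left = x.left ≫ W₀.ι := by rw [Over.comp_left, hωW]
      have hz : (x.left ≫ W₀.ι).base z ∈ Set.range W₀.ι := ⟨x.left.base z, rfl⟩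
      rw [Scheme.Opens.range_ι] at hz
      rw [e]
      exact hz
    have h := hout X' (x ≫ ωW) hmem d
    rw [Category.assoc] at h
    exact h
  obtain ⟨α, hα⟩ := (hTu _ (ωW ≫ gu)).mpr h1
  have hQφ : Q Tφ jφ := hQ2 φ _ (ωW ≫ gu) ⟨(⟨b₀, hb⟩ : W₀)⟩ ((hrep _ _).mp ⟨ωW, rfl⟩) h1 Tφ jφ
    ((hTu Tφ jφ).mp ⟨𝟙 _, Category.id_comp _⟩)
  obtain ⟨β, hβ⟩ := (hrep Tφ jφ).mpr hQφ
  have hαβ : α ≫ β = ωW := by
    apply (cancel_mono gu).mp
    rw [Category.assoc, hβ, hα]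
  obtain ⟨αl, hαl⟩ : ∃ αl : (W₀ : Scheme.{u}) ⟶ Tφ.left, αl = α.left := ⟨α.left, rfl⟩
  have hab : αl ≫ β.left = W₀.ι := by
    rw [hαl]
    have h3 := congrArg (fun t => t.left) hαβ
    exact h3.trans hωW
  have hbk : β.left ≫ gu.left = jφ.left := congrArg (fun t => t.left) hβ
  obtain ⟨V₀, a₀, ha₀iso, ha₀⟩ := open_of_retract W₀ αl β.left jφ.left gu.left hab hbk
  haveI := ha₀iso
  have hfac : W₀.ι ≫ B.hom = a₀ ≫ V₀.ι ≫ Tφ.hom := by
    rw [← Category.assoc, ha₀, hαl]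
    exact (Over.w α).symm
  rw [hfac]
  infer_instance

end Z1

/-! ### The chart-level statement -/

theorem chart_smooth' {S Uo : Scheme.{u}} {H₁ H₂ G : Over S} [GrpObj H₁] [GrpObj H₂] [GrpObj G]
    (i₁ : H₁ ⟶ G) (i₂ : H₂ ⟶ G) [IsMonHom i₁] [IsMonHom i₂] [Mono i₁] [Mono i₂]
    (hG : Smooth G.hom) [IsSeparated G.hom] (jj : Uo ⟶ S)
    {M₁ M₂ : Type} [AddCommGroup M₁] [AddCommGroup M₂] (hM₁ : AddGroup.FG M₁)
    (hM₂ : AddGroup.FG M₂) (P₁ : PtIso H₁ jj M₁) (P₂ : PtIso H₂ jj M₂)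
    {C : Over S} (c : C ⟶ G) (hc : IsClosedImmersion c.left)
    (hrep : (∀ (X : Over S) (g : X ⟶ G), (∃ z : X ⟶ C, z ≫ c = g) ↔ TrP i₁ i₂ g) ∨
      (∀ (X : Over S) (g : X ⟶ G), (∃ z : X ⟶ C, z ≫ c = g) ↔ TrS i₁ i₂ g))
    (b₀ : ↑(pullback C.hom jj)) :
    ∃ W₀ : (pullback C.hom jj).Opens, b₀ ∈ W₀ ∧ Smooth (W₀.ι ≫ pullback.snd C.hom jj) := by
  haveI := hG
  haveI := hc
  haveI : Mono c.left := inferInstance
  haveI : Mono c := mono_of_left_mono c
  obtain ⟨a₁, b₁, ha₁, hb₁, h₁ab, h₁ba, -⟩ := split_of_ptIso jj P₁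
  obtain ⟨a₂, b₂, ha₂, hb₂, h₂ab, h₂ba, -⟩ := split_of_ptIso jj P₂
  haveI := ha₁
  haveI := hb₁
  haveI := ha₂
  haveI := hb₂
  haveI : Mono b₁ := SplitMono.mono ⟨a₁, h₁ba⟩
  haveI : Mono b₂ := SplitMono.mono ⟨a₂, h₂ba⟩
  haveI : Mono ((Over.pullback jj).map i₁) :=
    (mono_iff_injOn i₁ jj).mpr (fun T'' x x' hxx => (cancel_mono i₁).mp hxx)
  haveI : Mono ((Over.pullback jj).map i₂) :=
    (mono_iff_injOn i₂ jj).mpr (fun T'' x x' hxx => (cancel_mono i₂).mp hxx)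
  haveI : Mono ((Over.pullback jj).map c) :=
    (mono_iff_injOn c jj).mpr (fun T'' x x' hxx => (cancel_mono c).mp hxx)
  haveI : IsMonHom ((Over.pullback jj).map i₁) := inferInstance
  haveI : IsMonHom ((Over.pullback jj).map i₂) := inferInstance
  haveI hG' : Smooth (Red.bc jj G).hom := by
    show Smooth (pullback.snd G.hom jj)
    infer_instance
  haveI hGs' : IsSeparated (Red.bc jj G).hom := by
    show IsSeparated (pullback.snd G.hom jj)
    infer_instance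
  have hT : ∀ φ : M₂ →+ M₁, ∃ (T : Over Uo) (j : T ⟶ Red.bc jj G), IsClosedImmersion j.left ∧
      Smooth T.hom ∧ ∀ (X : Over Uo) (g : X ⟶ Red.bc jj G), (∃ t : X ⟶ T, t ≫ j = g) ↔
        TrPhi (b₁ ≫ (Over.pullback jj).map i₁) (b₂ ≫ (Over.pullback jj).map i₂) φ g :=
    fun φ => main5257' (b₁ ≫ (Over.pullback jj).map i₁)
      (Red.DSmap Uo φ ≫ b₂ ≫ (Over.pullback jj).map i₂) (isMultTypeFT_DS Uo M₁ hM₁)
  have hiso : ∀ {X : Over Uo} (g' : X ⟶ Red.bc jj G), TrP i₁ i₂ (chk jj g') ↔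
      TrP (b₁ ≫ (Over.pullback jj).map i₁) (b₂ ≫ (Over.pullback jj).map i₂) g' :=
    fun g' => (trP_bc jj i₁ i₂ g').trans
      (trP_iso ((Over.pullback jj).map i₁) ((Over.pullback jj).map i₂) a₁ b₁ a₂ b₂ h₁ab h₂ab g')
  have hiso' : ∀ {X : Over Uo} (g' : X ⟶ Red.bc jj G), TrP i₂ i₁ (chk jj g') ↔
      TrP (b₂ ≫ (Over.pullback jj).map i₂) (b₁ ≫ (Over.pullback jj).map i₁) g' :=
    fun g' => (trP_bc jj i₂ i₁ g').trans
      (trP_iso ((Over.pullback jj).map i₂) ((Over.pullback jj).map i₁) a₂ b₂ a₁ b₁ h₂ab h₁ab g')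
  rcases hrep with hP | hS
  · exact z1_smooth_core (b₁ ≫ (Over.pullback jj).map i₁) (b₂ ≫ (Over.pullback jj).map i₂)
      ((Over.pullback jj).map c) hM₂ hT
      (fun X g' => TrP (b₁ ≫ (Over.pullback jj).map i₁) (b₂ ≫ (Over.pullback jj).map i₂) g')
      (fun X g' => (rep_bc jj c g').trans ((hP _ (chk jj g')).trans (hiso g')))
      (fun X g' h => h)
      (fun φ X₀ g₀ _ _ _ X g h => transfer_P _ _ φ g h)
      b₀
  · have hisoS : ∀ {X : Over Uo} (g' : X ⟶ Red.bc jj G), TrS i₁ i₂ (chk jj g') ↔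
        TrS (b₁ ≫ (Over.pullback jj).map i₁) (b₂ ≫ (Over.pullback jj).map i₂) g' := by
      intro X g'
      rw [trS_iff, trS_iff, ← chk_inv']
      exact and_congr (hiso g') (hiso' g'⁻¹)
    exact z1_smooth_core (b₁ ≫ (Over.pullback jj).map i₁) (b₂ ≫ (Over.pullback jj).map i₂)
      ((Over.pullback jj).map c) hM₂ hT
      (fun X g' => TrS (b₁ ≫ (Over.pullback jj).map i₁) (b₂ ≫ (Over.pullback jj).map i₂) g')
      (fun X g' => (rep_bc jj c g').trans ((hS _ (chk jj g')).trans (hisoS g')))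
      (fun X g' h => ((trS_iff _ _ g').mp h).1)
      (fun φ X₀ g₀ hne hS₀ hφ₀ X g h => transfer_S _ _ φ g₀ hne hS₀ hφ₀ g h)
      b₀

/-! ### Transporters are closed -/

theorem transp_closed_gen {S : Scheme.{u}} (G H : Over S) [GrpObj G] [GrpObj H] (i : H ⟶ G)
    (Y' : Over S) (hGfp : LocallyOfFinitePresentation G.hom) (hH : SGA3x.IsMultTypeFT H)
    (y' : Y' ⟶ G) (hy' : IsClosedImmersion y'.left)
    (hY'fp : LocallyOfFinitePresentation Y'.hom) :
    ∃ (C : Over S) (c : C ⟶ G), IsClosedImmersion c.left ∧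
      LocallyOfFinitePresentation C.hom ∧
      ∀ (X : Over S) (g : X ⟶ G), (∃ z : X ⟶ C, z ≫ c = g) ↔
        ∀ (X' : Over S) (x : X' ⟶ X) (h : X' ⟶ H), ∃ a' : X' ⟶ Y',
          (x ≫ g) * (h ≫ i) * (x ≫ g)⁻¹ = a' ≫ y' := by
  haveI := hGfp
  haveI := hy'
  haveI := hY'fp
  haveI : LocallyOfFinitePresentation y'.left := by
    haveI : LocallyOfFinitePresentation (y'.left ≫ G.hom) := by
      rw [Over.w y']
      exact hY'fp
    exact lfp_of_comp' y'.left G.hom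
  haveI hc : IsClosedImmersion (pbι (conjMap G H i) y').left := by
    show IsClosedImmersion (pullback.fst (conjMap G H i).left y'.left)
    infer_instance
  haveI hf : LocallyOfFinitePresentation (pbι (conjMap G H i) y').left := by
    show LocallyOfFinitePresentation (pullback.fst (conjMap G H i).left y'.left)
    infer_instance
  haveI : Mono (pbι (conjMap G H i) y').left := inferInstance
  obtain ⟨C, cι, hcc, hcfp, huniv⟩ := weil_closed hH (pbι (conjMap G H i) y')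
  haveI := hcfp
  refine ⟨Over.mk (cι ≫ G.hom), Over.homMk cι rfl, hcc, ?_, ?_⟩
  · show LocallyOfFinitePresentation (cι ≫ G.hom)
    infer_instance
  · intro X g
    refine (over_factor_iff cι g).trans ((huniv g.left).trans
      ((iso_iff_lift (pbι (conjMap G H i) y') g.left).trans
        ((lift_iff_pts (pbι (conjMap G H i) y') g).trans ?_)))
    refine forall_congr' (fun X' => forall_congr' (fun x => forall_congr' (fun h => ?_)))
    rw [pb_iff (conjMap G H i) y' (lift h (x ≫ g)), lift_conjMap]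

/-! ### The main theorems for a smooth separated group -/

section Main

variable {S : Scheme.{u}} (H₁ H₂ G : Over S) [GrpObj H₁] [GrpObj H₂] [GrpObj G]

theorem main5287' (hH₁ : SGA3x.IsMultTypeFT H₁) (hH₂ : SGA3x.IsMultTypeFT H₂)
    (hG : Smooth G.hom) [IsSeparated G.hom]
    (i₁ : H₁ ⟶ G) [IsMonHom i₁] [Mono i₁] (hc₁ : IsClosedImmersion i₁.left)
    (i₂ : H₂ ⟶ G) [IsMonHom i₂] [Mono i₂] (hc₂ : IsClosedImmersion i₂.left) :
    ∃ (T : Over S) (j : T ⟶ G), IsClosedImmersion j.left ∧ Smooth T.hom ∧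
      ∀ (X : Over S) (g : X ⟶ G), (∃ t : X ⟶ T, t ≫ j = g) ↔ TrS i₁ i₂ g := by
  haveI := hG
  have hGfp : LocallyOfFinitePresentation G.hom := inferInstance
  obtain ⟨C, c, hc, hCfp, huniv⟩ := transp_closed_gen G H₁ i₁ H₂ hGfp hH₁ i₂ hc₂
    (lfp_of_multType hH₂)
  obtain ⟨C', c', hc', hCfp', huniv'⟩ := transp_closed_gen G H₂ i₂ H₁ hGfp hH₂ i₁ hc₁
    (lfp_of_multType hH₁)
  haveI := hc
  haveI := hc'
  haveI := hCfp
  haveI := hCfp'
  haveI : LocallyOfFinitePresentation c'.left := by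
    haveI : LocallyOfFinitePresentation (c'.left ≫ G.hom) := by
      rw [Over.w c']
      exact hCfp'
    exact lfp_of_comp' c'.left G.hom
  have hrep : ∀ (X : Over S) (g : X ⟶ G),
      (∃ t : X ⟶ pbObj c⁻¹ c', t ≫ (pbι c⁻¹ c' ≫ c) = g) ↔ TrS i₁ i₂ g := by
    intro X g
    rw [trS_iff]
    constructor
    · rintro ⟨t, rfl⟩
      refine ⟨(huniv _ _).mp ⟨t ≫ pbι c⁻¹ c', Category.assoc _ _ _⟩, ?_⟩
      obtain ⟨a', ha'⟩ := (pb_iff c⁻¹ c' (t ≫ pbι c⁻¹ c')).mp ⟨t, rfl⟩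
      refine (huniv' _ _).mp ⟨a', ?_⟩
      rw [← ha', GrpObj.comp_inv, Category.assoc]
    · rintro ⟨h1, h2⟩
      obtain ⟨z, hz⟩ := (huniv _ _).mpr h1
      obtain ⟨a', ha'⟩ := (huniv' _ _).mpr h2
      obtain ⟨t, ht⟩ := (pb_iff c⁻¹ c' z).mpr ⟨a', by rw [GrpObj.comp_inv, hz, ha']⟩
      exact ⟨t, by rw [← Category.assoc, ht, hz]⟩
  have hjc : IsClosedImmersion (pbι c⁻¹ c' ≫ c).left := by
    show IsClosedImmersion (pullback.fst (c⁻¹).left c'.left ≫ c.left)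
    infer_instance
  refine ⟨pbObj c⁻¹ c', pbι c⁻¹ c' ≫ c, hjc, ?_, hrep⟩
  haveI : LocallyOfFinitePresentation (pbObj c⁻¹ c').hom := by
    show LocallyOfFinitePresentation (pullback.fst (c⁻¹).left c'.left ≫ C.hom)
    infer_instance
  exact smooth_of_local _ hH₁ hH₂ (fun Uo jj M₁ M₂ _ _ hM₁ hM₂ P₁ P₂ b₀ =>
    chart_smooth' i₁ i₂ hG jj hM₁ hM₂ P₁ P₂ (pbι c⁻¹ c' ≫ c) hjc (Or.inr hrep) b₀)

end Main

theorem main5248' {S : Scheme.{u}} (H G : Over S) [GrpObj H] [GrpObj G]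
    (hH : SGA3x.IsMultTypeFT H) (hG : Smooth G.hom) [IsSeparated G.hom] (i : H ⟶ G)
    [IsMonHom i] [Mono i] (hc : IsClosedImmersion i.left) :
    ∃ (N : Over S) (_ : GrpObj N) (j : N ⟶ G), Red.IsNormalizerOf i j ∧
      IsClosedImmersion j.left ∧ Smooth N.hom := by
  obtain ⟨T, j, hjc, hTs, huniv⟩ := main5287' H H G hH hH hG i hc i hc
  haveI := hjc
  haveI : Mono j.left := inferInstance
  haveI hmono : Mono j := mono_of_left_mono j
  have hz : ∀ (X : Over S) (g : X ⟶ G), (∃ z : X ⟶ T, z ≫ j = g) ↔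
      ∀ (X' : Over S) (x : X' ⟶ X) (h : X' ⟶ H),
        (∃ h' : X' ⟶ H, (x ≫ g) * (h ≫ i) * (x ≫ g)⁻¹ = h' ≫ i) ∧
        (∃ h' : X' ⟶ H, (x ≫ g)⁻¹ * (h ≫ i) * (x ≫ g) = h' ≫ i) := by
    intro X g
    refine (huniv X g).trans ?_
    constructor
    · intro H' X' x h
      exact ⟨(H' X' x).1 h, (H' X' x).2 h⟩
    · intro H' X' x
      exact ⟨fun h => (H' X' x h).1, fun h => (H' X' x h).2⟩
  obtain ⟨grp, hmon⟩ := exists_grpObj_of_pts j
    (fun T g => ∀ (X' : Over S) (x : X' ⟶ T) (h : X' ⟶ H),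
      (∃ h' : X' ⟶ H, (x ≫ g) * (h ≫ i) * (x ≫ g)⁻¹ = h' ≫ i) ∧
      (∃ h' : X' ⟶ H, (x ≫ g)⁻¹ * (h ≫ i) * (x ≫ g) = h' ≫ i))
    hz
    (by
      intro T X' x h
      rw [MonObj.comp_one]
      exact ⟨⟨h, by group⟩, ⟨h, by group⟩⟩)
    (by
      intro T g g' hg hg' X' x h
      rw [MonObj.comp_mul]
      constructor
      · obtain ⟨h₁, e₁⟩ := (hg' X' x h).1
        obtain ⟨h₂, e₂⟩ := (hg X' x h₁).1
        refine ⟨h₂, ?_⟩
        rw [← e₂, ← e₁]
        group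
      · obtain ⟨h₁, e₁⟩ := (hg X' x h).2
        obtain ⟨h₂, e₂⟩ := (hg' X' x h₁).2
        refine ⟨h₂, ?_⟩
        rw [← e₂, ← e₁]
        group)
    (by
      intro T g hg X' x h
      rw [GrpObj.comp_inv]
      constructor
      · obtain ⟨h', e⟩ := (hg X' x h).2
        exact ⟨h', by rw [_root_.inv_inv]; exact e⟩
      · obtain ⟨h', e⟩ := (hg X' x h).1
        exact ⟨h', by rw [_root_.inv_inv]; exact e⟩)
  exact ⟨T, grp, j, ⟨hmon, hmono, hz⟩, hjc, hTs⟩

/-- centralisers and normalisers of closed subtori of smooth groups. -/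
theorem main3006 (S : Scheme.{u}) (G Q : Over S) [GrpObj G] [GrpObj Q] [Smooth G.hom]
    (q : Q ⟶ G) [IsMonHom q] (hq : IsClosedImmersion q.left) (hQ : Red.IsTorus Q) :
    (∃ (Z : Over S) (_ : GrpObj Z) (z : Z ⟶ G), Red.IsCentralizerOf q z ∧
        IsClosedImmersion z.left ∧ Smooth Z.hom) ∧
      ∃ (N : Over S) (_ : GrpObj N) (n : N ⟶ G), Red.IsNormalizerOf q n ∧
        IsClosedImmersion n.left ∧ Smooth N.hom := by
  have hQm : SGA3x.IsMultTypeFT Q := isMultTypeFT_of_isTorus hQ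
  haveI := hq
  haveI : IsAffineHom Q.hom := affine_of_multType hQm
  haveI : IsSeparated Q.hom := inferInstance
  haveI hηQ : IsClosedImmersion (η[Q] : 𝟙_ (Over S) ⟶ Q).left := by
    haveI : IsClosedImmersion ((η[Q] : 𝟙_ (Over S) ⟶ Q).left ≫ Q.hom) := by
      rw [Over.w]
      show IsClosedImmersion (𝟙 S)
      infer_instance
    exact IsClosedImmersion.of_comp (η[Q] : 𝟙_ (Over S) ⟶ Q).left Q.hom
  have hη : (η[G] : 𝟙_ (Over S) ⟶ G) = η[Q] ≫ q := (IsMonHom.one_hom q).symm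
  have hηG : IsClosedImmersion (η[G] : 𝟙_ (Over S) ⟶ G).left := by
    rw [hη]
    show IsClosedImmersion ((η[Q] : 𝟙_ (Over S) ⟶ Q).left ≫ q.left)
    infer_instance
  haveI : IsSeparated G.hom := sep_of_unit_closed G hηG
  haveI : Mono q.left := inferInstance
  haveI : Mono q := mono_of_left_mono q
  exact ⟨main5247' hQm q, main5248' Q G hQm inferInstance q hq⟩

end Groth.Agent.Lib.MTNormH4
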