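import Mathlib

/-!
# Smooth morphisms have sections étale-locally (helper4)
-/

open AlgebraicGeometry CategoryTheory Limits Polynomial

universe u

set_option linter.style.haveILetI false

namespace Groth.Agent.Lib.SmoothSecH4

section Ring

/-- One variable, finite residue ring: a polynomial not vanishing modulo `p` is nonzero at a point
of a standard étale algebra lying over `p`. -/
theorem exists_etale_point_poly_of_finite {R : Type u} [CommRing R] (p : Ideal R) [p.IsPrime]
    [Finite (R ⧸ p)] (h : R[X]) (hh : h.map (Ideal.Quotient.mk p) ≠ 0) :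
    ∃ (E : Type u) (_ : CommRing E) (_ : Algebra R E), Algebra.Etale R E ∧
      ∃ (p₂ : Ideal E), p₂.IsPrime ∧ p₂.comap (algebraMap R E) = p ∧
        ∃ t : E, aeval t h ∉ p₂ := by
  classical
  haveI : p.IsMaximal :=
    Ideal.Quotient.maximal_of_isField p (Finite.isField_of_domain (R ⧸ p))
  letI : Field (R ⧸ p) := Ideal.Quotient.field p
  obtain ⟨ℓ, hℓ⟩ := CharP.exists (R ⧸ p)
  have hℓp : ℓ.Prime := CharP.char_is_prime (R ⧸ p) ℓ
  set hb : (R ⧸ p)[X] := h.map (Ideal.Quotient.mk p) with hb_def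
  set v : (R ⧸ p)[X] := X * hb with hv_def
  have hv0 : v ≠ 0 := mul_ne_zero X_ne_zero hh
  set F : (R ⧸ p)[X] := 1 + X * v ^ ℓ with hF_def
  have hdF : derivative F = v ^ ℓ := by
    rw [hF_def, derivative_add, derivative_one, zero_add, derivative_mul, derivative_X, one_mul,
      derivative_pow, CharP.cast_eq_zero (R ⧸ p) ℓ, map_zero, zero_mul, zero_mul, mul_zero,
      add_zero]
  have hF0 : F ≠ 0 := by
    intro h0
    have : derivative F = 0 := by rw [h0, derivative_zero]
    rw [hdF] at this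
    exact hv0 (pow_eq_zero_iff hℓp.ne_zero |>.mp this)
  have hFu : ¬ IsUnit F := by
    intro hu
    obtain ⟨r, -, hr⟩ := Polynomial.isUnit_iff.mp hu
    have : derivative F = 0 := by rw [← hr, derivative_C]
    rw [hdF] at this
    exact hv0 (pow_eq_zero_iff hℓp.ne_zero |>.mp this)
  obtain ⟨m, hm, hmF⟩ := WfDvdMonoid.exists_irreducible_factor hFu hF0
  have hmv : ¬ m ∣ v := by
    intro hdv
    have h1 : m ∣ X * v ^ ℓ := Dvd.dvd.mul_left (dvd_pow hdv hℓp.ne_zero) X
    have h2 : m ∣ (1 : (R ⧸ p)[X]) := by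
      have := dvd_sub hmF h1
      rwa [hF_def, add_sub_cancel_right] at this
    exact hm.not_isUnit (isUnit_of_dvd_one h2)
  have hmd : ¬ m ∣ derivative F := by
    rw [hdF]
    intro hd
    exact hmv (hm.prime.dvd_of_dvd_pow hd)
  have hmh : ¬ m ∣ hb := fun hd => hmv (Dvd.dvd.mul_left hd X)
  -- the monic version
  set lc := F.leadingCoeff with hlc
  have hlc0 : lc ≠ 0 := leadingCoeff_ne_zero.mpr hF0
  set Hb : (R ⧸ p)[X] := F * C lc⁻¹ with hHb_def
  have hHbm : Hb.Monic := monic_mul_leadingCoeff_inv hF0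
  have hmHb : m ∣ Hb := Dvd.dvd.mul_right hmF _
  have hmdHb : ¬ m ∣ derivative Hb := by
    rw [hHb_def, derivative_mul, derivative_C, mul_zero, add_zero]
    intro hd
    apply hmd
    have : derivative F = derivative F * C lc⁻¹ * C lc := by
      rw [mul_assoc, ← C_mul, inv_mul_cancel₀ hlc0, C_1, mul_one]
    rw [this]
    exact Dvd.dvd.mul_right hd _
  have hlifts : Hb ∈ Polynomial.lifts (Ideal.Quotient.mk p) := by
    rw [Polynomial.mem_lifts]
    exact Polynomial.map_surjective _ Ideal.Quotient.mk_surjective Hb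
  obtain ⟨H, hHmap, -, hHmonic⟩ := Polynomial.lifts_and_natDegree_eq_and_monic hlifts hHbm
  let P : StandardEtalePair R := ⟨H, hHmonic, derivative H, ⟨1, 0, 1, by ring⟩⟩
  haveI : Fact (Irreducible m) := ⟨hm⟩
  letI algL : Algebra R (AdjoinRoot m) :=
    ((algebraMap (R ⧸ p) (AdjoinRoot m)).comp (Ideal.Quotient.mk p)).toAlgebra
  have halg : algebraMap R (AdjoinRoot m) =
      (algebraMap (R ⧸ p) (AdjoinRoot m)).comp (Ideal.Quotient.mk p) := rfl
  have haeval : ∀ q : R[X], aeval (AdjoinRoot.root m) q =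
      AdjoinRoot.mk m (q.map (Ideal.Quotient.mk p)) := by
    intro q
    rw [aeval_def, halg, ← eval₂_map, ← aeval_def, AdjoinRoot.aeval_eq]
  have hmap : P.HasMap (AdjoinRoot.root m) := by
    refine ⟨?_, ?_⟩
    · change aeval (AdjoinRoot.root m) H = 0
      rw [haeval, hHmap, AdjoinRoot.mk_eq_zero]
      exact hmHb
    · change IsUnit (aeval (AdjoinRoot.root m) (derivative H))
      rw [haeval, ← derivative_map, hHmap]
      refine IsUnit.mk0 _ ?_
      rw [Ne, AdjoinRoot.mk_eq_zero]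
      exact hmdHb
  let χ : P.Ring →ₐ[R] AdjoinRoot m := P.lift (AdjoinRoot.root m) hmap
  have hχX : χ P.X = AdjoinRoot.root m := P.lift_X _ hmap
  refine ⟨P.Ring, inferInstance, inferInstance, inferInstance, RingHom.ker χ.toRingHom,
    RingHom.ker_isPrime _, ?_, P.X, ?_⟩
  · ext r
    rw [Ideal.mem_comap, RingHom.mem_ker]
    change χ (algebraMap R P.Ring r) = 0 ↔ _
    rw [AlgHom.commutes, halg, RingHom.comp_apply,
      map_eq_zero_iff _ (algebraMap (R ⧸ p) (AdjoinRoot m)).injective,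
      Ideal.Quotient.eq_zero_iff_mem]
  · rw [RingHom.mem_ker]
    change ¬ χ (aeval P.X h) = 0
    rw [← aeval_algHom_apply, hχX, haeval, AdjoinRoot.mk_eq_zero]
    exact hmh

/-- Several variables: a polynomial not vanishing modulo `p` is nonzero at some point, with values
in an étale `R`-algebra, lying over `p`. -/
theorem exists_etale_point_mvPoly {R : Type u} [CommRing R] (p : Ideal R) [p.IsPrime] {n : ℕ}
    (h : MvPolynomial (Fin n) R) (hh : MvPolynomial.map (Ideal.Quotient.mk p) h ≠ 0) :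
    ∃ (E : Type u) (_ : CommRing E) (_ : Algebra R E), Algebra.Etale R E ∧
      ∃ (p₂ : Ideal E), p₂.IsPrime ∧ p₂.comap (algebraMap R E) = p ∧
        ∃ t : Fin n → E, MvPolynomial.aeval t h ∉ p₂ := by
  rcases finite_or_infinite (R ⧸ p) with hfin | hinf
  · have hinj : Function.Injective (C : (R ⧸ p) →+* (R ⧸ p)[X]) := C_injective
    have h1 : MvPolynomial.map (C : (R ⧸ p) →+* (R ⧸ p)[X])
        (MvPolynomial.map (Ideal.Quotient.mk p) h) ≠ 0 := by
      intro h0
      exact hh (MvPolynomial.map_injective _ hinj (by rw [h0, map_zero]))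
    obtain ⟨gbar, hg⟩ : ∃ gbar : Fin n → (R ⧸ p)[X],
        MvPolynomial.eval gbar (MvPolynomial.map (C : (R ⧸ p) →+* (R ⧸ p)[X])
          (MvPolynomial.map (Ideal.Quotient.mk p) h)) ≠ 0 := by
      by_contra hcon
      push Not at hcon
      exact h1 (MvPolynomial.funext fun x => by rw [hcon x, map_zero])
    choose G hG using fun i =>
      Polynomial.map_surjective _ (Ideal.Quotient.mk_surjective (I := p)) (gbar i)
    have hh₁ : (MvPolynomial.aeval G h).map (Ideal.Quotient.mk p) =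
        MvPolynomial.eval gbar (MvPolynomial.map (C : (R ⧸ p) →+* (R ⧸ p)[X])
          (MvPolynomial.map (Ideal.Quotient.mk p) h)) := by
      rw [MvPolynomial.map_map, MvPolynomial.eval_map]
      change Polynomial.mapRingHom (Ideal.Quotient.mk p) (MvPolynomial.eval₂ _ G h) = _
      rw [MvPolynomial.eval₂_comp_left]
      congr 1
      · ext r
        simp
      · funext i
        exact hG i
    obtain ⟨E, _, _, hE, p₂, hp₂, hcomap, t₁, ht₁⟩ :=
      exists_etale_point_poly_of_finite p (MvPolynomial.aeval G h) (by rw [hh₁]; exact hg)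
    refine ⟨E, _, _, hE, p₂, hp₂, hcomap, fun i => aeval t₁ (G i), ?_⟩
    have : MvPolynomial.aeval (fun i => aeval t₁ (G i)) h = aeval t₁ (MvPolynomial.aeval G h) := by
      have := MvPolynomial.comp_aeval (f := G) (Polynomial.aeval (R := R) t₁)
      exact (AlgHom.congr_fun this h).symm
    rwa [this]
  · obtain ⟨cbar, hc⟩ : ∃ cbar : Fin n → R ⧸ p,
        MvPolynomial.eval cbar (MvPolynomial.map (Ideal.Quotient.mk p) h) ≠ 0 := by
      by_contra hcon
      push Not at hcon
      exact hh (MvPolynomial.funext fun x => by rw [hcon x, map_zero])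
    choose c hc' using fun i => Ideal.Quotient.mk_surjective (I := p) (cbar i)
    refine ⟨R, inferInstance, inferInstance, inferInstance, p, ‹_›, ?_, c, ?_⟩
    · ext r
      simp
    · intro hmem
      apply hc
      rw [MvPolynomial.eval_map]
      have h2 : Ideal.Quotient.mk p (MvPolynomial.aeval c h) = 0 :=
        Ideal.Quotient.eq_zero_iff_mem.mpr hmem
      rw [← h2]
      change _ = Ideal.Quotient.mk p (MvPolynomial.eval₂ _ c h)
      rw [MvPolynomial.eval₂_comp_left]
      congr 1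
      funext i
      exact (hc' i).symm

end Ring

section Scheme

set_option maxHeartbeats 1600000 in
theorem main0412 {X S : Scheme.{u}} (f : X ⟶ S) [Smooth f] (s : S) (hs : s ∈ Set.range f) :
    ∃ (S' : Scheme.{u}) (g : S' ⟶ S) (s' : S'), Etale g ∧ g s' = s ∧
      ∃ h : S' ⟶ X, h ≫ f = g := by
  obtain ⟨x, rfl⟩ := hs
  obtain ⟨U, hU, V, hV, hxV, e, hstd⟩ := Smooth.exists_isStandardSmooth f x
  obtain ⟨n, g, hgC, hgE⟩ := hstd.exists_etale_mvPolynomial
  let gS : Spec Γ(X, V) ⟶ Spec (CommRingCat.of (MvPolynomial (Fin n) Γ(S, U))) :=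
    Spec.map (CommRingCat.ofHom g)
  haveI : Etale gS := HasRingHomProperty.Spec_iff.mpr hgE
  let cS : Spec (CommRingCat.of (MvPolynomial (Fin n) Γ(S, U))) ⟶ Spec Γ(S, U) :=
    Spec.map (CommRingCat.ofHom (MvPolynomial.C : Γ(S, U) →+* MvPolynomial (Fin n) Γ(S, U)))
  have hgc : gS ≫ cS = Spec.map (f.appLE U V e) := by
    rw [← Spec.map_comp]
    congr 1
    ext1
    exact hgC
  let x₀ : Spec Γ(X, V) := hV.primeIdealOf ⟨x, hxV⟩
  have hx₀ : hV.fromSpec x₀ = x := hV.fromSpec_primeIdealOf ⟨x, hxV⟩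
  have hopen : IsOpen (Set.range gS) := gS.isOpenMap.isOpen_range
  obtain ⟨_, ⟨h, rfl⟩, hyh, hsub⟩ :=
    PrimeSpectrum.isTopologicalBasis_basic_opens.exists_subset_of_mem_open
      (Set.mem_range_self x₀) hopen
  set y := gS x₀ with hy
  have hhy : h ∉ y.asIdeal := hyh
  let p : Ideal Γ(S, U) := Ideal.comap (MvPolynomial.C) y.asIdeal
  haveI : p.IsPrime := Ideal.comap_isPrime _ _
  have hhp : MvPolynomial.map (Ideal.Quotient.mk p) h ≠ 0 := by
    intro h0
    have hk : h ∈ RingHom.ker (MvPolynomial.map (Ideal.Quotient.mk p) :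
        MvPolynomial (Fin n) Γ(S, U) →+* _) := h0
    rw [MvPolynomial.ker_map, Ideal.mk_ker] at hk
    exact hhy (Ideal.map_comap_le hk)
  obtain ⟨E, _, _, hE, p₂, hp₂, hcomap, t, ht⟩ := exists_etale_point_mvPoly p h hhp
  let σ : MvPolynomial (Fin n) Γ(S, U) →+* E :=
    (MvPolynomial.aeval t : MvPolynomial (Fin n) Γ(S, U) →ₐ[Γ(S, U)] E).toRingHom
  let σS : Spec (CommRingCat.of E) ⟶ Spec (CommRingCat.of (MvPolynomial (Fin n) Γ(S, U))) :=
    Spec.map (CommRingCat.ofHom σ)
  let aS : Spec (CommRingCat.of E) ⟶ Spec Γ(S, U) :=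
    Spec.map (CommRingCat.ofHom (algebraMap Γ(S, U) E))
  haveI : Etale aS := HasRingHomProperty.Spec_iff.mpr (RingHom.etale_algebraMap.mpr hE)
  have hσc : σS ≫ cS = aS := by
    rw [← Spec.map_comp]
    congr 1
    ext r
    simp [σ]
  let u₂ : Spec (CommRingCat.of E) := ⟨p₂, hp₂⟩
  have hu₂ : σS u₂ ∈ Set.range gS := by
    apply hsub
    change h ∉ Ideal.comap σ p₂
    exact ht
  obtain ⟨x₁, hx₁⟩ := hu₂
  obtain ⟨z, hz1, hz2⟩ :=
    Scheme.Pullback.exists_preimage_pullback (f := gS) (g := σS) x₁ u₂ hx₁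
  have hau₂ : aS u₂ = cS y := by
    apply PrimeSpectrum.ext
    exact hcomap
  have hcy : hU.fromSpec (cS y) = f x := by
    have h1 : cS y = (Spec.map (f.appLE U V e)) x₀ := by
      rw [← hgc]
      rfl
    rw [h1]
    change (Spec.map (f.appLE U V e) ≫ hU.fromSpec) x₀ = _
    rw [IsAffineOpen.SpecMap_appLE_fromSpec f hU hV e]
    change f (hV.fromSpec x₀) = _
    rw [hx₀]
  refine ⟨pullback gS σS, pullback.snd gS σS ≫ aS ≫ hU.fromSpec, z, inferInstance, ?_,
    pullback.fst gS σS ≫ hV.fromSpec, ?_⟩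
  · change hU.fromSpec (aS (pullback.snd gS σS z)) = f x
    rw [hz2, hau₂, hcy]
  · rw [Category.assoc, ← IsAffineOpen.SpecMap_appLE_fromSpec f hU hV e, ← hgc, Category.assoc,
      ← Category.assoc (pullback.fst _ _), pullback.condition, Category.assoc,
      ← Category.assoc σS, hσc]

end Scheme

end Groth.Agent.Lib.SmoothSecH4
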