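import Mathlib
import Groth.Prelude
import Groth.Agent.Lib.MTN6_helper4
import Groth.Agent.Lib.SmoothSec_helper4

/-!
# Conjugacy locally for the etale topology (helper4)

Homomorphisms from / subgroups of multiplicative type of a smooth affine group which are conjugate on
geometric fibres are conjugate locally for the etale topology: the transporters are smooth, and
smooth morphisms have sections etale locally.
-/

set_option backward.isDefEq.respectTransparency.types false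
set_option autoImplicit false
set_option linter.unusedVariables false
set_option linter.unusedTactic false
set_option linter.unreachableTactic false
set_option linter.unusedSectionVars false
set_option linter.style.haveILetI false
set_option linter.deprecated false
set_option linter.unusedSimpArgs false
set_option linter.style.longLine false
set_option maxHeartbeats 1600000

universe u

open CategoryTheory CategoryTheory.Limits MonoidalCategory CartesianMonoidalCategory MonObj GrpObj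
  AlgebraicGeometry Opposite TensorProduct

namespace Groth.Agent.Lib.EtConjH4

open Groth.Agent.Lib.RedDictH8 Groth.Agent.Lib.DSDict Groth.Agent.Lib.MultGa
  Groth.Agent.Lib.MultTrivH4 Groth.Agent.Lib.ConnActH4 Groth.Agent.Lib.TwConstFinH4
  Groth.Agent.Lib.MTHomH4 Groth.Agent.Lib.TorusQuotH4 Groth.Agent.Lib.KerTrivH4
  Groth.Agent.Lib.MTWeilH4 Groth.Agent.Lib.MTSmH4 Groth.Agent.Lib.MTNormH4

/-- a smooth `S`-scheme with a point over the geometric point at `s` has a section over an etale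
neighbourhood of `s`. -/
theorem exists_etale_section {S : Scheme.{u}} (T : Over S) [Smooth T.hom] (s : S)
    (g₀ : Over.mk (Red.geomPt s) ⟶ T) :
    ∃ (S' : Scheme.{u}) (f : S' ⟶ S), Etale f ∧ s ∈ Set.range f.base ∧
      Nonempty ((Over.map f).obj (𝟙_ (Over S')) ⟶ T) := by
  have hs : s ∈ Set.range T.hom := by
    obtain ⟨z⟩ : Nonempty (Spec (CommRingCat.of (AlgebraicClosure (S.residueField s)))) :=
      inferInstance
    have h1 : g₀.left ≫ T.hom = Red.geomPt s := Over.w g₀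
    have h2 : (g₀.left ≫ T.hom).base z = s := by
      rw [h1]
      exact geomPt_base z
    exact ⟨g₀.left.base z, h2⟩
  obtain ⟨S', e, s', he, hes, hh, hhe⟩ := Groth.Agent.Lib.SmoothSecH4.main0412 T.hom s hs
  refine ⟨S', e, he, ⟨s', hes⟩, ⟨Over.homMk hh ?_⟩⟩
  show hh ≫ T.hom = 𝟙 S' ≫ e
  rw [hhe, Category.id_comp]

section BC

variable {S S' : Scheme.{u}} (e : S' ⟶ S)

theorem chk_post5 {X Y : Over S} (φ : X ⟶ Y) {T' : Over S'} (x' : T' ⟶ Red.bc e X) :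
    chk e (x' ≫ (Over.pullback e).map φ) = chk e x' ≫ φ := by
  unfold chk
  simp only [Functor.map_comp, Category.assoc, eps_nat]

theorem chk_bcmap {X Y : Over S} (φ : X ⟶ Y) :
    chk e ((Over.pullback e).map φ) = chk e (𝟙 (Red.bc e X)) ≫ φ := by
  rw [← chk_post5, Category.id_comp]

/-- transport of a conjugation identity between homomorphisms to the base change. -/
theorem conj_bc {H G : Over S} [GrpObj G] (u₁ u₂ : H ⟶ G)
    (gS : (Over.map e).obj (𝟙_ (Over S')) ⟶ G)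
    (hg : ∀ (X' : Over S) (x : X' ⟶ (Over.map e).obj (𝟙_ (Over S'))) (h : X' ⟶ H),
      (x ≫ gS) * (h ≫ u₁) * (x ≫ gS)⁻¹ = h ≫ u₂)
    (X : Over S') (h : X ⟶ Red.bc e H) :
    h ≫ (Over.pullback e).map u₂ =
      (toUnit X ≫ unchk e gS) * (h ≫ (Over.pullback e).map u₁) * (toUnit X ≫ unchk e gS)⁻¹ := by
  apply chk_inj4
  rw [chk_conj, chk_post5, chk_post5, chk_comp, chk_unchk]
  exact (hg _ ((Over.map e).map (toUnit X)) (chk e h)).symm

/-- transport of a strict conjugation of subgroups to the base change. -/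
theorem conjBy_bc {H₁ H₂ G : Over S} [GrpObj G] (i₁ : H₁ ⟶ G) (i₂ : H₂ ⟶ G) [Mono i₁] [Mono i₂]
    (gS : (Over.map e).obj (𝟙_ (Over S')) ⟶ G) (hg : TrS i₁ i₂ gS) :
    SGA3x.ConjBy ((Over.pullback e).map i₁) ((Over.pullback e).map i₂) (unchk e gS) := by
  obtain ⟨h₂, e₂⟩ := (hg _ ((Over.map e).map (toUnit (Red.bc e H₁)))).1 (chk e (𝟙 (Red.bc e H₁)))
  obtain ⟨h₁, e₁⟩ := (hg _ ((Over.map e).map (toUnit (Red.bc e H₂)))).2 (chk e (𝟙 (Red.bc e H₂)))
  have hA : (toUnit (Red.bc e H₁) ≫ unchk e gS) * (Over.pullback e).map i₁ *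
      (toUnit (Red.bc e H₁) ≫ unchk e gS)⁻¹ = unchk e h₂ ≫ (Over.pullback e).map i₂ := by
    apply chk_inj4
    rw [chk_conj, chk_post5, chk_unchk e h₂, chk_comp, chk_unchk e gS, chk_bcmap]
    exact e₂
  have hB : (toUnit (Red.bc e H₂) ≫ unchk e gS)⁻¹ * (Over.pullback e).map i₂ *
      (toUnit (Red.bc e H₂) ≫ unchk e gS) = unchk e h₁ ≫ (Over.pullback e).map i₁ := by
    apply chk_inj4
    rw [chk_mul, chk_mul, chk_inv', chk_post5, chk_unchk e h₁, chk_comp, chk_unchk e gS,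
      chk_bcmap]
    exact e₁
  haveI hmono₁ : Mono ((Over.pullback e).map i₁) := inferInstance
  haveI hmono₂ : Mono ((Over.pullback e).map i₂) := inferInstance
  have h3 : unchk e h₂ ≫ toUnit (Red.bc e H₂) ≫ unchk e gS =
      toUnit (Red.bc e H₁) ≫ unchk e gS := by
    rw [← Category.assoc, toUnit_unique (unchk e h₂ ≫ toUnit (Red.bc e H₂)) (toUnit _)]
  have h4 : unchk e h₁ ≫ toUnit (Red.bc e H₁) ≫ unchk e gS =
      toUnit (Red.bc e H₂) ≫ unchk e gS := by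
    rw [← Category.assoc, toUnit_unique (unchk e h₁ ≫ toUnit (Red.bc e H₁)) (toUnit _)]
  refine ⟨⟨unchk e h₂, unchk e h₁, ?_, ?_⟩, hA⟩
  · rw [← cancel_mono ((Over.pullback e).map i₁), Category.assoc, ← hB, Category.id_comp,
      MonObj.comp_mul, MonObj.comp_mul, GrpObj.comp_inv, h3, ← hA]
    group
  · rw [← cancel_mono ((Over.pullback e).map i₂), Category.assoc, ← hA, Category.id_comp,
      MonObj.comp_mul, MonObj.comp_mul, GrpObj.comp_inv, h4, ← hB]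
    group

end BC

/-- homomorphisms conjugate at the geometric point over `s` are conjugate over an etale
neighbourhood of `s`. -/
theorem conj_hom_at {S : Scheme.{u}} (H G : Over S) [GrpObj H] [GrpObj G]
    (hH : SGA3x.IsMultTypeFT H) (hG : Smooth G.hom) (hGa : IsAffineHom G.hom)
    (u₁ u₂ : H ⟶ G) [IsMonHom u₁] [IsMonHom u₂] (s : S)
    (hgeom : ∃ g : Over.mk (Red.geomPt s) ⟶ G,
      ∀ (X : Over S) (p : X ⟶ Over.mk (Red.geomPt s)) (h : X ⟶ H),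
        h ≫ u₂ = (p ≫ g) * (h ≫ u₁) * (p ≫ g)⁻¹) :
    ∃ (S' : Scheme.{u}) (f : S' ⟶ S), Etale f ∧ s ∈ Set.range f.base ∧
      ∃ g : 𝟙_ (Over S') ⟶ Red.bc f G, ∀ (X : Over S') (h : X ⟶ Red.bc f H),
        h ≫ (Over.pullback f).map u₂ =
          (toUnit X ≫ g) * (h ≫ (Over.pullback f).map u₁) * (toUnit X ≫ g)⁻¹ := by
  haveI := hG
  haveI := hGa
  haveI : IsSeparated G.hom := inferInstance
  obtain ⟨T, j, hjc, hTs, hT⟩ := main5257' u₁ u₂ hH
  haveI := hTs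
  obtain ⟨g₀, hg₀⟩ := hgeom
  obtain ⟨t₀, ht₀⟩ := (hT _ g₀).mpr (fun X' x h => (hg₀ X' x h).symm)
  obtain ⟨S', e, he, hs, ⟨tS⟩⟩ := exists_etale_section T s t₀
  refine ⟨S', e, he, hs, unchk e (tS ≫ j), fun X h => ?_⟩
  exact conj_bc e u₁ u₂ (tS ≫ j) ((hT _ (tS ≫ j)).mp ⟨tS, rfl⟩) X h

theorem main5305 {S : Scheme.{u}} (H G : Over S) [GrpObj H] [GrpObj G]
    (hH : SGA3x.IsMultTypeFT H) (hG : Smooth G.hom) (hGa : IsAffineHom G.hom)
    (u₁ u₂ : H ⟶ G) [IsMonHom u₁] [IsMonHom u₂]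
    (hgeom : ∀ s : S, ∃ g : Over.mk (Red.geomPt s) ⟶ G,
      ∀ (X : Over S) (p : X ⟶ Over.mk (Red.geomPt s)) (h : X ⟶ H),
        h ≫ u₂ = (p ≫ g) * (h ≫ u₁) * (p ≫ g)⁻¹) :
    TwC.Locally S TwC.Topology.etale (fun S' f => ∃ g : 𝟙_ (Over S') ⟶ Red.bc f G,
      ∀ (X : Over S') (h : X ⟶ Red.bc f H),
        h ≫ (Over.pullback f).map u₂ =
          (toUnit X ≫ g) * (h ≫ (Over.pullback f).map u₁) * (toUnit X ≫ g)⁻¹) :=
  fun s => conj_hom_at H G hH hG hGa u₁ u₂ s (hgeom s)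

/-- subgroups of multiplicative type conjugate at the geometric point over `s` are conjugate over an
etale neighbourhood of `s`. -/
theorem main16776 {S : Scheme.{u}} (H₁ H₂ G : Over S) [GrpObj H₁] [GrpObj H₂] [GrpObj G]
    (h₁ : SGA3x.IsMultTypeFT H₁) (h₂ : SGA3x.IsMultTypeFT H₂) (hG : Smooth G.hom)
    (hGa : IsAffineHom G.hom)
    (i₁ : H₁ ⟶ G) [IsMonHom i₁] [Mono i₁] (i₂ : H₂ ⟶ G) [IsMonHom i₂] [Mono i₂] (s : S)
    (hs : ∃ g : Over.mk (Red.geomPt s) ⟶ G, ∀ (X : Over S) (p : X ⟶ Over.mk (Red.geomPt s)),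
      (∀ a : X ⟶ H₁, ∃ b : X ⟶ H₂, (p ≫ g) * (a ≫ i₁) * (p ≫ g)⁻¹ = b ≫ i₂) ∧
      (∀ b : X ⟶ H₂, ∃ a : X ⟶ H₁, (p ≫ g)⁻¹ * (b ≫ i₂) * (p ≫ g) = a ≫ i₁)) :
    ∃ (S' : Scheme.{u}) (e : S' ⟶ S), Etale e ∧ s ∈ Set.range e.base ∧
      ∃ g : 𝟙_ (Over S') ⟶ Red.bc e G,
        SGA3x.ConjBy ((Over.pullback e).map i₁) ((Over.pullback e).map i₂) g := by
  haveI := hG
  obtain ⟨T, j, hjc, hTs, hT⟩ := main5287 H₁ H₂ G h₁ h₂ hG hGa i₁ i₂
  haveI := hTs
  obtain ⟨g₀, hg₀⟩ := hs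
  obtain ⟨t₀, ht₀⟩ := (hT _ g₀).mpr (fun X' x => hg₀ X' x)
  obtain ⟨S', e, he, hs', ⟨tS⟩⟩ := exists_etale_section T s t₀
  exact ⟨S', e, he, hs', unchk e (tS ≫ j),
    conjBy_bc e i₁ i₂ (tS ≫ j) ((hT _ (tS ≫ j)).mp ⟨tS, rfl⟩)⟩

theorem main5306 {S : Scheme.{u}} (H₁ H₂ G : Over S) [GrpObj H₁] [GrpObj H₂] [GrpObj G]
    (h₁ : SGA3x.IsMultTypeFT H₁) (h₂ : SGA3x.IsMultTypeFT H₂) (hG : Smooth G.hom)
    (hGa : IsAffineHom G.hom)
    (i₁ : H₁ ⟶ G) [IsMonHom i₁] [Mono i₁] (i₂ : H₂ ⟶ G) [IsMonHom i₂] [Mono i₂]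
    (hgeom : ∀ s : S, ∃ g : Over.mk (Red.geomPt s) ⟶ G,
      ∀ (X : Over S) (p : X ⟶ Over.mk (Red.geomPt s)),
        (∀ a : X ⟶ H₁, ∃ b : X ⟶ H₂, (p ≫ g) * (a ≫ i₁) * (p ≫ g)⁻¹ = b ≫ i₂) ∧
        (∀ b : X ⟶ H₂, ∃ a : X ⟶ H₁, (p ≫ g)⁻¹ * (b ≫ i₂) * (p ≫ g) = a ≫ i₁)) :
    TwC.Locally S TwC.Topology.etale (fun S' f => ∃ g : 𝟙_ (Over S') ⟶ Red.bc f G,
      SGA3x.ConjBy ((Over.pullback f).map i₁) ((Over.pullback f).map i₂) g) :=
  fun s => main16776 H₁ H₂ G h₁ h₂ hG hGa i₁ i₂ s (hgeom s)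

end Groth.Agent.Lib.EtConjH4
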