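import Mathlib
import Groth.Agent.Lib.EtCons_lead

/-!
# Constructible abelian étale sheaves: inverse image (lead)
-/

set_option autoImplicit false
set_option linter.unusedSimpArgs false
set_option linter.unusedVariables false
set_option linter.unusedSectionVars false
set_option linter.style.longLine false
set_option linter.unnecessarySimpa false
set_option maxHeartbeats 1600000
set_option backward.isDefEq.respectTransparency false
set_option backward.isDefEq.respectTransparency.types false
set_option backward.defeqAttrib.useBackward true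

open CategoryTheory CategoryTheory.Limits AlgebraicGeometry Opposite Topology TopologicalSpace

namespace Groth.Agent.Lib.EtCons

open Groth.Agent.Lib.EtPull

universe u

theorem strat_pull_affine {X Y : Scheme.{u}} (f : X ⟶ Y) (F : EtCoh.Ab Y) (W : X.Opens)
    (hW : IsAffineOpen W) (V : Y.Opens) (hV : IsAffineOpen V) (e : W ≤ f ⁻¹ᵁ V)
    (h : Strat (PF F) (V : Set Y)) : Strat (PF ((EtCoh.pull f).obj F)) (W : Set X) := by
  obtain ⟨ι, hι, T, g, hgi, hgc, hgd, hgu, hgP⟩ := h
  haveI := hι
  haveI : ∀ i, IsImmersion (g i) := hgi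
  haveI : IsAffine W.toScheme := hW
  haveI : IsAffine V.toScheme := hV
  let φ : W.toScheme ⟶ V.toScheme := f.resLE V W e
  haveI : QuasiCompact φ := inferInstance
  have hφ : ∀ x : W.toScheme, V.ι (φ x) = f (W.ι x) := by
    intro x
    rw [← Scheme.Hom.comp_apply, ← Scheme.Hom.comp_apply, Scheme.Hom.resLE_comp_ι]
  have hr : ∀ i, Set.range (pullback.snd (g i) (W.ι ≫ f) ≫ W.ι) =
      W.ι '' (φ ⁻¹' (V.ι ⁻¹' Set.range (g i))) := by
    intro i
    rw [range_comp_eq, Scheme.Pullback.range_snd]
    congr 1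
    ext x
    simp only [Set.mem_preimage, Scheme.Hom.comp_apply, hφ]
  refine ⟨ι, inferInstance, fun i => pullback (g i) (W.ι ≫ f),
    fun i => pullback.snd (g i) (W.ι ≫ f) ≫ W.ι, fun i => inferInstance, ?_, ?_, ?_, ?_⟩
  · intro i
    rw [hr]
    have hB : Topology.IsConstructible (φ ⁻¹' (V.ι ⁻¹' Set.range (g i))) := by
      have h0 : Topology.IsConstructible (V.ι ⁻¹' Set.range (g i)) := hgc i
      exact h0.preimage φ.continuous (fun s hso hsr =>
        (QuasiCompact.isCompact_preimage (f := φ) s hso hsr.isCompact).isRetrocompact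
          (hso.preimage φ.continuous))
    have := Set.preimage_image_eq (φ ⁻¹' (V.ι ⁻¹' Set.range (g i)))
      W.ι.isOpenEmbedding.injective
    show Topology.IsConstructible (W.ι ⁻¹' (W.ι '' _))
    rw [this]
    exact hB
  · intro i k hik
    show Disjoint (Set.range (pullback.snd (g i) (W.ι ≫ f) ≫ W.ι))
      (Set.range (pullback.snd (g k) (W.ι ≫ f) ≫ W.ι))
    rw [hr i, hr k]
    exact (Set.disjoint_image_iff W.ι.isOpenEmbedding.injective).mpr
      (((hgd hik).preimage _).preimage _)
  · rw [Set.iUnion_congr hr, ← Set.image_iUnion, ← Set.preimage_iUnion, ← Set.preimage_iUnion, hgu]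
    have : V.ι ⁻¹' (V : Set Y) = Set.univ := by
      ext x
      simp only [Set.mem_preimage, Set.mem_univ, iff_true]
      exact x.2
    rw [this, Set.preimage_univ, Set.image_univ, Scheme.Opens.range_ι]
  · intro i
    exact flc_of_iso ((pullComp f (pullback.snd (g i) (W.ι ≫ f) ≫ W.ι)).app F).symm
      (flc_pull_of_fac (g i) F (pullback.fst (g i) (W.ι ≫ f))
        ((pullback.snd (g i) (W.ι ≫ f) ≫ W.ι) ≫ f)
        (by rw [Category.assoc]; exact pullback.condition) (hgP i))

theorem main27 {X Y : Scheme.{u}} (f : X ⟶ Y) (F : EtCoh.Ab Y)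
    (hF : EtPBC.IsConstructible F) : EtPBC.IsConstructible ((EtCoh.pull f).obj F) := by
  intro W hW
  rw [adapted_iff]
  haveI : QuasiSeparatedSpace (W : Set X) :=
    (isQuasiSeparated_iff_quasiSeparatedSpace _ W.isOpen).mp hW.isQuasiSeparated
  obtain ⟨s, hs⟩ := exists_affine_refinement hW.isCompact W.isOpen
    (fun V : Y.affineOpens => f ⁻¹' ((V : Y.Opens) : Set Y))
    (fun V => V.1.isOpen.preimage f.continuous) (by
      intro x _
      obtain ⟨_, ⟨V, hV, rfl⟩, hxV, -⟩ := Y.isBasis_affineOpens.exists_subset_of_mem_open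
        (Set.mem_univ (f x)) isOpen_univ
      exact Set.mem_iUnion.mpr ⟨⟨V, hV⟩, hxV⟩)
  refine Strat.glue' (stable_PF _) (W : Set X) (fun V : s => ((V.1.1 : X.Opens) : Set X))
    (fun V => V.1.1.1.isOpen) (fun V => V.1.1.2.isCompact) ?_ ?_
  · apply Set.Subset.antisymm
    · exact Set.iUnion_subset fun V => V.1.2.1
    · intro x hx
      obtain ⟨V, hVs, hxV⟩ := Set.mem_iUnion₂.mp (hs hx)
      exact Set.mem_iUnion.mpr ⟨⟨V, hVs⟩, hxV⟩
  · intro V
    obtain ⟨V₀, hV₀⟩ := V.1.2.2
    exact strat_pull_affine f F V.1.1.1 V.1.1.2 V₀.1 V₀.2 hV₀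
      ((adapted_iff _ _).mp (hF V₀.1 V₀.2))

end Groth.Agent.Lib.EtCons
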