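import Mathlib
import Groth.Agent.Lib.EtCons_lead

/-!
# Constructible abelian étale sheaves: constructible strata (lead)
-/

set_option autoImplicit false
set_option linter.unusedSimpArgs false
set_option linter.unusedVariables false
set_option linter.unusedSectionVars false
set_option linter.style.longLine false
set_option linter.unnecessarySimpa false
set_option maxHeartbeats 1600000
set_option backward.isDefEq.respectTransparency false
set_option backward.isDefEq.respectTransparency.types false
set_option backward.defeqAttrib.useBackward true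

open CategoryTheory CategoryTheory.Limits AlgebraicGeometry Opposite Topology TopologicalSpace

namespace Groth.Agent.Lib.EtCons

open Groth.Agent.Lib.EtPull

universe u

section Top2

variable {X : Type*} [TopologicalSpace X]

theorem isCompact_of_isConstructible [CompactSpace X] [QuasiSeparatedSpace X] [PrespectralSpace X]
    {s : Set X} (hs : Topology.IsConstructible s) : IsCompact s := by
  haveI : Nonempty {U : Set X // IsOpen U ∧ IsCompact U} :=
    ⟨⟨∅, isOpen_empty, isCompact_empty⟩⟩
  refine Topology.IsConstructible.induction_of_isTopologicalBasis (P := fun s _ => IsCompact s)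
    (fun U : {U : Set X // IsOpen U ∧ IsCompact U} => U.1) ?_ (fun U => U.2.2) ?_ ?_ s hs
  · rw [Subtype.range_coe_subtype]
    exact PrespectralSpace.isTopologicalBasis
  · intro i t ht
    exact i.2.2.diff (isOpen_biUnion fun j _ => j.2.1)
  · intro s _ t _ h1 h2
    exact h1.union h2

/-- `C` is determined by finitely many compact opens. -/
def Det (C : Set X) : Prop :=
  ∃ (γ : Type) (_ : Finite γ) (U : γ → Set X), (∀ c, IsOpen (U c) ∧ IsCompact (U c)) ∧
    ∀ x y, (∀ c, x ∈ U c ↔ y ∈ U c) → (x ∈ C ↔ y ∈ C)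

theorem det_of_isConstructible [CompactSpace X] {C : Set X}
    (hC : Topology.IsConstructible C) : Det C := by
  induction hC using Topology.IsConstructible.empty_union_induction with
  | open_retrocompact U hUo hUc =>
    exact ⟨Unit, inferInstance, fun _ => U, fun _ => ⟨hUo, hUc.isCompact⟩, fun x y h => h ()⟩
  | union s hs t ht h1 h2 =>
    obtain ⟨γ, hγ, U, hU, hdet⟩ := h1
    obtain ⟨γ', hγ', U', hU', hdet'⟩ := h2
    haveI := hγ
    haveI := hγ'
    refine ⟨γ ⊕ γ', inferInstance, Sum.elim U U', ?_, ?_⟩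
    · rintro (c | c)
      · exact hU c
      · exact hU' c
    · intro x y h
      have e1 := hdet x y (fun c => h (Sum.inl c))
      have e2 := hdet' x y (fun c => h (Sum.inr c))
      simp only [Set.mem_union, e1, e2]
  | compl s hs h1 =>
    obtain ⟨γ, hγ, U, hU, hdet⟩ := h1
    exact ⟨γ, hγ, U, hU, fun x y h => by simp only [Set.mem_compl_iff, hdet x y h]⟩

theorem exists_partition [CompactSpace X] [QuasiSeparatedSpace X] {N : Type*} [Finite N]
    (D : N → Set X) (hD : ∀ a, Topology.IsConstructible (D a))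
    (hcov : (⋃ a, D a) = Set.univ) :
    ∃ (n : ℕ) (A : Fin n → Set X), (∀ b, IsLocallyClosed (A b)) ∧
      (∀ b, Topology.IsConstructible (A b)) ∧ Pairwise (fun b b' => Disjoint (A b) (A b')) ∧
      (⋃ b, A b) = Set.univ ∧ ∀ b, ∃ a, A b ⊆ D a := by
  classical
  choose γ hγ U hU hdet using fun a => det_of_isConstructible (hD a)
  haveI := hγ
  let V : (Σ a, γ a) → Set X := fun c => U c.1 c.2
  have hV : ∀ c, IsOpen (V c) ∧ IsCompact (V c) := fun c => hU c.1 c.2
  let pat : X → Set (Σ a, γ a) := fun x => {c | x ∈ V c}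
  let atom : Set (Σ a, γ a) → Set X := fun S => {x | pat x = S}
  have hatom : ∀ S, atom S = (⋂ c ∈ S, V c) ∩ (⋂ c ∈ Sᶜ, (V c)ᶜ) := by
    intro S
    ext x
    simp only [atom, pat, Set.mem_setOf_eq, Set.mem_inter_iff, Set.mem_iInter,
      Set.mem_compl_iff]
    constructor
    · intro h
      refine ⟨fun c hc => ?_, fun c hc hx => hc ?_⟩
      · rw [← h] at hc
        exact hc
      · rw [← h]
        exact hx
    · rintro ⟨h1, h2⟩
      ext c
      constructor
      · intro hx
        by_contra hc
        exact h2 c hc hx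
      · intro hc
        exact h1 c hc
  obtain ⟨n, ⟨e⟩⟩ := Finite.exists_equiv_fin {S : Set (Σ a, γ a) // (atom S).Nonempty}
  refine ⟨n, fun b => atom (e.symm b).1, ?_, ?_, ?_, ?_, ?_⟩
  · intro b
    show IsLocallyClosed (atom (e.symm b).1)
    rw [hatom]
    exact (Set.Finite.isOpen_biInter (Set.toFinite _) fun c _ => (hV c).1).isLocallyClosed.inter
      (isClosed_biInter fun c _ => (hV c).1.isClosed_compl).isLocallyClosed
  · intro b
    show Topology.IsConstructible (atom (e.symm b).1)
    rw [hatom]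
    exact (Topology.IsConstructible.biInter (Set.toFinite _)
        fun c _ => (hV c).2.isConstructible (hV c).1).inter
      (Topology.IsConstructible.biInter (Set.toFinite _)
        fun c _ => ((hV c).2.isConstructible (hV c).1).compl)
  · intro b b' hne
    rw [Set.disjoint_left]
    intro x hx hx'
    have h1 : pat x = (e.symm b).1 := hx
    have h2 : pat x = (e.symm b').1 := hx'
    exact hne (e.symm.injective (Subtype.ext (h1.symm.trans h2)))
  · apply Set.eq_univ_of_forall
    intro x
    refine Set.mem_iUnion.mpr ⟨e ⟨pat x, ⟨x, rfl⟩⟩, ?_⟩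
    show pat x = (e.symm (e ⟨pat x, ⟨x, rfl⟩⟩)).1
    rw [Equiv.symm_apply_apply]
  · intro b
    obtain ⟨x, hx⟩ := (e.symm b).2
    have hx' : pat x = (e.symm b).1 := hx
    have : x ∈ ⋃ a, D a := hcov ▸ Set.mem_univ x
    obtain ⟨a, ha⟩ := Set.mem_iUnion.mp this
    refine ⟨a, fun y hy => ?_⟩
    have hy' : pat y = (e.symm b).1 := hy
    refine (hdet a x y ?_).mp ha
    intro c
    have h1 : (⟨a, c⟩ : Σ a, γ a) ∈ pat x ↔ (⟨a, c⟩ : Σ a, γ a) ∈ pat y := by rw [hx', hy']
    exact h1

theorem isConstructible_of_cin_locallyClosed [CompactSpace X] [QuasiSeparatedSpace X]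
    [PrespectralSpace X] {Z B : Set X} (hZlc : IsLocallyClosed Z)
    (hZc : Topology.IsConstructible Z) (hBZ : B ⊆ Z) (hB : CIn Z B) :
    Topology.IsConstructible B := by
  obtain ⟨O, C, hO, hC, rfl⟩ := hZlc
  have hZcomp : IsCompact (O ∩ C) := isCompact_of_isConstructible hZc
  obtain ⟨U, hUo, hUc, hZU, hUO⟩ : ∃ U : Set X, IsOpen U ∧ IsCompact U ∧ O ∩ C ⊆ U ∧ U ⊆ O := by
    have hb := PrespectralSpace.isTopologicalBasis (X := X)
    have : ∀ x ∈ O ∩ C, ∃ V : Set X, (IsOpen V ∧ IsCompact V) ∧ x ∈ V ∧ V ⊆ O := fun x hx => by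
      obtain ⟨V, hV, hxV, hVO⟩ := hb.exists_subset_of_mem_open hx.1 hO
      exact ⟨V, hV, hxV, hVO⟩
    choose! V hV hxV hVO using this
    obtain ⟨t, ht, htf, hcov⟩ := hZcomp.elim_finite_subcover_image (b := O ∩ C) (c := V)
      (fun x hx => (hV x hx).1) (fun x hx => Set.mem_biUnion hx (hxV x hx))
    exact ⟨⋃ x ∈ t, V x, isOpen_biUnion fun x hx => (hV x (ht hx)).1,
      htf.isCompact_biUnion (fun x hx => (hV x (ht hx)).2), hcov,
      Set.iUnion₂_subset fun x hx => hVO x (ht hx)⟩
  haveI : QuasiSeparatedSpace U := (isQuasiSeparated_iff_quasiSeparatedSpace _ hUo).mp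
    (isQuasiSeparated_univ.of_subset (Set.subset_univ _))
  haveI : QuasiSeparatedSpace (Set.univ : Set X) :=
    (isQuasiSeparated_iff_quasiSeparatedSpace _ isOpen_univ).mp isQuasiSeparated_univ
  have hstepa : CIn U B := by
    unfold CIn at *
    have hf : IsClosedEmbedding (Set.inclusion hZU) := by
      refine ⟨Topology.IsEmbedding.inclusion hZU, ?_⟩
      rw [Set.range_inclusion]
      have : {x : ↥U | (x : X) ∈ O ∩ C} = Subtype.val ⁻¹' C := by
        ext x
        simp only [Set.mem_setOf_eq, Set.mem_inter_iff, Set.mem_preimage]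
        exact ⟨fun h => h.2, fun h => ⟨hUO x.2, h⟩⟩
      rw [this]
      exact hC.preimage continuous_subtype_val
    have hcomp : IsRetrocompact (Set.range (Set.inclusion hZU))ᶜ := by
      rw [Set.range_inclusion]
      have e : ({x : ↥U | (x : X) ∈ O ∩ C})ᶜ = Subtype.val ⁻¹' (U \ (O ∩ C)) := by
        ext x
        simp only [Set.mem_compl_iff, Set.mem_setOf_eq, Set.mem_preimage, Set.mem_diff]
        exact ⟨fun h => ⟨x.2, h⟩, fun h => h.2⟩
      rw [e]
      have hUZc : IsCompact (U \ (O ∩ C)) :=
        isCompact_of_isConstructible ((hUc.isConstructible hUo).sdiff hZc)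
      have hUZo : IsOpen (U \ (O ∩ C)) := by
        have : U \ (O ∩ C) = U ∩ Cᶜ := by
          ext x
          simp only [Set.mem_diff, Set.mem_inter_iff, Set.mem_compl_iff]
          exact ⟨fun h => ⟨h.1, fun hc => h.2 ⟨hUO h.1, hc⟩⟩, fun h => ⟨h.1, fun hc => h.2 hc.2⟩⟩
        rw [this]
        exact hUo.inter hC.isOpen_compl
      exact (isCompact_val_preimage hUZc Set.sdiff_subset).isRetrocompact
        (hUZo.preimage continuous_subtype_val)
    have := hB.image_of_isClosedEmbedding hf hcomp
    convert this using 1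
    ext z
    constructor
    · intro hz
      exact ⟨⟨z.1, hBZ hz⟩, hz, Subtype.ext rfl⟩
    · rintro ⟨y, hy, rfl⟩
      exact hy
  exact cin_univ_iff.mp (hstepa.up hUo hUc (Set.subset_univ _) (hBZ.trans hZU))

theorem exists_finite_subcover_of_isConstructible [CompactSpace X] [QuasiSober X]
    [PrespectralSpace X] [QuasiSeparatedSpace X] {ι : Type*} (C : ι → Set X)
    (hC : ∀ i, Topology.IsConstructible (C i)) (hcov : (⋃ i, C i) = Set.univ) :
    ∃ t : Finset ι, (⋃ i ∈ t, C i) = Set.univ := by
  have hopen : ∀ s : Set X, Topology.IsConstructible s →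
      IsOpen (WithTopology.ofTopology (t := constructibleTopology X) ⁻¹' s) := by
    intro s hs
    suffices h : IsOpen (WithTopology.ofTopology (t := constructibleTopology X) ⁻¹' s) ∧
        IsOpen (WithTopology.ofTopology (t := constructibleTopology X) ⁻¹' sᶜ) from h.1
    induction hs using Topology.IsConstructible.empty_union_induction with
    | open_retrocompact U hUo hUc =>
      constructor
      · rw [WithConstructibleTopology.isOpen_iff]
        exact hUc.isCompact.isOpen_constructibleTopology_of_isOpen hUo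
      · rw [WithConstructibleTopology.isOpen_iff]
        exact IsCompact.isOpen_constructibleTopology_of_isClosed (s := Uᶜ)
          (by rw [compl_compl]; exact hUc.isCompact) hUo.isClosed_compl
    | union s hs t ht h1 h2 =>
      constructor
      · rw [Set.preimage_union]
        exact h1.1.union h2.1
      · rw [Set.compl_union, Set.preimage_inter]
        exact h1.2.inter h2.2
    | compl s hs h1 =>
      exact ⟨h1.2, by rw [compl_compl]; exact h1.1⟩
  obtain ⟨t, ht⟩ := (isCompact_univ (X := WithConstructibleTopology X)).elim_finite_subcover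
    (fun i => WithTopology.ofTopology (t := constructibleTopology X) ⁻¹' C i)
    (fun i => hopen _ (hC i)) (by
      intro x _
      have : WithTopology.ofTopology x ∈ ⋃ i, C i := hcov ▸ Set.mem_univ _
      obtain ⟨i, hi⟩ := Set.mem_iUnion.mp this
      exact Set.mem_iUnion.mpr ⟨i, hi⟩)
  refine ⟨t, Set.eq_univ_of_forall fun x => ?_⟩
  have := ht (Set.mem_univ (WithTopology.toTopology _ x))
  obtain ⟨i, hi, hx⟩ := Set.mem_iUnion₂.mp this
  exact Set.mem_iUnion₂.mpr ⟨i, hi, hx⟩

end Top2

theorem isConstructible_image_of_immersion {T X : Scheme.{u}} [CompactSpace X]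
    [QuasiSeparatedSpace X] (g : T ⟶ X) [IsImmersion g]
    (hg : Topology.IsConstructible (Set.range g)) {B : Set T}
    (hB : Topology.IsConstructible B) : Topology.IsConstructible (g '' B) := by
  apply isConstructible_of_cin_locallyClosed g.isLocallyClosed_range hg
    (Set.image_subset_range _ _)
  unfold CIn
  have := hB.image_of_isOpenEmbedding g.isEmbedding.toHomeomorph.isOpenEmbedding
    (by rw [g.isEmbedding.toHomeomorph.surjective.range_eq]; exact IsRetrocompact.univ)
  convert this using 1
  ext ⟨x, hx⟩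
  constructor
  · rintro ⟨b, hb, hbx⟩
    exact ⟨b, hb, Subtype.ext hbx⟩
  · rintro ⟨b, hb, heq⟩
    exact ⟨b, hb, congrArg Subtype.val heq⟩

theorem main30 (X : Scheme.{u}) [CompactSpace X] [QuasiSeparatedSpace X] (F : EtCoh.Ab X)
    {ι : Type u} (T : ι → Scheme.{u}) (g : ∀ i, T i ⟶ X) [∀ i, IsImmersion (g i)]
    (hc : ∀ i, Topology.IsConstructible (Set.range (g i)))
    (hcov : (⋃ i, Set.range (g i)) = Set.univ)
    (h : ∀ i, EtPBC.IsConstructible ((EtCoh.pull (g i)).obj F)) : EtPBC.IsConstructible F := by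
  classical
  rw [main28 X F, adapted_iff]
  obtain ⟨t, ht⟩ := exists_finite_subcover_of_isConstructible (fun i => Set.range (g i)) hc hcov
  have hT : ∀ i, CompactSpace (T i) ∧ QuasiSeparatedSpace (T i) := fun i => by
    constructor
    · rw [← isCompact_univ_iff, (g i).isEmbedding.isCompact_iff, Set.image_univ]
      exact isCompact_of_isConstructible (hc i)
    · exact quasiSeparatedSpace_of_quasiSeparated (g i)
  have hS : ∀ i, Strat (PF ((EtCoh.pull (g i)).obj F)) (Set.univ : Set (T i)) := fun i => by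
    haveI := (hT i).1
    haveI := (hT i).2
    exact (adapted_iff _ _).mp ((main28 (T i) _).mp (h i))
  unfold Strat at hS
  choose κ hκ R r hri hrc hrd hru hrP using hS
  haveI := hκ
  haveI : ∀ i k, IsImmersion (r i k) := hri
  let D : (Σ i : t, κ i.1) → Set X := fun a => Set.range (r a.1.1 a.2 ≫ g a.1.1)
  have hDc : ∀ a, Topology.IsConstructible (D a) := by
    intro a
    show Topology.IsConstructible (Set.range (r a.1.1 a.2 ≫ g a.1.1))
    rw [range_comp_eq]
    exact isConstructible_image_of_immersion (g a.1.1) (hc a.1.1)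
      (cin_univ_iff.mp (hrc a.1.1 a.2))
  have hDcov : (⋃ a, D a) = Set.univ := by
    apply Set.eq_univ_of_forall
    intro x
    have hx : x ∈ ⋃ i ∈ t, Set.range (g i) := ht ▸ Set.mem_univ x
    obtain ⟨i, hi, y, rfl⟩ := Set.mem_iUnion₂.mp hx
    have hy : y ∈ ⋃ k, Set.range (r i k) := (hru i) ▸ Set.mem_univ y
    obtain ⟨k, z, rfl⟩ := Set.mem_iUnion.mp hy
    exact Set.mem_iUnion.mpr ⟨⟨⟨i, hi⟩, k⟩, z, Scheme.Hom.comp_apply _ _ _⟩
  obtain ⟨n, A, hAlc, hAc, hAd, hAu, hAD⟩ := exists_partition D hDc hDcov
  choose a hAa using hAD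
  choose Z' z hzi hzr using fun b => exists_immersion_of_isLocallyClosed (A b) (hAlc b)
  haveI : ∀ b, IsImmersion (z b) := hzi
  have hr : ∀ b, Set.range (pullback.fst (r (a b).1.1 (a b).2 ≫ g (a b).1.1) (z b) ≫
      (r (a b).1.1 (a b).2 ≫ g (a b).1.1)) = A b := by
    intro b
    rw [Scheme.Pullback.range_fst_comp, hzr]
    exact Set.inter_eq_right.mpr (hAa b)
  refine ⟨Fin n, inferInstance,
    fun b => pullback (r (a b).1.1 (a b).2 ≫ g (a b).1.1) (z b),
    fun b => pullback.fst (r (a b).1.1 (a b).2 ≫ g (a b).1.1) (z b) ≫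
      (r (a b).1.1 (a b).2 ≫ g (a b).1.1), fun b => inferInstance, ?_, ?_, ?_, ?_⟩
  · intro b
    rw [hr]
    exact cin_univ_iff.mpr (hAc b)
  · intro b b' hbb'
    have : Disjoint (A b) (A b') := hAd hbb'
    rw [← hr b, ← hr b'] at this
    exact this
  · rw [Set.iUnion_congr hr, hAu]
  · intro b
    apply stable_PF F
    exact flc_of_iso ((pullComp (g (a b).1.1) (r (a b).1.1 (a b).2)).app F)
      (hrP (a b).1.1 (a b).2)

end Groth.Agent.Lib.EtCons
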