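import Mathlib
import Groth.Prelude.Def_EtCore
import Groth.Agent.Lib.EtPullConstComp_helper7
import Groth.Agent.Lib.EtHpull0_helper7
import Groth.Agent.Lib.EtSchSite_helper7
import Groth.Agent.Lib.EtZarAff_helper7
import Groth.Agent.Lib.EtGenStalkAb_lead
import Groth.Agent.Lib.EtZeroDim_helper7

/-!
# Sections of constant étale sheaves over connected objects, and a criterion for the unit
`M_X ⟶ g_* g⁻¹ M_X` to be an isomorphism (helper7)
-/

set_option autoImplicit false
set_option backward.isDefEq.respectTransparency false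
set_option backward.isDefEq.respectTransparency.types false
set_option linter.style.haveILetI false
set_option linter.unusedSectionVars false
universe u
open CategoryTheory CategoryTheory.Limits AlgebraicGeometry Opposite

namespace Groth.Agent.Lib.EtConstSecH7

open Groth.Agent.Lib.EtSchSite_helper7 Groth.Agent.Lib.EtZarAff_helper7
open Groth.Agent.Lib.EtGenStalkAb (cPX csX etaX etaX_res etaX_locSurj etaX_inj app_nat map_comp_hom)
open Groth.Agent.Lib.EtHpull0_helper7 (toTop)
open Groth.Agent.Lib.EtPullConstComp_helper7 (B_homEquiv_pullConstIso)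

variable {Y X : Scheme.{u}}

/-- the unit of the constant sheaf adjunction is the sheafification map at the terminal object -/
theorem constAdj_unit (N : AddCommGrpCat.{u + 1}) :
    (EtCore.constAdj X).unit.app N = (etaX X N).app (op (EtCoh.top X)) := by
  unfold EtCore.constAdj constantSheafAdj
  rw [Adjunction.comp_unit_app]
  simp [etaX]

/-- the comparison map `M_X ⟶ g_* M_Y` -/
noncomputable def phi (g : Y ⟶ X) (N : AddCommGrpCat.{u + 1}) :
    csX X N ⟶ (EtCoh.push g).obj (csX Y N) :=
  (EtCoh.pullPushAdj g).unit.app (csX X N) ≫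
    (EtCoh.push g).map ((EtCore.pullConstIso g).hom.app N)

theorem phi_top (g : Y ⟶ X) (N : AddCommGrpCat.{u + 1}) (n : N) :
    ((csX Y N).obj.map (EtCore.bcTopIso g).inv.op).hom
      (((phi g N).hom.app (op (EtCoh.top X))).hom
        (((etaX X N).app (op (EtCoh.top X))).hom n)) =
      ((etaX Y N).app (op (EtCoh.top Y))).hom n := by
  have h := B_homEquiv_pullConstIso g N
  rw [Adjunction.homEquiv_unit, Adjunction.homEquiv_unit, constAdj_unit, constAdj_unit] at h
  exact congrArg (fun m => m.hom n) h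

theorem phi_e (g : Y ⟶ X) (N : AddCommGrpCat.{u + 1}) (V : X.Etale) (n : N) :
    ((phi g N).hom.app (op V)).hom (((etaX X N).app (op V)).hom n) =
      ((etaX Y N).app (op ((EtCoh.bc g).obj V))).hom n := by
  have h1 := etaX_res N (toTop V) n
  have h2 := app_nat (phi g N) (toTop V) (((etaX X N).app (op (EtCoh.top X))).hom n)
  have h3 : (EtCoh.bc g).map (toTop V) =
      toTop ((EtCoh.bc g).obj V) ≫ (EtCore.bcTopIso g).inv :=
    (EtCore.bcTopIsTerminal g).hom_ext _ _
  have h4 := map_comp_hom (csX Y N) (toTop ((EtCoh.bc g).obj V)) (EtCore.bcTopIso g).inv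
    (((phi g N).hom.app (op (EtCoh.top X))).hom (((etaX X N).app (op (EtCoh.top X))).hom n))
  have h5 := phi_top g N n
  have h6 := etaX_res N (toTop ((EtCoh.bc g).obj V)) n
  have h7 : (((EtCoh.push g).obj (csX Y N)).obj.map (toTop V).op).hom
      (((phi g N).hom.app (op (EtCoh.top X))).hom (((etaX X N).app (op (EtCoh.top X))).hom n)) =
      ((csX Y N).obj.map (toTop ((EtCoh.bc g).obj V) ≫ (EtCore.bcTopIso g).inv).op).hom
      (((phi g N).hom.app (op (EtCoh.top X))).hom (((etaX X N).app (op (EtCoh.top X))).hom n)) :=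
    congrArg (fun (k : (EtCoh.bc g).obj V ⟶ (EtCoh.bc g).obj (EtCoh.top X)) =>
      ((csX Y N).obj.map k.op).hom
      (((phi g N).hom.app (op (EtCoh.top X))).hom (((etaX X N).app (op (EtCoh.top X))).hom n))) h3
  exact (congrArg (fun s => ((phi g N).hom.app (op V)).hom s) h1.symm).trans
    (h2.trans (h7.trans (h4.trans
      ((congrArg (fun s => ((csX Y N).obj.map (toTop ((EtCoh.bc g).obj V)).op).hom s) h5).trans
        h6))))

theorem map_id_hom (F : EtCoh.Ab Y) (P : Y.Etale) (σ : F.obj.obj (op P)) :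
    (F.obj.map (𝟙 P).op).hom σ = σ := by
  rw [op_id, F.obj.map_id]
  rfl

/-- every section of a constant sheaf over a preconnected object is constant -/
theorem exists_eq_etaX (N : AddCommGrpCat.{u + 1}) (P : Y.Etale) [PreconnectedSpace P.left]
    (t : (csX Y N).obj.obj (op P)) :
    ∃ n : N, t = ((etaX Y N).app (op P)).hom n := by
  by_cases hne : Nonempty P.left
  swap
  · haveI : IsEmpty P.left := not_nonempty_iff.mp hne
    haveI := Groth.Agent.Lib.EtZeroDim_helper7.subsingleton_of_isEmpty (csX Y N) P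
    exact ⟨0, Subsingleton.elim _ _⟩
  obtain ⟨p₀⟩ := hne
  have hV : ∀ n : N, ∃ W : P.left.Opens, ∀ (V : Y.Etale) (φ : V ⟶ P),
      ((csX Y N).obj.map φ.op).hom (t - ((etaX Y N).app (op P)).hom n) = 0 ↔
        Set.range φ.left.base ⊆ (W : Set P.left) :=
    fun n => exists_opens_vanishing (csX Y N) P (t - ((etaX Y N).app (op P)).hom n)
  choose W hW using hV
  -- the opens cover
  have hcov : ∀ p : P.left, ∃ n : N, p ∈ W n := by
    intro p
    obtain ⟨Z, k, n, ⟨z, hz⟩, hn⟩ := etaX_locSurj N t p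
    refine ⟨n, ?_⟩
    have h0 : ((csX Y N).obj.map k.op).hom (t - ((etaX Y N).app (op P)).hom n) = 0 := by
      rw [map_sub]
      exact sub_eq_zero.mpr (hn.symm.trans (etaX_res N k n).symm)
    have := (hW n Z k).1 h0 ⟨z, rfl⟩
    rw [← hz]
    exact this
  -- they are pairwise disjoint
  have hdisj : ∀ (m n : N) (p : P.left), p ∈ W m → p ∈ W n → m = n := by
    intro m n p hm hn
    obtain ⟨O, hO⟩ : ∃ O : P.left.Opens, O = W m ⊓ W n := ⟨_, rfl⟩
    have hpO : p ∈ O := by rw [hO]; exact ⟨hm, hn⟩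
    have hr : Set.range (opnι P O).left.base = (O : Set P.left) := Scheme.Opens.range_ι O
    have hm0 := (hW m _ (opnι P O)).2 (by rw [hr, hO]; exact inf_le_left)
    have hn0 := (hW n _ (opnι P O)).2 (by rw [hr, hO]; exact inf_le_right)
    rw [map_sub, sub_eq_zero] at hm0 hn0
    have key : ((etaX Y N).app (op (opn P O))).hom m = ((etaX Y N).app (op (opn P O))).hom n :=
      (etaX_res N (opnι P O) m).symm.trans (hm0.symm.trans (hn0.trans (etaX_res N (opnι P O) n)))
    obtain ⟨y, -⟩ := mem_range_ι hpO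
    exact etaX_inj N y m n key
  obtain ⟨n₀, hn₀⟩ := hcov p₀
  have hcl : IsClosed (W n₀ : Set P.left) := by
    rw [← isOpen_compl_iff]
    have heq : ((W n₀ : Set P.left))ᶜ = ⋃ n ∈ {n : N | n ≠ n₀}, (W n : Set P.left) := by
      ext p
      simp only [Set.mem_compl_iff, Set.mem_iUnion, Set.mem_ofPred_eq, SetLike.mem_coe]
      constructor
      · intro hp
        obtain ⟨n, hn⟩ := hcov p
        refine ⟨n, ?_, hn⟩
        rintro rfl
        exact hp hn
      · rintro ⟨n, hne, hn⟩ hp
        exact hne (hdisj n n₀ p hn hp)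
    rw [heq]
    exact isOpen_biUnion (fun n _ => (W n).2)
  have huniv : (W n₀ : Set P.left) = Set.univ :=
    IsClopen.eq_univ ⟨hcl, (W n₀).2⟩ ⟨p₀, hn₀⟩
  have hz := (hW n₀ P (𝟙 P)).2 (by rw [huniv]; exact Set.subset_univ _)
  rw [map_id_hom] at hz
  exact ⟨n₀, sub_eq_zero.mp hz⟩

theorem isIso_phi (g : Y ⟶ X) (N : AddCommGrpCat.{u + 1})
    (H1 : ∀ V : X.Etale, Nonempty V.left → Nonempty ((EtCoh.bc g).obj V).left)
    (H2 : ∀ (V : X.Etale) (v : V.left), ∃ (W : X.Etale) (k : W ⟶ V),
      v ∈ Set.range k.left ∧ PreconnectedSpace ((EtCoh.bc g).obj W).left) :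
    IsIso (phi g N) := by
  haveI : Sheaf.IsLocallyInjective (phi g N) := by
    constructor
    intro U x y h
    apply sieve_mem_of_forall_exists
    intro w
    obtain ⟨Z, k, n, ⟨z, hz⟩, hn⟩ := etaX_locSurj N (x - y) w
    refine ⟨Z, k, ?_, ⟨z, hz⟩⟩
    have h0 : ((phi g N).hom.app U).hom (x - y) = 0 := by
      rw [map_sub]
      exact sub_eq_zero.mpr h
    have h1 := app_nat (phi g N) k (x - y)
    rw [← hn, h0, map_zero, phi_e] at h1
    obtain ⟨y'⟩ := H1 Z ⟨z⟩
    have h2 : n = 0 := etaX_inj N y' n 0 (h1.trans (map_zero _).symm)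
    rw [h2, map_zero, map_sub] at hn
    exact (sub_eq_zero.mp hn.symm)
  haveI : Sheaf.IsLocallySurjective (phi g N) := by
    constructor
    intro U s
    apply sieve_mem_of_forall_exists
    intro w
    obtain ⟨W, k, hw, hconn⟩ := H2 U w
    haveI := hconn
    refine ⟨W, k, ?_, hw⟩
    obtain ⟨n, hn⟩ := exists_eq_etaX N ((EtCoh.bc g).obj W)
      ((((EtCoh.push g).obj (csX Y N)).obj.map k.op).hom s)
    exact ⟨((etaX X N).app (op W)).hom n, (phi_e g N W n).trans hn.symm⟩
  exact (Sheaf.isLocallyBijective_iff_isIso (phi g N)).1 ⟨inferInstance, inferInstance⟩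

theorem isIso_unit (g : Y ⟶ X) (M : Type) [AddCommGroup M]
    (H1 : ∀ V : X.Etale, Nonempty V.left → Nonempty ((EtCoh.bc g).obj V).left)
    (H2 : ∀ (V : X.Etale) (v : V.left), ∃ (W : X.Etale) (k : W ⟶ V),
      v ∈ Set.range k.left ∧ PreconnectedSpace ((EtCoh.bc g).obj W).left) :
    IsIso ((EtCoh.pullPushAdj g).unit.app (EtCoh.const X M)) := by
  haveI := isIso_phi g (AddCommGrpCat.of (ULift.{u + 1} M)) H1 H2
  have h : (EtCoh.pullPushAdj g).unit.app (EtCoh.const X M) =
      phi g (AddCommGrpCat.of (ULift.{u + 1} M)) ≫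
        (EtCoh.push g).map ((EtCore.pullConstIso g).inv.app _) := by
    unfold phi
    rw [Category.assoc, ← Functor.map_comp, Iso.hom_inv_id_app]
    exact ((congrArg (fun z => (EtCoh.pullPushAdj g).unit.app
      (csX X (AddCommGrpCat.of (ULift.{u + 1} M))) ≫ z) ((EtCoh.push g).map_id _)).trans
        (Category.comp_id _)).symm
  rw [h]
  infer_instance

end Groth.Agent.Lib.EtConstSecH7
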