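import Mathlib
import Groth.Prelude.Def_AlgSpCov
import Groth.Prelude.Def_AlgSpEt
import Groth.Agent.Lib.AlgSpSmST_helper7

/-!
# Continuity of the functor from the small étale site to the big étale site of spaces (helper7)
-/

set_option autoImplicit false
set_option backward.isDefEq.respectTransparency false
universe u
open CategoryTheory CategoryTheory.Limits AlgebraicGeometry Opposite
open AlgSp Groth.Agent.Lib.AlgSpPoints_helper7 Groth.Agent.Lib.AlgSpPullback_helper7
  Groth.Agent.Lib.AlgSpSmST_helper7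

namespace Groth.Agent.Lib.EtCont_helper7

variable {S : Scheme.{u}}

noncomputable abbrev Phi {X Y : Space S} (f : Y ⟶ X) : EtOver Y.obj ⥤ Over X :=
  EtOver.toEtSpOver Y ⋙ ObjectProperty.ι (fun E : Over Y => IsEtaleMor E.hom.hom) ⋙ Over.map f

noncomputable def phiIso {X Y : Space S} (f : Y ⟶ X) :
    Phi f ⋙ Over.forget X ⋙ ObjectProperty.ι (IsAlgSpace (S := S)) ≅
      EtOver.forget Y.obj ⋙ yon S :=
  NatIso.ofComponents (fun E => Iso.refl _) (by
    intro E E' g
    exact (Category.comp_id _).trans (Category.id_comp _).symm)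

noncomputable instance preservesPullbacks_Phi {X Y : Space S} (f : Y ⟶ X) :
    PreservesLimitsOfShape WalkingCospan (Phi f) := by
  haveI : PreservesLimitsOfShape WalkingCospan
      (Phi f ⋙ Over.forget X ⋙ ObjectProperty.ι (IsAlgSpace (S := S))) :=
    preservesLimitsOfShape_of_natIso (phiIso f).symm
  haveI : ReflectsLimitsOfShape WalkingCospan
      (Over.forget X ⋙ ObjectProperty.ι (IsAlgSpace (S := S))) := inferInstance
  exact preservesLimitsOfShape_of_reflects_of_preserves (Phi f)
    (Over.forget X ⋙ ObjectProperty.ι (IsAlgSpace (S := S)))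

theorem cover_preserving {X Y : Space S} (f : Y ⟶ X) {E : EtOver Y.obj} {R : Presieve E}
    (hR : R ∈ etPre Y.obj E) :
    Sieve.generate (R.map (Phi f)) ∈ spacesTopOver IsEtaleMor X ((Phi f).obj E) := by
  obtain ⟨ι, Z, g, rfl⟩ := R.exists_eq_ofArrows
  rw [ofArrows_mem_etPre_iff] at hR
  rw [Presieve.map_ofArrows, GrothendieckTopology.mem_over_iff]
  change Sieve.overEquiv _ (Sieve.ofArrows _ _) ∈ _
  rw [Sieve.overEquiv_ofArrows]
  refine Precoverage.generate_mem_toGrothendieck ⟨?_, ?_⟩
  · rintro Z' g' ⟨i⟩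
    exact (isEtaleMor_yon_map_iff _).2 (EtOver.etale_left (g i))
  · intro x
    obtain ⟨t, rfl⟩ := ofScheme_surjective E.obj.left x
    obtain ⟨i, u, hu⟩ := hR t
    refine ⟨_, _, ⟨i⟩, Points.ofScheme _ u, ?_⟩
    change Points.map ((yon S).map (g i).hom.left) (Points.ofScheme _ u) = _
    rw [← Points.ofPt_eq_map_ofScheme, ofPt_yon_map]
    exact congrArg _ hu

theorem main {X Y : Space S} (f : Y ⟶ X) :
    (EtOver.toEtSpOver Y ⋙ ObjectProperty.ι (fun E : Over Y => IsEtaleMor E.hom.hom) ⋙
        Over.map f).IsContinuous (etTop Y.obj) (spacesTopOver IsEtaleMor X) where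
  op_comp_isSheaf_of_types := fun G => by
    have H : Presieve.IsSheaf (spacesTopOver IsEtaleMor X) G.obj :=
      (isSheaf_iff_isSheaf_of_type _ _).1 G.property
    change Presieve.IsSheaf (etPre Y.obj).toGrothendieck ((Phi f).op ⋙ G.obj)
    rw [Precoverage.isSheaf_toGrothendieck_iff_of_isStableUnderBaseChange]
    intro E R hR
    have h1 : R.HasPairwisePullbacks := (etPre Y.obj).hasPairwisePullbacks_of_mem hR
    rw [Presieve.IsSheafFor.comp_iff_of_preservesPairwisePullbacks,
      Presieve.isSheafFor_iff_generate]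
    exact H _ (cover_preserving f hR)

end Groth.Agent.Lib.EtCont_helper7
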