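import Mathlib
import Groth.Prelude.Def_Found
import Groth.Agent.Lib.EtApxSch1_helper5
import Groth.Agent.Lib.EtApxSch4_helper5
import Groth.Agent.Lib.EtApxSch5_helper5

set_option autoImplicit false
set_option linter.style.haveILetI false
set_option linter.unusedVariables false
set_option maxHeartbeats 1600000
universe u

open TensorProduct IsLocalRing

namespace Groth.Agent.Lib.EtCorrH5

open Groth.Agent.Lib.EtApxSchH5

/-- **Common étale neighbourhood from an isomorphism of completed local rings** (ring level), with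
both residue field extensions trivial. -/
theorem exists_common_etale {Λ A B K OY : Type u} [CommRing Λ] [IsNoetherianRing Λ] [CommRing A]
    [CommRing B] [Algebra Λ A] [Algebra.FiniteType Λ A] [Algebra Λ B] [Algebra.FiniteType Λ B]
    [CommRing K] [Algebra A K] (𝔭 : Ideal A) [𝔭.IsPrime] [IsLocalization.AtPrime K 𝔭]
    [IsLocalRing K] (hG : CAlg.IsGRing K)
    [CommRing OY] [Algebra B OY] (𝔮 : Ideal B) [𝔮.IsPrime] [IsLocalization.AtPrime OY 𝔮]
    [IsLocalRing OY]
    (φ : AdicCompletion (maximalIdeal OY) OY ≃+* AdicCompletion (maximalIdeal K) K)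
    (hφ : ∀ l : Λ, φ (algebraMap OY (AdicCompletion (maximalIdeal OY) OY)
        (algebraMap B OY (algebraMap Λ B l))) =
      algebraMap K (AdicCompletion (maximalIdeal K) K) (algebraMap A K (algebraMap Λ A l))) :
    ∃ (R' : Type u) (_ : CommRing R') (_ : Algebra A R'), Algebra.Etale A R' ∧
      ∃ (p' : Ideal R') (_ : p'.IsPrime) (t : B →+* R'), t.Etale ∧
        (∀ l : Λ, t (algebraMap Λ B l) = algebraMap A R' (algebraMap Λ A l)) ∧
        p'.comap (algebraMap A R') = 𝔭 ∧ p'.comap t = 𝔮 ∧
        (∀ x : R', ∃ r s : A, s ∉ 𝔭 ∧ algebraMap A R' s * x - algebraMap A R' r ∈ p') ∧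
        (∀ x : R', ∃ r s : B, s ∉ 𝔮 ∧ t s * x - t r ∈ p') := by
  classical
  haveI : IsNoetherianRing K := hG.1
  haveI : IsNoetherianRing A := Algebra.FiniteType.isNoetherianRing Λ A
  haveI : IsNoetherianRing B := Algebra.FiniteType.isNoetherianRing Λ B
  haveI : IsNoetherianRing OY := IsLocalization.isNoetherianRing 𝔮.primeCompl OY inferInstance
  obtain ⟨R', iR1, iR2, het, ψ, p', hp', hψ, hcomap, hfrac, hψp, t, htet, htΛ, ht1⟩ :=
    approx_alg_etale 𝔭 hG 𝔮 φ hφ 2 le_rfl
  let φ₀ : OY →+* AdicCompletion (maximalIdeal K) K :=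
    φ.toRingHom.comp (algebraMap OY (AdicCompletion (maximalIdeal OY) OY))
  have hloc : ∀ b ∈ maximalIdeal OY, φ₀ b ∈
      (maximalIdeal K).map (algebraMap K (AdicCompletion (maximalIdeal K) K)) :=
    fun b hb => equiv_comp_local φ b hb
  have ht' : ∀ β : B, φ₀ (algebraMap B OY β) - ψ (t β) ∈
      (maximalIdeal K ^ 2).map (algebraMap K (AdicCompletion (maximalIdeal K) K)) := ht1
  have hmem : ∀ β : B, t β ∈ p' ↔ β ∈ 𝔮 :=
    mem_iff_of_local 𝔭 𝔮 φ₀ hloc ψ p' hψ hcomap hfrac hψp t 2 (by omega) ht'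
  haveI : IsNoetherianRing R' := Algebra.FiniteType.isNoetherianRing A R'
  haveI : IsNoetherianRing (Localization.AtPrime p') :=
    IsLocalization.isNoetherianRing p'.primeCompl _ inferInstance
  have hAunit : ∀ s : 𝔭.primeCompl, IsUnit ((algebraMap R' (Localization.AtPrime p')).comp
      (algebraMap A R') s) := by
    intro s
    apply IsLocalization.map_units (Localization.AtPrime p')
      (⟨algebraMap A R' s, ?_⟩ : p'.primeCompl)
    intro h
    have h2 : (s : A) ∈ p'.comap (algebraMap A R') := h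
    rw [hcomap] at h2
    exact s.2 h2
  let ε : K →+* Localization.AtPrime p' := IsLocalization.lift (M := 𝔭.primeCompl) hAunit
  have hε : ∀ r : A, ε (algebraMap A K r) =
      algebraMap R' (Localization.AtPrime p') (algebraMap A R' r) := fun r =>
    IsLocalization.lift_eq _ r
  have hBunit : ∀ s : 𝔮.primeCompl, IsUnit ((algebraMap R' (Localization.AtPrime p')).comp t s) := by
    intro s
    apply IsLocalization.map_units (Localization.AtPrime p') (⟨t s, ?_⟩ : p'.primeCompl)
    intro h
    exact s.2 ((hmem _).mp h)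
  let τ : OY →+* Localization.AtPrime p' := IsLocalization.lift (M := 𝔮.primeCompl) hBunit
  have hτ : ∀ β : B, τ (algebraMap B OY β) = algebraMap R' (Localization.AtPrime p') (t β) :=
    fun β => IsLocalization.lift_eq _ β
  obtain ⟨ψl, hψl, hψlε, hmU, hres, Hstep⟩ := exists_psil 𝔭 𝔮 φ₀ ψ p' hψ hcomap hfrac hψp t 2 ht'
    ε hε τ hτ
  obtain ⟨hB1, hB2, hflat⟩ := flat_of_completion_iso ε τ ψl hψlε φ 2 le_rfl Hstep hmU hres
  refine ⟨R', iR1, iR2, het, p', hp', t, htet, htΛ, hcomap, ?_, hfrac, ?_⟩
  · ext β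
    exact hmem β
  · intro x
    obtain ⟨c, hc⟩ := hB1 (algebraMap R' (Localization.AtPrime p') x)
    obtain ⟨b, s, rfl⟩ := IsLocalization.exists_mk'_eq 𝔮.primeCompl c
    refine ⟨b, s, s.2, ?_⟩
    rw [← IsLocalization.AtPrime.to_map_mem_maximal_iff (Localization.AtPrime p') p']
    have hspec : IsLocalization.mk' OY b s * algebraMap B OY s = algebraMap B OY b :=
      IsLocalization.mk'_spec OY b s
    have h1 : τ (IsLocalization.mk' OY b s) * algebraMap R' (Localization.AtPrime p') (t s) =
        algebraMap R' (Localization.AtPrime p') (t b) := by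
      rw [← hτ, ← hτ, ← map_mul, hspec]
    have h2 : algebraMap R' (Localization.AtPrime p') (t s * x - t b) =
        algebraMap R' (Localization.AtPrime p') (t s) *
          (algebraMap R' (Localization.AtPrime p') x - τ (IsLocalization.mk' OY b s)) := by
      rw [map_sub, map_mul, ← h1]
      ring
    rw [h2]
    exact Ideal.mul_mem_left _ _ hc

end Groth.Agent.Lib.EtCorrH5
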