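import Mathlib

set_option autoImplicit false
universe u

namespace Groth.Agent.Lib.OmegaPtH5

variable {A D E Ω : Type*} [CommRing A] [CommRing D] [CommRing E] [Field Ω]

/-- `ω : D → Ω` has image in the fraction field of the image of `A` (trivial residue field
extension at the point `ω`). -/
def FS (θ : A →+* D) (ω : D →+* Ω) : Prop :=
  Set.range ω ⊆ (Subfield.closure (Set.range (ω.comp θ)) : Set Ω)

theorem fs_iff (θ : A →+* D) (ω : D →+* Ω) :
    FS θ ω ↔ ∀ d, ∃ r s : A, ω (θ s) ≠ 0 ∧ ω (θ s) * ω d = ω (θ r) := by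
  constructor
  · intro h d
    have hd : ω d ∈ Subfield.closure (Set.range (ω.comp θ)) := h ⟨d, rfl⟩
    rw [Subfield.mem_closure_iff] at hd
    obtain ⟨y, hy, z, hz, hyz⟩ := hd
    have hcl : Subring.closure (Set.range (ω.comp θ)) = (ω.comp θ).range := by
      rw [← RingHom.coe_range]
      exact Subring.closure_eq _
    rw [hcl] at hy hz
    obtain ⟨r, rfl⟩ := hy
    obtain ⟨s, rfl⟩ := hz
    by_cases hs : (ω.comp θ) s = 0
    · refine ⟨0, 1, by simp, ?_⟩
      rw [hs, div_zero] at hyz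
      simp [← hyz]
    · refine ⟨r, s, hs, ?_⟩
      rw [← hyz]
      show (ω.comp θ) s * ((ω.comp θ) r / (ω.comp θ) s) = (ω.comp θ) r
      field_simp
  · intro h x hx
    obtain ⟨d, rfl⟩ := hx
    obtain ⟨r, s, hs, hrs⟩ := h d
    have h1 : ω d = ω (θ r) / ω (θ s) := by
      rw [← hrs]
      field_simp
    rw [h1]
    exact div_mem (Subfield.subset_closure ⟨r, rfl⟩) (Subfield.subset_closure ⟨s, rfl⟩)

theorem FS.comp {θ₁ : A →+* D} {θ₂ : D →+* E} {ω : E →+* Ω} (h1 : FS θ₁ (ω.comp θ₂))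
    (h2 : FS θ₂ ω) : FS (θ₂.comp θ₁) ω := by
  intro x hx
  have h3 : (Subfield.closure (Set.range (ω.comp θ₂)) : Subfield Ω) ≤
      Subfield.closure (Set.range (ω.comp (θ₂.comp θ₁))) := by
    rw [Subfield.closure_le]
    exact h1
  exact h3 (h2 hx)

theorem FS.of_comp {θ₁ : A →+* D} {θ₂ : D →+* E} {ω : E →+* Ω} (h : FS (θ₂.comp θ₁) ω) :
    FS θ₂ ω := by
  intro x hx
  have h3 : (Subfield.closure (Set.range (ω.comp (θ₂.comp θ₁))) : Subfield Ω) ≤
      Subfield.closure (Set.range (ω.comp θ₂)) := by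
    apply Subfield.closure_mono
    rintro _ ⟨a, rfl⟩
    exact ⟨θ₁ a, rfl⟩
  exact h3 (h hx)

/-- criterion: the range of `ω` is generated (as a field) by elements in the closure. -/
theorem fs_of_range_subset {θ : A →+* D} {ω : D →+* Ω}
    (h : Set.range ω ⊆ (Subfield.closure (Set.range (ω.comp θ)) : Set Ω)) : FS θ ω := h

theorem fs_of_hfrac (θ : A →+* D) (ω : D →+* Ω)
    (h : ∀ x : D, ∃ r s : A, θ s ∉ RingHom.ker ω ∧ θ s * x - θ r ∈ RingHom.ker ω) : FS θ ω := by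
  rw [fs_iff]
  intro d
  obtain ⟨r, s, hs, hrs⟩ := h d
  refine ⟨r, s, fun h0 => hs (RingHom.mem_ker.mpr h0), ?_⟩
  have := RingHom.mem_ker.mp hrs
  rw [map_sub, map_mul, sub_eq_zero] at this
  exact this

theorem hfrac_of_fs {θ : A →+* D} {ω : D →+* Ω} (h : FS θ ω) :
    ∀ x : D, ∃ r s : A, s ∉ (RingHom.ker ω).comap θ ∧ θ s * x - θ r ∈ RingHom.ker ω := by
  rw [fs_iff] at h
  intro d
  obtain ⟨r, s, hs, hrs⟩ := h d
  refine ⟨r, s, fun h0 => hs (RingHom.mem_ker.mp h0), ?_⟩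
  rw [RingHom.mem_ker, map_sub, map_mul, hrs, sub_self]

/-- localization away from an element which is nonzero at the point. -/
theorem fs_away (g : D) [Algebra D E] [IsLocalization.Away g E] (ω : E →+* Ω) :
    FS (algebraMap D E) ω := by
  rw [fs_iff]
  intro d
  obtain ⟨x, ⟨_, n, rfl⟩, rfl⟩ := IsLocalization.exists_mk'_eq (Submonoid.powers g) d
  have hu : IsUnit (algebraMap D E (g ^ n)) :=
    IsLocalization.map_units E (⟨g ^ n, n, rfl⟩ : Submonoid.powers g)
  refine ⟨x, g ^ n, (hu.map ω).ne_zero, ?_⟩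
  rw [← map_mul]
  congr 1
  rw [mul_comm]
  exact IsLocalization.mk'_spec E x _

end Groth.Agent.Lib.OmegaPtH5
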