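import Mathlib
import Groth.Agent.Lib.OmegaPt_helper5

set_option autoImplicit false
set_option linter.style.haveILetI false
set_option linter.unusedVariables false
set_option maxHeartbeats 1600000
universe u

open TensorProduct IsLocalRing

namespace Groth.Agent.Lib.EtCorrH5

open Groth.Agent.Lib.OmegaPtH5

/-- **Two-sided standard étale localization at a point.** -/
theorem exists_std_corr {A B R' : Type u} [CommRing A] [CommRing B] [CommRing R'] [Algebra A R']
    [Algebra.Etale A R'] (t : B →+* R') (ht : t.Etale) (p' : Ideal R') [p'.IsPrime] :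
    ∃ (D : Type u) (_ : CommRing D) (lam : R' →+* D) (ω : D →+* p'.ResidueField)
      (QA : StandardEtalePair A) (εA : QA.Ring ≃+* D)
      (QB : StandardEtalePair B) (εB : QB.Ring ≃+* D),
      (∀ x, ω (lam x) = algebraMap R' p'.ResidueField x) ∧ FS lam ω ∧
      (∀ a, εA (algebraMap A QA.Ring a) = lam (algebraMap A R' a)) ∧
      (∀ b, εB (algebraMap B QB.Ring b) = lam (t b)) := by
  classical
  let ω₀ : R' →+* p'.ResidueField := algebraMap R' p'.ResidueField
  have hker₀ : RingHom.ker ω₀ = p' := Ideal.ker_algebraMap_residueField p'
  haveI : Algebra.FinitePresentation A R' := inferInstance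
  obtain ⟨f, hf, hstd⟩ := Algebra.IsEtaleAt.exists_isStandardEtale (R := A) p'
  have hf0 : ω₀ f ≠ 0 := fun h => hf (hker₀ ▸ RingHom.mem_ker.mpr h)
  let ω₁ : Localization.Away f →+* p'.ResidueField :=
    IsLocalization.Away.lift f (g := ω₀) (isUnit_iff_ne_zero.mpr hf0)
  have hω₁ : ∀ x, ω₁ (algebraMap R' (Localization.Away f) x) = ω₀ x := fun x =>
    IsLocalization.Away.lift_eq f _ x
  -- the `B`-algebra structures
  letI algBR : Algebra B R' := t.toAlgebra
  haveI etBR : Algebra.Etale B R' := ht
  haveI : Algebra.Etale R' (Localization.Away f) := Algebra.Etale.of_isLocalizationAway f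
  haveI : Algebra.Etale B (Localization.Away f) := Algebra.Etale.comp B R' (Localization.Away f)
  haveI : Algebra.FinitePresentation B (Localization.Away f) := inferInstance
  haveI hQ₁ : (RingHom.ker ω₁).IsPrime := RingHom.ker_isPrime ω₁
  obtain ⟨g, hg, hstdB⟩ := Algebra.IsEtaleAt.exists_isStandardEtale (R := B) (RingHom.ker ω₁)
  have hg0 : ω₁ g ≠ 0 := fun h => hg (RingHom.mem_ker.mpr h)
  let ω₂ : Localization.Away g →+* p'.ResidueField :=
    IsLocalization.Away.lift g (g := ω₁) (isUnit_iff_ne_zero.mpr hg0)
  have hω₂ : ∀ x, ω₂ (algebraMap (Localization.Away f) (Localization.Away g) x) = ω₁ x := fun x =>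
    IsLocalization.Away.lift_eq g _ x
  let lam : R' →+* Localization.Away g :=
    (algebraMap (Localization.Away f) (Localization.Away g)).comp
      (algebraMap R' (Localization.Away f))
  haveI : Algebra.IsStandardEtale A (Localization.Away g) :=
    Algebra.IsStandardEtale.of_isLocalizationAway (S := Localization.Away f) g
  let PA : StandardEtalePresentation A (Localization.Away g) :=
    Algebra.IsStandardEtale.nonempty_standardEtalePresentation.some
  let PB : StandardEtalePresentation B (Localization.Away g) :=
    Algebra.IsStandardEtale.nonempty_standardEtalePresentation.some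
  refine ⟨Localization.Away g, inferInstance, lam, ω₂, PA.P, PA.equivRing.symm.toRingEquiv,
    PB.P, PB.equivRing.symm.toRingEquiv, ?_, ?_, ?_, ?_⟩
  · intro x
    show ω₂ (algebraMap (Localization.Away f) (Localization.Away g)
      (algebraMap R' (Localization.Away f) x)) = _
    rw [hω₂, hω₁]
  · have h1 : FS (algebraMap R' (Localization.Away f))
        (ω₂.comp (algebraMap (Localization.Away f) (Localization.Away g))) := by
      have : ω₂.comp (algebraMap (Localization.Away f) (Localization.Away g)) = ω₁ :=
        RingHom.ext hω₂
      rw [this]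
      exact fs_away f ω₁
    exact FS.comp h1 (fs_away g ω₂)
  · intro a
    show PA.equivRing.symm (algebraMap A PA.P.Ring a) = _
    rw [AlgEquiv.commutes]
    show _ = algebraMap (Localization.Away f) (Localization.Away g)
      (algebraMap R' (Localization.Away f) (algebraMap A R' a))
    rw [← IsScalarTower.algebraMap_apply A R' (Localization.Away f),
      ← IsScalarTower.algebraMap_apply A (Localization.Away f) (Localization.Away g)]
  · intro b
    show PB.equivRing.symm (algebraMap B PB.P.Ring b) = _
    rw [AlgEquiv.commutes]
    show _ = algebraMap (Localization.Away f) (Localization.Away g)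
      (algebraMap R' (Localization.Away f) (t b))
    rw [IsScalarTower.algebraMap_apply B (Localization.Away f) (Localization.Away g),
      IsScalarTower.algebraMap_apply B R' (Localization.Away f)]
    rfl

end Groth.Agent.Lib.EtCorrH5
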