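import Mathlib
import Groth.Agent.Lib.BCEt_helper5
import Groth.Agent.Lib.OmegaPt_helper5

set_option autoImplicit false
set_option linter.style.haveILetI false
set_option linter.unusedVariables false
set_option maxHeartbeats 1600000
universe u

open TensorProduct

namespace Groth.Agent.Lib.EtCorrH5

open Groth.Agent.Lib.BCEtH5 Groth.Agent.Lib.OmegaPtH5

section assemble
variable {R Θ₀ U P R' A₀ B₀ AU BU DP : Type u} [CommRing R] [CommRing Θ₀] [CommRing U]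
  [CommRing P] [CommRing R'] [CommRing A₀] [CommRing B₀] [CommRing AU] [CommRing BU] [CommRing DP]
  [Algebra R U] [Algebra Θ₀ U] [Algebra U P] [Algebra P R'] [Algebra U R'] [IsScalarTower U P R']
  [Algebra R R'] [IsScalarTower R U R'] [Algebra Θ₀ R'] [IsScalarTower Θ₀ U R']
  [Algebra R A₀] [Algebra Θ₀ B₀] [Algebra P DP]
  [Algebra U AU] [Algebra A₀ AU] [Algebra R AU] [IsScalarTower R U AU] [IsScalarTower R A₀ AU]
  [Algebra.IsPushout R A₀ U AU]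
  [Algebra U BU] [Algebra B₀ BU] [Algebra Θ₀ BU] [IsScalarTower Θ₀ U BU] [IsScalarTower Θ₀ B₀ BU]
  [Algebra.IsPushout Θ₀ B₀ U BU]

/-- the final base change: from a correspondence over `P` to one over `R'`. -/
theorem exists_assemble [Algebra.Etale R R']
    (αP : P ⊗[U] AU →ₐ[P] DP) (hαP : αP.toRingHom.Etale)
    (βP : P ⊗[U] BU →ₐ[P] DP) (hβP : βP.toRingHom.Etale) :
    ∃ (α : A₀ →+* R' ⊗[P] DP) (β : B₀ ⊗[Θ₀] R' →+* R' ⊗[P] DP), α.Etale ∧ β.Etale ∧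
      (∀ a, α a = 1 ⊗ₜ αP (1 ⊗ₜ algebraMap A₀ AU a)) ∧
      (∀ b r, β (b ⊗ₜ r) = r ⊗ₜ βP (1 ⊗ₜ algebraMap B₀ BU b)) := by
  classical
  -- the `A` side
  let i₁ : A₀ →ₐ[A₀] A₀ ⊗[R] R' := Algebra.TensorProduct.includeLeft
  have hi₁ : i₁.toRingHom.Etale := by
    show (algebraMap A₀ (A₀ ⊗[R] R')).Etale
    exact RingHom.etale_algebraMap.mpr inferInstance
  let cA : AU ⊗[U] R' ≃ₐ[A₀] A₀ ⊗[R] R' := Algebra.IsPushout.cancelBaseChangeAlg R A₀ U AU R'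
  let mA : AU ⊗[U] R' ≃ₐ[U] R' ⊗[U] AU := Algebra.TensorProduct.comm U AU R'
  let c₂ : R' ⊗[P] (P ⊗[U] AU) ≃ₐ[R'] R' ⊗[U] AU :=
    Algebra.TensorProduct.cancelBaseChange U P R' R' AU
  let lA : R' ⊗[P] (P ⊗[U] AU) →ₐ[R'] R' ⊗[P] DP :=
    Algebra.TensorProduct.lTensor (S := R') R' αP
  have hlA : lA.toRingHom.Etale := etale_lTensor R' hαP
  let α : A₀ →+* R' ⊗[P] DP :=
    lA.toRingHom.comp (c₂.symm.toAlgHom.toRingHom.comp (mA.toAlgHom.toRingHom.comp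
      (cA.symm.toAlgHom.toRingHom.comp i₁.toRingHom)))
  -- the `B` side
  let cB : BU ⊗[U] R' ≃ₐ[B₀] B₀ ⊗[Θ₀] R' := Algebra.IsPushout.cancelBaseChangeAlg Θ₀ B₀ U BU R'
  let mB : BU ⊗[U] R' ≃ₐ[U] R' ⊗[U] BU := Algebra.TensorProduct.comm U BU R'
  let c₂' : R' ⊗[P] (P ⊗[U] BU) ≃ₐ[R'] R' ⊗[U] BU :=
    Algebra.TensorProduct.cancelBaseChange U P R' R' BU
  let lB : R' ⊗[P] (P ⊗[U] BU) →ₐ[R'] R' ⊗[P] DP :=
    Algebra.TensorProduct.lTensor (S := R') R' βP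
  have hlB : lB.toRingHom.Etale := etale_lTensor R' hβP
  let β : B₀ ⊗[Θ₀] R' →+* R' ⊗[P] DP :=
    lB.toRingHom.comp (c₂'.symm.toAlgHom.toRingHom.comp (mB.toAlgHom.toRingHom.comp
      cB.symm.toAlgHom.toRingHom))
  have hcomp := RingHom.Etale.stableUnderComposition
  have hbij : ∀ {X Y : Type u} [CommRing X] [CommRing Y] (f : X →+* Y), Function.Bijective f →
      f.Etale := fun f hf => RingHom.Etale.of_bijective hf
  refine ⟨α, β, ?_, ?_, ?_, ?_⟩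
  · refine hcomp _ _ (hcomp _ _ (hcomp _ _ (hcomp _ _ hi₁ (hbij _ cA.symm.bijective))
      (hbij _ mA.bijective)) (hbij _ c₂.symm.bijective)) hlA
  · refine hcomp _ _ (hcomp _ _ (hcomp _ _ (hbij _ cB.symm.bijective)
      (hbij _ mB.bijective)) (hbij _ c₂'.symm.bijective)) hlB
  · intro a
    show lA (c₂.symm (mA (cA.symm (a ⊗ₜ 1)))) = _
    rw [Algebra.IsPushout.cancelBaseChangeAlg_symm_tmul]
    simp [mA, c₂, lA]
  · intro b r
    show lB (c₂'.symm (mB (cB.symm (b ⊗ₜ r)))) = _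
    rw [Algebra.IsPushout.cancelBaseChangeAlg_symm_tmul]
    simp [mB, c₂', lB]

end assemble

section point
variable {S X Y Ω : Type*} [CommRing S] [CommRing X] [CommRing Y] [Field Ω] [Algebra S X]
  [Algebra S Y]

theorem range_tensor_subset (χ : X ⊗[S] Y →+* Ω) (F : Subfield Ω)
    (hX : ∀ x : X, χ (x ⊗ₜ 1) ∈ F) (hY : ∀ y : Y, χ (1 ⊗ₜ y) ∈ F) :
    Set.range χ ⊆ (F : Set Ω) := by
  rintro _ ⟨z, rfl⟩
  induction z with
  | zero => rw [map_zero]; exact zero_mem F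
  | add x y hx hy => rw [map_add]; exact add_mem hx hy
  | tmul x y =>
    have : x ⊗ₜ[S] y = (x ⊗ₜ[S] (1 : Y)) * ((1 : X) ⊗ₜ[S] y) := by simp
    rw [this, map_mul]
    exact mul_mem (hX x) (hY y)

theorem exists_point (ωX : X →+* Ω) (ωY : Y →+* Ω)
    (h : ∀ s : S, ωX (algebraMap S X s) = ωY (algebraMap S Y s)) :
    ∃ ω : X ⊗[S] Y →+* Ω, ∀ x y, ω (x ⊗ₜ y) = ωX x * ωY y := by
  letI : Algebra S Ω := (ωY.comp (algebraMap S Y)).toAlgebra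
  let fX : X →ₐ[S] Ω := ⟨ωX, h⟩
  let fY : Y →ₐ[S] Ω := ⟨ωY, fun _ => rfl⟩
  refine ⟨(Algebra.TensorProduct.lift fX fY (fun _ _ => Commute.all _ _)).toRingHom, fun x y => ?_⟩
  simp [fX, fY]

end point

end Groth.Agent.Lib.EtCorrH5
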