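import Mathlib
import Groth.Agent.Lib.ArtinApx_helper5
import Groth.Agent.Lib.AdicLift_helper2
import Groth.Agent.Lib.OmegaPt_helper5
import Groth.Agent.Lib.EtCorr3_helper5

set_option autoImplicit false
set_option linter.style.haveILetI false
set_option linter.unusedVariables false
set_option maxHeartbeats 1600000
universe u

open TensorProduct IsLocalRing

namespace Groth.Agent.Lib.EtCorrH5

open Groth.Agent.Lib.OmegaPtH5 Groth.Agent.Lib.ArtinApxH5

/-- transport of a localization at a prime along a ring isomorphism of the base. -/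
theorem atPrime_of_ringEquiv {R P S : Type*} [CommSemiring R] [CommSemiring P] [CommSemiring S] [Algebra R S]
    (𝔭 : Ideal R) [𝔭.IsPrime] [IsLocalization.AtPrime S 𝔭] (h : P ≃+* R) [Algebra P S]
    (halg : ∀ x, algebraMap P S x = algebraMap R S (h x))
    (𝔭' : Ideal P) [𝔭'.IsPrime] (h𝔭' : 𝔭' = 𝔭.comap h.toRingHom) :
    IsLocalization.AtPrime S 𝔭' := by
  subst h𝔭'
  constructor; constructor
  · rintro ⟨y, hy⟩
    rw [halg]
    exact IsLocalization.map_units S (⟨h y, hy⟩ : 𝔭.primeCompl)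
  · intro z
    obtain ⟨⟨x, s⟩, e⟩ := IsLocalization.surj 𝔭.primeCompl z
    refine ⟨⟨h.symm x, ⟨h.symm s.1, ?_⟩⟩, ?_⟩
    · show h.symm s.1 ∉ 𝔭.comap h.toRingHom
      rw [Ideal.mem_comap]
      show ¬ h (h.symm s.1) ∈ 𝔭
      rw [h.apply_symm_apply]
      exact s.2
    · show z * algebraMap P S (h.symm s.1) = algebraMap P S (h.symm x)
      rw [halg, halg, h.apply_symm_apply, h.apply_symm_apply]
      exact e
  · intro x y hxy
    rw [halg, halg] at hxy
    obtain ⟨c, hc⟩ := (IsLocalization.eq_iff_exists 𝔭.primeCompl S).mp hxy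
    refine ⟨⟨h.symm c.1, ?_⟩, ?_⟩
    · show h.symm c.1 ∉ 𝔭.comap h.toRingHom
      rw [Ideal.mem_comap]
      show ¬ h (h.symm c.1) ∈ 𝔭
      rw [h.apply_symm_apply]
      exact c.2
    · apply h.injective
      show h (h.symm c.1 * x) = h (h.symm c.1 * y)
      rw [map_mul, map_mul, h.apply_symm_apply]
      exact hc

section dense
variable {R Rs T : Type u} [CommRing R] [CommRing Rs] [Algebra R Rs] (𝔭s : Ideal R) [𝔭s.IsPrime]
  [IsLocalization.AtPrime Rs 𝔭s] [IsLocalRing Rs] [IsNoetherianRing Rs] [CommRing T]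

include 𝔭s in
/-- two ring homomorphisms from the completion of a localization, both continuous, agreeing on the
original ring, agree. -/
theorem ringHom_eq_of_dense (JT : Ideal T) [IsHausdorff JT T]
    (ψ₁ ψ₂ : AdicCompletion (maximalIdeal Rs) Rs →+* T)
    (h₁ : ∀ r' ∈ maximalIdeal Rs, ψ₁ (algebraMap Rs _ r') ∈ JT)
    (h₂ : ∀ r' ∈ maximalIdeal Rs, ψ₂ (algebraMap Rs _ r') ∈ JT)
    (h : ∀ r : R, ψ₁ (algebraMap R _ r) = ψ₂ (algebraMap R _ r)) : ψ₁ = ψ₂ := by
  have hcomp : ψ₁.comp (algebraMap Rs (AdicCompletion (maximalIdeal Rs) Rs)) =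
      ψ₂.comp (algebraMap Rs (AdicCompletion (maximalIdeal Rs) Rs)) := by
    apply IsLocalization.ringHom_ext 𝔭s.primeCompl
    refine RingHom.ext fun r => ?_
    show ψ₁ (algebraMap Rs _ (algebraMap R Rs r)) = ψ₂ (algebraMap Rs _ (algebraMap R Rs r))
    rw [← IsScalarTower.algebraMap_apply R Rs (AdicCompletion (maximalIdeal Rs) Rs)]
    exact h r
  refine Groth.Agent.Lib.AdicLift.ringHom_ext_of_dense (maximalIdeal Rs) JT
    (IsNoetherian.noetherian _) ψ₁ ψ₂ ?_ ?_ (fun c => RingHom.congr_fun hcomp c)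
  · rw [Ideal.map_le_iff_le_comap]
    exact fun r' hr' => h₁ r' hr'
  · rw [Ideal.map_le_iff_le_comap]
    exact fun r' hr' => h₂ r' hr'

include 𝔭s in
/-- the residue field of the completion is generated by the image of `R`. -/
theorem range_subset_closure_of_completion {Ω : Type*} [Field Ω]
    (χ : AdicCompletion (maximalIdeal Rs) Rs →+* Ω)
    (hχ : ∀ l ∈ maximalIdeal (AdicCompletion (maximalIdeal Rs) Rs), χ l = 0) :
    Set.range χ ⊆ (Subfield.closure (Set.range (χ.comp
      (algebraMap R (AdicCompletion (maximalIdeal Rs) Rs)))) : Set Ω) := by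
  rintro _ ⟨l, rfl⟩
  obtain ⟨r', hr'⟩ := Ideal.Quotient.mk_surjective (AdicCompletion.evalₐ (maximalIdeal Rs) 1 l)
  have h1 : l - algebraMap Rs (AdicCompletion (maximalIdeal Rs) Rs) r' ∈
      maximalIdeal (AdicCompletion (maximalIdeal Rs) Rs) := by
    rw [AdicCompletion.maximalIdeal_eq_map]
    have := mem_map_of_evalₐ_eq_zero (maximalIdeal Rs) (IsNoetherian.noetherian _) 1
      (l - algebraMap Rs (AdicCompletion (maximalIdeal Rs) Rs) r') (by
        rw [map_sub, AlgHom.commutes, ← hr']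
        exact sub_self _)
    rwa [pow_one] at this
  have h2 : χ l = χ (algebraMap Rs (AdicCompletion (maximalIdeal Rs) Rs) r') := by
    have := hχ _ h1
    rwa [map_sub, sub_eq_zero] at this
  rw [h2]
  obtain ⟨x, s, rfl⟩ := IsLocalization.exists_mk'_eq 𝔭s.primeCompl r'
  have hspec : IsLocalization.mk' Rs x s * algebraMap R Rs s = algebraMap R Rs x :=
    IsLocalization.mk'_spec Rs x s
  have hsu : IsUnit (algebraMap R Rs (s : R)) := IsLocalization.map_units Rs s
  have hs0 : χ (algebraMap R (AdicCompletion (maximalIdeal Rs) Rs) (s : R)) ≠ 0 := by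
    rw [IsScalarTower.algebraMap_apply R Rs (AdicCompletion (maximalIdeal Rs) Rs)]
    exact ((hsu.map _).map χ).ne_zero
  have h3 : χ (algebraMap Rs (AdicCompletion (maximalIdeal Rs) Rs) (IsLocalization.mk' Rs x s)) =
      χ (algebraMap R (AdicCompletion (maximalIdeal Rs) Rs) x) /
        χ (algebraMap R (AdicCompletion (maximalIdeal Rs) Rs) (s : R)) := by
    rw [eq_div_iff hs0, IsScalarTower.algebraMap_apply R Rs (AdicCompletion (maximalIdeal Rs) Rs),
      IsScalarTower.algebraMap_apply R Rs (AdicCompletion (maximalIdeal Rs) Rs), ← map_mul,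
      ← map_mul, hspec]
  rw [h3]
  exact div_mem (Subfield.subset_closure ⟨x, rfl⟩) (Subfield.subset_closure ⟨s, rfl⟩)

end dense

section pushout
variable {R A₀ U AU Ω : Type*} [CommRing R] [CommRing A₀] [CommRing U] [CommRing AU] [Field Ω]
  [Algebra R A₀] [Algebra R U] [Algebra U AU] [Algebra A₀ AU] [Algebra R AU]
  [IsScalarTower R U AU] [IsScalarTower R A₀ AU]

theorem range_pushout_subset [Algebra.IsPushout R A₀ U AU] (χ : AU →+* Ω) (F : Subfield Ω)
    (hA : ∀ a : A₀, χ (algebraMap A₀ AU a) ∈ F) (hU : ∀ u : U, χ (algebraMap U AU u) ∈ F) :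
    Set.range χ ⊆ (F : Set Ω) := by
  let e : A₀ ⊗[R] U ≃ₐ[A₀] AU := Algebra.IsPushout.equiv R A₀ U AU
  have h1 : Set.range (χ.comp e.toAlgHom.toRingHom) ⊆ (F : Set Ω) := by
    apply range_tensor_subset
    · intro a
      show χ (e (a ⊗ₜ 1)) ∈ F
      rw [Algebra.IsPushout.equiv_tmul, map_one, mul_one]
      exact hA a
    · intro u
      show χ (e (1 ⊗ₜ u)) ∈ F
      rw [Algebra.IsPushout.equiv_tmul, map_one, one_mul]
      exact hU u
  rintro _ ⟨z, rfl⟩
  exact h1 ⟨e.symm z, by simp⟩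

end pushout

end Groth.Agent.Lib.EtCorrH5
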