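import Mathlib
import Groth.Prelude.Def_Found
import Groth.Agent.S0543
import Groth.Agent.Lib.GRingComplete_helper3
import Groth.Agent.Lib.EtApxSch1_helper5
import Groth.Agent.Lib.EtApxSch3_helper5
import Groth.Agent.Lib.EtApxSch5_helper5
import Groth.Agent.Lib.ComplBC_helper5
import Groth.Agent.Lib.EtCorr1_helper5
import Groth.Agent.Lib.EtCorr2_helper5
import Groth.Agent.Lib.DescCorr2_helper5
import Groth.Agent.Lib.EtCorr3_helper5
import Groth.Agent.Lib.EtCorr4_helper5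

set_option autoImplicit false
set_option linter.style.haveILetI false
set_option linter.unusedVariables false
set_option maxHeartbeats 3200000
universe u

open TensorProduct IsLocalRing

namespace Groth.Agent.Lib.EtCorrH5

open Groth.Agent.Lib.OmegaPtH5 Groth.Agent.Lib.ArtinApxH5 Groth.Agent.Lib.ComplBCH5
  Groth.Agent.Lib.DescCorrH5 Groth.Agent.Lib.EtApxSchH5

section main
variable {R Rs A₀ Kx Θ₀ B₀ OY U AU BU : Type u}
  [CommRing R] [IsNoetherianRing R] [CommRing Rs] [Algebra R Rs] (𝔭s : Ideal R) [𝔭s.IsPrime]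
  [IsLocalization.AtPrime Rs 𝔭s] [IsLocalRing Rs] [IsNoetherianRing Rs]
  [CommRing A₀] [Algebra R A₀] (𝔭 : Ideal A₀) [𝔭.IsPrime]
  [CommRing Kx] [Algebra A₀ Kx] [IsLocalization.AtPrime Kx 𝔭] [IsLocalRing Kx]
  [CommRing Θ₀] [CommRing B₀] [Algebra Θ₀ B₀] (𝔮 : Ideal B₀) [𝔮.IsPrime]
  [CommRing U] [Algebra R U] [Algebra Θ₀ U] [Algebra.FiniteType R U]
  [Algebra U (AdicCompletion (maximalIdeal Rs) Rs)]
  [IsScalarTower R U (AdicCompletion (maximalIdeal Rs) Rs)]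
  [CommRing AU] [Algebra U AU] [Algebra A₀ AU] [Algebra R AU] [IsScalarTower R U AU]
  [IsScalarTower R A₀ AU] [Algebra.IsPushout R A₀ U AU] [Algebra.FinitePresentation U AU]
  [CommRing BU] [Algebra U BU] [Algebra B₀ BU] [Algebra Θ₀ BU] [IsScalarTower Θ₀ U BU]
  [IsScalarTower Θ₀ B₀ BU] [Algebra.IsPushout Θ₀ B₀ U BU] [Algebra.FinitePresentation U BU]
  (𝔮σ : Ideal (AdicCompletion (maximalIdeal Rs) Rs ⊗[U] BU)) [𝔮σ.IsPrime]
  [CommRing OY] [Algebra (AdicCompletion (maximalIdeal Rs) Rs ⊗[U] BU) OY]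
  [IsLocalization.AtPrime OY 𝔮σ] [IsLocalRing OY]

/-- the isomorphism `L ⊗[U] AU ≃ L ⊗[R] A₀`. -/
noncomputable def xi : AdicCompletion (maximalIdeal Rs) Rs ⊗[U] AU ≃+*
    AdicCompletion (maximalIdeal Rs) Rs ⊗[R] A₀ :=
  ((Algebra.TensorProduct.comm U (AdicCompletion (maximalIdeal Rs) Rs) AU).toRingEquiv.trans
    (Algebra.IsPushout.cancelBaseChangeAlg R A₀ U AU
      (AdicCompletion (maximalIdeal Rs) Rs)).toRingEquiv).trans
    (Algebra.TensorProduct.comm R A₀ (AdicCompletion (maximalIdeal Rs) Rs)).toRingEquiv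

theorem xi_symm_tmul (l : AdicCompletion (maximalIdeal Rs) Rs) (a : A₀) :
    (xi (R := R) (Rs := Rs) (A₀ := A₀) (U := U) (AU := AU)).symm (l ⊗ₜ a) =
      l ⊗ₜ algebraMap A₀ AU a := by
  simp [xi]

theorem xi_tmul (l : AdicCompletion (maximalIdeal Rs) Rs) (a : A₀) :
    xi (R := R) (Rs := Rs) (A₀ := A₀) (U := U) (AU := AU) (l ⊗ₜ algebraMap A₀ AU a) = l ⊗ₜ a := by
  rw [← xi_symm_tmul (R := R) (U := U), RingEquiv.apply_symm_apply]

include 𝔭s in
/-- Step 0: the local ring of `L ⊗[U] AU` at the point over `𝔭` and the closed point, and its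
completion. -/
theorem step0 (h𝔭 : 𝔭.comap (algebraMap R A₀) = 𝔭s) :
    ∃ (K : Type u) (_ : CommRing K) (_ : IsLocalRing K)
      (_ : Algebra (AdicCompletion (maximalIdeal Rs) Rs ⊗[U] AU) K)
      (𝔭'' : Ideal (AdicCompletion (maximalIdeal Rs) Rs ⊗[U] AU)) (_ : 𝔭''.IsPrime)
      (_ : IsLocalization.AtPrime K 𝔭'')
      (e₁ : AdicCompletion (maximalIdeal Kx) Kx ≃+* AdicCompletion (maximalIdeal K) K),
      (∀ a : A₀, e₁ (algebraMap Kx (AdicCompletion (maximalIdeal Kx) Kx) (algebraMap A₀ Kx a)) =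
        algebraMap K (AdicCompletion (maximalIdeal K) K)
          (algebraMap (AdicCompletion (maximalIdeal Rs) Rs ⊗[U] AU) K
            (1 ⊗ₜ algebraMap A₀ AU a))) ∧
      (∀ a : A₀, (1 : AdicCompletion (maximalIdeal Rs) Rs) ⊗ₜ[U] algebraMap A₀ AU a ∈ 𝔭'' ↔
        a ∈ 𝔭) ∧
      (∀ l ∈ maximalIdeal (AdicCompletion (maximalIdeal Rs) Rs), l ⊗ₜ[U] (1 : AU) ∈ 𝔭'') := by
  classical
  obtain ⟨ρ, hρ, hloc⟩ := exists_rho 𝔭s 𝔭 (Rs := Rs) (Kx := Kx) h𝔭
  obtain ⟨e₁, he₁⟩ := exists_complIso ρ hρ hloc 𝔭s 𝔭 (Localization.AtPrime (primeBC ρ hρ hloc))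
  let ξ : AdicCompletion (maximalIdeal Rs) Rs ⊗[U] AU ≃+*
      AdicCompletion (maximalIdeal Rs) Rs ⊗[R] A₀ := xi
  letI algK : Algebra (AdicCompletion (maximalIdeal Rs) Rs ⊗[U] AU)
      (Localization.AtPrime (primeBC ρ hρ hloc)) :=
    ((algebraMap (AdicCompletion (maximalIdeal Rs) Rs ⊗[R] A₀)
      (Localization.AtPrime (primeBC ρ hρ hloc))).comp ξ.toRingHom).toAlgebra
  have halgK : ∀ x, algebraMap (AdicCompletion (maximalIdeal Rs) Rs ⊗[U] AU)
      (Localization.AtPrime (primeBC ρ hρ hloc)) x =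
      algebraMap (AdicCompletion (maximalIdeal Rs) Rs ⊗[R] A₀)
        (Localization.AtPrime (primeBC ρ hρ hloc)) (ξ x) :=
    fun x => rfl
  haveI hprime : ((primeBC ρ hρ hloc).comap ξ.toRingHom).IsPrime := Ideal.comap_isPrime _ _
  have locK : IsLocalization.AtPrime (Localization.AtPrime (primeBC ρ hρ hloc))
      ((primeBC ρ hρ hloc).comap ξ.toRingHom) :=
    atPrime_of_ringEquiv (primeBC ρ hρ hloc) ξ halgK _ rfl
  refine ⟨Localization.AtPrime (primeBC ρ hρ hloc), inferInstance, inferInstance, algK,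
    (primeBC ρ hρ hloc).comap ξ.toRingHom, hprime, locK, e₁, ?_, ?_, ?_⟩
  · intro a
    rw [he₁, halgK]
    congr 2
    exact (xi_tmul (R := R) (U := U) 1 a).symm
  · intro a
    rw [Ideal.mem_comap]
    show ξ (1 ⊗ₜ algebraMap A₀ AU a) ∈ _ ↔ _
    rw [show ξ (1 ⊗ₜ algebraMap A₀ AU a) = 1 ⊗ₜ a from xi_tmul (R := R) (U := U) 1 a]
    exact one_tmul_mem_primeBC_iff ρ hρ hloc 𝔭 a
  · intro l hl
    rw [Ideal.mem_comap]
    show ξ (l ⊗ₜ 1) ∈ _
    have : ξ (l ⊗ₜ[U] (1 : AU)) = l ⊗ₜ[R] (1 : A₀) := by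
      have := xi_tmul (R := R) (U := U) (AU := AU) l (1 : A₀)
      rwa [map_one] at this
    rw [this]
    exact tmul_one_mem_primeBC ρ hρ hloc l hl

end main

end Groth.Agent.Lib.EtCorrH5
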