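import Mathlib
import Groth.Prelude.Def_Found
import Groth.Agent.S0543
import Groth.Agent.Lib.GRingComplete_helper3
import Groth.Agent.Lib.EtApxSch1_helper5
import Groth.Agent.Lib.EtApxSch3_helper5
import Groth.Agent.Lib.EtApxSch5_helper5
import Groth.Agent.Lib.ComplBC_helper5
import Groth.Agent.Lib.EtCorr1_helper5
import Groth.Agent.Lib.EtCorr2_helper5
import Groth.Agent.Lib.DescCorr2_helper5
import Groth.Agent.Lib.EtCorr3_helper5
import Groth.Agent.Lib.EtCorr4_helper5
import Groth.Agent.Lib.EtCorr5_helper5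

set_option autoImplicit false
set_option linter.style.haveILetI false
set_option linter.unusedVariables false
set_option maxHeartbeats 3200000
universe u

open TensorProduct IsLocalRing

namespace Groth.Agent.Lib.EtCorrH5

open Groth.Agent.Lib.OmegaPtH5 Groth.Agent.Lib.ArtinApxH5 Groth.Agent.Lib.ComplBCH5
  Groth.Agent.Lib.DescCorrH5 Groth.Agent.Lib.EtApxSchH5

section main
variable {R Rs A₀ Kx Θ₀ B₀ OY U AU BU : Type u}
  [CommRing R] [IsNoetherianRing R] [CommRing Rs] [Algebra R Rs] (𝔭s : Ideal R) [𝔭s.IsPrime]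
  [IsLocalization.AtPrime Rs 𝔭s] [IsLocalRing Rs] [IsNoetherianRing Rs]
  [CommRing A₀] [Algebra R A₀] (𝔭 : Ideal A₀) [𝔭.IsPrime]
  [CommRing Kx] [Algebra A₀ Kx] [IsLocalization.AtPrime Kx 𝔭] [IsLocalRing Kx]
  [CommRing Θ₀] [CommRing B₀] [Algebra Θ₀ B₀] (𝔮 : Ideal B₀) [𝔮.IsPrime]
  [CommRing U] [Algebra R U] [Algebra Θ₀ U] [Algebra.FiniteType R U]
  [Algebra U (AdicCompletion (maximalIdeal Rs) Rs)]
  [IsScalarTower R U (AdicCompletion (maximalIdeal Rs) Rs)]
  [CommRing AU] [Algebra U AU] [Algebra A₀ AU] [Algebra R AU] [IsScalarTower R U AU]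
  [IsScalarTower R A₀ AU] [Algebra.IsPushout R A₀ U AU] [Algebra.FinitePresentation U AU]
  [CommRing BU] [Algebra U BU] [Algebra B₀ BU] [Algebra Θ₀ BU] [IsScalarTower Θ₀ U BU]
  [IsScalarTower Θ₀ B₀ BU] [Algebra.IsPushout Θ₀ B₀ U BU] [Algebra.FinitePresentation U BU]
  (𝔮σ : Ideal (AdicCompletion (maximalIdeal Rs) Rs ⊗[U] BU)) [𝔮σ.IsPrime]
  [CommRing OY] [Algebra (AdicCompletion (maximalIdeal Rs) Rs ⊗[U] BU) OY]
  [IsLocalization.AtPrime OY 𝔮σ] [IsLocalRing OY]

include 𝔭s AU in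
/-- Step 0': the isomorphism of completions over `L`, linear over `L`. -/
theorem step0' (hG : CAlg.IsGRing Rs) (h𝔭 : 𝔭.comap (algebraMap R A₀) = 𝔭s)
    (h𝔮2 : ∀ l ∈ maximalIdeal (AdicCompletion (maximalIdeal Rs) Rs),
      l ⊗ₜ[U] (1 : BU) ∈ 𝔮σ)
    (φ : AdicCompletion (maximalIdeal Kx) Kx ≃+* AdicCompletion (maximalIdeal OY) OY)
    (hφ : ∀ r : R, φ (algebraMap Kx (AdicCompletion (maximalIdeal Kx) Kx)
        (algebraMap A₀ Kx (algebraMap R A₀ r))) =
      algebraMap OY (AdicCompletion (maximalIdeal OY) OY)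
        (algebraMap (AdicCompletion (maximalIdeal Rs) Rs ⊗[U] BU) OY
          (algebraMap R (AdicCompletion (maximalIdeal Rs) Rs) r ⊗ₜ 1))) :
    ∃ (K : Type u) (_ : CommRing K) (_ : IsLocalRing K)
      (_ : Algebra (AdicCompletion (maximalIdeal Rs) Rs ⊗[U] AU) K)
      (𝔭'' : Ideal (AdicCompletion (maximalIdeal Rs) Rs ⊗[U] AU)) (_ : 𝔭''.IsPrime)
      (_ : IsLocalization.AtPrime K 𝔭''), CAlg.IsGRing K ∧
      ∃ (φ' : AdicCompletion (maximalIdeal OY) OY ≃+* AdicCompletion (maximalIdeal K) K),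
      (∀ l : AdicCompletion (maximalIdeal Rs) Rs,
        φ' (algebraMap OY (AdicCompletion (maximalIdeal OY) OY)
          (algebraMap (AdicCompletion (maximalIdeal Rs) Rs ⊗[U] BU) OY
            (algebraMap (AdicCompletion (maximalIdeal Rs) Rs) _ l))) =
        algebraMap K (AdicCompletion (maximalIdeal K) K)
          (algebraMap (AdicCompletion (maximalIdeal Rs) Rs ⊗[U] AU) K
            (algebraMap (AdicCompletion (maximalIdeal Rs) Rs) _ l))) ∧
      (∀ a : A₀, (1 : AdicCompletion (maximalIdeal Rs) Rs) ⊗ₜ[U] algebraMap A₀ AU a ∈ 𝔭'' ↔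
        a ∈ 𝔭) ∧
      (∀ l ∈ maximalIdeal (AdicCompletion (maximalIdeal Rs) Rs), l ⊗ₜ[U] (1 : AU) ∈ 𝔭'') := by
  classical
  haveI : IsNoetherianRing (AdicCompletion (maximalIdeal Rs) Rs) := Groth.Agent.S0543.result _ _
  have hmaxL : maximalIdeal (AdicCompletion (maximalIdeal Rs) Rs) =
      (maximalIdeal Rs).map (algebraMap Rs (AdicCompletion (maximalIdeal Rs) Rs)) :=
    AdicCompletion.maximalIdeal_eq_map
  haveI cplL : IsAdicComplete (maximalIdeal (AdicCompletion (maximalIdeal Rs) Rs))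
      (AdicCompletion (maximalIdeal Rs) Rs) := by
    rw [hmaxL]
    exact AdicCompletion.isAdicComplete_self _ (IsNoetherian.noetherian _)
  have hGL : CAlg.IsGRing (AdicCompletion (maximalIdeal Rs) Rs) :=
    Groth.Agent.Lib.GRingCompleteH3.isGRing_of_complete _
  obtain ⟨K, iK1, iK2, iK3, 𝔭'', iK4, iK5, e₁, he₁, h𝔭''A, h𝔭''L⟩ :=
    step0 (U := U) (AU := AU) 𝔭s 𝔭 (Rs := Rs) (Kx := Kx) h𝔭
  -- `K` is a G-ring
  letI algLK : Algebra (AdicCompletion (maximalIdeal Rs) Rs) K :=
    ((algebraMap (AdicCompletion (maximalIdeal Rs) Rs ⊗[U] AU) K).comp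
      (algebraMap (AdicCompletion (maximalIdeal Rs) Rs) _)).toAlgebra
  haveI twLK : IsScalarTower (AdicCompletion (maximalIdeal Rs) Rs)
      (AdicCompletion (maximalIdeal Rs) Rs ⊗[U] AU) K :=
    IsScalarTower.of_algebraMap_eq' rfl
  haveI : Algebra.EssFiniteType (AdicCompletion (maximalIdeal Rs) Rs ⊗[U] AU) K :=
    Algebra.EssFiniteType.of_isLocalization K 𝔭''.primeCompl
  haveI : Algebra.FiniteType (AdicCompletion (maximalIdeal Rs) Rs)
      (AdicCompletion (maximalIdeal Rs) Rs ⊗[U] AU) := inferInstance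
  haveI : Algebra.EssFiniteType (AdicCompletion (maximalIdeal Rs) Rs) K :=
    Algebra.EssFiniteType.comp _ (AdicCompletion (maximalIdeal Rs) Rs ⊗[U] AU) K
  have hGK : CAlg.IsGRing K := isGRing_of_essFiniteType' _ hGL K
  haveI : IsNoetherianRing K := hGK.1
  refine ⟨K, iK1, iK2, iK3, 𝔭'', iK4, iK5, hGK, φ.symm.trans e₁, ?_, h𝔭''A, h𝔭''L⟩
  -- Noetherianity of `OY`
  haveI : Algebra.FiniteType (AdicCompletion (maximalIdeal Rs) Rs)
      (AdicCompletion (maximalIdeal Rs) Rs ⊗[U] BU) := inferInstance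
  haveI : IsNoetherianRing (AdicCompletion (maximalIdeal Rs) Rs ⊗[U] BU) :=
    Algebra.FiniteType.isNoetherianRing (AdicCompletion (maximalIdeal Rs) Rs) _
  haveI : IsNoetherianRing OY := IsLocalization.isNoetherianRing 𝔮σ.primeCompl OY inferInstance
  have hmaxK : maximalIdeal (AdicCompletion (maximalIdeal K) K) =
      (maximalIdeal K).map (algebraMap K (AdicCompletion (maximalIdeal K) K)) :=
    AdicCompletion.maximalIdeal_eq_map
  haveI cplK : IsAdicComplete (maximalIdeal (AdicCompletion (maximalIdeal K) K))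
      (AdicCompletion (maximalIdeal K) K) := by
    rw [hmaxK]
    exact AdicCompletion.isAdicComplete_self _ (IsNoetherian.noetherian _)
  let ψ₁ : AdicCompletion (maximalIdeal Rs) Rs →+* AdicCompletion (maximalIdeal K) K :=
    (φ.symm.trans e₁).toRingHom.comp ((algebraMap OY (AdicCompletion (maximalIdeal OY) OY)).comp
      ((algebraMap (AdicCompletion (maximalIdeal Rs) Rs ⊗[U] BU) OY).comp
        (algebraMap (AdicCompletion (maximalIdeal Rs) Rs) _)))
  let ψ₂ : AdicCompletion (maximalIdeal Rs) Rs →+* AdicCompletion (maximalIdeal K) K :=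
    (algebraMap K (AdicCompletion (maximalIdeal K) K)).comp
      ((algebraMap (AdicCompletion (maximalIdeal Rs) Rs ⊗[U] AU) K).comp
        (algebraMap (AdicCompletion (maximalIdeal Rs) Rs) _))
  have key : ψ₁ = ψ₂ := by
    apply ringHom_eq_of_dense 𝔭s (maximalIdeal (AdicCompletion (maximalIdeal K) K)) ψ₁ ψ₂
    · intro r' hr'
      have h1 : algebraMap Rs (AdicCompletion (maximalIdeal Rs) Rs) r' ∈
          maximalIdeal (AdicCompletion (maximalIdeal Rs) Rs) := by
        rw [hmaxL]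
        exact Ideal.mem_map_of_mem _ hr'
      have h2 : algebraMap (AdicCompletion (maximalIdeal Rs) Rs ⊗[U] BU) OY
          (algebraMap (AdicCompletion (maximalIdeal Rs) Rs) _
            (algebraMap Rs (AdicCompletion (maximalIdeal Rs) Rs) r')) ∈ maximalIdeal OY := by
        rw [IsLocalization.AtPrime.to_map_mem_maximal_iff OY 𝔮σ]
        exact h𝔮2 _ h1
      rw [hmaxK]
      exact equiv_comp_local (φ.symm.trans e₁) _ h2
    · intro r' hr'
      have h1 : algebraMap Rs (AdicCompletion (maximalIdeal Rs) Rs) r' ∈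
          maximalIdeal (AdicCompletion (maximalIdeal Rs) Rs) := by
        rw [hmaxL]
        exact Ideal.mem_map_of_mem _ hr'
      have h2 : algebraMap (AdicCompletion (maximalIdeal Rs) Rs ⊗[U] AU) K
          (algebraMap (AdicCompletion (maximalIdeal Rs) Rs) _
            (algebraMap Rs (AdicCompletion (maximalIdeal Rs) Rs) r')) ∈ maximalIdeal K := by
        rw [IsLocalization.AtPrime.to_map_mem_maximal_iff K 𝔭'']
        exact h𝔭''L _ h1
      rw [hmaxK]
      exact Ideal.mem_map_of_mem _ h2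
    · intro r
      show e₁ (φ.symm (algebraMap OY (AdicCompletion (maximalIdeal OY) OY)
        (algebraMap (AdicCompletion (maximalIdeal Rs) Rs ⊗[U] BU) OY
          (algebraMap R (AdicCompletion (maximalIdeal Rs) Rs) r ⊗ₜ 1)))) =
        algebraMap K (AdicCompletion (maximalIdeal K) K)
          (algebraMap (AdicCompletion (maximalIdeal Rs) Rs ⊗[U] AU) K
            (algebraMap R (AdicCompletion (maximalIdeal Rs) Rs) r ⊗ₜ 1))
      rw [← hφ, RingEquiv.symm_apply_apply, he₁]
      congr 2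
      rw [← IsScalarTower.algebraMap_apply R A₀ AU, IsScalarTower.algebraMap_apply R U AU,
        IsScalarTower.algebraMap_apply R U (AdicCompletion (maximalIdeal Rs) Rs),
        Algebra.algebraMap_eq_smul_one (algebraMap R U r),
        Algebra.algebraMap_eq_smul_one (algebraMap R U r), TensorProduct.smul_tmul]
  intro l
  exact RingHom.congr_fun key l

include 𝔭s AU in
/-- **Ring-level form of the matching of étale neighbourhoods after completed base change.** -/
theorem main_ring (hG : CAlg.IsGRing Rs) (h𝔭 : 𝔭.comap (algebraMap R A₀) = 𝔭s)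
    (h𝔮1 : 𝔮σ.comap ((Algebra.TensorProduct.includeRight :
      BU →ₐ[U] AdicCompletion (maximalIdeal Rs) Rs ⊗[U] BU).toRingHom.comp
        (algebraMap B₀ BU)) = 𝔮)
    (h𝔮2 : ∀ l ∈ maximalIdeal (AdicCompletion (maximalIdeal Rs) Rs),
      l ⊗ₜ[U] (1 : BU) ∈ 𝔮σ)
    (φ : AdicCompletion (maximalIdeal Kx) Kx ≃+* AdicCompletion (maximalIdeal OY) OY)
    (hφ : ∀ r : R, φ (algebraMap Kx (AdicCompletion (maximalIdeal Kx) Kx)
        (algebraMap A₀ Kx (algebraMap R A₀ r))) =
      algebraMap OY (AdicCompletion (maximalIdeal OY) OY)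
        (algebraMap (AdicCompletion (maximalIdeal Rs) Rs ⊗[U] BU) OY
          (algebraMap R (AdicCompletion (maximalIdeal Rs) Rs) r ⊗ₜ 1))) :
    ∃ (R' : Type u) (_ : CommRing R') (_ : Algebra R R') (_ : Algebra Θ₀ R') (D : Type u)
      (_ : CommRing D) (α : A₀ →+* D) (β : B₀ ⊗[Θ₀] R' →+* D) (Ω : Type u) (_ : Field Ω)
      (ω : D →+* Ω),
      Algebra.Etale R R' ∧ α.Etale ∧ β.Etale ∧
      (∀ r : R, α (algebraMap R A₀ r) = β (1 ⊗ₜ algebraMap R R' r)) ∧
      RingHom.ker (ω.comp α) = 𝔭 ∧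
      RingHom.ker (ω.comp (β.comp
        (Algebra.TensorProduct.includeLeft : B₀ →ₐ[Θ₀] B₀ ⊗[Θ₀] R').toRingHom)) = 𝔮 ∧
      FS (algebraMap R R') (ω.comp (β.comp
        (Algebra.TensorProduct.includeRight : R' →ₐ[Θ₀] B₀ ⊗[Θ₀] R').toRingHom)) ∧
      FS α ω ∧ FS β ω := by
  classical
  haveI : IsNoetherianRing (AdicCompletion (maximalIdeal Rs) Rs) := Groth.Agent.S0543.result _ _
  have hmaxL : maximalIdeal (AdicCompletion (maximalIdeal Rs) Rs) =
      (maximalIdeal Rs).map (algebraMap Rs (AdicCompletion (maximalIdeal Rs) Rs)) :=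
    AdicCompletion.maximalIdeal_eq_map
  obtain ⟨K, iK1, iK2, iK3, 𝔭'', iK4, iK5, hGK, φ', hφ', h𝔭''A, h𝔭''L⟩ :=
    step0' (U := U) (AU := AU) 𝔭s 𝔭 𝔮σ hG h𝔭 h𝔮2 φ hφ
  haveI : Algebra.FiniteType (AdicCompletion (maximalIdeal Rs) Rs)
      (AdicCompletion (maximalIdeal Rs) Rs ⊗[U] AU) := inferInstance
  haveI : Algebra.FiniteType (AdicCompletion (maximalIdeal Rs) Rs)
      (AdicCompletion (maximalIdeal Rs) Rs ⊗[U] BU) := inferInstance
  -- Step 1
  obtain ⟨R'₀, iR1, iR2, het₀, p'₀, hp'₀, t, htet, htL, hcomapA, hcomapB, hfracA, hfracB⟩ :=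
    exists_common_etale (Λ := AdicCompletion (maximalIdeal Rs) Rs) 𝔭'' hGK 𝔮σ φ' hφ'
  -- Step 2
  obtain ⟨D'', iD, lam, ω'', QA, εA, QB, εB, hωlam, hFSlam, hεA, hεB⟩ :=
    exists_std_corr (A := AdicCompletion (maximalIdeal Rs) Rs ⊗[U] AU) t htet p'₀
  -- Step 3
  have hLε : ∀ l : AdicCompletion (maximalIdeal Rs) Rs,
      εA (algebraMap _ QA.Ring (l ⊗ₜ[U] (1 : AU))) =
        εB (algebraMap _ QB.Ring (l ⊗ₜ[U] (1 : BU))) := by
    intro l
    rw [hεA, hεB]
    congr 1
    exact (htL l).symm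
  obtain ⟨P, iP1, iP2, iP3, ι, DP, iDP1, iDP2, αP, βP, j, hαP, hβP, hjα, hjβ⟩ :=
    descend_corr AU BU QA εA QB εB hLε
  -- Step 4: a section over an étale neighbourhood
  letI algRP : Algebra R P := ((algebraMap U P).comp (algebraMap R U)).toAlgebra
  haveI twRUP : IsScalarTower R U P := IsScalarTower.of_algebraMap_eq' rfl
  haveI : Algebra.FiniteType R P := Algebra.FiniteType.trans (S := U) inferInstance inferInstance
  haveI : Algebra.FinitePresentation R P := Algebra.FinitePresentation.of_finiteType.mp inferInstance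
  have hιR : ∀ r : R, ι.toRingHom (algebraMap R P r) =
      algebraMap Rs (AdicCompletion (maximalIdeal Rs) Rs) (algebraMap R Rs (algebraMap R R r)) := by
    intro r
    show ι (algebraMap U P (algebraMap R U r)) = _
    rw [AlgHom.commutes, ← IsScalarTower.algebraMap_apply R U (AdicCompletion (maximalIdeal Rs) Rs),
      IsScalarTower.algebraMap_apply R Rs (AdicCompletion (maximalIdeal Rs) Rs)]
    rfl
  obtain ⟨R', iR'1, iR'2, het, ψ, p', hp', hψ, hcomap, hfrac, hψp, t₂, ht₂R, happ⟩ :=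
    approx_alg (Λ := R) (A := R) (B := P) (K := Rs) 𝔭s hG ι.toRingHom hιR 1
  -- Step 5: algebra structures on `R'`
  letI algPR' : Algebra P R' := t₂.toAlgebra
  letI algUR' : Algebra U R' := (t₂.comp (algebraMap U P)).toAlgebra
  haveI twUPR' : IsScalarTower U P R' := IsScalarTower.of_algebraMap_eq' rfl
  haveI twRUR' : IsScalarTower R U R' := IsScalarTower.of_algebraMap_eq (fun r => by
    show algebraMap R R' r = t₂ (algebraMap U P (algebraMap R U r))
    exact (ht₂R r).symm)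
  letI algΘR' : Algebra Θ₀ R' := ((algebraMap U R').comp (algebraMap Θ₀ U)).toAlgebra
  haveI twΘUR' : IsScalarTower Θ₀ U R' := IsScalarTower.of_algebraMap_eq' rfl
  obtain ⟨α, β, hα, hβ, hαf, hβf⟩ := exists_assemble (R := R) (Θ₀ := Θ₀) (U := U) (P := P)
    (R' := R') (A₀ := A₀) (B₀ := B₀) αP hαP βP hβP
  -- Step 6: the points
  let ω₀ : R'₀ →+* p'₀.ResidueField := algebraMap R'₀ p'₀.ResidueField
  have hω₀ : ∀ x, ω₀ x = 0 ↔ x ∈ p'₀ := fun x => by
    rw [← RingHom.mem_ker, Ideal.ker_algebraMap_residueField]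
  let χL : AdicCompletion (maximalIdeal Rs) Rs →+* p'₀.ResidueField :=
    ω₀.comp ((algebraMap (AdicCompletion (maximalIdeal Rs) Rs ⊗[U] AU) R'₀).comp
      (algebraMap (AdicCompletion (maximalIdeal Rs) Rs) _))
  have hχL : ∀ l, χL l = ω₀ (algebraMap (AdicCompletion (maximalIdeal Rs) Rs ⊗[U] AU) R'₀
      (l ⊗ₜ 1)) := fun l => rfl
  have hmemA : ∀ x : AdicCompletion (maximalIdeal Rs) Rs ⊗[U] AU,
      algebraMap _ R'₀ x ∈ p'₀ ↔ x ∈ 𝔭'' := fun x => by
    rw [← hcomapA]; rfl
  have hmemB : ∀ y : AdicCompletion (maximalIdeal Rs) Rs ⊗[U] BU, t y ∈ p'₀ ↔ y ∈ 𝔮σ := fun y => by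
    rw [← hcomapB]; rfl
  have hχL0 : ∀ l ∈ maximalIdeal (AdicCompletion (maximalIdeal Rs) Rs), χL l = 0 := by
    intro l hl
    rw [hχL, hω₀, hmemA]
    exact h𝔭''L l hl
  let ωP : DP →+* p'₀.ResidueField := ω''.comp j
  let ωR : R' →+* p'₀.ResidueField := χL.comp ψ
  have hωPα : ∀ x : P ⊗[U] AU, ωP (αP x) = ω₀ (algebraMap _ R'₀
      (Algebra.TensorProduct.map ι (AlgHom.id U AU) x)) := by
    intro x
    show ω'' (j (αP x)) = _
    rw [hjα, hεA, hωlam]
  have hωPβ : ∀ y : P ⊗[U] BU, ωP (βP y) = ω₀ (t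
      (Algebra.TensorProduct.map ι (AlgHom.id U BU) y)) := by
    intro y
    show ω'' (j (βP y)) = _
    rw [hjβ, hεB, hωlam]
  have hcompat : ∀ p : P, ωR (algebraMap P R' p) = ωP (algebraMap P DP p) := by
    intro p
    have h1 : ωP (algebraMap P DP p) = χL (ι p) := by
      have : algebraMap P DP p = αP (algebraMap P (P ⊗[U] AU) p) := (αP.commutes p).symm
      rw [this, hωPα, Algebra.TensorProduct.algebraMap_apply, Algebra.TensorProduct.map_tmul,
        map_one]
      rfl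
    rw [h1]
    show χL (ψ (t₂ p)) = χL (ι p)
    have h2 := happ p
    rw [pow_one, ← hmaxL] at h2
    have h3 := hχL0 _ h2
    rw [map_sub, sub_eq_zero] at h3
    exact h3.symm
  obtain ⟨ω, hω⟩ := exists_point ωR ωP hcompat
  -- values of `ω` on the structure maps
  have hωα : ∀ a : A₀, ω (α a) = ω₀ (algebraMap _ R'₀
      ((1 : AdicCompletion (maximalIdeal Rs) Rs) ⊗ₜ[U] algebraMap A₀ AU a)) := by
    intro a
    rw [hαf, hω, map_one, one_mul, hωPα, Algebra.TensorProduct.map_tmul, map_one]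
    rfl
  have hωβ : ∀ (b : B₀) (r : R'), ω (β (b ⊗ₜ r)) = ωR r * ω₀ (t
      ((1 : AdicCompletion (maximalIdeal Rs) Rs) ⊗ₜ[U] algebraMap B₀ BU b)) := by
    intro b r
    rw [hβf, hω, hωPβ, Algebra.TensorProduct.map_tmul, map_one]
    rfl
  have hωβR : ∀ r : R', ω (β (1 ⊗ₜ r)) = ωR r := by
    intro r
    rw [hωβ, map_one]
    have : ((1 : AdicCompletion (maximalIdeal Rs) Rs) ⊗ₜ[U] (1 : BU)) = 1 := rfl
    rw [this, map_one, map_one, mul_one]
  have hωRR : ∀ r : R, ωR (algebraMap R R' r) =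
      χL (algebraMap R (AdicCompletion (maximalIdeal Rs) Rs) r) := by
    intro r
    show χL (ψ (algebraMap R R' r)) = _
    rw [hψ, IsScalarTower.algebraMap_apply R Rs (AdicCompletion (maximalIdeal Rs) Rs)]
  have hO2 : ∀ r : R, α (algebraMap R A₀ r) = β (1 ⊗ₜ algebraMap R R' r) := by
    intro r
    rw [hαf, hβf, map_one]
    have e1 : (1 : P) ⊗ₜ[U] algebraMap A₀ AU (algebraMap R A₀ r) =
        algebraMap P (P ⊗[U] AU) (algebraMap R P r) := by
      have h1 : algebraMap A₀ AU (algebraMap R A₀ r) = (algebraMap R U r) • (1 : AU) := by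
        rw [← IsScalarTower.algebraMap_apply R A₀ AU, IsScalarTower.algebraMap_apply R U AU,
          Algebra.algebraMap_eq_smul_one]
      have h2 : algebraMap R P r = (algebraMap R U r) • (1 : P) := by
        rw [IsScalarTower.algebraMap_apply R U P, Algebra.algebraMap_eq_smul_one]
      rw [h1, Algebra.TensorProduct.algebraMap_apply, Algebra.algebraMap_self, RingHom.id_apply,
        h2, TensorProduct.smul_tmul]
    have e2 : ((1 : P) ⊗ₜ[U] (1 : BU)) = 1 := rfl
    rw [e1, AlgHom.commutes, e2, map_one]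
    have e3 : algebraMap R R' r = algebraMap P R' (algebraMap R P r) := by
      rw [IsScalarTower.algebraMap_apply R U R', IsScalarTower.algebraMap_apply U P R']
      rfl
    rw [e3, Algebra.algebraMap_eq_smul_one (algebraMap R P r),
      Algebra.algebraMap_eq_smul_one (algebraMap R P r), TensorProduct.smul_tmul]
  have hO3a : RingHom.ker (ω.comp α) = 𝔭 := by
    ext a
    rw [RingHom.mem_ker, RingHom.comp_apply, hωα, hω₀, hmemA, h𝔭''A]
  have hO3b : RingHom.ker (ω.comp (β.comp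
      (Algebra.TensorProduct.includeLeft : B₀ →ₐ[Θ₀] B₀ ⊗[Θ₀] R').toRingHom)) = 𝔮 := by
    ext b
    rw [RingHom.mem_ker]
    show ω (β (b ⊗ₜ 1)) = 0 ↔ _
    rw [hωβ, map_one, one_mul, hω₀, hmemB, ← h𝔮1]
    rfl
  -- the residue field extensions
  have hωRcomp : ω.comp (β.comp
      (Algebra.TensorProduct.includeRight : R' →ₐ[Θ₀] B₀ ⊗[Θ₀] R').toRingHom) = ωR :=
    RingHom.ext fun r => hωβR r
  have hFSR : FS (algebraMap R R') ωR := by
    apply fs_of_hfrac
    intro x
    obtain ⟨r, s, hs, hsx⟩ := hfrac x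
    refine ⟨r, s, ?_, ?_⟩
    · rw [RingHom.mem_ker, hωRR, IsScalarTower.algebraMap_apply R Rs
        (AdicCompletion (maximalIdeal Rs) Rs)]
      have hsu : IsUnit (algebraMap R Rs s) :=
        IsLocalization.map_units Rs (⟨s, hs⟩ : 𝔭s.primeCompl)
      exact ((hsu.map _).map χL).ne_zero
    · rw [RingHom.mem_ker]
      show χL (ψ _) = 0
      apply hχL0
      rw [hmaxL]
      exact hψp _ hsx
  -- the image of `L`
  have hLR : Set.range χL ⊆ (Subfield.closure (Set.range ωR) : Set p'₀.ResidueField) := by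
    refine (range_subset_closure_of_completion 𝔭s χL hχL0).trans ?_
    apply Subfield.closure_mono
    rintro _ ⟨r, rfl⟩
    exact ⟨algebraMap R R' r, hωRR r⟩
  have hω''0 : Set.range ω'' ⊆ (Subfield.closure (Set.range ω₀) : Set p'₀.ResidueField) := by
    refine hFSlam.trans ?_
    apply Subfield.closure_mono
    rintro _ ⟨x, rfl⟩
    exact ⟨x, (hωlam x).symm⟩
  have hFS0A : FS (algebraMap (AdicCompletion (maximalIdeal Rs) Rs ⊗[U] AU) R'₀) ω₀ := by
    apply fs_of_hfrac
    intro x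
    obtain ⟨r, s, hs, hsx⟩ := hfracA x
    refine ⟨r, s, ?_, ?_⟩
    · rw [RingHom.mem_ker, hω₀, hmemA]
      exact hs
    · rw [RingHom.mem_ker, hω₀]
      exact hsx
  have hFS0B : FS t ω₀ := by
    apply fs_of_hfrac
    intro x
    obtain ⟨r, s, hs, hsx⟩ := hfracB x
    refine ⟨r, s, ?_, ?_⟩
    · rw [RingHom.mem_ker, hω₀, hmemB]
      exact hs
    · rw [RingHom.mem_ker, hω₀]
      exact hsx
  have hclose : ∀ F : Subfield p'₀.ResidueField, Set.range ωR ⊆ (F : Set p'₀.ResidueField) →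
      Set.range ω₀ ⊆ (F : Set p'₀.ResidueField) → Set.range ω ⊆ (F : Set p'₀.ResidueField) := by
    intro F h1 h2
    have h3 : Set.range ω'' ⊆ (F : Set p'₀.ResidueField) :=
      hω''0.trans (Subfield.closure_le.mpr h2)
    apply range_tensor_subset
    · intro r
      rw [hω, map_one, mul_one]
      exact h1 ⟨r, rfl⟩
    · intro d
      rw [hω, map_one, one_mul]
      exact h3 ⟨j d, rfl⟩
  have hχLF : ∀ F : Subfield p'₀.ResidueField, Set.range ωR ⊆ (F : Set p'₀.ResidueField) →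
      ∀ l, χL l ∈ F := by
    intro F h1 l
    exact (hLR.trans (Subfield.closure_le.mpr h1)) ⟨l, rfl⟩
  have hUL : ∀ (Y : Type u) [CommRing Y] [Algebra U Y] (u : U),
      ((1 : AdicCompletion (maximalIdeal Rs) Rs) ⊗ₜ[U] algebraMap U Y u) =
        (algebraMap U (AdicCompletion (maximalIdeal Rs) Rs) u) ⊗ₜ[U] (1 : Y) := by
    intro Y _ _ u
    rw [Algebra.algebraMap_eq_smul_one, Algebra.algebraMap_eq_smul_one, TensorProduct.smul_tmul]
  have hFSα : FS α ω := by
    obtain ⟨F, hF⟩ : ∃ F : Subfield p'₀.ResidueField,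
        F = Subfield.closure (Set.range (ω.comp α)) := ⟨_, rfl⟩
    have hαF : ∀ a, ω (α a) ∈ F := fun a => by
      rw [hF]; exact Subfield.subset_closure ⟨a, rfl⟩
    have h1 : Set.range ωR ⊆ (F : Set p'₀.ResidueField) := by
      refine hFSR.trans (Subfield.closure_le.mpr ?_)
      rintro _ ⟨r, rfl⟩
      show ωR (algebraMap R R' r) ∈ F
      rw [← hωβR, ← hO2]
      exact hαF _
    have h2 : Set.range ω₀ ⊆ (F : Set p'₀.ResidueField) := by
      refine hFS0A.trans (Subfield.closure_le.mpr ?_)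
      apply range_tensor_subset
      · intro l
        exact hχLF F h1 l
      · intro y
        refine (range_pushout_subset (R := R) (A₀ := A₀) (U := U) (AU := AU)
          ((ω₀.comp (algebraMap (AdicCompletion (maximalIdeal Rs) Rs ⊗[U] AU) R'₀)).comp
            (Algebra.TensorProduct.includeRight :
              AU →ₐ[U] AdicCompletion (maximalIdeal Rs) Rs ⊗[U] AU).toRingHom) F ?_ ?_) ⟨y, rfl⟩
        · intro a
          show ω₀ (algebraMap _ R'₀ (1 ⊗ₜ algebraMap A₀ AU a)) ∈ F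
          rw [← hωα]
          exact hαF a
        · intro u
          show ω₀ (algebraMap _ R'₀ (1 ⊗ₜ algebraMap U AU u)) ∈ F
          rw [hUL AU u]
          exact hχLF F h1 _
    show Set.range ω ⊆ _
    rw [← hF]
    exact hclose F h1 h2
  have hFSβ : FS β ω := by
    obtain ⟨F, hF⟩ : ∃ F : Subfield p'₀.ResidueField,
        F = Subfield.closure (Set.range (ω.comp β)) := ⟨_, rfl⟩
    have hβF : ∀ z, ω (β z) ∈ F := fun z => by
      rw [hF]; exact Subfield.subset_closure ⟨z, rfl⟩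
    have h1 : Set.range ωR ⊆ (F : Set p'₀.ResidueField) := by
      rintro _ ⟨r, rfl⟩
      rw [← hωβR]
      exact hβF _
    have h2 : Set.range ω₀ ⊆ (F : Set p'₀.ResidueField) := by
      refine hFS0B.trans (Subfield.closure_le.mpr ?_)
      apply range_tensor_subset
      · intro l
        show ω₀ (t (l ⊗ₜ 1)) ∈ F
        have := htL l
        rw [Algebra.TensorProduct.algebraMap_apply, Algebra.TensorProduct.algebraMap_apply,
          Algebra.algebraMap_self, RingHom.id_apply] at this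
        rw [this]
        exact hχLF F h1 l
      · intro y
        refine (range_pushout_subset (R := Θ₀) (A₀ := B₀) (U := U) (AU := BU)
          ((ω₀.comp t).comp
            (Algebra.TensorProduct.includeRight :
              BU →ₐ[U] AdicCompletion (maximalIdeal Rs) Rs ⊗[U] BU).toRingHom) F ?_ ?_) ⟨y, rfl⟩
        · intro b
          show ω₀ (t (1 ⊗ₜ algebraMap B₀ BU b)) ∈ F
          have := hωβ b 1
          rw [map_one, one_mul] at this
          rw [← this]
          exact hβF _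
        · intro u
          show ω₀ (t (1 ⊗ₜ algebraMap U BU u)) ∈ F
          rw [hUL BU u]
          have := htL (algebraMap U (AdicCompletion (maximalIdeal Rs) Rs) u)
          rw [Algebra.TensorProduct.algebraMap_apply, Algebra.TensorProduct.algebraMap_apply,
            Algebra.algebraMap_self, RingHom.id_apply] at this
          rw [this]
          exact hχLF F h1 _
    show Set.range ω ⊆ _
    rw [← hF]
    exact hclose F h1 h2
  refine ⟨R', iR'1, iR'2, algΘR', R' ⊗[P] DP, inferInstance, α, β, p'₀.ResidueField, inferInstance,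
    ω, het, hα, hβ, hO2, hO3a, hO3b, ?_, hFSα, hFSβ⟩
  rw [hωRcomp]
  exact hFSR

end main

end Groth.Agent.Lib.EtCorrH5
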