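import Mathlib

set_option autoImplicit false
set_option linter.style.haveILetI false
set_option linter.unusedVariables false
set_option maxHeartbeats 1600000
universe u

open TensorProduct IsLocalRing

namespace Groth.Agent.Lib.EtCorrH5

/-- an abstract finite-type `R`-algebra receiving `Θ₀` (namely `R ⊗[ℤ] Θ₀`), mapping to any common
target of `R` and `Θ₀`. -/
theorem exists_U (R Θ₀ L : Type u) [CommRing R] [CommRing Θ₀] [CommRing L] [Algebra R L]
    [Algebra Θ₀ L] [Algebra.FiniteType ℤ Θ₀] :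
    ∃ (U : Type u) (_ : CommRing U) (_ : Algebra R U) (_ : Algebra Θ₀ U)
      (_ : Algebra.FiniteType R U) (_ : Algebra U L) (_ : IsScalarTower R U L),
      IsScalarTower Θ₀ U L := by
  letI algΘU : Algebra Θ₀ (R ⊗[ℤ] Θ₀) := Algebra.TensorProduct.rightAlgebra
  let f : R ⊗[ℤ] Θ₀ →ₐ[ℤ] L :=
    Algebra.TensorProduct.productMap (algebraMap R L).toIntAlgHom (algebraMap Θ₀ L).toIntAlgHom
  letI algUL : Algebra (R ⊗[ℤ] Θ₀) L := f.toRingHom.toAlgebra
  refine ⟨R ⊗[ℤ] Θ₀, inferInstance, inferInstance, algΘU, inferInstance, algUL, ?_, ?_⟩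
  · refine IsScalarTower.of_algebraMap_eq' ?_
    ext r
    show algebraMap R L r = f (algebraMap R (R ⊗[ℤ] Θ₀) r)
    rw [Algebra.TensorProduct.algebraMap_apply]
    simp [f]
  · refine IsScalarTower.of_algebraMap_eq' ?_
    ext θ
    show algebraMap Θ₀ L θ = f ((1 : R) ⊗ₜ θ)
    simp [f]

/-- an abstract pushout of a finitely presented algebra. -/
theorem exists_AU (R A₀ U : Type u) [CommRing R] [CommRing A₀] [CommRing U] [Algebra R A₀]
    [Algebra R U] [Algebra.FinitePresentation R A₀] :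
    ∃ (AU : Type u) (_ : CommRing AU) (_ : Algebra U AU) (_ : Algebra A₀ AU) (_ : Algebra R AU)
      (_ : IsScalarTower R U AU) (_ : IsScalarTower R A₀ AU) (_ : Algebra.IsPushout R A₀ U AU),
      Algebra.FinitePresentation U AU := by
  letI algA : Algebra A₀ (U ⊗[R] A₀) := Algebra.TensorProduct.rightAlgebra
  refine ⟨U ⊗[R] A₀, inferInstance, inferInstance, algA, inferInstance, inferInstance,
    inferInstance, inferInstance, inferInstance⟩

section kappa
variable {Θ₀ B₀ U BU L : Type u} [CommRing Θ₀] [CommRing B₀] [CommRing U] [CommRing BU] [CommRing L]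
  [Algebra Θ₀ B₀] [Algebra Θ₀ U] [Algebra U BU] [Algebra B₀ BU] [Algebra Θ₀ BU]
  [IsScalarTower Θ₀ U BU] [IsScalarTower Θ₀ B₀ BU] [Algebra.IsPushout Θ₀ B₀ U BU]
  [Algebra Θ₀ L] [Algebra U L] [IsScalarTower Θ₀ U L]

/-- the isomorphism `L ⊗[U] BU ≃ B₀ ⊗[Θ₀] L`. -/
noncomputable def kappa : L ⊗[U] BU ≃+* B₀ ⊗[Θ₀] L :=
  (Algebra.TensorProduct.comm U L BU).toRingEquiv.trans
    (Algebra.IsPushout.cancelBaseChangeAlg Θ₀ B₀ U BU L).toRingEquiv

theorem kappa_symm_tmul (l : L) (b : B₀) :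
    (kappa (Θ₀ := Θ₀) (B₀ := B₀) (U := U) (BU := BU) (L := L)).symm (b ⊗ₜ l) =
      l ⊗ₜ algebraMap B₀ BU b := by
  simp [kappa]

theorem kappa_tmul (l : L) (b : B₀) :
    kappa (Θ₀ := Θ₀) (B₀ := B₀) (U := U) (BU := BU) (L := L) (l ⊗ₜ algebraMap B₀ BU b) =
      b ⊗ₜ l := by
  rw [← kappa_symm_tmul (Θ₀ := Θ₀) (U := U), RingEquiv.apply_symm_apply]

end kappa

end Groth.Agent.Lib.EtCorrH5
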