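import Mathlib
import Groth.Prelude.Def_Found
import Groth.Agent.Lib.EtCorr6_helper5
import Groth.Agent.Lib.EtCorr7_helper5

set_option autoImplicit false
set_option linter.style.haveILetI false
set_option linter.unusedVariables false
set_option maxHeartbeats 3200000
universe u

open TensorProduct IsLocalRing

namespace Groth.Agent.Lib.EtCorrH5

open Groth.Agent.Lib.OmegaPtH5

section main2
variable {R Rs A₀ Kx Θ₀ B₀ OY : Type u}
  [CommRing R] [IsNoetherianRing R] [CommRing Rs] [Algebra R Rs] (𝔭s : Ideal R) [𝔭s.IsPrime]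
  [IsLocalization.AtPrime Rs 𝔭s] [IsLocalRing Rs] [IsNoetherianRing Rs]
  [CommRing A₀] [Algebra R A₀] [Algebra.FiniteType R A₀] (𝔭 : Ideal A₀) [𝔭.IsPrime]
  [CommRing Kx] [Algebra A₀ Kx] [IsLocalization.AtPrime Kx 𝔭] [IsLocalRing Kx]
  [CommRing Θ₀] [Algebra.FiniteType ℤ Θ₀] [CommRing B₀] [Algebra Θ₀ B₀]
  [Algebra.FiniteType Θ₀ B₀] (𝔮 : Ideal B₀) [𝔮.IsPrime]
  [Algebra Θ₀ (AdicCompletion (maximalIdeal Rs) Rs)]
  (𝔮σ : Ideal (B₀ ⊗[Θ₀] AdicCompletion (maximalIdeal Rs) Rs)) [𝔮σ.IsPrime]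
  [CommRing OY] [Algebra (B₀ ⊗[Θ₀] AdicCompletion (maximalIdeal Rs) Rs) OY]
  [IsLocalization.AtPrime OY 𝔮σ] [IsLocalRing OY]

include 𝔭s in
/-- **Ring-level form of the matching of étale neighbourhoods after completed base change**, with
the base change written as `B₀ ⊗[Θ₀] L`. -/
theorem main_ring2 (hG : CAlg.IsGRing Rs) (h𝔭 : 𝔭.comap (algebraMap R A₀) = 𝔭s)
    (h𝔮1 : 𝔮σ.comap (Algebra.TensorProduct.includeLeft :
      B₀ →ₐ[Θ₀] B₀ ⊗[Θ₀] AdicCompletion (maximalIdeal Rs) Rs).toRingHom = 𝔮)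
    (h𝔮2 : ∀ l ∈ maximalIdeal (AdicCompletion (maximalIdeal Rs) Rs),
      (1 : B₀) ⊗ₜ[Θ₀] l ∈ 𝔮σ)
    (φ : AdicCompletion (maximalIdeal Kx) Kx ≃+* AdicCompletion (maximalIdeal OY) OY)
    (hφ : ∀ r : R, φ (algebraMap Kx (AdicCompletion (maximalIdeal Kx) Kx)
        (algebraMap A₀ Kx (algebraMap R A₀ r))) =
      algebraMap OY (AdicCompletion (maximalIdeal OY) OY)
        (algebraMap (B₀ ⊗[Θ₀] AdicCompletion (maximalIdeal Rs) Rs) OY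
          (1 ⊗ₜ algebraMap R (AdicCompletion (maximalIdeal Rs) Rs) r))) :
    ∃ (R' : Type u) (_ : CommRing R') (_ : Algebra R R') (_ : Algebra Θ₀ R') (D : Type u)
      (_ : CommRing D) (α : A₀ →+* D) (β : B₀ ⊗[Θ₀] R' →+* D) (Ω : Type u) (_ : Field Ω)
      (ω : D →+* Ω),
      Algebra.Etale R R' ∧ α.Etale ∧ β.Etale ∧
      (∀ r : R, α (algebraMap R A₀ r) = β (1 ⊗ₜ algebraMap R R' r)) ∧
      RingHom.ker (ω.comp α) = 𝔭 ∧
      RingHom.ker (ω.comp (β.comp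
        (Algebra.TensorProduct.includeLeft : B₀ →ₐ[Θ₀] B₀ ⊗[Θ₀] R').toRingHom)) = 𝔮 ∧
      FS (algebraMap R R') (ω.comp (β.comp
        (Algebra.TensorProduct.includeRight : R' →ₐ[Θ₀] B₀ ⊗[Θ₀] R').toRingHom)) ∧
      FS α ω ∧ FS β ω := by
  classical
  haveI : IsNoetherianRing Θ₀ := Algebra.FiniteType.isNoetherianRing ℤ Θ₀
  haveI : Algebra.FinitePresentation R A₀ := Algebra.FinitePresentation.of_finiteType.mp inferInstance
  haveI : Algebra.FinitePresentation Θ₀ B₀ :=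
    Algebra.FinitePresentation.of_finiteType.mp inferInstance
  obtain ⟨U, iU1, iU2, iU3, iU4, iU5, iU6, iU7⟩ :=
    exists_U R Θ₀ (AdicCompletion (maximalIdeal Rs) Rs)
  obtain ⟨AU, iA1, iA2, iA3, iA4, iA5, iA6, iA7, iA8⟩ := exists_AU R A₀ U
  obtain ⟨BU, iB1, iB2, iB3, iB4, iB5, iB6, iB7, iB8⟩ := exists_AU Θ₀ B₀ U
  let κ : AdicCompletion (maximalIdeal Rs) Rs ⊗[U] BU ≃+*
      B₀ ⊗[Θ₀] AdicCompletion (maximalIdeal Rs) Rs := kappa
  have hκ : ∀ (l : AdicCompletion (maximalIdeal Rs) Rs) (b : B₀),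
      κ (l ⊗ₜ algebraMap B₀ BU b) = b ⊗ₜ l := fun l b => kappa_tmul (Θ₀ := Θ₀) (U := U) l b
  letI algOY : Algebra (AdicCompletion (maximalIdeal Rs) Rs ⊗[U] BU) OY :=
    ((algebraMap (B₀ ⊗[Θ₀] AdicCompletion (maximalIdeal Rs) Rs) OY).comp κ.toRingHom).toAlgebra
  have halgOY : ∀ x, algebraMap (AdicCompletion (maximalIdeal Rs) Rs ⊗[U] BU) OY x =
      algebraMap (B₀ ⊗[Θ₀] AdicCompletion (maximalIdeal Rs) Rs) OY (κ x) := fun x => rfl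
  haveI hprime : (𝔮σ.comap κ.toRingHom).IsPrime := Ideal.comap_isPrime _ _
  haveI locOY : IsLocalization.AtPrime OY (𝔮σ.comap κ.toRingHom) :=
    atPrime_of_ringEquiv 𝔮σ κ halgOY _ rfl
  refine main_ring (U := U) (AU := AU) (BU := BU) 𝔭s 𝔭 𝔮 (𝔮σ.comap κ.toRingHom) hG h𝔭 ?_ ?_ φ ?_
  · rw [← h𝔮1]
    ext b
    rw [Ideal.mem_comap, Ideal.mem_comap, Ideal.mem_comap]
    show κ ((1 : AdicCompletion (maximalIdeal Rs) Rs) ⊗ₜ algebraMap B₀ BU b) ∈ 𝔮σ ↔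
      (b ⊗ₜ (1 : AdicCompletion (maximalIdeal Rs) Rs) : B₀ ⊗[Θ₀] _) ∈ 𝔮σ
    rw [hκ]
  · intro l hl
    rw [Ideal.mem_comap]
    show κ (l ⊗ₜ (1 : BU)) ∈ 𝔮σ
    have : κ (l ⊗ₜ (1 : BU)) = (1 : B₀) ⊗ₜ l := by
      have := hκ l 1
      rwa [map_one] at this
    rw [this]
    exact h𝔮2 l hl
  · intro r
    rw [hφ, halgOY]
    congr 2
    have := hκ (algebraMap R (AdicCompletion (maximalIdeal Rs) Rs) r) 1
    rw [map_one] at this
    exact this.symm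

end main2

end Groth.Agent.Lib.EtCorrH5
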