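import Mathlib
import Groth.Agent.Lib.EtNormal_helper4

/-!
# Étale algebras over Dedekind domains (helper9)

`B` étale over a Dedekind domain `A` is a finite product of Dedekind domains, and its local rings at
maximal ideals are fields or discrete valuation rings.  APPEND-ONLY once landed.
-/

set_option autoImplicit false
set_option maxHeartbeats 400000
set_option linter.style.haveILetI false
universe u

namespace Groth.Agent.EtDed9

section DimLEOne

/-- a quasi-finite domain over a domain of dimension `≤ 1` has dimension `≤ 1` -/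
theorem dimensionLEOne_of_quasiFinite (A C : Type*) [CommRing A] [IsDomain A]
    [Ring.DimensionLEOne A] [CommRing C] [Algebra A C] [Algebra.QuasiFinite A C] [IsDomain C] :
    Ring.DimensionLEOne C := by
  constructor
  intro Q hQ0 hQ
  obtain ⟨𝔪, h𝔪, hQ𝔪⟩ := Ideal.exists_le_maximal Q hQ.ne_top
  haveI : (⊥ : Ideal C).IsPrime := Ideal.isPrime_bot
  haveI := hQ
  haveI : 𝔪.IsPrime := h𝔪.isPrime
  have h01 : (⊥ : Ideal C).under A ≠ Q.under A := fun h =>
    hQ0 (Algebra.QuasiFinite.eq_of_le_of_under_eq ⊥ Q bot_le h).symm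
  have hle01 : (⊥ : Ideal C).under A ≤ Q.under A := Ideal.comap_mono bot_le
  have hp1 : Q.under A ≠ ⊥ := by
    intro h
    apply h01
    rw [h] at hle01 ⊢
    exact le_bot_iff.1 hle01
  have hmax : (Q.under A).IsMaximal := Ring.DimensionLEOne.maximalOfPrime hp1 inferInstance
  have h12 : Q.under A = 𝔪.under A :=
    hmax.eq_of_le (Ideal.IsPrime.ne_top inferInstance) (Ideal.comap_mono hQ𝔪)
  have : Q = 𝔪 := Algebra.QuasiFinite.eq_of_le_of_under_eq Q 𝔪 hQ𝔪 h12
  rw [this]
  exact h𝔪

end DimLEOne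

section Domain

/-- an étale domain over a Dedekind domain is a Dedekind domain -/
theorem isDedekindDomain_of_etale (A C : Type u) [CommRing A] [IsDedekindDomain A] [CommRing C]
    [Algebra A C] [Algebra.Etale A C] [IsDomain C] : IsDedekindDomain C := by
  haveI : IsNoetherianRing C := Algebra.FiniteType.isNoetherianRing A C
  haveI : Ring.DimensionLEOne C := dimensionLEOne_of_quasiFinite A C
  haveI : IsIntegrallyClosed C := by
    apply IsIntegrallyClosed.of_localization_maximal
    intro P _ hP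
    exact (Groth.Agent.Lib.EtNormalH4.isDomain_and_isIntegrallyClosed (A := A) (B := C)
      (S := Localization.AtPrime P) P.primeCompl).2
  exact { }

/-- local rings of an étale algebra over a Dedekind domain -/
theorem localization_isDedekindDomain (A B : Type u) [CommRing A] [IsDedekindDomain A] [CommRing B]
    [Algebra A B] [Algebra.Etale A B] (q : Ideal B) [q.IsPrime] :
    IsDedekindDomain (Localization.AtPrime q) := by
  obtain ⟨hdom, hic⟩ := Groth.Agent.Lib.EtNormalH4.isDomain_and_isIntegrallyClosed (A := A) (B := B)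
      (S := Localization.AtPrime q) q.primeCompl
  haveI := hdom
  haveI := hic
  haveI : IsNoetherianRing B := Algebra.FiniteType.isNoetherianRing A B
  haveI : IsNoetherianRing (Localization.AtPrime q) :=
    IsLocalization.isNoetherianRing q.primeCompl _ inferInstance
  haveI : Ring.DimensionLEOne (Localization.AtPrime q) :=
    dimensionLEOne_of_quasiFinite A (Localization.AtPrime q)
  exact { }

end Domain

section Decomp

variable (R : Type u) [CommRing R]

theorem ker_eq_of_minimal
    (hdom : ∀ 𝔪 : Ideal R, ∀ [𝔪.IsMaximal], IsDomain (Localization.AtPrime 𝔪))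
    (P : Ideal R) (hP : P ∈ minimalPrimes R) (𝔪 : Ideal R) [𝔪.IsMaximal] (hle : P ≤ 𝔪) :
    RingHom.ker (algebraMap R (Localization.AtPrime 𝔪)) = P := by
  haveI := hdom 𝔪
  haveI hPp : P.IsPrime := hP.1.1
  have hK : (RingHom.ker (algebraMap R (Localization.AtPrime 𝔪))).IsPrime := RingHom.ker_isPrime _
  have hKP : RingHom.ker (algebraMap R (Localization.AtPrime 𝔪)) ≤ P := by
    intro x hx
    rw [RingHom.mem_ker, IsLocalization.map_eq_zero_iff 𝔪.primeCompl] at hx
    obtain ⟨m, hm⟩ := hx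
    have : (m : R) * x ∈ P := by rw [hm]; exact zero_mem _
    rcases hPp.mem_or_mem this with h | h
    · exact absurd (hle h) m.2
    · exact h
  exact le_antisymm hKP (hP.2 ⟨hK, bot_le⟩ hKP)

theorem map_eq_bot_of_minimal
    (hdom : ∀ 𝔪 : Ideal R, ∀ [𝔪.IsMaximal], IsDomain (Localization.AtPrime 𝔪))
    (P : Ideal R) (hP : P ∈ minimalPrimes R) (𝔪 : Ideal R) [𝔪.IsMaximal] (hle : P ≤ 𝔪) :
    P.map (algebraMap R (Localization.AtPrime 𝔪)) = ⊥ := by
  rw [Ideal.map_eq_bot_iff_le_ker, ker_eq_of_minimal R hdom P hP 𝔪 hle]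

theorem map_eq_top_of_not_le (P : Ideal R) (𝔪 : Ideal R) [𝔪.IsMaximal] (hle : ¬ P ≤ 𝔪) :
    P.map (algebraMap R (Localization.AtPrime 𝔪)) = ⊤ := by
  obtain ⟨x, hxP, hx𝔪⟩ := Set.not_subset.1 hle
  apply Ideal.eq_top_of_isUnit_mem _ (Ideal.mem_map_of_mem _ hxP)
  exact IsLocalization.map_units (Localization.AtPrime 𝔪) (⟨x, hx𝔪⟩ : 𝔪.primeCompl)

theorem sup_eq_top_of_minimal
    (hdom : ∀ 𝔪 : Ideal R, ∀ [𝔪.IsMaximal], IsDomain (Localization.AtPrime 𝔪))
    (P P' : Ideal R) (hP : P ∈ minimalPrimes R) (hP' : P' ∈ minimalPrimes R) (hne : P ≠ P') :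
    P ⊔ P' = ⊤ := by
  by_contra h
  obtain ⟨𝔪, h𝔪, hle⟩ := Ideal.exists_le_maximal _ h
  haveI := h𝔪
  apply hne
  rw [← ker_eq_of_minimal R hdom P hP 𝔪 (le_trans le_sup_left hle),
    ← ker_eq_of_minimal R hdom P' hP' 𝔪 (le_trans le_sup_right hle)]

theorem mul_self_of_minimal
    (hdom : ∀ 𝔪 : Ideal R, ∀ [𝔪.IsMaximal], IsDomain (Localization.AtPrime 𝔪))
    (P : Ideal R) (hP : P ∈ minimalPrimes R) : P * P = P := by
  apply Ideal.eq_of_localization_maximal
  intro 𝔪 h𝔪
  haveI := h𝔪
  rw [Ideal.map_mul]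
  by_cases hle : P ≤ 𝔪
  · rw [map_eq_bot_of_minimal R hdom P hP 𝔪 hle, Ideal.bot_mul]
  · rw [map_eq_top_of_not_le R P 𝔪 hle, Ideal.top_mul]

theorem etale_quotient_of_minimal [IsNoetherianRing R]
    (hdom : ∀ 𝔪 : Ideal R, ∀ [𝔪.IsMaximal], IsDomain (Localization.AtPrime 𝔪))
    (P : Ideal R) (hP : P ∈ minimalPrimes R) : Algebra.Etale R (R ⧸ P) := by
  haveI : Algebra.FormallyEtale R (R ⧸ P) := by
    rw [Algebra.FormallyEtale.iff_of_surjective Ideal.Quotient.mk_surjective]
    change IsIdempotentElem (RingHom.ker (Ideal.Quotient.mk P))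
    rw [Ideal.mk_ker]
    exact mul_self_of_minimal R hdom P hP
  haveI : Algebra.FinitePresentation R (R ⧸ P) :=
    Algebra.FinitePresentation.quotient (IsNoetherian.noetherian P)
  exact { }

theorem exists_equiv_pi [IsNoetherianRing R]
    (hdom : ∀ 𝔪 : Ideal R, ∀ [𝔪.IsMaximal], IsDomain (Localization.AtPrime 𝔪)) :
    ∃ (n : ℕ) (f : Fin n → Ideal R), (∀ i, f i ∈ minimalPrimes R) ∧
      Nonempty (R ≃+* ∀ i, R ⧸ f i) := by
  haveI : IsReduced R := by
    apply isReduced_ofLocalizationMaximal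
    intro 𝔪 h𝔪
    haveI := hdom 𝔪
    infer_instance
  have hfin : (minimalPrimes R).Finite := minimalPrimes.finite_of_isNoetherianRing R
  haveI : Finite ↥(minimalPrimes R) := hfin
  obtain ⟨n, ⟨e⟩⟩ := Finite.exists_equiv_fin ↥(minimalPrimes R)
  set f : Fin n → Ideal R := fun i => (e.symm i).1 with hf
  have hfmem : ∀ i, f i ∈ minimalPrimes R := fun i => (e.symm i).2
  have hcop : Pairwise (Function.onFun IsCoprime f) := by
    intro i j hij
    change IsCoprime (f i) (f j)
    rw [Ideal.isCoprime_iff_sup_eq]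
    apply sup_eq_top_of_minimal R hdom _ _ (hfmem i) (hfmem j)
    intro h
    apply hij
    apply e.symm.injective
    exact Subtype.ext h
  have hinf : ⨅ i, f i = ⊥ := by
    have h1 : sInf (minimalPrimes R) = ⊥ := by
      rw [minimalPrimes, Ideal.sInf_minimalPrimes]
      exact nilradical_eq_zero R
    rw [← h1]
    apply le_antisymm
    · apply le_sInf
      intro P hP
      have : f (e ⟨P, hP⟩) = P := by simp [hf]
      rw [← this]
      exact iInf_le _ _
    · apply le_iInf
      intro i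
      exact sInf_le (hfmem i)
  refine ⟨n, f, hfmem, ⟨?_⟩⟩
  exact ((RingEquiv.quotientBot R).symm.trans (Ideal.quotEquivOfEq hinf.symm)).trans
    (Ideal.quotientInfRingEquivPiQuotient f hcop)

end Decomp

section Main

theorem etale_over_dedekind (A B : Type u) [CommRing A] [IsDedekindDomain A] [CommRing B]
    [Algebra A B] [Algebra.Etale A B] :
    (∃ (n : ℕ) (D : Fin n → Type u) (_ : ∀ i, CommRing (D i)) (_ : ∀ i, IsDedekindDomain (D i)),
      Nonempty (B ≃+* ∀ i, D i)) ∧
    ∀ (q : Ideal B) [q.IsMaximal], ¬ IsField (Localization.AtPrime q) →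
      ∃ _ : IsDomain (Localization.AtPrime q), IsDiscreteValuationRing (Localization.AtPrime q) := by
  haveI : IsNoetherianRing B := Algebra.FiniteType.isNoetherianRing A B
  have hdom : ∀ 𝔪 : Ideal B, ∀ [𝔪.IsMaximal], IsDomain (Localization.AtPrime 𝔪) := by
    intro 𝔪 _
    exact (Groth.Agent.Lib.EtNormalH4.isDomain_and_isIntegrallyClosed (A := A) (B := B)
      (S := Localization.AtPrime 𝔪) 𝔪.primeCompl).1
  constructor
  · obtain ⟨n, f, hf, ⟨e⟩⟩ := exists_equiv_pi B hdom
    refine ⟨n, fun i => B ⧸ f i, fun i => inferInstance, fun i => ?_, ⟨e⟩⟩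
    haveI : Algebra.Etale B (B ⧸ f i) := etale_quotient_of_minimal B hdom (f i) (hf i)
    haveI : Algebra.Etale A (B ⧸ f i) := Algebra.Etale.comp A B (B ⧸ f i)
    haveI : (f i).IsPrime := (hf i).1.1
    exact isDedekindDomain_of_etale A (B ⧸ f i)
  · intro q hq hnf
    haveI : q.IsPrime := hq.isPrime
    have hD : IsDedekindDomain (Localization.AtPrime q) := localization_isDedekindDomain A B q
    haveI : IsDomain (Localization.AtPrime q) := hD.toIsDomain
    haveI : IsNoetherianRing (Localization.AtPrime q) := hD.toIsDedekindRing.toIsNoetherian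
    refine ⟨inferInstance, ?_⟩
    exact ((IsDiscreteValuationRing.TFAE (Localization.AtPrime q) hnf).out 0 2).2 hD

end Main

end Groth.Agent.EtDed9
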