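import Mathlib
import Groth.Prelude.Def_EtDepth
import Groth.Agent.Lib.EtDepthMono_helper7
import Groth.Agent.Lib.ExtTrunc_helper7
import Groth.Agent.Lib.EtDepthEt0_helper7

/-!
# Étale depth along a closed subset and restriction maps on étale schemes (helper7)

`H^p_Y(F) = 0` for `p < n` iff for every étale `X' → X` the restriction maps
`H^p(X', F) → H^p(X' ×_X U, F)` are bijective for `p < n - 1` and injective for `p = n - 1`.
Both directions by induction on `n`, embedding `F` into `j_* J` with `J` injective, and an abstract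
dimension shifting argument (`ExtTrunc_helper7`).  The degree zero comparison map is identified with
a restriction map of sections.
-/

set_option autoImplicit false
set_option backward.isDefEq.respectTransparency false
set_option linter.style.haveILetI false
set_option linter.unusedSectionVars false
universe u
open CategoryTheory CategoryTheory.Limits AlgebraicGeometry Opposite

namespace Groth.Agent.Lib.EtDepthEtH7

open Groth.Agent.Lib.EtLocCohIso_helper7 Groth.Agent.Lib.EtJCont_helper7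
  Groth.Agent.Lib.EtFlasque_helper7 Groth.Agent.Lib.EtOpenShriek_helper7
  Groth.Agent.Lib.EtExtFr_helper7 Groth.Agent.Lib.EtHpull0_helper7
  Groth.Agent.Lib.ExtMapBij Groth.Agent.Lib.ExtTruncH7 Groth.Agent.Lib.EtSchSite_helper7
  Groth.Agent.Lib.EtDepthH7

section Main

variable {X U : Scheme.{u}} (j : U ⟶ X) [IsOpenImmersion j]

/-- the truncated comparison condition for the étale `X`-scheme `W` -/
def CondW (F : EtCoh.Ab X) (n : ℕ) (W : X.Etale) : Prop :=
  Cond (fun M p => EtCore.Hpull (pullback.snd j W.hom) M p) ((EtCoh.pull W.hom).obj F) n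

theorem exists_ses (F : EtCoh.Ab X) (hm : Mono (EtDual.unitApp j F)) :
    ∃ (S : ShortComplex (EtCoh.Ab X)) (J : EtCoh.Ab U), S.ShortExact ∧ S.X₁ = F ∧ Injective J ∧
      S.X₂ = (EtCoh.push j).obj J := by
  haveI := hm
  haveI : PreservesLimitsOfSize.{0, 0} (EtCoh.push j) :=
    (EtCoh.pullPushAdj j).rightAdjoint_preservesLimits
  haveI : PreservesFiniteLimits (EtCoh.push j) := PreservesLimitsOfSize.preservesFiniteLimits _
  obtain ⟨a, ha⟩ : ∃ a : F ⟶ (EtCoh.push j).obj (Injective.under ((EtCoh.pull j).obj F)),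
      a = EtDual.unitApp j F ≫ (EtCoh.push j).map (Injective.ι ((EtCoh.pull j).obj F)) :=
    ⟨_, rfl⟩
  haveI : Mono a := by
    rw [ha]
    infer_instance
  refine ⟨ShortComplex.mk a (cokernel.π a) (cokernel.condition a),
    Injective.under ((EtCoh.pull j).obj F), ?_, rfl, inferInstance, rfl⟩
  exact { exact := ShortComplex.exact_cokernel a }

theorem ses_hyps (S : ShortComplex (EtCoh.Ab X)) (J : EtCoh.Ab U) [Injective J]
    (hX₂ : S.X₂ = (EtCoh.push j).obj J) (W : X.Etale) :
    (∀ (p : ℕ) (x : EtCoh.H W.left ((EtCoh.pull W.hom).obj S.X₂) (p + 1)), x = 0) ∧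
    (∀ (p : ℕ) (y : EtCoh.H (pullback j W.hom) ((EtCoh.pull (pullback.snd j W.hom)).obj
      ((EtCoh.pull W.hom).obj S.X₂)) (p + 1)), y = 0) ∧
    Function.Bijective (EtCore.Hpull (pullback.snd j W.hom) ((EtCoh.pull W.hom).obj S.X₂) 0) := by
  haveI hI2 : Injective S.X₂ := by
    rw [hX₂]
    exact injective_push j J
  haveI hI3 : Injective ((EtCoh.pull W.hom).obj S.X₂) := injective_pull_of_etale W.hom S.X₂
  haveI hI4 : Injective ((EtCoh.pull (pullback.snd j W.hom)).obj
      ((EtCoh.pull W.hom).obj S.X₂)) := injective_pull_of_etale _ _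
  refine ⟨fun p x => Abelian.Ext.eq_zero_of_injective x,
    fun p y => Abelian.Ext.eq_zero_of_injective y, ?_⟩
  have hb0 : Function.Bijective (S.X₂.obj.map ((compBcAdj j).counit.app W).op) := by
    rw [hX₂]
    exact bij_push j J W
  exact ⟨(p0 j W S.X₂).1.2 hb0.1, (p0 j W S.X₂).2.2 hb0.2⟩

theorem condW_X₁ (S : ShortComplex (EtCoh.Ab X)) (hSe : S.ShortExact) (W : X.Etale)
    (ha : ∀ (p : ℕ) (x : EtCoh.H W.left ((EtCoh.pull W.hom).obj S.X₂) (p + 1)), x = 0)
    (hb : ∀ (p : ℕ) (y : EtCoh.H (pullback j W.hom) ((EtCoh.pull (pullback.snd j W.hom)).obj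
      ((EtCoh.pull W.hom).obj S.X₂)) (p + 1)), y = 0)
    (hc : Function.Bijective
      (EtCore.Hpull (pullback.snd j W.hom) ((EtCoh.pull W.hom).obj S.X₂) 0))
    (n : ℕ) (h : CondW j S.X₃ n W) : CondW j S.X₁ (n + 1) W := by
  have h' : Cond (fun M p => EtCore.Hpull (pullback.snd j W.hom) M p)
      (S.map (EtCoh.pull W.hom)).X₃ n := h
  have r : Cond (fun M p => EtCore.Hpull (pullback.snd j W.hom) M p)
      (S.map (EtCoh.pull W.hom)).X₁ (n + 1) := by
    refine cond_X₁ (fun M p => EtCore.Hpull (pullback.snd j W.hom) M p) ?_ ?_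
      (hSe.map_of_exact (EtCoh.pull W.hom)) ?_ ?_ ?_ n h'
    · intro F G g i x
      exact Hpull_comp_mk₀ _ g i x
    · intro S' hS' i x
      exact Hpull_comp_extClass _ hS' i x
    · exact ha
    · exact hb
    · exact hc
  exact r

theorem condW_X₃ (S : ShortComplex (EtCoh.Ab X)) (hSe : S.ShortExact) (W : X.Etale)
    (ha : ∀ (p : ℕ) (x : EtCoh.H W.left ((EtCoh.pull W.hom).obj S.X₂) (p + 1)), x = 0)
    (hb : ∀ (p : ℕ) (y : EtCoh.H (pullback j W.hom) ((EtCoh.pull (pullback.snd j W.hom)).obj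
      ((EtCoh.pull W.hom).obj S.X₂)) (p + 1)), y = 0)
    (hc : Function.Bijective
      (EtCore.Hpull (pullback.snd j W.hom) ((EtCoh.pull W.hom).obj S.X₂) 0))
    (n : ℕ) (h : CondW j S.X₁ (n + 1) W) : CondW j S.X₃ n W := by
  have h' : Cond (fun M p => EtCore.Hpull (pullback.snd j W.hom) M p)
      (S.map (EtCoh.pull W.hom)).X₁ (n + 1) := h
  have r : Cond (fun M p => EtCore.Hpull (pullback.snd j W.hom) M p)
      (S.map (EtCoh.pull W.hom)).X₃ n := by
    refine cond_X₃ (fun M p => EtCore.Hpull (pullback.snd j W.hom) M p) ?_ ?_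
      (hSe.map_of_exact (EtCoh.pull W.hom)) ?_ ?_ ?_ n h'
    · intro F G g i x
      exact Hpull_comp_mk₀ _ g i x
    · intro S' hS' i x
      exact Hpull_comp_extClass _ hS' i x
    · exact ha
    · exact hb
    · exact hc
  exact r

theorem isZero_locCoh_X₂ (S : ShortComplex (EtCoh.Ab X)) (J : EtCoh.Ab U) [Injective J]
    (hX₂ : S.X₂ = (EtCoh.push j).obj J) (p : ℕ) : IsZero ((EtDual.locCoh j p).obj S.X₂) := by
  haveI := injective_push j J
  rw [hX₂]
  exact isZero_locCoh_of_injective j _ (mono_unit_push j _) p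

theorem condW_of_depthGE : ∀ (n : ℕ) (F : EtCoh.Ab X), EtDepth.DepthGE j F n →
    ∀ W : X.Etale, CondW j F n W := by
  intro n
  induction n with
  | zero =>
    intro F _ W
    exact ⟨fun p hp => absurd hp (by omega), fun p hp => absurd hp (by omega)⟩
  | succ n ih =>
    intro F hF W
    have hm0 : Mono (EtDual.unitApp j F) := mono_unit_of_isZero j F (hF 0 (Nat.succ_pos n))
    obtain ⟨S, J, hSe, hX₁, hJ, hX₂⟩ := exists_ses j F hm0
    haveI := hJ
    have hIj := isZero_locCoh_X₂ j S J hX₂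
    have hFj : ∀ p : ℕ, p < n + 1 → IsZero ((EtDual.locCoh j p).obj S.X₁) := by
      intro p hp
      rw [hX₁]
      exact hF p hp
    have hQ : EtDepth.DepthGE j S.X₃ n := by
      intro p hp
      have hex := (Groth.Agent.Lib.Horseshoe0.derivedLES (EtDual.secSupp j)).exact₃ S hSe p (p + 1)
        rfl
      exact hex.isZero_X₂ ((hIj p).eq_of_src _ _)
        ((hFj (p + 1) (Nat.succ_lt_succ hp)).eq_of_tgt _ _)
    have hQW : CondW j S.X₃ n W := ih S.X₃ hQ W
    obtain ⟨ha, hb, hc⟩ := ses_hyps j S J hX₂ W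
    have hres : CondW j S.X₁ (n + 1) W := condW_X₁ j S hSe W ha hb hc n hQW
    rw [hX₁] at hres
    exact hres

theorem inj0_of_condW (n : ℕ) (F : EtCoh.Ab X) (W : X.Etale) (h : CondW j F (n + 1) W) :
    Function.Injective
      (EtCore.Hpull (pullback.snd j W.hom) ((EtCoh.pull W.hom).obj F) 0) := by
  have h2 : Cond (fun M p => EtCore.Hpull (pullback.snd j W.hom) M p)
      ((EtCoh.pull W.hom).obj F) (n + 1) := h
  exact h2.injective _ 0 (by omega)

theorem mono_unit_of_condW (n : ℕ) (F : EtCoh.Ab X) (hF : ∀ W : X.Etale, CondW j F (n + 1) W) :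
    Mono (EtDual.unitApp j F) := by
  apply mono_unit_of_inj j F
  intro W
  exact (p0 j W F).1.1 (inj0_of_condW j n F W (hF W))

theorem depthGE_of_condW : ∀ (n : ℕ) (F : EtCoh.Ab X), (∀ W : X.Etale, CondW j F n W) →
    EtDepth.DepthGE j F n := by
  intro n
  induction n with
  | zero =>
    intro F _ p hp
    exact absurd hp (Nat.not_lt_zero p)
  | succ n ih =>
    intro F hF
    have hm0 : Mono (EtDual.unitApp j F) := mono_unit_of_condW j n F hF
    obtain ⟨S, J, hSe, hX₁, hJ, hX₂⟩ := exists_ses j F hm0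
    haveI := hJ
    have hIj := isZero_locCoh_X₂ j S J hX₂
    have hQ : ∀ W : X.Etale, CondW j S.X₃ n W := by
      intro W
      obtain ⟨ha, hb, hc⟩ := ses_hyps j S J hX₂ W
      have hF' : CondW j S.X₁ (n + 1) W := by
        rw [hX₁]
        exact hF W
      exact condW_X₃ j S hSe W ha hb hc n hF'
    have hQd : EtDepth.DepthGE j S.X₃ n := ih S.X₃ hQ
    have hgoal : ∀ p : ℕ, p < n + 1 → IsZero ((EtDual.locCoh j p).obj S.X₁) := by
      intro p hp
      cases p with
      | zero =>
        haveI := Groth.Agent.Lib.Horseshoe0.mono_rightDerivedZero_map (EtDual.secSupp j)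
          (Groth.Agent.Lib.Horseshoe0.sesRes S hSe)
        exact IsZero.of_mono (((EtDual.secSupp j).rightDerived 0).map S.f) (hIj 0)
      | succ p =>
        have hex := (Groth.Agent.Lib.Horseshoe0.derivedLES (EtDual.secSupp j)).exact₁ S hSe p
          (p + 1) rfl
        exact hex.isZero_X₂ ((hQd p (Nat.lt_of_succ_lt_succ hp)).eq_of_src _ _)
          ((hIj (p + 1)).eq_of_tgt _ _)
    intro p hp
    have h := hgoal p hp
    rw [hX₁] at h
    exact h

theorem condW_mk (F : EtCoh.Ab X) (n : ℕ) {X' : Scheme.{u}} (g : X' ⟶ X) [Etale g]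
    [PreservesFiniteLimits (EtCoh.pull (pullback.snd j g))] :
    CondW j F n (Scheme.Etale.mk g) ↔
      Cond (fun M p => EtCore.Hpull (pullback.snd j g) M p) ((EtCoh.pull g).obj F) n := Iff.rfl

theorem cond_explicit (F : EtCoh.Ab X) (n : ℕ) {X' : Scheme.{u}} (g : X' ⟶ X)
    [PreservesFiniteLimits (EtCoh.pull (pullback.snd j g))] :
    Cond (fun M p => EtCore.Hpull (pullback.snd j g) M p) ((EtCoh.pull g).obj F) n ↔
      ((∀ p : ℕ, p + 1 < n → Function.Bijective
        (EtCore.Hpull (pullback.snd j g) ((EtCoh.pull g).obj F) p)) ∧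
      (∀ p : ℕ, p + 1 = n → Function.Injective
        (EtCore.Hpull (pullback.snd j g) ((EtCoh.pull g).obj F) p))) := Iff.rfl

theorem condW_explicit (F : EtCoh.Ab X) (n : ℕ) (W : X.Etale) :
    CondW j F n W ↔
      ((∀ p : ℕ, p + 1 < n → Function.Bijective
        (EtCore.Hpull (pullback.snd j W.hom) ((EtCoh.pull W.hom).obj F) p)) ∧
      (∀ p : ℕ, p + 1 = n → Function.Injective
        (EtCore.Hpull (pullback.snd j W.hom) ((EtCoh.pull W.hom).obj F) p))) := Iff.rfl

theorem main3364 [EtCoh.BCCont j] (F : EtCoh.Ab X) (n : ℕ) :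
    EtDepth.DepthGE j F n ↔ ∀ (X' : Scheme.{u}) (g : X' ⟶ X) [Etale g]
      [PreservesFiniteLimits (EtCoh.pull (pullback.snd j g))],
      (∀ p : ℕ, p + 1 < n → Function.Bijective
        (EtCore.Hpull (pullback.snd j g) ((EtCoh.pull g).obj F) p)) ∧
      (∀ p : ℕ, p + 1 = n → Function.Injective
        (EtCore.Hpull (pullback.snd j g) ((EtCoh.pull g).obj F) p)) := by
  constructor
  · intro h X' g _ _
    exact (cond_explicit j F n g).1
      ((condW_mk j F n g).1 (condW_of_depthGE j n F h (Scheme.Etale.mk g)))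
  · intro h
    apply depthGE_of_condW j n F
    intro W
    exact (condW_explicit j F n W).2 (h W.left W.hom)

end Main

end Groth.Agent.Lib.EtDepthEtH7
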