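import Mathlib
import Groth.Agent.Lib.EtDescInt1_helper7

/-!
# The descent spectral sequence of an integral surjective morphism, part 2 (helper7)
-/

set_option autoImplicit false
set_option backward.isDefEq.respectTransparency false
set_option backward.isDefEq.respectTransparency.types false
set_option linter.style.haveILetI false
set_option linter.unusedSectionVars false
universe u
open CategoryTheory CategoryTheory.Limits AlgebraicGeometry Opposite Abelian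

namespace Groth.Agent.Lib.EtDescIntH7

open Groth.Agent.Lib.EtIntH7 Groth.Agent.Lib.EtDescentSec_helper7 Groth.Agent.Lib.EtLeray1H7

/-! ### The descent spectral sequence -/

/-- the abutment -/
noncomputable def Hab {Y : Scheme.{u}} (F : EtCoh.Ab Y) (n : ℤ) : AddCommGrpCat.{u + 1} :=
  if 0 ≤ n then AddCommGrpCat.of (EtCoh.H Y F n.toNat) else AddCommGrpCat.of PUnit.{u + 2}

/-- the first page -/
noncomputable def E1 {X Y : Scheme.{u}} (f : X ⟶ Y) (F : EtCoh.Ab Y) (p q : ℤ) :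
    AddCommGrpCat.{u + 1} :=
  if 0 ≤ p ∧ 0 ≤ q then T f F p.toNat q.toNat else AddCommGrpCat.of PUnit.{u + 2}

lemma Hab_natCast {Y : Scheme.{u}} (F : EtCoh.Ab Y) (n : ℕ) :
    Hab F (n : ℤ) = AddCommGrpCat.of (EtCoh.H Y F n) := by
  unfold Hab
  rw [if_pos (Int.natCast_nonneg n), Int.toNat_natCast]

lemma E1_natCast {X Y : Scheme.{u}} (f : X ⟶ Y) (F : EtCoh.Ab Y) (p q : ℕ) :
    E1 f F (p : ℤ) (q : ℤ) = T f F p q := by
  unfold E1
  rw [if_pos ⟨Int.natCast_nonneg p, Int.natCast_nonneg q⟩, Int.toNat_natCast, Int.toNat_natCast]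

lemma nonempty_Hab_iso {Y : Scheme.{u}} (F : EtCoh.Ab Y) (n : ℕ) :
    Nonempty (((ExtDer.hom (EtCoh.const Y ℤ)).rightDerived n).obj F ≅ Hab F (n : ℤ)) := by
  rw [Hab_natCast]
  have e := (ExtDer.natIso (EtCoh.const Y ℤ) n).app F
  exact ⟨e⟩

lemma isZero_Hab {Y : Scheme.{u}} (F : EtCoh.Ab Y) (n : ℤ) (hn : n < 0) : IsZero (Hab F n) := by
  unfold Hab
  rw [if_neg (by omega)]
  exact AddCommGrpCat.isZero_of_subsingleton _

lemma isZero_E1 {X Y : Scheme.{u}} (f : X ⟶ Y) (F : EtCoh.Ab Y) (p q : ℤ) (h : p < 0 ∨ q < 0) :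
    IsZero (E1 f F p q) := by
  unfold E1
  rw [if_neg (by omega)]
  exact AddCommGrpCat.isZero_of_subsingleton _

set_option maxHeartbeats 400000 in
lemma nonempty_E1_iso {X Y : Scheme.{u}} (f : X ⟶ Y) [IsIntegralHom f] (F : EtCoh.Ab Y)
    (p q : ℕ) :
    Nonempty (((ExtDer.hom (EtCoh.const Y ℤ)).rightDerived q).obj
      (Groth.Agent.Lib.CobarH7.X (EtCoh.pull f) (EtCoh.push f) F (p + 1)) ≅
        E1 f F (p : ℤ) (q : ℤ)) := by
  rw [E1_natCast]
  obtain ⟨e1⟩ := nonempty_X_iso f F p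
  haveI := isIntegralHom_bn f p
  obtain ⟨e2⟩ := nonempty_H_push_iso (bn f p) ((EtCoh.pull (bn f p)).obj F) q
  have e0 := (ExtDer.natIso (EtCoh.const Y ℤ) q).app
    (Groth.Agent.Lib.CobarH7.X (EtCoh.pull f) (EtCoh.push f) F (p + 1))
  have e3 := ((Abelian.extFunctor q).obj (op (EtCoh.const Y ℤ))).mapIso e1
  have e4 : ((Abelian.extFunctor q).obj (op (EtCoh.const Y ℤ))).obj
      ((EtCoh.push (bn f p)).obj ((EtCoh.pull (bn f p)).obj F)) ≅ T f F p q := e2
  exact ⟨e0 ≪≫ e3 ≪≫ e4⟩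

set_option maxHeartbeats 400000 in
theorem main' {X Y : Scheme.{u}} (f : X ⟶ Y) [IsIntegralHom f] [Surjective f] (F : EtCoh.Ab Y) :
    ∃ (E : CohomologicalSpectralSequence AddCommGrpCat.{u + 1} 1)
      (a : SpSeq.Abutment E (Hab F)),
      (∀ n, a.IsFinite n) ∧ SpSeq.IsBounded E ∧
      ∀ p q : ℤ, Nonempty ((E.page 1 le_rfl).X (p, q) ≅ E1 f F p q) := by
  have hL : ∀ A : EtCoh.Ab Y, IsZero ((EtCoh.pull f).obj A) → IsZero A :=
    isZero_of_isZero_pull f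
  obtain ⟨e⟩ := Groth.Agent.Lib.CobarH7.nonempty_iso_cycles (EtCoh.pullPushAdj f) hL F
  have h1 := Groth.Agent.Lib.CobarH7.isZero_homology_K (EtCoh.pullPushAdj f) hL F
  have h2 := @Groth.Agent.Lib.CxGrothSSH7.exists_ss (EtCoh.Ab Y) _ _ AddCommGrpCat.{u+1} _ _
    (ExtDer.hom (EtCoh.const Y ℤ)) _ _ _ _ _
    (Groth.Agent.Lib.CobarH7.K (EtCoh.pullPushAdj f) F)
  have h3 := h2 h1 e
  have h4 := h3 (Hab F)
  have h5 := h4 (nonempty_Hab_iso F)
  have h6 := h5 (isZero_Hab F)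
  have h7 := h6 (E1 f F)
  have h8 := h7 (nonempty_E1_iso f F)
  exact h8 (isZero_E1 f F)

set_option maxHeartbeats 400000 in
theorem main {X Y : Scheme.{u}} (f : X ⟶ Y) [IsIntegralHom f] [Surjective f] (F : EtCoh.Ab Y) :
    ∃ (E : CohomologicalSpectralSequence AddCommGrpCat.{u + 1} 1)
      (a : SpSeq.Abutment E (fun n : ℤ =>
        if 0 ≤ n then AddCommGrpCat.of (EtCoh.H Y F n.toNat) else AddCommGrpCat.of PUnit.{u + 2})),
      (∀ n, a.IsFinite n) ∧ SpSeq.IsBounded E ∧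
      ∀ p q : ℤ, Nonempty ((E.page 1 le_rfl).X (p, q) ≅
        (if 0 ≤ p ∧ 0 ≤ q then T f F p.toNat q.toNat else AddCommGrpCat.of PUnit.{u + 2})) := by
  have h := main' f F
  have hH : Hab F = (fun n : ℤ =>
      if 0 ≤ n then AddCommGrpCat.of (EtCoh.H Y F n.toNat) else AddCommGrpCat.of PUnit.{u + 2}) :=
    rfl
  have hE : E1 f F = (fun p q : ℤ =>
      if 0 ≤ p ∧ 0 ≤ q then T f F p.toNat q.toNat else AddCommGrpCat.of PUnit.{u + 2}) := rfl
  rw [hH, hE] at h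
  exact h

end Groth.Agent.Lib.EtDescIntH7
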