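import Mathlib
import Groth.Agent.Lib.AffDescGeom_helper6

/-!
# Descent of quasi-affine schemes, I: the coaction from pushout data
-/

set_option backward.isDefEq.respectTransparency false
set_option backward.isDefEq.respectTransparency.types false

universe u

open CategoryTheory CategoryTheory.Limits AlgebraicGeometry Opposite TensorProduct

namespace Groth.Agent.Lib.AffDescH6

section G

variable {A B C : Type u} [CommRing A] [CommRing B] [CommRing C] [Algebra A B] [Algebra B C]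
  [Algebra A C] [IsScalarTower A B C]

variable (A C) in
/-- The structure map `A → C` in `CommRingCat`. -/
abbrev fAC : CommRingCat.of A ⟶ CommRingCat.of C := CommRingCat.ofHom (algebraMap A C)

lemma fAB_fBC : fAB A B ≫ fBC B C = fAC A C := by
  ext a
  exact (IsScalarTower.algebraMap_apply A B C a).symm

variable {P₂ P₃ : CommRingCat.{u}}
  (i₂ : CommRingCat.of B ⟶ P₂) (j₂ : CommRingCat.of C ⟶ P₂)
  (h₂ : IsPushout (fAB A B) (fAC A C) i₂ j₂)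
  (i₃ : CommRingCat.of B ⟶ P₃) (j₃ : P₂ ⟶ P₃)
  (h₃ : IsPushout (fAB A B) (fAC A C ≫ j₂) i₃ j₃)
  (g' : CommRingCat.of C ⟶ P₂) (d : P₂ ⟶ CommRingCat.of C) (m' n' : P₂ ⟶ P₃)
  (e1 : fBC B C ≫ g' = i₂) (e2 : i₂ ≫ d = fBC B C) (e3 : j₂ ≫ d = 𝟙 _) (e4 : g' ≫ d = 𝟙 _)
  (e5 : i₂ ≫ m' = i₃) (e6 : j₂ ≫ m' = j₂ ≫ j₃) (e7 : i₂ ≫ n' = i₃) (e8 : j₂ ≫ n' = g' ≫ j₃)
  (e9 : g' ≫ n' = g' ≫ m')

/-- The comparison `B ⊗[A] C ≅ P₂`. -/
noncomputable def κ₂ : CommRingCat.of (B ⊗[A] C) ≅ P₂ :=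
  (CommRingCat.isPushout_tensorProduct A B C).isoIsPushout _ _ h₂

omit [IsScalarTower A B C] in
lemma inl_κ₂ : inl₂ A B C ≫ (κ₂ i₂ j₂ h₂).hom = i₂ := by
  unfold κ₂
  exact IsPushout.inl_isoIsPushout_hom _ _ (CommRingCat.isPushout_tensorProduct A B C) h₂

omit [IsScalarTower A B C] in
lemma inr_κ₂ : inr₂ A B C ≫ (κ₂ i₂ j₂ h₂).hom = j₂ := by
  unfold κ₂
  exact IsPushout.inr_isoIsPushout_hom _ _ (CommRingCat.isPushout_tensorProduct A B C) h₂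

/-- The coaction in `CommRingCat`. -/
noncomputable def γG : CommRingCat.of C ⟶ CommRingCat.of (B ⊗[A] C) := g' ≫ (κ₂ i₂ j₂ h₂).inv

omit [IsScalarTower A B C] in
lemma γG_κ₂ : γG i₂ j₂ h₂ g' ≫ (κ₂ i₂ j₂ h₂).hom = g' := by
  rw [γG, Category.assoc, Iso.inv_hom_id, Category.comp_id]

include e1 in
omit [IsScalarTower A B C] in
lemma γG_unit : fBC B C ≫ γG i₂ j₂ h₂ g' = inl₂ A B C := by
  rw [γG, ← Category.assoc, e1, Iso.comp_inv_eq, inl_κ₂]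

include e2 e3 in
lemma μc_eq : μc A B C = (κ₂ i₂ j₂ h₂).hom ≫ d := by
  apply (CommRingCat.isPushout_tensorProduct A B C).hom_ext
  · rw [← Category.assoc, inl_κ₂, e2]; exact inl_μc
  · rw [← Category.assoc, inr_κ₂, e3]; exact inr_μc

include e2 e3 e4 in
lemma γG_counit : γG i₂ j₂ h₂ g' ≫ μc A B C = 𝟙 _ := by
  rw [μc_eq i₂ j₂ h₂ d e2 e3, ← Category.assoc, γG_κ₂, e4]

/-- The coaction as an `A`-algebra map. -/
noncomputable def γGa : C →ₐ[A] B ⊗[A] C :=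
  { (γG i₂ j₂ h₂ g').hom with
    commutes' := fun a => by
      have h := congrArg (fun f => f.hom (algebraMap A B a)) (γG_unit i₂ j₂ h₂ g' e1)
      simp only [CommRingCat.hom_comp, CommRingCat.hom_ofHom, RingHom.comp_apply] at h
      rw [IsScalarTower.algebraMap_apply A B C]
      exact h.trans (by simp [Algebra.TensorProduct.algebraMap_apply]) }

lemma γGa_apply (c : C) : γGa i₂ j₂ h₂ g' e1 c = (γG i₂ j₂ h₂ g').hom c := rfl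

lemma γGa_h1 (b : B) : γGa i₂ j₂ h₂ g' e1 (algebraMap B C b) = b ⊗ₜ 1 := by
  have h := congrArg (fun f => f.hom b) (γG_unit i₂ j₂ h₂ g' e1)
  rw [γGa_apply]
  simpa using h

include e2 e3 e4 in
lemma γGa_h3 (c : C) : μ A B C (γGa i₂ j₂ h₂ g' e1 c) = c := by
  have h := congrArg (fun f => f.hom c) (γG_counit i₂ j₂ h₂ g' d e2 e3 e4)
  rw [γGa_apply]
  simpa using h

/-- `id ⊗ γ`. -/
noncomputable abbrev nnG : CommRingCat.of (B ⊗[A] C) ⟶ CommRingCat.of (B ⊗[A] (B ⊗[A] C)) :=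
  CommRingCat.ofHom (Algebra.TensorProduct.map (AlgHom.id A B)
    (γGa i₂ j₂ h₂ g' e1)).toRingHom

lemma inl_nnG : inl₂ A B C ≫ nnG i₂ j₂ h₂ g' e1 = inl₃ A B C := by
  ext b
  show Algebra.TensorProduct.map (AlgHom.id A B) (γGa i₂ j₂ h₂ g' e1)
    (b ⊗ₜ[A] (1 : C)) = b ⊗ₜ[A] (1 : B ⊗[A] C)
  simp

lemma inr_nnG : inr₂ A B C ≫ nnG i₂ j₂ h₂ g' e1 = γG i₂ j₂ h₂ g' ≫ ι₂ A B C := by
  ext c
  show Algebra.TensorProduct.map (AlgHom.id A B) (γGa i₂ j₂ h₂ g' e1)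
    ((1 : B) ⊗ₜ[A] c) = (1 : B) ⊗ₜ[A] ((γG i₂ j₂ h₂ g').hom c)
  simp [γGa_apply]

include h₃ in
lemma h₃' : IsPushout (fAB A B) (CommRingCat.ofHom (algebraMap A (B ⊗[A] C))) i₃
    ((κ₂ i₂ j₂ h₂).hom ≫ j₃) := by
  refine h₃.of_iso (Iso.refl _) (Iso.refl _) (κ₂ i₂ j₂ h₂).symm (Iso.refl _) (by simp) ?_
    (by simp) (by simp)
  rw [Iso.refl_hom, Category.id_comp, Iso.symm_hom, Category.assoc, ← Category.assoc,
    Iso.comp_inv_eq]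
  have e := inr_κ₂ i₂ j₂ h₂
  have e' : CommRingCat.ofHom (algebraMap A (B ⊗[A] C)) = fAC A C ≫ inr₂ A B C := by
    ext a
    show algebraMap A (B ⊗[A] C) a = (1 : B) ⊗ₜ[A] algebraMap A C a
    rw [Algebra.TensorProduct.algebraMap_apply, Algebra.algebraMap_eq_smul_one,
      Algebra.algebraMap_eq_smul_one, TensorProduct.smul_tmul]
  rw [e', Category.assoc, e]

/-- The comparison `B ⊗[A] (B ⊗[A] C) ≅ P₃`. -/
noncomputable def κ₃ : CommRingCat.of (B ⊗[A] (B ⊗[A] C)) ≅ P₃ :=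
  (CommRingCat.isPushout_tensorProduct A B (B ⊗[A] C)).isoIsPushout _ _ (h₃' i₂ j₂ h₂ i₃ j₃ h₃)

lemma inl_κ₃ : inl₃ A B C ≫ (κ₃ i₂ j₂ h₂ i₃ j₃ h₃).hom = i₃ := by
  unfold κ₃
  exact IsPushout.inl_isoIsPushout_hom _ _
    (CommRingCat.isPushout_tensorProduct A B (B ⊗[A] C)) (h₃' i₂ j₂ h₂ i₃ j₃ h₃)

lemma inr_κ₃ : ι₂ A B C ≫ (κ₃ i₂ j₂ h₂ i₃ j₃ h₃).hom = (κ₂ i₂ j₂ h₂).hom ≫ j₃ := by
  unfold κ₃
  exact IsPushout.inr_isoIsPushout_hom _ _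
    (CommRingCat.isPushout_tensorProduct A B (B ⊗[A] C)) (h₃' i₂ j₂ h₂ i₃ j₃ h₃)

include e5 e6 in
lemma mm_κ₃ : mm A B C ≫ (κ₃ i₂ j₂ h₂ i₃ j₃ h₃).hom = (κ₂ i₂ j₂ h₂).hom ≫ m' := by
  apply (CommRingCat.isPushout_tensorProduct A B C).hom_ext
  · rw [← Category.assoc, inl_mm, inl_κ₃, ← Category.assoc, inl_κ₂, e5]
  · rw [← Category.assoc, inr_mm, Category.assoc, inr_κ₃, ← Category.assoc, inr_κ₂,
      ← Category.assoc, inr_κ₂, e6]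

include e7 e8 in
lemma nn_κ₃ : nnG i₂ j₂ h₂ g' e1 ≫ (κ₃ i₂ j₂ h₂ i₃ j₃ h₃).hom = (κ₂ i₂ j₂ h₂).hom ≫ n' := by
  apply (CommRingCat.isPushout_tensorProduct A B C).hom_ext
  · rw [← Category.assoc, inl_nnG, inl_κ₃, ← Category.assoc, inl_κ₂, e7]
  · rw [← Category.assoc, inr_nnG, Category.assoc, inr_κ₃, ← Category.assoc, γG_κ₂,
      ← Category.assoc, inr_κ₂, e8]

include h₃ e5 e6 e7 e8 e9 in
lemma γG_cocycle : γG i₂ j₂ h₂ g' ≫ nnG i₂ j₂ h₂ g' e1 = γG i₂ j₂ h₂ g' ≫ mm A B C := by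
  rw [← cancel_mono (κ₃ i₂ j₂ h₂ i₃ j₃ h₃).hom, Category.assoc, Category.assoc,
    nn_κ₃ i₂ j₂ h₂ i₃ j₃ h₃ g' n' e1 e7 e8, mm_κ₃ i₂ j₂ h₂ i₃ j₃ h₃ m' e5 e6, ← Category.assoc,
    ← Category.assoc, γG_κ₂, e9]

include h₃ e5 e6 e7 e8 e9 in
lemma γGa_h2 (c : C) : Algebra.TensorProduct.map (AlgHom.id A B) (γGa i₂ j₂ h₂ g' e1)
      (γGa i₂ j₂ h₂ g' e1 c) =
    Algebra.TensorProduct.map (AlgHom.id A B) Algebra.TensorProduct.includeRight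
      (γGa i₂ j₂ h₂ g' e1 c) := by
  have h := congrArg (fun f => f.hom c)
    (γG_cocycle i₂ j₂ h₂ i₃ j₃ h₃ g' m' n' e1 e5 e6 e7 e8 e9)
  exact h

end G

end Groth.Agent.Lib.AffDescH6
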