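import Mathlib
import Groth.Agent.Lib.QAffDesc1_helper6

/-!
# Descent of quasi-affine schemes, II: the universal points of a descent datum
-/

set_option backward.isDefEq.respectTransparency false
set_option backward.isDefEq.respectTransparency.types false

universe u

open CategoryTheory CategoryTheory.Limits AlgebraicGeometry Opposite TensorProduct

namespace Groth.Agent.Lib.AffDescH6

section geo

variable {X S : Scheme.{u}} (p : X ⟶ S) (D : Desc.SchDD p)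

/-- `X ×_S V`. -/
noncomputable abbrev T₂' : Scheme.{u} := pullback p (D.obj.hom ≫ p)

/-- First projection `X ×_S V → X`. -/
noncomputable abbrev fst₂ : T₂' p D ⟶ X := pullback.fst p (D.obj.hom ≫ p)

/-- Second projection `X ×_S V → V`. -/
noncomputable abbrev snd₂ : T₂' p D ⟶ D.obj.left := pullback.snd p (D.obj.hom ≫ p)

lemma hx₂ : (snd₂ p D ≫ D.obj.hom) ≫ p = fst₂ p D ≫ p := by
  rw [Category.assoc]; exact pullback.condition.symm

/-- The universal transported point `X ×_S V → V`. -/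
noncomputable def vu' : T₂' p D ⟶ D.obj.left :=
  (D.φ (snd₂ p D ≫ D.obj.hom) (fst₂ p D) (hx₂ p D) ⟨snd₂ p D, rfl⟩).1

lemma vu'_π : vu' p D ≫ D.obj.hom = fst₂ p D :=
  (D.φ (snd₂ p D ≫ D.obj.hom) (fst₂ p D) (hx₂ p D) ⟨snd₂ p D, rfl⟩).2

/-- The universal formula for the gluing bijections. -/
lemma univ' {T : Scheme.{u}} (t : T ⟶ T₂' p D) (x₀ x₁ : T ⟶ X) (h : x₁ ≫ p = x₀ ≫ p)
    (y : Desc.Lifts D.obj x₁) (h₀ : x₀ = t ≫ fst₂ p D) (hy : y.1 = t ≫ snd₂ p D) :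
    (D.φ x₁ x₀ h y).1 = t ≫ vu' p D := by
  have h₁ : x₁ = t ≫ (snd₂ p D ≫ D.obj.hom) := by
    rw [← Category.assoc, ← hy, y.2]
  have h' : (t ≫ (snd₂ p D ≫ D.obj.hom)) ≫ p = (t ≫ fst₂ p D) ≫ p := by rw [← h₀, ← h₁, h]
  have := D.φ_natural t (snd₂ p D ≫ D.obj.hom) (fst₂ p D) (hx₂ p D) h' ⟨snd₂ p D, rfl⟩
    ⟨t ≫ snd₂ p D, by rw [Category.assoc]⟩ rfl
  refine Eq.trans ?_ this
  exact φ_congr' p D h₁ h₀ h h' y _ hy

/-- The general formula: any lift is transported by composing the classifying map with `vu'`. -/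
lemma φ_eq_lift {T : Scheme.{u}} (x₀ x₁ : T ⟶ X) (h : x₁ ≫ p = x₀ ≫ p)
    (y : Desc.Lifts D.obj x₁) :
    (D.φ x₁ x₀ h y).1 = pullback.lift x₀ y.1 (by rw [← Category.assoc, y.2, h]) ≫ vu' p D :=
  univ' p D _ x₀ x₁ h y (pullback.lift_fst _ _ _).symm (pullback.lift_snd _ _ _).symm

/-- The diagonal `V → X ×_S V`. -/
noncomputable def δ₂ : D.obj.left ⟶ T₂' p D :=
  pullback.lift D.obj.hom (𝟙 _) (by rw [Category.id_comp])

@[reassoc (attr := simp)]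
lemma δ₂_fst : δ₂ p D ≫ fst₂ p D = D.obj.hom := pullback.lift_fst _ _ _

@[reassoc (attr := simp)]
lemma δ₂_snd : δ₂ p D ≫ snd₂ p D = 𝟙 _ := pullback.lift_snd _ _ _

lemma δ₂_vu' : δ₂ p D ≫ vu' p D = 𝟙 _ := by
  have key := univ' p D (δ₂ p D) D.obj.hom D.obj.hom rfl ⟨𝟙 _, Category.id_comp _⟩
    (δ₂_fst p D).symm (δ₂_snd p D).symm
  rw [D.φ_self] at key
  exact key.symm

/-- `X ×_S X ×_S V`. -/
noncomputable abbrev T₃' : Scheme.{u} := pullback p (fst₂ p D ≫ p)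

/-- First projection. -/
noncomputable abbrev q₀ : T₃' p D ⟶ X := pullback.fst p (fst₂ p D ≫ p)

/-- Projection to `X ×_S V`. -/
noncomputable abbrev q₁₂ : T₃' p D ⟶ T₂' p D := pullback.snd p (fst₂ p D ≫ p)

/-- `(x₀, x₁, v₂) ↦ (x₀, v₂)`. -/
noncomputable def mm' : T₃' p D ⟶ T₂' p D :=
  pullback.lift (q₀ p D) (q₁₂ p D ≫ snd₂ p D) (by
    have e1 : q₀ p D ≫ p = q₁₂ p D ≫ fst₂ p D ≫ p := pullback.condition
    have e2 : fst₂ p D ≫ p = snd₂ p D ≫ D.obj.hom ≫ p := pullback.condition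
    rw [e1, Category.assoc]
    exact congrArg (q₁₂ p D ≫ ·) e2)

/-- `(x₀, x₁, v₂) ↦ (x₀, φ_{x₂ x₁} v₂)`. -/
noncomputable def nn' : T₃' p D ⟶ T₂' p D :=
  pullback.lift (q₀ p D) (q₁₂ p D ≫ vu' p D) (by
    have e1 : q₀ p D ≫ p = q₁₂ p D ≫ fst₂ p D ≫ p := pullback.condition
    rw [e1, Category.assoc]
    exact congrArg (q₁₂ p D ≫ ·) (by rw [← Category.assoc, vu'_π]))

@[reassoc (attr := simp)]
lemma mm'_fst : mm' p D ≫ fst₂ p D = q₀ p D := pullback.lift_fst _ _ _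

@[reassoc (attr := simp)]
lemma mm'_snd : mm' p D ≫ snd₂ p D = q₁₂ p D ≫ snd₂ p D := pullback.lift_snd _ _ _

@[reassoc (attr := simp)]
lemma nn'_fst : nn' p D ≫ fst₂ p D = q₀ p D := pullback.lift_fst _ _ _

@[reassoc (attr := simp)]
lemma nn'_snd : nn' p D ≫ snd₂ p D = q₁₂ p D ≫ vu' p D := pullback.lift_snd _ _ _

/-- The cocycle identity on `X ×_S X ×_S V`. -/
lemma nn'_vu' : nn' p D ≫ vu' p D = mm' p D ≫ vu' p D := by
  -- points on T₃'
  let x₀ : T₃' p D ⟶ X := q₀ p D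
  let x₁ : T₃' p D ⟶ X := q₁₂ p D ≫ fst₂ p D
  let y₂ : Desc.Lifts D.obj (q₁₂ p D ≫ snd₂ p D ≫ D.obj.hom) :=
    ⟨q₁₂ p D ≫ snd₂ p D, by rw [Category.assoc]⟩
  have h21 : (q₁₂ p D ≫ snd₂ p D ≫ D.obj.hom) ≫ p = x₁ ≫ p := by
    simp only [x₁, Category.assoc]
    rw [pullback.condition]
  have h10 : x₁ ≫ p = x₀ ≫ p := by
    simp only [x₁, x₀, Category.assoc]
    exact pullback.condition.symm
  have ka := univ' p D (q₁₂ p D) x₁ _ h21 y₂ rfl rfl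
  let y₁ : Desc.Lifts D.obj x₁ := D.φ _ _ h21 y₂
  have kb := univ' p D (nn' p D) x₀ x₁ h10 y₁ (nn'_fst p D).symm
    (by rw [nn'_snd]; exact ka)
  have kc := univ' p D (mm' p D) x₀ _ (h21.trans h10) y₂ (mm'_fst p D).symm
    (by rw [mm'_snd])
  have hcomp := congrArg Subtype.val (D.φ_comp _ _ _ h21 h10 y₂)
  rw [kc] at hcomp
  exact kb.symm.trans hcomp

end geo

end Groth.Agent.Lib.AffDescH6
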