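import Mathlib
import Groth.Agent.Lib.QAffDesc2_helper6
import Groth.Agent.S9839

/-!
# Descent of quasi-affine schemes, III: descending a stable open of an effective datum
-/

set_option backward.isDefEq.respectTransparency false
set_option backward.isDefEq.respectTransparency.types false

universe u

open CategoryTheory CategoryTheory.Limits AlgebraicGeometry Opposite TensorProduct

namespace Groth.Agent.Lib.AffDescH6

section openDesc

variable {X S : Scheme.{u}} (p : X ⟶ S) [Surjective p] [Flat p] [QuasiCompact p]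
  (D : Desc.SchDD p)
  {Va Ua : Scheme.{u}} (πa : Va ⟶ X) (ra : Va ⟶ Ua) (ua : Ua ⟶ S)
  (hpb : IsPullback πa ra p ua)
  (jV : D.obj.left ⟶ Va) [IsOpenImmersion jV] (hj : jV ≫ πa = D.obj.hom)
  (hN : vu' p D ≫ jV ≫ ra = snd₂ p D ≫ jV ≫ ra)

include hN in
omit [Surjective p] [Flat p] [QuasiCompact p] [IsOpenImmersion jV] in
lemma compat_a {T : Scheme.{u}} (x₀ x₁ : T ⟶ X) (h : x₁ ≫ p = x₀ ≫ p)
    (y : Desc.Lifts D.obj x₁) : (D.φ x₁ x₀ h y).1 ≫ jV ≫ ra = y.1 ≫ jV ≫ ra := by
  rw [φ_eq_lift p D x₀ x₁ h y, Category.assoc, hN, ← Category.assoc, pullback.lift_snd]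

include hpb hj hN in
omit [Surjective p] [Flat p] [QuasiCompact p] in
/-- The image of `V` in `Va` is saturated for `ra`. -/
lemma stab {T : Scheme.{u}} (a b : T ⟶ Va) (hab : a ≫ ra = b ≫ ra)
    (ha : Set.range a.base ⊆ Set.range jV.base) : Set.range b.base ⊆ Set.range jV.base := by
  let y : T ⟶ D.obj.left := IsOpenImmersion.lift jV a ha
  have hy : y ≫ jV = a := IsOpenImmersion.lift_fac jV a ha
  have h : (y ≫ D.obj.hom) ≫ p = (b ≫ πa) ≫ p := by
    rw [← hj, ← Category.assoc y, hy, Category.assoc, Category.assoc, hpb.w, ← Category.assoc,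
      hab, Category.assoc]
  let z := D.φ (y ≫ D.obj.hom) (b ≫ πa) h ⟨y, rfl⟩
  have hz : z.1 ≫ jV = b := by
    apply hpb.hom_ext
    · rw [Category.assoc, hj, z.2]
    · rw [Category.assoc, compat_a p D ra jV hN _ _ h ⟨y, rfl⟩, ← Category.assoc, hy, hab]
  rw [← hz]
  rintro _ ⟨t, rfl⟩
  exact ⟨z.1.base t, by simp⟩

include hpb hj hN in
/-- Descent of the stable open `V ⊆ Va` to an open of `Ua`, giving effectivity. -/
theorem exists_descent_of_open : ∃ U : Over S, Nonempty ((Desc.toDD p).obj U ≅ D) := by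
  haveI : Flat ra := MorphismProperty.of_isPullback (P := @Flat) hpb inferInstance
  haveI : Surjective ra := MorphismProperty.of_isPullback (P := @Surjective) hpb inferInstance
  haveI : QuasiCompact ra := MorphismProperty.of_isPullback (P := @QuasiCompact) hpb inferInstance
  have hf : Presieve.ofArrows (fun _ : PUnit.{u+1} => Va) (fun _ => ra) ∈
      Scheme.fpqcPrecoverage Ua := by
    rw [Presieve.ofArrows_pUnit]
    exact ra.singleton_mem_fpqcPrecoverage
  have hW : (pullback.fst ra ra) ⁻¹ᵁ jV.opensRange = (pullback.snd ra ra) ⁻¹ᵁ jV.opensRange := by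
    apply le_antisymm
    · intro z hz
      have := stab p D πa ra ua hpb jV hj hN
        (((pullback.fst ra ra) ⁻¹ᵁ jV.opensRange).ι ≫ pullback.fst ra ra)
        (((pullback.fst ra ra) ⁻¹ᵁ jV.opensRange).ι ≫ pullback.snd ra ra)
        (by rw [Category.assoc, Category.assoc, pullback.condition])
        (by
          rintro _ ⟨t, rfl⟩
          exact t.2)
      exact this ⟨⟨z, hz⟩, rfl⟩
    · intro z hz
      have := stab p D πa ra ua hpb jV hj hN
        (((pullback.snd ra ra) ⁻¹ᵁ jV.opensRange).ι ≫ pullback.snd ra ra)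
        (((pullback.snd ra ra) ⁻¹ᵁ jV.opensRange).ι ≫ pullback.fst ra ra)
        (by rw [Category.assoc, Category.assoc, pullback.condition])
        (by
          rintro _ ⟨t, rfl⟩
          exact t.2)
      exact this ⟨⟨z, hz⟩, rfl⟩
  obtain ⟨U, hU, -⟩ := Groth.Agent.S9839.result (fun _ : PUnit.{u+1} => ra) hf
    (fun _ => jV.opensRange) (fun _ _ => hW)
  have hU' : ra ⁻¹ᵁ U = jV.opensRange := hU ⟨⟩
  have hrange : Set.range (jV ≫ ra).base ⊆ Set.range U.ι.base := by
    rintro _ ⟨v, rfl⟩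
    have : jV.base v ∈ ra ⁻¹ᵁ U := by rw [hU']; exact ⟨v, rfl⟩
    simpa using this
  let r : D.obj.left ⟶ U := IsOpenImmersion.lift U.ι (jV ≫ ra) hrange
  have hr : r ≫ U.ι = jV ≫ ra := IsOpenImmersion.lift_fac _ _ _
  have h1 : IsPullback jV r ra U.ι :=
    (IsOpenImmersion.isPullback r jV U.ι ra hr.symm (by rw [Scheme.Opens.opensRange_ι, hU'])).flip
  have h2 : IsPullback D.obj.hom r p (U.ι ≫ ua) := by
    have := h1.paste_horiz hpb
    rwa [hj] at this
  refine ⟨Over.mk (U.ι ≫ ua), iso_of_glue p D (Over.mk (U.ι ≫ ua)) r h2 ?_⟩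
  intro T x₀ x₁ h y
  rw [← cancel_mono U.ι, Category.assoc, Category.assoc, hr]
  exact compat_a p D ra jV hN x₁ x₀ h y

end openDesc

end Groth.Agent.Lib.AffDescH6
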