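import Mathlib
import Groth.Agent.Lib.QAffDesc3_helper6

/-!
# Restriction of a descent datum to an invariant subscheme
-/

set_option backward.isDefEq.respectTransparency false
set_option backward.isDefEq.respectTransparency.types false

universe u

open CategoryTheory CategoryTheory.Limits AlgebraicGeometry Opposite

namespace Groth.Agent.Lib.LocEffH6

open Groth.Agent.Lib.AffDescH6

section restrict

variable {X S : Scheme.{u}} {p : X ⟶ S} (D : Desc.SchDD p)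

/-- A monomorphism `j : V' ⟶ V` is invariant under the descent datum if transported points of
`V'` stay in `V'`. -/
def IsInv {V' : Scheme.{u}} (j : V' ⟶ D.obj.left) : Prop :=
  ∀ ⦃T : Scheme.{u}⦄ (x₀ x₁ : T ⟶ X) (h : x₀ ≫ p = x₁ ≫ p) (y' : T ⟶ V')
    (hy : (y' ≫ j) ≫ D.obj.hom = x₀),
    ∃ z' : T ⟶ V', z' ≫ j = (D.φ x₀ x₁ h ⟨y' ≫ j, hy⟩).1

variable {D} {V' : Scheme.{u}} {j : V' ⟶ D.obj.left} [Mono j] (hj : IsInv D j)

/-- The transport of a point of `V'`. -/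
noncomputable def tr {T : Scheme.{u}} (x₀ x₁ : T ⟶ X) (h : x₀ ≫ p = x₁ ≫ p)
    (y' : Desc.Lifts (Over.mk (j ≫ D.obj.hom)) x₀) : Desc.Lifts (Over.mk (j ≫ D.obj.hom)) x₁ :=
  ⟨(hj x₀ x₁ h y'.1 (by rw [Category.assoc]; exact y'.2)).choose, by
    have := (hj x₀ x₁ h y'.1 (by rw [Category.assoc]; exact y'.2)).choose_spec
    show _ ≫ j ≫ D.obj.hom = x₁
    rw [← Category.assoc, this]
    exact (D.φ x₀ x₁ h _).2⟩

omit [Mono j] in
lemma tr_spec {T : Scheme.{u}} (x₀ x₁ : T ⟶ X) (h : x₀ ≫ p = x₁ ≫ p)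
    (y' : Desc.Lifts (Over.mk (j ≫ D.obj.hom)) x₀) :
    (tr hj x₀ x₁ h y').1 ≫ j =
      (D.φ x₀ x₁ h ⟨y'.1 ≫ j, by rw [Category.assoc]; exact y'.2⟩).1 :=
  (hj x₀ x₁ h y'.1 (by rw [Category.assoc]; exact y'.2)).choose_spec

/-- The restriction of a descent datum to an invariant subscheme. -/
noncomputable def restrictDD : Desc.SchDD p where
  obj := Over.mk (j ≫ D.obj.hom)
  φ T x₀ x₁ h :=
    { toFun := tr hj x₀ x₁ h
      invFun := tr hj x₁ x₀ h.symm
      left_inv := fun y' => by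
        apply Subtype.ext
        rw [← cancel_mono j, tr_spec]
        have e := congrArg Subtype.val (D.φ_comp x₀ x₁ x₀ h h.symm
          ⟨y'.1 ≫ j, by rw [Category.assoc]; exact y'.2⟩)
        rw [D.φ_self] at e
        refine Eq.trans ?_ e
        exact φ_congr' p D rfl rfl _ _ _ _ (tr_spec hj x₀ x₁ h y')
      right_inv := fun y' => by
        apply Subtype.ext
        rw [← cancel_mono j, tr_spec]
        have e := congrArg Subtype.val (D.φ_comp x₁ x₀ x₁ h.symm h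
          ⟨y'.1 ≫ j, by rw [Category.assoc]; exact y'.2⟩)
        rw [D.φ_self] at e
        refine Eq.trans ?_ e
        exact φ_congr' p D rfl rfl _ _ _ _ (tr_spec hj x₁ x₀ h.symm y') }
  φ_natural T T' g x₀ x₁ h h' v v' hv' := by
    show (tr hj (g ≫ x₀) (g ≫ x₁) h' v').1 = g ≫ (tr hj x₀ x₁ h v).1
    rw [← cancel_mono j]
    refine (tr_spec hj _ _ h' v').trans ?_
    refine Eq.trans ?_ (Category.assoc _ _ _).symm
    refine Eq.trans ?_ (congrArg (g ≫ ·) (tr_spec hj x₀ x₁ h v).symm)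
    exact D.φ_natural g x₀ x₁ h h' _ _ (by
      show v'.1 ≫ j = g ≫ v.1 ≫ j
      rw [hv', Category.assoc])
  φ_self T x v := by
    apply Subtype.ext
    show (tr hj x x rfl v).1 = v.1
    rw [← cancel_mono j, tr_spec, D.φ_self]
  φ_comp T x₀ x₁ x₂ h₀₁ h₁₂ v := by
    apply Subtype.ext
    show (tr hj x₁ x₂ h₁₂ (tr hj x₀ x₁ h₀₁ v)).1 = (tr hj x₀ x₂ _ v).1
    rw [← cancel_mono j]
    refine (tr_spec hj x₁ x₂ h₁₂ _).trans ?_
    refine Eq.trans ?_ (tr_spec hj x₀ x₂ _ v).symm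
    have e := congrArg Subtype.val (D.φ_comp x₀ x₁ x₂ h₀₁ h₁₂
      ⟨v.1 ≫ j, by rw [Category.assoc]; exact v.2⟩)
    refine Eq.trans ?_ e
    exact φ_congr' p D rfl rfl _ _ _ _ (tr_spec hj x₀ x₁ h₀₁ v)

@[simp] lemma restrictDD_obj : (restrictDD hj).obj = Over.mk (j ≫ D.obj.hom) := rfl

lemma restrictDD_φ {T : Scheme.{u}} (x₀ x₁ : T ⟶ X) (h : x₀ ≫ p = x₁ ≫ p)
    (y' : Desc.Lifts (restrictDD hj).obj x₀) :
    ((restrictDD hj).φ x₀ x₁ h y').1 ≫ j =
      (D.φ x₀ x₁ h ⟨y'.1 ≫ j, by rw [Category.assoc]; exact y'.2⟩).1 :=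
  tr_spec hj x₀ x₁ h y'

/-- The inclusion of the restricted datum. -/
noncomputable def incl : restrictDD hj ⟶ D :=
  ⟨Over.homMk j rfl, fun T x₀ x₁ h v w hw => by
    have e := restrictDD_φ hj x₀ x₁ h v
    show (D.φ x₀ x₁ h w).1 = ((restrictDD hj).φ x₀ x₁ h v).1 ≫ j
    rw [e]
    exact φ_congr' p D rfl rfl _ _ _ _ hw⟩

@[simp] lemma incl_left : (incl hj).hom.left = j := rfl

/-- The transition morphism between restrictions. -/
noncomputable def ρ {V'' : Scheme.{u}} {j₂ : V'' ⟶ D.obj.left} [Mono j₂] (hj₂ : IsInv D j₂)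
    (k : V'' ⟶ V') (hk : k ≫ j = j₂) : restrictDD hj₂ ⟶ restrictDD hj :=
  ⟨Over.homMk k (by
      show k ≫ j ≫ D.obj.hom = j₂ ≫ D.obj.hom
      rw [← Category.assoc, hk]), fun T x₀ x₁ h v w hw => by
    show ((restrictDD hj).φ x₀ x₁ h w).1 = ((restrictDD hj₂).φ x₀ x₁ h v).1 ≫ k
    rw [← cancel_mono j, Category.assoc]
    refine (restrictDD_φ hj x₀ x₁ h w).trans ?_
    refine Eq.trans ?_ (congrArg (((restrictDD hj₂).φ x₀ x₁ h v).1 ≫ ·) hk.symm)
    refine Eq.trans ?_ (restrictDD_φ hj₂ x₀ x₁ h v).symm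
    apply φ_congr' p D rfl rfl
    show w.1 ≫ j = v.1 ≫ j₂
    rw [hw]
    show (v.1 ≫ k) ≫ j = v.1 ≫ j₂
    rw [Category.assoc, hk]⟩

@[simp] lemma ρ_left {V'' : Scheme.{u}} {j₂ : V'' ⟶ D.obj.left} [Mono j₂] (hj₂ : IsInv D j₂)
    (k : V'' ⟶ V') (hk : k ≫ j = j₂) : (ρ hj hj₂ k hk).hom.left = k := rfl

end restrict

section morphisms

variable {X S : Scheme.{u}} {p : X ⟶ S}

/-- Isomorphisms of descent data from isomorphisms of the underlying objects. -/
def isoMkDD {D D' : Desc.SchDD p} (e : D.obj ≅ D'.obj)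
    (comm : ∀ ⦃T : Scheme.{u}⦄ (x₀ x₁ : T ⟶ X) (h : x₀ ≫ p = x₁ ≫ p)
      (v : Desc.Lifts D.obj x₀) (w : Desc.Lifts D'.obj x₀), w.1 = v.1 ≫ e.hom.left →
      (D'.φ x₀ x₁ h w).1 = (D.φ x₀ x₁ h v).1 ≫ e.hom.left) : D ≅ D' where
  hom := ⟨e.hom, comm⟩
  inv := ⟨e.inv, fun T x₀ x₁ h w v hv => by
    have hw : w.1 = v.1 ≫ e.hom.left := by
      rw [hv, Category.assoc, ← Over.comp_left, Iso.inv_hom_id, Over.id_left, Category.comp_id]
    have := comm x₀ x₁ h v w hw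
    rw [this, Category.assoc, ← Over.comp_left, Iso.hom_inv_id, Over.id_left, Category.comp_id]⟩
  hom_inv_id := by
    apply Desc.SchDD.hom_ext
    exact e.hom_inv_id
  inv_hom_id := by
    apply Desc.SchDD.hom_ext
    exact e.inv_hom_id

/-- The image of a morphism of descent data with monic underlying morphism is invariant. -/
lemma isInv_of_hom {D D' : Desc.SchDD p} (a : D' ⟶ D) : IsInv D a.hom.left := by
  intro T x₀ x₁ h y' hy
  have hy' : y' ≫ D'.obj.hom = x₀ := by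
    rw [← Over.w a.hom, ← Category.assoc]; exact hy
  refine ⟨(D'.φ x₀ x₁ h ⟨y', hy'⟩).1, ?_⟩
  exact (a.comm x₀ x₁ h ⟨y', hy'⟩ ⟨y' ≫ a.hom.left, hy⟩ rfl).symm

/-- A descent datum mapping monomorphically to `D` is the restriction of `D` to its image. -/
noncomputable def restrictIso {D D' : Desc.SchDD p} (a : D' ⟶ D) [Mono a.hom.left] :
    restrictDD (isInv_of_hom a) ≅ D' :=
  isoMkDD (Over.isoMk (Iso.refl _) (by
      show 𝟙 _ ≫ D'.obj.hom = a.hom.left ≫ D.obj.hom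
      rw [Category.id_comp, Over.w])) (fun T x₀ x₁ h v w hw => by
    have hw' : w.1 = v.1 := by
      rw [hw]; exact Category.comp_id _
    show (D'.φ x₀ x₁ h w).1 = ((restrictDD (isInv_of_hom a)).φ x₀ x₁ h v).1 ≫ 𝟙 _
    rw [Category.comp_id, ← cancel_mono a.hom.left]
    refine Eq.trans ?_ (restrictDD_φ (isInv_of_hom a) x₀ x₁ h v).symm
    refine (a.comm x₀ x₁ h w ⟨w.1 ≫ a.hom.left, by rw [Category.assoc, Over.w]; exact w.2⟩
      rfl).symm.trans ?_
    apply φ_congr' p D rfl rfl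
    show w.1 ≫ a.hom.left = v.1 ≫ a.hom.left
    rw [hw'])

variable [Surjective p] [Flat p] [QuasiCompact p]

/-- A descent datum with an open immersion into a canonical descent datum is effective. -/
theorem effective_of_openImmersion_to_canonical {D₂ : Desc.SchDD p} (E : Over S)
    (β : D₂ ⟶ (Desc.toDD p).obj E) [IsOpenImmersion β.hom.left] :
    ∃ U : Over S, Nonempty ((Desc.toDD p).obj U ≅ D₂) := by
  refine exists_descent_of_open p D₂ (pullback.fst p E.hom) (pullback.snd p E.hom) E.hom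
    (IsPullback.of_hasPullback p E.hom) β.hom.left (Over.w β.hom) ?_
  have key := β.comm (snd₂ p D₂ ≫ D₂.obj.hom) (fst₂ p D₂) (hx₂ p D₂) ⟨snd₂ p D₂, rfl⟩
    ⟨snd₂ p D₂ ≫ β.hom.left, by rw [Category.assoc, Over.w β.hom]⟩ rfl
  have e1 : vu' p D₂ ≫ β.hom.left = _ := key.symm
  rw [← Category.assoc, e1]
  refine (pullback.lift_snd _ _ _).trans ?_
  exact Category.assoc _ _ _

end morphisms

end Groth.Agent.Lib.LocEffH6
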