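import Mathlib
import Groth.Agent.Lib.LocEff1_helper6
import Groth.Agent.S1131
import Groth.Agent.S1132

/-!
# Invariant opens on which a descent datum is effective
-/

set_option backward.isDefEq.respectTransparency false
set_option backward.isDefEq.respectTransparency.types false

universe u

open CategoryTheory CategoryTheory.Limits AlgebraicGeometry Opposite

namespace Groth.Agent.Lib.LocEffH6

open Groth.Agent.Lib.AffDescH6

section forget

variable {X S : Scheme.{u}} (p : X ⟶ S)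

/-- The forgetful functor from descent data to schemes over `X`. -/
def forgetDD : Desc.SchDD p ⥤ Over X where
  obj D := D.obj
  map f := f.hom

/-- The underlying isomorphism of schemes of an isomorphism of descent data. -/
def leftIso {D D' : Desc.SchDD p} (e : D ≅ D') : D.obj.left ≅ D'.obj.left :=
  (forgetDD p ⋙ Over.forget X).mapIso e

@[simp] lemma leftIso_hom {D D' : Desc.SchDD p} (e : D ≅ D') :
    (leftIso p e).hom = e.hom.hom.left := rfl

@[simp] lemma leftIso_inv {D D' : Desc.SchDD p} (e : D ≅ D') :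
    (leftIso p e).inv = e.inv.hom.left := rfl

instance {D D' : Desc.SchDD p} (e : D ≅ D') : IsIso e.hom.hom.left :=
  (leftIso p e).isIso_hom

instance {D D' : Desc.SchDD p} (e : D ≅ D') : IsIso e.inv.hom.left :=
  (leftIso p e).isIso_inv

end forget

section inv

variable {X S : Scheme.{u}} {p : X ⟶ S} (D : Desc.SchDD p)

/-- Invariance of an open immersion in terms of ranges. -/
lemma isInv_iff_range {V' : Scheme.{u}} (j : V' ⟶ D.obj.left) [IsOpenImmersion j] :
    IsInv D j ↔ ∀ ⦃T : Scheme.{u}⦄ (x₀ x₁ : T ⟶ X) (h : x₀ ≫ p = x₁ ≫ p)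
      (y : Desc.Lifts D.obj x₀), Set.range y.1 ⊆ Set.range j →
        Set.range (D.φ x₀ x₁ h y).1 ⊆ Set.range j := by
  constructor
  · intro hj T x₀ x₁ h y hy
    have e : IsOpenImmersion.lift j y.1 hy ≫ j = y.1 := IsOpenImmersion.lift_fac _ _ _
    obtain ⟨z', hz'⟩ := hj x₀ x₁ h (IsOpenImmersion.lift j y.1 hy) (by rw [e]; exact y.2)
    have e2 : (D.φ x₀ x₁ h y).1 = z' ≫ j := by
      rw [hz']
      exact φ_congr' p D rfl rfl _ _ _ _ e.symm
    rw [e2]
    rintro _ ⟨t, rfl⟩
    exact ⟨z' t, rfl⟩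
  · intro H T x₀ x₁ h y' hy
    have := H x₀ x₁ h ⟨y' ≫ j, hy⟩ (by
      rintro _ ⟨t, rfl⟩
      exact ⟨y' t, rfl⟩)
    exact ⟨IsOpenImmersion.lift j _ this, IsOpenImmersion.lift_fac _ _ _⟩

lemma isInv_of_range_eq {V' V'' : Scheme.{u}} (j : V' ⟶ D.obj.left) [IsOpenImmersion j]
    (j₂ : V'' ⟶ D.obj.left) [IsOpenImmersion j₂] (e : Set.range j = Set.range j₂)
    (hj : IsInv D j) : IsInv D j₂ := by
  rw [isInv_iff_range] at hj ⊢
  rw [← e]
  exact hj

lemma isInv_inf {W W' : D.obj.left.Opens} (hW : IsInv D W.ι) (hW' : IsInv D W'.ι) :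
    IsInv D (W ⊓ W').ι := by
  rw [isInv_iff_range] at hW hW' ⊢
  intro T x₀ x₁ h y hy
  simp only [Scheme.Opens.range_ι] at hW hW' hy ⊢
  intro v hv
  exact ⟨hW x₀ x₁ h y (hy.trans (fun _ h => h.1)) hv, hW' x₀ x₁ h y (hy.trans (fun _ h => h.2)) hv⟩

/-- Restrictions along isomorphic invariant monomorphisms are isomorphic. -/
noncomputable def restrictCongr {V' V'' : Scheme.{u}} {j : V' ⟶ D.obj.left}
    {j₂ : V'' ⟶ D.obj.left} [Mono j] [Mono j₂] (hj : IsInv D j) (hj₂ : IsInv D j₂)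
    (k : V'' ≅ V') (hk : k.hom ≫ j = j₂) : restrictDD hj₂ ≅ restrictDD hj where
  hom := ρ hj hj₂ k.hom hk
  inv := ρ hj₂ hj k.inv (by rw [← hk, Iso.inv_hom_id_assoc])
  hom_inv_id := by
    apply Desc.SchDD.hom_ext
    apply Over.OverMorphism.ext
    exact k.hom_inv_id
  inv_hom_id := by
    apply Desc.SchDD.hom_ext
    apply Over.OverMorphism.ext
    exact k.inv_hom_id

end inv

section good

variable {X S : Scheme.{u}} {p : X ⟶ S} (D : Desc.SchDD p)

/-- An open of `D.obj.left` is good if it is invariant and the restricted datum is effective. -/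
def Good (W : D.obj.left.Opens) : Prop :=
  ∃ hW : IsInv D W.ι, ∃ U : Over S, Nonempty ((Desc.toDD p).obj U ≅ restrictDD hW)

variable {D}

lemma good_of_hom {D' : Desc.SchDD p} (a : D' ⟶ D) [IsOpenImmersion a.hom.left]
    (heff : ∃ U' : Over S, Nonempty ((Desc.toDD p).obj U' ≅ D')) :
    Good D a.hom.left.opensRange := by
  have hW : IsInv D a.hom.left.opensRange.ι :=
    isInv_of_range_eq D a.hom.left _ (by simp) (isInv_of_hom a)
  obtain ⟨U', ⟨e⟩⟩ := heff
  refine ⟨hW, U', ⟨e ≪≫ (restrictIso a).symm ≪≫ ?_⟩⟩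
  exact (restrictCongr D hW (isInv_of_hom a) a.hom.left.isoOpensRange
    (Scheme.Hom.isoOpensRange_hom_ι _)).symm.symm

variable [Surjective p] [Flat p] [QuasiCompact p]

lemma good_of_le {W W' : D.obj.left.Opens} (hW : Good D W) (hle : W' ≤ W)
    (hW' : IsInv D W'.ι) : Good D W' := by
  obtain ⟨hWinv, U, ⟨e⟩⟩ := hW
  refine ⟨hW', ?_⟩
  let β : restrictDD hW' ⟶ (Desc.toDD p).obj U :=
    ρ hWinv hW' (D.obj.left.homOfLE hle) (Scheme.homOfLE_ι _ _) ≫ e.inv
  have hβ : β.hom.left = D.obj.left.homOfLE hle ≫ e.inv.hom.left := rfl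
  haveI : IsOpenImmersion β.hom.left := by
    rw [hβ]; infer_instance
  exact effective_of_openImmersion_to_canonical U β

lemma good_inf {W W' : D.obj.left.Opens} (hW : Good D W) (hW' : Good D W') :
    Good D (W ⊓ W') :=
  good_of_le hW inf_le_left (isInv_inf D hW.choose hW'.choose)

end good

end Groth.Agent.Lib.LocEffH6
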