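import Mathlib
import Groth.Agent.Lib.QAffDesc3_helper6

/-!
# Descent of quasi-affine schemes, IV: the case of an affine base
-/

set_option backward.isDefEq.respectTransparency false
set_option backward.isDefEq.respectTransparency.types false

universe u

open CategoryTheory CategoryTheory.Limits AlgebraicGeometry Opposite TensorProduct

namespace Groth.Agent.Lib.AffDescH6

/-- Flat base change for global sections, as a pushout square of rings. -/
theorem isPushout_appTop {X S Y P : Scheme.{u}} [IsAffine X] [IsAffine S] (p : X ⟶ S) [Flat p]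
    (g : Y ⟶ S) [CompactSpace Y] [QuasiSeparatedSpace Y] {fst : P ⟶ X} {snd : P ⟶ Y}
    (H : IsPullback fst snd p g) : IsPushout p.appTop g.appTop fst.appTop snd.appTop := by
  have hUST : (⊤ : Y.Opens) ≤ g ⁻¹ᵁ ⊤ := le_rfl
  have hUSX : (⊤ : X.Opens) ≤ p ⁻¹ᵁ ⊤ := le_rfl
  have hUY : (⊤ : P.Opens) = fst ⁻¹ᵁ ⊤ ⊓ snd ⁻¹ᵁ ⊤ := by simp
  have := isIso_pushoutSection_of_isQuasiSeparated_of_flat_left H hUST hUSX hUY
    (isAffineOpen_top S) (isAffineOpen_top X) isCompact_univ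
    (isQuasiSeparated_univ_iff.mpr inferInstance)
  have h := (isIso_pushoutSection_iff H hUST hUSX hUY).mp this
  convert h using 1 <;> simp [Scheme.Hom.appTop, Scheme.Hom.appLE]

section alg

variable {A B C : Type u} [CommRing A] [CommRing B] [CommRing C] [Algebra A B] [Algebra B C]
  [Algebra A C] [IsScalarTower A B C] (γ : C →ₐ[A] B ⊗[A] C)
  (h1 : ∀ b, γ (algebraMap B C b) = b ⊗ₜ 1)
  (h2 : ∀ c, Algebra.TensorProduct.map (AlgHom.id A B) γ (γ c) =
    Algebra.TensorProduct.map (AlgHom.id A B) Algebra.TensorProduct.includeRight (γ c))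
  (h3 : ∀ c, μ A B C (γ c) = c)

include h1 h2 h3 in
lemma isPushout_NN [Module.FaithfullyFlat A B] : IsPushout (fAB A B)
    (CommRingCat.ofHom (algebraMap A (NN γ))) (fBC B C)
    (CommRingCat.ofHom (NN γ).val.toRingHom) := by
  have hbij := lam_bijective γ h1 h2 h3
  let e : B ⊗[A] (NN γ) ≃+* C := RingEquiv.ofBijective _ hbij
  refine (CommRingCat.isPushout_tensorProduct A B (NN γ)).of_iso (Iso.refl _)
    (Iso.refl _) (Iso.refl _) e.toCommRingCatIso (by simp) (by simp) ?_ ?_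
  · ext b
    show Algebra.TensorProduct.productMap (IsScalarTower.toAlgHom A B C)
      (NN γ).val (b ⊗ₜ 1) = algebraMap B C b
    simp
  · ext n
    show Algebra.TensorProduct.productMap (IsScalarTower.toAlgHom A B C)
      (NN γ).val (1 ⊗ₜ n) = n.1
    simp

end alg

section main

/-- Effectivity of descent data on quasi-affine schemes along a flat surjective morphism of
affine schemes. -/
theorem exists_descent_of_isQuasiAffine {X S : Scheme.{u}} (p : X ⟶ S) [IsAffine X] [IsAffine S]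
    [Flat p] [Surjective p] (D : Desc.SchDD p) [D.obj.left.IsQuasiAffine] :
    ∃ U : Over S, Nonempty ((Desc.toDD p).obj U ≅ D) := by
  letI : Algebra Γ(S, ⊤) Γ(X, ⊤) := p.appTop.hom.toAlgebra
  letI : Algebra Γ(X, ⊤) Γ(D.obj.left, ⊤) := D.obj.hom.appTop.hom.toAlgebra
  letI : Algebra Γ(S, ⊤) Γ(D.obj.left, ⊤) := (p.appTop ≫ D.obj.hom.appTop).hom.toAlgebra
  haveI : IsScalarTower Γ(S, ⊤) Γ(X, ⊤) Γ(D.obj.left, ⊤) := IsScalarTower.of_algebraMap_eq' rfl
  haveI : Module.FaithfullyFlat Γ(S, ⊤) Γ(X, ⊤) :=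
    (Flat.flat_and_surjective_iff_faithfullyFlat_of_isAffine p).mp ⟨inferInstance, inferInstance⟩
  -- `X ×_S V` is quasi-affine
  haveI : IsAffineHom (snd₂ p D) :=
    MorphismProperty.pullback_snd (P := @IsAffineHom) p (D.obj.hom ≫ p) inferInstance
  haveI : (T₂' p D).IsQuasiAffine := Scheme.IsQuasiAffine.of_isAffineHom (snd₂ p D)
  -- the pushout squares
  have h₂ : IsPushout (fAB Γ(S, ⊤) Γ(X, ⊤)) (fAC Γ(S, ⊤) Γ(D.obj.left, ⊤)) (fst₂ p D).appTop
      (snd₂ p D).appTop := by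
    have := isPushout_appTop p (D.obj.hom ≫ p) (IsPullback.of_hasPullback p (D.obj.hom ≫ p))
    rwa [Scheme.Hom.comp_appTop] at this
  have h₃ : IsPushout (fAB Γ(S, ⊤) Γ(X, ⊤))
      (fAC Γ(S, ⊤) Γ(D.obj.left, ⊤) ≫ (snd₂ p D).appTop) (q₀ p D).appTop (q₁₂ p D).appTop := by
    have := isPushout_appTop p (fst₂ p D ≫ p) (IsPullback.of_hasPullback p (fst₂ p D ≫ p))
    have e : (fst₂ p D ≫ p).appTop =
        fAC Γ(S, ⊤) Γ(D.obj.left, ⊤) ≫ (snd₂ p D).appTop := by
      have e' : fst₂ p D ≫ p = snd₂ p D ≫ D.obj.hom ≫ p := pullback.condition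
      rw [e', Scheme.Hom.comp_appTop, Scheme.Hom.comp_appTop]
      rfl
    rwa [e] at this
  have e1 : fBC Γ(X, ⊤) Γ(D.obj.left, ⊤) ≫ (vu' p D).appTop = (fst₂ p D).appTop := by
    rw [← vu'_π p D, Scheme.Hom.comp_appTop]
    rfl
  have e2 : (fst₂ p D).appTop ≫ (δ₂ p D).appTop = fBC Γ(X, ⊤) Γ(D.obj.left, ⊤) := by
    rw [← Scheme.Hom.comp_appTop, δ₂_fst]
    rfl
  have e3 : (snd₂ p D).appTop ≫ (δ₂ p D).appTop = 𝟙 _ := by
    rw [← Scheme.Hom.comp_appTop, δ₂_snd, Scheme.Hom.id_appTop]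
  have e4 : (vu' p D).appTop ≫ (δ₂ p D).appTop = 𝟙 _ := by
    rw [← Scheme.Hom.comp_appTop, δ₂_vu', Scheme.Hom.id_appTop]
  have e5 : (fst₂ p D).appTop ≫ (mm' p D).appTop = (q₀ p D).appTop := by
    rw [← Scheme.Hom.comp_appTop, mm'_fst]
  have e6 : (snd₂ p D).appTop ≫ (mm' p D).appTop = (snd₂ p D).appTop ≫ (q₁₂ p D).appTop := by
    rw [← Scheme.Hom.comp_appTop, mm'_snd, Scheme.Hom.comp_appTop]
  have e7 : (fst₂ p D).appTop ≫ (nn' p D).appTop = (q₀ p D).appTop := by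
    rw [← Scheme.Hom.comp_appTop, nn'_fst]
  have e8 : (snd₂ p D).appTop ≫ (nn' p D).appTop = (vu' p D).appTop ≫ (q₁₂ p D).appTop := by
    rw [← Scheme.Hom.comp_appTop, nn'_snd, Scheme.Hom.comp_appTop]
  have e9 : (vu' p D).appTop ≫ (nn' p D).appTop = (vu' p D).appTop ≫ (mm' p D).appTop := by
    rw [← Scheme.Hom.comp_appTop, nn'_vu', Scheme.Hom.comp_appTop]
  -- the coaction
  let γ : Γ(D.obj.left, ⊤) →ₐ[Γ(S, ⊤)] Γ(X, ⊤) ⊗[Γ(S, ⊤)] Γ(D.obj.left, ⊤) :=
    γGa (fst₂ p D).appTop (snd₂ p D).appTop h₂ (vu' p D).appTop e1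
  have H1 := γGa_h1 (fst₂ p D).appTop (snd₂ p D).appTop h₂ (vu' p D).appTop e1
  have H2 := γGa_h2 (fst₂ p D).appTop (snd₂ p D).appTop h₂ (q₀ p D).appTop (q₁₂ p D).appTop h₃
    (vu' p D).appTop (mm' p D).appTop (nn' p D).appTop e1 e5 e6 e7 e8 e9
  have H3 := γGa_h3 (fst₂ p D).appTop (snd₂ p D).appTop h₂ (vu' p D).appTop (δ₂ p D).appTop e1
    e2 e3 e4
  have hpo := isPushout_NN γ H1 H2 H3
  let N := NN γ
  -- the geometric square
  let πa : Spec Γ(D.obj.left, ⊤) ⟶ X := Spec.map D.obj.hom.appTop ≫ X.isoSpec.inv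
  let ra : Spec Γ(D.obj.left, ⊤) ⟶ Spec (.of N) := Spec.map (CommRingCat.ofHom N.val.toRingHom)
  let ua : Spec (.of N) ⟶ S :=
    Spec.map (CommRingCat.ofHom (algebraMap Γ(S, ⊤) N)) ≫ S.isoSpec.inv
  have hpb : IsPullback πa ra p ua := by
    refine IsPullback.of_iso (isPullback_SpecMap_of_isPushout _ _ _ _ hpo) (Iso.refl _)
      X.isoSpec.symm (Iso.refl _) S.isoSpec.symm ?_ ?_ ?_ ?_
    · exact (Category.id_comp _).symm
    · exact (Category.comp_id _).trans (Category.id_comp _).symm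
    · exact Scheme.isoSpec_inv_naturality p
    · exact (Category.id_comp _).symm
  have hj : D.obj.left.toSpecΓ ≫ πa = D.obj.hom := by
    show D.obj.left.toSpecΓ ≫ Spec.map D.obj.hom.appTop ≫ X.isoSpec.inv = D.obj.hom
    rw [← Category.assoc, ← Scheme.toSpecΓ_naturality, Category.assoc, Scheme.toSpecΓ_isoSpec_inv,
      Category.comp_id]
  have hN : vu' p D ≫ D.obj.left.toSpecΓ ≫ ra = snd₂ p D ≫ D.obj.left.toSpecΓ ≫ ra := by
    have hval : CommRingCat.ofHom N.val.toRingHom ≫ (vu' p D).appTop =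
        CommRingCat.ofHom N.val.toRingHom ≫ (snd₂ p D).appTop := by
      have ea := γG_κ₂ (fst₂ p D).appTop (snd₂ p D).appTop h₂ (vu' p D).appTop
      have eb := inr_κ₂ (fst₂ p D).appTop (snd₂ p D).appTop h₂
      have ec : CommRingCat.ofHom N.val.toRingHom ≫
          γG (fst₂ p D).appTop (snd₂ p D).appTop h₂ (vu' p D).appTop =
          CommRingCat.ofHom N.val.toRingHom ≫ inr₂ _ _ _ := by
        ext n
        exact n.2
      calc CommRingCat.ofHom N.val.toRingHom ≫ (vu' p D).appTop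
          = CommRingCat.ofHom N.val.toRingHom ≫
              (γG (fst₂ p D).appTop (snd₂ p D).appTop h₂ (vu' p D).appTop ≫
                (κ₂ (fst₂ p D).appTop (snd₂ p D).appTop h₂).hom) := by rw [ea]
        _ = (CommRingCat.ofHom N.val.toRingHom ≫
              γG (fst₂ p D).appTop (snd₂ p D).appTop h₂ (vu' p D).appTop) ≫
                (κ₂ (fst₂ p D).appTop (snd₂ p D).appTop h₂).hom := (Category.assoc _ _ _).symm
        _ = (CommRingCat.ofHom N.val.toRingHom ≫ inr₂ _ _ _) ≫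
                (κ₂ (fst₂ p D).appTop (snd₂ p D).appTop h₂).hom := by rw [ec]
        _ = CommRingCat.ofHom N.val.toRingHom ≫ (inr₂ _ _ _ ≫
                (κ₂ (fst₂ p D).appTop (snd₂ p D).appTop h₂).hom) := Category.assoc _ _ _
        _ = _ := by rw [eb]
    rw [← Category.assoc, Scheme.toSpecΓ_naturality, ← Category.assoc (snd₂ p D),
      Scheme.toSpecΓ_naturality, Category.assoc, Category.assoc]
    show _ ≫ Spec.map _ ≫ Spec.map _ = _ ≫ Spec.map _ ≫ Spec.map _
    rw [← Spec.map_comp, ← Spec.map_comp, hval]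
  exact exists_descent_of_open p D πa ra ua hpb D.obj.left.toSpecΓ hj hN

end main

/-- Properties local on the target are stable under finite disjoint unions. -/
theorem sigmaMap_of_isZariskiLocalAtTarget (P : MorphismProperty Scheme.{u})
    [IsZariskiLocalAtTarget P] (m : ℕ) (Y V : Fin m → Scheme.{u}) (q : ∀ j, Y j ⟶ V j)
    (hq : ∀ j, P (q j)) : P (Limits.Sigma.map q) := by
  have hvk := FinitaryExtensive.isVanKampen_finiteCoproducts (coproductIsCoproduct V)
  have hpb : ∀ j, IsPullback (Sigma.ι Y j) (q j) (Limits.Sigma.map q) (Sigma.ι V j) := by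
    have := (hvk (Cofan.mk (∐ Y) (Sigma.ι Y)) (Discrete.natTrans fun j => q j.as)
      (Limits.Sigma.map q) (by ext ⟨j⟩; simp) (NatTrans.Equifibered.of_discrete _)).mp
      ⟨coproductIsCoproduct Y⟩
    intro j
    exact this ⟨j⟩
  apply IsZariskiLocalAtTarget.of_openCover (P := P) (sigmaOpenCover V)
  intro j
  have e : (hpb j).isoPullback.hom ≫ (sigmaOpenCover V).pullbackHom (Limits.Sigma.map q) j =
      q j := (hpb j).isoPullback_hom_snd
  rw [← P.cancel_left_of_respectsIso (hpb j).isoPullback.hom, e]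
  exact hq j

end Groth.Agent.Lib.AffDescH6
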