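import Mathlib
import Groth.Agent.Lib.LocEff3_helper6
import Groth.Agent.Lib.QAffDesc4_helper6

/-!
# Transfer of effectivity along a cartesian square with monic horizontal maps
-/

set_option backward.isDefEq.respectTransparency false
set_option backward.isDefEq.respectTransparency.types false

universe u

open CategoryTheory CategoryTheory.Limits AlgebraicGeometry Opposite

namespace Groth.Agent.Lib.FinDescH6

open Groth.Agent.Lib.AffDescH6 Groth.Agent.Lib.LocEffH6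

section converse

variable {X S : Scheme.{u}} {p : X ⟶ S}

/-- An effective descent datum in gluing form (converse of `iso_of_glue`). -/
theorem exists_glue_of_iso (D : Desc.SchDD p) (E : Over S) (e : (Desc.toDD p).obj E ≅ D) :
    ∃ r : D.obj.left ⟶ E.left, IsPullback D.obj.hom r p E.hom ∧
      ∀ ⦃T : Scheme.{u}⦄ (x₀ x₁ : T ⟶ X) (h : x₀ ≫ p = x₁ ≫ p) (y : Desc.Lifts D.obj x₀),
        (D.φ x₀ x₁ h y).1 ≫ r = y.1 ≫ r := by
  refine ⟨e.inv.hom.left ≫ pullback.snd p E.hom, ?_, ?_⟩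
  · have hw : e.inv.hom.left ≫ pullback.fst p E.hom = D.obj.hom := Over.w e.inv.hom
    refine IsPullback.of_iso_pullback ⟨?_⟩ (leftIso p e).symm hw rfl
    rw [← hw, Category.assoc, pullback.condition]
    rfl
  · intro T x₀ x₁ h y
    have hw : (y.1 ≫ e.inv.hom.left) ≫ pullback.fst p E.hom = x₀ := by
      rw [Category.assoc]
      have := Over.w e.inv.hom
      refine Eq.trans (congrArg (y.1 ≫ ·) this) ?_
      exact y.2
    have key := e.inv.comm x₀ x₁ h y ⟨y.1 ≫ e.inv.hom.left, hw⟩ rfl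
    rw [← Category.assoc, ← key]
    refine (pullback.lift_snd _ _ _).trans ?_
    exact Category.assoc _ _ _

end converse

section transfer

variable {X S Xa Sa : Scheme.{u}} {p : X ⟶ S} (ι : Xa ⟶ X) [Mono ι] (pa : Xa ⟶ Sa) (j : Sa ⟶ S)
  (sq : ι ≫ p = pa ≫ j) (D : Desc.SchDD p) (wa : D.obj.left ⟶ Xa) (hw : wa ≫ ι = D.obj.hom)

include hw in
/-- Points of `V` over `x : T ⟶ Xa` are points over `x ≫ ι`. -/
def liftsEquiv {T : Scheme.{u}} (x : T ⟶ Xa) :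
    Desc.Lifts (Over.mk wa) x ≃ Desc.Lifts D.obj (x ≫ ι) where
  toFun y := ⟨y.1, by
    have : y.1 ≫ wa = x := y.2
    rw [← hw, ← Category.assoc, this]⟩
  invFun y := ⟨y.1, by
    show y.1 ≫ wa = x
    rw [← cancel_mono ι, Category.assoc, hw]; exact y.2⟩
  left_inv _ := rfl
  right_inv _ := rfl

include sq in
lemma base_cond {T : Scheme.{u}} {x₀ x₁ : T ⟶ Xa} (h : x₀ ≫ pa = x₁ ≫ pa) :
    (x₀ ≫ ι) ≫ p = (x₁ ≫ ι) ≫ p := by
  rw [Category.assoc, Category.assoc, sq, ← Category.assoc, h, Category.assoc]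

/-- The descent datum relative to `pa` induced by a descent datum relative to `p` whose
structure morphism factors through `ι`. -/
def baseDD : Desc.SchDD pa where
  obj := Over.mk wa
  φ T x₀ x₁ h := (liftsEquiv ι D wa hw x₀).trans
    ((D.φ (x₀ ≫ ι) (x₁ ≫ ι) (base_cond ι pa j sq h)).trans (liftsEquiv ι D wa hw x₁).symm)
  φ_natural T T' g x₀ x₁ h h' v v' hv' := by
    show (D.φ ((g ≫ x₀) ≫ ι) ((g ≫ x₁) ≫ ι) _ (liftsEquiv ι D wa hw _ v')).1 =
      g ≫ (D.φ (x₀ ≫ ι) (x₁ ≫ ι) _ (liftsEquiv ι D wa hw _ v)).1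
    have hg : (g ≫ x₀ ≫ ι) ≫ p = (g ≫ x₁ ≫ ι) ≫ p := by
      rw [Category.assoc, Category.assoc]
      exact congrArg (g ≫ ·) (base_cond ι pa j sq h)
    have hy : v'.1 ≫ D.obj.hom = g ≫ x₀ ≫ ι := by
      rw [← Category.assoc]; exact (liftsEquiv ι D wa hw _ v').2
    refine Eq.trans ?_ (D.φ_natural g (x₀ ≫ ι) (x₁ ≫ ι) (base_cond ι pa j sq h) hg
      (liftsEquiv ι D wa hw _ v) ⟨v'.1, hy⟩ hv')
    exact φ_congr' p D (Category.assoc _ _ _) (Category.assoc _ _ _) _ _ _ _ rfl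
  φ_self T x v := by
    apply Subtype.ext
    show (D.φ (x ≫ ι) (x ≫ ι) _ (liftsEquiv ι D wa hw _ v)).1 = v.1
    rw [D.φ_self]
    rfl
  φ_comp T x₀ x₁ x₂ h₀₁ h₁₂ v := by
    apply Subtype.ext
    show (D.φ (x₁ ≫ ι) (x₂ ≫ ι) _ (D.φ (x₀ ≫ ι) (x₁ ≫ ι) _ (liftsEquiv ι D wa hw _ v))).1 =
      (D.φ (x₀ ≫ ι) (x₂ ≫ ι) _ (liftsEquiv ι D wa hw _ v)).1
    rw [D.φ_comp]

lemma baseDD_φ {T : Scheme.{u}} (x₀ x₁ : T ⟶ Xa) (h : x₀ ≫ pa = x₁ ≫ pa)
    (y : Desc.Lifts (Over.mk wa) x₀) :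
    ((baseDD ι pa j sq D wa hw).φ x₀ x₁ h y).1 =
      (D.φ (x₀ ≫ ι) (x₁ ≫ ι) (base_cond ι pa j sq h) (liftsEquiv ι D wa hw x₀ y)).1 := rfl

/-- Effectivity relative to `pa` implies effectivity relative to `p`. -/
theorem effective_of_baseDD (hpb : IsPullback ι pa p j)
    (heff : ∃ Ua : Over Sa, Nonempty ((Desc.toDD pa).obj Ua ≅ baseDD ι pa j sq D wa hw)) :
    ∃ U : Over S, Nonempty ((Desc.toDD p).obj U ≅ D) := by
  obtain ⟨Ua, ⟨e⟩⟩ := heff
  obtain ⟨r, hr, hc⟩ := exists_glue_of_iso (baseDD ι pa j sq D wa hw) Ua e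
  have hr' : IsPullback wa r pa Ua.hom := hr
  refine ⟨Over.mk (Ua.hom ≫ j), iso_of_glue p D (Over.mk (Ua.hom ≫ j)) r ?_ ?_⟩
  · have := hr'.paste_horiz hpb
    rw [hw] at this
    exact this
  · intro T x₀ x₁ h y
    let x₀' : T ⟶ Xa := y.1 ≫ wa
    have hx₀ : x₀' ≫ ι = x₀ := by
      rw [Category.assoc, hw]; exact y.2
    have hcond : x₁ ≫ p = (x₀' ≫ pa) ≫ j := by
      rw [← h, ← hx₀, Category.assoc, Category.assoc, sq]
      rfl
    let x₁' : T ⟶ Xa := hpb.lift x₁ (x₀' ≫ pa) hcond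
    have hx₁ : x₁' ≫ ι = x₁ := hpb.lift_fst _ _ _
    have hx₁p : x₁' ≫ pa = x₀' ≫ pa := hpb.lift_snd _ _ _
    have key := hc x₀' x₁' hx₁p.symm ⟨y.1, rfl⟩
    rw [baseDD_φ] at key
    refine Eq.trans ?_ key
    congr 1
    exact φ_congr' p D hx₀.symm hx₁.symm _ _ _ _ rfl

end transfer

end Groth.Agent.Lib.FinDescH6
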