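import Mathlib
import Groth.Agent.S1134
import Groth.Agent.Lib.FinDesc3_helper6
import Groth.Agent.Lib.SchDescent_helper6
import Groth.Agent.Lib.QuasiAffine_helper3
import Groth.Agent.Lib.AlgSpEtale_helper7

/-!
# Effective descent for separated quasi-finite (e.g. étale separated quasi-compact) morphisms
along fpqc morphisms, with descent of properties
-/

set_option backward.isDefEq.respectTransparency false
set_option backward.isDefEq.respectTransparency.types false

universe u

open CategoryTheory CategoryTheory.Limits AlgebraicGeometry Opposite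

namespace Groth.Agent.Lib.EtDescQAH6

open Groth.Agent.Lib.QuasiAffine_helper3

/-- Affine morphisms are quasi-affine. -/
theorem PQA_of_isAffineHom {X Y : Scheme.{u}} (f : X ⟶ Y) [IsAffineHom f] : PQA f := by
  rw [PQA_iff]
  intro V hV
  haveI : IsAffine (f ⁻¹ᵁ V : Scheme.{u}) := hV.preimage f
  infer_instance

/-- Zariski's main theorem: separated quasi-compact locally quasi-finite morphisms are
quasi-affine. -/
theorem mor2_isQuasiAffine_of_locallyQuasiFinite {X Y : Scheme.{u}} (f : X ⟶ Y) [QuasiCompact f]
    [IsSeparated f] [LocallyQuasiFinite f] [LocallyOfFiniteType f] : Mor2.IsQuasiAffine f := by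
  rw [mor2_iff]
  refine ⟨inferInstance, ?_⟩
  rw [← f.toNormalization_fromNormalization]
  exact PQA_comp _ _ (PQA_of_isImmersion _) (PQA_of_isAffineHom f.fromNormalization)

theorem mor2_isQuasiAffine_of_etale {X Y : Scheme.{u}} (f : X ⟶ Y) [QuasiCompact f]
    [IsSeparated f] [Etale f] : Mor2.IsQuasiAffine f := by
  haveI : LocallyQuasiFinite f :=
    Groth.Agent.Lib.AlgSpEtale_helper7.locallyQuasiFinite_of_unramified f
  exact mor2_isQuasiAffine_of_locallyQuasiFinite f

section desc

variable {X S : Scheme.{u}} (p : X ⟶ S) [Surjective p] [Flat p] [QuasiCompact p]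

/-- Properties descending along fpqc morphisms pass from a descent datum to the descended
scheme. -/
theorem prop_of_iso (P : MorphismProperty Scheme.{u})
    [P.DescendsAlong (@Surjective ⊓ @Flat ⊓ @QuasiCompact : MorphismProperty Scheme.{u})]
    {D : Desc.SchDD p} {U : Over S} (e : (Desc.toDD p).obj U ≅ D) (h : P D.obj.hom) :
    P U.hom := by
  obtain ⟨r, hr, -⟩ := Groth.Agent.Lib.FinDescH6.exists_glue_of_iso D U e
  have hQ : (@Surjective ⊓ @Flat ⊓ @QuasiCompact : MorphismProperty Scheme.{u}) p :=
    ⟨⟨inferInstance, inferInstance⟩, inferInstance⟩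
  exact MorphismProperty.of_isPullback_of_descendsAlong (P := P)
    (Q := @Surjective ⊓ @Flat ⊓ @QuasiCompact) hr hQ h

/-- fpqc descent data on étale separated quasi-compact schemes are effective, and the descended
scheme is étale, separated and quasi-compact. -/
theorem effective_etale (D : Desc.SchDD p) [QuasiCompact D.obj.hom] [IsSeparated D.obj.hom]
    [Etale D.obj.hom] :
    ∃ U : Over S, QuasiCompact U.hom ∧ IsSeparated U.hom ∧ Etale U.hom ∧
      Nonempty ((Desc.toDD p).obj U ≅ D) := by
  obtain ⟨U, ⟨e⟩⟩ := Groth.Agent.S1134.result p D (mor2_isQuasiAffine_of_etale D.obj.hom)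
  haveI := Groth.Agent.Lib.SchDescent_helper6.descendsAlong_quasiCompact.{u}
  haveI := Groth.Agent.Lib.SchDescent_helper6.descendsAlong_isSeparated.{u}
  exact ⟨U, prop_of_iso p @QuasiCompact e inferInstance,
    prop_of_iso p @IsSeparated e inferInstance, prop_of_iso p @Etale e inferInstance, ⟨e⟩⟩

end desc

end Groth.Agent.Lib.EtDescQAH6
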