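import Mathlib
import Groth.Prelude.Def_SGA1

/-!
# Descent of morphisms to an étale scheme along universally submersive morphisms (helper6)
-/

set_option autoImplicit false
universe u

open CategoryTheory CategoryTheory.Limits AlgebraicGeometry

namespace Groth.Agent.Lib.EtDescent

/-- For `q : Y ⟶ S` with open diagonal, the locus where two `S`-morphisms `a b : T ⟶ Y` agree is an open
subscheme of `T`. -/
theorem exists_open_equalizer {Y S T : Scheme.{u}} (q : Y ⟶ S)
    [IsOpenImmersion (pullback.diagonal q)] (a b : T ⟶ Y) (hab : a ≫ q = b ≫ q) :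
    ∃ (E : Scheme.{u}) (ι : E ⟶ T), IsOpenImmersion ι ∧ ι ≫ a = ι ≫ b ∧
      ∀ {K : Scheme.{u}} (k : K ⟶ T), k ≫ a = k ≫ b → Set.range k.base ⊆ Set.range ι.base := by
  let c : T ⟶ pullback q q := pullback.lift a b hab
  have hc1 : c ≫ pullback.fst q q = a := pullback.lift_fst _ _ _
  have hc2 : c ≫ pullback.snd q q = b := pullback.lift_snd _ _ _
  have hΔ1 : pullback.diagonal q ≫ pullback.fst q q = 𝟙 _ := pullback.diagonal_fst _
  have hΔ2 : pullback.diagonal q ≫ pullback.snd q q = 𝟙 _ := pullback.diagonal_snd _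
  refine ⟨pullback c (pullback.diagonal q), pullback.fst _ _, inferInstance, ?_, ?_⟩
  · have h : pullback.fst c (pullback.diagonal q) ≫ c =
        pullback.snd c (pullback.diagonal q) ≫ pullback.diagonal q := pullback.condition
    have h1 : pullback.fst c (pullback.diagonal q) ≫ a = pullback.snd c (pullback.diagonal q) := by
      rw [← hc1, ← Category.assoc, h, Category.assoc, hΔ1, Category.comp_id]
    have h2 : pullback.fst c (pullback.diagonal q) ≫ b = pullback.snd c (pullback.diagonal q) := by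
      rw [← hc2, ← Category.assoc, h, Category.assoc, hΔ2, Category.comp_id]
    rw [h1, h2]
  · intro K k hk
    let l : K ⟶ pullback c (pullback.diagonal q) := pullback.lift k (k ≫ a) (by
      apply pullback.hom_ext
      · rw [Category.assoc, hc1, Category.assoc, hΔ1, Category.comp_id]
      · rw [Category.assoc, hc2, Category.assoc, hΔ2, Category.comp_id, hk])
    have hl : l ≫ pullback.fst c (pullback.diagonal q) = k := pullback.lift_fst _ _ _
    rintro _ ⟨z, rfl⟩
    refine ⟨l.base z, ?_⟩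
    have := congrArg (fun m => m.base z) hl
    simpa using this

/-- Two `S`-morphisms to `Y` (with open diagonal over `S`) which agree locally for a jointly surjective
family of test morphisms are equal. -/
theorem eq_of_locally_eq {Y S T : Scheme.{u}} (q : Y ⟶ S) [IsOpenImmersion (pullback.diagonal q)]
    (a b : T ⟶ Y) (hab : a ≫ q = b ≫ q)
    (h : ∀ τ : T, ∃ (T' : Scheme.{u}) (j : T' ⟶ T), τ ∈ Set.range j.base ∧ j ≫ a = j ≫ b) :
    a = b := by
  obtain ⟨E, ι, hι, heq, huniv⟩ := exists_open_equalizer q a b hab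
  haveI : Epi ι.base := (TopCat.epi_iff_surjective _).mpr fun τ => by
    obtain ⟨T', j, hτ, hj⟩ := h τ
    exact huniv j hj hτ
  haveI : IsIso ι := IsOpenImmersion.isIso ι
  exact (cancel_epi ι).mp heq

/-- Morphisms to a scheme étale over `S` descend along universally submersive morphisms. -/
theorem exists_desc_of_univSubmersive {X' X Y S : Scheme.{u}} (π : X' ⟶ X)
    (hπ : SGA1.UnivSubmersive π) (p : X ⟶ S) (q : Y ⟶ S) [Etale q] (φ : X' ⟶ Y)
    (hφ : φ ≫ q = π ≫ p)
    (KP : ∀ {T : Scheme.{u}} (t₁ t₂ : T ⟶ X'), t₁ ≫ π = t₂ ≫ π → t₁ ≫ φ = t₂ ≫ φ) :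
    ∃ u : X ⟶ Y, u ≫ q = p ∧ π ≫ u = φ := by
  haveI : IsOpenImmersion (pullback.diagonal q) := inferInstance
  let prY : pullback q p ⟶ Y := pullback.fst q p
  let prX : pullback q p ⟶ X := pullback.snd q p
  haveI : Etale prX := inferInstanceAs (Etale (pullback.snd q p))
  have hP : prY ≫ q = prX ≫ p := pullback.condition
  let ρ : pullback prX π ⟶ pullback q p := pullback.fst prX π
  let prX' : pullback prX π ⟶ X' := pullback.snd prX π
  have hP' : ρ ≫ prX = prX' ≫ π := pullback.condition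
  haveI : SGA1.UnivSubmersive.IsStableUnderBaseChange := by
    unfold SGA1.UnivSubmersive; infer_instance
  have hρ : SGA1.UnivSubmersive ρ :=
    MorphismProperty.of_isPullback (P := SGA1.UnivSubmersive)
      (IsPullback.of_hasPullback prX π).flip hπ
  have hρq : Topology.IsQuotientMap ρ.base := MorphismProperty.universally_le _ _ hρ
  have hπsurj : Function.Surjective π.base :=
    (show Topology.IsQuotientMap π.base from MorphismProperty.universally_le _ _ hπ).surjective
  have hab : (ρ ≫ prY) ≫ q = (prX' ≫ φ) ≫ q := by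
    rw [Category.assoc, hP, ← Category.assoc, hP', Category.assoc, Category.assoc, hφ]
  obtain ⟨E, ιE, hιE, hEeq, hEuniv⟩ := exists_open_equalizer q (ρ ≫ prY) (prX' ≫ φ) hab
  let R := Set.range ιE.base
  have hRopen : IsOpen R := ιE.isOpenEmbedding.isOpen_range
  have hsat : ρ.base ⁻¹' (ρ.base '' R) = R := by
    apply Set.Subset.antisymm
    · rintro z₂ ⟨z₁, ⟨e, rfl⟩, hz⟩
      obtain ⟨w, hw1, hw2⟩ :=
        Scheme.Pullback.exists_preimage_pullback (f := ρ) (g := ρ) (ιE.base e) z₂ hz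
      obtain ⟨w₁, hw₁1, hw₁2⟩ :=
        Scheme.Pullback.exists_preimage_pullback (f := pullback.fst ρ ρ) (g := ιE) w e hw1
      let k : pullback (pullback.fst ρ ρ) ιE ⟶ pullback ρ ρ := pullback.fst _ _
      let τ₁ : pullback (pullback.fst ρ ρ) ιE ⟶ pullback prX π := k ≫ pullback.fst ρ ρ
      let τ₂ : pullback (pullback.fst ρ ρ) ιE ⟶ pullback prX π := k ≫ pullback.snd ρ ρ
      have hτ₁ : τ₁ = pullback.snd (pullback.fst ρ ρ) ιE ≫ ιE := pullback.condition
      have hτρ : τ₁ ≫ ρ = τ₂ ≫ ρ := by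
        show (k ≫ pullback.fst ρ ρ) ≫ ρ = (k ≫ pullback.snd ρ ρ) ≫ ρ
        rw [Category.assoc, Category.assoc, pullback.condition]
      have h1 : τ₁ ≫ (ρ ≫ prY) = τ₁ ≫ (prX' ≫ φ) := by
        rw [hτ₁, Category.assoc, Category.assoc, hEeq]
      have h2 : τ₁ ≫ (prX' ≫ φ) = τ₂ ≫ (prX' ≫ φ) := by
        rw [← Category.assoc, ← Category.assoc]
        apply KP
        have e1 : (τ₁ ≫ prX') ≫ π = τ₁ ≫ ρ ≫ prX := by rw [Category.assoc, hP']
        have e2 : (τ₂ ≫ prX') ≫ π = τ₂ ≫ ρ ≫ prX := by rw [Category.assoc, hP']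
        rw [e1, e2, ← Category.assoc, hτρ, Category.assoc]
      have h3 : τ₂ ≫ (ρ ≫ prY) = τ₂ ≫ (prX' ≫ φ) := by
        rw [← Category.assoc, ← hτρ, Category.assoc, h1, h2]
      have h4 := hEuniv τ₂ h3 ⟨w₁, rfl⟩
      have h5 : τ₂.base w₁ = z₂ := by
        show (k ≫ pullback.snd ρ ρ).base w₁ = z₂
        simp only [Scheme.Hom.comp_base, TopCat.comp_app]
        rw [show k.base w₁ = w from hw₁1, hw2]
      rw [h5] at h4
      exact h4
    · exact Set.subset_preimage_image _ _
  have hΓopen : IsOpen (ρ.base '' R) := by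
    rw [← hρq.isOpen_preimage, hsat]; exact hRopen
  let Γ : (pullback q p).Opens := ⟨ρ.base '' R, hΓopen⟩
  let γ : Γ.toScheme ⟶ X := Γ.ι ≫ prX
  let σ₀ : X' ⟶ pullback q p := pullback.lift φ π hφ
  have hσ₀Y : σ₀ ≫ prY = φ := pullback.lift_fst _ _ _
  have hσ₀X : σ₀ ≫ prX = π := pullback.lift_snd _ _ _
  let σ : X' ⟶ pullback prX π := pullback.lift σ₀ (𝟙 X') (by rw [hσ₀X, Category.id_comp])
  have hσρ : σ ≫ ρ = σ₀ := pullback.lift_fst _ _ _
  have hσX' : σ ≫ prX' = 𝟙 X' := pullback.lift_snd _ _ _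
  have hσR : Set.range σ.base ⊆ R := hEuniv σ (by
    rw [← Category.assoc, hσρ, hσ₀Y, ← Category.assoc, hσX', Category.id_comp])
  have hσΓ : Set.range (σ ≫ ρ).base ⊆ Set.range Γ.ι.base := by
    rw [Scheme.Opens.range_ι]
    rintro _ ⟨x', rfl⟩
    exact ⟨σ.base x', hσR ⟨x', rfl⟩, rfl⟩
  let lam : X' ⟶ Γ.toScheme := IsOpenImmersion.lift Γ.ι (σ ≫ ρ) hσΓ
  have hlam : lam ≫ Γ.ι = σ ≫ ρ := IsOpenImmersion.lift_fac _ _ _
  have hlamγ : lam ≫ γ = π := by
    show lam ≫ Γ.ι ≫ prX = π
    rw [← Category.assoc, hlam, hσρ, hσ₀X]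
  haveI : Etale γ := inferInstanceAs (Etale (Γ.ι ≫ prX))
  have hγsurj : Function.Surjective γ.base := by
    intro x
    obtain ⟨x', rfl⟩ := hπsurj x
    refine ⟨lam.base x', ?_⟩
    have := congrArg (fun m => m.base x') hlamγ
    simpa using this
  haveI : Mono γ := by
    refine ⟨fun {T} t₁ t₂ ht => ?_⟩
    have htX : t₁ ≫ Γ.ι ≫ prX = t₂ ≫ Γ.ι ≫ prX := ht
    rw [← cancel_mono Γ.ι]
    apply pullback.hom_ext
    · show (t₁ ≫ Γ.ι) ≫ prY = (t₂ ≫ Γ.ι) ≫ prY
      apply eq_of_locally_eq q _ _ ?_ ?_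
      · rw [Category.assoc, Category.assoc, Category.assoc, Category.assoc, hP]
        have := congrArg (fun m => m ≫ p) htX
        simpa only [Category.assoc] using this
      · intro τ
        let x : T ⟶ X := t₁ ≫ γ
        obtain ⟨x', hx'⟩ := hπsurj (x.base τ)
        obtain ⟨w, hw1, hw2⟩ :=
          Scheme.Pullback.exists_preimage_pullback (f := π) (g := x) x' τ hx'
        refine ⟨pullback π x, pullback.snd π x, ⟨w, hw2⟩, ?_⟩
        let j : pullback π x ⟶ T := pullback.snd π x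
        let xL : pullback π x ⟶ X' := pullback.fst π x
        have hjx : xL ≫ π = j ≫ x := pullback.condition
        have key : ∀ t : T ⟶ Γ.toScheme, t ≫ γ = x → j ≫ (t ≫ Γ.ι) ≫ prY = xL ≫ φ := by
          intro t ht'
          let ζ : pullback π x ⟶ pullback prX π := pullback.lift (j ≫ t ≫ Γ.ι) xL (by
            rw [Category.assoc, Category.assoc]
            show j ≫ t ≫ γ = _
            rw [ht', hjx])
          have hζρ : ζ ≫ ρ = j ≫ t ≫ Γ.ι := pullback.lift_fst _ _ _
          have hζX' : ζ ≫ prX' = xL := pullback.lift_snd _ _ _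
          have hζR : Set.range ζ.base ⊆ Set.range ιE.base := by
            rintro _ ⟨z, rfl⟩
            have hz : ζ.base z ∈ ρ.base ⁻¹' (ρ.base '' R) := by
              show ρ.base (ζ.base z) ∈ ρ.base '' R
              have := congrArg (fun m => m.base z) hζρ
              simp only [Scheme.Hom.comp_base, TopCat.comp_app] at this
              rw [this]
              exact (t.base (j.base z)).2
            rw [hsat] at hz
            exact hz
          let ζ' : pullback π x ⟶ E := IsOpenImmersion.lift ιE ζ hζR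
          have hζ' : ζ' ≫ ιE = ζ := IsOpenImmersion.lift_fac _ _ _
          calc j ≫ (t ≫ Γ.ι) ≫ prY = ζ ≫ (ρ ≫ prY) := by
                rw [← Category.assoc ζ, hζρ]; simp only [Category.assoc]
            _ = ζ' ≫ ιE ≫ (ρ ≫ prY) := by rw [← Category.assoc ζ', hζ']
            _ = ζ' ≫ ιE ≫ (prX' ≫ φ) := by rw [hEeq]
            _ = ζ ≫ (prX' ≫ φ) := by rw [← Category.assoc ζ', hζ']
            _ = xL ≫ φ := by rw [← Category.assoc, hζX']
        show pullback.snd π x ≫ (t₁ ≫ Γ.ι) ≫ prY = pullback.snd π x ≫ (t₂ ≫ Γ.ι) ≫ prY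
        rw [key t₁ rfl, key t₂ ht.symm]
    · show (t₁ ≫ Γ.ι) ≫ prX = (t₂ ≫ Γ.ι) ≫ prX
      rw [Category.assoc, Category.assoc, htX]
  haveI : IsOpenImmersion γ := IsOpenImmersion.of_flat_of_mono γ
  haveI : Epi γ.base := (TopCat.epi_iff_surjective _).mpr hγsurj
  haveI : IsIso γ := IsOpenImmersion.isIso γ
  refine ⟨inv γ ≫ Γ.ι ≫ prY, ?_, ?_⟩
  · rw [Category.assoc, Category.assoc, hP]
    show inv γ ≫ γ ≫ p = p
    rw [IsIso.inv_hom_id_assoc]
  · calc π ≫ inv γ ≫ Γ.ι ≫ prY = (lam ≫ γ) ≫ inv γ ≫ Γ.ι ≫ prY := by rw [hlamγ]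
      _ = lam ≫ Γ.ι ≫ prY := by rw [Category.assoc, IsIso.hom_inv_id_assoc]
      _ = σ ≫ ρ ≫ prY := by rw [← Category.assoc, hlam, Category.assoc]
      _ = φ := by rw [← Category.assoc, hσρ, hσ₀Y]

end Groth.Agent.Lib.EtDescent
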