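import Mathlib
import Groth.Agent.Lib.FibInjB_helper6

/-! Unramifiedness via the fibre: ring-level lemmas (helper8). APPEND-ONLY once landed. -/

set_option autoImplicit false
universe u

namespace Groth.Agent.Lib.FibCritH8

open IsLocalRing TensorProduct

/-- Transport of an iso-invariant property along a commutative square with surjective vertical
maps whose kernels are generated by the image of an ideal `m` of a base ring. -/
theorem iff_quotientMap_of_square
    {P : ∀ {R S : Type u} [CommRing R] [CommRing S], (R →+* S) → Prop}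
    (hP : RingHom.RespectsIso @P)
    {A B C B' C' : Type u} [CommRing A] [CommRing B] [CommRing C]
    [CommRing B'] [CommRing C'] [Algebra A B] [Algebra B C] [Algebra A C] [IsScalarTower A B C]
    (m : Ideal A) (πB : B →+* B') (πC : C →+* C') (hB : Function.Surjective πB)
    (hC : Function.Surjective πC) (hkB : RingHom.ker πB = m.map (algebraMap A B))
    (hkC : RingHom.ker πC = m.map (algebraMap A C)) (β' : B' →+* C')
    (hsq : β'.comp πB = πC.comp (algebraMap B C)) :
    P β' ↔ P (Ideal.quotientMap ((m.map (algebraMap A B)).map (algebraMap B C)) (algebraMap B C)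
        Ideal.le_comap_map) := by
  have hIC : (m.map (algebraMap A B)).map (algebraMap B C) = m.map (algebraMap A C) := by
    rw [Ideal.map_map, ← IsScalarTower.algebraMap_eq]
  let eB : (B ⧸ m.map (algebraMap A B)) ≃+* B' :=
    (Ideal.quotEquivOfEq hkB.symm).trans (RingHom.quotientKerEquivOfSurjective hB)
  let eC : (C ⧸ (m.map (algebraMap A B)).map (algebraMap B C)) ≃+* C' :=
    (Ideal.quotEquivOfEq (hIC.trans hkC.symm)).trans (RingHom.quotientKerEquivOfSurjective hC)
  have hcomm : β'.comp eB.toRingHom = eC.toRingHom.comp
      (Ideal.quotientMap ((m.map (algebraMap A B)).map (algebraMap B C)) (algebraMap B C)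
        Ideal.le_comap_map) := by
    apply Ideal.Quotient.ringHom_ext
    ext b
    have h0 : β' (πB b) = πC (algebraMap B C b) := congrArg (fun φ => φ b) hsq
    have hB' : eB (Ideal.Quotient.mk (m.map (algebraMap A B)) b) = πB b := by simp [eB]
    have hC' : ∀ c : C, eC (Ideal.Quotient.mk ((m.map (algebraMap A B)).map (algebraMap B C)) c) =
        πC c := fun c => by simp [eC]
    show β' (eB (Ideal.Quotient.mk (m.map (algebraMap A B)) b)) =
      eC (Ideal.quotientMap ((m.map (algebraMap A B)).map (algebraMap B C)) (algebraMap B C)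
        Ideal.le_comap_map (Ideal.Quotient.mk (m.map (algebraMap A B)) b))
    rw [hB', Ideal.quotientMap_mk, hC', h0]
  constructor
  · intro h
    have h1 : P (β'.comp eB.toRingHom) := hP.2 β' eB h
    rw [hcomm] at h1
    have h2 := hP.1 _ eC.symm h1
    have h3 : eC.symm.toRingHom.comp (eC.toRingHom.comp
        (Ideal.quotientMap ((m.map (algebraMap A B)).map (algebraMap B C)) (algebraMap B C)
          Ideal.le_comap_map)) = Ideal.quotientMap ((m.map (algebraMap A B)).map (algebraMap B C))
          (algebraMap B C) Ideal.le_comap_map := by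
      ext z
      simp
    rwa [h3] at h2
  · intro h
    have h1 := hP.1 _ eC h
    rw [← hcomm] at h1
    have h2 := hP.2 _ eB.symm h1
    have h3 : (β'.comp eB.toRingHom).comp eB.symm.toRingHom = β' := by
      ext z
      simp
    rwa [h3] at h2

/-- Formal unramifiedness of a local algebra essentially of finite type can be checked modulo an
ideal of the base contained (after extension) in the maximal ideal. -/
theorem formallyUnramified_of_quotient {B C : Type u} [CommRing B] [CommRing C] [IsLocalRing C]
    [Algebra B C] [Algebra.EssFiniteType B C] (I : Ideal B)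
    (hI : I.map (algebraMap B C) ≤ maximalIdeal C)
    [Algebra.FormallyUnramified (B ⧸ I) (C ⧸ I.map (algebraMap B C))] :
    Algebra.FormallyUnramified B C := by
  haveI := Groth.Agent.Lib.FibInjH6.isPushout_quotient (B := C) I
  let e := KaehlerDifferential.tensorKaehlerEquiv B (B ⧸ I) C (C ⧸ I.map (algebraMap B C))
  haveI h1 : Subsingleton ((C ⧸ I.map (algebraMap B C)) ⊗[C] Ω[C⁄B]) := e.toEquiv.subsingleton
  have h2 : Subsingleton (Ω[C⁄B] ⧸ (I.map (algebraMap B C)) • (⊤ : Submodule C Ω[C⁄B])) :=
    (TensorProduct.quotTensorEquivQuotSMul Ω[C⁄B] (I.map (algebraMap B C))).symm.toEquiv.subsingleton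
  have h3 : (⊤ : Submodule C Ω[C⁄B]) ≤ (I.map (algebraMap B C)) • ⊤ := by
    rw [Submodule.Quotient.subsingleton_iff] at h2
    exact h2.ge
  have h4 : (⊤ : Submodule C Ω[C⁄B]) = ⊥ :=
    Submodule.eq_bot_of_le_smul_of_le_jacobson_bot (I.map (algebraMap B C)) ⊤
      Module.Finite.fg_top h3
      (by rw [IsLocalRing.jacobson_eq_maximalIdeal ⊥ bot_ne_top]; exact hI)
  constructor
  exact (Submodule.subsingleton_iff C).mp (subsingleton_of_bot_eq_top h4.symm)

end Groth.Agent.Lib.FibCritH8
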