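import Mathlib
import Groth.Agent.Lib.FibCrit5_helper8
import Groth.Agent.Lib.FibCrit10_helper8
import Groth.Agent.Lib.UnramLoc_helper4

/-! Pointwise étaleness via fibres (EGA IV 17.8.3), modulo the criterion `Crit f g` (helper8).
APPEND-ONLY once landed. -/

set_option autoImplicit false
universe u

namespace Groth.Agent.Lib.FibCritH8

open AlgebraicGeometry CategoryTheory Limits IsLocalRing
open Groth.Agent.FibStalkDimH8 FibRedH8 Groth.Agent.FibStalkIso

variable {X Y S : Scheme.{u}} (f : X ⟶ Y) (g : Y ⟶ S)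

theorem stalkMap_formallyUnramified_of_fiberMap [LocallyOfFiniteType f] (x : X)
    (h : ((MoreMor.fiberMap f g (g (f x))).stalkMap ((f ≫ g).asFiber x)).hom.FormallyUnramified) :
    (f.stalkMap x).hom.FormallyUnramified := by
  letI : Algebra (S.presheaf.stalk (g (f x))) (Y.presheaf.stalk (f x)) :=
    (g.stalkMap (f x)).hom.toAlgebra
  letI : Algebra (Y.presheaf.stalk (f x)) (X.presheaf.stalk x) := (f.stalkMap x).hom.toAlgebra
  letI : Algebra (S.presheaf.stalk (g (f x))) (X.presheaf.stalk x) :=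
    ((f ≫ g).stalkMap x).hom.toAlgebra
  haveI : IsScalarTower (S.presheaf.stalk (g (f x))) (Y.presheaf.stalk (f x))
      (X.presheaf.stalk x) := by
    refine IsScalarTower.of_algebraMap_eq (fun a => ?_)
    show ((f ≫ g).stalkMap x).hom a = (f.stalkMap x).hom ((g.stalkMap (f x)).hom a)
    rw [Scheme.Hom.stalkMap_comp]
    rfl
  haveI hloc : IsLocalHom (algebraMap (S.presheaf.stalk (g (f x))) (X.presheaf.stalk x)) :=
    inferInstanceAs (IsLocalHom ((f ≫ g).stalkMap x).hom)
  haveI : Algebra.EssFiniteType (Y.presheaf.stalk (f x)) (X.presheaf.stalk x) :=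
    LocallyOfFiniteType.stalkMap f x
  have hiso : Function.Bijective ((g.fiber (g (f x))).presheaf.stalkSpecializes
      (specializes_of_eq (fiberMap_asFiber f g x))).hom := by
    have : IsIso ((g.fiber (g (f x))).presheaf.stalkSpecializes
        (specializes_of_eq (fiberMap_asFiber f g x))) :=
      inferInstanceAs (IsIso ((g.fiber (g (f x))).presheaf.stalkCongr
        (Inseparable.of_eq (fiberMap_asFiber f g x).symm)).hom)
    exact ConcreteCategory.bijective_of_isIso _
  have h1 : RingHom.FormallyUnramified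
      (((g.fiber (g (f x))).presheaf.stalkSpecializes
        (specializes_of_eq (fiberMap_asFiber f g x)) ≫
        (MoreMor.fiberMap f g (g (f x))).stalkMap ((f ≫ g).asFiber x)).hom) :=
    RingHom.FormallyUnramified.respectsIso.2 _ (RingEquiv.ofBijective _ hiso) h
  have key := (iff_quotientMap_of_square (P := @RingHom.FormallyUnramified)
    RingHom.FormallyUnramified.respectsIso
    (A := S.presheaf.stalk (g (f x))) (B := Y.presheaf.stalk (f x))
    (C := X.presheaf.stalk x) (maximalIdeal (S.presheaf.stalk (g (f x))))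
    (toFib g (f x)).hom (toFib (f ≫ g) x).hom (toFib_surjective g (f x))
    (toFib_surjective (f ≫ g) x) (ker_toFib g (f x)) (ker_toFib (f ≫ g) x)
    (((g.fiber (g (f x))).presheaf.stalkSpecializes
        (specializes_of_eq (fiberMap_asFiber f g x)) ≫
        (MoreMor.fiberMap f g (g (f x))).stalkMap ((f ≫ g).asFiber x)).hom)
    (congrArg CommRingCat.Hom.hom (toFib_square f g x))).mp h1
  haveI : Algebra.FormallyUnramified
      (Y.presheaf.stalk (f x) ⧸ (maximalIdeal (S.presheaf.stalk (g (f x)))).map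
        (algebraMap (S.presheaf.stalk (g (f x))) (Y.presheaf.stalk (f x))))
      (X.presheaf.stalk x ⧸ ((maximalIdeal (S.presheaf.stalk (g (f x)))).map
        (algebraMap (S.presheaf.stalk (g (f x))) (Y.presheaf.stalk (f x)))).map
          (algebraMap (Y.presheaf.stalk (f x)) (X.presheaf.stalk x))) :=
    RingHom.formallyUnramified_algebraMap.mp key
  have hI : ((maximalIdeal (S.presheaf.stalk (g (f x)))).map
        (algebraMap (S.presheaf.stalk (g (f x))) (Y.presheaf.stalk (f x)))).map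
          (algebraMap (Y.presheaf.stalk (f x)) (X.presheaf.stalk x)) ≤
      maximalIdeal (X.presheaf.stalk x) := by
    rw [Ideal.map_map, ← IsScalarTower.algebraMap_eq]
    exact ((IsLocalRing.local_hom_TFAE (algebraMap (S.presheaf.stalk (g (f x)))
      (X.presheaf.stalk x))).out 0 2).mp hloc
  exact formallyUnramified_of_quotient (B := Y.presheaf.stalk (f x)) (C := X.presheaf.stalk x)
    ((maximalIdeal (S.presheaf.stalk (g (f x)))).map
      (algebraMap (S.presheaf.stalk (g (f x))) (Y.presheaf.stalk (f x)))) hI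

variable {f g}

theorem etale_at_iff_of_crit [LocallyOfFinitePresentation (f ≫ g)] [LocallyOfFiniteType g]
    (H : Crit f g) (x : X) (hflat : ((f ≫ g).stalkMap x).hom.Flat) :
    (∃ U : X.Opens, x ∈ U ∧ Etale (U.ι ≫ f)) ↔
      ∃ V : ((f ≫ g).fiber (g (f x))).Opens, (f ≫ g).asFiber x ∈ V ∧
        Etale (V.ι ≫ MoreMor.fiberMap f g (g (f x))) := by
  constructor
  · rintro ⟨U, hxU, hU⟩
    refine ⟨((f ≫ g).fiberι (g (f x))) ⁻¹ᵁ U, ?_,
      MorphismProperty.of_isPullback (P := @Etale)
        (isPullback_restrict (isPullback_fiberMap f g _) U) hU⟩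
    show ((f ≫ g).fiberι (g (f x))) ((f ≫ g).asFiber x) ∈ U
    rw [show ((f ≫ g).fiberι (g (f x))) ((f ≫ g).asFiber x) = x from (f ≫ g).fiberι_asFiber x]
    exact hxU
  · rintro ⟨V, hxV, hV⟩
    haveI := FibMorConsH8.lfp_of_comp f g
    haveI := hV
    obtain ⟨U₁, hxU₁, hU₁⟩ := (smooth_at_iff_of_crit H x hflat).mpr ⟨V, hxV, inferInstance⟩
    have hst' : ((MoreMor.fiberMap f g (g (f x))).stalkMap ((f ≫ g).asFiber x)).hom.FormallyUnramified :=
      Groth.Agent.Lib.UnramLocH4.stalk_of_nhd _ _ V hxV inferInstance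
    have hst := stalkMap_formallyUnramified_of_fiberMap f g x hst'
    obtain ⟨U₂, hxU₂, hU₂⟩ := (Groth.Agent.Lib.UnramLocH4.exists_nhd_iff_stalk f x).mpr hst
    refine ⟨U₁ ⊓ U₂, ⟨hxU₁, hxU₂⟩, ?_⟩
    have e1 : (U₁ ⊓ U₂).ι ≫ f = X.homOfLE (inf_le_left : U₁ ⊓ U₂ ≤ U₁) ≫ U₁.ι ≫ f := by
      rw [← Category.assoc, Scheme.homOfLE_ι]
    have e2 : (U₁ ⊓ U₂).ι ≫ f = X.homOfLE (inf_le_right : U₁ ⊓ U₂ ≤ U₂) ≫ U₂.ι ≫ f := by
      rw [← Category.assoc, Scheme.homOfLE_ι]
    haveI hsm : Smooth ((U₁ ⊓ U₂).ι ≫ f) := by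
      rw [e1]
      haveI := hU₁
      infer_instance
    haveI hun : FormallyUnramified ((U₁ ⊓ U₂).ι ≫ f) := by
      rw [e2]
      exact MorphismProperty.comp_mem @FormallyUnramified _ _ inferInstance hU₂
    exact Etale.of_formallyUnramified_of_flat _

end Groth.Agent.Lib.FibCritH8
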