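import Mathlib
import Groth.Agent.Lib.FibCrit11_helper8

/-! Étale / open immersion / isomorphism via fibres (EGA IV 17.9.5), modulo `Crit` (helper8).
APPEND-ONLY once landed. -/

set_option autoImplicit false
universe u

namespace Groth.Agent.Lib.FibCritH8

open AlgebraicGeometry CategoryTheory Limits IsLocalRing

variable {X Y S : Scheme.{u}} {f : X ⟶ Y} {g : Y ⟶ S}

theorem etale_fiberMap (s : S) (hs : Etale (pullback.snd f (g.fiberι s))) :
    Etale (MoreMor.fiberMap f g s) := by
  rw [fiberMap_eq]
  exact (MorphismProperty.cancel_left_of_respectsIso @Etale _ _).mpr hs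

/-- S2763 modulo the criterion. -/
theorem etale_iff_of_crit [LocallyOfFinitePresentation (f ≫ g)] [LocallyOfFiniteType g]
    (H : Crit f g) [Flat (f ≫ g)] :
    Etale f ↔ ∀ s : S, Etale (pullback.snd f (g.fiberι s)) := by
  constructor
  · intro hf s
    infer_instance
  · intro hf
    have hx : ∀ x : X, ∃ U : X.Opens, x ∈ U ∧ Etale (U.ι ≫ f) := by
      intro x
      refine (etale_at_iff_of_crit H x (Flat.stalkMap _ x)).mpr ⟨⊤, trivial, ?_⟩
      haveI := etale_fiberMap (g (f x)) (hf _)
      infer_instance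
    choose U hxU hU using hx
    have hsup : iSup U = ⊤ := by
      rw [eq_top_iff]
      intro x _
      exact TopologicalSpace.Opens.mem_iSup.mpr ⟨x, hxU x⟩
    exact (IsZariskiLocalAtSource.iff_of_iSup_eq_top (P := @Etale) U hsup).mpr hU

theorem universallyInjective_of_mono_fiberMap (f : X ⟶ Y) (g : Y ⟶ S)
    (hm : ∀ s, Mono (MoreMor.fiberMap f g s)) : UniversallyInjective f := by
  refine ((tfae_universallyInjective f).out 0 1).mpr ?_
  intro K _ g₁ g₂ hg
  have hg' : g₁ ≫ f = g₂ ≫ f := hg
  let t : Spec (.of K) ⟶ S := g₁ ≫ f ≫ g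
  let s : S := t (IsLocalRing.closedPoint K)
  let τ : Spec (.of K) ⟶ Spec (S.residueField s) :=
    Spec.map (S.descResidueField (Scheme.stalkClosedPointTo t))
  have hτ : τ ≫ S.fromSpecResidueField s = t :=
    Scheme.descResidueField_stalkClosedPointTo_fromSpecResidueField K S t
  let g₁' : Spec (.of K) ⟶ (f ≫ g).fiber s := pullback.lift g₁ τ hτ.symm
  let g₂' : Spec (.of K) ⟶ (f ≫ g).fiber s := pullback.lift g₂ τ (by
    rw [hτ]
    show g₂ ≫ f ≫ g = g₁ ≫ f ≫ g
    rw [← Category.assoc, ← hg', Category.assoc])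
  have h1 : g₁' ≫ (f ≫ g).fiberι s = g₁ := pullback.lift_fst _ _ _
  have h2 : g₂' ≫ (f ≫ g).fiberι s = g₂ := pullback.lift_fst _ _ _
  have h1s : g₁' ≫ (f ≫ g).fiberToSpecResidueField s = τ := pullback.lift_snd _ _ _
  have h2s : g₂' ≫ (f ≫ g).fiberToSpecResidueField s = τ := pullback.lift_snd _ _ _
  have hφs : MoreMor.fiberMap f g s ≫ g.fiberToSpecResidueField s =
      (f ≫ g).fiberToSpecResidueField s := pullback.lift_snd _ _ _
  have heq : g₁' ≫ MoreMor.fiberMap f g s = g₂' ≫ MoreMor.fiberMap f g s := by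
    apply pullback.hom_ext
    · show (g₁' ≫ MoreMor.fiberMap f g s) ≫ g.fiberι s = (g₂' ≫ MoreMor.fiberMap f g s) ≫ g.fiberι s
      rw [Category.assoc, Category.assoc, fiberMap_fiberι, ← Category.assoc, ← Category.assoc,
        h1, h2, hg']
    · show (g₁' ≫ MoreMor.fiberMap f g s) ≫ g.fiberToSpecResidueField s =
        (g₂' ≫ MoreMor.fiberMap f g s) ≫ g.fiberToSpecResidueField s
      rw [Category.assoc, Category.assoc, hφs, h1s, h2s]
  haveI := hm s
  have h12 : g₁' = g₂' := (cancel_mono (MoreMor.fiberMap f g s)).mp heq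
  rw [← h1, ← h2, h12]

/-- S2759 (open immersions) modulo the criterion. -/
theorem isOpenImmersion_of_crit [LocallyOfFinitePresentation (f ≫ g)] [LocallyOfFiniteType g]
    (H : Crit f g) [Flat (f ≫ g)]
    (hf : ∀ s : S, IsOpenImmersion (pullback.snd f (g.fiberι s))) : IsOpenImmersion f := by
  haveI hlfp := FibMorConsH8.lfp_of_comp f g
  haveI het : Etale f := (etale_iff_of_crit H).mpr (fun s => by haveI := hf s; infer_instance)
  haveI : UniversallyInjective f := by
    apply universallyInjective_of_mono_fiberMap f g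
    intro s
    haveI : IsOpenImmersion (MoreMor.fiberMap f g s) := by
      rw [fiberMap_eq]
      exact (MorphismProperty.cancel_left_of_respectsIso @IsOpenImmersion _ _).mpr (hf s)
    infer_instance
  have hsurj : Surjective (pullback.diagonal f) := (UniversallyInjective.iff_diagonal f).mp inferInstance
  haveI : IsIso (pullback.diagonal f) := by
    apply isIso_of_isOpenImmersion_of_opensRange_eq_top
    ext z
    simp only [Scheme.Hom.coe_opensRange, TopologicalSpace.Opens.coe_top, Set.mem_univ, iff_true]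
    exact hsurj.surj z
  haveI : Mono f := (pullback.isIso_diagonal_iff f).mp inferInstance
  exact IsOpenImmersion.of_flat_of_mono f

/-- S2759 modulo the criterion. -/
theorem isOpenImmersion_isIso_iff_of_crit [LocallyOfFinitePresentation (f ≫ g)]
    [LocallyOfFiniteType g] (H : Crit f g) [Flat (f ≫ g)] :
    (IsOpenImmersion f ↔ ∀ s : S, IsOpenImmersion (pullback.snd f (g.fiberι s))) ∧
    (IsIso f ↔ ∀ s : S, IsIso (pullback.snd f (g.fiberι s))) := by
  refine ⟨⟨fun hf s => inferInstance, isOpenImmersion_of_crit H⟩, ⟨fun hf s => inferInstance, ?_⟩⟩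
  intro hf
  haveI : IsOpenImmersion f :=
    isOpenImmersion_of_crit H (fun s => by haveI := hf s; infer_instance)
  apply isIso_of_isOpenImmersion_of_opensRange_eq_top
  ext y
  simp only [Scheme.Hom.coe_opensRange, TopologicalSpace.Opens.coe_top, Set.mem_univ, iff_true]
  haveI := hf (g y)
  obtain ⟨z, hz⟩ : ∃ z, (pullback.snd f (g.fiberι (g y))) z = g.asFiber y :=
    (ConcreteCategory.bijective_of_isIso (pullback.snd f (g.fiberι (g y))).base).2 _
  refine ⟨(pullback.fst f (g.fiberι (g y))) z, ?_⟩
  rw [← Scheme.Hom.comp_apply, pullback.condition, Scheme.Hom.comp_apply, hz]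
  exact g.fiberι_asFiber y

end Groth.Agent.Lib.FibCritH8
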