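import Mathlib
import Groth.Agent.Lib.EtDimSch_helper3
import Groth.Agent.Lib.Regular_helper5

/-!
# Open immersion criteria via fibre dimensions (EGA IV 17.11 / 17.9) (helper3)
APPEND-ONLY once landed.
-/

set_option autoImplicit false
universe u

namespace Groth.Agent.Lib.EtDimSchH3

open AlgebraicGeometry CategoryTheory Limits
open Groth.Agent.Lib.FibCritH8

variable {X Y S : Scheme.{u}}

/-- `f : X → Y` over `S`, `X/S` flat lfp, `Y/S` lfp with normal fibre local rings: `f` is an open
immersion iff it is a monomorphism preserving local fibre dimensions. -/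
theorem main5047 (f : X ⟶ Y) (g : Y ⟶ S) [LocallyOfFinitePresentation g]
    [LocallyOfFinitePresentation (f ≫ g)] [Flat (f ≫ g)]
    (hnorm : ∀ y : Y, IsDomain ((g.fiber (g y)).presheaf.stalk (g.asFiber y)) ∧
      IsIntegrallyClosed ((g.fiber (g y)).presheaf.stalk (g.asFiber y))) :
    IsOpenImmersion f ↔
      (Mono f ∧ ∀ x : X, FlatMor.fibreDimAt (f ≫ g) x = FlatMor.fibreDimAt g (f x)) := by
  haveI hlfpf : LocallyOfFinitePresentation f := FibMorConsH8.lfp_of_comp f g
  constructor
  · intro hf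
    refine ⟨inferInstance, fun x => ?_⟩
    have e := FibCohH8.fibreDimAt_etale_local g (f ≫ g) f (𝟙 S) (by simp) x
    exact e.symm
  · rintro ⟨hmono, hdim⟩
    haveI : IsOpenImmersion (pullback.diagonal f) := inferInstance
    haveI : FormallyUnramified f := inferInstance
    have hx : ∀ x : X, ∃ U : X.Opens, x ∈ U ∧ Etale (U.ι ≫ f) := fun x =>
      (main2767 f g x (Flat.stalkMap (f ≫ g) x) (hnorm (f x)).1 (hnorm (f x)).2).mpr
        ⟨⟨⊤, trivial, inferInstance⟩, hdim x⟩
    choose U hxU hU using hx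
    haveI : Etale f := IsZariskiLocalAtSource.of_iSup_eq_top (P := @Etale) U (by
      rw [eq_top_iff]
      intro x _
      exact TopologicalSpace.Opens.mem_iSup.mpr ⟨x, hxU x⟩) hU
    exact IsOpenImmersion.of_flat_of_mono f

/-- Smooth case: `X`, `Y` smooth over `S`. -/
theorem main4993 (f : X ⟶ Y) (g : Y ⟶ S) [Smooth g] [Smooth (f ≫ g)] :
    IsOpenImmersion f ↔
      Mono f ∧ ∀ x : X, FlatMor.fibreDimAt g (f x) = FlatMor.fibreDimAt (f ≫ g) x := by
  have hnorm : ∀ y : Y, IsDomain ((g.fiber (g y)).presheaf.stalk (g.asFiber y)) ∧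
      IsIntegrallyClosed ((g.fiber (g y)).presheaf.stalk (g.asFiber y)) := by
    intro y
    haveI hreg : IsRegularLocalRing ((g.fiber (g y)).presheaf.stalk (g.asFiber y)) :=
      Groth.Agent.Lib.FibCodim2H4.fiberStalk_regular g y
    exact ⟨Groth.Agent.RegularLib.isDomain _,
      Groth.Agent.Lib.NormalLiftH4.isIntegrallyClosed_of_isRegularLocalRing _⟩
  rw [main5047 f g hnorm]
  exact and_congr Iff.rfl (forall_congr' fun x => eq_comm)

end Groth.Agent.Lib.EtDimSchH3
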