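import Mathlib
import Groth.Agent.Lib.NormalBirat_helper7
import Groth.Agent.Lib.LocOpenImm_helper7

set_option autoImplicit false
universe u
open CategoryTheory CategoryTheory.Limits AlgebraicGeometry TopologicalSpace

namespace Groth.Agent.Lib.IntegralSectionH7

/-- An integral ring map into a domain which has a retraction is bijective. -/
theorem bijective_of_isIntegral_of_section {A B : Type*} [CommRing A] [CommRing B] [IsDomain B]
    (φ : A →+* B) (hφ : φ.IsIntegral) (σ : B →+* A) (h : σ.comp φ = RingHom.id A) :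
    Function.Bijective φ := by
  have hσφ : ∀ a, σ (φ a) = a := fun a => by
    rw [← RingHom.comp_apply, h]; rfl
  have hinjφ : Function.Injective φ := by
    intro a a' haa'
    have := congrArg σ haa'
    rwa [hσφ, hσφ] at this
  haveI : Nontrivial A := φ.domain_nontrivial
  letI := φ.toAlgebra
  haveI : Algebra.IsIntegral A B := ⟨hφ⟩
  have hker : RingHom.ker σ = ⊥ := by
    apply Ideal.eq_bot_of_comap_eq_bot (R := A)
    rw [eq_bot_iff]
    intro a ha
    rw [Ideal.mem_comap, RingHom.mem_ker] at ha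
    have h1 : σ (φ a) = 0 := ha
    rw [hσφ] at h1
    rw [h1]; exact Ideal.zero_mem _
  have hinjσ : Function.Injective σ := (RingHom.injective_iff_ker_eq_bot σ).mpr hker
  refine ⟨hinjφ, fun b => ⟨σ b, ?_⟩⟩
  apply hinjσ
  rw [hσφ]

/-- An integral morphism from an integral scheme to an affine scheme which has a section is an
isomorphism. -/
theorem isIso_of_isIntegralHom_of_section {Z Y : Scheme.{u}} [IsIntegral Z] [IsAffine Y]
    (g : Z ⟶ Y) [IsIntegralHom g] (t : Y ⟶ Z) (ht : t ≫ g = 𝟙 Y) : IsIso g := by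
  haveI : IsAffine Z := isAffine_of_isAffineHom g
  refine (HasAffineProperty.iff_of_isAffine (P := MorphismProperty.isomorphisms Scheme)).mpr
    ⟨inferInstance, ?_⟩
  rw [ConcreteCategory.isIso_iff_bijective]
  have hint : g.appTop.hom.IsIntegral := g.isIntegral_app ⊤ (isAffineOpen_top Y)
  haveI : Nonempty (⊤ : Z.Opens) := ⟨⟨Nonempty.some inferInstance, trivial⟩⟩
  haveI : IsDomain Γ(Z, ⊤) := inferInstance
  apply bijective_of_isIntegral_of_section g.appTop.hom hint t.appTop.hom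
  rw [← CommRingCat.hom_comp, ← Scheme.Hom.comp_appTop, ht]; rfl

/-- An integral morphism of integral schemes onto a normal scheme which has a rational section is
an isomorphism. -/
theorem isIso_of_rational_section {X X' : Scheme.{u}} [IsIntegral X] [IsIntegral X']
    (hN : ∀ x : X, IsIntegrallyClosed (X.presheaf.stalk x))
    (g : X' ⟶ X) [IsIntegralHom g] (U : X.Opens) (hU : (U : Set X).Nonempty)
    (s : (U : Scheme.{u}) ⟶ X') (hs : s ≫ g = U.ι) : IsIso g := by
  obtain ⟨u, hu⟩ := hU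
  have hηU : genericPoint X ∈ U := (genericPoint_specializes u).mem_open U.2 hu
  obtain ⟨_, ⟨(V : X.Opens), hV, rfl⟩, hηV, hVU⟩ :=
    X.isBasis_affineOpens.exists_subset_of_mem_open hηU U.2
  obtain ⟨sV, hsV⟩ : ∃ sV : V.toScheme ⟶ X', sV = X.homOfLE hVU ≫ s := ⟨_, rfl⟩
  have hsVg : sV ≫ g = V.ι := by rw [hsV, Category.assoc, hs, Scheme.homOfLE_ι]
  have hrange : Set.range sV ⊆ Set.range (g ⁻¹ᵁ V).ι := by
    rintro _ ⟨v, rfl⟩
    rw [Scheme.Opens.range_ι]
    change g (sV v) ∈ V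
    rw [← Scheme.Hom.comp_apply, hsVg]; exact v.2
  obtain ⟨t, ht⟩ : ∃ t : V.toScheme ⟶ (g ⁻¹ᵁ V).toScheme, t ≫ (g ⁻¹ᵁ V).ι = sV :=
    ⟨IsOpenImmersion.lift (g ⁻¹ᵁ V).ι sV hrange, IsOpenImmersion.lift_fac _ _ _⟩
  have htg : t ≫ (g ∣_ V) = 𝟙 _ := by
    rw [← cancel_mono V.ι, Category.assoc, morphismRestrict_ι, ← Category.assoc, ht, hsVg,
      Category.id_comp]
  obtain ⟨w, hw⟩ : ∃ w : (g ⁻¹ᵁ V).toScheme, w = t ⟨genericPoint X, hηV⟩ := ⟨_, rfl⟩
  haveI : Nonempty (g ⁻¹ᵁ V).toScheme := ⟨w⟩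
  haveI : Nonempty (g ⁻¹ᵁ V) := ⟨w⟩
  haveI : IsIntegral (g ⁻¹ᵁ V).toScheme := inferInstance
  haveI : IsAffine V.toScheme := hV
  haveI : IsIso (g ∣_ V) := isIso_of_isIntegralHom_of_section (g ∣_ V) t htg
  haveI : IsOpenImmersion ((g ⁻¹ᵁ V).ι ≫ g) := by
    rw [← morphismRestrict_ι]; infer_instance
  have hξ : genericPoint X' ∈ g ⁻¹ᵁ V :=
    (genericPoint_specializes w.1).mem_open (g ⁻¹ᵁ V).2 w.2
  have hstalk : IsIso (g.stalkMap (genericPoint X')) :=
    Groth.Agent.Lib.LocOpenImmH7.isIso_stalkMap_of_isOpenImmersion_ι_comp g (g ⁻¹ᵁ V) _ hξ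
  have hgen : g (genericPoint X') = genericPoint X := by
    have h1 : genericPoint X' ⤳ sV ⟨genericPoint X, hηV⟩ := genericPoint_specializes _
    have h2 : g (genericPoint X') ⤳ g (sV ⟨genericPoint X, hηV⟩) := h1.map g.continuous
    have h3 : g (sV ⟨genericPoint X, hηV⟩) = genericPoint X := by
      rw [← Scheme.Hom.comp_apply, hsVg]; rfl
    rw [h3] at h2
    exact (h2.antisymm (genericPoint_specializes _)).eq
  exact Groth.Agent.Lib.NormalBiratH7.isIso_of_isIntegralHom_of_birational hN g _ rfl hgen hstalk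

end Groth.Agent.Lib.IntegralSectionH7
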