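import Mathlib
import Groth.Agent.Lib.IntegralSection_helper7

set_option autoImplicit false
universe u
open CategoryTheory CategoryTheory.Limits AlgebraicGeometry TopologicalSpace

namespace Groth.Agent.Lib.SectionExtH7

/-- Any morphism out of a scheme with at most one point is quasi-compact. -/
theorem quasiCompact_of_subsingleton {T Y : Scheme.{u}} [Subsingleton T] (f : T ⟶ Y) :
    QuasiCompact f :=
  ⟨fun U _ _ => (Set.subsingleton_of_subsingleton (s := f ⁻¹' U)).isCompact⟩

/-- The scheme-theoretic image of a quasi-compact morphism from a reduced scheme is reduced. -/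
theorem isReduced_image {X Y : Scheme.{u}} (f : X ⟶ Y) [QuasiCompact f] [IsReduced X] :
    IsReduced f.image := by
  have hred : ∀ U : Y.affineOpens, _root_.IsReduced (Γ(Y, U) ⧸ f.ker.ideal U) := by
    intro U
    rw [f.ker_apply U]
    exact isReduced_of_injective (RingHom.kerLift (f.app U).hom) (RingHom.kerLift_injective _)
  haveI : ∀ U : Y.affineOpens, IsReduced (f.ker.subschemeCover.openCover.X U) := by
    intro U
    haveI := hred U
    change IsReduced (Spec (.of (Γ(Y, U) ⧸ f.ker.ideal U)))
    infer_instance
  exact IsReduced.of_openCover (X := f.image) f.ker.subschemeCover.openCover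

/-- The scheme-theoretic image of a quasi-compact morphism from an integral scheme is integral. -/
theorem isIntegral_image {X Y : Scheme.{u}} (f : X ⟶ Y) [QuasiCompact f] [IsIntegral X] :
    IsIntegral f.image := by
  haveI : IsReduced f.image := isReduced_image f
  haveI : IrreducibleSpace f.image := by
    rw [irreducibleSpace_def]
    convert! ((IrreducibleSpace.isIrreducible_univ X).image _
      f.toImage.continuous.continuousOn).closure
    simpa using f.toImage.denseRange.closure_range.symm
  exact isIntegral_of_irreducibleSpace_of_isReduced _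

/-- A morphism from a reduced scheme factors through a closed immersion as soon as it does so
set-theoretically. -/
theorem exists_lift_of_isReduced {U Z X' : Scheme.{u}} [IsReduced U] (s : U ⟶ X') (i : Z ⟶ X')
    [IsClosedImmersion i] (h : Set.range s ⊆ Set.range i) : ∃ t : U ⟶ Z, t ≫ i = s := by
  haveI : Surjective (pullback.fst s i) := by
    constructor
    rw [← Set.range_eq_univ, Scheme.Pullback.range_fst, Set.eq_univ_iff_forall]
    intro u
    exact h ⟨u, rfl⟩
  haveI : IsIso (pullback.fst s i) := isIso_of_isClosedImmersion_of_surjective _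
  exact ⟨inv (pullback.fst s i) ≫ pullback.snd s i, by
    rw [Category.assoc, ← pullback.condition, IsIso.inv_hom_id_assoc]⟩

/-- A rational section of an integral morphism onto a normal integral scheme extends to a
section. -/
theorem exists_section_extension {X X' : Scheme.{u}} [IsIntegral X]
    (hN : ∀ x : X, IsIntegrallyClosed (X.presheaf.stalk x))
    (g : X' ⟶ X) [IsIntegralHom g] (U : X.Opens) (hU : (U : Set X).Nonempty)
    (s : (U : Scheme.{u}) ⟶ X') (hs : s ≫ g = U.ι) :
    ∃ s' : X ⟶ X', s' ≫ g = 𝟙 X ∧ U.ι ≫ s' = s := by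
  obtain ⟨u, hu⟩ := hU
  have hηU : genericPoint X ∈ U := (genericPoint_specializes u).mem_open U.2 hu
  haveI : Nonempty U := ⟨⟨u, hu⟩⟩
  haveI : Nonempty U.toScheme := ⟨⟨u, hu⟩⟩
  haveI : IsIntegral U.toScheme := inferInstance
  obtain ⟨j, hj⟩ : ∃ j : Spec X.functionField ⟶ U.toScheme,
      j = U.fromSpecStalkOfMem (genericPoint X) hηU := ⟨_, rfl⟩
  obtain ⟨σ₀, hσ₀⟩ : ∃ σ₀ : Spec X.functionField ⟶ X', σ₀ = j ≫ s := ⟨_, rfl⟩
  haveI : Subsingleton (Spec X.functionField) :=
    inferInstanceAs (Subsingleton (PrimeSpectrum X.functionField))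
  haveI : QuasiCompact σ₀ := quasiCompact_of_subsingleton σ₀
  haveI : IsIntegral (Spec X.functionField) := inferInstance
  haveI : IsIntegral σ₀.image := isIntegral_image σ₀
  -- the image of `j` is the generic point of `U`
  have hjpt : ∀ p : Spec X.functionField, j p = genericPoint U.toScheme := by
    intro p
    apply U.ι.injective
    rw [← Scheme.Hom.comp_apply, hj, Scheme.Opens.fromSpecStalkOfMem_ι,
      genericPoint_eq_of_isOpenImmersion U.ι]
    have h1 := Scheme.range_fromSpecStalk (X := X) (x := genericPoint X)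
    have h2 : X.fromSpecStalk (genericPoint X) p ∈ Set.range (X.fromSpecStalk (genericPoint X)) :=
      ⟨p, rfl⟩
    rw [h1] at h2
    exact ((genericPoint_specializes _).antisymm h2).eq.symm
  -- `s` factors set-theoretically through the image of `σ₀`
  have hrange : Set.range s ⊆ Set.range σ₀.imageι := by
    rw [Scheme.IdealSheafData.range_subschemeι, Scheme.Hom.support_ker]
    rintro _ ⟨v, rfl⟩
    obtain ⟨p⟩ : Nonempty (Spec X.functionField) := inferInstance
    have h1 : j p ⤳ v := by rw [hjpt p]; exact genericPoint_specializes v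
    have h2 : s (j p) ⤳ s v := h1.map s.continuous
    have h3 : s (j p) ∈ closure (Set.range σ₀) := by
      apply subset_closure
      exact ⟨p, by rw [hσ₀, Scheme.Hom.comp_apply]⟩
    exact h2.mem_closed isClosed_closure h3
  obtain ⟨t, ht⟩ := exists_lift_of_isReduced s σ₀.imageι hrange
  have hth : t ≫ (σ₀.imageι ≫ g) = U.ι := by rw [← Category.assoc, ht, hs]
  haveI : IsIso (σ₀.imageι ≫ g) :=
    Groth.Agent.Lib.IntegralSectionH7.isIso_of_rational_section hN (σ₀.imageι ≫ g) U ⟨u, hu⟩ t hth
  refine ⟨inv (σ₀.imageι ≫ g) ≫ σ₀.imageι, ?_, ?_⟩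
  · rw [Category.assoc, IsIso.inv_hom_id]
  · rw [← hth, Category.assoc, IsIso.hom_inv_id_assoc, ht]

end Groth.Agent.Lib.SectionExtH7
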