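import Mathlib
import Groth.Agent.Lib.SectionExt_helper7
import Groth.Agent.Lib.TorsorProp_helper7

set_option autoImplicit false
set_option linter.style.haveILetI false
universe u
open CategoryTheory CategoryTheory.Limits AlgebraicGeometry MonoidalCategory CartesianMonoidalCategory MonObj

namespace Groth.Agent.Lib.EtNormH4

/-- étale morphisms are locally quasi-finite -/
theorem locallyQuasiFinite_of_etale {X Y : Scheme.{u}} (f : X ⟶ Y) [Etale f] :
    LocallyQuasiFinite f := by
  rw [HasRingHomProperty.iff_appLE (P := @LocallyQuasiFinite)]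
  intro U V e
  have h := HasRingHomProperty.appLE @Etale f inferInstance U V e
  algebraize [(f.appLE U.1 V.1 e).hom]
  exact (inferInstance : Algebra.QuasiFinite Γ(Y, U.1) Γ(X, V.1))

/-- A scheme locally quasi-finite over a locally Artinian scheme is discrete. -/
theorem discreteTopology_of_locallyQuasiFinite {D K : Scheme.{u}} (d : D ⟶ K)
    [LocallyQuasiFinite d] [IsLocallyArtinian K] : DiscreteTopology D := by
  haveI : IsLocallyArtinian D := IsLocallyArtinian.of_locallyQuasiFinite d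
  infer_instance

/-- Core finiteness lemma: `E' = D ×_K T` with `D` locally quasi-finite over the locally Artinian `K`; a closed
subscheme of `E'` contained in the closure of a compact set is finite over `T`. -/
theorem isFinite_of_compact {D K T E' Z' : Scheme.{u}} (d : D ⟶ K) (g : T ⟶ K)
    [LocallyQuasiFinite d] [IsLocallyArtinian K] [IsAffine K]
    (q : E' ⟶ D) (p : E' ⟶ T) (hpb : IsPullback q p d g)
    (j : Z' ⟶ E') [IsClosedImmersion j] (C : Set E') (hC : IsCompact C)
    (hj : Set.range j ⊆ closure C) : IsFinite (j ≫ p) := by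
  haveI : DiscreteTopology D := discreteTopology_of_locallyQuasiFinite d
  -- the finite set of components met by `C`
  have hF : (q '' C).Finite := (hC.image q.continuous).finite_of_discrete
  let V : D.Opens := ⟨q '' C, isOpen_discrete _⟩
  have hVfin : Finite V := hF.to_subtype
  -- `Z'` lands in the clopen `q ⁻¹ V`
  have hclosed : IsClosed ((q ⁻¹ᵁ V : E'.Opens) : Set E') :=
    (isClosed_discrete (q '' C)).preimage q.continuous
  have hsub : Set.range j ⊆ ((q ⁻¹ᵁ V : E'.Opens) : Set E') := by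
    refine hj.trans (hclosed.closure_subset_iff.mpr ?_)
    intro c hc
    exact ⟨c, hc, rfl⟩
  let j' : Z' ⟶ (q ⁻¹ᵁ V).toScheme := IsOpenImmersion.lift (q ⁻¹ᵁ V).ι j (by
    rw [Scheme.Opens.range_ι]; exact hsub)
  have hj' : j' ≫ (q ⁻¹ᵁ V).ι = j := IsOpenImmersion.lift_fac _ _ _
  haveI : IsClosedImmersion (j' ≫ (q ⁻¹ᵁ V).ι) := by rw [hj']; infer_instance
  haveI : IsClosedImmersion j' := IsClosedImmersion.of_comp j' (q ⁻¹ᵁ V).ι
  -- `V → K` is finite
  haveI : CompactSpace V := Finite.compactSpace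
  haveI : QuasiCompact (V.ι ≫ d) := by
    rw [HasAffineProperty.iff_of_isAffine (P := @QuasiCompact)]
    infer_instance
  haveI : IsFinite (V.ι ≫ d) := IsFinite.of_locallyQuasiFinite (V.ι ≫ d)
  -- base change
  have hpb2 : IsPullback (q ∣_ V) ((q ⁻¹ᵁ V).ι ≫ p) (V.ι ≫ d) g :=
    (isPullback_morphismRestrict q V).paste_vert hpb
  haveI : IsFinite ((q ⁻¹ᵁ V).ι ≫ p) :=
    MorphismProperty.of_isPullback (P := @IsFinite) hpb2 inferInstance
  rw [← hj', Category.assoc]
  infer_instance

/-- For a generalizing map, the preimage of the closure of a point is in the closure of the preimage. -/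
theorem preimage_closure_singleton_subset {A B : Type*} [TopologicalSpace A] [TopologicalSpace B]
    (pr : A → B) (hpr : GeneralizingMap pr) (b : B) :
    pr ⁻¹' closure {b} ⊆ closure (pr ⁻¹' {b}) := by
  intro y hy
  have h1 : b ⤳ pr y := specializes_iff_mem_closure.mpr hy
  obtain ⟨y', hy', hpy'⟩ := hpr h1
  have h2 : y ∈ closure {y'} := specializes_iff_mem_closure.mp hy'
  exact closure_mono (Set.singleton_subset_iff.mpr (by simpa using hpy')) h2

theorem isFinite_bc_of_compact {E S T Z K D K₀ : Scheme.{u}} (e : E ⟶ S) (f : T ⟶ S) [Flat f]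
    (i : Z ⟶ E) [IsClosedImmersion i] (x : K ⟶ E) (e₀ : E) (hx : Set.range x = {e₀})
    (hi : Set.range i ⊆ closure {e₀})
    [CompactSpace ↑(pullback (x ≫ e) f)]
    (d : D ⟶ K₀) (g : T ⟶ K₀) [LocallyQuasiFinite d] [IsLocallyArtinian K₀] [IsAffine K₀]
    (q : pullback e f ⟶ D) (hpb : IsPullback q (pullback.snd e f) d g) :
    IsFinite (pullback.snd (i ≫ e) f) := by
  let pr := pullback.fst e f
  have hgen : GeneralizingMap pr := Flat.generalizingMap pr
  -- the compact set
  haveI : CompactSpace ↑(pullback x pr) :=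
    (pullbackRightPullbackFstIso e f x).hom.homeomorph.symm.compactSpace
  have hC : IsCompact (Set.range (pullback.snd x pr)) :=
    isCompact_range (pullback.snd x pr).continuous
  have hCeq : Set.range (pullback.snd x pr) = pr ⁻¹' {e₀} := by
    rw [Scheme.Pullback.range_snd, hx]
  have hj : Set.range (pullback.snd i pr) ⊆ closure (Set.range (pullback.snd x pr)) := by
    rw [Scheme.Pullback.range_snd, hCeq]
    exact (Set.preimage_mono hi).trans (preimage_closure_singleton_subset pr hgen e₀)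
  have hfin : IsFinite (pullback.snd i pr ≫ pullback.snd e f) :=
    isFinite_of_compact d g q (pullback.snd e f) hpb (pullback.snd i pr) _ hC hj
  have heq : pullback.snd (i ≫ e) f =
      (pullbackRightPullbackFstIso e f i).inv ≫ pullback.snd i pr ≫ pullback.snd e f := by
    rw [pullbackRightPullbackFstIso_inv_snd_snd]
  rw [heq]
  infer_instance


theorem exists_q {B : Scheme.{u}} (G : Over B) [GrpObj G] {S T : Scheme.{u}}
    (s : S ⟶ B) (E : NonAbH1.TorsorSch (Red.bc s G) Scheme.fppfPrecoverage) (f : T ⟶ S)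
    (hsec : NonAbH1.HasSectionOver E.X f) :
    ∃ q : pullback E.X.hom f ⟶ G.left, IsPullback q (pullback.snd E.X.hom f) G.hom (f ≫ s) := by
  obtain ⟨t, ht⟩ := hsec
  let xT : 𝟙_ (Over T) ⟶ Red.bc f E.X :=
    Over.homMk (pullback.lift t (𝟙 T) (by rw [ht]; exact (Category.id_comp f).symm))
      (pullback.lift_snd _ _ _)
  haveI := Groth.Agent.Lib.TorsorIso_helper7.isIso_orbitMap (E.act.bc f)
    (NonAbH1.isPseudoTorsorSch_bc f E.isTorsor.1) xT
  haveI : IsIso ((E.act.bc f).orbitMap xT).left :=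
    (inferInstance : IsIso ((Over.forget T).map ((E.act.bc f).orbitMap xT)))
  have hw : ((E.act.bc f).orbitMap xT).left ≫ pullback.snd E.X.hom f =
      pullback.snd (Red.bc s G).hom f := Over.w ((E.act.bc f).orbitMap xT)
  have hbase : IsPullback (pullback.fst (Red.bc s G).hom f ≫ pullback.fst G.hom s)
      (pullback.snd (Red.bc s G).hom f) G.hom (f ≫ s) :=
    (IsPullback.of_hasPullback (Red.bc s G).hom f).paste_horiz (IsPullback.of_hasPullback G.hom s)
  refine ⟨inv ((E.act.bc f).orbitMap xT).left ≫ pullback.fst (Red.bc s G).hom f ≫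
    pullback.fst G.hom s, ?_⟩
  refine IsPullback.of_iso hbase (asIso ((E.act.bc f).orbitMap xT).left) (Iso.refl _) (Iso.refl _)
    (Iso.refl _) ?_ ?_ ?_ ?_
  · simp
  · simp [hw]
  · simp
  · simp


theorem compactSpace_pullback_of_factor {K S S₀ T : Scheme.{u}} [Finite K] (a : K ⟶ S)
    (jj : S₀ ⟶ S) [IsOpenImmersion jj] [IsAffine S₀] [IsAffine T] (f₀ : T ⟶ S₀) :
    CompactSpace ↑(pullback a (f₀ ≫ jj)) := by
  haveI : Finite ↑(pullback a jj) :=
    Finite.of_injective _ (pullback.fst a jj).isOpenEmbedding.injective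
  haveI : CompactSpace ↑(pullback a jj) := Finite.compactSpace
  haveI : QuasiCompact f₀ := by
    rw [HasAffineProperty.iff_of_isAffine (P := @QuasiCompact)]
    infer_instance
  exact (pullbackLeftPullbackSndIso a jj f₀).hom.homeomorph.compactSpace


section

variable {k : Type u} [Field k] (G : Over (Spec (CommRingCat.of k))) [GrpObj G] [Etale G.hom]
  {S : Scheme.{u}} (s : S ⟶ Spec (CommRingCat.of k))
  (E : NonAbH1.TorsorSch (Red.bc s G) Scheme.fppfPrecoverage)
  {Z K : Scheme.{u}} (i : Z ⟶ E.X.left) [IsClosedImmersion i] [Finite K] (x : K ⟶ E.X.left)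
  (e₀ : E.X.left) (hx : Set.range x = {e₀}) (hi : Set.range i ⊆ closure {e₀})

include hx hi in
theorem isFinite_bc_affine {T S₀ : Scheme.{u}} [IsAffine T] [IsAffine S₀] (jj : S₀ ⟶ S)
    [IsOpenImmersion jj] (f₀ : T ⟶ S₀) [Flat (f₀ ≫ jj)]
    (hsec : NonAbH1.HasSectionOver E.X (f₀ ≫ jj)) :
    IsFinite (pullback.snd (i ≫ E.X.hom) (f₀ ≫ jj)) := by
  haveI : LocallyQuasiFinite G.hom := locallyQuasiFinite_of_etale G.hom
  haveI : CompactSpace ↑(pullback (x ≫ E.X.hom) (f₀ ≫ jj)) :=
    compactSpace_pullback_of_factor (x ≫ E.X.hom) jj f₀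
  obtain ⟨q, hq⟩ := exists_q G s E (f₀ ≫ jj) hsec
  exact isFinite_bc_of_compact E.X.hom (f₀ ≫ jj) i x e₀ hx hi G.hom ((f₀ ≫ jj) ≫ s) q hq

include hx hi in
theorem isFinite_bc_general {T : Scheme.{u}} (f : T ⟶ S) [Flat f]
    (hsec : NonAbH1.HasSectionOver E.X f) :
    IsFinite (pullback.snd (i ≫ E.X.hom) f) := by
  have key : ∀ b : T, ∃ (U : S.Opens) (B' : T.Opens), IsAffineOpen U ∧ IsAffineOpen B' ∧
      b ∈ B' ∧ B' ≤ f ⁻¹ᵁ U := by
    intro b
    obtain ⟨U, hU, hbU, -⟩ := exists_isAffineOpen_mem_and_subset (x := f b) (U := ⊤) trivial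
    obtain ⟨B', hB', hbB', hle⟩ :=
      exists_isAffineOpen_mem_and_subset (x := b) (U := f ⁻¹ᵁ U) hbU
    exact ⟨U, B', hU, hB', hbB', hle⟩
  choose U B' hU hB' hb hle using key
  have hcov : TopologicalSpace.IsOpenCover B' := by
    apply TopologicalSpace.IsOpenCover.mk
    rw [eq_top_iff]
    intro b _
    exact TopologicalSpace.Opens.mem_iSup.2 ⟨b, hb b⟩
  rw [IsZariskiLocalAtTarget.iff_of_openCover (P := @IsFinite) (T.openCoverOfIsOpenCover B' hcov)]
  intro b
  change IsFinite (pullback.snd (pullback.snd (i ≫ E.X.hom) f) (B' b).ι)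
  haveI : IsAffine (B' b).toScheme := hB' b
  haveI : IsAffine (U b).toScheme := hU b
  have hrange : Set.range ((B' b).ι ≫ f) ⊆ Set.range (U b).ι := by
    rw [Scheme.Opens.range_ι]
    rintro _ ⟨y, rfl⟩
    rw [Scheme.Hom.comp_apply]
    exact hle b y.2
  obtain ⟨f₀, hf₀⟩ : ∃ f₀ : (B' b).toScheme ⟶ (U b).toScheme, f₀ ≫ (U b).ι = (B' b).ι ≫ f :=
    ⟨IsOpenImmersion.lift (U b).ι ((B' b).ι ≫ f) hrange, IsOpenImmersion.lift_fac _ _ _⟩
  haveI : Flat (f₀ ≫ (U b).ι) := by rw [hf₀]; infer_instance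
  have hsec' : NonAbH1.HasSectionOver E.X (f₀ ≫ (U b).ι) := by
    obtain ⟨t, ht⟩ := hsec
    exact ⟨(B' b).ι ≫ t, by rw [Category.assoc, ht, hf₀]⟩
  have h1 := isFinite_bc_affine G s E i x e₀ hx hi (U b).ι f₀ hsec'
  rw [hf₀] at h1
  rw [← pullbackLeftPullbackSndIso_hom_snd]
  infer_instance

include hx hi in
theorem isFinite_closure : IsFinite (i ≫ E.X.hom) := by
  obtain ⟨R, hR, hsec⟩ := E.isTorsor.2
  have hR' : R ∈ Scheme.fpqcPrecoverage S := Scheme.fppfPrecoverage_le_fpqcPrecoverage _ hR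
  haveI := Groth.Agent.Lib.TorsorProp_helper7.isFinite_descends.{u}
  refine Groth.Agent.Lib.TorsorProp_helper7.P_of_fpqc_aux @IsFinite (i ≫ E.X.hom) (𝟙 S) hR'
    (fun T f hf => ?_)
  haveI hflat : Flat f := (hR.2 hf).1
  have hfst : pullback.fst (𝟙 S) f = pullback.snd (𝟙 S) f ≫ f := by
    rw [← pullback.condition, Category.comp_id]
  haveI : Flat (pullback.fst (𝟙 S) f) := by rw [hfst]; infer_instance
  have hsec' : NonAbH1.HasSectionOver E.X (pullback.fst (𝟙 S) f) := by
    obtain ⟨t, ht⟩ := hsec f hf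
    exact ⟨pullback.snd (𝟙 S) f ≫ t, by rw [Category.assoc, ht, hfst]⟩
  exact isFinite_bc_general G s E i x e₀ hx hi (pullback.fst (𝟙 S) f) hsec'

end

end Groth.Agent.Lib.EtNormH4
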