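import Groth.Agent.Lib.EtNormal_helper4
import Groth.Prelude.Def_Pi1

/-!
# Finite étale covers of normal integral schemes (helper4)
-/

universe u

set_option linter.style.haveILetI false

open AlgebraicGeometry CategoryTheory TopologicalSpace

namespace Groth.Agent.Lib.EtNormal2H4

/-- The source of an étale morphism into a normal scheme is normal. -/
theorem isNormalScheme_of_etale {X Y : Scheme.{u}} (f : Y ⟶ X) [Etale f]
    (hX : Pi1.IsNormalScheme X) : Pi1.IsNormalScheme Y :=
  fun y => Groth.Agent.Lib.EtNormalH4.stalk_normal_of_etale f y (hX (f y))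

/-- A connected scheme, finite étale over an integral scheme, all of whose local rings are domains,
is irreducible. -/
theorem irreducibleSpace_of_finite_etale {X Y : Scheme.{u}} [IsIntegral X] (f : Y ⟶ X)
    [IsFinite f] [Etale f] [ConnectedSpace Y]
    (hdom : ∀ y : Y, IsDomain (Y.presheaf.stalk y)) : IrreducibleSpace Y := by
  let η : X := genericPoint X
  let F : Set Y := f ⁻¹' {η}
  have hFfin : F.Finite := f.finite_preimage_singleton η
  have hFdisc : _root_.IsDiscrete F := f.isDiscrete_preimage_singleton η
  -- density of the generic fibre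
  have hdense : ∀ W : Set Y, IsOpen W → W.Nonempty → (W ∩ F).Nonempty := by
    intro W hW hWne
    have hopen : IsOpen (f '' W) := f.isOpenMap W hW
    have hne : (f '' W).Nonempty := hWne.image _
    have hη : η ∈ f '' W := by
      rw [(genericPoint_spec X).mem_open_set_iff hopen]
      simpa using hne
    obtain ⟨w, hw, hwη⟩ := hη
    exact ⟨w, hw, hwη⟩
  -- every point is a specialization of a point of the generic fibre
  have hcover : ∀ z : Y, ∃ y ∈ F, y ⤳ z := by
    intro z
    by_contra hcon
    push Not at hcon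
    let W : Set Y := (⋃ y ∈ F, closure {y})ᶜ
    have hWopen : IsOpen W :=
      (hFfin.isClosed_biUnion (fun y _ => isClosed_closure)).isOpen_compl
    have hzW : z ∈ W := by
      simp only [W, Set.mem_compl_iff, Set.mem_iUnion, not_exists]
      intro y hy hz
      exact hcon y hy (specializes_iff_mem_closure.mpr hz)
    obtain ⟨w, hwW, hwF⟩ := hdense W hWopen ⟨z, hzW⟩
    exact hwW (Set.mem_biUnion hwF (subset_closure rfl))
  -- uniqueness
  have huniq : ∀ z : Y, ∀ y ∈ F, ∀ y' ∈ F, y ⤳ z → y' ⤳ z → y = y' := by
    intro z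
    haveI := hdom z
    let ξ₀ : PrimeSpectrum (Y.presheaf.stalk z) := ⟨⊥, Ideal.isPrime_bot⟩
    let ξ : Y := Y.fromSpecStalk z ξ₀
    have key : ∀ y ∈ F, y ⤳ z → y = ξ := by
      intro y hy hyz
      have hyr : y ∈ Set.range (Y.fromSpecStalk z) := by
        rw [Scheme.range_fromSpecStalk]; exact hyz
      obtain ⟨p, rfl⟩ := hyr
      have h1 : ξ₀ ⤳ (p : PrimeSpectrum (Y.presheaf.stalk z)) :=
        (PrimeSpectrum.le_iff_specializes _ _).mp (show (⊥ : Ideal _) ≤ _ from bot_le)
      have h2 : ξ ⤳ Y.fromSpecStalk z p := h1.map (Y.fromSpecStalk z).continuous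
      have hyη : f (Y.fromSpecStalk z p) = η := hy
      have h3 : f ξ = η := by
        have h4 : f ξ ⤳ η := by
          have := h2.map f.continuous
          rwa [hyη] at this
        exact (h4.antisymm (genericPoint_specializes _)).eq
      haveI := hFdisc.to_subtype
      have hopen : IsOpen ({⟨Y.fromSpecStalk z p, hy⟩} : Set F) := isOpen_discrete _
      obtain ⟨O, hO, hOeq⟩ := isOpen_induced_iff.mp hopen
      have hyO : Y.fromSpecStalk z p ∈ O := by
        have : (⟨_, hy⟩ : F) ∈ Subtype.val ⁻¹' O := by rw [hOeq]; rfl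
        exact this
      have hξO : ξ ∈ O := h2.mem_open hO hyO
      have hmem : (⟨ξ, h3⟩ : F) ∈ Subtype.val ⁻¹' O := hξO
      rw [hOeq] at hmem
      exact (congrArg Subtype.val (Set.mem_singleton_iff.mp hmem)).symm
    intro y hy y' hy' h h'
    rw [key y hy h, key y' hy' h']
  obtain ⟨z₀⟩ := (inferInstance : Nonempty Y)
  obtain ⟨y₀, hy₀, -⟩ := hcover z₀
  have hclopen : IsClopen (closure {y₀}) := by
    refine ⟨isClosed_closure, ?_⟩
    have heq : closure {y₀} = (⋃ y ∈ F \ {y₀}, closure {y})ᶜ := by
      ext z
      simp only [Set.mem_compl_iff, Set.mem_iUnion, not_exists]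
      constructor
      · intro hz y hy hz'
        exact hy.2 (huniq z y hy.1 y₀ hy₀ (specializes_iff_mem_closure.mpr hz')
          (specializes_iff_mem_closure.mpr hz))
      · intro hz
        obtain ⟨y, hy, hyz⟩ := hcover z
        by_cases h : y = y₀
        · subst h; exact specializes_iff_mem_closure.mp hyz
        · exact absurd (specializes_iff_mem_closure.mp hyz) (hz y ⟨hy, h⟩)
    rw [heq]
    exact ((hFfin.subset Set.sdiff_subset).isClosed_biUnion
      (fun y _ => isClosed_closure)).isOpen_compl
  have huniv : closure {y₀} = Set.univ := hclopen.eq_univ ⟨y₀, subset_closure rfl⟩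
  haveI : PreirreducibleSpace Y :=
    ⟨by rw [← huniv]; exact isIrreducible_singleton.closure.isPreirreducible⟩
  exact { toNonempty := ⟨z₀⟩ }

theorem main0246 {X : Scheme.{u}} [IsIntegral X] (hX : Pi1.IsNormalScheme X) (Y : FEt.Cat X)
    [ConnectedSpace Y.left] : IsIntegral Y.left ∧ Pi1.IsNormalScheme Y.left := by
  let p : Y.left ⟶ X := Y.hom
  haveI : IsFinite p := Y.prop.1
  haveI : Etale p := Y.prop.2
  have hN : Pi1.IsNormalScheme Y.left := isNormalScheme_of_etale p hX
  refine ⟨?_, hN⟩
  haveI : ∀ y : Y.left, IsReduced (Y.left.presheaf.stalk y) := fun y => by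
    haveI := (hN y).1
    infer_instance
  haveI : IsReduced Y.left := isReduced_of_isReduced_stalk _
  haveI : IrreducibleSpace Y.left :=
    irreducibleSpace_of_finite_etale p (fun y => (hN y).1)
  exact isIntegral_of_irreducibleSpace_of_isReduced _

end Groth.Agent.Lib.EtNormal2H4
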