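import Mathlib
import Groth.Agent.Lib.EtConstSec_helper7
import Groth.Agent.Lib.EtNormal2_helper4
import Groth.Agent.Lib.EtNormA_helper4

/-!
# Constant sheaves on a normal integral scheme: `M_X ⟶ g_* g⁻¹ M_X` is an isomorphism for a
preimmersion `g` through the generic point (helper7)
-/

set_option autoImplicit false
set_option backward.isDefEq.respectTransparency false
set_option backward.isDefEq.respectTransparency.types false
set_option linter.style.haveILetI false
set_option linter.unusedSectionVars false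
universe u
open CategoryTheory CategoryTheory.Limits AlgebraicGeometry Opposite TopologicalSpace

namespace Groth.Agent.Lib.EtNormalConstH7

open Groth.Agent.Lib.EtSchSite_helper7 Groth.Agent.Lib.EtZarAff_helper7

/-- A quasi-compact étale scheme over an integral scheme all of whose local rings are domains:
every point lies in the closure of a point of the generic fibre, and that closure is open. -/
theorem exists_generic_clopen {X Y : Scheme.{u}} [IsIntegral X] (f : Y ⟶ X)
    [Etale f] [QuasiCompact f]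
    (hdom : ∀ y : Y, IsDomain (Y.presheaf.stalk y)) (z₀ : Y) :
    ∃ y₀ : Y, f y₀ = genericPoint X ∧ IsOpen (closure ({y₀} : Set Y)) ∧
      z₀ ∈ closure ({y₀} : Set Y) := by
  haveI : LocallyQuasiFinite f := Groth.Agent.Lib.EtNormH4.locallyQuasiFinite_of_etale f
  let η : X := genericPoint X
  let F : Set Y := f ⁻¹' {η}
  have hFfin : F.Finite := f.finite_preimage_singleton η
  have hFdisc : _root_.IsDiscrete F := f.isDiscrete_preimage_singleton η
  -- density of the generic fibre
  have hdense : ∀ W : Set Y, IsOpen W → W.Nonempty → (W ∩ F).Nonempty := by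
    intro W hW hWne
    have hopen : IsOpen (f '' W) := f.isOpenMap W hW
    have hne : (f '' W).Nonempty := hWne.image _
    have hη : η ∈ f '' W := by
      rw [(genericPoint_spec X).mem_open_set_iff hopen]
      simpa using hne
    obtain ⟨w, hw, hwη⟩ := hη
    exact ⟨w, hw, hwη⟩
  -- every point is a specialization of a point of the generic fibre
  have hcover : ∀ z : Y, ∃ y ∈ F, y ⤳ z := by
    intro z
    by_contra hcon
    push Not at hcon
    let W : Set Y := (⋃ y ∈ F, closure {y})ᶜ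
    have hWopen : IsOpen W :=
      (hFfin.isClosed_biUnion (fun y _ => isClosed_closure)).isOpen_compl
    have hzW : z ∈ W := by
      simp only [W, Set.mem_compl_iff, Set.mem_iUnion, not_exists]
      intro y hy hz
      exact hcon y hy (specializes_iff_mem_closure.mpr hz)
    obtain ⟨w, hwW, hwF⟩ := hdense W hWopen ⟨z, hzW⟩
    exact hwW (Set.mem_biUnion hwF (subset_closure rfl))
  -- uniqueness
  have huniq : ∀ z : Y, ∀ y ∈ F, ∀ y' ∈ F, y ⤳ z → y' ⤳ z → y = y' := by
    intro z
    haveI := hdom z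
    let ξ₀ : PrimeSpectrum (Y.presheaf.stalk z) := ⟨⊥, Ideal.isPrime_bot⟩
    let ξ : Y := Y.fromSpecStalk z ξ₀
    have key : ∀ y ∈ F, y ⤳ z → y = ξ := by
      intro y hy hyz
      have hyr : y ∈ Set.range (Y.fromSpecStalk z) := by
        rw [Scheme.range_fromSpecStalk]; exact hyz
      obtain ⟨p, rfl⟩ := hyr
      have h1 : ξ₀ ⤳ (p : PrimeSpectrum (Y.presheaf.stalk z)) :=
        (PrimeSpectrum.le_iff_specializes _ _).mp (show (⊥ : Ideal _) ≤ _ from bot_le)
      have h2 : ξ ⤳ Y.fromSpecStalk z p := h1.map (Y.fromSpecStalk z).continuous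
      have hyη : f (Y.fromSpecStalk z p) = η := hy
      have h3 : f ξ = η := by
        have h4 : f ξ ⤳ η := by
          have := h2.map f.continuous
          rwa [hyη] at this
        exact (h4.antisymm (genericPoint_specializes _)).eq
      haveI := hFdisc.to_subtype
      have hopen : IsOpen ({⟨Y.fromSpecStalk z p, hy⟩} : Set F) := isOpen_discrete _
      obtain ⟨O, hO, hOeq⟩ := isOpen_induced_iff.mp hopen
      have hyO : Y.fromSpecStalk z p ∈ O := by
        have : (⟨_, hy⟩ : F) ∈ Subtype.val ⁻¹' O := by rw [hOeq]; rfl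
        exact this
      have hξO : ξ ∈ O := h2.mem_open hO hyO
      have hmem : (⟨ξ, h3⟩ : F) ∈ Subtype.val ⁻¹' O := hξO
      rw [hOeq] at hmem
      exact (congrArg Subtype.val (Set.mem_singleton_iff.mp hmem)).symm
    intro y hy y' hy' h h'
    rw [key y hy h, key y' hy' h']
  obtain ⟨y₀, hy₀, hyz₀⟩ := hcover z₀
  refine ⟨y₀, hy₀, ?_, specializes_iff_mem_closure.mp hyz₀⟩
  have heq : closure {y₀} = (⋃ y ∈ F \ {y₀}, closure {y})ᶜ := by
    ext z
    simp only [Set.mem_compl_iff, Set.mem_iUnion, not_exists]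
    constructor
    · intro hz y hy hz'
      exact hy.2 (huniq z y hy.1 y₀ hy₀ (specializes_iff_mem_closure.mpr hz')
        (specializes_iff_mem_closure.mpr hz))
    · intro hz
      obtain ⟨y, hy, hyz⟩ := hcover z
      by_cases h : y = y₀
      · subst h; exact specializes_iff_mem_closure.mp hyz
      · exact absurd (specializes_iff_mem_closure.mp hyz) (hz y ⟨hy, h⟩)
  rw [heq]
  exact ((hFfin.subset Set.sdiff_subset).isClosed_biUnion
    (fun y _ => isClosed_closure)).isOpen_compl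

/-- Local irreducibility of étale schemes over a normal integral scheme, in the form needed
below. -/
theorem exists_open_generic {X V : Scheme.{u}} [IsIntegral X] (hX : Pi1.IsNormalScheme X)
    (f : V ⟶ X) [Etale f] (v : V) :
    ∃ (O : V.Opens) (y : V), v ∈ O ∧ y ∈ O ∧ (O : Set V) ⊆ closure ({y} : Set V) ∧
      f y = genericPoint X := by
  obtain ⟨X₀, hX₀, hfv, -⟩ :=
    exists_isAffineOpen_mem_and_subset (x := f v) (U := (⊤ : X.Opens)) trivial
  obtain ⟨V₀, hV₀, hv, hle⟩ :=
    exists_isAffineOpen_mem_and_subset (x := v) (U := f ⁻¹ᵁ X₀) hfv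
  haveI : Nonempty ↥(X₀ : Scheme.{u}) := ⟨⟨f v, hfv⟩⟩
  haveI : IsIntegral (X₀ : Scheme.{u}) := isIntegral_of_isOpenImmersion X₀.ι
  haveI : IsAffine (X₀ : Scheme.{u}) := hX₀
  haveI : IsAffine (V₀ : Scheme.{u}) := hV₀
  obtain ⟨h₀, hh₀⟩ : ∃ h₀ : (V₀ : Scheme.{u}) ⟶ (X₀ : Scheme.{u}), h₀ = f.resLE X₀ V₀ hle :=
    ⟨_, rfl⟩
  have hfac : h₀ ≫ X₀.ι = V₀.ι ≫ f := by rw [hh₀]; exact Scheme.Hom.resLE_comp_ι f hle
  haveI : Etale h₀ := by rw [hh₀]; infer_instance
  haveI : QuasiCompact h₀ := inferInstance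
  have hdom : ∀ y : ↥(V₀ : Scheme.{u}), IsDomain ((V₀ : Scheme.{u}).presheaf.stalk y) :=
    fun y => (Groth.Agent.Lib.EtNormal2H4.isNormalScheme_of_etale (V₀.ι ≫ f) hX y).1
  obtain ⟨y₀, hy₀, hopen, hz₀⟩ := exists_generic_clopen h₀ hdom ⟨v, hv⟩
  refine ⟨⟨V₀.ι '' closure ({y₀} : Set ↥(V₀ : Scheme.{u})),
    V₀.ι.isOpenEmbedding.isOpenMap _ hopen⟩, V₀.ι y₀, ⟨⟨v, hv⟩, hz₀, rfl⟩,
    ⟨y₀, subset_closure rfl, rfl⟩, ?_, ?_⟩
  · have h1 := image_closure_subset_closure_image (s := ({y₀} : Set ↥(V₀ : Scheme.{u})))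
      V₀.ι.continuous
    rw [Set.image_singleton] at h1
    exact h1
  · have h1 : f (V₀.ι y₀) = X₀.ι (h₀ y₀) := by
      rw [← Scheme.Hom.comp_apply, ← Scheme.Hom.comp_apply, hfac]
    rw [h1, hy₀]
    exact genericPoint_eq_of_isOpenImmersion X₀.ι

variable {X Y : Scheme.{u}} [IsIntegral X]

theorem H1 (g : Y ⟶ X) (hη : genericPoint X ∈ Set.range g) (V : X.Etale)
    (hV : Nonempty V.left) : Nonempty ((EtCoh.bc g).obj V).left := by
  haveI : Etale V.hom := V.prop
  obtain ⟨v₀⟩ := hV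
  have hopen : IsOpen (Set.range V.hom) := V.hom.isOpenMap.isOpen_range
  have hne : (Set.range V.hom).Nonempty := ⟨V.hom v₀, ⟨v₀, rfl⟩⟩
  have hmem : genericPoint X ∈ Set.range V.hom := by
    rw [(genericPoint_spec X).mem_open_set_iff hopen]
    simpa using hne
  obtain ⟨v, hv⟩ := hmem
  obtain ⟨y, hy⟩ := hη
  obtain ⟨z, -, -⟩ := Scheme.Pullback.exists_preimage_pullback (f := V.hom) (g := g) v y
    (hv.trans hy.symm)
  exact ⟨z⟩

theorem H2 (hX : Pi1.IsNormalScheme X) (g : Y ⟶ X) [IsPreimmersion g]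
    (hη : genericPoint X ∈ Set.range g) (V : X.Etale) (v : V.left) :
    ∃ (W : X.Etale) (k : W ⟶ V),
      v ∈ Set.range k.left ∧ PreconnectedSpace ((EtCoh.bc g).obj W).left := by
  haveI : Etale V.hom := V.prop
  obtain ⟨O, y, hvO, hyO, hsub, hy⟩ := exists_open_generic hX V.hom v
  obtain ⟨v', hv'⟩ := mem_range_ι (Z := V) hvO
  refine ⟨opn V O, opnι V O, ⟨v', hv'⟩, ?_⟩
  show PreconnectedSpace ↥(pullback (O.ι ≫ V.hom) g)
  obtain ⟨q, hq⟩ : ∃ q : pullback (O.ι ≫ V.hom) g ⟶ V.left,
      q = pullback.fst (O.ι ≫ V.hom) g ≫ O.ι := ⟨_, rfl⟩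
  haveI : IsPreimmersion q := by rw [hq]; infer_instance
  have hind : Topology.IsInducing q := q.isEmbedding.isInducing
  have hrange : Set.range q ⊆ closure ({y} : Set V.left) := by
    rintro _ ⟨z, rfl⟩
    apply hsub
    rw [hq, Scheme.Hom.comp_apply]
    exact (pullback.fst (O.ι ≫ V.hom) g z).2
  have hyr : y ∈ Set.range q := by
    obtain ⟨t, ht⟩ := hη
    have h1 : (O.ι ≫ V.hom) (⟨y, hyO⟩ : ↥(O : Scheme.{u})) = g t := by
      rw [Scheme.Hom.comp_apply]
      exact hy.trans ht.symm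
    obtain ⟨z, hz, -⟩ := Scheme.Pullback.exists_preimage_pullback
      (f := O.ι ≫ V.hom) (g := g) (⟨y, hyO⟩ : ↥(O : Scheme.{u})) t h1
    refine ⟨z, ?_⟩
    rw [hq, Scheme.Hom.comp_apply, hz]
    rfl
  have hpre : _root_.IsPreconnected (Set.range q) :=
    isPreconnected_singleton.subset_closure (Set.singleton_subset_iff.mpr hyr) hrange
  rw [← Set.image_univ, hind.isPreconnected_image] at hpre
  exact ⟨hpre⟩

theorem main (hX : Pi1.IsNormalScheme X) (g : Y ⟶ X) [IsPreimmersion g]
    (hη : genericPoint X ∈ Set.range g) (M : Type) [AddCommGroup M] :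
    IsIso ((EtCoh.pullPushAdj g).unit.app (EtCoh.const X M)) :=
  Groth.Agent.Lib.EtConstSecH7.isIso_unit g M (H1 g hη) (H2 hX g hη)

end Groth.Agent.Lib.EtNormalConstH7
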