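import Mathlib
import Groth.Agent.Lib.EtNormalConst_helper7
import Groth.Agent.Lib.EtSepPt_helper8
import Groth.Agent.Lib.EtFinExact_helper7

/-!
# Higher direct images of constant sheaves on a normal integral scheme with separably closed
function field vanish (helper7)
-/

set_option autoImplicit false
set_option backward.isDefEq.respectTransparency false
set_option backward.isDefEq.respectTransparency.types false
set_option linter.style.haveILetI false
set_option linter.unusedSectionVars false
universe u
open CategoryTheory CategoryTheory.Limits AlgebraicGeometry Opposite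

namespace Groth.Agent.Lib.EtNormalRpushH7

section Abstract

variable {A B C : Type*} [Category A] [Abelian A] [Category B] [Abelian B]
  [Category C] [Abelian C] [HasInjectiveResolutions A] [HasInjectiveResolutions B]

/-- the image of an injective resolution under an exact functor preserving injectives -/
noncomputable def mapRes (G : A ⥤ B) [G.Additive] [PreservesFiniteLimits G]
    [PreservesFiniteColimits G] [G.PreservesInjectiveObjects] {a : A}
    (R : InjectiveResolution a) : InjectiveResolution (G.obj a) where
  cocomplex := (G.mapHomologicalComplex _).obj R.cocomplex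
  injective n := by
    haveI := R.injective n
    exact G.injective_obj (R.cocomplex.X n)
  ι := (HomologicalComplex.singleMapHomologicalComplex G (ComplexShape.up ℕ) 0).inv.app a ≫
      (G.mapHomologicalComplex _).map R.ι
  quasiIso := by
    haveI : QuasiIso ((G.mapHomologicalComplex (ComplexShape.up ℕ)).map R.ι) :=
      HomologicalComplex.quasiIso_map_of_preservesHomology R.ι G
    infer_instance

/-- `R^{q+1}F (G a) = 0` when `G` is exact and preserves injectives and `G ⋙ F` is exact -/
theorem isZero_rightDerived_comp (G : A ⥤ B) [G.Additive] [PreservesFiniteLimits G]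
    [PreservesFiniteColimits G] [G.PreservesInjectiveObjects] (F : B ⥤ C) [F.Additive]
    [PreservesFiniteLimits (G ⋙ F)] [PreservesFiniteColimits (G ⋙ F)] (a : A) (q : ℕ) :
    IsZero ((F.rightDerived (q + 1)).obj (G.obj a)) := by
  refine IsZero.of_iso ?_ ((mapRes G (injectiveResolution a)).isoRightDerivedObj F (q + 1))
  have h0 := Groth.Agent.Lib.EtFinStalkH7.isZero_rightDerived_of_exact (G ⋙ F) a q
  exact IsZero.of_iso h0 ((injectiveResolution a).isoRightDerivedObj (G ⋙ F) (q + 1)).symm

end Abstract

section Sep

variable {Ω : Type u} [Field Ω] [IsSepClosed Ω] {X Y : Scheme.{u}}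
  (i : Spec (CommRingCat.of Ω) ⟶ X) (f : X ⟶ Y)

open Groth.Agent.Lib.EtSepPtH8 Groth.Agent.Lib.EtFinStalkH7

theorem push_pfc_sep : PreservesFiniteColimits (EtCoh.push i) := by
  rw [Functor.preservesFiniteColimits_iff_forall_exact_map_and_epi]
  intro S hS
  have h := (Functor.preservesFiniteLimits_iff_forall_exact_map_and_mono (EtCoh.push i)).1
    inferInstance S hS
  haveI := hS.epi_g
  exact ⟨h.1, push_epi i S.g⟩

theorem isZero_Rpush_push (G : EtCoh.Ab (Spec (CommRingCat.of Ω))) (q : ℕ) :
    IsZero ((EtCoh.Rpush f (q + 1)).obj ((EtCoh.push i).obj G)) := by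
  haveI := push_pfc_sep i
  haveI := push_pfc_sep (i ≫ f)
  haveI : PreservesFiniteLimits (EtCoh.push i ⋙ EtCoh.push f) :=
    preservesFiniteLimits_of_natIso (EtCoh.pushComp f i).symm
  haveI : PreservesFiniteColimits (EtCoh.push i ⋙ EtCoh.push f) :=
    preservesFiniteColimits_of_natIso (EtCoh.pushComp f i).symm
  exact isZero_rightDerived_comp (EtCoh.push i) (EtCoh.push f) G q

end Sep

theorem main0628 {X Y : Scheme.{u}} (f : X ⟶ Y) [IsIntegral X] (hX : Pi1.IsNormalScheme X)
    [IsSepClosed X.functionField] (M : Type) [AddCommGroup M] (q : ℕ) (hq : 1 ≤ q) :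
    IsZero ((EtCoh.Rpush f q).obj (EtCoh.const X M)) := by
  obtain ⟨q, rfl⟩ := Nat.exists_eq_succ_of_ne_zero (by omega : q ≠ 0)
  obtain ⟨i, hi⟩ : ∃ i : Spec (CommRingCat.of ↑X.functionField) ⟶ X,
      i = X.fromSpecStalk (genericPoint X) := ⟨_, rfl⟩
  haveI : IsPreimmersion i := by rw [hi]; infer_instance
  have hη0 : genericPoint X ∈ Set.range (X.fromSpecStalk (genericPoint X)) := by
    rw [Scheme.range_fromSpecStalk]
    exact specializes_rfl
  have hη : genericPoint X ∈ Set.range i := by
    rw [hi]
    exact hη0
  haveI := Groth.Agent.Lib.EtConstSecH7.isIso_phi i (AddCommGrpCat.of (ULift.{u + 1} M))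
    (Groth.Agent.Lib.EtNormalConstH7.H1 i hη) (Groth.Agent.Lib.EtNormalConstH7.H2 hX i hη)
  have h0 := isZero_Rpush_push i f
    (Groth.Agent.Lib.EtGenStalkAb.csX (Spec (CommRingCat.of ↑X.functionField))
      (AddCommGrpCat.of (ULift.{u + 1} M))) q
  exact IsZero.of_iso h0 ((EtCoh.Rpush f (q + 1)).mapIso
    (asIso (Groth.Agent.Lib.EtConstSecH7.phi i (AddCommGrpCat.of (ULift.{u + 1} M)))))

end Groth.Agent.Lib.EtNormalRpushH7
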