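import Mathlib
import Groth.Agent.Lib.EtNormalRpush_helper7

/-!
# Cohomology of constant sheaves on a normal integral scheme with separably closed function
field (helper7)
-/

set_option autoImplicit false
set_option backward.isDefEq.respectTransparency false
set_option backward.isDefEq.respectTransparency.types false
set_option linter.style.haveILetI false
set_option linter.unusedSectionVars false
universe u
open CategoryTheory CategoryTheory.Limits AlgebraicGeometry Opposite

namespace Groth.Agent.Lib.EtNormalConstHH7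

open Groth.Agent.Lib.EtGenStalkAb (csX etaX etaX_inj)

/-- global sections of a constant sheaf on a connected scheme -/
theorem sections_top_bijective (X : Scheme.{u}) [PreconnectedSpace X] [Nonempty X]
    (N : AddCommGrpCat.{u + 1}) :
    Function.Bijective (fun n : N => ((etaX X N).app (op (EtCoh.top X))).hom n) := by
  obtain ⟨x⟩ := (inferInstance : Nonempty X)
  refine ⟨fun n n' h => etaX_inj N (Y := EtCoh.top X) x n n' h, fun t => ?_⟩
  haveI : PreconnectedSpace (EtCoh.top X).left := inferInstanceAs (PreconnectedSpace X)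
  obtain ⟨n, hn⟩ := Groth.Agent.Lib.EtConstSecH7.exists_eq_etaX N (EtCoh.top X) t
  exact ⟨n, hn.symm⟩

theorem subsingleton_H_of_iso {X : Scheme.{u}} {F F' : EtCoh.Ab X} (e : F ≅ F') (q : ℕ)
    (h : Subsingleton (EtCoh.H X F' q)) : Subsingleton (EtCoh.H X F q) := by
  refine ⟨fun a b => ?_⟩
  have hinj := ((EtCoh.HF X q).mapIso e).addCommGroupIsoToAddEquiv.injective
  apply hinj
  exact @Subsingleton.elim _ h _ _

/-- positive-degree cohomology of constant sheaves vanishes on a normal integral scheme with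
separably closed function field -/
theorem subsingleton_H_const {X : Scheme.{u}} [IsIntegral X] (hX : Pi1.IsNormalScheme X)
    [IsSepClosed X.functionField] (M : Type) [AddCommGroup M] (q : ℕ) (hq : 0 < q) :
    Subsingleton (EtCoh.H X (EtCoh.const X M) q) := by
  obtain ⟨q, rfl⟩ := Nat.exists_eq_succ_of_ne_zero hq.ne'
  obtain ⟨i, hi⟩ : ∃ i : Spec (CommRingCat.of ↑X.functionField) ⟶ X,
      i = X.fromSpecStalk (genericPoint X) := ⟨_, rfl⟩
  haveI : IsPreimmersion i := by rw [hi]; infer_instance
  have hη0 : genericPoint X ∈ Set.range (X.fromSpecStalk (genericPoint X)) := by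
    rw [Scheme.range_fromSpecStalk]
    exact specializes_rfl
  have hη : genericPoint X ∈ Set.range i := by
    rw [hi]
    exact hη0
  haveI := Groth.Agent.Lib.EtConstSecH7.isIso_phi i (AddCommGrpCat.of (ULift.{u + 1} M))
    (Groth.Agent.Lib.EtNormalConstH7.H1 i hη) (Groth.Agent.Lib.EtNormalConstH7.H2 hX i hη)
  refine subsingleton_H_of_iso
    (asIso (Groth.Agent.Lib.EtConstSecH7.phi i (AddCommGrpCat.of (ULift.{u + 1} M)))) (q + 1) ?_
  refine ⟨fun a b => ?_⟩
  have ha := Groth.Agent.Lib.EtSepPtH8.vanish_push (Ω := ↑X.functionField) i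
    (csX (Spec (CommRingCat.of ↑X.functionField)) (AddCommGrpCat.of (ULift.{u + 1} M))) q a
  have hb := Groth.Agent.Lib.EtSepPtH8.vanish_push (Ω := ↑X.functionField) i
    (csX (Spec (CommRingCat.of ↑X.functionField)) (AddCommGrpCat.of (ULift.{u + 1} M))) q b
  rw [ha, hb]

/-- `H⁰` of a constant sheaf on a connected scheme -/
theorem card_H0_const (X : Scheme.{u}) [PreconnectedSpace X] [Nonempty X]
    (M : Type) [AddCommGroup M] :
    Nat.card (EtCoh.H X (EtCoh.const X M) 0) = Nat.card M := by
  have e1 : EtCoh.H X (EtCoh.const X M) 0 ≃ (EtCoh.const X M).obj.obj (op (EtCoh.top X)) :=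
    (Sheaf.H.equiv₀ (EtCoh.const X M) (EtCore.topIsTerminal X)).toEquiv
  have e2 : ULift.{u + 1} M ≃ (EtCoh.const X M).obj.obj (op (EtCoh.top X)) :=
    Equiv.ofBijective _ (sections_top_bijective X (AddCommGrpCat.of (ULift.{u + 1} M)))
  exact (Nat.card_congr e1).trans ((Nat.card_congr e2).symm.trans
    (Nat.card_congr Equiv.ulift))

theorem main19130 (p : ℕ) [Fact p.Prime] (Y : Scheme.{u}) [IsIntegral Y]
    (hnorm : ∀ y : Y, IsIntegrallyClosed (Y.presheaf.stalk y)) [IsAlgClosed Y.functionField] :
    Nat.card (EtCoh.H Y (EtCoh.const Y (ZMod p)) 0) = p ∧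
      (∀ i : ℕ, 0 < i → Subsingleton (EtCoh.H Y (EtCoh.const Y (ZMod p)) i)) ∧
      ∀ U : Y.Opens, (U : Set Y).Nonempty →
        IsIso ((EtCoh.pullPushAdj U.ι).unit.app (EtCoh.const Y (ZMod p))) := by
  have hX : Pi1.IsNormalScheme Y := fun x => ⟨inferInstance, hnorm x⟩
  haveI : IsSepClosed Y.functionField := inferInstance
  refine ⟨?_, fun i hi => subsingleton_H_const hX (ZMod p) i hi, fun U hU => ?_⟩
  · rw [card_H0_const Y (ZMod p)]
    exact Nat.card_zmod p
  · refine Groth.Agent.Lib.EtNormalConstH7.main hX U.ι ?_ (ZMod p)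
    rw [Scheme.Opens.range_ι]
    exact ((genericPoint_spec Y).mem_open_set_iff (U := (U : Set Y)) U.2).mpr (by simpa using hU)

end Groth.Agent.Lib.EtNormalConstHH7
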