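import Mathlib
import Groth.Prelude.Def_Dix
import Groth.Agent.Lib.EtLeray1_helper7
import Groth.Agent.Lib.EtGalQ_helper7
import Groth.Agent.Lib.EtNormalConstH_helper7

/-!
# `H¹(X, i_{x*} M) = 0` for a torsion-free constant sheaf on a point (helper7)
APPEND-ONLY once landed.
-/

set_option autoImplicit false
set_option backward.isDefEq.respectTransparency false
set_option backward.isDefEq.respectTransparency.types false
set_option linter.style.haveILetI false
set_option linter.unusedSectionVars false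
universe u
open CategoryTheory CategoryTheory.Limits AlgebraicGeometry Opposite Abelian

namespace Groth.Agent.Lib.EtDixSkyH7

open Groth.Agent.Lib.EtLeray1H7 Groth.Agent.Lib.EtFlasque_helper7 Groth.Agent.Lib.EtGalQH7
  Groth.Agent.Lib.EtTraceH7
open Groth.Agent.Lib.EtGenStalkAb (csX etaX etaX_nat)

section SES

variable (M : Type) [AddCommGroup M] (n : ℕ)

/-- the short complex `M →n M → M/nM` -/
noncomputable def Sn : ShortComplex AddCommGrpCat.{u + 1} :=
  ShortComplex.mk (uliftHom.{u} (nsmulAddMonoidHom (α := M) n))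
    (uliftHom.{u} (QuotientAddGroup.mk' (nsmulAddMonoidHom (α := M) n).range)) (by
      refine AddCommGrpCat.hom_ext (AddMonoidHom.ext fun a => ?_)
      refine ULift.ext _ _ ?_
      show (QuotientAddGroup.mk' (nsmulAddMonoidHom (α := M) n).range) (n • a.down) = 0
      rw [QuotientAddGroup.mk'_apply, QuotientAddGroup.eq_zero_iff]
      exact ⟨a.down, rfl⟩)

theorem Sn_shortExact [IsAddTorsionFree M] (hn : n ≠ 0) : (Sn.{u} M n).ShortExact := by
  haveI : Mono (Sn.{u} M n).f := by
    rw [AddCommGrpCat.mono_iff_injective]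
    intro a b hab
    have h3 : n • a.down = n • b.down := congrArg ULift.down hab
    exact ULift.ext _ _ (nsmul_right_injective hn h3)
  haveI : Epi (Sn.{u} M n).g := by
    rw [AddCommGrpCat.epi_iff_surjective]
    intro b
    obtain ⟨q, hq⟩ := QuotientAddGroup.mk'_surjective (nsmulAddMonoidHom (α := M) n).range b.down
    exact ⟨⟨q⟩, ULift.ext _ _ hq⟩
  refine ShortComplex.ShortExact.mk' ?_ inferInstance inferInstance
  rw [ShortComplex.ab_exact_iff]
  intro x₂ hx₂
  have h3 : (QuotientAddGroup.mk' (nsmulAddMonoidHom (α := M) n).range) x₂.down = 0 :=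
    congrArg ULift.down hx₂
  rw [QuotientAddGroup.mk'_apply, QuotientAddGroup.eq_zero_iff] at h3
  obtain ⟨m, hm⟩ := h3
  exact ⟨⟨m⟩, ULift.ext _ _ hm⟩

end SES

section Field

variable (Y : Scheme.{u}) [PreconnectedSpace Y] [Nonempty Y]

/-- `H¹` with torsion-free constant coefficients has no torsion on a connected scheme -/
theorem H1_const_torsionFree_of_torsion (M : Type) [AddCommGroup M] [IsAddTorsionFree M]
    (x : EtCoh.H Y (EtCoh.const Y M) 1) (n : ℕ) (hn : n ≠ 0) (hnx : n • x = 0) : x = 0 := by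
  haveI := pfl_const Y
  haveI := pfc_const Y
  have hS := (Sn_shortExact.{u} M n hn).map_of_exact
    (constantSheaf Y.smallEtaleTopology AddCommGrpCat.{u + 1})
  have hf : ((Sn.{u} M n).map (constantSheaf Y.smallEtaleTopology AddCommGrpCat.{u + 1})).f =
      n • 𝟙 (EtCoh.const Y M) := by
    have h2 : uliftHom.{u} (nsmulAddMonoidHom (α := M) n) =
        n • 𝟙 (AddCommGrpCat.of (ULift.{u + 1} M)) := by
      refine AddCommGrpCat.hom_ext (AddMonoidHom.ext fun a => ?_)
      rfl
    show (constantSheaf Y.smallEtaleTopology AddCommGrpCat.{u + 1}).map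
      (uliftHom.{u} (nsmulAddMonoidHom (α := M) n)) = _
    rw [h2, Functor.map_nsmul, CategoryTheory.Functor.map_id]
  have hx0 : x.comp (Ext.mk₀
      ((Sn.{u} M n).map (constantSheaf Y.smallEtaleTopology AddCommGrpCat.{u + 1})).f)
      (add_zero 1) = 0 := by
    rw [hf]
    exact (comp_mk₀_nsmul_id n x).trans hnx
  obtain ⟨x₃, hx₃⟩ := Ext.covariant_sequence_exact₁ _ hS x hx0 (zero_add 1)
  obtain ⟨χ, rfl⟩ := (Ext.mk₀_bijective _ _).2 x₃
  -- lift the global section
  obtain ⟨N', hN'⟩ : ∃ N' : AddCommGrpCat.{u + 1},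
      N' = AddCommGrpCat.of (ULift.{u + 1} (M ⧸ (nsmulAddMonoidHom (α := M) n).range)) :=
    ⟨_, rfl⟩
  obtain ⟨mbar, hmbar⟩ := (Groth.Agent.Lib.EtNormalConstHH7.sections_top_bijective Y
    (AddCommGrpCat.of (ULift.{u + 1} (M ⧸ (nsmulAddMonoidHom (α := M) n).range)))).2
    (Γhom _ χ)
  obtain ⟨m, hm⟩ := QuotientAddGroup.mk'_surjective (nsmulAddMonoidHom (α := M) n).range
    mbar.down
  obtain ⟨χ₂, hχ₂⟩ : ∃ χ₂ : EtCoh.const Y ℤ ⟶ EtCoh.const Y M,
      Γhom _ χ₂ = ((etaX Y (AddCommGrpCat.of (ULift.{u + 1} M))).app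
        (op (EtCoh.top Y))).hom ⟨m⟩ := ⟨(Γhom _).symm _, Equiv.apply_symm_apply _ _⟩
  have hcomp : χ₂ ≫ ((Sn.{u} M n).map
      (constantSheaf Y.smallEtaleTopology AddCommGrpCat.{u + 1})).g = χ := by
    apply (Γhom _).injective
    rw [Γhom_comp]
    refine Eq.trans ?_ hmbar
    rw [hχ₂]
    refine (etaX_nat (uliftHom.{u} (QuotientAddGroup.mk' (nsmulAddMonoidHom (α := M) n).range))
      (EtCoh.top Y) ⟨m⟩).trans ?_
    congr 1
    exact ULift.ext _ _ hm
  rw [← hx₃, ← hcomp, ← Ext.mk₀_comp_mk₀_assoc, hS.comp_extClass, Ext.comp_zero]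

end Field

section Main

theorem H1_field_torsionFree (k : Type u) [Field k] (M : Type) [AddCommGroup M]
    [IsAddTorsionFree M]
    (x : EtCoh.H (Spec (CommRingCat.of k)) (EtCoh.const (Spec (CommRingCat.of k)) M) 1) :
    x = 0 := by
  obtain ⟨n, hn, hnx⟩ := isOfFinAddOrder_iff_nsmul_eq_zero.1 (main7743 k _ 1 Nat.one_pos x)
  haveI : Subsingleton ↥(Spec (CommRingCat.of k)) :=
    inferInstanceAs (Subsingleton (PrimeSpectrum k))
  haveI : Nonempty ↥(Spec (CommRingCat.of k)) := inferInstanceAs (Nonempty (PrimeSpectrum k))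
  haveI : PreconnectedSpace ↥(Spec (CommRingCat.of k)) :=
    ⟨(Set.subsingleton_of_subsingleton).isPreconnected⟩
  exact H1_const_torsionFree_of_torsion _ M x n hn.ne' hnx

theorem main3243 (X : Scheme.{u}) (x : X) (M : Type) [AddCommGroup M] [IsAddTorsionFree M] :
    Subsingleton (EtCoh.H X ((Dix.skyPush X x).obj
      (EtCoh.const (Spec (X.residueField x)) M)) 1) := by
  apply subsingleton_H1_push
  exact ⟨fun a b => (H1_field_torsionFree (X.residueField x) M a).trans
    (H1_field_torsionFree (X.residueField x) M b).symm⟩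

end Main

end Groth.Agent.Lib.EtDixSkyH7
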