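import Mathlib
import Groth.Agent.Lib.QF2_helper8
import Groth.Agent.S9332

set_option autoImplicit false
universe u

open CategoryTheory AlgebraicGeometry Limits TopologicalSpace

namespace QFH8

section

variable {X Y S : Scheme.{u}}

/-- transport of closedness in the fibre along a name of the image point -/
theorem isClosed_singleton_fiber_iff (g : Y ⟶ S) (s : S) (y : Y) (h : g y = s) :
    IsClosed ({(g.fiberHomeo s).symm ⟨y, h⟩} : Set (g.fiber s)) ↔
      IsClosed ({g.asFiber y} : Set (g.fiber (g y))) := by
  subst h
  rfl

theorem eq_fiberHomeo_symm (g : Y ⟶ S) (s : S) (w : g.fiber s) :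
    ∃ h : g (g.fiberι s w) = s, w = (g.fiberHomeo s).symm ⟨g.fiberι s w, h⟩ := by
  have h : g (g.fiberι s w) = s := by
    have : g.fiberι s w ∈ Set.range (g.fiberι s) := Set.mem_range_self w
    rw [g.range_fiberι] at this
    exact this
  refine ⟨h, ?_⟩
  apply (g.fiberHomeo s).injective
  rw [Homeomorph.apply_symm_apply]
  apply Subtype.ext
  rfl

/-- finiteness of the first residue field extension from the composite -/
theorem finite_residueFieldMap_of_comp (f : X ⟶ Y) (g : Y ⟶ S) (x : X)
    (h : ((f ≫ g).residueFieldMap x).hom.Finite) : (g.residueFieldMap (f x)).hom.Finite := by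
  rw [Scheme.residueFieldMap_comp] at h
  letI := (g.residueFieldMap (f x)).hom.toAlgebra
  letI := (f.residueFieldMap x).hom.toAlgebra
  letI := ((g.residueFieldMap (f x)) ≫ (f.residueFieldMap x)).hom.toAlgebra
  haveI : IsScalarTower (S.residueField (g (f x))) (Y.residueField (f x)) (X.residueField x) :=
    IsScalarTower.of_algebraMap_eq' rfl
  haveI : Module.Finite (S.residueField (g (f x))) (X.residueField x) := h
  change Module.Finite (S.residueField (g (f x))) (Y.residueField (f x))
  exact Module.Finite.of_injective
    (IsScalarTower.toAlgHom (S.residueField (g (f x))) (Y.residueField (f x))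
      (X.residueField x)).toLinearMap (f.residueFieldMap x).hom.injective

theorem locallyQuasiFinite_of_comp_of_surjective (f : X ⟶ Y) (g : Y ⟶ S) [Surjective f]
    [LocallyQuasiFinite (f ≫ g)] [LocallyOfFiniteType (f ≫ g)] [LocallyOfFiniteType g] :
    LocallyQuasiFinite g := by
  -- all points of all fibres are closed
  have hclosed : ∀ y : Y, IsClosed ({g.asFiber y} : Set (g.fiber (g y))) := by
    intro y
    obtain ⟨x, rfl⟩ := f.surjective y
    rw [Groth.Agent.S9332.result]
    apply finite_residueFieldMap_of_comp
    rw [← Groth.Agent.S9332.result]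
    exact ((f ≫ g).quasiFiniteAt x).isClopen_singleton_asFiber.1
  have hclosed' : ∀ (s : S) (w : g.fiber s), IsClosed ({w} : Set (g.fiber s)) := by
    intro s w
    obtain ⟨h, hw⟩ := eq_fiberHomeo_symm g s w
    rw [hw, isClosed_singleton_fiber_iff]
    exact hclosed _
  have hopen : ∀ (s : S) (w : g.fiber s), IsOpen ({w} : Set (g.fiber s)) := by
    intro s w
    apply isOpen_singleton_fiber_of_closed_of_gen g s w (hclosed' s w)
    intro w' hw'
    have : w ∈ closure ({w'} : Set (g.fiber s)) := specializes_iff_mem_closure.mp hw'
    rw [(hclosed' s w').closure_eq] at this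
    exact this.symm
  rw [locallyQuasiFinite_iff_isDiscrete_preimage_singleton]
  intro s
  haveI : DiscreteTopology (g.fiber s) := discreteTopology_iff_isOpen_singleton.mpr (hopen s)
  rw [isDiscrete_iff_discreteTopology]
  exact (g.fiberHomeo s).symm.isEmbedding.discreteTopology

end

end QFH8
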