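import Mathlib
import Groth.Agent.Lib.QF3_helper8

set_option autoImplicit false
universe u

open CategoryTheory AlgebraicGeometry Limits TopologicalSpace

namespace QFH8

section

variable {X S X' S' : Scheme.{u}}

theorem exists_closedImmersion_of_isClosed (f : X ⟶ S) [LocallyOfFiniteType f] (s : S) (x : X)
    (h : f x = s) (hcl : IsClosed ({(f.fiberHomeo s).symm ⟨x, h⟩} : Set (f.fiber s))) :
    ∃ c : Spec (X.residueField x) ⟶ f.fiber s, IsClosedImmersion c ∧
      Set.range c = {(f.fiberHomeo s).symm ⟨x, h⟩} ∧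
      IsFinite (c ≫ f.fiberToSpecResidueField s) := by
  subst h
  refine ⟨f.asFiberHom x, ?_, f.range_asFiberHom x, ?_⟩
  · exact .of_isPreimmersion _ (by rw [f.range_asFiberHom]; exact hcl)
  · rw [f.asFiberHom_fiberToSpecResidueField, IsFinite.SpecMap_iff]
    exact (Groth.Agent.S9332.result f x).mp hcl

/-- A scheme locally quasi-finite over a one-point scheme is discrete. -/
theorem discreteTopology_of_locallyQuasiFinite {T Z : Scheme.{u}} [Subsingleton Z]
    (h : T ⟶ Z) [LocallyQuasiFinite h] : DiscreteTopology T := by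
  haveI : DiscreteTopology Z := Subsingleton.discreteTopology
  have h1 := h.isDiscrete_preimage (s := Set.univ) (isDiscrete_univ_iff.mpr inferInstance)
  rw [Set.preimage_univ] at h1
  exact isDiscrete_univ_iff.mp h1

theorem isClosed_singleton_asFiber_baseChange (f : X ⟶ S) [LocallyOfFiniteType f] (g : S' ⟶ S)
    (g' : X' ⟶ X) (f' : X' ⟶ S') (hsq : IsPullback g' f' f g) (x' : X')
    (hx : IsClosed ({f.asFiber (g'.base x')} : Set ↑(f.fiber (f.base (g'.base x'))))) :
    IsClosed ({f'.asFiber x'} : Set ↑(f'.fiber (f'.base x'))) := by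
  have hfg : f (g' x') = g (f' x') := by
    have := congrArg (fun q => q.base x') hsq.w
    simpa using this
  rw [← isClosed_singleton_fiber_iff f (g (f' x')) (g' x') hfg] at hx
  obtain ⟨c, hc1, hc2, hc3⟩ := exists_closedImmersion_of_isClosed f _ _ hfg hx
  have sq := isPullback_fiberToSpecResidueField_of_isPullback hsq (f' x')
  obtain ⟨π, hπ⟩ : ∃ π : f'.fiber (f' x') ⟶ f.fiber (g (f' x')),
      π = pullback.map f' (S'.fromSpecResidueField (f' x')) f
      (S.fromSpecResidueField (g (f' x'))) g' (Spec.map (g.residueFieldMap (f' x'))) g hsq.w.symm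
      (by simp) := ⟨_, rfl⟩
  rw [← hπ] at sq
  have hπι : π ≫ f.fiberι (g (f' x')) = f'.fiberι (f' x') ≫ g' := by
    rw [hπ]
    exact pullback.lift_fst _ _ _
  have hπz : π (f'.asFiber x') = (f.fiberHomeo (g (f' x'))).symm ⟨g' x', hfg⟩ := by
    apply (f.fiberHomeo (g (f' x'))).injective
    rw [Homeomorph.apply_symm_apply]
    apply Subtype.ext
    rw [Scheme.Hom.fiberHomeo_apply]
    have := congrArg (fun q => q.base (f'.asFiber x')) hπι
    simp only [Scheme.Hom.comp_base, TopCat.hom_comp, ContinuousMap.comp_apply] at this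
    rw [this]
    congr 1
    exact f'.fiberι_asFiber x'
  -- the base change of `c`
  have sqA := IsPullback.of_hasPullback c π
  have sqAB := sqA.paste_vert sq
  haveI : IsFinite (pullback.snd c π ≫ f'.fiberToSpecResidueField (f' x')) :=
    MorphismProperty.of_isPullback (P := @IsFinite) sqAB hc3
  haveI : Subsingleton ↥(Spec (S'.residueField (f' x'))) :=
    inferInstanceAs (Subsingleton (PrimeSpectrum (S'.residueField (f' x'))))
  haveI : DiscreteTopology ↥(pullback c π) :=
    discreteTopology_of_locallyQuasiFinite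
      (pullback.snd c π ≫ f'.fiberToSpecResidueField (f' x'))
  have hmem : f'.asFiber x' ∈ Set.range (pullback.snd c π) := by
    rw [Scheme.Pullback.range_snd, Set.mem_preimage, hc2, hπz]
    rfl
  obtain ⟨t, ht⟩ := hmem
  have h1 : IsClosed ((pullback.snd c π) '' {t}) :=
    (pullback.snd c π).isClosedEmbedding.isClosedMap _ (isClosed_discrete _)
  rw [Set.image_singleton, ht] at h1
  exact h1

end

end QFH8
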