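import Mathlib
import Groth.Agent.Lib.EtLeray1_helper7
import Groth.Agent.Lib.EtGalQ_helper7
import Groth.Agent.Lib.EtNormalConstH_helper7
import Groth.Agent.Lib.EtDescentSec_helper7
import Groth.Agent.Lib.EtMVses_helper7
import Groth.Agent.Lib.QF5_helper8
import Groth.Agent.Lib.EtNormal2_helper4

/-!
# Étale cohomology of `ℚ` on a Noetherian normal scheme vanishes in positive degrees (helper7)
APPEND-ONLY once landed.
-/

set_option autoImplicit false
set_option backward.isDefEq.respectTransparency false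
set_option backward.isDefEq.respectTransparency.types false
set_option linter.style.haveILetI false
set_option linter.unusedSectionVars false
universe u
open CategoryTheory CategoryTheory.Limits AlgebraicGeometry Opposite Abelian

namespace Groth.Agent.Lib.EtTateLocH7

open Groth.Agent.Lib.EtLeray1H7 Groth.Agent.Lib.EtFlasque_helper7 Groth.Agent.Lib.EtExtFr_helper7
  EtPullExact

section Field

/-- a nonempty connected scheme étale over a field is the spectrum of a field -/
theorem exists_iso_spec_field (K : Type u) [Field K] (P : Scheme.{u})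
    (f : P ⟶ Spec (CommRingCat.of K)) [Etale f] [PreconnectedSpace P] [Nonempty P] :
    ∃ (L : Type u) (_ : Field L), Nonempty (P ≅ Spec (CommRingCat.of L)) := by
  haveI : LocallyQuasiFinite f := Groth.Agent.Lib.EtNormH4.locallyQuasiFinite_of_etale f
  haveI : Subsingleton ↥(Spec (CommRingCat.of K)) :=
    inferInstanceAs (Subsingleton (PrimeSpectrum K))
  haveI : DiscreteTopology P := QFH8.discreteTopology_of_locallyQuasiFinite f
  haveI : Subsingleton P := PreconnectedSpace.trivial_of_discrete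
  obtain ⟨p⟩ := (inferInstance : Nonempty P)
  obtain ⟨R, ι, hι, y, hy⟩ := P.exists_Spec_apply_eq p
  haveI : IsOpenImmersion ι := hι
  haveI : IsIso ι := (isIso_iff_isOpenImmersion_and_surjective ι).2
    ⟨hι, ⟨fun x => ⟨y, Subsingleton.elim _ _⟩⟩⟩
  obtain ⟨ψ, hψ⟩ := Spec.map_surjective (ι ≫ f)
  have hE : Etale (Spec.map ψ) := by
    rw [hψ]
    infer_instance
  have hψE : ψ.hom.Etale := HasRingHomProperty.Spec_iff.1 hE
  letI : Algebra K R := ψ.hom.toAlgebra
  haveI : Algebra.Etale K R := hψE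
  haveI : Nontrivial R := (PrimeSpectrum.nonempty_iff_nontrivial).1 ⟨y⟩
  haveI : IsReduced R := Algebra.FormallyUnramified.isReduced_of_field K R
  haveI : Subsingleton (PrimeSpectrum R) :=
    ⟨fun a b => ι.isOpenEmbedding.injective (Subsingleton.elim _ _)⟩
  have hfield : IsField R := PrimeSpectrum.subsingleton_iff_isField_of_isReduced.1 inferInstance
  exact ⟨R, hfield.toField, ⟨(asIso ι).symm⟩⟩

/-- positive degree cohomology of a uniquely divisible sheaf on a connected scheme étale over a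
field vanishes -/
theorem subsingleton_H_etale_field (K : Type u) [Field K] (P : Scheme.{u})
    (f : P ⟶ Spec (CommRingCat.of K)) [Etale f] [PreconnectedSpace P]
    (G : EtCoh.Ab P) (hG : ∀ n : ℕ, 0 < n → IsIso (n • 𝟙 G)) (i : ℕ) (hi : 0 < i) :
    Subsingleton (EtCoh.H P G i) := by
  by_cases hne : Nonempty P
  · obtain ⟨L, hL, ⟨e⟩⟩ := exists_iso_spec_field K P f
    letI := hL
    obtain ⟨ι, r, hir⟩ := Groth.Agent.Lib.EtDescentSec_helper7.exists_retract_et e.inv e.hom
      e.hom_inv_id G ((EtCoh.pull e.inv).obj G) (Iso.refl _) i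
    have hdiv : ∀ n : ℕ, 0 < n → IsIso (n • 𝟙 ((EtCoh.pull e.inv).obj G)) :=
      fun n hn => isIso_nsmul_map (EtCoh.pull e.inv) n (hG n hn)
    have key : ∀ x : EtCoh.H P G i, r.hom (ι.hom x) = x := fun x => by
      have := ConcreteCategory.congr_hom hir x
      simpa using this
    have hz : ∀ x : EtCoh.H P G i, x = 0 := fun x => by
      have h1 : ι.hom x = 0 :=
        Groth.Agent.Lib.EtGalQH7.H_eq_zero_of_divisible L _ hdiv i hi _
      rw [← key x, h1, map_zero]
    exact ⟨fun a b => (hz a).trans (hz b).symm⟩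
  · haveI : IsEmpty P := not_nonempty_iff.1 hne
    exact subsingleton_H_of_isEmpty P G i

end Field

section Integral

variable {X : Scheme.{u}} [IsIntegral X]

/-- higher direct images of uniquely divisible sheaves from the generic point of a normal integral
scheme vanish -/
theorem isZero_Rpush_generic (hX : Pi1.IsNormalScheme X) (K : Type u) [Field K]
    (g : Spec (CommRingCat.of K) ⟶ X) [IsPreimmersion g] (hη : genericPoint X ∈ Set.range g)
    (G : EtCoh.Ab (Spec (CommRingCat.of K))) (hG : ∀ n : ℕ, 0 < n → IsIso (n • 𝟙 G)) (q : ℕ) :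
    IsZero ((EtCoh.Rpush g (q + 1)).obj G) := by
  apply isZero_Rpush_of_local
  intro V v
  obtain ⟨W, k, hv, hpre⟩ := Groth.Agent.Lib.EtNormalConstH7.H2 hX g hη V v
  refine ⟨W, k, hv, ?_⟩
  haveI : PreconnectedSpace ↥((𝟭 Scheme.{u}).obj ((EtCoh.bc g).obj W).left) := hpre
  have hsub : Subsingleton (Ext (fr ((EtCoh.bc g).obj W)) G (q + 1)) := by
    rw [subsingleton_ext_iff ((EtCoh.bc g).obj W) G (q + 1)]
    haveI : Etale ((EtCoh.bc g).obj W).hom := ((EtCoh.bc g).obj W).prop
    exact subsingleton_H_etale_field K _ ((EtCoh.bc g).obj W).hom _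
      (fun n hn => isIso_nsmul_map (EtCoh.pull ((EtCoh.bc g).obj W).hom) n (hG n hn))
      (q + 1) (Nat.succ_pos q)
  intro x
  exact @Subsingleton.elim _ hsub x 0

theorem isIso_nsmul_const_rat (Y : Scheme.{u}) (n : ℕ) (hn : 0 < n) :
    IsIso (n • 𝟙 (EtCoh.const Y ℚ)) := by
  refine Groth.Agent.Lib.EtGalQH7.isIso_nsmul_const Y ℚ n
    ⟨fun a b hab => ?_, fun b => ⟨b / n, ?_⟩⟩
  · have h2 : (n : ℚ) * a = (n : ℚ) * b := by
      simpa [nsmul_eq_mul] using hab
    exact mul_left_cancel₀ (Nat.cast_ne_zero.mpr hn.ne') h2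
  · show n • (b / (n : ℚ)) = b
    rw [nsmul_eq_mul]
    field_simp

/-- the integral case -/
theorem good_of_integral (hX : Pi1.IsNormalScheme X) (i : ℕ) (hi : 0 < i) :
    Subsingleton (EtCoh.H X (EtCoh.const X ℚ) i) := by
  obtain ⟨p, rfl⟩ := Nat.exists_eq_succ_of_ne_zero hi.ne'
  obtain ⟨g, hg⟩ : ∃ g : Spec (CommRingCat.of ↑X.functionField) ⟶ X,
      g = X.fromSpecStalk (genericPoint X) := ⟨_, rfl⟩
  haveI : IsPreimmersion g := by rw [hg]; infer_instance
  have hη0 : genericPoint X ∈ Set.range (X.fromSpecStalk (genericPoint X)) := by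
    rw [Scheme.range_fromSpecStalk]
    exact specializes_rfl
  have hη : genericPoint X ∈ Set.range g := by
    rw [hg]
    exact hη0
  haveI := Groth.Agent.Lib.EtConstSecH7.isIso_phi g (AddCommGrpCat.of (ULift.{u + 1} ℚ))
    (Groth.Agent.Lib.EtNormalConstH7.H1 g hη) (Groth.Agent.Lib.EtNormalConstH7.H2 hX g hη)
  refine Groth.Agent.Lib.EtNormalConstHH7.subsingleton_H_of_iso
    (asIso (Groth.Agent.Lib.EtConstSecH7.phi g (AddCommGrpCat.of (ULift.{u + 1} ℚ)))) (p + 1) ?_
  have hdiv : ∀ n : ℕ, 0 < n →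
      IsIso (n • 𝟙 (EtCoh.const (Spec (CommRingCat.of ↑X.functionField)) ℚ)) :=
    fun n hn => isIso_nsmul_const_rat _ n hn
  refine subsingleton_H_push g (EtCoh.const (Spec (CommRingCat.of ↑X.functionField)) ℚ)
    (fun q => isZero_Rpush_generic hX _ g hη _ hdiv q) p ?_
  exact ⟨fun a b => (Groth.Agent.Lib.EtGalQH7.H_rat_eq_zero _ (p + 1) (Nat.succ_pos p) a).trans
    (Groth.Agent.Lib.EtGalQH7.H_rat_eq_zero _ (p + 1) (Nat.succ_pos p) b).symm⟩

end Integral

section Disjoint

open Groth.Agent.Lib.EtMVses_helper7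

theorem good_of_iso {Y Y' : Scheme.{u}} (e : Y ≅ Y') (M : Type) [AddCommGroup M] (i : ℕ)
    (h : Subsingleton (EtCoh.H Y (EtCoh.const Y M) i)) :
    Subsingleton (EtCoh.H Y' (EtCoh.const Y' M) i) := by
  obtain ⟨ι, r, hir⟩ := Groth.Agent.Lib.EtDescentSec_helper7.exists_retract_et e.hom e.inv
    e.inv_hom_id (EtCoh.const Y' M) (EtCoh.const Y M) (EtCore.pullConst e.hom M) i
  have key : ∀ x : EtCoh.H Y' (EtCoh.const Y' M) i, r.hom (ι.hom x) = x := fun x => by
    have := ConcreteCategory.congr_hom hir x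
    simpa using this
  exact ⟨fun a b => (key a).symm.trans
    ((congrArg r.hom (@Subsingleton.elim _ h (ι.hom a) (ι.hom b))).trans (key b))⟩

theorem good_of_cover2 {X : Scheme.{u}} (U V : X.Opens) (hUV : U ⊔ V = ⊤) (hd : U ⊓ V = ⊥)
    (M : Type) [AddCommGroup M] (n : ℕ)
    (hU : Subsingleton (EtCoh.H U (EtCoh.const U M) (n + 1)))
    (hV : Subsingleton (EtCoh.H V (EtCoh.const V M) (n + 1))) :
    Subsingleton (EtCoh.H X (EtCoh.const X M) (n + 1)) := by
  haveI : PreservesFiniteLimits (EtCoh.pull U.ι) := pull_pfl_ab _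
  haveI : PreservesFiniteLimits (EtCoh.pull V.ι) := pull_pfl_ab _
  haveI : PreservesFiniteLimits (EtCoh.pull (X.homOfLE (inf_le_left : U ⊓ V ≤ U))) :=
    pull_pfl_ab _
  haveI : PreservesFiniteLimits (EtCoh.pull (X.homOfLE (inf_le_right : U ⊓ V ≤ V))) :=
    pull_pfl_ab _
  obtain ⟨δ, -, h1, -, -⟩ := mayer_vietoris U V hUV (EtCoh.const X M)
  haveI : IsEmpty ↥((U ⊓ V : X.Opens) : Scheme.{u}) := ⟨fun z => by
    have hz : (U ⊓ V).ι z ∈ (U ⊓ V : X.Opens) := by
      have := Set.mem_range_self (f := (U ⊓ V).ι) z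
      rw [Scheme.Opens.range_ι] at this
      exact this
    have hbot : ∀ y : X, y ∈ (U ⊓ V : X.Opens) → False := fun y hy => by
      rw [hd] at hy
      exact absurd hy (by simp)
    exact hbot _ hz⟩
  have hU' : Subsingleton (EtCoh.H U ((EtCoh.pull U.ι).obj (EtCoh.const X M)) (n + 1)) :=
    Groth.Agent.Lib.EtNormalConstHH7.subsingleton_H_of_iso (EtCore.pullConst U.ι M) (n + 1) hU
  have hV' : Subsingleton (EtCoh.H V ((EtCoh.pull V.ι).obj (EtCoh.const X M)) (n + 1)) :=
    Groth.Agent.Lib.EtNormalConstHH7.subsingleton_H_of_iso (EtCore.pullConst V.ι M) (n + 1) hV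
  have hzero : ∀ x : EtCoh.H X (EtCoh.const X M) (n + 1), x = 0 := by
    intro x
    have hx : x ∈ (AddMonoidHom.prod (EtCore.Hpull U.ι (EtCoh.const X M) (n + 1))
        (EtCore.Hpull V.ι (EtCoh.const X M) (n + 1))).ker := by
      rw [AddMonoidHom.mem_ker]
      exact Prod.ext (@Subsingleton.elim _ hU' _ _) (@Subsingleton.elim _ hV' _ _)
    rw [h1 n] at hx
    obtain ⟨y, rfl⟩ := hx
    have hy : y = 0 := @Subsingleton.elim _ (subsingleton_H_of_isEmpty _ _ n) _ _
    rw [hy, map_zero]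
  exact ⟨fun a b => (hzero a).trans (hzero b).symm⟩

theorem good_of_fin_cover (M : Type) [AddCommGroup M] (p : ℕ) :
    ∀ (n : ℕ) (X : Scheme.{u}) (O : Fin n → X.Opens),
      (∀ k l, k ≠ l → O k ⊓ O l = ⊥) → (⨆ k, O k) = ⊤ →
      (∀ k, Subsingleton (EtCoh.H (O k) (EtCoh.const (O k) M) (p + 1))) →
      Subsingleton (EtCoh.H X (EtCoh.const X M) (p + 1)) := by
  intro n
  induction n with
  | zero =>
    intro X O _ hcov _
    haveI : IsEmpty X := ⟨fun x => by
      have hx : x ∈ (⊤ : X.Opens) := trivial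
      rw [← hcov, TopologicalSpace.Opens.mem_iSup] at hx
      obtain ⟨k, -⟩ := hx
      exact k.elim0⟩
    exact subsingleton_H_of_isEmpty X _ _
  | succ n ih =>
    intro X O hd hcov hgood
    obtain ⟨V, hVdef⟩ : ∃ V : X.Opens, V = ⨆ k : Fin n, O k.succ := ⟨_, rfl⟩
    have hle : ∀ k : Fin n, O k.succ ≤ V := fun k => by
      rw [hVdef]
      exact le_iSup (fun k : Fin n => O k.succ) k
    have hmemV : ∀ y : X, y ∈ V → ∃ k : Fin n, y ∈ O k.succ := fun y hy => by
      rw [hVdef, TopologicalSpace.Opens.mem_iSup] at hy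
      exact hy
    have hUV : O 0 ⊔ V = ⊤ := by
      refine eq_top_iff.2 ?_
      rw [← hcov]
      refine iSup_le (fun k => ?_)
      exact Fin.cases (motive := fun k => O k ≤ O 0 ⊔ V) le_sup_left
        (fun j => le_sup_of_le_right (hle j)) k
    have hdUV : O 0 ⊓ V = ⊥ := by
      refine eq_bot_iff.2 (fun x hx => ?_)
      obtain ⟨k, hk⟩ := hmemV x hx.2
      have h2 : x ∈ O 0 ⊓ O k.succ := ⟨hx.1, hk⟩
      rw [hd 0 k.succ (Fin.succ_ne_zero k).symm] at h2
      exact h2
    have hV : Subsingleton (EtCoh.H V (EtCoh.const V M) (p + 1)) := by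
      refine ih (V : Scheme.{u}) (fun k => V.ι ⁻¹ᵁ O k.succ) ?_ ?_ ?_
      · intro k l hkl
        refine eq_bot_iff.2 (fun x hx => ?_)
        have h2 : V.ι x ∈ O k.succ ⊓ O l.succ := ⟨hx.1, hx.2⟩
        rw [hd k.succ l.succ (fun h => hkl (Fin.succ_injective n h))] at h2
        exact absurd h2 (by simp)
      · refine eq_top_iff.2 (fun x _ => ?_)
        have hxV : V.ι x ∈ V := by
          have := Set.mem_range_self (f := V.ι) x
          rw [Scheme.Opens.range_ι] at this
          exact this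
        obtain ⟨k, hk⟩ := hmemV _ hxV
        rw [TopologicalSpace.Opens.mem_iSup]
        exact ⟨k, hk⟩
      · intro k
        exact good_of_iso (Scheme.Opens.isoOfLE (hle k)).symm M (p + 1) (hgood k.succ)
    exact good_of_cover2 (O 0) V hUV hdUV M p (hgood 0) hV

end Disjoint

section Decomp

variable (X : Scheme.{u})

theorem eq_closure_of_mem_irreducibleComponents
    (hdom : ∀ x : X, IsDomain (X.presheaf.stalk x)) (x : X) :
    ∃ ξ : X, ∀ Z ∈ irreducibleComponents X, x ∈ Z → Z = closure {ξ} := by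
  haveI := hdom x
  let ξ₀ : PrimeSpectrum (X.presheaf.stalk x) := ⟨⊥, Ideal.isPrime_bot⟩
  refine ⟨X.fromSpecStalk x ξ₀, fun Z hZ hxZ => ?_⟩
  have hcl : IsClosed Z := isClosed_of_mem_irreducibleComponents Z hZ
  obtain ⟨η, hη⟩ := QuasiSober.sober hZ.1 hcl
  have hηx : η ⤳ x := hη.specializes hxZ
  have hηr : η ∈ Set.range (X.fromSpecStalk x) := by
    rw [Scheme.range_fromSpecStalk]
    exact hηx
  obtain ⟨p, rfl⟩ := hηr
  have h1 : ξ₀ ⤳ (p : PrimeSpectrum (X.presheaf.stalk x)) :=
    (PrimeSpectrum.le_iff_specializes _ _).mp (show (⊥ : Ideal _) ≤ _ from bot_le)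
  have h2 : X.fromSpecStalk x ξ₀ ⤳ X.fromSpecStalk x p :=
    h1.map (X.fromSpecStalk x).continuous
  have hsub : Z ⊆ closure {X.fromSpecStalk x ξ₀} := by
    rw [← hη.def]
    exact closure_minimal (Set.singleton_subset_iff.2 (specializes_iff_mem_closure.1 h2))
      isClosed_closure
  exact subset_antisymm hsub (hZ.2 isIrreducible_singleton.closure hsub)

theorem exists_fin_decomp [IsLocallyNoetherian X] [CompactSpace X]
    (hN : Pi1.IsNormalScheme X) :
    ∃ (n : ℕ) (O : Fin n → X.Opens), (∀ k l, k ≠ l → O k ⊓ O l = ⊥) ∧ (⨆ k, O k) = ⊤ ∧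
      ∀ k, IsIntegral (O k : Scheme.{u}) := by
  haveI : IsNoetherian X := {}
  have hfin : (irreducibleComponents X).Finite :=
    TopologicalSpace.NoetherianSpace.finite_irreducibleComponents
  have hdom : ∀ x : X, IsDomain (X.presheaf.stalk x) := fun x => (hN x).1
  have huniq : ∀ Z ∈ irreducibleComponents X, ∀ Z' ∈ irreducibleComponents X,
      ∀ x, x ∈ Z → x ∈ Z' → Z = Z' := by
    intro Z hZ Z' hZ' x hx hx'
    obtain ⟨ξ, hξ⟩ := eq_closure_of_mem_irreducibleComponents X hdom x
    rw [hξ Z hZ hx, hξ Z' hZ' hx']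
  have hopen : ∀ Z ∈ irreducibleComponents X, IsOpen Z := by
    intro Z hZ
    have heq : Z = (⋃ Z' ∈ irreducibleComponents X \ {Z}, Z')ᶜ := by
      ext z
      simp only [Set.mem_compl_iff, Set.mem_iUnion, not_exists]
      constructor
      · intro hz Z' hZ' hz'
        exact hZ'.2 (huniq Z' hZ'.1 Z hZ z hz' hz)
      · intro hz
        by_contra hzZ
        refine hz (irreducibleComponent z)
          ⟨irreducibleComponent_mem_irreducibleComponents z, ?_⟩ mem_irreducibleComponent
        intro h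
        have h' : irreducibleComponent z = Z := h
        exact hzZ (h' ▸ mem_irreducibleComponent)
    rw [heq]
    exact ((hfin.subset Set.sdiff_subset).isClosed_biUnion
      (fun Z' hZ' => isClosed_of_mem_irreducibleComponents Z' hZ'.1)).isOpen_compl
  haveI : Finite ↥(irreducibleComponents X) := hfin.to_subtype
  obtain ⟨n, ⟨e⟩⟩ := Finite.exists_equiv_fin ↥(irreducibleComponents X)
  haveI : IsReduced X := by
    haveI : ∀ x : X, _root_.IsReduced (X.presheaf.stalk x) := fun x => by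
      haveI := hdom x
      infer_instance
    exact isReduced_of_isReduced_stalk X
  have hint : ∀ U : X.Opens, IsIrreducible (U : Set X) → IsIntegral (U : Scheme.{u}) := by
    intro U hirr
    haveI : IsReduced (U : Scheme.{u}) := isReduced_of_isOpenImmersion U.ι
    haveI : IrreducibleSpace ↥(U : Scheme.{u}) := Subtype.irreducibleSpace hirr
    exact isIntegral_of_irreducibleSpace_of_isReduced _
  refine ⟨n, fun k => ⟨(e.symm k).1, hopen _ (e.symm k).2⟩, ?_, ?_, ?_⟩
  · intro k l hkl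
    refine eq_bot_iff.2 (fun x hx => ?_)
    exfalso
    apply hkl
    have h1 := huniq _ (e.symm k).2 _ (e.symm l).2 x hx.1 hx.2
    exact e.symm.injective (Subtype.ext h1)
  · refine eq_top_iff.2 (fun x _ => ?_)
    rw [TopologicalSpace.Opens.mem_iSup]
    refine ⟨e ⟨irreducibleComponent x, irreducibleComponent_mem_irreducibleComponents x⟩, ?_⟩
    show x ∈ (e.symm (e ⟨irreducibleComponent x, _⟩)).1
    rw [Equiv.symm_apply_apply]
    exact mem_irreducibleComponent
  · intro k
    exact hint _ (e.symm k).2.1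

end Decomp

theorem main13956 (X : Scheme.{u}) [IsLocallyNoetherian X] [CompactSpace X]
    (hN : ∀ x : X, IsDomain (X.presheaf.stalk x) ∧ IsIntegrallyClosed (X.presheaf.stalk x))
    (i : ℕ) (hi : 0 < i) : Subsingleton (EtCoh.H X (EtCoh.const X ℚ) i) := by
  obtain ⟨p, rfl⟩ := Nat.exists_eq_succ_of_ne_zero hi.ne'
  obtain ⟨n, O, hd, hcov, hint⟩ := exists_fin_decomp X hN
  refine good_of_fin_cover ℚ p n X O hd hcov (fun k => ?_)
  haveI := hint k
  exact good_of_integral (Groth.Agent.Lib.EtNormal2H4.isNormalScheme_of_etale (O k).ι hN) (p + 1)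
    (Nat.succ_pos p)

end Groth.Agent.Lib.EtTateLocH7
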