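import Mathlib
import Groth.Prelude.Def_Dix
import Groth.Agent.Lib.EtLeray1_helper7
import Groth.Agent.Lib.EtTateLoc_helper7

/-!
# Torsion of `R^q i_{x*} F` and of `H^q(X, i_{x*} F)` for a point `x` of a qcqs scheme (helper7)
APPEND-ONLY once landed.
-/

set_option autoImplicit false
set_option backward.isDefEq.respectTransparency false
set_option backward.isDefEq.respectTransparency.types false
set_option linter.style.haveILetI false
set_option linter.unusedSectionVars false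
universe w w' u
open CategoryTheory CategoryTheory.Limits AlgebraicGeometry Opposite Abelian

namespace Groth.Agent.Lib.EtDixTorsH7

open Groth.Agent.Lib.EtLeray1H7 Groth.Agent.Lib.EtFlasque_helper7 Groth.Agent.Lib.EtExtFr_helper7
  Groth.Agent.Lib.EtTraceH7 Groth.Agent.Lib.EtTateLocH7 EtPullExact

section Abstract

variable {A B : Type*} [Category A] [Abelian A] [Category B] [Abelian B]
  [HasInjectiveResolutions A] [HasInjectiveResolutions B] [EnoughInjectives B]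

/-- the comparison `coker(Φ a → Φ I) → Φ(coker(a → I))` -/
noncomputable def mQ (Φ : A ⥤ B) [Φ.Additive] {a : A} (I : InjectivePresentation a) :
    cokernel (Φ.map I.f) ⟶ Φ.obj (cokernel I.f) :=
  cokernel.desc (Φ.map I.f) (Φ.map (cokernel.π I.f)) (by
    rw [← Φ.map_comp, cokernel.condition, Φ.map_zero])

theorem π_mQ (Φ : A ⥤ B) [Φ.Additive] {a : A} (I : InjectivePresentation a) :
    cokernel.π (Φ.map I.f) ≫ mQ Φ I = Φ.map (cokernel.π I.f) :=
  cokernel.π_desc _ _ _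

theorem mono_map_f (Φ : A ⥤ B) [Φ.Additive] [PreservesFiniteLimits Φ] {a : A}
    (I : InjectivePresentation a) : Mono (Φ.map I.f) := by
  haveI : Mono I.f := I.mono
  infer_instance

theorem mono_mQ (Φ : A ⥤ B) [Φ.Additive] [PreservesFiniteLimits Φ] {a : A}
    (I : InjectivePresentation a) : Mono (mQ Φ I) := by
  haveI : Mono I.f := I.mono
  let S : ShortComplex A := ShortComplex.mk I.f (cokernel.π I.f) (cokernel.condition I.f)
  have hS : S.ShortExact := { exact := ShortComplex.exact_cokernel I.f }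
  obtain ⟨hT, -⟩ :=
    (Functor.preservesFiniteLimits_iff_forall_exact_map_and_mono Φ).1 inferInstance S hS
  exact hT.mono_cokernelDesc

theorem map_π_comp_coker (Φ : A ⥤ B) [Φ.Additive] {a : A} (I : InjectivePresentation a) :
    Φ.map (cokernel.π I.f) ≫ cokernel.π (mQ Φ I) = 0 := by
  rw [← π_mQ, Category.assoc, cokernel.condition, comp_zero]

/-- torsion version of `ext_one_eq_zero_of_adj` -/
theorem ext_one_torsion_of_adj {L : B ⥤ A} {Φ : A ⥤ B} (adj : L ⊣ Φ) [L.Additive]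
    [Φ.Additive] [PreservesFiniteLimits Φ] [Φ.PreservesInjectiveObjects] [HasExt.{w} A]
    [HasExt.{w'} B] [EnoughInjectives A] (K : B) (a : A)
    (h : ∀ x : Ext.{w} (L.obj K) a 1, ∃ n : ℕ, 0 < n ∧ n • x = 0)
    (y : Ext.{w'} K (Φ.obj a) 1) : ∃ n : ℕ, 0 < n ∧ n • y = 0 := by
  obtain ⟨I⟩ : Nonempty (InjectivePresentation a) := EnoughInjectives.presentation a
  haveI : Injective I.J := I.injective
  haveI : Mono I.f := I.mono
  haveI : Mono (Φ.map I.f) := mono_map_f Φ I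
  haveI : Mono (mQ Φ I) := mono_mQ Φ I
  let S : ShortComplex A := ShortComplex.mk I.f (cokernel.π I.f) (cokernel.condition I.f)
  have hS : S.ShortExact := { exact := ShortComplex.exact_cokernel I.f }
  let S2 : ShortComplex B := ShortComplex.mk (Φ.map I.f) (cokernel.π (Φ.map I.f))
    (cokernel.condition (Φ.map I.f))
  have hS2 : S2.ShortExact := { exact := ShortComplex.exact_cokernel (Φ.map I.f) }
  haveI : Injective S2.X₂ := Φ.injective_obj I.J
  obtain ⟨x₃, hx₃⟩ : ∃ x₃ : Ext.{w'} K S2.X₃ 0, x₃.comp hS2.extClass (zero_add 1) = y :=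
    Ext.covariant_sequence_exact₁ _ hS2 y (Ext.eq_zero_of_injective _) (zero_add 1)
  obtain ⟨χ, rfl⟩ := (Ext.mk₀_bijective _ _).2 x₃
  obtain ⟨ψ, hψdef⟩ : ∃ ψ : L.obj K ⟶ cokernel I.f,
      ψ = (adj.homEquiv K (cokernel I.f)).symm (χ ≫ mQ Φ I) := ⟨_, rfl⟩
  obtain ⟨n, hn, hnx⟩ := h ((Ext.mk₀ ψ).comp hS.extClass (zero_add 1))
  have h0 : (Ext.mk₀ (n • ψ)).comp hS.extClass (zero_add 1) = 0 := by
    rw [mk₀_nsmul, nsmul_comp]
    exact hnx
  obtain ⟨x₂, hx₂⟩ : ∃ x₂ : Ext.{w} (L.obj K) S.X₂ 0,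
      x₂.comp (Ext.mk₀ S.g) (add_zero 0) = Ext.mk₀ (n • ψ) :=
    Ext.covariant_sequence_exact₃ _ hS (Ext.mk₀ (n • ψ)) (zero_add 1) h0
  obtain ⟨ψ₂, rfl⟩ := (Ext.mk₀_bijective _ _).2 x₂
  rw [Ext.mk₀_comp_mk₀] at hx₂
  have hψ : ψ₂ ≫ cokernel.π I.f = n • ψ := (Ext.mk₀_bijective _ _).1 hx₂
  obtain ⟨χ₂, hχ₂⟩ : ∃ χ₂ : K ⟶ Φ.obj I.J, χ₂ = adj.homEquiv K I.J ψ₂ := ⟨_, rfl⟩
  have h1 : χ₂ ≫ Φ.map (cokernel.π I.f) = n • (χ ≫ mQ Φ I) := by
    rw [hχ₂, ← Adjunction.homEquiv_naturality_right, hψ]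
    have h2 : adj.homEquiv K (cokernel I.f) (n • ψ) = n • adj.homEquiv K (cokernel I.f) ψ :=
      map_nsmul (adj.homAddEquiv K (cokernel I.f)) n ψ
    rw [h2, hψdef]
    exact congrArg (fun t => n • t) (Equiv.apply_symm_apply _ _)
  have h2 : (χ₂ ≫ cokernel.π (Φ.map I.f)) ≫ mQ Φ I = (n • χ) ≫ mQ Φ I := by
    rw [Category.assoc, π_mQ, h1, Preadditive.nsmul_comp]
  have h3 : χ₂ ≫ cokernel.π (Φ.map I.f) = n • χ := (cancel_mono (mQ Φ I)).1 h2
  have h4 : (Ext.mk₀ (cokernel.π (Φ.map I.f))).comp hS2.extClass (zero_add 1) = 0 :=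
    hS2.comp_extClass
  refine ⟨n, hn, ?_⟩
  have h5 : (Ext.mk₀ (n • χ)).comp hS2.extClass (zero_add 1) = 0 := by
    rw [← h3, ← Ext.mk₀_comp_mk₀_assoc, h4, Ext.comp_zero]
  rw [← hx₃, ← nsmul_comp, ← mk₀_nsmul]
  exact h5

/-- torsion dimension shifting -/
theorem ext_succ_torsion_of_adj {Φ : A ⥤ B} [Φ.Additive]
    [PreservesFiniteLimits Φ] [Φ.PreservesInjectiveObjects] [HasExt.{w'} B]
    (K : B) {a : A} (I : InjectivePresentation a) (p : ℕ)
    (h1 : ∀ z : Ext.{w'} K (Φ.obj (cokernel I.f)) (p + 1), ∃ n : ℕ, 0 < n ∧ n • z = 0)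
    (h2 : ∀ c : Ext.{w'} K (cokernel (mQ Φ I)) p, ∃ n : ℕ, 0 < n ∧ n • c = 0)
    (y : Ext.{w'} K (Φ.obj a) (p + 1 + 1)) : ∃ n : ℕ, 0 < n ∧ n • y = 0 := by
  haveI : Injective I.J := I.injective
  haveI : Mono (Φ.map I.f) := mono_map_f Φ I
  haveI : Mono (mQ Φ I) := mono_mQ Φ I
  let S2 : ShortComplex B := ShortComplex.mk (Φ.map I.f) (cokernel.π (Φ.map I.f))
    (cokernel.condition (Φ.map I.f))
  have hS2 : S2.ShortExact := { exact := ShortComplex.exact_cokernel (Φ.map I.f) }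
  let S3 : ShortComplex B := ShortComplex.mk (mQ Φ I) (cokernel.π (mQ Φ I))
    (cokernel.condition (mQ Φ I))
  have hS3 : S3.ShortExact := { exact := ShortComplex.exact_cokernel (mQ Φ I) }
  haveI : Injective S2.X₂ := Φ.injective_obj I.J
  obtain ⟨x₃, hx₃⟩ : ∃ x₃ : Ext.{w'} K S2.X₃ (p + 1), x₃.comp hS2.extClass rfl = y :=
    Ext.covariant_sequence_exact₁ _ hS2 y (Ext.eq_zero_of_injective _) rfl
  obtain ⟨n₁, hn₁, e₁⟩ := h1 (x₃.comp (Ext.mk₀ (mQ Φ I)) (add_zero (p + 1)))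
  have e₁' : (n₁ • x₃).comp (Ext.mk₀ S3.f) (add_zero (p + 1)) = 0 := by
    rw [nsmul_comp]
    exact e₁
  obtain ⟨c, hc⟩ : ∃ c : Ext.{w'} K S3.X₃ p, c.comp hS3.extClass rfl = n₁ • x₃ :=
    Ext.covariant_sequence_exact₁ _ hS3 (n₁ • x₃) e₁' rfl
  obtain ⟨n₂, hn₂, e₂⟩ := h2 c
  refine ⟨n₂ * n₁, Nat.mul_pos hn₂ hn₁, ?_⟩
  have e3 : (n₂ * n₁) • x₃ = 0 := by
    rw [mul_nsmul', ← hc, ← nsmul_comp, e₂, Ext.zero_comp]
  rw [← hx₃, ← nsmul_comp, e3, Ext.zero_comp]

end Abstract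

section MV

open Groth.Agent.Lib.EtMVses_helper7

theorem mv_eq_zero {X : Scheme.{u}} (U V : X.Opens) (hUV : U ⊔ V = ⊤) (hd : U ⊓ V = ⊥)
    (F : EtCoh.Ab X) (n : ℕ) (x : EtCoh.H X F (n + 1))
    (hU : EtCore.Hpull U.ι F (n + 1) x = 0) (hV : EtCore.Hpull V.ι F (n + 1) x = 0) :
    x = 0 := by
  obtain ⟨δ, -, h1, -, -⟩ := mayer_vietoris U V hUV F
  haveI : IsEmpty ↥((U ⊓ V : X.Opens) : Scheme.{u}) := ⟨fun z => by
    have hz : (U ⊓ V).ι z ∈ (U ⊓ V : X.Opens) := by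
      have := Set.mem_range_self (f := (U ⊓ V).ι) z
      rw [Scheme.Opens.range_ι] at this
      exact this
    have hbot : ∀ y : X, y ∈ (U ⊓ V : X.Opens) → False := fun y hy => by
      rw [hd] at hy
      exact absurd hy (by simp)
    exact hbot _ hz⟩
  have hx : x ∈ (AddMonoidHom.prod (EtCore.Hpull U.ι F (n + 1))
      (EtCore.Hpull V.ι F (n + 1))).ker := by
    rw [AddMonoidHom.mem_ker]
    exact Prod.ext hU hV
  rw [h1 n] at hx
  obtain ⟨y, rfl⟩ := hx
  have hy : y = 0 := @Subsingleton.elim _ (subsingleton_H_of_isEmpty _ _ n) _ _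
  rw [hy, map_zero]

end MV

section FieldTors

variable (K : Type u) [Field K]

theorem torsion_H_connected (P : Scheme.{u}) (f : P ⟶ Spec (CommRingCat.of K)) [Etale f]
    [PreconnectedSpace P] [Nonempty P] (G : EtCoh.Ab P) (i : ℕ) (hi : 0 < i)
    (x : EtCoh.H P G i) : ∃ n : ℕ, 0 < n ∧ n • x = 0 := by
  obtain ⟨L, hL, ⟨e⟩⟩ := exists_iso_spec_field K P f
  letI := hL
  obtain ⟨ι, r, hir⟩ := Groth.Agent.Lib.EtDescentSec_helper7.exists_retract_et e.inv e.hom
    e.hom_inv_id G ((EtCoh.pull e.inv).obj G) (Iso.refl _) i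
  have key : ∀ x : EtCoh.H P G i, r.hom (ι.hom x) = x := fun x => by
    have := ConcreteCategory.congr_hom hir x
    simpa using this
  obtain ⟨n, hn, hnx⟩ := isOfFinAddOrder_iff_nsmul_eq_zero.1 (main7743 L _ i hi (ι.hom x))
  refine ⟨n, hn, ?_⟩
  calc n • x = n • r.hom (ι.hom x) := by rw [key]
    _ = r.hom (n • ι.hom x) := (map_nsmul r.hom n _).symm
    _ = 0 := by rw [hnx, map_zero]

theorem torsion_H_finite : ∀ (N : ℕ) (P : Scheme.{u}) (f : P ⟶ Spec (CommRingCat.of K))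
    [Etale f] [Finite P], Nat.card P ≤ N → ∀ (G : EtCoh.Ab P) (q : ℕ)
    (x : EtCoh.H P G (q + 1)), ∃ n : ℕ, 0 < n ∧ n • x = 0 := by
  intro N
  induction N with
  | zero =>
    intro P f _ _ hcard G q x
    haveI : IsEmpty P := by
      rcases Nat.card_eq_zero.1 (Nat.le_zero.1 hcard) with h | h
      · exact h
      · exact absurd ‹Finite P› (not_finite_iff_infinite.2 h)
    exact ⟨1, Nat.one_pos, @Subsingleton.elim _ (subsingleton_H_of_isEmpty P G (q + 1)) _ _⟩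
  | succ N ih =>
    intro P f _ _ hcard G q x
    by_cases hne : Nonempty P
    · obtain ⟨p⟩ := hne
      haveI : LocallyQuasiFinite f := Groth.Agent.Lib.EtNormH4.locallyQuasiFinite_of_etale f
      haveI : Subsingleton ↥(Spec (CommRingCat.of K)) :=
        inferInstanceAs (Subsingleton (PrimeSpectrum K))
      haveI : DiscreteTopology P := QFH8.discreteTopology_of_locallyQuasiFinite f
      obtain ⟨U, hU⟩ : ∃ U : P.Opens, (U : Set P) = {p} := ⟨⟨{p}, isOpen_discrete _⟩, rfl⟩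
      obtain ⟨V, hV⟩ : ∃ V : P.Opens, (V : Set P) = {p}ᶜ := ⟨⟨{p}ᶜ, isOpen_discrete _⟩, rfl⟩
      have hUV : U ⊔ V = ⊤ := by
        refine eq_top_iff.2 (fun y _ => ?_)
        by_cases hy : y = p
        · left
          show y ∈ (U : Set P)
          rw [hU]
          exact hy
        · right
          show y ∈ (V : Set P)
          rw [hV]
          exact hy
      have hdUV : U ⊓ V = ⊥ := by
        refine eq_bot_iff.2 (fun y hy => ?_)
        have h1 : y ∈ (U : Set P) := hy.1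
        have h2 : y ∈ (V : Set P) := hy.2
        rw [hU] at h1
        rw [hV] at h2
        exact absurd h1 h2
      have hpU : p ∈ (U : Set P) := by rw [hU]; rfl
      have hpV : ¬ p ∈ (V : Set P) := by rw [hV]; exact fun h => h rfl
      haveI : Nonempty ↥(U : Scheme.{u}) := ⟨⟨p, hpU⟩⟩
      haveI : Subsingleton ↥(U : Scheme.{u}) := ⟨fun a b => Subtype.ext (by
        have ha : (a.1 : P) ∈ (U : Set P) := a.2
        have hb : (b.1 : P) ∈ (U : Set P) := b.2
        rw [hU] at ha hb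
        exact ha.trans hb.symm)⟩
      haveI : PreconnectedSpace ↥(U : Scheme.{u}) :=
        ⟨(Set.subsingleton_of_subsingleton).isPreconnected⟩
      obtain ⟨n₁, hn₁, h₁⟩ := torsion_H_connected K (U : Scheme.{u}) (U.ι ≫ f)
        ((EtCoh.pull U.ι).obj G) (q + 1) (Nat.succ_pos q) (EtCore.Hpull U.ι G (q + 1) x)
      haveI : Finite ↥(V : Scheme.{u}) := inferInstanceAs (Finite {y : P // y ∈ V})
      have hcardV : Nat.card ↥(V : Scheme.{u}) ≤ N := by
        have hlt : Nat.card {y : P // y ∈ V} < Nat.card P :=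
          Finite.card_subtype_lt (x := p) hpV
        exact Nat.lt_succ_iff.1 (lt_of_lt_of_le hlt hcard)
      obtain ⟨n₂, hn₂, h₂⟩ := ih (V : Scheme.{u}) (V.ι ≫ f) hcardV
        ((EtCoh.pull V.ι).obj G) q (EtCore.Hpull V.ι G (q + 1) x)
      refine ⟨n₁ * n₂, Nat.mul_pos hn₁ hn₂, ?_⟩
      apply mv_eq_zero U V hUV hdUV G q
      · rw [map_nsmul, mul_nsmul, h₁, nsmul_zero]
      · rw [map_nsmul, mul_nsmul', h₂, nsmul_zero]
    · haveI : IsEmpty P := not_nonempty_iff.1 hne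
      exact ⟨1, Nat.one_pos, @Subsingleton.elim _ (subsingleton_H_of_isEmpty P G (q + 1)) _ _⟩

end FieldTors

section Local

open Groth.Agent.Lib.EtSchSite_helper7 Groth.Agent.Lib.EtColimSecH8
  Groth.Agent.Lib.EtTorsH8 Groth.Agent.Lib.EtZarAff_helper7 Groth.Agent.Lib.EtTorsRpH8

variable {X' X : Scheme.{u}} (f : X' ⟶ X)

/-- local torsion criterion for higher direct images -/
theorem isTorsion_Rpush_of_local (G : EtCoh.Ab X') (q : ℕ)
    (h : ∀ (V : X.Etale) (v : V.left), ∃ (W : X.Etale) (k : W ⟶ V), v ∈ Set.range k.left ∧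
      ∀ x : Ext (fr ((EtCoh.bc f).obj W)) G (q + 1), ∃ n : ℕ, 0 < n ∧ n • x = 0) :
    EtCoh.IsTorsion ((EtCoh.Rpush f (q + 1)).obj G) := by
  let R : InjectiveResolution G := injectiveResolution G
  let K : CochainComplex (EtCoh.Ab X) ℕ :=
    ((EtCoh.push f).mapHomologicalComplex (ComplexShape.up ℕ)).obj R.cocomplex
  have e : (EtCoh.Rpush f (q + 1)).obj G ≅ K.homology (q + 1) :=
    R.isoRightDerivedObj (EtCoh.push f) (q + 1)
  refine isTorsion_of_iso e.symm (isTorsion_homology K (q + 1) ?_)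
  intro V z hz y
  obtain ⟨W, k, ⟨y', hy'⟩, hW⟩ := h V y
  let U : X'.Etale := (EtCoh.bc f).obj W
  let zU : (R.cocomplex.X (q + 1)).obj.obj (op U) := (K.X (q + 1)).obj.map k.op z
  let a : fr U ⟶ R.cocomplex.X (q + 1) := (frEquiv U _).symm zU
  have hzU : (R.cocomplex.d (q + 1) (q + 1 + 1)).hom.app (op U) zU = 0 := by
    have h1 := nat_app (K.d (q + 1) (q + 1 + 1)) k z
    rw [hz, map_zero] at h1
    exact h1
  have ha : a ≫ R.cocomplex.d (q + 1) (q + 1 + 1) = 0 := by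
    apply (frEquiv U _).injective
    rw [frEquiv_comp, Equiv.apply_symm_apply, frEquiv_zero]
    exact hzU
  obtain ⟨m, hm, hmx⟩ := hW (Leray.extHom (fr U) R (q + 1) ⟨a, ha⟩)
  rw [← map_nsmul, Leray.extHom_eq_zero_iff] at hmx
  obtain ⟨g', hg'⟩ := hmx
  have hg'' : g' ≫ R.cocomplex.d q (q + 1) = m • a := hg'
  refine ⟨W, k, ⟨y', hy'⟩, m, hm, q, frEquiv U _ g', ?_⟩
  show (R.cocomplex.d q (q + 1)).hom.app (op U) (frEquiv U _ g') = m • zU
  rw [← frEquiv_comp, hg'', frEquiv_nsmul, Equiv.apply_symm_apply]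

end Local

section Point

open Groth.Agent.Lib.EtSchSite_helper7 Groth.Agent.Lib.EtColimSecH8
  Groth.Agent.Lib.EtTorsH8 Groth.Agent.Lib.EtZarAff_helper7 Groth.Agent.Lib.EtTorsRpH8

variable (K : Type u) [Field K] {X : Scheme.{u}} (g : Spec (CommRingCat.of K) ⟶ X)
  [QuasiCompact g]

theorem ext_fr_torsion_of_compact (F : EtCoh.Ab (Spec (CommRingCat.of K)))
    (U : (Spec (CommRingCat.of K)).Etale) [CompactSpace U.left] (q : ℕ)
    (y : Ext (fr U) F (q + 1)) : ∃ n : ℕ, 0 < n ∧ n • y = 0 := by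
  haveI : Etale U.hom := U.prop
  haveI : LocallyQuasiFinite U.hom :=
    Groth.Agent.Lib.EtNormH4.locallyQuasiFinite_of_etale U.hom
  haveI : Subsingleton ↥(Spec (CommRingCat.of K)) :=
    inferInstanceAs (Subsingleton (PrimeSpectrum K))
  haveI : DiscreteTopology U.left :=
    QFH8.discreteTopology_of_locallyQuasiFinite (Z := Spec (CommRingCat.of K)) U.hom
  haveI : Finite U.left := finite_of_compact_of_discrete
  obtain ⟨n, hn, h⟩ := torsion_H_finite K _ U.left U.hom le_rfl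
    ((EtCoh.pull U.hom).obj F) q (ΨW U F (q + 1) y)
  refine ⟨n, hn, (ΨW_bijective U F (q + 1)).1 ?_⟩
  rw [map_nsmul, h, map_zero]

theorem ext_fr_point_torsion (F : EtCoh.Ab (Spec (CommRingCat.of K))) (W : X.Etale)
    [CompactSpace W.left] (q : ℕ) (y : Ext (fr ((EtCoh.bc g).obj W)) F (q + 1)) :
    ∃ n : ℕ, 0 < n ∧ n • y = 0 := by
  haveI : CompactSpace ↥((𝟭 Scheme.{u}).obj W.left) := ‹CompactSpace W.left›
  haveI : CompactSpace ((EtCoh.bc g).obj W).left :=
    QuasiCompact.compactSpace_of_compactSpace (pullback.fst W.hom g)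
  exact ext_fr_torsion_of_compact K F ((EtCoh.bc g).obj W) q y

theorem isTorsion_Rpush_point (F : EtCoh.Ab (Spec (CommRingCat.of K))) (q : ℕ) :
    EtCoh.IsTorsion ((EtCoh.Rpush g (q + 1)).obj F) := by
  apply isTorsion_Rpush_of_local
  intro V v
  obtain ⟨O, hO, hvO⟩ := exists_affine_nhd V v
  obtain ⟨v', hv'⟩ := mem_range_ι hvO
  haveI : IsAffine (opn V O).left := hO
  haveI : CompactSpace (opn V O).left := inferInstance
  exact ⟨opn V O, opnι V O, ⟨v', hv'⟩, fun x => ext_fr_point_torsion K g F (opn V O) q x⟩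

/-- the cokernel of `g_* I → g_* Q` is a torsion sheaf -/
theorem isTorsion_coker {F : EtCoh.Ab (Spec (CommRingCat.of K))} (I : InjectivePresentation F) :
    EtCoh.IsTorsion (cokernel (mQ (EtCoh.push g) I)) := by
  intro V s y
  have hcov := Groth.Agent.Lib.CechSite.imageSieve_mem_of_epi
    (cokernel.π (mQ (EtCoh.push g) I)) V s
  rw [mem_Jet_iff] at hcov
  obtain ⟨V₁, g₁, v₁, ⟨t, ht⟩, -, hv₁⟩ := hcov y
  obtain ⟨O, hO, hvO⟩ := exists_affine_nhd V₁ v₁
  obtain ⟨v', hv'⟩ := mem_range_ι hvO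
  haveI : IsAffine (opn V₁ O).left := hO
  haveI : CompactSpace (opn V₁ O).left := inferInstance
  haveI : Mono I.f := I.mono
  haveI : Injective I.J := I.injective
  let S : ShortComplex (EtCoh.Ab (Spec (CommRingCat.of K))) :=
    ShortComplex.mk I.f (cokernel.π I.f) (cokernel.condition I.f)
  have hS : S.ShortExact := { exact := ShortComplex.exact_cokernel I.f }
  let U : (Spec (CommRingCat.of K)).Etale := (EtCoh.bc g).obj (opn V₁ O)
  let tU : (cokernel I.f).obj.obj (op U) :=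
    ((EtCoh.push g).obj (cokernel I.f)).obj.map (opnι V₁ O).op t
  let a : fr U ⟶ cokernel I.f := (frEquiv U _).symm tU
  obtain ⟨n, hn, hnx⟩ := ext_fr_point_torsion K g F (opn V₁ O) 0
    ((Ext.mk₀ a).comp hS.extClass (zero_add 1))
  have h0 : (Ext.mk₀ (n • a)).comp hS.extClass (zero_add 1) = 0 := by
    rw [mk₀_nsmul, nsmul_comp]
    exact hnx
  obtain ⟨x₂, hx₂⟩ := Ext.covariant_sequence_exact₃ _ hS (Ext.mk₀ (n • a)) (zero_add 1) h0
  obtain ⟨b, rfl⟩ := (Ext.mk₀_bijective _ _).2 x₂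
  rw [Ext.mk₀_comp_mk₀] at hx₂
  have hb : b ≫ cokernel.π I.f = n • a := (Ext.mk₀_bijective _ _).1 hx₂
  refine ⟨opn V₁ O, opnι V₁ O ≫ g₁, ⟨v', ?_⟩, isOfFinAddOrder_iff_nsmul_eq_zero.2 ⟨n, hn, ?_⟩⟩
  · have : (opnι V₁ O ≫ g₁).left = (opnι V₁ O).left ≫ g₁.left := rfl
    rw [this, Scheme.Hom.comp_base]
    show g₁.left.base ((opnι V₁ O).left.base v') = y
    have hv'' : (opnι V₁ O).left.base v' = v₁ := hv'
    rw [hv'']
    exact hv₁
  · have e3 : (cokernel (mQ (EtCoh.push g) I)).obj.map (opnι V₁ O ≫ g₁).op s =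
        (cokernel (mQ (EtCoh.push g) I)).obj.map (opnι V₁ O).op
          ((cokernel (mQ (EtCoh.push g) I)).obj.map g₁.op s) :=
      map_comp_apply (cokernel (mQ (EtCoh.push g) I)) (opnι V₁ O) g₁ s
    have ht' : (cokernel.π (mQ (EtCoh.push g) I)).hom.app (op V₁) t =
        (cokernel (mQ (EtCoh.push g) I)).obj.map g₁.op s := ht
    rw [e3, ← ht', ← nat_app, ← map_nsmul]
    -- `n • tU` comes from `g_* I`
    have e4 : n • tU = ((EtCoh.push g).map (cokernel.π I.f)).hom.app (op (opn V₁ O))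
        (frEquiv U I.J b) := by
      have h5 : frEquiv U _ (n • a) = n • tU := by
        rw [frEquiv_nsmul, Equiv.apply_symm_apply]
      rw [← h5, ← hb, frEquiv_comp]
      rfl
    show (cokernel.π (mQ (EtCoh.push g) I)).hom.app (op (opn V₁ O)) (n • tU) = 0
    rw [e4, ← comp_app, map_π_comp_coker]
    rfl

end Point

section Main

variable (K : Type u) [Field K] {X : Scheme.{u}} [CompactSpace X] [QuasiSeparatedSpace X]
  (g : Spec (CommRingCat.of K) ⟶ X) [QuasiCompact g]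

theorem ext_pull_const_torsion {X' X : Scheme.{u}} (f : X' ⟶ X) (G : EtCoh.Ab X') (n : ℕ)
    (h0 : ∀ z : EtCoh.H X' G n, ∃ m : ℕ, 0 < m ∧ m • z = 0)
    (y : Ext ((EtCoh.pull f).obj (EtCoh.const X ℤ)) G n) : ∃ m : ℕ, 0 < m ∧ m • y = 0 := by
  obtain ⟨m, hm, h1⟩ := h0 ((Ext.mk₀ (EtCore.pullConst f ℤ).inv).comp y (zero_add n))
  have h2 : y = (Ext.mk₀ (EtCore.pullConst f ℤ).hom).comp
      ((Ext.mk₀ (EtCore.pullConst f ℤ).inv).comp y (zero_add n)) (zero_add n) := by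
    rw [Ext.mk₀_comp_mk₀_assoc, Iso.hom_inv_id, Ext.mk₀_id_comp]
  refine ⟨m, hm, ?_⟩
  rw [h2, ← comp_nsmul, h1, Ext.comp_zero]

theorem torsion_H_push : ∀ (q : ℕ) (F : EtCoh.Ab (Spec (CommRingCat.of K)))
    (y : EtCoh.H X ((EtCoh.push g).obj F) (q + 1)), ∃ n : ℕ, 0 < n ∧ n • y = 0 := by
  intro q
  induction q with
  | zero =>
    intro F y
    exact ext_one_torsion_of_adj (EtCoh.pullPushAdj g) (EtCoh.const X ℤ) F
      (fun x => ext_pull_const_torsion g F 1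
        (fun z => isOfFinAddOrder_iff_nsmul_eq_zero.1 (main7743 K F 1 Nat.one_pos z)) x) y
  | succ p ih =>
    intro F y
    obtain ⟨I⟩ : Nonempty (InjectivePresentation F) := EnoughInjectives.presentation F
    refine ext_succ_torsion_of_adj (Φ := EtCoh.push g) (EtCoh.const X ℤ) I p
      (fun z => ih (cokernel I.f) z) (fun c => ?_) y
    have hC := isTorsion_coker K g I
    exact isOfFinAddOrder_iff_nsmul_eq_zero.1
      (Groth.Agent.Lib.EtTorsRpH8.isAddTorsion_H_functor (𝟭 (EtCoh.Ab X)) _ hC p c)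

end Main

theorem main3240 (X : Scheme.{u}) [CompactSpace X] [QuasiSeparatedSpace X] (x : X)
    (F : EtCoh.Ab (Spec (X.residueField x))) (q : ℕ) (hq : 1 ≤ q) :
    EtCoh.IsTorsion ((EtCoh.Rpush (X.fromSpecResidueField x) q).obj F) ∧
      IsAddTorsion (EtCoh.H X ((Dix.skyPush X x).obj F) q) := by
  obtain ⟨q, rfl⟩ := Nat.exists_eq_succ_of_ne_zero (by omega : q ≠ 0)
  haveI : QuasiCompact (X.fromSpecResidueField x) := inferInstance
  refine ⟨isTorsion_Rpush_point (X.residueField x) (X.fromSpecResidueField x) F q, fun y => ?_⟩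
  exact isOfFinAddOrder_iff_nsmul_eq_zero.2
    (torsion_H_push (X.residueField x) (X.fromSpecResidueField x) q F y)

end Groth.Agent.Lib.EtDixTorsH7
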