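import Mathlib
import Groth.Prelude

/-!
# Étale neighbourhoods are dominated by finite free covers (helper4)

Universal splitting algebra of a monic polynomial and the standard étale local structure.
-/

set_option autoImplicit false
set_option linter.style.haveILetI false
set_option linter.unusedVariables false
universe u
open CategoryTheory CategoryTheory.Limits AlgebraicGeometry TopologicalSpace Opposite Topology

namespace Groth.Agent.Lib.EtDomFinH4

open Polynomial

/-- A finite free faithful algebra over which a monic polynomial splits into linear factors. -/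
theorem exists_splitting (n : ℕ) : ∀ (A : Type u) [CommRing A] (P : A[X]), P.Monic →
    P.natDegree = n →
    ∃ (B : Type u) (_ : CommRing B) (_ : Algebra A B), Module.Free A B ∧ Module.Finite A B ∧
      Algebra.FinitePresentation A B ∧ Function.Injective (algebraMap A B) ∧
      ∃ r : Fin n → B, P.map (algebraMap A B) = ∏ i, (X - C (r i)) := by
  induction n with
  | zero =>
    intro A _ P hP hdeg
    have h1 : P = 1 := hP.natDegree_eq_zero.mp hdeg
    refine ⟨A, inferInstance, Algebra.id A, inferInstance, inferInstance, inferInstance,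
      fun _ _ h => h, Fin.elim0, ?_⟩
    rw [h1]
    simp
  | succ n ih =>
    intro A _ P hP hdeg
    rcases subsingleton_or_nontrivial A with hs | hnt
    · exact absurd (natDegree_of_subsingleton (p := P)) (by rw [hdeg]; exact Nat.succ_ne_zero n)
    have hinj1 : Function.Injective (algebraMap A (AdjoinRoot P)) := by
      rw [injective_iff_map_eq_zero]
      intro a ha
      have ha' : AdjoinRoot.mk P (C a) = 0 := by
        rw [AdjoinRoot.mk_C]
        rw [AdjoinRoot.algebraMap_eq] at ha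
        exact ha
      rw [AdjoinRoot.mk_eq_zero] at ha'
      by_contra hne
      have hC : (C a : A[X]) ≠ 0 := fun h => hne (C_eq_zero.mp h)
      exact hP.not_dvd_of_natDegree_lt hC (by rw [natDegree_C, hdeg]; exact Nat.succ_pos n) ha'
    haveI : Nontrivial (AdjoinRoot P) := hinj1.nontrivial
    haveI : Module.Free A (AdjoinRoot P) := hP.free_adjoinRoot
    haveI : Module.Finite A (AdjoinRoot P) := hP.finite_adjoinRoot
    have hroot : IsRoot (P.map (AdjoinRoot.of P)) (AdjoinRoot.root P) := AdjoinRoot.isRoot_root P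
    obtain ⟨P₁, hP₁⟩ : ∃ P₁ : (AdjoinRoot P)[X],
        P₁ = (P.map (AdjoinRoot.of P)) /ₘ (X - C (AdjoinRoot.root P)) := ⟨_, rfl⟩
    have hfac : (X - C (AdjoinRoot.root P)) * P₁ = P.map (AdjoinRoot.of P) := by
      rw [hP₁]; exact mul_divByMonic_eq_iff_isRoot.mpr hroot
    have hmapmon : (P.map (AdjoinRoot.of P)).Monic := hP.map _
    have hP₁mon : P₁.Monic :=
      (monic_X_sub_C (AdjoinRoot.root P)).of_mul_monic_left (by rw [hfac]; exact hmapmon)
    have hP₁deg : P₁.natDegree = n := by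
      have h1 := (monic_X_sub_C (AdjoinRoot.root P)).natDegree_mul hP₁mon
      rw [hfac, hP.natDegree_map, hdeg, natDegree_X_sub_C] at h1
      omega
    obtain ⟨B, hBr, hBa, hfree, hfin, hfp, hinj, r, hr⟩ := ih (AdjoinRoot P) P₁ hP₁mon hP₁deg
    letI algAB : Algebra A B :=
      ((algebraMap (AdjoinRoot P) B).comp (algebraMap A (AdjoinRoot P))).toAlgebra
    haveI : IsScalarTower A (AdjoinRoot P) B := IsScalarTower.of_algebraMap_eq (fun _ => rfl)
    haveI := hfree
    haveI := hfin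
    haveI := hfp
    refine ⟨B, hBr, algAB, Module.Free.trans (R := A) (S := AdjoinRoot P) (M := B),
      Module.Finite.trans (AdjoinRoot P) B,
      Algebra.FinitePresentation.trans (R := A) (A := AdjoinRoot P) (B := B), hinj.comp hinj1,
      Fin.cons (algebraMap (AdjoinRoot P) B (AdjoinRoot.root P)) r, ?_⟩
    have hmm : P.map (algebraMap A B) =
        (P.map (AdjoinRoot.of P)).map (algebraMap (AdjoinRoot P) B) := by
      rw [Polynomial.map_map]; rfl
    rw [hmm, ← hfac, Polynomial.map_mul, hr, Fin.prod_univ_succ]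
    simp only [Fin.cons_zero, Fin.cons_succ, Polynomial.map_sub, Polynomial.map_X,
      Polynomial.map_C]

/-- A root of `f` in a field is, over a prime of the splitting algebra, one of the split roots. -/
theorem exists_root_index {A B L : Type u} [CommRing A] [CommRing B] [Algebra A B] [Field L]
    [Algebra A L] {n : ℕ} (f : A[X]) (r : Fin n → B)
    (hr : f.map (algebraMap A B) = ∏ i, (X - C (r i)))
    (t : Ideal B) [t.IsPrime] (ξ : L) (hξ : aeval ξ f = 0)
    (hker : RingHom.ker (algebraMap A L) = t.comap (algebraMap A B)) :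
    ∃ i, ∀ p : A[X], aeval ξ p = 0 ↔ aeval (r i) p ∈ t := by
  obtain ⟨p₀, hp₀⟩ : ∃ p₀ : Ideal A, p₀ = t.comap (algebraMap A B) := ⟨_, rfl⟩
  haveI : p₀.IsPrime := by rw [hp₀]; exact Ideal.comap_isPrime _ _
  have hf₁ : p₀ ≤ RingHom.ker (algebraMap A L) := by rw [hker, hp₀]
  have hf₂ : p₀.primeCompl ≤ (IsUnit.submonoid L).comap (algebraMap A L) := by
    intro a ha
    rw [Submonoid.mem_comap, IsUnit.mem_submonoid_iff, isUnit_iff_ne_zero]
    intro h0
    exact ha (by rw [hp₀, ← hker]; exact h0)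
  obtain ⟨Ω, hΩ, i₁, i₂, hi⟩ := AlgSp.FieldPt.exists_amalgamation
    (Ideal.ResidueField.lift p₀ (algebraMap A L) hf₁ hf₂)
    (Ideal.ResidueField.map p₀ t (algebraMap A B) hp₀)
  have hcomp : ∀ a : A, i₁ (algebraMap A L a) =
      i₂ (algebraMap B t.ResidueField (algebraMap A B a)) := by
    intro a
    have h := congrArg (fun g : p₀.ResidueField →+* Ω => g (algebraMap A p₀.ResidueField a)) hi
    simp only [RingHom.comp_apply, Ideal.ResidueField.lift_algebraMap,
      Ideal.ResidueField.map_algebraMap] at h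
    exact h
  obtain ⟨γ, hγ⟩ : ∃ γ : B →+* Ω, γ = i₂.comp (algebraMap B t.ResidueField) := ⟨_, rfl⟩
  obtain ⟨ρ, hρ⟩ : ∃ ρ : A →+* Ω, ρ = i₁.comp (algebraMap A L) := ⟨_, rfl⟩
  have hρ' : ρ = γ.comp (algebraMap A B) := by
    rw [hρ, hγ]; exact RingHom.ext hcomp
  have h1 : ∀ p : A[X], i₁ (aeval ξ p) = eval₂ ρ (i₁ ξ) p := by
    intro p; rw [Polynomial.aeval_def, Polynomial.hom_eval₂, hρ]
  have h2 : ∀ (b : B) (p : A[X]), γ (aeval b p) = eval₂ ρ (γ b) p := by
    intro b p; rw [Polynomial.aeval_def, Polynomial.hom_eval₂, hρ']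
  have h3 : eval (i₁ ξ) ((f.map (algebraMap A B)).map γ) = 0 := by
    rw [Polynomial.map_map, ← hρ', Polynomial.eval_map, ← h1, hξ, map_zero]
  rw [hr, Polynomial.map_prod, Polynomial.eval_prod] at h3
  simp only [Polynomial.map_sub, Polynomial.map_X, Polynomial.map_C, Polynomial.eval_sub, Polynomial.eval_X,
    Polynomial.eval_C] at h3
  obtain ⟨i, -, hi0⟩ := Finset.prod_eq_zero_iff.mp h3
  refine ⟨i, fun p => ?_⟩
  have hη : i₁ ξ = γ (r i) := sub_eq_zero.mp hi0
  have h4 : i₁ (aeval ξ p) = γ (aeval (r i) p) := by rw [h1, h2, hη]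
  constructor
  · intro h0
    have h5 : γ (aeval (r i) p) = 0 := by rw [← h4, h0, map_zero]
    rw [hγ, RingHom.comp_apply, map_eq_zero, Ideal.algebraMap_residueField_eq_zero] at h5
    exact h5
  · intro hmem
    have h5 : i₁ (aeval ξ p) = 0 := by
      rw [h4, hγ, RingHom.comp_apply, Ideal.algebraMap_residueField_eq_zero.mpr hmem, map_zero]
    exact (map_eq_zero i₁).mp h5

/-- Algebraic core: an étale algebra `C` with a prime `q` is dominated, at every prime over
`q ∩ A` of a suitable finite free `A`-algebra `B`, by a localization of `B`. -/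
theorem algCore {A C : Type u} [CommRing A] [CommRing C] [Algebra A C] [Algebra.Etale A C]
    (q : Ideal C) [hq : q.IsPrime] :
    ∃ (B : Type u) (_ : CommRing B) (_ : Algebra A B), Module.Flat A B ∧ Module.Finite A B ∧
      Algebra.FinitePresentation A B ∧ Function.Injective (algebraMap A B) ∧
      ∀ (t : Ideal B) [t.IsPrime], t.comap (algebraMap A B) = q.comap (algebraMap A C) →
        ∃ (b : B) (_ : b ∉ t) (θ : C →ₐ[A] Localization.Away b),
          ∀ (t' : Ideal (Localization.Away b)) [t'.IsPrime],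
            t'.comap (algebraMap B (Localization.Away b)) = t → t'.comap θ.toRingHom = q := by
  haveI : Algebra.FormallyEtale C (Localization.AtPrime q) :=
    Algebra.FormallyEtale.of_isLocalization q.primeCompl
  haveI : Algebra.IsEtaleAt A q := Algebra.FormallyEtale.comp A C (Localization.AtPrime q)
  obtain ⟨f', hf'q, hstd⟩ := Algebra.IsEtaleAt.exists_isStandardEtale (R := A) q
  obtain ⟨P⟩ := hstd.nonempty_standardEtalePresentation
  obtain ⟨B, hBr, hBa, hfree, hfin, hfp, hinj, r, hr⟩ :=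
    exists_splitting P.f.natDegree A P.f P.monic_f rfl
  haveI := hfree
  refine ⟨B, hBr, hBa, inferInstance, hfin, hfp, hinj, ?_⟩
  intro t ht hcomap
  have hdisj : Disjoint (Submonoid.powers f' : Set C) ↑q :=
    (Ideal.disjoint_powers_iff_notMem_of_isPrime f').mpr hf'q
  obtain ⟨q', hq'⟩ : ∃ q' : Ideal (Localization.Away f'),
      q' = Ideal.map (algebraMap C (Localization.Away f')) q := ⟨_, rfl⟩
  haveI hq'prime : q'.IsPrime := by
    rw [hq']
    exact IsLocalization.isPrime_of_isPrime_disjoint (Submonoid.powers f') _ q hq hdisj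
  have hq'comap : q'.comap (algebraMap C (Localization.Away f')) = q := by
    rw [hq']
    exact IsLocalization.under_map_of_isPrime_disjoint (Submonoid.powers f')
      (Localization.Away f') hq hdisj
  obtain ⟨ξ, hξdef⟩ : ∃ ξ : q'.ResidueField,
      ξ = algebraMap (Localization.Away f') q'.ResidueField P.x := ⟨_, rfl⟩
  have hξ : aeval ξ P.f = 0 := by
    rw [hξdef, aeval_algebraMap_apply, P.hasMap.1, map_zero]
  have hker : RingHom.ker (algebraMap A q'.ResidueField) = t.comap (algebraMap A B) := by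
    rw [hcomap]
    ext a
    rw [RingHom.mem_ker, Ideal.mem_comap,
      IsScalarTower.algebraMap_apply A (Localization.Away f') q'.ResidueField,
      Ideal.algebraMap_residueField_eq_zero,
      IsScalarTower.algebraMap_apply A C (Localization.Away f'), ← Ideal.mem_comap, hq'comap]
  obtain ⟨i, hi⟩ := exists_root_index P.f r hr t ξ hξ hker
  obtain ⟨b, hbdef⟩ : ∃ b : B, b = aeval (r i) P.g := ⟨_, rfl⟩
  have hG : IsUnit (aeval P.x P.g) := P.hasMap.2
  have hb : b ∉ t := by
    rw [hbdef, ← hi P.g, hξdef, aeval_algebraMap_apply]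
    exact (hG.map (algebraMap (Localization.Away f') q'.ResidueField)).ne_zero
  have hfy : aeval (r i) P.f = 0 := by
    have h1 : aeval (r i) P.f = eval (r i) (P.f.map (algebraMap A B)) := by
      rw [Polynomial.eval_map, Polynomial.aeval_def]
    rw [h1, hr, Polynomial.eval_prod]
    exact Finset.prod_eq_zero (Finset.mem_univ i) (by simp)
  have hy : P.P.HasMap (algebraMap B (Localization.Away b) (r i)) := by
    refine ⟨?_, ?_⟩
    · rw [aeval_algebraMap_apply, hfy, map_zero]
    · rw [aeval_algebraMap_apply, ← hbdef]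
      exact IsLocalization.Away.algebraMap_isUnit b
  obtain ⟨lam, hlam⟩ : ∃ lam : Localization.Away f' →ₐ[A] Localization.Away b,
      lam P.x = algebraMap B (Localization.Away b) (r i) :=
    ⟨(P.P.lift _ hy).comp P.equivRing.toAlgHom, by
      show P.P.lift _ hy (P.equivRing P.x) = _
      rw [P.equivRing_x, P.P.lift_X]⟩
  refine ⟨b, hb, lam.comp (IsScalarTower.toAlgHom A C (Localization.Away f')), ?_⟩
  intro t' ht' ht't
  have key : ∀ x : Localization.Away f', lam x ∈ t' ↔ x ∈ q' := by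
    intro x
    obtain ⟨p, m, hpm⟩ := P.exists_mul_aeval_x_g_pow_eq_aeval_x x
    have e1 : x ∈ q' ↔ aeval P.x p ∈ q' := by
      rw [← hpm]; exact (Ideal.mul_unit_mem_iff_mem q' (hG.pow m)).symm
    have e2 : lam x ∈ t' ↔ lam (aeval P.x p) ∈ t' := by
      rw [← hpm, map_mul, map_pow]
      exact (Ideal.mul_unit_mem_iff_mem t' ((hG.map lam).pow m)).symm
    have e3 : lam (aeval P.x p) = algebraMap B (Localization.Away b) (aeval (r i) p) :=
      (aeval_algHom_apply lam P.x p).symm.trans (by rw [hlam, aeval_algebraMap_apply])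
    have e4 : aeval P.x p ∈ q' ↔ aeval ξ p = 0 := by
      rw [hξdef, aeval_algebraMap_apply, Ideal.algebraMap_residueField_eq_zero]
    rw [e2, e3, e1, e4, hi p, ← ht't, Ideal.mem_comap]
  ext c
  rw [Ideal.mem_comap]
  show lam (algebraMap C (Localization.Away f') c) ∈ t' ↔ c ∈ q
  rw [key, ← hq'comap, Ideal.mem_comap]

theorem exists_affine_pair {X S : Scheme.{u}} (f : X ⟶ S) (x₀ : X) :
    ∃ (U₀ : S.Opens) (V₀ : X.Opens), IsAffineOpen U₀ ∧ IsAffineOpen V₀ ∧ V₀ ≤ f ⁻¹ᵁ U₀ ∧
      x₀ ∈ V₀ := by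
  obtain ⟨_, ⟨U₀, hU₀m, rfl⟩, hxU₀, -⟩ :=
    S.isBasis_affineOpens.exists_subset_of_mem_open (Set.mem_univ (f x₀)) isOpen_univ
  obtain ⟨_, ⟨V₀, hV₀m, rfl⟩, hxV₀, hV₀le⟩ :=
    X.isBasis_affineOpens.exists_subset_of_mem_open (show x₀ ∈ f ⁻¹ᵁ U₀ from hxU₀)
      (f ⁻¹ᵁ U₀).isOpen
  exact ⟨U₀, V₀, hU₀m, hV₀m, hV₀le, hxV₀⟩

theorem main1390 {U S : Scheme.{u}} (e : U ⟶ S) [Etale e] (u : U) (s : S) (hu : e u = s) :
    ∃ (V : S.Opens) (T : Scheme.{u}) (π : T ⟶ (V : Scheme.{u})), s ∈ V ∧ IsAffineOpen V ∧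
      Surjective π ∧ IsFinite π ∧ Flat π ∧ LocallyOfFinitePresentation π ∧
      ∀ t : T, V.ι (π t) = s → ∃ (W : T.Opens) (h : (W : Scheme.{u}) ⟶ U), t ∈ W ∧
        h ≫ e = W.ι ≫ π ≫ V.ι ∧ ∀ ht : t ∈ W, h ⟨t, ht⟩ = u := by
  obtain ⟨V, U₀, hV, hU₀, hle, huU₀⟩ := exists_affine_pair e u
  have hsV : s ∈ V := by rw [← hu]; exact hle huU₀
  obtain ⟨φ, hφdef⟩ : ∃ φ : Γ(S, V) ⟶ Γ(U, U₀), φ = e.appLE V U₀ hle := ⟨_, rfl⟩
  have hφ : φ.hom.Etale := by
    rw [hφdef]
    exact HasRingHomProperty.appLE (P := @Etale) e inferInstance ⟨V, hV⟩ ⟨U₀, hU₀⟩ hle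
  letI alg : Algebra Γ(S, V) Γ(U, U₀) := φ.hom.toAlgebra
  haveI : Algebra.Etale Γ(S, V) Γ(U, U₀) := hφ
  obtain ⟨qq, hqq⟩ : ∃ qq : PrimeSpectrum Γ(U, U₀), qq = hU₀.primeIdealOf ⟨u, huU₀⟩ :=
    ⟨_, rfl⟩
  obtain ⟨pp, hpp⟩ : ∃ pp : PrimeSpectrum Γ(S, V), pp = hV.primeIdealOf ⟨s, hsV⟩ := ⟨_, rfl⟩
  have hqu : hU₀.fromSpec qq = u := by rw [hqq]; exact hU₀.fromSpec_primeIdealOf ⟨u, huU₀⟩
  have hps : hV.fromSpec pp = s := by rw [hpp]; exact hV.fromSpec_primeIdealOf ⟨s, hsV⟩
  have hinjV : ∀ x y : ↥(Spec Γ(S, V)), hV.fromSpec x = hV.fromSpec y → x = y :=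
    fun x y h => hV.fromSpec.isOpenEmbedding.injective h
  have hqp : Spec.map φ qq = pp := by
    apply hinjV
    have h1 := congrArg (fun m : Spec Γ(U, U₀) ⟶ S => m qq)
      (IsAffineOpen.SpecMap_appLE_fromSpec e hV hU₀ hle)
    rw [hφdef]
    exact h1.trans (by show e (hU₀.fromSpec qq) = _; rw [hqu, hu, hps])
  haveI hq_prime : qq.asIdeal.IsPrime := qq.isPrime
  obtain ⟨B, hBr, hBa, hflat, hfin, hfp, hinj, hB⟩ :=
    algCore (A := Γ(S, V)) (C := Γ(U, U₀)) qq.asIdeal
  obtain ⟨π₀, hπ₀⟩ : ∃ π₀ : Spec (CommRingCat.of B) ⟶ Spec Γ(S, V),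
      π₀ = Spec.map (CommRingCat.ofHom (algebraMap Γ(S, V) B)) := ⟨_, rfl⟩
  haveI hπfin : IsFinite π₀ := by
    rw [hπ₀, IsFinite.SpecMap_iff]; exact RingHom.finite_algebraMap.mpr hfin
  haveI hπflat : Flat π₀ := by
    rw [hπ₀, Flat.SpecMap_iff]; exact RingHom.flat_algebraMap_iff.mpr hflat
  haveI hπfp : LocallyOfFinitePresentation π₀ := by
    rw [hπ₀, LocallyOfFinitePresentation.SpecMap_iff]
    exact RingHom.finitePresentation_algebraMap.mpr hfp
  haveI hπsurj : Surjective π₀ := by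
    refine ⟨fun x => ?_⟩
    have hint : (algebraMap Γ(S, V) B).IsIntegral := by
      haveI := hfin
      exact fun b => Algebra.IsIntegral.isIntegral b
    obtain ⟨y, hy⟩ := hint.comap_surjective hinj x
    exact ⟨y, by rw [hπ₀]; exact hy⟩
  refine ⟨V, Spec (CommRingCat.of B), π₀ ≫ hV.isoSpec.inv, hsV, hV, inferInstance,
    inferInstance, inferInstance, inferInstance, ?_⟩
  intro t hts
  have htp : π₀ t = pp := by
    apply hinjV
    rw [hps, ← hts]
    rfl
  have hcomap : t.asIdeal.comap (algebraMap Γ(S, V) B) =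
      qq.asIdeal.comap (algebraMap Γ(S, V) Γ(U, U₀)) := by
    have h1 : (π₀ t).asIdeal = (Spec.map φ qq).asIdeal := by rw [htp, hqp]
    rw [hπ₀] at h1
    exact h1
  haveI : t.asIdeal.IsPrime := t.isPrime
  obtain ⟨b, hb, θ, hθ⟩ := hB t.asIdeal hcomap
  obtain ⟨j, hj⟩ : ∃ j : Spec (CommRingCat.of (Localization.Away b)) ⟶ Spec (CommRingCat.of B),
      j = Spec.map (CommRingCat.ofHom (algebraMap B (Localization.Away b))) := ⟨_, rfl⟩
  haveI : IsOpenImmersion j := by rw [hj]; infer_instance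
  have htb : t ∈ Set.range (PrimeSpectrum.comap (algebraMap B (Localization.Away b))) := by
    rw [PrimeSpectrum.localization_away_comap_range (Localization.Away b) b]
    exact hb
  obtain ⟨t', ht'⟩ := htb
  have hjt : j t' = t := by rw [hj]; exact ht'
  refine ⟨j.opensRange,
    j.isoOpensRange.inv ≫ Spec.map (CommRingCat.ofHom θ.toRingHom) ≫ hU₀.fromSpec,
    ⟨t', hjt⟩, ?_, ?_⟩
  · have hθφ : φ ≫ CommRingCat.ofHom θ.toRingHom =
        CommRingCat.ofHom (algebraMap Γ(S, V) B) ≫
          CommRingCat.ofHom (algebraMap B (Localization.Away b)) := by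
      ext a
      show θ (algebraMap Γ(S, V) Γ(U, U₀) a) =
        algebraMap B (Localization.Away b) (algebraMap Γ(S, V) B a)
      rw [θ.commutes, IsScalarTower.algebraMap_apply Γ(S, V) B (Localization.Away b)]
    have h2 : Spec.map (CommRingCat.ofHom θ.toRingHom) ≫ Spec.map φ = j ≫ π₀ := by
      rw [hj, hπ₀, ← Spec.map_comp, ← Spec.map_comp, hθφ]
    have h3 : hU₀.fromSpec ≫ e = Spec.map φ ≫ hV.fromSpec := by
      rw [hφdef]; exact (IsAffineOpen.SpecMap_appLE_fromSpec e hV hU₀ hle).symm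
    have h4 : j.opensRange.ι = j.isoOpensRange.inv ≫ j :=
      (Scheme.Hom.isoOpensRange_inv_comp j).symm
    have h5 : hV.isoSpec.inv ≫ V.ι = hV.fromSpec := rfl
    calc (j.isoOpensRange.inv ≫ Spec.map (CommRingCat.ofHom θ.toRingHom) ≫ hU₀.fromSpec) ≫ e
        = j.isoOpensRange.inv ≫ Spec.map (CommRingCat.ofHom θ.toRingHom) ≫
            (hU₀.fromSpec ≫ e) := by simp only [Category.assoc]
      _ = j.isoOpensRange.inv ≫ (Spec.map (CommRingCat.ofHom θ.toRingHom) ≫ Spec.map φ) ≫
            hV.fromSpec := by rw [h3]; simp only [Category.assoc]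
      _ = j.isoOpensRange.inv ≫ (j ≫ π₀) ≫ hV.fromSpec := by rw [h2]
      _ = (j.isoOpensRange.inv ≫ j) ≫ π₀ ≫ (hV.isoSpec.inv ≫ V.ι) := by
          rw [h5]; simp only [Category.assoc]
      _ = j.opensRange.ι ≫ (π₀ ≫ hV.isoSpec.inv) ≫ V.ι := by
          rw [← h4]; simp only [Category.assoc]
  · intro ht
    have h6 : j.isoOpensRange.hom t' = ⟨t, ht⟩ := by
      apply Subtype.ext
      have h := congrArg (fun m : Spec (CommRingCat.of (Localization.Away b)) ⟶
        Spec (CommRingCat.of B) => m t') (Scheme.Hom.isoOpensRange_hom_ι j)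
      exact h.trans hjt
    have h7 : j.isoOpensRange.inv ⟨t, ht⟩ = t' := by
      rw [← h6]
      exact congrArg (fun m : Spec (CommRingCat.of (Localization.Away b)) ⟶
        Spec (CommRingCat.of (Localization.Away b)) => m t') j.isoOpensRange.hom_inv_id
    have h8 : Spec.map (CommRingCat.ofHom θ.toRingHom) t' = qq := by
      apply PrimeSpectrum.ext
      haveI : t'.asIdeal.IsPrime := t'.isPrime
      have h9 : (j t').asIdeal = t.asIdeal := by rw [hjt]
      rw [hj] at h9
      exact hθ t'.asIdeal h9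
    show hU₀.fromSpec (Spec.map (CommRingCat.ofHom θ.toRingHom)
      (j.isoOpensRange.inv ⟨t, ht⟩)) = u
    rw [h7, h8, hqu]

end Groth.Agent.Lib.EtDomFinH4
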