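import Mathlib
import Groth.Prelude.Def_RDer

/-!
# The comparison `H^n (Ψ K) ⟶ Ψ (H^n K)` is an isomorphism for complexes of "flasque" objects
exact below degree `n` (helper7)

`Ψ` is a left exact additive functor and `P` a class of objects (to be thought of as flasque objects)
stable under isomorphisms, containing the zero objects, stable under cokernels of monomorphisms
between members, and such that `Ψ` is right exact on short exact sequences with kernel in `P`.
-/

set_option autoImplicit false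
set_option backward.isDefEq.respectTransparency false
set_option linter.style.haveILetI false
set_option linter.unusedSectionVars false
universe v₂ v₃ u₂ u₃
open CategoryTheory CategoryTheory.Limits HomologicalComplex

namespace Groth.Agent.Lib.HomCompIsoH7

variable {B : Type u₂} [Category.{v₂} B] [Abelian B] {C : Type u₃} [Category.{v₃} C] [Abelian C]
  (Ψ : B ⥤ C) [Ψ.Additive] [PreservesFiniteLimits Ψ]

section Cycles

variable {ι' : Type*} {c : ComplexShape ι'} (K : HomologicalComplex B c) (i : ι')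

theorem isIso_cyclesComparison : IsIso (RDer.cyclesComparison Ψ K i) := by
  have w : Ψ.map (K.iCycles i) ≫ ((Ψ.mapHomologicalComplex c).obj K).d i (c.next i) = 0 := by
    show Ψ.map (K.iCycles i) ≫ Ψ.map (K.d i (c.next i)) = 0
    rw [← Ψ.map_comp, K.iCycles_d, Ψ.map_zero]
  obtain ⟨inv, hinv⟩ : ∃ inv : Ψ.obj (K.cycles i) ⟶ ((Ψ.mapHomologicalComplex c).obj K).cycles i,
      inv ≫ ((Ψ.mapHomologicalComplex c).obj K).iCycles i = Ψ.map (K.iCycles i) :=
    ⟨(((Ψ.mapHomologicalComplex c).obj K).cyclesIsKernel i (c.next i) rfl).lift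
      (KernelFork.ofι _ w), Fork.IsLimit.lift_ι _⟩
  haveI : Mono (Ψ.map (K.iCycles i)) := inferInstance
  refine ⟨⟨inv, ?_, ?_⟩⟩
  · rw [← cancel_mono (((Ψ.mapHomologicalComplex c).obj K).iCycles i), Category.assoc, hinv,
      RDer.cyclesComparison_i, Category.id_comp]
  · rw [← cancel_mono (Ψ.map (K.iCycles i)), Category.assoc, RDer.cyclesComparison_i, hinv,
      Category.id_comp]

end Cycles

section Cokernels

theorem isIso_of_cokernels {A Z1 Z2 H1 H2 : C} (f1 : A ⟶ Z1) (π1 : Z1 ⟶ H1) (w1 : f1 ≫ π1 = 0)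
    (c1 : IsColimit (CokernelCofork.ofπ π1 w1)) (f2 : A ⟶ Z2) (π2 : Z2 ⟶ H2) (w2 : f2 ≫ π2 = 0)
    (c2 : IsColimit (CokernelCofork.ofπ π2 w2)) (e : Z1 ⟶ Z2) [IsIso e] (he : f1 ≫ e = f2)
    (h : H1 ⟶ H2) (hh : π1 ≫ h = e ≫ π2) : IsIso h := by
  haveI : Epi π1 := epi_of_isColimit_cofork c1
  haveI : Epi π2 := epi_of_isColimit_cofork c2
  have wk : f2 ≫ inv e ≫ π1 = 0 := by
    rw [← he, Category.assoc, IsIso.hom_inv_id_assoc, w1]
  obtain ⟨k, hk⟩ : ∃ k : H2 ⟶ H1, π2 ≫ k = inv e ≫ π1 :=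
    ⟨c2.desc (CokernelCofork.ofπ (inv e ≫ π1) wk), Cofork.IsColimit.π_desc c2⟩
  refine ⟨⟨k, ?_, ?_⟩⟩
  · rw [← cancel_epi π1, ← Category.assoc, hh, Category.assoc, hk, IsIso.hom_inv_id_assoc,
      Category.comp_id]
  · rw [← cancel_epi π2, ← Category.assoc, hk, Category.assoc, hh, IsIso.inv_hom_id_assoc,
      Category.comp_id]

end Cokernels

section Main

variable (P : B → Prop)
  (hPiso : ∀ {X Y : B}, (X ≅ Y) → P X → P Y)
  (hPzero : ∀ X : B, IsZero X → P X)
  (hP3 : ∀ S : ShortComplex B, S.ShortExact → P S.X₁ → P S.X₂ → P S.X₃)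
  (hPex : ∀ S : ShortComplex B, S.ShortExact → P S.X₁ → Epi (Ψ.map S.g))

include hPiso hP3 hPex in
theorem exact_map_of_cokernel {A Z H : B} (f : A ⟶ Z) (g : Z ⟶ H) (w : f ≫ g = 0)
    (hcok : IsColimit (CokernelCofork.ofπ g w)) (hker : P (kernel f)) (hA : P A) :
    ((ShortComplex.mk f g w).map Ψ).Exact ∧ Epi (Ψ.map g) := by
  obtain ⟨T, hT⟩ : ∃ T : ShortComplex B, T = ShortComplex.mk f g w := ⟨_, rfl⟩
  have hTe : (ShortComplex.mk f g w).Exact := ShortComplex.exact_of_g_is_cokernel _ hcok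
  haveI : Epi g := epi_of_isColimit_cofork hcok
  haveI hepi' : Epi (kernel.lift g f w) :=
    (ShortComplex.mk f g w).exact_iff_epi_kernel_lift.1 hTe
  have hS1 : (ShortComplex.mk (kernel.ι (kernel.lift g f w)) (kernel.lift g f w)
      (kernel.condition _)).ShortExact :=
    { exact := ShortComplex.exact_kernel _ }
  have hS2 : (ShortComplex.mk (kernel.ι g) g (kernel.condition g)).ShortExact :=
    { exact := ShortComplex.exact_kernel _ }
  have hk' : P (kernel (kernel.lift g f w)) :=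
    hPiso ((kernelIsoOfEq (kernel.lift_ι g f w).symm).trans
      (kernelCompMono (kernel.lift g f w) (kernel.ι g))) hker
  have hI : P (kernel g) := hP3 _ hS1 hk' hA
  haveI h1 : Epi (Ψ.map (kernel.lift g f w)) := hPex _ hS1 hk'
  have h2 : Epi (Ψ.map g) := hPex _ hS2 hI
  refine ⟨?_, h2⟩
  have hex2 : ((ShortComplex.mk (kernel.ι g) g (kernel.condition g)).map Ψ).Exact :=
    hS2.exact.map_of_mono_of_preservesKernel Ψ hS2.mono_f inferInstance
  let φ : (ShortComplex.mk f g w).map Ψ ⟶
      (ShortComplex.mk (kernel.ι g) g (kernel.condition g)).map Ψ :=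
    { τ₁ := Ψ.map (kernel.lift g f w)
      τ₂ := 𝟙 _
      τ₃ := 𝟙 _
      comm₁₂ := by
        show Ψ.map (kernel.lift g f w) ≫ Ψ.map (kernel.ι g) = Ψ.map f ≫ 𝟙 _
        rw [← Ψ.map_comp, kernel.lift_ι, Category.comp_id]
      comm₂₃ := by
        show 𝟙 _ ≫ Ψ.map g = Ψ.map g ≫ 𝟙 _
        rw [Category.id_comp, Category.comp_id] }
  haveI : Epi φ.τ₁ := h1
  haveI : IsIso φ.τ₂ := inferInstanceAs (IsIso (𝟙 _))
  haveI : Mono φ.τ₃ := inferInstanceAs (Mono (𝟙 _))
  exact (ShortComplex.exact_iff_of_epi_of_isIso_of_mono φ).2 hex2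

variable (K : CochainComplex B ℕ)

/-- the kernel of `K^m ⟶ Z^{m+1}` is `Z^m` -/
noncomputable def kernelToCyclesIso (m : ℕ) : kernel (K.toCycles m (m + 1)) ≅ K.cycles m :=
  ((kernelCompMono (K.toCycles m (m + 1)) (K.iCycles (m + 1))).symm.trans
    (kernelIsoOfEq (K.toCycles_i m (m + 1)))).trans
    (IsLimit.conePointUniqueUpToIso (kernelIsKernel (K.d m (m + 1)))
      (K.cyclesIsKernel m (m + 1) (by simp)))

include hPiso hPzero hP3 in
theorem P_cycles (n : ℕ) (hK : ∀ p, P (K.X p)) (hH : ∀ p, p < n → IsZero (K.homology p)) :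
    ∀ q, q < n → P (K.cycles q) := by
  intro q
  induction q with
  | zero =>
    intro h
    exact hPzero _ (IsZero.of_iso (hH 0 h) K.isoHomologyπ₀)
  | succ q ih =>
    intro h
    have hq : P (K.cycles q) := ih (by omega)
    haveI : Epi (K.toCycles q (q + 1)) :=
      Preadditive.epi_of_isZero_cokernel' _
        (K.homologyIsCokernel q (q + 1) (CochainComplex.prev_nat_succ q)) (hH (q + 1) h)
    have hS : (ShortComplex.mk (kernel.ι (K.toCycles q (q + 1))) (K.toCycles q (q + 1))
        (kernel.condition _)).ShortExact :=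
      { exact := ShortComplex.exact_kernel _ }
    exact hP3 _ hS (hPiso (kernelToCyclesIso K q).symm hq) (hK q)

include hPiso hPzero hP3 in
theorem P_kernel_toCycles (n : ℕ) (hK : ∀ p, P (K.X p))
    (hH : ∀ p, p < n → IsZero (K.homology p)) :
    P (kernel (K.toCycles ((ComplexShape.up ℕ).prev n) n)) := by
  cases n with
  | zero =>
    have h0 : K.toCycles ((ComplexShape.up ℕ).prev 0) 0 = 0 := by
      rw [← cancel_mono (K.iCycles 0), K.toCycles_i, zero_comp]
      apply K.shape
      rw [CochainComplex.prev_nat_zero]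
      simp
    exact hPiso ((kernelIsoOfEq h0).trans kernelZeroIsoSource).symm (hK _)
  | succ m =>
    rw [CochainComplex.prev_nat_succ]
    exact hPiso (kernelToCyclesIso K m).symm
      (P_cycles P hPiso hPzero hP3 K (m + 1) hK hH m (Nat.lt_succ_self m))

include hPiso hPzero hP3 hPex in
/-- for a complex of `P`-objects exact in degrees `< n`, `Ψ` commutes with `H^n` -/
theorem isIso_homologyComparison (n : ℕ) (hK : ∀ p, P (K.X p))
    (hH : ∀ p, p < n → IsZero (K.homology p)) : IsIso (RDer.homologyComparison Ψ K n) := by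
  have hker := P_kernel_toCycles P hPiso hPzero hP3 K n hK hH
  obtain ⟨hex, hepi⟩ := exact_map_of_cokernel Ψ P hPiso hP3 hPex
    (K.toCycles ((ComplexShape.up ℕ).prev n) n) (K.homologyπ n)
    (K.toCycles_comp_homologyπ _ n) (K.homologyIsCokernel _ n rfl) hker (hK _)
  haveI : Epi (ShortComplex.map (ShortComplex.mk (K.toCycles ((ComplexShape.up ℕ).prev n) n)
      (K.homologyπ n) (K.toCycles_comp_homologyπ _ n)) Ψ).g := hepi
  haveI := isIso_cyclesComparison Ψ K n
  exact isIso_of_cokernels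
    (((Ψ.mapHomologicalComplex _).obj K).toCycles ((ComplexShape.up ℕ).prev n) n)
    (((Ψ.mapHomologicalComplex _).obj K).homologyπ n)
    (((Ψ.mapHomologicalComplex _).obj K).toCycles_comp_homologyπ _ n)
    (((Ψ.mapHomologicalComplex _).obj K).homologyIsCokernel _ n rfl)
    (Ψ.map (K.toCycles ((ComplexShape.up ℕ).prev n) n)) (Ψ.map (K.homologyπ n))
    (by rw [← Ψ.map_comp, K.toCycles_comp_homologyπ, Ψ.map_zero])
    hex.gIsCokernel (RDer.cyclesComparison Ψ K n) (RDer.toCycles_cyclesComparison Ψ K n)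
    (RDer.homologyComparison Ψ K n) (RDer.homologyπ_homologyComparison Ψ K n)

end Main

end Groth.Agent.Lib.HomCompIsoH7
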