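import Mathlib
import Groth.Prelude.Def_EtDepth
import Groth.Prelude.Def_RDer
import Groth.Agent.Lib.EtDepthMono_helper7
import Groth.Agent.Lib.HomCompIso_helper7

/-!
# The edge map `H^n_Y(X, F) ⟶ Γ(X, H^n_Y(F))` is an isomorphism when `depth_Y F ≥ n` (helper7)

The sheaves `Γ_Y(I)` for `I` injective are acyclic on every object of the étale site, and the
complex `Γ_Y(I^•)` is exact below degree `n`; so global sections commute with its `n`-th homology.
-/

set_option autoImplicit false
set_option backward.isDefEq.respectTransparency false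
set_option linter.style.haveILetI false
set_option linter.unusedSectionVars false
universe u
open CategoryTheory CategoryTheory.Limits AlgebraicGeometry Opposite Abelian

namespace Groth.Agent.Lib.EtEdgeOutH7

open Groth.Agent.Lib.EtFlasque_helper7 Groth.Agent.Lib.EtExtFr_helper7
  Groth.Agent.Lib.EtFlasquePush_helper7 Groth.Agent.Lib.EtLocCohIso_helper7
  Groth.Agent.Lib.EtJCont_helper7 Groth.Agent.Lib.HomCompIsoH7 Groth.Agent.Lib.EtDepthH7

variable {X : Scheme.{u}}

theorem fl_of_iso {F G : EtCoh.Ab X} (e : F ≅ G) (hF : Fl F) : Fl G := by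
  intro W q hq x
  have h1 : x = (x.comp (Ext.mk₀ e.inv) (add_zero q)).comp (Ext.mk₀ e.hom) (add_zero q) := by
    rw [Ext.comp_assoc_of_third_deg_zero, Ext.mk₀_comp_mk₀, e.inv_hom_id, Ext.comp_mk₀_id]
  rw [h1, hF W q hq (x.comp (Ext.mk₀ e.inv) (add_zero q)), Ext.zero_comp]

theorem fl_of_isZero {F : EtCoh.Ab X} (hF : IsZero F) : Fl F := by
  intro W q hq x
  have h1 : x = x.comp (Ext.mk₀ (𝟙 F)) (add_zero q) := (Ext.comp_mk₀_id x).symm
  rw [h1, hF.eq_of_src (𝟙 F) 0, Ext.mk₀_zero, Ext.comp_zero]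

theorem fl_X₃' (S : ShortComplex (EtCoh.Ab X)) (hS : S.ShortExact) (h1 : Fl S.X₁)
    (h2 : Fl S.X₂) : Fl S.X₃ := by
  intro W q hq x
  have h0 : x.comp hS.extClass rfl = 0 := h1 W (q + 1) (Nat.succ_pos q) _
  obtain ⟨x₂, hx₂⟩ := Ext.covariant_sequence_exact₃ (fr W) hS x rfl h0
  rw [← hx₂, h2 W q hq x₂, Ext.zero_comp]

/-- global sections -/
noncomputable abbrev Γ (X : Scheme.{u}) : EtCoh.Ab X ⥤ AddCommGrpCat.{u + 1} :=
  sheafToPresheaf X.smallEtaleTopology AddCommGrpCat.{u + 1} ⋙
    (evaluation X.Etaleᵒᵖ AddCommGrpCat.{u + 1}).obj (op (EtCoh.top X))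

theorem epi_Γ_of_fl (S : ShortComplex (EtCoh.Ab X)) (hS : S.ShortExact) (h1 : Fl S.X₁) :
    Epi ((Γ X).map S.g) := by
  rw [AddCommGrpCat.epi_iff_surjective]
  exact sections_surjective_of_fl S hS h1 (EtCoh.top X)

variable {U : Scheme.{u}} (j : U ⟶ X) [IsOpenImmersion j]

theorem fl_secSupp_of_injective (I : EtCoh.Ab X) [Injective I] :
    Fl ((EtDual.secSupp j).obj I) := by
  have hS := shortExact_onInj j I inferInstance
  haveI : Injective ((EtCoh.pull j).obj I) := injective_pull_of_etale j I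
  haveI : Injective ((EtCoh.push j).obj ((EtCoh.pull j).obj I)) := injective_push j _
  haveI : Injective ((𝟭 (EtCoh.Ab X)).obj I) := ‹Injective I›
  haveI : Injective ((EtCoh.pull j ⋙ EtCoh.push j).obj I) :=
    ‹Injective ((EtCoh.push j).obj ((EtCoh.pull j).obj I))›
  intro W q hq x
  obtain ⟨n, rfl⟩ : ∃ n, q = n + 1 := ⟨q - 1, by omega⟩
  have hx : x.comp (Ext.mk₀ ((alpha j).app I)) (add_zero (n + 1)) = 0 :=
    Ext.eq_zero_of_injective _
  obtain ⟨x₃, hx₃⟩ := Ext.covariant_sequence_exact₁ (fr W) hS x hx rfl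
  cases n with
  | zero =>
    obtain ⟨ψ, rfl⟩ := (Ext.mk₀_bijective _ _).2 x₃
    obtain ⟨s, hs⟩ := unit_sections_surjective j I W (frEquiv W _ ψ)
    have hψ : ψ = (frEquiv W I).symm s ≫ (beta j).app I := by
      apply (frEquiv W _).injective
      rw [frEquiv_comp, Equiv.apply_symm_apply]
      exact hs.symm
    rw [← hx₃, hψ, ← Ext.mk₀_comp_mk₀]
    refine (Ext.comp_assoc_of_second_deg_zero _ (Ext.mk₀ ((beta j).app I)) hS.extClass
      (zero_add 1)).trans ?_
    exact (congrArg (fun t => (Ext.mk₀ ((frEquiv W I).symm s)).comp t (zero_add 1))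
      hS.comp_extClass).trans (Ext.comp_zero _ _ _ _ _)
  | succ n =>
    rw [← hx₃, Ext.eq_zero_of_injective x₃, Ext.zero_comp]

theorem main5189 [EtCoh.BCCont j] (F : EtCoh.Ab X) (n : ℕ) (h : EtDepth.DepthGE j F n) :
    IsIso (RDer.edgeOut (EtDual.secSupp j)
      (sheafToPresheaf X.smallEtaleTopology AddCommGrpCat.{u + 1} ⋙
        (evaluation X.Etaleᵒᵖ AddCommGrpCat.{u + 1}).obj (op (EtCoh.top X))) n F) := by
  haveI : IsIso (RDer.homologyComparison (Γ X)
      (((EtDual.secSupp j).mapHomologicalComplex _).obj (injectiveResolution F).cocomplex) n) := by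
    apply isIso_homologyComparison (Γ X) Fl (fun e h => fl_of_iso e h)
      (fun X h => fl_of_isZero h) (fun S hS h1 h2 => fl_X₃' S hS h1 h2)
      (fun S hS h1 => epi_Γ_of_fl S hS h1)
    · intro p
      haveI : Injective ((injectiveResolution F).cocomplex.X p) :=
        (injectiveResolution F).injective p
      exact fl_secSupp_of_injective j _
    · intro p hp
      exact IsZero.of_iso (h p hp)
        ((injectiveResolution F).isoRightDerivedObj (EtDual.secSupp j) p).symm
  unfold RDer.edgeOut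
  infer_instance

end Groth.Agent.Lib.EtEdgeOutH7
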