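import Mathlib
import Groth.Prelude.Def_EtBase
import Groth.Prelude.Def_PBC
import Groth.Agent.Lib.EtPull_lead

/-!
# Extension by zero of constant sheaves: universal property, base change, splitting (lead)

Generic site-theoretic facts about `N ↦ j_{U!} N` (`LU`): it is left adjoint to sections over `U`
(`adjLU`), commutes with inverse image along a continuous functor (`LUpullIso`), and its restriction
to `C/W` is a constant sheaf as soon as sheaves on `C/W` turn `W × U` into a finite product of copies
of `W` along given sheets (`LUrestrIso`).
-/

set_option autoImplicit false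
set_option linter.unusedSimpArgs false
set_option linter.unusedVariables false
set_option linter.unusedSectionVars false
set_option linter.style.longLine false
set_option linter.unnecessarySimpa false
set_option maxHeartbeats 1600000
set_option backward.isDefEq.respectTransparency false
set_option backward.isDefEq.respectTransparency.types false
set_option backward.defeqAttrib.useBackward true

open CategoryTheory CategoryTheory.Limits AlgebraicGeometry Opposite

namespace Groth.Agent.Lib.EtExtZ

universe v₁ v₂ u₁ u₂ v' u' u

noncomputable section

section Generic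

variable {C : Type u₁} [Category.{v₁} C] {D : Type u₂} [Category.{v₂} D]
  (J : GrothendieckTopology C) (K : GrothendieckTopology D)
  (A : Type u') [Category.{v'} A]

section L

variable (U : C) [HasWeakSheafify (J.over U) A]
  [((Over.forget U).sheafPushforwardContinuous A (J.over U) J).IsRightAdjoint]

/-- `N ↦ j_{U!} N`: the constant sheaf on `C/U` extended by zero. -/
def LU : A ⥤ Sheaf J A :=
  constantSheaf (J.over U) A ⋙ (Over.forget U).sheafPullback A (J.over U) J

/-- `j_{U!} N` corepresents `G ↦ Hom(N, G(U))`. -/
def adjLU : LU J A U ⊣ (sheafSections J A).obj (op U) :=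
  ((constantSheafAdj (J.over U) A Over.mkIdTerminal).comp
    ((Over.forget U).sheafAdjunctionContinuous A (J.over U) J)).ofNatIsoRight
    (NatIso.ofComponents (fun H => Iso.refl _) (by
      intro H H' φ
      change φ.hom.app (op U) ≫ 𝟙 _ = 𝟙 _ ≫ φ.hom.app (op U)
      rw [Category.comp_id, Category.id_comp]))

end L

section BC

variable (G : C ⥤ D) [G.IsContinuous J K] [(G.sheafPushforwardContinuous A J K).IsRightAdjoint]
  (U : C) [HasWeakSheafify (J.over U) A] [HasWeakSheafify (K.over (G.obj U)) A]
  [((Over.forget U).sheafPushforwardContinuous A (J.over U) J).IsRightAdjoint]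
  [((Over.forget (G.obj U)).sheafPushforwardContinuous A (K.over (G.obj U)) K).IsRightAdjoint]

/-- Base change: the inverse image of `j_{U!} N` is `j_{GU!} N`. -/
def LUpullIso : LU J A U ⋙ G.sheafPullback A J K ≅ LU K A (G.obj U) :=
  (((adjLU J A U).comp (G.sheafAdjunctionContinuous A J K)).ofNatIsoRight
    (NatIso.ofComponents (fun H => Iso.refl _) (by
      intro H H' φ
      change φ.hom.app (op (G.obj U)) ≫ 𝟙 _ = 𝟙 _ ≫ φ.hom.app (op (G.obj U))
      rw [Category.comp_id, Category.id_comp]) :
      G.sheafPushforwardContinuous A J K ⋙ (sheafSections J A).obj (op U) ≅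
        (sheafSections K A).obj (op (G.obj U)))).leftAdjointUniq (adjLU K A (G.obj U))

end BC

section Split

variable [HasBinaryProducts C] (U W : C) {n : ℕ} (s : Fin n → (W ⟶ U))

/-- the sheet `σ_k : 1_W ⟶ (W × U → W)` attached to `s k : W ⟶ U`. -/
def sheet (k : Fin n) : Over.mk (𝟙 W) ⟶ (Over.star W).obj U :=
  Over.homMk (prod.lift (𝟙 W) (s k)) (by simp)

variable {J A}

/-- the cone `G'(W × U) ⟶ G'(W)` given by restriction along the sheets. -/
def coneSheets (G' : Sheaf (J.over W) A) :
    Cone ((Functor.const (Discrete (Fin n))).obj (G'.obj.obj (op (Over.mk (𝟙 W))))) where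
  pt := G'.obj.obj (op ((Over.star W).obj U))
  π := Discrete.natTrans (fun k => G'.obj.map (sheet U W s k.as).op)

variable (J A)

variable [HasWeakSheafify (J.over U) A] [HasWeakSheafify (J.over W) A]
  [((Over.forget U).sheafPushforwardContinuous A (J.over U) J).IsRightAdjoint]
  [HasLimitsOfShape (Discrete (Fin n)) A] [HasColimitsOfShape (Discrete (Fin n)) A]

/-- the comparison of right adjoints, under the splitting hypothesis. -/
def rightIsoSplit
    (hH : ∀ G' : Sheaf (J.over W) A, IsIso (limit.lift _ (coneSheets U W s G'))) :
    (Over.star W).sheafPushforwardContinuous A J (J.over W) ⋙ (sheafSections J A).obj (op U) ≅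
      (sheafSections (J.over W) A).obj (op (Over.mk (𝟙 W))) ⋙
        (Functor.const (Discrete (Fin n)) ⋙ lim) :=
  NatIso.ofComponents
    (fun G' => @asIso _ _ _ _ (limit.lift _ (coneSheets U W s G')) (hH G'))
    (by
      intro G' G'' φ
      apply limit.hom_ext
      intro j
      change (φ.hom.app (op ((Over.star W).obj U)) ≫ limit.lift _ (coneSheets U W s G'')) ≫
          limit.π _ j =
        (limit.lift _ (coneSheets U W s G') ≫
          limMap ((Functor.const (Discrete (Fin n))).map (φ.hom.app (op (Over.mk (𝟙 W)))))) ≫
          limit.π _ j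
      rw [Category.assoc, limit.lift_π, Category.assoc, limMap_π, ← Category.assoc, limit.lift_π]
      exact (φ.hom.naturality (sheet U W s j.as).op).symm)

/-- If sheaves on `C/W` turn `W × U` into the product of `n` copies of `W` along the sheets, then
`(j_{U!} N)|_W` is the constant sheaf with value `∐_{k < n} N`. -/
def LUrestrIso
    (hH : ∀ G' : Sheaf (J.over W) A, IsIso (limit.lift _ (coneSheets U W s G'))) :
    LU J A U ⋙ J.overPullback A W ≅
      (Functor.const (Discrete (Fin n)) ⋙ colim) ⋙ constantSheaf (J.over W) A :=
  (((adjLU J A U).comp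
      ((Over.forgetAdjStar W).sheafPushforwardContinuous (E := A) (J.over W) J)).ofNatIsoRight
    (rightIsoSplit J A U W s hH)).leftAdjointUniq
    ((constLimAdj.comp colimConstAdj).comp (constantSheafAdj (J.over W) A Over.mkIdTerminal))

end Split

end Generic

end

end Groth.Agent.Lib.EtExtZ
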