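import Mathlib
import Groth.Agent.Lib.SchDescent_helper6

/-!
# Finite étale covers are split by a finite locally free cover (helper6)

* `finrank_add`: additivity of `Scheme.Hom.finrank` on a clopen decomposition of the source.
* `exists_split`: a finite étale morphism of constant rank `n` becomes a trivial cover after a
  finite locally free surjective base change (induction on `n` removing the diagonal).
* `isFinite_fold`, `etale_fold`: the fold map `∐_{Fin n} Y ⟶ Y` is finite étale.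
-/

set_option autoImplicit false
universe u
open CategoryTheory CategoryTheory.Limits AlgebraicGeometry TopologicalSpace

namespace Groth.Agent.Lib.FEtSplitH6



theorem range_fst_of_isPullback {P X Y Z : Scheme.{u}} {fst : P ⟶ X} {snd : P ⟶ Y} {f : X ⟶ Z}
    {g : Y ⟶ Z} (h : IsPullback fst snd f g) : Set.range fst = f ⁻¹' Set.range g := by
  rw [← Scheme.Pullback.range_fst, ← h.isoPullback_hom_fst]
  ext x
  constructor
  · rintro ⟨y, rfl⟩
    exact ⟨h.isoPullback.hom y, by rw [Scheme.Hom.comp_apply]⟩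
  · rintro ⟨y, rfl⟩
    refine ⟨h.isoPullback.inv y, ?_⟩
    rw [← Scheme.Hom.comp_apply]
    simp

/-- `p : E ⟶ Y` is a trivial cover with sheets indexed by `ι`. -/
def Triv (ι : Type) {E Y : Scheme.{u}} (p : E ⟶ Y) : Prop :=
  ∃ σ : ι → (Y ⟶ E), (∀ i, σ i ≫ p = 𝟙 Y) ∧ (∀ i, IsOpenImmersion (σ i)) ∧
    (∀ i j, i ≠ j → Disjoint (Set.range (σ i)) (Set.range (σ j))) ∧
    ∀ x : E, ∃ i, x ∈ Set.range (σ i)

theorem triv_empty {E Y : Scheme.{u}} (p : E ⟶ Y) [IsEmpty E] : Triv Empty p :=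
  ⟨fun i => i.elim, fun i => i.elim, fun i => i.elim, fun i => i.elim, fun x => isEmptyElim x⟩

theorem triv_glue {ι : Type} {E E₁ E₂ Y : Scheme.{u}} (p : E ⟶ Y) (j₁ : E₁ ⟶ E) (j₂ : E₂ ⟶ E)
    [IsOpenImmersion j₁] [IsOpenImmersion j₂]
    (hd : Disjoint (Set.range j₁) (Set.range j₂))
    (hcov : ∀ x : E, x ∈ Set.range j₁ ∨ x ∈ Set.range j₂)
    [IsIso (j₁ ≫ p)] (h₂ : Triv ι (j₂ ≫ p)) : Triv (Option ι) p := by
  obtain ⟨τ, hτ1, hτ2, hτ3, hτ4⟩ := h₂
  refine ⟨fun o => o.elim (inv (j₁ ≫ p) ≫ j₁) (fun i => τ i ≫ j₂), ?_, ?_, ?_, ?_⟩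
  · rintro (_ | i)
    · simp
    · simpa using hτ1 i
  · rintro (_ | i)
    · dsimp; infer_instance
    · haveI := hτ2 i
      dsimp; infer_instance
  · have hsub1 : Set.range (inv (j₁ ≫ p) ≫ j₁) ⊆ Set.range j₁ := by
      rintro _ ⟨y, rfl⟩
      exact ⟨_, (Scheme.Hom.comp_apply _ _ _).symm⟩
    have hsub2 : ∀ i, Set.range (τ i ≫ j₂) ⊆ Set.range j₂ := by
      rintro i _ ⟨y, rfl⟩
      exact ⟨_, (Scheme.Hom.comp_apply _ _ _).symm⟩
    rintro (_ | i) (_ | j) hne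
    · exact absurd rfl hne
    · exact Set.disjoint_of_subset hsub1 (hsub2 j) hd
    · exact Set.disjoint_of_subset (hsub2 i) hsub1 hd.symm
    · have hij : i ≠ j := fun h => hne (by rw [h])
      have := hτ3 i j hij
      dsimp
      rw [Set.disjoint_left] at this ⊢
      rintro _ ⟨y, rfl⟩ ⟨y', hy'⟩
      have h3 : (τ j) y' = (τ i) y := j₂.isOpenEmbedding.injective hy'
      exact this (a := τ i y) ⟨y, rfl⟩ ⟨y', h3⟩
  · intro x
    rcases hcov x with ⟨y, rfl⟩ | ⟨y, rfl⟩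
    · refine ⟨none, (j₁ ≫ p) y, ?_⟩
      show (inv (j₁ ≫ p) ≫ j₁) ((j₁ ≫ p) y) = j₁ y
      rw [← Scheme.Hom.comp_apply, IsIso.hom_inv_id_assoc]
    · obtain ⟨i, z, rfl⟩ := hτ4 y
      exact ⟨some i, z, Scheme.Hom.comp_apply _ _ _⟩






theorem triv_of_equiv {ι κ : Type} (eq : ι ≃ κ) {E Y : Scheme.{u}} (p : E ⟶ Y) (h : Triv ι p) :
    Triv κ p := by
  obtain ⟨σ, h1, h2, h3, h4⟩ := h
  refine ⟨fun k => σ (eq.symm k), fun k => h1 _, fun k => h2 _, fun k l hkl => ?_, fun x => ?_⟩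
  · exact h3 _ _ (fun h => hkl (eq.symm.injective h))
  · obtain ⟨i, hi⟩ := h4 x
    exact ⟨eq i, by simpa using hi⟩

theorem exists_iso_of_triv_fin {n : ℕ} {E Y : Scheme.{u}} (p : E ⟶ Y) (h : Triv (Fin n) p) :
    ∃ (e : E ≅ ∐ fun _ : Fin n => Y),
      ∀ i : Fin n, Sigma.ι (fun _ : Fin n => Y) i ≫ e.inv ≫ p = 𝟙 Y := by
  obtain ⟨σ, h1, h2, h3, h4⟩ := h
  have hcov : ⨆ k, (σ k).opensRange = ⊤ := by
    rw [eq_top_iff]
    rintro x -
    obtain ⟨i, hi⟩ := h4 x
    simp only [Opens.iSup_mk, Opens.mem_mk, Set.mem_iUnion]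
    exact ⟨i, hi⟩
  have hdisj : Pairwise (Function.onFun Disjoint (fun k => (σ k).opensRange)) := by
    intro k l hkl
    have := h3 k l hkl
    rw [Function.onFun_apply, disjoint_iff, Opens.ext_iff]
    simpa [Set.disjoint_iff_inter_eq_empty] using this
  obtain ⟨hc⟩ := nonempty_isColimit_cofanMk_of σ hcov hdisj
  refine ⟨hc.coconePointUniqueUpToIso (coproductIsCoproduct fun _ : Fin n => Y), fun k => ?_⟩
  have := IsColimit.comp_coconePointUniqueUpToIso_inv hc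
    (coproductIsCoproduct fun _ : Fin n => Y) ⟨k⟩
  dsimp at this
  rw [← Category.assoc, this]
  exact h1 _

theorem exists_iso_of_triv {ι : Type} [Finite ι] {E Y : Scheme.{u}} (p : E ⟶ Y) (h : Triv ι p) :
    ∃ (n : ℕ) (e : E ≅ ∐ fun _ : Fin n => Y),
      ∀ i : Fin n, Sigma.ι (fun _ : Fin n => Y) i ≫ e.inv ≫ p = 𝟙 Y := by
  obtain ⟨n, ⟨eq⟩⟩ := Finite.exists_equiv_fin ι
  exact ⟨n, exists_iso_of_triv_fin p (triv_of_equiv eq p h)⟩



theorem finrank_specMap_prod {R A₁ A₂ : CommRingCat.{u}} (a₁ : R ⟶ A₁) (a₂ : R ⟶ A₂)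
    (h1 : a₁.hom.Finite) (h1' : a₁.hom.Flat) (h2 : a₂.hom.Finite) (h2' : a₂.hom.Flat)
    (hfin : (a₁.hom.prod a₂.hom).Finite) (hflat : (a₁.hom.prod a₂.hom).Flat)
    (y : Spec R) :
    (Spec.map (CommRingCat.ofHom (a₁.hom.prod a₂.hom))).finrank y =
      (Spec.map a₁).finrank y + (Spec.map a₂).finrank y := by
  algebraize [a₁.hom, a₂.hom]
  rw [Scheme.Hom.finrank_SpecMap_eq_finrank h1 h1', Scheme.Hom.finrank_SpecMap_eq_finrank h2 h2',
    Scheme.Hom.finrank_SpecMap_eq_finrank (f := CommRingCat.ofHom (a₁.hom.prod a₂.hom)) hfin hflat]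
  change (algebraMap R (A₁ × A₂)).finrank y = (algebraMap R A₁).finrank y + (algebraMap R A₂).finrank y
  rw [RingHom.finrank_algebraMap, RingHom.finrank_algebraMap, RingHom.finrank_algebraMap,
    Module.rankAtStalk_prod]
  rfl





theorem isIso_coprodDesc_of_isCompl {E E₁ E₂ : Scheme.{u}} (j₁ : E₁ ⟶ E) (j₂ : E₂ ⟶ E)
    [IsOpenImmersion j₁] [IsOpenImmersion j₂] (hc : IsCompl j₁.opensRange j₂.opensRange) :
    IsIso (coprod.desc j₁ j₂) := by
  obtain ⟨hc'⟩ := nonempty_isColimit_binaryCofanMk_of_isCompl j₁ j₂ hc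
  have : coprod.desc j₁ j₂ =
      ((coprodIsCoprod E₁ E₂).coconePointUniqueUpToIso hc').hom := by
    apply coprod.hom_ext
    · rw [coprod.inl_desc]
      exact ((coprodIsCoprod E₁ E₂).comp_coconePointUniqueUpToIso_hom hc' ⟨WalkingPair.left⟩).symm
    · rw [coprod.inr_desc]
      exact ((coprodIsCoprod E₁ E₂).comp_coconePointUniqueUpToIso_hom hc' ⟨WalkingPair.right⟩).symm
  rw [this]
  infer_instance

theorem finrank_add_affine {R : CommRingCat.{u}} {E E₁ E₂ : Scheme.{u}} (p : E ⟶ Spec R)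
    (p₁ : E₁ ⟶ Spec R) (p₂ : E₂ ⟶ Spec R) (j₁ : E₁ ⟶ E) (j₂ : E₂ ⟶ E)
    [IsOpenImmersion j₁] [IsOpenImmersion j₂] (hc : IsCompl j₁.opensRange j₂.opensRange)
    (h₁ : j₁ ≫ p = p₁) (h₂ : j₂ ≫ p = p₂) [IsFinite p] [Flat p] [IsFinite p₁] [Flat p₁]
    [IsFinite p₂] [Flat p₂] (y : Spec R) :
    p.finrank y = p₁.finrank y + p₂.finrank y := by
  haveI : IsAffine E₁ := isAffine_of_isAffineHom p₁
  haveI : IsAffine E₂ := isAffine_of_isAffineHom p₂
  obtain ⟨a₁, ha₁⟩ : ∃ a₁ : R ⟶ Γ(E₁, ⊤), Spec.map a₁ = E₁.isoSpec.inv ≫ p₁ :=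
    ⟨Spec.preimage _, Spec.map_preimage _⟩
  obtain ⟨a₂, ha₂⟩ : ∃ a₂ : R ⟶ Γ(E₂, ⊤), Spec.map a₂ = E₂.isoSpec.inv ≫ p₂ :=
    ⟨Spec.preimage _, Spec.map_preimage _⟩
  haveI : IsFinite (Spec.map a₁) := by rw [ha₁]; infer_instance
  haveI : Flat (Spec.map a₁) := by rw [ha₁]; infer_instance
  haveI : IsFinite (Spec.map a₂) := by rw [ha₂]; infer_instance
  haveI : Flat (Spec.map a₂) := by rw [ha₂]; infer_instance
  have f1 : a₁.hom.Finite := (IsFinite.SpecMap_iff a₁).mp inferInstance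
  have f1' : a₁.hom.Flat := Flat.SpecMap_iff.mp inferInstance
  have f2 : a₂.hom.Finite := (IsFinite.SpecMap_iff a₂).mp inferInstance
  have f2' : a₂.hom.Flat := Flat.SpecMap_iff.mp inferInstance
  haveI := isIso_coprodDesc_of_isCompl j₁ j₂ hc
  obtain ⟨θ, hθ⟩ : ∃ θ : Spec (.of (Γ(E₁, ⊤) × Γ(E₂, ⊤))) ⟶ E,
      θ = inv (coprodSpec Γ(E₁, ⊤) Γ(E₂, ⊤)) ≫ coprod.map E₁.isoSpec.inv E₂.isoSpec.inv ≫
        coprod.desc j₁ j₂ := ⟨_, rfl⟩
  haveI : IsIso θ := by rw [hθ]; infer_instance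
  have key : θ ≫ p = Spec.map (CommRingCat.ofHom (a₁.hom.prod a₂.hom)) := by
    rw [hθ, ← cancel_epi (coprodSpec Γ(E₁, ⊤) Γ(E₂, ⊤))]
    apply coprod.hom_ext
    · simp only [Category.assoc, IsIso.hom_inv_id_assoc, coprod.inl_map_assoc, coprod.inl_desc_assoc]
      rw [h₁, ← ha₁, ← Category.assoc, coprodSpec_inl, ← Spec.map_comp]
      rfl
    · simp only [Category.assoc, IsIso.hom_inv_id_assoc, coprod.inr_map_assoc, coprod.inr_desc_assoc]
      rw [h₂, ← ha₂, ← Category.assoc, coprodSpec_inr, ← Spec.map_comp]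
      rfl
  haveI : IsFinite (Spec.map (CommRingCat.ofHom (a₁.hom.prod a₂.hom))) := by
    rw [← key]; infer_instance
  haveI : Flat (Spec.map (CommRingCat.ofHom (a₁.hom.prod a₂.hom))) := by
    rw [← key]; infer_instance
  have f3 : (a₁.hom.prod a₂.hom).Finite :=
    (IsFinite.SpecMap_iff (CommRingCat.ofHom (a₁.hom.prod a₂.hom))).mp inferInstance
  have f3' : (a₁.hom.prod a₂.hom).Flat :=
    Flat.SpecMap_iff (f := CommRingCat.ofHom (a₁.hom.prod a₂.hom)).mp inferInstance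
  have e0 := finrank_specMap_prod a₁ a₂ f1 f1' f2 f2' f3 f3' y
  rw [← key, Scheme.Hom.finrank_comp_left_of_isIso, ha₁, ha₂,
    Scheme.Hom.finrank_comp_left_of_isIso, Scheme.Hom.finrank_comp_left_of_isIso] at e0
  exact e0





theorem isCompl_opensRange {E E₁ E₂ : Scheme.{u}} (j₁ : E₁ ⟶ E) (j₂ : E₂ ⟶ E)
    [IsOpenImmersion j₁] [IsOpenImmersion j₂]
    (hd : Disjoint (Set.range j₁) (Set.range j₂))
    (hcov : ∀ x : E, x ∈ Set.range j₁ ∨ x ∈ Set.range j₂) :
    IsCompl j₁.opensRange j₂.opensRange := by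
  rw [isCompl_iff, disjoint_iff, codisjoint_iff]
  constructor
  · apply Opens.ext
    simpa [Set.disjoint_iff_inter_eq_empty] using hd
  · rw [eq_top_iff]
    rintro x -
    rcases hcov x with h | h
    · exact Or.inl h
    · exact Or.inr h



theorem finrank_add {X E E₁ E₂ : Scheme.{u}} (p : E ⟶ X)
    (p₁ : E₁ ⟶ X) (p₂ : E₂ ⟶ X) (j₁ : E₁ ⟶ E) (j₂ : E₂ ⟶ E)
    [IsOpenImmersion j₁] [IsOpenImmersion j₂]
    (hd : Disjoint (Set.range j₁) (Set.range j₂))
    (hcov : ∀ x : E, x ∈ Set.range j₁ ∨ x ∈ Set.range j₂)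
    (h₁ : j₁ ≫ p = p₁) (h₂ : j₂ ≫ p = p₂) [IsFinite p] [Flat p] [IsFinite p₁] [Flat p₁]
    [IsFinite p₂] [Flat p₂] (x : X) :
    p.finrank x = p₁.finrank x + p₂.finrank x := by
  obtain ⟨R, h, _, y, rfl⟩ := X.exists_Spec_apply_eq x
  rw [← Scheme.Hom.finrank_pullback_snd p h, ← Scheme.Hom.finrank_pullback_snd p₁ h,
    ← Scheme.Hom.finrank_pullback_snd p₂ h]
  obtain ⟨k₁, hk₁⟩ : ∃ k₁ : pullback p₁ h ⟶ pullback p h, k₁ =
      pullback.map p₁ h p h j₁ (𝟙 _) (𝟙 _) (by simp [h₁]) (by simp) := ⟨_, rfl⟩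
  obtain ⟨k₂, hk₂⟩ : ∃ k₂ : pullback p₂ h ⟶ pullback p h, k₂ =
      pullback.map p₂ h p h j₂ (𝟙 _) (𝟙 _) (by simp [h₂]) (by simp) := ⟨_, rfl⟩
  have e1 : k₁ ≫ pullback.snd p h = pullback.snd p₁ h := by
    rw [hk₁, pullback.lift_snd, Category.comp_id]
  have e2 : k₂ ≫ pullback.snd p h = pullback.snd p₂ h := by
    rw [hk₂, pullback.lift_snd, Category.comp_id]
  have e1' : k₁ ≫ pullback.fst p h = pullback.fst p₁ h ≫ j₁ := by rw [hk₁, pullback.lift_fst]
  have e2' : k₂ ≫ pullback.fst p h = pullback.fst p₂ h ≫ j₂ := by rw [hk₂, pullback.lift_fst]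
  have pb1 : IsPullback k₁ (pullback.fst p₁ h) (pullback.fst p h) j₁ := by
    refine IsPullback.of_right ?_ e1' (IsPullback.of_hasPullback p h).flip
    rw [e1, h₁]
    exact (IsPullback.of_hasPullback p₁ h).flip
  have pb2 : IsPullback k₂ (pullback.fst p₂ h) (pullback.fst p h) j₂ := by
    refine IsPullback.of_right ?_ e2' (IsPullback.of_hasPullback p h).flip
    rw [e2, h₂]
    exact (IsPullback.of_hasPullback p₂ h).flip
  haveI : IsOpenImmersion k₁ := MorphismProperty.of_isPullback (P := @IsOpenImmersion) pb1.flip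
    inferInstance
  haveI : IsOpenImmersion k₂ := MorphismProperty.of_isPullback (P := @IsOpenImmersion) pb2.flip
    inferInstance
  have r1 := range_fst_of_isPullback pb1
  have r2 := range_fst_of_isPullback pb2
  refine finrank_add_affine (pullback.snd p h) (pullback.snd p₁ h) (pullback.snd p₂ h) k₁ k₂
    (isCompl_opensRange k₁ k₂ ?_ ?_) e1 e2 y
  · rw [r1, r2]
    exact hd.preimage _
  · intro z
    rw [r1, r2]
    exact hcov _













/-- the complement of the diagonal of a finite étale morphism -/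
theorem exists_diag_compl {X S : Scheme.{u}} (φ : X ⟶ S) [IsFinite φ] [Etale φ] :
    ∃ (X' : Scheme.{u}) (j : X' ⟶ pullback φ φ), IsOpenImmersion j ∧ IsClosedImmersion j ∧
      Disjoint (Set.range (pullback.diagonal φ)) (Set.range j) ∧
      ∀ x, x ∈ Set.range (pullback.diagonal φ) ∨ x ∈ Set.range j := by
  have hcl : IsClosed (Set.range (pullback.diagonal φ)) :=
    (pullback.diagonal φ).isClosedEmbedding.isClosed_range
  obtain ⟨U, hU⟩ : ∃ U : (pullback φ φ).Opens, (U : Set ↥(pullback φ φ)) =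
      (Set.range (pullback.diagonal φ))ᶜ := ⟨⟨_, hcl.isOpen_compl⟩, rfl⟩
  have hr : Set.range U.ι = (Set.range (pullback.diagonal φ))ᶜ := by
    rw [Scheme.Opens.range_ι, hU]
  refine ⟨U, U.ι, inferInstance, ?_, ?_, ?_⟩
  · refine IsClosedImmersion.of_isPreimmersion _ ?_
    rw [hr]
    exact (pullback.diagonal φ).isOpenEmbedding.isOpen_range.isClosed_compl
  · rw [hr]
    exact disjoint_compl_right
  · intro x
    rw [hr]
    exact em _

theorem exists_split : ∀ (n : ℕ) {X S : Scheme.{u}} (φ : X ⟶ S) [IsFinite φ] [Etale φ],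
    (∀ s, φ.finrank s = n) → ∃ (Y : Scheme.{u}) (ψ : Y ⟶ S), IsFinite ψ ∧ Flat ψ ∧
      LocallyOfFinitePresentation ψ ∧ Surjective ψ ∧
      ∃ (ι : Type) (_ : Finite ι), Triv ι (pullback.snd φ ψ) := by
  intro n
  induction n with
  | zero =>
    intro X S φ _ _ h
    haveI : IsEmpty X := ⟨fun x => by
      have := Scheme.Hom.one_le_finrank_map φ x
      rw [h] at this
      omega⟩
    haveI : IsEmpty ↥(pullback φ (𝟙 S)) := Function.isEmpty (pullback.fst φ (𝟙 S))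
    exact ⟨S, 𝟙 S, inferInstance, inferInstance, inferInstance, inferInstance, Empty, inferInstance,
      triv_empty _⟩
  | succ n ih =>
    intro X S φ _ _ h
    haveI hsurj : Surjective φ := by
      rw [← Scheme.Hom.one_le_finrank_iff_surjective]
      intro s
      rw [h s]
      exact Nat.succ_le_succ (Nat.zero_le _)
    obtain ⟨X', j, hj1, hj2, hjd, hjc⟩ := exists_diag_compl φ
    obtain ⟨q, hq⟩ : ∃ q : X' ⟶ X, q = j ≫ pullback.snd φ φ := ⟨_, rfl⟩
    haveI : IsFinite q := by rw [hq]; infer_instance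
    haveI : Etale q := by rw [hq]; infer_instance
    have hqrank : ∀ x, q.finrank x = n := by
      intro x
      have h1 := finrank_add (pullback.snd φ φ) (𝟙 X) q (pullback.diagonal φ) j hjd hjc
        (by simp) hq.symm x
      rw [Scheme.Hom.finrank_pullback_snd, h, Scheme.Hom.finrank_eq_one_of_isIso] at h1
      simp only [Pi.one_apply] at h1
      omega
    obtain ⟨Y, ψ', hψ1, hψ2, hψ3, hψ4, ι, hι, hT⟩ := ih q hqrank
    refine ⟨Y, ψ' ≫ φ, inferInstance, inferInstance, inferInstance, inferInstance, Option ι,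
      inferInstance, ?_⟩
    -- the comparison map `u : E ⟶ X ×_S X`
    obtain ⟨u, hu⟩ : ∃ u : pullback φ (ψ' ≫ φ) ⟶ pullback φ φ, u =
        pullback.lift (pullback.fst φ (ψ' ≫ φ)) (pullback.snd φ (ψ' ≫ φ) ≫ ψ')
          (by rw [Category.assoc, pullback.condition]) := ⟨_, rfl⟩
    have hu1 : u ≫ pullback.fst φ φ = pullback.fst φ (ψ' ≫ φ) := by rw [hu, pullback.lift_fst]
    have hu2 : u ≫ pullback.snd φ φ = pullback.snd φ (ψ' ≫ φ) ≫ ψ' := by
      rw [hu, pullback.lift_snd]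
    have pbE : IsPullback u (pullback.snd φ (ψ' ≫ φ)) (pullback.snd φ φ) ψ' := by
      refine IsPullback.of_right ?_ hu2 (IsPullback.of_hasPullback φ φ)
      rw [hu1]
      exact IsPullback.of_hasPullback φ (ψ' ≫ φ)
    -- the diagonal sheet
    obtain ⟨j₁, hj₁⟩ : ∃ j₁ : Y ⟶ pullback φ (ψ' ≫ φ), j₁ =
        pullback.lift ψ' (𝟙 Y) (by simp) := ⟨_, rfl⟩
    have hj₁s : j₁ ≫ pullback.snd φ (ψ' ≫ φ) = 𝟙 Y := by rw [hj₁, pullback.lift_snd]
    have hj₁f : j₁ ≫ pullback.fst φ (ψ' ≫ φ) = ψ' := by rw [hj₁, pullback.lift_fst]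
    have hj₁u : j₁ ≫ u = ψ' ≫ pullback.diagonal φ := by
      apply pullback.hom_ext
      · rw [Category.assoc, hu1, hj₁f, Category.assoc, pullback.diagonal_fst, Category.comp_id]
      · rw [Category.assoc, hu2, ← Category.assoc, hj₁s, Category.id_comp, Category.assoc,
          pullback.diagonal_snd, Category.comp_id]
    have pb1 : IsPullback j₁ ψ' u (pullback.diagonal φ) := by
      refine IsPullback.of_right ?_ hj₁u pbE.flip
      rw [hj₁s, pullback.diagonal_snd]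
      exact IsPullback.of_horiz_isIso ⟨by simp⟩
    -- the remaining sheets
    obtain ⟨j₂, hj₂⟩ : ∃ j₂ : pullback q ψ' ⟶ pullback φ (ψ' ≫ φ), j₂ =
        pbE.lift (pullback.fst q ψ' ≫ j) (pullback.snd q ψ')
          (by rw [Category.assoc, ← hq, pullback.condition]) := ⟨_, rfl⟩
    have hj₂u : j₂ ≫ u = pullback.fst q ψ' ≫ j := by rw [hj₂, pbE.lift_fst]
    have hj₂s : j₂ ≫ pullback.snd φ (ψ' ≫ φ) = pullback.snd q ψ' := by rw [hj₂, pbE.lift_snd]
    have pb2 : IsPullback j₂ (pullback.fst q ψ') u j := by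
      refine IsPullback.of_right ?_ hj₂u pbE.flip
      rw [hj₂s, ← hq]
      exact (IsPullback.of_hasPullback q ψ').flip
    haveI : IsOpenImmersion j₁ := MorphismProperty.of_isPullback (P := @IsOpenImmersion) pb1.flip
      inferInstance
    haveI : IsOpenImmersion j₂ := MorphismProperty.of_isPullback (P := @IsOpenImmersion) pb2.flip
      hj1
    have r1 := range_fst_of_isPullback pb1
    have r2 := range_fst_of_isPullback pb2
    haveI : IsIso (j₁ ≫ pullback.snd φ (ψ' ≫ φ)) := by rw [hj₁s]; infer_instance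
    refine triv_glue (pullback.snd φ (ψ' ≫ φ)) j₁ j₂ ?_ ?_ ?_
    · rw [r1, r2]
      exact hjd.preimage _
    · intro z
      rw [r1, r2]
      exact hjc _
    · rw [hj₂s]
      exact hT



theorem isFinite_sigmaDesc_fin : ∀ (n : ℕ) {X : Scheme.{u}} (Y : Fin n → Scheme.{u})
    (f : ∀ i, Y i ⟶ X), (∀ i, IsFinite (f i)) → IsFinite (Sigma.desc f) := by
  intro n
  induction n with
  | zero =>
    intro X Y f _
    haveI : IsEmpty ↥(∐ Y) := ⟨fun x => ((sigmaOpenCover Y).idx x).elim0⟩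
    infer_instance
  | succ n ih =>
    intro X Y f hf
    haveI := hf 0
    haveI : IsFinite (Sigma.desc fun i : Fin n => f i.succ) := ih _ _ (fun i => hf _)
    obtain ⟨a, ha⟩ : ∃ a : (∐ Y) ⟶ (Y 0 ⨿ ∐ fun k : Fin n => Y k.succ), a =
      Sigma.desc (Fin.cases (motive := fun i => Y i ⟶ (Y 0 ⨿ ∐ fun k : Fin n => Y k.succ))
        coprod.inl (fun k => Sigma.ι (fun k : Fin n => Y k.succ) k ≫ coprod.inr)) := ⟨_, rfl⟩
    obtain ⟨b, hb⟩ : ∃ b : (Y 0 ⨿ ∐ fun k : Fin n => Y k.succ) ⟶ ∐ Y, b =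
      coprod.desc (Sigma.ι Y 0) (Sigma.desc fun k : Fin n => Sigma.ι Y k.succ) := ⟨_, rfl⟩
    have ha0 : Sigma.ι Y 0 ≫ a = coprod.inl := by rw [ha, Sigma.ι_desc]; rfl
    have has : ∀ k : Fin n, Sigma.ι Y k.succ ≫ a =
        Sigma.ι (fun k : Fin n => Y k.succ) k ≫ coprod.inr := by
      intro k; rw [ha, Sigma.ι_desc]; rfl
    have hab : a ≫ b = 𝟙 _ := by
      apply Sigma.hom_ext
      intro i
      refine Fin.cases ?_ (fun k => ?_) i
      · rw [← Category.assoc, ha0, hb, coprod.inl_desc, Category.comp_id]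
      · rw [← Category.assoc, has, hb, Category.assoc, coprod.inr_desc, Sigma.ι_desc,
          Category.comp_id]
    have hba : b ≫ a = 𝟙 _ := by
      apply coprod.hom_ext
      · rw [hb, coprod.inl_desc_assoc, ha0, Category.comp_id]
      · apply Sigma.hom_ext
        intro k
        rw [hb, coprod.inr_desc_assoc, Sigma.ι_desc_assoc, has, Category.comp_id]
    haveI : IsIso a := ⟨b, hab, hba⟩
    have he : Sigma.desc f = a ≫ coprod.desc (f 0) (Sigma.desc fun i : Fin n => f i.succ) := by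
      apply Sigma.hom_ext
      intro i
      rw [Sigma.ι_desc]
      refine Fin.cases ?_ (fun k => ?_) i
      · rw [← Category.assoc, ha0, coprod.inl_desc]
      · rw [← Category.assoc, has, Category.assoc, coprod.inr_desc, Sigma.ι_desc]
    rw [he]
    infer_instance

theorem isFinite_fold (n : ℕ) (Y : Scheme.{u}) :
    IsFinite (Sigma.desc (fun _ : Fin n => 𝟙 Y)) :=
  isFinite_sigmaDesc_fin n _ _ (fun _ => inferInstance)

theorem etale_fold (n : ℕ) (Y : Scheme.{u}) :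
    Etale (Sigma.desc (fun _ : Fin n => 𝟙 Y)) :=
  IsZariskiLocalAtSource.sigmaDesc (fun _ => inferInstance)


end Groth.Agent.Lib.FEtSplitH6
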