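import Mathlib
import Groth.Prelude.Def_EtBase
import Groth.Agent.Lib.EtSchSite_helper7
import Groth.Agent.Lib.EtFinGeomA_helper7
import Groth.Agent.Lib.EtLocConstSerre_lead
import Groth.Agent.Lib.EtZeroDim_helper7
import Groth.Agent.Lib.FEtSplit_helper6

/-!
# Direct image of a finite locally constant sheaf along a split cover (helper7)

If `P` is étale over `Y` and `X ×_Y P` is covered by the disjoint images of finitely many
sections `s_k : P ⟶ X` (a `SheetCover`), and `F` is trivialised near each sheet, then `f_* F` is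
constant on `P` (in the form of lead's `LCData`).
-/

set_option autoImplicit false
set_option backward.isDefEq.respectTransparency false
set_option backward.isDefEq.respectTransparency.types false
set_option linter.style.haveILetI false
set_option linter.unusedSectionVars false
universe u
open CategoryTheory CategoryTheory.Limits AlgebraicGeometry Opposite

namespace Groth.Agent.Lib.EtFlcPushH7

open Groth.Agent.Lib.EtSchSite_helper7 Groth.Agent.Lib.EtFinGeomH7 Groth.Agent.Lib.EtLocConst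
  Groth.Agent.Lib.FEtSplitH6

section Glue

variable {X : Scheme.{u}}

theorem mono_of_left_mono {A B : X.Etale} (f : A ⟶ B) [Mono f.left] : Mono f :=
  ⟨fun g h e => by
    apply MorphismProperty.Over.Hom.ext
    have e' : g.left ≫ f.left = h.left ≫ f.left := congrArg (fun φ => φ.left) e
    exact (cancel_mono f.left).1 e'⟩

variable {ι : Type} {E : X.Etale} (Q : ι → X.Etale) (σ : ∀ k, Q k ⟶ E)
  (hcov : ∀ e : E.left, ∃ k, e ∈ Set.range (σ k).left)

include hcov in
theorem fam_cover_mem : Sieve.ofArrows Q σ ∈ X.smallEtaleTopology E := by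
  apply sieve_mem_of_forall_exists
  intro w
  obtain ⟨k, hk⟩ := hcov w
  exact ⟨Q k, σ k, Sieve.ofArrows_mk _ _ k, hk⟩

include hcov in
theorem fam_sheafFor (F : EtCoh.Ab X) :
    Presieve.IsSheafFor (F.obj ⋙ forget AddCommGrpCat.{u + 1}) (Presieve.ofArrows Q σ) := by
  have hF : Presieve.IsSheaf X.smallEtaleTopology (F.obj ⋙ forget AddCommGrpCat.{u + 1}) :=
    (isSheaf_iff_isSheaf_of_type _ _).1
      ((Presheaf.isSheaf_iff_isSheaf_forget _ F.obj (forget AddCommGrpCat.{u + 1})).1 F.2)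
  exact (Presieve.isSheafFor_iff_generate _).2 (hF _ (fam_cover_mem Q σ hcov))

include hcov in
theorem glue_fam [∀ k, Mono (σ k)]
    (hd : ∀ k l, k ≠ l → Disjoint (Set.range (σ k).left) (Set.range (σ l).left))
    (F : EtCoh.Ab X) (s : ∀ k, F.obj.obj (op (Q k))) :
    ∃ r : F.obj.obj (op E), ∀ k, (F.obj.map (σ k).op).hom r = s k := by
  have hsh := fam_sheafFor Q σ hcov F
  rw [Presieve.isSheafFor_arrows_iff] at hsh
  obtain ⟨r, hr, -⟩ := hsh s (by
    intro k l Z gi gj hij
    by_cases hkl : k = l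
    · subst hkl
      have : gi = gj := (cancel_mono (σ k)).1 hij
      rw [this]
    · haveI : IsEmpty Z.left := by
        refine ⟨fun z => ?_⟩
        have e : gi.left ≫ (σ k).left = gj.left ≫ (σ l).left := congrArg (fun φ => φ.left) hij
        have e2 : (σ k).left (gi.left z) = (σ l).left (gj.left z) := by
          rw [← Scheme.Hom.comp_apply, ← Scheme.Hom.comp_apply, e]
        exact Set.disjoint_left.1 (hd k l hkl) ⟨gi.left z, rfl⟩ ⟨gj.left z, e2.symm⟩
      exact (Groth.Agent.Lib.EtZeroDim_helper7.subsingleton_of_isEmpty F Z).elim _ _)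
  exact ⟨r, hr⟩

include hcov in
theorem sep_fam (F : EtCoh.Ab X) (r r' : F.obj.obj (op E))
    (h : ∀ k, (F.obj.map (σ k).op).hom r = (F.obj.map (σ k).op).hom r') : r = r' := by
  have hsh := fam_sheafFor Q σ hcov F
  refine hsh.isSeparatedFor.ext ?_
  rintro Y f ⟨k⟩
  exact h k

end Glue

section Sheets

variable {X Y : Scheme.{u}} (f : X ⟶ Y) [Etale f]

theorem etale_of_lift {P : Y.Etale} (s : P.left ⟶ X) (hs : s ≫ f = P.hom) : Etale s := by
  haveI : Etale (s ≫ f) := by rw [hs]; infer_instance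
  exact Etale.of_comp s f

/-- the étale `X`-scheme given by an étale `Y`-scheme `P` together with a lift `P ⟶ X` -/
noncomputable abbrev sheetObj (P : Y.Etale) (s : P.left ⟶ X) (hs : s ≫ f = P.hom) : X.Etale :=
  @Scheme.Etale.mk X P.left s (etale_of_lift f s hs)

/-- the section `P ⟶ P ×_Y X` given by a lift -/
noncomputable def sheetMap (P : Y.Etale) (s : P.left ⟶ X) (hs : s ≫ f = P.hom) :
    sheetObj f P s hs ⟶ (EtCoh.bc f).obj P :=
  MorphismProperty.Over.homMk
    (pullback.lift (𝟙 P.left) s (by rw [Category.id_comp, hs]) :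
      P.left ⟶ ((EtCoh.bc f).obj P).left)
    (pullback.lift_snd _ _ _) trivial

theorem sheetMap_pr₁ (P : Y.Etale) (s : P.left ⟶ X) (hs : s ≫ f = P.hom) :
    (sheetMap f P s hs).left ≫ pr₁ f P = 𝟙 P.left :=
  pullback.lift_fst _ _ _

theorem sheetMap_hom (P : Y.Etale) (s : P.left ⟶ X) (hs : s ≫ f = P.hom) :
    (sheetMap f P s hs).left ≫ ((EtCoh.bc f).obj P).hom = s :=
  pullback.lift_snd _ _ _

instance mono_sheetMap (P : Y.Etale) (s : P.left ⟶ X) (hs : s ≫ f = P.hom) :
    Mono (sheetMap f P s hs) := by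
  haveI : IsSplitMono (sheetMap f P s hs).left :=
    IsSplitMono.mk' { retraction := pr₁ f P, id := sheetMap_pr₁ f P s hs }
  exact mono_of_left_mono _

theorem sheet_w {P Y' : Y.Etale} (h : Y' ⟶ P) (s : P.left ⟶ X) (hs : s ≫ f = P.hom) :
    (h.left ≫ s) ≫ f = Y'.hom := by
  rw [Category.assoc, hs]
  exact MorphismProperty.Over.w h

/-- the sheet over `Y'` maps to the sheet over `P` -/
noncomputable def sheetLift {P Y' : Y.Etale} (h : Y' ⟶ P) (s : P.left ⟶ X)
    (hs : s ≫ f = P.hom) :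
    sheetObj f Y' (h.left ≫ s) (sheet_w f h s hs) ⟶ sheetObj f P s hs :=
  MorphismProperty.Over.homMk h.left rfl trivial

theorem comp_left_assoc' {P Y' Y'' : Y.Etale} (h : Y' ⟶ P) (g : Y'' ⟶ Y') (s : P.left ⟶ X) :
    g.left ≫ (h.left ≫ s) = (g ≫ h).left ≫ s := by
  rw [← Category.assoc]
  rfl

/-- the map between the sheets over `Y''` and `Y'` -/
noncomputable def sheetHom {P Y' Y'' : Y.Etale} (h : Y' ⟶ P) (g : Y'' ⟶ Y') (s : P.left ⟶ X)
    (hs : s ≫ f = P.hom) :
    sheetObj f Y'' ((g ≫ h).left ≫ s) (sheet_w f (g ≫ h) s hs) ⟶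
      sheetObj f Y' (h.left ≫ s) (sheet_w f h s hs) :=
  MorphismProperty.Over.homMk g.left (comp_left_assoc' h g s) trivial

theorem sheetHom_comp_sheetLift {P Y' Y'' : Y.Etale} (h : Y' ⟶ P) (g : Y'' ⟶ Y')
    (s : P.left ⟶ X) (hs : s ≫ f = P.hom) :
    sheetHom f h g s hs ≫ sheetLift f h s hs = sheetLift f (g ≫ h) s hs := by
  apply MorphismProperty.Over.Hom.ext
  rfl

theorem sheetHom_comp_sheetMap {P Y' Y'' : Y.Etale} (h : Y' ⟶ P) (g : Y'' ⟶ Y')
    (s : P.left ⟶ X) (hs : s ≫ f = P.hom) :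
    sheetHom f h g s hs ≫ sheetMap f Y' (h.left ≫ s) (sheet_w f h s hs) =
      sheetMap f Y'' ((g ≫ h).left ≫ s) (sheet_w f (g ≫ h) s hs) ≫ (EtCoh.bc f).map g := by
  apply MorphismProperty.Over.Hom.ext
  show g.left ≫ (sheetMap f Y' (h.left ≫ s) (sheet_w f h s hs)).left =
    (sheetMap f Y'' ((g ≫ h).left ≫ s) (sheet_w f (g ≫ h) s hs)).left ≫
      ((EtCoh.bc f).map g).left
  apply bc_hom_ext f Y'
  · rw [Category.assoc, sheetMap_pr₁, Category.comp_id, Category.assoc, map_pr₁,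
      ← Category.assoc, sheetMap_pr₁, Category.id_comp]
  · rw [Category.assoc, sheetMap_hom, Category.assoc, map_hom, sheetMap_hom]
    exact comp_left_assoc' h g s

theorem isPullback_sheetMap {P Y' : Y.Etale} (h : Y' ⟶ P) (s : P.left ⟶ X)
    (hs : s ≫ f = P.hom) :
    IsPullback (sheetMap f Y' (h.left ≫ s) (sheet_w f h s hs)).left h.left
      ((EtCoh.bc f).map h).left (sheetMap f P s hs).left := by
  have e1 : (sheetMap f Y' (h.left ≫ s) (sheet_w f h s hs)).left ≫ pr₁ f Y' = 𝟙 Y'.left :=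
    sheetMap_pr₁ f Y' (h.left ≫ s) (sheet_w f h s hs)
  have e2 : (sheetMap f P s hs).left ≫ pr₁ f P = 𝟙 P.left := sheetMap_pr₁ f P s hs
  refine IsPullback.of_right (h₁₂ := pr₁ f Y') (h₂₂ := pr₁ f P) (v₁₃ := h.left) ?_ ?_ ?_
  · haveI : IsIso ((sheetMap f Y' (h.left ≫ s) (sheet_w f h s hs)).left ≫ pr₁ f Y') := by
      rw [e1]
      exact IsIso.id _
    haveI : IsIso ((sheetMap f P s hs).left ≫ pr₁ f P) := by
      rw [e2]
      exact IsIso.id _
    refine IsPullback.of_horiz_isIso ⟨?_⟩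
    rw [e1, e2]
    exact (Category.id_comp _).trans (Category.comp_id _).symm
  · apply bc_hom_ext f P
    · have l1 : ((sheetMap f Y' (h.left ≫ s) (sheet_w f h s hs)).left ≫
          ((EtCoh.bc f).map h).left) ≫ pr₁ f P = h.left := by
        rw [Category.assoc, map_pr₁, ← Category.assoc, e1]
        exact Category.id_comp _
      have l2 : (h.left ≫ (sheetMap f P s hs).left) ≫ pr₁ f P = h.left := by
        rw [Category.assoc, e2]
        exact Category.comp_id _
      exact l1.trans l2.symm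
    · rw [Category.assoc, map_hom, sheetMap_hom, Category.assoc, sheetMap_hom]
  · exact (EtCoh.isPullback_bc_map f h).flip

theorem range_sheetMap {P Y' : Y.Etale} (h : Y' ⟶ P) (s : P.left ⟶ X) (hs : s ≫ f = P.hom) :
    Set.range (sheetMap f Y' (h.left ≫ s) (sheet_w f h s hs)).left =
      ((EtCoh.bc f).map h).left ⁻¹' Set.range (sheetMap f P s hs).left :=
  range_fst_of_isPullback (isPullback_sheetMap f h s hs)

/-- `X ×_Y P` is covered by the disjoint images of `n` sections -/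
structure SheetCover (P : Y.Etale) (n : ℕ) where
  s : Fin n → (P.left ⟶ X)
  hs : ∀ k, s k ≫ f = P.hom
  disj : ∀ k l, k ≠ l → Disjoint (Set.range (sheetMap f P (s k) (hs k)).left)
    (Set.range (sheetMap f P (s l) (hs l)).left)
  cov : ∀ e : ((EtCoh.bc f).obj P).left, ∃ k, e ∈ Set.range (sheetMap f P (s k) (hs k)).left

variable {f}

/-- restriction of a sheet cover along `Y' ⟶ P` -/
noncomputable def SheetCover.restrict {P Y' : Y.Etale} {n : ℕ} (C : SheetCover f P n)
    (h : Y' ⟶ P) : SheetCover f Y' n where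
  s k := h.left ≫ C.s k
  hs k := sheet_w f h (C.s k) (C.hs k)
  disj k l hkl := by
    rw [range_sheetMap, range_sheetMap]
    exact (C.disj k l hkl).preimage _
  cov e := by
    obtain ⟨k, hk⟩ := C.cov (((EtCoh.bc f).map h).left e)
    refine ⟨k, ?_⟩
    rw [range_sheetMap]
    exact hk

variable (f)

/-- an étale `X`-scheme over a sheet, viewed as an étale `Y`-scheme -/
noncomputable abbrev downObj {Y' : Y.Etale} {s' : Y'.left ⟶ X} {hs' : s' ≫ f = Y'.hom}
    (Zk : X.Etale) (gk : Zk ⟶ sheetObj f Y' s' hs') : Y.Etale :=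
  Scheme.Etale.mk (gk.left ≫ Y'.hom)

noncomputable def downMap {Y' : Y.Etale} {s' : Y'.left ⟶ X} {hs' : s' ≫ f = Y'.hom}
    (Zk : X.Etale) (gk : Zk ⟶ sheetObj f Y' s' hs') : downObj f Zk gk ⟶ Y' :=
  MorphismProperty.Over.homMk gk.left rfl trivial

theorem downMap_left {Y' : Y.Etale} {s' : Y'.left ⟶ X} {hs' : s' ≫ f = Y'.hom}
    (Zk : X.Etale) (gk : Zk ⟶ sheetObj f Y' s' hs') : (downMap f Zk gk).left = gk.left := rfl

/-- lifting back a refinement to the sheet -/
noncomputable def upMap {P Z Y' : Y.Etale} (h : Y' ⟶ P) (s : P.left ⟶ X) (hs : s ≫ f = P.hom)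
    (Zk : X.Etale) (gk : Zk ⟶ sheetObj f Y' (h.left ≫ s) (sheet_w f h s hs)) (q : Z ⟶ Y')
    (r : Z ⟶ downObj f Zk gk) (hr : r ≫ downMap f Zk gk = q) :
    sheetObj f Z ((q ≫ h).left ≫ s) (sheet_w f (q ≫ h) s hs) ⟶ Zk :=
  MorphismProperty.Over.homMk r.left (by
    have h1 : gk.left ≫ (h.left ≫ s) = Zk.hom := MorphismProperty.Over.w gk
    have h2 : r.left ≫ gk.left = q.left := congrArg (fun φ => φ.left) hr
    show r.left ≫ Zk.hom = (q ≫ h).left ≫ s
    rw [← h1, ← Category.assoc, h2]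
    exact comp_left_assoc' h q s) trivial

theorem upMap_comp {P Z Y' : Y.Etale} (h : Y' ⟶ P) (s : P.left ⟶ X) (hs : s ≫ f = P.hom)
    (Zk : X.Etale) (gk : Zk ⟶ sheetObj f Y' (h.left ≫ s) (sheet_w f h s hs)) (q : Z ⟶ Y')
    (r : Z ⟶ downObj f Zk gk) (hr : r ≫ downMap f Zk gk = q) :
    upMap f h s hs Zk gk q r hr ≫ gk = sheetHom f h q s hs := by
  apply MorphismProperty.Over.Hom.ext
  exact congrArg (fun φ => φ.left) hr

end Sheets

section LC

variable {X Y : Scheme.{u}} (f : X ⟶ Y) [Etale f] (F : EtCoh.Ab X)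
  {P : Y.Etale} {n : ℕ} (C : SheetCover f P n) (D : Fin n → Triv F)
  (c : ∀ k, sheetObj f P (C.s k) (C.hs k) ⟶ (D k).U)

theorem map_sheetMap_map {Y' Y'' : Y.Etale} (h : Y' ⟶ P) (g : Y'' ⟶ Y') (s : P.left ⟶ X)
    (hs : s ≫ f = P.hom) (t : F.obj.obj (op ((EtCoh.bc f).obj Y'))) :
    (F.obj.map (sheetMap f Y'' ((g ≫ h).left ≫ s) (sheet_w f (g ≫ h) s hs)).op).hom
        ((F.obj.map ((EtCoh.bc f).map g).op).hom t) =
      (F.obj.map (sheetHom f h g s hs).op).hom
        ((F.obj.map (sheetMap f Y' (h.left ≫ s) (sheet_w f h s hs)).op).hom t) := by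
  rw [← map_comp_hom, ← map_comp_hom, sheetHom_comp_sheetMap]

/-- the trivialising maps on the sheets over `Y'` -/
noncomputable def cmap {Y' : Y.Etale} (h : Y' ⟶ P) (k : Fin n) :
    sheetObj f Y' (h.left ≫ C.s k) (sheet_w f h (C.s k) (C.hs k)) ⟶ (D k).U :=
  sheetLift f h (C.s k) (C.hs k) ≫ c k

theorem sheetHom_comp_cmap {Y' Y'' : Y.Etale} (h : Y' ⟶ P) (g : Y'' ⟶ Y') (k : Fin n) :
    sheetHom f h g (C.s k) (C.hs k) ≫ cmap f F C D c h k = cmap f F C D c (g ≫ h) k := by
  unfold cmap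
  rw [← Category.assoc, sheetHom_comp_sheetLift]

theorem exists_tau {Y' : Y.Etale} (h : Y' ⟶ P) (b : ∀ k : Fin n, ((D k).N : Type (u + 1))) :
    ∃ r : F.obj.obj (op ((EtCoh.bc f).obj Y')), ∀ k,
      (F.obj.map (sheetMap f Y' (h.left ≫ C.s k) (sheet_w f h (C.s k) (C.hs k))).op).hom r =
        (D k).θ (cmap f F C D c h k) (b k) :=
  glue_fam (fun k => sheetObj f Y' (h.left ≫ C.s k) (sheet_w f h (C.s k) (C.hs k)))
    (fun k => sheetMap f Y' (h.left ≫ C.s k) (sheet_w f h (C.s k) (C.hs k)))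
    (C.restrict h).cov (C.restrict h).disj F _

theorem tau_unique {Y' : Y.Etale} (h : Y' ⟶ P) (r r' : F.obj.obj (op ((EtCoh.bc f).obj Y')))
    (hr : ∀ k,
      (F.obj.map (sheetMap f Y' (h.left ≫ C.s k) (sheet_w f h (C.s k) (C.hs k))).op).hom r =
      (F.obj.map (sheetMap f Y' (h.left ≫ C.s k) (sheet_w f h (C.s k) (C.hs k))).op).hom r') :
    r = r' :=
  sep_fam (fun k => sheetObj f Y' (h.left ≫ C.s k) (sheet_w f h (C.s k) (C.hs k)))
    (fun k => sheetMap f Y' (h.left ≫ C.s k) (sheet_w f h (C.s k) (C.hs k)))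
    (C.restrict h).cov F r r' hr

/-- the constant sections of `f_* F` -/
noncomputable def tauFun {Y' : Y.Etale} (h : Y' ⟶ P)
    (b : ∀ k : Fin n, ((D k).N : Type (u + 1))) : F.obj.obj (op ((EtCoh.bc f).obj Y')) :=
  (exists_tau f F C D c h b).choose

theorem tau_spec {Y' : Y.Etale} (h : Y' ⟶ P) (b : ∀ k : Fin n, ((D k).N : Type (u + 1)))
    (k : Fin n) :
    (F.obj.map (sheetMap f Y' (h.left ≫ C.s k) (sheet_w f h (C.s k) (C.hs k))).op).hom
        (tauFun f F C D c h b) = (D k).θ (cmap f F C D c h k) (b k) :=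
  (exists_tau f F C D c h b).choose_spec k

noncomputable def tau {Y' : Y.Etale} (h : Y' ⟶ P) :
    (∀ k : Fin n, ((D k).N : Type (u + 1))) →+ F.obj.obj (op ((EtCoh.bc f).obj Y')) :=
  AddMonoidHom.mk' (tauFun f F C D c h) (fun b b' => by
    apply tau_unique f F C h
    intro k
    rw [map_add, tau_spec, tau_spec, tau_spec]
    exact map_add _ _ _)

theorem tau_apply {Y' : Y.Etale} (h : Y' ⟶ P) (b : ∀ k : Fin n, ((D k).N : Type (u + 1))) :
    tau f F C D c h b = tauFun f F C D c h b := rfl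

theorem tau_res {Y' Y'' : Y.Etale} (h : Y' ⟶ P) (g : Y'' ⟶ Y')
    (b : ∀ k : Fin n, ((D k).N : Type (u + 1))) :
    (F.obj.map ((EtCoh.bc f).map g).op).hom (tau f F C D c h b) = tau f F C D c (g ≫ h) b := by
  rw [tau_apply, tau_apply]
  apply tau_unique f F C (g ≫ h)
  intro k
  rw [tau_spec, map_sheetMap_map f F h g (C.s k) (C.hs k), tau_spec, Triv.θ_res,
    sheetHom_comp_cmap]

theorem tau_inj {Y' : Y.Etale} (h : Y' ⟶ P) (y : Y'.left) :
    Function.Injective (tau f F C D c h) := by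
  intro b b' hbb
  funext k
  have h1 := tau_spec f F C D c h b k
  have h2 := tau_spec f F C D c h b' k
  rw [tau_apply, tau_apply] at hbb
  rw [hbb] at h1
  exact (D k).θ_injective (cmap f F C D c h k) y (h1.symm.trans h2)

theorem tau_surj {Y' : Y.Etale} (h : Y' ⟶ P) (s : F.obj.obj (op ((EtCoh.bc f).obj Y')))
    (y : Y'.left) :
    ∃ (Z : Y.Etale) (g : Z ⟶ Y') (b : ∀ k : Fin n, ((D k).N : Type (u + 1))),
      y ∈ Set.range g.left ∧
        tau f F C D c (g ≫ h) b = (F.obj.map ((EtCoh.bc f).map g).op).hom s := by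
  classical
  have hloc : ∀ k : Fin n, ∃ (Zk : X.Etale)
      (gk : Zk ⟶ sheetObj f Y' (h.left ≫ C.s k) (sheet_w f h (C.s k) (C.hs k)))
      (nk : (D k).N), y ∈ Set.range gk.left ∧
        (D k).θ (gk ≫ cmap f F C D c h k) nk = (F.obj.map gk.op).hom
          ((F.obj.map (sheetMap f Y' (h.left ≫ C.s k)
            (sheet_w f h (C.s k) (C.hs k))).op).hom s) :=
    fun k => (D k).exists_local (cmap f F C D c h k) _ y
  choose Zk gk nk hy hθ using hloc
  obtain ⟨Z, q, hyq, hfac⟩ := exists_common y (Finset.univ : Finset (Fin n))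
    (fun k => downObj f (Zk k) (gk k)) (fun k => downMap f (Zk k) (gk k)) (fun k => hy k)
  choose r hr using fun k => hfac k (Finset.mem_univ k)
  refine ⟨Z, q, nk, hyq, ?_⟩
  rw [tau_apply]
  apply tau_unique f F C (q ≫ h)
  intro k
  rw [tau_spec, map_sheetMap_map f F h q (C.s k) (C.hs k),
    ← upMap_comp f h (C.s k) (C.hs k) (Zk k) (gk k) q (r k) (hr k), map_comp_hom, ← hθ k,
    Triv.θ_res, ← Category.assoc, upMap_comp, sheetHom_comp_cmap]

include C c in
/-- `f_* F` is constant on `P` with value `∏_k N_k` -/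
theorem nonempty_lcdata [EtCoh.BCCont f] :
    Nonempty (LCData ((EtCoh.push f).obj F) P (∀ k : Fin n, ((D k).N : Type (u + 1)))) :=
  ⟨{ τ := fun h => tau f F C D c h
     res := fun h g b => tau_res f F C D c h g b
     inj := fun h y => tau_inj f F C D c h y
     surj := fun h s y => tau_surj f F C D c h s y }⟩

end LC

end Groth.Agent.Lib.EtFlcPushH7
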