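import Mathlib
import Groth.Agent.Lib.FEtSplit_helper6

/-!
# Counting sections of finite étale covers (helper6)

* `card_le_finrank`: `k` pairwise disjoint sections of a finite étale `p : E ⟶ Y` force
  `k ≤ finrank p`, and they cover `E` when equality holds everywhere.
* `section_eq_of_apply_eq`: two sections of a finite étale morphism over a connected base which
  agree at a point are equal.
-/

set_option autoImplicit false
universe u
open CategoryTheory CategoryTheory.Limits AlgebraicGeometry TopologicalSpace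

namespace Groth.Agent.Lib.FEtCountH6

open Groth.Agent.Lib.FEtSplitH6

theorem isOpenImmersion_section {E Y : Scheme.{u}} (p : E ⟶ Y) [Etale p] (σ : Y ⟶ E)
    (h : σ ≫ p = 𝟙 Y) : IsOpenImmersion σ := by
  haveI : Etale (σ ≫ p) := by rw [h]; infer_instance
  haveI : Etale σ := Etale.of_comp σ p
  haveI : Mono σ := mono_of_mono_fac h
  exact IsOpenImmersion.of_flat_of_mono _

theorem isClosedImmersion_section {E Y : Scheme.{u}} (p : E ⟶ Y) [IsSeparated p] (σ : Y ⟶ E)
    (h : σ ≫ p = 𝟙 Y) : IsClosedImmersion σ := by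
  haveI : IsClosedImmersion (σ ≫ p) := by rw [h]; infer_instance
  exact IsClosedImmersion.of_comp σ p

/-- the complement of a clopen immersion -/
theorem exists_compl {E Y : Scheme.{u}} (s : Y ⟶ E) [IsOpenImmersion s] [IsClosedImmersion s] :
    ∃ (C : Scheme.{u}) (j : C ⟶ E), IsOpenImmersion j ∧ IsClosedImmersion j ∧
      Disjoint (Set.range s) (Set.range j) ∧ ∀ x, x ∈ Set.range s ∨ x ∈ Set.range j := by
  have hcl : IsClosed (Set.range s) := s.isClosedEmbedding.isClosed_range
  obtain ⟨U, hU⟩ : ∃ U : E.Opens, (U : Set ↥E) = (Set.range s)ᶜ := ⟨⟨_, hcl.isOpen_compl⟩, rfl⟩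
  have hr : Set.range U.ι = (Set.range s)ᶜ := by rw [Scheme.Opens.range_ι, hU]
  refine ⟨U, U.ι, inferInstance, ?_, ?_, ?_⟩
  · refine IsClosedImmersion.of_isPreimmersion _ ?_
    rw [hr]
    exact s.isOpenEmbedding.isOpen_range.isClosed_compl
  · rw [hr]
    exact disjoint_compl_right
  · intro x
    rw [hr]
    exact em _

theorem card_le_finrank : ∀ (k : ℕ) {E Y : Scheme.{u}} (p : E ⟶ Y) [IsFinite p] [Etale p]
    (σ : Fin k → (Y ⟶ E)), (∀ i, σ i ≫ p = 𝟙 Y) →
    (∀ i j, i ≠ j → Disjoint (Set.range (σ i)) (Set.range (σ j))) →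
    (∀ y, k ≤ p.finrank y) ∧ ((∀ y, p.finrank y = k) → ∀ x : E, ∃ i, x ∈ Set.range (σ i)) := by
  intro k
  induction k with
  | zero =>
    intro E Y p _ _ σ _ _
    refine ⟨fun y => Nat.zero_le _, fun h x => ?_⟩
    have := Scheme.Hom.one_le_finrank_map p x
    rw [h] at this
    omega
  | succ k ih =>
    intro E Y p _ _ σ hσ hd
    haveI : IsOpenImmersion (σ 0) := isOpenImmersion_section p _ (hσ 0)
    haveI : IsClosedImmersion (σ 0) := isClosedImmersion_section p _ (hσ 0)
    obtain ⟨C, j, hj1, hj2, hjd, hjc⟩ := exists_compl (σ 0)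
    obtain ⟨q, hq⟩ : ∃ q : C ⟶ Y, q = j ≫ p := ⟨_, rfl⟩
    haveI : IsFinite q := by rw [hq]; infer_instance
    haveI : Etale q := by rw [hq]; infer_instance
    have hrank : ∀ y, p.finrank y = 1 + q.finrank y := by
      intro y
      have h1 := finrank_add p (𝟙 Y) q (σ 0) j hjd hjc (hσ 0) hq.symm y
      rw [Scheme.Hom.finrank_eq_one_of_isIso (𝟙 Y)] at h1
      simpa using h1
    have hsub : ∀ i : Fin k, Set.range (σ i.succ) ⊆ Set.range j := by
      intro i x hx
      rcases hjc x with h | h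
      · exact absurd h (Set.disjoint_right.mp (hd 0 i.succ (Fin.succ_ne_zero i).symm) hx)
      · exact h
    obtain ⟨τ, hτ⟩ : ∃ τ : Fin k → (Y ⟶ C), ∀ i, τ i ≫ j = σ i.succ :=
      ⟨fun i => IsOpenImmersion.lift j (σ i.succ) (hsub i),
        fun i => IsOpenImmersion.lift_fac _ _ _⟩
    have hτs : ∀ i, τ i ≫ q = 𝟙 Y := fun i => by
      rw [hq, ← Category.assoc, hτ, hσ]
    have hτd : ∀ i l, i ≠ l → Disjoint (Set.range (τ i)) (Set.range (τ l)) := by
      intro i l hil
      rw [Set.disjoint_left]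
      rintro _ ⟨a, rfl⟩ ⟨b, hb⟩
      have h2 : σ l.succ b = σ i.succ a := by
        rw [← hτ, ← hτ, Scheme.Hom.comp_apply, Scheme.Hom.comp_apply, hb]
      exact Set.disjoint_left.mp (hd i.succ l.succ (fun h => hil (Fin.succ_injective _ h)))
        ⟨a, rfl⟩ ⟨b, h2⟩
    obtain ⟨ih1, ih2⟩ := ih q τ hτs hτd
    refine ⟨fun y => ?_, fun h x => ?_⟩
    · rw [hrank y]
      have := ih1 y
      omega
    · have hq' : ∀ y, q.finrank y = k := fun y => by
        have := hrank y
        rw [h y] at this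
        omega
      rcases hjc x with ⟨a, rfl⟩ | ⟨c, rfl⟩
      · exact ⟨0, a, rfl⟩
      · obtain ⟨i, a, rfl⟩ := ih2 hq' c
        exact ⟨i.succ, a, by rw [← hτ, Scheme.Hom.comp_apply]⟩

/-- Two sections of an étale separated morphism over a connected base which agree at a point are
equal. -/
theorem section_eq_of_apply_eq {E Y : Scheme.{u}} [PreconnectedSpace Y] (p : E ⟶ Y) [Etale p]
    [IsSeparated p] (σ τ : Y ⟶ E) (hσ : σ ≫ p = 𝟙 Y) (hτ : τ ≫ p = 𝟙 Y) (a : Y)
    (h : σ a = τ a) : σ = τ := by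
  haveI : IsOpenImmersion τ := isOpenImmersion_section p _ hτ
  haveI : IsClosedImmersion τ := isClosedImmersion_section p _ hτ
  have hclopen : IsClopen (σ ⁻¹' Set.range τ) :=
    ⟨τ.isClosedEmbedding.isClosed_range.preimage σ.continuous,
      τ.isOpenEmbedding.isOpen_range.preimage σ.continuous⟩
  have huniv := hclopen.eq_univ ⟨a, ⟨a, h.symm⟩⟩
  have hsub : Set.range σ ⊆ Set.range τ := by
    rintro _ ⟨b, rfl⟩
    have : b ∈ σ ⁻¹' Set.range τ := by rw [huniv]; trivial
    exact this
  have hfac := IsOpenImmersion.lift_fac τ σ hsub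
  have hu : IsOpenImmersion.lift τ σ hsub = 𝟙 Y := by
    have := congrArg (· ≫ p) hfac
    simp only [Category.assoc, hτ, hσ, Category.comp_id] at this
    exact this
  rw [← hfac, hu, Category.id_comp]

end Groth.Agent.Lib.FEtCountH6
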