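import Mathlib
import Groth.Agent.Lib.FEtCount_helper6

/-!
# Splitting finite étale covers by finite étale covers of degree `n!` (helper6)

* `finrank_eq_zero_of_isEmpty`, `finrank_sum`: rank of a finite flat morphism whose source is a
  finite disjoint union of clopen pieces of constant rank `r`.
* `finrank_comp_triv`: rank of `W ⟶ E ⟶ Y` when `E ⟶ Y` is a trivial cover with `m` sheets and
  `W ⟶ E` has constant rank `r`.
* `exists_split_factorial`: a finite étale morphism of constant rank `n` is split by a finite étale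
  morphism of constant rank `n!`.
-/

set_option autoImplicit false
universe u
open CategoryTheory CategoryTheory.Limits AlgebraicGeometry TopologicalSpace

namespace Groth.Agent.Lib.FEtSplit2H6

open Groth.Agent.Lib.FEtSplitH6 Groth.Agent.Lib.FEtCountH6

theorem finrank_eq_zero_of_isEmpty {W Y : Scheme.{u}} (q : W ⟶ Y) [IsEmpty W] (y : Y) :
    q.finrank y = 0 := by
  have h := finrank_add q q q (𝟙 W) (𝟙 W)
    (Set.disjoint_left.mpr fun x => isEmptyElim x) (fun x => isEmptyElim x)
    (Category.id_comp q) (Category.id_comp q) y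
  omega

theorem finrank_sum : ∀ (k : ℕ) {W Y : Scheme.{u}} (q : W ⟶ Y) [IsFinite q] [Flat q]
    (Wi : Fin k → Scheme.{u}) (v : ∀ i, Wi i ⟶ W), (∀ i, IsOpenImmersion (v i)) →
    (∀ i j, i ≠ j → Disjoint (Set.range (v i)) (Set.range (v j))) →
    (∀ x : W, ∃ i, x ∈ Set.range (v i)) → ∀ (r : ℕ), (∀ i y, (v i ≫ q).finrank y = r) →
    ∀ y, q.finrank y = k * r := by
  intro k
  induction k with
  | zero =>
    intro W Y q _ _ Wi v _ _ hc r _ y
    haveI : IsEmpty W := ⟨fun x => (hc x).choose.elim0⟩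
    rw [finrank_eq_zero_of_isEmpty, Nat.zero_mul]
  | succ k ih =>
    intro W Y q _ _ Wi v hv hd hc r hr y
    haveI := hv 0
    have hcl : IsClosed (Set.range (v 0)) := by
      have : (Set.range (v 0))ᶜ = ⋃ i : Fin k, Set.range (v i.succ) := by
        ext x
        simp only [Set.mem_compl_iff, Set.mem_iUnion]
        constructor
        · intro hx
          obtain ⟨i, hi⟩ := hc x
          refine Fin.cases (fun hi => absurd hi hx) (fun l hl => ⟨l, hl⟩) i hi
        · rintro ⟨l, hl⟩ h0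
          exact Set.disjoint_left.mp (hd 0 l.succ (Fin.succ_ne_zero l).symm) h0 hl
      rw [← isOpen_compl_iff, this]
      exact isOpen_iUnion fun i => (hv i.succ).base_open.isOpen_range
    haveI : IsClosedImmersion (v 0) := IsClosedImmersion.of_isPreimmersion _ hcl
    obtain ⟨C, j, hj1, hj2, hjd, hjc⟩ := exists_compl (v 0)
    have hsub : ∀ i : Fin k, Set.range (v i.succ) ⊆ Set.range j := by
      intro i x hx
      rcases hjc x with h | h
      · exact absurd h (Set.disjoint_right.mp (hd 0 i.succ (Fin.succ_ne_zero i).symm) hx)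
      · exact h
    obtain ⟨v', hv'⟩ : ∃ v' : ∀ i : Fin k, Wi i.succ ⟶ C, ∀ i, v' i ≫ j = v i.succ :=
      ⟨fun i => IsOpenImmersion.lift j (v i.succ) (hsub i),
        fun i => IsOpenImmersion.lift_fac _ _ _⟩
    have hv'o : ∀ i, IsOpenImmersion (v' i) := fun i => by
      haveI := hv i.succ
      haveI : IsOpenImmersion (v' i ≫ j) := by rw [hv']; infer_instance
      exact IsOpenImmersion.of_comp (v' i) j
    have hv'd : ∀ i l, i ≠ l → Disjoint (Set.range (v' i)) (Set.range (v' l)) := by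
      intro i l hil
      rw [Set.disjoint_left]
      rintro _ ⟨a, rfl⟩ ⟨b, hb⟩
      have h2 : v l.succ b = v i.succ a := by
        rw [← hv', ← hv', Scheme.Hom.comp_apply, Scheme.Hom.comp_apply, hb]
      exact Set.disjoint_left.mp (hd i.succ l.succ (fun h => hil (Fin.succ_injective _ h)))
        ⟨a, rfl⟩ ⟨b, h2⟩
    have hv'c : ∀ c : C, ∃ i, c ∈ Set.range (v' i) := by
      intro c
      obtain ⟨i, hi⟩ := hc (j c)
      revert hi
      refine Fin.cases (fun hi => ?_) (fun l hl => ?_) i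
      · exact absurd ⟨c, rfl⟩ (Set.disjoint_left.mp hjd hi)
      · obtain ⟨a, ha⟩ := hl
        refine ⟨l, a, j.isOpenEmbedding.injective ?_⟩
        rw [← Scheme.Hom.comp_apply, hv', ha]
    have hr' : ∀ i y, (v' i ≫ j ≫ q).finrank y = r := fun i y => by
      rw [← Category.assoc, hv']; exact hr _ y
    have h1 := ih (j ≫ q) (fun i => Wi i.succ) v' hv'o hv'd hv'c r hr' y
    have h2 := finrank_add q (v 0 ≫ q) (j ≫ q) (v 0) j hjd hjc rfl rfl y
    rw [h2, hr 0 y, h1]
    ring

/-- Rank of a composite `W ⟶ E ⟶ Y` where `E ⟶ Y` is a trivial cover with `m` sheets and `W ⟶ E`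
has constant rank `r`. -/
theorem finrank_comp_triv {m : ℕ} {W E Y : Scheme.{u}} (p : E ⟶ Y) (w : W ⟶ E) [IsFinite w]
    [Flat w] [IsFinite p] [Flat p] (hT : Triv (Fin m) p) (r : ℕ) (hr : ∀ e, w.finrank e = r) (y : Y) :
    (w ≫ p).finrank y = m * r := by
  obtain ⟨σ, h1, h2, h3, h4⟩ := hT
  refine finrank_sum m (w ≫ p) (fun i => pullback w (σ i)) (fun i => pullback.fst w (σ i))
    (fun i => by haveI := h2 i; infer_instance) ?_ ?_ r ?_ y
  · intro i l hil
    rw [Scheme.Pullback.range_fst, Scheme.Pullback.range_fst]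
    exact (h3 i l hil).preimage _
  · intro x
    obtain ⟨i, hi⟩ := h4 (w x)
    exact ⟨i, by rw [Scheme.Pullback.range_fst]; exact hi⟩
  · intro i y
    have : pullback.fst w (σ i) ≫ w ≫ p = pullback.snd w (σ i) := by
      rw [← Category.assoc, pullback.condition, Category.assoc, h1, Category.comp_id]
    rw [this, Scheme.Hom.finrank_pullback_snd, hr]

theorem exists_split_factorial : ∀ (n : ℕ) {X S : Scheme.{u}} (φ : X ⟶ S) [IsFinite φ] [Etale φ],
    (∀ s, φ.finrank s = n) → ∃ (Y : Scheme.{u}) (ψ : Y ⟶ S), IsFinite ψ ∧ Etale ψ ∧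
      (∀ s, ψ.finrank s = n.factorial) ∧ Triv (Fin n) (pullback.snd φ ψ) := by
  intro n
  induction n with
  | zero =>
    intro X S φ _ _ h
    haveI : IsEmpty X := ⟨fun x => by
      have := Scheme.Hom.one_le_finrank_map φ x
      rw [h] at this
      omega⟩
    haveI : IsEmpty ↥(pullback φ (𝟙 S)) := Function.isEmpty (pullback.fst φ (𝟙 S))
    refine ⟨S, 𝟙 S, inferInstance, inferInstance, fun s => ?_,
      triv_of_equiv (Equiv.equivOfIsEmpty Empty (Fin 0)) _ (triv_empty _)⟩
    rw [Scheme.Hom.finrank_eq_one_of_isIso (𝟙 S)]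
    rfl
  | succ n ih =>
    intro X S φ _ _ h
    haveI hsurj : Surjective φ := by
      rw [← Scheme.Hom.one_le_finrank_iff_surjective]
      intro s
      rw [h s]
      exact Nat.succ_le_succ (Nat.zero_le _)
    obtain ⟨X', j, hj1, hj2, hjd, hjc⟩ := exists_diag_compl φ
    obtain ⟨q, hq⟩ : ∃ q : X' ⟶ X, q = j ≫ pullback.snd φ φ := ⟨_, rfl⟩
    haveI : IsFinite q := by rw [hq]; infer_instance
    haveI : Etale q := by rw [hq]; infer_instance
    have hqrank : ∀ x, q.finrank x = n := by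
      intro x
      have h1 := finrank_add (pullback.snd φ φ) (𝟙 X) q (pullback.diagonal φ) j hjd hjc
        (by simp) hq.symm x
      rw [Scheme.Hom.finrank_pullback_snd, h, Scheme.Hom.finrank_eq_one_of_isIso (𝟙 X)] at h1
      simp only [Pi.one_apply] at h1
      omega
    obtain ⟨Y, ψ', hψ1, hψ2, hψ3, hT⟩ := ih q hqrank
    haveI hsurj' : Surjective ψ' := by
      rw [← Scheme.Hom.one_le_finrank_iff_surjective]
      intro x
      rw [hψ3 x]
      exact Nat.factorial_pos n
    -- the comparison map `u : E ⟶ X ×_S X`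
    obtain ⟨u, hu⟩ : ∃ u : pullback φ (ψ' ≫ φ) ⟶ pullback φ φ, u =
        pullback.lift (pullback.fst φ (ψ' ≫ φ)) (pullback.snd φ (ψ' ≫ φ) ≫ ψ')
          (by rw [Category.assoc, pullback.condition]) := ⟨_, rfl⟩
    have hu1 : u ≫ pullback.fst φ φ = pullback.fst φ (ψ' ≫ φ) := by rw [hu, pullback.lift_fst]
    have hu2 : u ≫ pullback.snd φ φ = pullback.snd φ (ψ' ≫ φ) ≫ ψ' := by
      rw [hu, pullback.lift_snd]
    have pbE : IsPullback u (pullback.snd φ (ψ' ≫ φ)) (pullback.snd φ φ) ψ' := by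
      refine IsPullback.of_right ?_ hu2 (IsPullback.of_hasPullback φ φ)
      rw [hu1]
      exact IsPullback.of_hasPullback φ (ψ' ≫ φ)
    obtain ⟨j₁, hj₁⟩ : ∃ j₁ : Y ⟶ pullback φ (ψ' ≫ φ), j₁ =
        pullback.lift ψ' (𝟙 Y) (by simp) := ⟨_, rfl⟩
    have hj₁s : j₁ ≫ pullback.snd φ (ψ' ≫ φ) = 𝟙 Y := by rw [hj₁, pullback.lift_snd]
    have hj₁f : j₁ ≫ pullback.fst φ (ψ' ≫ φ) = ψ' := by rw [hj₁, pullback.lift_fst]
    have hj₁u : j₁ ≫ u = ψ' ≫ pullback.diagonal φ := by
      apply pullback.hom_ext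
      · rw [Category.assoc, hu1, hj₁f, Category.assoc, pullback.diagonal_fst, Category.comp_id]
      · rw [Category.assoc, hu2, ← Category.assoc, hj₁s, Category.id_comp, Category.assoc,
          pullback.diagonal_snd, Category.comp_id]
    have pb1 : IsPullback j₁ ψ' u (pullback.diagonal φ) := by
      refine IsPullback.of_right ?_ hj₁u pbE.flip
      rw [hj₁s, pullback.diagonal_snd]
      exact IsPullback.of_horiz_isIso ⟨by simp⟩
    obtain ⟨j₂, hj₂⟩ : ∃ j₂ : pullback q ψ' ⟶ pullback φ (ψ' ≫ φ), j₂ =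
        pbE.lift (pullback.fst q ψ' ≫ j) (pullback.snd q ψ')
          (by rw [Category.assoc, ← hq, pullback.condition]) := ⟨_, rfl⟩
    have hj₂u : j₂ ≫ u = pullback.fst q ψ' ≫ j := by rw [hj₂, pbE.lift_fst]
    have hj₂s : j₂ ≫ pullback.snd φ (ψ' ≫ φ) = pullback.snd q ψ' := by rw [hj₂, pbE.lift_snd]
    have pb2 : IsPullback j₂ (pullback.fst q ψ') u j := by
      refine IsPullback.of_right ?_ hj₂u pbE.flip
      rw [hj₂s, ← hq]
      exact (IsPullback.of_hasPullback q ψ').flip
    haveI : IsOpenImmersion j₁ := MorphismProperty.of_isPullback (P := @IsOpenImmersion) pb1.flip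
      inferInstance
    haveI : IsOpenImmersion j₂ := MorphismProperty.of_isPullback (P := @IsOpenImmersion) pb2.flip
      hj1
    have r1 := range_fst_of_isPullback pb1
    have r2 := range_fst_of_isPullback pb2
    haveI : IsIso (j₁ ≫ pullback.snd φ (ψ' ≫ φ)) := by rw [hj₁s]; infer_instance
    have hTE : Triv (Fin (n + 1)) (pullback.snd φ (ψ' ≫ φ)) := by
      refine triv_of_equiv (finSuccEquiv n).symm _
        (triv_glue (pullback.snd φ (ψ' ≫ φ)) j₁ j₂ ?_ ?_ ?_)
      · rw [r1, r2]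
        exact hjd.preimage _
      · intro z
        rw [r1, r2]
        exact hjc _
      · rw [hj₂s]
        exact hT
    refine ⟨Y, ψ' ≫ φ, inferInstance, inferInstance, fun s => ?_, hTE⟩
    -- the rank of `ψ' ≫ φ`
    obtain ⟨y, rfl⟩ := (ψ' ≫ φ).surjective s
    rw [← Scheme.Hom.finrank_pullback_snd (ψ' ≫ φ) (ψ' ≫ φ) y,
      ← Scheme.Hom.finrank_comp_left_of_isIso
        (pullbackRightPullbackFstIso φ (ψ' ≫ φ) ψ').hom (pullback.snd (ψ' ≫ φ) (ψ' ≫ φ)),
      pullbackRightPullbackFstIso_hom_snd,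
      finrank_comp_triv (pullback.snd φ (ψ' ≫ φ)) (pullback.snd ψ' (pullback.fst φ (ψ' ≫ φ))) hTE
        n.factorial (fun e => by rw [Scheme.Hom.finrank_pullback_snd, hψ3]) y,
      Nat.factorial_succ]

end Groth.Agent.Lib.FEtSplit2H6
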