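import Mathlib
import Groth.Prelude.Def_EtBase
import Groth.Agent.Lib.EtFlcPushA_helper7
import Groth.Agent.Lib.FEtSplit2_helper6

/-!
# Direct image of a finite locally constant sheaf along a finite étale morphism (helper7)

`f_* F` is finite locally constant when `f` is finite étale and `F` is finite locally constant:
étale locally on the base `f` is a trivial cover with `n` sheets, and after refining so that `F`
is constant near each sheet, `f_* F` is constant with value the product of the values.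
-/

set_option autoImplicit false
set_option backward.isDefEq.respectTransparency false
set_option backward.isDefEq.respectTransparency.types false
set_option linter.style.haveILetI false
set_option linter.unusedSectionVars false
universe u
open CategoryTheory CategoryTheory.Limits AlgebraicGeometry Opposite

namespace Groth.Agent.Lib.EtFlcPushH7

open Groth.Agent.Lib.EtSchSite_helper7 Groth.Agent.Lib.EtFinGeomH7 Groth.Agent.Lib.EtLocConst
  Groth.Agent.Lib.FEtSplitH6 Groth.Agent.Lib.FEtSplit2H6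

theorem iso_hom_injective {A B : Scheme.{u}} (e : A ≅ B) : Function.Injective e.hom := by
  intro a b hab
  exact (Scheme.hom_inv_apply e a).symm.trans
    ((congrArg (fun t => e.inv t) hab).trans (Scheme.hom_inv_apply e b))

section Cover

variable {X Y : Scheme.{u}} (f : X ⟶ Y) [Etale f]

theorem sheetCover_of_triv {V Y' : Scheme.{u}} (j : V ⟶ Y) [Etale j] (ψ : Y' ⟶ V) [Etale ψ]
    {n : ℕ} (h : Triv (Fin n) (pullback.snd (pullback.snd f j) ψ)) :
    Nonempty (SheetCover f (Scheme.Etale.mk (ψ ≫ j)) n) := by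
  obtain ⟨σ, hσ1, -, hσ3, hσ4⟩ := h
  have hpb : IsPullback (pullback.snd (pullback.snd f j) ψ)
      (pullback.fst (pullback.snd f j) ψ ≫ pullback.fst f j) (ψ ≫ j) f :=
    ((IsPullback.of_hasPullback (pullback.snd f j) ψ).paste_horiz
      (IsPullback.of_hasPullback f j)).flip
  obtain ⟨e, he1, he2⟩ : ∃ e : pullback (pullback.snd f j) ψ ≅ pullback (ψ ≫ j) f,
      e.hom ≫ pullback.fst (ψ ≫ j) f = pullback.snd (pullback.snd f j) ψ ∧
      e.hom ≫ pullback.snd (ψ ≫ j) f =
        pullback.fst (pullback.snd f j) ψ ≫ pullback.fst f j :=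
    ⟨hpb.isoPullback, hpb.isoPullback_hom_fst, hpb.isoPullback_hom_snd⟩
  have hs : ∀ k, (σ k ≫ pullback.fst (pullback.snd f j) ψ ≫ pullback.fst f j) ≫ f = ψ ≫ j := by
    intro k
    have hw : pullback.snd (pullback.snd f j) ψ ≫ (ψ ≫ j) =
        (pullback.fst (pullback.snd f j) ψ ≫ pullback.fst f j) ≫ f := hpb.w
    calc (σ k ≫ pullback.fst (pullback.snd f j) ψ ≫ pullback.fst f j) ≫ f
        = σ k ≫ ((pullback.fst (pullback.snd f j) ψ ≫ pullback.fst f j) ≫ f) := by
          simp only [Category.assoc]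
      _ = σ k ≫ (pullback.snd (pullback.snd f j) ψ ≫ (ψ ≫ j)) := by rw [← hw]
      _ = (σ k ≫ pullback.snd (pullback.snd f j) ψ) ≫ (ψ ≫ j) := by rw [Category.assoc]
      _ = ψ ≫ j := by rw [hσ1 k, Category.id_comp]
  have hleft : ∀ k, ((sheetMap f (Scheme.Etale.mk (ψ ≫ j))
      (σ k ≫ pullback.fst (pullback.snd f j) ψ ≫ pullback.fst f j) (hs k)).left :
        Y' ⟶ pullback (ψ ≫ j) f) = σ k ≫ e.hom := by
    intro k
    apply bc_hom_ext f (Scheme.Etale.mk (ψ ≫ j))
    · have l1 := sheetMap_pr₁ f (Scheme.Etale.mk (ψ ≫ j))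
        (σ k ≫ pullback.fst (pullback.snd f j) ψ ≫ pullback.fst f j) (hs k)
      have l2 : (σ k ≫ e.hom) ≫ pullback.fst (ψ ≫ j) f = 𝟙 Y' := by
        rw [Category.assoc, he1, hσ1 k]
      exact l1.trans l2.symm
    · have l1 := sheetMap_hom f (Scheme.Etale.mk (ψ ≫ j))
        (σ k ≫ pullback.fst (pullback.snd f j) ψ ≫ pullback.fst f j) (hs k)
      have l2 : (σ k ≫ e.hom) ≫ pullback.snd (ψ ≫ j) f =
          σ k ≫ pullback.fst (pullback.snd f j) ψ ≫ pullback.fst f j := by
        rw [Category.assoc, he2]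
      exact l1.trans l2.symm
  have hpt : ∀ k (a : Y'), (sheetMap f (Scheme.Etale.mk (ψ ≫ j))
      (σ k ≫ pullback.fst (pullback.snd f j) ψ ≫ pullback.fst f j) (hs k)).left a =
        e.hom (σ k a) := fun k a =>
    (congrArg (fun t : Y' ⟶ pullback (ψ ≫ j) f => t a) (hleft k)).trans
      (Scheme.Hom.comp_apply (σ k) e.hom a)
  refine ⟨{ s := fun k => σ k ≫ pullback.fst (pullback.snd f j) ψ ≫ pullback.fst f j
            hs := hs
            disj := ?_
            cov := ?_ }⟩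
  · intro k l hkl
    rw [Set.disjoint_left]
    rintro x ⟨a, ha⟩ ⟨b, hb⟩
    have h1 : e.hom (σ k a) = e.hom (σ l b) :=
      ((hpt k a).symm.trans ha).trans (hb.symm.trans (hpt l b))
    exact Set.disjoint_left.1 (hσ3 k l hkl) ⟨a, rfl⟩ ⟨b, (iso_hom_injective e h1).symm⟩
  · intro x
    obtain ⟨k, w, hw⟩ := hσ4 (e.inv x)
    exact ⟨k, w, (hpt k w).trans
      ((congrArg (fun t => e.hom t) hw).trans (Scheme.inv_hom_apply e x))⟩

theorem exists_sheetCover [IsFinite f] (y : Y) :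
    ∃ (P : Y.Etale) (z : P.left) (n : ℕ), P.hom.base z = y ∧ Nonempty (SheetCover f P n) := by
  classical
  obtain ⟨n, hn⟩ : ∃ n, n = f.finrank y := ⟨_, rfl⟩
  have hopen : IsOpen {x : Y | f.finrank x = n} :=
    (Scheme.Hom.isLocallyConstant_finrank f).isOpen_fiber n
  obtain ⟨V, hV⟩ : ∃ V : Y.Opens, ∀ x, x ∈ V ↔ f.finrank x = n :=
    ⟨⟨_, hopen⟩, fun x => Iff.rfl⟩
  have hrank : ∀ v, (pullback.snd f V.ι).finrank v = n := by
    intro v
    rw [Scheme.Hom.finrank_pullback_snd]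
    exact (hV _).1 v.2
  obtain ⟨Y', ψ, hψf, hψe, hψr, htriv⟩ := exists_split_factorial n (pullback.snd f V.ι) hrank
  haveI := hψf
  haveI := hψe
  have hsurj : Surjective ψ := (Scheme.Hom.one_le_finrank_iff_surjective ψ).1 (fun s => by
    show 1 ≤ ψ.finrank s
    rw [hψr]
    exact Nat.succ_le_of_lt (Nat.factorial_pos n))
  have hyV : y ∈ V := (hV y).2 hn.symm
  obtain ⟨z, hz⟩ := hsurj.surj (⟨y, hyV⟩ : V)
  refine ⟨Scheme.Etale.mk (ψ ≫ V.ι), z, n, ?_, sheetCover_of_triv f V.ι ψ htriv⟩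
  have h1 : (ψ ≫ V.ι) z = y := by
    rw [Scheme.Hom.comp_apply, hz, Scheme.Opens.ι_apply]
  exact h1

end Cover

section Refine

variable {X Y : Scheme.{u}} (f : X ⟶ Y) [Etale f] (F : EtCoh.Ab X)

theorem exists_triv (hF : EtCoh.IsFiniteLocallyConstant F) (x : X) :
    ∃ (D : Triv F) (u : D.U.left), D.U.hom.base u = x ∧ Finite D.N := by
  obtain ⟨ι, U, hU, hM⟩ := hF
  obtain ⟨i, y, hy⟩ := hU x
  obtain ⟨M, iM, fM, ⟨α⟩⟩ := hM i
  refine ⟨⟨U i, AddCommGrpCat.of (ULift.{u + 1} M), α⟩, y, hy, ?_⟩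
  show Finite (ULift.{u + 1} M)
  infer_instance

/-- the étale `Y`-scheme `P₀ ×_X U` -/
noncomputable abbrev refObj {P₀ : Y.Etale} (s : P₀.left ⟶ X) (U : X.Etale) : Y.Etale :=
  Scheme.Etale.mk (pullback.fst s U.hom ≫ P₀.hom)

noncomputable def refMap {P₀ : Y.Etale} (s : P₀.left ⟶ X) (U : X.Etale) : refObj s U ⟶ P₀ :=
  MorphismProperty.Over.homMk (pullback.fst s U.hom) rfl trivial

theorem exists_refinement (hF : EtCoh.IsFiniteLocallyConstant F) {P₀ : Y.Etale} {n : ℕ}
    (C₀ : SheetCover f P₀ n) (z₀ : P₀.left) :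
    ∃ (P : Y.Etale) (q : P ⟶ P₀) (D : Fin n → Triv F), z₀ ∈ Set.range q.left ∧
      (∀ k, Finite (D k).N) ∧
      Nonempty (∀ k, sheetObj f P ((C₀.restrict q).s k) ((C₀.restrict q).hs k) ⟶ (D k).U) := by
  classical
  choose D u hu hfin using fun k : Fin n => exists_triv F hF ((C₀.s k) z₀)
  have hpt : ∀ k, z₀ ∈ Set.range (refMap (C₀.s k) (D k).U).left := by
    intro k
    obtain ⟨w, hw1, -⟩ := Scheme.Pullback.exists_preimage_pullback (f := C₀.s k)
      (g := (D k).U.hom) z₀ (u k) (hu k).symm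
    exact ⟨w, hw1⟩
  obtain ⟨P, q, hz, hfac⟩ := exists_common z₀ (Finset.univ : Finset (Fin n))
    (fun k => refObj (C₀.s k) (D k).U) (fun k => refMap (C₀.s k) (D k).U) hpt
  choose r hr using fun k => hfac k (Finset.mem_univ k)
  refine ⟨P, q, D, hz, hfin, ⟨fun k => MorphismProperty.Over.homMk
    ((r k).left ≫ pullback.snd (C₀.s k) (D k).U.hom) ?_ trivial⟩⟩
  have h1 : (r k).left ≫ pullback.fst (C₀.s k) (D k).U.hom = q.left :=
    congrArg (fun φ => φ.left) (hr k)
  show ((r k).left ≫ pullback.snd (C₀.s k) (D k).U.hom) ≫ (D k).U.hom = q.left ≫ C₀.s k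
  rw [Category.assoc, ← pullback.condition, ← Category.assoc, h1]

end Refine

theorem main106 {X Y : Scheme.{u}} (f : X ⟶ Y) [IsFinite f] [Etale f] [EtCoh.BCCont f]
    (F : EtCoh.Ab X) (h : EtCoh.IsFiniteLocallyConstant F) :
    EtCoh.IsFiniteLocallyConstant ((EtCoh.push f).obj F) := by
  apply flc_of_local
  intro y
  obtain ⟨P₀, z₀, n, hz₀, ⟨C₀⟩⟩ := exists_sheetCover f y
  obtain ⟨P, q, D, ⟨z, hz⟩, hfin, ⟨c⟩⟩ := exists_refinement f F h C₀ z₀
  haveI := hfin
  refine ⟨P, z, ?_, (∀ k, (D k).N), inferInstance, inferInstance,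
    nonempty_lcdata f F (C₀.restrict q) D c⟩
  have hw : q.left ≫ P₀.hom = P.hom := MorphismProperty.Over.w q
  have h1 : P.hom z = y :=
    (congrArg (fun t : P.left ⟶ Y => t z) hw).symm.trans
      ((Scheme.Hom.comp_apply q.left P₀.hom z).trans
        ((congrArg (fun t => P₀.hom t) hz).trans hz₀))
  exact h1

end Groth.Agent.Lib.EtFlcPushH7
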