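import Mathlib
import Groth.Agent.Lib.GenFinMax_helper5

/-!
# Finiteness of a morphism from finiteness on the pieces of a finite open cover with closed overlaps
APPEND-ONLY once landed.
-/

set_option autoImplicit false
universe u

open CategoryTheory CategoryTheory.Limits AlgebraicGeometry TopologicalSpace

namespace Groth.Agent.FinPieces

theorem interior_biUnion_eq_empty {X : Type*} [TopologicalSpace X] {ι : Type*} (s : Finset ι)
    (A : ι → Set X) (hA : ∀ i ∈ s, IsClosed (A i)) (hA' : ∀ i ∈ s, interior (A i) = ∅) :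
    interior (⋃ i ∈ s, A i) = ∅ := by
  classical
  induction s using Finset.induction_on with
  | empty => simp
  | insert a s ha ih =>
    rw [Finset.set_biUnion_insert,
      interior_union_isClosed_of_interior_empty (hA a (Finset.mem_insert_self a s))
        (ih (fun i hi => hA i (Finset.mem_insert_of_mem hi))
          (fun i hi => hA' i (Finset.mem_insert_of_mem hi)))]
    exact hA' a (Finset.mem_insert_self a s)

variable {X Y : Scheme.{u}} (f : Y ⟶ X)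

/-- Restricting the target of a finite `resLE`. -/
theorem isFinite_resLE_of_le {W W' : X.Opens} {V : Y.Opens} (e : V ≤ f ⁻¹ᵁ W)
    (h : IsFinite (f.resLE W V e)) (hW : W' ≤ W) :
    IsFinite (f.resLE W' (V ⊓ f ⁻¹ᵁ W') inf_le_right) := by
  have H : IsPullback f (𝟙 Y) (𝟙 X) f := IsPullback.id_vert f
  have h1 := Scheme.Hom.isPullback_resLE H (US := W) (UT := V) (UX := W') e
    (by simpa using hW) (UY := V ⊓ f ⁻¹ᵁ W') (by simp [inf_comm])
  exact MorphismProperty.of_isPullback (P := @IsFinite) h1.flip h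

theorem isFinite_resLE_inf_of_le {W W' : X.Opens} {V : Y.Opens}
    (h : IsFinite (f.resLE W (V ⊓ f ⁻¹ᵁ W) inf_le_right)) (hW : W' ≤ W) :
    IsFinite (f.resLE W' (V ⊓ f ⁻¹ᵁ W') inf_le_right) := by
  have h1 := isFinite_resLE_of_le f inf_le_right h hW
  have heq : (V ⊓ f ⁻¹ᵁ W) ⊓ f ⁻¹ᵁ W' = V ⊓ f ⁻¹ᵁ W' := by
    rw [inf_assoc]
    congr 1
    exact inf_eq_right.mpr (f.preimage_mono hW)
  exact (Scheme.Hom.resLE_congr f _ rfl heq @IsFinite).mp h1

/-- Two pieces whose overlap is closed in the second piece. -/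
theorem isFinite_resLE_sup {U : X.Opens} {O₁ O₂ : Y.Opens} (e₁ : O₁ ≤ f ⁻¹ᵁ U)
    (e₂ : O₂ ≤ f ⁻¹ᵁ U) (h₁ : IsFinite (f.resLE U O₁ e₁)) (h₂ : IsFinite (f.resLE U O₂ e₂))
    (hcl : (O₂ : Set Y) ∩ closure ((O₁ : Set Y) ∩ O₂) ⊆ O₁) :
    IsFinite (f.resLE U (O₁ ⊔ O₂) (sup_le e₁ e₂)) := by
  obtain ⟨D, hDdef⟩ : ∃ D : Y.Opens, (D : Set Y) = (O₂ : Set Y) ∩ (closure ((O₁ : Set Y) ∩ O₂))ᶜ :=
    ⟨⟨(O₂ : Set Y) ∩ (closure ((O₁ : Set Y) ∩ O₂))ᶜ,
      O₂.isOpen.inter isClosed_closure.isOpen_compl⟩, rfl⟩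
  have hmemD : ∀ y, y ∈ D ↔ y ∈ O₂ ∧ y ∉ closure ((O₁ : Set Y) ∩ O₂) := by
    intro y
    rw [← SetLike.mem_coe, hDdef]
    rfl
  have hD₂ : D ≤ O₂ := fun y hy => ((hmemD y).mp hy).1
  have hDO : D ≤ O₁ ⊔ O₂ := hD₂.trans le_sup_right
  have hDdisj : ∀ y, y ∈ D → y ∉ O₁ := fun y hy hy1 =>
    ((hmemD y).mp hy).2 (subset_closure ⟨hy1, ((hmemD y).mp hy).1⟩)
  have hDcov : ∀ y, y ∈ O₂ → y ∉ O₁ → y ∈ D := fun y hy2 hy1 =>
    (hmemD y).mpr ⟨hy2, fun hc => hy1 (hcl ⟨hy2, hc⟩)⟩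
  haveI : IsClosedImmersion (Y.homOfLE hD₂) := by
    apply IsClosedImmersion.of_isPreimmersion
    have hr : Set.range (Y.homOfLE hD₂).base =
        ((O₂.ι ⁻¹ᵁ O₁ : O₂.toScheme.Opens) : Set O₂)ᶜ := by
      ext y
      constructor
      · rintro ⟨d, rfl⟩ hy
        have h3 : ((Y.homOfLE hD₂).base d).1 ∈ O₁ := hy
        rw [Scheme.homOfLE_apply] at h3
        exact hDdisj d.1 d.2 h3
      · intro hy
        have hy1 : y.1 ∉ O₁ := hy
        refine ⟨⟨y.1, hDcov y.1 y.2 hy1⟩, ?_⟩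
        apply Subtype.ext
        rw [Scheme.homOfLE_apply]
    rw [hr]
    exact (O₂.ι ⁻¹ᵁ O₁).isOpen.isClosed_compl
  haveI hD : IsFinite (f.resLE U D (hD₂.trans e₂)) := by
    rw [← Scheme.Hom.map_resLE f e₂ hD₂]
    infer_instance
  have hinf : O₁ ⊓ D = ⊥ := by
    ext y
    simp only [Opens.coe_inf, Set.mem_inter_iff, SetLike.mem_coe, Opens.coe_bot,
      Set.mem_empty_iff_false, iff_false, not_and]
    exact fun hy1 hyD => hDdisj y hyD hy1
  have hsup : O₁ ⊔ D = O₁ ⊔ O₂ := by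
    apply le_antisymm (sup_le le_sup_left hDO)
    intro y hy
    by_cases hy1 : y ∈ O₁
    · exact (le_sup_left : O₁ ≤ O₁ ⊔ D) hy1
    · have hy2 : y ∈ O₂ := by
        rcases hy with h | h
        · exact absurd h hy1
        · exact h
      exact (le_sup_right : D ≤ O₁ ⊔ D) (hDcov y hy2 hy1)
  have hcompl : IsCompl (Y.homOfLE (le_sup_left : O₁ ≤ O₁ ⊔ O₂)).opensRange
      (Y.homOfLE hDO).opensRange := by
    rw [Scheme.opensRange_homOfLE, Scheme.opensRange_homOfLE, isCompl_iff, disjoint_iff,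
      codisjoint_iff, ← Scheme.Hom.preimage_inf, ← Scheme.Hom.preimage_sup, hinf, hsup]
    exact ⟨rfl, (O₁ ⊔ O₂).ι_preimage_self⟩
  obtain ⟨hc⟩ := nonempty_isColimit_binaryCofanMk_of_isCompl
    (Y.homOfLE (le_sup_left : O₁ ≤ O₁ ⊔ O₂)) (Y.homOfLE hDO) hcompl
  obtain ⟨ε, hεl, hεr⟩ : ∃ ε : (O₁ : Scheme.{u}) ⨿ (D : Scheme.{u}) ≅
      ((O₁ ⊔ O₂ : Y.Opens) : Scheme.{u}),
      coprod.inl ≫ ε.hom = Y.homOfLE (le_sup_left : O₁ ≤ O₁ ⊔ O₂) ∧
        coprod.inr ≫ ε.hom = Y.homOfLE hDO :=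
    ⟨(coprodIsCoprod _ _).coconePointUniqueUpToIso hc,
      (coprodIsCoprod _ _).comp_coconePointUniqueUpToIso_hom hc ⟨WalkingPair.left⟩,
      (coprodIsCoprod _ _).comp_coconePointUniqueUpToIso_hom hc ⟨WalkingPair.right⟩⟩
  have key : ε.hom ≫ f.resLE U (O₁ ⊔ O₂) (sup_le e₁ e₂) =
      coprod.desc (f.resLE U O₁ e₁) (f.resLE U D (hD₂.trans e₂)) := by
    apply coprod.hom_ext
    · rw [coprod.inl_desc, ← Category.assoc, hεl, Scheme.Hom.map_resLE]
    · rw [coprod.inr_desc, ← Category.assoc, hεr, Scheme.Hom.map_resLE]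
  rw [← MorphismProperty.cancel_left_of_respectsIso @IsFinite ε.hom, key]
  infer_instance

/-- Finitely many pieces with pairwise closed overlaps. -/
theorem isFinite_resLE_biSup {U : X.Opens} {ι : Type*} (V : ι → Y.Opens)
    (hle : ∀ j, V j ≤ f ⁻¹ᵁ U) (hfin : ∀ j, IsFinite (f.resLE U (V j) (hle j)))
    (hov : ∀ i j, (V j : Set Y) ∩ closure ((V i : Set Y) ∩ V j) ⊆ V i) (s : Finset ι) :
    IsFinite (f.resLE U (⨆ j ∈ s, V j) (iSup₂_le fun j _ => hle j)) := by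
  classical
  induction s using Finset.induction_on with
  | empty =>
    haveI : IsEmpty ↥((⨆ j ∈ (∅ : Finset ι), V j : Y.Opens) : Scheme.{u}) := by
      refine ⟨fun x => ?_⟩
      have h : x.1 ∈ (⨆ j ∈ (∅ : Finset ι), V j : Y.Opens) := x.2
      simp at h
    haveI : IsClosedImmersion (f.resLE U (⨆ j ∈ (∅ : Finset ι), V j)
        (iSup₂_le fun j _ => hle j)) := inferInstance
    infer_instance
  | insert a s ha ih =>
    have heq : (⨆ j ∈ insert a s, V j) = (⨆ j ∈ s, V j) ⊔ V a := by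
      rw [Finset.iSup_insert, sup_comm]
    refine (Scheme.Hom.resLE_congr f _ rfl heq @IsFinite).mpr ?_
    refine isFinite_resLE_sup f _ (hle a) ih (hfin a) ?_
    rintro y ⟨hya, hyc⟩
    have h1 : ((⨆ j ∈ s, V j : Y.Opens) : Set Y) ∩ V a = ⋃ j ∈ s, ((V j : Set Y) ∩ V a) := by
      simp only [Opens.coe_iSup, Set.iUnion_inter]
    rw [h1, s.closure_biUnion] at hyc
    obtain ⟨j, hj, hyj⟩ := Set.mem_iUnion₂.mp hyc
    have h2 : y ∈ V j := hov j a ⟨hya, hyj⟩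
    exact (le_iSup₂ (f := fun j (_ : j ∈ s) => V j) j hj) h2

/-- Generic finiteness of an affine piece, in `resLE` form. -/
theorem exists_basicOpen_isFinite_resLE [LocallyOfFiniteType f] {X₀ : X.Opens}
    (hX₀ : IsAffineOpen X₀) {η : X} (hηX₀ : η ∈ X₀) (hmax : GenFinMax.IsMaxPt η)
    (hfin : (f.base ⁻¹' {η}).Finite) {V : Y.Opens} (hV : IsAffineOpen V) (e : V ≤ f ⁻¹ᵁ X₀) :
    ∃ a : Γ(X, X₀), η ∈ X.basicOpen a ∧
      IsFinite (f.resLE (X.basicOpen a) (V ⊓ f ⁻¹ᵁ X.basicOpen a) inf_le_right) := by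
  have hp := GenFinMax.primeIdealOf_mem_minimalPrimes hX₀ hηX₀ hmax
  have hfin₁ := GenFinMax.finite_fiber_appLE f e hV hX₀ hηX₀ hfin
  obtain ⟨a, hap, ha⟩ := GenFinAlg.exists_away_finite_of_minimal (f.appLE X₀ V e).hom
    (f.finiteType_appLE hX₀ hV e) _ hp hfin₁
  refine ⟨a, (GenFinMax.mem_basicOpen_iff_notMem_primeIdealOf hX₀ hηX₀ a).mpr hap, ?_⟩
  have heq : V ⊓ f ⁻¹ᵁ X.basicOpen a = Y.basicOpen (f.appLE X₀ V e a) :=
    (Scheme.basicOpen_appLE f V X₀ e a).symm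
  refine (Scheme.Hom.resLE_congr f _ rfl heq @IsFinite).mpr ?_
  rw [GenFinMax.isFinite_resLE_iff f _ (hV.basicOpen _) (hX₀.basicOpen _)]
  rw [IsAffineOpen.appLE_eq_away_map f hX₀ hV e a]
  letI := hX₀.isLocalization_basicOpen a
  letI := hV.isLocalization_basicOpen (f.appLE X₀ V e a)
  exact ha _ _

end Groth.Agent.FinPieces
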