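import Mathlib
import Groth.Agent.Lib.GenFinMax_helper5

/-!
# Generic finiteness over a dense open (helper5): S2081.
APPEND-ONLY once landed.
-/

set_option autoImplicit false
universe u

namespace Groth.Agent.GenFinMax

open AlgebraicGeometry CategoryTheory TopologicalSpace

section Top

variable {T : Type*} [TopologicalSpace T]

/-- If there are finitely many irreducible components, a generic point of a component has an
open neighbourhood meeting no other component. -/
lemma exists_open_nhds_generic (hT : (irreducibleComponents T).Finite) {η : T}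
    (hη : closure {η} ∈ irreducibleComponents T) :
    ∃ O : Set T, IsOpen O ∧ η ∈ O ∧
      ∀ y ∈ O, ∀ Z ∈ irreducibleComponents T, y ∈ Z → Z = closure {η} := by
  let C : Set (Set T) := {Z ∈ irreducibleComponents T | Z ≠ closure {η}}
  have hCfin : C.Finite := hT.subset (Set.sep_subset _ _)
  have hclosed : IsClosed (⋃ Z ∈ C, Z) :=
    hCfin.isClosed_biUnion fun Z hZ => isClosed_of_mem_irreducibleComponents Z hZ.1
  refine ⟨(⋃ Z ∈ C, Z)ᶜ, hclosed.isOpen_compl, ?_, ?_⟩
  · simp only [Set.mem_compl_iff, Set.mem_iUnion, not_exists]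
    rintro Z hZ hηZ
    have h1 : closure {η} ⊆ Z :=
      (isClosed_of_mem_irreducibleComponents Z hZ.1).closure_subset_iff.mpr
        (Set.singleton_subset_iff.mpr hηZ)
    have h2 : Z ⊆ closure {η} := Maximal.le_of_ge hη hZ.1.1 h1
    exact hZ.2 (Set.Subset.antisymm h2 h1)
  · intro y hy Z hZ hyZ
    by_contra hne
    exact hy (Set.mem_biUnion (show Z ∈ C from ⟨hZ, hne⟩) hyZ)

lemma eq_of_closure_singleton_eq [T0Space T] {a b : T}
    (h : closure ({a} : Set T) = closure {b}) : a = b :=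
  (inseparable_iff_closure_eq.mpr h).eq

lemma exists_generic_specializes [QuasiSober T] (y : T) :
    ∃ η : T, closure {η} ∈ irreducibleComponents T ∧ y ∈ closure {η} := by
  obtain ⟨η, hη⟩ := QuasiSober.sober (isIrreducible_irreducibleComponent (x := y))
    isClosed_irreducibleComponent
  refine ⟨η, ?_, ?_⟩
  · rw [hη.def]
    exact irreducibleComponent_mem_irreducibleComponents y
  · rw [hη.def]
    exact mem_irreducibleComponent

end Top

variable {X Y : Scheme.{u}} (f : X ⟶ Y)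

/-- S2081. -/
theorem exists_dense_finite [LocallyOfFiniteType f] [QuasiCompact f]
    (hX : (irreducibleComponents (X : Type u)).Finite)
    (hY : (irreducibleComponents (Y : Type u)).Finite)
    (hgen : ∀ x : X, closure {x} ∈ irreducibleComponents (X : Type u) ↔
      closure {f.base x} ∈ irreducibleComponents (Y : Type u)) :
    ∃ V : Y.Opens, Dense (V : Set Y) ∧ IsFinite (f ∣_ V) := by
  have hGX : {ξ : X | closure {ξ} ∈ irreducibleComponents (X : Type u)}.Finite := by
    refine Set.Finite.of_finite_image (f := fun ξ : X => closure ({ξ} : Set X))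
      (hX.subset ?_) ?_
    · rintro _ ⟨ξ, hξ, rfl⟩
      exact hξ
    · intro a _ b _ h
      exact eq_of_closure_singleton_eq h
  have hO : ∀ ξ : X, closure {ξ} ∈ irreducibleComponents (X : Type u) →
      ∃ O : Set X, IsOpen O ∧ ξ ∈ O ∧
        ∀ y ∈ O, ∀ Z ∈ irreducibleComponents (X : Type u), y ∈ Z → Z = closure {ξ} :=
    fun ξ hξ => exists_open_nhds_generic hX hξ
  choose! O hOo hξO hOZ using hO
  have hV : ∀ η : Y, closure {η} ∈ irreducibleComponents (Y : Type u) →
      ∃ V : Y.Opens, η ∈ V ∧ IsFinite (f ∣_ V) := by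
    intro η hη
    have hmax : IsMaxPt η := isMaxPt_of_mem_irreducibleComponents hη
    have hFsub : f.base ⁻¹' {η} ⊆
        {ξ : X | closure {ξ} ∈ irreducibleComponents (X : Type u)} := by
      intro ξ hξ
      have h1 : f.base ξ = η := hξ
      exact (hgen ξ).mpr (h1 ▸ hη)
    have hfin : (f.base ⁻¹' {η}).Finite := hGX.subset hFsub
    obtain ⟨_, ⟨V₀, hV₀, rfl⟩, hηV₀, -⟩ :=
      Y.isBasis_affineOpens.exists_subset_of_mem_open (Set.mem_univ η) isOpen_univ
    have hU : ∀ ξ ∈ f.base ⁻¹' {η}, ∃ U : X.Opens, IsAffineOpen U ∧ ξ ∈ U ∧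
        (U : Set X) ⊆ O ξ ∧ U ≤ f ⁻¹ᵁ V₀ := by
      intro ξ hξ
      have hξV : ξ ∈ f ⁻¹ᵁ V₀ := by
        show f.base ξ ∈ V₀
        rw [show f.base ξ = η from hξ]
        exact hηV₀
      obtain ⟨_, ⟨U, hU, rfl⟩, hξU, hUO⟩ := X.isBasis_affineOpens.exists_subset_of_mem_open
        (show ξ ∈ O ξ ∩ ((f ⁻¹ᵁ V₀ : X.Opens) : Set X) from ⟨hξO ξ (hFsub hξ), hξV⟩)
        ((hOo ξ (hFsub hξ)).inter (f ⁻¹ᵁ V₀).isOpen)
      exact ⟨U, hU, hξU, fun z hz => (hUO hz).1, fun z hz => (hUO hz).2⟩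
    choose! U hUaff hξU hUO hUV using hU
    have hUsup : IsAffineOpen (⨆ ξ ∈ f.base ⁻¹' {η}, U ξ) := by
      refine IsAffineOpen.biSup_of_disjoint hfin hUaff ?_
      intro ξ hξ ξ' hξ' hne
      show Disjoint (U ξ) (U ξ')
      rw [← Opens.coe_disjoint, Set.disjoint_left]
      intro z hz hz'
      have h1 := hOZ ξ (hFsub hξ) z (hUO ξ hξ hz) _
        (irreducibleComponent_mem_irreducibleComponents z) mem_irreducibleComponent
      have h2 := hOZ ξ' (hFsub hξ') z (hUO ξ' hξ' hz') _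
        (irreducibleComponent_mem_irreducibleComponents z) mem_irreducibleComponent
      exact hne (eq_of_closure_singleton_eq (h1.symm.trans h2))
    obtain ⟨V, -, hηV, -, hfinV⟩ := exists_affine_finite f hV₀ hηV₀ hmax hfin hUsup
      (iSup₂_le fun ξ hξ => hUV ξ hξ)
      (fun ξ hξ => le_iSup₂ (f := fun ξ (_ : ξ ∈ f.base ⁻¹' {η}) => U ξ) ξ hξ (hξU ξ hξ))
    exact ⟨V, hηV, hfinV⟩
  choose! V hηV hfinV using hV
  set GY : Set Y := {η : Y | closure {η} ∈ irreducibleComponents (Y : Type u)} with hGY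
  have hle : ∀ η ∈ GY, V η ≤ ⨆ η ∈ GY, V η :=
    fun η hη => le_iSup₂ (f := fun η (_ : η ∈ GY) => V η) η hη
  refine ⟨⨆ η ∈ GY, V η, ?_, ?_⟩
  · intro y
    obtain ⟨η, hη, hy⟩ := exists_generic_specializes y
    have h1 : η ∈ ((⨆ η ∈ GY, V η : Y.Opens) : Set Y) := hle η hη (hηV η hη)
    exact closure_mono (Set.singleton_subset_iff.mpr h1) hy
  · refine IsZariskiLocalAtTarget.of_forall_exists_morphismRestrict (P := @IsFinite)
      (fun x => ?_)
    have hx : x.1 ∈ (⨆ η ∈ GY, V η : Y.Opens) := x.2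
    simp only [Opens.mem_iSup] at hx
    obtain ⟨η, hη, hxη⟩ := hx
    refine ⟨(⨆ η ∈ GY, V η : Y.Opens).ι ⁻¹ᵁ V η, hxη, ?_⟩
    rw [MorphismProperty.arrow_mk_iso_iff @IsFinite
      (morphismRestrictRestrict f (⨆ η ∈ GY, V η) ((⨆ η ∈ GY, V η : Y.Opens).ι ⁻¹ᵁ V η))]
    have himg : (⨆ η ∈ GY, V η : Y.Opens).ι ''ᵁ ((⨆ η ∈ GY, V η : Y.Opens).ι ⁻¹ᵁ V η) = V η := by
      rw [Scheme.Hom.image_preimage_eq_opensRange_inf, Scheme.Opens.opensRange_ι]
      exact inf_eq_right.mpr (hle η hη)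
    rw [himg]
    exact hfinV η hη

end Groth.Agent.GenFinMax
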