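import Mathlib

/-!
# Splitting towers for finite algebras (Stacks 29.48.6, algebra part)

For a finite `A`-algebra `B` we construct a finite free faithfully flat `A`-algebra `A'`, a finite free
`A'`-algebra `C`, a surjection `C → B ⊗[A] A'` of `A'`-algebras and finitely many retractions
`s j : C → A'` whose kernels cover `Spec C`.
-/

universe u

open Polynomial TensorProduct

namespace Groth.Agent.SplitTower

/-- Splitting of a monic polynomial after a finite free faithfully flat extension. -/
theorem exists_splitting : ∀ (d : ℕ) (A : Type u) [CommRing A] (P : A[X]), P.Monic → P.natDegree = d →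
    ∃ (A' : Type u) (_ : CommRing A') (_ : Algebra A A'), Module.Free A A' ∧ Module.Finite A A' ∧
      Module.FaithfullyFlat A A' ∧
      ∃ r : Fin d → A', P.map (algebraMap A A') = ∏ k, (X - C (r k)) := by
  intro d
  induction d with
  | zero =>
    intro A _ P hP hd
    refine ⟨A, inferInstance, inferInstance, inferInstance, inferInstance, inferInstance,
      Fin.elim0, ?_⟩
    rw [hP.natDegree_eq_zero.mp hd]
    simp
  | succ d ih =>
    intro A _ P hP hd
    have hA : Nontrivial A := by
      by_contra h
      rw [not_nontrivial_iff_subsingleton] at h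
      have h0 : P = 0 := Subsingleton.elim _ _
      rw [h0] at hd
      simp at hd
    have hA₁ : Nontrivial (AdjoinRoot P) := by
      have h1 : AdjoinRoot.mk P 1 ≠ 0 :=
        AdjoinRoot.mk_ne_zero_of_natDegree_lt hP one_ne_zero
          (by rw [natDegree_one, hd]; exact Nat.succ_pos d)
      exact nontrivial_of_ne _ _ h1
    have hfree : Module.Free A (AdjoinRoot P) := hP.free_adjoinRoot
    have hfin : Module.Finite A (AdjoinRoot P) := hP.finite_adjoinRoot
    obtain ⟨P₁, hP₁def⟩ : ∃ P₁ : (AdjoinRoot P)[X], P₁ = P.map (algebraMap A (AdjoinRoot P)) :=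
      ⟨_, rfl⟩
    have hP₁ : P₁.Monic := hP₁def ▸ hP.map _
    obtain ⟨α, hαdef⟩ : ∃ α : AdjoinRoot P, α = AdjoinRoot.root P := ⟨_, rfl⟩
    have hroot : P₁.IsRoot α := by
      rw [hP₁def, hαdef, AdjoinRoot.algebraMap_eq]
      exact AdjoinRoot.isRoot_root P
    obtain ⟨Q, hQdef⟩ : ∃ Q : (AdjoinRoot P)[X], Q = P₁ /ₘ (X - C α) := ⟨_, rfl⟩
    have hfac : (X - C α) * Q = P₁ := hQdef ▸ mul_divByMonic_eq_iff_isRoot.mpr hroot
    have hQ : Q.Monic := by
      have h2 : ((X - C α) * Q).Monic := hfac ▸ hP₁
      exact (monic_X_sub_C α).of_mul_monic_left h2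
    have hQd : Q.natDegree = d := by
      rw [hQdef, natDegree_divByMonic P₁ (monic_X_sub_C α), natDegree_X_sub_C, hP₁def,
        hP.natDegree_map, hd]
      rfl
    obtain ⟨A', _, _, hfree', hfin', hff', r', hr'⟩ := ih (AdjoinRoot P) Q hQ hQd
    letI alg : Algebra A A' :=
      ((algebraMap (AdjoinRoot P) A').comp (algebraMap A (AdjoinRoot P))).toAlgebra
    haveI : IsScalarTower A (AdjoinRoot P) A' := IsScalarTower.of_algebraMap_eq (fun _ => rfl)
    refine ⟨A', inferInstance, alg, Module.Free.trans (R := A) (S := AdjoinRoot P) (M := A'),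
      Module.Finite.trans (R := A) (AdjoinRoot P) A', Module.FaithfullyFlat.trans A (AdjoinRoot P) A',
      Fin.cons (algebraMap (AdjoinRoot P) A' α) r', ?_⟩
    have h3 : P.map (algebraMap A A') = P₁.map (algebraMap (AdjoinRoot P) A') := by
      rw [hP₁def, Polynomial.map_map]
      rfl
    rw [h3, ← hfac, Polynomial.map_mul, hr', Fin.prod_univ_succ]
    simp

/-- The universal `A'`-algebra with `n` roots of `P`, with the facts needed about it. -/
structure Tower (A' : Type u) [CommRing A'] (P : A'[X]) (n : ℕ) where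
  C : Type u
  [ring : CommRing C]
  [alg : Algebra A' C]
  t : Fin n → C
  free : Module.Free A' C
  fin : Module.Finite A' C
  root : ∀ i, aeval (t i) P = 0
  adjoin : Algebra.adjoin A' (Set.range t) = ⊤
  lift : ∀ (D : Type u) [CommRing D] (φ : A' →+* D) (y : Fin n → D), (∀ i, eval₂ φ (y i) P = 0) →
    ∃ ψ : C →+* D, ψ.comp (algebraMap A' C) = φ ∧ ∀ i, ψ (t i) = y i

attribute [instance] Tower.ring Tower.alg

theorem nonempty_tower {A' : Type u} [CommRing A'] (P : A'[X]) (hP : P.Monic) :
    ∀ n, Nonempty (Tower A' P n) := by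
  intro n
  induction n with
  | zero =>
    exact ⟨{ C := A', t := Fin.elim0, free := inferInstance, fin := inferInstance,
             root := fun i => i.elim0,
             adjoin := by
               rw [eq_top_iff]
               intro x _
               exact Subalgebra.algebraMap_mem _ x
             lift := fun D _ φ y _ => ⟨φ, RingHom.ext fun x => rfl, fun i => i.elim0⟩ }⟩
  | succ n ih =>
    obtain ⟨T⟩ := ih
    obtain ⟨Q, hQdef⟩ : ∃ Q : T.C[X], Q = P.map (algebraMap A' T.C) := ⟨_, rfl⟩
    have hQ : Q.Monic := hQdef ▸ hP.map _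
    haveI := T.free
    haveI := T.fin
    haveI : Module.Free T.C (AdjoinRoot Q) := hQ.free_adjoinRoot
    haveI : Module.Finite T.C (AdjoinRoot Q) := hQ.finite_adjoinRoot
    refine ⟨{ C := AdjoinRoot Q,
              t := Fin.snoc (α := fun _ => AdjoinRoot Q)
                (fun i => algebraMap T.C (AdjoinRoot Q) (T.t i)) (AdjoinRoot.root Q),
              free := Module.Free.trans (R := A') (S := T.C) (M := AdjoinRoot Q),
              fin := Module.Finite.trans (R := A') T.C (AdjoinRoot Q),
              root := ?_, adjoin := ?_, lift := ?_ }⟩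
    · intro i
      refine Fin.lastCases ?_ (fun i => ?_) i
      · rw [Fin.snoc_last, aeval_def, AdjoinRoot.algebraMap_eq', ← eval₂_map, ← hQdef]
        exact AdjoinRoot.eval₂_root Q
      · rw [Fin.snoc_castSucc, aeval_algebraMap_apply, T.root i, map_zero]
    · have h1 : ∀ c : T.C, algebraMap T.C (AdjoinRoot Q) c ∈
          Algebra.adjoin A' (Set.range (Fin.snoc (α := fun _ => AdjoinRoot Q)
            (fun i => algebraMap T.C (AdjoinRoot Q) (T.t i)) (AdjoinRoot.root Q))) := by
        intro c
        have hc : c ∈ Algebra.adjoin A' (Set.range T.t) := by rw [T.adjoin]; trivial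
        induction hc using Algebra.adjoin_induction with
        | mem x hx =>
          obtain ⟨i, rfl⟩ := hx
          exact Algebra.subset_adjoin ⟨i.castSucc, by rw [Fin.snoc_castSucc]⟩
        | algebraMap a =>
          rw [← IsScalarTower.algebraMap_apply]
          exact Subalgebra.algebraMap_mem _ a
        | add x y _ _ hx hy => rw [map_add]; exact add_mem hx hy
        | mul x y _ _ hx hy => rw [map_mul]; exact mul_mem hx hy
      have h2 : AdjoinRoot.root Q ∈
          Algebra.adjoin A' (Set.range (Fin.snoc (α := fun _ => AdjoinRoot Q)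
            (fun i => algebraMap T.C (AdjoinRoot Q) (T.t i)) (AdjoinRoot.root Q))) :=
        Algebra.subset_adjoin ⟨Fin.last n, by rw [Fin.snoc_last]⟩
      rw [eq_top_iff]
      intro z _
      refine AdjoinRoot.induction_on Q z fun p => ?_
      rw [← AdjoinRoot.aeval_eq, aeval_eq_sum_range]
      refine sum_mem fun k _ => ?_
      rw [Algebra.smul_def]
      exact mul_mem (h1 _) (pow_mem h2 _)
    · intro D _ φ y hy
      obtain ⟨ψ₀, hψ₀, hψ₀t⟩ := T.lift D φ (fun i => y i.castSucc) (fun i => hy _)
      have h0 : Q.eval₂ ψ₀ (y (Fin.last n)) = 0 := by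
        rw [hQdef, eval₂_map, hψ₀]
        exact hy _
      refine ⟨AdjoinRoot.lift ψ₀ (y (Fin.last n)) h0, ?_, fun i => ?_⟩
      · rw [AdjoinRoot.algebraMap_eq', ← RingHom.comp_assoc, AdjoinRoot.lift_comp_of, hψ₀]
      · refine Fin.lastCases ?_ (fun i => ?_) i
        · rw [Fin.snoc_last, AdjoinRoot.lift_root]
        · rw [Fin.snoc_castSucc, AdjoinRoot.algebraMap_eq, AdjoinRoot.lift_of, hψ₀t]

/-- The algebraic data of Stacks 29.48.6. -/
theorem exists_data (A B : Type u) [CommRing A] [CommRing B] [Algebra A B] [Module.Finite A B] :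
    ∃ (A' : Type u) (_ : CommRing A') (_ : Algebra A A') (C : Type u) (_ : CommRing C)
      (_ : Algebra A' C),
      Module.Free A A' ∧ Module.Finite A A' ∧ Module.FaithfullyFlat A A' ∧
      Module.Free A' C ∧ Module.Finite A' C ∧
      ∃ π : C →+* B ⊗[A] A', Function.Surjective π ∧
        π.comp (algebraMap A' C) =
          (Algebra.TensorProduct.includeRight : A' →ₐ[A] B ⊗[A] A').toRingHom ∧
        ∃ (m : ℕ) (s : Fin m → (C →+* A')),
          (∀ j, (s j).comp (algebraMap A' C) = RingHom.id A') ∧
          ∀ q : Ideal C, q.IsPrime → ∃ j, RingHom.ker (s j) ≤ q := by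
  classical
  obtain ⟨n, x, hx⟩ := Module.Finite.exists_fin (R := A) (M := B)
  have hint : ∀ i, IsIntegral A (x i) := fun i => Algebra.IsIntegral.isIntegral (x i)
  choose p hpm hp using hint
  obtain ⟨P, hPdef⟩ : ∃ P : A[X], P = ∏ i, p i := ⟨_, rfl⟩
  have hP : P.Monic := hPdef ▸ monic_prod_of_monic _ _ (fun i _ => hpm i)
  have hPx : ∀ i, eval₂ (algebraMap A B) (x i) P = 0 := by
    intro i
    rw [hPdef, eval₂_finsetProd]
    exact Finset.prod_eq_zero (Finset.mem_univ i) (hp i)
  obtain ⟨A', _, _, hf1, hf2, hf3, r, hr⟩ := exists_splitting P.natDegree A P hP rfl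
  obtain ⟨P', hP'def⟩ : ∃ P' : A'[X], P' = P.map (algebraMap A A') := ⟨_, rfl⟩
  have hP' : P'.Monic := hP'def ▸ hP.map _
  obtain ⟨T⟩ := nonempty_tower P' hP' n
  obtain ⟨ιR, hιR⟩ : ∃ ιR : A' →+* B ⊗[A] A',
      ιR = (Algebra.TensorProduct.includeRight : A' →ₐ[A] B ⊗[A] A').toRingHom := ⟨_, rfl⟩
  obtain ⟨ιL, hιL⟩ : ∃ ιL : B →+* B ⊗[A] A',
      ιL = (Algebra.TensorProduct.includeLeft : B →ₐ[A] B ⊗[A] A').toRingHom := ⟨_, rfl⟩
  have hcomm : ιR.comp (algebraMap A A') = ιL.comp (algebraMap A B) := by
    ext a
    rw [hιR, hιL]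
    exact ((Algebra.TensorProduct.includeRight : A' →ₐ[A] B ⊗[A] A').commutes a).trans
      ((Algebra.TensorProduct.includeLeft : B →ₐ[A] B ⊗[A] A').commutes a).symm
  obtain ⟨π, hπ, hπt⟩ := T.lift (B ⊗[A] A') ιR (fun i => ιL (x i)) (by
    intro i
    rw [hP'def, eval₂_map, hcomm, ← hom_eval₂, hPx i, map_zero])
  have hsurj : Function.Surjective π := by
    suffices h : ∀ z, z ∈ π.range from fun z => RingHom.mem_range.mp (h z)
    have hR : ∀ a' : A', ιR a' ∈ π.range := fun a' =>
      ⟨algebraMap A' T.C a', by rw [← RingHom.comp_apply, hπ]⟩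
    have hL : ∀ b : B, ιL b ∈ π.range := by
      intro b
      have hb : b ∈ Submodule.span A (Set.range x) := by rw [hx]; trivial
      induction hb using Submodule.span_induction with
      | mem y hy =>
        obtain ⟨i, rfl⟩ := hy
        exact ⟨T.t i, hπt i⟩
      | zero => rw [map_zero]; exact zero_mem _
      | add y z _ _ hy hz => rw [map_add]; exact add_mem hy hz
      | smul a y _ hy =>
        rw [Algebra.smul_def, map_mul]
        refine mul_mem ?_ hy
        have h4 : ιL (algebraMap A B a) = ιR (algebraMap A A' a) := by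
          rw [← RingHom.comp_apply, ← hcomm]
          rfl
        rw [h4]
        exact hR _
    intro z
    induction z using TensorProduct.induction_on with
    | zero => exact zero_mem _
    | tmul b a' =>
      have h5 : b ⊗ₜ[A] a' = ιL b * ιR a' := by
        rw [hιL, hιR]
        simp
      rw [h5]
      exact mul_mem (hL b) (hR a')
    | add z w hz hw => exact add_mem hz hw
  have hroots : ∀ k, eval₂ (RingHom.id A') (r k) P' = 0 := by
    intro k
    rw [hP'def, hr, eval₂_id, eval_prod]
    exact Finset.prod_eq_zero (Finset.mem_univ k) (by simp)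
  have hs : ∀ j : Fin n → Fin P.natDegree, ∃ σ : T.C →+* A',
      σ.comp (algebraMap A' T.C) = RingHom.id A' ∧ ∀ i, σ (T.t i) = r (j i) :=
    fun j => T.lift A' (RingHom.id A') (fun i => r (j i)) (fun i => hroots _)
  choose σ hσ hσt using hs
  have hcov : ∀ q : Ideal T.C, q.IsPrime → ∃ j, RingHom.ker (σ j) ≤ q := by
    intro q hq
    have h1 : ∀ i, ∃ k, T.t i - algebraMap A' T.C (r k) ∈ q := by
      intro i
      have h0 : aeval (T.t i) (∏ k, (X - C (r k))) = 0 := by
        rw [← hr, ← hP'def]
        exact T.root i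
      rw [map_prod] at h0
      have h2 : ∏ k, (T.t i - algebraMap A' T.C (r k)) ∈ q := by
        have h3 : ∏ k, (T.t i - algebraMap A' T.C (r k)) = 0 := by
          rw [← h0]
          refine Finset.prod_congr rfl fun k _ => ?_
          simp
        rw [h3]
        exact zero_mem _
      obtain ⟨k, _, hk⟩ := (hq.prod_mem_iff).mp h2
      exact ⟨k, hk⟩
    choose j hj using h1
    refine ⟨j, fun c hc => ?_⟩
    have key : ∀ c : T.C, c - algebraMap A' T.C (σ j c) ∈ q := by
      intro c
      have hc : c ∈ Algebra.adjoin A' (Set.range T.t) := by rw [T.adjoin]; trivial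
      induction hc using Algebra.adjoin_induction with
      | mem y hy =>
        obtain ⟨i, rfl⟩ := hy
        rw [hσt]
        exact hj i
      | algebraMap a =>
        have h6 : σ j (algebraMap A' T.C a) = a := by
          rw [← RingHom.comp_apply, hσ]
          rfl
        rw [h6, sub_self]
        exact zero_mem _
      | add y z _ _ hy hz =>
        rw [map_add, map_add]
        have h7 : y + z - (algebraMap A' T.C (σ j y) + algebraMap A' T.C (σ j z)) =
            (y - algebraMap A' T.C (σ j y)) + (z - algebraMap A' T.C (σ j z)) := by ring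
        rw [h7]
        exact add_mem hy hz
      | mul y z _ _ hy hz =>
        rw [map_mul, map_mul]
        have h7 : y * z - algebraMap A' T.C (σ j y) * algebraMap A' T.C (σ j z) =
            y * (z - algebraMap A' T.C (σ j z)) +
              (y - algebraMap A' T.C (σ j y)) * algebraMap A' T.C (σ j z) := by ring
        rw [h7]
        exact add_mem (q.mul_mem_left _ hz) (q.mul_mem_right _ hy)
    have h8 := key c
    rw [RingHom.mem_ker.mp hc, map_zero, sub_zero] at h8
    exact h8
  refine ⟨A', inferInstance, inferInstance, T.C, inferInstance, inferInstance, hf1, hf2, hf3,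
    T.free, T.fin, π, hsurj, hιR ▸ hπ, Fintype.card (Fin n → Fin P.natDegree),
    fun k => σ ((Fintype.equivFin (Fin n → Fin P.natDegree)).symm k), fun k => hσ _,
    fun q hq => ?_⟩
  obtain ⟨j, hj⟩ := hcov q hq
  refine ⟨Fintype.equivFin (Fin n → Fin P.natDegree) j, ?_⟩
  show RingHom.ker (σ ((Fintype.equivFin (Fin n → Fin P.natDegree)).symm
    (Fintype.equivFin (Fin n → Fin P.natDegree) j))) ≤ q
  rwa [Equiv.symm_apply_apply]

end Groth.Agent.SplitTower
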