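import Mathlib
import Groth.Prelude.Def_Mor2
import Groth.Agent.Lib.SplitTower_helper5

/-!
# Stacks 29.48.6: a finite morphism to an affine scheme embeds, after a finite locally free surjective
base change, into a finite locally free scheme which is a finite union of sections.
-/

universe u

open CategoryTheory CategoryTheory.Limits AlgebraicGeometry TensorProduct

namespace Groth.Agent.SplitTowerSch

theorem isFinLocFree_SpecMap (R S : Type u) [CommRing R] [CommRing S] [Algebra R S]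
    [Module.Free R S] [Module.Finite R S] :
    Mor2.IsFinLocFree (Spec.map (CommRingCat.ofHom (algebraMap R S))) := by
  refine ⟨?_, ?_, ?_⟩
  · rw [IsFinite.SpecMap_iff]
    exact RingHom.finite_algebraMap.mpr inferInstance
  · rw [Flat.SpecMap_iff]
    exact RingHom.flat_algebraMap_iff.mpr inferInstance
  · rw [LocallyOfFinitePresentation.SpecMap_iff]
    haveI : Module.FinitePresentation R S := Module.finitePresentation_of_projective R S
    exact RingHom.finitePresentation_algebraMap.mpr inferInstance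

theorem spec_case (A B : Type u) [CommRing A] [CommRing B] [Algebra A B] [Module.Finite A B] :
    ∃ (X' : Scheme.{u}) (b : X' ⟶ Spec (.of A)) (Z' : Scheme.{u}) (c : Z' ⟶ X')
      (i : pullback (Spec.map (CommRingCat.ofHom (algebraMap A B))) b ⟶ Z'),
      Mor2.IsFinLocFree b ∧ Surjective b ∧ Mor2.IsFinLocFree c ∧ IsClosedImmersion i ∧
      i ≫ c = pullback.snd _ b ∧
      ∃ (m : ℕ) (Zj : Fin m → Scheme.{u}) (ιj : ∀ j, Zj j ⟶ Z'),
        (∀ j, IsClosedImmersion (ιj j)) ∧ (∀ j, IsIso (ιj j ≫ c)) ∧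
        (⋃ j, Set.range (ιj j).base) = Set.univ := by
  obtain ⟨A', _, _, C, _, _, hf1, hf2, hf3, hc1, hc2, π, hπs, hπ, m, s, hs, hcov⟩ :=
    SplitTower.exists_data A B
  have hss : ∀ j, Function.Surjective (s j) := fun j a =>
    ⟨algebraMap A' C a, by rw [← RingHom.comp_apply, hs]; rfl⟩
  refine ⟨Spec (.of A'), Spec.map (CommRingCat.ofHom (algebraMap A A')), Spec (.of C),
    Spec.map (CommRingCat.ofHom (algebraMap A' C)),
    (pullbackSpecIso A B A').hom ≫ Spec.map (CommRingCat.ofHom π),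
    isFinLocFree_SpecMap A A', ?_, isFinLocFree_SpecMap A' C, ?_, ?_, m, fun _ => Spec (.of A'),
    fun j => Spec.map (CommRingCat.ofHom (s j)), ?_, ?_, ?_⟩
  · exact ((flat_and_surjective_SpecMap_iff _).mpr
      (RingHom.faithfullyFlat_algebraMap_iff.mpr hf3)).2
  · haveI := IsClosedImmersion.spec_of_surjective (CommRingCat.ofHom π) hπs
    infer_instance
  · rw [Category.assoc, ← Spec.map_comp, ← CommRingCat.ofHom_comp, hπ]
    exact pullbackSpecIso_hom_snd A B A'
  · intro j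
    exact IsClosedImmersion.spec_of_surjective (CommRingCat.ofHom (s j)) (hss j)
  · intro j
    rw [← Spec.map_comp, ← CommRingCat.ofHom_comp, hs j, CommRingCat.ofHom_id, Spec.map_id]
    infer_instance
  · refine Set.eq_univ_of_forall fun x => ?_
    obtain ⟨j, hj⟩ := hcov x.asIdeal x.isPrime
    have hx : x ∈ Set.range (PrimeSpectrum.comap (s j)) := by
      rw [range_comap_of_surjective _ _ (hss j)]
      exact (PrimeSpectrum.mem_zeroLocus (R := C) x _).mpr (fun a ha => hj ha)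
    obtain ⟨y, hy⟩ := hx
    exact Set.mem_iUnion.mpr ⟨j, y, hy⟩

theorem general {X Y : Scheme.{u}} [IsAffine X] (f : Y ⟶ X) [IsFinite f] :
    ∃ (X' : Scheme.{u}) (b : X' ⟶ X) (Z' : Scheme.{u}) (c : Z' ⟶ X') (i : pullback f b ⟶ Z'),
      Mor2.IsFinLocFree b ∧ Surjective b ∧ Mor2.IsFinLocFree c ∧ IsClosedImmersion i ∧
      i ≫ c = pullback.snd f b ∧
      ∃ (m : ℕ) (Zj : Fin m → Scheme.{u}) (ιj : ∀ j, Zj j ⟶ Z'),
        (∀ j, IsClosedImmersion (ιj j)) ∧ (∀ j, IsIso (ιj j ≫ c)) ∧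
        (⋃ j, Set.range (ιj j).base) = Set.univ := by
  haveI : IsAffine Y := isAffine_of_isAffineHom f
  letI : Algebra Γ(X, ⊤) Γ(Y, ⊤) := f.appTop.hom.toAlgebra
  haveI : Module.Finite Γ(X, ⊤) Γ(Y, ⊤) := by
    have h := (HasAffineProperty.iff_of_isAffine (P := @IsFinite) (f := f)).mp inferInstance
    exact RingHom.finite_algebraMap.mp h.2
  obtain ⟨X', b₀, Z', c, i₀, hb, hbs, hc, hi, hic, m, Zj, ιj, h1, h2, h3⟩ :=
    spec_case Γ(X, ⊤) Γ(Y, ⊤)
  have e1 : f ≫ X.isoSpec.hom =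
      Y.isoSpec.hom ≫ Spec.map (CommRingCat.ofHom (algebraMap Γ(X, ⊤) Γ(Y, ⊤))) :=
    (Scheme.isoSpec_hom_naturality f).symm
  have e2 : (b₀ ≫ X.isoSpec.inv) ≫ X.isoSpec.hom = 𝟙 X' ≫ b₀ := by simp
  refine ⟨X', b₀ ≫ X.isoSpec.inv, Z', c,
    pullback.map f (b₀ ≫ X.isoSpec.inv) _ b₀ Y.isoSpec.hom (𝟙 X') X.isoSpec.hom e1 e2 ≫ i₀,
    ?_, ?_, hc, inferInstance, ?_, m, Zj, ιj, h1, h2, h3⟩
  · obtain ⟨k1, k2, k3⟩ := hb
    exact ⟨inferInstance, inferInstance, inferInstance⟩
  · infer_instance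
  · rw [Category.assoc, hic]
    exact (pullback.lift_snd _ _ _).trans (Category.comp_id _)

end Groth.Agent.SplitTowerSch
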