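import Mathlib
import Groth.Agent.Lib.SplitTowerSch_helper5

/-!
# Finite morphisms map closed nowhere dense sets to closed nowhere dense sets (Stacks 29.48.7)
APPEND-ONLY once landed.
-/

set_option autoImplicit false
universe u

open CategoryTheory CategoryTheory.Limits AlgebraicGeometry

namespace Groth.Agent.NDFinite

section Top

theorem exists_interior_inter_nonempty {X : Type*} [TopologicalSpace X] {ι : Type*}
    (s : Finset ι) (A : ι → Set X) (hA : ∀ k, IsClosed (A k)) :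
    ∀ (N : Set X), IsOpen N → N.Nonempty → N ⊆ ⋃ k ∈ s, A k →
      ∃ k ∈ s, (interior (A k) ∩ N).Nonempty := by
  classical
  induction s using Finset.induction_on with
  | empty =>
    intro N _ hN hsub
    obtain ⟨x, hx⟩ := hN
    have h := hsub hx
    simp at h
  | insert a s ha ih =>
    intro N hNo hN hsub
    by_cases h : N ⊆ A a
    · refine ⟨a, Finset.mem_insert_self a s, ?_⟩
      obtain ⟨x, hx⟩ := hN
      exact ⟨x, (interior_maximal h hNo) hx, hx⟩
    · obtain ⟨x, hxN, hxA⟩ := Set.not_subset.mp h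
      have hN' : (N ∩ (A a)ᶜ).Nonempty := ⟨x, hxN, hxA⟩
      have hsub' : N ∩ (A a)ᶜ ⊆ ⋃ k ∈ s, A k := by
        intro y hy
        obtain ⟨k, hk, hyk⟩ := Set.mem_iUnion₂.mp (hsub hy.1)
        rcases Finset.mem_insert.mp hk with hka | hk'
        · exact absurd (hka ▸ hyk) hy.2
        · exact Set.mem_iUnion₂.mpr ⟨k, hk', hyk⟩
      obtain ⟨k, hk, x', hx'⟩ := ih (N ∩ (A a)ᶜ) (hNo.inter (hA a).isOpen_compl) hN' hsub'
      exact ⟨k, Finset.mem_insert_of_mem hk, x', hx'.1, hx'.2.1⟩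

/-- The topological heart of Stacks 29.48.7. -/
theorem interior_image_eq_empty_of_sections {Z X : Type*} [TopologicalSpace Z] [TopologicalSpace X]
    {m : ℕ} (c : Z → X) (hc : Continuous c) (σ : Fin m → X → Z) (hσ : ∀ k, Continuous (σ k))
    (hcσ : ∀ k x, c (σ k x) = x) (hcl : ∀ k, IsClosed (Set.range (σ k)))
    (hcov : ∀ z, ∃ k, z ∈ Set.range (σ k)) (T : Set Z) (hT : IsClosed T)
    (hT' : interior T = ∅) : interior (c '' T) = ∅ := by
  classical
  by_contra hne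
  have hNne : (interior (c '' T)).Nonempty := Set.nonempty_iff_ne_empty.mpr hne
  have hz : ∀ k z, z ∈ Set.range (σ k) → σ k (c z) = z := by
    rintro k _ ⟨x, rfl⟩
    rw [hcσ]
  have h1 : interior (c '' T) ⊆ ⋃ k ∈ (Finset.univ : Finset (Fin m)), σ k ⁻¹' T := by
    intro x hx
    obtain ⟨t, ht, rfl⟩ := interior_subset hx
    obtain ⟨k, hk⟩ := hcov t
    refine Set.mem_iUnion₂.mpr ⟨k, Finset.mem_univ k, ?_⟩
    show σ k (c t) ∈ T
    rw [hz k t hk]
    exact ht
  obtain ⟨k₁, -, hk₁⟩ := exists_interior_inter_nonempty Finset.univ (fun k => σ k ⁻¹' T)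
    (fun k => hT.preimage (hσ k)) _ isOpen_interior hNne h1
  obtain ⟨N₁, hN₁o, hN₁ne, hN₁T⟩ : ∃ N₁ : Set X, IsOpen N₁ ∧ N₁.Nonempty ∧
      ∀ x ∈ N₁, σ k₁ x ∈ T :=
    ⟨interior (σ k₁ ⁻¹' T) ∩ interior (c '' T), isOpen_interior.inter isOpen_interior, hk₁,
      fun x hx => (interior_subset hx.1 : x ∈ σ k₁ ⁻¹' T)⟩
  have h3 : ∀ s : Finset (Fin m), ∃ N' : Set X, IsOpen N' ∧ N'.Nonempty ∧ N' ⊆ N₁ ∧
      ∀ i ∈ s, (∀ x ∈ N', σ i x = σ k₁ x) ∨ (∀ x ∈ N', σ k₁ x ∉ Set.range (σ i)) := by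
    intro s
    induction s using Finset.induction_on with
    | empty =>
      exact ⟨N₁, hN₁o, hN₁ne, subset_rfl, fun i hi => absurd hi (Finset.notMem_empty i)⟩
    | insert a s ha ih =>
      obtain ⟨N', hN'o, hN'ne, hN'sub, hN'⟩ := ih
      by_cases h : ∀ x ∈ N', σ k₁ x ∈ Set.range (σ a)
      · refine ⟨N', hN'o, hN'ne, hN'sub, fun i hi => ?_⟩
        rcases Finset.mem_insert.mp hi with hia | hi'
        · left
          intro x hx
          have h4 := hz a (σ k₁ x) (h x hx)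
          rw [hcσ] at h4
          rw [hia]
          exact h4
        · exact hN' i hi'
      · push Not at h
        obtain ⟨x₀, hx₀, hx₀a⟩ := h
        refine ⟨N' ∩ σ k₁ ⁻¹' (Set.range (σ a))ᶜ,
          hN'o.inter ((hcl a).isOpen_compl.preimage (hσ k₁)), ⟨x₀, hx₀, hx₀a⟩,
          Set.inter_subset_left.trans hN'sub, fun i hi => ?_⟩
        rcases Finset.mem_insert.mp hi with hia | hi'
        · right
          intro x hx
          rw [hia]
          exact hx.2
        · rcases hN' i hi' with h' | h'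
          · exact Or.inl fun x hx => h' x hx.1
          · exact Or.inr fun x hx => h' x hx.1
  obtain ⟨N', hN'o, ⟨x₀, hx₀⟩, hN'sub, hN'⟩ := h3 Finset.univ
  obtain ⟨I₂, hI₂⟩ : ∃ I₂ : Set (Fin m), I₂ = {i | ∀ x ∈ N', σ k₁ x ∉ Set.range (σ i)} :=
    ⟨_, rfl⟩
  obtain ⟨O, hOdef⟩ : ∃ O : Set Z, O = c ⁻¹' N' ∩ ⋂ i ∈ I₂, (Set.range (σ i))ᶜ := ⟨_, rfl⟩
  have hOo : IsOpen O := by
    rw [hOdef]
    exact (hN'o.preimage hc).inter
      ((Set.toFinite I₂).isOpen_biInter fun i _ => (hcl i).isOpen_compl)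
  have hOT : O ⊆ T := by
    intro z hzO
    rw [hOdef] at hzO
    obtain ⟨k, hk⟩ := hcov z
    have hkI : k ∉ I₂ := fun hkI => (Set.mem_iInter₂.mp hzO.2 k hkI) hk
    have hcz : c z ∈ N' := hzO.1
    have heq : σ k (c z) = σ k₁ (c z) := by
      rcases hN' k (Finset.mem_univ k) with h' | h'
      · exact h' _ hcz
      · exact absurd (hI₂ ▸ h' : k ∈ I₂) hkI
    have h5 : z = σ k₁ (c z) := by rw [← heq, hz k z hk]
    rw [h5]
    exact hN₁T _ (hN'sub hcz)
  have hOne : σ k₁ x₀ ∈ O := by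
    rw [hOdef]
    refine ⟨?_, Set.mem_iInter₂.mpr fun i hi => ?_⟩
    · show c (σ k₁ x₀) ∈ N'
      rw [hcσ]
      exact hx₀
    · rw [hI₂] at hi
      exact hi x₀ hx₀
  have h6 : σ k₁ x₀ ∈ interior T := interior_maximal hOT hOo hOne
  rw [hT'] at h6
  exact h6

end Top

theorem interior_image_eq_empty_of_isFinite_of_isAffine {X Y : Scheme.{u}} [IsAffine X]
    (f : Y ⟶ X) [IsFinite f] (T : Set Y) (hT : IsClosed T) (hT' : interior T = ∅) :
    interior (f.base '' T) = ∅ := by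
  obtain ⟨X', b, Z', c, i, ⟨hb1, hb2, hb3⟩, hbs, hc, hi, hic, m, Zj, ιj, h1, h2, h3⟩ :=
    SplitTowerSch.general f
  haveI := hb2
  haveI := hb3
  have ha : IsOpenMap (pullback.fst f b).base := (pullback.fst f b).isOpenMap
  obtain ⟨T', hT'def⟩ : ∃ T' : Set ↑(pullback f b), T' = (pullback.fst f b).base ⁻¹' T :=
    ⟨_, rfl⟩
  have hT'c : IsClosed T' := hT'def ▸ hT.preimage (pullback.fst f b).continuous
  have hT'i : interior T' = ∅ := by
    by_contra hne
    obtain ⟨y, hy⟩ := Set.nonempty_iff_ne_empty.mpr hne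
    have h4 : (pullback.fst f b).base y ∈ interior T :=
      interior_maximal (Set.image_subset_iff.mpr (hT'def ▸ interior_subset))
        (ha _ isOpen_interior) ⟨y, hy, rfl⟩
    rw [hT'] at h4
    exact h4
  obtain ⟨T'', hT''def⟩ : ∃ T'' : Set Z', T'' = i.base '' T' := ⟨_, rfl⟩
  have hT''c : IsClosed T'' := hT''def ▸ i.isClosedEmbedding.isClosedMap _ hT'c
  have hT''i : interior T'' = ∅ := by
    by_contra hne
    obtain ⟨z, hz⟩ := Set.nonempty_iff_ne_empty.mpr hne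
    have hz' : z ∈ i.base '' T' := hT''def ▸ interior_subset hz
    obtain ⟨y, hy, rfl⟩ := hz'
    have hsub : i.base ⁻¹' interior T'' ⊆ T' := by
      intro y' hy'
      have hy'2 : i.base y' ∈ i.base '' T' := hT''def ▸ interior_subset hy'
      obtain ⟨y'', hy'', he⟩ := hy'2
      rw [← i.isClosedEmbedding.injective he]
      exact hy''
    have h4 : y ∈ interior T' :=
      interior_maximal hsub (isOpen_interior.preimage i.continuous) hz
    rw [hT'i] at h4
    exact h4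
  haveI : ∀ k, IsIso (ιj k ≫ c) := h2
  have hcσ : ∀ (k : Fin m) (x : X'),
      c.base (((ιj k).base ∘ (inv (ιj k ≫ c)).base) x) = x := by
    intro k x
    show c.base ((ιj k).base ((inv (ιj k ≫ c)).base x)) = x
    rw [← Scheme.Hom.comp_apply, ← Scheme.Hom.comp_apply, IsIso.inv_hom_id]
    rfl
  have hrange : ∀ k : Fin m,
      Set.range ((ιj k).base ∘ (inv (ιj k ≫ c)).base) = Set.range (ιj k).base := fun k =>
    (inv (ιj k ≫ c)).homeomorph.surjective.range_comp _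
  have key := interior_image_eq_empty_of_sections c.base c.continuous
    (fun k => (ιj k).base ∘ (inv (ιj k ≫ c)).base)
    (fun k => (ιj k).continuous.comp (inv (ιj k ≫ c)).continuous) hcσ
    (fun k => by rw [hrange k]; exact (ιj k).isClosedEmbedding.isClosed_range)
    (fun z => by
      obtain ⟨k, hk⟩ := Set.mem_iUnion.mp (h3.symm ▸ Set.mem_univ z)
      exact ⟨k, by rw [hrange k]; exact hk⟩) T'' hT''c hT''i
  have himg : b.base ⁻¹' (f.base '' T) ⊆ c.base '' T'' := by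
    intro x' hx'
    obtain ⟨t, ht, htx⟩ := hx'
    obtain ⟨y', hy'1, hy'2⟩ :=
      Scheme.Pullback.exists_preimage_pullback (f := f) (g := b) t x' htx
    refine ⟨i.base y', ?_, ?_⟩
    · rw [hT''def]
      refine ⟨y', ?_, rfl⟩
      rw [hT'def]
      show (pullback.fst f b).base y' ∈ T
      rw [hy'1]
      exact ht
    · rw [← Scheme.Hom.comp_apply, hic]
      exact hy'2
  by_contra hne
  obtain ⟨x, hx⟩ := Set.nonempty_iff_ne_empty.mpr hne
  obtain ⟨x', rfl⟩ := hbs.surj x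
  have h4 : x' ∈ interior (c.base '' T'') :=
    interior_maximal ((Set.preimage_mono interior_subset).trans himg)
      (isOpen_interior.preimage b.continuous) hx
  rw [key] at h4
  exact h4

/-- Stacks 29.48.7: a finite morphism maps closed nowhere dense sets to closed nowhere dense
sets. -/
theorem isClosed_image_and_interior_eq_empty_of_isFinite {X Y : Scheme.{u}} (f : Y ⟶ X)
    [IsFinite f] (T : Set Y) (hT : IsClosed T) (hT' : interior T = ∅) :
    IsClosed (f.base '' T) ∧ interior (f.base '' T) = ∅ := by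
  refine ⟨f.isClosedMap _ hT, ?_⟩
  by_contra hne
  obtain ⟨x, hx⟩ := Set.nonempty_iff_ne_empty.mpr hne
  have hex : ∃ X₀ : X.Opens, IsAffineOpen X₀ ∧ x ∈ X₀ := by
    obtain ⟨_, ⟨X₀, hX₀, rfl⟩, hxX₀, -⟩ :=
      X.isBasis_affineOpens.exists_subset_of_mem_open (Set.mem_univ x) isOpen_univ
    exact ⟨X₀, hX₀, hxX₀⟩
  obtain ⟨X₀, hX₀, hxX₀⟩ := hex
  haveI : IsAffine X₀.toScheme := hX₀
  obtain ⟨T₀, hT₀def⟩ : ∃ T₀ : Set ↥(f ⁻¹ᵁ X₀), T₀ = (f ⁻¹ᵁ X₀).ι.base ⁻¹' T := ⟨_, rfl⟩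
  have hT₀c : IsClosed T₀ := hT₀def ▸ hT.preimage (f ⁻¹ᵁ X₀).ι.continuous
  have hT₀i : interior T₀ = ∅ := by
    by_contra hne'
    obtain ⟨y, hy⟩ := Set.nonempty_iff_ne_empty.mpr hne'
    have h4 : (f ⁻¹ᵁ X₀).ι.base y ∈ interior T :=
      interior_maximal (Set.image_subset_iff.mpr (hT₀def ▸ interior_subset))
        ((f ⁻¹ᵁ X₀).ι.isOpenEmbedding.isOpenMap _ isOpen_interior) ⟨y, hy, rfl⟩
    rw [hT'] at h4
    exact h4
  have key := interior_image_eq_empty_of_isFinite_of_isAffine (f ∣_ X₀) T₀ hT₀c hT₀i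
  have hsub : X₀.ι.base ⁻¹' (interior (f.base '' T)) ⊆ (f ∣_ X₀).base '' T₀ := by
    intro x₁ hx₁
    obtain ⟨t, ht, htx⟩ := interior_subset hx₁
    have htX₀ : t ∈ f ⁻¹ᵁ X₀ := by
      show f.base t ∈ X₀
      rw [htx]
      exact x₁.2
    refine ⟨⟨t, htX₀⟩, ?_, ?_⟩
    · rw [hT₀def]
      exact ht
    · apply X₀.ι.isOpenEmbedding.injective
      rw [← Scheme.Hom.comp_apply, morphismRestrict_ι, Scheme.Hom.comp_apply]
      exact htx
  have h5 : (⟨x, hxX₀⟩ : X₀) ∈ interior ((f ∣_ X₀).base '' T₀) :=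
    interior_maximal hsub (isOpen_interior.preimage X₀.ι.continuous) hx
  rw [key] at h5
  exact h5

end Groth.Agent.NDFinite
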