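import Mathlib
import Groth.Agent.Lib.NDFinite_helper5
import Groth.Agent.Lib.FinPieces_helper5
import Groth.Agent.Lib.GenFinMax2_helper5

/-!
# A quasi-finite morphism is finite over a dense open; images of nowhere dense closed sets
(S409, S439).  APPEND-ONLY once landed.
-/

set_option autoImplicit false
universe u

open CategoryTheory CategoryTheory.Limits AlgebraicGeometry TopologicalSpace

namespace Groth.Agent.QFDense

variable {X Y : Scheme.{u}} (f : Y ⟶ X)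

/-- A common neighbourhood of a maximal point over which finitely many affine pieces are finite. -/
theorem exists_open_isFinite_resLE_finset [LocallyOfFiniteType f] {X₀ : X.Opens}
    (hX₀ : IsAffineOpen X₀) {η : X} (hηX₀ : η ∈ X₀) (hmax : GenFinMax.IsMaxPt η)
    (hfin : (f.base ⁻¹' {η}).Finite) (s : Finset Y.Opens)
    (hs : ∀ V ∈ s, IsAffineOpen V ∧ V ≤ f ⁻¹ᵁ X₀) :
    ∃ W : X.Opens, W ≤ X₀ ∧ η ∈ W ∧
      ∀ V ∈ s, IsFinite (f.resLE W (V ⊓ f ⁻¹ᵁ W) inf_le_right) := by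
  classical
  induction s using Finset.induction_on with
  | empty => exact ⟨X₀, le_rfl, hηX₀, fun V hV => absurd hV (Finset.notMem_empty V)⟩
  | insert V₁ s hV₁ ih =>
    obtain ⟨W, hWX₀, hηW, hW⟩ := ih (fun V hV => hs V (Finset.mem_insert_of_mem hV))
    obtain ⟨hV₁a, hV₁le⟩ := hs V₁ (Finset.mem_insert_self V₁ s)
    obtain ⟨a, hηa, ha⟩ :=
      FinPieces.exists_basicOpen_isFinite_resLE f hX₀ hηX₀ hmax hfin hV₁a hV₁le
    refine ⟨W ⊓ X.basicOpen a, inf_le_left.trans hWX₀, ⟨hηW, hηa⟩, fun V hV => ?_⟩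
    rcases Finset.mem_insert.mp hV with hVeq | hV'
    · rw [hVeq]
      exact FinPieces.isFinite_resLE_inf_of_le f ha inf_le_right
    · exact FinPieces.isFinite_resLE_inf_of_le f (hW V hV') inf_le_left

/-- Local form: inside any nonempty affine open there is a nonempty open over which `f` is
finite. -/
theorem exists_nonempty_open_isFinite [LocallyQuasiFinite f] [LocallyOfFiniteType f]
    [QuasiCompact f] {X₀ : X.Opens} (hX₀ : IsAffineOpen X₀) (hne : (X₀ : Set X).Nonempty) :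
    ∃ U : X.Opens, U ≤ X₀ ∧ (U : Set X).Nonempty ∧ IsFinite (f ∣_ U) := by
  classical
  obtain ⟨x, hx⟩ := hne
  obtain ⟨η, hη, hxη⟩ := GenFinMax.exists_generic_specializes x
  have hmax : GenFinMax.IsMaxPt η := GenFinMax.isMaxPt_of_mem_irreducibleComponents hη
  have hηX₀ : η ∈ X₀ :=
    (specializes_iff_mem_closure.mpr hxη : η ⤳ x).mem_open X₀.isOpen hx
  have hfin : (f.base ⁻¹' {η}).Finite := f.finite_preimage_singleton η
  obtain ⟨S, hSfin, hSeq⟩ :=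
    isCompact_iff_finite_and_eq_biUnion_affineOpens.mp (f.isCompact_preimage hX₀.isCompact)
  obtain ⟨s, hsdef⟩ : ∃ s : Finset Y.Opens,
      s = hSfin.toFinset.image (fun V : Y.affineOpens => (V : Y.Opens)) := ⟨_, rfl⟩
  have hs : ∀ V ∈ s, IsAffineOpen V ∧ V ≤ f ⁻¹ᵁ X₀ := by
    intro V hV
    rw [hsdef] at hV
    obtain ⟨V', hV', rfl⟩ := Finset.mem_image.mp hV
    have hV'S : V' ∈ S := hSfin.mem_toFinset.mp hV'
    refine ⟨V'.2, ?_⟩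
    rw [hSeq]
    exact le_iSup₂ (f := fun (i : Y.affineOpens) (_ : i ∈ S) => (i : Y.Opens)) V' hV'S
  have hcov : ∀ y : Y, f.base y ∈ X₀ → ∃ V ∈ s, y ∈ V := by
    intro y hy
    have hy' : y ∈ f ⁻¹ᵁ X₀ := hy
    rw [hSeq] at hy'
    simp only [Opens.mem_iSup] at hy'
    obtain ⟨V', hV'S, hyV'⟩ := hy'
    refine ⟨V', ?_, hyV'⟩
    rw [hsdef]
    exact Finset.mem_image.mpr ⟨V', hSfin.mem_toFinset.mpr hV'S, rfl⟩
  obtain ⟨W, hWX₀, hηW, hW⟩ := exists_open_isFinite_resLE_finset f hX₀ hηX₀ hmax hfin s hs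
  -- the bad loci
  obtain ⟨A, hAdef⟩ : ∃ A : Y.Opens × Y.Opens → Set W.toScheme, A = fun p =>
      (f.resLE W (p.2 ⊓ f ⁻¹ᵁ W) inf_le_right).base ''
        frontier (((p.2 ⊓ f ⁻¹ᵁ W).ι ⁻¹ᵁ p.1 : (p.2 ⊓ f ⁻¹ᵁ W).toScheme.Opens) :
          Set (p.2 ⊓ f ⁻¹ᵁ W).toScheme) := ⟨_, rfl⟩
  have hA : ∀ p ∈ s ×ˢ s, IsClosed (A p) ∧ interior (A p) = ∅ := by
    intro p hp
    haveI := hW p.2 (Finset.mem_product.mp hp).2
    rw [hAdef]
    refine NDFinite.isClosed_image_and_interior_eq_empty_of_isFinite _ _ isClosed_frontier ?_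
    rw [← frontier_compl]
    exact interior_frontier (Opens.isOpen _).isClosed_compl
  have hAint : interior (⋃ p ∈ s ×ˢ s, A p) = ∅ :=
    FinPieces.interior_biUnion_eq_empty _ A (fun p hp => (hA p hp).1) (fun p hp => (hA p hp).2)
  have hAcl : IsClosed (⋃ p ∈ s ×ˢ s, A p) := isClosed_biUnion_finset fun p hp => (hA p hp).1
  obtain ⟨U', hU'def⟩ : ∃ U' : W.toScheme.Opens,
      (U' : Set W.toScheme) = (⋃ p ∈ s ×ˢ s, A p)ᶜ :=
    ⟨⟨_, hAcl.isOpen_compl⟩, rfl⟩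
  have hmemU' : ∀ w : W.toScheme, w ∈ U' ↔ w ∉ ⋃ p ∈ s ×ˢ s, A p := by
    intro w
    rw [← SetLike.mem_coe, hU'def]
    rfl
  have hU'ne : ∃ w : W.toScheme, w ∈ U' := by
    by_contra hcon
    push Not at hcon
    have h1 : (⋃ p ∈ s ×ˢ s, A p) = Set.univ :=
      Set.eq_univ_of_forall fun w => by_contra fun hw => hcon w ((hmemU' w).mpr hw)
    rw [h1, interior_univ] at hAint
    exact Set.notMem_empty (⟨η, hηW⟩ : W.toScheme) (hAint ▸ Set.mem_univ _)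
  have hUW : W.ι ''ᵁ U' ≤ W := W.ι_image_le U'
  -- the pieces over `U`
  have hle : ∀ j : {V // V ∈ s}, j.1 ⊓ f ⁻¹ᵁ (W.ι ''ᵁ U') ≤ f ⁻¹ᵁ (W.ι ''ᵁ U') :=
    fun j => inf_le_right
  have hfin'' : ∀ j : {V // V ∈ s},
      IsFinite (f.resLE (W.ι ''ᵁ U') (j.1 ⊓ f ⁻¹ᵁ (W.ι ''ᵁ U')) (hle j)) :=
    fun j => FinPieces.isFinite_resLE_inf_of_le f (hW j.1 j.2) hUW
  have hov : ∀ i j : {V // V ∈ s},
      ((j.1 ⊓ f ⁻¹ᵁ (W.ι ''ᵁ U') : Y.Opens) : Set Y) ∩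
        closure (((i.1 ⊓ f ⁻¹ᵁ (W.ι ''ᵁ U') : Y.Opens) : Set Y) ∩
          (j.1 ⊓ f ⁻¹ᵁ (W.ι ''ᵁ U') : Y.Opens)) ⊆ (i.1 ⊓ f ⁻¹ᵁ (W.ι ''ᵁ U') : Y.Opens) := by
    rintro i j y ⟨hyj, hyc⟩
    refine ⟨?_, hyj.2⟩
    by_contra hyi
    have hyW : y ∈ f ⁻¹ᵁ W := f.preimage_mono hUW hyj.2
    obtain ⟨y', hy'⟩ : ∃ y' : (j.1 ⊓ f ⁻¹ᵁ W).toScheme, y'.1 = y := ⟨⟨y, hyj.1, hyW⟩, rfl⟩
    have hfr : y' ∈ frontier (((j.1 ⊓ f ⁻¹ᵁ W).ι ⁻¹ᵁ i.1 : (j.1 ⊓ f ⁻¹ᵁ W).toScheme.Opens) :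
        Set (j.1 ⊓ f ⁻¹ᵁ W).toScheme) := by
      rw [(Opens.isOpen _).frontier_eq]
      refine ⟨?_, fun h => hyi (hy' ▸ h)⟩
      rw [(j.1 ⊓ f ⁻¹ᵁ W).ι.isOpenEmbedding.isInducing.closure_eq_preimage_closure_image]
      show y'.1 ∈ closure _
      rw [hy']
      refine closure_mono ?_ hyc
      rintro z ⟨hzi, hzj⟩
      exact ⟨⟨z, hzj.1, f.preimage_mono hUW hzj.2⟩, hzi.1, rfl⟩
    have hmem : (f.resLE W (j.1 ⊓ f ⁻¹ᵁ W) inf_le_right).base y' ∈ ⋃ p ∈ s ×ˢ s, A p := by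
      refine Set.mem_iUnion₂.mpr ⟨(i.1, j.1), Finset.mem_product.mpr ⟨i.2, j.2⟩, ?_⟩
      rw [hAdef]
      exact ⟨y', hfr, rfl⟩
    have hfyU : f.base y ∈ W.ι ''ᵁ U' := hyj.2
    have h1 : ((f.resLE W (j.1 ⊓ f ⁻¹ᵁ W) inf_le_right).base y').1 = f.base y := by
      rw [Scheme.Hom.coe_resLE_apply, hy']
    rw [← h1, Scheme.Opens.mem_ι_image_iff] at hfyU
    exact (hmemU' _).mp hfyU hmem
  have key := FinPieces.isFinite_resLE_biSup f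
    (fun j : {V // V ∈ s} => j.1 ⊓ f ⁻¹ᵁ (W.ι ''ᵁ U')) hle hfin'' hov Finset.univ
  have hsup : (⨆ j ∈ (Finset.univ : Finset {V // V ∈ s}), j.1 ⊓ f ⁻¹ᵁ (W.ι ''ᵁ U')) =
      f ⁻¹ᵁ (W.ι ''ᵁ U') := by
    apply le_antisymm (iSup₂_le fun j _ => hle j)
    intro y hy
    obtain ⟨V, hV, hyV⟩ := hcov y (hWX₀ (hUW hy))
    exact (le_iSup₂ (f := fun (j : {V // V ∈ s}) (_ : j ∈ Finset.univ) =>
      j.1 ⊓ f ⁻¹ᵁ (W.ι ''ᵁ U')) ⟨V, hV⟩ (Finset.mem_univ _)) ⟨hyV, hy⟩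
  refine ⟨W.ι ''ᵁ U', hUW.trans hWX₀, ?_, ?_⟩
  · obtain ⟨w, hw⟩ := hU'ne
    exact ⟨w.1, (Scheme.Opens.mem_ι_image_iff W).mpr hw⟩
  · rw [← Scheme.Hom.resLE_eq_morphismRestrict]
    exact (Scheme.Hom.resLE_congr f _ rfl hsup @IsFinite).mp key

/-- S409. -/
theorem exists_dense_open_isFinite [LocallyQuasiFinite f] [LocallyOfFiniteType f]
    [QuasiCompact f] : ∃ U : X.Opens, Dense (U : Set X) ∧ IsFinite (f ∣_ U) := by
  obtain ⟨G, hG⟩ : ∃ G : Set X.Opens, G = {U | IsFinite (f ∣_ U)} := ⟨_, rfl⟩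
  have hle : ∀ U ∈ G, U ≤ ⨆ U ∈ G, U :=
    fun U hU => le_iSup₂ (f := fun (U : X.Opens) (_ : U ∈ G) => U) U hU
  refine ⟨⨆ U ∈ G, U, ?_, ?_⟩
  · rw [dense_iff_inter_open]
    intro O hO hOne
    obtain ⟨x, hx⟩ := hOne
    obtain ⟨X₀, hX₀, hxX₀, hX₀O⟩ : ∃ X₀ : X.Opens, IsAffineOpen X₀ ∧ x ∈ X₀ ∧
        (X₀ : Set X) ⊆ O := by
      obtain ⟨_, ⟨X₀, hX₀, rfl⟩, hxX₀, hsub⟩ :=
        X.isBasis_affineOpens.exists_subset_of_mem_open hx hO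
      exact ⟨X₀, hX₀, hxX₀, hsub⟩
    obtain ⟨U, hUX₀, ⟨u, hu⟩, hUfin⟩ := exists_nonempty_open_isFinite f hX₀ ⟨x, hxX₀⟩
    exact ⟨u, hX₀O (hUX₀ hu), hle U (hG ▸ hUfin) hu⟩
  · refine IsZariskiLocalAtTarget.of_forall_exists_morphismRestrict (P := @IsFinite)
      (fun x => ?_)
    have hx : x.1 ∈ (⨆ U ∈ G, U : X.Opens) := x.2
    simp only [Opens.mem_iSup] at hx
    obtain ⟨U, hU, hxU⟩ := hx
    refine ⟨(⨆ U ∈ G, U : X.Opens).ι ⁻¹ᵁ U, hxU, ?_⟩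
    rw [MorphismProperty.arrow_mk_iso_iff @IsFinite
      (morphismRestrictRestrict f (⨆ U ∈ G, U) ((⨆ U ∈ G, U : X.Opens).ι ⁻¹ᵁ U))]
    have himg : (⨆ U ∈ G, U : X.Opens).ι ''ᵁ ((⨆ U ∈ G, U : X.Opens).ι ⁻¹ᵁ U) = U := by
      rw [Scheme.Hom.image_preimage_eq_opensRange_inf, Scheme.Opens.opensRange_ι]
      exact inf_eq_right.mpr (hle U hU)
    rw [himg]
    rw [hG] at hU
    exact hU

/-- S439. -/
theorem isNowhereDense_image [LocallyQuasiFinite f] [LocallyOfFiniteType f] [QuasiCompact f]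
    (T : Set Y) (hT : IsClosed T) (hT' : IsNowhereDense T) : IsNowhereDense (f.base '' T) := by
  have hTi : interior T = ∅ := hT.isNowhereDense_iff.mp hT'
  obtain ⟨U₀, hU₀d, hU₀f⟩ := exists_dense_open_isFinite f
  rw [IsNowhereDense]
  by_contra hne
  obtain ⟨x, hxW, hxU₀⟩ := hU₀d.inter_open_nonempty _ isOpen_interior
    (Set.nonempty_iff_ne_empty.mpr hne)
  obtain ⟨T₀, hT₀def⟩ : ∃ T₀ : Set ↥(f ⁻¹ᵁ U₀), T₀ = (f ⁻¹ᵁ U₀).ι.base ⁻¹' T := ⟨_, rfl⟩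
  have hT₀c : IsClosed T₀ := hT₀def ▸ hT.preimage (f ⁻¹ᵁ U₀).ι.continuous
  have hT₀i : interior T₀ = ∅ := by
    by_contra hne'
    obtain ⟨y, hy⟩ := Set.nonempty_iff_ne_empty.mpr hne'
    have h4 : (f ⁻¹ᵁ U₀).ι.base y ∈ interior T :=
      interior_maximal (Set.image_subset_iff.mpr (hT₀def ▸ interior_subset))
        ((f ⁻¹ᵁ U₀).ι.isOpenEmbedding.isOpenMap _ isOpen_interior) ⟨y, hy, rfl⟩
    rw [hTi] at h4
    exact h4
  obtain ⟨hcl, hint⟩ :=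
    NDFinite.isClosed_image_and_interior_eq_empty_of_isFinite (f ∣_ U₀) T₀ hT₀c hT₀i
  have heq : U₀.ι.base ⁻¹' (f.base '' T) ⊆ (f ∣_ U₀).base '' T₀ := by
    intro x₁ hx₁
    obtain ⟨t, ht, htx⟩ := hx₁
    have htU₀ : t ∈ f ⁻¹ᵁ U₀ := by
      show f.base t ∈ U₀
      rw [htx]
      exact x₁.2
    refine ⟨⟨t, htU₀⟩, ?_, ?_⟩
    · rw [hT₀def]
      exact ht
    · apply U₀.ι.isOpenEmbedding.injective
      rw [← Scheme.Hom.comp_apply, morphismRestrict_ι, Scheme.Hom.comp_apply]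
      exact htx
  have hsub : U₀.ι.base ⁻¹' (interior (closure (f.base '' T))) ⊆ (f ∣_ U₀).base '' T₀ := by
    intro w hw
    have h1 : w ∈ U₀.ι.base ⁻¹' (closure (f.base '' T)) :=
      Set.preimage_mono interior_subset hw
    rw [U₀.ι.isOpenEmbedding.isOpenMap.preimage_closure_eq_closure_preimage U₀.ι.continuous] at h1
    exact hcl.closure_subset_iff.mpr heq h1
  have h5 : (⟨x, hxU₀⟩ : U₀) ∈ interior ((f ∣_ U₀).base '' T₀) :=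
    interior_maximal hsub (isOpen_interior.preimage U₀.ι.continuous) hxW
  rw [hint] at h5
  exact h5

end Groth.Agent.QFDense
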