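import Mathlib
import Groth.Agent.Lib.QFDense_helper5

/-!
# Stratifying a quasi-finite morphism into finite pieces: the Noetherian case (helper4)
APPEND-ONLY once landed.

* `Strat j Z`: the subset `Z` of the target of `j : U ⟶ X` is a finite disjoint union of
  constructible ranges of immersions `T i ⟶ X` such that `U ×_X T i ⟶ T i` is finite.
* `Strat.empty`, `Strat.insert`, `Strat.toFin`, `Strat.of_isPullback` (base change).
* `strat_noeth`: over a Noetherian scheme, every quasi-compact locally quasi-finite morphism admits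
  such a stratification of the whole target (Noetherian induction, using helper5's generic
  finiteness `QFDense.exists_dense_open_isFinite`).
-/

set_option autoImplicit false
set_option linter.unusedVariables false
set_option linter.unusedSectionVars false
set_option linter.style.longLine false
set_option linter.style.haveILetI false
set_option maxHeartbeats 1600000

universe u

open CategoryTheory CategoryTheory.Limits AlgebraicGeometry Topology

namespace Groth.Agent.Lib.EtStratH4

variable {U X : Scheme.{u}}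

/-- `Z` is a finite disjoint union of constructible immersed pieces over which `j` is finite. -/
def Strat (j : U ⟶ X) (Z : Set X) : Prop :=
  ∃ (ι : Type) (_ : Finite ι) (T : ι → Scheme.{u}) (g : ∀ i, T i ⟶ X),
    (∀ i, IsImmersion (g i)) ∧ (∀ i, IsConstructible (Set.range (g i))) ∧
    Pairwise (fun i i' => Disjoint (Set.range (g i)) (Set.range (g i'))) ∧
    (⋃ i, Set.range (g i)) = Z ∧ ∀ i, IsFinite (pullback.snd j (g i))

theorem Strat.empty (j : U ⟶ X) : Strat j ∅ := by
  refine ⟨PEmpty, inferInstance, fun i => i.elim, fun i => i.elim, fun i => i.elim,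
    fun i => i.elim, fun i => i.elim, ?_, fun i => i.elim⟩
  exact Set.iUnion_of_empty _

theorem isFinite_snd_of_isPullback {P T : Scheme.{u}} {j : U ⟶ X} {g : T ⟶ X} {fst : P ⟶ U}
    {snd : P ⟶ T} (h : IsPullback fst snd j g) (hs : IsFinite snd) :
    IsFinite (pullback.snd j g) := by
  have e : pullback.snd j g = h.isoPullback.inv ≫ snd :=
    (Iso.eq_inv_comp _).2 h.isoPullback_hom_snd
  rw [e]
  infer_instance

theorem Strat.insert {j : U ⟶ X} {Z' : Set X} (h : Strat j Z') {T₀ : Scheme.{u}} (g₀ : T₀ ⟶ X)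
    (hi : IsImmersion g₀) (hc : IsConstructible (Set.range g₀))
    (hd : Disjoint (Set.range g₀) Z') (hf : IsFinite (pullback.snd j g₀)) :
    Strat j (Set.range g₀ ∪ Z') := by
  obtain ⟨ι, hι, T, g, h1, h2, h3, h4, h5⟩ := h
  refine ⟨Option ι, inferInstance, fun o => Option.rec T₀ T o,
    fun o => Option.rec (motive := fun o => (Option.rec T₀ T o : Scheme.{u}) ⟶ X) g₀ g o,
    ?_, ?_, ?_, ?_, ?_⟩
  · rintro (_ | i)
    · exact hi
    · exact h1 i
  · rintro (_ | i)
    · exact hc
    · exact h2 i
  · rintro (_ | i) (_ | i') hne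
    · exact absurd rfl hne
    · refine hd.mono_right ?_
      rw [← h4]
      exact Set.subset_iUnion (fun i => Set.range (g i)) i'
    · refine hd.symm.mono_left ?_
      rw [← h4]
      exact Set.subset_iUnion (fun i => Set.range (g i)) i
    · exact h3 (fun e => hne (congrArg some e))
  · rw [← h4]
    ext x
    simp only [Set.mem_iUnion, Set.mem_union]
    constructor
    · rintro ⟨_ | i, hx⟩
      · exact Or.inl hx
      · exact Or.inr ⟨i, hx⟩
    · rintro (hx | ⟨i, hx⟩)
      · exact ⟨none, hx⟩
      · exact ⟨some i, hx⟩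
  · rintro (_ | i)
    · exact hf
    · exact h5 i

theorem Strat.toFin {j : U ⟶ X} (h : Strat j Set.univ) :
    ∃ (n : ℕ) (T : Fin n → Scheme.{u}) (g : ∀ i, T i ⟶ X),
      (∀ i, IsImmersion (g i)) ∧ (∀ i, IsConstructible (Set.range (g i))) ∧
      Pairwise (fun i i' => Disjoint (Set.range (g i)) (Set.range (g i'))) ∧
      (⋃ i, Set.range (g i)) = Set.univ ∧ ∀ i, IsFinite (pullback.snd j (g i)) := by
  obtain ⟨ι, hι, T, g, h1, h2, h3, h4, h5⟩ := h
  obtain ⟨n, ⟨e⟩⟩ := Finite.exists_equiv_fin ι
  refine ⟨n, fun k => T (e.symm k), fun k => g (e.symm k), fun k => h1 _, fun k => h2 _, ?_, ?_,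
    fun k => h5 _⟩
  · intro k k' hne
    exact h3 (fun h => hne (e.symm.injective h))
  · rw [← h4]
    ext x
    simp only [Set.mem_iUnion]
    constructor
    · rintro ⟨k, hx⟩
      exact ⟨e.symm k, hx⟩
    · rintro ⟨i, hx⟩
      obtain ⟨k, hk⟩ : ∃ k, e.symm k = i := ⟨e i, e.symm_apply_apply i⟩
      subst hk
      exact ⟨k, hx⟩

/-- Base change of a stratification along `ξ : X ⟶ Y`. -/
theorem Strat.of_isPullback {U₁ Y : Scheme.{u}} {j : U ⟶ X} {j₁ : U₁ ⟶ Y} {q : U ⟶ U₁}
    {ξ : X ⟶ Y} (sq : IsPullback q j j₁ ξ) (h : Strat j₁ Set.univ) : Strat j Set.univ := by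
  obtain ⟨ι, hι, T, g, h1, h2, h3, h4, h5⟩ := h
  have hr : ∀ i, Set.range (pullback.snd (g i) ξ) = ξ ⁻¹' Set.range (g i) := fun i =>
    Scheme.Pullback.range_snd (g i) ξ
  refine ⟨ι, hι, fun i => pullback (g i) ξ, fun i => pullback.snd (g i) ξ, ?_, ?_, ?_, ?_, ?_⟩
  · intro i
    haveI := h1 i
    infer_instance
  · intro i
    rw [hr i]
    exact ξ.isConstructible_preimage (h2 i)
  · intro i i' hne
    rw [hr i, hr i']
    exact (h3 hne).preimage _
  · simp_rw [hr]
    rw [← Set.preimage_iUnion, h4, Set.preimage_univ]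
  · intro i
    haveI := h5 i
    obtain ⟨g', hg'⟩ : ∃ g' : pullback (g i) ξ ⟶ X, g' = pullback.snd (g i) ξ := ⟨_, rfl⟩
    show IsFinite (pullback.snd j (pullback.snd (g i) ξ))
    rw [← hg']
    have sq1 := (IsPullback.of_hasPullback j g').paste_horiz sq
    have hcond : g' ≫ ξ = pullback.fst (g i) ξ ≫ g i := by
      rw [hg']; exact pullback.condition.symm
    rw [hcond] at sq1
    obtain ⟨m, hm⟩ : ∃ m : pullback j g' ⟶ pullback j₁ (g i),
        m = pullback.lift (pullback.fst j g' ≫ q) (pullback.snd j g' ≫ pullback.fst (g i) ξ)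
          (by rw [Category.assoc, Category.assoc, sq.w, ← hcond, pullback.condition_assoc]) :=
      ⟨_, rfl⟩
    have hm1 : m ≫ pullback.fst j₁ (g i) = pullback.fst j g' ≫ q := by
      rw [hm]; exact pullback.lift_fst _ _ _
    have hm2 : m ≫ pullback.snd j₁ (g i) = pullback.snd j g' ≫ pullback.fst (g i) ξ := by
      rw [hm]; exact pullback.lift_snd _ _ _
    rw [← hm1] at sq1
    have sq2 : IsPullback m (pullback.snd j g') (pullback.snd j₁ (g i))
        (pullback.fst (g i) ξ) :=
      IsPullback.of_right sq1 hm2 (IsPullback.of_hasPullback j₁ (g i))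
    exact MorphismProperty.of_isPullback (P := @IsFinite) sq2 inferInstance

section Noeth

/-- an unramified morphism is locally quasi-finite (copied from helper7's `AlgSpEtale`) -/
theorem locallyQuasiFinite_of_unramified {A B : Scheme.{u}} (g : A ⟶ B) [LocallyOfFiniteType g]
    [FormallyUnramified g] : LocallyQuasiFinite g := by
  constructor
  intro U hU V hV e
  have h1 := LocallyOfFiniteType.finiteType_appLE (f := g) hU hV e
  have h2 := FormallyUnramified.formallyUnramified_appLE (f := g) hU hV e
  algebraize [(g.appLE U V e).hom]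
  have : Algebra.EssFiniteType Γ(B, U) Γ(A, V) := inferInstance
  show Algebra.QuasiFinite _ _
  infer_instance

theorem strat_closed [IsNoetherian X] (j : U ⟶ X) [LocallyQuasiFinite j] [LocallyOfFiniteType j]
    [QuasiCompact j] : ∀ Z : TopologicalSpace.Closeds X, Strat j (Z : Set X) := by
  intro Z
  induction Z using WellFoundedLT.induction with
  | ind Z ih =>
  by_cases hZ : (Z : Set X) = ∅
  · rw [hZ]; exact Strat.empty j
  obtain ⟨I, hI⟩ : ∃ I : X.IdealSheafData, I = Scheme.IdealSheafData.vanishingIdeal Z := ⟨_, rfl⟩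
  have hrange : Set.range I.subschemeι = (Z : Set X) := by
    rw [Scheme.IdealSheafData.range_subschemeι, hI,
      Scheme.IdealSheafData.coe_support_vanishingIdeal]
  obtain ⟨ι, hι⟩ : ∃ ι : I.subscheme ⟶ X, ι = I.subschemeι := ⟨_, rfl⟩
  haveI : IsClosedImmersion ι := by rw [hι]; infer_instance
  rw [← hι] at hrange
  have hemb : IsClosedEmbedding ι := ι.isClosedEmbedding
  obtain ⟨V, hVd, hVf⟩ := Groth.Agent.QFDense.exists_dense_open_isFinite (pullback.snd j ι)
  -- the remaining closed subset
  have hZ'c : IsClosed (ι '' ((V : Set I.subscheme)ᶜ)) :=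
    hemb.isClosedMap _ V.isOpen.isClosed_compl
  have hne : (Set.univ : Set I.subscheme).Nonempty := by
    by_contra hcon
    rw [Set.not_nonempty_iff_eq_empty] at hcon
    apply hZ
    rw [← hrange, ← Set.image_univ, hcon, Set.image_empty]
  obtain ⟨v, hv⟩ : (V : Set I.subscheme).Nonempty := by
    obtain ⟨z, -⟩ := hne
    exact hVd.nonempty_iff.mpr ⟨z⟩
  have hlt : (⟨ι '' ((V : Set I.subscheme)ᶜ), hZ'c⟩ : TopologicalSpace.Closeds X) < Z := by
    refine lt_of_le_of_ne ?_ ?_
    · intro x hx
      obtain ⟨z, -, rfl⟩ := hx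
      show ι z ∈ (Z : Set X)
      rw [← hrange]; exact ⟨z, rfl⟩
    · intro heq
      have h1 : ι v ∈ (Z : Set X) := by rw [← hrange]; exact ⟨v, rfl⟩
      rw [← heq] at h1
      obtain ⟨z, hz, hzv⟩ := h1
      rw [hemb.injective hzv] at hz
      exact hz hv
  have ih' := ih _ hlt
  have hrg : Set.range (V.ι ≫ ι) = ι '' (V : Set I.subscheme) := by
    rw [Scheme.Hom.comp_base, TopCat.coe_comp, Set.range_comp, Scheme.Opens.range_ι]
  have hins := ih'.insert (V.ι ≫ ι) inferInstance ?_ ?_ ?_
  · convert hins using 1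
    rw [hrg]
    show (Z : Set X) = ι '' (V : Set I.subscheme) ∪ ι '' ((V : Set I.subscheme)ᶜ)
    rw [← Set.image_union, Set.union_compl_self, Set.image_univ, hrange]
  · -- constructible
    rw [hrg]
    have h1 : ι '' (V : Set I.subscheme) = (Z : Set X) \ ι '' ((V : Set I.subscheme)ᶜ) := by
      rw [← hrange, ← Set.image_univ, ← Set.image_sdiff hemb.injective, Set.sdiff_compl,
        Set.univ_inter]
    rw [h1]
    have hcl : ∀ C : Set X, IsClosed C → IsConstructible C := by
      intro C hC
      rw [← isConstructible_compl]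
      exact (TopologicalSpace.NoetherianSpace.isCompact _).isConstructible hC.isOpen_compl
    exact (hcl _ Z.isClosed).sdiff (hcl _ hZ'c)
  · rw [hrg]
    show Disjoint (ι '' (V : Set I.subscheme)) (ι '' ((V : Set I.subscheme)ᶜ))
    exact (Set.disjoint_image_iff hemb.injective).mpr disjoint_compl_right
  · have sq := (isPullback_morphismRestrict (pullback.snd j ι) V).flip.paste_horiz
      (IsPullback.of_hasPullback j ι)
    exact isFinite_snd_of_isPullback sq hVf

theorem strat_noeth [IsNoetherian X] (j : U ⟶ X) [LocallyQuasiFinite j] [LocallyOfFiniteType j]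
    [QuasiCompact j] : Strat j Set.univ :=
  strat_closed j ⊤

end Noeth

end Groth.Agent.Lib.EtStratH4
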