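import Mathlib
import Groth.Agent.Lib.EtStrat1_helper4
import Groth.Agent.Lib.NApxE_helper7
import Groth.Agent.Lib.NApxD1_helper7
import Groth.Agent.Lib.LimDescFP3_helper7

/-!
# Stratifying an étale morphism of qcqs schemes into finite pieces (helper4)
APPEND-ONLY once landed.

* `exists_noetherian_model_etale`: an étale morphism of qcqs schemes is a base change of an étale
  quasi-compact morphism over a Noetherian scheme (helper7's absolute Noetherian approximation and
  descent of finitely presented morphisms with a property).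
* `main0169`.
-/

set_option autoImplicit false
set_option linter.unusedVariables false
set_option linter.unusedSectionVars false
set_option linter.style.longLine false
set_option linter.style.haveILetI false
set_option maxHeartbeats 1600000

universe u

open CategoryTheory CategoryTheory.Limits AlgebraicGeometry Topology

namespace Groth.Agent.Lib.EtStratH4

/-- Noetherian model of an étale morphism between qcqs schemes. -/
theorem exists_noetherian_model_etale {U X : Scheme.{u}} [CompactSpace U] [QuasiSeparatedSpace U]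
    [CompactSpace X] [QuasiSeparatedSpace X] (j : U ⟶ X) [Etale j] :
    ∃ (Y U₁ : Scheme.{u}) (_ : IsNoetherian Y) (ξ : X ⟶ Y) (j₁ : U₁ ⟶ Y) (q : U ⟶ U₁),
      Etale j₁ ∧ QuasiCompact j₁ ∧ IsPullback q j j₁ ξ := by
  obtain ⟨Λ, iP, iD, iN, DS₀, cS₀, hcS₀, haff, hft, ⟨eS⟩⟩ :=
    Groth.Agent.Lib.NApxE_helper7.approx_abs X
  haveI : ∀ (i j : Λᵒᵖ) (g : i ⟶ j), IsAffineHom (DS₀.map g) := haff
  haveI : ∀ k, CompactSpace (DS₀.obj k) := fun k => (hft k).1
  have hnoeth : ∀ k, IsNoetherian (DS₀.obj k) := fun k =>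
    Groth.Agent.Lib.NApxD1_helper7.isNoetherian_of_ftz (DS₀.obj k) (hft k).2
  haveI : ∀ k, QuasiSeparatedSpace (DS₀.obj k) := fun k => by
    haveI := hnoeth k
    infer_instance
  haveI : QuasiCompact j := inferInstance
  haveI : QuasiSeparated j := inferInstance
  haveI : Etale (j ≫ eS.inv) := inferInstance
  haveI : QuasiCompact (j ≫ eS.inv) := inferInstance
  haveI : QuasiSeparated (j ≫ eS.inv) := inferInstance
  haveI : LocallyOfFinitePresentation (j ≫ eS.inv) := inferInstance
  obtain ⟨i₀⟩ : Nonempty Λᵒᵖ := ⟨Opposite.op (Classical.arbitrary Λ)⟩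
  obtain ⟨k, -, Uk, jk, q, hfp, hqc, hqs, het, sq⟩ :=
    Groth.Agent.Lib.LimDescFPH7.exists_descend_with
      Groth.Agent.Lib.LimDescFPH7.descendsProp_etale DS₀ cS₀ hcS₀ i₀ (j ≫ eS.inv)
      (inferInstance : Etale (j ≫ eS.inv))
  refine ⟨DS₀.obj k, Uk, hnoeth k, eS.inv ≫ cS₀.π.app k, jk, q, het, hqc, ?_⟩
  have h1 : IsPullback (𝟙 U) j (j ≫ eS.inv) eS.inv := IsPullback.of_horiz_isIso ⟨by simp⟩
  have h2 := h1.paste_horiz sq
  rwa [Category.id_comp] at h2

/-- For `j : U ⟶ X` étale with `U`, `X` quasi-compact and quasi-separated there is a finite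
stratification of `X` by constructible immersed pieces over which `j` is finite. -/
theorem main0169 {U X : Scheme.{u}} [CompactSpace U] [QuasiSeparatedSpace U]
    [CompactSpace X] [QuasiSeparatedSpace X] (j : U ⟶ X) [Etale j] :
    ∃ (n : ℕ) (T : Fin n → Scheme.{u}) (g : ∀ i, T i ⟶ X),
      (∀ i, IsImmersion (g i)) ∧ (∀ i, Topology.IsConstructible (Set.range (g i))) ∧
      Pairwise (fun i i' => Disjoint (Set.range (g i)) (Set.range (g i'))) ∧
      (⋃ i, Set.range (g i)) = Set.univ ∧ ∀ i, IsFinite (pullback.snd j (g i)) := by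
  obtain ⟨Y, U₁, hY, ξ, j₁, q, het, hqc, sq⟩ := exists_noetherian_model_etale j
  haveI := hY
  haveI := het
  haveI := hqc
  haveI : LocallyQuasiFinite j₁ := locallyQuasiFinite_of_unramified j₁
  exact (Strat.of_isPullback sq (strat_noeth j₁)).toFin

end Groth.Agent.Lib.EtStratH4
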