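import Mathlib
import Groth.Prelude.Def_EtBase
import Groth.Prelude.Def_PBC
import Groth.Agent.Lib.EtExtZ1_lead
import Groth.Agent.Lib.EtFlcPushB_helper7
import Groth.Agent.Lib.EtStrat2_helper4
import Groth.Agent.Lib.EtCons_lead

/-!
# `j_! M` is constructible for `j` étale, quasi-compact and quasi-separated (lead)

Étale specialisation of `EtExtZ1_lead`: gluing along disjoint families on the slice site, the
comparison of the categorical product in `T.Etale` with the fibre product of schemes, the splitting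
hypothesis from helper7's `SheetCover`, and the constructibility statement (helper4's
stratification `main0169`).
-/

set_option autoImplicit false
set_option linter.unusedSimpArgs false
set_option linter.unusedVariables false
set_option linter.unusedSectionVars false
set_option linter.style.longLine false
set_option linter.unnecessarySimpa false
set_option linter.style.haveILetI false
set_option maxHeartbeats 1600000
set_option backward.isDefEq.respectTransparency false
set_option backward.isDefEq.respectTransparency.types false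
set_option backward.defeqAttrib.useBackward true

open CategoryTheory CategoryTheory.Limits AlgebraicGeometry Opposite

namespace Groth.Agent.Lib.EtExtZ

open Groth.Agent.Lib.EtSchSite_helper7 Groth.Agent.Lib.EtFlcPushH7 Groth.Agent.Lib.EtLocConst
  Groth.Agent.Lib.EtPull Groth.Agent.Lib.EtCons

universe u

noncomputable section

section OverGlue

variable {T : Scheme.{u}} {W : T.Etale}

theorem sieve_mem_over {E : Over W} (R : Sieve E)
    (h : ∀ e : E.left.left, ∃ (Q : Over W) (g : Q ⟶ E), R g ∧ e ∈ Set.range g.left.left) :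
    R ∈ (T.smallEtaleTopology.over W) E := by
  rw [GrothendieckTopology.mem_over_iff]
  apply sieve_mem_of_forall_exists
  intro e
  obtain ⟨Q, g, hg, he⟩ := h e
  refine ⟨Q.left, g.left, ?_, he⟩
  rw [Sieve.overEquiv_iff]
  have h1 : (Over.homMk g.left rfl : Over.mk (g.left ≫ E.hom) ⟶ E) =
      (Over.homMk (𝟙 Q.left) (by simp [Over.w g]) : Over.mk (g.left ≫ E.hom) ⟶ Q) ≫ g := by
    ext
    simp
  rw [h1]
  exact R.downward_closed hg _

theorem subsingleton_over_of_isEmpty
    (G' : Sheaf (T.smallEtaleTopology.over W) AddCommGrpCat.{u + 1})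
    (Z : Over W) [IsEmpty Z.left.left] : Subsingleton (G'.obj.obj (op Z)) := by
  have hQ : Presieve.IsSheaf (T.smallEtaleTopology.over W)
      (G'.obj ⋙ forget AddCommGrpCat.{u + 1}) :=
    (isSheaf_iff_isSheaf_of_type _ _).1
      ((Presheaf.isSheaf_iff_isSheaf_forget _ G'.obj (forget AddCommGrpCat.{u + 1})).1 G'.2)
  have hbot : (⊥ : Sieve Z) ∈ (T.smallEtaleTopology.over W) Z :=
    sieve_mem_over ⊥ (fun w => (IsEmpty.false w).elim)
  refine ⟨fun a b => ?_⟩
  exact (hQ _ hbot).isSeparatedFor.ext (fun Y f hf => by cases hf)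

variable {ι : Type} {E : Over W} (Q : ι → Over W) (σ : ∀ k, Q k ⟶ E)
  (hcov : ∀ e : E.left.left, ∃ k, e ∈ Set.range (σ k).left.left)

include hcov in
theorem fam_sheafFor_over (G' : Sheaf (T.smallEtaleTopology.over W) AddCommGrpCat.{u + 1}) :
    Presieve.IsSheafFor (G'.obj ⋙ forget AddCommGrpCat.{u + 1}) (Presieve.ofArrows Q σ) := by
  have hF : Presieve.IsSheaf (T.smallEtaleTopology.over W)
      (G'.obj ⋙ forget AddCommGrpCat.{u + 1}) :=
    (isSheaf_iff_isSheaf_of_type _ _).1
      ((Presheaf.isSheaf_iff_isSheaf_forget _ G'.obj (forget AddCommGrpCat.{u + 1})).1 G'.2)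
  refine (Presieve.isSheafFor_iff_generate _).2 (hF _ ?_)
  apply sieve_mem_over
  intro e
  obtain ⟨k, hk⟩ := hcov e
  exact ⟨Q k, σ k, Sieve.ofArrows_mk _ _ k, hk⟩

include hcov in
theorem glue_fam_over [∀ k, Mono (σ k)]
    (hd : ∀ k l, k ≠ l → Disjoint (Set.range (σ k).left.left) (Set.range (σ l).left.left))
    (G' : Sheaf (T.smallEtaleTopology.over W) AddCommGrpCat.{u + 1})
    (s : ∀ k, G'.obj.obj (op (Q k))) :
    ∃ r : G'.obj.obj (op E), ∀ k, (G'.obj.map (σ k).op).hom r = s k := by
  have hsh := fam_sheafFor_over Q σ hcov G'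
  rw [Presieve.isSheafFor_arrows_iff] at hsh
  obtain ⟨r, hr, -⟩ := hsh s (by
    intro k l Z gi gj hij
    by_cases hkl : k = l
    · subst hkl
      have : gi = gj := (cancel_mono (σ k)).1 hij
      rw [this]
    · haveI : IsEmpty Z.left.left := by
        refine ⟨fun z => ?_⟩
        have e : gi.left.left ≫ (σ k).left.left = gj.left.left ≫ (σ l).left.left :=
          congrArg (fun φ => φ.left.left) hij
        have e2 : (σ k).left.left (gi.left.left z) = (σ l).left.left (gj.left.left z) := by
          rw [← Scheme.Hom.comp_apply, ← Scheme.Hom.comp_apply, e]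
        exact Set.disjoint_left.1 (hd k l hkl) ⟨gi.left.left z, rfl⟩ ⟨gj.left.left z, e2.symm⟩
      exact (subsingleton_over_of_isEmpty G' Z).elim _ _)
  exact ⟨r, hr⟩

include hcov in
theorem sep_fam_over (G' : Sheaf (T.smallEtaleTopology.over W) AddCommGrpCat.{u + 1})
    (r r' : G'.obj.obj (op E))
    (h : ∀ k, (G'.obj.map (σ k).op).hom r = (G'.obj.map (σ k).op).hom r') : r = r' := by
  have hsh := fam_sheafFor_over Q σ hcov G'
  refine hsh.isSeparatedFor.ext ?_
  rintro Y f ⟨k⟩
  exact h k

end OverGlue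

section Prod

variable {T : Scheme.{u}} (U' W : T.Etale)

/-- the fibre product of schemes as an object of `T.Etale`. -/
def PiObj : T.Etale :=
  haveI : Etale (pullback.fst W.hom U'.hom ≫ W.hom) := inferInstance
  Scheme.Etale.mk (pullback.fst W.hom U'.hom ≫ W.hom)

def p1 : PiObj U' W ⟶ W :=
  MorphismProperty.Over.homMk (pullback.fst W.hom U'.hom) rfl trivial

def p2 : PiObj U' W ⟶ U' :=
  MorphismProperty.Over.homMk (pullback.snd W.hom U'.hom) pullback.condition.symm trivial

/-- the comparison from the categorical product in `T.Etale` to the fibre product. -/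
def theta : (W ⨯ U') ⟶ PiObj U' W :=
  MorphismProperty.Over.homMk
    (pullback.lift (prod.fst : W ⨯ U' ⟶ W).left (prod.snd : W ⨯ U' ⟶ U').left
      (by rw [MorphismProperty.Over.w, MorphismProperty.Over.w]))
    (by
      show pullback.lift _ _ _ ≫ (pullback.fst W.hom U'.hom ≫ W.hom) = (W ⨯ U').hom
      rw [← Category.assoc, pullback.lift_fst, MorphismProperty.Over.w]) trivial

theorem theta_left_fst :
    (theta U' W).left ≫ pullback.fst W.hom U'.hom = (prod.fst : W ⨯ U' ⟶ W).left :=
  pullback.lift_fst _ _ _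

theorem theta_left_snd :
    (theta U' W).left ≫ pullback.snd W.hom U'.hom = (prod.snd : W ⨯ U' ⟶ U').left :=
  pullback.lift_snd _ _ _

theorem theta_p1 : theta U' W ≫ p1 U' W = prod.fst := by
  apply MorphismProperty.Over.Hom.ext
  exact theta_left_fst U' W

theorem theta_p2 : theta U' W ≫ p2 U' W = prod.snd := by
  apply MorphismProperty.Over.Hom.ext
  exact theta_left_snd U' W

def thetaInv : PiObj U' W ⟶ W ⨯ U' := prod.lift (p1 U' W) (p2 U' W)

theorem theta_thetaInv : theta U' W ≫ thetaInv U' W = 𝟙 _ := by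
  apply Limits.prod.hom_ext
  · rw [Category.assoc, thetaInv, prod.lift_fst, theta_p1, Category.id_comp]
  · rw [Category.assoc, thetaInv, prod.lift_snd, theta_p2, Category.id_comp]

theorem theta_injective : Function.Injective (theta U' W).left := by
  intro a b hab
  have h : (theta U' W).left ≫ (thetaInv U' W).left = 𝟙 _ :=
    congrArg (fun φ => φ.left) (theta_thetaInv U' W)
  have ha : (thetaInv U' W).left ((theta U' W).left a) = a := by
    rw [← Scheme.Hom.comp_apply, h]
    rfl
  have hb : (thetaInv U' W).left ((theta U' W).left b) = b := by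
    rw [← Scheme.Hom.comp_apply, h]
    rfl
  rw [← ha, ← hb, hab]

end Prod

section Sheets

variable {T : Scheme.{u}} (U' W : T.Etale) {n : ℕ} (C : SheetCover U'.hom W n)

/-- the sections of a sheet cover as morphisms of `T.Etale`. -/
def sMor (k : Fin n) : W ⟶ U' := MorphismProperty.Over.homMk (C.s k) (C.hs k) trivial

theorem key_sheet (k : Fin n) :
    (prod.lift (𝟙 W) (sMor U' W C k)).left ≫ (theta U' W).left =
      (sheetMap U'.hom W (C.s k) (C.hs k)).left := by
  apply pullback.hom_ext
  · rw [Category.assoc, theta_left_fst]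
    have h1 : (prod.lift (𝟙 W) (sMor U' W C k)).left ≫ (prod.fst : W ⨯ U' ⟶ W).left = 𝟙 W.left :=
      congrArg (fun φ => φ.left) (prod.lift_fst (𝟙 W) (sMor U' W C k))
    rw [h1]
    exact (pullback.lift_fst _ _ _).symm
  · rw [Category.assoc, theta_left_snd]
    have h1 : (prod.lift (𝟙 W) (sMor U' W C k)).left ≫ (prod.snd : W ⨯ U' ⟶ U').left = C.s k :=
      congrArg (fun φ => φ.left) (prod.lift_snd (𝟙 W) (sMor U' W C k))
    rw [h1]
    exact (pullback.lift_snd _ _ _).symm

theorem cov_abs (e : ((Over.star W).obj U').left.left) :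
    ∃ k, e ∈ Set.range (sheet U' W (sMor U' W C) k).left.left := by
  obtain ⟨k, z, hz⟩ := C.cov ((theta U' W).left e)
  refine ⟨k, z, ?_⟩
  apply theta_injective U' W
  have h2 : (theta U' W).left ((prod.lift (𝟙 W) (sMor U' W C k)).left z) =
      (sheetMap U'.hom W (C.s k) (C.hs k)).left z := by
    rw [← Scheme.Hom.comp_apply, key_sheet]
    rfl
  exact h2.trans hz

theorem disj_abs (k l : Fin n) (hkl : k ≠ l) :
    Disjoint (Set.range (sheet U' W (sMor U' W C) k).left.left)
      (Set.range (sheet U' W (sMor U' W C) l).left.left) := by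
  rw [Set.disjoint_left]
  rintro a ⟨z, hz⟩ ⟨z', hz'⟩
  have h2 : (sheetMap U'.hom W (C.s k) (C.hs k)).left z = (theta U' W).left a := by
    rw [← key_sheet, Scheme.Hom.comp_apply]
    exact congrArg (fun t => (theta U' W).left t) hz
  have h3 : (sheetMap U'.hom W (C.s l) (C.hs l)).left z' = (theta U' W).left a := by
    rw [← key_sheet, Scheme.Hom.comp_apply]
    exact congrArg (fun t => (theta U' W).left t) hz'
  exact Set.disjoint_left.1 (C.disj k l hkl) ⟨z, h2⟩ ⟨z', h3⟩

instance mono_sheet (k : Fin n) : Mono (sheet U' W (sMor U' W C) k) := by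
  haveI : IsSplitMono (prod.lift (𝟙 W) (sMor U' W C k)) :=
    IsSplitMono.mk' { retraction := prod.fst, id := prod.lift_fst _ _ }
  haveI : Mono ((Over.forget W).map (sheet U' W (sMor U' W C) k)) := by
    show Mono (prod.lift (𝟙 W) (sMor U' W C k))
    infer_instance
  exact (Over.forget W).mono_of_mono_map inferInstance

theorem isIso_lift (G' : Sheaf (T.smallEtaleTopology.over W) AddCommGrpCat.{u + 1}) :
    IsIso (limit.lift _ (coneSheets U' W (sMor U' W C) G')) := by
  rw [ConcreteCategory.isIso_iff_bijective]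
  let F : Discrete (Fin n) ⥤ AddCommGrpCat.{u + 1} :=
    (Functor.const (Discrete (Fin n))).obj (G'.obj.obj (op (Over.mk (𝟙 W))))
  constructor
  · intro x y hxy
    apply sep_fam_over (fun _ : Fin n => Over.mk (𝟙 W)) (fun k => sheet U' W (sMor U' W C) k)
      (cov_abs U' W C) G'
    intro k
    have h1 := congrArg (fun z => (limit.π F (Discrete.mk k)) z) hxy
    exact ((limit.lift_π_apply (coneSheets U' W (sMor U' W C) G') (Discrete.mk k) x).symm.trans
      h1).trans (limit.lift_π_apply (coneSheets U' W (sMor U' W C) G') (Discrete.mk k) y)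
  · intro z
    obtain ⟨r, hr⟩ := glue_fam_over (fun _ : Fin n => Over.mk (𝟙 W))
      (fun k => sheet U' W (sMor U' W C) k) (cov_abs U' W C) (disj_abs U' W C) G'
      (fun k => (limit.π F (Discrete.mk k)) z)
    refine ⟨r, ?_⟩
    apply Concrete.limit_ext
    rintro ⟨k⟩
    rw [limit.lift_π_apply]
    exact hr k

include C in
/-- On a sheet cover the restriction of `j_! N` is constant. -/
theorem restr_LU_iso (N : AddCommGrpCat.{u + 1}) :
    Nonempty (EtCoh.restr ((LU T.smallEtaleTopology AddCommGrpCat.{u + 1} U').obj N) W ≅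
      (constantSheaf (T.smallEtaleTopology.over W) AddCommGrpCat.{u + 1}).obj
        (colimit ((Functor.const (Discrete (Fin n))).obj N))) :=
  ⟨(LUrestrIso T.smallEtaleTopology AddCommGrpCat.{u + 1} U' W (sMor U' W C)
    (isIso_lift U' W C)).app N⟩

end Sheets

section Finite

theorem finite_colimit_const (n : ℕ) (N : AddCommGrpCat.{u + 1}) [Finite N] :
    Finite (colimit ((Functor.const (Discrete (Fin n))).obj N) : AddCommGrpCat.{u + 1}) := by
  let f : Fin n → AddCommGrpCat.{u + 1} := fun _ => N
  let i1 : colimit ((Functor.const (Discrete (Fin n))).obj N) ≅ ∐ f :=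
    HasColimit.isoOfNatIso (Discrete.natIso (fun _ => Iso.refl _))
  let i2 : ∐ f ≅ ⨁ f := (biproduct.isoCoproduct f).symm
  let i3 : ⨁ f ≅ AddCommGrpCat.of (∀ j, f j) := AddCommGrpCat.biproductIsoPi f
  let e : (colimit ((Functor.const (Discrete (Fin n))).obj N) : AddCommGrpCat.{u + 1}) ≃
      (∀ j, f j) := ((forget AddCommGrpCat.{u + 1}).mapIso (i1 ≪≫ i2 ≪≫ i3)).toEquiv
  haveI : Finite (∀ j, f j) := Pi.finite
  exact Finite.of_equiv _ e.symm

theorem flc_extZeroConst_of_finite {T : Scheme.{u}} (U' : T.Etale) [IsFinite U'.hom]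
    (M : Type) [AddCommGroup M] [Finite M] :
    EtCoh.IsFiniteLocallyConstant (EtPBC.extZeroConst U' M) := by
  classical
  choose P z n hz hC using fun t : T => exists_sheetCover U'.hom t
  refine ⟨T, P, fun t => ⟨t, z t, hz t⟩, fun t => ?_⟩
  obtain ⟨C⟩ := hC t
  obtain ⟨α⟩ := restr_LU_iso U' (P t) C (AddCommGrpCat.of (ULift.{u + 1} M))
  haveI : Finite (AddCommGrpCat.of (ULift.{u + 1} M)) :=
    Finite.of_equiv M Equiv.ulift.symm
  haveI := finite_colimit_const (n t) (AddCommGrpCat.of (ULift.{u + 1} M))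
  obtain ⟨M', iM', fM', ⟨e⟩⟩ := exists_small_model
    (colimit ((Functor.const (Discrete (Fin (n t)))).obj (AddCommGrpCat.of (ULift.{u + 1} M))) :
      AddCommGrpCat.{u + 1})
  exact ⟨M', iM', fM', ⟨α ≪≫ (constantSheaf (T.smallEtaleTopology.over (P t))
    AddCommGrpCat.{u + 1}).mapIso e.symm.toAddCommGrpIso⟩⟩

end Finite

section Main

theorem pull_extZeroConst {X T : Scheme.{u}} (g : T ⟶ X) (U : X.Etale)
    (M : Type) [AddCommGroup M] :
    Nonempty ((EtCoh.pull g).obj (EtPBC.extZeroConst U M) ≅
      EtPBC.extZeroConst ((EtCoh.bc g).obj U) M) :=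
  ⟨(LUpullIso X.smallEtaleTopology T.smallEtaleTopology AddCommGrpCat.{u + 1} (EtCoh.bc g) U).app
    (AddCommGrpCat.of (ULift.{u + 1} M))⟩

theorem main133 (X : Scheme.{u}) [CompactSpace X] [QuasiSeparatedSpace X]
    (U : X.Etale) [CompactSpace U.left] [QuasiSeparatedSpace U.left]
    (M : Type) [AddCommGroup M] [Finite M] :
    EtPBC.IsConstructible (EtPBC.extZeroConst U M) := by
  rw [main28, adapted_iff]
  obtain ⟨n, T, g, h1, h2, h3, h4, h5⟩ := Groth.Agent.Lib.EtStratH4.main0169 (U := U.left) (X := X) U.hom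
  refine ⟨Fin n, inferInstance, T, g, h1, fun i => cin_univ_iff.2 (h2 i), h3, h4, fun i => ?_⟩
  show EtCoh.IsFiniteLocallyConstant ((EtCoh.pull (g i)).obj (EtPBC.extZeroConst U M))
  obtain ⟨e⟩ := pull_extZeroConst (g i) U M
  haveI : IsFinite ((EtCoh.bc (g i)).obj U).hom := h5 i
  exact flc_of_iso e.symm (flc_extZeroConst_of_finite _ M)

end Main

end

end Groth.Agent.Lib.EtExtZ
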