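import Mathlib
import Groth.Agent.Lib.EtSubB_lead
import Groth.Agent.Lib.EtCons2_lead
import Groth.Agent.Lib.EtCons3_lead

/-!
# Support of a constructible abelian étale sheaf (lead)
-/

set_option autoImplicit false
set_option linter.unusedSimpArgs false
set_option linter.unusedVariables false
set_option linter.unusedSectionVars false
set_option linter.style.longLine false
set_option linter.unnecessarySimpa false
set_option maxHeartbeats 1600000
set_option backward.isDefEq.respectTransparency false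
set_option backward.isDefEq.respectTransparency.types false
set_option backward.defeqAttrib.useBackward true

open CategoryTheory CategoryTheory.Limits AlgebraicGeometry Opposite Topology TopologicalSpace

namespace Groth.Agent.Lib.EtSupp

open Groth.Agent.Lib.EtPull Groth.Agent.Lib.EtCons Groth.Agent.Lib.EtLocConst
  Groth.Agent.Lib.EtSchSite_helper7 Groth.Agent.Lib.EtSchExact_helper7 Groth.Agent.Lib.EtSub

universe u

section Points

theorem range_geom {X : Scheme.{u}} {Ω : Type u} [Field Ω] (ξ : Spec (CommRingCat.of Ω) ⟶ X) :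
    Set.range ξ = {ξ.base (default : ↥(Spec (CommRingCat.of Ω)))} := by
  ext y
  constructor
  · rintro ⟨a, rfl⟩
    rw [Subsingleton.elim a default]
    exact Set.mem_singleton _
  · intro hy
    rw [Set.mem_singleton_iff] at hy
    exact ⟨default, hy.symm⟩

theorem base_default_of_range {X : Scheme.{u}} {Ω : Type u} [Field Ω]
    (ξ : Spec (CommRingCat.of Ω) ⟶ X) {x : X} (h : Set.range ξ = {x}) :
    ξ.base (default : ↥(Spec (CommRingCat.of Ω))) = x := by
  have h1 : ξ.base (default : ↥(Spec (CommRingCat.of Ω))) ∈ Set.range ξ := ⟨default, rfl⟩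
  rw [h] at h1
  exact Set.mem_singleton_iff.mp h1

theorem exists_geometric_point (T : Scheme.{u}) (t : T) :
    ∃ (Ω : Type u) (_ : Field Ω) (_ : IsSepClosed Ω) (ζ : Spec (CommRingCat.of Ω) ⟶ T),
      Set.range ζ = {t} := by
  refine ⟨SeparableClosure (T.residueField t), inferInstance, inferInstance,
    Spec.map (CommRingCat.ofHom (algebraMap (T.residueField t)
      (SeparableClosure (T.residueField t)))) ≫ T.fromSpecResidueField t, ?_⟩
  rw [range_geom]
  congr 1
  exact Scheme.fromSpecResidueField_apply t _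

theorem supp_pull_immersion {T X : Scheme.{u}} (g : T ⟶ X) [IsImmersion g] (F : EtCoh.Ab X) :
    EtPBC.supp ((EtCoh.pull g).obj F) = g.base ⁻¹' EtPBC.supp F := by
  ext t
  constructor
  · rintro ⟨Ω, iF, iS, ζ, hζ, hnz⟩
    refine ⟨Ω, iF, iS, ζ ≫ g, ?_, ?_⟩
    · rw [range_comp_eq, hζ, Set.image_singleton]
    · intro hz
      exact hnz (IsZero.of_iso hz ((EtStalkPull.stalkPullIso g ζ).app F))
  · rintro ⟨Ω, iF, iS, ξ, hξ, hnz⟩
    have hd := base_default_of_range ξ hξ
    obtain ⟨ζ, rfl⟩ := exists_lift_immersion g ξ (by rw [hd]; exact ⟨t, rfl⟩)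
    refine ⟨Ω, iF, iS, ζ, ?_, ?_⟩
    · rw [range_geom]
      congr 1
      apply g.isEmbedding.injective
      exact hd
    · intro hz
      exact hnz (IsZero.of_iso hz ((EtStalkPull.stalkPullIso g ζ).app F).symm)

end Points

section Flc

variable {T : Scheme.{u}} {K : EtCoh.Ab T}

theorem isZero_stalk_of_subsingleton (D : Triv K) [Subsingleton D.N]
    {Ω : Type u} [Field Ω] [IsSepClosed Ω] (ζ : Spec (CommRingCat.of Ω) ⟶ T) (pt : D.U.left)
    (hpt : D.U.hom.base pt = ζ.base (default : ↥(Spec (CommRingCat.of Ω)))) :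
    IsZero ((EtCoh.stalk ζ).obj K) := by
  have key : ∀ t : ToType ((Scheme.pointSmallEtale ζ).presheafFiber.obj K.obj), t = 0 := by
    intro t
    obtain ⟨V, x, s, rfl⟩ := (Scheme.pointSmallEtale ζ).toPresheafFiber_jointly_surjective t
    have hxζ : x.left ≫ V.hom = ζ := Over.w x
    have hy : V.hom.base (x.left.base (default : ↥(Spec (CommRingCat.of Ω)))) =
        ζ.base (default : ↥(Spec (CommRingCat.of Ω))) :=
      congrArg (fun (m : Spec (CommRingCat.of Ω) ⟶ T) =>
        m.base (default : ↥(Spec (CommRingCat.of Ω)))) hxζ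
    let Tm : T.Etale := Scheme.Etale.mk (𝟙 T)
    let f₁ : V ⟶ Tm := MorphismProperty.Over.homMk V.hom (Category.comp_id _) trivial
    let f₂ : D.U ⟶ Tm := MorphismProperty.Over.homMk D.U.hom (Category.comp_id _) trivial
    obtain ⟨W, a, b, w, -, ha, hb⟩ := exists_prod f₁ f₂
      (x.left.base (default : ↥(Spec (CommRingCat.of Ω)))) pt (hy.trans hpt.symm)
    obtain ⟨Z, k, n, ⟨z', hz'⟩, hn⟩ := D.exists_local b ((K.obj.map a.op).hom s) w
    have hn0 : (K.obj.map (k ≫ a).op).hom s = 0 := by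
      rw [map_comp_hom, ← hn, Subsingleton.elim n 0, map_zero]
    have hza : (k ≫ a).left.base z' = x.left.base (default : ↥(Spec (CommRingCat.of Ω))) := by
      show a.left.base (k.left.base z') = _
      rw [hz', ha]
    obtain ⟨l, hl₁, hl₂⟩ :=
      Scheme.exists_fac_of_etale_of_isSepClosed (k ≫ a).left x.left z' hza
    have hw : l ≫ Z.hom = ζ := by
      rw [← MorphismProperty.Over.w (k ≫ a), ← Category.assoc, hl₁, hxζ]
    let x' : (Scheme.pointSmallEtale ζ).fiber.obj Z := Over.homMk l hw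
    have hx' : (Scheme.pointSmallEtale ζ).fiber.map (k ≫ a) x' = x := by
      apply Over.OverMorphism.ext
      exact hl₁
    have e1 : (Scheme.pointSmallEtale ζ).toPresheafFiber Z x' K.obj (K.obj.map (k ≫ a).op s) =
        (Scheme.pointSmallEtale ζ).toPresheafFiber V
          ((Scheme.pointSmallEtale ζ).fiber.map (k ≫ a) x') K.obj s :=
      (Scheme.pointSmallEtale ζ).toPresheafFiber_w_apply (k ≫ a) x' K.obj s
    rw [hx'] at e1
    rw [← e1]
    have e2 : K.obj.map (k ≫ a).op s = 0 := hn0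
    rw [e2, map_zero]
  haveI : Subsingleton ((EtCoh.stalk ζ).obj K) :=
    ⟨fun a b => (key a).trans (key b).symm⟩
  exact AddCommGrpCat.isZero_of_subsingleton _

theorem not_isZero_stalk_of_nontrivial (D : Triv K) [Nontrivial D.N]
    {Ω : Type u} [Field Ω] [IsSepClosed Ω] (ζ : Spec (CommRingCat.of Ω) ⟶ T) (pt : D.U.left)
    (hpt : D.U.hom.base pt = ζ.base (default : ↥(Spec (CommRingCat.of Ω)))) :
    ¬ IsZero ((EtCoh.stalk ζ).obj K) := by
  intro hz
  obtain ⟨n, hn⟩ := exists_ne (0 : D.N)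
  obtain ⟨l, hl₁, hl₂⟩ := Scheme.exists_fac_of_etale_of_isSepClosed D.U.hom ζ pt hpt
  let x : (Scheme.pointSmallEtale ζ).fiber.obj D.U := Over.homMk l hl₁
  haveI : Subsingleton ((EtCoh.stalk ζ).obj K) := AddCommGrpCat.subsingleton_of_isZero hz
  have h0 : (Scheme.pointSmallEtale ζ).toPresheafFiber D.U x K.obj (D.θ (𝟙 D.U) n) =
      (Scheme.pointSmallEtale ζ).toPresheafFiber D.U x K.obj 0 :=
    Subsingleton.elim (α := ((EtCoh.stalk ζ).obj K : Type _)) _ _
  rw [(Scheme.pointSmallEtale ζ).toPresheafFiber_eq_iff'] at h0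
  obtain ⟨Y, f, y, hy, hfy⟩ := h0
  have h1 : D.θ (f ≫ 𝟙 D.U) n = 0 :=
    (D.θ_res (𝟙 D.U) f n).symm.trans (hfy.trans (map_zero (K.obj.map f.op).hom))
  exact hn (D.θ_injective (f ≫ 𝟙 D.U) (y.left.base (default : ↥(Spec (CommRingCat.of Ω))))
    (h1.trans (map_zero (D.θ (f ≫ 𝟙 D.U))).symm))

theorem isClopen_supp_of_flc (K : EtCoh.Ab T) (hK : EtCoh.IsFiniteLocallyConstant K) :
    IsClopen (EtPBC.supp K) := by
  classical
  obtain ⟨κ, U, hcov, hM⟩ := hK
  choose M iM fM hα using hM
  letI : ∀ i, AddCommGroup (M i) := iM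
  let D : ∀ i, Triv K := fun i => ⟨U i, AddCommGrpCat.of (ULift.{u + 1} (M i)), (hα i).some⟩
  let I₁ : Set κ := {i | Nontrivial (D i).N}
  have key : ∀ (i : κ) (pt : (U i).left), ((U i).hom.base pt ∈ EtPBC.supp K ↔ i ∈ I₁) := by
    intro i pt
    constructor
    · rintro ⟨Ω, iF, iS, ζ, hζ, hnz⟩
      by_contra hi
      haveI : Subsingleton (D i).N := not_nontrivial_iff_subsingleton.mp hi
      exact hnz (isZero_stalk_of_subsingleton (D i) ζ pt (base_default_of_range ζ hζ).symm)
    · intro hi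
      haveI : Nontrivial (D i).N := hi
      obtain ⟨Ω, iF, iS, ζ, hζ⟩ := exists_geometric_point T ((U i).hom.base pt)
      exact ⟨Ω, iF, iS, ζ, hζ,
        not_isZero_stalk_of_nontrivial (D i) ζ pt (base_default_of_range ζ hζ).symm⟩
  have h1 : EtPBC.supp K = WW U I₁ := by
    ext t
    rw [mem_WW]
    constructor
    · intro ht
      obtain ⟨i, pt, hpt⟩ := hcov t
      exact ⟨i, (key i pt).mp (by rw [hpt]; exact ht), pt, hpt⟩
    · rintro ⟨i, hi, pt, hpt⟩
      rw [← hpt]
      exact (key i pt).mpr hi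
  have h2 : (EtPBC.supp K)ᶜ = WW U I₁ᶜ := by
    ext t
    rw [Set.mem_compl_iff, mem_WW]
    constructor
    · intro ht
      obtain ⟨i, pt, hpt⟩ := hcov t
      exact ⟨i, fun hi => ht (by rw [← hpt]; exact (key i pt).mpr hi), pt, hpt⟩
    · rintro ⟨i, hi, pt, hpt⟩ ht
      exact hi ((key i pt).mp (by rw [hpt]; exact ht))
  exact ⟨by rw [← isOpen_compl_iff, h2]; exact isOpen_WW U _, by rw [h1]; exact isOpen_WW U _⟩

end Flc

section Mains

theorem isConstructible_supp {X : Scheme.{u}} [CompactSpace X] [QuasiSeparatedSpace X]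
    (F : EtCoh.Ab X) (hF : EtPBC.IsConstructible F) :
    Topology.IsConstructible (EtPBC.supp F) := by
  obtain ⟨ι, hι, T, g, hgi, hgc, hgd, hgu, hgP⟩ := (adapted_iff _ _).mp ((main28 X F).mp hF)
  haveI := hι
  haveI : ∀ i, IsImmersion (g i) := hgi
  have h1 : EtPBC.supp F = ⋃ i, (g i).base '' EtPBC.supp ((EtCoh.pull (g i)).obj F) := by
    ext x
    simp only [Set.mem_iUnion, Set.mem_image]
    constructor
    · intro hx
      have hx' : x ∈ ⋃ i, Set.range (g i) := by
        rw [hgu]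
        trivial
      obtain ⟨i, t, rfl⟩ := Set.mem_iUnion.mp hx'
      exact ⟨i, t, by rw [supp_pull_immersion]; exact hx, rfl⟩
    · rintro ⟨i, t, ht, rfl⟩
      rw [supp_pull_immersion] at ht
      exact ht
  rw [h1]
  refine Topology.IsConstructible.iUnion (fun i => ?_)
  apply isConstructible_image_of_immersion (g i) (cin_univ_iff.mp (hgc i))
  have hcl := isClopen_supp_of_flc _ (hgP i)
  have hretro : IsRetrocompact (EtPBC.supp ((EtCoh.pull (g i)).obj F)) :=
    fun U hUc hUo => hUc.inter_left hcl.isClosed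
  exact hretro.isConstructible hcl.isOpen

theorem main8526 {X : Scheme.{u}} (F : EtCoh.Ab X) (hF : EtPBC.IsConstructible F) :
    Topology.IsLocallyConstructible (EtPBC.supp F) := by
  intro x
  obtain ⟨U, hU, hxU⟩ : ∃ U : X.Opens, IsAffineOpen U ∧ x ∈ U := by
    obtain ⟨_, ⟨U, hU, rfl⟩, hxU, -⟩ := X.isBasis_affineOpens.exists_subset_of_mem_open
      (Set.mem_univ x) isOpen_univ
    exact ⟨U, hU, hxU⟩
  refine ⟨(U : Set X), U.isOpen.mem_nhds hxU, U.isOpen, ?_⟩
  haveI : IsAffine U.toScheme := hU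
  have h1 := isConstructible_supp ((EtCoh.pull U.ι).obj F) (main27 U.ι F hF)
  rw [supp_pull_immersion] at h1
  exact h1

theorem surj_locus_eq {X : Scheme.{u}} {F G : EtCoh.Ab X} (φ : F ⟶ G) :
    {x : X | ∀ (Ω : Type u) [Field Ω] [IsSepClosed Ω] (ξ : Spec (CommRingCat.of Ω) ⟶ X),
      Set.range ξ = {x} → Function.Surjective ((EtCoh.stalk ξ).map φ)} =
      (EtPBC.supp (cokernel φ))ᶜ := by
  ext x
  simp only [Set.mem_setOf_eq, Set.mem_compl_iff]
  constructor
  · rintro h ⟨Ω, iF, iS, ξ, hξ, hnz⟩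
    apply hnz
    have hs := h Ω ξ hξ
    haveI : Epi ((EtCoh.stalk ξ).map φ) := (AddCommGrpCat.epi_iff_surjective _).2 hs
    exact IsZero.of_iso (isZero_cokernel_of_epi ((EtCoh.stalk ξ).map φ))
      (PreservesCokernel.iso (EtCoh.stalk ξ) φ)
  · intro h Ω _ _ ξ hξ
    have hz : IsZero ((EtCoh.stalk ξ).obj (cokernel φ)) := by
      by_contra hnz
      exact h ⟨Ω, inferInstance, inferInstance, ξ, hξ, hnz⟩
    have hz' : IsZero (cokernel ((EtCoh.stalk ξ).map φ)) :=
      IsZero.of_iso hz (PreservesCokernel.iso (EtCoh.stalk ξ) φ).symm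
    haveI : Epi ((EtCoh.stalk ξ).map φ) := Preadditive.epi_of_isZero_cokernel _ hz'
    exact (AddCommGrpCat.epi_iff_surjective _).1 inferInstance

theorem main182 (X : Scheme.{u}) [CompactSpace X] [QuasiSeparatedSpace X]
    {F G : EtCoh.Ab X} (φ : F ⟶ G) (hF : EtPBC.IsConstructible F)
    (hG : EtPBC.IsConstructible G) :
    Topology.IsConstructible {x : X | ∀ (Ω : Type u) [Field Ω] [IsSepClosed Ω]
      (ξ : Spec (CommRingCat.of Ω) ⟶ X), Set.range ξ = {x} →
        Function.Surjective ((EtCoh.stalk ξ).map φ)} := by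
  rw [surj_locus_eq]
  exact (isConstructible_supp _ (main31 φ hF hG).2).compl

end Mains

end Groth.Agent.Lib.EtSupp
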